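import Cfsg.Statements.S0002

set_option autoImplicit false
open Pointwise
open Cfsg

namespace Cfsg.Agent.S0002

open MulOpposite MulAction in
/-- A complement of an abelian normal subgroup of coprime order and index is a point stabilizer
for the action on `QuotientDiff`. -/
theorem complement_eq_stabilizer {G : Type*} [Group G] [Finite G] (A : Subgroup G) [A.Normal]
    [IsMulCommutative A] (hA : (Nat.card A).Coprime A.index)
    (H : Subgroup G) (hH : Subgroup.IsComplement' A H) :
    ∃ α : A.QuotientDiff, H = MulAction.stabilizer G α := by
  let T : A.LeftTransversal := ⟨(H : Set G), hH.symm⟩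
  let α : A.QuotientDiff := Quotient.mk'' T
  refine ⟨α, ?_⟩
  have hle : H ≤ MulAction.stabilizer G α := by
    intro h hh
    rw [MulAction.mem_stabilizer_iff]
    have : (op h⁻¹ • T : A.LeftTransversal) = T := by
      apply Subtype.ext
      change (op h⁻¹ • (H : Set G)) = (H : Set G)
      ext x
      rw [Set.mem_smul_set_iff_inv_smul_mem]
      simp only [MulOpposite.smul_eq_mul_unop, MulOpposite.unop_inv, MulOpposite.unop_op, inv_inv,
        SetLike.mem_coe]
      constructor
      · intro hx
        have := H.mul_mem hx (H.inv_mem hh)
        simpa using this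
      · intro hx
        exact H.mul_mem hx hh
    change (Quotient.mk'' (op h⁻¹ • T) : A.QuotientDiff) = Quotient.mk'' T
    rw [this]
  have hS := Subgroup.isComplement'_stabilizer_of_coprime (α := α) hA
  have h1 := hH.card_mul_card
  have h2 := hS.card_mul_card
  have hApos : 0 < Nat.card A := Nat.card_pos
  have hcard : Nat.card H = Nat.card (MulAction.stabilizer G α) := by
    have : Nat.card A * Nat.card H = Nat.card A * Nat.card (MulAction.stabilizer G α) := by
      rw [h1, h2]
    exact Nat.eq_of_mul_eq_mul_left hApos this
  exact Subgroup.eq_of_le_of_card_ge hle hcard.ge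

/-- Schur's Theorem, conjugacy part, for an abelian normal subgroup of coprime order and index: any two complements are conjugate by an element of the normal subgroup. -/
theorem result {G : Type*} [Group G] [Finite G] (A : Subgroup G) [A.Normal] [IsMulCommutative A]
    (hA : (Nat.card A).Coprime A.index)
    (H K : Subgroup G) (hH : Subgroup.IsComplement' A H) (hK : Subgroup.IsComplement' A K) :
    ∃ a ∈ A, MulAut.conj a • H = K := by
  obtain ⟨α, hα⟩ := complement_eq_stabilizer A hA H hH
  obtain ⟨β, hβ⟩ := complement_eq_stabilizer A hA K hK
  obtain ⟨a, ha⟩ := Subgroup.exists_smul_eq hA α β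
  refine ⟨a, a.2, ?_⟩
  rw [hα, hβ, ← ha]
  have : (a • α) = ((a : G) • α) := rfl
  rw [this, MulAction.stabilizer_smul_eq_stabilizer_map_conj]
  rfl

end Cfsg.Agent.S0002
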