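import Cfsg.Statements.S1477
import Cfsg.Agent.Lib.Helper33.CNGroup
-- import your own Cfsg.Agent.* helpers here

set_option autoImplicit false
open Cfsg

namespace Cfsg.Agent.S1477

open Cfsg.Agent.Lib.Helper33

/-- A nontrivial element central in a maximal nilpotent subgroup `H` of a CN-group has centralizer `H`. -/
theorem centralizer_eq {G : Type*} [Group G] (hCN : Cfsg.IsCNGroup G) (H : Subgroup G)
    (hmax : ∀ L : Subgroup G, Group.IsNilpotent L → H ≤ L → L = H)
    (z : G) (hz1 : z ≠ 1) (hzc : ∀ h ∈ H, h * z = z * h) :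
    Subgroup.centralizer ({z} : Set G) = H := by
  apply hmax _ (hCN z hz1)
  intro h hh
  rw [Subgroup.mem_centralizer_iff]
  intro w hw
  rw [Set.mem_singleton_iff] at hw
  subst hw
  exact (hzc h hh).symm

/-- The normal Sylow subgroup of a nilpotent group contains every `p`-subgroup. -/
theorem le_sylow_of_nilpotent {H : Type*} [Group H] [Finite H] [Group.IsNilpotent H]
    {p : ℕ} [Fact p.Prime] (P : Sylow p H) (R : Subgroup H) (hR : IsPGroup p R) :
    R ≤ (P : Subgroup H) := by
  obtain ⟨Q, hQ⟩ := hR.exists_le_sylow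
  obtain ⟨h, hh⟩ := MulAction.exists_smul_eq H P Q
  rw [Sylow.smul_eq_of_normal] at hh
  rw [hh]; exact hQ

/-- Hall property: for each prime `p` dividing `|H|`, a Sylow `p`-subgroup of `G` lies in `H`. -/
theorem exists_sylow_le {G : Type*} [Group G] [Finite G] (hCN : Cfsg.IsCNGroup G) (H : Subgroup G)
    (hH : Group.IsNilpotent H)
    (hmax : ∀ L : Subgroup G, Group.IsNilpotent L → H ≤ L → L = H)
    (p : ℕ) [Fact p.Prime] (hp : p ∣ Nat.card H) :
    ∃ S : Sylow p G, (S : Subgroup G) ≤ H := by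
  haveI := hH
  let P : Sylow p H := default
  have hPne : (P : Subgroup H) ≠ ⊥ := P.ne_bot_of_dvd_card hp
  obtain ⟨z, hzP, hz1, hzc⟩ := exists_central_of_pgroup (P : Subgroup H) P.isPGroup' hPne
  have hzcen : z ∈ Subgroup.center H := mem_center_of_sylow_central P z hzP hzc
  have hzG1 : (z : G) ≠ 1 := by
    intro h; apply hz1; exact Subtype.ext h
  have hC : Subgroup.centralizer ({(z : G)} : Set G) = H :=
    centralizer_eq hCN H hmax z hzG1 (by
      intro h hh
      have := Subgroup.mem_center_iff.mp hzcen ⟨h, hh⟩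
      exact congrArg Subtype.val this)
  obtain ⟨S, hS⟩ := (P.isPGroup'.map H.subtype).exists_le_sylow
  have hzS : (z : G) ∈ (S : Subgroup G) := hS ⟨z, hzP, rfl⟩
  have hSne : (S : Subgroup G) ≠ ⊥ := by
    intro h; rw [h] at hzS; exact hzG1 (Subgroup.mem_bot.mp hzS)
  obtain ⟨w, hwS, hw1, hwc⟩ := exists_central_of_pgroup (S : Subgroup G) S.isPGroup' hSne
  have hwH : w ∈ H := by
    rw [← hC, Subgroup.mem_centralizer_iff]
    intro y hy; rw [Set.mem_singleton_iff] at hy; subst hy
    exact hwc _ hzS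
  have hK : IsPGroup p ((S : Subgroup G).subgroupOf H) := S.isPGroup'.comap_subtype
  have hw'P : (⟨w, hwH⟩ : H) ∈ (P : Subgroup H) :=
    le_sylow_of_nilpotent P _ hK (by rw [Subgroup.mem_subgroupOf]; exact hwS)
  have hw'cen : (⟨w, hwH⟩ : H) ∈ Subgroup.center H := by
    apply mem_center_of_sylow_central P _ hw'P
    intro y hy
    apply Subtype.ext
    exact hwc (y : G) (hS ⟨y, hy, rfl⟩)
  have hC' : Subgroup.centralizer ({w} : Set G) = H :=
    centralizer_eq hCN H hmax w hw1 (by
      intro h hh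
      have := Subgroup.mem_center_iff.mp hw'cen ⟨h, hh⟩
      exact congrArg Subtype.val this)
  refine ⟨S, ?_⟩
  intro s hs
  rw [← hC', Subgroup.mem_centralizer_iff]
  intro y hy; rw [Set.mem_singleton_iff] at hy; subst hy
  exact (hwc s hs).symm

theorem mem_smul_sylow_iff {G : Type*} [Group G] {p : ℕ} [Fact p.Prime] (S : Sylow p G) (g y : G) :
    y ∈ ((g • S : Sylow p G) : Subgroup G) ↔ g⁻¹ * y * g ∈ (S : Subgroup G) := by
  rw [Sylow.coe_subgroup_smul, Subgroup.mem_pointwise_smul_iff_inv_smul_mem, MulAut.smul_def,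
    MulAut.conj_inv_apply]

/-- In a nilpotent subgroup `C`, a Sylow subgroup of `G` inside `C` contains all `q`-subgroups of `C`. -/
theorem le_of_sylow_le_nilpotent {G : Type*} [Group G] [Finite G] {q : ℕ} [Fact q.Prime]
    (C : Subgroup G) (hC : Group.IsNilpotent C) (S : Sylow q G) (hS : (S : Subgroup G) ≤ C)
    (R : Subgroup G) (hR : IsPGroup q R) (hRC : R ≤ C) : R ≤ (S : Subgroup G) := by
  haveI := hC
  let T : Sylow q C := default
  have h1 : (S : Subgroup G).subgroupOf C ≤ (T : Subgroup C) :=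
    le_sylow_of_nilpotent T _ S.isPGroup'.comap_subtype
  have h2 : R.subgroupOf C ≤ (T : Subgroup C) :=
    le_sylow_of_nilpotent T _ hR.comap_subtype
  have hTS : (T : Subgroup C).map C.subtype = (S : Subgroup G) := by
    apply S.is_maximal' (T.isPGroup'.map _)
    intro s hs
    exact ⟨⟨s, hS hs⟩, h1 (by rw [Subgroup.mem_subgroupOf]; exact hs), rfl⟩
  intro r hr
  rw [← hTS]
  exact ⟨⟨r, hRC hr⟩, h2 (by rw [Subgroup.mem_subgroupOf]; exact hr), rfl⟩

/-- Let G be a finite group in which every non-identity element has nilpotent centralizer, and H a nilpotent subgroup not properly contained in any nilpotent subgroup. Then the order of H is coprime to its index; if the order of H is not a prime power then H ∩ gHg⁻¹ = 1 whenever gHg⁻¹ ≠ H; and if H ∩ gHg⁻¹ = 1 whenever gHg⁻¹ ≠ H, then C_G(x) ≤ H for every non-identity x ∈ H. -/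
theorem result {G : Type*} [Group G] [Finite G] (hCN : Cfsg.IsCNGroup G) (H : Subgroup G) (hH : Group.IsNilpotent H)
    (hmax : ∀ L : Subgroup G, Group.IsNilpotent L → H ≤ L → L = H) :
    (Nat.card H).Coprime H.index ∧
      (¬ IsPrimePow (Nat.card H) → Nat.card H ≠ 1 → ∀ g : G, H.map (MulAut.conj g).toMonoidHom ≠ H → H ⊓ H.map (MulAut.conj g).toMonoidHom = ⊥) ∧
      ((∀ g : G, H.map (MulAut.conj g).toMonoidHom ≠ H → H ⊓ H.map (MulAut.conj g).toMonoidHom = ⊥) → ∀ x ∈ H, x ≠ 1 → Subgroup.centralizer ({x} : Set G) ≤ H) := by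
  refine ⟨?_, ?_, ?_⟩
  · -- Hall
    show Nat.gcd (Nat.card H) H.index = 1
    rw [Nat.eq_one_iff_not_exists_prime_dvd]
    intro p hp hdvd
    haveI : Fact p.Prime := ⟨hp⟩
    obtain ⟨S, hS⟩ := exists_sylow_le hCN H hH hmax p (hdvd.trans (Nat.gcd_dvd_left _ _))
    exact S.not_dvd_index ((hdvd.trans (Nat.gcd_dvd_right _ _)).trans (Subgroup.index_dvd_of_le hS))
  · -- TI when not a prime power
    intro hnpp hne1 g hg
    by_contra hne
    obtain ⟨x, hx, hx1⟩ := (Subgroup.bot_or_exists_ne_one _).resolve_left hne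
    have hord : orderOf x ≠ 1 := by rwa [Ne, orderOf_eq_one_iff]
    obtain ⟨r, hr, hrd⟩ := Nat.exists_prime_and_dvd hord
    haveI : Fact r.Prime := ⟨hr⟩
    set x' := x ^ (orderOf x / r) with hx'def
    have hox' : orderOf x' = r := orderOf_pow_orderOf_div (orderOf_pos x).ne' hrd
    have hx'mem : x' ∈ H ⊓ H.map (MulAut.conj g).toMonoidHom := Subgroup.pow_mem _ hx _
    have hx'1 : x' ≠ 1 := by
      intro h
      rw [h, orderOf_one] at hox'
      exact hr.one_lt.ne hox'
    have hq : ∃ q, q.Prime ∧ q ≠ r ∧ q ∣ Nat.card H := by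
      by_contra hcon
      push_neg at hcon
      have hpow := Nat.eq_prime_pow_of_unique_prime_dvd (n := Nat.card H) (p := r) Nat.card_pos.ne'
        (fun {d} hd hdd => by
          by_contra hdr
          exact hcon d hd hdr hdd)
      apply hnpp
      rw [hpow]
      apply hr.isPrimePow.pow
      intro h0
      rw [h0, pow_zero] at hpow
      exact hne1 hpow
    obtain ⟨q, hqp, hqr, hqd⟩ := hq
    haveI : Fact q.Prime := ⟨hqp⟩
    obtain ⟨S, hSH⟩ := exists_sylow_le hCN H hH hmax q hqd
    -- x' ∈ H and x₂ := g⁻¹ x' g ∈ H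
    have hx'H : x' ∈ H := hx'mem.1
    obtain ⟨x₂, hx₂H, hx₂⟩ := hx'mem.2
    have hx₂eq : g * x₂ * g⁻¹ = x' := by simpa [MulAut.conj_apply] using hx₂
    have hox₂ : orderOf x₂ = r := by
      have : orderOf x' = orderOf x₂ := by
        rw [← hx₂]
        exact orderOf_injective (MulAut.conj g).toMonoidHom (MulAut.conj g).injective x₂
      rw [← this, hox']
    have hzp : ∀ y : G, orderOf y = r → IsPGroup r (Subgroup.zpowers y) := by
      intro y hy
      apply IsPGroup.of_card (n := 1)
      rw [Nat.card_zpowers, hy, pow_one]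
    have hS1 : ∀ s ∈ (S : Subgroup G), s * x' = x' * s := by
      intro s hs
      have := Cfsg.Agent.Lib.Helper14.le_centralizer_of_nilpotent_of_pgroups (q := r) (r := q)
        hqr.symm hH (Subgroup.zpowers_le.mpr hx'H) hSH (hzp x' hox') S.isPGroup' hs
      rw [Subgroup.mem_centralizer_iff] at this
      exact (this x' (Subgroup.mem_zpowers x')).symm
    have hS2 : ∀ s ∈ (S : Subgroup G), s * x₂ = x₂ * s := by
      intro s hs
      have := Cfsg.Agent.Lib.Helper14.le_centralizer_of_nilpotent_of_pgroups (q := r) (r := q)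
        hqr.symm hH (Subgroup.zpowers_le.mpr hx₂H) hSH (hzp x₂ hox₂) S.isPGroup' hs
      rw [Subgroup.mem_centralizer_iff] at this
      exact (this x₂ (Subgroup.mem_zpowers x₂)).symm
    have hCnil := hCN x' hx'1
    have hSC : (S : Subgroup G) ≤ Subgroup.centralizer ({x'} : Set G) := by
      intro s hs
      rw [Subgroup.mem_centralizer_iff]
      intro y hy; rw [Set.mem_singleton_iff] at hy; subst hy
      exact (hS1 s hs).symm
    have hS₂C : ((g • S : Sylow q G) : Subgroup G) ≤ Subgroup.centralizer ({x'} : Set G) := by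
      intro s hs
      rw [mem_smul_sylow_iff] at hs
      rw [Subgroup.mem_centralizer_iff]
      intro y hy; rw [Set.mem_singleton_iff] at hy; subst hy
      have h := hS2 _ hs
      rw [← hx₂eq]
      have h' : g * ((g⁻¹ * s * g) * x₂) * g⁻¹ = g * (x₂ * (g⁻¹ * s * g)) * g⁻¹ := by rw [h]
      calc g * x₂ * g⁻¹ * s = g * (x₂ * (g⁻¹ * s * g)) * g⁻¹ := by group
        _ = g * ((g⁻¹ * s * g) * x₂) * g⁻¹ := h'.symm
        _ = s * (g * x₂ * g⁻¹) := by group
    have hle1 : ((g • S : Sylow q G) : Subgroup G) ≤ (S : Subgroup G) :=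
      le_of_sylow_le_nilpotent _ hCnil S hSC _ (g • S : Sylow q G).isPGroup' hS₂C
    have hle2 : (S : Subgroup G) ≤ ((g • S : Sylow q G) : Subgroup G) :=
      le_of_sylow_le_nilpotent _ hCnil (g • S) hS₂C _ S.isPGroup' hSC
    -- central element of S
    have hSne : (S : Subgroup G) ≠ ⊥ :=
      S.ne_bot_of_dvd_card (hqd.trans (Subgroup.card_subgroup_dvd_card H))
    obtain ⟨z, hzS, hz1, hzc⟩ := exists_central_of_pgroup (S : Subgroup G) S.isPGroup' hSne
    haveI := hH
    have hcenH : ∀ w ∈ (S : Subgroup G), (∀ s ∈ (S : Subgroup G), s * w = w * s) →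
        ∀ h ∈ H, h * w = w * h := by
      intro w hwS hwc h hh
      have hcen : (⟨w, hSH hwS⟩ : H) ∈ Subgroup.center H := by
        apply mem_center_of_sylow_central (S.subtype hSH) _
        · rw [Sylow.coe_subtype, Subgroup.mem_subgroupOf]; exact hwS
        · intro y hy
          rw [Sylow.coe_subtype, Subgroup.mem_subgroupOf] at hy
          apply Subtype.ext
          exact hwc (y : G) hy
      have := Subgroup.mem_center_iff.mp hcen ⟨h, hh⟩
      exact congrArg Subtype.val this
    have hzH := hcenH z hzS hzc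
    set z₂ := g⁻¹ * z * g with hz₂def
    have hz₂S : z₂ ∈ (S : Subgroup G) := by
      rw [← mem_smul_sylow_iff]; exact hle2 hzS
    have hz₂c : ∀ s ∈ (S : Subgroup G), s * z₂ = z₂ * s := by
      intro s hs
      have hgs : g * s * g⁻¹ ∈ (S : Subgroup G) := by
        apply hle1
        rw [mem_smul_sylow_iff]
        have : g⁻¹ * (g * s * g⁻¹) * g = s := by group
        rw [this]; exact hs
      have h := hzc _ hgs
      have h' : g⁻¹ * ((g * s * g⁻¹) * z) * g = g⁻¹ * (z * (g * s * g⁻¹)) * g := by rw [h]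
      calc s * z₂ = g⁻¹ * ((g * s * g⁻¹) * z) * g := by rw [hz₂def]; group
        _ = g⁻¹ * (z * (g * s * g⁻¹)) * g := h'
        _ = z₂ * s := by rw [hz₂def]; group
    have hz₂H := hcenH z₂ hz₂S hz₂c
    have hz₂1 : z₂ ≠ 1 := by
      intro h
      apply hz1
      have : z = g * z₂ * g⁻¹ := by rw [hz₂def]; group
      rw [this, h]; group
    have hCz : Subgroup.centralizer ({z} : Set G) = H := centralizer_eq hCN H hmax z hz1 hzH
    have hCz₂ : Subgroup.centralizer ({z₂} : Set G) = H := centralizer_eq hCN H hmax z₂ hz₂1 hz₂H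
    apply hg
    apply le_antisymm
    · rintro k ⟨h, hh, rfl⟩
      rw [← hCz, Subgroup.mem_centralizer_iff]
      intro y hy; rw [Set.mem_singleton_iff] at hy; subst hy
      have h1 := hz₂H h hh
      simp only [MulEquiv.coe_toMonoidHom, MulAut.conj_apply]
      have h' : g * (h * z₂) * g⁻¹ = g * (z₂ * h) * g⁻¹ := by rw [h1]
      calc y * (g * h * g⁻¹) = g * (z₂ * h) * g⁻¹ := by rw [hz₂def]; group
        _ = g * (h * z₂) * g⁻¹ := h'.symm
        _ = g * h * g⁻¹ * y := by rw [hz₂def]; group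
    · intro h hh
      refine ⟨g⁻¹ * h * g, ?_, ?_⟩
      · show g⁻¹ * h * g ∈ H
        rw [← hCz₂, Subgroup.mem_centralizer_iff]
        intro y hy; rw [Set.mem_singleton_iff] at hy; subst hy
        have h1 := hzH h hh
        have h' : g⁻¹ * (h * z) * g = g⁻¹ * (z * h) * g := by rw [h1]
        calc g⁻¹ * z * g * (g⁻¹ * h * g) = g⁻¹ * (z * h) * g := by group
          _ = g⁻¹ * (h * z) * g := h'.symm
          _ = g⁻¹ * h * g * (g⁻¹ * z * g) := by group
      · simp only [MulEquiv.coe_toMonoidHom, MulAut.conj_apply]; group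
  · -- centralizers when TI
    intro hTI x hxH hx1
    have hCnil : Group.IsNilpotent (Subgroup.centralizer ({x} : Set G)) := hCN x hx1
    have hnorm : ∀ y ∈ Subgroup.centralizer ({x} : Set G), H.map (MulAut.conj y).toMonoidHom = H := by
      intro y hy
      by_contra hne
      have hbot := hTI y hne
      have hx : x ∈ H ⊓ H.map (MulAut.conj y).toMonoidHom := by
        refine ⟨hxH, x, hxH, ?_⟩
        have h := (Subgroup.mem_centralizer_iff.mp hy) x rfl
        simp only [MulEquiv.coe_toMonoidHom, MulAut.conj_apply]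
        rw [← h]; group
      rw [hbot] at hx
      exact hx1 (Subgroup.mem_bot.mp hx)
    have hnormmem : ∀ y ∈ Subgroup.centralizer ({x} : Set G), ∀ h ∈ H, y * h * y⁻¹ ∈ H := by
      intro y hy h hh
      have : y * h * y⁻¹ ∈ H.map (MulAut.conj y).toMonoidHom := ⟨h, hh, by simp [MulAut.conj_apply]⟩
      rwa [hnorm y hy] at this
    haveI : Nontrivial H := ⟨⟨⟨x, hxH⟩, 1, fun h => hx1 (congrArg Subtype.val h)⟩⟩
    haveI := hH
    have hZ : Subgroup.center H ≠ ⊥ := Group.IsNilpotent.center_ne_bot H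
    set C := Subgroup.centralizer ({x} : Set G) with hC
    -- the image of Z(H) in G
    let ZH : Subgroup G := (Subgroup.center H).map H.subtype
    have hZHmem : ∀ w : G, w ∈ ZH ↔ w ∈ H ∧ ∀ h ∈ H, h * w = w * h := by
      intro w
      constructor
      · rintro ⟨w', hw', rfl⟩
        refine ⟨w'.2, ?_⟩
        intro h hh
        have := Subgroup.mem_center_iff.mp hw' ⟨h, hh⟩
        exact congrArg Subtype.val this
      · rintro ⟨hwH, hwc⟩
        refine ⟨⟨w, hwH⟩, ?_, rfl⟩
        show (⟨w, hwH⟩ : H) ∈ Subgroup.center H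
        rw [Subgroup.mem_center_iff]
        intro h
        apply Subtype.ext
        exact hwc h h.2
    have hZHC : ZH ≤ C := by
      intro w hw
      rw [hZHmem] at hw
      rw [hC, Subgroup.mem_centralizer_iff]
      intro y hy; rw [Set.mem_singleton_iff] at hy; subst hy
      exact hw.2 y hxH
    let N : Subgroup C := ZH.subgroupOf C
    have hNnormal : N.Normal := by
      constructor
      intro n hn c
      rw [Subgroup.mem_subgroupOf] at hn ⊢
      rw [hZHmem] at hn ⊢
      obtain ⟨hnH, hnc⟩ := hn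
      have hcC : (c : G) ∈ C := c.2
      have hcinvC : (c : G)⁻¹ ∈ C := C.inv_mem c.2
      refine ⟨?_, ?_⟩
      · have := hnormmem (c : G) hcC (n : G) hnH
        simpa using this
      · intro h hh
        have h1 : (c : G)⁻¹ * h * ((c : G)⁻¹)⁻¹ ∈ H := hnormmem _ hcinvC h hh
        have h2 := hnc _ h1
        simp only [Subgroup.coe_mul, InvMemClass.coe_inv]
        have h' : (c : G) * (((c : G)⁻¹ * h * ((c : G)⁻¹)⁻¹) * (n : G)) * (c : G)⁻¹
            = (c : G) * ((n : G) * ((c : G)⁻¹ * h * ((c : G)⁻¹)⁻¹)) * (c : G)⁻¹ := by rw [h2]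
        calc h * ((c : G) * (n : G) * (c : G)⁻¹)
            = (c : G) * (((c : G)⁻¹ * h * ((c : G)⁻¹)⁻¹) * (n : G)) * (c : G)⁻¹ := by group
          _ = (c : G) * ((n : G) * ((c : G)⁻¹ * h * ((c : G)⁻¹)⁻¹)) * (c : G)⁻¹ := h'
          _ = (c : G) * (n : G) * (c : G)⁻¹ * h := by group
    have hNne : N ≠ ⊥ := by
      obtain ⟨w, hw, hw1⟩ := (Subgroup.bot_or_exists_ne_one _).resolve_left hZ
      have hwZH : (w : G) ∈ ZH := ⟨w, hw, rfl⟩
      intro hbot
      have hmem : (⟨(w : G), hZHC hwZH⟩ : C) ∈ N := by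
        rw [Subgroup.mem_subgroupOf]; exact hwZH
      rw [hbot, Subgroup.mem_bot] at hmem
      apply hw1
      apply Subtype.ext
      have := congrArg Subtype.val hmem
      simpa using this
    haveI := hCnil
    obtain ⟨z, hzN, hzcen, hz1⟩ := Cfsg.Agent.Lib.Helper69.exists_mem_center_of_normal N hNne
    have hzZH : (z : G) ∈ ZH := by
      rw [Subgroup.mem_subgroupOf] at hzN; exact hzN
    rw [hZHmem] at hzZH
    have hzG1 : (z : G) ≠ 1 := by
      intro h; apply hz1; exact Subtype.ext h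
    have hCz := centralizer_eq hCN H hmax (z : G) hzG1 hzZH.2
    intro c hc
    rw [← hCz, Subgroup.mem_centralizer_iff]
    intro y hy; rw [Set.mem_singleton_iff] at hy; subst hy
    have := Subgroup.mem_center_iff.mp hzcen ⟨c, hc⟩
    have h2 := congrArg Subtype.val this
    simpa using h2.symm

end Cfsg.Agent.S1477
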