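import Cfsg.Statements.S0034
import Cfsg.Agent.S4253

set_option autoImplicit false
open Cfsg

namespace Cfsg.Agent.S0034

open scoped Pointwise

theorem mem_conj_smul_iff' {G : Type*} [Group G] (g x : G) (M : Subgroup G) :
    x ∈ MulAut.conj g • M ↔ g⁻¹ * x * g ∈ M := by
  rw [Subgroup.mem_pointwise_smul_iff_inv_smul_mem]
  simp [MulAut.smul_def]

/-- `g` fixes the coset `aH` iff `g` lies in the conjugate `aHa⁻¹`. -/
theorem smul_mk_eq_iff {G : Type*} [Group G] (H : Subgroup G) (g a : G) :
    g • (QuotientGroup.mk a : G ⧸ H) = QuotientGroup.mk a ↔ g ∈ MulAut.conj a • H := by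
  rw [mem_conj_smul_iff']
  change (QuotientGroup.mk (g * a) : G ⧸ H) = QuotientGroup.mk a ↔ _
  rw [QuotientGroup.eq]
  have e : (g * a)⁻¹ * a = (a⁻¹ * g * a)⁻¹ := by group
  rw [e, inv_mem_iff]

/-- One orbit for the transitive action on cosets. -/
theorem card_orbits_quotient {G : Type*} [Group G] (H : Subgroup G)
    [Fintype (MulAction.orbitRel.Quotient G (G ⧸ H))] :
    Fintype.card (MulAction.orbitRel.Quotient G (G ⧸ H)) = 1 := by
  rw [Fintype.card_eq_one_iff]
  refine ⟨Quotient.mk'' (QuotientGroup.mk 1), fun y => ?_⟩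
  induction y using Quotient.inductionOn' with
  | h y =>
    apply Quotient.sound'
    obtain ⟨g, hg⟩ := MulAction.exists_smul_eq G (QuotientGroup.mk 1 : G ⧸ H) y
    exact ⟨g, hg⟩

theorem card_frobeniusKernel {G : Type*} [Group G] [Finite G] (H : Subgroup G)
    (hH : Cfsg.IsFrobeniusComplement H) : Nat.card (Cfsg.frobeniusKernel H) = H.index := by
  classical
  letI : Fintype G := Fintype.ofFinite G
  letI : Fintype (G ⧸ H) := Fintype.ofFinite _
  letI : ∀ g : G, Fintype (MulAction.fixedBy (G ⧸ H) g) := fun g => Fintype.ofFinite _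
  letI : Fintype (MulAction.orbitRel.Quotient G (G ⧸ H)) := Fintype.ofFinite _
  have key := MulAction.sum_card_fixedBy_eq_card_orbits_mul_card_group G (G ⧸ H)
  rw [card_orbits_quotient H, one_mul] at key
  have hone : (1 : G) ∈ Cfsg.frobeniusKernel H := Or.inl rfl
  have hf : ∀ g : G, Fintype.card (MulAction.fixedBy (G ⧸ H) g) =
      (if g = 1 then H.index else 0) + (if g ∈ Cfsg.frobeniusKernel H then 0 else 1) := by
    intro g
    by_cases hg1 : g = 1
    · subst hg1
      rw [if_pos rfl, if_pos hone, add_zero]
      have hall : ∀ y : G ⧸ H, y ∈ MulAction.fixedBy (G ⧸ H) (1 : G) := fun y => by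
        rw [MulAction.mem_fixedBy, one_smul]
      rw [Fintype.card_congr (Equiv.subtypeUnivEquiv hall), ← Nat.card_eq_fintype_card]
      rfl
    · rw [if_neg hg1, zero_add]
      by_cases hgK : g ∈ Cfsg.frobeniusKernel H
      · rw [if_pos hgK]
        rcases hgK with h | h
        · exact absurd h hg1
        · rw [Fintype.card_eq_zero_iff]
          constructor
          rintro ⟨y, hy⟩
          rw [MulAction.mem_fixedBy] at hy
          induction y using QuotientGroup.induction_on with
          | H a => exact h a ((smul_mk_eq_iff H g a).1 hy)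
      · rw [if_neg hgK]
        have hex : ∃ a : G, g ∈ MulAut.conj a • H := by
          by_contra hcon
          push Not at hcon
          exact hgK (Or.inr hcon)
        obtain ⟨a, ha⟩ := hex
        rw [Fintype.card_eq_one_iff]
        refine ⟨⟨QuotientGroup.mk a, by
          rw [MulAction.mem_fixedBy]; exact (smul_mk_eq_iff H g a).2 ha⟩, ?_⟩
        rintro ⟨y, hy⟩
        rw [MulAction.mem_fixedBy] at hy
        apply Subtype.ext
        exact Cfsg.Agent.S4253.result H hH g hg1 y (QuotientGroup.mk a) hy
          ((smul_mk_eq_iff H g a).2 ha)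
  simp_rw [hf] at key
  rw [Finset.sum_add_distrib, Finset.sum_ite_eq' Finset.univ (1 : G)] at key
  simp only [Finset.mem_univ, if_true] at key
  have h2 : (∑ x : G, if x ∈ Cfsg.frobeniusKernel H then 0 else 1) =
      Fintype.card G - Fintype.card (Cfsg.frobeniusKernel H) := by
    have h3 : (∑ x : G, if x ∈ Cfsg.frobeniusKernel H then 0 else 1) =
        ∑ x : G, if x ∉ Cfsg.frobeniusKernel H then 1 else 0 := by
      apply Finset.sum_congr rfl
      intro x _
      by_cases hx : x ∈ Cfsg.frobeniusKernel H <;> simp [hx]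
    rw [h3, ← Finset.card_filter, ← Fintype.card_subtype, Fintype.card_subtype_compl]
  rw [h2] at key
  have hle : Fintype.card (Cfsg.frobeniusKernel H) ≤ Fintype.card G := Fintype.card_subtype_le _
  rw [Nat.card_eq_fintype_card]
  omega

theorem index_mod_card {G : Type*} [Group G] [Finite G] (H : Subgroup G)
    (hH : Cfsg.IsFrobeniusComplement H) : H.index % Nat.card H = 1 % Nat.card H := by
  classical
  letI : Fintype H := Fintype.ofFinite H
  letI : Fintype (G ⧸ H) := Fintype.ofFinite _
  letI : ∀ h : H, Fintype (MulAction.fixedBy (G ⧸ H) h) := fun h => Fintype.ofFinite _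
  letI : Fintype (MulAction.orbitRel.Quotient H (G ⧸ H)) := Fintype.ofFinite _
  have key := MulAction.sum_card_fixedBy_eq_card_orbits_mul_card_group H (G ⧸ H)
  have hf : ∀ h : H, Fintype.card (MulAction.fixedBy (G ⧸ H) h) =
      (if h = 1 then H.index else 0) + (if h = 1 then 0 else 1) := by
    intro h
    by_cases hh1 : h = 1
    · subst hh1
      rw [if_pos rfl, if_pos rfl, add_zero]
      have hall : ∀ y : G ⧸ H, y ∈ MulAction.fixedBy (G ⧸ H) (1 : H) := fun y => by
        rw [MulAction.mem_fixedBy, one_smul]
      rw [Fintype.card_congr (Equiv.subtypeUnivEquiv hall), ← Nat.card_eq_fintype_card]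
      rfl
    · rw [if_neg hh1, if_neg hh1, zero_add]
      have hg1 : (h : G) ≠ 1 := fun hc => hh1 (Subtype.ext hc)
      have hfix1 : (h : G) • (QuotientGroup.mk 1 : G ⧸ H) = QuotientGroup.mk 1 := by
        rw [smul_mk_eq_iff]
        simp
      rw [Fintype.card_eq_one_iff]
      refine ⟨⟨QuotientGroup.mk 1, by rw [MulAction.mem_fixedBy]; exact hfix1⟩, ?_⟩
      rintro ⟨y, hy⟩
      rw [MulAction.mem_fixedBy] at hy
      apply Subtype.ext
      exact Cfsg.Agent.S4253.result H hH (h : G) hg1 y (QuotientGroup.mk 1) hy hfix1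
  simp_rw [hf] at key
  rw [Finset.sum_add_distrib, Finset.sum_ite_eq' Finset.univ (1 : H)] at key
  simp only [Finset.mem_univ, if_true] at key
  have h2 : (∑ x : H, if x = 1 then 0 else 1) = Fintype.card H - 1 := by
    have h3 : (∑ x : H, if x = 1 then 0 else 1) = ∑ x : H, if x ≠ 1 then 1 else 0 := by
      apply Finset.sum_congr rfl
      intro x _
      by_cases hx : x = 1 <;> simp [hx]
    rw [h3, ← Finset.card_filter, ← Fintype.card_subtype, Fintype.card_subtype_compl]
    simp
  rw [h2] at key
  rw [Nat.card_eq_fintype_card]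
  have hpos : 0 < Fintype.card H := Fintype.card_pos
  generalize Fintype.card (MulAction.orbitRel.Quotient H (G ⧸ H)) = c at key
  generalize Fintype.card H = m at key hpos ⊢
  have hcpos : 0 < c := by
    rcases Nat.eq_zero_or_pos c with h0 | h0
    · rw [h0, zero_mul] at key
      have : 0 < H.index := Nat.pos_of_ne_zero Subgroup.index_ne_zero_of_finite
      omega
    · exact h0
  obtain ⟨c', rfl⟩ : ∃ c', c = c' + 1 := ⟨c - 1, by omega⟩
  have hk : H.index = 1 + c' * m := by
    rw [add_mul, one_mul] at key
    omega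
  rw [hk, Nat.add_mul_mod_self_right]

/-- For a Frobenius complement H, the set of elements lying in no conjugate of H, together with 1, has exactly as many elements as the index of H, and that index is congruent to 1 modulo the order of H. -/
theorem result {G : Type*} [Group G] [Finite G] (H : Subgroup G) (hH : Cfsg.IsFrobeniusComplement H) :
    Nat.card (Cfsg.frobeniusKernel H) = H.index ∧ H.index % Nat.card H = 1 % Nat.card H :=
  ⟨card_frobeniusKernel H hH, index_mod_card H hH⟩

end Cfsg.Agent.S0034
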