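import Mathlib
import Cfsg.Statements.S0035
import Cfsg.Agent.S0034
import Cfsg.Agent.Lib.Helper34.GenChar
import Cfsg.Agent.Lib.Helper83.SecondOrth
import Cfsg.Agent.Lib.Helper04.CharScalar
import Cfsg.Agent.Lib.Helper05.CharDecomp

set_option autoImplicit false
open Cfsg
open scoped ComplexConjugate Pointwise

namespace Cfsg.Agent.S0035

open Cfsg.Agent.Lib

section
variable {G : Type*} [Group G]

theorem ti (H : Subgroup G) (hH : IsFrobeniusComplement H) {x h : G} (hx : x ∉ H) (hh : h ∈ H)
    (hc : x⁻¹ * h * x ∈ H) : h = 1 := by
  have h1 : h ∈ H ⊓ (MulAut.conj x • H) :=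
    ⟨hh, (Cfsg.Agent.S0034.mem_conj_smul_iff' x h H).mpr hc⟩
  rw [hH.2.2 x hx] at h1
  exact Subgroup.mem_bot.mp h1

theorem sum_extendByZero_const [Fintype G] (H : Subgroup G) [Fintype H] (c : ℂ) :
    ∑ x : G, extendByZero H (fun _ => c) x = (Nat.card H : ℂ) * c := by
  have := Helper34.sum_extendByZero_mul H (fun _ => c) (fun _ => (1 : ℂ))
  simp only [mul_one] at this
  rw [this, Finset.sum_const, Finset.card_univ, nsmul_eq_mul, Nat.card_eq_fintype_card]

/-- An induced class function vanishing at `1` restricts back to itself on a Frobenius complement. -/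
theorem indFun_restrict [Fintype G] (H : Subgroup G) (hH : IsFrobeniusComplement H)
    (α : H → ℂ) (hα : IsClassFunction H α) (hα1 : α 1 = 0) (h : H) :
    indFun H α (h : G) = α h := by
  classical
  letI : Fintype H := Fintype.ofFinite H
  have hHne : (Nat.card H : ℂ) ≠ 0 := by exact_mod_cast Nat.card_pos.ne'
  rw [Helper34.indFun_apply]
  by_cases h1 : h = 1
  · subst h1
    have h0 : extendByZero H α (1 : G) = 0 := by
      have := Helper34.extendByZero_coe H α 1
      simpa [hα1] using this
    simp [h0, hα1]
  · have key : ∀ x : G, extendByZero H α (x⁻¹ * (h : G) * x) = extendByZero H (fun _ => α h) x := by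
      intro x
      by_cases hx : x ∈ H
      · have hx' : x⁻¹ * (h : G) * x ∈ H := H.mul_mem (H.mul_mem (H.inv_mem hx) h.2) hx
        rw [Helper34.extendByZero_apply_mem H α hx', Helper34.extendByZero_apply_mem H _ hx]
        have := hα h ⟨x⁻¹, H.inv_mem hx⟩
        rw [← this]
        congr 1
        apply Subtype.ext
        simp
      · rw [Helper34.extendByZero_apply_not_mem H _ hx]
        apply Helper34.extendByZero_apply_not_mem
        intro hmem
        exact h1 (Subtype.ext (ti H hH hx h.2 hmem))
    simp only [key]
    rw [sum_extendByZero_const]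
    field_simp

/-- An induced function vanishes at elements lying in no conjugate of `H`. -/
theorem indFun_kernel [Fintype G] (H : Subgroup G) (α : H → ℂ) (x : G)
    (hx : ∀ g : G, x ∉ MulAut.conj g • H) : indFun H α x = 0 := by
  rw [Helper34.indFun_apply]
  have : ∀ y : G, extendByZero H α (y⁻¹ * x * y) = 0 := by
    intro y
    apply Helper34.extendByZero_apply_not_mem
    intro hmem
    exact hx y ((Cfsg.Agent.S0034.mem_conj_smul_iff' y x H).mpr hmem)
  simp [this]

end

section Main
variable {G : Type*} [Group G] [Finite G]

/-- The kernel of a character is a normal subgroup. -/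
theorem exists_kernel {χ : G → ℂ} (hχ : IsCharacter G χ) :
    ∃ N : Subgroup G, N.Normal ∧ ∀ g, g ∈ N ↔ χ g = χ 1 := by
  obtain ⟨n, ρ, rfl⟩ := hχ
  refine ⟨MonoidHom.ker ρ, inferInstance, fun g => ?_⟩
  rw [MonoidHom.mem_ker, Representation.char_one, Helper04.char_eq_finrank_iff ρ g]
  rfl

theorem exists_normal_of_irr [Fintype G] (H : Subgroup G) (hH : IsFrobeniusComplement H)
    (θ : IrrCharacter H) :
    ∃ N : Subgroup G, N.Normal ∧ (frobeniusKernel H ⊆ (N : Set G)) ∧
      ∀ h : H, (h : G) ∈ N → (θ : H → ℂ) h = (θ : H → ℂ) 1 := by
  classical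
  letI : Fintype H := Fintype.ofFinite H
  by_cases htriv : θ = Helper83.trivChar H
  · refine ⟨⊤, inferInstance, fun x _ => Subgroup.mem_top x, fun h _ => ?_⟩
    rw [htriv]
    rfl
  · set t : H → ℂ := (θ : H → ℂ) with ht
    have htirr : IsIrrCharacter H t := θ.2
    have htchar : IsCharacter H t := Helper83.isCharacter_of_irr htirr
    obtain ⟨n, hn⟩ := Helper83.char_one_eq_nat htchar
    set oneH : H → ℂ := fun _ => (1 : ℂ) with honeH
    set one : G → ℂ := fun _ => (1 : ℂ) with hone
    set α : H → ℂ := t - (n : ℂ) • oneH with hα
    set A : G → ℂ := indFun H α with hA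
    set T : G → ℂ := A + (n : ℂ) • one with hT
    have honeHchar : IsCharacter H oneH := Helper83.isCharacter_one
    have honechar : IsCharacter G one := Helper83.isCharacter_one
    -- α is a class function vanishing at 1
    have hαcf : IsClassFunction H α := by
      intro g h
      have := Helper83.char_isClassFunction htchar g h
      simp only [hα, Pi.sub_apply, this]
      rfl
    have hα1 : α 1 = 0 := by
      simp [hα, hn, honeH]
    have hαgen : IsGeneralizedCharacter H α :=
      ⟨t, (n : ℂ) • oneH, htchar, Helper83.isCharacter_nsmul n honeHchar, rfl⟩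
    have hAgen : IsGeneralizedCharacter G A := Helper34.isGeneralizedCharacter_indFun H hαgen
    have hTgen : IsGeneralizedCharacter G T :=
      Helper34.isGeneralizedCharacter_add hAgen
        (Helper34.IsCharacter.isGeneralizedCharacter (Helper83.isCharacter_nsmul n honechar))
    have hAcf : IsClassFunction G A := Helper34.indFun_isClassFunction H α
    have hAres : (fun h : H => A (h : G)) = α := by
      funext h
      exact indFun_restrict H hH α hαcf hα1 h
    -- inner products on H
    have h_t_one : classInner t oneH = 0 := by
      exact Helper83.irr_inner_ne (χ := θ) (ψ := Helper83.trivChar H) htriv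
    have h_one_t : classInner oneH t = 0 := by
      exact Helper83.irr_inner_ne (χ := Helper83.trivChar H) (ψ := θ) (Ne.symm htriv)
    have h_one_one : classInner oneH oneH = 1 := Helper83.irr_inner_self (Helper83.trivChar H)
    have h_t_t : classInner t t = 1 := Helper83.irr_inner_self θ
    have h_G_one_one : classInner one one = 1 := Helper83.irr_inner_self (Helper83.trivChar G)
    have h_α_α : classInner α α = 1 + (n : ℂ) ^ 2 := by
      rw [hα, Helper34.classInner_sub_left, Helper34.classInner_sub_right,
        Helper34.classInner_sub_right, Helper34.classInner_smul_left, Helper34.classInner_smul_right,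
        Helper34.classInner_smul_right, Helper34.classInner_smul_left,
        h_t_t, h_t_one, h_one_t, h_one_one]
      simp only [Complex.conj_natCast]
      ring
    have h_α_one : classInner α oneH = -(n : ℂ) := by
      rw [hα, Helper34.classInner_sub_left, Helper34.classInner_smul_left, h_t_one, h_one_one]
      ring
    have h_A_A : classInner A A = 1 + (n : ℂ) ^ 2 := by
      rw [hA, Helper34.classInner_indFun_left H α (indFun H α) hAcf]
      rw [← hA, hAres, h_α_α]
    have h_A_one : classInner A one = -(n : ℂ) := by
      rw [hA, Helper34.classInner_indFun_left H α one (Helper83.char_isClassFunction honechar)]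
      exact h_α_one
    have h_one_A : classInner one A = -(n : ℂ) := by
      rw [← Helper34.classInner_conj_symm, h_A_one]
      simp
    have hTnorm : classInner T T = 1 := by
      rw [hT, Helper34.classInner_add_left, Helper34.classInner_add_right,
        Helper34.classInner_add_right, Helper34.classInner_smul_left, Helper34.classInner_smul_right,
        Helper34.classInner_smul_right, Helper34.classInner_smul_left,
        h_A_A, h_A_one, h_one_A, h_G_one_one]
      simp only [Complex.conj_natCast]
      ring
    have hA1 : A 1 = 0 := by
      have := indFun_restrict H hH α hαcf hα1 1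
      simpa [hα1] using this
    have hT1 : T 1 = n := by
      simp [hT, hA1, hone]
    have hTirr : IsIrrCharacter G T := by
      rcases Helper34.irr_or_neg_irr_of_norm_one hTgen hTnorm with h | h
      · exact h
      · exfalso
        obtain ⟨m, hm, hm1⟩ := Helper05.exists_pos_degree h
        have : ((n + m : ℕ) : ℂ) = 0 := by
          have h2 : (-T) 1 = -(n : ℂ) := by simp [hT1]
          rw [h2] at hm1
          push_cast
          rw [← hm1]
          ring
        have h3 : n + m = 0 := by exact_mod_cast this
        omega
    obtain ⟨N, hNn, hN⟩ := exists_kernel (Helper83.isCharacter_of_irr hTirr)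
    refine ⟨N, hNn, ?_, ?_⟩
    · intro x hx
      rw [SetLike.mem_coe, hN]
      rcases hx with rfl | hx
      · rfl
      · have : A x = 0 := indFun_kernel H α x hx
        simp [hT, this, hA1, hone]
    · intro h hh
      rw [hN] at hh
      have h1 : A (h : G) = α h := indFun_restrict H hH α hαcf hα1 h
      have h2 : T (h : G) = α h + n := by
        simp [hT, h1, hone]
      rw [h2, hT1] at hh
      have h3 : α h = 0 := by
        have := hh
        linear_combination this
      have h4 : t h = n := by
        have : α h = t h - n := by simp [hα, honeH]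
        rw [this] at h3
        linear_combination h3
      rw [h4, hn]

end Main

/-- Frobenius' Theorem: if H is a Frobenius complement in a finite group, the identity together with the elements lying in no conjugate of H form a normal subgroup, which is a complement to H. -/
theorem result {G : Type*} [Group G] [Finite G] (H : Subgroup G) (hH : Cfsg.IsFrobeniusComplement H) :
    ∃ N : Subgroup G, (N : Set G) = Cfsg.frobeniusKernel H ∧ N.Normal ∧ Subgroup.IsComplement' N H := by
  classical
  letI : Fintype G := Fintype.ofFinite G
  letI : Fintype H := Fintype.ofFinite H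
  letI : Fintype (IrrCharacter H) := Fintype.ofFinite _
  choose Nθ hNn hK hker using exists_normal_of_irr H hH
  set N : Subgroup G := ⨅ θ, Nθ θ with hN
  have hNnormal : N.Normal := Subgroup.normal_iInf_normal hNn
  have hKN : frobeniusKernel H ⊆ (N : Set G) := by
    intro x hx
    rw [SetLike.mem_coe, hN, Subgroup.mem_iInf]
    exact fun θ => hK θ hx
  have hNH : ∀ h : H, (h : G) ∈ N → h = 1 := by
    intro h hh
    rw [hN, Subgroup.mem_iInf] at hh
    have hθ : ∀ θ : IrrCharacter H, (θ : H → ℂ) h = (θ : H → ℂ) 1 := fun θ => hker θ h (hh θ)
    by_contra hne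
    have h1 := Helper83.sum_irr_degree_mul (G := H) h
    rw [if_neg hne] at h1
    have h2 := Helper83.sum_irr_degree_mul (G := H) 1
    rw [if_pos rfl] at h2
    have h3 : (Nat.card H : ℂ) = 0 := by
      rw [← h2, ← h1]
      apply Finset.sum_congr rfl
      intro θ _
      rw [hθ θ]
    have h4 : Nat.card H = 0 := by exact_mod_cast h3
    exact Nat.card_pos.ne' h4
  have hdisj : Disjoint N H := by
    rw [Subgroup.disjoint_def]
    intro x hxN hxH
    have := hNH ⟨x, hxH⟩ hxN
    exact congrArg Subtype.val this
  have hNK : (N : Set G) = frobeniusKernel H := by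
    apply Set.Subset.antisymm _ hKN
    intro x hx
    by_contra hxK
    simp only [frobeniusKernel, Set.mem_setOf_eq, not_or, not_forall, not_not] at hxK
    obtain ⟨hx1, g, hg⟩ := hxK
    rw [Cfsg.Agent.S0034.mem_conj_smul_iff'] at hg
    have hmem : g⁻¹ * x * g ∈ N := by
      have := hNnormal.conj_mem x hx g⁻¹
      simpa using this
    have h2 := hNH ⟨_, hg⟩ hmem
    have h3 : g⁻¹ * x * g = 1 := congrArg Subtype.val h2
    apply hx1
    have h4 : x = g * (g⁻¹ * x * g) * g⁻¹ := by group
    rw [h4, h3]
    group
  refine ⟨N, hNK, hNnormal, ?_⟩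
  apply Subgroup.isComplement'_of_card_mul_and_disjoint _ hdisj
  have hc := (Cfsg.Agent.S0034.result H hH).1
  have h5 : Nat.card N = H.index := by
    rw [← hc]
    exact Nat.card_congr (Equiv.setCongr hNK)
  rw [h5, mul_comm]
  exact H.card_mul_index

end Cfsg.Agent.S0035
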