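import Cfsg.Statements.S4207
import Cfsg.Agent.Lib.Helper75.Generators

set_option autoImplicit false
open Cfsg

namespace Cfsg.Agent.S4207

open Cfsg.Agent.Lib.Helper75

/-- tuples congruent to `x` modulo the Frattini subgroup -/
def X {P : Type*} [Group P] {r : ℕ} (x : Fin r → P) : Type _ :=
  {y : Fin r → P // ∀ i, y i * (x i)⁻¹ ∈ frattini P}

noncomputable def equivX {P : Type*} [Group P] {r : ℕ} (x : Fin r → P) :
    X x ≃ (Fin r → frattini P) where
  toFun y := fun i => ⟨y.1 i * (x i)⁻¹, y.2 i⟩
  invFun f := ⟨fun i => (f i : P) * x i, fun i => by simp⟩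
  left_inv y := by
    apply Subtype.ext
    funext i
    simp
  right_inv f := by
    funext i
    apply Subtype.ext
    simp

theorem card_X {P : Type*} [Group P] [Finite P] {r : ℕ} (x : Fin r → P) :
    Nat.card (X x) = Nat.card (frattini P) ^ r := by
  rw [Nat.card_congr (equivX x), Nat.card_fun, Nat.card_fin]

/-- the action of a group of automorphisms stabilising the Frattini cosets -/
def act {P : Type*} [Group P] {r : ℕ} (x : Fin r → P) (A : Subgroup (MulAut P))
    (hA : ∀ α ∈ A, ∀ x : P, α x * x⁻¹ ∈ frattini P) : MulAction A (X x) where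
  smul a y := ⟨fun i => (a : MulAut P) (y.1 i), fun i => by
    have h1 := hA a a.2 (y.1 i)
    have h2 := y.2 i
    have := (frattini P).mul_mem h1 h2
    simpa [mul_assoc] using this⟩
  one_smul y := by
    apply Subtype.ext
    funext i
    rfl
  mul_smul a b y := by
    apply Subtype.ext
    funext i
    rfl

theorem closure_eq_top_of_mem_X {P : Type*} [Group P] [Finite P] {r : ℕ} (x : Fin r → P)
    (hx : Subgroup.closure (Set.range x) = ⊤) (y : X x) :
    Subgroup.closure (Set.range y.1) = ⊤ := by
  apply frattini_nongenerating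
  rw [eq_top_iff, ← hx, Subgroup.closure_le]
  rintro _ ⟨i, rfl⟩
  have h1 : y.1 i ∈ Subgroup.closure (Set.range y.1) ⊔ frattini P :=
    Subgroup.mem_sup_left (Subgroup.subset_closure ⟨i, rfl⟩)
  have h2 : y.1 i * (x i)⁻¹ ∈ Subgroup.closure (Set.range y.1) ⊔ frattini P :=
    Subgroup.mem_sup_right (y.2 i)
  have := mul_mem (inv_mem h2) h1
  simpa using this

/-- Let `P` be a group of order `p^n` whose Frattini subgroup has index `p^r`. Then any group of automorphisms of `P` each of which induces the identity on the Frattini quotient has order dividing `p^(r(n-r))`; in particular it is a `p`-group. -/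
theorem result {P : Type*} [Group P] [Finite P] {p n r : ℕ} [Fact p.Prime] (hP : Nat.card P = p ^ n) (hr : (frattini P).index = p ^ r) (A : Subgroup (MulAut P)) (hA : ∀ α ∈ A, ∀ x : P, α x * x⁻¹ ∈ frattini P) : Nat.card A ∣ p ^ (r * (n - r)) := by
  have hp : p.Prime := Fact.out
  obtain ⟨x, hx⟩ := exists_generators_of_frattini_index hp hr
  letI : MulAction A (X x) := act x A hA
  have hfree : ∀ y : X x, MulAction.stabilizer A y = ⊥ := by
    intro y
    rw [eq_bot_iff]
    intro a ha
    rw [MulAction.mem_stabilizer_iff] at ha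
    rw [Subgroup.mem_bot]
    apply Subtype.ext
    have hy := closure_eq_top_of_mem_X x hx y
    have hfix : ∀ i, (a : MulAut P) (y.1 i) = y.1 i := by
      intro i
      have := congrArg (fun z : X x => z.1 i) ha
      exact this
    have : ((a : MulAut P) : P ≃* P).toMonoidHom = MonoidHom.id P := by
      apply MonoidHom.eq_of_eqOn_dense hy
      rintro _ ⟨i, rfl⟩
      exact hfix i
    ext z
    exact DFunLike.congr_fun this z
  have e := MulAction.selfEquivOrbitsQuotientProd hfree
  have hcard : Nat.card (X x) = Nat.card (Quotient (MulAction.orbitRel A (X x))) * Nat.card A := by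
    rw [Nat.card_congr e, Nat.card_prod]
  have hdvd : Nat.card A ∣ Nat.card (X x) := ⟨_, by rw [hcard, mul_comm]⟩
  rw [card_X] at hdvd
  have hΦ : Nat.card (frattini P) * p ^ r = p ^ n := by
    rw [← hr, ← hP]
    exact Subgroup.card_mul_index (frattini P)
  have hrn : r ≤ n := by
    have : p ^ r ∣ p ^ n := ⟨_, by rw [← hΦ, mul_comm]⟩
    exact (Nat.pow_dvd_pow_iff_le_right hp.one_lt).1 this
  have hΦ' : Nat.card (frattini P) = p ^ (n - r) := by
    have : p ^ n = p ^ (n - r) * p ^ r := by rw [← pow_add, Nat.sub_add_cancel hrn]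
    rw [this] at hΦ
    exact Nat.eq_of_mul_eq_mul_right (pow_pos hp.pos r) hΦ
  rw [hΦ', ← pow_mul, mul_comm] at hdvd
  exact hdvd

end Cfsg.Agent.S4207
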