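import Cfsg.Statements.S4208
import Cfsg.Agent.S4207
import Cfsg.Agent.Lib.Helper75.ElemAbAut
import Cfsg.Agent.Lib.Helper75.PGroupFrattini

set_option autoImplicit false
open Cfsg

namespace Cfsg.Agent.S4208

open Cfsg.Agent.Lib.Helper75

/-- the action of automorphisms on the Frattini quotient -/
noncomputable def rho (P : Type*) [Group P] : MulAut P →* MulAut (P ⧸ frattini P) where
  toFun α := QuotientGroup.congr (frattini P) (frattini P) α
    (Subgroup.characteristic_iff_map_eq.1 inferInstance α)
  map_one' := by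
    ext x
    obtain ⟨y, rfl⟩ := QuotientGroup.mk_surjective x
    rfl
  map_mul' α β := by
    ext x
    obtain ⟨y, rfl⟩ := QuotientGroup.mk_surjective x
    rfl

theorem rho_apply_mk (P : Type*) [Group P] (α : MulAut P) (x : P) :
    rho P α (QuotientGroup.mk x) = QuotientGroup.mk (α x) := rfl

/-- Let `P` be a group of order `p^n` whose Frattini subgroup has index `p^r`. Then the order of the automorphism group of `P` divides `p^(r(n-r)) · (p^r - 1)(p^r - p) ⋯ (p^r - p^(r-1))`. -/
theorem result {P : Type*} [Group P] [Finite P] {p n r : ℕ} [Fact p.Prime] (hP : Nat.card P = p ^ n) (hr : (frattini P).index = p ^ r) : Nat.card (MulAut P) ∣ p ^ (r * (n - r)) * ∏ i ∈ Finset.range r, (p ^ r - p ^ i) := by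
  have hPG : IsPGroup p P := IsPGroup.of_card hP
  have hK : Nat.card (rho P).ker ∣ p ^ (r * (n - r)) := by
    apply Cfsg.Agent.S4207.result hP hr
    intro α hα x
    rw [MonoidHom.mem_ker] at hα
    have h1 : rho P α (QuotientGroup.mk x) = QuotientGroup.mk x := by rw [hα]; rfl
    rw [rho_apply_mk, QuotientGroup.eq_iff_div_mem, div_eq_mul_inv] at h1
    exact h1
  have hrange : Nat.card (rho P).range ∣ Nat.card (MulAut (P ⧸ frattini P)) :=
    Subgroup.card_subgroup_dvd_card _
  have hE : Nat.card (MulAut (P ⧸ frattini P)) = ∏ i ∈ Finset.range r, (p ^ r - p ^ i) :=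
    card_mulAut_of_elementary (frattini_quotient_comm hPG) (frattini_quotient_pow hPG)
      (by rw [← Subgroup.index_eq_card, hr])
  have hcard : Nat.card (MulAut P) = Nat.card (rho P).ker * Nat.card (rho P).range := by
    rw [← Subgroup.index_ker, Subgroup.card_mul_index]
  rw [hcard]
  exact mul_dvd_mul hK (hE ▸ hrange)

end Cfsg.Agent.S4208
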