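import Cfsg.Statements.S0199
import Cfsg.Agent.Lib.Helper06.BaerSuzuki

set_option autoImplicit false
open Cfsg

namespace Cfsg.Agent.S0199

open Cfsg.Agent.Lib.Helper06 in
/-- Baer–Suzuki Theorem: a p-subgroup X of a finite group such that X and any of its conjugates generate a p-group is contained in a normal p-subgroup. -/
theorem result {G : Type*} [Group G] [Finite G] {p : ℕ} [Fact p.Prime] (X : Subgroup G) (hX : IsPGroup p X) (h : ∀ g : G, IsPGroup p ↥(X ⊔ X.map (MulAut.conj g).toMonoidHom)) : ∃ N : Subgroup G, N.Normal ∧ IsPGroup p N ∧ X ≤ N := by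
  let K : Set G := {k | ∃ g : G, ∃ x ∈ X, k = g * x * g⁻¹}
  have hKconj : ∀ g k : G, k ∈ K → g * k * g⁻¹ ∈ K := by
    rintro g _ ⟨g', x, hx, rfl⟩
    exact ⟨g * g', x, hx, by group⟩
  have hKp : ∀ a ∈ K, ∀ b ∈ K, IsPGroup p (Subgroup.closure ({a, b} : Set G)) := by
    rintro _ ⟨g, x, hx, rfl⟩ _ ⟨g', x', hx', rfl⟩
    have hbig : IsPGroup p ((X ⊔ X.map (MulAut.conj (g⁻¹ * g')).toMonoidHom).map
        (MulAut.conj g).toMonoidHom) := (h (g⁻¹ * g')).map _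
    apply hbig.to_le
    rw [Subgroup.closure_le]
    rintro z (rfl | rfl)
    · exact ⟨x, (le_sup_left : X ≤ _) hx, rfl⟩
    · refine ⟨(g⁻¹ * g') * x' * (g⁻¹ * g')⁻¹,
        (le_sup_right : X.map (MulAut.conj (g⁻¹ * g')).toMonoidHom ≤ _) ⟨x', hx', rfl⟩, ?_⟩
      show g * ((g⁻¹ * g') * x' * (g⁻¹ * g')⁻¹) * g⁻¹ = g' * x' * g'⁻¹
      group
  obtain ⟨N, hN, hNp, hKN⟩ := baer_suzuki_set K hKconj hKp
  exact ⟨N, hN, hNp, fun x hx => hKN ⟨1, x, hx, by simp⟩⟩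

end Cfsg.Agent.S0199
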