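import Mathlib
import Cfsg.Statements.S0606
import Cfsg.Agent.Lib.Helper99.Thompson

set_option autoImplicit false
open Cfsg

namespace Cfsg.Agent.S0606

open Cfsg.Agent.Lib.Helper99

/-- Elementary abelian p-subgroups of maximal order are best offenders on any normal elementary abelian p-subgroup. -/
theorem result {G : Type*} [Group G] [Finite G] {p : ℕ} [Fact p.Prime] (V : Subgroup G) [V.Normal] (hV : Cfsg.IsElementaryAbelian p V) (A : Subgroup G) (hA : A ∈ Cfsg.maxElementaryAbelianSubgroups p G) : Cfsg.IsBestOffenderOn p V A := by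
  have hAea := (isEA_iff A).mp hA.1
  refine ⟨?_, ?_, ?_⟩
  · intro B hBA
    set C := V ⊓ Subgroup.centralizer (B : Set G) with hC
    set D := V ⊓ Subgroup.centralizer (A : Set G) with hD
    have hcomm : ∀ (b : B) (c : C), Commute (B.subtype b) (C.subtype c) := by
      intro b c
      have hc : (c : G) ∈ Subgroup.centralizer (B : Set G) := c.2.2
      exact Subgroup.mem_centralizer_iff.mp hc b b.2
    set φ : ↥B × ↥C →* G := MonoidHom.noncommCoprod B.subtype C.subtype hcomm with hφ
    have hrange : φ.range = B ⊔ C := by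
      rw [hφ, MonoidHom.noncommCoprod_range, Subgroup.range_subtype, Subgroup.range_subtype]
    have hBC : IsElementaryAbelian p (B ⊔ C) := by
      apply isEA_sup (isEA_mono hBA hA.1) (isEA_mono inf_le_left hV)
      intro b hb c hc
      exact Subgroup.mem_centralizer_iff.mp hc.2 b hb
    have h1 : Nat.card φ.range ≤ Nat.card A := by
      rw [hrange]; exact hA.2 _ hBC
    have h2 : Nat.card φ.ker ≤ Nat.card D := by
      have hmem : ∀ x : φ.ker, ((x : ↥B × ↥C).2 : G) ∈ D := by
        intro x
        have hx : φ x = 1 := x.2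
        have hx' : ((x : ↥B × ↥C).1 : G) * ((x : ↥B × ↥C).2 : G) = 1 := by
          simpa [hφ] using hx
        have hc : ((x : ↥B × ↥C).2 : G) = ((x : ↥B × ↥C).1 : G)⁻¹ := by
          exact (eq_inv_of_mul_eq_one_right hx')
        have hcA : ((x : ↥B × ↥C).2 : G) ∈ A := by
          rw [hc]; exact A.inv_mem (hBA (x : ↥B × ↥C).1.2)
        refine ⟨(x : ↥B × ↥C).2.2.1, ?_⟩
        show ((x : ↥B × ↥C).2 : G) ∈ Subgroup.centralizer (A : Set G)
        rw [Subgroup.mem_centralizer_iff]
        intro a ha
        exact hAea.1 a ha _ hcA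
      apply Nat.card_le_card_of_injective (fun x : φ.ker => (⟨((x : ↥B × ↥C).2 : G), hmem x⟩ : D))
      intro x y hxy
      have h2 : ((x : ↥B × ↥C).2 : G) = ((y : ↥B × ↥C).2 : G) :=
        congrArg (fun d : D => (d : G)) hxy
      have hx : φ x = 1 := x.2
      have hy : φ y = 1 := y.2
      have hx' : ((x : ↥B × ↥C).1 : G) * ((x : ↥B × ↥C).2 : G) = 1 := by
        simpa [hφ] using hx
      have hy' : ((y : ↥B × ↥C).1 : G) * ((y : ↥B × ↥C).2 : G) = 1 := by
        simpa [hφ] using hy
      have h1 : ((x : ↥B × ↥C).1 : G) = ((y : ↥B × ↥C).1 : G) := by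
        rw [eq_inv_of_mul_eq_one_left hx', eq_inv_of_mul_eq_one_left hy', h2]
      apply Subtype.ext
      apply Prod.ext
      · exact Subtype.ext h1
      · exact Subtype.ext h2
    have h3 : Nat.card (↥B × ↥C) = Nat.card φ.range * Nat.card φ.ker := by
      rw [Subgroup.card_eq_card_quotient_mul_card_subgroup φ.ker,
        Nat.card_congr (QuotientGroup.quotientKerEquivRange φ).toEquiv]
    rw [Nat.card_prod] at h3
    rw [h3]
    exact Nat.mul_le_mul h1 h2
  · rw [Subgroup.commutator_le]
    intro a ha b hb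
    rw [commutatorElement_eq_one_iff_mul_comm.mpr (hAea.1 a ha b hb)]
    exact Subgroup.one_mem _
  · intro a ha
    rw [hAea.2 a ha]
    exact Subgroup.one_mem _

end Cfsg.Agent.S0606
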