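import Cfsg.Statements.S0607
-- import your own Cfsg.Agent.* helpers here
import Cfsg.Agent.S0606
import Cfsg.Agent.Lib.Helper14.Timmesfeld
import Cfsg.Agent.Lib.Helper14.PAction
import Cfsg.Agent.Lib.Helper99.Thompson

set_option autoImplicit false
open Cfsg

namespace Cfsg.Agent.S0607

open scoped commutatorElement

/-- elements of the join of two elementwise commuting subgroups are products -/
theorem exists_mul_of_mem_sup_of_commute {G : Type*} [Group G] (H K : Subgroup G)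
    (hHK : ∀ h ∈ H, ∀ k ∈ K, h * k = k * h) {x : G} (hx : x ∈ H ⊔ K) :
    ∃ h ∈ H, ∃ k ∈ K, x = h * k := by
  let P : Subgroup G :=
    { carrier := {x | ∃ h ∈ H, ∃ k ∈ K, x = h * k}
      mul_mem' := by
        rintro _ _ ⟨h, hh, k, hk, rfl⟩ ⟨h', hh', k', hk', rfl⟩
        refine ⟨h * h', H.mul_mem hh hh', k * k', K.mul_mem hk hk', ?_⟩
        calc h * k * (h' * k') = h * (k * h') * k' := by group
          _ = h * (h' * k) * k' := by rw [hHK h' hh' k hk]
          _ = h * h' * (k * k') := by group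
      one_mem' := ⟨1, H.one_mem, 1, K.one_mem, by simp⟩
      inv_mem' := by
        rintro _ ⟨h, hh, k, hk, rfl⟩
        refine ⟨h⁻¹, H.inv_mem hh, k⁻¹, K.inv_mem hk, ?_⟩
        rw [mul_inv_rev, hHK h⁻¹ (H.inv_mem hh) k⁻¹ (K.inv_mem hk)] }
  have hH : H ≤ P := fun h hh => ⟨h, hh, 1, K.one_mem, by simp⟩
  have hK : K ≤ P := fun k hk => ⟨1, H.one_mem, k, hk, by simp⟩
  exact (sup_le hH hK) hx

open Cfsg.Agent.Lib.Helper14 Cfsg.Agent.Lib.Helper99 in
/-- The replacement Theorem for the Thompson subgroup: from A of maximal order among elementary abelian p-subgroups one obtains A₀ = [V, A] C_A([V, A]) of the same kind, quadratic on V and nontrivial on V when A is. -/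
theorem result {G : Type*} [Group G] [Finite G] {p : ℕ} [Fact p.Prime] (V : Subgroup G) [V.Normal] (hV : Cfsg.IsElementaryAbelian p V) (A : Subgroup G) (hA : A ∈ Cfsg.maxElementaryAbelianSubgroups p G) : (⁅V, A⁆ ⊔ (A ⊓ Subgroup.centralizer ((⁅V, A⁆ : Subgroup G) : Set G))) ∈ Cfsg.maxElementaryAbelianSubgroups p G ∧ ⁅⁅V, ⁅V, A⁆ ⊔ (A ⊓ Subgroup.centralizer ((⁅V, A⁆ : Subgroup G) : Set G))⁆, ⁅V, A⁆ ⊔ (A ⊓ Subgroup.centralizer ((⁅V, A⁆ : Subgroup G) : Set G))⁆ = ⊥ ∧ (⁅V, A⁆ ≠ ⊥ → ⁅V, ⁅V, A⁆ ⊔ (A ⊓ Subgroup.centralizer ((⁅V, A⁆ : Subgroup G) : Set G))⁆ ≠ ⊥) := by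
  have hbest := Cfsg.Agent.S0606.result V hV A hA
  obtain ⟨hmax, hab, hpow⟩ := hbest
  have hVea := (isEA_iff V).mp hV
  have hAea := (isEA_iff A).mp hA.1
  have hVc : IsMulCommutative V := hV.1
  have hVn : ∀ X : Subgroup G, X ≤ Subgroup.normalizer (V : Set G) := by
    intro X; rw [Subgroup.normalizer_eq_top]; exact le_top
  have hmain := timmesfeld_main (V := V) (A := A) (U := V) hVc (hVn A) hab
    (fun Z hZ => hmax Z hZ) le_rfl
  obtain ⟨U, hU⟩ : ∃ U : Subgroup G, U = ⁅V, A⁆ := ⟨_, rfl⟩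
  rw [← hU] at hmain ⊢
  obtain ⟨D, hD⟩ : ∃ D : Subgroup G, D = A ⊓ Subgroup.centralizer ((U : Subgroup G) : Set G) :=
    ⟨_, rfl⟩
  rw [← hD] at hmain ⊢
  obtain ⟨hT1, hT2⟩ := hmain
  unfold offF at hT1
  have hUV : U ≤ V := by
    rw [hU]; exact Subgroup.commutator_le_left V A
  have hDA : D ≤ A := by rw [hD]; exact inf_le_left
  have hDU : ∀ u ∈ U, ∀ d ∈ D, u * d = d * u := by
    intro u hu d hd
    rw [hD] at hd
    exact (Subgroup.mem_centralizer_iff.mp hd.2 u hu)
  have hA0ea : IsElementaryAbelian p (U ⊔ D) :=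
    isEA_sup (isEA_mono hUV hV) (isEA_mono hDA hA.1) hDU
  -- C_V(A) ≤ A
  have hCVA_A : V ⊓ Subgroup.centralizer (A : Set G) ≤ A := by
    have hea : IsElementaryAbelian p (A ⊔ (V ⊓ Subgroup.centralizer (A : Set G))) := by
      apply isEA_sup hA.1 (isEA_mono inf_le_left hV)
      intro a ha c hc
      exact (Subgroup.mem_centralizer_iff.mp hc.2 a ha)
    have hcard := hA.2 _ hea
    have heq : A = A ⊔ (V ⊓ Subgroup.centralizer (A : Set G)) :=
      Subgroup.eq_of_le_of_card_ge le_sup_left hcard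
    exact le_sup_right.trans heq.symm.le
  have hCVA_D : V ⊓ Subgroup.centralizer (A : Set G) ≤ D := by
    intro x hx
    rw [hD]
    refine ⟨hCVA_A hx, ?_⟩
    show x ∈ Subgroup.centralizer (U : Set G)
    rw [Subgroup.mem_centralizer_iff]
    intro u hu
    exact hVea.1 u (hUV hu) x hx.1
  have hCVD_le : V ⊓ Subgroup.centralizer (D : Set G) ≤ U ⊔ D := by
    rw [hT2]
    exact sup_le le_sup_left (hCVA_D.trans le_sup_right)
  have hE_le : D ⊔ (V ⊓ Subgroup.centralizer (D : Set G)) ≤ U ⊔ D := sup_le le_sup_right hCVD_le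
  have hinf_le : D ⊓ (V ⊓ Subgroup.centralizer (D : Set G)) ≤
      V ⊓ Subgroup.centralizer (A : Set G) := by
    intro x hx
    refine ⟨hx.2.1, ?_⟩
    show x ∈ Subgroup.centralizer (A : Set G)
    rw [Subgroup.mem_centralizer_iff]
    intro a ha
    exact hAea.1 a ha x (hDA hx.1)
  have hcardA : Nat.card A ≤ Nat.card (U ⊔ D : Subgroup G) := by
    have h1 := card_mul_card_le_sup_mul_inf D (V ⊓ Subgroup.centralizer (D : Set G))
    have h2 := Subgroup.card_le_of_le hinf_le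
    have h3 := Subgroup.card_le_of_le hE_le
    have hpos : 0 < Nat.card (V ⊓ Subgroup.centralizer (A : Set G) : Subgroup G) := Nat.card_pos
    have h4 : Nat.card A * Nat.card (V ⊓ Subgroup.centralizer (A : Set G) : Subgroup G) ≤
        Nat.card (U ⊔ D : Subgroup G) *
          Nat.card (V ⊓ Subgroup.centralizer (A : Set G) : Subgroup G) := by
      calc Nat.card A * Nat.card (V ⊓ Subgroup.centralizer (A : Set G) : Subgroup G)
          = Nat.card D * Nat.card (V ⊓ Subgroup.centralizer (D : Set G) : Subgroup G) := hT1.symm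
        _ ≤ _ := h1
        _ ≤ _ := Nat.mul_le_mul h3 h2
    exact Nat.le_of_mul_le_mul_right h4 hpos
  have hA0C : U ⊔ D ≤ Subgroup.centralizer ((U : Subgroup G) : Set G) := by
    apply sup_le
    · intro u hu
      rw [Subgroup.mem_centralizer_iff]
      intro u' hu'
      exact hVea.1 u' (hUV hu') u (hUV hu)
    · rw [hD]; exact inf_le_right
  have hVA0 : ⁅V, U ⊔ D⁆ ≤ U := by
    rw [Subgroup.commutator_le]
    intro v hv x hx
    obtain ⟨u, hu, d, hd, rfl⟩ := exists_mul_of_mem_sup_of_commute U D hDU hx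
    have h1 : ⁅v, d⁆ ∈ U := by
      rw [hU]; exact Subgroup.commutator_mem_commutator hv (hDA hd)
    have h2 : ⁅v, u * d⁆ = ⁅v, d⁆ := by
      rw [commutatorElement_def, commutatorElement_def]
      have hc1 : v * u = u * v := hVea.1 v hv u (hUV hu)
      have hc2 : u * (v * d * v⁻¹ * d⁻¹) = (v * d * v⁻¹ * d⁻¹) * u := by
        have : v * d * v⁻¹ * d⁻¹ ∈ V := hUV (by rw [← commutatorElement_def]; exact h1)
        exact hVea.1 u (hUV hu) _ this
      calc v * (u * d) * v⁻¹ * (u * d)⁻¹ = (v * u) * d * v⁻¹ * d⁻¹ * u⁻¹ := by group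
        _ = u * (v * d * v⁻¹ * d⁻¹) * u⁻¹ := by rw [hc1]; group
        _ = v * d * v⁻¹ * d⁻¹ := by rw [hc2]; group
    rw [h2]; exact h1
  refine ⟨⟨hA0ea, fun B hB => (hA.2 B hB).trans hcardA⟩, ?_, ?_⟩
  · rw [eq_bot_iff]
    calc ⁅⁅V, U ⊔ D⁆, U ⊔ D⁆ ≤ ⁅U, Subgroup.centralizer ((U : Subgroup G) : Set G)⁆ :=
          Subgroup.commutator_mono hVA0 hA0C
      _ = ⊥ := by
          rw [Subgroup.commutator_eq_bot_iff_le_centralizer]
          intro u hu
          rw [Subgroup.mem_centralizer_iff]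
          intro c hc
          exact (Subgroup.mem_centralizer_iff.mp hc u hu).symm
  · intro hUne hbot
    apply hUne
    rw [hU]
    apply commutator_eq_bot_of_le_commutator_sup_fixed hVc hVea.2 (hVn A) hpow
    rw [← hU, ← hT2]
    apply le_inf le_rfl
    -- V ≤ C(D)
    have hVD : ⁅V, D⁆ = ⊥ := by
      rw [eq_bot_iff, ← hbot]
      exact Subgroup.commutator_mono le_rfl le_sup_right
    rw [Subgroup.commutator_eq_bot_iff_le_centralizer] at hVD
    exact hVD

end Cfsg.Agent.S0607
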