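import Cfsg.Statements.S0033
-- import your own Cfsg.Agent.* helpers here

import Cfsg.Agent.S0108
import Cfsg.Agent.Lib.Helper15.FPFMain

set_option autoImplicit false
open Cfsg

namespace Cfsg.Agent.S0033

open Cfsg.Agent.Lib.Helper15

universe u

theorem thompsonNPC_holds : ThompsonNPC.{u} :=
  fun _ _ _ _ _ hp2 P h1 h2 => (Cfsg.Agent.S0108.result hp2 P).mpr ⟨h1, h2⟩

theorem mulAut_pow_apply {G : Type u} [Group G] (φ : G ≃* G) (k : ℕ) (g : G) :
    ((φ : MulAut G) ^ k) g = (⇑φ)^[k] g := by
  induction k generalizing g with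
  | zero => rfl
  | succ k ih =>
    rw [pow_succ, MulAut.mul_apply, ih, Function.iterate_succ_apply]

/-- Thompson's Theorem on fixed-point-free automorphisms: a finite group with an automorphism of prime order fixing only the identity is nilpotent. -/
theorem result {G : Type*} [Group G] [Finite G] (φ : G ≃* G)
    (hφ : MonoidHom.FixedPointFree (φ : G →* G)) (p : ℕ) (hp : p.Prime) (hord : orderOf φ = p) :
    Group.IsNilpotent G := by
  have hper : ∀ g, ((φ : G →* G) : G → G)^[p] g = g := by
    intro g
    have h1 : (φ : MulAut G) ^ p = 1 := by rw [← hord]; exact pow_orderOf_eq_one φ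
    have h2 := mulAut_pow_apply φ p g
    rw [h1] at h2
    exact h2.symm
  exact nilpotent_of_fpf thompsonNPC_holds hp _ G rfl (φ : G →* G) ⟨hφ, hper⟩

end Cfsg.Agent.S0033
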