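import Cfsg.Statements.S0022
import Cfsg.Agent.Lib.Helper01.Coprime

set_option autoImplicit false
open Cfsg

namespace Cfsg.Agent.S0022

open Cfsg.Agent.Lib.Helper01 in
/-- Under coprime action fixed points pass to quotients: with A normalising K, coprime orders, A or K solvable, and N an A-invariant normal subgroup of K, every coset of N in K fixed by conjugation by A contains an element centralised by A. -/
theorem result {G : Type*} [Group G] [Finite G] (A K : Subgroup G) (hAK : A ≤ Subgroup.normalizer (K : Set G))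
    (hcop : (Nat.card A).Coprime (Nat.card K)) (hsolv : Group.IsSolvable A ∨ Group.IsSolvable K)
    (N : Subgroup G) (hNK : N ≤ K) (hNnormal : K ≤ Subgroup.normalizer (N : Set G)) (hNA : A ≤ Subgroup.normalizer (N : Set G))
    (k : G) (hk : k ∈ K) (hfix : ∀ a ∈ A, a * k * a⁻¹ * k⁻¹ ∈ N) :
    ∃ c ∈ K ⊓ Subgroup.centralizer (A : Set G), k⁻¹ * c ∈ N := by
  have hcopN : (Nat.card N).Coprime (Nat.card A) :=
    (Nat.Coprime.coprime_dvd_right (Subgroup.card_dvd_of_le hNK) hcop).symm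
  have hsolv' : Group.IsSolvable N ∨ Group.IsSolvable A := by
    rcases hsolv with h | h
    · exact Or.inr h
    · exact Or.inl (isSolvable_of_le hNK h)
  have hk' : ∀ a ∈ A, k⁻¹ * a * k * a⁻¹ ∈ N := by
    intro a ha
    have h1 := (Subgroup.mem_normalizer_iff.mp (hNnormal (K.inv_mem hk)) _).mp (hfix a ha)
    have : k⁻¹ * (a * k * a⁻¹ * k⁻¹) * k⁻¹⁻¹ = k⁻¹ * a * k * a⁻¹ := by group
    rwa [this] at h1
  obtain ⟨n, hn, hnA⟩ := exists_mul_inv_normalizes hNA hcopN hsolv' k hk'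
  have hdisj : K ⊓ A = ⊥ := (Subgroup.disjoint_of_coprime_natCard hcop.symm).eq_bot
  have hcK : n * k⁻¹ ∈ K := K.mul_mem (hNK hn) (K.inv_mem hk)
  have hcent := mem_centralizer_of_conj_smul_eq hAK hdisj hcK hnA
  refine ⟨(n * k⁻¹)⁻¹, Subgroup.mem_inf.mpr ⟨K.inv_mem hcK, Subgroup.inv_mem _ hcent⟩, ?_⟩
  have : k⁻¹ * (n * k⁻¹)⁻¹ = n⁻¹ := by group
  rw [this]
  exact N.inv_mem hn

end Cfsg.Agent.S0022
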