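import Cfsg.Statements.S0026
import Cfsg.Agent.Lib.Helper01.Commutator
import Cfsg.Agent.S0022

set_option autoImplicit false
open Cfsg

namespace Cfsg.Agent.S0026

open Cfsg.Agent.Lib.Helper01 in
open scoped commutatorElement in
/-- Under coprime action the acted-on group factorises as the commutator with A times the fixed points: K = [K, A] C_K(A). -/
theorem result {G : Type*} [Group G] [Finite G] (A K : Subgroup G) (hAK : A ≤ Subgroup.normalizer (K : Set G))
    (hcop : (Nat.card A).Coprime (Nat.card K)) (hsolv : Group.IsSolvable A ∨ Group.IsSolvable K) :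
    ⁅K, A⁆ ⊔ (K ⊓ Subgroup.centralizer (A : Set G)) = K := by
  have hNK : ⁅K, A⁆ ≤ K := Subgroup.le_normalizer_iff_commutator_le_left.mp hAK
  apply le_antisymm (sup_le hNK inf_le_left)
  intro k hk
  have hfix : ∀ a ∈ A, a * k * a⁻¹ * k⁻¹ ∈ ⁅K, A⁆ := by
    intro a ha
    rw [Subgroup.commutator_comm]
    exact Subgroup.commutator_mem_commutator ha hk
  obtain ⟨c, hc, hkc⟩ := Cfsg.Agent.S0022.result A K hAK hcop hsolv ⁅K, A⁆ hNK
    (le_normalizer_commutator_left K A) (le_normalizer_commutator_right K A) k hk hfix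
  have h2 : k = c * (k⁻¹ * c)⁻¹ := by group
  rw [h2, sup_comm]
  exact Subgroup.mul_mem_sup hc (Subgroup.inv_mem _ hkc)

end Cfsg.Agent.S0026
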