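import Cfsg.Statements.S0046
import Cfsg.Agent.S0034
import Cfsg.Agent.Lib.Helper77.ConjUnion

set_option autoImplicit false
open Cfsg

namespace Cfsg.Agent.S0046

open scoped Pointwise
open Cfsg.Agent.Lib.Helper77

theorem card_lt_of_lt {G : Type*} [Group G] [Finite G] {H K : Subgroup G} (h : H < K) :
    Nat.card H < Nat.card K :=
  Set.Finite.card_lt_card (Set.toFinite _) (SetLike.coe_ssubset_coe.2 h)

theorem zpowers_ne_top_of_not_comm {G : Type*} [Group G] (hnc : ¬ ∀ a b : G, a * b = b * a)
    (x : G) : Subgroup.zpowers x ≠ ⊤ := by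
  intro h
  apply hnc
  intro a b
  have ha : a ∈ Subgroup.zpowers x := by rw [h]; trivial
  have hb : b ∈ Subgroup.zpowers x := by rw [h]; trivial
  obtain ⟨i, rfl⟩ := Subgroup.mem_zpowers_iff.1 ha
  obtain ⟨j, rfl⟩ := Subgroup.mem_zpowers_iff.1 hb
  exact zpow_mul_comm x i j

theorem coatom_ne_bot {G : Type*} [Group G] [Nontrivial G] (hnc : ¬ ∀ a b : G, a * b = b * a)
    (M : Subgroup G) (hM : IsCoatom M) : M ≠ ⊥ := by
  rintro rfl
  obtain ⟨x, hx⟩ := exists_ne (1 : G)
  have h1 : (⊥ : Subgroup G) < Subgroup.zpowers x := by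
    rw [bot_lt_iff_ne_bot]
    intro h
    exact hx (Subgroup.zpowers_eq_bot.1 h)
  exact zpowers_ne_top_of_not_comm hnc x (hM.lt_iff.1 h1)

theorem coatom_normalizer {G : Type*} [Group G] [IsSimpleGroup G]
    (hnc : ¬ ∀ a b : G, a * b = b * a)
    (M : Subgroup G) (hM : IsCoatom M) : Subgroup.normalizer (M : Set G) = M := by
  have hne : Subgroup.normalizer (M : Set G) ≠ ⊤ := by
    intro h
    rw [Subgroup.normalizer_eq_top_iff] at h
    rcases h.eq_bot_or_eq_top with h1 | h1
    · exact coatom_ne_bot hnc M hM h1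
    · exact hM.1 h1
  exact (hM.le_iff_eq hne).1 Subgroup.le_normalizer

theorem conj_coatom {G : Type*} [Group G] (M : Subgroup G) (hM : IsCoatom M) (g : G) :
    IsCoatom (MulAut.conj g • M) :=
  (OrderIso.isCoatom_iff (MulEquiv.mapSubgroup (MulAut.conj g)) M).2 hM

/-- In a nilpotent subgroup `M`, a proper subgroup `D` is properly contained in its
normalizer in `M`. -/
theorem exists_normalizing {G : Type*} [Group G] (M D : Subgroup G)
    (hM : Group.IsNilpotent M) (hDM : D < M) :
    ∃ y : G, y ∈ M ∧ y ∉ D ∧ y ∈ Subgroup.normalizer (D : Set G) := by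
  have hnc := Group.normalizerCondition_of_isNilpotent (G := M)
  have hlt : D.subgroupOf M < ⊤ := by
    rw [lt_top_iff_ne_top]
    intro h
    rw [Subgroup.subgroupOf_eq_top] at h
    exact (not_le_of_gt hDM) h
  obtain ⟨y, hyn, hyD⟩ := SetLike.exists_of_lt (hnc _ hlt)
  refine ⟨(y : G), y.2, fun h => hyD (Subgroup.mem_subgroupOf.2 h), ?_⟩
  rw [Subgroup.mem_normalizer_iff] at hyn ⊢
  intro h
  by_cases hh : h ∈ M
  · have := hyn ⟨h, hh⟩
    simpa [Subgroup.mem_subgroupOf] using this
  · constructor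
    · intro hD; exact absurd (hDM.le hD) hh
    · intro hD
      exfalso
      apply hh
      have h1 : (y : G) * h * (y : G)⁻¹ ∈ M := hDM.le hD
      have h2 := M.mul_mem (M.mul_mem (M.inv_mem y.2) h1) y.2
      have e : (y : G)⁻¹ * ((y : G) * h * (y : G)⁻¹) * (y : G) = h := by group
      rwa [e] at h2

/-- Distinct maximal subgroups of a nonabelian simple group with nilpotent maximal subgroups
intersect trivially. -/
theorem coatoms_ti {G : Type*} [Group G] [Finite G] [IsSimpleGroup G]
    (h : ∀ M : Subgroup G, IsCoatom M → Group.IsNilpotent M)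
    (M1 M2 : Subgroup G) (h1 : IsCoatom M1) (h2 : IsCoatom M2) (hne : M1 ≠ M2) :
    M1 ⊓ M2 = ⊥ := by
  by_contra hD
  let P : Set (Subgroup G × Subgroup G) :=
    {p | IsCoatom p.1 ∧ IsCoatom p.2 ∧ p.1 ≠ p.2 ∧ p.1 ⊓ p.2 ≠ ⊥}
  have hPne : P.Nonempty := ⟨(M1, M2), h1, h2, hne, hD⟩
  obtain ⟨⟨A, B⟩, ⟨hA, hB, hAB, hABD⟩, hmax⟩ :=
    Set.exists_max_image P (fun p => Nat.card (p.1 ⊓ p.2 : Subgroup G)) (Set.toFinite P) hPne
  simp only at hA hB hAB hABD
  have hDnorm : Subgroup.normalizer ((A ⊓ B : Subgroup G) : Set G) ≠ ⊤ := by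
    intro hn
    rw [Subgroup.normalizer_eq_top_iff] at hn
    rcases hn.eq_bot_or_eq_top with h0 | h0
    · exact hABD h0
    · apply hA.1
      rw [eq_top_iff, ← h0]
      exact inf_le_left
  obtain ⟨M3, hM3, hNM3⟩ := (eq_top_or_exists_le_coatom _).resolve_left hDnorm
  have aux : ∀ Ma : Subgroup G, IsCoatom Ma → A ⊓ B ≤ Ma → A ⊓ B ≠ Ma → Ma = M3 := by
    intro Ma hMa hle hneq
    by_contra hMa3
    obtain ⟨y, hyM, hyD, hyN⟩ :=
      exists_normalizing Ma (A ⊓ B) (h Ma hMa) (lt_of_le_of_ne hle hneq)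
    have hlt : A ⊓ B < Ma ⊓ M3 := by
      refine lt_of_le_of_ne (le_inf hle (Subgroup.le_normalizer.trans hNM3)) ?_
      intro heq
      apply hyD
      rw [heq]
      exact ⟨hyM, hNM3 hyN⟩
    have hmem : (Ma, M3) ∈ P := by
      refine ⟨hMa, hM3, hMa3, fun hb => hABD ?_⟩
      have := hlt.le
      rw [hb] at this
      exact le_bot_iff.1 this
    have hle' := hmax (Ma, M3) hmem
    exact absurd (card_lt_of_lt hlt) (not_lt.2 hle')
  have hA3 : A = M3 := aux A hA inf_le_left (fun heq => by
    have hAB' : A ≤ B := by rw [← heq]; exact inf_le_right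
    exact hAB ((hA.le_iff_eq hB.1).1 hAB').symm)
  have hB3 : B = M3 := aux B hB inf_le_right (fun heq => by
    have hBA' : B ≤ A := by rw [← heq]; exact inf_le_left
    exact hAB ((hB.le_iff_eq hA.1).1 hBA'))
  exact hAB (hA3.trans hB3.symm)

theorem coatom_frob {G : Type*} [Group G] [Finite G] [IsSimpleGroup G]
    (hnc : ¬ ∀ a b : G, a * b = b * a)
    (h : ∀ M : Subgroup G, IsCoatom M → Group.IsNilpotent M)
    (M : Subgroup G) (hM : IsCoatom M) : Cfsg.IsFrobeniusComplement M := by
  refine ⟨coatom_ne_bot hnc M hM, hM.1, fun g hg => ?_⟩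
  apply coatoms_ti h M _ hM (conj_coatom M hM g)
  intro heq
  apply hg
  rw [← coatom_normalizer hnc M hM, Subgroup.mem_normalizer_iff_map_conj_eq]
  exact heq.symm

theorem two_mul_index_le {G : Type*} [Group G] [Finite G] (M : Subgroup G) (hM : M ≠ ⊥) :
    2 * M.index ≤ Nat.card G := by
  have h1 : Nat.card M ≠ 1 := fun hc => hM (Subgroup.card_eq_one.1 hc)
  have h0 : 0 < Nat.card M := Nat.card_pos
  have h2 : 2 ≤ Nat.card M := by omega
  rw [← M.index_mul_card, mul_comm]
  exact Nat.mul_le_mul_left _ h2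

theorem simple_case {G : Type*} [Group G] [Finite G] [IsSimpleGroup G]
    (h : ∀ M : Subgroup G, IsCoatom M → Group.IsNilpotent M) : Group.IsSolvable G := by
  by_contra hns
  have hnc : ¬ ∀ a b : G, a * b = b * a := fun hc => hns (Group.isSolvable_of_comm hc)
  obtain ⟨M, hM, -⟩ := (eq_top_or_exists_le_coatom (⊥ : Subgroup G)).resolve_left bot_ne_top
  obtain ⟨x, hx⟩ := exists_not_mem_conj M hM.1
  obtain ⟨M', hM', hxM'⟩ := (eq_top_or_exists_le_coatom (Subgroup.zpowers x)).resolve_left
    (zpowers_ne_top_of_not_comm hnc x)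
  have hxM'' : x ∈ M' := hxM' (Subgroup.mem_zpowers x)
  have hF := coatom_frob hnc h M hM
  have hF' := coatom_frob hnc h M' hM'
  have hk := (Cfsg.Agent.S0034.result M hF).1
  have hk' := (Cfsg.Agent.S0034.result M' hF').1
  have hcover : Cfsg.frobeniusKernel M ∪ Cfsg.frobeniusKernel M' = Set.univ := by
    rw [Set.eq_univ_iff_forall]
    intro y
    by_contra hy
    rw [Set.mem_union, not_or] at hy
    obtain ⟨hy1, hy2⟩ := hy
    simp only [Cfsg.frobeniusKernel, Set.mem_ofPred_eq, not_or, not_forall, not_not] at hy1 hy2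
    obtain ⟨hy1ne, g, hg⟩ := hy1
    obtain ⟨-, g', hg'⟩ := hy2
    have heq : MulAut.conj g • M = MulAut.conj g' • M' := by
      by_contra hne
      have hti := coatoms_ti h _ _ (conj_coatom M hM g) (conj_coatom M' hM' g') hne
      have hy : y ∈ (MulAut.conj g • M) ⊓ (MulAut.conj g' • M') := ⟨hg, hg'⟩
      rw [hti, Subgroup.mem_bot] at hy
      exact hy1ne hy
    apply hx (g'⁻¹ * g)
    rw [map_mul, mul_smul, heq, ← mul_smul, ← map_mul, inv_mul_cancel, map_one, one_smul]
    exact hxM''
  have h1in : (1 : G) ∈ Cfsg.frobeniusKernel M ∩ Cfsg.frobeniusKernel M' :=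
    ⟨Or.inl rfl, Or.inl rfl⟩
  have hcount := Set.ncard_union_add_ncard_inter (Cfsg.frobeniusKernel M)
    (Cfsg.frobeniusKernel M') (Set.toFinite _) (Set.toFinite _)
  rw [hcover, Set.ncard_univ] at hcount
  have hinter : 1 ≤ (Cfsg.frobeniusKernel M ∩ Cfsg.frobeniusKernel M').ncard := by
    rw [Nat.succ_le_iff, Set.ncard_pos (Set.toFinite _)]
    exact ⟨1, h1in⟩
  rw [Nat.card_coe_set_eq] at hk hk'
  have hm := two_mul_index_le M (coatom_ne_bot hnc M hM)
  have hm' := two_mul_index_le M' (coatom_ne_bot hnc M' hM')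
  omega

theorem nilpotent_of_le {G : Type*} [Group G] {N M : Subgroup G} (hNM : N ≤ M)
    (hM : Group.IsNilpotent M) : Group.IsNilpotent N := by
  obtain ⟨n, hn⟩ := (Subgroup.isNilpotent_iff_lowerCentralSeries M).1 hM
  refine (Subgroup.isNilpotent_iff_lowerCentralSeries N).2 ⟨n, ?_⟩
  have := Subgroup.lowerCentralSeries_mono n hNM
  simp only at this
  rw [hn] at this
  exact le_bot_iff.1 this

theorem map_nilpotent {G H : Type*} [Group G] [Group H] (f : G →* H) (M : Subgroup G)
    (hM : Group.IsNilpotent M) : Group.IsNilpotent (M.map f) := by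
  obtain ⟨n, hn⟩ := (Subgroup.isNilpotent_iff_lowerCentralSeries M).1 hM
  exact (Subgroup.isNilpotent_iff_lowerCentralSeries _).2
    ⟨n, by rw [← Subgroup.map_lowerCentralSeries, hn, Subgroup.map_bot]⟩

theorem comap_coatom {G : Type*} [Group G] (N : Subgroup G) [N.Normal]
    (Mb : Subgroup (G ⧸ N)) (hMb : IsCoatom Mb) :
    IsCoatom (Mb.comap (QuotientGroup.mk' N)) := by
  have hsurj := QuotientGroup.mk'_surjective N
  constructor
  · intro htop
    apply hMb.1
    rw [← Subgroup.map_comap_eq_self_of_surjective hsurj Mb, htop,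
      Subgroup.map_top_of_surjective _ hsurj]
  · intro K hK
    have h1 : Mb < K.map (QuotientGroup.mk' N) := by
      refine lt_of_le_of_ne ?_ ?_
      · rw [← Subgroup.map_comap_eq_self_of_surjective hsurj Mb]
        exact Subgroup.map_mono hK.le
      · intro heq
        have : K ≤ Mb.comap (QuotientGroup.mk' N) := by
          rw [heq]; exact Subgroup.le_comap_map _ _
        exact (not_le_of_gt hK) this
    have h2 := hMb.2 _ h1
    have hker : (QuotientGroup.mk' N).ker ≤ K :=
      le_trans (Subgroup.ker_le_comap _ _) hK.le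
    rw [← Subgroup.comap_map_eq_self hker, h2, Subgroup.comap_top]

universe u

theorem main : ∀ (n : ℕ) (G : Type u) [Group G] [Finite G], Nat.card G = n →
    (∀ M : Subgroup G, IsCoatom M → Group.IsNilpotent M) → Group.IsSolvable G := by
  intro n
  induction n using Nat.strong_induction_on with
  | _ n ih =>
  intro G _ _ hn h
  by_cases hs : IsSimpleGroup G
  · exact simple_case h
  · by_cases hsub : Subsingleton G
    · exact Group.isSolvable_of_comm (fun a b => by rw [Subsingleton.elim a b])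
    · have hnt : Nontrivial G := not_subsingleton_iff_nontrivial.1 hsub
      have hex : ∃ N : Subgroup G, N.Normal ∧ N ≠ ⊥ ∧ N ≠ ⊤ := by
        by_contra hcon
        push Not at hcon
        exact hs (@IsSimpleGroup.mk _ _ hnt (fun N hN => by
          by_cases hb : N = ⊥
          · left; exact hb
          · right; exact hcon N hN hb))
      obtain ⟨N, hNn, hNb, hNt⟩ := hex
      obtain ⟨M, hM, hNM⟩ := (eq_top_or_exists_le_coatom N).resolve_left hNt
      have hNnil : Group.IsNilpotent N := nilpotent_of_le hNM (h M hM)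
      have hNsol : Group.IsSolvable N := inferInstance
      have hQ : Group.IsSolvable (G ⧸ N) := by
        apply ih (Nat.card (G ⧸ N)) _ (G ⧸ N) rfl
        · intro Mb hMb
          have hco := comap_coatom N Mb hMb
          have h3 := map_nilpotent (QuotientGroup.mk' N) _ (h _ hco)
          rwa [Subgroup.map_comap_eq_self_of_surjective (QuotientGroup.mk'_surjective N)] at h3
        · have h2 := two_mul_index_le N hNb
          have h0 : 0 < N.index := Nat.pos_of_ne_zero Subgroup.index_ne_zero_of_finite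
          rw [← Subgroup.index_eq_card, ← hn]
          omega
      exact Group.isSolvable_of_ker_le_range N.subtype (QuotientGroup.mk' N)
        (by rw [QuotientGroup.ker_mk', Subgroup.range_subtype])

/-- Schmidt's Theorem on minimal non-nilpotent groups: a finite group in which every maximal subgroup is nilpotent is solvable. -/
theorem result {G : Type*} [Group G] [Finite G]
    (h : ∀ M : Subgroup G, IsCoatom M → Group.IsNilpotent M) : Group.IsSolvable G :=
  main (Nat.card G) G rfl h

end Cfsg.Agent.S0046
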