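import Cfsg.Statements.S0041
import Mathlib
import Cfsg.Agent.Lib.Helper02.FpfCyclic

set_option autoImplicit false
open Cfsg

namespace Cfsg.Agent.S0041

section aux
variable {G : Type*} [Group G]

/-- conjugation by an element of the normalizer, as an automorphism of `V`. -/
def conjAut (V : Subgroup G) (a : G) (ha : a ∈ Subgroup.normalizer (V : Set G)) : MulAut V where
  toFun v := ⟨a * v.1 * a⁻¹, (Subgroup.mem_normalizer_iff.mp ha v.1).mp v.2⟩
  invFun v := ⟨a⁻¹ * v.1 * a, by
    have := (Subgroup.mem_normalizer_iff.mp ha (a⁻¹ * v.1 * a)).mpr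
    apply this
    have h : a * (a⁻¹ * v.1 * a) * a⁻¹ = v.1 := by group
    rw [h]; exact v.2⟩
  left_inv v := by
    apply Subtype.ext
    simp only
    group
  right_inv v := by
    apply Subtype.ext
    simp only
    group
  map_mul' x y := by
    apply Subtype.ext
    simp only [Subgroup.coe_mul]
    group

/-- the conjugation action of `A` on `V` as a homomorphism to `MulAut V` -/
def conjActHom (A V : Subgroup G) (hAV : A ≤ Subgroup.normalizer (V : Set G)) : A →* MulAut V where
  toFun a := conjAut V a.1 (hAV a.2)
  map_one' := by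
    ext v
    simp [conjAut]
  map_mul' a b := by
    ext v
    simp only [conjAut, Subgroup.coe_mul, MulAut.mul_apply, MulEquiv.coe_mk, Equiv.coe_fn_mk]
    group

theorem conjActHom_apply (A V : Subgroup G) (hAV : A ≤ Subgroup.normalizer (V : Set G))
    (a : A) (v : V) : ((conjActHom A V hAV a v : V) : G) = a.1 * v.1 * a.1⁻¹ := rfl

end aux

/-- A group acting on a nontrivial abelian group so that no nonidentity element has a nonidentity fixed point is cyclic, provided it is abelian or its order is a product of two (possibly equal) primes. -/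
theorem result {G : Type*} [Group G] [Finite G] (A V : Subgroup G) [IsMulCommutative V]
    (hV : V ≠ ⊥) (hAV : A ≤ Subgroup.normalizer (V : Set G)) (hfpf : ∀ a ∈ A, a ≠ 1 → V ⊓ Subgroup.centralizer {a} = ⊥)
    (hA : IsMulCommutative A ∨ ∃ p q : ℕ, p.Prime ∧ q.Prime ∧ Nat.card A = p * q) : IsCyclic A := by
  letI : CommGroup V :=
    { (inferInstance : Group V) with
      mul_comm := fun a b => (IsMulCommutative.is_comm (M := V)).comm a b }
  letI : MulDistribMulAction A V := MulDistribMulAction.compHom V (conjActHom A V hAV)
  haveI : Nontrivial V := (Subgroup.nontrivial_iff_ne_bot V).mpr hV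
  have hsmul : ∀ (a : A) (v : V), ((a • v : V) : G) = a.1 * v.1 * a.1⁻¹ := fun a v => rfl
  apply Lib.Helper02.isCyclic_of_fpf (A := A) (W := V)
  · intro a ha v hv
    have ha1 : (a : G) ≠ 1 := fun h => ha (Subtype.ext h)
    have h1 := hfpf a.1 a.2 ha1
    have h2 : (v : G) ∈ V ⊓ Subgroup.centralizer {(a : G)} := by
      refine ⟨v.2, ?_⟩
      show (v : G) ∈ Subgroup.centralizer {(a : G)}
      rw [Subgroup.mem_centralizer_iff]
      intro x hx
      rw [Set.mem_singleton_iff] at hx
      subst hx
      have := congrArg Subtype.val hv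
      rw [hsmul] at this
      calc (a : G) * v.1 = a.1 * v.1 * a.1⁻¹ * a.1 := by group
        _ = v.1 * a.1 := by rw [this]
    rw [h1, Subgroup.mem_bot] at h2
    exact Subtype.ext h2
  · rcases hA with hA | hA
    · left
      intro a b
      exact hA.is_comm.comm a b
    · right; exact hA

end Cfsg.Agent.S0041
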