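import Cfsg.Statements.S0040
import Mathlib
import Cfsg.Agent.S0016
import Cfsg.Agent.S0023
import Cfsg.Agent.S0041
import Cfsg.Agent.Lib.Helper01.Coprime
import Cfsg.Agent.Lib.Helper03.CyclicPGroup

set_option autoImplicit false
open Cfsg

namespace Cfsg.Agent.S0040

section aux
variable {G : Type*} [Group G] [Finite G]

/-- subgroups of order `p²` of the complement are cyclic -/
theorem cyclic_of_card_sq (K H : Subgroup G) [K.Normal] (hK : K ≠ ⊥)
    (hfpf : ∀ h ∈ H, h ≠ 1 → K ⊓ Subgroup.centralizer {h} = ⊥)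
    (p : ℕ) [Fact p.Prime] (E : Subgroup G) (hEH : E ≤ H) (hE : Nat.card E = p * p) :
    IsCyclic E := by
  have hp : p.Prime := Fact.out
  have hEp : IsPGroup p E := IsPGroup.of_card (n := 2) (by rw [hE, sq])
  -- a nonidentity element of E
  have hEne : E ≠ ⊥ := by
    intro h
    rw [h, Subgroup.card_bot] at hE
    have := hp.one_lt
    nlinarith
  obtain ⟨⟨e₀, he₀E⟩, he₀⟩ := (Subgroup.ne_bot_iff_exists_ne_one).mp hEne
  have he₀1 : e₀ ≠ 1 := fun h => he₀ (Subtype.ext h)
  -- coprimality
  have hpK : ¬ p ∣ Nat.card K := by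
    intro hdvd
    letI : MulAction E K := MulAction.compHom K ((MulAut.conjNormal (H := K)).comp E.subtype)
    have h1 : (1 : K) ∈ MulAction.fixedPoints E K := by
      intro e
      show MulAut.conjNormal (e : G) (1 : K) = 1
      exact map_one _
    obtain ⟨b, hb, hne⟩ :=
      hEp.exists_fixed_point_of_prime_dvd_card_of_fixed_point (α := K) hdvd h1
    have h2 : MulAut.conjNormal e₀ b = b := hb ⟨e₀, he₀E⟩
    have h3 : (b : G) ∈ K ⊓ Subgroup.centralizer {e₀} := by
      refine ⟨b.2, ?_⟩
      show (b : G) ∈ Subgroup.centralizer {e₀}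
      rw [Subgroup.mem_centralizer_iff]
      intro x hx
      rw [Set.mem_singleton_iff] at hx
      subst hx
      have := congrArg Subtype.val h2
      rw [MulAut.conjNormal_apply] at this
      calc x * (b : G) = x * b * x⁻¹ * x := by group
        _ = b * x := by rw [this]
    rw [hfpf e₀ (hEH he₀E) he₀1, Subgroup.mem_bot] at h3
    exact hne (Subtype.ext h3).symm
  have hcop : (Nat.card E).Coprime (Nat.card K) := by
    rw [hE]
    have := (Nat.Prime.coprime_iff_not_dvd hp).mpr hpK
    exact Nat.Coprime.mul_left this this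
  -- an E-invariant Sylow subgroup of K
  have hK1 : Nat.card K ≠ 1 := by
    intro h
    exact hK (Subgroup.card_eq_one.mp h)
  obtain ⟨q, hq, hqK⟩ := Nat.exists_prime_and_dvd hK1
  haveI := Fact.mk hq
  have hEK : E ≤ Subgroup.normalizer (K : Set G) := by
    rw [Subgroup.normalizer_eq_top]; exact le_top
  haveI : Group.IsNilpotent E := hEp.isNilpotent
  have hsolvE : Group.IsSolvable E := inferInstance
  obtain ⟨Q, hQE⟩ := S0023.result E K hEK hcop (Or.inl hsolvE) q
  set Q' : Subgroup G := (Q : Subgroup K).map K.subtype with hQ'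
  have hQ'K : Q' ≤ K := Subgroup.map_subtype_le _
  have hQ'q : IsPGroup q Q' := Q.isPGroup'.map _
  have hQ'ne : Q' ≠ ⊥ := by
    rw [hQ', Ne, Subgroup.map_eq_bot_iff_of_injective _ K.subtype_injective]
    exact Q.ne_bot_of_dvd_card hqK
  -- V = Z(Q')
  set V : Subgroup G := Q' ⊓ Subgroup.centralizer (Q' : Set G) with hV
  haveI : IsMulCommutative V := by
    refine ⟨⟨fun a b => ?_⟩⟩
    apply Subtype.ext
    have h1 := (Subgroup.mem_centralizer_iff.mp b.2.2) a.1 a.2.1
    simpa using h1
  have hVne : V ≠ ⊥ := by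
    haveI : Nontrivial Q' := (Subgroup.nontrivial_iff_ne_bot _).mpr hQ'ne
    haveI := hQ'q.center_nontrivial
    obtain ⟨z, hz⟩ := exists_ne (1 : Subgroup.center Q')
    intro hbot
    have hzV : ((z : Q') : G) ∈ V := by
      refine ⟨(z : Q').2, ?_⟩
      show ((z : Q') : G) ∈ Subgroup.centralizer (Q' : Set G)
      rw [Subgroup.mem_centralizer_iff]
      intro x hx
      have := (Subgroup.mem_center_iff.mp z.2) ⟨x, hx⟩
      exact congrArg Subtype.val this
    rw [hbot, Subgroup.mem_bot] at hzV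
    apply hz
    apply Subtype.ext
    apply Subtype.ext
    exact hzV
  have hEV : E ≤ Subgroup.normalizer (V : Set G) := by
    rw [Subgroup.le_normalizer_iff]
    intro e he v hv
    have heN := hQE he
    refine ⟨(Subgroup.mem_normalizer_iff.mp heN v).mp hv.1, ?_⟩
    show e * v * e⁻¹ ∈ Subgroup.centralizer (Q' : Set G)
    rw [Subgroup.mem_centralizer_iff]
    intro x hx
    have hx' : e⁻¹ * x * e ∈ Q' := (Subgroup.mem_normalizer_iff''.mp heN x).mp hx
    have hcomm := (Subgroup.mem_centralizer_iff.mp hv.2) _ hx'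
    calc x * (e * v * e⁻¹) = e * ((e⁻¹ * x * e) * v) * e⁻¹ := by group
      _ = e * (v * (e⁻¹ * x * e)) * e⁻¹ := by rw [hcomm]
      _ = e * v * e⁻¹ * x := by group
  have hfpfV : ∀ e ∈ E, e ≠ 1 → V ⊓ Subgroup.centralizer {e} = ⊥ := by
    intro e he h1
    rw [eq_bot_iff, ← hfpf e (hEH he) h1]
    exact inf_le_inf_right _ (inf_le_left.trans hQ'K)
  exact S0041.result E V hVne hEV hfpfV (Or.inr ⟨p, p, hp, hp, hE⟩)

/-- a `p`-subgroup of the complement has at most one subgroup of order `p` -/
theorem unique_order_p (K H : Subgroup G) [K.Normal] (hK : K ≠ ⊥)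
    (hfpf : ∀ h ∈ H, h ≠ 1 → K ⊓ Subgroup.centralizer {h} = ⊥)
    (p : ℕ) [Fact p.Prime] (P' : Subgroup G) (hP'H : P' ≤ H) (hP' : IsPGroup p P')
    (X Y : Subgroup G) (hX : X ≤ P') (hY : Y ≤ P') (hXc : Nat.card X = p) (hYc : Nat.card Y = p) :
    X = Y := by
  have hp : p.Prime := Fact.out
  -- P' is nontrivial
  have hP'ne : P' ≠ ⊥ := by
    intro h
    have : X = ⊥ := eq_bot_iff.mpr (h ▸ hX)
    rw [this, Subgroup.card_bot] at hXc
    exact hp.one_lt.ne hXc
  haveI : Nontrivial P' := (Subgroup.nontrivial_iff_ne_bot _).mpr hP'ne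
  haveI := hP'.center_nontrivial
  -- central element of order p
  have hdvd : p ∣ Nat.card (Subgroup.center P') := by
    have hc : IsPGroup p (Subgroup.center P') := hP'.to_subgroup _
    exact hc.card_eq_or_dvd.resolve_left (Finite.one_lt_card (α := Subgroup.center P')).ne'
  obtain ⟨z₀, hz₀⟩ := exists_prime_orderOf_dvd_card' (G := Subgroup.center P') p hdvd
  set z : G := ((z₀ : P') : G) with hz
  have hzP : z ∈ P' := (z₀ : P').2
  have hzo : orderOf z = p := by
    rw [hz, Subgroup.orderOf_coe, Subgroup.orderOf_coe, hz₀]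
  have hzc : ∀ x ∈ P', x * z = z * x := by
    intro x hx
    have := (Subgroup.mem_center_iff.mp z₀.2) ⟨x, hx⟩
    exact congrArg Subtype.val this
  set Z₀ : Subgroup G := Subgroup.zpowers z with hZ₀
  have hZ₀c : Nat.card Z₀ = p := by rw [hZ₀, Nat.card_zpowers, hzo]
  have hZ₀P : Z₀ ≤ P' := (Subgroup.zpowers_le).mpr hzP
  -- every subgroup of order p equals Z₀
  have key : ∀ X : Subgroup G, X ≤ P' → Nat.card X = p → X = Z₀ := by
    intro X hX hXc
    by_contra hne
    have hinf : Z₀ ⊓ X = ⊥ := by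
      have hdvd : Nat.card (Z₀ ⊓ X : Subgroup G) ∣ p := by
        rw [← hXc]; exact Subgroup.card_dvd_of_le inf_le_right
      rcases (Nat.dvd_prime hp).mp hdvd with h1 | h1
      · exact Subgroup.card_eq_one.mp h1
      · exfalso
        have e1 : Z₀ ⊓ X = X := Subgroup.eq_of_le_of_card_ge inf_le_right (by rw [h1, hXc])
        have e2 : Z₀ ⊓ X = Z₀ := Subgroup.eq_of_le_of_card_ge inf_le_left (by rw [h1, hZ₀c])
        exact hne (e1.symm.trans e2)
    have hXN : X ≤ Subgroup.normalizer (Z₀ : Set G) := by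
      intro x hx
      have hxz : x * z = z * x := hzc x (hX hx)
      have hcent : x ∈ Subgroup.centralizer (Z₀ : Set G) := by
        rw [Subgroup.mem_centralizer_iff]
        intro y hy
        obtain ⟨k, rfl⟩ := Subgroup.mem_zpowers_iff.mp hy
        have hc : Commute z x := hxz.symm
        exact (hc.zpow_left k).eq
      exact Subgroup.centralizer_le_normalizer _ hcent
    have hcard := Lib.Helper01.card_sup_mul_card_inf_of_le_normalizer Z₀ X hXN
    rw [hinf, Subgroup.card_bot, mul_one, hZ₀c, hXc] at hcard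
    have hEH : X ⊔ Z₀ ≤ H := (sup_le hX hZ₀P).trans hP'H
    haveI hcyc : IsCyclic (X ⊔ Z₀ : Subgroup G) :=
      cyclic_of_card_sq K H hK hfpf p (X ⊔ Z₀) hEH hcard
    apply hne
    apply Subgroup.eq_of_le_of_card_ge
    · intro x hx
      have hzE : z ∈ X ⊔ Z₀ := le_sup_right (a := X) (Subgroup.mem_zpowers z)
      have hxE : x ∈ X ⊔ Z₀ := le_sup_left (b := Z₀) hx
      have hxp : (⟨x, hxE⟩ : (X ⊔ Z₀ : Subgroup G)) ^ p = 1 := by
        apply Subtype.ext
        rw [Subgroup.coe_pow, Subgroup.coe_one]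
        have : (⟨x, hx⟩ : X) ^ Nat.card X = 1 := pow_card_eq_one'
        rw [hXc] at this
        exact congrArg Subtype.val this
      have hdo : orderOf (⟨z, hzE⟩ : (X ⊔ Z₀ : Subgroup G)) = p := by
        rw [Subgroup.orderOf_mk, hzo]
      have hmem := Lib.Helper03.mem_zpowers_of_pow_eq_one_of_isCyclic hp.pos
        (⟨z, hzE⟩ : (X ⊔ Z₀ : Subgroup G)) ⟨x, hxE⟩ hdo hxp
      obtain ⟨k, hk⟩ := Subgroup.mem_zpowers_iff.mp hmem
      have hk' := congrArg Subtype.val hk
      rw [Subgroup.coe_zpow] at hk'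
      simp only at hk'
      rw [hZ₀, Subgroup.mem_zpowers_iff]
      exact ⟨k, hk'⟩
    · rw [hZ₀c, hXc]
  rw [key X hX hXc, key Y hY hYc]

end aux

/-- Sylow subgroups of Frobenius complements: if H complements a nontrivial normal subgroup K and every nonidentity element of H has trivial centraliser in K, then each Sylow subgroup of H is cyclic or isomorphic to a generalized quaternion group. -/
theorem result {G : Type*} [Group G] [Finite G] (K H : Subgroup G) [K.Normal]
    (hc : Subgroup.IsComplement' K H) (hK : K ≠ ⊥) (hfpf : ∀ h ∈ H, h ≠ 1 → K ⊓ Subgroup.centralizer {h} = ⊥)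
    (p : ℕ) [Fact p.Prime] (P : Sylow p H) :
    IsCyclic P ∨ ∃ n : ℕ, Nonempty (P ≃* QuaternionGroup (2 ^ n)) := by
  set ι : (P : Subgroup H) →* G := H.subtype.comp (P : Subgroup H).subtype with hι
  have hιinj : Function.Injective ι := by
    intro a b hab
    apply Subtype.ext
    apply Subtype.ext
    exact hab
  set P' : Subgroup G := (⊤ : Subgroup (P : Subgroup H)).map ι with hP'
  have hP'H : P' ≤ H := by
    rintro _ ⟨y, -, rfl⟩
    exact (y : H).2
  have hP'p : IsPGroup p P' := by
    have : IsPGroup p (⊤ : Subgroup (P : Subgroup H)) := P.isPGroup'.to_subgroup _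
    exact this.map ι
  have huniq : ∀ X Y : Subgroup (P : Subgroup H), Nat.card X = p → Nat.card Y = p → X = Y := by
    intro X Y hX hY
    have h1 := unique_order_p K H hK hfpf p P' hP'H hP'p (X.map ι) (Y.map ι)
      (Subgroup.map_mono le_top) (Subgroup.map_mono le_top)
      (by rw [Subgroup.card_map_of_injective hιinj, hX])
      (by rw [Subgroup.card_map_of_injective hιinj, hY])
    exact Subgroup.map_injective hιinj h1
  rcases S0016.result (G := (P : Subgroup H)) p P.isPGroup' huniq with h | ⟨-, h⟩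
  · left; exact h
  · right; exact h

end Cfsg.Agent.S0040
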