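import Cfsg.Statements.S0068
import Mathlib

set_option autoImplicit false
open Cfsg

namespace Cfsg.Agent.S0068

theorem inverts {G : Type*} [Group G] [Finite G] (K H : Subgroup G) [K.Normal]
    (hfpf : ∀ h ∈ H, h ≠ 1 → K ⊓ Subgroup.centralizer {h} = ⊥)
    (t : G) (htH : t ∈ H) (ht : orderOf t = 2) :
    (∀ k ∈ K, t * k * t⁻¹ = k⁻¹) ∧ ∀ a b : K, a * b = b * a := by
  have ht1 : t ≠ 1 := by
    rintro rfl
    simp at ht
  have ht2 : t * t = 1 := by
    have := pow_orderOf_eq_one t
    rwa [ht, pow_two] at this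
  have htinv : t⁻¹ = t := inv_eq_of_mul_eq_one_left ht2
  let φ : MulAut K := MulAut.conjNormal t
  have hφ : MonoidHom.FixedPointFree φ := by
    intro k hk
    have h1 : (φ k : G) = t * k * t⁻¹ := MulAut.conjNormal_apply t k
    have h2 : t * (k : G) * t⁻¹ = k := by rw [← h1, hk]
    have h3 : (k : G) ∈ K ⊓ Subgroup.centralizer {t} := by
      refine Subgroup.mem_inf.mpr ⟨k.2, ?_⟩
      rw [Subgroup.mem_centralizer_singleton_iff]
      have : t * (k : G) = k * t := by
        calc t * (k : G) = t * k * t⁻¹ * t := by group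
          _ = k * t := by rw [h2]
      exact this.symm
    rw [hfpf t htH ht1] at h3
    exact Subtype.ext (Subgroup.mem_bot.mp h3)
  have hinv : Function.Involutive φ := by
    intro k
    apply Subtype.ext
    have h1 : (φ (φ k) : G) = t * (φ k : G) * t⁻¹ := MulAut.conjNormal_apply t (φ k)
    have h2 : (φ k : G) = t * k * t⁻¹ := MulAut.conjNormal_apply t k
    rw [h1, h2, htinv]
    calc t * (t * (k : G) * t) * t = (t * t) * k * (t * t) := by group
      _ = k := by rw [ht2]; simp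
  constructor
  · intro k hk
    have h1 := congrFun (hφ.coe_eq_inv_of_involutive hinv) ⟨k, hk⟩
    have h2 : (φ ⟨k, hk⟩ : G) = t * k * t⁻¹ := MulAut.conjNormal_apply t ⟨k, hk⟩
    rw [← h2, h1]
    rfl
  · intro a b
    exact hφ.commute_all_of_involutive hinv a b

/-- Frobenius complements of even order: if H complements a nontrivial normal subgroup K, each nonidentity element of H has trivial centraliser in K, and H has even order, then H contains a unique involution s, K is abelian, and s inverts every element of K. -/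
theorem result {G : Type*} [Group G] [Finite G] (K H : Subgroup G) [K.Normal]
    (hc : Subgroup.IsComplement' K H) (hK : K ≠ ⊥) (hfpf : ∀ h ∈ H, h ≠ 1 → K ⊓ Subgroup.centralizer {h} = ⊥)
    (heven : 2 ∣ Nat.card H) :
    (∃ s ∈ H, orderOf s = 2 ∧ (∀ t ∈ H, orderOf t = 2 → t = s) ∧ ∀ k ∈ K, s * k * s⁻¹ = k⁻¹) ∧ IsMulCommutative K := by
  haveI : Fact (Nat.Prime 2) := ⟨Nat.prime_two⟩
  obtain ⟨s', hs'⟩ := exists_prime_orderOf_dvd_card' (G := H) 2 heven
  have hsH : (s' : G) ∈ H := s'.2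
  have hs : orderOf (s' : G) = 2 := by rw [Subgroup.orderOf_coe]; exact hs'
  obtain ⟨hs_inv, hcomm⟩ := inverts K H hfpf s' hsH hs
  refine ⟨⟨s', hsH, hs, ?_, hs_inv⟩, ⟨⟨hcomm⟩⟩⟩
  intro t htH ht
  obtain ⟨ht_inv, -⟩ := inverts K H hfpf t htH ht
  have hs2 : (s' : G) * s' = 1 := by
    have := pow_orderOf_eq_one (s' : G)
    rwa [hs, pow_two] at this
  by_contra hne
  have hst : (s' : G) * t ≠ 1 := by
    intro h1
    apply hne
    have : t = (s' : G)⁻¹ := (inv_eq_of_mul_eq_one_right h1).symm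
    rw [this]
    exact inv_eq_of_mul_eq_one_left hs2
  have hstH : (s' : G) * t ∈ H := H.mul_mem hsH htH
  have hbot := hfpf _ hstH hst
  apply hK
  rw [eq_bot_iff]
  intro k hk
  rw [← hbot]
  refine Subgroup.mem_inf.mpr ⟨hk, ?_⟩
  rw [Subgroup.mem_centralizer_singleton_iff]
  have h1 : t * k * t⁻¹ = k⁻¹ := ht_inv k hk
  have h2 : (s' : G) * k⁻¹ * (s' : G)⁻¹ = k := by
    have := hs_inv k⁻¹ (K.inv_mem hk)
    rwa [inv_inv] at this
  have h3 : (s' : G) * t * k * ((s' : G) * t)⁻¹ = k := by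
    calc (s' : G) * t * k * ((s' : G) * t)⁻¹ = (s' : G) * (t * k * t⁻¹) * (s' : G)⁻¹ := by group
      _ = k := by rw [h1, h2]
  calc k * ((s' : G) * t) = ((s' : G) * t * k * ((s' : G) * t)⁻¹) * ((s' : G) * t) := by rw [h3]
    _ = (s' : G) * t * k := by group

end Cfsg.Agent.S0068
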