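import Cfsg.Statements.S1474
import Cfsg.Agent.Lib.Helper33.CNFrob
-- import your own Cfsg.Agent.* helpers here

set_option autoImplicit false
open Cfsg

namespace Cfsg.Agent.S1474

open Cfsg.Agent.Lib.Helper33

/-- Let G be a finite group in which every non-identity element has nilpotent centralizer, not itself nilpotent, and having a nontrivial normal Sylow p-subgroup for some prime p. Let H be the largest normal nilpotent Hall subgroup of G. Then H is a nontrivial proper normal subgroup with a complement E that is a Frobenius complement in G (no non-identity element of E centralizes a non-identity element of H), and G/H is nilpotent. -/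
theorem result {G : Type*} [Group G] [Finite G] (hCN : Cfsg.IsCNGroup G) (hnn : ¬ Group.IsNilpotent G) (p : ℕ) [Fact p.Prime] (P : Sylow p G)
    (hP1 : (P : Subgroup G) ≠ ⊥) (hPn : (P : Subgroup G).Normal) :
    Cfsg.fittingHall G ≠ ⊥ ∧ Cfsg.fittingHall G ≠ ⊤ ∧
      (∃ E : Subgroup G, Subgroup.IsComplement' (Cfsg.fittingHall G) E ∧ Cfsg.IsFrobeniusComplement E ∧
        ∀ e ∈ E, e ≠ 1 → Cfsg.fittingHall G ⊓ Subgroup.centralizer ({e} : Set G) = ⊥) ∧
      Group.IsNilpotent (G ⧸ Cfsg.fittingHall G) := by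
  classical
  set H := Cfsg.fittingHall G with hHdef
  have hHnil : Group.IsNilpotent H := fittingHall_isNilpotent G
  have hPH : (P : Subgroup G) ≤ H := sylow_le_fittingHall P hPn
  have hHbot : H ≠ ⊥ := by
    intro h
    rw [h, le_bot_iff] at hPH
    exact hP1 hPH
  have hHtop : H ≠ ⊤ := by
    intro h
    rw [h] at hHnil
    haveI := hHnil
    exact hnn (Group.nilpotent_of_mulEquiv (Subgroup.topEquiv : (⊤ : Subgroup G) ≃* G))
  obtain ⟨E, hc⟩ := Subgroup.exists_right_complement'_of_coprime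
    (Cfsg.Agent.Lib.Helper31.fittingHall_coprime G)
  have hfpf := fpf_of_complement_fittingHall hCN E hc
  have hcop : (Nat.card H).Coprime (Nat.card E) := by
    have h1 := Cfsg.Agent.Lib.Helper31.fittingHall_coprime G
    rwa [hc.symm.index_eq_card] at h1
  have hdisj : H ⊓ E = ⊥ := disjoint_iff.mp hc.disjoint
  -- V = Z(P)
  haveI := hPn
  set V : Subgroup G := (Subgroup.center (P : Subgroup G)).map (P : Subgroup G).subtype with hVdef
  haveI hVn : V.Normal := ConjAct.normal_of_characteristic_of_normal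
  have hVP : V ≤ (P : Subgroup G) := Subgroup.map_subtype_le _
  have hVc : ∀ a ∈ V, ∀ b ∈ V, a * b = b * a := by
    rintro a ⟨a', ha', rfl⟩ b ⟨b', hb', rfl⟩
    have := Subgroup.mem_center_iff.mp ha' b'
    exact (congrArg Subtype.val this).symm
  have hVne : V ≠ ⊥ := by
    intro hbot
    rw [Subgroup.map_eq_bot_iff_of_injective _ (P : Subgroup G).subtype_injective] at hbot
    haveI : Nontrivial (P : Subgroup G) := (Subgroup.nontrivial_iff_ne_bot _).mpr hP1
    have := P.isPGroup'.center_nontrivial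
    rw [Subgroup.nontrivial_iff_ne_bot] at this
    exact this hbot
  have hcopV : (Nat.card E).Coprime (Nat.card V) :=
    (Nat.Coprime.coprime_dvd_left (Subgroup.card_dvd_of_le (hVP.trans hPH)) hcop).symm
  have hEnil : Group.IsNilpotent E :=
    isNilpotent_of_fpf_aux hCN V hVc hVne _ E rfl hcopV
      (fun e he he1 v hv => hfpf e he he1 v (hPH (hVP hv)))
  -- decomposition g = h * e
  have hdec : ∀ g : G, ∃ h ∈ H, ∃ e ∈ E, g = h * e := by
    intro g
    obtain ⟨⟨h, e⟩, hhe⟩ := hc.2 g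
    exact ⟨h, h.2, e, e.2, hhe.symm⟩
  refine ⟨hHbot, hHtop, ⟨E, hc, ⟨?_, ?_, ?_⟩, ?_⟩, ?_⟩
  · intro h
    rw [h] at hc
    exact hHtop (Subgroup.isComplement'_bot_right.mp hc)
  · intro h
    rw [h] at hc
    exact hHbot (Subgroup.isComplement'_top_right.mp hc)
  · intro g hg
    rw [eq_bot_iff]
    intro y hy
    rw [Subgroup.mem_bot]
    obtain ⟨hyE, hyg⟩ := Subgroup.mem_inf.mp hy
    rw [Subgroup.mem_smul_pointwise_iff_exists] at hyg
    obtain ⟨e₁, he₁, rfl⟩ := hyg
    rw [MulAut.smul_def, MulAut.conj_apply] at hyE ⊢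
    obtain ⟨h, hh, e₀, he₀, rfl⟩ := hdec g
    have hh1 : h ≠ 1 := by
      intro h1
      apply hg
      rw [h1, one_mul]; exact he₀
    set e₂ := e₀ * e₁ * e₀⁻¹ with he₂def
    have he₂ : e₂ ∈ E := E.mul_mem (E.mul_mem he₀ he₁) (E.inv_mem he₀)
    have hyeq : h * e₀ * e₁ * (h * e₀)⁻¹ = h * e₂ * h⁻¹ := by rw [he₂def]; group
    rw [hyeq] at hyE ⊢
    have hmemH : h * e₂ * h⁻¹ * e₂⁻¹ ∈ H := by
      have h1 : e₂ * h⁻¹ * e₂⁻¹ ∈ H := (Cfsg.fittingHall_normal G).conj_mem _ (H.inv_mem hh) e₂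
      have : h * e₂ * h⁻¹ * e₂⁻¹ = h * (e₂ * h⁻¹ * e₂⁻¹) := by group
      rw [this]
      exact H.mul_mem hh h1
    have hmemE : h * e₂ * h⁻¹ * e₂⁻¹ ∈ E := E.mul_mem hyE (E.inv_mem he₂)
    have h1 : h * e₂ * h⁻¹ * e₂⁻¹ ∈ H ⊓ E := Subgroup.mem_inf.mpr ⟨hmemH, hmemE⟩
    rw [hdisj, Subgroup.mem_bot] at h1
    have hcomm : e₂ * h = h * e₂ := by
      have : h * e₂ * h⁻¹ = e₂ := by
        calc h * e₂ * h⁻¹ = (h * e₂ * h⁻¹ * e₂⁻¹) * e₂ := by group
          _ = e₂ := by rw [h1, one_mul]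
      calc e₂ * h = (h * e₂ * h⁻¹) * h := by rw [this]
        _ = h * e₂ := by group
    by_cases he₂1 : e₂ = 1
    · rw [he₂1]; group
    · exact absurd (hfpf e₂ he₂ he₂1 h hh hcomm) hh1
  · intro e he he1
    rw [eq_bot_iff]
    intro h hh
    rw [Subgroup.mem_bot]
    obtain ⟨hhH, hhC⟩ := Subgroup.mem_inf.mp hh
    rw [Subgroup.mem_centralizer_iff] at hhC
    exact hfpf e he he1 h hhH (hhC e rfl)
  · haveI := hEnil
    let f : E →* G ⧸ H := (QuotientGroup.mk' H).comp E.subtype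
    apply Group.nilpotent_of_surjective f
    intro c
    obtain ⟨g, rfl⟩ := QuotientGroup.mk'_surjective H c
    obtain ⟨h, hh, e, he, rfl⟩ := hdec g
    refine ⟨⟨e, he⟩, ?_⟩
    show QuotientGroup.mk' H e = QuotientGroup.mk' H (h * e)
    have h1 : QuotientGroup.mk' H h = 1 := (QuotientGroup.eq_one_iff h).mpr hh
    rw [map_mul, h1, one_mul]

end Cfsg.Agent.S1474
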