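import Cfsg.Statements.S1476
import Cfsg.Agent.S1473
import Cfsg.Agent.S1474
import Cfsg.Agent.Lib.Helper01.FpfQuotient
import Cfsg.Agent.Lib.Helper01.FrobComplNilp
import Cfsg.Agent.Lib.Helper01.OrderAux
import Cfsg.Agent.Lib.Helper01.CyclicAux
import Cfsg.Agent.Lib.Helper01.Basic
import Cfsg.Agent.Lib.Helper01.PCore
import Cfsg.Agent.Lib.Helper01.Fitting
import Cfsg.Agent.Lib.Helper13.Fitting
import Cfsg.Agent.Lib.Helper14.NilpHall
import Cfsg.Agent.Lib.Helper33.CNQuot
import Cfsg.Agent.Lib.Helper33.CNGroup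
import Cfsg.Agent.Lib.Helper69.Nilpotent

set_option autoImplicit false
set_option linter.style.haveILetI false
open Cfsg
open Cfsg.Agent.Lib.Helper01

namespace Cfsg.Agent.S1476

open scoped Pointwise

/-- the case of a nontrivial normal Sylow subgroup -/
theorem caseA {G : Type*} [Group G] [Finite G] (hCN : Cfsg.IsCNGroup G)
    (hnn : ¬ Group.IsNilpotent G) (p : ℕ) [Fact p.Prime] (P : Sylow p G)
    (hP1 : (P : Subgroup G) ≠ ⊥) (hPn : (P : Subgroup G).Normal) :
    ∃ K E : Subgroup G, K.Normal ∧ Subgroup.IsComplement' K E ∧ Cfsg.IsFrobeniusComplement E ∧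
      (IsCyclic E ∨ ∃ C Q : Subgroup G, C ⊔ Q = E ∧ (∀ a ∈ C, ∀ b ∈ Q, a * b = b * a) ∧
        IsCyclic C ∧ Odd (Nat.card C) ∧ ∃ n : ℕ, Nonempty (↥Q ≃* QuaternionGroup (2 ^ n))) := by
  obtain ⟨hH1, -, ⟨E, hc, hE, hfpf⟩, hnil⟩ := Cfsg.Agent.S1474.result hCN hnn p P hP1 hPn
  refine ⟨Cfsg.fittingHall G, E, inferInstance, hc, hE, ?_⟩
  have hEnil : Group.IsNilpotent E := by
    let f : E →* G ⧸ Cfsg.fittingHall G := (QuotientGroup.mk' (Cfsg.fittingHall G)).comp E.subtype
    apply Lib.Helper33.isNilpotent_of_inj f _ hnil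
    rw [injective_iff_map_eq_one]
    intro e he
    have h1 : (e : G) ∈ Cfsg.fittingHall G := by
      have : QuotientGroup.mk' (Cfsg.fittingHall G) (e : G) = 1 := he
      rwa [QuotientGroup.mk'_apply, QuotientGroup.eq_one_iff] at this
    have hd := hc.disjoint
    rw [Subgroup.disjoint_def] at hd
    exact Subtype.ext (hd h1 e.2)
  exact nilpotent_frobenius_complement (Cfsg.fittingHall G) E hc hH1 hfpf hEnil

/-- in a CN-group, a `p`-element and a `p'`-element of the centralizer of a nonidentity element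
commute -/
theorem cn_commute {G : Type*} [Group G] [Finite G] (hCN : Cfsg.IsCNGroup G) (x : G) (hx : x ≠ 1)
    (a b : G) (ha : a * x = x * a) (hb : b * x = x * b) (hab : (orderOf a).Coprime (orderOf b)) :
    a * b = b * a := by
  have hn := hCN x hx
  have ha' : a ∈ Subgroup.centralizer ({x} : Set G) := by
    rw [Subgroup.mem_centralizer_iff]
    intro y hy
    rw [Set.mem_singleton_iff] at hy
    rw [hy]; exact ha.symm
  have hb' : b ∈ Subgroup.centralizer ({x} : Set G) := by
    rw [Subgroup.mem_centralizer_iff]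
    intro y hy
    rw [Set.mem_singleton_iff] at hy
    rw [hy]; exact hb.symm
  exact Lib.Helper14.commute_of_mem_nilpotent hn ha' hb' hab

/-- Setup of the third case: no nontrivial normal Sylow subgroup.  Then `O_q(G) = 1` for all primes
`q` other than a fixed `p` with `O_p(G) ≠ 1`. -/
theorem pCore_eq_bot_of_ne {G : Type*} [Group G] [Finite G] (hCN : Cfsg.IsCNGroup G)
    (hB : ∀ (r : ℕ) [Fact r.Prime] (R : Sylow r G), (R : Subgroup G).Normal → (R : Subgroup G) = ⊥)
    (p : ℕ) [hp : Fact p.Prime] (hP₀ : Cfsg.pCore p G ≠ ⊥) (q : ℕ) [hq : Fact q.Prime] (hqp : q ≠ p) :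
    Cfsg.pCore q G = ⊥ := by
  by_contra hQ₀
  set P₀ := Cfsg.pCore p G with hP₀def
  set Q₀ := Cfsg.pCore q G with hQ₀def
  haveI hP₀n : P₀.Normal := inferInstance
  haveI hQ₀n : Q₀.Normal := inferInstance
  have hP₀p : IsPGroup p P₀ := Lib.Helper01.pCore_isPGroup p
  have hQ₀q : IsPGroup q Q₀ := Lib.Helper01.pCore_isPGroup q
  obtain P : Sylow p G := default
  have hP₀P : P₀ ≤ P := Lib.Helper01.pCore_le_sylow P
  -- x in P₀ central in P
  haveI : Group.IsNilpotent (P : Subgroup G) := P.isPGroup'.isNilpotent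
  have hNne : P₀.subgroupOf (P : Subgroup G) ≠ ⊥ := by
    intro h
    apply hP₀
    rw [eq_bot_iff]
    intro y hy
    have : (⟨y, hP₀P hy⟩ : (P : Subgroup G)) ∈ P₀.subgroupOf (P : Subgroup G) :=
      Subgroup.mem_subgroupOf.mpr hy
    rw [h, Subgroup.mem_bot] at this
    rw [Subgroup.mem_bot]
    exact congrArg Subtype.val this
  obtain ⟨x', hx'N, hx'Z, hx'1⟩ :=
    Lib.Helper69.exists_mem_center_of_normal (P₀.subgroupOf (P : Subgroup G)) hNne
  have hxP₀ : (x' : G) ∈ P₀ := Subgroup.mem_subgroupOf.mp hx'N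
  have hx1 : (x' : G) ≠ 1 := fun h => hx'1 (Subtype.ext h)
  have hxP : ∀ a ∈ (P : Subgroup G), a * (x' : G) = (x' : G) * a := by
    intro a ha
    rw [Subgroup.mem_center_iff] at hx'Z
    exact congrArg Subtype.val (hx'Z ⟨a, ha⟩)
  -- P₀ and Q₀ commute
  have hPQ : ∀ a ∈ P₀, ∀ b ∈ Q₀, a * b = b * a := by
    intro a ha b hb
    have h1 : a * b * a⁻¹ * b⁻¹ ∈ P₀ ⊓ Q₀ := by
      refine ⟨?_, ?_⟩
      · have : b * a⁻¹ * b⁻¹ ∈ P₀ := hP₀n.conj_mem _ (P₀.inv_mem ha) b
        have h2 := P₀.mul_mem ha this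
        have e : a * b * a⁻¹ * b⁻¹ = a * (b * a⁻¹ * b⁻¹) := by group
        rw [e]; exact h2
      · have : a * b * a⁻¹ ∈ Q₀ := hQ₀n.conj_mem _ hb a
        exact Q₀.mul_mem this (Q₀.inv_mem hb)
    have hbot : P₀ ⊓ Q₀ = ⊥ := by
      have hd : Disjoint P₀ Q₀ := IsPGroup.disjoint_of_ne p q hqp.symm P₀ Q₀ hP₀p hQ₀q
      exact disjoint_iff.mp hd
    rw [hbot, Subgroup.mem_bot] at h1
    calc a * b = a * b * a⁻¹ * b⁻¹ * (b * a) := by group
      _ = b * a := by rw [h1, one_mul]
  -- P centralizes Q₀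
  have hPQ₀ : ∀ a ∈ (P : Subgroup G), ∀ b ∈ Q₀, a * b = b * a := by
    intro a ha b hb
    apply cn_commute hCN (x' : G) hx1 a b (hxP a ha) (hPQ _ hxP₀ b hb).symm
    obtain ⟨i, hi⟩ := (IsPGroup.iff_orderOf.mp P.isPGroup') ⟨a, ha⟩
    obtain ⟨j, hj⟩ := (IsPGroup.iff_orderOf.mp hQ₀q) ⟨b, hb⟩
    rw [Subgroup.orderOf_mk] at hi hj
    rw [hi, hj]
    exact Nat.Coprime.pow _ _ ((Nat.coprime_primes hp.out hq.out).mpr hqp.symm)
  -- C = C_G(Q₀) is nilpotent and normal, contains P
  set C := Subgroup.centralizer (Q₀ : Set G) with hC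
  haveI hCn : C.Normal := inferInstance
  obtain ⟨y₀, hy₀Q, hy₀1, hy₀c⟩ := Lib.Helper33.exists_central_of_pgroup Q₀ hQ₀q hQ₀
  have hCle : C ≤ Subgroup.centralizer ({y₀} : Set G) := by
    intro c hc
    rw [Subgroup.mem_centralizer_iff] at hc ⊢
    intro y hy
    rw [Set.mem_singleton_iff] at hy
    rw [hy]
    exact hc y₀ hy₀Q
  have hCnil : Group.IsNilpotent C :=
    Lib.Helper33.isNilpotent_of_inj (Subgroup.inclusion hCle) (Subgroup.inclusion_injective hCle)
      (hCN y₀ hy₀1)
  have hPC : (P : Subgroup G) ≤ C := by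
    intro a ha
    rw [hC, Subgroup.mem_centralizer_iff]
    intro b hb
    exact (hPQ₀ a ha b hb).symm
  have hPn := sylow_normal_of_le_nilpotent_normal P C hCnil hPC
  have hPbot := hB p P hPn
  apply hP₀
  rw [eq_bot_iff, ← hPbot]
  exact hP₀P

/-- the third case: no nontrivial normal Sylow subgroup -/
theorem caseB {G : Type*} [Group G] [Finite G] [Group.IsSolvable G] (hCN : Cfsg.IsCNGroup G)
    (hnn : ¬ Group.IsNilpotent G)
    (hB : ∀ (r : ℕ) [Fact r.Prime] (R : Sylow r G), (R : Subgroup G).Normal → (R : Subgroup G) = ⊥) :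
    ∃ p : ℕ, p.Prime ∧ Cfsg.IsThreeStepGroup p G := by
  classical
  have htop : (⊤ : Subgroup G) ≠ ⊥ := by
    intro h
    apply hnn
    haveI : Subsingleton G := by
      refine ⟨fun a b => ?_⟩
      have ha : a ∈ (⊥ : Subgroup G) := h ▸ Subgroup.mem_top a
      have hb : b ∈ (⊥ : Subgroup G) := h ▸ Subgroup.mem_top b
      rw [Subgroup.mem_bot] at ha hb
      rw [ha, hb]
    infer_instance
  obtain ⟨p, A₀, hp, hA₀n, -, hA₀ne, hA₀p⟩ :=
    Lib.Helper33.exists_normal_pgroup_le (⊤ : Subgroup G) inferInstance htop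
  haveI := Fact.mk hp
  refine ⟨p, hp, ?_⟩
  set P₀ := Cfsg.pCore p G with hP₀def
  haveI hP₀n : P₀.Normal := inferInstance
  have hP₀p : IsPGroup p P₀ := Lib.Helper01.pCore_isPGroup p
  have hP₀ne : P₀ ≠ ⊥ := by
    intro h
    apply hA₀ne
    rw [eq_bot_iff, ← h]
    exact Lib.Helper01.le_pCore hA₀n hA₀p
  have hQ : ∀ (q : ℕ) [Fact q.Prime], q ≠ p → Cfsg.pCore q G = ⊥ := fun q _ hqp =>
    pCore_eq_bot_of_ne hCN hB p hP₀ne q hqp
  have hF : Cfsg.fittingSubgroup G = P₀ := by
    rw [Lib.Helper01.fitting_eq_iSup_pCore]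
    apply le_antisymm
    · apply iSup_le
      intro r
      haveI : Fact (r : ℕ).Prime := ⟨r.2⟩
      by_cases hrp : (r : ℕ) = p
      · rw [hrp]
      · rw [hQ (r : ℕ) hrp]; exact bot_le
    · exact le_iSup_of_le (⟨p, hp⟩ : Nat.Primes) le_rfl
  have hcent : Subgroup.centralizer (P₀ : Set G) ≤ P₀ := by
    have := Lib.Helper13.centralizer_fittingSubgroup_le (G := G)
    rwa [hF] at this
  obtain ⟨z, hzP, hz1, hzc⟩ := Lib.Helper33.exists_central_of_pgroup P₀ hP₀p hP₀ne
  have hpow : ∀ y ∈ P₀, ∃ k : ℕ, orderOf y = p ^ k := by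
    intro y hy
    obtain ⟨k, hk⟩ := (IsPGroup.iff_orderOf.mp hP₀p) ⟨y, hy⟩
    rw [Subgroup.orderOf_mk] at hk
    exact ⟨k, hk⟩
  have hfpf : ∀ a : G, a ≠ 1 → (orderOf a).Coprime p →
      P₀ ⊓ Subgroup.centralizer ({a} : Set G) = ⊥ := by
    intro a ha1 hao
    rw [eq_bot_iff]
    intro x hx
    rw [Subgroup.mem_bot]
    by_contra hx1
    have hxP : x ∈ P₀ := hx.1
    have hxc : x ∈ Subgroup.centralizer ({a} : Set G) := hx.2
    rw [Subgroup.mem_centralizer_iff] at hxc
    have hxa : a * x = x * a := hxc a rfl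
    have h1 : a * z = z * a := by
      apply cn_commute hCN x hx1 a z hxa (hzc x hxP).symm
      obtain ⟨k, hk⟩ := hpow z hzP
      rw [hk]; exact Nat.Coprime.pow_right k hao
    have h2 : ∀ y ∈ P₀, a * y = y * a := by
      intro y hy
      apply cn_commute hCN z hz1 a y h1 (hzc y hy)
      obtain ⟨k, hk⟩ := hpow y hy
      rw [hk]; exact Nat.Coprime.pow_right k hao
    have h3 : a ∈ P₀ := hcent (by
      rw [Subgroup.mem_centralizer_iff]
      intro y hy
      exact (h2 y hy).symm)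
    obtain ⟨i, hi⟩ := hpow a h3
    rw [hi] at hao
    rcases Nat.eq_zero_or_pos i with h0 | hpos
    · rw [h0, pow_zero, orderOf_eq_one_iff] at hi
      exact ha1 hi
    · have : p ∣ Nat.gcd (p ^ i) p := Nat.dvd_gcd (dvd_pow_self p hpos.ne') dvd_rfl
      rw [hao] at this
      exact hp.one_lt.ne' (Nat.dvd_one.mp this)
  -- the quotient
  set π := QuotientGroup.mk' P₀ with hπ
  have hCNq : Cfsg.IsCNGroup (G ⧸ P₀) := Cfsg.Agent.S1473.result hCN P₀ inferInstance
  have hOp : ∀ N : Subgroup (G ⧸ P₀), N.Normal → IsPGroup p N → N = ⊥ := by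
    intro N hN hNp
    have hM : IsPGroup p (N.comap π) :=
      hNp.comap_of_ker_isPGroup π (by rw [hπ, QuotientGroup.ker_mk']; exact hP₀p)
    have hMn : (N.comap π).Normal := hN.comap π
    have hle : N.comap π ≤ P₀ := Lib.Helper01.le_pCore hMn hM
    rw [eq_bot_iff, ← Subgroup.map_comap_eq_self_of_surjective (QuotientGroup.mk'_surjective P₀) N]
    calc (N.comap π).map π ≤ P₀.map π := Subgroup.map_mono hle
      _ = ⊥ := by rw [hπ, QuotientGroup.map_mk'_self]
  have hpdvd : p ∣ Nat.card (G ⧸ P₀) := by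
    obtain P : Sylow p G := default
    have hP₀P : P₀ ≤ P := Lib.Helper01.pCore_le_sylow P
    have hex : ∃ x ∈ (P : Subgroup G), x ∉ P₀ := by
      by_contra h
      push Not at h
      have heq : (P : Subgroup G) = P₀ := le_antisymm h hP₀P
      have hPn : (P : Subgroup G).Normal := by rw [heq]; exact hP₀n
      have := hB p P hPn
      rw [heq] at this
      exact hP₀ne this
    obtain ⟨x, hxP, hxP₀⟩ := hex
    obtain ⟨k, hk⟩ := (IsPGroup.iff_orderOf.mp P.isPGroup') ⟨x, hxP⟩
    rw [Subgroup.orderOf_mk] at hk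
    have h1 : orderOf (π x) ∣ p ^ k := by rw [← hk]; exact orderOf_map_dvd π x
    obtain ⟨j, -, hj⟩ := (Nat.dvd_prime_pow hp).mp h1
    have hj0 : j ≠ 0 := by
      rintro rfl
      rw [pow_zero, orderOf_eq_one_iff, hπ, QuotientGroup.mk'_apply, QuotientGroup.eq_one_iff] at hj
      exact hxP₀ hj
    calc p ∣ p ^ j := dvd_pow_self p hj0
      _ = orderOf (π x) := hj.symm
      _ ∣ Nat.card (G ⧸ P₀) := orderOf_dvd_natCard _
  -- the Fitting subgroup of the quotient
  set A' := Cfsg.fittingSubgroup (G ⧸ P₀) with hA'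
  haveI hAn : A'.Normal := Lib.Helper13.fittingSubgroup_normal
  have hAnil : Group.IsNilpotent A' := Lib.Helper01.fitting_isNilpotent
  have hAle : ∀ N : Subgroup (G ⧸ P₀), N.Normal → Group.IsNilpotent N → N ≤ A' :=
    fun N hN hn => Lib.Helper13.le_fittingSubgroup N hN hn
  have hAcop : (Nat.card A').Coprime p := by
    rw [Nat.coprime_comm, Nat.Prime.coprime_iff_not_dvd hp]
    intro hdvd
    obtain S : Sylow p A' := default
    haveI := hAnil
    haveI hSn : (S : Subgroup A').Normal := inferInstance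
    haveI hSc : (S : Subgroup A').Characteristic := Sylow.characteristic_of_normal S hSn
    have hmapn : ((S : Subgroup A').map A'.subtype).Normal :=
      ConjAct.normal_of_characteristic_of_normal
    have h1 := hOp _ hmapn (S.isPGroup'.map _)
    have h2 : (S : Subgroup A') = ⊥ :=
      (Subgroup.map_eq_bot_iff_of_injective _ A'.subtype_injective).mp h1
    exact S.ne_bot_of_dvd_card hdvd h2
  have hAne : A' ≠ ⊥ := by
    have htop' : (⊤ : Subgroup (G ⧸ P₀)) ≠ ⊥ := by
      intro h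
      have h1 : Nat.card (⊤ : Subgroup (G ⧸ P₀)) = 1 := by rw [h]; exact Subgroup.card_bot
      rw [Subgroup.card_top] at h1
      rw [h1] at hpdvd
      exact hp.one_lt.ne' (Nat.dvd_one.mp hpdvd)
    obtain ⟨r, B, hr, hBn, -, hBne, hBr⟩ :=
      Lib.Helper33.exists_normal_pgroup_le (⊤ : Subgroup (G ⧸ P₀)) inferInstance htop'
    haveI := Fact.mk hr
    intro h
    apply hBne
    rw [eq_bot_iff, ← h]
    exact hAle B hBn hBr.isNilpotent
  obtain ⟨hZ, hinv, -⟩ := fc_pkg P₀ hP₀p hP₀ne hfpf A' hAcop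
  have hAodd : Odd (Nat.card A') := by
    by_contra hne
    rw [Nat.not_odd_iff_even] at hne
    obtain ⟨s, hsA, hso, huniq⟩ := hinv hne.two_dvd
    have hs1 : s ≠ 1 := by
      intro h
      rw [h, orderOf_one] at hso
      norm_num at hso
    have hsc : ∀ g : G ⧸ P₀, g * s * g⁻¹ = s := by
      intro g
      apply huniq _ (hAn.conj_mem s hsA g)
      rw [← MulAut.conj_apply, MulEquiv.orderOf_eq, hso]
    have hcs : Subgroup.centralizer ({s} : Set (G ⧸ P₀)) = ⊤ := by
      rw [eq_top_iff]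
      intro g _
      rw [Subgroup.mem_centralizer_iff]
      intro y hy
      rw [Set.mem_singleton_iff] at hy
      rw [hy]
      have := hsc g
      calc s * g = g * s * g⁻¹ * g := by rw [this]
        _ = g * s := by group
    have hn := hCNq s hs1
    rw [hcs] at hn
    have h1 : (⊤ : Subgroup (G ⧸ P₀)) ≤ A' := hAle ⊤ inferInstance hn
    have h2 : A' = ⊤ := top_le_iff.mp h1
    have h3 : Nat.card A' = Nat.card (G ⧸ P₀) := by rw [h2, Subgroup.card_top]
    rw [h3] at hAcop
    exact (Nat.Prime.coprime_iff_not_dvd hp).mp hAcop.symm hpdvd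
  haveI : IsZGroup A' := hZ hAodd
  haveI := hAnil
  haveI hAcyc : IsCyclic A' := inferInstance
  -- conjugates of elements of prime order of A' are powers
  have hconj : ∀ a' ∈ A', (orderOf a').Prime → ∀ g : G ⧸ P₀, ∃ k : ℤ, g * a' * g⁻¹ = a' ^ k := by
    intro a' ha'A hr g
    have hz : orderOf (⟨a', ha'A⟩ : A') = orderOf a' := Subgroup.orderOf_mk a' ha'A
    have hc : (⟨g * a' * g⁻¹, hAn.conj_mem a' ha'A g⟩ : A') ^ (orderOf a') = 1 := by
      apply Subtype.ext
      show (g * a' * g⁻¹) ^ (orderOf a') = 1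
      rw [conj_pow, pow_orderOf_eq_one]; group
    have := mem_zpowers_of_isCyclic hr.pos (⟨a', ha'A⟩ : A') ⟨g * a' * g⁻¹, hAn.conj_mem a' ha'A g⟩ hz hc
    obtain ⟨k, hk⟩ := Subgroup.mem_zpowers_iff.mp this
    refine ⟨k, ?_⟩
    have := congrArg Subtype.val hk
    simpa using this.symm
  have hout : ∀ x a : G ⧸ P₀, a ∈ A' → a ≠ 1 → x * a = a * x → x ∈ A' := by
    intro x a haA ha1 hxa
    have hoa : orderOf a ≠ 1 := fun h => ha1 (orderOf_eq_one_iff.mp h)
    have hr : (orderOf a).minFac.Prime := Nat.minFac_prime hoa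
    have hrd : (orderOf a).minFac ∣ orderOf a := Nat.minFac_dvd _
    set a' := a ^ (orderOf a / (orderOf a).minFac) with ha'
    have ha'o : orderOf a' = (orderOf a).minFac := orderOf_pow_orderOf_div hr a hrd
    have ha'A : a' ∈ A' := A'.pow_mem haA _
    have ha'1 : a' ≠ 1 := by
      intro h
      rw [h, orderOf_one] at ha'o
      exact hr.one_lt.ne ha'o
    have hxa' : x * a' = a' * x := ((show Commute x a from hxa).pow_right _).eq
    have hDnil := hCNq a' ha'1
    have hDn : (Subgroup.centralizer ({a'} : Set (G ⧸ P₀))).Normal := by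
      constructor
      intro y hy g
      rw [Subgroup.mem_centralizer_iff] at hy ⊢
      intro w hw
      rw [Set.mem_singleton_iff] at hw
      rw [hw]
      have hya : a' * y = y * a' := hy a' rfl
      obtain ⟨k, hk⟩ := hconj a' ha'A (ha'o ▸ hr) g⁻¹
      rw [inv_inv] at hk
      have hyk : a' ^ k * y = y * a' ^ k := ((show Commute a' y from hya).zpow_left k).eq
      have e1 : a' = g * (g⁻¹ * a' * g) * g⁻¹ := by group
      calc a' * (g * y * g⁻¹) = g * ((g⁻¹ * a' * g) * y) * g⁻¹ := by group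
        _ = g * (y * (g⁻¹ * a' * g)) * g⁻¹ := by rw [hk, hyk]
        _ = g * y * g⁻¹ * a' := by group
    have hxD : x ∈ Subgroup.centralizer ({a'} : Set (G ⧸ P₀)) := by
      rw [Subgroup.mem_centralizer_iff]
      intro w hw
      rw [Set.mem_singleton_iff] at hw
      rw [hw]; exact hxa'.symm
    exact hAle _ hDn hDnil hxD
  -- the index of A' is a power of p
  have hidx : ∀ q : ℕ, q.Prime → q ∣ A'.index → q = p := by
    intro q hq hqd
    by_contra hqp
    haveI := Fact.mk hq
    obtain Q : Sylow q (G ⧸ P₀) := default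
    have hex : ∃ y ∈ (Q : Subgroup (G ⧸ P₀)), y ∉ A' := by
      by_contra h
      push Not at h
      have h1 : A'.index ∣ (Q : Subgroup (G ⧸ P₀)).index := Subgroup.index_dvd_of_le h
      exact Q.not_dvd_index (dvd_trans hqd h1)
    obtain ⟨y, hyQ, hyA⟩ := hex
    obtain ⟨m, hm⟩ := (IsPGroup.iff_orderOf.mp Q.isPGroup') ⟨y, hyQ⟩
    rw [Subgroup.orderOf_mk] at hm
    have hexk : ∃ k : ℕ, y ^ (q ^ k) ∈ A' := ⟨m, by rw [← hm, pow_orderOf_eq_one]; exact A'.one_mem⟩
    have hk := Nat.find_spec hexk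
    have hk0 : Nat.find hexk ≠ 0 := by
      intro h0
      rw [h0, pow_zero, pow_one] at hk
      exact hyA hk
    set k := Nat.find hexk with hkdef
    set x := y ^ (q ^ (k - 1)) with hx
    have hxA : x ∉ A' := Nat.find_min hexk (Nat.sub_lt (Nat.pos_of_ne_zero hk0) one_pos)
    have hxq : x ^ q ∈ A' := by
      rw [hx, ← pow_mul, ← pow_succ, Nat.sub_add_cancel (Nat.one_le_iff_ne_zero.mpr hk0)]
      exact hk
    have hxq1 : x ^ q = 1 := by
      by_contra h
      exact hxA (hout x (x ^ q) hxq h ((Commute.refl x).pow_right q).eq)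
    have hx1 : x ≠ 1 := fun h => hxA (h ▸ A'.one_mem)
    have hxo : orderOf x = q := orderOf_eq_prime hxq1 hx1
    have hAcard1 : Nat.card A' ≠ 1 := fun h => hAne (Subgroup.card_eq_one.mp h)
    obtain ⟨r, hr, hrd⟩ := Nat.exists_prime_and_dvd hAcard1
    haveI := Fact.mk hr
    obtain ⟨a'', ha''⟩ := exists_prime_orderOf_dvd_card' (G := A') r hrd
    set a' : G ⧸ P₀ := (a'' : G ⧸ P₀) with ha'
    have ha'o : orderOf a' = r := by rw [ha', Subgroup.orderOf_coe, ha'']
    have ha'A : a' ∈ A' := a''.2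
    have ha'1 : a' ≠ 1 := by
      intro h
      rw [h, orderOf_one] at ha'o
      exact hr.one_lt.ne ha'o
    set R := Subgroup.zpowers a' with hR
    have hRA : R ≤ A' := by rw [hR, Subgroup.zpowers_le]; exact ha'A
    haveI hRn : R.Normal := by
      constructor
      intro n hn g
      obtain ⟨i, rfl⟩ := Subgroup.mem_zpowers_iff.mp hn
      obtain ⟨j, hj⟩ := hconj a' ha'A (ha'o ▸ hr) g
      rw [← conj_zpow, hj, ← zpow_mul]
      exact Subgroup.zpow_mem_zpowers a' _
    set T := Subgroup.zpowers x with hT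
    have hRT : R ⊓ T = ⊥ := by
      rw [eq_bot_iff]
      intro g hg
      rw [Subgroup.mem_bot]
      by_contra hg1
      have hgR : g ∈ R := hg.1
      have hgT : g ∈ T := hg.2
      have hgo : orderOf g = q := by
        have h1 : orderOf g ∣ q := by
          rw [← hxo, ← Nat.card_zpowers x]
          exact Subgroup.orderOf_dvd_natCard T hgT
        rcases (Nat.dvd_prime hq).mp h1 with h | h
        · exact absurd (orderOf_eq_one_iff.mp h) hg1
        · exact h
      have hle : Subgroup.zpowers g ≤ T := by rw [Subgroup.zpowers_le]; exact hgT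
      have heq : Subgroup.zpowers g = T := by
        apply Subgroup.eq_of_le_of_card_ge hle
        rw [Nat.card_zpowers, Nat.card_zpowers, hgo, hxo]
      have hxg : x ∈ Subgroup.zpowers g := by rw [heq]; exact Subgroup.mem_zpowers x
      have : Subgroup.zpowers g ≤ R := by rw [Subgroup.zpowers_le]; exact hgR
      exact hxA (hRA (this hxg))
    have hXcard : Nat.card (T ⊔ R : Subgroup (G ⧸ P₀)) = r * q := by
      have h1 := card_sup_mul_card_inf R T
      rw [hRT, Subgroup.card_bot, mul_one, Nat.card_zpowers, Nat.card_zpowers, ha'o, hxo] at h1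
      exact h1
    have hrp : r ≠ p := by
      rintro rfl
      exact (Nat.Prime.coprime_iff_not_dvd hr).mp hAcop.symm hrd
    have hXcop : (Nat.card (T ⊔ R : Subgroup (G ⧸ P₀))).Coprime p := by
      rw [hXcard]
      exact Nat.Coprime.mul_left ((Nat.coprime_primes hr hp).mpr hrp) ((Nat.coprime_primes hq hp).mpr hqp)
    obtain ⟨-, -, hcycX⟩ := fc_pkg P₀ hP₀p hP₀ne hfpf (T ⊔ R) hXcop
    haveI hXc : IsCyclic (T ⊔ R : Subgroup (G ⧸ P₀)) := hcycX r q hr hq hXcard inferInstance
    have hxX : x ∈ (T ⊔ R : Subgroup (G ⧸ P₀)) := Subgroup.mem_sup_left (Subgroup.mem_zpowers x)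
    have haX : a' ∈ (T ⊔ R : Subgroup (G ⧸ P₀)) := Subgroup.mem_sup_right (Subgroup.mem_zpowers a')
    have hcomm : x * a' = a' * x := by
      letI := IsCyclic.commGroup (α := (T ⊔ R : Subgroup (G ⧸ P₀)))
      have := mul_comm (⟨x, hxX⟩ : (T ⊔ R : Subgroup (G ⧸ P₀))) ⟨a', haX⟩
      exact congrArg Subtype.val this
    exact hxA (hout x a' ha'A ha'1 hcomm)
  -- lift A'
  set L := A'.comap π with hL
  obtain ⟨H, hH, hHfpf, ψ, hψ⟩ := liftPkg P₀ hP₀p hfpf A' hAcop
  set A := H.map L.subtype with hA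
  have e : H ≃* A := H.equivMapOfInjective L.subtype L.subtype_injective
  have hAcard : Nat.card A = Nat.card A' := by
    rw [← Nat.card_congr e.toEquiv, Nat.card_congr ψ.toEquiv]
  have hP₀L : P₀ ≤ L := by
    intro x hx
    rw [hL, Subgroup.mem_comap]
    have : π x = 1 := by rw [hπ, QuotientGroup.mk'_apply, QuotientGroup.eq_one_iff]; exact hx
    rw [this]; exact A'.one_mem
  have hsup : P₀ ⊔ A = L := by
    have h1 := hH.sup_eq_top
    have h2 := congrArg (Subgroup.map L.subtype) h1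
    rw [Subgroup.map_sup, Subgroup.subgroupOf_map_subtype, ← MonoidHom.range_eq_map,
      Subgroup.range_subtype, inf_eq_left.mpr hP₀L] at h2
    exact h2
  have hAL : A ≤ L := by rw [← hsup]; exact le_sup_right
  have hdisjA : ∀ a ∈ A, a ∈ P₀ → a = 1 := by
    rintro a ⟨h, hh, rfl⟩ haP
    have h1 : h ∈ P₀.subgroupOf L := Subgroup.mem_subgroupOf.mpr haP
    have hd := hH.disjoint
    rw [Subgroup.disjoint_def] at hd
    rw [hd h1 hh]; rfl
  have hLn : L.Normal := hAn.comap π
  have hLtop : L ≠ ⊤ := by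
    intro h
    have h1 : A' = ⊤ := by
      rw [← Subgroup.map_comap_eq_self_of_surjective (QuotientGroup.mk'_surjective P₀) A', ← hL, h,
        ← MonoidHom.range_eq_map, MonoidHom.range_eq_top]
      exact QuotientGroup.mk'_surjective P₀
    have h3 : Nat.card A' = Nat.card (G ⧸ P₀) := by rw [h1, Subgroup.card_top]
    rw [h3] at hAcop
    exact (Nat.Prime.coprime_iff_not_dvd hp).mp hAcop.symm hpdvd
  have hLidx : ∃ n : ℕ, L.index = p ^ n := by
    have h1 : L.index = A'.index := Subgroup.index_comap_of_surjective A' (QuotientGroup.mk'_surjective P₀)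
    rw [h1]
    have h0 : A'.index ≠ 0 := Subgroup.index_ne_zero_of_finite
    exact ⟨_, Nat.eq_prime_pow_of_unique_prime_dvd h0 (fun {d} hd hdvd => hidx d hd hdvd)⟩
  refine ⟨hP₀ne, A, ?_, ?_, ?_, ?_, ?_, ?_, ?_, ?_, ?_⟩
  · intro h
    have : Nat.card A = 1 := by rw [h]; exact Subgroup.card_bot
    rw [hAcard] at this
    exact hAne (Subgroup.card_eq_one.mp this)
  · exact isCyclic_of_surjective (ψ.symm.trans e).toMonoidHom (ψ.symm.trans e).surjective
  · rw [hAcard]; exact hAodd
  · rw [hAcard]; exact hAcop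
  · rw [hsup]; exact hLn
  · rw [hsup]; exact hLtop
  · rw [hsup]; exact hLidx
  · intro a haA ha1
    apply hfpf a ha1
    have : orderOf a ∣ Nat.card A := Subgroup.orderOf_dvd_natCard A haA
    rw [hAcard] at this
    exact Nat.Coprime.coprime_dvd_left this hAcop
  · intro x hx a haA ha1 hmem
    rw [hsup] at hx
    have hπx : π x ∉ A' := fun h => hx (by rw [hL, Subgroup.mem_comap]; exact h)
    have hπa : π a ∈ A' := by
      have := hAL haA
      rwa [hL, Subgroup.mem_comap] at this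
    have hπa1 : π a ≠ 1 := by
      intro h
      rw [hπ, QuotientGroup.mk'_apply, QuotientGroup.eq_one_iff] at h
      exact ha1 (hdisjA a haA h)
    have h1 : π (x * a * x⁻¹ * a⁻¹) = 1 := by
      rw [hπ, QuotientGroup.mk'_apply, QuotientGroup.eq_one_iff]; exact hmem
    have h2 : π x * π a = π a * π x := by
      have e1 : π x * π a = π (x * a * x⁻¹ * a⁻¹) * (π a * π x) := by
        rw [← map_mul, ← map_mul, ← map_mul]
        congr 1
        group
      rw [e1, h1, one_mul]
    exact hπx (hout (π x) (π a) hπa hπa1 h2)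

/-- Let G be a finite solvable group in which every non-identity element has nilpotent centralizer. Then either G is nilpotent; or G has a normal subgroup K with a Frobenius complement E (K E = G, K ∩ E = 1, E meets its conjugates by outside elements trivially) such that E is cyclic or E is generated by two elementwise-commuting subgroups, one cyclic of odd order and one isomorphic to a generalized quaternion group; or G is a three-step group with respect to some prime p. -/
theorem result {G : Type*} [Group G] [Finite G] [Group.IsSolvable G] (hCN : Cfsg.IsCNGroup G) :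
    Group.IsNilpotent G ∨
      (∃ K E : Subgroup G, K.Normal ∧ Subgroup.IsComplement' K E ∧ Cfsg.IsFrobeniusComplement E ∧
        (IsCyclic E ∨ ∃ C Q : Subgroup G, C ⊔ Q = E ∧ (∀ a ∈ C, ∀ b ∈ Q, a * b = b * a) ∧ IsCyclic C ∧ Odd (Nat.card C) ∧
          ∃ n : ℕ, Nonempty (↥Q ≃* QuaternionGroup (2 ^ n)))) ∨
      ∃ p : ℕ, p.Prime ∧ Cfsg.IsThreeStepGroup p G := by
  by_cases hnn : Group.IsNilpotent G
  · exact Or.inl hnn
  · right
    by_cases hA : ∃ (r : ℕ) (_ : Fact r.Prime) (R : Sylow r G), (R : Subgroup G).Normal ∧ (R : Subgroup G) ≠ ⊥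
    · left
      obtain ⟨r, hr, R, hRn, hR1⟩ := hA
      exact caseA hCN hnn r R hR1 hRn
    · right
      apply caseB hCN hnn
      intro r hr R hRn
      by_contra hR1
      exact hA ⟨r, hr, R, hRn, hR1⟩

end Cfsg.Agent.S1476
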