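import Cfsg.Statements.S0655

set_option autoImplicit false
open Cfsg

namespace Cfsg.Agent.S0655

theorem exists_max {S : Type*} [Group S] [Finite S] (p : ℕ) :
    (Cfsg.maxElementaryAbelianSubgroups p S).Nonempty := by
  classical
  have hfin : (Set.univ : Set (Subgroup S)).Finite := Set.finite_univ
  have hne : ({A : Subgroup S | Cfsg.IsElementaryAbelian p A}).Nonempty := by
    refine ⟨⊥, ?_, ?_⟩
    · exact ⟨⟨fun a b => by
        have ha : a = 1 := Subsingleton.elim _ _
        have hb : b = 1 := Subsingleton.elim _ _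
        rw [ha, hb]⟩⟩
    · intro a ha
      rw [Subgroup.mem_bot] at ha
      rw [ha, one_pow]
  obtain ⟨A, hA, hmax⟩ := Set.exists_max_image _ (fun A : Subgroup S => Nat.card A)
    (Set.toFinite _) hne
  exact ⟨A, hA, fun B hB => hmax B hB⟩

theorem mem_of_max {S : Type*} [Group S] [Finite S] {p : ℕ} {A : Subgroup S}
    (hA : A ∈ Cfsg.maxElementaryAbelianSubgroups p S) {x : S} (hx : x ^ p = 1)
    (hc : ∀ a ∈ A, a * x = x * a) : x ∈ A := by
  classical
  obtain ⟨⟨hAc, hAp⟩, hmax⟩ := hA
  set B : Subgroup S := A ⊔ Subgroup.zpowers x with hB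
  have hcomm : ∀ y ∈ B, ∀ z ∈ B, y * z = z * y := by
    have hgen : B = Subgroup.closure ((A : Set S) ∪ {x}) := by
      rw [hB, Subgroup.closure_union, Subgroup.closure_eq, Subgroup.zpowers_eq_closure]
    intro y hy z hz
    rw [hgen] at hy hz
    have hS : ∀ u ∈ ((A : Set S) ∪ {x}), ∀ v ∈ ((A : Set S) ∪ {x}), u * v = v * u := by
      intro u hu v hv
      rcases hu with hu | hu <;> rcases hv with hv | hv
      · have := hAc.is_comm.comm ⟨u, hu⟩ ⟨v, hv⟩
        exact congrArg Subtype.val this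
      · rw [Set.mem_singleton_iff] at hv; subst hv; exact hc u hu
      · rw [Set.mem_singleton_iff] at hu; subst hu; exact (hc v hv).symm
      · rw [Set.mem_singleton_iff] at hu hv; rw [hu, hv]
    exact Subgroup.closure_induction₂ (p := fun y z _ _ => y * z = z * y)
      (fun u v hu hv => hS u hu v hv) (fun u _ => by simp) (fun u _ => by simp)
      (fun u v w _ _ _ h1 h2 => by rw [mul_assoc, h2, ← mul_assoc, h1, mul_assoc])
      (fun u v w _ _ _ h1 h2 => by rw [← mul_assoc, h1, mul_assoc, h2, ← mul_assoc])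
      (fun u v _ _ h => by
        have : u⁻¹ * v = u⁻¹ * (v * u) * u⁻¹ := by group
        rw [this, ← h]; group)
      (fun u v _ _ h => by
        have : u * v⁻¹ = v⁻¹ * (v * u) * v⁻¹ := by group
        rw [this, ← h]; group) hy hz
  have hBel : Cfsg.IsElementaryAbelian p B := by
    refine ⟨⟨⟨fun a b => Subtype.ext (hcomm a a.2 b b.2)⟩⟩, ?_⟩
    have hgen : B = Subgroup.closure ((A : Set S) ∪ {x}) := by
      rw [hB, Subgroup.closure_union, Subgroup.closure_eq, Subgroup.zpowers_eq_closure]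
    intro y hy
    have hy' := hy
    rw [hgen] at hy'
    refine Subgroup.closure_induction (p := fun y _ => y ∈ B → y ^ p = 1) ?_ ?_ ?_ ?_ hy' hy
    · intro u hu _
      rcases hu with hu | hu
      · exact hAp u hu
      · rw [Set.mem_singleton_iff] at hu; rw [hu]; exact hx
    · intro _; exact one_pow p
    · intro u v hu hv h1 h2 _
      have huB : u ∈ B := by rw [hgen]; exact hu
      have hvB : v ∈ B := by rw [hgen]; exact hv
      rw [(show Commute u v from hcomm u huB v hvB).mul_pow, h1 huB, h2 hvB, one_mul]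
    · intro u hu h1 _
      have huB : u ∈ B := by rw [hgen]; exact hu
      rw [inv_pow, h1 huB, inv_one]
  have hle : A ≤ B := le_sup_left
  have hcard : Nat.card B ≤ Nat.card A := hmax B hBel
  have hEq : A = B := by
    apply Subgroup.eq_of_le_of_card_ge hle
    exact hcard
  rw [hEq]
  exact (le_sup_right : Subgroup.zpowers x ≤ B) (Subgroup.mem_zpowers x)

theorem cent_of_forall {S : Type*} [Group S] [Finite S] {p : ℕ} {x : S}
    (hx : ∀ A ∈ Cfsg.maxElementaryAbelianSubgroups p S, ∀ a ∈ A, a * x = x * a) :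
    x ∈ Subgroup.centralizer (Cfsg.thompsonSubgroup p S : Set S) := by
  have : Cfsg.thompsonSubgroup p S ≤ Subgroup.centralizer ({x} : Set S) := by
    unfold Cfsg.thompsonSubgroup
    apply sSup_le
    intro A hA a ha
    rw [Subgroup.mem_centralizer_iff]
    intro y hy
    rw [Set.mem_singleton_iff] at hy
    subst hy
    exact (hx A hA a ha).symm
  rw [Subgroup.mem_centralizer_iff]
  intro y hy
  have h1 := this hy
  rw [Subgroup.mem_centralizer_iff] at h1
  exact (h1 x rfl).symm

theorem mem_sInf_of_cent {S : Type*} [Group S] [Finite S] {p : ℕ} {x : S}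
    (hx : x ∈ Subgroup.centralizer (Cfsg.thompsonSubgroup p S : Set S)) (hxp : x ^ p = 1) :
    x ∈ sInf (Cfsg.maxElementaryAbelianSubgroups p S) := by
  rw [Subgroup.mem_sInf]
  intro A hA
  apply mem_of_max hA hxp
  intro a ha
  rw [Subgroup.mem_centralizer_iff] at hx
  have haJ : a ∈ Cfsg.thompsonSubgroup p S := by
    unfold Cfsg.thompsonSubgroup
    exact (le_sSup hA : A ≤ _) ha
  exact hx a haJ

theorem result {S : Type*} [Group S] [Finite S] {p : ℕ} [Fact p.Prime] (hS : IsPGroup p S) : sInf (Cfsg.maxElementaryAbelianSubgroups p S) = Cfsg.omegaCenterThompson p S ∧ Cfsg.omegaCenterThompson p S = Cfsg.omegaOne p (Subgroup.centralizer (Cfsg.thompsonSubgroup p S : Set S)) := by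
  obtain ⟨A₀, hA₀⟩ := exists_max (S := S) p
  have key : ∀ x : S, x ∈ sInf (Cfsg.maxElementaryAbelianSubgroups p S) →
      x ∈ Cfsg.thompsonSubgroup p S ⊓ Subgroup.centralizer (Cfsg.thompsonSubgroup p S : Set S)
        ∧ x ^ p = 1 := by
    intro x hx
    rw [Subgroup.mem_sInf] at hx
    refine ⟨⟨?_, ?_⟩, ?_⟩
    · unfold Cfsg.thompsonSubgroup
      exact (le_sSup hA₀ : A₀ ≤ _) (hx A₀ hA₀)
    · apply cent_of_forall
      intro A hA a ha
      have := hA.1.1.is_comm.comm ⟨a, ha⟩ ⟨x, hx A hA⟩
      exact congrArg Subtype.val this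
    · exact hA₀.1.2 x (hx A₀ hA₀)
  have h1 : sInf (Cfsg.maxElementaryAbelianSubgroups p S) = Cfsg.omegaCenterThompson p S := by
    apply le_antisymm
    · intro x hx
      unfold Cfsg.omegaCenterThompson Cfsg.omegaOne
      exact Subgroup.subset_closure (key x hx)
    · unfold Cfsg.omegaCenterThompson Cfsg.omegaOne
      rw [Subgroup.closure_le]
      rintro x ⟨hx, hxp⟩
      exact mem_sInf_of_cent hx.2 hxp
  refine ⟨h1, ?_⟩
  apply le_antisymm
  · unfold Cfsg.omegaCenterThompson Cfsg.omegaOne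
    apply Subgroup.closure_mono
    rintro x ⟨hx, hxp⟩
    exact ⟨hx.2, hxp⟩
  · rw [← h1]
    unfold Cfsg.omegaOne
    rw [Subgroup.closure_le]
    rintro x ⟨hx, hxp⟩
    exact mem_sInf_of_cent hx hxp

end Cfsg.Agent.S0655
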