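import Cfsg.Statements.S0654
import Cfsg.Agent.Lib.Helper16.ZJ
import Cfsg.Agent.S0655

set_option autoImplicit false
open Cfsg

namespace Cfsg.Agent.S0654

open Cfsg.Agent.Lib.Helper16 in
theorem goodPred_elem {G : Type*} [Group G] (p : ℕ) :
    ZJ.GoodPred (fun U : Subgroup G => Cfsg.IsElementaryAbelian p U) where
  bot := by
    refine ⟨⟨⟨fun a b => ?_⟩⟩, ?_⟩
    · have ha : a = 1 := Subsingleton.elim _ _
      have hb : b = 1 := Subsingleton.elim _ _
      rw [ha, hb]
    · intro a ha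
      rw [Subgroup.mem_bot] at ha
      rw [ha, one_pow]
  comm := fun _ h => h.1
  map := fun φ U h => by
    refine ⟨?_, ?_⟩
    · have := h.1
      exact Subgroup.map_isMulCommutative U φ.toMonoidHom
    · rintro _ ⟨u, hu, rfl⟩
      rw [← map_pow, h.2 u hu, map_one]
  repl := fun A A' hA hc hexp => by
    refine ⟨hc, ?_⟩
    have h1 : Monoid.exponent ↥A ∣ p := by
      apply Monoid.exponent_dvd_of_forall_pow_eq_one
      intro a
      apply Subtype.ext
      simpa using hA.2 a.1 a.2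
    have h2 : Monoid.exponent ↥A' ∣ p := hexp.trans h1
    intro a ha
    have := (Monoid.exponent_dvd_iff_forall_pow_eq_one.mp h2) ⟨a, ha⟩
    simpa using congrArg Subtype.val this

theorem isElem_map_iff {G : Type*} [Group G] (p : ℕ) (P : Subgroup G) (A' : Subgroup ↥P) :
    Cfsg.IsElementaryAbelian p A' ↔ Cfsg.IsElementaryAbelian p (A'.map P.subtype) := by
  constructor
  · rintro ⟨h1, h2⟩
    refine ⟨(Cfsg.Agent.Lib.Helper16.GR.isMulCommutative_map_subtype_iff P A').mp h1, ?_⟩
    rintro _ ⟨a, ha, rfl⟩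
    rw [← map_pow, h2 a ha, map_one]
  · rintro ⟨h1, h2⟩
    refine ⟨(Cfsg.Agent.Lib.Helper16.GR.isMulCommutative_map_subtype_iff P A').mpr h1, ?_⟩
    intro a ha
    have := h2 (P.subtype a) (Subgroup.mem_map_of_mem _ ha)
    apply Subtype.ext
    simpa using this

open Cfsg.Agent.Lib.Helper16 in
theorem omega_map_eq_WW {G : Type*} [Group G] [Finite G] {p : ℕ} [Fact p.Prime] (P : Subgroup G)
    (hP : IsPGroup p ↥P) :
    (Cfsg.omegaCenterThompson p ↥P).map P.subtype =
      ZJ.WW (fun U : Subgroup G => Cfsg.IsElementaryAbelian p U) P := by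
  rw [← (Cfsg.Agent.S0655.result hP).1]
  have hiff : ∀ U : Subgroup G,
      U ∈ Set.image (fun A : Subgroup ↥P => A.map P.subtype)
        (Cfsg.maxElementaryAbelianSubgroups p ↥P) ↔
      U ∈ ZJ.Fam (fun U : Subgroup G => Cfsg.IsElementaryAbelian p U) P := fun U =>
    GR.mem_image_max_iff P (fun A' => Cfsg.IsElementaryAbelian p A')
      (fun U => Cfsg.IsElementaryAbelian p U) (isElem_map_iff p P) U
  apply le_antisymm
  · apply ZJ.le_WW
    intro A hA
    obtain ⟨A', hA', rfl⟩ := (hiff A).mpr hA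
    exact Subgroup.map_mono (sInf_le hA')
  · intro x hx
    obtain ⟨A₀, hA₀⟩ := Cfsg.Agent.S0655.exists_max (S := ↥P) p
    have hx' : ∀ A' ∈ Cfsg.maxElementaryAbelianSubgroups p ↥P, x ∈ A'.map P.subtype :=
      fun A' hA' => ZJ.WW_le_of_mem ((hiff _).mp ⟨A', hA', rfl⟩) hx
    have hxP : x ∈ P := Subgroup.map_subtype_le _ (hx' A₀ hA₀)
    refine ⟨⟨x, hxP⟩, ?_, rfl⟩
    rw [SetLike.mem_coe, Subgroup.mem_sInf]
    intro A' hA'
    obtain ⟨y, hy, hyx⟩ := hx' A' hA'
    have : y = ⟨x, hxP⟩ := Subtype.ext hyx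
    rw [← this]; exact hy

/-- The ZJ-Theorem for the elementary-abelian Thompson subgroup: for an odd prime p, a finite group G with C_G(O_p(G)) ≤ O_p(G) acting p-stably on its normal p-subgroups, and a Sylow p-subgroup S of G, the subgroup generated by the elements of order dividing p in Z(J_e(S)) is characteristic in G. -/
theorem result {G : Type*} [Group G] [Finite G] {p : ℕ} [Fact p.Prime] (hp : p ≠ 2) (hc : Subgroup.centralizer (Cfsg.pCore p G : Set G) ≤ Cfsg.pCore p G) (hst : ∀ (P : Subgroup G) [P.Normal], IsPGroup p P → Cfsg.IsPStableOn p P) (S : Sylow p G) : ((Cfsg.omegaCenterThompson p ↥(S : Subgroup G)).map (S : Subgroup G).subtype).Characteristic := by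
  rw [omega_map_eq_WW (S : Subgroup G) S.2]
  exact Cfsg.Agent.Lib.Helper16.ZJ.WW_characteristic hp (goodPred_elem p) hc
    (fun V _ hV => hst V hV) S

end Cfsg.Agent.S0654
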