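import Cfsg.Statements.S3079
import Cfsg.Agent.Lib.Helper16.ZJ2
import Cfsg.Agent.S0654

set_option autoImplicit false
open Cfsg

namespace Cfsg.Agent.S3079

open Cfsg.Agent.Lib.Helper16 in
theorem omegaOne_center_eq_WW {G : Type*} [Group G] [Finite G] {p : ℕ} (D : Subgroup G) :
    Cfsg.omegaOne p (Cfsg.centerThompsonOf p D) =
      ZJ.WW (fun U : Subgroup G => Cfsg.IsElementaryAbelian p U) D := by
  have hiff : ∀ U : Subgroup G,
      U ∈ Set.image (fun A : Subgroup ↥D => A.map D.subtype)
        (Cfsg.maxElementaryAbelianSubgroups p ↥D) ↔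
      U ∈ ZJ.Fam (fun U : Subgroup G => Cfsg.IsElementaryAbelian p U) D := fun U =>
    GR.mem_image_max_iff D (fun A' => Cfsg.IsElementaryAbelian p A')
      (fun U => Cfsg.IsElementaryAbelian p U) (Cfsg.Agent.S0654.isElem_map_iff p D) U
  have hJD : Cfsg.thompsonSubgroupOf p D ≤ D := Subgroup.map_subtype_le _
  have hle : ∀ A' ∈ Cfsg.maxElementaryAbelianSubgroups p ↥D,
      A'.map D.subtype ≤ Cfsg.thompsonSubgroupOf p D := fun A' hA' =>
    Subgroup.map_mono (le_sSup hA')
  apply le_antisymm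
  · unfold Cfsg.omegaOne
    rw [Subgroup.closure_le]
    rintro x ⟨hx, hxp⟩
    change x ∈ (sInf (ZJ.Fam (fun U : Subgroup G => Cfsg.IsElementaryAbelian p U) D) : Subgroup G)
    rw [Subgroup.mem_sInf]
    intro A hA
    obtain ⟨A', hA', rfl⟩ := (hiff A).mpr hA
    have hxD : x ∈ D := hJD hx.1
    have hmem : (⟨x, hxD⟩ : ↥D) ∈ A' := by
      apply Cfsg.Agent.S0655.mem_of_max hA'
      · apply Subtype.ext
        simpa using hxp
      · intro a ha
        apply Subtype.ext
        have haJ : (a : G) ∈ Cfsg.thompsonSubgroupOf p D :=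
          hle A' hA' (Subgroup.mem_map_of_mem D.subtype ha)
        exact Subgroup.mem_centralizer_iff.mp hx.2 a haJ
    exact ⟨⟨x, hxD⟩, hmem, rfl⟩
  · intro x hx
    obtain ⟨A₀, hA₀⟩ := Cfsg.Agent.S0655.exists_max (S := ↥D) p
    have hx' : ∀ A' ∈ Cfsg.maxElementaryAbelianSubgroups p ↥D, x ∈ A'.map D.subtype :=
      fun A' hA' => ZJ.WW_le_of_mem ((hiff _).mp ⟨A', hA', rfl⟩) hx
    unfold Cfsg.omegaOne
    apply Subgroup.subset_closure
    refine ⟨⟨hle A₀ hA₀ (hx' A₀ hA₀), ?_⟩, ?_⟩
    · have hJ : Cfsg.thompsonSubgroupOf p D ≤ Subgroup.centralizer ({x} : Set G) := by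
        unfold Cfsg.thompsonSubgroupOf Cfsg.thompsonSubgroup
        rw [Subgroup.map_le_iff_le_comap]
        apply sSup_le
        intro A' hA' a ha
        rw [Subgroup.mem_comap, Subgroup.mem_centralizer_iff]
        intro y hy
        rw [Set.mem_singleton_iff] at hy
        subst hy
        have hAF := (hiff (A'.map D.subtype)).mp ⟨A', hA', rfl⟩
        have hxA := hx' _ hA'
        have haA : D.subtype a ∈ A'.map D.subtype := Subgroup.mem_map_of_mem _ ha
        have := hAF.2.1.1.is_comm.comm ⟨y, hxA⟩ ⟨D.subtype a, haA⟩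
        exact congrArg Subtype.val this
      change x ∈ Subgroup.centralizer (Cfsg.thompsonSubgroupOf p D : Set G)
      rw [Subgroup.mem_centralizer_iff]
      intro y hy
      have h1 := hJ hy
      rw [Subgroup.mem_centralizer_iff] at h1
      exact (h1 x rfl).symm
    · have hAF := (hiff (A₀.map D.subtype)).mp ⟨A₀, hA₀, rfl⟩
      exact hAF.2.1.2 x (hx' A₀ hA₀)

/-- Glauberman's ZJ-Theorem for strongly closed subgroups, p odd. Let G be a finite group that is p-stable in the normalizer form (for every p-subgroup U and g ∈ N_G(U) with [U, g, g] = 1, the image of g lies in O_p(N_G(U)/C_G(U))), with C_G(O_p(G)) ≤ O_p(G), let P be a Sylow p-subgroup and D a subgroup of P strongly closed in P with respect to G. Then Z(J(D)) is normal in G, where J(D) is generated by the abelian subgroups of D of largest order; and so is Ω₁(Z(J_e(D))), where J_e(D) is generated by the elementary abelian subgroups of D of largest order. -/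
theorem result {G : Type*} [Group G] [Finite G] {p : ℕ} [Fact p.Prime] (hp : p ≠ 2) (P : Sylow p G) (D : Subgroup G) (hD : Cfsg.IsStronglyClosed D (P : Subgroup G)) (hst : Cfsg.IsNormalizerPStable p G) (hc : Subgroup.centralizer ((Cfsg.pCore p G : Subgroup G) : Set G) ≤ Cfsg.pCore p G) : (Cfsg.centerThompsonAOf D).Normal ∧ (Cfsg.omegaOne p (Cfsg.centerThompsonOf p D)).Normal := by
  have hst' := Cfsg.Agent.Lib.Helper16.ZJ.stableFor_of_normalizerPStable hst (P : Subgroup G)
  refine ⟨?_, ?_⟩
  · rw [Cfsg.Agent.Lib.Helper16.ZJ.centerThompsonAOf_eq_WW]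
    exact Cfsg.Agent.Lib.Helper16.ZJ.WW_normal_sc hp Cfsg.Agent.Lib.Helper16.ZJ.goodPred_comm hc
      P hst' D hD
  · rw [omegaOne_center_eq_WW]
    exact Cfsg.Agent.Lib.Helper16.ZJ.WW_normal_sc hp (Cfsg.Agent.S0654.goodPred_elem p) hc
      P hst' D hD

end Cfsg.Agent.S3079
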