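import Cfsg.Statements.S3743

set_option autoImplicit false
open Cfsg

namespace Cfsg.Agent.S3743

variable {G : Type*} [Group G]

theorem card_sup_dvd_normal (M N : Subgroup G) [N.Normal] :
    Nat.card (M ⊔ N : Subgroup G) ∣ Nat.card M * Nat.card N := by
  have h1 : Nat.card (N.subgroupOf (M ⊔ N)) * N.relIndex (M ⊔ N) = Nat.card (M ⊔ N : Subgroup G) :=
    Subgroup.card_mul_index _
  have h2 : Nat.card (N.subgroupOf (M ⊔ N)) = Nat.card N :=
    Nat.card_congr (Subgroup.subgroupOfEquivOfLe le_sup_right).toEquiv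
  rw [Subgroup.relIndex_sup_right, h2] at h1
  rw [← h1, mul_comm]
  exact Nat.mul_dvd_mul_right (Subgroup.relIndex_dvd_card N M) _

theorem card_sup_dvd (M N : Subgroup G) (h : M ≤ Subgroup.normalizer (N : Set G)) :
    Nat.card (M ⊔ N : Subgroup G) ∣ Nat.card M * Nat.card N := by
  have hN : N ≤ Subgroup.normalizer (N : Set G) := Subgroup.le_normalizer
  have : (N.subgroupOf (Subgroup.normalizer (N : Set G))).Normal := Subgroup.normal_in_normalizer
  have key := card_sup_dvd_normal (M.subgroupOf (Subgroup.normalizer (N : Set G)))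
    (N.subgroupOf (Subgroup.normalizer (N : Set G)))
  rw [← Subgroup.subgroupOf_sup h hN] at key
  rwa [Nat.card_congr (Subgroup.subgroupOfEquivOfLe (sup_le h hN)).toEquiv,
    Nat.card_congr (Subgroup.subgroupOfEquivOfLe h).toEquiv,
    Nat.card_congr (Subgroup.subgroupOfEquivOfLe hN).toEquiv] at key

/-- all prime divisors of the order lie in `π` -/
def IsPi (π : Set ℕ) (N : Subgroup G) : Prop :=
  ∀ p : ℕ, p.Prime → p ∣ Nat.card N → p ∈ π

theorem IsPi.sup {π : Set ℕ} {M N : Subgroup G} (hM : IsPi π M) (hN : IsPi π N)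
    (h : M ≤ Subgroup.normalizer (N : Set G)) : IsPi π (M ⊔ N) := by
  intro p hp hpd
  rcases (hp.dvd_mul).1 (hpd.trans (card_sup_dvd M N h)) with h1 | h1
  · exact hM p hp h1
  · exact hN p hp h1

/-- the family of `π`-subgroups of `H` normalized by `H` -/
def relSet (π : Set ℕ) (H : Subgroup G) : Set (Subgroup G) :=
  {N | N ≤ H ∧ H ≤ Subgroup.normalizer (N : Set G) ∧ IsPi π N}

theorem normalizer_sup_le (H M N : Subgroup G) (hM : H ≤ Subgroup.normalizer (M : Set G))
    (hN : H ≤ Subgroup.normalizer (N : Set G)) : H ≤ Subgroup.normalizer ((M ⊔ N : Subgroup G) : Set G) := by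
  intro h hh
  have key : ∀ k : G, k ∈ H → ∀ x ∈ M ⊔ N, k * x * k⁻¹ ∈ M ⊔ N := by
    intro k hk x hx
    have hle : M ⊔ N ≤ (M ⊔ N).comap (MulAut.conj k).toMonoidHom := by
      apply sup_le
      · intro y hy
        rw [Subgroup.mem_comap]
        exact Subgroup.mem_sup_left ((Subgroup.mem_normalizer_iff.1 (hM hk) y).1 hy)
      · intro y hy
        rw [Subgroup.mem_comap]
        exact Subgroup.mem_sup_right ((Subgroup.mem_normalizer_iff.1 (hN hk) y).1 hy)
    exact hle hx
  rw [Subgroup.mem_normalizer_iff]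
  intro x
  constructor
  · exact key h hh x
  · intro hx
    have := key h⁻¹ (H.inv_mem hh) _ hx
    simpa [mul_assoc] using this

theorem sSup_relSet_mem [Finite G] (π : Set ℕ) (H : Subgroup G) : sSup (relSet π H) ∈ relSet π H := by
  classical
  have hfin : (relSet π H).Finite := Set.toFinite _
  have : sSup (relSet π H) = hfin.toFinset.sup id := by
    rw [Finset.sup_id_eq_sSup, Set.Finite.coe_toFinset]
  rw [this]
  apply Finset.sup_induction (p := fun N => N ∈ relSet π H)
  · refine ⟨bot_le, ?_, ?_⟩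
    · intro h _
      rw [Subgroup.mem_normalizer_iff]
      intro x
      simp [Subgroup.mem_bot]
    · intro p hp hpd
      rw [Subgroup.card_bot] at hpd
      exact absurd (Nat.dvd_one.1 hpd) hp.one_lt.ne'
  · rintro M ⟨hM1, hM2, hM3⟩ N ⟨hN1, hN2, hN3⟩
    exact ⟨sup_le hM1 hN1, normalizer_sup_le H M N hM2 hN2, hM3.sup hN3 (hM1.trans hN2)⟩
  · intro N hN
    exact (Set.Finite.mem_toFinset hfin).1 hN

theorem map_conj_mem_relSet {π : Set ℕ} {H K : Subgroup G} (hK : K ≤ Subgroup.normalizer (H : Set G))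
    {N : Subgroup G} (hN : N ∈ relSet π H) {k : G} (hk : k ∈ K) :
    N.map (MulAut.conj k).toMonoidHom ∈ relSet π H := by
  obtain ⟨h1, h2, h3⟩ := hN
  refine ⟨?_, ?_, ?_⟩
  · rintro _ ⟨x, hx, rfl⟩
    exact (Subgroup.mem_normalizer_iff.1 (hK hk) x).1 (h1 hx)
  · intro h hh
    have hkh : k⁻¹ * h * k ∈ H := by
      have := (Subgroup.mem_normalizer_iff.1 (hK (K.inv_mem hk)) h).1 hh
      simpa using this
    have key : ∀ h' : G, k⁻¹ * h' * k ∈ H → ∀ y ∈ N.map (MulAut.conj k).toMonoidHom,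
        h' * y * h'⁻¹ ∈ N.map (MulAut.conj k).toMonoidHom := by
      rintro h' hh' _ ⟨x, hx, rfl⟩
      refine ⟨(k⁻¹ * h' * k) * x * (k⁻¹ * h' * k)⁻¹,
        (Subgroup.mem_normalizer_iff.1 (h2 hh') x).1 hx, ?_⟩
      simp only [MulEquiv.coe_toMonoidHom, MulAut.conj_apply]
      group
    rw [Subgroup.mem_normalizer_iff]
    intro y
    constructor
    · exact key h hkh y
    · intro hy
      have hkh' : k⁻¹ * h⁻¹ * k ∈ H := by
        have : k⁻¹ * h⁻¹ * k = (k⁻¹ * h * k)⁻¹ := by group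
        rw [this]
        exact H.inv_mem hkh
      have := key h⁻¹ hkh' _ hy
      simpa [mul_assoc] using this
  · intro p hp hpd
    apply h3 p hp
    have : Nat.card (N.map (MulAut.conj k).toMonoidHom) = Nat.card N :=
      Nat.card_congr (N.equivMapOfInjective _ (MulAut.conj k).injective).toEquiv.symm
    rwa [this] at hpd

theorem sSup_relSet_le [Finite G] (π : Set ℕ) {H K : Subgroup G} (hHK : H ≤ K)
    (hK : K ≤ Subgroup.normalizer (H : Set G)) : sSup (relSet π H) ≤ sSup (relSet π K) := by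
  apply le_sSup
  have hmem := sSup_relSet_mem π H
  refine ⟨hmem.1.trans hHK, ?_, hmem.2.2⟩
  have key : ∀ k ∈ K, ∀ x ∈ sSup (relSet π H), k * x * k⁻¹ ∈ sSup (relSet π H) := by
    intro k hk x hx
    have h1 := map_conj_mem_relSet hK hmem hk
    have h2 : (sSup (relSet π H)).map (MulAut.conj k).toMonoidHom ≤ sSup (relSet π H) := le_sSup h1
    exact h2 ⟨x, hx, rfl⟩
  intro k hk
  rw [Subgroup.mem_normalizer_iff]
  intro x
  constructor
  · exact key k hk x
  · intro hx
    have := key k⁻¹ (K.inv_mem hk) _ hx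
    simpa [mul_assoc] using this

theorem relSet_top (π : Set ℕ) : relSet π (⊤ : Subgroup G) =
    {N : Subgroup G | N.Normal ∧ ∀ p : ℕ, p.Prime → p ∣ Nat.card N → p ∈ π} := by
  ext N
  constructor
  · rintro ⟨_, h2, h3⟩
    exact ⟨Subgroup.normalizer_eq_top_iff.1 (top_le_iff.1 h2), h3⟩
  · rintro ⟨h1, h2⟩
    exact ⟨le_top, (Subgroup.normalizer_eq_top_iff.2 h1).ge, h2⟩

theorem sSup_relSet_le_piCore [Finite G] (π : Set ℕ) {A : Subgroup G} (hA : A.IsSubnormal) :
    sSup (relSet π A) ≤ Cfsg.piCore π G := by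
  induction hA with
  | top =>
    rw [relSet_top]
    exact le_rfl
  | step H K hle _ hN ih =>
    exact (sSup_relSet_le π hle ((Subgroup.normal_subgroupOf_iff_le_normalizer hle).1 hN)).trans ih

theorem le_piCore [Finite G] (π : Set ℕ) {A : Subgroup G} (hA : A.IsSubnormal)
    (hpi : ∀ p : ℕ, p.Prime → p ∣ Nat.card A → p ∈ π) : A ≤ Cfsg.piCore π G := by
  refine le_trans (le_sSup ?_) (sSup_relSet_le_piCore π hA)
  exact ⟨le_rfl, Subgroup.le_normalizer, hpi⟩

theorem piCore_isPi [Finite G] (π : Set ℕ) : IsPi π (Cfsg.piCore π G) := by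
  have := sSup_relSet_mem π (⊤ : Subgroup G)
  rw [relSet_top] at this
  exact this.2

theorem eq_top_of_sylow_le {A : Type*} [Group A] [Finite A] (S : Subgroup A)
    (h : ∀ (p : ℕ) [Fact p.Prime] (P : Sylow p A), (P : Subgroup A) ≤ S) : S = ⊤ := by
  apply Subgroup.eq_top_of_card_eq
  apply Nat.dvd_antisymm (Subgroup.card_subgroup_dvd_card S)
  rw [← Nat.factorization_prime_le_iff_dvd Nat.card_pos.ne' Nat.card_pos.ne']
  intro p hp
  have : Fact p.Prime := ⟨hp⟩
  have P : Sylow p A := default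
  rw [← Nat.Prime.pow_dvd_iff_le_factorization hp Nat.card_pos.ne', ← P.card_eq_multiplicity]
  exact Subgroup.card_dvd_of_le (h p P)

theorem piCore_singleton_le_fitting [Finite G] (p : ℕ) [Fact p.Prime] :
    Cfsg.piCore {p} G ≤ Cfsg.fittingSubgroup G := by
  apply le_sSup
  refine ⟨inferInstance, ?_⟩
  have hpi := piCore_isPi (G := G) {p}
  have hcard : Nat.card (Cfsg.piCore {p} G) = p ^ (Nat.card (Cfsg.piCore {p} G)).primeFactorsList.length :=
    Nat.eq_prime_pow_of_unique_prime_dvd Nat.card_pos.ne' (fun {d} hd hdd => hpi d hd hdd)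
  exact (IsPGroup.of_card hcard).isNilpotent

theorem le_fitting [Finite G] {A : Subgroup G} (hA : A.IsSubnormal) (hnil : Group.IsNilpotent A) :
    A ≤ Cfsg.fittingSubgroup G := by
  have htop : (Cfsg.fittingSubgroup G).subgroupOf A = ⊤ := by
    apply eq_top_of_sylow_le
    intro p _ P
    have hsub : ((P : Subgroup A).map A.subtype).IsSubnormal := by
      apply Subgroup.IsSubnormal.trans (Subgroup.map_subtype_le _) _ hA
      have : ((P : Subgroup A).map A.subtype).subgroupOf A = (P : Subgroup A) :=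
        Subgroup.comap_map_eq_self_of_injective A.subtype_injective _
      rw [this]
      exact Subgroup.Normal.isSubnormal inferInstance
    have hpi : ∀ q : ℕ, q.Prime → q ∣ Nat.card ((P : Subgroup A).map A.subtype) → q ∈ ({p} : Set ℕ) := by
      intro q hq hqd
      have hc : Nat.card ((P : Subgroup A).map A.subtype) = Nat.card (P : Subgroup A) :=
        Nat.card_congr ((P : Subgroup A).equivMapOfInjective _ A.subtype_injective).toEquiv.symm
      rw [hc, P.card_eq_multiplicity] at hqd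
      exact (Nat.prime_dvd_prime_iff_eq hq (Fact.out)).1 (hq.dvd_of_dvd_pow hqd)
    have h1 := (le_piCore {p} hsub hpi).trans (piCore_singleton_le_fitting p)
    intro x hx
    rw [Subgroup.mem_subgroupOf]
    exact h1 ⟨x, hx, rfl⟩
  rwa [Subgroup.subgroupOf_eq_top] at htop

theorem result {G : Type*} [Group G] [Finite G] (A : Subgroup G) (hA : A.IsSubnormal) : (Group.IsNilpotent A → A ≤ Cfsg.fittingSubgroup G) ∧ ∀ π : Set ℕ, (∀ p : ℕ, p.Prime → p ∣ Nat.card A → p ∈ π) → A ≤ Cfsg.piCore π G := by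
  exact ⟨fun h => le_fitting hA h, fun π h => le_piCore π hA h⟩

end Cfsg.Agent.S3743
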