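import Cfsg.Statements.S1393
import Cfsg.Agent.Lib.Helper31.TransRank
import Cfsg.Agent.S1324

set_option autoImplicit false
open Cfsg

namespace Cfsg.Agent.S1393

open Cfsg.Agent.Lib.Helper31
open scoped Pointwise

/-- Let G be a minimal simple group of odd order, A a subgroup satisfying the transitivity hypothesis whose centre has rank at least 3, K = O_{π(A)'}(C_G(A)), and q a prime not dividing the order of A. Then any two maximal A-invariant q-subgroups of G are conjugate by an element of K. -/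
theorem result {G : Type*} [Group G] [Finite G] (hG : Cfsg.IsMinSimpleOddOrder G)
    (A : Subgroup G) (hA : Cfsg.TransitivityHypothesis A) (hZ : ¬ Cfsg.RankLE 2 ↥(A ⊓ Subgroup.centralizer (A : Set G)))
    (q : ℕ) (hq : q.Prime) (hqA : ¬ q ∣ Nat.card A) :
    ∀ Q₁ ∈ Cfsg.maxInvSubgroups ⊤ A {q}, ∀ Q₂ ∈ Cfsg.maxInvSubgroups ⊤ A {q}, ∃ k ∈ Cfsg.piCoreOf (Cfsg.primesNotDvd (Nat.card A)) (Subgroup.centralizer (A : Set G)), Q₂ = Q₁.map (MulAut.conj k).toMonoidHom := by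
  have : Fact q.Prime := ⟨hq⟩
  have hMS : IsMinimalSimple G := hG.2
  have hS : IsSimpleGroup G := hMS.1
  obtain ⟨p, E, hp, hEZ, hEel, hEcard⟩ := exists_elemAb_of_not_rankLE _ 2 hZ
  have : Fact p.Prime := ⟨hp⟩
  have hEA : E ≤ A := hEZ.trans inf_le_left
  have hEC : E ≤ Subgroup.centralizer (A : Set G) := hEZ.trans inf_le_right
  have hpE : p ∣ Nat.card E := by
    have hpg : IsPGroup p E := by
      intro x
      exact ⟨1, by rw [pow_one]; exact Subtype.ext (by simpa using hEel.2 x.1 x.2)⟩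
    obtain ⟨k, hk⟩ := IsPGroup.iff_card.mp hpg
    rcases Nat.eq_zero_or_pos k with rfl | hk0
    · rw [hk, pow_zero] at hEcard
      have := Nat.one_le_two_pow (n := 0)
      have h2 : 1 ≤ p ^ 2 := Nat.one_le_pow _ _ hp.pos
      omega
    · rw [hk]; exact dvd_pow_self p hk0.ne'
  have hpA : p ∣ Nat.card A := hpE.trans (Subgroup.card_dvd_of_le hEA)
  -- for nontrivial `Q`, some `B ≤ E` of index at most `p` has `C_Q(B) ≠ 1`
  have key : ∀ Q ∈ maxInvSubgroups ⊤ A {q}, Q ≠ ⊥ →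
      ∃ B : Subgroup G, B ≤ E ∧ B.relIndex E ≤ p ∧
        Q ⊓ Subgroup.centralizer ((B : Subgroup G) : Set G) ≠ ⊥ := by
    intro Q hQ hQne
    have hqQ : IsPGroup q Q := isPGroup_of_forall_prime q Q hQ.1.2.1
    have hpQ : ¬ p ∣ Nat.card Q := by
      intro h
      have h1 := Nat.dvd_gcd h hpA
      rw [(coprime_of_isPGroup q Q A hqQ hqA).gcd_eq_one] at h1
      exact hp.one_lt.ne' (Nat.dvd_one.mp h1)
    have hgen := Cfsg.Agent.S1324.result p E Q hEel hEcard.le hpQ (hEA.trans hQ.1.2.2)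
    by_contra hcon
    push Not at hcon
    apply hQne
    rw [hgen, eq_bot_iff]
    apply iSup_le
    rintro ⟨B, hBE, hBidx⟩
    exact (hcon B hBE hBidx).le
  intro Q₁ h₁ Q₂ h₂
  by_cases hb₁ : Q₁ = ⊥
  · have hb₂ : Q₂ = ⊥ := by
      have := h₁.2 Q₂ h₂.1 (by rw [hb₁]; exact bot_le)
      rw [this, hb₁]
    refine ⟨1, one_mem _, ?_⟩
    show Q₂ = MulAut.conj (1 : G) • Q₁
    rw [map_one, one_smul, hb₁, hb₂]
  by_cases hb₂ : Q₂ = ⊥
  · exfalso
    apply hb₁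
    have := h₂.2 Q₁ h₁.1 (by rw [hb₂]; exact bot_le)
    rw [this, hb₂]
  obtain ⟨B₁, hB₁E, hB₁i, hB₁c⟩ := key Q₁ h₁ hb₁
  obtain ⟨B₂, hB₂E, hB₂i, hB₂c⟩ := key Q₂ h₂ hb₂
  have hBB : B₁ ⊓ B₂ ≠ ⊥ := by
    intro h
    have h1 := Subgroup.relIndex_inf_le (H := B₁) (K := B₂) (L := E)
    rw [h, Subgroup.relIndex_bot_left] at h1
    have h2 : B₁.relIndex E * B₂.relIndex E ≤ p * p := Nat.mul_le_mul hB₁i hB₂i
    rw [sq] at hEcard
    omega
  obtain ⟨a, haB, ha1⟩ := (Subgroup.ne_bot_iff_exists_ne_one).mp hBB |> fun ⟨x, hx⟩ =>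
    (⟨x.1, x.2, fun h => hx (Subtype.ext h)⟩ : ∃ a ∈ B₁ ⊓ B₂, a ≠ 1)
  have haB₁ : a ∈ B₁ := (Subgroup.mem_inf.1 haB).1
  have haB₂ : a ∈ B₂ := (Subgroup.mem_inf.1 haB).2
  have haC : a ∈ Subgroup.centralizer (A : Set G) := hEC (hB₁E haB₁)
  have hsub : ∀ (B Q : Subgroup G), a ∈ B →
      Q ⊓ Subgroup.centralizer ((B : Subgroup G) : Set G) ≠ ⊥ →
      Q ⊓ Subgroup.centralizer {a} ≠ ⊥ := by
    intro B Q haB' hne h
    apply hne
    rw [eq_bot_iff, ← h]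
    refine inf_le_inf_left _ (Subgroup.centralizer_le ?_)
    intro x hx
    rw [Set.mem_singleton_iff] at hx
    subst hx
    exact haB'
  exact conj_of_common_elt hMS hA q hqA Q₁ Q₂ h₁ h₂ a haC ha1 (hsub B₁ Q₁ haB₁ hB₁c)
    (hsub B₂ Q₂ haB₂ hB₂c)

end Cfsg.Agent.S1393
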