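import Cfsg.Statements.S3766
import Cfsg.Agent.Lib.Helper76.Fitting

set_option autoImplicit false
open Cfsg

namespace Cfsg.Agent.S3766

open Cfsg.Agent.Lib.Helper76

/-- `U/V` is a chief factor of `G`. -/
def Chief {G : Type*} [Group G] (U V : Subgroup G) : Prop :=
  U.Normal ∧ V.Normal ∧ V < U ∧ ∀ W : Subgroup G, W.Normal → V ≤ W → W ≤ U → W = V ∨ W = U

theorem commutator_sup_le {G : Type*} [Group G] (V A B : Subgroup G) [V.Normal] :
    ⁅V ⊔ A, B⁆ ≤ V ⊔ ⁅A, B⁆ := by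
  have h : (⁅V ⊔ A, B⁆).map (QuotientGroup.mk' V) ≤ (⁅A, B⁆).map (QuotientGroup.mk' V) := by
    rw [Subgroup.map_commutator, Subgroup.map_commutator, Subgroup.map_sup]
    have h0 : V.map (QuotientGroup.mk' V) = ⊥ := by
      rw [Subgroup.map_eq_bot_iff, QuotientGroup.ker_mk']
    rw [h0, bot_sup_eq]
  rw [Subgroup.map_le_map_iff, QuotientGroup.ker_mk'] at h
  exact h.trans (le_of_eq (sup_comm _ _))

theorem commutator_sup_sup_le {G : Type*} [Group G] (V A : Subgroup G) [V.Normal] :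
    ⁅V ⊔ A, V ⊔ A⁆ ≤ V ⊔ ⁅A, A⁆ := by
  refine (commutator_sup_le V A (V ⊔ A)).trans (sup_le le_sup_left ?_)
  rw [Subgroup.commutator_comm]
  exact commutator_sup_le V A A

theorem card_lt_of_lt {G : Type*} [Group G] [Finite G] {H K : Subgroup G} (h : H < K) :
    Nat.card H < Nat.card K :=
  Set.Finite.card_lt_card (Set.toFinite _) (SetLike.coe_ssubset_coe.2 h)

/-- A normal nilpotent subgroup centralizes every chief factor. -/
theorem centralizes_chief {G : Type*} [Group G] (F : Subgroup G) [hF : F.Normal] (c : ℕ)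
    (hc : F.lowerCentralSeries c = ⊥) (U V : Subgroup G) (hUV : Chief U V) : ⁅U, F⁆ ≤ V := by
  obtain ⟨hU, hV, hlt, hmin⟩ := hUV
  have hW : (V ⊔ ⁅U, F⁆).Normal := inferInstance
  rcases hmin (V ⊔ ⁅U, F⁆) hW le_sup_left
    (sup_le hlt.le (Subgroup.commutator_le_left U F)) with h | h
  · rw [← h]; exact le_sup_right
  · exfalso
    let f : Subgroup G → Subgroup G := fun X => ⁅X, F⁆
    have key : ∀ k, U ≤ V ⊔ f^[k] U := by
      intro k
      induction k with
      | zero => exact le_sup_right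
      | succ k ih =>
        rw [Function.iterate_succ_apply']
        calc U = V ⊔ ⁅U, F⁆ := h.symm
          _ ≤ V ⊔ ⁅V ⊔ f^[k] U, F⁆ := sup_le_sup_left (Subgroup.commutator_mono ih le_rfl) V
          _ ≤ V ⊔ (V ⊔ ⁅f^[k] U, F⁆) := sup_le_sup_left (commutator_sup_le V _ F) V
          _ = V ⊔ f (f^[k] U) := by rw [← sup_assoc, sup_idem]
    have key2 : ∀ k, f^[k + 1] U ≤ F.lowerCentralSeries k := by
      intro k
      induction k with
      | zero => exact Subgroup.commutator_le_right U F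
      | succ k ih =>
        rw [Function.iterate_succ_apply', Subgroup.lowerCentralSeries_succ]
        exact Subgroup.commutator_mono ih le_rfl
    have h1 := key (c + 1)
    have h2 : f^[c + 1] U = ⊥ := by
      rw [eq_bot_iff, ← hc]; exact key2 c
    rw [h2, sup_bot_eq] at h1
    exact (not_le_of_gt hlt) h1

/-- The elements of `N` centralizing all chief factors of `G` below `F`. -/
def Dsub {G : Type*} [Group G] (N F : Subgroup G) : Subgroup G where
  carrier := {x | x ∈ N ∧ ∀ U V : Subgroup G, Chief U V → U ≤ F →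
    ∀ u ∈ U, u * x * u⁻¹ * x⁻¹ ∈ V}
  one_mem' := ⟨N.one_mem, fun U V _ _ u _ => by simp [V.one_mem]⟩
  mul_mem' := by
    rintro x y ⟨hxN, hx⟩ ⟨hyN, hy⟩
    refine ⟨N.mul_mem hxN hyN, fun U V hUV hUF u hu => ?_⟩
    have hVn : V.Normal := hUV.2.1
    have h1 := hx U V hUV hUF u hu
    have h2 := hVn.conj_mem _ (hy U V hUV hUF u hu) x
    have h3 := V.mul_mem h1 h2
    have e : u * (x * y) * u⁻¹ * (x * y)⁻¹ =
        u * x * u⁻¹ * x⁻¹ * (x * (u * y * u⁻¹ * y⁻¹) * x⁻¹) := by group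
    rw [e]; exact h3
  inv_mem' := by
    rintro x ⟨hxN, hx⟩
    refine ⟨N.inv_mem hxN, fun U V hUV hUF u hu => ?_⟩
    have hVn : V.Normal := hUV.2.1
    have h1 := V.inv_mem (hx U V hUV hUF u hu)
    have h2 := hVn.conj_mem _ h1 x⁻¹
    have e : u * x⁻¹ * u⁻¹ * x⁻¹⁻¹ = x⁻¹ * (u * x * u⁻¹ * x⁻¹)⁻¹ * x⁻¹⁻¹ := by group
    rw [e]; exact h2

theorem mem_Dsub {G : Type*} [Group G] (N F : Subgroup G) (x : G) :
    x ∈ Dsub N F ↔ x ∈ N ∧ ∀ U V : Subgroup G, Chief U V → U ≤ F →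
      ∀ u ∈ U, u * x * u⁻¹ * x⁻¹ ∈ V := Iff.rfl

theorem Dsub_normal {G : Type*} [Group G] (N F : Subgroup G) [hN : N.Normal] :
    (Dsub N F).Normal := by
  constructor
  rintro x ⟨hxN, hx⟩ a
  refine ⟨hN.conj_mem x hxN a, fun U V hUV hUF u hu => ?_⟩
  have hVn : V.Normal := hUV.2.1
  have hUn : U.Normal := hUV.1
  have hu' : a⁻¹ * u * a⁻¹⁻¹ ∈ U := hUn.conj_mem u hu a⁻¹
  have h1 := hx U V hUV hUF _ hu'
  have h2 := hVn.conj_mem _ h1 a
  have e : u * (a * x * a⁻¹) * u⁻¹ * (a * x * a⁻¹)⁻¹ =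
      a * (a⁻¹ * u * a⁻¹⁻¹ * x * (a⁻¹ * u * a⁻¹⁻¹)⁻¹ * x⁻¹) * a⁻¹ := by group
  rw [e]; exact h2

theorem Dsub_le_of_max {G : Type*} [Group G] [Finite G] (hG : Group.IsSolvable G)
    (N F : Subgroup G) [hN : N.Normal] [hF : F.Normal]
    (hFD : F ≤ Dsub N F)
    (hmax : ∀ M : Subgroup G, M ≤ N → M.Normal → Group.IsNilpotent M → M ≤ F) :
    Dsub N F ≤ F := by
  by_contra hnot
  have hDn : (Dsub N F).Normal := Dsub_normal N F
  have hlt : F < Dsub N F := lt_of_le_of_ne hFD (fun h => hnot h.ge)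
  let S : Set (Subgroup G) := {X | X.Normal ∧ F < X ∧ X ≤ Dsub N F}
  have hne : S.Nonempty := ⟨Dsub N F, hDn, hlt, le_rfl⟩
  obtain ⟨W, ⟨hWn, hFW, hWD⟩, hWmin⟩ := wellFounded_lt.has_min S hne
  have hchiefWF : Chief W F := ⟨hWn, hF, hFW, fun X hX h1 h2 => by
    by_cases hXF : X = F
    · left; exact hXF
    · right
      by_contra hXW
      exact hWmin X ⟨hX, lt_of_le_of_ne h1 (Ne.symm hXF), h2.trans hWD⟩ (lt_of_le_of_ne h2 hXW)⟩
  -- `W / F` is abelian
  have hab : ⁅W, W⁆ ≤ F := by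
    have hXn : (F ⊔ ⁅W, W⁆).Normal := inferInstance
    rcases hchiefWF.2.2.2 (F ⊔ ⁅W, W⁆) hXn le_sup_left
      (sup_le hFW.le (Subgroup.commutator_le_left W W)) with h | h
    · rw [← h]; exact le_sup_right
    · exfalso
      let d : Subgroup G → Subgroup G := fun X => ⁅X, X⁆
      have key : ∀ k, W ≤ F ⊔ d^[k] W := by
        intro k
        induction k with
        | zero => exact le_sup_right
        | succ k ih =>
          rw [Function.iterate_succ_apply']
          calc W = F ⊔ ⁅W, W⁆ := h.symm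
            _ ≤ F ⊔ ⁅F ⊔ d^[k] W, F ⊔ d^[k] W⁆ :=
                sup_le_sup_left (Subgroup.commutator_mono ih ih) F
            _ ≤ F ⊔ (F ⊔ ⁅d^[k] W, d^[k] W⁆) :=
                sup_le_sup_left (commutator_sup_sup_le F _) F
            _ = F ⊔ d (d^[k] W) := by rw [← sup_assoc, sup_idem]
      have key2 : ∀ k, d^[k] W ≤ derivedSeries G k := by
        intro k
        induction k with
        | zero => exact le_top
        | succ k ih =>
          rw [Function.iterate_succ_apply', derivedSeries_succ]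
          exact Subgroup.commutator_mono ih ih
      obtain ⟨n, hn⟩ := hG.solvable
      have h1 := key n
      have h2 : d^[n] W = ⊥ := by
        rw [eq_bot_iff, ← hn]; exact key2 n
      rw [h2, sup_bot_eq] at h1
      exact (not_le_of_gt hFW) h1
  -- `W` is nilpotent
  let f : Subgroup G → Subgroup G := fun X => ⁅X, W⁆
  have claim : ∀ n : ℕ, ∀ M : Subgroup G, Nat.card M = n → M.Normal → M ≤ F →
      ∃ k, f^[k] M = ⊥ := by
    intro n
    induction n using Nat.strong_induction_on with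
    | _ n ih =>
    intro M hMn hMnorm hMF
    by_cases hM : M = ⊥
    · exact ⟨0, hM⟩
    · let T : Set (Subgroup G) := {X | X.Normal ∧ X < M}
      have hTne : T.Nonempty := ⟨⊥, inferInstance, bot_lt_iff_ne_bot.2 hM⟩
      obtain ⟨V, ⟨hVn, hVM⟩, hVmax⟩ := wellFounded_gt.has_min T hTne
      have hchief : Chief M V := ⟨hMnorm, hVn, hVM, fun X hX h1 h2 => by
        by_cases hXM : X = M
        · right; exact hXM
        · left
          by_contra hXV
          exact hVmax X ⟨hX, lt_of_le_of_ne h2 hXM⟩ (lt_of_le_of_ne h1 (Ne.symm hXV))⟩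
      have hMW : ⁅M, W⁆ ≤ V := by
        rw [Subgroup.commutator_le]
        intro u hu w hw
        exact (hWD hw).2 M V hchief hMF u hu
      have hcn : (⁅M, W⁆).Normal := inferInstance
      have hlt' : Nat.card (⁅M, W⁆ : Subgroup G) < n := by
        rw [← hMn]; exact card_lt_of_lt (lt_of_le_of_lt hMW hVM)
      obtain ⟨k, hk⟩ := ih _ hlt' ⁅M, W⁆ rfl hcn (hMW.trans (hVM.le.trans hMF))
      exact ⟨k + 1, by rw [Function.iterate_succ_apply]; exact hk⟩
  obtain ⟨k, hk⟩ := claim _ F rfl hF le_rfl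
  have hl : ∀ j, W.lowerCentralSeries (j + 1) ≤ f^[j] F := by
    intro j
    induction j with
    | zero => exact hab
    | succ j ih =>
      rw [Function.iterate_succ_apply', Subgroup.lowerCentralSeries_succ]
      exact Subgroup.commutator_mono ih le_rfl
  have hWnil : Group.IsNilpotent W :=
    (Subgroup.isNilpotent_iff_lowerCentralSeries W).2
      ⟨k + 1, by rw [eq_bot_iff, ← hk]; exact hl k⟩
  have hWF := hmax W (hWD.trans (fun x hx => hx.1)) hWn hWnil
  exact (not_le_of_gt hFW) hWF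

theorem fitting_map_equiv_le {G G' : Type*} [Group G] [Group G'] (e : G ≃* G') :
    (Cfsg.fittingSubgroup G).map e.toMonoidHom ≤ Cfsg.fittingSubgroup G' := by
  unfold Cfsg.fittingSubgroup
  rw [sSup_eq_iSup', Subgroup.map_iSup]
  refine iSup_le ?_
  rintro ⟨K, hKn, hKnil⟩
  refine le_sSup ⟨hKn.map _ e.surjective, ?_⟩
  exact Group.nilpotent_of_mulEquiv (e.subgroupMap K)

theorem fitting_char (G : Type*) [Group G] : (Cfsg.fittingSubgroup G).Characteristic := by
  refine Subgroup.characteristic_iff_map_eq.mpr fun ϕ => ?_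
  refine le_antisymm (fitting_map_equiv_le ϕ) ?_
  have h := fitting_map_equiv_le ϕ.symm
  intro x hx
  have h1 := h (Subgroup.mem_map_of_mem _ hx)
  refine ⟨ϕ.symm x, h1, ?_⟩
  simp

/-- For solvable G and N ⊴ G: F(N) = ⋂ C_N(U/V) over the chief factors U/V of G, and already over those with U ≤ F(N). -/
theorem result {G : Type*} [Group G] [Finite G] (hG : Group.IsSolvable G) (N : Subgroup G) [N.Normal] (g : G) : (g ∈ (Cfsg.fittingSubgroup ↥N).map N.subtype ↔ g ∈ N ∧ ∀ U V : Subgroup G, (U.Normal ∧ V.Normal ∧ V < U ∧ ∀ W : Subgroup G, W.Normal → V ≤ W → W ≤ U → W = V ∨ W = U) → ∀ u ∈ U, u * g * u⁻¹ * g⁻¹ ∈ V) ∧ (g ∈ (Cfsg.fittingSubgroup ↥N).map N.subtype ↔ g ∈ N ∧ ∀ U V : Subgroup G, (U.Normal ∧ V.Normal ∧ V < U ∧ ∀ W : Subgroup G, W.Normal → V ≤ W → W ≤ U → W = V ∨ W = U) → U ≤ (Cfsg.fittingSubgroup ↥N).map N.subtype → ∀ u ∈ U, u * g * u⁻¹ * g⁻¹ ∈ V) := by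
  have hchar : (Cfsg.fittingSubgroup ↥N).Characteristic := fitting_char ↥N
  have hFn : ((Cfsg.fittingSubgroup ↥N).map N.subtype).Normal :=
    ConjAct.normal_of_characteristic_of_normal
  have hFN : (Cfsg.fittingSubgroup ↥N).map N.subtype ≤ N := Subgroup.map_subtype_le _
  have hnil0 : Group.IsNilpotent (Cfsg.fittingSubgroup ↥N) := fittingSubgroup_isNilpotent
  have hFnil : Group.IsNilpotent ((Cfsg.fittingSubgroup ↥N).map N.subtype) :=
    Group.nilpotent_of_mulEquiv
      ((Cfsg.fittingSubgroup ↥N).equivMapOfInjective N.subtype N.subtype_injective)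
  obtain ⟨c, hc⟩ := (Subgroup.isNilpotent_iff_lowerCentralSeries _).1 hFnil
  have hmax : ∀ M : Subgroup G, M ≤ N → M.Normal → Group.IsNilpotent M →
      M ≤ (Cfsg.fittingSubgroup ↥N).map N.subtype := by
    intro M hMN hMn hMnil
    have h1 : (M.subgroupOf N).Normal := hMn.subgroupOf N
    have h2 : Group.IsNilpotent (M.subgroupOf N) :=
      Group.nilpotent_of_mulEquiv (Subgroup.subgroupOfEquivOfLe hMN).symm
    have h3 := le_fittingSubgroup h1 h2
    have h4 := Subgroup.map_mono (f := N.subtype) h3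
    rwa [Subgroup.map_subgroupOf_eq_of_le hMN] at h4
  have hA : ∀ U V : Subgroup G, Chief U V → ∀ x ∈ (Cfsg.fittingSubgroup ↥N).map N.subtype,
      ∀ u ∈ U, u * x * u⁻¹ * x⁻¹ ∈ V := by
    intro U V hUV x hx u hu
    exact centralizes_chief _ c hc U V hUV (Subgroup.commutator_mem_commutator hu hx)
  have hFD : (Cfsg.fittingSubgroup ↥N).map N.subtype ≤
      Dsub N ((Cfsg.fittingSubgroup ↥N).map N.subtype) :=
    fun x hx => ⟨hFN hx, fun U V hUV _ u hu => hA U V hUV x hx u hu⟩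
  have hDF := Dsub_le_of_max hG N _ hFD hmax
  refine ⟨⟨fun hg => ⟨hFN hg, fun U V hUV u hu => hA U V hUV g hg u hu⟩,
    fun ⟨hgN, h⟩ => hDF ⟨hgN, fun U V hUV _ u hu => h U V hUV u hu⟩⟩,
    ⟨fun hg => ⟨hFN hg, fun U V hUV _ u hu => hA U V hUV g hg u hu⟩,
    fun ⟨hgN, h⟩ => hDF ⟨hgN, fun U V hUV hUF u hu => h U V hUV hUF u hu⟩⟩⟩

end Cfsg.Agent.S3766
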