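import Cfsg.Statements.S1395
import Cfsg.Agent.Lib.Helper31.Transitivity
import Cfsg.Agent.Lib.Helper01.Glauberman
import Cfsg.Agent.S3766

set_option autoImplicit false
open Cfsg

namespace Cfsg.Agent.S1395

open Cfsg.Agent.Lib.Helper31
open scoped Pointwise

theorem primesNotDvd_eq {G : Type*} [Group G] (A B : Subgroup G) (hAB : A ≤ B)
    (hπ : ∀ r : ℕ, r.Prime → r ∣ Nat.card B → r ∣ Nat.card A) :
    primesNotDvd (Nat.card B) = primesNotDvd (Nat.card A) := by
  ext r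
  constructor
  · rintro ⟨hr, h⟩
    exact ⟨hr, fun h' => h (dvd_trans h' (Subgroup.card_dvd_of_le hAB))⟩
  · rintro ⟨hr, h⟩
    exact ⟨hr, fun h' => h (hπ r hr h')⟩

theorem transHyp_of_le {G : Type*} [Group G] [Finite G] {A B : Subgroup G}
    (hA : TransitivityHypothesis A) (hAB : A ≤ B) (hB : B ≠ ⊤)
    (hπ : primesNotDvd (Nat.card B) = primesNotDvd (Nat.card A)) :
    TransitivityHypothesis B := by
  refine ⟨fun h => hA.1 (by rw [eq_bot_iff, ← h]; exact hAB), hB, fun X hX hBX => ?_⟩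
  rw [hπ]
  apply le_antisymm
  · rw [← hA.2.2 X hX (hAB.trans hBX)]
    apply sSup_le_sSup
    rintro Y ⟨h1, h2, h3⟩
    exact ⟨h1, h2, hAB.trans h3⟩
  · apply le_sSup
    exact ⟨piCoreOf_le _ _, piCoreOf_pi _ _, hBX.trans (le_normalizer_piCoreOf _ _)⟩

theorem coprime_card_KK {G : Type*} [Group G] [Finite G] (A B : Subgroup G)
    (hπ : primesNotDvd (Nat.card B) = primesNotDvd (Nat.card A)) (Y : Subgroup G) (hY : Y ≤ KK A) :
    (Nat.card Y).Coprime (Nat.card B) := by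
  apply forall_prime_mem_primesNotDvd_iff.1
  intro p hp hpd
  rw [hπ]
  exact piCoreOf_pi _ _ p hp (dvd_trans hpd (Subgroup.card_dvd_of_le hY))

theorem KK_inf_centralizer {G : Type*} [Group G] [Finite G] [IsSimpleGroup G] {A B : Subgroup G}
    (hA : TransitivityHypothesis A) (hB : TransitivityHypothesis B) (hAB : A ≤ B)
    (hπ : primesNotDvd (Nat.card B) = primesNotDvd (Nat.card A)) :
    KK A ⊓ Subgroup.centralizer (B : Set G) =
      piCoreOf (primesNotDvd (Nat.card A)) (Subgroup.centralizer (B : Set G)) := by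
  apply le_antisymm
  · have h1 := le_K_of_centralizing hB (KK A ⊓ Subgroup.centralizer (B : Set G)) inf_le_right
      (coprime_card_KK A B hπ _ inf_le_left)
    rwa [hπ] at h1
  · refine le_inf ?_ (piCoreOf_le _ _)
    apply le_K_of_centralizing hA
    · exact (piCoreOf_le _ _).trans (Subgroup.centralizer_le (by exact_mod_cast hAB))
    · apply forall_prime_mem_primesNotDvd_iff.1
      intro p hp hpd
      exact piCoreOf_pi _ _ p hp hpd

theorem conj_mem_invSubgroups' {G : Type*} [Group G] (A : Subgroup G) (π : Set ℕ) (x : G)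
    (hx : x ∈ Subgroup.normalizer (A : Set G)) (Y : Subgroup G) (hY : Y ∈ invSubgroups ⊤ A π) :
    MulAut.conj x • Y ∈ invSubgroups ⊤ A π := by
  refine ⟨le_top, ?_, ?_⟩
  · rw [Cfsg.Agent.Lib.Helper01.card_conj_smul]; exact hY.2.1
  · rw [Cfsg.Agent.Lib.Helper01.normalizer_conj_smul]
    have h1 : MulAut.conj x • A = A := Cfsg.Agent.Lib.Helper01.mem_normalizer_iff_conj_smul.1 hx
    rw [← h1]
    exact Subgroup.pointwise_smul_le_pointwise_smul_iff.2 hY.2.2

theorem conj_mem_maxInvSubgroups' {G : Type*} [Group G] (A : Subgroup G) (π : Set ℕ) (x : G)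
    (hx : x ∈ Subgroup.normalizer (A : Set G)) (Q : Subgroup G)
    (hQ : Q ∈ maxInvSubgroups ⊤ A π) : MulAut.conj x • Q ∈ maxInvSubgroups ⊤ A π := by
  refine ⟨conj_mem_invSubgroups' A π x hx Q hQ.1, ?_⟩
  intro R hR hle
  have hx' : x⁻¹ ∈ Subgroup.normalizer (A : Set G) := Subgroup.inv_mem _ hx
  have h1 := conj_mem_invSubgroups' A π x⁻¹ hx' R hR
  have h2 : Q ≤ MulAut.conj x⁻¹ • R := by
    have := Subgroup.pointwise_smul_le_pointwise_smul_iff (a := MulAut.conj x⁻¹)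
      |>.2 hle
    rwa [Cfsg.Agent.Lib.Helper01.conj_smul_conj_smul, inv_mul_cancel, map_one, one_smul] at this
  have h3 := hQ.2 _ h1 h2
  rw [← h3, Cfsg.Agent.Lib.Helper01.conj_smul_conj_smul, mul_inv_cancel, map_one, one_smul]

/-- `N_G(A)` normalizes `K = O_{π(A)'}(C_G(A))`. -/
theorem normalizer_le_normalizer_KK {G : Type*} [Group G] [Finite G] [IsSimpleGroup G]
    {A : Subgroup G} (hA : TransitivityHypothesis A) :
    Subgroup.normalizer (A : Set G) ≤ Subgroup.normalizer ((KK A : Subgroup G) : Set G) := by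
  have key : ∀ x ∈ Subgroup.normalizer (A : Set G), MulAut.conj x • KK A ≤ KK A := by
    intro x hx
    apply le_K_of_centralizing hA
    · intro y hy
      rw [Subgroup.mem_pointwise_smul_iff_inv_smul_mem] at hy
      have h1 : (MulAut.conj x)⁻¹ • y = x⁻¹ * y * x := by simp [MulAut.smul_def]
      rw [h1] at hy
      have h2 := KK_le_centralizer A hy
      rw [Subgroup.mem_centralizer_iff] at h2 ⊢
      intro a ha
      have h3 : x⁻¹ * a * x ∈ A := by
        have := (Subgroup.mem_normalizer_iff.1 (Subgroup.inv_mem _ hx) a).1 ha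
        simpa using this
      have h4 := h2 _ h3
      have h5 : x * (x⁻¹ * a * x * (x⁻¹ * y * x)) * x⁻¹ = a * y := by group
      have h6 : x * (x⁻¹ * y * x * (x⁻¹ * a * x)) * x⁻¹ = y * a := by group
      rw [← h5, ← h6, h4]
    · rw [Cfsg.Agent.Lib.Helper01.card_conj_smul]
      exact coprime_card_KK A A rfl _ le_rfl
  intro x hx
  rw [Cfsg.Agent.Lib.Helper01.mem_normalizer_iff_conj_smul]
  apply le_antisymm (key x hx)
  have h1 := key x⁻¹ (Subgroup.inv_mem _ hx)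
  have h2 := Subgroup.pointwise_smul_le_pointwise_smul_iff (a := MulAut.conj x) |>.2 h1
  rwa [Cfsg.Agent.Lib.Helper01.conj_smul_conj_smul, mul_inv_cancel, map_one, one_smul] at h2

/-- The bundle of hypotheses on `A` that passes to overgroups. -/
def Good {G : Type*} [Group G] (q : ℕ) (A : Subgroup G) : Prop :=
  TransitivityHypothesis A ∧ ¬ q ∣ Nat.card A ∧
    ∀ Q₁ ∈ maxInvSubgroups ⊤ A {q}, ∀ Q₂ ∈ maxInvSubgroups ⊤ A {q},
      ∃ k ∈ KK A, Q₂ = MulAut.conj k • Q₁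

theorem normal_step {G : Type*} [Group G] [Finite G] (hG : IsMinimalSimple G) (q : ℕ)
    [Fact q.Prime] {A B : Subgroup G} (hA : Good q A) (hAB : A ≤ B)
    (hBN : B ≤ Subgroup.normalizer (A : Set G))
    (hBπ : ∀ r : ℕ, r.Prime → r ∣ Nat.card B → r ∣ Nat.card A) :
    Good q B ∧ maxInvSubgroups ⊤ B {q} ⊆ maxInvSubgroups ⊤ A {q} := by
  have : IsSimpleGroup G := hG.1
  obtain ⟨hTA, hqA, htr⟩ := hA
  have hπ := primesNotDvd_eq A B hAB hBπ
  have hBtop : B ≠ ⊤ := by
    intro h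
    rw [h] at hBN
    exact normalizer_ne_top_of_simple A hTA.1 hTA.2.1 (top_le_iff.1 hBN)
  have hTB := transHyp_of_le hTA hAB hBtop hπ
  have hqB : ¬ q ∣ Nat.card B := fun h => hqA (hBπ q Fact.out h)
  have hBK : B ≤ Subgroup.normalizer ((KK A : Subgroup G) : Set G) :=
    hBN.trans (normalizer_le_normalizer_KK hTA)
  have hcop : (Nat.card B).Coprime (Nat.card (KK A)) := (coprime_card_KK A B hπ _ le_rfl).symm
  have hsolv : Group.IsSolvable B ∨ Group.IsSolvable (KK A) := Or.inl (hG.2.2 B hBtop)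
  have hbotmem : (⊥ : Subgroup G) ∈ invSubgroups ⊤ A {q} := by
    refine ⟨le_top, ?_, ?_⟩
    · intro p hp hpd
      rw [Subgroup.card_bot] at hpd
      exact absurd (Nat.dvd_one.1 hpd) hp.ne_one
    · intro a _
      rw [Cfsg.Agent.Lib.Helper01.mem_normalizer_iff_conj_smul, Subgroup.smul_bot]
  obtain ⟨Q₀, hQ₀, -⟩ := exists_maxInv_ge A {q} ⊥ hbotmem
  have hfix : ∃ Q₁ ∈ maxInvSubgroups ⊤ A {q}, B ≤ Subgroup.normalizer (Q₁ : Set G) := by
    obtain ⟨k, hk, hkn⟩ :=
      Cfsg.Agent.Lib.Helper01.exists_conj_normalized hBK hcop hsolv (P := Q₀) (by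
        intro b hb
        obtain ⟨k, hk, hkq⟩ := htr Q₀ hQ₀ _ (conj_mem_maxInvSubgroups' A {q} b (hBN hb) Q₀ hQ₀)
        exact ⟨k, hk, hkq.symm⟩)
    exact ⟨MulAut.conj k • Q₀,
      conj_mem_maxInvSubgroups A {q} k (KK_le_centralizer A hk) Q₀ hQ₀, hkn⟩
  have hc : maxInvSubgroups ⊤ B {q} ⊆ maxInvSubgroups ⊤ A {q} := by
    intro Q hQ
    have hQA : Q ∈ invSubgroups ⊤ A {q} := ⟨le_top, hQ.1.2.1, hAB.trans hQ.1.2.2⟩
    have hqQ : IsPGroup q Q := isPGroup_of_forall_prime q Q hQ.1.2.1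
    have key : ∀ Qs ∈ maxInvSubgroups ⊤ A {q}, Q ≤ Qs → Qs = Q := by
      intro Qs hQs hle
      by_contra hne
      have hlt : Q < Qs := lt_of_le_of_ne hle (Ne.symm hne)
      by_cases hbot : Q = ⊥
      · obtain ⟨Q₁, hQ₁, hBQ₁⟩ := hfix
        have h1 : Q₁ = Q := hQ.2 Q₁ ⟨le_top, hQ₁.1.2.1, hBQ₁⟩ (by rw [hbot]; exact bot_le)
        have h2 : Qs = Q₁ := hQ₁.2 Qs hQs.1 (by rw [h1]; exact hle)
        exact hne (h2.trans h1)
      · have hqQs : IsPGroup q Qs := isPGroup_of_forall_prime q Qs hQs.1.2.1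
        have hQtop : Q ≠ ⊤ := by
          intro h
          have hAq : IsPGroup q A := hqQ.to_le (by rw [h]; exact le_top)
          obtain ⟨k, hk⟩ := IsPGroup.iff_card.1 hAq
          rcases Nat.eq_zero_or_pos k with rfl | hk0
          · exact hTA.1 (Subgroup.card_eq_one.1 (by simpa using hk))
          · exact hqA (hk ▸ dvd_pow_self q hk0.ne')
        obtain ⟨N, hNdef⟩ : ∃ N : Subgroup G, N = Subgroup.normalizer (Q : Set G) := ⟨_, rfl⟩
        have hNtop : N ≠ ⊤ := hNdef ▸ normalizer_ne_top_of_simple Q hbot hQtop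
        obtain ⟨y, hyQs, hyQ, hyN⟩ :=
          Cfsg.Agent.S0046.exists_normalizing Qs Q hqQs.isNilpotent hlt
        rw [← hNdef] at hyN
        have hAN : A ≤ N := hNdef ▸ hAB.trans hQ.1.2.2
        have hBN' : B ≤ N := hNdef ▸ hQ.1.2.2
        have hQN : Q ≤ N := hNdef ▸ Subgroup.le_normalizer
        obtain ⟨R, hRdef⟩ : ∃ R : Subgroup G, R = Qs ⊓ N := ⟨_, rfl⟩
        have hAR : A ≤ Subgroup.normalizer (R : Set G) :=
          hRdef ▸ inf_normalizer_le A Qs N hQs.1.2.2 (hAN.trans Subgroup.le_normalizer)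
        have hqR : IsPGroup q R := hqQs.to_le (hRdef ▸ inf_le_left)
        have hRN : R ≤ N := hRdef ▸ inf_le_right
        have hQR : Q ≤ R := hRdef ▸ le_inf hle hQN
        have hyR : y ∈ R := hRdef ▸ Subgroup.mem_inf.2 ⟨hyQs, hyN⟩
        obtain ⟨L, hLdef⟩ : ∃ L : Subgroup G, L = piCoreOf (primesNotDvd (Nat.card A)) N :=
          ⟨_, rfl⟩
        have hRL : R ≤ L := hLdef ▸ transHyp_le_piCoreOf hTA N hNtop hAN R hRN
          (coprime_of_isPGroup q R A hqR hqA) hAR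
        have hQL : Q ≤ L := hQR.trans hRL
        have hBL : B ≤ Subgroup.normalizer (L : Set G) :=
          hLdef ▸ hBN'.trans (le_normalizer_piCoreOf _ _)
        have hcopL : (Nat.card B).Coprime (Nat.card L) := by
          have := coprime_card_piCoreOf B N
          rwa [hπ, ← hLdef] at this
        obtain ⟨S, hQS, hBS⟩ := Cfsg.Agent.S0025.result B L hBL hcopL
          (Or.inl (hG.2.2 B hBtop)) q Q hQL hqQ hQ.1.2.2
        have hSmem : (S : Subgroup L).map L.subtype ∈ invSubgroups ⊤ B {q} :=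
          ⟨le_top, forall_prime_of_isPGroup q _ (S.isPGroup'.map _), hBS⟩
        have hS' : (S : Subgroup L).map L.subtype = Q := hQ.2 _ hSmem hQS
        have hSle : (S : Subgroup L) ≤ R.subgroupOf L := by
          intro s hs
          rw [Subgroup.mem_subgroupOf]
          apply hQR
          rw [← hS']
          exact Subgroup.mem_map_of_mem _ hs
        have h3 : R.subgroupOf L = (S : Subgroup L) := S.is_maximal' (hqR.comap_subtype) hSle
        have h4 : (R.subgroupOf L).map L.subtype = R := Subgroup.map_subgroupOf_eq_of_le hRL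
        rw [h3, hS'] at h4
        apply hyQ
        rw [h4]
        exact hyR
    refine ⟨hQA, fun R hR hle => ?_⟩
    obtain ⟨Qs, hQs, hRQs⟩ := exists_maxInv_ge A {q} R hR
    have h1 := key Qs hQs (hle.trans hRQs)
    refine le_antisymm ?_ hle
    rw [← h1]
    exact hRQs
  refine ⟨⟨hTB, hqB, ?_⟩, hc⟩
  intro Q₁ h₁ Q₂ h₂
  obtain ⟨k, hk, hkq⟩ := htr Q₁ (hc h₁) Q₂ (hc h₂)
  obtain ⟨c, hc', hcq⟩ := Cfsg.Agent.Lib.Helper01.exists_centralizer_conj hBK hcop hsolv
    h₁.1.2.2 h₂.1.2.2 ⟨k, hk, hkq.symm⟩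
  refine ⟨c, ?_, hcq.symm⟩
  have h5 := KK_inf_centralizer hTA hTB hAB hπ
  show c ∈ piCoreOf (primesNotDvd (Nat.card B)) _
  rw [hπ, ← h5]
  exact hc'

theorem overgroup_aux {G : Type*} [Group G] [Finite G] (hG : IsMinimalSimple G) (q : ℕ)
    [Fact q.Prime] (P : Subgroup G) :
    ∀ H : Subgroup P, H.IsSubnormal → ∀ A : Subgroup G, A ≤ P → A.subgroupOf P = H →
      (∀ r : ℕ, r.Prime → r ∣ Nat.card P → r ∣ Nat.card A) → Good q A →
      Good q P ∧ maxInvSubgroups ⊤ P {q} ⊆ maxInvSubgroups ⊤ A {q} := by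
  intro H hH
  induction hH with
  | top =>
    intro A hAP hAH hπ hA
    have : A = P := le_antisymm hAP (Subgroup.subgroupOf_eq_top.1 hAH)
    subst this
    exact ⟨hA, subset_rfl⟩
  | step H K hHK hK hN ih =>
    intro A hAP hAH hπ hA
    obtain ⟨B, hB⟩ : ∃ B : Subgroup G, B = K.map P.subtype := ⟨_, rfl⟩
    have hBP : B ≤ P := hB ▸ Subgroup.map_subtype_le _
    have hAB : A ≤ B := by
      rw [hB, ← Subgroup.map_subgroupOf_eq_of_le hAP, hAH]
      exact Subgroup.map_mono hHK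
    have hBN : B ≤ Subgroup.normalizer (A : Set G) := by
      rw [Subgroup.normal_subgroupOf_iff_le_normalizer hHK] at hN
      have h1 := (Subgroup.map_mono hN).trans (Subgroup.le_normalizer_map P.subtype)
      rwa [← hAH, Subgroup.map_subgroupOf_eq_of_le hAP, ← hB] at h1
    have hBπ : ∀ r : ℕ, r.Prime → r ∣ Nat.card B → r ∣ Nat.card A :=
      fun r hr h => hπ r hr (dvd_trans h (Subgroup.card_dvd_of_le hBP))
    obtain ⟨hGB, hsub⟩ := normal_step hG q hA hAB hBN hBπ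
    have hBK : B.subgroupOf P = K := by
      rw [hB]
      exact Subgroup.comap_map_eq_self_of_injective P.subtype_injective K
    obtain ⟨hGP, hsub'⟩ := ih B hBP hBK
      (fun r hr h => dvd_trans (hπ r hr h) (Subgroup.card_dvd_of_le hAB)) hGB
    exact ⟨hGP, hsub'.trans hsub⟩

theorem part_d {G : Type*} [Group G] [Finite G] [IsSimpleGroup G] (q : ℕ) {P : Subgroup G}
    (hP : Good q P) (Q : Subgroup G) (hQ : Q ∈ maxInvSubgroups ⊤ P {q}) :
    P ⊓ ⁅Subgroup.normalizer (P : Set G), Subgroup.normalizer (P : Set G)⁆ ≤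
        ⁅Subgroup.normalizer (Q : Set G), Subgroup.normalizer (Q : Set G)⁆ ∧
      Subgroup.normalizer (P : Set G) =
        KK P ⊔ (Subgroup.normalizer (P : Set G) ⊓ Subgroup.normalizer (Q : Set G)) := by
  obtain ⟨hTP, hqP, htr⟩ := hP
  obtain ⟨N, hNdef⟩ : ∃ N : Subgroup G, N = Subgroup.normalizer (P : Set G) := ⟨_, rfl⟩
  obtain ⟨M, hMdef⟩ : ∃ M : Subgroup G, M = N ⊓ Subgroup.normalizer (Q : Set G) := ⟨_, rfl⟩
  have hKN : KK P ≤ N :=
    hNdef ▸ (KK_le_centralizer P).trans (Subgroup.centralizer_le_normalizer _)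
  have hMN : M ≤ N := hMdef ▸ inf_le_left
  have hMQ : M ≤ Subgroup.normalizer (Q : Set G) := hMdef ▸ inf_le_right
  have hd2 : N = KK P ⊔ M := by
    apply le_antisymm
    · intro x hx
      have hx' : x ∈ Subgroup.normalizer (P : Set G) := hNdef ▸ hx
      obtain ⟨k, hk, hkq⟩ := htr Q hQ _ (conj_mem_maxInvSubgroups' P {q} x hx' Q hQ)
      have h1 : k⁻¹ * x ∈ M := by
        rw [hMdef]
        refine Subgroup.mem_inf.2 ⟨N.mul_mem (N.inv_mem (hKN hk)) hx, ?_⟩
        rw [Cfsg.Agent.Lib.Helper01.mem_normalizer_iff_conj_smul,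
          ← Cfsg.Agent.Lib.Helper01.conj_smul_conj_smul, hkq,
          Cfsg.Agent.Lib.Helper01.conj_smul_conj_smul, inv_mul_cancel, map_one, one_smul]
      have h2 : x = k * (k⁻¹ * x) := by group
      rw [h2]
      exact Subgroup.mul_mem_sup hk h1
    · exact sup_le hKN hMN
  have hNK : N ≤ Subgroup.normalizer ((KK P : Subgroup G) : Set G) :=
    hNdef ▸ normalizer_le_normalizer_KK hTP
  have hcomm : ⁅N, N⁆ ≤ KK P ⊔ ⁅M, M⁆ := by
    have : ((KK P).subgroupOf N).Normal :=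
      (Subgroup.normal_subgroupOf_iff_le_normalizer hKN).2 hNK
    have h1 := Cfsg.Agent.S3766.commutator_sup_sup_le ((KK P).subgroupOf N) (M.subgroupOf N)
    have h2 := Subgroup.map_mono (f := N.subtype) h1
    rw [Subgroup.map_commutator, Subgroup.map_sup, Subgroup.map_sup, Subgroup.map_commutator,
      Subgroup.map_subgroupOf_eq_of_le hKN, Subgroup.map_subgroupOf_eq_of_le hMN, ← hd2] at h2
    exact h2
  have hPM : P ≤ M := hMdef ▸ le_inf (hNdef ▸ Subgroup.le_normalizer) hQ.1.2.2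
  have hMK : M ≤ Subgroup.normalizer ((KK P : Subgroup G) : Set G) := hMN.trans hNK
  have hd1 : P ⊓ ⁅N, N⁆ ≤ ⁅M, M⁆ := by
    intro x hx
    obtain ⟨hxP, hxN⟩ := Subgroup.mem_inf.1 hx
    have hx1 := hcomm hxN
    rw [sup_comm] at hx1
    obtain ⟨m, hm, k, hk, hxmk⟩ := Cfsg.Agent.Lib.Helper01.exists_mul_of_mem_sup
      ((Subgroup.commutator_le_self M).trans hMK) hx1
    have hmM : m ∈ M := Subgroup.commutator_le_self M hm
    have hxM : x ∈ M := hPM hxP
    have hkM : k ∈ M := by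
      have h3 : k = m⁻¹ * x := by rw [hxmk]; group
      rw [h3]
      exact M.mul_mem (M.inv_mem hmM) hxM
    rw [← Subgroup.map_subtype_commutator] at hm ⊢
    obtain ⟨m', hm', hmm'⟩ := hm
    have hφ : QuotientGroup.mk' (commutator M) ⟨x, hxM⟩ =
        QuotientGroup.mk' (commutator M) ⟨k, hkM⟩ := by
      have h4 : (⟨x, hxM⟩ : M) = m' * ⟨k, hkM⟩ := by
        apply Subtype.ext
        rw [Subgroup.coe_mul]
        change x = M.subtype m' * k
        rw [hmm']
        exact hxmk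
      rw [h4, map_mul]
      have h5 : QuotientGroup.mk' (commutator M) m' = 1 := (QuotientGroup.eq_one_iff m').2 hm'
      rw [h5, one_mul]
    have ho1 : orderOf (QuotientGroup.mk' (commutator M) ⟨x, hxM⟩) ∣ Nat.card P := by
      have h1 := orderOf_map_dvd (QuotientGroup.mk' (commutator M)) (⟨x, hxM⟩ : M)
      have h2 : orderOf (⟨x, hxM⟩ : M) = orderOf x := Subgroup.orderOf_mk x hxM
      rw [h2] at h1
      exact h1.trans (Subgroup.orderOf_dvd_natCard P hxP)
    have ho2 : orderOf (QuotientGroup.mk' (commutator M) ⟨x, hxM⟩) ∣ Nat.card (KK P) := by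
      rw [hφ]
      have h1 := orderOf_map_dvd (QuotientGroup.mk' (commutator M)) (⟨k, hkM⟩ : M)
      have h2 : orderOf (⟨k, hkM⟩ : M) = orderOf k := Subgroup.orderOf_mk k hkM
      rw [h2] at h1
      exact h1.trans (Subgroup.orderOf_dvd_natCard (KK P) hk)
    have hcop := coprime_card_KK P P rfl _ le_rfl
    have h6 := Nat.dvd_gcd ho2 ho1
    rw [hcop.gcd_eq_one, Nat.dvd_one, orderOf_eq_one_iff] at h6
    exact ⟨⟨x, hxM⟩, (QuotientGroup.eq_one_iff _).1 h6, rfl⟩
  rw [← hNdef, ← hMdef]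
  exact ⟨hd1.trans (Subgroup.commutator_mono hMQ hMQ), hd2⟩

/-- Let G be a minimal simple group of odd order, A a subgroup satisfying the transitivity hypothesis with K = O_{π(A)'}(C_G(A)), q a prime not dividing the order of A, and P a proper subgroup all of whose prime divisors divide the order of A, containing A as a subnormal subgroup, such that any two maximal A-invariant q-subgroups are conjugate under K. Then (a) K ∩ C_G(P) = O_{π(A)'}(C_G(P)); (b) any two maximal P-invariant q-subgroups are conjugate under O_{π(A)'}(C_G(P)); (c) every maximal P-invariant q-subgroup is a maximal A-invariant q-subgroup; (d) for every maximal P-invariant q-subgroup Q, P ∩ N_G(P)' ≤ N_G(Q)' and N_G(P) is generated by O_{π(A)'}(C_G(P)) and N_G(P) ∩ N_G(Q). -/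
theorem result {G : Type*} [Group G] [Finite G] (hG : Cfsg.IsMinSimpleOddOrder G)
    (A : Subgroup G) (hA : Cfsg.TransitivityHypothesis A) (q : ℕ) (hq : q.Prime) (hqA : ¬ q ∣ Nat.card A)
    (P : Subgroup G) (hP : P ≠ ⊤) (hPπ : (∀ r : ℕ, r.Prime → r ∣ Nat.card P → r ∣ Nat.card A)) (hAP : A ≤ P) (hsn : (A.subgroupOf P).IsSubnormal)
    (htr : ∀ Q₁ ∈ Cfsg.maxInvSubgroups ⊤ A {q}, ∀ Q₂ ∈ Cfsg.maxInvSubgroups ⊤ A {q}, ∃ k ∈ Cfsg.piCoreOf (Cfsg.primesNotDvd (Nat.card A)) (Subgroup.centralizer (A : Set G)), Q₂ = Q₁.map (MulAut.conj k).toMonoidHom) :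
    Cfsg.piCoreOf (Cfsg.primesNotDvd (Nat.card A)) (Subgroup.centralizer (A : Set G)) ⊓ Subgroup.centralizer (P : Set G) = Cfsg.piCoreOf (Cfsg.primesNotDvd (Nat.card A)) (Subgroup.centralizer (P : Set G)) ∧
      (∀ Q₁ ∈ Cfsg.maxInvSubgroups ⊤ P {q}, ∀ Q₂ ∈ Cfsg.maxInvSubgroups ⊤ P {q}, ∃ k ∈ Cfsg.piCoreOf (Cfsg.primesNotDvd (Nat.card A)) (Subgroup.centralizer (P : Set G)), Q₂ = Q₁.map (MulAut.conj k).toMonoidHom) ∧
      Cfsg.maxInvSubgroups ⊤ P {q} ⊆ Cfsg.maxInvSubgroups ⊤ A {q} ∧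
      ∀ Q ∈ Cfsg.maxInvSubgroups ⊤ P {q},
        P ⊓ ⁅Subgroup.normalizer (P : Set G), Subgroup.normalizer (P : Set G)⁆ ≤ ⁅Subgroup.normalizer (Q : Set G), Subgroup.normalizer (Q : Set G)⁆ ∧
        Subgroup.normalizer (P : Set G) = Cfsg.piCoreOf (Cfsg.primesNotDvd (Nat.card A)) (Subgroup.centralizer (P : Set G)) ⊔ (Subgroup.normalizer (P : Set G) ⊓ Subgroup.normalizer (Q : Set G)) := by
  have : Fact q.Prime := ⟨hq⟩
  have hMS : IsMinimalSimple G := hG.2
  have : IsSimpleGroup G := hMS.1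
  have hGA : Good q A := ⟨hA, hqA, fun Q₁ h₁ Q₂ h₂ => htr Q₁ h₁ Q₂ h₂⟩
  obtain ⟨hGP, hsub⟩ := overgroup_aux hMS q P (A.subgroupOf P) hsn A hAP rfl hPπ hGA
  have hπ := primesNotDvd_eq A P hAP hPπ
  have hKK : KK P =
      piCoreOf (primesNotDvd (Nat.card A)) (Subgroup.centralizer (P : Set G)) := by
    show piCoreOf (primesNotDvd (Nat.card P)) _ = _
    rw [hπ]
  refine ⟨KK_inf_centralizer hA hGP.1 hAP hπ, ?_, hsub, ?_⟩
  · intro Q₁ h₁ Q₂ h₂
    obtain ⟨k, hk, hkq⟩ := hGP.2.2 Q₁ h₁ Q₂ h₂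
    rw [hKK] at hk
    exact ⟨k, hk, hkq⟩
  · intro Q hQ
    have h := part_d q hGP Q hQ
    rw [hKK] at h
    exact h

end Cfsg.Agent.S1395
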