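import Cfsg.Statements.S0028
import Cfsg.Agent.Lib.Helper01.Commutator
import Cfsg.Agent.S0027

set_option autoImplicit false
open Cfsg

namespace Cfsg.Agent.S0028

open Cfsg.Agent.Lib.Helper01
open scoped Pointwise

theorem conj_smul_commutator {G : Type*} [Group G] (g : G) (H₁ H₂ : Subgroup G) :
    MulAut.conj g • ⁅H₁, H₂⁆ = ⁅MulAut.conj g • H₁, MulAut.conj g • H₂⁆ :=
  Subgroup.map_commutator H₁ H₂ _

/-- a subgroup normalizing `H₁` and `H₂` normalizes `⁅H₁, H₂⁆` -/
theorem le_normalizer_commutator {G : Type*} [Group G] {X H₁ H₂ : Subgroup G}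
    (h₁ : X ≤ Subgroup.normalizer (H₁ : Set G)) (h₂ : X ≤ Subgroup.normalizer (H₂ : Set G)) :
    X ≤ Subgroup.normalizer ((⁅H₁, H₂⁆ : Subgroup G) : Set G) := by
  rw [le_normalizer_iff_conj_smul]
  intro x hx
  rw [conj_smul_commutator, mem_normalizer_iff_conj_smul.mp (h₁ hx),
    mem_normalizer_iff_conj_smul.mp (h₂ hx)]

/-- a nontrivial `p`-group `U` normalized by a `p`-group `P` has `⁅U, P⁆ ≠ U`. -/
theorem commutator_ne_self {G : Type*} [Group G] [Finite G] (p : ℕ) [Fact p.Prime]
    (P U : Subgroup G) (hP : IsPGroup p P) (hU : IsPGroup p U)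
    (hPU : P ≤ Subgroup.normalizer (U : Set G)) (hne : U ≠ ⊥) : ⁅U, P⁆ ≠ U := by
  intro heq
  have hΓ : IsPGroup p (P ⊔ U : Subgroup G) := IsPGroup.to_sup_of_normal_right' hP hU hPU
  have hnil : Group.IsNilpotent (P ⊔ U : Subgroup G) := hΓ.isNilpotent
  obtain ⟨n, hn⟩ := (Subgroup.isNilpotent_iff_lowerCentralSeries _).mp hnil
  have key : ∀ n, U ≤ (P ⊔ U : Subgroup G).lowerCentralSeries n := by
    intro n
    induction n with
    | zero => exact le_sup_right
    | succ k ih =>
      rw [Subgroup.lowerCentralSeries_succ]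
      calc U = ⁅U, P⁆ := heq.symm
        _ ≤ _ := Subgroup.commutator_mono ih le_sup_left
  have := key n
  rw [hn, le_bot_iff] at this
  exact hne this

theorem aux {G : Type*} [Group G] [Finite G] (p : ℕ) [Fact p.Prime]
    (P Q : Subgroup G) (hP : IsPGroup p P) (hQ : (Nat.card Q).Coprime p)
    (hPQ : P ≤ Subgroup.centralizer (Q : Set G)) (n : ℕ) :
    ∀ U : Subgroup G, Nat.card U = n → IsPGroup p U →
    P ≤ Subgroup.normalizer (U : Set G) → Q ≤ Subgroup.normalizer (U : Set G) →
    U ⊓ Subgroup.centralizer (P : Set G) ≤ Subgroup.centralizer (Q : Set G) →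
    Q ≤ Subgroup.centralizer (U : Set G) := by
  induction n using Nat.strong_induction_on with
  | _ n ih =>
  intro U hn hU hPU hQU hC
  have hQP : Q ≤ Subgroup.centralizer (P : Set G) := Subgroup.le_centralizer_iff.mp hPQ
  have hPNQ : P ≤ Subgroup.normalizer (Q : Set G) :=
    hPQ.trans (Subgroup.centralizer_le_normalizer _)
  have hQNP : Q ≤ Subgroup.normalizer (P : Set G) :=
    hQP.trans (Subgroup.centralizer_le_normalizer _)
  have hlt : ∀ T : Subgroup G, T ≤ U → T ≠ U → Nat.card T < n := by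
    intro T hTU hne
    rw [← hn]
    rcases Nat.lt_or_ge (Nat.card T) (Nat.card U) with h | h
    · exact h
    · exact absurd (Subgroup.eq_of_le_of_card_ge hTU h) hne
  have hsub : ∀ T : Subgroup G, T ≤ U → T ≠ U →
      P ≤ Subgroup.normalizer (T : Set G) → Q ≤ Subgroup.normalizer (T : Set G) →
      ⁅T, Q⁆ = ⊥ := by
    intro T hTU hne hPT hQT
    have := ih _ (hlt T hTU hne) T rfl (hU.to_le hTU) hPT hQT
      ((inf_le_inf_right _ hTU).trans hC)
    exact Subgroup.commutator_eq_bot_iff_le_centralizer.mpr (Subgroup.le_centralizer_iff.mp this)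
  rw [Subgroup.le_centralizer_iff]
  by_cases hW : ⁅U, Q⁆ = U
  · by_cases hU1 : U = ⊥
    · rw [hU1]; exact bot_le
    · have hTU : ⁅U, P⁆ ≤ U := Subgroup.le_normalizer_iff_commutator_le_left.mp hPU
      have h1 : ⁅⁅U, P⁆, Q⁆ = ⊥ :=
        hsub _ hTU (commutator_ne_self p P U hP hU hPU hU1)
          (Subgroup.normalizer_commutator_ge_right U P) (le_normalizer_commutator hQU hQNP)
      have h2 : ⁅⁅P, Q⁆, U⁆ = ⊥ := by
        rw [Subgroup.commutator_eq_bot_iff_le_centralizer.mpr hPQ, Subgroup.commutator_bot_left]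
      have h3 : ⁅⁅Q, U⁆, P⁆ = ⊥ := Subgroup.commutator_commutator_eq_bot_of_rotate h1 h2
      rw [Subgroup.commutator_comm Q U, hW] at h3
      have h4 : U ≤ Subgroup.centralizer (P : Set G) :=
        Subgroup.commutator_eq_bot_iff_le_centralizer.mp h3
      exact (le_inf le_rfl h4).trans hC
  · have hWU : ⁅U, Q⁆ ≤ U := Subgroup.le_normalizer_iff_commutator_le_left.mp hQU
    have h1 : ⁅⁅U, Q⁆, Q⁆ = ⊥ :=
      hsub _ hWU hW (le_normalizer_commutator hPU hPNQ) (Subgroup.normalizer_commutator_ge_right U Q)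
    have hcop : (Nat.card Q).Coprime (Nat.card U) := by
      obtain ⟨k, hk⟩ := IsPGroup.iff_card.mp hU
      rw [hk]; exact Nat.Coprime.pow_right k hQ
    have hsolvU : Group.IsSolvable U := by
      have : Group.IsNilpotent U := hU.isNilpotent
      infer_instance
    have h2 := Cfsg.Agent.S0027.result Q U hQU hcop (Or.inr hsolvU)
    rw [h1] at h2
    exact Subgroup.commutator_eq_bot_iff_le_centralizer.mp h2.symm

/-- Thompson's P × Q Lemma: let a p-subgroup P and a subgroup Q of order prime to p centralise each other and normalise a p-subgroup U; if every element of U fixed by P is fixed by Q, then Q centralises U. -/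
theorem result {G : Type*} [Group G] [Finite G] (p : ℕ) [Fact p.Prime]
    (P Q U : Subgroup G) (hP : IsPGroup p P) (hQ : (Nat.card Q).Coprime p) (hU : IsPGroup p U)
    (hPQ : P ≤ Subgroup.centralizer (Q : Set G))
    (hPU : P ≤ Subgroup.normalizer (U : Set G)) (hQU : Q ≤ Subgroup.normalizer (U : Set G))
    (hC : U ⊓ Subgroup.centralizer (P : Set G) ≤ Subgroup.centralizer (Q : Set G)) :
    Q ≤ Subgroup.centralizer (U : Set G) := by
  exact aux p P Q hP hQ hPQ _ U rfl hU hPU hQU hC

end Cfsg.Agent.S0028
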