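import Cfsg.Statements.S1396
import Cfsg.Agent.Lib.Helper31.KeyLemma2
import Cfsg.Agent.Lib.Helper31.SolvPCon
import Cfsg.Agent.Lib.Helper31.Transitivity

set_option autoImplicit false
open Cfsg

namespace Cfsg.Agent.S1396

open Cfsg.Agent.Lib.Helper31

/-- The transitivity hypothesis from: every `A`-invariant `p'`-subgroup of a proper overgroup `X`
lies in `O_{p'}(X)` (as a subgroup of `G`). -/
theorem transHyp_of_key {G : Type*} [Group G] [Finite G] (p : ℕ) [Fact p.Prime]
    (A : Subgroup G) (hAp : IsPGroup p A) (hAbot : A ≠ ⊥) (hAtop : A ≠ ⊤)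
    (hkey : ∀ X : Subgroup G, X ≠ ⊤ → A ≤ X → ∀ Y : Subgroup G, Y ≤ X → (Nat.card Y).Coprime p →
      A ≤ Subgroup.normalizer (Y : Set G) → Y.subgroupOf X ≤ pPrimeCore p X) :
    TransitivityHypothesis A := by
  obtain ⟨k, hk⟩ := IsPGroup.iff_card.1 hAp
  have hk0 : k ≠ 0 := by
    rintro rfl
    rw [pow_zero] at hk
    exact hAbot (Subgroup.card_eq_one.1 hk)
  have hpA : p ∣ Nat.card A := hk ▸ dvd_pow_self p hk0
  refine ⟨hAbot, hAtop, fun X hX hAX => ?_⟩
  apply le_antisymm
  · apply sSup_le
    rintro Y ⟨hYX, hYπ, hAY⟩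
    have hcop : (Nat.card Y).Coprime (Nat.card A) := forall_prime_mem_primesNotDvd_iff.1 hYπ
    have hcop' : (Nat.card Y).Coprime p := Nat.Coprime.coprime_dvd_right hpA hcop
    have h1 := hkey X hX hAX Y hYX hcop' hAY
    have h2 : pPrimeCore p X ≤ piCore (primesNotDvd (Nat.card A)) X := by
      apply le_sSup
      refine ⟨?_, forall_prime_mem_primesNotDvd_iff.2 ?_⟩
      · have := Cfsg.Agent.Lib.Helper40.pPrimeCore_characteristic p X
        infer_instance
      · rw [hk]
        exact Nat.Coprime.pow_right k (Cfsg.Agent.Lib.Helper40.pPrimeCore_card_coprime' p X)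
    have h3 := Subgroup.map_mono (f := X.subtype) (h1.trans h2)
    rwa [Subgroup.map_subgroupOf_eq_of_le hYX] at h3
  · apply le_sSup
    exact ⟨piCoreOf_le _ _, piCoreOf_pi _ _, hAX.trans (le_normalizer_piCoreOf _ _)⟩

/-- Let G be a minimal simple group of odd order, p a prime dividing the order of G and A an abelian p-subgroup. Suppose either (1) A consists exactly of the elements x of C_G(A) with x^p = 1, and every proper subgroup of G has p-length at most one, or (2) A is normal and self-centralizing in some Sylow p-subgroup of G and has rank at least 2. Then A satisfies the transitivity hypothesis. -/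
theorem result {G : Type*} [Group G] [Finite G] (hG : Cfsg.IsMinSimpleOddOrder G)
    (p : ℕ) [Fact p.Prime] (hp : p ∣ Nat.card G) (A : Subgroup G) (hAp : IsPGroup p A) (hAc : IsMulCommutative A)
    (h : (∀ x ∈ Subgroup.centralizer (A : Set G), x ^ p = 1 ↔ x ∈ A) ∧ (∀ H : Subgroup G, H ≠ ⊤ → Cfsg.PLengthLE p 1 H) ∨
      ∃ P : Sylow p G, Cfsg.IsSCN (P : Subgroup G) A ∧ ¬ Cfsg.PRankLE p 1 A) :
    Cfsg.TransitivityHypothesis A := by
  have hpp : p.Prime := Fact.out
  have hMS : IsMinimalSimple G := hG.2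
  have hS : IsSimpleGroup G := hMS.1
  have hp2 : p ≠ 2 := by
    intro h2
    rw [h2] at hp
    exact (Nat.not_even_iff_odd.2 hG.1) (even_iff_two_dvd.2 hp)
  have hAcc : A ≤ Subgroup.centralizer (A : Set G) := by
    intro x hx
    rw [Subgroup.mem_centralizer_iff]
    intro y hy
    have h1 := mul_comm' (⟨y, hy⟩ : A) ⟨x, hx⟩
    exact congrArg Subtype.val h1
  have hAtop : A ≠ ⊤ := by
    intro h
    apply hMS.2.1
    refine ⟨⟨fun x y => ?_⟩⟩
    have hx : x ∈ A := h ▸ Subgroup.mem_top x
    have hy : y ∈ A := h ▸ Subgroup.mem_top y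
    exact (Subgroup.mem_centralizer_iff.1 (hAcc hy) x hx)
  -- transfer of data to a subgroup `X ⊇ A`
  have hnorm' : ∀ X Y : Subgroup G, A ≤ Subgroup.normalizer (Y : Set G) →
      A.subgroupOf X ≤ Subgroup.normalizer ((Y.subgroupOf X : Subgroup X) : Set X) := by
    intro X Y hAY e he
    rw [Subgroup.mem_subgroupOf] at he
    rw [Subgroup.mem_normalizer_iff]
    intro y
    rw [Subgroup.mem_subgroupOf, Subgroup.mem_subgroupOf]
    have := Subgroup.mem_normalizer_iff.1 (hAY he) (y : G)
    simpa using this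
  have hcard' : ∀ X Y : Subgroup G, Y ≤ X → (Nat.card Y).Coprime p →
      (Nat.card (Y.subgroupOf X)).Coprime p := by
    intro X Y hYX hc
    have : Nat.card (Y.subgroupOf X) = Nat.card Y :=
      Nat.card_congr (Subgroup.subgroupOfEquivOfLe hYX).toEquiv
    rw [this]; exact hc
  have hcent' : ∀ X : Subgroup G, A ≤ X → ∀ x : X,
      x ∈ Subgroup.centralizer ((A.subgroupOf X : Subgroup X) : Set X) →
      (x : G) ∈ Subgroup.centralizer (A : Set G) := by
    intro X hAX x hx
    rw [Subgroup.mem_centralizer_iff]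
    intro e he
    have h1 := Subgroup.mem_centralizer_iff.1 hx ⟨e, hAX he⟩
      (by rw [SetLike.mem_coe, Subgroup.mem_subgroupOf]; exact he)
    exact congrArg Subtype.val h1
  rcases h with ⟨hΩ, hpl⟩ | ⟨P, hscn, hrank⟩
  · -- case (1)
    have hAbot : A ≠ ⊥ := by
      intro h
      obtain ⟨g, hg⟩ := exists_prime_orderOf_dvd_card' p hp
      have hgC : g ∈ Subgroup.centralizer (A : Set G) := by
        rw [h, Subgroup.mem_centralizer_iff]
        intro y hy
        rw [Subgroup.coe_bot, Set.mem_singleton_iff] at hy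
        rw [hy, one_mul, mul_one]
      have h1 : g ^ p = 1 := by rw [← hg]; exact pow_orderOf_eq_one g
      have h2 := (hΩ g hgC).1 h1
      rw [h, Subgroup.mem_bot] at h2
      rw [h2, orderOf_one] at hg
      exact hpp.one_lt.ne hg
    refine transHyp_of_key p A hAp hAbot hAtop ?_
    intro X hX hAX Y hYX hYc hAY
    have hcon : IsPConstrained p X := isPConstrained_of_solvable p (hMS.2.2 X hX)
    refine key_lemma_plen p hp2 hcon (hpl X hX) (A.subgroupOf X)
      (hAp.comap_of_injective X.subtype X.subtype_injective) ?_ (Y.subgroupOf X)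
      (hcard' X Y hYX hYc) (hnorm' X Y hAY)
    intro x hx hxp
    rw [Subgroup.mem_subgroupOf]
    refine (hΩ (x : G) (hcent' X hAX x hx)).1 ?_
    have := congrArg Subtype.val hxp
    simpa using this
  · -- case (2)
    obtain ⟨hAP, hPA, hPc⟩ := hscn
    have hAbot : A ≠ ⊥ := by
      intro h
      apply hrank
      intro B _ _
      have h1 : Nat.card B ≤ Nat.card A := Subgroup.card_le_card_group B
      have h2 : Nat.card A = 1 := by rw [h]; exact Subgroup.card_bot
      have h3 : 1 ≤ p ^ 1 := Nat.one_le_pow _ _ hpp.pos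
      omega
    have hfull := mem_of_scn_of_isPGroup p P A hPA hPc
    refine transHyp_of_key p A hAp hAbot hAtop ?_
    intro X hX hAX Y hYX hYc hAY
    have hcon : IsPConstrained p X := isPConstrained_of_solvable p (hMS.2.2 X hX)
    refine key_lemma p hcon (A.subgroupOf X)
      (hAp.comap_of_injective X.subtype X.subtype_injective) ?_ (fun h => absurd h hp2)
      (Y.subgroupOf X) (hcard' X Y hYX hYc) (hnorm' X Y hAY)
    intro x hx hxp
    rw [Subgroup.mem_subgroupOf]
    refine hfull (x : G) (hcent' X hAX x hx) ?_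
    have h2 := hxp.map X.subtype
    rw [MonoidHom.map_zpowers] at h2
    exact h2

end Cfsg.Agent.S1396
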