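import Cfsg.Statements.S0093
import Cfsg.Agent.Lib.Helper03.PGroupNormal

set_option autoImplicit false
open Cfsg

namespace Cfsg.Agent.S0093

open Cfsg.Agent.Lib.Helper03
open scoped commutatorElement

/-- An abelian subgroup lies in its centralizer. -/
lemma le_centralizer_of_comm {P : Type*} [Group P] (A : Subgroup P) (hA : IsMulCommutative A) :
    A ≤ Subgroup.centralizer (A : Set P) := by
  intro a ha
  rw [Subgroup.mem_centralizer_iff]
  intro b hb
  exact congrArg Subtype.val (isMulCommutative_iff.mp hA ⟨b, hb⟩ ⟨a, ha⟩)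

/-- The centre of a subgroup, as a subgroup of the ambient group, is abelian. -/
lemma isMulCommutative_inf_centralizer {P : Type*} [Group P] (H : Subgroup P) :
    IsMulCommutative (H ⊓ Subgroup.centralizer (H : Set P) : Subgroup P) := by
  rw [isMulCommutative_iff]
  intro a b
  apply Subtype.ext
  have ha := (Subgroup.mem_inf.mp a.2).1
  have hb := (Subgroup.mem_inf.mp b.2).2
  exact ((Subgroup.mem_centralizer_iff.mp hb) a ha)

/-- The auxiliary subgroup in the second case of Thompson's construction. -/
def critSub {P : Type*} [Group P] (p : ℕ) (A : Subgroup P) [A.Normal] : Subgroup P where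
  carrier := {x | x ∈ Subgroup.centralizer (A : Set P) ∧ (∀ g : P, ⁅x, g⁆ ∈ A) ∧ x ^ p ∈ A}
  one_mem' := by
    refine ⟨Subgroup.one_mem _, fun g => ?_, ?_⟩
    · simp
    · simp
  mul_mem' := by
    rintro x y ⟨hx1, hx2, hx3⟩ ⟨hy1, hy2, hy3⟩
    refine ⟨mul_mem hx1 hy1, fun g => ?_, ?_⟩
    · have : ⁅x * y, g⁆ = x * ⁅y, g⁆ * x⁻¹ * ⁅x, g⁆ := by
        simp only [commutatorElement_def]; group
      rw [this]
      exact mul_mem (‹A.Normal›.conj_mem _ (hy2 g) x) (hx2 g)
    · rw [← QuotientGroup.eq_one_iff, QuotientGroup.mk_pow, QuotientGroup.mk_mul]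
      have hc : Commute (QuotientGroup.mk x : P ⧸ A) (QuotientGroup.mk y) := by
        have h1 : (QuotientGroup.mk ⁅x, y⁆ : P ⧸ A) = 1 := (QuotientGroup.eq_one_iff _).mpr (hx2 y)
        have h2 : (QuotientGroup.mk ⁅x, y⁆ : P ⧸ A) =
            ⁅(QuotientGroup.mk x : P ⧸ A), QuotientGroup.mk y⁆ := by
          simp [commutatorElement_def]
        rw [h2, commutatorElement_eq_one_iff_mul_comm] at h1
        exact h1
      rw [hc.mul_pow, ← QuotientGroup.mk_pow, ← QuotientGroup.mk_pow,
        (QuotientGroup.eq_one_iff _).mpr hx3, (QuotientGroup.eq_one_iff _).mpr hy3, one_mul]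
  inv_mem' := by
    rintro x ⟨hx1, hx2, hx3⟩
    refine ⟨inv_mem hx1, fun g => ?_, ?_⟩
    · have : ⁅x⁻¹, g⁆ = x⁻¹ * (⁅x, g⁆)⁻¹ * x⁻¹⁻¹ := by
        simp only [commutatorElement_def]; group
      rw [this]
      exact ‹A.Normal›.conj_mem _ (inv_mem (hx2 g)) x⁻¹
    · rw [inv_pow]; exact inv_mem hx3

lemma mem_critSub {P : Type*} [Group P] {p : ℕ} {A : Subgroup P} [A.Normal] {x : P} :
    x ∈ critSub p A ↔
      x ∈ Subgroup.centralizer (A : Set P) ∧ (∀ g : P, ⁅x, g⁆ ∈ A) ∧ x ^ p ∈ A := Iff.rfl

/-- Every finite p-group has a critical subgroup: a characteristic subgroup H whose Frattini subgroup and whose commutator with the whole group lie in the centre of H, and whose centralizer is contained in H. -/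
theorem result {P : Type*} [Group P] [Finite P] {p : ℕ} [Fact p.Prime] (hP : IsPGroup p P) : ∃ H : Subgroup P, H.Characteristic ∧ (frattini H).map H.subtype ≤ Subgroup.centralizer (H : Set P) ∧ ⁅H, (⊤ : Subgroup P)⁆ ≤ H ⊓ Subgroup.centralizer (H : Set P) ∧ Subgroup.centralizer (H : Set P) ≤ H := by
  have hp : p.Prime := Fact.out
  -- a characteristic abelian subgroup of largest order
  let S : Set (Subgroup P) := {A | A.Characteristic ∧ IsMulCommutative A}
  have hSne : S.Nonempty := ⟨⊥, inferInstance, inferInstance⟩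
  obtain ⟨A, ⟨hAchar, hAcomm⟩, hAmax⟩ :=
    Set.exists_max_image S (fun A => Nat.card A) (Set.toFinite S) hSne
  have hAn : A.Normal := Subgroup.normal_of_characteristic A
  have hAC : A ≤ Subgroup.centralizer (A : Set P) := le_centralizer_of_comm A hAcomm
  by_cases hCA : Subgroup.centralizer (A : Set P) ≤ A
  · -- first case: `A` is self-centralizing
    refine ⟨A, hAchar, ?_, ?_, hCA⟩
    · exact le_trans (Subgroup.map_subtype_le _) hAC
    · exact le_inf (Subgroup.commutator_le_left A ⊤)
        (le_trans (Subgroup.commutator_le_left A ⊤) hAC)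
  · -- second case
    set H := critSub p A with hH
    have hAH : A ≤ H := by
      intro a ha
      refine ⟨hAC ha, fun g => ?_, pow_mem ha p⟩
      have : ⁅a, g⁆ = a * (g * a⁻¹ * g⁻¹) := by simp only [commutatorElement_def]; group
      rw [this]
      exact mul_mem ha (hAn.conj_mem _ (inv_mem ha) g)
    have hHC : H ≤ Subgroup.centralizer (A : Set P) := fun x hx => hx.1
    have hAcH : A ≤ Subgroup.centralizer (H : Set P) := by
      intro a ha
      rw [Subgroup.mem_centralizer_iff]
      intro h hh
      exact ((Subgroup.mem_centralizer_iff.mp (hHC hh)) a ha).symm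
    -- `H` is characteristic
    have hHchar : H.Characteristic := by
      rw [Subgroup.characteristic_iff_map_le]
      intro φ
      rintro _ ⟨x, ⟨hx1, hx2, hx3⟩, rfl⟩
      have hAφ : ∀ a ∈ A, φ a ∈ A := by
        intro a ha
        exact (Subgroup.characteristic_iff_map_le.mp hAchar φ) ⟨a, ha, rfl⟩
      have hAφ' : ∀ a ∈ A, φ.symm a ∈ A := by
        intro a ha
        exact (Subgroup.characteristic_iff_map_le.mp hAchar φ.symm) ⟨a, ha, rfl⟩
      refine ⟨?_, fun g => ?_, ?_⟩
      · show φ x ∈ Subgroup.centralizer (A : Set P)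
        rw [Subgroup.mem_centralizer_iff]
        intro a ha
        have h1 := (Subgroup.mem_centralizer_iff.mp hx1) (φ.symm a) (hAφ' a ha)
        have h2 := congrArg φ h1
        simpa using h2
      · show ⁅φ x, g⁆ ∈ A
        have h1 : ⁅φ x, g⁆ = φ ⁅x, φ.symm g⁆ := by
          simp [commutatorElement_def]
        rw [h1]
        exact hAφ _ (hx2 _)
      · show (φ x) ^ p ∈ A
        rw [← map_pow]
        exact hAφ _ hx3
    -- the centre of `H` is `A`
    have hZH : H ⊓ Subgroup.centralizer (H : Set P) = A := by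
      have hle : A ≤ H ⊓ Subgroup.centralizer (H : Set P) := le_inf hAH hAcH
      have hchar : (H ⊓ Subgroup.centralizer (H : Set P)).Characteristic := by
        have : (Subgroup.centralizer (H : Set P)).Characteristic :=
          Subgroup.characteristic_centralizer
        infer_instance
      have hcard := hAmax _ ⟨hchar, isMulCommutative_inf_centralizer H⟩
      exact (Subgroup.eq_of_le_of_card_ge hle hcard).symm
    have hcomm : ⁅H, (⊤ : Subgroup P)⁆ ≤ A := by
      rw [Subgroup.commutator_le]
      intro x hx g _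
      exact hx.2.1 g
    refine ⟨H, hHchar, ?_, ?_, ?_⟩
    · -- Frattini subgroup
      have hn' : (A.subgroupOf H).Normal := hAn.subgroupOf H
      have key : frattini H ≤ A.subgroupOf H := by
        apply frattini_le_of_elementary_abelian_quotient (p := p)
        · intro x
          rw [Subgroup.mem_subgroupOf, Subgroup.coe_pow]
          exact x.2.2.2
        · rw [commutator_def, Subgroup.commutator_le]
          intro x _ y _
          rw [Subgroup.mem_subgroupOf]
          have : ((⁅x, y⁆ : H) : P) = ⁅(x : P), (y : P)⁆ := by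
            simp [commutatorElement_def]
          rw [this]
          exact x.2.2.1 y
      refine le_trans (Subgroup.map_mono key) ?_
      rw [Subgroup.map_subgroupOf_eq_of_le hAH]
      exact hAcH
    · rw [hZH]; exact hcomm
    · -- the centralizer of `H` lies in `H`
      by_contra hQ
      obtain ⟨x, hxQ, hxH⟩ := SetLike.not_le_iff_exists.mp hQ
      have hQchar : (Subgroup.centralizer (H : Set P)).Characteristic :=
        Subgroup.characteristic_centralizer
      have hQn : (Subgroup.centralizer (H : Set P)).Normal := Subgroup.normal_of_characteristic _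
      have hQbarn : ((Subgroup.centralizer (H : Set P)).map (QuotientGroup.mk' A)).Normal :=
        hQn.map _ (QuotientGroup.mk'_surjective A)
      have hQbar : (Subgroup.centralizer (H : Set P)).map (QuotientGroup.mk' A) ≠ ⊥ := by
        intro hbot
        have : QuotientGroup.mk' A x ∈ (Subgroup.centralizer (H : Set P)).map (QuotientGroup.mk' A) :=
          ⟨x, hxQ, rfl⟩
        rw [hbot, Subgroup.mem_bot] at this
        exact hxH (hAH ((QuotientGroup.eq_one_iff x).mp this))
      obtain ⟨z, hzQ, hzZ, hz1⟩ :=
        exists_mem_center_of_normal_ne_bot (hP.to_quotient A) _ hQbar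
      -- an element of order `p`
      obtain ⟨k, hk⟩ := (hP.to_quotient A) z
      have hdvd : orderOf z ∣ p ^ k := orderOf_dvd_of_pow_eq_one hk
      obtain ⟨j, -, hj⟩ := (Nat.dvd_prime_pow hp).mp hdvd
      have hj0 : j ≠ 0 := by
        rintro rfl
        rw [pow_zero, orderOf_eq_one_iff] at hj
        exact hz1 hj
      obtain ⟨i, rfl⟩ := Nat.exists_eq_succ_of_ne_zero hj0
      set w := z ^ (p ^ i) with hw
      have hwp : w ^ p = 1 := by
        rw [hw, ← pow_mul, ← pow_succ, ← hj]; exact pow_orderOf_eq_one z
      have hw1 : w ≠ 1 := by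
        intro h
        have := orderOf_dvd_of_pow_eq_one h
        rw [hj] at this
        have := (Nat.pow_dvd_pow_iff_le_right hp.one_lt).mp this
        omega
      have hwQ : w ∈ (Subgroup.centralizer (H : Set P)).map (QuotientGroup.mk' A) := pow_mem hzQ _
      have hwZ : w ∈ Subgroup.center (P ⧸ A) := pow_mem hzZ _
      obtain ⟨q, hqQ, hqw⟩ := hwQ
      have hqw' : (QuotientGroup.mk q : P ⧸ A) = w := hqw
      have hqH : q ∈ H := by
        refine ⟨?_, fun g => ?_, ?_⟩
        · exact Subgroup.centralizer_le hAH hqQ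
        · rw [← QuotientGroup.eq_one_iff]
          have h2 : (QuotientGroup.mk ⁅q, g⁆ : P ⧸ A) =
              ⁅(QuotientGroup.mk q : P ⧸ A), QuotientGroup.mk g⁆ := by
            simp [commutatorElement_def]
          rw [h2, commutatorElement_eq_one_iff_mul_comm, hqw']
          exact (Subgroup.mem_center_iff.mp hwZ _).symm
        · rw [← QuotientGroup.eq_one_iff, QuotientGroup.mk_pow, hqw', hwp]
      have hqA : q ∈ A := by
        rw [← hZH]; exact ⟨hqH, hqQ⟩
      apply hw1
      rw [← hqw']
      exact (QuotientGroup.eq_one_iff q).mpr hqA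

end Cfsg.Agent.S0093
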