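import Cfsg.Statements.S0121
import Cfsg.Agent.Lib.Helper04.CoprimeAut

set_option autoImplicit false
open Cfsg

namespace Cfsg.Agent.S0121

/-- A p'-automorphism of a p-group acting trivially on a critical subgroup is trivial. -/
theorem result {G : Type*} [Group G] [Finite G] {p : ℕ} [Fact p.Prime] (hG : IsPGroup p G) (H : Subgroup G) (hH : H.Characteristic) (h1 : (frattini H).map H.subtype ≤ Subgroup.centralizer (H : Set G)) (h2 : ⁅H, (⊤ : Subgroup G)⁆ ≤ H ⊓ Subgroup.centralizer (H : Set G)) (h3 : Subgroup.centralizer (H : Set G) ≤ H) (a : MulAut G) (ha : Nat.Coprime (orderOf a) p) (h : ∀ x ∈ H, a x = x) : a = 1 := by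
  have hn : H.Normal := Subgroup.normal_of_characteristic H
  ext g
  rw [MulAut.one_apply]
  apply Cfsg.Agent.Lib.Helper04.aut_fix_of_fix_commutator hG a ha g
  apply h
  apply h3
  rw [Subgroup.mem_centralizer_iff]
  intro x hx
  have hx' : g * x * g⁻¹ ∈ H := hn.conj_mem x hx g
  have e1 := h _ hx'
  rw [map_mul, map_mul, h x hx, map_inv] at e1
  -- e1 : a g * x * (a g)⁻¹ = g * x * g⁻¹
  have e2 : x * (g⁻¹ * a g) = g⁻¹ * (g * x * g⁻¹) * a g := by group
  rw [e2, ← e1]
  group

end Cfsg.Agent.S0121
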