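import Cfsg.Statements.S3771
import Mathlib.Tactic

set_option autoImplicit false
open Cfsg

namespace Cfsg.Agent.S3771

theorem sup_zpowers_comm {R : Type*} [Group R] (N : Subgroup R) (hN : IsMulCommutative N) (x : R)
    (hx : ∀ n ∈ N, n * x = x * n) : IsMulCommutative ↥(N ⊔ Subgroup.zpowers x) := by
  rw [← Subgroup.le_centralizer_iff_isMulCommutative]
  have hxN : Subgroup.zpowers x ≤ Subgroup.centralizer (N : Set R) := by
    rw [Subgroup.zpowers_le, Subgroup.mem_centralizer_iff]
    exact hx
  have hNN : N ≤ Subgroup.centralizer (N : Set R) :=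
    Subgroup.le_centralizer_iff_isMulCommutative.mpr hN
  have hxx : Subgroup.zpowers x ≤ Subgroup.centralizer (Subgroup.zpowers x : Set R) := by
    rw [Subgroup.zpowers_le, Subgroup.mem_centralizer_iff]
    intro h hh
    obtain ⟨k, rfl⟩ := Subgroup.mem_zpowers_iff.mp hh
    exact ((Commute.refl x).zpow_left k).eq
  apply sup_le
  · rw [Subgroup.le_centralizer_iff]
    exact sup_le hNN hxN
  · rw [Subgroup.le_centralizer_iff]
    exact sup_le (Subgroup.le_centralizer_iff.mp hxN) hxx

/-- Let p be a prime and R a finite p-group of p-rank at most 2 (no elementary abelian subgroup of order p³) in which every element has order dividing p. Then R has order at most p³. -/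
theorem result {R : Type*} [Group R] [Finite R] {p : ℕ} [Fact p.Prime] (hR : IsPGroup p R) (hrank : Cfsg.PRankLE p 2 R) (hexp : ∀ x : R, x ^ p = 1) : Nat.card R ≤ p ^ 3 := by
  have hp : p.Prime := Fact.out
  have hppos : 0 < p := hp.pos
  by_cases hab : Subgroup.center R = ⊤
  · have hc : IsMulCommutative R := Subgroup.center_eq_top_iff.mp hab
    have hc' : IsMulCommutative (⊤ : Subgroup R) := ⟨⟨fun a b => Subtype.ext (hc.is_comm.comm a.1 b.1)⟩⟩
    have h1 := hrank ⊤ hc' (fun a _ => hexp a)
    calc Nat.card R = Nat.card (⊤ : Subgroup R) := (Subgroup.card_top).symm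
      _ ≤ p ^ 2 := h1
      _ ≤ p ^ 3 := Nat.pow_le_pow_right hppos (by norm_num)
  · set Z := Subgroup.center R with hZdef
    have hQnt : Nontrivial (R ⧸ Z) := QuotientGroup.nontrivial_iff.mpr hab
    have hQ : IsPGroup p (R ⧸ Z) := hR.to_quotient Z
    have hQc : Nontrivial (Subgroup.center (R ⧸ Z)) := hQ.center_nontrivial
    obtain ⟨⟨q, hq⟩, hq1⟩ := exists_ne (1 : Subgroup.center (R ⧸ Z))
    obtain ⟨y, rfl⟩ := QuotientGroup.mk_surjective q
    have hyZ : y ∉ Z := by
      intro hy
      apply hq1
      apply Subtype.ext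
      exact (QuotientGroup.eq_one_iff y).mpr hy
    have hcomm : ∀ g : R, g * y * g⁻¹ * y⁻¹ ∈ Z := by
      intro g
      rw [← QuotientGroup.eq_one_iff]
      have := (Subgroup.mem_center_iff.mp hq) (QuotientGroup.mk g)
      simp only [QuotientGroup.mk_mul, QuotientGroup.mk_inv]
      rw [this]
      simp
    have hRnt : Nontrivial R := by
      by_contra hnt
      rw [not_nontrivial_iff_subsingleton] at hnt
      exact hab (Subsingleton.elim _ _)
    have hZnt : Nontrivial Z := hR.center_nontrivial
    have hZc : IsMulCommutative Z := inferInstance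
    -- N = Z ⊔ zpowers y
    set N := Z ⊔ Subgroup.zpowers y with hNdef
    have hNc : IsMulCommutative N :=
      sup_zpowers_comm Z hZc y (fun n hn => (Subgroup.mem_center_iff.mp hn y).symm)
    have hNcard : Nat.card N ≤ p ^ 2 := hrank N hNc (fun a _ => hexp a)
    have hZN : Z ≤ N := le_sup_left
    have hyN : y ∈ N := (le_sup_right : Subgroup.zpowers y ≤ N) (Subgroup.mem_zpowers y)
    have hZneN : Z ≠ N := fun h => hyZ (h ▸ hyN)
    obtain ⟨k, hk⟩ := (hR.to_subgroup Z).exists_card_eq
    obtain ⟨m, hm⟩ := (hR.to_subgroup N).exists_card_eq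
    have hk1 : 1 ≤ k := by
      rcases k with _ | k
      · exfalso
        rw [pow_zero] at hk
        have : Subsingleton Z := (Nat.card_eq_one_iff_unique.mp hk).1
        exact not_subsingleton Z this
      · omega
    have hkm : k < m := by
      by_contra hlt
      push Not at hlt
      apply hZneN
      apply Subgroup.eq_of_le_of_card_ge hZN
      rw [hk, hm]
      exact Nat.pow_le_pow_right hppos hlt
    have hm2 : m ≤ 2 := by
      rw [hm] at hNcard
      exact (Nat.pow_le_pow_iff_right hp.one_lt).mp hNcard
    have hk_eq : k = 1 := by omega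
    have hm_eq : m = 2 := by omega
    subst hk_eq hm_eq
    rw [pow_one] at hk
    -- the commutator homomorphism
    let f : R →* Z := MonoidHom.mk' (fun g => ⟨g * y * g⁻¹ * y⁻¹, hcomm g⟩) (by
      intro a b
      apply Subtype.ext
      simp only [Subgroup.coe_mul]
      have hb := Subgroup.mem_center_iff.mp (hcomm b)
      calc a * b * y * (a * b)⁻¹ * y⁻¹ = a * ((b * y * b⁻¹ * y⁻¹) * y) * a⁻¹ * y⁻¹ := by group
        _ = a * (y * (b * y * b⁻¹ * y⁻¹)) * a⁻¹ * y⁻¹ := by rw [hb y]
        _ = a * y * ((b * y * b⁻¹ * y⁻¹) * a⁻¹) * y⁻¹ := by group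
        _ = a * y * (a⁻¹ * (b * y * b⁻¹ * y⁻¹)) * y⁻¹ := by rw [hb a⁻¹]
        _ = a * y * a⁻¹ * ((b * y * b⁻¹ * y⁻¹) * y⁻¹) := by group
        _ = a * y * a⁻¹ * (y⁻¹ * (b * y * b⁻¹ * y⁻¹)) := by rw [hb y⁻¹]
        _ = a * y * a⁻¹ * y⁻¹ * (b * y * b⁻¹ * y⁻¹) := by group)
    have hker : ∀ g ∈ f.ker, g * y = y * g := by
      intro g hg
      rw [MonoidHom.mem_ker] at hg
      have : g * y * g⁻¹ * y⁻¹ = 1 := congrArg Subtype.val hg
      calc g * y = (g * y * g⁻¹ * y⁻¹) * y * g := by group
        _ = y * g := by rw [this]; group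
    have hindex : f.ker.index ≤ p := by
      rw [Subgroup.index_ker]
      calc Nat.card f.range ≤ Nat.card Z := Subgroup.card_le_card_group _
        _ = p := hk
    -- N = ker f
    have hNker : N ≤ f.ker := by
      apply sup_le
      · intro z hz
        rw [MonoidHom.mem_ker]
        apply Subtype.ext
        show z * y * z⁻¹ * y⁻¹ = 1
        rw [← Subgroup.mem_center_iff.mp hz y]
        group
      · rw [Subgroup.zpowers_le, MonoidHom.mem_ker]
        apply Subtype.ext
        show y * y * y⁻¹ * y⁻¹ = 1
        group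
    have hNeq : N = f.ker := by
      by_contra hne
      have hlt : N < f.ker := lt_of_le_of_ne hNker hne
      obtain ⟨x, hxker, hxN⟩ := SetLike.exists_of_lt hlt
      have hAc : IsMulCommutative ↥(N ⊔ Subgroup.zpowers x) := by
        apply sup_zpowers_comm N hNc x
        intro n hn
        have hle : N ≤ Subgroup.centralizer ({x} : Set R) := by
          apply sup_le
          · intro z hz
            rw [Subgroup.mem_centralizer_iff]
            intro h hh
            rw [Set.mem_singleton_iff] at hh
            subst hh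
            exact (Subgroup.mem_center_iff.mp hz h)
          · rw [Subgroup.zpowers_le, Subgroup.mem_centralizer_iff]
            intro h hh
            rw [Set.mem_singleton_iff] at hh
            subst hh
            exact hker h hxker
        have := Subgroup.mem_centralizer_iff.mp (hle hn) x rfl
        exact this.symm
      have hAcard : Nat.card ↥(N ⊔ Subgroup.zpowers x) ≤ p ^ 2 := hrank _ hAc (fun a _ => hexp a)
      have : N = N ⊔ Subgroup.zpowers x := by
        apply Subgroup.eq_of_le_of_card_ge le_sup_left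
        rw [hm]
        exact hAcard
      apply hxN
      rw [this]
      exact (le_sup_right : Subgroup.zpowers x ≤ _) (Subgroup.mem_zpowers x)
    have hcardker : Nat.card f.ker = p ^ 2 := by rw [← hNeq, hm]
    calc Nat.card R = Nat.card f.ker * f.ker.index := (Subgroup.card_mul_index _).symm
      _ ≤ p ^ 2 * p := by rw [hcardker]; exact Nat.mul_le_mul_left _ hindex
      _ = p ^ 3 := by ring

end Cfsg.Agent.S3771
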