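import Cfsg.Statements.S1450
import Cfsg.Agent.Lib.Helper26.Rank2Solv

set_option autoImplicit false
open Cfsg

namespace Cfsg.Agent.S1450

/-- Let G be a solvable group of odd order, p a prime dividing its order with G having no elementary abelian subgroup of order p ^ 3. Then every prime dividing the index of O_{p'}(G) is at most p; if p = 3 or p is the smallest prime divisor of #G then G has a normal p-complement; the derived subgroup G' has a normal p-complement; every subgroup of G' of order coprime to p lies in O_{p'}(G'); and G/O_{p',p}(G) is abelian of order coprime to p. -/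
theorem result {G : Type*} [Group G] [Finite G] [Group.IsSolvable G] (hodd : Odd (Nat.card G)) (p : ℕ) [Fact p.Prime] (hpG : p ∣ Nat.card G) (hr : Cfsg.PRankLE p 2 G) :
    (∀ q : ℕ, q.Prime → q ∣ (Cfsg.pPrimeCore p G).index → q ≤ p) ∧
      ((p = 3 ∨ ∀ q : ℕ, q.Prime → q ∣ Nat.card G → p ≤ q) → Cfsg.HasNormalPComplement p G) ∧
      Cfsg.HasNormalPComplement p ↥(commutator G) ∧
      (∀ L : Subgroup ↥(commutator G), (Nat.card L).Coprime p → L ≤ Cfsg.pPrimeCore p ↥(commutator G)) ∧
      commutator G ≤ Cfsg.pPrimePCore p G ∧ ((Cfsg.pPrimePCore p G).index).Coprime p := by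
  classical
  have hpprime : p.Prime := Fact.out
  have hp2 : p ≠ 2 := by
    rintro rfl
    obtain ⟨k, hk⟩ := hodd
    omega
  have hKn : (Cfsg.pPrimeCore p G).Normal := Cfsg.Agent.Lib.Helper01.pPrimeCore_normal p
  have hKc : (Nat.card (Cfsg.pPrimeCore p G)).Coprime p :=
    Cfsg.Agent.Lib.Helper01.pPrimeCore_card_coprime p
  have hO : Cfsg.pPrimeCore p (G ⧸ Cfsg.pPrimeCore p G) = ⊥ :=
    Cfsg.Agent.Lib.Helper01.pPrimeCore_quotient_eq_bot p
  have hrQ : Cfsg.PRankLE p 2 (G ⧸ Cfsg.pPrimeCore p G) :=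
    Cfsg.Agent.Lib.Helper26.Rank2Solv.pRankLE_quotient _ hKc hr
  have hcardQ : Nat.card (G ⧸ Cfsg.pPrimeCore p G) ∣ Nat.card G := by
    rw [← Subgroup.index_eq_card]; exact Subgroup.index_dvd_card _
  have hoddQ : Odd (Nat.card (G ⧸ Cfsg.pPrimeCore p G)) := by
    obtain ⟨c, hc⟩ := hcardQ
    rw [hc] at hodd
    exact (Nat.odd_mul.1 hodd).1
  obtain ⟨c1, c2, c3⟩ := Cfsg.Agent.Lib.Helper26.Rank2Solv.core_facts hoddQ hp2 hO hrQ
  -- the derived subgroup maps into `O_p` of the quotient
  have hDle : commutator G ≤ Cfsg.pPrimePCore p G := by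
    intro g hg
    change QuotientGroup.mk' (Cfsg.pPrimeCore p G) g ∈ Cfsg.pCore p (G ⧸ Cfsg.pPrimeCore p G)
    apply c1
    rw [commutator_def] at hg ⊢
    have := Subgroup.mem_map_of_mem (QuotientGroup.mk' (Cfsg.pPrimeCore p G)) hg
    rw [Subgroup.map_commutator] at this
    exact Subgroup.commutator_mono le_top le_top this
  -- the normal `p`-complement of the derived subgroup
  have hNc : (Nat.card ((Cfsg.pPrimeCore p G).subgroupOf (commutator G))).Coprime p := by
    have h1 : Nat.card ((Cfsg.pPrimeCore p G).subgroupOf (commutator G))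
        = Nat.card (((Cfsg.pPrimeCore p G).subgroupOf (commutator G)).map (commutator G).subtype) :=
      (Subgroup.card_map_of_injective (Subgroup.subtype_injective _)).symm
    rw [h1, Subgroup.subgroupOf_map_subtype]
    exact Nat.Coprime.coprime_dvd_left (Subgroup.card_dvd_of_le inf_le_left) hKc
  have hDp : IsPGroup p (↥(commutator G) ⧸ (Cfsg.pPrimeCore p G).subgroupOf (commutator G)) := by
    intro y
    induction y using QuotientGroup.induction_on with
    | H x =>
      have hx : QuotientGroup.mk' (Cfsg.pPrimeCore p G) (x : G)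
          ∈ Cfsg.pCore p (G ⧸ Cfsg.pPrimeCore p G) := hDle x.2
      obtain ⟨j, hj⟩ := (Cfsg.Agent.Lib.Helper01.pCore_isPGroup p) ⟨_, hx⟩
      refine ⟨j, ?_⟩
      have h1 : (QuotientGroup.mk' (Cfsg.pPrimeCore p G) (x : G)) ^ (p ^ j) = 1 := by
        simpa using congrArg Subtype.val hj
      rw [← map_pow] at h1
      have h2 : (x : G) ^ (p ^ j) ∈ Cfsg.pPrimeCore p G := (QuotientGroup.eq_one_iff _).1 h1
      rw [← QuotientGroup.mk_pow, QuotientGroup.eq_one_iff, Subgroup.mem_subgroupOf]
      simpa using h2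
  obtain ⟨n, hn⟩ := hDp.exists_card_eq
  have hidx : ((Cfsg.pPrimeCore p G).subgroupOf (commutator G)).index = p ^ n := by
    rw [Subgroup.index_eq_card]; exact hn
  refine ⟨?_, ?_, ?_, ?_, hDle, ?_⟩
  · intro q hq hqd
    rw [Subgroup.index_eq_card] at hqd
    exact c2 q hq hqd
  · intro hcase
    have hall : ∀ {q : ℕ}, q.Prime → q ∣ Nat.card (G ⧸ Cfsg.pPrimeCore p G) → q = p := by
      intro q hq hqd
      have hle := c2 q hq hqd
      rcases hcase with h3 | hmin
      · have hq2 : q ≠ 2 := by
          rintro rfl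
          obtain ⟨k, hk⟩ := hoddQ
          omega
        have := hq.two_le
        omega
      · have := hmin q hq (hqd.trans hcardQ)
        omega
    have hpow := Nat.eq_prime_pow_of_unique_prime_dvd (Nat.card_pos).ne' hall
    rw [← Subgroup.index_eq_card] at hpow
    exact Cfsg.Agent.Lib.Helper26.Rank2Solv.hasNormalPComplement_of _ hKc _ hpow
  · exact Cfsg.Agent.Lib.Helper26.Rank2Solv.hasNormalPComplement_of _ hNc n hidx
  · intro L hL
    have h1 := Cfsg.Agent.Lib.Helper26.Rank2Solv.le_of_coprime_of_index _ n hidx L hL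
    exact h1.trans (Cfsg.Agent.Lib.Helper01.le_pPrimeCore inferInstance hNc)
  · have : (Cfsg.pPrimePCore p G).index = (Cfsg.pCore p (G ⧸ Cfsg.pPrimeCore p G)).index :=
      Subgroup.index_comap_of_surjective _ (QuotientGroup.mk'_surjective _)
    rw [this]
    exact c3

end Cfsg.Agent.S1450
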