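import Cfsg.Statements.S1452
import Cfsg.Agent.Lib.Helper26.NormalP3

set_option autoImplicit false
open Cfsg

namespace Cfsg.Agent.S1452

/-- Let p be an odd prime and R a finite p-group containing an elementary abelian subgroup of order p ^ 3. If E is a normal elementary abelian subgroup of R of order p ^ 2, then E ≤ A for some normal subgroup A of R with C_R(A) = A that contains an elementary abelian subgroup of order p ^ 3. -/
theorem result {R : Type*} [Group R] [Finite R] (p : ℕ) [Fact p.Prime] (hp : p ≠ 2) (hR : IsPGroup p R) (hr : ¬ Cfsg.PRankLE p 2 R)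
    (E : Subgroup R) [E.Normal] (hE : Cfsg.IsElementaryAbelian p E) (hE2 : Nat.card E = p ^ 2) :
    ∃ A : Subgroup R, E ≤ A ∧ A.Normal ∧ Subgroup.centralizer (A : Set R) = A ∧ ¬ Cfsg.PRankLE p 2 A := by
  classical
  have h2le := (Fact.out : p.Prime).two_le
  unfold Cfsg.PRankLE at hr
  push Not at hr
  obtain ⟨B, hBc, hBexp, hBcard⟩ := hr
  have hBcomm : ∀ a ∈ B, ∀ b ∈ B, a * b = b * a := fun a ha b hb =>
    congrArg Subtype.val (hBc.is_comm.comm (⟨a, ha⟩ : B) ⟨b, hb⟩)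
  have hEcomm : ∀ a ∈ E, ∀ b ∈ E, a * b = b * a := fun a ha b hb =>
    congrArg Subtype.val (hE.1.is_comm.comm (⟨a, ha⟩ : E) ⟨b, hb⟩)
  have hEexp : ∀ e ∈ E, e ^ p = 1 := hE.2
  obtain ⟨x, hxE, hxc, hxp⟩ := Cfsg.Agent.Lib.Helper26.exists_centralizing_of_rank hR E hEexp hE2 B
    hBcomm hBexp hBcard
  obtain ⟨E₃, hE₃n, hEE₃, hE₃card, hE₃comm, hE₃exp⟩ :=
    Cfsg.Agent.Lib.Helper26.exists_normal_elemAb_step hp hR E hEcomm hEexp x hxE hxc hxp
  obtain ⟨A, hAn, hE₃A, hAcomm, hAC⟩ :=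
    Cfsg.Agent.Lib.Helper26.exists_self_centralizing hR E₃ hE₃comm
  refine ⟨A, hEE₃.trans hE₃A, hAn, hAC, ?_⟩
  intro hrk
  have hcomm' : IsMulCommutative ↥(E₃.subgroupOf A) :=
    ⟨⟨fun a b => Subtype.ext (Subtype.ext (hE₃comm _ a.2 _ b.2))⟩⟩
  have h1 := hrk (E₃.subgroupOf A) hcomm' (fun a ha => Subtype.ext (by
    have := hE₃exp (a : R) ha
    simpa using this))
  have h2 : Nat.card ↥(E₃.subgroupOf A) = Nat.card E₃ :=
    Nat.card_congr (Subgroup.subgroupOfEquivOfLe hE₃A).toEquiv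
  rw [h2, hE₃card, hE2] at h1
  have : p ^ 2 * 2 ≤ p * p ^ 2 := by
    rw [mul_comm]; exact Nat.mul_le_mul_right _ h2le
  have hpos : 0 < p ^ 2 := by positivity
  omega

end Cfsg.Agent.S1452
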