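import Cfsg.Statements.S1457
import Cfsg.Agent.Lib.Helper40.OddStable
import Cfsg.Agent.Lib.Helper01.HallHigman

set_option autoImplicit false
open Cfsg

namespace Cfsg.Agent.S1457

/-- Let G be a solvable group of odd order, p a prime, S a Sylow p-subgroup of G and A an abelian subgroup of S normal in S. Then A ≤ O_{p',p}(G). -/
theorem result {G : Type*} [Group G] [Finite G] [Group.IsSolvable G] (hodd : Odd (Nat.card G)) (p : ℕ) [Fact p.Prime] (S : Sylow p G) (A : Subgroup G) (hA : A ≤ (S : Subgroup G)) (hAc : IsMulCommutative A)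
    (hAn : (S : Subgroup G) ≤ Subgroup.normalizer (A : Set G)) :
    A ≤ Cfsg.pPrimePCore p G := by
  classical
  by_cases hp2 : p = 2
  · subst hp2
    intro a ha
    have haS := hA ha
    have h1 : a = 1 := by
      obtain ⟨k, hk⟩ := (S.isPGroup').exists_card_eq
      have hdvd : Nat.card (S : Subgroup G) ∣ Nat.card G := Subgroup.card_subgroup_dvd_card _
      rcases Nat.eq_zero_or_pos k with rfl | hkpos
      · have h2 : Nat.card (S : Subgroup G) = 1 := by simpa using hk
        have hbot := Subgroup.card_eq_one.mp h2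
        have h3 : a ∈ (⊥ : Subgroup G) := hbot ▸ haS
        exact Subgroup.mem_bot.mp h3
      · exfalso
        have h2 : 2 ∣ Nat.card G := by
          refine dvd_trans ?_ hdvd
          rw [hk]; exact dvd_pow_self 2 hkpos.ne'
        exact (Nat.not_even_iff_odd.mpr hodd) (even_iff_two_dvd.mpr h2)
    rw [h1]; exact Subgroup.one_mem _
  · have hoddX : Odd (Nat.card (G ⧸ pPrimeCore p G)) :=
      Odd.of_dvd_nat hodd (Subgroup.card_quotient_dvd_card (pPrimeCore p G))
    have hX : pPrimeCore p (G ⧸ pPrimeCore p G) = ⊥ :=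
      Cfsg.Agent.Lib.Helper40.pPrimeCore_quotient_eq_bot p G
    have hc := Cfsg.Agent.Lib.Helper01.centralizer_pCore_le p hX
    have hB : A.map (QuotientGroup.mk' (pPrimeCore p G)) ≤ pCore p (G ⧸ pPrimeCore p G) := by
      apply Cfsg.Agent.Lib.Helper40.OddStable.abelian_le_pCore hoddX hp2 hc
      · rintro _ ⟨x, hx, rfl⟩ _ ⟨y, hy, rfl⟩
        rw [← map_mul, ← map_mul]
        congr 1
        exact congrArg Subtype.val (hAc.is_comm.comm ⟨x, hx⟩ ⟨y, hy⟩)
      · have h1 : pCore p (G ⧸ pPrimeCore p G) ≤
            (S : Subgroup G).map (QuotientGroup.mk' (pPrimeCore p G)) := by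
          have h2 := Cfsg.Agent.Lib.Helper40.pCore_le_sylow'
            (S.mapSurjective (QuotientGroup.mk'_surjective (pPrimeCore p G)))
          rwa [Sylow.coe_mapSurjective] at h2
        intro r hr
        obtain ⟨s, hs, rfl⟩ := h1 hr
        exact Subgroup.le_normalizer_map (QuotientGroup.mk' (pPrimeCore p G))
          (Subgroup.mem_map_of_mem _ (hAn hs))
    intro a ha
    show a ∈ (pCore p (G ⧸ pPrimeCore p G)).comap (QuotientGroup.mk' (pPrimeCore p G))
    exact hB (Subgroup.mem_map_of_mem _ ha)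

end Cfsg.Agent.S1457
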