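import Cfsg.Statements.S1398
import Cfsg.Agent.Lib.Helper55.Uniq2

set_option autoImplicit false
open Cfsg
open Cfsg.Agent.Lib.Helper55

namespace Cfsg.Agent.S1398

/-- Let G be a minimal simple group of odd order, M a maximal subgroup, p a prime, and B a noncyclic elementary abelian p-subgroup of M. If C_G(b) ≤ M for every non-identity b ∈ B, or if every subgroup of G of order coprime to p normalized by B is contained in M, then M is the only maximal subgroup of G containing B. -/
theorem result {G : Type*} [Group G] [Finite G] (hG : Cfsg.IsMinSimpleOddOrder G)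
    (M : Subgroup G) (hM : IsCoatom M) (p : ℕ) [Fact p.Prime] (B : Subgroup G) (hBM : B ≤ M)
    (hBe : Cfsg.IsElementaryAbelian p B) (hBnc : ¬ IsCyclic B)
    (h : (∀ b ∈ B, b ≠ 1 → Subgroup.centralizer ({b} : Set G) ≤ M) ∨
      ∀ Y ∈ Cfsg.invSubgroups ⊤ B (Cfsg.primesNotDvd p), Y ≤ M) :
    Cfsg.InUniqueMaximal B := by
  have hp : p.Prime := Fact.out
  have hBp : IsPGroup p B := isPGroup_of_pow_eq_one hBe.2
  have hB1 : B ≠ ⊥ := by
    rintro rfl
    exact hBnc inferInstance
  have hB2 : p ^ 2 ≤ Nat.card B := by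
    obtain ⟨n, hn⟩ := IsPGroup.iff_card.mp hBp
    rw [hn]
    apply Nat.pow_le_pow_right hp.pos
    by_contra hlt
    have hn1 : n = 0 ∨ n = 1 := by omega
    rcases hn1 with rfl | rfl
    · apply hB1
      rw [pow_zero] at hn
      exact Subgroup.card_eq_one.mp hn
    · rw [pow_one] at hn
      have : Fact (Nat.card B).Prime := ⟨hn ▸ hp⟩
      exact hBnc (isCyclic_of_prime_card rfl)
  have hcomm : ∀ a ∈ B, ∀ b ∈ B, a * b = b * a := fun a ha b hb =>
    congrArg Subtype.val (hBe.1.is_comm.comm ⟨a, ha⟩ ⟨b, hb⟩)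
  have hb : ∀ Y : Subgroup G, (Nat.card Y).Coprime p →
      B ≤ Subgroup.normalizer (Y : Set G) → Y ≤ M := by
    rcases h with ha | hb'
    · intro Y hY hBY
      apply le_of_centralizers_le (A := B) (N := Y) (H := M) hcomm hBe.2 hB2 hY hBY hBM
      intro a ha' ha1
      exact inf_le_right.trans (ha a ha' ha1)
    · intro Y hY hBY
      exact hb' Y ⟨le_top, Cfsg.Agent.Lib.Helper31.forall_prime_mem_primesNotDvd_iff.mpr hY, hBY⟩
  refine ⟨M, ⟨hM, hBM⟩, ?_⟩
  rintro H ⟨hH, hBH⟩
  exact uniq_of_inv hG hM hBM hBp hB1 hb H hH hBH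

end Cfsg.Agent.S1398
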