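import Cfsg.Statements.S1403
import Cfsg.Agent.S1402
import Cfsg.Agent.S1400
import Cfsg.Agent.S1399
import Cfsg.Agent.Lib.Helper31.TransRank
import Cfsg.Agent.Lib.Helper55.Uniq3
import Cfsg.Agent.Lib.Helper55.Uniq2

set_option autoImplicit false
open Cfsg

namespace Cfsg.Agent.S1403

open Cfsg.Agent.Lib.Helper31 Cfsg.Agent.Lib.Helper55

/-- every elementary abelian subgroup of rank at least three lies in a unique maximal subgroup -/
theorem elemAb_uniq {G : Type*} [Group G] [Finite G] (hG : Cfsg.IsMinSimpleOddOrder G)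
    (q : ℕ) (hq : q.Prime) (E : Subgroup G) (hE : Cfsg.IsElementaryAbelian q E)
    (hE3 : q ^ 2 < Nat.card E) : Cfsg.InUniqueMaximal E := by
  have : Fact q.Prime := ⟨hq⟩
  have hEc : ∀ a ∈ E, ∀ b ∈ E, a * b = b * a := fun a ha b hb =>
    congrArg Subtype.val (hE.1.is_comm.comm ⟨a, ha⟩ ⟨b, hb⟩)
  have hEq : IsPGroup q E := isPGroup_of_pow_eq_one hE.2
  obtain ⟨Q, hEQ⟩ := hEq.exists_le_sylow
  have hE1 : E ≠ ⊥ := by
    rintro rfl
    rw [Subgroup.card_bot] at hE3
    have := Nat.one_le_pow 2 q hq.pos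
    omega
  have hq2 : q ≠ 2 := ms_prime_ne_two hG hEq hE1
  have hQ3 : ¬ PRankLE q 2 ↥(Q : Subgroup G) :=
    not_pRankLE_sub_iff.mpr ⟨E, hEQ, hEc, hE.2, hE3⟩
  obtain ⟨A', hscn, hA'c, hA'3⟩ := exists_scn3 hq2 Q.isPGroup' hQ3
  have hA'U : InUniqueMaximal A' := Cfsg.Agent.S1402.result hG q Q A' hscn hA'3
  have hEnc : ¬ IsCyclic E := by
    apply not_isCyclic_of_exp q hq E hE.2
    have : q < q ^ 2 := by nlinarith [hq.two_le]
    omega
  have hEC : ¬ PRankLE q 2 ↥(Subgroup.centralizer (E : Set G)) := by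
    refine not_pRankLE_sub_iff.mpr ⟨E, ?_, hEc, hE.2, hE3⟩
    intro a ha
    rw [Subgroup.mem_centralizer_iff]
    intro b hb
    exact hEc b hb a ha
  exact Cfsg.Agent.S1400.result hG q A' E (Q.isPGroup'.to_le hscn.1) hA'c hA'3 hA'U hEq hEnc hEC

/-- Let G be a minimal simple group of odd order and K a proper subgroup having an elementary abelian subgroup of order p ^ 2 for some prime p. If K, or its centralizer C_G(K), has an elementary abelian subgroup of order q ^ 3 for some prime q, then K lies in exactly one maximal subgroup of G. -/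
theorem result {G : Type*} [Group G] [Finite G] (hG : Cfsg.IsMinSimpleOddOrder G)
    (K : Subgroup G) (hK : K ≠ ⊤) (hK2 : ¬ Cfsg.RankLE 1 K)
    (hK3 : ¬ Cfsg.RankLE 2 K ∨ ¬ Cfsg.RankLE 2 (Subgroup.centralizer (K : Set G))) :
    Cfsg.InUniqueMaximal K := by
  rcases hK3 with h3 | h3
  · obtain ⟨q, E, hq, hEK, hEel, hEcard⟩ := exists_elemAb_of_not_rankLE K 2 h3
    have hEU := elemAb_uniq hG q hq E hEel hEcard
    obtain ⟨M, hM, hKM⟩ := ms_exists_coatom_ge hK
    exact ⟨M, ⟨hM, hKM⟩, fun M' hM' =>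
      hEU.unique ⟨hM'.1, hEK.trans hM'.2⟩ ⟨hM, hEK.trans hKM⟩⟩
  · obtain ⟨q, E, hq, hEC, hEel, hEcard⟩ := exists_elemAb_of_not_rankLE _ 2 h3
    have hEU := elemAb_uniq hG q hq E hEel hEcard
    exact Cfsg.Agent.S1399.result hG E K hEU (le_centralizer_symm hEC) hK2

end Cfsg.Agent.S1403
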