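import Cfsg.Statements.S2970
import Cfsg.Agent.Lib.Helper57.Isolated
import Cfsg.Agent.Lib.Helper57.CyclicSylow

set_option autoImplicit false
open Cfsg

namespace Cfsg.Agent.S2970

open Cfsg.Agent.Lib.Helper57

/-- Let G be a finite group, p a prime and x ∈ G an element of p-power order which is isolated in G. Then the image of x in any quotient G ⧸ N is isolated in G ⧸ N; and if x ≠ 1 and the Sylow p-subgroups of G are cyclic, then G has a normal p-complement. -/
theorem result {G : Type*} [Group G] [Finite G] {p : ℕ} [Fact p.Prime] (x : G) (hx : ∃ k : ℕ, orderOf x = p ^ k) (hiso : Cfsg.IsIsolated x) : (∀ (N : Subgroup G) [N.Normal], Cfsg.IsIsolated (QuotientGroup.mk x : G ⧸ N)) ∧ (x ≠ 1 → (∀ P : Sylow p G, IsCyclic ↥(P : Subgroup G)) → Cfsg.HasNormalPComplement p G) := by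
  constructor
  · intro N _ q
    induction q using QuotientGroup.induction_on with
    | H g =>
    intro hcomm
    set y := g * x * g⁻¹ with hy
    have hmk : (QuotientGroup.mk g : G ⧸ N) * QuotientGroup.mk x * (QuotientGroup.mk g)⁻¹ =
        QuotientGroup.mk y := by
      rw [hy]; simp
    rw [hmk] at hcomm ⊢
    let H : Subgroup G :=
      (Subgroup.centralizer ({(QuotientGroup.mk y : G ⧸ N)} : Set (G ⧸ N))).comap (QuotientGroup.mk' N)
    have memH : ∀ c : G, c ∈ H ↔ Commute (QuotientGroup.mk y : G ⧸ N) (QuotientGroup.mk c) := by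
      intro c
      show (QuotientGroup.mk' N c) ∈ Subgroup.centralizer _ ↔ _
      rw [Subgroup.mem_centralizer_iff]
      simp [Commute, SemiconjBy]
    have hxH : x ∈ H := (memH x).mpr hcomm.symm
    have hyH : y ∈ H := (memH y).mpr (Commute.refl _)
    obtain ⟨c, hc, hcx⟩ := isolated_conj_eq hx hiso H hxH g hyH
    have hc' := (memH c).mp hc
    have e1 : (QuotientGroup.mk c : G ⧸ N) * QuotientGroup.mk y * (QuotientGroup.mk c)⁻¹ =
        QuotientGroup.mk x := by
      rw [← hcx, hy]; simp
    rw [← e1, ← hc'.eq, mul_assoc, mul_inv_cancel, mul_one]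
  · intro hx1 hcyc
    obtain ⟨k, hk⟩ := hx
    have hpx : IsPGroup p (Subgroup.zpowers x) := by
      apply IsPGroup.of_card (n := k)
      rw [Nat.card_zpowers, hk]
    obtain ⟨P, hP⟩ := hpx.exists_le_sylow
    have hxP : x ∈ (P : Subgroup G) := hP (Subgroup.mem_zpowers x)
    have hN : Subgroup.normalizer ((P : Subgroup G) : Set G) ≤ Subgroup.centralizer ({x} : Set G) := by
      intro n hn
      have h1 : n * x * n⁻¹ ∈ (P : Subgroup G) := (hn x).mp hxP
      have h2 : Commute x (n * x * n⁻¹) := isolated_commute hiso P.isPGroup' hxP h1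
      have h3 := hiso n h2
      rw [Subgroup.mem_centralizer_iff]
      intro y hy
      rw [Set.mem_singleton_iff] at hy
      subst hy
      calc y * n = (n * y * n⁻¹) * n := by rw [h3]
        _ = n * y := by group
    have hNC := normalizer_le_centralizer_of_cyclic_of_fixed P (hcyc P) x hxP hx1 hN
    exact ⟨P, (MonoidHom.transferSylow P hNC).ker, inferInstance,
      MonoidHom.ker_transferSylow_isComplement' P hNC⟩

end Cfsg.Agent.S2970
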