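import Cfsg.Statements.S2971
import Cfsg.Agent.S2970
import Cfsg.Agent.Lib.Helper97.OddPGroup
import Cfsg.Agent.Lib.Helper57.PPrimeCore

set_option autoImplicit false
open Cfsg

namespace Cfsg.Agent.S2971

open Cfsg.Agent.Lib.Helper57

/-- for odd `p`, `p`-rank at most one forces cyclic Sylow `p`-subgroups -/
theorem sylow_cyclic {G : Type*} [Group G] [Finite G] {p : ℕ} [Fact p.Prime] (hp : p ≠ 2)
    (hrk : Cfsg.PRankLE p 1 G) (P : Sylow p G) : IsCyclic ↥(P : Subgroup G) := by
  by_contra hnc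
  obtain ⟨A, -, ⟨hAc, hAe⟩, hAcard⟩ :=
    Cfsg.Agent.Lib.Helper97.exists_normal_elementary_sq hp P.isPGroup' hnc
  have hcomm : IsMulCommutative ↥(A.map (P : Subgroup G).subtype) := by
    refine ⟨⟨fun a b => ?_⟩⟩
    obtain ⟨a, ha⟩ := a
    obtain ⟨b, hb⟩ := b
    obtain ⟨a', ha', rfl⟩ := ha
    obtain ⟨b', hb', rfl⟩ := hb
    apply Subtype.ext
    have := hAc.is_comm.comm (⟨a', ha'⟩ : A) ⟨b', hb'⟩
    have h2 : a' * b' = b' * a' := congrArg Subtype.val this
    show (P : Subgroup G).subtype a' * (P : Subgroup G).subtype b' =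
      (P : Subgroup G).subtype b' * (P : Subgroup G).subtype a'
    rw [← map_mul, ← map_mul, h2]
  have hexp : ∀ a ∈ A.map (P : Subgroup G).subtype, a ^ p = 1 := by
    rintro _ ⟨a', ha', rfl⟩
    rw [← map_pow, hAe a' ha', map_one]
  have h1 := hrk _ hcomm hexp
  rw [Subgroup.card_map_of_injective (Subgroup.subtype_injective _), hAcard, pow_one] at h1
  have hp1 : 1 < p := (Fact.out : p.Prime).one_lt
  nlinarith

/-- a normal `p`-complement with cyclic Sylow `p`-subgroup makes every element central modulo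
the `p'`-core -/
theorem inZStar_of_complement {G : Type*} [Group G] [Finite G] {p : ℕ} [Fact p.Prime]
    (P : Sylow p G) (hcyc : IsCyclic ↥(P : Subgroup G)) (N : Subgroup G) [hN : N.Normal]
    (hc : N.IsComplement' (P : Subgroup G)) (x : G) : Cfsg.InZStar p x := by
  have hpp : p.Prime := Fact.out
  have hNcop : (Nat.card N).Coprime p := by
    have h1 := hc.card_mul_card
    have h2 := Subgroup.card_mul_index (P : Subgroup G)
    have h3 : Nat.card N = (P : Subgroup G).index := by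
      have hpos : 0 < Nat.card (P : Subgroup G) := Nat.card_pos
      have : Nat.card (P : Subgroup G) * Nat.card N = Nat.card (P : Subgroup G) * (P : Subgroup G).index := by
        rw [h2, mul_comm, h1]
      exact Nat.eq_of_mul_eq_mul_left hpos this
    rw [h3]
    exact (Nat.Coprime.symm ((Nat.Prime.coprime_iff_not_dvd hpp).mpr P.not_dvd_index))
  have hNle : N ≤ Cfsg.pPrimeCore p G := le_pPrimeCore' N hNcop
  have hPcomm : ∀ a ∈ (P : Subgroup G), ∀ b ∈ (P : Subgroup G), a * b = b * a := by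
    intro a ha b hb
    have := (IsCyclic.commGroup (α := ↥(P : Subgroup G))).mul_comm ⟨a, ha⟩ ⟨b, hb⟩
    exact congrArg Subtype.val this
  have hdec : ∀ g : G, ∃ n ∈ N, ∃ t ∈ (P : Subgroup G), g = n * t := by
    intro g
    obtain ⟨⟨n, t⟩, h, -⟩ := Subgroup.IsComplement.existsUnique hc g
    exact ⟨n, n.2, t, t.2, h.symm⟩
  intro g
  apply hNle
  obtain ⟨n₁, hn₁, t₁, ht₁, rfl⟩ := hdec g
  obtain ⟨n₂, hn₂, t₂, ht₂, rfl⟩ := hdec x
  rw [← QuotientGroup.eq_one_iff (N := N)]
  have e1 : ((n₁ * t₁ : G) : G ⧸ N) = (t₁ : G ⧸ N) := by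
    rw [QuotientGroup.mk_mul, (QuotientGroup.eq_one_iff n₁).mpr hn₁, one_mul]
  have e2 : ((n₂ * t₂ : G) : G ⧸ N) = (t₂ : G ⧸ N) := by
    rw [QuotientGroup.mk_mul, (QuotientGroup.eq_one_iff n₂).mpr hn₂, one_mul]
  rw [QuotientGroup.mk_mul, QuotientGroup.mk_mul, QuotientGroup.mk_mul, QuotientGroup.mk_inv,
    QuotientGroup.mk_inv, e1, e2, ← QuotientGroup.mk_inv, ← QuotientGroup.mk_inv,
    ← QuotientGroup.mk_mul, ← QuotientGroup.mk_mul, ← QuotientGroup.mk_mul]
  have : t₁ * t₂ * t₁⁻¹ * t₂⁻¹ = 1 := by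
    rw [hPcomm t₁ ht₁ t₂ ht₂]; group
  rw [this]; rfl

/-- Let G be a finite group and p an odd prime such that G has p-rank at most 1 (no elementary abelian subgroup of order p²). If x ∈ G is an isolated element of order p, then x is central modulo the largest normal subgroup of G of order prime to p. -/
theorem result {G : Type*} [Group G] [Finite G] {p : ℕ} [Fact p.Prime] (hp : p ≠ 2) (hrk : Cfsg.PRankLE p 1 G) (x : G) (hx : orderOf x = p) (hiso : Cfsg.IsIsolated x) : Cfsg.InZStar p x := by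
  have hpp : p.Prime := Fact.out
  have hx1 : x ≠ 1 := by
    intro h
    rw [h, orderOf_one] at hx
    exact hpp.one_lt.ne hx
  have h := (Cfsg.Agent.S2970.result (p := p) x ⟨1, by rw [hx, pow_one]⟩ hiso).2 hx1
    (fun P => sylow_cyclic hp hrk P)
  obtain ⟨P, N, hN, hc⟩ := h
  exact inZStar_of_complement P (sylow_cyclic hp hrk P) N hc x

end Cfsg.Agent.S2971
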