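import Mathlib
import Cfsg.Statements.S1280
import Cfsg.Agent.Lib.Helper29.Coprime
import Cfsg.Agent.Lib.Helper29.Sup

set_option autoImplicit false
open Cfsg

namespace Cfsg.Agent.S1280

open Cfsg.Agent.Lib.Helper29

theorem mem_centralizer_singleton_iff {G : Type*} [Group G] (a u : G) :
    u ∈ Subgroup.centralizer ({a} : Set G) ↔ a * u * a⁻¹ = u := by
  rw [Subgroup.mem_centralizer_iff]
  constructor
  · intro h
    rw [h a rfl]; group
  · intro h b hb
    rw [Set.mem_singleton_iff] at hb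
    subst hb
    calc b * u = (b * u * b⁻¹) * b := by group
      _ = u * b := by rw [h]

/-- Let θ be a solvable A-signalizer functor (A a noncyclic elementary abelian p-subgroup of the finite group G), and X, Y members of its family with Y ≤ N_G(X). Then X ⊔ Y (= XY) is again in the family. -/
theorem result {G : Type*} [Group G] [Finite G] (p : ℕ) [Fact p.Prime] (A : Subgroup G) (hA : Cfsg.IsElementaryAbelian p A) (hA2 : p ^ 2 ≤ Nat.card ↥A) (θ : G → Subgroup G) (hθ : Cfsg.IsSolvableSignalizerFunctor p A θ) (X Y : Subgroup G) (hX : X ∈ Cfsg.signalizerFamily p A θ) (hY : Y ∈ Cfsg.signalizerFamily p A θ) (hn : Y ≤ Subgroup.normalizer (X : Set G)) : X ⊔ Y ∈ Cfsg.signalizerFamily p A θ := by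
  obtain ⟨hXs, hXp, hXA, hXθ⟩ := hX
  obtain ⟨hYs, hYp, hYA, hYθ⟩ := hY
  refine ⟨sup_isSolvable_of_le_normalizer X Y hn hXs hYs, ?_, ?_, ?_⟩
  · intro h
    have := h.trans (card_sup_dvd_of_le_normalizer X Y hn)
    rcases (Nat.Prime.dvd_mul (Fact.out)).mp this with h | h
    exacts [hXp h, hYp h]
  · intro b hb
    exact conj_mem_sup X Y b (hXA b hb) (hYA b hb)
  · rintro a ha ha1 u ⟨hu, hua⟩
    have hu' : u ∈ ((X ⊔ Y : Subgroup G) : Set G) := hu
    rw [Subgroup.coe_mul_of_right_le_normalizer_left X Y hn] at hu'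
    obtain ⟨x, hx, y, hy, rfl⟩ := hu'
    have hx : x ∈ X := hx
    have hy : y ∈ Y := hy
    have hcomm : a * (x * y) * a⁻¹ = x * y := (mem_centralizer_singleton_iff a _).mp hua
    have hPQ : (a * x * a⁻¹) * (a * y * a⁻¹) = x * y := by
      rw [← hcomm]; group
    have key : (a * x * a⁻¹)⁻¹ * x = (a * y * a⁻¹) * y⁻¹ := by
      calc (a * x * a⁻¹)⁻¹ * x = (a * x * a⁻¹)⁻¹ * (x * y) * y⁻¹ := by group
        _ = (a * x * a⁻¹)⁻¹ * ((a * x * a⁻¹) * (a * y * a⁻¹)) * y⁻¹ := by rw [hPQ]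
        _ = (a * y * a⁻¹) * y⁻¹ := by group
    set S : Set G := (fun t => t * y) '' ((X ⊓ Y : Subgroup G) : Set G) with hS
    have hinv : ∀ s ∈ S, a * s * a⁻¹ ∈ S := by
      rintro s ⟨t, ht, rfl⟩
      have ht1 : t ∈ X := ht.1
      have ht2 : t ∈ Y := ht.2
      refine ⟨(a * t * a⁻¹) * ((a * x * a⁻¹)⁻¹ * x), ⟨?_, ?_⟩, ?_⟩
      · exact X.mul_mem (hXA a ha t ht1) (X.mul_mem (X.inv_mem (hXA a ha x hx)) hx)
      · rw [key]
        exact Y.mul_mem (hYA a ha t ht2) (Y.mul_mem (hYA a ha y hy) (Y.inv_mem hy))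
      · show (a * t * a⁻¹) * ((a * x * a⁻¹)⁻¹ * x) * y = a * (t * y) * a⁻¹
        rw [key]; group
    have hcard : ¬ p ∣ Nat.card S := by
      rw [hS, Nat.card_image_of_injective (mul_left_injective y)]
      intro h
      apply hXp
      exact h.trans (Subgroup.card_dvd_of_le (inf_le_left : X ⊓ Y ≤ X))
    obtain ⟨y', ⟨t, ht, rfl⟩, hyb⟩ := exists_conj_fixed_of_pow_eq_one a (hA.2 a ha) S hinv hcard
    have ht1 : t ∈ X := ht.1
    have ht2 : t ∈ Y := ht.2
    have hy'θ : t * y ∈ θ a :=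
      hYθ a ha ha1 ⟨Y.mul_mem ht2 hy, (mem_centralizer_singleton_iff a _).mpr hyb⟩
    have hx'' : x * t⁻¹ ∈ θ a := by
      refine hXθ a ha ha1 ⟨X.mul_mem hx (X.inv_mem ht1), (mem_centralizer_singleton_iff a _).mpr ?_⟩
      have e : x * t⁻¹ = (x * y) * (t * y)⁻¹ := by group
      rw [e]
      calc a * ((x * y) * (t * y)⁻¹) * a⁻¹ = (a * (x * y) * a⁻¹) * (a * (t * y) * a⁻¹)⁻¹ := by group
        _ = (x * y) * (t * y)⁻¹ := by rw [hcomm, hyb]
    have e : x * y = (x * t⁻¹) * (t * y) := by group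
    show x * y ∈ θ a
    rw [e]
    exact (θ a).mul_mem hx'' hy'θ

end Cfsg.Agent.S1280
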