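import Mathlib
import Cfsg.Statements.S1282
import Cfsg.Agent.Lib.Helper29.HyperplaneInt

set_option autoImplicit false
open Cfsg

namespace Cfsg.Agent.S1282

open Cfsg.Agent.Lib.Helper29

/-- In a finite `q`-group `Q`, a proper subgroup `D` is properly contained in its normalizer in `Q`. -/
theorem exists_mem_normalizer_not_mem {G : Type*} [Group G] [Finite G] (q : ℕ) [Fact q.Prime]
    (Q D : Subgroup G) (hQ : IsPGroup q Q) (hDQ : D ≤ Q) (hne : D ≠ Q) :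
    Subgroup.normalizer (D : Set G) ⊓ Q ≠ D := by
  intro heq
  haveI : Group.IsNilpotent Q := hQ.isNilpotent
  have hnc : NormalizerCondition Q := Group.normalizerCondition_of_isNilpotent
  have hlt : D.subgroupOf Q < ⊤ := by
    rw [lt_top_iff_ne_top, Ne, Subgroup.subgroupOf_eq_top]
    intro h
    exact hne (le_antisymm hDQ h)
  have h1 := hnc (D.subgroupOf Q) hlt
  rw [← Subgroup.subgroupOf_normalizer_eq hDQ] at h1
  have h2 : (Subgroup.normalizer (D : Set G)).subgroupOf Q ≤ D.subgroupOf Q := by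
    intro x hx
    rw [Subgroup.mem_subgroupOf] at hx ⊢
    rw [← heq]
    exact ⟨hx, x.2⟩
  exact absurd h2 (not_le_of_gt h1)

/-- Let A be an elementary abelian p-subgroup of rank at least 3 of the finite group G, q ≠ p a prime, and Q₁, Q₂ q-subgroups normalized by A with D = Q₁ ∩ Q₂ different from both. Then there is a non-identity a ∈ A such that, for i = 1 and i = 2, N_{Q_i}(D) ∩ C_G(a) is not contained in D. -/
theorem result {G : Type*} [Group G] [Finite G] (p : ℕ) [Fact p.Prime] (A : Subgroup G) (hA : Cfsg.IsElementaryAbelian p A) (hA3 : p ^ 3 ≤ Nat.card ↥A) (q : ℕ) [Fact q.Prime] (hqp : q ≠ p) (Q₁ Q₂ : Subgroup G) (h₁ : IsPGroup q ↥Q₁) (h₂ : IsPGroup q ↥Q₂) (hA₁ : A ≤ Subgroup.normalizer (Q₁ : Set G)) (hA₂ : A ≤ Subgroup.normalizer (Q₂ : Set G)) (hD₁ : Q₁ ⊓ Q₂ ≠ Q₁) (hD₂ : Q₁ ⊓ Q₂ ≠ Q₂) : ∃ a ∈ A, a ≠ 1 ∧ ¬ (Subgroup.normalizer ((Q₁ ⊓ Q₂ : Subgroup G) : Set G) ⊓ Q₁ ⊓ Subgroup.centralizer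 {a} ≤ Q₁ ⊓ Q₂) ∧ ¬ (Subgroup.normalizer ((Q₁ ⊓ Q₂ : Subgroup G) : Set G) ⊓ Q₂ ⊓ Subgroup.centralizer {a} ≤ Q₁ ⊓ Q₂) := by
  set D := Q₁ ⊓ Q₂ with hD
  have hp : p.Prime := Fact.out
  have hAc : ∀ a ∈ A, ∀ b ∈ A, a * b = b * a := by
    intro a ha b hb
    have := hA.1.is_comm.comm (⟨a, ha⟩ : A) ⟨b, hb⟩
    exact congrArg Subtype.val this
  have hAD : A ≤ Subgroup.normalizer (D : Set G) :=
    (le_inf hA₁ hA₂).trans Subgroup.inf_normalizer_le_normalizer_inf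
  have hANN : A ≤ Subgroup.normalizer ((Subgroup.normalizer (D : Set G) : Subgroup G) : Set G) :=
    hAD.trans Subgroup.le_normalizer
  -- the two sections
  have key : ∀ Q : Subgroup G, IsPGroup q Q → A ≤ Subgroup.normalizer (Q : Set G) → D ≤ Q → D ≠ Q →
      ∃ B : Subgroup G, B ≤ A ∧ Nat.card A ≤ p * Nat.card B ∧
        ∃ x ∈ Subgroup.normalizer (D : Set G) ⊓ Q, x ∉ D ∧ ∀ b ∈ B, b * x * b⁻¹ = x := by
    intro Q hQ hAQ hDQ hne
    apply exists_hyperplane_fixed_section p q hqp.symm A (Subgroup.normalizer (D : Set G) ⊓ Q) D hAc hA.2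
      (hQ.to_le inf_le_right) (le_inf Subgroup.le_normalizer hDQ) inf_le_left
      (exists_mem_normalizer_not_mem q Q D hQ hDQ hne).symm
      ((le_inf hANN hAQ).trans Subgroup.inf_normalizer_le_normalizer_inf) hAD
  obtain ⟨B₁, hB₁A, hB₁c, x₁, hx₁N, hx₁D, hx₁B⟩ := key Q₁ h₁ hA₁ inf_le_left hD₁
  obtain ⟨B₂, hB₂A, hB₂c, x₂, hx₂N, hx₂D, hx₂B⟩ := key Q₂ h₂ hA₂ inf_le_right hD₂
  -- B₁ ⊓ B₂ is nontrivial
  have hcard : 1 < Nat.card ↥(B₁ ⊓ B₂) := by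
    have e1 : Nat.card ↥(B₁ ⊓ B₂) * (B₁ ⊓ B₂).relIndex B₁ = Nat.card B₁ := by
      have := Subgroup.card_mul_index ((B₁ ⊓ B₂).subgroupOf B₁)
      rwa [Nat.card_congr (Subgroup.subgroupOfEquivOfLe (inf_le_left : B₁ ⊓ B₂ ≤ B₁)).toEquiv] at this
    have e2 : Nat.card B₂ * B₂.relIndex A = Nat.card A := by
      have := Subgroup.card_mul_index (B₂.subgroupOf A)
      rwa [Nat.card_congr (Subgroup.subgroupOfEquivOfLe hB₂A).toEquiv] at this
    have e3 : (B₁ ⊓ B₂).relIndex B₁ = B₂.relIndex B₁ := Subgroup.inf_relIndex_left B₁ B₂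
    have e4 : B₂.relIndex B₁ ≤ B₂.relIndex A :=
      Subgroup.relIndex_le_of_le_right hB₁A (by
        intro h0
        rw [h0, mul_zero] at e2
        exact (Nat.card_pos (α := A)).ne' e2.symm)
    have hB₂pos : 0 < Nat.card B₂ := Nat.card_pos
    have e5 : B₂.relIndex A ≤ p := by
      have : Nat.card B₂ * B₂.relIndex A ≤ Nat.card B₂ * p := by
        rw [e2, mul_comm]; exact hB₂c
      exact Nat.le_of_mul_le_mul_left this hB₂pos
    have e6 : Nat.card B₁ ≤ Nat.card ↥(B₁ ⊓ B₂) * p := by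
      rw [← e1, e3]
      exact Nat.mul_le_mul_left _ (e4.trans e5)
    have e7 : p ^ 3 ≤ p * (Nat.card ↥(B₁ ⊓ B₂) * p) :=
      hA3.trans (hB₁c.trans (Nat.mul_le_mul_left _ e6))
    by_contra hle
    have hle : Nat.card ↥(B₁ ⊓ B₂) ≤ 1 := not_lt.mp hle
    have h2 : 2 ≤ p := hp.two_le
    have : p * (Nat.card ↥(B₁ ⊓ B₂) * p) ≤ p * (1 * p) :=
      Nat.mul_le_mul_left _ (Nat.mul_le_mul_right _ hle)
    have h3 : p ^ 3 ≤ p * (1 * p) := e7.trans this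
    have h4 : p ^ 3 = p * p * p := by ring
    have h5 : p * p * p ≤ p * p := by rw [← h4]; linarith
    have h6 : p * p * 2 ≤ p * p * p := Nat.mul_le_mul_left _ h2
    have h7 : 0 < p * p := Nat.mul_pos hp.pos hp.pos
    nlinarith
  have hnt : Nontrivial ↥(B₁ ⊓ B₂) := Finite.one_lt_card_iff_nontrivial.mp hcard
  obtain ⟨⟨a, haB⟩, ha1⟩ := exists_ne (1 : ↥(B₁ ⊓ B₂))
  have ha1' : a ≠ 1 := fun h => ha1 (Subtype.ext h)
  have hcent : ∀ x : G, a * x * a⁻¹ = x → x ∈ Subgroup.centralizer ({a} : Set G) := by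
    intro x hx
    rw [Subgroup.mem_centralizer_iff]
    intro y hy
    rw [Set.mem_singleton_iff] at hy
    subst hy
    calc y * x = (y * x * y⁻¹) * y := by group
      _ = x * y := by rw [hx]
  refine ⟨a, hB₁A haB.1, ha1', ?_, ?_⟩
  · intro hle
    exact hx₁D (hle ⟨hx₁N, hcent x₁ (hx₁B a haB.1)⟩)
  · intro hle
    exact hx₂D (hle ⟨hx₂N, hcent x₂ (hx₂B a haB.2)⟩)

end Cfsg.Agent.S1282
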