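import Cfsg.Statements.S1463
import Cfsg.Agent.Lib.Helper33.GL2Odd

set_option autoImplicit false
open scoped MatrixGroups
open Cfsg

namespace Cfsg.Agent.S1463

/-- Let F be a field of odd characteristic p and H a finite subgroup of odd order of GL(2, F) that leaves no 1-dimensional subspace of F² invariant. Then p does not divide the order of H. -/
theorem result {F : Type*} [Field F] (p : ℕ) [Fact p.Prime] [CharP F p] (hp : p ≠ 2)
    (H : Subgroup (GL (Fin 2) F)) [Finite H] (hodd : Odd (Nat.card H))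
    (hirr : ∀ v : Fin 2 → F, v ≠ 0 → ∃ g ∈ H, (g : Matrix (Fin 2) (Fin 2) F).mulVec v ∉ Submodule.span F {v}) :
    ¬ p ∣ Nat.card H := by
  intro hdvd
  obtain ⟨K, hKn, hK, hKall⟩ := Cfsg.Agent.Lib.Helper33.exists_normal_pgroup_gl2_odd p hp H hodd
  obtain ⟨g, hg⟩ := exists_prime_orderOf_dvd_card' p hdvd
  have hgK : g ∈ K := hKall g ⟨1, by rw [pow_one, ← hg, pow_orderOf_eq_one]⟩
  have hne : K ≠ ⊥ := by
    intro h
    rw [h, Subgroup.mem_bot] at hgK
    rw [hgK, orderOf_one] at hg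
    exact (Fact.out : p.Prime).one_lt.ne' hg.symm
  haveI := hKn
  obtain ⟨v, hv, hinv⟩ :=
    Cfsg.Agent.Lib.Helper33.exists_invariant_line_of_normal_pgroup p H K hK hne
  obtain ⟨h, hh, hnot⟩ := hirr v hv
  exact hnot (hinv h hh)

end Cfsg.Agent.S1463
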