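import Cfsg.Statements.S1465
import Cfsg.Agent.Lib.Helper33.OddPStable2

set_option autoImplicit false
open Cfsg

namespace Cfsg.Agent.S1465

open scoped commutatorElement in
theorem quad_of_abelian_normalized {G : Type*} [Group G] (P B : Subgroup G)
    (hBc : IsMulCommutative B) (hPB : P ≤ Subgroup.normalizer (B : Set G)) :
    ⁅⁅P, B⁆, B⁆ = ⊥ := by
  have h1 : ⁅P, B⁆ ≤ B := by
    rw [Subgroup.commutator_le]
    intro u hu b hb
    have := (Subgroup.mem_normalizer_iff.mp (hPB hu) b).mp hb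
    exact B.mul_mem this (B.inv_mem hb)
  have h2 : ⁅⁅P, B⁆, B⁆ ≤ ⁅B, B⁆ := Subgroup.commutator_mono h1 le_rfl
  have h3 : ⁅B, B⁆ = ⊥ := by
    rw [Subgroup.commutator_eq_bot_iff_le_centralizer]
    intro b hb
    rw [Subgroup.mem_centralizer_iff]
    intro c hc
    have := hBc.is_comm.comm (⟨c, hc⟩ : B) ⟨b, hb⟩
    exact congrArg Subtype.val this
  rw [h3] at h2
  exact le_bot_iff.mp h2

/-- Let p be an odd prime, G a solvable group of odd order, P a normal p-subgroup of G, and X the subgroup generated by a family of abelian p-subgroups of G each normalized by P. Then the image of X in G/C_G(P) lies in O_p(G/C_G(P)); and if O_{p'}(G) = 1 and O_p(G) ∩ C_G(P) ≤ P then X ≤ O_p(G). -/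
theorem result {G : Type*} [Group G] [Finite G] [Group.IsSolvable G] (hodd : Odd (Nat.card G)) (p : ℕ) [Fact p.Prime] (hp : p ≠ 2) (P : Subgroup G) [P.Normal] (hP : IsPGroup p P)
    (S : Set (Subgroup G)) (hS : ∀ B ∈ S, IsMulCommutative B ∧ IsPGroup p B ∧ P ≤ Subgroup.normalizer (B : Set G)) :
    (sSup S).map (QuotientGroup.mk' (Subgroup.centralizer (P : Set G))) ≤ Cfsg.pCore p (G ⧸ Subgroup.centralizer (P : Set G)) ∧
      (Cfsg.pPrimeCore p G = ⊥ → Cfsg.pCore p G ⊓ Subgroup.centralizer (P : Set G) ≤ P → sSup S ≤ Cfsg.pCore p G) := by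
  have part1 : (sSup S).map (QuotientGroup.mk' (Subgroup.centralizer (P : Set G))) ≤
      Cfsg.pCore p (G ⧸ Subgroup.centralizer (P : Set G)) := by
    rw [Subgroup.map_le_iff_le_comap]
    apply sSup_le
    intro B hB
    rw [← Subgroup.map_le_iff_le_comap]
    obtain ⟨hBc, -, hPB⟩ := hS B hB
    exact Cfsg.Agent.Lib.Helper33.quad_le_pCore_normal hodd p hp P B hP
      (quad_of_abelian_normalized P B hBc hPB)
  refine ⟨part1, ?_⟩
  intro hO hCP
  -- `C = C_G(P)` is a `p`-group
  obtain ⟨C, hC⟩ : ∃ C : Subgroup G, C = Subgroup.centralizer (P : Set G) := ⟨_, rfl⟩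
  haveI hCn : C.Normal := by rw [hC]; infer_instance
  have hCsol : Cfsg.IsPSolvable p ↥C := Cfsg.Agent.Lib.Helper33.isPSolvable_of_isSolvable p ↥C
  have hCO : Cfsg.pPrimeCore p ↥C = ⊥ := Cfsg.Agent.Lib.Helper15.pPrimeCore_eq_bot_of_normal p C hO
  have hcent := Cfsg.Agent.Lib.Helper81.centralizer_pCore_le hCsol hCO
  have hmap := Cfsg.Agent.Lib.Helper15.map_pCore_le_of_normal p C
  have hCtop : Cfsg.pCore p ↥C = ⊤ := by
    rw [eq_top_iff]
    refine le_trans ?_ hcent
    intro c _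
    rw [Subgroup.mem_centralizer_iff]
    intro d hd
    -- `d ∈ O_p(C)` lies in `P`, and `c` centralizes `P`
    have hdP : (d : G) ∈ P := by
      apply hCP
      refine ⟨hmap ⟨d, hd, rfl⟩, ?_⟩
      rw [← hC]; exact d.2
    have hc : (c : G) ∈ Subgroup.centralizer (P : Set G) := by rw [← hC]; exact c.2
    have := Subgroup.mem_centralizer_iff.mp hc (d : G) hdP
    exact Subtype.ext this
  have hCp : IsPGroup p ↥C := by
    have := Cfsg.Agent.Lib.Helper81.isPGroup_pCore (G := ↥C) p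
    rw [hCtop] at this
    exact IsPGroup.of_equiv this Subgroup.topEquiv
  -- the preimage `L` of `O_p(G/C)` is a normal `p`-subgroup
  obtain ⟨L, hL⟩ : ∃ L : Subgroup G, L = (Cfsg.pCore p (G ⧸ Subgroup.centralizer (P : Set G))).comap
      (QuotientGroup.mk' (Subgroup.centralizer (P : Set G))) := ⟨_, rfl⟩
  have hLn : L.Normal := by
    rw [hL]
    haveI := Cfsg.Agent.Lib.Helper81.pCore_normal (G := G ⧸ Subgroup.centralizer (P : Set G)) p
    infer_instance
  have hLp : IsPGroup p L := by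
    rintro ⟨g, hg⟩
    rw [hL, Subgroup.mem_comap] at hg
    obtain ⟨k, hk⟩ := (Cfsg.Agent.Lib.Helper81.isPGroup_pCore
      (G := G ⧸ Subgroup.centralizer (P : Set G)) p) ⟨_, hg⟩
    have hk' : (QuotientGroup.mk' (Subgroup.centralizer (P : Set G)) g) ^ p ^ k = 1 := by
      have := congrArg Subtype.val hk
      simpa using this
    rw [← map_pow, QuotientGroup.mk'_apply, QuotientGroup.eq_one_iff, ← hC] at hk'
    obtain ⟨j, hj⟩ := hCp ⟨_, hk'⟩
    have hj' : (g ^ p ^ k) ^ p ^ j = 1 := by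
      have := congrArg Subtype.val hj
      simpa using this
    refine ⟨k + j, ?_⟩
    apply Subtype.ext
    rw [Subgroup.coe_pow, Subgroup.coe_one, pow_add, pow_mul]
    exact hj'
  have hLle : L ≤ Cfsg.pCore p G := Cfsg.Agent.Lib.Helper81.le_pCore hLn hLp
  refine le_trans ?_ hLle
  rw [hL, ← Subgroup.map_le_iff_le_comap]
  exact part1

end Cfsg.Agent.S1465
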