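import Cfsg.Statements.S1466
import Cfsg.Agent.Lib.Helper33.Puig
import Cfsg.Agent.Lib.Helper33.PGroupBasic

set_option autoImplicit false
open Cfsg

namespace Cfsg.Agent.S1466

open Cfsg.Agent.Lib.Helper33

/-- Let p be a prime and R a nontrivial finite p-group. Then for every i > 0, Z(R) ≤ C_R(L_i(R)) ≤ L_i(R); likewise Z(R) ≤ C_R(L_*(R)) ≤ L_*(R) and Z(R) ≤ C_R(L(R)) ≤ L(R); and L(R) ≠ 1, L_*(R) ≠ 1. -/
theorem result {R : Type*} [Group R] [Finite R] (p : ℕ) [Fact p.Prime] (hR : IsPGroup p R) [Nontrivial R] :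
    (∀ i : ℕ, 0 < i → Subgroup.center R ≤ Subgroup.centralizer ((Cfsg.puigSeq R i : Subgroup R) : Set R) ∧
        Subgroup.centralizer ((Cfsg.puigSeq R i : Subgroup R) : Set R) ≤ Cfsg.puigSeq R i) ∧
      (Subgroup.center R ≤ Subgroup.centralizer ((Cfsg.puigLower R : Subgroup R) : Set R) ∧ Subgroup.centralizer ((Cfsg.puigLower R : Subgroup R) : Set R) ≤ Cfsg.puigLower R) ∧
      (Subgroup.center R ≤ Subgroup.centralizer ((Cfsg.puigSubgroup R : Subgroup R) : Set R) ∧ Subgroup.centralizer ((Cfsg.puigSubgroup R : Subgroup R) : Set R) ≤ Cfsg.puigSubgroup R) ∧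
      Cfsg.puigSubgroup R ≠ ⊥ ∧ Cfsg.puigLower R ≠ ⊥ := by
  obtain ⟨A, hAn, hAc, hCA⟩ := exists_normal_abelian_self_centralizing hR
  have hAne : A ≠ ⊥ := by
    intro h
    rw [h] at hCA
    have htop : (⊤ : Subgroup R) ≤ ⊥ := by
      refine le_trans ?_ hCA
      intro x _
      rw [Subgroup.mem_centralizer_iff]
      intro y hy
      have : y = 1 := by simpa using hy
      subst this
      simp
    exact top_ne_bot (le_bot_iff.mp htop)
  -- `A` lies in every Puig step
  have hstep : ∀ X : Subgroup R, A ≤ puigStep X := by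
    intro X
    apply le_puigStep hAc
    rw [Subgroup.normalizer_eq_top]
    exact le_top
  have hseq : ∀ i : ℕ, 0 < i → A ≤ puigSeq R i := by
    intro i hi
    obtain ⟨j, rfl⟩ := Nat.exists_eq_succ_of_ne_zero hi.ne'
    exact hstep _
  have hlow : A ≤ puigLower R := (hseq 2 (by norm_num)).trans (puigSeq_even_le_puigLower 1)
  have hsub : A ≤ puigSubgroup R := by
    unfold puigSubgroup
    exact le_iInf fun n => hseq _ (Nat.succ_pos _)
  have main : ∀ L : Subgroup R, A ≤ L →
      Subgroup.center R ≤ Subgroup.centralizer (L : Set R) ∧ Subgroup.centralizer (L : Set R) ≤ L := by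
    intro L hL
    refine ⟨Subgroup.center_le_centralizer _, ?_⟩
    exact (Subgroup.centralizer_le hL).trans (hCA.trans hL)
  refine ⟨fun i hi => main _ (hseq i hi), main _ hlow, main _ hsub, ?_, ?_⟩
  · intro h
    rw [h] at hsub
    exact hAne (le_bot_iff.mp hsub)
  · intro h
    rw [h] at hlow
    exact hAne (le_bot_iff.mp hlow)

end Cfsg.Agent.S1466
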