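import Cfsg.Statements.S0007
import Mathlib

set_option autoImplicit false
open Cfsg

namespace Cfsg.Agent.S0007

/-- Subgroups of coprime index: the intersection has index equal to the product of the indices, and every element is a product of an element of the first subgroup and an element of the second. -/
theorem result {G : Type*} [Group G] [Finite G] (H K : Subgroup G)
    (h : H.index.Coprime K.index) :
    (H ⊓ K).index = H.index * K.index ∧ ∀ g : G, ∃ x ∈ H, ∃ y ∈ K, g = x * y := by
  have hidx : (H ⊓ K).index = H.index * K.index := by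
    apply Nat.dvd_antisymm
    · have h1 : (H ⊓ K).index ≠ 0 := Subgroup.index_ne_zero_of_finite
      have h2 := Subgroup.index_inf_le (H := H) (K := K)
      -- use divisibility the other way and ≤
      have hdvd : H.index * K.index ∣ (H ⊓ K).index :=
        Nat.Coprime.mul_dvd_of_dvd_of_dvd h (Subgroup.index_dvd_of_le inf_le_left)
          (Subgroup.index_dvd_of_le inf_le_right)
      have := Nat.le_of_dvd (Nat.pos_of_ne_zero h1) hdvd
      have heq : (H ⊓ K).index = H.index * K.index := le_antisymm h2 this
      rw [heq]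
    · exact Nat.Coprime.mul_dvd_of_dvd_of_dvd h (Subgroup.index_dvd_of_le inf_le_left)
        (Subgroup.index_dvd_of_le inf_le_right)
  refine ⟨hidx, ?_⟩
  -- relIndex H K = H.index
  have hrel : H.relIndex K = H.index := by
    have h1 : (H ⊓ K).relIndex K * K.index = (H ⊓ K).index :=
      Subgroup.relIndex_mul_index inf_le_right
    rw [Subgroup.inf_relIndex_right, hidx] at h1
    have hK : 0 < K.index := Nat.pos_of_ne_zero Subgroup.index_ne_zero_of_finite
    exact Nat.eq_of_mul_eq_mul_right hK h1
  -- K acts on G ⧸ H, stabilizer of 1 is H.subgroupOf K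
  have hstab : MulAction.stabilizer K ((1 : G) : G ⧸ H) = H.subgroupOf K := by
    ext k
    rw [MulAction.mem_stabilizer_iff, Subgroup.mem_subgroupOf]
    change (((k : G) * 1 : G) : G ⧸ H) = ((1 : G) : G ⧸ H) ↔ _
    rw [mul_one, QuotientGroup.eq]
    constructor
    · intro hk
      have := H.inv_mem hk
      simpa using this
    · intro hk
      simpa using H.inv_mem hk
  have horb : MulAction.orbit K ((1 : G) : G ⧸ H) = Set.univ := by
    rw [Set.eq_univ_iff_ncard, ← MulAction.index_stabilizer, hstab]
    change H.relIndex K = _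
    rw [hrel, Subgroup.index_eq_card]
  intro g
  have hg : ((g⁻¹ : G) : G ⧸ H) ∈ MulAction.orbit K ((1 : G) : G ⧸ H) := by
    rw [horb]; exact Set.mem_univ _
  obtain ⟨k, hk⟩ := hg
  change (((k : G) * 1 : G) : G ⧸ H) = ((g⁻¹ : G) : G ⧸ H) at hk
  rw [mul_one, QuotientGroup.eq] at hk
  refine ⟨((k : G)⁻¹ * g⁻¹)⁻¹, H.inv_mem hk, (k : G)⁻¹, K.inv_mem k.2, ?_⟩
  group

end Cfsg.Agent.S0007
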