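import Cfsg.Statements.S1453
import Cfsg.Agent.Lib.Helper26.NormalP3b

set_option autoImplicit false
open Cfsg

namespace Cfsg.Agent.S1453

open Cfsg.Agent.Lib.Helper26 Cfsg.Agent.Lib.Helper69
open scoped commutatorElement

theorem center_hmul {R : Type*} [Group R] (p : ℕ) :
    ∀ x ∈ Subgroup.center R, ∀ y ∈ Subgroup.center R, x ^ p = 1 → y ^ p = 1 → (x * y) ^ p = 1 := by
  intro x hx y _ h1 h2
  have hc : Commute x y := ((Subgroup.mem_center_iff.mp hx) y).symm
  rw [hc.mul_pow, h1, h2, one_mul]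

theorem main_aux {R : Type*} [Group R] [Finite R] (p : ℕ) [hp : Fact p.Prime] (hp2 : p ≠ 2)
    (hR : IsPGroup p R)
    (B : Subgroup R) (hBcomm : ∀ a ∈ B, ∀ b ∈ B, a * b = b * a) (hBexp : ∀ b ∈ B, b ^ p = 1)
    (hBcard : p ^ 2 < Nat.card B)
    (E : Subgroup R) (hEcomm : ∀ a ∈ E, ∀ b ∈ E, a * b = b * a) (hEexp : ∀ e ∈ E, e ^ p = 1)
    (hE2 : Nat.card E = p ^ 2)
    (hmaxH : ∀ H : Subgroup R, (∀ a ∈ H, ∀ b ∈ H, a * b = b * a) → (∀ a ∈ H, a ^ p = 1) →
      (∀ a ∈ E, ∀ b ∈ H, a * b = b * a) → H ≤ E) :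
    ¬ E ≤ Subgroup.centralizer
        ((omegaSub (Subgroup.upperCentralSeries R 2) p (z2_hmul hp2) : Subgroup R) : Set R) ∧
      Nat.card ↥(omegaSub (Subgroup.center R) p (center_hmul p)) = p ∧
      ((∀ a ∈ omegaSub (Subgroup.upperCentralSeries R 2) p (z2_hmul hp2),
          ∀ b ∈ omegaSub (Subgroup.upperCentralSeries R 2) p (z2_hmul hp2), a * b = b * a) ∧
        Nat.card ↥(omegaSub (Subgroup.upperCentralSeries R 2) p (z2_hmul hp2)) = p ^ 2) ∧
      (Subgroup.centralizer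
        ((omegaSub (Subgroup.upperCentralSeries R 2) p (z2_hmul hp2) : Subgroup R) : Set R)).index
          = p := by
  classical
  have hpp := hp.out
  have h2le := hpp.two_le
  have hnil := hR.isNilpotent
  -- maximality, elementwise
  have hmaxE : ∀ x : R, x ^ p = 1 → (∀ e ∈ E, x * e = e * x) → x ∈ E := by
    intro x hxp hxc
    have hle := hmaxH (Subgroup.zpowers x)
      (fun a ha b hb => by
        obtain ⟨k, rfl⟩ := Subgroup.mem_zpowers_iff.mp ha
        obtain ⟨l, rfl⟩ := Subgroup.mem_zpowers_iff.mp hb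
        rw [← zpow_add, ← zpow_add, add_comm])
      (fun a ha => by
        obtain ⟨k, rfl⟩ := Subgroup.mem_zpowers_iff.mp ha
        rw [← zpow_natCast, ← zpow_mul, mul_comm, zpow_mul, zpow_natCast, hxp, one_zpow])
      (fun a ha b hb => by
        have hle : Subgroup.zpowers x ≤ Subgroup.centralizer {a} := by
          rw [Subgroup.zpowers_le, Subgroup.mem_centralizer_singleton_iff]
          exact hxc a ha
        have := hle hb
        rw [Subgroup.mem_centralizer_singleton_iff] at this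
        exact this.symm)
    exact hle (Subgroup.mem_zpowers x)
  set Z₀ := omegaSub (Subgroup.center R) p (center_hmul p) with hZ₀
  set W₀ := omegaSub (Subgroup.upperCentralSeries R 2) p (z2_hmul hp2) with hW₀
  have hZ₀mem : ∀ x, x ∈ Z₀ ↔ x ∈ Subgroup.center R ∧ x ^ p = 1 := fun x => Iff.rfl
  have hW₀mem : ∀ x, x ∈ W₀ ↔ x ∈ Subgroup.upperCentralSeries R 2 ∧ x ^ p = 1 := fun x => Iff.rfl
  have hcen : ∀ c ∈ Z₀, ∀ w : R, c * w = w * c := fun c hc w =>
    ((Subgroup.mem_center_iff.mp hc.1) w).symm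
  -- Z₀ ≤ E
  have hZ₀E : Z₀ ≤ E := hmaxH Z₀ (fun a ha b _ => hcen a ha b) (fun a ha => ha.2)
    (fun a _ b hb => (hcen b hb a).symm)
  -- Z₀ ≠ E
  have hZ₀ne : Z₀ ≠ E := by
    intro h
    have hBE : B ≤ E := by
      intro b hb
      refine hmaxE b (hBexp b hb) (fun e he => ?_)
      rw [← h] at he
      exact (hcen e he b).symm
    have := Subgroup.card_le_of_le hBE
    rw [hE2] at this
    omega
  -- Z₀ nontrivial
  have hE0 : E ≠ ⊥ := by
    rintro rfl
    rw [Subgroup.card_bot] at hE2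
    nlinarith
  have htop0 : (⊤ : Subgroup R) ≠ ⊥ := by
    intro h
    apply hE0
    rw [eq_bot_iff, ← h]; exact le_top
  obtain ⟨z, -, hzC, hz⟩ := exists_central_order_p hR ⊤ htop0
  have hzp : z ^ p = 1 := by
    have := pow_orderOf_eq_one z
    rwa [hz] at this
  have hzZ₀ : z ∈ Z₀ := ⟨hzC, hzp⟩
  have hz1 : z ≠ 1 := by
    intro h
    rw [h, orderOf_one] at hz
    exact hpp.one_lt.ne hz
  have hZ₀card : Nat.card Z₀ = p := by
    have hdvd := Subgroup.card_dvd_of_le hZ₀E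
    rw [hE2] at hdvd
    obtain ⟨i, hi2, hi⟩ := (Nat.dvd_prime_pow hpp).mp hdvd
    have hi0 : i ≠ 0 := by
      rintro rfl
      rw [pow_zero] at hi
      have := (Subgroup.card_eq_one.mp hi)
      rw [this] at hzZ₀
      exact hz1 (Subgroup.mem_bot.mp hzZ₀)
    have hi2' : i ≠ 2 := by
      rintro rfl
      apply hZ₀ne
      apply Subgroup.eq_of_le_of_card_ge hZ₀E
      rw [hi, hE2]
    have : i = 1 := by omega
    rw [hi, this, pow_one]
  have hZ₀z : Subgroup.zpowers z = Z₀ := by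
    apply Subgroup.eq_of_le_of_card_ge (Subgroup.zpowers_le.mpr hzZ₀)
    rw [hZ₀card, Nat.card_zpowers, hz]
  have hZ₀n : Z₀.Normal := normal_of_le_center Z₀ (fun x hx => hx.1)
  -- commutators of W₀ lie in Z₀
  have hWc : ∀ w ∈ W₀, ∀ g : R, g * w * g⁻¹ * w⁻¹ ∈ Z₀ := fun w hw g =>
    z2_comm_mem w hw.1 hw.2 g
  -- E is not contained in W₀
  have hEW : ¬ E ≤ W₀ := by
    intro hEW
    have hEn : E.Normal := by
      constructor
      intro e he g
      have h1 := hZ₀E (hWc e (hEW he) g)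
      have : g * e * g⁻¹ = (g * e * g⁻¹ * e⁻¹) * e := by group
      rw [this]; exact mul_mem h1 he
    obtain ⟨x, hxE, hxc, hxp⟩ := exists_centralizing_of_rank hR E hEexp hE2 B hBcomm hBexp hBcard
    exact hxE (hmaxE x hxp hxc)
  -- a normal elementary abelian subgroup of order p² lies in W₀
  have hEnc : ¬ IsCyclic E := by
    intro hcyc
    obtain ⟨g, hg⟩ := hcyc.exists_ofOrder_eq_natCard
    have h1 : orderOf g ∣ p := orderOf_dvd_of_pow_eq_one (by
      have := hEexp (g : R) g.2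
      exact Subtype.ext (by simpa using this))
    rw [hg, hE2] at h1
    have := Nat.le_of_dvd hpp.pos h1
    nlinarith
  have hnc' : ¬ IsCyclic (⊤ : Subgroup R) := by
    intro h
    have hRc : IsCyclic R := isCyclic_of_surjective (Subgroup.topEquiv (G := R)).toMonoidHom
      (Subgroup.topEquiv (G := R)).surjective
    exact hEnc inferInstance
  obtain ⟨U, -, hUn, hUexp, hUcard⟩ := exists_normal_exp_p_sq hp2 hR ⊤ hnc'
  have hU0 : U ≠ ⊥ := by
    rintro rfl
    rw [Subgroup.card_bot] at hUcard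
    nlinarith
  obtain ⟨z', hz'U, hz'C, hz'⟩ := exists_central_order_p hR U hU0
  have hz'p : z' ^ p = 1 := by
    have := pow_orderOf_eq_one z'
    rwa [hz'] at this
  have hZ'Z₀ : Subgroup.zpowers z' = Z₀ := by
    apply Subgroup.eq_of_le_of_card_ge (Subgroup.zpowers_le.mpr (show z' ∈ Z₀ from ⟨hz'C, hz'p⟩))
    rw [hZ₀card, Nat.card_zpowers, hz']
  have hZ₀U : Z₀ ≤ U := by rw [← hZ'Z₀]; exact Subgroup.zpowers_le.mpr hz'U
  have hUW : U ≤ W₀ := by
    have hne : Z₀ ≠ U := by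
      intro h
      rw [← h, hZ₀card] at hUcard
      nlinarith
    obtain ⟨N'', -, -, hNU, hNcard, hNc⟩ :=
      exists_normal_step_central U Z₀ (hR.to_subgroup U) hZ₀U hne
    have hN''U : N'' = U := by
      apply Subgroup.eq_of_le_of_card_ge hNU
      rw [hNcard, hZ₀card, hUcard, sq]
    rw [hN''U] at hNc
    intro u hu
    refine ⟨?_, hUexp u hu⟩
    have : u ∈ Subgroup.upperCentralSeries R (1 + 1) := by
      rw [Subgroup.mem_upperCentralSeries_succ_iff]
      intro g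
      rw [Subgroup.upperCentralSeries_one]
      have h1 := (hNc u hu g).1
      have h2 : ⁅u, g⁆ = (g * u * g⁻¹ * u⁻¹)⁻¹ := by
        rw [commutatorElement_def]; group
      rw [h2]; exact inv_mem h1
    exact this
  -- |W₀| ≤ p²
  obtain ⟨e, heE, heZ⟩ : ∃ e ∈ E, e ∉ Z₀ := by
    by_contra hcon
    push Not at hcon
    exact hZ₀ne (le_antisymm hZ₀E hcon)
  have hsupE : Z₀ ⊔ Subgroup.zpowers e = E :=
    sup_zpowers_eq_of_card Z₀ E hZ₀E (by rw [hE2, hZ₀card, sq]) e heE heZ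
  have hcentE : ∀ g : R, g * e = e * g → ∀ e' ∈ E, g * e' = e' * g := by
    intro g hg e' he'
    have hle : Z₀ ⊔ Subgroup.zpowers e ≤ Subgroup.centralizer {g} := by
      refine sup_le ?_ ?_
      · intro c hc
        rw [Subgroup.mem_centralizer_singleton_iff]
        exact hcen c hc g
      · rw [Subgroup.zpowers_le, Subgroup.mem_centralizer_singleton_iff]
        exact hg.symm
    rw [hsupE] at hle
    have := hle he'
    rw [Subgroup.mem_centralizer_singleton_iff] at this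
    exact this.symm
  have hWcard_le : Nat.card W₀ ≤ p ^ 2 := by
    -- hom w ↦ w e w⁻¹ e⁻¹
    have hval : ∀ w ∈ W₀, w * e * w⁻¹ * e⁻¹ ∈ Z₀ := by
      intro w hw
      have h1 := hWc w⁻¹ (inv_mem hw) e
      -- e * w⁻¹ * e⁻¹ * w ∈ Z₀ ; conjugate by w
      have h2 : w * e * w⁻¹ * e⁻¹ = w * (e * w⁻¹ * e⁻¹ * w⁻¹⁻¹) * w⁻¹ := by group
      rw [h2]
      exact hZ₀n.conj_mem _ h1 w
    let φ : ↥W₀ →* R := MonoidHom.mk' (fun b => (b : R) * e * (b : R)⁻¹ * e⁻¹) (fun b b' => by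
      simp only [Subgroup.coe_mul]
      have hc := hval (b' : R) b'.2
      have h1 := hcen _ hc (b : R)
      have h2 := hcen _ hc ((b : R) * e * (b : R)⁻¹ * e⁻¹)
      calc (b : R) * b' * e * ((b : R) * b')⁻¹ * e⁻¹
          = (b : R) * ((b' : R) * e * (b' : R)⁻¹ * e⁻¹) * ((b : R)⁻¹ * ((b : R) * e * (b : R)⁻¹ * e⁻¹))
            := by group
        _ = ((b' : R) * e * (b' : R)⁻¹ * e⁻¹) * (b : R) * ((b : R)⁻¹ * ((b : R) * e * (b : R)⁻¹ * e⁻¹))
            := by rw [h1]
        _ = ((b' : R) * e * (b' : R)⁻¹ * e⁻¹) * ((b : R) * e * (b : R)⁻¹ * e⁻¹) := by group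
        _ = (b : R) * e * (b : R)⁻¹ * e⁻¹ * ((b' : R) * e * (b' : R)⁻¹ * e⁻¹) := h2)
    have hφ : ∀ b : ↥W₀, φ b = (b : R) * e * (b : R)⁻¹ * e⁻¹ := fun b => rfl
    have hrange : φ.range ≤ Z₀ := by
      rintro _ ⟨b, rfl⟩
      exact hval (b : R) b.2
    have hkerE : ∀ b : ↥W₀, b ∈ φ.ker → (b : R) ∈ E := by
      intro b hb
      have h1 : (b : R) * e * (b : R)⁻¹ * e⁻¹ = 1 := by
        have := φ.mem_ker.mp hb
        rwa [hφ] at this
      have h2 : (b : R) * e = e * (b : R) := by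
        calc (b : R) * e = ((b : R) * e * (b : R)⁻¹ * e⁻¹) * (e * (b : R)) := by group
          _ = e * (b : R) := by rw [h1, one_mul]
      exact hmaxE (b : R) b.2.2 (hcentE _ h2)
    have h3 : Nat.card φ.ker * Nat.card φ.range = Nat.card W₀ := by
      rw [← Subgroup.index_ker]; exact Subgroup.card_mul_index _
    have hr : Nat.card φ.range ≤ p := by
      rw [← hZ₀card]; exact Subgroup.card_le_of_le hrange
    have hk : Nat.card φ.ker ≤ Nat.card ↥(E ⊓ W₀) := by
      apply Nat.card_le_card_of_injective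
        (fun b : φ.ker => (⟨(b : ↥W₀), hkerE b.1 b.2, b.1.2⟩ : ↥(E ⊓ W₀)))
      intro b b' hbb'
      apply Subtype.ext; apply Subtype.ext
      have h := congrArg (fun w : ↥(E ⊓ W₀) => (w : R)) hbb'
      exact h
    have hdvd := Subgroup.card_dvd_of_le (inf_le_left : E ⊓ W₀ ≤ E)
    rw [hE2] at hdvd
    obtain ⟨i, hi2, hi⟩ := (Nat.dvd_prime_pow hpp).mp hdvd
    have hi1 : i ≤ 1 := by
      by_contra h
      have h2 : i = 2 := by omega
      apply hEW
      have : E ⊓ W₀ = E := by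
        apply Subgroup.eq_of_le_of_card_ge inf_le_left
        rw [hi, h2, hE2]
      rw [← this]; exact inf_le_right
    have hle : Nat.card ↥(E ⊓ W₀) ≤ p := by
      rw [hi]
      calc p ^ i ≤ p ^ 1 := Nat.pow_le_pow_right hpp.pos hi1
        _ = p := pow_one p
    rw [← h3, sq]
    exact Nat.mul_le_mul (hk.trans hle) hr
  have hWcard : Nat.card W₀ = p ^ 2 := by
    apply le_antisymm hWcard_le
    rw [← hUcard]; exact Subgroup.card_le_of_le hUW
  have hWcomm : ∀ a ∈ W₀, ∀ b ∈ W₀, a * b = b * a := by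
    intro a ha b hb
    have := (IsPGroup.isMulCommutative_of_card_eq_prime_sq hWcard).is_comm.comm
      (⟨a, ha⟩ : W₀) ⟨b, hb⟩
    exact congrArg Subtype.val this
  refine ⟨?_, hZ₀card, ⟨hWcomm, hWcard⟩, ?_⟩
  · -- E ≰ C(W₀)
    intro hEC
    have hWE : W₀ ≤ E := hmaxH W₀ hWcomm (fun a ha => ha.2) (fun a ha b hb => by
      have := (Subgroup.mem_centralizer_iff.mp (hEC ha)) b hb
      exact this.symm)
    apply hEW
    have : W₀ = E := Subgroup.eq_of_le_of_card_ge hWE (by rw [hWcard, hE2])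
    rw [this]
  · -- index of C(W₀)
    obtain ⟨w₀, hw₀W, hw₀Z⟩ : ∃ w ∈ W₀, w ∉ Z₀ := by
      by_contra hcon
      push Not at hcon
      have hle : W₀ ≤ Z₀ := hcon
      have := Subgroup.card_le_of_le hle
      rw [hWcard, hZ₀card] at this
      nlinarith
    have hZ₀W : Z₀ ≤ W₀ := hZ₀U.trans hUW
    have hsupW : Z₀ ⊔ Subgroup.zpowers w₀ = W₀ :=
      sup_zpowers_eq_of_card Z₀ W₀ hZ₀W (by rw [hWcard, hZ₀card, sq]) w₀ hw₀W hw₀Z
    let ψ : R →* R := MonoidHom.mk' (fun g => g * w₀ * g⁻¹ * w₀⁻¹) (fun g h => by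
      have hc := hWc w₀ hw₀W h
      have h1 := hcen _ hc g
      have h2 := hcen _ hc (g * w₀ * g⁻¹ * w₀⁻¹)
      calc g * h * w₀ * (g * h)⁻¹ * w₀⁻¹
          = g * (h * w₀ * h⁻¹ * w₀⁻¹) * (g⁻¹ * (g * w₀ * g⁻¹ * w₀⁻¹)) := by group
        _ = (h * w₀ * h⁻¹ * w₀⁻¹) * g * (g⁻¹ * (g * w₀ * g⁻¹ * w₀⁻¹)) := by rw [h1]
        _ = (h * w₀ * h⁻¹ * w₀⁻¹) * (g * w₀ * g⁻¹ * w₀⁻¹) := by group
        _ = g * w₀ * g⁻¹ * w₀⁻¹ * (h * w₀ * h⁻¹ * w₀⁻¹) := h2)
    have hψ : ∀ g : R, ψ g = g * w₀ * g⁻¹ * w₀⁻¹ := fun g => rfl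
    have hker : ψ.ker = Subgroup.centralizer ((W₀ : Subgroup R) : Set R) := by
      ext g
      rw [ψ.mem_ker, hψ, Subgroup.mem_centralizer_iff]
      constructor
      · intro h1 w hw
        have h2 : g * w₀ = w₀ * g := by
          calc g * w₀ = (g * w₀ * g⁻¹ * w₀⁻¹) * (w₀ * g) := by group
            _ = w₀ * g := by rw [h1, one_mul]
        have hle : Z₀ ⊔ Subgroup.zpowers w₀ ≤ Subgroup.centralizer {g} := by
          refine sup_le ?_ ?_
          · intro c hc
            rw [Subgroup.mem_centralizer_singleton_iff]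
            exact hcen c hc g
          · rw [Subgroup.zpowers_le, Subgroup.mem_centralizer_singleton_iff]
            exact h2.symm
        rw [hsupW] at hle
        have := hle hw
        rw [Subgroup.mem_centralizer_singleton_iff] at this
        exact this
      · intro h1
        have h2 := h1 w₀ hw₀W
        calc g * w₀ * g⁻¹ * w₀⁻¹ = (g * w₀) * g⁻¹ * w₀⁻¹ := by group
          _ = (w₀ * g) * g⁻¹ * w₀⁻¹ := by rw [h2]
          _ = 1 := by group
    rw [← hker, Subgroup.index_ker]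
    have hrange : ψ.range ≤ Z₀ := by
      rintro _ ⟨g, rfl⟩
      exact hWc w₀ hw₀W g
    have hdvd := Subgroup.card_dvd_of_le hrange
    rw [hZ₀card] at hdvd
    rcases (Nat.dvd_prime hpp).mp hdvd with h1 | h1
    · exfalso
      have hbot := Subgroup.card_eq_one.mp h1
      apply hw₀Z
      refine ⟨?_, hw₀W.2⟩
      rw [Subgroup.mem_center_iff]
      intro g
      have h2 : ψ g ∈ ψ.range := ⟨g, rfl⟩
      rw [hbot, Subgroup.mem_bot, hψ] at h2
      calc g * w₀ = (g * w₀ * g⁻¹ * w₀⁻¹) * (w₀ * g) := by group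
        _ = w₀ * g := by rw [h2, one_mul]
    · exact h1

/-- Let p be an odd prime and R a finite p-group with an elementary abelian subgroup of order p ^ 3 and an elementary abelian subgroup E of order p ^ 2 contained in no larger elementary abelian subgroup. Let Z₂ be the second centre of R, W the subgroup generated by the elements of Z₂ of order dividing p, and T = C_R(W). Then E is not contained in T; the elements of order dividing p of the centre of R generate a group of order p; W is elementary abelian of order p ^ 2; and T is characteristic in R of index p. -/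
theorem result {R : Type*} [Group R] [Finite R] (p : ℕ) [Fact p.Prime] (hp : p ≠ 2) (hR : IsPGroup p R) (hr : ¬ Cfsg.PRankLE p 2 R)
    (E : Subgroup R) (hE : Cfsg.IsElementaryAbelian p E) (hE2 : Nat.card E = p ^ 2)
    (hEmax : ∀ B : Subgroup R, Cfsg.IsElementaryAbelian p B → E ≤ B → B = E) :
    ¬ E ≤ Subgroup.centralizer ((Subgroup.closure {x : R | x ∈ Subgroup.upperCentralSeries R 2 ∧ x ^ p = 1} : Subgroup R) : Set R) ∧
      Nat.card ↥(Subgroup.closure {x : R | x ∈ Subgroup.center R ∧ x ^ p = 1}) = p ∧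
      (Cfsg.IsElementaryAbelian p (Subgroup.closure {x : R | x ∈ Subgroup.upperCentralSeries R 2 ∧ x ^ p = 1}) ∧
        Nat.card ↥(Subgroup.closure {x : R | x ∈ Subgroup.upperCentralSeries R 2 ∧ x ^ p = 1}) = p ^ 2) ∧
      (Subgroup.centralizer ((Subgroup.closure {x : R | x ∈ Subgroup.upperCentralSeries R 2 ∧ x ^ p = 1} : Subgroup R) : Set R)).Characteristic ∧
      (Subgroup.centralizer ((Subgroup.closure {x : R | x ∈ Subgroup.upperCentralSeries R 2 ∧ x ^ p = 1} : Subgroup R) : Set R)).index = p := by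
  classical
  have hrr := hr
  unfold Cfsg.PRankLE at hrr
  push Not at hrr
  obtain ⟨B, hBc, hBexp, hBcard⟩ := hrr
  have hBcomm : ∀ a ∈ B, ∀ b ∈ B, a * b = b * a := fun a ha b hb =>
    congrArg Subtype.val (hBc.is_comm.comm (⟨a, ha⟩ : B) ⟨b, hb⟩)
  have hEcomm : ∀ a ∈ E, ∀ b ∈ E, a * b = b * a := fun a ha b hb =>
    congrArg Subtype.val (hE.1.is_comm.comm (⟨a, ha⟩ : E) ⟨b, hb⟩)
  have hEexp : ∀ e ∈ E, e ^ p = 1 := hE.2
  have hmaxH : ∀ H : Subgroup R, (∀ a ∈ H, ∀ b ∈ H, a * b = b * a) → (∀ a ∈ H, a ^ p = 1) →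
      (∀ a ∈ E, ∀ b ∈ H, a * b = b * a) → H ≤ E := by
    intro H hHcomm hHexp hEH
    have hc := comm_sup E H hEcomm hHcomm hEH
    have he := exp_sup p E H hEcomm hHcomm hEH hEexp hHexp
    have hel : Cfsg.IsElementaryAbelian p (E ⊔ H) :=
      ⟨⟨⟨fun a b => Subtype.ext (hc _ a.2 _ b.2)⟩⟩, he⟩
    have := hEmax (E ⊔ H) hel le_sup_left
    rw [← this]; exact le_sup_right
  obtain ⟨h1, h2, ⟨h3c, h3⟩, h5⟩ := main_aux p hp hR B hBcomm hBexp hBcard E hEcomm hEexp hE2 hmaxH
  have hWeq : Subgroup.closure {x : R | x ∈ Subgroup.upperCentralSeries R 2 ∧ x ^ p = 1}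
      = omegaSub (Subgroup.upperCentralSeries R 2) p (z2_hmul hp) :=
    Subgroup.closure_eq (omegaSub (Subgroup.upperCentralSeries R 2) p (z2_hmul hp))
  have hZeq : Subgroup.closure {x : R | x ∈ Subgroup.center R ∧ x ^ p = 1}
      = omegaSub (Subgroup.center R) p (center_hmul p) :=
    Subgroup.closure_eq (omegaSub (Subgroup.center R) p (center_hmul p))
  have hWchar : (omegaSub (Subgroup.upperCentralSeries R 2) p (z2_hmul hp)).Characteristic := by
    rw [Subgroup.characteristic_iff_le_comap]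
    intro ϕ x hx
    rw [Subgroup.mem_comap]
    refine ⟨?_, ?_⟩
    · have hch : (Subgroup.upperCentralSeries R 2).Characteristic := inferInstance
      exact (Subgroup.characteristic_iff_le_comap.mp hch ϕ) hx.1
    · have : (ϕ.toMonoidHom x) ^ p = ϕ.toMonoidHom (x ^ p) := (map_pow _ _ _).symm
      rw [this, hx.2, map_one]
  rw [hWeq, hZeq]
  refine ⟨h1, h2, ⟨⟨⟨⟨fun a b => Subtype.ext (h3c _ a.2 _ b.2)⟩⟩, fun a ha => ha.2⟩, h3⟩, ?_, h5⟩
  exact inferInstance

end Cfsg.Agent.S1453
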