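import Cfsg.Statements.S1350
import Cfsg.Agent.S1404
import Cfsg.Agent.Lib.Helper71.BG10Hall

set_option autoImplicit false
open Cfsg

namespace Cfsg.Agent.S1350

open Cfsg.Agent.Lib.Helper71.BG10 Cfsg.Agent.Lib.Helper31

/-- Let G be a minimal simple group of odd order and M a maximal subgroup. Then M_σ (the largest normal σ(M)-subgroup of M) is a Hall σ(M)-subgroup of M and also of G, and every Hall σ(M)-subgroup of M that is normal in M equals M_σ. -/
theorem result {G : Type*} [Group G] [Finite G] (hG : Cfsg.IsMinSimpleOddOrder G)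
    (M : Subgroup G) (hM : IsCoatom M) :
    Cfsg.IsPiHallOf (Cfsg.sigma M) (Cfsg.sigmaCore M) M ∧ Cfsg.IsPiHall (Cfsg.sigma M) (Cfsg.sigmaCore M) ∧
      ∀ N : Subgroup G, M ≤ Subgroup.normalizer (N : Set G) → Cfsg.IsPiHallOf (Cfsg.sigma M) N M →
        N = Cfsg.sigmaCore M := by
  have hfus : Fus M := fun p _ hp X hXp hX1 hXM =>
    (Cfsg.Agent.S1404.result hG M hM p hp X hXp hX1 hXM).1
  have hα := alpha_subset_sigma hG hM
  have hS : sigmaCore M = piCoreOf (sigma M) M := rfl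
  rw [hS]
  refine ⟨piCoreOf_isPiHallOf hG hM hfus hα subset_rfl,
    piCoreOf_isPiHall hG hM hfus hα subset_rfl, ?_⟩
  intro N hMN hN
  have h1 : N ≤ piCoreOf (sigma M) M := le_piCoreOf (sigma M) M N hN.1 hMN hN.2.1
  refine le_antisymm h1 ?_
  rw [← Subgroup.relIndex_eq_one]
  by_contra hne
  obtain ⟨r, hr, hrd⟩ := Nat.exists_prime_and_dvd hne
  have h2 : r ∈ sigma M :=
    piCoreOf_pi (sigma M) M r hr (hrd.trans (Subgroup.relIndex_dvd_card N _))
  have h3 : N.relIndex (piCoreOf (sigma M) M) ∣ N.relIndex M := by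
    rw [← Subgroup.relIndex_mul_relIndex N _ M h1 (piCoreOf_le (sigma M) M)]
    exact dvd_mul_right _ _
  exact hN.2.2 r hr h2 (hrd.trans h3)

end Cfsg.Agent.S1350
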