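import Cfsg.Statements.S1408
import Cfsg.Agent.Lib.Helper31.Bg10a

set_option autoImplicit false
open Cfsg

namespace Cfsg.Agent.S1408

open Cfsg.Agent.Lib.Helper31.Bg10 Cfsg.Agent.Lib.Helper55

/-- Let G be a minimal simple group of odd order, M a maximal subgroup, and p a prime not in σ(M) such that M has p-rank exactly 2. Then p is not an ideal prime for G, and every elementary abelian subgroup of M of order p ^ 2 is maximal among elementary abelian p-subgroups of G. -/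
theorem result {G : Type*} [Group G] [Finite G] (hG : Cfsg.IsMinSimpleOddOrder G)
    (M : Subgroup G) (hM : IsCoatom M) (p : ℕ) [Fact p.Prime] (hp : p ∉ Cfsg.sigma M) (hr2 : Cfsg.PRankLE p 2 M) (hr1 : ¬ Cfsg.PRankLE p 1 M) :
    ¬ Cfsg.IsIdealPrime p G ∧ ∀ A : Subgroup G, A ≤ M → Cfsg.IsElementaryAbelian p A → Nat.card A = p ^ 2 →
        ∀ B : Subgroup G, Cfsg.IsElementaryAbelian p B → A ≤ B → B = A := by
  have hpp : p.Prime := Fact.out
  have hb : ∀ A : Subgroup G, A ≤ M → Cfsg.IsElementaryAbelian p A → Nat.card A = p ^ 2 →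
        ∀ B : Subgroup G, Cfsg.IsElementaryAbelian p B → A ≤ B → B = A := by
    intro A hAM hA hAcard B hB hAB
    by_contra hne
    have hAU := uniq_of_lt_elemAb hG hA hAcard hB hAB hne
    have hA1 : A ≠ ⊥ := by
      rintro rfl
      rw [Subgroup.card_bot] at hAcard
      have := Nat.one_lt_pow (n := 2) (by norm_num) hpp.one_lt
      omega
    exact hp (mem_sigma_of_uniq hG hM hAM (isPGroup_of_pow_eq_one hA.2) hA1 hAU)
  refine ⟨?_, hb⟩
  intro hI
  obtain ⟨E, hEM, hEc, hEe, hE1⟩ := not_pRankLE_sub_iff.mp hr1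
  have hE2 : Nat.card E ≤ p ^ 2 := pRankLE_sub_iff.mp hr2 E hEM hEc hEe
  have hEp : IsPGroup p E := isPGroup_of_pow_eq_one hEe
  obtain ⟨n, hn⟩ := hEp.exists_card_eq
  have hEcard : Nat.card E = p ^ 2 := by
    rw [hn] at hE1 hE2 ⊢
    have h1 : 1 < n := (Nat.pow_lt_pow_iff_right hpp.one_lt).mp hE1
    have h2 : n ≤ 2 := (Nat.pow_le_pow_iff_right hpp.one_lt).mp hE2
    have : n = 2 := by omega
    rw [this]
  have hEel : IsElementaryAbelian p E :=
    ⟨⟨⟨fun a b => Subtype.ext (hEc a a.2 b b.2)⟩⟩, hEe⟩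
  obtain ⟨P, hEP⟩ := hEp.exists_le_sylow
  obtain ⟨B, -, hBel, hEB⟩ := hI.2.2 P E hEP hEel hEcard
  exact hEB.ne (hb E hEM hEel hEcard B hBel hEB.le).symm

end Cfsg.Agent.S1408
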