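import Cfsg.Statements.S1409
import Cfsg.Agent.S1408
import Cfsg.Agent.Lib.Helper31.Bg10b

set_option autoImplicit false
open Cfsg

namespace Cfsg.Agent.S1409

open Cfsg.Agent.Lib.Helper31.Bg10 Cfsg.Agent.Lib.Helper55

/-- Let G be a minimal simple group of odd order, M a maximal subgroup, p a prime not in σ(M), and X a subgroup of order p with N_G(X) ≤ M. Then M has p-rank exactly 2, p is not an ideal prime for G, and X is contained in some elementary abelian subgroup of G of order p ^ 2. -/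
theorem result {G : Type*} [Group G] [Finite G] (hG : Cfsg.IsMinSimpleOddOrder G)
    (M : Subgroup G) (hM : IsCoatom M) (p : ℕ) [Fact p.Prime] (hp : p ∉ Cfsg.sigma M) (X : Subgroup G) (hX : Nat.card X = p)
    (hNX : Subgroup.normalizer (X : Set G) ≤ M) :
    (Cfsg.PRankLE p 2 M ∧ ¬ Cfsg.PRankLE p 1 M) ∧ ¬ Cfsg.IsIdealPrime p G ∧
      ∃ A : Subgroup G, Cfsg.IsElementaryAbelian p A ∧ Nat.card A = p ^ 2 ∧ X ≤ A := by
  have hpp : p.Prime := Fact.out
  obtain ⟨A, hAM, hAel, hAcard, hXA⟩ := exists_elemAb_sq hp hX hNX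
  have hr2 : PRankLE p 2 M := by
    by_contra h
    exact hp (mem_sigma_of_rank_three hG hM h)
  have hAc : ∀ a ∈ A, ∀ b ∈ A, a * b = b * a := fun a ha b hb =>
    congrArg Subtype.val (hAel.1.is_comm.comm ⟨a, ha⟩ ⟨b, hb⟩)
  have hr1 : ¬ PRankLE p 1 M := by
    refine not_pRankLE_sub_iff.mpr ⟨A, hAM, hAc, hAel.2, ?_⟩
    rw [hAcard]
    exact Nat.pow_lt_pow_right hpp.one_lt (by norm_num)
  exact ⟨⟨hr2, hr1⟩, (Cfsg.Agent.S1408.result hG M hM p hp hr2 hr1).1, A, hAel, hAcard, hXA⟩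

end Cfsg.Agent.S1409
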