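import Cfsg.Statements.S0094
import Cfsg.Agent.Lib.Helper03.PGroupFrattini

set_option autoImplicit false
open Cfsg

namespace Cfsg.Agent.S0094

open Cfsg.Agent.Lib.Helper03
open scoped commutatorElement

lemma pow_mul_eq_of_central {P : Type*} [Group P] (a b c : P) (hc : c ∈ Subgroup.center P)
    (habc : a * b = c * b * a) (n : ℕ) : a ^ n * b = c ^ n * b * a ^ n := by
  rw [Subgroup.mem_center_iff] at hc
  induction n with
  | zero => simp
  | succ n ih =>
    calc a ^ (n + 1) * b = a * (a ^ n * b) := by rw [pow_succ']; group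
      _ = a * (c ^ n * b * a ^ n) := by rw [ih]
      _ = (a * c ^ n) * b * a ^ n := by group
      _ = (c ^ n * a) * b * a ^ n := by
        have : a * c ^ n = c ^ n * a := by
          have h1 : c ^ n ∈ Subgroup.center P := pow_mem (Subgroup.mem_center_iff.mpr hc) n
          exact (Subgroup.mem_center_iff.mp h1 a)
        rw [this]
      _ = c ^ n * (a * b) * a ^ n := by group
      _ = c ^ n * (c * b * a) * a ^ n := by rw [habc]
      _ = c ^ (n + 1) * b * a ^ (n + 1) := by rw [pow_succ, pow_succ']; group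

/-- In a special p-group every central element has order dividing p. -/
theorem result {P : Type*} [Group P] [Finite P] {p : ℕ} [Fact p.Prime] (h : Cfsg.IsSpecial p P) (z : P) (hz : z ∈ Subgroup.center P) : z ^ p = 1 := by
  obtain ⟨hP, hfr, hcomm⟩ := h
  rw [← hcomm, commutator_eq_closure] at hz
  suffices hh : z ∈ Subgroup.center P ∧ z ^ p = 1 from hh.2
  induction hz using Subgroup.closure_induction with
  | mem x hx =>
    obtain ⟨a, b, rfl⟩ := hx
    have hcen : ⁅a, b⁆ ∈ Subgroup.center P := by
      rw [← hcomm]; exact Subgroup.commutator_mem_commutator (Subgroup.mem_top a) (Subgroup.mem_top b)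
    refine ⟨hcen, ?_⟩
    have hab : a * b = ⁅a, b⁆ * b * a := by rw [commutatorElement_def]; group
    have h1 := pow_mul_eq_of_central a b ⁅a, b⁆ hcen hab p
    have hap : a ^ p ∈ Subgroup.center P := by
      rw [← hfr]; exact pow_mem_frattini_of_isPGroup hP a
    have h2 : a ^ p * b = b * a ^ p := (Subgroup.mem_center_iff.mp hap b).symm
    rw [h2] at h1
    have h3 : ⁅a, b⁆ ^ p * (b * a ^ p) = b * a ^ p := by rw [← mul_assoc]; exact h1.symm
    exact mul_eq_right.mp h3
  | one => exact ⟨Subgroup.one_mem _, one_pow p⟩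
  | mul x y _ _ hx hy =>
    refine ⟨mul_mem hx.1 hy.1, ?_⟩
    have hcommute : Commute x y := (Subgroup.mem_center_iff.mp hx.1 y).symm
    rw [hcommute.mul_pow, hx.2, hy.2, one_mul]
  | inv x _ hx =>
    exact ⟨inv_mem hx.1, by rw [inv_pow, hx.2, inv_one]⟩

end Cfsg.Agent.S0094
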