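import Mathlib
import Cfsg.Statements.S3736
import Cfsg.Agent.Lib.Helper66.AbelAct
import Cfsg.Agent.Lib.Helper32.Coprime
import Cfsg.Agent.Lib.Helper32.Class2
import Cfsg.Agent.Lib.Helper03.PGroupFrattini

set_option autoImplicit false
open Cfsg

namespace Cfsg.Agent.S3736

open Cfsg.Agent.Lib.Helper66
open scoped commutatorElement

/-- an element normalizing `H₁` and `H₂` normalizes `⁅H₁, H₂⁆` -/
theorem mem_normalizer_commutator {G : Type*} [Group G] (H₁ H₂ : Subgroup G) (g : G)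
    (h₁ : g ∈ Subgroup.normalizer (H₁ : Set G)) (h₂ : g ∈ Subgroup.normalizer (H₂ : Set G)) :
    g ∈ Subgroup.normalizer ((⁅H₁, H₂⁆ : Subgroup G) : Set G) := by
  have hmap : ∀ (Q : Subgroup G), g ∈ Subgroup.normalizer (Q : Set G) →
      Subgroup.map (MulAut.conj g).toMonoidHom Q = Q := by
    intro Q hg
    ext z
    constructor
    · rintro ⟨w, hw, rfl⟩
      exact (Subgroup.mem_normalizer_iff.mp hg w).mp hw
    · intro hz
      refine ⟨g⁻¹ * z * g, ?_, by simp [MulAut.conj_apply, mul_assoc]⟩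
      exact (Subgroup.mem_normalizer_iff.mp hg (g⁻¹ * z * g)).mpr (by simpa [mul_assoc] using hz)
  have hmap' : Subgroup.map (MulAut.conj g).toMonoidHom ⁅H₁, H₂⁆ = ⁅H₁, H₂⁆ := by
    rw [Subgroup.map_commutator, hmap H₁ h₁, hmap H₂ h₂]
  rw [Subgroup.mem_normalizer_iff]
  intro n
  constructor
  · intro hn
    rw [← hmap']
    exact ⟨n, hn, rfl⟩
  · intro hn
    rw [← hmap'] at hn
    obtain ⟨w, hw, hwn⟩ := hn
    have : w = n := by
      have h1 : g * w * g⁻¹ = g * n * g⁻¹ := hwn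
      exact mul_left_cancel (mul_right_cancel h1)
    exact this ▸ hw

theorem commutator_le_of_le_normalizer {G : Type*} [Group G] (P A : Subgroup G)
    (hAP : A ≤ Subgroup.normalizer (P : Set G)) : ⁅P, A⁆ ≤ P := by
  rw [Subgroup.commutator_le]
  intro x hx a ha
  have h1 : a * x⁻¹ * a⁻¹ ∈ P :=
    (Subgroup.mem_normalizer_iff.mp (hAP ha) _).mp (P.inv_mem hx)
  have : ⁅x, a⁆ = x * (a * x⁻¹ * a⁻¹) := by rw [commutatorElement_def]; group
  rw [this]
  exact P.mul_mem hx h1

/-- The Hall–Higman reduction for a minimal non-trivial action. Let B, A and P be subgroups of a finite group with P a p-group, B normalizing P, and A a normal subgroup of B of order prime to p. Suppose A does not centralize P but centralizes every proper B-invariant subgroup of P. Then [P, A] = P; P is elementary abelian or special; B acts irreducibly on P/Φ(P), that is, the only B-invariant subgroups of P containing Φ(P) are Φ(P) and P; and if p is odd then every element of P has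 order dividing p. -/
theorem result {X : Type*} [Group X] [Finite X] {p : ℕ} [Fact p.Prime] (B A P : Subgroup X) (hP : IsPGroup p P) (hBP : B ≤ Subgroup.normalizer (P : Set X)) (hAB : A ≤ B) (hAn : B ≤ Subgroup.normalizer (A : Set X)) (hAp : (Nat.card A).Coprime p) (hnt : ⁅P, A⁆ ≠ ⊥) (hmin : ∀ U : Subgroup X, U < P → B ≤ Subgroup.normalizer (U : Set X) → ⁅U, A⁆ = ⊥) : ⁅P, A⁆ = P ∧ (Cfsg.IsElementaryAbelian p P ∨ Cfsg.IsSpecial p ↥P) ∧ (∀ U : Subgroup X, (frattini ↥P).map P.subtype ≤ U → U ≤ P → B ≤ Subgroup.normalizer (U : Set X) → U = (frattini ↥P).map P.subtype ∨ U = P) ∧ (p ≠ 2 → ∀ x ∈ P, x ^ p = 1) := by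
  have hAP : A ≤ Subgroup.normalizer (P : Set X) := hAB.trans hBP
  have hcop : (Nat.card A).Coprime (Nat.card P) := by
    obtain ⟨k, hk⟩ := IsPGroup.iff_card.mp hP
    rw [hk]
    exact Nat.Coprime.pow_right _ hAp
  have hK_le : ⁅P, A⁆ ≤ P := commutator_le_of_le_normalizer P A hAP
  have hBK : B ≤ Subgroup.normalizer ((⁅P, A⁆ : Subgroup X) : Set X) := fun b hb =>
    mem_normalizer_commutator P A b (hBP hb) (hAn hb)
  -- G1
  have hG1 : ⁅P, A⁆ = P := by
    by_contra hne
    have hlt : ⁅P, A⁆ < P := lt_of_le_of_ne hK_le hne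
    have h1 := hmin _ hlt hBK
    have h2 : P ≤ Subgroup.centralizer (A : Set X) :=
      Cfsg.Agent.Lib.Helper32.le_centralizer_of_stable P ⁅P, A⁆ A le_rfl
        (Subgroup.commutator_eq_bot_iff_le_centralizer.mp h1) hK_le hcop
    exact hnt (Subgroup.commutator_eq_bot_iff_le_centralizer.mpr h2)
  have hPne : P ≠ ⊥ := by
    rintro rfl
    apply hnt
    rw [eq_bot_iff]
    exact hK_le
  have hB_char : ∀ (K : Subgroup ↥P) [K.Characteristic],
      B ≤ Subgroup.normalizer ((K.map P.subtype : Subgroup X) : Set X) := fun K _ =>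
    hBP.trans (normalizer_le_normalizer_map_of_characteristic P K)
  have hstar : ∀ U : Subgroup X, U < P → B ≤ Subgroup.normalizer (U : Set X) → U ≤ ⁅P, P⁆ :=
    fun U hU hBU => le_commutator_of_centralized P A U hAP hG1 hcop hU.le (hmin U hU hBU)
  set Φ : Subgroup X := (frattini ↥P).map P.subtype with hΦ
  have hP'Φ : ⁅P, P⁆ ≤ Φ := by
    rw [← Subgroup.map_subtype_commutator]
    exact Subgroup.map_mono (Cfsg.Agent.Lib.Helper03.commutator_le_frattini_of_isPGroup hP)
  have hΦle : Φ ≤ P := Subgroup.map_subtype_le _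
  have hΦlt : Φ < P := by
    refine lt_of_le_of_ne hΦle ?_
    intro heq
    have h1 : frattini ↥P = ⊤ := by
      apply Subgroup.map_injective P.subtype_injective
      rw [← hΦ, heq, ← MonoidHom.range_eq_map, Subgroup.range_subtype]
    have h2 : (⊥ : Subgroup ↥P) = ⊤ := frattini_nongenerating (by rw [h1, bot_sup_eq])
    apply hPne
    rw [eq_bot_iff]
    intro x hx
    have : (⟨x, hx⟩ : ↥P) ∈ (⊥ : Subgroup ↥P) := h2 ▸ Subgroup.mem_top _
    rw [Subgroup.mem_bot] at this
    rw [Subgroup.mem_bot]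
    exact congrArg Subtype.val this
  have hΦeq : Φ = ⁅P, P⁆ := le_antisymm (hstar Φ hΦlt (hB_char _)) hP'Φ
  have hpow : ∀ x ∈ P, x ^ p ∈ Φ := by
    intro x hx
    exact ⟨_, Cfsg.Agent.Lib.Helper03.pow_mem_frattini_of_isPGroup hP ⟨x, hx⟩, rfl⟩
  -- G3
  have hG3 : ∀ U : Subgroup X, Φ ≤ U → U ≤ P → B ≤ Subgroup.normalizer (U : Set X) →
      U = Φ ∨ U = P := by
    intro U hΦU hUP hBU
    by_cases hU : U = P
    · exact Or.inr hU
    · left
      have hlt : U < P := lt_of_le_of_ne hUP hU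
      exact le_antisymm (hΦeq ▸ hstar U hlt hBU) hΦU
  suffices hmain : (Cfsg.IsElementaryAbelian p P ∨ Cfsg.IsSpecial p ↥P) ∧
      (p ≠ 2 → ∀ x ∈ P, x ^ p = 1) from ⟨hG1, hmain.1, hG3, hmain.2⟩
  by_cases hab : ⁅P, P⁆ = ⊥
  · -- abelian case
    have hΦbot : Φ = ⊥ := by rw [hΦeq, hab]
    have hexp : ∀ x ∈ P, x ^ p = 1 := by
      intro x hx
      have := hpow x hx
      rwa [hΦbot, Subgroup.mem_bot] at this
    refine ⟨Or.inl ⟨?_, hexp⟩, fun _ => hexp⟩
    have hc : P ≤ Subgroup.centralizer (P : Set X) :=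
      Subgroup.commutator_eq_bot_iff_le_centralizer.mp hab
    refine ⟨⟨fun a b => ?_⟩⟩
    apply Subtype.ext
    have := (Subgroup.mem_centralizer_iff.mp (hc a.2)) b b.2
    exact this.symm
  · -- nonabelian case
    have hP'lt : ⁅P, P⁆ < P := hΦeq ▸ hΦlt
    have hP'A : ⁅⁅P, P⁆, A⁆ = ⊥ :=
      hmin _ hP'lt (hBP.trans (normalizer_le_normalizer_commutator P))
    have hPP' : ⁅P, ⁅P, P⁆⁆ = ⊥ := by
      have h1 : ⁅⁅A, ⁅P, P⁆⁆, P⁆ = ⊥ := by
        rw [Subgroup.commutator_comm A, hP'A, Subgroup.commutator_bot_left]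
      have h2 : ⁅⁅⁅P, P⁆, P⁆, A⁆ = ⊥ := by
        rw [eq_bot_iff, ← hP'A]
        exact Subgroup.commutator_mono (Subgroup.commutator_mono hP'lt.le le_rfl |>.trans
          (le_of_eq rfl)) le_rfl
      have h3 := Subgroup.commutator_commutator_eq_bot_of_rotate h1 h2
      rwa [hG1] at h3
    have hP'cent : ⁅P, P⁆ ≤ Subgroup.centralizer (P : Set X) := by
      rw [Subgroup.commutator_comm] at hPP'
      exact Subgroup.commutator_eq_bot_iff_le_centralizer.mp hPP'
    set Zp : Subgroup X := (Subgroup.center ↥P).map P.subtype with hZp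
    have hmemZ : ∀ z : X, z ∈ Zp ↔ z ∈ P ∧ ∀ y ∈ P, y * z = z * y := by
      intro z
      constructor
      · rintro ⟨w, hw, rfl⟩
        refine ⟨w.2, fun y hy => ?_⟩
        have := (Subgroup.mem_center_iff.mp hw) ⟨y, hy⟩
        exact congrArg Subtype.val this
      · rintro ⟨hz, hc⟩
        refine ⟨⟨z, hz⟩, ?_, rfl⟩
        rw [SetLike.mem_coe, Subgroup.mem_center_iff]
        intro y
        exact Subtype.ext (hc y y.2)
    have hP'Z : ⁅P, P⁆ ≤ Zp := by
      intro z hz
      rw [hmemZ]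
      exact ⟨hP'lt.le hz, fun y hy => (Subgroup.mem_centralizer_iff.mp (hP'cent hz)) y hy⟩
    have hZle : Zp ≤ P := Subgroup.map_subtype_le _
    have hZlt : Zp < P := by
      refine lt_of_le_of_ne hZle ?_
      intro heq
      apply hab
      rw [Subgroup.commutator_eq_bot_iff_le_centralizer]
      intro x hx
      rw [Subgroup.mem_centralizer_iff]
      intro y hy
      have hx' : x ∈ Zp := heq ▸ hx
      exact ((hmemZ x).mp hx').2 y hy
    have hBZ : B ≤ Subgroup.normalizer (Zp : Set X) := hB_char _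
    have hZeq : Zp = ⁅P, P⁆ := le_antisymm (hstar Zp hZlt hBZ) hP'Z
    have hspecial : Cfsg.IsSpecial p ↥P := by
      refine ⟨hP, ?_, ?_⟩
      · apply Subgroup.map_injective P.subtype_injective
        rw [← hΦ, ← hZp, hΦeq, hZeq]
      · apply Subgroup.map_injective P.subtype_injective
        rw [Subgroup.map_subtype_commutator, ← hZp, hZeq]
    refine ⟨Or.inr hspecial, ?_⟩
    intro hp2
    have hodd : Odd p := (Fact.out : p.Prime).odd_of_ne_two hp2
    have hZA : ⁅Zp, A⁆ = ⊥ := hmin Zp hZlt hBZ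
    have hZAc : Zp ≤ Subgroup.centralizer (A : Set X) :=
      Subgroup.commutator_eq_bot_iff_le_centralizer.mp hZA
    -- commutators are central
    have hcomm_central : ∀ x ∈ P, ∀ y ∈ P, ∀ w ∈ P, Commute ⁅y, x⁆ w := by
      intro x hx y hy w hw
      have h1 : ⁅y, x⁆ ∈ Zp := hP'Z (Subgroup.commutator_mem_commutator hy hx)
      exact (((hmemZ _).mp h1).2 w hw).symm
    have hpowZ : ∀ x ∈ P, x ^ p ∈ Zp := by
      intro x hx
      rw [hZeq, ← hΦeq]
      exact hpow x hx
    have hcp : ∀ x ∈ P, ∀ y ∈ P, ⁅y, x⁆ ^ p = 1 := by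
      intro x hx y hy
      rw [← Cfsg.Agent.Lib.Helper32.commutator_pow_left_of_central x y
        (hcomm_central x hx y hy y hy) p]
      rw [commutatorElement_eq_one_iff_mul_comm]
      exact (((hmemZ _).mp (hpowZ y hy)).2 x hx).symm
    have hmulpow : ∀ x ∈ P, ∀ y ∈ P, (x * y) ^ p = x ^ p * y ^ p := by
      intro x hx y hy
      exact Cfsg.Agent.Lib.Helper32.mul_pow_prime_of_central x y p hodd
        (hcomm_central x hx y hy x hx) (hcomm_central x hx y hy y hy) (hcp x hx y hy)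
    let Ω : Subgroup X :=
      { carrier := {x | x ∈ P ∧ x ^ p = 1}
        mul_mem' := by
          rintro a b ⟨ha, ha1⟩ ⟨hb, hb1⟩
          exact ⟨P.mul_mem ha hb, by rw [hmulpow a ha b hb, ha1, hb1, one_mul]⟩
        one_mem' := ⟨P.one_mem, one_pow p⟩
        inv_mem' := by
          rintro a ⟨ha, ha1⟩
          exact ⟨P.inv_mem ha, by rw [inv_pow, ha1, inv_one]⟩ }
    have hΩ : ⁅P, A⁆ ≤ Ω := by
      rw [Subgroup.commutator_le]
      intro x hx a ha
      have hy : a * x⁻¹ * a⁻¹ ∈ P :=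
        (Subgroup.mem_normalizer_iff.mp (hAP ha) _).mp (P.inv_mem hx)
      have heq : ⁅x, a⁆ = x * (a * x⁻¹ * a⁻¹) := by rw [commutatorElement_def]; group
      refine ⟨heq ▸ P.mul_mem hx hy, ?_⟩
      rw [heq, hmulpow x hx _ hy, conj_pow, inv_pow]
      have h1 : (x ^ p)⁻¹ ∈ Zp := Zp.inv_mem (hpowZ x hx)
      have h2 := (Subgroup.mem_centralizer_iff.mp (hZAc h1)) a ha
      rw [h2]
      group
    intro x hx
    have : x ∈ Ω := hΩ (by rw [hG1]; exact hx)
    exact this.2

end Cfsg.Agent.S3736
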