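import Cfsg.Statements.S3765
import Cfsg.Agent.Lib.Helper56.HHSpecial
import Cfsg.Agent.S3736

set_option autoImplicit false
set_option linter.style.haveILetI false
open Cfsg

namespace Cfsg.Agent.S3765

open Cfsg.Agent.Lib.Helper56.HH

/-- Let p, q, r be distinct primes and let X, Q, V be subgroups of a finite group with X of order r normalizing the q-group Q and acting faithfully on it (X ∩ C(Q) = 1), and V a nontrivial elementary abelian p-group normalized by X and Q on which XQ acts faithfully. If q = 2 and r has the form 2^n + 1, assume in addition that Q is abelian. Then C_V(X) ≠ 1. -/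
theorem result {G : Type*} [Group G] [Finite G] {p q r : ℕ} (hp : p.Prime) (hq : q.Prime) (hr : r.Prime) (hpq : p ≠ q) (hpr : p ≠ r) (hqr : q ≠ r) (X Q V : Subgroup G) (hX : Nat.card X = r) (hQ : IsPGroup q Q) (hXQ : X ≤ Subgroup.normalizer (Q : Set G)) (hXfaith : X ⊓ Subgroup.centralizer (Q : Set G) = ⊥) (hV : Cfsg.IsElementaryAbelian p V) (hV1 : V ≠ ⊥) (hXV : X ≤ Subgroup.normalizer (V : Set G)) (hQV : Q ≤ Subgroup.normalizer (V : Set G)) (hfaith : (X ⊔ Q) ⊓ Subgroup.centralizer (V : Set G) = ⊥) (hexc : q = 2 → (∃ n : ℕ, r = 2 ^ n + 1) → IsMulCommutative Q) : V ⊓ Subgroup.centralizer (X : Set G) ≠ ⊥ := by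
  classical
  haveI : Fact p.Prime := ⟨hp⟩
  haveI : Fact q.Prime := ⟨hq⟩
  haveI : Fact r.Prime := ⟨hr⟩
  haveI : IsCyclic X := isCyclic_of_prime_card hX
  obtain ⟨x, hx⟩ := IsCyclic.exists_generator (α := X)
  have hxr : (x : G) ^ r = 1 := by
    have h1 : x ^ Nat.card X = 1 := pow_card_eq_one'
    rw [hX] at h1
    have := congrArg Subtype.val h1
    simpa using this
  have hcentX : ∀ g : G, (x : G) * g = g * x → g ∈ Subgroup.centralizer (X : Set G) :=
    mem_centralizer_of_generator X x hx
  have hXpow : ∀ y ∈ X, ∃ k : ℤ, (x : G) ^ k = y := by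
    intro y hy
    obtain ⟨k, hk⟩ := Subgroup.mem_zpowers_iff.1 (hx ⟨y, hy⟩)
    refine ⟨k, ?_⟩
    have := congrArg Subtype.val hk
    simpa using this
  have hXnorm : ∀ U : Subgroup G, (x : G) ∈ Subgroup.normalizer (U : Set G) →
      X ≤ Subgroup.normalizer (U : Set G) := by
    intro U hU y hy
    obtain ⟨k, rfl⟩ := hXpow y hy
    exact Subgroup.zpow_mem _ hU k
  intro hCV
  have hCV' : ∀ v ∈ V, (x : G) * v = v * x → v = 1 := by
    intro v hv hxv
    have : v ∈ V ⊓ Subgroup.centralizer (X : Set G) := Subgroup.mem_inf.2 ⟨hv, hcentX v hxv⟩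
    rw [hCV, Subgroup.mem_bot] at this
    exact this
  -- a minimal `X`-invariant subgroup of `Q` not centralized by `X`
  let S : Set (Subgroup G) := {U | U ≤ Q ∧ X ≤ Subgroup.normalizer (U : Set G) ∧ ⁅U, X⁆ ≠ ⊥}
  have hQS : Q ∈ S := by
    refine ⟨le_rfl, hXQ, ?_⟩
    intro h
    rw [Subgroup.commutator_eq_bot_iff_le_centralizer, Subgroup.le_centralizer_iff] at h
    have hXbot : X = ⊥ := by
      rw [eq_bot_iff, ← hXfaith]
      exact le_inf le_rfl h
    rw [hXbot, Subgroup.card_bot] at hX
    exact hr.one_lt.ne' hX.symm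
  obtain ⟨P, hPS, hPmin⟩ := Set.exists_min_image S (fun U => Nat.card U) (Set.toFinite S) ⟨Q, hQS⟩
  obtain ⟨hPQ, hXP, hPX1⟩ := hPS
  have hPq : IsPGroup q P := hQ.to_le hPQ
  have hmin : ∀ U : Subgroup G, U < P → X ≤ Subgroup.normalizer (U : Set G) → ⁅U, X⁆ = ⊥ := by
    intro U hUP hXU
    by_contra hne
    have hUS : U ∈ S := ⟨hUP.le.trans hPQ, hXU, hne⟩
    have hle := hPmin U hUS
    have := Subgroup.eq_of_le_of_card_ge hUP.le hle
    exact hUP.ne this
  have hcopX : (Nat.card X).Coprime q := by
    rw [hX]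
    exact (Nat.coprime_primes hr hq).2 hqr.symm
  obtain ⟨hPXP, hdisj, hirr, -⟩ := Cfsg.Agent.S3736.result X X P hPq hXP le_rfl
    Subgroup.le_normalizer hcopX hPX1 hmin
  have hP1 : P ≠ ⊥ := by
    rintro rfl
    apply hPX1
    rw [eq_bot_iff]
    exact Subgroup.commutator_le_left ⊥ X |>.trans (by simp)
  have hxP : (x : G) ∈ Subgroup.normalizer (P : Set G) := hXP x.2
  have hxV : (x : G) ∈ Subgroup.normalizer (V : Set G) := hXV x.2
  have hPV : P ≤ Subgroup.normalizer (V : Set G) := hPQ.trans hQV
  have hPfaith : P ⊓ Subgroup.centralizer (V : Set G) = ⊥ := by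
    rw [eq_bot_iff, ← hfaith]
    exact inf_le_inf_right _ (hPQ.trans le_sup_right)
  -- `x` does not centralize `P`
  have hPXne : ∃ e ∈ P, (x : G) * e ≠ e * x := by
    by_contra hcon
    push Not at hcon
    apply hPX1
    rw [Subgroup.commutator_eq_bot_iff_le_centralizer]
    intro e he
    exact hcentX e (hcon e he)
  have hVc : ∀ a ∈ V, ∀ b ∈ V, a * b = b * a := by
    intro a ha b hb
    have := hV.1.is_comm.comm ⟨a, ha⟩ ⟨b, hb⟩
    exact congrArg Subtype.val this
  rcases hdisj with hel | hsp
  · -- elementary abelian case: a Frobenius group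
    have hfr : frattini ↥P = ⊥ := by
      rw [eq_bot_iff]
      apply Cfsg.Agent.Lib.Helper72.frattini_le_of_elementary_quotient q
      · intro a
        rw [Subgroup.mem_bot]
        exact Subtype.ext (by simpa using hel.2 a a.2)
      · intro a b
        rw [Subgroup.mem_bot, commutatorElement_eq_one_iff_commute]
        exact hel.1.is_comm.comm a b
    have hCP : ∀ a ∈ P, (x : G) * a = a * x → a = 1 := by
      intro a ha hxa
      set U₀ : Subgroup G := P ⊓ Subgroup.centralizer (X : Set G) with hU₀
      have h1 : (frattini ↥P).map P.subtype ≤ U₀ := by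
        rw [hfr, Subgroup.map_bot]
        exact bot_le
      have h3 : X ≤ Subgroup.normalizer (U₀ : Set G) := by
        apply le_normalizer_of_conj_mem
        intro y hy u hu
        have := Subgroup.mem_centralizer_iff.1 hu.2 y hy
        have h4 : y * u * y⁻¹ = u := by rw [this]; group
        rw [h4]
        exact hu
      rcases hirr U₀ h1 inf_le_left h3 with h | h
      · have : a ∈ U₀ := Subgroup.mem_inf.2 ⟨ha, hcentX a hxa⟩
        rw [h, hfr, Subgroup.map_bot, Subgroup.mem_bot] at this
        exact this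
      · exfalso
        obtain ⟨e, he, hne⟩ := hPXne
        have : e ∈ U₀ := by rw [h]; exact he
        exact hne (Subgroup.mem_centralizer_iff.1 this.2 x x.2)
    have hcop : (Nat.card P).Coprime (Nat.card V) := by
      obtain ⟨a, ha⟩ := (IsPGroup.iff_card).1 hPq
      have hVp : IsPGroup p V := by
        intro v
        refine ⟨1, ?_⟩
        rw [pow_one]
        exact Subtype.ext (by simpa using hV.2 v v.2)
      obtain ⟨b, hb⟩ := (IsPGroup.iff_card).1 hVp
      rw [ha, hb]
      exact Nat.Coprime.pow a b ((Nat.coprime_primes hq hp).2 hpq.symm)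
    have hPC := frobenius_sub P V x r hr hxr hxP hxV hPV hVc hcop hCP hCV'
    apply hP1
    rw [eq_bot_iff, ← hPfaith]
    exact le_inf le_rfl hPC
  · -- special case
    have hres := special_fixed_point_free p q r hr hpq.symm hpr.symm hqr P V x hsp hP1 hxP hxr
      (by
        intro z hz
        -- `X` centralizes the proper invariant subgroup `Z(P)`
        set Z : Subgroup G := (Subgroup.center ↥P).map P.subtype with hZ
        have hZP : Z ≤ P := Subgroup.map_subtype_le _
        have hZne : Z ≠ P := by
          intro h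
          -- then `P` is abelian, so `P' = 1 = Z(P)`
          have htop : Subgroup.center ↥P = ⊤ := by
            rw [eq_top_iff]
            intro a _
            have : (a : G) ∈ Z := by rw [h]; exact a.2
            obtain ⟨a', ha', haa'⟩ := this
            have : a' = a := Subtype.ext haa'
            rw [← this]; exact ha'
          have h1 : commutator ↥P = ⊥ := (commutator_eq_bot_iff_center_eq_top ↥P).2 htop
          rw [hsp.2.2, htop] at h1
          apply hP1
          rw [eq_bot_iff]
          intro a ha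
          have : (⟨a, ha⟩ : ↥P) ∈ (⊤ : Subgroup ↥P) := Subgroup.mem_top _
          rw [h1, Subgroup.mem_bot] at this
          rw [Subgroup.mem_bot]
          exact congrArg Subtype.val this
        have hXZ : X ≤ Subgroup.normalizer (Z : Set G) := by
          apply le_normalizer_of_conj_mem
          rintro y hy _ ⟨c, hc, rfl⟩
          have hyP := hXP hy
          have hconj : y * (c : G) * y⁻¹ ∈ P := (Subgroup.mem_normalizer_iff.1 hyP c).1 c.2
          refine ⟨⟨y * c * y⁻¹, hconj⟩, ?_, rfl⟩
          show (⟨y * c * y⁻¹, hconj⟩ : ↥P) ∈ Subgroup.center ↥P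
          rw [Subgroup.mem_center_iff]
          intro g
          have hg' : y⁻¹ * (g : G) * y ∈ P := by
            have := (Subgroup.mem_normalizer_iff.1 (inv_mem hyP) g).1 g.2
            simpa using this
          have h2 := Subgroup.mem_center_iff.1 hc ⟨y⁻¹ * g * y, hg'⟩
          have h3 : (y⁻¹ * (g : G) * y) * c = c * (y⁻¹ * g * y) := congrArg Subtype.val h2
          apply Subtype.ext
          show (g : G) * (y * c * y⁻¹) = (y * c * y⁻¹) * g
          calc (g : G) * (y * c * y⁻¹) = y * ((y⁻¹ * g * y) * c) * y⁻¹ := by group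
            _ = y * (c * (y⁻¹ * g * y)) * y⁻¹ := by rw [h3]
            _ = (y * c * y⁻¹) * g := by group
        have h4 := hmin Z (lt_of_le_of_ne hZP hZne) hXZ
        rw [Subgroup.commutator_eq_bot_iff_le_centralizer] at h4
        have hzZ : (z : G) ∈ Z := ⟨z, hz, rfl⟩
        exact Subgroup.mem_centralizer_iff.1 (h4 hzZ) x x.2)
      (by
        intro U h1 h2 h3
        rw [← hsp.2.1]
        rw [← hsp.2.1] at h1
        exact hirr U h1 h2 (hXnorm U h3))
      hPXne hVc hV.2 hPV hxV hPfaith hCV'
    have hQc := hexc hres.1 hres.2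
    -- then `P` is abelian, hence trivial
    have htop : Subgroup.center ↥P = ⊤ := by
      rw [eq_top_iff]
      intro a _
      rw [Subgroup.mem_center_iff]
      intro g
      have := hQc.is_comm.comm ⟨g, hPQ g.2⟩ ⟨a, hPQ a.2⟩
      have h5 : (g : G) * a = a * g := congrArg Subtype.val this
      exact Subtype.ext h5
    have h1 : commutator ↥P = ⊥ := (commutator_eq_bot_iff_center_eq_top ↥P).2 htop
    rw [hsp.2.2, htop] at h1
    apply hP1
    rw [eq_bot_iff]
    intro a ha
    have : (⟨a, ha⟩ : ↥P) ∈ (⊤ : Subgroup ↥P) := Subgroup.mem_top _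
    rw [h1, Subgroup.mem_bot] at this
    rw [Subgroup.mem_bot]
    exact congrArg Subtype.val this

end Cfsg.Agent.S3765
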