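import Mathlib
import Cfsg.Statements.S1459
import Cfsg.Agent.Lib.Helper32.Supplement
import Cfsg.Agent.Lib.Helper32.HallComm
import Cfsg.Agent.Lib.Helper32.NilpDerived

set_option autoImplicit false
open Cfsg
open scoped commutatorElement

namespace Cfsg.Agent.S1459

open Cfsg.Agent.Lib.Helper32

theorem partA {G : Type*} [Group G] [Finite G] [Group.IsSolvable G] (H K : Subgroup G)
    (hHn : H.Normal) (hcop : (Nat.card H).Coprime H.index) (hc : Subgroup.IsComplement' H K)
    (hHG : H ≤ commutator G) :
    H = ⁅H, K⁆ ∧ H ⊓ Subgroup.centralizer (K : Set G) ≤ ⁅H, H⁆ := by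
  have hsup : K ⊔ H = ⊤ := by rw [sup_comm]; exact hc.sup_eq_top
  have hdec : ∀ g : G, ∃ k ∈ K, ∃ h ∈ H, g = k * h := exists_mul_of_sup_eq_top K H hsup
  refine ⟨?_, inf_centralizer_le_commutator H K hcop hdec hHG⟩
  have hNn : (⁅H, K⁆ : Subgroup G).Normal := by
    rw [← Subgroup.normalizer_eq_top_iff, eq_top_iff, ← hc.sup_eq_top]
    exact sup_le (Subgroup.normalizer_commutator_ge_left H K)
      (Subgroup.normalizer_commutator_ge_right H K)
  have h1 : H ≤ ⁅H, K⁆ ⊔ ⁅H, H⁆ :=
    (le_focalSubgroup_of_le_commutator H hcop hHG).trans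
      ((focalSubgroup_le_commutator_top H).trans (commutator_top_le_of_decomp H K hdec))
  exact le_antisymm (le_of_le_sup_commutator H ⁅H, K⁆ h1) (Subgroup.commutator_le_left H K)

/-- Let G be a finite solvable group. (a) If H is a normal subgroup of order coprime to its index, K is a complement to H, and H ≤ G', then H = [H, K] and H ∩ C_G(K) ≤ [H, H]. (b) If G' is nilpotent and has prime index in G, then the order of G' is coprime to its index and G' = [G, K] (the subgroup generated by commutators of elements of G with elements of K) for every complement K of G'. -/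
theorem result {G : Type*} [Group G] [Finite G] [Group.IsSolvable G] :
    (∀ (H K : Subgroup G), H.Normal → (Nat.card H).Coprime H.index → Subgroup.IsComplement' H K → H ≤ commutator G →
        H = ⁅H, K⁆ ∧ H ⊓ Subgroup.centralizer (K : Set G) ≤ ⁅H, H⁆) ∧
      (Group.IsNilpotent ↥(commutator G) → (commutator G).index.Prime →
        (Nat.card ↥(commutator G)).Coprime (commutator G).index ∧
        ∀ K : Subgroup G, Subgroup.IsComplement' (commutator G) K → commutator G = ⁅(⊤ : Subgroup G), K⁆) := by
  refine ⟨fun H K hHn hcop hc hHG => partA H K hHn hcop hc hHG, ?_⟩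
  intro hnil hq
  have hcop := card_commutator_coprime_index hnil hq
  refine ⟨hcop, ?_⟩
  intro K hK
  have h1 := (partA (commutator G) K inferInstance hcop hK le_rfl).1
  apply le_antisymm
  · calc commutator G = ⁅commutator G, K⁆ := h1
      _ ≤ ⁅(⊤ : Subgroup G), K⁆ := Subgroup.commutator_mono le_top le_rfl
  · rw [commutator_def]
    exact Subgroup.commutator_mono le_rfl le_top

end Cfsg.Agent.S1459
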