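import Cfsg.Statements.S0065

set_option autoImplicit false
open Cfsg
open scoped commutatorElement

namespace Cfsg.Agent.S0065

/-- A nontrivial normal subgroup of a nilpotent group intersects the centre nontrivially. -/
theorem result {G : Type*} [Group G] [Finite G] [Group.IsNilpotent G]
    (N : Subgroup G) [N.Normal] (hN : N ≠ ⊥) : N ⊓ Subgroup.center G ≠ ⊥ := by
  intro hZ
  have key : ∀ n : ℕ, N ⊓ Subgroup.upperCentralSeries G n = ⊥ := by
    intro n
    induction n with
    | zero => simp
    | succ n ih =>
      rw [eq_bot_iff]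
      intro x hx
      obtain ⟨hxN, hxZ⟩ := Subgroup.mem_inf.mp hx
      rw [Subgroup.mem_upperCentralSeries_succ_iff] at hxZ
      have hc : ∀ y : G, ⁅x, y⁆ = 1 := by
        intro y
        have h1 : ⁅x, y⁆ ∈ N := by
          rw [commutatorElement_def]
          have h2 : y * x⁻¹ * y⁻¹ ∈ N := ‹N.Normal›.conj_mem _ (N.inv_mem hxN) y
          have h3 : x * (y * x⁻¹ * y⁻¹) ∈ N := N.mul_mem hxN h2
          simpa [mul_assoc] using h3
        have h4 : ⁅x, y⁆ ∈ N ⊓ Subgroup.upperCentralSeries G n := Subgroup.mem_inf.mpr ⟨h1, hxZ y⟩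
        rw [ih] at h4
        exact Subgroup.mem_bot.mp h4
      have hxc : x ∈ Subgroup.center G := by
        rw [Subgroup.mem_center_iff]
        intro y
        have := hc y
        rw [commutatorElement_eq_one_iff_mul_comm] at this
        exact this.symm
      have : x ∈ N ⊓ Subgroup.center G := Subgroup.mem_inf.mpr ⟨hxN, hxc⟩
      rw [hZ] at this
      exact this
  obtain ⟨n, hn⟩ := Group.IsNilpotent.nilpotent G
  have := key n
  rw [hn, inf_top_eq] at this
  exact hN this

end Cfsg.Agent.S0065
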