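import Cfsg.Statements.S0029
import Cfsg.Agent.Lib.Helper01.Coprime

set_option autoImplicit false
open Cfsg

namespace Cfsg.Agent.S0029

open Cfsg.Agent.Lib.Helper01 in
/-- An action that is trivial on the Frattini quotient and coprime on the Frattini subgroup is trivial: if A normalises K, the orders of A and of the Frattini subgroup of K are coprime, and every commutator of an element of A with an element of K lies in the Frattini subgroup of K, then A centralises K. -/
theorem result {G : Type*} [Group G] [Finite G] (A K : Subgroup G)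
    (hAK : A ≤ Subgroup.normalizer (K : Set G))
    (hcop : (Nat.card A).Coprime (Nat.card (frattini K)))
    (htriv : ∀ a ∈ A, ∀ k ∈ K, a * k * a⁻¹ * k⁻¹ ∈ (frattini K).map K.subtype) :
    A ≤ Subgroup.centralizer (K : Set G) := by
  set Φ : Subgroup G := (frattini K).map K.subtype with hΦ
  have hΦK : Φ ≤ K := Subgroup.map_subtype_le _
  have hΦcard : Nat.card Φ = Nat.card (frattini K) :=
    Subgroup.card_map_of_injective K.subtype_injective
  have hAΦ : A ≤ Subgroup.normalizer (Φ : Set G) := by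
    rw [Subgroup.le_normalizer_iff]
    intro a ha φ hφ
    have := Φ.mul_mem (htriv a ha φ (hΦK hφ)) hφ
    simpa using this
  have hcopΦ : (Nat.card Φ).Coprime (Nat.card A) := by rw [hΦcard]; exact hcop.symm
  have hsolvΦ : Group.IsSolvable Φ := by
    have h1 : Group.IsNilpotent (frattini K) := frattini_nilpotent
    have h2 : Group.IsSolvable (frattini K) := inferInstance
    let e : frattini K ≃* Φ := Subgroup.equivMapOfInjective _ _ K.subtype_injective
    exact Group.isSolvable_of_surjective (f := e.toMonoidHom) e.surjective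
  have hdisj : Φ ⊓ A = ⊥ := (Subgroup.disjoint_of_coprime_natCard hcopΦ).eq_bot
  -- every element of K is a product of a fixed point and an element of Φ
  have hfac : ∀ k ∈ K, ∃ c ∈ K ⊓ Subgroup.centralizer (A : Set G), ∃ n ∈ Φ, k = c * n := by
    intro k hk
    have hk' : ∀ a ∈ A, k⁻¹ * a * k * a⁻¹ ∈ Φ := by
      intro a ha
      have := Φ.inv_mem (htriv a ha k⁻¹ (K.inv_mem hk))
      have h2 : (a * k⁻¹ * a⁻¹ * k⁻¹⁻¹)⁻¹ = k⁻¹ * a * k * a⁻¹ := by group
      rwa [h2] at this
    obtain ⟨n, hn, hnA⟩ := exists_mul_inv_normalizes hAΦ hcopΦ (Or.inl hsolvΦ) k hk'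
    have hcK : n * k⁻¹ ∈ K := K.mul_mem (hΦK hn) (K.inv_mem hk)
    have hcent : n * k⁻¹ ∈ Subgroup.centralizer (A : Set G) := by
      rw [Subgroup.mem_centralizer_iff]
      intro a ha
      set c := n * k⁻¹ with hc
      have h1 : c * a * c⁻¹ ∈ A := by
        rw [← hnA]
        exact ⟨a, ha, rfl⟩
      have h2 : c * a * c⁻¹ * a⁻¹ ∈ A := A.mul_mem h1 (A.inv_mem ha)
      have h3 : c * a * c⁻¹ * a⁻¹ ∈ Φ := by
        have := Φ.inv_mem (htriv a ha c hcK)
        have h4 : (a * c * a⁻¹ * c⁻¹)⁻¹ = c * a * c⁻¹ * a⁻¹ := by group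
        rwa [h4] at this
      have h4 : c * a * c⁻¹ * a⁻¹ ∈ Φ ⊓ A := Subgroup.mem_inf.mpr ⟨h3, h2⟩
      rw [hdisj, Subgroup.mem_bot] at h4
      calc a * c = (c * a * c⁻¹ * a⁻¹) * (a * c) := by rw [h4, one_mul]
        _ = c * a := by group
    refine ⟨(n * k⁻¹)⁻¹, Subgroup.mem_inf.mpr ⟨K.inv_mem hcK, Subgroup.inv_mem _ hcent⟩, n, hn, ?_⟩
    group
  -- nongenerating property
  set C' : Subgroup K := (K ⊓ Subgroup.centralizer (A : Set G)).subgroupOf K with hC'
  have htop : C' ⊔ frattini K = ⊤ := by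
    rw [eq_top_iff]
    rintro ⟨k, hk⟩ -
    obtain ⟨c, hc, n, hn, hkcn⟩ := hfac k hk
    obtain ⟨φ, hφ, hφn⟩ := hn
    have hcK : c ∈ K := (Subgroup.mem_inf.mp hc).1
    have : (⟨k, hk⟩ : K) = ⟨c, hcK⟩ * φ := by
      apply Subtype.ext
      simp only [Subgroup.coe_mul]
      rw [hkcn, ← hφn]
      rfl
    rw [this]
    exact Subgroup.mul_mem_sup (Subgroup.mem_subgroupOf.mpr hc) hφ
  have hC'top := frattini_nongenerating htop
  have hKC : K ≤ Subgroup.centralizer (A : Set G) := by
    intro k hk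
    have : (⟨k, hk⟩ : K) ∈ C' := by rw [hC'top]; exact Subgroup.mem_top _
    exact (Subgroup.mem_inf.mp (Subgroup.mem_subgroupOf.mp this)).2
  exact Subgroup.le_centralizer_iff.mp hKC

end Cfsg.Agent.S0029
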