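import Mathlib
import Cfsg.Statements.S1461
import Cfsg.Agent.Lib.Helper32.PLengthOne

set_option autoImplicit false
open Cfsg
open scoped commutatorElement Pointwise

namespace Cfsg.Agent.S1461

open Cfsg.Agent.Lib.Helper32

/-- if `k ∈ K` (normal, meeting `S` trivially), `y ∈ S` and `k y k⁻¹ ∈ S` then `k` commutes with `y`. -/
theorem commute_of_conj_mem {G : Type*} [Group G] (K S : Subgroup G) [K.Normal] (hKS : K ⊓ S = ⊥)
    (k y : G) (hk : k ∈ K) (hy : y ∈ S) (hc : k * y * k⁻¹ ∈ S) : y * k = k * y := by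
  have h1 : y⁻¹ * (k * y * k⁻¹) ∈ S := mul_mem (inv_mem hy) hc
  have h2 : y⁻¹ * (k * y * k⁻¹) ∈ K := by
    have : y⁻¹ * (k * y * k⁻¹) = (y⁻¹ * k * y⁻¹⁻¹) * k⁻¹ := by group
    rw [this]
    exact mul_mem (Subgroup.Normal.conj_mem inferInstance k hk y⁻¹) (inv_mem hk)
  have h3 : y⁻¹ * (k * y * k⁻¹) ∈ K ⊓ S := ⟨h2, h1⟩
  rw [hKS, Subgroup.mem_bot] at h3
  have : k * y * k⁻¹ = y := by
    rw [← mul_right_inj y⁻¹, h3, inv_mul_cancel]
  calc y * k = (k * y * k⁻¹) * k := by rw [this]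
    _ = k * y := by group

/-- Let G be a finite solvable group, p a prime with G = O_{p',p,p'}(G), and S a Sylow p-subgroup. Then: if S ≤ G' then S ≤ [N_G(S), N_G(S)]; if Y ⊆ S and xYx⁻¹ ⊆ S then x = g c for some g ∈ N_G(S) and c centralizing Y; and for every p-subgroup Q there is x ∈ C_G(Q ∩ S) with xQx⁻¹ ≤ S. -/
theorem result {G : Type*} [Group G] [Finite G] [Group.IsSolvable G] (p : ℕ) [Fact p.Prime] (hpl : Cfsg.PLengthLE p 1 G) (S : Sylow p G) :
    ((S : Subgroup G) ≤ commutator G → (S : Subgroup G) ≤ ⁅Subgroup.normalizer ((S : Subgroup G) : Set G), Subgroup.normalizer ((S : Subgroup G) : Set G)⁆) ∧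
      (∀ (Y : Set G) (x : G), Y ⊆ (S : Subgroup G) → (fun y => x * y * x⁻¹) '' Y ⊆ (S : Subgroup G) →
        ∃ g ∈ Subgroup.normalizer ((S : Subgroup G) : Set G), ∃ c ∈ Subgroup.centralizer Y, g * c = x) ∧
      ∀ Q : Subgroup G, IsPGroup p Q → ∃ x ∈ Subgroup.centralizer ((Q ⊓ (S : Subgroup G) : Subgroup G) : Set G), Q.map (MulAut.conj x).toMonoidHom ≤ (S : Subgroup G) := by
  obtain ⟨K, hK, hKc, hdec⟩ := exists_normalizer_mul_of_pLengthLE_one p hpl S
  have hKS : K ⊓ (S : Subgroup G) = ⊥ := by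
    apply disjoint_iff.1
    apply Subgroup.disjoint_of_coprime_natCard
    obtain ⟨j, hj⟩ := IsPGroup.iff_card.1 S.2
    rw [hj]
    exact Nat.Coprime.pow_right _ hKc
  set N := Subgroup.normalizer ((S : Subgroup G) : Set G) with hN
  refine ⟨?_, ?_, ?_⟩
  · intro hSG
    have hcomm : commutator G ≤ K ⊔ ⁅N, N⁆ := by
      rw [commutator_eq_closure, Subgroup.closure_le]
      rintro _ ⟨g₁, g₂, rfl⟩
      obtain ⟨n₁, hn₁, k₁, hk₁, rfl⟩ := hdec g₁
      obtain ⟨n₂, hn₂, k₂, hk₂, rfl⟩ := hdec g₂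
      have hπ : ∀ n k : G, k ∈ K → (QuotientGroup.mk' K) (n * k) = (QuotientGroup.mk' K) n := by
        intro n k hk
        have : (QuotientGroup.mk' K) k = 1 := by
          rw [QuotientGroup.mk'_apply]; exact (QuotientGroup.eq_one_iff k).2 hk
        rw [map_mul, this, mul_one]
      have h1 : (QuotientGroup.mk' K) ⁅n₁ * k₁, n₂ * k₂⁆ = (QuotientGroup.mk' K) ⁅n₁, n₂⁆ := by
        rw [map_commutatorElement, map_commutatorElement, hπ n₁ k₁ hk₁, hπ n₂ k₂ hk₂]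
      have h2 : ⁅n₁, n₂⁆⁻¹ * ⁅n₁ * k₁, n₂ * k₂⁆ ∈ K := by
        rw [← QuotientGroup.eq]
        exact h1.symm
      have h3 : ⁅n₁ * k₁, n₂ * k₂⁆ = ⁅n₁, n₂⁆ * (⁅n₁, n₂⁆⁻¹ * ⁅n₁ * k₁, n₂ * k₂⁆) := by group
      rw [SetLike.mem_coe, h3]
      exact mul_mem (Subgroup.mem_sup_right (Subgroup.commutator_mem_commutator hn₁ hn₂))
        (Subgroup.mem_sup_left h2)
    intro s hs
    have hs1 : s ∈ K ⊔ ⁅N, N⁆ := hcomm (hSG hs)
    rw [← SetLike.mem_coe, Subgroup.normal_mul] at hs1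
    obtain ⟨k, hk, m, hm, rfl⟩ := Set.mem_mul.1 hs1
    have hmN : m ∈ N := Subgroup.commutator_le_self N hm
    have hsN : k * m ∈ N := Subgroup.le_normalizer hs
    have hkN : k ∈ N := by
      have := mul_mem hsN (inv_mem hmN)
      rwa [mul_inv_cancel_right] at this
    have hm' : (⟨m, hmN⟩ : N) ∈ commutator N := by
      rw [← Subgroup.map_subtype_commutator] at hm
      obtain ⟨m', hm', hmm⟩ := hm
      have : m' = ⟨m, hmN⟩ := Subtype.ext hmm
      rwa [this] at hm'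
    have hφ : Abelianization.of (⟨k * m, hsN⟩ : N) = Abelianization.of (⟨k, hkN⟩ : N) := by
      have h1 : (⟨k * m, hsN⟩ : N) = ⟨k, hkN⟩ * ⟨m, hmN⟩ := rfl
      have h2 : Abelianization.of (⟨m, hmN⟩ : N) = 1 := by
        rw [← MonoidHom.mem_ker, Abelianization.ker_of]; exact hm'
      rw [h1, map_mul, h2, mul_one]
    have ho1 : orderOf (Abelianization.of (⟨k * m, hsN⟩ : N)) ∣ orderOf (k * m) := by
      have := orderOf_map_dvd (Abelianization.of (G := N)) (⟨k * m, hsN⟩ : N)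
      rwa [← Subgroup.orderOf_coe] at this
    have ho2 : orderOf (Abelianization.of (⟨k, hkN⟩ : N)) ∣ orderOf k := by
      have := orderOf_map_dvd (Abelianization.of (G := N)) (⟨k, hkN⟩ : N)
      rwa [← Subgroup.orderOf_coe] at this
    obtain ⟨j, hj⟩ := IsPGroup.iff_card.1 S.2
    have ho3 : orderOf (k * m) ∣ p ^ j := by
      rw [← hj]
      have : orderOf (⟨k * m, hs⟩ : (S : Subgroup G)) ∣ Nat.card (S : Subgroup G) := orderOf_dvd_natCard _
      rwa [← Subgroup.orderOf_coe] at this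
    have ho4 : orderOf k ∣ Nat.card K := by
      have : orderOf (⟨k, hk⟩ : K) ∣ Nat.card K := orderOf_dvd_natCard _
      rwa [← Subgroup.orderOf_coe] at this
    have hcop : (p ^ j).Coprime (Nat.card K) := Nat.Coprime.pow_left _ hKc.symm
    have ho5 : orderOf (Abelianization.of (⟨k * m, hsN⟩ : N)) = 1 :=
      Nat.eq_one_of_dvd_coprimes hcop (ho1.trans ho3) (hφ ▸ ho2.trans ho4)
    rw [orderOf_eq_one_iff, ← MonoidHom.mem_ker, Abelianization.ker_of] at ho5
    rw [← Subgroup.map_subtype_commutator]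
    exact ⟨_, ho5, rfl⟩
  · intro Y x hY hxY
    obtain ⟨n, hn, k, hk, rfl⟩ := hdec x
    refine ⟨n, hn, k, ?_, rfl⟩
    rw [Subgroup.mem_centralizer_iff]
    intro y hy
    apply commute_of_conj_mem K S hKS k y hk (hY hy)
    have h1 : (n * k) * y * (n * k)⁻¹ ∈ (S : Subgroup G) := hxY ⟨y, hy, rfl⟩
    have h2 : n⁻¹ ∈ N := inv_mem hn
    have h3 := (h2 ((n * k) * y * (n * k)⁻¹)).1 h1
    have : n⁻¹ * (n * k * y * (n * k)⁻¹) * n⁻¹⁻¹ = k * y * k⁻¹ := by group
    rw [this] at h3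
    exact h3
  · intro Q hQ
    obtain ⟨P, hP⟩ := hQ.exists_le_sylow
    obtain ⟨g, hg⟩ := MulAction.exists_smul_eq G P S
    -- g • P = S
    obtain ⟨n, hn, k, hk, hgnk⟩ := hdec g
    have hkQ : ∀ q ∈ Q, k * q * k⁻¹ ∈ (S : Subgroup G) := by
      intro q hq
      have h1 : g * q * g⁻¹ ∈ (S : Subgroup G) := by
        have hS : (S : Subgroup G) = MulAut.conj g • (P : Subgroup G) := by rw [← hg]; rfl
        rw [hS]
        have := Subgroup.smul_mem_pointwise_smul q (MulAut.conj g) (P : Subgroup G) (hP hq)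
        rwa [MulAut.smul_def, MulAut.conj_apply] at this
      have h2 : n⁻¹ ∈ N := inv_mem hn
      have h3 := (h2 (g * q * g⁻¹)).1 h1
      have : n⁻¹ * (g * q * g⁻¹) * n⁻¹⁻¹ = k * q * k⁻¹ := by rw [hgnk]; group
      rw [this] at h3
      exact h3
    refine ⟨k, ?_, ?_⟩
    · rw [Subgroup.mem_centralizer_iff]
      intro y hy
      exact commute_of_conj_mem K S hKS k y hk hy.2 (hkQ y hy.1)
    · rintro _ ⟨q, hq, rfl⟩
      exact hkQ q hq

end Cfsg.Agent.S1461
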