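import Cfsg.Statements.S0063
import Mathlib

set_option autoImplicit false
open Cfsg

namespace Cfsg.Agent.S0063

universe u

theorem aux (p : ℕ) [Fact p.Prime] : ∀ (m : ℕ) (G : Type u) [Group G] [Finite G],
    Nat.card G = p ^ m → 1 < m → Group.nilpotencyClass G ≤ m - 1 := by
  intro m
  induction m using Nat.strong_induction_on with
  | _ m ih =>
    intro G _ _ hG hm
    have hp : p.Prime := Fact.out
    have hPG : IsPGroup p G := IsPGroup.of_card hG
    haveI : Group.IsNilpotent G := hPG.isNilpotent
    by_cases hcomm : IsMulCommutative G
    · have := (Group.IsNilpotent.nilpotencyClass_le_one_iff (G := G)).mpr hcomm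
      omega
    · haveI : Nontrivial G := by
        rw [← Finite.one_lt_card_iff_nontrivial, hG]
        exact Nat.one_lt_pow (by omega) hp.one_lt
      obtain ⟨k, hk⟩ := IsPGroup.exists_card_eq (hPG.to_subgroup (Subgroup.center G))
      obtain ⟨j, hj⟩ := IsPGroup.exists_card_eq (hPG.to_quotient (Subgroup.center G))
      have hmul := Subgroup.card_eq_card_quotient_mul_card_subgroup (Subgroup.center G)
      rw [hG, hk, hj, ← pow_add] at hmul
      have hmjk : m = j + k := Nat.pow_right_injective hp.two_le hmul
      have hk1 : 1 ≤ k := by
        by_contra h
        have hk0 : k = 0 := by omega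
        rw [hk0, pow_zero] at hk
        have hbot : Subgroup.center G = ⊥ := Subgroup.card_eq_one.mp hk
        exact (hPG.bot_lt_center).ne' hbot
      have hj2 : 2 ≤ j := by
        by_contra h
        have hcyc : IsCyclic (G ⧸ Subgroup.center G) := by
          have hj01 : j = 0 ∨ j = 1 := by omega
          rcases hj01 with h0 | h1
          · rw [h0, pow_zero] at hj
            haveI : Subsingleton (G ⧸ Subgroup.center G) :=
              (Nat.card_eq_one_iff_unique.mp hj).1
            infer_instance
          · rw [h1, pow_one] at hj
            exact isCyclic_of_prime_card hj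
        apply hcomm
        exact MonoidHom.isMulCommutative_of_isCyclic_of_ker_le_center
          (QuotientGroup.mk' (Subgroup.center G)) (by rw [QuotientGroup.ker_mk'])
      have hIH := ih j (by omega) (G ⧸ Subgroup.center G) hj (by omega)
      rw [Group.nilpotencyClass_eq_quotient_center_plus_one]
      omega

/-- A finite group of prime-power order p ^ m with m > 1 is nilpotent of class at most m - 1. -/
theorem result {G : Type*} [Group G] [Finite G] (p m : ℕ) [Fact p.Prime]
    (hG : Nat.card G = p ^ m) (hm : 1 < m) : Group.nilpotencyClass G ≤ m - 1 := by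
  exact aux p m G hG hm

end Cfsg.Agent.S0063
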