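import Cfsg.Statements.S4209
import Cfsg.Agent.Lib.Helper68.HPFormula

set_option autoImplicit false
open Cfsg

namespace Cfsg.Agent.S4209

/-- A finite `p`-group of nilpotency class less than `p` (the term of index `p - 1` of the lower central series of the whole group, indexed from `0`, is trivial) is a regular `p`-group. -/
theorem result {G : Type*} [Group G] [Finite G] {p : ℕ} [Fact p.Prime] (hG : IsPGroup p G) (hcl : (⊤ : Subgroup G).lowerCentralSeries (p - 1) = ⊥) : Cfsg.IsRegularPGroup p G := by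
  classical
  have hpp : p.Prime := Fact.out
  refine ⟨hG, ?_⟩
  intro a b n
  set H : Subgroup G := Subgroup.closure ({a, b} : Set G) with hH
  have ha : a ∈ H := Subgroup.subset_closure (by simp)
  have hb : b ∈ H := Subgroup.subset_closure (by simp)
  -- the class of `H` is less than `p`
  have hclH : (⊤ : Subgroup ↥H).lowerCentralSeries (p - 1) = ⊥ := by
    have h1 : ((⊤ : Subgroup ↥H).lowerCentralSeries (p - 1)).map H.subtype = ⊥ := by
      rw [Subgroup.top_subtype_lowerCentralSeries]
      exact le_bot_iff.mp (hcl ▸ Subgroup.lowerCentralSeries_mono (p - 1) le_top)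
    exact (Subgroup.map_eq_bot_iff_of_injective _ H.subtype_injective).mp h1
  -- the derived subgroup of `H`
  have hcomm : (commutator ↥H).map H.subtype = ⁅H, H⁆ := by
    have h1 : H = (⊤ : Subgroup ↥H).map H.subtype := by
      rw [← MonoidHom.range_eq_map, Subgroup.range_subtype]
    rw [commutator_def, Subgroup.map_commutator, ← h1]
  set M : Subgroup ↥H := Cfsg.powerClosure p n (commutator ↥H) with hM
  have hMle : M.map H.subtype ≤ Cfsg.powerClosure p n ⁅H, H⁆ := by
    rw [Subgroup.map_le_iff_le_comap, hM]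
    unfold Cfsg.powerClosure
    rw [Subgroup.closure_le]
    rintro _ ⟨x, hx, rfl⟩
    apply Subgroup.subset_closure
    refine ⟨(x : G), ?_, by simp⟩
    rw [← hcomm]
    exact Subgroup.mem_map_of_mem _ hx
  let x : ↥H := ⟨a, ha⟩
  let y : ↥H := ⟨b, hb⟩
  have key : (y ^ (p ^ n))⁻¹ * (x ^ (p ^ n))⁻¹ * (x * y) ^ (p ^ n) ∈ M := by
    apply Cfsg.Agent.Lib.Helper68.HP.hall_petrescu_mem hclH x y (p ^ n) M
    intro i hi2 hip g hg
    -- `g` lies in the derived subgroup
    have hg' : g ∈ commutator ↥H := by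
      have : (⊤ : Subgroup ↥H).lowerCentralSeries (i - 1) ≤ (⊤ : Subgroup ↥H).lowerCentralSeries 1 :=
        Subgroup.lowerCentralSeries_antitone _ (by omega)
      exact this hg
    -- `p ^ n` divides the binomial coefficient
    have hdvd : p ^ n ∣ (p ^ n).choose i := by
      have hpos : 0 < p ^ n := pow_pos hpp.pos n
      obtain ⟨q, hq⟩ : ∃ q, p ^ n = q + 1 := ⟨p ^ n - 1, by omega⟩
      obtain ⟨j, hj⟩ : ∃ j, i = j + 1 := ⟨i - 1, by omega⟩
      have h1 : (q + 1) * q.choose j = (q + 1).choose (j + 1) * (j + 1) :=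
        Nat.add_one_mul_choose_eq q j
      have h2 : p ^ n ∣ (p ^ n).choose i * i := by
        rw [hq, hj, ← h1]
        exact Dvd.intro _ rfl
      have hcop : Nat.Coprime (p ^ n) i := by
        apply Nat.Coprime.pow_left
        exact Nat.coprime_of_lt_prime (by omega) (by omega) hpp
      exact hcop.dvd_of_dvd_mul_right h2
    obtain ⟨k, hk⟩ := hdvd
    rw [hk, Nat.mul_comm, pow_mul]
    apply Subgroup.subset_closure
    exact ⟨g ^ k, Subgroup.pow_mem _ hg' k, rfl⟩
  refine ⟨((y ^ (p ^ n))⁻¹ * (x ^ (p ^ n))⁻¹ * (x * y) ^ (p ^ n) : ↥H), ?_, ?_⟩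
  · exact hMle (Subgroup.mem_map_of_mem _ key)
  · simp only [x, y, Subgroup.coe_mul, Subgroup.coe_inv, Subgroup.coe_pow]
    group

end Cfsg.Agent.S4209
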