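import Mathlib
import Cfsg.Statements.S0640
import Cfsg.Agent.S0120
import Cfsg.Agent.Lib.Helper26.NormalPP
import Cfsg.Agent.Lib.Helper26.NormalP3b

set_option autoImplicit false
open Cfsg
open Cfsg.Agent.Lib.Helper26
open scoped commutatorElement

namespace Cfsg.Agent.S0640

section
variable {R : Type*} [Group R]

/-- powers of an automorphism preserve an invariant subgroup. -/
theorem pow_mem_of_inv (α : MulAut R) (S : Subgroup R) (hS : ∀ x ∈ S, α x ∈ S) (n : ℕ) :
    ∀ x ∈ S, (α ^ n) x ∈ S := by
  induction n with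
  | zero => intro x hx; simpa using hx
  | succ n ih =>
    intro x hx
    rw [pow_succ, MulAut.mul_apply]
    exact ih _ (hS x hx)

theorem inv_mem_of_inv [Finite R] (α : MulAut R) (S : Subgroup R) (hS : ∀ x ∈ S, α x ∈ S) :
    ∀ x ∈ S, α⁻¹ x ∈ S := by
  intro x hx
  have h1 : α⁻¹ = α ^ (orderOf α - 1) := by
    have hpos : 0 < orderOf α := orderOf_pos α
    have : α ^ (orderOf α - 1) * α = 1 := by
      rw [← pow_succ, Nat.sub_add_cancel hpos, pow_orderOf_eq_one]
    exact (eq_inv_of_mul_eq_one_left this).symm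
  rw [h1]
  exact pow_mem_of_inv α S hS _ x hx

/-- restriction of an automorphism to an invariant subgroup. -/
def restrictAut [Finite R] (α : MulAut R) (S : Subgroup R) (hS : ∀ x ∈ S, α x ∈ S) : MulAut ↥S where
  toFun x := ⟨α x, hS x x.2⟩
  invFun x := ⟨α⁻¹ x, inv_mem_of_inv α S hS x x.2⟩
  left_inv x := by
    apply Subtype.ext
    show α⁻¹ (α x) = x
    rw [← MulAut.mul_apply, inv_mul_cancel, MulAut.one_apply]
  right_inv x := by
    apply Subtype.ext
    show α (α⁻¹ x) = x
    rw [← MulAut.mul_apply, mul_inv_cancel, MulAut.one_apply]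
  map_mul' x y := by
    apply Subtype.ext
    show α (x * y) = α x * α y
    exact map_mul α _ _

theorem restrictAut_apply [Finite R] (α : MulAut R) (S : Subgroup R) (hS : ∀ x ∈ S, α x ∈ S)
    (x : ↥S) : ((restrictAut α S hS x : ↥S) : R) = α x := rfl

theorem restrictAut_pow [Finite R] (α : MulAut R) (S : Subgroup R) (hS : ∀ x ∈ S, α x ∈ S)
    (n : ℕ) (x : ↥S) : ((((restrictAut α S hS) ^ n) x : ↥S) : R) = (α ^ n) x := by
  induction n generalizing x with
  | zero => simp
  | succ n ih =>
    rw [pow_succ, MulAut.mul_apply, ih, restrictAut_apply, pow_succ, MulAut.mul_apply]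

/-- the restriction has the same prime order if it is nontrivial. -/
theorem restrictAut_order [Finite R] (α : MulAut R) (S : Subgroup R) (hS : ∀ x ∈ S, α x ∈ S)
    {q : ℕ} (hq : q.Prime) (hα : orderOf α = q) {x : R} (hx : x ∈ S) (hne : α x ≠ x) :
    orderOf (restrictAut α S hS) = q := by
  have hdvd : orderOf (restrictAut α S hS) ∣ q := by
    apply orderOf_dvd_of_pow_eq_one
    ext y
    rw [restrictAut_pow, ← hα, pow_orderOf_eq_one]
    rfl
  rcases (Nat.dvd_prime hq).mp hdvd with h | h
  · exfalso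
    rw [orderOf_eq_one_iff] at h
    apply hne
    have := restrictAut_apply α S hS ⟨x, hx⟩
    rw [h] at this
    exact this.symm
  · exact h

theorem pRankLE_subgroup {p : ℕ} (S : Subgroup R) (h : Cfsg.PRankLE p 2 R) :
    Cfsg.PRankLE p 2 ↥S := by
  intro A hA hexp
  have h1 := h (A.map S.subtype) ?_ ?_
  · rwa [Subgroup.card_map_of_injective S.subtype_injective] at h1
  · refine ⟨⟨fun a b => ?_⟩⟩
    obtain ⟨a', ha', haa⟩ := a.2
    obtain ⟨b', hb', hbb⟩ := b.2
    apply Subtype.ext
    show (a : R) * b = b * a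
    rw [← haa, ← hbb, ← map_mul, ← map_mul]
    congr 1
    have := hA.is_comm.comm ⟨a', ha'⟩ ⟨b', hb'⟩
    exact congrArg Subtype.val this
  · rintro a ⟨a', ha', rfl⟩
    rw [← map_pow, hexp a' ha', map_one]

end

section minimal
variable {R : Type*} [Group R] [Finite R] {p q : ℕ} [Fact p.Prime]

theorem eq_one_of_pow_prime (hR : IsPGroup p R) (hq : q.Prime) (hqp : q ≠ p) {x : R}
    (hx : x ^ q = 1) : x = 1 := by
  obtain ⟨k, hk⟩ := (IsPGroup.iff_orderOf.mp hR) x
  have hd : orderOf x ∣ q := orderOf_dvd_of_pow_eq_one hx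
  rw [hk] at hd
  rcases (Nat.dvd_prime hq).mp hd with h | h
  · rw [h] at hk
    exact orderOf_eq_one_iff.mp hk
  · exfalso
    have hpp : p.Prime := Fact.out
    have : p ∣ q := by
      rw [← h]
      have hk0 : k ≠ 0 := by
        rintro rfl
        rw [pow_zero] at h
        exact hq.one_lt.ne h
      exact dvd_pow_self p hk0
    rcases (Nat.dvd_prime hq).mp this with h' | h'
    · exact hpp.one_lt.ne' h'
    · exact hqp h'.symm

variable (hR : IsPGroup p R) (hq : q.Prime) (hqp : q ≠ p) (α : MulAut R) (hα : orderOf α = q)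
  (hmin : ∀ S : Subgroup R, S ≠ ⊤ → (∀ x ∈ S, α x ∈ S) → ∀ x ∈ S, α x = x)

include hR hq hqp hα hmin

theorem comm_closure_top : Subgroup.closure {y : R | ∃ r : R, y = r⁻¹ * α r} = ⊤ := by
  by_contra hne
  have hinv : ∀ x ∈ Subgroup.closure {y : R | ∃ r : R, y = r⁻¹ * α r},
      α x ∈ Subgroup.closure {y : R | ∃ r : R, y = r⁻¹ * α r} := by
    intro x hx
    induction hx using Subgroup.closure_induction with
    | mem y hy =>
      obtain ⟨r, rfl⟩ := hy
      apply Subgroup.subset_closure
      exact ⟨α r, by rw [map_mul, map_inv]⟩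
    | one => rw [map_one]; exact one_mem _
    | mul x y _ _ hx hy => rw [map_mul]; exact mul_mem hx hy
    | inv x _ hx => rw [map_inv]; exact inv_mem hx
  have hfix := hmin _ hne hinv
  have hf : ∀ r : R, α (r⁻¹ * α r) = r⁻¹ * α r := fun r =>
    hfix _ (Subgroup.subset_closure ⟨r, rfl⟩)
  have hpow : ∀ (k : ℕ) (r : R), (α ^ k) r = r * (r⁻¹ * α r) ^ k := by
    intro k
    induction k with
    | zero => intro r; simp
    | succ k ih =>
      intro r
      rw [pow_succ', MulAut.mul_apply, ih, map_mul, map_pow, hf, pow_succ']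
      rw [← mul_assoc r, ← mul_assoc r, mul_inv_cancel, one_mul]
  have h1 : ∀ r : R, (r⁻¹ * α r) ^ q = 1 := by
    intro r
    have h3 := hpow q r
    have h4 : α ^ q = 1 := by rw [← hα, pow_orderOf_eq_one]
    rw [h4, MulAut.one_apply] at h3
    exact mul_eq_left.mp h3.symm
  have h2 : ∀ r : R, α r = r := by
    intro r
    have := eq_one_of_pow_prime hR hq hqp (h1 r)
    rw [inv_mul_eq_one] at this
    exact this.symm
  have h3 : α = 1 := by
    ext r; rw [h2 r]; rfl
  rw [h3, orderOf_one] at hα
  exact hq.one_lt.ne hα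

theorem normal_le_center (N : Subgroup R) [N.Normal] (hN : N ≠ ⊤) (hinv : ∀ x ∈ N, α x ∈ N) :
    N ≤ Subgroup.center R := by
  have hfix := hmin N hN hinv
  have hle : Subgroup.closure {y : R | ∃ r : R, y = r⁻¹ * α r} ≤ Subgroup.centralizer (N : Set R) := by
    rw [Subgroup.closure_le]
    rintro y ⟨r, rfl⟩
    rw [SetLike.mem_coe, Subgroup.mem_centralizer_iff]
    intro c hc
    have h1 : α (r * c * r⁻¹) = r * c * r⁻¹ :=
      hfix _ (Subgroup.Normal.conj_mem inferInstance c hc r)
    rw [map_mul, map_mul, map_inv, hfix c hc] at h1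
    -- α r * c * (α r)⁻¹ = r * c * r⁻¹
    calc c * (r⁻¹ * α r) = r⁻¹ * (r * c * r⁻¹) * α r := by group
      _ = r⁻¹ * (α r * c * (α r)⁻¹) * α r := by rw [h1]
      _ = r⁻¹ * α r * c := by group
  rw [comm_closure_top hR hq hqp α hα hmin] at hle
  intro c hc
  rw [Subgroup.mem_center_iff]
  intro g
  exact ((Subgroup.mem_centralizer_iff.mp (hle (Subgroup.mem_top g))) c hc).symm

theorem char_le_center (N : Subgroup R) [hNc : N.Characteristic] (hN : N ≠ ⊤) :
    N ≤ Subgroup.center R := by
  apply normal_le_center hR hq hqp α hα hmin N hN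
  intro x hx
  have := (Subgroup.characteristic_iff_map_le.mp hNc) α
  exact this ⟨x, hx, rfl⟩

theorem class_two (x y : R) : ⁅x, y⁆ ∈ Subgroup.center R := by
  by_cases hab : Subgroup.center R = ⊤
  · rw [hab]; trivial
  · have hnt : Nontrivial R := by
      by_contra hcon
      rw [not_nontrivial_iff_subsingleton] at hcon
      exact hab (Subsingleton.elim _ _)
    have hnil : Group.IsNilpotent R := hR.isNilpotent
    have hlt := Group.IsSolvable.commutator_lt_top_of_nontrivial R
    have hchar : (commutator R).Characteristic := by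
      rw [commutator_def]; infer_instance
    have := char_le_center hR hq hqp α hα hmin (commutator R) hlt.ne
    apply this
    rw [commutator_def]
    exact Subgroup.commutator_mem_commutator (Subgroup.mem_top x) (Subgroup.mem_top y)

theorem exp_p (hp : p ≠ 2) : ∀ x : R, x ^ p = 1 := by
  have hcen := class_two hR hq hqp α hα hmin
  have hmul : ∀ x ∈ (⊤ : Subgroup R), ∀ y ∈ (⊤ : Subgroup R), x ^ p = 1 → y ^ p = 1 →
      (x * y) ^ p = 1 := by
    intro x _ y _ hx hy
    obtain ⟨c, hc⟩ : ∃ c : R, c = (x * y)⁻¹ * (y * x) := ⟨_, rfl⟩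
    have h : y * x = x * y * c := by rw [hc]; group
    have hcc : c ∈ Subgroup.center R := by
      have h1 := hcen y⁻¹ x⁻¹
      have h2 : ⁅y⁻¹, x⁻¹⁆ = c := by
        rw [hc, commutatorElement_def]; group
      rwa [h2] at h1
    have hcx : Commute c x := (Subgroup.mem_center_iff.mp hcc x).symm
    have hcy : Commute c y := (Subgroup.mem_center_iff.mp hcc y).symm
    have hcp : c ^ p = 1 := by
      have h3 := pow_mul_comm_central x y c h hcy p
      rw [hy, one_mul, mul_one] at h3
      exact (mul_eq_left.mp h3.symm)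
    rw [mul_pow_prime_comm_central hp x y c h hcx hcy hcp, hx, hy, one_mul]
  by_contra hcon
  push Not at hcon
  obtain ⟨x₀, hx₀⟩ := hcon
  have hne : omegaSub (⊤ : Subgroup R) p hmul ≠ ⊤ := by
    intro h
    have : x₀ ∈ omegaSub (⊤ : Subgroup R) p hmul := by rw [h]; trivial
    exact hx₀ (mem_omegaSub.mp this).2
  have hinv : ∀ x ∈ omegaSub (⊤ : Subgroup R) p hmul, α x ∈ omegaSub (⊤ : Subgroup R) p hmul := by
    intro x hx
    rw [mem_omegaSub] at hx ⊢
    exact ⟨trivial, by rw [← map_pow, hx.2, map_one]⟩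
  have hfix := hmin _ hne hinv
  have hcop : Nat.Coprime (orderOf α) p := by
    rw [hα]
    exact (Nat.coprime_primes hq Fact.out).mpr hqp
  have h1 : α = 1 := Cfsg.Agent.S0120.result hp hR α hcop (fun x hx =>
    hfix x (mem_omegaSub.mpr ⟨trivial, hx⟩))
  rw [h1, orderOf_one] at hα
  exact hq.one_lt.ne hα

/-- the subgroup of fixed points. -/
def fixSub (β : MulAut R) : Subgroup R where
  carrier := {x | β x = x}
  mul_mem' := fun {a b} ha hb => by
    show β (a * b) = a * b
    rw [map_mul, show β a = a from ha, show β b = b from hb]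
  one_mem' := map_one β
  inv_mem' := fun {a} ha => by
    show β a⁻¹ = a⁻¹
    rw [map_inv, show β a = a from ha]

omit hR hq hqp hα hmin in
theorem mem_fixSub {β : MulAut R} {x : R} : x ∈ fixSub β ↔ β x = x := Iff.rfl

omit hR hqp hmin in
theorem card_modEq_fixSub : Nat.card R ≡ Nat.card (fixSub α) [MOD q] := by
  have hqf : Fact q.Prime := ⟨hq⟩
  have hPG : IsPGroup q (Subgroup.zpowers α) := by
    apply IsPGroup.of_card (n := 1)
    rw [Nat.card_zpowers, hα, pow_one]
  have h1 := hPG.card_modEq_card_fixedPoints R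
  have h2 : MulAction.fixedPoints (Subgroup.zpowers α) R = (fixSub α : Set R) := by
    ext x
    rw [MulAction.mem_fixedPoints, SetLike.mem_coe, mem_fixSub]
    constructor
    · intro h
      exact h ⟨α, Subgroup.mem_zpowers α⟩
    · intro h g
      have hle : Subgroup.zpowers α ≤ MulAction.stabilizer (MulAut R) x := by
        rw [Subgroup.zpowers_le, MulAction.mem_stabilizer_iff]
        exact h
      exact MulAction.mem_stabilizer_iff.mp (hle g.2)
  rw [h2] at h1
  exact h1

/-- the main bound: `card R ≤ p ^ 2 * card (fixSub α)`. -/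
theorem card_le (hp : p ≠ 2) (hrk : Cfsg.PRankLE p 2 R) :
    Nat.card R ≤ p ^ 2 * Nat.card (fixSub α) := by
  have hexp := exp_p hR hq hqp α hα hmin hp
  have hFpos : 0 < Nat.card (fixSub α) := Nat.card_pos
  by_cases hab : Subgroup.center R = ⊤
  · -- abelian: rank bound
    have hcomm : IsMulCommutative (⊤ : Subgroup R) := by
      refine ⟨⟨fun a b => Subtype.ext ?_⟩⟩
      have : (a : R) ∈ Subgroup.center R := by rw [hab]; trivial
      exact ((Subgroup.mem_center_iff.mp this) b).symm
    have h1 := hrk ⊤ hcomm (fun a _ => hexp a)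
    rw [Subgroup.card_top] at h1
    calc Nat.card R ≤ p ^ 2 := h1
      _ ≤ p ^ 2 * Nat.card (fixSub α) := Nat.le_mul_of_pos_right _ hFpos
  · -- nonabelian
    have hZchar : (Subgroup.center R).Characteristic := inferInstance
    have hZfix : ∀ z ∈ Subgroup.center R, α z = z := by
      apply hmin _ hab
      intro x hx
      exact (Subgroup.characteristic_iff_map_le.mp hZchar) α ⟨x, hx, rfl⟩
    have hZF : Subgroup.center R ≤ fixSub α := fun z hz => hZfix z hz
    obtain ⟨x, hx⟩ : ∃ x : R, x ∉ Subgroup.center R := by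
      by_contra hcon
      push Not at hcon
      exact hab (eq_top_iff.mpr fun x _ => hcon x)
    have hnt : Nontrivial R := ⟨⟨x, 1, fun h => hx (h ▸ one_mem _)⟩⟩
    -- A = Z ⊔ ⟨x⟩
    obtain ⟨A, hA⟩ : ∃ A : Subgroup R, A = Subgroup.center R ⊔ Subgroup.zpowers x := ⟨_, rfl⟩
    have hZc : ∀ a ∈ Subgroup.center R, ∀ b : R, a * b = b * a := fun a ha b =>
      ((Subgroup.mem_center_iff.mp ha) b).symm
    have hzp : ∀ y : R, ∀ a ∈ Subgroup.zpowers y, ∀ b ∈ Subgroup.zpowers y, a * b = b * a := by
      intro y a ha b hb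
      obtain ⟨i, rfl⟩ := Subgroup.mem_zpowers_iff.mp ha
      obtain ⟨j, rfl⟩ := Subgroup.mem_zpowers_iff.mp hb
      exact (Commute.zpow_zpow (Commute.refl y) i j).eq
    have hAcomm : ∀ a ∈ A, ∀ b ∈ A, a * b = b * a := by
      rw [hA]
      exact comm_sup _ _ (fun a ha b _ => hZc a ha b) (hzp x) (fun a ha b _ => hZc a ha b)
    have hAle : Nat.card A ≤ p ^ 2 :=
      hrk A ⟨⟨fun a b => Subtype.ext (hAcomm a a.2 b b.2)⟩⟩ (fun a _ => hexp a)
    have hZA : Subgroup.center R ≤ A := hA ▸ le_sup_left
    have hxA : x ∈ A := hA ▸ (le_sup_right : Subgroup.zpowers x ≤ _) (Subgroup.mem_zpowers x)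
    -- card A ≥ p * card Z
    have hZpos : 0 < Nat.card (Subgroup.center R) := Nat.card_pos
    have hAZ : p * Nat.card (Subgroup.center R) ≤ Nat.card A := by
      obtain ⟨a, ha⟩ := IsPGroup.iff_card.mp (hR.to_subgroup A)
      obtain ⟨z, hz⟩ := IsPGroup.iff_card.mp (hR.to_subgroup (Subgroup.center R))
      have hle := Subgroup.card_le_of_le hZA
      have hne : Nat.card (Subgroup.center R) ≠ Nat.card A := by
        intro h
        have := Subgroup.eq_of_le_of_card_ge hZA (le_of_eq h.symm)
        rw [← this] at hxA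
        exact hx hxA
      rw [ha, hz] at hle hne ⊢
      have hp1 : 1 < p := (Fact.out : p.Prime).one_lt
      have hza : z < a := by
        rcases Nat.lt_or_ge z a with h | h
        · exact h
        · exfalso
          have := Nat.pow_le_pow_right (Nat.lt_of_lt_of_le Nat.zero_lt_one hp1.le) h
          exact hne (le_antisymm hle this)
      calc p * p ^ z = p ^ (z + 1) := by rw [pow_succ']
        _ ≤ p ^ a := Nat.pow_le_pow_right (by omega) hza
    have hZp : p ≤ Nat.card (Subgroup.center R) := by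
      have := hR.center_nontrivial
      obtain ⟨z, hz⟩ := IsPGroup.iff_card.mp (hR.to_subgroup (Subgroup.center R))
      rw [hz]
      have hz0 : z ≠ 0 := by
        rintro rfl
        rw [pow_zero] at hz
        have h1 := Finite.one_lt_card (α := Subgroup.center R)
        omega
      calc p = p ^ 1 := (pow_one p).symm
        _ ≤ p ^ z := Nat.pow_le_pow_right (Fact.out : p.Prime).pos (by omega)
    -- the commutator homomorphism
    have hcen := class_two hR hq hqp α hα hmin
    let κ : R →* R := MonoidHom.mk' (fun g => g * x * g⁻¹ * x⁻¹) (by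
      intro g h
      have hc : h * x * h⁻¹ * x⁻¹ ∈ Subgroup.center R := by
        have := hcen h x
        rwa [commutatorElement_def] at this
      have hcg := (Subgroup.mem_center_iff.mp hc) g
      calc g * h * x * (g * h)⁻¹ * x⁻¹ = (g * (h * x * h⁻¹ * x⁻¹)) * x * g⁻¹ * x⁻¹ := by group
        _ = ((h * x * h⁻¹ * x⁻¹) * g) * x * g⁻¹ * x⁻¹ := by rw [hcg]
        _ = (h * x * h⁻¹ * x⁻¹) * (g * x * g⁻¹ * x⁻¹) := by group
        _ = (g * x * g⁻¹ * x⁻¹) * (h * x * h⁻¹ * x⁻¹) := ((Subgroup.mem_center_iff.mp hc) _).symm)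
    have hκ : ∀ g : R, κ g = g * x * g⁻¹ * x⁻¹ := fun g => rfl
    have hrange : κ.range ≤ Subgroup.center R := by
      rintro y ⟨g, rfl⟩
      rw [hκ]
      have := hcen g x
      rwa [commutatorElement_def] at this
    have hker : κ.ker ≤ A := by
      intro y hy
      rw [MonoidHom.mem_ker, hκ] at hy
      have hyx : y * x = x * y := by
        calc y * x = (y * x * y⁻¹ * x⁻¹) * x * y := by group
          _ = x * y := by rw [hy, one_mul]
      -- B = A ⊔ ⟨y⟩ is elementary abelian
      have hBcomm : ∀ a ∈ A ⊔ Subgroup.zpowers y, ∀ b ∈ A ⊔ Subgroup.zpowers y, a * b = b * a := by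
        apply comm_sup _ _ hAcomm (hzp y)
        intro a ha b hb
        obtain ⟨j, rfl⟩ := Subgroup.mem_zpowers_iff.mp hb
        have hle : A ≤ Subgroup.centralizer {y} := by
          rw [hA]
          refine sup_le ?_ ?_
          · intro z hz
            rw [Subgroup.mem_centralizer_singleton_iff]
            exact hZc z hz y
          · rw [Subgroup.zpowers_le, Subgroup.mem_centralizer_singleton_iff]
            exact hyx.symm
        have h1 : a * y = y * a := Subgroup.mem_centralizer_singleton_iff.mp (hle ha)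
        exact (Commute.zpow_right (show Commute a y from h1) j).eq
      have hBle : Nat.card ↥(A ⊔ Subgroup.zpowers y) ≤ p ^ 2 :=
        hrk _ ⟨⟨fun a b => Subtype.ext (hBcomm a a.2 b b.2)⟩⟩ (fun a _ => hexp a)
      have hApp : p ^ 2 ≤ Nat.card A := by
        calc p ^ 2 = p * p := pow_two p
          _ ≤ p * Nat.card (Subgroup.center R) := Nat.mul_le_mul_left p hZp
          _ ≤ Nat.card A := hAZ
      have hAB : A = A ⊔ Subgroup.zpowers y :=
        Subgroup.eq_of_le_of_card_ge le_sup_left (hBle.trans hApp)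
      rw [hAB]
      exact (le_sup_right : Subgroup.zpowers y ≤ _) (Subgroup.mem_zpowers y)
    have hcard : Nat.card R = Nat.card κ.ker * Nat.card κ.range := by
      rw [← Subgroup.card_mul_index κ.ker, Subgroup.index_ker]
    calc Nat.card R = Nat.card κ.ker * Nat.card κ.range := hcard
      _ ≤ Nat.card A * Nat.card (Subgroup.center R) :=
        Nat.mul_le_mul (Subgroup.card_le_of_le hker) (Subgroup.card_le_of_le hrange)
      _ ≤ p ^ 2 * Nat.card (fixSub α) :=
        Nat.mul_le_mul hAle (Subgroup.card_le_of_le hZF)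

end minimal

theorem card_lt_of_ne_top {R : Type*} [Group R] [Finite R] (S : Subgroup R) (hS : S ≠ ⊤) :
    Nat.card S < Nat.card R := by
  by_contra h
  push Not at h
  apply hS
  apply Subgroup.eq_of_le_of_card_ge le_top
  rwa [Subgroup.card_top]

theorem key.{u} {p q : ℕ} [Fact p.Prime] (hp : p ≠ 2) (hq : q.Prime) (hqp : q ≠ p) :
    ∀ n : ℕ, ∀ (R : Type u) [Group R] [Finite R], Nat.card R = n → IsPGroup p R →
      Cfsg.PRankLE p 2 R → ∀ α : MulAut R, orderOf α = q → q ∣ p ^ 2 - 1 := by
  intro n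
  induction n using Nat.strong_induction_on with
  | _ n ih =>
    intro R _ _ hn hR hrk α hα
    have hpp : p.Prime := Fact.out
    by_cases hmin : ∀ S : Subgroup R, S ≠ ⊤ → (∀ x ∈ S, α x ∈ S) → ∀ x ∈ S, α x = x
    · have hbound := card_le hR hq hqp α hα hmin hp hrk
      have hmod := card_modEq_fixSub hq α hα
      have hFne : fixSub α ≠ ⊤ := by
        intro h
        have : α = 1 := by
          ext r
          have hr : r ∈ fixSub α := by rw [h]; trivial
          exact mem_fixSub.mp hr
        rw [this, orderOf_one] at hα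
        exact hq.one_lt.ne hα
      have hlt := card_lt_of_ne_top _ hFne
      obtain ⟨a, ha⟩ := IsPGroup.iff_card.mp hR
      obtain ⟨b, hb⟩ := IsPGroup.iff_card.mp (hR.to_subgroup (fixSub α))
      rw [ha, hb] at hbound hmod hlt
      have hba : b < a := (Nat.pow_lt_pow_iff_right hpp.one_lt).mp hlt
      have hab2 : a ≤ b + 2 := by
        rw [← pow_add] at hbound
        have := (Nat.pow_le_pow_iff_right hpp.one_lt).mp hbound
        omega
      have hdvd : q ∣ p ^ a - p ^ b := (Nat.modEq_iff_dvd' hlt.le).mp hmod.symm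
      obtain ⟨d, rfl⟩ : ∃ d, a = b + d := ⟨a - b, by omega⟩
      have hfac : p ^ (b + d) - p ^ b = p ^ b * (p ^ d - 1) := by
        rw [pow_add, Nat.mul_sub_one]
      rw [hfac] at hdvd
      have hcop : Nat.Coprime q (p ^ b) :=
        Nat.Coprime.pow_right b ((Nat.coprime_primes hq hpp).mpr hqp)
      have hd := hcop.dvd_of_dvd_mul_left hdvd
      have hd12 : d = 1 ∨ d = 2 := by omega
      rcases hd12 with rfl | rfl
      · rw [pow_one] at hd
        have h1 : p ^ 2 - 1 = (p + 1) * (p - 1) := by
          have := Nat.sq_sub_sq p 1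
          simpa using this
        rw [h1]
        exact Dvd.dvd.mul_left hd _
      · exact hd
    · push Not at hmin
      obtain ⟨S, hS, hinv, x, hxS, hne⟩ := hmin
      have hlt : Nat.card S < n := hn ▸ card_lt_of_ne_top S hS
      exact ih (Nat.card S) hlt ↥S rfl (hR.to_subgroup S) (pRankLE_subgroup S hrk)
        (restrictAut α S hinv) (restrictAut_order α S hinv hq hα hxS hne)

/-- For odd p, a prime q ≠ p dividing the order of the automorphism group of a p-group of rank at most 2 divides p² - 1 and is less than p. -/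
theorem result {R : Type*} [Group R] [Finite R] {p : ℕ} [Fact p.Prime] (hp : p ≠ 2) (hR : IsPGroup p R) (hrk : Cfsg.PRankLE p 2 R) (q : ℕ) (hq : q.Prime) (hqp : q ≠ p) (hdvd : q ∣ Nat.card (MulAut R)) : q ∣ p ^ 2 - 1 ∧ q < p := by
  have hqf : Fact q.Prime := ⟨hq⟩
  obtain ⟨α, hα⟩ := exists_prime_orderOf_dvd_card' q hdvd
  have h1 : q ∣ p ^ 2 - 1 := key hp hq hqp _ R rfl hR hrk α hα
  refine ⟨h1, ?_⟩
  have hpp : p.Prime := Fact.out
  have hp3 : 3 ≤ p := by
    have := hpp.two_le
    omega
  have hodd : Odd p := hpp.odd_of_ne_two hp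
  have h2 : p ^ 2 - 1 = (p + 1) * (p - 1) := by
    have := Nat.sq_sub_sq p 1
    simpa using this
  rw [h2] at h1
  rcases (Nat.Prime.dvd_mul hq).mp h1 with h | h
  · -- q ∣ p + 1
    obtain ⟨k, hk⟩ := h
    have hk0 : k ≠ 0 := by rintro rfl; omega
    by_cases hk1 : k = 1
    · exfalso
      subst hk1
      rw [mul_one] at hk
      obtain ⟨j, hj⟩ := hodd
      have heven : 2 ∣ q := ⟨j + 1, by omega⟩
      rcases (Nat.dvd_prime hq).mp heven with h' | h'
      · omega
      · omega
    · have hk2 : 2 ≤ k := by omega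
      have : q * 2 ≤ q * k := Nat.mul_le_mul_left q hk2
      omega
  · have := Nat.le_of_dvd (by omega) h
    omega

end Cfsg.Agent.S0640
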