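import Cfsg.Statements.S1448
import Cfsg.Agent.Lib.Helper89.CubeAct
import Cfsg.Agent.S0640
import Cfsg.Agent.S2971
import Cfsg.Agent.Lib.Helper72.RankTwoOmega
import Cfsg.Agent.Lib.Helper72.OmegaSmall
import Cfsg.Agent.Lib.Helper68.MetaActC
import Cfsg.Agent.Lib.Helper06.Rank2T

set_option autoImplicit false
open Cfsg

namespace Cfsg.Agent.S1448

open Cfsg.Agent.Lib.Helper89
open scoped commutatorElement

theorem three_lt {G : Type*} [Group G] [Finite G] (p : ℕ) [Fact p.Prime] (hp : p ≠ 2)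
    (R A : Subgroup G) (hR : IsPGroup p R) (hR1 : R ≠ ⊥) (hr : Cfsg.PRankLE p 2 R)
    (hA : (A ≤ Subgroup.normalizer (R : Set G))) (hcop : (Nat.card A).Coprime p)
    (hAodd : Odd (Nat.card A)) (hRA : ⁅R, A⁆ = R) : 3 < p := by
  have hpp : p.Prime := Fact.out
  by_contra hlt
  have hp3 : p = 3 := by
    have := hpp.two_le
    omega
  have hnt : ∃ a : ↥A, conjAct R A hA a ≠ 1 := by
    by_contra hcon
    apply hR1
    rw [← hRA, Subgroup.commutator_eq_bot_iff_le_centralizer]
    intro r hr'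
    rw [Subgroup.mem_centralizer_iff]
    intro a ha
    have h1 : conjAct R A hA ⟨a, ha⟩ = 1 := by
      by_contra h; exact hcon ⟨_, h⟩
    have h2 := conjAct_apply R A hA ⟨a, ha⟩ ⟨r, hr'⟩
    rw [h1] at h2
    simp only [MulAut.one_apply] at h2
    calc a * r = (a * r * a⁻¹) * a := by group
      _ = r * a := by rw [← h2]
  obtain ⟨a, ha⟩ := hnt
  set β := conjAct R A hA a with hβ
  have hn1 : orderOf β ≠ 1 := by rwa [Ne, orderOf_eq_one_iff]
  have hdvdA : orderOf β ∣ Nat.card A :=
    (orderOf_map_dvd (conjAct R A hA) a).trans (orderOf_dvd_natCard a)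
  obtain ⟨q, hq, hqd⟩ := Nat.exists_prime_and_dvd hn1
  have hβ0 : orderOf β ≠ 0 := (orderOf_pos β).ne'
  have hα : orderOf (β ^ (orderOf β / q)) = q := orderOf_pow_orderOf_div hβ0 hqd
  have hqA : q ∣ Nat.card A := hqd.trans hdvdA
  have hqp : q ≠ p := by
    rintro rfl
    exact (Nat.Prime.coprime_iff_not_dvd hq).1 hcop.symm hqA
  have hq2 : q ≠ 2 := by
    rintro rfl
    exact (Nat.not_even_iff_odd.2 hAodd) (even_iff_two_dvd.2 hqA)
  have hkey := Cfsg.Agent.S0640.key hp hq hqp _ ↥R rfl hR hr _ hα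
  rw [hp3] at hkey
  have h8 : q ∣ 2 ^ 3 := by
    norm_num at hkey ⊢
    exact hkey
  exact hq2 ((Nat.prime_dvd_prime_iff_eq hq Nat.prime_two).1 (hq.dvd_of_dvd_pow h8))

/-- Let G be a finite group, p an odd prime, R a nontrivial p-subgroup with no elementary abelian subgroup of order p ^ 3, and A a subgroup of odd order coprime to p normalizing R with [R, A] = R. Then 3 < p, and either R is abelian or R is generated by two elementwise-commuting subgroups R₁, R₂ with R₁ non-abelian of order p ^ 3 and exponent p, R₂ cyclic, and the elements of R₂ of order dividing p generating exactly [R₁, R₁]. -/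
theorem result {G : Type*} [Group G] [Finite G] (p : ℕ) [Fact p.Prime] (hp : p ≠ 2) (R A : Subgroup G) (hR : IsPGroup p R) (hR1 : R ≠ ⊥) (hr : Cfsg.PRankLE p 2 R)
    (hA : (A ≤ Subgroup.normalizer (R : Set G))) (hcop : (Nat.card A).Coprime p) (hAodd : Odd (Nat.card A)) (hRA : ⁅R, A⁆ = R) :
    3 < p ∧ (IsMulCommutative R ∨ ∃ R₁ R₂ : Subgroup G, R₁ ⊔ R₂ = R ∧ (∀ a ∈ R₁, ∀ b ∈ R₂, a * b = b * a) ∧
        ¬ IsMulCommutative R₁ ∧ Nat.card R₁ = p ^ 3 ∧ Monoid.exponent R₁ = p ∧ IsCyclic R₂ ∧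
        Subgroup.closure {x : G | x ∈ R₂ ∧ x ^ p = 1} = ⁅R₁, R₁⁆) := by
  classical
  have hpp : p.Prime := Fact.out
  have hp3 : 3 < p := three_lt p hp R A hR hR1 hr hA hcop hAodd hRA
  refine ⟨hp3, ?_⟩
  -- Ω₁(R)
  set W' : Subgroup ↥R := Subgroup.closure {x : ↥R | x ^ p = 1} with hW'
  set W : Subgroup G := W'.map R.subtype with hW
  have hWR : W ≤ R := Subgroup.map_subtype_le _
  have hrk : ∀ E : Subgroup ↥R, Cfsg.IsElementaryAbelian p E → Nat.card E ≤ p ^ 2 :=
    fun E hE => hr E hE.1 hE.2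
  have hW'exp : ∀ y ∈ W', y ^ p = 1 := fun y hy =>
    Cfsg.Agent.Lib.Helper72.pow_eq_one_of_mem_closure_of_rank_le_two hp3 hR hrk y hy
  have hWexp : ∀ w ∈ W, w ^ p = 1 := by
    intro w hw
    obtain ⟨y, hy, rfl⟩ := Subgroup.mem_map.mp hw
    have := congrArg Subtype.val (hW'exp y hy)
    simpa using this
  have hΩ : ∀ x ∈ R, x ^ p = 1 → x ∈ W := by
    intro x hx hxp
    refine Subgroup.mem_map.mpr ⟨⟨x, hx⟩, Subgroup.subset_closure ?_, rfl⟩
    show (⟨x, hx⟩ : ↥R) ^ p = 1
    apply Subtype.ext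
    simpa using hxp
  have hWcard : Nat.card W = Nat.card W' := Subgroup.card_map_of_injective R.subtype_injective
  have hW'le : Nat.card W' ≤ p ^ 3 := Cfsg.Agent.Lib.Helper06.card_le_of_exp hr W' hW'exp
  by_cases hsmall : Nat.card W' ≤ p ^ 2
  · left
    have hO : Nat.card ↥(Cfsg.omegaOne p (⊤ : Subgroup ↥R)) ≤ p ^ 2 := by
      have : Cfsg.omegaOne p (⊤ : Subgroup ↥R) = W' := by
        rw [hW', Cfsg.omegaOne]
        congr 1
        ext x
        simp
      rw [this]; exact hsmall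
    have hRm : Cfsg.IsMetacyclic ↥R :=
      Cfsg.Agent.Lib.Helper72.isMetacyclic_of_card_omegaOne_le hp3 hR hO
    have hab := Cfsg.Agent.Lib.Helper68.MA.abelian_of_commutator_eq hp R A hR hRm hA hcop hRA
    rw [Subgroup.commutator_eq_bot_iff_le_centralizer] at hab
    refine ⟨⟨fun a b => ?_⟩⟩
    apply Subtype.ext
    have := hab a.2
    rw [Subgroup.mem_centralizer_iff] at this
    exact (this b b.2).symm
  · right
    have hW'p : IsPGroup p W' := hR.to_subgroup W'
    obtain ⟨k, hk⟩ := hW'p.exists_card_eq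
    have hk3 : k = 3 := by
      rw [hk] at hsmall hW'le
      have h1 : k ≤ 3 := (Nat.pow_le_pow_iff_right hpp.one_lt).1 hW'le
      have h2 : 2 < k := by
        by_contra hcon
        exact hsmall (Nat.pow_le_pow_right hpp.pos (by omega))
      omega
    have hWc : Nat.card W = p ^ 3 := by rw [hWcard, hk, hk3]
    have hWnc : ∃ u ∈ W, ∃ v ∈ W, u * v ≠ v * u := by
      by_contra hcon
      have hcomm : ∀ u ∈ W, ∀ v ∈ W, u * v = v * u := by
        intro u hu v hv
        by_contra h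
        exact hcon ⟨u, hu, v, hv, h⟩
      have hW'c : IsMulCommutative W' := by
        refine ⟨⟨fun a b => ?_⟩⟩
        apply Subtype.ext
        apply Subtype.ext
        exact hcomm _ (Subgroup.mem_map_of_mem _ a.2) _ (Subgroup.mem_map_of_mem _ b.2)
      have := hr W' hW'c hW'exp
      rw [hk, hk3] at this
      have := (Nat.pow_le_pow_iff_right hpp.one_lt).1 this
      omega
    obtain ⟨hZcard, hWW, hdec⟩ :=
      eq_mul_centralizer R W A hR hWR hWc hWexp hWnc hΩ hA hcop hAodd hRA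
    set Z : Subgroup G := W ⊓ Subgroup.centralizer (W : Set G) with hZ
    set C : Subgroup G := R ⊓ Subgroup.centralizer (W : Set G) with hC
    have hmemC : ∀ x, x ∈ C ↔ x ∈ R ∧ ∀ w ∈ W, w * x = x * w := by
      intro x
      rw [hC, Subgroup.mem_inf, Subgroup.mem_centralizer_iff]
      rfl
    have hmemZ : ∀ x, x ∈ Z ↔ x ∈ W ∧ ∀ w ∈ W, w * x = x * w := mem_inf_centralizer_iff W
    have hCZ : ∀ x ∈ C, x ^ p = 1 → x ∈ Z := by
      intro x hx hxp
      rw [hmemC] at hx
      exact (hmemZ x).2 ⟨hΩ x hx.1 hxp, hx.2⟩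
    have hZC : Z ≤ C := by
      intro x hx
      rw [hmemZ] at hx
      exact (hmemC x).2 ⟨hWR hx.1, hx.2⟩
    -- commutator subgroup of W
    have hcomW : ⁅W, W⁆ = Z := by
      have hle : ⁅W, W⁆ ≤ Z := Subgroup.commutator_le.mpr hWW
      apply Subgroup.eq_of_le_of_card_ge hle
      have hne : ⁅W, W⁆ ≠ ⊥ := by
        intro h
        rw [Subgroup.commutator_eq_bot_iff_le_centralizer] at h
        obtain ⟨u, hu, v, hv, huv⟩ := hWnc
        have := h hu
        rw [Subgroup.mem_centralizer_iff] at this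
        exact huv (this v hv).symm
      have hdvd : Nat.card ↥⁅W, W⁆ ∣ p := by
        rw [← hZcard]; exact Subgroup.card_dvd_of_le hle
      rcases (Nat.dvd_prime hpp).mp hdvd with h1 | h1
      · exact absurd (Subgroup.card_eq_one.mp h1) hne
      · rw [h1, hZcard]
    refine ⟨W, C, ?_, ?_, ?_, hWc, ?_, ?_, ?_⟩
    · apply le_antisymm (sup_le hWR inf_le_left)
      intro r hr'
      obtain ⟨w, hw, c, hc, hcW, rfl⟩ := hdec r hr'
      refine Subgroup.mul_mem _ (Subgroup.mem_sup_left hw) (Subgroup.mem_sup_right ?_)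
      exact (hmemC c).2 ⟨hc, fun v hv => (hcW v hv).symm⟩
    · intro a ha b hb
      exact ((hmemC b).1 hb).2 a ha
    · intro hcm
      obtain ⟨u, hu, v, hv, huv⟩ := hWnc
      exact huv (congrArg Subtype.val (hcm.is_comm.comm ⟨u, hu⟩ ⟨v, hv⟩))
    · -- exponent
      have hdvd : Monoid.exponent ↥W ∣ p := by
        apply Monoid.exponent_dvd_of_forall_pow_eq_one
        intro g
        apply Subtype.ext
        simpa using hWexp g g.2
      rcases (Nat.dvd_prime hpp).mp hdvd with h1 | h1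
      · exfalso
        rw [Monoid.exp_eq_one_iff] at h1
        obtain ⟨u, hu, v, hv, huv⟩ := hWnc
        have := Subsingleton.elim (⟨u, hu⟩ : ↥W) ⟨v, hv⟩
        have huv' : u = v := congrArg Subtype.val this
        exact huv (by rw [huv'])
      · exact h1
    · -- cyclic
      have hCp : IsPGroup p ↥C := hR.to_le inf_le_left
      have hrk1 : Cfsg.PRankLE p 1 ↥C := by
        intro E _ hEexp
        have hle : E.map C.subtype ≤ Z := by
          intro x hx
          obtain ⟨y, hy, rfl⟩ := Subgroup.mem_map.mp hx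
          apply hCZ _ y.2
          have := congrArg Subtype.val (hEexp y hy)
          simpa using this
        have h1 : Nat.card E = Nat.card (E.map C.subtype) :=
          (Subgroup.card_map_of_injective C.subtype_injective).symm
        rw [h1, pow_one, ← hZcard]
        exact Subgroup.card_le_of_le hle
      obtain ⟨Q, hQ⟩ := IsPGroup.exists_le_sylow (p := p) (P := (⊤ : Subgroup ↥C))
        (hCp.to_subgroup ⊤)
      have hQc : IsCyclic ↥(Q : Subgroup ↥C) := Cfsg.Agent.S2971.sylow_cyclic hp hrk1 Q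
      have hQtop : (Q : Subgroup ↥C) = ⊤ := top_le_iff.mp hQ
      rw [hQtop] at hQc
      exact isCyclic_of_surjective (Subgroup.topEquiv : ↥(⊤ : Subgroup ↥C) ≃* ↥C)
        Subgroup.topEquiv.surjective
    · rw [hcomW]
      apply le_antisymm
      · rw [Subgroup.closure_le]
        intro x hx
        exact hCZ x hx.1 hx.2
      · intro x hx
        apply Subgroup.subset_closure
        exact ⟨hZC hx, hWexp x ((hmemZ x).1 hx).1⟩

end Cfsg.Agent.S1448
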