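import Cfsg.Statements.S1412
import Mathlib
import Cfsg.Agent.S1448
import Cfsg.Agent.Lib.Helper40.ExtraCase
import Cfsg.Agent.Lib.Helper68.OddRank2

set_option autoImplicit false
open Cfsg
open scoped commutatorElement

namespace Cfsg.Agent.S1412

/-- Let G be a minimal simple group of odd order, p a prime and P a Sylow p-subgroup of G with no elementary abelian subgroup of order p ^ 3. Then either P is abelian, or P is generated by two elementwise-commuting subgroups P₁, P₂ with P₁ nonabelian of order p ^ 3 and exponent p, P₂ cyclic, and the elements of P₂ of order dividing p generating exactly the centre of P₁. -/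
theorem result {G : Type*} [Group G] [Finite G] (hG : Cfsg.IsMinSimpleOddOrder G) (p : ℕ) [Fact p.Prime] (P : Sylow p G) (hr : Cfsg.PRankLE p 2 (P : Subgroup G)) :
    IsMulCommutative (P : Subgroup G) ∨ ∃ P₁ P₂ : Subgroup G, P₁ ⊔ P₂ = (P : Subgroup G) ∧ (∀ a ∈ P₁, ∀ b ∈ P₂, a * b = b * a) ∧
        ¬ IsMulCommutative P₁ ∧ Nat.card P₁ = p ^ 3 ∧ Monoid.exponent P₁ = p ∧ IsCyclic P₂ ∧
        Subgroup.closure {x : G | x ∈ P₂ ∧ x ^ p = 1} = P₁ ⊓ Subgroup.centralizer (P₁ : Set G) := by
  classical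
  obtain ⟨hodd, hsimple, hnab, hmin⟩ := hG
  have hpp : p.Prime := Fact.out
  by_cases hab : IsMulCommutative (P : Subgroup G)
  · exact Or.inl hab
  right
  have hP1 : (P : Subgroup G) ≠ ⊥ := by
    intro h
    apply hab
    rw [h]
    exact ⟨⟨fun a b => Subsingleton.elim _ _⟩⟩
  have hpG : p ∣ Nat.card G := by
    obtain ⟨k, hk⟩ := IsPGroup.iff_card.1 P.2
    have hk0 : k ≠ 0 := by
      rintro rfl
      rw [pow_zero] at hk
      exact hP1 (Subgroup.card_eq_one.1 hk)
    have : p ∣ Nat.card (P : Subgroup G) := by rw [hk]; exact dvd_pow_self p hk0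
    exact this.trans (Subgroup.card_subgroup_dvd_card _)
  have hp2 : p ≠ 2 := by
    rintro rfl
    rw [Nat.odd_iff] at hodd
    omega
  have hfree := Cfsg.Agent.Lib.Helper68.OddRank2.not_involves_qd_of_odd hodd p hp2
  set U := Cfsg.centerThompsonAOf (P : Subgroup G) with hU
  have hU1 : U ≠ ⊥ := Cfsg.Agent.Lib.Helper68.OddRank2.centerThompsonAOf_ne_bot _ P.2 hP1
  have hUP : U ≤ (P : Subgroup G) := Cfsg.Agent.Lib.Helper68.OddRank2.centerThompsonAOf_le _
  set N := Subgroup.normalizer (U : Set G) with hN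
  have hcommtop : commutator G = ⊤ := by
    rcases (inferInstance : (commutator G).Normal).eq_bot_or_eq_top with h0 | h1
    · exfalso
      apply hnab
      refine ⟨⟨fun a b => ?_⟩⟩
      have : ⁅a, b⁆ ∈ commutator G := by
        rw [commutator_def]
        exact Subgroup.commutator_mem_commutator (Subgroup.mem_top a) (Subgroup.mem_top b)
      rw [h0, Subgroup.mem_bot, commutatorElement_eq_one_iff_mul_comm] at this
      exact this
    · exact h1
  have hNtop : N ≠ ⊤ := by
    intro h
    have hUn : U.Normal := Subgroup.normalizer_eq_top_iff.1 h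
    rcases hUn.eq_bot_or_eq_top with h0 | h1
    · exact hU1 h0
    · -- then `G` is a `p`-group
      have hPtop : (P : Subgroup G) = ⊤ := top_le_iff.1 (h1 ▸ hUP)
      have hGp : IsPGroup p G := by
        have := P.2
        rw [hPtop] at this
        exact IsPGroup.of_equiv this Subgroup.topEquiv
      have hnil : Group.IsNilpotent G := hGp.isNilpotent
      have hsolv : Group.IsSolvable G := inferInstance
      have := IsSimpleGroup.comm_iff_isSolvable.2 hsolv
      exact hnab ⟨⟨this⟩⟩
  have hNsolv : Group.IsSolvable ↥N := hmin N hNtop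
  have hctl := Cfsg.Agent.Lib.Helper68.OddRank2.control_ZJ hp2 hfree P
  have hsub : ∀ t ∈ (P : Subgroup G), ∀ u ∈ U, t * u * t⁻¹ ∈ U := by
    intro t ht u hu
    obtain ⟨x, hx, hxa⟩ := hctl (U : Set G) hUP t (by
      rintro _ ⟨v, hv, rfl⟩
      exact mul_mem (mul_mem ht (hUP hv)) (inv_mem ht))
    rw [hxa u hu]
    exact (Subgroup.mem_normalizer_iff.1 hx u).1 hu
  have hPN : (P : Subgroup G) ≤ N := by
    intro t ht
    rw [hN, Subgroup.mem_normalizer_iff]
    intro u
    constructor
    · exact hsub t ht u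
    · intro hu
      have := hsub t⁻¹ (inv_mem ht) _ hu
      have e : t⁻¹ * (t * u * t⁻¹) * t⁻¹⁻¹ = u := by group
      rwa [e] at this
  have hPcomm : (P : Subgroup G) ≤ ⁅N, N⁆ := by
    have hrf := Cfsg.Agent.Lib.Helper41.relative_focal (p := p) (L := (⊤ : Subgroup G))
      (M := (P : Subgroup G)) (D := ⁅N, N⁆) le_top P.2
      (by rw [Subgroup.relIndex_top_right]; exact P.not_dvd_index)
      (by
        intro x hx u _ hxu
        have h1 : u * x⁻¹ * u⁻¹ ∈ (P : Subgroup G) := by
          have : u * x⁻¹ * u⁻¹ = x⁻¹ * ⁅x, u⁆ := by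
            rw [commutatorElement_def]; group
          rw [this]
          exact mul_mem (inv_mem hx) hxu
        obtain ⟨n, hn, hna⟩ := hctl ({x⁻¹} : Set G) (by
            intro y hy
            rw [Set.mem_singleton_iff] at hy
            rw [hy]; exact inv_mem hx) u (by
            rintro _ ⟨y, hy, rfl⟩
            rw [Set.mem_singleton_iff] at hy
            rw [hy]; exact h1)
        have h2 := hna x⁻¹ rfl
        have h3 : ⁅x, u⁆ = ⁅x, n⁆ := by
          rw [commutatorElement_def, commutatorElement_def]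
          have e1 : x * u * x⁻¹ * u⁻¹ = x * (u * x⁻¹ * u⁻¹) := by group
          have e2 : x * n * x⁻¹ * n⁻¹ = x * (n * x⁻¹ * n⁻¹) := by group
          rw [e1, e2, h2]
        rw [h3]
        exact Subgroup.commutator_mem_commutator (hPN hx) hn)
    have h4 : (P : Subgroup G) ⊓ ⁅(⊤ : Subgroup G), ⊤⁆ = (P : Subgroup G) := by
      rw [← commutator_def, hcommtop, inf_top_eq]
    rw [h4] at hrf
    exact hrf
  -- pass to the group `N`
  set S : Sylow p ↥N := P.subtype hPN with hS
  have hScoe : (S : Subgroup ↥N) = (P : Subgroup G).subgroupOf N := Sylow.coe_subtype _ _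
  have hSmap : (S : Subgroup ↥N).map N.subtype = (P : Subgroup G) := by
    rw [hScoe, Subgroup.subgroupOf_map_subtype, inf_of_le_left hPN]
  have hSmem : ∀ y : ↥N, y ∈ (S : Subgroup ↥N) → (y : G) ∈ (P : Subgroup G) := by
    intro y hy
    rw [hScoe] at hy
    exact Subgroup.mem_subgroupOf.1 hy
  have hNodd : Odd (Nat.card ↥N) := by
    have h1 : Nat.card ↥N ∣ Nat.card G := Subgroup.card_subgroup_dvd_card N
    rw [Nat.odd_iff] at hodd ⊢
    by_contra h
    have h2 : 2 ∣ Nat.card ↥N := by omega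
    have h3 := h2.trans h1
    omega
  have hS1 : (S : Subgroup ↥N) ≠ ⊥ := by
    intro h
    apply hP1
    rw [← hSmap, h, Subgroup.map_bot]
  have hrS : Cfsg.PRankLE p 2 ↥(S : Subgroup ↥N) := by
    let f : ↥(S : Subgroup ↥N) →* ↥(P : Subgroup G) :=
      { toFun := fun x => ⟨(x.1 : G), hSmem x.1 x.2⟩
        map_one' := rfl
        map_mul' := fun _ _ => rfl }
    have hf : Function.Injective f := by
      intro a b hab'
      apply Subtype.ext
      apply Subtype.ext
      exact congrArg (fun z : ↥(P : Subgroup G) => (z : G)) hab'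
    exact Cfsg.Agent.Lib.Helper40.NarrowGlue.pRankLE_of_injective f hf hr
  have hSG : (S : Subgroup ↥N) ≤ commutator ↥N := by
    intro x hx
    have hx1 : (x : G) ∈ (P : Subgroup G) := hSmem x hx
    have hx2 : (x : G) ∈ ⁅N, N⁆ := hPcomm hx1
    rw [← Subgroup.map_subtype_commutator] at hx2
    obtain ⟨y, hy, hyx⟩ := hx2
    have : y = x := Subtype.ext hyx
    rwa [this] at hy
  obtain ⟨V₁, hV₁n, hV₁c, hV₁S⟩ :=
    Cfsg.Agent.Lib.Helper68.OddRank2.exists_coprime_action hNodd p S hS1 hrS hSG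
  set V : Subgroup G := V₁.map N.subtype with hV
  have hVcard : Nat.card V = Nat.card V₁ := Subgroup.card_map_of_injective N.subtype_injective
  have hVnorm : V ≤ Subgroup.normalizer ((P : Subgroup G) : Set G) := by
    have h1 : V ≤ (Subgroup.normalizer ((S : Subgroup ↥N) : Set ↥N)).map N.subtype :=
      Subgroup.map_mono hV₁n
    have h2 := Subgroup.le_normalizer_map (H := (S : Subgroup ↥N)) N.subtype
    rw [hSmap] at h2
    exact h1.trans h2
  have hVcop : (Nat.card V).Coprime p := by rw [hVcard]; exact hV₁c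
  have hVodd : Odd (Nat.card V) := by
    have h1 : Nat.card V ∣ Nat.card G := Subgroup.card_subgroup_dvd_card V
    rw [Nat.odd_iff] at hodd ⊢
    by_contra h
    have h2 : 2 ∣ Nat.card V := by omega
    have h3 := h2.trans h1
    omega
  have hPV : ⁅(P : Subgroup G), V⁆ = (P : Subgroup G) := by
    conv_lhs => rw [← hSmap]
    rw [hV, ← Subgroup.map_commutator, hV₁S, hSmap]
  obtain ⟨-, hstr⟩ := Cfsg.Agent.S1448.result p hp2 (P : Subgroup G) V P.2 hP1 hr hVnorm hVcop hVodd hPV
  rcases hstr with hab' | ⟨R₁, R₂, h1, h2, h3, h4, h5, h6, h7⟩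
  · exact absurd hab' hab
  refine ⟨R₁, R₂, h1, h2, h3, h4, h5, h6, ?_⟩
  rw [h7]
  have hnc : ∃ a b : ↥R₁, a * b ≠ b * a := by
    by_contra hcon
    push Not at hcon
    exact h3 ⟨⟨hcon⟩⟩
  have hcube := (Cfsg.Agent.Lib.Helper40.ExtraCase.cube_facts (H := ↥R₁) h4 hnc).2
  rw [← Subgroup.map_subtype_commutator, hcube]
  ext x
  constructor
  · rintro ⟨z, hz, rfl⟩
    refine ⟨z.2, ?_⟩
    show R₁.subtype z ∈ Subgroup.centralizer (R₁ : Set G)
    rw [Subgroup.mem_centralizer_iff]
    intro y hy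
    have hz' : z ∈ Subgroup.center ↥R₁ := hz
    have := Subgroup.mem_center_iff.1 hz' ⟨y, hy⟩
    exact congrArg Subtype.val this
  · rintro ⟨hx1, hx2⟩
    refine ⟨⟨x, hx1⟩, ?_, rfl⟩
    show (⟨x, hx1⟩ : ↥R₁) ∈ Subgroup.center ↥R₁
    rw [Subgroup.mem_center_iff]
    intro y
    apply Subtype.ext
    have hx2' : x ∈ Subgroup.centralizer (R₁ : Set G) := hx2
    exact Subgroup.mem_centralizer_iff.1 hx2' y.1 y.2

end Cfsg.Agent.S1412
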