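import Cfsg.Statements.S0058
import Cfsg.Agent.S1324
import Cfsg.Agent.Lib.Helper81.AbelianStruct

set_option autoImplicit false
open Cfsg

namespace Cfsg.Agent.S0058

open Cfsg.Agent.Lib.Helper81

theorem result_of_hyp {G : Type*} [Group G] [Finite G]
    (hyp : ∀ (p : ℕ) [Fact p.Prime] (A X : Subgroup G) (_ : Cfsg.IsElementaryAbelian p A)
      (_ : p ^ 2 ≤ Nat.card ↥A) (_ : ¬ p ∣ Nat.card ↥X)
      (_ : A ≤ Subgroup.normalizer (X : Set G)),
      X = ⨆ B : {B : Subgroup G // B ≤ A ∧ B.relIndex A ≤ p},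
        X ⊓ Subgroup.centralizer ((B : Subgroup G) : Set G))
    (A K : Subgroup G)
    [IsMulCommutative A] (hA : ¬ IsCyclic A) (hAK : A ≤ Subgroup.normalizer (K : Set G))
    (hcop : (Nat.card A).Coprime (Nat.card K)) :
    (⨆ a ∈ {a : G | a ∈ A ∧ a ≠ 1}, K ⊓ Subgroup.centralizer {a}) = K := by
  apply le_antisymm
  · exact iSup₂_le fun a _ => inf_le_left
  obtain ⟨p, hp, E, hEA, hexp, hcard⟩ := exists_exponent_prime_subgroup A hA
  have : Fact p.Prime := ⟨hp⟩
  have hEel : Cfsg.IsElementaryAbelian p E := by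
    refine ⟨⟨⟨fun x y => ?_⟩⟩, hexp⟩
    have := mul_comm' (⟨x.1, hEA x.2⟩ : A) ⟨y.1, hEA y.2⟩
    have h2 := congrArg Subtype.val this
    exact Subtype.ext (by simpa using h2)
  have hpE : p ∣ Nat.card E := by
    have h1 : 0 < Nat.card E := Nat.card_pos
    exact (dvd_pow_self p two_ne_zero).trans (by
      have hpg : IsPGroup p E := by
        intro x
        exact ⟨1, by rw [pow_one]; exact Subtype.ext (by simpa using hexp x.1 x.2)⟩
      obtain ⟨k, hk⟩ := IsPGroup.iff_card.mp hpg
      rw [hk] at hcard ⊢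
      exact pow_dvd_pow p ((Nat.pow_le_pow_iff_right hp.one_lt).mp hcard))
  have hpK : ¬ p ∣ Nat.card K := by
    intro hK
    have hpA : p ∣ Nat.card A := hpE.trans (Subgroup.card_dvd_of_le hEA)
    have := Nat.dvd_gcd hpA hK
    rw [hcop] at this
    exact hp.one_lt.ne' (Nat.dvd_one.mp this)
  have key := hyp p E K hEel hcard hpK (hEA.trans hAK)
  refine key.le.trans ?_
  apply iSup_le
  rintro ⟨B, hBE, hBidx⟩
  -- B is nontrivial
  have hBcard : p ≤ Nat.card B := by
    have h1 : B.relIndex E * Nat.card B = Nat.card E := by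
      have := Subgroup.relIndex_mul_relIndex (⊥ : Subgroup G) B E bot_le hBE
      rw [Subgroup.relIndex_bot_left, Subgroup.relIndex_bot_left] at this
      rw [mul_comm]; exact this
    have h2 : p ^ 2 ≤ p * Nat.card B := by
      calc p ^ 2 ≤ Nat.card E := hcard
        _ = B.relIndex E * Nat.card B := h1.symm
        _ ≤ p * Nat.card B := Nat.mul_le_mul_right _ hBidx
    rw [sq] at h2
    exact Nat.le_of_mul_le_mul_left h2 hp.pos
  have hBne : B ≠ ⊥ := by
    intro h
    rw [h, Subgroup.card_bot] at hBcard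
    exact absurd hBcard (by have := hp.two_le; omega)
  obtain ⟨b, hbB, hb1⟩ := (Subgroup.ne_bot_iff_exists_ne_one).mp hBne |> fun ⟨x, hx⟩ =>
    (⟨x.1, x.2, fun h => hx (Subtype.ext h)⟩ : ∃ b ∈ B, b ≠ 1)
  have hle : K ⊓ Subgroup.centralizer ((B : Subgroup G) : Set G) ≤
      K ⊓ Subgroup.centralizer {b} :=
    inf_le_inf_left _ (Subgroup.centralizer_le (by
      intro x hx
      rw [Set.mem_singleton_iff] at hx
      subst hx
      exact hbB))
  exact hle.trans (le_iSup₂_of_le b ⟨hEA (hBE hbB), hb1⟩ le_rfl)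

/-- Generation by centralisers: when a noncyclic abelian group A normalises K with coprime orders, K is generated by the fixed-point subgroups of the nonidentity elements of A. -/
theorem result {G : Type*} [Group G] [Finite G] (A K : Subgroup G)
    [IsMulCommutative A] (hA : ¬ IsCyclic A) (hAK : A ≤ Subgroup.normalizer (K : Set G)) (hcop : (Nat.card A).Coprime (Nat.card K)) :
    (⨆ a ∈ {a : G | a ∈ A ∧ a ≠ 1}, K ⊓ Subgroup.centralizer {a}) = K :=
  result_of_hyp (fun p _ A X h1 h2 h3 h4 => Cfsg.Agent.S1324.result p A X h1 h2 h3 h4) A K hA hAK hcop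

end Cfsg.Agent.S0058
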