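import Cfsg.Statements.S1394
import Cfsg.Agent.Lib.Helper31.TransRank
import Cfsg.Agent.S0058

set_option autoImplicit false
open Cfsg

namespace Cfsg.Agent.S1394

open Cfsg.Agent.Lib.Helper31
open scoped Pointwise

/-- Let G be a minimal simple group of odd order, A a subgroup satisfying the transitivity hypothesis whose centre has rank at least 2, K = O_{π(A)'}(C_G(A)), and q a prime dividing the order of C_G(A) but not that of A. Then any two maximal A-invariant q-subgroups of G are conjugate by an element of K. -/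
theorem result {G : Type*} [Group G] [Finite G] (hG : Cfsg.IsMinSimpleOddOrder G)
    (A : Subgroup G) (hA : Cfsg.TransitivityHypothesis A) (hZ : ¬ Cfsg.RankLE 1 ↥(A ⊓ Subgroup.centralizer (A : Set G)))
    (q : ℕ) (hq : q.Prime) (hqA : ¬ q ∣ Nat.card A) (hqC : q ∣ Nat.card (Subgroup.centralizer (A : Set G))) :
    ∀ Q₁ ∈ Cfsg.maxInvSubgroups ⊤ A {q}, ∀ Q₂ ∈ Cfsg.maxInvSubgroups ⊤ A {q}, ∃ k ∈ Cfsg.piCoreOf (Cfsg.primesNotDvd (Nat.card A)) (Subgroup.centralizer (A : Set G)), Q₂ = Q₁.map (MulAut.conj k).toMonoidHom := by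
  have : Fact q.Prime := ⟨hq⟩
  have hMS : IsMinimalSimple G := hG.2
  have hS : IsSimpleGroup G := hMS.1
  obtain ⟨p, E, hp, hEZ, hEel, hEcard⟩ := exists_elemAb_of_not_rankLE _ 1 hZ
  rw [pow_one] at hEcard
  have hEA : E ≤ A := hEZ.trans inf_le_left
  have hEC : E ≤ Subgroup.centralizer (A : Set G) := hEZ.trans inf_le_right
  have hEcomm : IsMulCommutative E := hEel.1
  have hEnc : ¬ IsCyclic E := not_isCyclic_of_exp p hp E hEel.2 hEcard
  -- a nontrivial `A`-invariant `q`-subgroup centralized by `A`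
  obtain ⟨S⟩ : Nonempty (Sylow q (Subgroup.centralizer (A : Set G))) := inferInstance
  obtain ⟨Q₀, hQ₀def⟩ : ∃ Q₀ : Subgroup G,
      Q₀ = (S : Subgroup (Subgroup.centralizer (A : Set G))).map (Subgroup.subtype _) := ⟨_, rfl⟩
  have hQ₀C : Q₀ ≤ Subgroup.centralizer (A : Set G) := hQ₀def ▸ Subgroup.map_subtype_le _
  have hQ₀q : IsPGroup q Q₀ := hQ₀def ▸ S.isPGroup'.map _
  have hQ₀ne : Q₀ ≠ ⊥ := by
    rw [hQ₀def]
    intro h
    rw [Subgroup.map_eq_bot_iff_of_injective _ (Subgroup.subtype_injective _)] at h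
    exact Sylow.ne_bot_of_dvd_card S hqC h
  have hQ₀inv : Q₀ ∈ invSubgroups ⊤ A {q} :=
    mem_invSubgroups_of_isPGroup q A Q₀ hQ₀q (le_normalizer_of_le_centralizer A Q₀ hQ₀C)
  obtain ⟨Qs, hQs, hQ₀Qs⟩ := exists_maxInv_ge A {q} Q₀ hQ₀inv
  have key : ∀ Q ∈ maxInvSubgroups ⊤ A {q}, ∃ k ∈ KK A, Q = MulAut.conj k • Qs := by
    intro Q hQ
    have hQne : Q ≠ ⊥ := by
      intro h
      apply hQ₀ne
      have := hQ.2 Q₀ hQ₀inv (by rw [h]; exact bot_le)
      rw [this, h]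
    have hqQ : IsPGroup q Q := isPGroup_of_forall_prime q Q hQ.1.2.1
    have hcop : (Nat.card E).Coprime (Nat.card Q) :=
      (Nat.Coprime.coprime_dvd_right (Subgroup.card_dvd_of_le hEA)
        (coprime_of_isPGroup q Q A hqQ hqA)).symm
    have hgen := Cfsg.Agent.S0058.result E Q hEnc (hEA.trans hQ.1.2.2) hcop
    obtain ⟨a, ha, hane⟩ : ∃ a ∈ {a : G | a ∈ E ∧ a ≠ 1}, Q ⊓ Subgroup.centralizer {a} ≠ ⊥ := by
      by_contra hcon
      push Not at hcon
      apply hQne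
      rw [← hgen, eq_bot_iff]
      exact iSup₂_le fun a ha => (hcon a ha).le
    have haC : a ∈ Subgroup.centralizer (A : Set G) := hEC ha.1
    have hQsne : Qs ⊓ Subgroup.centralizer {a} ≠ ⊥ := by
      intro h
      apply hQ₀ne
      rw [eq_bot_iff, ← h]
      refine le_inf hQ₀Qs (hQ₀C.trans (Subgroup.centralizer_le ?_))
      intro x hx
      rw [Set.mem_singleton_iff] at hx
      subst hx
      exact hEA ha.1
    exact conj_of_common_elt hMS hA q hqA Qs Q hQs hQ a haC ha.2 hQsne hane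
  intro Q₁ h₁ Q₂ h₂
  obtain ⟨k₁, hk₁, e₁⟩ := key Q₁ h₁
  obtain ⟨k₂, hk₂, e₂⟩ := key Q₂ h₂
  refine ⟨k₂ * k₁⁻¹, mul_mem hk₂ (inv_mem hk₁), ?_⟩
  show Q₂ = MulAut.conj (k₂ * k₁⁻¹) • Q₁
  rw [e₁, e₂, Cfsg.Agent.Lib.Helper01.conj_smul_conj_smul, inv_mul_cancel_right]

end Cfsg.Agent.S1394
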