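import Mathlib
import Cfsg.Statements.S1442
import Cfsg.Agent.Lib.Helper32.Coprime

set_option autoImplicit false
open Cfsg
open scoped commutatorElement

namespace Cfsg.Agent.S1442

open Cfsg.Agent.Lib.Helper32

/-- Let G be a finite group, H a nilpotent subgroup and A a subgroup normalizing H with the orders of A and H coprime. Put C = H ∩ C_G(A). If H ∩ C_G(C) ≤ C then A centralizes H. -/
theorem result {G : Type*} [Group G] [Finite G] (H A : Subgroup G) (hH : Group.IsNilpotent H) (hA : (A ≤ Subgroup.normalizer (H : Set G))) (hcop : (Nat.card A).Coprime (Nat.card H))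
    (hC : H ⊓ Subgroup.centralizer (((H ⊓ Subgroup.centralizer (A : Set G)) : Subgroup G) : Set G) ≤ (H ⊓ Subgroup.centralizer (A : Set G))) :
    A ≤ Subgroup.centralizer (H : Set G) := by
  set C := H ⊓ Subgroup.centralizer (A : Set G) with hCdef
  suffices hHC : H ≤ C by
    intro a ha
    rw [Subgroup.mem_centralizer_iff]
    intro h hh
    have := (hHC hh).2
    rw [Subgroup.coe_toSubmonoid, SetLike.mem_coe, Subgroup.mem_centralizer_iff] at this
    exact (this a ha).symm
  by_contra hne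
  have hCH : C ≤ H := inf_le_left
  have hCA : C ≤ Subgroup.centralizer (A : Set G) := inf_le_right
  have hnc := Group.normalizerCondition_of_isNilpotent (G := H)
  have hlt : C.subgroupOf H < ⊤ := by
    rw [lt_top_iff_ne_top, Ne, Subgroup.subgroupOf_eq_top]
    exact hne
  have h2 := hnc _ hlt
  rw [← Subgroup.subgroupOf_normalizer_eq hCH] at h2
  obtain ⟨h, hhN, hhC⟩ := SetLike.exists_of_lt h2
  rw [Subgroup.mem_subgroupOf] at hhN hhC
  set N := H ⊓ Subgroup.normalizer (C : Set G) with hNdef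
  have hCN : C ≤ N := le_inf hCH Subgroup.le_normalizer
  have hNH : N ≤ H := inf_le_left
  have hCNC : ⁅C, N⁆ ≤ C :=
    Subgroup.le_normalizer_iff_commutator_le_left.1 (inf_le_right : N ≤ Subgroup.normalizer (C : Set G))
  have hAC : ⁅A, C⁆ = ⊥ := by
    rw [Subgroup.commutator_comm, Subgroup.commutator_eq_bot_iff_le_centralizer]
    exact hCA
  have h3 : ⁅⁅N, A⁆, C⁆ = ⊥ := by
    apply Subgroup.commutator_commutator_eq_bot_of_rotate
    · rw [hAC, Subgroup.commutator_bot_left]
    · rw [eq_bot_iff]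
      calc ⁅⁅C, N⁆, A⁆ ≤ ⁅C, A⁆ := Subgroup.commutator_mono hCNC le_rfl
        _ = ⊥ := by rw [Subgroup.commutator_comm, hAC]
  have h4 : ⁅N, A⁆ ≤ H := by
    calc ⁅N, A⁆ ≤ ⁅H, A⁆ := Subgroup.commutator_mono hNH le_rfl
      _ ≤ H := Subgroup.le_normalizer_iff_commutator_le_left.1 hA
  have h5 : ⁅N, A⁆ ≤ C :=
    le_trans (le_inf h4 (Subgroup.commutator_eq_bot_iff_le_centralizer.1 h3)) hC
  have hcopN : (Nat.card A).Coprime (Nat.card N) :=
    Nat.Coprime.coprime_dvd_right (Subgroup.card_dvd_of_le hNH) hcop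
  have h6 : N ≤ Subgroup.centralizer (A : Set G) := le_centralizer_of_stable N C A h5 hCA hCN hcopN
  exact hhC ⟨h.2, h6 ⟨h.2, hhN⟩⟩

end Cfsg.Agent.S1442
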