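import Mathlib
import Cfsg.Statements.S1443
import Cfsg.Agent.Lib.Helper32.OddFix
import Cfsg.Agent.S1442

set_option autoImplicit false
open Cfsg
open scoped commutatorElement

namespace Cfsg.Agent.S1443

open Cfsg.Agent.Lib.Helper32

/-- Let G be a finite group, p an odd prime, H a p-subgroup, E an elementary abelian subgroup of H, and A a subgroup of order coprime to p normalizing H. If A centralizes every element of order p in H ∩ C_G(E), then A centralizes H. -/
theorem result {G : Type*} [Group G] [Finite G] (p : ℕ) [Fact p.Prime] (hp : p ≠ 2) (H E A : Subgroup G) (hH : IsPGroup p H) (hE : E ≤ H) (hEe : Cfsg.IsElementaryAbelian p E)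
    (hA : (A ≤ Subgroup.normalizer (H : Set G))) (hcop : (Nat.card A).Coprime p)
    (hfix : ∀ x ∈ (H ⊓ Subgroup.centralizer (E : Set G)), orderOf x = p → A ≤ Subgroup.centralizer ({x} : Set G)) :
    A ≤ Subgroup.centralizer (H : Set G) := by
  have hpp : p.Prime := Fact.out
  set D := H ⊓ Subgroup.centralizer (E : Set G) with hDdef
  have hfix' : ∀ x ∈ D, x ^ p = 1 → x ∈ Subgroup.centralizer (A : Set G) := by
    intro x hx hxp
    by_cases h1 : x = 1
    · rw [h1]; exact one_mem _
    · have ho : orderOf x = p := orderOf_eq_prime hxp h1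
      have h2 := hfix x hx ho
      rw [Subgroup.mem_centralizer_iff]
      intro a ha
      have h3 := h2 ha
      rw [Subgroup.mem_centralizer_iff] at h3
      exact (h3 x rfl).symm
  have hEc : E ≤ Subgroup.centralizer (E : Set G) :=
    Subgroup.le_centralizer_iff_isMulCommutative.2 hEe.1
  have hED : E ≤ D := le_inf hE hEc
  have hEA : E ≤ Subgroup.centralizer (A : Set G) := fun x hx => hfix' x (hED hx) (hEe.2 x hx)
  have hAD : A ≤ Subgroup.normalizer (D : Set G) := by
    rw [Subgroup.le_normalizer_iff]
    intro a ha x hx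
    refine ⟨((hA ha) x).1 hx.1, ?_⟩
    rw [Subgroup.coe_toSubmonoid, SetLike.mem_coe, Subgroup.mem_centralizer_iff]
    intro e he
    have h1 := hx.2
    rw [Subgroup.coe_toSubmonoid, SetLike.mem_coe, Subgroup.mem_centralizer_iff] at h1
    have h2 := hEA he
    rw [Subgroup.mem_centralizer_iff] at h2
    have h3 : a * e = e * a := h2 a ha
    have h4 : e * x = x * e := h1 e he
    have h5 : a⁻¹ * e = e * a⁻¹ := by
      rw [eq_mul_inv_iff_mul_eq, mul_assoc, ← h3, inv_mul_cancel_left]
    calc e * (a * x * a⁻¹) = (e * a) * x * a⁻¹ := by group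
      _ = a * (e * x) * a⁻¹ := by rw [← h3]; group
      _ = a * x * (e * a⁻¹) := by rw [h4]; group
      _ = a * x * a⁻¹ * e := by rw [← h5]; group
  have hDA : D ≤ Subgroup.centralizer (A : Set G) :=
    centralizes_of_fixes_order_p p hp A hcop _ D rfl (hH.to_le inf_le_left) hAD hfix'
  have hHn : Group.IsNilpotent H := hH.isNilpotent
  have hcopH : (Nat.card A).Coprime (Nat.card H) := by
    obtain ⟨k, hk⟩ := IsPGroup.iff_card.1 hH
    rw [hk]; exact Nat.Coprime.pow_right _ hcop
  apply Cfsg.Agent.S1442.result H A hHn hA hcopH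
  have h1 : E ≤ H ⊓ Subgroup.centralizer (A : Set G) := le_inf hE hEA
  have h2 : Subgroup.centralizer ((H ⊓ Subgroup.centralizer (A : Set G) : Subgroup G) : Set G)
      ≤ Subgroup.centralizer (E : Set G) := Subgroup.centralizer_le h1
  exact le_inf inf_le_left ((inf_le_inf_left H h2).trans hDA)

end Cfsg.Agent.S1443
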