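import Cfsg.Statements.S0064

set_option autoImplicit false
open Cfsg

namespace Cfsg.Agent.S0064

theorem subnormal_of_nilpotent {G : Type*} [Group G] [Finite G] [Group.IsNilpotent G] :
    ∀ (n : ℕ) (H : Subgroup G), H.index = n → H.IsSubnormal := by
  have hnc : NormalizerCondition G := Group.normalizerCondition_of_isNilpotent
  intro n
  induction n using Nat.strong_induction_on with
  | _ n ih =>
    intro H hn
    by_cases hH : H = ⊤
    · subst hH; exact Subgroup.IsSubnormal.top
    · have hlt : H < Subgroup.normalizer (H : Set G) := hnc H (lt_top_iff_ne_top.mpr hH)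
      have hidx : (Subgroup.normalizer (H : Set G)).index < n := by
        rw [← hn]
        exact Subgroup.index_strictAnti hlt
      have hsub := ih _ hidx (Subgroup.normalizer (H : Set G)) rfl
      exact Subgroup.IsSubnormal.step H _ hlt.le hsub Subgroup.normal_in_normalizer

/-- A finite group is nilpotent exactly when each of its subgroups is subnormal. -/
theorem result {G : Type*} [Group G] [Finite G] :
    Group.IsNilpotent G ↔ ∀ H : Subgroup G, H.IsSubnormal := by
  constructor
  · intro hG H
    exact subnormal_of_nilpotent _ H rfl
  · intro h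
    refine (Group.isNilpotent_of_finite_tfae (G := G)).out 1 0 |>.mp ?_
    intro H hH
    obtain h1 | ⟨K, hHK, -, hN⟩ := Subgroup.IsSubnormal.iff_eq_top_or_exists.mp (h H)
    · exact absurd h1 hH.ne
    · have hK : K ≤ Subgroup.normalizer (H : Set G) :=
        (Subgroup.normal_subgroupOf_iff_le_normalizer hHK.le).mp hN
      exact lt_of_lt_of_le hHK hK

end Cfsg.Agent.S0064
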