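import Cfsg.Statements.S1417
import Cfsg.Agent.S1416
import Cfsg.Agent.Lib.Helper71.BG11f
import Cfsg.Agent.Lib.Helper91.BG125e

set_option autoImplicit false
open Cfsg

namespace Cfsg.Agent.S1417

open Cfsg.Agent.Lib.Helper71.BG11 Cfsg.Agent.Lib.Helper55 in
/-- Let G be a minimal simple group of odd order, M a maximal subgroup, p ∈ τ₂(M) and A ≤ M elementary abelian of order p ^ 2. Then (a) M_σ is nilpotent; (b) every Sylow p-subgroup P of M is abelian, and if A ≤ P then the elements of P of order dividing p are exactly those of A and N_G(P) is not contained in M; (c) M normalizes M_σA; (d) M_σ ∩ C_G(A) = 1; (e) M_σ ∩ M* = 1 for every maximal subgroup M* ≠ M containing A; (f) M_σ ∩ C_G(A₁) = 1 for some subgroup A₁ ≤ A of order p. -/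
theorem result {G : Type*} [Group G] [Finite G] (hG : Cfsg.IsMinSimpleOddOrder G)
    (M : Subgroup G) (hM : IsCoatom M) (p : ℕ) [Fact p.Prime] (hp : p ∈ Cfsg.tau2 M) (A : Subgroup G) (hA : (A ≤ M ∧ Cfsg.IsElementaryAbelian p A ∧ Nat.card A = p ^ 2)) :
    Group.IsNilpotent (Cfsg.sigmaCore M) ∧
      (∀ P : Sylow p M, IsMulCommutative (P : Subgroup M) ∧
        (A ≤ (P : Subgroup M).map M.subtype →
          (∀ x ∈ (P : Subgroup M).map M.subtype, x ^ p = 1 ↔ x ∈ A) ∧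
          ¬ Subgroup.normalizer ((((P : Subgroup M).map M.subtype : Subgroup G)) : Set G) ≤ M)) ∧
      M ≤ Subgroup.normalizer ((Cfsg.sigmaCore M ⊔ A : Subgroup G) : Set G) ∧
      Cfsg.sigmaCore M ⊓ Subgroup.centralizer (A : Set G) = ⊥ ∧
      (∀ Mstar : Subgroup G, IsCoatom Mstar → Mstar ≠ M → A ≤ Mstar → Cfsg.sigmaCore M ⊓ Mstar = ⊥) ∧
      ∃ A₁ : Subgroup G, A₁ ≤ A ∧ Nat.card A₁ = p ∧ Cfsg.sigmaCore M ⊓ Subgroup.centralizer (A₁ : Set G) = ⊥ := by
  have hL := leaves hG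
  have h124 : ∀ L : Subgroup G, IsCoatom L → A ≤ L → Cfsg.Agent.Lib.Helper91.BG125.Hyp124b L p A :=
    fun L hL hAL => (Cfsg.Agent.S1416.result hG L hL p A ⟨hAL, hA.2.1, hA.2.2⟩).2
  obtain ⟨A1, h1, h2, h3, -⟩ :=
    Cfsg.Agent.Lib.Helper91.BG125.exists_good_of_hyp124b (h124 M hM hA.1) hp.2.1
  refine tau2_structure hG hM hp hA ⟨A1, h1, h2, h3⟩ hL.h116
    (fun A1 h => h.le_normalizer_sup hG hL) ?_
  intro A1 h Mstar hMs hne hAM
  obtain ⟨P0, hP0, hAP0⟩ := exists_isSylowIn_ge h.le h.isPGroup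
  exact Cfsg.Agent.Lib.Helper91.BG125.sigmaCore_inf_eq_bot' hG h
    (hL.h116 M A A1 p h P0 hP0 hAP0).cent (fun L A2 hE => hE.le_normalizer_sup hG hL) h124 hMs hne hAM

end Cfsg.Agent.S1417
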