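import Cfsg.Statements.S1407
import Cfsg.Agent.S1405
import Cfsg.Agent.Lib.Helper15.BG103D
import Cfsg.Agent.S1398
import Cfsg.Agent.Lib.Helper31.Bg10a
import Cfsg.Agent.Lib.Helper31.Bg10b
import Cfsg.Agent.Lib.Helper71.BG10Hall

set_option autoImplicit false
open Cfsg

namespace Cfsg.Agent.S1407

open Cfsg.Agent.Lib.Helper71.BG10 Cfsg.Agent.Lib.Helper31 Cfsg.Agent.Lib.Helper55

/-- the elements of order dividing `p` in the centre of `T` -/
def omZ {G : Type*} [Group G] (p : ℕ) (T : Subgroup G) : Subgroup G where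
  carrier := {x | x ∈ T ∧ (∀ t ∈ T, t * x = x * t) ∧ x ^ p = 1}
  one_mem' := ⟨T.one_mem, fun t _ => by simp, one_pow p⟩
  mul_mem' := by
    rintro a b ⟨ha, hac, hap⟩ ⟨hb, hbc, hbp⟩
    refine ⟨T.mul_mem ha hb, fun t ht => ?_, ?_⟩
    · rw [← mul_assoc, hac t ht, mul_assoc, hbc t ht, mul_assoc]
    · have hab : Commute a b := (hbc a ha)
      rw [hab.mul_pow, hap, hbp, one_mul]
  inv_mem' := by
    rintro a ⟨ha, hac, hap⟩
    refine ⟨T.inv_mem ha, fun t ht => ?_, by rw [inv_pow, hap, inv_one]⟩
    have := hac t ht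
    calc t * a⁻¹ = a⁻¹ * (a * t) * a⁻¹ := by group
      _ = a⁻¹ * (t * a) * a⁻¹ := by rw [this]
      _ = a⁻¹ * t := by group

theorem omZ_le {G : Type*} [Group G] (p : ℕ) (T : Subgroup G) : omZ p T ≤ T := fun _ hx => hx.1

theorem normalizer_le_normalizer_omZ {G : Type*} [Group G] (p : ℕ) (T : Subgroup G) :
    Subgroup.normalizer (T : Set G) ≤ Subgroup.normalizer (omZ p T : Set G) := by
  have key : ∀ n ∈ Subgroup.normalizer (T : Set G), ∀ x ∈ omZ p T, n * x * n⁻¹ ∈ omZ p T := by
    intro n hn x hx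
    rw [Subgroup.mem_normalizer_iff] at hn
    refine ⟨(hn x).mp hx.1, fun t ht => ?_, ?_⟩
    · have h1 : n⁻¹ * t * n ∈ T := by
        rw [hn]; simpa [mul_assoc] using ht
      have h2 := hx.2.1 _ h1
      calc t * (n * x * n⁻¹) = n * ((n⁻¹ * t * n) * x) * n⁻¹ := by group
        _ = n * (x * (n⁻¹ * t * n)) * n⁻¹ := by rw [h2]
        _ = n * x * n⁻¹ * t := by group
    · rw [conj_pow, hx.2.2]; group
  intro n hn
  rw [Subgroup.mem_normalizer_iff]
  intro x
  constructor
  · exact key n hn x
  · intro h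
    have := key n⁻¹ ((Subgroup.normalizer (T : Set G)).inv_mem hn) _ h
    simpa [mul_assoc] using this

/-- Let G be a minimal simple group of odd order, M a maximal subgroup with M_α ≠ 1, p a prime dividing the order of M but not in σ(M), and P a Sylow p-subgroup of M. Then there is an element x of order p in the centre of P such that M_α ∩ C_G(x) has all Sylow subgroups cyclic and M is not the unique maximal subgroup of G containing C_G(x). -/
theorem result {G : Type*} [Group G] [Finite G] (hG : Cfsg.IsMinSimpleOddOrder G)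
    (M : Subgroup G) (hM : IsCoatom M) (hMα : Cfsg.alphaCore M ≠ ⊥) (p : ℕ) [Fact p.Prime] (hpM : p ∣ Nat.card M) (hp : p ∉ Cfsg.sigma M) (P : Sylow p M) :
    ∃ x : G, x ∈ ((Subgroup.center ↥(P : Subgroup M)).map (P : Subgroup M).subtype).map M.subtype ∧ orderOf x = p ∧
        IsZGroup ↥(Cfsg.alphaCore M ⊓ Subgroup.centralizer ({x} : Set G)) ∧
        ¬ (Subgroup.centralizer ({x} : Set G) ≤ M ∧ ∀ L : Subgroup G, IsCoatom L → Subgroup.centralizer ({x} : Set G) ≤ L → L = M) := by
  have hpp : p.Prime := Fact.out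
  set T : Subgroup G := (P : Subgroup M).map M.subtype with hTdef
  have hT : IsSylowIn p M T := isSylowIn_of_sylow P
  have hT1 : T ≠ ⊥ := sylow_ne_bot hpM hT
  have hNT : ¬ Subgroup.normalizer (T : Set G) ≤ M := fun h =>
    hp (Bg10.mem_sigma_of_normalizer_le hT hT1 h)
  -- membership in the centre of `P`, mapped to `G`
  have hcen : ∀ x : G, x ∈ T → (∀ t ∈ T, t * x = x * t) →
      x ∈ ((Subgroup.center ↥(P : Subgroup M)).map (P : Subgroup M).subtype).map M.subtype := by
    intro x hxT hxc
    obtain ⟨y, hyP, rfl⟩ := hxT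
    refine ⟨y, ⟨⟨y, hyP⟩, ?_, rfl⟩, rfl⟩
    refine SetLike.mem_coe.mpr (Subgroup.mem_center_iff.mpr ?_)
    rintro ⟨t, ht⟩
    apply Subtype.ext
    apply Subtype.ext
    have := hxc (t : G) ⟨t, ht, rfl⟩
    simpa using this
  -- Step A: some central element of order `p` whose centralizer is not a uniqueness subgroup for `M`
  have hA : ∃ x ∈ T, (∀ t ∈ T, t * x = x * t) ∧ orderOf x = p ∧
      ¬ (Subgroup.centralizer ({x} : Set G) ≤ M ∧ ∀ L : Subgroup G, IsCoatom L →
        Subgroup.centralizer ({x} : Set G) ≤ L → L = M) := by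
    by_contra hcon
    push Not at hcon
    have hall : ∀ x ∈ omZ p T, x ≠ 1 → Subgroup.centralizer ({x} : Set G) ≤ M ∧
        ∀ L : Subgroup G, IsCoatom L → Subgroup.centralizer ({x} : Set G) ≤ L → L = M := by
      intro x hx hx1
      have hox : orderOf x = p := orderOf_eq_prime hx.2.2 hx1
      have := hcon x hx.1 hx.2.1 hox
      exact ⟨this.1, this.2⟩
    have hZM : omZ p T ≤ M := (omZ_le p T).trans hT.1
    have hZel : IsElementaryAbelian p (omZ p T) := by
      refine ⟨⟨⟨fun a b => Subtype.ext ?_⟩⟩, fun a ha => ha.2.2⟩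
      exact (b.2.2.1 a a.2.1)
    obtain ⟨z, hzT, hzo, hzc⟩ := Bg10.exists_central_order_p hT.2.1 hT1
    have hzZ : z ∈ omZ p T := ⟨hzT, hzc, by rw [← hzo]; exact pow_orderOf_eq_one z⟩
    have hz1 : z ≠ 1 := by
      rintro rfl
      rw [orderOf_one] at hzo
      exact hpp.one_lt.ne hzo
    have hZ1 : omZ p T ≠ ⊥ := by
      intro h
      rw [h, Subgroup.mem_bot] at hzZ
      exact hz1 hzZ
    by_cases hcyc : IsCyclic (omZ p T)
    · -- cyclic: `N_G(T) ≤ N_G(Z) ≤ M`
      apply hNT
      refine (normalizer_le_normalizer_omZ p T).trans ?_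
      have hZtop : omZ p T ≠ ⊤ := ms_pgroup_ne_top hG (isPGroup_of_pow_eq_one (fun a ha => ha.2.2))
      obtain ⟨L, hL, hNL⟩ := ms_exists_coatom_ge (ms_normalizer_ne_top hG hZ1 hZtop)
      have hCN : Subgroup.centralizer ({z} : Set G) ≤ Subgroup.normalizer (omZ p T : Set G) := by
        obtain ⟨g, hg⟩ := hcyc.exists_zpow_surjective
        intro c hc
        rw [Subgroup.mem_normalizer_iff]
        -- every element of the cyclic group `Z` of order `p` is a power of `z`
        have hcard : Nat.card (omZ p T) = p := by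
          have h1 : Nat.card (omZ p T) ∣ p := by
            have hexp : Monoid.exponent (omZ p T) ∣ p := by
              apply Monoid.exponent_dvd_of_forall_pow_eq_one
              intro a
              exact Subtype.ext a.2.2.2
            rw [← IsCyclic.exponent_eq_card]
            exact hexp
          rcases (Nat.dvd_prime hpp).mp h1 with h2 | h2
          · exact absurd (Subgroup.card_eq_one.mp h2) hZ1
          · exact h2
        have hzgen : ∀ a ∈ omZ p T, a ∈ Subgroup.zpowers z := by
          intro a ha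
          have h3 : Subgroup.zpowers z ≤ omZ p T := by rw [Subgroup.zpowers_le]; exact hzZ
          have h4 : Nat.card (Subgroup.zpowers z) = p := by rw [Nat.card_zpowers, hzo]
          have h5 : Subgroup.zpowers z = omZ p T :=
            Subgroup.eq_of_le_of_card_ge h3 (by rw [h4, hcard])
          rw [h5]; exact ha
        have hcz : ∀ a ∈ omZ p T, c * a * c⁻¹ = a := by
          intro a ha
          obtain ⟨k, rfl⟩ := Subgroup.mem_zpowers_iff.mp (hzgen a ha)
          have h6 : c * z = z * c := by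
            rw [Subgroup.mem_centralizer_iff] at hc
            exact (hc z rfl).symm
          have h7 : Commute c z := h6
          have h8 : Commute c (z ^ k) := h7.zpow_right k
          calc c * z ^ k * c⁻¹ = z ^ k * c * c⁻¹ := by rw [h8.eq]
            _ = z ^ k := by group
        intro a
        constructor
        · intro ha; rw [hcz a ha]; exact ha
        · intro ha
          have h9 := hcz _ ha
          have h10 : c * a * c⁻¹ = c * (c * a * c⁻¹) * c⁻¹ → a = c * a * c⁻¹ := by
            intro h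
            have := congrArg (fun t => c⁻¹ * t * c) h
            simpa [mul_assoc] using this
          rw [h10 h9.symm]; exact ha
      have hLM : L = M := (hall z hzZ hz1).2 L hL (hCN.trans hNL)
      exact hLM ▸ hNL
    · -- noncyclic: `Z` is a uniqueness subgroup by BG 9.1, so `p ∈ σ(M)`
      have hU := Cfsg.Agent.S1398.result hG M hM p (omZ p T) hZM hZel hcyc
        (Or.inl fun b hb hb1 => (hall b hb hb1).1)
      exact hp (Bg10.mem_sigma_of_uniq hG hM hZM (isPGroup_of_pow_eq_one (fun a ha => ha.2.2)) hZ1 hU)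
  obtain ⟨x, hxT, hxc, hxo, hxU⟩ := hA
  have hx1 : x ≠ 1 := by
    rintro rfl
    rw [orderOf_one] at hxo
    exact hpp.one_lt.ne hxo
  refine ⟨x, hcen x hxT hxc, hxo, ?_, hxU⟩
  -- Step B: the Z-group property, via BG 10.3
  by_contra hZG
  apply hxU
  have hxM : x ∈ M := hT.1 hxT
  set X : Subgroup G := Subgroup.zpowers x with hXdef
  have hCX : Subgroup.centralizer ((X : Subgroup G) : Set G) = Subgroup.centralizer ({x} : Set G) := by
    rw [hXdef, Subgroup.zpowers_eq_closure, Subgroup.centralizer_closure]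
  have hXM : X ≤ M := by rw [hXdef, Subgroup.zpowers_le]; exact hxM
  have hXcard : Nat.card X = p := by rw [hXdef, Nat.card_zpowers, hxo]
  have hXα : ∀ q : ℕ, q.Prime → q ∣ Nat.card X → q ∉ Cfsg.alpha M := by
    intro q hq hqd hqα
    rw [hXcard] at hqd
    have : q = p := (Nat.prime_dvd_prime_iff_eq hq hpp).mp hqd
    subst this
    exact hp (alpha_subset_sigma hG hM hqα)
  have hr : ¬ Cfsg.RankLE 1 ↥(Cfsg.alphaCore M ⊓ Subgroup.centralizer ((X : Subgroup G) : Set G)) := by
    rw [hCX]
    intro hrk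
    apply hZG
    refine ⟨fun q hq Q => ?_⟩
    haveI : Fact q.Prime := ⟨hq⟩
    by_contra hnc
    have hQ1 : Q.toSubgroup ≠ ⊥ := by
      intro h
      apply hnc
      have : IsCyclic ↥Q.toSubgroup := by rw [h]; infer_instance
      exact this
    have hq2 : q ≠ 2 := by
      intro h2
      subst h2
      have hodd := ms_odd hG (Q.toSubgroup.map (Subgroup.subtype _))
      have hQnt : Nontrivial ↥Q.toSubgroup := (Subgroup.nontrivial_iff_ne_bot _).mpr hQ1
      obtain ⟨n, hn0, hn⟩ := Q.isPGroup'.nontrivial_iff_card.mp hQnt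
      rw [Subgroup.card_map_of_injective (Subgroup.subtype_injective _), hn] at hodd
      have : ¬ Odd (2 ^ n) := by
        rw [Nat.not_odd_iff_even]
        exact (Nat.even_pow' (ne_of_gt hn0)).mpr even_two
      exact this hodd
    have h1 := not_rankLE_one_of_noncyclic hq2 Q.isPGroup' hnc
    apply h1
    intro r hr
    exact pRankLE_of_inj (Subgroup.subtype _) (Subgroup.subtype_injective _) (hrk r hr)
  have hU := Cfsg.Agent.Lib.Helper15.BG103.lemma_10_3_of_hall hG M hM X hXM hXα hr
    (Cfsg.Agent.S1405.result hG M hM).1.2.2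
  rw [hCX] at hU
  obtain ⟨L₀, ⟨hL₀, hL₀le⟩, huniq⟩ := hU
  have hML₀ : M = L₀ := huniq M ⟨hM, inf_le_left⟩
  have hCtop := centralizer_singleton_ne_top hG hx1
  obtain ⟨L, hL, hCL⟩ := ms_exists_coatom_ge hCtop
  have hLL₀ : L = L₀ := huniq L ⟨hL, inf_le_right.trans hCL⟩
  refine ⟨?_, fun L' hL' hCL' => ?_⟩
  · rw [hML₀, ← hLL₀]; exact hCL
  · rw [hML₀]; exact huniq L' ⟨hL', inf_le_right.trans hCL'⟩

end Cfsg.Agent.S1407
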