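import Cfsg.Statements.S1425
import Cfsg.Agent.S1350
import Cfsg.Agent.Lib.Helper71.BG10Sub

set_option autoImplicit false
open Cfsg

namespace Cfsg.Agent.S1425

open Cfsg.Agent.Lib.Helper71.BG10 Cfsg.Agent.Lib.Helper31 Cfsg.Agent.Lib.Helper55

/-- Let G be a minimal simple group of odd order, M a maximal subgroup and Y a nontrivial subgroup of G all of whose prime divisors lie in σ(M). Then gYg⁻¹ ≤ M_σ for some g ∈ G. -/
theorem result {G : Type*} [Group G] [Finite G] (hG : Cfsg.IsMinSimpleOddOrder G)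
    (M : Subgroup G) (hM : IsCoatom M) (Y : Subgroup G) (hY1 : Y ≠ ⊥) (hY : ∀ p : ℕ, p.Prime → p ∣ Nat.card Y → p ∈ Cfsg.sigma M) :
    ∃ g : G, Y.map (MulAut.conj g).toMonoidHom ≤ Cfsg.sigmaCore M := by
  have h1350 := Cfsg.Agent.S1350.result hG M hM
  obtain ⟨g, hg⟩ := sigma_group_le_conj hG hM h1350.2.1 hY1 hY
  refine ⟨g⁻¹, ?_⟩
  have h2 : cj g⁻¹ Y ≤ M := cj_le_iff.mpr (by simpa using hg)
  refine le_of_isPiHallOf_normal h1350.1 (le_normalizer_piCoreOf (sigma M) M) h2 ?_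
  intro p hp hpd
  rw [card_cj] at hpd
  exact hY p hp hpd

end Cfsg.Agent.S1425
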