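import Cfsg.Statements.S1354
import Cfsg.Agent.Lib.Helper58.BG14Glue
import Cfsg.Agent.Lib.Helper58.BG14Glue2
import Cfsg.Agent.Lib.Helper83.BG11e

set_option autoImplicit false
open Cfsg

namespace Cfsg.Agent.S1354

/-- Let G be a minimal simple group of odd order, M a maximal subgroup and K a cyclic Hall κ(M)-subgroup of M, and put K* = M_σ ∩ C_G(K). Then K* ≠ 1, and if K ≠ 1 then for every non-identity k ∈ K the centralizer C_M(k) is the subgroup generated by K and K* (an internal direct product, as K ∩ M_σ = 1 and K* centralizes K). -/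
theorem result {G : Type*} [Group G] [Finite G] (hG : Cfsg.IsMinSimpleOddOrder G)
    (M : Subgroup G) (hM : IsCoatom M) (K : Subgroup G)
    (hKc : IsCyclic K) (hK : Cfsg.IsPiHallOf (Cfsg.kappa M) K M) :
    Cfsg.sigmaCore M ⊓ Subgroup.centralizer (K : Set G) ≠ ⊥ ∧
      (K ≠ ⊥ → ∀ k ∈ K, k ≠ 1 →
        M ⊓ Subgroup.centralizer ({k} : Set G) = K ⊔ (Cfsg.sigmaCore M ⊓ Subgroup.centralizer (K : Set G))) := by
  constructor
  · by_cases hK1 : K = ⊥
    · -- `K* = M_σ ≠ 1`
      have hM1 : M ≠ ⊥ := Cfsg.Agent.Lib.Helper58.BG14.coatom_ne_bot hG hM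
      have hσ : sigmaCore M ≠ ⊥ := Cfsg.Agent.Lib.Helper83.BG11.sigmaCore_ne_bot hG hM hM1
      intro h
      apply hσ
      rw [eq_bot_iff, ← h]
      refine le_inf le_rfl ?_
      rw [hK1]
      intro x _
      rw [Subgroup.mem_centralizer_iff]
      intro y hy
      have : y = 1 := Subgroup.mem_bot.mp hy
      rw [this, one_mul, mul_one]
    · obtain ⟨E, hE, hKE, -, hKs, -⟩ :=
        Cfsg.Agent.Lib.Helper58.BG14.kappa_data hG hM hKc hK hK1
      exact hKs
  · intro hK1 k hk hk1
    obtain ⟨E, hE, hKE, hpa, hKs, hC⟩ :=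
      Cfsg.Agent.Lib.Helper58.BG14.kappa_data hG hM hKc hK hK1
    have hcomm : ∀ a ∈ K, ∀ b ∈ K, a * b = b * a := by
      have hc : IsMulCommutative K := IsCyclic.isMulCommutative
      intro a ha b hb
      exact congrArg Subtype.val (isMulCommutative_iff.mp hc ⟨a, ha⟩ ⟨b, hb⟩)
    apply le_antisymm
    · intro x hx
      obtain ⟨hxM, hxk⟩ := Subgroup.mem_inf.mp hx
      obtain ⟨e, he, a, ha, rfl⟩ :=
        Cfsg.Agent.Lib.Helper58.BG14.cent_decomp_of_compl hE (hKE.1 hk) hxM hxk
      rw [hC k hk hk1] at he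
      have haK : a ∈ Subgroup.centralizer (K : Set G) := hpa k hk hk1 ha
      exact Subgroup.mul_mem _ (Subgroup.mem_sup_left he)
        (Subgroup.mem_sup_right (Subgroup.mem_inf.mpr ⟨(Subgroup.mem_inf.mp ha).1, haK⟩))
    · apply sup_le
      · intro x hxK
        refine Subgroup.mem_inf.mpr ⟨hE.1 (hKE.1 hxK), ?_⟩
        rw [Subgroup.mem_centralizer_iff]
        intro y hy
        rw [Set.mem_singleton_iff] at hy
        rw [hy]
        exact hcomm k hk x hxK
      · intro x hx
        obtain ⟨hxσ, hxC⟩ := Subgroup.mem_inf.mp hx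
        refine Subgroup.mem_inf.mpr ⟨Cfsg.Agent.Lib.Helper71.BG11.sigmaCore_le M hxσ, ?_⟩
        rw [Subgroup.mem_centralizer_iff]
        intro y hy
        rw [Set.mem_singleton_iff] at hy
        rw [hy]
        exact (Subgroup.mem_centralizer_iff.mp hxC) k hk

end Cfsg.Agent.S1354
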