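import Cfsg.Statements.S1353
import Cfsg.Agent.Lib.Helper58.BG14Glue

set_option autoImplicit false
open Cfsg

namespace Cfsg.Agent.S1353

/-- Let G be a minimal simple group of odd order, M a maximal subgroup with standard factorisation M = K U M_σ. Then C_U(k) = 1 for every non-identity element k of K. -/
theorem result {G : Type*} [Group G] [Finite G] (hG : Cfsg.IsMinSimpleOddOrder G)
    (M : Subgroup G) (hM : IsCoatom M) (K U : Subgroup G) (hKU : Cfsg.IsSigmaDecomposition M K U) :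
    ∀ k ∈ K, k ≠ 1 → U ⊓ Subgroup.centralizer ({k} : Set G) = ⊥ := by
  intro k hk hk1
  have hK1 : K ≠ ⊥ := by
    intro h
    rw [h, Subgroup.mem_bot] at hk
    exact hk1 hk
  obtain ⟨E, hE, hKE, -, -, hC⟩ :=
    Cfsg.Agent.Lib.Helper58.BG14.kappa_data hG hM hKU.cyclic hKU.hall hK1
  obtain ⟨hUM, -, hdisj, -⟩ := hKU.compl
  rw [eq_bot_iff]
  intro u hu
  obtain ⟨huU, huk⟩ := Subgroup.mem_inf.mp hu
  obtain ⟨e, he, a, ha, rfl⟩ :=
    Cfsg.Agent.Lib.Helper58.BG14.cent_decomp_of_compl hE (hKE.1 hk) (hUM huU) huk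
  rw [hC k hk hk1] at he
  rw [← hdisj]
  refine Subgroup.mem_inf.mpr ⟨huU, ?_⟩
  exact Subgroup.mul_mem _ (Subgroup.mem_sup_left he)
    (Subgroup.mem_sup_right (Subgroup.mem_inf.mp ha).1)

end Cfsg.Agent.S1353
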