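import Cfsg.Statements.S1446
import Cfsg.Agent.Lib.Helper03.FrobThompson

set_option autoImplicit false
open Cfsg

namespace Cfsg.Agent.S1446

/-- Let X be a finite group with subgroups K, R, M such that: K and R are nontrivial, K ∩ R = 1, R normalizes K, no non-identity element of R centralizes a non-identity element of K, K ⊔ R is solvable of odd order; M is nilpotent and nontrivial, normalized by K and by R, with order coprime to that of K ⊔ R, M ∩ C(K) = 1, and M ∩ C(x) = M ∩ C(R) for all non-identity x ∈ R. Then R has prime order p, #M = #(M ∩ C(R)) ^ p, and if M ∩ C(R) is cyclic then [K, K] centralizes M. -/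
theorem result {X : Type*} [Group X] [Finite X] (K R M : Subgroup X) (hK1 : K ≠ ⊥) (hR1 : R ≠ ⊥) (hKR : K ⊓ R = ⊥)
    (hRK : R ≤ Subgroup.normalizer (K : Set X)) (hfrob : ∀ r ∈ R, r ≠ 1 → K ⊓ Subgroup.centralizer ({r} : Set X) = ⊥)
    (hsolv : Group.IsSolvable ↥(K ⊔ R)) (hodd : Odd (Nat.card ↥(K ⊔ R)))
    (hM1 : M ≠ ⊥) (hMn : Group.IsNilpotent M) (hKM : K ≤ Subgroup.normalizer (M : Set X)) (hRM : R ≤ Subgroup.normalizer (M : Set X))
    (hcop : (Nat.card ↥(K ⊔ R)).Coprime (Nat.card M)) (hCK : M ⊓ Subgroup.centralizer (K : Set X) = ⊥)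
    (hpr : ∀ x ∈ R, x ≠ 1 → M ⊓ Subgroup.centralizer ({x} : Set X) = M ⊓ Subgroup.centralizer (R : Set X)) :
    (Nat.card R).Prime ∧ Nat.card M = Nat.card ↥(M ⊓ Subgroup.centralizer (R : Set X)) ^ Nat.card R ∧
      (IsCyclic ↥(M ⊓ Subgroup.centralizer (R : Set X)) → ⁅K, K⁆ ≤ Subgroup.centralizer (M : Set X)) := by
  classical
  have hUn : ∀ e ∈ R, ∀ u ∈ K, e * u * e⁻¹ ∈ K := fun e he u hu =>
    ((Subgroup.mem_normalizer_iff.mp (hRK he)) u).mp hu
  have hfpf : ∀ e ∈ R, e ≠ 1 → ∀ u ∈ K, e * u = u * e → u = 1 := by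
    intro e he he1 u hu huc
    have h1 : u ∈ K ⊓ Subgroup.centralizer ({e} : Set X) := by
      refine Subgroup.mem_inf.mpr ⟨hu, ?_⟩
      rw [Subgroup.mem_centralizer_iff]
      intro y hy
      rw [Set.mem_singleton_iff] at hy
      rw [hy]; exact huc
    rw [hfrob e he he1, Subgroup.mem_bot] at h1
    exact h1
  have hnil : Group.IsNilpotent K :=
    Cfsg.Agent.Lib.Helper03.FrobThompson.isNilpotent_of_fpf K R hR1 hUn hfpf
  have hKRM : K ⊔ R ≤ Subgroup.normalizer (M : Set X) := sup_le hKM hRM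
  have hHn : ∀ x ∈ K ⊔ R, ∀ h ∈ M, x * h * x⁻¹ ∈ M := fun x hx h hh =>
    ((Subgroup.mem_normalizer_iff.mp (hKRM hx)) h).mp hh
  have hsolvM : Group.IsSolvable M := inferInstance
  have hcop' : Nat.Coprime (Nat.card M) (Nat.card ↥(K ⊔ R)) := hcop.symm
  have hbot1 : Nat.card ↥(M ⊓ Subgroup.centralizer (K : Set X)) = 1 := by
    rw [hCK, Subgroup.card_bot]
  -- the formula for nontrivial subgroups of `R`
  have formula : ∀ R₁ : Subgroup X, R₁ ≤ R → R₁ ≠ ⊥ →
      Nat.card M = Nat.card ↥(M ⊓ Subgroup.centralizer (R : Set X)) ^ Nat.card R₁ := by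
    intro R₁ hR₁ hR₁ne
    have hle : K ⊔ R₁ ≤ K ⊔ R := sup_le_sup_left hR₁ K
    have h1 := Cfsg.Agent.Lib.Helper03.FrobSub.wielandt_sub K R₁ M
      (fun e he u hu => hUn e (hR₁ he) u hu) (fun e he he1 u hu huc => hfpf e (hR₁ he) he1 u hu huc)
      hnil (fun x hx h hh => hHn x (hle hx) h hh) hsolvM
      (Nat.Coprime.coprime_dvd_right (Subgroup.card_dvd_of_le hle) hcop')
    have h2 : Nat.card ↥(M ⊓ Subgroup.centralizer ((K ⊔ R₁ : Subgroup X) : Set X)) = 1 := by
      rw [Subgroup.card_eq_one, eq_bot_iff, ← hCK]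
      exact inf_le_inf_left M (Subgroup.centralizer_le (by
        intro x hx
        exact (le_sup_left : K ≤ K ⊔ R₁) hx))
    have h3 : M ⊓ Subgroup.centralizer (R₁ : Set X) = M ⊓ Subgroup.centralizer (R : Set X) := by
      apply le_antisymm
      · obtain ⟨x, hx1⟩ := (Subgroup.ne_bot_iff_exists_ne_one).mp hR₁ne
        have hx1' : (x : X) ≠ 1 := fun h => hx1 (Subtype.ext h)
        rw [← hpr x (hR₁ x.2) hx1']
        exact inf_le_inf_left M (Subgroup.centralizer_le (by
          intro y hy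
          rw [Set.mem_singleton_iff] at hy
          rw [hy]; exact x.2))
      · exact inf_le_inf_left M (Subgroup.centralizer_le (by
          intro y hy
          exact hR₁ hy))
    rw [h2, hbot1, h3, one_pow, one_mul, mul_one] at h1
    exact h1
  have hMcard : 1 < Nat.card M := by
    rw [Finite.one_lt_card_iff_nontrivial]
    exact (Subgroup.nontrivial_iff_ne_bot M).mpr hM1
  have hfull := formula R le_rfl hR1
  have hc2 : 2 ≤ Nat.card ↥(M ⊓ Subgroup.centralizer (R : Set X)) := by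
    by_contra hlt
    have hpos : 0 < Nat.card ↥(M ⊓ Subgroup.centralizer (R : Set X)) := Nat.card_pos
    have h1 : Nat.card ↥(M ⊓ Subgroup.centralizer (R : Set X)) = 1 := by omega
    rw [h1, one_pow] at hfull
    omega
  refine ⟨?_, hfull, ?_⟩
  · have hRcard : Nat.card R ≠ 1 := fun h => hR1 (Subgroup.card_eq_one.mp h)
    obtain ⟨q, hq, hqd⟩ := Nat.exists_prime_and_dvd hRcard
    haveI : Fact q.Prime := ⟨hq⟩
    obtain ⟨x, hx⟩ := exists_prime_orderOf_dvd_card' (G := R) q hqd
    have hxX : orderOf (x : X) = q := by rw [Subgroup.orderOf_coe]; exact hx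
    have hle : Subgroup.zpowers (x : X) ≤ R := by
      rw [Subgroup.zpowers_le]; exact x.2
    have hne : Subgroup.zpowers (x : X) ≠ ⊥ := by
      intro h
      rw [Subgroup.zpowers_eq_bot] at h
      rw [h, orderOf_one] at hxX
      exact hq.one_lt.ne hxX
    have h1 := formula _ hle hne
    rw [Nat.card_zpowers, hxX, hfull] at h1
    have h2 := Nat.pow_right_injective hc2 h1
    rw [h2]
    exact hq
  · intro hcyc
    exact Cfsg.Agent.Lib.Helper03.FrobSub.comm_le_centralizer_sub K R M hUn hfpf hnil hHn hsolvM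
      hcop' hCK hcyc

end Cfsg.Agent.S1446
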