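-- Statement S1361: for `1 ≠ X ≤ U` with `C_{M_σ}(X) ≠ 1`, `M` is the only maximal subgroup over `C_G(X)`.
import Cfsg.Statements.S1361
import Cfsg.Agent.S1417
import Cfsg.Agent.S1418
import Cfsg.Agent.Lib.Helper02.BG1361

set_option autoImplicit false
open Cfsg

namespace Cfsg.Agent.S1361

/-- Let G be a minimal simple group of odd order, M = K U M_σ the standard factorisation of a maximal subgroup, and X a nontrivial subgroup of U centralizing a nontrivial element of M_σ. Then C_G(X) lies in M, and M is the only maximal subgroup containing C_G(X). -/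
theorem result {G : Type*} [Group G] [Finite G] (hG : Cfsg.IsMinSimpleOddOrder G)
    (M : Subgroup G) (hM : IsCoatom M) (K U : Subgroup G) (hKU : Cfsg.IsSigmaDecomposition M K U) (X : Subgroup G) (hXU : X ≤ U) (hX : X ≠ ⊥)
    (hXc : Cfsg.sigmaCore M ⊓ Subgroup.centralizer (X : Set G) ≠ ⊥) :
    Subgroup.centralizer (X : Set G) ≤ M ∧ ∀ L : Subgroup G, IsCoatom L → Subgroup.centralizer (X : Set G) ≤ L → L = M :=
  Cfsg.Agent.Lib.Helper02.BG1361.s1361_of_hyps hG M hM K U hKU
    (fun p _ hp A hA => Cfsg.Agent.S1417.result hG M hM p hp A hA)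
    (fun E hE p _ hp A hA => Cfsg.Agent.S1418.result hG M hM E hE p hp A hA)
    X hXU hX hXc

end Cfsg.Agent.S1361
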