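-- Statement S1439: `O_{σ'}(F(M))` is cyclic, a `τ₂(M)`-group, and `F(M) = F(M_σ) × O_{σ'}(F(M))`.
import Cfsg.Statements.S1439
import Cfsg.Agent.Lib.Helper02.BG1439
import Cfsg.Agent.Lib.Helper31.Transitivity
import Cfsg.Agent.Lib.Helper31.BenderFit
import Cfsg.Agent.Lib.Helper31.Scn3Types
import Cfsg.Agent.Lib.Helper55.FitUniq
import Cfsg.Agent.Lib.Helper55.Large
import Cfsg.Agent.Lib.Helper91.BG125e

set_option autoImplicit false
open Cfsg

namespace Cfsg.Agent.S1439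

open Cfsg.Agent.Lib.Helper31 Cfsg.Agent.Lib.Helper31.BenderFit Cfsg.Agent.Lib.Helper71.BG11

/-- a nontrivial `p`-subgroup of `F(M)`, `p ∉ σ(M)`, is cyclic and `p ∈ τ₂(M)` -/
theorem aux {G : Type*} [Group G] [Finite G] (hG : Cfsg.IsMinSimpleOddOrder G)
    (M : Subgroup G) (hM : IsCoatom M) (p : ℕ) [Fact p.Prime] (hp : p ∉ Cfsg.sigma M)
    {Q : Subgroup G} (hQF : Q ≤ Cfsg.fittingOf M) (hQp : IsPGroup p Q) (hQ1 : Q ≠ ⊥) :
    p ∈ Cfsg.tau2 M ∧ IsCyclic ↥Q := by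
  have hQR : Q ≤ pCoreOf p M := Cfsg.Agent.Lib.Helper31.Scn3.le_pCoreOf_of_le_fittingOf p hQF hQp
  have hR1 : pCoreOf p M ≠ ⊥ := by
    intro h
    rw [h] at hQR
    exact hQ1 (le_bot_iff.mp hQR)
  obtain ⟨h2, hcyc⟩ := Cfsg.Agent.Lib.Helper02.BG1439.tau2_and_cyclic hG hM p hp
    (Cfsg.Agent.Lib.Helper55.pCoreOf_le M) (Cfsg.Agent.Lib.Helper55.le_normalizer_pCoreOf M)
    (Cfsg.Agent.Lib.Helper55.isPGroup_pCoreOf M) hR1
  exact ⟨h2, isCyclic_of_injective (Subgroup.inclusion hQR) (Subgroup.inclusion_injective hQR)⟩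

/-- Let G be a minimal simple group of odd order and M a maximal subgroup, and let Y be the largest normal subgroup of F(M) involving no prime of σ(M). Then Y is cyclic, every prime divisor of its order lies in τ₂(M), and F(M) is generated by F(M_σ) and Y (a direct product, the orders being coprime). -/
theorem result {G : Type*} [Group G] [Finite G] (hG : Cfsg.IsMinSimpleOddOrder G)
    (M : Subgroup G) (hM : IsCoatom M) :
    IsCyclic ↥(Cfsg.piCoreOf {q | q.Prime ∧ q ∉ Cfsg.sigma M} (Cfsg.fittingOf M)) ∧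
      (∀ p : ℕ, p.Prime → p ∣ Nat.card ↥(Cfsg.piCoreOf {q | q.Prime ∧ q ∉ Cfsg.sigma M} (Cfsg.fittingOf M)) → p ∈ Cfsg.tau2 M) ∧
      Cfsg.fittingOf M = Cfsg.fittingOf (Cfsg.sigmaCore M) ⊔ Cfsg.piCoreOf {q | q.Prime ∧ q ∉ Cfsg.sigma M} (Cfsg.fittingOf M) := by
  set π' : Set ℕ := {q | q.Prime ∧ q ∉ Cfsg.sigma M} with hπ'
  set Y := Cfsg.piCoreOf π' (Cfsg.fittingOf M) with hY
  have hYF : Y ≤ Cfsg.fittingOf M := piCoreOf_le π' _
  have hYπ : ∀ p : ℕ, p.Prime → p ∣ Nat.card Y → p ∈ π' := piCoreOf_pi π' _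
  have hnilF : Group.IsNilpotent ↥(Cfsg.fittingOf M) := fittingOf_isNilpotent M
  have hnilY : Group.IsNilpotent ↥Y := by
    have : Group.IsNilpotent ↥(Y.subgroupOf (Cfsg.fittingOf M)) := inferInstance
    exact (Group.isNilpotent_congr (Subgroup.subgroupOfEquivOfLe hYF)).mp this
  -- the Sylow subgroups of `Y`
  have hsyl : ∀ p : ℕ, p.Prime → ∀ P : Sylow p ↥Y, (P : Subgroup ↥Y) ≠ ⊥ →
      p ∈ Cfsg.tau2 M ∧ IsCyclic ↥(P : Subgroup ↥Y) := by
    intro p hp P hP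
    have : Fact p.Prime := ⟨hp⟩
    have hPp : IsPGroup p ((P : Subgroup ↥Y).map Y.subtype) := P.2.map Y.subtype
    have hP1 : (P : Subgroup ↥Y).map Y.subtype ≠ ⊥ := by
      intro h
      exact hP ((Subgroup.map_eq_bot_iff_of_injective _ Y.subtype_injective).mp h)
    have hPY : (P : Subgroup ↥Y).map Y.subtype ≤ Y := Subgroup.map_subtype_le _
    have hdvd : p ∣ Nat.card Y := by
      obtain ⟨n, hn⟩ := IsPGroup.iff_card.mp hPp
      have hn0 : n ≠ 0 := by
        rintro rfl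
        rw [pow_zero] at hn
        exact hP1 (Subgroup.card_eq_one.mp hn)
      exact ((dvd_pow_self p hn0).trans (hn ▸ dvd_rfl)).trans (Subgroup.card_dvd_of_le hPY)
    have hpσ : p ∉ Cfsg.sigma M := (hYπ p hp hdvd).2
    obtain ⟨h2, hcyc⟩ := aux hG M hM p hpσ (hPY.trans hYF) hPp hP1
    refine ⟨h2, ?_⟩
    exact isCyclic_of_surjective
      ((P : Subgroup ↥Y).equivMapOfInjective Y.subtype Y.subtype_injective).symm
      ((P : Subgroup ↥Y).equivMapOfInjective Y.subtype Y.subtype_injective).symm.surjective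
  refine ⟨?_, ?_, ?_⟩
  · apply Cfsg.Agent.Lib.Helper13.BG12.isCyclic_of_nilpotent_of_sylow_cyclic
    intro p hp P
    by_cases hP : (P : Subgroup ↥Y) = ⊥
    · have h1 : Nat.card ↥(P : Subgroup ↥Y) = 1 := by rw [hP]; exact Subgroup.card_bot
      have : Subsingleton ↥(P : Subgroup ↥Y) := Finite.card_le_one_iff_subsingleton.mp h1.le
      exact isCyclic_of_subsingleton
    · exact (hsyl p hp P hP).2
  · intro p hp hpd
    have : Fact p.Prime := ⟨hp⟩
    obtain ⟨P⟩ : Nonempty (Sylow p ↥Y) := inferInstance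
    exact (hsyl p hp P (P.ne_bot_of_dvd_card hpd)).1
  · apply le_antisymm
    · rw [Cfsg.Agent.Lib.Helper55.fittingOf_eq_iSup M]
      apply iSup_le
      intro p
      have hpP : (p : ℕ).Prime := p.2
      have : Fact (p : ℕ).Prime := ⟨hpP⟩
      by_cases hpσ : (p : ℕ) ∈ Cfsg.sigma M
      · refine le_trans ?_ le_sup_left
        have h1 : pCoreOf (p : ℕ) M ≤ Cfsg.sigmaCore M :=
          Cfsg.Agent.Lib.Helper91.BG125.le_sigmaCore_of_mem_sigma hG hM hpσ
            (Cfsg.Agent.Lib.Helper55.isPGroup_pCoreOf M) (Cfsg.Agent.Lib.Helper55.pCoreOf_le M)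
        have h2 : pCoreOf (p : ℕ) M ≤ pCoreOf (p : ℕ) (Cfsg.sigmaCore M) :=
          Cfsg.Agent.Lib.Helper55.le_pCoreOf h1
            ((sigmaCore_le M).trans (Cfsg.Agent.Lib.Helper55.le_normalizer_pCoreOf M))
            (Cfsg.Agent.Lib.Helper55.isPGroup_pCoreOf M)
        exact h2.trans (Cfsg.Agent.Lib.Helper31.Scn3.pCoreOf_le_fittingOf' _ _)
      · refine le_trans ?_ le_sup_right
        apply le_piCoreOf π' _ _ (Cfsg.Agent.Lib.Helper31.Scn3.pCoreOf_le_fittingOf' M p)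
          ((fittingOf_le' M).trans (Cfsg.Agent.Lib.Helper55.le_normalizer_pCoreOf M))
        intro q hq hqd
        obtain ⟨n, hn⟩ := IsPGroup.iff_card.mp (Cfsg.Agent.Lib.Helper55.isPGroup_pCoreOf (p := p) M)
        rw [hn] at hqd
        have : q = p := (Nat.prime_dvd_prime_iff_eq hq hpP).mp (hq.dvd_of_dvd_pow hqd)
        exact ⟨hq, this ▸ hpσ⟩
    · apply sup_le _ hYF
      rw [Cfsg.Agent.Lib.Helper55.fittingOf_eq_iSup (Cfsg.sigmaCore M)]
      apply iSup_le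
      intro p
      have hpP : (p : ℕ).Prime := p.2
      have : Fact (p : ℕ).Prime := ⟨hpP⟩
      have h1 : pCoreOf (p : ℕ) (Cfsg.sigmaCore M) ≤ pCoreOf (p : ℕ) M :=
        Cfsg.Agent.Lib.Helper55.le_pCoreOf
          ((Cfsg.Agent.Lib.Helper55.pCoreOf_le _).trans (sigmaCore_le M))
          ((le_normalizer_sigmaCore M).trans
            (Cfsg.Agent.Lib.Helper55.normalizer_le_normalizer_pCoreOf _))
          (Cfsg.Agent.Lib.Helper55.isPGroup_pCoreOf _)
      exact h1.trans (Cfsg.Agent.Lib.Helper31.Scn3.pCoreOf_le_fittingOf' M p)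

end Cfsg.Agent.S1439
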