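-- Statement S1363 (BG Theorem II(a)): K ≠ 1 ⟹ U abelian and N_G(U) ≰ M.  Pack K-1363 (architect helper16).
import Cfsg.Statements.S1363
import Cfsg.Agent.Lib.Helper16.BG1363Glue
import Cfsg.Agent.Lib.Helper16.BG1363A
import Cfsg.Agent.Lib.Helper77.BG1363B
import Cfsg.Agent.Lib.Helper16.BG1363PF
import Cfsg.Agent.Lib.Helper90.BG14DW1
import Cfsg.Agent.Lib.Helper78.BG15KPrime
import Cfsg.Agent.S1430
import Cfsg.Agent.S1366
import Cfsg.Agent.S1367
import Cfsg.Agent.S1368
import Cfsg.Agent.S1369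

set_option autoImplicit false
open Cfsg

namespace Cfsg.Agent.S1363

/-- Let G be a minimal simple group of odd order and M a maximal subgroup with standard factorisation M = K U M_σ and K ≠ 1. Then U is abelian and the normalizer of U in G is not contained in M. -/
theorem result {G : Type*} [Group G] [Finite G] (hG : Cfsg.IsMinSimpleOddOrder G)
    (M : Subgroup G) (hM : IsCoatom M) (K U : Subgroup G) (hKU : Cfsg.IsSigmaDecomposition M K U) (hK1 : K ≠ ⊥) :
    IsMulCommutative U ∧ ¬ Subgroup.normalizer (U : Set G) ≤ M := by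
  have h30 : Cfsg.Agent.Lib.Helper11.BG14D.H1430 G :=
    fun M hM K hK hK1 => Cfsg.Agent.S1430.result hG M hM K hK hK1
  have hab := (Cfsg.Agent.Lib.Helper90.BG14D.free_action hG h30 M hM K U hKU hK1).1
  refine Cfsg.Agent.Lib.Helper16.BG1363.s1363_glue hG M hM K U hKU hK1 hab
    (fun hU1 => (Cfsg.Agent.Lib.Helper78.BG15.card_prime_of_sigmaDecomposition hG hM hKU hK1 hU1).1) ?_
    (fun hU1 => Cfsg.Agent.Lib.Helper16.BG1363.exists_nu hG hM hKU hK1 hU1)
    (fun c => Cfsg.Agent.Lib.Helper77.BG1363.NU.basic hG c)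
  intro hp
  obtain ⟨Ms, ⟨hMs, hKst, hKstH⟩, -⟩ := Cfsg.Agent.S1366.result hG M hM K U hKU hK1
  exact ⟨Ms, Cfsg.Agent.Lib.Helper16.BG1363.pf_of hp hMs hKst
    (Cfsg.Agent.S1367.result hG M hM K U hKU hK1 Ms hMs hKst hKstH).2
    (Cfsg.Agent.S1368.result hG M hM K U hKU hK1 Ms hMs hKst hKstH).1
    (Cfsg.Agent.S1369.result hG M hM K U hKU hK1 Ms hMs hKst hKstH).2⟩

end Cfsg.Agent.S1363
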