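import Cfsg.Statements.S0860
import Cfsg.Agent.Lib.Helper83.SecondOrth

set_option autoImplicit false
open Cfsg

namespace Cfsg.Agent.S0860

open scoped ComplexConjugate

/-- Summing a function of the conjugacy class, weighted by centralizer orders. -/
theorem sum_class_weighted {G : Type*} [Group G] [Fintype G] [Fintype (ConjClasses G)]
    (F : ConjClasses G → ℂ) :
    ∑ g : G, F (ConjClasses.mk g) * (Nat.card (Subgroup.centralizer ({g} : Set G)) : ℂ) =
      (Nat.card G : ℂ) * ∑ C : ConjClasses G, F C := by
  classical
  rw [← Fintype.sum_fiberwise (fun g : G => ConjClasses.mk g), Finset.mul_sum]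
  refine Finset.sum_congr rfl fun C _ => ?_
  have hcard : ∀ g : {g : G // ConjClasses.mk g = C},
      (Nat.card (Subgroup.centralizer ({(g : G)} : Set G)) : ℂ) *
        (Nat.card {g : G // ConjClasses.mk g = C} : ℂ) = (Nat.card G : ℂ) := by
    intro g
    have h1 := Cfsg.Agent.Lib.Helper83.card_centralizer_mul_card_conj (g : G)
    have h2 : Nat.card {x : G // IsConj (g : G) x} = Nat.card {x : G // ConjClasses.mk x = C} := by
      apply Nat.card_congr
      refine Equiv.subtypeEquivRight fun x => ?_
      have hg : ConjClasses.mk (g : G) = C := g.2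
      constructor
      · intro h
        rw [← hg]
        exact (ConjClasses.mk_eq_mk_iff_isConj.mpr h).symm
      · intro h
        rw [← hg] at h
        exact ConjClasses.mk_eq_mk_iff_isConj.mp h.symm
    rw [h2] at h1
    exact_mod_cast h1
  have hne : (Nat.card {g : G // ConjClasses.mk g = C} : ℂ) ≠ 0 := by
    obtain ⟨g, hg⟩ := ConjClasses.exists_rep C
    have : Nonempty {g : G // ConjClasses.mk g = C} := ⟨⟨g, hg⟩⟩
    exact_mod_cast (Nat.card_pos (α := {g : G // ConjClasses.mk g = C})).ne'
  have : ∀ g : {g : G // ConjClasses.mk g = C},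
      F (ConjClasses.mk (g : G)) * (Nat.card (Subgroup.centralizer ({(g : G)} : Set G)) : ℂ) =
        F C * ((Nat.card G : ℂ) / (Nat.card {g : G // ConjClasses.mk g = C} : ℂ)) := by
    intro g
    rw [g.2, eq_div_of_mul_eq hne (hcard g)]
  rw [Finset.sum_congr rfl fun g _ => this g, Finset.sum_const, Finset.card_univ, nsmul_eq_mul,
    ← Nat.card_eq_fintype_card]
  field_simp

/-- Let a group A act on the set of irreducible characters and on the set of conjugacy classes of a finite group G in such a way that (a • χ) evaluated on the class a • C equals χ evaluated on C, for all a, χ and C. Then every element of A fixes exactly as many irreducible characters as it fixes conjugacy classes. -/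
theorem result {G : Type*} [Group G] [Finite G] {A : Type*} [Group A] [MulAction A (Cfsg.IrrCharacter G)] [MulAction A (ConjClasses G)] (hcompat : ∀ (a : A) (χ : Cfsg.IrrCharacter G) (g g' : G), ConjClasses.mk g' = a • ConjClasses.mk g → ((a • χ : Cfsg.IrrCharacter G) : G → ℂ) g' = (χ : G → ℂ) g) (a : A) : Nat.card {χ : Cfsg.IrrCharacter G // a • χ = χ} = Nat.card {C : ConjClasses G // a • C = C} := by
  classical
  have : Fintype G := Fintype.ofFinite G
  have : Fintype (Cfsg.IrrCharacter G) := Fintype.ofFinite _
  have : Fintype (ConjClasses G) := Fintype.ofFinite _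
  have hG : (Nat.card G : ℂ) ≠ 0 := Cfsg.Agent.Lib.Helper83.card_ne_zero_complex
  -- count of fixed characters through inner products
  have h1 : (Nat.card {χ : Cfsg.IrrCharacter G // a • χ = χ} : ℂ) =
      ∑ χ : Cfsg.IrrCharacter G, Cfsg.classInner ((a • χ : Cfsg.IrrCharacter G) : G → ℂ) (χ : G → ℂ) := by
    rw [Nat.card_eq_fintype_card, Fintype.card_subtype, Finset.card_filter, Nat.cast_sum]
    refine Finset.sum_congr rfl fun χ _ => ?_
    rw [Cfsg.Agent.Lib.Helper83.irr_orthonormal]
    split_ifs <;> simp
  -- representatives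
  have hrep : ∀ g : G, ∃ g' : G, ConjClasses.mk g = a • ConjClasses.mk g' := by
    intro g
    obtain ⟨g', hg'⟩ := ConjClasses.exists_rep (a⁻¹ • ConjClasses.mk g)
    exact ⟨g', by rw [hg', smul_inv_smul]⟩
  choose r hr using hrep
  have h2 : ∀ g : G, ∑ χ : Cfsg.IrrCharacter G,
      ((a • χ : Cfsg.IrrCharacter G) : G → ℂ) g * conj ((χ : G → ℂ) g) =
      (if a • ConjClasses.mk g = ConjClasses.mk g then (1 : ℂ) else 0) *
        (Nat.card (Subgroup.centralizer ({g} : Set G)) : ℂ) := by
    intro g
    have : ∀ χ : Cfsg.IrrCharacter G, ((a • χ : Cfsg.IrrCharacter G) : G → ℂ) g =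
        (χ : G → ℂ) (r g) := fun χ => hcompat a χ (r g) g (hr g)
    simp_rw [this]
    rw [Cfsg.Agent.Lib.Helper83.second_orthogonality]
    have hiff : IsConj (r g) g ↔ a • ConjClasses.mk g = ConjClasses.mk g := by
      rw [← ConjClasses.mk_eq_mk_iff_isConj]
      constructor
      · intro h
        have := hr g
        rw [h] at this
        exact this.symm
      · intro h
        have := hr g
        rw [← h] at this
        exact (smul_left_cancel a this).symm
    by_cases hc : IsConj (r g) g
    · rw [if_pos hc, if_pos (hiff.mp hc), one_mul]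
    · rw [if_neg hc, if_neg (fun h => hc (hiff.mpr h)), zero_mul]
  have h3 : (Nat.card {χ : Cfsg.IrrCharacter G // a • χ = χ} : ℂ) * (Nat.card G : ℂ) =
      (Nat.card G : ℂ) * (Nat.card {C : ConjClasses G // a • C = C} : ℂ) := by
    rw [h1, Finset.sum_mul]
    simp_rw [Cfsg.Agent.Lib.Helper83.classInner_def, mul_comm _ (Nat.card G : ℂ),
      ← mul_assoc, mul_inv_cancel₀ hG, one_mul]
    rw [Finset.sum_comm]
    simp_rw [h2]
    rw [sum_class_weighted (fun C => if a • C = C then (1 : ℂ) else 0)]
    congr 1
    rw [Nat.card_eq_fintype_card, Fintype.card_subtype, Finset.card_filter, Nat.cast_sum]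
    refine Finset.sum_congr rfl fun C _ => ?_
    split_ifs <;> simp
  rw [mul_comm] at h3
  exact_mod_cast mul_left_cancel₀ hG h3

end Cfsg.Agent.S0860
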