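import Mathlib
import Cfsg.Statements.S0888
import Cfsg.Agent.Lib.Helper20.ProjExt

set_option autoImplicit false
open Cfsg

namespace Cfsg.Agent.S0888

open Cfsg.Agent.Lib.Helper20 Cfsg.Agent.Lib.Helper05 Representation

/-- Let N be a normal subgroup of the finite group G and ϑ an irreducible character of N invariant under conjugation by G. Suppose that for every prime p there are a subgroup P containing N, of index prime to p and with the index of N in P a power of p, and an irreducible character of P restricting to ϑ. Then ϑ is the restriction of an irreducible character of G. -/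
theorem result {G : Type*} [Group G] [Finite G] (N : Subgroup G) [hN : N.Normal] (ϑ : N → ℂ) (hϑ : Cfsg.IsIrrCharacter N ϑ) (hinv : ∀ (g : G) (n : N), ϑ ⟨g * n * g⁻¹, hN.conj_mem (n : G) n.2 g⟩ = ϑ n) (hsyl : ∀ p : ℕ, p.Prime → ∃ (P : Subgroup G) (hNP : N ≤ P) (η : P → ℂ), Nat.Coprime P.index p ∧ (∃ k : ℕ, N.relIndex P = p ^ k) ∧ Cfsg.IsIrrCharacter P η ∧ ∀ n : N, η ⟨(n : G), hNP n.2⟩ = ϑ n) : ∃ χ : G → ℂ, Cfsg.IsIrrCharacter G χ ∧ ∀ n : N, χ n = ϑ n := by
  obtain ⟨d, ρ, hρ, rfl⟩ := hϑ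
  have hinv' : ∀ (g : G) (n : N), ρ.character (MulAut.conjNormal g n) = ρ.character n := by
    intro g n
    rw [← hinv g n]
    congr 1
  have hloc : ∀ p : ℕ, p.Prime → ∃ (P : Subgroup G) (hNP : N ≤ P)
      (σ : Representation ℂ P (Fin d → ℂ)), ¬ p ∣ P.index ∧ ∀ n : N, σ ⟨n, hNP n.2⟩ = ρ n := by
    intro p hp
    obtain ⟨P, hNP, η, hcop, -, ⟨d', σ', -, rfl⟩, hres⟩ := hsyl p hp
    refine ⟨P, hNP, ?_⟩
    let σN : Representation ℂ N (Fin d' → ℂ) :=
      (σ' : P →* ((Fin d' → ℂ) →ₗ[ℂ] (Fin d' → ℂ))).comp (Subgroup.inclusion hNP)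
    have hchar : σN.character = ρ.character := by
      funext n
      exact hres n
    obtain ⟨φ⟩ := nonempty_equiv_of_char_eq (Fin d' → ℂ) σN (Fin d → ℂ) ρ hchar
    refine ⟨conjRep σ' φ.toLinearEquiv, ?_, ?_⟩
    · intro hdvd
      have := Nat.Coprime.eq_one_of_dvd hcop.symm hdvd
      exact hp.one_lt.ne' this
    · intro n
      apply LinearMap.ext
      intro w
      rw [conjRep_apply]
      have h1 := IntertwiningMap.isIntertwining σN ρ φ.toIntertwiningMap n (φ.toLinearEquiv.symm w)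
      have h2 : φ.toIntertwiningMap (φ.toLinearEquiv.symm w) = w :=
        φ.toLinearEquiv.apply_symm_apply w
      rw [h2] at h1
      exact h1
  obtain ⟨τ, hτ⟩ := exists_rep_extension_of_local N ρ hρ hinv' hloc
  have hτirr : τ.IsIrreducible := by
    rw [isIrreducible_iff] at hρ ⊢
    refine ⟨hρ.1, fun U hU => hρ.2 U ?_⟩
    intro n v hv
    rw [← hτ n]
    exact hU n v hv
  refine ⟨τ.character, isIrrCharacter_of_rep τ hτirr, ?_⟩
  intro n
  show LinearMap.trace ℂ _ (τ n) = LinearMap.trace ℂ _ (ρ n)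
  rw [hτ n]

end Cfsg.Agent.S0888
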