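import Cfsg.Statements.S4566
import Mathlib

set_option autoImplicit false
open Cfsg

namespace Cfsg.Agent.S4566

open Representation

theorem central_scalar {G : Type*} [Group G] {V : Type*} [AddCommGroup V] [Module ℂ V]
    [FiniteDimensional ℂ V]
    (ρ : Representation ℂ G V) [ρ.IsIrreducible] (z : G) (hz : z ∈ Subgroup.center G) :
    ∃ c : ℂ, ρ z = c • (1 : Module.End ℂ V) := by
  have hbij := IsIrreducible.algebraMap_intertwiningMap_bijective_of_isAlgClosed (ρ := ρ)
  obtain ⟨c, hc⟩ := hbij.2 (IntertwiningMap.centralMul ρ z hz)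
  refine ⟨c, ?_⟩
  have := congrArg IntertwiningMap.toLinearMap hc
  rw [IntertwiningMap.algebraMap_apply, IntertwiningMap.toLinearMap_smul] at this
  exact this.symm

theorem char_mul_central {G : Type*} [Group G] (χ : G → ℂ) (hχ : Cfsg.IsIrrCharacter G χ) (z : G)
    (hz : z ∈ Subgroup.center G) :
    ∃ c : ℂ, ∀ g : G, χ (g * z) = c * χ g := by
  obtain ⟨n, ρ, hirr, rfl⟩ := hχ
  have := hirr
  obtain ⟨c, hc⟩ := central_scalar ρ z hz
  refine ⟨c, fun g => ?_⟩
  simp only [Representation.character, map_mul, hc]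
  simp

theorem irr_nontrivial {G : Type*} [Group G] {V : Type*} [AddCommGroup V] [Module ℂ V]
    (ρ : Representation ℂ G V) [ρ.IsIrreducible] : Nontrivial V := by
  by_contra h
  rw [not_nontrivial_iff_subsingleton] at h
  have : (⊥ : Subrepresentation ρ) = ⊤ := by
    apply Subrepresentation.toSubmodule_injective
    exact Subsingleton.elim _ _
  exact bot_ne_top this

theorem irr_char_one_ne_zero {G : Type*} [Group G] (χ : G → ℂ) (hχ : Cfsg.IsIrrCharacter G χ) :
    χ 1 ≠ 0 := by
  obtain ⟨n, ρ, hirr, rfl⟩ := hχ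
  have := hirr
  have hnt := irr_nontrivial ρ
  rw [Representation.char_one]
  have : 0 < Module.finrank ℂ (Fin n → ℂ) := Module.finrank_pos
  exact_mod_cast this.ne'

theorem irr_char_conj {G : Type*} [Group G] (χ : G → ℂ) (hχ : Cfsg.IsIrrCharacter G χ) (g h : G) :
    χ (h * g * h⁻¹) = χ g := by
  obtain ⟨n, ρ, hirr, rfl⟩ := hχ
  exact Representation.char_conj ρ g h

/-- Let N be a central subgroup of the finite group G, ψ a faithful irreducible (hence degree-one) character of N, and χ an irreducible character of G whose restriction to N contains ψ. If g ∈ G and some x ∈ G has commutator x⁻¹ g⁻¹ x g in N but different from 1, then χ g = 0. -/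
theorem result {G : Type*} [Group G] [Fintype G] (N : Subgroup G) [Fintype N] (hN : N ≤ Subgroup.center G) (ψ : Cfsg.IrrCharacter ↥N) (hfaith : ∀ n : ↥N, (ψ : ↥N → ℂ) n = (ψ : ↥N → ℂ) 1 → n = 1) (χ : Cfsg.IrrCharacter G) (hover : Cfsg.classInner (fun n : ↥N => (χ : G → ℂ) n) (ψ : ↥N → ℂ) ≠ 0) (g x : G) (hcomm : x⁻¹ * g⁻¹ * x * g ∈ N) (hne : x⁻¹ * g⁻¹ * x * g ≠ 1) : (χ : G → ℂ) g = 0 := by
  set z : G := x⁻¹ * g⁻¹ * x * g with hz
  obtain ⟨c, hc⟩ := char_mul_central χ.1 χ.2 z (hN hcomm)
  have hg : g = (x⁻¹ * g * x⁻¹⁻¹) * z := by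
    rw [hz]; group
  have h1 : (χ : G → ℂ) g = c * (χ : G → ℂ) g := by
    conv_lhs => rw [hg]
    rw [hc, irr_char_conj χ.1 χ.2]
  by_cases hc1 : c = 1
  · exfalso
    apply hover
    let zN : N := ⟨z, hcomm⟩
    have hzN : zN ∈ Subgroup.center N := by
      rw [Subgroup.mem_center_iff]
      intro n
      apply Subtype.ext
      have := (Subgroup.mem_center_iff.1 (hN hcomm)) (n : G)
      simpa [zN] using this
    obtain ⟨d, hd⟩ := char_mul_central ψ.1 ψ.2 zN hzN
    have hd1 : d ≠ 1 := by
      intro h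
      have h2 := hd 1
      rw [h, one_mul, one_mul] at h2
      have := hfaith zN h2
      apply hne
      have := congrArg Subtype.val this
      simpa [zN] using this
    have hS : (∑ n : N, (χ : G → ℂ) n * (starRingEnd ℂ) ((ψ : N → ℂ) n)) =
        (starRingEnd ℂ) d * ∑ n : N, (χ : G → ℂ) n * (starRingEnd ℂ) ((ψ : N → ℂ) n) := by
      conv_lhs => rw [← Equiv.sum_comp (Equiv.mulRight zN)]
      rw [Finset.mul_sum]
      apply Finset.sum_congr rfl
      intro n _
      simp only [Equiv.coe_mulRight, Subgroup.coe_mul]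
      rw [hd, show ((zN : N) : G) = z from rfl, hc, hc1, map_mul]
      ring
    have hS0 : (∑ n : N, (χ : G → ℂ) n * (starRingEnd ℂ) ((ψ : N → ℂ) n)) = 0 := by
      have hd2 : (starRingEnd ℂ) d ≠ 1 := by
        intro h
        apply hd1
        have := congrArg (starRingEnd ℂ) h
        simpa using this
      have : (1 - (starRingEnd ℂ) d) * (∑ n : N, (χ : G → ℂ) n * (starRingEnd ℂ) ((ψ : N → ℂ) n)) = 0 := by
        rw [sub_mul, one_mul, ← hS, sub_self]
      rcases mul_eq_zero.1 this with h | h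
      · exact absurd (sub_eq_zero.1 h).symm hd2
      · exact h
    unfold Cfsg.classInner
    rw [hS0, mul_zero]
  · have : (1 - c) * (χ : G → ℂ) g = 0 := by
      rw [sub_mul, one_mul, ← h1, sub_self]
    rcases mul_eq_zero.1 this with h | h
    · exact absurd (sub_eq_zero.1 h).symm hc1
    · exact h

end Cfsg.Agent.S4566
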