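import Cfsg.Statements.S0176
import Cfsg.Agent.S4566
import Cfsg.Agent.Lib.Helper80.Monomial
import Cfsg.Agent.Lib.Helper85.CliffordCorr
import Cfsg.Agent.Lib.Helper85.CliffordAbelian

set_option autoImplicit false
open Cfsg

namespace Cfsg.Agent.S0176

open Cfsg.Agent.Lib.Helper80 Cfsg.Agent.Lib.Helper85 Cfsg.Agent.Lib.Helper83

universe u

theorem main : ∀ (n : ℕ) (G : Type u) [Group G] [Fintype G] [Group.IsNilpotent G],
    Nat.card G = n → ∀ χ : G → ℂ, IsIrrCharacter G χ → IsMonomialChar G χ := by
  intro n
  induction n using Nat.strong_induction_on with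
  | _ n ih =>
  intro G _ _ _ hcard χ hχ
  classical
  have hχc := isCharacter_of_irr hχ
  by_cases hfaith : ∀ g : G, χ g = χ 1 → g = 1
  · -- faithful
    by_cases hcomm : ∀ a b : G, a * b = b * a
    · exact isMonomialChar_of_linear hχc (irr_apply_one_of_comm hcomm hχ)
    · -- nonabelian
      haveI : Nontrivial (G ⧸ Subgroup.center G) := by
        by_contra hnt
        rw [not_nontrivial_iff_subsingleton] at hnt
        apply hcomm
        intro a b
        have h1 : (QuotientGroup.mk a : G ⧸ Subgroup.center G) = QuotientGroup.mk 1 :=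
          Subsingleton.elim _ _
        rw [QuotientGroup.eq] at h1
        have h2 : a ∈ Subgroup.center G := by
          have := (Subgroup.center G).inv_mem h1
          simpa using this
        exact (Subgroup.mem_center_iff.1 h2 b).symm
      have hZ2 := Group.IsNilpotent.center_ne_bot (G := G ⧸ Subgroup.center G)
      obtain ⟨abar, habar, habar1⟩ := (Subgroup.ne_bot_iff_exists_ne_one
        (H := Subgroup.center (G ⧸ Subgroup.center G))).1 hZ2 |>.imp
          (fun x hx => hx) |> fun ⟨x, hx⟩ => (⟨x.1, x.2, fun h => hx (Subtype.ext h)⟩ :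
            ∃ y : G ⧸ Subgroup.center G, y ∈ Subgroup.center (G ⧸ Subgroup.center G) ∧ y ≠ 1)
      obtain ⟨a, rfl⟩ := QuotientGroup.mk_surjective abar
      have haZ : a ∉ Subgroup.center G := by
        intro h
        apply habar1
        exact (QuotientGroup.eq_one_iff a).2 h
      obtain ⟨g, hg⟩ : ∃ g, g * a ≠ a * g := by
        by_contra h
        push Not at h
        exact haZ (Subgroup.mem_center_iff.2 h)
      have hzZ : a⁻¹ * g⁻¹ * a * g ∈ Subgroup.center G := by
        rw [← QuotientGroup.eq_one_iff]
        have hc := Subgroup.mem_center_iff.1 habar (QuotientGroup.mk g⁻¹ : G ⧸ Subgroup.center G)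
        simp only [QuotientGroup.mk_mul, QuotientGroup.mk_inv] at hc ⊢
        calc ((a : G ⧸ Subgroup.center G))⁻¹ * (g : G ⧸ Subgroup.center G)⁻¹ * a * g
            = (a : G ⧸ Subgroup.center G)⁻¹ * ((g : G ⧸ Subgroup.center G)⁻¹ * a) * g := by group
          _ = (a : G ⧸ Subgroup.center G)⁻¹ * (a * (g : G ⧸ Subgroup.center G)⁻¹) * g := by rw [hc]
          _ = 1 := by group
      have hz1 : a⁻¹ * g⁻¹ * a * g ≠ 1 := by
        intro h
        apply hg
        have : g * a = a * g * (a⁻¹ * g⁻¹ * a * g)⁻¹ := by group
        rw [this, h, inv_one, mul_one]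
      obtain ⟨c, hc⟩ := Cfsg.Agent.S4566.char_mul_central χ hχ _ hzZ
      have hc1 : c ≠ 1 := by
        intro h
        have := hc 1
        rw [one_mul, h, one_mul] at this
        exact hz1 (hfaith _ this)
      have hχa : χ a = 0 := by
        have h1 : χ (g⁻¹ * a * g⁻¹⁻¹) = χ a := Cfsg.Agent.S4566.irr_char_conj χ hχ a g⁻¹
        have h2 : g⁻¹ * a * g⁻¹⁻¹ = a * (a⁻¹ * g⁻¹ * a * g) := by group
        rw [h2, hc] at h1
        have : (c - 1) * χ a = 0 := by rw [sub_mul, one_mul, h1, sub_self]
        rcases mul_eq_zero.1 this with h | h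
        · exact absurd (sub_eq_zero.1 h) hc1
        · exact h
      -- the abelian normal subgroup A = <a> Z(G)
      obtain ⟨A, hAdef⟩ : ∃ A : Subgroup G, A = (Subgroup.zpowers
          (QuotientGroup.mk a : G ⧸ Subgroup.center G)).comap
            (QuotientGroup.mk' (Subgroup.center G)) := ⟨_, rfl⟩
      have hmemA : ∀ x : G, x ∈ A ↔ ∃ i : ℤ, (a ^ i)⁻¹ * x ∈ Subgroup.center G := by
        intro x
        rw [hAdef, Subgroup.mem_comap, Subgroup.mem_zpowers_iff]
        constructor
        · rintro ⟨i, hi⟩
          refine ⟨i, ?_⟩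
          rw [← QuotientGroup.eq, QuotientGroup.mk_zpow]
          exact hi
        · rintro ⟨i, hi⟩
          refine ⟨i, ?_⟩
          rw [← QuotientGroup.eq, QuotientGroup.mk_zpow] at hi
          exact hi
      have hA : A.Normal := by
        constructor
        intro x hx y
        rw [hAdef, Subgroup.mem_comap] at hx ⊢
        obtain ⟨i, hi⟩ := Subgroup.mem_zpowers_iff.1 hx
        have hcen : (QuotientGroup.mk' (Subgroup.center G)) x ∈
            Subgroup.center (G ⧸ Subgroup.center G) := by
          rw [← hi]
          exact Subgroup.zpow_mem _ habar i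
        have h1 := Subgroup.mem_center_iff.1 hcen ((QuotientGroup.mk' (Subgroup.center G)) y)
        rw [map_mul, map_mul, h1, map_inv]
        simpa using hx
      have hAcomm : ∀ x y : A, x * y = y * x := by
        intro x y
        obtain ⟨i, hi⟩ := (hmemA x.1).1 x.2
        obtain ⟨j, hj⟩ := (hmemA y.1).1 y.2
        apply Subtype.ext
        have hx : (x : G) = a ^ i * ((a ^ i)⁻¹ * x) := by group
        have hy : (y : G) = a ^ j * ((a ^ j)⁻¹ * y) := by group
        have c1 := Subgroup.mem_center_iff.1 hi
        have c2 := Subgroup.mem_center_iff.1 hj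
        show (x : G) * y = y * x
        rw [hx, hy]
        set u := (a ^ i)⁻¹ * (x : G)
        set v := (a ^ j)⁻¹ * (y : G)
        calc a ^ i * u * (a ^ j * v) = a ^ i * (u * a ^ j) * v := by group
          _ = a ^ i * (a ^ j * u) * v := by rw [← c1]
          _ = a ^ i * a ^ j * (u * v) := by group
          _ = a ^ j * a ^ i * (u * v) := by rw [← zpow_add, ← zpow_add, add_comm]
          _ = a ^ j * a ^ i * (v * u) := by rw [c2 u]
          _ = a ^ j * (a ^ i * v) * u := by group
          _ = a ^ j * (v * a ^ i) * u := by rw [c2]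
          _ = a ^ j * v * (a ^ i * u) := by group
      have haA : a ∈ A := by
        rw [hmemA]
        exact ⟨1, by simp⟩
      letI : Fintype A := Fintype.ofFinite _
      have hres : IsCharacter A (fun x : A => χ x) := isCharacter_restrict A hχc
      obtain ⟨lam, hlam, hlamc⟩ := exists_irr_constituent hres (by
        show χ ((1 : A) : G) ≠ 0
        simpa using Cfsg.Agent.S4566.irr_char_one_ne_zero χ hχ)
      have hlam1 : lam 1 = 1 := irr_apply_one_of_comm hAcomm hlam
      have hlam_a : lam ⟨a, haA⟩ ≠ 0 :=
        char_deg_one_ne_zero (isCharacter_of_irr hlam) hlam1 _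
      obtain ⟨ψ, hψ, ⟨f, hf0, hfψ⟩, hχind⟩ := exists_irr_conjStab hA hχ hlam hlamc
      letI : Fintype (conjStab hA lam) := Fintype.ofFinite _
      have hTne : ¬ ∀ g, g ∈ conjStab hA lam := by
        intro hT
        have h1 := indFun_of_forall_mem (conjStab hA lam) hT ψ
          (char_isClassFunction (isCharacter_of_irr hψ)) a
        rw [← hχind, hχa] at h1
        have h3 := congrFun hfψ ⟨a, haA⟩
        simp only [Pi.smul_apply, smul_eq_mul] at h3
        have h4 : ψ ⟨a, hT a⟩ = f * lam ⟨a, haA⟩ := h3
        rw [h4] at h1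
        exact (mul_ne_zero hf0 hlam_a) h1.symm
      have hlt : Nat.card (conjStab hA lam) < n := by
        rw [← hcard]
        apply lt_of_le_of_ne (Subgroup.card_le_card_group _)
        intro heq
        apply hTne
        have := Subgroup.eq_top_of_card_eq _ heq
        intro g
        rw [this]
        exact Subgroup.mem_top g
      have hmono := ih _ hlt (conjStab hA lam) rfl ψ hψ
      rw [hχind]
      exact isMonomialChar_induce (conjStab hA lam) hmono
  · -- not faithful
    push Not at hfaith
    obtain ⟨g₀, hg₀, hg₀1⟩ := hfaith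
    have hK : g₀ ∈ charKer hχc := hg₀
    letI : Fintype (G ⧸ charKer hχc) := Fintype.ofFinite _
    obtain ⟨ψ, hψ, hψχ⟩ := exists_isIrrCharacter_quotient (charKer hχc) hχ (fun n hn => hn)
    have hlt : Nat.card (G ⧸ charKer hχc) < n := by
      have h1 := Subgroup.card_mul_index (charKer hχc)
      have h2 : Nat.card (G ⧸ charKer hχc) = (charKer hχc).index := rfl
      have h3 : 1 < Nat.card (charKer hχc) := by
        rw [Subgroup.one_lt_card_iff_ne_bot]
        intro hbot
        rw [hbot, Subgroup.mem_bot] at hK
        exact hg₀1 hK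
      have h4 : 0 < (charKer hχc).index := Nat.pos_of_ne_zero Subgroup.index_ne_zero_of_finite
      rw [h2, ← hcard, ← h1]
      nlinarith
    have h5 := ih _ hlt (G ⧸ charKer hχc) rfl ψ hψ
    have h6 := isMonomialChar_inflate (charKer hχc) h5
    have h7 : (fun g : G => ψ (QuotientGroup.mk g)) = χ := funext hψχ
    rw [h7] at h6
    exact h6

/-- A finite nilpotent group is an M-group: each irreducible complex character is induced from a homomorphism of some subgroup into ℂˣ. -/
theorem result {G : Type*} [Group G] [Fintype G] [Group.IsNilpotent G] (χ : G → ℂ) (hχ : Cfsg.IsIrrCharacter G χ) : ∃ (H : Subgroup G) (lam : H →* ℂˣ), χ = Cfsg.indFun H (fun h => (lam h : ℂ)) := by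
  exact main (Nat.card G) G rfl χ hχ

end Cfsg.Agent.S0176
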