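import Cfsg.Statements.S0903
import Mathlib

set_option autoImplicit false
open Cfsg

namespace Cfsg.Agent.S0903

section
variable {G : Type*} [Group G] (P : Subgroup G) (c g h : G)

/-- Conjugation action of `P` on pairs `(x, y)` with `x ~ g`, `y ~ h`, `x * y = c`. -/
@[instance_reducible]
def pairAction (hc : c ∈ Subgroup.centralizer (P : Set G)) :
    MulAction P {xy : G × G // IsConj g xy.1 ∧ IsConj h xy.2 ∧ xy.1 * xy.2 = c} where
  smul t xy := ⟨((t : G) * xy.1.1 * (t : G)⁻¹, (t : G) * xy.1.2 * (t : G)⁻¹), by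
    obtain ⟨⟨x, y⟩, h1, h2, h3⟩ := xy
    refine ⟨?_, ?_, ?_⟩
    · exact h1.trans (isConj_iff.2 ⟨t, rfl⟩)
    · exact h2.trans (isConj_iff.2 ⟨t, rfl⟩)
    · simp only at h3 ⊢
      have : (t : G) * x * (t : G)⁻¹ * ((t : G) * y * (t : G)⁻¹) = (t : G) * (x * y) * (t : G)⁻¹ := by
        group
      rw [this, h3]
      have hct := (Subgroup.mem_centralizer_iff.1 hc) (t : G) t.2
      rw [hct, mul_inv_cancel_right]⟩
  one_smul xy := by
    apply Subtype.ext
    show (((1 : P) : G) * xy.1.1 * ((1 : P) : G)⁻¹, ((1 : P) : G) * xy.1.2 * ((1 : P) : G)⁻¹) = xy.1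
    simp
  mul_smul s t xy := by
    apply Subtype.ext
    show (((s * t : P) : G) * xy.1.1 * ((s * t : P) : G)⁻¹, ((s * t : P) : G) * xy.1.2 * ((s * t : P) : G)⁻¹)
      = ((s : G) * ((t : G) * xy.1.1 * (t : G)⁻¹) * (s : G)⁻¹, (s : G) * ((t : G) * xy.1.2 * (t : G)⁻¹) * (s : G)⁻¹)
    simp [mul_assoc]

end

theorem result {G : Type*} [Group G] [Finite G] (p : ℕ) [Fact p.Prime] (P : Subgroup G) (hP : IsPGroup p P) (c : G) (hc : c ∈ Subgroup.centralizer (P : Set G)) (g h : G) : Nat.card {xy : G × G // IsConj g xy.1 ∧ IsConj h xy.2 ∧ xy.1 * xy.2 = c} ≡ Nat.card {xy : G × G // IsConj g xy.1 ∧ IsConj h xy.2 ∧ xy.1 * xy.2 = c ∧ xy.1 ∈ Subgroup.centralizer (P : Set G) ∧ xy.2 ∈ Subgroup.centralizer (P : Set G)} [MOD p] := by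
  let _ := pairAction P c g h hc
  have key := hP.card_modEq_card_fixedPoints {xy : G × G // IsConj g xy.1 ∧ IsConj h xy.2 ∧ xy.1 * xy.2 = c}
  refine key.trans ?_
  have hsmul : ∀ (t : P) (xy : {xy : G × G // IsConj g xy.1 ∧ IsConj h xy.2 ∧ xy.1 * xy.2 = c}),
      (t • xy).1 = ((t : G) * xy.1.1 * (t : G)⁻¹, (t : G) * xy.1.2 * (t : G)⁻¹) := fun _ _ => rfl
  have e : MulAction.fixedPoints P {xy : G × G // IsConj g xy.1 ∧ IsConj h xy.2 ∧ xy.1 * xy.2 = c} ≃
      {xy : G × G // IsConj g xy.1 ∧ IsConj h xy.2 ∧ xy.1 * xy.2 = c ∧ xy.1 ∈ Subgroup.centralizer (P : Set G) ∧ xy.2 ∈ Subgroup.centralizer (P : Set G)} :=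
    { toFun := fun z => ⟨z.1.1, z.1.2.1, z.1.2.2.1, z.1.2.2.2, by
        have hz := z.2
        constructor
        · rw [Subgroup.mem_centralizer_iff]
          intro t ht
          have h1 := congrArg Subtype.val (hz ⟨t, ht⟩)
          rw [hsmul] at h1
          have h2 := congrArg Prod.fst h1
          simp only at h2
          exact mul_inv_eq_iff_eq_mul.1 h2
        · rw [Subgroup.mem_centralizer_iff]
          intro t ht
          have h1 := congrArg Subtype.val (hz ⟨t, ht⟩)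
          rw [hsmul] at h1
          have h2 := congrArg Prod.snd h1
          simp only at h2
          exact mul_inv_eq_iff_eq_mul.1 h2⟩
      invFun := fun z => ⟨⟨z.1, z.2.1, z.2.2.1, z.2.2.2.1⟩, by
        intro t
        apply Subtype.ext
        rw [hsmul]
        have h1 := (Subgroup.mem_centralizer_iff.1 z.2.2.2.2.1) (t : G) t.2
        have h2 := (Subgroup.mem_centralizer_iff.1 z.2.2.2.2.2) (t : G) t.2
        simp only
        rw [h1, h2, mul_inv_cancel_right, mul_inv_cancel_right]⟩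
      left_inv := fun z => by rfl
      right_inv := fun z => by rfl }
  rw [Nat.card_congr e]

end Cfsg.Agent.S0903
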