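import Cfsg.Statements.S0905
import Cfsg.Agent.Lib.Helper21.GroupAlgNilp

set_option autoImplicit false
open Cfsg

namespace Cfsg.Agent.S0905

open Cfsg.Agent.Lib.Helper21

section
variable {G : Type*} [Group G] (Q : Subgroup G) [hQ : Q.Normal] (g : G) (y : G ⧸ Q)

/-- Conjugation action of the normal subgroup `Q` on the part of a conjugacy class lying in a
fixed coset of `Q`. -/
@[instance_reducible]
def cosetClassAction : MulAction Q {x : G // IsConj g x ∧ (QuotientGroup.mk x : G ⧸ Q) = y} where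
  smul t x := ⟨(t : G) * x.1 * (t : G)⁻¹, x.2.1.trans (isConj_iff.2 ⟨t, rfl⟩), by
    have ht : (QuotientGroup.mk (t : G) : G ⧸ Q) = 1 := (QuotientGroup.eq_one_iff _).2 t.2
    rw [QuotientGroup.mk_mul, QuotientGroup.mk_mul, QuotientGroup.mk_inv, ht, x.2.2]
    simp⟩
  one_smul x := by
    apply Subtype.ext
    show ((1 : Q) : G) * x.1 * ((1 : Q) : G)⁻¹ = x.1
    simp
  mul_smul s t x := by
    apply Subtype.ext
    show ((s * t : Q) : G) * x.1 * ((s * t : Q) : G)⁻¹ = (s : G) * ((t : G) * x.1 * (t : G)⁻¹) * (s : G)⁻¹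
    simp [mul_assoc]

end

theorem card_fibre_dvd {G : Type*} [Group G] [Finite G] (p : ℕ) [Fact p.Prime] (Q : Subgroup G)
    [hQ : Q.Normal] (hQp : IsPGroup p Q) (g : G)
    (hg : ∀ x : G, IsConj g x → x ∉ Subgroup.centralizer (Q : Set G)) (y : G ⧸ Q) :
    p ∣ Nat.card {x : G // IsConj g x ∧ (QuotientGroup.mk x : G ⧸ Q) = y} := by
  let _ := cosetClassAction Q g y
  have key := hQp.card_modEq_card_fixedPoints {x : G // IsConj g x ∧ (QuotientGroup.mk x : G ⧸ Q) = y}
  have hempty : IsEmpty (MulAction.fixedPoints Q {x : G // IsConj g x ∧ (QuotientGroup.mk x : G ⧸ Q) = y}) := by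
    constructor
    rintro ⟨x, hx⟩
    apply hg x.1 x.2.1
    rw [Subgroup.mem_centralizer_iff]
    intro t ht
    have h1 := congrArg Subtype.val (hx ⟨t, ht⟩)
    have h2 : t * x.1 * t⁻¹ = x.1 := h1
    exact mul_inv_eq_iff_eq_mul.1 h2
  have h0 : Nat.card (MulAction.fixedPoints Q {x : G // IsConj g x ∧ (QuotientGroup.mk x : G ⧸ Q) = y}) = 0 :=
    Nat.card_eq_zero.2 (Or.inl hempty)
  rw [h0] at key
  exact (Nat.modEq_zero_iff_dvd).1 key

theorem result {G : Type*} [Group G] [Finite G] (p : ℕ) [Fact p.Prime] (F : Type*) [Field F] [CharP F p] (g : G) (hg : ∀ x : G, IsConj g x → x ∉ Subgroup.centralizer (Cfsg.pCore p G : Set G)) : IsNilpotent (∑ᶠ x ∈ ConjClasses.carrier (ConjClasses.mk g), MonoidAlgebra.single x (1 : F) : MonoidAlgebra F G) := by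
  classical
  have hQn : (Cfsg.pCore p G).Normal := Subgroup.sSup_normal _ (fun _ h => h.1)
  have hQp : IsPGroup p (Cfsg.pCore p G) := Sylow.sSup_of_normal _ (fun _ h => h.2) (fun _ h => h.1)
  apply isNilpotent_of_mapDomain_eq_zero p (Cfsg.pCore p G) hQp
  have := Fintype.ofFinite G
  have hsum : (∑ᶠ x ∈ ConjClasses.carrier (ConjClasses.mk g), MonoidAlgebra.single x (1 : F) : MonoidAlgebra F G)
      = ∑ x ∈ Finset.univ.filter (fun x => IsConj g x), MonoidAlgebra.single x (1 : F) := by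
    rw [finsum_mem_eq_finite_toFinset_sum _ (Set.toFinite _)]
    apply Finset.sum_congr
    · ext x
      simp only [Set.Finite.mem_toFinset, ConjClasses.mem_carrier_iff_mk_eq,
        ConjClasses.mk_eq_mk_iff_isConj, Finset.mem_filter, Finset.mem_univ, true_and]
      exact isConj_comm
    · intros; rfl
  rw [hsum]
  show MonoidAlgebra.mapDomainRingHom F (QuotientGroup.mk' (Cfsg.pCore p G)) _ = 0
  rw [map_sum]
  apply MonoidAlgebra.coeff_injective
  ext y
  rw [MonoidAlgebra.coeff_sum, Finsupp.finsetSum_apply]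
  simp only [MonoidAlgebra.mapDomainRingHom, MonoidAlgebra.coeff_zero, Finsupp.coe_zero, Pi.zero_apply]
  have hterm : ∀ x : G, (MonoidAlgebra.mapDomain (QuotientGroup.mk' (Cfsg.pCore p G)) (MonoidAlgebra.single x (1 : F))).coeff y
      = if (QuotientGroup.mk x : G ⧸ Cfsg.pCore p G) = y then 1 else 0 := by
    intro x
    rw [MonoidAlgebra.mapDomain_single, MonoidAlgebra.coeff_single, Finsupp.single_apply]
    rfl
  show ∑ x ∈ Finset.univ.filter (fun x => IsConj g x), (MonoidAlgebra.mapDomain (QuotientGroup.mk' (Cfsg.pCore p G)) (MonoidAlgebra.single x (1 : F))).coeff y = 0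
  simp_rw [hterm]
  rw [Finset.sum_boole, Finset.filter_filter]
  have hcard : (Finset.univ.filter (fun x : G => IsConj g x ∧ (QuotientGroup.mk x : G ⧸ Cfsg.pCore p G) = y)).card
      = Nat.card {x : G // IsConj g x ∧ (QuotientGroup.mk x : G ⧸ Cfsg.pCore p G) = y} := by
    rw [Nat.card_eq_fintype_card, Fintype.card_subtype]
  rw [hcard]
  exact (CharP.cast_eq_zero_iff F p _).2 (card_fibre_dvd p _ hQp g hg y)

end Cfsg.Agent.S0905
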