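import Cfsg.Statements.S0912
import Cfsg.Agent.Lib.Helper21.NilpBridge
import Cfsg.Agent.S0905

set_option autoImplicit false
open Cfsg

namespace Cfsg.Agent.S0912

open Cfsg.Agent.Lib.Helper21 Cfsg.Agent.Lib.Helper82

/-- A class on which some central character is nonzero modulo the local ideal meets the
centralizer of `O_p(G)`. -/
theorem exists_conj_mem_centralizer_pCore {G : Type*} [Group G] [Finite G] (p : ℕ) [Fact p.Prime]
    (M : Ideal Cfsg.AlgInt) (hM : Cfsg.IsPModular p M) (g : G) (χ : Cfsg.IrrCharacter G)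
    (hχ : ¬ Cfsg.MemLocalIdeal M (Cfsg.centralChar (χ : G → ℂ) g)) :
    ∃ x : G, IsConj g x ∧ x ∈ Subgroup.centralizer (Cfsg.pCore p G : Set G) := by
  classical
  have := Fintype.ofFinite G
  have := Fintype.ofFinite (Cfsg.IrrCharacter G)
  by_contra hcon
  push Not at hcon
  have hnil := Cfsg.Agent.S0905.result p (ZMod p) g hcon
  have hsum : (∑ᶠ x ∈ ConjClasses.carrier (ConjClasses.mk g), MonoidAlgebra.single x (1 : ZMod p) : MonoidAlgebra (ZMod p) G)
      = ∑ x ∈ Finset.univ.filter (fun x => IsConj g x), MonoidAlgebra.single x (1 : ZMod p) := by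
    rw [finsum_mem_eq_finite_toFinset_sum _ (Set.toFinite _)]
    apply Finset.sum_congr
    · ext x
      simp only [Set.Finite.mem_toFinset, ConjClasses.mem_carrier_iff_mk_eq,
        ConjClasses.mk_eq_mk_iff_isConj, Finset.mem_filter, Finset.mem_univ, true_and]
      exact isConj_comm
    · intros; rfl
  rw [hsum] at hnil
  exact hχ (memLocalIdeal_centralChar_of_isNilpotent hM g hnil χ)

theorem result {G : Type*} [Group G] [Finite G] (p : ℕ) [Fact p.Prime] (M : Ideal Cfsg.AlgInt) (hM : Cfsg.IsPModular p M) (B : Set (Cfsg.IrrCharacter G)) (hB : Cfsg.IsPBlock M B) (D : Subgroup G) (hD : Cfsg.IsDefectGroup p M B D) : Cfsg.pCore p G ≤ D := by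
  classical
  have hprime : M.IsPrime := hM.2.1.isPrime
  obtain ⟨g, hg, P, rfl⟩ := hD
  obtain ⟨χ₀, hχ₀⟩ := Cfsg.Agent.Lib.Helper82.IsPBlock.nonempty hprime hB
  obtain ⟨x, hx, hxc⟩ := exists_conj_mem_centralizer_pCore p M hM g χ₀ (hg.2.2 χ₀ hχ₀)
  obtain ⟨t, rfl⟩ := isConj_iff.1 hx
  have hQn : (Cfsg.pCore p G).Normal := Subgroup.sSup_normal _ (fun _ h => h.1)
  have hQp : IsPGroup p (Cfsg.pCore p G) := Sylow.sSup_of_normal _ (fun _ h => h.2) (fun _ h => h.1)
  -- `O_p(G) ≤ C(g)`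
  have hle : Cfsg.pCore p G ≤ Subgroup.centralizer ({g} : Set G) := by
    intro q hq
    rw [Subgroup.mem_centralizer_iff]
    intro y hy
    rw [Set.mem_singleton_iff] at hy
    subst hy
    have hq' : t * q * t⁻¹ ∈ Cfsg.pCore p G := hQn.conj_mem q hq t
    have h1 := (Subgroup.mem_centralizer_iff.1 hxc) _ hq'
    have h2 : t * (q * y) * t⁻¹ = t * (y * q) * t⁻¹ := by
      calc t * (q * y) * t⁻¹ = (t * q * t⁻¹) * (t * y * t⁻¹) := by group
        _ = (t * y * t⁻¹) * (t * q * t⁻¹) := h1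
        _ = t * (y * q) * t⁻¹ := by group
    have h3 : q * y = y * q := mul_left_cancel (mul_right_cancel h2)
    exact h3.symm
  have hNn : ((Cfsg.pCore p G).subgroupOf (Subgroup.centralizer ({g} : Set G))).Normal :=
    hQn.subgroupOf _
  have hNp : IsPGroup p ((Cfsg.pCore p G).subgroupOf (Subgroup.centralizer ({g} : Set G))) :=
    hQp.comap_subtype
  have hNP := hNp.le_sylow_of_normal P
  intro q hq
  exact ⟨⟨q, hle hq⟩, hNP (Subgroup.mem_subgroupOf.2 hq), rfl⟩

end Cfsg.Agent.S0912
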