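import Cfsg.Statements.S0918
import Cfsg.Agent.Lib.Helper21.NilpBridge
import Cfsg.Agent.S0912

set_option autoImplicit false
open Cfsg

namespace Cfsg.Agent.S0918

open Cfsg.Agent.Lib.Helper21 Cfsg.Agent.Lib.Helper82 Cfsg.Agent.Lib.Helper83

theorem finsum_mem_eq_sum_ite' {α : Type*} [Fintype α] (A : Set α) [DecidablePred (· ∈ A)]
    (F : α → ℂ) : ∑ᶠ x ∈ A, F x = ∑ x : α, if x ∈ A then F x else 0 := by
  rw [finsum_mem_eq_finite_toFinset_sum F (Set.toFinite A), ← Finset.sum_filter]
  apply Finset.sum_congr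
  · ext x; simp
  · intros; rfl

/-- The difference between the induced central character and its Brauer-map form lies in the
local ideal. -/
theorem induced_sub_brauer {G : Type*} [Group G] [Finite G] (p : ℕ) [Fact p.Prime]
    (M : Ideal Cfsg.AlgInt) (hM : Cfsg.IsPModular p M) (P H : Subgroup G) (hP : IsPGroup p P)
    (hPH : P ≤ H) (hHN : H ≤ Subgroup.normalizer (P : Set G)) (ξ : Cfsg.IrrCharacter H) (g : G) :
    Cfsg.MemLocalIdeal M (Cfsg.inducedCentralChar H (ξ : H → ℂ) g -
      Cfsg.brauerCentralChar P H (ξ : H → ℂ) g) := by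
  classical
  have := Fintype.ofFinite G
  have := Fintype.ofFinite H
  have := Fintype.ofFinite (Cfsg.IrrCharacter H)
  have hprime : M.IsPrime := hM.2.1.isPrime
  -- the indicator of the bad set
  set ind : H → ℂ := fun h => if IsConj g (h : G) ∧ (h : G) ∉ Subgroup.centralizer (P : Set G)
    then (1 : ℂ) else 0 with hind
  have hdiff : Cfsg.inducedCentralChar H (ξ : H → ℂ) g - Cfsg.brauerCentralChar P H (ξ : H → ℂ) g
      = omega ind (ξ : H → ℂ) := by
    rw [Cfsg.inducedCentralChar, Cfsg.brauerCentralChar, finsum_mem_eq_sum_ite',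
      finsum_mem_eq_sum_ite', ← Finset.sum_sub_distrib, omega, Finset.sum_div]
    apply Finset.sum_congr rfl
    intro h _
    have e1 : (h ∈ {h : H | IsConj g (h : G)}) ↔ IsConj g (h : G) := Iff.rfl
    have e2 : (h ∈ {h : H | IsConj g (h : G) ∧ (h : G) ∈ Subgroup.centralizer (P : Set G)}) ↔
        (IsConj g (h : G) ∧ (h : G) ∈ Subgroup.centralizer (P : Set G)) := Iff.rfl
    rw [if_congr e1 rfl rfl, if_congr e2 rfl rfl]
    have e3 : ind h = if IsConj g (h : G) ∧ (h : G) ∉ Subgroup.centralizer (P : Set G)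
        then (1 : ℂ) else 0 := rfl
    rw [e3]
    by_cases h1 : IsConj g (h : G)
    · by_cases h2 : (h : G) ∈ Subgroup.centralizer (P : Set G)
      · rw [if_pos h1, if_pos ⟨h1, h2⟩, if_neg (fun hc => hc.2 h2)]; ring
      · rw [if_pos h1, if_neg (fun hc => h2 hc.2), if_pos ⟨h1, h2⟩]; ring
    · rw [if_neg h1, if_neg (fun hc => h1 hc.1), if_neg (fun hc => h1 hc.1)]; ring
  -- conjugation by `H` preserves the centralizer of `P`
  have hstab : ∀ (x : H) (c : H), ((c * x * c⁻¹ : H) : G) ∈ Subgroup.centralizer (P : Set G) ↔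
      (x : G) ∈ Subgroup.centralizer (P : Set G) := by
    have hone : ∀ (x : H) (c : H), (x : G) ∈ Subgroup.centralizer (P : Set G) →
        ((c * x * c⁻¹ : H) : G) ∈ Subgroup.centralizer (P : Set G) := by
      intro x c hx
      rw [Subgroup.mem_centralizer_iff] at hx ⊢
      intro q hq
      have hcN : (c : G)⁻¹ ∈ Subgroup.normalizer (P : Set G) :=
        Subgroup.inv_mem _ (hHN c.2)
      have hq' : (c : G)⁻¹ * q * ((c : G)⁻¹)⁻¹ ∈ P := (Subgroup.mem_normalizer_iff.1 hcN q).1 hq
      have h1 := hx _ hq'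
      simp only [inv_inv] at h1
      push_cast
      calc q * ((c : G) * x * (c : G)⁻¹) = c * (((c : G)⁻¹ * q * c) * x) * (c : G)⁻¹ := by group
        _ = c * (x * ((c : G)⁻¹ * q * c)) * (c : G)⁻¹ := by rw [h1]
        _ = (c : G) * x * (c : G)⁻¹ * q := by group
    intro x c
    refine ⟨fun h => ?_, hone x c⟩
    have := hone (c * x * c⁻¹) c⁻¹ h
    have e : c⁻¹ * (c * x * c⁻¹) * c⁻¹⁻¹ = x := by group
    rwa [e] at this
  have hcf : Cfsg.IsClassFunction H ind := by
    intro x c
    simp only [hind]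
    have h1 : IsConj g ((c * x * c⁻¹ : H) : G) ↔ IsConj g (x : G) := by
      constructor
      · intro e
        refine e.trans (isConj_iff.2 ⟨(c : G)⁻¹, ?_⟩)
        push_cast; group
      · intro e
        refine e.trans (isConj_iff.2 ⟨(c : G), ?_⟩)
        push_cast; rfl
    have h3 : (IsConj g ((c * x * c⁻¹ : H) : G) ∧
        ((c * x * c⁻¹ : H) : G) ∉ Subgroup.centralizer (P : Set G)) ↔
        (IsConj g (x : G) ∧ (x : G) ∉ Subgroup.centralizer (P : Set G)) := by
      rw [h1, hstab x c]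
    exact if_congr h3 rfl rfl
  rw [hdiff, omega_eq_sum_classes hcf (isClassFunction_irr ξ)]
  apply memLocalIdeal_sum hprime
  intro K _
  by_cases hK : IsConj g ((Quotient.out K : H) : G) ∧
      ((Quotient.out K : H) : G) ∉ Subgroup.centralizer (P : Set G)
  · -- the class of `K.out` misses the centralizer of `O_p(H)`
    apply memLocalIdeal_mul_left hprime
    · simp only [hind, if_pos hK]; exact memLocalRing_one hprime
    · by_contra hcon
      obtain ⟨x, hx, hxc⟩ := Cfsg.Agent.S0912.exists_conj_mem_centralizer_pCore p M hM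
        (Quotient.out K : H) ξ hcon
      obtain ⟨c, rfl⟩ := isConj_iff.1 hx
      apply hK.2
      rw [← hstab (Quotient.out K) c]
      -- `P ∩ H ≤ O_p(H)`
      have hPle : P.subgroupOf H ≤ Cfsg.pCore p H := by
        apply le_sSup
        refine ⟨?_, hP.comap_subtype⟩
        constructor
        intro n hn y
        rw [Subgroup.mem_subgroupOf] at hn ⊢
        push_cast
        exact (Subgroup.mem_normalizer_iff.1 (hHN y.2) n).1 hn
      rw [Subgroup.mem_centralizer_iff]
      intro q hq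
      have h1 := (Subgroup.mem_centralizer_iff.1 hxc) ⟨q, hPH hq⟩
        (hPle (Subgroup.mem_subgroupOf.2 hq))
      exact congrArg Subtype.val h1
  · simp only [hind, if_neg hK, zero_mul]
    exact memLocalIdeal_zero hprime

theorem result {G : Type*} [Group G] [Finite G] (p : ℕ) [Fact p.Prime] (M : Ideal Cfsg.AlgInt) (hM : Cfsg.IsPModular p M) (P H : Subgroup G) (hP : IsPGroup p P) (hPH : P ≤ H) (hCH : Subgroup.centralizer (P : Set G) ≤ H) (hHN : H ≤ Subgroup.normalizer (P : Set G)) (b : Set (Cfsg.IrrCharacter H)) (hb : Cfsg.IsPBlock M b) (B : Set (Cfsg.IrrCharacter G)) (hB : Cfsg.IsPBlock M B) : Cfsg.IsInducedBlock M H b B ↔ ∀ ξ ∈ b, ∀ χ ∈ B, ∀ g : G, Cfsg.MemLocalIdeal M (Cfsg.brauerCentralChar P H (ξ : H → ℂ) g - Cfsg.centralChar (χ : G → ℂ) g) := by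
  have hprime : M.IsPrime := hM.2.1.isPrime
  constructor
  · rintro ⟨_, _, h⟩ ξ hξ χ hχ g
    have h1 := h ξ hξ χ hχ g
    have h2 := induced_sub_brauer p M hM P H hP hPH hHN ξ g
    have := memLocalIdeal_sub hprime h1 h2
    convert this using 1
    ring
  · intro h
    refine ⟨hb, hB, fun ξ hξ χ hχ g => ?_⟩
    have h1 := h ξ hξ χ hχ g
    have h2 := induced_sub_brauer p M hM P H hP hPH hHN ξ g
    have := memLocalIdeal_add hprime h1 h2
    convert this using 1
    ring

end Cfsg.Agent.S0918
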