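import Cfsg.Statements.S0919
import Cfsg.Agent.Lib.Helper21.BrauerMap
import Cfsg.Agent.Lib.Helper21.BlockHom
import Cfsg.Agent.S0918

set_option autoImplicit false
open Cfsg

namespace Cfsg.Agent.S0919

open Cfsg.Agent.Lib.Helper21 Cfsg.Agent.Lib.Helper82 Cfsg.Agent.Lib.Helper83

/-- A class function with values in the local ideal has central-character values in the local
ideal. -/
theorem memLocalIdeal_omega {G : Type*} [Group G] [Fintype G] [Fintype (IrrCharacter G)]
    {M : Ideal AlgInt} (hM : M.IsPrime) {f : G → ℂ} (hf : IsClassFunction G f)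
    (hfI : ∀ g, MemLocalIdeal M (f g)) (χ : IrrCharacter G) :
    MemLocalIdeal M (omega f (χ : G → ℂ)) := by
  classical
  rw [omega_eq_sum_classes hf (isClassFunction_irr χ)]
  exact memLocalIdeal_sum hM _ _ (fun K _ =>
    memLocalIdeal_mul_right hM (hfI _) (memLocalRing_centralChar hM χ _))

/-- The Brauer functional `F ↦ ω_ξ(Br_P(F))` is a homomorphism modulo the local ideal. -/
theorem isModHom_brauer {G : Type*} [Group G] [Fintype G] [Fintype (IrrCharacter G)]
    {p : ℕ} [Fact p.Prime] {M : Ideal AlgInt} (hMod : IsPModular p M) (P H : Subgroup G)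
    [Fintype H] [Fintype (IrrCharacter H)]
    (hP : IsPGroup p P) (hCH : Subgroup.centralizer (P : Set G) ≤ H)
    (hHN : H ≤ Subgroup.normalizer (P : Set G)) (ξ₀ : IrrCharacter H) :
    IsModHom M (fun F : G → ℂ => omega (resC P H F) (ξ₀ : H → ℂ)) := by
  classical
  have hM : M.IsPrime := hMod.2.1.isPrime
  refine ⟨fun f h => ?_, fun c f => ?_, ?_, fun f hf => ?_, fun f h hf hh => ?_⟩
  · show omega (resC P H (f + h)) (ξ₀ : H → ℂ) = _
    rw [resC_add, omega_add]
  · show omega (resC P H (c • f)) (ξ₀ : H → ℂ) = _
    rw [resC_smul, omega_smul]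
  · show omega (resC P H deltaOne) (ξ₀ : H → ℂ) = 1
    have : resC P H (deltaOne : G → ℂ) = (deltaOne : H → ℂ) := by
      ext h
      rw [resC_apply, deltaOne_eq, deltaOne_eq]
      by_cases hh : h = 1
      · subst hh
        simp
      · have : (h : G) ≠ 1 := fun hc => hh (Subtype.ext hc)
        simp [hh, this]
    rw [this, omega_deltaOne]
  · show MemLocalRing M (omega (resC P H f) (ξ₀ : H → ℂ))
    exact memLocalRing_omega hM (resC_isClassFunction P H hHN hf.1)
      (resC_memLocalRing P H hM hf.2) ξ₀
  · show MemLocalIdeal M (omega (resC P H (conv f h)) (ξ₀ : H → ℂ) -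
      omega (resC P H f) (ξ₀ : H → ℂ) * omega (resC P H h) (ξ₀ : H → ℂ))
    rw [← omega_conv ξ₀.2 _ _ (resC_isClassFunction P H hHN hh.1), ← omega_sub]
    apply memLocalIdeal_omega hM
    · intro x c
      simp only [Pi.sub_apply]
      rw [resC_isClassFunction P H hHN (conv_isClassFunction hf.1 hh.1) x c,
        conv_isClassFunction (resC_isClassFunction P H hHN hf.1)
          (resC_isClassFunction P H hHN hh.1) x c]
    · intro z
      exact resC_conv_sub P H hMod hP hCH hf.1 hh.1 hf.2 hh.2 z

/-- Let P be a p-subgroup of the finite group G and H a subgroup with P·C_G(P) ≤ H ≤ N_G(P). Then for every block b of H relative to a maximal ideal M of the algebraic integers containing p, the induced block of b in G is defined: some block B of G has its central character congruent modulo M, at every element, to the central character of b induced to G. -/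
theorem result {G : Type*} [Group G] [Finite G] (p : ℕ) [Fact p.Prime] (M : Ideal Cfsg.AlgInt) (hM : Cfsg.IsPModular p M) (P H : Subgroup G) (hP : IsPGroup p P) (hPH : P ≤ H) (hCH : Subgroup.centralizer (P : Set G) ≤ H) (hHN : H ≤ Subgroup.normalizer (P : Set G)) (b : Set (Cfsg.IrrCharacter H)) (hb : Cfsg.IsPBlock M b) : Cfsg.InducedBlockDefined M H b := by
  classical
  have := Fintype.ofFinite G
  have := Fintype.ofFinite H
  have := Fintype.ofFinite (Cfsg.IrrCharacter G)
  have := Fintype.ofFinite (Cfsg.IrrCharacter H)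
  have hprime : M.IsPrime := hM.2.1.isPrime
  obtain ⟨ξ₀, rfl⟩ := hb
  obtain ⟨χ₁, hχ₁⟩ := exists_irr_of_isModHom hprime (isModHom_brauer hM P H hP hCH hHN ξ₀)
  refine ⟨blockOf M (χ₁ : G → ℂ), ⟨ξ₀, rfl⟩, ⟨χ₁, rfl⟩, fun ξ hξ χ hχ g => ?_⟩
  -- four-step comparison
  have hind : IsRClass M (fun x : G => if IsConj g x then (1 : ℂ) else 0) := by
    refine ⟨isClassFunction_indicator g, fun x => ?_⟩
    by_cases hx : IsConj g x
    · simp only [hx, if_true]; exact memLocalRing_one hprime
    · simp only [hx, if_false]; exact memLocalRing_zero hprime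
  have h3 := hχ₁ _ hind
  rw [← brauerCentralChar_eq_omega, omega_indicator (isClassFunction_irr χ₁)] at h3
  have h2 := Cfsg.Agent.S0918.induced_sub_brauer p M hM P H hP hPH hHN ξ₀ g
  have h4 : MemLocalIdeal M (centralChar (χ₁ : G → ℂ) g - centralChar (χ : G → ℂ) g) := by
    rw [mem_blockOf_iff] at hχ
    exact hχ g
  have h1 : MemLocalIdeal M (inducedCentralChar H (ξ : H → ℂ) g -
      inducedCentralChar H (ξ₀ : H → ℂ) g) := by
    rw [inducedCentralChar_eq_omega, inducedCentralChar_eq_omega]
    rw [mem_blockOf_iff] at hξ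
    have hR : ∀ h : H, MemLocalRing M (classInd H g h) := by
      intro h
      rw [classInd_apply]
      split_ifs
      · exact memLocalRing_one hprime
      · exact memLocalRing_zero hprime
    have := omega_sub_memLocalIdeal hprime (classInd_isClassFunction H g) hR hξ
    have := memLocalIdeal_neg this
    rwa [neg_sub] at this
  have := memLocalIdeal_add hprime (memLocalIdeal_add hprime (memLocalIdeal_add hprime h1 h2) h3) h4
  convert this using 1
  ring

end Cfsg.Agent.S0919
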