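import Cfsg.Statements.S0923
import Cfsg.Agent.Lib.Helper81.SecondMain
import Cfsg.Agent.Lib.Helper81.BlockPart
import Cfsg.Agent.Lib.Helper21.BrauerCorr
import Cfsg.Agent.Lib.Helper83.Decompose

set_option autoImplicit false
open Cfsg

namespace Cfsg.Agent.S0923

/-- Brauer's Second Main Theorem, in terms of ordinary characters. Let x be a p-element of the finite group G with centralizer C, let χ lie in the block B of G and let b be a block of C that does not induce B (relative to a maximal ideal M of the algebraic integers containing p). Form the class function ϑ(c) = χ(x c) on C and its b-part (the sum over ψ ∈ b of the inner product of ϑ with ψ, times ψ). Then the b-part of ϑ vanishes at every p-regular element of C. (Equivalently, the generalized decomposition numbers of χ with respect to b are zero.) -/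
theorem result {G : Type*} [Group G] [Finite G] (p : ℕ) [Fact p.Prime] (M : Ideal Cfsg.AlgInt) (hM : Cfsg.IsPModular p M) (x : G) (hx : ∃ k : ℕ, orderOf x = p ^ k) (B : Set (Cfsg.IrrCharacter G)) (hB : Cfsg.IsPBlock M B) (χ : Cfsg.IrrCharacter G) (hχ : χ ∈ B) (b : Set (Cfsg.IrrCharacter (Subgroup.centralizer ({x} : Set G)))) (hb : Cfsg.IsPBlock M b) (hnot : ¬ Cfsg.IsInducedBlock M (Subgroup.centralizer ({x} : Set G)) b B) (y : Subgroup.centralizer ({x} : Set G)) (hy : ¬ p ∣ orderOf y) : Cfsg.blockPart b (fun c : Subgroup.centralizer ({x} : Set G) => (χ : G → ℂ) (x * (c : G))) y = 0 := by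
  classical
  open Cfsg.Agent.Lib.Helper21 Cfsg.Agent.Lib.Helper82 Cfsg.Agent.Lib.Helper83
    Cfsg.Agent.Lib.Helper81 in
  have hMp : M.IsPrime := hM.2.1.isPrime
  have : Fintype G := Fintype.ofFinite G
  have : Finite (IrrCharacter G) := irr_finite
  have : Fintype (IrrCharacter G) := Fintype.ofFinite _
  have : Fintype (Subgroup.centralizer ({x} : Set G)) := Fintype.ofFinite _
  have : Finite (IrrCharacter (Subgroup.centralizer ({x} : Set G))) := irr_finite
  have : Fintype (IrrCharacter (Subgroup.centralizer ({x} : Set G))) := Fintype.ofFinite _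
  obtain ⟨k, hk⟩ := hx
  obtain ⟨ξ₀, rfl⟩ := hb
  have hxC : x ∈ Subgroup.centralizer ({x} : Set G) := by
    rw [Subgroup.mem_centralizer_singleton_iff]
  -- the induced block exists
  have hP : IsPGroup p (Subgroup.zpowers x) := by
    apply IsPGroup.of_card (n := k)
    rw [Nat.card_zpowers, hk]
  have hPH : Subgroup.zpowers x ≤ Subgroup.centralizer ({x} : Set G) :=
    (Subgroup.zpowers_le).2 hxC
  have hCH : Subgroup.centralizer ((Subgroup.zpowers x : Subgroup G) : Set G)
      ≤ Subgroup.centralizer ({x} : Set G) := by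
    apply Subgroup.centralizer_le
    intro z hz
    rw [Set.mem_singleton_iff] at hz
    rw [hz]
    exact Subgroup.mem_zpowers x
  have hHN : Subgroup.centralizer ({x} : Set G)
      ≤ Subgroup.normalizer ((Subgroup.zpowers x : Subgroup G) : Set G) := by
    intro g hg
    have hgx : Commute g x := (Subgroup.mem_centralizer_singleton_iff.1 hg)
    have hfix : ∀ n ∈ Subgroup.zpowers x, g * n * g⁻¹ = n := by
      intro n hn
      obtain ⟨j, rfl⟩ := Subgroup.mem_zpowers_iff.1 hn
      have := (hgx.zpow_right j).eq
      rw [this, mul_inv_cancel_right]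
    rw [Subgroup.mem_normalizer_iff]
    intro n
    constructor
    · intro hn
      rw [hfix n hn]; exact hn
    · intro hn
      have h2 : n = g⁻¹ * (g * n * g⁻¹) * g := by group
      have hgi : ∀ m ∈ Subgroup.zpowers x, g⁻¹ * m * g = m := by
        intro m hm
        have := hfix m hm
        calc g⁻¹ * m * g = g⁻¹ * (g * m * g⁻¹) * g := by rw [this]
          _ = m := by group
      rw [h2, hgi _ hn]; exact hn
  obtain ⟨χ₁, -, hind⟩ := exists_brauer_correspondent hM (Subgroup.zpowers x)
    (Subgroup.centralizer ({x} : Set G)) hP hPH hCH hHN ξ₀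
  have hχ₁ : χ ∉ blockOf M (χ₁ : G → ℂ) := by
    intro hmem
    apply hnot
    rw [IsPBlock.eq_blockOf hMp hB hχ, blockOf_eq_of_mem hMp hmem]
    exact hind
  -- the `p`-part of `x * y`
  have hy' : ¬ p ∣ orderOf (y : G) := by
    rwa [Subgroup.orderOf_coe]
  have hcomm : Commute x (y : G) := (Subgroup.mem_centralizer_singleton_iff.1 y.2).symm
  have hpart : IsPPart p (x * (y : G)) x := ⟨y, rfl, hcomm, ⟨k, hk⟩, hy'⟩
  have key := second_main_idempotent hM (Subgroup.centralizer ({x} : Set G)) hind
    ⟨x * (y : G), Subgroup.mul_mem _ hxC y.2⟩ hpart le_rfl χ hχ₁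
  -- the block part through the idempotent
  have hcf : IsClassFunction (Subgroup.centralizer ({x} : Set G))
      (fun c : Subgroup.centralizer ({x} : Set G) => (χ : G → ℂ) (x * (c : G))) := by
    intro c t
    have htx : (t : G) * x = x * (t : G) := Subgroup.mem_centralizer_singleton_iff.1 t.2
    have h1 := isClassFunction_irr χ (x * (c : G)) (t : G)
    have e : (t : G) * (x * (c : G)) * (t : G)⁻¹ = x * ((t : G) * (c : G) * (t : G)⁻¹) := by
      rw [← mul_assoc, htx]; group
    rw [e] at h1
    exact h1
  rw [blockPart_eq_sum _ hcf y, ← key]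
  apply Finset.sum_congr rfl
  intro c _
  have hcx : (c : G) * x = x * (c : G) := Subgroup.mem_centralizer_singleton_iff.1 c.2
  have e : x * ((c * y : Subgroup.centralizer ({x} : Set G)) : G) = (c : G) * (x * (y : G)) := by
    rw [Subgroup.coe_mul, ← mul_assoc, ← hcx, mul_assoc]
  rw [e]

end Cfsg.Agent.S0923
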