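import Cfsg.Statements.S0179
import Cfsg.Agent.Lib.Helper05.CosetSum
import Cfsg.Agent.Lib.Helper82.CharSchur
import Cfsg.Agent.Lib.Helper84.Schur

set_option autoImplicit false
open Cfsg

namespace Cfsg.Agent.S0179

open Cfsg.Agent.Lib.Helper05 Module

/-- A transversal-supported combination of the `ρ g` with algebraic integer coefficients is
integral over `ℤ`. -/
theorem isIntegral_sum_out {G : Type*} [Group G] [Fintype G] {V : Type*} [AddCommGroup V]
    [Module ℂ V] (ρ : Representation ℂ G V) (Z : Subgroup G) [Fintype (G ⧸ Z)] (f : G → ℂ)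
    (hf : ∀ g, IsIntegral ℤ (f g)) :
    IsIntegral ℤ (∑ q : G ⧸ Z, f q.out • ρ q.out) := by
  classical
  have key := Cfsg.Agent.Lib.Helper82.isIntegral_sum_smul ρ
    (fun g => if ((g : G ⧸ Z)).out = g then f g else 0)
    (fun g => by split_ifs; exacts [hf g, isIntegral_zero])
  have heq : ∑ g : G, (if ((g : G ⧸ Z)).out = g then f g else 0) • ρ g =
      ∑ q : G ⧸ Z, f q.out • ρ q.out := by
    have h1 : ∑ g : G, (if ((g : G ⧸ Z)).out = g then f g else 0) • ρ g =
        ∑ g ∈ Finset.univ.filter (fun g : G => ((g : G ⧸ Z)).out = g), f g • ρ g := by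
      rw [Finset.sum_filter]
      apply Finset.sum_congr rfl
      intro g _
      split_ifs <;> simp
    rw [h1]
    symm
    apply Finset.sum_bij (fun (q : G ⧸ Z) _ => q.out)
    · intro q _
      simp only [Finset.mem_filter, Finset.mem_univ, true_and]
      rw [QuotientGroup.out_eq']
    · intro q₁ _ q₂ _ h
      have := congrArg (fun g : G => (g : G ⧸ Z)) h
      simpa [QuotientGroup.out_eq'] using this
    · intro g hg
      refine ⟨(g : G ⧸ Z), Finset.mem_univ _, ?_⟩
      exact (Finset.mem_filter.mp hg).2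
    · intro q _
      rfl
  rw [heq] at key
  exact key

/-- The degree of an irreducible complex representation of a finite group divides the index of the centre. -/
theorem result {G : Type*} [Group G] [Finite G] {V : Type*} [AddCommGroup V] [Module ℂ V] [FiniteDimensional ℂ V] (ρ : Representation ℂ G V) [ρ.IsIrreducible] : Module.finrank ℂ V ∣ (Subgroup.center G).index := by
  classical
  haveI : Fintype G := Fintype.ofFinite G
  set Z := Subgroup.center G with hZ
  haveI : Fintype (G ⧸ Z) := Fintype.ofFinite _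
  haveI hnt : Nontrivial V := Cfsg.Agent.Lib.Helper84.irr_nontrivial ρ
  have hd0 : (finrank ℂ V : ℂ) ≠ 0 := Cfsg.Agent.Lib.Helper84.irr_finrank_ne_zero ρ
  have hid0 : (LinearMap.id : V →ₗ[ℂ] V) ≠ 0 := by
    intro h
    obtain ⟨v, hv⟩ := exists_ne (0 : V)
    apply hv
    have := congrArg (fun f : V →ₗ[ℂ] V => f v) h
    simpa using this
  -- central elements act as scalars
  have hscal : ∀ z ∈ Z, ∃ c : ℂ, c ≠ 0 ∧ ρ z = c • LinearMap.id ∧ ρ z⁻¹ = c⁻¹ • LinearMap.id := by
    intro z hz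
    have hcomm : ∀ g : G, ρ z ∘ₗ ρ g = ρ g ∘ₗ ρ z := by
      intro g
      rw [← Module.End.mul_eq_comp, ← Module.End.mul_eq_comp, ← map_mul, ← map_mul]
      congr 1
      exact (Subgroup.mem_center_iff.mp hz g).symm
    have hsc := Cfsg.Agent.Lib.Helper84.schur_scalar ρ (ρ z) hcomm
    set c := LinearMap.trace ℂ V (ρ z) / (finrank ℂ V : ℂ) with hc
    have hc0 : c ≠ 0 := by
      intro h0
      have h1 : ρ z = 0 := by rw [hsc, h0, zero_smul]
      have h2 : (ρ z⁻¹ * ρ z : Module.End ℂ V) = 1 := by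
        rw [← map_mul, inv_mul_cancel, map_one]
      rw [h1, mul_zero] at h2
      exact hid0 h2.symm
    refine ⟨c, hc0, hsc, ?_⟩
    have h2 : (ρ z⁻¹ * ρ z : Module.End ℂ V) = 1 := by
      rw [← map_mul, inv_mul_cancel, map_one]
    rw [hsc, mul_smul_comm] at h2
    have h3 : ρ z⁻¹ * (LinearMap.id : V →ₗ[ℂ] V) = ρ z⁻¹ := mul_one _
    rw [h3] at h2
    calc ρ z⁻¹ = c⁻¹ • (c • ρ z⁻¹) := by rw [smul_smul, inv_mul_cancel₀ hc0, one_smul]
      _ = c⁻¹ • LinearMap.id := by rw [h2]; rfl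
  -- the summand is constant on cosets of the centre
  let F : G → Module.End ℂ V := fun g => ρ.character g⁻¹ • ρ g
  have hF : ∀ g, ∀ z ∈ Z, F (g * z) = F g := by
    intro g z hz
    obtain ⟨c, hc0, hc1, hc2⟩ := hscal z hz
    simp only [F]
    have h1 : ρ.character (g * z)⁻¹ = c⁻¹ * ρ.character g⁻¹ := by
      rw [mul_inv_rev, Representation.character, map_mul, hc2, smul_mul_assoc, map_smul,
        smul_eq_mul]
      congr 1
    have h2 : ρ (g * z) = c • ρ g := by
      rw [map_mul, hc1, mul_smul_comm]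
      congr 1
    rw [h1, h2, smul_smul, mul_assoc, mul_comm (ρ.character g⁻¹) c, ← mul_assoc,
      inv_mul_cancel₀ hc0, one_mul]
  have hsum := sum_eq_card_nsmul_sum_out Z F hF
  have hschur := Cfsg.Agent.Lib.Helper84.sum_char_inv_smul ρ
  have hint := isIntegral_sum_out ρ Z (fun g => ρ.character g⁻¹)
    (fun g => Cfsg.Agent.Lib.Helper82.isIntegral_character ρ g⁻¹)
  -- the transversal sum is the scalar index / degree
  have hZne : (Nat.card Z : ℂ) ≠ 0 := by exact_mod_cast Nat.card_pos.ne'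
  have hE : ∑ q : G ⧸ Z, ρ.character (q.out)⁻¹ • ρ q.out =
      ((Z.index : ℂ) / (finrank ℂ V : ℂ)) • (LinearMap.id : V →ₗ[ℂ] V) := by
    have h1 : (Nat.card Z : ℂ) • ∑ q : G ⧸ Z, ρ.character (q.out)⁻¹ • ρ q.out =
        ((Fintype.card G : ℂ) / (finrank ℂ V : ℂ)) • (LinearMap.id : V →ₗ[ℂ] V) := by
      rw [← hschur, Nat.cast_smul_eq_nsmul]
      exact hsum.symm
    have h2 : (Fintype.card G : ℂ) = (Z.index : ℂ) * (Nat.card Z : ℂ) := by
      rw [← Nat.card_eq_fintype_card, ← Subgroup.index_mul_card Z]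
      push_cast
      ring
    calc ∑ q : G ⧸ Z, ρ.character (q.out)⁻¹ • ρ q.out
        = (Nat.card Z : ℂ)⁻¹ • ((Nat.card Z : ℂ) • ∑ q : G ⧸ Z, ρ.character (q.out)⁻¹ • ρ q.out) := by
          rw [smul_smul, inv_mul_cancel₀ hZne, one_smul]
      _ = ((Z.index : ℂ) / (finrank ℂ V : ℂ)) • (LinearMap.id : V →ₗ[ℂ] V) := by
          rw [h1, smul_smul, h2]
          congr 1
          field_simp
  rw [hE] at hint
  have hinj : Function.Injective (algebraMap ℂ (Module.End ℂ V)) :=
    FaithfulSMul.algebraMap_injective ℂ (Module.End ℂ V)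
  have hint' : IsIntegral ℤ ((Z.index : ℂ) / (finrank ℂ V : ℂ)) := by
    rw [← isIntegral_algebraMap_iff hinj, Algebra.algebraMap_eq_smul_one]
    exact hint
  have hq : ((Z.index : ℂ) / (finrank ℂ V : ℂ)) = (((Z.index : ℚ) / (finrank ℂ V : ℚ) : ℚ) : ℂ) := by
    push_cast
    rfl
  rw [hq] at hint'
  obtain ⟨k, hk⟩ := Cfsg.Agent.Lib.Helper82.exists_int_of_isIntegral_ratCast hint'
  have hdq : (finrank ℂ V : ℚ) ≠ 0 := by
    have : finrank ℂ V ≠ 0 := by
      intro h
      apply hd0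
      rw [h]
      simp
    exact_mod_cast this
  rw [div_eq_iff hdq] at hk
  have hk' : (Z.index : ℤ) = k * (finrank ℂ V : ℤ) := by exact_mod_cast hk
  have : (finrank ℂ V : ℤ) ∣ (Z.index : ℤ) := ⟨k, by rw [hk', mul_comm]⟩
  exact Int.natCast_dvd_natCast.mp this

end Cfsg.Agent.S0179
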