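import Cfsg.Statements.S0887
import Mathlib
import Cfsg.Agent.Lib.Helper85.Ramification

set_option autoImplicit false
open Cfsg

namespace Cfsg.Agent.S0887

open Cfsg.Agent.Lib.Helper83 Cfsg.Agent.Lib.Helper85

/-- Let N be a normal subgroup of the finite group G, χ an irreducible character of G and ϑ an irreducible character of N having nonzero inner product with the restriction of χ. If χ 1 = c and ϑ 1 = d as natural numbers, then d divides c and c / d divides the index of N. -/
theorem result {G : Type*} [Group G] [Fintype G] (N : Subgroup G) [N.Normal] [Fintype N] (χ : G → ℂ) (hχ : Cfsg.IsIrrCharacter G χ) (ϑ : N → ℂ) (hϑ : Cfsg.IsIrrCharacter N ϑ) (hcon : Cfsg.classInner (fun n : N => χ n) ϑ ≠ 0) (c d : ℕ) (hc : χ 1 = c) (hd : ϑ 1 = d) : d ∣ c ∧ c / d ∣ N.index := by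
  classical
  have hN : N.Normal := inferInstance
  have hϑc := isCharacter_of_irr hϑ
  obtain ⟨ψ, hψ, ⟨f, hf0, hψN⟩, hind⟩ := exists_irr_conjStab hN hχ hϑ hcon
  have hNT : N ≤ conjStab hN ϑ := le_conjStab hN (char_isClassFunction hϑc)
  have : Fintype (conjStab hN ϑ) := Fintype.ofFinite _
  have : Fintype (N.subgroupOf (conjStab hN ϑ)) := Fintype.ofFinite _
  -- `f` is a natural number
  obtain ⟨k, hk⟩ := classInner_char_nat
    (isCharacter_comp_hom (Subgroup.inclusion hNT) (isCharacter_of_irr hψ)) hϑc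
  have hfk : f = (k : ℂ) := by
    have h1 : classInner (fun n : N => ψ (Subgroup.inclusion hNT n)) ϑ = f := by
      have h2 : (fun n : N => ψ (Subgroup.inclusion hNT n)) = f • ϑ := hψN
      rw [h2, classInner_smul_left, irr_inner_self ⟨ϑ, hϑ⟩, mul_one]
    rw [← h1, hk]
  -- ramification index divides the relative index
  set ι : N.subgroupOf (conjStab hN ϑ) ≃* N := Subgroup.subgroupOfEquivOfLe hNT with hι
  have hϑ' : IsIrrCharacter (N.subgroupOf (conjStab hN ϑ)) (fun n' => ϑ (ι n')) :=
    Cfsg.Agent.Lib.Helper84.isIrrCharacter_comp_mulEquiv ι hϑ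
  have hres : (fun n' : N.subgroupOf (conjStab hN ϑ) => ψ n') = (k : ℂ) • (fun n' => ϑ (ι n')) := by
    funext n'
    have h1 := congrFun hψN (ι n')
    rw [hfk] at h1
    exact h1
  have hdvd : k ∣ (N.subgroupOf (conjStab hN ϑ)).index :=
    ramification_dvd_index (N.subgroupOf (conjStab hN ϑ)) hψ hϑ' k hres
  have hidx : (N.subgroupOf (conjStab hN ϑ)).index * (conjStab hN ϑ).index = N.index :=
    Subgroup.relIndex_mul_index hNT
  -- degrees
  have hψ1 : ψ 1 = (k : ℂ) * (d : ℂ) := by
    have h1 := congrFun hψN 1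
    simp only [Pi.smul_apply, smul_eq_mul] at h1
    rw [hfk, hd] at h1
    exact h1
  have hcnat : c = (conjStab hN ϑ).index * (k * d) := by
    have h1 := congrFun hind 1
    rw [indFun_apply_one, hc, hψ1] at h1
    exact_mod_cast h1
  have hd0 : d ≠ 0 := by
    intro h0
    have := irr_degree_ne_zero ⟨ϑ, hϑ⟩
    change ϑ 1 ≠ 0 at this
    rw [hd, h0, Nat.cast_zero] at this
    exact this rfl
  constructor
  · rw [hcnat]
    exact ⟨(conjStab hN ϑ).index * k, by ring⟩
  · have h1 : c / d = (conjStab hN ϑ).index * k := by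
      rw [hcnat, ← mul_assoc]
      exact Nat.mul_div_cancel _ (Nat.pos_of_ne_zero hd0)
    rw [h1, ← hidx, mul_comm]
    exact Nat.mul_dvd_mul_right hdvd _

end Cfsg.Agent.S0887
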