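-- Statement S0932
import Cfsg.Statements.S0932

set_option autoImplicit false
open Cfsg

namespace Cfsg.Agent.S0932

variable {G : Type*} [Group G]

theorem extendByZero_apply_mem (H : Subgroup G) (θ : H → ℂ) (h : H) :
    Cfsg.extendByZero H θ (h : G) = θ h := by
  unfold Cfsg.extendByZero
  exact Subtype.val_injective.extend_apply θ 0 h

theorem extendByZero_apply_not_mem (H : Subgroup G) (θ : H → ℂ) (y : G) (hy : y ∉ H) :
    Cfsg.extendByZero H θ y = 0 := by
  unfold Cfsg.extendByZero
  rw [Function.extend_apply']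
  · rfl
  · rintro ⟨a, ha⟩
    exact hy (ha ▸ a.2)

/-- the fiber of the conjugation map has the size of the centralizer -/
theorem card_fiber_conj [Fintype G] [DecidableEq G] (g y : G) (hy : IsConj g y) :
    ((Finset.univ.filter (fun x : G => x⁻¹ * g * x = y)).card : ℕ) =
      Nat.card (Subgroup.centralizer ({g} : Set G)) := by
  classical
  obtain ⟨c, hc⟩ := isConj_iff.mp hy
  -- c * g * c⁻¹ = y ; so x₀ = c⁻¹
  rw [← Nat.card_eq_finsetCard]
  symm
  refine Nat.card_congr ⟨fun z => ⟨(z : G) * c⁻¹, ?_⟩, fun x => ⟨(x : G) * c, ?_⟩, ?_, ?_⟩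
  · have hz := z.2
    rw [Subgroup.mem_centralizer_singleton_iff] at hz
    simp only [Finset.mem_filter, Finset.mem_univ, true_and]
    rw [← hc]
    have : ((z : G) * c⁻¹)⁻¹ * g * ((z : G) * c⁻¹) = c * ((z : G)⁻¹ * (g * (z : G))) * c⁻¹ := by
      group
    rw [this, ← hz]; group
  · have hx : (x : G)⁻¹ * g * (x : G) = c * g * c⁻¹ := by
      rw [hc]
      have := x.2
      simpa only [Finset.mem_filter, Finset.mem_univ, true_and] using this
    rw [Subgroup.mem_centralizer_singleton_iff]
    symm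
    have h1 : g * (x : G) = (x : G) * (c * g * c⁻¹) := by
      rw [← hx]; group
    calc g * ((x : G) * c) = (g * (x : G)) * c := by group
      _ = (x : G) * (c * g * c⁻¹) * c := by rw [h1]
      _ = (x : G) * c * g := by group
  · intro z; apply Subtype.ext; simp
  · intro x; apply Subtype.ext; simp

theorem card_fiber_conj_of_not [Fintype G] [DecidableEq G] (g y : G) (hy : ¬ IsConj g y) :
    ((Finset.univ.filter (fun x : G => x⁻¹ * g * x = y)).card : ℕ) = 0 := by
  rw [Finset.card_eq_zero, Finset.filter_eq_empty_iff]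
  intro x _ hx
  apply hy
  rw [isConj_iff]
  exact ⟨x⁻¹, by simpa using hx⟩

theorem finsum_mem_eq_sum_ite {α : Type*} [Fintype α] (s : Set α) [DecidablePred (· ∈ s)]
    (f : α → ℂ) : ∑ᶠ i ∈ s, f i = ∑ i, if i ∈ s then f i else 0 := by
  rw [finsum_mem_def, finsum_eq_sum_of_fintype]
  simp [Set.indicator_apply]

theorem sum_conj_eq [Fintype G] (H : Subgroup G) (ξ : H → ℂ) (g : G) :
    ∑ x : G, Cfsg.extendByZero H ξ (x⁻¹ * g * x) =
      (Nat.card (Subgroup.centralizer ({g} : Set G)) : ℂ) *
        ∑ᶠ h ∈ {h : H | IsConj g (h : G)}, ξ h := by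
  classical
  have := Fintype.ofFinite H
  rw [finsum_mem_eq_sum_ite]
  -- rewrite each term as a sum over h
  have h1 : ∀ x : G, Cfsg.extendByZero H ξ (x⁻¹ * g * x) =
      ∑ h : H, if x⁻¹ * g * x = (h : G) then ξ h else 0 := by
    intro x
    by_cases hx : x⁻¹ * g * x ∈ H
    · rw [Finset.sum_eq_single_of_mem (⟨x⁻¹ * g * x, hx⟩ : H) (Finset.mem_univ _)]
      · rw [if_pos rfl]
        exact extendByZero_apply_mem H ξ ⟨_, hx⟩
      · intro b _ hb
        rw [if_neg]
        intro hb'
        apply hb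
        apply Subtype.ext
        exact hb'.symm
    · rw [extendByZero_apply_not_mem H ξ _ hx]
      symm
      apply Finset.sum_eq_zero
      intro h _
      rw [if_neg]
      intro hh
      exact hx (hh ▸ h.2)
  simp_rw [h1]
  rw [Finset.sum_comm]
  rw [Finset.mul_sum]
  apply Finset.sum_congr rfl
  intro h _
  rw [← Finset.sum_filter, Finset.sum_const, nsmul_eq_mul]
  by_cases hh : IsConj g (h : G)
  · have hh' : h ∈ {h : H | IsConj g (h : G)} := hh
    rw [if_pos hh', card_fiber_conj g h hh, mul_comm]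
  · have hh' : h ∉ {h : H | IsConj g (h : G)} := hh
    rw [if_neg hh', card_fiber_conj_of_not g h hh]
    simp

theorem indFun_one [Fintype G] (H : Subgroup G) (ξ : H → ℂ) :
    Cfsg.indFun H ξ 1 = (Nat.card H : ℂ)⁻¹ * ((Nat.card G : ℂ) * ξ 1) := by
  unfold Cfsg.indFun
  congr 1
  have : ∀ x : G, Cfsg.extendByZero H ξ (x⁻¹ * 1 * x) = ξ 1 := by
    intro x
    have : x⁻¹ * 1 * x = ((1 : H) : G) := by simp
    rw [this, extendByZero_apply_mem]
  simp_rw [this]
  rw [Finset.sum_const, nsmul_eq_mul, Finset.card_univ, Nat.card_eq_fintype_card]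

/-- Let H be a subgroup of the finite group G and ξ a character of H. For every g ∈ G, the sum of ξ h / ξ 1 over the elements h ∈ H that are conjugate in G to g equals the central character at g of the character of G induced from ξ (class size times value divided by degree). -/
theorem result {G : Type*} [Group G] [Fintype G] (H : Subgroup G) (ξ : H → ℂ) (hξ : Cfsg.IsCharacter H ξ) (g : G) : Cfsg.inducedCentralChar H ξ g = Cfsg.centralChar (Cfsg.indFun H ξ) g := by
  classical
  unfold Cfsg.inducedCentralChar Cfsg.centralChar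
  rw [indFun_one]
  have hind : Cfsg.indFun H ξ g = (Nat.card H : ℂ)⁻¹ *
      ((Nat.card (Subgroup.centralizer ({g} : Set G)) : ℂ) *
        ∑ᶠ h ∈ {h : H | IsConj g (h : G)}, ξ h) := by
    unfold Cfsg.indFun
    rw [sum_conj_eq]
  rw [hind]
  have hdiv : ∑ᶠ h ∈ {h : H | IsConj g (h : G)}, ξ h / ξ 1 =
      (∑ᶠ h ∈ {h : H | IsConj g (h : G)}, ξ h) / ξ 1 := by
    have := Fintype.ofFinite H
    rw [finsum_mem_eq_sum_ite, finsum_mem_eq_sum_ite, div_eq_mul_inv, Finset.sum_mul]
    apply Finset.sum_congr rfl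
    intro h _
    split_ifs
    · rw [div_eq_mul_inv]
    · rw [zero_mul]
  rw [hdiv]
  set T := ∑ᶠ h ∈ {h : H | IsConj g (h : G)}, ξ h
  by_cases h1 : ξ 1 = 0
  · rw [h1]; simp
  have hH : (Nat.card H : ℂ) ≠ 0 := by
    have : 0 < Nat.card H := Nat.card_pos
    exact_mod_cast this.ne'
  have hG : (Nat.card G : ℂ) ≠ 0 := by
    have : 0 < Nat.card G := Nat.card_pos
    exact_mod_cast this.ne'
  have hidx : ((Subgroup.centralizer ({g} : Set G)).index : ℂ) *
      (Nat.card (Subgroup.centralizer ({g} : Set G)) : ℂ) = (Nat.card G : ℂ) := by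
    rw [mul_comm]
    exact_mod_cast (Subgroup.centralizer ({g} : Set G)).card_mul_index
  rw [← hidx]
  have hC : (Nat.card (Subgroup.centralizer ({g} : Set G)) : ℂ) ≠ 0 := by
    have : 0 < Nat.card (Subgroup.centralizer ({g} : Set G)) := Nat.card_pos
    exact_mod_cast this.ne'
  have hI : ((Subgroup.centralizer ({g} : Set G)).index : ℂ) ≠ 0 := by
    intro h0
    rw [h0, zero_mul] at hidx
    exact hG hidx.symm
  field_simp

end Cfsg.Agent.S0932
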