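-- Statement S0933
import Cfsg.Statements.S0933
import Cfsg.Agent.S0932
import Cfsg.Agent.Lib.Helper22.LocalIdeal
import Mathlib.Algebra.Group.ConjFinite

set_option autoImplicit false
open Cfsg

namespace Cfsg.Agent.S0933

open Cfsg.Agent.Lib.Helper22

variable {H : Type*} [Group H]

theorem isCharacter_conj (ξ : H → ℂ) (hξ : Cfsg.IsCharacter H ξ) (h k : H) :
    ξ (k * h * k⁻¹) = ξ h := by
  obtain ⟨n, ρ, rfl⟩ := hξ
  exact Representation.char_conj ρ h k

theorem card_class_eq_index [Fintype H] [DecidableEq H] (h₀ : H)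
    [DecidablePred (fun y : H => IsConj h₀ y)] :
    (Finset.univ.filter (fun y : H => IsConj h₀ y)).card =
      (Subgroup.centralizer ({h₀} : Set H)).index := by
  classical
  have h1 : (Finset.univ : Finset H).card =
      ∑ y ∈ (Finset.univ : Finset H),
        ((Finset.univ : Finset H).filter (fun x => x⁻¹ * h₀ * x = y)).card :=
    Finset.card_eq_sum_card_fiberwise (f := fun x : H => x⁻¹ * h₀ * x) (by simp)
  have h2 : ∀ y : H, ((Finset.univ : Finset H).filter (fun x => x⁻¹ * h₀ * x = y)).card =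
      if IsConj h₀ y then Nat.card (Subgroup.centralizer ({h₀} : Set H)) else 0 := by
    intro y
    split_ifs with hy
    · exact Cfsg.Agent.S0932.card_fiber_conj h₀ y hy
    · exact Cfsg.Agent.S0932.card_fiber_conj_of_not h₀ y hy
  simp_rw [h2] at h1
  rw [← Finset.sum_filter, Finset.sum_const, smul_eq_mul, Finset.card_univ,
    ← Nat.card_eq_fintype_card,
    ← (Subgroup.centralizer ({h₀} : Set H)).card_mul_index, mul_comm] at h1
  have hpos : 0 < Nat.card (Subgroup.centralizer ({h₀} : Set H)) := Nat.card_pos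
  exact (Nat.eq_of_mul_eq_mul_right hpos h1).symm

/-- A sum over a conjugation-stable subset of a class function, all of whose
class-size multiples lie in the local ideal, lies in the local ideal. -/
theorem memLocalIdeal_sum_stable [Fintype H] {M : Ideal Cfsg.AlgInt} (hM : M.IsMaximal)
    (S : Finset H) (hS : ∀ h ∈ S, ∀ k : H, k * h * k⁻¹ ∈ S) (F : H → ℂ)
    (hF : ∀ h k : H, F (k * h * k⁻¹) = F h)
    (hloc : ∀ h ∈ S, Cfsg.MemLocalIdeal M
      (((Subgroup.centralizer ({h} : Set H)).index : ℂ) * F h)) :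
    Cfsg.MemLocalIdeal M (∑ h ∈ S, F h) := by
  classical
  rw [← Finset.sum_fiberwise S (ConjClasses.mk) F]
  apply memLocalIdeal_sum hM
  intro c _
  obtain ⟨h₀, rfl⟩ := ConjClasses.exists_rep c
  by_cases h0 : h₀ ∈ S
  · have hfil : S.filter (fun a => ConjClasses.mk a = ConjClasses.mk h₀) =
        Finset.univ.filter (fun y : H => IsConj h₀ y) := by
      ext a
      simp only [Finset.mem_filter, Finset.mem_univ, true_and, ConjClasses.mk_eq_mk_iff_isConj]
      constructor
      · rintro ⟨_, ha⟩; exact ha.symm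
      · intro ha
        obtain ⟨k, hk⟩ := isConj_iff.mp ha
        exact ⟨hk ▸ hS h₀ h0 k, ha.symm⟩
    rw [hfil]
    have hconst : ∀ y ∈ Finset.univ.filter (fun y : H => IsConj h₀ y), F y = F h₀ := by
      intro y hy
      simp only [Finset.mem_filter, Finset.mem_univ, true_and] at hy
      obtain ⟨k, hk⟩ := isConj_iff.mp hy
      rw [← hk, hF]
    rw [Finset.sum_congr rfl hconst, Finset.sum_const, nsmul_eq_mul, card_class_eq_index]
    exact hloc h₀ h0
  · have hfil : S.filter (fun a => ConjClasses.mk a = ConjClasses.mk h₀) = ∅ := by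
      rw [Finset.filter_eq_empty_iff]
      intro a ha hmk
      rw [ConjClasses.mk_eq_mk_iff_isConj] at hmk
      obtain ⟨k, hk⟩ := isConj_iff.mp hmk
      exact h0 (hk ▸ hS a ha k)
    rw [hfil, Finset.sum_empty]
    exact memLocalIdeal_zero hM

/-- Let H be a subgroup of the finite group G and ξ an irreducible character of H such that the induced function ξ^G is an irreducible character of G. Then, relative to any maximal ideal M of the algebraic integers containing the prime p, the block of ξ induces the block of ξ^G. -/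
theorem result {G : Type*} [Group G] [Fintype G] (p : ℕ) [Fact p.Prime] (M : Ideal Cfsg.AlgInt) (hM : Cfsg.IsPModular p M) (H : Subgroup G) (ξ : Cfsg.IrrCharacter H) (hind : Cfsg.IsIrrCharacter G (Cfsg.indFun H (ξ : H → ℂ))) : Cfsg.IsInducedBlock M H (Cfsg.blockOf M (ξ : H → ℂ)) (Cfsg.blockOf M (Cfsg.indFun H (ξ : H → ℂ))) := by
  classical
  have hmax : M.IsMaximal := hM.2.1
  refine ⟨⟨ξ, rfl⟩, ⟨⟨_, hind⟩, rfl⟩, ?_⟩
  intro ξ' hξ' χ hχ g
  have hchar : ∀ ζ : Cfsg.IrrCharacter H, Cfsg.IsCharacter H (ζ : H → ℂ) := by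
    intro ζ
    obtain ⟨n, ρ, _, h⟩ := ζ.2
    exact ⟨n, ρ, h⟩
  have hsplit : Cfsg.inducedCentralChar H (ξ' : H → ℂ) g - Cfsg.centralChar (χ : G → ℂ) g =
      (Cfsg.inducedCentralChar H (ξ' : H → ℂ) g - Cfsg.inducedCentralChar H (ξ : H → ℂ) g) +
      (Cfsg.centralChar (Cfsg.indFun H (ξ : H → ℂ)) g - Cfsg.centralChar (χ : G → ℂ) g) := by
    rw [← Cfsg.Agent.S0932.result H (ξ : H → ℂ) (hchar ξ) g]
    ring
  rw [hsplit]
  apply memLocalIdeal_add hmax _ (hχ g)
  -- the difference of the induced central characters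
  have := Fintype.ofFinite H
  unfold Cfsg.inducedCentralChar
  rw [Cfsg.Agent.S0932.finsum_mem_eq_sum_ite, Cfsg.Agent.S0932.finsum_mem_eq_sum_ite,
    ← Finset.sum_sub_distrib]
  have hrew : ∀ h : H, ((if h ∈ {h : H | IsConj g (h : G)} then (ξ' : H → ℂ) h / (ξ' : H → ℂ) 1 else 0) -
      (if h ∈ {h : H | IsConj g (h : G)} then (ξ : H → ℂ) h / (ξ : H → ℂ) 1 else 0)) =
      if h ∈ {h : H | IsConj g (h : G)} then
        ((ξ' : H → ℂ) h / (ξ' : H → ℂ) 1 - (ξ : H → ℂ) h / (ξ : H → ℂ) 1) else 0 := by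
    intro h
    split_ifs <;> simp
  simp_rw [hrew]
  rw [← Finset.sum_filter]
  apply memLocalIdeal_sum_stable hmax
  · intro h hh k
    simp only [Finset.mem_filter, Finset.mem_univ, true_and, Set.mem_ofPred_eq] at hh ⊢
    refine hh.trans ?_
    rw [isConj_iff]
    exact ⟨(k : G), by simp⟩
  · intro h k
    rw [isCharacter_conj _ (hchar ξ'), isCharacter_conj _ (hchar ξ)]
  · intro h _
    have h1 := hξ' h
    unfold Cfsg.centralChar at h1
    have h2 := memLocalIdeal_neg h1
    convert h2 using 1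
    ring

end Cfsg.Agent.S0933
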