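import Cfsg.Statements.S0908
import Cfsg.Agent.Lib.Helper22.AvgIntegral
import Cfsg.Agent.Lib.Helper82.WeakOrth
import Cfsg.Agent.Lib.Helper82.BlockBasic
import Cfsg.Agent.Lib.Helper82.LocalRing
import Cfsg.Agent.Lib.Helper82.CharBasic
import Cfsg.Agent.Lib.Helper21.Osima

set_option autoImplicit false
open Cfsg

namespace Cfsg.Agent.S0908

open Cfsg.Agent.Lib.Helper21 Cfsg.Agent.Lib.Helper82 Cfsg.Agent.Lib.Helper22
open scoped ComplexConjugate

/-- A quotient of natural numbers whose numerator is divisible by a higher power of `p` than its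
denominator lies in the local ideal. -/
theorem memLocalIdeal_div_of_factorization_lt {p : ℕ} {M : Ideal AlgInt} (hM : IsPModular p M)
    (m d : ℕ) (hd : d ≠ 0) (h : d.factorization p < m.factorization p) :
    MemLocalIdeal M ((m : ℂ) / (d : ℂ)) := by
  have hp : p.Prime := hM.1
  have hMp : M.IsPrime := hM.2.1.isPrime
  have h1 : p ^ (d.factorization p + 1) ∣ m := (Nat.pow_dvd_pow p h).trans (Nat.ordProj_dvd m p)
  obtain ⟨m', hm'⟩ := h1
  have h2 : p ^ d.factorization p * (d / p ^ d.factorization p) = d :=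
    Nat.ordProj_mul_ordCompl_eq_self d p
  have h3 : ¬ p ∣ d / p ^ d.factorization p := Nat.not_dvd_ordCompl hp hd
  generalize d / p ^ d.factorization p = d' at h2 h3
  generalize d.factorization p = k at h2 hm'
  have hd'0 : (d' : ℂ) ≠ 0 := by
    intro h0
    have : d' = 0 := by exact_mod_cast h0
    rw [this] at h3; exact h3 (dvd_zero p)
  have hp0 : (p : ℂ) ≠ 0 := Nat.cast_ne_zero.2 hp.ne_zero
  have heq : (m : ℂ) / (d : ℂ) = (p : ℂ) * ((m' : ℂ) * (d' : ℂ)⁻¹) := by
    rw [hm', ← h2]
    push_cast
    field_simp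
    ring
  rw [heq]
  refine memLocalIdeal_mul_right hMp ((memLocalIdeal_natCast_iff hM p).2 dvd_rfl) ?_
  refine memLocalRing_mul hMp (memLocalRing_natCast hMp m') ?_
  exact memLocalRing_inv (memLocalRing_natCast hMp d')
    (fun hh => h3 ((memLocalIdeal_natCast_iff hM d').1 hh))

theorem isIntegral_conj {z : ℂ} (hz : IsIntegral ℤ z) : IsIntegral ℤ (conj z) :=
  hz.map (starRingEnd ℂ).toIntAlgHom

/-- Let B be a block of the finite group G relative to a maximal ideal M of the algebraic integers containing the prime p, and let D be a defect group of B. Then the order of D is p ^ d, where d is the exponent of p in the order of G minus the least exponent of p in the degrees of the members of B. -/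
local notation "C[" g "]" => Subgroup.centralizer (singleton g)

theorem result {G : Type*} [Group G] [Finite G] (p : ℕ) [Fact p.Prime] (M : Ideal Cfsg.AlgInt) (hM : Cfsg.IsPModular p M) (B : Set (Cfsg.IrrCharacter G)) (hB : Cfsg.IsPBlock M B) (D : Subgroup G) (hD : Cfsg.IsDefectGroup p M B D) : Nat.card D = p ^ Cfsg.blockDefect p B := by
  classical
  let _ : Fintype G := Fintype.ofFinite G
  let _ : Fintype (IrrCharacter G) := Fintype.ofFinite _
  have hp : p.Prime := hM.1
  have hMp : M.IsPrime := hM.2.1.isPrime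
  obtain ⟨g, ⟨hR, hnJ, hω⟩, P, rfl⟩ := hD
  have hBne : B.Nonempty := IsPBlock.nonempty hMp hB
  obtain ⟨χ₀, rfl⟩ := hB
  set D := (P : Subgroup (Subgroup.centralizer ({g} : Set G))).map
    (Subgroup.centralizer ({g} : Set G)).subtype with hDdef
  set δ := (Nat.card C[g]).factorization p with hδ
  have hcardD : Nat.card D = p ^ δ := by
    rw [hDdef, Subgroup.card_map_of_injective C[g].subtype_injective]
    exact P.card_eq_multiplicity
  refine hcardD.trans ?_
  congr 1
  -- numerical set-up
  have hGC : Nat.card C[g] * C[g].index = Nat.card G := Subgroup.card_mul_index C[g]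
  have hC0 : Nat.card C[g] ≠ 0 := Nat.card_pos.ne'
  have hidx0 : C[g].index ≠ 0 := Subgroup.index_ne_zero_of_finite
  have hG0 : Nat.card G ≠ 0 := Nat.card_pos.ne'
  have hfac : (Nat.card G).factorization p = δ + C[g].index.factorization p := by
    rw [← hGC, Nat.factorization_mul hC0 hidx0]; rfl
  -- (1) lower bound
  have h1 : ∀ χ ∈ blockOf M (χ₀ : G → ℂ),
      C[g].index.factorization p ≤ (charDegree (χ : G → ℂ)).factorization p := by
    intro χ hχB
    by_contra hlt
    push Not at hlt
    apply hω χ hχB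
    have hχc := IsIrrCharacter.isCharacter χ.2
    have hdpos := IsIrrCharacter.charDegree_pos χ.2
    have hrew : centralChar (χ : G → ℂ) g =
        ((C[g].index : ℂ) / (charDegree (χ : G → ℂ) : ℂ)) * (χ : G → ℂ) g := by
      rw [centralChar, IsCharacter.charDegree_cast hχc]
      ring
    rw [hrew]
    exact memLocalIdeal_mul_right hMp
      (memLocalIdeal_div_of_factorization_lt hM _ _ hdpos.ne' hlt)
      (memLocalRing_of_isIntegral hMp (IsCharacter.isIntegral hχc g))
  -- (2) the bound is attained
  have h2 : ∃ χ ∈ blockOf M (χ₀ : G → ℂ),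
      (charDegree (χ : G → ℂ)).factorization p ≤ C[g].index.factorization p := by
    by_contra hcon
    push Not at hcon
    apply hnJ
    -- `g` is `p`-regular
    have hreg : ¬ p ∣ orderOf g := fun h => hnJ (by
      rw [blockCoeff_eq_zero_of_singular hM χ₀ g h]; exact memLocalIdeal_zero hMp)
    have hcomm : ∀ u ∈ D, g * u = u * g := by
      intro u hu
      obtain ⟨v, _, rfl⟩ := Subgroup.mem_map.1 hu
      exact (Subgroup.mem_centralizer_iff.1 v.2) g rfl
    have hDp : IsPGroup p D := P.isPGroup'.map C[g].subtype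
    let _ : Fintype D := Fintype.ofFinite D
    have hvan : ∀ u : D, u ≠ 1 → blockCoeff (blockOf M (χ₀ : G → ℂ)) (g * (u : G)) = 0 := by
      intro u hu
      apply blockCoeff_eq_zero_of_singular hM χ₀
      obtain ⟨k, hk⟩ := (IsPGroup.iff_orderOf.1 hDp) u
      have hk' : orderOf (u : G) = p ^ k := by rw [← hk, Subgroup.orderOf_coe]
      have hk0 : k ≠ 0 := by
        rintro rfl
        rw [pow_zero, orderOf_eq_one_iff] at hk
        exact hu hk
      have hco : (orderOf g).Coprime (orderOf (u : G)) := by
        rw [hk']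
        exact Nat.Coprime.pow_right k ((Nat.Prime.coprime_iff_not_dvd hp).2 hreg).symm
      rw [Commute.orderOf_mul_eq_mul_orderOf_of_coprime (hcomm u u.2) hco, hk']
      exact dvd_mul_of_dvd_right (dvd_pow_self p hk0) _
    have hsum : blockCoeff (blockOf M (χ₀ : G → ℂ)) g =
        ∑ u : D, blockCoeff (blockOf M (χ₀ : G → ℂ)) (g * (u : G)) := by
      rw [Finset.sum_eq_single (1 : D) (fun u _ hu => hvan u hu)
        (fun h => absurd (Finset.mem_univ _) h)]
      simp
    have hcD : (Fintype.card D : ℂ) = (p : ℂ) ^ δ := by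
      rw [← Nat.card_eq_fintype_card, hcardD]; push_cast; rfl
    have hp0 : (p : ℂ) ≠ 0 := Nat.cast_ne_zero.2 hp.ne_zero
    have hG0' : (Nat.card G : ℂ) ≠ 0 := Nat.cast_ne_zero.2 hG0
    have key : ∑ u : D, blockCoeff (blockOf M (χ₀ : G → ℂ)) (g * (u : G)) =
        ∑ χ : IrrCharacter G, if χ ∈ blockOf M (χ₀ : G → ℂ) then
          (((charDegree (χ : G → ℂ) * p ^ δ : ℕ) : ℂ) / (Nat.card G : ℂ)) *
            conj ((Fintype.card D : ℂ)⁻¹ * ∑ u : D, (χ : G → ℂ) (g * (u : G))) else 0 := by
      simp_rw [blockCoeff_eq_sum]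
      rw [← Finset.mul_sum, Finset.sum_comm, Finset.mul_sum]
      refine Finset.sum_congr rfl fun χ _ => ?_
      split_ifs with hχ
      · have hχc := IsIrrCharacter.isCharacter χ.2
        rw [map_mul, map_inv₀, map_sum, map_natCast, ← Finset.mul_sum,
          ← IsCharacter.charDegree_cast hχc, hcD]
        push_cast
        field_simp
      · simp
    rw [hsum, key]
    refine memLocalIdeal_sum hMp _ _ fun χ _ => ?_
    split_ifs with hχ
    · have hχc := IsIrrCharacter.isCharacter χ.2
      refine memLocalIdeal_mul_right hMp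
        (memLocalIdeal_div_of_factorization_lt hM _ _ hG0 ?_)
        (memLocalRing_of_isIntegral hMp (isIntegral_conj (isIntegral_avg_coset hχc D g hcomm)))
      have hdpos := IsIrrCharacter.charDegree_pos χ.2
      rw [Nat.factorization_mul hdpos.ne' (pow_ne_zero _ hp.ne_zero), Finsupp.add_apply,
        Nat.Prime.factorization_pow hp, Finsupp.single_eq_same, hfac]
      have := hcon χ hχ
      omega
    · exact memLocalIdeal_zero hMp
  -- conclude
  obtain ⟨χ₁, hχ₁B, hχ₁⟩ := h2
  have hInf : sInf ((fun χ : IrrCharacter G => (charDegree (χ : G → ℂ)).factorization p) ''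
      blockOf M (χ₀ : G → ℂ)) = C[g].index.factorization p := by
    apply le_antisymm
    · exact (Nat.sInf_le (Set.mem_image_of_mem _ hχ₁B)).trans hχ₁
    · apply le_csInf (hBne.image _)
      rintro n ⟨χ, hχB, rfl⟩
      exact h1 χ hχB
  rw [blockDefect, hInf, hfac]
  omega

end Cfsg.Agent.S0908
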