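import Cfsg.Statements.S0911
import Cfsg.Agent.Lib.Helper21.MinMax
import Cfsg.Agent.Lib.Helper21.SylowAux

set_option autoImplicit false
open Cfsg

namespace Cfsg.Agent.S0911

open Cfsg.Agent.Lib.Helper21 Cfsg.Agent.Lib.Helper82

/-- If `t * g * t⁻¹` centralizes `P`, then `t⁻¹ P t` centralizes `g`. -/
theorem conj_le_centralizer {G : Type*} [Group G] (P : Subgroup G) (g t : G)
    (h : t * g * t⁻¹ ∈ Subgroup.centralizer (P : Set G)) :
    P.map (MulAut.conj t⁻¹).toMonoidHom ≤ Subgroup.centralizer ({g} : Set G) := by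
  rintro _ ⟨q, hq, rfl⟩
  rw [Subgroup.mem_centralizer_iff]
  intro y hy
  rw [Set.mem_singleton_iff] at hy
  subst hy
  have h1 := (Subgroup.mem_centralizer_iff.1 h) q hq
  simp only [MulEquiv.coe_toMonoidHom, MulAut.conj_apply, inv_inv]
  calc y * (t⁻¹ * q * t) = t⁻¹ * ((t * y * t⁻¹) * q) * t := by group
    _ = t⁻¹ * (q * (t * y * t⁻¹)) * t := by rw [h1]
    _ = t⁻¹ * q * t * y := by group

theorem mem_centralizer_of_le {G : Type*} [Group G] (P : Subgroup G) (g : G)
    (h : P ≤ Subgroup.centralizer ({g} : Set G)) : g ∈ Subgroup.centralizer (P : Set G) := by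
  rw [Subgroup.mem_centralizer_iff]
  intro q hq
  have := (Subgroup.mem_centralizer_iff.1 (h hq)) g (Set.mem_singleton g)
  exact this.symm

theorem map_subtype_le {G : Type*} [Group G] (H : Subgroup G) (K : Subgroup H) :
    K.map H.subtype ≤ H := by
  rintro _ ⟨k, _, rfl⟩
  exact k.2

theorem result {G : Type*} [Group G] [Finite G] (p : ℕ) [Fact p.Prime] (M : Ideal Cfsg.AlgInt) (hM : Cfsg.IsPModular p M) (B : Set (Cfsg.IrrCharacter G)) (hB : Cfsg.IsPBlock M B) (g : G) (hg : Cfsg.IsDefectClass M B g) (D : Sylow p (Subgroup.centralizer ({g} : Set G))) (h : G) : (Cfsg.MemLocalRing M (Cfsg.blockCoeff B h) → ¬ Cfsg.MemLocalIdeal M (Cfsg.blockCoeff B h) → ∃ (x : G) (Q : Sylow p (Subgroup.centralizer ({h} : Set G))), (Q : Subgroup (Subgroup.centralizer ({h} : Set G))).map (Subgroup.centralizer ({h} : Set G)).subtype ≤ ((D : Subgroup (Subgroup.centralizer ({g} : Set G))).map (Subgroup.centralizer ({g} : Set G)).subtype).map (MulAut.conj x).toMonoidHom)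 ∧ ((∃ χ ∈ B, ¬ Cfsg.MemLocalIdeal M (Cfsg.centralChar (χ : G → ℂ) h)) → ∃ (x : G) (Q : Sylow p (Subgroup.centralizer ({h} : Set G))), ((D : Subgroup (Subgroup.centralizer ({g} : Set G))).map (Subgroup.centralizer ({g} : Set G)).subtype).map (MulAut.conj x).toMonoidHom ≤ (Q : Subgroup (Subgroup.centralizer ({h} : Set G))).map (Subgroup.centralizer ({h} : Set G)).subtype) := by
  classical
  have := Fintype.ofFinite G
  have := Fintype.ofFinite (Cfsg.IrrCharacter G)
  have hprime : M.IsPrime := hM.2.1.isPrime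
  obtain ⟨χ₀, rfl⟩ := hB
  obtain ⟨_, hg2, hg3⟩ := hg
  refine ⟨?_, ?_⟩
  · intro _ hnI
    obtain ⟨Q₀⟩ : Nonempty (Sylow p (Subgroup.centralizer ({h} : Set G))) := inferInstance
    set P : Subgroup G := (Q₀ : Subgroup (Subgroup.centralizer ({h} : Set G))).map
      (Subgroup.centralizer ({h} : Set G)).subtype with hPdef
    have hP : IsPGroup p P := Q₀.isPGroup'.map _
    have hPle : P ≤ Subgroup.centralizer ({h} : Set G) := map_subtype_le _ _
    have hPk : h ∈ Subgroup.centralizer (P : Set G) := mem_centralizer_of_le P h hPle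
    obtain ⟨y, hy, hyP⟩ := exists_conj_centralized hM χ₀ h g hnI
      ⟨χ₀, mem_blockOf_self hprime χ₀, hg3 χ₀ (mem_blockOf_self hprime χ₀)⟩ P hP hPk
    obtain ⟨t, rfl⟩ := isConj_iff.1 hy
    have hQ'le := conj_le_centralizer P g t hyP
    have hQ' : IsPGroup p (P.map (MulAut.conj t⁻¹).toMonoidHom) := hP.map _
    obtain ⟨c, hc, hconj⟩ := exists_conj_mem_of_sylow_subgroup D rfl hQ' hQ'le
    refine ⟨t * c, Q₀, ?_⟩
    intro q hq
    rw [Subgroup.mem_map]
    refine ⟨c⁻¹ * (t⁻¹ * q * t) * c, hconj _ ⟨q, hq, by simp⟩, ?_⟩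
    simp only [MulEquiv.coe_toMonoidHom, MulAut.conj_apply]
    group
  · rintro ⟨χ, hχB, hχ⟩
    set DG : Subgroup G := (D : Subgroup (Subgroup.centralizer ({g} : Set G))).map
      (Subgroup.centralizer ({g} : Set G)).subtype with hDG
    have hDp : IsPGroup p DG := D.isPGroup'.map _
    have hDle : DG ≤ Subgroup.centralizer ({g} : Set G) := map_subtype_le _ _
    have hDk : g ∈ Subgroup.centralizer (DG : Set G) := mem_centralizer_of_le DG g hDle
    obtain ⟨y, hy, hyP⟩ := exists_conj_centralized hM χ₀ g h hg2 ⟨χ, hχB, hχ⟩ DG hDp hDk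
    obtain ⟨t, rfl⟩ := isConj_iff.1 hy
    have hQ'le := conj_le_centralizer DG h t hyP
    have hQ' : IsPGroup p (DG.map (MulAut.conj t⁻¹).toMonoidHom) := hDp.map _
    have hQ1 : IsPGroup p ((DG.map (MulAut.conj t⁻¹).toMonoidHom).subgroupOf
      (Subgroup.centralizer ({h} : Set G))) := hQ'.comap_subtype
    obtain ⟨Q, hQ⟩ := hQ1.exists_le_sylow
    refine ⟨t⁻¹, Q, ?_⟩
    intro q hq
    exact ⟨⟨q, hQ'le hq⟩, hQ (Subgroup.mem_subgroupOf.2 hq), rfl⟩

end Cfsg.Agent.S0911
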