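-- Statement S0963
import Cfsg.Statements.S0963
import Cfsg.Agent.S0932
import Cfsg.Agent.Lib.Helper05.CharOrtho
import Cfsg.Agent.Lib.Helper84.Schur

set_option autoImplicit false
open Cfsg

namespace Cfsg.Agent.S0963

open Cfsg.Agent.Lib.Helper05 Cfsg.Agent.Lib.Helper84

variable {G : Type*} [Group G] [Fintype G] (N : Subgroup G) [hN : N.Normal]

/-- The sum of the values of `θ` over all conjugates of `n`. -/
noncomputable def conjSum (θ : N → ℂ) (n : N) : ℂ := ∑ g : G, θ (MulAut.conjNormal g n)

theorem inducedCentralChar_eq (θ : N → ℂ) (n : N) :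
    Cfsg.inducedCentralChar N θ (n : G) =
      (Nat.card (Subgroup.centralizer ({(n : G)} : Set G)) : ℂ)⁻¹ * conjSum N θ n / θ 1 := by
  classical
  have hC : (Nat.card (Subgroup.centralizer ({(n : G)} : Set G)) : ℂ) ≠ 0 := by
    have : 0 < Nat.card (Subgroup.centralizer ({(n : G)} : Set G)) := Nat.card_pos
    exact_mod_cast this.ne'
  have h1 := Cfsg.Agent.S0932.sum_conj_eq N θ (n : G)
  have h2 : ∑ x : G, Cfsg.extendByZero N θ (x⁻¹ * (n : G) * x) = conjSum N θ n := by
    unfold conjSum
    rw [← Equiv.sum_comp (Equiv.inv G)]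
    apply Finset.sum_congr rfl
    intro x _
    have : ((Equiv.inv G) x)⁻¹ * (n : G) * (Equiv.inv G) x =
        ((MulAut.conjNormal x n : N) : G) := by
      simp
    rw [this, Cfsg.Agent.S0932.extendByZero_apply_mem]
  rw [h2] at h1
  unfold Cfsg.inducedCentralChar
  have hdiv : ∑ᶠ h ∈ {h : N | IsConj (n : G) (h : G)}, θ h / θ 1 =
      (∑ᶠ h ∈ {h : N | IsConj (n : G) (h : G)}, θ h) / θ 1 := by
    have := Fintype.ofFinite N
    rw [Cfsg.Agent.S0932.finsum_mem_eq_sum_ite, Cfsg.Agent.S0932.finsum_mem_eq_sum_ite,
      div_eq_mul_inv, Finset.sum_mul]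
    apply Finset.sum_congr rfl
    intro h _
    split_ifs
    · rw [div_eq_mul_inv]
    · rw [zero_mul]
  rw [hdiv, h1]
  field_simp

/-- Key identity: if an irreducible representation `σ` of `N` embeds in the restriction of the
irreducible representation `ρ` of `G`, the class sums act by the same scalar. -/
theorem conjSum_eq_of_injective {V W : Type*} [AddCommGroup V] [Module ℂ V]
    [FiniteDimensional ℂ V] [AddCommGroup W] [Module ℂ W] [FiniteDimensional ℂ W]
    (ρ : Representation ℂ G V) [ρ.IsIrreducible] (σ : Representation ℂ N W)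
    (f : W →ₗ[ℂ] V) (hf : Function.Injective f)
    (hint : ∀ m : N, f ∘ₗ σ m = ρ (m : G) ∘ₗ f) (n : N) :
    conjSum N σ.character n * (Module.finrank ℂ V : ℂ) =
      (Fintype.card G : ℂ) * ρ.character (n : G) * (Module.finrank ℂ W : ℂ) := by
  have hK := sum_conj_eq_smul ρ (n : G)
  set c : ℂ := (Fintype.card G : ℂ) * ρ.character (n : G) / (Module.finrank ℂ V : ℂ) with hc
  set K' : W →ₗ[ℂ] W := ∑ g : G, σ (MulAut.conjNormal g n) with hK'
  have h1 : f ∘ₗ K' = f ∘ₗ (c • LinearMap.id) := by
    ext w
    have hterm : ∀ g : G, f (σ (MulAut.conjNormal g n) w) = ρ (g * (n : G) * g⁻¹) (f w) := by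
      intro g
      have := congrArg (fun l : W →ₗ[ℂ] V => l w) (hint (MulAut.conjNormal g n))
      simpa using this
    have hKw := congrArg (fun l : V →ₗ[ℂ] V => l (f w)) hK
    simp only [LinearMap.sum_apply, LinearMap.smul_apply, LinearMap.id_apply] at hKw
    simp only [LinearMap.comp_apply, hK', LinearMap.sum_apply, map_sum, hterm, hKw,
      LinearMap.smul_apply, LinearMap.id_apply, map_smul]
  have h2 : K' = c • LinearMap.id := (LinearMap.cancel_left hf).mp h1
  have h3 := congrArg (LinearMap.trace ℂ W) h2
  rw [hK', map_sum, map_smul, LinearMap.trace_id, smul_eq_mul] at h3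
  have h4 : conjSum N σ.character n = c * (Module.finrank ℂ W : ℂ) := by
    rw [← h3]; rfl
  rw [h4, hc]
  have hd : (Module.finrank ℂ V : ℂ) ≠ 0 := irr_finrank_ne_zero ρ
  field_simp


/-- Let N be a normal subgroup of the finite group G, χ an irreducible character of G and θ an irreducible character of N. Then θ occurs in the restriction of χ to N if and only if, for every n ∈ N, the central character of χ at n (class size in G times χ n over χ 1) equals the sum of θ m / θ 1 over the elements m of N conjugate in G to n. -/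
theorem result {G : Type*} [Group G] [Fintype G] (N : Subgroup G) [N.Normal] [Fintype N] (χ : Cfsg.IrrCharacter G) (θ : Cfsg.IrrCharacter N) : Cfsg.classInner (fun n : N => (χ : G → ℂ) n) (θ : N → ℂ) ≠ 0 ↔ ∀ n : N, Cfsg.centralChar (χ : G → ℂ) (n : G) = Cfsg.inducedCentralChar N (θ : N → ℂ) (n : G) := by
  classical
  obtain ⟨χ, a, ρ, hρ, rfl⟩ := χ
  obtain ⟨θ, b, σ, hσ, rfl⟩ := θ
  have := hρ
  have := hσ
  simp only
  set ρN : Representation ℂ N (Fin a → ℂ) := ρ.comp N.subtype with hρN
  have hres : (fun n : N => ρ.character (n : G)) = ρN.character := rfl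
  have hinner := classInner_char_eq_finrank ρN σ
  have ha : (Module.finrank ℂ (Fin a → ℂ) : ℂ) ≠ 0 := irr_finrank_ne_zero ρ
  have hb : (Module.finrank ℂ (Fin b → ℂ) : ℂ) ≠ 0 := irr_finrank_ne_zero σ
  have hχ1 : ρ.character 1 = (Module.finrank ℂ (Fin a → ℂ) : ℂ) := Representation.char_one ρ
  have hθ1 : σ.character 1 = (Module.finrank ℂ (Fin b → ℂ) : ℂ) := Representation.char_one σ
  have hG : (Fintype.card G : ℂ) ≠ 0 := by exact_mod_cast Fintype.card_ne_zero
  have hidx : ∀ n : N, ((Subgroup.centralizer ({(n : G)} : Set G)).index : ℂ) *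
      (Nat.card (Subgroup.centralizer ({(n : G)} : Set G)) : ℂ) = (Fintype.card G : ℂ) := by
    intro n
    rw [mul_comm, ← Nat.card_eq_fintype_card]
    exact_mod_cast (Subgroup.centralizer ({(n : G)} : Set G)).card_mul_index
  have hC : ∀ n : N, (Nat.card (Subgroup.centralizer ({(n : G)} : Set G)) : ℂ) ≠ 0 := by
    intro n
    have : 0 < Nat.card (Subgroup.centralizer ({(n : G)} : Set G)) := Nat.card_pos
    exact_mod_cast this.ne'
  constructor
  · intro hne n
    have hex : ∃ f : Representation.IntertwiningMap σ ρN, f ≠ 0 := by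
      by_contra h
      push Not at h
      have hsub : Subsingleton (Representation.IntertwiningMap σ ρN) :=
        ⟨fun x y => by rw [h x, h y]⟩
      have h0 := Module.finrank_zero_of_subsingleton (R := ℂ)
        (M := Representation.IntertwiningMap σ ρN)
      rw [hres, hinner, h0] at hne
      simp at hne
    obtain ⟨f, hf0⟩ := hex
    have hinj : Function.Injective f :=
      (Representation.IsIrreducible.injective_or_eq_zero f).resolve_right hf0
    have key := conjSum_eq_of_injective N ρ σ f.toLinearMap hinj
      (fun m => f.isIntertwining' m) n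
    rw [inducedCentralChar_eq]
    unfold Cfsg.centralChar
    rw [hχ1, hθ1]
    have hCn := hC n
    have hin := hidx n
    rw [div_eq_div_iff ha hb]
    have : (Nat.card (Subgroup.centralizer ({(n : G)} : Set G)) : ℂ)⁻¹ * conjSum N σ.character n *
        (Module.finrank ℂ (Fin a → ℂ) : ℂ) =
        (Nat.card (Subgroup.centralizer ({(n : G)} : Set G)) : ℂ)⁻¹ *
          ((Fintype.card G : ℂ) * ρ.character (n : G) * (Module.finrank ℂ (Fin b → ℂ) : ℂ)) := by
      rw [mul_assoc, key]
    rw [this, ← hin]
    field_simp
  · intro hall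
    -- express χ on N through the conjugate sums
    have hval : ∀ n : N, ρ.character (n : G) =
        (Module.finrank ℂ (Fin a → ℂ) : ℂ) / ((Fintype.card G : ℂ) *
          (Module.finrank ℂ (Fin b → ℂ) : ℂ)) * conjSum N σ.character n := by
      intro n
      have h1 := hall n
      rw [inducedCentralChar_eq] at h1
      unfold Cfsg.centralChar at h1
      rw [hχ1, hθ1] at h1
      have hCn := hC n
      have hin := hidx n
      rw [div_eq_div_iff ha hb] at h1
      have h2 : (Fintype.card G : ℂ) * ρ.character (n : G) * (Module.finrank ℂ (Fin b → ℂ) : ℂ) =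
          conjSum N σ.character n * (Module.finrank ℂ (Fin a → ℂ) : ℂ) := by
        rw [← hin]
        calc ((Subgroup.centralizer ({(n : G)} : Set G)).index : ℂ) *
              (Nat.card (Subgroup.centralizer ({(n : G)} : Set G)) : ℂ) * ρ.character (n : G) *
              (Module.finrank ℂ (Fin b → ℂ) : ℂ)
            = (Nat.card (Subgroup.centralizer ({(n : G)} : Set G)) : ℂ) *
              (((Subgroup.centralizer ({(n : G)} : Set G)).index : ℂ) * ρ.character (n : G) *
              (Module.finrank ℂ (Fin b → ℂ) : ℂ)) := by ring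
          _ = (Nat.card (Subgroup.centralizer ({(n : G)} : Set G)) : ℂ) *
              ((Nat.card (Subgroup.centralizer ({(n : G)} : Set G)) : ℂ)⁻¹ *
                conjSum N σ.character n * (Module.finrank ℂ (Fin a → ℂ) : ℂ)) := by rw [h1]
          _ = conjSum N σ.character n * (Module.finrank ℂ (Fin a → ℂ) : ℂ) := by
              field_simp
      rw [div_mul_eq_mul_div, eq_div_iff (mul_ne_zero hG hb)]
      linear_combination h2
    -- the twisted representations
    let σg : G → Representation ℂ N (Fin b → ℂ) :=
      fun g => σ.comp (MulAut.conjNormal g : N ≃* N).toMonoidHom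
    have hσg : ∀ g : G, (σg g).character = fun n : N => σ.character (MulAut.conjNormal g n) :=
      fun g => rfl
    have hm : ∀ g : G, Cfsg.classInner (σg g).character σ.character =
        (Module.finrank ℂ (Representation.IntertwiningMap σ (σg g)) : ℂ) :=
      fun g => classInner_char_eq_finrank (σg g) σ
    have hsum : Cfsg.classInner ρN.character σ.character =
        (Module.finrank ℂ (Fin a → ℂ) : ℂ) / ((Fintype.card G : ℂ) *
          (Module.finrank ℂ (Fin b → ℂ) : ℂ)) *
          ∑ g : G, Cfsg.classInner (σg g).character σ.character := by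
      unfold Cfsg.classInner
      rw [← hres]
      simp only [hσg]
      have hterm : ∀ n : N, ρ.character (n : G) * (starRingEnd ℂ) (σ.character n) =
          (Module.finrank ℂ (Fin a → ℂ) : ℂ) / ((Fintype.card G : ℂ) *
            (Module.finrank ℂ (Fin b → ℂ) : ℂ)) *
          ∑ g : G, σ.character (MulAut.conjNormal g n) * (starRingEnd ℂ) (σ.character n) := by
        intro n
        rw [hval n, conjSum, mul_assoc, Finset.sum_mul]
      simp only [hterm]
      rw [← Finset.mul_sum, Finset.sum_comm, ← Finset.mul_sum]
      ring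
    rw [hres, hsum]
    apply mul_ne_zero
    · exact div_ne_zero ha (mul_ne_zero hG hb)
    · simp only [hm]
      rw [← Nat.cast_sum]
      have h1 : Module.finrank ℂ (Representation.IntertwiningMap σ (σg 1)) = 1 := by
        have h2 := hm 1
        have h3 : (σg 1).character = σ.character := by
          rw [hσg]
          funext n
          simp
        rw [h3, classInner_self_irreducible σ hσ] at h2
        exact_mod_cast h2.symm
      have h2 : Module.finrank ℂ (Representation.IntertwiningMap σ (σg 1)) ≤
          ∑ g : G, Module.finrank ℂ (Representation.IntertwiningMap σ (σg g)) :=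
        Finset.single_le_sum (f := fun g => Module.finrank ℂ
          (Representation.IntertwiningMap σ (σg g))) (fun _ _ => Nat.zero_le _)
          (Finset.mem_univ 1)
      have h3 : (∑ g : G, Module.finrank ℂ (Representation.IntertwiningMap σ (σg g))) ≠ 0 := by
        omega
      exact_mod_cast h3

end Cfsg.Agent.S0963
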