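import Cfsg.Statements.S4491
import Cfsg.Agent.Lib.Helper21.BlockDegreeSum

set_option autoImplicit false
open Cfsg

namespace Cfsg.Agent.S4491

open Cfsg.Agent.Lib.Helper21 Cfsg.Agent.Lib.Helper82 Cfsg.Agent.Lib.Helper83

/-- Let B be a p-block of defect d of the finite group G (relative to a maximal ideal M of the algebraic integers containing p), and let p^a be the p-part of the order of G. Then the exact power of p dividing the sum of the squares of the degrees of the irreducible characters in B is p^(2a − d). -/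
theorem result {G : Type*} [Group G] [Finite G] (p : ℕ) [Fact p.Prime] (M : Ideal Cfsg.AlgInt) (hM : Cfsg.IsPModular p M) (B : Set (Cfsg.IrrCharacter G)) (hB : Cfsg.IsPBlock M B) : (∑ᶠ χ ∈ B, Cfsg.charDegree (χ : G → ℂ) ^ 2).factorization p = 2 * (Nat.card G).factorization p - Cfsg.blockDefect p B := by
  classical
  have := Fintype.ofFinite G
  have := Fintype.ofFinite (Cfsg.IrrCharacter G)
  have hp : p.Prime := Fact.out
  have hprime : M.IsPrime := hM.2.1.isPrime
  obtain ⟨χ₁, hχ₁⟩ := Cfsg.Agent.Lib.Helper82.IsPBlock.nonempty hprime hB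
  -- a character of minimal degree valuation
  set T : Set ℕ := (fun χ : Cfsg.IrrCharacter G =>
    (Cfsg.charDegree (χ : G → ℂ)).factorization p) '' B with hT
  have hTne : T.Nonempty := ⟨_, χ₁, hχ₁, rfl⟩
  obtain ⟨χ, hχ, hχs⟩ := Nat.sInf_mem hTne
  simp only at hχs
  have hBχ : B = blockOf M (χ : G → ℂ) := IsPBlock.eq_blockOf hprime hB hχ
  have hmin : ∀ χ' : Cfsg.IrrCharacter G, SameBlock M (χ : G → ℂ) (χ' : G → ℂ) →
      (Cfsg.charDegree (χ : G → ℂ)).factorization p ≤
        (Cfsg.charDegree (χ' : G → ℂ)).factorization p := by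
    intro χ' hs
    have hχ' : χ' ∈ B := by
      rw [hBχ, mem_blockOf_iff]; exact hs
    rw [hχs]
    exact Nat.sInf_le ⟨χ', hχ', rfl⟩
  have hsum : ∑ᶠ χ ∈ B, Cfsg.charDegree (χ : G → ℂ) ^ 2
      = ∑ ψ : Cfsg.IrrCharacter G, if ψ ∈ blockOf M (χ : G → ℂ) then
        Cfsg.charDegree (ψ : G → ℂ) ^ 2 else 0 := by
    rw [finsum_mem_eq_finite_toFinset_sum _ (Set.toFinite B), ← Finset.sum_filter]
    apply Finset.sum_congr
    · ext ψ; simp [hBχ]
    · intros; rfl
  rw [hsum, factorization_sum_degree_sq hM χ hmin]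
  unfold Cfsg.blockDefect
  rw [← hT, ← hχs]
  have hle : (Cfsg.charDegree (χ : G → ℂ)).factorization p ≤ (Nat.card G).factorization p := by
    have hdvd := IsIrrCharacter.charDegree_dvd_card χ.2
    have hd0 : Cfsg.charDegree (χ : G → ℂ) ≠ 0 := by
      intro h0
      rw [h0] at hdvd
      exact Nat.card_pos.ne' (Nat.eq_zero_of_zero_dvd hdvd)
    exact (Nat.factorization_le_iff_dvd hd0 Nat.card_pos.ne').2 hdvd p
  omega

end Cfsg.Agent.S4491
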