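import Cfsg.Statements.S0917
import Cfsg.Agent.Lib.Helper21.InducedBlock

set_option autoImplicit false
open Cfsg

namespace Cfsg.Agent.S0917

open Cfsg.Agent.Lib.Helper21 Cfsg.Agent.Lib.Helper82 Cfsg.Agent.Lib.Helper83

/-- Let H be a subgroup of the finite group G, p a prime and M a maximal ideal of the algebraic integers containing p. If the block b of H induces the block B of G relative to M, then every defect group of b (a subgroup of H, viewed in G) is contained in some defect group of B. -/
theorem result {G : Type*} [Group G] [Finite G] (p : ℕ) [Fact p.Prime] (M : Ideal Cfsg.AlgInt) (hM : Cfsg.IsPModular p M) (H : Subgroup G) (b : Set (Cfsg.IrrCharacter H)) (hb : Cfsg.IsPBlock M b) (B : Set (Cfsg.IrrCharacter G)) (hB : Cfsg.IsPBlock M B) (hind : Cfsg.IsInducedBlock M H b B) (D : Subgroup H) (hD : Cfsg.IsDefectGroup p M b D) : ∃ E : Subgroup G, Cfsg.IsDefectGroup p M B E ∧ D.map H.subtype ≤ E := by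
  classical
  have := Fintype.ofFinite G
  have := Fintype.ofFinite H
  have := Fintype.ofFinite (Cfsg.IrrCharacter G)
  have := Fintype.ofFinite (Cfsg.IrrCharacter H)
  have hprime : M.IsPrime := hM.2.1.isPrime
  obtain ⟨χ₀, rfl⟩ := hB
  obtain ⟨ξ₀, rfl⟩ := hb
  obtain ⟨_, _, hcong⟩ := hind
  have hχ₀ : χ₀ ∈ blockOf M (χ₀ : G → ℂ) := mem_blockOf_self hprime χ₀
  have hξ₀ : ξ₀ ∈ blockOf M (ξ₀ : H → ℂ) := mem_blockOf_self hprime ξ₀
  set B := blockOf M (χ₀ : G → ℂ) with hBdef
  have hR : ∀ g, MemLocalRing M (blockCoeff B g) := memLocalRing_blockCoeff_blockOf hprime χ₀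
  have h1 : omega (blockCoeff B) (χ₀ : G → ℂ) = 1 := by
    rw [omega_blockCoeff, if_pos hχ₀]
  rw [omega_eq_sum_classes (blockCoeff_isClassFunction B) (isClassFunction_irr χ₀)] at h1
  have hex : ∃ K : ConjClasses G, ∃ L : ConjClasses H, ¬ MemLocalIdeal M
      (blockCoeff B (Quotient.out K) * (classInd H (Quotient.out K) (Quotient.out L) *
        centralChar (ξ₀ : H → ℂ) (Quotient.out L))) := by
    by_contra hcon
    push Not at hcon
    have hs : MemLocalIdeal M (∑ K : ConjClasses G, blockCoeff B (Quotient.out K) *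
        inducedCentralChar H (ξ₀ : H → ℂ) (Quotient.out K)) := by
      apply memLocalIdeal_sum hprime
      intro K _
      rw [inducedCentralChar_eq_sum_classes, Finset.mul_sum]
      exact memLocalIdeal_sum hprime _ _ (fun L _ => hcon K L)
    have hd : MemLocalIdeal M (∑ K : ConjClasses G, blockCoeff B (Quotient.out K) *
        (centralChar (χ₀ : G → ℂ) (Quotient.out K) -
          inducedCentralChar H (ξ₀ : H → ℂ) (Quotient.out K))) := by
      apply memLocalIdeal_sum hprime
      intro K _
      apply memLocalIdeal_mul_left hprime (hR _)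
      have h2 := memLocalIdeal_neg (hcong ξ₀ hξ₀ χ₀ hχ₀ (Quotient.out K))
      rwa [neg_sub] at h2
    have h3 := memLocalIdeal_add hprime hs hd
    rw [← Finset.sum_add_distrib] at h3
    have e : ∀ K : ConjClasses G, blockCoeff B (Quotient.out K) *
        inducedCentralChar H (ξ₀ : H → ℂ) (Quotient.out K) + blockCoeff B (Quotient.out K) *
        (centralChar (χ₀ : G → ℂ) (Quotient.out K) -
          inducedCentralChar H (ξ₀ : H → ℂ) (Quotient.out K))
        = blockCoeff B (Quotient.out K) * centralChar (χ₀ : G → ℂ) (Quotient.out K) := by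
      intro K; ring
    rw [Finset.sum_congr rfl (fun K _ => e K), h1] at h3
    exact not_memLocalIdeal_one hprime h3
  obtain ⟨K, L, hKL⟩ := hex
  set k : G := Quotient.out K with hkdef
  set l : H := Quotient.out L with hldef
  have hconj : IsConj k (l : G) := by
    by_contra hn
    apply hKL
    rw [classInd_apply, if_neg hn, zero_mul, mul_zero]
    exact memLocalIdeal_zero hprime
  rw [classInd_apply, if_pos hconj, one_mul] at hKL
  have hk : ¬ MemLocalIdeal M (blockCoeff B k) := fun hc =>
    hKL (memLocalIdeal_mul_right hprime hc (memLocalRing_centralChar hprime ξ₀ l))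
  have hl : ¬ MemLocalIdeal M (centralChar (ξ₀ : H → ℂ) l) := fun hc =>
    hKL (memLocalIdeal_mul_left hprime (hR k) hc)
  -- the defect group of `b`
  obtain ⟨h, hdef, P, rfl⟩ := hD
  have hDp : IsPGroup p ((P : Subgroup (Subgroup.centralizer ({h} : Set H))).map
      (Subgroup.centralizer ({h} : Set H)).subtype) := P.isPGroup'.map _
  have hDh : h ∈ Subgroup.centralizer (((P : Subgroup (Subgroup.centralizer ({h} : Set H))).map
      (Subgroup.centralizer ({h} : Set H)).subtype : Subgroup H) : Set H) := by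
    rw [Subgroup.mem_centralizer_iff]
    intro d hd
    obtain ⟨d0, _, rfl⟩ := hd
    have := Subgroup.mem_centralizer_iff.1 d0.2 h (Set.mem_singleton h)
    exact this.symm
  obtain ⟨l', hll', hl'⟩ := exists_conj_centralized hM ξ₀ h l hdef.2.1 ⟨ξ₀, hξ₀, hl⟩ _ hDp hDh
  -- transfer to `G`
  set D' : Subgroup G := ((P : Subgroup (Subgroup.centralizer ({h} : Set H))).map
      (Subgroup.centralizer ({h} : Set H)).subtype).map H.subtype with hD'
  have hD'p : IsPGroup p D' := hDp.map _
  have hk'D' : (l' : G) ∈ Subgroup.centralizer (D' : Set G) := by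
    rw [Subgroup.mem_centralizer_iff]
    intro d hd
    obtain ⟨d0, hd0, rfl⟩ := hd
    have := Subgroup.mem_centralizer_iff.1 hl' d0 hd0
    exact congrArg Subtype.val this
  have hkl' : IsConj k (l' : G) := hconj.trans (H.subtype.map_isConj hll')
  have hk' : ¬ MemLocalIdeal M (blockCoeff B (l' : G)) := by
    rw [blockCoeff_of_isConj B hkl']; exact hk
  obtain ⟨g₀, hg₀⟩ := exists_isDefectClass hprime χ₀
  obtain ⟨y, hg₀y, hy⟩ := exists_conj_centralized hM χ₀ (l' : G) g₀ hk'
    ⟨χ₀, hχ₀, hg₀.2.2 χ₀ hχ₀⟩ D' hD'p hk'D'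
  have hydef : IsDefectClass M B y := isDefectClass_of_isConj hg₀y hg₀
  have hle : D' ≤ Subgroup.centralizer ({y} : Set G) := by
    intro d hd
    rw [Subgroup.mem_centralizer_iff]
    intro z hz
    rw [Set.mem_singleton_iff] at hz
    subst hz
    exact (Subgroup.mem_centralizer_iff.1 hy d hd).symm
  obtain ⟨Q, hQ⟩ := (hD'p.comap_subtype (K := Subgroup.centralizer ({y} : Set G))).exists_le_sylow
  refine ⟨(Q : Subgroup (Subgroup.centralizer ({y} : Set G))).map
    (Subgroup.centralizer ({y} : Set G)).subtype, ⟨y, hydef, Q, rfl⟩, ?_⟩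
  intro d hd
  exact ⟨⟨d, hle hd⟩, hQ (Subgroup.mem_subgroupOf.2 hd), rfl⟩

end Cfsg.Agent.S0917
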