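import Cfsg.Statements.S4658
import Cfsg.Agent.Lib.Helper81.BPStep

set_option autoImplicit false
open Cfsg

namespace Cfsg.Agent.S4658

/-- Fix a prime p and a maximal ideal M of the algebraic integers containing p. Let (Q, f) ≤ (P, e) be Brauer pairs of the finite group G and B a p-block of G. Then (P, e) is a Brauer pair of B if and only if (Q, f) is. -/
theorem result {G : Type*} [Group G] [Fintype G] (p : ℕ) [Fact p.Prime] (M : Ideal Cfsg.AlgInt) (hM : Cfsg.IsPModular p M) (P Q : Subgroup G) (e : Set (Cfsg.IrrCharacter (Subgroup.centralizer (P : Set G)))) (f : Set (Cfsg.IrrCharacter (Subgroup.centralizer (Q : Set G)))) (hPe : Cfsg.IsBrauerPair p M P e) (hQf : Cfsg.IsBrauerPair p M Q f) (hle : Cfsg.SubpairLE p M Q f P e) (B : Set (Cfsg.IrrCharacter G)) (hB : Cfsg.IsPBlock M B) : Cfsg.IsBrauerPairOf p M B P e ↔ Cfsg.IsBrauerPairOf p M B Q f := by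
  classical
  have : Finite (IrrCharacter G) := Cfsg.Agent.Lib.Helper83.irr_finite
  have : Fintype (IrrCharacter G) := Fintype.ofFinite _
  have hprime : M.IsPrime := hM.2.1.isPrime
  obtain ⟨χ₀, hχ₀⟩ := id hB
  have hβR : ∀ x, MemLocalRing M (blockCoeff B x) := fun x =>
    hχ₀ ▸ Cfsg.Agent.Lib.Helper21.memLocalRing_blockCoeff_blockOf hprime χ₀ x
  have hcls : IsClassFunction G (blockCoeff B) :=
    Cfsg.Agent.Lib.Helper21.blockCoeff_isClassFunction B
  have key : ∀ ξ ∈ f, ∀ ξ' ∈ e, MemLocalIdeal M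
      (brauerOmega P (blockCoeff B) (ξ' : Subgroup.centralizer (P : Set G) → ℂ)
        - brauerOmega Q (blockCoeff B) (ξ : Subgroup.centralizer (Q : Set G) → ℂ)) :=
    fun ξ hξ ξ' hξ' =>
      Cfsg.Agent.Lib.Helper81.subpairLE_brauerOmega_congr hM hle hQf.2 hβR
        (Cfsg.Agent.Lib.Helper81.conjInv_of_isClassFunction _ hcls)
        (Cfsg.Agent.Lib.Helper81.conjInv_of_isClassFunction _ hcls) hξ hξ'
  constructor
  · rintro ⟨_, _, h⟩
    refine ⟨hQf, hB, fun ξ hξ => ?_⟩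
    obtain ⟨ξ', hξ'⟩ := Cfsg.Agent.Lib.Helper82.IsPBlock.nonempty hprime hPe.2
    have := Cfsg.Agent.Lib.Helper82.memLocalIdeal_sub hprime (h ξ' hξ') (key ξ hξ ξ' hξ')
    convert this using 1
    ring
  · rintro ⟨_, _, h⟩
    refine ⟨hPe, hB, fun ξ' hξ' => ?_⟩
    obtain ⟨ξ, hξ⟩ := Cfsg.Agent.Lib.Helper82.IsPBlock.nonempty hprime hQf.2
    have := Cfsg.Agent.Lib.Helper82.memLocalIdeal_add hprime (h ξ hξ) (key ξ hξ ξ' hξ')
    convert this using 1
    ring

end Cfsg.Agent.S4658
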