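import Cfsg.Statements.S4657
import Cfsg.Agent.Lib.Helper21.BrauerCorr
import Cfsg.Agent.Lib.Helper83.Decompose
import Cfsg.Agent.Lib.Helper81.DefectBasic

set_option autoImplicit false
open Cfsg

namespace Cfsg.Agent.S4657

open Cfsg.Agent.Lib.Helper21 Cfsg.Agent.Lib.Helper82 Cfsg.Agent.Lib.Helper83

universe u

/-- `brauerOmega` at `P` is `omega` of the truncation to the centralizer -/
theorem brauerOmega_eq_omega {G : Type u} [Group G] [Fintype G] (P : Subgroup G)
    [Fintype (Subgroup.centralizer (P : Set G))] (β : G → ℂ)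
    (ξ : Subgroup.centralizer (P : Set G) → ℂ) :
    brauerOmega P β ξ = omega (resC P (Subgroup.centralizer (P : Set G)) β) ξ := by
  classical
  rw [brauerOmega, finsum_eq_sum_of_fintype, omega, Finset.sum_div]
  apply Finset.sum_congr rfl
  intro x _
  rw [resC_apply, if_pos x.2]

/-- the key: for a Brauer pair `(P, blockOf ξ₀)` there is `χ₁` whose central character is
congruent to the Brauer functional -/
theorem key {G : Type u} [Group G] [Fintype G] [Fintype (IrrCharacter G)] (p : ℕ) [Fact p.Prime]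
    (M : Ideal AlgInt) (hM : IsPModular p M) (P : Subgroup G)
    [Fintype (Subgroup.centralizer (P : Set G))]
    [Fintype (IrrCharacter (Subgroup.centralizer (P : Set G)))]
    (hP : IsPGroup p P) (ξ₀ : IrrCharacter (Subgroup.centralizer (P : Set G))) :
    ∃ χ₁ : IrrCharacter G, ∀ (B : Set (IrrCharacter G)), IsPBlock M B →
      ((∀ ξ ∈ blockOf M (ξ₀ : Subgroup.centralizer (P : Set G) → ℂ), MemLocalIdeal M
        (brauerOmega P (blockCoeff B) (ξ : Subgroup.centralizer (P : Set G) → ℂ) - 1)) ↔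
        χ₁ ∈ B) := by
  classical
  have hprime : M.IsPrime := hM.2.1.isPrime
  obtain ⟨χ₁, hχ₁⟩ := exists_irr_of_isModHom hprime
    (Cfsg.Agent.Lib.Helper81.isModHom_brauer' hM P (Subgroup.centralizer (P : Set G)) hP le_rfl
      (Subgroup.centralizer_le_normalizer _) ξ₀)
  refine ⟨χ₁, ?_⟩
  rintro B ⟨χ₀, rfl⟩
  have hR := blockCoeff_isRClass hprime χ₀
  have h1 := hχ₁ _ hR
  rw [omega_blockCoeff] at h1
  -- all ξ in the block of ξ₀ have congruent values
  have hcong : ∀ ξ ∈ blockOf M (ξ₀ : Subgroup.centralizer (P : Set G) → ℂ), MemLocalIdeal M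
      (omega (resC P (Subgroup.centralizer (P : Set G)) (blockCoeff (blockOf M (χ₀ : G → ℂ))))
          (ξ₀ : Subgroup.centralizer (P : Set G) → ℂ) -
        omega (resC P (Subgroup.centralizer (P : Set G)) (blockCoeff (blockOf M (χ₀ : G → ℂ))))
          (ξ : Subgroup.centralizer (P : Set G) → ℂ)) := by
    intro ξ hξ
    rw [mem_blockOf_iff] at hξ
    exact omega_sub_memLocalIdeal hprime
      (resC_isClassFunction P _ (Subgroup.centralizer_le_normalizer _) hR.1)
      (fun h => resC_memLocalRing P _ hprime hR.2 h) hξ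
  constructor
  · intro h
    have h2 := h ξ₀ (mem_blockOf_self hprime ξ₀)
    rw [brauerOmega_eq_omega] at h2
    by_contra hχ
    rw [if_neg hχ, sub_zero] at h1
    have := memLocalIdeal_sub hprime h1 h2
    rw [sub_sub_cancel] at this
    exact not_memLocalIdeal_one hprime this
  · intro hχ ξ hξ
    rw [if_pos hχ] at h1
    rw [brauerOmega_eq_omega]
    have h3 := hcong ξ hξ
    have := memLocalIdeal_sub hprime h1 h3
    convert this using 1
    ring

/-- Fix a prime p and a maximal ideal M of the algebraic integers containing p. Every Brauer pair (P, e) of the finite group G is a Brauer pair of exactly one p-block B of G. -/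
theorem result {G : Type*} [Group G] [Fintype G] (p : ℕ) [Fact p.Prime] (M : Ideal Cfsg.AlgInt) (hM : Cfsg.IsPModular p M) (P : Subgroup G) (e : Set (Cfsg.IrrCharacter (Subgroup.centralizer (P : Set G)))) (hPe : Cfsg.IsBrauerPair p M P e) : ∃! B : Set (Cfsg.IrrCharacter G), Cfsg.IsBrauerPairOf p M B P e := by
  classical
  haveI : Finite (IrrCharacter G) := irr_finite
  haveI : Fintype (IrrCharacter G) := Fintype.ofFinite _
  haveI : Fintype (Subgroup.centralizer (P : Set G)) := Fintype.ofFinite _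
  haveI : Finite (IrrCharacter (Subgroup.centralizer (P : Set G))) := irr_finite
  haveI : Fintype (IrrCharacter (Subgroup.centralizer (P : Set G))) := Fintype.ofFinite _
  have hprime : M.IsPrime := hM.2.1.isPrime
  obtain ⟨hP, ξ₀, rfl⟩ := hPe
  obtain ⟨χ₁, hχ₁⟩ := key p M hM P hP ξ₀
  refine ⟨blockOf M (χ₁ : G → ℂ), ⟨⟨hP, ξ₀, rfl⟩, ⟨χ₁, rfl⟩, ?_⟩, ?_⟩
  · exact (hχ₁ _ ⟨χ₁, rfl⟩).mpr (mem_blockOf_self hprime χ₁)
  · rintro B ⟨_, hB, hB2⟩
    have hmem := (hχ₁ B hB).mp hB2
    obtain ⟨χ₀, rfl⟩ := hB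
    rw [mem_blockOf_iff] at hmem
    exact blockOf_eq_of_sameBlock hprime hmem

end Cfsg.Agent.S4657
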