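import Cfsg.Statements.S4663
import Cfsg.Agent.Lib.Helper81.ThirdMain
import Cfsg.Agent.S4657
import Cfsg.Agent.Lib.Helper81.DefectBasic

set_option autoImplicit false
open Cfsg

namespace Cfsg.Agent.S4663

/-- Fix a prime p and a maximal ideal M of the algebraic integers containing p. Brauer's Third Main Theorem in the language of Brauer pairs: for the principal p-block B₀ of the finite group G and any p-subgroup Q, a p-block e of C_G(Q) makes (Q, e) a Brauer pair of B₀ if and only if e is the principal p-block of C_G(Q). Equivalently, modulo M the truncation to C_G(Q) of the idempotent of B₀ is the idempotent of the principal block of C_G(Q). -/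
theorem result {G : Type*} [Group G] [Fintype G] (p : ℕ) [Fact p.Prime] (M : Ideal Cfsg.AlgInt) (hM : Cfsg.IsPModular p M) (Q : Subgroup G) (hQ : IsPGroup p Q) (e : Set (Cfsg.IrrCharacter (Subgroup.centralizer (Q : Set G)))) (he : Cfsg.IsPBlock M e) : Cfsg.IsBrauerPairOf p M (Cfsg.principalBlock M G) Q e ↔ e = Cfsg.principalBlock M (Subgroup.centralizer (Q : Set G)) := by
  classical
  open Cfsg.Agent.Lib.Helper21 Cfsg.Agent.Lib.Helper82 Cfsg.Agent.Lib.Helper83
    Cfsg.Agent.Lib.Helper81 in
  have : Finite (IrrCharacter G) := irr_finite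
  have : Fintype (IrrCharacter G) := Fintype.ofFinite _
  have : Fintype (Subgroup.centralizer (Q : Set G)) := Fintype.ofFinite _
  have : Finite (IrrCharacter (Subgroup.centralizer (Q : Set G))) := irr_finite
  have : Fintype (IrrCharacter (Subgroup.centralizer (Q : Set G))) := Fintype.ofFinite _
  have hprime : M.IsPrime := hM.2.1.isPrime
  obtain ⟨ξ₀, rfl⟩ := he
  obtain ⟨χ₁, hχ₁⟩ := exists_irr_of_isModHom hprime
    (Cfsg.Agent.Lib.Helper81.isModHom_brauer' hM Q (Subgroup.centralizer (Q : Set G)) hQ le_rfl
      (Subgroup.centralizer_le_normalizer _) ξ₀)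
  have hfR : IsRClass M (regInd p G) := ⟨regInd_isClassFunction p, regInd_memLocalRing hprime p⟩
  have hfRC : IsRClass M (regInd p (Subgroup.centralizer (Q : Set G))) :=
    ⟨regInd_isClassFunction p, regInd_memLocalRing hprime p⟩
  have hres : resC Q (Subgroup.centralizer (Q : Set G)) (regInd p G)
      = regInd p (Subgroup.centralizer (Q : Set G)) := by
    funext c
    rw [resC_apply, if_pos c.2]
    exact congrFun (regInd_restrict p (Subgroup.centralizer (Q : Set G))) c
  have hreg := hχ₁ _ hfR
  simp only [hres] at hreg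
  have he0R : IsRClass M (blockCoeff (principalBlock M G)) :=
    blockCoeff_isRClass hprime (trivChar G)
  have he0 := hχ₁ _ he0R
  simp only [omega_blockCoeff] at he0
  have hresR : IsRClass M (resC Q (Subgroup.centralizer (Q : Set G))
      (blockCoeff (principalBlock M G))) :=
    ⟨resC_isClassFunction Q _ (Subgroup.centralizer_le_normalizer _) he0R.1,
      fun h => resC_memLocalRing Q _ hprime he0R.2 h⟩
  constructor
  · rintro ⟨_, _, hpair⟩
    have h2 := hpair ξ₀ (mem_blockOf_self hprime ξ₀)
    rw [Cfsg.Agent.S4657.brauerOmega_eq_omega] at h2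
    have hχ₁mem : χ₁ ∈ principalBlock M G := by
      by_contra hnot
      rw [if_neg hnot, sub_zero] at he0
      have := memLocalIdeal_sub hprime he0 h2
      rw [sub_sub_cancel] at this
      exact not_memLocalIdeal_one hprime this
    by_contra hne
    have hξ₀ : ¬ SameBlock M (ξ₀ : Subgroup.centralizer (Q : Set G) → ℂ) (fun _ => (1 : ℂ)) :=
      fun hs => hne (blockOf_eq_of_sameBlock hprime hs)
    rw [omega_regInd_of_not_sameBlock hM ξ₀ hξ₀, zero_sub] at hreg
    have hsame : MemLocalIdeal M (omega (regInd p G) (trivChar G : G → ℂ)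
        - omega (regInd p G) (χ₁ : G → ℂ)) :=
      omega_sub_memLocalIdeal hprime hfR.1 hfR.2 hχ₁mem
    have hsum := memLocalIdeal_sub hprime hsame hreg
    rw [sub_neg_eq_add, sub_add_cancel, omega_regInd_trivChar] at hsum
    exact not_memLocalIdeal_card_pRegular hM hsum
  · intro he
    have hξ₀ : SameBlock M (fun _ => (1 : ℂ))
        (ξ₀ : Subgroup.centralizer (Q : Set G) → ℂ) := by
      have h1 : ξ₀ ∈ blockOf M (ξ₀ : Subgroup.centralizer (Q : Set G) → ℂ) :=
        mem_blockOf_self hprime ξ₀
      rw [he] at h1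
      exact h1
    have hχ₁mem : χ₁ ∈ principalBlock M G := by
      by_contra hnot
      have hns : ¬ SameBlock M (χ₁ : G → ℂ) (fun _ => (1 : ℂ)) :=
        fun hs => hnot (sameBlock_symm hs)
      rw [omega_regInd_of_not_sameBlock hM χ₁ hns, sub_zero] at hreg
      have hsame : MemLocalIdeal M
          (omega (regInd p (Subgroup.centralizer (Q : Set G)))
            (trivChar (Subgroup.centralizer (Q : Set G)) : Subgroup.centralizer (Q : Set G) → ℂ)
          - omega (regInd p (Subgroup.centralizer (Q : Set G)))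
            (ξ₀ : Subgroup.centralizer (Q : Set G) → ℂ)) :=
        omega_sub_memLocalIdeal hprime hfRC.1 hfRC.2 hξ₀
      have hsum := memLocalIdeal_add hprime hsame hreg
      rw [sub_add_cancel, omega_regInd_trivChar] at hsum
      exact not_memLocalIdeal_card_pRegular hM hsum
    rw [if_pos hχ₁mem] at he0
    refine ⟨⟨hQ, ⟨ξ₀, rfl⟩⟩, ⟨trivChar G, rfl⟩, fun ξ hξ => ?_⟩
    rw [Cfsg.Agent.S4657.brauerOmega_eq_omega]
    have hsame := omega_sub_memLocalIdeal hprime hresR.1 hresR.2
      (χ := ξ) (ψ := ξ₀) (sameBlock_symm (mem_blockOf_iff.1 hξ))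
    have hsum := memLocalIdeal_add hprime hsame he0
    rwa [sub_add_sub_cancel] at hsum

end Cfsg.Agent.S4663
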