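import Cfsg.Statements.S4681
import Mathlib
import Cfsg.Agent.S4663
import Cfsg.Agent.S4655
import Cfsg.Agent.S4658
import Cfsg.Agent.Lib.Helper81.BPStep
import Cfsg.Agent.Lib.Helper22.PrincipalSection
import Cfsg.Agent.Lib.Helper22.Covering
import Cfsg.Agent.Lib.Helper84.NormalAction

set_option autoImplicit false
open Cfsg

namespace Cfsg.Agent.S4681

/-- Conjugation by `g` as an isomorphism from the centralizer of `Q` to the centralizer of the
conjugate of `Q`. -/
def centralizerConjEquiv {G : Type*} [Group G] (Q : Subgroup G) (g : G) :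
    Subgroup.centralizer (Q : Set G) ≃*
      Subgroup.centralizer ((Q.map (MulAut.conj g).toMonoidHom : Subgroup G) : Set G) where
  toFun c := ⟨g * (c : G) * g⁻¹, by
    rw [Subgroup.mem_centralizer_iff]
    rintro _ ⟨q, hq, rfl⟩
    have hc := Subgroup.mem_centralizer_iff.1 c.2 q hq
    show (MulAut.conj g) q * (g * (c : G) * g⁻¹) = g * (c : G) * g⁻¹ * (MulAut.conj g) q
    rw [MulAut.conj_apply]
    calc g * q * g⁻¹ * (g * (c : G) * g⁻¹) = g * (q * (c : G)) * g⁻¹ := by group
      _ = g * ((c : G) * q) * g⁻¹ := by rw [hc]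
      _ = g * (c : G) * g⁻¹ * (g * q * g⁻¹) := by group⟩
  invFun c' := ⟨g⁻¹ * (c' : G) * g, by
    rw [Subgroup.mem_centralizer_iff]
    intro q hq
    have hq' : g * q * g⁻¹ ∈ (Q.map (MulAut.conj g).toMonoidHom : Subgroup G) :=
      ⟨q, hq, by simp [MulAut.conj_apply]⟩
    have hc := Subgroup.mem_centralizer_iff.1 c'.2 _ hq'
    calc q * (g⁻¹ * (c' : G) * g) = g⁻¹ * ((g * q * g⁻¹) * (c' : G)) * g := by group
      _ = g⁻¹ * ((c' : G) * (g * q * g⁻¹)) * g := by rw [hc]
      _ = g⁻¹ * (c' : G) * g * q := by group⟩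
  left_inv c := by
    apply Subtype.ext
    show g⁻¹ * (g * (c : G) * g⁻¹) * g = (c : G)
    group
  right_inv c := by
    apply Subtype.ext
    show g * (g⁻¹ * (c : G) * g) * g⁻¹ = (c : G)
    group
  map_mul' a b := by
    apply Subtype.ext
    show g * ((a : G) * (b : G)) * g⁻¹ = (g * (a : G) * g⁻¹) * (g * (b : G) * g⁻¹)
    group

/-- Composition with a group isomorphism preserves membership in the principal block. -/
theorem mem_principalBlock_comp_iff {H K : Type*} [Group H] [Group K] (M : Ideal Cfsg.AlgInt)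
    (ψ : H ≃* K) (ξ : K → ℂ) :
    Cfsg.SameBlock M (fun _ : H => (1 : ℂ)) (fun h => ξ (ψ h)) ↔
      Cfsg.SameBlock M (fun _ : K => (1 : ℂ)) ξ := by
  constructor
  · intro h k
    obtain ⟨c, rfl⟩ := ψ.surjective k
    have h1 : Cfsg.MemLocalIdeal M
        (Cfsg.centralChar (fun x : H => (fun _ : K => (1 : ℂ)) (ψ x)) c -
          Cfsg.centralChar (fun x : H => ξ (ψ x)) c) := h c
    rw [Cfsg.Agent.Lib.Helper22.centralChar_comp_mulEquiv ψ ξ c,
      Cfsg.Agent.Lib.Helper22.centralChar_comp_mulEquiv ψ (fun _ : K => (1 : ℂ)) c] at h1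
    exact h1
  · intro h c
    have h1 := h (ψ c)
    rw [← Cfsg.Agent.Lib.Helper22.centralChar_comp_mulEquiv ψ ξ c,
      ← Cfsg.Agent.Lib.Helper22.centralChar_comp_mulEquiv ψ (fun _ : K => (1 : ℂ)) c] at h1
    exact h1

/-- The conjugate of the principal block of a centralizer is the principal block of the
centralizer of the conjugate. -/
theorem conjBlock_principalBlock {G : Type*} [Group G] [Finite G] (M : Ideal Cfsg.AlgInt)
    (Q : Subgroup G) (g : G) :
    Cfsg.conjBlock Q g (Cfsg.principalBlock M (Subgroup.centralizer (Q : Set G))) =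
      Cfsg.principalBlock M
        (Subgroup.centralizer ((Q.map (MulAut.conj g).toMonoidHom : Subgroup G) : Set G)) := by
  let ψ := centralizerConjEquiv Q g
  ext ξ'
  constructor
  · rintro ⟨ξ, hξ, hconj⟩
    have hfun : (fun c : Subgroup.centralizer (Q : Set G) => ξ'.1 (ψ c)) = ξ.1 := by
      funext c
      exact hconj c (ψ c) rfl
    have h1 : Cfsg.SameBlock M (fun _ : Subgroup.centralizer (Q : Set G) => (1 : ℂ))
        (fun c : Subgroup.centralizer (Q : Set G) => ξ'.1 (ψ c)) := by
      rw [hfun]; exact hξ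
    exact (mem_principalBlock_comp_iff M ψ ξ'.1).1 h1
  · intro hξ'
    have hirr : Cfsg.IsIrrCharacter (Subgroup.centralizer (Q : Set G))
        (fun c : Subgroup.centralizer (Q : Set G) => ξ'.1 (ψ c)) :=
      Cfsg.Agent.Lib.Helper84.isIrrCharacter_comp_mulEquiv ψ ξ'.2
    have hmem : Cfsg.SameBlock M (fun _ : Subgroup.centralizer (Q : Set G) => (1 : ℂ))
        (fun c : Subgroup.centralizer (Q : Set G) => ξ'.1 (ψ c)) :=
      (mem_principalBlock_comp_iff M ψ ξ'.1).2 hξ'
    refine ⟨⟨_, hirr⟩, hmem, ?_⟩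
    intro c c' hcc'
    show ξ'.1 c' = ξ'.1 (ψ c)
    have hc : c' = ψ c := Subtype.ext hcc'
    rw [hc]

/-- Fix a prime p and a maximal ideal M of the algebraic integers containing p. Let B₀ be the principal p-block of the finite group G, P a Sylow p-subgroup and e₀ the principal p-block of C_G(P). Then (P, e₀) is a maximal Brauer pair of B₀, and the fusion system of B₀ on (P, e₀) is the fusion system of G on P: its maps from each subgroup of P are exactly the conjugation maps into P by elements of G. -/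
theorem result {G : Type*} [Group G] [Fintype G] (p : ℕ) [Fact p.Prime] (M : Ideal Cfsg.AlgInt) (hM : Cfsg.IsPModular p M) (S : Sylow p G) : Cfsg.IsMaximalBrauerPair p M (Cfsg.principalBlock M G) (S : Subgroup G) (Cfsg.principalBlock M (Subgroup.centralizer ((S : Subgroup G) : Set G))) ∧ ∀ F : Cfsg.FusionSystem (S : Subgroup G), Cfsg.IsBlockFusionSystemOn p M (Cfsg.principalBlock M G) (S : Subgroup G) (Cfsg.principalBlock M (Subgroup.centralizer ((S : Subgroup G) : Set G))) F → ∀ Q : Subgroup G, F.Hom Q = (Cfsg.groupFusionSystem (S : Subgroup G)).Hom Q := by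
  classical
  have hB0 := Cfsg.Agent.Lib.Helper22.isPBlock_principalBlock M G
  have he0 := Cfsg.Agent.Lib.Helper22.isPBlock_principalBlock M
    (Subgroup.centralizer ((S : Subgroup G) : Set G))
  have hPe : Cfsg.IsBrauerPair p M (S : Subgroup G)
      (Cfsg.principalBlock M (Subgroup.centralizer ((S : Subgroup G) : Set G))) := ⟨S.2, he0⟩
  have hpair : Cfsg.IsBrauerPairOf p M (Cfsg.principalBlock M G) (S : Subgroup G)
      (Cfsg.principalBlock M (Subgroup.centralizer ((S : Subgroup G) : Set G))) :=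
    (Cfsg.Agent.S4663.result p M hM (S : Subgroup G) S.2 _ he0).2 rfl
  -- subpairs of the maximal pair are principal
  have hsub : ∀ Q : Subgroup G, Q ≤ (S : Subgroup G) →
      Cfsg.SubpairLE p M Q (Cfsg.principalBlock M (Subgroup.centralizer (Q : Set G)))
        (S : Subgroup G)
        (Cfsg.principalBlock M (Subgroup.centralizer ((S : Subgroup G) : Set G))) := by
    intro Q hQS
    have hQ : IsPGroup p Q := S.2.to_le hQS
    obtain ⟨f, ⟨hf, hle⟩, _⟩ := Cfsg.Agent.S4655.result p M hM (S : Subgroup G) Q _ hPe hQS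
    have h1 := (Cfsg.Agent.S4658.result p M hM (S : Subgroup G) Q _ f hPe ⟨hQ, hf⟩ hle
      (Cfsg.principalBlock M G) hB0).1 hpair
    have h2 := (Cfsg.Agent.S4663.result p M hM Q hQ f hf).1 h1
    rw [← h2]
    exact hle
  refine ⟨⟨hpair, ?_⟩, ?_⟩
  · intro R g hRg hle
    have hSR : (S : Subgroup G) ≤ R := Cfsg.Agent.Lib.Helper81.subpairLE_le hM hle he0
    exact S.is_maximal' hRg.1.1 hSR
  · intro F hF Q
    ext φ
    rw [hF.2 Q φ]
    constructor
    · rintro ⟨hQS, g, hφ, hmap, _⟩
      refine ⟨hQS, fun x => ?_, g, hφ⟩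
      apply hmap
      refine ⟨(x : G), x.2, ?_⟩
      rw [hφ x]
      simp [MulAut.conj_apply]
    · rintro ⟨hQS, hφS, g, hφ⟩
      have hmap : Q.map (MulAut.conj g).toMonoidHom ≤ (S : Subgroup G) := by
        rintro _ ⟨x, hx, rfl⟩
        have := hφS ⟨x, hx⟩
        rw [hφ ⟨x, hx⟩] at this
        simpa [MulAut.conj_apply] using this
      refine ⟨hQS, g, hφ, hmap,
        Cfsg.principalBlock M (Subgroup.centralizer (Q : Set G)), hsub Q hQS, ?_⟩
      rw [conjBlock_principalBlock M Q g]
      exact hsub _ hmap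

end Cfsg.Agent.S4681
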