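-- Statement S0965
import Cfsg.Statements.S0965
import Cfsg.Agent.Lib.Helper22.Covering
import Cfsg.Agent.Lib.Helper22.BlockQuot
import Cfsg.Agent.Lib.Helper83.Decompose

set_option autoImplicit false
open Cfsg

namespace Cfsg.Agent.S0965

open Cfsg.Agent.Lib.Helper22 Cfsg.Agent.Lib.Helper82 Cfsg.Agent.Lib.Helper83
open Cfsg.Agent.Lib.Helper85

/-- A nonzero character has an irreducible constituent. -/
theorem exists_constituent {H : Type*} [Group H] [Fintype H] {φ : H → ℂ}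
    (hφ : Cfsg.IsCharacter H φ) (h1 : φ 1 ≠ 0) :
    ∃ ψ : Cfsg.IrrCharacter H, Cfsg.classInner φ (ψ : H → ℂ) ≠ 0 := by
  classical
  let _ : Fintype (IrrCharacter H) := Fintype.ofFinite _
  by_contra hcon
  push Not at hcon
  have hexp := char_eq_sum_irrMult hφ
  have hz : ∀ ψ : IrrCharacter H, (irrMult φ ψ : ℂ) = 0 := by
    intro ψ
    rw [irrMult_cast hφ, hcon ψ]
  apply h1
  rw [hexp]
  simp [hz]

/-- The induced central characters of two characters of `N` in the same block are congruent. -/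
theorem iCC_sub_mem {G : Type*} [Group G] [Fintype G] {M : Ideal Cfsg.AlgInt} (hmax : M.IsMaximal)
    (N : Subgroup G) [N.Normal] [Fintype N] (θ θ' : Cfsg.IrrCharacter N)
    (hsb : Cfsg.SameBlock M (θ : N → ℂ) (θ' : N → ℂ)) (x : G) :
    Cfsg.MemLocalIdeal M (Cfsg.inducedCentralChar N (θ : N → ℂ) x -
      Cfsg.inducedCentralChar N (θ' : N → ℂ) x) := by
  classical
  unfold Cfsg.inducedCentralChar
  rw [Cfsg.Agent.S0932.finsum_mem_eq_sum_ite, Cfsg.Agent.S0932.finsum_mem_eq_sum_ite,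
    ← Finset.sum_sub_distrib]
  have := sum_stable_mem hmax (θ : N → ℂ) (θ' : N → ℂ) (isCharacter_of_irr θ.2)
    (isCharacter_of_irr θ'.2) hsb
    (Finset.univ.filter (fun h : N => IsConj x (h : G)))
    (by
      intro h hh k
      simp only [Finset.mem_filter, Finset.mem_univ, true_and] at hh ⊢
      refine hh.trans ?_
      rw [isConj_iff]
      exact ⟨(k : G), by simp⟩)
  rw [Finset.sum_filter] at this
  convert this using 1
  apply Finset.sum_congr rfl
  intro h _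
  simp only [Set.mem_ofPred_eq]
  split_ifs <;> simp

theorem result {G : Type*} [Group G] [Fintype G] (p : ℕ) [Fact p.Prime] (M : Ideal Cfsg.AlgInt) (hM : Cfsg.IsPModular p M) (N : Subgroup G) [N.Normal] [Fintype N] (B : Set (Cfsg.IrrCharacter G)) (hB : Cfsg.IsPBlock M B) (b : Set (Cfsg.IrrCharacter N)) (hb : Cfsg.IsPBlock M b) : (∃ χ ∈ B, ∃ θ ∈ b, Cfsg.classInner (fun n : N => (χ : G → ℂ) n) (θ : N → ℂ) ≠ 0) ↔ ∀ χ ∈ B, ∀ θ ∈ b, ∀ n : N, Cfsg.MemLocalIdeal M (Cfsg.centralChar (χ : G → ℂ) (n : G) - Cfsg.inducedCentralChar N (θ : N → ℂ) (n : G)) := by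
  have hN : N.Normal := inferInstance
  have hmax : M.IsMaximal := hM.2.1
  have hprime : M.IsPrime := hmax.isPrime
  constructor
  · rintro ⟨χ₀, hχ₀, θ₀, hθ₀, hcon⟩ χ hχ θ hθ n
    have h1 := (Cfsg.Agent.S0963.result N χ₀ θ₀).1 hcon n
    have h2 : Cfsg.MemLocalIdeal M (Cfsg.centralChar (χ : G → ℂ) (n : G) -
        Cfsg.centralChar (χ₀ : G → ℂ) (n : G)) := IsPBlock.sameBlock hprime hB hχ hχ₀ n
    have h3 := iCC_sub_mem hmax N θ₀ θ (IsPBlock.sameBlock hprime hb hθ₀ hθ) (n : G)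
    have h4 := memLocalIdeal_add hprime h2 h3
    rw [h1] at h4
    convert h4 using 1
    ring
  · intro hyp
    obtain ⟨χ, hχ⟩ := IsPBlock.nonempty hprime hB
    obtain ⟨θ, hθ⟩ := IsPBlock.nonempty hprime hb
    have hres : Cfsg.IsCharacter N (fun n : N => (χ : G → ℂ) n) :=
      isCharacter_restrict N (isCharacter_of_irr χ.2)
    obtain ⟨ψ, hψ⟩ := exists_constituent hres (irr_degree_ne_zero χ)
    have h1 := (Cfsg.Agent.S0963.result N χ ψ).1 hψ
    have hmem : ψ ∈ conjSet hN b := by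
      apply mem_conjSet_of_iCC hN hmax hb hθ ψ
      intro n
      rw [← h1 n]
      exact hyp χ hχ θ hθ n
    obtain ⟨g, θ', hθ', rfl⟩ := hmem
    refine ⟨χ, hχ, θ', hθ', ?_⟩
    have h2 := classInner_restrict_conjFun hN (char_isClassFunction (isCharacter_of_irr χ.2))
      (θ' : N → ℂ) g
    rw [← h2]
    exact hψ

end Cfsg.Agent.S0965
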