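-- Statement S0966
import Cfsg.Statements.S0966
import Cfsg.Agent.S0965
import Cfsg.Agent.Lib.Helper22.BlockRegular

set_option autoImplicit false
open Cfsg

namespace Cfsg.Agent.S0966

open Cfsg.Agent.Lib.Helper22 Cfsg.Agent.Lib.Helper82 Cfsg.Agent.Lib.Helper83

theorem result {G : Type*} [Group G] [Fintype G] (p : ℕ) [Fact p.Prime] (M : Ideal Cfsg.AlgInt) (hM : Cfsg.IsPModular p M) (N : Subgroup G) [N.Normal] [Fintype N] (hidx : ∃ k : ℕ, N.index = p ^ k) (b : Set (Cfsg.IrrCharacter N)) (hb : Cfsg.IsPBlock M b) : ∃! B : Set (Cfsg.IrrCharacter G), Cfsg.IsPBlock M B ∧ ∃ χ ∈ B, ∃ θ ∈ b, Cfsg.classInner (fun n : N => (χ : G → ℂ) n) (θ : N → ℂ) ≠ 0 := by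
  have hprime : M.IsPrime := hM.2.1.isPrime
  obtain ⟨k, hk⟩ := hidx
  obtain ⟨θ, hθ⟩ := IsPBlock.nonempty hprime hb
  obtain ⟨χ, hχ⟩ := exists_irr_over N θ
  have hB : Cfsg.IsPBlock M (Cfsg.blockOf M (χ : G → ℂ)) := isPBlock_blockOf χ
  have hχB : χ ∈ Cfsg.blockOf M (χ : G → ℂ) := mem_blockOf_self hprime χ
  refine ⟨Cfsg.blockOf M (χ : G → ℂ), ⟨hB, χ, hχB, θ, hθ, hχ⟩, ?_⟩
  rintro B' ⟨hB', χ', hχ', θ', hθ', hcon'⟩
  have h1 := (Cfsg.Agent.S0965.result p M hM N _ hB b hb).1 ⟨χ, hχB, θ, hθ, hχ⟩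
  have h2 := (Cfsg.Agent.S0965.result p M hM N _ hB' b hb).1 ⟨χ', hχ', θ', hθ', hcon'⟩
  have hsb : Cfsg.SameBlock M (χ : G → ℂ) (χ' : G → ℂ) := by
    apply sameBlock_of_forall_regular hM
    intro g hg
    have hgN : g ∈ N := mem_of_regular_of_index N hk hg
    have h3 := h1 χ hχB θ hθ ⟨g, hgN⟩
    have h4 := h2 χ' hχ' θ hθ ⟨g, hgN⟩
    have h5 := memLocalIdeal_sub hprime h3 h4
    convert h5 using 1
    ring
  rw [IsPBlock.eq_blockOf hprime hB' hχ']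
  exact (blockOf_eq_of_sameBlock hprime hsb).symm

end Cfsg.Agent.S0966
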