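import Cfsg.Statements.S0856
import Cfsg.Agent.Lib.Helper84.Gallagher

set_option autoImplicit false
open Cfsg

namespace Cfsg.Agent.S0856

/-- Let N be a normal subgroup of the finite group G and φ, ϑ irreducible characters of N that are invariant under conjugation by G, such that the pointwise product φ * ϑ is irreducible and ϑ is the restriction of an irreducible character χ of G. Then multiplication by χ is a bijection from the set of irreducible characters of G having nonzero inner product with the function induced from φ onto the set of those having nonzero inner product with the function induced from φ * ϑ. -/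
theorem result {G : Type*} [Group G] [Fintype G] (N : Subgroup G) [hN : N.Normal] (φ ϑ : N → ℂ) (hφ : Cfsg.IsIrrCharacter N φ) (hϑ : Cfsg.IsIrrCharacter N ϑ) (hφinv : ∀ (g : G) (n : N), φ ⟨g * n * g⁻¹, hN.conj_mem (n : G) n.2 g⟩ = φ n) (hϑinv : ∀ (g : G) (n : N), ϑ ⟨g * n * g⁻¹, hN.conj_mem (n : G) n.2 g⟩ = ϑ n) (hprod : Cfsg.IsIrrCharacter N (φ * ϑ)) (χ : G → ℂ) (hχ : Cfsg.IsIrrCharacter G χ) (hext : ∀ n : N, χ n = ϑ n) : Set.BijOn (fun β : G → ℂ => β * χ) {β : G → ℂ | Cfsg.IsIrrCharacter G β ∧ Cfsg.classInner (Cfsg.indFun N φ) β ≠ 0} {ψ : G → ℂ | Cfsg.IsIrrCharacter G ψ ∧ Cfsg.classInner (Cfsg.indFun N (φ * ϑ)) ψ ≠ 0} := by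
  classical
  have : Fintype (IrrCharacter G) := Fintype.ofFinite _
  have hφinv' : ∀ g : G, Cfsg.Agent.Lib.Helper84.conjFun N g φ = φ := fun g => funext (hφinv g)
  have hχc := Cfsg.Agent.Lib.Helper83.isCharacter_of_irr hχ
  have hΦ : IsCharacter G (indFun N φ) :=
    Cfsg.Agent.Lib.Helper34.isCharacter_indFun N (Cfsg.Agent.Lib.Helper83.isCharacter_of_irr hφ)
  obtain ⟨h1, h2, h3⟩ := Cfsg.Agent.Lib.Helper84.gallagher_general N hφ hφinv' hprod hχc hext
  have hmul : ∀ β : IrrCharacter G, Cfsg.classInner (Cfsg.indFun N φ) (β : G → ℂ) ≠ 0 →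
      Cfsg.Agent.Lib.Helper83.irrMult (indFun N φ) β ≠ 0 := by
    intro β hβ h0
    apply hβ
    rw [← Cfsg.Agent.Lib.Helper83.irrMult_cast hΦ β, h0, Nat.cast_zero]
  refine ⟨?_, ?_, ?_⟩
  · rintro β ⟨hβ, hβne⟩
    have hm := hmul ⟨β, hβ⟩ hβne
    refine ⟨h1 ⟨β, hβ⟩ hm, ?_⟩
    have := Cfsg.Agent.Lib.Helper84.gallagher_mult N hφ hφinv' hprod hχc hext ⟨β, hβ⟩ hm
    change Cfsg.classInner (Cfsg.indFun N (φ * ϑ)) (β * χ) ≠ 0
    rw [this]
    exact_mod_cast hm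
  · rintro β ⟨hβ, hβne⟩ γ ⟨hγ, hγne⟩ heq
    have := h2 ⟨β, hβ⟩ ⟨γ, hγ⟩ (hmul ⟨β, hβ⟩ hβne) (hmul ⟨γ, hγ⟩ hγne) heq
    exact congrArg Subtype.val this
  · rintro ψ ⟨hψ, hψne⟩
    obtain ⟨β, hm, hβ⟩ := Cfsg.Agent.Lib.Helper84.gallagher_surj N hφ hφinv' hprod hχc hext hψ hψne
    refine ⟨β.1, ⟨β.2, ?_⟩, hβ.symm⟩
    rw [← Cfsg.Agent.Lib.Helper83.irrMult_cast hΦ β]
    exact_mod_cast hm

end Cfsg.Agent.S0856
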