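import Cfsg.Statements.S0042
-- import your own Cfsg.Agent.* helpers here

import Cfsg.Agent.S0108
import Cfsg.Agent.S0035
import Cfsg.Agent.Lib.Helper15.FPFMain

set_option autoImplicit false
open Cfsg

namespace Cfsg.Agent.S0042

open Cfsg.Agent.Lib.Helper15
open scoped Pointwise

universe u

theorem thompsonNPC_holds' : ThompsonNPC.{u} :=
  fun _ _ _ _ _ hp2 P h1 h2 => (Cfsg.Agent.S0108.result hp2 P).mpr ⟨h1, h2⟩

theorem conj_iterate {G : Type u} [Group G] (h : G) (k : ℕ) (g : G) :
    (⇑(MulAut.conj h).toMonoidHom)^[k] g = h ^ k * g * (h ^ k)⁻¹ := by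
  induction k generalizing g with
  | zero => simp
  | succ k ih =>
    rw [Function.iterate_succ_apply, ih, pow_succ]
    simp only [MulEquiv.coe_toMonoidHom, MulAut.conj_apply]
    group

/-- In a finite Frobenius group, the Frobenius kernel is (the carrier of) a normal subgroup which is nilpotent. -/
theorem result {G : Type*} [Group G] [Finite G] (H : Subgroup G) (hH : Cfsg.IsFrobeniusComplement H) :
    ∃ N : Subgroup G, (N : Set G) = Cfsg.frobeniusKernel H ∧ N.Normal ∧ Group.IsNilpotent N := by
  obtain ⟨N, hNK, hNn, -⟩ := Cfsg.Agent.S0035.result H hH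
  refine ⟨N, hNK, hNn, ?_⟩
  obtain ⟨hHbot, -, hHfrob⟩ := hH
  -- an element of prime order in H
  have hcard : Nat.card H ≠ 1 := fun h1 => hHbot (Subgroup.card_eq_one.mp h1)
  obtain ⟨q, hq, hqdvd⟩ := Nat.exists_prime_and_dvd hcard
  have : Fact q.Prime := ⟨hq⟩
  obtain ⟨h, hh⟩ := exists_prime_orderOf_dvd_card' q hqdvd
  have hh' : orderOf (h : G) = q := by rw [Subgroup.orderOf_coe]; exact hh
  have hne : (h : G) ≠ 1 := by
    intro h1
    rw [h1, orderOf_one] at hh'
    exact hq.one_lt.ne hh'
  let c : G →* G := (MulAut.conj (h : G)).toMonoidHom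
  have hst : Stable c N := fun x hx => hNn.conj_mem x hx h
  have hfp : IsFpfPer q (resHom c N hst) := by
    constructor
    · intro x hx
      have hx' : (h : G) * x * (h : G)⁻¹ = x := congrArg Subtype.val hx
      by_contra hx1
      have hx1' : (x : G) ≠ 1 := fun h0 => hx1 (Subtype.ext h0)
      have hxK : (x : G) ∈ Cfsg.frobeniusKernel H := by rw [← hNK]; exact x.2
      rcases hxK with h0 | h0
      · exact hx1' h0
      · have hxH : (x : G) ∉ H := by
          intro hxH
          apply h0 1
          rw [map_one, one_smul]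
          exact hxH
        have hbot := hHfrob x hxH
        have hmem : (h : G) ∈ H ⊓ (MulAut.conj (x : G) • H) := by
          refine ⟨h.2, ?_⟩
          show (h : G) ∈ MulAut.conj (x : G) • H
          rw [Subgroup.mem_smul_pointwise_iff_exists]
          refine ⟨h, h.2, ?_⟩
          rw [MulAut.smul_def, MulAut.conj_apply]
          calc (x : G) * h * (x : G)⁻¹ = ((h : G) * x * (h : G)⁻¹)⁻¹⁻¹ * h * (x : G)⁻¹ := by
                rw [hx', inv_inv]
            _ = (h : G) := by group
        rw [hbot, Subgroup.mem_bot] at hmem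
        exact hne hmem
    · intro x
      apply Subtype.ext
      rw [resHom_iterate, conj_iterate, ← hh', pow_orderOf_eq_one]
      simp
  exact nilpotent_of_fpf thompsonNPC_holds' hq _ N rfl (resHom c N hst) hfp

end Cfsg.Agent.S0042
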