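import Cfsg.Statements.S3993
import Mathlib

set_option autoImplicit false
open Cfsg

namespace Cfsg.Agent.S3993

universe u

/-- The Frobenius property for a single group. -/
def Frob (G : Type u) [Group G] : Prop :=
  ∀ m : ℕ, m ∣ Nat.card G → m ∣ Nat.card {g : G // g ^ m = 1}

lemma frob_gcd {G : Type u} [Group G] [Finite G] (h : Frob G) (m : ℕ) :
    Nat.gcd m (Nat.card G) ∣ Nat.card {g : G // g ^ m = 1} := by
  have h1 := h (Nat.gcd m (Nat.card G)) (Nat.gcd_dvd_right _ _)
  have h2 : ∀ g : G, g ^ (Nat.gcd m (Nat.card G)) = 1 ↔ g ^ m = 1 := by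
    intro g
    rw [pow_gcd_eq_one]
    exact ⟨fun h => h.1, fun h => ⟨h, pow_card_eq_one'⟩⟩
  rwa [Nat.card_congr (Equiv.subtypeEquivRight h2)] at h1

/-- Counting `m`-th roots of unity in a quotient by a central subgroup of order prime to `m`. -/
lemma card_quot_eq {G : Type u} [Group G] [Finite G] (Z : Subgroup G) [Z.Normal]
    (hZ : Z ≤ Subgroup.center G) (m : ℕ) (hcop : (Nat.card Z).Coprime m) :
    Nat.card {w : G ⧸ Z // w ^ m = 1} = Nat.card {z : G // z ^ m = 1} := by
  symm
  refine Nat.card_congr (Equiv.ofBijective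
    (fun z => ⟨QuotientGroup.mk z.1, by rw [← QuotientGroup.mk_pow, z.2]; rfl⟩) ⟨?_, ?_⟩)
  · rintro ⟨z, hz⟩ ⟨z', hz'⟩ h
    simp only [Subtype.mk.injEq] at h ⊢
    rw [QuotientGroup.eq] at h
    set c := z⁻¹ * z' with hc
    have hcZ : c ∈ Subgroup.center G := hZ h
    have hz'c : z' = z * c := by rw [hc]; group
    have hcm : c ^ m = 1 := by
      have : (z * c) ^ m = z ^ m * c ^ m :=
        (Commute.mul_pow ((Subgroup.mem_center_iff.1 hcZ z)) m)
      rw [← hz'c, hz', hz, one_mul] at this
      exact this.symm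
    have hcq : c ^ Nat.card Z = 1 :=
      orderOf_dvd_iff_pow_eq_one.1 (Subgroup.orderOf_dvd_natCard Z h)
    have : c ^ (Nat.gcd (Nat.card Z) m) = 1 := pow_gcd_eq_one.2 ⟨hcq, hcm⟩
    rw [hcop.gcd_eq_one, pow_one] at this
    rw [hz'c, this, mul_one]
  · rintro ⟨w, hw⟩
    induction w using QuotientGroup.induction_on with
    | H z₀ =>
      rw [← QuotientGroup.mk_pow, QuotientGroup.eq_one_iff] at hw
      obtain ⟨c, hc⟩ := (powCoprime hcop).surjective (⟨z₀ ^ m, hw⟩⁻¹ : Z)
      have hc' : (c : G) ^ m = (z₀ ^ m)⁻¹ := by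
        have := congrArg Subtype.val hc
        simpa using this
      have hcc : (c : G) ∈ Subgroup.center G := hZ c.2
      refine ⟨⟨z₀ * c, ?_⟩, ?_⟩
      · rw [Commute.mul_pow ((Subgroup.mem_center_iff.1 hcc z₀)) m, hc', mul_inv_cancel]
      · simp only [Subtype.mk.injEq]
        rw [QuotientGroup.eq]
        simp

lemma centralizer_eq_comap {G : Type u} [Group G] (y₀ : G) :
    Subgroup.centralizer {y₀} =
      (MulAction.stabilizer (ConjAct G) y₀).comap (ConjAct.toConjAct (G := G)).toMonoidHom := by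
  ext k
  simp only [Subgroup.mem_centralizer_iff, Set.mem_singleton_iff, forall_eq, Subgroup.mem_comap,
    MulAction.mem_stabilizer_iff]
  rw [eq_comm]
  exact Iff.symm mul_inv_eq_iff_eq_mul

lemma card_conj_eq_index {G : Type u} [Group G] [Fintype G] [DecidableEq (ConjClasses G)] (y₀ : G) :
    (Finset.univ.filter (fun y : G => ConjClasses.mk y = ConjClasses.mk y₀)).card =
      (Subgroup.centralizer {y₀}).index := by
  classical
  rw [centralizer_eq_comap,
    Subgroup.index_comap_of_surjective _ (ConjAct.toConjAct (G := G)).surjective,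
    MulAction.index_stabilizer, ConjAct.orbit_eq_carrier_conjClasses,
    Set.ncard_eq_toFinset_card']
  congr 1
  ext y
  simp [ConjClasses.mem_carrier_iff_mk_eq]

/-- Class-function sum divisibility. -/
lemma class_sum_dvd {G : Type u} [Group G] [Fintype G] (g : G → ℕ) (m : ℕ)
    (hconj : ∀ t y : G, g (t * y * t⁻¹) = g y)
    (hdvd : ∀ y : G, m ∣ (Subgroup.centralizer {y}).index * g y) :
    m ∣ ∑ y : G, g y := by
  classical
  rw [← Finset.sum_fiberwise (s := Finset.univ) (g := ConjClasses.mk) (f := g)]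
  apply Finset.dvd_sum
  intro c _
  induction c using Quotient.inductionOn with
  | h y₀ =>
    have hc : ∀ y ∈ Finset.univ.filter (fun y : G => ConjClasses.mk y = ConjClasses.mk y₀),
        g y = g y₀ := by
      intro y hy
      rw [Finset.mem_filter, ConjClasses.mk_eq_mk_iff_isConj, isConj_comm, isConj_iff] at hy
      obtain ⟨t, ht⟩ := hy.2
      rw [← ht, hconj]
    change m ∣ ∑ y ∈ Finset.univ.filter (fun y : G => ConjClasses.mk y = ConjClasses.mk y₀), g y
    rw [Finset.sum_congr rfl hc, Finset.sum_const, smul_eq_mul, card_conj_eq_index]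
    exact hdvd y₀


lemma card_gens {G : Type u} [Group G] [Fintype G] (x₀ : G)
    [DecidablePred fun x : G => Subgroup.zpowers x = Subgroup.zpowers x₀] :
    (Finset.univ.filter (fun x : G => Subgroup.zpowers x = Subgroup.zpowers x₀)).card
      = Nat.totient (orderOf x₀) := by
  classical
  set Z := Subgroup.zpowers x₀ with hZ
  have h1 := IsCyclic.card_orderOf_eq_totient (α := Z) (d := Fintype.card Z) dvd_rfl
  have h2 : Fintype.card Z = orderOf x₀ := Fintype.card_zpowers
  rw [← h2, ← h1, ← Finset.card_image_of_injective _ Subtype.val_injective]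
  congr 1
  ext x
  simp only [Finset.mem_filter, Finset.mem_univ, true_and, Finset.mem_image]
  constructor
  · intro hx
    have hxZ : x ∈ Z := by rw [hZ, ← hx]; exact Subgroup.mem_zpowers x
    refine ⟨⟨x, hxZ⟩, ?_, rfl⟩
    rw [Subgroup.orderOf_mk, ← Nat.card_zpowers, hx, Nat.card_eq_fintype_card]
  · rintro ⟨a, ha, rfl⟩
    apply Subgroup.eq_of_le_of_card_ge
    · rw [Subgroup.zpowers_le]; exact a.2
    · have : Nat.card (Subgroup.zpowers (a : G)) = Nat.card Z := by
        rw [Nat.card_zpowers, Subgroup.orderOf_coe, ha, Nat.card_eq_fintype_card]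
      exact this.ge

/-- `p ^ a` divides `φ(d)` as soon as `p ^ (a+1)` divides `d`. -/
lemma pow_dvd_totient {p a d : ℕ} (hp : p.Prime) (h : p ^ (a + 1) ∣ d) : p ^ a ∣ Nat.totient d := by
  have h1 : Nat.totient (p ^ (a + 1)) ∣ Nat.totient d := Nat.totient_dvd_of_dvd h
  rw [Nat.totient_prime_pow_succ hp] at h1
  exact (Dvd.intro _ rfl).trans h1

/-- A set of group elements determined by the order, all orders divisible by `p^(a+1)`, has size
divisible by `p^a`. -/
lemma pow_dvd_card_of_order {G : Type u} [Group G] [Fintype G] {p a : ℕ} (hp : p.Prime)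
    (P : ℕ → Prop) [DecidablePred P] (hP : ∀ d, P d → p ^ (a + 1) ∣ d) :
    p ^ a ∣ (Finset.univ.filter (fun x : G => P (orderOf x))).card := by
  classical
  rw [Finset.card_eq_sum_card_fiberwise (f := fun x : G => Subgroup.zpowers x) (t := Finset.univ)
    (fun _ _ => Finset.mem_univ _)]
  apply Finset.dvd_sum
  intro Z _
  by_cases hne : ((Finset.univ.filter (fun x : G => P (orderOf x))).filter
      (fun x => Subgroup.zpowers x = Z)).Nonempty
  · obtain ⟨x₀, hx₀⟩ := hne
    simp only [Finset.mem_filter, Finset.mem_univ, true_and] at hx₀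
    have : (Finset.univ.filter (fun x : G => P (orderOf x))).filter
        (fun x => Subgroup.zpowers x = Z) =
        Finset.univ.filter (fun x : G => Subgroup.zpowers x = Subgroup.zpowers x₀) := by
      ext x
      simp only [Finset.mem_filter, Finset.mem_univ, true_and]
      constructor
      · rintro ⟨_, h⟩; rw [h, hx₀.2]
      · intro h
        refine ⟨?_, by rw [h, hx₀.2]⟩
        have : orderOf x = orderOf x₀ := by rw [← Nat.card_zpowers, h, Nat.card_zpowers]
        rw [this]; exact hx₀.1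
    rw [this, card_gens]
    exact pow_dvd_totient hp (hP _ hx₀.1)
  · rw [Finset.not_nonempty_iff_eq_empty] at hne
    rw [hne, Finset.card_empty]
    exact dvd_zero _


/-- number-theoretic core of part (i) -/
lemma pow_succ_dvd_of {p a m d : ℕ} (hp : p.Prime) (hpm : ¬ p ∣ m)
    (h1 : d ∣ p ^ (a + 1) * m) (h2 : ¬ d ∣ p ^ a * m) : p ^ (a + 1) ∣ d := by
  have hcop : Nat.Coprime (p ^ (a + 1)) m :=
    Nat.Coprime.pow_left _ ((Nat.Prime.coprime_iff_not_dvd hp).2 hpm)
  have hd : d = Nat.gcd d (p ^ (a + 1)) * Nat.gcd d m := by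
    rw [← Nat.Coprime.gcd_mul d hcop, Nat.gcd_eq_left h1]
  obtain ⟨b, hb, hb'⟩ := (Nat.dvd_prime_pow hp).1 (Nat.gcd_dvd_right d (p ^ (a + 1)))
  by_cases hba : b ≤ a
  · exfalso
    apply h2
    rw [hd, hb']
    exact Nat.mul_dvd_mul (Nat.pow_dvd_pow p hba) (Nat.gcd_dvd_right d m)
  · have : b = a + 1 := by omega
    rw [← this, ← hb']
    exact Nat.gcd_dvd_left _ _


section decomp

variable {G : Type u} [Group G] {q m e : ℕ}

lemma z_pow_eq_one (hq1 : e ≡ 1 [MOD q]) (x : G) (hx : x ^ (q * m) = 1) :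
    ((x ^ e)⁻¹ * x) ^ m = 1 := by
  have hc : Commute ((x ^ e)⁻¹) x := (Commute.pow_self x e).inv_left
  rw [hc.mul_pow, inv_pow, ← pow_mul, inv_mul_eq_one]
  rw [pow_eq_pow_iff_modEq]
  have h1 : e * m ≡ 1 * m [MOD q * m] := Nat.ModEq.mul_right' m hq1
  rw [one_mul] at h1
  exact h1.of_dvd (orderOf_dvd_of_pow_eq_one hx)

lemma y_pow_eq_one (hme : m ∣ e) (x : G) (hx : x ^ (q * m) = 1) :
    (x ^ e) ^ q = 1 := by
  obtain ⟨k, rfl⟩ := hme
  rw [← pow_mul, show m * k * q = q * m * k by ring, pow_mul, hx, one_pow]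

end decomp

lemma order_image {G : Type u} [Group G] {p a m e : ℕ} (hp : p.Prime)
    (hq1 : e ≡ 1 [MOD p ^ (a + 1)]) (hme : m ∣ e) (x : G)
    (hx : x ^ (p ^ (a + 1) * m) = 1) (hx' : x ^ (p ^ a * m) ≠ 1) :
    orderOf (x ^ e) = p ^ (a + 1) := by
  have hy := y_pow_eq_one hme x hx
  have hz := z_pow_eq_one hq1 x hx
  obtain ⟨b, hb, hb'⟩ := (Nat.dvd_prime_pow hp).1 (orderOf_dvd_of_pow_eq_one hy)
  by_cases hba : b ≤ a
  · exfalso; apply hx'
    have hc : Commute (x ^ e) ((x ^ e)⁻¹ * x) :=
      Commute.mul_right (Commute.refl _).inv_right (Commute.pow_self x e)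
    have hxe : x = x ^ e * ((x ^ e)⁻¹ * x) := by group
    rw [hxe, hc.mul_pow]
    have h1 : (x ^ e) ^ (p ^ a * m) = 1 := by
      rw [pow_mul]
      have : (x ^ e) ^ (p ^ a) = 1 := by
        apply orderOf_dvd_iff_pow_eq_one.1
        rw [hb']; exact Nat.pow_dvd_pow p hba
      rw [this, one_pow]
    have h2 : ((x ^ e)⁻¹ * x) ^ (p ^ a * m) = 1 := by
      rw [mul_comm, pow_mul, hz, one_pow]
    rw [h1, h2, one_mul]
  · have : b = a + 1 := by omega
    rw [hb', this]

lemma fiber_card {G : Type u} [Group G] [Fintype G] [DecidableEq G] {p a m e : ℕ} (hp : p.Prime)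
    (hpm : ¬ p ∣ m) (hq1 : e ≡ 1 [MOD p ^ (a + 1)]) (hme : m ∣ e) (y : G)
    (hy : orderOf y = p ^ (a + 1)) :
    (Finset.univ.filter (fun x : G =>
      (x ^ (p ^ (a + 1) * m) = 1 ∧ x ^ (p ^ a * m) ≠ 1) ∧ x ^ e = y)).card
      = Nat.card {z : Subgroup.centralizer {y} // z ^ m = 1} := by
  rw [← Fintype.card_subtype, ← Nat.card_eq_fintype_card]
  have hyq : y ^ (p ^ (a + 1)) = 1 := by rw [← hy]; exact pow_orderOf_eq_one y
  refine Nat.card_congr ⟨fun x => ⟨⟨y⁻¹ * x.1, ?_⟩, ?_⟩, fun z => ⟨y * z.1.1, ?_⟩, ?_, ?_⟩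
  · -- commute
    obtain ⟨x, ⟨hx1, hx2⟩, hx3⟩ := x
    rw [Subgroup.mem_centralizer_iff]
    intro h hh
    rw [Set.mem_singleton_iff] at hh
    subst hh
    have hc : Commute (x ^ e) ((x ^ e)⁻¹ * x) :=
      Commute.mul_right (Commute.refl _).inv_right (Commute.pow_self x e)
    rw [hx3] at hc
    exact hc.eq
  · obtain ⟨x, ⟨hx1, hx2⟩, hx3⟩ := x
    have := z_pow_eq_one hq1 x hx1
    rw [hx3] at this
    ext
    simpa using this
  · obtain ⟨⟨z, hzc⟩, hz⟩ := z
    have hzm : z ^ m = 1 := by simpa using congrArg Subtype.val hz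
    have hc : Commute y z := by
      rw [Subgroup.mem_centralizer_iff] at hzc
      exact hzc y rfl
    refine ⟨⟨?_, ?_⟩, ?_⟩
    · change (y * z) ^ (p ^ (a + 1) * m) = 1
      rw [hc.mul_pow, pow_mul, hyq, one_pow, mul_comm (p ^ (a + 1)) m, pow_mul, hzm, one_pow,
        one_mul]
    · change (y * z) ^ (p ^ a * m) ≠ 1
      rw [hc.mul_pow, mul_comm (p ^ a) m, pow_mul z, hzm, one_pow, mul_one, Ne,
        ← orderOf_dvd_iff_pow_eq_one, hy, mul_comm]
      intro hdvd
      have hcop : Nat.Coprime (p ^ (a + 1)) m :=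
        Nat.Coprime.pow_left _ ((Nat.Prime.coprime_iff_not_dvd hp).2 hpm)
      have := hcop.dvd_of_dvd_mul_right hdvd
      rw [Nat.pow_dvd_pow_iff_le_right hp.one_lt] at this
      omega
    · change (y * z) ^ e = y
      rw [hc.mul_pow]
      obtain ⟨k, hk⟩ := hme
      have h1 : z ^ e = 1 := by rw [hk, pow_mul, hzm, one_pow]
      have h2 : y ^ e = y ^ 1 := by
        rw [pow_eq_pow_iff_modEq, hy]; exact hq1
      rw [h1, h2, pow_one, mul_one]
  · intro x
    ext
    simp
  · intro z
    ext
    simp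



lemma card_top_subtype {G : Type u} [Group G] (m : ℕ) (C : Subgroup G) (hC : C = ⊤) :
    Nat.card {z : C // z ^ m = 1} = Nat.card {z : G // z ^ m = 1} := by
  subst hC
  refine Nat.card_congr (Equiv.subtypeEquiv Subgroup.topEquiv.toEquiv ?_)
  intro z
  rw [← OneMemClass.coe_eq_one, Subgroup.coe_pow]
  rfl

lemma key_ii {G : Type u} [Group G] [Fintype G] [DecidableEq G]
    (IH : ∀ (H : Type u) [Group H] [Finite H], Nat.card H < Nat.card G → Frob H)
    {p a m : ℕ} (hp : p.Prime) (hpm : ¬ p ∣ m) (hdvd : p ^ (a + 1) * m ∣ Nat.card G) :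
    m ∣ (Finset.univ.filter
      (fun x : G => x ^ (p ^ (a + 1) * m) = 1 ∧ x ^ (p ^ a * m) ≠ 1)).card := by
  have hcop : Nat.Coprime (p ^ (a + 1)) m :=
    Nat.Coprime.pow_left _ ((Nat.Prime.coprime_iff_not_dvd hp).2 hpm)
  have hq1' : 1 < p ^ (a + 1) := Nat.one_lt_pow (by omega) hp.one_lt
  obtain ⟨u, -, hu⟩ := Nat.exists_mul_mod_eq_one_of_coprime hcop.symm hq1'
  have hq1 : m * u ≡ 1 [MOD p ^ (a + 1)] := by
    unfold Nat.ModEq; rw [hu, Nat.mod_eq_of_lt hq1']
  have hme : m ∣ m * u := Dvd.intro _ rfl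
  generalize m * u = e at hq1 hme
  rw [Finset.card_eq_sum_card_fiberwise (f := fun x : G => x ^ e) (t := Finset.univ)
    (fun _ _ => Finset.mem_univ _)]
  apply class_sum_dvd
  · intro t y
    symm
    apply Finset.card_equiv (MulAut.conj t).toEquiv
    intro x
    simp only [Finset.mem_filter, Finset.mem_univ, true_and, MulEquiv.toEquiv_eq_coe,
      MulEquiv.coe_toEquiv, MulAut.conj_apply, conj_pow, conj_eq_one_iff, mul_left_inj,
      mul_right_inj, ne_eq]
  · intro y
    rw [Finset.filter_filter]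
    by_cases hne : (Finset.univ.filter (fun x : G =>
        (x ^ (p ^ (a + 1) * m) = 1 ∧ x ^ (p ^ a * m) ≠ 1) ∧ x ^ e = y)).Nonempty
    · obtain ⟨x₀, hx₀⟩ := hne
      simp only [Finset.mem_filter, Finset.mem_univ, true_and] at hx₀
      obtain ⟨⟨hx1, hx2⟩, hx3⟩ := hx₀
      have hy : orderOf y = p ^ (a + 1) := by
        rw [← hx3]; exact order_image hp hq1 hme x₀ hx1 hx2
      rw [fiber_card hp hpm hq1 hme y hy]
      by_cases htop : Subgroup.centralizer {y} = ⊤
      · -- central case
        rw [card_top_subtype m _ htop]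
        apply Dvd.dvd.mul_left
        have hyc : y ∈ Subgroup.center G := by
          rw [Subgroup.mem_center_iff]
          intro g
          have hg : g ∈ Subgroup.centralizer {y} := htop ▸ Subgroup.mem_top g
          exact (Subgroup.mem_centralizer_iff.1 hg y rfl).symm
        have hZc : Subgroup.zpowers y ≤ Subgroup.center G := (Subgroup.zpowers_le).2 hyc
        have : (Subgroup.zpowers y).Normal := ⟨fun n hn g => by
          have : n ∈ Subgroup.center G := hZc hn
          rw [Subgroup.mem_center_iff] at this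
          rw [this g, mul_inv_cancel_right]; exact hn⟩
        have hcardZ : Nat.card (Subgroup.zpowers y) = p ^ (a + 1) := by
          rw [Nat.card_zpowers, hy]
        rw [← card_quot_eq (Subgroup.zpowers y) hZc m (by rw [hcardZ]; exact hcop)]
        have hmul : Nat.card G = Nat.card (G ⧸ Subgroup.zpowers y) * p ^ (a + 1) := by
          rw [← hcardZ]; exact Subgroup.card_eq_card_quotient_mul_card_subgroup _
        have hpos : 0 < Nat.card (G ⧸ Subgroup.zpowers y) := Nat.card_pos
        apply IH (G ⧸ Subgroup.zpowers y)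
        · rw [hmul]
          nlinarith
        · rw [hmul, mul_comm _ (p ^ (a + 1))] at hdvd
          exact Nat.dvd_of_mul_dvd_mul_left (by omega) hdvd
      · have hlt : Nat.card (Subgroup.centralizer {y}) < Nat.card G := by
          refine lt_of_le_of_ne (Subgroup.card_le_card_group _) ?_
          intro h
          exact htop ((Subgroup.card_eq_iff_eq_top _).1 h)
        have h1 := frob_gcd (IH _ hlt) m
        have h2 : m ∣ (Subgroup.centralizer {y}).index *
            Nat.gcd m (Nat.card (Subgroup.centralizer {y})) := by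
          rw [← Nat.gcd_mul_left]
          apply Nat.dvd_gcd (Dvd.intro_left _ rfl)
          rw [Subgroup.index_mul_card]
          exact (Dvd.intro_left _ rfl).trans hdvd
        exact h2.trans (Nat.mul_dvd_mul_left _ h1)
    · rw [Finset.not_nonempty_iff_eq_empty] at hne
      rw [hne, Finset.card_empty, mul_zero]
      exact dvd_zero _


lemma key_i {G : Type u} [Group G] [Fintype G] [DecidableEq G]
    {p a m : ℕ} (hp : p.Prime) (hpm : ¬ p ∣ m) :
    p ^ a ∣ (Finset.univ.filter
      (fun x : G => x ^ (p ^ (a + 1) * m) = 1 ∧ x ^ (p ^ a * m) ≠ 1)).card := by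
  classical
  have := pow_dvd_card_of_order (G := G) hp
    (fun d => d ∣ p ^ (a + 1) * m ∧ ¬ d ∣ p ^ a * m)
    (fun d hd => pow_succ_dvd_of hp hpm hd.1 hd.2)
  convert this using 2
  ext x
  simp [orderOf_dvd_iff_pow_eq_one]

lemma card_split {G : Type u} [Group G] [Fintype G] [DecidableEq G] (n p : ℕ) :
    Nat.card {g : G // g ^ (n * p) = 1} = Nat.card {g : G // g ^ n = 1} +
      (Finset.univ.filter (fun x : G => x ^ (n * p) = 1 ∧ x ^ n ≠ 1)).card := by
  rw [Nat.card_eq_fintype_card, Nat.card_eq_fintype_card, Fintype.card_subtype,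
    Fintype.card_subtype,
    ← Finset.card_filter_add_card_filter_not (s := Finset.univ.filter (fun x : G => x ^ (n * p) = 1))
      (fun x : G => x ^ n = 1), Finset.filter_filter, Finset.filter_filter]
  congr 2
  ext x
  simp only [Finset.mem_filter, Finset.mem_univ, true_and, and_iff_right_iff_imp]
  intro h
  rw [pow_mul, h, one_pow]

lemma frob_step {G : Type u} [Group G] [Finite G]
    (IH : ∀ (H : Type u) [Group H] [Finite H], Nat.card H < Nat.card G → Frob H) : Frob G := by
  classical
  have := Fintype.ofFinite G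
  have hpos : 0 < Nat.card G := Nat.card_pos
  have inner : ∀ k n : ℕ, n * k = Nat.card G → n ∣ Nat.card {g : G // g ^ n = 1} := by
    intro k
    induction k using Nat.strong_induction_on with
    | _ k ih =>
      intro n hnk
      rcases Nat.lt_or_ge k 2 with hk | hk
      · have hk1 : k = 1 := by
          rcases k with _ | _ | k
          · rw [Nat.mul_zero] at hnk; omega
          · rfl
          · omega
        subst hk1
        rw [mul_one] at hnk
        subst hnk
        have : Nat.card {g : G // g ^ Nat.card G = 1} = Nat.card G :=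
          Nat.card_congr (Equiv.subtypeUnivEquiv (fun g => pow_card_eq_one'))
        rw [this]
      · obtain ⟨p, hp, hpk⟩ := Nat.exists_prime_and_dvd (show k ≠ 1 by omega)
        obtain ⟨k', rfl⟩ := hpk
        have hk'pos : 0 < k' := by
          rcases Nat.eq_zero_or_pos k' with h | h
          · subst h; simp at hk
          · exact h
        have hk'lt : k' < p * k' := by
          have := hp.two_le
          nlinarith
        have h1 : n * p ∣ Nat.card {g : G // g ^ (n * p) = 1} :=
          ih k' hk'lt (n * p) (by rw [← hnk]; ring)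
        have hn0 : n ≠ 0 := by
          rintro rfl
          rw [Nat.zero_mul] at hnk
          omega
        have hnp : n * p ∣ Nat.card G := ⟨k', by rw [← hnk]; ring⟩
        obtain ⟨a, m, hpm, rfl⟩ := Nat.exists_eq_pow_mul_and_not_dvd hn0 p hp.ne_one
        have e1 : p ^ a * m * p = p ^ (a + 1) * m := by ring
        have hB : p ^ a * m ∣ (Finset.univ.filter
            (fun x : G => x ^ (p ^ a * m * p) = 1 ∧ x ^ (p ^ a * m) ≠ 1)).card := by
          rw [e1]
          apply Nat.Coprime.mul_dvd_of_dvd_of_dvd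
          · exact Nat.Coprime.pow_left _ ((Nat.Prime.coprime_iff_not_dvd hp).2 hpm)
          · exact key_i hp hpm
          · exact key_ii IH hp hpm (e1 ▸ hnp)
        rw [card_split] at h1
        exact (Nat.dvd_add_left hB).1 ((Dvd.intro _ rfl).trans h1)
  intro m hm
  obtain ⟨k, hk⟩ := hm
  exact inner k m hk.symm

theorem frob_all : ∀ (N : ℕ) (G : Type u) [Group G] [Finite G], Nat.card G = N → Frob G := by
  intro N
  induction N using Nat.strong_induction_on with
  | _ N ih =>
    intro G _ _ hN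
    apply frob_step
    intro H _ _ hlt
    exact ih (Nat.card H) (hN ▸ hlt) H rfl


/-- Frobenius' divisibility Theorem: if m divides the order of a finite group G, then m divides the number of elements g of G with g^m = 1. -/
theorem result {G : Type*} [Group G] [Finite G] (m : ℕ) (hm : m ∣ Nat.card G) :
    m ∣ Nat.card {g : G // g ^ m = 1} := by
  exact frob_all (Nat.card G) G rfl m hm

end Cfsg.Agent.S3993
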