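import Mathlib
import Cfsg.Statements.S3995
import Cfsg.Agent.S3993
import Cfsg.Agent.Lib.Helper07.QuatEmbed

set_option autoImplicit false
open Cfsg

namespace Cfsg.Agent.S3995

section arith

lemma dvd_lin {p a b : ℤ} (c d e : ℤ) (ha : p ∣ a) (hb : p ∣ b) (he : c * a + d * b = e) :
    p ∣ e := he ▸ dvd_add (Dvd.dvd.mul_left ha c) (Dvd.dvd.mul_left hb d)

lemma not_dvd_one {p : ℕ} (hp : p.Prime) : ¬ (p : ℤ) ∣ 1 := by
  intro h
  have : p ∣ 1 := by exact_mod_cast h
  exact hp.one_lt.ne' (Nat.dvd_one.1 this)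

lemma not_dvd_two {p : ℕ} (hp : p.Prime) (hp2 : p ≠ 2) : ¬ (p : ℤ) ∣ 2 := by
  intro h
  have : p ∣ 2 := by exact_mod_cast h
  exact hp2 ((Nat.prime_dvd_prime_iff_eq hp Nat.prime_two).1 this)

lemma divisors_mul_primes {p q : ℕ} (hp : p.Prime) (hq : q.Prime) :
    (p * q).divisors = {1, p, q, p * q} := by
  ext d
  simp only [Nat.mem_divisors, Finset.mem_insert, Finset.mem_singleton]
  constructor
  · rintro ⟨hd, _⟩
    obtain ⟨a, b, ha, hb, rfl⟩ := Nat.dvd_mul.1 hd
    rcases (Nat.dvd_prime hp).1 ha with rfl | rfl <;>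
      rcases (Nat.dvd_prime hq).1 hb with rfl | rfl <;> simp
  · rintro (rfl | rfl | rfl | rfl)
    · exact ⟨one_dvd _, Nat.mul_ne_zero hp.ne_zero hq.ne_zero⟩
    · exact ⟨dvd_mul_right _ _, Nat.mul_ne_zero hp.ne_zero hq.ne_zero⟩
    · exact ⟨dvd_mul_left _ _, Nat.mul_ne_zero hp.ne_zero hq.ne_zero⟩
    · exact ⟨dvd_rfl, Nat.mul_ne_zero hp.ne_zero hq.ne_zero⟩

lemma sum_div_mul_primes {p q : ℕ} (hp : p.Prime) (hq : q.Prime) (hpq : p ≠ q) (F : ℕ → ℕ) :
    ∑ d ∈ (p * q).divisors, F d = F 1 + F p + F q + F (p * q) := by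
  rw [divisors_mul_primes hp hq]
  have hp1 := hp.one_lt
  have hq1 := hq.one_lt
  have h1 : p ≠ p * q := by
    intro h; nlinarith
  have h2 : q ≠ p * q := by
    intro h; nlinarith
  have h3 : (1 : ℕ) ≠ p * q := by
    intro h; nlinarith
  rw [Finset.sum_insert, Finset.sum_insert, Finset.sum_insert, Finset.sum_singleton]
  · ring
  · simpa using h2
  · simp only [Finset.mem_insert, Finset.mem_singleton, not_or]
    exact ⟨hpq, h1⟩
  · simp only [Finset.mem_insert, Finset.mem_singleton, not_or]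
    exact ⟨hp1.ne, hq1.ne, h3⟩

lemma divisors_four_mul {p : ℕ} (hp : p.Prime) :
    (4 * p).divisors = {1, 2, 4, p, 2 * p, 4 * p} := by
  ext d
  simp only [Nat.mem_divisors, Finset.mem_insert, Finset.mem_singleton]
  constructor
  · rintro ⟨hd, _⟩
    obtain ⟨a, b, ha, hb, rfl⟩ := Nat.dvd_mul.1 hd
    have ha' : a ∣ 2 ^ 2 := by simpa using ha
    obtain ⟨m, hm, rfl⟩ := (Nat.dvd_prime_pow Nat.prime_two).1 ha'
    rcases (Nat.dvd_prime hp).1 hb with rfl | rfl <;> interval_cases m <;> simp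
  · have h0 : 4 * p ≠ 0 := Nat.mul_ne_zero (by norm_num) hp.ne_zero
    rintro (rfl | rfl | rfl | rfl | rfl | rfl)
    · exact ⟨one_dvd _, h0⟩
    · exact ⟨Dvd.dvd.mul_right (by norm_num) _, h0⟩
    · exact ⟨dvd_mul_right _ _, h0⟩
    · exact ⟨dvd_mul_left _ _, h0⟩
    · exact ⟨Nat.mul_dvd_mul_right (by norm_num) _, h0⟩
    · exact ⟨dvd_rfl, h0⟩

lemma sum_div_four_mul {p : ℕ} (hp : p.Prime) (hp2 : p ≠ 2) (F : ℕ → ℕ) :
    ∑ d ∈ (4 * p).divisors, F d = F 1 + F 2 + F 4 + F p + F (2 * p) + F (4 * p) := by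
  rw [divisors_four_mul hp]
  have hp1 := hp.two_le
  have hp4 : p ≠ 4 := by
    rintro rfl
    exact absurd hp (by norm_num)
  rw [Finset.sum_insert, Finset.sum_insert, Finset.sum_insert, Finset.sum_insert,
    Finset.sum_insert, Finset.sum_singleton]
  · ring
  · simp only [Finset.mem_singleton]; omega
  · simp only [Finset.mem_insert, Finset.mem_singleton, not_or]; omega
  · simp only [Finset.mem_insert, Finset.mem_singleton, not_or]; omega
  · simp only [Finset.mem_insert, Finset.mem_singleton, not_or]; omega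
  · simp only [Finset.mem_insert, Finset.mem_singleton, not_or]; omega

lemma sum_div_prime (p : ℕ) (hp : p.Prime) (F : ℕ → ℕ) :
    ∑ d ∈ p.divisors, F d = F 1 + F p := by
  rw [hp.divisors, Finset.sum_pair hp.one_lt.ne]

lemma sum_div_prime_sq (p : ℕ) (hp : p.Prime) (F : ℕ → ℕ) :
    ∑ d ∈ (p ^ 2).divisors, F d = F 1 + F p + F (p ^ 2) := by
  rw [Nat.sum_divisors_prime_pow hp]
  simp [Finset.sum_range_succ]

lemma sum_div_four (F : ℕ → ℕ) : ∑ d ∈ (4 : ℕ).divisors, F d = F 1 + F 2 + F 4 := by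
  have := sum_div_prime_sq 2 Nat.prime_two F
  norm_num at this
  exact this

lemma sum_div_eight (F : ℕ → ℕ) : ∑ d ∈ (8 : ℕ).divisors, F d = F 1 + F 2 + F 4 + F 8 := by
  have h := Nat.sum_divisors_prime_pow (k := 3) (f := F) Nat.prime_two
  norm_num [Finset.sum_range_succ] at h
  exact h

end arith

section abstract

/-- the abstract numerical situation -/
structure Hyp (N n : ℕ) (S : ℕ → ℕ) : Prop where
  one : S 1 = 1
  val : ∀ m, S m = 0 ∨ S m = 1 ∨ S m = n
  big : ∀ m, 2 < m → S m = 0 ∨ S m = n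
  frob : ∀ m, m ∣ N → m ∣ ∑ d ∈ m.divisors, S d
  cauchy : ∀ p, p.Prime → p ∣ N → S p ≠ 0
  dvd : ∀ m, S m ≠ 0 → m ∣ N
  sub : ∀ m d, d ∣ m → S m ≠ 0 → S d ≠ 0
  two_le : 2 ≤ n

variable {N n : ℕ} {S : ℕ → ℕ}

theorem Hyp.odd_prime (h : Hyp N n S) {p : ℕ} (hp : p.Prime) (hp2 : p ≠ 2) (hpN : p ∣ N) :
    S p = n ∧ (p : ℤ) ∣ 1 + n := by
  have h0 := h.cauchy p hp hpN
  have hgt : 2 < p := lt_of_le_of_ne hp.two_le (Ne.symm hp2)
  have hS : S p = n := by
    rcases h.big p hgt with h1 | h1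
    · exact absurd h1 h0
    · exact h1
  refine ⟨hS, ?_⟩
  have := h.frob p hpN
  rw [sum_div_prime p hp, h.one, hS] at this
  exact_mod_cast this

theorem Hyp.no_sq (h : Hyp N n S) {p : ℕ} (hp : p.Prime) (hp2 : p ≠ 2) (hpN : p ∣ N) :
    S (p ^ 2) = 0 := by
  by_contra hne
  obtain ⟨hS, hd⟩ := h.odd_prime hp hp2 hpN
  have hgt : 2 < p ^ 2 := by
    have := hp.two_le
    nlinarith
  have hS2 : S (p ^ 2) = n := by
    rcases h.big _ hgt with h1 | h1
    · exact absurd h1 hne
    · exact h1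
  have := h.frob _ (h.dvd _ hne)
  rw [sum_div_prime_sq p hp, h.one, hS, hS2] at this
  have h2 : p ∣ 1 + n + n := dvd_trans (dvd_pow_self p two_ne_zero) this
  have h2' : (p : ℤ) ∣ 1 + n + n := by exact_mod_cast h2
  exact not_dvd_one hp (dvd_lin 2 (-1) 1 hd h2' (by ring))

theorem Hyp.unique_odd (h : Hyp N n S) {p q : ℕ} (hp : p.Prime) (hq : q.Prime) (hp2 : p ≠ 2)
    (hq2 : q ≠ 2) (hpq : p ≠ q) (hpN : p ∣ N) (hqN : q ∣ N) : False := by
  obtain ⟨hSp, hd⟩ := h.odd_prime hp hp2 hpN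
  obtain ⟨hSq, -⟩ := h.odd_prime hq hq2 hqN
  have hpqN : p * q ∣ N :=
    Nat.Coprime.mul_dvd_of_dvd_of_dvd ((Nat.coprime_primes hp hq).2 hpq) hpN hqN
  have hgt : 2 < p * q := by
    have := hp.two_le
    have := hq.two_le
    nlinarith
  have := h.frob _ hpqN
  rw [sum_div_mul_primes hp hq hpq, h.one, hSp, hSq] at this
  have h2 : p ∣ 1 + n + n + S (p * q) := dvd_trans (dvd_mul_right p q) this
  rcases h.big _ hgt with h1 | h1
  · rw [h1] at h2
    have h2' : (p : ℤ) ∣ 1 + n + n + 0 := by exact_mod_cast h2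
    exact not_dvd_one hp (dvd_lin 2 (-1) 1 hd h2' (by ring))
  · rw [h1] at h2
    have h2' : (p : ℤ) ∣ 1 + n + n + n := by exact_mod_cast h2
    exact not_dvd_two hp hp2 (dvd_lin 3 (-1) 2 hd h2' (by ring))

theorem Hyp.mixed (h : Hyp N n S) {p : ℕ} (hp : p.Prime) (hp2 : p ≠ 2) (hpN : p ∣ N)
    (h2N : 2 ∣ N) : S 2 = 1 ∧ S (2 * p) = n ∧ S 4 = 0 ∧ ¬ 4 ∣ N := by
  obtain ⟨hSp, hd⟩ := h.odd_prime hp hp2 hpN
  have hcop : Nat.Coprime 2 p := (Nat.coprime_primes Nat.prime_two hp).2 (Ne.symm hp2)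
  have h2pN : 2 * p ∣ N := Nat.Coprime.mul_dvd_of_dvd_of_dvd hcop h2N hpN
  have hgt : 2 < 2 * p := by
    have := hp.two_le
    omega
  have hS2 := h.cauchy 2 Nat.prime_two h2N
  have hfr := h.frob _ h2pN
  rw [sum_div_mul_primes Nat.prime_two hp (Ne.symm hp2), h.one, hSp] at hfr
  have h2 : p ∣ 1 + S 2 + n + S (2 * p) := dvd_trans (dvd_mul_left p 2) hfr
  have key : S 2 = 1 ∧ S (2 * p) = n := by
    rcases h.val 2 with h1 | h1 | h1
    · exact absurd h1 hS2
    · rcases h.big _ hgt with h3 | h3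
      · rw [h1, h3] at h2
        have h2' : (p : ℤ) ∣ 1 + 1 + n + 0 := by exact_mod_cast h2
        exact absurd (dvd_lin (-1) 1 1 hd h2' (by ring)) (not_dvd_one hp)
      · exact ⟨h1, h3⟩
    · rcases h.big _ hgt with h3 | h3
      · rw [h1, h3] at h2
        have h2' : (p : ℤ) ∣ 1 + n + n + 0 := by exact_mod_cast h2
        exact absurd (dvd_lin 2 (-1) 1 hd h2' (by ring)) (not_dvd_one hp)
      · rw [h1, h3] at h2
        have h2' : (p : ℤ) ∣ 1 + n + n + n := by exact_mod_cast h2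
        exact absurd (dvd_lin 3 (-1) 2 hd h2' (by ring)) (not_dvd_two hp hp2)
  obtain ⟨hS2', hS2p⟩ := key
  have hS4 : S 4 = 0 := by
    by_contra hne
    have hS4 : S 4 = n := by
      rcases h.big 4 (by norm_num) with h1 | h1
      · exact absurd h1 hne
      · exact h1
    have h4N : 4 ∣ N := h.dvd 4 hne
    have hcop4 : Nat.Coprime 4 p := by
      have : Nat.Coprime (2 ^ 2) p := Nat.Coprime.pow_left 2 hcop
      simpa using this
    have h4pN : 4 * p ∣ N := Nat.Coprime.mul_dvd_of_dvd_of_dvd hcop4 h4N hpN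
    have hfr4 := h.frob _ h4pN
    rw [sum_div_four_mul hp hp2, h.one, hS2', hS4, hSp, hS2p] at hfr4
    have h3 : p ∣ 1 + 1 + n + n + n + S (4 * p) := dvd_trans (dvd_mul_left p 4) hfr4
    have hgt4 : 2 < 4 * p := by
      have := hp.two_le
      omega
    rcases h.big _ hgt4 with h5 | h5
    · rw [h5] at h3
      have h3' : (p : ℤ) ∣ 1 + 1 + n + n + n + 0 := by exact_mod_cast h3
      exact absurd (dvd_lin 3 (-1) 1 hd h3' (by ring)) (not_dvd_one hp)
    · rw [h5] at h3
      have h3' : (p : ℤ) ∣ 1 + 1 + n + n + n + n := by exact_mod_cast h3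
      exact absurd (dvd_lin 4 (-1) 2 hd h3' (by ring)) (not_dvd_two hp hp2)
  refine ⟨hS2', hS2p, hS4, ?_⟩
  intro h4N
  have := h.frob 4 h4N
  rw [sum_div_four, h.one, hS2', hS4] at this
  omega

theorem Hyp.two_group (h : Hyp N n S) : S 8 = 0 ∧ (S 4 ≠ 0 → S 2 = 1) := by
  have part2 : S 4 ≠ 0 → S 2 = 1 := by
    intro hne
    have hS4 : S 4 = n := by
      rcases h.big 4 (by norm_num) with h1 | h1
      · exact absurd h1 hne
      · exact h1
    have h4N : 4 ∣ N := h.dvd 4 hne
    have h2N : 2 ∣ N := dvd_trans (by norm_num) h4N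
    have hS2 : S 2 ≠ 0 := h.sub 4 2 (by norm_num) hne
    have hf4 := h.frob 4 h4N
    rw [sum_div_four, h.one, hS4] at hf4
    rcases h.val 2 with h1 | h1 | h1
    · exact absurd h1 hS2
    · exact h1
    · have hf2 := h.frob 2 h2N
      rw [sum_div_prime 2 Nat.prime_two, h.one] at hf2
      rw [h1] at hf4 hf2
      omega
  refine ⟨?_, part2⟩
  by_contra hne
  have hS8 : S 8 = n := by
    rcases h.big 8 (by norm_num) with h1 | h1
    · exact absurd h1 hne
    · exact h1
  have hS4ne : S 4 ≠ 0 := h.sub 8 4 (by norm_num) hne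
  have hS4 : S 4 = n := by
    rcases h.big 4 (by norm_num) with h1 | h1
    · exact absurd h1 hS4ne
    · exact h1
  have hS2 := part2 hS4ne
  have h8N : 8 ∣ N := h.dvd 8 hne
  have h4N : 4 ∣ N := h.dvd 4 hS4ne
  have hf4 := h.frob 4 h4N
  have hf8 := h.frob 8 h8N
  rw [sum_div_four, h.one, hS4, hS2] at hf4
  rw [sum_div_eight, h.one, hS4, hS2, hS8] at hf8
  omega

end abstract

section group
variable {G : Type*} [Group G] [Finite G]

/-- number of elements of order `m` -/
noncomputable def s (G : Type*) [Group G] (m : ℕ) : ℕ := Nat.card {g : G // orderOf g = m}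

lemma s_ne_zero_iff (m : ℕ) : s G m ≠ 0 ↔ ∃ g : G, orderOf g = m := by
  unfold s
  rw [Nat.card_ne_zero]
  constructor
  · rintro ⟨⟨g, hg⟩, _⟩; exact ⟨g, hg⟩
  · rintro ⟨g, hg⟩; exact ⟨⟨⟨g, hg⟩⟩, inferInstance⟩

lemma s_one : s G 1 = 1 := by
  unfold s
  rw [Nat.card_eq_one_iff_unique]
  refine ⟨⟨fun a b => ?_⟩, ⟨⟨1, orderOf_one⟩⟩⟩
  apply Subtype.ext
  rw [orderOf_eq_one_iff.1 a.2, orderOf_eq_one_iff.1 b.2]

lemma two_le_s {m : ℕ} (hm : 2 < m) (g : G) (hg : orderOf g = m) : 2 ≤ s G m := by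
  have hne : g ≠ g⁻¹ := by
    intro h
    have h2 : g ^ 2 = 1 := by
      rw [pow_two]
      nth_rewrite 2 [h]
      exact mul_inv_cancel g
    have := orderOf_le_of_pow_eq_one (by norm_num) h2
    omega
  unfold s
  have : Nontrivial {x : G // orderOf x = m} :=
    ⟨⟨⟨g, hg⟩, ⟨g⁻¹, by rw [orderOf_inv, hg]⟩, by
      intro h
      exact hne (congrArg Subtype.val h)⟩⟩
  exact Finite.one_lt_card_iff_nontrivial.2 this

lemma frob_s (m : ℕ) (hm : m ∣ Nat.card G) : m ∣ ∑ d ∈ m.divisors, s G d := by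
  classical
  have hm0 : m ≠ 0 := by
    rintro rfl
    have := Nat.card_pos (α := G)
    rw [zero_dvd_iff] at hm
    omega
  have h1 := Cfsg.Agent.S3993.result (G := G) m hm
  letI : Fintype G := Fintype.ofFinite G
  have h2 := sum_card_orderOf_eq_card_pow_eq_one (G := G) hm0
  have h3 : ∑ d ∈ m.divisors, s G d = Nat.card {g : G // g ^ m = 1} := by
    rw [Nat.card_eq_fintype_card, Fintype.card_subtype, ← h2]
    refine Finset.sum_congr rfl (fun d _ => ?_)
    unfold s
    rw [Nat.card_eq_fintype_card, Fintype.card_subtype]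
  rw [h3]; exact h1

lemma exists_orderOf_of_dvd {m d : ℕ} (hd : d ∣ m) (g : G) (hg : orderOf g = m) :
    ∃ x : G, orderOf x = d := by
  obtain ⟨e, rfl⟩ := hd
  have hpos : 0 < d * e := hg ▸ orderOf_pos g
  have he : e ≠ 0 := by
    rintro rfl
    simp at hpos
  have hd0 : 0 < e := Nat.pos_of_ne_zero he
  refine ⟨g ^ e, ?_⟩
  rw [orderOf_pow_of_dvd he (hg ▸ dvd_mul_left e d), hg]
  exact Nat.mul_div_cancel _ hd0

theorem hyp_of (n : ℕ) (hn : n ≠ 1)
    (h : ((fun m : ℕ => Nat.card {g : G // orderOf g = m}) '' Set.range (orderOf : G → ℕ)) = {1, n}) :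
    Hyp (Nat.card G) n (s G) := by
  have hval : ∀ m, s G m = 0 ∨ s G m = 1 ∨ s G m = n := by
    intro m
    by_cases hm : ∃ g : G, orderOf g = m
    · obtain ⟨g, rfl⟩ := hm
      right
      have : s G (orderOf g) ∈ ({1, n} : Set ℕ) := by
        rw [← h]
        exact ⟨orderOf g, ⟨g, rfl⟩, rfl⟩
      simpa using this
    · left
      by_contra h0
      exact hm ((s_ne_zero_iff m).1 h0)
  refine ⟨s_one, hval, ?_, frob_s, ?_, ?_, ?_, ?_⟩
  · intro m hm
    rcases hval m with h1 | h1 | h1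
    · exact Or.inl h1
    · exfalso
      obtain ⟨g, hg⟩ := (s_ne_zero_iff m).1 (by rw [h1]; norm_num)
      have := two_le_s hm g hg
      omega
    · exact Or.inr h1
  · intro p hp hpN
    haveI : Fact p.Prime := ⟨hp⟩
    exact (s_ne_zero_iff p).2 (exists_prime_orderOf_dvd_card' p hpN)
  · intro m hm
    obtain ⟨g, rfl⟩ := (s_ne_zero_iff m).1 hm
    exact orderOf_dvd_natCard g
  · intro m d hd hm
    obtain ⟨g, hg⟩ := (s_ne_zero_iff m).1 hm
    exact (s_ne_zero_iff d).2 (exists_orderOf_of_dvd hd g hg)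
  · have : n ∈ ((fun m : ℕ => Nat.card {g : G // orderOf g = m}) '' Set.range (orderOf : G → ℕ)) := by
      rw [h]; simp
    obtain ⟨m, ⟨g, rfl⟩, hm⟩ := this
    have h1 : s G (orderOf g) ≠ 0 := (s_ne_zero_iff _).2 ⟨g, rfl⟩
    have h2 : s G (orderOf g) = n := hm
    omega

lemma order_dvd_of (g : G) (p : ℕ) (k : ℕ)
    (honly : ∀ r, r.Prime → r ∣ orderOf g → r = p) (hno : ¬ ∃ x : G, orderOf x = p ^ (k + 1)) :
    orderOf g ∣ p ^ k := by
  have h0 : orderOf g ≠ 0 := (orderOf_pos g).ne'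
  have h1 := Nat.eq_prime_pow_of_unique_prime_dvd h0 (fun {d} hd hdd => honly d hd hdd)
  set j := (orderOf g).primeFactorsList.length with hj
  by_cases hjk : j ≤ k
  · rw [h1]; exact pow_dvd_pow p hjk
  · exfalso
    rw [not_le] at hjk
    apply hno
    refine exists_orderOf_of_dvd ?_ g rfl
    rw [h1]
    exact pow_dvd_pow p hjk

/-- a wrapper around `Fin k` without any algebraic structure -/
structure PT (k : ℕ) : Type where
  /-- the underlying index -/
  val : Fin k

/-- `PT k` is equivalent to `Fin k` -/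
def ptEquiv (k : ℕ) : PT k ≃ Fin k where
  toFun x := x.val
  invFun i := ⟨i⟩
  left_inv _ := rfl
  right_inv _ := rfl

theorem exists_type_zero_model (P : Type*) [Group P] [Finite P] :
    ∃ (P' : Type) (_ : Group P') (_ : Finite P'), Nonempty (P ≃* P') := by
  classical
  let e : PT (Nat.card P) ≃ P := (ptEquiv (Nat.card P)).trans (Finite.equivFin P).symm
  letI : Group (PT (Nat.card P)) := e.group
  haveI : Finite (PT (Nat.card P)) := Finite.of_equiv _ e.symm
  exact ⟨PT (Nat.card P), e.group, inferInstance, ⟨(e.mulEquiv).symm⟩⟩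

theorem case_odd {n : ℕ} (H : Hyp (Nat.card G) n (s G)) {p : ℕ} (hp : p.Prime) (hp2 : p ≠ 2)
    (hpN : p ∣ Nat.card G) (h2N : ¬ 2 ∣ Nat.card G) :
    ∃ p : ℕ, p.Prime ∧ IsPGroup p G ∧ 3 ≤ Nat.card G ∧ Monoid.exponent G = p := by
  have hno : ¬ ∃ x : G, orderOf x = p ^ (1 + 1) := by
    intro hx
    exact (s_ne_zero_iff _).2 hx (H.no_sq hp hp2 hpN)
  have hall : ∀ g : G, g ^ p = 1 := by
    intro g
    have : orderOf g ∣ p ^ 1 := by
      apply order_dvd_of g p 1 _ hno
      intro r hr hrg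
      have hrN : r ∣ Nat.card G := dvd_trans hrg (orderOf_dvd_natCard g)
      by_contra hrp
      have hr2 : r ≠ 2 := by
        rintro rfl
        exact h2N hrN
      exact H.unique_odd hr hp hr2 hp2 hrp hrN hpN
    rw [pow_one] at this
    exact orderOf_dvd_iff_pow_eq_one.1 this
  refine ⟨p, hp, ?_, ?_, ?_⟩
  · intro g
    exact ⟨1, by rw [pow_one]; exact hall g⟩
  · have h1 : p ≤ Nat.card G := Nat.le_of_dvd Nat.card_pos hpN
    have h2 : 2 < p := lt_of_le_of_ne hp.two_le (Ne.symm hp2)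
    omega
  · have hd : Monoid.exponent G ∣ p := Monoid.exponent_dvd_of_forall_pow_eq_one hall
    rcases (Nat.dvd_prime hp).1 hd with h1 | h1
    · exfalso
      have hsub : Subsingleton G := Monoid.exp_eq_one_iff.1 h1
      have : Nat.card G = 1 := Nat.card_unique
      rw [this] at hpN
      exact hp.one_lt.ne' (Nat.dvd_one.1 hpN)
    · exact h1

theorem case_exp_two {n : ℕ} (H : Hyp (Nat.card G) n (s G))
    (honly : ∀ q, q.Prime → q ≠ 2 → ¬ q ∣ Nat.card G) (h4 : s G 4 = 0)
    (hex : ∃ g : G, s G (orderOf g) = n) :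
    ∃ p : ℕ, p.Prime ∧ IsPGroup p G ∧ 3 ≤ Nat.card G ∧ Monoid.exponent G = p := by
  have hno : ¬ ∃ x : G, orderOf x = 2 ^ (1 + 1) := by
    intro hx
    exact (s_ne_zero_iff _).2 hx h4
  have hord : ∀ g : G, orderOf g ∣ 2 := by
    intro g
    have : orderOf g ∣ 2 ^ 1 := by
      apply order_dvd_of g 2 1 _ hno
      intro r hr hrg
      have hrN : r ∣ Nat.card G := dvd_trans hrg (orderOf_dvd_natCard g)
      by_contra hr2
      exact honly r hr hr2 hrN
    simpa using this
  have hall : ∀ g : G, g ^ 2 = 1 := fun g => orderOf_dvd_iff_pow_eq_one.1 (hord g)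
  have h3 : 3 ≤ Nat.card G := by
    obtain ⟨g, hg⟩ := hex
    have h2n := H.two_le
    rcases (Nat.dvd_prime Nat.prime_two).1 (hord g) with h1 | h1
    · rw [h1, H.one] at hg
      omega
    · rw [h1] at hg
      have hlt : Nat.card {x : G // orderOf x = 2} < Nat.card G :=
        Finite.card_subtype_lt (x := (1 : G)) (by rw [orderOf_one]; norm_num)
      have : s G 2 = Nat.card {x : G // orderOf x = 2} := rfl
      omega
  refine ⟨2, Nat.prime_two, ?_, h3, ?_⟩
  · intro g
    exact ⟨1, by rw [pow_one]; exact hall g⟩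
  · have hd : Monoid.exponent G ∣ 2 := Monoid.exponent_dvd_of_forall_pow_eq_one hall
    rcases (Nat.dvd_prime Nat.prime_two).1 hd with h1 | h1
    · exfalso
      have hsub : Subsingleton G := Monoid.exp_eq_one_iff.1 h1
      have : Nat.card G = 1 := Nat.card_unique
      omega
    · exact h1

theorem case_quat {n : ℕ} (H : Hyp (Nat.card G) n (s G))
    (honly : ∀ q, q.Prime → q ≠ 2 → ¬ q ∣ Nat.card G) (h4 : s G 4 ≠ 0) :
    Nonempty (G ≃* QuaternionGroup 2) ∨ (IsCyclic G ∧ Nat.card G = 4) := by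
  obtain ⟨hS8, hS2'⟩ := H.two_group
  have hS2 := hS2' h4
  have hno : ¬ ∃ x : G, orderOf x = 2 ^ (2 + 1) := by
    intro hx
    exact (s_ne_zero_iff _).2 hx hS8
  have hord : ∀ g : G, orderOf g ∣ 2 ^ 2 := by
    intro g
    apply order_dvd_of g 2 2 _ hno
    intro r hr hrg
    have hrN : r ∣ Nat.card G := dvd_trans hrg (orderOf_dvd_natCard g)
    by_contra hr2
    exact honly r hr hr2 hrN
  obtain ⟨x, hx⟩ := (s_ne_zero_iff 4).1 h4
  set z : G := x * x with hz
  have hsq : ∀ g : G, orderOf g = 4 → orderOf (g * g) = 2 := by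
    intro g hg
    rw [← pow_two, orderOf_pow_of_dvd two_ne_zero (by rw [hg]; norm_num), hg]
  have hzo : orderOf z = 2 := hsq x hx
  have huniq : ∀ g : G, orderOf g = 2 → g = z := by
    intro g hg
    have h1 : Nat.card {g : G // orderOf g = 2} = 1 := hS2
    rw [Nat.card_eq_one_iff_unique] at h1
    obtain ⟨hsub, _⟩ := h1
    exact congrArg Subtype.val (hsub.elim ⟨g, hg⟩ ⟨z, hzo⟩)
  have hz1 : z ≠ 1 := by
    intro h
    rw [h, orderOf_one] at hzo
    omega
  have hform : ∀ g : G, g = 1 ∨ g = z ∨ g * g = z := by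
    intro g
    obtain ⟨j, hj, hgj⟩ := (Nat.dvd_prime_pow Nat.prime_two).1 (hord g)
    interval_cases j
    · left
      exact orderOf_eq_one_iff.1 (by simpa using hgj)
    · right; left
      exact huniq g (by simpa using hgj)
    · right; right
      exact huniq _ (hsq g (by simpa using hgj))
  have L : ∀ c w : G, c * c = z → w ≠ 1 → w ≠ z → w ≠ c → w ≠ c⁻¹ →
      w * c = c⁻¹ * w ∧ w * w = z := by
    intro c w hc hw1 hwz hwc hwc'
    have hww : w * w = z := by
      rcases hform w with h | h | h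
      · exact absurd h hw1
      · exact absurd h hwz
      · exact h
    have h1 : c * w ≠ 1 := by
      intro h
      exact hwc' (eq_inv_of_mul_eq_one_right h)
    have h2 : c * w ≠ z := by
      intro h
      rw [← hc] at h
      exact hwc (mul_left_cancel h)
    have h3 : (c * w) * (c * w) = z := by
      rcases hform (c * w) with h | h | h
      · exact absurd h h1
      · exact absurd h h2
      · exact h
    refine ⟨?_, hww⟩
    calc w * c = c⁻¹ * ((c * w) * (c * w)) * w⁻¹ := by group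
      _ = c⁻¹ * (w * w) * w⁻¹ := by rw [h3, hww]
      _ = c⁻¹ * w := by group
  by_cases hcyc : ∀ y : G, y ∈ Subgroup.zpowers x
  · right
    refine ⟨⟨⟨x, fun y => ?_⟩⟩, ?_⟩
    · obtain ⟨k, hk⟩ := Subgroup.mem_zpowers_iff.1 (hcyc y)
      exact ⟨k, hk⟩
    · rw [← orderOf_eq_card_of_forall_mem_zpowers hcyc, hx]
  · left
    rw [not_forall] at hcyc
    obtain ⟨y, hy⟩ := hcyc
    have hxz : x ∈ Subgroup.zpowers x := Subgroup.mem_zpowers x
    have hy1 : y ≠ 1 := fun h => hy (h ▸ Subgroup.one_mem _)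
    have hyz : y ≠ z := fun h => hy (h ▸ Subgroup.mul_mem _ hxz hxz)
    have hyx : y ≠ x := fun h => hy (h ▸ hxz)
    have hyx' : y ≠ x⁻¹ := fun h => hy (h ▸ Subgroup.inv_mem _ hxz)
    obtain ⟨hyxc, hyy⟩ := L x y rfl hy1 hyz hyx hyx'
    have hc : orderOf x = 2 * 2 := hx
    have hw : y * y = x ^ 2 := by rw [hyy, hz, pow_two]
    set φ := Cfsg.Agent.Lib.Helper07.quatHom x y
      (by rw [← hc]; exact pow_orderOf_eq_one x) hw hyxc with hφ
    have hinj : Function.Injective φ :=
      Cfsg.Agent.Lib.Helper07.quatHom_injective x y (le_refl 2) hc hw hyxc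
    have hxR : x ∈ φ.range := by
      refine ⟨QuaternionGroup.a 1, ?_⟩
      rw [hφ, Cfsg.Agent.Lib.Helper07.quatHom_a]
      have : (1 : ZMod (2 * 2)).val = 1 := rfl
      rw [this, pow_one]
    have hyR : y ∈ φ.range := by
      refine ⟨QuaternionGroup.xa 0, ?_⟩
      rw [hφ, Cfsg.Agent.Lib.Helper07.quatHom_xa]
      have : (0 : ZMod (2 * 2)).val = 0 := rfl
      rw [this, pow_zero, mul_one]
    have hsurj : Function.Surjective φ := by
      by_contra hns
      rw [Function.Surjective, not_forall] at hns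
      obtain ⟨w, hw'⟩ := hns
      have hwR : w ∉ φ.range := fun h => hw' h
      have hxyR : x * y ∈ φ.range := Subgroup.mul_mem _ hxR hyR
      have hw1 : w ≠ 1 := fun h => hwR (h ▸ Subgroup.one_mem _)
      have hwz : w ≠ z := fun h => hwR (h ▸ Subgroup.mul_mem _ hxR hxR)
      have hwx : w ≠ x := fun h => hwR (h ▸ hxR)
      have hwx' : w ≠ x⁻¹ := fun h => hwR (h ▸ Subgroup.inv_mem _ hxR)
      have hwy : w ≠ y := fun h => hwR (h ▸ hyR)
      have hwy' : w ≠ y⁻¹ := fun h => hwR (h ▸ Subgroup.inv_mem _ hyR)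
      have hwxy : w ≠ x * y := fun h => hwR (h ▸ hxyR)
      have hwxy' : w ≠ (x * y)⁻¹ := fun h => hwR (h ▸ Subgroup.inv_mem _ hxyR)
      have hxy1 : x * y ≠ 1 := fun h => hyx' (eq_inv_of_mul_eq_one_right h)
      have hxyz : x * y ≠ z := fun h => hyx (mul_left_cancel h)
      have hxyxy : (x * y) * (x * y) = z := by
        rcases hform (x * y) with h | h | h
        · exact absurd h hxy1
        · exact absurd h hxyz
        · exact h
      obtain ⟨e1, -⟩ := L x w rfl hw1 hwz hwx hwx'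
      obtain ⟨e2, -⟩ := L y w hyy hw1 hwz hwy hwy'
      obtain ⟨e3, -⟩ := L (x * y) w hxyxy hw1 hwz hwxy hwxy'
      have e4 : x⁻¹ * y⁻¹ = y⁻¹ * x⁻¹ := by
        have : x⁻¹ * y⁻¹ * w = y⁻¹ * x⁻¹ * w := by
          calc x⁻¹ * y⁻¹ * w = x⁻¹ * (y⁻¹ * w) := by group
            _ = x⁻¹ * (w * y) := by rw [e2]
            _ = (x⁻¹ * w) * y := by group
            _ = (w * x) * y := by rw [e1]
            _ = w * (x * y) := by group
            _ = (x * y)⁻¹ * w := e3
            _ = y⁻¹ * x⁻¹ * w := by group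
        exact mul_right_cancel this
      have e5 : x * y = y * x := by
        have := congrArg (fun t => t⁻¹) e4
        simpa using this.symm
      have e6 : x = x⁻¹ := by
        have : x * y = x⁻¹ * y := by rw [e5, hyxc]
        exact mul_right_cancel this
      apply hz1
      rw [hz]
      nth_rewrite 2 [e6]
      exact mul_inv_cancel x
    exact ⟨(MulEquiv.ofBijective φ ⟨hinj, hsurj⟩).symm⟩

theorem case_mixed {n : ℕ} (H : Hyp (Nat.card G) n (s G)) {p : ℕ} (hp : p.Prime) (hp2 : p ≠ 2)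
    (hpN : p ∣ Nat.card G) (h2N : 2 ∣ Nat.card G) :
    ∃ (p : ℕ) (P : Type) (_ : Group P) (_ : Finite P), p.Prime ∧ p ≠ 2 ∧ IsPGroup p P ∧
      Monoid.exponent P = p ∧ Nonempty (G ≃* Multiplicative (ZMod 2) × P) := by
  haveI : Fact p.Prime := ⟨hp⟩
  obtain ⟨hS2, hS2p, hS4, h4N⟩ := H.mixed hp hp2 hpN h2N
  have hSp2 := H.no_sq hp hp2 hpN
  obtain ⟨z, hz⟩ := exists_prime_orderOf_dvd_card' 2 h2N
  have huniq : ∀ g : G, orderOf g = 2 → g = z := by
    intro g hg
    have h1 : Nat.card {g : G // orderOf g = 2} = 1 := hS2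
    rw [Nat.card_eq_one_iff_unique] at h1
    obtain ⟨hsub, _⟩ := h1
    exact congrArg Subtype.val (hsub.elim ⟨g, hg⟩ ⟨z, hz⟩)
  have hzc : ∀ g : G, Commute z g := by
    intro g
    have h1 := (MulAut.conj g).orderOf_eq z
    rw [MulAut.conj_apply, hz] at h1
    have h2 := huniq _ h1
    have : g * z = z * g := by
      calc g * z = (g * z * g⁻¹) * g := by group
        _ = z * g := by rw [h2]
    exact this.symm
  -- the Sylow `p`-subgroup has index two
  obtain ⟨P⟩ : Nonempty (Sylow p G) := inferInstance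
  obtain ⟨b, hb⟩ := IsPGroup.exists_card_eq P.2
  have hcop2 : Nat.Coprime 2 p := (Nat.coprime_primes Nat.prime_two hp).2 (Ne.symm hp2)
  have hmul := (P : Subgroup G).card_mul_index
  have hidx0 : (P : Subgroup G).index ≠ 0 := Subgroup.index_ne_zero_of_finite
  have hidxN : (P : Subgroup G).index ∣ Nat.card G := Subgroup.index_dvd_card _
  have hnd : ¬ p ∣ (P : Subgroup G).index := Sylow.not_dvd_index P
  have h2idx : 2 ∣ (P : Subgroup G).index := by
    have h1 : 2 ∣ Nat.card (P : Subgroup G) * (P : Subgroup G).index := hmul ▸ h2N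
    have h2 : Nat.Coprime 2 (Nat.card (P : Subgroup G)) := by
      rw [hb]; exact Nat.Coprime.pow_right b hcop2
    exact h2.dvd_of_dvd_mul_left h1
  have hidx : (P : Subgroup G).index = 2 := by
    have h1 := Nat.eq_prime_pow_of_unique_prime_dvd (p := 2) hidx0 (by
      intro d hd hdd
      by_contra hd2
      have hdN : d ∣ Nat.card G := dvd_trans hdd hidxN
      by_cases hdp : d = p
      · exact hnd (hdp ▸ hdd)
      · exact H.unique_odd hd hp hd2 hp2 hdp hdN hpN)
    set k := ((P : Subgroup G).index).primeFactorsList.length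
    have hk : k ≤ 1 := by
      by_contra hk
      rw [not_le] at hk
      apply h4N
      refine dvd_trans ?_ hidxN
      rw [h1]
      exact pow_dvd_pow 2 hk
    interval_cases k
    · rw [h1] at h2idx
      norm_num at h2idx
    · simpa using h1
  haveI hPn : (P : Subgroup G).Normal := Subgroup.normal_of_index_eq_two hidx
  have hcard : Nat.card G = Nat.card (P : Subgroup G) * 2 := by rw [← hmul, hidx]
  -- exponent of P
  have hno : ¬ ∃ x : G, orderOf x = p ^ (1 + 1) := by
    intro hx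
    exact (s_ne_zero_iff _).2 hx hSp2
  have hPall : ∀ x : (P : Subgroup G), x ^ p = 1 := by
    intro x
    have h1 : orderOf (x : G) ∣ p ^ 1 := by
      apply order_dvd_of (x : G) p 1 _ hno
      intro r hr hrx
      obtain ⟨j, hj⟩ := (IsPGroup.iff_orderOf.1 P.2) x
      rw [Subgroup.orderOf_coe, hj] at hrx
      exact (Nat.prime_dvd_prime_iff_eq hr hp).1 (hr.dvd_of_dvd_pow hrx)
    rw [pow_one, Subgroup.orderOf_coe] at h1
    exact orderOf_dvd_iff_pow_eq_one.1 h1
  have hPexp : Monoid.exponent (P : Subgroup G) = p := by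
    have hd : Monoid.exponent (P : Subgroup G) ∣ p := Monoid.exponent_dvd_of_forall_pow_eq_one hPall
    rcases (Nat.dvd_prime hp).1 hd with h1 | h1
    · exfalso
      have hsub : Subsingleton (P : Subgroup G) := Monoid.exp_eq_one_iff.1 h1
      have h2 : Nat.card (P : Subgroup G) = 1 := Nat.card_unique
      rw [h2, one_mul] at hcard
      rw [hcard] at hpN
      exact hp2 ((Nat.prime_dvd_prime_iff_eq hp Nat.prime_two).1 hpN)
    · exact h1
  -- the model in `Type`
  obtain ⟨P', instG, instF, ⟨eP⟩⟩ := exists_type_zero_model (P : Subgroup G)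
  refine ⟨p, P', instG, instF, hp, hp2, IsPGroup.of_equiv P.2 eP, ?_, ?_⟩
  · rw [← Monoid.exponent_eq_of_mulEquiv eP, hPexp]
  · -- the isomorphism
    set Z : Subgroup G := Subgroup.zpowers z with hZ
    have hZcard : Nat.card Z = 2 := by rw [hZ, Nat.card_zpowers, hz]
    have hM2 : Nat.card (Multiplicative (ZMod 2)) = 2 := by
      rw [Nat.card_eq_fintype_card]
      exact ZMod.card 2
    let e1 : Multiplicative (ZMod 2) ≃* Z := mulEquivOfPrimeCardEq (p := 2) hM2 hZcard
    let f : Multiplicative (ZMod 2) →* G := Z.subtype.comp e1.toMonoidHom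
    let g : P' →* G := (P : Subgroup G).subtype.comp eP.symm.toMonoidHom
    have hfZ : ∀ a, f a ∈ Z := fun a => (e1 a).2
    have hgP : ∀ b, g b ∈ (P : Subgroup G) := fun b => (eP.symm b).2
    have hZc : ∀ x ∈ Z, ∀ y : G, Commute x y := by
      intro x hx y
      obtain ⟨k, rfl⟩ := Subgroup.mem_zpowers_iff.1 hx
      exact (hzc y).zpow_left k
    have comm : ∀ a b, Commute (f a) (g b) := fun a b => hZc _ (hfZ a) _
    let φ : Multiplicative (ZMod 2) × P' →* G := f.noncommCoprod g comm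
    have hdisj : ∀ x : G, x ∈ Z → x ∈ (P : Subgroup G) → x = 1 := by
      intro x hxZ hxP
      have h1 : orderOf x ∣ 2 := by
        have := orderOf_dvd_natCard (⟨x, hxZ⟩ : Z)
        rw [hZcard] at this
        rwa [← Subgroup.orderOf_coe] at this
      obtain ⟨j, hj⟩ := (IsPGroup.iff_orderOf.1 P.2) ⟨x, hxP⟩
      rw [← Subgroup.orderOf_coe] at hj
      simp only at hj
      have h2 : orderOf x ∣ p ^ j := by rw [hj]
      have h3 : Nat.Coprime 2 (p ^ j) := Nat.Coprime.pow_right j hcop2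
      have h4 : orderOf x ∣ 1 := by
        have := Nat.dvd_gcd h1 h2
        rwa [h3] at this
      exact orderOf_eq_one_iff.1 (Nat.dvd_one.1 h4)
    have hinj : Function.Injective φ := by
      rw [injective_iff_map_eq_one]
      rintro ⟨a, b⟩ hab
      have hab' : f a * g b = 1 := hab
      have h1 : f a = (g b)⁻¹ := eq_inv_of_mul_eq_one_left hab'
      have h2 : f a = 1 := hdisj _ (hfZ a) (h1 ▸ Subgroup.inv_mem _ (hgP b))
      have h3 : g b = 1 := by rw [h2, one_mul] at hab'; exact hab'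
      have ha : a = 1 := by
        have : (e1 a : G) = ((1 : Z) : G) := h2
        exact e1.injective (by rw [map_one]; exact Subtype.ext this)
      have hb' : b = 1 := by
        have : ((eP.symm b : (P : Subgroup G)) : G) = ((1 : (P : Subgroup G)) : G) := h3
        exact eP.symm.injective (by rw [map_one]; exact Subtype.ext this)
      rw [ha, hb']
      rfl
    have hcardeq : Nat.card (Multiplicative (ZMod 2) × P') = Nat.card G := by
      rw [Nat.card_prod, hM2, hcard, ← Nat.card_congr eP.toEquiv, mul_comm]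
    have hbij : Function.Bijective φ := (Nat.bijective_iff_injective_and_card φ).2 ⟨hinj, hcardeq⟩
    exact ⟨(MulEquiv.ofBijective φ hbij).symm⟩

end group

/-- Let G be a finite group such that the numbers of elements of each order that occurs in G (the numbers #{g : o(g) = m}, m ranging over the element orders of G) take exactly two values, 1 and some n ≠ 1. Then either G is a p-group of exponent p and order at least 3 for some prime p, or G is the quaternion group of order 8, or G is cyclic of order 4, or G ≅ Z₂ × P for a p-group P of exponent p with p an odd prime. -/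
theorem result {G : Type*} [Group G] [Finite G] (n : ℕ) (hn : n ≠ 1) (h : ((fun m : ℕ => Nat.card {g : G // orderOf g = m}) '' Set.range (orderOf : G → ℕ)) = {1, n}) :
    (∃ p : ℕ, p.Prime ∧ IsPGroup p G ∧ 3 ≤ Nat.card G ∧ Monoid.exponent G = p) ∨
      Nonempty (G ≃* QuaternionGroup 2) ∨ (IsCyclic G ∧ Nat.card G = 4) ∨
      (∃ (p : ℕ) (P : Type) (_ : Group P) (_ : Finite P), p.Prime ∧ p ≠ 2 ∧ IsPGroup p P ∧ Monoid.exponent P = p ∧
        Nonempty (G ≃* Multiplicative (ZMod 2) × P)) := by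
  have H := hyp_of n hn h
  have hex : ∃ g : G, s G (orderOf g) = n := by
    have : n ∈ ((fun m : ℕ => Nat.card {g : G // orderOf g = m}) '' Set.range (orderOf : G → ℕ)) := by
      rw [h]; simp
    obtain ⟨m, ⟨g, rfl⟩, hm⟩ := this
    exact ⟨g, hm⟩
  by_cases hodd : ∃ p, p.Prime ∧ p ≠ 2 ∧ p ∣ Nat.card G
  · obtain ⟨p, hp, hp2, hpN⟩ := hodd
    by_cases h2N : 2 ∣ Nat.card G
    · right; right; right
      exact case_mixed H hp hp2 hpN h2N
    · left
      exact case_odd H hp hp2 hpN h2N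
  · have honly : ∀ q, q.Prime → q ≠ 2 → ¬ q ∣ Nat.card G := by
      intro q hq hq2 hqN
      exact hodd ⟨q, hq, hq2, hqN⟩
    by_cases h4 : s G 4 = 0
    · left
      exact case_exp_two H honly h4 hex
    · rcases case_quat H honly h4 with h5 | h5
      · right; left; exact h5
      · right; right; left; exact h5

end Cfsg.Agent.S3995
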