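import Cfsg.Statements.S0141
import Cfsg.Agent.Lib.Helper82.CharSchur

set_option autoImplicit false
open Cfsg

namespace Cfsg.Agent.S0141

/-- For an irreducible complex representation of a finite group and an element g, the size of the class of g times the character value at g, divided by the degree, is an algebraic integer. -/
theorem result {G : Type*} [Group G] [Finite G] {V : Type*} [AddCommGroup V] [Module ℂ V] [FiniteDimensional ℂ V] (ρ : Representation ℂ G V) [ρ.IsIrreducible] (g : G) : IsIntegral ℤ (((Subgroup.centralizer ({g} : Set G)).index : ℂ) * ρ.character g / (Module.finrank ℂ V : ℂ)) := by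
  classical
  have _ : Fintype G := Fintype.ofFinite G
  have key := Cfsg.Agent.Lib.Helper82.isIntegral_sum_classFun_mul_char_div ρ
    (fun z => if IsConj g z then 1 else 0)
    (fun z x => by
      have : IsConj g (x * z * x⁻¹) ↔ IsConj g z := by
        constructor
        · intro h1
          exact h1.trans (isConj_iff.2 ⟨x⁻¹, by group⟩)
        · intro h1
          exact h1.trans (isConj_iff.2 ⟨x, rfl⟩)
      simp only [this])
    (fun z => by split_ifs; exacts [isIntegral_one, isIntegral_zero])
  have hsum : (∑ z : G, (if IsConj g z then (1 : ℂ) else 0) * ρ.character z) =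
      ((Subgroup.centralizer ({g} : Set G)).index : ℂ) * ρ.character g := by
    simp only [ite_mul, one_mul, zero_mul]
    rw [← Finset.sum_filter]
    have h2 : ∀ z ∈ Finset.univ.filter (fun z => IsConj g z), ρ.character z = ρ.character g := by
      intro z hz
      obtain ⟨c, hc⟩ := isConj_iff.1 (Finset.mem_filter.1 hz).2
      rw [← hc, Representation.char_conj]
    rw [Finset.sum_congr rfl h2, Finset.sum_const, nsmul_eq_mul]
    congr 2
    rw [Cfsg.Agent.Lib.Helper82.index_centralizer_eq_card_conj, Nat.card_eq_fintype_card,
      Fintype.card_subtype]
  rw [hsum, Representation.char_one] at key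
  exact key

end Cfsg.Agent.S0141
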