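import Cfsg.Statements.S0142
import Cfsg.Agent.Lib.Helper04.Burnside
import Cfsg.Agent.S0141

set_option autoImplicit false
open Cfsg

namespace Cfsg.Agent.S0142

open Module in
/-- integrality of `χ(g)/χ(1)` under the coprimality hypothesis -/
theorem isIntegral_div {G : Type*} [Group G] [Finite G] {V : Type*} [AddCommGroup V] [Module ℂ V]
    [FiniteDimensional ℂ V] (ρ : Representation ℂ G V) [ρ.IsIrreducible] (g : G)
    (hcop : Nat.Coprime (Module.finrank ℂ V) (Subgroup.centralizer ({g} : Set G)).index) :
    IsIntegral ℤ (ρ.character g / (finrank ℂ V : ℂ)) := by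
  have hn := Cfsg.Agent.Lib.Helper04.finrank_ne_zero_of_irreducible ρ
  have hn' : (finrank ℂ V : ℂ) ≠ 0 := by exact_mod_cast hn
  have h1 := Cfsg.Agent.S0141.result ρ g
  have h2 := Cfsg.Agent.Lib.Helper04.isIntegral_char ρ g
  obtain ⟨a, b, hab⟩ := (Nat.isCoprime_iff_coprime.mpr hcop)
  have e : ρ.character g / (finrank ℂ V : ℂ) =
      (a : ℂ) * ρ.character g + (b : ℂ) *
        (((Subgroup.centralizer ({g} : Set G)).index : ℂ) * ρ.character g / (finrank ℂ V : ℂ)) := by
    have hab' : (a : ℂ) * (finrank ℂ V : ℂ) + (b : ℂ) * ((Subgroup.centralizer ({g} : Set G)).index : ℂ) = 1 := by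
      exact_mod_cast hab
    field_simp
    linear_combination (-(ρ.character g)) * hab'
  rw [e]
  exact (IsIntegral.mul isIntegral_algebraMap h2).add (IsIntegral.mul isIntegral_algebraMap h1)

/-- If the degree of an irreducible complex representation of a finite group is coprime to the size of the conjugacy class of g, then the character at g is zero or has absolute value equal to the degree. -/
theorem result {G : Type*} [Group G] [Finite G] {V : Type*} [AddCommGroup V] [Module ℂ V] [FiniteDimensional ℂ V] (ρ : Representation ℂ G V) [ρ.IsIrreducible] (g : G) (hcop : Nat.Coprime (Module.finrank ℂ V) (Subgroup.centralizer ({g} : Set G)).index) : ρ.character g = 0 ∨ ‖ρ.character g‖ = (Module.finrank ℂ V : ℝ) := by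
  exact Cfsg.Agent.Lib.Helper04.char_eq_zero_or_norm_eq_of_isIntegral_div ρ g
    (Cfsg.Agent.Lib.Helper04.finrank_ne_zero_of_irreducible ρ) (isIntegral_div ρ g hcop)

end Cfsg.Agent.S0142
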