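import Cfsg.Statements.S3994
import Mathlib
import Cfsg.Agent.S3993

set_option autoImplicit false
open Cfsg

namespace Cfsg.Agent.S3994

universe u

lemma nt_aux {N n s p : ℕ} (hN : 0 < N) (hsN : s ∣ N) (hs : ∀ d, d ∣ N → d ∣ n ^ N → d ∣ s)
    (hp : p.Prime) (hpn : p ∣ n) : ¬ p ∣ N / s := by
  intro hpk
  have hspos : 0 < s := Nat.pos_of_dvd_of_pos hsN hN
  have h1 : s * p ∣ N := by
    obtain ⟨t, ht⟩ := hpk
    have : N = s * (N / s) := (Nat.mul_div_cancel' hsN).symm
    rw [this, ht]; exact ⟨t, by ring⟩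
  obtain ⟨j, N', hpN', hN'⟩ := Nat.exists_eq_pow_mul_and_not_dvd hN.ne' p hp.ne_one
  have hjN : j < N := by
    calc j < 2 ^ j := Nat.lt_two_pow_self
      _ ≤ p ^ j := Nat.pow_le_pow_left hp.two_le j
      _ ≤ N := Nat.le_of_dvd hN ⟨N', hN'⟩
  have h2 : p ^ j ∣ s := by
    apply hs _ ⟨N', hN'⟩
    exact (pow_dvd_pow_of_dvd hpn j).trans (pow_dvd_pow n hjN.le)
  obtain ⟨s', hs'⟩ := h2
  have h3 : p ^ j * (s' * p) ∣ p ^ j * N' := by
    rw [← hN', ← mul_assoc, ← hs']; exact h1
  have h4 : s' * p ∣ N' := Nat.dvd_of_mul_dvd_mul_left (pow_pos hp.pos j) h3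
  exact hpN' ((Dvd.intro_left _ rfl).trans h4)

lemma nt (N n : ℕ) (hN : 0 < N) :
    Nat.gcd N (n ^ N) * (N / Nat.gcd N (n ^ N)) = N ∧
    Nat.Coprime n (N / Nat.gcd N (n ^ N)) ∧
    Nat.Coprime (Nat.gcd N (n ^ N)) (N / Nat.gcd N (n ^ N)) := by
  have hsN : Nat.gcd N (n ^ N) ∣ N := Nat.gcd_dvd_left _ _
  have hs : ∀ d, d ∣ N → d ∣ n ^ N → d ∣ Nat.gcd N (n ^ N) := fun d h1 h2 => Nat.dvd_gcd h1 h2
  refine ⟨Nat.mul_div_cancel' hsN, ?_, ?_⟩
  · apply Nat.coprime_of_dvd
    intro p hp hpn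
    exact nt_aux hN hsN hs hp hpn
  · apply Nat.coprime_of_dvd
    intro p hp hps
    have hpn : p ∣ n := hp.dvd_of_dvd_pow (hps.trans (Nat.gcd_dvd_right _ _))
    exact nt_aux hN hsN hs hp hpn


open Cfsg.Agent.S3993 in
lemma fiber_card' {G : Type u} [Group G] [Fintype G] [DecidableEq G] {s k e : ℕ}
    (hq1 : e ≡ 1 [MOD s]) (hke : k ∣ e) (y : G) (hy : y ^ s = 1) :
    (Finset.univ.filter (fun x : G => x ^ (s * k) = 1 ∧ x ^ e = y)).card
      = Nat.card {z : Subgroup.centralizer {y} // z ^ k = 1} := by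
  rw [← Fintype.card_subtype, ← Nat.card_eq_fintype_card]
  refine Nat.card_congr ⟨fun x => ⟨⟨y⁻¹ * x.1, ?_⟩, ?_⟩, fun z => ⟨y * z.1.1, ?_⟩, ?_, ?_⟩
  · obtain ⟨x, hx1, hx3⟩ := x
    rw [Subgroup.mem_centralizer_iff]
    intro h hh
    rw [Set.mem_singleton_iff] at hh
    subst hh
    have hc : Commute (x ^ e) ((x ^ e)⁻¹ * x) :=
      Commute.mul_right (Commute.refl _).inv_right (Commute.pow_self x e)
    rw [hx3] at hc
    exact hc.eq
  · obtain ⟨x, hx1, hx3⟩ := x
    have := z_pow_eq_one hq1 x hx1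
    rw [hx3] at this
    ext
    simpa using this
  · obtain ⟨⟨z, hzc⟩, hz⟩ := z
    have hzm : z ^ k = 1 := by simpa using congrArg Subtype.val hz
    have hc : Commute y z := by
      rw [Subgroup.mem_centralizer_iff] at hzc
      exact hzc y rfl
    refine ⟨?_, ?_⟩
    · change (y * z) ^ (s * k) = 1
      rw [hc.mul_pow, pow_mul, hy, one_pow, mul_comm s k, pow_mul, hzm, one_pow, one_mul]
    · change (y * z) ^ e = y
      rw [hc.mul_pow]
      obtain ⟨j, hj⟩ := hke
      have h1 : z ^ e = 1 := by rw [hj, pow_mul, hzm, one_pow]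
      have h2 : y ^ e = y ^ 1 := by
        rw [pow_eq_pow_iff_modEq]
        exact hq1.of_dvd (orderOf_dvd_of_pow_eq_one hy)
      rw [h1, h2, pow_one, mul_one]
  · intro x
    ext
    simp
  · intro z
    ext
    simp

open Cfsg.Agent.S3993 in
/-- `n ∣ orderOf x` can be read off the `s`-part `x ^ e`. -/
lemma dvd_order_part {G : Type u} [Group G] {n s k e : ℕ}
    (hnk : Nat.Coprime n k) (hsk : Nat.Coprime s k)
    (hq1 : e ≡ 1 [MOD s]) (hke : k ∣ e) (x : G) (hx : x ^ (s * k) = 1)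
    (hn : n ∣ orderOf x) : n ∣ orderOf (x ^ e) := by
  have hy := y_pow_eq_one hke x hx
  have hz := z_pow_eq_one hq1 x hx
  have hc : Commute (x ^ e) ((x ^ e)⁻¹ * x) :=
    Commute.mul_right (Commute.refl _).inv_right (Commute.pow_self x e)
  have hxe : x = x ^ e * ((x ^ e)⁻¹ * x) := by group
  have hoy : orderOf (x ^ e) ∣ s := orderOf_dvd_of_pow_eq_one hy
  have hoz : orderOf ((x ^ e)⁻¹ * x) ∣ k := orderOf_dvd_of_pow_eq_one hz
  have hcop : Nat.Coprime (orderOf (x ^ e)) (orderOf ((x ^ e)⁻¹ * x)) :=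
    Nat.Coprime.coprime_dvd_left hoy (Nat.Coprime.coprime_dvd_right hoz hsk)
  have hmul := hc.orderOf_mul_eq_mul_orderOf_of_coprime hcop
  rw [← hxe] at hmul
  rw [hmul] at hn
  exact (Nat.Coprime.coprime_dvd_right hoz hnk).dvd_of_dvd_mul_right hn


open Cfsg.Agent.S3993 in
lemma weisner {G : Type u} [Group G] [Finite G] (n : ℕ) :
    (Nat.card G / Nat.gcd (Nat.card G) (n ^ Nat.card G)) ∣ Nat.card {g : G // n ∣ orderOf g} := by
  classical
  have := Fintype.ofFinite G
  have hN : 0 < Nat.card G := Nat.card_pos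
  obtain ⟨hsk, hnk, hcop⟩ := nt (Nat.card G) n hN
  generalize Nat.gcd (Nat.card G) (n ^ Nat.card G) = s at hsk hnk hcop ⊢
  generalize hk : Nat.card G / s = k at hsk hnk hcop ⊢
  obtain ⟨e, hq1, he0⟩ := Nat.chineseRemainder hcop 1 0
  have hke : k ∣ e := (Nat.modEq_zero_iff_dvd).1 he0
  have hall : ∀ x : G, x ^ (s * k) = 1 := fun x => by rw [hsk]; exact pow_card_eq_one'
  rw [Nat.card_eq_fintype_card, Fintype.card_subtype,
    Finset.card_eq_sum_card_fiberwise (f := fun x : G => x ^ e) (t := Finset.univ)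
    (fun _ _ => Finset.mem_univ _)]
  apply class_sum_dvd
  · intro t y
    symm
    apply Finset.card_equiv (MulAut.conj t).toEquiv
    intro x
    have ho : orderOf (t * x * t⁻¹) = orderOf x := (MulAut.conj t).orderOf_eq x
    simp only [Finset.mem_filter, Finset.mem_univ, true_and, MulEquiv.toEquiv_eq_coe,
      MulEquiv.coe_toEquiv, MulAut.conj_apply, conj_pow, mul_left_inj,
      mul_right_inj, ho]
  · intro y
    rw [Finset.filter_filter]
    by_cases hne : (Finset.univ.filter (fun x : G => n ∣ orderOf x ∧ x ^ e = y)).Nonempty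
    · obtain ⟨x₀, hx₀⟩ := hne
      simp only [Finset.mem_filter, Finset.mem_univ, true_and] at hx₀
      obtain ⟨hx1, hx3⟩ := hx₀
      have hys : y ^ s = 1 := by rw [← hx3]; exact y_pow_eq_one hke x₀ (hall x₀)
      have hny : n ∣ orderOf y := by
        rw [← hx3]; exact dvd_order_part hnk hcop hq1 hke x₀ (hall x₀) hx1
      have hset : (Finset.univ.filter (fun x : G => n ∣ orderOf x ∧ x ^ e = y)) =
          Finset.univ.filter (fun x : G => x ^ (s * k) = 1 ∧ x ^ e = y) := by
        ext x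
        simp only [Finset.mem_filter, Finset.mem_univ, true_and, hall x]
        constructor
        · rintro ⟨_, h⟩; exact h
        · intro h
          refine ⟨?_, h⟩
          rw [← h] at hny
          exact hny.trans (orderOf_pow_dvd e)
      rw [hset, fiber_card' hq1 hke y hys]
      have h1 := frob_gcd (frob_all _ (Subgroup.centralizer {y}) rfl) k
      have h2 : k ∣ (Subgroup.centralizer {y}).index *
          Nat.gcd k (Nat.card (Subgroup.centralizer {y})) := by
        rw [← Nat.gcd_mul_left]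
        apply Nat.dvd_gcd (Dvd.intro_left _ rfl)
        rw [Subgroup.index_mul_card, ← hsk]
        exact Dvd.intro_left _ rfl
      exact h2.trans (Nat.mul_dvd_mul_left _ h1)
    · rw [Finset.not_nonempty_iff_eq_empty] at hne
      rw [hne, Finset.card_empty, mul_zero]
      exact dvd_zero _

/-- Let G be a finite group and n a positive integer. The number of elements of G whose order is divisible by n is either 0 or divisible by the largest divisor of the order of G that is coprime to n. -/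
theorem result {G : Type*} [Group G] [Finite G] (n : ℕ) (hn : 0 < n) :
    Nat.card {g : G // n ∣ orderOf g} = 0 ∨
      (Nat.card G / Nat.gcd (Nat.card G) (n ^ Nat.card G)) ∣ Nat.card {g : G // n ∣ orderOf g} := by
  exact Or.inr (weisner n)

end Cfsg.Agent.S3994
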