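import Cfsg.Statements.S0990
import Mathlib

set_option autoImplicit false
open Cfsg

namespace Cfsg.Agent.S0990

/-- Let p be an odd prime and P a Sylow p-subgroup of the symmetric group on a finite set with at least two elements. Then P is contained in the alternating group, and twice the order of the normalizer of P inside the alternating group equals the order of the normalizer of P in the symmetric group. -/
theorem result {α : Type*} [Fintype α] [DecidableEq α] (hα : 2 ≤ Fintype.card α) (p : ℕ) [Fact p.Prime] (hp : p ≠ 2) (P : Sylow p (Equiv.Perm α)) : (P : Subgroup (Equiv.Perm α)) ≤ alternatingGroup α ∧ 2 * Nat.card ↥(Subgroup.normalizer ((((P : Subgroup (Equiv.Perm α)).subgroupOf (alternatingGroup α) : Subgroup ↥(alternatingGroup α)) : Set ↥(alternatingGroup α)))) = Nat.card ↥(Subgroup.normalizer ((P : Subgroup (Equiv.Perm α)) : Set (Equiv.Perm α))) := by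
  have hpp : p.Prime := Fact.out
  have hodd : Odd p := hpp.odd_of_ne_two hp
  have hPA : (P : Subgroup (Equiv.Perm α)) ≤ alternatingGroup α := by
    intro σ hσ
    rw [Equiv.Perm.mem_alternatingGroup]
    obtain ⟨k, hk⟩ := (IsPGroup.iff_orderOf.mp P.2) ⟨σ, hσ⟩
    have h1 : σ ^ (p ^ k) = 1 := by
      have := pow_orderOf_eq_one (⟨σ, hσ⟩ : ↥(P : Subgroup (Equiv.Perm α)))
      rw [hk] at this
      exact congrArg Subtype.val this
    have h2 : (Equiv.Perm.sign σ) ^ (p ^ k) = 1 := by
      rw [← map_pow, h1, map_one]
    rcases Int.units_eq_one_or (Equiv.Perm.sign σ) with h | h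
    · exact h
    · exfalso
      rw [h, (hodd.pow).neg_one_pow] at h2
      exact absurd h2 (by decide)
  refine ⟨hPA, ?_⟩
  have : Nontrivial α := Fintype.one_lt_card_iff_nontrivial.mp hα
  set N := Subgroup.normalizer ((P : Subgroup (Equiv.Perm α)) : Set (Equiv.Perm α)) with hN
  have hfr : N ⊔ alternatingGroup α = ⊤ := Sylow.normalizer_sup_eq_top' P hPA
  have h1 : (alternatingGroup α).relIndex N = 2 := by
    rw [← Subgroup.relIndex_sup_right, hfr, Subgroup.relIndex_top_right,
      alternatingGroup.index_eq_two]
  rw [← Subgroup.subgroupOf_normalizer_eq hPA]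
  have h2 : Nat.card ↥(N.subgroupOf (alternatingGroup α)) =
      Nat.card ↥((alternatingGroup α).subgroupOf N) := by
    rw [← Subgroup.inf_subgroupOf_right N (alternatingGroup α),
      ← Subgroup.inf_subgroupOf_right (alternatingGroup α) N]
    rw [Nat.card_congr (Subgroup.subgroupOfEquivOfLe
      (inf_le_right : N ⊓ alternatingGroup α ≤ alternatingGroup α)).toEquiv]
    rw [Nat.card_congr (Subgroup.subgroupOfEquivOfLe
      (inf_le_right : alternatingGroup α ⊓ N ≤ N)).toEquiv]
    rw [inf_comm]
  rw [h2, ← Subgroup.card_mul_index ((alternatingGroup α).subgroupOf N)]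
  rw [Subgroup.relIndex] at h1
  rw [h1, mul_comm]

end Cfsg.Agent.S0990
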