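import Cfsg.Statements.S0740

set_option autoImplicit false
open Cfsg

namespace Cfsg.Agent.S0740

section
variable {G Ω : Type*} [Group G] [MulAction G Ω]

theorem orderOf_two_iff (s : G) : orderOf s = 2 ↔ s * s = 1 ∧ s ≠ 1 := by
  have : Fact (Nat.Prime 2) := ⟨Nat.prime_two⟩
  rw [orderOf_eq_prime_iff, pow_two]

/-- A non-identity element of a Zassenhaus group has at most two fixed points. -/
theorem card_fixedBy_le_two [Fintype Ω] (hZ : Cfsg.IsZassenhausGroup G Ω) (s : G) (hs : s ≠ 1) :
    Nat.card (MulAction.fixedBy Ω s) ≤ 2 := by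
  classical
  by_contra hcon
  push Not at hcon
  rw [Nat.card_coe_set_eq] at hcon
  obtain ⟨x, y, z, hx, hy, hz, hxy, hxz, hyz⟩ := (Set.two_lt_ncard_iff (Set.toFinite _)).mp hcon
  exact hs (hZ.2.2.1 s x y z hxy hyz hxz hx hy hz)

/-- conjugating an involution to swap two given points. -/
theorem exists_conj_swap (hZ : Cfsg.IsZassenhausGroup G Ω) {a b : Ω} (hab : a ≠ b) (t : G)
    (ht : orderOf t = 2) :
    ∃ h : G, orderOf (h * t * h⁻¹) = 2 ∧ (h * t * h⁻¹) • a = b ∧ (h * t * h⁻¹) • b = a ∧
      ∀ x : Ω, t • x = x → (h * t * h⁻¹) • (h • x) = h • x := by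
  obtain ⟨htt, ht1⟩ := (orderOf_two_iff t).mp ht
  have hfaith := hZ.1
  obtain ⟨c, hc⟩ : ∃ c : Ω, t • c ≠ c := by
    by_contra hcon
    push Not at hcon
    apply ht1
    apply hfaith.eq_of_smul_eq_smul
    intro x
    rw [hcon x, one_smul]
  have hte : t • (t • c) = c := by rw [← mul_smul, htt, one_smul]
  obtain ⟨h, hh1, hh2⟩ := MulAction.is_two_pretransitive_iff.mp hZ.2.1 hc.symm hab
  refine ⟨h, ?_, ?_, ?_, ?_⟩
  · rw [orderOf_two_iff]
    constructor
    · have : h * t * h⁻¹ * (h * t * h⁻¹) = h * (t * t) * h⁻¹ := by group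
      rw [this, htt]; group
    · intro h1
      apply ht1
      have : t = h⁻¹ * (h * t * h⁻¹) * h := by group
      rw [this, h1]; group
  · rw [mul_smul, mul_smul, ← hh1, inv_smul_smul, hh2]
  · rw [mul_smul, mul_smul, ← hh2, inv_smul_smul, hte, hh1]
  · intro x hx
    rw [mul_smul, mul_smul, inv_smul_smul, hx]

theorem card_fixedBy_modEq [Fintype Ω] (s : G) (hs : orderOf s = 2) :
    Fintype.card Ω ≡ Nat.card (MulAction.fixedBy Ω s) [MOD 2] := by
  classical
  have : Fact (Nat.Prime 2) := ⟨Nat.prime_two⟩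
  obtain ⟨hss, _⟩ := (orderOf_two_iff s).mp hs
  let f : Function.End Ω := fun x => s • x
  have hf : f ^ 2 ^ 1 = 1 := by
    rw [pow_one, pow_two]
    funext x
    show s • (s • x) = x
    rw [← mul_smul, hss, one_smul]
  have := Equiv.Perm.card_fixedPoints_modEq (p := 2) (n := 1) hf
  rw [Nat.card_eq_fintype_card]
  exact this

end

/-- In a finite Zassenhaus group any two points `a ≠ b` are swapped by an involution; every such involution has exactly one fixed point when the degree is odd and 0 or 2 fixed points when the degree is even; and if the two-point stabiliser has even order, some such involution has exactly 2 fixed points. -/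
theorem result {G Ω : Type*} [Group G] [Finite G] [MulAction G Ω] [Fintype Ω] (hZ : Cfsg.IsZassenhausGroup G Ω) {a b : Ω} (hab : a ≠ b) : (∃ s : G, orderOf s = 2 ∧ s • a = b ∧ s • b = a) ∧ (∀ s : G, orderOf s = 2 → s • a = b → s • b = a → (Odd (Fintype.card Ω) → Nat.card (MulAction.fixedBy Ω s) = 1) ∧ (Even (Fintype.card Ω) → Nat.card (MulAction.fixedBy Ω s) = 0 ∨ Nat.card (MulAction.fixedBy Ω s) = 2)) ∧ (Even (Fintype.card Ω) → Even (Nat.card ↥(MulAction.stabilizer G a ⊓ MulAction.stabilizer G b)) → ∃ s : G, orderOf s = 2 ∧ s • a = b ∧ s • b = a ∧ Nat.card (MulAction.fixedBy Ω s) = 2) := by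
  classical
  have : Fact (Nat.Prime 2) := ⟨Nat.prime_two⟩
  -- part 2 as a standalone fact
  have part2 : ∀ s : G, orderOf s = 2 →
      (Odd (Fintype.card Ω) → Nat.card (MulAction.fixedBy Ω s) = 1) ∧ (Even (Fintype.card Ω) → Nat.card (MulAction.fixedBy Ω s) = 0 ∨ Nat.card (MulAction.fixedBy Ω s) = 2) := by
    intro s hs
    have hs1 : s ≠ 1 := ((orderOf_two_iff s).mp hs).2
    have hle := card_fixedBy_le_two hZ s hs1
    have hmod := card_fixedBy_modEq (Ω := Ω) s hs
    unfold Nat.ModEq at hmod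
    constructor
    · intro hodd
      rw [Nat.odd_iff] at hodd
      omega
    · intro heven
      rw [Nat.even_iff] at heven
      omega
  -- existence of an involution in G
  have hex : ∃ t : G, orderOf t = 2 := by
    obtain ⟨g, hg1, hg2⟩ := MulAction.is_two_pretransitive_iff.mp hZ.2.1 hab hab.symm
    have hpow : ∀ k : ℕ, g ^ k • a = if Even k then a else b := by
      intro k
      induction k with
      | zero => simp
      | succ k ih =>
        rw [pow_succ', mul_smul, ih]
        by_cases hk : Even k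
        · rw [if_pos hk, hg1, if_neg (by rw [Nat.even_add_one]; exact not_not.mpr hk)]
        · rw [if_neg hk, hg2, if_pos (by rw [Nat.even_add_one]; exact hk)]
    have heven : Even (orderOf g) := by
      by_contra hne
      have := hpow (orderOf g)
      rw [pow_orderOf_eq_one, one_smul, if_neg hne] at this
      exact hab this
    have h2dvd : 2 ∣ Nat.card G := heven.two_dvd.trans (orderOf_dvd_natCard g)
    exact exists_prime_orderOf_dvd_card' 2 h2dvd
  refine ⟨?_, ?_, ?_⟩
  · obtain ⟨t, ht⟩ := hex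
    obtain ⟨h, h1, h2, h3, _⟩ := exists_conj_swap hZ hab t ht
    exact ⟨_, h1, h2, h3⟩
  · intro s hs _ _
    exact part2 s hs
  · intro hevenΩ hevenH
    obtain ⟨z, hz⟩ := exists_prime_orderOf_dvd_card' (G := ↥(MulAction.stabilizer G a ⊓ MulAction.stabilizer G b)) 2 hevenH.two_dvd
    have hz' : orderOf (z : G) = 2 := by rw [Subgroup.orderOf_coe]; exact hz
    have hza : (z : G) • a = a := (Subgroup.mem_inf.mp z.2).1
    obtain ⟨h, h1, h2, h3, h4⟩ := exists_conj_swap hZ hab (z : G) hz'
    refine ⟨_, h1, h2, h3, ?_⟩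
    rcases (part2 _ h1).2 hevenΩ with h0 | h2'
    · exfalso
      have hmem : h • a ∈ MulAction.fixedBy Ω (h * (z : G) * h⁻¹) := h4 a hza
      have : Nonempty (MulAction.fixedBy Ω (h * (z : G) * h⁻¹)) := ⟨⟨_, hmem⟩⟩
      have := Nat.card_pos (α := MulAction.fixedBy Ω (h * (z : G) * h⁻¹))
      omega
    · exact h2'

end Cfsg.Agent.S0740
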