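import Cfsg.Statements.S0741
import Cfsg.Agent.S0740

set_option autoImplicit false
open Cfsg

namespace Cfsg.Agent.S0741

open MulAction Cfsg.Agent.S0740

section
variable {G Ω : Type*} [Group G] [MulAction G Ω]

/-- Two-point stabilizers all have the same cardinality. -/
theorem card_stab_pair (hZ : Cfsg.IsZassenhausGroup G Ω) {a b c e : Ω} (hab : a ≠ b) (hce : c ≠ e) :
    Nat.card ↥(stabilizer G c ⊓ stabilizer G e) = Nat.card ↥(stabilizer G a ⊓ stabilizer G b) := by
  obtain ⟨g, rfl, rfl⟩ := is_two_pretransitive_iff.mp hZ.2.1 hab hce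
  rw [stabilizer_smul_eq_stabilizer_map_conj, stabilizer_smul_eq_stabilizer_map_conj,
    ← Subgroup.map_inf_eq _ _ _ (MulAut.conj g).injective]
  exact Subgroup.card_map_of_injective (MulAut.conj g).injective

/-- the set of elements swapping c and e has at most as many elements as the two point stabiliser. -/
theorem card_swappers_le [Fintype G] [DecidableEq Ω] (c e : Ω) :
    (Finset.univ.filter (fun t : G => t • c = e ∧ t • e = c)).card ≤
      Nat.card ↥(stabilizer G c ⊓ stabilizer G e) := by
  classical
  rcases (Finset.univ.filter (fun t : G => t • c = e ∧ t • e = c)).eq_empty_or_nonempty with h | h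
  · rw [h]; simp
  · obtain ⟨t0, ht0⟩ := h
    obtain ⟨h0c, h0e⟩ := (Finset.mem_filter.mp ht0).2
    have h0c' : t0⁻¹ • e = c := by rw [← h0c, inv_smul_smul]
    have h0e' : t0⁻¹ • c = e := by rw [← h0e, inv_smul_smul]
    rw [Nat.card_eq_fintype_card, ← Finset.card_univ]
    let f : G → ↥(stabilizer G c ⊓ stabilizer G e) := fun t =>
      if h : t • c = e ∧ t • e = c then ⟨t0⁻¹ * t, by
        rw [Subgroup.mem_inf, mem_stabilizer_iff, mem_stabilizer_iff, mul_smul, mul_smul, h.1, h.2]
        exact ⟨h0c', h0e'⟩⟩ else 1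
    apply Finset.card_le_card_of_injOn f (fun _ _ => Finset.mem_univ _)
    intro t ht t' ht'
    have h1 := (Finset.mem_filter.mp ht).2
    have h2 := (Finset.mem_filter.mp ht').2
    intro hff
    simp only [f, dif_pos h1, dif_pos h2, Subtype.mk.injEq] at hff
    exact mul_left_cancel hff

theorem fixedFin_eq_pair [Fintype Ω] [DecidableEq Ω] (hZ : Cfsg.IsZassenhausGroup G Ω) (t : G)
    (ht : t ≠ 1) {c e : Ω} (hce : c ≠ e) (hc : t • c = c) (he : t • e = e) :
    Finset.univ.filter (fun x : Ω => t • x = x) = {c, e} := by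
  ext x
  simp only [Finset.mem_filter, Finset.mem_univ, true_and, Finset.mem_insert, Finset.mem_singleton]
  constructor
  · intro hx
    by_contra hcon
    push Not at hcon
    exact ht (hZ.2.2.1 t c e x hce (Ne.symm hcon.2) (Ne.symm hcon.1) hc he hx)
  · rintro (rfl | rfl)
    · exact hc
    · exact he

end

/-- If the two-point stabilisers of a finite Zassenhaus group of degree `n + 1` have even order `d`, then `2d ≥ n - 1`. -/
theorem result {G Ω : Type*} [Group G] [Finite G] [MulAction G Ω] [Fintype Ω] (hZ : Cfsg.IsZassenhausGroup G Ω) {a b : Ω} (hab : a ≠ b) (heven : Even (Nat.card ↥(MulAction.stabilizer G a ⊓ MulAction.stabilizer G b))) : Fintype.card Ω - 2 ≤ 2 * Nat.card ↥(MulAction.stabilizer G a ⊓ MulAction.stabilizer G b) := by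
  classical
  have : Fact (Nat.Prime 2) := ⟨Nat.prime_two⟩
  have := Fintype.ofFinite G
  set d := Nat.card ↥(MulAction.stabilizer G a ⊓ MulAction.stabilizer G b) with hd
  set N := Fintype.card Ω with hN
  -- the involution z
  obtain ⟨z0, hz0⟩ := exists_prime_orderOf_dvd_card' (G := ↥(MulAction.stabilizer G a ⊓ MulAction.stabilizer G b)) 2 heven.two_dvd
  obtain ⟨z, hz, hza, hzb⟩ : ∃ z : G, orderOf z = 2 ∧ z • a = a ∧ z • b = b :=
    ⟨(z0 : G), by rw [Subgroup.orderOf_coe]; exact hz0, (Subgroup.mem_inf.mp z0.2).1,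
      (Subgroup.mem_inf.mp z0.2).2⟩
  obtain ⟨hzz, hz1⟩ := (orderOf_two_iff z).mp hz
  -- the set C
  set C : Finset G := Finset.univ.filter
    (fun t : G => orderOf t = 2 ∧ (Finset.univ.filter (fun x : Ω => t • x = x)).card = 2) with hC
  -- the set X
  set X : Finset (Σ _ : G, Ω) := C.sigma (fun t => Finset.univ.filter (fun c : Ω => ¬ (t • c = c)))
    with hX
  have hXcard : X.card = C.card * (N - 2) := by
    rw [hX, Finset.card_sigma, Finset.sum_const_nat]
    intro t ht
    have h2 := (Finset.mem_filter.mp ht).2.2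
    have := Finset.card_filter_add_card_filter_not (s := (Finset.univ : Finset Ω)) (fun x : Ω => t • x = x)
    rw [Finset.card_univ] at this
    omega
  -- bound 2
  have hbound2 : X.card ≤ d * (N * N - N) := by
    have hoff : (Finset.univ : Finset Ω).offDiag.card = N * N - N := by
      rw [Finset.offDiag_card, Finset.card_univ]
    rw [← hoff]
    apply Finset.card_le_mul_card_image_of_maps_to (f := fun x : (Σ _ : G, Ω) => (x.2, x.1 • x.2))
    · intro x hx
      rw [hX, Finset.mem_sigma] at hx
      have := (Finset.mem_filter.mp hx.2).2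
      rw [Finset.mem_offDiag]
      exact ⟨Finset.mem_univ _, Finset.mem_univ _, fun h => this h.symm⟩
    · rintro ⟨c, e⟩ hp
      have hce : c ≠ e := (Finset.mem_offDiag.mp hp).2.2
      calc (X.filter (fun x => (x.2, x.1 • x.2) = (c, e))).card
          ≤ (Finset.univ.filter (fun t : G => t • c = e ∧ t • e = c)).card := by
            apply Finset.card_le_card_of_injOn (fun x => x.1)
            · intro x hx
              obtain ⟨hxX, hxp⟩ := Finset.mem_filter.mp hx
              rw [hX, Finset.mem_sigma] at hxX
              have hord := (Finset.mem_filter.mp hxX.1).2.1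
              obtain ⟨hsq, _⟩ := (orderOf_two_iff x.1).mp hord
              simp only [Prod.mk.injEq] at hxp
              obtain ⟨h1, h2⟩ := hxp
              rw [h1] at h2
              simp only [Finset.coe_filter, Finset.mem_univ, true_and, Set.mem_ofPred_eq]
              refine ⟨h2, ?_⟩
              rw [← h2, ← mul_smul, hsq, one_smul]
            · intro x hx x' hx' hxx'
              have h1 := (Finset.mem_filter.mp (Finset.mem_coe.mp hx)).2
              have h2 := (Finset.mem_filter.mp (Finset.mem_coe.mp hx')).2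
              simp only [Prod.mk.injEq] at h1 h2
              obtain ⟨t, c1⟩ := x
              obtain ⟨t', c2⟩ := x'
              simp only at hxx' h1 h2
              subst hxx'
              rw [h1.1, h2.1]
        _ ≤ Nat.card ↥(stabilizer G c ⊓ stabilizer G e) := card_swappers_le c e
        _ = d := card_stab_pair hZ hab hce
  -- bound 3
  have hbound3 : N * N - N ≤ 2 * C.card := by
    have hoff : (Finset.univ : Finset Ω).offDiag.card = N * N - N := by
      rw [Finset.offDiag_card, Finset.card_univ]
    rw [← hoff]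
    have H : ∀ p : Ω × Ω, p.1 ≠ p.2 → ∃ g : G, g • a = p.1 ∧ g • b = p.2 :=
      fun p hp => is_two_pretransitive_iff.mp hZ.2.1 hab hp
    choose! g hg using H
    set τ : Ω × Ω → G := fun p => g p * z * (g p)⁻¹ with hτ
    have hτ1 : ∀ p : Ω × Ω, p.1 ≠ p.2 → τ p • p.1 = p.1 := by
      intro p hp
      obtain ⟨h1, h2⟩ := hg p hp
      conv_lhs => rw [← h1]
      simp only [hτ, mul_smul, inv_smul_smul, hza]
      exact h1
    have hτ2 : ∀ p : Ω × Ω, p.1 ≠ p.2 → τ p • p.2 = p.2 := by
      intro p hp
      obtain ⟨h1, h2⟩ := hg p hp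
      conv_lhs => rw [← h2]
      simp only [hτ, mul_smul, inv_smul_smul, hzb]
      exact h2
    have hτord : ∀ p : Ω × Ω, orderOf (τ p) = 2 := by
      intro p
      rw [orderOf_two_iff]
      constructor
      · have : τ p * τ p = g p * (z * z) * (g p)⁻¹ := by simp only [hτ]; group
        rw [this, hzz]; group
      · intro h1
        apply hz1
        have : z = (g p)⁻¹ * τ p * g p := by simp only [hτ]; group
        rw [this, h1]; group
    have hτfix : ∀ p : Ω × Ω, p.1 ≠ p.2 →
        Finset.univ.filter (fun x : Ω => τ p • x = x) = {p.1, p.2} := by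
      intro p hp
      exact fixedFin_eq_pair hZ (τ p) ((orderOf_two_iff _).mp (hτord p)).2 hp (hτ1 p hp) (hτ2 p hp)
    apply Finset.card_le_mul_card_image_of_maps_to (f := τ)
    · intro p hp
      have hp' : p.1 ≠ p.2 := (Finset.mem_offDiag.mp hp).2.2
      rw [hC, Finset.mem_filter]
      refine ⟨Finset.mem_univ _, hτord p, ?_⟩
      rw [hτfix p hp', Finset.card_pair hp']
    · intro t _
      rcases (Finset.univ.offDiag.filter (fun p : Ω × Ω => τ p = t)).eq_empty_or_nonempty with h | h
      · rw [h]; simp
      · obtain ⟨p0, hp0⟩ := h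
        obtain ⟨hp0off, hp0t⟩ := Finset.mem_filter.mp hp0
        have hp0' : p0.1 ≠ p0.2 := (Finset.mem_offDiag.mp hp0off).2.2
        have hsub : Finset.univ.offDiag.filter (fun p : Ω × Ω => τ p = t) ⊆ {p0, p0.swap} := by
          intro p hp
          obtain ⟨hpoff, hpt⟩ := Finset.mem_filter.mp hp
          have hp' : p.1 ≠ p.2 := (Finset.mem_offDiag.mp hpoff).2.2
          have heq : ({p.1, p.2} : Finset Ω) = {p0.1, p0.2} := by
            rw [← hτfix p hp', ← hτfix p0 hp0', hpt, hp0t]
          have h1 : p.1 ∈ ({p0.1, p0.2} : Finset Ω) := by rw [← heq]; simp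
          have h2 : p.2 ∈ ({p0.1, p0.2} : Finset Ω) := by rw [← heq]; simp
          simp only [Finset.mem_insert, Finset.mem_singleton] at h1 h2 ⊢
          rcases h1 with h1 | h1 <;> rcases h2 with h2 | h2
          · exact absurd (h1.trans h2.symm) hp'
          · left; exact Prod.ext h1 h2
          · right; exact Prod.ext h1 h2
          · exact absurd (h1.trans h2.symm) hp'
        calc _ ≤ ({p0, p0.swap} : Finset (Ω × Ω)).card := Finset.card_le_card hsub
          _ ≤ 2 := Finset.card_le_two
  -- arithmetic
  have hN2 : 2 ≤ N := by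
    rw [hN]
    have : ({a, b} : Finset Ω).card ≤ Fintype.card Ω := Finset.card_le_univ _
    rw [Finset.card_pair hab] at this
    exact this
  have hpos : 0 < N * N - N := by
    have : N * N ≥ 2 * N := Nat.mul_le_mul_right N hN2
    omega
  have key : (N * N - N) * (N - 2) ≤ (N * N - N) * (2 * d) := by
    calc (N * N - N) * (N - 2) ≤ (2 * C.card) * (N - 2) := Nat.mul_le_mul_right _ hbound3
      _ = 2 * X.card := by rw [hXcard]; ring
      _ ≤ 2 * (d * (N * N - N)) := Nat.mul_le_mul_left _ hbound2
      _ = (N * N - N) * (2 * d) := by ring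
  exact Nat.le_of_mul_le_mul_left key hpos

end Cfsg.Agent.S0741
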