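import Cfsg.Statements.S0738

set_option autoImplicit false
open Cfsg

namespace Cfsg.Agent.S0738

section abstract
variable {F H : Type*} [Group F] [Finite F] [Group H] [Finite H] (Φ : H →* MulAut F)
  (hsemi : ∀ h : H, ∀ u : F, u ≠ 1 → Φ h u = u → h = 1)

include hsemi in
theorem orbit_inj (u : F) (hu : u ≠ 1) : Function.Injective (fun h : H => Φ h u) := by
  intro h1 h2 h12
  simp only at h12
  have h3 : Φ (h2⁻¹ * h1) u = u := by
    rw [map_mul, MulAut.mul_apply, h12, ← MulAut.mul_apply, ← map_mul, inv_mul_cancel, map_one,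
      MulAut.one_apply]
  have := hsemi _ u hu h3
  exact (inv_mul_eq_one.mp this).symm

include hsemi in
theorem card_le_of_invariant [DecidableEq F] (S : Finset F) (hS : ∀ h : H, ∀ u ∈ S, Φ h u ∈ S)
    (u : F) (hu : u ∈ S) (hu1 : u ≠ 1) : Nat.card H ≤ S.card := by
  classical
  have := Fintype.ofFinite H
  rw [Nat.card_eq_fintype_card, ← Finset.card_univ]
  calc (Finset.univ : Finset H).card = (Finset.univ.image (fun h : H => Φ h u)).card :=
        (Finset.card_image_of_injective _ (orbit_inj Φ hsemi u hu1)).symm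
    _ ≤ S.card := Finset.card_le_card (by
        intro v hv
        obtain ⟨h, -, rfl⟩ := Finset.mem_image.mp hv
        exact hS h u hu)

include hsemi in
/-- an invariant nontrivial subgroup is everything -/
theorem invariant_eq_top (hcard : Nat.card F ≤ 2 * Nat.card H + 1) (K : Subgroup F)
    (hK : ∀ h : H, ∀ u ∈ K, Φ h u ∈ K) (hne : K ≠ ⊥) : K = ⊤ := by
  classical
  have := Fintype.ofFinite F
  obtain ⟨⟨u, huK⟩, hu1⟩ := (Subgroup.ne_bot_iff_exists_ne_one).mp hne
  have hu1' : u ≠ 1 := fun h => hu1 (Subtype.ext h)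
  set S : Finset F := Finset.univ.filter (fun v => v ∈ K ∧ v ≠ 1) with hS
  have hSinv : ∀ h : H, ∀ v ∈ S, Φ h v ∈ S := by
    intro h v hv
    rw [hS, Finset.mem_filter] at hv ⊢
    refine ⟨Finset.mem_univ _, hK h v hv.2.1, ?_⟩
    intro h0
    exact hv.2.2 ((map_eq_one_iff (Φ h) (MulEquiv.injective _)).mp h0)
  have h1 := card_le_of_invariant Φ hsemi S hSinv u
    (by rw [hS, Finset.mem_filter]; exact ⟨Finset.mem_univ _, huK, hu1'⟩) hu1'
  have h2 : S.card + 1 ≤ Nat.card K := by
    have hK' : Nat.card K = (Finset.univ.filter (fun v => v ∈ K)).card := by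
      rw [Nat.card_eq_fintype_card, Fintype.card_subtype]
    have hSe : S = (Finset.univ.filter (fun v => v ∈ K)).erase 1 := by
      ext v
      simp only [hS, Finset.mem_filter, Finset.mem_univ, true_and, Finset.mem_erase]
      tauto
    have h1mem : (1 : F) ∈ Finset.univ.filter (fun v => v ∈ K) := by
      simp [K.one_mem]
    rw [hK', hSe, Finset.card_erase_of_mem h1mem]
    have : 0 < (Finset.univ.filter (fun v => v ∈ K)).card := Finset.card_pos.mpr ⟨1, h1mem⟩
    omega
  by_contra hKtop
  have hidx : K.index ≠ 1 := fun h => hKtop (Subgroup.index_eq_one.mp h)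
  have hidx0 : K.index ≠ 0 := Subgroup.index_ne_zero_of_finite
  have hmul := Subgroup.card_mul_index K
  have : 2 ≤ K.index := by omega
  nlinarith

include hsemi in
/-- only one prime divides the order -/
theorem unique_prime (hcard : Nat.card F ≤ 2 * Nat.card H + 1) (p : ℕ) [hp : Fact p.Prime]
    (hpd : p ∣ Nat.card F) (r : ℕ) (hr : r.Prime) (hrd : r ∣ Nat.card F) : r = p := by
  classical
  have := Fintype.ofFinite F
  by_contra hrp
  have : Fact r.Prime := ⟨hr⟩
  obtain ⟨x, hx⟩ := exists_prime_orderOf_dvd_card' p hpd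
  obtain ⟨y, hy⟩ := exists_prime_orderOf_dvd_card' r hrd
  set A : Finset F := Finset.univ.filter (fun u => orderOf u = p) with hA
  set T : Finset F := Finset.univ.filter (fun u => orderOf u = r) with hT
  have hx1 : x ≠ 1 := by
    rintro rfl
    rw [orderOf_one] at hx
    exact hp.out.one_lt.ne hx
  have hy1 : y ≠ 1 := by
    rintro rfl
    rw [orderOf_one] at hy
    exact hr.one_lt.ne hy
  have hAinv : ∀ h : H, ∀ u ∈ A, Φ h u ∈ A := by
    intro h u hu
    rw [hA, Finset.mem_filter] at hu ⊢
    exact ⟨Finset.mem_univ _, by rw [MulEquiv.orderOf_eq]; exact hu.2⟩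
  have hTinv : ∀ h : H, ∀ u ∈ T, Φ h u ∈ T := by
    intro h u hu
    rw [hT, Finset.mem_filter] at hu ⊢
    exact ⟨Finset.mem_univ _, by rw [MulEquiv.orderOf_eq]; exact hu.2⟩
  have hdA := card_le_of_invariant Φ hsemi A hAinv x
    (by rw [hA, Finset.mem_filter]; exact ⟨Finset.mem_univ _, hx⟩) hx1
  have hdT := card_le_of_invariant Φ hsemi T hTinv y
    (by rw [hT, Finset.mem_filter]; exact ⟨Finset.mem_univ _, hy⟩) hy1
  have hAT : Disjoint A T := by
    rw [Finset.disjoint_left]
    intro u huA huT
    rw [hA, Finset.mem_filter] at huA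
    rw [hT, Finset.mem_filter] at huT
    exact hrp (huT.2.symm.trans huA.2)
  have h1A : (1 : F) ∉ A := by
    rw [hA, Finset.mem_filter, orderOf_one]
    exact fun h => hp.out.one_lt.ne h.2
  have h1T : (1 : F) ∉ T := by
    rw [hT, Finset.mem_filter, orderOf_one]
    exact fun h => hr.one_lt.ne h.2
  have hcF : Nat.card F = (Finset.univ : Finset F).card := by
    rw [Nat.card_eq_fintype_card, Finset.card_univ]
  -- no fixed points of conjugation by x on T
  have hnofix : ∀ u ∈ T, x * u * x⁻¹ ≠ u := by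
    intro u huT hfix
    have hcomm : Commute x u := by
      have : x * u = u * x := by
        calc x * u = x * u * x⁻¹ * x := by group
          _ = u * x := by rw [hfix]
      exact this
    have hou : orderOf u = r := by
      rw [hT, Finset.mem_filter] at huT
      exact huT.2
    have hco : (orderOf x).Coprime (orderOf u) := by
      rw [hx, hou]
      exact (Nat.coprime_primes hp.out hr).mpr (Ne.symm hrp)
    have hoz : orderOf (x * u) = p * r := by
      rw [hcomm.orderOf_mul_eq_mul_orderOf_of_coprime hco, hx, hou]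
    have hzA : x * u ∉ A := by
      rw [hA, Finset.mem_filter, hoz]
      intro h
      have : r = 1 := by
        have h2 := h.2
        have hp0 : 0 < p := hp.out.pos
        nlinarith [Nat.eq_of_mul_eq_mul_left hp0 (h2.trans (mul_one p).symm)]
      exact hr.one_lt.ne this.symm
    have hzT : x * u ∉ T := by
      rw [hT, Finset.mem_filter, hoz]
      intro h
      have : p = 1 := by
        have h2 := h.2
        have hr0 : 0 < r := hr.pos
        have h3 : r * p = r * 1 := by rw [mul_one, mul_comm]; exact h2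
        exact Nat.eq_of_mul_eq_mul_left hr0 h3
      exact hp.out.one_lt.ne this.symm
    have hz1 : x * u ≠ 1 := by
      intro h
      rw [h, orderOf_one] at hoz
      have := hp.out.one_lt
      have := hr.one_lt
      nlinarith
    have hsub : insert (x * u) (insert 1 (A ∪ T)) ⊆ (Finset.univ : Finset F) :=
      Finset.subset_univ _
    have hc := Finset.card_le_card hsub
    rw [Finset.card_insert_of_notMem, Finset.card_insert_of_notMem,
      Finset.card_union_of_disjoint hAT] at hc
    · omega
    · simp [h1A, h1T]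
    · simp only [Finset.mem_insert, Finset.mem_union]
      tauto
  -- the counting
  have hsub : insert 1 (A ∪ T) ⊆ (Finset.univ : Finset F) := Finset.subset_univ _
  have hc := Finset.card_le_card hsub
  rw [Finset.card_insert_of_notMem (by simp [h1A, h1T]),
    Finset.card_union_of_disjoint hAT] at hc
  -- fixed point congruence
  have hTconj : ∀ u ∈ T, x * u * x⁻¹ ∈ T := by
    intro u hu
    rw [hT, Finset.mem_filter] at hu ⊢
    refine ⟨Finset.mem_univ _, ?_⟩
    have : x * u * x⁻¹ = MulAut.conj x u := rfl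
    rw [this, MulEquiv.orderOf_eq]
    exact hu.2
  let g : {u // u ∈ T} → {u // u ∈ T} := fun u => ⟨x * u.1 * x⁻¹, hTconj u.1 u.2⟩
  let f : Function.End {u // u ∈ T} := g
  have hfpow : ∀ k : ℕ, ∀ u : {u // u ∈ T}, ((f ^ k) u).1 = x ^ k * u.1 * (x ^ k)⁻¹ := by
    intro k
    induction k with
    | zero =>
      intro u
      rw [pow_zero, pow_zero]
      show u.1 = 1 * u.1 * 1⁻¹
      simp
    | succ k ih =>
      intro u
      rw [pow_succ]
      have : (f ^ k * f) u = (f ^ k) (f u) := rfl
      rw [this, ih]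
      show x ^ k * (x * u.1 * x⁻¹) * (x ^ k)⁻¹ = _
      rw [pow_succ]
      group
  have hfp : f ^ p ^ 1 = 1 := by
    rw [pow_one]
    funext u
    apply Subtype.ext
    show ((f ^ p) u).1 = u.1
    rw [hfpow, ← hx, pow_orderOf_eq_one]
    simp
  have hmod := Equiv.Perm.card_fixedPoints_modEq (p := p) (n := 1) hfp
  have hempty : IsEmpty (Function.fixedPoints f) := by
    constructor
    rintro ⟨u, hu⟩
    have : (f u).1 = u.1 := congrArg Subtype.val hu
    exact hnofix u.1 u.2 this
  have h0 : Fintype.card (Function.fixedPoints f) = 0 := Fintype.card_eq_zero_iff.mpr hempty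
  rw [h0, Fintype.card_coe] at hmod
  have hpT : p ∣ T.card := (Nat.modEq_zero_iff_dvd.mp hmod)
  have hTd : T.card = Nat.card H := by omega
  have hFd : Nat.card F = 2 * Nat.card H + 1 := by omega
  rw [hTd] at hpT
  rw [hFd] at hpd
  have : p ∣ 1 := by
    have h2 : p ∣ 2 * Nat.card H := Dvd.dvd.mul_left hpT 2
    exact (Nat.dvd_add_right h2).mp hpd
  exact hp.out.one_lt.ne' (Nat.dvd_one.mp this)

include hsemi in
theorem abstract_main (hcard : Nat.card F ≤ 2 * Nat.card H + 1) :
    (∀ u v : F, u * v = v * u) ∧ ∃ p : ℕ, p.Prime ∧ ∀ u : F, u ^ p = 1 := by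
  classical
  by_cases h1 : Nat.card F = 1
  · have hsub : Subsingleton F := (Nat.card_eq_one_iff_unique.mp h1).1
    refine ⟨fun u v => Subsingleton.elim _ _, 2, Nat.prime_two, fun u => Subsingleton.elim _ _⟩
  obtain ⟨p, hp, hpd⟩ := Nat.exists_prime_and_dvd h1
  have hpf : Fact p.Prime := ⟨hp⟩
  have hpos : Nat.card F ≠ 0 := Nat.card_pos.ne'
  have hpk := Nat.eq_prime_pow_of_unique_prime_dvd hpos
    (fun {r} hr hrd => unique_prime Φ hsemi hcard p hpd r hr hrd)
  have hpg : IsPGroup p F := IsPGroup.of_card hpk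
  have hnt : Nontrivial F := by
    rw [← Finite.one_lt_card_iff_nontrivial]
    have := Nat.card_pos (α := F)
    omega
  -- centre
  have hcn : Nontrivial (Subgroup.center F) := hpg.center_nontrivial
  have hcne : Subgroup.center F ≠ ⊥ := (Subgroup.nontrivial_iff_ne_bot _).mp hcn
  have hcinv : ∀ h : H, ∀ u ∈ Subgroup.center F, Φ h u ∈ Subgroup.center F := by
    intro h u hu
    rw [Subgroup.mem_center_iff] at hu ⊢
    intro g
    have := congrArg (Φ h) (hu ((Φ h).symm g))
    rw [map_mul, map_mul, MulEquiv.apply_symm_apply] at this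
    exact this
  have hctop := invariant_eq_top Φ hsemi hcard _ hcinv hcne
  have hcomm : ∀ u v : F, u * v = v * u := by
    intro u v
    have hv : v ∈ Subgroup.center F := by rw [hctop]; trivial
    exact Subgroup.mem_center_iff.mp hv u
  refine ⟨hcomm, p, hp, ?_⟩
  -- the p-torsion
  let Ω : Subgroup F :=
    { carrier := {u | u ^ p = 1}
      mul_mem' := by
        intro a b ha hb
        have hc : Commute a b := hcomm a b
        show (a * b) ^ p = 1
        rw [hc.mul_pow, ha, hb, one_mul]
      one_mem' := one_pow p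
      inv_mem' := by
        intro a ha
        show (a⁻¹) ^ p = 1
        rw [inv_pow, ha, inv_one] }
  obtain ⟨x, hx⟩ := exists_prime_orderOf_dvd_card' p hpd
  have hx1 : x ≠ 1 := by
    rintro rfl
    rw [orderOf_one] at hx
    exact hp.one_lt.ne hx
  have hΩne : Ω ≠ ⊥ := by
    intro hbot
    have hxΩ : x ∈ Ω := by
      show x ^ p = 1
      rw [← hx, pow_orderOf_eq_one]
    rw [hbot, Subgroup.mem_bot] at hxΩ
    exact hx1 hxΩ
  have hΩinv : ∀ h : H, ∀ u ∈ Ω, Φ h u ∈ Ω := by
    intro h u hu
    show (Φ h u) ^ p = 1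
    rw [← map_pow, show u ^ p = 1 from hu, map_one]
  have hΩtop := invariant_eq_top Φ hsemi hcard Ω hΩinv hΩne
  intro u
  have : u ∈ Ω := by rw [hΩtop]; trivial
  exact this

end abstract

/-- Let a finite Zassenhaus group of degree `n + 1` have two-point stabilisers of order `d` with `2d ≥ n - 1`. Then a normal subgroup of a point stabiliser acting regularly on the remaining points is elementary abelian, and the degree is a prime power plus one. -/
theorem result {G Ω : Type*} [Group G] [Finite G] [MulAction G Ω] [Fintype Ω] (hZ : Cfsg.IsZassenhausGroup G Ω) {a b : Ω} (hab : a ≠ b) (hd : Fintype.card Ω - 2 ≤ 2 * Nat.card ↥(MulAction.stabilizer G a ⊓ MulAction.stabilizer G b)) (F : Subgroup G) (hFle : F ≤ MulAction.stabilizer G a) (hFn : (F.subgroupOf (MulAction.stabilizer G a)).Normal) (hreg : ∀ y z : Ω, y ≠ a → z ≠ a → ∃! u : F, (u : G) • y = z) : IsMulCommutative F ∧ ∃ p f : ℕ, p.Prime ∧ (∀ u ∈ F, u ^ p = 1) ∧ Fintype.card Ω = p ^ f + 1 := by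
  classical
  obtain ⟨-, -, h3, -, -⟩ := hZ
  have hFa : ∀ u ∈ F, u • a = a := fun u hu => MulAction.mem_stabilizer_iff.mp (hFle hu)
  have hconj : ∀ h ∈ MulAction.stabilizer G a, ∀ u ∈ F, h * u * h⁻¹ ∈ F := by
    intro h hh u hu
    have := hFn.conj_mem ⟨u, hFle hu⟩ (Subgroup.mem_subgroupOf.mpr hu) ⟨h, hh⟩
    exact Subgroup.mem_subgroupOf.mp this
  let Φ : ↥(MulAction.stabilizer G a ⊓ MulAction.stabilizer G b) →* MulAut ↥F :=
    { toFun := fun h =>
        { toFun := fun u => ⟨h.1 * u.1 * h.1⁻¹, hconj h.1 (Subgroup.mem_inf.mp h.2).1 u.1 u.2⟩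
          invFun := fun u => ⟨h.1⁻¹ * u.1 * h.1, by
            have := hconj h.1⁻¹ (Subgroup.inv_mem _ (Subgroup.mem_inf.mp h.2).1) u.1 u.2
            simpa using this⟩
          left_inv := fun u => Subtype.ext (by simp [mul_assoc])
          right_inv := fun u => Subtype.ext (by simp [mul_assoc])
          map_mul' := fun u v => Subtype.ext (by simp [mul_assoc]) }
      map_one' := by
        ext u
        simp
      map_mul' := fun h1 h2 => by
        ext u
        simp [mul_assoc] }
  have hΦ : ∀ (h : ↥(MulAction.stabilizer G a ⊓ MulAction.stabilizer G b)) (u : ↥F),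
      ((Φ h u : ↥F) : G) = h.1 * u.1 * h.1⁻¹ := fun h u => rfl
  have hsemi : ∀ (h : ↥(MulAction.stabilizer G a ⊓ MulAction.stabilizer G b)) (u : ↥F),
      u ≠ 1 → Φ h u = u → h = 1 := by
    intro h u hu1 hfix
    have hfix' : h.1 * u.1 * h.1⁻¹ = u.1 := by
      rw [← hΦ]; exact congrArg Subtype.val hfix
    have hcomm : h.1 * u.1 = u.1 * h.1 := by
      calc h.1 * u.1 = h.1 * u.1 * h.1⁻¹ * h.1 := by group
        _ = u.1 * h.1 := by rw [hfix']
    have hha : h.1 • a = a := MulAction.mem_stabilizer_iff.mp (Subgroup.mem_inf.mp h.2).1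
    have hhb : h.1 • b = b := MulAction.mem_stabilizer_iff.mp (Subgroup.mem_inf.mp h.2).2
    have hhc : h.1 • (u.1 • b) = u.1 • b := by
      rw [← mul_smul, hcomm, mul_smul, hhb]
    have hcb : b ≠ u.1 • b := by
      intro hcb
      obtain ⟨w, -, hw⟩ := hreg b b hab.symm hab.symm
      have e1 : u = w := hw u hcb.symm
      have e2 : (1 : ↥F) = w := hw 1 (by simp)
      exact hu1 (e1.trans e2.symm)
    have hca : a ≠ u.1 • b := by
      intro hca
      have : u.1⁻¹ • a = b := by rw [hca, inv_smul_smul]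
      rw [hFa _ (F.inv_mem u.2)] at this
      exact hab this
    have := h3 h.1 a b (u.1 • b) hab hcb hca hha hhb hhc
    exact Subtype.ext this
  -- cardinality of F
  have e : ↥F ≃ {y : Ω // y ≠ a} :=
    Equiv.ofBijective (fun u => ⟨u.1 • b, by
      intro hub
      have : u.1⁻¹ • a = b := by rw [← hub, inv_smul_smul]
      rw [hFa _ (F.inv_mem u.2)] at this
      exact hab this⟩)
      ⟨by
        intro u v huv
        have huv' : u.1 • b = v.1 • b := congrArg Subtype.val huv
        have hvb : v.1 • b ≠ a := by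
          intro hub
          have : v.1⁻¹ • a = b := by rw [← hub, inv_smul_smul]
          rw [hFa _ (F.inv_mem v.2)] at this
          exact hab this
        obtain ⟨w, -, hw⟩ := hreg b (v.1 • b) hab.symm hvb
        exact (hw u huv').trans (hw v rfl).symm, by
        intro y
        obtain ⟨w, hw, -⟩ := hreg b y.1 hab.symm y.2
        exact ⟨w, Subtype.ext hw⟩⟩
  have hcF : Nat.card ↥F = Fintype.card Ω - 1 := by
    rw [Nat.card_congr e, Nat.card_eq_fintype_card, Fintype.card_subtype_compl, Fintype.card_subtype_eq]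
  have hΩ2 : 2 ≤ Fintype.card Ω := Fintype.one_lt_card_iff.mpr ⟨a, b, hab⟩
  have hcard : Nat.card ↥F ≤
      2 * Nat.card ↥(MulAction.stabilizer G a ⊓ MulAction.stabilizer G b) + 1 := by
    omega
  obtain ⟨hcomm, p, hp, hexp⟩ := abstract_main Φ hsemi hcard
  refine ⟨⟨⟨hcomm⟩⟩, p, ?_⟩
  have hpf : Fact p.Prime := ⟨hp⟩
  have hpg : IsPGroup p ↥F := fun u => ⟨1, by rw [pow_one]; exact hexp u⟩
  obtain ⟨f, hf⟩ := IsPGroup.iff_card.mp hpg
  refine ⟨f, hp, ?_, ?_⟩
  · intro u hu
    exact congrArg Subtype.val (hexp ⟨u, hu⟩)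
  · omega

end Cfsg.Agent.S0738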