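import Cfsg.Statements.S1009
import Mathlib

set_option autoImplicit false
open Cfsg

namespace Cfsg.Agent.S1009

/-- Brodkey's Theorem: if a finite group has abelian Sylow p-subgroups, then there are two Sylow p-subgroups whose intersection equals the intersection of all Sylow p-subgroups. -/
theorem result {G : Type*} [Group G] [Finite G] (p : ℕ) [Fact p.Prime] (hab : ∀ P : Sylow p G, IsMulCommutative ↥(P : Subgroup G)) : ∃ P Q : Sylow p G, (P : Subgroup G) ⊓ (Q : Subgroup G) = ⨅ R : Sylow p G, (R : Subgroup G) := by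
  classical
  obtain ⟨⟨P, Q⟩, hmin⟩ := Finite.exists_min
    (fun PQ : Sylow p G × Sylow p G => Nat.card ↥((PQ.1 : Subgroup G) ⊓ (PQ.2 : Subgroup G)))
  simp only [Prod.forall] at hmin
  refine ⟨P, Q, le_antisymm ?_ ?_⟩
  swap
  · exact le_inf (iInf_le _ P) (iInf_le _ Q)
  refine le_iInf fun S => ?_
  set D : Subgroup G := (P : Subgroup G) ⊓ (Q : Subgroup G) with hD
  set N : Subgroup G := Subgroup.normalizer (D : Set G) with hN
  -- abelian Sylow subgroups containing D normalize D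
  have key : ∀ R : Sylow p G, D ≤ (R : Subgroup G) → (R : Subgroup G) ≤ N := by
    intro R hDR x hx
    rw [hN, Subgroup.mem_normalizer_iff]
    intro d
    have hcomm : ∀ x ∈ (R : Subgroup G), ∀ d ∈ D, x * d * x⁻¹ = d := by
      intro x hx d hd
      have := (hab R).is_comm.comm ⟨x, hx⟩ ⟨d, hDR hd⟩
      have h2 : x * d = d * x := congrArg Subtype.val this
      rw [h2, mul_inv_cancel_right]
    constructor
    · intro hd
      rw [hcomm x hx d hd]; exact hd
    · intro hd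
      have := hcomm x⁻¹ (inv_mem hx) _ hd
      have h3 : x⁻¹ * (x * d * x⁻¹) * x⁻¹⁻¹ = d := by group
      rw [h3] at this
      rw [this]; exact hd
  have hPN : (P : Subgroup G) ≤ N := key P inf_le_left
  have hQN : (Q : Subgroup G) ≤ N := key Q inf_le_right
  -- S ⊓ N is a p-subgroup of N
  have hSN : IsPGroup p ↥(((S : Subgroup G) ⊓ N).subgroupOf N) := by
    have h1 : IsPGroup p ↥((S : Subgroup G) ⊓ N) := S.2.to_le inf_le_left
    exact h1.comap_subtype
  obtain ⟨A, hA⟩ := hSN.exists_le_sylow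
  obtain ⟨n, hn⟩ := MulAction.exists_smul_eq ↥N (P.subtype hPN) A
  -- S' = n⁻¹ • S
  have hle : (((n : G)⁻¹ • S : Sylow p G) : Subgroup G) ⊓ (Q : Subgroup G) ≤ D := by
    intro y hy
    obtain ⟨hy1, hy2⟩ := hy
    refine ⟨?_, hy2⟩
    have hy1' : y ∈ (((n : G)⁻¹ • S : Sylow p G) : Subgroup G) := hy1
    rw [Sylow.coe_subgroup_smul, Subgroup.mem_pointwise_smul_iff_inv_smul_mem] at hy1'
    simp only [map_inv, inv_inv, MulAut.smul_def, MulAut.conj_apply] at hy1'
    -- hy1' : n * y * n⁻¹ ∈ S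
    have hyN : (n : G) * y * (n : G)⁻¹ ∈ N := N.mul_mem (N.mul_mem n.2 (hQN hy2)) (N.inv_mem n.2)
    have hx : (⟨(n : G) * y * (n : G)⁻¹, hyN⟩ : ↥N) ∈ ((S : Subgroup G) ⊓ N).subgroupOf N := by
      rw [Subgroup.mem_subgroupOf]
      exact ⟨hy1', hyN⟩
    have hx2 : (⟨(n : G) * y * (n : G)⁻¹, hyN⟩ : ↥N) ∈ (A : Subgroup ↥N) := hA hx
    rw [← hn, Sylow.coe_subgroup_smul, Subgroup.mem_pointwise_smul_iff_inv_smul_mem] at hx2
    simp only [MulAut.smul_def, MulAut.conj_inv_apply, Sylow.coe_subtype,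
      Subgroup.mem_subgroupOf] at hx2
    have hx3 : (n : G)⁻¹ * ((n : G) * y * (n : G)⁻¹) * (n : G) ∈ (P : Subgroup G) := by
      simpa using hx2
    have h4 : (n : G)⁻¹ * ((n : G) * y * (n : G)⁻¹) * (n : G) = y := by group
    rw [h4] at hx3
    exact hx3
  have hcard := hmin ((n : G)⁻¹ • S) Q
  have heq : (((n : G)⁻¹ • S : Sylow p G) : Subgroup G) ⊓ (Q : Subgroup G) = D := by
    have h1 : (↑((((n : G)⁻¹ • S : Sylow p G) : Subgroup G) ⊓ (Q : Subgroup G)) : Set G) = (D : Set G) := by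
      apply Set.eq_of_subset_of_ncard_le hle
      · rw [← Nat.card_coe_set_eq, ← Nat.card_coe_set_eq]
        exact hcard
    exact SetLike.coe_injective h1
  intro d hd
  have hd1 : (n : G)⁻¹ * d * (n : G) ∈ D := by
    have hn' : (n : G)⁻¹ ∈ Subgroup.normalizer (D : Set G) := N.inv_mem n.2
    rw [Subgroup.mem_normalizer_iff] at hn'
    have := (hn' d).mp hd
    simpa using this
  rw [← heq] at hd1
  have hd2 : (n : G)⁻¹ * d * (n : G) ∈ (((n : G)⁻¹ • S : Sylow p G) : Subgroup G) := hd1.1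
  rw [Sylow.coe_subgroup_smul, Subgroup.mem_pointwise_smul_iff_inv_smul_mem] at hd2
  simp only [map_inv, inv_inv, MulAut.smul_def, MulAut.conj_apply] at hd2
  have h5 : (n : G) * ((n : G)⁻¹ * d * (n : G)) * (n : G)⁻¹ = d := by group
  rw [h5] at hd2
  exact hd2

end Cfsg.Agent.S1009
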