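import Cfsg.Statements.S0039

set_option autoImplicit false
open Cfsg

namespace Cfsg.Agent.S0039

/-- In a finite group that is a semidirect product of a normal subgroup K by a nontrivial subgroup H, H is a Frobenius complement exactly when each nonidentity element of H acts without nonidentity fixed points on K by conjugation. -/
theorem result {G : Type*} [Group G] [Finite G] (K H : Subgroup G) [K.Normal]
    (hc : Subgroup.IsComplement' K H) (hK : K ≠ ⊥) (hH : H ≠ ⊥) :
    Cfsg.IsFrobeniusComplement H ↔ ∀ h ∈ H, h ≠ 1 → K ⊓ Subgroup.centralizer {h} = ⊥ := by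
  have hdisj : K ⊓ H = ⊥ := hc.disjoint.eq_bot
  have hmem1 : ∀ x, x ∈ K → x ∈ H → x = 1 := by
    intro x hxK hxH
    have : x ∈ K ⊓ H := ⟨hxK, hxH⟩
    rw [hdisj] at this
    exact Subgroup.mem_bot.mp this
  constructor
  · rintro ⟨-, -, hF⟩ h hh hh1
    rw [eq_bot_iff]
    intro k hk
    obtain ⟨hkK, hkC⟩ := Subgroup.mem_inf.mp hk
    rw [Subgroup.mem_centralizer_iff] at hkC
    have hcomm : h * k = k * h := hkC h rfl
    rw [Subgroup.mem_bot]
    by_contra hk1
    have hkH : k ∉ H := fun hkH => hk1 (hmem1 k hkK hkH)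
    have hbot := hF k hkH
    rw [eq_bot_iff] at hbot
    apply hh1
    rw [← Subgroup.mem_bot]
    apply hbot
    refine Subgroup.mem_inf.mpr ⟨hh, ?_⟩
    rw [Subgroup.mem_pointwise_smul_iff_inv_smul_mem]
    simp only [MulAut.smul_def, MulAut.conj_inv_apply]
    have : k⁻¹ * h * k = h := by rw [mul_assoc, hcomm, ← mul_assoc, inv_mul_cancel, one_mul]
    rw [this]; exact hh
  · intro hfix
    refine ⟨hH, ?_, ?_⟩
    · intro htop
      rw [htop, inf_top_eq] at hdisj
      exact hK hdisj
    · intro g hg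
      rw [eq_bot_iff]
      intro x hx
      obtain ⟨hxH, hxg⟩ := Subgroup.mem_inf.mp hx
      rw [Subgroup.mem_bot]
      by_contra hx1
      -- g = k * h
      obtain ⟨⟨⟨k, hk⟩, ⟨h, hh⟩⟩, hkh⟩ := hc.existsUnique g |>.exists
      simp only at hkh
      have hk1 : k ≠ 1 := by
        rintro rfl
        rw [one_mul] at hkh
        exact hg (hkh ▸ hh)
      rw [Subgroup.mem_pointwise_smul_iff_inv_smul_mem] at hxg
      simp only [MulAut.smul_def, MulAut.conj_inv_apply] at hxg
      -- g⁻¹ x g ∈ H, so k⁻¹ x k ∈ H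
      have hy : k⁻¹ * x * k ∈ H := by
        have : k⁻¹ * x * k = h * (g⁻¹ * x * g) * h⁻¹ := by
          rw [← hkh]; group
        rw [this]
        exact H.mul_mem (H.mul_mem hh hxg) (H.inv_mem hh)
      -- x * (k⁻¹ x k)⁻¹ ∈ K ∩ H
      have hz : x * (k⁻¹ * x * k)⁻¹ ∈ K := by
        have : x * (k⁻¹ * x * k)⁻¹ = (x * k⁻¹ * x⁻¹) * k := by group
        rw [this]
        exact K.mul_mem (Subgroup.Normal.conj_mem inferInstance _ (K.inv_mem hk) x) hk
      have hz' : x * (k⁻¹ * x * k)⁻¹ ∈ H := H.mul_mem hxH (H.inv_mem hy)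
      have hz1 := hmem1 _ hz hz'
      have hcomm : x * k = k * x := by
        have h1 : x = k⁻¹ * x * k := mul_inv_eq_one.mp hz1
        calc x * k = k * (k⁻¹ * x * k) := by group
          _ = k * x := by rw [← h1]
      have hkC : k ∈ K ⊓ Subgroup.centralizer {x} := by
        refine Subgroup.mem_inf.mpr ⟨hk, ?_⟩
        rw [Subgroup.mem_centralizer_iff]
        intro y hy
        rw [Set.mem_singleton_iff] at hy
        rw [hy, hcomm]
      rw [hfix x hxH hx1] at hkC
      exact hk1 (Subgroup.mem_bot.mp hkC)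

end Cfsg.Agent.S0039
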