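import Cfsg.Statements.S0752

set_option autoImplicit false
open Cfsg

namespace Cfsg.Agent.S0752

open Module

universe u v

theorem exists_families {F : Type v} [Field F] :
    ∀ (d : ℕ) {V : Type u} [AddCommGroup V] [Module F V] [FiniteDimensional F V]
      (B : LinearMap.BilinForm F V), B.IsAlt → finrank F V = d →
      ∃ (m k : ℕ) (e f : Fin m → V) (r : Fin k → V),
        (∀ i j, B (e i) (f j) = if i = j then 1 else 0) ∧ (∀ i j, B (e i) (e j) = 0) ∧
        (∀ i j, B (f i) (f j) = 0) ∧ (∀ j y, B (r j) y = 0) ∧ LinearIndependent F r ∧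
        ∀ y : V, y ∈ Submodule.span F (Set.range e ∪ Set.range f ∪ Set.range r) := by
  intro d
  induction d using Nat.strong_induction_on with
  | _ d ih =>
  intro V _ _ _ B hA hd
  by_cases hzero : ∀ x y : V, B x y = 0
  · -- totally degenerate
    refine ⟨0, finrank F V, Fin.elim0, Fin.elim0, finBasis F V, fun i => i.elim0, fun i => i.elim0,
      fun i => i.elim0, fun j y => hzero _ _, (finBasis F V).linearIndependent, ?_⟩
    intro y
    have : y ∈ Submodule.span F (Set.range (finBasis F V)) := by
      rw [(finBasis F V).span_eq]; exact Submodule.mem_top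
    exact Submodule.span_mono Set.subset_union_right this
  · push Not at hzero
    obtain ⟨u, v0, huv0⟩ := hzero
    have hanti : ∀ x y : V, B x y = - B y x := fun x y => (hA.neg_eq y x).symm
    obtain ⟨v, huv⟩ : ∃ v : V, B u v = 1 :=
      ⟨(B u v0)⁻¹ • v0, by rw [map_smul, smul_eq_mul, inv_mul_cancel₀ huv0]⟩
    have hvu : B v u = -1 := by rw [hanti, huv]
    obtain ⟨W, hW⟩ : ∃ W : Submodule F V, W = LinearMap.ker (B u) ⊓ LinearMap.ker (B v) := ⟨_, rfl⟩
    have hWmem : ∀ y : V, y ∈ W ↔ B u y = 0 ∧ B v y = 0 := by
      intro y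
      rw [hW, Submodule.mem_inf, LinearMap.mem_ker, LinearMap.mem_ker]
    have hWu : ∀ w : W, B u (w : V) = 0 := fun w => ((hWmem w).mp w.2).1
    have hWv : ∀ w : W, B v (w : V) = 0 := fun w => ((hWmem w).mp w.2).2
    have hWu' : ∀ w : W, B (w : V) u = 0 := fun w => by rw [hanti, hWu, neg_zero]
    have hWv' : ∀ w : W, B (w : V) v = 0 := fun w => by rw [hanti, hWv, neg_zero]
    have hdecomp : ∀ y : V, y - ((-(B v y)) • u + (B u y) • v) ∈ W := by
      intro y
      rw [hWmem]
      constructor
      · simp only [map_sub, map_add, map_smul, smul_eq_mul, hA.self_eq_zero, huv]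
        ring
      · simp only [map_sub, map_add, map_smul, smul_eq_mul, hA.self_eq_zero, hvu]
        ring
    have hlt : finrank F W < d := by
      rw [← hd]
      apply Submodule.finrank_lt
      intro htop
      have : v ∈ W := by rw [htop]; exact Submodule.mem_top
      have := ((hWmem v).mp this).1
      rw [huv] at this
      exact one_ne_zero this
    have hAW : (B.restrict W).IsAlt := fun x => hA x
    obtain ⟨m', k', e', f', r', h1, h2, h3, h4, h5, h6⟩ := ih _ hlt (B.restrict W) hAW rfl
    refine ⟨m' + 1, k', Fin.cons u (fun i => (e' i : V)), Fin.cons v (fun i => (f' i : V)),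
      fun j => (r' j : V), ?_, ?_, ?_, ?_, ?_, ?_⟩
    · intro i j
      refine Fin.cases ?_ (fun i => ?_) i <;> refine Fin.cases ?_ (fun j => ?_) j
      · simp [huv]
      · simp only [Fin.cons_zero, Fin.cons_succ, hWu]
        rw [if_neg (Fin.succ_ne_zero j).symm]
      · simp only [Fin.cons_zero, Fin.cons_succ, hWv']
        rw [if_neg (Fin.succ_ne_zero i)]
      · simp only [Fin.cons_succ, Fin.succ_inj]
        exact h1 i j
    · intro i j
      refine Fin.cases ?_ (fun i => ?_) i <;> refine Fin.cases ?_ (fun j => ?_) j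
      · simp [hA.self_eq_zero]
      · simp only [Fin.cons_zero, Fin.cons_succ, hWu]
      · simp only [Fin.cons_zero, Fin.cons_succ, hWu']
      · simp only [Fin.cons_succ]
        exact h2 i j
    · intro i j
      refine Fin.cases ?_ (fun i => ?_) i <;> refine Fin.cases ?_ (fun j => ?_) j
      · simp [hA.self_eq_zero]
      · simp only [Fin.cons_zero, Fin.cons_succ, hWv]
      · simp only [Fin.cons_zero, Fin.cons_succ, hWv']
      · simp only [Fin.cons_succ]
        exact h3 i j
    · intro j y
      have hy := hdecomp y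
      have : y = (⟨_, hy⟩ : W).1 + ((-(B v y)) • u + (B u y) • v) := by simp
      rw [this]
      simp only [map_add, map_smul, smul_eq_mul, hWu', hWv', mul_zero, add_zero]
      exact h4 j ⟨_, hy⟩
    · exact h5.map' W.subtype (Submodule.ker_subtype W)
    · intro y
      set S : Set V := Set.range (Fin.cons u (fun i => (e' i : V)) : Fin (m' + 1) → V) ∪
        Set.range (Fin.cons v (fun i => (f' i : V)) : Fin (m' + 1) → V) ∪
        Set.range (fun j => (r' j : V)) with hS
      have hu : u ∈ S := Or.inl (Or.inl ⟨0, by simp⟩)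
      have hv : v ∈ S := Or.inl (Or.inr ⟨0, by simp⟩)
      have hWS : ∀ w : W, (w : V) ∈ Submodule.span F S := by
        intro w
        have hw := h6 w
        have hmap := Submodule.apply_mem_span_image_of_mem_span W.subtype hw
        refine Submodule.span_mono ?_ hmap
        rintro _ ⟨z, hz, rfl⟩
        rcases hz with (⟨i, rfl⟩ | ⟨i, rfl⟩) | ⟨j, rfl⟩
        · exact Or.inl (Or.inl ⟨i.succ, by simp⟩)
        · exact Or.inl (Or.inr ⟨i.succ, by simp⟩)
        · exact Or.inr ⟨j, rfl⟩
      have hy := hdecomp y
      have : y = (⟨_, hy⟩ : W).1 + ((-(B v y)) • u + (B u y) • v) := by simp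
      rw [this]
      refine Submodule.add_mem _ (hWS _) (Submodule.add_mem _ ?_ ?_)
      · exact Submodule.smul_mem _ _ (Submodule.subset_span hu)
      · exact Submodule.smul_mem _ _ (Submodule.subset_span hv)

/-- Classification of alternating forms: for an alternating bilinear form B on a finite-dimensional space over any field there is a basis indexed by (Fin m ⊕ Fin m) ⊕ Fin k such that B (e_i, f_j) = δ_ij, the e's are pairwise orthogonal, the f's are pairwise orthogonal, and the last k basis vectors are orthogonal to everything (they span the radical). -/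
theorem result {F V : Type*} [Field F] [AddCommGroup V] [Module F V] [FiniteDimensional F V] (B : LinearMap.BilinForm F V) (hA : B.IsAlt) : ∃ (m k : ℕ) (b : Module.Basis ((Fin m ⊕ Fin m) ⊕ Fin k) F V), (∀ i j : Fin m, B (b (Sum.inl (Sum.inl i))) (b (Sum.inl (Sum.inr j))) = if i = j then 1 else 0) ∧ (∀ i j : Fin m, B (b (Sum.inl (Sum.inl i))) (b (Sum.inl (Sum.inl j))) = 0) ∧ (∀ i j : Fin m, B (b (Sum.inl (Sum.inr i))) (b (Sum.inl (Sum.inr j))) = 0) ∧ (∀ (j : Fin k) (v : V), B (b (Sum.inr j)) v = 0) := by
  classical
  obtain ⟨m, k, e, f, r, h1, h2, h3, h4, h5, h6⟩ := exists_families (F := F) _ B hA rfl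
  have hanti : ∀ x y : V, B x y = - B y x := fun x y => (hA.neg_eq y x).symm
  set g : (Fin m ⊕ Fin m) ⊕ Fin k → V := Sum.elim (Sum.elim e f) r with hg
  have hsum : ∀ c : (Fin m ⊕ Fin m) ⊕ Fin k → F, ∑ i, c i • g i =
      ∑ i, c (Sum.inl (Sum.inl i)) • e i + ∑ i, c (Sum.inl (Sum.inr i)) • f i +
        ∑ j, c (Sum.inr j) • r j := by
    intro c
    rw [Fintype.sum_sum_type, Fintype.sum_sum_type]
    simp [hg]
  have hli : LinearIndependent F g := by
    rw [Fintype.linearIndependent_iff]
    intro c hc
    rw [hsum] at hc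
    have he : ∀ i0, c (Sum.inl (Sum.inl i0)) = 0 := by
      intro i0
      have := congrArg (fun s => B s (f i0)) hc
      simp only [map_add, map_sum, map_smul, LinearMap.add_apply, LinearMap.sum_apply,
        LinearMap.smul_apply, smul_eq_mul, h1, h3, h4, mul_zero, Finset.sum_const_zero, add_zero,
        map_zero, LinearMap.zero_apply, mul_ite, mul_one, Finset.sum_ite_eq', Finset.mem_univ,
        if_true] at this
      exact this
    have hf : ∀ i0, c (Sum.inl (Sum.inr i0)) = 0 := by
      intro i0
      have := congrArg (fun s => B (e i0) s) hc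
      simp only [map_add, map_sum, map_smul, smul_eq_mul, h1, h2, mul_zero,
        Finset.sum_const_zero, zero_add, map_zero, mul_ite, mul_one, Finset.sum_ite_eq,
        Finset.mem_univ, if_true] at this
      have h4' : ∀ j, B (e i0) (r j) = 0 := fun j => by rw [hanti, h4, neg_zero]
      simpa [h4'] using this
    have hr : ∀ j, c (Sum.inr j) = 0 := by
      simp only [he, hf, zero_smul, Finset.sum_const_zero, zero_add] at hc
      exact Fintype.linearIndependent_iff.mp h5 _ hc
    rintro ((i | i) | j)
    · exact he i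
    · exact hf i
    · exact hr j
  have hsp : ⊤ ≤ Submodule.span F (Set.range g) := by
    intro y _
    have := h6 y
    rw [hg, Set.Sum.elim_range, Set.Sum.elim_range]
    exact this
  refine ⟨m, k, Basis.mk hli hsp, ?_, ?_, ?_, ?_⟩
  · intro i j
    rw [Basis.mk_apply, Basis.mk_apply]
    exact h1 i j
  · intro i j
    rw [Basis.mk_apply, Basis.mk_apply]
    exact h2 i j
  · intro i j
    rw [Basis.mk_apply, Basis.mk_apply]
    exact h3 i j
  · intro j y
    rw [Basis.mk_apply]
    exact h4 j y

end Cfsg.Agent.S0752
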