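import Cfsg.Statements.S0753

set_option autoImplicit false
open Cfsg

namespace Cfsg.Agent.S0753

/-- If σ is a ring endomorphism of the field F other than the identity and B is a σ-sesquilinear conjugate-symmetric form with B v v = 0 for every v, then B = 0. -/
theorem result {F V : Type*} [Field F] [AddCommGroup V] [Module F V] (σ : F →+* F) (hσ : σ ≠ RingHom.id F) (B : V →ₛₗ[σ] V →ₗ[F] F) (hS : B.IsSymm) (h0 : ∀ v : V, B v v = 0) : B = 0 := by
  have hex : ∃ a : F, σ a ≠ a := by
    by_contra h
    push Not at h
    exact hσ (RingHom.ext h)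
  obtain ⟨a, ha⟩ := hex
  have hsymm : ∀ x y : V, σ (B x y) = B y x := fun x y => hS.eq x y
  have hanti : ∀ u v : V, B u v + B v u = 0 := by
    intro u v
    have h := h0 (u + v)
    simp only [map_add, LinearMap.add_apply, h0, zero_add, add_zero] at h
    linear_combination h
  ext u v
  simp only [LinearMap.zero_apply]
  set c := B u v with hc
  have h1 : σ c = -c := by
    rw [hsymm u v]
    have := hanti u v
    linear_combination this
  have h2 : B (a • u) v = σ a * c := by
    simp [hc]
  have h3 : σ (B (a • u) v) = - (B (a • u) v) := by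
    rw [hsymm (a • u) v]
    have := hanti (a • u) v
    linear_combination this
  have h4 : σ (B (a • u) v) = a * σ c := by
    rw [hsymm (a • u) v]
    simp only [map_smul, smul_eq_mul]
    rw [← hsymm u v]
  rw [h4, h2, h1] at h3
  have h5 : (σ a - a) * c = 0 := by linear_combination h3
  rcases mul_eq_zero.mp h5 with h | h
  · exact absurd (sub_eq_zero.mp h) ha
  · exact h

end Cfsg.Agent.S0753
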