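import Cfsg.Statements.S0755
import Cfsg.Agent.S0753
import Cfsg.Agent.S0754

set_option autoImplicit false
open Cfsg

namespace Cfsg.Agent.S0755

open Module

/-- An involutive non-identity automorphism of a finite field is `x ↦ x ^ q` with `|F| = q ^ 2`. -/
theorem exists_q_of_involution {F : Type*} [Field F] [Finite F] (σ : F →+* F) (hσ : σ ≠ RingHom.id F)
    (hσ2 : ∀ a : F, σ (σ a) = a) :
    ∃ q : ℕ, Nat.card F = q ^ 2 ∧ ∀ x : F, σ x = x ^ q := by
  classical
  have := Fintype.ofFinite F
  obtain ⟨p, hp⟩ := CharP.exists F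
  have hprime : Fact p.Prime := ⟨CharP.char_is_prime F p⟩
  let _ : Algebra (ZMod p) F := ZMod.algebra F p
  let σe : F ≃+* F := RingEquiv.ofBijective σ (Function.Involutive.bijective hσ2)
  let σa : F ≃ₐ[ZMod p] F := AlgEquiv.ofRingEquiv (f := σe) (by
    intro x
    have : (σ.comp (algebraMap (ZMod p) F)) = algebraMap (ZMod p) F := Subsingleton.elim _ _
    exact congrArg (fun f : ZMod p →+* F => f x) this)
  obtain ⟨n, hn⟩ := (FiniteField.bijective_frobeniusAlgEquivOfAlgebraic_pow (ZMod p) F).2 σa
  obtain ⟨m, hm⟩ := n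
  simp only at hn
  have hσpow : ∀ x : F, σ x = x ^ (p ^ m) := by
    intro x
    have := congrArg (fun f : F ≃ₐ[ZMod p] F => f x) hn
    simp only [AlgEquiv.coe_pow, FiniteField.coe_frobeniusAlgEquivOfAlgebraic, pow_iterate,
      ZMod.card] at this
    exact this.symm
  refine ⟨p ^ m, ?_, hσpow⟩
  have hcard : Nat.card F = p ^ (finrank (ZMod p) F) := by
    rw [Nat.card_eq_fintype_card, Module.card_eq_pow_finrank (K := ZMod p) (V := F), ZMod.card]
  have hn0 : m ≠ 0 := by
    intro h0
    apply hσ
    ext x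
    rw [hσpow x, h0]
    simp
  have hord := FiniteField.orderOf_frobeniusAlgEquivOfAlgebraic (ZMod p) F
  have h2 : (FiniteField.frobeniusAlgEquivOfAlgebraic (ZMod p) F) ^ (2 * m) = 1 := by
    rw [mul_comm, pow_mul, hn]
    ext x
    exact hσ2 x
  have hdvd : finrank (ZMod p) F ∣ 2 * m := by
    rw [← hord]
    exact orderOf_dvd_of_pow_eq_one h2
  have h2n : 2 * m = finrank (ZMod p) F := by
    exact Nat.eq_of_dvd_of_lt_two_mul (by omega) hdvd (by omega)
  rw [hcard, ← h2n, ← pow_mul, mul_comm]

theorem norm_surj {F : Type*} [Field F] [Finite F] (σ : F →+* F) (hσ : σ ≠ RingHom.id F)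
    (hσ2 : ∀ a : F, σ (σ a) = a) (c : F) (hc : c ≠ 0) (hσc : σ c = c) : ∃ l : F, σ l * l = c := by
  classical
  have := Fintype.ofFinite F
  obtain ⟨q, hq, hσq⟩ := exists_q_of_involution σ hσ hσ2
  have hF : Fintype.card F = q ^ 2 := by rw [← Nat.card_eq_fintype_card]; exact hq
  have hcq : c ^ q = c := by rw [← hσq]; exact hσc
  have hcard := Cfsg.Agent.S0754.result hF c hc hcq
  have hne : Nonempty {x : F // x ^ (q + 1) = c} := by
    by_contra hcon
    rw [not_nonempty_iff] at hcon
    rw [Nat.card_of_isEmpty] at hcard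
    omega
  obtain ⟨l, hl⟩ := hne
  refine ⟨l, ?_⟩
  rw [hσq, ← pow_succ]
  exact hl

universe u v

theorem exists_orthonormal_aux {F : Type v} [Field F] [Finite F] (σ : F →+* F) (hσ : σ ≠ RingHom.id F)
    (hσ2 : ∀ a : F, σ (σ a) = a) :
    ∀ (n : ℕ) {V : Type u} [AddCommGroup V] [Module F V] [FiniteDimensional F V]
      (B : V →ₛₗ[σ] V →ₗ[F] F), B.IsSymm → B.Nondegenerate → finrank F V = n →
      ∃ b : Basis (Fin n) F V, ∀ i j, B (b i) (b j) = if i = j then 1 else 0 := by
  intro n
  induction n with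
  | zero =>
    intro V _ _ _ B hS hB hd
    exact ⟨finBasisOfFinrankEq F V hd, fun i => i.elim0⟩
  | succ n ih =>
    intro V _ _ _ B hS hB hd
    have hnt : Nontrivial V := Module.nontrivial_of_finrank_pos (R := F) (by omega)
    have hB0 : B ≠ 0 := by
      intro h0
      obtain ⟨y, hy⟩ := exists_ne (0 : V)
      exact hy (hB.1 y (fun z => by rw [h0]; rfl))
    obtain ⟨v0, hv0⟩ : ∃ v0 : V, B v0 v0 ≠ 0 := by
      by_contra hcon
      push Not at hcon
      exact hB0 (Cfsg.Agent.S0753.result σ hσ B hS hcon)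
    have hsmul_left : ∀ (a : F) (u w : V), B (a • u) w = σ a * B u w := by
      intro a u w
      rw [LinearMap.map_smulₛₗ]; rfl
    have hsmul_right : ∀ (a : F) (u w : V), B u (a • w) = a * B u w := by
      intro a u w
      rw [map_smul]; rfl
    have hσc : σ (B v0 v0) = B v0 v0 := hS.eq v0 v0
    have hσc' : σ (B v0 v0)⁻¹ = (B v0 v0)⁻¹ := by rw [map_inv₀, hσc]
    obtain ⟨l, hl⟩ := norm_surj σ hσ hσ2 (B v0 v0)⁻¹ (inv_ne_zero hv0) hσc'
    obtain ⟨x, hx1⟩ : ∃ x : V, B x x = 1 := by
      refine ⟨l • v0, ?_⟩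
      rw [hsmul_left, hsmul_right, ← mul_assoc, hl, inv_mul_cancel₀ hv0]
    obtain ⟨N, hN⟩ : ∃ N : Submodule F V, N = LinearMap.ker (B x) := ⟨_, rfl⟩
    have hNmem : ∀ y : V, y ∈ N ↔ B x y = 0 := fun y => by rw [hN]; exact LinearMap.mem_ker
    have hNmem' : ∀ y : V, y ∈ N → B y x = 0 := by
      intro y hy
      rw [← hS.eq x y, (hNmem y).mp hy, map_zero]
    have hdecomp : ∀ z : V, z + (-(B x z)) • x ∈ N := by
      intro z
      rw [hNmem, map_add, hsmul_right, hx1, mul_one, add_neg_cancel]
    have hfr : finrank F N = n := by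
      have h1 := LinearMap.finrank_range_add_finrank_ker (B x)
      have hsurj : LinearMap.range (B x) = ⊤ := by
        rw [LinearMap.range_eq_top]
        intro a
        exact ⟨a • x, by rw [hsmul_right, hx1, mul_one]⟩
      rw [hsurj, finrank_top, Module.finrank_self, ← hN] at h1
      omega
    set B' : N →ₛₗ[σ] N →ₗ[F] F := B.domRestrict₁₂ N N with hB'
    have hS' : B'.IsSymm := hS.domRestrict N
    have hB'nd : B'.Nondegenerate := by
      constructor
      · intro m hm
        apply Subtype.ext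
        apply hB.1
        intro y
        have h1 := hm ⟨_, hdecomp y⟩
        change B m (y + (-(B x y)) • x) = 0 at h1
        rw [map_add, hsmul_right, hNmem' m m.2, mul_zero, add_zero] at h1
        exact h1
      · intro m hm
        apply Subtype.ext
        apply hB.2
        intro y
        have h1 := hm ⟨_, hdecomp y⟩
        change B (y + (-(B x y)) • x) m = 0 at h1
        rw [map_add, LinearMap.add_apply, hsmul_left, (hNmem m).mp m.2, mul_zero, add_zero] at h1
        exact h1
    obtain ⟨v', hv'⟩ := ih B' hS' hB'nd hfr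
    let b := Basis.mkFinCons x v'
      (by
        intro a y hy hay
        have := congrArg (B x) hay
        rw [map_add, hsmul_right, hx1, (hNmem y).mp hy, map_zero, add_zero, mul_one] at this
        exact this)
      (by
        intro z
        exact ⟨-(B x z), hdecomp z⟩)
    have hb0 : b 0 = x := by
      simp [b, Basis.coe_mkFinCons]
    have hbs : ∀ i : Fin n, b i.succ = (v' i : V) := by
      intro i
      simp [b, Basis.coe_mkFinCons]
    refine ⟨b, ?_⟩
    intro i j
    refine Fin.cases ?_ (fun i => ?_) i <;> refine Fin.cases ?_ (fun j => ?_) j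
    · rw [hb0, hx1]; simp
    · rw [hb0, hbs, (hNmem _).mp (v' j).2]
      rw [if_neg (Fin.succ_ne_zero j).symm]
    · rw [hb0, hbs, hNmem' _ (v' i).2]
      rw [if_neg (Fin.succ_ne_zero i)]
    · rw [hbs, hbs]
      have := hv' i j
      simp only [hB', LinearMap.domRestrict₁₂_apply] at this
      rw [this]
      simp [Fin.succ_inj]

/-- Classification of Hermitian forms over finite fields: if σ is a non-identity involutive automorphism of the finite field F and B is a non-degenerate conjugate-symmetric σ-sesquilinear form on the finite-dimensional space V, then V has a B-orthonormal basis. -/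
theorem result {F V : Type*} [Field F] [Finite F] [AddCommGroup V] [Module F V] [FiniteDimensional F V] (σ : F →+* F) (hσ : σ ≠ RingHom.id F) (hσ2 : ∀ a : F, σ (σ a) = a) (B : V →ₛₗ[σ] V →ₗ[F] F) (hS : B.IsSymm) (hB : B.Nondegenerate) : ∃ b : Module.Basis (Fin (Module.finrank F V)) F V, ∀ i j, B (b i) (b j) = if i = j then 1 else 0 := by
  exact exists_orthonormal_aux σ hσ hσ2 _ B hS hB rfl

end Cfsg.Agent.S0755
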