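-- Statement S1359: the elements of `U` centralizing a non-identity element of `M_σ` generate an abelian subgroup.
import Cfsg.Statements.S1359
import Cfsg.Agent.S1416
import Cfsg.Agent.S1417
import Cfsg.Agent.S1418
import Cfsg.Agent.Lib.Helper02.BG1359
import Cfsg.Agent.Lib.Helper78.BG128

set_option autoImplicit false
open Cfsg

namespace Cfsg.Agent.S1359

/-- Let G be a minimal simple group of odd order and M a maximal subgroup with standard factorisation M = K U M_σ. Then the subgroup generated by those elements of U which centralize some non-identity element of M_σ is abelian. -/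
theorem result {G : Type*} [Group G] [Finite G] (hG : Cfsg.IsMinSimpleOddOrder G)
    (M : Subgroup G) (hM : IsCoatom M) (K U : Subgroup G) (hKU : Cfsg.IsSigmaDecomposition M K U) :
    IsMulCommutative (Subgroup.closure ((U : Set G) ∩ Cfsg.sigmaHat M)) :=
  Cfsg.Agent.Lib.Helper02.BG1359.s1359_of_hyps hG M hM K U hKU
    (fun p _ A hA => (Cfsg.Agent.S1416.result hG M hM p A hA).1)
    (fun M' hM' p _ hp A hA => Cfsg.Agent.S1417.result hG M' hM' p hp A hA)
    (fun E hE p _ hp A hA => Cfsg.Agent.S1418.result hG M hM E hE p hp A hA)
    (fun E hE p _ hp A hA S hAS hSab =>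
      let h := Cfsg.Agent.Lib.Helper78.BG128.sylow_abelian_structure hG hM hE hp hA S hAS hSab
      ⟨h.1, h.2.1⟩)

end Cfsg.Agent.S1359
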