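-- Statement S1358: the Sylow subgroups of `U` (standard factorisation `M = K U M_σ`) are abelian of rank at most two.
import Cfsg.Statements.S1358
import Cfsg.Agent.S1417
import Cfsg.Agent.Lib.Helper02.BG1358

set_option autoImplicit false
open Cfsg

namespace Cfsg.Agent.S1358

/-- Let G be a minimal simple group of odd order and M = K U M_σ the standard factorisation of a maximal subgroup. Then every Sylow subgroup of U is abelian and has rank at most 2. -/
theorem result {G : Type*} [Group G] [Finite G] (hG : Cfsg.IsMinSimpleOddOrder G)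
    (M : Subgroup G) (hM : IsCoatom M) (K U : Subgroup G) (hKU : Cfsg.IsSigmaDecomposition M K U) :
    ∀ (p : ℕ), p.Prime → ∀ P : Sylow p U, IsMulCommutative (P : Subgroup U) ∧ Cfsg.PRankLE p 2 (P : Subgroup U) :=
  Cfsg.Agent.Lib.Helper02.BG1358.s1358_of_hyp17 hG M hM K U hKU
    (fun p _ hp A hA => Cfsg.Agent.S1417.result hG M hM p hp A hA)

end Cfsg.Agent.S1358
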