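import Cfsg.Statements.S1382
import Cfsg.Agent.S1363
import Cfsg.Agent.Lib.Helper02.BG1382Glue
import Cfsg.Agent.Lib.Helper02.BG1382A
import Cfsg.Agent.Lib.Helper02.BG1382B
import Cfsg.Agent.Lib.Helper02.BG1382D
import Cfsg.Agent.Lib.Helper64.BG1382C
import Cfsg.Agent.Lib.Helper13.BG16P

set_option autoImplicit false
open Cfsg

namespace Cfsg.Agent.S1382

/-- Let G be a minimal simple group of odd order and M a maximal subgroup with standard factorisation M = K U M_σ. Then M is of Type III or of Type IV if and only if K ≠ 1, U = 1 and M_F ≠ M_σ. -/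
theorem result {G : Type*} [Group G] [Finite G] (hG : Cfsg.IsMinSimpleOddOrder G)
    (M : Subgroup G) (hM : IsCoatom M) (K U : Subgroup G) (hKU : Cfsg.IsSigmaDecomposition M K U) :
    (Cfsg.IsOfTypeIII M ∨ Cfsg.IsOfTypeIV M) ↔ (K ≠ ⊥ ∧ U = ⊥ ∧ Cfsg.fittingHallOf M ≠ Cfsg.sigmaCore M) := by
  exact Cfsg.Agent.Lib.Helper02.BG1382.s1382_of hG M hM K U hKU
    (fun hK1 => Cfsg.Agent.Lib.Helper13.BG16.selfNormalizing_of_decomp hG hM hKU hK1)
    (fun W₁ U' W₂ hP => Cfsg.Agent.Lib.Helper13.BG16.kappaHall_ne_bot_of_typeP hG hM hP hKU.hall)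
    (fun hK1 _ => (Cfsg.Agent.S1363.result hG M hM K U hKU hK1).2)
    (Cfsg.Agent.Lib.Helper02.BG1382.exists_invariant_compl hG hM hKU.hall)
    (fun U' hU' hdisj => Cfsg.Agent.Lib.Helper02.BG1382.isNilpotent_of_inf_eq_bot hG hM hU' hdisj)
    (fun U' h1 h2 h3 h4 =>
      Cfsg.Agent.Lib.Helper64.BG1382.normalizer_le_of_nilpotent_hall hG hM h1 h2 h3 h4)
    (fun hK1 hU1 h63 U' hc =>
      Cfsg.Agent.Lib.Helper02.BG1382.not_normalizer_le_of_complIn hG hM hKU hK1 hU1 h63 hc)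

end Cfsg.Agent.S1382
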