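import Cfsg.Statements.S0622
import Cfsg.Agent.Lib.Helper15.Thompson

set_option autoImplicit false
universe u
open Cfsg
open Cfsg.Agent.Lib.Helper15

namespace Cfsg.Agent.S0622

theorem stable_comp {S S' H : Type u} [Group S] [Group S'] [Group H] (p : ℕ) (η : S ≃* S')
    (τ : S' →* H) (hτ : Cfsg.IsStableEmbedding p τ) :
    Cfsg.IsStableEmbedding p (τ.comp η.toMonoidHom) := by
  obtain ⟨hinj, hfin, ⟨P, hP⟩, hcent, hJ, hV⟩ := hτ
  refine ⟨hinj.comp η.injective, hfin, ⟨P, ?_⟩, hcent, ?_, ?_⟩
  · have hr : η.toMonoidHom.range = ⊤ := MonoidHom.range_eq_top.mpr η.surjective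
    rw [hP, MonoidHom.range_comp, hr, ← MonoidHom.range_eq_map]
  · rw [← Subgroup.map_map, thompsonSubgroup_map]; exact hJ
  · intro V _ hle
    apply hV V
    rw [← Subgroup.map_map, omegaCenterThompson_map] at hle
    exact hle

/-- the family whose infimum is the stable normal closure -/
def fam (p : ℕ) (S : Type u) [Group S] : Set (Subgroup S) :=
  {W : Subgroup S | Cfsg.omegaOne p (Subgroup.center S) ≤ W ∧
    ∀ (H : Type u) [Group H] (τ : S →* H), Cfsg.IsStableEmbedding p τ → (W.map τ).Normal}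

theorem snc_eq (p : ℕ) (S : Type u) [Group S] : Cfsg.stableNormalClosure p S = sInf (fam p S) := rfl

theorem fam_map {S S' : Type u} [Group S] [Group S'] (p : ℕ) (η : S ≃* S') {W : Subgroup S}
    (hW : W ∈ fam p S) : W.map η.toMonoidHom ∈ fam p S' := by
  obtain ⟨h1, h2⟩ := hW
  refine ⟨?_, ?_⟩
  · rw [← map_center_equiv η, ← omegaOne_map p _ η.injective]
    exact Subgroup.map_mono h1
  · intro H _ τ hτ
    rw [Subgroup.map_map]
    exact h2 H (τ.comp η.toMonoidHom) (stable_comp p η τ hτ)

theorem snc_map {S S' : Type u} [Group S] [Group S'] (p : ℕ) (η : S ≃* S') :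
    (Cfsg.stableNormalClosure p S).map η.toMonoidHom = Cfsg.stableNormalClosure p S' := by
  rw [snc_eq, snc_eq]
  apply le_antisymm
  · apply le_sInf
    intro W' hW'
    rw [← map_symm_map η W']
    apply Subgroup.map_mono
    exact sInf_le (fam_map p η.symm hW')
  · intro x' hx'
    rw [Subgroup.mem_sInf] at hx'
    refine ⟨η.symm x', ?_, by simp⟩
    rw [SetLike.mem_coe, Subgroup.mem_sInf]
    intro W hW
    obtain ⟨w, hw, hwx⟩ := hx' (W.map η.toMonoidHom) (fam_map p η hW)
    have : η.symm x' = w := by rw [← hwx]; simp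
    rw [this]; exact hw

theorem omegaCenterThompson_mem_fam {S : Type u} [Group S] [Finite S] (p : ℕ) :
    Cfsg.omegaCenterThompson p S ∈ fam p S := by
  refine ⟨omegaOne_center_le_omegaCenterThompson p, ?_⟩
  intro H _ τ hτ
  obtain ⟨hinj, _, _, _, hJ, _⟩ := hτ
  unfold Cfsg.omegaCenterThompson
  rw [omegaOne_map p _ hinj, map_inf_centralizer _ hinj]
  haveI := hJ
  exact omegaOne_center_normal p _

theorem omegaOne_center_ne_bot {S : Type u} [Group S] [Finite S] {p : ℕ} [Fact p.Prime]
    (hS : IsPGroup p S) [Nontrivial S] : Cfsg.omegaOne p (Subgroup.center S) ≠ ⊥ := by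
  haveI : Nontrivial (Subgroup.center S) := hS.center_nontrivial
  have hZ : IsPGroup p (Subgroup.center S) := hS.to_subgroup _
  obtain ⟨n, hn, hcard⟩ := hZ.nontrivial_iff_card.mp inferInstance
  have hdvd : p ∣ Nat.card (Subgroup.center S) := by
    rw [hcard]; exact dvd_pow_self p hn.ne'
  obtain ⟨z, hz⟩ := exists_prime_orderOf_dvd_card' p hdvd
  intro hbot
  have hmem : (z : S) ∈ Cfsg.omegaOne p (Subgroup.center S) := by
    apply Subgroup.subset_closure
    refine ⟨z.2, ?_⟩
    have : z ^ p = 1 := by rw [← hz]; exact pow_orderOf_eq_one z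
    exact_mod_cast congrArg Subtype.val this
  rw [hbot, Subgroup.mem_bot] at hmem
  have hz1 : z = 1 := Subtype.ext hmem
  rw [hz1, orderOf_one] at hz
  exact (Fact.out : p.Prime).one_lt.ne hz

/-- Basic properties of the stable normal closure W(S) of Ω₁(Z(S)) in a finite p-group: characteristic, squeezed between Ω₁(Z(S)) and Ω₁(Z(J(S))), nontrivial for S ≠ 1, and transported by group isomorphisms. -/
theorem result {S : Type u} [Group S] [Finite S] {p : ℕ} [Fact p.Prime] (hS : IsPGroup p S) : (Cfsg.stableNormalClosure p S).Characteristic ∧ Cfsg.omegaOne p (Subgroup.center S) ≤ Cfsg.stableNormalClosure p S ∧ Cfsg.stableNormalClosure p S ≤ Cfsg.omegaCenterThompson p S ∧ (Nontrivial S → Cfsg.stableNormalClosure p S ≠ ⊥) ∧ ∀ (S' : Type u) [Group S'] (η : S ≃* S'), (Cfsg.stableNormalClosure p S).map η.toMonoidHom = Cfsg.stableNormalClosure p S' := by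
  have h2 : Cfsg.omegaOne p (Subgroup.center S) ≤ Cfsg.stableNormalClosure p S := by
    rw [snc_eq]
    apply le_sInf
    intro W hW
    exact hW.1
  refine ⟨?_, h2, ?_, ?_, ?_⟩
  · rw [Subgroup.characteristic_iff_map_eq]
    intro φ
    exact snc_map p φ
  · rw [snc_eq]
    exact sInf_le (omegaCenterThompson_mem_fam p)
  · intro hnt hbot
    have := omegaOne_center_ne_bot hS
    apply this
    rw [eq_bot_iff, ← hbot]
    exact h2
  · intro S' _ η
    exact snc_map p η

end Cfsg.Agent.S0622
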