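import Cfsg.Statements.S0626
import Cfsg.Agent.Lib.Helper52.ActionPStable
import Cfsg.Agent.Lib.Helper52.QuadAction

set_option autoImplicit false
open Cfsg

namespace Cfsg.Agent.S0626

/-- For odd p, groups whose Sylow 2-subgroups are abelian are p-stable in the action sense. -/
theorem result {G : Type*} [Group G] [Finite G] {p : ℕ} [Fact p.Prime] (hp : p ≠ 2) (hab : ∀ T : Sylow 2 G, IsMulCommutative T) : Cfsg.IsActionPStable p G := by
  have : Fact (Nat.Prime 2) := ⟨Nat.prime_two⟩
  refine Cfsg.Agent.Lib.Helper52.isActionPStable_of_criterion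
    (fun X _ => ∀ T : Sylow 2 X, IsMulCommutative T) ?_ ?_ ?_ hab
  · intro Y _ _ W _ _ hY hexp c hc y hy
    exact Cfsg.Agent.Lib.Helper52.mem_pCore_of_quadratic_action hp hexp c hc y hy default
      (hY default)
  · intro X _ _ N _ hX T
    exact Cfsg.Agent.Lib.Helper52.sylow_two_comm_of_surjective (QuotientGroup.mk' N)
      (QuotientGroup.mk'_surjective N) default (hX default) T
  · intro H hG T
    exact Cfsg.Agent.Lib.Helper52.sylow_two_comm_of_injective H.subtype H.subtype_injective T
      default (hG default)

end Cfsg.Agent.S0626
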