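import Cfsg.Statements.S5081
import Cfsg.Agent.S5077
import Cfsg.Agent.Lib.Helper89.Generation
import Cfsg.Agent.Lib.Helper89.NormalCrit
import Cfsg.Agent.Lib.Helper53.StronglyEmbedded

set_option autoImplicit false
open Cfsg

namespace Cfsg.Agent.S5081

open Cfsg.FusionSystem Cfsg.Agent.Lib

variable {Ω : Type*} [Group Ω] {S : Subgroup Ω}

/-- The generating set of `H`. -/
def extSet (F : FusionSystem S) (P : Subgroup Ω) : Set (MulAut P) :=
  {α : MulAut P | ∃ (Q : Subgroup Ω) (hPQ : P < Q) (φ : Q →* Ω), φ ∈ F.Hom Q ∧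
    ∀ x : P, φ (Subgroup.inclusion hPQ.le x) = α x}

theorem extSet_subset_autGroup (F : FusionSystem S) {P : Subgroup Ω} (hP : P ≤ S) :
    extSet F P ⊆ F.autGroup P := by
  rintro α ⟨Q, hPQ, φ, hφ, hφα⟩
  rw [SetLike.mem_coe, Helper89.mem_autGroup_iff F hP]
  exact Helper87.hom_congr F (Helper87.restrict_mem F hPQ.le hφ) (fun x => (hφα x).symm)

theorem mem_extSet_of_extender [Finite S] (F : FusionSystem S) {P : Subgroup Ω}
    (hrec : F.IsReceptive P) {α : MulAut P} (hα : α ∈ F.autGroup P) {g : Ω}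
    (hg : g ∈ extender S P (P.subtype.comp α.toMonoidHom)) (hgP : g ∉ P) : α ∈ extSet F P := by
  have hP : P ≤ S := hrec.1
  have hφ := (Helper89.mem_autGroup_iff F hP α).mp hα
  have hr : (P.subtype.comp α.toMonoidHom).range = P := by
    ext y
    constructor
    · rintro ⟨x, rfl⟩
      exact (α x).2
    · intro hy
      exact ⟨α.symm ⟨y, hy⟩, by simp⟩
  obtain ⟨ψ, hψ, hψext⟩ := hrec.2 P _ hφ hr
  have hPN : P ≤ extender S P (P.subtype.comp α.toMonoidHom) :=
    Helper87.le_extender hP (fun x => hP (α x).2)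
  have hlt : P < extender S P (P.subtype.comp α.toMonoidHom) :=
    lt_of_le_of_ne hPN (fun h => hgP (h ▸ hg))
  exact ⟨_, hlt, ψ, hψ, fun x => hψext x x.2 (hPN x.2)⟩

theorem inn_le_closure_extSet [Finite S] {p : ℕ} [Fact p.Prime] (hS : IsPGroup p S)
    (F : FusionSystem S) {P : Subgroup Ω} (hPS : P < S) :
    Inn P ≤ Subgroup.closure (extSet F P) := by
  rintro _ ⟨y, rfl⟩
  apply Subgroup.subset_closure
  obtain ⟨g, hgN, hgP⟩ := Helper89.exists_mem_normalizerIn_not_mem hS hPS.le hPS.ne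
  have hPN : P ≤ normalizerIn S P := Helper87.le_normalizerIn hPS.le
  have hlt : P < normalizerIn S P := lt_of_le_of_ne hPN (fun h => hgP (h ▸ hgN))
  exact ⟨_, hlt, conjHom (normalizerIn S P) y,
    F.conj_mem (Helper87.normalizerIn_le S P) (hPS.le y.2), fun x => rfl⟩

/-- Elements of a `p`-subgroup other than `1` have order divisible by `p`. -/
theorem dvd_orderOf_of_ne_one {X : Type*} [Group X] {p : ℕ} [hp : Fact p.Prime] {T : Subgroup X}
    (hT : IsPGroup p T) {d : X} (hd : d ∈ T) (hd1 : d ≠ 1) : p ∣ orderOf d := by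
  obtain ⟨j, hj⟩ := hT ⟨d, hd⟩
  have hj' : d ^ p ^ j = 1 := congrArg Subtype.val hj
  obtain ⟨i, -, hi⟩ := (Nat.dvd_prime_pow hp.out).mp (orderOf_dvd_of_pow_eq_one hj')
  have hi0 : i ≠ 0 := by
    rintro rfl
    exact hd1 (orderOf_eq_one_iff.mp (by simpa using hi))
  rw [hi]
  exact dvd_pow_self p hi0

/-- The essential case. -/
theorem essential_case [Finite S] {p : ℕ} [Fact p.Prime] (hS : IsPGroup p S) (F : FusionSystem S)
    {P : Subgroup Ω} (hPS : P < S) (hrec : F.IsReceptive P) (hfa : F.IsFullyAutomized p P)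
    (hess : F.IsEssential p P) :
    IsStronglyPEmbedded p (((Subgroup.closure (extSet F P)).subgroupOf (F.autGroup P)).map
      (QuotientGroup.mk' ((Inn P).subgroupOf (F.autGroup P)))) := by
  classical
  have hP : P ≤ S := hPS.le
  have : Finite P := Helper87.finite_of_le hP
  obtain ⟨hcen, hfn, _hn, E', hE'⟩ := hess
  let A : Subgroup (MulAut P) := F.autGroup P
  let I : Subgroup A := (Inn P).subgroupOf A
  let π : A →* A ⧸ I := QuotientGroup.mk' I
  have hπ : Function.Surjective π := QuotientGroup.mk'_surjective I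
  obtain ⟨R, hR⟩ := hfa.2
  let T₀ : Sylow p (A ⧸ I) := R.mapSurjective hπ
  have hT₀ : (T₀ : Subgroup (A ⧸ I)) = ((autInducedBy S P).subgroupOf A).map π := by
    rw [Sylow.coe_mapSurjective, hR]
  have hpdvd : p ∣ Nat.card (A ⧸ I) := hE'.1
  have hE'ne : E' ≠ ⊤ := hE'.2.1
  have hT₀ne : (T₀ : Subgroup (A ⧸ I)) ≠ ⊥ := T₀.ne_bot_of_dvd_card hpdvd
  -- p divides |E'|
  have hpE' : p ∣ Nat.card E' := by
    obtain ⟨-, -, T, hT⟩ := hE'
    have hTne : (T : Subgroup (A ⧸ I)) ≠ ⊥ := T.ne_bot_of_dvd_card hpdvd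
    have hTE' : (T : Subgroup (A ⧸ I)) ≤ E' :=
      Subgroup.le_normalizer.trans
        ((Helper53.kGeneratedCore_one_le_iff T E').mp hT T le_rfl hTne)
    have h1 : p ∣ Nat.card (T : Subgroup (A ⧸ I)) := T.dvd_card_of_dvd_card hpdvd
    exact h1.trans (Subgroup.card_dvd_of_le hTE')
  obtain ⟨g, hg⟩ := (Helper53.isStronglyPEmbedded_iff_conj_core T₀ hE'ne hpE').mp hE'
  let Y : Subgroup (A ⧸ I) := E'.map (MulAut.conj g⁻¹).toMonoidHom
  have hcoreY : ∀ Q : Subgroup (A ⧸ I), Q ≤ T₀ → Q ≠ ⊥ →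
      Subgroup.normalizer (Q : Set (A ⧸ I)) ≤ Y := by
    intro Q hQT hQne
    have h1 : Subgroup.normalizer (Q : Set (A ⧸ I)) ≤
        ⨆ B : {B : Subgroup (A ⧸ I) // B ≤ (T₀ : Subgroup (A ⧸ I)) ∧ B ≠ ⊥},
          Subgroup.normalizer ((B : Subgroup (A ⧸ I)) : Set (A ⧸ I)) :=
      le_iSup (fun B : {B : Subgroup (A ⧸ I) // B ≤ (T₀ : Subgroup (A ⧸ I)) ∧ B ≠ ⊥} =>
        Subgroup.normalizer ((B : Subgroup (A ⧸ I)) : Set (A ⧸ I))) ⟨Q, hQT, hQne⟩
    have h2 := Subgroup.map_mono (f := (MulAut.conj g⁻¹).toMonoidHom) ((Subgroup.map_mono h1).trans hg)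
    rwa [Helper53.map_conj_inv_map_conj] at h2
  have hT₀Y : (T₀ : Subgroup (A ⧸ I)) ≤ Y :=
    Subgroup.le_normalizer.trans (hcoreY T₀ le_rfl hT₀ne)
  have hYne : Y ≠ ⊤ := by
    intro hY
    apply hE'ne
    have := congrArg (Subgroup.map (MulAut.conj g).toMonoidHom) hY
    rw [show Y = E'.map (MulAut.conj g⁻¹).toMonoidHom from rfl,
      Helper53.map_conj_map_conj_inv] at this
    rw [this]
    exact (Subgroup.map_top_of_surjective _ (MulAut.conj g).surjective)
  have hpY : p ∣ Nat.card Y := by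
    rw [show Y = E'.map (MulAut.conj g⁻¹).toMonoidHom from rfl, Helper53.card_map_conj]
    exact hpE'
  have hNB : Helper53.NormB p Y :=
    Helper53.normB_map_conj ((Helper53.isStronglyPEmbedded_iff_normB hE'ne hpE').mp hE') g⁻¹
  have hinf := (Helper53.normB_iff_conj_inf hpY).mp hNB
  -- (I) the generated core lies in the image of H
  have hI : kGeneratedCore p 1 (T₀ : Subgroup (A ⧸ I)) ≤
      ((Subgroup.closure (extSet F P)).subgroupOf A).map π :=
    Helper89.kGeneratedCore_le_map_of_extender hP _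
      (fun α hα g hg hgP => Subgroup.subset_closure (mem_extSet_of_extender F hrec hα hg hgP))
      _ hT₀
  -- (II) the image of H lies in Y
  have hgen : ∀ α ∈ extSet F P, ∀ hα : α ∈ A, π ⟨α, hα⟩ ∈ Y := by
    rintro α ⟨Q, hPQ, φ, hφ, hφα⟩ hαA
    have hQS : Q ≤ S := Helper87.hom_le F hφ
    have : Finite Q := Helper87.finite_of_le hQS
    have hQp : IsPGroup p Q := hS.to_le hQS
    obtain ⟨n, hnN, hnP⟩ := Helper89.exists_mem_normalizerIn_not_mem hQp hPQ.le hPQ.ne
    have hnQ : n ∈ Q := hnN.1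
    have hnn : n ∈ Subgroup.normalizer (P : Set Ω) := hnN.2
    have hnS : n ∈ S := hQS hnQ
    let c : MulAut P := Helper89.conjAut P n hnn
    have hcS : c ∈ autInducedBy S P := Helper89.conjAut_mem_autInducedBy hnS hnn
    have hcA : c ∈ A := Helper89.autInducedBy_le_autGroup F hP hcS
    let k : Ω := φ ⟨n, hnQ⟩
    have hkS : k ∈ S := Helper87.hom_mem F hφ _
    have hconj : ∀ y : P, (((α * c * α⁻¹) y : P) : Ω) = k * (y : Ω) * k⁻¹ := by
      intro y
      set x : P := α⁻¹ y with hx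
      have hax : α x = y := by simp [hx]
      have h1 : (α * c * α⁻¹) y = α (c x) := rfl
      rw [h1, ← hφα (c x)]
      have h3 : Subgroup.inclusion hPQ.le (c x) =
          ⟨n, hnQ⟩ * Subgroup.inclusion hPQ.le x * ⟨n, hnQ⟩⁻¹ := Subtype.ext rfl
      rw [h3, map_mul, map_mul, map_inv, hφα x, hax]
    have hacaS : α * c * α⁻¹ ∈ autInducedBy S P :=
      (Helper89.mem_autInducedBy_iff S P _).mpr ⟨k, hkS, hconj⟩
    have hacaA : α * c * α⁻¹ ∈ A := A.mul_mem (A.mul_mem hαA hcA) (A.inv_mem hαA)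
    let d : A ⧸ I := π ⟨c, hcA⟩
    have hdT : d ∈ (T₀ : Subgroup (A ⧸ I)) := by
      rw [hT₀]; exact ⟨⟨c, hcA⟩, Subgroup.mem_subgroupOf.mpr hcS, rfl⟩
    have hd1 : d ≠ 1 := by
      intro h1
      apply hnP
      have : (⟨c, hcA⟩ : A) ∈ I := (QuotientGroup.eq_one_iff _).mp h1
      exact Helper89.mem_of_conjAut_mem_inn F hcen hnS hnn (Subgroup.mem_subgroupOf.mp this)
    have hadT : π ⟨α, hαA⟩ * d * (π ⟨α, hαA⟩)⁻¹ ∈ (T₀ : Subgroup (A ⧸ I)) := by
      have e : π ⟨α, hαA⟩ * d * (π ⟨α, hαA⟩)⁻¹ = π ⟨α * c * α⁻¹, hacaA⟩ := by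
        rw [← map_inv, ← map_mul, ← map_mul]; rfl
      rw [e, hT₀]
      exact ⟨⟨α * c * α⁻¹, hacaA⟩, Subgroup.mem_subgroupOf.mpr hacaS, rfl⟩
    by_contra hnot
    have hinv : (π ⟨α, hαA⟩)⁻¹ ∉ Y := fun h => hnot (inv_inv (π ⟨α, hαA⟩) ▸ Y.inv_mem h)
    apply hinf _ hinv
    have hdmem : d ∈ Y ⊓ Y.map (MulAut.conj (π ⟨α, hαA⟩)⁻¹).toMonoidHom := by
      refine ⟨hT₀Y hdT, ?_⟩
      show d ∈ Y.map (MulAut.conj (π ⟨α, hαA⟩)⁻¹).toMonoidHom
      rw [Helper53.mem_map_conj_iff, inv_inv]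
      exact hT₀Y hadT
    have h1 : p ∣ orderOf d := dvd_orderOf_of_ne_one T₀.2 hdT hd1
    have h2 : orderOf d ∣ Nat.card ↥(Y ⊓ Y.map (MulAut.conj (π ⟨α, hαA⟩)⁻¹).toMonoidHom) := by
      have := orderOf_dvd_natCard (⟨d, hdmem⟩ : ↥(Y ⊓ Y.map (MulAut.conj (π ⟨α, hαA⟩)⁻¹).toMonoidHom))
      rwa [Subgroup.orderOf_mk] at this
    exact h1.trans h2
  have hII : ((Subgroup.closure (extSet F P)).subgroupOf A).map π ≤ Y := by
    rintro _ ⟨a, ha, rfl⟩
    have ha' : (a : MulAut P) ∈ Subgroup.closure (extSet F P) := Subgroup.mem_subgroupOf.mp ha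
    have hcl : Subgroup.closure (extSet F P) ≤ (Y.comap π).map A.subtype := by
      rw [Subgroup.closure_le]
      intro α hα
      have hαA : α ∈ A := extSet_subset_autGroup F hP hα
      exact ⟨⟨α, hαA⟩, hgen α hα hαA, rfl⟩
    obtain ⟨a', ha'Y, haa'⟩ := hcl ha'
    have : a' = a := Subtype.ext haa'
    rw [← this]
    exact ha'Y
  exact ⟨hpdvd, fun htop => hYne (top_le_iff.mp (htop ▸ hII)), T₀, hI⟩

/-- Let F be a saturated fusion system over a finite p-group S, P a proper subgroup of S that is fully normalized, and H the subgroup of Aut_F(P) generated by the automorphisms that extend to maps of the system defined on strictly larger subgroups of S. Then either P is not essential and H is all of Aut_F(P), or P is essential and the image of H in Out_F(P) = Aut_F(P)/Inn(P) is strongly p-embedded there. -/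
theorem result {Ω : Type*} [Group Ω] {S : Subgroup Ω} [Finite S] (p : ℕ) [Fact p.Prime] (hS : IsPGroup p S) (F : Cfsg.FusionSystem S) (hF : F.IsSaturated p) (P : Subgroup Ω) (hPS : P < S) (hPn : F.IsFullyNormalized P) (H : Subgroup (MulAut P)) (hH : H = Subgroup.closure {α : MulAut P | ∃ (Q : Subgroup Ω) (hPQ : P < Q) (φ : Q →* Ω), φ ∈ F.Hom Q ∧ ∀ x : P, φ (Subgroup.inclusion hPQ.le x) = α x}) : (¬ F.IsEssential p P ∧ H = F.autGroup P) ∨ (F.IsEssential p P ∧ ∃ _ : ((Cfsg.Inn P).subgroupOf (F.autGroup P)).Normal, Cfsg.IsStronglyPEmbedded p ((H.subgroupOf (F.autGroup P)).map (QuotientGroup.mk' ((Cfsg.Inn P).subgroupOf (F.autGroup P))))) := by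
  have hHext : H = Subgroup.closure (extSet F P) := hH
  obtain ⟨h1, h2⟩ := (Cfsg.Agent.S5077.result p hS F).mp hF
  obtain ⟨hfc, hfa⟩ := h1 P hPn
  have hrec := h2 P hfc
  have hP : P ≤ S := hPS.le
  by_cases hess : F.IsEssential p P
  · right
    refine ⟨hess, inferInstance, ?_⟩
    rw [hHext]
    exact essential_case hS F hPS hrec hfa hess
  · left
    refine ⟨hess, ?_⟩
    rw [hHext]
    apply le_antisymm ((Subgroup.closure_le _).mpr (extSet_subset_autGroup F hP))
    by_cases hcen : F.IsCentric P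
    · exact Helper89.autGroup_le_of_extender_of_not_essential hS hPn hfa hcen hPS.ne hess _
        (inn_le_closure_extSet hS F hPS)
        (fun α hα g hg hgP => Subgroup.subset_closure (mem_extSet_of_extender F hrec hα hg hgP))
    · intro α hα
      have hC : ¬ centralizerIn S P ≤ P :=
        fun hC => hcen (Helper89.isCentric_of_fullyCentralized F hfc hC)
      obtain ⟨g, hgC, hgP⟩ := SetLike.not_le_iff_exists.mp hC
      exact Subgroup.subset_closure
        (mem_extSet_of_extender F hrec hα (Helper87.centralizerIn_le_extender S P _ hgC) hgP)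

end Cfsg.Agent.S5081
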