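import Mathlib
import Cfsg.Statements.S0677

set_option autoImplicit false
open Cfsg

namespace Cfsg.Agent.S0677

section core

variable {G : Type*} [Group G]

/-- `x` acts regularly on `γ` through the base point `c₀`, which is fixed by `t` -/
structure RegPt (x t : G) (γ : Type*) [MulAction G γ] (c₀ : γ) : Prop where
  fix : t • c₀ = c₀
  surj : ∀ a : γ, ∃ i : ℤ, a = x ^ i • c₀
  free : ∀ i : ℤ, x ^ i • c₀ = c₀ → x ^ i = 1

lemma t_mul_zpow {x t : G} (htx : t * x * t⁻¹ = x⁻¹) (i : ℤ) : t * x ^ i = x ^ (-i) * t := by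
  have h1 : t * x ^ i * t⁻¹ = x ^ (-i) := by
    rw [← conj_zpow, htx, inv_zpow']
  calc t * x ^ i = (t * x ^ i * t⁻¹) * t := by group
    _ = x ^ (-i) * t := by rw [h1]

lemma t_smul_zpow {x t : G} (htx : t * x * t⁻¹ = x⁻¹) {γ : Type*} [MulAction G γ] {c₀ : γ}
    (hr : RegPt x t γ c₀) (i : ℤ) : t • x ^ i • c₀ = x ^ (-i) • c₀ := by
  rw [← mul_smul, t_mul_zpow htx, mul_smul, hr.fix]

/-- a finset with a fixed-point-free involution has even cardinality -/
lemma even_card_of_involution {γ : Type*} (s : Finset γ) (τ : γ → γ)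
    (hmem : ∀ a ∈ s, τ a ∈ s) (hinv : ∀ a ∈ s, τ (τ a) = a) (hne : ∀ a ∈ s, τ a ≠ a) :
    Even s.card := by
  have h := Finset.sum_involution (s := s) (f := fun _ => (1 : ZMod 2)) (fun a _ => τ a)
    (fun a _ => by decide) (fun a ha _ => hne a ha) (fun a ha => hmem a ha)
    (fun a ha => hinv a ha)
  rw [Finset.sum_const, nsmul_eq_mul, mul_one] at h
  exact (ZMod.natCast_eq_zero_iff_even).1 h

/-- parity of `|C ∩ x^(2d) C|` -/
lemma parity {x t : G} {p : ℕ} (hx : orderOf x = p) (hp : Odd p) (htt : t * t = 1)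
    (htx : t * x * t⁻¹ = x⁻¹)
    {γ : Type*} [MulAction G γ] [DecidableEq γ] {c₀ : γ} (hr : RegPt x t γ c₀) (C : Finset γ)
    (hCt : ∀ a ∈ C, t • a ∈ C) (d : ℤ) :
    Odd ((C.filter (fun a => (x ^ (2 * d))⁻¹ • a ∈ C)).card) ↔ x ^ d • c₀ ∈ C := by
  set y : G := x ^ (2 * d) with hy
  set m : γ := x ^ d • c₀ with hm
  set S : Finset γ := C.filter (fun a => y⁻¹ • a ∈ C) with hS
  have hty : t * y = y⁻¹ * t := by
    rw [hy, t_mul_zpow htx, zpow_neg]
  have hty' : t * y⁻¹ = y * t := by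
    calc t * y⁻¹ = y * (y⁻¹ * t) * y⁻¹ := by group
      _ = y * (t * y) * y⁻¹ := by rw [hty]
      _ = y * t := by group
  have hτ2 : (y * t) * (y * t) = 1 := by
    calc (y * t) * (y * t) = y * (t * y) * t := by group
      _ = y * (y⁻¹ * t) * t := by rw [hty]
      _ = t * t := by group
      _ = 1 := htt
  have hCt' : ∀ a, t • a ∈ C → a ∈ C := by
    intro a ha
    have := hCt _ ha
    rwa [← mul_smul, htt, one_smul] at this
  -- the involution
  let τ : γ → γ := fun a => (y * t) • a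
  have hτmem : ∀ a ∈ S, τ a ∈ S := by
    intro a ha
    rw [hS, Finset.mem_filter] at ha ⊢
    constructor
    · show (y * t) • a ∈ C
      rw [← hty', mul_smul]
      exact hCt _ ha.2
    · show y⁻¹ • (y * t) • a ∈ C
      rw [← mul_smul, inv_mul_cancel_left]
      exact hCt _ ha.1
  have hτinv : ∀ a, τ (τ a) = a := by
    intro a
    show (y * t) • (y * t) • a = a
    rw [← mul_smul, hτ2, one_smul]
  have hτfix : ∀ a, τ a = a ↔ a = m := by
    intro a
    obtain ⟨e, rfl⟩ := hr.surj a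
    show (y * t) • x ^ e • c₀ = x ^ e • c₀ ↔ x ^ e • c₀ = x ^ d • c₀
    rw [mul_smul, t_smul_zpow htx hr, hy, ← mul_smul, ← zpow_add]
    constructor
    · intro h
      have h1 : x ^ (2 * (d - e)) • c₀ = c₀ := by
        have : x ^ (2 * (d - e)) = (x ^ e)⁻¹ * x ^ (2 * d + -e) := by
          rw [← zpow_neg, ← zpow_add]; congr 1; ring
        rw [this, mul_smul, h, ← mul_smul, inv_mul_cancel, one_smul]
      have h2 := hr.free _ h1
      rw [← orderOf_dvd_iff_zpow_eq_one, hx] at h2
      have hcop : IsCoprime (p : ℤ) 2 := by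
        rw [Int.isCoprime_iff_gcd_eq_one]
        obtain ⟨k, hk⟩ := hp
        rw [hk]
        simp [Int.gcd]
      have h3 : (p : ℤ) ∣ d - e := hcop.dvd_of_dvd_mul_left h2
      rw [← hx, orderOf_dvd_iff_zpow_eq_one] at h3
      have : x ^ e = x ^ d := by
        have : x ^ d = x ^ (d - e) * x ^ e := by rw [← zpow_add]; congr 1; ring
        rw [this, h3, one_mul]
      rw [this]
    · intro h
      have h1 : x ^ (d - e) • c₀ = c₀ := by
        have : x ^ (d - e) = (x ^ e)⁻¹ * x ^ d := by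
          rw [← zpow_neg, ← zpow_add]; congr 1; ring
        rw [this, mul_smul, ← h, ← mul_smul, inv_mul_cancel, one_smul]
      have h2 := hr.free _ h1
      have : x ^ (2 * d + -e) = x ^ (d - e) * x ^ d := by
        rw [← zpow_add]; congr 1; ring
      rw [this, h2, one_mul, h]
  have hmS : m ∈ S ↔ m ∈ C := by
    rw [hS, Finset.mem_filter]
    constructor
    · exact fun h => h.1
    · intro h
      refine ⟨h, ?_⟩
      have : y⁻¹ • m = t • m := by
        rw [hm, t_smul_zpow htx hr, hy, ← zpow_neg, ← mul_smul, ← zpow_add]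
        congr 2; ring
      rw [this]
      exact hCt _ h
  -- split off the fixed point
  have heven : Even (S.filter (fun a => a ≠ m)).card := by
    apply even_card_of_involution _ τ
    · intro a ha
      rw [Finset.mem_filter] at ha ⊢
      refine ⟨hτmem a ha.1, ?_⟩
      intro h
      apply ha.2
      have h1 : τ (τ a) = τ m := by rw [h]
      rw [hτinv, (hτfix m).2 rfl] at h1
      exact h1
    · intro a _
      exact hτinv a
    · intro a ha
      rw [Finset.mem_filter] at ha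
      intro h
      exact ha.2 ((hτfix a).1 h)
  have hsplit : S.card = (S.filter (fun a => a ≠ m)).card + (if m ∈ S then 1 else 0) := by
    by_cases hmem : m ∈ S
    · rw [if_pos hmem, Finset.filter_ne', Finset.card_erase_add_one hmem]
    · rw [if_neg hmem, Finset.filter_ne', Finset.erase_eq_of_notMem hmem, add_zero]
  rw [← hmS, hsplit]
  split_ifs with hmem
  · simp only [hmem, iff_true]
    exact heven.add_one
  · simp only [hmem, iff_false, add_zero, Nat.not_odd_iff_even]
    exact heven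

/-- transport of the intersection count -/
lemma card_le_of_conj {γ : Type*} [MulAction G γ] [DecidableEq γ] (C : Finset γ) (h h' y y' : G)
    (hh : ∀ a ∈ C, h • a ∈ C) (hh' : ∀ a ∈ C, h' • a ∈ C) (hrel : h * y = y' * h') :
    (C.filter (fun a => y⁻¹ • a ∈ C)).card ≤ (C.filter (fun a => y'⁻¹ • a ∈ C)).card := by
  apply Finset.card_le_card_of_injOn (fun a => h • a)
  · intro a ha
    rw [Finset.mem_coe, Finset.mem_filter] at ha ⊢
    refine ⟨hh a ha.1, ?_⟩
    have : y'⁻¹ * h = h' * y⁻¹ := by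
      calc y'⁻¹ * h = y'⁻¹ * (h * y) * y⁻¹ := by group
        _ = y'⁻¹ * (y' * h') * y⁻¹ := by rw [hrel]
        _ = h' * y⁻¹ := by group
    show y'⁻¹ • h • a ∈ C
    rw [← mul_smul, this, mul_smul]
    exact hh' _ ha.2
  · intro a _ b _ hab
    exact MulAction.injective h hab

/-- **The step.** If `C ⊆ γ` is invariant under the stabilizer of `b₀`, then so is the set of
`x^(2d) b₀` with `x^d c₀ ∈ C`. -/
lemma step {x t : G} {p : ℕ} (hx : orderOf x = p) (hp : Odd p) (htt : t * t = 1)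
    (htx : t * x * t⁻¹ = x⁻¹)
    {γ β : Type*} [MulAction G γ] [MulAction G β] [DecidableEq γ] {c₀ : γ} {b₀ : β}
    (hγ : RegPt x t γ c₀) (hβ : RegPt x t β b₀) (C : Finset γ)
    (hC : ∀ h : G, h • b₀ = b₀ → ∀ a ∈ C, h • a ∈ C)
    (h : G) (hh : h • b₀ = b₀) (d : ℤ) (hd : x ^ d • c₀ ∈ C) :
    ∃ d' : ℤ, x ^ d' • c₀ ∈ C ∧ h • x ^ (2 * d) • b₀ = x ^ (2 * d') • b₀ := by
  obtain ⟨g', hg'⟩ := hβ.surj (h • x ^ (2 * d) • b₀)
  obtain ⟨k, hk⟩ := hp
  set d' : ℤ := g' * (k + 1) with hd'
  have hxp : x ^ (p : ℤ) = 1 := by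
    rw [zpow_natCast, ← hx, pow_orderOf_eq_one]
  have hpow : x ^ (2 * d') = x ^ g' := by
    have : 2 * d' = g' + p * g' := by rw [hd', hk]; push_cast; ring
    rw [this, zpow_add, zpow_mul, hxp, one_zpow, mul_one]
  refine ⟨d', ?_, by rw [hpow]; exact hg'⟩
  set y : G := x ^ (2 * d) with hy
  set y' : G := x ^ (2 * d') with hy'
  have hyb : h • y • b₀ = y' • b₀ := by rw [hpow]; exact hg'
  set h' : G := y'⁻¹ * h * y with hh'def
  have hh'b : h' • b₀ = b₀ := by
    rw [hh'def, mul_smul, mul_smul, hyb, ← mul_smul, inv_mul_cancel, one_smul]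
  have hrel : h * y = y' * h' := by rw [hh'def]; group
  have hinvb : ∀ g : G, g • b₀ = b₀ → g⁻¹ • b₀ = b₀ := by
    intro g hg
    calc g⁻¹ • b₀ = g⁻¹ • g • b₀ := by rw [hg]
      _ = b₀ := by rw [← mul_smul, inv_mul_cancel, one_smul]
  have hrel' : h⁻¹ * y' = y * h'⁻¹ := by rw [hh'def]; group
  have hle1 := card_le_of_conj C h h' y y' (hC h hh) (hC h' hh'b) hrel
  have hle2 := card_le_of_conj C h⁻¹ h'⁻¹ y' y (hC _ (hinvb h hh)) (hC _ (hinvb h' hh'b)) hrel'
  have heq := le_antisymm hle1 hle2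
  have hCt : ∀ a ∈ C, t • a ∈ C := hC t hβ.fix
  have hpodd : Odd p := ⟨k, hk⟩
  have h1 := (parity hx hpodd htt htx hγ C hCt d).2 hd
  rw [← hy, heq] at h1
  exact (parity hx hpodd htt htx hγ C hCt d').1 h1

lemma RegPt.inj {x t : G} {γ : Type*} [MulAction G γ] {c₀ : γ} (hr : RegPt x t γ c₀) {a b : ℤ}
    (h : x ^ a • c₀ = x ^ b • c₀) : x ^ a = x ^ b := by
  have h1 : x ^ (a - b) • c₀ = c₀ := by
    have : x ^ (a - b) = (x ^ b)⁻¹ * x ^ a := by
      rw [← zpow_neg, ← zpow_add]; congr 1; ring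
    rw [this, mul_smul, h, ← mul_smul, inv_mul_cancel, one_smul]
  have h2 := hr.free _ h1
  have : x ^ a = x ^ (a - b) * x ^ b := by rw [← zpow_add]; congr 1; ring
  rw [this, h2, one_mul]

/-- iterating the step -/
lemma iter {x t : G} {p : ℕ} (hx : orderOf x = p) (hp : Odd p) (htt : t * t = 1)
    (htx : t * x * t⁻¹ = x⁻¹)
    {α β : Type*} [MulAction G α] [MulAction G β] [DecidableEq α] [Fintype β] [DecidableEq β]
    {o : α} {b₀ : β}
    (hα : RegPt x t α o) (hβ : RegPt x t β b₀) (C : Finset α)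
    (hC : ∀ h : G, h • b₀ = b₀ → ∀ a ∈ C, h • a ∈ C) (k : ℕ) :
    ∀ h : G, h • b₀ = b₀ → ∀ d : ℤ, x ^ d • o ∈ C →
      ∃ d' : ℤ, x ^ d' • o ∈ C ∧ h • x ^ (2 ^ (k + 1) * d) • b₀ = x ^ (2 ^ (k + 1) * d') • b₀ := by
  classical
  induction k with
  | zero =>
    intro h hh d hd
    obtain ⟨d', hd', he⟩ := step hx hp htt htx hα hβ C hC h hh d hd
    exact ⟨d', hd', by simpa using he⟩
  | succ k ih =>
    intro h hh d₀ hd₀
    let D : Finset β := Finset.univ.filter
      (fun b => ∃ d : ℤ, x ^ d • o ∈ C ∧ b = x ^ (2 ^ (k + 1) * d) • b₀)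
    have hD : ∀ h : G, h • b₀ = b₀ → ∀ b ∈ D, h • b ∈ D := by
      intro h hh b hb
      rw [Finset.mem_filter] at hb ⊢
      obtain ⟨-, d, hd, rfl⟩ := hb
      obtain ⟨d', hd', he⟩ := ih h hh d hd
      exact ⟨Finset.mem_univ _, d', hd', he⟩
    have hmem : x ^ (2 ^ (k + 1) * d₀) • b₀ ∈ D := by
      rw [Finset.mem_filter]
      exact ⟨Finset.mem_univ _, d₀, hd₀, rfl⟩
    obtain ⟨d₁, hd₁, he⟩ := step hx hp htt htx hβ hβ D hD h hh (2 ^ (k + 1) * d₀) hmem
    rw [Finset.mem_filter] at hd₁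
    obtain ⟨-, d', hd', he'⟩ := hd₁
    have h1 : x ^ d₁ = x ^ (2 ^ (k + 1) * d') := hβ.inj he'
    refine ⟨d', hd', ?_⟩
    have e1 : (2 : ℤ) ^ (k + 1 + 1) * d₀ = 2 * (2 ^ (k + 1) * d₀) := by ring
    have e2 : x ^ ((2 : ℤ) ^ (k + 1 + 1) * d') = x ^ (2 * d₁) := by
      have : (2 : ℤ) ^ (k + 1 + 1) * d' = (2 ^ (k + 1) * d') * 2 := by ring
      rw [this, zpow_mul, ← h1, ← zpow_mul]
      congr 1; ring
    rw [e1, e2]
    exact he

/-- **Transfer.** Invariant subsets of `α` transfer to invariant subsets of `β`. -/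
lemma transfer {x t : G} {p : ℕ} (hx : orderOf x = p) (hp : p.Prime) (hp2 : p ≠ 2)
    (htt : t * t = 1) (htx : t * x * t⁻¹ = x⁻¹)
    {α β : Type*} [MulAction G α] [MulAction G β] [DecidableEq α] [Fintype β] [DecidableEq β]
    {o : α} {b₀ : β}
    (hα : RegPt x t α o) (hβ : RegPt x t β b₀) (C : Finset α)
    (hC : ∀ h : G, h • b₀ = b₀ → ∀ a ∈ C, h • a ∈ C)
    (h : G) (hh : h • b₀ = b₀) (d : ℤ) (hd : x ^ d • o ∈ C) :
    ∃ d' : ℤ, x ^ d' • o ∈ C ∧ h • x ^ d • b₀ = x ^ d' • b₀ := by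
  have hodd : Odd p := hp.odd_of_ne_two hp2
  have hp3 : 3 ≤ p := by
    have := hp.two_le
    omega
  obtain ⟨d', hd', he⟩ := iter hx hodd htt htx hα hβ C hC (p - 2) h hh d hd
  refine ⟨d', hd', ?_⟩
  have hk : p - 2 + 1 = p - 1 := by omega
  rw [hk] at he
  have hfer : (2 : ℤ) ^ (p - 1) ≡ 1 [ZMOD p] := by
    apply Int.ModEq.pow_card_sub_one_eq_one hp
    rw [Int.isCoprime_iff_gcd_eq_one]
    obtain ⟨k, hk⟩ := hodd
    rw [hk]
    simp [Int.gcd]
  have hred : ∀ e : ℤ, x ^ ((2 : ℤ) ^ (p - 1) * e) = x ^ e := by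
    intro e
    rw [zpow_eq_zpow_iff_modEq, hx]
    have := hfer.mul_right e
    rwa [one_mul] at this
  rw [hred, hred] at he
  exact he

open scoped Pointwise in
/-- **Abstract form.** -/
theorem stabilizer_eq [Finite G] {x t : G} {p : ℕ} (hx : orderOf x = p) (hp : p.Prime)
    (hp2 : p ≠ 2) (htt : t * t = 1) (htx : t * x * t⁻¹ = x⁻¹)
    {α β : Type*} [MulAction G α] [MulAction G β] [Fintype α] [DecidableEq α] [Fintype β]
    [DecidableEq β] [MulAction.IsPretransitive G α] [MulAction.IsPretransitive G β]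
    (hcα : Nat.card α = p) (hcβ : Nat.card β = p) (hpG : ¬ p ^ 2 ∣ Nat.card G)
    {o : α} {b₀ : β} (hα : RegPt x t α o) (hβ : RegPt x t β b₀) :
    MulAction.stabilizer G b₀ = MulAction.stabilizer G o := by
  classical
  set H := MulAction.stabilizer G b₀ with hH
  set K := MulAction.stabilizer G o with hK
  let C : Finset α := Finset.univ.filter (fun a => ∃ h : G, h • b₀ = b₀ ∧ a = h • o)
  have hC : ∀ h : G, h • b₀ = b₀ → ∀ a ∈ C, h • a ∈ C := by
    intro h hh a ha
    rw [Finset.mem_filter] at ha ⊢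
    obtain ⟨-, h₁, hh₁, rfl⟩ := ha
    refine ⟨Finset.mem_univ _, h * h₁, ?_, by rw [mul_smul]⟩
    rw [mul_smul, hh₁, hh]
  let S : Finset β := Finset.univ.filter (fun b => ∃ g : G, g • o = o ∧ b = g • b₀)
  -- S is invariant under H
  have hSH : ∀ h : G, h • b₀ = b₀ → ∀ b ∈ S, h • b ∈ S := by
    intro h hh b hb
    rw [Finset.mem_filter] at hb ⊢
    obtain ⟨-, g, hg, rfl⟩ := hb
    obtain ⟨e, he⟩ := hβ.surj (g • b₀)
    -- x^e • o ∈ C
    have h1 : x ^ (-e) • o ∈ C := by
      rw [Finset.mem_filter]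
      refine ⟨Finset.mem_univ _, x ^ (-e) * g, ?_, ?_⟩
      · rw [mul_smul, he, ← mul_smul, ← zpow_add, neg_add_cancel, zpow_zero, one_smul]
      · rw [mul_smul, hg]
    have h2 : x ^ e • o ∈ C := by
      have := hC t hβ.fix _ h1
      rwa [t_smul_zpow htx hα, neg_neg] at this
    obtain ⟨d', hd', hed⟩ := transfer hx hp hp2 htt htx hα hβ C hC h hh e h2
    rw [Finset.mem_filter] at hd'
    obtain ⟨-, h₁, hh₁, hd'⟩ := hd'
    refine ⟨Finset.mem_univ _, x ^ d' * (t * h₁), ?_, ?_⟩
    · rw [mul_smul, mul_smul, ← hd', t_smul_zpow htx hα, ← mul_smul, ← zpow_add, add_neg_cancel,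
        zpow_zero, one_smul]
    · rw [he, hed, mul_smul, mul_smul, hh₁, hβ.fix]
  have hSK : ∀ g : G, g • o = o → ∀ b ∈ S, g • b ∈ S := by
    intro g hg b hb
    rw [Finset.mem_filter] at hb ⊢
    obtain ⟨-, g₁, hg₁, rfl⟩ := hb
    refine ⟨Finset.mem_univ _, g * g₁, ?_, by rw [mul_smul]⟩
    rw [mul_smul, hg₁, hg]
  have hb₀S : b₀ ∈ S := by
    rw [Finset.mem_filter]
    exact ⟨Finset.mem_univ _, 1, one_smul _ _, (one_smul _ _).symm⟩
  set L := MulAction.stabilizer G S with hL
  have hKL : K ≤ L := by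
    intro g hg
    rw [hL, MulAction.mem_stabilizer_finset']
    intro b hb
    exact hSK g (MulAction.mem_stabilizer_iff.1 hg) b hb
  have hHL : H ≤ L := by
    intro g hg
    rw [hL, MulAction.mem_stabilizer_finset']
    intro b hb
    exact hSH g (MulAction.mem_stabilizer_iff.1 hg) b hb
  have hKidx : K.index = p := by
    rw [hK, MulAction.index_stabilizer_of_transitive, hcα]
  have hHidx : H.index = p := by
    rw [hH, MulAction.index_stabilizer_of_transitive, hcβ]
  have hLdvd : L.index ∣ p := by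
    rw [← hKidx]; exact Subgroup.index_dvd_of_le hKL
  rcases (Nat.dvd_prime hp).1 hLdvd with hL1 | hLp
  · -- L = ⊤ : impossible
    exfalso
    rw [Subgroup.index_eq_one] at hL1
    have hall : ∀ b : β, b ∈ S := by
      intro b
      obtain ⟨i, rfl⟩ := hβ.surj b
      have : x ^ i ∈ L := by rw [hL1]; exact Subgroup.mem_top _
      rw [hL, MulAction.mem_stabilizer_finset'] at this
      exact this hb₀S
    have htrans : MulAction.IsPretransitive K β := by
      constructor
      intro b b'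
      have hb := hall b
      have hb' := hall b'
      rw [Finset.mem_filter] at hb hb'
      obtain ⟨-, g, hg, rfl⟩ := hb
      obtain ⟨-, g', hg', rfl⟩ := hb'
      refine ⟨⟨g' * g⁻¹, ?_⟩, ?_⟩
      · rw [hK, MulAction.mem_stabilizer_iff, mul_smul]
        have : g⁻¹ • o = o := by
          calc g⁻¹ • o = g⁻¹ • g • o := by rw [hg]
            _ = o := by rw [← mul_smul, inv_mul_cancel, one_smul]
        rw [this, hg']
      · show (g' * g⁻¹) • g • b₀ = g' • b₀
        rw [← mul_smul, inv_mul_cancel_right]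
    have h1 : (MulAction.stabilizer K b₀).index = p := by
      rw [MulAction.index_stabilizer_of_transitive, hcβ]
    have h2 : p ∣ Nat.card K := by
      rw [← h1]; exact Subgroup.index_dvd_card _
    have h3 : Nat.card K * K.index = Nat.card G := Subgroup.card_mul_index K
    apply hpG
    rw [← h3, hKidx, pow_two]
    exact Nat.mul_dvd_mul_right h2 p
  · -- L.index = p
    have h1 : K.relIndex L * L.index = K.index := Subgroup.relIndex_mul_index hKL
    rw [hLp, hKidx] at h1
    have h2 : K.relIndex L = 1 := by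
      have hp0 : 0 < p := hp.pos
      exact Nat.eq_of_mul_eq_mul_right hp0 (by rw [h1, one_mul])
    have hLK : L ≤ K := Subgroup.relIndex_eq_one.1 h2
    have hHK : H ≤ K := hHL.trans hLK
    have h3 : H.relIndex K * K.index = H.index := Subgroup.relIndex_mul_index hHK
    rw [hHidx, hKidx] at h3
    have h4 : H.relIndex K = 1 := by
      have hp0 : 0 < p := hp.pos
      exact Nat.eq_of_mul_eq_mul_right hp0 (by rw [h3, one_mul])
    exact le_antisymm hHK (Subgroup.relIndex_eq_one.1 h4)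

/-- an element of order `p` acts regularly on a transitive `G`-set of size `p` when `p² ∤ |G|` -/
lemma free_surj [Finite G] {x : G} {p : ℕ} (hx : orderOf x = p) (hp : p.Prime)
    {γ : Type*} [MulAction G γ] [Finite γ] [MulAction.IsPretransitive G γ]
    (hcγ : Nat.card γ = p) (hpG : ¬ p ^ 2 ∣ Nat.card G) (c : γ) :
    (∀ i : ℤ, x ^ i • c = c → x ^ i = 1) ∧ (∀ a : γ, ∃ i : ℤ, a = x ^ i • c) := by
  have hfree : ∀ i : ℤ, x ^ i • c = c → x ^ i = 1 := by
    intro i hi
    by_contra hne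
    set y := x ^ i with hy
    have hyp : y ^ p = 1 := by
      rw [hy, ← zpow_natCast, ← zpow_mul, mul_comm, zpow_mul, zpow_natCast, ← hx,
        pow_orderOf_eq_one, one_zpow]
    have hoy : orderOf y = p := by
      have h1 : orderOf y ∣ p := orderOf_dvd_of_pow_eq_one hyp
      rcases (Nat.dvd_prime hp).1 h1 with h | h
      · exact absurd (orderOf_eq_one_iff.1 h) hne
      · exact h
    have hmem : y ∈ MulAction.stabilizer G c := MulAction.mem_stabilizer_iff.2 hi
    have h2 : p ∣ Nat.card (MulAction.stabilizer G c) := by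
      rw [← hoy]; exact Subgroup.orderOf_dvd_natCard _ hmem
    have h3 : (MulAction.stabilizer G c).index = p := by
      rw [MulAction.index_stabilizer_of_transitive, hcγ]
    have h4 := Subgroup.card_mul_index (MulAction.stabilizer G c)
    apply hpG
    rw [← h4, h3, pow_two]
    exact Nat.mul_dvd_mul_right h2 p
  refine ⟨hfree, ?_⟩
  let f : Fin p → γ := fun i => x ^ ((i : ℕ) : ℤ) • c
  have hinj : Function.Injective f := by
    intro i j hij
    have h1 : x ^ (((i : ℕ) : ℤ) - ((j : ℕ) : ℤ)) • c = c := by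
      have : x ^ (((i : ℕ) : ℤ) - ((j : ℕ) : ℤ)) = (x ^ ((j : ℕ) : ℤ))⁻¹ * x ^ ((i : ℕ) : ℤ) := by
        rw [← zpow_neg, ← zpow_add]; congr 1; ring
      rw [this, mul_smul]
      show (x ^ ((j : ℕ) : ℤ))⁻¹ • f i = c
      rw [hij]
      show (x ^ ((j : ℕ) : ℤ))⁻¹ • x ^ ((j : ℕ) : ℤ) • c = c
      rw [← mul_smul, inv_mul_cancel, one_smul]
    have h2 := hfree _ h1
    rw [← orderOf_dvd_iff_zpow_eq_one, hx] at h2
    have h3 : ((i : ℕ) : ℤ) - ((j : ℕ) : ℤ) = 0 := by
      apply Int.eq_zero_of_abs_lt_dvd h2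
      have hi := i.2
      have hj := j.2
      rw [abs_lt]
      constructor <;> omega
    apply Fin.ext
    omega
  have hbij : Function.Bijective f := by
    apply hinj.bijective_of_nat_card_le
    rw [hcγ, Nat.card_fin]
  intro a
  obtain ⟨i, hi⟩ := hbij.2 a
  exact ⟨((i : ℕ) : ℤ), hi.symm⟩

/-- existence of a regular base point fixed by `t` -/
lemma exists_regPt [Finite G] {x t : G} {p : ℕ} (hx : orderOf x = p) (hp : p.Prime)
    (hp2 : p ≠ 2) (htx : t * x * t⁻¹ = x⁻¹)
    {γ : Type*} [MulAction G γ] [Finite γ] [MulAction.IsPretransitive G γ]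
    (hcγ : Nat.card γ = p) (hpG : ¬ p ^ 2 ∣ Nat.card G) : ∃ c₀ : γ, RegPt x t γ c₀ := by
  have hne : Nonempty γ := by
    have : 0 < Nat.card γ := by rw [hcγ]; exact hp.pos
    exact (Nat.card_pos_iff.1 this).1
  obtain ⟨c₁⟩ := hne
  obtain ⟨hfree₁, hsurj₁⟩ := free_surj hx hp hcγ hpG c₁
  obtain ⟨c, hc⟩ := hsurj₁ (t • c₁)
  obtain ⟨k, hk⟩ := hp.odd_of_ne_two hp2
  have hxp : x ^ (p : ℤ) = 1 := by
    rw [zpow_natCast, ← hx, pow_orderOf_eq_one]
  set i : ℤ := c * (k + 1) with hi
  refine ⟨x ^ i • c₁, ?_, ?_, ?_⟩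
  · rw [← mul_smul, t_mul_zpow htx, mul_smul, hc, ← mul_smul, ← zpow_add]
    have : -i + c = i + (p : ℤ) * (-c) := by rw [hi, hk]; push_cast; ring
    rw [this, zpow_add, zpow_mul x (p : ℤ) (-c), hxp, one_zpow, mul_one]
  · exact (free_surj hx hp hcγ hpG _).2
  · exact (free_surj hx hp hcγ hpG _).1

end core

section concrete

variable {α : Type*} [Fintype α] [DecidableEq α]

omit [DecidableEq α] in
lemma not_sq_dvd_card {p : ℕ} (hp : p.Prime) (hα : Fintype.card α = p)
    (G : Subgroup (Equiv.Perm α)) : ¬ p ^ 2 ∣ Nat.card G := by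
  intro h
  have h1 : Nat.card G ∣ Nat.card (Equiv.Perm α) := Subgroup.card_subgroup_dvd_card G
  rw [Nat.card_perm, Nat.card_eq_fintype_card (α := α), hα] at h1
  have h2 : p ^ 2 ∣ p.factorial := h.trans h1
  rw [← Nat.mul_factorial_pred hp.ne_zero, pow_two] at h2
  have h3 : p ∣ (p - 1).factorial := Nat.dvd_of_mul_dvd_mul_left hp.pos h2
  rw [hp.dvd_factorial] at h3
  have := hp.pos
  omega

omit [DecidableEq α] in
lemma exists_inverting {p : ℕ} [hpf : Fact p.Prime] (hp2 : p ≠ 2) (hα : Fintype.card α = p)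
    (G : Subgroup (Equiv.Perm α)) [MulAction.IsPretransitive G α] (P : Sylow p G)
    (heven : Even (Nat.card (Subgroup.normalizer ((P : Subgroup G) : Set G)))) :
    ∃ x t : G, orderOf x = p ∧ t * t = 1 ∧ t * x * t⁻¹ = x⁻¹ := by
  have hp : p.Prime := hpf.out
  have hcα : Nat.card α = p := by rw [Nat.card_eq_fintype_card, hα]
  have hpG := not_sq_dvd_card hp hα G
  have hne : Nonempty α := by
    rw [← Fintype.card_pos_iff, hα]; exact hp.pos
  obtain ⟨a⟩ := hne
  have hdvd : p ∣ Nat.card G := by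
    have h1 : (MulAction.stabilizer G a).index = p := by
      rw [MulAction.index_stabilizer_of_transitive, hcα]
    rw [← h1]; exact Subgroup.index_dvd_card _
  -- |P| = p
  have hPcard : Nat.card P = p := by
    obtain ⟨n, hn⟩ := IsPGroup.iff_card.1 P.2
    have h1 : p ∣ Nat.card P := P.dvd_card_of_dvd_card hdvd
    have h2 : Nat.card P ∣ Nat.card G := Subgroup.card_subgroup_dvd_card _
    have hn1 : n = 1 := by
      rcases Nat.lt_or_ge n 1 with h | h
      · have : n = 0 := by omega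
        rw [hn, this, pow_zero] at h1
        exact absurd (Nat.dvd_one.1 h1) hp.one_lt.ne'
      · rcases Nat.lt_or_ge n 2 with h' | h'
        · omega
        · exfalso
          apply hpG
          exact (pow_dvd_pow p h').trans (hn ▸ h2)
    rw [hn, hn1, pow_one]
  -- generator
  obtain ⟨x', hx'⟩ := exists_prime_orderOf_dvd_card' p (G := P) (by rw [hPcard])
  have hx'1 : x' ≠ 1 := by
    intro h
    rw [h, orderOf_one] at hx'
    exact hp.one_lt.ne hx'
  have htop : Subgroup.zpowers x' = ⊤ := zpowers_eq_top_of_prime_card hPcard hx'1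
  set x : G := (x' : G) with hxdef
  have hx : orderOf x = p := by rw [hxdef, Subgroup.orderOf_coe, hx']
  have hxP : x ∈ (P : Subgroup G) := x'.2
  have hPz : ∀ y : G, y ∈ (P : Subgroup G) → ∃ m : ℤ, y = x ^ m := by
    intro y hy
    have : (⟨y, hy⟩ : P) ∈ Subgroup.zpowers x' := by rw [htop]; exact Subgroup.mem_top _
    obtain ⟨m, hm⟩ := Subgroup.mem_zpowers_iff.1 this
    refine ⟨m, ?_⟩
    have := congrArg (fun z : P => (z : G)) hm
    simp only at this
    exact this.symm
  -- involution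
  obtain ⟨t', ht'⟩ := exists_prime_orderOf_dvd_card' 2
    (G := Subgroup.normalizer ((P : Subgroup G) : Set G)) heven.two_dvd
  set t : G := (t' : G) with htdef
  have ht : orderOf t = 2 := by rw [htdef, Subgroup.orderOf_coe, ht']
  have htt : t * t = 1 := by
    rw [← pow_two, ← ht, pow_orderOf_eq_one]
  have ht1 : t ≠ 1 := by
    intro h
    rw [h, orderOf_one] at ht
    omega
  have htN : t ∈ Subgroup.normalizer ((P : Subgroup G) : Set G) := t'.2
  have hyP : t * x * t⁻¹ ∈ (P : Subgroup G) := (Subgroup.mem_normalizer_iff.1 htN x).1 hxP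
  obtain ⟨m, hm⟩ := hPz _ hyP
  have htinv : t⁻¹ = t := by
    rw [inv_eq_iff_mul_eq_one]; exact htt
  -- x = x^(m*m)
  have hmm : x = x ^ (m * m) := by
    have h1 : t * (t * x * t⁻¹) * t⁻¹ = x := by
      rw [htinv]
      calc t * (t * x * t) * t = (t * t) * x * (t * t) := by group
        _ = x := by rw [htt, one_mul, mul_one]
    have h2 : t * (x ^ m) * t⁻¹ = (t * x * t⁻¹) ^ m := by rw [conj_zpow]
    rw [hm, h2, hm, ← zpow_mul] at h1
    exact h1.symm
  have hdiv : (p : ℤ) ∣ m * m - 1 := by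
    have h1 : x ^ (m * m - 1) = 1 := by
      rw [zpow_sub, zpow_one, ← hmm, mul_inv_cancel]
    rw [← hx, orderOf_dvd_iff_zpow_eq_one]; exact h1
  have hfac : m * m - 1 = (m - 1) * (m + 1) := by ring
  rw [hfac] at hdiv
  have hpi : Prime (p : ℤ) := Nat.prime_iff_prime_int.1 hp
  rcases hpi.dvd_or_dvd hdiv with h | h
  · -- t centralizes x : impossible
    exfalso
    have hxm : x ^ m = x := by
      have : x ^ (m - 1) = 1 := by rw [← hx, orderOf_dvd_iff_zpow_eq_one] at h; exact h
      have h2 : x ^ m = x ^ (m - 1) * x := by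
        rw [← zpow_add_one]; congr 1; ring
      rw [h2, this, one_mul]
    have hcomm : t * x = x * t := by
      calc t * x = (t * x * t⁻¹) * t := by group
        _ = x * t := by rw [hm, hxm]
    have hcommz : ∀ i : ℤ, t * x ^ i = x ^ i * t := by
      intro i
      have : Commute t x := hcomm
      exact (this.zpow_right i).eq
    apply ht1
    -- t fixes every point
    have hfix : ∀ c : α, t • c = c := by
      intro c
      obtain ⟨hfree, hsurj⟩ := free_surj hx hp hcα hpG c
      obtain ⟨e, he⟩ := hsurj (t • c)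
      have h1 : x ^ (2 * e) • c = c := by
        have : t • t • c = c := by rw [← mul_smul, htt, one_smul]
        rw [he, ← mul_smul, hcommz, mul_smul, he, ← mul_smul, ← zpow_add] at this
        rw [two_mul]; exact this
      have h2 := hfree _ h1
      rw [← orderOf_dvd_iff_zpow_eq_one, hx] at h2
      have hcop : IsCoprime (p : ℤ) 2 := by
        rw [Int.isCoprime_iff_gcd_eq_one]
        obtain ⟨k, hk⟩ := hp.odd_of_ne_two hp2
        rw [hk]
        simp [Int.gcd]
      have h3 : (p : ℤ) ∣ e := hcop.dvd_of_dvd_mul_left h2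
      rw [← hx, orderOf_dvd_iff_zpow_eq_one] at h3
      rw [he, h3, one_smul]
    apply Subtype.ext
    apply Equiv.Perm.ext
    intro c
    exact hfix c
  · refine ⟨x, t, hx, htt, ?_⟩
    rw [hm]
    have : x ^ (m + 1) = 1 := by rw [← hx, orderOf_dvd_iff_zpow_eq_one] at h; exact h
    rw [zpow_add_one] at this
    exact eq_inv_of_mul_eq_one_left this

end concrete

/-- In a transitive permutation group of prime degree `p` whose Sylow `p`-normaliser has even order, the point stabilisers are the only subgroups of index `p`. -/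
theorem result {α : Type*} [Fintype α] [DecidableEq α] {p : ℕ} [Fact p.Prime] (hα : Fintype.card α = p) (G : Subgroup (Equiv.Perm α)) [MulAction.IsPretransitive G α] (P : Sylow p G) (heven : Even (Nat.card (Subgroup.normalizer ((P : Subgroup G) : Set G)))) (H : Subgroup G) (hH : H.index = p) : ∃ a : α, H = MulAction.stabilizer G a := by
  classical
  have hp : p.Prime := Fact.out
  have hcα : Nat.card α = p := by rw [Nat.card_eq_fintype_card, hα]
  have hpG := not_sq_dvd_card hp hα G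
  have hne : Nonempty α := by
    rw [← Fintype.card_pos_iff, hα]; exact hp.pos
  by_cases hp2 : p = 2
  · -- degenerate case
    obtain ⟨a⟩ := hne
    refine ⟨a, ?_⟩
    have hbot : ∀ K : Subgroup G, K.index = p → K = ⊥ := by
      intro K hK
      have h1 := Subgroup.card_mul_index K
      rw [hK] at h1
      have h2 : Nat.card K = 1 := by
        by_contra hne1
        have hpos : 0 < Nat.card K := Nat.card_pos
        -- a prime divides |K|
        obtain ⟨q, hq, hqK⟩ := Nat.exists_prime_and_dvd hne1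
        have hqG : q ∣ Nat.card G := by rw [← h1]; exact Dvd.dvd.mul_right hqK p
        have hGdvd : Nat.card G ∣ Nat.card (Equiv.Perm α) := Subgroup.card_subgroup_dvd_card G
        rw [Nat.card_perm, Nat.card_eq_fintype_card (α := α), hα, hp2] at hGdvd
        have hq2 : q ∣ 2 := hqG.trans (by simpa using hGdvd)
        have hq2' : q = 2 := (Nat.prime_dvd_prime_iff_eq hq Nat.prime_two).1 hq2
        apply hpG
        rw [← h1, pow_two]
        exact Nat.mul_dvd_mul_right (by rw [hp2, ← hq2']; exact hqK) p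
      exact Subgroup.card_eq_one.1 h2
    rw [hbot H hH]
    symm
    apply hbot
    rw [MulAction.index_stabilizer_of_transitive, hcα]
  · obtain ⟨x, t, hx, htt, htx⟩ := exists_inverting hp2 hα G P heven
    have hcβ : Nat.card (G ⧸ H) = p := hH
    have : Fintype (G ⧸ H) := Fintype.ofFinite _
    obtain ⟨o, ho⟩ := exists_regPt (γ := α) hx hp hp2 htx hcα hpG
    obtain ⟨b₀, hb₀⟩ := exists_regPt (γ := G ⧸ H) hx hp hp2 htx hcβ hpG
    have hstab := stabilizer_eq hx hp hp2 htt htx hcα hcβ hpG ho hb₀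
    obtain ⟨g₀, rfl⟩ := QuotientGroup.mk_surjective b₀
    refine ⟨g₀⁻¹ • o, ?_⟩
    ext h
    rw [MulAction.mem_stabilizer_iff]
    have key : g₀ * h * g₀⁻¹ ∈ MulAction.stabilizer G ((g₀ : G) : G ⧸ H) ↔ h ∈ H := by
      rw [MulAction.mem_stabilizer_iff, MulAction.Quotient.smul_mk, QuotientGroup.eq]
      rw [smul_eq_mul, inv_mul_cancel_right]
      constructor
      · intro hh
        have : (g₀ * h)⁻¹ * g₀ = h⁻¹ := by group
        rw [this] at hh
        exact (H.inv_mem_iff).1 hh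
      · intro hh
        have : (g₀ * h)⁻¹ * g₀ = h⁻¹ := by group
        rw [this]
        exact H.inv_mem hh
    rw [← key, hstab, MulAction.mem_stabilizer_iff]
    constructor
    · intro hh
      calc h • g₀⁻¹ • o = g₀⁻¹ • (g₀ * h * g₀⁻¹) • o := by
            rw [← mul_smul, ← mul_smul]; congr 1; group
        _ = g₀⁻¹ • o := by rw [hh]
    · intro hh
      calc (g₀ * h * g₀⁻¹) • o = g₀ • h • g₀⁻¹ • o := by rw [← mul_smul, ← mul_smul]
        _ = g₀ • g₀⁻¹ • o := by rw [hh]
        _ = o := by rw [← mul_smul, mul_inv_cancel, one_smul]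

end Cfsg.Agent.S0677
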