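import Cfsg.Statements.S0989
import Cfsg.Agent.Lib.Helper23.SylowCount

set_option autoImplicit false
open Cfsg

namespace Cfsg.Agent.S0989

open Cfsg.Agent.Lib.Helper23

theorem factorization_factorial_self (p : ℕ) (hp : p.Prime) : (p.factorial).factorization p = 1 := by
  obtain ⟨q, rfl⟩ : ∃ q, p = q + 1 := ⟨p - 1, (Nat.succ_pred_eq_of_pos hp.pos).symm⟩
  rw [Nat.factorial_succ, Nat.factorization_mul (Nat.succ_ne_zero q) (Nat.factorial_ne_zero q)]
  simp only [Finsupp.coe_add, Pi.add_apply]
  rw [hp.factorization_self, Nat.factorization_eq_zero_of_not_dvd]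
  rw [hp.dvd_factorial]
  omega

theorem factorization_factorial_succ_self (p : ℕ) (hp : p.Prime) :
    ((p + 1).factorial).factorization p = 1 := by
  rw [Nat.factorial_succ, Nat.factorization_mul (Nat.succ_ne_zero p) (Nat.factorial_ne_zero p)]
  simp only [Finsupp.coe_add, Pi.add_apply]
  rw [factorization_factorial_self p hp, Nat.factorization_eq_zero_of_not_dvd]
  intro h
  have : p ∣ 1 := (Nat.dvd_add_right (dvd_refl p)).mp h
  exact hp.one_lt.ne' (Nat.dvd_one.mp this)

theorem orderOf_eq_iff_cycleType {α : Type*} [Fintype α] [DecidableEq α] (p : ℕ) [Fact p.Prime]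
    (hα : Fintype.card α < p + 2) (σ : Equiv.Perm α) :
    orderOf σ = p ↔ σ.cycleType = {p} := by
  constructor
  · intro h
    have hp : (orderOf σ).Prime := h ▸ (Fact.out : p.Prime)
    obtain ⟨n, hn⟩ := Equiv.Perm.cycleType_prime_order hp
    apply Equiv.Perm.cycleType_of_card_le_mem_cycleType_add_two hα
    rw [hn, h]
    simp [Multiset.mem_replicate]
  · intro h
    rw [← Equiv.Perm.lcm_cycleType, h]
    simp

/-- In the symmetric group on p or p + 1 letters, p a prime, the normalizer of a Sylow p-subgroup has order p * (p - 1). -/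
theorem result {α : Type*} [Fintype α] [DecidableEq α] (p : ℕ) [Fact p.Prime] (hα : Fintype.card α = p ∨ Fintype.card α = p + 1) (P : Sylow p (Equiv.Perm α)) : Nat.card ↥(Subgroup.normalizer ((P : Subgroup (Equiv.Perm α)) : Set (Equiv.Perm α))) = p * (p - 1) := by
  have hp : p.Prime := Fact.out
  have hcardG : Nat.card (Equiv.Perm α) = (Fintype.card α).factorial := by
    rw [Nat.card_eq_fintype_card, Fintype.card_perm]
  -- Sylow subgroups have order p
  have hP : ∀ Q : Sylow p (Equiv.Perm α), Nat.card ↥(Q : Subgroup (Equiv.Perm α)) = p := by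
    intro Q
    rw [Sylow.card_eq_multiplicity, hcardG]
    rcases hα with h | h
    · rw [h, factorization_factorial_self p hp, pow_one]
    · rw [h, factorization_factorial_succ_self p hp, pow_one]
  have hc := card_orderOf_eq_prime p hP
  have hN := card_normalizer_mul_card_sylow p P
  rw [hcardG] at hN
  -- count the elements of order p
  have hlt : Fintype.card α < p + 2 := by rcases hα with h | h <;> omega
  have hcount : Nat.card {σ : Equiv.Perm α // orderOf σ = p} * p = (Fintype.card α).factorial := by
    have h1 := Equiv.Perm.card_of_cycleType_mul_eq α ({p} : Multiset ℕ)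
    have h2 : (({p} : Multiset ℕ).sum ≤ Fintype.card α ∧ ∀ a ∈ ({p} : Multiset ℕ), 2 ≤ a) := by
      constructor
      · simp only [Multiset.sum_singleton]; rcases hα with h | h <;> omega
      · intro a ha
        rw [Multiset.mem_singleton] at ha
        rw [ha]; exact hp.two_le
    rw [if_pos h2] at h1
    have h3 : (Fintype.card α - ({p} : Multiset ℕ).sum).factorial = 1 := by
      simp only [Multiset.sum_singleton]
      rcases hα with h | h
      · rw [h]; simp
      · rw [h]; simp
    rw [h3] at h1
    simp only [Multiset.prod_singleton, one_mul, Multiset.toFinset_singleton,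
      Finset.prod_singleton, Multiset.count_singleton_self, Nat.factorial_one, mul_one] at h1
    rw [← h1, Nat.card_eq_fintype_card, Fintype.card_subtype]
    congr 2
    ext σ
    simp only [Finset.mem_filter, Finset.mem_univ, true_and]
    exact orderOf_eq_iff_cycleType p hlt σ
  set c := Nat.card {σ : Equiv.Perm α // orderOf σ = p} with hc'
  set N := Nat.card ↥(Subgroup.normalizer ((P : Subgroup (Equiv.Perm α)) : Set (Equiv.Perm α)))
  set s := Nat.card (Sylow p (Equiv.Perm α))
  have hcpos : 0 < c := by
    rcases Nat.eq_zero_or_pos c with h | h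
    · rw [h, zero_mul] at hcount
      exact absurd hcount.symm (Nat.factorial_ne_zero _)
    · exact h
  have : c * N = c * (p * (p - 1)) := by
    calc c * N = N * s * (p - 1) := by rw [hc]; ring
      _ = c * p * (p - 1) := by rw [hN, hcount]
      _ = c * (p * (p - 1)) := by ring
  exact Nat.eq_of_mul_eq_mul_left hcpos this

end Cfsg.Agent.S0989
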