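import Cfsg.Statements.S1013
import Cfsg.Agent.Lib.Helper23.Burnside
import Cfsg.Agent.Lib.Helper23.SylowCount
import Cfsg.Agent.S0989

set_option autoImplicit false
open Cfsg

namespace Cfsg.Agent.S1013

open Cfsg.Agent.Lib.Helper23 MulAction

/-- a transitive group on `p` points has order divisible by `p`. -/
theorem dvd_card_of_pretransitive {α : Type*} [Fintype α] {p : ℕ} (hα : Fintype.card α = p)
    (hp : p.Prime) {H : Type*} [Group H] [MulAction H α] [IsPretransitive H α] :
    p ∣ Nat.card H := by
  have hne : Nonempty α := by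
    rw [← Fintype.card_pos_iff, hα]; exact hp.pos
  obtain ⟨a⟩ := hne
  have h1 := index_stabilizer_of_transitive (G := H) (x := a)
  rw [Nat.card_eq_fintype_card, hα] at h1
  rw [← h1]
  exact Subgroup.index_dvd_card _

/-- a nontrivial normal subgroup of a transitive group of prime degree has order divisible
by `p`. -/
theorem dvd_card_of_normal {α : Type*} [Fintype α] [DecidableEq α] {p : ℕ} (hp : p.Prime)
    (hα : Fintype.card α = p) (G : Subgroup (Equiv.Perm α)) [IsPretransitive ↥G α]
    (H : Subgroup ↥G) [H.Normal] (hH : H ≠ ⊥) : p ∣ Nat.card ↥H := by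
  have hprim : IsPreprimitive ↥G α :=
    IsPreprimitive.of_prime_card (by rw [Nat.card_eq_fintype_card, hα]; exact hp)
  have hfix : fixedPoints ↥H α ≠ Set.univ := by
    intro hfix
    apply hH
    rw [Subgroup.eq_bot_iff_forall]
    intro h hh
    apply Subtype.ext
    apply Equiv.ext
    intro a
    have ha : a ∈ fixedPoints ↥H α := by rw [hfix]; trivial
    exact ha ⟨h, hh⟩
  have htr : IsPretransitive ↥H α := IsQuasiPreprimitive.isPretransitive_of_normal hfix
  exact dvd_card_of_pretransitive hα hp

/-- Let G be a transitive permutation group of prime degree p having more than one Sylow p-subgroup, and suppose a Sylow p-subgroup P has prime index in its normalizer. Then G is simple. -/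
theorem result {α : Type*} [Fintype α] [DecidableEq α] {p : ℕ} [Fact p.Prime] (hα : Fintype.card α = p) (G : Subgroup (Equiv.Perm α)) [MulAction.IsPretransitive ↥G α] (P : Sylow p ↥G) (hn : 1 < Nat.card (Sylow p ↥G)) (ht : (((P : Subgroup ↥G).subgroupOf (Subgroup.normalizer ((P : Subgroup ↥G) : Set ↥G))).index).Prime) : IsSimpleGroup ↥G := by
  have hp : p.Prime := Fact.out
  have hpG : p ∣ Nat.card ↥G := dvd_card_of_pretransitive hα hp
  -- Sylow subgroups have order p
  have hcard : ∀ Q : Sylow p ↥G, Nat.card ↥(Q : Subgroup ↥G) = p := by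
    intro Q
    obtain ⟨k, hk⟩ := Q.2.exists_card_eq
    have h1 : Nat.card ↥(Q : Subgroup ↥G) ∣ Nat.card ↥G := Subgroup.card_subgroup_dvd_card _
    have h2 : Nat.card ↥G ∣ p.factorial := by
      have := Subgroup.card_subgroup_dvd_card G
      rwa [Nat.card_eq_fintype_card (α := Equiv.Perm α), Fintype.card_perm, hα] at this
    have h3 : p ^ k ∣ p.factorial := hk ▸ h1.trans h2
    have hk1 : k ≤ 1 := by
      have := (Nat.Prime.pow_dvd_iff_le_factorization hp (Nat.factorial_ne_zero p)).mp h3
      rwa [Cfsg.Agent.S0989.factorization_factorial_self p hp] at this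
    have hk0 : k ≠ 0 := by
      rintro rfl
      rw [pow_zero] at hk
      exact Q.ne_bot_of_dvd_card hpG (Subgroup.card_eq_one.mp hk)
    have : k = 1 := by omega
    rw [hk, this, pow_one]
  have hnt : Nontrivial ↥G := by
    rw [← Finite.one_lt_card_iff_nontrivial]
    exact lt_of_lt_of_le hp.one_lt (Nat.le_of_dvd Nat.card_pos hpG)
  refine { toNontrivial := hnt, eq_bot_or_eq_top_of_normal := ?_ }
  intro H hHn
  by_cases hH : H = ⊥
  · left; exact hH
  right
  have hpH : p ∣ Nat.card ↥H := dvd_card_of_normal hp hα G H hH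
  -- P ≤ H
  have hPH : (P : Subgroup ↥G) ≤ H := by
    obtain ⟨h, hh⟩ := exists_prime_orderOf_dvd_card' p hpH
    have hh' : orderOf (h : ↥G) = p := by rw [Subgroup.orderOf_coe]; exact hh
    have hpg : IsPGroup p ↥(Subgroup.zpowers (h : ↥G)) :=
      IsPGroup.of_card (n := 1) (by rw [Nat.card_zpowers, hh', pow_one])
    obtain ⟨P₁, hP₁⟩ := hpg.exists_le_sylow
    have hh1 : (h : ↥G) ≠ 1 := by
      intro h1
      rw [h1, orderOf_one] at hh'
      exact hp.one_lt.ne hh'
    have hP₁eq := zpowers_eq_of_mem_of_card_eq_prime p P₁ (hcard P₁)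
      (hP₁ (Subgroup.mem_zpowers _)) hh1
    have hP₁H : (P₁ : Subgroup ↥G) ≤ H := by
      rw [← hP₁eq, Subgroup.zpowers_le]; exact h.2
    obtain ⟨g, hg⟩ := MulAction.exists_smul_eq ↥G P₁ P
    intro x hx
    have hx' : x ∈ ((g • P₁ : Sylow p ↥G) : Subgroup ↥G) := by rw [hg]; exact hx
    rw [Sylow.coe_subgroup_smul, Subgroup.mem_pointwise_smul_iff_inv_smul_mem] at hx'
    simp only [MulAut.smul_def, MulAut.conj_inv_apply] at hx'
    have h2 := hHn.conj_mem _ (hP₁H hx') g
    have h3 : g * (g⁻¹ * x * g) * g⁻¹ = x := by group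
    rwa [h3] at h2
  have hfr : Subgroup.normalizer ((P : Subgroup ↥G) : Set ↥G) ⊔ H = ⊤ :=
    Sylow.normalizer_sup_eq_top' P hPH
  set N := Subgroup.normalizer ((P : Subgroup ↥G) : Set ↥G) with hN
  have hPN : (P : Subgroup ↥G) ≤ N := Subgroup.le_normalizer
  have hPM : (P : Subgroup ↥G) ≤ N ⊓ H := le_inf hPN hPH
  have hmul := Subgroup.relIndex_mul_relIndex (P : Subgroup ↥G) (N ⊓ H) N hPM inf_le_left
  have ht' : ((P : Subgroup ↥G).relIndex N).Prime := ht
  rw [← hmul] at ht'
  rcases (Nat.prime_mul_iff.mp ht') with ⟨_, h1⟩ | ⟨_, h1⟩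
  · -- N ≤ H
    have hNH : N ≤ H := (Subgroup.relIndex_eq_one.mp h1).trans inf_le_right
    rw [← hfr]
    exact (sup_eq_right.mpr hNH).symm
  · -- N ⊓ H ≤ P
    exfalso
    have hMP : N ⊓ H ≤ (P : Subgroup ↥G) := Subgroup.relIndex_eq_one.mp h1
    set P' : Sylow p ↥H := P.subtype hPH with hP'
    have hP'card : Nat.card ↥(P' : Subgroup ↥H) = p := by
      rw [hP', Sylow.coe_subtype]
      rw [Nat.card_congr (Subgroup.subgroupOfEquivOfLe hPH).toEquiv, hcard P]
    have hcomm : ∀ a b : ↥(P' : Subgroup ↥H), a * b = b * a := by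
      have : Fact (Nat.card ↥(P' : Subgroup ↥H)).Prime := ⟨by rw [hP'card]; exact hp⟩
      have hc : IsCyclic ↥(P' : Subgroup ↥H) := isCyclic_of_prime_card (p := p) hP'card
      intro a b
      exact (IsCyclic.isMulCommutative (α := ↥(P' : Subgroup ↥H))).is_comm.comm a b
    have hNC : Subgroup.normalizer ((P' : Subgroup ↥H) : Set ↥H) ≤
        Subgroup.centralizer ((P' : Subgroup ↥H) : Set ↥H) := by
      intro x hx
      have hx1 : x ∈ (Subgroup.normalizer ((P : Subgroup ↥G) : Set ↥G)).subgroupOf H := by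
        rw [Subgroup.subgroupOf_normalizer_eq hPH]
        rw [hP', Sylow.coe_subtype] at hx
        exact hx
      rw [Subgroup.mem_subgroupOf] at hx1
      have hx2 : (x : ↥G) ∈ (P : Subgroup ↥G) := hMP ⟨hx1, x.2⟩
      have hx3 : x ∈ (P' : Subgroup ↥H) := by
        rw [hP', Sylow.coe_subtype, Subgroup.mem_subgroupOf]; exact hx2
      rw [Subgroup.mem_centralizer_iff]
      intro y hy
      have := hcomm ⟨y, hy⟩ ⟨x, hx3⟩
      exact congrArg Subtype.val this
    have hcompl := MonoidHom.ker_transferSylow_isComplement' P' hNC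
    have hndvd := MonoidHom.not_dvd_card_ker_transferSylow P' hNC
    set K := (MonoidHom.transferSylow P' hNC).ker with hK
    -- characterization of K
    have hKchar : ∀ x : ↥H, x ∈ K ↔ Nat.Coprime (orderOf x) p := by
      intro x
      constructor
      · intro hx
        have h1 : orderOf x ∣ Nat.card ↥K := by
          have := orderOf_dvd_natCard (⟨x, hx⟩ : ↥K)
          rwa [Subgroup.orderOf_mk] at this
        rw [Nat.coprime_comm, Nat.Prime.coprime_iff_not_dvd hp]
        intro h2
        exact hndvd (h2.trans h1)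
      · intro hx
        rw [hK, MonoidHom.mem_ker]
        have h1 : orderOf (MonoidHom.transferSylow P' hNC x) ∣ orderOf x := orderOf_map_dvd _ x
        have h2 : orderOf (MonoidHom.transferSylow P' hNC x) ∣ p := by
          have := orderOf_dvd_natCard (MonoidHom.transferSylow P' hNC x)
          rwa [hP'card] at this
        have h3 : orderOf (MonoidHom.transferSylow P' hNC x) ∣ 1 := by
          rw [← Nat.Coprime.gcd_eq_one hx]
          exact Nat.dvd_gcd h1 h2
        exact orderOf_eq_one_iff.mp (Nat.dvd_one.mp h3)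
    -- K.map H.subtype is normal in G
    have hKn : (K.map H.subtype).Normal := by
      constructor
      intro x hx g
      obtain ⟨k, hk, rfl⟩ := hx
      have hmem : g * (k : ↥G) * g⁻¹ ∈ H := hHn.conj_mem _ k.2 g
      refine ⟨⟨g * (k : ↥G) * g⁻¹, hmem⟩, ?_, rfl⟩
      rw [SetLike.mem_coe, hKchar] at hk ⊢
      have h1 : orderOf (⟨g * (k : ↥G) * g⁻¹, hmem⟩ : ↥H) = orderOf (k : ↥G) := by
        rw [← Subgroup.orderOf_coe]
        exact ((SemiconjBy.conj_mk g (k : ↥G)).orderOf_eq g).symm
      rw [h1, Subgroup.orderOf_coe]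
      exact hk
    have hKbot : K.map H.subtype = ⊥ := by
      by_contra hne
      have := dvd_card_of_normal hp hα G (K.map H.subtype) hne
      rw [Subgroup.card_map_of_injective H.subtype_injective] at this
      exact hndvd this
    have hKbot' : K = ⊥ := by
      rw [Subgroup.map_eq_bot_iff_of_injective _ H.subtype_injective] at hKbot
      exact hKbot
    rw [hKbot', Subgroup.isComplement'_bot_left] at hcompl
    -- H = P
    have hHP : H ≤ (P : Subgroup ↥G) := by
      intro x hx
      have : (⟨x, hx⟩ : ↥H) ∈ (P' : Subgroup ↥H) := by rw [hcompl]; trivial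
      rw [hP', Sylow.coe_subtype, Subgroup.mem_subgroupOf] at this
      exact this
    have hPeq : (P : Subgroup ↥G) = H := le_antisymm hPH hHP
    have hPn : (P : Subgroup ↥G).Normal := hPeq ▸ hHn
    have h5 := card_sylow_eq_index_normalizer' p P
    rw [Subgroup.normalizer_eq_top_iff.mpr hPn, Subgroup.index_top] at h5
    omega

end Cfsg.Agent.S1013
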