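import Cfsg.Statements.S0678
import Cfsg.Agent.S1013
import Cfsg.Agent.Lib.Helper23.SylowEmbed
import Cfsg.Agent.Lib.Helper04.BurnsidePQ
import Cfsg.Agent.Lib.Helper06.SmallSimple

set_option autoImplicit false
open Cfsg

namespace Cfsg.Agent.S0678

open Cfsg.Agent.Lib.Helper23 MulAction

/-- if `p ^ k` is the `p`-part of the order of the symmetric group and divides the order of `G`,
then `G` contains a conjugate of every `p`-element. -/
theorem exists_conj_mem {α : Type*} [Fintype α] [DecidableEq α] (G : Subgroup (Equiv.Perm α))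
    (p k m : ℕ) [Fact p.Prime] (hcard : Nat.card (Equiv.Perm α) = p ^ k * m) (hm : ¬ p ∣ m)
    (hdvd : p ^ k ∣ Nat.card ↥G) (s : Equiv.Perm α) (hs : IsPGroup p ↥(Subgroup.zpowers s)) :
    ∃ c : Equiv.Perm α, c * s * c⁻¹ ∈ G := by
  have hp : p.Prime := Fact.out
  obtain ⟨T⟩ : Nonempty (Sylow p ↥G) := inferInstance
  have hT : p ^ k ∣ Nat.card ↥(T : Subgroup ↥G) := by
    rw [Sylow.card_eq_multiplicity]
    apply pow_dvd_pow
    exact (Nat.Prime.pow_dvd_iff_le_factorization hp Nat.card_pos.ne').mp hdvd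
  have hT'card : Nat.card ↥((T : Subgroup ↥G).map G.subtype) = Nat.card ↥(T : Subgroup ↥G) :=
    Subgroup.card_map_of_injective G.subtype_injective
  have hT'pg : IsPGroup p ↥((T : Subgroup ↥G).map G.subtype) := T.2.map G.subtype
  obtain ⟨S, hS⟩ := hT'pg.exists_le_sylow
  have hScard := sylow_card_of_card_eq p k m hcard hm S
  have hTS : (T : Subgroup ↥G).map G.subtype = (S : Subgroup (Equiv.Perm α)) :=
    Subgroup.eq_of_le_of_card_ge hS
      (by rw [hScard, hT'card]; exact Nat.le_of_dvd Nat.card_pos hT)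
  obtain ⟨S', hS'⟩ := hs.exists_le_sylow
  obtain ⟨c, hc⟩ := MulAction.exists_smul_eq (Equiv.Perm α) S' S
  refine ⟨c, ?_⟩
  have h1 : c * s * c⁻¹ ∈ (S : Subgroup (Equiv.Perm α)) := by
    rw [← hc, Sylow.coe_subgroup_smul, Subgroup.mem_pointwise_smul_iff_inv_smul_mem,
      MulAut.smul_def, MulAut.conj_inv_apply]
    have : c⁻¹ * (c * s * c⁻¹) * c = s := by group
    rw [this]
    exact hS' (Subgroup.mem_zpowers s)
  rw [← hTS] at h1
  obtain ⟨t, _, ht⟩ := h1
  rw [← ht]
  exact t.2

theorem arith (n m : ℕ) (hm : m = 7 ∨ m = 14 ∨ m = 21 ∨ m = 42) (hn : n % 7 = 1)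
    (hdvd : n * m ∣ 5040) (h16 : ¬ 16 ∣ n * m) (h9 : ¬ 9 ∣ n * m) :
    n = 1 ∨ m = 7 ∨ (n = 8 ∧ m = 21) ∨ (n = 15 ∧ m = 14) := by
  have hle : n * m ≤ 5040 := Nat.le_of_dvd (by norm_num) hdvd
  obtain ⟨j, hj⟩ : ∃ j, n = 7 * j + 1 := ⟨n / 7, by omega⟩
  subst hj
  have hj : j ≤ 103 := by
    rcases hm with rfl | rfl | rfl | rfl <;> omega
  rcases hm with rfl | rfl | rfl | rfl
  · right; left; rfl
  · interval_cases j <;> omega
  · interval_cases j <;> omega
  · interval_cases j <;> omega

/-- A non-solvable transitive permutation group of degree 7 not containing the alternating group is simple of order 168 (it is PSL(3,2) in one of its two actions on 7 points). -/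
theorem result {α : Type*} [Fintype α] [DecidableEq α] (hα : Fintype.card α = 7) (G : Subgroup (Equiv.Perm α)) [MulAction.IsPretransitive G α] (hG : ¬ Group.IsSolvable G) (hA : ¬ alternatingGroup α ≤ G) : Nat.card G = 168 ∧ IsSimpleGroup G := by
  have h7 : Fact (Nat.Prime 7) := ⟨by norm_num⟩
  have hp7 : Nat.Prime 7 := by norm_num
  have hprim : IsPreprimitive ↥G α :=
    IsPreprimitive.of_prime_card (by rw [Nat.card_eq_fintype_card, hα]; norm_num)
  have hnoswap : ∀ g ∈ G, ¬ g.IsSwap := by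
    intro g hg hsw
    apply hA
    rw [Equiv.Perm.subgroup_eq_top_of_isPreprimitive_of_isSwap_mem hprim g hsw hg]
    exact le_top
  have hno3 : ∀ g ∈ G, ¬ g.IsThreeCycle := fun g hg h3 =>
    hA (Equiv.Perm.alternatingGroup_le_of_isPreprimitive_of_isThreeCycle_mem hprim h3 hg)
  have hcardS : Nat.card (Equiv.Perm α) = 5040 := by
    rw [Nat.card_eq_fintype_card, Fintype.card_perm, hα]; rfl
  obtain ⟨a, b, c, hab, hac, hbc⟩ : ∃ a b c : α, a ≠ b ∧ a ≠ c ∧ b ≠ c := by
    have : 2 < Fintype.card α := by rw [hα]; norm_num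
    exact Fintype.two_lt_card_iff.mp this
  have h16 : ¬ 16 ∣ Nat.card ↥G := by
    intro hd
    have : Fact (Nat.Prime 2) := ⟨Nat.prime_two⟩
    have hsw : (Equiv.swap a b).IsSwap := ⟨a, b, hab, rfl⟩
    obtain ⟨c', hc'⟩ := exists_conj_mem G 2 4 315 (by rw [hcardS]; norm_num) (by norm_num)
      (by simpa using hd) (Equiv.swap a b)
      (IsPGroup.of_card (n := 1) (by rw [Nat.card_zpowers, hsw.orderOf]; norm_num))
    apply hnoswap _ hc'
    rw [← Equiv.swap_apply_apply]
    exact ⟨c' a, c' b, fun h => hab (c'.injective h), rfl⟩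
  have h9 : ¬ 9 ∣ Nat.card ↥G := by
    intro hd
    have : Fact (Nat.Prime 3) := ⟨Nat.prime_three⟩
    have h3c := Equiv.Perm.isThreeCycle_swap_mul_swap_same hab hac hbc
    obtain ⟨c', hc'⟩ := exists_conj_mem G 3 2 560 (by rw [hcardS]; norm_num) (by norm_num)
      (by simpa using hd) (Equiv.swap a b * Equiv.swap a c)
      (IsPGroup.of_card (n := 1) (by rw [Nat.card_zpowers, h3c.orderOf]; norm_num))
    apply hno3 _ hc'
    unfold Equiv.Perm.IsThreeCycle at h3c ⊢
    rw [Equiv.Perm.cycleType_conj]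
    exact h3c
  have hpG : 7 ∣ Nat.card ↥G := Cfsg.Agent.S1013.dvd_card_of_pretransitive hα hp7
  have hGdvd : Nat.card ↥G ∣ 5040 := by
    rw [← hcardS]; exact Subgroup.card_subgroup_dvd_card G
  obtain ⟨P⟩ : Nonempty (Sylow 7 ↥G) := inferInstance
  have hcard : ∀ Q : Sylow 7 ↥G, Nat.card ↥(Q : Subgroup ↥G) = 7 := by
    intro Q
    obtain ⟨d, hd⟩ := hpG
    have hd7 : ¬ 7 ∣ d := by
      rintro ⟨e, rfl⟩
      rw [hd] at hGdvd
      have : 49 ∣ 5040 := Dvd.dvd.trans ⟨e, by ring⟩ hGdvd
      omega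
    simpa using sylow_card_of_card_eq 7 1 d (by rw [hd]; ring) hd7 Q
  -- the normalizer has order dividing 42
  have hN42 : Nat.card ↥(Subgroup.normalizer ((P : Subgroup ↥G) : Set ↥G)) ∣ 42 := by
    have hP'card : Nat.card ↥((P : Subgroup ↥G).map G.subtype) = 7 := by
      rw [Subgroup.card_map_of_injective G.subtype_injective, hcard P]
    have hpg : IsPGroup 7 ↥((P : Subgroup ↥G).map G.subtype) :=
      IsPGroup.of_card (n := 1) (by rw [hP'card]; norm_num)
    obtain ⟨S, hS⟩ := hpg.exists_le_sylow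
    have hScard : Nat.card ↥(S : Subgroup (Equiv.Perm α)) = 7 := by
      simpa using sylow_card_of_card_eq 7 1 720 (by rw [hcardS]; norm_num) (by norm_num) S
    have hPS : (P : Subgroup ↥G).map G.subtype = (S : Subgroup (Equiv.Perm α)) :=
      Subgroup.eq_of_le_of_card_ge hS (by rw [hScard, hP'card])
    have h42 := Cfsg.Agent.S0989.result 7 (Or.inl hα) S
    have hle : (Subgroup.normalizer ((P : Subgroup ↥G) : Set ↥G)).map G.subtype ≤
        Subgroup.normalizer ((S : Subgroup (Equiv.Perm α)) : Set (Equiv.Perm α)) := by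
      rw [← hPS]; exact Subgroup.le_normalizer_map G.subtype
    have := Subgroup.card_dvd_of_le hle
    rwa [Subgroup.card_map_of_injective G.subtype_injective, h42] at this
  have hN7 : 7 ∣ Nat.card ↥(Subgroup.normalizer ((P : Subgroup ↥G) : Set ↥G)) := by
    have := Subgroup.card_dvd_of_le (Subgroup.le_normalizer (H := (P : Subgroup ↥G)))
    rwa [hcard P] at this
  have hmul := card_normalizer_mul_card_sylow 7 P
  have hmod : Nat.card (Sylow 7 ↥G) % 7 = 1 := card_sylow_modEq_one 7 ↥G
  have hmcases : Nat.card ↥(Subgroup.normalizer ((P : Subgroup ↥G) : Set ↥G)) = 7 ∨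
      Nat.card ↥(Subgroup.normalizer ((P : Subgroup ↥G) : Set ↥G)) = 14 ∨
      Nat.card ↥(Subgroup.normalizer ((P : Subgroup ↥G) : Set ↥G)) = 21 ∨
      Nat.card ↥(Subgroup.normalizer ((P : Subgroup ↥G) : Set ↥G)) = 42 := by
    have hle := Nat.le_of_dvd (by norm_num) hN42
    generalize Nat.card ↥(Subgroup.normalizer ((P : Subgroup ↥G) : Set ↥G)) = m at *
    interval_cases m <;> omega
  have hkey := arith (Nat.card (Sylow 7 ↥G))
    (Nat.card ↥(Subgroup.normalizer ((P : Subgroup ↥G) : Set ↥G))) hmcases hmod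
    (by rw [mul_comm, hmul]; exact hGdvd) (by rw [mul_comm, hmul]; exact h16)
    (by rw [mul_comm, hmul]; exact h9)
  -- the case of a normal Sylow 7-subgroup: G is solvable
  have hsolv : Nat.card (Sylow 7 ↥G) = 1 → False := by
    intro hn1
    apply hG
    have hPn : (P : Subgroup ↥G).Normal := sylow_normal_of_card_eq_one 7 hn1 P
    have hq := Subgroup.card_eq_card_quotient_mul_card_subgroup (P : Subgroup ↥G)
    rw [hcard P, ← hmul, hn1, mul_one] at hq
    have hQ : Group.IsSolvable (↥G ⧸ (P : Subgroup ↥G)) := by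
      rcases hmcases with h1 | h1 | h1 | h1 <;> rw [h1] at hq
      · exact Cfsg.Agent.Lib.Helper04.burnside_paqb 2 3 0 0 Nat.prime_two Nat.prime_three
          (by omega)
      · exact Cfsg.Agent.Lib.Helper04.burnside_paqb 2 3 1 0 Nat.prime_two Nat.prime_three
          (by omega)
      · exact Cfsg.Agent.Lib.Helper04.burnside_paqb 2 3 0 1 Nat.prime_two Nat.prime_three
          (by omega)
      · exact Cfsg.Agent.Lib.Helper04.burnside_paqb 2 3 1 1 Nat.prime_two Nat.prime_three
          (by omega)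
    have hPs : Group.IsSolvable ↥(P : Subgroup ↥G) :=
      Cfsg.Agent.Lib.Helper04.burnside_paqb 7 7 1 0 hp7 hp7 (by rw [hcard P]; norm_num)
    exact Group.isSolvable_of_ker_le_range (P : Subgroup ↥G).subtype
      (QuotientGroup.mk' (P : Subgroup ↥G)) (by simp)
  rcases hkey with hn1 | hm7 | ⟨hn, hm⟩ | ⟨hn, hm⟩
  · exact (hsolv hn1).elim
  · -- Burnside: normal complement
    exfalso
    apply hsolv
    have hNP : Subgroup.normalizer ((P : Subgroup ↥G) : Set ↥G) = (P : Subgroup ↥G) :=
      (Subgroup.eq_of_le_of_card_ge Subgroup.le_normalizer (by rw [hm7, hcard P])).symm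
    have hcomm : ∀ x y : ↥(P : Subgroup ↥G), x * y = y * x := by
      have : Fact (Nat.card ↥(P : Subgroup ↥G)).Prime := ⟨by rw [hcard P]; exact hp7⟩
      have hc : IsCyclic ↥(P : Subgroup ↥G) := isCyclic_of_prime_card (p := 7) (hcard P)
      intro x y
      exact (IsCyclic.isMulCommutative (α := ↥(P : Subgroup ↥G))).is_comm.comm x y
    have hNC : Subgroup.normalizer ((P : Subgroup ↥G) : Set ↥G) ≤
        Subgroup.centralizer ((P : Subgroup ↥G) : Set ↥G) := by
      rw [hNP]
      intro x hx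
      rw [Subgroup.mem_centralizer_iff]
      intro y hy
      exact congrArg Subtype.val (hcomm ⟨y, hy⟩ ⟨x, hx⟩)
    have hcompl := MonoidHom.ker_transferSylow_isComplement' P hNC
    have hndvd := MonoidHom.not_dvd_card_ker_transferSylow P hNC
    have hKbot : (MonoidHom.transferSylow P hNC).ker = ⊥ := by
      by_contra hne
      exact hndvd (Cfsg.Agent.S1013.dvd_card_of_normal hp7 hα G _ hne)
    rw [hKbot, Subgroup.isComplement'_bot_left] at hcompl
    have h1 := hcard P
    rw [hcompl, Subgroup.card_top, ← hmul, hm7] at h1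
    omega
  · -- order 168
    have h168 : Nat.card ↥G = 168 := by rw [← hmul, hn, hm]
    refine ⟨h168, ?_⟩
    apply Cfsg.Agent.S1013.result hα G P (by rw [hn]; norm_num)
    have hidx := Subgroup.card_mul_index ((P : Subgroup ↥G).subgroupOf
      (Subgroup.normalizer ((P : Subgroup ↥G) : Set ↥G)))
    rw [Nat.card_congr (Subgroup.subgroupOfEquivOfLe Subgroup.le_normalizer).toEquiv, hcard P,
      hm] at hidx
    have : ((P : Subgroup ↥G).subgroupOf
      (Subgroup.normalizer ((P : Subgroup ↥G) : Set ↥G))).index = 3 := by omega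
    rw [this]; norm_num
  · -- order 210 is impossible
    exfalso
    have h210 : Nat.card ↥G = 210 := by rw [← hmul, hn, hm]
    have hsimple : IsSimpleGroup ↥G := by
      apply Cfsg.Agent.S1013.result hα G P (by rw [hn]; norm_num)
      have hidx := Subgroup.card_mul_index ((P : Subgroup ↥G).subgroupOf
        (Subgroup.normalizer ((P : Subgroup ↥G) : Set ↥G)))
      rw [Nat.card_congr (Subgroup.subgroupOfEquivOfLe Subgroup.le_normalizer).toEquiv, hcard P,
        hm] at hidx
      have : ((P : Subgroup ↥G).subgroupOf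
        (Subgroup.normalizer ((P : Subgroup ↥G) : Set ↥G))).index = 2 := by omega
      rw [this]; norm_num
    obtain ⟨H, hH⟩ := Cfsg.Agent.Lib.Helper06.exists_index_two_of_two_mul_odd (G := ↥G) 105
      (by decide) (by rw [h210])
    have hHn : H.Normal := Subgroup.normal_of_index_eq_two hH
    rcases hHn.eq_bot_or_eq_top with hb | ht
    · rw [hb, Subgroup.index_bot, h210] at hH; omega
    · rw [ht, Subgroup.index_top] at hH; omega

end Cfsg.Agent.S0678
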