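import Cfsg.Statements.S5080
import Cfsg.Agent.Lib.Helper87.FusionAut
import Cfsg.Agent.Lib.Helper53.StronglyEmbedded
import Cfsg.Agent.Lib.Helper52.PCore

set_option autoImplicit false
open Cfsg

namespace Cfsg.Agent.S5080

open Cfsg.Agent.Lib.Helper87 Cfsg.FusionSystem

/-- A finite group with a strongly `p`-embedded subgroup has trivial `p`-core. -/
theorem pCore_eq_bot_of_spe {X : Type*} [Group X] [Finite X] {p : ℕ} [Fact p.Prime]
    (E : Subgroup X) (hE : IsStronglyPEmbedded p E) : pCore p X = ⊥ := by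
  obtain ⟨-, hEtop, T, hT⟩ := hE
  by_contra hne
  have h1 := (Cfsg.Agent.Lib.Helper53.kGeneratedCore_one_le_iff T E).mp hT (pCore p X)
    (Cfsg.Agent.Lib.Helper52.pCore_le_sylow p X T) hne
  haveI := Cfsg.Agent.Lib.Helper52.pCore_normal p X
  rw [Subgroup.normalizer_eq_top] at h1
  exact hEtop (top_le_iff.mp h1)

/-- In a saturated fusion system over a finite p-group, every essential subgroup is radical (it is centric and fully normalized by definition, so it is centric-radical and fully normalized). -/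
theorem result {Ω : Type*} [Group Ω] {S : Subgroup Ω} [Finite S] (p : ℕ) [Fact p.Prime] (hS : IsPGroup p S) (F : Cfsg.FusionSystem S) (hF : F.IsSaturated p) (P : Subgroup Ω) (hP : F.IsEssential p P) : F.IsRadical p P := by
  obtain ⟨⟨hPS, -⟩, -, hnorm, E, hE⟩ := hP
  refine ⟨hPS, ?_⟩
  have hfinP : Finite P := finite_of_le hPS
  have hfinX : Finite (F.autGroup P) := inferInstance
  set I := (Inn P).subgroupOf (F.autGroup P) with hI
  have hcore := pCore_eq_bot_of_spe E hE
  -- Inn P ≤ Aut_F(P)
  have hInn : Inn P ≤ F.autGroup P := by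
    rintro _ ⟨x, rfl⟩
    apply autInducedBy_le_autGroup F hPS
    exact mem_autInducedBy_iff.mpr ⟨x, hPS x.2, fun y => rfl⟩
  -- Inn P is a p-group
  have hInnp : IsPGroup p (Inn P) := by
    have hPp : IsPGroup p P := hS.to_le hPS
    exact hPp.of_surjective (MulAut.conj : P →* MulAut P).rangeRestrict
      (MonoidHom.rangeRestrict_surjective _)
  have hIp : IsPGroup p I := hInnp.comap_subtype
  have h1 : I ≤ pCore p (F.autGroup P) := Cfsg.Agent.Lib.Helper52.le_pCore hnorm hIp
  have h2 : pCore p (F.autGroup P) ≤ I := by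
    unfold pCore
    apply sSup_le
    rintro N ⟨hN, hNp⟩
    have hmapn : (N.map (QuotientGroup.mk' I)).Normal :=
      hN.map _ (QuotientGroup.mk'_surjective I)
    have hmapp : IsPGroup p (N.map (QuotientGroup.mk' I)) := hNp.map _
    have h3 : N.map (QuotientGroup.mk' I) ≤ pCore p (F.autGroup P ⧸ I) :=
      Cfsg.Agent.Lib.Helper52.le_pCore hmapn hmapp
    rw [hcore] at h3
    intro x hx
    have h4 : QuotientGroup.mk' I x ∈ (⊥ : Subgroup (F.autGroup P ⧸ I)) :=
      h3 (Subgroup.mem_map_of_mem _ hx)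
    rw [Subgroup.mem_bot] at h4
    exact (QuotientGroup.eq_one_iff x).mp h4
  have h3 : pCore p (F.autGroup P) = I := le_antisymm h2 h1
  rw [h3, hI, Subgroup.map_subgroupOf_eq_of_le hInn]

end Cfsg.Agent.S5080
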