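import Cfsg.Statements.S5087
import Cfsg.Agent.S5080
import Cfsg.Agent.S5082
import Cfsg.Agent.Lib.Helper89.NormalCrit

set_option autoImplicit false
open Cfsg

namespace Cfsg.Agent.S5087

open Cfsg.FusionSystem Cfsg.Agent.Lib

/-- Transport of a fusion system along an equality of the underlying subgroups. -/
def castSystem {Ω : Type*} [Group Ω] {T S : Subgroup Ω} (h : T = S) (E : FusionSystem T) :
    FusionSystem S := h ▸ E

theorem castSystem_hom {Ω : Type*} [Group Ω] {T S : Subgroup Ω} (h : T = S) (E : FusionSystem T)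
    (P : Subgroup Ω) : (castSystem h E).Hom P = E.Hom P := by
  subst h
  rfl

/-- In a saturated fusion system over a finite p-group S, a subgroup Q is normal in the system if and only if every subgroup P that equals S or is essential contains Q and every element of Aut_F(P) maps Q onto itself. -/
theorem result {Ω : Type*} [Group Ω] {S : Subgroup Ω} [Finite S] (p : ℕ) [Fact p.Prime] (hS : IsPGroup p S) (F : Cfsg.FusionSystem S) (hF : F.IsSaturated p) (Q : Subgroup Ω) : F.IsNormal Q ↔ ∀ P : Subgroup Ω, (P = S ∨ F.IsEssential p P) → (Q ≤ P ∧ ∀ α ∈ F.autGroup P, (Q.subgroupOf P).map α.toMonoidHom = Q.subgroupOf P) := by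
  constructor
  · intro hQ P hP
    have hPS : P ≤ S := by
      rcases hP with rfl | hess
      · exact le_rfl
      · exact hess.1.1
    refine ⟨?_, fun α hα => Helper89.IsNormal.map_aut_eq hQ hPS α hα⟩
    rcases hP with rfl | hess
    · exact hQ.1
    · exact Helper89.IsNormal.le_of_centric_radical hS hQ hess.1
        (Cfsg.Agent.S5080.result p hS F hF P hess)
  · intro h
    obtain ⟨hQS, hinv⟩ := h S (Or.inl rfl)
    -- Q is normal in S
    have hnorm : ∀ s ∈ S, s ∈ Subgroup.normalizer (Q : Set Ω) := by
      intro s hs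
      have hsn : s ∈ Subgroup.normalizer (S : Set Ω) := Subgroup.le_normalizer hs
      have hα : Helper89.conjAut S s hsn ∈ F.autGroup S :=
        Helper89.autInducedBy_le_autGroup F le_rfl (Helper89.conjAut_mem_autInducedBy hs hsn)
      have hmap := hinv _ hα
      have hfwd : ∀ (t : Ω), t ∈ S → ∀ x ∈ Q, t * x * t⁻¹ ∈ Q := by
        intro t ht x hx
        have htn : t ∈ Subgroup.normalizer (S : Set Ω) := Subgroup.le_normalizer ht
        have hβ : Helper89.conjAut S t htn ∈ F.autGroup S :=
          Helper89.autInducedBy_le_autGroup F le_rfl (Helper89.conjAut_mem_autInducedBy ht htn)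
        have hm := hinv _ hβ
        have : (Helper89.conjAut S t htn) ⟨x, hQS hx⟩ ∈
            (Q.subgroupOf S).map (Helper89.conjAut S t htn).toMonoidHom :=
          ⟨⟨x, hQS hx⟩, Subgroup.mem_subgroupOf.mpr hx, rfl⟩
        rw [hm] at this
        exact Subgroup.mem_subgroupOf.mp this
      rw [Subgroup.mem_normalizer_iff]
      intro x
      constructor
      · exact hfwd s hs x
      · intro hx
        have := hfwd s⁻¹ (S.inv_mem hs) _ hx
        have e : s⁻¹ * (s * x * s⁻¹) * s⁻¹⁻¹ = x := by group
        rwa [e] at this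
    have hN : normalizerIn S Q = S := by
      apply le_antisymm (Helper87.normalizerIn_le S Q)
      intro s hs
      exact ⟨hs, hnorm s hs⟩
    let E : FusionSystem S := castSystem hN (Helper87.normalizerSystem F Q hQS)
    have hEhom : ∀ P : Subgroup Ω, E.Hom P = F.normalizerHom Q P := fun P =>
      castSystem_hom hN _ P
    have hFE : F ≤ E := by
      apply Cfsg.Agent.S5082.result p hS F hF E
      intro P hP α hα
      obtain ⟨hQP, -⟩ := h P hP
      have hPS : P ≤ S := by
        rcases hP with rfl | hess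
        · exact le_rfl
        · exact hess.1.1
      rw [Helper89.mem_autGroup_iff E hPS, hEhom]
      have hφ := (Helper89.mem_autGroup_iff F hPS α).mp hα
      have hsup : P ⊔ Q = P := sup_eq_left.mpr hQP
      have hPN : P ≤ normalizerIn S Q := by rw [hN]; exact hPS
      refine ⟨hφ, hPN, fun x => hPN (α x).2, ?_⟩
      obtain ⟨ψ, hψ, hψx⟩ := Helper88.hom_cast F hsup.symm _ hφ
      refine ⟨ψ, hψ, fun x => hψx _ _ _, ?_⟩
      have hmapα := (h P hP).2 α hα
      ext y
      constructor
      · rintro ⟨x, hx, rfl⟩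
        have hxQ : (x : Ω) ∈ Q := Subgroup.mem_subgroupOf.mp hx
        have hxP : (x : Ω) ∈ P := hQP hxQ
        rw [hψx (x : Ω) hxP x.2]
        have : α ⟨x, hxP⟩ ∈ (Q.subgroupOf P).map α.toMonoidHom :=
          ⟨⟨x, hxP⟩, Subgroup.mem_subgroupOf.mpr hxQ, rfl⟩
        rw [hmapα] at this
        exact Subgroup.mem_subgroupOf.mp this
      · intro hy
        have hyP : y ∈ P := hQP hy
        have : (⟨y, hyP⟩ : P) ∈ (Q.subgroupOf P).map α.toMonoidHom := by
          rw [hmapα]; exact Subgroup.mem_subgroupOf.mpr hy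
        obtain ⟨x, hx, hxy⟩ := this
        have hxQ : (x : Ω) ∈ Q := Subgroup.mem_subgroupOf.mp hx
        refine ⟨⟨x, (le_sup_left : P ≤ P ⊔ Q) x.2⟩, Subgroup.mem_subgroupOf.mpr hxQ, ?_⟩
        rw [hψx (x : Ω) x.2 _]
        exact congrArg Subtype.val hxy
    refine ⟨hQS, fun P φ hφ => ?_⟩
    have := hFE P hφ
    rw [hEhom] at this
    exact this.2.2.2

end Cfsg.Agent.S5087
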