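import Mathlib
import Cfsg.Statements.S0284
import Cfsg.Agent.Lib.Helper99.HermCount

set_option autoImplicit false
open Cfsg

namespace Cfsg.Agent.S0284

open Cfsg.Agent.Lib.Helper99

/-- The standard Hermitian form on F^n, |F| = q^2, has exactly q^(n-1) (q^n - (-1)^n) vectors of norm 1. -/
theorem result {F : Type*} [Field F] [Fintype F] {q : ℕ} (hF : Fintype.card F = q ^ 2) (n : ℕ) : Nat.card {v : Fin n → F // Cfsg.hermForm n F q v v = 1} = (if Even n then q ^ (n - 1) * (q ^ n - 1) else q ^ (n - 1) * (q ^ n + 1)) := by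
  have hq := herm_q_ge_two hF
  have h1 := (hcnt_eq hF n).2 1 one_ne_zero (one_pow q)
  unfold hcnt at h1
  rw [h1]
  obtain ⟨hA, _⟩ := hAZ_closed hq n
  rcases n with _ | k
  · simp [hAZ]
  · have hq0 : (q : ℤ) ≠ 0 := by
      have : (0 : ℤ) < q := by exact_mod_cast (by omega : 0 < q)
      exact this.ne'
    have hA' : ((hAZ q (k + 1)).1 : ℤ) = (q : ℤ) ^ k * ((q : ℤ) ^ (k + 1) - (-1) ^ (k + 1)) := by
      apply mul_left_cancel₀ hq0
      rw [hA]; ring
    have hpos : 1 ≤ q ^ (k + 1) := Nat.one_le_pow _ _ (by omega)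
    simp only [Nat.add_sub_cancel]
    split_ifs with hev
    · rw [hev.neg_one_pow] at hA'
      have : ((q ^ k * (q ^ (k + 1) - 1) : ℕ) : ℤ) = (q : ℤ) ^ k * ((q : ℤ) ^ (k + 1) - 1) := by
        rw [Nat.cast_mul, Nat.cast_sub hpos]; push_cast; ring
      exact_mod_cast hA'.trans this.symm
    · rw [Nat.not_even_iff_odd] at hev
      rw [hev.neg_one_pow] at hA'
      have : ((q ^ k * (q ^ (k + 1) + 1) : ℕ) : ℤ) = (q : ℤ) ^ k * ((q : ℤ) ^ (k + 1) - -1) := by
        push_cast; ring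
      exact_mod_cast hA'.trans this.symm

end Cfsg.Agent.S0284
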