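import Cfsg.Statements.S0277
import Cfsg.Agent.Lib.Helper08.GUCard

set_option autoImplicit false
open Cfsg

namespace Cfsg.Agent.S0277

/-- Order of the general unitary group: |GU_n(q)| = q^(n(n-1)/2) * prod_{i=1}^{n} (q^i - (-1)^i). -/
theorem result {F : Type*} [Field F] [Fintype F] {q : ℕ} (hF : Fintype.card F = q ^ 2) (n : ℕ) : Nat.card (Cfsg.GU n F q) = q ^ (n * (n - 1) / 2) * ∏ i ∈ Finset.range n, (if Even i then q ^ (i + 1) + 1 else q ^ (i + 1) - 1) := by
  induction n with
  | zero =>
    simp only [Finset.range_zero, Finset.prod_empty, mul_one, Nat.zero_mul, Nat.zero_div, pow_zero]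
    haveI : Subsingleton (Matrix.GeneralLinearGroup (Fin 0) F) := inferInstance
    exact Nat.card_unique
  | succ n ih =>
    rw [Cfsg.Agent.Lib.Helper08.card_GU_succ hF n, Cfsg.Agent.S0284.result hF (n + 1), ih,
      Finset.prod_range_succ, Nat.triangle_succ]
    simp only [Nat.add_sub_cancel]
    by_cases hn : Even n
    · have hn1 : ¬ Even (n + 1) := by
        rw [Nat.even_add_one]; exact not_not.mpr hn
      rw [if_neg hn1, if_pos hn]
      ring
    · have hn1 : Even (n + 1) := by
        rw [Nat.even_add_one]; exact hn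
      rw [if_pos hn1, if_neg hn]
      ring

end Cfsg.Agent.S0277
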