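import Cfsg.Statements.S0289
import Cfsg.Agent.Lib.Helper08.QuadCount

set_option autoImplicit false
open Cfsg

namespace Cfsg.Agent.S0289

theorem arith_plus (q k : ℕ) (hq : 1 ≤ q) :
    q ^ (k + 1) + (q ^ (k + 1) - 1) * q ^ k = q ^ (2 * (k + 1) - 1) + q ^ (k + 1) - q ^ k := by
  have ha : 1 ≤ q ^ k := Nat.one_le_pow _ _ hq
  have e1 : 2 * (k + 1) - 1 = (k + 1) + k := by omega
  have e2 : q ^ (2 * (k + 1) - 1) = q ^ (k + 1) * q ^ k := by rw [e1, pow_add]
  have h1 : 1 ≤ q ^ (k + 1) := Nat.one_le_pow _ _ hq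
  rw [e2, Nat.sub_mul, one_mul]
  have h2 : q ^ k ≤ q ^ (k + 1) * q ^ k := Nat.le_mul_of_pos_left _ h1
  omega


/-- The hyperbolic quadratic form on F^(2m), m at least 1, has q^(2m-1) + q^m - q^(m-1) zeros (that is, (q^m - 1)(q^(m-1) + 1) non-zero isotropic vectors). -/
theorem result {F : Type*} [Field F] [Fintype F] {q : ℕ} (hF : Fintype.card F = q) (m : ℕ) (hm : 1 ≤ m) : Nat.card {v : Fin m ⊕ Fin m → F // Cfsg.quadFormPlus m F v = 0} = q ^ (2 * m - 1) + q ^ m - q ^ (m - 1) := by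
  classical
  let e : (Fin m ⊕ Fin m → F) ≃ (Fin m → F) × (Fin m → F) × Unit :=
    { toFun := fun v => (fun i => v (.inl i), fun i => v (.inr i), ())
      invFun := fun p => Sum.elim p.1 p.2.1
      left_inv := fun v => by ext (i | i) <;> rfl
      right_inv := fun p => by rcases p with ⟨x, y, ⟨⟩⟩; rfl }
  have h := Cfsg.Agent.Lib.Helper08.natCard_zeros_of_equiv (F := F) (ι := Fin m) (A := Unit)
    (Cfsg.quadFormPlus m F) (fun _ => 0) e (fun v => by simp [Cfsg.quadFormPlus, e])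
  rw [h]
  simp only [Fintype.card_fin, hF, Fintype.card_unit, mul_one, Nat.card_eq_fintype_card,
    Fintype.card_subtype_true]
  obtain ⟨k, rfl⟩ : ∃ k, m = k + 1 := ⟨m - 1, by omega⟩
  have hq : 1 ≤ q := by rw [← hF]; exact Fintype.card_pos
  rw [Nat.add_sub_cancel]
  exact arith_plus q k hq

end Cfsg.Agent.S0289
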