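import Cfsg.Statements.S0290
import Cfsg.Agent.Lib.Helper08.QuadCount

set_option autoImplicit false
open Cfsg

namespace Cfsg.Agent.S0290

theorem arith_minus (q k : ℕ) (hq : 1 ≤ q) :
    q ^ k + (q ^ k - 1) * (q ^ (k - 1) * q ^ 2) = q ^ (2 * (k + 1) - 1) + q ^ (k + 1 - 1) - q ^ (k + 1) := by
  rcases k with _ | j
  · simp
  · rw [Nat.add_sub_cancel, Nat.add_sub_cancel, ← pow_add]
    have h1 : 1 ≤ q ^ (j + 1) := Nat.one_le_pow _ _ hq
    have e1 : q ^ (2 * (j + 1 + 1) - 1) = q ^ (j + 1) * q ^ (j + 2) := by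
      rw [← pow_add]; congr 1; omega
    rw [e1, Nat.sub_mul, one_mul]
    have h2 : q ^ (j + 2) ≤ q ^ (j + 1) * q ^ (j + 2) := Nat.le_mul_of_pos_left _ h1
    have h3 : q ^ (j + 1 + 1) = q ^ (j + 2) := rfl
    omega


/-- The minus-type quadratic form on F^(2m), m at least 1, has q^(2m-1) + q^(m-1) - q^m zeros (that is, (q^m + 1)(q^(m-1) - 1) non-zero isotropic vectors). -/
theorem result {F : Type*} [Field F] [Fintype F] {q : ℕ} (hF : Fintype.card F = q) (m : ℕ) (hm : 1 ≤ m) (a b : F) (hab : ∀ z₁ z₂ : F, z₁ ^ 2 + a * z₁ * z₂ + b * z₂ ^ 2 = 0 → z₁ = 0 ∧ z₂ = 0) : Nat.card {v : (Fin (m - 1) ⊕ Fin (m - 1)) ⊕ Fin 2 → F // Cfsg.quadFormMinus (m - 1) F a b v = 0} = q ^ (2 * m - 1) + q ^ (m - 1) - q ^ m := by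
  classical
  obtain ⟨k, rfl⟩ : ∃ k, m = k + 1 := ⟨m - 1, by omega⟩
  change Nat.card {v : (Fin k ⊕ Fin k) ⊕ Fin 2 → F // Cfsg.quadFormMinus k F a b v = 0} = _
  let e : ((Fin k ⊕ Fin k) ⊕ Fin 2 → F) ≃ (Fin k → F) × (Fin k → F) × (Fin 2 → F) :=
    { toFun := fun v => (fun i => v (.inl (.inl i)), fun i => v (.inl (.inr i)), fun j => v (.inr j))
      invFun := fun p => Sum.elim (Sum.elim p.1 p.2.1) p.2.2
      left_inv := fun v => by ext ((i | i) | i) <;> rfl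
      right_inv := fun p => by rcases p with ⟨x, y, z⟩; rfl }
  have h := Cfsg.Agent.Lib.Helper08.natCard_zeros_of_equiv (F := F) (ι := Fin k) (A := Fin 2 → F)
    (Cfsg.quadFormMinus k F a b) (fun z => z 0 ^ 2 + a * z 0 * z 1 + b * z 1 ^ 2) e
    (fun v => by simp [Cfsg.quadFormMinus, e])
  rw [h]
  have h1 : Nat.card {z : Fin 2 → F // z 0 ^ 2 + a * z 0 * z 1 + b * z 1 ^ 2 = 0} = 1 := by
    rw [Nat.card_eq_one_iff_unique]
    refine ⟨⟨fun x y => Subtype.ext ?_⟩, ⟨⟨0, by simp⟩⟩⟩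
    have hx := hab _ _ x.2
    have hy := hab _ _ y.2
    funext j
    fin_cases j
    · simp [hx.1, hy.1]
    · simp [hx.2, hy.2]
  rw [h1]
  simp only [Fintype.card_fin, hF, mul_one, Fintype.card_fun]
  have hq : 1 ≤ q := by rw [← hF]; exact Fintype.card_pos
  exact arith_minus q k hq

end Cfsg.Agent.S0290
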