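import Mathlib
import Cfsg.Statements.S4127
import Cfsg.Agent.S3993
import Cfsg.Agent.Lib.Helper56.AxB

set_option autoImplicit false
open Cfsg

universe u

namespace Cfsg.Agent.S4127

lemma orderOf_conj' {G : Type*} [Group G] (a b : G) : orderOf (a * b * a⁻¹) = orderOf b := by
  rw [← MulAut.conj_apply]
  exact MulEquiv.orderOf_eq (MulAut.conj a) b

lemma mem_smul_sylow {G : Type*} [Group G] {p : ℕ} (t v : G) (Q : Sylow p G) :
    v ∈ ((t • Q : Sylow p G) : Subgroup G) ↔ t⁻¹ * v * t ∈ (Q : Subgroup G) := by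
  rw [Sylow.coe_subgroup_smul, Subgroup.mem_pointwise_smul_iff_inv_smul_mem]
  simp only [MulAut.smul_def, ← map_inv, MulAut.conj_apply, inv_inv]

theorem exists_sylow_le {G : Type*} [Group G] [Finite G] {p : ℕ} [hp : Fact p.Prime] (N : Subgroup G)
    (hN : ¬ p ∣ N.index) : ∃ P : Sylow p G, (P : Subgroup G) ≤ N := by
  obtain ⟨P0⟩ : Nonempty (Sylow p N) := inferInstance
  have hP : IsPGroup p ((P0 : Subgroup N).map N.subtype) := P0.2.map N.subtype
  have hidx : ¬ p ∣ ((P0 : Subgroup N).map N.subtype).index := by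
    rw [Subgroup.index_map_subtype]
    exact Nat.Prime.not_dvd_mul hp.out P0.not_dvd_index hN
  exact ⟨hP.toSylow hidx, Subgroup.map_subtype_le _⟩

/-- a `p`-element commuting with a `p'`-element `d` such that `d * w` is again a `p'`-element
is trivial. -/
lemma eq_one_of_coprime {G : Type*} [Group G] {p : ℕ} (d d' w : G)
    (hd : (orderOf d).Coprime p) (hd' : (orderOf d').Coprime p) (hw : ∃ k : ℕ, orderOf w = p ^ k)
    (hcomm : Commute d' w) (h : d = d' * w) : w = 1 := by
  obtain ⟨k, hk⟩ := hw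
  obtain ⟨J, hJ⟩ : ∃ J, J = orderOf d * orderOf d' := ⟨_, rfl⟩
  have h1 : w ^ J = 1 := by
    have h2 : d ^ J = 1 := by
      rw [hJ, pow_mul, pow_orderOf_eq_one, one_pow]
    have h3 : d' ^ J = 1 := by
      rw [hJ, mul_comm, pow_mul, pow_orderOf_eq_one, one_pow]
    have h2' : (d' * w) ^ J = 1 := h ▸ h2
    rw [hcomm.mul_pow, h3, one_mul] at h2'
    exact h2'
  rw [hJ] at h1
  have h4 : orderOf w ∣ orderOf d * orderOf d' := orderOf_dvd_of_pow_eq_one h1
  have h5 : (orderOf w).Coprime (orderOf d * orderOf d') := by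
    rw [hk]
    apply Nat.Coprime.pow_left
    exact (Nat.Coprime.mul_left hd hd').symm
  have h6 := Nat.Coprime.eq_one_of_dvd h5 h4
  exact orderOf_eq_one_iff.1 h6


/-- If every `p'`-element has class size prime to `p`, a `p'`-subgroup of full order centralizes
all `p`-elements. -/
theorem thmT {L : Type u} [Group L] [Finite L] (p : ℕ) [hp : Fact p.Prime]
    (h : ∀ y : L, (orderOf y).Coprime p → ¬ p ∣ (Subgroup.centralizer ({y} : Set L)).index) :
    ∃ D : Subgroup L, (Nat.card D).Coprime p ∧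
      Nat.card D * p ^ (Nat.card L).factorization p = Nat.card L ∧
      ∀ d ∈ D, ∀ u : L, (∃ k : ℕ, orderOf u = p ^ k) → d * u = u * d := by
  classical
  obtain ⟨P₀⟩ : Nonempty (Sylow p L) := inferInstance
  obtain ⟨v, hv⟩ : ∃ v, v = (Nat.card L).factorization p := ⟨_, rfl⟩
  rw [← hv]
  have hP₀card : Nat.card P₀ = p ^ v := hv ▸ P₀.card_eq_multiplicity
  obtain ⟨m, hm⟩ : ∃ m, m = (P₀ : Subgroup L).index := ⟨_, rfl⟩
  have hLcard : p ^ v * m = Nat.card L := by
    rw [← hP₀card, hm]; exact Subgroup.card_mul_index _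
  have hmcop : m.Coprime p := by
    rw [hm]
    exact ((Nat.Prime.coprime_iff_not_dvd hp.out).2 P₀.not_dvd_index).symm
  have hmpos : 0 < m := by
    rw [hm]; exact Nat.pos_of_ne_zero Subgroup.index_ne_zero_of_finite
  -- claim 1
  have claim1 : ∀ y : L, (orderOf y).Coprime p →
      ∃ g : L, g * y * g⁻¹ ∈ Subgroup.centralizer ((P₀ : Subgroup L) : Set L) := by
    intro y hy
    obtain ⟨P₁, hP₁⟩ := exists_sylow_le (Subgroup.centralizer ({y} : Set L)) (h y hy)
    obtain ⟨g, hg⟩ := MulAction.exists_smul_eq L P₁ P₀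
    refine ⟨g, ?_⟩
    rw [Subgroup.mem_centralizer_iff]
    intro u hu
    have hu' : u ∈ ((g • P₁ : Sylow p L) : Subgroup L) := by rw [hg]; exact hu
    have h1 : g⁻¹ * u * g ∈ (P₁ : Subgroup L) := (mem_smul_sylow g u P₁).1 hu'
    have h2 := hP₁ h1
    rw [Subgroup.mem_centralizer_iff] at h2
    have h3 := h2 y rfl
    calc u * (g * y * g⁻¹) = g * ((g⁻¹ * u * g) * y) * g⁻¹ := by group
      _ = g * (y * (g⁻¹ * u * g)) * g⁻¹ := by rw [h3]
      _ = g * y * g⁻¹ * u := by group
  obtain ⟨N, hN⟩ : ∃ N : Subgroup L, N = Subgroup.normalizer ((P₀ : Subgroup L) : Set L) :=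
    ⟨_, rfl⟩
  obtain ⟨E, hE⟩ : ∃ E : Subgroup L, E = Subgroup.centralizer ((P₀ : Subgroup L) : Set L) :=
    ⟨_, rfl⟩
  have hEN : E ≤ N := by rw [hE, hN]; exact Subgroup.centralizer_le_normalizer _
  have hP₀N : (P₀ : Subgroup L) ≤ N := by rw [hN]; exact Subgroup.le_normalizer
  -- `N` normalizes `E`
  have hNE : ∀ n ∈ N, ∀ e ∈ E, n⁻¹ * e * n ∈ E := by
    intro n hn e he
    rw [hE, Subgroup.mem_centralizer_iff] at he ⊢
    intro u hu
    have hu2 : n * u * n⁻¹ ∈ (P₀ : Subgroup L) := by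
      rw [hN] at hn
      exact (Subgroup.mem_normalizer_iff.1 hn u).1 hu
    have h3 := he _ hu2
    calc u * (n⁻¹ * e * n) = n⁻¹ * ((n * u * n⁻¹) * e) * n := by group
      _ = n⁻¹ * (e * (n * u * n⁻¹)) * n := by rw [h3]
      _ = n⁻¹ * e * n * u := by group
  -- the sets
  have hYcard : m ≤ Nat.card {y : L // (orderOf y).Coprime p} := by
    have h1 := Cfsg.Agent.S3993.result (G := L) m (Dvd.intro_left _ hLcard)
    have h2 : Nat.card {g : L // g ^ m = 1} = Nat.card {y : L // (orderOf y).Coprime p} := by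
      apply Nat.card_congr
      apply Equiv.subtypeEquivRight
      intro g
      rw [← orderOf_dvd_iff_pow_eq_one]
      constructor
      · intro hg
        exact Nat.Coprime.coprime_dvd_left hg hmcop
      · intro hg
        have h3 : orderOf g ∣ p ^ v * m := hLcard ▸ orderOf_dvd_natCard g
        exact (Nat.Coprime.pow_right v hg).dvd_of_dvd_mul_left h3
    rw [h2] at h1
    have hpos : 0 < Nat.card {y : L // (orderOf y).Coprime p} := by
      have : Nonempty {y : L // (orderOf y).Coprime p} := ⟨⟨1, by simp⟩⟩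
      exact Nat.card_pos
    exact Nat.le_of_dvd hpos h1
  -- injection D₀ × P₀ → N
  have hD₀card : Nat.card {d : L // d ∈ E ∧ (orderOf d).Coprime p} * p ^ v ≤ Nat.card N := by
    rw [← hP₀card, ← Nat.card_prod]
    let f : {d : L // d ∈ E ∧ (orderOf d).Coprime p} × (P₀ : Subgroup L) → N :=
      fun q => ⟨q.1.1 * q.2.1, N.mul_mem (hEN q.1.2.1) (hP₀N q.2.2)⟩
    apply Nat.card_le_card_of_injective f
    rintro ⟨⟨d, hdE, hdc⟩, ⟨u, hu⟩⟩ ⟨⟨d', hd'E, hd'c⟩, ⟨u', hu'⟩⟩ heq
    have heq' : d * u = d' * u' := congrArg Subtype.val heq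
    have hw : u' * u⁻¹ ∈ (P₀ : Subgroup L) := (P₀ : Subgroup L).mul_mem hu' ((P₀ : Subgroup L).inv_mem hu)
    have hd : d = d' * (u' * u⁻¹) := by
      calc d = (d * u) * u⁻¹ := by group
        _ = d' * u' * u⁻¹ := by rw [heq']
        _ = d' * (u' * u⁻¹) := by group
    have hcomm : Commute d' (u' * u⁻¹) := by
      rw [hE, Subgroup.mem_centralizer_iff] at hd'E
      exact (hd'E _ hw).symm
    have hwp : ∃ k : ℕ, orderOf (u' * u⁻¹) = p ^ k := by
      have := (P₀.isPGroup'.to_le le_rfl) ⟨u' * u⁻¹, hw⟩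
      obtain ⟨k, hk⟩ := this
      have h5 : (u' * u⁻¹) ^ p ^ k = 1 := congrArg Subtype.val hk
      obtain ⟨j, _, hj⟩ := (Nat.dvd_prime_pow hp.out).1 (orderOf_dvd_of_pow_eq_one h5)
      exact ⟨j, hj⟩
    have hw1 := eq_one_of_coprime (p := p) d d' (u' * u⁻¹) hdc hd'c hwp hcomm hd
    have hdd' : d = d' := by rw [hd, hw1, mul_one]
    have huu' : u = u' := by
      have : u' = (u' * u⁻¹) * u := by group
      rw [this, hw1, one_mul]
    subst hdd'
    subst huu'
    rfl
  -- injection Option D₁ → D₀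
  have hD₁card : Nat.card {d : L // d ∈ E ∧ (orderOf d).Coprime p ∧ d ≠ 1} + 1 ≤
      Nat.card {d : L // d ∈ E ∧ (orderOf d).Coprime p} := by
    rw [← Finite.card_option]
    let f : Option {d : L // d ∈ E ∧ (orderOf d).Coprime p ∧ d ≠ 1} →
        {d : L // d ∈ E ∧ (orderOf d).Coprime p} :=
      fun o => match o with
        | none => ⟨1, E.one_mem, by simp⟩
        | some d => ⟨d.1, d.2.1, d.2.2.1⟩
    apply Nat.card_le_card_of_injective f
    intro a b hab
    match a, b with
    | none, none => rfl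
    | none, some d =>
      exfalso
      have : (1 : L) = d.1 := congrArg Subtype.val hab
      exact d.2.2.2 this.symm
    | some d, none =>
      exfalso
      have : d.1 = (1 : L) := congrArg Subtype.val hab
      exact d.2.2.2 this
    | some d, some d' =>
      have h9 := congrArg Subtype.val hab
      have : d.1 = d'.1 := h9
      rw [Subtype.ext this]
  -- surjection Option (L ⧸ N × D₁) → Y
  have hYle : Nat.card {y : L // (orderOf y).Coprime p} ≤
      1 + N.index * Nat.card {d : L // d ∈ E ∧ (orderOf d).Coprime p ∧ d ≠ 1} := by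
    have : Nat.card (Option ((L ⧸ N) × {d : L // d ∈ E ∧ (orderOf d).Coprime p ∧ d ≠ 1})) =
        1 + N.index * Nat.card {d : L // d ∈ E ∧ (orderOf d).Coprime p ∧ d ≠ 1} := by
      rw [Finite.card_option, Nat.card_prod, add_comm]
      rfl
    rw [← this]
    let f : Option ((L ⧸ N) × {d : L // d ∈ E ∧ (orderOf d).Coprime p ∧ d ≠ 1}) →
        {y : L // (orderOf y).Coprime p} :=
      fun o => match o with
        | none => ⟨1, by simp⟩
        | some q => ⟨q.1.out * q.2.1 * q.1.out⁻¹, by rw [orderOf_conj']; exact q.2.2.2.1⟩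
    apply Nat.card_le_card_of_surjective f
    rintro ⟨y, hy⟩
    by_cases hy1 : y = 1
    · exact ⟨none, Subtype.ext hy1.symm⟩
    · obtain ⟨g, hg⟩ := claim1 y hy
      obtain ⟨n, hn⟩ := QuotientGroup.mk_out_eq_mul N g⁻¹
      have hmem : (n : L)⁻¹ * (g * y * g⁻¹) * n ∈ E := hNE n n.2 _ (hE ▸ hg)
      have hord : (orderOf ((n : L)⁻¹ * (g * y * g⁻¹) * n)).Coprime p := by
        have : (n : L)⁻¹ * (g * y * g⁻¹) * n = ((n : L)⁻¹ * g) * y * ((n : L)⁻¹ * g)⁻¹ := by group
        rw [this, orderOf_conj']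
        exact hy
      have hne : (n : L)⁻¹ * (g * y * g⁻¹) * n ≠ 1 := by
        intro h1
        apply hy1
        have : y = (g⁻¹ * n) * ((n : L)⁻¹ * (g * y * g⁻¹) * n) * (g⁻¹ * n)⁻¹ := by group
        rw [this, h1]
        group
      refine ⟨some (((g⁻¹ : L) : L ⧸ N), ⟨_, hmem, hord, hne⟩), ?_⟩
      apply Subtype.ext
      show (Quotient.out ((g⁻¹ : L) : L ⧸ N)) * ((n : L)⁻¹ * (g * y * g⁻¹) * n) *
        (Quotient.out ((g⁻¹ : L) : L ⧸ N))⁻¹ = y
      rw [hn]
      group
  -- arithmetic: the index of `N` is one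
  have hNidx : N.index = 1 := by
    have h1 := Subgroup.card_mul_index N
    rw [← hLcard] at h1
    obtain ⟨t, ht⟩ : ∃ t, t = N.index := ⟨_, rfl⟩
    obtain ⟨n, hn⟩ : ∃ n, n = Nat.card N := ⟨_, rfl⟩
    obtain ⟨d0, hd0⟩ : ∃ d0, d0 = Nat.card {d : L // d ∈ E ∧ (orderOf d).Coprime p} := ⟨_, rfl⟩
    obtain ⟨d1, hd1⟩ : ∃ d1, d1 = Nat.card {d : L // d ∈ E ∧ (orderOf d).Coprime p ∧ d ≠ 1} :=
      ⟨_, rfl⟩
    obtain ⟨a, ha⟩ : ∃ a, a = p ^ v := ⟨_, rfl⟩
    rw [← ht, ← hn, ← ha] at h1
    rw [← hd0, ← ha, ← hn] at hD₀card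
    rw [← hd1, ← hd0] at hD₁card
    rw [← ht, ← hd1] at hYle
    have hapos : 0 < a := by rw [ha]; exact pow_pos hp.out.pos v
    have htpos : 0 < t := by rw [ht]; exact Nat.pos_of_ne_zero Subgroup.index_ne_zero_of_finite
    have hm1 : m ≤ 1 + t * d1 := hYcard.trans hYle
    -- m a ≤ a + t d1 a ; (d1 + 1) a ≤ n ; t n = a m
    have e1 : m * a ≤ a + t * d1 * a := by nlinarith
    have e2 : d1 * a + a ≤ n := by nlinarith
    have e3 : t * (d1 * a) + t * a ≤ t * n := by nlinarith
    have e4 : t * a ≤ a := by nlinarith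
    have : t ≤ 1 := Nat.le_of_mul_le_mul_right (by simpa using e4) hapos
    omega
  have hNtop : N = ⊤ := Subgroup.index_eq_one.1 hNidx
  have hP₀normal : (P₀ : Subgroup L).Normal := by
    rw [← Subgroup.normalizer_eq_top_iff, ← hN, hNtop]
  -- Schur–Zassenhaus
  obtain ⟨D, hD⟩ := Subgroup.exists_left_complement'_of_coprime (N := (P₀ : Subgroup L))
    P₀.card_coprime_index
  have hDcard : Nat.card D = m := by rw [hm]; exact (hD.index_eq_card).symm
  refine ⟨D, hDcard ▸ hmcop, ?_, ?_⟩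
  · rw [hDcard, mul_comm]; exact hLcard
  · intro d hd u hu
    have hdc : (orderOf d).Coprime p := by
      have h1 : orderOf d ∣ Nat.card D := by
        have := orderOf_dvd_natCard (⟨d, hd⟩ : D)
        rwa [Subgroup.orderOf_mk] at this
      rw [hDcard] at h1
      exact Nat.Coprime.coprime_dvd_left h1 hmcop
    obtain ⟨g, hg⟩ := claim1 d hdc
    -- `u` lies in `P₀`
    have huP : ∀ w : L, (∃ k : ℕ, orderOf w = p ^ k) → w ∈ (P₀ : Subgroup L) := by
      intro w hw
      obtain ⟨k, hk⟩ := hw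
      have hwp : IsPGroup p (Subgroup.zpowers w) := by
        apply IsPGroup.of_card (n := k)
        rw [Nat.card_zpowers, hk]
      obtain ⟨Q, hQ⟩ := hwp.exists_le_sylow
      obtain ⟨c, hc⟩ := MulAction.exists_smul_eq L P₀ Q
      rw [Sylow.smul_eq_of_normal] at hc
      rw [hc]
      exact hQ (Subgroup.mem_zpowers w)
    have hu2 : g * u * g⁻¹ ∈ (P₀ : Subgroup L) := by
      apply huP
      rw [orderOf_conj']
      exact hu
    rw [Subgroup.mem_centralizer_iff] at hg
    have h3 := hg _ hu2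
    -- (g u g⁻¹) (g d g⁻¹) = (g d g⁻¹) (g u g⁻¹)
    have : g * (u * d) * g⁻¹ = g * (d * u) * g⁻¹ := by
      calc g * (u * d) * g⁻¹ = (g * u * g⁻¹) * (g * d * g⁻¹) := by group
        _ = (g * d * g⁻¹) * (g * u * g⁻¹) := h3
        _ = g * (d * u) * g⁻¹ := by group
    have := mul_left_cancel (mul_right_cancel this)
    exact this.symm


/-- commuting elements of coprime orders: the centralizer of the product centralizes each. -/
lemma comm_of_comm_mul {G : Type*} [Group G] (x y g : G) (hxy : Commute x y)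
    (hcop : (orderOf x).Coprime (orderOf y))
    (hg : Commute g (x * y)) : Commute g x ∧ Commute g y := by
  have h1 : (x * y) ^ orderOf y = x ^ orderOf y := by
    rw [hxy.mul_pow, pow_orderOf_eq_one, mul_one]
  have h2 : Commute g (x ^ orderOf y) := by
    rw [← h1]; exact hg.pow_right _
  obtain ⟨j, hj⟩ := exists_pow_eq_self_of_coprime (x := x) hcop.symm
  have h5 : Commute g x := by
    rw [← hj]; exact h2.pow_right j
  refine ⟨h5, ?_⟩
  have : y = x⁻¹ * (x * y) := by group
  rw [this]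
  exact h5.inv_right.mul_right hg

/-- Let G be a finite group, p a prime and p^a the largest power of p dividing the size of any conjugacy class of G. If some element of p-power order has a conjugacy class of size exactly p^a, then G has a normal p-complement. -/
theorem result {G : Type*} [Group G] [Finite G] (p : ℕ) [Fact p.Prime]
    (a : ℕ) (hmax : ∀ y : G, ¬ p ^ (a + 1) ∣ (Subgroup.centralizer ({y} : Set G)).index)
    (hx : ∃ x : G, (∃ k : ℕ, orderOf x = p ^ k) ∧ (Subgroup.centralizer ({x} : Set G)).index = p ^ a) :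
    Cfsg.HasNormalPComplement p G := by
  have hp : Fact p.Prime := inferInstance
  obtain ⟨x, ⟨k, hk⟩, hxidx⟩ := hx
  obtain ⟨C, hC⟩ : ∃ C : Subgroup G, C = Subgroup.centralizer ({x} : Set G) := ⟨_, rfl⟩
  rw [← hC] at hxidx
  have hCmem : ∀ g : G, g ∈ C ↔ x * g = g * x := by
    intro g
    rw [hC, Subgroup.mem_centralizer_iff]
    constructor
    · intro h; exact h x rfl
    · intro h y hy
      rw [Set.mem_singleton_iff] at hy
      rw [hy]; exact h
  -- hypothesis of Theorem T for `C`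
  have hT : ∀ y : C, (orderOf y).Coprime p →
      ¬ p ∣ (Subgroup.centralizer ({y} : Set C)).index := by
    intro y hy hdvd
    have hyo : (orderOf (y : G)).Coprime p := by rwa [Subgroup.orderOf_coe]
    have hxy : Commute x (y : G) := (hCmem y).1 y.2
    apply hmax (x * (y : G))
    have h1 : Subgroup.centralizer ({x * (y : G)} : Set G) ≤
        (Subgroup.centralizer ({y} : Set C)).map C.subtype := by
      intro g hg
      have hg' : Commute g (x * (y : G)) := by
        rw [Subgroup.mem_centralizer_iff] at hg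
        exact (hg _ rfl).symm
      have hcop : (orderOf x).Coprime (orderOf (y : G)) := by
        rw [hk]; exact (Nat.Coprime.pow_left k hyo.symm)
      obtain ⟨h2, h3⟩ := comm_of_comm_mul x (y : G) g hxy hcop hg'
      have hgC : g ∈ C := (hCmem g).2 h2.symm.eq
      refine ⟨⟨g, hgC⟩, ?_, rfl⟩
      rw [SetLike.mem_coe, Subgroup.mem_centralizer_iff]
      intro z hz
      rw [Set.mem_singleton_iff] at hz
      rw [hz]
      apply Subtype.ext
      exact h3.symm.eq
    have h4 := Subgroup.index_dvd_of_le h1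
    rw [Subgroup.index_map_subtype, hxidx] at h4
    obtain ⟨c, hc⟩ := hdvd
    rw [hc] at h4
    refine Dvd.dvd.trans ?_ h4
    rw [pow_succ]
    exact ⟨c, by ring⟩
  obtain ⟨D, hDcop, hDcard, hDcomm⟩ := thmT p hT
  obtain ⟨H, hH⟩ : ∃ H : Subgroup G, H = D.map C.subtype := ⟨_, rfl⟩
  have hHcard : Nat.card H = Nat.card D := by
    rw [hH]; exact Subgroup.card_subtype C D
  have hHC : H ≤ C := by rw [hH]; exact Subgroup.map_subtype_le _
  -- elements of `H` commute with `p`-elements of `C`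
  have hHcomm : ∀ h ∈ H, ∀ u ∈ C, (∃ j : ℕ, orderOf u = p ^ j) → h * u = u * h := by
    intro h hh u hu hj
    rw [hH] at hh
    obtain ⟨d, hd, rfl⟩ := hh
    have := hDcomm d hd ⟨u, hu⟩ (by rwa [Subgroup.orderOf_mk])
    exact congrArg Subtype.val this
  -- a Sylow subgroup containing `x`
  have hzp : IsPGroup p (Subgroup.zpowers x) := by
    apply IsPGroup.of_card (n := k)
    rw [Nat.card_zpowers, hk]
  obtain ⟨P, hP⟩ := hzp.exists_le_sylow
  have hxP : x ∈ (P : Subgroup G) := hP (Subgroup.mem_zpowers x)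
  have hGcard : Nat.card C * p ^ a = Nat.card G := by
    rw [← hxidx]; exact Subgroup.card_mul_index C
  have hCpos : Nat.card C ≠ 0 := Nat.card_pos.ne'
  have hfac : (Nat.card G).factorization p = (Nat.card C).factorization p + a := by
    rw [← hGcard, Nat.factorization_mul hCpos (pow_pos hp.out.pos a).ne',
      Nat.Prime.factorization_pow hp.out]
    simp
  have hPcard : Nat.card P = p ^ ((Nat.card C).factorization p + a) := by
    rw [← hfac]; exact P.card_eq_multiplicity
  have hPH : Nat.card P * Nat.card H = Nat.card G := by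
    rw [hPcard, hHcard, ← hGcard, pow_add]
    obtain ⟨c, hc⟩ : ∃ c, c = (Nat.card C).factorization p := ⟨_, rfl⟩
    rw [← hc] at hDcard ⊢
    rw [← hDcard]; ring
  have hcopPH : (Nat.card P).Coprime (Nat.card H) := by
    rw [hPcard, hHcard]
    exact Nat.Coprime.pow_left _ hDcop.symm
  have hcompl : (P : Subgroup G).IsComplement' H := Subgroup.isComplement'_of_coprime hPH hcopPH
  have hfactor : ∀ g : G, ∃ u ∈ (P : Subgroup G), ∃ h ∈ H, g = u * h := by
    intro g
    obtain ⟨⟨u, h⟩, huh⟩ := hcompl.2 g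
    exact ⟨u.1, u.2, h.1, h.2, huh.symm⟩
  have hHord : ∀ h ∈ H, (orderOf h).Coprime p := by
    intro h hh
    have h1 : orderOf h ∣ Nat.card H := by
      have := orderOf_dvd_natCard (⟨h, hh⟩ : H)
      rwa [Subgroup.orderOf_mk] at this
    rw [hHcard] at h1
    exact Nat.Coprime.coprime_dvd_left h1 hDcop
  -- the normal closure of `x` is a `p`-group
  obtain ⟨V, hV⟩ : ∃ V : Subgroup G, V = Subgroup.normalClosure ({x} : Set G) := ⟨_, rfl⟩
  have hVP : V ≤ P := by
    rw [hV, Subgroup.normalClosure, Subgroup.closure_le]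
    intro z hz
    rw [Group.mem_conjugatesOfSet_iff] at hz
    obtain ⟨b, hb, hbz⟩ := hz
    rw [Set.mem_singleton_iff] at hb
    rw [hb, isConj_iff] at hbz
    obtain ⟨c, hc⟩ := hbz
    obtain ⟨u, hu, h, hh, rfl⟩ := hfactor c
    have hhx : x * h = h * x := (hCmem h).1 (hHC hh)
    have : u * h * x * (u * h)⁻¹ = u * x * u⁻¹ := by
      calc u * h * x * (u * h)⁻¹ = u * (h * x) * h⁻¹ * u⁻¹ := by group
        _ = u * (x * h) * h⁻¹ * u⁻¹ := by rw [hhx]
        _ = u * x * u⁻¹ := by group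
    rw [← hc, this]
    exact (P : Subgroup G).mul_mem ((P : Subgroup G).mul_mem hu hxP) ((P : Subgroup G).inv_mem hu)
  have hVp : IsPGroup p V := P.isPGroup'.to_le hVP
  have hVn : V.Normal := by rw [hV]; exact Subgroup.normalClosure_normal
  have hxV : x ∈ V := by rw [hV]; exact Subgroup.subset_normalClosure rfl
  have hVord : ∀ v ∈ V, ∃ j : ℕ, orderOf v = p ^ j := by
    intro v hv
    obtain ⟨j, hj⟩ := hVp ⟨v, hv⟩
    have h5 : v ^ p ^ j = 1 := congrArg Subtype.val hj
    obtain ⟨i, _, hi⟩ := (Nat.dvd_prime_pow hp.out).1 (orderOf_dvd_of_pow_eq_one h5)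
    exact ⟨i, hi⟩
  -- `H` centralizes `V`
  have hHV : ∀ h ∈ H, ∀ v ∈ V, v * h = h * v := by
    intro h hh
    have hhx : x * h = h * x := (hCmem h).1 (hHC hh)
    apply Cfsg.Agent.Lib.Helper56.axb_lemma V (Subgroup.zpowers x) h hVp hzp
    · rw [Subgroup.normalizer_eq_top_iff.2 hVn]; exact le_top
    · rw [Subgroup.normalizer_eq_top_iff.2 hVn]; trivial
    · intro b hb
      have : Subgroup.zpowers x ≤ Subgroup.centralizer ({h} : Set G) := by
        rw [Subgroup.zpowers_le, Subgroup.mem_centralizer_iff]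
        intro z hz
        rw [Set.mem_singleton_iff] at hz
        rw [hz]; exact hhx.symm
      have h6 := this hb
      rw [Subgroup.mem_centralizer_iff] at h6
      exact (h6 h rfl).symm
    · exact hHord h hh
    · intro v hv hvb
      have hvx : x * v = v * x := hvb x (Subgroup.mem_zpowers x)
      have hvC : v ∈ C := (hCmem v).2 hvx
      exact (hHcomm h hh v hvC (hVord v hv)).symm
  -- the centralizer of `V`
  obtain ⟨K, hK⟩ : ∃ K : Subgroup G, K = Subgroup.centralizer (V : Set G) := ⟨_, rfl⟩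
  have hKn : K.Normal := by rw [hK]; exact Subgroup.normal_centralizer
  have hHK : H ≤ K := by
    intro h hh
    rw [hK, Subgroup.mem_centralizer_iff]
    intro v hv
    exact hHV h hh v hv
  have hPord : ∀ u ∈ (P : Subgroup G), ∃ j : ℕ, orderOf u = p ^ j := by
    intro u hu
    obtain ⟨j, hj⟩ := P.isPGroup' ⟨u, hu⟩
    have h5 : u ^ p ^ j = 1 := congrArg Subtype.val hj
    obtain ⟨i, _, hi⟩ := (Nat.dvd_prime_pow hp.out).1 (orderOf_dvd_of_pow_eq_one h5)
    exact ⟨i, hi⟩
  have hKH : ∀ z ∈ K, (orderOf z).Coprime p → z ∈ H := by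
    intro z hz hzo
    obtain ⟨u, hu, h, hh, rfl⟩ := hfactor z
    have huK : u ∈ K := by
      have : u = (u * h) * h⁻¹ := by group
      rw [this]
      exact K.mul_mem hz (K.inv_mem (hHK hh))
    have huC : u ∈ C := by
      rw [hCmem]
      rw [hK, Subgroup.mem_centralizer_iff] at huK
      exact huK x hxV
    have hcomm : h * u = u * h := hHcomm h hh u huC (hPord u hu)
    have hu1 : u = 1 :=
      eq_one_of_coprime (p := p) (u * h) h u hzo (hHord h hh) (hPord u hu) hcomm hcomm.symm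
    rw [hu1, one_mul]
    exact hh
  have hHn : H.Normal := by
    constructor
    intro h hh g
    apply hKH
    · exact hKn.conj_mem h (hHK hh) g
    · rw [orderOf_conj']
      exact hHord h hh
  exact ⟨P, H, hHn, hcompl.symm⟩

end Cfsg.Agent.S4127
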