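import Cfsg.Statements.S4035
import Cfsg.Agent.Lib.Helper72.Basic

set_option autoImplicit false
open Cfsg

namespace Cfsg.Agent.S4035

open Cfsg.Agent.Lib.Helper72

/-- Let G be a finite group and p a prime such that p divides the size of no conjugacy class of p-regular elements (elements of order prime to p). Then G is the internal direct product of a Sylow p-subgroup P and a normal subgroup H of order prime to p: P is normal, P ⊓ H = 1 and PH = G. -/
theorem result {G : Type*} [Group G] [Finite G] {p : ℕ} [Fact p.Prime]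
    (h : ∀ x : G, (orderOf x).Coprime p → ¬ p ∣ (ConjClasses.mk x).carrier.ncard) (P : Sylow p G) :
    (P : Subgroup G).Normal ∧ ∃ H : Subgroup G, H.Normal ∧ ¬ p ∣ Nat.card H ∧
      (P : Subgroup G) ⊓ H = ⊥ ∧ (P : Subgroup G) ⊔ H = ⊤ := by
  have hp := (Fact.out : p.Prime)
  have h' : ∀ x : G, (orderOf x).Coprime p → ¬ p ∣ (Subgroup.centralizer ({x} : Set G)).index := by
    intro x hx
    rw [← ncard_carrier_eq_index_centralizer]
    exact h x hx
  -- every element fixes a Sylow p-subgroup
  have hfix : ∀ g : G, ∃ Q : Sylow p G, g • Q = Q := by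
    intro g
    obtain ⟨y, u, hg, hy, hu, hcop, hpu⟩ := exists_coprime_part_decomp p g
    have hcomm : u ∈ Subgroup.centralizer ({y} : Set G) := by
      rw [Subgroup.mem_centralizer_singleton_iff]
      obtain ⟨i, rfl⟩ := Subgroup.mem_zpowers_iff.mp hy
      obtain ⟨j, rfl⟩ := Subgroup.mem_zpowers_iff.mp hu
      rw [← zpow_add, ← zpow_add, add_comm]
    obtain ⟨Q, huQ, hQ⟩ := exists_sylow_le_centralizer y u (h' y hcop) hcomm hpu
    refine ⟨Q, ?_⟩
    rw [Sylow.smul_eq_iff_mem_normalizer, hg]
    apply Subgroup.mul_mem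
    · rw [Subgroup.mem_set_normalizer_iff]
      intro x
      constructor
      · intro hx
        have := hQ hx
        rw [Subgroup.mem_centralizer_singleton_iff] at this
        rw [← this, mul_inv_cancel_right]
        exact hx
      · intro hx
        have := hQ hx
        rw [Subgroup.mem_centralizer_singleton_iff] at this
        have h2 : (y * x * y⁻¹) * y = y * (y * x * y⁻¹) := this
        have h3 : y * x * y⁻¹ = x := by
          have h4 : y * x = y * (y * x * y⁻¹) := by rw [← h2]; group
          exact (mul_left_cancel h4).symm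
        rw [h3] at hx
        exact hx
    · exact Subgroup.le_normalizer huQ
  have hsub : Subsingleton (Sylow p G) := subsingleton_of_forall_exists_fixed (G := G) hfix
  have hPn : (P : Subgroup G).Normal := Sylow.normal_of_subsingleton P
  refine ⟨hPn, ?_⟩
  obtain ⟨H, hH⟩ := Subgroup.exists_right_complement'_of_coprime (N := (P : Subgroup G))
    P.card_coprime_index
  have hHcard : Nat.card H = (P : Subgroup G).index := by
    have h1 := hH.card_mul_card
    have h2 := (P : Subgroup G).card_mul_index
    have hpos : 0 < Nat.card (P : Subgroup G) := Nat.card_pos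
    exact Nat.eq_of_mul_eq_mul_left hpos (h1.trans h2.symm)
  have hHp : ¬ p ∣ Nat.card H := by
    rw [hHcard]; exact P.not_dvd_index
  have hcent : ∀ x ∈ H, ∀ a ∈ (P : Subgroup G), a * x = x * a := by
    intro x hx a ha
    have hcop : (orderOf x).Coprime p := by
      have hdvd : orderOf x ∣ Nat.card H := by
        have := orderOf_dvd_natCard (⟨x, hx⟩ : H)
        rwa [Subgroup.orderOf_mk] at this
      exact Nat.Coprime.coprime_dvd_left hdvd ((Nat.Prime.coprime_iff_not_dvd hp).mpr hHp).symm
    obtain ⟨Q, -, hQ⟩ := exists_sylow_le_centralizer x 1 (h' x hcop) (Subgroup.one_mem _)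
      ⟨0, by simp⟩
    have hQP : Q = P := Subsingleton.elim _ _
    rw [hQP] at hQ
    have := hQ ha
    rw [Subgroup.mem_centralizer_singleton_iff] at this
    exact this
  refine ⟨H, ?_, hHp, hH.disjoint.eq_bot, hH.sup_eq_top⟩
  constructor
  intro n hn g
  obtain ⟨⟨a, b⟩, hab⟩ := hH.surjective g
  simp only at hab
  rw [← hab]
  have ha := hcent n hn a a.2
  have : (a : G) * b * n * ((a : G) * b)⁻¹ = (b : G) * n * (b : G)⁻¹ := by
    have h5 := hcent ((b : G) * n * (b : G)⁻¹) (H.mul_mem (H.mul_mem b.2 hn) (H.inv_mem b.2)) a a.2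
    calc (a : G) * b * n * ((a : G) * b)⁻¹ = (a : G) * ((b : G) * n * (b : G)⁻¹) * (a : G)⁻¹ := by group
      _ = ((b : G) * n * (b : G)⁻¹) * (a : G) * (a : G)⁻¹ := by rw [h5]
      _ = _ := by group
  rw [this]
  exact H.mul_mem (H.mul_mem b.2 hn) (H.inv_mem b.2)

end Cfsg.Agent.S4035
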