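import Cfsg.Statements.S4447
import Cfsg.Agent.Lib.Helper80.NormAct
import Cfsg.Agent.Lib.Helper84.Clifford
import Cfsg.Agent.Lib.Helper85.CliffordAbelian

set_option autoImplicit false
open Cfsg

namespace Cfsg.Agent.S4447

open Cfsg.Agent.Lib.Helper80

/-- Inside a finite group Γ let S normalise G and also normalise a normal subgroup N of G, with the order of S coprime to the index of N in G and S or G/N solvable. Then for every S-invariant irreducible character χ of G, the restriction of χ to N has an S-invariant irreducible constituent. -/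
theorem result {Γ : Type*} [Group Γ] [Fintype Γ] (G S N : Subgroup Γ) [Fintype G] [Fintype N] (hnorm : ∀ s ∈ S, ∀ g ∈ G, s * g * s⁻¹ ∈ G) (hNG : N ≤ G) [hNn : (N.subgroupOf G).Normal] (hNS : ∀ s ∈ S, ∀ n ∈ N, s * n * s⁻¹ ∈ N) (hcop : (N.relIndex G).Coprime (Nat.card S)) (hsolv : Group.IsSolvable S ∨ Group.IsSolvable (G ⧸ N.subgroupOf G)) (χ : Cfsg.IrrCharacter G) (hinv : (∀ s ∈ S, ∀ g g' : G, (g' : Γ) = s * g * s⁻¹ → (χ : G → ℂ) g' = (χ : G → ℂ) g)) : ∃ θ : Cfsg.IrrCharacter N, Cfsg.classInner (fun n : N => (χ : G → ℂ) ⟨n, hNG n.2⟩) (θ : N → ℂ) ≠ 0 ∧ (∀ s ∈ S, ∀ g g' : N, (g' : Γ) = s * g * s⁻¹ → (θ : N → ℂ) g' = (θ : N → ℂ) g) := by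
  classical
  -- `G` and `S` normalise `N`
  have hGconj : ∀ g ∈ G, ∀ n ∈ N, g * n * g⁻¹ ∈ N := by
    intro g hg n hn
    have := hNn.conj_mem ⟨n, hNG hn⟩ (Subgroup.mem_subgroupOf.mpr hn) ⟨g, hg⟩
    exact Subgroup.mem_subgroupOf.mp this
  have hG : G ≤ Subgroup.normalizer (N : Set Γ) := by
    intro g hg
    apply mem_normalizer_of_conj_mem (hGconj g hg)
    intro n hn
    have := hGconj g⁻¹ (G.inv_mem hg) n hn
    rwa [inv_inv] at this
  have hS : S ≤ Subgroup.normalizer (N : Set Γ) := by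
    intro s hs
    apply mem_normalizer_of_conj_mem (hNS s hs)
    intro n hn
    have := hNS s⁻¹ (S.inv_mem hs) n hn
    rwa [inv_inv] at this
  set ψG : G →* Equiv.Perm (IrrCharacter N) := (normIrr N).comp (Subgroup.inclusion hG) with hψG
  set ψS : S →* Equiv.Perm (IrrCharacter N) := (normIrr N).comp (Subgroup.inclusion hS) with hψS
  have hχcl : IsClassFunction G (χ : G → ℂ) := Cfsg.Agent.Lib.Helper83.isClassFunction_irr χ
  set χN : N → ℂ := fun n : N => (χ : G → ℂ) ⟨n, hNG n.2⟩ with hχN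
  -- the inner product with `χ_N` is invariant under `G` and `S`
  have hinnerG : ∀ (g : G) (θ : IrrCharacter N),
      classInner χN (ψG g θ : N → ℂ) = classInner χN (θ : N → ℂ) := by
    intro g θ
    set α : MulAut N := (normConj N (Subgroup.inclusion hG g))⁻¹ with hα
    have e1 : χN = fun n => χN (α n) := by
      funext n
      rw [hχN]
      simp only
      have h1 := hχcl ⟨n, hNG n.2⟩ g⁻¹
      have h2 : (g⁻¹ * ⟨n, hNG n.2⟩ * g⁻¹⁻¹ : G) = ⟨α n, hNG (α n).2⟩ := by
        apply Subtype.ext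
        rw [hα, normConj_inv_apply]
        simp
      rw [← h2, h1]
    have e2 : (ψG g θ : N → ℂ) = fun n => (θ : N → ℂ) (α n) := rfl
    calc classInner χN (ψG g θ : N → ℂ)
        = classInner (fun n => χN (α n)) (fun n => (θ : N → ℂ) (α n)) := by rw [e2, ← e1]
      _ = classInner χN (θ : N → ℂ) := classInner_comp_mulAut α χN _
  have hinnerS : ∀ (s : S) (θ : IrrCharacter N),
      classInner χN (ψS s θ : N → ℂ) = classInner χN (θ : N → ℂ) := by
    intro s θ
    set α : MulAut N := (normConj N (Subgroup.inclusion hS s))⁻¹ with hα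
    have e1 : χN = fun n => χN (α n) := by
      funext n
      rw [hχN]
      simp only
      symm
      apply hinv s⁻¹ (S.inv_mem s.2)
      rw [hα, normConj_inv_apply, inv_inv]
      rfl
    have e2 : (ψS s θ : N → ℂ) = fun n => (θ : N → ℂ) (α n) := rfl
    calc classInner χN (ψS s θ : N → ℂ)
        = classInner (fun n => χN (α n)) (fun n => (θ : N → ℂ) (α n)) := by rw [e2, ← e1]
      _ = classInner χN (θ : N → ℂ) := classInner_comp_mulAut α χN _
  -- an irreducible constituent `θ₀` of `χ_N`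
  have hχc : IsCharacter G (χ : G → ℂ) := Cfsg.Agent.Lib.Helper83.isCharacter_of_irr χ.2
  have hχNc : IsCharacter N χN := by
    have := Cfsg.Agent.Lib.Helper83.isCharacter_comp_hom (Subgroup.inclusion hNG) hχc
    exact this
  have hχN1 : χN 1 ≠ 0 := by
    have : χN 1 = (χ : G → ℂ) 1 := rfl
    rw [this]
    exact Cfsg.Agent.Lib.Helper83.irr_degree_ne_zero χ
  obtain ⟨θ₀f, hθ₀irr, hθ₀⟩ := Cfsg.Agent.Lib.Helper85.exists_irr_constituent hχNc hχN1
  set θ₀ : IrrCharacter N := ⟨θ₀f, hθ₀irr⟩ with hθ₀def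
  -- the two permutation groups
  set Khat : Subgroup (Equiv.Perm (IrrCharacter N)) := ψG.range with hKhat
  set Ahat : Subgroup (Equiv.Perm (IrrCharacter N)) := ψS.range with hAhat
  have hAK : Ahat ≤ Subgroup.normalizer (Khat : Set (Equiv.Perm (IrrCharacter N))) := by
    apply le_normalizer_of_conj_mem
    rintro _ ⟨s, rfl⟩ _ ⟨g, rfl⟩
    refine ⟨⟨s * g * s⁻¹, hnorm s s.2 g g.2⟩, ?_⟩
    rw [hψG, hψS]
    simp only [MonoidHom.comp_apply]
    rw [← map_inv, ← map_mul, ← map_mul]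
    congr 1
  have hkerG : N.subgroupOf G ≤ ψG.ker := by
    intro n hn
    rw [MonoidHom.mem_ker, hψG, MonoidHom.comp_apply]
    exact normIrr_of_mem N _ (Subgroup.mem_subgroupOf.mp hn)
  have hcardK : Nat.card Khat ∣ N.relIndex G := by
    rw [hKhat, ← Subgroup.index_ker]
    exact Subgroup.index_dvd_of_le hkerG
  have hcardA : Nat.card Ahat ∣ Nat.card S := by
    rw [hAhat, ← Subgroup.index_ker]
    exact Subgroup.index_dvd_card _
  have hcopAK : (Nat.card Ahat).Coprime (Nat.card Khat) :=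
    Nat.Coprime.coprime_dvd_left hcardA (Nat.Coprime.coprime_dvd_right hcardK hcop.symm)
  have hsolvAK : Group.IsSolvable Ahat ∨ Group.IsSolvable Khat := by
    rcases hsolv with h | h
    · left
      exact Group.isSolvable_of_surjective ψS.rangeRestrict_surjective
    · right
      have hker : N.subgroupOf G ≤ ψG.rangeRestrict.ker := by
        intro n hn
        rw [MonoidHom.mem_ker]
        apply Subtype.ext
        exact hkerG hn
      exact Group.isSolvable_of_surjective
        (QuotientGroup.lift_surjective_of_surjective _ ψG.rangeRestrict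
          ψG.rangeRestrict_surjective hker)
  -- the `G`-orbit of `θ₀` is `S`-stable, by Clifford's theorem
  have horbit : ∀ a ∈ Ahat, ∃ k ∈ Khat, k • θ₀ = a • θ₀ := by
    rintro _ ⟨s, rfl⟩
    let e : N.subgroupOf G ≃* N := Subgroup.subgroupOfEquivOfLe hNG
    have : Fintype (N.subgroupOf G) := Fintype.ofFinite _
    have hcomp : ∀ (a b : N → ℂ), classInner (fun x : N.subgroupOf G => a (e x))
        (fun x : N.subgroupOf G => b (e x)) = classInner a b := by
      intro a b
      rw [classInner, classInner, Nat.card_congr e.toEquiv]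
      congr 1
      exact Equiv.sum_comp e.toEquiv (fun k => a k * (starRingEnd ℂ) (b k))
    have hres : (fun n : N.subgroupOf G => (χ : G → ℂ) n) = fun x => χN (e x) := by
      funext x
      rfl
    have h1 : classInner (fun n : N.subgroupOf G => (χ : G → ℂ) n)
        (fun x => (θ₀ : N → ℂ) (e x)) ≠ 0 := by
      rw [hres, hcomp]
      exact hθ₀
    have h2 : classInner (fun n : N.subgroupOf G => (χ : G → ℂ) n)
        (fun x => (ψS s θ₀ : N → ℂ) (e x)) ≠ 0 := by
      rw [hres, hcomp, hinnerS]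
      exact hθ₀
    obtain ⟨g, hg⟩ := Cfsg.Agent.Lib.Helper84.clifford_exists_conj (N.subgroupOf G) χ.2
      (Cfsg.Agent.Lib.Helper84.isIrrCharacter_comp_mulEquiv e θ₀.2)
      (Cfsg.Agent.Lib.Helper84.isIrrCharacter_comp_mulEquiv e (ψS s θ₀).2) h1 h2
    refine ⟨ψG g⁻¹, ⟨g⁻¹, rfl⟩, ?_⟩
    apply Subtype.ext
    funext n
    have h3 := congrFun hg (e.symm n)
    rw [Cfsg.Agent.Lib.Helper84.conjFun_apply] at h3
    simp only [MulEquiv.apply_symm_apply] at h3
    rw [Equiv.Perm.smul_def, Equiv.Perm.smul_def, ← h3, hψG, MonoidHom.comp_apply]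
    apply normIrr_apply
    simp
    rfl
  obtain ⟨k, hk, hfix⟩ := exists_fixed_of_orbit_stable hAK hcopAK hsolvAK θ₀ horbit
  obtain ⟨g, rfl⟩ := hk
  refine ⟨ψG g θ₀, ?_, ?_⟩
  · rw [hinnerG]
    exact hθ₀
  · intro s hs n n' hn'
    have h1 := hfix (ψS ⟨s⁻¹, S.inv_mem hs⟩) ⟨_, rfl⟩
    rw [Equiv.Perm.smul_def, Equiv.Perm.smul_def] at h1
    have h2 : ((ψS ⟨s⁻¹, S.inv_mem hs⟩) ((ψG g) θ₀) : N → ℂ) n = ((ψG g) θ₀ : N → ℂ) n :=
      congrArg (fun θ : IrrCharacter N => (θ : N → ℂ) n) h1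
    rw [← h2, hψS, MonoidHom.comp_apply]
    symm
    apply normIrr_apply
    rw [hn']
    show s * (n : Γ) * s⁻¹ = (s⁻¹)⁻¹ * (n : Γ) * s⁻¹
    rw [inv_inv]

end Cfsg.Agent.S4447
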