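import Cfsg.Statements.S0169
import Mathlib
import Cfsg.Agent.Lib.Helper85.CliffordCorr
import Cfsg.Agent.Lib.Helper85.ScalarIndex
import Cfsg.Agent.Lib.Helper04.CharScalar

set_option autoImplicit false
open Cfsg

namespace Cfsg.Agent.S0169

open Cfsg.Agent.Lib.Helper83 Cfsg.Agent.Lib.Helper85 Module

/-- Itô's Theorem on character degrees: the degree of an irreducible complex representation of a finite group divides the index of any abelian normal subgroup. -/
theorem result {G : Type*} [Group G] [Finite G] {V : Type*} [AddCommGroup V] [Module ℂ V] [FiniteDimensional ℂ V] (ρ : Representation ℂ G V) [ρ.IsIrreducible] (H : Subgroup G) [H.Normal] (hH : ∀ a ∈ H, ∀ b ∈ H, a * b = b * a) : Module.finrank ℂ V ∣ H.index := by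
  classical
  have : Fintype G := Fintype.ofFinite G
  have : Fintype H := Fintype.ofFinite H
  have hN : H.Normal := inferInstance
  have hθ : IsIrrCharacter G ρ.character := isIrrCharacter_of_rep ρ inferInstance
  have hθc := isCharacter_of_irr hθ
  have hθ1 : ρ.character 1 = (finrank ℂ V : ℂ) := Representation.char_one ρ
  have hθH := isCharacter_restrict H hθc
  have h1 : (fun n : H => ρ.character n) 1 ≠ 0 := irr_degree_ne_zero ⟨_, hθ⟩
  obtain ⟨χ, hχ, hconst⟩ := exists_irr_constituent hθH h1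
  obtain ⟨ψ, hψ, ⟨f, hf0, hψH⟩, hind⟩ := exists_irr_conjStab hN hθ hχ hconst
  have hχc := isCharacter_of_irr hχ
  have hNT : H ≤ conjStab hN χ := le_conjStab hN (char_isClassFunction hχc)
  obtain ⟨m, σ, hσirr, hσ⟩ := hψ
  have hσ1 : ψ 1 = (m : ℂ) := by
    rw [← hσ, Representation.char_one, Module.finrank_fin_fun]
  have hdeg : finrank ℂ V = (conjStab hN χ).index * m := by
    have h0 := congrFun hind 1
    rw [indFun_apply_one, hθ1, hσ1] at h0
    exact_mod_cast h0
  have hcomm : ∀ a b : H, a * b = b * a := fun a b => Subtype.ext (hH a a.2 b b.2)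
  have hχ1 := irr_apply_one_of_comm hcomm hχ
  have hf : f = (m : ℂ) := by
    have h0 := congrFun hψH 1
    simp only [Pi.smul_apply, smul_eq_mul, hχ1, mul_one] at h0
    rw [← h0, ← hσ1]
    rfl
  have hscal : ∀ z ∈ H.subgroupOf (conjStab hN χ), ∃ c : ℂ, σ z = c • (LinearMap.id : (Fin m → ℂ) →ₗ[ℂ] _) := by
    intro z hz
    apply (Cfsg.Agent.Lib.Helper04.norm_char_eq_iff σ z).mp
    have hz' : (z : G) ∈ H := Subgroup.mem_subgroupOf.mp hz
    have hval := congrFun hψH ⟨z, hz'⟩
    simp only [Pi.smul_apply, smul_eq_mul] at hval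
    have hnorm : ‖χ ⟨z, hz'⟩‖ = 1 := by
      have hpow : (linCharHom hχc hχ1) ((⟨z, hz'⟩ : H) ^ (Nat.card H)) =
          (linCharHom hχc hχ1 ⟨z, hz'⟩) ^ (Nat.card H) := map_pow _ _ _
      rw [pow_card_eq_one', map_one] at hpow
      exact Complex.norm_eq_one_of_pow_eq_one hpow.symm Nat.card_pos.ne'
    rw [hσ, Module.finrank_fin_fun]
    have hzz : ψ z = f * χ ⟨z, hz'⟩ := hval
    rw [hzz, norm_mul, hnorm, mul_one, hf, Complex.norm_natCast]
  have := hσirr
  have hdvd := finrank_dvd_index_of_scalar σ (H.subgroupOf (conjStab hN χ)) hscal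
  rw [Module.finrank_fin_fun] at hdvd
  have hidx : (H.subgroupOf (conjStab hN χ)).index * (conjStab hN χ).index = H.index := Subgroup.relIndex_mul_index hNT
  rw [hdeg, ← hidx, mul_comm]
  exact Nat.mul_dvd_mul_right hdvd _

end Cfsg.Agent.S0169
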