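import Cfsg.Statements.S0765
import Cfsg.Agent.Lib.Helper18.SympTrans

set_option autoImplicit false
open Cfsg

namespace Cfsg.Agent.S0765

open Cfsg.Agent.Lib.Helper18 Matrix

section
variable {F : Type*} [Field F] (m : ℕ)

/-- vectors whose first `j` coordinate pairs vanish -/
def Wj (j : ℕ) : Submodule F (Fin m ⊕ Fin m → F) where
  carrier := {x | ∀ i : Fin m, (i : ℕ) < j → x (Sum.inl i) = 0 ∧ x (Sum.inr i) = 0}
  add_mem' := by
    intro x y hx hy i hi
    simp only [Pi.add_apply, (hx i hi).1, (hx i hi).2, (hy i hi).1, (hy i hi).2, add_zero, and_self]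
  zero_mem' := by
    intro i _
    simp
  smul_mem' := by
    intro c x hx i hi
    simp only [Pi.smul_apply, (hx i hi).1, (hx i hi).2, smul_zero, and_self]

theorem mem_Wj (j : ℕ) (x : Fin m ⊕ Fin m → F) :
    x ∈ Wj (F := F) m j ↔ ∀ i : Fin m, (i : ℕ) < j → x (Sum.inl i) = 0 ∧ x (Sum.inr i) = 0 := Iff.rfl

theorem mem_Wj_iff_sf (j : ℕ) (x : Fin m ⊕ Fin m → F) :
    x ∈ Wj (F := F) m j ↔ ∀ i : Fin m, (i : ℕ) < j →
      Cfsg.sympForm m F x (Pi.single (Sum.inl i) 1) = 0 ∧
      Cfsg.sympForm m F x (Pi.single (Sum.inr i) 1) = 0 := by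
  rw [mem_Wj]
  refine forall_congr' fun i => imp_congr_right fun _ => ?_
  rw [sf_single_inl, sf_single_inr, neg_eq_zero]
  exact and_comm

theorem single_inl_mem_Wj (j : ℕ) (i0 : Fin m) (h : j ≤ (i0 : ℕ)) :
    (Pi.single (Sum.inl i0) 1 : Fin m ⊕ Fin m → F) ∈ Wj (F := F) m j := by
  classical
  intro i hi
  have hne : i ≠ i0 := by
    intro h'; rw [h'] at hi; omega
  simp [Pi.single_apply, hne]

theorem single_inr_mem_Wj (j : ℕ) (i0 : Fin m) (h : j ≤ (i0 : ℕ)) :
    (Pi.single (Sum.inr i0) 1 : Fin m ⊕ Fin m → F) ∈ Wj (F := F) m j := by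
  classical
  intro i hi
  have hne : i ≠ i0 := by
    intro h'; rw [h'] at hi; omega
  simp [Pi.single_apply, hne]

theorem Wj_nondeg (j : ℕ) : ∀ x ∈ Wj (F := F) m j, x ≠ 0 →
    ∃ y ∈ Wj (F := F) m j, Cfsg.sympForm m F x y ≠ 0 := by
  classical
  intro x hx hx0
  have : ∃ k, x k ≠ 0 := by
    by_contra hcon
    push Not at hcon
    exact hx0 (funext hcon)
  obtain ⟨k | k, hk⟩ := this
  · have hjk : j ≤ (k : ℕ) := by
      by_contra hlt
      exact hk (hx k (not_le.mp hlt)).1
    exact ⟨Pi.single (Sum.inr k) 1, single_inr_mem_Wj m j k hjk,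
      by rw [sf_single_inr]; exact neg_ne_zero.mpr hk⟩
  · have hjk : j ≤ (k : ℕ) := by
      by_contra hlt
      exact hk (hx k (not_le.mp hlt)).2
    exact ⟨Pi.single (Sum.inl k) 1, single_inl_mem_Wj m j k hjk,
      by rw [sf_single_inl]; exact hk⟩

theorem main_claim : ∀ (d j : ℕ), j + d = m → ∀ A : Matrix.symplecticGroup (Fin m) F,
    (∀ i : Fin m, (i : ℕ) < j →
      (A : Matrix (Fin m ⊕ Fin m) (Fin m ⊕ Fin m) F) *ᵥ (Pi.single (Sum.inl i) 1) = Pi.single (Sum.inl i) 1 ∧
      (A : Matrix (Fin m ⊕ Fin m) (Fin m ⊕ Fin m) F) *ᵥ (Pi.single (Sum.inr i) 1) = Pi.single (Sum.inr i) 1) →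
    A ∈ Subgroup.closure {A : Matrix.symplecticGroup (Fin m) F | ∃ (w : Fin m ⊕ Fin m → F) (c : F),
      (A : Matrix (Fin m ⊕ Fin m) (Fin m ⊕ Fin m) F) = Cfsg.sympTransvection m w c} := by
  classical
  intro d
  induction d with
  | zero =>
    intro j hj A hA
    have hA1 : A = 1 := by
      apply Subtype.ext
      ext r k
      have hcol : (A : Matrix (Fin m ⊕ Fin m) (Fin m ⊕ Fin m) F) *ᵥ (Pi.single k 1) = Pi.single k 1 := by
        rcases k with i | i
        · exact (hA i (by omega)).1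
        · exact (hA i (by omega)).2
      have := congrFun hcol r
      rw [Matrix.mulVec_single_one] at this
      rw [val_one, Matrix.one_apply]
      simp only [Matrix.col_apply] at this
      rw [this, Pi.single_apply]
    rw [hA1]
    exact Subgroup.one_mem _
  | succ d ih =>
    intro j hj A hA
    set i0 : Fin m := ⟨j, by omega⟩ with hi0
    set u : Fin m ⊕ Fin m → F := Pi.single (Sum.inr i0) 1 with hu
    set v : Fin m ⊕ Fin m → F := Pi.single (Sum.inl i0) 1 with hv
    have huv : Cfsg.sympForm m F u v = 1 := by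
      rw [hv, sf_single_inl, hu]; simp
    have huW : u ∈ Wj (F := F) m j := single_inr_mem_Wj m j i0 (le_refl _)
    have hvW : v ∈ Wj (F := F) m j := single_inl_mem_Wj m j i0 (le_refl _)
    have hmapW : ∀ x ∈ Wj (F := F) m j,
        (A : Matrix (Fin m ⊕ Fin m) (Fin m ⊕ Fin m) F) *ᵥ x ∈ Wj (F := F) m j := by
      intro x hx
      rw [mem_Wj_iff_sf] at hx ⊢
      intro i hi
      constructor
      · conv_lhs => rw [← (hA i hi).1]
        rw [sf_mulVec_of_mem m _ A.2]
        exact (hx i hi).1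
      · conv_lhs => rw [← (hA i hi).2]
        rw [sf_mulVec_of_mem m _ A.2]
        exact (hx i hi).2
    have hAuv : Cfsg.sympForm m F ((A : Matrix (Fin m ⊕ Fin m) (Fin m ⊕ Fin m) F) *ᵥ u)
        ((A : Matrix (Fin m ⊕ Fin m) (Fin m ⊕ Fin m) F) *ᵥ v) = 1 := by
      rw [sf_mulVec_of_mem m _ A.2, huv]
    obtain ⟨B, hB, hBu, hBv⟩ := reach2 m (Wj (F := F) m j) (Wj_nondeg m j) _ _ u v
      (hmapW u huW) (hmapW v hvW) huW hvW hAuv huv
    -- B fixes the earlier basis vectors
    have hBfix : ∀ i : Fin m, (i : ℕ) < j →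
        (B : Matrix (Fin m ⊕ Fin m) (Fin m ⊕ Fin m) F) *ᵥ (Pi.single (Sum.inl i) 1) = Pi.single (Sum.inl i) 1 ∧
        (B : Matrix (Fin m ⊕ Fin m) (Fin m ⊕ Fin m) F) *ᵥ (Pi.single (Sum.inr i) 1) = Pi.single (Sum.inr i) 1 := by
      intro i hi
      constructor
      · apply TW_fixes m _ B hB
        intro w hw
        rw [sf_swap, sf_single_inl, (hw i hi).2, neg_zero]
      · apply TW_fixes m _ B hB
        intro w hw
        rw [sf_swap, sf_single_inr, (hw i hi).1, neg_zero, neg_zero]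
    have hC : B * A ∈ Subgroup.closure {A : Matrix.symplecticGroup (Fin m) F | ∃ (w : Fin m ⊕ Fin m → F) (c : F),
        (A : Matrix (Fin m ⊕ Fin m) (Fin m ⊕ Fin m) F) = Cfsg.sympTransvection m w c} := by
      apply ih (j + 1) (by omega)
      intro i hi
      rw [val_mul, ← Matrix.mulVec_mulVec, ← Matrix.mulVec_mulVec]
      by_cases hij : (i : ℕ) < j
      · rw [(hA i hij).1, (hA i hij).2]
        exact hBfix i hij
      · have hii0 : i = i0 := Fin.ext (by simp only [hi0]; omega)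
        rw [hii0]
        exact ⟨hBv, hBu⟩
    have hBmem := TW_le_closure m _ hB
    have : A = B⁻¹ * (B * A) := by group
    rw [this]
    exact Subgroup.mul_mem _ (Subgroup.inv_mem _ hBmem) hC

end

/-- Generation of the symplectic group by symplectic transvections: the subgroup of Sp_2m(F) generated by all matrices of maps x ↦ x + c f(x, w) w is the whole group. -/
theorem result {F : Type*} [Field F] (m : ℕ) : Subgroup.closure {A : Matrix.symplecticGroup (Fin m) F | ∃ (w : Fin m ⊕ Fin m → F) (c : F), (A : Matrix (Fin m ⊕ Fin m) (Fin m ⊕ Fin m) F) = Cfsg.sympTransvection m w c} = ⊤ := by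
  rw [eq_top_iff]
  intro A _
  exact main_claim m m 0 (by omega) A (fun i hi => absurd hi (Nat.not_lt_zero _))

end Cfsg.Agent.S0765
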