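import Cfsg.Statements.S2568
import Cfsg.Agent.Lib.Helper49.PrimeOrderGL

set_option autoImplicit false
open Cfsg

namespace Cfsg.Agent.S2568

open Polynomial UniqueFactorizationMonoid Cfsg.Agent.Lib.Helper49

theorem factorData {F : Type*} [Field F] [Fintype F] [DecidableEq F] {p f : ℕ} [Fact p.Prime]
    (hK : Fintype.card F = p ^ f) (r i : ℕ) [Fact r.Prime] (hrp : r ≠ p)
    (hi : i = orderOf ((p ^ f : ℕ) : ZMod r)) :
    FactorData F r i (normalizedFactors (cyclotomic r F)).toFinset := by
  have hr : r.Prime := Fact.out
  have hp : p.Prime := Fact.out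
  have hn : p.Coprime r := (Nat.coprime_primes hp hr).mpr (Ne.symm hrp)
  haveI : CharP F p := charP_of_card_eq_prime_pow hK
  have hrF : (r : F) ≠ 0 := by
    intro h0
    rw [CharP.cast_eq_zero_iff F p] at h0
    exact hrp ((Nat.prime_dvd_prime_iff_eq hp hr).mp h0).symm
  haveI : NeZero (r : F) := ⟨hrF⟩
  have hord : orderOf (ZMod.unitOfCoprime _ (hn.pow_left f)) = i := by
    rw [hi, ← orderOf_units, ZMod.coe_unitOfCoprime]
  have hΦ0 : cyclotomic r F ≠ 0 := cyclotomic_ne_zero r F
  have hmonic : ∀ P ∈ normalizedFactors (cyclotomic r F), P.Monic := by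
    intro P hP
    rw [← normalize_normalized_factor P hP]
    exact monic_normalize (irreducible_of_normalized_factor P hP).ne_zero
  have hnd : (normalizedFactors (cyclotomic r F)).Nodup :=
    (squarefree_iff_nodup_normalizedFactors hΦ0).mp (squarefree_cyclotomic r F)
  have hprod : ∏ P ∈ (normalizedFactors (cyclotomic r F)).toFinset, P = cyclotomic r F := by
    rw [Finset.prod_eq_multiset_prod, Multiset.toFinset_val, Multiset.dedup_eq_self.mpr hnd,
      Multiset.map_id']
    apply eq_of_monic_of_associated _ (cyclotomic.monic r F) (prod_normalizedFactors hΦ0)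
    have := monic_multiset_prod_of_monic (normalizedFactors (cyclotomic r F)) id hmonic
    rwa [Multiset.map_id] at this
  refine ⟨?_, ?_, ?_, ?_, ?_, ?_, ?_⟩
  · rw [← hord]
    exact orderOf_pos _
  · intro P hP
    exact irreducible_of_normalized_factor P (Multiset.mem_toFinset.mp hP)
  · intro P hP
    rw [natDegree_of_mem_normalizedFactors_cyclotomic hK hn (Multiset.mem_toFinset.mp hP), hord]
  · intro P hP P' hP' hne
    have hP1 := Multiset.mem_toFinset.mp hP
    have hP'1 := Multiset.mem_toFinset.mp hP'
    rw [(irreducible_of_normalized_factor P hP1).coprime_iff_not_dvd]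
    intro hdvd
    apply hne
    have hass := (irreducible_of_normalized_factor P hP1).associated_of_dvd
      (irreducible_of_normalized_factor P' hP'1) hdvd
    rw [← normalize_normalized_factor P hP1, ← normalize_normalized_factor P' hP'1]
    exact normalize_eq_normalize hass.dvd hass.symm.dvd
  · intro P hP
    have hP1 := Multiset.mem_toFinset.mp hP
    rw [irreducible_X_sub_one.coprime_iff_not_dvd]
    intro hdvd
    have h1 : (X - C (1 : F)) ∣ cyclotomic r F := by
      rw [C_1]
      exact hdvd.trans (dvd_of_mem_normalizedFactors hP1)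
    rw [dvd_iff_isRoot, IsRoot.def, eval_one_cyclotomic_prime] at h1
    exact hrF h1
  · rw [hprod, mul_comm]
    exact cyclotomic_prime_mul_X_sub_one F r
  · have := (separable_X_pow_sub_C (1 : F) hrF one_ne_zero).squarefree
    rwa [C_1] at this

/-- Number of conjugacy classes of elements of a given prime order r, coprime to the characteristic, in GL_n(q): if i is the multiplicative order of q modulo r and t = (r − 1)/i, the classes correspond to the non-zero t-tuples of natural numbers (a_1, …, a_t) with i(a_1 + ⋯ + a_t) ≤ n (a_j is the multiplicity of the j-th Frobenius orbit of nontrivial r-th roots of unity among the eigenvalues), so there are exactly C(⌊n/i⌋ + t, t) − 1 of them. -/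
theorem result {F : Type*} [Field F] [Fintype F] {p q : ℕ} [Fact p.Prime] [CharP F p] (hF : Fintype.card F = q) (n r i t : ℕ) (hr : r.Prime) (hrp : r ≠ p) (hi : i = orderOf (q : ZMod r)) (ht : t * i = r - 1) : Nat.card {C : ConjClasses (GL (Fin n) F) // ∃ g : GL (Fin n) F, ConjClasses.mk g = C ∧ orderOf g = r} = Nat.choose (n / i + t) t - 1 := by
  classical
  haveI : Fact r.Prime := ⟨hr⟩
  obtain ⟨f, _, hqf⟩ := FiniteField.card F p
  rw [hF] at hqf
  have hK : Fintype.card F = p ^ (f : ℕ) := by rw [hF, hqf]
  have hi' : i = orderOf ((p ^ (f : ℕ) : ℕ) : ZMod r) := by rw [hi, hqf]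
  have D := factorData hK r i hrp hi'
  have hp : p.Prime := Fact.out
  have hn : p.Coprime r := (Nat.coprime_primes hp hr).mpr (Ne.symm hrp)
  have hcard : (normalizedFactors (cyclotomic r F)).toFinset.card = t := by
    rw [normalizedFactors_cyclotomic_card hK hn, Nat.totient_prime hr]
    have hord : orderOf (ZMod.unitOfCoprime _ (hn.pow_left (f : ℕ))) = i := by
      rw [hi', ← orderOf_units, ZMod.coe_unitOfCoprime]
    rw [hord, ← ht]
    exact Nat.mul_div_cancel _ D.hi
  rw [D.card_classes hr n, hcard]

end Cfsg.Agent.S2568
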