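import Cfsg.Statements.S4444
import Cfsg.Agent.Lib.Helper04.GlaubInd

set_option autoImplicit false
open Cfsg

namespace Cfsg.Agent.S4444

/-- The Glauberman correspondence for a p-group of operators. Inside a finite group Γ let S normalise G with the orders of G and S coprime, S a p-group, and let C = G ⊓ C(S) be the fixed points. Call an irreducible character χ of G S-invariant when χ(s g s⁻¹) = χ(g) for s ∈ S, g ∈ G. Then: (i) for every S-invariant χ there is exactly one irreducible character β of C whose multiplicity [χ_C, β] in the restriction of χ is not divisible by p; (ii) that multiplicity is ≡ 1 or ≡ −1 (mod p); (iii) distinct S-invariant χ give distinct β; (iv) every irreducible character of C arises in this way. So χ ↦ β is a bijection from the S-invariant irreducible characters of G onto the irreducible characters of C. -/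
theorem result {Γ : Type*} [Group Γ] [Fintype Γ] (G S : Subgroup Γ) [Fintype G] (hnorm : ∀ s ∈ S, ∀ g ∈ G, s * g * s⁻¹ ∈ G) (hcop : (Nat.card G).Coprime (Nat.card S)) (p : ℕ) (hp : p.Prime) (hS : IsPGroup p S) (C : Subgroup Γ) [Fintype C] (hC : C = G ⊓ Subgroup.centralizer (S : Set Γ)) (hCG : C ≤ G) : (∀ χ : Cfsg.IrrCharacter G, (∀ s ∈ S, ∀ g g' : G, (g' : Γ) = s * g * s⁻¹ → (χ : G → ℂ) g' = (χ : G → ℂ) g) → ∃! β : Cfsg.IrrCharacter C, ∃ m : ℕ, Cfsg.classInner (fun c : C => (χ : G → ℂ) ⟨c, hCG c.2⟩) (β : C → ℂ) = (m : ℂ) ∧ ¬ p ∣ m) ∧ (∀ χ : Cfsg.IrrCharacter G, (∀ s ∈ S, ∀ g g' : G, (g' : Γ) = s * g * s⁻¹ → (χ : G → ℂ) g' = (χ : G → ℂ) g) → ∀ β : Cfsg.IrrCharacter C, ∀ m : ℕ, Cfsg.classInner (fun c : C => (χ : G → ℂ) ⟨c, hCG c.2⟩) (β : C → ℂ) = (m : ℂ) → ¬ p ∣ m → ((m : ℤ) ≡ 1 [ZMOD p] ∨ (m : ℤ) ≡ -1 [ZMOD p])) ∧ (∀ χ χ' : Cfsg.IrrCharacter G, (∀ s ∈ S, ∀ g g'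 : G, (g' : Γ) = s * g * s⁻¹ → (χ : G → ℂ) g' = (χ : G → ℂ) g) → (∀ s ∈ S, ∀ g g' : G, (g' : Γ) = s * g * s⁻¹ → (χ' : G → ℂ) g' = (χ' : G → ℂ) g) → ∀ β : Cfsg.IrrCharacter C, ∀ m m' : ℕ, Cfsg.classInner (fun c : C => (χ : G → ℂ) ⟨c, hCG c.2⟩) (β : C → ℂ) = (m : ℂ) → ¬ p ∣ m → Cfsg.classInner (fun c : C => (χ' : G → ℂ) ⟨c, hCG c.2⟩) (β : C → ℂ) = (m' : ℂ) → ¬ p ∣ m' → χ = χ') ∧ (∀ β : Cfsg.IrrCharacter C, ∃ χ : Cfsg.IrrCharacter G, (∀ s ∈ S, ∀ g g' : G, (g' : Γ) = s * g * s⁻¹ → (χ : G → ℂ) g' = (χ : G → ℂ) g) ∧ ∃ m : ℕ, Cfsg.classInner (fun c : C => (χ : G → ℂ) ⟨c, hCG c.2⟩) (β : C → ℂ) = (m : ℂ) ∧ ¬ p ∣ m) := by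
  classical
  have _ : Fact p.Prime := ⟨hp⟩
  -- the order of `S`
  obtain ⟨k, hk⟩ := hS.exists_card_eq
  have hrel : (⊥ : Subgroup Γ).relIndex S = p ^ k := by
    rw [Subgroup.relIndex_bot_left, hk]
  have hcopk : 0 < k → (Nat.card G).Coprime p := by
    intro hk0
    rw [hk] at hcop
    exact (Nat.coprime_pow_right_iff hk0 _ _).mp hcop
  obtain ⟨f, hf, hc⟩ := Cfsg.Agent.Lib.Helper04.glaub_rel p k G S ⊥ C hCG hnorm hcopk bot_le
    (fun s _ t ht => by rw [Subgroup.mem_bot] at ht ⊢; rw [ht]; group)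
    (fun t ht g _ => by rw [Subgroup.mem_bot] at ht; rw [ht, one_mul, mul_one]) hrel hC
  refine ⟨?_, ?_, ?_, ?_⟩
  · intro χ hχ
    obtain ⟨m, hm1, hm2⟩ := hc ⟨χ, hχ⟩ (f ⟨χ, hχ⟩)
    refine ⟨f ⟨χ, hχ⟩, ⟨m, hm1, ?_⟩, ?_⟩
    · rcases hm2 with ⟨_, h⟩ | ⟨h, _⟩
      · exact Cfsg.Agent.Lib.Helper04.not_dvd_of_pm_one h
      · exact absurd rfl h
    · rintro β ⟨m', hm'1, hm'2⟩
      obtain ⟨m'', hm''1, hm''2⟩ := hc ⟨χ, hχ⟩ β
      have hmm : m'' = m' := by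
        have : (m'' : ℂ) = m' := by rw [← hm''1, ← hm'1]
        exact_mod_cast this
      rcases hm''2 with ⟨h, _⟩ | ⟨_, h⟩
      · exact h
      · rw [hmm] at h; exact absurd h hm'2
  · intro χ hχ β m hm1 hm2
    obtain ⟨m'', hm''1, hm''2⟩ := hc ⟨χ, hχ⟩ β
    have hmm : m'' = m := by
      have : (m'' : ℂ) = m := by rw [← hm''1, ← hm1]
      exact_mod_cast this
    rcases hm''2 with ⟨_, h⟩ | ⟨_, h⟩
    · rw [hmm] at h; exact h
    · rw [hmm] at h; exact absurd h hm2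
  · intro χ χ' hχ hχ' β m m' hm1 hm2 hm'1 hm'2
    have key : ∀ (θ : Cfsg.IrrCharacter G) (hθ : Cfsg.Agent.Lib.Helper04.SetInv G S (θ : G → ℂ))
        (n : ℕ), Cfsg.classInner (fun c : C => (θ : G → ℂ) ⟨c, hCG c.2⟩) (β : C → ℂ) = (n : ℂ) →
        ¬ p ∣ n → β = f ⟨θ, hθ⟩ := by
      intro θ hθ n hn1 hn2
      obtain ⟨m'', hm''1, hm''2⟩ := hc ⟨θ, hθ⟩ β
      have hmm : m'' = n := by
        have : (m'' : ℂ) = n := by rw [← hm''1, ← hn1]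
        exact_mod_cast this
      rcases hm''2 with ⟨h, _⟩ | ⟨_, h⟩
      · exact h
      · rw [hmm] at h; exact absurd h hn2
    have h1 := key χ hχ m hm1 hm2
    have h2 := key χ' hχ' m' hm'1 hm'2
    have h3 := hf.1 (h1.symm.trans h2)
    exact congrArg Subtype.val h3
  · intro β
    obtain ⟨χ, hχ⟩ := hf.2 β
    obtain ⟨m, hm1, hm2⟩ := hc χ β
    refine ⟨χ.1, χ.2, m, hm1, ?_⟩
    rcases hm2 with ⟨_, h⟩ | ⟨h, _⟩
    · exact Cfsg.Agent.Lib.Helper04.not_dvd_of_pm_one h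
    · exact absurd hχ.symm h

end Cfsg.Agent.S4444
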