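import Cfsg.Statements.S0051
import Cfsg.Agent.Lib.Helper96.Gaschutz

set_option autoImplicit false
open Cfsg

namespace Cfsg.Agent.S0051

open Cfsg.Agent.Lib.Helper96 in
/-- Gaschütz's Theorem, existence: an abelian normal subgroup K that is complemented inside a subgroup U ≥ K whose index is coprime to the order of K is complemented in the whole group. -/
theorem result {G : Type*} [Group G] [Finite G] (K U : Subgroup G) [K.Normal] [IsMulCommutative K]
    (hKU : K ≤ U) (hcop : (Nat.card K).Coprime U.index)
    (A : Subgroup G) (hAU : A ≤ U) (hAK : A ⊓ K = ⊥) (hKA : K ⊔ A = U) :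
    ∃ H : Subgroup G, Subgroup.IsComplement' K H := by
  classical
  haveI : Fintype (G ⧸ U) := Fintype.ofFinite _
  have hs : ∀ ω : G ⧸ U, (QuotientGroup.mk (Quotient.out ω) : G ⧸ U) = ω :=
    fun ω => QuotientGroup.out_eq' ω
  exact ⟨crossedKer (gamma K A Quotient.out) (gamma_mul hAK hKA hs),
    isComplement'_crossedKer hcop _ _ (gamma_of_mem hAK hKU)⟩

end Cfsg.Agent.S0051
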