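import Cfsg.Statements.S0055
import Mathlib

set_option autoImplicit false
open Cfsg
open scoped commutatorElement

namespace Cfsg.Agent.S0055

variable {G : Type*} [Group G]

/-- conjugation by an element of the normalizer, as an endomorphism of `V`. -/
def conjHom (V : Subgroup G) (a : G) (ha : a ∈ Subgroup.normalizer (V : Set G)) : V →* V where
  toFun v := ⟨a * v.1 * a⁻¹, (Subgroup.mem_normalizer_iff.mp ha v.1).mp v.2⟩
  map_one' := by
    apply Subtype.ext
    simp
  map_mul' x y := by
    apply Subtype.ext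
    simp only [Subgroup.coe_mul]
    group

theorem result {G : Type*} [Group G] [Finite G] (A V : Subgroup G) [IsMulCommutative V]
    (hAV : A ≤ Subgroup.normalizer (V : Set G)) (hcop : (Nat.card A).Coprime (Nat.card V)) :
    (V ⊓ Subgroup.centralizer (A : Set G)) ⊓ ⁅V, A⁆ = ⊥ ∧ (V ⊓ Subgroup.centralizer (A : Set G)) ⊔ ⁅V, A⁆ = V := by
  classical
  let _ : Fintype A := Fintype.ofFinite A
  let _ : CommGroup V :=
    { (inferInstance : Group V) with
      mul_comm := fun a b => (IsMulCommutative.is_comm (M := V)).comm a b }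
  -- the conjugation maps and the averaging map
  let φ : A → (V →* V) := fun a => conjHom V a.1 (hAV a.2)
  have hφ : ∀ (a : A) (v : V), ((φ a v : V) : G) = a.1 * v.1 * a.1⁻¹ := fun a v => rfl
  have hφmul : ∀ (a b : A) (v : V), φ a (φ b v) = φ (a * b) v := by
    intro a b v
    apply Subtype.ext
    rw [hφ, hφ, hφ]
    simp only [Subgroup.coe_mul]
    group
  let T : V →* V := ∏ a : A, φ a
  have hT : ∀ v : V, T v = ∏ a : A, φ a v := by
    intro v
    simp only [T]
    rw [MonoidHom.finsetProd_apply]
  -- T is constant on A-orbits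
  have hTφ : ∀ (b : A) (v : V), T (φ b v) = T v := by
    intro b v
    rw [hT, hT]
    simp only [hφmul]
    exact Fintype.prod_equiv (Equiv.mulRight b) _ _ (fun a => rfl)
  -- T v is fixed by A
  have hφT : ∀ (b : A) (v : V), φ b (T v) = T v := by
    intro b v
    rw [hT, map_prod]
    simp only [hφmul]
    exact Fintype.prod_equiv (Equiv.mulLeft b) _ _ (fun a => rfl)
  -- centralizer description
  have hcent : ∀ v : V, (v : G) ∈ Subgroup.centralizer (A : Set G) ↔ ∀ a : A, φ a v = v := by
    intro v
    rw [Subgroup.mem_centralizer_iff]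
    constructor
    · intro h a
      apply Subtype.ext
      rw [hφ, h a.1 a.2]
      group
    · intro h a ha
      have := congrArg Subtype.val (h ⟨a, ha⟩)
      rw [hφ] at this
      simp only at this
      calc a * v.1 = a * v.1 * a⁻¹ * a := by group
        _ = v.1 * a := by rw [this]
  have hTcent : ∀ v : V, ((T v : V) : G) ∈ Subgroup.centralizer (A : Set G) := by
    intro v
    rw [hcent]
    intro a
    exact hφT a v
  -- on fixed points T is the |A|-th power
  have hTfix : ∀ v : V, (v : G) ∈ Subgroup.centralizer (A : Set G) → T v = v ^ Nat.card A := by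
    intro v hv
    rw [hT]
    have := (hcent v).mp hv
    simp only [this]
    rw [Finset.prod_const, Finset.card_univ, Nat.card_eq_fintype_card]
  -- commutators die under T
  have hcommV : ∀ v ∈ V, ∀ a ∈ A, ⁅v, a⁆ ∈ V := by
    intro v hv a ha
    rw [commutatorElement_def]
    have h1 : a * v⁻¹ * a⁻¹ ∈ V := (Subgroup.mem_normalizer_iff.mp (hAV ha) v⁻¹).mp (V.inv_mem hv)
    have : v * a * v⁻¹ * a⁻¹ = v * (a * v⁻¹ * a⁻¹) := by group
    rw [this]
    exact V.mul_mem hv h1
  have hcommle : ⁅V, A⁆ ≤ V := by
    rw [Subgroup.commutator_le]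
    exact hcommV
  have hcommeq : ∀ (v : V) (a : A), ⁅(v : G), (a : G)⁆ = ((v * (φ a v)⁻¹ : V) : G) := by
    intro v a
    rw [commutatorElement_def]
    simp only [Subgroup.coe_mul, Subgroup.coe_inv, hφ]
    group
  have hker : ⁅V, A⁆ ≤ (T.ker).map V.subtype := by
    rw [Subgroup.commutator_le]
    intro v hv a ha
    refine ⟨⟨v, hv⟩ * (φ ⟨a, ha⟩ ⟨v, hv⟩)⁻¹, ?_, ?_⟩
    · rw [SetLike.mem_coe, MonoidHom.mem_ker, map_mul, map_inv, hTφ, mul_inv_cancel]
    · exact (hcommeq ⟨v, hv⟩ ⟨a, ha⟩).symm
  constructor
  · -- trivial intersection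
    rw [eq_bot_iff]
    rintro x ⟨⟨hxV, hxC⟩, hxc⟩
    obtain ⟨y, hy, rfl⟩ := hker hxc
    rw [SetLike.mem_coe, MonoidHom.mem_ker] at hy
    have h1 : y ^ Nat.card A = 1 := by
      rw [← hTfix y hxC, hy]
    have h2 : y ^ Nat.card V = 1 := pow_card_eq_one'
    have h3 : orderOf y ∣ Nat.gcd (Nat.card A) (Nat.card V) :=
      Nat.dvd_gcd (orderOf_dvd_of_pow_eq_one h1) (orderOf_dvd_of_pow_eq_one h2)
    rw [hcop.gcd_eq_one, Nat.dvd_one, orderOf_eq_one_iff] at h3
    rw [Subgroup.mem_bot, h3]
    rfl
  · -- generation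
    apply le_antisymm
    · exact sup_le inf_le_left hcommle
    · intro x hx
      set S : Subgroup G := (V ⊓ Subgroup.centralizer (A : Set G)) ⊔ ⁅V, A⁆ with hS
      let v : V := ⟨x, hx⟩
      -- v^|A| = T v * ∏ (v * (φ a v)⁻¹)
      have hpow : v ^ Nat.card A = T v * ∏ a : A, (v * (φ a v)⁻¹) := by
        rw [Finset.prod_mul_distrib, Finset.prod_inv_distrib, ← hT, Finset.prod_const, Finset.card_univ,
          Nat.card_eq_fintype_card]
        simp
      have hmem : ((v ^ Nat.card A : V) : G) ∈ S := by
        have h1 : v ^ Nat.card A ∈ S.subgroupOf V := by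
          rw [hpow]
          apply Subgroup.mul_mem
          · rw [Subgroup.mem_subgroupOf]
            exact Subgroup.mem_sup_left ⟨(T v).2, hTcent v⟩
          · apply Subgroup.prod_mem
            intro a _
            rw [Subgroup.mem_subgroupOf, ← hcommeq]
            exact Subgroup.mem_sup_right (Subgroup.commutator_mem_commutator hx a.2)
        exact Subgroup.mem_subgroupOf.mp h1
      have hcop' : (Nat.card A).Coprime (orderOf x) := by
        apply Nat.Coprime.coprime_dvd_right _ hcop
        have : orderOf x = orderOf v := (Subgroup.orderOf_mk x hx).symm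
        rw [this]
        exact orderOf_dvd_natCard v
      obtain ⟨m, hm⟩ := exists_pow_eq_self_of_coprime hcop'
      rw [← hm]
      apply S.pow_mem
      simpa using hmem

end Cfsg.Agent.S0055
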