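import Cfsg.Statements.S0164
import Cfsg.Agent.Lib.Helper05.BrauerInduction
-- import your own Cfsg.Agent.* helpers here

set_option autoImplicit false
open Cfsg

namespace Cfsg.Agent.S0164

open Cfsg.Agent.Lib.Helper05 Cfsg.Agent.Lib.Helper34

theorem isGeneralizedCharacter_list_sum {G : Type*} [Group G] {α : Type*} (l : List α)
    (F : α → G → ℂ) (h : ∀ t ∈ l, IsGeneralizedCharacter G (F t)) :
    IsGeneralizedCharacter G (l.map F).sum := by
  induction l with
  | nil => simpa using isGeneralizedCharacter_zero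
  | cons a l ih =>
    rw [List.map_cons, List.sum_cons]
    exact isGeneralizedCharacter_add (h a (List.mem_cons_self))
      (ih fun t ht => h t (List.mem_cons_of_mem a ht))

/-- Brauer's characterisation of characters: a class function on a finite group whose restriction to every elementary subgroup is a generalized character is a generalized character. -/
theorem result {G : Type*} [Group G] [Finite G] (θ : G → ℂ) (hθ : Cfsg.IsClassFunction G θ) (hE : ∀ (E : Subgroup G) (p : ℕ), p.Prime → Cfsg.IsElementary p E → Cfsg.IsGeneralizedCharacter E (fun e : E => θ e)) : Cfsg.IsGeneralizedCharacter G θ := by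
  classical
  haveI := Fintype.ofFinite G
  haveI : Fintype (Subgroup G) := Fintype.ofFinite _
  obtain ⟨l, hl, h1⟩ := linSpan_one (G := G)
  have h2 : θ = θ * fun _ : G => (1 : ℂ) := by funext g; simp
  rw [h2, h1, ← List.sum_map_mul_left]
  apply isGeneralizedCharacter_list_sum
  intro t ht
  obtain ⟨p, hp, hEl⟩ := hl t ht
  rw [mul_smul_comm, Cfsg.Agent.Lib.Helper45.indFun_mul_classFun _ _ _ hθ]
  apply isGeneralizedCharacter_intCast_smul
  apply isGeneralizedCharacter_indFun
  obtain ⟨a, b, ha, hb, hab⟩ := hE t.1 p hp hEl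
  have hlam : IsCharacter t.1 (fun e : t.1 => ((t.2.1 e : ℂˣ) : ℂ)) :=
    Cfsg.Agent.Lib.Helper83.isCharacter_of_hom t.2.1
  refine ⟨a * fun e : t.1 => ((t.2.1 e : ℂˣ) : ℂ), b * fun e : t.1 => ((t.2.1 e : ℂˣ) : ℂ),
    isCharacter_mul ha hlam, isCharacter_mul hb hlam, ?_⟩
  funext e
  have h3 := congrFun hab e
  simp only [Pi.sub_apply, Pi.mul_apply] at h3 ⊢
  rw [h3]
  ring

end Cfsg.Agent.S0164
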