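import Cfsg.Statements.S4425
import Cfsg.Agent.Lib.Helper21.Contribution
import Cfsg.Agent.Lib.Helper82.DefectZero

set_option autoImplicit false
open Cfsg

namespace Cfsg.Agent.S4425

open Cfsg.Agent.Lib.Helper21 Cfsg.Agent.Lib.Helper82 Cfsg.Agent.Lib.Helper83 Cfsg.Agent.Lib.Helper34
open scoped ComplexConjugate

/-- Let χ be an irreducible character of the finite group G, p a prime, p^a the p-part of the order of G and p^b the p-part of the degree χ(1). Let χ̃ be the class function equal to p^a · χ on p-regular elements and zero on p-singular elements. Then p^(−b) · χ̃ is a generalized character of G, while p^(−(b+1)) · χ̃ is not. -/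
theorem result {G : Type*} [Group G] [Finite G] (p : ℕ) [Fact p.Prime] (χ : Cfsg.IrrCharacter G) : Cfsg.IsGeneralizedCharacter G (fun x : G => if p ∣ orderOf x then (0 : ℂ) else ((p ^ ((Nat.card G).factorization p - (Cfsg.charDegree (χ : G → ℂ)).factorization p) : ℕ) : ℂ) * (χ : G → ℂ) x) ∧ ¬ Cfsg.IsGeneralizedCharacter G (fun x : G => if p ∣ orderOf x then (0 : ℂ) else ((p ^ (Nat.card G).factorization p : ℕ) : ℂ) / ((p ^ ((Cfsg.charDegree (χ : G → ℂ)).factorization p + 1) : ℕ) : ℂ) * (χ : G → ℂ) x) := by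
  classical
  have := Fintype.ofFinite G
  have := Fintype.ofFinite (Cfsg.IrrCharacter G)
  have hp : p.Prime := Fact.out
  obtain ⟨M, hM⟩ := exists_isPModular p hp
  have hprime : M.IsPrime := hM.2.1.isPrime
  have hχc : Cfsg.IsCharacter G (χ : G → ℂ) := IrrCharacter_isCharacter χ
  have hχ1 : (χ : G → ℂ) 1 ≠ 0 := IsIrrCharacter.apply_one_ne_zero χ.2
  have hdegχ : (Cfsg.charDegree (χ : G → ℂ) : ℂ) = (χ : G → ℂ) 1 := charDegree_cast hχc
  have hdeg0 : Cfsg.charDegree (χ : G → ℂ) ≠ 0 := by
    intro h0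
    rw [h0] at hdegχ
    exact hχ1 (by rw [← hdegχ]; simp)
  set a := (Nat.card G).factorization p with ha
  set b := (Cfsg.charDegree (χ : G → ℂ)).factorization p with hb
  have hG0 : Nat.card G ≠ 0 := Nat.card_pos.ne'
  have hba : b ≤ a := by
    have hdvd := IsIrrCharacter.charDegree_dvd_card χ.2
    exact (Nat.factorization_le_iff_dvd hdeg0 hG0).2 hdvd p
  have hpc : (p : ℂ) ≠ 0 := by exact_mod_cast hp.ne_zero
  have hfacpow : ∀ k : ℕ, (p ^ k).factorization p = k := by
    intro k
    rw [Nat.factorization_pow]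
    simp [hp.factorization_self]
  constructor
  · have hgc := isGeneralizedCharacter_regPart (G := G) p hχc
    obtain ⟨z, hz⟩ := exists_int_coeff hgc
    have hzR : ∀ ψ : Cfsg.IrrCharacter G, MemLocalRing M ((z ψ : ℂ) / (p : ℂ) ^ b) := by
      intro ψ
      have h1 := congrArg (fun f => Cfsg.classInner f (ψ : G → ℂ)) hz
      simp only [classInner_sum_irr_left] at h1
      rw [inner_regPart_eq_left] at h1
      rw [← h1]
      have e : ((p ^ a : ℕ) : ℂ) / (Nat.card G : ℂ) *
          ((χ : G → ℂ) 1 * omega (regConj p (ψ : G → ℂ)) (χ : G → ℂ)) / (p : ℂ) ^ b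
          = (((p ^ a : ℕ) : ℂ) / (Nat.card G : ℂ)) *
            (((Cfsg.charDegree (χ : G → ℂ) : ℂ) / ((p ^ b : ℕ) : ℂ)) *
              omega (regConj p (ψ : G → ℂ)) (χ : G → ℂ)) := by
        rw [hdegχ]
        push_cast
        field_simp
      rw [e]
      apply memLocalRing_mul hprime
      · apply memLocalRing_natCast_div hM hG0
        rw [hfacpow]
      · apply memLocalRing_mul hprime
        · apply memLocalRing_natCast_div hM (pow_ne_zero _ hp.ne_zero)
          rw [hfacpow]
        · exact memLocalRing_omega hprime (regConj_isClassFunction p (isClassFunction_irr ψ))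
            (regConj_memLocalRing p hprime ψ) χ
    have hdvd : ∀ ψ, (p : ℤ) ^ b ∣ z ψ := fun ψ => int_pow_dvd_of_memLocalRing_div hM b (z ψ) (hzR ψ)
    choose w hw using hdvd
    have hfun : (fun x : G => if p ∣ orderOf x then (0 : ℂ) else
        ((p ^ (a - b) : ℕ) : ℂ) * (χ : G → ℂ) x)
        = ∑ ψ : Cfsg.IrrCharacter G, (w ψ : ℂ) • (ψ : G → ℂ) := by
      funext x
      have h1 := congrFun hz x
      simp only [Finset.sum_apply, Pi.smul_apply, smul_eq_mul] at h1 ⊢
      have hpb : ((p : ℂ) ^ b) ≠ 0 := pow_ne_zero _ hpc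
      apply mul_left_cancel₀ hpb
      have h2 : (p : ℂ) ^ b * ∑ ψ : Cfsg.IrrCharacter G, (w ψ : ℂ) * (ψ : G → ℂ) x
          = ∑ ψ : Cfsg.IrrCharacter G, (z ψ : ℂ) * (ψ : G → ℂ) x := by
        rw [Finset.mul_sum]
        apply Finset.sum_congr rfl
        intro ψ _
        rw [hw ψ]
        push_cast
        ring
      rw [h2, ← h1]
      split_ifs
      · rw [mul_zero]
      · have : p ^ a = p ^ b * p ^ (a - b) := by
          rw [← pow_add, Nat.add_sub_cancel' hba]
        rw [this]
        push_cast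
        ring
    rw [hfun]
    exact int_combo_isGeneralizedCharacter w
  · intro hgc
    obtain ⟨z, hz⟩ := exists_int_coeff hgc
    obtain P : Sylow p G := default
    have : Fintype (P : Subgroup G) := Fintype.ofFinite _
    have hkey := apply_one_div_card_sylow_memLocalRing hM P (fun ψ => (z ψ : ℂ))
      (fun ψ g => (ψ : G → ℂ) g) (fun ψ => sum_sylow_irr P ψ)
      (fun ψ => memLocalRing_intCast hprime (z ψ))
      (fun x : G => if p ∣ orderOf x then (0 : ℂ) else
        ((p ^ a : ℕ) : ℂ) / ((p ^ (b + 1) : ℕ) : ℂ) * (χ : G → ℂ) x)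
      (by
        intro g
        have h1 := congrFun hz g
        simp only [Finset.sum_apply, Pi.smul_apply, smul_eq_mul] at h1
        exact h1)
      (by
        intro g hg
        simp only [if_pos hg])
    simp only [orderOf_one] at hkey
    rw [if_neg (by intro h; exact hp.one_lt.ne' (Nat.dvd_one.1 h)), P.card_eq_multiplicity,
      ← hdegχ] at hkey
    rw [← ha] at hkey
    have e : ((p ^ a : ℕ) : ℂ) / ((p ^ (b + 1) : ℕ) : ℂ) * (Cfsg.charDegree (χ : G → ℂ) : ℂ) /
        ((p ^ a : ℕ) : ℂ)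
        = (((Cfsg.charDegree (χ : G → ℂ) : ℕ) : ℤ) : ℂ) / (p : ℂ) ^ (b + 1) := by
      push_cast
      have hpa : ((p : ℂ) ^ a) ≠ 0 := pow_ne_zero _ hpc
      field_simp
    rw [e] at hkey
    have hdvd := int_pow_dvd_of_memLocalRing_div hM (b + 1) _ hkey
    have hdvd' : p ^ (b + 1) ∣ Cfsg.charDegree (χ : G → ℂ) := by exact_mod_cast hdvd
    exact Nat.pow_succ_factorization_not_dvd hdeg0 hp hdvd'

end Cfsg.Agent.S4425
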