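import Cfsg.Statements.S4426
import Cfsg.Agent.Lib.Helper21.Contribution

set_option autoImplicit false
open Cfsg

namespace Cfsg.Agent.S4426

open Cfsg.Agent.Lib.Helper21 Cfsg.Agent.Lib.Helper82 Cfsg.Agent.Lib.Helper83 Cfsg.Agent.Lib.Helper34
open scoped ComplexConjugate

/-- A quotient of natural numbers whose numerator has the strictly larger `p`-part lies in the
local ideal. -/
theorem memLocalIdeal_natCast_div {p : ℕ} [Fact p.Prime] {M : Ideal Cfsg.AlgInt}
    (hMp : Cfsg.IsPModular p M) {n m : ℕ} (hm : m ≠ 0)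
    (h : m.factorization p < n.factorization p) :
    Cfsg.MemLocalIdeal M ((n : ℂ) / (m : ℂ)) := by
  have hp : p.Prime := Fact.out
  have hM : M.IsPrime := hMp.2.1.isPrime
  have hpm : p * m ≠ 0 := Nat.mul_ne_zero hp.ne_zero hm
  have h1 : MemLocalRing M ((n : ℂ) / ((p * m : ℕ) : ℂ)) := by
    apply memLocalRing_natCast_div hMp hpm
    rw [Nat.factorization_mul hp.ne_zero hm, Finsupp.add_apply, hp.factorization_self]
    omega
  have hpI : MemLocalIdeal M ((p : ℕ) : ℂ) := (memLocalIdeal_natCast_iff hMp p).2 (dvd_refl p)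
  have := memLocalIdeal_mul_right hM hpI h1
  convert this using 1
  have hpc : (p : ℂ) ≠ 0 := by exact_mod_cast hp.ne_zero
  have hmc : (m : ℂ) ≠ 0 := by exact_mod_cast hm
  push_cast
  field_simp

/-- The contribution `[χ̃, ξ]` is an integer with the same `p`-part as `ξ(1)` exactly when the
central character of `ξ` does not kill the truncated conjugate of `χ`. -/
theorem contribution_iff {G : Type*} [Group G] [Fintype G] {p : ℕ} [Fact p.Prime]
    {M : Ideal Cfsg.AlgInt} (hMp : Cfsg.IsPModular p M) (χ ξ : Cfsg.IrrCharacter G) :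
    (∃ n : ℤ, Cfsg.classInner (fun x : G => if p ∣ orderOf x then (0 : ℂ) else
        ((p ^ (Nat.card G).factorization p : ℕ) : ℂ) * (χ : G → ℂ) x) (ξ : G → ℂ) = (n : ℂ) ∧
        n ≠ 0 ∧ padicValInt p n = (Cfsg.charDegree (ξ : G → ℂ)).factorization p) ↔
      ¬ Cfsg.MemLocalIdeal M (omega (regConj p (χ : G → ℂ)) (ξ : G → ℂ)) := by
  classical
  have := Fintype.ofFinite (Cfsg.IrrCharacter G)
  have hp : p.Prime := Fact.out
  have hM : M.IsPrime := hMp.2.1.isPrime
  have hξc : Cfsg.IsCharacter G (ξ : G → ℂ) := IrrCharacter_isCharacter ξ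
  have hξ1 : (ξ : G → ℂ) 1 ≠ 0 := IsIrrCharacter.apply_one_ne_zero ξ.2
  have hdegξ : (Cfsg.charDegree (ξ : G → ℂ) : ℂ) = (ξ : G → ℂ) 1 := charDegree_cast hξc
  have hdeg0 : Cfsg.charDegree (ξ : G → ℂ) ≠ 0 := by
    intro h0
    rw [h0] at hdegξ
    exact hξ1 (by rw [← hdegξ]; simp)
  set ω := omega (regConj p (χ : G → ℂ)) (ξ : G → ℂ) with hω
  have hωR : MemLocalRing M ω :=
    memLocalRing_omega hM (regConj_isClassFunction p (isClassFunction_irr χ))
      (regConj_memLocalRing p hM χ) ξ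
  obtain ⟨n₀, hn₀⟩ := classInner_genChar_int
    (isGeneralizedCharacter_regPart (G := G) p (IrrCharacter_isCharacter χ))
    (isGeneralizedCharacter_of_irr ξ.2)
  set a := (Nat.card G).factorization p with ha
  set g' := Nat.card G / p ^ a with hg'
  have hG0 : Nat.card G ≠ 0 := Nat.card_pos.ne'
  have hGg : p ^ a * g' = Nat.card G := Nat.ordProj_mul_ordCompl_eq_self _ p
  have hg'0 : g' ≠ 0 := by
    rintro h
    rw [h, mul_zero] at hGg
    exact hG0 hGg.symm
  have hg'fac : g'.factorization p = 0 := by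
    rw [hg', Nat.factorization_ordCompl]
    simp
  have hpc : (p : ℂ) ≠ 0 := by exact_mod_cast hp.ne_zero
  have hrel : (n₀ : ℂ) * (g' : ℂ) = (Cfsg.charDegree (ξ : G → ℂ) : ℂ) * ω := by
    rw [← hn₀, inner_regPart_eq_right, ← hGg, hdegξ]
    push_cast
    have hg'c : (g' : ℂ) ≠ 0 := by exact_mod_cast hg'0
    have hpa : ((p : ℂ) ^ a) ≠ 0 := pow_ne_zero _ hpc
    rw [← hω]
    field_simp
  set N := n₀.natAbs with hN
  -- a signed version of ω
  obtain ⟨t, htR, htI, hnm⟩ : ∃ t : ℂ, MemLocalRing M t ∧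
      (Cfsg.MemLocalIdeal M t ↔ Cfsg.MemLocalIdeal M ω) ∧
      ((N * g' : ℕ) : ℂ) = (Cfsg.charDegree (ξ : G → ℂ) : ℂ) * t := by
    rcases Int.natAbs_eq n₀ with h | h
    · refine ⟨ω, hωR, Iff.rfl, ?_⟩
      push_cast
      rw [← hrel]
      congr 1
      rw [hN]
      conv_rhs => rw [h]
      simp
    · refine ⟨-ω, memLocalRing_neg hωR, ⟨fun h' => by simpa using memLocalIdeal_neg h',
        memLocalIdeal_neg⟩, ?_⟩
      push_cast
      rw [mul_neg, ← hrel]
      rw [← neg_mul]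
      congr 1
      rw [hN]
      conv_rhs => rw [h]
      simp
  have hfacN : (N * g').factorization p = N.factorization p ∨ N = 0 := by
    by_cases hN0 : N = 0
    · exact Or.inr hN0
    · left
      rw [Nat.factorization_mul hN0 hg'0, Finsupp.add_apply, hg'fac, add_zero]
  have hpadic : padicValInt p n₀ = N.factorization p := by
    rw [Nat.factorization_def _ hp]
    rfl
  constructor
  · rintro ⟨n, hn, hn0, hval⟩ hωI
    have hnn : n = n₀ := by
      have : (n : ℂ) = (n₀ : ℂ) := by rw [← hn, hn₀]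
      exact_mod_cast this
    subst hnn
    have hN0 : N ≠ 0 := by
      rw [hN]
      exact Int.natAbs_ne_zero.2 hn0
    rcases factorization_lt_of_mul_ideal hMp hnm hdeg0 (htI.2 hωI) with h | h
    · exact Nat.mul_ne_zero hN0 hg'0 h
    · rcases hfacN with h' | h'
      · rw [h', ← hpadic, hval] at h
        exact lt_irrefl _ h
      · exact hN0 h'
  · intro hωI
    obtain ⟨h1, h2⟩ := factorization_eq_of_mul_unit' hMp hnm hdeg0 htR (fun h => hωI (htI.1 h))
    have hN0 : N ≠ 0 := fun h => h1 (by rw [h, zero_mul])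
    refine ⟨n₀, hn₀, ?_, ?_⟩
    · intro h0
      apply hN0
      rw [hN, h0]
      rfl
    · rcases hfacN with h' | h'
      · rw [hpadic, ← h', h2]
      · exact absurd h' hN0

/-- Height zero is equivalent to the diagonal contribution being a unit. -/
theorem height_zero_iff {G : Type*} [Group G] [Fintype G] {p : ℕ} [Fact p.Prime]
    {M : Ideal Cfsg.AlgInt} (hMp : Cfsg.IsPModular p M) (B : Set (Cfsg.IrrCharacter G))
    (hB : Cfsg.IsPBlock M B) (χ : Cfsg.IrrCharacter G) (hχ : χ ∈ B) :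
    Cfsg.blockHeight p B (χ : G → ℂ) = 0 ↔
      ¬ Cfsg.MemLocalIdeal M (omega (regConj p (χ : G → ℂ)) (χ : G → ℂ)) := by
  classical
  have := Fintype.ofFinite (Cfsg.IrrCharacter G)
  have hp : p.Prime := Fact.out
  have hM : M.IsPrime := hMp.2.1.isPrime
  have hBχ : B = blockOf M (χ : G → ℂ) := IsPBlock.eq_blockOf hM hB hχ
  set T : Set ℕ := (fun ψ : Cfsg.IrrCharacter G =>
    (Cfsg.charDegree (ψ : G → ℂ)).factorization p) '' B with hT
  have hTne : T.Nonempty := ⟨_, χ, hχ, rfl⟩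
  have hΘc := regConj_isClassFunction p (isClassFunction_irr χ)
  have hΘR := regConj_memLocalRing p hM χ
  constructor
  · intro hht
    apply omega_regConj_not_memLocalIdeal hMp χ
    intro χ' hs
    have hχ'B : χ' ∈ B := by
      rw [hBχ, mem_blockOf_iff]
      exact hs
    unfold Cfsg.blockHeight at hht
    have hle := Nat.sub_eq_zero_iff_le.1 hht
    exact le_trans hle (Nat.sInf_le ⟨χ', hχ'B, rfl⟩)
  · intro hα
    by_contra hht
    apply hα
    obtain ⟨χ₁, hχ₁, hχ₁s⟩ := Nat.sInf_mem hTne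
    simp only at hχ₁s
    have hlt : (Cfsg.charDegree (χ₁ : G → ℂ)).factorization p <
        (Cfsg.charDegree (χ : G → ℂ)).factorization p := by
      unfold Cfsg.blockHeight at hht
      rw [← hT, ← hχ₁s] at hht
      omega
    have hs : SameBlock M (χ : G → ℂ) (χ₁ : G → ℂ) := by
      rw [hBχ, mem_blockOf_iff] at hχ₁
      exact hχ₁
    have h1 := omega_sub_memLocalIdeal hM hΘc hΘR hs
    have hχ₁c : Cfsg.IsCharacter G (χ₁ : G → ℂ) := IrrCharacter_isCharacter χ₁
    have hχ₁1 : (χ₁ : G → ℂ) 1 ≠ 0 := IsIrrCharacter.apply_one_ne_zero χ₁.2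
    have hdeg₁ : (Cfsg.charDegree (χ₁ : G → ℂ) : ℂ) = (χ₁ : G → ℂ) 1 := charDegree_cast hχ₁c
    have hdeg₁0 : Cfsg.charDegree (χ₁ : G → ℂ) ≠ 0 := by
      intro h0
      rw [h0] at hdeg₁
      exact hχ₁1 (by rw [← hdeg₁]; simp)
    have hdegχ : (Cfsg.charDegree (χ : G → ℂ) : ℂ) = (χ : G → ℂ) 1 :=
      charDegree_cast (IrrCharacter_isCharacter χ)
    have hG0 : (Nat.card G : ℂ) ≠ 0 := card_ne_zero_complex
    have hsymm : (χ₁ : G → ℂ) 1 * omega (regConj p (χ : G → ℂ)) (χ₁ : G → ℂ)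
        = (χ : G → ℂ) 1 * omega (regConj p (χ₁ : G → ℂ)) (χ : G → ℂ) := by
      have e1 := inner_regPart_eq_left p χ χ₁ 1
      have e2 := inner_regPart_eq_right p χ χ₁ 1
      rw [e1] at e2
      have h10 : (1 : ℂ) / (Nat.card G : ℂ) ≠ 0 := one_div_ne_zero hG0
      exact (mul_left_cancel₀ h10 e2).symm
    have h2 : omega (regConj p (χ : G → ℂ)) (χ₁ : G → ℂ)
        = ((Cfsg.charDegree (χ : G → ℂ) : ℂ) / (Cfsg.charDegree (χ₁ : G → ℂ) : ℂ)) *
          omega (regConj p (χ₁ : G → ℂ)) (χ : G → ℂ) := by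
      rw [hdegχ, hdeg₁, div_mul_eq_mul_div, eq_div_iff hχ₁1, mul_comm, hsymm]
    have h3 : Cfsg.MemLocalIdeal M (omega (regConj p (χ : G → ℂ)) (χ₁ : G → ℂ)) := by
      rw [h2]
      apply memLocalIdeal_mul_right hM (memLocalIdeal_natCast_div hMp hdeg₁0 hlt)
      exact memLocalRing_omega hM (regConj_isClassFunction p (isClassFunction_irr χ₁))
        (regConj_memLocalRing p hM χ₁) χ
    have := memLocalIdeal_add hM h1 h3
    rwa [sub_add_cancel] at this


/-- Let χ be an irreducible character in the p-block B of the finite group G (relative to a maximal ideal M of the algebraic integers containing p), let p^a be the p-part of the order of G, and let χ̃ be the class function equal to p^a · χ on p-regular elements and zero elsewhere. For ξ ∈ B the inner product [χ̃, ξ] is an integer. The following are equivalent: (a) χ has height zero in B; (b) for some ξ ∈ B the integer [χ̃, ξ] is nonzero and the exact power of p dividing it equals the exact power of p dividing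 ξ(1); (c) the same holds for every ξ ∈ B. -/
theorem result {G : Type*} [Group G] [Fintype G] (p : ℕ) [Fact p.Prime] (M : Ideal Cfsg.AlgInt) (hM : Cfsg.IsPModular p M) (B : Set (Cfsg.IrrCharacter G)) (hB : Cfsg.IsPBlock M B) (χ : Cfsg.IrrCharacter G) (hχ : χ ∈ B) : (Cfsg.blockHeight p B (χ : G → ℂ) = 0 ↔ ∃ ξ ∈ B, ∃ n : ℤ, Cfsg.classInner (fun x : G => if p ∣ orderOf x then (0 : ℂ) else ((p ^ (Nat.card G).factorization p : ℕ) : ℂ) * (χ : G → ℂ) x) (ξ : G → ℂ) = (n : ℂ) ∧ n ≠ 0 ∧ padicValInt p n = (Cfsg.charDegree (ξ : G → ℂ)).factorization p) ∧ (Cfsg.blockHeight p B (χ : G → ℂ) = 0 ↔ ∀ ξ ∈ B, ∃ n : ℤ, Cfsg.classInner (fun x : G => if p ∣ orderOf x then (0 : ℂ) else ((p ^ (Nat.card G).factorization p : ℕ) : ℂ) * (χ : G → ℂ) x) (ξ : G → ℂ) = (n : ℂ) ∧ n ≠ 0 ∧ padicValInt p n = (Cfsg.charDegree (ξ : G → ℂ)).factorization p) := by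
  classical
  have := Fintype.ofFinite (Cfsg.IrrCharacter G)
  have hprime : M.IsPrime := hM.2.1.isPrime
  have hBχ : B = blockOf M (χ : G → ℂ) := IsPBlock.eq_blockOf hprime hB hχ
  have hΘc := regConj_isClassFunction p (isClassFunction_irr χ)
  have hΘR := regConj_memLocalRing p hprime χ
  have hkey : ∀ ξ ∈ B, (Cfsg.blockHeight p B (χ : G → ℂ) = 0 ↔
      ∃ n : ℤ, Cfsg.classInner (fun x : G => if p ∣ orderOf x then (0 : ℂ) else
        ((p ^ (Nat.card G).factorization p : ℕ) : ℂ) * (χ : G → ℂ) x) (ξ : G → ℂ) = (n : ℂ) ∧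
        n ≠ 0 ∧ padicValInt p n = (Cfsg.charDegree (ξ : G → ℂ)).factorization p) := by
    intro ξ hξ
    rw [contribution_iff hM χ ξ, height_zero_iff hM B hB χ hχ]
    have hs : SameBlock M (χ : G → ℂ) (ξ : G → ℂ) := by
      rw [hBχ, mem_blockOf_iff] at hξ
      exact hξ
    have h1 := omega_sub_memLocalIdeal hprime hΘc hΘR hs
    constructor
    · intro hα hω
      apply hα
      have := memLocalIdeal_add hprime h1 hω
      rwa [sub_add_cancel] at this
    · intro hω hα
      apply hω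
      have := memLocalIdeal_sub hprime hα h1
      rwa [sub_sub_cancel] at this
  constructor
  · constructor
    · intro h
      exact ⟨χ, hχ, (hkey χ hχ).1 h⟩
    · rintro ⟨ξ, hξ, h⟩
      exact (hkey ξ hξ).2 h
  · constructor
    · intro h ξ hξ
      exact (hkey ξ hξ).1 h
    · intro h
      exact (hkey χ hχ).2 (h χ hχ)

end Cfsg.Agent.S4426
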