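import Cfsg.Statements.S3443
import Mathlib

set_option autoImplicit false
open Cfsg

namespace Cfsg.Agent.S3443

variable {G : Type*} [Group G]

/-- the hom `(v,g) ↦ v * g`. -/
def mulHom (V : Subgroup G) [V.Normal] : V ⋊[MulAut.conjNormal] G →* G :=
  SemidirectProduct.lift V.subtype (MonoidHom.id G) (by
    intro g
    ext v
    simp [MulAut.conjNormal_apply])

theorem mulHom_apply (V : Subgroup G) [V.Normal] (x : V ⋊[MulAut.conjNormal] G) :
    mulHom V x = (x.left : G) * x.right := by
  simp [mulHom, SemidirectProduct.lift]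

/-- embedding into `G × G`. -/
def embHom (V : Subgroup G) [V.Normal] : V ⋊[MulAut.conjNormal] G →* G × G :=
  (mulHom V).prod SemidirectProduct.rightHom

theorem embHom_injective (V : Subgroup G) [V.Normal] : Function.Injective (embHom V) := by
  rw [injective_iff_map_eq_one]
  intro x hx
  have h1 : (x.left : G) * x.right = 1 := by
    have := congrArg Prod.fst hx
    simpa [embHom, mulHom_apply] using this
  have h2 : x.right = 1 := by
    have := congrArg Prod.snd hx
    simpa [embHom] using this
  rw [h2, mul_one] at h1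
  ext
  · simpa using h1
  · simpa using h2

theorem orderOf_eq_lcm (V : Subgroup G) [V.Normal] (x : V ⋊[MulAut.conjNormal] G) :
    orderOf x = Nat.lcm (orderOf ((x.left : G) * x.right)) (orderOf x.right) := by
  rw [← orderOf_injective (embHom V) (embHom_injective V) x, Prod.orderOf]
  simp [embHom, mulHom_apply]

theorem order_cases [Finite G] (V : Subgroup G) [V.Normal] (p : ℕ) (hp : p.Prime)
    (hexp : ∀ x : V, x ^ p = 1) (g h : G) (hgh : (QuotientGroup.mk h : G ⧸ V) = QuotientGroup.mk g) :
    orderOf h = orderOf (QuotientGroup.mk g : G ⧸ V) ∨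
      orderOf h = orderOf (QuotientGroup.mk g : G ⧸ V) * p := by
  set m := orderOf (QuotientGroup.mk g : G ⧸ V) with hm
  have hmpos : 0 < m := orderOf_pos _
  have h1 : m ∣ orderOf h := by
    apply orderOf_dvd_of_pow_eq_one
    rw [← hgh, ← QuotientGroup.mk_pow, pow_orderOf_eq_one]
    rfl
  have h2 : orderOf h ∣ m * p := by
    apply orderOf_dvd_of_pow_eq_one
    have hmem : h ^ m ∈ V := by
      rw [← QuotientGroup.eq_one_iff, QuotientGroup.mk_pow, hgh, hm, pow_orderOf_eq_one]
    have := hexp ⟨h ^ m, hmem⟩
    rw [pow_mul]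
    simpa [Subtype.ext_iff] using this
  obtain ⟨a, ha⟩ := h1
  rw [ha] at h2
  have h3 : a ∣ p := (Nat.mul_dvd_mul_iff_left hmpos).mp h2
  rcases (Nat.dvd_prime hp).mp h3 with rfl | rfl
  · left; simpa using ha
  · right; exact ha

/-- Let G be a finite group and V a normal elementary abelian subgroup of G (abelian of prime exponent p, possibly trivial). Then the semidirect product V ⋊ G, with G acting on V by conjugation, has exactly the same set of element orders as G. -/
theorem result {G : Type*} [Group G] [Finite G] (V : Subgroup G) [V.Normal] (p : ℕ) (hp : p.Prime)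
    (hcomm : ∀ x y : V, x * y = y * x) (hexp : ∀ x : V, x ^ p = 1) :
    Set.range (orderOf : V ⋊[MulAut.conjNormal] G → ℕ) = Set.range (orderOf : G → ℕ) := by
  have _ := hcomm
  apply Set.Subset.antisymm
  · rintro _ ⟨x, rfl⟩
    rw [orderOf_eq_lcm]
    have hq : (QuotientGroup.mk ((x.left : G) * x.right) : G ⧸ V) = QuotientGroup.mk x.right := by
      rw [QuotientGroup.mk_mul, (QuotientGroup.eq_one_iff (x.left : G)).mpr x.left.2, one_mul]
    rcases order_cases V p hp hexp x.right _ hq with h1 | h1 <;>
    rcases order_cases V p hp hexp x.right x.right rfl with h2 | h2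
    · exact ⟨x.right, by rw [h1, h2, Nat.lcm_self]⟩
    · refine ⟨x.right, ?_⟩
      rw [h1, h2]
      exact (Nat.lcm_eq_right (Dvd.intro _ rfl)).symm
    · refine ⟨(x.left : G) * x.right, ?_⟩
      rw [h1, h2]
      exact (Nat.lcm_eq_left (Dvd.intro _ rfl)).symm
    · exact ⟨x.right, by rw [h1, h2, Nat.lcm_self]⟩
  · rintro _ ⟨g, rfl⟩
    exact ⟨SemidirectProduct.inr g, orderOf_injective _ SemidirectProduct.inr_injective g⟩

end Cfsg.Agent.S3443
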