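import Cfsg.Statements.S0173
import Cfsg.Agent.Lib.Helper05.BrauerPerm

set_option autoImplicit false
open Cfsg

namespace Cfsg.Agent.S0173

open Cfsg.Agent.Lib.Helper05

/-- Pulling back an irreducible character along a group isomorphism gives an irreducible
character. -/
theorem isIrrCharacter_comp_mulEquiv {G H : Type*} [Group G] [Group H] (α : H ≃* G) {χ : G → ℂ}
    (hχ : Cfsg.IsIrrCharacter G χ) : Cfsg.IsIrrCharacter H (fun h => χ (α h)) := by
  obtain ⟨n, ρ, hirr, rfl⟩ := hχ
  refine ⟨n, ρ.comp α.toMonoidHom, ?_, rfl⟩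
  rw [isIrreducible_iff] at hirr ⊢
  refine ⟨hirr.1, ?_⟩
  intro U hU
  apply hirr.2 U
  intro g v hv
  have := hU (α.symm g) v hv
  simpa using this

/-- Brauer's permutation lemma for a single automorphism: the number of conjugacy classes mapped to themselves equals the number of irreducible complex characters χ with χ ∘ α = χ. -/
theorem result {G : Type*} [Group G] [Finite G] (α : G ≃* G) : Nat.card {C : ConjClasses G // ConjClasses.map α.toMonoidHom C = C} = Nat.card {χ : Cfsg.IrrCharacter G // (χ : G → ℂ) ∘ α = (χ : G → ℂ)} := by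
  classical
  haveI : Fintype G := Fintype.ofFinite G
  haveI : Finite (Cfsg.IrrCharacter G) := finite_irrCharacter
  haveI : Fintype (Cfsg.IrrCharacter G) := Fintype.ofFinite _
  have key := card_fixed_irr_eq_card_fixed_classes (G := G) (fun g => α g)
    (fun g h hgh => α.toMonoidHom.map_isConj hgh)
    (fun χ => isIrrCharacter_comp_mulEquiv α χ.2)
  have hL : Nat.card {χ : Cfsg.IrrCharacter G // (χ : G → ℂ) ∘ α = (χ : G → ℂ)} =
      Nat.card {χ : Cfsg.IrrCharacter G // (fun g => (χ : G → ℂ) (α g)) = (χ : G → ℂ)} := rfl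
  rw [hL, key]
  apply Nat.card_congr
  apply Equiv.subtypeEquivRight
  intro C
  obtain ⟨g₀, rfl⟩ := ConjClasses.exists_rep C
  have h1 : ConjClasses.map α.toMonoidHom (ConjClasses.mk g₀) = ConjClasses.mk (α g₀) := rfl
  rw [h1, ConjClasses.mk_eq_mk_iff_isConj]
  constructor
  · intro h g hg
    have hgg : IsConj g g₀ := ConjClasses.mk_eq_mk_iff_isConj.mp hg
    exact ((α.toMonoidHom.map_isConj hgg).trans h).trans hgg.symm
  · intro h
    exact h g₀ rfl

end Cfsg.Agent.S0173
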