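import Cfsg.Statements.S0269
import Cfsg.Agent.S0765
import Cfsg.Agent.Lib.Helper11.SpPerfect

set_option autoImplicit false
open Cfsg

namespace Cfsg.Agent.S0269

open Cfsg.Agent.Lib.Helper18 Cfsg.Agent.Lib.Helper11.SpPerfect

/-- reduction to the transvections -/
theorem commutator_eq_top_of {F : Type*} [Field F] (m : ℕ)
    (key : ∀ (w : Fin m ⊕ Fin m → F), w ≠ 0 → ∀ c : F,
      (Abelianization.of (tv m w c) : Abelianization (Matrix.symplecticGroup (Fin m) F)) = 1) :
    commutator (Matrix.symplecticGroup (Fin m) F) = ⊤ := by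
  rw [eq_top_iff, ← Cfsg.Agent.S0765.result m, Subgroup.closure_le]
  rintro A ⟨w, c, hA⟩
  have hAeq : A = tv m w c := Subtype.ext hA
  show A ∈ commutator (Matrix.symplecticGroup (Fin m) F)
  rw [← Abelianization.ker_of, MonoidHom.mem_ker, hAeq]
  by_cases hw : w = 0
  · rw [hw, tv_zero_left, map_one]
  · exact key w hw c

theorem exists_scalar {F : Type*} [Field F] [Fintype F] (h : 4 ≤ Fintype.card F) :
    ∃ a : F, a ≠ 0 ∧ a * a ≠ 1 := by
  classical
  have : ∃ a : F, a ∉ ({0, 1, -1} : Finset F) := by
    by_contra hcon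
    push Not at hcon
    have hsub : (Finset.univ : Finset F) ⊆ ({0, 1, -1} : Finset F) := fun a _ => hcon a
    have h1 := Finset.card_le_card hsub
    have h3 : ({0, 1, -1} : Finset F).card ≤ 3 := Finset.card_le_three
    rw [Finset.card_univ] at h1
    omega
  obtain ⟨a, ha⟩ := this
  simp only [Finset.mem_insert, Finset.mem_singleton, not_or] at ha
  refine ⟨a, ha.1, ?_⟩
  intro h1
  rcases mul_self_eq_one_iff.mp h1 with h | h
  · exact ha.2.1 h
  · exact ha.2.2 h

/-- Sp_{2m}(q) is perfect except for Sp_2(2), Sp_2(3) and Sp_4(2): stated as m at least 3, or m = 2 and q at least 3, or q at least 4. -/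
theorem result {F : Type*} [Field F] [Fintype F] (m : ℕ) (h : 3 ≤ m ∨ (m = 2 ∧ 3 ≤ Fintype.card F) ∨ 4 ≤ Fintype.card F) : commutator (Matrix.symplecticGroup (Fin m) F) = ⊤ := by
  apply commutator_eq_top_of
  intro w hw c
  by_cases h4 : 4 ≤ Fintype.card F
  · obtain ⟨a, ha, ha1⟩ := exists_scalar h4
    exact ab_tv_of_scalar m a ha ha1 w hw c
  · by_cases h2 : (2 : F) = 0
    · have hm : 3 ≤ m := by
        rcases h with h | ⟨-, h3⟩ | h
        · exact h
        · exfalso
          have hc3 : Fintype.card F = 3 := by omega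
          have h30 : (3 : F) = 0 := by
            have := Nat.cast_card_eq_zero F
            rw [hc3] at this
            exact_mod_cast this
          have : (1 : F) = 0 := by linear_combination h30 - h2
          exact one_ne_zero this
        · exact absurd h h4
      exact ab_tv_of_two_eq m h2 ⟨0, by omega⟩ ⟨1, by omega⟩ ⟨2, by omega⟩
        (by simp [Fin.ext_iff]) (by simp [Fin.ext_iff]) (by simp [Fin.ext_iff]) w hw c
    · have hm : 2 ≤ m := by
        rcases h with h | ⟨h, -⟩ | h
        · omega
        · omega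
        · exact absurd h h4
      exact ab_tv_of_two_ne m h2 ⟨0, by omega⟩ ⟨1, by omega⟩ (by simp [Fin.ext_iff]) w hw c

end Cfsg.Agent.S0269
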