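import Cfsg.Statements.S0768
import Cfsg.Agent.Lib.Helper18.SympTrans

set_option autoImplicit false
open Cfsg
open scoped LinearAlgebra.Projectivization

namespace Cfsg.Agent.S0768

open Matrix Cfsg.Agent.Lib.Helper18
open scoped Pointwise

section
variable {F : Type*} [Field F] (m : ℕ)

local notation "V" => (Fin m ⊕ Fin m → F)
local notation "f" => Cfsg.sympForm m F

/-- symplectic matrices as elements of `spGL` -/
def toSp (A : Matrix.symplecticGroup (Fin m) F) : ↥(Cfsg.spGL m F) :=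
  ⟨⟨A.1, (A⁻¹ : Matrix.symplecticGroup (Fin m) F).1, by
      rw [← val_mul, mul_inv_cancel, val_one], by
      rw [← val_mul, inv_mul_cancel, val_one]⟩,
    fun u v => sf_mulVec_of_mem m A.1 A.2 u v⟩

theorem mulVec_ne_zero (A : Matrix.symplecticGroup (Fin m) F) (v : V) (hv : v ≠ 0) :
    A.1 *ᵥ v ≠ 0 := by
  intro h
  apply hv
  have := inv_mulVec_mulVec m A v
  rw [h, Matrix.mulVec_zero] at this
  exact this.symm

theorem toSp_smul_mk (A : Matrix.symplecticGroup (Fin m) F) (v : V) (hv : v ≠ 0) :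
    toSp m A • Projectivization.mk F v hv =
      Projectivization.mk F (A.1 *ᵥ v) (mulVec_ne_zero m A v hv) := rfl

theorem top_nondeg : ∀ x ∈ (⊤ : Submodule F V), x ≠ 0 → ∃ y ∈ (⊤ : Submodule F V), f x y ≠ 0 := by
  intro x _ hx
  obtain ⟨y, hy⟩ := sf_nondeg_top m x hx
  exact ⟨y, trivial, hy⟩

theorem pretrans : MulAction.IsPretransitive ↥(Cfsg.spGL m F) (ℙ F V) := by
  constructor
  intro p p'
  induction p using Projectivization.ind with
  | h u hu =>
  induction p' using Projectivization.ind with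
  | h u' hu' =>
  obtain ⟨A, -, hA⟩ := reach_of_ne_zero m ⊤ (top_nondeg m) u u' trivial trivial hu hu'
  refine ⟨toSp m A, ?_⟩
  rw [toSp_smul_mk]
  congr 1

/-- separating functional -/
theorem exists_sep (u u' : V) (hu' : u' ≠ 0) (hne : ∀ a : F, a • u' ≠ u) :
    ∃ r : V, f u' r = 0 ∧ f u r ≠ 0 := by
  by_contra hcon
  push Not at hcon
  obtain ⟨r0, hr0⟩ := sf_nondeg_top m u' hu'
  obtain ⟨r1, hr1⟩ : ∃ r1 : V, f u' r1 = 1 :=
    ⟨(f u' r0)⁻¹ • r0, by rw [sf_smul_right, inv_mul_cancel₀ hr0]⟩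
  have key : ∀ r : V, f (u - f u r1 • u') r = 0 := by
    intro r
    have h1 : f u' (r - f u' r • r1) = 0 := by
      rw [sf_sub_right, sf_smul_right, hr1, mul_one, sub_self]
    have h2 := hcon _ h1
    rw [sf_sub_right, sf_smul_right, sub_eq_zero] at h2
    rw [sf_sub_left, sf_smul_left, h2]
    ring
  have hz : u - f u r1 • u' = 0 := by
    by_contra hz
    obtain ⟨y, hy⟩ := sf_nondeg_top m _ hz
    exact hy (key y)
  exact hne (f u r1) (sub_eq_zero.mp hz).symm

/-- first spreading step -/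
theorem spread1 (B : Set (ℙ F V)) (hB : MulAction.IsBlock ↥(Cfsg.spGL m F) B) (x y z : V) (hx : x ≠ 0) (hy : y ≠ 0) (hz : z ≠ 0)
    (hxB : Projectivization.mk F x hx ∈ B) (hyB : Projectivization.mk F y hy ∈ B)
    (hxy : f x y ≠ 0) (hxz : f x z ≠ 0) : Projectivization.mk F z hz ∈ B := by
  have hy1 : f x ((f x y)⁻¹ • y) = 1 := by rw [sf_smul_right, inv_mul_cancel₀ hxy]
  have hz1 : f x ((f x z)⁻¹ • z) = 1 := by rw [sf_smul_right, inv_mul_cancel₀ hxz]
  obtain ⟨A, -, hAx, hAy⟩ := reach2 m ⊤ (top_nondeg m) x ((f x y)⁻¹ • y) x ((f x z)⁻¹ • z)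
    trivial trivial trivial trivial hy1 hz1
  have hgx : toSp m A • Projectivization.mk F x hx ∈ B := by
    rw [toSp_smul_mk]
    convert hxB
  have hgB : toSp m A • B = B := hB.smul_eq_of_mem hxB hgx
  have hgy : toSp m A • Projectivization.mk F y hy ∈ B := by
    rw [← hgB]
    exact Set.smul_mem_smul_set hyB
  rw [toSp_smul_mk] at hgy
  convert hgy using 1
  rw [Projectivization.mk_eq_mk_iff']
  refine ⟨(f x z) * (f x y)⁻¹, ?_⟩
  have : A.1 *ᵥ y = (f x y) • ((f x z)⁻¹ • z) := by
    rw [← hAy, Matrix.mulVec_smul, smul_smul, mul_inv_cancel₀ hxy, one_smul]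
  rw [this, smul_smul, smul_smul]
  have h1 : f x z * (f x y)⁻¹ * f x y * (f x z)⁻¹ = 1 := by
    field_simp
  rw [h1, one_smul]

theorem spread2 (B : Set (ℙ F V)) (hB : MulAction.IsBlock ↥(Cfsg.spGL m F) B) (x y z : V) (hx : x ≠ 0) (hy : y ≠ 0) (hz : z ≠ 0)
    (hxB : Projectivization.mk F x hx ∈ B) (hyB : Projectivization.mk F y hy ∈ B)
    (hxy : f x y ≠ 0) : Projectivization.mk F z hz ∈ B := by
  by_cases hxz : f x z = 0
  · obtain ⟨y1, hy1⟩ := sf_nondeg_top m x hx
    obtain ⟨y2, hy2⟩ := sf_nondeg_top m z hz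
    have key : ∃ t : V, f x t ≠ 0 ∧ f t z ≠ 0 := by
      by_cases h1 : f z y1 = 0
      · by_cases h2 : f x y2 = 0
        · refine ⟨y1 + y2, ?_, ?_⟩
          · rw [sf_add_right, h2, add_zero]; exact hy1
          · rw [sf_swap, sf_add_right, h1, zero_add]; exact neg_ne_zero.mpr hy2
        · refine ⟨y2, h2, ?_⟩
          rw [sf_swap]; exact neg_ne_zero.mpr hy2
      · refine ⟨y1, hy1, ?_⟩
        rw [sf_swap]; exact neg_ne_zero.mpr h1
    obtain ⟨t, ht1, ht2⟩ := key
    have ht0 : t ≠ 0 := by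
      rintro rfl
      exact ht1 (sf_zero_right m x)
    have htB : Projectivization.mk F t ht0 ∈ B := spread1 m B hB x y t hx hy ht0 hxB hyB hxy ht1
    have htx : f t x ≠ 0 := by
      rw [sf_swap]; exact neg_ne_zero.mpr ht1
    exact spread1 m B hB t x z ht0 hx hz htB hxB htx ht2
  · exact spread1 m B hB x y z hx hy hz hxB hyB hxy hxz

theorem block_trivial (B : Set (ℙ F V)) (hB : MulAction.IsBlock ↥(Cfsg.spGL m F) B) : MulAction.IsTrivialBlock B := by
  by_cases hsub : B.Subsingleton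
  · exact Or.inl hsub
  right
  rw [Set.not_subsingleton_iff] at hsub
  obtain ⟨p, hp, p', hp', hpp'⟩ := hsub
  induction p using Projectivization.ind with
  | h u hu =>
  induction p' using Projectivization.ind with
  | h u' hu' =>
  -- a non-perpendicular pair in B
  have hpair : ∃ (x y : V) (hx : x ≠ 0) (hy : y ≠ 0), Projectivization.mk F x hx ∈ B ∧
      Projectivization.mk F y hy ∈ B ∧ f x y ≠ 0 := by
    by_cases huu' : f u u' = 0
    · have hne : ∀ a : F, a • u' ≠ u := by
        intro a ha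
        apply hpp'
        rw [Projectivization.mk_eq_mk_iff']
        exact ⟨a, ha⟩
      obtain ⟨r, hr1, hr2⟩ := exists_sep m u u' hu' hne
      have hT' : (tv m r 1).1 *ᵥ u' = u' := by
        rw [tv_val, transv_mulVec, hr1, mul_zero, zero_smul, add_zero]
      have hT : (tv m r 1).1 *ᵥ u = u + f u r • r := by
        rw [tv_val, transv_mulVec, one_mul]
      have hgp' : toSp m (tv m r 1) • Projectivization.mk F u' hu' ∈ B := by
        rw [toSp_smul_mk]
        convert hp'
      have hgB : toSp m (tv m r 1) • B = B := hB.smul_eq_of_mem hp' hgp'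
      have hgp : toSp m (tv m r 1) • Projectivization.mk F u hu ∈ B := by
        rw [← hgB]
        exact Set.smul_mem_smul_set hp
      rw [toSp_smul_mk] at hgp
      refine ⟨u, (tv m r 1).1 *ᵥ u, hu, mulVec_ne_zero m _ u hu, hp, hgp, ?_⟩
      rw [hT, sf_add_right, sf_self, zero_add, sf_smul_right]
      exact mul_ne_zero hr2 hr2
    · exact ⟨u, u', hu, hu', hp, hp', huu'⟩
  obtain ⟨x, y, hx, hy, hxB, hyB, hxy⟩ := hpair
  rw [Set.eq_univ_iff_forall]
  intro q
  induction q using Projectivization.ind with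
  | h z hz =>
  exact spread2 m B hB x y z hx hy hz hxB hyB hxy

end

/-- Primitivity: for m ≥ 1 and F finite, the symplectic group of the form sympForm (as a subgroup of the general linear group) acts primitively on the projective space of F^(2m). -/
theorem result {F : Type*} [Field F] [Finite F] (m : ℕ) (hm : 1 ≤ m) : MulAction.IsPreprimitive ↥(Cfsg.spGL m F) (ℙ F (Fin m ⊕ Fin m → F)) := by
  have := pretrans (F := F) m
  exact ⟨fun {B} hB => block_trivial m B hB⟩

end Cfsg.Agent.S0768
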