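import Cfsg.Statements.S0270
import Cfsg.Agent.S0269
import Cfsg.Agent.S0768

set_option autoImplicit false
open Cfsg

namespace Cfsg.Agent.S0270

open scoped LinearAlgebra.Projectivization
open Matrix Cfsg.Agent.Lib.Helper18 Cfsg.Agent.Lib.Helper11.SpPerfect
open scoped Pointwise

section
variable {F : Type*} [Field F] (m : ℕ)

local notation "V" => (Fin m ⊕ Fin m → F)
local notation "ff" => Cfsg.sympForm m F
local notation "G" => Matrix.symplecticGroup (Fin m) F

/-- the hom to `spGL` -/
def phi : G →* ↥(Cfsg.spGL m F) where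
  toFun := Cfsg.Agent.S0768.toSp m
  map_one' := by
    apply Subtype.ext; apply Units.ext; rfl
  map_mul' := by
    intro A B; apply Subtype.ext; apply Units.ext; rfl

theorem mem_symplectic_of_preserving (A : Matrix (Fin m ⊕ Fin m) (Fin m ⊕ Fin m) F)
    (h : ∀ x y : V, ff (A *ᵥ x) (A *ᵥ y) = ff x y) : A ∈ Matrix.symplecticGroup (Fin m) F := by
  rw [SymplecticGroup.mem_iff']
  ext i j
  have := h (Pi.single i 1) (Pi.single j 1)
  unfold Cfsg.sympForm at this
  rw [← vecMul_transpose, ← dotProduct_mulVec, mulVec_mulVec, mulVec_mulVec,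
    mulVec_single_one, mulVec_single_one, single_one_dotProduct, single_one_dotProduct] at this
  exact this

theorem phi_surjective : Function.Surjective (phi m (F := F)) := by
  intro g
  have hg : ∀ x y : V, ff (g.1.1 *ᵥ x) (g.1.1 *ᵥ y) = ff x y := g.2
  refine ⟨⟨g.1.1, mem_symplectic_of_preserving m _ hg⟩, ?_⟩
  apply Subtype.ext; apply Units.ext; rfl

/-- the action of `Sp` on the projective space -/
@[instance_reducible] def act : MulAction G (ℙ F V) := MulAction.compHom (ℙ F V) (phi m)

attribute [local instance] act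

theorem smul_mk (A : G) (v : V) (hv : v ≠ 0) :
    A • Projectivization.mk F v hv =
      Projectivization.mk F (A.1 *ᵥ v) (Cfsg.Agent.S0768.mulVec_ne_zero m A v hv) := rfl

theorem preprim [Finite F] (hm : 1 ≤ m) : MulAction.IsPreprimitive G (ℙ F V) := by
  have h := Cfsg.Agent.S0768.result (F := F) m hm
  let fmap : (ℙ F V) →ₑ[phi m (F := F)] (ℙ F V) := ⟨id, fun g x => rfl⟩
  exact (MulAction.isPreprimitive_congr (f := fmap) (phi_surjective m) Function.bijective_id).mpr h

/-- the transvection subgroup with centre `w` -/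
def TS (w : V) : Subgroup G where
  carrier := {g | ∃ c : F, g = tv m w c}
  one_mem' := ⟨0, (tv_zero m w).symm⟩
  mul_mem' := by
    rintro _ _ ⟨c, rfl⟩ ⟨d, rfl⟩
    exact ⟨c + d, tv_mul m w c d⟩
  inv_mem' := by
    rintro _ ⟨c, rfl⟩
    exact ⟨-c, tv_inv m w c⟩

theorem mem_TS (w : V) (g : G) : g ∈ TS m w ↔ ∃ c : F, g = tv m w c := Iff.rfl

theorem TS_smul (a : F) (ha : a ≠ 0) (w : V) : TS m (a • w) = TS m w := by
  ext g
  rw [mem_TS, mem_TS]
  constructor
  · rintro ⟨c, rfl⟩
    exact ⟨a * a * c, tv_smul m a w c⟩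
  · rintro ⟨c, rfl⟩
    refine ⟨c / (a * a), ?_⟩
    rw [tv_smul, mul_div_cancel₀ _ (mul_ne_zero ha ha)]

theorem TS_conj (A : G) (w : V) : MulAut.conj A • TS m w = TS m (A.1 *ᵥ w) := by
  ext g
  rw [Subgroup.mem_smul_pointwise_iff_exists, mem_TS]
  constructor
  · rintro ⟨s, ⟨c, rfl⟩, rfl⟩
    exact ⟨c, by rw [MulAut.smul_def, MulAut.conj_apply, conj_tv]⟩
  · rintro ⟨c, rfl⟩
    exact ⟨tv m w c, ⟨c, rfl⟩, by rw [MulAut.smul_def, MulAut.conj_apply, conj_tv]⟩

/-- the Iwasawa structure -/
noncomputable def iwa : MulAction.IwasawaStructure G (ℙ F V) where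
  T := fun p => TS m p.rep
  is_comm := fun p => ⟨⟨by
    rintro ⟨_, c, rfl⟩ ⟨_, d, rfl⟩
    apply Subtype.ext
    show tv m p.rep c * tv m p.rep d = tv m p.rep d * tv m p.rep c
    rw [tv_mul, tv_mul, add_comm]⟩⟩
  is_conj := by
    intro g p
    rw [TS_conj]
    have hp : g • p = Projectivization.mk F (g.1 *ᵥ p.rep)
        (Cfsg.Agent.S0768.mulVec_ne_zero m g p.rep p.rep_nonzero) := by
      conv_lhs => rw [← Projectivization.mk_rep p]
      exact smul_mk m g p.rep p.rep_nonzero
    obtain ⟨a, ha⟩ := Projectivization.exists_smul_eq_mk_rep F (g.1 *ᵥ p.rep)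
      (Cfsg.Agent.S0768.mulVec_ne_zero m g p.rep p.rep_nonzero)
    rw [hp, ← ha, Units.smul_def]
    exact TS_smul m (a : F) a.ne_zero _
  is_generator := by
    rw [eq_top_iff, ← Cfsg.Agent.S0765.result m, Subgroup.closure_le]
    rintro A ⟨w, c, hA⟩
    have hAeq : A = tv m w c := Subtype.ext hA
    by_cases hw : w = 0
    · rw [hAeq, hw, tv_zero_left]
      exact Subgroup.one_mem _
    · apply Subgroup.mem_iSup_of_mem (Projectivization.mk F w hw)
      obtain ⟨a, ha⟩ := Projectivization.exists_smul_eq_mk_rep F w hw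
      show A ∈ TS m (Projectivization.mk F w hw).rep
      rw [← ha, Units.smul_def, TS_smul m _ a.ne_zero]
      exact ⟨c, hAeq⟩

theorem fix_scalar (k : G) (hk : ∀ p : ℙ F V, k • p = p) (v : V) (hv : v ≠ 0) :
    ∃ a : F, a ≠ 0 ∧ k.1 *ᵥ v = a • v := by
  have h1 := hk (Projectivization.mk F v hv)
  rw [smul_mk, Projectivization.mk_eq_mk_iff] at h1
  obtain ⟨a, ha⟩ := h1
  exact ⟨a, a.ne_zero, ha.symm⟩

theorem comm_tv_of_fixes (k : G) (hk : ∀ p : ℙ F V, k • p = p) (w : V) (c : F) :
    k * tv m w c = tv m w c * k := by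
  by_cases hw : w = 0
  · rw [hw, tv_zero_left, mul_one, one_mul]
  obtain ⟨y, hy⟩ := sf_nondeg_top m w hw
  have hy0 : y ≠ 0 := by
    rintro rfl
    exact hy (sf_zero_right m w)
  have hwy : ff w (w + y) = ff w y := by rw [sf_add_right, sf_self, zero_add]
  have hwy0 : w + y ≠ 0 := by
    intro h0
    rw [h0, sf_zero_right] at hwy
    exact hy hwy.symm
  obtain ⟨a, ha0, ha⟩ := fix_scalar m k hk w hw
  obtain ⟨b, hb0, hb⟩ := fix_scalar m k hk y hy0
  obtain ⟨d, hd0, hd⟩ := fix_scalar m k hk (w + y) hwy0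
  have e1 : a * b = 1 := by
    have := sf_mulVec_of_mem m k.1 k.2 w y
    rw [ha, hb, sf_smul_left, sf_smul_right] at this
    have h2 : (a * b - 1) * ff w y = 0 := by linear_combination this
    rcases mul_eq_zero.mp h2 with h | h
    · exact sub_eq_zero.mp h
    · exact absurd h hy
  have e2 : a * d = 1 := by
    have := sf_mulVec_of_mem m k.1 k.2 w (w + y)
    rw [ha, hd, sf_smul_left, sf_smul_right, hwy] at this
    have h2 : (a * d - 1) * ff w y = 0 := by linear_combination this
    rcases mul_eq_zero.mp h2 with h | h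
    · exact sub_eq_zero.mp h
    · exact absurd h hy
  have hbd : b = d := by
    have : a * b = a * d := by rw [e1, e2]
    exact mul_left_cancel₀ ha0 this
  have e3 : d • (w + y) = a • w + b • y := by
    rw [← hd, Matrix.mulVec_add, ha, hb]
  have hda : d = a := by
    rw [hbd, smul_add] at e3
    have h3 : (d - a) • w = 0 := by
      rw [sub_smul, sub_eq_zero]
      exact add_right_cancel e3
    rcases smul_eq_zero.mp h3 with h | h
    · exact sub_eq_zero.mp h
    · exact absurd h hw
  have haa : a * a = 1 := by rw [← hda] at e2 ⊢; rw [hda] at e2; rw [hda]; exact e2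
  have hconj : k * tv m w c * k⁻¹ = tv m w c := by
    rw [conj_tv, ha, tv_smul, haa, one_mul]
  calc k * tv m w c = (k * tv m w c * k⁻¹) * k := by group
    _ = tv m w c * k := by rw [hconj]

theorem mem_center_of_fixes (k : G) (hk : ∀ p : ℙ F V, k • p = p) : k ∈ Subgroup.center G := by
  rw [Subgroup.mem_center_iff]
  intro g
  have hg : g ∈ Subgroup.closure {A : Matrix.symplecticGroup (Fin m) F |
      ∃ (w : Fin m ⊕ Fin m → F) (c : F),
      (A : Matrix (Fin m ⊕ Fin m) (Fin m ⊕ Fin m) F) = Cfsg.sympTransvection m w c} := by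
    rw [Cfsg.Agent.S0765.result m]
    trivial
  induction hg using Subgroup.closure_induction with
  | mem A hA =>
    obtain ⟨w, c, hA⟩ := hA
    have hAeq : A = tv m w c := Subtype.ext hA
    rw [hAeq]
    exact (comm_tv_of_fixes m k hk w c).symm
  | one => rw [one_mul, mul_one]
  | mul a b _ _ ha hb => rw [mul_assoc, hb, ← mul_assoc, ha, mul_assoc]
  | inv a _ ha => exact (Commute.inv_left (show Commute a k from ha)).eq

theorem tv_ne_one (i : Fin m) :
    tv m (Pi.single (Sum.inl i) 1 : V) 1 ≠ 1 := by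
  classical
  intro h
  have h1 := congrArg (fun g : G => g.1 *ᵥ (Pi.single (Sum.inr i) (1 : F) : V)) h
  simp only [tv_act, val_one, Matrix.one_mulVec, sf_single_inl, Pi.single_eq_same, mul_one,
    one_smul] at h1
  have h2 := congrFun h1 (Sum.inl i)
  simp at h2

end

/-- PSp_{2m}(q) is simple for m at least 2 and (m, q) other than (2, 2). -/
theorem result {F : Type*} [Field F] [Fintype F] (m : ℕ) (hm : 2 ≤ m) (h : m = 2 → 3 ≤ Fintype.card F) : IsSimpleGroup (Cfsg.PSp m F) := by
  have hperf : commutator (Matrix.symplecticGroup (Fin m) F) = ⊤ := by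
    apply Cfsg.Agent.S0269.result m
    by_cases h2 : m = 2
    · exact Or.inr (Or.inl ⟨h2, h h2⟩)
    · exact Or.inl (by omega)
  let _ := act (F := F) m
  have : MulAction.IsPreprimitive (Matrix.symplecticGroup (Fin m) F)
      (Projectivization F (Fin m ⊕ Fin m → F)) := preprim m (by omega)
  have hZ : Subgroup.center (Matrix.symplecticGroup (Fin m) F) ≠ ⊤ := by
    intro hZ
    have h1 := (commutator_eq_bot_iff_center_eq_top _).mpr hZ
    rw [hperf] at h1
    have h2 : tv m (Pi.single (Sum.inl ⟨0, by omega⟩) 1 : Fin m ⊕ Fin m → F) 1 ∈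
        (⊤ : Subgroup (Matrix.symplecticGroup (Fin m) F)) := trivial
    rw [h1, Subgroup.mem_bot] at h2
    exact tv_ne_one m _ h2
  have : Nontrivial (Cfsg.PSp m F) := by
    obtain ⟨g, hg⟩ : ∃ g : Matrix.symplecticGroup (Fin m) F,
        g ∉ Subgroup.center (Matrix.symplecticGroup (Fin m) F) := by
      by_contra hcon
      push Not at hcon
      exact hZ (eq_top_iff.mpr fun g _ => hcon g)
    refine ⟨⟨(g : Cfsg.PSp m F), 1, ?_⟩⟩
    intro h1
    exact hg ((QuotientGroup.eq_one_iff g).mp h1)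
  refine ⟨fun K hK => ?_⟩
  set N : Subgroup (Matrix.symplecticGroup (Fin m) F) :=
    K.comap (QuotientGroup.mk' (Subgroup.center (Matrix.symplecticGroup (Fin m) F))) with hN
  have : N.Normal := hK.comap _
  by_cases hfp : MulAction.fixedPoints N (Projectivization F (Fin m ⊕ Fin m → F)) = Set.univ
  · left
    rw [eq_bot_iff]
    intro x hx
    obtain ⟨g, rfl⟩ := QuotientGroup.mk_surjective x
    have hgN : g ∈ N := hx
    have hgZ : g ∈ Subgroup.center (Matrix.symplecticGroup (Fin m) F) := by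
      apply mem_center_of_fixes m g
      intro p
      have hp : p ∈ MulAction.fixedPoints N (Projectivization F (Fin m ⊕ Fin m → F)) := by
        rw [hfp]; trivial
      exact hp ⟨g, hgN⟩
    rw [Subgroup.mem_bot]
    exact (QuotientGroup.eq_one_iff g).mpr hgZ
  · right
    have hle := (iwa (F := F) m).commutator_le N hfp
    rw [hperf, top_le_iff] at hle
    rw [eq_top_iff]
    intro x _
    obtain ⟨g, rfl⟩ := QuotientGroup.mk_surjective x
    have hgN : g ∈ N := by rw [hle]; trivial
    exact hgN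

end Cfsg.Agent.S0270
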