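-- Statement S0938
import Cfsg.Statements.S0938
import Cfsg.Agent.Lib.Helper22.BlockQuot
import Cfsg.Agent.Lib.Helper21.OsimaApps
import Cfsg.Agent.Lib.Helper82.BlockBasic

set_option autoImplicit false
open Cfsg

namespace Cfsg.Agent.S0938

open Cfsg.Agent.Lib.Helper22 Cfsg.Agent.Lib.Helper83 Cfsg.Agent.Lib.Helper82
open Cfsg.Agent.Lib.Helper21
open scoped ComplexConjugate

/-- The block idempotent coefficient function is idempotent under convolution. -/
theorem blockCoeff_conv_self {G : Type*} [Group G] [Fintype G] [Fintype (IrrCharacter G)]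
    (B : Set (IrrCharacter G)) (g : G) :
    blockCoeff B g = conv (blockCoeff B) (blockCoeff B) g := by
  classical
  apply blockCoeff_eq_of_omega B
    (conv_isClassFunction (blockCoeff_isClassFunction B) (blockCoeff_isClassFunction B))
  intro χ
  rw [omega_conv χ.2 _ _ (blockCoeff_isClassFunction B), omega_blockCoeff]
  split_ifs <;> simp

/-- The block idempotent coefficient is invariant under translation by elements in the kernel of
the block. -/
theorem blockCoeff_mul_of_mem_ker {G : Type*} [Group G] [Finite G]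
    (B : Set (IrrCharacter G)) {k : G} (hk : ∀ ψ ∈ B, (ψ : G → ℂ) k = (ψ : G → ℂ) 1) (g : G) :
    blockCoeff B (g * k) = blockCoeff B g := by
  unfold blockCoeff
  congr 1
  apply finsum_congr
  intro ψ
  apply finsum_congr
  intro hψ
  rw [char_mul_of_mem_ker' (isCharacter_of_irr ψ.2) (hk ψ hψ) g]

/-- If `p` divides the order of a normal subgroup contained in the kernel of the block of `χ₀`,
all idempotent coefficients lie in the local ideal. -/
theorem memLocalIdeal_blockCoeff {G : Type*} [Group G] [Fintype G] [Fintype (IrrCharacter G)]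
    {p : ℕ} {M : Ideal AlgInt} (hM : IsPModular p M) (χ₀ : IrrCharacter G)
    (K : Subgroup G) [K.Normal]
    (hK : ∀ k ∈ K, ∀ ψ ∈ blockOf M (χ₀ : G → ℂ), (ψ : G → ℂ) k = (ψ : G → ℂ) 1)
    (hp : p ∣ Nat.card K) (g : G) :
    MemLocalIdeal M (blockCoeff (blockOf M (χ₀ : G → ℂ)) g) := by
  classical
  have hprime : M.IsPrime := hM.2.1.isPrime
  set B := blockOf M (χ₀ : G → ℂ) with hB
  let _ : Fintype (G ⧸ K) := Fintype.ofFinite _
  rw [blockCoeff_conv_self B g]
  unfold conv
  set F : G ⧸ K → ℂ := fun q => blockCoeff B (Quotient.out q) * blockCoeff B ((Quotient.out q)⁻¹ * g)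
    with hF
  have hsum : ∑ x : G, blockCoeff B x * blockCoeff B (x⁻¹ * g)
      = ∑ x : G, F (QuotientGroup.mk x) := by
    apply Finset.sum_congr rfl
    intro x _
    simp only [hF]
    obtain ⟨k, hk⟩ := QuotientGroup.mk_out_eq_mul K x
    rw [hk]
    have h1 : blockCoeff B (x * (k : G)) = blockCoeff B x :=
      blockCoeff_mul_of_mem_ker B (hK k k.2) x
    have h2 : blockCoeff B ((x * (k : G))⁻¹ * g) = blockCoeff B (x⁻¹ * g) := by
      have hmem : g⁻¹ * x * (k : G)⁻¹ * x⁻¹ * g ∈ K := by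
        have h3 : x * (k : G)⁻¹ * x⁻¹ ∈ K :=
          Subgroup.Normal.conj_mem inferInstance _ (K.inv_mem k.2) x
        have h4 := Subgroup.Normal.conj_mem (inferInstance : K.Normal) _ h3 g⁻¹
        have : g⁻¹ * (x * (k : G)⁻¹ * x⁻¹) * g⁻¹⁻¹ = g⁻¹ * x * (k : G)⁻¹ * x⁻¹ * g := by group
        rwa [this] at h4
      have h5 : (x * (k : G))⁻¹ * g = x⁻¹ * g * (g⁻¹ * x * (k : G)⁻¹ * x⁻¹ * g) := by group
      rw [h5]
      exact blockCoeff_mul_of_mem_ker B (hK _ hmem) _
    rw [h1, h2]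
  rw [hsum, sum_comp_quotient_mk K F]
  apply memLocalIdeal_mul_right hprime
  · rw [memLocalIdeal_natCast_iff hM]
    exact hp
  · apply memLocalRing_sum hprime
    intro q _
    exact memLocalRing_mul hprime (memLocalRing_blockCoeff_blockOf hprime χ₀ _)
      (memLocalRing_blockCoeff_blockOf hprime χ₀ _)

theorem result {G : Type*} [Group G] [Finite G] (p : ℕ) [Fact p.Prime] (M : Ideal Cfsg.AlgInt) (hM : Cfsg.IsPModular p M) (B : Set (Cfsg.IrrCharacter G)) (hB : Cfsg.IsPBlock M B) (χ : Cfsg.IrrCharacter G) (hχ : χ ∈ B) : ∃ K : Subgroup G, K.Normal ∧ (K : Set G) = Cfsg.blockKer B ∧ ¬ p ∣ Nat.card K ∧ (∀ g ∈ K, (χ : G → ℂ) g = (χ : G → ℂ) 1) ∧ ∀ N : Subgroup G, N.Normal → ¬ p ∣ Nat.card N → (∀ g ∈ N, (χ : G → ℂ) g = (χ : G → ℂ) 1) → N ≤ K := by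
  classical
  let _ : Fintype G := Fintype.ofFinite G
  let _ : Fintype (IrrCharacter G) := Fintype.ofFinite _
  have hprime : M.IsPrime := hM.2.1.isPrime
  set K : Subgroup G := ⨅ ψ : IrrCharacter G, ⨅ (_ : ψ ∈ B), charKer (isCharacter_of_irr ψ.2)
    with hKdef
  have hmemK : ∀ g : G, g ∈ K ↔ ∀ ψ ∈ B, (ψ : G → ℂ) g = (ψ : G → ℂ) 1 := by
    intro g
    simp only [hKdef, Subgroup.mem_iInf, mem_charKer]
  have hKn : K.Normal := by
    apply Subgroup.normal_iInf_normal
    intro ψ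
    apply Subgroup.normal_iInf_normal
    intro _
    infer_instance
  refine ⟨K, hKn, ?_, ?_, ?_, ?_⟩
  · ext g
    rw [SetLike.mem_coe, hmemK]
    rfl
  · intro hp
    have hBeq := IsPBlock.eq_blockOf hprime hB hχ
    obtain ⟨g, hg⟩ := exists_isDefectClass hprime χ
    apply hg.2.1
    apply memLocalIdeal_blockCoeff hM χ K _ hp g
    intro k hk ψ hψ
    rw [← hBeq] at hψ
    exact (hmemK k).1 hk ψ hψ
  · intro g hg
    exact (hmemK g).1 hg χ hχ
  · intro N hN hpN hker g hg
    rw [hmemK]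
    intro ψ hψ
    exact ker_of_sameBlock hM N hpN χ.2 ψ.2 (IsPBlock.sameBlock hprime hB hχ hψ) hker g hg

end Cfsg.Agent.S0938
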