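import Cfsg.Statements.S0942
import Cfsg.Agent.Lib.Helper22.BlockPartSum
import Cfsg.Agent.Lib.Helper42.PPrimeCore
import Cfsg.Agent.Lib.Helper05.CharBasic
import Cfsg.Agent.S0923
import Cfsg.Agent.S0936
import Cfsg.Agent.S0938

set_option autoImplicit false
open Cfsg

namespace Cfsg.Agent.S0942

open Cfsg.Agent.Lib.Helper21 Cfsg.Agent.Lib.Helper82 Cfsg.Agent.Lib.Helper83
open Cfsg.Agent.Lib.Helper22 Cfsg.Agent.Lib.Helper42

theorem isPBlock_principalBlock (M : Ideal AlgInt) (G : Type*) [Group G] :
    IsPBlock M (principalBlock M G) :=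
  ⟨⟨fun _ => 1, Cfsg.Agent.Lib.Helper05.isIrrCharacter_one⟩, rfl⟩

/-- Let u be a p-element of the finite group G, let v lie in the largest normal subgroup of C_G(u) of order prime to p, and let χ belong to the principal block (relative to a maximal ideal M of the algebraic integers containing p). Then χ (u * v) = χ u. -/
theorem result {G : Type*} [Group G] [Finite G] (p : ℕ) [Fact p.Prime] (M : Ideal Cfsg.AlgInt) (hM : Cfsg.IsPModular p M) (u : G) (hu : ∃ k : ℕ, orderOf u = p ^ k) (v : G) (hv : v ∈ Cfsg.centralizerPPrimeCore p u) (χ : Cfsg.IrrCharacter G) (hχ : χ ∈ Cfsg.principalBlock M G) : (χ : G → ℂ) (u * v) = (χ : G → ℂ) u := by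
  classical
  have hp : p.Prime := hM.1
  have hMp : M.IsPrime := hM.2.1.isPrime
  obtain ⟨w, hw, rfl⟩ := hv
  rw [Subgroup.coe_subtype]
  have hχc : IsCharacter G (χ : G → ℂ) := IrrCharacter_isCharacter χ
  -- the class function `ϑ(c) = χ(u c)` on the centralizer of `u`
  set ϑ : Subgroup.centralizer ({u} : Set G) → ℂ := fun c => (χ : G → ℂ) (u * (c : G)) with hϑdef
  have hϑ : IsClassFunction (Subgroup.centralizer ({u} : Set G)) ϑ := by
    intro c c'
    have hc' : u * (c' : G) = (c' : G) * u := (Subgroup.mem_centralizer_iff.1 c'.2) u rfl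
    have h1 : u * ((c' * c * c'⁻¹ : Subgroup.centralizer ({u} : Set G)) : G) =
        (c' : G) * (u * (c : G)) * (c' : G)⁻¹ := by
      push_cast
      calc u * ((c' : G) * (c : G) * (c' : G)⁻¹) = (u * (c' : G)) * (c : G) * (c' : G)⁻¹ := by group
        _ = ((c' : G) * u) * (c : G) * (c' : G)⁻¹ := by rw [hc']
        _ = (c' : G) * (u * (c : G)) * (c' : G)⁻¹ := by group
    change (χ : G → ℂ) (u * ((c' * c * c'⁻¹ : Subgroup.centralizer ({u} : Set G)) : G)) =
      (χ : G → ℂ) (u * (c : G))
    rw [h1]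
    exact char_isClassFunction hχc _ _
  have hB₀ := isPBlock_principalBlock M (Subgroup.centralizer ({u} : Set G))
  -- all other block parts vanish at `p`-regular elements
  have hkey : ∀ y : Subgroup.centralizer ({u} : Set G), ¬ p ∣ orderOf y →
      ϑ y = blockPart (principalBlock M (Subgroup.centralizer ({u} : Set G))) ϑ y := by
    intro y hy
    apply eq_blockPart_of_forall_ne hMp hϑ y hB₀
    intro b hb hne
    apply Cfsg.Agent.S0923.result p M hM u hu (principalBlock M G)
      (isPBlock_principalBlock M G) χ hχ b hb _ y hy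
    intro hind
    exact hne ((Cfsg.Agent.S0936.result p M hM _ b ⟨_, hind⟩).1 hind)
  -- `w` is `p`-regular and lies in the kernel of the principal block
  have hwreg : ¬ p ∣ orderOf w := by
    intro hdiv
    have h1 : orderOf (⟨w, hw⟩ : pPrimeCore p (Subgroup.centralizer ({u} : Set G))) ∣
        Nat.card (pPrimeCore p (Subgroup.centralizer ({u} : Set G))) := orderOf_dvd_natCard _
    rw [Subgroup.orderOf_mk] at h1
    have hco := pPrimeCore_card_coprime p (Subgroup.centralizer ({u} : Set G))
    exact hp.not_dvd_one (hco ▸ Nat.dvd_gcd (hdiv.trans h1) dvd_rfl)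
  have hker : ∀ ξ ∈ principalBlock M (Subgroup.centralizer ({u} : Set G)),
      (ξ : Subgroup.centralizer ({u} : Set G) → ℂ) w =
        (ξ : Subgroup.centralizer ({u} : Set G) → ℂ) 1 := by
    obtain ⟨K, _, hKker, _, _, hKmax⟩ := Cfsg.Agent.S0938.result p M hM
      (principalBlock M (Subgroup.centralizer ({u} : Set G))) hB₀
      ⟨fun _ => 1, Cfsg.Agent.Lib.Helper05.isIrrCharacter_one⟩
      (mem_blockOf_self hMp ⟨fun _ => 1, Cfsg.Agent.Lib.Helper05.isIrrCharacter_one⟩)
    have hle := hKmax (pPrimeCore p (Subgroup.centralizer ({u} : Set G)))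
      (pPrimeCore_normal p _)
      (fun hdiv => by
        have hco := pPrimeCore_card_coprime p (Subgroup.centralizer ({u} : Set G))
        exact hp.not_dvd_one (hco ▸ Nat.dvd_gcd hdiv dvd_rfl))
      (fun _ _ => rfl)
    have hwK : w ∈ (K : Set _) := hle hw
    rw [hKker] at hwK
    exact hwK
  have h1 := hkey w hwreg
  have h2 := hkey 1 (by rw [orderOf_one]; exact hp.not_dvd_one)
  have h3 : blockPart (principalBlock M (Subgroup.centralizer ({u} : Set G))) ϑ w =
      blockPart (principalBlock M (Subgroup.centralizer ({u} : Set G))) ϑ 1 := by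
    let _ : Fintype (Subgroup.centralizer ({u} : Set G)) := Fintype.ofFinite _
    let _ : Fintype (IrrCharacter (Subgroup.centralizer ({u} : Set G))) := Fintype.ofFinite _
    rw [Cfsg.Agent.Lib.Helper81.blockPart_apply, Cfsg.Agent.Lib.Helper81.blockPart_apply]
    apply finsum_mem_congr rfl
    intro ξ hξ
    rw [hker ξ hξ]
  have h4 : ϑ w = ϑ 1 := by rw [h1, h3, ← h2]
  simpa [hϑdef] using h4

end Cfsg.Agent.S0942
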