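-- Statement S0943
import Cfsg.Statements.S0943
import Cfsg.Agent.Lib.Helper84.Schur

set_option autoImplicit false
open Cfsg

namespace Cfsg.Agent.S0943

open Cfsg.Agent.Lib.Helper84

/-- Let χ be an irreducible character of the finite group G and u, v ∈ G. If χ (x * y) = χ (u * v) whenever x is conjugate to u and y is conjugate to v, then χ u * χ v = χ 1 * χ (u * v). (Multiply the class sums of u and v and apply the central character of χ.) -/
theorem result {G : Type*} [Group G] [Finite G] (χ : Cfsg.IrrCharacter G) (u v : G) (hc : ∀ x y : G, IsConj u x → IsConj v y → (χ : G → ℂ) (x * y) = (χ : G → ℂ) (u * v)) : (χ : G → ℂ) u * (χ : G → ℂ) v = (χ : G → ℂ) 1 * (χ : G → ℂ) (u * v) := by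
  classical
  have := Fintype.ofFinite G
  obtain ⟨χ, n, ρ, hirr, rfl⟩ := χ
  have : ρ.IsIrreducible := hirr
  simp only at hc ⊢
  have hu := sum_conj_eq_smul ρ u
  have hv := sum_conj_eq_smul ρ v
  set N : ℂ := (Fintype.card G : ℂ) with hN
  set d : ℂ := (Module.finrank ℂ (Fin n → ℂ) : ℂ) with hd
  have hd0 : d ≠ 0 := irr_finrank_ne_zero ρ
  have hN0 : N ≠ 0 := by
    rw [hN]; exact_mod_cast Fintype.card_ne_zero
  -- product of the two class sums
  have hprod : (∑ y : G, ρ (y * u * y⁻¹)) * (∑ z : G, ρ (z * v * z⁻¹)) =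
      ((N * ρ.character u / d) * (N * ρ.character v / d)) • (1 : Module.End ℂ (Fin n → ℂ)) := by
    rw [hu, hv]
    rw [smul_mul_smul_comm]
    rfl
  have htr := congrArg (LinearMap.trace ℂ (Fin n → ℂ)) hprod
  rw [Finset.sum_mul_sum, map_sum] at htr
  have hterm : ∀ y z : G, LinearMap.trace ℂ (Fin n → ℂ) (ρ (y * u * y⁻¹) * ρ (z * v * z⁻¹)) =
      ρ.character (u * v) := by
    intro y z
    rw [← map_mul]
    exact hc _ _ (isConj_iff.mpr ⟨y, rfl⟩) (isConj_iff.mpr ⟨z, rfl⟩)
  simp_rw [map_sum, hterm] at htr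
  rw [Finset.sum_const, Finset.sum_const, map_smul, LinearMap.trace_one, smul_eq_mul,
    Finset.card_univ, nsmul_eq_mul, nsmul_eq_mul, ← hN, ← hd] at htr
  rw [Representation.char_one, ← hd]
  field_simp at htr
  rw [← htr]; ring

end Cfsg.Agent.S0943
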