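-- Statement S0939
import Cfsg.Statements.S0939
import Cfsg.Agent.Lib.Helper22.BlockQuot
import Cfsg.Agent.Lib.Helper42.PPrimeCore
import Cfsg.Agent.Lib.Helper05.CharBasic

set_option autoImplicit false
open Cfsg

namespace Cfsg.Agent.S0939

open Cfsg.Agent.Lib.Helper22 Cfsg.Agent.Lib.Helper83

theorem result {G : Type*} [Group G] [Finite G] (p : ℕ) [Fact p.Prime] (M : Ideal Cfsg.AlgInt) (hM : Cfsg.IsPModular p M) (hnc : ∃ k : ℕ, (Cfsg.pPrimeCore p G).index = p ^ k) : Cfsg.principalBlock M G = {χ : Cfsg.IrrCharacter G | ∀ n ∈ Cfsg.pPrimeCore p G, (χ : G → ℂ) n = (χ : G → ℂ) 1} := by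
  classical
  have hp : p.Prime := Fact.out
  have hnorm : (Cfsg.pPrimeCore p G).Normal := Cfsg.Agent.Lib.Helper42.pPrimeCore_normal p G
  have hcop : ¬ p ∣ Nat.card (Cfsg.pPrimeCore p G) := by
    have h := Cfsg.Agent.Lib.Helper42.pPrimeCore_card_coprime p G
    intro hdvd
    exact hp.one_lt.ne' (Nat.eq_one_of_dvd_coprimes h hdvd (dvd_refl p))
  have hone : Cfsg.IsIrrCharacter G (fun _ => (1 : ℂ)) := Cfsg.Agent.Lib.Helper05.isIrrCharacter_one
  ext χ
  simp only [Cfsg.principalBlock, Cfsg.blockOf, Set.mem_ofPred_eq]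
  constructor
  · intro hsb
    exact ker_of_sameBlock hM _ hcop hone χ.2 hsb (fun _ _ => rfl)
  · intro hker
    obtain ⟨χ', hχ'irr, hχ'eq⟩ := exists_isIrrCharacter_quotient (Cfsg.pPrimeCore p G) χ.2 hker
    obtain ⟨k, hk⟩ := hnc
    have hPG : IsPGroup p (G ⧸ Cfsg.pPrimeCore p G) := by
      apply IsPGroup.of_card (n := k)
      rw [← hk, Subgroup.index_eq_card]
    have hone' : Cfsg.IsIrrCharacter (G ⧸ Cfsg.pPrimeCore p G) (fun _ => (1 : ℂ)) :=
      Cfsg.Agent.Lib.Helper05.isIrrCharacter_one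
    have hsb' : Cfsg.SameBlock M (fun _ : G ⧸ Cfsg.pPrimeCore p G => (1 : ℂ)) χ' :=
      sameBlock_of_isPGroup hM hPG hone' hχ'irr
    have hinf := sameBlock_inflate hM.2.1.isPrime (Cfsg.pPrimeCore p G) hsb'
    have h1 : ((fun _ : G ⧸ Cfsg.pPrimeCore p G => (1 : ℂ)) ∘
        (QuotientGroup.mk : G → G ⧸ Cfsg.pPrimeCore p G)) = fun _ => (1 : ℂ) := rfl
    have h2 : χ' ∘ (QuotientGroup.mk : G → G ⧸ Cfsg.pPrimeCore p G) = (χ : G → ℂ) := by
      funext g
      exact hχ'eq g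
    rw [h1, h2] at hinf
    exact hinf

end Cfsg.Agent.S0939
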