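import Cfsg.Statements.S0947
-- import your own Cfsg.Agent.* helpers here
import Cfsg.Agent.Lib.Helper22.SectionOrth
import Cfsg.Agent.Lib.Helper22.PrincipalSection
import Cfsg.Agent.Lib.Helper42.PPrimeCore
import Cfsg.Agent.Lib.Helper83.Quotient
import Cfsg.Agent.S0939

set_option autoImplicit false
set_option linter.style.haveILetI false
open Cfsg

namespace Cfsg.Agent.S0947

open Cfsg.Agent.Lib.Helper21 Cfsg.Agent.Lib.Helper82 Cfsg.Agent.Lib.Helper83 Cfsg.Agent.Lib.Helper22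
open scoped ComplexConjugate

open Classical in
theorem finsum_mem_normsq_eq {ι : Type*} [Fintype ι] (A : Set ι) (F : ι → ℂ) :
    ((∑ᶠ i ∈ A, ‖F i‖ ^ 2 : ℝ) : ℂ) = ∑ i : ι, if i ∈ A then F i * conj (F i) else 0 := by
  rw [finsum_mem_eq_finite_toFinset_sum _ (Set.toFinite A), ← Finset.sum_filter]
  push_cast
  apply Finset.sum_congr
  · ext i; simp
  · intro i _
    rw [Complex.mul_conj, Complex.normSq_eq_norm_sq]
    push_cast
    rfl

theorem mem_pPrimeCore_of_pRegular {H : Type*} [Group H] [Finite H] (p : ℕ) [Fact p.Prime]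
    (hnc : ∃ k : ℕ, (Cfsg.pPrimeCore p H).index = p ^ k) (y : H) (hy : ¬ p ∣ orderOf y) :
    y ∈ Cfsg.pPrimeCore p H := by
  have hp : p.Prime := Fact.out
  haveI : (Cfsg.pPrimeCore p H).Normal := Cfsg.Agent.Lib.Helper42.pPrimeCore_normal p H
  obtain ⟨k, hk⟩ := hnc
  rw [← QuotientGroup.eq_one_iff, ← orderOf_eq_one_iff]
  set q : H ⧸ Cfsg.pPrimeCore p H := (y : H ⧸ Cfsg.pPrimeCore p H) with hq
  have h1 : orderOf q ∣ orderOf y :=
    orderOf_map_dvd (QuotientGroup.mk' (Cfsg.pPrimeCore p H)) y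
  have h2 : orderOf q ∣ p ^ k := by
    rw [← hk, Subgroup.index_eq_card]
    exact orderOf_dvd_natCard q
  obtain ⟨j, -, hj⟩ := (Nat.dvd_prime_pow hp).1 h2
  rcases Nat.eq_zero_or_pos j with h0 | hpos
  · rw [hj, h0, pow_zero]
  · exfalso
    apply hy
    refine dvd_trans ?_ h1
    rw [hj]
    exact dvd_pow_self p hpos.ne'

theorem factorization_card_of_index {H : Type*} [Group H] [Finite H] (p : ℕ) [Fact p.Prime]
    (k : ℕ) (hk : (Cfsg.pPrimeCore p H).index = p ^ k) :
    (Nat.card H).factorization p = k := by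
  have hp : p.Prime := Fact.out
  have hco := Cfsg.Agent.Lib.Helper42.pPrimeCore_card_coprime p H
  rw [← Subgroup.card_mul_index (Cfsg.pPrimeCore p H), hk,
    Nat.factorization_mul Nat.card_pos.ne' (pow_ne_zero _ hp.ne_zero)]
  rw [Finsupp.add_apply, Nat.factorization_pow, Finsupp.smul_apply, hp.factorization_self,
    Nat.factorization_eq_zero_of_not_dvd]
  · simp
  · intro hdvd
    have := Nat.Coprime.eq_one_of_dvd hco.symm hdvd
    exact hp.one_lt.ne' this

open Classical in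
theorem part_two {H : Type*} [Group H] [Finite H] (p : ℕ) [Fact p.Prime]
    (M : Ideal Cfsg.AlgInt) (hM : Cfsg.IsPModular p M)
    (hnc : ∃ k : ℕ, (Cfsg.pPrimeCore p H).index = p ^ k) (y : H) (hy : ¬ p ∣ orderOf y) :
    ∑ᶠ χ ∈ Cfsg.principalBlock M H, ‖(χ : H → ℂ) y‖ ^ 2 =
      ((p ^ (Nat.card H).factorization p : ℕ) : ℝ) := by
  let _ : Fintype H := Fintype.ofFinite H
  let _ : Fintype (IrrCharacter H) := Fintype.ofFinite _
  haveI : (Cfsg.pPrimeCore p H).Normal := Cfsg.Agent.Lib.Helper42.pPrimeCore_normal p H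
  let _ : Fintype (H ⧸ Cfsg.pPrimeCore p H) := Fintype.ofFinite _
  let _ : Fintype (IrrCharacter (H ⧸ Cfsg.pPrimeCore p H)) := Fintype.ofFinite _
  have hyN := mem_pPrimeCore_of_pRegular p hnc y hy
  have hpb := Cfsg.Agent.S0939.result p M hM hnc
  obtain ⟨k, hk⟩ := hnc
  rw [factorization_card_of_index p k hk]
  apply Complex.ofReal_injective
  rw [finsum_mem_normsq_eq]
  have hmem : ∀ χ : IrrCharacter H, χ ∈ Cfsg.principalBlock M H ↔
      ∀ n ∈ Cfsg.pPrimeCore p H, (χ : H → ℂ) n = (χ : H → ℂ) 1 := by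
    intro χ; rw [hpb]; rfl
  have h1 : ∀ χ : IrrCharacter H,
      (if χ ∈ Cfsg.principalBlock M H
        then (χ : H → ℂ) y * conj ((χ : H → ℂ) y) else 0) =
      (if (∀ n ∈ Cfsg.pPrimeCore p H, (χ : H → ℂ) n = (χ : H → ℂ) 1)
        then ((χ : H → ℂ) 1) ^ 2 else 0) := by
    intro χ
    by_cases h : ∀ n ∈ Cfsg.pPrimeCore p H, (χ : H → ℂ) n = (χ : H → ℂ) 1
    · rw [if_pos ((hmem χ).2 h), if_pos h, h y hyN]
      have := char_inv (IrrCharacter_isCharacter χ) (1 : H)
      rw [inv_one] at this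
      rw [← this, sq]
    · rw [if_neg (fun h' => h ((hmem χ).1 h')), if_neg h]
  refine (Finset.sum_congr rfl (fun χ _ => h1 χ)).trans ?_
  rw [← Finset.sum_filter, ← Finset.sum_subtype_eq_sum_filter]
  rw [Finset.subtype_univ]
  rw [← Equiv.sum_comp (irrQuotientEquiv (Cfsg.pPrimeCore p H))]
  have h3 : ∀ ψ : IrrCharacter (H ⧸ Cfsg.pPrimeCore p H),
      (((irrQuotientEquiv (Cfsg.pPrimeCore p H) ψ : IrrCharacter H) : H → ℂ) 1) ^ 2 =
      ((ψ : H ⧸ Cfsg.pPrimeCore p H → ℂ) 1) ^ 2 := by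
    intro ψ
    rw [irrQuotientEquiv_apply]
    rfl
  rw [Finset.sum_congr rfl (fun ψ _ => h3 ψ), sum_irr_degree_sq, ← Subgroup.index_eq_card, hk]
  push_cast
  rfl

open Classical in
theorem part_one {G : Type*} [Group G] [Finite G] (p : ℕ) [Fact p.Prime] (M : Ideal Cfsg.AlgInt)
    (hM : Cfsg.IsPModular p M) (z : G) (hz : ∃ k : ℕ, orderOf z = p ^ k)
    (y : Subgroup.centralizer ({z} : Set G)) (hy : ¬ p ∣ orderOf y) :
    (∑ᶠ ζ ∈ Cfsg.principalBlock M G, ‖(ζ : G → ℂ) (z * (y : G))‖ ^ 2 =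
      ∑ᶠ χ ∈ Cfsg.principalBlock M (Subgroup.centralizer ({z} : Set G)),
        ‖(χ : Subgroup.centralizer ({z} : Set G) → ℂ) y‖ ^ 2) := by
  let _ : Fintype G := Fintype.ofFinite G
  let _ : Fintype (IrrCharacter G) := Fintype.ofFinite _
  let _ : Fintype (Subgroup.centralizer ({z} : Set G)) := Fintype.ofFinite _
  let _ : Fintype (IrrCharacter (Subgroup.centralizer ({z} : Set G))) := Fintype.ofFinite _
  apply Complex.ofReal_injective
  rw [finsum_mem_normsq_eq, finsum_mem_normsq_eq]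
  let χ₀ : IrrCharacter (Subgroup.centralizer ({z} : Set G)) :=
    ⟨fun _ => 1, Cfsg.Agent.Lib.Helper05.isIrrCharacter_one⟩
  have h2 := sum_blockPart_shift z hM hz χ₀ y hy
  have h3 : blockOf M (χ₀ : Subgroup.centralizer ({z} : Set G) → ℂ) =
      principalBlock M (Subgroup.centralizer ({z} : Set G)) := rfl
  rw [h3] at h2
  rw [← h2]
  apply Finset.sum_congr rfl
  intro ζ _
  rw [blockPart_principal_shift hM z hz ζ y hy]
  split_ifs
  · rfl
  · rw [zero_mul]

/-- Let z ≠ 1 be a p-element of the finite group G with centralizer H, and fix a maximal ideal M of the algebraic integers containing p. (i) For every y ∈ H of order prime to p, the sum over ζ in the principal block of G of |ζ (z * y)|² equals the sum over χ in the principal block of H of |χ y|². (ii) If moreover H has a normal p-complement (its largest normal subgroup of order prime to p has p-power index), that common value is the largest power of p dividing the order of H. -/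
theorem result {G : Type*} [Group G] [Finite G] (p : ℕ) [Fact p.Prime] (M : Ideal Cfsg.AlgInt) (hM : Cfsg.IsPModular p M) (z : G) (hz : ∃ k : ℕ, orderOf z = p ^ k) (hz1 : z ≠ 1) (y : Subgroup.centralizer ({z} : Set G)) (hy : ¬ p ∣ orderOf y) : (∑ᶠ ζ ∈ Cfsg.principalBlock M G, ‖(ζ : G → ℂ) (z * (y : G))‖ ^ 2 = ∑ᶠ χ ∈ Cfsg.principalBlock M (Subgroup.centralizer ({z} : Set G)), ‖(χ : Subgroup.centralizer ({z} : Set G) → ℂ) y‖ ^ 2) ∧ ((∃ k : ℕ, (Cfsg.pPrimeCore p (Subgroup.centralizer ({z} : Set G))).index = p ^ k) → ∑ᶠ ζ ∈ Cfsg.principalBlock M G, ‖(ζ : G → ℂ) (z * (y : G))‖ ^ 2 = ((p ^ (Nat.card (Subgroup.centralizer ({z} : Set G))).factorization p : ℕ) : ℝ)) := by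
  have h1 := part_one p M hM z hz y hy
  refine ⟨h1, ?_⟩
  intro hnc
  rw [h1]
  exact part_two p M hM hnc y hy

end Cfsg.Agent.S0947
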