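import Cfsg.Statements.S0843
import Mathlib
import Cfsg.Agent.Lib.Helper20.UniqueInvolution
import Cfsg.Agent.Lib.Helper20.QuaternionFacts

set_option autoImplicit false
open Cfsg
open Cfsg.Agent.Lib.Helper20

namespace Cfsg.Agent.S0843

/-- the derived subgroup of a Sylow subgroup isomorphic to a quaternion group is commutative -/
theorem derived_comm {G : Type*} [Group G] (S : Subgroup G) (m : ℕ)
    (e : S ≃* QuaternionGroup m) (x y : G) (hx : x ∈ ⁅S, S⁆) (hy : y ∈ ⁅S, S⁆) :
    x * y = y * x := by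
  rw [← Subgroup.map_subtype_commutator] at hx hy
  obtain ⟨x', hx', rfl⟩ := hx
  obtain ⟨y', hy', rfl⟩ := hy
  have hmap : ∀ z ∈ commutator S, e z ∈ commutator (QuaternionGroup m) := by
    intro z hz
    have h1 : e z ∈ (commutator S).map e.toMonoidHom := ⟨z, hz, rfl⟩
    rw [commutator_def, Subgroup.map_commutator] at h1
    exact Subgroup.commutator_mono le_top le_top h1
  have := quat_commutator_comm (e x') (e y') (hmap x' hx') (hmap y' hy')
  rw [← map_mul, ← map_mul] at this
  have h2 := e.injective this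
  show ((x' * y' : S) : G) = ((y' * x' : S) : G)
  rw [h2]

/-- unique involution in any Sylow 2-subgroup -/
theorem sylow_unique_involution {G : Type*} [Group G] [Finite G] (S S' : Sylow 2 G) (m : ℕ)
    [NeZero m] (e : (S : Subgroup G) ≃* QuaternionGroup m) (g h : G) (hg : g ∈ S') (hh : h ∈ S')
    (hog : orderOf g = 2) (hoh : orderOf h = 2) : g = h := by
  have : Fact (Nat.Prime 2) := ⟨Nat.prime_two⟩
  let e' : (S' : Subgroup G) ≃* QuaternionGroup m := (Sylow.equiv S' S).trans e
  have h1 : orderOf (e' ⟨g, hg⟩) = 2 := by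
    rw [MulEquiv.orderOf_eq]
    exact (Subgroup.orderOf_mk g hg).trans hog
  have h2 : orderOf (e' ⟨h, hh⟩) = 2 := by
    rw [MulEquiv.orderOf_eq]
    exact (Subgroup.orderOf_mk h hh).trans hoh
  have := quat_unique_involution _ _ h1 h2
  have h3 := e'.injective this
  exact congrArg Subtype.val h3

theorem part1 {G : Type*} [Group G] [Finite G] (S : Sylow 2 G) (m : ℕ) [NeZero m]
    (e : (S : Subgroup G) ≃* QuaternionGroup m) (D : Subgroup G)
    (hD : D = ⁅(S : Subgroup G), (S : Subgroup G)⁆) :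
    ∀ y : G, y ∈ Subgroup.centralizer (D : Set G) → Nat.card D ∣ orderOf y →
      D ≤ Subgroup.zpowers y := by
  have : Fact (Nat.Prime 2) := ⟨Nat.prime_two⟩
  intro y hyC hdvd
  have hDS : D ≤ S := by rw [hD]; exact Subgroup.commutator_le_self _
  have hDcomm : ∀ x ∈ D, ∀ z ∈ D, x * z = z * x := by
    intro x hx z hz
    rw [hD] at hx hz
    exact derived_comm _ m e x z hx hz
  have hDp : IsPGroup 2 D := IsPGroup.to_le S.isPGroup' hDS
  have hoy : orderOf y ≠ 0 := (orderOf_pos y).ne'
  set y₁ : G := y ^ (orderOf y / Nat.card D) with hy₁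
  have hoy₁ : orderOf y₁ = Nat.card D := orderOf_pow_orderOf_div hoy hdvd
  set D₁ : Subgroup G := Subgroup.zpowers y₁ with hD₁
  have hcardD₁ : Nat.card D₁ = Nat.card D := by rw [hD₁, Nat.card_zpowers, hoy₁]
  have hD₁p : IsPGroup 2 D₁ := by
    obtain ⟨k, hk⟩ := hDp.exists_card_eq
    exact IsPGroup.of_card (hcardD₁.trans hk)
  have hy₁C : y₁ ∈ Subgroup.centralizer (D : Set G) := Subgroup.pow_mem _ hyC _
  have hD₁C : D₁ ≤ Subgroup.centralizer (D : Set G) := by
    rw [hD₁, Subgroup.zpowers_le]; exact hy₁C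
  have hD₁N : D₁ ≤ Subgroup.normalizer (D : Set G) :=
    hD₁C.trans (Subgroup.centralizer_le_normalizer _)
  set A : Subgroup G := D ⊔ D₁ with hA
  have hAp : IsPGroup 2 A := IsPGroup.to_sup_of_normal_left' hDp hD₁p hD₁N
  have hAcomm : ∀ x z : A, x * z = z * x := by
    have hcl : A = Subgroup.closure ((D : Set G) ∪ (D₁ : Set G)) := Subgroup.sup_eq_closure D D₁
    have hcomm : ∀ x ∈ ((D : Set G) ∪ (D₁ : Set G)), ∀ z ∈ ((D : Set G) ∪ (D₁ : Set G)),
        x * z = z * x := by
      intro x hx z hz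
      rcases hx with hx | hx <;> rcases hz with hz | hz
      · exact hDcomm x hx z hz
      · exact (Subgroup.mem_centralizer_iff.mp (hD₁C hz) x hx)
      · exact (Subgroup.mem_centralizer_iff.mp (hD₁C hx) z hz).symm
      · obtain ⟨i, rfl⟩ := Subgroup.mem_zpowers_iff.mp hx
        obtain ⟨j, rfl⟩ := Subgroup.mem_zpowers_iff.mp hz
        exact (Commute.zpow_zpow_self _ i j).eq
    have hmc := Subgroup.isMulCommutative_closure hcomm
    rw [← hcl] at hmc
    intro x z
    exact (isMulCommutative_iff.mp hmc) x z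
  obtain ⟨S', hS'⟩ := hAp.exists_le_sylow
  have hAuniq : ∀ g h : A, orderOf g = 2 → orderOf h = 2 → g = h := by
    intro g h hg hh
    apply Subtype.ext
    refine sylow_unique_involution S S' m e g h (hS' g.2) (hS' h.2) ?_ ?_
    · exact (Subgroup.orderOf_coe g).trans hg
    · exact (Subgroup.orderOf_coe h).trans hh
  have : IsCyclic A := isCyclic_of_unique_involution' hAcomm hAp hAuniq
  have hEq : D = D₁ := subgroup_eq_of_le_cyclic A D D₁ le_sup_left le_sup_right hcardD₁.symm
  rw [hEq, hD₁, Subgroup.zpowers_le]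
  exact Subgroup.npow_mem_zpowers y _

theorem orderOf_conj_eq {G : Type*} [Group G] (g y : G) : orderOf (g * y * g⁻¹) = orderOf y := by
  have := (MulAut.conj g).orderOf_eq y
  simpa [MulAut.conj_apply] using this

theorem part2 {G : Type*} [Group G] [Finite G] (D : Subgroup G)
    (h1 : ∀ y : G, y ∈ Subgroup.centralizer (D : Set G) → Nat.card D ∣ orderOf y →
      D ≤ Subgroup.zpowers y) :
    ∀ g y : G, y ∈ Subgroup.centralizer (D : Set G) → Nat.card D ∣ orderOf y →
      g * y * g⁻¹ ∈ Subgroup.centralizer (D : Set G) → g ∈ Subgroup.normalizer (D : Set G) := by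
  intro g y hy hdvd hy'
  have ho : orderOf (g * y * g⁻¹) = orderOf y := orderOf_conj_eq g y
  have hD1 : D ≤ Subgroup.zpowers y := h1 y hy hdvd
  have hD2 : D ≤ Subgroup.zpowers (g * y * g⁻¹) := h1 _ hy' (by rw [ho]; exact hdvd)
  have hD'le : D.map (MulAut.conj g).toMonoidHom ≤ Subgroup.zpowers (g * y * g⁻¹) := by
    rintro _ ⟨d, hd, rfl⟩
    obtain ⟨k, rfl⟩ := Subgroup.mem_zpowers_iff.mp (hD1 hd)
    show g * y ^ k * g⁻¹ ∈ _
    rw [← conj_zpow]
    exact Subgroup.zpow_mem_zpowers _ _
  have hcard : Nat.card (D.map (MulAut.conj g).toMonoidHom) = Nat.card D :=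
    Subgroup.card_map_of_injective (MulAut.conj g).injective
  have hEq : D.map (MulAut.conj g).toMonoidHom = D :=
    subgroup_eq_of_le_cyclic (Subgroup.zpowers (g * y * g⁻¹)) _ D hD'le hD2 hcard
  rw [Subgroup.mem_normalizer_iff_map_conj_eq]
  exact hEq

theorem part3 {G : Type*} [Group G] (D : Subgroup G) :
    ∀ g y : G, g ∈ Subgroup.normalizer (D : Set G) → y ∈ Subgroup.centralizer (D : Set G) →
      Nat.card D ∣ orderOf y →
      g * y * g⁻¹ ∈ Subgroup.centralizer (D : Set G) ∧ Nat.card D ∣ orderOf (g * y * g⁻¹) := by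
  intro g y hg hy hdvd
  refine ⟨?_, by rw [orderOf_conj_eq]; exact hdvd⟩
  rw [Subgroup.mem_centralizer_iff]
  intro d hd
  have hd' : g⁻¹ * d * g ∈ D := (Subgroup.mem_set_normalizer_iff''.mp hg d).mp hd
  have hc := Subgroup.mem_centralizer_iff.mp hy _ hd'
  calc d * (g * y * g⁻¹) = g * ((g⁻¹ * d * g) * y) * g⁻¹ := by group
    _ = g * (y * (g⁻¹ * d * g)) * g⁻¹ := by rw [hc]
    _ = g * y * g⁻¹ * d := by group

/-- Suppose a Sylow 2-subgroup S of the finite group G is generalized quaternion of order at least 16; let D be the commutator subgroup of S and X the set of elements of the centralizer of D whose order is divisible by the order of D. Then D is contained in the cyclic subgroup generated by any element of X; an element of G conjugating some element of X into the centralizer of D normalizes D; and the normalizer of D maps X to itself under conjugation. -/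
theorem result {G : Type*} [Group G] [Finite G] (S : Sylow 2 G) (n : ℕ) (e : (S : Subgroup G) ≃* QuaternionGroup (2 ^ (n + 2))) (D : Subgroup G) (hD : D = ⁅(S : Subgroup G), (S : Subgroup G)⁆) : (∀ y : G, y ∈ Subgroup.centralizer (D : Set G) → Nat.card D ∣ orderOf y → D ≤ Subgroup.zpowers y) ∧ (∀ g y : G, y ∈ Subgroup.centralizer (D : Set G) → Nat.card D ∣ orderOf y → g * y * g⁻¹ ∈ Subgroup.centralizer (D : Set G) → g ∈ Subgroup.normalizer (D : Set G)) ∧ (∀ g y : G, g ∈ Subgroup.normalizer (D : Set G) → y ∈ Subgroup.centralizer (D : Set G) → Nat.card D ∣ orderOf y → g * y * g⁻¹ ∈ Subgroup.centralizer (D : Set G) ∧ Nat.card D ∣ orderOf (g * y * g⁻¹)) := by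
  have : NeZero (2 ^ (n + 2)) := ⟨pow_ne_zero _ (by norm_num)⟩
  have h1 := part1 S (2 ^ (n + 2)) e D hD
  exact ⟨h1, part2 D h1, part3 D⟩

end Cfsg.Agent.S0843
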