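import Cfsg.Statements.S0842
import Mathlib
import Cfsg.Agent.Lib.Helper20.UniqueInvolution
import Cfsg.Agent.Lib.Helper20.QuaternionFacts
import Cfsg.Agent.S0843
import Cfsg.Agent.Lib.Helper20.SylowNormal

set_option autoImplicit false
open Cfsg
open Cfsg.Agent.Lib.Helper20

namespace Cfsg.Agent.S0842

theorem mulEquiv_mem_commutator {A B : Type*} [Group A] [Group B] (f : A ≃* B) {z : A}
    (hz : z ∈ commutator A) : f z ∈ commutator B := by
  have h1 : f z ∈ (commutator A).map f.toMonoidHom := ⟨z, hz, rfl⟩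
  rw [commutator_def, Subgroup.map_commutator] at h1
  exact Subgroup.commutator_mono le_top le_top h1

/-- (B1) -/
theorem mem_centralizer_iff_rot {G : Type*} [Group G] (S : Subgroup G) (m : ℕ) (hm : 3 ≤ m)
    (e : S ≃* QuaternionGroup m) (D : Subgroup G) (hD : D = ⁅S, S⁆) (s : S) :
    (s : G) ∈ Subgroup.centralizer (D : Set G) ↔ e s ∈ quatRot m := by
  rw [Subgroup.mem_centralizer_iff, ← quat_centralizer_commutator hm]
  constructor
  · intro h q hq
    have hs' : e.symm q ∈ commutator S := mulEquiv_mem_commutator e.symm hq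
    have hd : ((e.symm q : S) : G) ∈ D := by
      rw [hD, ← Subgroup.map_subtype_commutator]
      exact ⟨_, hs', rfl⟩
    have h1 := h _ hd
    have h2 : e.symm q * s = s * e.symm q := Subtype.ext h1
    have h3 := congrArg e h2
    rw [map_mul, map_mul, MulEquiv.apply_symm_apply] at h3
    exact h3
  · intro h d hd
    rw [SetLike.mem_coe, hD, ← Subgroup.map_subtype_commutator] at hd
    obtain ⟨s', hs', rfl⟩ := hd
    have h1 := h (e s') (mulEquiv_mem_commutator e hs')
    rw [← map_mul, ← map_mul] at h1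
    have h2 := e.injective h1
    exact congrArg Subtype.val h2

theorem inf_centralizer_eq {G : Type*} [Group G] (S : Subgroup G) (m : ℕ) (hm : 3 ≤ m)
    (e : S ≃* QuaternionGroup m) (D : Subgroup G) (hD : D = ⁅S, S⁆) :
    S ⊓ Subgroup.centralizer (D : Set G) = ((quatRot m).comap e.toMonoidHom).map S.subtype := by
  ext x
  constructor
  · rintro ⟨hxS, hxC⟩
    refine ⟨⟨x, hxS⟩, ?_, rfl⟩
    exact (mem_centralizer_iff_rot S m hm e D hD ⟨x, hxS⟩).mp hxC
  · rintro ⟨s, hs, rfl⟩
    exact ⟨s.2, (mem_centralizer_iff_rot S m hm e D hD s).mpr hs⟩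

theorem relIndex_inf_centralizer {G : Type*} [Group G] (S : Subgroup G) (m : ℕ) (hm : 3 ≤ m)
    (e : S ≃* QuaternionGroup m) (D : Subgroup G) (hD : D = ⁅S, S⁆) :
    (S ⊓ Subgroup.centralizer (D : Set G)).relIndex S = 2 := by
  rw [inf_centralizer_eq S m hm e D hD, Subgroup.relIndex, Subgroup.subgroupOf,
    Subgroup.comap_map_eq_self_of_injective S.subtype_injective,
    Subgroup.index_comap_of_surjective _ e.surjective]
  exact quatRot_index m

theorem inf_centralizer_comm {G : Type*} [Group G] (S : Subgroup G) (m : ℕ) (hm : 3 ≤ m)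
    (e : S ≃* QuaternionGroup m) (D : Subgroup G) (hD : D = ⁅S, S⁆) (x y : G)
    (hx : x ∈ S ⊓ Subgroup.centralizer (D : Set G))
    (hy : y ∈ S ⊓ Subgroup.centralizer (D : Set G)) : x * y = y * x := by
  rw [inf_centralizer_eq S m hm e D hD] at hx hy
  obtain ⟨s, hs, rfl⟩ := hx
  obtain ⟨t, ht, rfl⟩ := hy
  have h1 := quatRot_comm (e s) (e t) hs ht
  rw [← map_mul, ← map_mul] at h1
  have h2 := e.injective h1
  exact congrArg Subtype.val h2

open scoped commutatorElement in
theorem le_normalizer_derived {G : Type*} [Group G] (S : Subgroup G) :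
    S ≤ Subgroup.normalizer ((⁅S, S⁆ : Subgroup G) : Set G) := by
  rw [Subgroup.le_normalizer_iff]
  intro s hs d hd
  have hdS : d ∈ S := Subgroup.commutator_le_self S hd
  have h1 : ⁅s, d⁆ ∈ ⁅S, S⁆ := Subgroup.commutator_mem_commutator hs hdS
  have h2 : s * d * s⁻¹ = ⁅s, d⁆ * d := by
    rw [commutatorElement_def]; group
  rw [h2]
  exact Subgroup.mul_mem _ h1 hd

theorem normalizer_le_normalizer_centralizer {G : Type*} [Group G] (D : Subgroup G) :
    Subgroup.normalizer (D : Set G) ≤
      Subgroup.normalizer ((Subgroup.centralizer (D : Set G) : Subgroup G) : Set G) := by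
  rw [Subgroup.le_normalizer_iff]
  intro g hg y hy
  rw [Subgroup.mem_centralizer_iff]
  intro d hd
  have hd' : g⁻¹ * d * g ∈ D := (Subgroup.mem_set_normalizer_iff''.mp hg d).mp hd
  have hc := Subgroup.mem_centralizer_iff.mp hy _ hd'
  calc d * (g * y * g⁻¹) = g * ((g⁻¹ * d * g) * y) * g⁻¹ := by group
    _ = g * (y * (g⁻¹ * d * g)) * g⁻¹ := by rw [hc]
    _ = g * y * g⁻¹ * d := by group

theorem main {G : Type*} [Group G] [Finite G] (S : Sylow 2 G) (m : ℕ) (hm : 3 ≤ m)
    (e : (S : Subgroup G) ≃* QuaternionGroup m) (D : Subgroup G)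
    (hD : D = ⁅(S : Subgroup G), (S : Subgroup G)⁆) :
    ∃ K : Subgroup G, Odd (Nat.card K) ∧ K ≤ Subgroup.centralizer (D : Set G) ∧
      Subgroup.normalizer (D : Set G) ≤ Subgroup.normalizer (K : Set G) ∧
      K ⊔ (S : Subgroup G) = Subgroup.normalizer (D : Set G) ∧
      K ⊔ ((S : Subgroup G) ⊓ Subgroup.centralizer (D : Set G)) = Subgroup.centralizer (D : Set G) ∧
      ((Subgroup.centralizer (D : Set G)).subgroupOf (Subgroup.normalizer (D : Set G))).index = 2 := by
  have hfact : Fact (Nat.Prime 2) := ⟨Nat.prime_two⟩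
  have hm0 : NeZero m := ⟨by omega⟩
  set C : Subgroup G := Subgroup.centralizer (D : Set G) with hC
  set N : Subgroup G := Subgroup.normalizer (D : Set G) with hN
  set R : Subgroup G := (S : Subgroup G) ⊓ C with hR
  have hDS : D ≤ S := by rw [hD]; exact Subgroup.commutator_le_self _
  have hDC : D ≤ C := by
    intro d hd
    rw [hC, Subgroup.mem_centralizer_iff]
    intro h hh
    rw [SetLike.mem_coe, hD] at hh
    rw [hD] at hd
    exact Cfsg.Agent.S0843.derived_comm _ m e h d hh hd
  have hSN : (S : Subgroup G) ≤ N := by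
    rw [hN, hD]; exact le_normalizer_derived _
  have hCN : C ≤ N := Subgroup.centralizer_le_normalizer _
  have hNC : N ≤ Subgroup.normalizer (C : Set G) := normalizer_le_normalizer_centralizer D
  have hRS : R ≤ S := inf_le_left
  have hRC : R ≤ C := inf_le_right
  have hDR : D ≤ R := le_inf hDS hDC
  have hRp : IsPGroup 2 R := IsPGroup.to_le S.isPGroup' hRS
  have hRcomm : ∀ x y : R, x * y = y * x := by
    intro x y
    apply Subtype.ext
    exact inf_centralizer_comm _ m hm e D hD x y x.2 y.2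
  have hRuniq : ∀ g h : R, orderOf g = 2 → orderOf h = 2 → g = h := by
    intro g h hg hh
    apply Subtype.ext
    refine Cfsg.Agent.S0843.sylow_unique_involution S S m e g h (hRS g.2) (hRS h.2) ?_ ?_
    · exact (Subgroup.orderOf_coe g).trans hg
    · exact (Subgroup.orderOf_coe h).trans hh
  have hRcyc : IsCyclic R := isCyclic_of_unique_involution' hRcomm hRp hRuniq
  have hDcyc : IsCyclic D := Subgroup.isCyclic_of_le hDR
  have hDp : IsPGroup 2 D := IsPGroup.to_le S.isPGroup' hDS
  have hRrel : R.relIndex S = 2 := relIndex_inf_centralizer _ m hm e D hD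
  have hRodd : ¬ 2 ∣ R.relIndex C := not_dvd_relIndex_inf_of_le_normalizer S C N hSN hCN hNC
  -- cardinalities
  have hcardS : Nat.card (S : Subgroup G) = 4 * m := by
    rw [Nat.card_congr e.toEquiv, Nat.card_eq_fintype_card, QuaternionGroup.card]
  have hcardR : Nat.card R * 2 = 4 * m := by
    rw [← hcardS, ← relIndex_mul_card_of_le hRS, hRrel, mul_comm]
  have hevenC : 2 ∣ Nat.card C := by
    have h1 : Nat.card R ∣ Nat.card C := Subgroup.card_dvd_of_le hRC
    have h2 : 2 ∣ Nat.card R := by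
      have : Nat.card R = 2 * m := by omega
      rw [this]; exact dvd_mul_right 2 m
    exact h2.trans h1
  -- the complement in C
  have hR'cyc : IsCyclic (R.subgroupOf C) :=
    (Subgroup.subgroupOfEquivOfLe hRC).isCyclic.mpr hRcyc
  have hR'p : IsPGroup 2 (R.subgroupOf C) := hRp.comap_subtype
  obtain ⟨K', hK'n, hK'odd, hK'sup, hK'mem⟩ :=
    exists_normal_two_complement (R.subgroupOf C) hR'cyc hR'p hRodd hevenC
  -- K ⊔ R = C
  have hKR : K'.map C.subtype ⊔ R = C := by
    have := congrArg (Subgroup.map C.subtype) hK'sup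
    rw [Subgroup.map_sup, Subgroup.subgroupOf_map_subtype, ← MonoidHom.range_eq_map,
      Subgroup.range_subtype, inf_eq_left.mpr hRC] at this
    exact this
  -- index computations
  obtain ⟨i, hi⟩ := relIndex_centralizer_normalizer_two_pow D hDcyc hDp
  have hCT : C ≤ (S : Subgroup G) ⊔ C := le_sup_right
  have hTN : (S : Subgroup G) ⊔ C ≤ N := sup_le hSN hCN
  have h1 : C.relIndex ((S : Subgroup G) ⊔ C) * ((S : Subgroup G) ⊔ C).relIndex N = C.relIndex N :=
    Subgroup.relIndex_mul_relIndex _ _ _ hCT hTN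
  have h2 : C.relIndex ((S : Subgroup G) ⊔ C) = 2 := by
    rw [relIndex_sup_right_of_le_normalizer _ _ (hSN.trans hNC), ← Subgroup.inf_relIndex_left]
    exact hRrel
  have h3 : ((S : Subgroup G) ⊔ C).relIndex N = 1 := by
    have h4 : ((S : Subgroup G) ⊔ C).relIndex N ∣ 2 ^ i := by
      rw [← hi, ← h1]; exact dvd_mul_left _ _
    have h5 : ((S : Subgroup G) ⊔ C).relIndex N ∣ (S : Subgroup G).index :=
      (Subgroup.relIndex_dvd_of_le_left N le_sup_left).trans
        (Subgroup.relIndex_dvd_index_of_le hSN)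
    have h6 : Nat.Coprime ((S : Subgroup G).index) (2 ^ i) := by
      apply Nat.Coprime.pow_right
      exact Nat.coprime_comm.mp ((Nat.Prime.coprime_iff_not_dvd Nat.prime_two).mpr S.not_dvd_index)
    exact Nat.eq_one_of_dvd_coprimes h6 h5 h4
  have hNT : N ≤ (S : Subgroup G) ⊔ C := Subgroup.relIndex_eq_one.mp h3
  refine ⟨K'.map C.subtype, ?_, ?_, ?_, ?_, ?_, ?_⟩
  · rw [Subgroup.card_map_of_injective C.subtype_injective]
    exact hK'odd
  · exact Subgroup.map_subtype_le K'
  · rw [Subgroup.le_normalizer_iff]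
    rintro g hg _ ⟨k', hk', rfl⟩
    have hmemC : g * (k' : G) * g⁻¹ ∈ C := Subgroup.le_normalizer_iff.mp hNC g hg (k' : G) k'.2
    refine ⟨⟨g * (k' : G) * g⁻¹, hmemC⟩, ?_, rfl⟩
    apply hK'mem
    have h7 : orderOf (⟨g * (k' : G) * g⁻¹, hmemC⟩ : C) = orderOf k' := by
      rw [Subgroup.orderOf_mk, ← Subgroup.orderOf_coe k']
      exact Cfsg.Agent.S0843.orderOf_conj_eq g (k' : G)
    rw [h7]
    have h8 : orderOf (⟨k', hk'⟩ : K') ∣ Nat.card K' := orderOf_dvd_natCard _
    rw [Subgroup.orderOf_mk] at h8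
    exact Odd.of_dvd_nat hK'odd h8
  · apply le_antisymm
    · exact sup_le ((Subgroup.map_subtype_le K').trans hCN) hSN
    · refine hNT.trans (sup_le le_sup_right ?_)
      have hle : K'.map C.subtype ⊔ R ≤ K'.map C.subtype ⊔ (S : Subgroup G) :=
        sup_le le_sup_left (hRS.trans le_sup_right)
      exact (le_of_eq hKR.symm).trans hle
  · exact hKR
  · show C.relIndex N = 2
    rw [← h1, h2, h3]

/-- Suppose a Sylow 2-subgroup S of the finite group G is generalized quaternion of order at least 16, and let D be the commutator subgroup of S, C its centralizer and N its normalizer in G. Then there is a subgroup K of odd order, contained in C and normalized by N, with K ⊔ S = N and K ⊔ (S ⊓ C) = C, and C has index 2 in N. -/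
theorem result {G : Type*} [Group G] [Finite G] (S : Sylow 2 G) (n : ℕ) (e : (S : Subgroup G) ≃* QuaternionGroup (2 ^ (n + 2))) (D : Subgroup G) (hD : D = ⁅(S : Subgroup G), (S : Subgroup G)⁆) : ∃ K : Subgroup G, Odd (Nat.card K) ∧ K ≤ Subgroup.centralizer (D : Set G) ∧ Subgroup.normalizer (D : Set G) ≤ Subgroup.normalizer (K : Set G) ∧ K ⊔ (S : Subgroup G) = Subgroup.normalizer (D : Set G) ∧ K ⊔ ((S : Subgroup G) ⊓ Subgroup.centralizer (D : Set G)) = Subgroup.centralizer (D : Set G) ∧ ((Subgroup.centralizer (D : Set G)).subgroupOf (Subgroup.normalizer (D : Set G))).index = 2 := by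
  have hm : 3 ≤ 2 ^ (n + 2) := by
    have : 2 ^ 2 ≤ 2 ^ (n + 2) := Nat.pow_le_pow_right (by norm_num) (by omega)
    omega
  exact main S (2 ^ (n + 2)) hm e D hD

end Cfsg.Agent.S0842
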