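import Cfsg.Statements.S0847
import Cfsg.Agent.Lib.Helper20.BSCore
import Cfsg.Agent.Lib.Helper20.SylowNormal

set_option autoImplicit false
open Cfsg

namespace Cfsg.Agent.S0847

open Cfsg.Agent.Lib.Helper20

/-- under the hypothesis on normal subgroups of odd order, `M₀ ≤ S` -/
theorem kernel_le_sylow {G : Type*} [Group G] [Finite G] (S : Sylow 2 G) (a : G)
    (hO : ∀ N : Subgroup G, N.Normal → Odd (Nat.card N) → N = ⊥)
    (M₀ : Subgroup G) (hM₀n : M₀.Normal) (heven : 2 ∣ Nat.card M₀)
    (hle : (S : Subgroup G) ⊓ M₀ ≤ Subgroup.zpowers a) : M₀ ≤ (S : Subgroup G) := by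
  have : Fact (Nat.Prime 2) := ⟨Nat.prime_two⟩
  set R₀ : Subgroup G := (S : Subgroup G) ⊓ M₀ with hR₀
  set R : Subgroup M₀ := R₀.subgroupOf M₀ with hR
  have hR₀M : R₀ ≤ M₀ := inf_le_right
  have hRcyc : IsCyclic R := by
    have h1 : IsCyclic R₀ := by
      have : IsCyclic (Subgroup.zpowers a) := Subgroup.isCyclic_zpowers a
      exact isCyclic_of_injective (Subgroup.inclusion hle) (Subgroup.inclusion_injective hle)
    exact (Subgroup.subgroupOfEquivOfLe hR₀M).isCyclic.mpr h1
  have hRp : IsPGroup 2 R := (IsPGroup.to_le S.isPGroup' inf_le_left).comap_subtype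
  have hidx : ¬ 2 ∣ R.index := not_dvd_relIndex_inf_normal S M₀
  obtain ⟨K, hKn, hKodd, hKsup, hKmem⟩ := exists_normal_two_complement R hRcyc hRp hidx heven
  set W : Subgroup G := K.map M₀.subtype with hW
  have hWodd : Odd (Nat.card W) := by
    rw [hW, Subgroup.card_map_of_injective M₀.subtype_injective]; exact hKodd
  have hWn : W.Normal := by
    constructor
    rintro _ ⟨k, hk, rfl⟩ g
    have hmem : g * (k : G) * g⁻¹ ∈ M₀ := hM₀n.conj_mem _ k.2 g
    refine ⟨⟨g * (k : G) * g⁻¹, hmem⟩, ?_, rfl⟩
    apply hKmem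
    have h7 : orderOf (⟨g * (k : G) * g⁻¹, hmem⟩ : M₀) = orderOf k := by
      rw [Subgroup.orderOf_mk, ← Subgroup.orderOf_coe k]
      exact Cfsg.Agent.S0843.orderOf_conj_eq g (k : G)
    rw [h7]
    have h8 : orderOf (⟨k, hk⟩ : K) ∣ Nat.card K := orderOf_dvd_natCard _
    rw [Subgroup.orderOf_mk] at h8
    exact Odd.of_dvd_nat hKodd h8
  have hWbot : W = ⊥ := hO W hWn hWodd
  have hKbot : K = ⊥ := by
    rw [hW] at hWbot
    exact (Subgroup.map_eq_bot_iff_of_injective K M₀.subtype_injective).mp hWbot
  rw [hKbot, bot_sup_eq] at hKsup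
  intro x hx
  have h1 : (⟨x, hx⟩ : M₀) ∈ R := by rw [hKsup]; exact Subgroup.mem_top _
  rw [hR, Subgroup.mem_subgroupOf] at h1
  exact h1.1

/-- The Brauer–Suzuki Theorem in the case of order at least 16: if a Sylow 2-subgroup S of the finite group G is generalized quaternion of order at least 16 and G has no nontrivial normal subgroup of odd order, then the centre of G has order 2. -/
theorem result {G : Type*} [Group G] [Finite G] (S : Sylow 2 G) (n : ℕ) (e : (S : Subgroup G) ≃* QuaternionGroup (2 ^ (n + 2))) (hO : ∀ N : Subgroup G, N.Normal → Odd (Nat.card N) → N = ⊥) : Nat.card (Subgroup.center G) = 2 := by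
  have : Fact (Nat.Prime 2) := ⟨Nat.prime_two⟩
  have hne : NeZero (2 ^ (n + 2)) := ⟨by positivity⟩
  obtain ⟨M₀, hM₀n, hinv, hle⟩ := exists_kernel_subgroup S n e
  set a := bsA (S : Subgroup G) e with ha
  set w := bsW (S : Subgroup G) e with hw
  -- an involution
  have h2dvd : 2 ∣ Nat.card G := by
    have h1 : Nat.card (S : Subgroup G) = 4 * 2 ^ (n + 2) := by
      rw [Nat.card_congr e.toEquiv, Nat.card_eq_fintype_card, QuaternionGroup.card]
    have h2 := Subgroup.card_subgroup_dvd_card (S : Subgroup G)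
    rw [h1] at h2
    exact dvd_trans ⟨2 * 2 ^ (n + 2), by ring⟩ h2
  obtain ⟨z, hz⟩ := exists_prime_orderOf_dvd_card' 2 h2dvd
  have hzM : z ∈ M₀ := hinv z hz
  have heven : 2 ∣ Nat.card M₀ := by
    have := orderOf_dvd_natCard (⟨z, hzM⟩ : M₀)
    rwa [Subgroup.orderOf_mk, hz] at this
  have hMS : M₀ ≤ (S : Subgroup G) := kernel_le_sylow S a hO M₀ hM₀n heven hle
  have hzS : z ∈ (S : Subgroup G) := hMS hzM
  have huniq : ∀ x : G, x ∈ (S : Subgroup G) → orderOf x = 2 → x = z := fun x hx hox =>
    Cfsg.Agent.S0843.sylow_unique_involution S S _ e x z hx hzS hox hz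
  -- z is central
  have hzc : z ∈ Subgroup.center G := by
    rw [Subgroup.mem_center_iff]
    intro g
    have h1 : orderOf (g * z * g⁻¹) = 2 := by rw [Cfsg.Agent.S0843.orderOf_conj_eq, hz]
    have h2 : g * z * g⁻¹ = z := huniq _ (hMS (hinv _ h1)) h1
    calc g * z = g * z * g⁻¹ * g := by group
      _ = z * g := by rw [h2]
  -- the centre is contained in {1, z}
  have hcen : ∀ x : G, x ∈ Subgroup.center G → x = 1 ∨ x = z := by
    intro x hx
    have hxc : ∀ g : G, g * x = x * g := fun g => Subgroup.mem_center_iff.mp hx g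
    -- x is a 2-element
    obtain ⟨k, r, hr, hkr⟩ := Nat.exists_eq_two_pow_mul_odd (orderOf_pos x).ne'
    have hr1 : r = 1 := by
      set y := x ^ 2 ^ k with hy
      have hyo : orderOf y = r := by
        rw [hy, orderOf_pow' _ (by positivity), hkr, Nat.gcd_eq_right (dvd_mul_right _ _)]
        exact Nat.mul_div_cancel_left r (by positivity)
      have hyn : (Subgroup.zpowers y).Normal := by
        constructor
        intro u hu g
        obtain ⟨j, rfl⟩ := Subgroup.mem_zpowers_iff.mp hu
        have hyc : g * y = y * g := by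
          rw [hy]
          exact ((Commute.pow_right (hxc g) (2 ^ k)).eq)
        have : g * y ^ j * g⁻¹ = y ^ j := by
          have hc : Commute g (y ^ j) := Commute.zpow_right hyc j
          rw [hc.eq, mul_inv_cancel_right]
        rw [this]
        exact Subgroup.zpow_mem_zpowers y j
      have hyodd : Odd (Nat.card (Subgroup.zpowers y)) := by
        rw [Nat.card_zpowers, hyo]; exact hr
      have := hO _ hyn hyodd
      rw [Subgroup.zpowers_eq_bot] at this
      rw [← hyo, this, orderOf_one]
    rw [hr1, mul_one] at hkr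
    have hxp : IsPGroup 2 (Subgroup.zpowers x) :=
      IsPGroup.of_card (n := k) (by rw [Nat.card_zpowers, hkr])
    obtain ⟨g, hg⟩ := sylow_le_conj S _ hxp
    have hxS : x ∈ (S : Subgroup G) := by
      have := hg x (Subgroup.mem_zpowers x)
      have h3 : g⁻¹ * x * g = x := by
        rw [mul_assoc, ← hxc g, inv_mul_cancel_left]
      rwa [h3] at this
    have hwa : w * a * w⁻¹ = a⁻¹ := bsW_conj (S : Subgroup G) e
    have hao : orderOf a = 2 * 2 ^ (n + 2) := orderOf_bsA (S : Subgroup G) e
    rcases mem_cases (S : Subgroup G) e x hxS with h | ⟨j, hj⟩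
    · obtain ⟨i, hi⟩ := Subgroup.mem_zpowers_iff.mp h
      have h4 : w * x * w⁻¹ = x⁻¹ := by
        rw [← hi, ← conj_zpow, hwa, inv_zpow]
      have h5 : w * x * w⁻¹ = x := by
        rw [hxc w, mul_inv_cancel_right]
      have h6 : x * x = 1 := by
        have : x = x⁻¹ := h5.symm.trans h4
        nth_rewrite 1 [this]
        exact inv_mul_cancel x
      have h7 : orderOf x ∣ 2 := by
        rw [orderOf_dvd_iff_pow_eq_one, sq]; exact h6
      rcases (Nat.dvd_prime Nat.prime_two).mp h7 with h8 | h8
      · left; exact orderOf_eq_one_iff.mp h8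
      · right; exact huniq x hxS h8
    · exfalso
      rw [← ha, ← hw] at hj
      have h4 : a * x = x * a := hxc a
      have h5 : a * w = w * a := by
        have h6 : a * w * a ^ j = w * a * a ^ j := by
          calc a * w * a ^ j = a * (w * a ^ j) := by group
            _ = (w * a ^ j) * a := by rw [← hj]; exact h4
            _ = w * a * a ^ j := by group
        exact mul_right_cancel h6
      have h7 : a⁻¹ = a := by
        rw [← hwa, ← h5, mul_inv_cancel_right]
      have h8 : a ^ 2 = 1 := by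
        rw [sq]
        nth_rewrite 1 [← h7]
        exact inv_mul_cancel a
      have h9 : orderOf a ∣ 2 := orderOf_dvd_iff_pow_eq_one.mpr h8
      rw [hao] at h9
      have h10 := Nat.le_of_dvd (by norm_num) h9
      have : 2 ^ 2 ≤ 2 ^ (n + 2) := Nat.pow_le_pow_right (by norm_num) (by omega)
      omega
  have hz1 : z ≠ 1 := by
    intro h
    rw [h, orderOf_one] at hz
    norm_num at hz
  rw [Nat.card_eq_two_iff]
  refine ⟨1, ⟨z, hzc⟩, ?_, ?_⟩
  · intro h
    apply hz1
    exact (congrArg Subtype.val h).symm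
  · ext ⟨x, hx⟩
    simp only [Set.mem_insert_iff, Set.mem_singleton_iff, Set.mem_univ, iff_true]
    rcases hcen x hx with h | h
    · left; exact Subtype.ext h
    · right; exact Subtype.ext h

end Cfsg.Agent.S0847
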