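import Cfsg.Statements.S0228
import Cfsg.Agent.Lib.Helper06.ConjCount
import Cfsg.Agent.Lib.Helper06.Dihedral

set_option autoImplicit false
open Cfsg

namespace Cfsg.Agent.S0228

open Cfsg.Agent.Lib.Helper06

theorem fact12_3 : (12 : ℕ).factorization 3 = 1 := by
  have : (12 : ℕ) = 2 ^ 2 * 3 ^ 1 := by norm_num
  rw [this, Nat.factorization_mul (by norm_num) (by norm_num),
    Nat.Prime.factorization_pow Nat.prime_two, Nat.Prime.factorization_pow Nat.prime_three]
  simp

theorem fact12_2 : (12 : ℕ).factorization 2 = 2 := by
  have : (12 : ℕ) = 2 ^ 2 * 3 ^ 1 := by norm_num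
  rw [this, Nat.factorization_mul (by norm_num) (by norm_num),
    Nat.Prime.factorization_pow Nat.prime_two, Nat.Prime.factorization_pow Nat.prime_three]
  simp

section

variable {G : Type*} [Group G] [Finite G] (hG : Nat.card G = 12)

include hG

theorem sylow3_card (P : Sylow 3 G) : Nat.card (P : Subgroup G) = 3 := by
  have : Fact (Nat.Prime 3) := ⟨Nat.prime_three⟩
  rw [P.card_eq_multiplicity, hG, fact12_3, pow_one]

theorem sylow2_card (Q : Sylow 2 G) : Nat.card (Q : Subgroup G) = 4 := by
  have : Fact (Nat.Prime 2) := ⟨Nat.prime_two⟩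
  rw [Q.card_eq_multiplicity, hG, fact12_2]
  norm_num

/-- every involution whose centralizer contains an element of order 3 is central. -/
theorem central_of_commutes (z a : G) (hz : orderOf z = 2) (ha : orderOf a = 3)
    (hza : a * z = z * a) : z ∈ Subgroup.center G := by
  have : Fact (Nat.Prime 2) := ⟨Nat.prime_two⟩
  -- a Sylow 2-subgroup containing z
  have hps : IsPGroup 2 (Subgroup.zpowers z) := by
    apply IsPGroup.of_card (n := 1)
    rw [Nat.card_zpowers, hz, pow_one]
  obtain ⟨Q, hQ⟩ := hps.exists_le_sylow
  have hzQ : z ∈ Q := hQ (Subgroup.mem_zpowers z)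
  have hQcard := sylow2_card hG Q
  have hQcomm : ∀ x y : (Q : Subgroup G), x * y = y * x :=
    (IsPGroup.isMulCommutative_of_card_eq_prime_sq (p := 2)
      (by rw [hQcard]; norm_num)).is_comm.comm
  have hQle : (Q : Subgroup G) ≤ Subgroup.centralizer ({z} : Set G) := by
    intro q hq
    rw [mem_centralizer_singleton_iff]
    exact congrArg Subtype.val (hQcomm ⟨z, hzQ⟩ ⟨q, hq⟩)
  have hale : Subgroup.zpowers a ≤ Subgroup.centralizer ({z} : Set G) := by
    rw [Subgroup.zpowers_le, mem_centralizer_singleton_iff]
    exact hza.symm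
  have h4 : 4 ∣ Nat.card (Subgroup.centralizer ({z} : Set G)) := by
    rw [← hQcard]; exact Subgroup.card_dvd_of_le hQle
  have h3 : 3 ∣ Nat.card (Subgroup.centralizer ({z} : Set G)) := by
    have := Subgroup.card_dvd_of_le hale
    rw [Nat.card_zpowers, ha] at this
    exact this
  have h12 : 12 ∣ Nat.card (Subgroup.centralizer ({z} : Set G)) := by
    have : Nat.Coprime 4 3 := by norm_num
    exact this.mul_dvd_of_dvd_of_dvd h4 h3
  have htop : Subgroup.centralizer ({z} : Set G) = ⊤ := by
    apply Subgroup.eq_top_of_le_card
    rw [hG]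
    exact Nat.le_of_dvd Nat.card_pos h12
  rw [Subgroup.mem_center_iff]
  intro g
  have : g ∈ Subgroup.centralizer ({z} : Set G) := by rw [htop]; trivial
  exact ((mem_centralizer_singleton_iff z g).mp this).symm

end

/-- A group of order 12 in which no involution is central is isomorphic to the alternating group on four letters. -/
theorem result {G : Type*} [Group G] [Finite G] (hG : Nat.card G = 12) (hz : ∀ z : G, orderOf z = 2 → z ∉ Subgroup.center G) : Nonempty (G ≃* alternatingGroup (Fin 4)) := by
  classical
  have : Fact (Nat.Prime 3) := ⟨Nat.prime_three⟩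
  have : Fact (Nat.Prime 2) := ⟨Nat.prime_two⟩
  have : Fintype (Sylow 3 G) := Fintype.ofFinite _
  obtain ⟨P⟩ : Nonempty (Sylow 3 G) := inferInstance
  have hPcard := sylow3_card hG P
  have hPidx : (P : Subgroup G).index = 4 := by
    have := (P : Subgroup G).card_mul_index
    rw [hPcard, hG] at this
    omega
  have hn3dvd : Nat.card (Sylow 3 G) ∣ 4 := hPidx ▸ P.card_dvd_index
  have hn3mod : Nat.card (Sylow 3 G) ≡ 1 [MOD 3] := card_sylow_modEq_one 3 G
  have hn3 : Nat.card (Sylow 3 G) = 1 ∨ Nat.card (Sylow 3 G) = 4 := by
    have hle : Nat.card (Sylow 3 G) ≤ 4 := Nat.le_of_dvd (by norm_num) hn3dvd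
    have hpos : 0 < Nat.card (Sylow 3 G) := Nat.card_pos
    unfold Nat.ModEq at hn3mod
    interval_cases h : Nat.card (Sylow 3 G) <;> simp_all
  rcases hn3 with h1 | h4
  · -- P is normal: contradiction
    exfalso
    have hPN : (Subgroup.normalizer ((P : Subgroup G) : Set G)).index = 1 := by
      have h := P.card_eq_index_normalizer
      rw [h1] at h
      exact h.symm
    have hPnorm : Subgroup.normalizer ((P : Subgroup G) : Set G) = ⊤ := Subgroup.index_eq_one.mp hPN
    -- an element of order 3
    obtain ⟨a, ha⟩ := exists_prime_orderOf_dvd_card' (G := G) 3 (by rw [hG]; norm_num)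
    -- a lies in P (unique Sylow 3-subgroup)
    have haP : a ∈ P := by
      have hpa : IsPGroup 3 (Subgroup.zpowers a) := by
        apply IsPGroup.of_card (n := 1)
        rw [Nat.card_zpowers, ha, pow_one]
      obtain ⟨P', hP'⟩ := hpa.exists_le_sylow
      have : Subsingleton (Sylow 3 G) := (Nat.card_eq_one_iff_unique.mp h1).1
      rw [Subsingleton.elim P P']
      exact hP' (Subgroup.mem_zpowers a)
    -- the class of a lies in P minus 1, so has at most 2 elements
    have hcl := card_class_mul_card_centralizer a
    have hK : Nat.card {u : G // IsConj a u} ≤ 2 := by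
      have h2 : Nat.card {s : (P : Subgroup G) // s ≠ 1} + 1 = 3 := by
        rw [← Finite.card_option]
        exact (Nat.card_congr (Equiv.optionSubtypeNe _)).trans hPcard
      have hinj : Nat.card {u : G // IsConj a u} ≤ Nat.card {s : (P : Subgroup G) // s ≠ 1} := by
        apply Nat.card_le_card_of_injective
          (fun u : {u : G // IsConj a u} => (⟨⟨u.1, by
            obtain ⟨c, hc⟩ := isConj_iff.mp u.2
            rw [← hc]
            have hcN : c ∈ Subgroup.normalizer ((P : Subgroup G) : Set G) := by
              rw [hPnorm]; trivial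
            exact (Subgroup.mem_normalizer_iff.mp hcN a).mp haP⟩, by
            intro h
            have h1' : u.1 = 1 := congrArg Subtype.val h
            obtain ⟨c, hc⟩ := isConj_iff.mp u.2
            have hs : SemiconjBy c a u.1 := by
              show c * a = u.1 * c
              rw [← hc]; group
            have := hs.orderOf_eq
            rw [h1', orderOf_one, ha] at this
            norm_num at this⟩ : {s : (P : Subgroup G) // s ≠ 1}))
        intro x y hxy
        apply Subtype.ext
        have := congrArg (fun s : {s : (P : Subgroup G) // s ≠ 1} => ((s : (P : Subgroup G)) : G)) hxy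
        exact this
      omega
    rw [hG] at hcl
    have hCeven : 2 ∣ Nat.card (Subgroup.centralizer ({a} : Set G)) := by
      have hKpos : 0 < Nat.card {u : G // IsConj a u} := by
        have : Nonempty {u : G // IsConj a u} := ⟨⟨a, IsConj.refl a⟩⟩
        exact Nat.card_pos
      have hK12 : Nat.card {u : G // IsConj a u} = 1 ∨ Nat.card {u : G // IsConj a u} = 2 := by
        omega
      rcases hK12 with hk | hk
      · rw [hk, one_mul] at hcl
        rw [hcl]; norm_num
      · rw [hk] at hcl
        have : Nat.card (Subgroup.centralizer ({a} : Set G)) = 6 := by omega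
        rw [this]; norm_num
    obtain ⟨z, hzord⟩ := exists_prime_orderOf_dvd_card' 2 hCeven
    have hz2 : orderOf (z : G) = 2 := by rw [Subgroup.orderOf_coe, hzord]
    have hza : a * (z : G) = (z : G) * a := (mem_centralizer_singleton_iff a z).mp z.2
    exact hz _ hz2 (central_of_commutes hG _ a hz2 ha hza)
  · -- four Sylow 3-subgroups: faithful action
    have hker : (MulAction.toPermHom G (Sylow 3 G)).ker = ⊥ := by
      rw [Subgroup.eq_bot_iff_forall]
      intro g hg
      rw [MonoidHom.mem_ker] at hg
      have hfix : ∀ R : Sylow 3 G, g • R = R := by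
        intro R
        have := congrArg (fun σ : Equiv.Perm (Sylow 3 G) => σ R) hg
        exact this
      have hmem : ∀ R : Sylow 3 G, g ∈ R := by
        intro R
        have hgN : g ∈ Subgroup.normalizer ((R : Subgroup G) : Set G) :=
          Sylow.smul_eq_iff_mem_normalizer.mp (hfix R)
        have hNidx : (Subgroup.normalizer ((R : Subgroup G) : Set G)).index = 4 := by
          have h := R.card_eq_index_normalizer
          rw [h4] at h
          exact h.symm
        have hNcard : Nat.card (Subgroup.normalizer ((R : Subgroup G) : Set G)) = 3 := by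
          have := (Subgroup.normalizer ((R : Subgroup G) : Set G)).card_mul_index
          rw [hNidx, hG] at this
          omega
        have hRN : Subgroup.normalizer ((R : Subgroup G) : Set G) ≤ (R : Subgroup G) := by
          have h := Subgroup.eq_of_le_of_card_ge
            (Subgroup.le_normalizer : (R : Subgroup G) ≤ _) (by rw [hNcard, sylow3_card hG R])
          exact h.ge
        exact hRN hgN
      -- two distinct Sylow subgroups
      obtain ⟨R₁, R₂, hne⟩ : ∃ R₁ R₂ : Sylow 3 G, R₁ ≠ R₂ := by
        by_contra hall
        push Not at hall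
        have : Subsingleton (Sylow 3 G) := ⟨hall⟩
        have := Nat.card_eq_one_iff_unique.mpr ⟨this, ⟨P⟩⟩
        omega
      have hinf : Nat.card ((R₁ : Subgroup G) ⊓ R₂ : Subgroup G) ∣ 3 := by
        have h := Subgroup.card_dvd_of_le
          (inf_le_left : ((R₁ : Subgroup G) ⊓ R₂ : Subgroup G) ≤ R₁)
        rwa [sylow3_card hG R₁] at h
      rcases (Nat.dvd_prime Nat.prime_three).mp hinf with hc1 | hc3
      · have hbot := Subgroup.card_eq_one.mp hc1
        have : g ∈ ((R₁ : Subgroup G) ⊓ R₂ : Subgroup G) := ⟨hmem R₁, hmem R₂⟩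
        rw [hbot] at this
        exact this
      · exfalso
        apply hne
        have e1 : ((R₁ : Subgroup G) ⊓ R₂ : Subgroup G) = R₁ :=
          Subgroup.eq_of_le_of_card_ge inf_le_left (by rw [hc3, sylow3_card hG R₁])
        have e2 : ((R₁ : Subgroup G) ⊓ R₂ : Subgroup G) = R₂ :=
          Subgroup.eq_of_le_of_card_ge inf_le_right (by rw [hc3, sylow3_card hG R₂])
        exact Sylow.ext (e1.symm.trans e2)
    have hinj : Function.Injective (MulAction.toPermHom G (Sylow 3 G)) :=
      (MonoidHom.ker_eq_bot_iff _).mp hker
    have hrcard : Nat.card (MulAction.toPermHom G (Sylow 3 G)).range = 12 := by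
      rw [← hG]
      exact (Nat.card_congr (MonoidHom.ofInjective hinj).toEquiv).symm
    have hperm : Nat.card (Equiv.Perm (Sylow 3 G)) = 24 := by
      rw [Nat.card_perm, h4]; rfl
    have hidx : (MulAction.toPermHom G (Sylow 3 G)).range.index = 2 := by
      have := (MulAction.toPermHom G (Sylow 3 G)).range.card_mul_index
      rw [hrcard, hperm] at this
      omega
    have hralt := Equiv.Perm.eq_alternatingGroup_of_index_eq_two hidx
    have hcard4 : Fintype.card (Sylow 3 G) = Fintype.card (Fin 4) := by
      rw [← Nat.card_eq_fintype_card, h4, Fintype.card_fin]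
    have e := Fintype.equivOfCardEq hcard4
    exact ⟨((MonoidHom.ofInjective hinj).trans (MulEquiv.subgroupCongr hralt)).trans
      (Equiv.altCongrHom e)⟩

end Cfsg.Agent.S0228
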