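import Cfsg.Statements.S0809
import Cfsg.Agent.Lib.Helper60.SL2

set_option autoImplicit false
open Cfsg

namespace Cfsg.Agent.S0809

open Matrix Cfsg.Agent.Lib.Helper60

section
variable {F : Type*} [Field F]

theorem neg_one_ne_one (h2 : (2:F) ≠ 0) : (-1 : Matrix.SpecialLinearGroup (Fin 2) F) ≠ 1 := by
  intro h
  have h' := congrArg (fun g : Matrix.SpecialLinearGroup (Fin 2) F => g.1 0 0) h
  simp at h'
  apply h2
  linear_combination -h'

theorem w_inv : (sl2w F)⁻¹ = -(sl2w F) := by
  apply inv_eq_of_mul_eq_one_right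
  rw [mul_neg, ← pow_two, sl2w_sq, neg_neg]

theorem orderOf_eq_four (h2 : (2:F) ≠ 0) (a : Matrix.SpecialLinearGroup (Fin 2) F)
    (ha : a ^ 2 = -1) : orderOf a = 4 := by
  have h1 : ¬ a ^ 2 ^ 1 = 1 := by
    rw [pow_one, ha]; exact neg_one_ne_one h2
  have h4 : a ^ 2 ^ (1 + 1) = 1 := by
    have : a ^ 2 ^ (1 + 1) = (a ^ 2) ^ 2 := by rw [← pow_mul]; norm_num
    rw [this, ha]
    simp
  exact orderOf_eq_prime_pow h1 h4

theorem exists_gen [Fintype F] (hF : Odd (Fintype.card F))
    (A : Subgroup (Matrix.SpecialLinearGroup (Fin 2) F)) (hA : Nat.card A = 4) :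
    ∃ a : Matrix.SpecialLinearGroup (Fin 2) F, a ^ 2 = -1 ∧ A = Subgroup.zpowers a := by
  classical
  have h2 := two_ne_zero_of_odd_card hF
  have hex : ∃ a ∈ A, a ^ 2 = (-1 : Matrix.SpecialLinearGroup (Fin 2) F) := by
    by_contra hcon
    push Not at hcon
    have hsub : (A : Set (Matrix.SpecialLinearGroup (Fin 2) F)) ⊆ {1, -1} := by
      intro a ha
      have h4 : a ^ 4 = 1 := by
        have h := pow_card_eq_one' (G := A) (x := ⟨a, ha⟩)
        rw [hA] at h
        exact congrArg Subtype.val h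
      have hsq : (a ^ 2) ^ 2 = 1 := by rw [← pow_mul]; exact h4
      rcases sl2_sq_eq_one h2 (a ^ 2) hsq with h | h
      · rcases sl2_sq_eq_one h2 a h with h' | h'
        · simp [h']
        · simp [h']
      · exact absurd h (hcon a ha)
    have hle : (A : Set (Matrix.SpecialLinearGroup (Fin 2) F)).ncard ≤
        ({1, -1} : Set (Matrix.SpecialLinearGroup (Fin 2) F)).ncard :=
      Set.ncard_le_ncard hsub (Set.toFinite _)
    have hpair : ({1, -1} : Set (Matrix.SpecialLinearGroup (Fin 2) F)).ncard = 2 :=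
      Set.ncard_pair (neg_one_ne_one h2).symm
    have hAn : Nat.card A = (A : Set (Matrix.SpecialLinearGroup (Fin 2) F)).ncard :=
      Nat.card_coe_set_eq _
    omega
  obtain ⟨a, haA, ha⟩ := hex
  refine ⟨a, ha, ?_⟩
  have hle : Subgroup.zpowers a ≤ A := (Subgroup.zpowers_le).mpr haA
  have hcard : Nat.card (Subgroup.zpowers a) = 4 := by
    rw [Nat.card_zpowers, orderOf_eq_four h2 a ha]
  exact (Subgroup.eq_of_le_of_card_ge hle (by rw [hA, hcard])).symm

theorem mem_normalizer_zpowers_w (h2 : (2:F) ≠ 0) (g : Matrix.SpecialLinearGroup (Fin 2) F) :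
    g ∈ Subgroup.normalizer ((Subgroup.zpowers (sl2w F) :
        Subgroup (Matrix.SpecialLinearGroup (Fin 2) F)) : Set (Matrix.SpecialLinearGroup (Fin 2) F)) ↔
      g * sl2w F = sl2w F * g ∨ g * sl2w F = (sl2w F)⁻¹ * g := by
  rw [Subgroup.mem_normalizer_iff_map_conj_eq]
  constructor
  · intro h
    have hc : g * sl2w F * g⁻¹ ∈ (Subgroup.zpowers (sl2w F)).map
        ((MulAut.conj g : Matrix.SpecialLinearGroup (Fin 2) F ≃* _) :
          Matrix.SpecialLinearGroup (Fin 2) F →* _) :=
      ⟨sl2w F, Subgroup.mem_zpowers _, rfl⟩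
    rw [h] at hc
    obtain ⟨k, hk⟩ := Subgroup.mem_zpowers_iff.mp hc
    have hcomm : Commute (g * sl2w F * g⁻¹) (sl2w F) := by
      rw [← hk]; exact (Commute.refl (sl2w F)).zpow_left k
    have hcsq : (g * sl2w F * g⁻¹) ^ 2 = -1 := by
      rw [conj_pow, sl2w_sq]; simp
    have hprod : ((g * sl2w F * g⁻¹) * (sl2w F)⁻¹) ^ 2 = 1 := by
      rw [(hcomm.inv_right).mul_pow, hcsq, inv_pow, sl2w_sq]; simp
    rcases sl2_sq_eq_one h2 _ hprod with h1 | h1
    · left
      have : g * sl2w F * g⁻¹ = sl2w F := by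
        rw [mul_inv_eq_one] at h1; exact h1
      rw [mul_inv_eq_iff_eq_mul] at this; exact this
    · right
      have : g * sl2w F * g⁻¹ = (sl2w F)⁻¹ := by
        rw [mul_inv_eq_iff_eq_mul] at h1
        rw [h1, w_inv]; simp
      rw [mul_inv_eq_iff_eq_mul] at this; exact this
  · rintro (h | h)
    · have : g * sl2w F * g⁻¹ = sl2w F := by rw [h]; group
      rw [MonoidHom.map_zpowers]
      show Subgroup.zpowers (g * sl2w F * g⁻¹) = _
      rw [this]
    · have : g * sl2w F * g⁻¹ = (sl2w F)⁻¹ := by rw [h]; group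
      rw [MonoidHom.map_zpowers]
      show Subgroup.zpowers (g * sl2w F * g⁻¹) = _
      rw [this, Subgroup.zpowers_inv]

theorem comm_w_iff (g : Matrix.SpecialLinearGroup (Fin 2) F) :
    g * sl2w F = sl2w F * g ↔ g.1 0 1 = -g.1 1 0 ∧ g.1 1 1 = g.1 0 0 := by
  constructor
  · intro h
    have h' : (g * sl2w F).1 = (sl2w F * g).1 := congrArg Subtype.val h
    rw [Matrix.SpecialLinearGroup.coe_mul, Matrix.SpecialLinearGroup.coe_mul] at h'
    have h00 := congrFun (congrFun h' 0) 0
    have h10 := congrFun (congrFun h' 1) 0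
    simp [sl2w, Matrix.mul_apply, Fin.sum_univ_two] at h00 h10
    exact ⟨h00, h10⟩
  · rintro ⟨h1, h2⟩
    apply Subtype.ext
    rw [Matrix.SpecialLinearGroup.coe_mul, Matrix.SpecialLinearGroup.coe_mul]
    ext i j
    fin_cases i <;> fin_cases j <;> simp [sl2w, Matrix.mul_apply, Fin.sum_univ_two, h1, h2]

def circ (x y : F) (h : x ^ 2 + y ^ 2 = 1) : Matrix.SpecialLinearGroup (Fin 2) F :=
  ⟨!![x, -y; y, x], by
      rw [Matrix.det_fin_two]
      simp only [Matrix.of_apply, Matrix.cons_val', Matrix.cons_val_zero, Matrix.cons_val_one,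
        Matrix.cons_val_fin_one]
      linear_combination h⟩

theorem circ_comm (x y : F) (h : x ^ 2 + y ^ 2 = 1) :
    circ x y h * sl2w F = sl2w F * circ x y h := by
  rw [comm_w_iff]
  simp [circ]

/-- centralizer of `w` is the circle. -/
def cEquiv : {g : Matrix.SpecialLinearGroup (Fin 2) F // g * sl2w F = sl2w F * g} ≃
    {p : F × F // p.1 ^ 2 + p.2 ^ 2 = 1} where
  toFun g := ⟨(g.1.1 0 0, g.1.1 1 0), by
    obtain ⟨h1, h2⟩ := (comm_w_iff g.1).mp g.2
    have hdet := sl2_det g.1
    show g.1.1 0 0 ^ 2 + g.1.1 1 0 ^ 2 = 1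
    rw [h1, h2] at hdet
    linear_combination hdet⟩
  invFun p := ⟨circ p.1.1 p.1.2 p.2, circ_comm _ _ _⟩
  left_inv g := by
    obtain ⟨h1, h2⟩ := (comm_w_iff g.1).mp g.2
    apply Subtype.ext
    apply Subtype.ext
    ext i j
    fin_cases i <;> fin_cases j <;> simp [circ, h1, h2]
  right_inv p := by
    apply Subtype.ext
    simp [circ]

theorem card_normalizer_w [Fintype F] (hF : Odd (Fintype.card F)) :
    Nat.card (Subgroup.normalizer ((Subgroup.zpowers (sl2w F) :
        Subgroup (Matrix.SpecialLinearGroup (Fin 2) F)) : Set (Matrix.SpecialLinearGroup (Fin 2) F))) =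
      2 * Nat.card {p : F × F // p.1 ^ 2 + p.2 ^ 2 = 1} := by
  classical
  have h2 := two_ne_zero_of_odd_card hF
  set w := sl2w F with hw
  set N := Subgroup.normalizer ((Subgroup.zpowers w :
        Subgroup (Matrix.SpecialLinearGroup (Fin 2) F)) : Set (Matrix.SpecialLinearGroup (Fin 2) F))
    with hN
  let Cset : Set (Matrix.SpecialLinearGroup (Fin 2) F) := {g | g * w = w * g}
  let Dset : Set (Matrix.SpecialLinearGroup (Fin 2) F) := {g | g * w = w⁻¹ * g}
  have hwinv_sq : (w⁻¹) ^ 2 = -1 := by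
    rw [inv_pow, hw, sl2w_sq]; simp
  obtain ⟨g₀, hg₀⟩ : ∃ g₀ : Matrix.SpecialLinearGroup (Fin 2) F, g₀ * w * g₀⁻¹ = w⁻¹ :=
    sl2_conj_of_sq_eq_neg_one hF (w⁻¹) hwinv_sq
  have hD : Dset = (fun g => g₀ * g) '' Cset := by
    ext g
    simp only [Set.mem_image, Set.mem_ofPred_eq, Cset, Dset]
    constructor
    · intro h
      refine ⟨g₀⁻¹ * g, ?_, by group⟩
      have h1 : w * g₀⁻¹ = g₀⁻¹ * w⁻¹ := by rw [← hg₀]; group
      rw [mul_assoc, h, ← mul_assoc, ← mul_assoc, h1]
    · rintro ⟨c, hc, rfl⟩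
      have h1 : g₀ * w = w⁻¹ * g₀ := by rw [← hg₀]; group
      rw [mul_assoc, hc, ← mul_assoc, h1, mul_assoc]
  have hNset : (N : Set (Matrix.SpecialLinearGroup (Fin 2) F)) = Cset ∪ Dset := by
    ext g
    exact mem_normalizer_zpowers_w h2 g
  have hdisj : Disjoint Cset Dset := by
    rw [Set.disjoint_left]
    intro g hc hd
    simp only [Set.mem_ofPred_eq, Cset, Dset] at hc hd
    have h1 : w = w⁻¹ := by
      have := hc.symm.trans hd
      exact mul_right_cancel this
    have h3 : w ^ 2 = 1 := by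
      rw [pow_two]; nth_rewrite 2 [h1]; exact mul_inv_cancel w
    rw [hw, sl2w_sq] at h3
    exact neg_one_ne_one h2 h3
  have hCcard : Cset.ncard = Nat.card {p : F × F // p.1 ^ 2 + p.2 ^ 2 = 1} := by
    rw [← Nat.card_coe_set_eq]
    exact Nat.card_congr cEquiv
  calc Nat.card N = (N : Set (Matrix.SpecialLinearGroup (Fin 2) F)).ncard :=
        Nat.card_coe_set_eq _
    _ = Cset.ncard + Dset.ncard := by
        rw [hNset, Set.ncard_union_eq hdisj (Set.toFinite _) (Set.toFinite _)]
    _ = 2 * Cset.ncard := by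
        rw [hD, Set.ncard_image_of_injective _ (mul_right_injective g₀)]; ring
    _ = _ := by rw [hCcard]

theorem card_circle_of_sq [Fintype F] (h2 : (2:F) ≠ 0) (i : F) (hi : i ^ 2 = -1) :
    Nat.card {p : F × F // p.1 ^ 2 + p.2 ^ 2 = 1} = Fintype.card F - 1 := by
  classical
  obtain ⟨h, hh⟩ : ∃ h : F, 2 * h = 1 := ⟨2⁻¹, mul_inv_cancel₀ h2⟩
  let e : {p : F × F // p.1 ^ 2 + p.2 ^ 2 = 1} ≃ Fˣ :=
    { toFun := fun p => ⟨p.1.1 + i * p.1.2, p.1.1 - i * p.1.2, by
        linear_combination p.2 - p.1.2 ^ 2 * hi, by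
        linear_combination p.2 - p.1.2 ^ 2 * hi⟩
      invFun := fun s => ⟨(((s : F) + ((s⁻¹ : Fˣ) : F)) * h,
          i * (((s⁻¹ : Fˣ) : F) - (s : F)) * h), by
        have hab : (s : F) * ((s⁻¹ : Fˣ) : F) = 1 := Units.mul_inv s
        show (((s : F) + ((s⁻¹ : Fˣ) : F)) * h) ^ 2 +
          (i * (((s⁻¹ : Fˣ) : F) - (s : F)) * h) ^ 2 = 1
        linear_combination (h ^ 2 * (((s⁻¹ : Fˣ) : F) - (s : F)) ^ 2) * hi + (4 * h ^ 2) * hab
          + (2 * h + 1) * hh⟩
      left_inv := by
        intro p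
        apply Subtype.ext
        apply Prod.ext
        · show ((p.1.1 + i * p.1.2) + (p.1.1 - i * p.1.2)) * h = p.1.1
          linear_combination p.1.1 * hh
        · show i * ((p.1.1 - i * p.1.2) - (p.1.1 + i * p.1.2)) * h = p.1.2
          linear_combination (-2 * p.1.2 * h) * hi + p.1.2 * hh
      right_inv := by
        intro s
        apply Units.ext
        show ((s : F) + ((s⁻¹ : Fˣ) : F)) * h + i * (i * (((s⁻¹ : Fˣ) : F) - (s : F)) * h) = (s : F)
        linear_combination ((((s⁻¹ : Fˣ) : F) - (s : F)) * h) * hi + (s : F) * hh }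
  rw [Nat.card_congr e, Nat.card_eq_fintype_card, Fintype.card_units]

theorem card_circle_of_nonsq [Fintype F] (h2 : (2:F) ≠ 0) (hns : ¬ IsSquare (-1 : F)) :
    Nat.card {p : F × F // p.1 ^ 2 + p.2 ^ 2 = 1} = Fintype.card F + 1 := by
  classical
  have hne : ∀ t : F, 1 + t ^ 2 ≠ 0 := by
    intro t ht
    apply hns
    exact ⟨t, by linear_combination -ht⟩
  let e : {p : F × F // p.1 ^ 2 + p.2 ^ 2 = 1} ≃ Option F :=
    { toFun := fun p => if p.1.1 = -1 then none else some (p.1.2 / (p.1.1 + 1))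
      invFun := fun o => match o with
        | none => ⟨(-1, 0), by norm_num⟩
        | some t => ⟨((1 - t ^ 2) / (1 + t ^ 2), 2 * t / (1 + t ^ 2)), by
            have := hne t
            show ((1 - t ^ 2) / (1 + t ^ 2)) ^ 2 + (2 * t / (1 + t ^ 2)) ^ 2 = 1
            field_simp
            ring⟩
      left_inv := by
        rintro ⟨⟨x, y⟩, hp⟩
        simp only at hp
        by_cases hx : x = -1
        · have hy : y = 0 := by
            have : y ^ 2 = 0 := by rw [hx] at hp; linear_combination hp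
            exact pow_eq_zero_iff (two_ne_zero) |>.mp this
          simp [hx, hy]
        · have hx1 : x + 1 ≠ 0 := fun h => hx (by linear_combination h)
          have ht := hne (y / (x + 1))
          simp only [hx, if_false]
          apply Subtype.ext
          apply Prod.ext
          · show (1 - (y / (x + 1)) ^ 2) / (1 + (y / (x + 1)) ^ 2) = x
            rw [div_eq_iff ht]
            field_simp
            linear_combination (-(x + 1)) * hp
          · show 2 * (y / (x + 1)) / (1 + (y / (x + 1)) ^ 2) = y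
            rw [div_eq_iff ht]
            field_simp
            linear_combination (-y) * hp
      right_inv := by
        intro o
        cases o with
        | none => simp
        | some t =>
          have ht := hne t
          have hx : (1 - t ^ 2) / (1 + t ^ 2) ≠ -1 := by
            intro h
            rw [div_eq_iff ht] at h
            apply h2
            linear_combination h
          show (if (1 - t ^ 2) / (1 + t ^ 2) = -1 then none
            else some (2 * t / (1 + t ^ 2) / ((1 - t ^ 2) / (1 + t ^ 2) + 1))) = some t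
          rw [if_neg hx]
          congr 1
          have h3 : (1 - t ^ 2) / (1 + t ^ 2) + 1 = 2 / (1 + t ^ 2) := by
            field_simp; ring
          rw [h3]
          field_simp }
  rw [Nat.card_congr e, Nat.card_eq_fintype_card, Fintype.card_option]

end

/-- In SL_2(q), q odd: any two subgroups of order 4 are conjugate, and the normaliser of a subgroup of order 4 has order 2(q − 1) if q ≡ 1 (mod 4) and 2(q + 1) if q ≡ 3 (mod 4); consequently all involutions of PSL_2(q) are conjugate. -/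
theorem result {F : Type*} [Field F] [Fintype F] {q : ℕ} (hF : Fintype.card F = q) (hodd : Odd q) (A : Subgroup (Matrix.SpecialLinearGroup (Fin 2) F)) (hA : Nat.card A = 4) : (∀ B : Subgroup (Matrix.SpecialLinearGroup (Fin 2) F), Nat.card B = 4 → ∃ g : Matrix.SpecialLinearGroup (Fin 2) F, B = A.map (MulAut.conj g).toMonoidHom) ∧ (q % 4 = 1 → Nat.card ↥(Subgroup.normalizer (A : Set (Matrix.SpecialLinearGroup (Fin 2) F))) = 2 * (q - 1)) ∧ (q % 4 = 3 → Nat.card ↥(Subgroup.normalizer (A : Set (Matrix.SpecialLinearGroup (Fin 2) F))) = 2 * (q + 1)) ∧ (∀ x y : Matrix.ProjectiveSpecialLinearGroup (Fin 2) F, orderOf x = 2 → orderOf y = 2 → IsConj x y) := by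
  classical
  subst hF
  have h2 := two_ne_zero_of_odd_card hodd
  -- every order 4 subgroup is a conjugate of ⟨w⟩
  have key : ∀ X : Subgroup (Matrix.SpecialLinearGroup (Fin 2) F), Nat.card X = 4 →
      ∃ P : Matrix.SpecialLinearGroup (Fin 2) F,
        X = (Subgroup.zpowers (sl2w F)).map (MulAut.conj P).toMonoidHom := by
    intro X hX
    obtain ⟨a, ha, hXa⟩ := exists_gen hodd X hX
    obtain ⟨P, hP⟩ := sl2_conj_of_sq_eq_neg_one hodd a ha
    refine ⟨P, ?_⟩
    rw [hXa, MonoidHom.map_zpowers]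
    congr 1
    exact hP.symm
  obtain ⟨P, hAP⟩ := key A hA
  have hcardN : Nat.card ↥(Subgroup.normalizer (A : Set (Matrix.SpecialLinearGroup (Fin 2) F))) =
      2 * Nat.card {p : F × F // p.1 ^ 2 + p.2 ^ 2 = 1} := by
    rw [hAP, ← Subgroup.map_equiv_normalizer_eq,
      Subgroup.card_map_of_injective (MulAut.conj P).injective]
    exact card_normalizer_w hodd
  refine ⟨?_, ?_, ?_, ?_⟩
  · intro B hB
    obtain ⟨Q, hBQ⟩ := key B hB
    refine ⟨Q * P⁻¹, ?_⟩
    rw [hBQ, hAP, Subgroup.map_map]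
    congr 1
    ext x
    simp [mul_assoc]
  · intro hq
    rw [hcardN]
    have hsq : IsSquare (-1 : F) := by
      rw [FiniteField.isSquare_neg_one_iff]; omega
    obtain ⟨i, hi⟩ := hsq
    rw [card_circle_of_sq h2 i (by rw [pow_two]; exact hi.symm)]
  · intro hq
    rw [hcardN]
    have hns : ¬ IsSquare (-1 : F) := by
      rw [FiniteField.isSquare_neg_one_iff]; omega
    rw [card_circle_of_nonsq h2 hns]
  · intro x y hx hy
    have lift : ∀ z : Matrix.ProjectiveSpecialLinearGroup (Fin 2) F, orderOf z = 2 →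
        ∃ a : Matrix.SpecialLinearGroup (Fin 2) F, a ^ 2 = -1 ∧ (QuotientGroup.mk a : Matrix.ProjectiveSpecialLinearGroup (Fin 2) F) = z := by
      intro z hz
      obtain ⟨a, rfl⟩ := QuotientGroup.mk_surjective z
      refine ⟨a, ?_, rfl⟩
      have hz2 : (QuotientGroup.mk a : Matrix.ProjectiveSpecialLinearGroup (Fin 2) F) ^ 2 = 1 := by
        have := pow_orderOf_eq_one (QuotientGroup.mk a : Matrix.ProjectiveSpecialLinearGroup (Fin 2) F)
        rw [hz] at this
        exact this
      have hz1 : (QuotientGroup.mk a : Matrix.ProjectiveSpecialLinearGroup (Fin 2) F) ≠ 1 := by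
        intro h
        rw [h, orderOf_one] at hz
        omega
      have hcen : ∀ c : Matrix.SpecialLinearGroup (Fin 2) F, (c = 1 ∨ c = -1) →
          (QuotientGroup.mk c : Matrix.ProjectiveSpecialLinearGroup (Fin 2) F) = 1 := by
        intro c hc
        rw [QuotientGroup.eq_one_iff, Subgroup.mem_center_iff]
        intro g
        rcases hc with rfl | rfl <;> simp
      rw [← QuotientGroup.mk_pow, QuotientGroup.eq_one_iff,
        Matrix.SpecialLinearGroup.mem_center_iff] at hz2
      obtain ⟨r, hr, hra⟩ := hz2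
      simp only [Fintype.card_fin] at hr
      have hr' : r = 1 ∨ r = -1 := by
        have : (r - 1) * (r + 1) = 0 := by linear_combination hr
        rcases mul_eq_zero.mp this with h | h
        · left; linear_combination h
        · right; linear_combination h
      rcases hr' with rfl | rfl
      · exfalso
        apply hz1
        apply hcen
        apply sl2_sq_eq_one h2
        apply Subtype.ext
        rw [← hra]
        simp
      · apply Subtype.ext
        rw [← hra]
        ext i j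
        fin_cases i <;> fin_cases j <;> simp
    obtain ⟨a, ha, rfl⟩ := lift x hx
    obtain ⟨b, hb, rfl⟩ := lift y hy
    obtain ⟨P', hP'⟩ := sl2_conj_of_sq_eq_neg_one hodd a ha
    obtain ⟨Q', hQ'⟩ := sl2_conj_of_sq_eq_neg_one hodd b hb
    rw [isConj_iff]
    refine ⟨QuotientGroup.mk (Q' * P'⁻¹), ?_⟩
    rw [← QuotientGroup.mk_inv, ← QuotientGroup.mk_mul, ← QuotientGroup.mk_mul]
    congr 1
    rw [← hP', ← hQ']
    group

end Cfsg.Agent.S0809
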