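import Cfsg.Statements.S0807
import Cfsg.Agent.S0809
import Cfsg.Agent.Lib.Helper07.SLCard

set_option autoImplicit false
open Cfsg

namespace Cfsg.Agent.S0807

open Matrix Cfsg.Agent.Lib.Helper60

theorem isKleinFour_closure {G : Type*} [Group G] (s t : G) (hs : s * s = 1) (ht : t * t = 1)
    (hst : s * t = t * s) (hs1 : s ≠ 1) (ht1 : t ≠ 1) (hne : s ≠ t) :
    IsKleinFour (Subgroup.closure ({s, t} : Set G)) ∧
      ((Subgroup.closure ({s, t} : Set G) : Subgroup G) : Set G) = {1, s, t, s * t} := by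
  have hs' : ∀ x, s * (s * x) = x := fun x => by rw [← mul_assoc, hs, one_mul]
  have ht' : ∀ x, t * (t * x) = x := fun x => by rw [← mul_assoc, ht, one_mul]
  have hts' : ∀ x, t * (s * x) = s * (t * x) := fun x => by
    rw [← mul_assoc, ← hst, mul_assoc]
  have hts : t * s = s * t := hst.symm
  have hsi : s⁻¹ = s := inv_eq_of_mul_eq_one_right hs
  have hti : t⁻¹ = t := inv_eq_of_mul_eq_one_right ht
  have hset : ((Subgroup.closure ({s, t} : Set G) : Subgroup G) : Set G) = {1, s, t, s * t} := by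
    apply Set.Subset.antisymm
    · intro x hx
      refine Subgroup.closure_induction (p := fun x _ => x ∈ ({1, s, t, s * t} : Set G))
        ?_ ?_ ?_ ?_ hx
      · intro y hy
        rcases hy with rfl | rfl
        · simp
        · simp
      · simp
      · intro x y _ _ hx hy
        simp only [Set.mem_insert_iff, Set.mem_singleton_iff] at hx hy ⊢
        rcases hx with rfl | rfl | rfl | rfl <;> rcases hy with rfl | rfl | rfl | rfl <;>
          simp [mul_assoc, hs, ht, hs', ht', hts', hts]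
      · intro x _ hx
        simp only [Set.mem_insert_iff, Set.mem_singleton_iff] at hx ⊢
        rcases hx with rfl | rfl | rfl | rfl <;> simp [hsi, hti, hts]
    · intro x hx
      have h1 : s ∈ Subgroup.closure ({s, t} : Set G) := Subgroup.subset_closure (by simp)
      have h2 : t ∈ Subgroup.closure ({s, t} : Set G) := Subgroup.subset_closure (by simp)
      simp only [Set.mem_insert_iff, Set.mem_singleton_iff] at hx
      rcases hx with rfl | rfl | rfl | rfl
      · exact Subgroup.one_mem _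
      · exact h1
      · exact h2
      · exact Subgroup.mul_mem _ h1 h2
  refine ⟨?_, hset⟩
  have hst1 : s * t ≠ 1 := by
    intro h
    apply hne
    have : s = t⁻¹ := eq_inv_of_mul_eq_one_left h
    rw [this, hti]
  have hcard : Nat.card (Subgroup.closure ({s, t} : Set G)) = 4 := by
    have h0 : Nat.card (Subgroup.closure ({s, t} : Set G)) =
        ((Subgroup.closure ({s, t} : Set G) : Subgroup G) : Set G).ncard :=
      Nat.card_coe_set_eq _
    rw [h0, hset]
    have e3 : ({s * t} : Set G).ncard = 1 := Set.ncard_singleton _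
    have e2 : ({t, s * t} : Set G).ncard = 2 := by
      rw [Set.ncard_insert_of_notMem, e3]
      simp only [Set.mem_singleton_iff]
      intro h
      apply hs1
      have : s * t = 1 * t := by rw [one_mul]; exact h.symm
      exact mul_right_cancel this
    have e1 : ({s, t, s * t} : Set G).ncard = 3 := by
      rw [Set.ncard_insert_of_notMem, e2]
      simp only [Set.mem_insert_iff, Set.mem_singleton_iff, not_or]
      refine ⟨hne, ?_⟩
      intro h
      apply ht1
      have : s * t = s * 1 := by rw [mul_one]; exact h.symm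
      exact mul_left_cancel this
    rw [Set.ncard_insert_of_notMem, e1]
    simp only [Set.mem_insert_iff, Set.mem_singleton_iff, not_or]
    exact ⟨fun h => hs1 h.symm, fun h => ht1 h.symm, fun h => hst1 h.symm⟩
  have hsq : ∀ g : Subgroup.closure ({s, t} : Set G), g ^ 2 = 1 := by
    rintro ⟨g, hg⟩
    have hg' : g ∈ ((Subgroup.closure ({s, t} : Set G) : Subgroup G) : Set G) := hg
    rw [hset] at hg'
    apply Subtype.ext
    simp only [Set.mem_insert_iff, Set.mem_singleton_iff] at hg'
    show g ^ 2 = 1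
    rw [pow_two]
    rcases hg' with rfl | rfl | rfl | rfl
    · simp
    · exact hs
    · exact ht
    · rw [mul_assoc, hts' , ht, mul_one, hs]
  refine ⟨hcard, ?_⟩
  have hdvd := Monoid.exponent_dvd_of_forall_pow_eq_one hsq
  rcases (Nat.dvd_prime Nat.prime_two).mp hdvd with h | h
  · exfalso
    rw [Monoid.exp_eq_one_iff] at h
    have : Nat.card (Subgroup.closure ({s, t} : Set G)) ≤ 1 := Finite.card_le_one_iff_subsingleton.mpr h
    omega
  · exact h


section
variable {F : Type*} [Field F]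

theorem sq_of_trace_zero (a : Matrix.SpecialLinearGroup (Fin 2) F)
    (h : a.1 0 0 + a.1 1 1 = 0) : a ^ 2 = -1 := by
  apply Subtype.ext
  rw [sl2_sq_entries]
  have hdet := sl2_det a
  have h11 : a.1 1 1 = -a.1 0 0 := by linear_combination h
  ext i j
  fin_cases i <;> fin_cases j
  · simp
    rw [h11] at hdet
    linear_combination -hdet
  · simp
    rw [h11]; ring
  · simp
    rw [h11]; ring
  · simp
    rw [h11] at hdet ⊢
    linear_combination -hdet

theorem inv_eq_neg_of_sq (b : Matrix.SpecialLinearGroup (Fin 2) F) (hb : b ^ 2 = -1) :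
    b⁻¹ = -b := by
  apply inv_eq_of_mul_eq_one_right
  rw [mul_neg, ← pow_two, hb, neg_neg]

theorem sq_of_anti (h2 : (2 : F) ≠ 0) (a b : Matrix.SpecialLinearGroup (Fin 2) F)
    (hb : b ^ 2 = -1) (h : a * b * a⁻¹ = b⁻¹) : a ^ 2 = -1 := by
  apply sq_of_trace_zero
  have hab : a * b = -(b * a) := by
    rw [inv_eq_neg_of_sq b hb] at h
    rw [mul_inv_eq_iff_eq_mul] at h
    rw [h, neg_mul]
  have hA : (a : Matrix (Fin 2) (Fin 2) F) * (b : Matrix (Fin 2) (Fin 2) F) =
      -((b : Matrix (Fin 2) (Fin 2) F) * (a : Matrix (Fin 2) (Fin 2) F)) := by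
    have := congrArg Subtype.val hab
    simpa using this
  have hB : (b : Matrix (Fin 2) (Fin 2) F) * (b : Matrix (Fin 2) (Fin 2) F) = -1 := by
    have := congrArg Subtype.val hb
    rw [pow_two] at this
    simpa using this
  have hA' : (a : Matrix (Fin 2) (Fin 2) F) =
      (b : Matrix (Fin 2) (Fin 2) F) * (a : Matrix (Fin 2) (Fin 2) F) *
        (b : Matrix (Fin 2) (Fin 2) F) := by
    have : (b : Matrix (Fin 2) (Fin 2) F) * (a : Matrix (Fin 2) (Fin 2) F) =
        -((a : Matrix (Fin 2) (Fin 2) F) * (b : Matrix (Fin 2) (Fin 2) F)) := by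
      rw [hA, neg_neg]
    rw [this, neg_mul, mul_assoc, hB]
    simp
  have htr : (a : Matrix (Fin 2) (Fin 2) F).trace = -(a : Matrix (Fin 2) (Fin 2) F).trace := by
    conv_lhs => rw [hA']
    rw [mul_assoc, Matrix.trace_mul_comm, mul_assoc, hB]
    simp
  rw [Matrix.trace_fin_two] at htr
  have : (2 : F) * (a.1 0 0 + a.1 1 1) = 0 := by linear_combination htr
  rcases mul_eq_zero.mp this with h' | h'
  · exact absurd h' h2
  · exact h'

theorem mk_neg (X : Matrix.SpecialLinearGroup (Fin 2) F) :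
    (QuotientGroup.mk (-X) : Matrix.ProjectiveSpecialLinearGroup (Fin 2) F) = QuotientGroup.mk X := by
  have h1 : -X = (-1) * X := by simp
  rw [h1, QuotientGroup.mk_mul]
  have h2 : (QuotientGroup.mk (-1 : Matrix.SpecialLinearGroup (Fin 2) F) :
      Matrix.ProjectiveSpecialLinearGroup (Fin 2) F) = 1 := by
    rw [QuotientGroup.eq_one_iff, Subgroup.mem_center_iff]
    intro g
    simp
  rw [h2, one_mul]

theorem mem_center_iff' (z : Matrix.SpecialLinearGroup (Fin 2) F) :
    z ∈ Subgroup.center (Matrix.SpecialLinearGroup (Fin 2) F) ↔ z = 1 ∨ z = -1 := by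
  constructor
  · intro h
    rw [Matrix.SpecialLinearGroup.mem_center_iff] at h
    obtain ⟨r, hr, hrz⟩ := h
    simp only [Fintype.card_fin] at hr
    have hr' : r = 1 ∨ r = -1 := by
      have : (r - 1) * (r + 1) = 0 := by linear_combination hr
      rcases mul_eq_zero.mp this with h | h
      · left; linear_combination h
      · right; linear_combination h
    rcases hr' with rfl | rfl
    · left
      apply Subtype.ext
      rw [← hrz]; simp
    · right
      apply Subtype.ext
      rw [← hrz]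
      ext i j
      fin_cases i <;> fin_cases j <;> simp
  · rintro (rfl | rfl)
    · exact Subgroup.one_mem _
    · rw [Subgroup.mem_center_iff]
      intro g
      simp

theorem mk_eq_mk_iff (x y : Matrix.SpecialLinearGroup (Fin 2) F) :
    (QuotientGroup.mk x : Matrix.ProjectiveSpecialLinearGroup (Fin 2) F) = QuotientGroup.mk y ↔
      x = y ∨ x = -y := by
  constructor
  · intro h
    rw [QuotientGroup.eq, mem_center_iff'] at h
    rcases h with h | h
    · left
      rw [inv_mul_eq_one] at h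
      exact h
    · right
      rw [inv_mul_eq_iff_eq_mul] at h
      rw [h]; simp
  · rintro (rfl | rfl)
    · rfl
    · exact mk_neg y

theorem mk_eq_one_iff (x : Matrix.SpecialLinearGroup (Fin 2) F) :
    (QuotientGroup.mk x : Matrix.ProjectiveSpecialLinearGroup (Fin 2) F) = 1 ↔
      x = 1 ∨ x = -1 := by
  rw [QuotientGroup.eq_one_iff, mem_center_iff']

end

theorem filter_card_eq_natCard {α : Type*} [Fintype α] (p : α → Prop) [DecidablePred p] :
    (Finset.univ.filter p).card = Nat.card {a // p a} := by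
  rw [Nat.card_eq_fintype_card, Fintype.card_subtype]

section
variable {F : Type*} [Field F]

theorem pair_props (h2 : (2 : F) ≠ 0) (a b : Matrix.SpecialLinearGroup (Fin 2) F)
    (hb : b ^ 2 = -1) (hab : a * b * a⁻¹ = b⁻¹) :
    (QuotientGroup.mk a : Matrix.ProjectiveSpecialLinearGroup (Fin 2) F) * QuotientGroup.mk a = 1 ∧
    (QuotientGroup.mk b : Matrix.ProjectiveSpecialLinearGroup (Fin 2) F) * QuotientGroup.mk b = 1 ∧
    (QuotientGroup.mk a : Matrix.ProjectiveSpecialLinearGroup (Fin 2) F) * QuotientGroup.mk b =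
      QuotientGroup.mk b * QuotientGroup.mk a ∧
    (QuotientGroup.mk a : Matrix.ProjectiveSpecialLinearGroup (Fin 2) F) ≠ 1 ∧
    (QuotientGroup.mk b : Matrix.ProjectiveSpecialLinearGroup (Fin 2) F) ≠ 1 ∧
    (QuotientGroup.mk a : Matrix.ProjectiveSpecialLinearGroup (Fin 2) F) ≠ QuotientGroup.mk b := by
  have ha : a ^ 2 = -1 := sq_of_anti h2 a b hb hab
  have hne := Cfsg.Agent.S0809.neg_one_ne_one h2
  have hsq1 : ∀ x : Matrix.SpecialLinearGroup (Fin 2) F, x ^ 2 = -1 →
      (QuotientGroup.mk x : Matrix.ProjectiveSpecialLinearGroup (Fin 2) F) * QuotientGroup.mk x = 1 := by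
    intro x hx
    rw [← QuotientGroup.mk_mul, ← pow_two, hx, mk_eq_one_iff]
    right; rfl
  have hne1 : ∀ x : Matrix.SpecialLinearGroup (Fin 2) F, x ^ 2 = -1 →
      (QuotientGroup.mk x : Matrix.ProjectiveSpecialLinearGroup (Fin 2) F) ≠ 1 := by
    intro x hx h
    rw [mk_eq_one_iff] at h
    rcases h with rfl | rfl
    · rw [one_pow] at hx; exact hne hx.symm
    · rw [neg_one_sq] at hx; exact hne hx.symm
  have htt := hsq1 b hb
  refine ⟨hsq1 a ha, htt, ?_, hne1 a ha, hne1 b hb, ?_⟩
  · have h1 : a * b = b⁻¹ * a := by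
      rw [← hab]; group
    have h3 : (QuotientGroup.mk b : Matrix.ProjectiveSpecialLinearGroup (Fin 2) F)⁻¹ =
        QuotientGroup.mk b := inv_eq_of_mul_eq_one_right htt
    rw [← QuotientGroup.mk_mul, h1, QuotientGroup.mk_mul, QuotientGroup.mk_inv, h3]
  · intro h
    rw [mk_eq_mk_iff] at h
    have hbb : b * b * b⁻¹ = b⁻¹ → False := by
      intro h'
      rw [mul_inv_cancel_right] at h'
      have : b ^ 2 = 1 := by
        rw [pow_two]; nth_rewrite 2 [h']; exact mul_inv_cancel b
      rw [hb] at this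
      exact hne this
    rcases h with rfl | rfl
    · exact hbb hab
    · apply hbb
      have h3 : -b * b * (-b)⁻¹ = b * b * b⁻¹ := by simp
      rw [← h3]; exact hab

theorem pair_of_klein (h2 : (2 : F) ≠ 0)
    (V : Subgroup (Matrix.ProjectiveSpecialLinearGroup (Fin 2) F)) (hV : IsKleinFour V)
    (a b : Matrix.SpecialLinearGroup (Fin 2) F)
    (ha : (QuotientGroup.mk a : Matrix.ProjectiveSpecialLinearGroup (Fin 2) F) ∈ V)
    (hb : (QuotientGroup.mk b : Matrix.ProjectiveSpecialLinearGroup (Fin 2) F) ∈ V)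
    (ha1 : (QuotientGroup.mk a : Matrix.ProjectiveSpecialLinearGroup (Fin 2) F) ≠ 1)
    (hb1 : (QuotientGroup.mk b : Matrix.ProjectiveSpecialLinearGroup (Fin 2) F) ≠ 1)
    (hab : (QuotientGroup.mk a : Matrix.ProjectiveSpecialLinearGroup (Fin 2) F) ≠ QuotientGroup.mk b) :
    b ^ 2 = -1 ∧ a * b * a⁻¹ = b⁻¹ := by
  have sq : ∀ x : Matrix.SpecialLinearGroup (Fin 2) F,
      (QuotientGroup.mk x : Matrix.ProjectiveSpecialLinearGroup (Fin 2) F) ∈ V →
      (QuotientGroup.mk x : Matrix.ProjectiveSpecialLinearGroup (Fin 2) F) ≠ 1 → x ^ 2 = -1 := by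
    intro x hx hx1
    have h := IsKleinFour.mul_self (⟨QuotientGroup.mk x, hx⟩ : V)
    have h' : (QuotientGroup.mk x : Matrix.ProjectiveSpecialLinearGroup (Fin 2) F) *
        QuotientGroup.mk x = 1 := congrArg Subtype.val h
    rw [← QuotientGroup.mk_mul, mk_eq_one_iff] at h'
    rcases h' with h' | h'
    · exfalso; apply hx1; rw [mk_eq_one_iff]
      exact sl2_sq_eq_one h2 x (by rw [pow_two]; exact h')
    · rw [pow_two]; exact h'
  have hbs := sq b hb hb1
  have has := sq a ha ha1
  refine ⟨hbs, ?_⟩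
  have hcomm : (QuotientGroup.mk a : Matrix.ProjectiveSpecialLinearGroup (Fin 2) F) *
      QuotientGroup.mk b = QuotientGroup.mk b * QuotientGroup.mk a := by
    have := (IsKleinFour.isMulCommutative (G := V)).is_comm.comm
      ⟨QuotientGroup.mk a, ha⟩ ⟨QuotientGroup.mk b, hb⟩
    exact congrArg Subtype.val this
  have h1 : (QuotientGroup.mk (a * b * a⁻¹) : Matrix.ProjectiveSpecialLinearGroup (Fin 2) F) =
      QuotientGroup.mk b := by
    rw [QuotientGroup.mk_mul, QuotientGroup.mk_mul, hcomm, QuotientGroup.mk_inv]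
    group
  rw [mk_eq_mk_iff] at h1
  rcases h1 with h1 | h1
  · exfalso
    have hc : a * b = b * a := by
      rw [mul_inv_eq_iff_eq_mul] at h1; exact h1
    have : (a * b⁻¹) ^ 2 = 1 := by
      have hc' : Commute a b⁻¹ := Commute.inv_right hc
      rw [hc'.mul_pow, has, inv_pow, hbs]; simp
    rcases sl2_sq_eq_one h2 _ this with h | h
    · apply hab; rw [mul_inv_eq_one] at h; rw [h]
    · apply hab; rw [mul_inv_eq_iff_eq_mul] at h; rw [h]
      simp only [neg_mul, one_mul]
      exact mk_neg b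
  · rw [h1, inv_eq_neg_of_sq b hbs]

variable [Fintype F]

theorem card_pairs (hF : Odd (Fintype.card F)) :
    Nat.card {p : Matrix.SpecialLinearGroup (Fin 2) F × Matrix.SpecialLinearGroup (Fin 2) F //
      p.2 ^ 2 = -1 ∧ p.1 * p.2 * p.1⁻¹ = p.2⁻¹} =
    Nat.card (Matrix.SpecialLinearGroup (Fin 2) F) := by
  classical
  rw [← filter_card_eq_natCard, Nat.card_eq_fintype_card, ← Finset.card_univ]
  set w := sl2w F with hw
  have hwsq : w ^ 2 = -1 := sl2w_sq F
  set P' := (Finset.univ.filter (fun p : Matrix.SpecialLinearGroup (Fin 2) F ×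
    Matrix.SpecialLinearGroup (Fin 2) F => p.2 ^ 2 = -1 ∧ p.1 * p.2 * p.1⁻¹ = p.2⁻¹)) with hP'
  set I' := (Finset.univ.filter (fun b : Matrix.SpecialLinearGroup (Fin 2) F => b ^ 2 = -1))
    with hI'
  have h1 : (Finset.univ : Finset (Matrix.SpecialLinearGroup (Fin 2) F)).card =
      ∑ b ∈ I', (Finset.univ.filter
        (fun g : Matrix.SpecialLinearGroup (Fin 2) F => g * w * g⁻¹ = b)).card :=
    Finset.card_eq_sum_card_fiberwise (by
      intro g _
      simp only [hI', Finset.coe_filter, Finset.mem_univ, true_and, Set.mem_ofPred_eq]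
      rw [conj_pow, hwsq]; simp)
  have h2 : P'.card = ∑ b ∈ I', (P'.filter (fun p => p.2 = b)).card :=
    Finset.card_eq_sum_card_fiberwise (by
      intro p hp
      simp only [hP', hI', Finset.coe_filter, Finset.mem_univ, true_and, Set.mem_ofPred_eq] at hp ⊢
      exact hp.1)
  rw [h1, h2]
  apply Finset.sum_congr rfl
  intro b hb
  have hb' : b ^ 2 = -1 := by simpa [hI'] using hb
  obtain ⟨P, hP⟩ : ∃ P : Matrix.SpecialLinearGroup (Fin 2) F, P * w * P⁻¹ = b :=
    sl2_conj_of_sq_eq_neg_one hF b hb'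
  have hwinv_sq : (w⁻¹) ^ 2 = -1 := by rw [inv_pow, hwsq]; simp
  obtain ⟨g₀, hg₀⟩ : ∃ g₀ : Matrix.SpecialLinearGroup (Fin 2) F, g₀ * w * g₀⁻¹ = w⁻¹ :=
    sl2_conj_of_sq_eq_neg_one hF (w⁻¹) hwinv_sq
  set k := P * g₀ * P⁻¹ with hk
  have hkb : k * b * k⁻¹ = b⁻¹ := by
    rw [hk, ← hP]
    have : P * g₀ * P⁻¹ * (P * w * P⁻¹) * (P * g₀ * P⁻¹)⁻¹ = P * (g₀ * w * g₀⁻¹) * P⁻¹ := by
      group
    rw [this, hg₀]; group
  have hkb' : k⁻¹ * b * k = b⁻¹ := by
    have h3 : b = k⁻¹ * b⁻¹ * k := by rw [← hkb]; group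
    calc k⁻¹ * b * k = (k⁻¹ * b⁻¹ * k)⁻¹ := by group
      _ = b⁻¹ := by rw [← h3]
  apply Finset.card_nbij' (fun p => k⁻¹ * p.1 * P) (fun g => (k * g * P⁻¹, b))
  · intro p hp
    simp only [hP', Finset.coe_filter, Finset.mem_filter, Finset.mem_univ, true_and,
      Set.mem_ofPred_eq] at hp ⊢
    obtain ⟨⟨hp1, hp2⟩, hp3⟩ := hp
    rw [hp3] at hp2
    have : k⁻¹ * p.1 * P * w * (k⁻¹ * p.1 * P)⁻¹ = k⁻¹ * (p.1 * (P * w * P⁻¹) * p.1⁻¹) * k := by
      group
    rw [this, hP, hp2]
    calc k⁻¹ * b⁻¹ * k = (k⁻¹ * b * k)⁻¹ := by group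
      _ = b := by rw [hkb', inv_inv]
  · intro g hg
    simp only [hP', Finset.coe_filter, Finset.mem_filter, Finset.mem_univ, true_and,
      Set.mem_ofPred_eq] at hg ⊢
    refine ⟨⟨hb', ?_⟩, trivial⟩
    have h3 : k * g * P⁻¹ * b * (k * g * P⁻¹)⁻¹ = k * (g * (P⁻¹ * b * P) * g⁻¹) * k⁻¹ := by group
    have hPb : P⁻¹ * b * P = w := by rw [← hP]; group
    rw [h3, hPb, hg, hkb]
  · intro p hp
    simp only [hP', Finset.coe_filter, Finset.mem_filter, Finset.mem_univ, true_and,
      Set.mem_ofPred_eq] at hp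
    obtain ⟨_, hp3⟩ := hp
    apply Prod.ext
    · show k * (k⁻¹ * p.1 * P) * P⁻¹ = p.1
      group
    · exact hp3.symm
  · intro g _
    show k⁻¹ * (k * g * P⁻¹) * P = g
    group

theorem card_center_two (hF : Odd (Fintype.card F)) :
    Nat.card (Subgroup.center (Matrix.SpecialLinearGroup (Fin 2) F)) = 2 := by
  rw [Cfsg.Agent.Lib.Helper07.card_center_sl 2 (by norm_num)]
  obtain ⟨t, ht⟩ := hF
  rw [ht]
  simp

theorem card_preimage (hF : Odd (Fintype.card F))
    (t : Set (Matrix.ProjectiveSpecialLinearGroup (Fin 2) F)) :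
    Nat.card {a : Matrix.SpecialLinearGroup (Fin 2) F //
      (QuotientGroup.mk a : Matrix.ProjectiveSpecialLinearGroup (Fin 2) F) ∈ t} = 2 * t.ncard := by
  have := QuotientGroup.card_preimage_mk (Subgroup.center (Matrix.SpecialLinearGroup (Fin 2) F)) t
  rw [card_center_two hF, Nat.card_coe_set_eq t] at this
  exact this

theorem card_SV (hF : Odd (Fintype.card F))
    (V : Subgroup (Matrix.ProjectiveSpecialLinearGroup (Fin 2) F)) (hV : IsKleinFour V) :
    Nat.card {p : Matrix.SpecialLinearGroup (Fin 2) F × Matrix.SpecialLinearGroup (Fin 2) F //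
      (QuotientGroup.mk p.1 : Matrix.ProjectiveSpecialLinearGroup (Fin 2) F) ∈ V ∧
      (QuotientGroup.mk p.2 : Matrix.ProjectiveSpecialLinearGroup (Fin 2) F) ∈ V ∧
      (QuotientGroup.mk p.1 : Matrix.ProjectiveSpecialLinearGroup (Fin 2) F) ≠ 1 ∧
      (QuotientGroup.mk p.2 : Matrix.ProjectiveSpecialLinearGroup (Fin 2) F) ≠ 1 ∧
      (QuotientGroup.mk p.1 : Matrix.ProjectiveSpecialLinearGroup (Fin 2) F) ≠
        QuotientGroup.mk p.2} = 24 := by
  classical
  rw [← filter_card_eq_natCard]
  set S := Finset.univ.filter (fun p : Matrix.SpecialLinearGroup (Fin 2) F ×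
      Matrix.SpecialLinearGroup (Fin 2) F =>
      (QuotientGroup.mk p.1 : Matrix.ProjectiveSpecialLinearGroup (Fin 2) F) ∈ V ∧
      (QuotientGroup.mk p.2 : Matrix.ProjectiveSpecialLinearGroup (Fin 2) F) ∈ V ∧
      (QuotientGroup.mk p.1 : Matrix.ProjectiveSpecialLinearGroup (Fin 2) F) ≠ 1 ∧
      (QuotientGroup.mk p.2 : Matrix.ProjectiveSpecialLinearGroup (Fin 2) F) ≠ 1 ∧
      (QuotientGroup.mk p.1 : Matrix.ProjectiveSpecialLinearGroup (Fin 2) F) ≠
        QuotientGroup.mk p.2) with hS
  set A := Finset.univ.filter (fun a : Matrix.SpecialLinearGroup (Fin 2) F =>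
    (QuotientGroup.mk a : Matrix.ProjectiveSpecialLinearGroup (Fin 2) F) ∈
      ((V : Set (Matrix.ProjectiveSpecialLinearGroup (Fin 2) F)) \ {1})) with hA
  have hVn : (V : Set (Matrix.ProjectiveSpecialLinearGroup (Fin 2) F)).ncard = 4 := by
    rw [← Nat.card_coe_set_eq]; exact hV.card_four
  have h1V : (1 : Matrix.ProjectiveSpecialLinearGroup (Fin 2) F) ∈
      (V : Set (Matrix.ProjectiveSpecialLinearGroup (Fin 2) F)) := V.one_mem
  have ht1 : ((V : Set (Matrix.ProjectiveSpecialLinearGroup (Fin 2) F)) \ {1}).ncard = 3 := by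
    rw [Set.ncard_sdiff_singleton_of_mem h1V, hVn]
  have hAcard : A.card = 6 := by
    rw [hA, filter_card_eq_natCard, card_preimage hF, ht1]
  have hfib : S.card = ∑ a ∈ A, (S.filter (fun p => p.1 = a)).card :=
    Finset.card_eq_sum_card_fiberwise (by
      intro p hp
      simp only [hS, hA, Finset.coe_filter, Finset.mem_univ, true_and, Set.mem_ofPred_eq,
        Set.mem_sdiff, Set.mem_singleton_iff, SetLike.mem_coe] at hp ⊢
      exact ⟨hp.1, hp.2.2.1⟩)
  have hB : ∀ a ∈ A, (S.filter (fun p => p.1 = a)).card = 4 := by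
    intro a ha
    simp only [hA, Finset.mem_filter, Finset.mem_univ, true_and, Set.mem_sdiff,
      Set.mem_singleton_iff, SetLike.mem_coe] at ha
    have hmem : (QuotientGroup.mk a : Matrix.ProjectiveSpecialLinearGroup (Fin 2) F) ∈
        (V : Set (Matrix.ProjectiveSpecialLinearGroup (Fin 2) F)) \ {1} := ⟨ha.1, ha.2⟩
    have ht2 : (((V : Set (Matrix.ProjectiveSpecialLinearGroup (Fin 2) F)) \ {1}) \ {(QuotientGroup.mk a : Matrix.ProjectiveSpecialLinearGroup (Fin 2) F)}).ncard = 2 := by
      rw [Set.ncard_sdiff_singleton_of_mem hmem, ht1]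
    have h3 : (S.filter (fun p => p.1 = a)).card =
        (Finset.univ.filter (fun b : Matrix.SpecialLinearGroup (Fin 2) F =>
          (QuotientGroup.mk b : Matrix.ProjectiveSpecialLinearGroup (Fin 2) F) ∈
            (((V : Set (Matrix.ProjectiveSpecialLinearGroup (Fin 2) F)) \ {1}) \ {(QuotientGroup.mk a : Matrix.ProjectiveSpecialLinearGroup (Fin 2) F)}))).card := by
      apply Finset.card_nbij' (fun p => p.2) (fun b => (a, b))
      · intro p hp
        simp only [hS, Finset.coe_filter, Finset.mem_filter, Finset.mem_univ, true_and,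
          Set.mem_ofPred_eq, Set.mem_sdiff, Set.mem_singleton_iff, SetLike.mem_coe] at hp ⊢
        obtain ⟨⟨h1, h2, h3, h4, h5⟩, h6⟩ := hp
        rw [h6] at h5
        exact ⟨⟨h2, h4⟩, fun h => h5 h.symm⟩
      · intro b hb
        simp only [hS, Finset.coe_filter, Finset.mem_filter, Finset.mem_univ, true_and,
          Set.mem_ofPred_eq, Set.mem_sdiff, Set.mem_singleton_iff, SetLike.mem_coe] at hb ⊢
        exact ⟨⟨ha.1, hb.1.1, ha.2, hb.1.2, fun h => hb.2 h.symm⟩, trivial⟩
      · intro p hp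
        simp only [hS, Finset.coe_filter, Finset.mem_filter, Finset.mem_univ, true_and,
          Set.mem_ofPred_eq] at hp
        exact Prod.ext hp.2.symm rfl
      · intro b _
        rfl
    rw [h3, filter_card_eq_natCard, card_preimage hF, ht2]
  rw [hfib, Finset.sum_const_nat hB, hAcard]

end

/-- For q odd, twelve times the number of Klein four-subgroups of PSL_2(q) equals the order of PSL_2(q). -/
theorem result {F : Type*} [Field F] [Fintype F] {q : ℕ} (hF : Fintype.card F = q) (hodd : Odd q) : 12 * Nat.card {V : Subgroup (Matrix.ProjectiveSpecialLinearGroup (Fin 2) F) // IsKleinFour V} = Nat.card (Matrix.ProjectiveSpecialLinearGroup (Fin 2) F) := by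
  classical
  subst hF
  have h2 := two_ne_zero_of_odd_card hodd
  have : Fintype (Subgroup (Matrix.ProjectiveSpecialLinearGroup (Fin 2) F)) := Fintype.ofFinite _
  set P' := Finset.univ.filter (fun p : Matrix.SpecialLinearGroup (Fin 2) F ×
    Matrix.SpecialLinearGroup (Fin 2) F => p.2 ^ 2 = -1 ∧ p.1 * p.2 * p.1⁻¹ = p.2⁻¹) with hP'
  let f : Matrix.SpecialLinearGroup (Fin 2) F × Matrix.SpecialLinearGroup (Fin 2) F →
      Subgroup (Matrix.ProjectiveSpecialLinearGroup (Fin 2) F) := fun p =>
    Subgroup.closure {(QuotientGroup.mk p.1 : Matrix.ProjectiveSpecialLinearGroup (Fin 2) F),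
      (QuotientGroup.mk p.2 : Matrix.ProjectiveSpecialLinearGroup (Fin 2) F)}
  set KV := Finset.univ.filter
    (fun V : Subgroup (Matrix.ProjectiveSpecialLinearGroup (Fin 2) F) => IsKleinFour V) with hKV
  have hmaps : Set.MapsTo f ↑P' ↑KV := by
    intro p hp
    simp only [hP', hKV, Finset.coe_filter, Finset.mem_univ, true_and, Set.mem_ofPred_eq] at hp ⊢
    obtain ⟨h1, h2', h3, h4, h5, h6⟩ := pair_props h2 p.1 p.2 hp.1 hp.2
    exact (isKleinFour_closure _ _ h1 h2' h3 h4 h5 h6).1
  have hfib : P'.card = ∑ V ∈ KV, (P'.filter (fun p => f p = V)).card :=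
    Finset.card_eq_sum_card_fiberwise hmaps
  have h24 : ∀ V ∈ KV, (P'.filter (fun p => f p = V)).card = 24 := by
    intro V hV
    have hVK : IsKleinFour V := by simpa [hKV] using hV
    have h3 : P'.filter (fun p => f p = V) =
        Finset.univ.filter (fun p : Matrix.SpecialLinearGroup (Fin 2) F ×
          Matrix.SpecialLinearGroup (Fin 2) F =>
          (QuotientGroup.mk p.1 : Matrix.ProjectiveSpecialLinearGroup (Fin 2) F) ∈ V ∧
          (QuotientGroup.mk p.2 : Matrix.ProjectiveSpecialLinearGroup (Fin 2) F) ∈ V ∧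
          (QuotientGroup.mk p.1 : Matrix.ProjectiveSpecialLinearGroup (Fin 2) F) ≠ 1 ∧
          (QuotientGroup.mk p.2 : Matrix.ProjectiveSpecialLinearGroup (Fin 2) F) ≠ 1 ∧
          (QuotientGroup.mk p.1 : Matrix.ProjectiveSpecialLinearGroup (Fin 2) F) ≠
            QuotientGroup.mk p.2) := by
      ext p
      simp only [hP', Finset.mem_filter, Finset.mem_univ, true_and]
      constructor
      · rintro ⟨⟨hp1, hp2⟩, hp3⟩
        obtain ⟨h1, h2', h3, h4, h5, h6⟩ := pair_props h2 p.1 p.2 hp1 hp2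
        have hsub : ({(QuotientGroup.mk p.1 : Matrix.ProjectiveSpecialLinearGroup (Fin 2) F),
            (QuotientGroup.mk p.2 : Matrix.ProjectiveSpecialLinearGroup (Fin 2) F)} :
            Set (Matrix.ProjectiveSpecialLinearGroup (Fin 2) F)) ⊆ V := by
          rw [← hp3]; exact Subgroup.subset_closure
        exact ⟨hsub (by simp), hsub (by simp), h4, h5, h6⟩
      · rintro ⟨ha, hb, ha1, hb1, hab⟩
        obtain ⟨hp1, hp2⟩ := pair_of_klein h2 V hVK p.1 p.2 ha hb ha1 hb1 hab
        refine ⟨⟨hp1, hp2⟩, ?_⟩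
        obtain ⟨h1, h2', h3, h4, h5, h6⟩ := pair_props h2 p.1 p.2 hp1 hp2
        have hK := (isKleinFour_closure _ _ h1 h2' h3 h4 h5 h6).1
        have hle : f p ≤ V := by
          show Subgroup.closure _ ≤ V
          rw [Subgroup.closure_le]
          intro x hx
          rcases hx with rfl | rfl
          · exact ha
          · exact hb
        exact Subgroup.eq_of_le_of_card_ge hle (by rw [hVK.card_four, hK.card_four])
    rw [h3, filter_card_eq_natCard, card_SV hodd V hVK]
  have hP'card : P'.card = Nat.card (Matrix.SpecialLinearGroup (Fin 2) F) := by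
    rw [hP', filter_card_eq_natCard]; exact card_pairs hodd
  have hVcard : Nat.card {V : Subgroup (Matrix.ProjectiveSpecialLinearGroup (Fin 2) F) //
      IsKleinFour V} = KV.card := by
    rw [hKV, filter_card_eq_natCard]
  have hSL : Nat.card (Matrix.SpecialLinearGroup (Fin 2) F) =
      Nat.card (Matrix.ProjectiveSpecialLinearGroup (Fin 2) F) * 2 := by
    rw [Cfsg.Agent.Lib.Helper07.card_sl_eq_card_psl_mul 2 (by norm_num)]
    congr 1
    obtain ⟨t, ht⟩ := hodd
    rw [ht]; simp
  rw [hVcard]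
  rw [Finset.sum_const_nat h24, hP'card, hSL] at hfib
  omega

end Cfsg.Agent.S0807
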