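import Cfsg.Statements.S0808
import Cfsg.Agent.S0807

set_option autoImplicit false
set_option linter.unusedSimpArgs false
open Cfsg

namespace Cfsg.Agent.S0808

open Matrix Cfsg.Agent.Lib.Helper60 Cfsg.Agent.S0807

section
variable {F : Type*} [Field F]

/-- anticommuting pair upstairs -/
def IsPair (a b : Matrix.SpecialLinearGroup (Fin 2) F) : Prop :=
  b ^ 2 = -1 ∧ a * b * a⁻¹ = b⁻¹

/-- the four-group of a pair -/
def VV (a b : Matrix.SpecialLinearGroup (Fin 2) F) :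
    Subgroup (Matrix.ProjectiveSpecialLinearGroup (Fin 2) F) :=
  Subgroup.closure {(QuotientGroup.mk a : Matrix.ProjectiveSpecialLinearGroup (Fin 2) F),
    (QuotientGroup.mk b : Matrix.ProjectiveSpecialLinearGroup (Fin 2) F)}

/-- simultaneous conjugacy of pairs -/
def Rel (a b a' b' : Matrix.SpecialLinearGroup (Fin 2) F) : Prop :=
  ∃ g : Matrix.SpecialLinearGroup (Fin 2) F, g * a * g⁻¹ = a' ∧ g * b * g⁻¹ = b'

theorem Rel.refl (a b : Matrix.SpecialLinearGroup (Fin 2) F) : Rel a b a b :=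
  ⟨1, by simp, by simp⟩

theorem Rel.symm {a b a' b' : Matrix.SpecialLinearGroup (Fin 2) F} (h : Rel a b a' b') :
    Rel a' b' a b := by
  obtain ⟨g, rfl, rfl⟩ := h
  exact ⟨g⁻¹, by group, by group⟩

theorem Rel.trans {a b a' b' a'' b'' : Matrix.SpecialLinearGroup (Fin 2) F}
    (h : Rel a b a' b') (h' : Rel a' b' a'' b'') : Rel a b a'' b'' := by
  obtain ⟨g, rfl, rfl⟩ := h
  obtain ⟨g', rfl, rfl⟩ := h'
  exact ⟨g' * g, by group, by group⟩

theorem Rel.conj {a b a' b' : Matrix.SpecialLinearGroup (Fin 2) F}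
    (k : Matrix.SpecialLinearGroup (Fin 2) F)
    (h : Rel (k * a * k⁻¹) (k * b * k⁻¹) (k * a' * k⁻¹) (k * b' * k⁻¹)) : Rel a b a' b' := by
  obtain ⟨g, h1, h2⟩ := h
  refine ⟨k⁻¹ * g * k, ?_, ?_⟩
  · have : k⁻¹ * g * k * a * (k⁻¹ * g * k)⁻¹ = k⁻¹ * (g * (k * a * k⁻¹) * g⁻¹) * k := by group
    rw [this, h1]; group
  · have : k⁻¹ * g * k * b * (k⁻¹ * g * k)⁻¹ = k⁻¹ * (g * (k * b * k⁻¹) * g⁻¹) * k := by group
    rw [this, h2]; group

theorem IsPair.conj {a b : Matrix.SpecialLinearGroup (Fin 2) F} (h : IsPair a b)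
    (g : Matrix.SpecialLinearGroup (Fin 2) F) : IsPair (g * a * g⁻¹) (g * b * g⁻¹) := by
  obtain ⟨h1, h2⟩ := h
  constructor
  · rw [conj_pow, h1]; simp
  · have : g * a * g⁻¹ * (g * b * g⁻¹) * (g * a * g⁻¹)⁻¹ = g * (a * b * a⁻¹) * g⁻¹ := by group
    rw [this, h2]; group

theorem IsPair.of_rel {a b a' b' : Matrix.SpecialLinearGroup (Fin 2) F} (h : IsPair a b)
    (hr : Rel a b a' b') : IsPair a' b' := by
  obtain ⟨g, rfl, rfl⟩ := hr
  exact h.conj g

theorem VV_conj (g a b : Matrix.SpecialLinearGroup (Fin 2) F) :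
    VV (g * a * g⁻¹) (g * b * g⁻¹) =
      (VV a b).map (MulAut.conj
        (QuotientGroup.mk g : Matrix.ProjectiveSpecialLinearGroup (Fin 2) F)).toMonoidHom := by
  unfold VV
  rw [MonoidHom.map_closure, Set.image_pair]
  rfl

theorem VV_of_rel {a b a' b' : Matrix.SpecialLinearGroup (Fin 2) F} (hr : Rel a b a' b') :
    ∃ γ : Matrix.ProjectiveSpecialLinearGroup (Fin 2) F,
      VV a' b' = (VV a b).map (MulAut.conj γ).toMonoidHom := by
  obtain ⟨g, rfl, rfl⟩ := hr
  exact ⟨_, VV_conj g a b⟩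

theorem VV_isKleinFour (h2 : (2 : F) ≠ 0) {a b : Matrix.SpecialLinearGroup (Fin 2) F}
    (h : IsPair a b) : IsKleinFour (VV a b) ∧
      ((VV a b : Subgroup (Matrix.ProjectiveSpecialLinearGroup (Fin 2) F)) :
        Set (Matrix.ProjectiveSpecialLinearGroup (Fin 2) F)) =
        {1, QuotientGroup.mk a, QuotientGroup.mk b, QuotientGroup.mk a * QuotientGroup.mk b} := by
  obtain ⟨h1, h2', h3, h4, h5, h6⟩ := pair_props h2 a b h.1 h.2
  exact isKleinFour_closure _ _ h1 h2' h3 h4 h5 h6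

/-- every Klein four-subgroup comes from a pair -/
theorem klein_eq_VV [Finite F] (h2 : (2 : F) ≠ 0)
    (V : Subgroup (Matrix.ProjectiveSpecialLinearGroup (Fin 2) F)) (hV : IsKleinFour V) :
    ∃ a b : Matrix.SpecialLinearGroup (Fin 2) F, IsPair a b ∧ V = VV a b := by
  have hVn : (V : Set (Matrix.ProjectiveSpecialLinearGroup (Fin 2) F)).ncard = 4 := by
    rw [← Nat.card_coe_set_eq]; exact hV.card_four
  have h1V : (1 : Matrix.ProjectiveSpecialLinearGroup (Fin 2) F) ∈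
      (V : Set (Matrix.ProjectiveSpecialLinearGroup (Fin 2) F)) := V.one_mem
  have ht1 : ((V : Set (Matrix.ProjectiveSpecialLinearGroup (Fin 2) F)) \ {1}).ncard = 3 := by
    rw [Set.ncard_sdiff_singleton_of_mem h1V, hVn]
  obtain ⟨s, hs⟩ := Set.nonempty_of_ncard_ne_zero (by rw [ht1]; norm_num)
  have ht2 : (((V : Set (Matrix.ProjectiveSpecialLinearGroup (Fin 2) F)) \ {1}) \ {s}).ncard = 2 := by
    rw [Set.ncard_sdiff_singleton_of_mem hs, ht1]
  obtain ⟨t, ht⟩ := Set.nonempty_of_ncard_ne_zero (by rw [ht2]; norm_num)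
  obtain ⟨a, rfl⟩ := QuotientGroup.mk_surjective s
  obtain ⟨b, rfl⟩ := QuotientGroup.mk_surjective t
  simp only [Set.mem_sdiff, Set.mem_singleton_iff, SetLike.mem_coe] at hs ht
  have hab : (QuotientGroup.mk a : Matrix.ProjectiveSpecialLinearGroup (Fin 2) F) ≠
      QuotientGroup.mk b := fun h => ht.2 h.symm
  have hp := pair_of_klein h2 V hV a b hs.1 ht.1.1 hs.2 ht.1.2 hab
  refine ⟨a, b, hp, ?_⟩
  have hK := (VV_isKleinFour h2 hp).1
  have hle : VV a b ≤ V := by
    unfold VV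
    rw [Subgroup.closure_le]
    intro x hx
    rcases hx with rfl | rfl
    · exact hs.1
    · exact ht.1.1
  exact (Subgroup.eq_of_le_of_card_ge hle (by rw [hV.card_four, hK.card_four])).symm

end

section
variable {F : Type*} [Field F]

/-- explicit elements of the centralizer of `w` -/
def cmat (u v : F) (h : u ^ 2 + v ^ 2 = 1) : Matrix.SpecialLinearGroup (Fin 2) F :=
  ⟨!![u, -v; v, u], by
      rw [Matrix.det_fin_two]
      simp only [Matrix.of_apply, Matrix.cons_val', Matrix.cons_val_zero, Matrix.cons_val_one,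
        Matrix.cons_val_fin_one]
      linear_combination h⟩

/-- explicit elements inverting `w` -/
def dmat (x y : F) (h : x ^ 2 + y ^ 2 = -1) : Matrix.SpecialLinearGroup (Fin 2) F :=
  ⟨!![x, y; y, -x], by
      rw [Matrix.det_fin_two]
      simp only [Matrix.of_apply, Matrix.cons_val', Matrix.cons_val_zero, Matrix.cons_val_one,
        Matrix.cons_val_fin_one]
      linear_combination -h⟩

theorem sl_ext {A B : Matrix.SpecialLinearGroup (Fin 2) F}
    (h00 : A.1 0 0 = B.1 0 0) (h01 : A.1 0 1 = B.1 0 1) (h10 : A.1 1 0 = B.1 1 0)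
    (h11 : A.1 1 1 = B.1 1 1) : A = B := by
  apply Subtype.ext
  ext i j
  fin_cases i <;> fin_cases j <;> assumption

theorem mmul00 (A B : Matrix (Fin 2) (Fin 2) F) :
    (A * B) 0 0 = A 0 0 * B 0 0 + A 0 1 * B 1 0 := by
  simp [Matrix.mul_apply, Fin.sum_univ_two]
theorem mmul01 (A B : Matrix (Fin 2) (Fin 2) F) :
    (A * B) 0 1 = A 0 0 * B 0 1 + A 0 1 * B 1 1 := by
  simp [Matrix.mul_apply, Fin.sum_univ_two]
theorem mmul10 (A B : Matrix (Fin 2) (Fin 2) F) :
    (A * B) 1 0 = A 1 0 * B 0 0 + A 1 1 * B 1 0 := by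
  simp [Matrix.mul_apply, Fin.sum_univ_two]
theorem mmul11 (A B : Matrix (Fin 2) (Fin 2) F) :
    (A * B) 1 1 = A 1 0 * B 0 1 + A 1 1 * B 1 1 := by
  simp [Matrix.mul_apply, Fin.sum_univ_two]

@[simp] theorem cmat00 (u v : F) (h : u ^ 2 + v ^ 2 = 1) : (cmat u v h).1 0 0 = u := rfl
@[simp] theorem cmat01 (u v : F) (h : u ^ 2 + v ^ 2 = 1) : (cmat u v h).1 0 1 = -v := rfl
@[simp] theorem cmat10 (u v : F) (h : u ^ 2 + v ^ 2 = 1) : (cmat u v h).1 1 0 = v := rfl
@[simp] theorem cmat11 (u v : F) (h : u ^ 2 + v ^ 2 = 1) : (cmat u v h).1 1 1 = u := rfl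
@[simp] theorem dmat00 (x y : F) (h : x ^ 2 + y ^ 2 = -1) : (dmat x y h).1 0 0 = x := rfl
@[simp] theorem dmat01 (x y : F) (h : x ^ 2 + y ^ 2 = -1) : (dmat x y h).1 0 1 = y := rfl
@[simp] theorem dmat10 (x y : F) (h : x ^ 2 + y ^ 2 = -1) : (dmat x y h).1 1 0 = y := rfl
@[simp] theorem dmat11 (x y : F) (h : x ^ 2 + y ^ 2 = -1) : (dmat x y h).1 1 1 = -x := rfl
@[simp] theorem w00 : (sl2w F).1 0 0 = 0 := rfl
@[simp] theorem w01 : (sl2w F).1 0 1 = -1 := rfl
@[simp] theorem w10 : (sl2w F).1 1 0 = 1 := rfl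
@[simp] theorem w11 : (sl2w F).1 1 1 = 0 := rfl

theorem exists_cmat (c : Matrix.SpecialLinearGroup (Fin 2) F) (hc : c * sl2w F = sl2w F * c) :
    ∃ (u v : F) (h : u ^ 2 + v ^ 2 = 1), c = cmat u v h := by
  obtain ⟨h1, h2⟩ := (Cfsg.Agent.S0809.comm_w_iff c).mp hc
  have hdet := sl2_det c
  refine ⟨c.1 0 0, c.1 1 0, ?_, ?_⟩
  · rw [h1, h2] at hdet
    linear_combination hdet
  · apply sl_ext <;> simp [h1, h2]

theorem cmat_comm (u v : F) (h : u ^ 2 + v ^ 2 = 1) :
    cmat u v h * sl2w F = sl2w F * cmat u v h := by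
  rw [Cfsg.Agent.S0809.comm_w_iff]
  simp

theorem isPair_w_iff (d : Matrix.SpecialLinearGroup (Fin 2) F) :
    IsPair d (sl2w F) ↔ d.1 1 0 = d.1 0 1 ∧ d.1 1 1 = -d.1 0 0 := by
  unfold IsPair
  rw [mul_inv_eq_iff_eq_mul, Cfsg.Agent.S0809.w_inv]
  constructor
  · rintro ⟨_, h⟩
    have h00 := congrArg (fun A : Matrix.SpecialLinearGroup (Fin 2) F => A.1 0 0) h
    have h10 := congrArg (fun A : Matrix.SpecialLinearGroup (Fin 2) F => A.1 1 0) h
    simp [Matrix.SpecialLinearGroup.coe_mul, Matrix.SpecialLinearGroup.coe_neg,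
      mmul00, mmul01, mmul10, mmul11] at h00 h10
    exact ⟨h00.symm, h10⟩
  · rintro ⟨h1, h2⟩
    refine ⟨sl2w_sq F, ?_⟩
    apply sl_ext <;>
      simp [Matrix.SpecialLinearGroup.coe_mul, Matrix.SpecialLinearGroup.coe_neg,
        mmul00, mmul01, mmul10, mmul11, h1, h2]

theorem exists_dmat (d : Matrix.SpecialLinearGroup (Fin 2) F) (hd : IsPair d (sl2w F)) :
    ∃ (x y : F) (h : x ^ 2 + y ^ 2 = -1), d = dmat x y h := by
  obtain ⟨h1, h2⟩ := (isPair_w_iff d).mp hd
  have hdet := sl2_det d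
  refine ⟨d.1 0 0, d.1 0 1, ?_, ?_⟩
  · rw [h1, h2] at hdet
    linear_combination -hdet
  · apply sl_ext <;> simp [h1, h2]

theorem dmat_isPair (x y : F) (h : x ^ 2 + y ^ 2 = -1) : IsPair (dmat x y h) (sl2w F) := by
  rw [isPair_w_iff]
  simp

end

section
variable {F : Type*} [Field F]

theorem cdc (u v : F) (h : u ^ 2 + v ^ 2 = 1) (x y : F) (h' : x ^ 2 + y ^ 2 = -1) :
    cmat u v h * dmat x y h' * cmat u v h = dmat x y h' := by
  apply sl_ext
  · simp only [Matrix.SpecialLinearGroup.coe_mul, mmul00, mmul01, mmul10, mmul11, cmat00, cmat01, cmat10, cmat11, dmat00, dmat01, dmat10, dmat11, w00, w01, w10, w11]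
    linear_combination x * h
  · simp only [Matrix.SpecialLinearGroup.coe_mul, mmul00, mmul01, mmul10, mmul11, cmat00, cmat01, cmat10, cmat11, dmat00, dmat01, dmat10, dmat11, w00, w01, w10, w11]
    linear_combination y * h
  · simp only [Matrix.SpecialLinearGroup.coe_mul, mmul00, mmul01, mmul10, mmul11, cmat00, cmat01, cmat10, cmat11, dmat00, dmat01, dmat10, dmat11, w00, w01, w10, w11]
    linear_combination y * h
  · simp only [Matrix.SpecialLinearGroup.coe_mul, mmul00, mmul01, mmul10, mmul11, cmat00, cmat01, cmat10, cmat11, dmat00, dmat01, dmat10, dmat11, w00, w01, w10, w11]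
    linear_combination (-x) * h

theorem conj_eq_sq_mul (c d : Matrix.SpecialLinearGroup (Fin 2) F)
    (hc : c * sl2w F = sl2w F * c) (hd : IsPair d (sl2w F)) : c * d * c⁻¹ = c ^ 2 * d := by
  obtain ⟨u, v, h, rfl⟩ := exists_cmat c hc
  obtain ⟨x, y, h', rfl⟩ := exists_dmat d hd
  have h1 := cdc u v h x y h'
  have h2 : dmat x y h' * (cmat u v h)⁻¹ = cmat u v h * dmat x y h' := by
    rw [mul_inv_eq_iff_eq_mul]; exact h1.symm
  rw [mul_assoc, h2, pow_two, mul_assoc]

theorem mul_inv_comm_w (d d' : Matrix.SpecialLinearGroup (Fin 2) F)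
    (hd : IsPair d (sl2w F)) (hd' : IsPair d' (sl2w F)) :
    (d' * d⁻¹) * sl2w F = sl2w F * (d' * d⁻¹) := by
  have h1 : sl2w F = d⁻¹ * (sl2w F)⁻¹ * d := by
    rw [← hd.2]; group
  have h2 : sl2w F = d'⁻¹ * (sl2w F)⁻¹ * d' := by
    rw [← hd'.2]; group
  have h3 : d⁻¹ * sl2w F = (sl2w F)⁻¹ * d⁻¹ := by
    have : (sl2w F)⁻¹ = d⁻¹ * sl2w F * d := by
      calc (sl2w F)⁻¹ = (d⁻¹ * (sl2w F)⁻¹ * d)⁻¹ := by rw [← h1]
        _ = d⁻¹ * sl2w F * d := by group
    rw [this]; group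
  have h4 : d' * (sl2w F)⁻¹ = sl2w F * d' := by
    have : (sl2w F)⁻¹ = d'⁻¹ * sl2w F * d' := by
      calc (sl2w F)⁻¹ = (d'⁻¹ * (sl2w F)⁻¹ * d')⁻¹ := by rw [← h2]
        _ = d'⁻¹ * sl2w F * d' := by group
    rw [this]; group
  rw [mul_assoc, h3, ← mul_assoc, h4, mul_assoc]

/-- squares in the centralizer of `w` -/
def IsSq (c : Matrix.SpecialLinearGroup (Fin 2) F) : Prop :=
  ∃ c₁ : Matrix.SpecialLinearGroup (Fin 2) F, c₁ * sl2w F = sl2w F * c₁ ∧ c₁ ^ 2 = c

theorem cmat_sq (u v : F) (h : u ^ 2 + v ^ 2 = 1) (u' v' : F) (h' : u' ^ 2 + v' ^ 2 = 1)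
    (hu : u' = u ^ 2 - v ^ 2) (hv : v' = 2 * u * v) : cmat u v h ^ 2 = cmat u' v' h' := by
  rw [pow_two]
  apply sl_ext
  · simp only [Matrix.SpecialLinearGroup.coe_mul, mmul00, mmul01, mmul10, mmul11, cmat00, cmat01, cmat10, cmat11, dmat00, dmat01, dmat10, dmat11, w00, w01, w10, w11]; rw [hu]; ring
  · simp only [Matrix.SpecialLinearGroup.coe_mul, mmul00, mmul01, mmul10, mmul11, cmat00, cmat01, cmat10, cmat11, dmat00, dmat01, dmat10, dmat11, w00, w01, w10, w11]; rw [hv]; ring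
  · simp only [Matrix.SpecialLinearGroup.coe_mul, mmul00, mmul01, mmul10, mmul11, cmat00, cmat01, cmat10, cmat11, dmat00, dmat01, dmat10, dmat11, w00, w01, w10, w11]; rw [hv]; ring
  · simp only [Matrix.SpecialLinearGroup.coe_mul, mmul00, mmul01, mmul10, mmul11, cmat00, cmat01, cmat10, cmat11, dmat00, dmat01, dmat10, dmat11, w00, w01, w10, w11]; rw [hu]; ring

theorem isSq_cmat_iff (h2 : (2 : F) ≠ 0) (u v : F) (h : u ^ 2 + v ^ 2 = 1) :
    IsSq (cmat u v h) ↔ IsSquare (2 * (1 + u)) := by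
  constructor
  · rintro ⟨c₁, hc₁, hsq⟩
    obtain ⟨u₁, v₁, h₁, rfl⟩ := exists_cmat c₁ hc₁
    have h00 := congrArg (fun A : Matrix.SpecialLinearGroup (Fin 2) F => A.1 0 0) hsq
    rw [pow_two] at h00
    simp only [Matrix.SpecialLinearGroup.coe_mul, mmul00, mmul01, mmul10, mmul11, cmat00, cmat01, cmat10, cmat11, dmat00, dmat01, dmat10, dmat11, w00, w01, w10, w11] at h00
    refine ⟨2 * u₁, ?_⟩
    rw [← h00]
    linear_combination (-2) * h₁
  · rintro ⟨s, hs⟩
    by_cases hu : u = -1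
    · have hv : v = 0 := by
        have : v ^ 2 = 0 := by rw [hu] at h; linear_combination h
        exact pow_eq_zero_iff two_ne_zero |>.mp this
      refine ⟨sl2w F, rfl, ?_⟩
      rw [sl2w_sq]
      apply sl_ext <;> simp [Matrix.SpecialLinearGroup.coe_neg, hu, hv]
    · have hu1 : 1 + u ≠ 0 := fun h0 => hu (by linear_combination h0)
      have hs0 : s ≠ 0 := by
        rintro rfl
        rw [mul_zero] at hs
        rcases mul_eq_zero.mp hs with h0 | h0
        · exact h2 h0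
        · exact hu1 h0
      have hss : s * s = 2 * (1 + u) := hs.symm
      have hs2 : s ^ 2 = 2 * (1 + u) := by rw [pow_two]; exact hss
      have h4 : (2 : F) ^ 2 ≠ 0 := pow_ne_zero 2 h2
      have hsn : s ^ 2 ≠ 0 := pow_ne_zero 2 hs0
      have h₁ : (s / 2) ^ 2 + (v / s) ^ 2 = 1 := by
        rw [div_pow, div_pow, div_add_div _ _ h4 hsn, div_eq_one_iff_eq (mul_ne_zero h4 hsn), hs2]
        linear_combination 4 * h
      refine ⟨cmat (s / 2) (v / s) h₁, cmat_comm _ _ _, ?_⟩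
      apply cmat_sq
      · rw [div_pow, div_pow, div_sub_div _ _ h4 hsn, eq_div_iff (mul_ne_zero h4 hsn), hs2]
        linear_combination 4 * h
      · field_simp

end

section
variable {F : Type*} [Field F]

theorem nonsq_mul_nonsq [Fintype F] (a b : F) (ha : ¬IsSquare a) (hb : ¬IsSquare b) :
    IsSquare (a * b) := by
  classical
  have ha0 : a ≠ 0 := by rintro rfl; exact ha (IsSquare.zero)
  have hb0 : b ≠ 0 := by rintro rfl; exact hb (IsSquare.zero)
  rw [← quadraticChar_neg_one_iff_not_isSquare] at ha hb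
  rw [← quadraticChar_one_iff_isSquare (mul_ne_zero ha0 hb0), map_mul, ha, hb]
  norm_num

theorem cmat_inv (u v : F) (h : u ^ 2 + v ^ 2 = 1) :
    (cmat u v h)⁻¹ = cmat u (-v) (by linear_combination h) := by
  apply inv_eq_of_mul_eq_one_right
  apply sl_ext
  · simp only [Matrix.SpecialLinearGroup.coe_mul, mmul00, mmul01, mmul10, mmul11, cmat00, cmat01, cmat10, cmat11, dmat00, dmat01, dmat10, dmat11, w00, w01, w10, w11, Matrix.SpecialLinearGroup.coe_one, Matrix.one_apply_eq]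
    linear_combination h
  · simp only [Matrix.SpecialLinearGroup.coe_mul, mmul00, mmul01, mmul10, mmul11, cmat00, cmat01, cmat10, cmat11, dmat00, dmat01, dmat10, dmat11, w00, w01, w10, w11, Matrix.SpecialLinearGroup.coe_one]
    rw [Matrix.one_apply_ne (by decide)]
    ring
  · simp only [Matrix.SpecialLinearGroup.coe_mul, mmul00, mmul01, mmul10, mmul11, cmat00, cmat01, cmat10, cmat11, dmat00, dmat01, dmat10, dmat11, w00, w01, w10, w11, Matrix.SpecialLinearGroup.coe_one]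
    rw [Matrix.one_apply_ne (by decide)]
    ring
  · simp only [Matrix.SpecialLinearGroup.coe_mul, mmul00, mmul01, mmul10, mmul11, cmat00, cmat01, cmat10, cmat11, dmat00, dmat01, dmat10, dmat11, w00, w01, w10, w11, Matrix.SpecialLinearGroup.coe_one, Matrix.one_apply_eq]
    linear_combination h

theorem cmat_mul (u v : F) (h : u ^ 2 + v ^ 2 = 1) (u' v' : F) (h' : u' ^ 2 + v' ^ 2 = 1)
    (h'' : (u * u' - v * v') ^ 2 + (u * v' + v * u') ^ 2 = 1) :
    cmat u v h * cmat u' v' h' = cmat (u * u' - v * v') (u * v' + v * u') h'' := by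
  apply sl_ext
  · simp only [Matrix.SpecialLinearGroup.coe_mul, mmul00, mmul01, mmul10, mmul11, cmat00, cmat01, cmat10, cmat11, dmat00, dmat01, dmat10, dmat11, w00, w01, w10, w11]; ring
  · simp only [Matrix.SpecialLinearGroup.coe_mul, mmul00, mmul01, mmul10, mmul11, cmat00, cmat01, cmat10, cmat11, dmat00, dmat01, dmat10, dmat11, w00, w01, w10, w11]; ring
  · simp only [Matrix.SpecialLinearGroup.coe_mul, mmul00, mmul01, mmul10, mmul11, cmat00, cmat01, cmat10, cmat11, dmat00, dmat01, dmat10, dmat11, w00, w01, w10, w11]; ring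
  · simp only [Matrix.SpecialLinearGroup.coe_mul, mmul00, mmul01, mmul10, mmul11, cmat00, cmat01, cmat10, cmat11, dmat00, dmat01, dmat10, dmat11, w00, w01, w10, w11]; ring

theorem isSq_mul_inv [Fintype F] (h2 : (2 : F) ≠ 0)
    (c e : Matrix.SpecialLinearGroup (Fin 2) F)
    (hc : c * sl2w F = sl2w F * c) (he : e * sl2w F = sl2w F * e)
    (hnc : ¬IsSq c) (hne : ¬IsSq e) : IsSq (c * e⁻¹) := by
  obtain ⟨u, v, h, rfl⟩ := exists_cmat c hc
  obtain ⟨u', v', h', rfl⟩ := exists_cmat e he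
  have h'' : (u * u' - v * (-v')) ^ 2 + (u * (-v') + v * u') ^ 2 = 1 := by
    linear_combination (u' ^ 2 + v' ^ 2) * h + h'
  rw [cmat_inv, cmat_mul u v h u' (-v') _ h'']
  rw [isSq_cmat_iff h2] at hnc hne ⊢
  obtain ⟨S, hS⟩ := nonsq_mul_nonsq _ _ hnc hne
  have hA0 : 2 * (1 + u) ≠ 0 := by intro h0; rw [h0] at hnc; exact hnc IsSquare.zero
  have hB0 : 2 * (1 + u') ≠ 0 := by intro h0; rw [h0] at hne; exact hne IsSquare.zero
  have hS0 : S ≠ 0 := by
    rintro rfl
    rw [mul_zero] at hS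
    exact (mul_ne_zero hA0 hB0) hS
  refine ⟨2 * ((1 + u) * (1 + u') + v * v') / S, ?_⟩
  rw [div_mul_div_comm, eq_div_iff (mul_ne_zero hS0 hS0), ← hS]
  linear_combination (-4 * v ^ 2) * h' + (-4 * (1 - u' ^ 2)) * h

theorem isSq_or (h2 : (2 : F) ≠ 0) [Fintype F] (hns : ¬IsSquare (2 : F))
    (c : Matrix.SpecialLinearGroup (Fin 2) F) (hc : c * sl2w F = sl2w F * c) :
    IsSq c ∨ IsSq ((sl2w F)⁻¹ * c) := by
  obtain ⟨u, v, h, rfl⟩ := exists_cmat c hc
  have hwc : (sl2w F)⁻¹ * cmat u v h = cmat v (-u) (by linear_combination h) := by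
    rw [Cfsg.Agent.S0809.w_inv]
    apply sl_ext <;>
      simp [Matrix.SpecialLinearGroup.coe_mul, Matrix.SpecialLinearGroup.coe_neg,
        mmul00, mmul01, mmul10, mmul11]
  rw [hwc, isSq_cmat_iff h2, isSq_cmat_iff h2]
  by_contra hcon
  push Not at hcon
  obtain ⟨hA, hB⟩ := hcon
  obtain ⟨S, hS⟩ := nonsq_mul_nonsq _ _ hA hB
  have hA0 : 2 * (1 + u) ≠ 0 := by intro h0; rw [h0] at hA; exact hA IsSquare.zero
  have hB0 : 2 * (1 + v) ≠ 0 := by intro h0; rw [h0] at hB; exact hB IsSquare.zero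
  have hid : 2 * (1 + u) * (2 * (1 + v)) = 2 * (1 + u + v) ^ 2 := by
    linear_combination (-2) * h
  have hT0 : 1 + u + v ≠ 0 := by
    intro h0
    rw [h0] at hid
    simp at hid
    rcases hid with h3 | h3
    · rcases h3 with h3 | h3
      · exact h2 h3
      · exact hA0 (by rw [h3, mul_zero])
    · rcases h3 with h3 | h3
      · exact h2 h3
      · exact hB0 (by rw [h3, mul_zero])
  apply hns
  refine ⟨S / (1 + u + v), ?_⟩
  rw [div_mul_div_comm, eq_div_iff (mul_ne_zero hT0 hT0), ← hS, hid]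
  ring

theorem exists_not_isSq [Finite F] (h2 : (2 : F) ≠ 0) :
    ∃ e : Matrix.SpecialLinearGroup (Fin 2) F, e * sl2w F = sl2w F * e ∧ ¬IsSq e := by
  classical
  let f : {c : Matrix.SpecialLinearGroup (Fin 2) F // c * sl2w F = sl2w F * c} →
      {c : Matrix.SpecialLinearGroup (Fin 2) F // c * sl2w F = sl2w F * c} := fun c =>
    ⟨c.1 ^ 2, by
      have hc : Commute c.1 (sl2w F) := c.2
      exact (hc.pow_left 2)⟩
  have hninj : ¬Function.Injective f := by
    intro hinj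
    have h1 : (⟨1, by simp⟩ :
        {c : Matrix.SpecialLinearGroup (Fin 2) F // c * sl2w F = sl2w F * c}) =
        ⟨-1, by simp⟩ := hinj (Subtype.ext (by simp [f]))
    exact Cfsg.Agent.S0809.neg_one_ne_one h2 (congrArg Subtype.val h1).symm
  rw [Finite.injective_iff_surjective] at hninj
  rw [Function.Surjective] at hninj
  push Not at hninj
  obtain ⟨e, he⟩ := hninj
  refine ⟨e.1, e.2, ?_⟩
  rintro ⟨c₁, hc₁, hsq⟩
  exact he ⟨c₁, hc₁⟩ (Subtype.ext hsq)

/-- swap element -/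
def hmat (x y ρ : F) (h : x ^ 2 + y ^ 2 = -1) (hρ : 2 * ρ ^ 2 = 1) :
    Matrix.SpecialLinearGroup (Fin 2) F :=
  ⟨!![ρ * x, ρ * (y - 1); ρ * (y + 1), -(ρ * x)], by
      rw [Matrix.det_fin_two]
      simp only [Matrix.of_apply, Matrix.cons_val', Matrix.cons_val_zero, Matrix.cons_val_one,
        Matrix.cons_val_fin_one]
      linear_combination (-ρ ^ 2) * h + hρ⟩

/-- rotation element -/
def gmat (x y η : F) (h : x ^ 2 + y ^ 2 = -1) (hη : 2 * η = 1) :
    Matrix.SpecialLinearGroup (Fin 2) F :=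
  ⟨!![η * (1 + x + y), η * (y - 1 - x); η * (y + 1 - x), η * (1 - x - y)], by
      rw [Matrix.det_fin_two]
      simp only [Matrix.of_apply, Matrix.cons_val', Matrix.cons_val_zero, Matrix.cons_val_one,
        Matrix.cons_val_fin_one]
      linear_combination (-2 * η ^ 2) * h + (2 * η + 1) * hη⟩

@[simp] theorem hmat00 (x y ρ : F) (h : x ^ 2 + y ^ 2 = -1) (hρ : 2 * ρ ^ 2 = 1) :
    (hmat x y ρ h hρ).1 0 0 = ρ * x := rfl
@[simp] theorem hmat01 (x y ρ : F) (h : x ^ 2 + y ^ 2 = -1) (hρ : 2 * ρ ^ 2 = 1) :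
    (hmat x y ρ h hρ).1 0 1 = ρ * (y - 1) := rfl
@[simp] theorem hmat10 (x y ρ : F) (h : x ^ 2 + y ^ 2 = -1) (hρ : 2 * ρ ^ 2 = 1) :
    (hmat x y ρ h hρ).1 1 0 = ρ * (y + 1) := rfl
@[simp] theorem hmat11 (x y ρ : F) (h : x ^ 2 + y ^ 2 = -1) (hρ : 2 * ρ ^ 2 = 1) :
    (hmat x y ρ h hρ).1 1 1 = -(ρ * x) := rfl
@[simp] theorem gmat00 (x y η : F) (h : x ^ 2 + y ^ 2 = -1) (hη : 2 * η = 1) :
    (gmat x y η h hη).1 0 0 = η * (1 + x + y) := rfl
@[simp] theorem gmat01 (x y η : F) (h : x ^ 2 + y ^ 2 = -1) (hη : 2 * η = 1) :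
    (gmat x y η h hη).1 0 1 = η * (y - 1 - x) := rfl
@[simp] theorem gmat10 (x y η : F) (h : x ^ 2 + y ^ 2 = -1) (hη : 2 * η = 1) :
    (gmat x y η h hη).1 1 0 = η * (y + 1 - x) := rfl
@[simp] theorem gmat11 (x y η : F) (h : x ^ 2 + y ^ 2 = -1) (hη : 2 * η = 1) :
    (gmat x y η h hη).1 1 1 = η * (1 - x - y) := rfl

theorem rel_swap_nf (hsq2 : IsSquare (2 : F)) (h2 : (2 : F) ≠ 0)
    (d : Matrix.SpecialLinearGroup (Fin 2) F) (hd : IsPair d (sl2w F)) :
    Rel d (sl2w F) (sl2w F) d := by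
  obtain ⟨x, y, h, rfl⟩ := exists_dmat d hd
  obtain ⟨r, hr⟩ := hsq2
  have hr0 : r ≠ 0 := by rintro rfl; simp at hr; exact h2 hr
  have hρ : 2 * (r⁻¹) ^ 2 = 1 := by
    rw [hr]; field_simp
  refine ⟨hmat x y r⁻¹ h hρ, ?_, ?_⟩
  · rw [mul_inv_eq_iff_eq_mul]
    apply sl_ext <;> simp only [Matrix.SpecialLinearGroup.coe_mul, mmul00, mmul01, mmul10, mmul11, cmat00, cmat01, cmat10, cmat11, dmat00, dmat01, dmat10, dmat11, w00, w01, w10, w11, hmat00, hmat01, hmat10, hmat11, gmat00, gmat01, gmat10, gmat11] <;>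
      first | ring1 | linear_combination r⁻¹ * h | linear_combination (-r⁻¹) * h
  · rw [mul_inv_eq_iff_eq_mul]
    apply sl_ext <;> simp only [Matrix.SpecialLinearGroup.coe_mul, mmul00, mmul01, mmul10, mmul11, cmat00, cmat01, cmat10, cmat11, dmat00, dmat01, dmat10, dmat11, w00, w01, w10, w11, hmat00, hmat01, hmat10, hmat11, gmat00, gmat01, gmat10, gmat11] <;>
      first | ring1 | linear_combination r⁻¹ * h | linear_combination (-r⁻¹) * h

theorem rel_rot_nf (h2 : (2 : F) ≠ 0)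
    (d : Matrix.SpecialLinearGroup (Fin 2) F) (hd : IsPair d (sl2w F)) :
    Rel d (sl2w F) (sl2w F) (d * sl2w F) := by
  obtain ⟨x, y, h, rfl⟩ := exists_dmat d hd
  have hη : 2 * (2 : F)⁻¹ = 1 := mul_inv_cancel₀ h2
  refine ⟨gmat x y 2⁻¹ h hη, ?_, ?_⟩
  · rw [mul_inv_eq_iff_eq_mul]
    apply sl_ext <;> simp only [Matrix.SpecialLinearGroup.coe_mul, mmul00, mmul01, mmul10, mmul11, cmat00, cmat01, cmat10, cmat11, dmat00, dmat01, dmat10, dmat11, w00, w01, w10, w11, hmat00, hmat01, hmat10, hmat11, gmat00, gmat01, gmat10, gmat11] <;>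
      first | ring1 | linear_combination (2 : F)⁻¹ * h | linear_combination (-(2 : F)⁻¹) * h
  · rw [mul_inv_eq_iff_eq_mul]
    apply sl_ext <;> simp only [Matrix.SpecialLinearGroup.coe_mul, mmul00, mmul01, mmul10, mmul11, cmat00, cmat01, cmat10, cmat11, dmat00, dmat01, dmat10, dmat11, w00, w01, w10, w11, hmat00, hmat01, hmat10, hmat11, gmat00, gmat01, gmat10, gmat11] <;>
      first | ring1 | linear_combination (2 : F)⁻¹ * h | linear_combination (-(2 : F)⁻¹) * h

end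

section
variable {F : Type*} [Field F] [Fintype F]

theorem normal_form (hF : Odd (Fintype.card F)) {a b : Matrix.SpecialLinearGroup (Fin 2) F}
    (hp : IsPair a b) : ∃ k : Matrix.SpecialLinearGroup (Fin 2) F,
      k * b * k⁻¹ = sl2w F ∧ IsPair (k * a * k⁻¹) (sl2w F) := by
  obtain ⟨P, hP⟩ := sl2_conj_of_sq_eq_neg_one hF b hp.1
  have hk : P⁻¹ * b * P⁻¹⁻¹ = sl2w F := by rw [← hP]; group
  refine ⟨P⁻¹, hk, ?_⟩
  have := hp.conj P⁻¹
  rw [hk] at this
  exact this

theorem rel_swap (hF : Odd (Fintype.card F)) (hsq2 : IsSquare (2 : F))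
    {a b : Matrix.SpecialLinearGroup (Fin 2) F} (hp : IsPair a b) : Rel a b b a := by
  have h2 := two_ne_zero_of_odd_card hF
  obtain ⟨k, hk, hd⟩ := normal_form hF hp
  apply Rel.conj k
  rw [hk]
  exact rel_swap_nf hsq2 h2 _ hd

theorem rel_rot (hF : Odd (Fintype.card F))
    {a b : Matrix.SpecialLinearGroup (Fin 2) F} (hp : IsPair a b) : Rel a b b (a * b) := by
  have h2 := two_ne_zero_of_odd_card hF
  obtain ⟨k, hk, hd⟩ := normal_form hF hp
  apply Rel.conj k
  have : k * (a * b) * k⁻¹ = (k * a * k⁻¹) * (k * b * k⁻¹) := by group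
  rw [this, hk]
  exact rel_rot_nf h2 _ hd

omit [Fintype F] in
theorem rel_neg_right {a b : Matrix.SpecialLinearGroup (Fin 2) F} (hp : IsPair a b) :
    Rel a b a (-b) := by
  refine ⟨a, by group, ?_⟩
  rw [hp.2, inv_eq_neg_of_sq b hp.1]

omit [Fintype F] in
theorem rel_neg_left {a b : Matrix.SpecialLinearGroup (Fin 2) F} (hp : IsPair a b) :
    Rel a b (-a) b := by
  refine ⟨b, ?_, by group⟩
  have h0 : a * b⁻¹ * a⁻¹ = b := by
    have := congrArg (fun z => z⁻¹) hp.2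
    simpa [mul_assoc] using this
  have h1 : b * a = a * b⁻¹ := by
    calc b * a = a * b⁻¹ * a⁻¹ * a := by rw [h0]
      _ = a * b⁻¹ := by group
  have h3 : (b⁻¹) ^ 2 = -1 := by rw [inv_pow, hp.1]; simp
  calc b * a * b⁻¹ = a * b⁻¹ * b⁻¹ := by rw [h1]
    _ = a * (b⁻¹) ^ 2 := by rw [pow_two, mul_assoc]
    _ = -a := by rw [h3]; simp

omit [Fintype F] in
theorem isPair_neg_right {a b : Matrix.SpecialLinearGroup (Fin 2) F} (hp : IsPair a b) :
    IsPair a (-b) := hp.of_rel (rel_neg_right hp)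

omit [Fintype F] in
theorem rel_signs {a b x y : Matrix.SpecialLinearGroup (Fin 2) F} (hp : IsPair a b)
    (hx : x = a ∨ x = -a) (hy : y = b ∨ y = -b) : Rel a b x y := by
  rcases hx with rfl | rfl <;> rcases hy with rfl | rfl
  · exact Rel.refl _ _
  · exact rel_neg_right hp
  · exact rel_neg_left hp
  · exact (rel_neg_right hp).trans (rel_neg_left (isPair_neg_right hp))

omit [Fintype F] in
theorem mk_cases (x a : Matrix.SpecialLinearGroup (Fin 2) F)
    (h : (QuotientGroup.mk x : Matrix.ProjectiveSpecialLinearGroup (Fin 2) F) = QuotientGroup.mk a) :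
    x = a ∨ x = -a := (mk_eq_mk_iff x a).mp h

theorem lemmaK (hF : Odd (Fintype.card F)) (hsq2 : IsSquare (2 : F))
    {a b a' b' : Matrix.SpecialLinearGroup (Fin 2) F} (hp : IsPair a b) (hp' : IsPair a' b')
    (hV : VV a' b' = VV a b) : Rel a b a' b' := by
  have h2 := two_ne_zero_of_odd_card hF
  obtain ⟨_, hset⟩ := VV_isKleinFour h2 hp
  have ha' : (QuotientGroup.mk a' : Matrix.ProjectiveSpecialLinearGroup (Fin 2) F) ∈
      ((VV a b : Subgroup (Matrix.ProjectiveSpecialLinearGroup (Fin 2) F)) :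
        Set (Matrix.ProjectiveSpecialLinearGroup (Fin 2) F)) := by
    rw [← hV]; exact Subgroup.subset_closure (by simp)
  have hb' : (QuotientGroup.mk b' : Matrix.ProjectiveSpecialLinearGroup (Fin 2) F) ∈
      ((VV a b : Subgroup (Matrix.ProjectiveSpecialLinearGroup (Fin 2) F)) :
        Set (Matrix.ProjectiveSpecialLinearGroup (Fin 2) F)) := by
    rw [← hV]; exact Subgroup.subset_closure (by simp)
  rw [hset] at ha' hb'
  simp only [Set.mem_insert_iff, Set.mem_singleton_iff, ← QuotientGroup.mk_mul] at ha' hb'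
  obtain ⟨_, _, _, hna, hnb, hnab⟩ := pair_props h2 a' b' hp'.1 hp'.2
  have base : ∀ {x y : Matrix.SpecialLinearGroup (Fin 2) F}, Rel a b x y →
      (a' = x ∨ a' = -x) → (b' = y ∨ b' = -y) → Rel a b a' b' := by
    intro x y hbase hx hy
    exact hbase.trans (rel_signs (hp.of_rel hbase) hx hy)
  have hbab : b * (a * b) = a := by
    have h1 : a * b = b⁻¹ * a := by rw [← hp.2]; group
    rw [h1]; group
  -- the six base pairs
  have r_ab : Rel a b a b := Rel.refl _ _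
  have r_ba : Rel a b b a := rel_swap hF hsq2 hp
  have r_b_ab : Rel a b b (a * b) := rel_rot hF hp
  have p_b_ab : IsPair b (a * b) := hp.of_rel r_b_ab
  have r_ab_b : Rel a b (a * b) b := r_b_ab.trans (rel_swap hF hsq2 p_b_ab)
  have r_ab_a : Rel a b (a * b) a := by
    have := r_b_ab.trans (rel_rot hF p_b_ab)
    rw [hbab] at this
    exact this
  have p_ab_a : IsPair (a * b) a := hp.of_rel r_ab_a
  have r_a_ab : Rel a b a (a * b) := r_ab_a.trans (rel_swap hF hsq2 p_ab_a)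
  rcases ha' with h | h | h | h
  · exact absurd h hna
  · have hx := mk_cases _ _ h
    rcases hb' with h' | h' | h' | h'
    · exact absurd h' hnb
    · exact absurd (h.trans h'.symm) hnab
    · exact base r_ab hx (mk_cases _ _ h')
    · exact base r_a_ab hx (mk_cases _ _ h')
  · have hx := mk_cases _ _ h
    rcases hb' with h' | h' | h' | h'
    · exact absurd h' hnb
    · exact base r_ba hx (mk_cases _ _ h')
    · exact absurd (h.trans h'.symm) hnab
    · exact base r_b_ab hx (mk_cases _ _ h')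
  · have hx := mk_cases _ _ h
    rcases hb' with h' | h' | h' | h'
    · exact absurd h' hnb
    · exact base r_ab_a hx (mk_cases _ _ h')
    · exact base r_ab_b hx (mk_cases _ _ h')
    · exact absurd (h.trans h'.symm) hnab

end

/-- conjugacy of subgroups in the shape used by the statement -/
def SConj {G : Type*} [Group G] (V W : Subgroup G) : Prop :=
  ∃ g : G, W = V.map (MulAut.conj g).toMonoidHom

theorem map_conj_map_conj {G : Type*} [Group G] (X : Subgroup G) (γ δ : G) :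
    (X.map (MulAut.conj δ).toMonoidHom).map (MulAut.conj γ).toMonoidHom =
      X.map (MulAut.conj (γ * δ)).toMonoidHom := by
  rw [Subgroup.map_map]; congr 1; ext x; simp [mul_assoc]

theorem SConj.refl {G : Type*} [Group G] (V : Subgroup G) : SConj V V := by
  refine ⟨1, ?_⟩
  ext x
  simp [Subgroup.mem_map]

theorem SConj.trans {G : Type*} [Group G] {U V W : Subgroup G} (h : SConj U V) (h' : SConj V W) :
    SConj U W := by
  obtain ⟨g, rfl⟩ := h
  obtain ⟨g', rfl⟩ := h'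
  exact ⟨g' * g, map_conj_map_conj U g' g⟩

theorem SConj.symm {G : Type*} [Group G] {V W : Subgroup G} (h : SConj V W) : SConj W V := by
  obtain ⟨g, rfl⟩ := h
  refine ⟨g⁻¹, ?_⟩
  rw [map_conj_map_conj, inv_mul_cancel]
  ext x
  simp [Subgroup.mem_map]

section
variable {F : Type*} [Field F]

theorem VV_mul_left (a b : Matrix.SpecialLinearGroup (Fin 2) F) : VV (b * a) b = VV a b := by
  unfold VV
  apply le_antisymm
  · rw [Subgroup.closure_le]
    intro x hx
    have ha : (QuotientGroup.mk a : Matrix.ProjectiveSpecialLinearGroup (Fin 2) F) ∈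
        Subgroup.closure {(QuotientGroup.mk a : Matrix.ProjectiveSpecialLinearGroup (Fin 2) F),
          (QuotientGroup.mk b : Matrix.ProjectiveSpecialLinearGroup (Fin 2) F)} :=
      Subgroup.subset_closure (by simp)
    have hb : (QuotientGroup.mk b : Matrix.ProjectiveSpecialLinearGroup (Fin 2) F) ∈
        Subgroup.closure {(QuotientGroup.mk a : Matrix.ProjectiveSpecialLinearGroup (Fin 2) F),
          (QuotientGroup.mk b : Matrix.ProjectiveSpecialLinearGroup (Fin 2) F)} :=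
      Subgroup.subset_closure (by simp)
    rcases hx with rfl | rfl
    · rw [QuotientGroup.mk_mul]; exact Subgroup.mul_mem _ hb ha
    · exact hb
  · rw [Subgroup.closure_le]
    intro x hx
    have hba : (QuotientGroup.mk (b * a) : Matrix.ProjectiveSpecialLinearGroup (Fin 2) F) ∈
        Subgroup.closure {(QuotientGroup.mk (b * a) : Matrix.ProjectiveSpecialLinearGroup (Fin 2) F),
          (QuotientGroup.mk b : Matrix.ProjectiveSpecialLinearGroup (Fin 2) F)} :=
      Subgroup.subset_closure (by simp)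
    have hb : (QuotientGroup.mk b : Matrix.ProjectiveSpecialLinearGroup (Fin 2) F) ∈
        Subgroup.closure {(QuotientGroup.mk (b * a) : Matrix.ProjectiveSpecialLinearGroup (Fin 2) F),
          (QuotientGroup.mk b : Matrix.ProjectiveSpecialLinearGroup (Fin 2) F)} :=
      Subgroup.subset_closure (by simp)
    rcases hx with rfl | rfl
    · have : (QuotientGroup.mk a : Matrix.ProjectiveSpecialLinearGroup (Fin 2) F) =
          (QuotientGroup.mk b)⁻¹ * QuotientGroup.mk (b * a) := by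
        rw [QuotientGroup.mk_mul]; group
      rw [this]
      exact Subgroup.mul_mem _ (Subgroup.inv_mem _ hb) hba
    · exact hb

theorem isPair_mul_left {e d : Matrix.SpecialLinearGroup (Fin 2) F}
    (he : e * sl2w F = sl2w F * e) (hd : IsPair d (sl2w F)) : IsPair (e * d) (sl2w F) := by
  refine ⟨hd.1, ?_⟩
  have h1 : e * d * sl2w F * (e * d)⁻¹ = e * (d * sl2w F * d⁻¹) * e⁻¹ := by group
  rw [h1, hd.2]
  have h2 : e * (sl2w F)⁻¹ = (sl2w F)⁻¹ * e := by
    have : Commute e (sl2w F) := he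
    exact (this.inv_right).eq
  rw [h2]; group

theorem rel_of_sq {c₁ d : Matrix.SpecialLinearGroup (Fin 2) F}
    (hc : c₁ * sl2w F = sl2w F * c₁) (hd : IsPair d (sl2w F)) :
    Rel d (sl2w F) (c₁ ^ 2 * d) (sl2w F) := by
  refine ⟨c₁, conj_eq_sq_mul c₁ d hc hd, ?_⟩
  rw [hc]; group

end

/-- Conjugacy classes of four-groups in PSL_2(q), q odd: if q ≡ 3 or 5 (mod 8) all Klein four-subgroups are conjugate; if q ≡ 1 or 7 (mod 8) there are two Klein four-subgroups which are not conjugate, and every Klein four-subgroup is conjugate to one of them. -/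
theorem result {F : Type*} [Field F] [Fintype F] {q : ℕ} (hF : Fintype.card F = q) (hodd : Odd q) : ((q % 8 = 3 ∨ q % 8 = 5) → ∀ V W : Subgroup (Matrix.ProjectiveSpecialLinearGroup (Fin 2) F), IsKleinFour V → IsKleinFour W → ∃ g : Matrix.ProjectiveSpecialLinearGroup (Fin 2) F, W = V.map (MulAut.conj g).toMonoidHom) ∧ ((q % 8 = 1 ∨ q % 8 = 7) → ∃ V₁ V₂ : Subgroup (Matrix.ProjectiveSpecialLinearGroup (Fin 2) F), IsKleinFour V₁ ∧ IsKleinFour V₂ ∧ (¬ ∃ g : Matrix.ProjectiveSpecialLinearGroup (Fin 2) F, V₂ = V₁.map (MulAut.conj g).toMonoidHom) ∧ ∀ W : Subgroup (Matrix.ProjectiveSpecialLinearGroup (Fin 2) F), IsKleinFour W → (∃ g : Matrix.ProjectiveSpecialLinearGroup (Fin 2) F, W = V₁.map (MulAut.conj g).toMonoidHom) ∨ (∃ g : Matrix.ProjectiveSpecialLinearGroup (Fin 2) F, W = V₂.map (MulAut.conj g).toMonoidHom)) := by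
  classical
  subst hF
  have h2 := two_ne_zero_of_odd_card hodd
  have hwsq : (sl2w F) ^ 2 = -1 := sl2w_sq F
  -- normal form of Klein four-subgroups
  have nf : ∀ V : Subgroup (Matrix.ProjectiveSpecialLinearGroup (Fin 2) F), IsKleinFour V →
      ∃ d : Matrix.SpecialLinearGroup (Fin 2) F, IsPair d (sl2w F) ∧
        SConj (VV d (sl2w F)) V := by
    intro V hV
    obtain ⟨a, b, hp, rfl⟩ := klein_eq_VV h2 V hV
    obtain ⟨k, hk, hd⟩ := normal_form hodd hp
    refine ⟨k * a * k⁻¹, hd, QuotientGroup.mk k⁻¹, ?_⟩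
    have h3 := VV_conj k⁻¹ (k * a * k⁻¹) (k * b * k⁻¹)
    have e1 : k⁻¹ * (k * a * k⁻¹) * k⁻¹⁻¹ = a := by group
    have e2 : k⁻¹ * (k * b * k⁻¹) * k⁻¹⁻¹ = b := by group
    rw [e1, e2, hk] at h3
    exact h3
  -- conjugacy from relation
  have conj_of_rel : ∀ {a b a' b' : Matrix.SpecialLinearGroup (Fin 2) F}, Rel a b a' b' →
      SConj (VV a b) (VV a' b') := fun hr => VV_of_rel hr
  refine ⟨?_, ?_⟩
  · intro hq V W hV hW
    have hns : ¬IsSquare (2 : F) := by
      rw [FiniteField.isSquare_two_iff]; omega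
    obtain ⟨d, hd, hVd⟩ := nf V hV
    obtain ⟨d', hd', hWd⟩ := nf W hW
    have hcc := mul_inv_comm_w d d' hd hd'
    have key : SConj (VV d (sl2w F)) (VV d' (sl2w F)) := by
      rcases isSq_or h2 hns (d' * d⁻¹) hcc with ⟨c₁, hc₁, hsq⟩ | ⟨c₁, hc₁, hsq⟩
      · have : d' = c₁ ^ 2 * d := by rw [hsq]; group
        rw [this]
        exact conj_of_rel (rel_of_sq hc₁ hd)
      · have : d' = sl2w F * (c₁ ^ 2 * d) := by rw [hsq]; group
        rw [this, VV_mul_left]
        exact conj_of_rel (rel_of_sq hc₁ hd)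
    exact (hVd.symm.trans key).trans hWd
  · intro hq
    have hsq2 : IsSquare (2 : F) := by
      rw [FiniteField.isSquare_two_iff]; omega
    have hwinv_sq : ((sl2w F)⁻¹) ^ 2 = -1 := by rw [inv_pow, hwsq]; simp
    obtain ⟨d₀, hd₀⟩ := sl2_conj_of_sq_eq_neg_one hodd ((sl2w F)⁻¹) hwinv_sq
    have hd₀p : IsPair d₀ (sl2w F) := ⟨hwsq, hd₀⟩
    obtain ⟨e, he, hne⟩ := exists_not_isSq (F := F) h2
    have hed : IsPair (e * d₀) (sl2w F) := isPair_mul_left he hd₀p
    refine ⟨VV d₀ (sl2w F), VV (e * d₀) (sl2w F), (VV_isKleinFour h2 hd₀p).1,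
      (VV_isKleinFour h2 hed).1, ?_, ?_⟩
    · rintro ⟨γ, hγ⟩
      obtain ⟨g, rfl⟩ := QuotientGroup.mk_surjective γ
      rw [← VV_conj] at hγ
      have hpg : IsPair (g * d₀ * g⁻¹) (g * sl2w F * g⁻¹) := hd₀p.conj g
      obtain ⟨g', hg1, hg2⟩ := lemmaK hodd hsq2 hed hpg hγ.symm
      -- c := g⁻¹ * g' centralizes w and conjugates e d₀ to d₀
      have hcw : (g⁻¹ * g') * sl2w F = sl2w F * (g⁻¹ * g') := by
        have : g' * sl2w F = g * sl2w F * g⁻¹ * g' := by rw [← hg2]; group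
        rw [mul_assoc, this]; group
      have hcd : (g⁻¹ * g') * (e * d₀) * (g⁻¹ * g')⁻¹ = d₀ := by
        have : (g⁻¹ * g') * (e * d₀) * (g⁻¹ * g')⁻¹ = g⁻¹ * (g' * (e * d₀) * g'⁻¹) * g := by group
        rw [this, hg1]; group
      rw [conj_eq_sq_mul _ _ hcw hed] at hcd
      have hE : e = ((g⁻¹ * g')⁻¹) ^ 2 := by
        have h5 : (g⁻¹ * g') ^ 2 * e = 1 := by
          have : (g⁻¹ * g') ^ 2 * (e * d₀) * d₀⁻¹ = d₀ * d₀⁻¹ := by rw [hcd]
          rw [mul_inv_cancel] at this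
          rw [← this]; group
        rw [inv_pow]
        exact (eq_inv_of_mul_eq_one_right h5)
      apply hne
      refine ⟨(g⁻¹ * g')⁻¹, ?_, hE.symm⟩
      have : Commute (g⁻¹ * g') (sl2w F) := hcw
      exact (this.inv_left).eq
    · intro W hW
      obtain ⟨d', hd', hWd⟩ := nf W hW
      have hcc := mul_inv_comm_w d₀ d' hd₀p hd'
      by_cases hsq : IsSq (d' * d₀⁻¹)
      · left
        obtain ⟨c₁, hc₁, hsq⟩ := hsq
        have : d' = c₁ ^ 2 * d₀ := by rw [hsq]; group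
        rw [this] at hWd
        exact (conj_of_rel (rel_of_sq hc₁ hd₀p)).trans hWd
      · right
        obtain ⟨c₁, hc₁, hsq'⟩ := isSq_mul_inv h2 (d' * d₀⁻¹) e hcc he hsq hne
        have : d' = c₁ ^ 2 * (e * d₀) := by rw [hsq']; group
        rw [this] at hWd
        exact (conj_of_rel (rel_of_sq hc₁ hed)).trans hWd

end Cfsg.Agent.S0808
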