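import Cfsg.Statements.S1012
import Cfsg.Agent.Lib.Helper23.Burnside
import Cfsg.Agent.Lib.Helper23.SylowCoset
import Cfsg.Agent.Lib.Helper23.SylowInter
import Cfsg.Agent.Lib.Helper23.Counting

set_option autoImplicit false
open Cfsg

namespace Cfsg.Agent.S1012

open Cfsg.Agent.Lib.Helper23

/-- an element of order 2 commuting with an element of order 3 gives an element of order 6. -/
theorem orderOf_six {G : Type*} [Group G] (t x : G) (ht : orderOf t = 2) (hx : orderOf x = 3)
    (hc : t * x = x * t) : orderOf (t * x) = 6 := by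
  have h : Commute t x := hc
  rw [h.orderOf_mul_eq_mul_orderOf_of_coprime (by rw [ht, hx]; norm_num), ht, hx]

/-- A group of order 24 containing no element of order 6 is isomorphic to the symmetric group of degree 4. -/
theorem result {G : Type*} [Group G] [Finite G] (h : Nat.card G = 24) (h6 : ∀ g : G, orderOf g ≠ 6) : Nonempty (G ≃* Equiv.Perm (Fin 4)) := by
  classical
  have : Fact (Nat.Prime 3) := ⟨by norm_num⟩
  have : Fact (Nat.Prime 2) := ⟨by norm_num⟩
  have h' : Nat.card G = 3 ^ 1 * 8 := by rw [h]; norm_num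
  have hm : ¬ 3 ∣ 8 := by norm_num
  have hcQ : ∀ Q : Sylow 3 G, Nat.card ↥(Q : Subgroup G) = 3 := fun Q => by
    simpa using sylow_card_of_card_eq 3 1 8 h' hm Q
  have hdvd := card_sylow_dvd_of_card_eq 3 1 8 h' hm
  have hmod := card_sylow_modEq_one 3 G
  obtain ⟨Q⟩ : Nonempty (Sylow 3 G) := inferInstance
  -- a generator of Q
  obtain ⟨x, hxQ, hx1⟩ : ∃ x ∈ (Q : Subgroup G), x ≠ 1 := by
    have hne : (Q : Subgroup G) ≠ ⊥ := by
      intro hb
      have := hcQ Q
      rw [hb] at this
      simp at this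
    obtain ⟨⟨a, ha1⟩, ha⟩ := Subgroup.ne_bot_iff_exists_ne_one.mp hne
    exact ⟨a, ha1, fun h => ha (Subtype.ext h)⟩
  have hx3 : orderOf x = 3 := orderOf_eq_of_mem_of_card_eq_prime 3 Q (hcQ Q) hxQ hx1
  have hn : Nat.card (Sylow 3 G) = 1 ∨ Nat.card (Sylow 3 G) = 4 := by
    have key : ∀ n ∈ Finset.range 9, n ∣ 8 → n % 3 = 1 → n = 1 ∨ n = 4 := by decide
    have hle := Nat.le_of_dvd (by norm_num) hdvd
    exact key _ (Finset.mem_range.mpr (by omega)) hdvd hmod
  rcases hn with hn | hn
  · -- normal Sylow 3-subgroup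
    exfalso
    have hQn : (Q : Subgroup G).Normal := sylow_normal_of_card_eq_one 3 hn Q
    have hNtop : Subgroup.normalizer ((Q : Subgroup G) : Set G) = ⊤ :=
      Subgroup.normalizer_eq_top_iff.mpr hQn
    have h1 := relIndex_centralizer_normalizer_dvd (Q : Subgroup G)
    rw [hNtop, Subgroup.relIndex_top_right, hcQ Q] at h1
    have hQC : (Q : Subgroup G) ≤ Subgroup.centralizer ((Q : Subgroup G) : Set G) := by
      intro a ha
      rw [Subgroup.mem_centralizer_iff]
      intro b hb
      have hc : IsCyclic ↥(Q : Subgroup G) := isCyclic_of_prime_card (p := 3) (hcQ Q)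
      have := (IsCyclic.isMulCommutative (α := ↥(Q : Subgroup G))).is_comm.comm ⟨b, hb⟩ ⟨a, ha⟩
      exact congrArg Subtype.val this
    have h2 : (Subgroup.centralizer ((Q : Subgroup G) : Set G)).index ∣ 8 := by
      have h3 := Subgroup.index_dvd_of_le hQC
      have h4 := Subgroup.card_mul_index (Q : Subgroup G)
      rw [hcQ Q, h] at h4
      have : (Q : Subgroup G).index = 8 := by omega
      rwa [this] at h3
    have h5 : (Subgroup.centralizer ((Q : Subgroup G) : Set G)).index ∣ 2 := by
      have := Nat.dvd_gcd h1 h2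
      simpa [Nat.factorial] using this
    have h6' := Subgroup.card_mul_index (Subgroup.centralizer ((Q : Subgroup G) : Set G))
    rw [h] at h6'
    have h7 : 2 ∣ Nat.card ↥(Subgroup.centralizer ((Q : Subgroup G) : Set G)) := by
      rcases (Nat.dvd_prime Nat.prime_two).mp h5 with h8 | h8
      · rw [h8] at h6'; omega
      · rw [h8] at h6'; omega
    obtain ⟨t, ht⟩ := exists_prime_orderOf_dvd_card' 2 h7
    have ht' : orderOf (t : G) = 2 := by rw [Subgroup.orderOf_coe]; exact ht
    have hcomm : (t : G) * x = x * (t : G) := by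
      have := Subgroup.mem_centralizer_iff.mp t.2 x hxQ
      exact this.symm
    exact h6 _ (orderOf_six _ _ ht' hx3 hcomm)
  · -- four Sylow 3-subgroups
    let φ : G →* Equiv.Perm (Sylow 3 G) := MulAction.toPermHom G (Sylow 3 G)
    have hker : ∀ g ∈ φ.ker, ∀ Q' : Sylow 3 G,
        g ∈ Subgroup.normalizer ((Q' : Subgroup G) : Set G) := by
      intro g hg Q'
      apply Sylow.smul_eq_iff_mem_normalizer.mp
      have := congrArg (fun σ : Equiv.Perm (Sylow 3 G) => σ Q') (MonoidHom.mem_ker.mp hg)
      simpa [φ] using this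
    have hNcard : Nat.card ↥(Subgroup.normalizer ((Q : Subgroup G) : Set G)) = 6 := by
      have := card_normalizer_mul_card_sylow 3 Q
      rw [hn, h] at this
      omega
    have hKle : φ.ker ≤ Subgroup.normalizer ((Q : Subgroup G) : Set G) := fun g hg => hker g hg Q
    have hKdvd : Nat.card ↥φ.ker ∣ 6 := hNcard ▸ Subgroup.card_dvd_of_le hKle
    have hKbot : φ.ker = ⊥ := by
      by_contra hne
      by_cases h3 : 3 ∣ Nat.card ↥φ.ker
      · obtain ⟨y, hy⟩ := exists_prime_orderOf_dvd_card' 3 h3
        have hy' : orderOf (y : G) = 3 := by rw [Subgroup.orderOf_coe]; exact hy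
        have hpg : IsPGroup 3 ↥(Subgroup.zpowers (y : G)) :=
          IsPGroup.of_card (n := 1) (by rw [Nat.card_zpowers, hy', pow_one])
        have hy1 : (y : G) ≠ 1 := by
          intro h1
          rw [h1, orderOf_one] at hy'
          omega
        have hall : ∀ Q' : Sylow 3 G, Q' = Q := by
          intro Q'
          have hyQ' := mem_sylow_of_mem_normalizer Q' (y : G) hpg (hker _ y.2 Q')
          have hyQ := mem_sylow_of_mem_normalizer Q (y : G) hpg (hker _ y.2 Q)
          apply Sylow.ext
          exact (zpowers_eq_of_mem_of_card_eq_prime 3 Q' (hcQ Q') hyQ' hy1).symm.trans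
            (zpowers_eq_of_mem_of_card_eq_prime 3 Q (hcQ Q) hyQ hy1)
        have hsub : Subsingleton (Sylow 3 G) := ⟨fun a b => (hall a).trans (hall b).symm⟩
        have := Finite.card_le_one_iff_subsingleton.mpr hsub
        omega
      · have hK2 : Nat.card ↥φ.ker = 2 := by
          have hK1 : Nat.card ↥φ.ker ≠ 1 := fun h1 => hne (Subgroup.card_eq_one.mp h1)
          have key : ∀ n ∈ Finset.range 7, n ∣ 6 → ¬ 3 ∣ n → n ≠ 1 → n = 2 := by decide
          have hle := Nat.le_of_dvd (by norm_num) hKdvd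
          exact key _ (Finset.mem_range.mpr (by omega)) hKdvd h3 hK1
        obtain ⟨t, ht⟩ := exists_prime_orderOf_dvd_card' 2 (by rw [hK2] : 2 ∣ Nat.card ↥φ.ker)
        have ht' : orderOf (t : G) = 2 := by rw [Subgroup.orderOf_coe]; exact ht
        have hKn : (φ.ker).Normal := MonoidHom.normal_ker φ
        have hcomm := conj_eq_of_normal_card_lt 3 φ.ker (Q : Subgroup G) Q.2
          (by rw [hK2]; norm_num) x hxQ (t : G) t.2
        have hcomm' : (t : G) * x = x * (t : G) := (mul_inv_eq_iff_eq_mul.mp hcomm).symm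
        exact h6 _ (orderOf_six _ _ ht' hx3 hcomm')
    have hinj : Function.Injective φ := (MonoidHom.ker_eq_bot_iff φ).mp hKbot
    have hcardP : Nat.card (Equiv.Perm (Sylow 3 G)) = 24 := by
      have : Fintype (Sylow 3 G) := Fintype.ofFinite _
      rw [Nat.card_eq_fintype_card, Fintype.card_perm, ← Nat.card_eq_fintype_card, hn]
      rfl
    have hbij : Function.Bijective φ := by
      rw [Nat.bijective_iff_injective_and_card]
      exact ⟨hinj, by rw [h, hcardP]⟩
    have e : Sylow 3 G ≃ Fin 4 := Finite.equivFinOfCardEq hn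
    exact ⟨(MulEquiv.ofBijective φ hbij).trans e.permCongrHom⟩

end Cfsg.Agent.S1012
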