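import Cfsg.Statements.S0803
import Cfsg.Agent.S0808
import Cfsg.Agent.S1012
import Cfsg.Agent.Lib.Helper60.SL2b

set_option autoImplicit false
set_option linter.unusedSimpArgs false
open Cfsg

namespace Cfsg.Agent.S0803

open Matrix Cfsg.Agent.Lib.Helper60 Cfsg.Agent.S0807 Cfsg.Agent.S0808

theorem perm3 : ∀ σ : Equiv.Perm (Fin 3), σ ^ 2 = 1 ∨ σ ^ 3 = 1 := by decide
theorem perm3_fix : ∀ σ : Equiv.Perm (Fin 3), (∃ i, σ i = i) → σ ^ 2 = 1 := by decide

theorem permT {T : Type*} [Fintype T] (h : Fintype.card T = 3) (σ : Equiv.Perm T) :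
    (σ ^ 2 = 1 ∨ σ ^ 3 = 1) ∧ ((∃ i, σ i = i) → σ ^ 2 = 1) := by
  let e := Fintype.equivFinOfCardEq h
  constructor
  · rcases perm3 (e.permCongrHom σ) with h' | h'
    · left
      apply e.permCongrHom.injective
      rw [map_pow, h', map_one]
    · right
      apply e.permCongrHom.injective
      rw [map_pow, h', map_one]
  · rintro ⟨i, hi⟩
    have h' := perm3_fix (e.permCongrHom σ) ⟨e i, by simp [Equiv.permCongrHom, hi]⟩
    apply e.permCongrHom.injective
    rw [map_pow, h', map_one]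

/-- In the normaliser of a self-centralising four-group there is no element of order six. -/
theorem no_order_six {G : Type*} [Group G] (V : Subgroup G) (hV : IsKleinFour V)
    (hC : ∀ γ : G, (∀ v ∈ V, γ * v * γ⁻¹ = v) → γ ∈ V)
    (x : G) (hx : x ∈ Subgroup.normalizer (V : Set G)) : orderOf x ≠ 6 := by
  classical
  intro h6
  have hfin : Finite V := Nat.finite_of_card_ne_zero (by rw [hV.card_four]; norm_num)
  have hf : ∀ v, v ∈ V → x * v * x⁻¹ ∈ V := fun v hv => (Subgroup.mem_normalizer_iff.mp hx v).mp hv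
  have hf' : ∀ v, v ∈ V → x⁻¹ * v * x ∈ V := by
    intro v hv
    have := (Subgroup.mem_normalizer_iff.mp hx (x⁻¹ * v * x)).mpr (by
      have : x * (x⁻¹ * v * x) * x⁻¹ = v := by group
      rw [this]; exact hv)
    exact this
  let T := {v : G // v ∈ V ∧ v ≠ 1}
  have hTfin : Finite T := by
    have : Finite {v : G // v ∈ V} := hfin
    exact Finite.of_injective (fun t : T => (⟨t.1, t.2.1⟩ : {v : G // v ∈ V}))
      (fun a b h => Subtype.ext (by simpa using congrArg Subtype.val h))
  have : Fintype T := Fintype.ofFinite T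
  have hTcard : Fintype.card T = 3 := by
    rw [← Nat.card_eq_fintype_card]
    have hVn : (V : Set G).ncard = 4 := by
      rw [← Nat.card_coe_set_eq]; exact hV.card_four
    have h1 : ((V : Set G) \ {1}).ncard = 3 := by
      rw [Set.ncard_sdiff_singleton_of_mem V.one_mem, hVn]
    rw [← h1, ← Nat.card_coe_set_eq]
    apply Nat.card_congr
    exact Equiv.subtypeEquivRight (fun v => by simp)
  let σ : Equiv.Perm T :=
    { toFun := fun v => ⟨x * v.1 * x⁻¹, hf _ v.2.1, by
        intro h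
        apply v.2.2
        have : v.1 = x⁻¹ * (x * v.1 * x⁻¹) * x := by group
        rw [this, h]; group⟩
      invFun := fun v => ⟨x⁻¹ * v.1 * x, hf' _ v.2.1, by
        intro h
        apply v.2.2
        have : v.1 = x * (x⁻¹ * v.1 * x) * x⁻¹ := by group
        rw [this, h]; group⟩
      left_inv := fun v => Subtype.ext (by show x⁻¹ * (x * v.1 * x⁻¹) * x = v.1; group)
      right_inv := fun v => Subtype.ext (by show x * (x⁻¹ * v.1 * x) * x⁻¹ = v.1; group) }
  have hpow : ∀ (n : ℕ) (v : T), ((σ ^ n) v).1 = x ^ n * v.1 * (x ^ n)⁻¹ := by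
    intro n
    induction n with
    | zero => intro v; simp
    | succ n ih =>
      intro v
      rw [pow_succ, Equiv.Perm.mul_apply, ih]
      show x ^ n * (x * v.1 * x⁻¹) * (x ^ n)⁻¹ = x ^ (n + 1) * v.1 * (x ^ (n + 1))⁻¹
      rw [pow_succ]; group
  have lift : ∀ n : ℕ, σ ^ n = 1 → ∀ v ∈ V, x ^ n * v * (x ^ n)⁻¹ = v := by
    intro n hn v hv
    by_cases hv1 : v = 1
    · rw [hv1]; group
    · have := hpow n ⟨v, hv, hv1⟩
      rw [hn] at this
      exact this.symm
  obtain ⟨hk, hfix⟩ := permT hTcard σ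
  have c2 : x ^ 2 ∈ V → False := by
    intro h
    have h1 := IsKleinFour.mul_self (⟨x ^ 2, h⟩ : V)
    have h2 : x ^ 2 * x ^ 2 = 1 := congrArg Subtype.val h1
    have h4 : x ^ 4 = 1 := by rw [← h2, ← pow_add]
    have := orderOf_dvd_of_pow_eq_one h4
    rw [h6] at this
    omega
  rcases hk with h | h
  · exact c2 (hC _ (lift 2 h))
  · have h3 : x ^ 3 ∈ V := hC _ (lift 3 h)
    have ht1 : x ^ 3 ≠ 1 := by
      intro h'
      have := orderOf_dvd_of_pow_eq_one h'
      rw [h6] at this
      omega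
    have hfx : σ ⟨x ^ 3, h3, ht1⟩ = ⟨x ^ 3, h3, ht1⟩ := by
      apply Subtype.ext
      show x * x ^ 3 * x⁻¹ = x ^ 3
      group
    exact c2 (hC _ (lift 2 (hfix ⟨_, hfx⟩)))



theorem mem_normalizer_of_map_eq {G : Type*} [Group G] (V : Subgroup G) (γ : G)
    (h : V.map (MulAut.conj γ).toMonoidHom = V) : γ ∈ Subgroup.normalizer (V : Set G) := by
  rw [Subgroup.mem_normalizer_iff]
  intro x
  constructor
  · intro hx
    rw [← h]
    exact ⟨x, hx, rfl⟩
  · intro hx
    rw [← h] at hx
    obtain ⟨y, hy, hxy⟩ := hx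
    have h1 : γ * y * γ⁻¹ = γ * x * γ⁻¹ := hxy
    have h2 : y = x := by simpa using h1
    rw [← h2]; exact hy

section
variable {F : Type*} [Field F] [Fintype F]

theorem comm_pair (hF : Odd (Fintype.card F)) {a b k : Matrix.SpecialLinearGroup (Fin 2) F}
    (hp : IsPair a b) (ha : k * a = a * k) (hb : k * b = b * k) : k = 1 ∨ k = -1 := by
  have h2 := two_ne_zero_of_odd_card hF
  obtain ⟨P, hP, hd⟩ := normal_form hF hp
  have hcw : (P * k * P⁻¹) * sl2w F = sl2w F * (P * k * P⁻¹) := by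
    rw [← hP]
    have h1 : P * k * P⁻¹ * (P * b * P⁻¹) = P * (k * b) * P⁻¹ := by group
    rw [h1, hb]; group
  have hcd : (P * k * P⁻¹) * (P * a * P⁻¹) * (P * k * P⁻¹)⁻¹ = P * a * P⁻¹ := by
    have h1 : (P * k * P⁻¹) * (P * a * P⁻¹) * (P * k * P⁻¹)⁻¹ = P * (k * a) * k⁻¹ * P⁻¹ := by group
    rw [h1, ha]; group
  rw [conj_eq_sq_mul _ _ hcw hd] at hcd
  have hsq : (P * k * P⁻¹) ^ 2 = 1 := by
    apply mul_right_cancel (b := P * a * P⁻¹)
    rw [hcd, one_mul]
  have hk : k = P⁻¹ * (P * k * P⁻¹) * P := by group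
  rcases sl2_sq_eq_one h2 _ hsq with h | h
  · left
    rw [hk, h]; group
  · right
    rw [hk, h]; simp

omit [Fintype F] in
theorem conj_b_a {a b : Matrix.SpecialLinearGroup (Fin 2) F} (hp : IsPair a b) :
    b * a * b⁻¹ = -a := by
  have h0 : a * b⁻¹ * a⁻¹ = b := by
    have := congrArg (fun z => z⁻¹) hp.2
    simpa [mul_assoc] using this
  have h1 : b * a = a * b⁻¹ := by
    calc b * a = a * b⁻¹ * a⁻¹ * a := by rw [h0]
      _ = a * b⁻¹ := by group
  have h3 : (b⁻¹) ^ 2 = -1 := by rw [inv_pow, hp.1]; simp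
  calc b * a * b⁻¹ = a * b⁻¹ * b⁻¹ := by rw [h1]
    _ = a * (b⁻¹) ^ 2 := by rw [pow_two, mul_assoc]
    _ = -a := by rw [h3]; simp

theorem central_mem (hF : Odd (Fintype.card F)) {a b : Matrix.SpecialLinearGroup (Fin 2) F}
    (hp : IsPair a b) (γ : Matrix.ProjectiveSpecialLinearGroup (Fin 2) F)
    (hγ : ∀ v ∈ VV a b, γ * v * γ⁻¹ = v) : γ ∈ VV a b := by
  have h2 := two_ne_zero_of_odd_card hF
  obtain ⟨g, rfl⟩ := QuotientGroup.mk_surjective γ
  have hamem : (QuotientGroup.mk a : Matrix.ProjectiveSpecialLinearGroup (Fin 2) F) ∈ VV a b :=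
    Subgroup.subset_closure (by simp)
  have hbmem : (QuotientGroup.mk b : Matrix.ProjectiveSpecialLinearGroup (Fin 2) F) ∈ VV a b :=
    Subgroup.subset_closure (by simp)
  have h1 := hγ _ hamem
  have h2' := hγ _ hbmem
  rw [← QuotientGroup.mk_inv, ← QuotientGroup.mk_mul, ← QuotientGroup.mk_mul, mk_eq_mk_iff]
    at h1 h2'
  have key : ∀ r : Matrix.SpecialLinearGroup (Fin 2) F, r * a * r⁻¹ = g * a * g⁻¹ →
      r * b * r⁻¹ = g * b * g⁻¹ →
      (QuotientGroup.mk r : Matrix.ProjectiveSpecialLinearGroup (Fin 2) F) ∈ VV a b →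
      (QuotientGroup.mk g : Matrix.ProjectiveSpecialLinearGroup (Fin 2) F) ∈ VV a b := by
    intro r hra hrb hr
    have hk := comm_pair hF hp (k := r⁻¹ * g)
      (by
        have e1 : r⁻¹ * g * a = r⁻¹ * (g * a * g⁻¹) * g := by group
        rw [e1, ← hra]; group)
      (by
        have e1 : r⁻¹ * g * b = r⁻¹ * (g * b * g⁻¹) * g := by group
        rw [e1, ← hrb]; group)
    rcases hk with hk | hk
    · have : g = r := by
        rw [inv_mul_eq_one] at hk; exact hk.symm
      rw [this]; exact hr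
    · have : g = -r := by
        rw [inv_mul_eq_iff_eq_mul] at hk
        rw [hk]; simp
      rw [this, mk_neg]; exact hr
  have hbinv : b⁻¹ = -b := inv_eq_neg_of_sq b hp.1
  have hba := conj_b_a hp
  rcases h1 with h1 | h1 <;> rcases h2' with h2' | h2'
  · refine key 1 ?_ ?_ ?_
    · rw [h1]; group
    · rw [h2']; group
    · rw [QuotientGroup.mk_one]; exact Subgroup.one_mem _
  · refine key a ?_ ?_ hamem
    · rw [h1]; group
    · rw [h2', hp.2, hbinv]
  · refine key b ?_ ?_ hbmem
    · rw [h1, hba]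
    · rw [h2']; group
  · refine key (a * b) ?_ ?_ ?_
    · rw [h1]
      have e1 : a * b * a * (a * b)⁻¹ = a * (b * a * b⁻¹) * a⁻¹ := by group
      rw [e1, hba]; simp
    · rw [h2']
      have e1 : a * b * b * (a * b)⁻¹ = a * b * a⁻¹ := by group
      rw [e1, hp.2, hbinv]
    · rw [QuotientGroup.mk_mul]; exact Subgroup.mul_mem _ hamem hbmem


theorem card_normalizer (hF : Odd (Fintype.card F)) (hsq2 : IsSquare (2 : F))
    {a b : Matrix.SpecialLinearGroup (Fin 2) F} (hp : IsPair a b) :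
    Nat.card (Subgroup.normalizer ((VV a b : Subgroup (Matrix.ProjectiveSpecialLinearGroup (Fin 2) F)) :
      Set (Matrix.ProjectiveSpecialLinearGroup (Fin 2) F))) = 24 := by
  classical
  have h2 := two_ne_zero_of_odd_card hF
  obtain ⟨hK, hset⟩ := VV_isKleinFour h2 hp
  obtain ⟨_, _, _, hna, hnb, hnab⟩ := pair_props h2 a b hp.1 hp.2
  have hamem : (QuotientGroup.mk a : Matrix.ProjectiveSpecialLinearGroup (Fin 2) F) ∈ VV a b :=
    Subgroup.subset_closure (by simp)
  have hbmem : (QuotientGroup.mk b : Matrix.ProjectiveSpecialLinearGroup (Fin 2) F) ∈ VV a b :=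
    Subgroup.subset_closure (by simp)
  rw [← card_SV hF (VV a b) hK]
  symm
  have hVV : ∀ p : {p : Matrix.SpecialLinearGroup (Fin 2) F × Matrix.SpecialLinearGroup (Fin 2) F //
      (QuotientGroup.mk p.1 : Matrix.ProjectiveSpecialLinearGroup (Fin 2) F) ∈ VV a b ∧
      (QuotientGroup.mk p.2 : Matrix.ProjectiveSpecialLinearGroup (Fin 2) F) ∈ VV a b ∧
      (QuotientGroup.mk p.1 : Matrix.ProjectiveSpecialLinearGroup (Fin 2) F) ≠ 1 ∧
      (QuotientGroup.mk p.2 : Matrix.ProjectiveSpecialLinearGroup (Fin 2) F) ≠ 1 ∧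
      (QuotientGroup.mk p.1 : Matrix.ProjectiveSpecialLinearGroup (Fin 2) F) ≠
        QuotientGroup.mk p.2}, IsPair p.1.1 p.1.2 ∧ VV p.1.1 p.1.2 = VV a b := by
    intro p
    obtain ⟨h1, h2', h3, h4, h5⟩ := p.2
    have hp' : IsPair p.1.1 p.1.2 := pair_of_klein h2 (VV a b) hK _ _ h1 h2' h3 h4 h5
    refine ⟨hp', ?_⟩
    have hK' := (VV_isKleinFour h2 hp').1
    have hle : VV p.1.1 p.1.2 ≤ VV a b := by
      nth_rewrite 1 [VV]
      rw [Subgroup.closure_le]
      rintro x (rfl | rfl)
      · exact h1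
      · exact h2'
    exact Subgroup.eq_of_le_of_card_ge hle (by rw [hK.card_four, hK'.card_four])
  have hex : ∀ p : {p : Matrix.SpecialLinearGroup (Fin 2) F × Matrix.SpecialLinearGroup (Fin 2) F //
      (QuotientGroup.mk p.1 : Matrix.ProjectiveSpecialLinearGroup (Fin 2) F) ∈ VV a b ∧
      (QuotientGroup.mk p.2 : Matrix.ProjectiveSpecialLinearGroup (Fin 2) F) ∈ VV a b ∧
      (QuotientGroup.mk p.1 : Matrix.ProjectiveSpecialLinearGroup (Fin 2) F) ≠ 1 ∧
      (QuotientGroup.mk p.2 : Matrix.ProjectiveSpecialLinearGroup (Fin 2) F) ≠ 1 ∧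
      (QuotientGroup.mk p.1 : Matrix.ProjectiveSpecialLinearGroup (Fin 2) F) ≠
        QuotientGroup.mk p.2}, ∃ g : Matrix.SpecialLinearGroup (Fin 2) F,
        g * a * g⁻¹ = p.1.1 ∧ g * b * g⁻¹ = p.1.2 := by
    intro p
    exact lemmaK hF hsq2 hp (hVV p).1 (hVV p).2
  choose f hf1 hf2 using hex
  have hmem : ∀ p, (QuotientGroup.mk (f p) : Matrix.ProjectiveSpecialLinearGroup (Fin 2) F) ∈
      Subgroup.normalizer ((VV a b : Subgroup (Matrix.ProjectiveSpecialLinearGroup (Fin 2) F)) :
      Set (Matrix.ProjectiveSpecialLinearGroup (Fin 2) F)) := by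
    intro p
    apply mem_normalizer_of_map_eq
    rw [← VV_conj, hf1, hf2]
    exact (hVV p).2
  apply Nat.card_congr
  refine Equiv.ofBijective (fun p => ⟨QuotientGroup.mk (f p), hmem p⟩) ⟨?_, ?_⟩
  · intro p p' hpp
    have h1 : (QuotientGroup.mk (f p) : Matrix.ProjectiveSpecialLinearGroup (Fin 2) F) =
        QuotientGroup.mk (f p') := congrArg Subtype.val hpp
    rw [mk_eq_mk_iff] at h1
    apply Subtype.ext
    apply Prod.ext
    · rw [← hf1 p, ← hf1 p']
      rcases h1 with h1 | h1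
      · rw [h1]
      · rw [h1]; simp
    · rw [← hf2 p, ← hf2 p']
      rcases h1 with h1 | h1
      · rw [h1]
      · rw [h1]; simp
  · rintro ⟨γ, hγ⟩
    obtain ⟨g, rfl⟩ := QuotientGroup.mk_surjective γ
    rw [Subgroup.mem_normalizer_iff] at hγ
    have e1 : ∀ x : Matrix.SpecialLinearGroup (Fin 2) F,
        (QuotientGroup.mk (g * x * g⁻¹) : Matrix.ProjectiveSpecialLinearGroup (Fin 2) F) =
        QuotientGroup.mk g * QuotientGroup.mk x * (QuotientGroup.mk g)⁻¹ := by
      intro x
      rw [QuotientGroup.mk_mul, QuotientGroup.mk_mul, QuotientGroup.mk_inv]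
    have e2 : ∀ x y : Matrix.SpecialLinearGroup (Fin 2) F,
        (QuotientGroup.mk (g * x * g⁻¹) : Matrix.ProjectiveSpecialLinearGroup (Fin 2) F) =
        QuotientGroup.mk (g * y * g⁻¹) →
        (QuotientGroup.mk x : Matrix.ProjectiveSpecialLinearGroup (Fin 2) F) = QuotientGroup.mk y := by
      intro x y h
      rw [e1, e1] at h
      simpa using h
    let p : {p : Matrix.SpecialLinearGroup (Fin 2) F × Matrix.SpecialLinearGroup (Fin 2) F //
      (QuotientGroup.mk p.1 : Matrix.ProjectiveSpecialLinearGroup (Fin 2) F) ∈ VV a b ∧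
      (QuotientGroup.mk p.2 : Matrix.ProjectiveSpecialLinearGroup (Fin 2) F) ∈ VV a b ∧
      (QuotientGroup.mk p.1 : Matrix.ProjectiveSpecialLinearGroup (Fin 2) F) ≠ 1 ∧
      (QuotientGroup.mk p.2 : Matrix.ProjectiveSpecialLinearGroup (Fin 2) F) ≠ 1 ∧
      (QuotientGroup.mk p.1 : Matrix.ProjectiveSpecialLinearGroup (Fin 2) F) ≠
        QuotientGroup.mk p.2} := ⟨(g * a * g⁻¹, g * b * g⁻¹), by
        refine ⟨?_, ?_, ?_, ?_, ?_⟩
        · show (QuotientGroup.mk (g * a * g⁻¹) : Matrix.ProjectiveSpecialLinearGroup (Fin 2) F) ∈ _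
          rw [e1]; exact (hγ _).mp hamem
        · show (QuotientGroup.mk (g * b * g⁻¹) : Matrix.ProjectiveSpecialLinearGroup (Fin 2) F) ∈ _
          rw [e1]; exact (hγ _).mp hbmem
        · show (QuotientGroup.mk (g * a * g⁻¹) : Matrix.ProjectiveSpecialLinearGroup (Fin 2) F) ≠ 1
          intro h
          apply hna
          apply e2 a 1
          rw [h]
          have : g * 1 * g⁻¹ = 1 := by group
          rw [this, QuotientGroup.mk_one]
        · show (QuotientGroup.mk (g * b * g⁻¹) : Matrix.ProjectiveSpecialLinearGroup (Fin 2) F) ≠ 1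
          intro h
          apply hnb
          apply e2 b 1
          rw [h]
          have : g * 1 * g⁻¹ = 1 := by group
          rw [this, QuotientGroup.mk_one]
        · show (QuotientGroup.mk (g * a * g⁻¹) : Matrix.ProjectiveSpecialLinearGroup (Fin 2) F) ≠
            QuotientGroup.mk (g * b * g⁻¹)
          intro h
          exact hnab (e2 a b h)⟩
    refine ⟨p, ?_⟩
    apply Subtype.ext
    show (QuotientGroup.mk (f p) : Matrix.ProjectiveSpecialLinearGroup (Fin 2) F) = QuotientGroup.mk g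
    have hk := comm_pair hF hp (k := g⁻¹ * f p)
      (by
        have e3 : g⁻¹ * f p * a = g⁻¹ * (f p * a * (f p)⁻¹) * f p := by group
        rw [e3, hf1 p]
        show g⁻¹ * (g * a * g⁻¹) * f p = a * (g⁻¹ * f p)
        group)
      (by
        have e3 : g⁻¹ * f p * b = g⁻¹ * (f p * b * (f p)⁻¹) * f p := by group
        rw [e3, hf2 p]
        show g⁻¹ * (g * b * g⁻¹) * f p = b * (g⁻¹ * f p)
        group)
    rw [mk_eq_mk_iff]
    rcases hk with hk | hk
    · left
      rw [inv_mul_eq_one] at hk; exact hk.symm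
    · right
      rw [inv_mul_eq_iff_eq_mul] at hk
      rw [hk]; simp

end


theorem char_two_sq {F : Type*} [Field F] (h2 : (2 : F) = 0)
    (g : Matrix.SpecialLinearGroup (Fin 2) F) (h4 : g ^ 4 = 1) : g ^ 2 = 1 := by
  have hdet := sl2_det g
  have h4' : (g ^ 2) ^ 2 = 1 := by rw [← pow_mul]; exact h4
  have hsq2 := sl2_sq_entries (g ^ 2)
  rw [h4'] at hsq2
  have hsq := sl2_sq_entries g
  have A00 : (g ^ 2).1 0 0 = g.1 0 0 * g.1 0 0 + g.1 0 1 * g.1 1 0 := by
    have := congrFun (congrFun hsq 0) 0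
    simpa using this
  have A01 : (g ^ 2).1 0 1 = g.1 0 0 * g.1 0 1 + g.1 0 1 * g.1 1 1 := by
    have := congrFun (congrFun hsq 0) 1
    simpa using this
  have A10 : (g ^ 2).1 1 0 = g.1 1 0 * g.1 0 0 + g.1 1 1 * g.1 1 0 := by
    have := congrFun (congrFun hsq 1) 0
    simpa using this
  have A11 : (g ^ 2).1 1 1 = g.1 1 0 * g.1 0 1 + g.1 1 1 * g.1 1 1 := by
    have := congrFun (congrFun hsq 1) 1
    simpa using this
  have E00 := congrFun (congrFun hsq2 0) 0
  have E01 := congrFun (congrFun hsq2 0) 1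
  have E10 := congrFun (congrFun hsq2 1) 0
  have E11 := congrFun (congrFun hsq2 1) 1
  simp only [Matrix.SpecialLinearGroup.coe_one, Matrix.one_apply_eq, Matrix.of_apply,
    Matrix.cons_val', Matrix.cons_val_zero, Matrix.cons_val_one, Matrix.cons_val_fin_one,
    ne_eq, zero_ne_one, one_ne_zero, not_false_eq_true, Matrix.one_apply_ne] at E00 E01 E10 E11
  simp only [A00, A01, A10, A11] at E00 E01 E10 E11
  generalize g.1 0 0 = a at *
  generalize g.1 0 1 = b at *
  generalize g.1 1 0 = c at *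
  generalize g.1 1 1 = d at *
  have goal : a * a + b * c = 1 ∧ a * b + b * d = 0 ∧ c * a + d * c = 0 ∧ c * b + d * d = 1 := by
    by_cases hτ : a + d = 0
    · refine ⟨?_, ?_, ?_, ?_⟩
      · linear_combination (-1) * hdet + a * hτ - h2
      · linear_combination b * hτ
      · linear_combination c * hτ
      · linear_combination (-1) * hdet + d * hτ - h2
    · exfalso
      have hb : (a + d) ^ 3 * b = 0 := by
        linear_combination (-1) * E01 + ((a + d) * b * (a * d - b * c)) * h2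
      have hc : (a + d) ^ 3 * c = 0 := by
        linear_combination (-1) * E10 + ((a + d) * c * (a * d - b * c)) * h2
      have hτ3 : (a + d) ^ 3 ≠ 0 := pow_ne_zero _ hτ
      have hb0 : b = 0 := by
        rcases mul_eq_zero.mp hb with h | h
        · exact absurd h hτ3
        · exact h
      have hc0 : c = 0 := by
        rcases mul_eq_zero.mp hc with h | h
        · exact absurd h hτ3
        · exact h
      subst hb0 hc0
      have ha4 : (a - 1) ^ 4 = 0 := by
        linear_combination (-1) * E00 + (1 - 2 * a ^ 3 + 3 * a ^ 2 - 2 * a) * h2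
      have hd4 : (d - 1) ^ 4 = 0 := by
        linear_combination (-1) * E11 + (1 - 2 * d ^ 3 + 3 * d ^ 2 - 2 * d) * h2
      have ha1 : a = 1 := by
        have := pow_eq_zero_iff (n := 4) (by norm_num) |>.mp ha4
        linear_combination this
      have hd1 : d = 1 := by
        have := pow_eq_zero_iff (n := 4) (by norm_num) |>.mp hd4
        linear_combination this
      apply hτ
      rw [ha1, hd1]
      linear_combination h2
  obtain ⟨g00, g01, g10, g11⟩ := goal
  apply sl_ext
  · rw [A00]; simpa using g00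
  · rw [A01]; simpa using g01
  · rw [A10]; simpa using g10
  · rw [A11]; simpa using g11

theorem psl_char_two_sq {F : Type*} [Field F] (h2 : (2 : F) = 0)
    (γ : Matrix.ProjectiveSpecialLinearGroup (Fin 2) F) (h4 : γ ^ 4 = 1) : γ ^ 2 = 1 := by
  obtain ⟨g, rfl⟩ := QuotientGroup.mk_surjective γ
  rw [← QuotientGroup.mk_pow, mk_eq_one_iff] at h4
  have hneg : (-1 : Matrix.SpecialLinearGroup (Fin 2) F) = 1 := by
    apply sl_ext <;> simp <;> linear_combination (-1) * h2
  have h4' : g ^ 4 = 1 := by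
    rcases h4 with h | h
    · exact h
    · rw [h, hneg]
  rw [← QuotientGroup.mk_pow, char_two_sq h2 g h4', QuotientGroup.mk_one]

theorem exists_four_cycle : ∃ σ : Equiv.Perm (Fin 4), σ ^ 4 = 1 ∧ σ ^ 2 ≠ 1 :=
  ⟨finRotate 4, by decide, by decide⟩

theorem arith_fwd (q N : ℕ) (hq : q % 2 = 1) (h24 : 24 ∣ N) (hN : q * (q * q - 1) = N * 2) :
    q ^ 2 % 16 = 1 := by
  obtain ⟨m, rfl⟩ := h24
  have hq1 : 1 ≤ q * q := by
    have : 1 ≤ q := by omega
    nlinarith
  have h3 : q * q * q = 48 * m + q := by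
    have : q * (q * q - 1) + q = q * q * q := by
      have : q * q - 1 + 1 = q * q := by omega
      calc q * (q * q - 1) + q = q * (q * q - 1 + 1) := by ring
        _ = q * (q * q) := by rw [this]
        _ = q * q * q := by ring
    omega
  have h16 : (q * q * q) % 16 = q % 16 := by
    rw [h3]; omega
  have hr : ∀ r : ℕ, r < 16 → r % 2 = 1 → (r * r * r) % 16 = r % 16 → r * r % 16 = 1 := by decide
  have hm : q % 16 * (q % 16) * (q % 16) ≡ q * q * q [MOD 16] :=
    ((Nat.mod_modEq q 16).mul (Nat.mod_modEq q 16)).mul (Nat.mod_modEq q 16)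
  have hm' : (q % 16 * (q % 16) * (q % 16)) % 16 = (q % 16) % 16 := by
    rw [Nat.mod_mod]; exact hm.trans h16
  have := hr (q % 16) (Nat.mod_lt _ (by norm_num)) (by omega) hm'
  rw [pow_two, Nat.mul_mod]; exact this

theorem arith_bwd (q : ℕ) (h : q ^ 2 % 16 = 1) : q % 2 = 1 ∧ (q % 8 = 1 ∨ q % 8 = 7) := by
  have hr : ∀ r : ℕ, r < 16 → r * r % 16 = 1 → r % 2 = 1 ∧ (r % 8 = 1 ∨ r % 8 = 7) := by decide
  have := hr (q % 16) (Nat.mod_lt _ (by norm_num)) (by rw [← Nat.mul_mod, ← pow_two]; exact h)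
  omega

/-- PSL_2(q) has a subgroup isomorphic to S_4 iff q² ≡ 1 (mod 16). -/
theorem result {F : Type*} [Field F] [Fintype F] {q : ℕ} (hF : Fintype.card F = q) : (∃ H : Subgroup (Matrix.ProjectiveSpecialLinearGroup (Fin 2) F), Nonempty (H ≃* Equiv.Perm (Fin 4))) ↔ q ^ 2 % 16 = 1 := by
  classical
  subst hF
  constructor
  · rintro ⟨H, ⟨e⟩⟩
    by_cases hodd : Odd (Fintype.card F)
    · have hH : Nat.card H = 24 := by
        rw [Nat.card_congr e.toEquiv, Nat.card_eq_fintype_card, Fintype.card_perm,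
          Fintype.card_fin]
        rfl
      have hdvd : 24 ∣ Nat.card (Matrix.ProjectiveSpecialLinearGroup (Fin 2) F) := by
        rw [← hH]; exact Subgroup.card_subgroup_dvd_card H
      have hsl : Fintype.card F * (Fintype.card F * Fintype.card F - 1) =
          Nat.card (Matrix.ProjectiveSpecialLinearGroup (Fin 2) F) * 2 := by
        rw [← card_sl2, Cfsg.Agent.Lib.Helper07.card_sl_eq_card_psl_mul 2 (by norm_num)]
        congr 1
        obtain ⟨t, ht⟩ := hodd
        rw [ht]
        simp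
      exact arith_fwd _ _ (Nat.odd_iff.mp hodd) hdvd hsl
    · exfalso
      rw [Nat.not_odd_iff_even] at hodd
      have h2 : (2 : F) = 0 := by
        have hc : ringChar F = 2 := by
          rw [FiniteField.even_card_iff_char_two]
          exact Nat.even_iff.mp hodd
        have : CharP F 2 := by
          rw [← hc]; exact ringChar.charP F
        exact_mod_cast CharP.cast_eq_zero F 2
      obtain ⟨σ, h4, hne⟩ := exists_four_cycle
      have h4' : (e.symm σ) ^ 4 = 1 := by
        rw [← map_pow, h4, map_one]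
      have h4'' : ((e.symm σ : H) : Matrix.ProjectiveSpecialLinearGroup (Fin 2) F) ^ 4 = 1 := by
        have := congrArg Subtype.val h4'
        simpa using this
      have hsq := psl_char_two_sq h2 _ h4''
      apply hne
      have h5 : (e.symm σ) ^ 2 = 1 := by
        apply Subtype.ext
        simpa using hsq
      have h6 : e ((e.symm σ) ^ 2) = 1 := by rw [h5, map_one]
      rw [map_pow, MulEquiv.apply_symm_apply] at h6
      exact h6
  · intro hq
    obtain ⟨hq2, hq8⟩ := arith_bwd _ hq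
    have hodd : Odd (Fintype.card F) := Nat.odd_iff.mpr hq2
    have h2 := two_ne_zero_of_odd_card hodd
    have hsq2 : IsSquare (2 : F) := by
      rw [FiniteField.isSquare_two_iff]
      omega
    have hwi : ((sl2w F)⁻¹) ^ 2 = -1 := by
      rw [inv_pow, sl2w_sq]; simp
    obtain ⟨d, hd⟩ := sl2_conj_of_sq_eq_neg_one hodd (sl2w F)⁻¹ hwi
    have hp : IsPair d (sl2w F) := ⟨sl2w_sq F, hd⟩
    obtain ⟨hK, -⟩ := VV_isKleinFour h2 hp
    refine ⟨Subgroup.normalizer ((VV d (sl2w F) :
      Subgroup (Matrix.ProjectiveSpecialLinearGroup (Fin 2) F)) :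
      Set (Matrix.ProjectiveSpecialLinearGroup (Fin 2) F)), ?_⟩
    apply Cfsg.Agent.S1012.result (card_normalizer hodd hsq2 hp)
    intro x
    rw [← Subgroup.orderOf_coe]
    exact no_order_six _ hK (central_mem hodd hp) x.1 x.2

end Cfsg.Agent.S0803
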