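import Cfsg.Statements.S0802
import Cfsg.Agent.S0803
import Cfsg.Agent.S0228

set_option autoImplicit false
set_option linter.unusedSimpArgs false
open Cfsg

namespace Cfsg.Agent.S0802

open Matrix Cfsg.Agent.Lib.Helper60 Cfsg.Agent.S0807 Cfsg.Agent.S0808

section
variable {F : Type*} [Field F]

/-- upper unitriangular matrices -/
def umat (y : F) : Matrix.SpecialLinearGroup (Fin 2) F :=
  ⟨!![1, y; 0, 1], by simp [Matrix.det_fin_two]⟩

@[simp] theorem umat00 (y : F) : (umat y).1 0 0 = 1 := rfl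
@[simp] theorem umat01 (y : F) : (umat y).1 0 1 = y := rfl
@[simp] theorem umat10 (y : F) : (umat y).1 1 0 = 0 := rfl
@[simp] theorem umat11 (y : F) : (umat y).1 1 1 = 1 := rfl

theorem sq_eq_one_char_two (h2 : (2 : F) = 0) (x : F) (hx : x * x = 1) : x = 1 := by
  have : (x - 1) ^ 2 = 0 := by linear_combination hx - x * h2 + h2
  have := pow_eq_zero_iff (n := 2) (by norm_num) |>.mp this
  linear_combination this

/-- normal form of an involution in characteristic 2 -/
theorem nf_char_two (h2 : (2 : F) = 0) (s : Matrix.SpecialLinearGroup (Fin 2) F)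
    (hs : s ^ 2 = 1) (hs1 : s ≠ 1) :
    ∃ (P : Matrix.SpecialLinearGroup (Fin 2) F) (y : F), y ≠ 0 ∧ P * s = umat y * P := by
  have hdet := sl2_det s
  have hsq := sl2_sq_entries s
  rw [hs] at hsq
  have E00 := congrFun (congrFun hsq 0) 0
  have E01 := congrFun (congrFun hsq 0) 1
  have E10 := congrFun (congrFun hsq 1) 0
  have E11 := congrFun (congrFun hsq 1) 1
  simp only [Matrix.SpecialLinearGroup.coe_one, Matrix.one_apply_eq, Matrix.of_apply,
    Matrix.cons_val', Matrix.cons_val_zero, Matrix.cons_val_one, Matrix.cons_val_fin_one,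
    ne_eq, zero_ne_one, one_ne_zero, not_false_eq_true, Matrix.one_apply_ne] at E00 E01 E10 E11
  by_cases h20 : s.1 1 0 = 0
  · rw [h20] at E00 E11 hdet
    have h00 : s.1 0 0 = 1 := sq_eq_one_char_two h2 _ (by linear_combination -E00)
    have h11 : s.1 1 1 = 1 := sq_eq_one_char_two h2 _ (by linear_combination -E11)
    refine ⟨1, s.1 0 1, ?_, ?_⟩
    · intro h01
      apply hs1
      apply sl_ext <;> simp [h00, h11, h01, h20]
    · rw [one_mul, mul_one]
      apply sl_ext <;> simp [h00, h11, h20]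
  · have htr : s.1 1 1 = s.1 0 0 := by
      have : s.1 1 0 * (s.1 0 0 + s.1 1 1) = 0 := by linear_combination -E10
      rcases mul_eq_zero.mp this with h | h
      · exact absurd h h20
      · linear_combination h - s.1 0 0 * h2
    let P : Matrix.SpecialLinearGroup (Fin 2) F :=
      ⟨!![0, 1; 1, (s.1 0 0 + 1) / s.1 1 0], by
        rw [Matrix.det_fin_two]
        simp only [Matrix.of_apply, Matrix.cons_val', Matrix.cons_val_zero, Matrix.cons_val_one,
          Matrix.cons_val_fin_one]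
        linear_combination (-1 : F) * h2⟩
    have P00 : P.1 0 0 = 0 := rfl
    have P01 : P.1 0 1 = 1 := rfl
    have P10 : P.1 1 0 = 1 := rfl
    have P11 : P.1 1 1 = (s.1 0 0 + 1) / s.1 1 0 := rfl
    refine ⟨P, s.1 1 0, h20, ?_⟩
    apply sl_ext
    · simp only [Matrix.SpecialLinearGroup.coe_mul, mmul00, mmul01, mmul10, mmul11,
        P00, P01, P10, P11, umat00, umat01, umat10, umat11]
      ring
    · simp only [Matrix.SpecialLinearGroup.coe_mul, mmul00, mmul01, mmul10, mmul11,
        P00, P01, P10, P11, umat00, umat01, umat10, umat11]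
      field_simp
      linear_combination htr - h2
    · simp only [Matrix.SpecialLinearGroup.coe_mul, mmul00, mmul01, mmul10, mmul11,
        P00, P01, P10, P11, umat00, umat01, umat10, umat11]
      field_simp
      linear_combination s.1 0 0 * h2
    · simp only [Matrix.SpecialLinearGroup.coe_mul, mmul00, mmul01, mmul10, mmul11,
        P00, P01, P10, P11, umat00, umat01, umat10, umat11]
      field_simp
      rw [htr]
      linear_combination -E00


theorem key_nf (h2 : (2 : F) = 0) (y : F) (hy : y ≠ 0)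
    (ρ t : Matrix.SpecialLinearGroup (Fin 2) F)
    (h1 : ρ * umat y = t * ρ) (hc : umat y * t = t * umat y)
    (h3 : ρ * t = umat y * t * ρ) : ∃ x : F, x ^ 2 + x + 1 = 0 := by
  have hdρ := sl2_det ρ
  have hdt := sl2_det t
  have ent : ∀ {A B : Matrix.SpecialLinearGroup (Fin 2) F}, A = B → ∀ i j, A.1 i j = B.1 i j := by
    intro A B h i j; rw [h]
  have c00 := ent hc 0 0
  have c01 := ent hc 0 1
  have a01 := ent h1 0 1
  have a11 := ent h1 1 1
  have b01 := ent h3 0 1
  simp only [Matrix.SpecialLinearGroup.coe_mul, mmul00, mmul01, mmul10, mmul11,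
    umat00, umat01, umat10, umat11] at c00 c01 a01 a11 b01
  generalize ρ.1 0 0 = a at *
  generalize ρ.1 0 1 = b at *
  generalize ρ.1 1 0 = c at *
  generalize ρ.1 1 1 = d at *
  generalize t.1 0 0 = t0 at *
  generalize t.1 0 1 = t1 at *
  generalize t.1 1 0 = t2 at *
  generalize t.1 1 1 = t3 at *
  have ht2 : t2 = 0 := by
    have : y * t2 = 0 := by linear_combination c00
    rcases mul_eq_zero.mp this with h | h
    · exact absurd h hy
    · exact h
  subst ht2
  have ht3 : t3 = t0 := by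
    have : y * (t3 - t0) = 0 := by linear_combination c01
    rcases mul_eq_zero.mp this with h | h
    · exact absurd h hy
    · linear_combination h
  subst ht3
  have ht0 : t3 = 1 := sq_eq_one_char_two h2 _ (by linear_combination hdt)
  subst ht0
  have hc0 : c = 0 := by
    have : c * y = 0 := by linear_combination a11
    rcases mul_eq_zero.mp this with h | h
    · exact h
    · exact absurd h hy
  subst hc0
  refine ⟨a ^ 2, ?_⟩
  have hz : t1 = a ^ 2 * y := by
    linear_combination (-a) * a01 + (-t1) * hdρ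
  have h4 : (a ^ 4 - a ^ 2 - 1) * y = 0 := by
    have e1 : a * t1 = (t1 + y) * d := by linear_combination b01
    have e2 : a ^ 2 * t1 = t1 + y := by
      linear_combination a * e1 + (t1 + y) * hdρ
    rw [hz] at e2
    linear_combination e2
  rcases mul_eq_zero.mp h4 with h | h
  · linear_combination h + (a ^ 2 + 1) * h2
  · exact absurd h hy

theorem key_char_two (h2 : (2 : F) = 0) (s ρ : Matrix.SpecialLinearGroup (Fin 2) F)
    (hs : s ^ 2 = 1) (hs1 : s ≠ 1)
    (hc : s * (ρ * s * ρ⁻¹) = (ρ * s * ρ⁻¹) * s)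
    (hr : ρ * (ρ * s * ρ⁻¹) * ρ⁻¹ = s * (ρ * s * ρ⁻¹)) : ∃ x : F, x ^ 2 + x + 1 = 0 := by
  obtain ⟨P, y, hy, hP⟩ := nf_char_two h2 s hs hs1
  have hu : umat y = P * s * P⁻¹ := by
    rw [hP]; group
  refine key_nf h2 y hy (P * ρ * P⁻¹) (P * (ρ * s * ρ⁻¹) * P⁻¹) ?_ ?_ ?_
  · rw [hu]; group
  · rw [hu]
    have e1 : P * s * P⁻¹ * (P * (ρ * s * ρ⁻¹) * P⁻¹) = P * (s * (ρ * s * ρ⁻¹)) * P⁻¹ := by group
    rw [e1, hc]; group
  · rw [hu]
    have e1 : P * ρ * P⁻¹ * (P * (ρ * s * ρ⁻¹) * P⁻¹) =
        P * (ρ * (ρ * s * ρ⁻¹) * ρ⁻¹) * ρ * P⁻¹ := by group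
    rw [e1, hr]; group

theorem mk_inj_char_two (h2 : (2 : F) = 0) :
    Function.Injective (fun x : Matrix.SpecialLinearGroup (Fin 2) F =>
      (QuotientGroup.mk x : Matrix.ProjectiveSpecialLinearGroup (Fin 2) F)) := by
  intro x y h
  rcases (mk_eq_mk_iff x y).mp h with h | h
  · exact h
  · rw [h]
    apply sl_ext <;> simp <;> linear_combination (-(y.1 _ _)) * h2

theorem no_root_of_odd [Fintype F] (n : ℕ) (hn : Odd n) (hF : Fintype.card F = 2 ^ n)
    (x : F) (hx : x ^ 2 + x + 1 = 0) : False := by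
  have h2 : (2 : F) = 0 := by
    have hc : ringChar F = 2 := by
      rw [FiniteField.even_card_iff_char_two, hF]
      obtain ⟨k, rfl⟩ := hn
      rw [pow_succ]; omega
    have : CharP F 2 := by
      rw [← hc]; exact ringChar.charP F
    exact_mod_cast CharP.cast_eq_zero F 2
  have hx3 : x ^ 3 = 1 := by linear_combination (x - 1) * hx
  have hxq : x ^ (2 ^ n) = x := by rw [← hF]; exact FiniteField.pow_card x
  have hmod : ∀ m : ℕ, x ^ m = x ^ (m % 3) := by
    intro m
    conv_lhs => rw [← Nat.div_add_mod m 3, pow_add, pow_mul, hx3, one_pow, one_mul]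
  have h2n : 2 ^ n % 3 = 2 := by
    obtain ⟨k, rfl⟩ := hn
    rw [pow_succ, pow_mul, Nat.mul_mod, Nat.pow_mod]
    norm_num
  rw [hmod, h2n] at hxq
  -- x^2 = x, so x = 0 or 1
  have h0 : x * (x - 1) = 0 := by linear_combination hxq
  rcases mul_eq_zero.mp h0 with h | h
  · rw [h] at hx; simp at hx
  · have hx1 : x = 1 := by linear_combination h
    rw [hx1] at hx
    have : (1 : F) = 0 := by linear_combination hx - h2
    exact one_ne_zero this

end

theorem a4_witness : ∃ s ρ : alternatingGroup (Fin 4), s ^ 2 = 1 ∧ s ≠ 1 ∧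
    s * (ρ * s * ρ⁻¹) = (ρ * s * ρ⁻¹) * s ∧ ρ * (ρ * s * ρ⁻¹) * ρ⁻¹ = s * (ρ * s * ρ⁻¹) := by
  refine ⟨⟨Equiv.swap 0 1 * Equiv.swap 2 3, by rw [Equiv.Perm.mem_alternatingGroup]; decide⟩,
    ⟨Equiv.swap 0 1 * Equiv.swap 1 2, by rw [Equiv.Perm.mem_alternatingGroup]; decide⟩, ?_, ?_, ?_, ?_⟩
  · apply Subtype.ext; simp only [Subgroup.coe_pow, Subgroup.coe_one]; decide
  · intro h; have := congrArg Subtype.val h; simp only [Subgroup.coe_one] at this; revert this; decide
  · apply Subtype.ext; simp only [Subgroup.coe_mul, Subgroup.coe_inv]; decide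
  · apply Subtype.ext; simp only [Subgroup.coe_mul, Subgroup.coe_inv]; decide

theorem two_eq_zero_of_even_card {F : Type*} [Field F] [Fintype F]
    (h : Fintype.card F % 2 = 0) : (2 : F) = 0 := by
  have hc : ringChar F = 2 := by
    rw [FiniteField.even_card_iff_char_two]; exact h
  have : CharP F 2 := by
    rw [← hc]; exact ringChar.charP F
  exact_mod_cast CharP.cast_eq_zero F 2

theorem no_a4_char_two {F : Type*} [Field F] [Fintype F] (n : ℕ) (hn : Odd n)
    (hF : Fintype.card F = 2 ^ n)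
    (H : Subgroup (Matrix.ProjectiveSpecialLinearGroup (Fin 2) F))
    (e : H ≃* alternatingGroup (Fin 4)) : False := by
  have h2 : (2 : F) = 0 := by
    apply two_eq_zero_of_even_card
    rw [hF]
    obtain ⟨k, rfl⟩ := hn
    rw [pow_succ]; omega
  obtain ⟨s₀, ρ₀, w1, w2, w3, w4⟩ := a4_witness
  have r1 : (e.symm s₀) ^ 2 = 1 := by rw [← map_pow, w1, map_one]
  have r2 : e.symm s₀ ≠ 1 := by
    intro h
    apply w2
    have := congrArg e h
    simpa using this
  have r3 : e.symm s₀ * (e.symm ρ₀ * e.symm s₀ * (e.symm ρ₀)⁻¹) =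
      (e.symm ρ₀ * e.symm s₀ * (e.symm ρ₀)⁻¹) * e.symm s₀ := by
    rw [← map_inv, ← map_mul, ← map_mul, ← map_mul, ← map_mul, w3]
  have r4 : e.symm ρ₀ * (e.symm ρ₀ * e.symm s₀ * (e.symm ρ₀)⁻¹) * (e.symm ρ₀)⁻¹ =
      e.symm s₀ * (e.symm ρ₀ * e.symm s₀ * (e.symm ρ₀)⁻¹) := by
    rw [← map_inv, ← map_mul, ← map_mul, ← map_mul, ← map_mul, ← map_mul, w4]
  obtain ⟨s, hs⟩ := QuotientGroup.mk_surjective
    ((e.symm s₀ : H) : Matrix.ProjectiveSpecialLinearGroup (Fin 2) F)
  obtain ⟨ρ, hρ⟩ := QuotientGroup.mk_surjective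
    ((e.symm ρ₀ : H) : Matrix.ProjectiveSpecialLinearGroup (Fin 2) F)
  have inj := mk_inj_char_two h2
  have q1 := congrArg Subtype.val r1
  have q3 := congrArg Subtype.val r3
  have q4 := congrArg Subtype.val r4
  simp only [Subgroup.coe_pow, Subgroup.coe_one, Subgroup.coe_mul, Subgroup.coe_inv,
    ← hs, ← hρ] at q1 q3 q4
  obtain ⟨x, hx⟩ := key_char_two h2 s ρ
    (inj (by simpa using q1))
    (by
      intro h
      apply r2
      apply Subtype.ext
      rw [← hs, h]; rfl)
    (inj (by simpa using q3))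
    (inj (by simpa using q4))
  exact no_root_of_odd n hn hF x hx

theorem a4_of_s4 {G : Type*} [Group G] (N : Subgroup G) (e : N ≃* Equiv.Perm (Fin 4)) :
    ∃ H : Subgroup G, Nonempty (H ≃* alternatingGroup (Fin 4)) := by
  let K : Subgroup N := (alternatingGroup (Fin 4)).map e.symm.toMonoidHom
  let e1 : alternatingGroup (Fin 4) ≃* K := e.symm.subgroupMap (alternatingGroup (Fin 4))
  let e2 : K ≃* K.map N.subtype := K.equivMapOfInjective N.subtype (Subgroup.subtype_injective N)
  exact ⟨K.map N.subtype, ⟨(e1.trans e2).symm⟩⟩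

open scoped Pointwise in
theorem smul_eq_map_conj {G : Type*} [Group G] (V : Subgroup G) (x : ConjAct G) :
    x • V = V.map (MulAut.conj (ConjAct.ofConjAct x)).toMonoidHom := by
  ext y
  rw [Subgroup.mem_smul_pointwise_iff_exists, Subgroup.mem_map]
  constructor
  · rintro ⟨s, hs, rfl⟩
    exact ⟨s, hs, by simp [ConjAct.smul_def]⟩
  · rintro ⟨s, hs, rfl⟩
    exact ⟨s, hs, by simp [ConjAct.smul_def]⟩

open scoped Pointwise in
theorem card_normalizer_mul {G : Type*} [Group G] [Finite G] (V : Subgroup G) :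
    Nat.card (Subgroup.normalizer (V : Set G)) *
      Nat.card {W : Subgroup G // ∃ g : G, W = V.map (MulAut.conj g).toMonoidHom} =
      Nat.card G := by
  have h1 := Subgroup.card_mul_index (MulAction.stabilizer (ConjAct G) V)
  rw [MulAction.index_stabilizer] at h1
  have h2 : Nat.card (MulAction.stabilizer (ConjAct G) V) =
      Nat.card (Subgroup.normalizer (V : Set G)) := by
    apply Nat.card_congr
    refine ⟨fun x => ⟨ConjAct.ofConjAct x.1, ?_⟩, fun y => ⟨ConjAct.toConjAct y.1, ?_⟩, ?_, ?_⟩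
    · have := x.2
      rw [MulAction.mem_stabilizer_iff] at this
      rw [← Subgroup.conjAct_pointwise_smul_iff]
      simpa using this
    · rw [MulAction.mem_stabilizer_iff, Subgroup.conjAct_pointwise_smul_iff]
      exact y.2
    · intro x; simp
    · intro y; simp
  have h3 : (MulAction.orbit (ConjAct G) V).ncard =
      Nat.card {W : Subgroup G // ∃ g : G, W = V.map (MulAut.conj g).toMonoidHom} := by
    rw [← Nat.card_coe_set_eq]
    apply Nat.card_congr
    apply Equiv.subtypeEquivRight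
    intro W
    rw [MulAction.mem_orbit_iff]
    constructor
    · rintro ⟨x, rfl⟩
      exact ⟨ConjAct.ofConjAct x, smul_eq_map_conj V x⟩
    · rintro ⟨g, rfl⟩
      exact ⟨ConjAct.toConjAct g, by rw [smul_eq_map_conj]; simp⟩
  rw [h2, h3] at h1
  rw [h1]
  rfl

theorem isKleinFour_map_conj {G : Type*} [Group G] (V : Subgroup G) (hV : IsKleinFour V) (g : G) :
    IsKleinFour (V.map (MulAut.conj g).toMonoidHom) := by
  let e : V ≃* V.map (MulAut.conj g).toMonoidHom :=
    V.equivMapOfInjective _ (MulAut.conj g).injective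
  exact ⟨by rw [← Nat.card_congr e.toEquiv]; exact hV.card_four,
    by rw [← Monoid.exponent_eq_of_mulEquiv e]; exact hV.exponent_two⟩

section
variable {F : Type*} [Field F] [Fintype F]

theorem no_central_invol (hF : Odd (Fintype.card F))
    {a b : Matrix.SpecialLinearGroup (Fin 2) F} (hp : IsPair a b)
    (z : Subgroup.normalizer ((VV a b : Subgroup (Matrix.ProjectiveSpecialLinearGroup (Fin 2) F)) :
      Set (Matrix.ProjectiveSpecialLinearGroup (Fin 2) F)))
    (hz : orderOf z = 2)
    (hzc : z ∈ Subgroup.center (Subgroup.normalizer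
      ((VV a b : Subgroup (Matrix.ProjectiveSpecialLinearGroup (Fin 2) F)) :
      Set (Matrix.ProjectiveSpecialLinearGroup (Fin 2) F)))) : False := by
  have h2 := two_ne_zero_of_odd_card hF
  obtain ⟨hK, hset⟩ := VV_isKleinFour h2 hp
  obtain ⟨_, _, _, hna, hnb, hnab⟩ := pair_props h2 a b hp.1 hp.2
  have hamem : (QuotientGroup.mk a : Matrix.ProjectiveSpecialLinearGroup (Fin 2) F) ∈ VV a b :=
    Subgroup.subset_closure (by simp)
  have hbmem : (QuotientGroup.mk b : Matrix.ProjectiveSpecialLinearGroup (Fin 2) F) ∈ VV a b :=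
    Subgroup.subset_closure (by simp)
  rw [Subgroup.mem_center_iff] at hzc
  have hcomm : ∀ x (hx : x ∈ Subgroup.normalizer
      ((VV a b : Subgroup (Matrix.ProjectiveSpecialLinearGroup (Fin 2) F)) :
      Set (Matrix.ProjectiveSpecialLinearGroup (Fin 2) F))), x * z.1 * x⁻¹ = z.1 := by
    intro x hx
    have := congrArg Subtype.val (hzc ⟨x, hx⟩)
    simp only [Subgroup.coe_mul] at this
    rw [this]; group
  have hzV : z.1 ∈ VV a b := by
    apply Cfsg.Agent.S0803.central_mem hF hp
    intro v hv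
    have := hcomm v (Subgroup.le_normalizer hv)
    have h' : v * z.1 = z.1 * v := by rw [mul_inv_eq_iff_eq_mul] at this; exact this
    rw [← h']; group
  have hz1 : z.1 ≠ 1 := by
    intro h
    have : z = 1 := Subtype.ext h
    rw [this, orderOf_one] at hz
    omega
  obtain ⟨g, hga, hgb⟩ := rel_rot hF hp
  have hp' : IsPair b (a * b) := hp.of_rel ⟨g, hga, hgb⟩
  have hVV : VV b (a * b) = VV a b := by
    have hK' := (VV_isKleinFour h2 hp').1
    have hle : VV b (a * b) ≤ VV a b := by
      nth_rewrite 1 [VV]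
      rw [Subgroup.closure_le]
      rintro x (rfl | rfl)
      · exact hbmem
      · rw [QuotientGroup.mk_mul]; exact Subgroup.mul_mem _ hamem hbmem
    exact Subgroup.eq_of_le_of_card_ge hle (by rw [hK.card_four, hK'.card_four])
  have hρ : (QuotientGroup.mk g : Matrix.ProjectiveSpecialLinearGroup (Fin 2) F) ∈
      Subgroup.normalizer ((VV a b : Subgroup (Matrix.ProjectiveSpecialLinearGroup (Fin 2) F)) :
      Set (Matrix.ProjectiveSpecialLinearGroup (Fin 2) F)) := by
    apply Cfsg.Agent.S0803.mem_normalizer_of_map_eq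
    rw [← VV_conj, hga, hgb]
    exact hVV
  have hfix := hcomm _ hρ
  have e1 : ∀ x : Matrix.SpecialLinearGroup (Fin 2) F,
      (QuotientGroup.mk g : Matrix.ProjectiveSpecialLinearGroup (Fin 2) F) * QuotientGroup.mk x *
        (QuotientGroup.mk g)⁻¹ = QuotientGroup.mk (g * x * g⁻¹) := by
    intro x
    rw [QuotientGroup.mk_mul, QuotientGroup.mk_mul, QuotientGroup.mk_inv]
  have hbab : b * (a * b) = a := by
    have h1 : a * b = b⁻¹ * a := by rw [← hp.2]; group
    rw [h1]; group
  have hcases : ∀ ζ : Matrix.ProjectiveSpecialLinearGroup (Fin 2) F, ζ ∈ VV a b →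
      ζ = 1 ∨ ζ = QuotientGroup.mk a ∨ ζ = QuotientGroup.mk b ∨
        ζ = QuotientGroup.mk a * QuotientGroup.mk b := by
    intro ζ hζ
    have h' : ζ ∈ ((VV a b : Subgroup (Matrix.ProjectiveSpecialLinearGroup (Fin 2) F)) :
      Set (Matrix.ProjectiveSpecialLinearGroup (Fin 2) F)) := hζ
    rw [hset] at h'
    simpa only [Set.mem_insert_iff, Set.mem_singleton_iff] using h'
  rcases hcases _ hzV with h | h | h | h
  · exact hz1 h
  · rw [h, e1, hga] at hfix
    exact hnab hfix.symm
  · rw [h, e1, hgb, QuotientGroup.mk_mul] at hfix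
    apply hna
    exact mul_right_cancel (b := (QuotientGroup.mk b : Matrix.ProjectiveSpecialLinearGroup (Fin 2) F))
      (by rw [hfix, one_mul])
  · rw [h, ← QuotientGroup.mk_mul, e1] at hfix
    have e2 : g * (a * b) * g⁻¹ = (g * a * g⁻¹) * (g * b * g⁻¹) := by group
    rw [e2, hga, hgb, hbab, QuotientGroup.mk_mul] at hfix
    apply hnb
    exact mul_left_cancel (a := (QuotientGroup.mk a : Matrix.ProjectiveSpecialLinearGroup (Fin 2) F))
      (by rw [← hfix, mul_one])

theorem a4_odd (hodd : Odd (Fintype.card F)) :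
    ∃ H : Subgroup (Matrix.ProjectiveSpecialLinearGroup (Fin 2) F),
      Nonempty (H ≃* alternatingGroup (Fin 4)) := by
  classical
  have h2 := two_ne_zero_of_odd_card hodd
  have hwi : ((sl2w F)⁻¹) ^ 2 = -1 := by rw [inv_pow, sl2w_sq]; simp
  obtain ⟨d, hd⟩ := sl2_conj_of_sq_eq_neg_one hodd (sl2w F)⁻¹ hwi
  have hp : IsPair d (sl2w F) := ⟨sl2w_sq F, hd⟩
  obtain ⟨hK, hset⟩ := VV_isKleinFour h2 hp
  by_cases h8 : Fintype.card F % 8 = 3 ∨ Fintype.card F % 8 = 5
  · have hall := (Cfsg.Agent.S0808.result (F := F) rfl hodd).1 h8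
    have h12 := Cfsg.Agent.S0807.result (F := F) rfl hodd
    have hmul := card_normalizer_mul (VV d (sl2w F))
    have hcongr : Nat.card {W : Subgroup (Matrix.ProjectiveSpecialLinearGroup (Fin 2) F) //
        ∃ g, W = (VV d (sl2w F)).map (MulAut.conj g).toMonoidHom} =
        Nat.card {W : Subgroup (Matrix.ProjectiveSpecialLinearGroup (Fin 2) F) //
          IsKleinFour W} := by
      apply Nat.card_congr
      apply Equiv.subtypeEquivRight
      intro W
      constructor
      · rintro ⟨g, rfl⟩; exact isKleinFour_map_conj _ hK g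
      · intro hW; exact hall _ W hK hW
    have hpos : 0 < Nat.card {W : Subgroup (Matrix.ProjectiveSpecialLinearGroup (Fin 2) F) //
          IsKleinFour W} := by
      have : Nonempty {W : Subgroup (Matrix.ProjectiveSpecialLinearGroup (Fin 2) F) //
          IsKleinFour W} := ⟨⟨_, hK⟩⟩
      exact Nat.card_pos
    have hN : Nat.card (Subgroup.normalizer
        ((VV d (sl2w F) : Subgroup (Matrix.ProjectiveSpecialLinearGroup (Fin 2) F)) :
        Set (Matrix.ProjectiveSpecialLinearGroup (Fin 2) F))) = 12 := by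
      rw [hcongr, ← h12] at hmul
      exact Nat.eq_of_mul_eq_mul_right hpos hmul
    refine ⟨_, Cfsg.Agent.S0228.result hN ?_⟩
    intro z hz hzc
    exact no_central_invol hodd hp z hz hzc
  · have hsq2 : IsSquare (2 : F) := by
      rw [FiniteField.isSquare_two_iff]
      omega
    have hS4 : Nonempty (Subgroup.normalizer
        ((VV d (sl2w F) : Subgroup (Matrix.ProjectiveSpecialLinearGroup (Fin 2) F)) :
        Set (Matrix.ProjectiveSpecialLinearGroup (Fin 2) F)) ≃* Equiv.Perm (Fin 4)) := by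
      apply Cfsg.Agent.S1012.result (Cfsg.Agent.S0803.card_normalizer hodd hsq2 hp)
      intro x
      rw [← Subgroup.orderOf_coe]
      exact Cfsg.Agent.S0803.no_order_six _ hK (Cfsg.Agent.S0803.central_mem hodd hp) x.1 x.2
    obtain ⟨e⟩ := hS4
    exact a4_of_s4 _ e

end

section
variable {F : Type*} [Field F]

theorem inv_entries (g : Matrix.SpecialLinearGroup (Fin 2) F) :
    (g⁻¹).1 0 0 = g.1 1 1 ∧ (g⁻¹).1 0 1 = -g.1 0 1 ∧ (g⁻¹).1 1 0 = -g.1 1 0 ∧
      (g⁻¹).1 1 1 = g.1 0 0 := by
  rw [Matrix.SpecialLinearGroup.coe_inv, Matrix.adjugate_fin_two]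
  simp

theorem cube_of_det {a d : F} (hdet : a * d = 1) (ha : a ^ 3 = 1) : d ^ 3 = 1 := by
  have : (a * d) ^ 3 = 1 := by rw [hdet]; simp
  rw [mul_pow, ha, one_mul] at this
  exact this

/-- the subgroup of order 12 of upper triangular matrices in characteristic 2 -/
def Hsub (h2 : (2 : F) = 0) : Subgroup (Matrix.SpecialLinearGroup (Fin 2) F) where
  carrier := {g | g.1 1 0 = 0 ∧ (g.1 0 0) ^ 3 = 1 ∧ (g.1 0 1) ^ 4 = g.1 0 1}
  one_mem' := by simp
  mul_mem' := by
    rintro g h ⟨g1, g2, g3⟩ ⟨k1, k2, k3⟩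
    have hdet := sl2_det h
    rw [k1] at hdet
    have k11 : (h.1 1 1) ^ 3 = 1 := cube_of_det (by linear_combination hdet) k2
    refine ⟨?_, ?_, ?_⟩
    · simp [Matrix.SpecialLinearGroup.coe_mul, mmul10, g1, k1]
    · simp only [Matrix.SpecialLinearGroup.coe_mul, mmul00, k1, mul_zero, add_zero, mul_pow, g2,
        k2, mul_one]
    · simp only [Matrix.SpecialLinearGroup.coe_mul, mmul01]
      have hu : (g.1 0 0 * h.1 0 1) ^ 4 = g.1 0 0 * h.1 0 1 := by
        rw [mul_pow, k3, pow_succ (g.1 0 0) 3, g2, one_mul]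
      have hv : (g.1 0 1 * h.1 1 1) ^ 4 = g.1 0 1 * h.1 1 1 := by
        rw [mul_pow, g3, pow_succ (h.1 1 1) 3, k11, one_mul]
      linear_combination hu + hv + (2 * (g.1 0 0 * h.1 0 1) ^ 3 * (g.1 0 1 * h.1 1 1) +
        3 * (g.1 0 0 * h.1 0 1) ^ 2 * (g.1 0 1 * h.1 1 1) ^ 2 +
        2 * (g.1 0 0 * h.1 0 1) * (g.1 0 1 * h.1 1 1) ^ 3) * h2
  inv_mem' := by
    rintro g ⟨g1, g2, g3⟩
    obtain ⟨i00, i01, i10, i11⟩ := inv_entries g
    have hdet := sl2_det g
    rw [g1] at hdet
    have g11 : (g.1 1 1) ^ 3 = 1 := cube_of_det (by linear_combination hdet) g2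
    refine ⟨?_, ?_, ?_⟩
    · rw [i10, g1, neg_zero]
    · rw [i00]; exact g11
    · rw [i01]
      linear_combination g3 + g.1 0 1 * h2

theorem mem_Hsub (h2 : (2 : F) = 0) (g : Matrix.SpecialLinearGroup (Fin 2) F) :
    g ∈ Hsub h2 ↔ g.1 1 0 = 0 ∧ (g.1 0 0) ^ 3 = 1 ∧ (g.1 0 1) ^ 4 = g.1 0 1 := Iff.rfl

theorem roots3 (ω : F) (hω : ω ^ 2 + ω + 1 = 0) : {l : F | l ^ 3 = 1} = {1, ω, ω ^ 2} := by
  ext l
  simp only [Set.mem_ofPred_eq, Set.mem_insert_iff, Set.mem_singleton_iff]
  constructor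
  · intro h
    have h0 : (l - 1) * ((l - ω) * (l - ω ^ 2)) = 0 := by
      linear_combination h + (-l ^ 2 + ω * l - ω + 1) * hω
    rcases mul_eq_zero.mp h0 with h | h
    · left; linear_combination h
    · rcases mul_eq_zero.mp h with h | h
      · right; left; linear_combination h
      · right; right; linear_combination h
  · rintro (rfl | rfl | rfl)
    · simp
    · linear_combination (l - 1) * hω
    · linear_combination (ω ^ 4 - ω ^ 3 + ω - 1) * hω

theorem ncard_roots3 (h2 : (2 : F) = 0) (ω : F) (hω : ω ^ 2 + ω + 1 = 0) :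
    {l : F | l ^ 3 = 1}.ncard = 3 := by
  rw [roots3 ω hω, Set.ncard_eq_three]
  refine ⟨1, ω, ω ^ 2, ?_, ?_, ?_, rfl⟩
  · intro h
    rw [← h] at hω
    have : (1 : F) = 0 := by linear_combination hω - h2
    exact one_ne_zero this
  · intro h
    rw [← h] at hω
    have h3 : ω = 0 := by linear_combination hω - h2
    rw [h3] at h
    simp at h
  · intro h
    rw [← h] at hω
    have : (1 : F) = 0 := by linear_combination hω - ω * h2
    exact one_ne_zero this

theorem ncard_roots4 [Finite F] (h2 : (2 : F) = 0) (ω : F) (hω : ω ^ 2 + ω + 1 = 0) :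
    {x : F | x ^ 4 = x}.ncard = 4 := by
  have : {x : F | x ^ 4 = x} = insert 0 {l : F | l ^ 3 = 1} := by
    ext x
    simp only [Set.mem_ofPred_eq, Set.mem_insert_iff]
    constructor
    · intro h
      have : x * (x ^ 3 - 1) = 0 := by linear_combination h
      rcases mul_eq_zero.mp this with h | h
      · left; exact h
      · right; linear_combination h
    · rintro (rfl | h)
      · simp
      · rw [pow_succ, h, one_mul]
  rw [this, Set.ncard_insert_of_notMem (by simp) (Set.toFinite _), ncard_roots3 h2 ω hω]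

theorem card_Hsub [Finite F] (h2 : (2 : F) = 0) (ω : F) (hω : ω ^ 2 + ω + 1 = 0) :
    Nat.card (Hsub h2) = 12 := by
  have e : (Hsub h2) ≃ {l : F | l ^ 3 = 1} × {x : F | x ^ 4 = x} :=
    { toFun := fun g => (⟨g.1.1 0 0, g.2.2.1⟩, ⟨g.1.1 0 1, g.2.2.2⟩)
      invFun := fun p => ⟨⟨!![p.1.1, p.2.1; 0, p.1.1 ^ 2], by
          rw [Matrix.det_fin_two]
          simp only [Matrix.of_apply, Matrix.cons_val', Matrix.cons_val_zero, Matrix.cons_val_one,
            Matrix.cons_val_fin_one]
          have := p.1.2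
          simp only [Set.mem_ofPred_eq] at this
          linear_combination this⟩, by
          exact (mem_Hsub h2 _).mpr ⟨rfl, p.1.2, p.2.2⟩⟩
      left_inv := by
        rintro ⟨g, g1, g2, g3⟩
        apply Subtype.ext
        have hdet := sl2_det g
        rw [g1] at hdet
        apply sl_ext
        · rfl
        · rfl
        · exact g1.symm
        · show (g.1 0 0) ^ 2 = g.1 1 1
          linear_combination (-(g.1 1 1)) * g2 + (g.1 0 0) ^ 2 * hdet + ((g.1 0 0) ^ 2 - g.1 1 1) * h2
      right_inv := by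
        rintro ⟨⟨l, hl⟩, ⟨x, hx⟩⟩
        rfl }
  rw [Nat.card_congr e, Nat.card_prod, Nat.card_coe_set_eq, Nat.card_coe_set_eq,
    ncard_roots3 h2 ω hω, ncard_roots4 h2 ω hω]

theorem Hsub_center (h2 : (2 : F) = 0) (ω : F) (hω : ω ^ 2 + ω + 1 = 0)
    (z : Hsub h2) (hz : z ∈ Subgroup.center (Hsub h2)) : z = 1 := by
  rw [Subgroup.mem_center_iff] at hz
  have hω3 : ω ^ 3 = 1 := by linear_combination (ω - 1) * hω
  let D : Hsub h2 := ⟨⟨!![ω, 0; 0, ω ^ 2], by
      rw [Matrix.det_fin_two]
      simp only [Matrix.of_apply, Matrix.cons_val', Matrix.cons_val_zero, Matrix.cons_val_one,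
        Matrix.cons_val_fin_one]
      linear_combination hω3⟩, by
      exact (mem_Hsub h2 _).mpr ⟨rfl, hω3, by simp⟩⟩
  let U : Hsub h2 := ⟨umat 1, by
      exact (mem_Hsub h2 _).mpr ⟨rfl, by simp, by simp⟩⟩
  have hD := congrArg (fun g : Hsub h2 => g.1.1 0 1) (hz D)
  have hU := congrArg (fun g : Hsub h2 => g.1.1 0 1) (hz U)
  have D00 : D.1.1 0 0 = ω := rfl
  have D01 : D.1.1 0 1 = 0 := rfl
  have D11 : D.1.1 1 1 = ω ^ 2 := rfl
  simp only [Subgroup.coe_mul, Matrix.SpecialLinearGroup.coe_mul, mmul01, D00, D01, D11] at hD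
  have U00 : U.1.1 0 0 = 1 := rfl
  have U01 : U.1.1 0 1 = 1 := rfl
  have U11 : U.1.1 1 1 = 1 := rfl
  simp only [Subgroup.coe_mul, Matrix.SpecialLinearGroup.coe_mul, mmul01, U00, U01, U11] at hU
  obtain ⟨z1, z2, z3⟩ := z.2
  have hdet := sl2_det z.1
  rw [z1] at hdet
  have hz01 : z.1.1 0 1 = 0 := by
    have h0 : z.1.1 0 1 * (ω * (ω - 1)) = 0 := by linear_combination -hD
    rcases mul_eq_zero.mp h0 with h | h
    · exact h
    · exfalso
      rcases mul_eq_zero.mp h with h | h
      · rw [h] at hω3; simp at hω3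
      · have h1 : ω = 1 := by linear_combination h
        rw [h1] at hω
        have : (1 : F) = 0 := by linear_combination hω - h2
        exact one_ne_zero this
  have hz00 : z.1.1 0 0 = 1 := by
    apply sq_eq_one_char_two h2
    have : z.1.1 0 0 = z.1.1 1 1 := by linear_combination -hU
    linear_combination hdet + (-(z.1.1 0 0)) * this + (-(z.1.1 0 0 * z.1.1 1 1) + (z.1.1 0 0) ^ 2) * h2
  have hz11 : z.1.1 1 1 = 1 := by
    rw [hz00] at hdet
    linear_combination hdet
  apply Subtype.ext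
  apply sl_ext
  · rw [hz00]; rfl
  · rw [hz01]; rfl
  · rw [z1]; rfl
  · rw [hz11]; rfl

theorem exists_omega [Fintype F] (n : ℕ) (hn : Even n) (hF : Fintype.card F = 2 ^ n) :
    ∃ ω : F, ω ^ 2 + ω + 1 = 0 := by
  classical
  obtain ⟨k, rfl⟩ := hn
  have h3 : 3 ∣ Fintype.card Fˣ := by
    rw [Fintype.card_units, hF, ← two_mul, pow_mul]
    have := Nat.sub_one_dvd_pow_sub_one 4 k
    simpa using this
  have : Fact (Nat.Prime 3) := ⟨Nat.prime_three⟩
  obtain ⟨u, hu⟩ := exists_prime_orderOf_dvd_card 3 h3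
  have hu3 : (u : F) ^ 3 = 1 := by
    have : u ^ 3 = 1 := by rw [← hu]; exact pow_orderOf_eq_one u
    have := congrArg Units.val this
    simpa using this
  have hu1 : (u : F) ≠ 1 := by
    intro h
    have : u = 1 := Units.ext h
    rw [this, orderOf_one] at hu
    omega
  refine ⟨u, ?_⟩
  have h0 : ((u : F) - 1) * ((u : F) ^ 2 + u + 1) = 0 := by linear_combination hu3
  rcases mul_eq_zero.mp h0 with h | h
  · exact absurd (by linear_combination h) hu1
  · exact h

theorem a4_char_two_even [Fintype F] (n : ℕ) (hn : Even n) (hF : Fintype.card F = 2 ^ n) :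
    ∃ H : Subgroup (Matrix.ProjectiveSpecialLinearGroup (Fin 2) F),
      Nonempty (H ≃* alternatingGroup (Fin 4)) := by
  have hn0 : n ≠ 0 := by
    rintro rfl
    have := Fintype.one_lt_card (α := F)
    rw [hF] at this
    simp at this
  have h2 : (2 : F) = 0 := by
    apply two_eq_zero_of_even_card
    rw [hF]
    obtain ⟨m, rfl⟩ := Nat.exists_eq_succ_of_ne_zero hn0
    rw [pow_succ]; omega
  obtain ⟨ω, hω⟩ := exists_omega n hn hF
  have h12 := card_Hsub h2 ω hω
  have hA : Nonempty (Hsub h2 ≃* alternatingGroup (Fin 4)) := by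
    apply Cfsg.Agent.S0228.result h12
    intro z hz hzc
    have := Hsub_center h2 ω hω z hzc
    rw [this, orderOf_one] at hz
    omega
  obtain ⟨e⟩ := hA
  let φ : Matrix.SpecialLinearGroup (Fin 2) F →* Matrix.ProjectiveSpecialLinearGroup (Fin 2) F :=
    QuotientGroup.mk' _
  have hinj : Function.Injective φ := mk_inj_char_two h2
  exact ⟨(Hsub h2).map φ, ⟨((Hsub h2).equivMapOfInjective φ hinj).symm.trans e⟩⟩

end

/-- PSL_2(p^n) has a subgroup isomorphic to A_4 if and only if it is not the case that p = 2 and n is odd. -/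
theorem result {F : Type*} [Field F] [Fintype F] (p n : ℕ) [Fact p.Prime] [CharP F p] (hF : Fintype.card F = p ^ n) : (∃ H : Subgroup (Matrix.ProjectiveSpecialLinearGroup (Fin 2) F), Nonempty (H ≃* alternatingGroup (Fin 4))) ↔ ¬ (p = 2 ∧ Odd n) := by
  constructor
  · rintro ⟨H, ⟨e⟩⟩ ⟨rfl, hn⟩
    exact no_a4_char_two n hn hF H e
  · intro h
    by_cases hp2 : p = 2
    · subst hp2
      have hn : Even n := by
        rw [← Nat.not_odd_iff_even]
        exact fun ho => h ⟨rfl, ho⟩
      exact a4_char_two_even n hn hF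
    · have hodd : Odd (Fintype.card F) := by
        rw [hF]
        exact ((Fact.out : p.Prime).odd_of_ne_two hp2).pow
      exact a4_odd hodd

end Cfsg.Agent.S0802
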