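import Cfsg.Statements.S0805
import Cfsg.Agent.Lib.Helper60.SL2b
import Cfsg.Agent.Lib.Helper07.PGLCard

set_option autoImplicit false
open Cfsg

namespace Cfsg.Agent.S0805

open Matrix Cfsg.Agent.Lib.Helper60 Cfsg.Agent.Lib.Helper07

section
variable {F K : Type*} [Field F] [Fintype F] [Field K] [Fintype K]

theorem exists_ringHom (m : ℕ) (hm : 1 ≤ m) (hK : Fintype.card K ^ m = Fintype.card F) :
    Nonempty (K →+* F) := by
  obtain ⟨p, hp⟩ := CharP.exists K
  have := hp
  have hpp : p.Prime := CharP.char_is_prime K p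
  have : Fact p.Prime := ⟨hpp⟩
  obtain ⟨p', hp'⟩ := CharP.exists F
  have := hp'
  have hpp' : p'.Prime := CharP.char_is_prime F p'
  obtain ⟨a, -, ha⟩ := FiniteField.card K p
  obtain ⟨b, -, hb⟩ := FiniteField.card F p'
  have hpeq : p = p' := by
    have h1 : p ∣ p' ^ (b : ℕ) := by
      rw [← hb, ← hK, ha]
      exact dvd_pow (dvd_pow_self p a.ne_zero) (by omega)
    exact (Nat.prime_dvd_prime_iff_eq hpp hpp').mp (hpp.dvd_of_dvd_pow h1)
  subst hpeq
  let _ : Algebra (ZMod p) K := ZMod.algebra K p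
  let _ : Algebra (ZMod p) F := ZMod.algebra F p
  have h1 := FiniteField.pow_finrank_eq_card p K
  have h2 := FiniteField.pow_finrank_eq_card p F
  have hdvd : Module.finrank (ZMod p) K ∣ Module.finrank (ZMod p) F := by
    refine ⟨m, ?_⟩
    apply Nat.pow_right_injective hpp.two_le
    show p ^ _ = p ^ _
    rw [h2, pow_mul, h1, hK]
  obtain ⟨f⟩ := FiniteField.nonempty_algHom_of_finrank_dvd hdvd
  exact ⟨f.toRingHom⟩

omit [Fintype F] [Fintype K] in
theorem mk_neg (X : Matrix.SpecialLinearGroup (Fin 2) F) :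
    (QuotientGroup.mk (-X) : Matrix.ProjectiveSpecialLinearGroup (Fin 2) F) = QuotientGroup.mk X := by
  have h1 : -X = (-1) * X := by simp
  rw [h1, QuotientGroup.mk_mul]
  have h2 : (QuotientGroup.mk (-1 : Matrix.SpecialLinearGroup (Fin 2) F) :
      Matrix.ProjectiveSpecialLinearGroup (Fin 2) F) = 1 := by
    rw [QuotientGroup.eq_one_iff, Subgroup.mem_center_iff]
    intro g
    simp
  rw [h2, one_mul]

omit [Fintype F] [Fintype K] in
theorem mapMatrix_injective (f : K →+* F) :
    Function.Injective (f.mapMatrix : Matrix (Fin 2) (Fin 2) K → Matrix (Fin 2) (Fin 2) F) := by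
  intro A B h
  ext i j
  apply f.injective
  have := congrFun (congrFun h i) j
  simpa using this

omit [Fintype F] [Fintype K] in
theorem exists_psl (f : K →+* F) :
    ∃ H : Subgroup (Matrix.ProjectiveSpecialLinearGroup (Fin 2) F),
      Nonempty (H ≃* Matrix.ProjectiveSpecialLinearGroup (Fin 2) K) := by
  let φ : Matrix.SpecialLinearGroup (Fin 2) K →* Matrix.ProjectiveSpecialLinearGroup (Fin 2) F :=
    (QuotientGroup.mk' (Subgroup.center _)).comp (Matrix.SpecialLinearGroup.map f)
  have hker : φ.ker = Subgroup.center (Matrix.SpecialLinearGroup (Fin 2) K) := by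
    ext A
    rw [MonoidHom.mem_ker]
    show (QuotientGroup.mk (Matrix.SpecialLinearGroup.map f A) :
      Matrix.ProjectiveSpecialLinearGroup (Fin 2) F) = 1 ↔ _
    rw [QuotientGroup.eq_one_iff, Matrix.SpecialLinearGroup.mem_center_iff,
      Matrix.SpecialLinearGroup.mem_center_iff]
    simp only [Fintype.card_fin, Matrix.SpecialLinearGroup.map_apply_coe]
    constructor
    · rintro ⟨r, hr, hrA⟩
      have hr' : r = 1 ∨ r = -1 := by
        have : (r - 1) * (r + 1) = 0 := by linear_combination hr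
        rcases mul_eq_zero.mp this with h | h
        · left; linear_combination h
        · right; linear_combination h
      rcases hr' with rfl | rfl
      · refine ⟨1, by simp, ?_⟩
        apply mapMatrix_injective f
        rw [← hrA]
        simp
      · refine ⟨-1, by simp, ?_⟩
        apply mapMatrix_injective f
        rw [← hrA]
        ext i j
        fin_cases i <;> fin_cases j <;> simp
    · rintro ⟨s, hs, hsA⟩
      refine ⟨f s, by rw [← map_pow, hs, map_one], ?_⟩
      rw [← hsA]
      ext i j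
      fin_cases i <;> fin_cases j <;> simp
  refine ⟨φ.range, ⟨?_⟩⟩
  exact ((QuotientGroup.quotientKerEquivRange φ).symm).trans
    (QuotientGroup.quotientMulEquivOfEq hker)

/-- the normalised matrix -/
noncomputable def normMat (f : K →+* F) (s : F) (A : Matrix (Fin 2) (Fin 2) K)
    (hs : s * s = f A.det) (hs0 : s ≠ 0) : Matrix.SpecialLinearGroup (Fin 2) F :=
  ⟨s⁻¹ • f.mapMatrix A, by
    rw [Matrix.det_smul, ← RingHom.map_det, Fintype.card_fin, ← hs]
    field_simp⟩

omit [Fintype F] [Fintype K] in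
theorem normMat_mul (f : K →+* F) (s t u : F) (A B : Matrix (Fin 2) (Fin 2) K)
    (hs : s * s = f A.det) (hs0 : s ≠ 0) (ht : t * t = f B.det) (ht0 : t ≠ 0)
    (hu : u * u = f (A * B).det) (hu0 : u ≠ 0) :
    (QuotientGroup.mk (normMat f u (A * B) hu hu0) : Matrix.ProjectiveSpecialLinearGroup (Fin 2) F) =
      QuotientGroup.mk (normMat f s A hs hs0) * QuotientGroup.mk (normMat f t B ht ht0) := by
  have h1 : u * u = (s * t) * (s * t) := by
    rw [hu, Matrix.det_mul, map_mul, ← hs, ← ht]; ring
  rw [← QuotientGroup.mk_mul]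
  rcases mul_self_eq_mul_self_iff.mp h1 with h | h
  · congr 1
    apply Subtype.ext
    rw [Matrix.SpecialLinearGroup.coe_mul]
    simp only [normMat]
    rw [h, map_mul, Matrix.smul_mul, Matrix.mul_smul, smul_smul, mul_inv]
  · rw [← mk_neg]
    congr 1
    apply Subtype.ext
    rw [Matrix.SpecialLinearGroup.coe_neg, Matrix.SpecialLinearGroup.coe_mul]
    simp only [normMat]
    rw [h, map_mul, Matrix.smul_mul, Matrix.mul_smul, smul_smul, inv_neg, mul_inv, neg_smul, neg_neg]

omit [Fintype F] [Fintype K] in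
theorem exists_pgl (f : K →+* F) (hsq : ∀ c : K, c ≠ 0 → IsSquare (f c)) :
    ∃ H : Subgroup (Matrix.ProjectiveSpecialLinearGroup (Fin 2) F),
      Nonempty (H ≃* Matrix.ProjGenLinGroup (Fin 2) K) := by
  classical
  have hdet0 : ∀ A : GL (Fin 2) K, (A : Matrix (Fin 2) (Fin 2) K).det ≠ 0 := by
    intro A
    rw [← Matrix.GeneralLinearGroup.val_det_apply]; exact Units.ne_zero _
  have hex : ∀ A : GL (Fin 2) K, ∃ s : F, s * s = f (A : Matrix (Fin 2) (Fin 2) K).det := by
    intro A; obtain ⟨s, hs⟩ := hsq _ (hdet0 A); exact ⟨s, hs.symm⟩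
  choose sq hsq' using hex
  have hsq0 : ∀ A, sq A ≠ 0 := by
    intro A h
    have := hsq' A
    rw [h, mul_zero] at this
    exact (hdet0 A) (f.injective (by rw [← this, map_zero]))
  let ψ₀ : GL (Fin 2) K → Matrix.ProjectiveSpecialLinearGroup (Fin 2) F := fun A =>
    QuotientGroup.mk (normMat f (sq A) A (hsq' A) (hsq0 A))
  have hmul : ∀ A B, ψ₀ (A * B) = ψ₀ A * ψ₀ B := by
    intro A B
    exact normMat_mul f (sq A) (sq B) (sq (A * B)) A B (hsq' A) (hsq0 A) (hsq' B) (hsq0 B)
      (hsq' (A * B)) (hsq0 (A * B))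
  let ψ : GL (Fin 2) K →* Matrix.ProjectiveSpecialLinearGroup (Fin 2) F := MonoidHom.mk' ψ₀ hmul
  have hker : ψ.ker = Subgroup.center (GL (Fin 2) K) := by
    ext A
    rw [MonoidHom.mem_ker, Matrix.GeneralLinearGroup.center_eq_range_scalar, MonoidHom.mem_range]
    show (QuotientGroup.mk (normMat f (sq A) A (hsq' A) (hsq0 A)) :
      Matrix.ProjectiveSpecialLinearGroup (Fin 2) F) = 1 ↔ _
    rw [QuotientGroup.eq_one_iff, Matrix.SpecialLinearGroup.mem_center_iff]
    constructor
    · rintro ⟨r, hr, hrA⟩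
      have hM : ∀ i j, f ((A : Matrix (Fin 2) (Fin 2) K) i j) =
          sq A * (Matrix.scalar (Fin 2) r) i j := by
        intro i j
        rw [hrA]
        simp only [normMat, Matrix.smul_apply, RingHom.mapMatrix_apply, Matrix.map_apply,
          smul_eq_mul]
        rw [← mul_assoc, mul_inv_cancel₀ (hsq0 A), one_mul]
      have h01 : (A : Matrix (Fin 2) (Fin 2) K) 0 1 = 0 := by
        apply f.injective; rw [map_zero, hM]; simp
      have h10 : (A : Matrix (Fin 2) (Fin 2) K) 1 0 = 0 := by
        apply f.injective; rw [map_zero, hM]; simp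
      have h11 : (A : Matrix (Fin 2) (Fin 2) K) 1 1 = (A : Matrix (Fin 2) (Fin 2) K) 0 0 := by
        apply f.injective; rw [hM, hM]; simp
      have h00 : (A : Matrix (Fin 2) (Fin 2) K) 0 0 ≠ 0 := by
        intro h
        apply hdet0 A
        rw [Matrix.det_fin_two, h01, h10, h11, h]
        ring
      refine ⟨Units.mk0 _ h00, ?_⟩
      apply Units.ext
      rw [Matrix.GeneralLinearGroup.coe_scalar]
      ext i j
      fin_cases i <;> fin_cases j <;> simp [h01, h10, h11]
    · rintro ⟨u, rfl⟩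
      have hs := hsq' (Matrix.GeneralLinearGroup.scalar (Fin 2) u)
      have hdet : ((Matrix.GeneralLinearGroup.scalar (Fin 2) u : GL (Fin 2) K) :
          Matrix (Fin 2) (Fin 2) K).det = (u : K) * u := by
        rw [Matrix.GeneralLinearGroup.coe_scalar]
        simp [pow_two]
      have hu0 : f (u : K) ≠ 0 := by
        intro h
        exact u.ne_zero (f.injective (by rw [h, map_zero]))
      rw [hdet, map_mul] at hs
      rcases mul_self_eq_mul_self_iff.mp hs with h | h
      · refine ⟨1, by simp, ?_⟩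
        ext i j
        fin_cases i <;> fin_cases j <;>
          simp [normMat, h, hu0, Matrix.GeneralLinearGroup.coe_scalar]
      · refine ⟨-1, by simp, ?_⟩
        ext i j
        fin_cases i <;> fin_cases j <;>
          simp [normMat, h, hu0, Matrix.GeneralLinearGroup.coe_scalar]
  refine ⟨ψ.range, ⟨?_⟩⟩
  exact ((QuotientGroup.quotientKerEquivRange ψ).symm).trans
    (QuotientGroup.quotientMulEquivOfEq hker)

theorem isSquare_map (f : K →+* F) (m : ℕ) (hm : Even m) (hm1 : 1 ≤ m)
    (hodd : Odd (Fintype.card F))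
    (hK : Fintype.card K ^ m = Fintype.card F) (c : K) (hc : c ≠ 0) : IsSquare (f c) := by
  have hch : ringChar F ≠ 2 := by
    intro h
    rw [FiniteField.even_card_iff_char_two] at h
    rw [Nat.odd_iff] at hodd; omega
  have hfc : f c ≠ 0 := by intro h; exact hc (f.injective (by rw [h, map_zero]))
  rw [FiniteField.isSquare_iff hch hfc, ← map_pow]
  obtain ⟨j, hj⟩ := hm
  set r := Fintype.card K with hr
  have hrodd : Odd r := by
    by_contra hne
    rw [Nat.not_odd_iff_even] at hne
    have : Even (r ^ m) := hne.pow_of_ne_zero (by omega)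
    rw [hK] at this
    exact (Nat.not_even_iff_odd.mpr hodd) this
  obtain ⟨t, ht⟩ := hrodd
  have hdiv : (r * r - 1) ∣ (r * r) ^ j - 1 := by
    simpa using Nat.sub_dvd_pow_sub_pow (r * r) 1 j
  obtain ⟨u, hu⟩ := hdiv
  have hq : Fintype.card F = (r * r) ^ j := by
    rw [← hK, hj, ← two_mul, pow_mul, pow_two]
  have h1 : r - 1 = 2 * t := by omega
  have h2 : r * r - 1 = 2 * t * (2 * t + 2) := by
    rw [ht]
    have : (2 * t + 1) * (2 * t + 1) = 2 * t * (2 * t + 2) + 1 := by ring
    omega
  have hpos : 1 ≤ (r * r) ^ j := Nat.one_le_pow _ _ (by rw [ht]; nlinarith)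
  have hhalf : Fintype.card F / 2 = (r - 1) * ((t + 1) * u) := by
    have h3 : Fintype.card F = 2 * ((r - 1) * ((t + 1) * u)) + 1 := by
      rw [hq, h1]
      rw [h2] at hu
      have : 2 * (2 * t * ((t + 1) * u)) = 2 * t * (2 * t + 2) * u := by ring
      omega
    omega
  rw [hhalf, pow_mul, FiniteField.pow_card_sub_one_eq_one c hc, one_pow, map_one]

theorem geom_aux (x : ℕ) (hx : 1 ≤ x) (n : ℕ) :
    x ^ n = (x - 1) * (∑ i ∈ Finset.range n, x ^ i) + 1 := by
  induction n with
  | zero => simp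
  | succ n ih =>
    rw [Finset.sum_range_succ, mul_add, pow_succ]
    obtain ⟨y, rfl⟩ : ∃ y, x = y + 1 := ⟨x - 1, by omega⟩
    simp only [Nat.add_sub_cancel] at ih ⊢
    generalize (y + 1) ^ n = P at *
    generalize (∑ i ∈ Finset.range n, (y + 1) ^ i) = S at *
    subst ih
    ring

theorem even_of_pgl (hodd : Odd (Fintype.card F)) (m : ℕ) (hm : 1 ≤ m)
    (hK : Fintype.card K ^ m = Fintype.card F)
    (H : Subgroup (Matrix.ProjectiveSpecialLinearGroup (Fin 2) F))
    (e : H ≃* Matrix.ProjGenLinGroup (Fin 2) K) : Even m := by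
  by_contra hne
  rw [Nat.not_even_iff_odd] at hne
  set r := Fintype.card K with hr
  have hH : Nat.card H = r * (r * r - 1) := by
    rw [Nat.card_congr e.toEquiv, card_pgl_eq_card_sl, card_sl2]
  have hdvd : Nat.card H ∣ Nat.card (Matrix.ProjectiveSpecialLinearGroup (Fin 2) F) :=
    Subgroup.card_subgroup_dvd_card H
  have hsl : Fintype.card F * (Fintype.card F * Fintype.card F - 1) =
      Nat.card (Matrix.ProjectiveSpecialLinearGroup (Fin 2) F) * 2 := by
    rw [← card_sl2, card_sl_eq_card_psl_mul 2 (by norm_num)]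
    congr 1
    obtain ⟨t, ht⟩ := hodd
    rw [ht]
    simp
  have hrodd : Odd r := by
    by_contra hne'
    rw [Nat.not_odd_iff_even] at hne'
    have : Even (r ^ m) := hne'.pow_of_ne_zero (by omega)
    rw [hK] at this
    exact (Nat.not_even_iff_odd.mpr hodd) this
  have hr1 : 1 ≤ r * r := by
    obtain ⟨t, ht⟩ := hrodd
    rw [ht]; nlinarith
  have hgeo := geom_aux (r * r) hr1 m
  set S := ∑ i ∈ Finset.range m, (r * r) ^ i with hS
  have hSodd : Odd S := by
    rw [hS, Finset.odd_sum_iff_odd_card_odd]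
    have : (Finset.range m).filter (fun i => Odd ((r * r) ^ i)) = Finset.range m := by
      apply Finset.filter_true_of_mem
      intro i _
      exact (hrodd.mul hrodd).pow
    rw [this, Finset.card_range]
    exact hne
  have hqq : Fintype.card F * Fintype.card F - 1 = (r * r - 1) * S := by
    have : Fintype.card F * Fintype.card F = (r * r) ^ m := by
      rw [← hK, mul_pow]
    rw [this, hgeo]
    omega
  have hrr : 0 < r * r - 1 := by
    obtain ⟨t, ht⟩ := hrodd
    have : 2 ≤ r := by
      rw [hr]; exact Fintype.one_lt_card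
    have : 4 ≤ r * r := by nlinarith
    omega
  have hbig : (r * r - 1) * (r * 2) ∣ (r * r - 1) * (r ^ m * S) := by
    have h1 : Nat.card H * 2 ∣ Nat.card (Matrix.ProjectiveSpecialLinearGroup (Fin 2) F) * 2 :=
      Nat.mul_dvd_mul_right hdvd 2
    rw [← hsl, hH, hqq, ← hK] at h1
    convert h1 using 1 <;> ring
  have h2 : r * 2 ∣ r ^ m * S := (Nat.mul_dvd_mul_iff_left hrr).mp hbig
  have h3 : 2 ∣ r ^ m * S := Dvd.dvd.trans (Dvd.intro_left r rfl) h2
  have h4 : Odd (r ^ m * S) := (hrodd.pow).mul hSodd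
  rw [Nat.odd_iff] at h4
  omega

end

/-- Subfield subgroups: let F be a finite field of odd order q and K a finite field with |K|^m = q, m ≥ 1. Then PSL_2(F) has a subgroup isomorphic to PSL_2(K), and has a subgroup isomorphic to PGL_2(K) if and only if m is even. -/
theorem result {F K : Type*} [Field F] [Fintype F] [Field K] [Fintype K] {q : ℕ} (hF : Fintype.card F = q) (hodd : Odd q) (m : ℕ) (hm : 1 ≤ m) (hK : Fintype.card K ^ m = q) : (∃ H : Subgroup (Matrix.ProjectiveSpecialLinearGroup (Fin 2) F), Nonempty (H ≃* Matrix.ProjectiveSpecialLinearGroup (Fin 2) K)) ∧ ((∃ H : Subgroup (Matrix.ProjectiveSpecialLinearGroup (Fin 2) F), Nonempty (H ≃* Matrix.ProjGenLinGroup (Fin 2) K)) ↔ Even m) := by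
  classical
  subst hF
  obtain ⟨f⟩ := exists_ringHom m hm hK
  refine ⟨exists_psl f, ?_⟩
  constructor
  · rintro ⟨H, ⟨e⟩⟩
    exact even_of_pgl hodd m hm hK H e
  · intro hev
    exact exists_pgl f (isSquare_map f m hev hm hodd hK)

end Cfsg.Agent.S0805
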