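import Cfsg.Statements.S2231
-- import your own Cfsg.Agent.* helpers here

set_option autoImplicit false
open Cfsg

namespace Cfsg.Agent.S2231

open Matrix

/-- lifting a `p`-subgroup along a surjective homomorphism from a finite group -/
lemma exists_pGroup_lift {p : ℕ} [Fact p.Prime] {A Q : Type*} [Group A] [Finite A] [Group Q]
    (f : A →* Q) (hf : Function.Surjective f) (U : Subgroup Q) (hU : IsPGroup p U) :
    ∃ S : Subgroup A, IsPGroup p S ∧ S.map f = U := by
  classical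
  have hf' : Function.Surjective (f.subgroupComap U) :=
    f.subgroupComap_surjective_of_surjective U hf
  have : Finite ↥U := Finite.of_surjective _ hf'
  obtain ⟨P⟩ : Nonempty (Sylow p ↥(U.comap f)) := inferInstance
  have h1 : ((P : Subgroup ↥(U.comap f)).map (f.subgroupComap U)).index ∣
      (P : Subgroup ↥(U.comap f)).index := Subgroup.index_map_dvd _ hf'
  have h2 : ¬ p ∣ (P : Subgroup ↥(U.comap f)).index := P.not_dvd_index
  have h3 : ((P : Subgroup ↥(U.comap f)).map (f.subgroupComap U)).index ∣ Nat.card ↥U :=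
    Subgroup.index_dvd_card _
  obtain ⟨n, hn⟩ := IsPGroup.iff_card.1 hU
  rw [hn] at h3
  obtain ⟨j, _, hj⟩ := (Nat.dvd_prime_pow Fact.out).1 h3
  have hj0 : j = 0 := by
    by_contra hne
    apply h2
    refine dvd_trans ?_ h1
    rw [hj]
    exact dvd_pow_self p hne
  rw [hj0, pow_zero, Subgroup.index_eq_one] at hj
  refine ⟨(P : Subgroup ↥(U.comap f)).map (U.comap f).subtype, P.isPGroup'.map _, ?_⟩
  ext q
  constructor
  · rintro ⟨a, ⟨x, hx, rfl⟩, rfl⟩
    exact x.2
  · intro hq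
    have : (⟨q, hq⟩ : ↥U) ∈ (P : Subgroup ↥(U.comap f)).map (f.subgroupComap U) := by
      rw [hj]; trivial
    obtain ⟨x, hx, hxq⟩ := this
    refine ⟨x.1, ⟨x, hx, rfl⟩, ?_⟩
    exact congrArg Subtype.val hxq


/-- an element of `SL₂` fixing a nonzero vector is `1 + b • M₀` for a matrix `M₀` depending only on the vector -/
lemma sl2_fix_form {K : Type*} [Field K] (v : Fin 2 → K) (hv : v ≠ 0) :
    ∃ M₀ : Matrix (Fin 2) (Fin 2) K, ∀ t : Matrix.SpecialLinearGroup (Fin 2) K,
      t.1.mulVec v = v → ∃ b : K, t.1 = 1 + b • M₀ := by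
  by_cases hx : v 0 = 0
  · have hy : v 1 ≠ 0 := by
      intro hy
      apply hv
      ext i; fin_cases i <;> simp [hx, hy]
    refine ⟨!![0, 0; 1, 0], fun t ht => ⟨t.1 1 0, ?_⟩⟩
    have h1 := congrFun ht 0
    have h2 := congrFun ht 1
    have h3 := t.2
    simp only [Matrix.mulVec, dotProduct, Fin.sum_univ_two, hx, mul_zero, zero_add] at h1 h2
    rw [Matrix.det_fin_two] at h3
    have h01 : t.1 0 1 = 0 := by
      rcases mul_eq_zero.1 h1 with h | h
      · exact h
      · exact absurd h hy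
    have h11 : t.1 1 1 = 1 := by
      have : (t.1 1 1 - 1) * v 1 = 0 := by linear_combination h2
      rcases mul_eq_zero.1 this with h | h
      · linear_combination h
      · exact absurd h hy
    have h00 : t.1 0 0 = 1 := by
      rw [h01, h11] at h3
      linear_combination h3
    ext i j
    fin_cases i <;> fin_cases j <;> simp [h01, h11, h00]
  · refine ⟨!![-(v 1 / v 0), 1; -(v 1 / v 0) ^ 2, v 1 / v 0], fun t ht => ⟨t.1 0 1, ?_⟩⟩
    have h1 := congrFun ht 0
    have h2 := congrFun ht 1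
    have h3 := t.2
    simp only [Matrix.mulVec, dotProduct, Fin.sum_univ_two] at h1 h2
    rw [Matrix.det_fin_two] at h3
    have h00 : t.1 0 0 = 1 - t.1 0 1 * (v 1 / v 0) := by
      field_simp
      linear_combination h1
    have h11 : t.1 1 1 = 1 + t.1 0 1 * (v 1 / v 0) := by
      have : v 0 * (t.1 1 1 * v 0 - v 0 - t.1 0 1 * v 1) = 0 := by
        linear_combination (v 0) ^ 2 * h3 - t.1 1 1 * v 0 * h1 + t.1 0 1 * v 0 * h2
      have h := (mul_eq_zero.1 this).resolve_left hx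
      field_simp
      linear_combination h
    have h10 : t.1 1 0 = - (t.1 0 1 * (v 1 / v 0) ^ 2) := by
      have : t.1 1 0 * v 0 = (1 - t.1 1 1) * v 1 := by linear_combination h2
      rw [h11] at this
      field_simp
      field_simp at this
      linear_combination this
    ext i j
    fin_cases i <;> fin_cases j
    · simp [h00, sub_eq_add_neg]
    · simp
    · simp [h10]
    · simp [h11]

lemma sl2_pGroup_comm {p : ℕ} [Fact p.Prime] {K : Type*} [Field K] [Fintype K] [CharP K p]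
    (T : Subgroup (Matrix.SpecialLinearGroup (Fin 2) K)) (hT : IsPGroup p T) :
    ∀ s ∈ T, ∀ t ∈ T, s * t = t * s := by
  classical
  have hpK : p ∣ Fintype.card K := by
    have := (CharP.cast_eq_zero_iff K p (Fintype.card K)).1 (by simp)
    exact this
  have hcard : p ∣ Nat.card (Fin 2 → K) := by
    rw [Nat.card_eq_fintype_card, Fintype.card_fun, Fintype.card_fin]
    exact dvd_pow hpK two_ne_zero
  have h0 : (0 : Fin 2 → K) ∈ MulAction.fixedPoints T (Fin 2 → K) := by
    intro g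
    exact smul_zero g
  obtain ⟨v, hvfix, hv0⟩ := hT.exists_fixed_point_of_prime_dvd_card_of_fixed_point (Fin 2 → K) hcard h0
  obtain ⟨M₀, hM₀⟩ := sl2_fix_form v (Ne.symm hv0)
  have hfix : ∀ t ∈ T, t.1.mulVec v = v := by
    intro t ht
    exact hvfix ⟨t, ht⟩
  intro s hs t ht
  obtain ⟨a, ha⟩ := hM₀ s (hfix s hs)
  obtain ⟨b, hb⟩ := hM₀ t (hfix t ht)
  apply Subtype.ext
  rw [Matrix.SpecialLinearGroup.coe_mul, Matrix.SpecialLinearGroup.coe_mul, ha, hb]
  simp only [add_mul, mul_add, one_mul, mul_one, smul_mul_assoc, mul_smul_comm, smul_add]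
  rw [smul_comm a b]
  abel


/-- upper unitriangular matrices in `SL₃(ZMod p)` -/
def uni (p : ℕ) : Subgroup (Matrix.SpecialLinearGroup (Fin 3) (ZMod p)) where
  carrier := {M | M.1 1 0 = 0 ∧ M.1 2 0 = 0 ∧ M.1 2 1 = 0 ∧ M.1 0 0 = 1 ∧ M.1 1 1 = 1 ∧ M.1 2 2 = 1}
  mul_mem' := by
    rintro a b ⟨a1, a2, a3, a4, a5, a6⟩ ⟨b1, b2, b3, b4, b5, b6⟩
    simp only [Set.mem_ofPred_eq, Matrix.SpecialLinearGroup.coe_mul, Matrix.mul_apply,
      Fin.sum_univ_three, a1, a2, a3, a4, a5, a6, b1, b2, b3, b4, b5, b6]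
    simp
  one_mem' := by simp
  inv_mem' := by
    rintro a ⟨a1, a2, a3, a4, a5, a6⟩
    simp only [Set.mem_ofPred_eq, Matrix.SpecialLinearGroup.coe_inv, Matrix.adjugate_fin_three,
      a1, a2, a3, a4, a5, a6]
    simp

lemma uni_le_qd (p : ℕ) : uni p ≤ Cfsg.qd p := by
  rintro M ⟨_, h2, h3, _, _, h6⟩
  exact Subgroup.subset_closure ⟨h2, h3, h6⟩

lemma uni_pow {p : ℕ} [Fact p.Prime] (hp : p ≠ 2) (M : Matrix.SpecialLinearGroup (Fin 3) (ZMod p))
    (hM : M ∈ uni p) : M ^ p = 1 := by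
  obtain ⟨a1, a2, a3, a4, a5, a6⟩ := hM
  have hp3 : 3 ≤ p := by
    have := (Fact.out : p.Prime).two_le
    omega
  apply Subtype.ext
  rw [Matrix.SpecialLinearGroup.coe_pow, Matrix.SpecialLinearGroup.coe_one]
  have hN : (M.1 - 1) ^ 3 = 0 := by
    ext i j
    fin_cases i <;> fin_cases j <;>
      simp [pow_succ, Matrix.mul_apply, Fin.sum_univ_three, a1, a2, a3, a4, a5, a6]
  have hNp : (M.1 - 1) ^ p = 0 := pow_eq_zero_of_le hp3 hN
  have hc : Commute M.1 1 := Commute.one_right _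
  have := sub_pow_char_of_commute (p := p) hc
  rw [hNp, one_pow] at this
  exact (sub_eq_zero.1 this.symm)


lemma psl2_pGroup_comm {p : ℕ} [Fact p.Prime] {K : Type*} [Field K] [Fintype K] [CharP K p]
    (S : Subgroup (Matrix.ProjectiveSpecialLinearGroup (Fin 2) K)) (hS : IsPGroup p S) :
    ∀ s ∈ S, ∀ t ∈ S, s * t = t * s := by
  classical
  obtain ⟨T, hT, hTS⟩ := exists_pGroup_lift
    (QuotientGroup.mk' (Subgroup.center (Matrix.SpecialLinearGroup (Fin 2) K)))
    (QuotientGroup.mk'_surjective _) S hS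
  intro s hs t ht
  rw [← hTS] at hs ht
  obtain ⟨s', hs', rfl⟩ := hs
  obtain ⟨t', ht', rfl⟩ := ht
  rw [← map_mul, ← map_mul, sl2_pGroup_comm T hT s' hs' t' ht']


/-- Let p be an odd prime and K a finite field of characteristic p. Then Qd(p) (the natural semidirect product of an elementary abelian group of order p² by SL₂(p)) is not involved in the projective special linear group PSL₂(K). -/
theorem result {p : ℕ} [Fact p.Prime] (hp : p ≠ 2) {K : Type*} [Field K] [Fintype K] [CharP K p] : ¬ Cfsg.Involves ↥(Cfsg.qd p) (Matrix.ProjectiveSpecialLinearGroup (Fin 2) K) := by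
  classical
  rintro ⟨A, B, hN, ⟨e⟩⟩
  let f : ↥A →* ↥(Cfsg.qd p) := e.toMonoidHom.comp (QuotientGroup.mk' (B.subgroupOf A))
  have hf : Function.Surjective f := e.surjective.comp (QuotientGroup.mk'_surjective _)
  have hUq : IsPGroup p ↥((uni p).subgroupOf (Cfsg.qd p)) := by
    intro g
    refine ⟨1, ?_⟩
    have h := uni_pow hp g.1.1 (Subgroup.mem_subgroupOf.1 g.2)
    apply Subtype.ext
    apply Subtype.ext
    simpa using h
  obtain ⟨S, hS, hSU⟩ := exists_pGroup_lift f hf ((uni p).subgroupOf (Cfsg.qd p)) hUq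
  have hcomm := psl2_pGroup_comm (S.map A.subtype) (hS.map _)
  let x : Matrix.SpecialLinearGroup (Fin 3) (ZMod p) :=
    ⟨!![1, 1, 0; 0, 1, 0; 0, 0, 1], by simp [Matrix.det_fin_three]⟩
  let y : Matrix.SpecialLinearGroup (Fin 3) (ZMod p) :=
    ⟨!![1, 0, 0; 0, 1, 1; 0, 0, 1], by simp [Matrix.det_fin_three]⟩
  have hx : x ∈ uni p := by
    refine ⟨?_, ?_, ?_, ?_, ?_, ?_⟩ <;> simp [x]
  have hy : y ∈ uni p := by
    refine ⟨?_, ?_, ?_, ?_, ?_, ?_⟩ <;> simp [y]
  have hx' : (⟨x, uni_le_qd p hx⟩ : ↥(Cfsg.qd p)) ∈ (uni p).subgroupOf (Cfsg.qd p) :=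
    Subgroup.mem_subgroupOf.2 hx
  have hy' : (⟨y, uni_le_qd p hy⟩ : ↥(Cfsg.qd p)) ∈ (uni p).subgroupOf (Cfsg.qd p) :=
    Subgroup.mem_subgroupOf.2 hy
  rw [← hSU] at hx' hy'
  obtain ⟨s, hs, hsx⟩ := hx'
  obtain ⟨t, ht, hty⟩ := hy'
  have h1 := hcomm (A.subtype s) (Subgroup.mem_map_of_mem _ hs) (A.subtype t) (Subgroup.mem_map_of_mem _ ht)
  have h2 : s * t = t * s := Subtype.ext h1
  have h3 : f s * f t = f t * f s := by rw [← map_mul, ← map_mul, h2]
  rw [hsx, hty] at h3
  have h4 : x * y = y * x := congrArg Subtype.val h3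
  have h4' : x.1 * y.1 = y.1 * x.1 := by
    rw [← Matrix.SpecialLinearGroup.coe_mul, ← Matrix.SpecialLinearGroup.coe_mul, h4]
  have h5 := congrFun (congrFun h4' 0) 2
  simp [x, y, Matrix.mul_apply, Fin.sum_univ_three] at h5

end Cfsg.Agent.S2231
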