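import Cfsg.Statements.S2904
import Mathlib

set_option autoImplicit false
open Cfsg

namespace Cfsg.Agent.S2904


open Polynomial

/-- the value of the `n`-th cyclotomic polynomial at `a`, as a natural number -/
noncomputable def Phi (n a : ℕ) : ℕ := (eval (a : ℤ) (cyclotomic n ℤ)).natAbs

theorem dvd_iff (r a k : ℕ) (ha : 1 ≤ a) : r ∣ a ^ k - 1 ↔ ((a : ZMod r)) ^ k = 1 := by
  rw [← ZMod.natCast_eq_zero_iff, Nat.cast_sub (Nat.one_le_pow _ _ ha), Nat.cast_pow, Nat.cast_one,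
    sub_eq_zero]

theorem natAbs_pow_sub_one (a d : ℕ) (ha : 1 ≤ a) : ((a : ℤ) ^ d - 1).natAbs = a ^ d - 1 := by
  have h1 : ((a : ℤ) ^ d - 1) = ((a ^ d - 1 : ℕ) : ℤ) := by
    rw [Nat.cast_sub (Nat.one_le_pow _ _ ha)]; simp
  rw [h1, Int.natAbs_natCast]

theorem mul_dvd (a n d : ℕ) (ha : 1 ≤ a) (hd : d ∈ n.properDivisors) :
    (a ^ d - 1) * Phi n a ∣ a ^ n - 1 := by
  have h1 := X_pow_sub_one_mul_cyclotomic_dvd_X_pow_sub_one_of_dvd ℤ hd
  have h2 := eval_dvd (x := (a : ℤ)) h1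
  simp only [eval_mul, eval_sub, eval_pow, eval_X, eval_one] at h2
  have h3 := Int.natAbs_dvd_natAbs.2 h2
  rwa [Int.natAbs_mul, natAbs_pow_sub_one a d ha, natAbs_pow_sub_one a n ha] at h3

theorem dvd_pow_sub_one (a n : ℕ) (ha : 1 ≤ a) :
    Phi n a ∣ a ^ n - 1 := by
  have h1 := cyclotomic.dvd_X_pow_sub_one n ℤ
  have h2 := eval_dvd (x := (a : ℤ)) h1
  simp only [eval_sub, eval_pow, eval_X, eval_one] at h2
  have h3 := Int.natAbs_dvd_natAbs.2 h2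
  rwa [natAbs_pow_sub_one a n ha] at h3

/-- the order of `a` mod `p` when `p ∣ Φ_n(a)`, `n = p^e * m`, `p ∤ m`, is `m` -/
theorem order_eq (p : ℕ) [hp : Fact p.Prime] (a e m : ℕ) (hm : ¬ p ∣ m)
    (h : (p : ℤ) ∣ eval (a : ℤ) (cyclotomic (p ^ e * m) ℤ)) :
    orderOf (a : ZMod p) = m := by
  have h1 : eval ((a : ℤ) : ZMod p) (cyclotomic (p ^ e * m) (ZMod p)) = 0 := by
    rw [← map_cyclotomic_int, eval_intCast_map, eq_intCast, ZMod.intCast_zmod_eq_zero_iff_dvd]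
    exact h
  have : NeZero (m : ZMod p) := ⟨by rwa [Ne, ZMod.natCast_eq_zero_iff]⟩
  have h2 : IsPrimitiveRoot ((a : ℤ) : ZMod p) m :=
    isRoot_cyclotomic_prime_pow_mul_iff_of_charP.1 h1
  rw [Int.cast_natCast] at h2
  exact h2.eq_orderOf.symm

theorem order_eq' (p : ℕ) [hp : Fact p.Prime] (a n : ℕ) (hn : n ≠ 0)
    (h : p ∣ Phi n a) :
    orderOf (a : ZMod p) = n / p ^ n.factorization p := by
  apply order_eq p a (n.factorization p) _ (Nat.not_dvd_ordCompl hp.out hn)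
  rw [Nat.ordProj_mul_ordCompl_eq_self, Int.natCast_dvd]
  exact h

theorem ordCompl_dvd (p : ℕ) [hp : Fact p.Prime] (a n : ℕ) (hn : n ≠ 0)
    (h : p ∣ Phi n a) :
    n / p ^ n.factorization p ∣ p - 1 := by
  rw [← order_eq' p a n hn h]
  apply ZMod.orderOf_dvd_card_sub_one
  intro h0
  have h1 := pow_orderOf_eq_one (a : ZMod p)
  rw [order_eq' p a n hn h, h0, zero_pow] at h1
  · exact zero_ne_one h1
  · exact (Nat.ordCompl_pos p hn).ne'

theorem dvd_of_not_primitive (p : ℕ) [hp : Fact p.Prime] (a n : ℕ) (ha : 1 ≤ a) (hn : n ≠ 0)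
    (h : p ∣ Phi n a)
    (k : ℕ) (hk0 : 0 < k) (hkn : k < n) (hk : p ∣ a ^ k - 1) : p ∣ n := by
  by_contra hpn
  have h1 := order_eq' p a n hn h
  rw [Nat.factorization_eq_zero_of_not_dvd hpn, pow_zero, Nat.div_one] at h1
  rw [dvd_iff p a k ha, ← orderOf_dvd_iff_pow_eq_one, h1] at hk
  exact absurd (Nat.le_of_dvd hk0 hk) (not_le.2 hkn)

theorem prime_le (p q n : ℕ) (hp : p.Prime) (hq : q.Prime)
    (hm : n / p ^ n.factorization p ∣ p - 1) (hqn : q ∣ n) : q ≤ p := by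
  rw [← Nat.ordProj_mul_ordCompl_eq_self n p] at hqn
  rcases (Nat.Prime.dvd_mul hq).1 hqn with h | h
  · have := (Nat.prime_dvd_prime_iff_eq hq hp).1 (hq.dvd_of_dvd_pow h)
    exact this.le
  · have h1 : q ∣ p - 1 := h.trans hm
    have h2 : 0 < p - 1 := by have := hp.two_le; omega
    have := Nat.le_of_dvd h2 h1
    omega

theorem ordCompl_dvd_div (p n : ℕ) (hp : p.Prime) (hn : n ≠ 0) (hpn : p ∣ n) :
    n / p ^ n.factorization p ∣ n / p := by
  have h1 : 1 ≤ n.factorization p := (hp.dvd_iff_one_le_factorization hn).1 hpn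
  obtain ⟨e, he⟩ : ∃ e, n.factorization p = e + 1 := ⟨n.factorization p - 1, by omega⟩
  rw [he, pow_succ', ← Nat.div_div_eq_div_mul]
  apply Nat.div_dvd_of_dvd
  have h2 : p ^ (e + 1) ∣ n := by rw [← he]; exact Nat.ordProj_dvd n p
  rw [pow_succ'] at h2
  exact Nat.dvd_div_of_mul_dvd h2

theorem dvd_pow_div_sub_one (p : ℕ) [hp : Fact p.Prime] (a n : ℕ) (ha : 1 ≤ a) (hn : n ≠ 0)
    (hpn : p ∣ n) (h : p ∣ Phi n a) : p ∣ a ^ (n / p) - 1 := by
  rw [dvd_iff p a _ ha, ← orderOf_dvd_iff_pow_eq_one, order_eq' p a n hn h]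
  exact ordCompl_dvd_div p n hp.out hn hpn

theorem not_sq_dvd_odd (p : ℕ) [hp : Fact p.Prime] (hp2 : Odd p) (a n : ℕ) (ha : 2 ≤ a)
    (hn : n ≠ 0) (hpn : p ∣ n) (h : p ∣ Phi n a) : ¬ p ^ 2 ∣ Phi n a := by
  intro h2
  have hx1 : 1 < a ^ (n / p) := by
    apply Nat.one_lt_pow _ (by omega)
    exact (Nat.div_pos (Nat.le_of_dvd (Nat.pos_of_ne_zero hn) hpn) hp.out.pos).ne'
  have hd : n / p ∈ n.properDivisors := by
    rw [Nat.mem_properDivisors]
    exact ⟨Nat.div_dvd_of_dvd hpn, Nat.div_lt_self (Nat.pos_of_ne_zero hn) hp.out.one_lt⟩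
  have h3 := mul_dvd a n (n / p) (by omega) hd
  have h4 := dvd_pow_div_sub_one p a n (by omega) hn hpn h
  have h5 : ¬ p ∣ a ^ (n / p) := by
    intro h5
    have := (Nat.dvd_sub_iff_right hx1.le h5).1 h4
    exact hp.out.one_lt.ne' (Nat.dvd_one.1 this)
  have h6 := padicValNat.pow_sub_pow hp2 hx1 h4 h5 (n := p) hp.out.ne_zero
  rw [one_pow, ← pow_mul, Nat.div_mul_cancel hpn, padicValNat_self] at h6
  have hne : a ^ n - 1 ≠ 0 := by
    have : 1 < a ^ n := Nat.one_lt_pow hn (by omega)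
    omega
  have h7 : p ^ (padicValNat p (a ^ (n / p) - 1) + 2) ∣ a ^ n - 1 := by
    rw [pow_add]
    exact (Nat.mul_dvd_mul pow_padicValNat_dvd h2).trans h3
  rw [padicValNat_dvd_iff_le hne, h6] at h7
  omega

theorem not_four_dvd_sq_add_one (y : ℕ) : ¬ 4 ∣ y ^ 2 + 1 := by
  intro h
  have h1 : ((y ^ 2 + 1 : ℕ) : ZMod 4) = 0 := (ZMod.natCast_eq_zero_iff _ _).2 h
  push_cast at h1
  generalize (y : ZMod 4) = z at h1
  revert z
  decide

theorem not_sq_dvd_two (a n : ℕ) (ha : 2 ≤ a) (hn : 3 ≤ n)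
    (h : 2 ∣ Phi n a) : ¬ 2 ^ 2 ∣ Phi n a := by
  intro h2
  have : Fact (Nat.Prime 2) := ⟨Nat.prime_two⟩
  have hn0 : n ≠ 0 := by omega
  have h1 := ordCompl_dvd 2 a n hn0 h
  have h3 : n / 2 ^ n.factorization 2 = 1 := Nat.dvd_one.1 h1
  have h4 := Nat.ordProj_mul_ordCompl_eq_self n 2
  rw [h3, mul_one] at h4
  have h5 : 2 ≤ n.factorization 2 := by
    by_contra hlt
    push Not at hlt
    have : n.factorization 2 = 0 ∨ n.factorization 2 = 1 := by omega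
    rcases this with h | h <;> rw [h] at h4 <;> omega
  obtain ⟨e, he⟩ : ∃ e, n.factorization 2 = e + 2 := ⟨n.factorization 2 - 2, by omega⟩
  rw [he] at h4
  have hn4 : n = 4 * 2 ^ e := by rw [← h4, pow_add]; ring
  have hd : 2 * 2 ^ e ∈ n.properDivisors := by
    rw [Nat.mem_properDivisors, hn4]
    refine ⟨⟨2, by ring⟩, ?_⟩
    have : 0 < 2 ^ e := by positivity
    omega
  have h6 := mul_dvd a n (2 * 2 ^ e) (by omega) hd
  set y := a ^ 2 ^ e with hy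
  have hy1 : 1 < y := Nat.one_lt_pow (by positivity) (by omega)
  have e1 : a ^ (2 * 2 ^ e) = y ^ 2 := by rw [hy, ← pow_mul, mul_comm]
  have e2 : a ^ n = (y ^ 2) ^ 2 := by rw [hy, ← pow_mul, ← pow_mul, hn4]; ring_nf
  rw [e1, e2] at h6
  have hy2 : 1 < y ^ 2 := Nat.one_lt_pow (by omega) hy1
  have e3 : (y ^ 2) ^ 2 - 1 = (y ^ 2 - 1) * (y ^ 2 + 1) := by
    zify [hy2.le, Nat.one_le_pow 2 _ hy2.le]
    ring
  rw [e3] at h6
  have h7 : Phi n a ∣ y ^ 2 + 1 := Nat.dvd_of_mul_dvd_mul_left (by omega) h6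
  exact not_four_dvd_sq_add_one y (h2.trans h7)

theorem not_sq_dvd (p : ℕ) [hp : Fact p.Prime] (a n : ℕ) (ha : 2 ≤ a)
    (hn : 3 ≤ n) (hpn : p ∣ n) (h : p ∣ Phi n a) : ¬ p ^ 2 ∣ Phi n a := by
  rcases hp.out.eq_two_or_odd' with rfl | h2
  · exact not_sq_dvd_two a n ha hn h
  · exact not_sq_dvd_odd p h2 a n ha (by omega) hpn h

theorem eq_two_of_eq_prime (p a n : ℕ) (hp : p.Prime) (ha : 2 ≤ a) (hn : 3 ≤ n) (hpn : p ∣ n)
    (hN : Phi n a = p) : a = 2 := by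
  by_contra h2
  have ha3 : 3 ≤ a := by omega
  have h1 : (a - 1) ^ n.totient < Phi n a :=
    sub_one_pow_totient_lt_natAbs_cyclotomic_eval (by omega) (by omega)
  have h3 : p - 1 ∣ n.totient := by
    rw [← Nat.totient_prime hp]; exact Nat.totient_dvd_of_dvd hpn
  have h4 : p - 1 ≤ n.totient := Nat.le_of_dvd (Nat.totient_pos.2 (by omega)) h3
  have h5 : p - 1 < 2 ^ (p - 1) := Nat.lt_two_pow_self
  have h6 : 2 ^ (p - 1) ≤ 2 ^ n.totient := Nat.pow_le_pow_right (by norm_num) h4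
  have h7 : 2 ^ n.totient ≤ (a - 1) ^ n.totient := Nat.pow_le_pow_left (by omega) _
  have := hp.two_le
  omega

theorem two_lt_of_eq_prime (p n : ℕ) (hp : p.Prime) (hn : 3 ≤ n)
    (hN : Phi n 2 = p) : 2 < p := by
  have h1 := dvd_pow_sub_one 2 n (by norm_num)
  rw [hN] at h1
  rcases hp.eq_two_or_odd with h | h
  · exfalso
    rw [h] at h1
    have h2 : 2 ∣ 2 ^ n := dvd_pow_self 2 (by omega)
    have h3 : 1 ≤ 2 ^ n := Nat.one_le_two_pow
    omega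
  · have := hp.two_le
    omega

theorem not_sq_dvd_n (p n : ℕ) (hp : p.Prime) (hn : 3 ≤ n) (hpn : p ∣ n)
    (hN : Phi n 2 = p) : ¬ p ∣ n / p := by
  intro h
  have h1 := cyclotomic_expand_eq_cyclotomic hp h ℤ
  rw [Nat.div_mul_cancel hpn] at h1
  have h2 : Phi n 2 = (eval (((2 ^ p : ℕ) : ℤ)) (cyclotomic (n / p) ℤ)).natAbs := by
    unfold Phi
    rw [← h1, expand_eval]
    norm_num
  have h30 : 0 < n / p := Nat.div_pos (Nat.le_of_dvd (by omega) hpn) hp.pos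
  have h3 : 1 < n / p := lt_of_lt_of_le hp.one_lt (Nat.le_of_dvd h30 h)
  have h4 : (2 ^ p - 1) ^ (n / p).totient < Phi n 2 := by
    rw [h2]
    apply sub_one_pow_totient_lt_natAbs_cyclotomic_eval h3
    have : 1 < 2 ^ p := Nat.one_lt_two_pow hp.ne_zero
    omega
  have h5 : p < 2 ^ p := Nat.lt_two_pow_self
  have h6 : 2 ^ p - 1 ≤ (2 ^ p - 1) ^ (n / p).totient :=
    Nat.le_self_pow (Nat.totient_pos.2 (by omega)).ne' _
  omega

theorem three_mul_lt (k : ℕ) : 3 * (k + 5) + 1 < 2 ^ (k + 5) := by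
  induction k with
  | zero => norm_num
  | succ k ih => rw [show k + 1 + 5 = (k + 5) + 1 by ring, pow_succ]; omega

theorem Phi_eval (n : ℕ) : eval (2 : ℤ) (cyclotomic n ℤ) = (Phi n 2 : ℤ) := by
  unfold Phi
  rw [Nat.cast_ofNat, Int.natAbs_of_nonneg]
  exact cyclotomic_nonneg n (by norm_num)

theorem real_bound (p m : ℕ) (hp : p.Prime) (hm : ¬ p ∣ m) (hN : Phi (m * p) 2 = p) :
    ((2 : ℝ) ^ p - 1) ^ m.totient ≤ p * 3 ^ m.totient := by
  have h1 := cyclotomic_expand_eq_cyclotomic_mul hp hm ℤ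
  have h2 := congrArg (eval (2 : ℤ)) h1
  rw [expand_eval, eval_mul, Phi_eval, hN] at h2
  have h3 := congrArg (Int.cast (R := ℝ)) h2
  have e1 : ((eval ((2 : ℤ) ^ p) (cyclotomic m ℤ) : ℤ) : ℝ) = eval ((2 : ℝ) ^ p) (cyclotomic m ℝ) := by
    have := cyclotomic.eval_apply ((2 : ℤ) ^ p) m (Int.castRingHom ℝ)
    simpa using this.symm
  have e2 : ((eval (2 : ℤ) (cyclotomic m ℤ) : ℤ) : ℝ) = eval (2 : ℝ) (cyclotomic m ℝ) := by
    have := cyclotomic.eval_apply (2 : ℤ) m (Int.castRingHom ℝ)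
    simpa using this.symm
  rw [Int.cast_mul, e1, e2] at h3
  have h4 : (1 : ℝ) < 2 ^ p := by
    have : (1 : ℝ) < 2 := by norm_num
    exact one_lt_pow₀ this hp.ne_zero
  have h5 := sub_one_pow_totient_le_cyclotomic_eval h4 m
  have h6 := cyclotomic_eval_le_add_one_pow_totient (q := 2) (by norm_num) m
  rw [h3] at h5
  have h7 : ((2 : ℝ) + 1) = 3 := by norm_num
  rw [h7] at h6
  calc ((2 : ℝ) ^ p - 1) ^ m.totient ≤ _ := h5
    _ ≤ p * 3 ^ m.totient := by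
      simp only [Int.cast_natCast]
      exact mul_le_mul_of_nonneg_left h6 (Nat.cast_nonneg _)

theorem p_lt_five (p m : ℕ) (hp : p.Prime) (hm : ¬ p ∣ m) (hm0 : m ≠ 0)
    (hN : Phi (m * p) 2 = p) : p < 5 := by
  by_contra h5
  push Not at h5
  obtain ⟨k, rfl⟩ : ∃ k, p = k + 5 := ⟨p - 5, by omega⟩
  have h1 := real_bound _ m hp hm hN
  have h2 := three_mul_lt k
  have ht : m.totient ≠ 0 := (Nat.totient_pos.2 (Nat.pos_of_ne_zero hm0)).ne'
  have h3 : ((3 * (k + 5) : ℕ) : ℝ) < (2 : ℝ) ^ (k + 5) - 1 := by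
    have : ((3 * (k + 5) + 1 : ℕ) : ℝ) < ((2 ^ (k + 5) : ℕ) : ℝ) := Nat.cast_lt.2 h2
    push_cast at this ⊢
    linarith
  have h4 : ((3 * (k + 5) : ℕ) : ℝ) ^ m.totient < ((2 : ℝ) ^ (k + 5) - 1) ^ m.totient :=
    pow_lt_pow_left₀ h3 (Nat.cast_nonneg _) ht
  have h5 : ((k + 5 : ℕ) : ℝ) * 3 ^ m.totient ≤ ((3 * (k + 5) : ℕ) : ℝ) ^ m.totient := by
    rw [Nat.cast_mul, mul_pow, mul_comm]
    apply mul_le_mul_of_nonneg_left _ (by positivity)
    have : (1 : ℝ) ≤ ((k + 5 : ℕ) : ℝ) := by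
      rw [Nat.one_le_cast]; omega
    exact le_self_pow₀ this ht
  linarith

theorem Phi_three_two : Phi 3 2 = 7 := by
  unfold Phi
  rw [cyclotomic_three]
  norm_num

theorem two_sq_zmod3 : ((2 : ℕ) : ZMod 3) ^ 2 = 1 := by decide

theorem eq_six (p n : ℕ) (hp : p.Prime) (hn : 3 ≤ n) (hpn : p ∣ n)
    (hN : Phi n 2 = p) : n = 6 := by
  have h1 := two_lt_of_eq_prime p n hp hn hN
  have h2 := not_sq_dvd_n p n hp hn hpn hN
  obtain ⟨m, rfl⟩ : ∃ m, n = m * p := ⟨n / p, (Nat.div_mul_cancel hpn).symm⟩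
  rw [Nat.mul_div_cancel _ hp.pos] at h2
  have hm0 : m ≠ 0 := by rintro rfl; omega
  have h3 := p_lt_five p m hp h2 hm0 hN
  have hp3 : p = 3 := by
    have : p = 3 ∨ p = 4 := by omega
    rcases this with h | h
    · exact h
    · exfalso; rw [h] at hp; norm_num at hp
  subst hp3
  have : Fact (Nat.Prime 3) := ⟨hp⟩
  have h4 : orderOf ((2 : ℕ) : ZMod 3) = m := by
    apply order_eq 3 2 1 m h2
    rw [pow_one, mul_comm, Int.natCast_dvd]
    exact dvd_of_eq hN.symm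
  have h5 : m ∣ 2 := by
    rw [← h4]
    apply orderOf_dvd_of_pow_eq_one
    exact two_sq_zmod3
  have h6 : m ≤ 2 := Nat.le_of_dvd (by norm_num) h5
  have : m = 1 ∨ m = 2 := by omega
  rcases this with rfl | rfl
  · exfalso
    rw [one_mul, Phi_three_two] at hN
    omega
  · rfl

/-- the case `n ≥ 3` -/
theorem main_ge_three (a n : ℕ) (ha : 2 ≤ a) (hn : 3 ≤ n) (h6 : ¬ (a = 2 ∧ n = 6)) :
    ∃ r : ℕ, r.Prime ∧ r ∣ a ^ n - 1 ∧ ∀ k : ℕ, 0 < k → k < n → ¬ r ∣ a ^ k - 1 := by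
  by_contra hcon
  push Not at hcon
  have hn0 : n ≠ 0 := by omega
  -- every prime divisor of `Phi n a` divides `n`
  have key : ∀ p : ℕ, p.Prime → p ∣ Phi n a → p ∣ n := by
    intro p hp hpN
    haveI : Fact p.Prime := ⟨hp⟩
    obtain ⟨k, hk0, hkn, hk⟩ := hcon p hp (hpN.trans (dvd_pow_sub_one a n (by omega)))
    exact dvd_of_not_primitive p a n (by omega) hn0 hpN k hk0 hkn hk
  have hN1 : 1 < Phi n a := by
    have h1 : (a - 1) ^ n.totient < Phi n a :=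
      sub_one_pow_totient_lt_natAbs_cyclotomic_eval (by omega) (by omega)
    have h2 : 1 ≤ (a - 1) ^ n.totient := Nat.one_le_pow _ _ (by omega)
    omega
  obtain ⟨p, hp, hpN⟩ := Nat.exists_prime_and_dvd hN1.ne'
  haveI : Fact p.Prime := ⟨hp⟩
  have hpn := key p hp hpN
  have hNp : Phi n a = p := by
    obtain ⟨c, hc⟩ := hpN
    by_cases hc1 : c = 1
    · rw [hc, hc1, mul_one]
    exfalso
    obtain ⟨q, hq, hqc⟩ := Nat.exists_prime_and_dvd hc1
    haveI : Fact q.Prime := ⟨hq⟩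
    have hqN : q ∣ Phi n a := by rw [hc]; exact hqc.mul_left p
    have hqn := key q hq hqN
    have h1 : q ≤ p := prime_le p q n hp hq (ordCompl_dvd p a n hn0 ⟨c, hc⟩) hqn
    have h2 : p ≤ q := prime_le q p n hq hp (ordCompl_dvd q a n hn0 hqN) hpn
    have h3 : q = p := le_antisymm h1 h2
    subst h3
    apply not_sq_dvd q a n ha hn hpn ⟨c, hc⟩
    rw [hc, pow_two]
    exact Nat.mul_dvd_mul_left q hqc
  have ha2 := eq_two_of_eq_prime p a n hp ha hn hpn hNp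
  subst ha2
  exact h6 ⟨rfl, eq_six p n hp hn hpn hNp⟩

/-- the case `n = 2` -/
theorem main_two (a : ℕ) (ha : 2 ≤ a) (h2 : ¬ ∃ m : ℕ, a + 1 = 2 ^ m) :
    ∃ r : ℕ, r.Prime ∧ r ∣ a ^ 2 - 1 ∧ ∀ k : ℕ, 0 < k → k < 2 → ¬ r ∣ a ^ k - 1 := by
  -- an odd prime divisor of `a + 1`
  have h1 : ∃ r : ℕ, r.Prime ∧ r ∣ a + 1 ∧ r ≠ 2 := by
    by_contra hcon
    push Not at hcon
    apply h2
    refine ⟨(a + 1).primeFactorsList.length, ?_⟩
    have h3 : ∀ q ∈ (a + 1).primeFactorsList, q = 2 := fun q hq =>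
      hcon q (Nat.prime_of_mem_primeFactorsList hq) (Nat.dvd_of_mem_primeFactorsList hq)
    have h4 := Nat.prod_primeFactorsList (n := a + 1) (by omega)
    rw [List.eq_replicate_of_mem h3, List.prod_replicate] at h4
    exact h4.symm
  obtain ⟨r, hr, hra, hr2⟩ := h1
  refine ⟨r, hr, ?_, ?_⟩
  · have : a ^ 2 - 1 = (a - 1) * (a + 1) := by
      have h1 : 1 ≤ a := by omega
      have h3 : 1 ≤ a ^ 2 := Nat.one_le_pow _ _ h1
      zify [h1, h3]; ring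
    rw [this]
    exact hra.mul_left _
  · intro k hk0 hk2 hk
    have hk1 : k = 1 := by omega
    subst hk1
    rw [pow_one] at hk
    have h3 : r ∣ (a + 1) - (a - 1) := Nat.dvd_sub hra hk
    have h4 : (a + 1) - (a - 1) = 2 := by omega
    rw [h4] at h3
    exact hr2 ((Nat.prime_dvd_prime_iff_eq hr Nat.prime_two).1 h3)



/-- Zsigmondy's Theorem: for natural numbers a > 1 and n > 1 there is a prime dividing aⁿ − 1 that divides aᵏ − 1 for no natural number 0 < k < n, unless a = 2 and n = 6, or n = 2 and a + 1 is a power of two. -/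
theorem result (a n : ℕ) (ha : 1 < a) (hn : 1 < n) (h6 : ¬ (a = 2 ∧ n = 6)) (h2 : ¬ (n = 2 ∧ ∃ m : ℕ, a + 1 = 2 ^ m)) : ∃ r : ℕ, r.Prime ∧ r ∣ a ^ n - 1 ∧ ∀ k : ℕ, 0 < k → k < n → ¬ r ∣ a ^ k - 1 := by
  rcases Nat.lt_or_ge n 3 with h | h
  · have hn2 : n = 2 := by omega
    subst hn2
    exact main_two a ha (fun hm => h2 ⟨rfl, hm⟩)
  · exact main_ge_three a n ha h h6

end Cfsg.Agent.S2904
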