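import Cfsg.Statements.S2427

set_option autoImplicit false
open Cfsg

namespace Cfsg.Agent.S2427

open Matrix
open scoped commutatorElement

/-- the group under study -/
abbrev G3 := Matrix.SpecialLinearGroup (Fin 2) (ZMod 3)

def qI : G3 := ⟨!![0, 1; 2, 0], by decide⟩
def qI' : G3 := ⟨!![0, 2; 1, 0], by decide⟩
def qJ : G3 := ⟨!![1, 1; 1, 2], by decide⟩
def qN : G3 := ⟨!![2, 0; 0, 2], by decide⟩

def qf : QuaternionGroup 2 → G3
  | QuaternionGroup.a i => qI ^ i.val
  | QuaternionGroup.xa i => qJ * qI ^ i.val

/-- membership in the quaternion subgroup -/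
def isQ (g : G3) : Prop := g.1 0 0 + g.1 1 1 = 0 ∨ g = 1 ∨ g = qN

instance (g : G3) : Decidable (isQ g) := by unfold isQ; infer_instance

set_option maxRecDepth 100000 in
theorem card24 : Fintype.card G3 = 24 := by decide +kernel

set_option maxRecDepth 100000 in
theorem qf_mul : ∀ p q : QuaternionGroup 2, qf (p * q) = qf p * qf q := by decide +kernel

set_option maxRecDepth 100000 in
theorem qf_inj : ∀ p q : QuaternionGroup 2, qf p = qf q → p = q := by decide +kernel

set_option maxRecDepth 100000 in
theorem factB : ∀ g h : G3, g.1 0 0 + g.1 1 1 = 0 → h.1 0 0 + h.1 1 1 = 0 → ∃ a : G3, a * g = h * a := by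
  decide +kernel

set_option maxRecDepth 100000 in
theorem factE : ∀ g k : G3, g * k = qI * g * qI' → (isQ g ∨ k.1 0 0 + k.1 1 1 = 0) := by
  decide +kernel

set_option maxRecDepth 100000 in
theorem factComm : ∀ g h k : G3, k * h * g = g * h → isQ k := by
  decide +kernel

set_option maxRecDepth 100000 in
theorem factQ : ∀ g : G3, isQ g → ∃ p : QuaternionGroup 2, qf p = g := by
  decide +kernel

set_option maxRecDepth 100000 in
theorem factQ' : ∀ p : QuaternionGroup 2, isQ (qf p) := by
  decide +kernel

set_option maxRecDepth 100000 in
theorem factCenter : ∀ g : G3, (∀ h : G3, h * g = g * h) → (g = 1 ∨ g = qN) := by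
  decide +kernel

set_option maxRecDepth 100000 in
theorem factCenter' : ∀ h : G3, h * qN = qN * h := by
  decide +kernel

set_option maxRecDepth 100000 in
theorem factSq : ∀ g : G3, g.1 0 0 + g.1 1 1 = 0 → g * g = qN := by
  decide +kernel

set_option maxRecDepth 100000 in
theorem factIcomm : ∃ a b : G3, qI * b * a = a * b := by
  decide +kernel

set_option maxRecDepth 100000 in
theorem factJcomm : ∃ a b : G3, qJ * b * a = a * b := by
  decide +kernel

set_option maxRecDepth 100000 in
theorem qI_inv : qI * qI' = 1 := by decide +kernel

/-- the embedding of the quaternion group -/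
def fHom : QuaternionGroup 2 →* G3 := MonoidHom.mk' qf qf_mul

theorem fHom_inj : Function.Injective fHom := fun p q h => qf_inj p q h

theorem mem_comm_of_eq {g a b : G3} (h : g * b * a = a * b) : g ∈ commutator G3 := by
  have : g = ⁅a, b⁆ := by
    rw [commutatorElement_def]
    calc g = (g * b * a) * a⁻¹ * b⁻¹ := by group
      _ = _ := by rw [h]
  rw [this]
  exact Subgroup.commutator_mem_commutator (Subgroup.mem_top _) (Subgroup.mem_top _)

theorem range_eq : fHom.range = commutator G3 := by
  apply le_antisymm
  · rintro _ ⟨p, rfl⟩
    obtain ⟨a, b, hab⟩ := factIcomm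
    obtain ⟨a', b', hab'⟩ := factJcomm
    have hI : qI ∈ commutator G3 := mem_comm_of_eq hab
    have hJ : qJ ∈ commutator G3 := mem_comm_of_eq hab'
    cases p with
    | a i => exact pow_mem hI _
    | xa i => exact mul_mem hJ (pow_mem hI _)
  · rw [commutator_def, Subgroup.commutator_le]
    intro g _ h _
    have hk : ⁅g, h⁆ * h * g = g * h := by
      rw [commutatorElement_def]; group
    obtain ⟨p, hp⟩ := factQ _ (factComm g h _ hk)
    exact ⟨p, hp⟩

theorem mem_comm_iff (g : G3) : g ∈ commutator G3 ↔ isQ g := by
  rw [← range_eq]
  constructor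
  · rintro ⟨p, rfl⟩
    exact factQ' p
  · intro h
    obtain ⟨p, hp⟩ := factQ g h
    exact ⟨p, hp⟩

theorem card_comm : Nat.card (commutator G3) = 8 := by
  rw [← range_eq]
  rw [Nat.card_congr (MonoidHom.ofInjective fHom_inj).symm.toEquiv, Nat.card_eq_fintype_card,
    QuaternionGroup.card]

theorem mem_center_iff' (g : G3) : g ∈ Subgroup.center G3 ↔ (g = 1 ∨ g = qN) := by
  rw [Subgroup.mem_center_iff]
  constructor
  · exact factCenter g
  · rintro (rfl | rfl)
    · intro h; simp
    · exact factCenter'

/-- a normal subgroup containing an element of trace zero contains the quaternion subgroup -/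
theorem comm_le_of_trace_zero (N : Subgroup G3) (hN : N.Normal) (g : G3) (hg : g ∈ N)
    (htr : g.1 0 0 + g.1 1 1 = 0) : commutator G3 ≤ N := by
  intro h hh
  rw [mem_comm_iff] at hh
  rcases hh with hh | rfl | rfl
  · obtain ⟨a, ha⟩ := factB g h htr hh
    have : h = a * g * a⁻¹ := by
      rw [ha]; group
    rw [this]
    exact hN.conj_mem g hg a
  · exact one_mem N
  · rw [← factSq g htr]
    exact mul_mem hg hg

/-- The group SL₂ over the field with 3 elements has order 24 and centre of order 2; its commutator subgroup has order 8, is isomorphic to the quaternion group of order 8 and is complemented by every Sylow 3-subgroup (so the group is a semidirect product of a quaternion group of order 8 by a cyclic group of order 3); and its only normal subgroups besides the trivial subgroup and the whole group are the centre and the commutator subgroup. -/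
theorem result :
    Nat.card (Matrix.SpecialLinearGroup (Fin 2) (ZMod 3)) = 24 ∧
    Nat.card (Subgroup.center (Matrix.SpecialLinearGroup (Fin 2) (ZMod 3))) = 2 ∧
    Nat.card (commutator (Matrix.SpecialLinearGroup (Fin 2) (ZMod 3))) = 8 ∧
    Nonempty (commutator (Matrix.SpecialLinearGroup (Fin 2) (ZMod 3)) ≃* QuaternionGroup 2) ∧
    (∀ P : Sylow 3 (Matrix.SpecialLinearGroup (Fin 2) (ZMod 3)),
      Subgroup.IsComplement' (commutator (Matrix.SpecialLinearGroup (Fin 2) (ZMod 3)))
        (P : Subgroup (Matrix.SpecialLinearGroup (Fin 2) (ZMod 3)))) ∧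
    ∀ N : Subgroup (Matrix.SpecialLinearGroup (Fin 2) (ZMod 3)), N.Normal →
      N = ⊥ ∨ N = ⊤ ∨ N = Subgroup.center (Matrix.SpecialLinearGroup (Fin 2) (ZMod 3)) ∨
        N = commutator (Matrix.SpecialLinearGroup (Fin 2) (ZMod 3)) := by
  have hcard : Nat.card G3 = 24 := by rw [Nat.card_eq_fintype_card]; exact card24
  refine ⟨hcard, ?_, card_comm, ?_, ?_, ?_⟩
  · -- centre
    rw [Nat.card_congr (Matrix.SpecialLinearGroup.center_equiv_rootsOfUnity' (0 : Fin 2)).toEquiv]
    rw [Fintype.card_fin]
    have hprim : IsPrimitiveRoot (-1 : ZMod 3) 2 := IsPrimitiveRoot.neg_one 3 (by norm_num)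
    exact hprim.card_rootsOfUnity
  · -- isomorphism
    refine ⟨?_⟩
    exact (MulEquiv.subgroupCongr range_eq.symm).trans (MonoidHom.ofInjective fHom_inj).symm
  · -- complements
    intro P
    have hP : Nat.card P = 3 := by
      have h1 := P.card_eq_multiplicity
      rw [hcard] at h1
      have : (24 : ℕ).factorization 3 = 1 := by
        have : (24 : ℕ) = 8 * 3 := by norm_num
        rw [this, Nat.factorization_mul (by norm_num) (by norm_num), Finsupp.add_apply,
          Nat.factorization_eq_zero_of_not_dvd (by norm_num : ¬ 3 ∣ 8),
          Nat.Prime.factorization_self (by norm_num : Nat.Prime 3)]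
      rw [this] at h1
      simpa using h1
    apply Subgroup.isComplement'_of_coprime
    · rw [card_comm, hP, hcard]
    · rw [card_comm, hP]; norm_num
  · -- normal subgroups
    intro N hN
    by_cases hle : N ≤ commutator G3
    · by_cases htr : ∃ g ∈ N, g.1 0 0 + g.1 1 1 = 0
      · obtain ⟨g, hg, hg0⟩ := htr
        right; right; right
        exact le_antisymm hle (comm_le_of_trace_zero N hN g hg hg0)
      · push Not at htr
        have hsmall : ∀ g ∈ N, g = 1 ∨ g = qN := by
          intro g hg
          have := (mem_comm_iff g).mp (hle hg)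
          rcases this with h | h | h
          · exact absurd h (htr g hg)
          · exact Or.inl h
          · exact Or.inr h
        by_cases hqN : qN ∈ N
        · right; right; left
          ext g
          rw [mem_center_iff']
          constructor
          · exact hsmall g
          · rintro (rfl | rfl)
            · exact one_mem N
            · exact hqN
        · left
          rw [Subgroup.eq_bot_iff_forall]
          intro g hg
          rcases hsmall g hg with h | h
          · exact h
          · exact absurd (h ▸ hg) hqN
    · right; left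
      obtain ⟨g, hgN, hgQ⟩ := SetLike.not_le_iff_exists.mp hle
      rw [mem_comm_iff] at hgQ
      -- the commutator-like element
      have hk : g⁻¹ * (qI * g * qI⁻¹) ∈ N := mul_mem (inv_mem hgN) (hN.conj_mem g hgN qI)
      have hinv : qI⁻¹ = qI' := by
        rw [inv_eq_iff_mul_eq_one]; exact qI_inv
      have hfact := factE g (g⁻¹ * (qI * g * qI⁻¹)) (by rw [hinv]; group)
      have htr0 := hfact.resolve_left hgQ
      have hQN : commutator G3 ≤ N := comm_le_of_trace_zero N hN _ hk htr0
      -- counting
      have h8 : 8 ∣ Nat.card N := by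
        rw [← card_comm]; exact Subgroup.card_dvd_of_le hQN
      have h24 : Nat.card N ∣ 24 := by
        rw [← hcard]; exact Subgroup.card_subgroup_dvd_card N
      have hne8 : Nat.card N ≠ 8 := by
        intro h
        have : commutator G3 = N := Subgroup.eq_of_le_of_card_ge hQN (by rw [h, card_comm])
        apply hgQ
        rw [← mem_comm_iff, this]
        exact hgN
      have : Nat.card N = 24 := by
        obtain ⟨m, hm⟩ := h8
        have hm3 : m ∣ 3 := by
          rw [hm] at h24
          exact (Nat.mul_dvd_mul_iff_left (by norm_num : 0 < 8)).mp (by simpa using h24)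
        have hmle : m ≤ 3 := Nat.le_of_dvd (by norm_num) hm3
        interval_cases m
        · simp at hm3
        · omega
        · norm_num at hm3
        · omega
      rw [← Subgroup.card_eq_iff_eq_top, this, hcard]

end Cfsg.Agent.S2427
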