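import Cfsg.Statements.S0493
import Cfsg.Agent.Lib.Helper12.SmallSimple

set_option autoImplicit false
open Cfsg

namespace Cfsg.Agent.S0493

/-- A finite simple group of order at most 100 that is not cyclic has order 60. -/
theorem result {G : Type*} [Group G] [Finite G] [IsSimpleGroup G]
    (hG : ¬ IsCyclic G) (h : Nat.card G ≤ 100) : Nat.card G = 60 := by
  have hG' := Cfsg.Agent.Lib.Helper12.not_comm_of_simple_not_cyclic hG
  have h1 : 1 < Nat.card G := Finite.one_lt_card
  by_contra hne
  obtain ⟨n, hn⟩ : ∃ n, Nat.card G = n := ⟨_, rfl⟩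
  rw [hn] at h hne h1
  interval_cases n
  · have : Fact (Nat.Prime 2) := ⟨by norm_num⟩
    exact hG (isCyclic_of_prime_card (p := 2) hn)
  · have : Fact (Nat.Prime 3) := ⟨by norm_num⟩
    exact hG (isCyclic_of_prime_card (p := 3) hn)
  · exact Cfsg.Agent.Lib.Helper12.false_of_sylow_test hG' 4 2 2 1 hn (by norm_num) (by norm_num) (by norm_num) (by norm_num) (by decide)
  · have : Fact (Nat.Prime 5) := ⟨by norm_num⟩
    exact hG (isCyclic_of_prime_card (p := 5) hn)
  · exact Cfsg.Agent.Lib.Helper12.false_of_sylow_test hG' 6 3 1 2 hn (by norm_num) (by norm_num) (by norm_num) (by norm_num) (by decide)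
  · have : Fact (Nat.Prime 7) := ⟨by norm_num⟩
    exact hG (isCyclic_of_prime_card (p := 7) hn)
  · exact Cfsg.Agent.Lib.Helper12.false_of_sylow_test hG' 8 2 3 1 hn (by norm_num) (by norm_num) (by norm_num) (by norm_num) (by decide)
  · exact Cfsg.Agent.Lib.Helper12.false_of_sylow_test hG' 9 3 2 1 hn (by norm_num) (by norm_num) (by norm_num) (by norm_num) (by decide)
  · exact Cfsg.Agent.Lib.Helper12.false_of_sylow_test hG' 10 5 1 2 hn (by norm_num) (by norm_num) (by norm_num) (by norm_num) (by decide)
  · have : Fact (Nat.Prime 11) := ⟨by norm_num⟩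
    exact hG (isCyclic_of_prime_card (p := 11) hn)
  · exact Cfsg.Agent.Lib.Helper12.false_of_sylow_test hG' 12 2 2 3 hn (by norm_num) (by norm_num) (by norm_num) (by norm_num) (by decide)
  · have : Fact (Nat.Prime 13) := ⟨by norm_num⟩
    exact hG (isCyclic_of_prime_card (p := 13) hn)
  · exact Cfsg.Agent.Lib.Helper12.false_of_sylow_test hG' 14 7 1 2 hn (by norm_num) (by norm_num) (by norm_num) (by norm_num) (by decide)
  · exact Cfsg.Agent.Lib.Helper12.false_of_sylow_test hG' 15 5 1 3 hn (by norm_num) (by norm_num) (by norm_num) (by norm_num) (by decide)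
  · exact Cfsg.Agent.Lib.Helper12.false_of_sylow_test hG' 16 2 4 1 hn (by norm_num) (by norm_num) (by norm_num) (by norm_num) (by decide)
  · have : Fact (Nat.Prime 17) := ⟨by norm_num⟩
    exact hG (isCyclic_of_prime_card (p := 17) hn)
  · exact Cfsg.Agent.Lib.Helper12.false_of_sylow_test hG' 18 3 2 2 hn (by norm_num) (by norm_num) (by norm_num) (by norm_num) (by decide)
  · have : Fact (Nat.Prime 19) := ⟨by norm_num⟩
    exact hG (isCyclic_of_prime_card (p := 19) hn)
  · exact Cfsg.Agent.Lib.Helper12.false_of_sylow_test hG' 20 5 1 4 hn (by norm_num) (by norm_num) (by norm_num) (by norm_num) (by decide)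
  · exact Cfsg.Agent.Lib.Helper12.false_of_sylow_test hG' 21 7 1 3 hn (by norm_num) (by norm_num) (by norm_num) (by norm_num) (by decide)
  · exact Cfsg.Agent.Lib.Helper12.false_of_sylow_test hG' 22 11 1 2 hn (by norm_num) (by norm_num) (by norm_num) (by norm_num) (by decide)
  · have : Fact (Nat.Prime 23) := ⟨by norm_num⟩
    exact hG (isCyclic_of_prime_card (p := 23) hn)
  · exact Cfsg.Agent.Lib.Helper12.false_of_sylow_test hG' 24 2 3 3 hn (by norm_num) (by norm_num) (by norm_num) (by norm_num) (by decide)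
  · exact Cfsg.Agent.Lib.Helper12.false_of_sylow_test hG' 25 5 2 1 hn (by norm_num) (by norm_num) (by norm_num) (by norm_num) (by decide)
  · exact Cfsg.Agent.Lib.Helper12.false_of_sylow_test hG' 26 13 1 2 hn (by norm_num) (by norm_num) (by norm_num) (by norm_num) (by decide)
  · exact Cfsg.Agent.Lib.Helper12.false_of_sylow_test hG' 27 3 3 1 hn (by norm_num) (by norm_num) (by norm_num) (by norm_num) (by decide)
  · exact Cfsg.Agent.Lib.Helper12.false_of_sylow_test hG' 28 7 1 4 hn (by norm_num) (by norm_num) (by norm_num) (by norm_num) (by decide)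
  · have : Fact (Nat.Prime 29) := ⟨by norm_num⟩
    exact hG (isCyclic_of_prime_card (p := 29) hn)
  · exact Cfsg.Agent.Lib.Helper12.false_of_card_two_mul_odd hG' 15 (by decide) hn
  · have : Fact (Nat.Prime 31) := ⟨by norm_num⟩
    exact hG (isCyclic_of_prime_card (p := 31) hn)
  · exact Cfsg.Agent.Lib.Helper12.false_of_sylow_test hG' 32 2 5 1 hn (by norm_num) (by norm_num) (by norm_num) (by norm_num) (by decide)
  · exact Cfsg.Agent.Lib.Helper12.false_of_sylow_test hG' 33 11 1 3 hn (by norm_num) (by norm_num) (by norm_num) (by norm_num) (by decide)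
  · exact Cfsg.Agent.Lib.Helper12.false_of_sylow_test hG' 34 17 1 2 hn (by norm_num) (by norm_num) (by norm_num) (by norm_num) (by decide)
  · exact Cfsg.Agent.Lib.Helper12.false_of_sylow_test hG' 35 7 1 5 hn (by norm_num) (by norm_num) (by norm_num) (by norm_num) (by decide)
  · exact Cfsg.Agent.Lib.Helper12.false_of_sylow_test hG' 36 3 2 4 hn (by norm_num) (by norm_num) (by norm_num) (by norm_num) (by decide)
  · have : Fact (Nat.Prime 37) := ⟨by norm_num⟩
    exact hG (isCyclic_of_prime_card (p := 37) hn)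
  · exact Cfsg.Agent.Lib.Helper12.false_of_sylow_test hG' 38 19 1 2 hn (by norm_num) (by norm_num) (by norm_num) (by norm_num) (by decide)
  · exact Cfsg.Agent.Lib.Helper12.false_of_sylow_test hG' 39 13 1 3 hn (by norm_num) (by norm_num) (by norm_num) (by norm_num) (by decide)
  · exact Cfsg.Agent.Lib.Helper12.false_of_sylow_test hG' 40 5 1 8 hn (by norm_num) (by norm_num) (by norm_num) (by norm_num) (by decide)
  · have : Fact (Nat.Prime 41) := ⟨by norm_num⟩
    exact hG (isCyclic_of_prime_card (p := 41) hn)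
  · exact Cfsg.Agent.Lib.Helper12.false_of_sylow_test hG' 42 7 1 6 hn (by norm_num) (by norm_num) (by norm_num) (by norm_num) (by decide)
  · have : Fact (Nat.Prime 43) := ⟨by norm_num⟩
    exact hG (isCyclic_of_prime_card (p := 43) hn)
  · exact Cfsg.Agent.Lib.Helper12.false_of_sylow_test hG' 44 11 1 4 hn (by norm_num) (by norm_num) (by norm_num) (by norm_num) (by decide)
  · exact Cfsg.Agent.Lib.Helper12.false_of_sylow_test hG' 45 5 1 9 hn (by norm_num) (by norm_num) (by norm_num) (by norm_num) (by decide)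
  · exact Cfsg.Agent.Lib.Helper12.false_of_sylow_test hG' 46 23 1 2 hn (by norm_num) (by norm_num) (by norm_num) (by norm_num) (by decide)
  · have : Fact (Nat.Prime 47) := ⟨by norm_num⟩
    exact hG (isCyclic_of_prime_card (p := 47) hn)
  · exact Cfsg.Agent.Lib.Helper12.false_of_sylow_test hG' 48 2 4 3 hn (by norm_num) (by norm_num) (by norm_num) (by norm_num) (by decide)
  · exact Cfsg.Agent.Lib.Helper12.false_of_sylow_test hG' 49 7 2 1 hn (by norm_num) (by norm_num) (by norm_num) (by norm_num) (by decide)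
  · exact Cfsg.Agent.Lib.Helper12.false_of_sylow_test hG' 50 5 2 2 hn (by norm_num) (by norm_num) (by norm_num) (by norm_num) (by decide)
  · exact Cfsg.Agent.Lib.Helper12.false_of_sylow_test hG' 51 17 1 3 hn (by norm_num) (by norm_num) (by norm_num) (by norm_num) (by decide)
  · exact Cfsg.Agent.Lib.Helper12.false_of_sylow_test hG' 52 13 1 4 hn (by norm_num) (by norm_num) (by norm_num) (by norm_num) (by decide)
  · have : Fact (Nat.Prime 53) := ⟨by norm_num⟩
    exact hG (isCyclic_of_prime_card (p := 53) hn)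
  · exact Cfsg.Agent.Lib.Helper12.false_of_sylow_test hG' 54 3 3 2 hn (by norm_num) (by norm_num) (by norm_num) (by norm_num) (by decide)
  · exact Cfsg.Agent.Lib.Helper12.false_of_sylow_test hG' 55 11 1 5 hn (by norm_num) (by norm_num) (by norm_num) (by norm_num) (by decide)
  · have : Fact (Nat.Prime 7) := ⟨by norm_num⟩
    obtain ⟨hd, hd7, hd1, -⟩ := Cfsg.Agent.Lib.Helper12.sylow_count_spec hG' 7 1 8 (by norm_num)
      (hn.trans (by norm_num)) (by norm_num)
    have hd8 : Nat.card (Sylow 7 G) ≤ 8 := Nat.le_of_dvd (by norm_num) hd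
    have hcount : Nat.card (Sylow 7 G) = 8 := by
      generalize Nat.card (Sylow 7 G) = c at *
      interval_cases c <;> simp_all
    exact Cfsg.Agent.Lib.Helper12.false_of_sylow_self_normalizing hG' 7 8 (hn.trans (by norm_num)) (by norm_num) hcount
  · exact Cfsg.Agent.Lib.Helper12.false_of_sylow_test hG' 57 19 1 3 hn (by norm_num) (by norm_num) (by norm_num) (by norm_num) (by decide)
  · exact Cfsg.Agent.Lib.Helper12.false_of_sylow_test hG' 58 29 1 2 hn (by norm_num) (by norm_num) (by norm_num) (by norm_num) (by decide)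
  · have : Fact (Nat.Prime 59) := ⟨by norm_num⟩
    exact hG (isCyclic_of_prime_card (p := 59) hn)
  · exact hne rfl
  · have : Fact (Nat.Prime 61) := ⟨by norm_num⟩
    exact hG (isCyclic_of_prime_card (p := 61) hn)
  · exact Cfsg.Agent.Lib.Helper12.false_of_sylow_test hG' 62 31 1 2 hn (by norm_num) (by norm_num) (by norm_num) (by norm_num) (by decide)
  · exact Cfsg.Agent.Lib.Helper12.false_of_sylow_test hG' 63 7 1 9 hn (by norm_num) (by norm_num) (by norm_num) (by norm_num) (by decide)
  · exact Cfsg.Agent.Lib.Helper12.false_of_sylow_test hG' 64 2 6 1 hn (by norm_num) (by norm_num) (by norm_num) (by norm_num) (by decide)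
  · exact Cfsg.Agent.Lib.Helper12.false_of_sylow_test hG' 65 13 1 5 hn (by norm_num) (by norm_num) (by norm_num) (by norm_num) (by decide)
  · exact Cfsg.Agent.Lib.Helper12.false_of_sylow_test hG' 66 11 1 6 hn (by norm_num) (by norm_num) (by norm_num) (by norm_num) (by decide)
  · have : Fact (Nat.Prime 67) := ⟨by norm_num⟩
    exact hG (isCyclic_of_prime_card (p := 67) hn)
  · exact Cfsg.Agent.Lib.Helper12.false_of_sylow_test hG' 68 17 1 4 hn (by norm_num) (by norm_num) (by norm_num) (by norm_num) (by decide)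
  · exact Cfsg.Agent.Lib.Helper12.false_of_sylow_test hG' 69 23 1 3 hn (by norm_num) (by norm_num) (by norm_num) (by norm_num) (by decide)
  · exact Cfsg.Agent.Lib.Helper12.false_of_sylow_test hG' 70 7 1 10 hn (by norm_num) (by norm_num) (by norm_num) (by norm_num) (by decide)
  · have : Fact (Nat.Prime 71) := ⟨by norm_num⟩
    exact hG (isCyclic_of_prime_card (p := 71) hn)
  · exact Cfsg.Agent.Lib.Helper12.false_of_sylow_test hG' 72 3 2 8 hn (by norm_num) (by norm_num) (by norm_num) (by norm_num) (by decide)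
  · have : Fact (Nat.Prime 73) := ⟨by norm_num⟩
    exact hG (isCyclic_of_prime_card (p := 73) hn)
  · exact Cfsg.Agent.Lib.Helper12.false_of_sylow_test hG' 74 37 1 2 hn (by norm_num) (by norm_num) (by norm_num) (by norm_num) (by decide)
  · exact Cfsg.Agent.Lib.Helper12.false_of_sylow_test hG' 75 5 2 3 hn (by norm_num) (by norm_num) (by norm_num) (by norm_num) (by decide)
  · exact Cfsg.Agent.Lib.Helper12.false_of_sylow_test hG' 76 19 1 4 hn (by norm_num) (by norm_num) (by norm_num) (by norm_num) (by decide)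
  · exact Cfsg.Agent.Lib.Helper12.false_of_sylow_test hG' 77 11 1 7 hn (by norm_num) (by norm_num) (by norm_num) (by norm_num) (by decide)
  · exact Cfsg.Agent.Lib.Helper12.false_of_sylow_test hG' 78 13 1 6 hn (by norm_num) (by norm_num) (by norm_num) (by norm_num) (by decide)
  · have : Fact (Nat.Prime 79) := ⟨by norm_num⟩
    exact hG (isCyclic_of_prime_card (p := 79) hn)
  · exact Cfsg.Agent.Lib.Helper12.false_of_sylow_test hG' 80 2 4 5 hn (by norm_num) (by norm_num) (by norm_num) (by norm_num) (by decide)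
  · exact Cfsg.Agent.Lib.Helper12.false_of_sylow_test hG' 81 3 4 1 hn (by norm_num) (by norm_num) (by norm_num) (by norm_num) (by decide)
  · exact Cfsg.Agent.Lib.Helper12.false_of_sylow_test hG' 82 41 1 2 hn (by norm_num) (by norm_num) (by norm_num) (by norm_num) (by decide)
  · have : Fact (Nat.Prime 83) := ⟨by norm_num⟩
    exact hG (isCyclic_of_prime_card (p := 83) hn)
  · exact Cfsg.Agent.Lib.Helper12.false_of_sylow_test hG' 84 7 1 12 hn (by norm_num) (by norm_num) (by norm_num) (by norm_num) (by decide)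
  · exact Cfsg.Agent.Lib.Helper12.false_of_sylow_test hG' 85 17 1 5 hn (by norm_num) (by norm_num) (by norm_num) (by norm_num) (by decide)
  · exact Cfsg.Agent.Lib.Helper12.false_of_sylow_test hG' 86 43 1 2 hn (by norm_num) (by norm_num) (by norm_num) (by norm_num) (by decide)
  · exact Cfsg.Agent.Lib.Helper12.false_of_sylow_test hG' 87 29 1 3 hn (by norm_num) (by norm_num) (by norm_num) (by norm_num) (by decide)
  · exact Cfsg.Agent.Lib.Helper12.false_of_sylow_test hG' 88 11 1 8 hn (by norm_num) (by norm_num) (by norm_num) (by norm_num) (by decide)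
  · have : Fact (Nat.Prime 89) := ⟨by norm_num⟩
    exact hG (isCyclic_of_prime_card (p := 89) hn)
  · exact Cfsg.Agent.Lib.Helper12.false_of_card_two_mul_odd hG' 45 (by decide) hn
  · exact Cfsg.Agent.Lib.Helper12.false_of_sylow_test hG' 91 13 1 7 hn (by norm_num) (by norm_num) (by norm_num) (by norm_num) (by decide)
  · exact Cfsg.Agent.Lib.Helper12.false_of_sylow_test hG' 92 23 1 4 hn (by norm_num) (by norm_num) (by norm_num) (by norm_num) (by decide)
  · exact Cfsg.Agent.Lib.Helper12.false_of_sylow_test hG' 93 31 1 3 hn (by norm_num) (by norm_num) (by norm_num) (by norm_num) (by decide)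
  · exact Cfsg.Agent.Lib.Helper12.false_of_sylow_test hG' 94 47 1 2 hn (by norm_num) (by norm_num) (by norm_num) (by norm_num) (by decide)
  · exact Cfsg.Agent.Lib.Helper12.false_of_sylow_test hG' 95 19 1 5 hn (by norm_num) (by norm_num) (by norm_num) (by norm_num) (by decide)
  · exact Cfsg.Agent.Lib.Helper12.false_of_sylow_test hG' 96 2 5 3 hn (by norm_num) (by norm_num) (by norm_num) (by norm_num) (by decide)
  · have : Fact (Nat.Prime 97) := ⟨by norm_num⟩
    exact hG (isCyclic_of_prime_card (p := 97) hn)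
  · exact Cfsg.Agent.Lib.Helper12.false_of_sylow_test hG' 98 7 2 2 hn (by norm_num) (by norm_num) (by norm_num) (by norm_num) (by decide)
  · exact Cfsg.Agent.Lib.Helper12.false_of_sylow_test hG' 99 11 1 9 hn (by norm_num) (by norm_num) (by norm_num) (by norm_num) (by decide)
  · exact Cfsg.Agent.Lib.Helper12.false_of_sylow_test hG' 100 5 2 4 hn (by norm_num) (by norm_num) (by norm_num) (by norm_num) (by decide)

end Cfsg.Agent.S0493
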