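import Cfsg.Statements.S3707

set_option autoImplicit false
open Cfsg

namespace Cfsg.Agent.S3707

open Pointwise MulAction

variable (G : Type*) {Ω : Type*} [Group G] [MulAction G Ω]

/-- `Γ` is a Jordan set: the pointwise stabilizer of the complement is transitive on `Γ` -/
def IsJordan (Γ : Set Ω) : Prop :=
  ∀ x ∈ Γ, ∀ y ∈ Γ, ∃ g : G, (∀ z ∉ Γ, g • z = z) ∧ g • x = y

variable {G}

theorem IsJordan.smul {Γ : Set Ω} (h : IsJordan G Γ) (k : G) : IsJordan G (k • Γ) := by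
  intro x hx y hy
  rw [Set.mem_smul_set_iff_inv_smul_mem] at hx hy
  obtain ⟨g, hg1, hg2⟩ := h _ hx _ hy
  refine ⟨k * g * k⁻¹, ?_, ?_⟩
  · intro z hz
    rw [Set.mem_smul_set_iff_inv_smul_mem] at hz
    rw [mul_smul, mul_smul, hg1 _ hz, smul_inv_smul]
  · rw [mul_smul, mul_smul, hg2, smul_inv_smul]

/-- dichotomy between Jordan sets avoiding `α` and blocks of the stabilizer of `α` -/
theorem dichotomy {α : Ω} {B T : Set Ω}
    (hblk : ∀ g : G, g • α = α → g • B = B ∨ Disjoint (g • B) B)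
    (hT : IsJordan G T) (hα : α ∉ T) {γ : Ω} (hγB : γ ∈ B) (hγT : γ ∈ T)
    {δ : Ω} (hδB : δ ∈ B) (hδT : δ ∉ T) : T ⊆ B := by
  intro γ' hγ'
  obtain ⟨h, h1, h2⟩ := hT γ hγT γ' hγ'
  have hα' : h • α = α := h1 α hα
  have hδ' : h • δ = δ := h1 δ hδT
  rcases hblk h hα' with hB | hB
  · rw [← hB, ← h2]
    exact Set.smul_mem_smul_set hγB
  · exfalso
    have : δ ∈ h • B := by
      rw [← hδ']
      exact Set.smul_mem_smul_set hδB
    exact Set.disjoint_left.1 hB this hδB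

/-- the line through `x`, `y`: the intersection of all translates of `Γ₀` containing both -/
def line (G : Type*) [Group G] [MulAction G Ω] (Γ₀ : Set Ω) (x y : Ω) : Set Ω :=
  ⋂₀ {T | (∃ g : G, T = g • Γ₀) ∧ x ∈ T ∧ y ∈ T}

theorem left_mem_line (Γ₀ : Set Ω) (x y : Ω) : x ∈ line G Γ₀ x y := by
  rintro T ⟨_, hx, _⟩
  exact hx

theorem right_mem_line (Γ₀ : Set Ω) (x y : Ω) : y ∈ line G Γ₀ x y := by
  rintro T ⟨_, _, hy⟩
  exact hy

theorem line_subset (Γ₀ : Set Ω) {x y : Ω} (g : G) (hx : x ∈ g • Γ₀) (hy : y ∈ g • Γ₀) :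
    line G Γ₀ x y ⊆ g • Γ₀ :=
  Set.sInter_subset_of_mem ⟨⟨g, rfl⟩, hx, hy⟩

theorem line_comm (Γ₀ : Set Ω) (x y : Ω) : line G Γ₀ x y = line G Γ₀ y x := by
  unfold line
  congr 1
  ext T
  simp only [Set.mem_setOf_eq]
  tauto

theorem smul_line (Γ₀ : Set Ω) (k : G) (x y : Ω) :
    k • line G Γ₀ x y = line G Γ₀ (k • x) (k • y) := by
  ext z
  rw [Set.mem_smul_set_iff_inv_smul_mem]
  unfold line
  simp only [Set.mem_sInter, Set.mem_setOf_eq]
  constructor
  · rintro h T ⟨⟨g, rfl⟩, hx, hy⟩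
    have := h ((k⁻¹ * g) • Γ₀) ⟨⟨_, rfl⟩, ?_, ?_⟩
    · rw [Set.mem_smul_set_iff_inv_smul_mem] at this ⊢
      simpa [mul_smul] using this
    · rw [Set.mem_smul_set_iff_inv_smul_mem] at hx ⊢
      simpa [mul_smul] using hx
    · rw [Set.mem_smul_set_iff_inv_smul_mem] at hy ⊢
      simpa [mul_smul] using hy
  · rintro h T ⟨⟨g, rfl⟩, hx, hy⟩
    have := h ((k * g) • Γ₀) ⟨⟨_, rfl⟩, ?_, ?_⟩
    · rw [Set.mem_smul_set_iff_inv_smul_mem] at this ⊢
      simpa [mul_smul] using this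
    · rw [Set.mem_smul_set_iff_inv_smul_mem] at hx ⊢
      simpa [mul_smul] using hx
    · rw [Set.mem_smul_set_iff_inv_smul_mem] at hy ⊢
      simpa [mul_smul] using hy

theorem ncard_line_const [Finite Ω] (h2 : IsMultiplyPretransitive G Ω 2) (Γ₀ : Set Ω)
    {x y x' y' : Ω} (hxy : x ≠ y) (hxy' : x' ≠ y') :
    (line G Γ₀ x y).ncard = (line G Γ₀ x' y').ncard := by
  obtain ⟨g, rfl, rfl⟩ := is_two_pretransitive_iff.1 h2 hxy hxy'
  rw [← smul_line, Set.ncard_smul_set]

theorem line_eq_of_mem [Finite Ω] (h2 : IsMultiplyPretransitive G Ω 2) (Γ₀ : Set Ω)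
    {x y z : Ω} (hxy : x ≠ y) (hz : z ∈ line G Γ₀ x y) (hzx : z ≠ x) :
    line G Γ₀ x z = line G Γ₀ x y := by
  apply Set.eq_of_subset_of_ncard_le
  · intro w hw
    rintro T ⟨⟨g, rfl⟩, hx, hy⟩
    have hzT : z ∈ g • Γ₀ := line_subset Γ₀ g hx hy hz
    exact line_subset Γ₀ g hx hzT hw
  · exact (ncard_line_const h2 Γ₀ hxy (Ne.symm hzx)).le
  · exact Set.toFinite _

namespace Cnt

variable {K X : Type*} [Group K] [MulAction K X]

theorem card_fiber (a c : X) (hc : c ∈ orbit K a) :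
    Nat.card {h : K // h • a = c} = Nat.card (stabilizer K a) := by
  obtain ⟨g0, rfl⟩ := hc
  apply Nat.card_congr
  exact
    { toFun := fun h => ⟨g0⁻¹ * h.1, by
        rw [mem_stabilizer_iff, mul_smul, h.2, inv_smul_smul]⟩
      invFun := fun k => ⟨g0 * k.1, by
        have := k.2
        rw [mem_stabilizer_iff] at this
        change (g0 * k.1) • a = g0 • a
        rw [mul_smul, this]⟩
      left_inv := fun h => by simp
      right_inv := fun k => by simp }

theorem card_mem [Finite K] (a : X) (S : Set X) (hfin : S.Finite) (hS : S ⊆ orbit K a) :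
    Nat.card {h : K // h • a ∈ S} = S.ncard * Nat.card (stabilizer K a) := by
  classical
  have : Fintype S := hfin.fintype
  have e : {h : K // h • a ∈ S} ≃ Σ c : S, {h : K // h • a = (c : X)} :=
    { toFun := fun h => ⟨⟨h.1 • a, h.2⟩, ⟨h.1, rfl⟩⟩
      invFun := fun p => ⟨p.2.1, by rw [p.2.2]; exact p.1.2⟩
      left_inv := fun h => rfl
      right_inv := fun p => Sigma.subtype_ext (Subtype.ext p.2.2) rfl }
  rw [Nat.card_congr e, Nat.card_sigma]
  rw [Finset.sum_congr rfl (fun (c : S) _ => card_fiber a (c : X) (hS c.2))]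
  rw [Finset.sum_const, Finset.card_univ, smul_eq_mul, ← Nat.card_eq_fintype_card,
    Nat.card_coe_set_eq]

theorem exists_avoid [Finite K] (P Q : K → Prop)
    (h : Nat.card {h : K // P h} + Nat.card {h : K // Q h} < Nat.card K) :
    ∃ k : K, ¬ P k ∧ ¬ Q k := by
  classical
  have : Fintype K := Fintype.ofFinite K
  by_contra hcon
  push Not at hcon
  have hcov : (Finset.univ : Finset K) ⊆ Finset.univ.filter P ∪ Finset.univ.filter Q := by
    intro k _
    rw [Finset.mem_union, Finset.mem_filter, Finset.mem_filter]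
    by_cases hp : P k
    · exact Or.inl ⟨Finset.mem_univ _, hp⟩
    · exact Or.inr ⟨Finset.mem_univ _, hcon k hp⟩
  have h1 := Finset.card_le_card hcov
  have h2 := Finset.card_union_le (Finset.univ.filter P) (Finset.univ.filter Q)
  have hP : Nat.card {h : K // P h} = (Finset.univ.filter P).card := by
    rw [Nat.card_eq_fintype_card, Fintype.card_subtype]
  have hQ : Nat.card {h : K // Q h} = (Finset.univ.filter Q).card := by
    rw [Nat.card_eq_fintype_card, Fintype.card_subtype]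
  rw [hP, hQ, Nat.card_eq_fintype_card] at h
  rw [Finset.card_univ] at h1
  omega

end Cnt

theorem orbit_stabilizer_eq (h2 : IsMultiplyPretransitive G Ω 2) {γ a : Ω} (ha : a ≠ γ) :
    orbit (stabilizer G γ) a = {γ}ᶜ := by
  ext z
  constructor
  · rintro ⟨h, rfl⟩ hz
    apply ha
    have h1 : (h : G) • a = γ := hz
    have h2' : (h : G) • γ = γ := h.2
    have : (h : G) • a = (h : G) • γ := by rw [h1, h2']
    exact smul_left_cancel _ this
  · intro hz
    have hz' : z ≠ γ := hz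
    obtain ⟨g, hg1, hg2⟩ := is_two_pretransitive_iff.1 h2 (Ne.symm ha) (Ne.symm hz')
    exact ⟨⟨g, hg1⟩, hg2⟩

theorem exists_translate_avoid [Finite G] [Finite Ω] (h2 : IsMultiplyPretransitive G Ω 2)
    (Γ₀ : Set Ω) (hne : Γ₀.Nonempty) (h2m : 2 * Γ₀.ncard ≤ Nat.card Ω) {x α y : Ω}
    (hxα : x ≠ α) (hxy : x ≠ y) (hαy : α ≠ y) :
    ∃ g : G, g • x ∈ Γ₀ ∧ g • α ∉ Γ₀ ∧ g • y ∉ Γ₀ := by
  obtain ⟨γ, hγ⟩ := hne
  have : IsPretransitive G Ω := isPretransitive_of_is_two_pretransitive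
  obtain ⟨g0, hg0⟩ := exists_smul_eq G x γ
  have ha : g0 • α ≠ γ := by
    rw [← hg0]
    exact fun h => hxα (smul_left_cancel _ h).symm
  have hb : g0 • y ≠ γ := by
    rw [← hg0]
    exact fun h => hxy (smul_left_cancel _ h).symm
  set S : Set Ω := Γ₀ \ {γ} with hS
  have hSfin : S.Finite := Set.toFinite _
  have hSsub : S ⊆ ({γ}ᶜ : Set Ω) := fun z hz => hz.2
  have hUfin : ({γ}ᶜ : Set Ω).Finite := Set.toFinite _
  have hSa := Cnt.card_mem (K := stabilizer G γ) (g0 • α) S hSfin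
    (by rw [orbit_stabilizer_eq h2 ha]; exact hSsub)
  have hSb := Cnt.card_mem (K := stabilizer G γ) (g0 • y) S hSfin
    (by rw [orbit_stabilizer_eq h2 hb]; exact hSsub)
  have hUa := Cnt.card_mem (K := stabilizer G γ) (g0 • α) ({γ}ᶜ : Set Ω) hUfin
    (by rw [orbit_stabilizer_eq h2 ha])
  have hUb := Cnt.card_mem (K := stabilizer G γ) (g0 • y) ({γ}ᶜ : Set Ω) hUfin
    (by rw [orbit_stabilizer_eq h2 hb])
  have hall : ∀ c : Ω, c ≠ γ → Nat.card {h : stabilizer G γ // h • c ∈ ({γ}ᶜ : Set Ω)}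
      = Nat.card (stabilizer G γ) := by
    intro c hc
    apply Nat.card_congr
    apply Equiv.subtypeUnivEquiv
    intro h hh
    apply hc
    have h1 : (h : G) • c = γ := hh
    have h2' : (h : G) • γ = γ := h.2
    have : (h : G) • c = (h : G) • γ := by rw [h1, h2']
    exact smul_left_cancel _ this
  rw [hall _ ha] at hUa
  rw [hall _ hb] at hUb
  have hUcard : ({γ}ᶜ : Set Ω).ncard = Nat.card Ω - 1 := by
    rw [Set.ncard_compl, Set.ncard_singleton]
  have hScard : S.ncard = Γ₀.ncard - 1 := by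
    rw [hS, Set.ncard_diff_singleton_of_mem hγ]
  have hm1 : 1 ≤ Γ₀.ncard := by
    rw [Nat.one_le_iff_ne_zero, Ne, Set.ncard_eq_zero (Set.toFinite _)]
    exact fun h => by rw [h] at hγ; exact hγ
  have hpos : 0 < Nat.card (stabilizer G γ) := Nat.card_pos
  rw [hUcard] at hUa hUb
  rw [hScard] at hSa hSb
  have hsa_pos : 0 < Nat.card (stabilizer (stabilizer G γ) (g0 • α)) := Nat.card_pos
  have hseq : Nat.card (stabilizer (stabilizer G γ) (g0 • α))
      = Nat.card (stabilizer (stabilizer G γ) (g0 • y)) := by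
    have h3 : (Nat.card Ω - 1) * Nat.card (stabilizer (stabilizer G γ) (g0 • α))
        = (Nat.card Ω - 1) * Nat.card (stabilizer (stabilizer G γ) (g0 • y)) := by
      rw [← hUa, ← hUb]
    have hn1 : 0 < Nat.card Ω - 1 := by omega
    exact Nat.eq_of_mul_eq_mul_left hn1 h3
  obtain ⟨h, hh1, hh2⟩ := Cnt.exists_avoid (K := stabilizer G γ)
    (fun h => h • (g0 • α) ∈ S) (fun h => h • (g0 • y) ∈ S) (by
      rw [hSa, hSb, hUa, ← hseq]
      have : 2 * (Γ₀.ncard - 1) < Nat.card Ω - 1 := by omega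
      nlinarith)
  refine ⟨(h : G) * g0, ?_, ?_, ?_⟩
  · rw [mul_smul, hg0]
    have : (h : G) • γ = γ := h.2
    rw [this]
    exact hγ
  · rw [mul_smul]
    intro hmem
    apply hh1
    refine ⟨hmem, ?_⟩
    intro heq
    have h1 : (h : G) • (g0 • α) = γ := heq
    have h2' : (h : G) • γ = γ := h.2
    have : (h : G) • (g0 • α) = (h : G) • γ := by rw [h1, h2']
    exact ha (smul_left_cancel _ this)
  · rw [mul_smul]
    intro hmem
    apply hh2
    refine ⟨hmem, ?_⟩
    intro heq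
    have h1 : (h : G) • (g0 • y) = γ := heq
    have h2' : (h : G) • γ = γ := h.2
    have : (h : G) • (g0 • y) = (h : G) • γ := by rw [h1, h2']
    exact hb (smul_left_cancel _ this)

theorem exists_translate_pair (h2 : IsMultiplyPretransitive G Ω 2) (Γ₀ : Set Ω)
    (hm : 2 ≤ Γ₀.ncard) {x y : Ω} (hxy : x ≠ y) : ∃ g : G, x ∈ g • Γ₀ ∧ y ∈ g • Γ₀ := by
  obtain ⟨γ1, γ2, h1, h2', hne⟩ := (Set.one_lt_ncard_iff (Set.finite_of_ncard_pos (by omega))).1 (by omega : 1 < Γ₀.ncard)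
  obtain ⟨g, hg1, hg2⟩ := is_two_pretransitive_iff.1 h2 hne hxy
  exact ⟨g, hg1 ▸ Set.smul_mem_smul_set h1, hg2 ▸ Set.smul_mem_smul_set h2'⟩

theorem ncard_line_le [Finite Ω] (h2 : IsMultiplyPretransitive G Ω 2) (Γ₀ : Set Ω)
    (hm : 2 ≤ Γ₀.ncard) {x y : Ω} (hxy : x ≠ y) : (line G Γ₀ x y).ncard ≤ Γ₀.ncard := by
  obtain ⟨g, hx, hy⟩ := exists_translate_pair h2 Γ₀ hm hxy
  have := Set.ncard_le_ncard (line_subset Γ₀ g hx hy) (Set.toFinite _)
  rwa [Set.ncard_smul_set] at this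

theorem block_trivial [Finite G] [Finite Ω] (h2 : IsMultiplyPretransitive G Ω 2) (Γ₀ : Set Ω)
    (hJ : IsJordan G Γ₀) (hm : 2 ≤ Γ₀.ncard) (h2m : 2 * Γ₀.ncard ≤ Nat.card Ω) (α : Ω) (B : Set Ω)
    (hαB : α ∉ B) (hblk : ∀ g : G, g • α = α → g • B = B ∨ Disjoint (g • B) B) :
    B.Subsingleton ∨ B = {α}ᶜ := by
  by_contra hcon
  push Not at hcon
  obtain ⟨hns, hne⟩ := hcon
  obtain ⟨x, hxB, y, hyB, hxy⟩ := hns
  have hxα : x ≠ α := fun h => hαB (h ▸ hxB)
  have hyα : y ≠ α := fun h => hαB (h ▸ hyB)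
  obtain ⟨w, hwα, hwB⟩ : ∃ w, w ≠ α ∧ w ∉ B := by
    by_contra hcon
    push Not at hcon
    apply hne
    ext z
    constructor
    · intro hz hzα
      exact hαB (hzα ▸ hz)
    · intro hz
      exact hcon z hz
  have hΓne : Γ₀.Nonempty := by
    rw [← Set.ncard_pos (Set.toFinite _)]
    omega
  -- Step A
  obtain ⟨g, hg1, hg2, hg3⟩ := exists_translate_avoid h2 Γ₀ hΓne h2m hxα hxy (Ne.symm hyα)
  have hxT : x ∈ g⁻¹ • Γ₀ := by rwa [Set.mem_smul_set_iff_inv_smul_mem, inv_inv]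
  have hαT : α ∉ g⁻¹ • Γ₀ := by rwa [Set.mem_smul_set_iff_inv_smul_mem, inv_inv]
  have hyT : y ∉ g⁻¹ • Γ₀ := by rwa [Set.mem_smul_set_iff_inv_smul_mem, inv_inv]
  have hTB : g⁻¹ • Γ₀ ⊆ B := dichotomy hblk (hJ.smul g⁻¹) hαT hxB hxT hyB hyT
  have hmc : Γ₀.ncard < B.ncard := by
    have hss : g⁻¹ • Γ₀ ⊂ B := ⟨hTB, fun h => hyT (h hyB)⟩
    have := Set.ncard_lt_ncard hss (Set.toFinite _)
    rwa [Set.ncard_smul_set] at this
  -- Step D
  have hD : ∀ u ∈ B, ∀ v, v ∉ B → v ≠ α → α ∈ line G Γ₀ u v := by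
    intro u hu v hv hvα
    rintro T ⟨⟨g', rfl⟩, huT, hvT⟩
    by_contra hαT'
    by_cases hBT : B ⊆ g' • Γ₀
    · have := Set.ncard_le_ncard hBT (Set.toFinite _)
      rw [Set.ncard_smul_set] at this
      omega
    · obtain ⟨δ, hδB, hδT⟩ := Set.not_subset.1 hBT
      exact hv (dichotomy hblk (hJ.smul g') hαT' hu huT hδB hδT hvT)
  -- Step E
  have hℓ1 : Nat.card Ω - B.ncard + 1 ≤ (line G Γ₀ x α).ncard := by
    have hsub : insert x Bᶜ ⊆ line G Γ₀ x α := by
      intro v hv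
      rcases hv with rfl | hv
      · exact left_mem_line Γ₀ _ _
      · by_cases hvα : v = α
        · rw [hvα]
          exact right_mem_line Γ₀ _ _
        · have hxv : x ≠ v := fun h => hv (h ▸ hxB)
          have h1 := hD x hxB v hv hvα
          rw [line_eq_of_mem h2 Γ₀ hxv h1 (Ne.symm hxα)]
          exact right_mem_line Γ₀ _ _
    have := Set.ncard_le_ncard hsub (Set.toFinite _)
    rwa [Set.ncard_insert_of_notMem (Set.notMem_compl_iff.2 hxB) (Set.toFinite _), Set.ncard_compl] at this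
  have hℓ2 : B.ncard + 2 ≤ (line G Γ₀ w α).ncard := by
    have hsub : insert w (insert α B) ⊆ line G Γ₀ w α := by
      intro u hu
      rcases hu with rfl | rfl | hu
      · exact left_mem_line Γ₀ _ _
      · exact right_mem_line Γ₀ _ _
      · have hwu : w ≠ u := fun h => hwB (h ▸ hu)
        have h1 := hD u hu w hwB hwα
        rw [line_comm] at h1
        rw [line_eq_of_mem h2 Γ₀ hwu h1 (Ne.symm hwα)]
        exact right_mem_line Γ₀ _ _
    have := Set.ncard_le_ncard hsub (Set.toFinite _)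
    rwa [Set.ncard_insert_of_notMem (by
        rintro (h | h)
        · exact hwα h
        · exact hwB h) (Set.toFinite _),
      Set.ncard_insert_of_notMem hαB (Set.toFinite _)] at this
  have hconst := ncard_line_const h2 Γ₀ hxα hwα
  have hle := ncard_line_le h2 Γ₀ hm hxα
  have hBle : B.ncard ≤ Nat.card Ω := by
    rw [← Set.ncard_univ]
    exact Set.ncard_le_ncard (Set.subset_univ _) (Set.toFinite _)
  omega

open SubMulAction in
theorem stabilizer_isPreprimitive [Finite G] [Finite Ω] (h2 : IsMultiplyPretransitive G Ω 2)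
    (Γ₀ : Set Ω) (hJ : IsJordan G Γ₀) (hm : 2 ≤ Γ₀.ncard) (h2m : 2 * Γ₀.ncard ≤ Nat.card Ω) (α : Ω) :
    IsPreprimitive (stabilizer G α) (ofStabilizer G α) := by
  have : IsPretransitive G Ω := isPretransitive_of_is_two_pretransitive
  have htr : IsPretransitive (stabilizer G α) (ofStabilizer G α) := by
    rw [← is_one_pretransitive_iff]
    exact ofStabilizer.isMultiplyPretransitive.1 h2
  apply IsPreprimitive.mk
  intro B' hB'
  have hval : ∀ (k : stabilizer G α) (S : Set (ofStabilizer G α)),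
      (Subtype.val '' (k • S) : Set Ω) = (k : G) • (Subtype.val '' S : Set Ω) := by
    intro k S
    ext z
    constructor
    · rintro ⟨u, ⟨v, hv, rfl⟩, rfl⟩
      exact ⟨v, ⟨v, hv, rfl⟩, rfl⟩
    · rintro ⟨_, ⟨v, hv, rfl⟩, rfl⟩
      exact ⟨k • v, ⟨v, hv, rfl⟩, rfl⟩
  have key := block_trivial h2 Γ₀ hJ hm h2m α (Subtype.val '' B')
    (by
      rintro ⟨u, _, hu⟩
      exact (mem_ofStabilizer_iff G α).1 u.2 hu)
    (by
      intro g hg
      rcases hB'.smul_eq_or_disjoint ⟨g, hg⟩ with h | h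
      · left
        rw [← hval ⟨g, hg⟩ B', h]
      · right
        rw [← hval ⟨g, hg⟩ B']
        exact (Set.disjoint_image_iff Subtype.val_injective).2 h)
  rcases key with h | h
  · left
    intro u hu v hv
    exact Subtype.ext (h ⟨u, hu, rfl⟩ ⟨v, hv, rfl⟩)
  · right
    ext u
    simp only [Set.mem_univ, iff_true]
    have : (u : Ω) ∈ Subtype.val '' B' := by
      rw [h]
      exact (mem_ofStabilizer_iff G α).1 u.2
    obtain ⟨v, hv, hvu⟩ := this
    rwa [← Subtype.ext hvu]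

open SubMulAction in
/-- Jordan's criterion (Mathlib) restated with Jordan sets. -/
theorem jordan_two {K X : Type*} [Group K] [MulAction K X] (hK : IsPreprimitive K X)
    (Δ : Set X) (hJ : IsJordan K Δ) {n : ℕ} (hsn : Δᶜ.ncard = n + 1)
    (hsn' : n + 2 < Nat.card X) : IsMultiplyPretransitive K X 2 := by
  apply hK.is_two_pretransitive hsn hsn'
  rw [isPretransitive_iff]
  rintro ⟨x, hx⟩ ⟨y, hy⟩
  rw [mem_ofFixingSubgroup_iff, Set.notMem_compl_iff] at hx hy
  obtain ⟨g, hg1, hg2⟩ := hJ x hx y hy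
  refine ⟨⟨g, ?_⟩, ?_⟩
  · rw [mem_fixingSubgroup_iff]
    intro z hz
    exact hg1 z hz
  · exact Subtype.ext hg2

/-- Let G be a finite primitive permutation group on Ω of degree n and Γ ⊂ Ω a subset with 1 < #Γ ≤ n/2 such that the pointwise stabilizer of Ω ∖ Γ is transitive on Γ. Then G is 3-transitive on Ω. -/
theorem result {G Ω : Type*} [Group G] [Finite G] [MulAction G Ω] [FaithfulSMul G Ω] [Finite Ω] (hprim : MulAction.IsPreprimitive G Ω) (Γ : Set Ω) (h1 : 1 < Γ.ncard) (h2 : 2 * Γ.ncard ≤ Nat.card Ω) (htr : ∀ x ∈ Γ, ∀ y ∈ Γ, ∃ g : G, (∀ z ∉ Γ, g • z = z) ∧ g • x = y) : MulAction.IsMultiplyPretransitive G Ω 3 := by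
  have hJ : IsJordan G Γ := htr
  have hcompl : Γᶜ.ncard = Nat.card Ω - Γ.ncard := Set.ncard_compl Γ
  have hΓle : Γ.ncard ≤ Nat.card Ω := by
    rw [← Set.ncard_univ]
    exact Set.ncard_le_ncard (Set.subset_univ _) (Set.toFinite _)
  have h2t : IsMultiplyPretransitive G Ω 2 := by
    apply jordan_two hprim Γ hJ (n := Nat.card Ω - Γ.ncard - 1)
    · rw [hcompl]; omega
    · omega
  have htrans : IsPretransitive G Ω := isPretransitive_of_is_two_pretransitive
  -- pick α ∉ Γ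
  obtain ⟨α, hα⟩ : ∃ α, α ∉ Γ := by
    by_contra hcon
    push Not at hcon
    have : Γ = Set.univ := Set.eq_univ_of_forall hcon
    rw [this, Set.ncard_univ] at h1 h2
    omega
  have hKprim := stabilizer_isPreprimitive h2t Γ hJ (by omega) h2 α
  have h2K : IsMultiplyPretransitive (stabilizer G α) (SubMulAction.ofStabilizer G α) 2 := by
    apply jordan_two hKprim {z | (z : Ω) ∈ Γ} ?_ (n := Nat.card Ω - Γ.ncard - 2)
    · have himg : (Subtype.val '' ({z : SubMulAction.ofStabilizer G α | (z : Ω) ∈ Γ}ᶜ) : Set Ω)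
          = Γᶜ \ {α} := by
        ext z
        constructor
        · rintro ⟨u, hu, rfl⟩
          exact ⟨hu, (SubMulAction.mem_ofStabilizer_iff G α).1 u.2⟩
        · rintro ⟨hz1, hz2⟩
          exact ⟨⟨z, (SubMulAction.mem_ofStabilizer_iff G α).2 hz2⟩, hz1, rfl⟩
      rw [← Set.ncard_image_of_injective _ Subtype.val_injective, himg,
        Set.ncard_diff_singleton_of_mem (Set.mem_compl hα), hcompl]
      omega
    · rw [SubMulAction.nat_card_ofStabilizer_eq]
      omega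
    · intro x hx y hy
      obtain ⟨g, hg1, hg2⟩ := htr x hx y hy
      refine ⟨⟨g, hg1 α hα⟩, ?_, ?_⟩
      · intro z hz
        exact Subtype.ext (hg1 z hz)
      · exact Subtype.ext hg2
  exact SubMulAction.ofStabilizer.isMultiplyPretransitive.2 h2K


end Cfsg.Agent.S3707
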