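import Cfsg.Statements.S0268
import Mathlib

set_option autoImplicit false
open Cfsg

namespace Cfsg.Agent.S0268

/-- (re-added by lead: `Lib.Helper07.SL2QuatMain` cites this auxiliary lemma of the first landed version of this file) -/
lemma two_ne_zero_of_odd_card {F : Type*} [Field F] [Fintype F] (hF : Odd (Fintype.card F)) :
    (2 : F) ≠ 0 := by
  have hchar : ringChar F ≠ 2 := by
    intro h
    have := FiniteField.even_card_of_char_two h
    rw [Nat.odd_iff] at hF
    omega
  exact Ring.two_ne_zero hchar

/-- Over a finite field of odd order, the only element of order 2 in SL_2 is the scalar matrix -1. -/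
theorem result {F : Type*} [Field F] [Fintype F] (hF : Odd (Fintype.card F)) (g : Matrix.SpecialLinearGroup (Fin 2) F) (h1 : g ≠ 1) (h2 : g * g = 1) : (g : Matrix (Fin 2) (Fin 2) F) = -1 := by
  -- characteristic is not 2
  have h2ne : (2 : F) ≠ 0 := by
    intro h
    have hchar : ringChar F = 2 := by
      have : ringChar F ∣ 2 := (ringChar.spec F 2).mp (by exact_mod_cast h)
      rcases (Nat.dvd_prime Nat.prime_two).mp this with h' | h'
      · exfalso
        have := CharP.ringChar_ne_one (R := F)
        exact this h'
      · exact h'
    have : ringChar F ∣ Fintype.card F := by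
      haveI : CharP F (ringChar F) := ringChar.charP F
      obtain ⟨n, hp, hn⟩ := FiniteField.card F (ringChar F)
      rw [hn]; exact dvd_pow_self _ n.ne_zero
    rw [hchar] at this
    exact (Nat.not_even_iff_odd.mpr hF) (even_iff_two_dvd.mpr this)
  set a := g.1 0 0 with ha
  set b := g.1 0 1 with hb
  set c := g.1 1 0 with hc
  set d := g.1 1 1 with hd
  have hdet : a * d - b * c = 1 := by
    have := g.2
    rw [Matrix.det_fin_two] at this
    exact this
  have hmul : (g.1 * g.1) = 1 := by
    have := congrArg Subtype.val h2
    simpa using this
  have e00 : a * a + b * c = 1 := by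
    have := congrFun (congrFun hmul 0) 0
    simpa [Matrix.mul_apply, Fin.sum_univ_two] using this
  have e01 : a * b + b * d = 0 := by
    have := congrFun (congrFun hmul 0) 1
    simpa [Matrix.mul_apply, Fin.sum_univ_two] using this
  have e10 : c * a + d * c = 0 := by
    have := congrFun (congrFun hmul 1) 0
    simpa [Matrix.mul_apply, Fin.sum_univ_two] using this
  have e11 : c * b + d * d = 1 := by
    have := congrFun (congrFun hmul 1) 1
    simpa [Matrix.mul_apply, Fin.sum_univ_two] using this
  -- a (a - d) = 0 ... derive a = d
  have had : a = d := by
    -- a*a + b*c = 1 and a*d - b*c = 1 → a*(a+d) = 2 ; d*(a+d) = 2 similarly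
    have h3 : a * (a + d) = 2 := by linear_combination e00 + hdet
    have h4 : d * (a + d) = 2 := by linear_combination e11 + hdet
    have h5 : (a - d) * (a + d) = 0 := by linear_combination h3 - h4
    rcases mul_eq_zero.mp h5 with h | h
    · exact sub_eq_zero.mp h
    · exfalso; rw [h, mul_zero] at h3; exact h2ne h3.symm
  have hb0 : b = 0 := by
    have : b * (2 * a) = 0 := by rw [← had] at e01; linear_combination e01
    rcases mul_eq_zero.mp this with h | h
    · exact h
    · exfalso
      have ha0 : a = 0 := by
        rcases mul_eq_zero.mp h with h' | h'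
        · exact absurd h' h2ne
        · exact h'
      have h3 : a * (a + d) = 2 := by linear_combination e00 + hdet
      rw [ha0, zero_mul] at h3; exact h2ne h3.symm
  have hc0 : c = 0 := by
    have : c * (2 * a) = 0 := by rw [← had] at e10; linear_combination e10
    rcases mul_eq_zero.mp this with h | h
    · exact h
    · exfalso
      have ha0 : a = 0 := by
        rcases mul_eq_zero.mp h with h' | h'
        · exact absurd h' h2ne
        · exact h'
      have h3 : a * (a + d) = 2 := by linear_combination e00 + hdet
      rw [ha0, zero_mul] at h3; exact h2ne h3.symm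
  have ha2 : a * a = 1 := by rw [hb0] at e00; linear_combination e00
  have ha1 : a = 1 ∨ a = -1 := mul_self_eq_one_iff.mp ha2
  rcases ha1 with h | h
  · exfalso
    apply h1
    ext i j
    fin_cases i <;> fin_cases j
    · simpa using (ha.symm.trans h)
    · simpa using (hb.symm.trans hb0)
    · simpa using (hc.symm.trans hc0)
    · simpa using (hd.symm.trans (had.symm.trans h))
  · ext i j
    fin_cases i <;> fin_cases j
    · simpa using (ha.symm.trans h)
    · simpa using (hb.symm.trans hb0)
    · simpa using (hc.symm.trans hc0)
    · simpa using (hd.symm.trans (had.symm.trans h))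

end Cfsg.Agent.S0268
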