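import Mathlib
import Cfsg.Statements.S3963
import Cfsg.Agent.Lib.Helper70.StemExt
import Cfsg.Agent.Lib.Helper70.Dihedral

set_option autoImplicit false
open Cfsg

namespace Cfsg.Agent.S3963

open Cfsg.Agent.Lib.Helper70 QuaternionGroup

theorem two_mul_eq_zero (n : ℕ) [NeZero n] (i : ZMod (2 * n)) (h : i + i = 0) : i = 0 ∨ i = n := by
  have hn : 0 < n := Nat.pos_of_ne_zero (NeZero.ne n)
  have : NeZero (2 * n) := ⟨by omega⟩
  have hi : i = ((i.val : ℕ) : ZMod (2 * n)) := (ZMod.natCast_zmod_val i).symm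
  have hlt : i.val < 2 * n := ZMod.val_lt i
  rw [hi] at h
  have h' : (((i.val + i.val : ℕ)) : ZMod (2 * n)) = 0 := by push_cast; exact h
  rw [ZMod.natCast_eq_zero_iff] at h'
  obtain ⟨k, hk⟩ := h'
  have : k = 0 ∨ k = 1 := by
    rcases k with _ | _ | k
    · left; rfl
    · right; rfl
    · exfalso
      have : 2 * n * (k + 1 + 1) ≥ 4 * n := by nlinarith
      omega
  rcases this with rfl | rfl
  · left
    have : i.val = 0 := by omega
    rw [hi, this]; simp
  · right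
    have : i.val = n := by omega
    rw [hi, this]

/-- For every `n ≥ 1` the dicyclic (generalized quaternion) group of order `4 n` has trivial Schur multiplier. -/
theorem result (n : ℕ) [NeZero n] : Cfsg.HasCyclicSchurMultiplier (QuaternionGroup n) 1 := by
  apply hasCyclicSchurMultiplier_one_of_forall
  intro Γ _ _ σ hσ
  obtain ⟨xt, hxt⟩ := hσ.1 (xa 0)
  rw [eq_bot_iff]
  intro z hz
  obtain ⟨u, hu, hu2, hzu⟩ := stem_ker_form σ hσ (a 1) (xa 0) quat_zpowers_a_one_normal quat_sup_eq_top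
    quat_conj_a_one xt hxt z hz
  rw [quat_mem_zpowers_a_one] at hu
  obtain ⟨i, hi⟩ := hu
  rw [hi, sq, a_mul_a, one_def] at hu2
  have h2 : i + i = 0 := by injection hu2
  rw [Subgroup.mem_bot, hzu]
  rcases two_mul_eq_zero n i h2 with hi0 | hin
  · have huk : u ∈ σ.ker := by
      rw [MonoidHom.mem_ker, hi, hi0]; rfl
    have hucen := hσ.2.1 huk
    rw [Subgroup.mem_center_iff] at hucen
    rw [hucen xt]
    group
  · -- σ u = a n = (xa 0)^2 = σ (xt^2)
    have hw : u * (xt ^ 2)⁻¹ ∈ σ.ker := by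
      rw [MonoidHom.mem_ker, map_mul, map_inv, map_pow, hxt, hi, hin, xa_sq]
      simp
    have hwcen := hσ.2.1 hw
    rw [Subgroup.mem_center_iff] at hwcen
    set w := u * (xt ^ 2)⁻¹ with hwdef
    have hu' : u = w * xt ^ 2 := by rw [hwdef]; group
    rw [hu']
    calc xt * (w * xt ^ 2) * xt⁻¹ * (w * xt ^ 2)⁻¹
        = (xt * w) * xt ^ 2 * xt⁻¹ * (xt ^ 2)⁻¹ * w⁻¹ := by group
      _ = (w * xt) * xt ^ 2 * xt⁻¹ * (xt ^ 2)⁻¹ * w⁻¹ := by rw [hwcen xt]
      _ = 1 := by group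

end Cfsg.Agent.S3963
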