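import Mathlib
import Cfsg.Statements.S3979

set_option autoImplicit false
open Cfsg

namespace Cfsg.Agent.S3979

/-- A finite cyclic group has trivial Schur multiplier: every finite stem extension of it is an isomorphism, said through `HasCyclicSchurMultiplier G 1`. -/
theorem result {G : Type*} [Group G] [Finite G] [IsCyclic G] : Cfsg.HasCyclicSchurMultiplier G 1 := by
  refine ⟨⟨G, inferInstance, inferInstance, MonoidHom.id G, ?_, ?_⟩, ?_⟩
  · refine ⟨Function.surjective_id, ?_, ?_⟩
    · rw [MonoidHom.ker_id]; exact bot_le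
    · rw [MonoidHom.ker_id]; exact bot_le
  · rw [MonoidHom.ker_id]
    refine ⟨MulEquiv.ofUnique⟩
  · intro Γ _ _ σ hσ
    obtain ⟨hsurj, hcen, hcomm⟩ := hσ
    have hab : IsMulCommutative Γ := σ.isMulCommutative_of_isCyclic_of_ker_le_center hcen
    have hc : commutator Γ = ⊥ := by
      rw [commutator_def, Subgroup.commutator_eq_bot_iff_le_centralizer]
      intro x _ 
      rw [Subgroup.mem_centralizer_iff]
      intro y _
      exact hab.is_comm.comm y x
    have hker : σ.ker = ⊥ := by
      rw [hc] at hcomm
      exact le_bot_iff.mp hcomm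
    refine ⟨1, ?_⟩
    intro y
    refine ⟨1, ?_⟩
    have : (y : Γ) ∈ (⊥ : Subgroup Γ) := hker ▸ y.2
    rw [Subgroup.mem_bot] at this
    ext
    simp [this]

end Cfsg.Agent.S3979
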