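import Mathlib
import Cfsg.Statements.S3966

set_option autoImplicit false
open Cfsg

namespace Cfsg.Agent.S3966

open scoped commutatorElement

/-- the cast -/
noncomputable def cst (n : ℕ) : ZMod (2 * n) →+* ZMod n := ZMod.castHom (dvd_mul_left n 2) (ZMod n)

theorem cst_n (n : ℕ) : cst n (n : ZMod (2 * n)) = 0 := by
  simp [cst]

/-- the underlying function -/
noncomputable def sigFun (n : ℕ) : QuaternionGroup n → DihedralGroup n
  | QuaternionGroup.a i => DihedralGroup.r (cst n i)
  | QuaternionGroup.xa i => DihedralGroup.sr (cst n i)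

/-- the hom -/
noncomputable def sig (n : ℕ) : QuaternionGroup n →* DihedralGroup n where
  toFun := sigFun n
  map_one' := by
    show sigFun n (QuaternionGroup.a 0) = 1
    simp only [sigFun, map_zero]
    rfl
  map_mul' := by
    rintro (i | i) (j | j) <;> simp [sigFun]

theorem cst_surj (n : ℕ) : Function.Surjective (cst n) :=
  ZMod.castHom_surjective _

theorem two_n (n : ℕ) : (n : ZMod (2 * n)) + n = 0 := by
  have : ((2 * n : ℕ) : ZMod (2 * n)) = 0 := ZMod.natCast_self _
  rw [← this]; push_cast; ring

theorem cst_eq_zero (n : ℕ) [NeZero n] (i : ZMod (2 * n)) (h : cst n i = 0) : i = 0 ∨ i = n := by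
  have hn : 0 < n := Nat.pos_of_ne_zero (NeZero.ne n)
  have : NeZero (2 * n) := ⟨by omega⟩
  have hi : i = ((i.val : ℕ) : ZMod (2 * n)) := (ZMod.natCast_zmod_val i).symm
  have hlt : i.val < 2 * n := ZMod.val_lt i
  rw [hi] at h
  simp only [cst, map_natCast] at h
  rw [ZMod.natCast_eq_zero_iff] at h
  obtain ⟨k, hk⟩ := h
  have : k = 0 ∨ k = 1 := by
    rcases k with _ | _ | k
    · left; rfl
    · right; rfl
    · exfalso
      have : n * (k + 1 + 1) ≥ 2 * n := by nlinarith
      omega
  rcases this with rfl | rfl
  · left; rw [hi, hk]; simp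
  · right; rw [hi, hk]; simp

theorem mem_ker (n : ℕ) [NeZero n] (g : QuaternionGroup n) :
    g ∈ (sig n).ker ↔ g = QuaternionGroup.a 0 ∨ g = QuaternionGroup.a n := by
  rw [MonoidHom.mem_ker]
  constructor
  · intro h
    rcases g with i | i
    · have : DihedralGroup.r (cst n i) = DihedralGroup.r 0 := h
      have h0 : cst n i = 0 := by injection this
      rcases cst_eq_zero n i h0 with h | h
      · left; rw [h]
      · right; rw [h]
    · have : DihedralGroup.sr (cst n i) = DihedralGroup.r 0 := h
      exact absurd this (by intro h; cases h)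
  · rintro (rfl | rfl)
    · show DihedralGroup.r (cst n 0) = DihedralGroup.r 0
      simp
    · show DihedralGroup.r (cst n n) = DihedralGroup.r 0
      rw [cst_n]

theorem result (n : ℕ) [NeZero n] (hn : Even n) : ∃ σ : QuaternionGroup n →* DihedralGroup n, Cfsg.IsStemExtension σ ∧ Nat.card σ.ker = 2 := by
  have hn0 : 0 < n := Nat.pos_of_ne_zero (NeZero.ne n)
  refine ⟨sig n, ⟨?_, ?_, ?_⟩, ?_⟩
  · rintro (j | j)
    · obtain ⟨i, rfl⟩ := cst_surj n j
      exact ⟨QuaternionGroup.a i, rfl⟩
    · obtain ⟨i, rfl⟩ := cst_surj n j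
      exact ⟨QuaternionGroup.xa i, rfl⟩
  · intro g hg
    rw [mem_ker] at hg
    rw [Subgroup.mem_center_iff]
    rcases hg with rfl | rfl
    · intro h; simp
    · have h2 := two_n n
      rintro (j | j)
      · simp [add_comm]
      · simp only [QuaternionGroup.xa_mul_a, QuaternionGroup.a_mul_xa]
        congr 1
        linear_combination h2
  · intro g hg
    rw [mem_ker] at hg
    rcases hg with rfl | rfl
    · simp
    · obtain ⟨k, hk⟩ := hn
      have h2 := two_n n
      have : QuaternionGroup.a (n : ZMod (2 * n)) = ⁅(QuaternionGroup.xa 0 : QuaternionGroup n), (QuaternionGroup.a (-(k : ZMod (2 * n))) : QuaternionGroup n)⁆ := by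
        rw [commutatorElement_def]
        have e1 : (QuaternionGroup.xa (0 : ZMod (2 * n)))⁻¹ = QuaternionGroup.xa (n : ZMod (2 * n)) := by
          rw [inv_eq_iff_mul_eq_one]
          simp [h2]
        have e2 : (QuaternionGroup.a (-(k : ZMod (2 * n))))⁻¹ = QuaternionGroup.a (k : ZMod (2 * n)) := by
          rw [inv_eq_iff_mul_eq_one]
          simp
        rw [e1, e2]
        simp only [QuaternionGroup.xa_mul_a, QuaternionGroup.xa_mul_xa, QuaternionGroup.a_mul_a]
        congr 1
        have : (n : ZMod (2 * n)) = k + k := by rw [hk]; push_cast; ring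
        linear_combination (-1 : ZMod (2 * n)) * h2 + this
      rw [this]
      exact Subgroup.commutator_mem_commutator (Subgroup.mem_top _) (Subgroup.mem_top _)
  · have hne : (QuaternionGroup.a 0 : QuaternionGroup n) ≠ QuaternionGroup.a n := by
      intro h
      injection h with h
      have := (ZMod.natCast_eq_zero_iff n (2 * n)).mp h.symm
      have := Nat.le_of_dvd hn0 this
      omega
    have hs : ((sig n).ker : Set (QuaternionGroup n)) = {QuaternionGroup.a 0, QuaternionGroup.a n} := by
      ext g
      simp only [SetLike.mem_coe, mem_ker, Set.mem_insert_iff, Set.mem_singleton_iff]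
    have : Nat.card (sig n).ker = Set.ncard ((sig n).ker : Set (QuaternionGroup n)) := by
      rfl
    rw [this, hs, Set.ncard_pair hne]

end Cfsg.Agent.S3966
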