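import Mathlib
import Cfsg.Statements.S3965
import Cfsg.Agent.Lib.Helper70.StemExt
import Cfsg.Agent.Lib.Helper70.Dihedral
import Cfsg.Agent.S3966

set_option autoImplicit false
open Cfsg

namespace Cfsg.Agent.S3965

open Cfsg.Agent.Lib.Helper70 DihedralGroup

theorem exists_surj_zmod2 {H : Type*} [Group H] (z₀ : H) (h : ∀ z : H, z = 1 ∨ z = z₀) :
    ∃ π : Multiplicative (ZMod 2) →* H, Function.Surjective π := by
  have hsq : z₀ * z₀ = 1 := by
    rcases h (z₀ * z₀) with h1 | h1
    · exact h1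
    · have : z₀ = 1 := by
        have := congrArg (fun t => z₀⁻¹ * t) h1
        simpa using this
      rw [this]; simp
  have hsq' : z₀ ^ 2 = 1 := by rw [sq]; exact hsq
  let f : ZMod 2 → H := fun t => z₀ ^ t.val
  have hf : ∀ s t : ZMod 2, f (s + t) = f s * f t := by
    intro s t
    show z₀ ^ (s + t).val = z₀ ^ s.val * z₀ ^ t.val
    rw [ZMod.val_add, ← pow_add, ← pow_eq_pow_mod _ hsq']
  refine ⟨{ toFun := fun t => f (Multiplicative.toAdd t), map_one' := by simp [f],
            map_mul' := fun s t => by rw [toAdd_mul]; exact hf _ _ }, ?_⟩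
  intro z
  rcases h z with rfl | rfl
  · exact ⟨Multiplicative.ofAdd 0, by simp [f]⟩
  · refine ⟨Multiplicative.ofAdd 1, ?_⟩
    show z ^ (1 : ZMod 2).val = z
    have : (1 : ZMod 2).val = 1 := rfl
    rw [this, pow_one]

theorem two_mul_eq_zero' (m : ℕ) (hm : 0 < m) (i : ZMod (m + m)) (h : i + i = 0) : i = 0 ∨ i = m := by
  have : NeZero (m + m) := ⟨by omega⟩
  have hi : i = ((i.val : ℕ) : ZMod (m + m)) := (ZMod.natCast_zmod_val i).symm
  have hlt : i.val < m + m := ZMod.val_lt i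
  rw [hi] at h
  have h' : (((i.val + i.val : ℕ)) : ZMod (m + m)) = 0 := by push_cast; exact h
  rw [ZMod.natCast_eq_zero_iff] at h'
  obtain ⟨k, hk⟩ := h'
  have : k = 0 ∨ k = 1 := by
    rcases k with _ | _ | k
    · left; rfl
    · right; rfl
    · exfalso
      have : (m + m) * (k + 1 + 1) ≥ 4 * m := by nlinarith
      omega
  rcases this with rfl | rfl
  · left
    have : i.val = 0 := by omega
    rw [hi, this]; simp
  · right
    have : i.val = m := by omega
    rw [hi, this]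

/-- For even `n ≥ 2` the dihedral group of order `2 n` has Schur multiplier cyclic of order `2`. -/
theorem result (n : ℕ) [NeZero n] (hn : Even n) : Cfsg.HasCyclicSchurMultiplier (DihedralGroup n) 2 := by
  constructor
  · obtain ⟨σ, hσ, hcard⟩ := Cfsg.Agent.S3966.result n hn
    refine ⟨QuaternionGroup n, inferInstance, inferInstance, σ, hσ, ?_⟩
    have : Fact (Nat.Prime 2) := ⟨Nat.prime_two⟩
    have hc : IsCyclic σ.ker := isCyclic_of_prime_card (p := 2) hcard
    have e := zmodCyclicMulEquiv hc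
    rw [hcard] at e
    exact ⟨e.symm⟩
  · intro Γ _ _ σ hσ
    obtain ⟨m, rfl⟩ := hn
    have hm : 0 < m := by
      have := NeZero.ne (m + m)
      omega
    obtain ⟨xt, hxt⟩ := hσ.1 (sr 0)
    obtain ⟨u₀, hu₀⟩ := hσ.1 (r (m : ZMod (m + m)))
    have hmm : (m : ZMod (m + m)) + m = 0 := by
      have : ((m + m : ℕ) : ZMod (m + m)) = 0 := ZMod.natCast_self _
      rw [← this]; push_cast; ring
    have hz₀ : xt * u₀ * xt⁻¹ * u₀⁻¹ ∈ σ.ker := by
      rw [MonoidHom.mem_ker]
      simp only [map_mul, map_inv, hxt, hu₀]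
      simp only [inv_sr, inv_r, sr_mul_r, sr_mul_sr, r_mul_r, one_def]
      congr 1
      linear_combination (-1 : ZMod (m + m)) * hmm
    apply exists_surj_zmod2 (⟨_, hz₀⟩ : σ.ker)
    rintro ⟨z, hz⟩
    obtain ⟨u, hu, hu2, hzu⟩ := stem_ker_form σ hσ (r 1) (sr 0) dih_zpowers_r_one_normal dih_sup_eq_top
      dih_conj_r_one xt hxt z hz
    rw [dih_mem_zpowers_r_one] at hu
    obtain ⟨i, hi⟩ := hu
    rw [hi, sq, r_mul_r, one_def] at hu2
    have h2 : i + i = 0 := by injection hu2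
    rcases two_mul_eq_zero' m hm i h2 with hi0 | him
    · left
      have huk : u ∈ σ.ker := by
        rw [MonoidHom.mem_ker, hi, hi0]; rfl
      have hucen := hσ.2.1 huk
      rw [Subgroup.mem_center_iff] at hucen
      ext
      show z = 1
      rw [hzu, hucen xt]
      group
    · right
      have hw : u * u₀⁻¹ ∈ σ.ker := by
        rw [MonoidHom.mem_ker, map_mul, map_inv, hu₀, hi, him]
        simp
      have hwcen := hσ.2.1 hw
      rw [Subgroup.mem_center_iff] at hwcen
      set w := u * u₀⁻¹ with hwdef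
      have hu' : u = w * u₀ := by rw [hwdef]; group
      ext
      show z = xt * u₀ * xt⁻¹ * u₀⁻¹
      rw [hzu, hu']
      calc xt * (w * u₀) * xt⁻¹ * (w * u₀)⁻¹
          = (xt * w) * u₀ * xt⁻¹ * u₀⁻¹ * w⁻¹ := by group
        _ = (w * xt) * u₀ * xt⁻¹ * u₀⁻¹ * w⁻¹ := by rw [hwcen xt]
        _ = w * (xt * u₀ * xt⁻¹ * u₀⁻¹) * w⁻¹ := by group
        _ = (xt * u₀ * xt⁻¹ * u₀⁻¹) * w * w⁻¹ := by rw [hwcen]
        _ = xt * u₀ * xt⁻¹ * u₀⁻¹ := by group

end Cfsg.Agent.S3965
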