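import Mathlib
import Cfsg.Statements.S2530

set_option autoImplicit false
open Cfsg

namespace Cfsg.Agent.S2530

open Equiv

-- liftability of adjacent transpositions
theorem swap_liftable (n : ℕ) :
    (CoxeterMatrix.A n).IsLiftable (fun i : Fin n => (swap i.castSucc i.succ : Perm (Fin (n + 1)))) := by
  intro i j
  by_cases hij : i = j
  · subst hij
    simp
  · have hM : (CoxeterMatrix.A n).M i j = if (j : ℕ) + 1 = i ∨ (i : ℕ) + 1 = j then 3 else 2 := by
      simp [CoxeterMatrix.A, hij]
    show (swap i.castSucc i.succ * swap j.castSucc j.succ) ^ ((CoxeterMatrix.A n).M i j) = 1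
    rw [hM]
    have hne : (i : ℕ) ≠ j := fun h => hij (Fin.ext h)
    split_ifs with h
    · rcases h with h | h
      · -- j + 1 = i : j.succ = i.castSucc
        have e : i.castSucc = j.succ := by ext; simp [← h]
        rw [e]
        have h3 : Equiv.Perm.IsThreeCycle (swap j.succ i.succ * swap j.castSucc j.succ) := by
          rw [swap_comm j.castSucc j.succ]
          apply Equiv.Perm.isThreeCycle_swap_mul_swap_same
          · intro hh; have := congrArg Fin.val hh; simp at this; omega
          · intro hh; have := congrArg Fin.val hh; simp at this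
          · intro hh; have := congrArg Fin.val hh; simp at this; omega
        rw [← h3.orderOf]; exact pow_orderOf_eq_one _
      · have e : j.castSucc = i.succ := by ext; simp [← h]
        rw [e]
        have h3 : Equiv.Perm.IsThreeCycle (swap i.castSucc i.succ * swap i.succ j.succ) := by
          rw [swap_comm i.castSucc i.succ]
          apply Equiv.Perm.isThreeCycle_swap_mul_swap_same
          · intro hh; have := congrArg Fin.val hh; simp at this
          · intro hh; have := congrArg Fin.val hh; simp at this; omega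
          · intro hh; have := congrArg Fin.val hh; simp at this; omega
        rw [← h3.orderOf]; exact pow_orderOf_eq_one _
    · push Not at h
      have hd : Equiv.Perm.Disjoint (swap i.castSucc i.succ) (swap j.castSucc j.succ) := by
        intro x
        by_cases hx1 : x = i.castSucc
        · right
          apply swap_apply_of_ne_of_ne
          · rw [hx1]; intro hh; have := congrArg Fin.val hh; simp at this; omega
          · rw [hx1]; intro hh; have := congrArg Fin.val hh; simp at this; omega
        · by_cases hx2 : x = i.succ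
          · right
            apply swap_apply_of_ne_of_ne
            · rw [hx2]; intro hh; have := congrArg Fin.val hh; simp at this; omega
            · rw [hx2]; intro hh; have := congrArg Fin.val hh; simp at this; omega
          · left
            exact swap_apply_of_ne_of_ne hx1 hx2
      have hc := hd.commute
      rw [pow_two]
      calc swap i.castSucc i.succ * swap j.castSucc j.succ * (swap i.castSucc i.succ * swap j.castSucc j.succ)
          = swap i.castSucc i.succ * (swap j.castSucc j.succ * swap i.castSucc i.succ) * swap j.castSucc j.succ := by group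
        _ = swap i.castSucc i.succ * (swap i.castSucc i.succ * swap j.castSucc j.succ) * swap j.castSucc j.succ := by rw [hc.eq]
        _ = 1 := by simp [mul_assoc]

variable {W : Type*} [Group W] (σ : ℕ → W) (n : ℕ)

/-- descending word `σ n * σ (n-1) * ⋯ * σ (n-k+1)` -/
def u : ℕ → W
  | 0 => 1
  | k + 1 => u k * σ (n - k)

variable {σ n}

theorem comm_u (hcomm : ∀ m m', m + 2 ≤ m' → m' ≤ n → σ m * σ m' = σ m' * σ m) :
    ∀ k m, m + k < n → σ m * u σ n k = u σ n k * σ m := by
  intro k
  induction k with
  | zero => intro m _; simp [u]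
  | succ k ih =>
    intro m hm
    have h1 := ih m (by omega)
    have h2 := hcomm m (n - k) (by omega) (by omega)
    simp only [u]
    calc σ m * (u σ n k * σ (n - k)) = (σ m * u σ n k) * σ (n - k) := by group
      _ = u σ n k * (σ m * σ (n - k)) := by rw [h1]; group
      _ = u σ n k * σ (n - k) * σ m := by rw [h2]; group

theorem shift_u (hcomm : ∀ m m', m + 2 ≤ m' → m' ≤ n → σ m * σ m' = σ m' * σ m)
    (hbraid : ∀ m, m + 1 ≤ n → σ m * σ (m + 1) * σ m = σ (m + 1) * σ m * σ (m + 1)) :
    ∀ k m, m ≤ n → n + 1 < m + k → k ≤ n + 1 → u σ n k * σ m = σ (m - 1) * u σ n k := by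
  intro k
  induction k with
  | zero => intro m h1 h2 _; omega
  | succ k ih =>
    intro m hmn hk hkn
    by_cases hcase : n + 1 < m + k
    · have h1 := ih m hmn hcase (by omega)
      have h2 := hcomm (n - k) m (by omega) hmn
      simp only [u]
      calc u σ n k * σ (n - k) * σ m = u σ n k * (σ (n - k) * σ m) := by group
        _ = (u σ n k * σ m) * σ (n - k) := by rw [h2]; group
        _ = σ (m - 1) * (u σ n k * σ (n - k)) := by rw [h1]; group
    · -- m = n - k + 1
      have hm : m + k = n + 1 := by omega
      obtain ⟨k', rfl⟩ : ∃ k', k = k' + 1 := ⟨k - 1, by omega⟩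
      have e1 : n - k' = m := by omega
      have e2 : n - (k' + 1) = m - 1 := by omega
      have hb := hbraid (m - 1) (by omega)
      have e3 : m - 1 + 1 = m := by omega
      rw [e3] at hb
      have hc := comm_u hcomm k' (m - 1) (by omega)
      simp only [u]
      rw [e1, e2]
      calc u σ n k' * σ m * σ (m - 1) * σ m = u σ n k' * (σ m * σ (m - 1) * σ m) := by group
        _ = u σ n k' * (σ (m - 1) * σ m * σ (m - 1)) := by rw [hb]
        _ = (u σ n k' * σ (m - 1)) * σ m * σ (m - 1) := by group
        _ = (σ (m - 1) * u σ n k') * σ m * σ (m - 1) := by rw [hc]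
        _ = σ (m - 1) * (u σ n k' * σ m * σ (m - 1)) := by group

theorem closed_step (hinv : ∀ m, m ≤ n → σ m * σ m = 1)
    (hcomm : ∀ m m', m + 2 ≤ m' → m' ≤ n → σ m * σ m' = σ m' * σ m)
    (hbraid : ∀ m, m + 1 ≤ n → σ m * σ (m + 1) * σ m = σ (m + 1) * σ m * σ (m + 1))
    (P : Subgroup W) (hP : ∀ m, m < n → σ m ∈ P)
    (x : W) (hx : ∃ p ∈ P, ∃ k, k ≤ n + 1 ∧ x = p * u σ n k) (j : ℕ) (hj : j ≤ n) :
    ∃ p ∈ P, ∃ k, k ≤ n + 1 ∧ x * σ j = p * u σ n k := by
  obtain ⟨p, hp, k, hk, rfl⟩ := hx
  rcases lt_trichotomy (j + k) n with h | h | h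
  · refine ⟨p * σ j, P.mul_mem hp (hP j (by omega)), k, hk, ?_⟩
    have := comm_u hcomm k j h
    calc p * u σ n k * σ j = p * (u σ n k * σ j) := by group
      _ = p * (σ j * u σ n k) := by rw [this]
      _ = p * σ j * u σ n k := by group
  · refine ⟨p, hp, k + 1, by omega, ?_⟩
    have e : n - k = j := by omega
    simp only [u, e]
    group
  · by_cases h' : j + k = n + 1
    · obtain ⟨k', rfl⟩ : ∃ k', k = k' + 1 := ⟨k - 1, by omega⟩
      refine ⟨p, hp, k', by omega, ?_⟩
      have e : n - k' = j := by omega
      simp only [u, e]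
      calc p * (u σ n k' * σ j) * σ j = p * u σ n k' * (σ j * σ j) := by group
        _ = p * u σ n k' := by rw [hinv j hj, mul_one]
    · have hs := shift_u hcomm hbraid k j hj (by omega) hk
      refine ⟨p * σ (j - 1), P.mul_mem hp (hP (j - 1) (by omega)), k, hk, ?_⟩
      calc p * u σ n k * σ j = p * (u σ n k * σ j) := by group
        _ = p * (σ (j - 1) * u σ n k) := by rw [hs]
        _ = p * σ (j - 1) * u σ n k := by group


/-- the Coxeter group of type A_n -/
abbrev WA (n : ℕ) : Type := (CoxeterMatrix.A n).Group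

/-- canonical Coxeter system -/
noncomputable abbrev csA (n : ℕ) : CoxeterSystem (CoxeterMatrix.A n) (WA n) :=
  (CoxeterMatrix.A n).toCoxeterSystem

theorem A_apply (n : ℕ) (i j : Fin n) : (CoxeterMatrix.A n).M i j =
    if i = j then 1 else (if (j : ℕ) + 1 = i ∨ (i : ℕ) + 1 = j then 3 else 2) := by
  simp [CoxeterMatrix.A]

/-- generators of `WA (n+1)` indexed by naturals -/
noncomputable def gen (n : ℕ) (m : ℕ) : WA (n + 1) :=
  if h : m < n + 1 then (csA (n + 1)).simple ⟨m, h⟩ else 1

theorem gen_inv (n m : ℕ) (hm : m ≤ n) : gen n m * gen n m = 1 := by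
  have h : m < n + 1 := by omega
  simp only [gen, h, dif_pos]
  exact (csA (n + 1)).simple_mul_simple_self _

theorem gen_comm (n m m' : ℕ) (h1 : m + 2 ≤ m') (h2 : m' ≤ n) :
    gen n m * gen n m' = gen n m' * gen n m := by
  have hm : m < n + 1 := by omega
  have hm' : m' < n + 1 := by omega
  simp only [gen, hm, hm', dif_pos]
  have hpow := (csA (n + 1)).simple_mul_simple_pow ⟨m, hm⟩ ⟨m', hm'⟩
  have hM : (CoxeterMatrix.A (n + 1)).M ⟨m, hm⟩ ⟨m', hm'⟩ = 2 := by
    rw [A_apply]
    have : (⟨m, hm⟩ : Fin (n + 1)) ≠ ⟨m', hm'⟩ := by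
      intro h; have := congrArg Fin.val h; simp at this; omega
    rw [if_neg this, if_neg]
    simp; omega
  rw [hM, pow_two] at hpow
  set a := (csA (n + 1)).simple ⟨m, hm⟩
  set b := (csA (n + 1)).simple ⟨m', hm'⟩
  have ha : a * a = 1 := (csA (n + 1)).simple_mul_simple_self _
  have hb : b * b = 1 := (csA (n + 1)).simple_mul_simple_self _
  have hainv : a⁻¹ = a := (csA (n + 1)).inv_simple _
  have hbinv : b⁻¹ = b := (csA (n + 1)).inv_simple _
  have h4 : a * b = (a * b)⁻¹ := eq_inv_of_mul_eq_one_left hpow
  rw [h4, mul_inv_rev, hainv, hbinv]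

theorem gen_braid (n m : ℕ) (h1 : m + 1 ≤ n) :
    gen n m * gen n (m + 1) * gen n m = gen n (m + 1) * gen n m * gen n (m + 1) := by
  have hm : m < n + 1 := by omega
  have hm' : m + 1 < n + 1 := by omega
  simp only [gen, hm, hm', dif_pos]
  have hpow := (csA (n + 1)).simple_mul_simple_pow ⟨m, hm⟩ ⟨m + 1, hm'⟩
  have hM : (CoxeterMatrix.A (n + 1)).M ⟨m, hm⟩ ⟨m + 1, hm'⟩ = 3 := by
    rw [A_apply]
    have : (⟨m, hm⟩ : Fin (n + 1)) ≠ ⟨m + 1, hm'⟩ := by
      intro h; have := congrArg Fin.val h; simp at this
    rw [if_neg this, if_pos]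
    right; rfl
  rw [hM] at hpow
  set a := (csA (n + 1)).simple ⟨m, hm⟩
  set b := (csA (n + 1)).simple ⟨m + 1, hm'⟩
  have ha : a * a = 1 := (csA (n + 1)).simple_mul_simple_self _
  have hb : b * b = 1 := (csA (n + 1)).simple_mul_simple_self _
  have hainv : a⁻¹ = a := (csA (n + 1)).inv_simple _
  have hbinv : b⁻¹ = b := (csA (n + 1)).inv_simple _
  have h3 : (a * b * a) * (b * a * b) = 1 := by
    have : (a * b) ^ 3 = (a * b * a) * (b * a * b) := by
      simp only [pow_succ, pow_zero, one_mul]; group
    rw [← this]; exact hpow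
  have h4 : a * b * a = (b * a * b)⁻¹ := eq_inv_of_mul_eq_one_left h3
  rw [h4]
  simp only [mul_inv_rev, hainv, hbinv, mul_assoc]

/-- the inclusion `WA n → WA (n+1)` -/
noncomputable def incl (n : ℕ) : WA n →* WA (n + 1) :=
  (csA n).lift ⟨fun i => (csA (n + 1)).simple i.castSucc, by
    intro i j
    have hM : (CoxeterMatrix.A n).M i j = (CoxeterMatrix.A (n + 1)).M i.castSucc j.castSucc := by
      rw [A_apply, A_apply]
      simp [Fin.ext_iff]
    rw [hM]
    exact (csA (n + 1)).simple_mul_simple_pow _ _⟩

theorem incl_simple (n : ℕ) (i : Fin n) :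
    incl n ((csA n).simple i) = (csA (n + 1)).simple i.castSucc := by
  simp only [incl]
  exact (csA n).lift_apply_simple _ i

theorem gen_mem_range (n m : ℕ) (hm : m < n) : gen n m ∈ (incl n).range := by
  have h : m < n + 1 := by omega
  simp only [gen, h, dif_pos]
  refine ⟨(csA n).simple ⟨m, hm⟩, ?_⟩
  rw [incl_simple]
  rfl

/-- every element of `WA (n+1)` is `p * u k` with `p` in the range of `incl`. -/
theorem exists_decomp (n : ℕ) (x : WA (n + 1)) :
    ∃ p ∈ (incl n).range, ∃ k, k ≤ n + 1 ∧ x = p * u (gen n) n k := by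
  induction x using (csA (n + 1)).simple_induction_right with
  | one => exact ⟨1, Subgroup.one_mem _, 0, by omega, by simp [u]⟩
  | mul_simple_right w i ih =>
    have := closed_step (gen_inv n) (gen_comm n) (gen_braid n) (incl n).range (gen_mem_range n)
      w ih i.val (by have := i.2; omega)
    have e : gen n i.val = (csA (n + 1)).simple i := by
      simp [gen, i.2]
    rw [e] at this
    exact this

theorem finite_and_card (n : ℕ) : Finite (WA n) ∧ Nat.card (WA n) ≤ (n + 1).factorial := by
  induction n with
  | zero =>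
    have hall : ∀ x : WA 0, x = 1 := by
      intro x
      induction x using (csA 0).simple_induction_right with
      | one => rfl
      | mul_simple_right w i ih => exact i.elim0
    have : Subsingleton (WA 0) := ⟨fun a b => by rw [hall a, hall b]⟩
    refine ⟨inferInstance, ?_⟩
    rw [Nat.card_unique]
    simp
  | succ n ih =>
    obtain ⟨hfin, hcard⟩ := ih
    let f : (incl n).range × Fin (n + 2) → WA (n + 1) := fun pk => pk.1.1 * u (gen n) n pk.2.val
    have hf : Function.Surjective f := by
      intro x
      obtain ⟨p, hp, k, hk, rfl⟩ := exists_decomp n x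
      exact ⟨(⟨p, hp⟩, ⟨k, by omega⟩), rfl⟩
    have hfinR : Finite (incl n).range := Finite.of_surjective _ (incl n).rangeRestrict_surjective
    have hcardR : Nat.card (incl n).range ≤ Nat.card (WA n) :=
      Nat.card_le_card_of_surjective _ (incl n).rangeRestrict_surjective
    refine ⟨Finite.of_surjective f hf, ?_⟩
    calc Nat.card (WA (n + 1)) ≤ Nat.card ((incl n).range × Fin (n + 2)) :=
          Nat.card_le_card_of_surjective f hf
      _ = Nat.card (incl n).range * (n + 2) := by rw [Nat.card_prod, Nat.card_fin]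
      _ ≤ (n + 1).factorial * (n + 2) := Nat.mul_le_mul_right _ (le_trans hcardR hcard)
      _ = (n + 1 + 1).factorial := by rw [Nat.factorial_succ (n + 1)]; ring


/-- The Coxeter presentation of the symmetric group: for every n, the symmetric group on n+1 letters is the Coxeter group of type A_n with the adjacent transpositions (i, i+1) as simple reflections; that is, it is presented by generators r_1, …, r_n subject to r_i² = 1, (r_i r_j)² = 1 for |i − j| > 1 and (r_i r_{i+1})³ = 1, with r_i mapping to (i, i+1). -/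
theorem result (n : ℕ) :
    ∃ cs : CoxeterSystem (CoxeterMatrix.A n) (Equiv.Perm (Fin (n + 1))), ∀ i : Fin n, cs.simple i = Equiv.swap i.castSucc i.succ := by
  classical
  let φ : WA n →* Equiv.Perm (Fin (n + 1)) :=
    (csA n).lift ⟨fun i => swap i.castSucc i.succ, swap_liftable n⟩
  have hφ : ∀ i : Fin n, φ ((csA n).simple i) = swap i.castSucc i.succ := fun i =>
    (csA n).lift_apply_simple (swap_liftable n) i
  have hsurj : Function.Surjective φ := by
    rw [← MonoidHom.mrange_eq_top, eq_top_iff, ← Equiv.Perm.mclosure_swap_castSucc_succ n,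
      Submonoid.closure_le]
    rintro _ ⟨i, rfl⟩
    exact ⟨(csA n).simple i, hφ i⟩
  obtain ⟨hfin, hcard⟩ := finite_and_card n
  have hcard' : Nat.card (WA n) ≤ Nat.card (Equiv.Perm (Fin (n + 1))) := by
    rw [Nat.card_perm, Nat.card_fin]
    exact hcard
  have hbij : Function.Bijective φ := hsurj.bijective_of_nat_card_le hcard'
  let e : WA n ≃* Equiv.Perm (Fin (n + 1)) := MulEquiv.ofBijective φ hbij
  refine ⟨⟨e.symm⟩, ?_⟩
  intro i
  exact hφ i

end Cfsg.Agent.S2530
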