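import Cfsg.Statements.S0291
import Cfsg.Agent.Lib.Helper08.QuadCount

set_option autoImplicit false
open Cfsg

namespace Cfsg.Agent.S0291

theorem arith_odd (q m : ℕ) (hq : 1 ≤ q) :
    q ^ m + (q ^ m - 1) * (q ^ (m - 1) * q) = q ^ (2 * m) := by
  rcases m with _ | k
  · simp
  · rw [Nat.add_sub_cancel, ← pow_succ]
    have h1 : 1 ≤ q ^ (k + 1) := Nat.one_le_pow _ _ hq
    have e1 : q ^ (2 * (k + 1)) = q ^ (k + 1) * q ^ (k + 1) := by
      rw [← pow_add]; congr 1; omega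
    rw [e1, Nat.sub_mul, one_mul]
    have h2 : q ^ (k + 1) ≤ q ^ (k + 1) * q ^ (k + 1) := Nat.le_mul_of_pos_left _ h1
    omega


/-- For q odd, the form x_0^2 + sum_{i<m} x_i y_i on F^(2m+1) has exactly q^(2m) zeros. -/
theorem result {F : Type*} [Field F] [Fintype F] {q : ℕ} (hF : Fintype.card F = q) (hodd : Odd q) (m : ℕ) : Nat.card {v : Unit ⊕ (Fin m ⊕ Fin m) → F // Cfsg.quadFormOdd m F v = 0} = q ^ (2 * m) := by
  classical
  let e : (Unit ⊕ (Fin m ⊕ Fin m) → F) ≃ (Fin m → F) × (Fin m → F) × F :=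
    { toFun := fun v => (fun i => v (.inr (.inl i)), fun i => v (.inr (.inr i)), v (.inl ()))
      invFun := fun p => Sum.elim (fun _ => p.2.2) (Sum.elim p.1 p.2.1)
      left_inv := fun v => by ext (i | i | i) <;> rfl
      right_inv := fun p => by rcases p with ⟨x, y, z⟩; rfl }
  have h := Cfsg.Agent.Lib.Helper08.natCard_zeros_of_equiv (F := F) (ι := Fin m) (A := F)
    (Cfsg.quadFormOdd m F) (fun a => a ^ 2) e (fun v => by simp [Cfsg.quadFormOdd, e, add_comm])
  rw [h]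
  have h1 : Nat.card {a : F // a ^ 2 = 0} = 1 := by
    rw [Nat.card_eq_one_iff_unique]
    refine ⟨⟨fun x y => Subtype.ext ?_⟩, ⟨⟨0, by simp⟩⟩⟩
    have hx := x.2
    have hy := y.2
    rw [pow_eq_zero_iff (by norm_num)] at hx hy
    rw [hx, hy]
  rw [h1]
  simp only [Fintype.card_fin, hF, mul_one]
  have hq : 1 ≤ q := by rw [← hF]; exact Fintype.card_pos
  exact arith_odd q m hq

end Cfsg.Agent.S0291
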