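import Cfsg.Statements.S0791
import Cfsg.Agent.Lib.Helper50.StdForms

set_option autoImplicit false
open Cfsg

namespace Cfsg.Agent.S0791

/-- −1 ∈ Ω⁻_2m(q) iff q^m ≡ −1 (mod 4), for q odd and m ≥ 1; for the minus-type form quadFormMinus (m−1) with anisotropic binary part. -/
theorem result {F : Type*} [Field F] [Fintype F] {q : ℕ} (hF : Fintype.card F = q) (hodd : Odd q) (m : ℕ) (hm : 1 ≤ m) (a b : F) (hab : ∀ z₁ z₂ : F, z₁ ^ 2 + a * z₁ * z₂ + b * z₂ ^ 2 = 0 → z₁ = 0 ∧ z₂ = 0) : (∃ g : ↥(Cfsg.isometryGroup F (Cfsg.quadFormMinus (m - 1) F a b)), g ∈ Cfsg.Omega F (Cfsg.quadFormMinus (m - 1) F a b) ∧ ((g : Matrix.GeneralLinearGroup ((Fin (m - 1) ⊕ Fin (m - 1)) ⊕ Fin 2) F) : Matrix ((Fin (m - 1) ⊕ Fin (m - 1)) ⊕ Fin 2) ((Fin (m - 1) ⊕ Fin (m - 1)) ⊕ Fin 2) F) = -1) ↔ q ^ m % 4 = 3 := by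
  have h2 : (2 : F) ≠ 0 := Cfsg.Agent.Lib.Helper50.two_ne_zero_of_odd_card hF hodd
  have hm1 : m - 1 + 1 = m := Nat.sub_add_cancel hm
  have hns : ¬ IsSquare (a ^ 2 - 4 * b) := Cfsg.Agent.Lib.Helper50.disc_not_isSquare h2 a b hab
  have hns0 : a ^ 2 - 4 * b ≠ 0 := fun h => hns (h ▸ ⟨0, by ring⟩)
  have hx : ((-1 : F) ^ m) ≠ 0 := pow_ne_zero _ (neg_ne_zero.mpr one_ne_zero)
  have hdet := Cfsg.Agent.Lib.Helper50.det_minus_gram (F := F) (m - 1) a b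
  rw [hm1] at hdet
  have hne : (Matrix.fromBlocks
        (Matrix.fromBlocks (0 : Matrix (Fin (m - 1)) (Fin (m - 1)) F) (1 : Matrix (Fin (m - 1)) (Fin (m - 1)) F)
        (1 : Matrix (Fin (m - 1)) (Fin (m - 1)) F) (0 : Matrix (Fin (m - 1)) (Fin (m - 1)) F))
        (0 : Matrix (Fin (m - 1) ⊕ Fin (m - 1)) (Fin 2) F) (0 : Matrix (Fin 2) (Fin (m - 1) ⊕ Fin (m - 1)) F)
        (!![2, a; a, 2 * b] : Matrix (Fin 2) (Fin 2) F)).det ≠ 0 := by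
    rw [hdet]; exact mul_ne_zero hx hns0
  have hcard : Even (Fintype.card ((Fin (m - 1) ⊕ Fin (m - 1)) ⊕ Fin 2)) := by
    simp only [Fintype.card_sum, Fintype.card_fin]; exact ⟨m - 1 + 1, by ring⟩
  rw [Cfsg.Agent.Lib.Helper50.neg_one_mem_Omega_iff h2 (Cfsg.quadFormMinus (m - 1) F a b) _
    (Cfsg.Agent.Lib.Helper50.quadFormMinus_smul (m - 1) a b)
    (Cfsg.Agent.Lib.Helper50.polar_quadFormMinus (m - 1) a b)
    hne hcard, hdet, Cfsg.Agent.Lib.Helper50.isSquare_mul_nonsquare_iff hx hns,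
    Cfsg.Agent.Lib.Helper50.isSquare_neg_one_pow_iff hF hodd,
    Cfsg.Agent.Lib.Helper50.even_mul_half_iff hodd]
  have := Cfsg.Agent.Lib.Helper50.odd_pow_mod_four hodd m
  omega

end Cfsg.Agent.S0791
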