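import Cfsg.Statements.S0790
import Cfsg.Agent.Lib.Helper50.StdForms

set_option autoImplicit false
open Cfsg

namespace Cfsg.Agent.S0790

/-- −1 ∈ Ω⁺_2m(q) iff q^m ≡ 1 (mod 4), for q odd and m ≥ 1 (so that in the other case SO⁺_2m(q) = 2 × Ω⁺_2m(q)). -/
theorem result {F : Type*} [Field F] [Fintype F] {q : ℕ} (hF : Fintype.card F = q) (hodd : Odd q) (m : ℕ) (hm : 1 ≤ m) : (∃ g : ↥(Cfsg.isometryGroup F (Cfsg.quadFormPlus m F)), g ∈ Cfsg.Omega F (Cfsg.quadFormPlus m F) ∧ ((g : Matrix.GeneralLinearGroup (Fin m ⊕ Fin m) F) : Matrix (Fin m ⊕ Fin m) (Fin m ⊕ Fin m) F) = -1) ↔ q ^ m % 4 = 1 := by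
  have h2 : (2 : F) ≠ 0 := Cfsg.Agent.Lib.Helper50.two_ne_zero_of_odd_card hF hodd
  have hdet : (Matrix.fromBlocks (0 : Matrix (Fin m) (Fin m) F) (1 : Matrix (Fin m) (Fin m) F)
        (1 : Matrix (Fin m) (Fin m) F) (0 : Matrix (Fin m) (Fin m) F)).det = (-1) ^ m := by
    rw [Cfsg.Agent.Lib.Helper50.det_hyp, Fintype.card_fin]
  have hne : (Matrix.fromBlocks (0 : Matrix (Fin m) (Fin m) F) (1 : Matrix (Fin m) (Fin m) F)
        (1 : Matrix (Fin m) (Fin m) F) (0 : Matrix (Fin m) (Fin m) F)).det ≠ 0 := by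
    rw [hdet]; exact pow_ne_zero _ (neg_ne_zero.mpr one_ne_zero)
  have hcard : Even (Fintype.card (Fin m ⊕ Fin m)) := by
    rw [Fintype.card_sum, Fintype.card_fin]; exact ⟨m, rfl⟩
  rw [Cfsg.Agent.Lib.Helper50.neg_one_mem_Omega_iff h2 (Cfsg.quadFormPlus m F) _
    (Cfsg.Agent.Lib.Helper50.quadFormPlus_smul m) (Cfsg.Agent.Lib.Helper50.polar_quadFormPlus m)
    hne hcard, hdet, Cfsg.Agent.Lib.Helper50.isSquare_neg_one_pow_iff hF hodd,
    Cfsg.Agent.Lib.Helper50.even_mul_half_iff hodd]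

end Cfsg.Agent.S0790
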