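import Cfsg.Statements.S0749

set_option autoImplicit false
open Cfsg

namespace Cfsg.Agent.S0749

open Module LinearMap.BilinForm

section
variable {F V : Type*} [Field F] [AddCommGroup V] [Module F V] [FiniteDimensional F V]
  (B : LinearMap.BilinForm F V)

/-- Lemma R : radicals. -/
theorem orth_le_of_map_orth_le (hB : B.Nondegenerate) (X : Submodule F V) (f : V →ₗ[F] V)
    (hiso : ∀ x ∈ X, ∀ x' ∈ X, B (f x) (f x') = B x x')
    (hY : orthogonal B (X.map f) ≤ X.map f) : orthogonal B X ≤ X := by
  set Y := X.map f with hYdef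
  set P := X ⊓ orthogonal B X with hP
  have h1 : orthogonal B Y ≤ P.map f := by
    intro y hy
    obtain ⟨x, hxX, rfl⟩ := Submodule.mem_map.mp (hY hy)
    refine Submodule.mem_map.mpr ⟨x, ⟨hxX, ?_⟩, rfl⟩
    rw [SetLike.mem_coe, mem_orthogonal_iff]
    intro n hn
    rw [← hiso n hn x hxX]
    exact (mem_orthogonal_iff.mp hy) (f n) (Submodule.mem_map_of_mem hn)
  have d1 := Submodule.finrank_mono h1
  have d2 : finrank F (P.map f) ≤ finrank F P := Submodule.finrank_map_le f P
  have d3 : finrank F Y ≤ finrank F X := Submodule.finrank_map_le f X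
  have d4 := finrank_orthogonal hB X
  have d5 := finrank_orthogonal hB Y
  have d6 : finrank F X ≤ finrank F V := Submodule.finrank_le X
  have hle : finrank F (orthogonal B X) ≤ finrank F P := by omega
  have hPeq : P = orthogonal B X := Submodule.eq_of_le_of_finrank_le inf_le_right hle
  rw [← hPeq]
  exact inf_le_left

theorem witt_alt_aux (hB : B.Nondegenerate) (hA : B.IsAlt) :
    ∀ n : ℕ, ∀ X : Submodule F V, finrank F V - finrank F X = n → ∀ f : V →ₗ[F] V,
      (∀ x ∈ X, ∀ x' ∈ X, B (f x) (f x') = B x x') → (∀ x ∈ X, f x = 0 → x = 0) →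
      ∃ g : V ≃ₗ[F] V, (∀ u v : V, B (g u) (g v) = B u v) ∧ ∀ x ∈ X, g x = f x := by
  have hrefl : B.IsRefl := hA.isRefl
  intro n
  induction n using Nat.strong_induction_on with
  | _ n ih =>
  intro X hn f hiso hinj
  by_cases hX : X = ⊤
  · -- f is injective on all of V
    subst hX
    have hinj' : Function.Injective f := by
      rw [← LinearMap.ker_eq_bot, LinearMap.ker_eq_bot']
      intro x hx
      exact hinj x Submodule.mem_top hx
    refine ⟨LinearEquiv.ofInjectiveEndo f hinj', ?_, ?_⟩
    · intro u v
      simp only [LinearEquiv.coe_ofInjectiveEndo]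
      exact hiso u Submodule.mem_top v Submodule.mem_top
    · intro x _
      simp
  · -- pick v ∉ X
    obtain ⟨v, hv⟩ : ∃ v : V, v ∉ X := by
      by_contra hcon
      push Not at hcon
      exact hX (eq_top_iff.mpr fun x _ => hcon x)
    set Y := X.map f with hYdef
    -- step (a): w0
    set h : X →ₗ[F] V := f.domRestrict X with hh
    have hhinj : Function.Injective h := by
      rw [← LinearMap.ker_eq_bot, LinearMap.ker_eq_bot']
      intro x hx
      have : f x = 0 := hx
      exact Subtype.ext (hinj x x.2 this)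
    obtain ⟨ψ, hψ⟩ := LinearMap.dualMap_surjective_of_injective hhinj ((B v).domRestrict X)
    set w0 := (B.toDual hB).symm ψ with hw0
    have hw0prop : ∀ x ∈ X, B w0 (f x) = B v x := by
      intro x hx
      rw [hw0, apply_toDual_symm_apply]
      have := congrArg (fun l => l ⟨x, hx⟩) hψ
      simpa [hh] using this
    -- step (b): w
    obtain ⟨w, hwprop, hwY⟩ : ∃ w : V, (∀ x ∈ X, B w (f x) = B v x) ∧ w ∉ Y := by
      by_cases hw0Y : w0 ∈ Y
      · obtain ⟨x0, hx0X, hx0⟩ := Submodule.mem_map.mp hw0Y
        have hu0 : v - x0 ∈ orthogonal B X := by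
          rw [mem_orthogonal_iff]
          intro n hn
          apply hrefl
          rw [map_sub, LinearMap.sub_apply, ← hw0prop n hn, ← hx0, hiso x0 hx0X n hn, sub_self]
        have hu0X : v - x0 ∉ X := by
          intro hmem
          apply hv
          have := X.add_mem hmem hx0X
          simpa using this
        have hnotle : ¬ (orthogonal B Y ≤ Y) := by
          intro hle
          exact hu0X (orth_le_of_map_orth_le B hB X f hiso hle hu0)
        obtain ⟨u, huY, huY'⟩ := Set.not_subset.mp hnotle
        refine ⟨w0 + u, ?_, ?_⟩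
        · intro x hx
          rw [map_add, LinearMap.add_apply, hw0prop x hx]
          have : B u (f x) = 0 := hrefl _ _ ((mem_orthogonal_iff.mp huY) (f x) (Submodule.mem_map_of_mem hx))
          rw [this, add_zero]
        · intro hmem
          apply huY'
          have := Y.sub_mem hmem hw0Y
          simpa using this
      · exact ⟨w0, hw0prop, hw0Y⟩
    -- the functional π
    obtain ⟨π0, hπ0v, hπ0X⟩ := Submodule.exists_dual_map_eq_bot_of_notMem hv inferInstance
    set π : Module.Dual F V := (π0 v)⁻¹ • π0 with hπ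
    have hπv : π v = 1 := by
      simp [hπ, inv_mul_cancel₀ hπ0v]
    have hπX : ∀ x ∈ X, π x = 0 := by
      intro x hx
      have : π0 x ∈ X.map π0 := Submodule.mem_map_of_mem hx
      rw [hπ0X, Submodule.mem_bot] at this
      simp [hπ, this]
    -- new map
    set f' : V →ₗ[F] V := f + (LinearMap.toSpanSingleton F V (w - f v)).comp π with hf'
    have hf'X : ∀ x ∈ X, f' x = f x := by
      intro x hx
      simp [hf', hπX x hx]
    have hf'v : f' v = w := by
      simp [hf', hπv]
    set X' := X ⊔ Submodule.span F {v} with hX'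
    have hXlt : X < X' := by
      apply lt_of_le_of_ne le_sup_left
      intro heq
      apply hv
      rw [heq]
      exact Submodule.mem_sup_right (Submodule.mem_span_singleton_self v)
    have hdecomp : ∀ y ∈ X', ∃ x ∈ X, ∃ c : F, y = x + c • v := by
      intro y hy
      obtain ⟨x, hx, z, hz, rfl⟩ := Submodule.mem_sup.mp hy
      obtain ⟨c, rfl⟩ := Submodule.mem_span_singleton.mp hz
      exact ⟨x, hx, c, rfl⟩
    have hf'val : ∀ x ∈ X, ∀ c : F, f' (x + c • v) = f x + c • w := by
      intro x hx c
      rw [map_add, map_smul, hf'X x hx, hf'v]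
    have hBfw : ∀ x ∈ X, B (f x) w = B x v := by
      intro x hx
      rw [← hA.neg_eq, hwprop x hx, hA.neg_eq]
    have hiso' : ∀ y ∈ X', ∀ y' ∈ X', B (f' y) (f' y') = B y y' := by
      intro y hy y' hy'
      obtain ⟨x, hx, c, rfl⟩ := hdecomp y hy
      obtain ⟨x', hx', c', rfl⟩ := hdecomp y' hy'
      rw [hf'val x hx c, hf'val x' hx' c']
      simp only [map_add, map_smul, LinearMap.add_apply, LinearMap.smul_apply, smul_eq_mul,
        hiso x hx x' hx', hBfw x hx, hwprop x' hx', hA.self_eq_zero]
    have hinj' : ∀ y ∈ X', f' y = 0 → y = 0 := by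
      intro y hy hy0
      obtain ⟨x, hx, c, rfl⟩ := hdecomp y hy
      rw [hf'val x hx c] at hy0
      have hc : c = 0 := by
        by_contra hc
        apply hwY
        have hw : w = f (-(c⁻¹ • x)) := by
          have : c • w = -(f x) := eq_neg_of_add_eq_zero_right hy0
          rw [map_neg, map_smul, ← smul_neg, ← this, smul_smul, inv_mul_cancel₀ hc, one_smul]
        rw [hw]
        exact Submodule.mem_map_of_mem (X.neg_mem (X.smul_mem _ hx))
      subst hc
      simp only [zero_smul, add_zero] at hy0 ⊢
      exact hinj x hx hy0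
    have hlt : finrank F V - finrank F X' < n := by
      have h1 := Submodule.finrank_lt_finrank_of_lt hXlt
      have h2 : finrank F X' ≤ finrank F V := Submodule.finrank_le X'
      omega
    obtain ⟨g, hg1, hg2⟩ := ih _ hlt X' rfl f' hiso' hinj'
    refine ⟨g, hg1, ?_⟩
    intro x hx
    rw [hg2 x (le_sup_left (a := X) hx), hf'X x hx]

end

/-- Witt's Lemma for alternating forms. If B is a non-degenerate alternating bilinear form on a finite-dimensional vector space V (over any field) and φ is a linear equivalence between subspaces X and Y of V preserving B, then φ extends to a B-preserving linear automorphism of V. -/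
theorem result {F V : Type*} [Field F] [AddCommGroup V] [Module F V] [FiniteDimensional F V] (B : LinearMap.BilinForm F V) (hB : B.Nondegenerate) (hA : B.IsAlt) (X Y : Submodule F V) (φ : X ≃ₗ[F] Y) (hφ : ∀ x x' : X, B (φ x : V) (φ x' : V) = B (x : V) (x' : V)) : ∃ g : V ≃ₗ[F] V, (∀ u v : V, B (g u) (g v) = B u v) ∧ ∀ x : X, g (x : V) = (φ x : V) := by
  -- extend φ to a global linear map
  obtain ⟨f, hf⟩ := LinearMap.exists_extend (Y.subtype.comp (φ : X →ₗ[F] Y))
  have hfX : ∀ x : X, f x = (φ x : V) := by
    intro x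
    have := congrArg (fun l => l x) hf
    simpa using this
  obtain ⟨g, hg1, hg2⟩ := witt_alt_aux B hB hA _ X rfl f
    (by
      intro x hx x' hx'
      have h1 := hfX ⟨x, hx⟩
      have h2 := hfX ⟨x', hx'⟩
      simp only at h1 h2
      rw [h1, h2]
      exact hφ ⟨x, hx⟩ ⟨x', hx'⟩)
    (by
      intro x hx h0
      have h1 := hfX ⟨x, hx⟩
      simp only at h1
      rw [h1] at h0
      have : φ ⟨x, hx⟩ = 0 := Subtype.ext h0
      have := φ.map_eq_zero_iff.mp this
      exact congrArg Subtype.val this)
  refine ⟨g, hg1, ?_⟩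
  intro x
  rw [hg2 x x.2, hfX x]

end Cfsg.Agent.S0749
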