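import Cfsg.Statements.S2728
import Cfsg.Agent.Lib.Helper08.SimStd
import Cfsg.Agent.Lib.Helper08.PgoModInn
import Cfsg.Agent.Lib.Helper08.PowMod4
import Cfsg.Agent.Lib.Helper50.StdForms
import Cfsg.Agent.S0791

set_option autoImplicit false
open Cfsg

namespace Cfsg.Agent.S2728


open Cfsg.Agent.Lib.Helper08

set_option maxHeartbeats 1000000


/-- Let T = PΩ⁻_{2m+2}(F) with m ≥ 3 and |F| = q odd (form with anisotropic binary part). The image G̃ of the conformal orthogonal group in Aut(T), taken modulo the inner automorphism group T, is dihedral of order 8 when m is even and q ≡ 3 (mod 4), and elementary abelian of order 4 otherwise. -/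
theorem result {F : Type*} [Field F] [Fintype F] (hodd : Odd (Fintype.card F)) {m : ℕ} (hm : 3 ≤ m) (a b : F) (hab : (∀ z₁ z₂ : F, z₁ ^ 2 + a * z₁ * z₂ + b * z₂ ^ 2 = 0 → z₁ = 0 ∧ z₂ = 0)) :
    ((Even m ∧ Fintype.card F % 4 = 3) → (∃ φ : ↥(Cfsg.pgoAut F (Cfsg.quadFormMinus m F a b)) →* DihedralGroup 4, Function.Surjective φ ∧ φ.ker = (Cfsg.Inn (Cfsg.POmega F (Cfsg.quadFormMinus m F a b))).subgroupOf (Cfsg.pgoAut F (Cfsg.quadFormMinus m F a b)))) ∧ (¬ (Even m ∧ Fintype.card F % 4 = 3) → (∃ φ : ↥(Cfsg.pgoAut F (Cfsg.quadFormMinus m F a b)) →* Multiplicative (ZMod 2 × ZMod 2), Function.Surjective φ ∧ φ.ker = (Cfsg.Inn (Cfsg.POmega F (Cfsg.quadFormMinus m F a b))).subgroupOf (Cfsg.pgoAut F (Cfsg.quadFormMinus m F a b)))) := by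
  have : DecidableEq F := Classical.decEq F
  have hm3 : 3 ≤ m := hm
  have h2 : (2 : F) ≠ 0 := Cfsg.Agent.Lib.Helper50.two_ne_zero_of_odd_card rfl hodd
  obtain ⟨Q, hQdef⟩ : ∃ Q : QuadraticForm F ((Fin m ⊕ Fin m) ⊕ Fin 2 → F),
      Q = (qdataMinus (F := F) m a b hab).qf := ⟨_, rfl⟩
  have hcoe : ⇑Q = Cfsg.quadFormMinus m F a b := by rw [hQdef]; rfl
  have hQ : (QuadraticMap.polarBilin Q).Nondegenerate := by
    rw [hQdef]; exact (qdataMinus (F := F) m a b hab).qf_nondeg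
  have HT : HypTriple Q (fun i => Pi.single (Sum.inl (Sum.inl (Fin.castLE hm3 i))) 1)
      (fun i => Pi.single (Sum.inl (Sum.inr (Fin.castLE hm3 i))) 1) := by
    rw [hQdef]; exact hypTriple_minus (F := F) m hm3 a b hab
  have hcard : Fintype.card ((Fin m ⊕ Fin m) ⊕ Fin 2) = 2 * (m + 1) := by
    rw [Fintype.card_sum, Fintype.card_sum, Fintype.card_fin, Fintype.card_fin]; ring
  obtain ⟨ζ, hζ⟩ := Cfsg.Agent.Lib.Helper50.exists_nonsquare_of_two_ne_zero h2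
  have hζ0 : ζ ≠ 0 := fun h => hζ (h ▸ ⟨0, by ring⟩)
  obtain ⟨c₁, c₂, hc⟩ := exists_norm_eq a b hab ζ hζ0
  have hc' : c₁ ^ 2 + a * c₁ * c₂ + b * c₂ ^ 2 = ((Units.mk0 ζ hζ0 : Fˣ) : F) := hc
  have hmem : minusGL m a b (Units.mk0 ζ hζ0) c₁ c₂ hc' ∈
      Cfsg.Geo.quadSimilarityGroup (F := F) ⇑Q := by
    rw [hcoe]; exact minusGL_mem m a b _ c₁ c₂ hc'
  have hu : Q (Pi.single (Sum.inl (Sum.inl (Fin.castLE hm3 0))) 1 +
      Pi.single (Sum.inl (Sum.inr (Fin.castLE hm3 0))) 1) = 1 := by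
    rw [QuadraticMap.map_add (⇑Q), HT.qe 0, HT.qf 0, HT.ef]; simp
  have hmult : multFun Q ⟨_, hmem⟩ = Units.mk0 ζ hζ0 :=
    multFun_unique Q hu ⟨_, hmem⟩ _ (fun v => by
      have h1 := quadFormMinus_minusMat m a b ζ c₁ c₂ hc v
      rw [← hcoe] at h1
      exact h1)
  have hmain := pgoAut_mod_inn Q (m + 1) h2 hQ hcard _ _ HT ⟨_, hmem⟩
    (by rw [hmult]; exact hζ) ⟨ζ, minusMat_mul_self m a b ζ c₁ c₂ hc⟩
  have hcrit : (∃ g : ↥(Cfsg.isometryGroup F (Cfsg.quadFormMinus m F a b)),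
      g ∈ Cfsg.Omega F (Cfsg.quadFormMinus m F a b) ∧
      ((g : Matrix.GeneralLinearGroup ((Fin m ⊕ Fin m) ⊕ Fin 2) F) :
        Matrix ((Fin m ⊕ Fin m) ⊕ Fin 2) ((Fin m ⊕ Fin m) ⊕ Fin 2) F) = -1) ↔
      Fintype.card F ^ (m + 1) % 4 = 3 :=
    Cfsg.Agent.S0791.result (F := F) rfl hodd (m + 1) (by omega) a b hab
  rw [← hcoe] at hcrit
  have hq4 : Fintype.card F % 4 = 1 ∨ Fintype.card F % 4 = 3 := by
    rcases hodd with ⟨r, hr⟩
    omega
  have key : ∀ (q : ((Fin m ⊕ Fin m) ⊕ Fin 2 → F) → F), ⇑Q = q →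
      ((Even m ∧ Fintype.card F % 4 = 3) →
        (∃ φ : ↥(Cfsg.pgoAut F q) →* DihedralGroup 4, Function.Surjective φ ∧
          φ.ker = (Cfsg.Inn (Cfsg.POmega F q)).subgroupOf (Cfsg.pgoAut F q))) ∧
      (¬ (Even m ∧ Fintype.card F % 4 = 3) →
        (∃ φ : ↥(Cfsg.pgoAut F q) →* Multiplicative (ZMod 2 × ZMod 2), Function.Surjective φ ∧
          φ.ker = (Cfsg.Inn (Cfsg.POmega F q)).subgroupOf (Cfsg.pgoAut F q))) := by
    rintro q rfl
    constructor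
    · rintro ⟨hme, h3⟩
      apply hmain.1
      rw [hcrit]
      exact pow_mod_four_of_mod_three_odd h3 (Even.add_one hme)
    · intro hn
      apply hmain.2
      rw [hcrit]
      rcases hq4 with h1 | h3
      · rw [pow_mod_four_of_mod_one h1 (m + 1)]
        norm_num
      · have hmo : Odd m := by
          rw [← Nat.not_even_iff_odd]
          intro hme
          exact hn ⟨hme, h3⟩
        rw [pow_mod_four_of_mod_three_even h3 (Odd.add_one hmo)]
        norm_num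
  exact key _ hcoe

end Cfsg.Agent.S2728
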