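import Cfsg.Statements.S2727
import Cfsg.Agent.Lib.Helper08.AutOmegaKer
import Cfsg.Agent.Lib.Helper08.OmegaStd
import Cfsg.Agent.Lib.Helper08.PowMod4
import Cfsg.Agent.Lib.Helper50.StdForms
import Cfsg.Agent.S0791

set_option autoImplicit false
open Cfsg

namespace Cfsg.Agent.S2727


open Cfsg.Agent.Lib.Helper08


/-- Let T = PΩ⁻_{2m+2}(F) with m ≥ 3 and |F| = q odd (form with anisotropic binary part). The image of the special orthogonal group in Aut(T) contains the inner automorphism group T with index 2 when m is even and q ≡ 3 (mod 4), and coincides with it otherwise (the index is 2 exactly when the discriminant of the form is a square). -/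
theorem result {F : Type*} [Field F] [Fintype F] (hodd : Odd (Fintype.card F)) {m : ℕ} (hm : 3 ≤ m) (a b : F) (hab : (∀ z₁ z₂ : F, z₁ ^ 2 + a * z₁ * z₂ + b * z₂ ^ 2 = 0 → z₁ = 0 ∧ z₂ = 0)) :
    ((Even m ∧ Fintype.card F % 4 = 3) → (Cfsg.Inn (Cfsg.POmega F (Cfsg.quadFormMinus m F a b))).relIndex (Cfsg.psoAut F (Cfsg.quadFormMinus m F a b)) = 2) ∧ (¬ (Even m ∧ Fintype.card F % 4 = 3) → (Cfsg.Inn (Cfsg.POmega F (Cfsg.quadFormMinus m F a b))).relIndex (Cfsg.psoAut F (Cfsg.quadFormMinus m F a b)) = 1) := by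
  classical
  have hm3 : 3 ≤ m := hm
  have h2 : (2 : F) ≠ 0 := Cfsg.Agent.Lib.Helper50.two_ne_zero_of_odd_card rfl hodd
  obtain ⟨Q, hQdef⟩ : ∃ Q : QuadraticForm F ((Fin m ⊕ Fin m) ⊕ Fin 2 → F),
      Q = (qdataMinus (F := F) m a b hab).qf := ⟨_, rfl⟩
  have hcoe : ⇑Q = Cfsg.quadFormMinus m F a b := by rw [hQdef]; rfl
  have hQ : (QuadraticMap.polarBilin Q).Nondegenerate := by
    rw [hQdef]; exact (qdataMinus (F := F) m a b hab).qf_nondeg
  have HT : HypTriple Q (fun i => Pi.single (Sum.inl (Sum.inl (Fin.castLE hm3 i))) 1)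
      (fun i => Pi.single (Sum.inl (Sum.inr (Fin.castLE hm3 i))) 1) := by
    rw [hQdef]; exact hypTriple_minus (F := F) m hm3 a b hab
  have heven : Even (Fintype.card ((Fin m ⊕ Fin m) ⊕ Fin 2)) := by
    rw [Fintype.card_sum, Fintype.card_sum, Fintype.card_fin, Fintype.card_fin]
    exact ⟨m + 1, by ring⟩
  have hmain := relIndex_inn_psoAut Q h2 hQ _ _ HT heven
  have hcrit : (∃ g : ↥(Cfsg.isometryGroup F (Cfsg.quadFormMinus m F a b)),
      g ∈ Cfsg.Omega F (Cfsg.quadFormMinus m F a b) ∧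
      ((g : Matrix.GeneralLinearGroup ((Fin m ⊕ Fin m) ⊕ Fin 2) F) :
        Matrix ((Fin m ⊕ Fin m) ⊕ Fin 2) ((Fin m ⊕ Fin m) ⊕ Fin 2) F) = -1) ↔
      Fintype.card F ^ (m + 1) % 4 = 3 :=
    Cfsg.Agent.S0791.result (F := F) rfl hodd (m + 1) (by omega) a b hab
  rw [← hcoe] at hcrit ⊢
  have hq4 : Fintype.card F % 4 = 1 ∨ Fintype.card F % 4 = 3 := by
    rcases hodd with ⟨r, hr⟩
    omega
  constructor
  · rintro ⟨hme, h3⟩
    apply hmain.1
    rw [hcrit]
    exact pow_mod_four_of_mod_three_odd h3 (Even.add_one hme)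
  · intro hn
    apply hmain.2
    rw [hcrit]
    rcases hq4 with h1 | h3
    · rw [pow_mod_four_of_mod_one h1]; norm_num
    · have hmo : Odd m := by
        rw [← Nat.not_even_iff_odd]
        intro hme
        exact hn ⟨hme, h3⟩
      rw [pow_mod_four_of_mod_three_even h3 (Odd.add_one hmo)]
      norm_num

end Cfsg.Agent.S2727
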