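import Cfsg.Statements.S1536
-- import your own Cfsg.Agent.* helpers here
import Cfsg.Agent.Lib.Helper05.CharDecomp
import Cfsg.Agent.Lib.Helper05.BrauerPerm
import Cfsg.Agent.Lib.Helper84.Clifford

set_option autoImplicit false
open Cfsg

namespace Cfsg.Agent.S1536

open Cfsg.Agent.Lib.Helper05 (card_fixed_irr_eq_card_fixed_classes finite_irrCharacter isIrrCharacter_one)

section

variable {M : Type*} [Group M] [Finite M] (H : Subgroup M) [hN : H.Normal]

/-- conjugation by `x` on the normal subgroup `H` -/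
def cj (x : M) : H → H := fun h => ⟨x * h * x⁻¹, hN.conj_mem h h.2 x⟩

omit [Finite M] in
theorem cj_isConj (x : M) (g h : H) (hc : IsConj g h) : IsConj (cj H x g) (cj H x h) := by
  rw [isConj_iff] at hc ⊢
  obtain ⟨c, hc⟩ := hc
  refine ⟨cj H x c, ?_⟩
  apply Subtype.ext
  have := congrArg (fun t : H => (t : M)) hc
  simp only [Subgroup.coe_mul, Subgroup.coe_inv] at this
  simp only [cj, Subgroup.coe_mul, Subgroup.coe_inv]
  rw [← this]
  group

/-- **Brauer** for conjugation on a normal subgroup. -/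
theorem brauer_cj (x : M) :
    Nat.card {χ : Cfsg.IrrCharacter H // (fun g => (χ : H → ℂ) (cj H x g)) = (χ : H → ℂ)} =
      Nat.card {C : ConjClasses H // ∀ g, ConjClasses.mk g = C → IsConj (cj H x g) g} := by
  classical
  letI : Fintype H := Fintype.ofFinite H
  haveI : Finite (Cfsg.IrrCharacter H) := finite_irrCharacter
  letI : Fintype (Cfsg.IrrCharacter H) := Fintype.ofFinite _
  refine card_fixed_irr_eq_card_fixed_classes (cj H x) (cj_isConj H x) ?_
  intro χ
  exact Cfsg.Agent.Lib.Helper84.isIrrCharacter_conjFun H x χ.2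

end

/-- Let H be a normal subgroup of the finite group M whose order is coprime to its index. For x ∈ M: some non-principal irreducible character of H is unchanged under h ↦ θ(x h x⁻¹) if and only if some non-identity element of H commutes with x. -/
theorem result {M : Type*} [Group M] [Finite M] (H : Subgroup M) [hN : H.Normal] (hHall : Nat.Coprime (Nat.card H) H.index) (x : M) : (∃ θ : H → ℂ, Cfsg.IsIrrCharacter H θ ∧ θ ≠ (fun _ => 1) ∧ (fun h : H => θ ⟨x * h * x⁻¹, hN.conj_mem h h.2 x⟩) = θ) ↔ ∃ h ∈ H, h ≠ 1 ∧ x * h = h * x := by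
  classical
  have hB := brauer_cj H x
  haveI : Finite (Cfsg.IrrCharacter H) := finite_irrCharacter
  have hcj1 : cj H x 1 = 1 := by
    apply Subtype.ext
    simp [cj]
  constructor
  · rintro ⟨θ, hθ, hne, hfix⟩
    have h2 : 1 < Nat.card {χ : Cfsg.IrrCharacter H //
        (fun g => (χ : H → ℂ) (cj H x g)) = (χ : H → ℂ)} := by
      rw [Finite.one_lt_card_iff_nontrivial]
      refine ⟨⟨⟨⟨fun _ => 1, isIrrCharacter_one⟩, rfl⟩, ⟨⟨θ, hθ⟩, hfix⟩, ?_⟩⟩
      intro h
      apply hne
      have := congrArg (fun t => (t.1 : H → ℂ)) h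
      exact this.symm
    rw [hB, Finite.one_lt_card_iff_nontrivial] at h2
    -- a fixed class different from the class of 1
    obtain ⟨C, hC⟩ : ∃ C : {C : ConjClasses H // ∀ g, ConjClasses.mk g = C → IsConj (cj H x g) g},
        C.1 ≠ ConjClasses.mk 1 := by
      obtain ⟨a, b, hab⟩ := exists_pair_ne {C : ConjClasses H //
        ∀ g, ConjClasses.mk g = C → IsConj (cj H x g) g}
      by_cases ha : a.1 = ConjClasses.mk 1
      · refine ⟨b, fun hb => hab ?_⟩
        exact Subtype.ext (ha.trans hb.symm)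
      · exact ⟨a, ha⟩
    obtain ⟨c, hc⟩ := ConjClasses.exists_rep C.1
    have hconj : IsConj (cj H x c) c := C.2 c hc
    have hc1 : c ≠ 1 := by
      rintro rfl
      exact hC hc.symm
    by_contra hno
    push Not at hno
    -- the commutator map is injective
    let κ : H → H := fun k => ⟨(k : M) * x * (k : M)⁻¹ * x⁻¹, by
      have h1 : x * ((k : M)⁻¹) * x⁻¹ ∈ H := hN.conj_mem _ (H.inv_mem k.2) x
      have h2 : (k : M) * (x * ((k : M)⁻¹) * x⁻¹) ∈ H := H.mul_mem k.2 h1
      have e : (k : M) * x * (k : M)⁻¹ * x⁻¹ = (k : M) * (x * ((k : M)⁻¹) * x⁻¹) := by group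
      rw [e]; exact h2⟩
    have hκinj : Function.Injective κ := by
      intro k l hkl
      have h1 : (k : M) * x * (k : M)⁻¹ * x⁻¹ = (l : M) * x * (l : M)⁻¹ * x⁻¹ :=
        congrArg (fun t : H => (t : M)) hkl
      have h2 : (k : M) * x * (k : M)⁻¹ = (l : M) * x * (l : M)⁻¹ := mul_right_cancel h1
      have h3 : x * ((l : M)⁻¹ * k) = ((l : M)⁻¹ * k) * x := by
        have : (l : M)⁻¹ * ((k : M) * x * (k : M)⁻¹) * k = (l : M)⁻¹ * ((l : M) * x * (l : M)⁻¹) * k := by
          rw [h2]
        have e1 : (l : M)⁻¹ * ((k : M) * x * (k : M)⁻¹) * k = ((l : M)⁻¹ * k) * x := by group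
        have e2 : (l : M)⁻¹ * ((l : M) * x * (l : M)⁻¹) * k = x * ((l : M)⁻¹ * k) := by group
        rw [e1, e2] at this
        exact this.symm
      have h4 : (l : M)⁻¹ * k = 1 := by
        by_contra hne1
        exact hno _ (H.mul_mem (H.inv_mem l.2) k.2) hne1 h3
      apply Subtype.ext
      have : (k : M) = l := by
        have := congrArg (fun t => (l : M) * t) h4
        simpa using this
      exact this
    have hκsurj : Function.Surjective κ := Finite.injective_iff_surjective.mp hκinj
    obtain ⟨g, hg⟩ := isConj_iff.mp hconj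
    obtain ⟨k, hk⟩ := hκsurj g
    have hg' : (g : M) * (x * c * x⁻¹) * (g : M)⁻¹ = c := by
      have := congrArg (fun t : H => (t : M)) hg
      simpa [cj] using this
    have hk' : (k : M) * x * (k : M)⁻¹ * x⁻¹ = g := congrArg (fun t : H => (t : M)) hk
    -- x commutes with k⁻¹ c k
    have hcomm : x * ((k : M)⁻¹ * c * k) = ((k : M)⁻¹ * c * k) * x := by
      rw [← hk'] at hg'
      have e : (k : M) * x * (k : M)⁻¹ * x⁻¹ * (x * (c : M) * x⁻¹) * ((k : M) * x * (k : M)⁻¹ * x⁻¹)⁻¹
          = (k : M) * (x * ((k : M)⁻¹ * c * k) * x⁻¹) * (k : M)⁻¹ := by group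
      rw [e] at hg'
      have h5 : x * ((k : M)⁻¹ * c * k) * x⁻¹ = (k : M)⁻¹ * c * k := by
        have := congrArg (fun t => (k : M)⁻¹ * t * k) hg'
        have e2 : (k : M)⁻¹ * ((k : M) * (x * ((k : M)⁻¹ * c * k) * x⁻¹) * (k : M)⁻¹) * k
            = x * ((k : M)⁻¹ * c * k) * x⁻¹ := by group
        rw [e2] at this
        exact this
      have := congrArg (fun t => t * x) h5
      rw [← this]
      group
    have hmem : (k : M)⁻¹ * c * k ∈ H := H.mul_mem (H.mul_mem (H.inv_mem k.2) c.2) k.2
    have hne1 : (k : M)⁻¹ * c * k ≠ 1 := by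
      intro h
      apply hc1
      apply Subtype.ext
      have := congrArg (fun t => (k : M) * t * (k : M)⁻¹) h
      have e3 : (k : M) * ((k : M)⁻¹ * c * k) * (k : M)⁻¹ = c := by group
      rw [e3] at this
      simpa using this
    exact hno _ hmem hne1 hcomm
  · rintro ⟨h, hh, hh1, hcomm⟩
    set h' : H := ⟨h, hh⟩ with hh'
    have hcjh : cj H x h' = h' := by
      apply Subtype.ext
      simp only [cj, hh']
      rw [hcomm]
      group
    have hfix1 : ∀ g : H, ConjClasses.mk g = ConjClasses.mk (1 : H) → IsConj (cj H x g) g := by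
      intro g hg
      have : g = 1 := by
        rw [ConjClasses.mk_eq_mk_iff_isConj] at hg
        exact isConj_one_left.mp hg
      rw [this, hcj1]
    have hfixh : ∀ g : H, ConjClasses.mk g = ConjClasses.mk h' → IsConj (cj H x g) g := by
      intro g hg
      rw [ConjClasses.mk_eq_mk_iff_isConj] at hg
      have h1 := cj_isConj H x g h' hg
      rw [hcjh] at h1
      exact h1.trans hg.symm
    have hne : (ConjClasses.mk h' : ConjClasses H) ≠ ConjClasses.mk 1 := by
      intro h0
      rw [ConjClasses.mk_eq_mk_iff_isConj] at h0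
      have : h' = 1 := isConj_one_left.mp h0
      apply hh1
      exact congrArg (fun t : H => (t : M)) this
    have h2 : 1 < Nat.card {C : ConjClasses H //
        ∀ g, ConjClasses.mk g = C → IsConj (cj H x g) g} := by
      rw [Finite.one_lt_card_iff_nontrivial]
      refine ⟨⟨⟨ConjClasses.mk h', hfixh⟩, ⟨ConjClasses.mk 1, hfix1⟩, ?_⟩⟩
      intro h0
      exact hne (congrArg Subtype.val h0)
    rw [← hB, Finite.one_lt_card_iff_nontrivial] at h2
    obtain ⟨a, b, hab⟩ := exists_pair_ne {χ : Cfsg.IrrCharacter H //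
        (fun g => (χ : H → ℂ) (cj H x g)) = (χ : H → ℂ)}
    by_cases ha : (a.1 : H → ℂ) = fun _ => 1
    · refine ⟨b.1, b.1.2, ?_, b.2⟩
      intro hb
      apply hab
      apply Subtype.ext
      apply Subtype.ext
      rw [ha, hb]
    · exact ⟨a.1, a.1.2, ha, a.2⟩

end Cfsg.Agent.S1536
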