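import Cfsg.Statements.S1528
-- import your own Cfsg.Agent.* helpers here
import Cfsg.Agent.Lib.Helper05.CharDecomp
import Cfsg.Agent.Lib.Helper05.BrauerPerm
import Cfsg.Agent.Lib.Helper83.Completeness
import Cfsg.Agent.Lib.Helper83.Decompose
import Cfsg.Agent.Lib.Helper84.Clifford
import Cfsg.Agent.Lib.Helper34.Induction
import Cfsg.Agent.Lib.Helper34.GenChar
import Cfsg.Agent.S1536

set_option autoImplicit false
open Cfsg

namespace Cfsg.Agent.S1528

open Cfsg.Agent.Lib.Helper34
open Cfsg.Agent.Lib.Helper05 (finite_irrCharacter isIrrCharacter_one)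

section

variable {G : Type*} [Group G] [Fintype G] (N : Subgroup G) [hN : N.Normal]

/-- an element outside `N` fixes only the principal irreducible character of `N` -/
theorem fixed_irr_eq_one (hC : ∀ n ∈ N, n ≠ 1 → Subgroup.centralizer ({n} : Set G) ≤ N)
    (x : G) (hx : x ∉ N) (θ : N → ℂ) (hθ : Cfsg.IsIrrCharacter N θ)
    (hfix : (fun g => θ (Cfsg.Agent.S1536.cj N x g)) = θ) : θ = fun _ => 1 := by
  classical
  have hB := Cfsg.Agent.S1536.brauer_cj N x
  have hcj1 : Cfsg.Agent.S1536.cj N x 1 = 1 := by
    apply Subtype.ext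
    simp [Cfsg.Agent.S1536.cj]
  -- only the class of 1 is fixed
  have hone : Nat.card {C : ConjClasses N //
      ∀ g, ConjClasses.mk g = C → IsConj (Cfsg.Agent.S1536.cj N x g) g} = 1 := by
    rw [Nat.card_eq_one_iff_unique]
    have hfix1 : ∀ g : N, ConjClasses.mk g = ConjClasses.mk (1 : N) →
        IsConj (Cfsg.Agent.S1536.cj N x g) g := by
      intro g hg
      have : g = 1 := by
        rw [ConjClasses.mk_eq_mk_iff_isConj] at hg
        exact isConj_one_left.mp hg
      rw [this, hcj1]
    refine ⟨⟨?_⟩, ⟨⟨ConjClasses.mk 1, hfix1⟩⟩⟩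
    have hall : ∀ C : {C : ConjClasses N //
        ∀ g, ConjClasses.mk g = C → IsConj (Cfsg.Agent.S1536.cj N x g) g},
        C.1 = ConjClasses.mk 1 := by
      intro C
      obtain ⟨c, hc⟩ := ConjClasses.exists_rep C.1
      have hconj := C.2 c hc
      obtain ⟨g, hg⟩ := isConj_iff.mp hconj
      have hg' : (g : G) * (x * c * x⁻¹) * (g : G)⁻¹ = c := by
        have := congrArg (fun t : N => (t : G)) hg
        simpa [Cfsg.Agent.S1536.cj] using this
      by_cases hc1 : c = 1
      · rw [← hc, hc1]
      · exfalso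
        have hcne : (c : G) ≠ 1 := fun h => hc1 (Subtype.ext h)
        have hmem : (g : G) * x ∈ Subgroup.centralizer ({(c : G)} : Set G) := by
          rw [Subgroup.mem_centralizer_iff]
          intro y hy
          rw [Set.mem_singleton_iff] at hy
          subst hy
          have e : (g : G) * (x * c * x⁻¹) * (g : G)⁻¹ = ((g : G) * x) * c * ((g : G) * x)⁻¹ := by
            group
          rw [e] at hg'
          have := congrArg (fun t => t * ((g : G) * x)) hg'
          simp only [inv_mul_cancel_right] at this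
          exact this.symm
        have h2 : (g : G) * x ∈ N := hC c c.2 hcne hmem
        apply hx
        have : x = (g : G)⁻¹ * ((g : G) * x) := by group
        rw [this]
        exact N.mul_mem (N.inv_mem g.2) h2
    intro a b
    exact Subtype.ext ((hall a).trans (hall b).symm)
  rw [← hB, Nat.card_eq_one_iff_unique] at hone
  obtain ⟨hsub, -⟩ := hone
  have := @Subsingleton.elim _ hsub
    (⟨⟨θ, hθ⟩, hfix⟩ : {χ : Cfsg.IrrCharacter N //
      (fun g => (χ : N → ℂ) (Cfsg.Agent.S1536.cj N x g)) = (χ : N → ℂ)})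
    ⟨⟨fun _ => 1, isIrrCharacter_one⟩, rfl⟩
  exact congrArg (fun t => (t.1 : N → ℂ)) this

/-- the function induced from a non-principal irreducible character of `N` is irreducible -/
theorem ind_irr [Fintype N] (hC : ∀ n ∈ N, n ≠ 1 → Subgroup.centralizer ({n} : Set G) ≤ N)
    (θ : N → ℂ) (hθ : Cfsg.IsIrrCharacter N θ) (hne : θ ≠ fun _ => 1) :
    Cfsg.IsIrrCharacter G (Cfsg.indFun N θ) := by
  classical
  have hchar : Cfsg.IsCharacter G (Cfsg.indFun N θ) :=
    isCharacter_indFun N (Cfsg.Agent.Lib.Helper83.isCharacter_of_irr hθ)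
  apply Cfsg.Agent.Lib.Helper83.isIrrCharacter_of_norm_one hchar
  rw [classInner_indFun_left N θ _ (Cfsg.Agent.Lib.Helper83.char_isClassFunction hchar),
    ← classInner_conj_symm,
    Cfsg.Agent.Lib.Helper84.classInner_indFun_restrict N hθ hθ]
  have hcard : Nat.card {x : G // Cfsg.Agent.Lib.Helper84.conjFun N x θ = θ} = Nat.card N := by
    apply Nat.card_congr
    refine Equiv.subtypeEquivRight (fun x => ?_)
    constructor
    · intro h
      by_contra hx
      exact hne (fixed_irr_eq_one N hC x hx θ hθ h)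
    · intro hx
      funext n
      rw [Cfsg.Agent.Lib.Helper84.conjFun_apply]
      have hcf := Cfsg.Agent.Lib.Helper83.char_isClassFunction
        (Cfsg.Agent.Lib.Helper83.isCharacter_of_irr hθ)
      have := hcf n ⟨x, hx⟩
      convert this using 2
      apply Subtype.ext
      simp
  rw [hcard]
  have hN0 : (Nat.card N : ℂ) ≠ 0 := by
    have : 0 < Nat.card N := Nat.card_pos
    exact_mod_cast this.ne'
  rw [inv_mul_cancel₀ hN0, map_one]

end

/-- Let N be a normal subgroup of the finite group G such that every element of G commuting with a non-identity element of N lies in N. If χ is an irreducible character of G with χ n ≠ χ 1 for some n ∈ N, then χ is the function induced from some irreducible character of N. -/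
theorem result {G : Type*} [Group G] [Fintype G] (N : Subgroup G) [N.Normal] (hC : ∀ n ∈ N, n ≠ 1 → Subgroup.centralizer ({n} : Set G) ≤ N) (χ : G → ℂ) (hχ : Cfsg.IsIrrCharacter G χ) (hker : ∃ n ∈ N, χ n ≠ χ 1) : ∃ φ : N → ℂ, Cfsg.IsIrrCharacter N φ ∧ χ = Cfsg.indFun N φ := by
  classical
  letI : Fintype N := Fintype.ofFinite N
  haveI : Finite (Cfsg.IrrCharacter N) := finite_irrCharacter
  letI : Fintype (Cfsg.IrrCharacter N) := Fintype.ofFinite _
  have hχchar := Cfsg.Agent.Lib.Helper83.isCharacter_of_irr hχ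
  have hχcf := Cfsg.Agent.Lib.Helper83.char_isClassFunction hχchar
  have hres : Cfsg.IsCharacter N (fun n : N => χ n) :=
    Cfsg.Agent.Lib.Helper83.isCharacter_restrict N hχchar
  -- a non-principal constituent
  have hex : ∃ θ : Cfsg.IrrCharacter N, (θ : N → ℂ) ≠ (fun _ => 1) ∧
      Cfsg.classInner (fun n : N => χ n) (θ : N → ℂ) ≠ 0 := by
    by_contra hno
    push Not at hno
    obtain ⟨n, hn, hne⟩ := hker
    apply hne
    have hexp := Cfsg.Agent.Lib.Helper83.classFunction_eq_sum_irr
      (Cfsg.Agent.Lib.Helper83.char_isClassFunction hres)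
    have hval : ∀ m : N, (fun n : N => χ n) m =
        Cfsg.classInner (fun n : N => χ n) (fun _ => (1 : ℂ)) := by
      intro m
      conv_lhs => rw [hexp]
      rw [Finset.sum_apply, Finset.sum_eq_single (⟨fun _ => 1, isIrrCharacter_one⟩ : Cfsg.IrrCharacter N)]
      · simp
      · intro b _ hb
        have hb' : (b : N → ℂ) ≠ fun _ => 1 := by
          intro h
          apply hb
          exact Subtype.ext h
        rw [Pi.smul_apply, hno b hb', zero_smul]
      · intro h; exact absurd (Finset.mem_univ _) h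
    have h1 := hval ⟨n, hn⟩
    have h2 := hval 1
    simp only [Subgroup.coe_one] at h1 h2
    rw [h1, h2]
  obtain ⟨θ, hθne, hθinner⟩ := hex
  have hirr := ind_irr N hC (θ : N → ℂ) θ.2 hθne
  refine ⟨θ, θ.2, ?_⟩
  apply Cfsg.Agent.Lib.Helper84.irr_eq_of_classInner_ne_zero hχ hirr
  rw [classInner_indFun_right N (θ : N → ℂ) χ hχcf]
  exact hθinner

end Cfsg.Agent.S1528
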