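import Cfsg.Statements.S0850
import Mathlib
import Cfsg.Agent.Lib.Helper20.IndFun

set_option autoImplicit false
open Cfsg
open Cfsg.Agent.Lib.Helper20

namespace Cfsg.Agent.S0850

theorem part1 {G : Type*} [Group G] [Fintype G] (K : Subgroup G)
    (hTI : ∀ g : G, g ∉ Subgroup.normalizer (K : Set G) → ∀ k ∈ K, g * k * g⁻¹ ∈ K → k = 1)
    (hC : ∀ k ∈ K, k ≠ 1 → Subgroup.centralizer ({k} : Set G) ≤ K) :
    ∀ x ∈ Subgroup.normalizer (K : Set G), x ∉ K → ∀ g : G, g * x * g⁻¹ ∉ K := by
  classical
  intro x hxN hxK g hk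
  have hgN : g ∉ Subgroup.normalizer (K : Set G) := by
    intro hg
    exact hxK ((Subgroup.mem_set_normalizer_iff.mp hg x).mpr hk)
  have hx1 : x ≠ 1 := by
    rintro rfl
    exact hxK K.one_mem
  have hox : orderOf x ≠ 1 := by
    intro h
    exact hx1 (orderOf_eq_one_iff.mp h)
  obtain ⟨p, hp, hpx⟩ := Nat.exists_prime_and_dvd hox
  have : Fact p.Prime := ⟨hp⟩
  have hoxk : orderOf (g * x * g⁻¹) = orderOf x := by
    have := (MulAut.conj g).orderOf_eq x
    simpa [MulAut.conj_apply] using this
  have hdvdK : orderOf x ∣ Nat.card K := by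
    rw [← hoxk]
    have := orderOf_dvd_natCard (⟨g * x * g⁻¹, hk⟩ : K)
    rwa [← Subgroup.orderOf_coe] at this
  have hox0 : orderOf x ≠ 0 := (orderOf_pos x).ne'
  set y : G := x ^ (orderOf x / p) with hy
  have hoy : orderOf y = p := orderOf_pow_orderOf_div hox0 hpx
  have hyN : y ∈ Subgroup.normalizer (K : Set G) := Subgroup.pow_mem _ hxN _
  have hyK : y ∉ K := by
    intro hyK
    have h1 : g * y * g⁻¹ ∈ K := by
      rw [hy, ← conj_pow]
      exact K.pow_mem hk _
    have := hTI g hgN y hyK h1
    rw [this, orderOf_one] at hoy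
    exact hp.one_lt.ne hoy
  -- the conjugation map on K
  let f : Function.End K := fun k' => ⟨y * k' * y⁻¹, (Subgroup.mem_set_normalizer_iff.mp hyN k').mp k'.2⟩
  have hfpow : ∀ n : ℕ, ∀ k' : K, ((f ^ n) k' : G) = y ^ n * k' * (y ^ n)⁻¹ := by
    intro n
    induction n with
    | zero =>
      intro k'
      rw [pow_zero, pow_zero]
      show (k' : G) = 1 * k' * 1⁻¹
      simp
    | succ n ih =>
      intro k'
      rw [pow_succ' f n]
      show y * ((f ^ n) k' : G) * y⁻¹ = _
      rw [ih k', pow_succ']
      group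
  have hf : f ^ p ^ 1 = 1 := by
    rw [pow_one]
    funext k'
    apply Subtype.ext
    rw [hfpow p k', ← hoy, pow_orderOf_eq_one]
    show 1 * (k' : G) * 1⁻¹ = (k' : G)
    simp
  have hmod := Equiv.Perm.card_fixedPoints_modEq (f := f) (p := p) (n := 1) hf
  have hfix : Function.fixedPoints f = {1} := by
    ext k'
    rw [Function.mem_fixedPoints, Set.mem_singleton_iff]
    constructor
    · intro h
      by_contra hne
      have h2 : (y * (k' : G) * y⁻¹ : G) = k' := congrArg Subtype.val h
      have hk1 : (k' : G) ≠ 1 := fun h => hne (Subtype.ext h)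
      have : y ∈ Subgroup.centralizer ({(k' : G)} : Set G) := by
        rw [Subgroup.mem_centralizer_iff]
        intro z hz
        rw [Set.mem_singleton_iff] at hz
        subst hz
        exact (mul_inv_eq_iff_eq_mul.mp h2).symm
      exact hyK (hC k' k'.2 hk1 this)
    · rintro rfl
      apply Subtype.ext
      show y * ((1 : K) : G) * y⁻¹ = ((1 : K) : G)
      simp
  have hcardfix : Fintype.card (Function.fixedPoints f) = 1 := by
    simp [hfix]
  rw [hcardfix, ← Nat.card_eq_fintype_card] at hmod
  have hpK : p ∣ Nat.card K := hpx.trans hdvdK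
  have : Nat.card K % p = 0 := Nat.mod_eq_zero_of_dvd hpK
  unfold Nat.ModEq at hmod
  rw [this, Nat.mod_eq_of_lt hp.one_lt] at hmod
  exact absurd hmod (by norm_num)

theorem part2 {G : Type*} [Group G] [Fintype G] (K N : Subgroup G)
    (hTI : ∀ g : G, g ∉ N → ∀ k ∈ K, g * k * g⁻¹ ∈ K → k = 1)
    (h1 : ∀ x ∈ N, x ∉ K → ∀ g : G, g * x * g⁻¹ ∉ K)
    (ϑ : N → ℂ) (hcf : Cfsg.IsClassFunction N ϑ) (hvan : ∀ x : N, (x : G) ∉ K → ϑ x = 0)
    (hone : ϑ 1 = 0) (x : N) : Cfsg.indFun N ϑ x = ϑ x := by
  classical
  rw [indFun_apply]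
  by_cases hxK : (x : G) ∈ K
  · by_cases hx1 : x = 1
    · subst hx1
      rw [hone]
      have : ∀ g : G, Cfsg.extendByZero N ϑ (g⁻¹ * ((1 : N) : G) * g) = 0 := by
        intro g
        have : g⁻¹ * ((1 : N) : G) * g = ((1 : N) : G) := by simp
        rw [this, extendByZero_coe, hone]
      rw [Finset.sum_congr rfl (fun g _ => this g)]
      simp
    · have hx1' : (x : G) ≠ 1 := fun h => hx1 (Subtype.ext h)
      have hterm : ∀ g : G, Cfsg.extendByZero N ϑ (g⁻¹ * (x : G) * g) =
          if g ∈ N then ϑ x else 0 := by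
        intro g
        by_cases hg : g ∈ N
        · rw [if_pos hg]
          have hmem : g⁻¹ * (x : G) * g ∈ N := N.mul_mem (N.mul_mem (N.inv_mem hg) x.2) hg
          rw [extendByZero_mem N ϑ hmem]
          have := hcf x (⟨g, hg⟩⁻¹ : N)
          rw [← this]
          congr 1
          apply Subtype.ext
          simp
        · rw [if_neg hg]
          by_cases hmem : g⁻¹ * (x : G) * g ∈ N
          · rw [extendByZero_mem N ϑ hmem]
            apply hvan
            intro hK
            have hginv : g⁻¹ ∉ N := fun h => hg (by simpa using N.inv_mem h)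
            have := hTI g⁻¹ hginv (x : G) hxK (by simpa using hK)
            exact hx1' this
          · exact extendByZero_not_mem N ϑ hmem
      simp_rw [hterm]
      rw [← Finset.sum_filter, Finset.sum_const, nsmul_eq_mul, ← mul_assoc]
      have hc : ((Finset.univ.filter (fun g : G => g ∈ N)).card : ℂ) = (Nat.card N : ℂ) := by
        rw [Nat.card_eq_fintype_card, Fintype.card_subtype]
      rw [hc, inv_mul_cancel₀ (natCard_ne_zero_complex N), one_mul]
  · rw [hvan x hxK]
    have : ∀ g : G, Cfsg.extendByZero N ϑ (g⁻¹ * (x : G) * g) = 0 := by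
      intro g
      by_cases hmem : g⁻¹ * (x : G) * g ∈ N
      · rw [extendByZero_mem N ϑ hmem]
        apply hvan
        have := h1 x x.2 hxK g⁻¹
        simpa using this
      · exact extendByZero_not_mem N ϑ hmem
    simp [this]

/-- Let K be a subgroup of the finite group G that meets each conjugate by an element outside its normalizer N trivially, is properly contained in N, and contains the centralizer of each of its non-identity elements (a T.I. subgroup with Frobenius normalizer). Then no element of N outside K is conjugate in G to an element of K, and for every class function ϑ of N that vanishes on N away from K and at the identity, the function induced from ϑ to G agrees with ϑ on all of N. -/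
theorem result {G : Type*} [Group G] [Fintype G] (K : Subgroup G) (hTI : ∀ g : G, g ∉ Subgroup.normalizer (K : Set G) → ∀ k ∈ K, g * k * g⁻¹ ∈ K → k = 1) (hlt : K < Subgroup.normalizer (K : Set G)) (hC : ∀ k ∈ K, k ≠ 1 → Subgroup.centralizer ({k} : Set G) ≤ K) : (∀ x ∈ Subgroup.normalizer (K : Set G), x ∉ K → ∀ g : G, g * x * g⁻¹ ∉ K) ∧ ∀ (ϑ : Subgroup.normalizer (K : Set G) → ℂ), Cfsg.IsClassFunction (Subgroup.normalizer (K : Set G)) ϑ → (∀ x : Subgroup.normalizer (K : Set G), (x : G) ∉ K → ϑ x = 0) → ϑ 1 = 0 → ∀ x : Subgroup.normalizer (K : Set G), Cfsg.indFun (Subgroup.normalizer (K : Set G)) ϑ x = ϑ x := by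
  have h1 := part1 K hTI hC
  refine ⟨h1, ?_⟩
  intro ϑ hcf hvan hone x
  exact part2 K (Subgroup.normalizer (K : Set G)) hTI h1 ϑ hcf hvan hone x

end Cfsg.Agent.S0850
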