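import Cfsg.Statements.S0851
-- import your own Cfsg.Agent.* helpers here
import Cfsg.Agent.Lib.Helper34.FrobTI
import Cfsg.Agent.Lib.Helper34.GenChar2
import Cfsg.Agent.Lib.Helper04.IndFun
import Cfsg.Agent.Lib.Helper83.Abelian

set_option autoImplicit false
open Cfsg

namespace Cfsg.Agent.S0851

open Cfsg.Agent.Lib.Helper34
open scoped ComplexConjugate

section Comb

variable {G : Type*} [Group G] [Fintype G]

theorem pair_lemma {μ ν μ' ν' : Cfsg.IrrCharacter G} (h : μ ≠ ν) (h' : μ' ≠ ν')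
    (hin : Cfsg.classInner ((μ : G → ℂ) - (ν : G → ℂ)) ((μ' : G → ℂ) - (ν' : G → ℂ)) = 1) :
    (μ = μ' ∧ ν ≠ ν') ∨ (ν = ν' ∧ μ ≠ μ') := by
  classical
  rw [classInner_sub_left, classInner_sub_right, classInner_sub_right,
    Cfsg.Agent.Lib.Helper83.irr_orthonormal, Cfsg.Agent.Lib.Helper83.irr_orthonormal,
    Cfsg.Agent.Lib.Helper83.irr_orthonormal, Cfsg.Agent.Lib.Helper83.irr_orthonormal] at hin
  by_cases h1 : μ = μ'
  · by_cases h2 : ν = ν'
    · exfalso
      have h3 : μ ≠ ν' := fun h3 => h (h3.trans h2.symm)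
      have h4 : ν ≠ μ' := fun h4 => h (h1.trans h4.symm)
      rw [if_pos h1, if_pos h2, if_neg h3, if_neg h4] at hin
      norm_num at hin
    · exact Or.inl ⟨h1, h2⟩
  · by_cases h2 : ν = ν'
    · exact Or.inr ⟨h2, h1⟩
    · exfalso
      rw [if_neg h1, if_neg h2] at hin
      by_cases h3 : μ = ν' <;> by_cases h4 : ν = μ' <;> simp [h3, h4] at hin <;> norm_num at hin

theorem core {I : Type*} (μ ν : I → Cfsg.IrrCharacter G) (hne : ∀ i, μ i ≠ ν i)
    (hin : ∀ i j, i ≠ j → Cfsg.classInner ((μ i : G → ℂ) - (ν i : G → ℂ))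
      ((μ j : G → ℂ) - (ν j : G → ℂ)) = 1) :
    (∀ i j, μ i = μ j ∧ (i ≠ j → ν i ≠ ν j)) ∨ (∀ i j, ν i = ν j ∧ (i ≠ j → μ i ≠ μ j)) := by
  classical
  by_cases hex : ∃ i j : I, i ≠ j
  · obtain ⟨i₀, j₀, h₀⟩ := hex
    rcases pair_lemma (hne i₀) (hne j₀) (hin i₀ j₀ h₀) with ⟨hμ, hν⟩ | ⟨hν, hμ⟩
    · left
      have hall : ∀ l, μ l = μ i₀ := by
        intro l
        by_cases hl1 : l = i₀
        · rw [hl1]
        by_cases hl2 : l = j₀
        · rw [hl2, hμ]
        rcases pair_lemma (hne i₀) (hne l) (hin i₀ l (Ne.symm hl1)) with ⟨h1, -⟩ | ⟨h1, -⟩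
        · exact h1.symm
        rcases pair_lemma (hne j₀) (hne l) (hin j₀ l (Ne.symm hl2)) with ⟨h2, -⟩ | ⟨h2, -⟩
        · rw [← h2, hμ]
        · exact absurd (h1.trans h2.symm) hν
      intro i j
      refine ⟨(hall i).trans (hall j).symm, fun hij => ?_⟩
      rcases pair_lemma (hne i) (hne j) (hin i j hij) with ⟨-, h2⟩ | ⟨-, h2⟩
      · exact h2
      · exact absurd ((hall i).trans (hall j).symm) h2
    · right
      have hall : ∀ l, ν l = ν i₀ := by
        intro l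
        by_cases hl1 : l = i₀
        · rw [hl1]
        by_cases hl2 : l = j₀
        · rw [hl2, hν]
        rcases pair_lemma (hne i₀) (hne l) (hin i₀ l (Ne.symm hl1)) with ⟨h1, -⟩ | ⟨h1, -⟩
        · rcases pair_lemma (hne j₀) (hne l) (hin j₀ l (Ne.symm hl2)) with ⟨h2, -⟩ | ⟨h2, -⟩
          · exact absurd (h1.trans h2.symm) hμ
          · rw [← h2, hν]
        · exact h1.symm
      intro i j
      refine ⟨(hall i).trans (hall j).symm, fun hij => ?_⟩
      rcases pair_lemma (hne i) (hne j) (hin i j hij) with ⟨-, h2⟩ | ⟨-, h2⟩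
      · exact absurd ((hall i).trans (hall j).symm) h2
      · exact h2
  · left
    intro i j
    have hij : i = j := by
      by_contra h
      exact hex ⟨i, j, h⟩
    subst hij
    exact ⟨rfl, fun h => absurd rfl h⟩

end Comb

section Main

variable {G : Type*} [Group G] [Fintype G] (N : Subgroup G) [Fintype N] (KN : Subgroup N)
  [hKN : KN.Normal]
  (hC : ∀ k ∈ KN, k ≠ 1 → Subgroup.centralizer ({k} : Set N) ≤ KN)
  (hab : ∀ a ∈ KN, ∀ b ∈ KN, a * b = b * a)
  (hiso : ∀ α β : N → ℂ, Cfsg.IsClassFunction N α → Cfsg.IsClassFunction N β →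
    (∀ x : N, x ∉ KN → α x = 0) → (∀ x : N, x ∉ KN → β x = 0) → α 1 = 0 →
    Cfsg.classInner (Cfsg.indFun N α) (Cfsg.indFun N β) = Cfsg.classInner α β)

include hC hab in
/-- a relevant character has degree `[N : K]` when `K` is abelian -/
theorem rel_degree {χ : N → ℂ} (h : FrobRel KN χ) : χ 1 = (KN.index : ℂ) := by
  obtain ⟨φ, hφ, -, rfl⟩ := h.eq_ind KN hC
  rw [Cfsg.Agent.Lib.Helper83.indFun_one_eq]
  have := Cfsg.Agent.Lib.Helper83.irr_degree_one_of_comm (G := ↥KN)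
    (fun a b => Subtype.ext (hab a a.2 b b.2)) ⟨φ, hφ⟩
  simp only at this
  rw [this, mul_one]

include hC hab hiso in
theorem aux :
    ∃ (ε : ℂ) (f : {χ : Cfsg.IrrCharacter N // ∃ k ∈ KN, (χ : N → ℂ) k ≠ (χ : N → ℂ) 1} →
      Cfsg.IrrCharacter G), (ε = 1 ∨ ε = -1) ∧ Function.Injective f ∧
      ∀ χ ξ, Cfsg.indFun N ((χ.1 : N → ℂ) - (ξ.1 : N → ℂ)) = ε • ((f χ : G → ℂ) - (f ξ : G → ℂ)) := by
  classical
  set R := {χ : Cfsg.IrrCharacter N // ∃ k ∈ KN, (χ : N → ℂ) k ≠ (χ : N → ℂ) 1} with hR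
  have hrel : ∀ χ : R, FrobRel KN (χ.1 : N → ℂ) := fun χ => ⟨χ.1.2, χ.2⟩
  by_cases hsub : Subsingleton R
  · refine ⟨1, fun _ => ⟨fun _ => 1, Cfsg.Agent.Lib.Helper83.isIrrCharacter_one⟩, Or.inl rfl,
      fun a b _ => Subsingleton.elim a b, fun χ ξ => ?_⟩
    rw [Subsingleton.elim χ ξ, sub_self, sub_self, smul_zero, indFun_zero]
  -- at least two relevant characters
  rw [not_subsingleton_iff_nontrivial] at hsub
  obtain ⟨a, b, hab'⟩ := hsub.exists_pair_ne
  -- basic facts on differences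
  have hcf : ∀ χ : R, Cfsg.IsClassFunction N (χ.1 : N → ℂ) := fun χ =>
    Cfsg.Agent.Lib.Helper83.char_isClassFunction (Cfsg.Agent.Lib.Helper83.isCharacter_of_irr χ.1.2)
  have hdcf : ∀ χ ξ : R, Cfsg.IsClassFunction N ((χ.1 : N → ℂ) - (ξ.1 : N → ℂ)) := fun χ ξ =>
    Cfsg.Agent.Lib.Helper83.isClassFunction_sub (hcf χ) (hcf ξ)
  have hdoff : ∀ χ ξ : R, ∀ x : N, x ∉ KN → ((χ.1 : N → ℂ) - (ξ.1 : N → ℂ)) x = 0 := by
    intro χ ξ x hx
    rw [Pi.sub_apply, (hrel χ).vanish KN hC hx, (hrel ξ).vanish KN hC hx, sub_zero]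
  have hd1 : ∀ χ ξ : R, ((χ.1 : N → ℂ) - (ξ.1 : N → ℂ)) 1 = 0 := by
    intro χ ξ
    rw [Pi.sub_apply, rel_degree N KN hC hab (hrel χ), rel_degree N KN hC hab (hrel ξ), sub_self]
  have hinner : ∀ χ ξ χ' ξ' : R, Cfsg.classInner
      (Cfsg.indFun N ((χ.1 : N → ℂ) - (ξ.1 : N → ℂ)))
      (Cfsg.indFun N ((χ'.1 : N → ℂ) - (ξ'.1 : N → ℂ)))
      = Cfsg.classInner ((χ.1 : N → ℂ) - (ξ.1 : N → ℂ)) ((χ'.1 : N → ℂ) - (ξ'.1 : N → ℂ)) :=
    fun χ ξ χ' ξ' => hiso _ _ (hdcf χ ξ) (hdcf χ' ξ') (hdoff χ ξ) (hdoff χ' ξ') (hd1 χ ξ)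
  have horth : ∀ χ ξ : R, Cfsg.classInner (χ.1 : N → ℂ) (ξ.1 : N → ℂ) = if χ = ξ then 1 else 0 := by
    intro χ ξ
    rw [Cfsg.Agent.Lib.Helper83.irr_orthonormal]
    by_cases h : χ = ξ
    · rw [if_pos h, if_pos (congrArg Subtype.val h)]
    · rw [if_neg h, if_neg (fun h' => h (Subtype.ext h'))]
  -- Δ i := Ind (χ_a - χ_i)
  have hgen : ∀ i : R, Cfsg.IsGeneralizedCharacter G
      (Cfsg.indFun N ((a.1 : N → ℂ) - (i.1 : N → ℂ))) := fun i =>
    isGeneralizedCharacter_indFun N (isGeneralizedCharacter_sub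
      (isGeneralizedCharacter_of_irr a.1.2) (isGeneralizedCharacter_of_irr i.1.2))
  have hΔ1 : ∀ i : R, Cfsg.indFun N ((a.1 : N → ℂ) - (i.1 : N → ℂ)) 1 = 0 := by
    intro i
    rw [Cfsg.Agent.Lib.Helper83.indFun_one_eq, hd1, mul_zero]
  have hnorm : ∀ i : R, i ≠ a → Cfsg.classInner
      (Cfsg.indFun N ((a.1 : N → ℂ) - (i.1 : N → ℂ)))
      (Cfsg.indFun N ((a.1 : N → ℂ) - (i.1 : N → ℂ))) = 2 := by
    intro i hi
    rw [hinner, classInner_sub_left, classInner_sub_right, classInner_sub_right,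
      horth, horth, horth, horth, if_pos rfl, if_pos rfl, if_neg (Ne.symm hi), if_neg hi]
    norm_num
  have hdecomp : ∀ i : R, ∃ μν : Cfsg.IrrCharacter G × Cfsg.IrrCharacter G, i ≠ a →
      μν.1 ≠ μν.2 ∧ Cfsg.indFun N ((a.1 : N → ℂ) - (i.1 : N → ℂ))
        = (μν.1 : G → ℂ) - (μν.2 : G → ℂ) := by
    intro i
    by_cases hi : i = a
    · exact ⟨⟨⟨fun _ => 1, Cfsg.Agent.Lib.Helper83.isIrrCharacter_one⟩,
        ⟨fun _ => 1, Cfsg.Agent.Lib.Helper83.isIrrCharacter_one⟩⟩, fun h => absurd hi h⟩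
    · obtain ⟨ψ₁, ψ₂, h1, h2, hne, heq⟩ := exists_sub_irr_of_norm_two (hgen i) (hnorm i hi) (hΔ1 i)
      exact ⟨⟨⟨ψ₁, h1⟩, ⟨ψ₂, h2⟩⟩, fun _ => ⟨fun h => hne (congrArg Subtype.val h), heq⟩⟩
  choose μν hμν using hdecomp
  set I := {i : R // i ≠ a} with hI
  have hcore := core (G := G) (I := I) (fun i => (μν i.1).1) (fun i => (μν i.1).2)
    (fun i => (hμν i.1 i.2).1)
    (by
      intro i j hij
      rw [← (hμν i.1 i.2).2, ← (hμν j.1 j.2).2, hinner, classInner_sub_left, classInner_sub_right,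
        classInner_sub_right, horth, horth, horth, horth, if_pos rfl,
        if_neg (Ne.symm j.2), if_neg i.2,
        if_neg (fun h => hij (Subtype.ext h))]
      norm_num)
  -- general difference
  have hgeneral : ∀ χ ξ : R, Cfsg.indFun N ((χ.1 : N → ℂ) - (ξ.1 : N → ℂ))
      = Cfsg.indFun N ((a.1 : N → ℂ) - (ξ.1 : N → ℂ))
        - Cfsg.indFun N ((a.1 : N → ℂ) - (χ.1 : N → ℂ)) := by
    intro χ ξ
    rw [← indFun_sub]
    congr 1
    abel
  have hΔa : Cfsg.indFun N ((a.1 : N → ℂ) - (a.1 : N → ℂ)) = 0 := by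
    rw [sub_self, indFun_zero]
  rcases hcore with hP | hQ
  · -- all μ equal: ε = 1, f a = μ, f i = ν i
    set μ₀ : Cfsg.IrrCharacter G := (μν b).1 with hμ₀
    have hμall : ∀ i : R, i ≠ a → (μν i).1 = μ₀ := fun i hi =>
      (hP ⟨i, hi⟩ ⟨b, Ne.symm hab'⟩).1
    refine ⟨1, fun i => if i = a then μ₀ else (μν i).2, Or.inl rfl, ?_, ?_⟩
    · intro i j hij
      simp only at hij
      by_cases hi : i = a
      · by_cases hj : j = a
        · rw [hi, hj]
        · rw [if_pos hi, if_neg hj] at hij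
          exact absurd (((hμall j hj).trans hij)) (hμν j hj).1
      · by_cases hj : j = a
        · rw [if_neg hi, if_pos hj] at hij
          exact absurd ((hμall i hi).trans hij.symm) (hμν i hi).1
        · rw [if_neg hi, if_neg hj] at hij
          by_contra hne
          exact (hP ⟨i, hi⟩ ⟨j, hj⟩).2 (fun h => hne (congrArg Subtype.val h)) hij
    · have hΔ : ∀ i : R, Cfsg.indFun N ((a.1 : N → ℂ) - (i.1 : N → ℂ))
          = (μ₀ : G → ℂ) - ((if i = a then μ₀ else (μν i).2 : Cfsg.IrrCharacter G) : G → ℂ) := by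
        intro i
        by_cases hi : i = a
        · rw [if_pos hi, hi, hΔa, sub_self]
        · rw [if_neg hi, (hμν i hi).2, hμall i hi]
      intro χ ξ
      rw [hgeneral, hΔ, hΔ, one_smul]
      abel
  · -- all ν equal: ε = -1, f a = ν, f i = μ i
    set ν₀ : Cfsg.IrrCharacter G := (μν b).2 with hν₀
    have hνall : ∀ i : R, i ≠ a → (μν i).2 = ν₀ := fun i hi =>
      (hQ ⟨i, hi⟩ ⟨b, Ne.symm hab'⟩).1
    refine ⟨-1, fun i => if i = a then ν₀ else (μν i).1, Or.inr rfl, ?_, ?_⟩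
    · intro i j hij
      simp only at hij
      by_cases hi : i = a
      · by_cases hj : j = a
        · rw [hi, hj]
        · rw [if_pos hi, if_neg hj] at hij
          exact absurd ((hνall j hj).trans hij).symm (hμν j hj).1
      · by_cases hj : j = a
        · rw [if_neg hi, if_pos hj] at hij
          exact absurd (hij.trans (hνall i hi).symm) (hμν i hi).1
        · rw [if_neg hi, if_neg hj] at hij
          by_contra hne
          exact (hQ ⟨i, hi⟩ ⟨j, hj⟩).2 (fun h => hne (congrArg Subtype.val h)) hij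
    · have hΔ : ∀ i : R, Cfsg.indFun N ((a.1 : N → ℂ) - (i.1 : N → ℂ))
          = ((if i = a then ν₀ else (μν i).1 : Cfsg.IrrCharacter G) : G → ℂ) - (ν₀ : G → ℂ) := by
        intro i
        by_cases hi : i = a
        · rw [if_pos hi, hi, hΔa, sub_self]
        · rw [if_neg hi, (hμν i hi).2, hνall i hi]
      intro χ ξ
      rw [hgeneral, hΔ, hΔ, neg_one_smul]
      abel

end Main

/-- Let K be a subgroup of the finite group G that meets each conjugate by an element outside its normalizer N trivially, is properly contained in N, and contains the centralizer of each of its non-identity elements (a T.I. subgroup with Frobenius normalizer). Suppose K is abelian, let e be the index of K in N, and call an irreducible character of N relevant when it takes at some element of K a value different from its degree. Then either there is exactly one relevant character and K is an elementary abelian p-group of order e + 1 for some prime p, or there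 are a sign ε and an injective map f from the relevant characters to the irreducible characters of G such that inducing χ - ξ to G gives ε (f χ - f ξ) for all relevant χ and ξ. -/
theorem result {G : Type*} [Group G] [Fintype G] (K : Subgroup G) (hTI : ∀ g : G, g ∉ Subgroup.normalizer (K : Set G) → ∀ k ∈ K, g * k * g⁻¹ ∈ K → k = 1) (hlt : K < Subgroup.normalizer (K : Set G)) (hC : ∀ k ∈ K, k ≠ 1 → Subgroup.centralizer ({k} : Set G) ≤ K) (hab : ∀ a ∈ K, ∀ b ∈ K, a * b = b * a) : (Nat.card {χ : Cfsg.IrrCharacter (Subgroup.normalizer (K : Set G)) // ∃ k : Subgroup.normalizer (K : Set G), (k : G) ∈ K ∧ (χ : ↥(Subgroup.normalizer (K : Set G)) → ℂ) k ≠ (χ : ↥(Subgroup.normalizer (K : Set G)) → ℂ) 1} = 1 ∧ ∃ p : ℕ, p.Prime ∧ Cfsg.IsElementaryAbelian p K ∧ Nat.card K = (K.subgroupOf (Subgroup.normalizer (K : Set G))).index + 1) ∨ ∃ (ε : ℂ) (f : {χ : Cfsg.IrrCharacter (Subgroup.normalizer (K : Set G)) // ∃ k : Subgroup.normalizer (K : Set G), (k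 : G) ∈ K ∧ (χ : ↥(Subgroup.normalizer (K : Set G)) → ℂ) k ≠ (χ : ↥(Subgroup.normalizer (K : Set G)) → ℂ) 1} → Cfsg.IrrCharacter G), (ε = 1 ∨ ε = -1) ∧ Function.Injective f ∧ ∀ χ ξ, Cfsg.indFun (Subgroup.normalizer (K : Set G)) ((χ.1 : ↥(Subgroup.normalizer (K : Set G)) → ℂ) - (ξ.1 : ↥(Subgroup.normalizer (K : Set G)) → ℂ)) = ε • ((f χ : G → ℂ) - (f ξ : G → ℂ)) := by
  classical
  right
  letI : Fintype ↥(Subgroup.normalizer (K : Set G)) := Fintype.ofFinite _
  haveI : (K.subgroupOf (Subgroup.normalizer (K : Set G))).Normal := Subgroup.normal_in_normalizer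
  have hC' := frobTI_hC K hC
  have hab' : ∀ a ∈ K.subgroupOf (Subgroup.normalizer (K : Set G)),
      ∀ b ∈ K.subgroupOf (Subgroup.normalizer (K : Set G)), a * b = b * a := by
    intro a ha b hb
    exact Subtype.ext (hab (a : G) ha (b : G) hb)
  have hiso : ∀ α β : ↥(Subgroup.normalizer (K : Set G)) → ℂ,
      Cfsg.IsClassFunction ↥(Subgroup.normalizer (K : Set G)) α →
      Cfsg.IsClassFunction ↥(Subgroup.normalizer (K : Set G)) β →
      (∀ x : ↥(Subgroup.normalizer (K : Set G)),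
        x ∉ K.subgroupOf (Subgroup.normalizer (K : Set G)) → α x = 0) →
      (∀ x : ↥(Subgroup.normalizer (K : Set G)),
        x ∉ K.subgroupOf (Subgroup.normalizer (K : Set G)) → β x = 0) → α 1 = 0 →
      Cfsg.classInner (Cfsg.indFun (Subgroup.normalizer (K : Set G)) α)
        (Cfsg.indFun (Subgroup.normalizer (K : Set G)) β) = Cfsg.classInner α β := by
    intro α β hα hβ hαoff hβoff hα1
    exact Cfsg.Agent.Lib.Helper04.indFun_isometry_on_ti (K : Set G) hTI
      (fun x hx => Subgroup.le_normalizer hx) α β hα hβ (fun x hx => hαoff x hx)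
      (fun x hx => hβoff x hx) hα1
  exact aux (Subgroup.normalizer (K : Set G)) (K.subgroupOf (Subgroup.normalizer (K : Set G)))
    hC' hab' hiso

end Cfsg.Agent.S0851
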