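import Cfsg.Statements.S0878
import Cfsg.Agent.Lib.Helper21.Zassenhaus
import Cfsg.Agent.Lib.Helper21.FrobCount

set_option autoImplicit false
open Cfsg

namespace Cfsg.Agent.S0878

open Cfsg.Agent.Lib.Helper21

section
variable {G Ω : Type*} [Group G] [Finite G] [MulAction G Ω] [Fintype Ω]

/-- A Zassenhaus group acts on at least three points. -/
theorem three_le_card (hZ : IsZassenhausGroup G Ω) : 3 ≤ Fintype.card Ω := by
  obtain ⟨g₀, hg₀, a', b', hab', ha', hb'⟩ := hZ.2.2.2.1
  have hfaith := hZ.1
  have : ∃ c : Ω, g₀ • c ≠ c := by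
    by_contra hcon
    push Not at hcon
    apply hg₀
    apply hfaith.eq_of_smul_eq_smul
    intro c
    rw [hcon c, one_smul]
  obtain ⟨c, hc⟩ := this
  have hca : a' ≠ c := by rintro rfl; exact hc ha'
  have hcb : b' ≠ c := by rintro rfl; exact hc hb'
  have : 2 < Fintype.card Ω := Fintype.two_lt_card_iff.2 ⟨a', b', c, hab', hca, hcb⟩
  omega

theorem stab_pretransitive (hZ : IsZassenhausGroup G Ω) (a : Ω) :
    MulAction.IsPretransitive (MulAction.stabilizer G a) (SubMulAction.ofStabilizer G a) := by
  constructor
  intro c d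
  have hc : a ≠ (c : Ω) := (SubMulAction.neq_of_mem_ofStabilizer G a (x := c)).symm
  have hd : a ≠ (d : Ω) := (SubMulAction.neq_of_mem_ofStabilizer G a (x := d)).symm
  obtain ⟨g, hga, hgc⟩ := zass_two_trans hZ hc hd
  refine ⟨⟨g, hga⟩, ?_⟩
  apply Subtype.ext
  exact hgc

end

theorem result {G Ω : Type*} [Group G] [Finite G] [MulAction G Ω] [Fintype Ω] (hZ : Cfsg.IsZassenhausGroup G Ω) (a : Ω) (H : Subgroup G) (hHa : H ≤ MulAction.stabilizer G a) (hHcard : Nat.card H + 1 = Fintype.card Ω) (hHfix : ∀ u ∈ H, u ≠ 1 → ∀ c : Ω, u • c = c → c = a) : (∀ g : G, g ∉ MulAction.stabilizer G a → ∀ u ∈ H, g * u * g⁻¹ ∈ H → u = 1) ∧ Subgroup.normalizer (H : Set G) = MulAction.stabilizer G a := by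
  have part1 : ∀ g : G, g ∉ MulAction.stabilizer G a → ∀ u ∈ H, g * u * g⁻¹ ∈ H → u = 1 := by
    intro g hg u hu hgu
    by_contra hu1
    apply hg
    have hne := conj_ne_one (g := g) hu1
    have hua : u • a = a := hHa hu
    exact hHfix _ hgu hne (g • a) (conj_smul_smul g u a hua)
  refine ⟨part1, le_antisymm ?_ ?_⟩
  · -- the normalizer is contained in the stabilizer
    intro g hg
    by_contra hga
    have h3 := three_le_card hZ
    have hH2 : 1 < Nat.card H := by omega
    rw [Finite.one_lt_card_iff_nontrivial] at hH2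
    obtain ⟨u, hu⟩ := exists_ne (1 : H)
    have hgu : g * u * g⁻¹ ∈ H := (Subgroup.mem_normalizer_iff.1 hg u).1 u.2
    have := part1 g hga u u.2 hgu
    exact hu (Subtype.ext this)
  · -- the stabilizer normalizes `H`, by counting
    have hX : Nonempty (SubMulAction.ofStabilizer G a) := by
      have h3 := three_le_card hZ
      have := SubMulAction.nat_card_ofStabilizer_add_one_eq G a (α := Ω)
      rw [Nat.card_eq_fintype_card (α := Ω)] at this
      have hpos : 0 < Nat.card (SubMulAction.ofStabilizer G a) := by omega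
      exact (Nat.card_pos_iff.1 hpos).1
    have hpt := stab_pretransitive hZ a
    have hcount := card_one_or_fixedPointFree (S := MulAction.stabilizer G a)
      (X := SubMulAction.ofStabilizer G a) (by
        intro x hx c d hc hd
        by_contra hcd
        apply hx
        apply Subtype.ext
        have hc' : (x : G) • (c : Ω) = c := congrArg Subtype.val hc
        have hd' : (x : G) • (d : Ω) = d := congrArg Subtype.val hd
        have hca : a ≠ (c : Ω) := (SubMulAction.neq_of_mem_ofStabilizer G a (x := c)).symm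
        have hda : a ≠ (d : Ω) := (SubMulAction.neq_of_mem_ofStabilizer G a (x := d)).symm
        have hcd' : (c : Ω) ≠ d := fun h => hcd (Subtype.ext h)
        exact zass_three_fixed hZ hca hcd' hda x.2 hc' hd')
    have hXcard : Nat.card (SubMulAction.ofStabilizer G a) = Nat.card H := by
      have := SubMulAction.nat_card_ofStabilizer_add_one_eq G a (α := Ω)
      rw [Nat.card_eq_fintype_card (α := Ω)] at this
      omega
    -- the set `T` of elements of the stabilizer that are trivial or fixed-point-free off `a`
    set T : Set (MulAction.stabilizer G a) :=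
      {x | x = 1 ∨ ∀ c : SubMulAction.ofStabilizer G a, x • c ≠ c} with hT
    have hHT : ((H.subgroupOf (MulAction.stabilizer G a) : Subgroup _) : Set (MulAction.stabilizer G a)) ⊆ T := by
      intro x hx
      rw [SetLike.mem_coe, Subgroup.mem_subgroupOf] at hx
      by_cases hx1 : x = 1
      · left; exact hx1
      · right
        intro c hc
        have hc' : (x : G) • (c : Ω) = c := congrArg Subtype.val hc
        have hx1' : (x : G) ≠ 1 := fun h => hx1 (Subtype.ext h)
        exact SubMulAction.neq_of_mem_ofStabilizer G a (x := c) (hHfix _ hx hx1' _ hc')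
    have hTcard : T.ncard ≤ ((H.subgroupOf (MulAction.stabilizer G a) : Subgroup _) : Set (MulAction.stabilizer G a)).ncard := by
      rw [← Nat.card_coe_set_eq, ← Nat.card_coe_set_eq]
      have h1 : Nat.card T = Nat.card (SubMulAction.ofStabilizer G a) := hcount
      rw [h1, hXcard]
      have h2 : Nat.card (H.subgroupOf (MulAction.stabilizer G a)) = Nat.card H :=
        Nat.card_congr (Subgroup.subgroupOfEquivOfLe hHa).toEquiv
      exact h2.ge
    have hEq := Set.eq_of_subset_of_ncard_le hHT hTcard (Set.toFinite T)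
    intro g hg
    apply Subgroup.mem_normalizer_fintype
    intro u hu
    have huT : (⟨u, hHa hu⟩ : MulAction.stabilizer G a) ∈ T := by
      rw [← hEq, SetLike.mem_coe, Subgroup.mem_subgroupOf]; exact hu
    have hguT : (⟨g, hg⟩ * ⟨u, hHa hu⟩ * ⟨g, hg⟩⁻¹ : MulAction.stabilizer G a) ∈ T := by
      rcases huT with h1 | h1
      · left; rw [h1]; group
      · right
        intro c hc
        apply h1 ((⟨g, hg⟩ : MulAction.stabilizer G a)⁻¹ • c)
        rw [mul_smul, mul_smul] at hc
        have := congrArg (fun y => (⟨g, hg⟩ : MulAction.stabilizer G a)⁻¹ • y) hc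
        simpa only [inv_smul_smul] using this
    rw [← hEq, SetLike.mem_coe, Subgroup.mem_subgroupOf] at hguT
    exact hguT

end Cfsg.Agent.S0878
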