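-- Statement S0881 (row 881): induced linear characters of a simple Zassenhaus group with odd
-- two-point stabilisers are irreducible.
import Cfsg.Statements.S0881
import Mathlib
import Cfsg.Agent.Lib.Helper28.ZassTwoPointMain
import Cfsg.Agent.Lib.Helper28.ZassPSL
import Cfsg.Agent.Lib.Helper28.ZassConv
import Cfsg.Agent.Lib.Helper34.Induction
import Cfsg.Agent.Lib.Helper34.GenChar
import Cfsg.Agent.Lib.Helper05.CharDecomp
import Cfsg.Agent.Lib.Helper20.LinExt
import Cfsg.Agent.Lib.Helper17.ZassInvol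

set_option autoImplicit false
set_option linter.style.haveILetI false
open Cfsg

namespace Cfsg.Agent.S0881

open MulAction Cfsg.Agent.Lib.Helper28 Cfsg.Agent.Lib
open scoped ComplexConjugate

/-- Norm of an induced function computed through the "Mackey sums". -/
theorem classInner_ind_self {G : Type*} [Group G] [Fintype G] (K : Subgroup G) (μ : K → ℂ)
    (hA : ∀ g ∈ K, ∑ z : G, extendByZero K μ z * conj (extendByZero K μ (g⁻¹ * z * g)) =
      (Nat.card K : ℂ))
    (hB : ∀ g, g ∉ K → ∑ z : G, extendByZero K μ z * conj (extendByZero K μ (g⁻¹ * z * g)) = 0) :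
    classInner (indFun K μ) (indFun K μ) = 1 := by
  classical
  haveI : Fintype K := Fintype.ofFinite K
  rw [Helper34.classInner_indFun_left K μ (indFun K μ) (Helper34.indFun_isClassFunction K μ)]
  rw [Helper34.classInner_def]
  have h1 : ∑ h : K, μ h * conj (indFun K μ (h : G)) =
      ∑ z : G, extendByZero K μ z * conj (indFun K μ z) :=
    (Helper34.sum_extendByZero_mul K μ (fun z => conj (indFun K μ z))).symm
  rw [h1]
  have h2 : ∀ z : G, conj (indFun K μ z) =
      (Nat.card K : ℂ)⁻¹ * ∑ x : G, conj (extendByZero K μ (x⁻¹ * z * x)) := by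
    intro z
    rw [Helper34.indFun_apply, map_mul, map_inv₀, Complex.conj_natCast, map_sum]
  have h3 : ∑ z : G, extendByZero K μ z * conj (indFun K μ z) =
      (Nat.card K : ℂ)⁻¹ *
        ∑ x : G, ∑ z : G, extendByZero K μ z * conj (extendByZero K μ (x⁻¹ * z * x)) := by
    calc ∑ z : G, extendByZero K μ z * conj (indFun K μ z)
        = ∑ z : G, ∑ x : G, (Nat.card K : ℂ)⁻¹ *
            (extendByZero K μ z * conj (extendByZero K μ (x⁻¹ * z * x))) := by
          apply Finset.sum_congr rfl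
          intro z _
          rw [h2 z, Finset.mul_sum, Finset.mul_sum]
          apply Finset.sum_congr rfl
          intro x _
          ring
      _ = ∑ x : G, ∑ z : G, (Nat.card K : ℂ)⁻¹ *
            (extendByZero K μ z * conj (extendByZero K μ (x⁻¹ * z * x))) := Finset.sum_comm
      _ = _ := by
          rw [Finset.mul_sum]
          apply Finset.sum_congr rfl
          intro x _
          rw [Finset.mul_sum]
  rw [h3]
  have h4 : ∑ x : G, ∑ z : G, extendByZero K μ z * conj (extendByZero K μ (x⁻¹ * z * x)) =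
      ∑ x : G, (if x ∈ K then (Nat.card K : ℂ) else 0) := by
    apply Finset.sum_congr rfl
    intro x _
    by_cases hx : x ∈ K
    · rw [if_pos hx, hA x hx]
    · rw [if_neg hx, hB x hx]
  rw [h4, Finset.sum_ite, Finset.sum_const_zero, add_zero, Finset.sum_const, nsmul_eq_mul]
  have h5 : (Finset.univ.filter (fun x : G => x ∈ K)).card = Nat.card K := by
    rw [Nat.card_eq_fintype_card, Fintype.card_subtype]
  rw [h5]
  have h6 : (Nat.card K : ℂ) ≠ 0 := by
    exact_mod_cast (Nat.card_pos (α := K)).ne'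
  field_simp

/-- The sum of the squares of a non-real multiplicative function over a subgroup vanishes. -/
theorem sum_sq_eq_zero {G : Type*} [Group G] [Fintype G] (D : Subgroup G)
    [DecidablePred (· ∈ D)] (f : G → ℂ)
    (hmul : ∀ y ∈ D, ∀ z ∈ D, f (y * z) = f y * f z) (y : G) (hy : y ∈ D)
    (hne : f y * f y ≠ 1) :
    ∑ z : G, (if z ∈ D then f z * f z else 0) = 0 := by
  have h1 : ∑ z : G, (if z ∈ D then f z * f z else 0) =
      ∑ z : G, (if y * z ∈ D then f (y * z) * f (y * z) else 0) :=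
    (Fintype.sum_equiv (Equiv.mulLeft y)
      (fun z => if y * z ∈ D then f (y * z) * f (y * z) else 0)
      (fun z => if z ∈ D then f z * f z else 0) (fun z => rfl)).symm
  have h2 : ∑ z : G, (if y * z ∈ D then f (y * z) * f (y * z) else 0) =
      (f y * f y) * ∑ z : G, (if z ∈ D then f z * f z else 0) := by
    rw [Finset.mul_sum]
    apply Finset.sum_congr rfl
    intro z _
    by_cases hz : z ∈ D
    · rw [if_pos hz, if_pos (D.mul_mem hy hz), hmul y hy z hz]; ring
    · have : y * z ∉ D := fun h => hz ((Subgroup.mul_mem_cancel_left D hy).mp h)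
      rw [if_neg hz, if_neg this, mul_zero]
  have h3 : (1 - f y * f y) * ∑ z : G, (if z ∈ D then f z * f z else 0) = 0 := by
    rw [sub_mul, one_mul, ← h2, ← h1, sub_self]
  rcases mul_eq_zero.mp h3 with h | h
  · exact absurd (sub_eq_zero.mp h).symm hne
  · exact h

/-- The core computation. -/
theorem core {G Ω : Type*} [Group G] [Fintype G] [MulAction G Ω] (a : Ω) (K H : Subgroup G)
    (hKa : ∀ z, z ∈ K ↔ z • a = a) (hHK : H ≤ K)
    (hHnorm : ∀ k ∈ K, ∀ u ∈ H, k * u * k⁻¹ ∈ H)
    (hHfix : ∀ u ∈ H, u ≠ 1 → ∀ c : Ω, u • c = c → c = a)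
    (hHtr : ∀ b c : Ω, b ≠ a → c ≠ a → ∃ k ∈ H, k • b = c)
    (hinv : ∀ c : Ω, c ≠ a → ∀ s : G, s • a = c → s • c = a → ∀ d ∈ K, d • c = c →
      s * d * s⁻¹ = d⁻¹)
    (hodd : ∀ c : Ω, c ≠ a → ∀ d ∈ K, d • c = c → ∃ m : ℕ, Odd m ∧ d ^ m = 1)
    (μ : K → ℂ) (hμ : IsCharacter K μ ∧ μ 1 = 1) (hμH : ∀ u : K, (u : G) ∈ H → μ u = 1)
    (hμne : μ ≠ fun _ => 1) :
    classInner (indFun K μ) (indFun K μ) = 1 ∧ ∀ u ∈ H, u ≠ 1 → indFun K μ u = 1 := by
  classical
  obtain ⟨φ, hφ⟩ := Helper20.exists_hom_of_linear hμ.1 hμ.2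
  obtain ⟨F, hF⟩ : ∃ F : G → ℂ, F = extendByZero K μ := ⟨_, rfl⟩
  have hF0 : ∀ z, z ∉ K → F z = 0 := fun z hz => by
    rw [hF]; exact Helper34.extendByZero_apply_not_mem K μ hz
  have hFK : ∀ z (hz : z ∈ K), F z = ((φ ⟨z, hz⟩ : ℂˣ) : ℂ) := by
    intro z hz
    rw [hF, Helper34.extendByZero_apply_mem K μ hz, ← hφ, Helper20.homFun_apply]
  have hFmul : ∀ z ∈ K, ∀ w ∈ K, F (z * w) = F z * F w := by
    intro z hz w hw
    rw [hFK _ (K.mul_mem hz hw), hFK z hz, hFK w hw, ← Units.val_mul, ← map_mul]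
    rfl
  have hF1 : F 1 = 1 := by
    rw [hFK 1 K.one_mem]
    have : (⟨1, K.one_mem⟩ : K) = 1 := rfl
    rw [this, map_one, Units.val_one]
  have hFpow : ∀ z ∈ K, ∀ j : ℕ, F (z ^ j) = F z ^ j := by
    intro z hz j
    induction j with
    | zero => rw [pow_zero, pow_zero, hF1]
    | succ j ih => rw [pow_succ, pow_succ, hFmul _ (K.pow_mem hz j) z hz, ih]
  have hFinv_mul : ∀ z ∈ K, F z * F z⁻¹ = 1 := by
    intro z hz
    rw [← hFmul z hz z⁻¹ (K.inv_mem hz), mul_inv_cancel, hF1]
  have hFnorm : ∀ z ∈ K, ‖F z‖ = 1 := by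
    intro z hz
    have h1 : F z ^ (orderOf z) = 1 := by rw [← hFpow z hz, pow_orderOf_eq_one, hF1]
    have hpos : 0 < orderOf z := orderOf_pos z
    have h2 : ‖F z‖ ^ (orderOf z) = 1 := by rw [← norm_pow, h1, norm_one]
    exact (pow_eq_one_iff_of_nonneg (norm_nonneg _) hpos.ne').mp h2
  have hFconjv : ∀ z ∈ K, conj (F z) = F z⁻¹ := by
    intro z hz
    have h1 := hFinv_mul z hz
    have h2 : (F z)⁻¹ = conj (F z) := Complex.inv_eq_conj (hFnorm z hz)
    rw [← h2]
    exact (eq_inv_of_mul_eq_one_right h1).symm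
  have hFconj : ∀ k ∈ K, ∀ z ∈ K, F (k * z * k⁻¹) = F z := by
    intro k hk z hz
    rw [hFmul (k * z) (K.mul_mem hk hz) k⁻¹ (K.inv_mem hk), hFmul k hk z hz]
    calc F k * F z * F k⁻¹ = F z * (F k * F k⁻¹) := by ring
      _ = F z := by rw [hFinv_mul k hk, mul_one]
  have hFH : ∀ u ∈ H, F u = 1 := by
    intro u hu
    rw [hF, Helper34.extendByZero_apply_mem K μ (hHK hu)]
    exact hμH ⟨u, hHK hu⟩ hu
  have hFne : ∃ x ∈ K, F x ≠ 1 := by
    by_contra hcon
    push Not at hcon
    apply hμne
    funext x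
    have := hcon x x.2
    rw [hF, Helper34.extendByZero_coe K μ x] at this
    exact this
  have hcardK : ((Finset.univ.filter (fun x : G => x ∈ K)).card : ℂ) = (Nat.card K : ℂ) := by
    rw [Nat.card_eq_fintype_card, Fintype.card_subtype]
  -- Claim A
  have hA : ∀ g ∈ K, ∑ z : G, F z * conj (F (g⁻¹ * z * g)) = (Nat.card K : ℂ) := by
    intro g hg
    have h1 : ∀ z : G, F z * conj (F (g⁻¹ * z * g)) = if z ∈ K then 1 else 0 := by
      intro z
      by_cases hz : z ∈ K
      · rw [if_pos hz]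
        have h2 : F (g⁻¹ * z * g) = F z := by
          have := hFconj g⁻¹ (K.inv_mem hg) z hz
          rwa [inv_inv] at this
        rw [h2, hFconjv z hz, hFinv_mul z hz]
      · rw [if_neg hz, hF0 z hz, zero_mul]
    simp_rw [h1]
    rw [Finset.sum_boole, hcardK]
  -- Claim B
  have hB : ∀ g, g ∉ K → ∑ z : G, F z * conj (F (g⁻¹ * z * g)) = 0 := by
    intro g hg
    have hc : g • a ≠ a := fun h => hg ((hKa g).mpr h)
    have hd : g⁻¹ • a ≠ a := by
      intro h
      apply hc
      have := congrArg (fun y => g • y) h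
      simp only [smul_inv_smul] at this
      exact this.symm
    obtain ⟨c, hcdef⟩ : ∃ c : Ω, c = g • a := ⟨_, rfl⟩
    rw [← hcdef] at hc
    obtain ⟨k, hkH, hkc⟩ := hHtr c (g⁻¹ • a) hc hd
    have hkK : k ∈ K := hHK hkH
    have hka : k • a = a := (hKa k).mp hkK
    have hsa : (g * k) • a = c := by rw [mul_smul, hka, hcdef]
    have hsc : (g * k) • c = a := by rw [mul_smul, hkc, smul_inv_smul]
    have hs'a : (g * k)⁻¹ • a = c := by rw [← hsc, inv_smul_smul]
    have hs'c : (g * k)⁻¹ • c = a := by rw [← hsa, inv_smul_smul]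
    obtain ⟨D, hD⟩ : ∃ D : Subgroup G, D = K ⊓ MulAction.stabilizer G c := ⟨_, rfl⟩
    have hDmem : ∀ z, z ∈ D ↔ z ∈ K ∧ z • c = c := by
      intro z
      rw [hD, Subgroup.mem_inf, mem_stabilizer_iff]
    have h1 : ∀ z : G, F z * conj (F (g⁻¹ * z * g)) = if z ∈ D then F z * F z else 0 := by
      intro z
      by_cases hz : z ∈ K
      · by_cases hzc : z • c = c
        · have hzD : z ∈ D := (hDmem z).mpr ⟨hz, hzc⟩
          rw [if_pos hzD]
          have h2 := hinv c hc (g * k)⁻¹ hs'a hs'c z hz hzc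
          rw [inv_inv] at h2
          have h3 : g⁻¹ * z * g = k * z⁻¹ * k⁻¹ := by
            rw [← h2]; group
          rw [h3, hFconj k hkK z⁻¹ (K.inv_mem hz), ← hFconjv z hz, Complex.conj_conj]
        · have hzD : z ∉ D := fun h => hzc ((hDmem z).mp h).2
          rw [if_neg hzD]
          have : g⁻¹ * z * g ∉ K := by
            intro hmem
            apply hzc
            have h2 := (hKa _).mp hmem
            have := congrArg (fun y => g • y) h2
            simp only [mul_smul, smul_inv_smul] at this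
            rw [hcdef]
            exact this
          rw [hF0 _ this, map_zero, mul_zero]
      · have hzD : z ∉ D := fun h => hz ((hDmem z).mp h).1
        rw [if_neg hzD, hF0 z hz, zero_mul]
    simp_rw [h1]
    obtain ⟨x, hxK, hx1⟩ := hFne
    have hxa : x • a = a := (hKa x).mp hxK
    have hxc : x • c ≠ a := by
      intro h
      apply hc
      have : x • c = x • a := by rw [h, hxa]
      exact MulAction.injective x this
    obtain ⟨k', hk'H, hk'c⟩ := hHtr (x • c) c hxc hc
    have hyK : k' * x ∈ K := K.mul_mem (hHK hk'H) hxK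
    have hyc : (k' * x) • c = c := by rw [mul_smul, hk'c]
    have hyD : k' * x ∈ D := (hDmem _).mpr ⟨hyK, hyc⟩
    have hFy : F (k' * x) ≠ 1 := by
      rw [hFmul k' (hHK hk'H) x hxK, hFH k' hk'H, one_mul]; exact hx1
    have hFy2 : F (k' * x) * F (k' * x) ≠ 1 := by
      intro h2
      obtain ⟨m, hm, hpow⟩ := hodd c hc (k' * x) hyK hyc
      obtain ⟨j, rfl⟩ := hm
      have h3 : F (k' * x) ^ (2 * j + 1) = 1 := by rw [← hFpow _ hyK, hpow, hF1]
      rw [pow_succ, pow_mul, pow_two, h2, one_pow, one_mul] at h3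
      exact hFy h3
    exact sum_sq_eq_zero D F
      (fun y hy z hz => hFmul y ((hDmem y).mp hy).1 z ((hDmem z).mp hz).1) (k' * x) hyD hFy2
  refine ⟨classInner_ind_self K μ ?_ ?_, ?_⟩
  · intro g hg
    rw [← hF]; exact hA g hg
  · intro g hg
    rw [← hF]; exact hB g hg
  · intro u hu hu1
    rw [Helper34.indFun_apply, ← hF]
    have h1 : ∀ x : G, F (x⁻¹ * u * x) = if x ∈ K then 1 else 0 := by
      intro x
      by_cases hx : x ∈ K
      · rw [if_pos hx]
        have := hHnorm x⁻¹ (K.inv_mem hx) u hu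
        rw [inv_inv] at this
        exact hFH _ this
      · rw [if_neg hx]
        apply hF0
        intro hmem
        have h2 : (x⁻¹ * u * x) • a = a := (hKa _).mp hmem
        have h3 : u • (x • a) = x • a := by
          have := congrArg (fun y => x • y) h2
          simp only [mul_smul, smul_inv_smul] at this
          exact this
        have h4 := hHfix u hu hu1 _ h3
        exact hx ((hKa x).mpr h4)
    simp_rw [h1]
    rw [Finset.sum_boole, hcardK]
    have h6 : (Nat.card K : ℂ) ≠ 0 := by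
      exact_mod_cast (Nat.card_pos (α := K)).ne'
    field_simp

/-- Let G be a finite simple Zassenhaus group on Ω with n points, a ≠ b points with two-point stabilizer E of odd order less than n - 2, and let H be the subgroup of the stabilizer of a consisting of the identity and the elements fixing no point other than a (given here as a subgroup of the stabilizer of order one less than the number of points whose non-identity elements fix only a; it is the Frobenius kernel of the stabilizer). Let μ be a character of degree 1 of the stabilizer of a that is identically 1 on H but not identically 1. Then the function induced from μ to G is an irreducible character of G, and it takes the value 1 at every non-identity element of H. -/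
theorem result {G Ω : Type*} [Group G] [Fintype G] [MulAction G Ω] [Fintype Ω] (hZ : Cfsg.IsZassenhausGroup G Ω) {a b : Ω} (hab : a ≠ b) [IsSimpleGroup G] (hodd : Odd (Nat.card ↥(MulAction.stabilizer G a ⊓ MulAction.stabilizer G b : Subgroup G))) (hlt : Nat.card ↥(MulAction.stabilizer G a ⊓ MulAction.stabilizer G b : Subgroup G) < Fintype.card Ω - 2) (H : Subgroup G) (hHa : H ≤ MulAction.stabilizer G a) (hHcard : Nat.card H + 1 = Fintype.card Ω) (hHfix : ∀ u ∈ H, u ≠ 1 → ∀ c : Ω, u • c = c → c = a) (μ : MulAction.stabilizer G a → ℂ) (hμ : Cfsg.IsCharacter (MulAction.stabilizer G a) μ ∧ μ 1 = 1) (hμH : ∀ u : MulAction.stabilizer G a, (u : G) ∈ H → μ u = 1) (hμne : μ ≠ fun _ => 1) : Cfsg.IsIrrCharacter G (Cfsg.indFun (MulAction.stabilizer G a) μ) ∧ ∀ u ∈ H, u ≠ 1 → Cfsg.indFun (MulAction.stabilizer G a) μ u = 1 := by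
  classical
  have hpre := zpre_of_isZassenhausGroup hZ
  obtain ⟨K₀, hK₀le, hK₀mem, hK₀tr, -⟩ := hpre.exists_kernel a
  have hK₀reg : ∀ y z : Ω, y ≠ a → z ≠ a → ∃! u : K₀, (u : G) • y = z := by
    intro y z hy hz
    obtain ⟨k, hk, hkyz⟩ := hK₀tr y z hy hz
    refine ⟨⟨k, hk⟩, hkyz, ?_⟩
    intro u hu
    have h1 : ((u : G)⁻¹ * k) ∈ K₀ := K₀.mul_mem (K₀.inv_mem u.2) hk
    have h2 : ((u : G)⁻¹ * k) • y = y := by
      have hu' : (u : G) • y = z := hu
      rw [mul_smul, hkyz, ← hu', inv_smul_smul]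
    rcases (hK₀mem _ (hK₀le h1)).mp h1 with h3 | h3
    · apply Subtype.ext
      exact inv_mul_eq_one.mp h3
    · exact absurd h2 (h3 y hy)
  obtain ⟨hK₀card, hGcard⟩ := hpre.card_of_regular_kernel hab K₀ hK₀le hK₀reg
  have hHK₀ : H = K₀ := by
    have hle : H ≤ K₀ := by
      intro u hu
      apply (hK₀mem u (hHa hu)).mpr
      by_cases hu1 : u = 1
      · left; exact hu1
      · right
        intro c hc hfix
        exact hc (hHfix u hu hu1 c hfix)
    apply Subgroup.eq_of_le_of_card_ge hle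
    omega
  subst hHK₀
  have hHnorm : ∀ k ∈ stabilizer G a, ∀ u ∈ H, k * u * k⁻¹ ∈ H := by
    intro k hk u hu
    have hmemK : k * u * k⁻¹ ∈ stabilizer G a :=
      (stabilizer G a).mul_mem ((stabilizer G a).mul_mem hk (hHa hu)) ((stabilizer G a).inv_mem hk)
    apply (hK₀mem _ hmemK).mpr
    by_cases hu1 : u = 1
    · left; rw [hu1]; group
    · right
      intro c hc hfix
      have h1 : u • (k⁻¹ • c) = k⁻¹ • c := by
        have := congrArg (fun x => k⁻¹ • x) hfix
        simp only [mul_smul, inv_smul_smul] at this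
        exact this
      have h2 := hHfix u hu hu1 _ h1
      apply hc
      have h3 : c = k • a := by rw [← h2, smul_inv_smul]
      rw [h3]; exact mem_stabilizer_iff.mp hk
  have hodd_c : ∀ c, c ≠ a → Odd (Nat.card ↥(stabilizer G a ⊓ stabilizer G c : Subgroup G)) := by
    intro c hc
    rw [Helper17.ZassInvol.card_stab_pair hZ hab (Ne.symm hc)]; exact hodd
  have h2G : 2 ∣ Nat.card G := by
    rw [hGcard, hK₀card, ← mul_assoc]
    exact Dvd.dvd.mul_right (even_iff_two_dvd.mp (Nat.even_mul_pred_self _)) _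
  have hnil : ∀ c, c ≠ a → ∀ q : ℕ, q.Prime →
      q ∣ Nat.card ↥(stabilizer G a ⊓ stabilizer G c : Subgroup G) →
      ¬ ∃ N : Subgroup G, N.Normal ∧ N.index = q ^ (Nat.card G).factorization q := by
    rintro c hc q hq hqe ⟨M, hMn, hMidx⟩
    have hqG : q ∣ Nat.card G := dvd_trans hqe (Subgroup.card_subgroup_dvd_card _)
    rcases hMn.eq_bot_or_eq_top with rfl | rfl
    · rw [Subgroup.index_bot] at hMidx
      rw [hMidx] at h2G
      have h3 : 2 ∣ q := Nat.Prime.dvd_of_dvd_pow Nat.prime_two h2G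
      have h4 : q = 2 := ((Nat.prime_dvd_prime_iff_eq Nat.prime_two hq).mp h3).symm
      rw [h4] at hqe
      exact (Nat.not_even_iff_odd.2 (hodd_c c hc)) (even_iff_two_dvd.2 hqe)
    · rw [Subgroup.index_top] at hMidx
      have hk : (Nat.card G).factorization q = 0 := by
        by_contra hk
        have : 1 < q ^ (Nat.card G).factorization q := Nat.one_lt_pow hk hq.one_lt
        omega
      rcases (Nat.factorization_eq_zero_iff _ _).mp hk with h1 | h1 | h1
      · exact h1 hq
      · exact h1 hqG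
      · exact (Nat.card_pos (α := G)).ne' h1
  have hinv : ∀ c : Ω, c ≠ a → ∀ s : G, s • a = c → s • c = a → ∀ d ∈ stabilizer G a,
      d • c = c → s * d * s⁻¹ = d⁻¹ := by
    intro c hc s hsa hsc d hd hdc
    obtain ⟨-, -, h3⟩ := hpre.twoStab_main (Ne.symm hc) (hodd_c c hc) (hnil c hc)
    exact h3 s hsa hsc d ⟨hd, mem_stabilizer_iff.mpr hdc⟩
  have hoddpow : ∀ c : Ω, c ≠ a → ∀ d ∈ stabilizer G a, d • c = c →
      ∃ m : ℕ, Odd m ∧ d ^ m = 1 := by
    intro c hc d hd hdc
    refine ⟨_, hodd_c c hc, ?_⟩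
    have hdm : d ∈ (stabilizer G a ⊓ stabilizer G c : Subgroup G) :=
      ⟨hd, mem_stabilizer_iff.mpr hdc⟩
    have := pow_card_eq_one' (G := ↥(stabilizer G a ⊓ stabilizer G c : Subgroup G)) (x := ⟨d, hdm⟩)
    exact congrArg Subtype.val this
  have hcore := core a (stabilizer G a) H (fun z => mem_stabilizer_iff) hHa hHnorm hHfix hK₀tr
    hinv hoddpow μ hμ hμH hμne
  exact ⟨Helper05.isIrrCharacter_of_classInner_self_eq_one
    (Helper34.isCharacter_indFun _ hμ.1) hcore.1, hcore.2⟩

end Cfsg.Agent.S0881
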