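import Cfsg.Statements.S0882
import Cfsg.Agent.Lib.Helper28.ZassInvol

set_option autoImplicit false
open Cfsg

namespace Cfsg.Agent.S0882

open Cfsg.Agent.Lib.Helper28 MulAction

/-- Let G be a finite simple Zassenhaus group on Ω with n = h + 1 points whose two-point stabilizer E has odd order e with 2e < h - 1. Then any two involutions of G are conjugate, and the number of involutions is e * (h + 1) if h is even and e * h if h is odd. -/
theorem result {G Ω : Type*} [Group G] [Finite G] [MulAction G Ω] [Fintype Ω] (hZ : Cfsg.IsZassenhausGroup G Ω) {a b : Ω} (hab : a ≠ b) [IsSimpleGroup G] (h e : ℕ) (hh : Fintype.card Ω = h + 1) (he : Nat.card ↥(MulAction.stabilizer G a ⊓ MulAction.stabilizer G b : Subgroup G) = e) (hodd : Odd e) (hlt : 2 * e < h - 1) : (∀ x y : G, orderOf x = 2 → orderOf y = 2 → IsConj x y) ∧ Nat.card {x : G // orderOf x = 2} = (if Even h then e * (h + 1) else e * h) := by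
  classical
  have hpre := zpre_of_isZassenhausGroup hZ
  have hodd' : Odd (Nat.card ↥(MulAction.stabilizer G a ⊓ MulAction.stabilizer G b : Subgroup G)) := by
    rw [he]; exact hodd
  by_cases hev : Even h
  · rw [if_pos hev]
    have hN : Odd (Fintype.card Ω) := by rw [hh]; exact hev.add_one
    obtain ⟨h1, h2⟩ := invol_of_odd_degree hZ hab hodd' hN
    refine ⟨h1, ?_⟩
    rw [h2, he, hh]
  · rw [if_neg hev]
    have hN : Even (Fintype.card Ω) := by
      rw [hh]; exact (Nat.not_even_iff_odd.mp hev).add_one
    have hnil : ∀ q : ℕ, q.Prime →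
        q ∣ Nat.card ↥(MulAction.stabilizer G a ⊓ MulAction.stabilizer G b : Subgroup G) →
        ¬ ∃ N : Subgroup G, N.Normal ∧ N.index = q ^ (Nat.card G).factorization q := by
      rintro q hq hqe ⟨M, hMn, hMidx⟩
      have hqG : q ∣ Nat.card G := dvd_trans hqe (Subgroup.card_subgroup_dvd_card _)
      rcases hMn.eq_bot_or_eq_top with rfl | rfl
      · rw [Subgroup.index_bot] at hMidx
        have : IsPretransitive G Ω := ⟨fun x y => hpre.trans1 x y⟩
        have h1 : Fintype.card Ω ∣ Nat.card G := by
          rw [← Nat.card_eq_fintype_card, ← index_stabilizer_of_transitive G a]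
          exact Subgroup.index_dvd_card _
        have h2 : 2 ∣ Nat.card G := dvd_trans (even_iff_two_dvd.mp hN) h1
        rw [hMidx] at h2
        have h3 : 2 ∣ q := Nat.Prime.dvd_of_dvd_pow Nat.prime_two h2
        have h4 : q = 2 := ((Nat.prime_dvd_prime_iff_eq Nat.prime_two hq).mp h3).symm
        rw [h4] at hqe
        exact (Nat.not_even_iff_odd.2 hodd') (even_iff_two_dvd.2 hqe)
      · rw [Subgroup.index_top] at hMidx
        have hk : (Nat.card G).factorization q = 0 := by
          by_contra hk
          have : 1 < q ^ (Nat.card G).factorization q := Nat.one_lt_pow hk hq.one_lt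
          omega
        rcases (Nat.factorization_eq_zero_iff _ _).mp hk with h1 | h1 | h1
        · exact h1 hq
        · exact h1 hqG
        · exact (Nat.card_pos (α := G)).ne' h1
    obtain ⟨-, -, hinv⟩ := hpre.twoStab_main hab hodd' hnil
    obtain ⟨h1, h2⟩ := invol_of_even_degree hZ hab hodd' hN hinv
    refine ⟨h1, ?_⟩
    rw [h2, he, hh, Nat.add_sub_cancel]

end Cfsg.Agent.S0882
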