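import Mathlib
import Cfsg.Statements.S0883
import Cfsg.Agent.S0878
import Cfsg.Agent.Lib.Helper17.ZassInvol

set_option autoImplicit false
set_option linter.style.haveILetI false
open Cfsg

namespace Cfsg.Agent.S0883

open MulAction Subgroup Cfsg.Agent.Lib.Helper17.ZassInvol

/-- Let G be a finite simple Zassenhaus group on Ω with h + 1 points whose two-point stabilizer E has odd order e with 2e < h - 1, and let H be the subgroup of the stabilizer of a consisting of the identity and the elements fixing no point other than a (given here as a subgroup of the stabilizer of order one less than the number of points whose non-identity elements fix only a; it is the Frobenius kernel of the stabilizer). If a non-identity element u of H is a product of two involutions of G, then u is an involution. -/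
theorem result {G Ω : Type*} [Group G] [Finite G] [MulAction G Ω] [Fintype Ω] (hZ : Cfsg.IsZassenhausGroup G Ω) {a b : Ω} (hab : a ≠ b) [IsSimpleGroup G] (h e : ℕ) (hh : Fintype.card Ω = h + 1) (he : Nat.card ↥(MulAction.stabilizer G a ⊓ MulAction.stabilizer G b : Subgroup G) = e) (hodd : Odd e) (hlt : 2 * e < h - 1) (H : Subgroup G) (hHa : H ≤ MulAction.stabilizer G a) (hHcard : Nat.card H + 1 = Fintype.card Ω) (hHfix : ∀ u ∈ H, u ≠ 1 → ∀ c : Ω, u • c = c → c = a) (u : G) (hu : u ∈ H) (hu1 : u ≠ 1) (x y : G) (hx : orderOf x = 2) (hy : orderOf y = 2) (hxy : x * y = u) : orderOf u = 2 := by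
  classical
  have hnorm := (Cfsg.Agent.S0878.result hZ a H hHa hHcard hHfix).2
  have hodd' : Odd (Nat.card ↥(MulAction.stabilizer G a ⊓ MulAction.stabilizer G b : Subgroup G)) := by
    rw [he]; exact hodd
  have hx2 : x * x = 1 := by rw [← pow_two, ← hx]; exact pow_orderOf_eq_one x
  have hy2 : y * y = 1 := by rw [← pow_two, ← hy]; exact pow_orderOf_eq_one y
  have hx1 : x ≠ 1 := by
    intro h1; rw [h1, orderOf_one] at hx; omega
  have hy1 : y ≠ 1 := by
    intro h1; rw [h1, orderOf_one] at hy; omega
  have hxinv : x⁻¹ = x := inv_eq_of_mul_eq_one_left hx2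
  have hyinv : y⁻¹ = y := inv_eq_of_mul_eq_one_left hy2
  have hua : u • a = a := hHa hu
  -- x and y fix a
  have hconjx : x * u * x⁻¹ = u⁻¹ := by
    rw [← hxy, hxinv, mul_inv_rev, hxinv, hyinv]
    calc x * (x * y) * x = (x * x) * y * x := by group
      _ = y * x := by rw [hx2, one_mul]
  have hconjy : y * u * y⁻¹ = u⁻¹ := by
    rw [← hxy, hyinv, mul_inv_rev, hxinv, hyinv]
    calc y * (x * y) * y = y * x * (y * y) := by group
      _ = y * x := by rw [hy2, mul_one]
  have hfixconj : ∀ g : G, g * u * g⁻¹ = u⁻¹ → g • a = a := by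
    intro g hg
    have h1 : u⁻¹ • (g • a) = g • a := by
      rw [← hg, mul_smul, mul_smul, inv_smul_smul, hua]
    have h2 : u • (g • a) = g • a := by
      rw [inv_smul_eq_iff] at h1; exact h1.symm
    exact hHfix u hu hu1 _ h2
  have hxa : x • a = a := hfixconj x hconjx
  have hya : y • a = a := hfixconj y hconjy
  have hCx := invol_centralizer_eq hZ hab hodd' H hHa hHcard hnorm hx2 hx1 hxa
  have hCy := invol_centralizer_eq hZ hab hodd' H hHa hHcard hnorm hy2 hy1 hya
  -- y ∈ H = C(x) ∩ N
  have hyH : y ∈ H := by
    rw [← hCy, Subgroup.mem_inf, Subgroup.mem_centralizer_iff]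
    refine ⟨fun t ht => ?_, hya⟩
    rw [Set.mem_singleton_iff] at ht
    rw [ht]
  have hyCx : y ∈ Subgroup.centralizer ({x} : Set G) ⊓ MulAction.stabilizer G a := by
    rw [hCx]; exact hyH
  have hcomm : x * y = y * x := (Subgroup.mem_centralizer_iff.mp hyCx.1) x rfl
  have hu2 : u ^ 2 = 1 := by
    rw [pow_two, ← hxy]
    calc x * y * (x * y) = x * (y * x) * y := by group
      _ = x * (x * y) * y := by rw [hcomm]
      _ = (x * x) * (y * y) := by group
      _ = 1 := by rw [hx2, hy2, one_mul]
  exact orderOf_eq_prime hu2 hu1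

end Cfsg.Agent.S0883
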