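import Cfsg.Statements.S0884
import Cfsg.Agent.S0882
import Cfsg.Agent.S0883
import Cfsg.Agent.Lib.Helper83.InvPairs
import Cfsg.Agent.Lib.Helper05.BrauerPerm
import Cfsg.Agent.Lib.Helper17.ZassInvol
import Cfsg.Agent.Lib.Helper17.ZassCount
import Cfsg.Agent.Lib.Helper28.ZassInvol

set_option autoImplicit false
open Cfsg

namespace Cfsg.Agent.S0884

/-- Let G be a finite simple Zassenhaus group on Ω with h + 1 points whose two-point stabilizer E has odd order e with 2e < h - 1, and let H be the subgroup of the stabilizer of a consisting of the identity and the elements fixing no point other than a (given here as a subgroup of the stabilizer of order one less than the number of points whose non-identity elements fix only a; it is the Frobenius kernel of the stabilizer). Then at least e conjugacy classes of G contain no element of H. -/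
theorem result {G Ω : Type*} [Group G] [Finite G] [MulAction G Ω] [Fintype Ω] (hZ : Cfsg.IsZassenhausGroup G Ω) {a b : Ω} (hab : a ≠ b) [IsSimpleGroup G] (h e : ℕ) (hh : Fintype.card Ω = h + 1) (he : Nat.card ↥(MulAction.stabilizer G a ⊓ MulAction.stabilizer G b : Subgroup G) = e) (hodd : Odd e) (hlt : 2 * e < h - 1) (H : Subgroup G) (hHa : H ≤ MulAction.stabilizer G a) (hHcard : Nat.card H + 1 = Fintype.card Ω) (hHfix : ∀ u ∈ H, u ≠ 1 → ∀ c : Ω, u • c = c → c = a) : e ≤ Nat.card {C : ConjClasses G // ∀ g : G, ConjClasses.mk g = C → g ∉ H} := by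
  classical
  have instG : Fintype G := Fintype.ofFinite G
  have hodd' : Odd (Nat.card ↥(MulAction.stabilizer G a ⊓ MulAction.stabilizer G b : Subgroup G)) := by
    rw [he]; exact hodd
  obtain ⟨-, hcardInv⟩ := Cfsg.Agent.S0882.result hZ hab h e hh he hodd hlt
  have hcardG : Nat.card G = (h + 1) * h * e := by
    rw [Cfsg.Agent.Lib.Helper17.ZassCount.card_eq hZ hab, hh, he]
    simp
  have hHh : Nat.card H = h := by omega
  have he1 : 1 ≤ e := hodd.pos
  -- the classes avoiding `H`
  set P : G → Prop := fun g => ∀ x : G, x * g * x⁻¹ ∉ H with hP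
  have hPconj : ∀ g g', IsConj g g' → (P g ↔ P g') := by
    intro g g' hgg'
    obtain ⟨c, hc⟩ := isConj_iff.1 hgg'
    constructor
    · intro hg x hx
      apply hg (x * c)
      rw [← hc] at hx
      have : x * c * g * (x * c)⁻¹ = x * (c * g * c⁻¹) * x⁻¹ := by group
      rw [this]
      exact hx
    · intro hg x hx
      apply hg (x * c⁻¹)
      rw [← hc]
      have : x * c⁻¹ * (c * g * c⁻¹) * (x * c⁻¹)⁻¹ = x * g * x⁻¹ := by group
      rw [this]
      exact hx
  have hk : Nat.card {C : ConjClasses G // ∀ g : G, ConjClasses.mk g = C → g ∉ H} =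
      Nat.card {C : ConjClasses G // ∀ g : G, ConjClasses.mk g = C → P g} := by
    apply Nat.card_congr
    apply Equiv.subtypeEquivRight
    intro C
    constructor
    · intro hC g hg x
      apply hC (x * g * x⁻¹)
      rw [← hg]
      exact ConjClasses.mk_eq_mk_iff_isConj.2 (isConj_iff.2 ⟨x⁻¹, by group⟩)
    · intro hC g hg hgH
      apply hC g hg 1
      simpa using hgH
  rw [hk]
  set k0 := Nat.card {C : ConjClasses G // ∀ g : G, ConjClasses.mk g = C → P g} with hk0
  have hsum := Cfsg.Agent.Lib.Helper05.sum_centralizer_eq_card_classes P hPconj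
  have hsumN : ∑ g : G, (if P g then Nat.card (Subgroup.centralizer ({g} : Set G)) else 0) =
      Nat.card G * k0 := by
    have : ((∑ g : G, (if P g then Nat.card (Subgroup.centralizer ({g} : Set G)) else 0) : ℕ) : ℂ) =
        ((Nat.card G * k0 : ℕ) : ℂ) := by
      rw [Nat.cast_sum, Nat.cast_mul, ← hsum]
      apply Finset.sum_congr rfl
      intro g _
      split_ifs <;> simp
    exact_mod_cast this
  -- involutions
  set Inv : Finset G := Finset.univ.filter (fun x : G => orderOf x = 2) with hInv
  have hI : Inv.card = if Even h then e * (h + 1) else e * h := by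
    rw [← hcardInv, Nat.card_eq_fintype_card, Fintype.card_subtype]
  -- the good pairs
  set Pairs : Finset (G × G) := (Inv ×ˢ Inv).filter (fun p => P (p.1 * p.2)) with hPairs
  -- Step A
  have hA : Pairs.card ≤ Nat.card G * k0 := by
    rw [← hsumN]
    rw [Finset.card_eq_sum_card_fiberwise (f := fun p : G × G => p.1 * p.2) (t := Finset.univ)
      (fun p _ => Finset.mem_univ _)]
    apply Finset.sum_le_sum
    intro g _
    by_cases hg : P g
    · rw [if_pos hg]
      refine le_trans (Finset.card_le_card ?_) (Cfsg.Agent.Lib.Helper83.card_invol_pairs_le g)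
      intro p hp
      simp only [Finset.mem_filter, Finset.mem_product, Finset.mem_univ, true_and, hPairs, hInv]
        at hp ⊢
      exact ⟨hp.1.1.1, hp.1.1.2, hp.2⟩
    · rw [if_neg hg]
      apply le_of_eq
      rw [Finset.card_eq_zero, Finset.filter_eq_empty_iff]
      intro p hp hpg
      simp only [Finset.mem_filter, hPairs] at hp
      rw [hpg] at hp
      exact hg hp.2
  -- Step C: the bad pairs
  set Bad : Finset (G × G) := (Inv ×ˢ Inv).filter (fun p => p.1 ≠ p.2 ∧ ¬ P (p.1 * p.2)) with hBad
  have hsplit : Inv.card * Inv.card ≤ Pairs.card + Inv.card + Bad.card := by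
    rw [← Finset.card_product]
    have hsub : Inv ×ˢ Inv ⊆ Pairs ∪ (Inv.image (fun x => (x, x))) ∪ Bad := by
      intro p hp
      by_cases h1 : P (p.1 * p.2)
      · apply Finset.mem_union_left
        apply Finset.mem_union_left
        exact Finset.mem_filter.2 ⟨hp, h1⟩
      · by_cases h2 : p.1 = p.2
        · apply Finset.mem_union_left
          apply Finset.mem_union_right
          rw [Finset.mem_image]
          refine ⟨p.1, (Finset.mem_product.1 hp).1, ?_⟩
          exact Prod.ext rfl h2
        · apply Finset.mem_union_right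
          exact Finset.mem_filter.2 ⟨hp, h2, h1⟩
    refine le_trans (Finset.card_le_card hsub) ?_
    refine le_trans (Finset.card_union_le _ _) ?_
    apply Nat.add_le_add_right
    refine le_trans (Finset.card_union_le _ _) ?_
    apply Nat.add_le_add_left
    exact Finset.card_image_le
  -- analysis of a bad pair
  have hbad : ∀ p ∈ Bad, Even h ∧ ∃ c : Ω, p.1 • c = c ∧ p.2 • c = c := by
    intro p hp
    obtain ⟨hpI, hne, hnP⟩ := Finset.mem_filter.1 hp
    obtain ⟨hx, hy⟩ := Finset.mem_product.1 hpI
    have hx : orderOf p.1 = 2 := (Finset.mem_filter.1 hx).2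
    have hy : orderOf p.2 = 2 := (Finset.mem_filter.1 hy).2
    simp only [hP, not_forall, not_not] at hnP
    obtain ⟨g, hg⟩ := hnP
    set x' := g * p.1 * g⁻¹ with hx'
    set y' := g * p.2 * g⁻¹ with hy'
    set u := g * (p.1 * p.2) * g⁻¹ with hu
    have hx'o : orderOf x' = 2 := Cfsg.Agent.Lib.Helper28.orderOf_conj_two hx g
    have hy'o : orderOf y' = 2 := Cfsg.Agent.Lib.Helper28.orderOf_conj_two hy g
    have hxy' : x' * y' = u := by rw [hx', hy', hu]; group
    have hu1 : u ≠ 1 := by
      intro h1
      have h2 : p.1 * p.2 = 1 := by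
        have : g⁻¹ * u * g = p.1 * p.2 := by rw [hu]; group
        rw [← this, h1]; group
      have h3 : p.1 = p.2⁻¹ := eq_inv_of_mul_eq_one_left h2
      rw [Cfsg.Agent.Lib.Helper83.invol_inv_eq hy] at h3
      exact hne h3
    have huo : orderOf u = 2 := Cfsg.Agent.S0883.result hZ hab h e hh he hodd hlt H hHa hHcard hHfix
      u hg hu1 x' y' hx'o hy'o hxy'
    have heven : Even h := by
      have := Subgroup.orderOf_dvd_natCard H hg
      rw [huo, hHh] at this
      exact even_iff_two_dvd.2 this
    refine ⟨heven, g⁻¹ • a, ?_, ?_⟩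
    · have hcomm : x' * u = u * x' := by
        have h1 := Cfsg.Agent.Lib.Helper83.invol_mul_eq_inv_mul hx'o hy'o hxy'
        rw [Cfsg.Agent.Lib.Helper83.invol_inv_eq huo] at h1
        exact h1
      have hfix : u • (x' • a) = x' • a := by
        rw [← mul_smul, ← hcomm, mul_smul]
        congr 1
        exact hHa hg
      have hxa : x' • a = a := hHfix u hg hu1 _ hfix
      have : p.1 • g⁻¹ • a = g⁻¹ • (x' • a) := by
        rw [hx', ← mul_smul, ← mul_smul]
        congr 1
        group
      rw [this, hxa]
    · have hcomm : y' * u = u * y' := by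
        have hui := Cfsg.Agent.Lib.Helper83.invol_inv_eq huo
        have hxi := Cfsg.Agent.Lib.Helper83.invol_inv_eq hx'o
        have hyi := Cfsg.Agent.Lib.Helper83.invol_inv_eq hy'o
        -- `u = u⁻¹ = y' x'`
        have h1 : u = y' * x' := by
          rw [← hui, ← hxy', mul_inv_rev, hxi, hyi]
        have hy2 : y' * y' = 1 := by rw [← pow_two, ← hy'o]; exact pow_orderOf_eq_one y'
        calc y' * u = y' * (y' * x') := by rw [← h1]
          _ = x' := by rw [← mul_assoc, hy2, one_mul]
          _ = x' * (y' * y') := by rw [hy2, mul_one]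
          _ = u * y' := by rw [← mul_assoc, hxy']
      have hfix : u • (y' • a) = y' • a := by
        rw [← mul_smul, ← hcomm, mul_smul]
        congr 1
        exact hHa hg
      have hya : y' • a = a := hHfix u hg hu1 _ hfix
      have : p.2 • g⁻¹ • a = g⁻¹ • (y' • a) := by
        rw [hy', ← mul_smul, ← mul_smul]
        congr 1
        group
      rw [this, hya]
  have hInvmem : ∀ x ∈ Inv, ∀ c : Ω, x • c = c →
      x ∈ Cfsg.Agent.Lib.Helper17.ZassInvol.invAt (G := G) c := by
    intro x hx c hc
    have hx := (Finset.mem_filter.1 hx).2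
    obtain ⟨h1, h2⟩ := (Cfsg.Agent.S0740.orderOf_two_iff x).mp hx
    simp only [Cfsg.Agent.Lib.Helper17.ZassInvol.invAt, Finset.mem_filter, Finset.mem_univ,
      true_and]
    exact ⟨h1, h2, hc⟩
  by_contra hcon
  push Not at hcon
  obtain ⟨e', rfl⟩ : ∃ e', e = e' + 1 := ⟨e - 1, by omega⟩
  have hk0le : k0 ≤ e' := by omega
  by_cases hev : Even h
  · rw [if_pos hev] at hI
    have hBadle : Bad.card ≤ (h + 1) * ((e' + 1) * e') := by
      have hsubU : Bad ⊆ Finset.univ.biUnion
          (fun c : Ω => (Cfsg.Agent.Lib.Helper17.ZassInvol.invAt (G := G) c).offDiag) := by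
        intro p hp
        obtain ⟨-, c, hc1, hc2⟩ := hbad p hp
        obtain ⟨hpI, hne, -⟩ := Finset.mem_filter.1 hp
        obtain ⟨hx, hy⟩ := Finset.mem_product.1 hpI
        rw [Finset.mem_biUnion]
        refine ⟨c, Finset.mem_univ _, ?_⟩
        rw [Finset.mem_offDiag]
        exact ⟨hInvmem _ hx c hc1, hInvmem _ hy c hc2, hne⟩
      refine le_trans (Finset.card_le_card hsubU) (le_trans Finset.card_biUnion_le ?_)
      have hpt : MulAction.IsPretransitive G Ω :=
        Cfsg.Agent.Lib.Helper17.ZassCount.isPretransitive_of_two hZ.2.1 hab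
      have hc : ∀ c : Ω, ((Cfsg.Agent.Lib.Helper17.ZassInvol.invAt (G := G) c).offDiag).card ≤
          (e' + 1) * e' := by
        intro c
        rw [Finset.offDiag_card]
        have hle : (Cfsg.Agent.Lib.Helper17.ZassInvol.invAt (G := G) c).card ≤ e' + 1 := by
          obtain ⟨g, hg⟩ := MulAction.exists_smul_eq G a c
          rw [← hg, Cfsg.Agent.Lib.Helper17.ZassInvol.card_invAt_eq, ← he]
          exact Cfsg.Agent.Lib.Helper17.ZassInvol.card_invAt_le hZ hab hodd'
        set i := (Cfsg.Agent.Lib.Helper17.ZassInvol.invAt (G := G) c).card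
        have h1 : i * i - i ≤ (e' + 1) * (e' + 1) - (e' + 1) := by
          have : i * i ≤ (e' + 1) * (e' + 1) := Nat.mul_le_mul hle hle
          rcases Nat.eq_zero_or_pos i with h0 | hpos
          · rw [h0]; simp
          · have e1 : i * i - i = i * (i - 1) := by
              rw [Nat.mul_sub, mul_one]
            have e2 : (e' + 1) * (e' + 1) - (e' + 1) = (e' + 1) * e' := by
              rw [Nat.mul_succ, Nat.add_sub_cancel]
            rw [e1, e2]
            exact Nat.mul_le_mul hle (by omega)
        have e2 : (e' + 1) * (e' + 1) - (e' + 1) = (e' + 1) * e' := by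
          rw [Nat.mul_succ, Nat.add_sub_cancel]
        rw [e2] at h1
        exact h1
      calc ∑ c : Ω, ((Cfsg.Agent.Lib.Helper17.ZassInvol.invAt (G := G) c).offDiag).card
          ≤ ∑ _c : Ω, (e' + 1) * e' := Finset.sum_le_sum (fun c _ => hc c)
        _ = (h + 1) * ((e' + 1) * e') := by
          rw [Finset.sum_const, Finset.card_univ, hh, smul_eq_mul]
    rw [hI] at hsplit
    rw [hcardG] at hA
    set A := (h + 1) * (e' + 1) with hAdef
    have hApos : 0 < A := by positivity
    have h1 : A * A ≤ A * (h * e' + 1 + e') := by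
      have hb : (h + 1) * h * (e' + 1) * k0 ≤ (h + 1) * h * (e' + 1) * e' :=
        Nat.mul_le_mul_left _ hk0le
      calc A * A = (e' + 1) * (h + 1) * ((e' + 1) * (h + 1)) := by rw [hAdef]; ring
        _ ≤ Pairs.card + (e' + 1) * (h + 1) + Bad.card := hsplit
        _ ≤ (h + 1) * h * (e' + 1) * e' + (e' + 1) * (h + 1) + (h + 1) * ((e' + 1) * e') := by
          have := le_trans hA hb
          omega
        _ = A * (h * e' + 1 + e') := by rw [hAdef]; ring
    have h2 : A ≤ h * e' + 1 + e' := Nat.le_of_mul_le_mul_left h1 hApos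
    have h3 : A = h * e' + h + e' + 1 := by rw [hAdef]; ring
    omega
  · rw [if_neg hev] at hI
    have hBad0 : Bad.card = 0 := by
      rw [Finset.card_eq_zero, Finset.eq_empty_iff_forall_notMem]
      intro p hp
      exact hev (hbad p hp).1
    rw [hI, hBad0] at hsplit
    rw [hcardG] at hA
    have hh2 : 2 ≤ h := by omega
    set A := (e' + 1) * h with hAdef
    have hApos : 0 < A := by positivity
    have h1 : A * A ≤ A * ((h + 1) * e' + 1) := by
      have hb : (h + 1) * h * (e' + 1) * k0 ≤ (h + 1) * h * (e' + 1) * e' :=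
        Nat.mul_le_mul_left _ hk0le
      calc A * A ≤ Pairs.card + (e' + 1) * h + 0 := hsplit
        _ ≤ (h + 1) * h * (e' + 1) * e' + (e' + 1) * h := by
          have := le_trans hA hb
          omega
        _ = A * ((h + 1) * e' + 1) := by rw [hAdef]; ring
    have h2 : A ≤ (h + 1) * e' + 1 := Nat.le_of_mul_le_mul_left h1 hApos
    have h3 : A = h * e' + h := by rw [hAdef]; ring
    have h4 : (h + 1) * e' + 1 = h * e' + e' + 1 := by ring
    omega

end Cfsg.Agent.S0884
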