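import Cfsg.Statements.S0319
import Cfsg.Agent.Lib.Helper08.BNPairSimple

set_option autoImplicit false
open Cfsg

namespace Cfsg.Agent.S0319

/-- Simplicity criterion for groups with a (B,N)-pair: if the distinguished generators admit no
splitting into two non-empty mutually commuting parts, `B` is solvable, `G` is perfect and the intersection
of all conjugates of `B` is trivial, then `G` is simple. -/
theorem result {G : Type*} [Group G] [Nontrivial G]
    (P : Cfsg.BNPair G) (hirr : P.Irreducible) (hsolv : Group.IsSolvable P.B) (hperf : commutator G = ⊤)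
    (hcore : P.B.normalCore = ⊥) : IsSimpleGroup G := by
  refine ⟨fun H hH => ?_⟩
  set M := P.B ⊔ H with hM
  have hBM : P.B ≤ M := le_sup_left
  have hpar := Cfsg.Agent.Lib.Helper08.eq_parabolic_of_B_le P M hBM
  set X : Set G := P.S ∩ (M : Set G) with hX
  have hXS : X ⊆ P.S := Set.inter_subset_left
  by_cases hX1 : X.Nonempty
  · by_cases hX2 : (P.S \ X).Nonempty
    · exfalso
      obtain ⟨s, hs, s', hs', hnot⟩ := hirr X hXS hX1 hX2
      apply hnot
      have hs'M : s' ∉ P.B ⊔ H := fun h => hs'.2 ⟨hs'.1, h⟩
      exact Cfsg.Agent.Lib.Helper08.comm_of_normal P H hs.1 hs'.1 hs.2 hs'M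
    · -- S ⊆ M, so M = ⊤
      right
      rw [Set.not_nonempty_iff_eq_empty, Set.sdiff_eq_empty] at hX2
      have hSM : P.S ⊆ (M : Set G) := fun s hs => (hX2 hs).2
      have hNM : P.N ≤ M := by
        conv_lhs => rw [← P.closure_sup]
        exact sup_le ((Subgroup.closure_le _).2 hSM) (inf_le_left.trans hBM)
      have hMtop : M = ⊤ := by
        rw [eq_top_iff, ← P.sup_eq_top]
        exact sup_le hBM hNM
      -- G ⧸ H is solvable and perfect
      have hsurj : Function.Surjective ((QuotientGroup.mk' H).comp P.B.subtype) := by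
        intro x
        obtain ⟨g, rfl⟩ := QuotientGroup.mk'_surjective H x
        have hg : g ∈ P.B ⊔ H := by rw [← hM, hMtop]; exact Subgroup.mem_top g
        obtain ⟨b, hb, h, hh, rfl⟩ := Subgroup.mem_sup_of_normal_right.1 hg
        refine ⟨⟨b, hb⟩, ?_⟩
        simp only [MonoidHom.coe_comp, Function.comp_apply, Subgroup.coe_subtype,
          QuotientGroup.mk'_apply]
        rw [QuotientGroup.eq]
        simpa using hh
      have hsolvQ : Group.IsSolvable (G ⧸ H) := Group.isSolvable_of_surjective hsurj
      have hperfQ : commutator (G ⧸ H) = ⊤ := by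
        have h1 := map_commutator_eq G (QuotientGroup.mk' H)
        rw [hperf, MonoidHom.range_eq_top.2 (QuotientGroup.mk'_surjective H)] at h1
        rw [commutator_def, ← h1, ← MonoidHom.range_eq_map,
          MonoidHom.range_eq_top.2 (QuotientGroup.mk'_surjective H)]
      by_contra hne
      have hnt : Nontrivial (G ⧸ H) := by
        rw [← not_subsingleton_iff_nontrivial]
        intro hsub
        exact hne (QuotientGroup.subsingleton_iff.1 hsub)
      have := Group.IsSolvable.commutator_lt_top_of_nontrivial (G ⧸ H)
      rw [hperfQ] at this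
      exact lt_irrefl _ this
  · -- X = ∅, so M = B and H ≤ core B
    left
    rw [Set.not_nonempty_iff_eq_empty] at hX1
    rw [hX1] at hpar
    have hMB : M = P.B := by
      rw [hpar]
      simp [Cfsg.BNPair.parabolic]
    have hHB : H ≤ P.B := by
      rw [← hMB]; exact le_sup_right
    have := Subgroup.normal_le_normalCore.2 hHB
    rw [hcore] at this
    exact le_bot_iff.1 this

end Cfsg.Agent.S0319
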