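import Cfsg.Statements.S0323
-- import your own Cfsg.Agent.* helpers here

set_option autoImplicit false
open scoped Pointwise
open Cfsg

namespace Cfsg.Agent.S0323

open DoubleCoset

variable {G Ω : Type*} [Group G] [MulAction G Ω]

theorem mem_stab_pair {x y : Ω} (n : G) :
    n ∈ MulAction.stabilizer G ({x, y} : Set Ω) ↔
      (n • x = x ∧ n • y = y) ∨ (n • x = y ∧ n • y = x) := by
  rw [MulAction.mem_stabilizer_iff, Set.smul_set_insert, Set.smul_set_singleton,
    Set.pair_eq_pair_iff]

theorem bruhat (h2 : ∀ {a b c d : Ω} (_ : a ≠ b) (_ : c ≠ d), ∃ g : G, g • a = c ∧ g • b = d)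
    {x y : Ω} (hxy : x ≠ y) {s : G} (hsx : s • x = y) (g : G) :
    g ∈ MulAction.stabilizer G x ∨
      ∃ b ∈ MulAction.stabilizer G x, ∃ c ∈ MulAction.stabilizer G x, g = b * s * c := by
  by_cases hg : g • x = x
  · exact Or.inl hg
  · right
    obtain ⟨b, hbx, hby⟩ := h2 (Ne.symm hg) hxy
    refine ⟨b⁻¹, inv_mem (show b ∈ MulAction.stabilizer G x from hbx), s⁻¹ * b * g, ?_, by group⟩
    rw [MulAction.mem_stabilizer_iff, mul_smul, mul_smul, hby, inv_smul_eq_iff, hsx]

/-- A doubly transitive action on a set with at least three points yields a (B,N)-pair of rank one: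
`B` is the stabiliser of a point `x`, `N` the setwise stabiliser of a pair `{x, y}`. -/
theorem result {G Ω : Type*} [Group G] [MulAction G Ω]
    (h2 : MulAction.IsMultiplyPretransitive G Ω 2) {x y z : Ω} (hxy : x ≠ y) (hyz : y ≠ z) (hxz : x ≠ z) :
    ∃ P : Cfsg.BNPair G, P.B = MulAction.stabilizer G x ∧
      P.N = MulAction.stabilizer G ({x, y} : Set Ω) ∧ P.rank = 1 := by
  rw [MulAction.is_two_pretransitive_iff] at h2
  obtain ⟨s, hsx, hsy⟩ := h2 hxy (Ne.symm hxy)
  have hsN : s ∈ MulAction.stabilizer G ({x, y} : Set Ω) :=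
    (mem_stab_pair s).2 (Or.inr ⟨hsx, hsy⟩)
  have hsix : s⁻¹ • x = y := by rw [inv_smul_eq_iff, hsy]
  have hsiy : s⁻¹ • y = x := by rw [inv_smul_eq_iff, hsx]
  have hbr := bruhat (G := G) h2 hxy hsx
  -- elements of B ⊓ N fix y
  have hfixy : ∀ t ∈ MulAction.stabilizer G x ⊓ MulAction.stabilizer G ({x, y} : Set Ω),
      t • y = y := by
    rintro t ⟨htx, htN⟩
    rcases (mem_stab_pair t).1 htN with ⟨_, h⟩ | ⟨h, _⟩
    · exact h
    · exact absurd (h.symm.trans htx) (Ne.symm hxy)
  refine ⟨{ B := MulAction.stabilizer G x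
            N := MulAction.stabilizer G ({x, y} : Set Ω)
            S := {s}
            sup_eq_top := ?_
            conj_mem := ?_
            subset := ?_
            sq_mem := ?_
            inj := ?_
            closure_sup := ?_
            mul_mem_union := ?_
            conj_ne := ?_ }, rfl, rfl, ?_⟩
  · -- sup_eq_top
    rw [eq_top_iff]
    intro g _
    rcases hbr g with hg | ⟨b, hb, c, hc, rfl⟩
    · exact Subgroup.mem_sup_left hg
    · exact mul_mem (mul_mem (Subgroup.mem_sup_left hb) (Subgroup.mem_sup_right hsN))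
        (Subgroup.mem_sup_left hc)
  · -- conj_mem
    intro n hn t ht
    have htx : t • x = x := ht.1
    have hty : t • y = y := hfixy t ht
    rw [MulAction.mem_stabilizer_iff, mul_smul, mul_smul]
    have hn' : n⁻¹ ∈ MulAction.stabilizer G ({x, y} : Set Ω) := inv_mem hn
    rcases (mem_stab_pair n⁻¹).1 hn' with ⟨h, _⟩ | ⟨h, _⟩
    · rw [h, htx]
      exact (inv_smul_eq_iff.1 h).symm
    · rw [h, hty]
      exact (inv_smul_eq_iff.1 h).symm
  · -- subset
    intro t ht
    rw [Set.mem_singleton_iff] at ht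
    rw [ht]
    exact hsN
  · -- sq_mem
    intro t ht
    rw [Set.mem_singleton_iff] at ht
    rw [ht, MulAction.mem_stabilizer_iff, mul_smul, hsx, hsy]
  · -- inj
    intro t ht t' ht' _
    rw [Set.mem_singleton_iff] at ht ht'
    rw [ht, ht']
  · -- closure_sup
    apply le_antisymm
    · refine sup_le ?_ inf_le_right
      rw [Subgroup.closure_le]
      rintro _ rfl
      exact hsN
    · intro n hn
      rcases (mem_stab_pair n).1 hn with ⟨hnx, hny⟩ | ⟨hnx, hny⟩
      · exact Subgroup.mem_sup_right ⟨hnx, hn⟩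
      · have : n = s * (s⁻¹ * n) := by group
        rw [this]
        refine mul_mem (Subgroup.mem_sup_left (Subgroup.subset_closure rfl))
          (Subgroup.mem_sup_right (Subgroup.mem_inf.2 ⟨?_, ?_⟩))
        · rw [MulAction.mem_stabilizer_iff, mul_smul, hnx, hsiy]
        · exact mul_mem (inv_mem hsN) hn
  · -- mul_mem_union
    intro t ht n hn b hb
    rw [Set.mem_singleton_iff] at ht
    rw [ht]
    rcases (mem_stab_pair n).1 hn with ⟨hnx, hny⟩ | ⟨hnx, hny⟩
    · -- n ∈ B
      have hnB : n ∈ MulAction.stabilizer G x := hnx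
      rcases hbr (s * b * n) with hg | ⟨b1, hb1, b2, hb2, e⟩
      · right
        exact mem_doubleCoset.2 ⟨s * b * n * n⁻¹, mul_mem hg (inv_mem hnB), 1, one_mem _, by group⟩
      · left
        refine mem_doubleCoset.2 ⟨b1, hb1, n⁻¹ * b2, mul_mem (inv_mem hnB) hb2, ?_⟩
        rw [e]; group
    · -- n swaps x and y
      have ht : s⁻¹ * n ∈ MulAction.stabilizer G x := by
        rw [MulAction.mem_stabilizer_iff, mul_smul, hnx, hsiy]
      have hsn : s * n ∈ MulAction.stabilizer G x := by
        rw [MulAction.mem_stabilizer_iff, mul_smul, hnx, hsy]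
      rcases hbr (s * b * n) with hg | ⟨b1, hb1, b2, hb2, e⟩
      · left
        exact mem_doubleCoset.2 ⟨s * b * n * (s * n)⁻¹, mul_mem hg (inv_mem hsn), 1, one_mem _,
          by group⟩
      · right
        refine mem_doubleCoset.2 ⟨b1, hb1, (s⁻¹ * n)⁻¹ * b2, mul_mem (inv_mem ht) hb2, ?_⟩
        rw [e]; group
  · -- conj_ne
    intro t ht hEq
    rw [Set.mem_singleton_iff] at ht
    rw [ht] at hEq
    obtain ⟨b, hbx, hby⟩ := h2 hxy hxz
    have hmem : s * b * s ∈ (fun b : G => s * b * s) '' (MulAction.stabilizer G x : Set G) :=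
      ⟨b, hbx, rfl⟩
    rw [hEq] at hmem
    have : (s * b * s) • x = x := hmem
    rw [mul_smul, mul_smul, hsx, hby] at this
    have hz : z = y := by rw [← hsix, ← this, inv_smul_smul]
    exact hyz hz.symm
  · -- rank
    show Nat.card ({s} : Set G) = 1
    simp

end Cfsg.Agent.S0323
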