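import Cfsg.Statements.S0326
-- import your own Cfsg.Agent.* helpers here

set_option autoImplicit false
open Cfsg

namespace Cfsg.Agent.S0326

/-- the affine vector -/
def vec {F : Type*} [Field F] (m : ℕ) (x y : F) : Fin 4 → F :=
  ![x * y + x ^ (2 ^ (m + 1) + 2) + y ^ (2 ^ (m + 1)), y, x, 1]

theorem vec_ne {F : Type*} [Field F] (m : ℕ) (x y : F) : vec m x y ≠ 0 := by
  intro h
  have := congrFun h 3
  simp [vec] at this

theorem inf_ne {F : Type*} [Field F] : (![1, 0, 0, 0] : Fin 4 → F) ≠ 0 := by
  intro h
  have := congrFun h 0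
  simp at this

/-- the parametrisation -/
def param {F : Type*} [Field F] (m : ℕ) : Option (F × F) → Projectivization F (Fin 4 → F)
  | none => Projectivization.mk F ![1, 0, 0, 0] inf_ne
  | some (x, y) => Projectivization.mk F (vec m x y) (vec_ne m x y)

theorem param_mem {F : Type*} [Field F] (m : ℕ) (o : Option (F × F)) :
    param m o ∈ Cfsg.suzukiOvoid F m := by
  rcases o with _ | ⟨x, y⟩
  · exact ⟨![1, 0, 0, 0], inf_ne, rfl, Or.inl rfl⟩
  · exact ⟨vec m x y, vec_ne m x y, rfl, Or.inr ⟨x, y, rfl⟩⟩

theorem param_inj {F : Type*} [Field F] (m : ℕ) : Function.Injective (param (F := F) m) := by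
  intro o o' h
  rcases o with _ | ⟨x, y⟩ <;> rcases o' with _ | ⟨x', y'⟩
  · rfl
  · exfalso
    simp only [param] at h
    rw [Projectivization.mk_eq_mk_iff] at h
    obtain ⟨a, ha⟩ := h
    have := congrFun ha 3
    simp [vec, Units.smul_def] at this
  · exfalso
    simp only [param] at h
    rw [Projectivization.mk_eq_mk_iff] at h
    obtain ⟨a, ha⟩ := h
    have := congrFun ha 3
    simp [vec, Units.smul_def] at this
  · simp only [param] at h
    rw [Projectivization.mk_eq_mk_iff] at h
    obtain ⟨a, ha⟩ := h
    have h3 := congrFun ha 3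
    have h2 := congrFun ha 2
    have h1 := congrFun ha 1
    simp [vec, Units.smul_def] at h3 h2 h1
    rw [h3] at h2 h1
    simp at h2 h1
    rw [h1, h2]

/-- The Suzuki–Tits ovoid over a finite field with `q` elements has `q² + 1` points. -/
theorem result {F : Type*} [Field F] [Fintype F] (m : ℕ) :
    Nat.card (Cfsg.suzukiOvoid F m) = Fintype.card F ^ 2 + 1 := by
  classical
  have hbij : Function.Bijective
      (fun o : Option (F × F) => (⟨param m o, param_mem m o⟩ : Cfsg.suzukiOvoid F m)) := by
    constructor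
    · intro o o' h
      exact param_inj m (congrArg Subtype.val h)
    · rintro ⟨p, v, hv, rfl, h | ⟨x, y, h⟩⟩
      · refine ⟨none, ?_⟩
        subst h
        rfl
      · refine ⟨some (x, y), ?_⟩
        subst h
        rfl
  rw [← Nat.card_congr (Equiv.ofBijective _ hbij)]
  rw [Nat.card_eq_fintype_card, Fintype.card_option, Fintype.card_prod, sq]

end Cfsg.Agent.S0326
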