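import Cfsg.Statements.S2240
import Cfsg.Agent.Lib.Helper09.SuzukiBorel

set_option autoImplicit false
open Cfsg

namespace Cfsg.Agent.S2240

open Cfsg.Agent.Lib.Helper09

section Aux

variable {F : Type*} [Field F] [Fintype F] {m : ℕ}

theorem tauG_zero_mul (hF : Fintype.card F = 2 ^ (2 * m + 1)) (b b' : F) :
    tauG hF 0 b * tauG hF 0 b' = tauG hF 0 (b + b') := by
  rw [tauG_mul]
  congr 1
  · simp
  · simp [sg_zero]

theorem tauG_zero_inv (hF : Fintype.card F = 2 ^ (2 * m + 1)) (b : F) :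
    (tauG hF 0 b)⁻¹ = tauG hF 0 b := by
  rw [tauG_inv, sg_zero, zero_mul, add_zero]

theorem tauG_zero_ne_one (hF : Fintype.card F = 2 ^ (2 * m + 1)) {b : F} (hb : b ≠ 0) :
    tauG hF 0 b ≠ 1 := by
  intro h
  rw [← tauG_zero hF] at h
  exact hb (tauG_injective hF h).2

theorem borel_conj_central (hF : Fintype.card F = 2 ^ (2 * m + 1)) (c d : F) (k : Fˣ) (b : F) :
    (tauG hF c d * hG hF k) * tauG hF 0 b * (tauG hF c d * hG hF k)⁻¹ =
      tauG hF 0 (sg m (k : F) * k * b) := by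
  rw [borel_conj_tauG]
  congr 1
  · simp
  · simp [sg_zero]

theorem hG_conj_central (hF : Fintype.card F = 2 ^ (2 * m + 1)) (k : Fˣ) (b : F) :
    hG hF k * tauG hF 0 b * (hG hF k)⁻¹ = tauG hF 0 (sg m (k : F) * k * b) := by
  rw [hG_conj_tauG]
  congr 1
  simp

/-- a subfield with `2^n` elements -/
theorem exists_subfield (hF : Fintype.card F = 2 ^ (2 * m + 1)) {n : ℕ} (hn : n ≠ 0)
    (hdiv : n ∣ 2 * m + 1) : ∃ K : Subfield F, Nat.card K = 2 ^ n := by
  have : Fact (Nat.Prime 2) := ⟨Nat.prime_two⟩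
  have := charP_two hF
  let _ : Algebra (ZMod 2) F := ZMod.algebra F 2
  have hfr : Module.finrank (ZMod 2) F = 2 * m + 1 := by
    have := FiniteField.pow_finrank_eq_card 2 F
    rw [hF] at this
    exact Nat.pow_right_injective (le_refl 2) this
  have h1 : Module.finrank (ZMod 2) (GaloisField 2 n) ∣ Module.finrank (ZMod 2) F := by
    rw [GaloisField.finrank 2 hn, hfr]
    exact hdiv
  obtain ⟨φ⟩ := FiniteField.nonempty_algHom_of_finrank_dvd h1
  refine ⟨φ.toRingHom.fieldRange, ?_⟩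
  have hinj : Function.Injective φ.toRingHom := φ.toRingHom.injective
  have e : GaloisField 2 n ≃ φ.toRingHom.fieldRange :=
    Equiv.ofInjective φ.toRingHom hinj |>.trans (Equiv.setCongr (by ext; simp))
  rw [← Nat.card_congr e, GaloisField.card 2 n hn]

/-- the subgroup of central translations with parameter in a subfield -/
def EK (hF : Fintype.card F = 2 ^ (2 * m + 1)) (K : Subfield F) : Subgroup ↥(Cfsg.Sz F m) where
  carrier := {g | ∃ b ∈ K, g = tauG hF 0 b}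
  mul_mem' := by
    rintro _ _ ⟨b, hb, rfl⟩ ⟨b', hb', rfl⟩
    exact ⟨b + b', K.add_mem hb hb', tauG_zero_mul hF b b'⟩
  one_mem' := ⟨0, K.zero_mem, (tauG_zero hF).symm⟩
  inv_mem' := by
    rintro _ ⟨b, hb, rfl⟩
    exact ⟨b, hb, tauG_zero_inv hF b⟩

theorem mem_EK (hF : Fintype.card F = 2 ^ (2 * m + 1)) (K : Subfield F) (g : ↥(Cfsg.Sz F m)) :
    g ∈ EK hF K ↔ ∃ b ∈ K, g = tauG hF 0 b := Iff.rfl

theorem card_EK (hF : Fintype.card F = 2 ^ (2 * m + 1)) (K : Subfield F) :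
    Nat.card (EK hF K) = Nat.card K := by
  symm
  refine Nat.card_congr (Equiv.ofBijective (fun b : K => ⟨tauG hF 0 b.1, b.1, b.2, rfl⟩) ⟨?_, ?_⟩)
  · intro b b' h
    have h1 : tauG hF 0 b.1 = tauG hF 0 b'.1 := congrArg Subtype.val h
    exact Subtype.ext (tauG_injective hF h1).2
  · rintro ⟨g, b, hb, rfl⟩
    exact ⟨⟨b, hb⟩, rfl⟩

theorem EK_elemAb (hF : Fintype.card F = 2 ^ (2 * m + 1)) (K : Subfield F) :
    Cfsg.IsElementaryAbelian 2 (EK hF K) := by
  have h2 := two_eq_zero' hF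
  refine ⟨⟨⟨fun a c => ?_⟩⟩, ?_⟩
  · obtain ⟨b, -, hb⟩ := a.2
    obtain ⟨b', -, hb'⟩ := c.2
    apply Subtype.ext
    show a.1 * c.1 = c.1 * a.1
    rw [hb, hb', tauG_zero_mul, tauG_zero_mul, add_comm]
  · rintro _ ⟨b, -, rfl⟩
    rw [sq, tauG_zero_mul, ← tauG_zero hF]
    congr 1
    linear_combination b * h2

theorem EK_TI (hm : 1 ≤ m) (hF : Fintype.card F = 2 ^ (2 * m + 1)) (K : Subfield F)
    (x : ↥(Cfsg.Sz F m))
    (hx : EK hF K ⊓ (EK hF K).map (MulAut.conj x).toMonoidHom ≠ ⊥) :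
    x ∈ Subgroup.normalizer ((EK hF K : Subgroup ↥(Cfsg.Sz F m)) : Set ↥(Cfsg.Sz F m)) := by
  rw [Subgroup.ne_bot_iff_exists_ne_one] at hx
  obtain ⟨⟨g, hg1, hg2⟩, hgne⟩ := hx
  have hgne' : g ≠ 1 := fun h => hgne (Subtype.ext h)
  obtain ⟨b, hbK, rfl⟩ := hg1
  obtain ⟨h, ⟨b', hb'K, rfl⟩, hh⟩ := hg2
  have hh' : x * tauG hF 0 b' * x⁻¹ = tauG hF 0 b := hh
  have hfix : tauG hF 0 b • (x • oInf F m) = x • oInf F m := by
    rw [← hh', mul_smul, mul_smul, inv_smul_smul, tauG_smul_oInf]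
  have hxB := tauG_fix hF hgne' hfix
  obtain ⟨c, d, k, rfl⟩ := (mem_stab_inf_iff hm hF x).1 hxB
  rw [borel_conj_central] at hh'
  have hlb : sg m (k : F) * k * b' = b := (tauG_injective hF hh').2
  have hb0 : b ≠ 0 := by
    rintro rfl
    exact hgne' (tauG_zero hF)
  have hb'0 : b' ≠ 0 := by
    rintro rfl
    rw [mul_zero] at hlb
    exact hb0 hlb.symm
  have hlK : sg m (k : F) * k ∈ K := by
    have : sg m (k : F) * k = b / b' := by
      rw [← hlb]; field_simp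
    rw [this]
    exact K.div_mem hbK hb'K
  have hl0 : sg m (k : F) * k ≠ 0 := by
    intro h
    rw [h, zero_mul] at hlb
    exact hb0 hlb.symm
  rw [Subgroup.mem_normalizer_iff]
  intro t
  constructor
  · rintro ⟨s, hsK, rfl⟩
    rw [borel_conj_central]
    exact ⟨_, K.mul_mem hlK hsK, rfl⟩
  · rintro ⟨s, hsK, hs⟩
    have h1 : (tauG hF c d * hG hF k) * tauG hF 0 ((sg m (k : F) * k)⁻¹ * s) *
        (tauG hF c d * hG hF k)⁻¹ = tauG hF 0 s := by
      rw [borel_conj_central]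
      congr 1
      exact mul_inv_cancel_left₀ hl0 s
    have h2 : t = tauG hF 0 ((sg m (k : F) * k)⁻¹ * s) := by
      have := hs.trans h1.symm
      exact mul_left_cancel (mul_right_cancel this)
    rw [h2]
    exact ⟨_, K.mul_mem (K.inv_mem hlK) hsK, rfl⟩

/-- the norm-like map `k ↦ k^σ * k` on units is onto -/
theorem lam_surjective (hF : Fintype.card F = 2 ^ (2 * m + 1)) (u : Fˣ) :
    ∃ k : Fˣ, sg m (k : F) * k = u := by
  have hinj : Function.Injective (powMonoidHom (2 ^ (m + 1) + 1) : Fˣ →* Fˣ) := by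
    rw [injective_iff_map_eq_one]
    intro k hk
    have h1 : (k : F) ^ (2 ^ (m + 1) + 1) = 1 := by
      have := congrArg Units.val hk
      simpa using this
    apply Units.ext
    apply eq_one_of_sg_mul_self hF
    rw [sg, ← pow_succ]
    exact h1
  obtain ⟨k, hk⟩ := (Finite.injective_iff_surjective.1 hinj) u
  refine ⟨k, ?_⟩
  have := congrArg Units.val hk
  rw [sg, ← pow_succ]
  simpa using this

theorem dvd_of_pow_sub_one_dvd {n N : ℕ} (h : 2 ^ n - 1 ∣ 2 ^ N - 1) : n ∣ N := by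
  have h1 := Nat.gcd_eq_left h
  rw [Nat.pow_sub_one_gcd_pow_sub_one] at h1
  have h2 : 2 ^ Nat.gcd n N = 2 ^ n := by
    have a1 : 1 ≤ 2 ^ Nat.gcd n N := Nat.one_le_two_pow
    have a2 : 1 ≤ 2 ^ n := Nat.one_le_two_pow
    omega
  have h3 : Nat.gcd n N = n := Nat.pow_right_injective (le_refl 2) h2
  rw [← h3]
  exact Nat.gcd_dvd_right n N

theorem dvd_of_TI (hm : 1 ≤ m) (hF : Fintype.card F = 2 ^ (2 * m + 1)) (n : ℕ) (hn : 2 ≤ n)
    (E : Subgroup ↥(Cfsg.Sz F m)) (hE : Cfsg.IsElementaryAbelian 2 E)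
    (hcard : Nat.card ↥E = 2 ^ n)
    (hTI : ∀ x : ↥(Cfsg.Sz F m), E ⊓ E.map (MulAut.conj x).toMonoidHom ≠ ⊥ →
      x ∈ Subgroup.normalizer (E : Set ↥(Cfsg.Sz F m))) : n ∣ 2 * m + 1 := by
  have : Fact (Nat.Prime 2) := ⟨Nat.prime_two⟩
  have h2 := two_eq_zero' hF
  have hp : IsPGroup 2 E := IsPGroup.of_card hcard
  obtain ⟨P, hEP⟩ := hp.exists_le_sylow
  obtain ⟨x, rfl⟩ := sylow_eq_smul hm hF P
  -- every element of E is a conjugate of a central translation
  have hform : ∀ g ∈ E, ∃ b : F, g = x * tauG hF 0 b * x⁻¹ := by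
    intro g hg
    have h1 := hEP hg
    rw [Sylow.coe_subgroup_smul, Subgroup.mem_pointwise_smul_iff_inv_smul_mem, coe_Usyl] at h1
    have e : (MulAut.conj x)⁻¹ • g = x⁻¹ * g * x := by simp [MulAut.smul_def]
    rw [e] at h1
    obtain ⟨a, b, hab⟩ := (mem_Uz hF _).1 h1
    have hsq : g ^ 2 = 1 := hE.2 g hg
    have h3 : tauG hF a b ^ 2 = 1 := by
      rw [← hab]
      calc (x⁻¹ * g * x) ^ 2 = x⁻¹ * g ^ 2 * x := by rw [sq, sq]; group
        _ = 1 := by rw [hsq]; group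
    have h4 : tauG hF a b * tauG hF a b = tauG hF 0 0 := by rw [← sq, h3, tauG_zero]
    rw [tauG_mul] at h4
    have h0 := (tauG_injective hF h4).2
    have ha : a = 0 := by
      have h5 : sg m a * a = 0 := by linear_combination h0 - b * h2
      rcases mul_eq_zero.1 h5 with h6 | h6
      · exact sg_eq_zero.1 h6
      · exact h6
    subst ha
    exact ⟨b, by rw [← hab]; group⟩
  set A : Set F := {b | x * tauG hF 0 b * x⁻¹ ∈ E} with hA
  have hconj_inj : ∀ b b' : F, x * tauG hF 0 b * x⁻¹ = x * tauG hF 0 b' * x⁻¹ → b = b' := by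
    intro b b' h
    exact (tauG_injective hF (mul_left_cancel (mul_right_cancel h))).2
  have hcardA : Nat.card A = 2 ^ n := by
    rw [← hcard]
    refine Nat.card_congr (Equiv.ofBijective
      (fun b : A => (⟨x * tauG hF 0 b.1 * x⁻¹, b.2⟩ : ↥E)) ⟨?_, ?_⟩)
    · intro b b' h
      exact Subtype.ext (hconj_inj _ _ (congrArg Subtype.val h))
    · rintro ⟨g, hg⟩
      obtain ⟨b, rfl⟩ := hform g hg
      exact ⟨⟨b, hg⟩, rfl⟩
  have h0A : (0 : F) ∈ A := by
    show x * tauG hF 0 0 * x⁻¹ ∈ E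
    rw [tauG_zero, mul_one, mul_inv_cancel]
    exact one_mem _
  -- a nonzero element of A
  obtain ⟨a₀, ha₀, ha₀ne⟩ : ∃ a₀ ∈ A, a₀ ≠ 0 := by
    have hEne : E ≠ ⊥ := by
      intro h
      rw [← Subgroup.card_eq_one, hcard] at h
      have : 2 ^ 2 ≤ 2 ^ n := Nat.pow_le_pow_right (by norm_num) hn
      omega
    rw [Subgroup.ne_bot_iff_exists_ne_one] at hEne
    obtain ⟨⟨g, hg⟩, hgne⟩ := hEne
    obtain ⟨b, rfl⟩ := hform g hg
    refine ⟨b, hg, ?_⟩
    rintro rfl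
    apply hgne
    apply Subtype.ext
    show x * tauG hF 0 0 * x⁻¹ = 1
    rw [tauG_zero, mul_one, mul_inv_cancel]
  -- the multiplier group
  let S : Subgroup Fˣ :=
    { carrier := {l | ∀ t : F, t ∈ A ↔ (l : F) * t ∈ A}
      mul_mem' := by
        intro l l' hl hl' t
        rw [hl' t, hl ((l' : F) * t), Units.val_mul, mul_assoc]
      one_mem' := by
        intro t
        rw [Units.val_one, one_mul]
      inv_mem' := by
        intro l hl t
        rw [hl (((l⁻¹ : Fˣ) : F) * t), ← mul_assoc, ← Units.val_mul, mul_inv_cancel,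
          Units.val_one, one_mul] }
  have hkey : ∀ k : Fˣ, (∃ b ∈ A, b ≠ 0 ∧ sg m (k : F) * k * b ∈ A) →
      ∀ t : F, t ∈ A ↔ sg m (k : F) * k * t ∈ A := by
    rintro k ⟨b, hbA, hb0, hlb⟩ t
    set y : ↥(Cfsg.Sz F m) := x * hG hF k * x⁻¹ with hy
    have hyc : ∀ s : F, y * (x * tauG hF 0 s * x⁻¹) * y⁻¹ =
        x * tauG hF 0 (sg m (k : F) * k * s) * x⁻¹ := by
      intro s
      rw [← hG_conj_central, hy]
      group
    have hk0 : sg m (k : F) * k ≠ 0 := mul_ne_zero (fun h => k.ne_zero (sg_eq_zero.1 h)) k.ne_zero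
    have hyN : y ∈ Subgroup.normalizer (E : Set ↥(Cfsg.Sz F m)) := by
      apply hTI
      rw [Subgroup.ne_bot_iff_exists_ne_one]
      refine ⟨⟨x * tauG hF 0 (sg m (k : F) * k * b) * x⁻¹, hlb, ?_⟩, ?_⟩
      · exact ⟨x * tauG hF 0 b * x⁻¹, hbA, hyc b⟩
      · intro h
        have h1 : x * tauG hF 0 (sg m (k : F) * k * b) * x⁻¹ = 1 := congrArg Subtype.val h
        have h3 : tauG hF 0 (sg m (k : F) * k * b) = 1 := by
          have := congrArg (fun z => x⁻¹ * z * x) h1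
          simpa [mul_assoc] using this
        exact tauG_zero_ne_one hF (mul_ne_zero hk0 hb0) h3
    rw [Subgroup.mem_normalizer_iff] at hyN
    have := hyN (x * tauG hF 0 t * x⁻¹)
    rw [hyc] at this
    exact this
  -- bijection between S and the nonzero elements of A
  have hcardS : Nat.card S = 2 ^ n - 1 := by
    have e1 : Nat.card S = Nat.card ↥(A \ {0}) := by
      refine Nat.card_congr (Equiv.ofBijective
        (fun l : S => (⟨(l.1 : F) * a₀, (l.2 a₀).1 ha₀,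
          mul_ne_zero l.1.ne_zero ha₀ne⟩ : ↥(A \ {0}))) ⟨?_, ?_⟩)
      · intro l l' h
        have h1 : (l.1 : F) * a₀ = (l'.1 : F) * a₀ := congrArg Subtype.val h
        exact Subtype.ext (Units.ext (mul_right_cancel₀ ha₀ne h1))
      · rintro ⟨b, hbA, hb0⟩
        have hb0' : b ≠ 0 := hb0
        obtain ⟨k, hk⟩ := lam_surjective hF (Units.mk0 (b / a₀) (div_ne_zero hb0' ha₀ne))
        have hk' : sg m (k : F) * k = b / a₀ := by rw [hk]; rfl
        have hmem := hkey k ⟨a₀, ha₀, ha₀ne, by rw [hk']; field_simp; exact hbA⟩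
        refine ⟨⟨Units.mk0 (b / a₀) (div_ne_zero hb0' ha₀ne), ?_⟩, ?_⟩
        · intro t
          rw [hmem t, hk']
          rfl
        · apply Subtype.ext
          show (b / a₀) * a₀ = b
          field_simp
    rw [e1, Nat.card_coe_set_eq, Set.ncard_sdiff_singleton_of_mem h0A,
      ← Nat.card_coe_set_eq, hcardA]
  have hdvd : 2 ^ n - 1 ∣ 2 ^ (2 * m + 1) - 1 := by
    rw [← hcardS, ← card_units hF]
    exact Subgroup.card_subgroup_dvd_card S
  exact dvd_of_pow_sub_one_dvd hdvd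

end Aux


/-- Elementary abelian TI-subgroups of the Suzuki group: let q = 2^(2m+1) with m ≥ 1, the group realised as the stabiliser in SL₄ of the Suzuki–Tits ovoid, and n ≥ 2. There is an elementary abelian 2-subgroup E of order 2^n that is a TI-subgroup (every conjugate of E meeting E nontrivially is E itself) if and only if n divides 2m + 1. -/
theorem result {F : Type*} [Field F] [Fintype F] {m : ℕ} (hm : 1 ≤ m) (hF : Fintype.card F = 2 ^ (2 * m + 1)) (n : ℕ) (hn : 2 ≤ n) :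
    (∃ E : Subgroup ↥(Cfsg.Sz F m), Cfsg.IsElementaryAbelian 2 E ∧ Nat.card ↥E = 2 ^ n ∧
      ∀ x : ↥(Cfsg.Sz F m), E ⊓ E.map (MulAut.conj x).toMonoidHom ≠ ⊥ → x ∈ Subgroup.normalizer (E : Set ↥(Cfsg.Sz F m))) ↔ n ∣ 2 * m + 1 := by
  constructor
  · rintro ⟨E, hE, hcard, hTI⟩
    exact dvd_of_TI hm hF n hn E hE hcard hTI
  · intro hdiv
    obtain ⟨K, hK⟩ := exists_subfield hF (by omega : n ≠ 0) hdiv
    exact ⟨EK hF K, EK_elemAb hF K, by rw [card_EK, hK], fun x hx => EK_TI hm hF K x hx⟩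

end Cfsg.Agent.S2240
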