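import Cfsg.Statements.S2241
import Cfsg.Agent.Lib.Helper09.SuzukiBorel

set_option autoImplicit false
open Cfsg

namespace Cfsg.Agent.S2241

open Cfsg.Agent.Lib.Helper09

section Aux

variable {F : Type*} [Field F] [Fintype F] {m : ℕ}

/-- the equation `t^σ + t = 1` has no solution -/
theorem no_sg_add_eq_one (hF : Fintype.card F = 2 ^ (2 * m + 1)) (t : F) :
    sg m t + t ≠ 1 := by
  intro h
  have h2 := two_eq_zero' hF
  have h1 : sg m t = t + 1 := by linear_combination h - t * h2
  have h3 : sg m (sg m t) = t := by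
    rw [h1, sg_add hF, sg_one, h1]
    linear_combination h2
  rw [sg_sg hF] at h3
  have h4 : t * (t - 1) = 0 := by linear_combination h3
  rcases mul_eq_zero.1 h4 with h0 | h0
  · rw [h0, sg_zero] at h
    simp at h
  · have ht : t = 1 := by linear_combination h0
    rw [ht, sg_one] at h
    have : (1 : F) + 1 = 0 := by linear_combination h2
    rw [this] at h
    exact zero_ne_one h

theorem tauG_sq (hF : Fintype.card F = 2 ^ (2 * m + 1)) (a b : F) :
    tauG hF a b ^ 2 = tauG hF 0 (sg m a * a) := by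
  have h2 := two_eq_zero' hF
  rw [sq, tauG_mul]
  congr 1
  · linear_combination a * h2
  · linear_combination b * h2

theorem orderOf_tauG (hF : Fintype.card F = 2 ^ (2 * m + 1)) {a b : F}
    (hne : tauG hF a b ≠ 1) : orderOf (tauG hF a b) = 2 ↔ a = 0 := by
  have : Fact (Nat.Prime 2) := ⟨Nat.prime_two⟩
  rw [orderOf_eq_prime_iff, tauG_sq]
  constructor
  · rintro ⟨h, -⟩
    rw [← tauG_zero hF] at h
    have := (tauG_injective hF h).2
    rcases mul_eq_zero.1 this with h0 | h0
    · exact sg_eq_zero.1 h0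
    · exact h0
  · rintro rfl
    refine ⟨?_, hne⟩
    rw [sg_zero, zero_mul, tauG_zero]

/-- the statement for elements of the unipotent subgroup -/
theorem real_iff_tauG (hm : 1 ≤ m) (hF : Fintype.card F = 2 ^ (2 * m + 1)) {a b : F}
    (hne : tauG hF a b ≠ 1) :
    IsConj (tauG hF a b) (tauG hF a b)⁻¹ ↔ orderOf (tauG hF a b) = 2 := by
  have h2 := two_eq_zero' hF
  constructor
  · intro hconj
    rw [orderOf_tauG hF hne]
    by_contra ha
    rw [isConj_iff] at hconj
    obtain ⟨c, hc⟩ := hconj
    have hne' : (tauG hF a b)⁻¹ ≠ 1 := by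
      intro h
      exact hne (inv_eq_one.1 h)
    rw [tauG_inv] at hc hne'
    have hfix : tauG hF a (b + sg m a * a) • (c • oInf F m) = c • oInf F m := by
      rw [← hc, mul_smul, mul_smul, inv_smul_smul, tauG_smul_oInf]
    have hcB : c ∈ MulAction.stabilizer ↥(Cfsg.Sz F m) (oInf F m) := tauG_fix hF hne' hfix
    obtain ⟨c₁, d₁, k, rfl⟩ := (mem_stab_inf_iff hm hF c).1 hcB
    rw [borel_conj_tauG] at hc
    obtain ⟨e1, e2⟩ := tauG_injective hF hc
    have hk : (k : F) = 1 := by
      have : ((k : F) - 1) * a = 0 := by linear_combination e1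
      rcases mul_eq_zero.1 this with h0 | h0
      · linear_combination h0
      · exact absurd h0 ha
    rw [hk, sg_one] at e2
    simp only [one_mul] at e2
    have hsa : sg m a ≠ 0 := fun h => ha (sg_eq_zero.1 h)
    apply no_sg_add_eq_one hF (c₁ / a)
    rw [sg_div]
    field_simp
    linear_combination e2
  · intro h
    have ha := (orderOf_tauG hF hne).1 h
    subst ha
    rw [tauG_inv, sg_zero, zero_mul, add_zero]

end Aux


/-- Real 2-elements of the Suzuki group: with q = 2^(2m+1), m ≥ 1, and the group realised as the stabiliser in SL₄ of the Suzuki–Tits ovoid, a non-identity element of a Sylow 2-subgroup is conjugate to its inverse if and only if it is an involution; in particular no element of order 4 is conjugate to its inverse. -/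
theorem result {F : Type*} [Field F] [Fintype F] {m : ℕ} (hm : 1 ≤ m) (hF : Fintype.card F = 2 ^ (2 * m + 1)) (P : Sylow 2 ↥(Cfsg.Sz F m)) (g : ↥(Cfsg.Sz F m)) (hg : g ∈ (P : Subgroup ↥(Cfsg.Sz F m))) (h1 : g ≠ 1) :
    IsConj g g⁻¹ ↔ orderOf g = 2 := by
  have : Fact (Nat.Prime 2) := ⟨Nat.prime_two⟩
  obtain ⟨x, rfl⟩ := sylow_eq_smul hm hF P
  rw [Sylow.coe_subgroup_smul, Subgroup.mem_pointwise_smul_iff_inv_smul_mem, coe_Usyl] at hg
  have hg' : x⁻¹ * g * x ∈ Uz hF := by
    have : (MulAut.conj x)⁻¹ • g = x⁻¹ * g * x := by simp [MulAut.smul_def]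
    rwa [this] at hg
  obtain ⟨a, b, hab⟩ := (mem_Uz hF _).1 hg'
  have hgx : g = x * tauG hF a b * x⁻¹ := by rw [← hab]; group
  have hne : tauG hF a b ≠ 1 := by
    intro h
    apply h1
    rw [hgx, h]; group
  have e1 : IsConj g g⁻¹ ↔ IsConj (tauG hF a b) (tauG hF a b)⁻¹ := by
    have hc : IsConj (tauG hF a b) g := isConj_iff.2 ⟨x, hgx.symm⟩
    have hc' : IsConj (tauG hF a b)⁻¹ g⁻¹ := by
      rw [isConj_iff]
      exact ⟨x, by rw [hgx]; group⟩
    constructor
    · intro h
      exact (hc.trans h).trans hc'.symm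
    · intro h
      exact (hc.symm.trans h).trans hc'
  have e2 : orderOf g = orderOf (tauG hF a b) := by
    have hs : SemiconjBy x (tauG hF a b) g := by
      show x * tauG hF a b = g * x
      rw [hgx]; group
    exact (SemiconjBy.orderOf_eq x hs).symm
  rw [e1, e2]
  exact real_iff_tauG hm hF hne

end Cfsg.Agent.S2241
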