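import Cfsg.Statements.S2247
import Cfsg.Agent.Lib.Helper09.SuzukiBorel

set_option autoImplicit false
open Cfsg

namespace Cfsg.Agent.S2247

open Cfsg.Agent.Lib.Helper09

section Aux

variable {F : Type*} [Field F] [Fintype F] {m : ℕ}

/-- a subgroup containing the unipotent subgroup and moving the point at infinity is everything -/
theorem eq_top_of_Uz_le (hm : 1 ≤ m) (hF : Fintype.card F = 2 ^ (2 * m + 1))
    (M : Subgroup ↥(Cfsg.Sz F m)) (hU : Uz hF ≤ M)
    (hM : ¬ M ≤ MulAction.stabilizer ↥(Cfsg.Sz F m) (oInf F m)) : M = ⊤ := by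
  rw [SetLike.not_le_iff_exists] at hM
  obtain ⟨y, hyM, hy⟩ := hM
  rw [MulAction.mem_stabilizer_iff] at hy
  -- M is transitive on the ovoid
  have htrans : ∀ p : ↥(Cfsg.suzukiOvoid F m), ∃ t ∈ M, t • oInf F m = p := by
    intro p
    rcases ovoid_cases p with rfl | ⟨a, b, rfl⟩
    · exact ⟨1, one_mem _, one_smul _ _⟩
    · rcases ovoid_cases (y • oInf F m) with h | ⟨c, d, h⟩
      · exact absurd h hy
      · refine ⟨tauG hF a b * (tauG hF c d)⁻¹ * y,
          mul_mem (mul_mem (hU (tauG_mem_Uz hF a b)) (inv_mem (hU (tauG_mem_Uz hF c d)))) hyM, ?_⟩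
        rw [mul_smul, mul_smul, h, inv_smul_eq_iff.2 (tauG_smul_oAff_zero hF c d).symm,
          tauG_smul_oAff_zero]
  -- M contains every conjugate of the unipotent subgroup
  have hconj : ∀ (g : ↥(Cfsg.Sz F m)) (u : ↥(Cfsg.Sz F m)), u ∈ Uz hF → g * u * g⁻¹ ∈ M := by
    intro g u hu
    obtain ⟨t, htM, ht⟩ := htrans (g • oInf F m)
    have hB : t⁻¹ * g ∈ MulAction.stabilizer ↥(Cfsg.Sz F m) (oInf F m) := by
      rw [MulAction.mem_stabilizer_iff, mul_smul, ← ht, inv_smul_smul]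
    rw [← normalizer_Uz hm hF, Subgroup.mem_normalizer_iff] at hB
    have h1 := (hB u).1 hu
    have : g * u * g⁻¹ = t * (t⁻¹ * g * u * (t⁻¹ * g)⁻¹) * t⁻¹ := by group
    rw [this]
    exact mul_mem (mul_mem htM (hU h1)) (inv_mem htM)
  -- the normal closure of the unipotent subgroup
  have hcl : Subgroup.normalClosure ((Uz hF : Subgroup ↥(Cfsg.Sz F m)) : Set ↥(Cfsg.Sz F m)) = ⊤ := by
    apply eq_top_of_tauG_mem hm hF _ Subgroup.normalClosure_normal
    intro a b
    exact Subgroup.subset_normalClosure (tauG_mem_Uz hF a b)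
  rw [eq_top_iff, ← hcl, Subgroup.normalClosure]
  rw [Subgroup.closure_le]
  intro z hz
  rw [Group.mem_conjugatesOfSet_iff] at hz
  obtain ⟨u, hu, huz⟩ := hz
  rw [isConj_iff] at huz
  obtain ⟨g, rfl⟩ := huz
  exact hconj g u hu

theorem two_pre (hF : Fintype.card F = 2 ^ (2 * m + 1)) :
    MulAction.IsPreprimitive ↥(Cfsg.Sz F m) ↥(Cfsg.suzukiOvoid F m) :=
  MulAction.isPreprimitive_of_is_two_pretransitive (sz_two_pretransitive hF)

omit [Fintype F] in
theorem ovoid_nontrivial : Nontrivial ↥(Cfsg.suzukiOvoid F m) :=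
  ⟨⟨oInf F m, oAff m 0 0, oInf_ne_oAff 0 0⟩⟩

theorem isCoatom_stab (hF : Fintype.card F = 2 ^ (2 * m + 1)) (p : ↥(Cfsg.suzukiOvoid F m)) :
    IsCoatom (MulAction.stabilizer ↥(Cfsg.Sz F m) p) := by
  have := two_pre (m := m) hF
  have := ovoid_nontrivial (F := F) (m := m)
  exact MulAction.IsPreprimitive.isCoatom_stabilizer_of_isPreprimitive _ p

theorem normalizer_smul (hm : 1 ≤ m) (hF : Fintype.card F = 2 ^ (2 * m + 1))
    (x : ↥(Cfsg.Sz F m)) :
    Subgroup.normalizer (((x • Usyl hm hF : Sylow 2 ↥(Cfsg.Sz F m)) : Subgroup ↥(Cfsg.Sz F m)) :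
      Set ↥(Cfsg.Sz F m)) = MulAction.stabilizer ↥(Cfsg.Sz F m) (x • oInf F m) := by
  have : Fact (Nat.Prime 2) := ⟨Nat.prime_two⟩
  ext y
  refine Iff.trans (Sylow.smul_eq_iff_mem_normalizer (g := y) (P := x • Usyl hm hF)).symm ?_
  rw [MulAction.mem_stabilizer_iff]
  have h1 : y • x • Usyl hm hF = x • Usyl hm hF ↔ (x⁻¹ * y * x) • Usyl hm hF = Usyl hm hF := by
    rw [mul_smul, mul_smul, inv_smul_eq_iff]
  have h2 : y • x • oInf F m = x • oInf F m ↔ (x⁻¹ * y * x) • oInf F m = oInf F m := by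
    rw [mul_smul, mul_smul, inv_smul_eq_iff]
  rw [h1, h2]
  refine Iff.trans (Sylow.smul_eq_iff_mem_normalizer (g := x⁻¹ * y * x) (P := Usyl hm hF)) ?_
  have := normalizer_Uz hm hF
  rw [← coe_Usyl hm hF] at this
  rw [← MulAction.mem_stabilizer_iff, ← this]
  rfl

end Aux


/-- In the Suzuki group with q = 2^(2m+1), m ≥ 1 (realised as the stabiliser in SL₄ of the Suzuki–Tits ovoid), the normalizer of a Sylow 2-subgroup P is a maximal subgroup and is the only maximal subgroup containing P. -/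
theorem result {F : Type*} [Field F] [Fintype F] {m : ℕ} (hm : 1 ≤ m) (hF : Fintype.card F = 2 ^ (2 * m + 1)) (P : Sylow 2 ↥(Cfsg.Sz F m)) :
    IsCoatom (Subgroup.normalizer ((P : Subgroup ↥(Cfsg.Sz F m)) : Set ↥(Cfsg.Sz F m))) ∧
    ∀ M : Subgroup ↥(Cfsg.Sz F m), IsCoatom M → (P : Subgroup ↥(Cfsg.Sz F m)) ≤ M → M = Subgroup.normalizer ((P : Subgroup ↥(Cfsg.Sz F m)) : Set ↥(Cfsg.Sz F m)) := by
  have : Fact (Nat.Prime 2) := ⟨Nat.prime_two⟩
  obtain ⟨x, rfl⟩ := sylow_eq_smul hm hF P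
  rw [normalizer_smul hm hF x]
  refine ⟨isCoatom_stab hF _, ?_⟩
  intro M hM hPM
  set M' : Subgroup ↥(Cfsg.Sz F m) := M.comap (MulAut.conj x).toMonoidHom with hM'
  have hmem : ∀ g, g ∈ M' ↔ x * g * x⁻¹ ∈ M := fun g => Iff.rfl
  have hU : Uz hF ≤ M' := by
    intro g hg
    rw [hmem]
    apply hPM
    rw [Sylow.coe_subgroup_smul, Subgroup.mem_pointwise_smul_iff_inv_smul_mem, coe_Usyl]
    have : (MulAut.conj x)⁻¹ • (x * g * x⁻¹) = g := by
      simp [MulAut.smul_def, mul_assoc]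
    rw [this]
    exact hg
  by_cases hle : M' ≤ MulAction.stabilizer ↥(Cfsg.Sz F m) (oInf F m)
  · have hMle : M ≤ MulAction.stabilizer ↥(Cfsg.Sz F m) (x • oInf F m) := by
      intro y hy
      have : x⁻¹ * y * x ∈ M' := by
        rw [hmem]
        have : x * (x⁻¹ * y * x) * x⁻¹ = y := by group
        rw [this]; exact hy
      have h1 := hle this
      rw [MulAction.mem_stabilizer_iff] at h1 ⊢
      rw [mul_smul, mul_smul, inv_smul_eq_iff] at h1
      exact h1
    rcases eq_or_lt_of_le hMle with h | h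
    · exact h
    · exact absurd (hM.2 _ h) (isCoatom_stab hF _).1
  · exfalso
    have htop := eq_top_of_Uz_le hm hF M' hU hle
    apply hM.1
    rw [eq_top_iff]
    intro y _
    have : x⁻¹ * y * x ∈ M' := by rw [htop]; exact Subgroup.mem_top _
    rw [hmem] at this
    have e : x * (x⁻¹ * y * x) * x⁻¹ = y := by group
    rwa [e] at this

end Cfsg.Agent.S2247
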