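import Cfsg.Statements.S2410
import Cfsg.Agent.S2247
import Cfsg.Agent.S2240

set_option autoImplicit false
open Cfsg

namespace Cfsg.Agent.S2410

open Cfsg.Agent.Lib.Helper09

section Aux

variable {F : Type*} [Field F] [Fintype F] {m : ℕ}

theorem tauG_comm (hF : Fintype.card F = 2 ^ (2 * m + 1)) (a b a' b' : F) :
    tauG hF a b * tauG hF a' b' * (tauG hF a b)⁻¹ * (tauG hF a' b')⁻¹ =
      tauG hF 0 (sg m a * a' + sg m a' * a) := by
  have h2 := two_eq_zero' hF
  rw [tauG_conj_tauG, tauG_inv, tauG_mul]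
  congr 1
  · linear_combination a' * h2
  · linear_combination (b' + sg m a' * a') * h2

theorem wG_conj_hG (hF : Fintype.card F = 2 ^ (2 * m + 1)) (k : Fˣ) :
    wG hF * hG hF k * (wG hF)⁻¹ = hG hF k⁻¹ := by
  rw [wG_mul_hG, mul_assoc, mul_inv_cancel, mul_one]

/-- every central translation is a commutator of translations with nonzero first coordinates -/
theorem exists_comm_param (hm : 1 ≤ m) (hF : Fintype.card F = 2 ^ (2 * m + 1)) {c : F}
    (hc : c ≠ 0) : ∃ a a' : F, a ≠ 0 ∧ a' ≠ 0 ∧ sg m a * a' + sg m a' * a = c := by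
  obtain ⟨t, ht⟩ := exists_sg_ne_self hF hm
  have h2 := two_eq_zero' hF
  have hτ : sg m t + t ≠ 0 := by
    intro h
    apply ht
    linear_combination h - t * h2
  have ht0 : t ≠ 0 := by
    rintro rfl
    exact ht (sg_zero m)
  obtain ⟨l, hl⟩ := Cfsg.Agent.S2240.lam_surjective hF (Units.mk0 (c / (sg m t + t)) (div_ne_zero hc hτ))
  have hl' : sg m (l : F) * l = c / (sg m t + t) := by rw [hl]; rfl
  refine ⟨(l : F) * t, l, mul_ne_zero l.ne_zero ht0, l.ne_zero, ?_⟩
  rw [sg_mul]
  have : sg m (l : F) * sg m t * l + sg m (l : F) * ((l : F) * t) =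
      (sg m (l : F) * l) * (sg m t + t) := by ring
  rw [this, hl']
  field_simp

end Aux


/-- The Suzuki group over the field with `2^(2m+1)` elements, `m ≥ 1` (realised as the stabiliser in `SL₄` of the Suzuki–Tits ovoid), is generated by two of its elements. -/
theorem result {F : Type*} [Field F] [Fintype F] {m : ℕ} (hm : 1 ≤ m) (hF : Fintype.card F = 2 ^ (2 * m + 1)) :
    ∃ a b : ↥(Cfsg.Sz F m), Subgroup.closure ({a, b} : Set ↥(Cfsg.Sz F m)) = ⊤ := by
  have h2 := two_eq_zero' hF
  obtain ⟨k, hk⟩ := (isCyclic_iff_exists_zpowers_eq_top (α := Fˣ)).1 inferInstance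
  refine ⟨hG hF k, tauG hF 1 0 * wG hF, ?_⟩
  set L := Subgroup.closure ({hG hF k, tauG hF 1 0 * wG hF} : Set ↥(Cfsg.Sz F m)) with hL
  have hh : hG hF k ∈ L := Subgroup.subset_closure (by simp)
  have hg : tauG hF 1 0 * wG hF ∈ L := Subgroup.subset_closure (by simp)
  -- the whole torus lies in L
  have hH : ∀ l : Fˣ, hG hF l ∈ L := by
    let T : Subgroup Fˣ :=
      { carrier := {l | hG hF l ∈ L}
        mul_mem' := by
          intro l l' hl hl'
          show hG hF (l * l') ∈ L
          rw [hG_mul]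
          exact mul_mem hl hl'
        one_mem' := by
          show hG hF 1 ∈ L
          rw [hG_one]
          exact one_mem _
        inv_mem' := by
          intro l hl
          show hG hF l⁻¹ ∈ L
          rw [← hG_inv]
          exact inv_mem hl }
    have hkT : k ∈ T := hh
    have hT : T = ⊤ := by
      rw [eq_top_iff, ← hk]
      exact (Subgroup.zpowers_le).2 hkT
    intro l
    have : l ∈ T := by rw [hT]; exact Subgroup.mem_top _
    exact this
  -- a nontrivial translation in L
  have hk1 : (k : F) + 1 ≠ 0 := by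
    intro h
    have hk1' : k = 1 := by
      apply Units.ext
      rw [Units.val_one]
      linear_combination h - h2
    rw [hk1', Subgroup.zpowers_one_eq_bot] at hk
    obtain ⟨l, hl⟩ := exists_unit_ne_one (F := F) hm hF
    have : l ∈ (⊥ : Subgroup Fˣ) := by rw [hk]; exact Subgroup.mem_top _
    exact hl (Subgroup.mem_bot.1 this)
  have hu1 : tauG hF ((k : F) + 1) (1 + sg m (k : F)) ∈ L := by
    have e1 : (tauG hF 1 0 * wG hF) * hG hF k * (tauG hF 1 0 * wG hF)⁻¹ =
        tauG hF 1 0 * hG hF k⁻¹ * (tauG hF 1 0)⁻¹ := by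
      rw [← wG_conj_hG]
      group
    have e2 : hG hF k * (tauG hF 1 0 * hG hF k⁻¹ * (tauG hF 1 0)⁻¹) =
        tauG hF ((k : F) + 1) (1 + sg m (k : F)) := by
      have : hG hF k * (tauG hF 1 0 * hG hF k⁻¹ * (tauG hF 1 0)⁻¹) =
          (hG hF k * tauG hF 1 0 * (hG hF k)⁻¹) * (tauG hF 1 0)⁻¹ := by
        rw [hG_inv]; group
      rw [this, hG_conj_tauG, tauG_inv, tauG_mul]
      congr 1
      · ring
      · rw [sg_mul, sg_one]; ring
    rw [← e2, ← e1]
    exact mul_mem hh (mul_mem (mul_mem hg hh) (inv_mem hg))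
  -- translations with arbitrary nonzero first coordinate
  have hstep4 : ∀ a : F, a ≠ 0 → ∃ b : F, tauG hF a b ∈ L := by
    intro a ha
    set l : Fˣ := Units.mk0 (a / ((k : F) + 1)) (div_ne_zero ha hk1) with hl
    refine ⟨sg m (l : F) * l * (1 + sg m (k : F)), ?_⟩
    have : hG hF l * tauG hF ((k : F) + 1) (1 + sg m (k : F)) * (hG hF l)⁻¹ =
        tauG hF a (sg m (l : F) * l * (1 + sg m (k : F))) := by
      rw [hG_conj_tauG]
      congr 1
      show a / ((k : F) + 1) * ((k : F) + 1) = a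
      field_simp
    rw [← this]
    exact mul_mem (mul_mem (hH l) hu1) (inv_mem (hH l))
  -- central translations
  have hstep5 : ∀ c : F, tauG hF 0 c ∈ L := by
    intro c
    by_cases hc : c = 0
    · rw [hc, tauG_zero]; exact one_mem _
    · obtain ⟨a, a', ha, ha', hcc⟩ := exists_comm_param hm hF hc
      obtain ⟨b, hb⟩ := hstep4 a ha
      obtain ⟨b', hb'⟩ := hstep4 a' ha'
      rw [← hcc, ← tauG_comm hF a b a' b']
      exact mul_mem (mul_mem (mul_mem hb hb') (inv_mem hb)) (inv_mem hb')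
  have hU : Uz hF ≤ L := by
    intro x hx
    obtain ⟨a, b, rfl⟩ := (mem_Uz hF x).1 hx
    by_cases ha : a = 0
    · rw [ha]; exact hstep5 b
    · obtain ⟨b₀, hb₀⟩ := hstep4 a ha
      have : tauG hF a b = tauG hF a b₀ * tauG hF 0 (b - b₀) := by
        rw [tauG_mul]
        congr 1
        · ring
        · ring
      rw [this]
      exact mul_mem hb₀ (hstep5 _)
  apply Cfsg.Agent.S2247.eq_top_of_Uz_le hm hF L hU
  intro hle
  have := hle hg
  rw [MulAction.mem_stabilizer_iff, mul_smul] at this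
  have hw : wG hF • oInf F m = oAff m 0 0 := Subtype.ext (wS_smul_pInf m)
  rw [hw, tauG_smul_oAff_zero] at this
  exact oInf_ne_oAff 1 0 this.symm

end Cfsg.Agent.S2410
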