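import Cfsg.Statements.S5076
import Cfsg.Agent.Lib.Helper87.FusionSaturated
import Cfsg.Agent.Lib.Helper88.SylowLocal2

set_option autoImplicit false
open Cfsg

namespace Cfsg.Agent.S5076

open Cfsg.Agent.Lib.Helper87 Cfsg.Agent.Lib.Helper88 Cfsg.FusionSystem

theorem autGroup_groupFusion {G : Type*} [Group G] {S : Subgroup G} {Q : Subgroup G} (hQ : Q ≤ S) :
    (groupFusionSystem S).autGroup Q = autInducedBy ⊤ Q := by
  ext α
  rw [Cfsg.Agent.Lib.Helper87.mem_autGroup_iff _ hQ, Cfsg.Agent.Lib.Helper87.mem_autInducedBy_iff]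
  constructor
  · rintro ⟨-, -, g, hg⟩
    exact ⟨g, Subgroup.mem_top g, fun x => hg x⟩
  · rintro ⟨g, -, hg⟩
    exact ⟨hQ, fun x => hQ (α x).2, g, fun x => hg x⟩

/-- The fusion system of a finite group on a Sylow p-subgroup is saturated: every subgroup of the Sylow subgroup is conjugate in the system to one that is fully automized and receptive. -/
theorem result {G : Type*} [Group G] [Finite G] (p : ℕ) [Fact p.Prime] (S : Sylow p G) : (Cfsg.groupFusionSystem (S : Subgroup G)).IsSaturated p := by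
  intro P hP
  obtain ⟨g, hQS, hN⟩ := exists_conj_normalizer_sylow S P hP
  set Q := P.map (MulAut.conj g).toMonoidHom with hQ
  refine ⟨Q, groupFusion_isConj_iff.mpr ⟨hP, hQS, g, rfl⟩, ⟨hQS, ?_⟩, hQS, ?_⟩
  · have h1 := autInducedBy_sylow_of_normalizer_sylow S Q hN
    rw [autGroup_groupFusion hQS]
    exact h1
  · -- receptive
    rintro R φ ⟨hRS, hφS, k, hk⟩ hφr
    obtain ⟨h, hhC, hle⟩ := sylow_extension S R Q k hN
    have hfinQ : Finite Q := inferInstance
    -- N_φ is contained in the relevant subgroup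
    have hNφ : extender (S : Subgroup G) R φ ≤
        (normalizerIn (S : Subgroup G) R) ⊓
          (normalizerIn (S : Subgroup G) Q ⊔ Subgroup.centralizer (Q : Set G)).comap
            (MulAut.conj k).toMonoidHom := by
      intro x hx
      obtain ⟨hxS, hxN, s, hsS, hs⟩ := mem_extender_iff.mp hx
      refine ⟨⟨hxS, hxN⟩, ?_⟩
      show k * x * k⁻¹ ∈ normalizerIn (S : Subgroup G) Q ⊔ Subgroup.centralizer (Q : Set G)
      -- s normalizes Q
      have hsQ : ∀ y ∈ Q, s * y * s⁻¹ ∈ Q := by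
        intro y hy
        rw [← hφr] at hy
        obtain ⟨r, rfl⟩ := hy
        have hxr : x * (r : G) * x⁻¹ ∈ R := (Subgroup.mem_normalizer_iff.mp hxN r).mp r.2
        rw [← hs r hxr, ← hφr]
        exact ⟨_, rfl⟩
      have hsN : s ∈ Subgroup.normalizer (Q : Set G) := mem_normalizer_of_conj_mem hsQ
      -- s⁻¹ * (k x k⁻¹) centralizes Q
      have hc : s⁻¹ * (k * x * k⁻¹) ∈ Subgroup.centralizer (Q : Set G) := by
        rw [Subgroup.mem_centralizer_iff]
        intro y hy
        rw [← hφr] at hy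
        obtain ⟨r, rfl⟩ := hy
        have hxr : x * (r : G) * x⁻¹ ∈ R := (Subgroup.mem_normalizer_iff.mp hxN r).mp r.2
        have h1 := hs r hxr
        rw [hk, hk] at h1
        -- h1 : k * (x r x⁻¹) * k⁻¹ = s * (k r k⁻¹) * s⁻¹
        rw [hk]
        have e1 : k * (x * (r : G) * x⁻¹) * k⁻¹ = (k * x * k⁻¹) * (k * r * k⁻¹) * (k * x * k⁻¹)⁻¹ := by
          group
        have h2 : (k * x * k⁻¹) * (k * (r : G) * k⁻¹) * (k * x * k⁻¹)⁻¹ = s * (k * r * k⁻¹) * s⁻¹ := by
          rw [← e1]; exact h1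
        set a := k * x * k⁻¹
        set t := k * (r : G) * k⁻¹
        have e4 : s⁻¹ * (a * t * a⁻¹) * a = s⁻¹ * (s * t * s⁻¹) * a := by rw [h2]
        have e5 : s⁻¹ * (a * t * a⁻¹) * a = s⁻¹ * a * t := by group
        have e6 : s⁻¹ * (s * t * s⁻¹) * a = t * (s⁻¹ * a) := by group
        rw [e5, e6] at e4
        exact e4.symm
      have : k * x * k⁻¹ = s * (s⁻¹ * (k * x * k⁻¹)) := by group
      rw [this]
      exact Subgroup.mul_mem _ ((le_sup_left : normalizerIn (S : Subgroup G) Q ≤ _) ⟨hsS, hsN⟩)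
        ((le_sup_right : Subgroup.centralizer (Q : Set G) ≤ _) hc)
    have hNS : extender (S : Subgroup G) R φ ≤ S := (extender_le _ R φ).trans (normalizerIn_le _ R)
    refine ⟨conjHom (extender (S : Subgroup G) R φ) (h * k), ⟨hNS, fun x => ?_, h * k, fun x => rfl⟩,
      fun x hR hN' => ?_⟩
    · exact hle ⟨x, hNφ x.2, rfl⟩
    · show h * k * x * (h * k)⁻¹ = φ ⟨x, hR⟩
      rw [hk]
      have hy : k * x * k⁻¹ ∈ Q := by
        rw [← hφr]; exact ⟨⟨x, hR⟩, hk _⟩
      have hcomm := (Subgroup.mem_centralizer_iff.mp hhC) _ hy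
      show h * k * x * (h * k)⁻¹ = k * x * k⁻¹
      have e : h * k * x * (h * k)⁻¹ = h * (k * x * k⁻¹) * h⁻¹ := by group
      rw [e, ← hcomm]; group

end Cfsg.Agent.S5076
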