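import Cfsg.Statements.S0362

set_option autoImplicit false
open Cfsg

namespace Cfsg.Agent.S0362

theorem gen_orth : ∀ s t : ZMod 23, ∑ i, qrWord s i * qrWord t i = 0 := by decide +kernel

theorem gen_one : ∀ t : ZMod 23, ∑ i, qrWord t i * (1 : GolayPt → ZMod 2) i = 0 := by
  decide +kernel

theorem one_one : ∑ i : GolayPt, (1 : GolayPt → ZMod 2) i * (1 : GolayPt → ZMod 2) i = 0 := by
  decide +kernel

/-- The length-24 code is self-orthogonal: the dot product over ZMod 2 of any two of its words vanishes (with dimension 12 this makes it self-dual). -/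
theorem result (v w : Cfsg.GolayPt → ZMod 2) (hv : v ∈ Cfsg.golayCode) (hw : w ∈ Cfsg.golayCode) : ∑ i, v i * w i = 0 := by
  have key : ∀ v ∈ (Set.range qrWord ∪ {1} : Set (GolayPt → ZMod 2)),
      ∀ w ∈ (Set.range qrWord ∪ {1} : Set (GolayPt → ZMod 2)), ∑ i, v i * w i = 0 := by
    rintro v (⟨s, rfl⟩ | rfl) w (⟨t, rfl⟩ | rfl)
    · exact gen_orth s t
    · exact gen_one s
    · have := gen_one t
      simpa [mul_comm] using this
    · exact one_one
  unfold golayCode at hv hw
  induction hv using Submodule.span_induction with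
  | mem v hv' =>
    induction hw using Submodule.span_induction with
    | mem w hw' => exact key v hv' w hw'
    | zero => simp
    | add x y _ _ hx hy =>
      simp only [Pi.add_apply, mul_add, Finset.sum_add_distrib, hx, hy, add_zero]
    | smul a x _ hx =>
      simp only [Pi.smul_apply, smul_eq_mul, mul_left_comm _ a, ← Finset.mul_sum, hx, mul_zero]
  | zero => simp
  | add x y _ _ hx hy =>
    simp only [Pi.add_apply, add_mul, Finset.sum_add_distrib, hx, hy, add_zero]
  | smul a x _ hx =>
    simp only [Pi.smul_apply, smul_eq_mul, mul_assoc, ← Finset.mul_sum, hx, mul_zero]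

end Cfsg.Agent.S0362
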