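import Cfsg.Statements.S0370
import Cfsg.Agent.Lib.Helper10.M24Mem

set_option autoImplicit false
open Cfsg

namespace Cfsg.Agent.S0370

open Cfsg.Agent.Lib.Helper10

/-- The permutation x ↦ x + 1 of the residues modulo 23, fixing the extra point, lies in the group of the length-24 code. -/
theorem result : Equiv.optionCongr (Equiv.addRight (1 : ZMod 23)) ∈ Cfsg.M24 := by
  apply mem_M24_of_gens
  · intro t
    have : permWord (Equiv.optionCongr (Equiv.addRight (1 : ZMod 23))) (qrWord t) = qrWord (t + 1) := by
      funext p
      cases p with
      | none => rfl
      | some x =>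
        have e : (Equiv.optionCongr (Equiv.addRight (1 : ZMod 23))).symm (some x) = some (x - 1) := by
          rw [Equiv.symm_apply_eq]
          simp
        rw [permWord_apply, e]
        simp only [qrWord]
        congr 1
        apply propext
        constructor
        · rintro ⟨r, hr⟩
          exact ⟨r, by rw [← add_assoc, ← hr]; ring⟩
        · rintro ⟨r, hr⟩
          exact ⟨r, by rw [hr]; ring⟩
    rw [this]
    exact Submodule.subset_span (Or.inl ⟨_, rfl⟩)
  · exact Submodule.subset_span (Or.inr rfl)

end Cfsg.Agent.S0370
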