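import Cfsg.Statements.S0372
import Cfsg.Agent.Lib.Helper10.M24Mem

set_option autoImplicit false
open Cfsg

namespace Cfsg.Agent.S0372

open Cfsg.Agent.Lib.Helper10

def img : List ℕ := [16436384, 4696816, 2083596, 2799212, 3876754, 10252980, 8216682, 9514476,
  7705908, 2316478, 10864326, 15598044, 6586248, 1875162, 8840506, 13850200, 4738934, 11139408,
  5435846, 11934562, 13210538, 13581318, 15772190, 16777215]

theorem check : ∀ i : Fin 24, (∀ p, vec (genMask.getD i 0) p = vec (img.getD i 0) (projInvFun p)) ∧
      img.getD i 0 < 2 ^ 24 ∧ enc (img.getD i 0) = img.getD i 0 := by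
  decide +kernel

/-- The involution x ↦ -1/x of the projective line over ZMod 23 lies in the group of the length-24 code. -/
theorem result : Cfsg.projInv ∈ Cfsg.M24 :=
  mem_M24_of_table projInv projInvFun (fun _ => rfl) img check

end Cfsg.Agent.S0372
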