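import Cfsg.Statements.S0373
import Cfsg.Agent.Lib.Helper10.M24Mem

set_option autoImplicit false
open Cfsg

namespace Cfsg.Agent.S0373

open Cfsg.Agent.Lib.Helper10

def img : List ℕ := [340831, 6691564, 2852062, 7909678, 2191270, 3873331, 4706738, 4830945,
  2047368, 1629140, 6972313, 5148423, 3581808, 5499466, 195645, 7710869, 7109714, 5246459,
  6112828, 7558469, 3462795, 1990887, 3000681, 16777215]

theorem check : ∀ i : Fin 24, (∀ p, vec (genMask.getD i 0) p = vec (img.getD i 0) (cubeTwistFun p)) ∧
      img.getD i 0 < 2 ^ 24 ∧ enc (img.getD i 0) = img.getD i 0 := by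
  decide +kernel

/-- The cube-twist permutation (squares t ↦ t^3/9, non-squares t ↦ 9t^3, extra point fixed) lies in the group of the length-24 code. -/
theorem result : Cfsg.cubeTwist ∈ Cfsg.M24 :=
  mem_M24_of_table cubeTwist cubeTwistFun (fun _ => rfl) img check

end Cfsg.Agent.S0373
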