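import Cfsg.Statements.S0367
import Cfsg.Agent.Lib.Helper10.Trans
import Cfsg.Agent.Lib.Helper10.Octad

set_option autoImplicit false
open scoped Pointwise
open Cfsg

namespace Cfsg.Agent.S0367

open Cfsg.Agent.Lib.Helper10

theorem exists_emb (o : Finset GolayPt) (ho : 5 ≤ o.card) :
    ∃ x : Fin 5 ↪ GolayPt, ∀ i, x i ∈ o := by
  obtain ⟨s, hso, hs⟩ := Finset.exists_subset_card_eq ho
  let e : Fin 5 ≃ s := (s.equivFinOfCardEq hs).symm
  refine ⟨e.toEmbedding.trans (Function.Embedding.subtype _), fun i => ?_⟩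
  exact hso (e i).2

/-- The permutation group preserving the length-24 code is transitive on octads. -/
theorem result (o o' : Finset Cfsg.GolayPt) (ho : o ∈ Cfsg.octads) (ho' : o' ∈ Cfsg.octads) : ∃ g : Cfsg.M24, g • o = o' := by
  obtain ⟨x, hx⟩ := exists_emb o (by rw [ho.2]; decide)
  obtain ⟨y, hy⟩ := exists_emb o' (by rw [ho'.2]; decide)
  obtain ⟨g, hg, hgxy⟩ := five_trans x y
  refine ⟨⟨g, H_le_M24 hg⟩, ?_⟩
  show g • o = o'
  apply octad_eq_of_inter_ge (smul_mem_octads (H_le_M24 hg) ho) ho'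
  have hsub : Finset.univ.map y ⊆ g • o ∩ o' := by
    intro p hp
    rw [Finset.mem_map] at hp
    obtain ⟨i, _, rfl⟩ := hp
    rw [Finset.mem_inter]
    refine ⟨?_, hy i⟩
    rw [← hgxy i]
    exact Finset.smul_mem_smul_finset (hx i)
  have := Finset.card_le_card hsub
  rw [Finset.card_map] at this
  simpa using this

end Cfsg.Agent.S0367
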