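import Cfsg.Statements.S0381
import Cfsg.Agent.Lib.Helper10.Conj
import Cfsg.Agent.S0367

set_option autoImplicit false
open Cfsg

namespace Cfsg.Agent.S0381

open Cfsg.Agent.Lib.Helper10 MulAction
open scoped Pointwise

def octFixTab : List (List ℕ) := [[], [], [], [], [], [],
  [2, 2, 3, 2, 3, 3, 3, 2, 3, 2, 3, 2, 2],
  [1, 0, 4, 4, 3, 3, 3, 3, 4, 0, 0, 2, 0, 2, 1],
  [2, 3, 3, 2, 0, 0, 2, 0, 2, 0, 4, 4, 0, 2, 2],
  [2, 2, 3, 3, 3, 2, 0, 2, 2, 0, 2, 2, 3, 2, 2],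
  [3, 2, 2, 3, 4, 3, 4, 0, 0, 2, 3, 4, 0, 2, 2, 3],
  [2, 0, 4, 0, 0, 0, 4, 0, 2, 0, 4, 4],
  [3, 4, 4, 3, 4, 0, 0, 0, 2, 0, 4, 4],
  [0, 2, 2, 3, 4, 4, 0, 4, 0, 2, 0, 2, 3, 4, 0],
  [],
  [4, 0, 4, 3, 3, 4, 4, 0, 0, 2, 3, 2, 3, 2, 0],
  [4, 3, 4, 3, 2, 3, 2, 2, 0, 4, 4, 3, 3, 2, 0],
  [],
  [4, 0, 4, 3, 3, 4, 0, 0, 2, 3, 2, 3, 4, 4, 0],
  [3, 3, 4, 3, 3, 4, 0, 4, 0, 4, 4, 0, 4, 0, 4, 0],
  [3, 3, 4, 0, 0, 0, 2, 0, 4, 4, 3, 4, 4, 0],
  [4, 3, 3, 3, 2, 3, 2, 3, 4, 3, 2, 2],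
  [4, 3, 2, 2, 0, 0, 1, 3, 3, 3, 2, 0, 0, 0, 1],
  []]

def wAt (c : ℕ) : List ℕ := octFixTab.getD c []

theorem tab_check : ∀ c : Fin 24, okTarget 5 c = true →
    (∀ i : Fin 24, octO.testBit i = true → evalW (wAt c) i = i) ∧ evalW (wAt c) 4 = c ∧
      (∀ i : Fin 24, evalW (wAt c) (evalW (wAt c) i) = i) := by
  decide +kernel

/-- the pointwise stabiliser of a set of points in the group of the code. -/
def fixK (S : Set GolayPt) : Subgroup (Equiv.Perm GolayPt) :=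
  M24 ⊓ fixingSubgroup (Equiv.Perm GolayPt) S

theorem mem_fixK (S : Set GolayPt) (g : Equiv.Perm GolayPt) :
    g ∈ fixK S ↔ g ∈ M24 ∧ ∀ y ∈ S, g y = y := by
  unfold fixK
  rw [Subgroup.mem_inf, mem_fixingSubgroup_iff]
  rfl

theorem word_spec (c : GolayPt) (hc : okTarget 5 (idx c) = true) :
    wordPerm (wAt (idx c)) ∈ fixK (fs octO : Finset GolayPt) ∧ wordPerm (wAt (idx c)) (pt 4) = c ∧
      wordPerm (wAt (idx c)) * wordPerm (wAt (idx c)) = 1 := by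
  obtain ⟨h1, h2, h3⟩ := tab_check ⟨idx c, idx_lt c⟩ hc
  refine ⟨?_, ?_, ?_⟩
  · rw [mem_fixK]
    refine ⟨wordPerm_mem_M24 _, fun y hy => ?_⟩
    have hy' : octO.testBit (idx y) = true := (mem_fs octO y).mp (by simpa using hy)
    have := wordPerm_pt (idx_lt y) (h1 ⟨idx y, idx_lt y⟩ hy')
    rw [pt_idx] at this
    exact this
  · have := wordPerm_pt (show 4 < 24 by decide) h2
    rw [pt_idx] at this
    exact this
  · ext1 p
    have e1 := wordPerm_pt (w := wAt (idx c)) (idx_lt p) rfl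
    rw [pt_idx] at e1
    have hlt : evalW (wAt (idx c)) (idx p) < 24 := by
      have := evalW_spec (wAt (idx c)) p
      rw [← this]; exact idx_lt _
    have e2 := wordPerm_pt (w := wAt (idx c)) hlt rfl
    show wordPerm (wAt (idx c)) (wordPerm (wAt (idx c)) p) = p
    rw [e1, e2, h3 ⟨idx p, idx_lt p⟩, pt_idx]

theorem base_in_O : ∀ i : Fin 7, i.val ≠ 5 → octO.testBit (base.getD i 0) = true := by
  decide +kernel

theorem fixes_bpt {g : Equiv.Perm GolayPt} (hg : g ∈ fixK (fs octO : Finset GolayPt)) (i : ℕ)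
    (hi : i < 7) (h5 : i ≠ 5) : g (bpt i) = bpt i := by
  rw [mem_fixK] at hg
  apply hg.2
  have : bpt i ∈ fs octO := by
    rw [mem_fs]
    unfold bpt
    rw [idx_pt (base_lt ⟨i, hi⟩)]
    exact base_in_O ⟨i, hi⟩ h5
  simpa using this

theorem bpt5 : bpt 5 = pt 4 := rfl

theorem eq_one_of_fix4 {g : Equiv.Perm GolayPt} (hg : g ∈ fixK (fs octO : Finset GolayPt))
    (h4 : g (pt 4) = pt 4) : g = 1 := by
  apply eq_one_of_fixes_base ((mem_fixK _ _).mp hg).1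
  intro i hi
  by_cases h5 : i = 5
  · subst h5; exact h4
  · exact fixes_bpt hg i hi h5

theorem target_of_mem {g : Equiv.Perm GolayPt} (hg : g ∈ fixK (fs octO : Finset GolayPt)) :
    g (pt 4) ∈ targets 5 :=
  orbit_subset ((mem_fixK _ _).mp hg).1 5 (by decide) (fun i hi => fixes_bpt hg i (by omega) (by omega))

theorem eq_word {g : Equiv.Perm GolayPt} (hg : g ∈ fixK (fs octO : Finset GolayPt)) :
    g = wordPerm (wAt (idx (g (pt 4)))) := by
  have hc := (mem_targets 5 _).mp (target_of_mem hg)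
  obtain ⟨h1, h2, _⟩ := word_spec (g (pt 4)) hc
  have : (wordPerm (wAt (idx (g (pt 4)))))⁻¹ * g = 1 := by
    apply eq_one_of_fix4 (Subgroup.mul_mem _ (Subgroup.inv_mem _ h1) hg)
    show (wordPerm (wAt (idx (g (pt 4)))))⁻¹ (g (pt 4)) = pt 4
    rw [Equiv.Perm.inv_eq_iff_eq, h2]
  exact (inv_mul_eq_one.mp this).symm

theorem card_fixO : Nat.card ↥(fixK (fs octO : Finset GolayPt)) = 16 := by
  have h := card_eq_orbit_mul (fixK (fs octO : Finset GolayPt)) (pt 4) (targets 5)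
    (fun σ hσ => target_of_mem hσ)
    (fun c hc => by
      obtain ⟨h1, h2, _⟩ := word_spec c ((mem_targets 5 c).mp hc)
      exact ⟨_, h1, h2⟩)
  have hbot : fixK (fs octO : Finset GolayPt) ⊓ stabilizer (Equiv.Perm GolayPt) (pt 4) = ⊥ := by
    rw [eq_bot_iff]
    intro g hg
    rw [Subgroup.mem_inf, mem_stabilizer_iff] at hg
    exact eq_one_of_fix4 hg.1 hg.2
  rw [hbot, Subgroup.card_bot, card_targets 5 (by decide)] at h
  simpa using h

theorem sq_fixO {g : Equiv.Perm GolayPt} (hg : g ∈ fixK (fs octO : Finset GolayPt)) : g * g = 1 := by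
  have hc := (mem_targets 5 _).mp (target_of_mem hg)
  obtain ⟨_, _, h3⟩ := word_spec (g (pt 4)) hc
  rw [eq_word hg]
  exact h3

/-- The pointwise stabiliser of an octad in the group of the length-24 code has order 16 and every element of it squares to the identity. -/
theorem result (o : Finset Cfsg.GolayPt) (ho : o ∈ Cfsg.octads) : Nat.card ↥(Cfsg.M24 ⊓ fixingSubgroup (Equiv.Perm Cfsg.GolayPt) (o : Set Cfsg.GolayPt)) = 16 ∧ ∀ g ∈ Cfsg.M24 ⊓ fixingSubgroup (Equiv.Perm Cfsg.GolayPt) (o : Set Cfsg.GolayPt), g * g = 1 := by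
  have hO : fs octO ∈ octads := fs_mem_octads octO_lt octO_enc octO_pc
  obtain ⟨⟨h, hh⟩, hho⟩ := Cfsg.Agent.S0367.result (fs octO) o hO ho
  have hho' : h • ((fs octO : Finset GolayPt) : Set GolayPt) = (o : Set GolayPt) := by
    have : h • fs octO = o := hho
    rw [← this, Finset.coe_smul_finset]
  have e := SubMulAction.fixingSubgroup_map_conj_eq (M := Equiv.Perm GolayPt) hho'
  rw [← e]
  constructor
  · rw [card_inf_map_conj hh]
    exact card_fixO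
  · intro g hg
    rw [inf_map_conj hh, Subgroup.mem_map] at hg
    obtain ⟨k, hk, rfl⟩ := hg
    have := sq_fixO (g := k) hk
    simp only [MulEquiv.toMonoidHom_eq_coe, MonoidHom.coe_coe, ← map_mul, this, map_one]

end Cfsg.Agent.S0381
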