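import Cfsg.Statements.S1554
import Cfsg.Agent.Lib.Helper35.OctadSplit

set_option autoImplicit false
open scoped Pointwise
open Cfsg

namespace Cfsg.Agent.S1554

open Cfsg.Agent.Lib.Helper35 MulAction

theorem octFix_le_octStab (o : Finset Cfsg.GolayPt) : octFix o ≤ octStab o := by
  intro g hg
  rw [mem_octFix] at hg
  refine ⟨hg.1, mem_stabilizer_iff.mpr (smul_eq_of_mem_iff ?_)⟩
  intro x
  constructor
  · intro hx
    have h3 := hg.2 (g x) hx
    rw [← g.injective h3]; exact hx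
  · intro hx
    rw [hg.2 x hx]; exact hx

theorem part_a {o : Finset Cfsg.GolayPt} (ho : o ∈ Cfsg.octads) {p : Cfsg.GolayPt} (hp : p ∉ o) :
    octFix o ⊓ (octStab o ⊓ stabilizer (Equiv.Perm Cfsg.GolayPt) p) = ⊥ := by
  rw [eq_bot_iff]
  intro g hg
  rw [Subgroup.mem_inf, Subgroup.mem_inf, mem_stabilizer_iff] at hg
  rw [Subgroup.mem_bot]
  exact octFix_free ho hg.1 hp hg.2.2

theorem decompose {o : Finset Cfsg.GolayPt} (ho : o ∈ Cfsg.octads) {p : Cfsg.GolayPt} (hp : p ∉ o)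
    {h : Equiv.Perm Cfsg.GolayPt} (hh : h ∈ octStab o) :
    ∃ k ∈ octFix o, ∃ a ∈ octStab o ⊓ stabilizer (Equiv.Perm Cfsg.GolayPt) p, k * a = h := by
  have hst : h • o = o := mem_stabilizer_iff.mp hh.2
  have hhp : h p ∉ o := fun hx => hp ((mem_iff_of_smul_eq hst p).mp hx)
  obtain ⟨k, hk, hkp⟩ := octFix_trans ho hp hhp
  refine ⟨k, hk, k⁻¹ * h, ?_, by group⟩
  rw [Subgroup.mem_inf, mem_stabilizer_iff]
  refine ⟨Subgroup.mul_mem _ (Subgroup.inv_mem _ (octFix_le_octStab o hk)) hh, ?_⟩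
  rw [Equiv.Perm.smul_def, Equiv.Perm.mul_apply, ← hkp, perm_inv_apply]

theorem part_b {o : Finset Cfsg.GolayPt} (ho : o ∈ Cfsg.octads) {p : Cfsg.GolayPt} (hp : p ∉ o) :
    octFix o ⊔ (octStab o ⊓ stabilizer (Equiv.Perm Cfsg.GolayPt) p) = octStab o := by
  apply le_antisymm
  · exact sup_le (octFix_le_octStab o) inf_le_left
  · intro h hh
    obtain ⟨k, hk, a, ha, rfl⟩ := decompose ho hp hh
    exact Subgroup.mul_mem_sup hk ha

/-- The restriction of the complement to the octad. -/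
def phi (o : Finset Cfsg.GolayPt) (p : Cfsg.GolayPt) :
    ↥(octStab o ⊓ stabilizer (Equiv.Perm Cfsg.GolayPt) p) →* Equiv.Perm ↥o :=
  (restr o).comp (Subgroup.inclusion inf_le_left)

theorem phi_injective {o : Finset Cfsg.GolayPt} (ho : o ∈ Cfsg.octads) {p : Cfsg.GolayPt}
    (hp : p ∉ o) : Function.Injective (phi o p) := by
  rw [injective_iff_map_eq_one]
  intro g hg
  have h1 : Subgroup.inclusion inf_le_left g ∈ (restr o).ker := hg
  rw [mem_ker_restr] at h1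
  have h2 : (g : Equiv.Perm Cfsg.GolayPt) ∈
      octFix o ⊓ (octStab o ⊓ stabilizer (Equiv.Perm Cfsg.GolayPt) p) :=
    ⟨⟨g.2.1.1, h1⟩, g.2⟩
  rw [part_a ho hp, Subgroup.mem_bot] at h2
  exact Subtype.ext h2

theorem phi_range {o : Finset Cfsg.GolayPt} (ho : o ∈ Cfsg.octads) {p : Cfsg.GolayPt}
    (hp : p ∉ o) : (phi o p).range = alternatingGroup ↥o := by
  rw [← range_restr_eq ho]
  apply le_antisymm
  · rintro e ⟨g, rfl⟩
    exact ⟨_, rfl⟩
  · rintro e ⟨h, rfl⟩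
    obtain ⟨k, hk, a, ha, hka⟩ := decompose ho hp h.2
    refine ⟨⟨a, ha⟩, ?_⟩
    have hk' : (⟨k, octFix_le_octStab o hk⟩ : ↥(octStab o)) ∈ (restr o).ker :=
      (mem_ker_restr _).mpr hk.2
    have e1 : h = (⟨k, octFix_le_octStab o hk⟩ : ↥(octStab o)) * ⟨a, ha.1⟩ :=
      Subtype.ext hka.symm
    rw [e1, map_mul, MonoidHom.mem_ker.mp hk', one_mul]
    rfl

/-- An octad stabiliser is a split extension: the joint stabiliser of the octad and a point outside it is a complement to the pointwise stabiliser of the octad, and is isomorphic to the alternating group of degree 8. -/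
theorem result (o : Finset Cfsg.GolayPt) (ho : o ∈ Cfsg.octads) (p : Cfsg.GolayPt) (hp : p ∉ o) : (Cfsg.M24 ⊓ fixingSubgroup (Equiv.Perm Cfsg.GolayPt) (o : Set Cfsg.GolayPt)) ⊓ (Cfsg.M24 ⊓ MulAction.stabilizer (Equiv.Perm Cfsg.GolayPt) o ⊓ MulAction.stabilizer (Equiv.Perm Cfsg.GolayPt) p) = ⊥ ∧ (Cfsg.M24 ⊓ fixingSubgroup (Equiv.Perm Cfsg.GolayPt) (o : Set Cfsg.GolayPt)) ⊔ (Cfsg.M24 ⊓ MulAction.stabilizer (Equiv.Perm Cfsg.GolayPt) o ⊓ MulAction.stabilizer (Equiv.Perm Cfsg.GolayPt) p) = (Cfsg.M24 ⊓ MulAction.stabilizer (Equiv.Perm Cfsg.GolayPt) o) ∧ Nonempty (↥(Cfsg.M24 ⊓ MulAction.stabilizer (Equiv.Perm Cfsg.GolayPt) o ⊓ MulAction.stabilizer (Equiv.Perm Cfsg.GolayPt) p) ≃* alternatingGroup (Fin 8)) := by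

  refine ⟨?_, ?_, ?_⟩
  · exact part_a ho hp
  · exact part_b ho hp
  · exact ⟨((MonoidHom.ofInjective (phi_injective ho hp)).trans
      (MulEquiv.subgroupCongr (phi_range ho hp))).trans
      (Equiv.altCongrHom (Finset.equivFinOfCardEq ho.2))⟩

end Cfsg.Agent.S1554
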