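import Cfsg.Statements.S0371
import Cfsg.Agent.Lib.Helper10.M24Mem

set_option autoImplicit false
open Cfsg

namespace Cfsg.Agent.S0371

open Cfsg.Agent.Lib.Helper10

/-- Multiplication by a nonzero square residue modulo 23, fixing the extra point, lies in the group of the length-24 code. -/
theorem result (u : (ZMod 23)ˣ) (hu : IsSquare u) : Equiv.optionCongr (Units.mulLeft u) ∈ Cfsg.M24 := by
  obtain ⟨a, rfl⟩ := hu
  apply mem_M24_of_gens
  · intro t
    have : permWord (Equiv.optionCongr (Units.mulLeft (a * a))) (qrWord t) =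
        qrWord (((a * a : (ZMod 23)ˣ) : ZMod 23) * t) := by
      funext p
      cases p with
      | none => rfl
      | some x =>
        have e : (Equiv.optionCongr (Units.mulLeft (a * a))).symm (some x) =
            some (((a * a)⁻¹ : (ZMod 23)ˣ) * x) := by
          rw [Equiv.symm_apply_eq]
          show some x = some (((a * a : (ZMod 23)ˣ) : ZMod 23) * ((((a * a)⁻¹ : (ZMod 23)ˣ) : ZMod 23) * x))
          rw [← mul_assoc, ← Units.val_mul, mul_inv_cancel, Units.val_one, one_mul]
        rw [permWord_apply, e]
        simp only [qrWord]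
        congr 1
        apply propext
        constructor
        · rintro ⟨r, hr⟩
          refine ⟨(a : ZMod 23) * r, ?_⟩
          have h2 : x = ((a * a : (ZMod 23)ˣ) : ZMod 23) * (r ^ 2 + t) := by
            rw [← hr, ← mul_assoc, ← Units.val_mul]
            simp
          rw [h2]
          push_cast
          ring
        · rintro ⟨r, hr⟩
          refine ⟨((a⁻¹ : (ZMod 23)ˣ) : ZMod 23) * r, ?_⟩
          rw [hr]
          have h3 : ((a⁻¹ : (ZMod 23)ˣ) : ZMod 23) * (a : ZMod 23) = 1 := by
            rw [← Units.val_mul]; simp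
          have h4 : (((a * a)⁻¹ : (ZMod 23)ˣ) : ZMod 23) =
              ((a⁻¹ : (ZMod 23)ˣ) : ZMod 23) * ((a⁻¹ : (ZMod 23)ˣ) : ZMod 23) := by
            rw [← Units.val_mul]; simp
          rw [h4]
          push_cast
          linear_combination (((a⁻¹ : (ZMod 23)ˣ) : ZMod 23) * (a : ZMod 23) + 1) * t * h3
    rw [this]
    exact Submodule.subset_span (Or.inl ⟨_, rfl⟩)
  · exact Submodule.subset_span (Or.inr rfl)

end Cfsg.Agent.S0371
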