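import Cfsg.Statements.S0751
import Cfsg.Agent.S0755

set_option autoImplicit false
open Cfsg

namespace Cfsg.Agent.S0751

open Module

section
variable {F V : Type*} [Field F] [AddCommGroup V] [Module F V]
  (σ : F →+* F) (B : V →ₛₗ[σ] V →ₗ[F] F)

theorem smul_left (a : F) (u w : V) : B (a • u) w = σ a * B u w := by
  rw [LinearMap.map_smulₛₗ]; rfl

theorem smul_right (a : F) (u w : V) : B u (a • w) = a * B u w := by
  rw [map_smul]; rfl

theorem tr_surj (hσ : σ ≠ RingHom.id F) (hσ2 : ∀ a : F, σ (σ a) = a) (d : F) (hd : σ d = d) :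
    ∃ s : F, s + σ s = d := by
  obtain ⟨e, he⟩ : ∃ e : F, e + σ e ≠ 0 := by
    by_contra hcon
    push Not at hcon
    apply hσ
    have h2 : (1 : F) + 1 = 0 := by
      have := hcon 1
      rwa [map_one] at this
    ext x
    have h1 := hcon x
    have h3 : x + x = 0 := by
      have : x + x = (1 + 1) * x := by ring
      rw [this, h2, zero_mul]
    simp only [RingHom.id_apply]
    have : σ x = x := by
      have h4 : σ x = -x := eq_neg_of_add_eq_zero_right h1
      have h5 : x = -x := eq_neg_of_add_eq_zero_left h3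
      rw [h4, ← h5]
    exact this
  have hτ : σ (e + σ e) = e + σ e := by
    rw [map_add, hσ2, add_comm]
  refine ⟨d * e / (e + σ e), ?_⟩
  rw [map_div₀, map_mul, hτ, hd]
  field_simp

end

section
variable {F V : Type*} [Field F] [Finite F] [AddCommGroup V] [Module F V] [FiniteDimensional F V]
  (σ : F →+* F) (hσ : σ ≠ RingHom.id F) (hσ2 : ∀ a : F, σ (σ a) = a)
  (B : V →ₛₗ[σ] V →ₗ[F] F) (hS : B.IsSymm) (hB : B.Nondegenerate)

include hσ hσ2 hS hB in
theorem riesz (ψ : Module.Dual F V) : ∃ w : V, ∀ y : V, B w y = ψ y := by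
  classical
  obtain ⟨b, hb⟩ := Cfsg.Agent.S0755.result σ hσ hσ2 B hS hB
  refine ⟨∑ i, σ (ψ (b i)) • b i, ?_⟩
  have : B (∑ i, σ (ψ (b i)) • b i) = ψ := by
    apply b.ext
    intro j
    rw [map_sum, LinearMap.sum_apply]
    simp only [smul_left, hσ2, hb]
    simp
  intro y
  rw [this]

include hσ hσ2 hS in
/-- orthogonal projection onto a nondegenerate subspace -/
theorem proj (X : Submodule F V) (hrad : ∀ x ∈ X, (∀ y ∈ X, B x y = 0) → x = 0) (v : V) :
    ∃ x ∈ X, ∀ y ∈ X, B y (v - x) = 0 := by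
  classical
  have hSX : (B.domRestrict₁₂ X X).IsSymm := hS.domRestrict X
  have hBX : (B.domRestrict₁₂ X X).Nondegenerate := by
    constructor
    · intro x hx
      apply Subtype.ext
      apply hrad x x.2
      intro y hy
      exact hx ⟨y, hy⟩
    · intro y hy
      apply Subtype.ext
      apply hrad y y.2
      intro x hx
      have := hy ⟨x, hx⟩
      rw [LinearMap.domRestrict₁₂_apply] at this
      rw [← hS.eq, this, map_zero]
  obtain ⟨e, he⟩ := Cfsg.Agent.S0755.exists_orthonormal_aux σ hσ hσ2 (finrank F X)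
    (B.domRestrict₁₂ X X) hSX hBX rfl
  have he' : ∀ i j, B (e i : V) (e j : V) = if i = j then 1 else 0 := by
    intro i j
    have := he i j
    rwa [LinearMap.domRestrict₁₂_apply] at this
  refine ⟨∑ i, B (e i : V) v • (e i : V), ?_, ?_⟩
  · exact Submodule.sum_mem _ (fun i _ => X.smul_mem _ (e i).2)
  · have hj : ∀ j, B (e j : V) (v - ∑ i, B (e i : V) v • (e i : V)) = 0 := by
      intro j
      rw [map_sub, map_sum]
      simp only [smul_right, he']
      simp
    intro y hy
    have hy' : y = ∑ j, (e.repr ⟨y, hy⟩ j) • (e j : V) := by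
      have := congrArg Subtype.val (e.sum_repr ⟨y, hy⟩)
      simp only [Submodule.coe_sum, Submodule.coe_smul] at this
      exact this.symm
    rw [hy', map_sum, LinearMap.sum_apply]
    apply Finset.sum_eq_zero
    intro j _
    rw [smul_left, hj j, mul_zero]

include hσ hσ2 hS hB in
/-- an anisotropic vector orthogonal to a proper nondegenerate subspace -/
theorem aniso (X : Submodule F V) (hrad : ∀ x ∈ X, (∀ y ∈ X, B x y = 0) → x = 0) (hX : X ≠ ⊤) :
    ∃ u : V, (∀ y ∈ X, B y u = 0) ∧ B u u ≠ 0 := by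
  by_contra hcon
  push Not at hcon
  let R : Submodule F V :=
    { carrier := {u | ∀ y ∈ X, B y u = 0}
      add_mem' := by
        intro a b ha hb y hy
        rw [map_add, ha y hy, hb y hy, add_zero]
      zero_mem' := by
        intro y _
        rw [map_zero]
      smul_mem' := by
        intro c a ha y hy
        rw [smul_right, ha y hy, mul_zero] }
  have hRmem : ∀ u, u ∈ R ↔ ∀ y ∈ X, B y u = 0 := fun u => Iff.rfl
  have hSR : (B.domRestrict₁₂ R R).IsSymm := hS.domRestrict R
  have hzero : B.domRestrict₁₂ R R = 0 := by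
    apply Cfsg.Agent.S0753.result σ hσ _ hSR
    intro u
    rw [LinearMap.domRestrict₁₂_apply]
    exact hcon u u.2
  have hR0 : ∀ a ∈ R, ∀ b ∈ R, B a b = 0 := by
    intro a ha b hb
    have := congrArg (fun L => L ⟨a, ha⟩ ⟨b, hb⟩) hzero
    simpa [LinearMap.domRestrict₁₂_apply] using this
  obtain ⟨v, hv⟩ : ∃ v : V, v ∉ X := by
    by_contra h
    push Not at h
    exact hX (eq_top_iff.mpr fun x _ => h x)
  obtain ⟨x, hxX, hx⟩ := proj σ hσ hσ2 B hS X hrad v
  have hu0 : v - x = 0 := by
    apply hB.1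
    intro z
    obtain ⟨xz, hxzX, hxz⟩ := proj σ hσ hσ2 B hS X hrad z
    have h1 : B (v - x) xz = 0 := by
      rw [← hS.eq, hx xz hxzX, map_zero]
    have h2 : B (v - x) (z - xz) = 0 := hR0 _ hx _ hxz
    have : z = xz + (z - xz) := by abel
    rw [this, map_add, h1, h2, add_zero]
  apply hv
  rw [sub_eq_zero.mp hu0]
  exact hxX

include hσ hσ2 hS hB in
/-- the choice of the new vector and its image -/
theorem exists_step (X : Submodule F V) (hX : X ≠ ⊤) (f : V →ₗ[F] V)
    (hiso : ∀ x ∈ X, ∀ x' ∈ X, B (f x) (f x') = B x x') (hinj : ∀ x ∈ X, f x = 0 → x = 0) :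
    ∃ v w : V, v ∉ X ∧ (∀ x ∈ X, B w (f x) = B v x) ∧ B w w = B v v ∧ w ∉ X.map f := by
  by_cases hrad : ∃ x0 ∈ X, x0 ≠ 0 ∧ ∀ x ∈ X, B x0 x = 0
  · obtain ⟨x0, hx0X, hx00, hx0⟩ := hrad
    obtain ⟨v, hv⟩ : ∃ v : V, B x0 v ≠ 0 := by
      by_contra hcon
      push Not at hcon
      exact hx00 (hB.1 x0 hcon)
    have hvX : v ∉ X := fun h => hv (hx0 v h)
    have hvx0 : B v x0 ≠ 0 := by
      rw [← hS.eq]
      exact (map_ne_zero σ).mpr hv
    -- the functional
    set h : X →ₗ[F] V := f.domRestrict X with hh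
    have hhinj : Function.Injective h := by
      rw [← LinearMap.ker_eq_bot, LinearMap.ker_eq_bot']
      intro x hx
      have : f x = 0 := hx
      exact Subtype.ext (hinj x x.2 this)
    obtain ⟨ψ, hψ⟩ := LinearMap.dualMap_surjective_of_injective hhinj ((B v).domRestrict X)
    obtain ⟨w0, hw0⟩ := riesz σ hσ hσ2 B hS hB ψ
    have hw0prop : ∀ x ∈ X, B w0 (f x) = B v x := by
      intro x hx
      rw [hw0]
      have := congrArg (fun l => l ⟨x, hx⟩) hψ
      simpa [hh] using this
    have hy0 : ∀ x ∈ X, B (f x0) (f x) = 0 := fun x hx => by rw [hiso x0 hx0X x hx, hx0 x hx]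
    have hd : σ (B v v - B w0 w0) = B v v - B w0 w0 := by
      rw [map_sub, hS.eq, hS.eq]
    obtain ⟨s, hs⟩ := tr_surj σ hσ hσ2 _ hd
    have hβ : B w0 (f x0) = B v x0 := hw0prop x0 hx0X
    refine ⟨v, w0 + (s / B v x0) • f x0, hvX, ?_, ?_, ?_⟩
    · intro x hx
      rw [map_add, LinearMap.add_apply, smul_left, hy0 x hx, mul_zero, add_zero, hw0prop x hx]
    · have h1 : B (f x0) w0 = σ (B v x0) := by rw [← hβ, hS.eq]
      have e1 : B (w0 + (s / B v x0) • f x0) (w0 + (s / B v x0) • f x0) =
          B w0 w0 + (s / B v x0) * B w0 (f x0) + σ (s / B v x0) * B (f x0) w0 +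
            σ (s / B v x0) * ((s / B v x0) * B (f x0) (f x0)) := by
        simp only [map_add, LinearMap.add_apply, smul_left, smul_right]
        ring
      rw [e1, hy0 x0 hx0X, hβ, h1, mul_zero, mul_zero, add_zero, ← map_mul,
        div_mul_cancel₀ _ hvx0, add_assoc, hs]
      ring
    · intro hmem
      obtain ⟨x1, hx1X, hx1⟩ := Submodule.mem_map.mp hmem
      have h1 : B (w0 + (s / B v x0) • f x0) (f x0) = B v x0 := by
        rw [map_add, LinearMap.add_apply, smul_left, hy0 x0 hx0X, mul_zero, add_zero, hβ]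
      rw [← hx1, hiso x1 hx1X x0 hx0X, ← hS.eq, hx0 x1 hx1X, map_zero] at h1
      exact hvx0 h1.symm
  · push Not at hrad
    have hradX : ∀ x ∈ X, (∀ y ∈ X, B x y = 0) → x = 0 := by
      intro x hx hxy
      by_contra hx0
      obtain ⟨y, hy, hne⟩ := hrad x hx hx0
      exact hne (hxy y hy)
    have hradY : ∀ y ∈ X.map f, (∀ y' ∈ X.map f, B y y' = 0) → y = 0 := by
      intro y hy hyy
      obtain ⟨x, hxX, rfl⟩ := Submodule.mem_map.mp hy
      have : x = 0 := by
        apply hradX x hxX
        intro x' hx'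
        rw [← hiso x hxX x' hx']
        exact hyy _ (Submodule.mem_map_of_mem hx')
      rw [this, map_zero]
    have hY : X.map f ≠ ⊤ := by
      intro htop
      have d3 : finrank F (X.map f) ≤ finrank F X := Submodule.finrank_map_le f X
      rw [htop, finrank_top] at d3
      have hlt : finrank F X < finrank F V := Submodule.finrank_lt hX
      omega
    obtain ⟨v, hvX, hvv⟩ := aniso σ hσ hσ2 B hS hB X hradX hX
    obtain ⟨w1, hw1Y, hw1⟩ := aniso σ hσ hσ2 B hS hB (X.map f) hradY hY
    have hc0 : σ (B v v / B w1 w1) = B v v / B w1 w1 := by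
      rw [map_div₀, hS.eq, hS.eq]
    obtain ⟨l, hl⟩ := Cfsg.Agent.S0755.norm_surj σ hσ hσ2 (B v v / B w1 w1)
      (div_ne_zero hvv hw1) hc0
    have hww : B (l • w1) (l • w1) = B v v := by
      rw [smul_left, smul_right, ← mul_assoc, hl, div_mul_cancel₀ _ hw1]
    have hwY : ∀ y ∈ X.map f, B (l • w1) y = 0 := by
      intro y hy
      rw [smul_left, ← hS.eq, hw1Y y hy, map_zero, mul_zero]
    refine ⟨v, l • w1, ?_, ?_, hww, ?_⟩
    · intro hv
      have h0 : B v v = 0 := hvX v hv
      exact hvv h0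
    · intro x hx
      rw [hwY _ (Submodule.mem_map_of_mem hx), ← hS.eq, hvX x hx, map_zero]
    · intro hmem
      have := hwY _ hmem
      rw [hww] at this
      exact hvv this

include hσ hσ2 hS hB in
theorem witt_aux :
    ∀ n : ℕ, ∀ X : Submodule F V, finrank F V - finrank F X = n → ∀ f : V →ₗ[F] V,
      (∀ x ∈ X, ∀ x' ∈ X, B (f x) (f x') = B x x') → (∀ x ∈ X, f x = 0 → x = 0) →
      ∃ g : V ≃ₗ[F] V, (∀ u v : V, B (g u) (g v) = B u v) ∧ ∀ x ∈ X, g x = f x := by
  intro n
  induction n using Nat.strong_induction_on with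
  | _ n ih =>
  intro X hn f hiso hinj
  by_cases hX : X = ⊤
  · subst hX
    have hinj' : Function.Injective f := by
      rw [← LinearMap.ker_eq_bot, LinearMap.ker_eq_bot']
      intro x hx
      exact hinj x Submodule.mem_top hx
    refine ⟨LinearEquiv.ofInjectiveEndo f hinj', ?_, ?_⟩
    · intro u v
      simp only [LinearEquiv.coe_ofInjectiveEndo]
      exact hiso u Submodule.mem_top v Submodule.mem_top
    · intro x _
      simp
  · obtain ⟨v, w, hv, hwprop, hww, hwY⟩ := exists_step σ hσ hσ2 B hS hB X hX f hiso hinj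
    -- the functional π
    obtain ⟨π0, hπ0v, hπ0X⟩ := Submodule.exists_dual_map_eq_bot_of_notMem hv inferInstance
    set π : Module.Dual F V := (π0 v)⁻¹ • π0 with hπ
    have hπv : π v = 1 := by
      simp [hπ, inv_mul_cancel₀ hπ0v]
    have hπX : ∀ x ∈ X, π x = 0 := by
      intro x hx
      have : π0 x ∈ X.map π0 := Submodule.mem_map_of_mem hx
      rw [hπ0X, Submodule.mem_bot] at this
      simp [hπ, this]
    set f' : V →ₗ[F] V := f + (LinearMap.toSpanSingleton F V (w - f v)).comp π with hf'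
    have hf'X : ∀ x ∈ X, f' x = f x := by
      intro x hx
      simp [hf', hπX x hx]
    have hf'v : f' v = w := by
      simp [hf', hπv]
    set X' := X ⊔ Submodule.span F {v} with hX'
    have hXlt : X < X' := by
      apply lt_of_le_of_ne le_sup_left
      intro heq
      apply hv
      rw [heq]
      exact Submodule.mem_sup_right (Submodule.mem_span_singleton_self v)
    have hdecomp : ∀ y ∈ X', ∃ x ∈ X, ∃ c : F, y = x + c • v := by
      intro y hy
      obtain ⟨x, hx, z, hz, rfl⟩ := Submodule.mem_sup.mp hy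
      obtain ⟨c, rfl⟩ := Submodule.mem_span_singleton.mp hz
      exact ⟨x, hx, c, rfl⟩
    have hf'val : ∀ x ∈ X, ∀ c : F, f' (x + c • v) = f x + c • w := by
      intro x hx c
      rw [map_add, map_smul, hf'X x hx, hf'v]
    have hBfw : ∀ x ∈ X, B (f x) w = B x v := by
      intro x hx
      rw [← hS.eq, hwprop x hx, hS.eq]
    have hiso' : ∀ y ∈ X', ∀ y' ∈ X', B (f' y) (f' y') = B y y' := by
      intro y hy y' hy'
      obtain ⟨x, hx, c, rfl⟩ := hdecomp y hy
      obtain ⟨x', hx', c', rfl⟩ := hdecomp y' hy'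
      rw [hf'val x hx c, hf'val x' hx' c']
      simp only [map_add, LinearMap.add_apply, smul_left, smul_right,
        hiso x hx x' hx', hBfw x hx, hwprop x' hx', hww]
    have hinj' : ∀ y ∈ X', f' y = 0 → y = 0 := by
      intro y hy hy0
      obtain ⟨x, hx, c, rfl⟩ := hdecomp y hy
      rw [hf'val x hx c] at hy0
      have hc : c = 0 := by
        by_contra hc
        apply hwY
        have hw : w = f (-(c⁻¹ • x)) := by
          have : c • w = -(f x) := eq_neg_of_add_eq_zero_right hy0
          rw [map_neg, map_smul, ← smul_neg, ← this, smul_smul, inv_mul_cancel₀ hc, one_smul]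
        rw [hw]
        exact Submodule.mem_map_of_mem (X.neg_mem (X.smul_mem _ hx))
      subst hc
      simp only [zero_smul, add_zero] at hy0 ⊢
      exact hinj x hx hy0
    have hlt : finrank F V - finrank F X' < n := by
      have h1 := Submodule.finrank_lt_finrank_of_lt hXlt
      have h2 : finrank F X' ≤ finrank F V := Submodule.finrank_le X'
      omega
    obtain ⟨g, hg1, hg2⟩ := ih _ hlt X' rfl f' hiso' hinj'
    refine ⟨g, hg1, ?_⟩
    intro x hx
    rw [hg2 x (le_sup_left (a := X) hx), hf'X x hx]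

end

/-- Witt's Lemma for Hermitian forms. Let σ be a non-identity involutive automorphism of a finite field F and B a non-degenerate σ-sesquilinear form on a finite-dimensional F-space V which is conjugate-symmetric (σ (B x y) = B y x). Then every linear equivalence between subspaces X, Y of V preserving B extends to a B-preserving linear automorphism of V. -/
theorem result {F V : Type*} [Field F] [Finite F] [AddCommGroup V] [Module F V] [FiniteDimensional F V] (σ : F →+* F) (hσ : σ ≠ RingHom.id F) (hσ2 : ∀ a : F, σ (σ a) = a) (B : V →ₛₗ[σ] V →ₗ[F] F) (hS : B.IsSymm) (hB : B.Nondegenerate) (X Y : Submodule F V) (φ : X ≃ₗ[F] Y) (hφ : ∀ x x' : X, B (φ x : V) (φ x' : V) = B (x : V) (x' : V)) : ∃ g : V ≃ₗ[F] V, (∀ u v : V, B (g u) (g v) = B u v) ∧ ∀ x : X, g (x : V) = (φ x : V) := by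
  obtain ⟨f, hf⟩ := LinearMap.exists_extend (Y.subtype.comp (φ : X →ₗ[F] Y))
  have hfX : ∀ x : X, f x = (φ x : V) := by
    intro x
    have := congrArg (fun l => l x) hf
    simpa using this
  obtain ⟨g, hg1, hg2⟩ := witt_aux σ hσ hσ2 B hS hB _ X rfl f
    (by
      intro x hx x' hx'
      have h1 := hfX ⟨x, hx⟩
      have h2 := hfX ⟨x', hx'⟩
      simp only at h1 h2
      rw [h1, h2]
      exact hφ ⟨x, hx⟩ ⟨x', hx'⟩)
    (by
      intro x hx h0
      have h1 := hfX ⟨x, hx⟩
      simp only at h1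
      rw [h1] at h0
      have : φ ⟨x, hx⟩ = 0 := Subtype.ext h0
      have := φ.map_eq_zero_iff.mp this
      exact congrArg Subtype.val this)
  refine ⟨g, hg1, ?_⟩
  intro x
  rw [hg2 x x.2, hfX x]

end Cfsg.Agent.S0751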