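import Cfsg.Statements.S0428
import Cfsg.Agent.Lib.Helper11.Steiner22

set_option autoImplicit false
set_option linter.unusedSimpArgs false
open Cfsg

namespace Cfsg.Agent.S0428

section adj
variable {α : Type*} (B : Set (Finset α))

theorem adj_nn : ¬ (Cfsg.pointBlockGraph B).Adj none none := by
  simp [Cfsg.pointBlockGraph]

theorem adj_np (a : α) : (Cfsg.pointBlockGraph B).Adj none (some (Sum.inl a)) := by
  simp [Cfsg.pointBlockGraph, Cfsg.pointBlockRel]

theorem adj_nb (b : B) : ¬ (Cfsg.pointBlockGraph B).Adj none (some (Sum.inr b)) := by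
  simp [Cfsg.pointBlockGraph, Cfsg.pointBlockRel]

theorem adj_pp (a a' : α) :
    ¬ (Cfsg.pointBlockGraph B).Adj (some (Sum.inl a)) (some (Sum.inl a')) := by
  simp [Cfsg.pointBlockGraph, Cfsg.pointBlockRel]

theorem adj_pb (a : α) (b : B) :
    (Cfsg.pointBlockGraph B).Adj (some (Sum.inl a)) (some (Sum.inr b)) ↔ a ∈ b.1 := by
  simp [Cfsg.pointBlockGraph, Cfsg.pointBlockRel]

theorem adj_bb (b c : B) :
    (Cfsg.pointBlockGraph B).Adj (some (Sum.inr b)) (some (Sum.inr c)) ↔
      b ≠ c ∧ Disjoint b.1 c.1 := by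
  simp only [Cfsg.pointBlockGraph, SimpleGraph.fromRel_adj, Cfsg.pointBlockRel, ne_eq,
    Option.some.injEq, Sum.inr.injEq]
  constructor
  · rintro ⟨h1, h | h⟩
    · exact ⟨h1, h⟩
    · exact ⟨h1, h.symm⟩
  · rintro ⟨h1, h⟩
    exact ⟨h1, Or.inl h⟩

end adj

open Cfsg.Agent.Lib.Helper11 in
/-- The point-block graph of an S(3, 6, 22) is strongly regular with parameters (100, 22, 0, 6). -/
theorem result {α : Type*} [Fintype α] (hα : Fintype.card α = 22) {B : Set (Finset α)} (hB : Cfsg.IsSteinerSystem 3 6 B) [Fintype B] [DecidableRel (Cfsg.pointBlockGraph B).Adj] : (Cfsg.pointBlockGraph B).IsSRGWith 100 22 0 6 := by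
  classical
  set Bf : Finset (Finset α) := Finset.univ.filter (· ∈ B) with hBf
  have hmem : ∀ b, b ∈ Bf ↔ b ∈ B := by simp [hBf]
  have h6 : ∀ b ∈ Bf, b.card = 6 := fun b hb => hB.1 b ((hmem b).mp hb)
  have h3 : ∀ s : Finset α, s.card = 3 → ∃! b, b ∈ Bf ∧ s ⊆ b := by
    intro s hs
    obtain ⟨b, hb, hu⟩ := hB.2 s hs
    exact ⟨b, ⟨(hmem b).mpr hb.1, hb.2⟩, fun c hc => hu c ⟨(hmem c).mp hc.1, hc.2⟩⟩
  have hin : ∀ v : B, v.1 ∈ Bf := fun v => (hmem _).mpr v.2
  have hbb : ∀ b c : B, (Cfsg.pointBlockGraph B).Adj (some (Sum.inr b)) (some (Sum.inr c)) ↔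
      Disjoint b.1 c.1 := by
    intro b c
    rw [adj_bb]
    constructor
    · exact fun h => h.2
    · intro h
      exact ⟨fun hbc => st_ne_of_disjoint hα h6 h3 (hin b) h (congrArg Subtype.val hbc), h⟩
  have hsymm := fun x y => (Cfsg.pointBlockGraph B).adj_comm x y
  have hcardB : Fintype.card B = 77 := by
    rw [Fintype.card_of_subtype Bf hmem]
    exact st_card_blocks hα h6 h3
  -- common neighbour counts
  have c_np : ∀ p : α, Nat.card ((Cfsg.pointBlockGraph B).commonNeighbors none (some (Sum.inl p))) = 0 := by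
    intro p
    apply ncard_empty_set
    rintro (_ | a | b) <;> simp [SimpleGraph.mem_commonNeighbors, adj_nn, adj_pp, adj_nb]
  have c_nb : ∀ b : B, Nat.card ((Cfsg.pointBlockGraph B).commonNeighbors none (some (Sum.inr b))) = 6 := by
    intro b
    rw [ncard_option_sum, if_neg (by simp [SimpleGraph.mem_commonNeighbors, adj_nn]),
      ncard_finset_set _ b.1 (fun a => by
        simp [SimpleGraph.mem_commonNeighbors, adj_np, hsymm _ (some (Sum.inl a)), adj_pb]),
      ncard_empty_set _ (fun c => by simp [SimpleGraph.mem_commonNeighbors, adj_nb]), h6 _ (hin b)]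
  have c_pp : ∀ p q : α, p ≠ q → Nat.card ((Cfsg.pointBlockGraph B).commonNeighbors
      (some (Sum.inl p)) (some (Sum.inl q))) = 6 := by
    intro p q hpq
    rw [ncard_option_sum, if_pos (by simp [SimpleGraph.mem_commonNeighbors, hsymm _ none, adj_np]),
      ncard_empty_set _ (fun a => by simp [SimpleGraph.mem_commonNeighbors, adj_pp]),
      ncard_sub Bf hmem _ (fun d => p ∈ d ∧ q ∈ d) (fun d => by
        simp [SimpleGraph.mem_commonNeighbors, adj_pb]),
      st_card_two hα h6 h3 hpq]
  have c_pb0 : ∀ (p : α) (b : B), p ∈ b.1 → Nat.card ((Cfsg.pointBlockGraph B).commonNeighbors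
      (some (Sum.inl p)) (some (Sum.inr b))) = 0 := by
    intro p b hp
    apply ncard_empty_set
    rintro (_ | a | c)
    · simp [SimpleGraph.mem_commonNeighbors, hsymm _ none, adj_nb]
    · simp [SimpleGraph.mem_commonNeighbors, adj_pp]
    · simp only [SimpleGraph.mem_commonNeighbors, adj_pb, hbb, not_and]
      intro hpc hd
      exact Finset.disjoint_left.mp hd hp hpc
  have c_pb6 : ∀ (p : α) (b : B), p ∉ b.1 → Nat.card ((Cfsg.pointBlockGraph B).commonNeighbors
      (some (Sum.inl p)) (some (Sum.inr b))) = 6 := by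
    intro p b hp
    rw [ncard_option_sum, if_neg (by simp [SimpleGraph.mem_commonNeighbors, hsymm _ none, adj_nb]),
      ncard_empty_set _ (fun a => by simp [SimpleGraph.mem_commonNeighbors, adj_pp]),
      ncard_sub Bf hmem _ (fun d => p ∈ d ∧ Disjoint b.1 d) (fun d => by
        simp [SimpleGraph.mem_commonNeighbors, adj_pb, hbb]),
      st_card_through_disjoint hα h6 h3 (hin b) hp]
  have c_bb0 : ∀ (b c : B), Disjoint b.1 c.1 → Nat.card ((Cfsg.pointBlockGraph B).commonNeighbors
      (some (Sum.inr b)) (some (Sum.inr c))) = 0 := by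
    intro b c hbc
    rw [ncard_option_sum, if_neg (by simp [SimpleGraph.mem_commonNeighbors, hsymm _ none, adj_nb]),
      ncard_empty_set _ (fun a => by
        simp only [Set.mem_ofPred_eq, SimpleGraph.mem_commonNeighbors, hsymm _ (some (Sum.inl a)),
          adj_pb, not_and]
        intro h1 h2
        exact Finset.disjoint_left.mp hbc h1 h2),
      ncard_sub Bf hmem _ (fun d => Disjoint b.1 d ∧ Disjoint c.1 d) (fun d => by
        simp [SimpleGraph.mem_commonNeighbors, hbb]),
      st_no_common_disjoint hα h6 h3 (hin b) (hin c) hbc]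
  have c_bb6 : ∀ (b c : B), b ≠ c → ¬ Disjoint b.1 c.1 →
      Nat.card ((Cfsg.pointBlockGraph B).commonNeighbors
      (some (Sum.inr b)) (some (Sum.inr c))) = 6 := by
    intro b c hne hbc
    have hne' : b.1 ≠ c.1 := fun h => hne (Subtype.ext h)
    have h2 : (b.1 ∩ c.1).card = 2 := by
      by_contra h
      exact hbc ((st_disjoint_iff hα h6 h3 (hin b) (hin c) hne').mpr h)
    rw [ncard_option_sum, if_neg (by simp [SimpleGraph.mem_commonNeighbors, hsymm _ none, adj_nb]),
      ncard_finset_set _ (b.1 ∩ c.1) (fun a => by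
        simp [SimpleGraph.mem_commonNeighbors, hsymm _ (some (Sum.inl a)), adj_pb]),
      ncard_sub Bf hmem _ (fun d => Disjoint b.1 d ∧ Disjoint c.1 d) (fun d => by
        simp [SimpleGraph.mem_commonNeighbors, hbb]),
      st_common_disjoint_of_meet hα h6 h3 (hin b) (hin c) hne' hbc, h2]
  have csymm : ∀ x y, Nat.card ((Cfsg.pointBlockGraph B).commonNeighbors x y)
      = Nat.card ((Cfsg.pointBlockGraph B).commonNeighbors y x) := by
    intro x y
    rw [SimpleGraph.commonNeighbors_symm]
  refine ⟨?_, ?_, ?_, ?_⟩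
  · rw [Fintype.card_option, Fintype.card_sum, hα, hcardB]
  · intro v
    rw [← SimpleGraph.card_neighborSet_eq_degree, Fintype.card_eq_nat_card]
    rcases v with _ | p | b
    · rw [ncard_option_sum, if_neg (by simp [SimpleGraph.mem_neighborSet, adj_nn]),
        ncard_finset_set _ Finset.univ (fun a => by simp [SimpleGraph.mem_neighborSet, adj_np]),
        ncard_empty_set _ (fun c => by simp [SimpleGraph.mem_neighborSet, adj_nb]),
        Finset.card_univ, hα]
    · rw [ncard_option_sum, if_pos (by simp [SimpleGraph.mem_neighborSet, hsymm _ none, adj_np]),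
        ncard_empty_set _ (fun a => by simp [SimpleGraph.mem_neighborSet, adj_pp]),
        ncard_sub Bf hmem _ (fun d => p ∈ d) (fun d => by
          simp [SimpleGraph.mem_neighborSet, adj_pb]),
        st_card_one hα h6 h3 p]
    · rw [ncard_option_sum, if_neg (by simp [SimpleGraph.mem_neighborSet, hsymm _ none, adj_nb]),
        ncard_finset_set _ b.1 (fun a => by
          simp [SimpleGraph.mem_neighborSet, hsymm _ (some (Sum.inl a)), adj_pb]),
        ncard_sub Bf hmem _ (fun d => Disjoint b.1 d) (fun d => by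
          simp [SimpleGraph.mem_neighborSet, hbb]),
        st_card_disjoint hα h6 h3 (hin b), h6 _ (hin b)]
  · intro v w hvw
    rw [Fintype.card_eq_nat_card]
    rcases v with _ | p | b <;> rcases w with _ | q | c
    · exact absurd hvw (adj_nn B)
    · exact c_np q
    · exact absurd hvw (adj_nb B c)
    · rw [csymm]; exact c_np p
    · exact absurd hvw (adj_pp B p q)
    · exact c_pb0 p c ((adj_pb B p c).mp hvw)
    · exact absurd ((hsymm _ _).mp hvw) (adj_nb B b)
    · rw [csymm]; exact c_pb0 q b ((adj_pb B q b).mp ((hsymm _ _).mp hvw))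
    · exact c_bb0 b c ((hbb b c).mp hvw)
  · intro v w hne hvw
    rw [Fintype.card_eq_nat_card]
    rcases v with _ | p | b <;> rcases w with _ | q | c
    · exact absurd rfl hne
    · exact absurd (adj_np B q) hvw
    · exact c_nb c
    · exact absurd ((hsymm _ _).mp (adj_np B p)) hvw
    · exact c_pp p q (fun h => hne (by rw [h]))
    · exact c_pb6 p c (fun h => hvw ((adj_pb B p c).mpr h))
    · rw [csymm]; exact c_nb b
    · rw [csymm]; exact c_pb6 q b (fun h => hvw ((hsymm _ _).mp ((adj_pb B q b).mpr h)))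
    · exact c_bb6 b c (fun h => hne (by rw [h])) (fun h => hvw ((hbb b c).mpr h))

end Cfsg.Agent.S0428
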