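import Cfsg.Statements.S5016
import Cfsg.Agent.Lib.Helper86.RootSets2

set_option autoImplicit false
open Cfsg

namespace Cfsg.Agent.S5016

open Cfsg.Agent.Lib.Helper86 Matrix

section
variable {k : Type*} [Field k]

local notation "SL2" => Matrix.SpecialLinearGroup (Fin 2) k

theorem sl2_ext {g h : SL2} (h00 : g 0 0 = h 0 0) (h01 : g 0 1 = h 0 1) (h10 : g 1 0 = h 1 0)
    (h11 : g 1 1 = h 1 1) : g = h := by
  apply Subtype.ext
  ext i j
  fin_cases i <;> fin_cases j <;> assumption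

theorem sl2_det (g : SL2) : g 0 0 * g 1 1 - g 0 1 * g 1 0 = 1 := by
  have := g.2
  rwa [Matrix.det_fin_two] at this

theorem mul_apply' (g h : SL2) (i j : Fin 2) : (g * h) i j = g i 0 * h 0 j + g i 1 * h 1 j := by
  rw [Matrix.SpecialLinearGroup.coe_mul, Matrix.mul_apply, Fin.sum_univ_two]

theorem inv_apply_00 (g : SL2) : (g⁻¹) 0 0 = g 1 1 := by
  rw [Matrix.SpecialLinearGroup.coe_inv, Matrix.adjugate_fin_two]; rfl
theorem inv_apply_01 (g : SL2) : (g⁻¹) 0 1 = - g 0 1 := by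
  rw [Matrix.SpecialLinearGroup.coe_inv, Matrix.adjugate_fin_two]; rfl
theorem inv_apply_10 (g : SL2) : (g⁻¹) 1 0 = - g 1 0 := by
  rw [Matrix.SpecialLinearGroup.coe_inv, Matrix.adjugate_fin_two]; rfl
theorem inv_apply_11 (g : SL2) : (g⁻¹) 1 1 = g 0 0 := by
  rw [Matrix.SpecialLinearGroup.coe_inv, Matrix.adjugate_fin_two]; rfl

theorem one_apply_00 : (1 : SL2) 0 0 = 1 := by simp
theorem one_apply_01 : (1 : SL2) 0 1 = 0 := by simp
theorem one_apply_10 : (1 : SL2) 1 0 = 0 := by simp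
theorem one_apply_11 : (1 : SL2) 1 1 = 1 := by simp

/-- lower unitriangular as an honest subgroup -/
def Lsub (k : Type*) [Field k] : Subgroup (Matrix.SpecialLinearGroup (Fin 2) k) where
  carrier := {g | g 0 1 = 0 ∧ g 0 0 = 1 ∧ g 1 1 = 1}
  one_mem' := ⟨one_apply_01, one_apply_00, one_apply_11⟩
  mul_mem' := by
    rintro g h ⟨g1, g2, g3⟩ ⟨h1, h2, h3⟩
    refine ⟨?_, ?_, ?_⟩ <;> rw [mul_apply'] <;> simp [g1, g2, g3, h1, h2, h3]
  inv_mem' := by
    rintro g ⟨g1, g2, g3⟩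
    exact ⟨by rw [inv_apply_01, g1, neg_zero], by rw [inv_apply_00, g3], by rw [inv_apply_11, g2]⟩

def Usub (k : Type*) [Field k] : Subgroup (Matrix.SpecialLinearGroup (Fin 2) k) where
  carrier := {g | g 1 0 = 0 ∧ g 0 0 = 1 ∧ g 1 1 = 1}
  one_mem' := ⟨one_apply_10, one_apply_00, one_apply_11⟩
  mul_mem' := by
    rintro g h ⟨g1, g2, g3⟩ ⟨h1, h2, h3⟩
    refine ⟨?_, ?_, ?_⟩ <;> rw [mul_apply'] <;> simp [g1, g2, g3, h1, h2, h3]
  inv_mem' := by
    rintro g ⟨g1, g2, g3⟩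
    exact ⟨by rw [inv_apply_10, g1, neg_zero], by rw [inv_apply_00, g3], by rw [inv_apply_11, g2]⟩

theorem lower_eq : lowerUnipotentSL2 k = Lsub k := by
  unfold lowerUnipotentSL2
  exact Subgroup.closure_eq (Lsub k)

theorem upper_eq : upperUnipotentSL2 k = Usub k := by
  unfold upperUnipotentSL2
  exact Subgroup.closure_eq (Usub k)

theorem mem_L {g : SL2} : g ∈ Lsub k ↔ g 0 1 = 0 ∧ g 0 0 = 1 ∧ g 1 1 = 1 := Iff.rfl
theorem mem_U {g : SL2} : g ∈ Usub k ↔ g 1 0 = 0 ∧ g 0 0 = 1 ∧ g 1 1 = 1 := Iff.rfl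


theorem isNilpotent_of_comm {H : Type*} [Group H] (h : IsMulCommutative H) : Group.IsNilpotent H :=
  ⟨⟨1, Subgroup.upperCentralSeries_one_eq_top_iff.mpr h⟩⟩

/-- elements -/
def Lel (t : k) : SL2 := ⟨!![1, 0; t, 1], by simp [Matrix.det_fin_two]⟩
def Uel (s : k) : SL2 := ⟨!![1, s; 0, 1], by simp [Matrix.det_fin_two]⟩
def Wel (t : k) (ht : t ≠ 0) : SL2 := ⟨!![0, -t⁻¹; t, 0], by simp [Matrix.det_fin_two, ht]⟩

@[simp] theorem Lel_00 (t : k) : (Lel t) 0 0 = 1 := rfl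
@[simp] theorem Lel_01 (t : k) : (Lel t) 0 1 = 0 := rfl
@[simp] theorem Lel_10 (t : k) : (Lel t) 1 0 = t := rfl
@[simp] theorem Lel_11 (t : k) : (Lel t) 1 1 = 1 := rfl
@[simp] theorem Uel_00 (t : k) : (Uel t) 0 0 = 1 := rfl
@[simp] theorem Uel_01 (t : k) : (Uel t) 0 1 = t := rfl
@[simp] theorem Uel_10 (t : k) : (Uel t) 1 0 = 0 := rfl
@[simp] theorem Uel_11 (t : k) : (Uel t) 1 1 = 1 := rfl
@[simp] theorem Wel_00 (t : k) (ht : t ≠ 0) : (Wel t ht) 0 0 = 0 := rfl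
@[simp] theorem Wel_01 (t : k) (ht : t ≠ 0) : (Wel t ht) 0 1 = -t⁻¹ := rfl
@[simp] theorem Wel_10 (t : k) (ht : t ≠ 0) : (Wel t ht) 1 0 = t := rfl
@[simp] theorem Wel_11 (t : k) (ht : t ≠ 0) : (Wel t ht) 1 1 = 0 := rfl

theorem Lel_mem (t : k) : Lel t ∈ Lsub k := ⟨rfl, rfl, rfl⟩
theorem Uel_mem (t : k) : Uel t ∈ Usub k := ⟨rfl, rfl, rfl⟩

theorem eq_Lel {g : SL2} (hg : g ∈ Lsub k) : g = Lel (g 1 0) := by
  obtain ⟨h1, h2, h3⟩ := hg
  apply sl2_ext <;> simp [h1, h2, h3]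

theorem eq_Uel {g : SL2} (hg : g ∈ Usub k) : g = Uel (g 0 1) := by
  obtain ⟨h1, h2, h3⟩ := hg
  apply sl2_ext <;> simp [h1, h2, h3]

theorem Lel_eq_one_iff {t : k} : Lel t = 1 ↔ t = 0 := by
  constructor
  · intro h
    have := congrArg (fun g : SL2 => g 1 0) h
    simpa using this
  · rintro rfl
    apply sl2_ext <;> simp

theorem Uel_eq_one_iff {t : k} : Uel t = 1 ↔ t = 0 := by
  constructor
  · intro h
    have := congrArg (fun g : SL2 => g 0 1) h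
    simpa using this
  · rintro rfl
    apply sl2_ext <;> simp

theorem Lsub_comm : IsMulCommutative (Lsub k) := by
  refine ⟨⟨fun g h => ?_⟩⟩
  apply Subtype.ext
  rw [Subgroup.coe_mul, Subgroup.coe_mul, eq_Lel g.2, eq_Lel h.2]
  apply sl2_ext <;> simp [mul_apply', add_comm]

theorem Usub_comm : IsMulCommutative (Usub k) := by
  refine ⟨⟨fun g h => ?_⟩⟩
  apply Subtype.ext
  rw [Subgroup.coe_mul, Subgroup.coe_mul, eq_Uel g.2, eq_Uel h.2]
  apply sl2_ext <;> simp [mul_apply', add_comm]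

/-- the Weyl element conjugates `L` to `U` -/
theorem conjBy_L_W (t : k) (ht : t ≠ 0) : conjBy (Lsub k) (Wel t ht) = Usub k := by
  ext x
  rw [mem_conjBy, mem_L, mem_U]
  simp only [mul_apply', inv_apply_00, inv_apply_01, inv_apply_10, inv_apply_11, Wel_00, Wel_01,
    Wel_10, Wel_11]
  have hd := sl2_det x
  constructor
  · rintro ⟨h1, h2, h3⟩
    refine ⟨?_, ?_, ?_⟩
    · have : x.1 1 0 * (t⁻¹ * t⁻¹) = 0 := by linear_combination -h1
      rcases mul_eq_zero.mp this with h | h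
      · exact h
      · simp [ht] at h
    · have : x.1 0 0 * (t * t⁻¹) = 1 := by linear_combination h3
      rwa [mul_inv_cancel₀ ht, mul_one] at this
    · have : x.1 1 1 * (t * t⁻¹) = 1 := by linear_combination h2
      rwa [mul_inv_cancel₀ ht, mul_one] at this
  · rintro ⟨h1, h2, h3⟩
    rw [h1, h2, h3]
    refine ⟨by ring, ?_, ?_⟩
    · have : (0 * 1 + - -t⁻¹ * (0:k)) * 0 + (0 * x.1 0 1 + - -t⁻¹ * 1) * t = t⁻¹ * t := by ring
      rw [this, inv_mul_cancel₀ ht]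
    · have : (-t * 1 + 0 * (0:k)) * -t⁻¹ + (-t * x.1 0 1 + 0 * 1) * 0 = t * t⁻¹ := by ring
      rw [this, mul_inv_cancel₀ ht]


theorem LUL (t : k) (ht : t ≠ 0) : Lel t * (Uel t⁻¹)⁻¹ * Lel t = Wel t ht := by
  apply sl2_ext <;>
    simp only [mul_apply', inv_apply_00, inv_apply_01, inv_apply_10, inv_apply_11, Lel_00, Lel_01,
      Lel_10, Lel_11, Uel_00, Uel_01, Uel_10, Uel_11, Wel_00, Wel_01, Wel_10, Wel_11]
  · have : (1 * 1 + 0 * -(0:k)) * 1 + (1 * -t⁻¹ + 0 * 1) * t = 1 - t⁻¹ * t := by ring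
    rw [this, inv_mul_cancel₀ ht, sub_self]
  · ring
  · have : (t * 1 + 1 * -(0:k)) * 1 + (t * -t⁻¹ + 1 * 1) * t = t + (1 - t * t⁻¹) * t := by ring
    rw [this, mul_inv_cancel₀ ht]; ring
  · have : (t * 1 + 1 * -(0:k)) * 0 + (t * -t⁻¹ + 1 * 1) * 1 = 1 - t * t⁻¹ := by ring
    rw [this, mul_inv_cancel₀ ht, sub_self]

/-- the basic rank one relation in `SL₂` -/
theorem sl2_cond (t : k) (ht : t ≠ 0) :
    conjBy (Lsub k) (Uel t⁻¹)⁻¹ = conjBy (Usub k) (Lel t)⁻¹ := by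
  rw [← conjBy_L_W t ht, conjBy_conjBy, ← LUL t ht]
  have e : (Lel t)⁻¹ * (Lel t * (Uel t⁻¹)⁻¹ * Lel t) = (Uel t⁻¹)⁻¹ * Lel t := by group
  rw [e, ← conjBy_conjBy, conjBy_self_mem (Lel_mem t)]

theorem sl2_ne : Lsub k ≠ Usub k := by
  intro h
  have h1 : Lel (1 : k) ∈ Usub k := h ▸ Lel_mem 1
  have := h1.1
  simp at this

theorem sl2_pair : IsRankOnePair (Lsub k) (Usub k) := by
  refine ⟨sl2_ne, isNilpotent_of_comm Lsub_comm, isNilpotent_of_comm Usub_comm, ?_, ?_⟩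
  · intro a ha ha1
    rw [eq_Lel ha] at ha1 ⊢
    have ht : a.1 1 0 ≠ 0 := fun h => ha1 (Lel_eq_one_iff.mpr h)
    refine ⟨Uel (a.1 1 0)⁻¹, Uel_mem _, ?_, sl2_cond _ ht⟩
    rw [Ne, Uel_eq_one_iff]
    exact inv_ne_zero ht
  · intro b hb hb1
    rw [eq_Uel hb] at hb1 ⊢
    have hs : b.1 0 1 ≠ 0 := fun h => hb1 (Uel_eq_one_iff.mpr h)
    refine ⟨Lel (b.1 0 1)⁻¹, Lel_mem _, ?_, ?_⟩
    · rw [Ne, Lel_eq_one_iff]
      exact inv_ne_zero hs
    · have := sl2_cond (b.1 0 1)⁻¹ (inv_ne_zero hs)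
      rw [inv_inv] at this
      exact this.symm

theorem sl2_gen : Lsub k ⊔ Usub k = ⊤ := by
  rw [eq_top_iff]
  -- first the case of nonzero lower-left entry
  have key : ∀ g : SL2, g.1 1 0 ≠ 0 → g ∈ Lsub k ⊔ Usub k := by
    intro g hc
    have hd := sl2_det g
    have e : g = Uel ((g.1 0 0 - 1) / g.1 1 0) * Lel (g.1 1 0) * Uel ((g.1 1 1 - 1) / g.1 1 0) := by
      apply sl2_ext <;>
        simp only [mul_apply', Lel_00, Lel_01, Lel_10, Lel_11, Uel_00, Uel_01, Uel_10, Uel_11]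
      · field_simp; ring
      · field_simp
        linear_combination (-1 : k) * hd
      · ring
      · field_simp; ring
    rw [e]
    exact Subgroup.mul_mem _ (Subgroup.mul_mem _ (Subgroup.mem_sup_right (Uel_mem _))
      (Subgroup.mem_sup_left (Lel_mem _))) (Subgroup.mem_sup_right (Uel_mem _))
  intro g _
  by_cases hc : g.1 1 0 = 0
  · have hd := sl2_det g
    rw [hc, mul_zero, sub_zero] at hd
    have ha : g.1 0 0 ≠ 0 := left_ne_zero_of_mul_eq_one hd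
    have h1 : Lel 1 * g ∈ Lsub k ⊔ Usub k := by
      apply key
      simp only [mul_apply', Lel_10, Lel_11, hc]
      simpa using ha
    have h2 : g = (Lel 1)⁻¹ * (Lel 1 * g) := by group
    rw [h2]
    exact Subgroup.mul_mem _ (Subgroup.inv_mem _ (Subgroup.mem_sup_left (Lel_mem _))) h1
  · exact key g hc

theorem sl2_special : IsSpecialRankOnePair (Lsub k) (Usub k) := by
  refine ⟨sl2_pair, ?_⟩
  intro a ha ha1 b hb hb1 hab
  rw [eq_Lel ha] at ha1 hab ⊢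
  set t := a.1 1 0 with ht
  have ht0 : t ≠ 0 := fun h => ha1 (Lel_eq_one_iff.mpr h)
  have hb' : b = Uel t⁻¹ :=
    rk1_partner_unique sl2_pair hb (Uel_mem _) hab (sl2_cond t ht0)
  rw [hb']
  apply sl2_ext <;>
    simp only [mul_apply', inv_apply_00, inv_apply_01, inv_apply_10, inv_apply_11, Lel_00, Lel_01,
      Lel_10, Lel_11, Uel_00, Uel_01, Uel_10, Uel_11]
  all_goals (field_simp; try ring)


end


/-- For any field k, the special linear group SL₂(k) is a special rank one group with abelian unipotent subgroups, the unipotent subgroups being the group of lower unitriangular matrices and the group of upper unitriangular matrices. -/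
theorem result (k : Type*) [Field k] :
    Cfsg.IsRankOneGroup (Matrix.SpecialLinearGroup (Fin 2) k) (Cfsg.lowerUnipotentSL2 k) (Cfsg.upperUnipotentSL2 k) ∧
    Cfsg.IsSpecialRankOnePair (Cfsg.lowerUnipotentSL2 k) (Cfsg.upperUnipotentSL2 k) ∧
    Cfsg.HasAbelianUnipotents (Cfsg.lowerUnipotentSL2 k) (Cfsg.upperUnipotentSL2 k) := by
  rw [lower_eq, upper_eq]
  exact ⟨⟨sl2_gen, sl2_pair⟩, sl2_special, Lsub_comm, Usub_comm⟩

end Cfsg.Agent.S5016
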