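import Cfsg.Statements.S5070
import Cfsg.Agent.S0270

set_option autoImplicit false
open Matrix
open Cfsg

namespace Cfsg.Agent.S5070

open Cfsg.Agent.Lib.Helper18 Cfsg.Agent.Lib.Helper11.SpPerfect Cfsg.Agent.S0270

section
variable {F : Type*} [Field F] (n : ℕ)

local notation "V" => (Fin n ⊕ Fin n → F)
local notation "ff" => Cfsg.sympForm n F
local notation "G" => Matrix.symplecticGroup (Fin n) F

/-- the root subgroup of the statement -/
def RS (p : V) : Subgroup G :=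
  Subgroup.closure {g : ↥(Matrix.symplecticGroup (Fin n) F) | ∃ c : F, ∀ v : Fin n ⊕ Fin n → F,
    (g : Matrix (Fin n ⊕ Fin n) (Fin n ⊕ Fin n) F) *ᵥ v =
      v + (c * (v ⬝ᵥ (Matrix.J (Fin n) F *ᵥ p))) • p}

theorem RS_eq (p : V) : RS n p = TS n p := by
  have hset : {g : ↥(Matrix.symplecticGroup (Fin n) F) | ∃ c : F, ∀ v : Fin n ⊕ Fin n → F,
      (g : Matrix (Fin n ⊕ Fin n) (Fin n ⊕ Fin n) F) *ᵥ v =
        v + (c * (v ⬝ᵥ (Matrix.J (Fin n) F *ᵥ p))) • p} = (TS n p : Set G) := by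
    ext g
    constructor
    · rintro ⟨c, hc⟩
      refine ⟨c, ?_⟩
      apply sp_ext
      intro x
      rw [hc x, tv_act]
      rfl
    · rintro ⟨c, rfl⟩
      refine ⟨c, fun v => ?_⟩
      rw [tv_act]
      rfl
  unfold RS
  rw [hset, Subgroup.closure_eq]

/-- the family of the statement -/
def SS : Set (Subgroup G) := {A | ∃ p : Fin n ⊕ Fin n → F, p ≠ 0 ∧ A = RS n p}

theorem mem_SS (A : Subgroup G) : A ∈ SS n ↔ ∃ p : V, p ≠ 0 ∧ A = TS n p := by
  unfold SS
  simp only [Set.mem_ofPred_eq, RS_eq]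

theorem TS_mem_SS (p : V) (hp : p ≠ 0) : TS n p ∈ SS n := (mem_SS n _).mpr ⟨p, hp, rfl⟩

theorem tv_mem_TS (p : V) (c : F) : tv n p c ∈ TS n p := ⟨c, rfl⟩

theorem tv_ne_one (p : V) (hp : p ≠ 0) (c : F) (hc : c ≠ 0) : tv n p c ≠ 1 := by
  intro h
  obtain ⟨y, hy⟩ := sf_nondeg_top n p hp
  have h1 := congrArg (fun g : G => g.1 *ᵥ y) h
  simp only [tv_act, val_one, Matrix.one_mulVec] at h1
  have h2 : (c * ff y p) • p = 0 := by
    have := congrArg (fun z => z - y) h1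
    simpa using this
  rcases smul_eq_zero.mp h2 with h3 | h3
  · rcases mul_eq_zero.mp h3 with h4 | h4
    · exact hc h4
    · rw [sf_swap, h4, neg_zero] at hy
      exact hy rfl
  · exact hp h3

theorem TS_comm (p : V) : IsMulCommutative (TS n p) :=
  ⟨⟨by
    rintro ⟨_, c, rfl⟩ ⟨_, d, rfl⟩
    apply Subtype.ext
    show tv n p c * tv n p d = tv n p d * tv n p c
    rw [tv_mul, tv_mul, add_comm]⟩⟩

theorem TS_ne_bot (p : V) (hp : p ≠ 0) : TS n p ≠ ⊥ := by
  intro h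
  have h1 : tv n p 1 ∈ TS n p := tv_mem_TS n p 1
  rw [h, Subgroup.mem_bot] at h1
  exact tv_ne_one n p hp 1 one_ne_zero h1

theorem conjBy_TS (p : V) (g : G) : Cfsg.conjBy (TS n p) g = TS n (g.1 *ᵥ p) := by
  ext x
  unfold Cfsg.conjBy
  rw [Subgroup.mem_map]
  constructor
  · rintro ⟨y, ⟨c, rfl⟩, rfl⟩
    refine ⟨c, ?_⟩
    show g * tv n p c * g⁻¹ = _
    rw [conj_tv]
  · rintro ⟨c, rfl⟩
    refine ⟨tv n p c, ⟨c, rfl⟩, ?_⟩
    show g * tv n p c * g⁻¹ = _
    rw [conj_tv]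

theorem tv_comm_of_orth (p q : V) (hpq : ff p q = 0) (c d : F) :
    tv n p c * tv n q d = tv n q d * tv n p c := by
  have hqp : ff q p = 0 := by rw [sf_swap, hpq, neg_zero]
  apply sp_ext
  intro x
  rw [val_mul, val_mul, ← Matrix.mulVec_mulVec, ← Matrix.mulVec_mulVec, tv_act, tv_act, tv_act,
    tv_act]
  simp only [sf_add_left, sf_smul_left, hpq, hqp, mul_zero, add_zero]
  abel

theorem comm_eq_bot_of_orth (p q : V) (hpq : ff p q = 0) : ⁅TS n p, TS n q⁆ = ⊥ := by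
  rw [Subgroup.commutator_eq_bot_iff_le_centralizer]
  rintro _ ⟨c, rfl⟩
  rw [Subgroup.mem_centralizer_iff]
  rintro _ ⟨d, rfl⟩
  exact (tv_comm_of_orth n p q hpq c d).symm

theorem TS_ne_of (p q : V) (hq : q ≠ 0) (hpq : ff p q ≠ 0) : TS n p ≠ TS n q := by
  intro h
  have h1 : tv n q 1 ∈ TS n p := by rw [h]; exact tv_mem_TS n q 1
  obtain ⟨c, hc⟩ := h1
  have h2 := congrArg (fun g : G => g.1 *ᵥ p) hc
  simp only [tv_act, sf_self, mul_zero, zero_smul, add_zero, one_mul] at h2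
  have h3 : (ff p q) • q = 0 := by
    have := congrArg (fun z => z - p) h2
    simpa using this
  rcases smul_eq_zero.mp h3 with h4 | h4
  · exact hpq h4
  · exact hq h4

theorem TS_nilpotent (p : V) : Group.IsNilpotent ↥(TS n p) := by
  let _ : CommGroup ↥(TS n p) :=
    { (inferInstance : Group ↥(TS n p)) with
      mul_comm := (TS_comm n p).is_comm.comm }
  exact CommGroup.isNilpotent

theorem rank_one_cond (p q : V) (hpq : ff p q ≠ 0) :
    Cfsg.RankOneCondition (TS n p) (TS n q) := by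
  rintro _ ⟨c, rfl⟩ hne
  have hc : c ≠ 0 := by
    rintro rfl
    exact hne (tv_zero n p)
  have hq0 : q ≠ 0 := by
    rintro rfl
    exact hpq (sf_zero_right n p)
  set φ := ff p q with hφ
  set d : F := -(c * φ * φ)⁻¹ with hd
  have hd0 : d ≠ 0 := neg_ne_zero.mpr (inv_ne_zero (mul_ne_zero (mul_ne_zero hc hpq) hpq))
  refine ⟨tv n q d, tv_mem_TS n q d, tv_ne_one n q hq0 d hd0, ?_⟩
  rw [conjBy_TS, conjBy_TS, tv_inv, tv_inv, tv_act, tv_act]
  have hqp : ff q p = -φ := by rw [sf_swap]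
  rw [hqp]
  have e : p + (-d * φ) • q = (c * φ)⁻¹ • (q + (-c * -φ) • p) := by
    rw [smul_add, smul_smul, hd]
    have h1 : (c * φ)⁻¹ * (-c * -φ) = 1 := by
      field_simp
    have h2 : -(-(c * φ * φ)⁻¹) * φ = (c * φ)⁻¹ := by
      field_simp
    rw [h1, h2, one_smul, add_comm]
  rw [e]
  exact TS_smul n _ (inv_ne_zero (mul_ne_zero hc hpq)) _

theorem rank_one_pair (p q : V) (hpq : ff p q ≠ 0) : Cfsg.IsRankOnePair (TS n p) (TS n q) := by
  have hq0 : q ≠ 0 := by
    rintro rfl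
    exact hpq (sf_zero_right n p)
  have hqp : ff q p ≠ 0 := by rw [sf_swap]; exact neg_ne_zero.mpr hpq
  exact ⟨TS_ne_of n p q hq0 hpq, TS_nilpotent n p, TS_nilpotent n q, rank_one_cond n p q hpq,
    rank_one_cond n q p hqp⟩

theorem isRootSubgroupSet : Cfsg.IsRootSubgroupSet (SS n (F := F)) where
  commutative := by
    intro A hA
    obtain ⟨p, -, rfl⟩ := (mem_SS n A).mp hA
    exact TS_comm n p
  ne_bot := by
    intro A hA
    obtain ⟨p, hp, rfl⟩ := (mem_SS n A).mp hA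
    exact TS_ne_bot n p hp
  generates := by
    rw [eq_top_iff, ← Cfsg.Agent.S0765.result n, Subgroup.closure_le]
    rintro A ⟨w, c, hA⟩
    have hAeq : A = tv n w c := Subtype.ext hA
    by_cases hw : w = 0
    · rw [hAeq, hw, tv_zero_left]
      exact Subgroup.one_mem _
    · have h1 : TS n w ≤ ⨆ A ∈ SS n (F := F), A :=
        le_iSup₂_of_le (TS n w) (TS_mem_SS n w hw) le_rfl
      exact h1 ⟨c, hAeq⟩
  conj_mem := by
    intro A hA g
    obtain ⟨p, hp, rfl⟩ := (mem_SS n A).mp hA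
    rw [conjBy_TS]
    exact TS_mem_SS n _ (Cfsg.Agent.S0768.mulVec_ne_zero n g p hp)
  pair := by
    intro A hA B hB
    obtain ⟨p, hp, rfl⟩ := (mem_SS n A).mp hA
    obtain ⟨q, hq, rfl⟩ := (mem_SS n B).mp hB
    by_cases hpq : ff p q = 0
    · exact Or.inl (comm_eq_bot_of_orth n p q hpq)
    · exact Or.inr (Or.inl (rank_one_pair n p q hpq))

theorem isConjClass (hn : 0 < n) : Cfsg.IsConjClassOfSubgroups (SS n (F := F)) := by
  classical
  constructor
  · refine ⟨TS n (Pi.single (Sum.inl ⟨0, hn⟩) 1), TS_mem_SS n _ ?_⟩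
    exact ne_zero_of_apply n _ (Sum.inl ⟨0, hn⟩) (by simp)
  · intro A hA B hB
    obtain ⟨p, hp, rfl⟩ := (mem_SS n A).mp hA
    obtain ⟨q, hq, rfl⟩ := (mem_SS n B).mp hB
    obtain ⟨g, hg⟩ := exists_move n p q hp hq
    exact ⟨g, by rw [conjBy_TS, hg]⟩

/-- noncommuting transvections -/
theorem orth_of_comm (r p : V) (hr : r ≠ 0)
    (h : tv n p 1 * tv n r 1 = tv n r 1 * tv n p 1) : ff r p = 0 := by
  have h1 := congrArg (fun g : G => g.1 *ᵥ r) h
  simp only [val_mul, ← Matrix.mulVec_mulVec, tv_act, sf_self, mul_zero, zero_smul, add_zero,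
    one_mul, sf_add_left, sf_smul_left] at h1
  by_contra hne
  have hpr : ff p r = -ff r p := sf_swap n p r
  rw [hpr] at h1
  have h2 : (ff r p * -ff r p) • r = 0 := by
    have := congrArg (fun z => z - (r + ff r p • p)) h1
    simpa using this.symm
  rcases smul_eq_zero.mp h2 with h3 | h3
  · rcases mul_eq_zero.mp h3 with h4 | h4
    · exact hne h4
    · exact hne (neg_eq_zero.mp h4)
  · exact hr h3

/-- the subgroup fixing a vector -/
def fixer (y : V) : Subgroup G where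
  carrier := {g | g.1 *ᵥ y = y}
  one_mem' := by show (1 : G).1 *ᵥ y = y; rw [val_one, Matrix.one_mulVec]
  mul_mem' := by
    intro a b ha hb
    show (a * b).1 *ᵥ y = y
    rw [val_mul, ← Matrix.mulVec_mulVec, hb, ha]
  inv_mem' := by
    intro a ha
    show (a⁻¹).1 *ᵥ y = y
    have h1 : a.1 *ᵥ y = y := ha
    conv_lhs => rw [← h1]
    exact inv_mulVec_mulVec n a y

theorem TS_le_fixer (p y : V) (h : ff y p = 0) : TS n p ≤ fixer n y := by
  rintro _ ⟨c, rfl⟩
  show (tv n p c).1 *ᵥ y = y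
  rw [tv_act, h, mul_zero, zero_smul, add_zero]

theorem isDegenerate : Cfsg.IsDegenerateRootSet (SS n (F := F)) := by
  intro A hA B hB hcase
  obtain ⟨p, hp, rfl⟩ := (mem_SS n A).mp hA
  obtain ⟨q, hq, rfl⟩ := (mem_SS n B).mp hB
  obtain ⟨hmem, hcent, -, -⟩ := hcase
  obtain ⟨r, hr, hreq⟩ := (mem_SS n _).mp hmem
  by_cases hpq : ff p q = 0
  · rw [comm_eq_bot_of_orth n p q hpq] at hreq
    exact TS_ne_bot n r hr hreq.symm
  · have hc0 : tv n r 1 ∈ ⁅TS n p, TS n q⁆ := by rw [hreq]; exact tv_mem_TS n r 1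
    have hrp : ff r p = 0 := by
      apply orth_of_comm n r p hr
      exact (hcent _ hc0 _ (Subgroup.mem_sup_left (tv_mem_TS n p 1))).symm
    have hrq : ff r q = 0 := by
      apply orth_of_comm n r q hr
      exact (hcent _ hc0 _ (Subgroup.mem_sup_right (tv_mem_TS n q 1))).symm
    obtain ⟨y0, hy0⟩ := sf_nondeg_top n r hr
    have hqp : ff q p = -ff p q := sf_swap n q p
    set al : F := ff y0 q / ff p q with hal
    set be : F := ff y0 p / ff q p with hbe
    have hqp0 : ff q p ≠ 0 := by rw [hqp]; exact neg_ne_zero.mpr hpq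
    set y : V := y0 - al • p - be • q with hy
    have hyq : ff y q = 0 := by
      rw [hy, sf_sub_left, sf_sub_left, sf_smul_left, sf_smul_left, sf_self, mul_zero, sub_zero,
        hal, div_mul_cancel₀ _ hpq, sub_self]
    have hyp : ff y p = 0 := by
      rw [hy, sf_sub_left, sf_sub_left, sf_smul_left, sf_smul_left, sf_self, mul_zero, sub_zero,
        hbe, div_mul_cancel₀ _ hqp0, sub_self]
    have hyr : ff y r ≠ 0 := by
      have hpr : ff p r = 0 := by rw [sf_swap, hrp, neg_zero]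
      have hqr : ff q r = 0 := by rw [sf_swap, hrq, neg_zero]
      rw [hy, sf_sub_left, sf_sub_left, sf_smul_left, sf_smul_left, hpr, hqr, mul_zero, mul_zero,
        sub_zero, sub_zero, sf_swap]
      exact neg_ne_zero.mpr hy0
    have hle : ⁅TS n p, TS n q⁆ ≤ fixer n y :=
      le_trans (Subgroup.commutator_mono (TS_le_fixer n p y hyp) (TS_le_fixer n q y hyq))
        (Subgroup.commutator_le_self _)
    have hfix : (tv n r 1).1 *ᵥ y = y := hle hc0
    rw [tv_act, one_mul] at hfix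
    have h2 : (ff y r) • r = 0 := by
      have := congrArg (fun z => z - y) hfix
      simpa using this
    rcases smul_eq_zero.mp h2 with h3 | h3
    · exact hyr h3
    · exact hr h3

theorem exists_mid (p q : V) (hp : p ≠ 0) (hq : q ≠ 0) : ∃ z : V, ff p z ≠ 0 ∧ ff z q ≠ 0 := by
  obtain ⟨y1, hy1⟩ := sf_nondeg_top n p hp
  obtain ⟨y2, hy2⟩ := sf_nondeg_top n q hq
  by_cases h1 : ff q y1 = 0
  · by_cases h2 : ff p y2 = 0
    · refine ⟨y1 + y2, ?_, ?_⟩
      · rw [sf_add_right, h2, add_zero]; exact hy1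
      · rw [sf_swap, sf_add_right, h1, zero_add]; exact neg_ne_zero.mpr hy2
    · refine ⟨y2, h2, ?_⟩
      rw [sf_swap]; exact neg_ne_zero.mpr hy2
  · refine ⟨y1, hy1, ?_⟩
    rw [sf_swap]; exact neg_ne_zero.mpr h1

theorem isConnected : Cfsg.IsConnectedFamily (Cfsg.FAdj (SS n (F := F))) (SS n (F := F)) := by
  intro A hA B hB
  obtain ⟨p, hp, rfl⟩ := (mem_SS n A).mp hA
  obtain ⟨q, hq, rfl⟩ := (mem_SS n B).mp hB
  obtain ⟨z, hpz, hzq⟩ := exists_mid n p q hp hq
  have hz0 : z ≠ 0 := by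
    rintro rfl
    exact hpz (sf_zero_right n p)
  have s1 : Cfsg.FAdj (SS n (F := F)) (TS n p) (TS n z) :=
    ⟨TS_mem_SS n p hp, TS_mem_SS n z hz0, rank_one_pair n p z hpz⟩
  have s2 : Cfsg.FAdj (SS n (F := F)) (TS n z) (TS n q) :=
    ⟨TS_mem_SS n z hz0, TS_mem_SS n q hq, rank_one_pair n z q hzq⟩
  exact Relation.ReflTransGen.head s1 (Relation.ReflTransGen.single s2)

/-- a rank one pair in the family is not orthogonal -/
theorem not_orth_of_rank_one (p q : V) (hp : p ≠ 0)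
    (h : Cfsg.IsRankOnePair (TS n p) (TS n q)) : ff p q ≠ 0 := by
  intro hpq
  have hqp : ff q p = 0 := by rw [sf_swap, hpq, neg_zero]
  obtain ⟨b, hb, -, hconj⟩ := h.cond_left (tv n p 1) (tv_mem_TS n p 1) (tv_ne_one n p hp 1 one_ne_zero)
  obtain ⟨d, rfl⟩ := hb
  rw [conjBy_TS, conjBy_TS, tv_inv, tv_inv, tv_act, tv_act, hpq, hqp, mul_zero, mul_zero, zero_smul,
    zero_smul, add_zero, add_zero] at hconj
  exact h.ne hconj

/-- the action of the `2 × 2` matrix with entries `a b c d` on the hyperbolic plane `⟨p, q⟩` -/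
def LL (p q : V) (a b c d : F) (x : V) : V :=
  x + (ff x q) • ((a - 1) • p + c • q) + (-ff x p) • (b • p + (d - 1) • q)

theorem LL_coord1 (p q : V) (hpq : ff p q = 1) (a b c d : F) (x : V) :
    ff (LL n p q a b c d x) q = a * ff x q + b * (-ff x p) := by
  unfold LL
  simp only [sf_add_left, sf_smul_left, sf_self, hpq]
  ring

theorem LL_coord2 (p q : V) (hpq : ff p q = 1) (a b c d : F) (x : V) :
    -ff (LL n p q a b c d x) p = c * ff x q + d * (-ff x p) := by
  have hqp : ff q p = -1 := by rw [sf_swap, hpq]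
  unfold LL
  simp only [sf_add_left, sf_smul_left, sf_self, hqp]
  ring

theorem LL_comp (p q : V) (hpq : ff p q = 1) (a b c d a' b' c' d' : F) (x : V) :
    LL n p q a b c d (LL n p q a' b' c' d' x) =
      LL n p q (a * a' + b * c') (a * b' + b * d') (c * a' + d * c') (c * b' + d * d') x := by
  have h1 := LL_coord1 n p q hpq a' b' c' d' x
  have h2 := LL_coord2 n p q hpq a' b' c' d' x
  have hout : ∀ y : V, LL n p q a b c d y =
      y + (ff y q) • ((a - 1) • p + c • q) + (-ff y p) • (b • p + (d - 1) • q) := fun _ => rfl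
  rw [hout (LL n p q a' b' c' d' x), h1, h2]
  unfold LL
  ext k
  simp only [Pi.add_apply, Pi.smul_apply, smul_eq_mul]
  ring

theorem LL_one (p q : V) (x : V) : LL n p q 1 0 0 1 x = x := by
  unfold LL
  simp

theorem LL_symp (p q : V) (hpq : ff p q = 1) (a b c d : F) (hdet : a * d - b * c = 1) (x y : V) :
    ff (LL n p q a b c d x) (LL n p q a b c d y) = ff x y := by
  have hqp : ff q p = -1 := by rw [sf_swap, hpq]
  have hpy : ff p y = -ff y p := sf_swap n p y
  have hqy : ff q y = -ff y q := sf_swap n q y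
  unfold LL
  simp only [sf_add_left, sf_add_right, sf_smul_left, sf_smul_right, sf_self, hpq, hqp, hpy, hqy]
  linear_combination (ff x q * (-ff y p) - (-ff x p) * ff y q) * hdet

/-- the matrix of `LL` -/
def NM (p q : V) (a b c d : F) : Matrix (Fin n ⊕ Fin n) (Fin n ⊕ Fin n) F :=
  1 + Matrix.vecMulVec ((a - 1) • p + c • q) (Matrix.J (Fin n) F *ᵥ q) -
    Matrix.vecMulVec (b • p + (d - 1) • q) (Matrix.J (Fin n) F *ᵥ p)

theorem NM_act (p q : V) (a b c d : F) (x : V) : NM n p q a b c d *ᵥ x = LL n p q a b c d x := by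
  unfold NM LL Cfsg.sympForm
  rw [Matrix.sub_mulVec, Matrix.add_mulVec, Matrix.one_mulVec, Matrix.vecMulVec_mulVec,
    Matrix.vecMulVec_mulVec, dotProduct_comm x, dotProduct_comm x]
  ext i
  simp only [Pi.add_apply, Pi.sub_apply, Pi.smul_apply, smul_eq_mul, MulOpposite.smul_eq_mul_unop,
    MulOpposite.unop_op]
  ring

theorem NM_mem (p q : V) (hpq : ff p q = 1) (a b c d : F) (hdet : a * d - b * c = 1) :
    NM n p q a b c d ∈ Matrix.symplecticGroup (Fin n) F := by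
  apply mem_symplectic_of_preserving
  intro x y
  rw [NM_act, NM_act, LL_symp n p q hpq a b c d hdet]

theorem sl2_det (M : Matrix.SpecialLinearGroup (Fin 2) F) :
    M.1 0 0 * M.1 1 1 - M.1 0 1 * M.1 1 0 = 1 := by
  have := M.2
  rw [Matrix.det_fin_two] at this
  exact this

/-- the homomorphism from `SL₂` -/
def phiSL (p q : V) (hpq : ff p q = 1) : Matrix.SpecialLinearGroup (Fin 2) F →* G where
  toFun M := ⟨NM n p q (M.1 0 0) (M.1 0 1) (M.1 1 0) (M.1 1 1),
    NM_mem n p q hpq _ _ _ _ (sl2_det M)⟩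
  map_one' := by
    apply sp_ext
    intro x
    show NM n p q _ _ _ _ *ᵥ x = (1 : G).1 *ᵥ x
    rw [NM_act, val_one, Matrix.one_mulVec]
    simp only [Matrix.SpecialLinearGroup.coe_one, Matrix.one_apply_eq, ne_eq, zero_ne_one,
      not_false_eq_true, Matrix.one_apply_ne, one_ne_zero]
    exact LL_one n p q x
  map_mul' := by
    intro M N
    apply sp_ext
    intro x
    show NM n p q _ _ _ _ *ᵥ x = (NM n p q _ _ _ _ * NM n p q _ _ _ _) *ᵥ x
    rw [← Matrix.mulVec_mulVec, NM_act, NM_act, NM_act, LL_comp n p q hpq]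
    simp only [Matrix.SpecialLinearGroup.coe_mul, Matrix.mul_apply, Fin.sum_univ_two]

theorem phiSL_act (p q : V) (hpq : ff p q = 1) (M : Matrix.SpecialLinearGroup (Fin 2) F) (x : V) :
    (phiSL n p q hpq M).1 *ᵥ x = LL n p q (M.1 0 0) (M.1 0 1) (M.1 1 0) (M.1 1 1) x :=
  NM_act n p q _ _ _ _ x

/-- upper unitriangular -/
def UU (b : F) : Matrix.SpecialLinearGroup (Fin 2) F :=
  ⟨!![1, b; 0, 1], by simp [Matrix.det_fin_two]⟩

/-- lower unitriangular -/
def LO (c : F) : Matrix.SpecialLinearGroup (Fin 2) F :=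
  ⟨!![1, 0; c, 1], by simp [Matrix.det_fin_two]⟩

theorem phiSL_upper (p q : V) (hpq : ff p q = 1) (M : Matrix.SpecialLinearGroup (Fin 2) F)
    (h10 : M.1 1 0 = 0) (h00 : M.1 0 0 = 1) (h11 : M.1 1 1 = 1) :
    phiSL n p q hpq M = tv n p (-(M.1 0 1)) := by
  apply sp_ext
  intro x
  rw [phiSL_act, tv_act, h10, h00, h11]
  unfold LL
  simp only [sub_self, zero_smul, add_zero, smul_zero, smul_smul]
  congr 2
  ring

theorem phiSL_lower (p q : V) (hpq : ff p q = 1) (M : Matrix.SpecialLinearGroup (Fin 2) F)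
    (h01 : M.1 0 1 = 0) (h00 : M.1 0 0 = 1) (h11 : M.1 1 1 = 1) :
    phiSL n p q hpq M = tv n q (M.1 1 0) := by
  apply sp_ext
  intro x
  rw [phiSL_act, tv_act, h01, h00, h11]
  unfold LL
  simp only [sub_self, zero_smul, add_zero, smul_zero, smul_smul, zero_add]
  congr 2
  ring

theorem map_upper (p q : V) (hpq : ff p q = 1) :
    (Cfsg.upperUnipotentSL2 F).map (phiSL n p q hpq) = TS n p := by
  unfold Cfsg.upperUnipotentSL2
  rw [MonoidHom.map_closure]
  have hset : (phiSL n p q hpq) '' {g | (g : Matrix (Fin 2) (Fin 2) F) 1 0 = 0 ∧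
      (g : Matrix (Fin 2) (Fin 2) F) 0 0 = 1 ∧ (g : Matrix (Fin 2) (Fin 2) F) 1 1 = 1} =
      (TS n p : Set G) := by
    ext g
    constructor
    · rintro ⟨M, ⟨h10, h00, h11⟩, rfl⟩
      exact ⟨_, phiSL_upper n p q hpq M h10 h00 h11⟩
    · rintro ⟨c, rfl⟩
      refine ⟨UU (-c), ⟨by simp [UU], by simp [UU], by simp [UU]⟩, ?_⟩
      rw [phiSL_upper n p q hpq (UU (-c)) (by simp [UU]) (by simp [UU]) (by simp [UU])]
      simp [UU]
  rw [hset, Subgroup.closure_eq]

theorem map_lower (p q : V) (hpq : ff p q = 1) :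
    (Cfsg.lowerUnipotentSL2 F).map (phiSL n p q hpq) = TS n q := by
  unfold Cfsg.lowerUnipotentSL2
  rw [MonoidHom.map_closure]
  have hset : (phiSL n p q hpq) '' {g | (g : Matrix (Fin 2) (Fin 2) F) 0 1 = 0 ∧
      (g : Matrix (Fin 2) (Fin 2) F) 0 0 = 1 ∧ (g : Matrix (Fin 2) (Fin 2) F) 1 1 = 1} =
      (TS n q : Set G) := by
    ext g
    constructor
    · rintro ⟨M, ⟨h01, h00, h11⟩, rfl⟩
      exact ⟨_, phiSL_lower n p q hpq M h01 h00 h11⟩
    · rintro ⟨c, rfl⟩
      refine ⟨LO c, ⟨by simp [LO], by simp [LO], by simp [LO]⟩, ?_⟩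
      rw [phiSL_lower n p q hpq (LO c) (by simp [LO]) (by simp [LO]) (by simp [LO])]
      simp [LO]
  rw [hset, Subgroup.closure_eq]

theorem sl2_decomp (M : Matrix.SpecialLinearGroup (Fin 2) F) (hc : M.1 1 0 ≠ 0) :
    M = UU ((M.1 0 0 - 1) / M.1 1 0) * LO (M.1 1 0) * UU ((M.1 1 1 - 1) / M.1 1 0) := by
  have hdet := sl2_det M
  have hM : M.1 = !![M.1 0 0, M.1 0 1; M.1 1 0, M.1 1 1] := Matrix.eta_fin_two M.1
  apply Subtype.ext
  show M.1 = !![1, _; 0, 1] * !![1, 0; _, 1] * !![1, _; 0, 1]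
  rw [Matrix.mul_fin_two, Matrix.mul_fin_two]
  conv_lhs => rw [hM]
  have h01 : M.1 0 1 = (M.1 0 0 * M.1 1 1 - 1) / M.1 1 0 := by
    field_simp
    linear_combination (-1 : F) * hdet
  rw [h01]
  have e1 : (1 * 1 + (M.1 0 0 - 1) / M.1 1 0 * M.1 1 0) * 1 +
      (1 * 0 + (M.1 0 0 - 1) / M.1 1 0 * 1) * 0 = M.1 0 0 := by
    field_simp; ring
  have e2 : (1 * 1 + (M.1 0 0 - 1) / M.1 1 0 * M.1 1 0) * ((M.1 1 1 - 1) / M.1 1 0) +
      (1 * 0 + (M.1 0 0 - 1) / M.1 1 0 * 1) * 1 = (M.1 0 0 * M.1 1 1 - 1) / M.1 1 0 := by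
    field_simp; ring
  have e3 : (0 * 1 + 1 * M.1 1 0) * 1 + (0 * 0 + 1 * 1) * 0 = M.1 1 0 := by ring
  have e4 : (0 * 1 + 1 * M.1 1 0) * ((M.1 1 1 - 1) / M.1 1 0) + (0 * 0 + 1 * 1) * 1 =
      M.1 1 1 := by
    field_simp; ring
  rw [e1, e2, e3, e4]

theorem phiSL_mem_sup (p q : V) (hpq : ff p q = 1) (M : Matrix.SpecialLinearGroup (Fin 2) F) :
    phiSL n p q hpq M ∈ TS n p ⊔ TS n q := by
  have hU : ∀ b, phiSL n p q hpq (UU b) ∈ TS n p ⊔ TS n q := by
    intro b
    apply Subgroup.mem_sup_left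
    rw [phiSL_upper n p q hpq (UU b) (by simp [UU]) (by simp [UU]) (by simp [UU])]
    exact tv_mem_TS n p _
  have hL : ∀ c, phiSL n p q hpq (LO c) ∈ TS n p ⊔ TS n q := by
    intro c
    apply Subgroup.mem_sup_right
    rw [phiSL_lower n p q hpq (LO c) (by simp [LO]) (by simp [LO]) (by simp [LO])]
    exact tv_mem_TS n q _
  have key : ∀ M : Matrix.SpecialLinearGroup (Fin 2) F, M.1 1 0 ≠ 0 →
      phiSL n p q hpq M ∈ TS n p ⊔ TS n q := by
    intro M hc
    rw [sl2_decomp M hc, map_mul, map_mul]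
    exact Subgroup.mul_mem _ (Subgroup.mul_mem _ (hU _) (hL _)) (hU _)
  by_cases hc : M.1 1 0 = 0
  · have hdet := sl2_det M
    have ha : M.1 0 0 ≠ 0 := by
      intro h0
      rw [h0, hc] at hdet
      simp at hdet
    have h1 : (LO 1 * M).1 1 0 ≠ 0 := by
      have : (LO 1 * M).1 1 0 = M.1 0 0 + M.1 1 0 := by
        show ((LO (1 : F)).1 * M.1) 1 0 = _
        simp [LO, Matrix.mul_apply, Fin.sum_univ_two]
      rw [this, hc, add_zero]
      exact ha
    have h2 := key (LO 1 * M) h1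
    rw [map_mul] at h2
    have h3 := Subgroup.mul_mem _ (Subgroup.inv_mem _ (hL 1)) h2
    rwa [inv_mul_cancel_left] at h3
  · exact key M hc

theorem phiSL_range (p q : V) (hpq : ff p q = 1) : (phiSL n p q hpq).range = TS n p ⊔ TS n q := by
  apply le_antisymm
  · rintro _ ⟨M, rfl⟩
    exact phiSL_mem_sup n p q hpq M
  · apply sup_le
    · rw [← map_upper n p q hpq]
      exact Subgroup.map_le_range _ _
    · rw [← map_lower n p q hpq]
      exact Subgroup.map_le_range _ _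

theorem phiSL_ker (p q : V) (hpq : ff p q = 1) : (phiSL n p q hpq).ker = ⊥ := by
  have hqp : ff q p = -1 := by rw [sf_swap, hpq]
  rw [eq_bot_iff]
  intro M hM
  rw [MonoidHom.mem_ker] at hM
  have h1 := congrArg (fun g : G => g.1 *ᵥ p) hM
  have h2 := congrArg (fun g : G => g.1 *ᵥ q) hM
  simp only [phiSL_act, val_one, Matrix.one_mulVec] at h1 h2
  unfold LL at h1 h2
  rw [hpq, sf_self, neg_zero, zero_smul, add_zero, one_smul] at h1
  rw [hqp, sf_self, zero_smul, add_zero, neg_neg, one_smul] at h2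
  have e1 : (M.1 0 0 - 1) • p + M.1 1 0 • q = 0 := by
    have := congrArg (fun z => z - p) h1
    simpa using this
  have e2 : M.1 0 1 • p + (M.1 1 1 - 1) • q = 0 := by
    have := congrArg (fun z => z - q) h2
    simpa using this
  have a1 : M.1 0 0 - 1 = 0 := by
    have := congrArg (fun z => ff z q) e1
    simpa [sf_add_left, sf_smul_left, sf_self, hpq, sf_zero_left] using this
  have c1 : M.1 1 0 = 0 := by
    have := congrArg (fun z => ff z p) e1
    simpa [sf_add_left, sf_smul_left, sf_self, hqp, sf_zero_left] using this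
  have b1 : M.1 0 1 = 0 := by
    have := congrArg (fun z => ff z q) e2
    simpa [sf_add_left, sf_smul_left, sf_self, hpq, sf_zero_left] using this
  have d1 : M.1 1 1 - 1 = 0 := by
    have := congrArg (fun z => ff z p) e2
    simp only [sf_add_left, sf_smul_left, sf_self, hqp, sf_zero_left, mul_zero, zero_add] at this
    linear_combination (-1 : F) * this
  rw [Subgroup.mem_bot]
  apply Matrix.SpecialLinearGroup.ext
  intro i j
  fin_cases i <;> fin_cases j
  · simpa using sub_eq_zero.mp a1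
  · simpa using b1
  · simpa using c1
  · simpa using sub_eq_zero.mp d1

theorem isPSL2Pair (p q : V) (hpq : ff p q ≠ 0) : Cfsg.IsPSL2PairOver F (TS n p) (TS n q) := by
  set q' : V := (ff p q)⁻¹ • q with hq'
  have hpq' : ff p q' = 1 := by
    rw [hq', sf_smul_right, inv_mul_cancel₀ hpq]
  have hTS : TS n q' = TS n q := TS_smul n _ (inv_ne_zero hpq) q
  refine ⟨phiSL n p q' hpq', ?_, ?_, ?_, ?_⟩
  · rw [phiSL_range, hTS]
  · rw [phiSL_ker]
    exact bot_le
  · exact map_upper n p q' hpq'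
  · rw [map_lower, hTS]

theorem isKRoot : Cfsg.IsKRootSubgroupSet F (SS n (F := F)) := by
  refine ⟨isRootSubgroupSet n, ?_⟩
  intro A hA B hB hAB
  obtain ⟨p, hp, rfl⟩ := (mem_SS n A).mp hA
  obtain ⟨q, hq, rfl⟩ := (mem_SS n B).mp hB
  exact isPSL2Pair n p q (not_orth_of_rank_one n p q hp hAB)

end

/-- Let F be a field, m a natural number and V = F^{2(m+1)} with the standard non-degenerate alternating form f(u, v) = uᵀ J v. For a non-zero vector p let T(p) be the group of symplectic transvections v ↦ v + c f(v, p) p, c ∈ F. Then the subgroups T(p), p ≠ 0, generate the symplectic group Sp_{2(m+1)}(F) and form a degenerate class of abstract F-root subgroups of it (any two of them either commute elementwise or are the unipotent subgroups of a rank one group that is an image of SL₂(F) with central kernel, never the commutator case), and their graph of rank one pairs is connected. -/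
theorem result (F : Type*) [Field F] (m : ℕ) :
    Cfsg.IsRootSubgroupClass {A : Subgroup ↥(Matrix.symplecticGroup (Fin (m + 1)) F) | ∃ p : Fin (m + 1) ⊕ Fin (m + 1) → F, p ≠ 0 ∧
        A = Subgroup.closure {g : ↥(Matrix.symplecticGroup (Fin (m + 1)) F) | ∃ c : F, ∀ v : Fin (m + 1) ⊕ Fin (m + 1) → F,
          (g : Matrix (Fin (m + 1) ⊕ Fin (m + 1)) (Fin (m + 1) ⊕ Fin (m + 1)) F) *ᵥ v =
            v + (c * (v ⬝ᵥ (Matrix.J (Fin (m + 1)) F *ᵥ p))) • p}} ∧
    Cfsg.IsDegenerateRootSet {A : Subgroup ↥(Matrix.symplecticGroup (Fin (m + 1)) F) | ∃ p : Fin (m + 1) ⊕ Fin (m + 1) → F, p ≠ 0 ∧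
        A = Subgroup.closure {g : ↥(Matrix.symplecticGroup (Fin (m + 1)) F) | ∃ c : F, ∀ v : Fin (m + 1) ⊕ Fin (m + 1) → F,
          (g : Matrix (Fin (m + 1) ⊕ Fin (m + 1)) (Fin (m + 1) ⊕ Fin (m + 1)) F) *ᵥ v =
            v + (c * (v ⬝ᵥ (Matrix.J (Fin (m + 1)) F *ᵥ p))) • p}} ∧
    Cfsg.IsKRootSubgroupSet F {A : Subgroup ↥(Matrix.symplecticGroup (Fin (m + 1)) F) | ∃ p : Fin (m + 1) ⊕ Fin (m + 1) → F, p ≠ 0 ∧
        A = Subgroup.closure {g : ↥(Matrix.symplecticGroup (Fin (m + 1)) F) | ∃ c : F, ∀ v : Fin (m + 1) ⊕ Fin (m + 1) → F,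
          (g : Matrix (Fin (m + 1) ⊕ Fin (m + 1)) (Fin (m + 1) ⊕ Fin (m + 1)) F) *ᵥ v =
            v + (c * (v ⬝ᵥ (Matrix.J (Fin (m + 1)) F *ᵥ p))) • p}} ∧
    Cfsg.IsConnectedFamily (Cfsg.FAdj {A : Subgroup ↥(Matrix.symplecticGroup (Fin (m + 1)) F) | ∃ p : Fin (m + 1) ⊕ Fin (m + 1) → F, p ≠ 0 ∧
        A = Subgroup.closure {g : ↥(Matrix.symplecticGroup (Fin (m + 1)) F) | ∃ c : F, ∀ v : Fin (m + 1) ⊕ Fin (m + 1) → F,
          (g : Matrix (Fin (m + 1) ⊕ Fin (m + 1)) (Fin (m + 1) ⊕ Fin (m + 1)) F) *ᵥ v =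
            v + (c * (v ⬝ᵥ (Matrix.J (Fin (m + 1)) F *ᵥ p))) • p}})
      {A : Subgroup ↥(Matrix.symplecticGroup (Fin (m + 1)) F) | ∃ p : Fin (m + 1) ⊕ Fin (m + 1) → F, p ≠ 0 ∧
        A = Subgroup.closure {g : ↥(Matrix.symplecticGroup (Fin (m + 1)) F) | ∃ c : F, ∀ v : Fin (m + 1) ⊕ Fin (m + 1) → F,
          (g : Matrix (Fin (m + 1) ⊕ Fin (m + 1)) (Fin (m + 1) ⊕ Fin (m + 1)) F) *ᵥ v =
            v + (c * (v ⬝ᵥ (Matrix.J (Fin (m + 1)) F *ᵥ p))) • p}} := by
  exact ⟨⟨isRootSubgroupSet (m + 1), isConjClass (m + 1) (Nat.succ_pos m)⟩, isDegenerate (m + 1),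
    isKRoot (m + 1), isConnected (m + 1)⟩

end Cfsg.Agent.S5070
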