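import Cfsg.Statements.S5071
import Cfsg.Agent.Lib.Helper11.UnitaryTv
import Cfsg.Agent.Lib.Helper51.Hyper
import Cfsg.Agent.S5070

set_option autoImplicit false
open Matrix
open Cfsg

namespace Cfsg.Agent.S5071

open Cfsg.Agent.Lib.Helper19 Cfsg.Agent.Lib.Helper11.UnitaryTv

/-! ### general group theory -/

section general
variable {H : Type*} [Group H]

theorem mem_conjBy (A : Subgroup H) (g z : H) : z ∈ Cfsg.conjBy A g ↔ g⁻¹ * z * g ∈ A := by
  unfold Cfsg.conjBy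
  rw [Subgroup.mem_map]
  constructor
  · rintro ⟨y, hy, rfl⟩
    simpa [mul_assoc] using hy
  · intro h
    exact ⟨g⁻¹ * z * g, h, by simp [mul_assoc]⟩

theorem conjBy_conjBy (A : Subgroup H) (x y : H) :
    Cfsg.conjBy (Cfsg.conjBy A x) y = Cfsg.conjBy A (y * x) := by
  ext z
  rw [mem_conjBy, mem_conjBy, mem_conjBy]
  have : x⁻¹ * (y⁻¹ * z * y) * x = (y * x)⁻¹ * z * (y * x) := by group
  rw [this]

theorem conjBy_one (A : Subgroup H) : Cfsg.conjBy A 1 = A := by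
  ext z
  rw [mem_conjBy]
  simp

theorem conjBy_of_centralizes (A : Subgroup H) (g : H) (h : ∀ a ∈ A, g * a = a * g) :
    Cfsg.conjBy A g = A := by
  ext z
  rw [mem_conjBy]
  constructor
  · intro hz
    have h1 := h _ hz
    have h2 : g * (g⁻¹ * z * g) = z * g := by group
    rw [h2] at h1
    have h3 : z = g⁻¹ * z * g := mul_right_cancel h1
    rw [h3]
    exact hz
  · intro hz
    have h1 := h z hz
    have : g⁻¹ * z * g = z := by
      rw [mul_assoc, ← h1, ← mul_assoc, inv_mul_cancel, one_mul]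
    rw [this]
    exact hz

/-- a rank one pair is conjugate inside the group it generates -/
theorem conj_of_rank_one (A B : Subgroup H) (h : Cfsg.IsRankOnePair A B) (hA : A ≠ ⊥) :
    ∃ g ∈ A ⊔ B, B = Cfsg.conjBy A g := by
  obtain ⟨⟨a, ha⟩, ha1'⟩ := (Subgroup.ne_bot_iff_exists_ne_one).mp hA
  have ha1 : a ≠ 1 := fun h => ha1' (Subtype.ext h)
  obtain ⟨b, hb, -, hconj⟩ := h.cond_left a ha ha1
  refine ⟨a * b⁻¹, Subgroup.mul_mem _ (Subgroup.mem_sup_left ha)
    (Subgroup.inv_mem _ (Subgroup.mem_sup_right hb)), ?_⟩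
  rw [← conjBy_conjBy, hconj, conjBy_conjBy, mul_inv_cancel, conjBy_one]

/-- commuting subgroups are not a rank one pair -/
theorem not_rank_one_of_comm (A B : Subgroup H) (hA : A ≠ ⊥)
    (hc : ∀ a ∈ A, ∀ b ∈ B, a * b = b * a) : ¬ Cfsg.IsRankOnePair A B := by
  intro h
  obtain ⟨⟨a, ha⟩, ha1'⟩ := (Subgroup.ne_bot_iff_exists_ne_one).mp hA
  have ha1 : a ≠ 1 := fun h => ha1' (Subtype.ext h)
  obtain ⟨b, hb, -, hconj⟩ := h.cond_left a ha ha1
  rw [conjBy_of_centralizes A b⁻¹, conjBy_of_centralizes B a⁻¹] at hconj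
  · exact h.ne hconj
  · intro b' hb'
    have := hc a ha b' hb'
    rw [inv_mul_eq_iff_eq_mul, ← mul_assoc, this, mul_assoc, mul_inv_cancel, mul_one]
  · intro a' ha'
    have := hc a' ha' b hb
    rw [inv_mul_eq_iff_eq_mul, ← mul_assoc, ← this, mul_assoc, mul_inv_cancel, mul_one]

theorem nilpotent_of_comm (A : Subgroup H) (hA : IsMulCommutative A) : Group.IsNilpotent ↥A := by
  let _ : CommGroup ↥A :=
    { (inferInstance : Group ↥A) with
      mul_comm := hA.is_comm.comm }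
  exact CommGroup.isNilpotent

theorem subgroupOf_comm (K A : Subgroup H) (hA : IsMulCommutative A) :
    IsMulCommutative (A.subgroupOf K) :=
  ⟨⟨by
    rintro ⟨x, hx⟩ ⟨y, hy⟩
    apply Subtype.ext
    apply Subtype.ext
    have := hA.is_comm.comm ⟨x.1, hx⟩ ⟨y.1, hy⟩
    show x.1 * y.1 = y.1 * x.1
    exact congrArg Subtype.val this⟩⟩

theorem subgroupOf_ne_bot (K A : Subgroup H) (hAK : A ≤ K) (hA : A ≠ ⊥) :
    A.subgroupOf K ≠ ⊥ := by
  intro h
  apply hA
  rw [Subgroup.subgroupOf_eq_bot] at h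
  rw [eq_bot_iff]
  intro x hx
  exact h.le_bot (Subgroup.mem_inf.mpr ⟨hx, hAK hx⟩)

theorem conjBy_subgroupOf (K A : Subgroup H) (g : K) :
    Cfsg.conjBy (A.subgroupOf K) g = (Cfsg.conjBy A g.1).subgroupOf K := by
  ext z
  rw [mem_conjBy, Subgroup.mem_subgroupOf, Subgroup.mem_subgroupOf, mem_conjBy]
  rfl

theorem subgroupOf_inj' (K A B : Subgroup H) (hA : A ≤ K) (hB : B ≤ K)
    (h : A.subgroupOf K = B.subgroupOf K) : A = B := by
  ext x
  constructor
  · intro hx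
    have h1 : (⟨x, hA hx⟩ : K) ∈ A.subgroupOf K := hx
    rw [h] at h1
    exact h1
  · intro hx
    have h1 : (⟨x, hB hx⟩ : K) ∈ B.subgroupOf K := hx
    rw [← h] at h1
    exact h1

theorem commutator_le_of_le (K A B : Subgroup H) (hA : A ≤ K) (hB : B ≤ K) : ⁅A, B⁆ ≤ K :=
  (Subgroup.commutator_mono hA hB).trans (Subgroup.commutator_le_self K)

theorem commutator_subgroupOf (K A B : Subgroup H) (hA : A ≤ K) (hB : B ≤ K) :
    ⁅A.subgroupOf K, B.subgroupOf K⁆ = ⁅A, B⁆.subgroupOf K := by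
  apply Subgroup.map_injective K.subtype_injective
  rw [Subgroup.map_commutator, Subgroup.map_subgroupOf_eq_of_le hA,
    Subgroup.map_subgroupOf_eq_of_le hB,
    Subgroup.map_subgroupOf_eq_of_le (commutator_le_of_le K A B hA hB)]

theorem rankOneCond_subgroupOf (K A B : Subgroup H) (hBK : B ≤ K)
    (h : Cfsg.RankOneCondition A B) :
    Cfsg.RankOneCondition (A.subgroupOf K) (B.subgroupOf K) := by
  intro a ha ha1
  obtain ⟨b, hb, hb1, hconj⟩ := h a.1 ha (fun e => ha1 (Subtype.ext e))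
  refine ⟨⟨b, hBK hb⟩, hb, fun e => hb1 (congrArg Subtype.val e), ?_⟩
  rw [conjBy_subgroupOf, conjBy_subgroupOf]
  show (Cfsg.conjBy A (b⁻¹)).subgroupOf K = (Cfsg.conjBy B (a.1⁻¹)).subgroupOf K
  rw [hconj]

theorem rankOne_subgroupOf (K A B : Subgroup H) (hAK : A ≤ K) (hBK : B ≤ K)
    (hAc : IsMulCommutative A) (hBc : IsMulCommutative B) (h : Cfsg.IsRankOnePair A B) :
    Cfsg.IsRankOnePair (A.subgroupOf K) (B.subgroupOf K) :=
  ⟨fun e => h.ne (subgroupOf_inj' K A B hAK hBK e),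
    nilpotent_of_comm _ (subgroupOf_comm K A hAc), nilpotent_of_comm _ (subgroupOf_comm K B hBc),
    rankOneCond_subgroupOf K A B hBK h.cond_left, rankOneCond_subgroupOf K B A hAK h.cond_right⟩

theorem psl2_subgroupOf (k : Type*) [Field k] (K A B : Subgroup H) (hAK : A ≤ K) (hBK : B ≤ K)
    (h : Cfsg.IsPSL2PairOver k A B) :
    Cfsg.IsPSL2PairOver k (A.subgroupOf K) (B.subgroupOf K) := by
  obtain ⟨φ, hr, hk, hu, hl⟩ := h
  have hmem : ∀ x, φ x ∈ K := fun x => (sup_le hAK hBK) (hr ▸ ⟨x, rfl⟩)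
  have hcomp : K.subtype.comp (φ.codRestrict K hmem) = φ := rfl
  refine ⟨φ.codRestrict K hmem, ?_, ?_, ?_, ?_⟩
  · apply Subgroup.map_injective K.subtype_injective
    rw [MonoidHom.range_eq_map, Subgroup.map_map, hcomp, Subgroup.map_sup,
      Subgroup.map_subgroupOf_eq_of_le hAK, Subgroup.map_subgroupOf_eq_of_le hBK, ← hr,
      MonoidHom.range_eq_map]
  · rw [MonoidHom.ker_codRestrict]
    exact hk
  · apply Subgroup.map_injective K.subtype_injective
    rw [Subgroup.map_map, hcomp, Subgroup.map_subgroupOf_eq_of_le hAK, hu]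
  · apply Subgroup.map_injective K.subtype_injective
    rw [Subgroup.map_map, hcomp, Subgroup.map_subgroupOf_eq_of_le hBK, hl]

theorem iSup_subgroupOf_eq_top (S : Set (Subgroup H)) :
    (⨆ A ∈ (fun A : Subgroup H => A.subgroupOf (⨆ B ∈ S, B)) '' S, A) = ⊤ := by
  rw [iSup_image]
  apply Subgroup.map_injective (⨆ B ∈ S, B).subtype_injective
  rw [Subgroup.map_iSup]
  simp_rw [Subgroup.map_iSup]
  have : ∀ A, ∀ (_ : A ∈ S), (A.subgroupOf (⨆ B ∈ S, B)).map (⨆ B ∈ S, B).subtype = A :=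
    fun A hA => Subgroup.map_subgroupOf_eq_of_le (le_iSup₂ (f := fun (B : Subgroup H) (_ : B ∈ S) => B) A hA)
  rw [iSup_congr fun A => iSup_congr fun hA => this A hA, ← MonoidHom.range_eq_map,
    Subgroup.range_subtype]

end general

/-! ### the transvection groups inside `SU` -/

section su
variable {F : Type*} [Field F] [Fintype F] (q N : ℕ)

local notation "V" => (Fin N → F)
local notation "hh" => Cfsg.hermForm N F q
local notation "G" => (Cfsg.SU N F q)

open Polynomial in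
theorem exists_not_fixed (hF : Fintype.card F = q ^ 2) : ∃ z : F, z ^ q ≠ z := by
  classical
  have hq : 1 < q := one_lt_q hF
  by_contra hcon
  push Not at hcon
  let P : F[X] := X ^ q - X
  have hP : P ≠ 0 := FiniteField.X_pow_card_sub_X_ne_zero F hq
  have hdeg : P.natDegree = q := FiniteField.X_pow_card_sub_X_natDegree_eq F hq
  have hsub : (Finset.univ : Finset F) ⊆ P.roots.toFinset := by
    intro z _
    rw [Multiset.mem_toFinset, mem_roots hP]
    simp [P, sub_eq_zero, hcon z]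
  have h1 := Finset.card_le_card hsub
  have h2 : P.roots.toFinset.card ≤ q :=
    calc P.roots.toFinset.card ≤ Multiset.card P.roots := Multiset.toFinset_card_le _
      _ ≤ P.natDegree := card_roots' P
      _ = q := hdeg
  rw [Finset.card_univ, hF] at h1
  nlinarith

theorem sub_pow_q (hF : Fintype.card F = q ^ 2) (a b : F) : (a - b) ^ q = a ^ q - b ^ q := by
  rw [← frobQ_apply hF, map_sub, frobQ_apply, frobQ_apply]

/-- a non-zero element of trace zero -/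
theorem exists_eps (hF : Fintype.card F = q ^ 2) : ∃ ε : F, ε ≠ 0 ∧ ε + ε ^ q = 0 := by
  obtain ⟨z, hz⟩ := exists_not_fixed q hF
  refine ⟨z - z ^ q, fun h => hz (sub_eq_zero.mp h).symm, ?_⟩
  rw [sub_pow_q q hF, pow_q_pow_q hF]
  ring

open Polynomial in
/-- the trace is not identically zero -/
theorem exists_tr_ne (hF : Fintype.card F = q ^ 2) : ∃ z : F, z + z ^ q ≠ 0 := by
  classical
  have hq : 1 < q := one_lt_q hF
  by_contra hcon
  push Not at hcon
  let P : F[X] := X ^ q + X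
  have hdeg : P.natDegree = q := by
    simp only [P]
    rw [natDegree_add_eq_left_of_natDegree_lt]
    · simp
    · simpa using hq
  have hP : P ≠ 0 := by
    intro h
    rw [h, natDegree_zero] at hdeg
    omega
  have hsub : (Finset.univ : Finset F) ⊆ P.roots.toFinset := by
    intro z _
    rw [Multiset.mem_toFinset, mem_roots hP]
    simp only [P, IsRoot, eval_add, eval_pow, eval_X]
    rw [add_comm]
    exact hcon z
  have h1 := Finset.card_le_card hsub
  have h2 : P.roots.toFinset.card ≤ q :=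
    calc P.roots.toFinset.card ≤ Multiset.card P.roots := Multiset.toFinset_card_le _
      _ ≤ P.natDegree := card_roots' P
      _ = q := hdeg
  rw [Finset.card_univ, hF] at h1
  nlinarith

/-- the trace is onto the fixed field -/
theorem exists_tr_eq (hF : Fintype.card F = q ^ 2) (η : F) (hη : η ^ q = η) :
    ∃ β : F, β + β ^ q = η := by
  obtain ⟨θ, hθ⟩ := exists_tr_ne q hF
  have hτ : (θ + θ ^ q) ^ q = θ + θ ^ q := by
    rw [add_pow_q hF, pow_q_pow_q hF, add_comm]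
  refine ⟨η * θ / (θ + θ ^ q), ?_⟩
  rw [div_pow, mul_pow, hτ, hη]
  field_simp

theorem hf_swap_zero (hF : Fintype.card F = q ^ 2) (x y : V) (h : hh x y = 0) : hh y x = 0 := by
  rw [← hermForm_conj hF, h, zero_pow (q_pos hF).ne']

theorem hf_swap_ne (hF : Fintype.card F = q ^ 2) (x y : V) (h : hh x y ≠ 0) : hh y x ≠ 0 :=
  fun h' => h (hf_swap_zero q N hF y x h')

theorem TU_comm (hF : Fintype.card F = q ^ 2) (p : V) (hp0 : p ≠ 0) (hp : hh p p = 0) :
    IsMulCommutative (TU q N p) :=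
  ⟨⟨by
    rintro ⟨x, hx⟩ ⟨y, hy⟩
    obtain ⟨a, ha, rfl⟩ := (mem_TU q N hF p hp0 hp x).mp hx
    obtain ⟨b, hb, rfl⟩ := (mem_TU q N hF p hp0 hp y).mp hy
    apply Subtype.ext
    show ut q N p a * ut q N p b = ut q N p b * ut q N p a
    rw [ut_mul q N hF p a b hp ha hb, ut_mul q N hF p b a hp hb ha, add_comm]⟩⟩

theorem TU_ne_bot (hF : Fintype.card F = q ^ 2) (p : V) (hp0 : p ≠ 0) (hp : hh p p = 0) :
    TU q N p ≠ ⊥ := by
  intro h
  obtain ⟨ε, hε0, hε⟩ := exists_eps q hF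
  have h1 : ut q N p ε ∈ TU q N p := ut_mem_TU q N hF p hp0 hp ε hε
  rw [h, Subgroup.mem_bot] at h1
  exact ut_ne_one q N hF p hp0 hp ε hε hε0 h1

theorem comm_of_orth (hF : Fintype.card F = q ^ 2) (p p' : V) (hp0 : p ≠ 0) (hp : hh p p = 0)
    (hp'0 : p' ≠ 0) (hp' : hh p' p' = 0) (horth : hh p p' = 0) :
    ∀ x ∈ TU q N p, ∀ y ∈ TU q N p', x * y = y * x := by
  intro x hx y hy
  obtain ⟨a, ha, rfl⟩ := (mem_TU q N hF p hp0 hp x).mp hx
  obtain ⟨b, hb, rfl⟩ := (mem_TU q N hF p' hp'0 hp' y).mp hy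
  exact ut_comm_of_orth q N hF p p' a b hp hp' ha hb horth

theorem comm_eq_bot_of_orth (hF : Fintype.card F = q ^ 2) (p p' : V) (hp0 : p ≠ 0)
    (hp : hh p p = 0) (hp'0 : p' ≠ 0) (hp' : hh p' p' = 0) (horth : hh p p' = 0) :
    ⁅TU q N p, TU q N p'⁆ = ⊥ := by
  rw [Subgroup.commutator_eq_bot_iff_le_centralizer]
  intro x hx
  rw [Subgroup.mem_centralizer_iff]
  intro y hy
  exact (comm_of_orth q N hF p p' hp0 hp hp'0 hp' horth x hx y hy).symm

theorem TU_ne_of (hF : Fintype.card F = q ^ 2) (p p' : V) (hp0 : p ≠ 0) (hp : hh p p = 0)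
    (hp'0 : p' ≠ 0) (hp' : hh p' p' = 0) (hne : hh p p' ≠ 0) : TU q N p ≠ TU q N p' := by
  intro h
  obtain ⟨ε, hε0, hε⟩ := exists_eps q hF
  have h1 : ut q N p' ε ∈ TU q N p := by rw [h]; exact ut_mem_TU q N hF p' hp'0 hp' ε hε
  obtain ⟨c, hc, hceq⟩ := (mem_TU q N hF p hp0 hp _).mp h1
  have h2 := congrArg (fun g : G => g.1.1 *ᵥ p) hceq
  simp only [ut_act q N hF p' ε hp' hε, ut_act q N hF p c hp hc, hp, mul_zero, zero_smul,
    add_zero] at h2
  have h3 : (ε * hh p p') • p' = 0 := by simpa using h2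
  rcases smul_eq_zero.mp h3 with h4 | h4
  · exact (mul_ne_zero hε0 hne) h4
  · exact hp'0 h4

theorem rank_one_cond (hF : Fintype.card F = q ^ 2) (p p' : V) (hp0 : p ≠ 0) (hp : hh p p = 0)
    (hp'0 : p' ≠ 0) (hp' : hh p' p' = 0) (hne : hh p p' ≠ 0) :
    Cfsg.RankOneCondition (TU q N p) (TU q N p') := by
  intro x hx hx1
  obtain ⟨α, hα, rfl⟩ := (mem_TU q N hF p hp0 hp x).mp hx
  have hα0 : α ≠ 0 := by
    rintro rfl
    exact hx1 (ut_zero q N hF p hp)
  obtain ⟨φ, hφ⟩ : ∃ φ : F, φ = hh p p' := ⟨_, rfl⟩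
  have hφ0 : φ ≠ 0 := by rw [hφ]; exact hne
  have hφ' : hh p' p = φ ^ q := by rw [hφ, hermForm_conj hF]
  have hφq0 : φ ^ q ≠ 0 := pow_ne_zero _ hφ0
  obtain ⟨β, hβ⟩ : ∃ β : F, β = (φ * φ ^ q)⁻¹ * α⁻¹ := ⟨_, rfl⟩
  have hβtz : β + β ^ q = 0 := by
    rw [hβ]
    exact tz_mul_fixed q _ _ (tz_inv q hF α hα) (by rw [inv_pow, nrm_fixed q hF])
  have hβ0 : β ≠ 0 := by
    rw [hβ]
    exact mul_ne_zero (inv_ne_zero (mul_ne_zero hφ0 hφq0)) (inv_ne_zero hα0)
  refine ⟨ut q N p' β, ut_mem_TU q N hF p' hp'0 hp' β hβtz,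
    ut_ne_one q N hF p' hp'0 hp' β hβtz hβ0, ?_⟩
  have hv'0 := mulVec_ne_zero q N (ut q N p α)⁻¹ p' hp'0
  have hv' : hh (((ut q N p α)⁻¹).1.1 *ᵥ p') (((ut q N p α)⁻¹).1.1 *ᵥ p') = 0 := by
    rw [hf_act, hp']
  have e : ((ut q N p' β)⁻¹).1.1 *ᵥ p = (-(β * φ)) • (((ut q N p α)⁻¹).1.1 *ᵥ p') := by
    rw [ut_inv q N hF p' β hp' hβtz, ut_inv q N hF p α hp hα,
      ut_act q N hF p' (-β) hp' (tz_neg q hF β hβtz), ut_act q N hF p (-α) hp (tz_neg q hF α hα),
      ← hφ, hφ', smul_add, smul_smul]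
    have h1 : -(β * φ) * (-α * φ ^ q) = 1 := by
      rw [hβ]
      field_simp
    rw [h1, one_smul, add_comm, neg_mul]
  rw [TU_conj q N hF p hp0 hp, TU_conj q N hF p' hp'0 hp', e]
  exact TU_smul q N hF _ (neg_ne_zero.mpr (mul_ne_zero hβ0 hφ0)) _ hv'0 hv'

theorem rank_one_pair (hF : Fintype.card F = q ^ 2) (p p' : V) (hp0 : p ≠ 0) (hp : hh p p = 0)
    (hp'0 : p' ≠ 0) (hp' : hh p' p' = 0) (hne : hh p p' ≠ 0) :
    Cfsg.IsRankOnePair (TU q N p) (TU q N p') :=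
  ⟨TU_ne_of q N hF p p' hp0 hp hp'0 hp' hne,
    nilpotent_of_comm _ (TU_comm q N hF p hp0 hp), nilpotent_of_comm _ (TU_comm q N hF p' hp'0 hp'),
    rank_one_cond q N hF p p' hp0 hp hp'0 hp' hne,
    rank_one_cond q N hF p' p hp'0 hp' hp0 hp (hf_swap_ne q N hF p p' hne)⟩

theorem hf_sub_right (hF : Fintype.card F = q ^ 2) (x y y' : V) :
    hh x (y - y') = hh x y - hh x y' := by
  have h1 : y - y' = y + (-1 : F) • y' := by rw [neg_one_smul, sub_eq_add_neg]
  rw [h1, hermForm_add_right hF, hermForm_smul_right, neg_pow_q q hF, one_pow]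
  ring

/-- an isotropic vector not orthogonal to two given orthogonal isotropic vectors -/
theorem exists_mid (hF : Fintype.card F = q ^ 2) (p p' : V) (hp0 : p ≠ 0) (hp : hh p p = 0)
    (hp'0 : p' ≠ 0) (horth : hh p p' = 0) :
    ∃ z : V, z ≠ 0 ∧ hh z z = 0 ∧ hh p z ≠ 0 ∧ hh z p' ≠ 0 := by
  obtain ⟨y1, hy1⟩ := exists_hf_ne q N p hp0
  obtain ⟨y2, hy2⟩ := exists_hf_ne q N p' hp'0
  obtain ⟨w, hw1, hw2⟩ : ∃ w : V, hh w p ≠ 0 ∧ hh w p' ≠ 0 := by
    by_cases h1 : hh y1 p' = 0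
    · by_cases h2 : hh y2 p = 0
      · refine ⟨y1 + y2, ?_, ?_⟩
        · rw [hermForm_add_left, h2, add_zero]; exact hy1
        · rw [hermForm_add_left, h1, zero_add]; exact hy2
      · exact ⟨y2, h2, hy2⟩
    · exact ⟨y1, hy1, h1⟩
  have hη : (-(hh w w)) ^ q = -(hh w w) := by rw [neg_pow_q q hF, hermForm_conj hF]
  obtain ⟨β, hβ⟩ := exists_tr_eq q hF _ hη
  have haq0 : (hh w p) ^ q ≠ 0 := pow_ne_zero _ hw1
  obtain ⟨μ, hμ⟩ : ∃ μ : F, μ = β / (hh w p) ^ q := ⟨_, rfl⟩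
  have hpw : hh p w = (hh w p) ^ q := (hermForm_conj hF w p).symm
  have hzp : hh (w + μ • p) p = hh w p := by
    rw [hermForm_add_left, hermForm_smul_left, hp, mul_zero, add_zero]
  have hzp' : hh (w + μ • p) p' = hh w p' := by
    rw [hermForm_add_left, hermForm_smul_left, horth, mul_zero, add_zero]
  refine ⟨w + μ • p, ?_, ?_, ?_, ?_⟩
  · intro h0
    rw [h0, hf_zero_left] at hzp
    exact hw1 hzp.symm
  · rw [hermForm_add_left, hermForm_add_right hF, hermForm_add_right hF, hermForm_smul_left,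
      hermForm_smul_left, hermForm_smul_right, hermForm_smul_right, hp, hpw]
    have e1 : μ * (hh w p) ^ q = β := by rw [hμ]; field_simp
    have e2 : μ ^ q * hh w p = β ^ q := by
      rw [← e1, mul_pow, pow_q_pow_q hF]
    rw [e1, e2]
    linear_combination hβ
  · apply hf_swap_ne q N hF
    rw [hzp]
    exact hw1
  · rw [hzp']
    exact hw2

/-- noncommuting transvections -/
theorem orth_of_comm (hF : Fintype.card F = q ^ 2) (r p : V) (hr0 : r ≠ 0) (hr : hh r r = 0)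
    (hp : hh p p = 0) (ε : F) (hε0 : ε ≠ 0) (hε : ε + ε ^ q = 0)
    (h : ut q N p ε * ut q N r ε = ut q N r ε * ut q N p ε) : hh r p = 0 := by
  have h1 := congrArg (fun g : G => g.1.1 *ᵥ r) h
  simp only [val_mul, ← Matrix.mulVec_mulVec, ut_act q N hF r ε hr hε, ut_act q N hF p ε hp hε, hr,
    mul_zero, zero_smul, add_zero, hermForm_add_left, hermForm_smul_left] at h1
  by_contra hne
  have hne' : hh p r ≠ 0 := hf_swap_ne q N hF r p hne
  have h2 : (ε * (ε * hh r p * hh p r)) • r = 0 := by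
    have := congrArg (fun z => z - (r + (ε * hh r p) • p)) h1
    simpa using this.symm
  rcases smul_eq_zero.mp h2 with h3 | h3
  · exact (mul_ne_zero hε0 (mul_ne_zero (mul_ne_zero hε0 hne) hne')) h3
  · exact hr0 h3

/-- the subgroup fixing a vector -/
def fixer (y : V) : Subgroup G where
  carrier := {g | g.1.1 *ᵥ y = y}
  one_mem' := by show (1 : G).1.1 *ᵥ y = y; rw [val_one, Matrix.one_mulVec]
  mul_mem' := by
    intro a b ha hb
    show (a * b).1.1 *ᵥ y = y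
    rw [val_mul, ← Matrix.mulVec_mulVec, hb, ha]
  inv_mem' := by
    intro a ha
    show (a⁻¹).1.1 *ᵥ y = y
    have h1 : a.1.1 *ᵥ y = y := ha
    conv_lhs => rw [← h1]
    exact inv_mulVec_mulVec q N a y

theorem TU_le_fixer (hF : Fintype.card F = q ^ 2) (p y : V) (hp0 : p ≠ 0) (hp : hh p p = 0)
    (h : hh y p = 0) : TU q N p ≤ fixer q N y := by
  intro x hx
  obtain ⟨a, ha, rfl⟩ := (mem_TU q N hF p hp0 hp x).mp hx
  show (ut q N p a).1.1 *ᵥ y = y
  rw [ut_act q N hF p a hp ha, h, mul_zero, zero_smul, add_zero]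

/-- the commutator case never occurs -/
theorem no_comm_case (hF : Fintype.card F = q ^ 2) (p p' r : V) (hp0 : p ≠ 0) (hp : hh p p = 0)
    (hp'0 : p' ≠ 0) (hp' : hh p' p' = 0) (hr0 : r ≠ 0) (hr : hh r r = 0)
    (heq : TU q N r = ⁅TU q N p, TU q N p'⁆)
    (hc1 : ∀ c ∈ TU q N r, ∀ x ∈ TU q N p, c * x = x * c)
    (hc2 : ∀ c ∈ TU q N r, ∀ x ∈ TU q N p', c * x = x * c) : False := by
  obtain ⟨ε, hε0, hε⟩ := exists_eps q hF
  by_cases hpp : hh p p' = 0
  · rw [comm_eq_bot_of_orth q N hF p p' hp0 hp hp'0 hp' hpp] at heq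
    exact TU_ne_bot q N hF r hr0 hr heq
  · have hp'p : hh p' p ≠ 0 := hf_swap_ne q N hF p p' hpp
    have hmr : ut q N r ε ∈ TU q N r := ut_mem_TU q N hF r hr0 hr ε hε
    have hrp : hh r p = 0 :=
      orth_of_comm q N hF r p hr0 hr hp ε hε0 hε
        (hc1 _ hmr _ (ut_mem_TU q N hF p hp0 hp ε hε)).symm
    have hrp' : hh r p' = 0 :=
      orth_of_comm q N hF r p' hr0 hr hp' ε hε0 hε
        (hc2 _ hmr _ (ut_mem_TU q N hF p' hp'0 hp' ε hε)).symm
    have hpr : hh p r = 0 := hf_swap_zero q N hF r p hrp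
    have hp'r : hh p' r = 0 := hf_swap_zero q N hF r p' hrp'
    obtain ⟨y0, hy0⟩ := exists_hf_ne q N r hr0
    obtain ⟨al, hal⟩ : ∃ al : F, al = hh y0 p' / hh p p' := ⟨_, rfl⟩
    obtain ⟨be, hbe⟩ : ∃ be : F, be = hh y0 p / hh p' p := ⟨_, rfl⟩
    obtain ⟨y, hy⟩ : ∃ y : V, y = y0 - al • p - be • p' := ⟨_, rfl⟩
    have hyp' : hh y p' = 0 := by
      rw [hy, hf_sub_left, hf_sub_left, hermForm_smul_left, hermForm_smul_left, hp', mul_zero,
        sub_zero, hal, div_mul_cancel₀ _ hpp, sub_self]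
    have hyp : hh y p = 0 := by
      rw [hy, hf_sub_left, hf_sub_left, hermForm_smul_left, hermForm_smul_left, hp, mul_zero,
        sub_zero, hbe, div_mul_cancel₀ _ hp'p, sub_self]
    have hyr : hh y r ≠ 0 := by
      rw [hy, hf_sub_left, hf_sub_left, hermForm_smul_left, hermForm_smul_left, hpr, hp'r,
        mul_zero, mul_zero, sub_zero, sub_zero]
      exact hy0
    have hle : ⁅TU q N p, TU q N p'⁆ ≤ fixer q N y :=
      le_trans (Subgroup.commutator_mono (TU_le_fixer q N hF p y hp0 hp hyp)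
        (TU_le_fixer q N hF p' y hp'0 hp' hyp')) (Subgroup.commutator_le_self _)
    have hfix : (ut q N r ε).1.1 *ᵥ y = y := hle (heq ▸ hmr)
    rw [ut_act q N hF r ε hr hε] at hfix
    have h2 : (ε * hh y r) • r = 0 := by simpa using hfix
    rcases smul_eq_zero.mp h2 with h3 | h3
    · exact (mul_ne_zero hε0 hyr) h3
    · exact hr0 h3

end su

/-! ### the homomorphism from `SL₂` -/

section sl2
variable {F : Type*} [Field F] [Fintype F] (q N : ℕ) {L : Type*} [Field L]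

local notation "V" => (Fin N → F)
local notation "hh" => Cfsg.hermForm N F q
local notation "G" => (Cfsg.SU N F q)

/-- the data of a hyperbolic pair, a trace zero element and the embedding of the fixed field -/
structure HypPair (ι : L →+* F) (p p' : Fin N → F) (ε : F) : Prop where
  hF : Fintype.card F = q ^ 2
  hp0 : p ≠ 0
  hp : Cfsg.hermForm N F q p p = 0
  hp'0 : p' ≠ 0
  hp' : Cfsg.hermForm N F q p' p' = 0
  h1 : Cfsg.hermForm N F q p p' = 1
  h1' : Cfsg.hermForm N F q p' p = 1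
  hε0 : ε ≠ 0
  hε : ε + ε ^ q = 0
  hι : ∀ l, (ι l) ^ q = ι l
  hιs : ∀ x : F, x ^ q = x → ∃ l, ι l = x

/-- the action of the `2 × 2` matrix with entries `A B C D` on the hyperbolic plane `⟨p, p'⟩` -/
def LLu (p p' : V) (A B C D : F) (x : V) : V :=
  x + hh x p' • ((A - 1) • p + C • p') + hh x p • (B • p + (D - 1) • p')

omit [Fintype F] in
theorem LLu_coord1 (p p' : V) (hp' : hh p' p' = 0) (h1 : hh p p' = 1) (A B C D : F) (x : V) :
    hh (LLu q N p p' A B C D x) p' = A * hh x p' + B * hh x p := by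
  unfold LLu
  simp only [hermForm_add_left, hermForm_smul_left, hp', h1]
  ring

omit [Fintype F] in
theorem LLu_coord2 (p p' : V) (hp : hh p p = 0) (h1' : hh p' p = 1) (A B C D : F) (x : V) :
    hh (LLu q N p p' A B C D x) p = C * hh x p' + D * hh x p := by
  unfold LLu
  simp only [hermForm_add_left, hermForm_smul_left, hp, h1']
  ring

omit [Fintype F] in
theorem LLu_comp (p p' : V) (hp : hh p p = 0) (hp' : hh p' p' = 0) (h1 : hh p p' = 1)
    (h1' : hh p' p = 1) (A B C D A' B' C' D' : F) (x : V) :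
    LLu q N p p' A B C D (LLu q N p p' A' B' C' D' x) =
      LLu q N p p' (A * A' + B * C') (A * B' + B * D') (C * A' + D * C') (C * B' + D * D') x := by
  have e1 := LLu_coord1 q N p p' hp' h1 A' B' C' D' x
  have e2 := LLu_coord2 q N p p' hp h1' A' B' C' D' x
  have hout : ∀ y : V, LLu q N p p' A B C D y =
      y + hh y p' • ((A - 1) • p + C • p') + hh y p • (B • p + (D - 1) • p') := fun _ => rfl
  rw [hout (LLu q N p p' A' B' C' D' x), e1, e2]
  unfold LLu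
  ext k
  simp only [Pi.add_apply, Pi.smul_apply, smul_eq_mul]
  ring

omit [Fintype F] in
theorem LLu_one (p p' : V) (x : V) : LLu q N p p' 1 0 0 1 x = x := by
  unfold LLu
  simp

/-- the matrix of `LLu` -/
def NMu (p p' : V) (A B C D : F) : Matrix (Fin N) (Fin N) F :=
  1 + Matrix.vecMulVec ((A - 1) • p + C • p') (fun j => p' j ^ q) +
    Matrix.vecMulVec (B • p + (D - 1) • p') (fun j => p j ^ q)

omit [Fintype F] in
theorem dot_eq (p x : V) : (fun j => p j ^ q) ⬝ᵥ x = hh x p := by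
  unfold dotProduct Cfsg.hermForm
  apply Finset.sum_congr rfl
  intro j _
  ring

omit [Fintype F] in
theorem NMu_act (p p' : V) (A B C D : F) (x : V) :
    NMu q N p p' A B C D *ᵥ x = LLu q N p p' A B C D x := by
  unfold NMu LLu
  rw [Matrix.add_mulVec, Matrix.add_mulVec, Matrix.one_mulVec, Matrix.vecMulVec_mulVec,
    Matrix.vecMulVec_mulVec, dot_eq, dot_eq]
  ext i
  simp only [Pi.add_apply, Pi.smul_apply, smul_eq_mul, MulOpposite.smul_eq_mul_unop,
    MulOpposite.unop_op]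
  ring

/-- the matrix attached to an element of `SL₂(L)` -/
def phi0 (ι : L →+* F) (p p' : V) (ε : F) (M : Matrix.SpecialLinearGroup (Fin 2) L) :
    Matrix (Fin N) (Fin N) F :=
  NMu q N p p' (ι (M.1 0 0)) (ι (M.1 0 1) * ε) (ι (M.1 1 0) * ε⁻¹) (ι (M.1 1 1))

omit [Fintype F] in
theorem phi0_act (ι : L →+* F) (p p' : V) (ε : F) (M : Matrix.SpecialLinearGroup (Fin 2) L)
    (x : V) : phi0 q N ι p p' ε M *ᵥ x =
      LLu q N p p' (ι (M.1 0 0)) (ι (M.1 0 1) * ε) (ι (M.1 1 0) * ε⁻¹) (ι (M.1 1 1)) x :=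
  NMu_act q N p p' _ _ _ _ x

omit [Fintype F] in
theorem phi0_one (ι : L →+* F) (p p' : V) (ε : F) : phi0 q N ι p p' ε 1 = 1 := by
  apply mat_ext
  intro x
  rw [phi0_act, Matrix.one_mulVec]
  simp only [Matrix.SpecialLinearGroup.coe_one, Matrix.one_apply_eq, ne_eq, zero_ne_one,
    not_false_eq_true, Matrix.one_apply_ne, one_ne_zero, map_one, map_zero, zero_mul]
  exact LLu_one q N p p' x

theorem phi0_mul (ι : L →+* F) (p p' : V) (ε : F) (h : HypPair q N ι p p' ε)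
    (M M' : Matrix.SpecialLinearGroup (Fin 2) L) :
    phi0 q N ι p p' ε (M * M') = phi0 q N ι p p' ε M * phi0 q N ι p p' ε M' := by
  have hε0 := h.hε0
  apply mat_ext
  intro x
  rw [← Matrix.mulVec_mulVec, phi0_act, phi0_act, phi0_act,
    LLu_comp q N p p' h.hp h.hp' h.h1 h.h1']
  have e00 : (M * M').1 0 0 = M.1 0 0 * M'.1 0 0 + M.1 0 1 * M'.1 1 0 := by
    show (M.1 * M'.1) 0 0 = _
    simp [Matrix.mul_apply, Fin.sum_univ_two]
  have e01 : (M * M').1 0 1 = M.1 0 0 * M'.1 0 1 + M.1 0 1 * M'.1 1 1 := by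
    show (M.1 * M'.1) 0 1 = _
    simp [Matrix.mul_apply, Fin.sum_univ_two]
  have e10 : (M * M').1 1 0 = M.1 1 0 * M'.1 0 0 + M.1 1 1 * M'.1 1 0 := by
    show (M.1 * M'.1) 1 0 = _
    simp [Matrix.mul_apply, Fin.sum_univ_two]
  have e11 : (M * M').1 1 1 = M.1 1 0 * M'.1 0 1 + M.1 1 1 * M'.1 1 1 := by
    show (M.1 * M'.1) 1 1 = _
    simp [Matrix.mul_apply, Fin.sum_univ_two]
  rw [e00, e01, e10, e11]
  simp only [map_add, map_mul]
  have f00 : ι (M.1 0 0) * ι (M'.1 0 0) + ι (M.1 0 1) * ι (M'.1 1 0) =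
      ι (M.1 0 0) * ι (M'.1 0 0) + ι (M.1 0 1) * ε * (ι (M'.1 1 0) * ε⁻¹) := by
    field_simp
  have f01 : (ι (M.1 0 0) * ι (M'.1 0 1) + ι (M.1 0 1) * ι (M'.1 1 1)) * ε =
      ι (M.1 0 0) * (ι (M'.1 0 1) * ε) + ι (M.1 0 1) * ε * ι (M'.1 1 1) := by
    ring
  have f10 : (ι (M.1 1 0) * ι (M'.1 0 0) + ι (M.1 1 1) * ι (M'.1 1 0)) * ε⁻¹ =
      ι (M.1 1 0) * ε⁻¹ * ι (M'.1 0 0) + ι (M.1 1 1) * (ι (M'.1 1 0) * ε⁻¹) := by
    ring
  have f11 : ι (M.1 1 0) * ι (M'.1 0 1) + ι (M.1 1 1) * ι (M'.1 1 1) =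
      ι (M.1 1 0) * ε⁻¹ * (ι (M'.1 0 1) * ε) + ι (M.1 1 1) * ι (M'.1 1 1) := by
    field_simp
  rw [f00, f01, f10, f11]

theorem phi0_upper (ι : L →+* F) (p p' : V) (ε : F) (h : HypPair q N ι p p' ε)
    (M : Matrix.SpecialLinearGroup (Fin 2) L)
    (h10 : M.1 1 0 = 0) (h00 : M.1 0 0 = 1) (h11 : M.1 1 1 = 1) :
    phi0 q N ι p p' ε M = (ut q N p (ι (M.1 0 1) * ε)).1.1 := by
  apply mat_ext
  intro x
  rw [phi0_act, ut_act q N h.hF p _ h.hp (tz_mul_fixed q ε _ h.hε (h.hι _)), h10, h00, h11]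
  unfold LLu
  simp only [map_one, map_zero, sub_self, zero_smul, add_zero, smul_zero, smul_smul, zero_mul]
  congr 2
  ring

theorem phi0_lower (ι : L →+* F) (p p' : V) (ε : F) (h : HypPair q N ι p p' ε)
    (M : Matrix.SpecialLinearGroup (Fin 2) L)
    (h01 : M.1 0 1 = 0) (h00 : M.1 0 0 = 1) (h11 : M.1 1 1 = 1) :
    phi0 q N ι p p' ε M = (ut q N p' (ι (M.1 1 0) * ε⁻¹)).1.1 := by
  apply mat_ext
  intro x
  rw [phi0_act, ut_act q N h.hF p' _ h.hp' (tz_mul_fixed q ε⁻¹ _ (tz_inv q h.hF ε h.hε) (h.hι _)),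
    h01, h00, h11]
  unfold LLu
  simp only [map_one, map_zero, sub_self, zero_smul, add_zero, smul_zero, smul_smul, zero_mul,
    zero_add]
  congr 2
  ring

open Cfsg.Agent.S5070 in
theorem LO_neg_mul : (LO (-1 : L)) * LO 1 = 1 := by
  apply Subtype.ext
  show (!![1, 0; -1, 1] : Matrix (Fin 2) (Fin 2) L) * !![1, 0; 1, 1] = 1
  rw [Matrix.mul_fin_two, Matrix.one_fin_two]
  simp

open Cfsg.Agent.S5070 in
theorem exists_lift (ι : L →+* F) (p p' : V) (ε : F) (h : HypPair q N ι p p' ε)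
    (M : Matrix.SpecialLinearGroup (Fin 2) L) :
    ∃ g : G, g ∈ TU q N p ⊔ TU q N p' ∧ g.1.1 = phi0 q N ι p p' ε M := by
  have hU : ∀ b : L, ∃ g : G, g ∈ TU q N p ⊔ TU q N p' ∧ g.1.1 = phi0 q N ι p p' ε (UU b) := by
    intro b
    refine ⟨ut q N p (ι ((UU b).1 0 1) * ε), Subgroup.mem_sup_left
      (ut_mem_TU q N h.hF p h.hp0 h.hp _ (tz_mul_fixed q ε _ h.hε (h.hι _))), ?_⟩
    exact (phi0_upper q N ι p p' ε h (UU b) (by simp [UU]) (by simp [UU]) (by simp [UU])).symm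
  have hL : ∀ c : L, ∃ g : G, g ∈ TU q N p ⊔ TU q N p' ∧ g.1.1 = phi0 q N ι p p' ε (LO c) := by
    intro c
    refine ⟨ut q N p' (ι ((LO c).1 1 0) * ε⁻¹), Subgroup.mem_sup_right
      (ut_mem_TU q N h.hF p' h.hp'0 h.hp' _
        (tz_mul_fixed q ε⁻¹ _ (tz_inv q h.hF ε h.hε) (h.hι _))), ?_⟩
    exact (phi0_lower q N ι p p' ε h (LO c) (by simp [LO]) (by simp [LO]) (by simp [LO])).symm
  have hmul : ∀ M M' : Matrix.SpecialLinearGroup (Fin 2) L,
      (∃ g : G, g ∈ TU q N p ⊔ TU q N p' ∧ g.1.1 = phi0 q N ι p p' ε M) →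
      (∃ g : G, g ∈ TU q N p ⊔ TU q N p' ∧ g.1.1 = phi0 q N ι p p' ε M') →
      ∃ g : G, g ∈ TU q N p ⊔ TU q N p' ∧ g.1.1 = phi0 q N ι p p' ε (M * M') := by
    rintro M M' ⟨g, hg, e⟩ ⟨g', hg', e'⟩
    exact ⟨g * g', Subgroup.mul_mem _ hg hg', by rw [val_mul, e, e', phi0_mul q N ι p p' ε h]⟩
  have key : ∀ M : Matrix.SpecialLinearGroup (Fin 2) L, M.1 1 0 ≠ 0 →
      ∃ g : G, g ∈ TU q N p ⊔ TU q N p' ∧ g.1.1 = phi0 q N ι p p' ε M := by
    intro M hc
    rw [sl2_decomp M hc]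
    exact hmul _ _ (hmul _ _ (hU _) (hL _)) (hU _)
  by_cases hc : M.1 1 0 = 0
  · have hdet := sl2_det M
    have ha : M.1 0 0 ≠ 0 := by
      intro h0
      rw [h0, hc] at hdet
      simp at hdet
    have h1 : (LO 1 * M).1 1 0 ≠ 0 := by
      have : (LO 1 * M).1 1 0 = M.1 0 0 + M.1 1 0 := by
        show ((LO (1 : L)).1 * M.1) 1 0 = _
        simp [LO, Matrix.mul_apply, Fin.sum_univ_two]
      rw [this, hc, add_zero]
      exact ha
    have h2 : M = LO (-1) * (LO 1 * M) := by rw [← mul_assoc, LO_neg_mul, one_mul]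
    rw [h2]
    exact hmul _ _ (hL _) (key _ h1)
  · exact key M hc

/-- the homomorphism from `SL₂(L)` -/
noncomputable def phi (ι : L →+* F) (p p' : V) (ε : F) (h : HypPair q N ι p p' ε) :
    Matrix.SpecialLinearGroup (Fin 2) L →* G where
  toFun M := (exists_lift q N ι p p' ε h M).choose
  map_one' := by
    apply Subtype.ext
    apply Subtype.ext
    rw [(exists_lift q N ι p p' ε h 1).choose_spec.2, phi0_one]
    rfl
  map_mul' := by
    intro M M'
    apply Subtype.ext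
    apply Subtype.ext
    rw [(exists_lift q N ι p p' ε h (M * M')).choose_spec.2, phi0_mul q N ι p p' ε h]
    show _ = (exists_lift q N ι p p' ε h M).choose.1.1 * (exists_lift q N ι p p' ε h M').choose.1.1
    rw [(exists_lift q N ι p p' ε h M).choose_spec.2, (exists_lift q N ι p p' ε h M').choose_spec.2]

theorem phi_mem (ι : L →+* F) (p p' : V) (ε : F) (h : HypPair q N ι p p' ε)
    (M : Matrix.SpecialLinearGroup (Fin 2) L) :
    phi q N ι p p' ε h M ∈ TU q N p ⊔ TU q N p' :=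
  (exists_lift q N ι p p' ε h M).choose_spec.1

theorem phi_val (ι : L →+* F) (p p' : V) (ε : F) (h : HypPair q N ι p p' ε)
    (M : Matrix.SpecialLinearGroup (Fin 2) L) :
    (phi q N ι p p' ε h M).1.1 = phi0 q N ι p p' ε M :=
  (exists_lift q N ι p p' ε h M).choose_spec.2

theorem phi_upper (ι : L →+* F) (p p' : V) (ε : F) (h : HypPair q N ι p p' ε)
    (M : Matrix.SpecialLinearGroup (Fin 2) L)
    (h10 : M.1 1 0 = 0) (h00 : M.1 0 0 = 1) (h11 : M.1 1 1 = 1) :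
    phi q N ι p p' ε h M = ut q N p (ι (M.1 0 1) * ε) := by
  apply Subtype.ext
  apply Subtype.ext
  rw [phi_val, phi0_upper q N ι p p' ε h M h10 h00 h11]

theorem phi_lower (ι : L →+* F) (p p' : V) (ε : F) (h : HypPair q N ι p p' ε)
    (M : Matrix.SpecialLinearGroup (Fin 2) L)
    (h01 : M.1 0 1 = 0) (h00 : M.1 0 0 = 1) (h11 : M.1 1 1 = 1) :
    phi q N ι p p' ε h M = ut q N p' (ι (M.1 1 0) * ε⁻¹) := by
  apply Subtype.ext
  apply Subtype.ext
  rw [phi_val, phi0_lower q N ι p p' ε h M h01 h00 h11]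

open Cfsg.Agent.S5070 in
theorem phi_map_upper (ι : L →+* F) (p p' : V) (ε : F) (h : HypPair q N ι p p' ε) :
    (Cfsg.upperUnipotentSL2 L).map (phi q N ι p p' ε h) = TU q N p := by
  unfold Cfsg.upperUnipotentSL2
  rw [MonoidHom.map_closure]
  have hset : (phi q N ι p p' ε h) '' {g | (g : Matrix (Fin 2) (Fin 2) L) 1 0 = 0 ∧
      (g : Matrix (Fin 2) (Fin 2) L) 0 0 = 1 ∧ (g : Matrix (Fin 2) (Fin 2) L) 1 1 = 1} =
      (TU q N p : Set G) := by
    ext g
    constructor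
    · rintro ⟨M, ⟨h10, h00, h11⟩, rfl⟩
      rw [phi_upper q N ι p p' ε h M h10 h00 h11]
      exact ut_mem_TU q N h.hF p h.hp0 h.hp _ (tz_mul_fixed q ε _ h.hε (h.hι _))
    · intro hg
      obtain ⟨a, ha, rfl⟩ := (mem_TU q N h.hF p h.hp0 h.hp g).mp hg
      have hfix : (a / ε) ^ q = a / ε := by
        rw [div_pow, tz_pow q a ha, tz_pow q ε h.hε, neg_div_neg_eq]
      obtain ⟨b, hb⟩ := h.hιs _ hfix
      refine ⟨UU b, ⟨by simp [UU], by simp [UU], by simp [UU]⟩, ?_⟩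
      rw [phi_upper q N ι p p' ε h (UU b) (by simp [UU]) (by simp [UU]) (by simp [UU])]
      have : ι ((UU b).1 0 1) * ε = a := by
        have h01 : (UU b).1 0 1 = b := by simp [UU]
        rw [h01, hb, div_mul_cancel₀ _ h.hε0]
      rw [this]
  rw [hset, Subgroup.closure_eq]

open Cfsg.Agent.S5070 in
theorem phi_map_lower (ι : L →+* F) (p p' : V) (ε : F) (h : HypPair q N ι p p' ε) :
    (Cfsg.lowerUnipotentSL2 L).map (phi q N ι p p' ε h) = TU q N p' := by
  unfold Cfsg.lowerUnipotentSL2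
  rw [MonoidHom.map_closure]
  have hε' : ε⁻¹ + (ε⁻¹) ^ q = 0 := tz_inv q h.hF ε h.hε
  have hset : (phi q N ι p p' ε h) '' {g | (g : Matrix (Fin 2) (Fin 2) L) 0 1 = 0 ∧
      (g : Matrix (Fin 2) (Fin 2) L) 0 0 = 1 ∧ (g : Matrix (Fin 2) (Fin 2) L) 1 1 = 1} =
      (TU q N p' : Set G) := by
    ext g
    constructor
    · rintro ⟨M, ⟨h01, h00, h11⟩, rfl⟩
      rw [phi_lower q N ι p p' ε h M h01 h00 h11]
      exact ut_mem_TU q N h.hF p' h.hp'0 h.hp' _ (tz_mul_fixed q ε⁻¹ _ hε' (h.hι _))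
    · intro hg
      obtain ⟨a, ha, rfl⟩ := (mem_TU q N h.hF p' h.hp'0 h.hp' g).mp hg
      have hfix : (a * ε) ^ q = a * ε := by
        rw [mul_pow, tz_pow q a ha, tz_pow q ε h.hε, neg_mul_neg]
      obtain ⟨c, hc⟩ := h.hιs _ hfix
      refine ⟨LO c, ⟨by simp [LO], by simp [LO], by simp [LO]⟩, ?_⟩
      rw [phi_lower q N ι p p' ε h (LO c) (by simp [LO]) (by simp [LO]) (by simp [LO])]
      have : ι ((LO c).1 1 0) * ε⁻¹ = a := by
        have h10 : (LO c).1 1 0 = c := by simp [LO]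
        rw [h10, hc, mul_assoc, mul_inv_cancel₀ h.hε0, mul_one]
      rw [this]
  rw [hset, Subgroup.closure_eq]

theorem phi_range (ι : L →+* F) (p p' : V) (ε : F) (h : HypPair q N ι p p' ε) :
    (phi q N ι p p' ε h).range = TU q N p ⊔ TU q N p' := by
  apply le_antisymm
  · rintro _ ⟨M, rfl⟩
    exact phi_mem q N ι p p' ε h M
  · apply sup_le
    · rw [← phi_map_upper q N ι p p' ε h]
      exact Subgroup.map_le_range _ _
    · rw [← phi_map_lower q N ι p p' ε h]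
      exact Subgroup.map_le_range _ _

theorem phi_ker (ι : L →+* F) (p p' : V) (ε : F) (h : HypPair q N ι p p' ε) :
    (phi q N ι p p' ε h).ker = ⊥ := by
  rw [eq_bot_iff]
  intro M hM
  rw [MonoidHom.mem_ker] at hM
  have hM0 : phi0 q N ι p p' ε M = 1 := by
    rw [← phi_val q N ι p p' ε h, hM]
    rfl
  have k1 := congrArg (fun A : Matrix (Fin N) (Fin N) F => A *ᵥ p) hM0
  have k2 := congrArg (fun A : Matrix (Fin N) (Fin N) F => A *ᵥ p') hM0
  simp only [phi0_act, Matrix.one_mulVec] at k1 k2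
  unfold LLu at k1 k2
  rw [h.h1, h.hp, zero_smul, add_zero, one_smul] at k1
  rw [h.h1', h.hp', zero_smul, add_zero, one_smul] at k2
  have e1 : (ι (M.1 0 0) - 1) • p + (ι (M.1 1 0) * ε⁻¹) • p' = 0 := by
    have := congrArg (fun z => z - p) k1
    simpa using this
  have e2 : (ι (M.1 0 1) * ε) • p + (ι (M.1 1 1) - 1) • p' = 0 := by
    have := congrArg (fun z => z - p') k2
    simpa using this
  have a1 : ι (M.1 0 0) - 1 = 0 := by
    have := congrArg (fun z => hh z p') e1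
    simpa [hermForm_add_left, hermForm_smul_left, h.hp', h.h1, hf_zero_left] using this
  have c1 : ι (M.1 1 0) * ε⁻¹ = 0 := by
    have := congrArg (fun z => hh z p) e1
    simpa [hermForm_add_left, hermForm_smul_left, h.hp, h.h1', hf_zero_left] using this
  have b1 : ι (M.1 0 1) * ε = 0 := by
    have := congrArg (fun z => hh z p') e2
    simpa [hermForm_add_left, hermForm_smul_left, h.hp', h.h1, hf_zero_left] using this
  have d1 : ι (M.1 1 1) - 1 = 0 := by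
    have := congrArg (fun z => hh z p) e2
    simpa [hermForm_add_left, hermForm_smul_left, h.hp, h.h1', hf_zero_left] using this
  have hinj := ι.injective
  have a2 : M.1 0 0 = 1 := hinj (by rw [map_one]; exact sub_eq_zero.mp a1)
  have d2 : M.1 1 1 = 1 := hinj (by rw [map_one]; exact sub_eq_zero.mp d1)
  have c2 : M.1 1 0 = 0 := by
    apply hinj
    rw [map_zero]
    rcases mul_eq_zero.mp c1 with h3 | h3
    · exact h3
    · exact absurd h3 (inv_ne_zero h.hε0)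
  have b2 : M.1 0 1 = 0 := by
    apply hinj
    rw [map_zero]
    rcases mul_eq_zero.mp b1 with h3 | h3
    · exact h3
    · exact absurd h3 h.hε0
  rw [Subgroup.mem_bot]
  apply Matrix.SpecialLinearGroup.ext
  intro i j
  fin_cases i <;> fin_cases j
  · simpa using a2
  · simpa using b2
  · simpa using c2
  · simpa using d2

theorem isPSL2Pair_of_hyp (ι : L →+* F) (p p' : V) (ε : F) (h : HypPair q N ι p p' ε) :
    Cfsg.IsPSL2PairOver L (TU q N p) (TU q N p') := by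
  refine ⟨phi q N ι p p' ε h, phi_range q N ι p p' ε h, ?_, phi_map_upper q N ι p p' ε h,
    phi_map_lower q N ι p p' ε h⟩
  rw [phi_ker]
  exact bot_le

end sl2

/-! ### the family inside the group it generates -/

section final
variable {F : Type*} [Field F] [Fintype F] (q N : ℕ)

local notation "V" => (Fin N → F)
local notation "hh" => Cfsg.hermForm N F q
local notation "G" => (Cfsg.SU N F q)

/-- the family of transvection groups, as in the statement -/
def SS0 : Set (Subgroup G) :=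
  {A : Subgroup G | ∃ p : Fin N → F, p ≠ 0 ∧ Cfsg.hermForm N F q p p = 0 ∧
    A = Subgroup.closure {g : G |
      (∀ v : Fin N → F, ∃ c : F, g.1.1 *ᵥ v = v + c • p) ∧
      ∀ v : Fin N → F, Cfsg.hermForm N F q v p = 0 → g.1.1 *ᵥ v = v}}

theorem mem_SS0 (A : Subgroup G) :
    A ∈ SS0 q N (F := F) ↔ ∃ p : V, p ≠ 0 ∧ hh p p = 0 ∧ A = TU q N p := Iff.rfl

/-- the subgroup generated by the family -/
def GG0 : Subgroup G := ⨆ B ∈ SS0 q N (F := F), B

/-- the family viewed inside the group it generates -/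
def SS : Set (Subgroup (GG0 q N (F := F))) :=
  (fun A : Subgroup G => A.subgroupOf (⨆ B ∈ SS0 q N (F := F), B)) '' SS0 q N (F := F)

theorem TU_mem_SS0 (p : V) (hp0 : p ≠ 0) (hp : hh p p = 0) : TU q N p ∈ SS0 q N (F := F) :=
  ⟨p, hp0, hp, rfl⟩

theorem TU_le (p : V) (hp0 : p ≠ 0) (hp : hh p p = 0) : TU q N p ≤ GG0 q N (F := F) :=
  le_iSup₂ (f := fun (B : Subgroup G) (_ : B ∈ SS0 q N (F := F)) => B) (TU q N p)
    (TU_mem_SS0 q N p hp0 hp)

theorem mem_SS (X : Subgroup (GG0 q N (F := F))) :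
    X ∈ SS q N (F := F) ↔ ∃ p : V, p ≠ 0 ∧ hh p p = 0 ∧
      X = (TU q N p).subgroupOf (GG0 q N (F := F)) := by
  constructor
  · rintro ⟨A, ⟨p, hp0, hp, rfl⟩, rfl⟩
    exact ⟨p, hp0, hp, rfl⟩
  · rintro ⟨p, hp0, hp, rfl⟩
    exact ⟨TU q N p, TU_mem_SS0 q N p hp0 hp, rfl⟩

theorem TU_mem_SS (p : V) (hp0 : p ≠ 0) (hp : hh p p = 0) :
    (TU q N p).subgroupOf (GG0 q N (F := F)) ∈ SS q N (F := F) :=
  (mem_SS q N _).mpr ⟨p, hp0, hp, rfl⟩

theorem rank_one_pair' (hF : Fintype.card F = q ^ 2) (p p' : V) (hp0 : p ≠ 0) (hp : hh p p = 0)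
    (hp'0 : p' ≠ 0) (hp' : hh p' p' = 0) (hne : hh p p' ≠ 0) :
    Cfsg.IsRankOnePair ((TU q N p).subgroupOf (GG0 q N (F := F)))
      ((TU q N p').subgroupOf (GG0 q N (F := F))) :=
  rankOne_subgroupOf _ _ _ (TU_le q N p hp0 hp) (TU_le q N p' hp'0 hp')
    (TU_comm q N hF p hp0 hp) (TU_comm q N hF p' hp'0 hp')
    (rank_one_pair q N hF p p' hp0 hp hp'0 hp' hne)

theorem isRootSubgroupSet (hF : Fintype.card F = q ^ 2) :
    Cfsg.IsRootSubgroupSet (SS q N (F := F)) where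
  commutative := by
    intro X hX
    obtain ⟨p, hp0, hp, rfl⟩ := (mem_SS q N X).mp hX
    exact subgroupOf_comm _ _ (TU_comm q N hF p hp0 hp)
  ne_bot := by
    intro X hX
    obtain ⟨p, hp0, hp, rfl⟩ := (mem_SS q N X).mp hX
    exact subgroupOf_ne_bot _ _ (TU_le q N p hp0 hp) (TU_ne_bot q N hF p hp0 hp)
  generates := iSup_subgroupOf_eq_top (SS0 q N (F := F))
  conj_mem := by
    intro X hX g
    obtain ⟨p, hp0, hp, rfl⟩ := (mem_SS q N X).mp hX
    rw [conjBy_subgroupOf, TU_conj q N hF p hp0 hp]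
    exact TU_mem_SS q N _ (mulVec_ne_zero q N g.1 p hp0) (by rw [hf_act, hp])
  pair := by
    intro X hX Y hY
    obtain ⟨p, hp0, hp, rfl⟩ := (mem_SS q N X).mp hX
    obtain ⟨p', hp'0, hp', rfl⟩ := (mem_SS q N Y).mp hY
    by_cases hpp : hh p p' = 0
    · left
      rw [commutator_subgroupOf _ _ _ (TU_le q N p hp0 hp) (TU_le q N p' hp'0 hp'),
        comm_eq_bot_of_orth q N hF p p' hp0 hp hp'0 hp' hpp, Subgroup.bot_subgroupOf]
    · right
      left
      exact rank_one_pair' q N hF p p' hp0 hp hp'0 hp' hpp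

theorem exists_conj (hF : Fintype.card F = q ^ 2) (p p' : V) (hp0 : p ≠ 0) (hp : hh p p = 0)
    (hp'0 : p' ≠ 0) (hp' : hh p' p' = 0) :
    ∃ g ∈ GG0 q N (F := F), TU q N p' = Cfsg.conjBy (TU q N p) g := by
  by_cases hpp : hh p p' = 0
  · obtain ⟨z, hz0, hz, hpz, hzp'⟩ := exists_mid q N hF p p' hp0 hp hp'0 hpp
    obtain ⟨g1, hg1, e1⟩ := conj_of_rank_one _ _ (rank_one_pair q N hF p z hp0 hp hz0 hz hpz)
      (TU_ne_bot q N hF p hp0 hp)
    obtain ⟨g2, hg2, e2⟩ := conj_of_rank_one _ _ (rank_one_pair q N hF z p' hz0 hz hp'0 hp' hzp')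
      (TU_ne_bot q N hF z hz0 hz)
    refine ⟨g2 * g1, Subgroup.mul_mem _
      ((sup_le (TU_le q N z hz0 hz) (TU_le q N p' hp'0 hp')) hg2)
      ((sup_le (TU_le q N p hp0 hp) (TU_le q N z hz0 hz)) hg1), ?_⟩
    rw [← conjBy_conjBy, ← e1, ← e2]
  · obtain ⟨g, hg, e⟩ := conj_of_rank_one _ _ (rank_one_pair q N hF p p' hp0 hp hp'0 hp' hpp)
      (TU_ne_bot q N hF p hp0 hp)
    exact ⟨g, (sup_le (TU_le q N p hp0 hp) (TU_le q N p' hp'0 hp')) hg, e⟩

theorem isConjClass (hF : Fintype.card F = q ^ 2) (hex : ∃ p : V, p ≠ 0 ∧ hh p p = 0) :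
    Cfsg.IsConjClassOfSubgroups (SS q N (F := F)) := by
  constructor
  · obtain ⟨p, hp0, hp⟩ := hex
    exact ⟨_, TU_mem_SS q N p hp0 hp⟩
  · intro X hX Y hY
    obtain ⟨p, hp0, hp, rfl⟩ := (mem_SS q N X).mp hX
    obtain ⟨p', hp'0, hp', rfl⟩ := (mem_SS q N Y).mp hY
    obtain ⟨g, hg, e⟩ := exists_conj q N hF p p' hp0 hp hp'0 hp'
    refine ⟨⟨g, hg⟩, ?_⟩
    rw [conjBy_subgroupOf, e]

theorem isDegenerate (hF : Fintype.card F = q ^ 2) :
    Cfsg.IsDegenerateRootSet (SS q N (F := F)) := by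
  intro X hX Y hY hcase
  obtain ⟨p, hp0, hp, rfl⟩ := (mem_SS q N X).mp hX
  obtain ⟨p', hp'0, hp', rfl⟩ := (mem_SS q N Y).mp hY
  obtain ⟨hmem, hcent, -, -⟩ := hcase
  obtain ⟨r, hr0, hr, hreq⟩ := (mem_SS q N _).mp hmem
  have hK1 := TU_le q N p hp0 hp
  have hK2 := TU_le q N p' hp'0 hp'
  have hK3 := TU_le q N r hr0 hr
  rw [commutator_subgroupOf _ _ _ hK1 hK2] at hreq
  have heq : TU q N r = ⁅TU q N p, TU q N p'⁆ :=
    (subgroupOf_inj' _ _ _ (commutator_le_of_le _ _ _ hK1 hK2) hK3 hreq).symm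
  have hc : ∀ c ∈ TU q N r, ∀ x ∈ TU q N p ⊔ TU q N p', c * x = x * c := by
    intro c hcm x hx
    have hxK : x ∈ GG0 q N (F := F) := (sup_le hK1 hK2) hx
    have h1 : (⟨c, hK3 hcm⟩ : GG0 q N (F := F)) ∈
        ⁅(TU q N p).subgroupOf (GG0 q N (F := F)), (TU q N p').subgroupOf (GG0 q N (F := F))⁆ := by
      rw [commutator_subgroupOf _ _ _ hK1 hK2, Subgroup.mem_subgroupOf, ← heq]
      exact hcm
    have h2 : (⟨x, hxK⟩ : GG0 q N (F := F)) ∈
        (TU q N p).subgroupOf (GG0 q N (F := F)) ⊔ (TU q N p').subgroupOf (GG0 q N (F := F)) := by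
      rw [← Subgroup.subgroupOf_sup hK1 hK2, Subgroup.mem_subgroupOf]
      exact hx
    exact congrArg Subtype.val (hcent _ h1 _ h2)
  exact no_comm_case q N hF p p' r hp0 hp hp'0 hp' hr0 hr heq
    (fun c hcm x hx => hc c hcm x (Subgroup.mem_sup_left hx))
    (fun c hcm x hx => hc c hcm x (Subgroup.mem_sup_right hx))

theorem isConnected (hF : Fintype.card F = q ^ 2) :
    Cfsg.IsConnectedFamily (Cfsg.FAdj (SS q N (F := F))) (SS q N (F := F)) := by
  intro X hX Y hY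
  obtain ⟨p, hp0, hp, rfl⟩ := (mem_SS q N X).mp hX
  obtain ⟨p', hp'0, hp', rfl⟩ := (mem_SS q N Y).mp hY
  by_cases hpp : hh p p' = 0
  · obtain ⟨z, hz0, hz, hpz, hzp'⟩ := exists_mid q N hF p p' hp0 hp hp'0 hpp
    have s1 : Cfsg.FAdj (SS q N (F := F)) ((TU q N p).subgroupOf (GG0 q N (F := F)))
        ((TU q N z).subgroupOf (GG0 q N (F := F))) :=
      ⟨TU_mem_SS q N p hp0 hp, TU_mem_SS q N z hz0 hz, rank_one_pair' q N hF p z hp0 hp hz0 hz hpz⟩
    have s2 : Cfsg.FAdj (SS q N (F := F)) ((TU q N z).subgroupOf (GG0 q N (F := F)))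
        ((TU q N p').subgroupOf (GG0 q N (F := F))) :=
      ⟨TU_mem_SS q N z hz0 hz, TU_mem_SS q N p' hp'0 hp',
        rank_one_pair' q N hF z p' hz0 hz hp'0 hp' hzp'⟩
    exact Relation.ReflTransGen.head s1 (Relation.ReflTransGen.single s2)
  · exact Relation.ReflTransGen.single
      ⟨TU_mem_SS q N p hp0 hp, TU_mem_SS q N p' hp'0 hp',
        rank_one_pair' q N hF p p' hp0 hp hp'0 hp' hpp⟩

theorem exists_L (hF : Fintype.card F = q ^ 2) :
    ∃ (L : Type) (_ : Field L) (_ : Fintype L), Fintype.card L = q := by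
  obtain ⟨p, hchar⟩ := CharP.exists F
  have hp : p.Prime := CharP.char_is_prime F p
  have : Fact p.Prime := ⟨hp⟩
  obtain ⟨k, _, hk⟩ := FiniteField.card F p
  have hdvd : q ∣ p ^ (k : ℕ) := by
    rw [← hk, hF]; exact Dvd.intro_left (q ^ 1) (by ring)
  obtain ⟨j, _, hj⟩ := (Nat.dvd_prime_pow hp).mp hdvd
  have hj0 : j ≠ 0 := by
    rintro rfl
    have := one_lt_q hF
    rw [hj] at this
    simp at this
  let _ : Fintype (GaloisField p j) := Fintype.ofFinite _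
  refine ⟨GaloisField p j, inferInstance, inferInstance, ?_⟩
  rw [← Nat.card_eq_fintype_card, GaloisField.card p j hj0, hj]

theorem isKRoot (hF : Fintype.card F = q ^ 2) (L : Type) [Field L] [Fintype L]
    (hL : Fintype.card L = q) :
    Cfsg.IsKRootSubgroupSet L (SS q N (F := F)) := by
  obtain ⟨ι⟩ := Cfsg.Agent.Lib.Helper51.exists_ringHom (F := L) (K := F) hL hF
  have hι : ∀ l, (ι l) ^ q = ι l := by
    intro l
    rw [← map_pow, ← hL, FiniteField.pow_card]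
  have hιs : ∀ x : F, x ^ q = x → ∃ l, ι l = x := by
    let _ : Algebra L F := ι.toAlgebra
    intro x hx
    exact Cfsg.Agent.Lib.Helper51.mem_range_of_pow_q hL x hx
  obtain ⟨ε, hε0, hε⟩ := exists_eps q hF
  refine ⟨isRootSubgroupSet q N hF, ?_⟩
  intro X hX Y hY hr
  obtain ⟨p, hp0, hp, rfl⟩ := (mem_SS q N X).mp hX
  obtain ⟨p'', hp''0, hp'', rfl⟩ := (mem_SS q N Y).mp hY
  have hK1 := TU_le q N p hp0 hp
  have hK2 := TU_le q N p'' hp''0 hp''
  have hne : hh p p'' ≠ 0 := by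
    intro hpp
    refine not_rank_one_of_comm _ _
      (subgroupOf_ne_bot _ _ hK1 (TU_ne_bot q N hF p hp0 hp)) ?_ hr
    intro a ha b hb
    exact Subtype.ext (comm_of_orth q N hF p p'' hp0 hp hp''0 hp'' hpp a.1 ha b.1 hb)
  obtain ⟨c, hc⟩ : ∃ c : F, c = ((hh p p'')⁻¹) ^ q := ⟨_, rfl⟩
  have hc0 : c ≠ 0 := by rw [hc]; exact pow_ne_zero _ (inv_ne_zero hne)
  have hcq : c ^ q = (hh p p'')⁻¹ := by rw [hc, pow_q_pow_q hF]
  have h1 : hh p (c • p'') = 1 := by
    rw [hermForm_smul_right, hcq, inv_mul_cancel₀ hne]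
  have h1' : hh (c • p'') p = 1 := by
    rw [← hermForm_conj hF, h1, one_pow]
  have hcp0 : c • p'' ≠ 0 := smul_ne_zero hc0 hp''0
  have hcp : hh (c • p'') (c • p'') = 0 := by
    rw [hermForm_smul_left, hermForm_smul_right, hp'', mul_zero, mul_zero]
  have hyp : HypPair q N ι p (c • p'') ε :=
    ⟨hF, hp0, hp, hcp0, hcp, h1, h1', hε0, hε, hι, hιs⟩
  have hTU : TU q N (c • p'') = TU q N p'' := TU_smul q N hF c hc0 p'' hp''0 hp''
  have := isPSL2Pair_of_hyp q N ι p (c • p'') ε hyp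
  rw [hTU] at this
  exact psl2_subgroupOf L _ _ _ hK1 hK2 this

theorem exists_iso (hF : Fintype.card F = q ^ 2) (n : ℕ) (L : Type) [Field L] [Fintype L]
    (hL : Fintype.card L = q) :
    ∃ p : Fin (n + 2) → F, p ≠ 0 ∧ Cfsg.hermForm (n + 2) F q p p = 0 := by
  obtain ⟨ι⟩ := Cfsg.Agent.Lib.Helper51.exists_ringHom (F := L) (K := F) hL hF
  let _ : Algebra L F := ι.toAlgebra
  obtain ⟨ζ, hζ⟩ := Cfsg.Agent.Lib.Helper51.norm_surj (F := L) (K := F) hL hF (-1 : L)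
    (neg_ne_zero.mpr one_ne_zero)
  have hζ' : ζ * ζ ^ q = -1 := by rw [hζ, map_neg, map_one]
  refine ⟨fun i => if i = 0 then 1 else if i = 1 then ζ else 0, ?_, ?_⟩
  · intro h
    have := congrFun h 0
    simp at this
  · unfold Cfsg.hermForm
    rw [Fin.sum_univ_succ, Fin.sum_univ_succ]
    have h10 : (Fin.succ (0 : Fin (n + 1))) = 1 := rfl
    have hrest : ∀ i : Fin n, (if i.succ.succ = (0 : Fin (n + 2)) then (1 : F)
        else if i.succ.succ = 1 then ζ else 0) = 0 := by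
      intro i
      have h1 : i.succ.succ ≠ (0 : Fin (n + 2)) := Fin.succ_ne_zero _
      have h2 : i.succ.succ ≠ (1 : Fin (n + 2)) := by
        intro h
        have := congrArg Fin.val h
        simp at this
      rw [if_neg h1, if_neg h2]
    simp only [hrest, h10, zero_mul, Finset.sum_const_zero, add_zero, if_true, one_pow, one_mul]
    simp [hζ']

end final

/-- Let F be a finite field with q² elements, n a natural number, and h the Hermitian form Σ uᵢ vᵢ^q on F^{n+2}. For a non-zero isotropic vector p let T(p) be the group of unitary transvections with centre ⟨p⟩: the elements of SU_{n+2}(q) moving every vector by a multiple of p and fixing every vector perpendicular to p. Let Σ be the set of these T(p) and G₀ the subgroup they generate. Then, viewed inside G₀, the members of Σ form a degenerate class of abstract k-root subgroups of G₀ for some field k with q elements (any two commute or are the unipotent subgroups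 of a rank one group that is an image of SL₂(k) with central kernel, never the commutator case), and their graph of rank one pairs is connected. -/
theorem result (F : Type*) [Field F] [Fintype F] (q n : ℕ) (hF : Fintype.card F = q ^ 2) :
    Cfsg.IsRootSubgroupClass ((fun A : Subgroup ↥(Cfsg.SU (n + 2) F q) => A.subgroupOf (⨆ B ∈ {A : Subgroup ↥(Cfsg.SU (n + 2) F q) | ∃ p : Fin (n + 2) → F, p ≠ 0 ∧ Cfsg.hermForm (n + 2) F q p p = 0 ∧
          A = Subgroup.closure {g : ↥(Cfsg.SU (n + 2) F q) |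
            (∀ v : Fin (n + 2) → F, ∃ c : F, ((g : Matrix.SpecialLinearGroup (Fin (n + 2)) F) : Matrix (Fin (n + 2)) (Fin (n + 2)) F) *ᵥ v = v + c • p) ∧
            ∀ v : Fin (n + 2) → F, Cfsg.hermForm (n + 2) F q v p = 0 →
              ((g : Matrix.SpecialLinearGroup (Fin (n + 2)) F) : Matrix (Fin (n + 2)) (Fin (n + 2)) F) *ᵥ v = v}}, B)) ''
      {A : Subgroup ↥(Cfsg.SU (n + 2) F q) | ∃ p : Fin (n + 2) → F, p ≠ 0 ∧ Cfsg.hermForm (n + 2) F q p p = 0 ∧
          A = Subgroup.closure {g : ↥(Cfsg.SU (n + 2) F q) |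
            (∀ v : Fin (n + 2) → F, ∃ c : F, ((g : Matrix.SpecialLinearGroup (Fin (n + 2)) F) : Matrix (Fin (n + 2)) (Fin (n + 2)) F) *ᵥ v = v + c • p) ∧
            ∀ v : Fin (n + 2) → F, Cfsg.hermForm (n + 2) F q v p = 0 →
              ((g : Matrix.SpecialLinearGroup (Fin (n + 2)) F) : Matrix (Fin (n + 2)) (Fin (n + 2)) F) *ᵥ v = v}}) ∧
    Cfsg.IsDegenerateRootSet ((fun A : Subgroup ↥(Cfsg.SU (n + 2) F q) => A.subgroupOf (⨆ B ∈ {A : Subgroup ↥(Cfsg.SU (n + 2) F q) | ∃ p : Fin (n + 2) → F, p ≠ 0 ∧ Cfsg.hermForm (n + 2) F q p p = 0 ∧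
          A = Subgroup.closure {g : ↥(Cfsg.SU (n + 2) F q) |
            (∀ v : Fin (n + 2) → F, ∃ c : F, ((g : Matrix.SpecialLinearGroup (Fin (n + 2)) F) : Matrix (Fin (n + 2)) (Fin (n + 2)) F) *ᵥ v = v + c • p) ∧
            ∀ v : Fin (n + 2) → F, Cfsg.hermForm (n + 2) F q v p = 0 →
              ((g : Matrix.SpecialLinearGroup (Fin (n + 2)) F) : Matrix (Fin (n + 2)) (Fin (n + 2)) F) *ᵥ v = v}}, B)) ''
      {A : Subgroup ↥(Cfsg.SU (n + 2) F q) | ∃ p : Fin (n + 2) → F, p ≠ 0 ∧ Cfsg.hermForm (n + 2) F q p p = 0 ∧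
          A = Subgroup.closure {g : ↥(Cfsg.SU (n + 2) F q) |
            (∀ v : Fin (n + 2) → F, ∃ c : F, ((g : Matrix.SpecialLinearGroup (Fin (n + 2)) F) : Matrix (Fin (n + 2)) (Fin (n + 2)) F) *ᵥ v = v + c • p) ∧
            ∀ v : Fin (n + 2) → F, Cfsg.hermForm (n + 2) F q v p = 0 →
              ((g : Matrix.SpecialLinearGroup (Fin (n + 2)) F) : Matrix (Fin (n + 2)) (Fin (n + 2)) F) *ᵥ v = v}}) ∧
    (∃ (L : Type) (_ : Field L) (_ : Fintype L), Fintype.card L = q ∧ Cfsg.IsKRootSubgroupSet L ((fun A : Subgroup ↥(Cfsg.SU (n + 2) F q) => A.subgroupOf (⨆ B ∈ {A : Subgroup ↥(Cfsg.SU (n + 2) F q) | ∃ p : Fin (n + 2) → F, p ≠ 0 ∧ Cfsg.hermForm (n + 2) F q p p = 0 ∧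
          A = Subgroup.closure {g : ↥(Cfsg.SU (n + 2) F q) |
            (∀ v : Fin (n + 2) → F, ∃ c : F, ((g : Matrix.SpecialLinearGroup (Fin (n + 2)) F) : Matrix (Fin (n + 2)) (Fin (n + 2)) F) *ᵥ v = v + c • p) ∧
            ∀ v : Fin (n + 2) → F, Cfsg.hermForm (n + 2) F q v p = 0 →
              ((g : Matrix.SpecialLinearGroup (Fin (n + 2)) F) : Matrix (Fin (n + 2)) (Fin (n + 2)) F) *ᵥ v = v}}, B)) ''
      {A : Subgroup ↥(Cfsg.SU (n + 2) F q) | ∃ p : Fin (n + 2) → F, p ≠ 0 ∧ Cfsg.hermForm (n + 2) F q p p = 0 ∧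
          A = Subgroup.closure {g : ↥(Cfsg.SU (n + 2) F q) |
            (∀ v : Fin (n + 2) → F, ∃ c : F, ((g : Matrix.SpecialLinearGroup (Fin (n + 2)) F) : Matrix (Fin (n + 2)) (Fin (n + 2)) F) *ᵥ v = v + c • p) ∧
            ∀ v : Fin (n + 2) → F, Cfsg.hermForm (n + 2) F q v p = 0 →
              ((g : Matrix.SpecialLinearGroup (Fin (n + 2)) F) : Matrix (Fin (n + 2)) (Fin (n + 2)) F) *ᵥ v = v}})) ∧
    Cfsg.IsConnectedFamily (Cfsg.FAdj ((fun A : Subgroup ↥(Cfsg.SU (n + 2) F q) => A.subgroupOf (⨆ B ∈ {A : Subgroup ↥(Cfsg.SU (n + 2) F q) | ∃ p : Fin (n + 2) → F, p ≠ 0 ∧ Cfsg.hermForm (n + 2) F q p p = 0 ∧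
          A = Subgroup.closure {g : ↥(Cfsg.SU (n + 2) F q) |
            (∀ v : Fin (n + 2) → F, ∃ c : F, ((g : Matrix.SpecialLinearGroup (Fin (n + 2)) F) : Matrix (Fin (n + 2)) (Fin (n + 2)) F) *ᵥ v = v + c • p) ∧
            ∀ v : Fin (n + 2) → F, Cfsg.hermForm (n + 2) F q v p = 0 →
              ((g : Matrix.SpecialLinearGroup (Fin (n + 2)) F) : Matrix (Fin (n + 2)) (Fin (n + 2)) F) *ᵥ v = v}}, B)) ''
      {A : Subgroup ↥(Cfsg.SU (n + 2) F q) | ∃ p : Fin (n + 2) → F, p ≠ 0 ∧ Cfsg.hermForm (n + 2) F q p p = 0 ∧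
          A = Subgroup.closure {g : ↥(Cfsg.SU (n + 2) F q) |
            (∀ v : Fin (n + 2) → F, ∃ c : F, ((g : Matrix.SpecialLinearGroup (Fin (n + 2)) F) : Matrix (Fin (n + 2)) (Fin (n + 2)) F) *ᵥ v = v + c • p) ∧
            ∀ v : Fin (n + 2) → F, Cfsg.hermForm (n + 2) F q v p = 0 →
              ((g : Matrix.SpecialLinearGroup (Fin (n + 2)) F) : Matrix (Fin (n + 2)) (Fin (n + 2)) F) *ᵥ v = v}})) ((fun A : Subgroup ↥(Cfsg.SU (n + 2) F q) => A.subgroupOf (⨆ B ∈ {A : Subgroup ↥(Cfsg.SU (n + 2) F q) | ∃ p : Fin (n + 2) → F, p ≠ 0 ∧ Cfsg.hermForm (n + 2) F q p p = 0 ∧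
          A = Subgroup.closure {g : ↥(Cfsg.SU (n + 2) F q) |
            (∀ v : Fin (n + 2) → F, ∃ c : F, ((g : Matrix.SpecialLinearGroup (Fin (n + 2)) F) : Matrix (Fin (n + 2)) (Fin (n + 2)) F) *ᵥ v = v + c • p) ∧
            ∀ v : Fin (n + 2) → F, Cfsg.hermForm (n + 2) F q v p = 0 →
              ((g : Matrix.SpecialLinearGroup (Fin (n + 2)) F) : Matrix (Fin (n + 2)) (Fin (n + 2)) F) *ᵥ v = v}}, B)) ''
      {A : Subgroup ↥(Cfsg.SU (n + 2) F q) | ∃ p : Fin (n + 2) → F, p ≠ 0 ∧ Cfsg.hermForm (n + 2) F q p p = 0 ∧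
          A = Subgroup.closure {g : ↥(Cfsg.SU (n + 2) F q) |
            (∀ v : Fin (n + 2) → F, ∃ c : F, ((g : Matrix.SpecialLinearGroup (Fin (n + 2)) F) : Matrix (Fin (n + 2)) (Fin (n + 2)) F) *ᵥ v = v + c • p) ∧
            ∀ v : Fin (n + 2) → F, Cfsg.hermForm (n + 2) F q v p = 0 →
              ((g : Matrix.SpecialLinearGroup (Fin (n + 2)) F) : Matrix (Fin (n + 2)) (Fin (n + 2)) F) *ᵥ v = v}}) := by
  obtain ⟨L, instL, instFin, hL⟩ := exists_L q hF
  exact ⟨⟨isRootSubgroupSet q (n + 2) hF, isConjClass q (n + 2) hF (exists_iso q hF n L hL)⟩,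
    isDegenerate q (n + 2) hF, ⟨L, instL, instFin, hL, isKRoot q (n + 2) hF L hL⟩,
    isConnected q (n + 2) hF⟩


end Cfsg.Agent.S5071
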