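import Cfsg.Statements.S4299

set_option autoImplicit false
open Cfsg
open scoped Pointwise

namespace Cfsg.Agent.S4299

open SemidirectProduct in
/-- In a semidirect product with fixed-point-free action, the complement is a Frobenius complement. -/
theorem frob_of_fpf {N K : Type*} [Group N] [Group K] [Nontrivial N] [Nontrivial K]
    (φ : K →* MulAut N) (hfpf : ∀ (a : K) (v : N), φ a v = v → a = 1 ∨ v = 1) :
    Cfsg.IsFrobeniusComplement ((inr : K →* N ⋊[φ] K).range) := by
  refine ⟨?_, ?_, ?_⟩
  · intro h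
    obtain ⟨a, ha⟩ := exists_ne (1 : K)
    have : (inr a : N ⋊[φ] K) ∈ (inr : K →* N ⋊[φ] K).range := ⟨a, rfl⟩
    rw [h, Subgroup.mem_bot] at this
    exact ha (inr_injective (by rw [this, map_one]))
  · intro h
    obtain ⟨n, hn⟩ := exists_ne (1 : N)
    have : (inl n : N ⋊[φ] K) ∈ (inr : K →* N ⋊[φ] K).range := by rw [h]; trivial
    obtain ⟨a, ha⟩ := this
    have := congrArg SemidirectProduct.left ha
    rw [left_inr, left_inl] at this
    exact hn this.symm
  · intro g hg
    rw [eq_bot_iff]
    rintro x ⟨⟨a, rfl⟩, hx2⟩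
    rw [Subgroup.mem_bot]
    have hx2' : inr a ∈ MulAut.conj g • (inr : K →* N ⋊[φ] K).range := hx2
    rw [Subgroup.mem_pointwise_smul_iff_inv_smul_mem] at hx2'
    obtain ⟨b, hb⟩ := hx2'
    have hb' : g * inr b = inr a * g := by
      rw [hb]
      simp [MulAut.smul_def, mul_assoc]
    have hleft := congrArg SemidirectProduct.left hb'
    rw [mul_left, mul_left, left_inr, left_inr, map_one, mul_one, one_mul, right_inr] at hleft
    have hgl : g.left ≠ 1 := by
      intro h1
      apply hg
      refine ⟨g.right, ?_⟩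
      ext
      · rw [left_inr, h1]
      · rw [right_inr]
    rcases hfpf a g.left hleft.symm with h | h
    · rw [h, map_one]
    · exact absurd h hgl

/-- The action of a subgroup of units of `ZMod p` on the additive group, multiplicatively written. -/
noncomputable def unitAct (p : ℕ) (K : Subgroup (ZMod p)ˣ) : K →* MulAut (Multiplicative (ZMod p)) :=
  ((MulAutMultiplicative (ZMod p)).symm.toMonoidHom.comp
    (DistribMulAction.toAddAut (ZMod p)ˣ (ZMod p))).comp K.subtype

theorem unitAct_apply (p : ℕ) (K : Subgroup (ZMod p)ˣ) (a : K) (v : Multiplicative (ZMod p)) :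
    unitAct p K a v = Multiplicative.ofAdd (((a : (ZMod p)ˣ) : ZMod p) * Multiplicative.toAdd v) := rfl

theorem result {C : Type*} [Group C] [Finite C] [IsCyclic C] [Nontrivial C] :
    ∃ (L : Type) (_ : Group L) (_ : Finite L) (H : Subgroup L), Cfsg.IsFrobeniusComplement H ∧ Nonempty (C ≃* H) := by
  classical
  set n := Nat.card C with hn
  have hn0 : n ≠ 0 := Nat.card_pos.ne'
  obtain ⟨p, hp, -, hpn⟩ := Nat.exists_prime_gt_modEq_one 0 hn0
  have : Fact p.Prime := ⟨hp⟩
  -- n divides p - 1
  have hdvd : n ∣ p - 1 := (Nat.modEq_iff_dvd' hp.one_lt.le).mp hpn.symm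
  obtain ⟨m, hm⟩ := hdvd
  have hp1 : 0 < p - 1 := Nat.sub_pos_of_lt hp.one_lt
  have hm0 : m ≠ 0 := by
    rintro rfl
    rw [mul_zero] at hm
    omega
  -- generator of the unit group
  obtain ⟨ζ, hζ⟩ := IsCyclic.exists_generator (α := (ZMod p)ˣ)
  have hordζ : orderOf ζ = p - 1 := by
    rw [orderOf_eq_card_of_forall_mem_zpowers hζ, Nat.card_eq_fintype_card, ZMod.card_units]
  set ω := ζ ^ m with hω
  have hordω : orderOf ω = n := by
    rw [hω, orderOf_pow_of_dvd hm0 (by rw [hordζ, hm]; exact dvd_mul_left m n), hordζ, hm]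
    exact Nat.mul_div_cancel _ (Nat.pos_of_ne_zero hm0)
  let K : Subgroup (ZMod p)ˣ := Subgroup.zpowers ω
  have hKcard : Nat.card K = n := by
    rw [Nat.card_zpowers, hordω]
  have : Nontrivial K := by
    have : 1 < Nat.card K := by
      rw [hKcard]; exact Finite.one_lt_card
    exact Finite.one_lt_card_iff_nontrivial.mp this
  have : Nontrivial (Multiplicative (ZMod p)) := inferInstance
  let φ := unitAct p K
  have hfpf : ∀ (a : K) (v : Multiplicative (ZMod p)), φ a v = v → a = 1 ∨ v = 1 := by
    intro a v h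
    have h' : ((a : (ZMod p)ˣ) : ZMod p) * Multiplicative.toAdd v = Multiplicative.toAdd v := by
      have := congrArg Multiplicative.toAdd h
      rwa [unitAct_apply] at this
    have h'' : (((a : (ZMod p)ˣ) : ZMod p) - 1) * Multiplicative.toAdd v = 0 := by
      rw [sub_mul, one_mul, h', sub_self]
    rcases mul_eq_zero.mp h'' with h1 | h1
    · left
      have : ((a : (ZMod p)ˣ) : ZMod p) = 1 := sub_eq_zero.mp h1
      apply Subtype.ext
      apply Units.ext
      simpa using this
    · right
      exact h1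
  refine ⟨Multiplicative (ZMod p) ⋊[φ] K, inferInstance, ?_, (SemidirectProduct.inr).range,
    frob_of_fpf φ hfpf, ?_⟩
  · exact Finite.of_equiv _ SemidirectProduct.equivProd.symm
  · have e1 : K ≃* (SemidirectProduct.inr : K →* Multiplicative (ZMod p) ⋊[φ] K).range :=
      MonoidHom.ofInjective SemidirectProduct.inr_injective
    have : IsCyclic K := inferInstance
    have e2 : C ≃* K := mulEquivOfCyclicCardEq (by rw [hKcard])
    exact ⟨e2.trans e1⟩

end Cfsg.Agent.S4299
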