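import Cfsg.Statements.S0690
import Cfsg.Agent.Lib.Helper11.ZassMain
import Cfsg.Agent.Lib.Helper74.FCHub
import Cfsg.Agent.Lib.Helper79.FpfLiftJ

set_option autoImplicit false
open Cfsg

namespace Cfsg.Agent.S0690

open Cfsg.Agent.Lib.Helper11.Zass in
/-- the matrix representation as a representation on `Fin n → F` -/
noncomputable def linRep {F : Type*} [Field F] {H : Type*} [Group H] {n : ℕ}
    (ρ : H →* GL (Fin n) F) : H →* Module.End F (Fin n → F) where
  toFun g := Matrix.mulVecLin ((ρ g : GL (Fin n) F) : Matrix (Fin n) (Fin n) F)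
  map_one' := by
    rw [map_one, Units.val_one, Matrix.mulVecLin_one]; rfl
  map_mul' a b := by
    rw [map_mul, Units.val_mul, Matrix.mulVecLin_mul]; rfl

/-- Zassenhaus: a perfect non-trivial group of fixed-point-free automorphisms of a finite group is isomorphic to `SL(2,5)`. -/
theorem result {K : Type*} [Group K] [Finite K] (G : Subgroup (MulAut K)) (hfpf : ∀ φ ∈ G, φ ≠ 1 → ∀ k : K, φ k = k → k = 1) (hperf : commutator G = ⊤) (hne : G ≠ ⊥) : Nonempty (G ≃* Matrix.SpecialLinearGroup (Fin 2) (ZMod 5)) := by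
  have hnt : Nontrivial ↥G := (Subgroup.nontrivial_iff_ne_bot G).mpr hne
  have hfinA : Finite (MulAut K) :=
    Finite.of_injective (fun f : MulAut K => (f : K → K)) DFunLike.coe_injective
  have hfin : Finite ↥G := inferInstance
  have hFC : Cfsg.Agent.Lib.Helper74.FC.IsFC ↥G :=
    Cfsg.Agent.Lib.Helper79.FpfLift.exists_frobenius_of_fpf_aut G hfpf hne
  have hsub : ∀ D : Subgroup ↥G, D ≠ ⊥ → Cfsg.Agent.Lib.Helper74.FC.IsFC D :=
    fun D hD => Cfsg.Agent.Lib.Helper74.FCHub.isFC_subgroup hFC D hD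
  have hact := Cfsg.Agent.Lib.Helper74.FCHub.exists_fpf_action hFC
  have hinv : ∀ s t : ↥G, orderOf s = 2 → orderOf t = 2 → s = t := by
    intro s t hs ht
    have h1 : ∀ u : ↥G, orderOf u = 2 → u * u = 1 ∧ u ≠ 1 := by
      intro u hu
      refine ⟨?_, ?_⟩
      · rw [← sq, ← hu]; exact pow_orderOf_eq_one u
      · intro h; rw [h, orderOf_one] at hu; norm_num at hu
    exact Cfsg.Agent.Lib.Helper74.FCHub.unique_involution hact s t (h1 s hs).1 (h1 s hs).2
      (h1 t ht).1 (h1 t ht).2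
  have hodd : ∀ p : ℕ, p.Prime → p ≠ 2 → ∀ Q : Subgroup ↥G, IsPGroup p Q → IsCyclic Q := by
    intro p hp hp2 Q hQ
    have : Fact p.Prime := ⟨hp⟩
    obtain ⟨P⟩ : Nonempty (Sylow p Q) := inferInstance
    have hc : IsCyclic P := Cfsg.Agent.Lib.Helper74.FCHub.sylow_cyclic_of_ne_two hsub Q p hp2 P
    have htop : (P : Subgroup Q) = ⊤ := by
      have hQ' : IsPGroup p (⊤ : Subgroup Q) := hQ.to_subgroup ⊤
      exact (P.is_maximal' hQ' le_top).symm
    have hc' : IsCyclic (⊤ : Subgroup Q) := by rw [← htop]; exact hc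
    exact isCyclic_of_surjective (Subgroup.topEquiv : (⊤ : Subgroup Q) ≃* Q)
      Subgroup.topEquiv.surjective
  have hcomm : ∀ x y : ↥G, orderOf x = 3 → orderOf y = 3 → x * y = y * x →
      y ∈ Subgroup.zpowers x := by
    intro x y hx hy hxy
    apply Cfsg.Agent.Lib.Helper74.FCHub.mem_zpowers_of_commute hsub 3 (by norm_num) x y _ _ _ hxy
    · rw [← hx]; exact pow_orderOf_eq_one x
    · rw [← hy]; exact pow_orderOf_eq_one y
    · intro h; rw [h, orderOf_one] at hx; norm_num at hx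
  obtain ⟨n, ρ, hn, -, -, hfp⟩ := Cfsg.Agent.Lib.Helper79.FpfLift.exists_rep_of_fpf_aut G hfpf hne
  have hnonempty : Nonempty (Fin n) := Fin.pos_iff_nonempty.mp hn
  have hVnt : Nontrivial (Fin n → AlgebraicClosure ℚ) := inferInstance
  have hρ : Cfsg.Agent.Lib.Helper11.Zass.IsFpf (linRep ρ) := by
    intro g hg v hv
    exact hfp g hg v hv
  exact Cfsg.Agent.Lib.Helper11.Zass.zass_core (K := AlgebraicClosure ℚ)
    (V := Fin n → AlgebraicClosure ℚ) (linRep ρ) hρ hodd hinv hcomm hperf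

end Cfsg.Agent.S0690
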