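import Cfsg.Statements.S0160
import Cfsg.Agent.Lib.Helper05.BrauerPerm

set_option autoImplicit false
open Cfsg

namespace Cfsg.Agent.S0160

open Cfsg.Agent.Lib.Helper05
open scoped ComplexConjugate

theorem isConj_inv {G : Type*} [Group G] {g h : G} (hgh : IsConj g h) : IsConj g⁻¹ h⁻¹ := by
  rw [isConj_iff] at hgh ⊢
  obtain ⟨c, hc⟩ := hgh
  exact ⟨c, by rw [← hc]; group⟩

/-- A finite group has as many real-valued irreducible complex characters as conjugacy classes closed under taking inverses. -/
theorem result {G : Type*} [Group G] [Finite G] : Nat.card {χ : Cfsg.IrrCharacter G // ∀ g : G, ((χ : G → ℂ) g).im = 0} = Nat.card {C : ConjClasses G // ∀ g : G, ConjClasses.mk g = C → IsConj g g⁻¹} := by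
  classical
  haveI : Fintype G := Fintype.ofFinite G
  haveI : Finite (Cfsg.IrrCharacter G) := finite_irrCharacter
  haveI : Fintype (Cfsg.IrrCharacter G) := Fintype.ofFinite _
  have hinv : ∀ (χ : Cfsg.IrrCharacter G) (g : G), (χ : G → ℂ) g⁻¹ = conj ((χ : G → ℂ) g) :=
    fun χ g => Cfsg.Agent.Lib.Helper83.char_inv (IsIrrCharacter.isCharacter χ.2) g
  have key := card_fixed_irr_eq_card_fixed_classes (G := G) (fun g => g⁻¹)
    (fun g h hgh => isConj_inv hgh)
    (fun χ => by
      have : (fun g => (χ : G → ℂ) g⁻¹) = fun g => conj ((χ : G → ℂ) g) := by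
        funext g
        exact hinv χ g
      rw [this]
      exact isIrrCharacter_conj χ.2)
  have hL : Nat.card {χ : Cfsg.IrrCharacter G // ∀ g : G, ((χ : G → ℂ) g).im = 0} =
      Nat.card {χ : Cfsg.IrrCharacter G // (fun g => (χ : G → ℂ) g⁻¹) = (χ : G → ℂ)} := by
    apply Nat.card_congr
    apply Equiv.subtypeEquivRight
    intro χ
    constructor
    · intro h
      funext g
      rw [hinv χ g]
      exact Complex.conj_eq_iff_im.mpr (h g)
    · intro h g
      have := congrFun h g
      rw [hinv χ g] at this
      exact Complex.conj_eq_iff_im.mp this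
  rw [hL, key]
  apply Nat.card_congr
  apply Equiv.subtypeEquivRight
  intro C
  constructor
  · intro h g hg
    exact (h g hg).symm
  · intro h g hg
    exact (h g hg).symm

end Cfsg.Agent.S0160
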