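import Cfsg.Statements.S0161
import Cfsg.Agent.S0160

set_option autoImplicit false
open Cfsg

namespace Cfsg.Agent.S0161

open Cfsg.Agent.Lib.Helper05

/-- In a group of odd order, an element conjugate to its inverse is trivial. -/
theorem eq_one_of_isConj_inv {G : Type*} [Group G] [Finite G] (hodd : Odd (Nat.card G)) (g : G)
    (h : IsConj g g⁻¹) : g = 1 := by
  rw [isConj_iff] at h
  obtain ⟨x, hx⟩ := h
  -- x * x commutes with g
  have hcomm : Commute (x * x) g := by
    have h1 : x * g⁻¹ * x⁻¹ = g := by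
      have := congrArg (fun y => y⁻¹) hx
      simp only [mul_inv_rev, inv_inv] at this
      rw [← mul_assoc] at this
      exact this
    have : x * x * g * (x * x)⁻¹ = g := by
      calc x * x * g * (x * x)⁻¹ = x * (x * g * x⁻¹) * x⁻¹ := by group
        _ = x * g⁻¹ * x⁻¹ := by rw [hx]
        _ = g := h1
    exact (mul_inv_eq_iff_eq_mul.mp this)
  have hoddx : Odd (orderOf x) := Odd.of_dvd_nat hodd (orderOf_dvd_natCard x)
  obtain ⟨m, hm⟩ := hoddx
  have hxpow : x = (x * x) ^ (m + 1) := by
    rw [← pow_two, ← pow_mul]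
    have : 2 * (m + 1) = orderOf x + 1 := by omega
    rw [this, pow_succ, pow_orderOf_eq_one, one_mul]
  have hcomm' : Commute x g := by
    rw [hxpow]
    exact hcomm.pow_left _
  have hgg : g = g⁻¹ := by
    have : x * g * x⁻¹ = g := by
      rw [hcomm'.eq, mul_inv_cancel_right]
    rw [this] at hx
    exact hx
  have hg2 : g ^ 2 = 1 := by
    rw [pow_two]
    nth_rw 2 [hgg]
    exact mul_inv_cancel g
  have h2 : orderOf g ∣ 2 := orderOf_dvd_of_pow_eq_one hg2
  have hoddg : Odd (orderOf g) := Odd.of_dvd_nat hodd (orderOf_dvd_natCard g)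
  have : orderOf g = 1 := by
    rcases (Nat.dvd_prime Nat.prime_two).mp h2 with h | h
    · exact h
    · rw [h] at hoddg
      exact absurd hoddg (by decide)
  exact orderOf_eq_one_iff.mp this

/-- In a finite group of odd order, a real-valued irreducible complex character is the trivial character. -/
theorem result {G : Type*} [Group G] [Finite G] (hodd : Odd (Nat.card G)) (χ : Cfsg.IrrCharacter G) (hreal : ∀ g : G, ((χ : G → ℂ) g).im = 0) : (χ : G → ℂ) = fun _ => 1 := by
  have hcard := Cfsg.Agent.S0160.result (G := G)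
  have hclasses : Nat.card {C : ConjClasses G // ∀ g : G, ConjClasses.mk g = C → IsConj g g⁻¹} = 1 := by
    rw [Nat.card_eq_one_iff_unique]
    constructor
    · constructor
      rintro ⟨C, hC⟩ ⟨D, hD⟩
      apply Subtype.ext
      obtain ⟨g, rfl⟩ := ConjClasses.exists_rep C
      obtain ⟨h, rfl⟩ := ConjClasses.exists_rep D
      show ConjClasses.mk g = ConjClasses.mk h
      rw [eq_one_of_isConj_inv hodd g (hC g rfl), eq_one_of_isConj_inv hodd h (hD h rfl)]
    · refine ⟨⟨ConjClasses.mk 1, ?_⟩⟩
      intro g hg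
      have : g = 1 := by
        have := ConjClasses.mk_eq_mk_iff_isConj.mp hg
        exact isConj_one_left.mp this
      rw [this, inv_one]
  rw [hclasses, Nat.card_eq_one_iff_unique] at hcard
  have hsub := hcard.1
  have h1 : (⟨χ, hreal⟩ : {χ : Cfsg.IrrCharacter G // ∀ g : G, ((χ : G → ℂ) g).im = 0}) =
      ⟨⟨fun _ => 1, isIrrCharacter_one⟩, fun g => by simp⟩ := Subsingleton.elim _ _
  have h2 := congrArg Subtype.val (congrArg Subtype.val h1)
  exact h2

end Cfsg.Agent.S0161
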