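import Cfsg.Statements.S1485
import Cfsg.Agent.Lib.Helper33.IndFun

set_option autoImplicit false
open Cfsg

namespace Cfsg.Agent.S1485

open Cfsg.Agent.Lib.Helper33

/-- the conjugate `θ^g : h ↦ θ (g h g⁻¹)` -/
noncomputable def cj {G : Type*} [Group G] (H : Subgroup G) [hN : H.Normal] (θ : H → ℂ) (g : G) :
    H → ℂ := fun h : H => θ ⟨g * h * g⁻¹, hN.conj_mem h h.2 g⟩

theorem cj_mul {G : Type*} [Group G] (H : Subgroup G) [hN : H.Normal] (θ : H → ℂ) (a b : G) :
    cj H θ (a * b) = cj H (cj H θ a) b := by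
  funext h
  unfold cj
  congr 1
  ext
  simp [mul_assoc]

theorem cj_one {G : Type*} [Group G] (H : Subgroup G) [hN : H.Normal] (θ : H → ℂ) :
    cj H θ 1 = θ := by
  funext h
  unfold cj
  congr 1
  ext
  simp

theorem cj_eq_iff {G : Type*} [Group G] (H : Subgroup G) [hN : H.Normal] (θ : H → ℂ) (g g₀ : G) :
    cj H θ g = cj H θ g₀ ↔ cj H θ (g * g₀⁻¹) = θ := by
  constructor
  · intro h
    rw [cj_mul, h, ← cj_mul, mul_inv_cancel, cj_one]
  · intro h
    have : g = (g * g₀⁻¹) * g₀ := by group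
    rw [this, cj_mul, h]

/-- Let H be a normal subgroup of the finite group G and θ an irreducible character of H. On H, the function induced from θ equals r times the sum of the distinct G-conjugates of θ, where r is the number of elements of G fixing θ under conjugation divided by the order of H (the index of H in the inertia group). -/
theorem result {G : Type*} [Group G] [Fintype G] (H : Subgroup G) [hN : H.Normal] (θ : H → ℂ) (hθ : Cfsg.IsIrrCharacter H θ) : (fun h : H => Cfsg.indFun H θ h) = ((Nat.card {g : G // ∀ h : H, θ ⟨g * h * g⁻¹, hN.conj_mem h h.2 g⟩ = θ h} : ℂ) / (Nat.card H : ℂ)) • ∑ᶠ ψ ∈ {ψ : H → ℂ | ∃ g : G, ψ = fun h : H => θ ⟨g * h * g⁻¹, hN.conj_mem h h.2 g⟩}, ψ := by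
  classical
  -- the set of conjugates as a finset
  have hS : {ψ : H → ℂ | ∃ g : G, ψ = fun h : H => θ ⟨g * h * g⁻¹, hN.conj_mem h h.2 g⟩} =
      ((Finset.univ.image (cj H θ) : Finset (H → ℂ)) : Set (H → ℂ)) := by
    ext ψ
    simp only [Set.mem_ofPred_eq, Finset.coe_image, Finset.coe_univ, Set.image_univ, Set.mem_range]
    constructor
    · rintro ⟨g, rfl⟩; exact ⟨g, rfl⟩
    · rintro ⟨g, rfl⟩; exact ⟨g, rfl⟩
  rw [hS, finsum_mem_coe_finset]
  set T := {g : G // ∀ h : H, θ ⟨g * h * g⁻¹, hN.conj_mem h h.2 g⟩ = θ h} with hT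
  -- each fibre of `cj` has the cardinality of the stabiliser
  have hfib : ∀ g₀ : G, (Finset.univ.filter (fun g => cj H θ g = cj H θ g₀)).card = Nat.card T := by
    intro g₀
    rw [Nat.card_eq_fintype_card, ← Fintype.card_subtype]
    apply Fintype.card_congr
    refine
      { toFun := fun g => ⟨g.1 * g₀⁻¹, fun h => ?_⟩
        invFun := fun t => ⟨t.1 * g₀, ?_⟩
        left_inv := fun g => by ext; simp
        right_inv := fun t => by ext; simp }
    · have := (cj_eq_iff H θ g.1 g₀).mp g.2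
      exact congrFun this h
    · rw [cj_eq_iff]
      funext h
      have := t.2 h
      simpa [cj] using this
  have hsum : ∑ ψ ∈ Finset.univ.image (cj H θ), (Nat.card T : ℂ) • ψ = ∑ g : G, cj H θ g := by
    apply Finset.sum_image'
    intro g₀ _
    have : ∀ g ∈ Finset.univ.filter (fun g => cj H θ g = cj H θ g₀), cj H θ g = cj H θ g₀ := by
      intro g hg
      exact (Finset.mem_filter.mp hg).2
    rw [Finset.sum_congr rfl this, Finset.sum_const, hfib g₀]
    simp [Nat.cast_smul_eq_nsmul]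
  funext h
  have hind : indFun H θ h = (Nat.card H : ℂ)⁻¹ * ∑ g : G, cj H θ g h := by
    unfold indFun
    congr 1
    rw [← Equiv.sum_comp (Equiv.inv G)]
    apply Finset.sum_congr rfl
    intro x _
    have hx : x * (h : G) * x⁻¹ ∈ H := hN.conj_mem h h.2 x
    simp only [Equiv.inv_apply, inv_inv]
    rw [extendByZero_of_mem H θ hx]
    rfl
  rw [hind, ← Finset.sum_apply, ← hsum, ← Finset.smul_sum]
  simp only [Pi.smul_apply, smul_eq_mul]
  rw [div_eq_mul_inv]
  ring

end Cfsg.Agent.S1485
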