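import Cfsg.Statements.S1486
import Cfsg.Agent.S1485
import Cfsg.Agent.Lib.Helper33.IrrComp
import Cfsg.Agent.Lib.Helper34.Induction
import Cfsg.Agent.Lib.Helper05.CharOrtho

set_option autoImplicit false
open Cfsg

namespace Cfsg.Agent.S1486

open Cfsg.Agent.Lib.Helper33 Cfsg.Agent.Lib.Helper34

/-- Let H be a normal subgroup of the finite group G and θ, φ irreducible characters of H. If φ is a G-conjugate of θ then the functions induced from θ and φ coincide; if φ is not a G-conjugate of θ then the induced functions are orthogonal. -/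
theorem result {G : Type*} [Group G] [Fintype G] (H : Subgroup G) [hN : H.Normal] (θ φ : H → ℂ) (hθ : Cfsg.IsIrrCharacter H θ) (hφ : Cfsg.IsIrrCharacter H φ) : ((∃ g : G, φ = fun h : H => θ ⟨g * h * g⁻¹, hN.conj_mem h h.2 g⟩) → Cfsg.indFun H φ = Cfsg.indFun H θ) ∧ ((¬ ∃ g : G, φ = fun h : H => θ ⟨g * h * g⁻¹, hN.conj_mem h h.2 g⟩) → Cfsg.classInner (Cfsg.indFun H φ) (Cfsg.indFun H θ) = 0) := by
  constructor
  · rintro ⟨g, rfl⟩
    funext y
    unfold indFun
    congr 1
    -- extension by zero of the conjugate
    have hext : ∀ z : G, extendByZero H (fun h : H => θ ⟨g * h * g⁻¹, hN.conj_mem h h.2 g⟩) z =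
        extendByZero H θ (g * z * g⁻¹) := by
      intro z
      by_cases hz : z ∈ H
      · rw [extendByZero_of_mem H _ hz, extendByZero_of_mem H θ (hN.conj_mem z hz g)]
      · have hz' : g * z * g⁻¹ ∉ H := by
          intro h
          apply hz
          have := hN.conj_mem _ h g⁻¹
          simpa [mul_assoc] using this
        rw [extendByZero_of_not_mem H _ hz, extendByZero_of_not_mem H θ hz']
    rw [← Equiv.sum_comp (Equiv.mulRight g⁻¹)
      (fun x => extendByZero H θ (x⁻¹ * y * x))]
    apply Finset.sum_congr rfl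
    intro x _
    rw [hext]
    congr 1
    simp [mul_assoc]
  · intro hnot
    haveI : Fintype H := Fintype.ofFinite _
    rw [classInner_indFun_left H φ _ (indFun_isClassFunction H θ)]
    have h1 := Cfsg.Agent.S1485.result H θ hθ
    rw [h1, classInner_smul_right]
    have h2 : classInner φ (∑ᶠ ψ ∈ {ψ : H → ℂ | ∃ g : G, ψ = fun h : H => θ ⟨g * h * g⁻¹, hN.conj_mem h h.2 g⟩}, ψ) = 0 := by
      apply finsum_mem_induction (fun f => classInner φ f = 0)
      · exact classInner_zero_right φ
      · intro x y hx hy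
        rw [classInner_add_right, hx, hy, add_zero]
      · rintro ψ ⟨g, rfl⟩
        apply Cfsg.Agent.Lib.Helper05.classInner_irr_ne hφ (isIrrCharacter_conj_normal H hθ g)
        intro h
        exact hnot ⟨g, h⟩
    rw [h2, mul_zero]

end Cfsg.Agent.S1486
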