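import Cfsg.Statements.S1487
import Cfsg.Agent.Lib.Helper33.IndFun
import Cfsg.Agent.Lib.Helper04.CharValues

set_option autoImplicit false
open Cfsg

namespace Cfsg.Agent.S1487

open Cfsg.Agent.Lib.Helper33

/-- a complex number of norm at most `d` whose real part is `d` equals `d` -/
theorem eq_of_norm_le_of_re_eq {z : ℂ} {d : ℝ} (h1 : ‖z‖ ≤ d) (h2 : z.re = d) : z = (d : ℂ) := by
  have h3 : z.re ^ 2 + z.im ^ 2 = ‖z‖ ^ 2 := by
    rw [Complex.sq_norm, Complex.normSq_apply]; ring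
  have h0 : 0 ≤ ‖z‖ := norm_nonneg z
  have hd : 0 ≤ d := h0.trans h1
  have h4 : ‖z‖ ^ 2 ≤ d ^ 2 := by nlinarith
  have h5 : z.im ^ 2 ≤ 0 := by rw [h2] at h3; nlinarith
  have h6 : z.im = 0 := by nlinarith [sq_nonneg z.im]
  exact Complex.ext (by simp [h2]) (by simp [h6])

/-- Let A ≤ H be normal subgroups of the finite group G and θ an irreducible character of H. Then θ takes the value θ 1 on all of A if and only if the function induced from θ to G takes its value at 1 on all of A. -/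
theorem result {G : Type*} [Group G] [Fintype G] (A H : Subgroup G) [A.Normal] [H.Normal] (hAH : A ≤ H) (θ : H → ℂ) (hθ : Cfsg.IsIrrCharacter H θ) : (∀ a : H, (a : G) ∈ A → θ a = θ 1) ↔ (∀ a : G, a ∈ A → Cfsg.indFun H θ a = Cfsg.indFun H θ 1) := by
  obtain ⟨n, ρ, _, hρ⟩ := hθ
  have hA : ‹A.Normal› = ‹A.Normal› := rfl
  have hconj : ∀ a ∈ A, ∀ x : G, x⁻¹ * a * x ∈ A := by
    intro a ha x
    have := ‹A.Normal›.conj_mem a ha x⁻¹
    simpa using this
  -- formula for the induced function on `A`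
  have hind : ∀ a (ha : a ∈ A), Cfsg.indFun H θ a =
      (Nat.card H : ℂ)⁻¹ * ∑ x : G, θ ⟨x⁻¹ * a * x, hAH (hconj a ha x)⟩ := by
    intro a ha
    unfold indFun
    congr 1
    apply Finset.sum_congr rfl
    intro x _
    exact extendByZero_of_mem H θ (hAH (hconj a ha x))
  have hone : ∀ x : G, (⟨x⁻¹ * 1 * x, hAH (hconj 1 A.one_mem x)⟩ : H) = 1 := by
    intro x
    ext
    simp
  have hind1 : Cfsg.indFun H θ 1 = (Nat.card H : ℂ)⁻¹ * ∑ _x : G, θ 1 := by
    rw [hind 1 A.one_mem]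
    congr 1
    apply Finset.sum_congr rfl
    intro x _
    rw [hone x]
  have hcardH : (Nat.card H : ℂ)⁻¹ ≠ 0 := by
    apply inv_ne_zero
    exact_mod_cast Nat.card_pos.ne'
  constructor
  · intro h a ha
    rw [hind a ha, hind1]
    congr 1
    apply Finset.sum_congr rfl
    intro x _
    exact h _ (hconj a ha x)
  · intro h a ha
    have h1 := h a ha
    rw [hind (a : G) ha, hind1] at h1
    have h2 := mul_left_cancel₀ hcardH h1
    -- degree and bound
    have hdeg : θ 1 = ((Module.finrank ℂ (Fin n → ℂ) : ℕ) : ℂ) := by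
      rw [← hρ]; exact ρ.char_one
    have hbound : ∀ y : H, (θ y).re ≤ (Module.finrank ℂ (Fin n → ℂ) : ℝ) := by
      intro y
      rw [← hρ]
      exact (Complex.re_le_norm _).trans (Cfsg.Agent.Lib.Helper04.norm_char_le ρ y)
    have h3 := congrArg Complex.re h2
    rw [Complex.re_sum, Complex.re_sum] at h3
    have hre1 : (θ 1).re = (Module.finrank ℂ (Fin n → ℂ) : ℝ) := by
      rw [hdeg]; simp
    -- all terms attain the bound
    have hall : ∀ x ∈ (Finset.univ : Finset G),
        (θ ⟨x⁻¹ * (a : G) * x, hAH (hconj a ha x)⟩).re = (θ 1).re := by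
      apply (Finset.sum_eq_sum_iff_of_le ?_).mp h3
      intro x _
      rw [hre1]
      exact hbound _
    have h4 := hall 1 (Finset.mem_univ 1)
    have h5 : (⟨(1 : G)⁻¹ * (a : G) * 1, hAH (hconj a ha 1)⟩ : H) = a := by
      ext; simp
    rw [h5, hre1] at h4
    have h6 : ‖θ a‖ ≤ (Module.finrank ℂ (Fin n → ℂ) : ℝ) := by
      rw [← hρ]; exact Cfsg.Agent.Lib.Helper04.norm_char_le ρ a
    rw [eq_of_norm_le_of_re_eq h6 h4, hdeg]
    simp

end Cfsg.Agent.S1487
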