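import Cfsg.Statements.S1492
import Cfsg.Agent.Lib.Helper33.Constituent
import Cfsg.Agent.Lib.Helper34.GenChar

set_option autoImplicit false
open Cfsg

namespace Cfsg.Agent.S1492

open Cfsg.Agent.Lib.Helper33 Cfsg.Agent.Lib.Helper34

/-- Let ψ be an irreducible character of the finite group G and B ≤ D ≤ C subgroups with B normal in C, every commutator of an element of D with an element of C lying in B (so D/B is central in C/B), and ψ constant equal to ψ 1 on B. Then ψ(1) ^ 2 * |C| * |D| ≤ |G| ^ 2. -/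
theorem result {G : Type*} [Group G] [Finite G] (ψ : G → ℂ) (hψ : Cfsg.IsIrrCharacter G ψ) (B C D : Subgroup G) (hBD : B ≤ D) (hDC : D ≤ C) (hBn : ∀ c ∈ C, ∀ b ∈ B, c * b * c⁻¹ ∈ B) (hcent : ∀ d ∈ D, ∀ c ∈ C, d * c * d⁻¹ * c⁻¹ ∈ B) (hker : ∀ b ∈ B, ψ b = ψ 1) : ‖ψ 1‖ ^ 2 * (Nat.card C : ℝ) * (Nat.card D : ℝ) ≤ (Nat.card G : ℝ) ^ 2 := by
  classical
  haveI : Fintype G := Fintype.ofFinite G
  haveI : Fintype C := Fintype.ofFinite C
  haveI := Cfsg.Agent.Lib.Helper05.finite_irrCharacter (G := C)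
  haveI : Fintype (IrrCharacter C) := Fintype.ofFinite _
  have hψc : IsCharacter G ψ := Cfsg.Agent.Lib.Helper05.IsIrrCharacter.isCharacter hψ
  obtain ⟨a, ha0, ha⟩ := Cfsg.Agent.Lib.Helper05.exists_pos_degree hψ
  -- restriction to `C`
  set χ : C → ℂ := fun c => ψ c with hχdef
  have hχ : IsCharacter C χ := Cfsg.Agent.Lib.Helper05.isCharacter_restrict C hψc
  have hχ0 : χ ≠ 0 := by
    intro h
    have h1 : χ 1 = 0 := by rw [h]; rfl
    have h2 : ψ 1 = 0 := h1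
    rw [ha] at h2
    have : (a : ℂ) ≠ 0 := by exact_mod_cast ha0.ne'
    exact this h2
  obtain ⟨φ, hφ⟩ := exists_irr_constituent hχ hχ0
  have hφirr : IsIrrCharacter C (φ : C → ℂ) := φ.2
  -- Frobenius reciprocity
  have hψcf : IsClassFunction G ψ := by
    obtain ⟨n, ρ, _, rfl⟩ := hψ
    intro g h
    exact ρ.char_conj g h
  have hfrob := classInner_indFun_left C (φ : C → ℂ) ψ hψcf
  have hne : classInner (indFun C (φ : C → ℂ)) ψ ≠ 0 := by
    rw [hfrob, ← classInner_conj_symm]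
    intro h
    apply hφ
    have := congrArg (starRingEnd ℂ) h
    simpa using this
  have hindchar : IsCharacter G (indFun C (φ : C → ℂ)) :=
    isCharacter_indFun C (Cfsg.Agent.Lib.Helper05.IsIrrCharacter.isCharacter hφirr)
  have hdeg := degree_le_of_constituent hindchar hψ hne
  rw [indFun_one] at hdeg
  obtain ⟨f, hf0, hf⟩ := Cfsg.Agent.Lib.Helper05.exists_pos_degree hφirr
  rw [ha, hf] at hdeg
  have hdeg' : (a : ℝ) ≤ (C.index : ℝ) * (f : ℝ) := by
    have : ((C.index : ℂ) * (f : ℂ)).re = (C.index : ℝ) * (f : ℝ) := by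
      simp
    rw [this] at hdeg
    simpa using hdeg
  -- kernel contains `B`
  have hφB : ∀ b : C, (b : G) ∈ B → (φ : C → ℂ) b = (φ : C → ℂ) 1 := by
    intro b hb
    apply constituent_apply_eq hχ hφirr hφ
    exact hker b hb
  -- `D` acts by scalars
  have hφD : ∀ d : C, (d : G) ∈ D → ‖(φ : C → ℂ) d‖ = (f : ℝ) := by
    intro d hd
    have := norm_eq_degree_of_commutator_ker hφirr (d := d) (fun c => hφB _ (hcent d hd c c.2))
    rw [this, hf]; simp
  -- counting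
  have hsum := sum_norm_sq_irr hφirr
  have hDle : (Nat.card D : ℝ) * (f : ℝ) ^ 2 ≤ (Nat.card C : ℝ) := by
    rw [← hsum]
    have h1 : ∑ c ∈ Finset.univ.filter (fun c : C => (c : G) ∈ D), ‖(φ : C → ℂ) c‖ ^ 2 ≤
        ∑ c : C, ‖(φ : C → ℂ) c‖ ^ 2 :=
      Finset.sum_le_sum_of_subset_of_nonneg (Finset.filter_subset _ _)
        (fun _ _ _ => sq_nonneg _)
    refine le_trans ?_ h1
    have h2 : ∀ c ∈ Finset.univ.filter (fun c : C => (c : G) ∈ D),
        ‖(φ : C → ℂ) c‖ ^ 2 = (f : ℝ) ^ 2 := by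
      intro c hc
      rw [hφD c (Finset.mem_filter.mp hc).2]
    rw [Finset.sum_congr rfl h2, Finset.sum_const, nsmul_eq_mul]
    have h3 : (Finset.univ.filter (fun c : C => (c : G) ∈ D)).card = Nat.card D := by
      rw [← Fintype.card_subtype, ← Nat.card_eq_fintype_card]
      exact Nat.card_congr (Subgroup.subgroupOfEquivOfLe hDC).toEquiv
    rw [h3]
  -- combine
  have hnorm : ‖ψ 1‖ = (a : ℝ) := by rw [ha]; simp
  rw [hnorm]
  have hGC : (Nat.card G : ℝ) = (Nat.card C : ℝ) * (C.index : ℝ) := by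
    rw [← C.card_mul_index]; push_cast; ring
  rw [hGC]
  have ha' : (0 : ℝ) ≤ (a : ℝ) := Nat.cast_nonneg a
  have hf' : (0 : ℝ) ≤ (f : ℝ) := Nat.cast_nonneg f
  have ht' : (0 : ℝ) ≤ (C.index : ℝ) := Nat.cast_nonneg _
  have hC' : (0 : ℝ) ≤ (Nat.card C : ℝ) := Nat.cast_nonneg _
  have hD' : (0 : ℝ) ≤ (Nat.card D : ℝ) := Nat.cast_nonneg _
  have hsq : (a : ℝ) ^ 2 ≤ ((C.index : ℝ) * (f : ℝ)) ^ 2 := by
    apply pow_le_pow_left₀ ha' hdeg'
  calc (a : ℝ) ^ 2 * (Nat.card C : ℝ) * (Nat.card D : ℝ)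
      ≤ ((C.index : ℝ) * (f : ℝ)) ^ 2 * (Nat.card C : ℝ) * (Nat.card D : ℝ) := by
        apply mul_le_mul_of_nonneg_right _ hD'
        apply mul_le_mul_of_nonneg_right hsq hC'
    _ = (C.index : ℝ) ^ 2 * (Nat.card C : ℝ) * ((Nat.card D : ℝ) * (f : ℝ) ^ 2) := by ring
    _ ≤ (C.index : ℝ) ^ 2 * (Nat.card C : ℝ) * (Nat.card C : ℝ) := by
        apply mul_le_mul_of_nonneg_left hDle
        positivity
    _ = ((Nat.card C : ℝ) * (C.index : ℝ)) ^ 2 := by ring

end Cfsg.Agent.S1492
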