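import Cfsg.Statements.S1515
-- import your own Cfsg.Agent.* helpers here
import Cfsg.Agent.Lib.Helper34.GenChar
import Cfsg.Agent.Lib.Helper34.Coherence

set_option autoImplicit false
open Cfsg

namespace Cfsg.Agent.S1515

open Cfsg.Agent.Lib.Helper34


/-- Let (S, τ, R) be a coherence system from L to G, χ ∈ S, and ψ an integer combination of S with ⟨χ, ψ⟩ = ⟨conj χ, ψ⟩ = 0. Let τ₁ be a linear isometry on the integer combinations of χ − ψ and χ − conj χ, with virtual-character values, agreeing with τ on integer multiples of χ − conj χ. Then the sum over α ∈ R χ of the squared absolute values of ⟨τ₁(χ − ψ), α⟩ is at least ⟨χ, χ⟩; and if ⟨τ₁(χ − ψ), τ₁(χ − ψ)⟩ minus that sum is at least ⟨ψ, ψ⟩, then the sum equals ⟨χ, χ⟩ and every ⟨τ₁(χ − ψ), α⟩ with α ∈ R χ is 0 or 1. -/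
theorem result {L : Type*} [Group L] [Fintype L] {G : Type*} [Group G] [Fintype G] (S : Set (L → ℂ)) (τ : (L → ℂ) → (G → ℂ)) (R : (L → ℂ) → Finset (G → ℂ)) (hS : Cfsg.IsCoherenceSystem S τ R) (χ : L → ℂ) (hχ : χ ∈ S) (ψ : L → ℂ) (hψ : ψ ∈ Cfsg.zspan S) (h1 : Cfsg.classInner χ ψ = 0) (h2 : Cfsg.classInner (Cfsg.conjFun χ) ψ = 0) (τ₁ : (L → ℂ) → (G → ℂ)) (hτ₁ : Cfsg.IsLinearIsometryOn (Cfsg.zspan {χ - ψ, χ - Cfsg.conjFun χ}) τ₁) (hagree : ∀ n : ℤ, τ₁ (n • (χ - Cfsg.conjFun χ)) = τ (n • (χ - Cfsg.conjFun χ))) : (Cfsg.classInner χ χ).re ≤ ∑ α ∈ R χ, ‖Cfsg.classInner (τ₁ (χ - ψ)) α‖ ^ 2 ∧ ((Cfsg.classInner ψ ψ).re ≤ (Cfsg.classInner (τ₁ (χ - ψ)) (τ₁ (χ - ψ))).re - ∑ α ∈ R χ, ‖Cfsg.classInner (τ₁ (χ - ψ)) α‖ ^ 2 → (∑ α ∈ R χ, ‖Cfsg.classInner (τ₁ (χ - ψ)) α‖ ^ 2 = (Cfsg.classInner χ χ).re ∧ ∀ α ∈ R χ, Cfsg.classInner (τ₁ (χ - ψ)) α = 0 ∨ Cfsg.classInner (τ₁ (χ - ψ)) α = 1)) := by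
  classical
  set β := τ₁ (χ - ψ) with hβ
  have m1 : χ - ψ ∈ Cfsg.zspan ({χ - ψ, χ - Cfsg.conjFun χ} : Set (L → ℂ)) :=
    mem_zspan_of_mem (by simp)
  have m2 : χ - Cfsg.conjFun χ ∈ Cfsg.zspan ({χ - ψ, χ - Cfsg.conjFun χ} : Set (L → ℂ)) :=
    mem_zspan_of_mem (by simp)
  have hβgen : Cfsg.IsGeneralizedCharacter G β := LIO.isGenChar hτ₁ m1
  -- orthogonality facts
  have o1 : Cfsg.classInner χ (Cfsg.conjFun χ) = 0 :=
    hS.orthogonal χ hχ _ (hS.conj_mem χ hχ) (hS.conj_ne χ hχ).symm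
  have o2 : Cfsg.classInner ψ χ = 0 := by
    rw [← classInner_conj_symm, h1, map_zero]
  have o3 : Cfsg.classInner ψ (Cfsg.conjFun χ) = 0 := by
    rw [← classInner_conj_symm, h2, map_zero]
  -- sum of the coefficients
  have hsum : ∑ α ∈ R χ, Cfsg.classInner β α = Cfsg.classInner χ χ := by
    rw [← classInner_sum_right, ← hS.sum_eq χ hχ]
    have := hagree 1
    rw [one_zsmul] at this
    rw [← this, hβ, LIO.inner_eq hτ₁ m1 m2, classInner_sub_left, classInner_sub_right,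
      classInner_sub_right, o1, o2, o3]
    ring
  -- norm of β
  have hββ : Cfsg.classInner β β = Cfsg.classInner χ χ + Cfsg.classInner ψ ψ := by
    rw [hβ, LIO.inner_eq hτ₁ m1 m1, classInner_sub_left, classInner_sub_right,
      classInner_sub_right, h1, o2]
    ring
  -- integrality of the coefficients
  have hint : ∀ α ∈ R χ, ∃ z : ℤ, Cfsg.classInner β α = z :=
    fun α hα => classInner_genChar_int hβgen (hS.virtual χ hχ α hα)
  choose! z hz using hint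
  have hnormsq : ∀ α ∈ R χ, ‖Cfsg.classInner β α‖ ^ 2 = ((z α : ℝ)) ^ 2 := by
    intro α hα
    rw [hz α hα, Complex.norm_intCast, sq_abs]
  have hsumre : ∑ α ∈ R χ, (z α : ℝ) = (Cfsg.classInner χ χ).re := by
    rw [← hsum, Complex.re_sum]
    apply Finset.sum_congr rfl
    intro α hα
    rw [hz α hα]
    simp
  have hsq : ∑ α ∈ R χ, ‖Cfsg.classInner β α‖ ^ 2 = ∑ α ∈ R χ, ((z α : ℝ)) ^ 2 :=
    Finset.sum_congr rfl hnormsq
  have hle : ∀ α ∈ R χ, (z α : ℝ) ≤ ((z α : ℝ)) ^ 2 := by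
    intro α _
    have h : z α ≤ z α ^ 2 := by
      rcases le_or_gt (z α) 0 with h0 | h0
      · nlinarith [sq_nonneg (z α)]
      · nlinarith
    exact_mod_cast h
  refine ⟨?_, ?_⟩
  · rw [hsq, ← hsumre]
    exact Finset.sum_le_sum hle
  · intro hhyp
    rw [hββ, Complex.add_re, hsq] at hhyp
    have hge : ∑ α ∈ R χ, ((z α : ℝ)) ^ 2 ≤ ∑ α ∈ R χ, (z α : ℝ) := by
      rw [hsumre]; linarith
    have heq : ∑ α ∈ R χ, (z α : ℝ) = ∑ α ∈ R χ, ((z α : ℝ)) ^ 2 :=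
      le_antisymm (Finset.sum_le_sum hle) hge
    refine ⟨?_, ?_⟩
    · rw [hsq, ← heq, hsumre]
    · intro α hα
      have h3 := (Finset.sum_eq_sum_iff_of_le hle).mp heq α hα
      have h4 : (z α : ℝ) * ((z α : ℝ) - 1) = 0 := by linarith [h3]
      rw [hz α hα]
      rcases mul_eq_zero.mp h4 with h5 | h5
      · left
        have : z α = 0 := by exact_mod_cast h5
        rw [this]; simp
      · right
        have : (z α : ℝ) = 1 := by linarith
        have : z α = 1 := by exact_mod_cast this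
        rw [this]; simp

end Cfsg.Agent.S1515
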