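import Cfsg.Statements.S1517
-- import your own Cfsg.Agent.* helpers here
import Cfsg.Agent.Lib.Helper05.CharDecomp
import Cfsg.Agent.Lib.Helper34.GenChar
import Cfsg.Agent.Lib.Helper34.Coherence
import Cfsg.Agent.Lib.Helper34.Coherence2
import Cfsg.Agent.Lib.Helper34.OrthoExt
import Cfsg.Agent.Lib.Helper34.Bessel
import Cfsg.Agent.S1515

set_option autoImplicit false
open Cfsg

namespace Cfsg.Agent.S1517

open Cfsg.Agent.Lib.Helper34

section

variable {L : Type*} [Group L] [Fintype L] {G : Type*} [Group G] [Fintype G]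

theorem conjFun_conjFun (φ : L → ℂ) : Cfsg.conjFun (Cfsg.conjFun φ) = φ := by
  funext x
  simp [Cfsg.conjFun]

/-- the split of `τ (χ - φ)` along `R χ` and `R φ` -/
theorem split_lemma (S : Set (L → ℂ)) (τ : (L → ℂ) → (G → ℂ)) (R : (L → ℂ) → Finset (G → ℂ))
    (hS : Cfsg.IsCoherenceSystem S τ R) (hdeg : ∀ φ ∈ S, ∀ ψ ∈ S, φ 1 = ψ 1)
    (χ : L → ℂ) (hχ : χ ∈ S) (φ : L → ℂ) (hφ : φ ∈ S) (hne1 : φ ≠ χ)
    (hne2 : φ ≠ Cfsg.conjFun χ) :
    (∑ α ∈ R χ, ‖Cfsg.classInner (τ (χ - φ)) α‖ ^ 2 = (Cfsg.classInner χ χ).re) ∧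
    (∀ α ∈ R χ, Cfsg.classInner (τ (χ - φ)) α = 0 ∨ Cfsg.classInner (τ (χ - φ)) α = 1) ∧
    τ (χ - φ) = ∑ α ∈ R χ, Cfsg.classInner (τ (χ - φ)) α • α
      + ∑ α ∈ R φ, Cfsg.classInner (τ (χ - φ)) α • α := by
  classical
  have hχc := hS.conj_mem χ hχ
  have hφc := hS.conj_mem φ hφ
  have hne3 : Cfsg.conjFun φ ≠ χ := by
    intro h
    apply hne2
    rw [← h, conjFun_conjFun]
  have o1 : Cfsg.classInner χ φ = 0 := hS.orthogonal χ hχ φ hφ (Ne.symm hne1)
  have o1' : Cfsg.classInner φ χ = 0 := hS.orthogonal φ hφ χ hχ hne1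
  have o2 : Cfsg.classInner (Cfsg.conjFun χ) φ = 0 :=
    hS.orthogonal _ hχc φ hφ (Ne.symm hne2)
  have o2' : Cfsg.classInner (Cfsg.conjFun φ) χ = 0 := hS.orthogonal _ hφc χ hχ hne3
  have o3 : Cfsg.classInner φ (Cfsg.conjFun χ) = 0 := hS.orthogonal φ hφ _ hχc hne2
  have o3' : Cfsg.classInner χ (Cfsg.conjFun φ) = 0 := hS.orthogonal χ hχ _ hφc (Ne.symm hne3)
  -- memberships
  have mdiff : ∀ a ∈ S, ∀ b ∈ S, a - b ∈ Cfsg.zspanOn S ({1}ᶜ : Set L) := by
    intro a ha b hb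
    rw [mem_zspanOn_compl_one_iff]
    refine ⟨sub_mem_zspan (mem_zspan_of_mem ha) (mem_zspan_of_mem hb), ?_⟩
    rw [Pi.sub_apply, hdeg a ha b hb, sub_self]
  have m1 := mdiff χ hχ φ hφ
  have m2 := mdiff φ hφ χ hχ
  have hsub1 : Cfsg.zspan ({χ - φ, χ - Cfsg.conjFun χ} : Set (L → ℂ)) ⊆
      Cfsg.zspanOn S ({1}ᶜ : Set L) := by
    apply zspan_subset_zspanOn
    rintro x (rfl | rfl)
    · exact m1
    · exact mdiff χ hχ _ hχc
  have hsub2 : Cfsg.zspan ({φ - χ, φ - Cfsg.conjFun φ} : Set (L → ℂ)) ⊆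
      Cfsg.zspanOn S ({1}ᶜ : Set L) := by
    apply zspan_subset_zspanOn
    rintro x (rfl | rfl)
    · exact m2
    · exact mdiff φ hφ _ hφc
  set β := τ (χ - φ) with hβ
  have hneg : τ (φ - χ) = -β := by
    have : φ - χ = -(χ - φ) := by abel
    rw [this, LIO.map_neg hS.isometry m1]
  have hββ : Cfsg.classInner β β = Cfsg.classInner χ χ + Cfsg.classInner φ φ := by
    rw [hβ, LIO.inner_eq hS.isometry m1 m1, classInner_sub_left, classInner_sub_right,
      classInner_sub_right, o1, o1']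
    ring
  obtain ⟨ha1, ha2⟩ := Cfsg.Agent.S1515.result S τ R hS χ hχ φ (mem_zspan_of_mem hφ) o1 o2 τ
    (LIO.mono hS.isometry hsub1) (fun _ => rfl)
  obtain ⟨hb1, -⟩ := Cfsg.Agent.S1515.result S τ R hS φ hφ χ (mem_zspan_of_mem hχ) o1' o2' τ
    (LIO.mono hS.isometry hsub2) (fun _ => rfl)
  rw [← hβ] at ha1 ha2
  rw [hneg] at hb1
  have hb1' : (Cfsg.classInner φ φ).re ≤ ∑ α ∈ R φ, ‖Cfsg.classInner β α‖ ^ 2 := by
    convert hb1 using 2
    rw [classInner_neg_left, norm_neg]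
  -- orthogonality of R χ and R φ
  have hdisj1 : ∀ a ∈ R φ, ∀ b ∈ R χ, Cfsg.classInner a b = 0 :=
    hS.disjoint χ hχ φ hφ o1' o3
  have hdisj2 : ∀ a ∈ R χ, ∀ b ∈ R φ, Cfsg.classInner a b = 0 :=
    hS.disjoint φ hφ χ hχ o1 o3'
  have hdisjoint : Disjoint (R χ) (R φ) := by
    rw [Finset.disjoint_left]
    intro a ha hb
    have h1 := hdisj2 a ha a hb
    rw [hS.orthonormal χ hχ a ha a ha, if_pos rfl] at h1
    exact one_ne_zero h1
  have horthT : ∀ i ∈ R χ ∪ R φ, ∀ j ∈ R χ ∪ R φ,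
      Cfsg.classInner ((fun x => x) i) ((fun x => x) j) = if i = j then 1 else 0 := by
    intro i hi j hj
    simp only
    rcases Finset.mem_union.mp hi with h | h
    · rcases Finset.mem_union.mp hj with h' | h'
      · exact hS.orthonormal χ hχ i h j h'
      · rw [hdisj2 i h j h', if_neg]
        rintro rfl
        exact (Finset.disjoint_left.mp hdisjoint h) h'
    · rcases Finset.mem_union.mp hj with h' | h'
      · rw [hdisj1 i h j h', if_neg]
        rintro rfl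
        exact (Finset.disjoint_left.mp hdisjoint h') h
      · exact hS.orthonormal φ hφ i h j h'
  have hpy := pythagoras_re (R χ ∪ R φ) (fun x => x) horthT β
  rw [Finset.sum_union hdisjoint, hββ, Complex.add_re] at hpy
  set r := (Cfsg.classInner (orthoPart (R χ ∪ R φ) (fun x => x) β)
    (orthoPart (R χ ∪ R φ) (fun x => x) β)).re with hr
  have hr0 : 0 ≤ r := classInner_self_re_nonneg _
  have hx : ∑ α ∈ R χ, ‖Cfsg.classInner β α‖ ^ 2 = (Cfsg.classInner χ χ).re := by linarith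
  have hy : ∑ α ∈ R φ, ‖Cfsg.classInner β α‖ ^ 2 = (Cfsg.classInner φ φ).re := by linarith
  have hrz : r = 0 := by linarith
  refine ⟨hx, ?_, ?_⟩
  · apply (ha2 ?_).2
    rw [hββ, Complex.add_re, hx]
    linarith
  · have h0 : orthoPart (R χ ∪ R φ) (fun x => x) β = 0 := by
      rw [← classInner_self_eq_zero]
      apply Complex.ext
      · rw [← hr, hrz]; rfl
      · rw [classInner_self_im]; rfl
    have := eq_sum_of_orthoPart_eq_zero (R χ ∪ R φ) (fun x => x) β h0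
    rw [Finset.sum_union hdisjoint] at this
    exact this


/-- inner product of sums over subsets of an orthonormal finite set -/
theorem inner_sum_sum (T : Finset (G → ℂ))
    (hT : ∀ a ∈ T, ∀ b ∈ T, Cfsg.classInner a b = if a = b then 1 else 0)
    (E F : Finset (G → ℂ)) (hE : E ⊆ T) (hF : F ⊆ T) :
    Cfsg.classInner (∑ a ∈ E, a) (∑ a ∈ F, a) = ((E ∩ F).card : ℂ) := by
  classical
  rw [classInner_sum_left]
  have h1 : ∀ a ∈ E, Cfsg.classInner a (∑ b ∈ F, b) = if a ∈ F then 1 else 0 := by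
    intro a ha
    rw [classInner_sum_right]
    rw [Finset.sum_congr rfl (fun b hb => hT a (hE ha) b (hF hb))]
    rw [Finset.sum_ite_eq]
  rw [Finset.sum_congr rfl h1, Finset.sum_boole, Finset.filter_mem_eq_inter]

theorem inner_sum_right_eq_zero (T : Finset (G → ℂ)) (a : (G → ℂ) → ℂ) (θ : G → ℂ)
    (h : ∀ b ∈ T, Cfsg.classInner θ b = 0) :
    Cfsg.classInner θ (∑ b ∈ T, a b • b) = 0 := by
  rw [classInner_sum_right]
  apply Finset.sum_eq_zero
  intro b hb
  rw [classInner_smul_right, h b hb, mul_zero]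

theorem key_X (S : Set (L → ℂ)) (τ : (L → ℂ) → (G → ℂ)) (R : (L → ℂ) → Finset (G → ℂ))
    (hS : Cfsg.IsCoherenceSystem S τ R) (hdeg : ∀ φ ∈ S, ∀ ψ ∈ S, φ 1 = ψ 1)
    (χ : L → ℂ) (hχ : χ ∈ S) :
    ∃ X : G → ℂ, Cfsg.IsGeneralizedCharacter G X ∧
      Cfsg.classInner X X = Cfsg.classInner χ χ ∧
      ∀ φ ∈ S, φ ≠ χ → Cfsg.classInner X (τ (χ - φ)) = Cfsg.classInner χ χ := by
  classical
  have hχc := hS.conj_mem χ hχ
  have mdiff : ∀ a ∈ S, ∀ b ∈ S, a - b ∈ Cfsg.zspanOn S ({1}ᶜ : Set L) := by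
    intro a ha b hb
    rw [mem_zspanOn_compl_one_iff]
    refine ⟨sub_mem_zspan (mem_zspan_of_mem ha) (mem_zspan_of_mem hb), ?_⟩
    rw [Pi.sub_apply, hdeg a ha b hb, sub_self]
  by_cases hcase : ∃ φ₀ ∈ S, φ₀ ≠ χ ∧ φ₀ ≠ Cfsg.conjFun χ
  · obtain ⟨φ₀, hφ₀, hne1, hne2⟩ := hcase
    obtain ⟨hx, h01, hsplit⟩ := split_lemma S τ R hS hdeg χ hχ φ₀ hφ₀ hne1 hne2
    have hφ₀c := hS.conj_mem φ₀ hφ₀
    have hne3 : Cfsg.conjFun φ₀ ≠ χ := by
      intro h
      apply hne2
      rw [← h, conjFun_conjFun]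
    set β₀ := τ (χ - φ₀) with hβ₀
    set X : G → ℂ := ∑ α ∈ R χ, Cfsg.classInner β₀ α • α with hX
    set Y : G → ℂ := ∑ α ∈ R φ₀, Cfsg.classInner β₀ α • α with hY
    have hcreal : ∀ α ∈ R χ, (starRingEnd ℂ) (Cfsg.classInner β₀ α) = Cfsg.classInner β₀ α := by
      intro α hα
      rcases h01 α hα with h | h <;> simp [h]
    have hcsq : ∀ α ∈ R χ, Cfsg.classInner β₀ α * Cfsg.classInner β₀ α = Cfsg.classInner β₀ α := by
      intro α hα
      rcases h01 α hα with h | h <;> simp [h]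
    have hcnorm : ∀ α ∈ R χ, ((‖Cfsg.classInner β₀ α‖ ^ 2 : ℝ) : ℂ) = Cfsg.classInner β₀ α := by
      intro α hα
      rcases h01 α hα with h | h <;> simp [h]
    have hsumc : ∑ α ∈ R χ, Cfsg.classInner β₀ α = Cfsg.classInner χ χ := by
      have h1 : ((∑ α ∈ R χ, ‖Cfsg.classInner β₀ α‖ ^ 2 : ℝ) : ℂ)
          = (((Cfsg.classInner χ χ).re : ℝ) : ℂ) := by rw [hx]
      rw [Complex.ofReal_sum, Finset.sum_congr rfl hcnorm] at h1
      rw [h1]
      apply Complex.ext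
      · simp
      · simp [classInner_self_im]
    have hXθ : ∀ θ, Cfsg.classInner X θ = ∑ α ∈ R χ, Cfsg.classInner β₀ α * Cfsg.classInner α θ := by
      intro θ
      rw [hX, classInner_sum_left]
      apply Finset.sum_congr rfl
      intro α _
      rw [classInner_smul_left]
    have hXα : ∀ α ∈ R χ, Cfsg.classInner X α = Cfsg.classInner β₀ α := by
      intro α hα
      rw [hXθ, Finset.sum_eq_single α]
      · rw [hS.orthonormal χ hχ α hα α hα, if_pos rfl, mul_one]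
      · intro b hb hbα
        rw [hS.orthonormal χ hχ b hb α hα, if_neg hbα, mul_zero]
      · intro h; exact absurd hα h
    have hαX : ∀ α ∈ R χ, Cfsg.classInner α X = Cfsg.classInner β₀ α := by
      intro α hα
      rw [← classInner_conj_symm, hXα α hα, hcreal α hα]
    have hXX : Cfsg.classInner X X = Cfsg.classInner χ χ := by
      rw [hXθ X, ← hsumc]
      apply Finset.sum_congr rfl
      intro α hα
      rw [hαX α hα, hcsq α hα]
    have hXgen : Cfsg.IsGeneralizedCharacter G X := by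
      rw [hX]
      apply isGeneralizedCharacter_sum
      intro α hα
      rcases h01 α hα with h | h
      · rw [h, zero_smul]; exact isGeneralizedCharacter_zero
      · rw [h, one_smul]; exact hS.virtual χ hχ α hα
    -- orthogonality between R χ and R φ₀
    have o1 : Cfsg.classInner χ φ₀ = 0 := hS.orthogonal χ hχ φ₀ hφ₀ (Ne.symm hne1)
    have o1' : Cfsg.classInner φ₀ χ = 0 := hS.orthogonal φ₀ hφ₀ χ hχ hne1
    have o3' : Cfsg.classInner χ (Cfsg.conjFun φ₀) = 0 :=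
      hS.orthogonal χ hχ _ hφ₀c (Ne.symm hne3)
    have o3 : Cfsg.classInner φ₀ (Cfsg.conjFun χ) = 0 := hS.orthogonal φ₀ hφ₀ _ hχc hne2
    have hdisj2 : ∀ a ∈ R χ, ∀ b ∈ R φ₀, Cfsg.classInner a b = 0 :=
      hS.disjoint φ₀ hφ₀ χ hχ o1 o3'
    have hdisj1 : ∀ a ∈ R φ₀, ∀ b ∈ R χ, Cfsg.classInner a b = 0 :=
      hS.disjoint χ hχ φ₀ hφ₀ o1' o3
    have hXRφ₀ : ∀ b ∈ R φ₀, Cfsg.classInner X b = 0 := by
      intro b hb
      rw [hXθ]
      apply Finset.sum_eq_zero
      intro α hα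
      rw [hdisj2 α hα b hb, mul_zero]
    have hXβ₀ : Cfsg.classInner X β₀ = Cfsg.classInner χ χ := by
      rw [hXθ β₀, ← hsumc]
      apply Finset.sum_congr rfl
      intro α hα
      rw [← classInner_conj_symm β₀ α, hcreal α hα, hcsq α hα]
    refine ⟨X, hXgen, hXX, ?_⟩
    intro φ hφ hφχ
    by_cases hc1 : φ = Cfsg.conjFun χ
    · -- φ = conj χ
      rw [hc1, hS.sum_eq χ hχ, classInner_sum_right, Finset.sum_congr rfl hXα, hsumc]
    by_cases hc2 : φ = φ₀
    · rw [hc2]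
      exact hXβ₀
    by_cases hc3 : φ = Cfsg.conjFun φ₀
    · have hdec : χ - Cfsg.conjFun φ₀ = (χ - φ₀) + (φ₀ - Cfsg.conjFun φ₀) := by abel
      rw [hc3, hdec, LIO.map_add hS.isometry (mdiff χ hχ φ₀ hφ₀) (mdiff φ₀ hφ₀ _ hφ₀c),
        hS.sum_eq φ₀ hφ₀, classInner_add_right, ← hβ₀, hXβ₀, classInner_sum_right,
        Finset.sum_eq_zero (fun b hb => hXRφ₀ b hb), add_zero]
    · -- general φ
      have hφc := hS.conj_mem φ hφ
      obtain ⟨-, -, hsplitφ⟩ := split_lemma S τ R hS hdeg χ hχ φ hφ hφχ hc1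
      have hXeq : X = β₀ - Y := by
        rw [eq_sub_iff_add_eq]
        exact hsplit.symm
      have p1 : Cfsg.classInner φ₀ φ = 0 := hS.orthogonal φ₀ hφ₀ φ hφ (Ne.symm hc2)
      have hne4 : φ₀ ≠ Cfsg.conjFun φ := by
        intro h
        apply hc3
        rw [h, conjFun_conjFun]
      have p2 : Cfsg.classInner φ₀ (Cfsg.conjFun φ) = 0 := hS.orthogonal φ₀ hφ₀ _ hφc hne4
      have p3 : Cfsg.classInner χ φ = 0 := hS.orthogonal χ hχ φ hφ (Ne.symm hφχ)
      have hdisj3 : ∀ a ∈ R φ₀, ∀ b ∈ R φ, Cfsg.classInner a b = 0 :=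
        hS.disjoint φ hφ φ₀ hφ₀ p1 p2
      have hββ : Cfsg.classInner β₀ (τ (χ - φ)) = Cfsg.classInner χ χ := by
        rw [hβ₀, LIO.inner_eq hS.isometry (mdiff χ hχ φ₀ hφ₀) (mdiff χ hχ φ hφ),
          classInner_sub_left, classInner_sub_right, classInner_sub_right, p1, p3, o1']
        ring
      have hYβ : Cfsg.classInner Y (τ (χ - φ)) = 0 := by
        rw [hY, classInner_sum_left]
        apply Finset.sum_eq_zero
        intro a ha
        rw [classInner_smul_left, hsplitφ, classInner_add_right,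
          inner_sum_right_eq_zero (R χ) _ a (fun b hb => hdisj1 a ha b hb),
          inner_sum_right_eq_zero (R φ) _ a (fun b hb => hdisj3 a ha b hb)]
        ring
      rw [hXeq, classInner_sub_left, hββ, hYβ, sub_zero]
  · -- S ⊆ {χ, conj χ}
    push Not at hcase
    obtain ⟨k, hk⟩ := Cfsg.Agent.Lib.Helper83.classInner_char_nat (hS.isCharacter χ hχ)
      (hS.isCharacter χ hχ)
    have o1 : Cfsg.classInner χ (Cfsg.conjFun χ) = 0 :=
      hS.orthogonal χ hχ _ hχc (hS.conj_ne χ hχ).symm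
    have o2 : Cfsg.classInner (Cfsg.conjFun χ) χ = 0 :=
      hS.orthogonal _ hχc χ hχ (hS.conj_ne χ hχ)
    have hcc : Cfsg.classInner (Cfsg.conjFun χ) (Cfsg.conjFun χ) = k := by
      have := Cfsg.Agent.Lib.Helper05.classInner_conj_conj χ χ
      rw [hk] at this
      simp only [Complex.conj_natCast] at this
      exact this
    have hcard : ((R χ).card : ℂ) = 2 * k := by
      have h1 := inner_sum_sum (R χ) (hS.orthonormal χ hχ) (R χ) (R χ) subset_rfl subset_rfl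
      rw [Finset.inter_self, ← hS.sum_eq χ hχ,
        LIO.inner_eq hS.isometry (mdiff χ hχ _ hχc) (mdiff χ hχ _ hχc),
        classInner_sub_left, classInner_sub_right, classInner_sub_right, o1, o2, hk, hcc] at h1
      rw [← h1]
      ring
    have hcard' : (R χ).card = 2 * k := by exact_mod_cast hcard
    obtain ⟨E, hE, hEcard⟩ := Finset.exists_subset_card_eq (show k ≤ (R χ).card by omega)
    refine ⟨∑ a ∈ E, a, ?_, ?_, ?_⟩
    · apply isGeneralizedCharacter_sum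
      intro a ha
      exact hS.virtual χ hχ a (hE ha)
    · rw [inner_sum_sum (R χ) (hS.orthonormal χ hχ) E E hE hE, Finset.inter_self, hEcard, hk]
    · intro φ hφ hφχ
      have : φ = Cfsg.conjFun χ := by
        by_contra h
        exact h (hcase φ hφ hφχ)
      rw [this, hS.sum_eq χ hχ,
        inner_sum_sum (R χ) (hS.orthonormal χ hχ) E (R χ) hE subset_rfl,
        Finset.inter_eq_left.mpr hE, hEcard, hk]

/-- a pairwise orthogonal set of nonzero functions is finite -/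
theorem finite_of_orthogonal (S : Set (L → ℂ))
    (horth : ∀ χ ∈ S, ∀ φ ∈ S, χ ≠ φ → Cfsg.classInner χ φ = 0) (hne : ∀ χ ∈ S, χ ≠ 0) :
    S.Finite := by
  classical
  have hli : LinearIndependent ℂ (fun φ : S => (φ : L → ℂ)) := by
    rw [linearIndependent_iff']
    intro s g hg i hi
    have h1 : Cfsg.classInner (∑ j ∈ s, g j • (j : L → ℂ)) (i : L → ℂ) = 0 := by
      rw [hg, classInner_zero_left]
    rw [classInner_sum_left, Finset.sum_eq_single i] at h1
    · rw [classInner_smul_left] at h1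
      rcases mul_eq_zero.mp h1 with h | h
      · exact h
      · exact absurd ((classInner_self_eq_zero _).mp h) (hne i i.2)
    · intro j _ hji
      rw [classInner_smul_left, horth j j.2 i i.2 (fun h => hji (Subtype.ext h)), mul_zero]
    · intro h; exact absurd hi h
  have : Finite S := hli.finite_of_isNoetherian
  exact Set.finite_coe_iff.mp this

theorem char_eq_zero_of_one_eq_zero {χ : L → ℂ} (h : Cfsg.IsCharacter L χ) (h1 : χ 1 = 0) :
    χ = 0 := by
  obtain ⟨n, ρ, rfl⟩ := h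
  rw [Cfsg.Agent.Lib.Helper83.rep_char_one] at h1
  have hn : n = 0 := by exact_mod_cast h1
  subst hn
  funext g
  have : ρ g = 0 := Subsingleton.elim _ _
  simp [Representation.character, this]

end

/-- Let (S, τ, R) be a coherence system from L to G such that φ 1 = ψ 1 for all φ, ψ ∈ S. Then (S, L minus 1, τ) is coherent. -/
theorem result {L : Type*} [Group L] [Fintype L] {G : Type*} [Group G] [Fintype G] (S : Set (L → ℂ)) (τ : (L → ℂ) → (G → ℂ)) (R : (L → ℂ) → Finset (G → ℂ)) (hS : Cfsg.IsCoherenceSystem S τ R) (hdeg : ∀ φ ∈ S, ∀ ψ ∈ S, φ 1 = ψ 1) : Cfsg.IsCoherent S {1}ᶜ τ := by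
  classical
  obtain ⟨χ, hχ⟩ := hS.nonempty
  obtain ⟨X, hXgen, hXX, hXβ⟩ := key_X S τ R hS hdeg χ hχ
  have hχc := hS.conj_mem χ hχ
  have hne0 : ∀ φ ∈ S, φ ≠ 0 := by
    intro φ hφ h0
    apply hS.conj_ne φ hφ
    rw [h0]
    funext x
    simp [Cfsg.conjFun]
  have hfin : S.Finite := finite_of_orthogonal S hS.orthogonal hne0
  set T : Finset (L → ℂ) := hfin.toFinset with hTdef
  have hT : (↑T : Set (L → ℂ)) = S := hfin.coe_toFinset
  have hmemT : ∀ φ, φ ∈ T ↔ φ ∈ S := fun φ => hfin.mem_toFinset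
  have horthT : ∀ φ ∈ T, ∀ φ' ∈ T, φ ≠ φ' → Cfsg.classInner φ φ' = 0 :=
    fun φ hφ φ' hφ' hne => hS.orthogonal φ ((hmemT φ).mp hφ) φ' ((hmemT φ').mp hφ') hne
  have hnzT : ∀ φ ∈ T, Cfsg.classInner φ φ ≠ 0 :=
    fun φ hφ h => hne0 φ ((hmemT φ).mp hφ) ((classInner_self_eq_zero φ).mp h)
  have mdiff : ∀ a ∈ S, ∀ b ∈ S, a - b ∈ Cfsg.zspanOn S ({1}ᶜ : Set L) := by
    intro a ha b hb
    rw [mem_zspanOn_compl_one_iff]
    refine ⟨sub_mem_zspan (mem_zspan_of_mem ha) (mem_zspan_of_mem hb), ?_⟩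
    rw [Pi.sub_apply, hdeg a ha b hb, sub_self]
  let f : (L → ℂ) → (G → ℂ) := fun φ => X - τ (χ - φ)
  have hτ0 : τ (χ - χ) = 0 := by
    rw [sub_self]
    exact LIO.map_zero hS.isometry (zero_mem_zspanOn (S := S) (A := ({1}ᶜ : Set L)))
  have hnconj : (starRingEnd ℂ) (Cfsg.classInner χ χ) = Cfsg.classInner χ χ :=
    Complex.conj_eq_iff_im.mpr (classInner_self_im χ)
  have hXβ' : ∀ φ ∈ S, Cfsg.classInner X (τ (χ - φ)) =
      Cfsg.classInner χ χ - Cfsg.classInner χ φ := by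
    intro φ hφ
    by_cases h : φ = χ
    · subst h
      rw [hτ0, classInner_zero_right, sub_self]
    · rw [hXβ φ hφ h, hS.orthogonal χ hχ φ hφ (Ne.symm h), sub_zero]
  have hβX : ∀ φ ∈ S, Cfsg.classInner (τ (χ - φ)) X =
      Cfsg.classInner χ χ - Cfsg.classInner φ χ := by
    intro φ hφ
    rw [← classInner_conj_symm, hXβ' φ hφ, map_sub, hnconj, classInner_conj_symm]
  have hfiso : ∀ φ ∈ T, ∀ φ' ∈ T, Cfsg.classInner (f φ) (f φ') = Cfsg.classInner φ φ' := by
    intro φ hφ φ' hφ'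
    have hφS := (hmemT φ).mp hφ
    have hφ'S := (hmemT φ').mp hφ'
    simp only [f]
    rw [classInner_sub_left, classInner_sub_right, classInner_sub_right, hXX, hXβ' φ' hφ'S,
      hβX φ hφS, LIO.inner_eq hS.isometry (mdiff χ hχ φ hφS) (mdiff χ hχ φ' hφ'S),
      classInner_sub_left, classInner_sub_right, classInner_sub_right]
    ring
  have hfgen : ∀ φ ∈ T, Cfsg.IsGeneralizedCharacter G (f φ) := fun φ hφ =>
    isGeneralizedCharacter_sub hXgen
      (LIO.isGenChar hS.isometry (mdiff χ hχ φ ((hmemT φ).mp hφ)))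
  have hτ₁ := orthoExt_isLinearIsometryOn T horthT hnzT f hfiso hfgen
  rw [hT] at hτ₁
  refine ⟨⟨χ - Cfsg.conjFun χ, mdiff χ hχ _ hχc, ?_⟩, orthoExt T f, hτ₁, ?_⟩
  · rw [sub_ne_zero]
    exact (hS.conj_ne χ hχ).symm
  · intro α hα
    have hαT : α ∈ Cfsg.zspan (↑T : Set (L → ℂ)) := by rw [hT]; exact hα.1
    have hint : ∀ φ ∈ T, ∃ k : ℤ, coeffAt α φ = k :=
      fun φ hφ => coeffAt_int T horthT hnzT hαT φ hφ
    choose! k hk using hint
    have hexp : α = ∑ φ ∈ T, k φ • φ := by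
      conv_lhs => rw [eq_sum_coeffAt T horthT hnzT hαT]
      apply Finset.sum_congr rfl
      intro φ hφ
      rw [hk φ hφ, Int.cast_smul_eq_zsmul]
    obtain ⟨d, hd⟩ := Cfsg.Agent.Lib.Helper83.char_one_eq_nat (hS.isCharacter χ hχ)
    have hd0 : d ≠ 0 := by
      rintro rfl
      exact hne0 χ hχ (char_eq_zero_of_one_eq_zero (hS.isCharacter χ hχ) (by rw [hd]; simp))
    have hsumk : ∑ φ ∈ T, k φ = 0 := by
      have h1 := (mem_zspanOn_compl_one_iff.mp hα).2
      rw [hexp, Finset.sum_apply] at h1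
      have h2 : ∑ φ ∈ T, (k φ • φ) 1 = (∑ φ ∈ T, (k φ : ℂ)) * d := by
        rw [Finset.sum_mul]
        apply Finset.sum_congr rfl
        intro φ hφ
        rw [Pi.smul_apply, hdeg φ ((hmemT φ).mp hφ) χ hχ, hd]
        simp
      rw [h2] at h1
      have h3 : (∑ φ ∈ T, (k φ : ℂ)) = 0 :=
        (mul_eq_zero.mp h1).resolve_right (by exact_mod_cast hd0)
      exact_mod_cast h3
    have hexp2 : α = ∑ φ ∈ T, (-(k φ)) • (χ - φ) := by
      have h4 : ∑ φ ∈ T, (-(k φ)) • (χ - φ) = -((∑ φ ∈ T, k φ) • χ) + ∑ φ ∈ T, k φ • φ := by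
        rw [Finset.sum_smul, ← Finset.sum_neg_distrib, ← Finset.sum_add_distrib]
        apply Finset.sum_congr rfl
        intro φ _
        rw [neg_smul, smul_sub]
        abel
      rw [h4, hsumk, zero_smul, neg_zero, zero_add]
      exact hexp
    have e2 : τ α = ∑ φ ∈ T, (-(k φ)) • τ (χ - φ) := by
      conv_lhs => rw [hexp2]
      rw [LIO.map_sum_zspanOn hS.isometry T _
        (fun φ hφ => zsmul_mem_zspanOn _ (mdiff χ hχ φ ((hmemT φ).mp hφ)))]
      apply Finset.sum_congr rfl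
      intro φ hφ
      rw [LIO.map_zsmul hS.isometry (mdiff χ hχ φ ((hmemT φ).mp hφ))]
    have e1 : orthoExt T f α = ∑ φ ∈ T, (-(k φ)) • τ (χ - φ) := by
      rw [orthoExt]
      have h5 : ∀ φ ∈ T, coeffAt α φ • f φ = k φ • X + (-(k φ)) • τ (χ - φ) := by
        intro φ hφ
        rw [hk φ hφ, Int.cast_smul_eq_zsmul]
        simp only [f]
        rw [smul_sub, neg_smul]
        abel
      rw [Finset.sum_congr rfl h5, Finset.sum_add_distrib, ← Finset.sum_smul, hsumk, zero_smul,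
        zero_add]
    rw [e1, e2]

end Cfsg.Agent.S1517
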