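import Cfsg.Statements.S1516
-- import your own Cfsg.Agent.* helpers here
import Cfsg.Agent.Lib.Helper05.CharDecomp
import Cfsg.Agent.Lib.Helper34.GenChar
import Cfsg.Agent.Lib.Helper34.Coherence
import Cfsg.Agent.Lib.Helper34.Coherence2
import Cfsg.Agent.Lib.Helper34.OrthoExt
import Cfsg.Agent.Lib.Helper34.Bessel
import Cfsg.Agent.Lib.Helper34.Extend
import Cfsg.Agent.S1515
import Cfsg.Agent.S1517

set_option autoImplicit false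
open Cfsg

namespace Cfsg.Agent.S1516

open Cfsg.Agent.Lib.Helper34

section

variable {L : Type*} [Group L] [Fintype L] {G : Type*} [Group G] [Fintype G]

theorem zspan_subset_zspan {Z S₁ : Set (L → ℂ)} (hZ : Z ⊆ Cfsg.zspan S₁) :
    Cfsg.zspan Z ⊆ Cfsg.zspan S₁ := by
  intro θ hθ
  exact zspan_induction (p := fun θ => θ ∈ Cfsg.zspan S₁) hθ (fun x hx => hZ hx)
    zero_mem_zspan (fun x y hx hy => add_mem_zspan hx hy) (fun x hx => neg_mem_zspan hx)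

theorem zspanOn_mono' {Z Z' : Set (L → ℂ)} (h : Z ⊆ Z') :
    Cfsg.zspanOn Z ({1}ᶜ : Set L) ⊆ Cfsg.zspanOn Z' ({1}ᶜ : Set L) :=
  fun _ hx => ⟨zspan_mono h hx.1, hx.2⟩

theorem conjFun_apply_one_of_nat {φ : L → ℂ} {k : ℕ} (h : φ 1 = k) : Cfsg.conjFun φ 1 = k := by
  simp [Cfsg.conjFun, h]

/-- `τ₁ ξ` lies in the span of `R ξ` -/
theorem tau1_eq_sum_R (S : Set (L → ℂ)) (τ : (L → ℂ) → (G → ℂ)) (R : (L → ℂ) → Finset (G → ℂ))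
    (hS : Cfsg.IsCoherenceSystem S τ R) (S₁ : Set (L → ℂ)) (hS₁ : S₁ ⊆ S)
    (hS₁c : ∀ φ ∈ S₁, Cfsg.conjFun φ ∈ S₁) (τ₁ : (L → ℂ) → (G → ℂ))
    (hτ₁ : Cfsg.IsLinearIsometryOn (Cfsg.zspan S₁) τ₁)
    (hag : ∀ α ∈ Cfsg.zspanOn S₁ ({1}ᶜ : Set L), τ₁ α = τ α) (ξ : L → ℂ) (hξ : ξ ∈ S₁) :
    τ₁ ξ = ∑ α ∈ R ξ, Cfsg.classInner (τ₁ ξ) α • α := by
  classical
  have hξS := hS₁ hξ
  have hξc := hS₁c ξ hξ
  have mξ : ξ ∈ Cfsg.zspan S₁ := mem_zspan_of_mem hξ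
  have mξc : Cfsg.conjFun ξ ∈ Cfsg.zspan S₁ := mem_zspan_of_mem hξc
  obtain ⟨k, hk⟩ := Cfsg.Agent.Lib.Helper83.char_one_eq_nat (hS.isCharacter ξ hξS)
  have mdiff : ξ - Cfsg.conjFun ξ ∈ Cfsg.zspanOn S₁ ({1}ᶜ : Set L) := by
    rw [mem_zspanOn_compl_one_iff]
    refine ⟨sub_mem_zspan mξ mξc, ?_⟩
    rw [Pi.sub_apply, hk, conjFun_apply_one_of_nat hk, sub_self]
  have hsub : Cfsg.zspan ({ξ - 0, ξ - Cfsg.conjFun ξ} : Set (L → ℂ)) ⊆ Cfsg.zspan S₁ := by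
    apply zspan_subset_zspan
    rintro x (rfl | rfl)
    · rw [sub_zero]; exact mξ
    · exact mdiff.1
  obtain ⟨h1, -⟩ := Cfsg.Agent.S1515.result S τ R hS ξ hξS 0 zero_mem_zspan
    (classInner_zero_right _) (classInner_zero_right _) τ₁ (LIO.mono hτ₁ hsub)
    (fun n => hag _ (zsmul_mem_zspanOn n mdiff))
  rw [sub_zero] at h1
  have hpy := pythagoras_re (R ξ) (fun x => x) (hS.orthonormal ξ hξS) (τ₁ ξ)
  rw [LIO.inner_eq hτ₁ mξ mξ] at hpy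
  have hr0 := classInner_self_re_nonneg (orthoPart (R ξ) (fun x => x) (τ₁ ξ))
  have hrz : (Cfsg.classInner (orthoPart (R ξ) (fun x => x) (τ₁ ξ))
      (orthoPart (R ξ) (fun x => x) (τ₁ ξ))).re = 0 := by linarith
  have h0 : orthoPart (R ξ) (fun x => x) (τ₁ ξ) = 0 := by
    rw [← classInner_self_eq_zero]
    apply Complex.ext
    · rw [hrz]; rfl
    · rw [classInner_self_im]; rfl
  exact eq_sum_of_orthoPart_eq_zero (R ξ) (fun x => x) (τ₁ ξ) h0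

/-- `τ₁ ξ` is orthogonal to `R χ` for `χ` outside `S₁` -/
theorem tau1_orth_R (S : Set (L → ℂ)) (τ : (L → ℂ) → (G → ℂ)) (R : (L → ℂ) → Finset (G → ℂ))
    (hS : Cfsg.IsCoherenceSystem S τ R) (S₁ : Set (L → ℂ)) (hS₁ : S₁ ⊆ S)
    (hS₁c : ∀ φ ∈ S₁, Cfsg.conjFun φ ∈ S₁) (τ₁ : (L → ℂ) → (G → ℂ))
    (hτ₁ : Cfsg.IsLinearIsometryOn (Cfsg.zspan S₁) τ₁)
    (hag : ∀ α ∈ Cfsg.zspanOn S₁ ({1}ᶜ : Set L), τ₁ α = τ α) (χ : L → ℂ) (hχ : χ ∈ S)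
    (hχ₁ : χ ∉ S₁) (hχ₂ : Cfsg.conjFun χ ∉ S₁) (ξ : L → ℂ) (hξ : ξ ∈ S₁) :
    ∀ α ∈ R χ, Cfsg.classInner (τ₁ ξ) α = 0 := by
  intro α hα
  have hξS := hS₁ hξ
  have hχc := hS.conj_mem χ hχ
  have hne1 : ξ ≠ χ := by rintro rfl; exact hχ₁ hξ
  have hne2 : ξ ≠ Cfsg.conjFun χ := by rintro rfl; exact hχ₂ hξ
  have o1 : Cfsg.classInner ξ χ = 0 := hS.orthogonal ξ hξS χ hχ hne1
  have o2 : Cfsg.classInner ξ (Cfsg.conjFun χ) = 0 := hS.orthogonal ξ hξS _ hχc hne2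
  have hdisj := hS.disjoint χ hχ ξ hξS o1 o2
  rw [tau1_eq_sum_R S τ R hS S₁ hS₁ hS₁c τ₁ hτ₁ hag ξ hξ, classInner_sum_left]
  apply Finset.sum_eq_zero
  intro a ha
  rw [classInner_smul_left, hdisj a ha α hα, mul_zero]

theorem arith2 (a d₁ : ℕ) (z : ℤ) (D : ℝ) (ha : 0 < a) (hd₁ : 0 < d₁)
    (hD : 2 * ((d₁ : ℝ) * a) * d₁ < D) (h : (z : ℝ) ^ 2 * D ≤ 2 * a * z * (d₁ : ℝ) ^ 2) :
    z = 0 := by
  by_contra hz
  have ha' : (0 : ℝ) < a := by exact_mod_cast ha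
  have hd' : (0 : ℝ) < d₁ := by exact_mod_cast hd₁
  have hz2 : (1 : ℝ) ≤ (z : ℝ) ^ 2 := by
    have : 1 ≤ z ^ 2 := by
      have := sq_nonneg z
      have h0 : z ^ 2 ≠ 0 := pow_ne_zero 2 hz
      omega
    exact_mod_cast this
  have hzz : (z : ℝ) ≤ (z : ℝ) ^ 2 := by
    have : z ≤ z ^ 2 := by
      rcases le_or_gt z 0 with h0 | h0
      · nlinarith [sq_nonneg z]
      · nlinarith
    exact_mod_cast this
  have h1 : (z : ℝ) ^ 2 * (2 * ((d₁ : ℝ) * a) * d₁) < (z : ℝ) ^ 2 * D :=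
    mul_lt_mul_of_pos_left hD (by linarith)
  have h2 : 2 * a * (z : ℝ) * (d₁ : ℝ) ^ 2 ≤ (z : ℝ) ^ 2 * (2 * ((d₁ : ℝ) * a) * d₁) := by
    have : (0 : ℝ) ≤ 2 * a * (d₁ : ℝ) ^ 2 := by positivity
    nlinarith
  linarith

end

/-- Let (S, τ, R) be a coherence system from L to G with degrees φ 1 = d φ and squared norms ⟨φ, φ⟩ = n φ for φ ∈ S. Let S₁ ⊆ S be a finite subset closed under complex conjugation such that (S₁, L minus 1, τ) is coherent, let χ ∈ S with χ ∉ S₁ and conj χ ∉ S₁, and let χ₁ ∈ S₁ with d χ₁ dividing d χ and 2 d χ d χ₁ < Σ_{φ ∈ S₁} (d φ)² / n φ. Then S₁ together with χ and conj χ is coherent. -/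
theorem result {L : Type*} [Group L] [Fintype L] {G : Type*} [Group G] [Fintype G] (S : Set (L → ℂ)) (τ : (L → ℂ) → (G → ℂ)) (R : (L → ℂ) → Finset (G → ℂ)) (hS : Cfsg.IsCoherenceSystem S τ R) (d n : (L → ℂ) → ℕ) (hd : ∀ φ ∈ S, φ 1 = (d φ : ℂ)) (hn : ∀ φ ∈ S, Cfsg.classInner φ φ = (n φ : ℂ)) (S₁ : Finset (L → ℂ)) (hS₁ : ↑S₁ ⊆ S) (hS₁c : ∀ φ ∈ S₁, Cfsg.conjFun φ ∈ S₁) (hcoh : Cfsg.IsCoherent (↑S₁ : Set (L → ℂ)) {1}ᶜ τ) (χ : L → ℂ) (hχ : χ ∈ S) (hχ₁ : χ ∉ S₁) (hχ₂ : Cfsg.conjFun χ ∉ S₁) (χ₁ : L → ℂ) (hχ₁S : χ₁ ∈ S₁) (hdvd : d χ₁ ∣ d χ) (hineq : (2 * d χ * d χ₁ : ℝ) < ∑ φ ∈ S₁, ((d φ : ℝ) ^ 2 / (n φ : ℝ))) : Cfsg.IsCoherent (↑S₁ ∪ {χ, Cfsg.conjFun χ} : Set (L → ℂ)) {1}ᶜ τ := by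
  classical
  obtain ⟨-, τ₁, hτ₁, hagree⟩ := hcoh
  have hχc : Cfsg.conjFun χ ∈ S := hS.conj_mem χ hχ
  have hS₁S : ∀ ξ ∈ S₁, ξ ∈ S := fun ξ h => hS₁ (Finset.mem_coe.mpr h)
  have hS₁c' : ∀ φ ∈ (↑S₁ : Set (L → ℂ)), Cfsg.conjFun φ ∈ (↑S₁ : Set (L → ℂ)) :=
    fun φ h => Finset.mem_coe.mpr (hS₁c φ (Finset.mem_coe.mp h))
  have mS₁ : ∀ ξ ∈ S₁, ξ ∈ Cfsg.zspan (↑S₁ : Set (L → ℂ)) :=
    fun ξ h => mem_zspan_of_mem (Finset.mem_coe.mpr h)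
  have mS : ∀ ξ ∈ S, ξ ∈ Cfsg.zspan S := fun ξ h => mem_zspan_of_mem h
  have hsubOn : Cfsg.zspanOn (↑S₁ : Set (L → ℂ)) ({1}ᶜ : Set L) ⊆ Cfsg.zspanOn S ({1}ᶜ : Set L) :=
    zspanOn_mono' hS₁
  -- nonzero, positivity
  have hne0 : ∀ φ ∈ S, φ ≠ 0 := by
    intro φ hφ h0
    apply hS.conj_ne φ hφ
    rw [h0]
    funext x
    simp [Cfsg.conjFun]
  have hnpos : ∀ φ ∈ S, 0 < n φ := by
    intro φ hφ
    by_contra h
    have h1 : n φ = 0 := by omega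
    have h2 := hn φ hφ
    rw [h1, Nat.cast_zero] at h2
    exact hne0 φ hφ ((classInner_self_eq_zero φ).mp h2)
  have hdpos : ∀ φ ∈ S, 0 < d φ := by
    intro φ hφ
    by_contra h
    have h1 : d φ = 0 := by omega
    have h2 := hd φ hφ
    rw [h1, Nat.cast_zero] at h2
    exact hne0 φ hφ (Cfsg.Agent.S1517.char_eq_zero_of_one_eq_zero (hS.isCharacter φ hφ) h2)
  have hχ₁S' : χ₁ ∈ S := hS₁S χ₁ hχ₁S
  obtain ⟨a, ha⟩ := hdvd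
  have hd₁pos : 0 < d χ₁ := hdpos χ₁ hχ₁S'
  have ha_pos : 0 < a := by
    have := hdpos χ hχ
    rw [ha] at this
    rcases Nat.eq_zero_or_pos a with h0 | h0
    · rw [h0, Nat.mul_zero] at this; omega
    · exact h0
  -- orthogonality in L
  have hne_χξ : ∀ ξ ∈ S₁, χ ≠ ξ := by
    rintro ξ hξ rfl
    exact hχ₁ hξ
  have hne_χcξ : ∀ ξ ∈ S₁, Cfsg.conjFun χ ≠ ξ := by
    rintro ξ hξ h
    exact hχ₂ (h ▸ hξ)
  have hχξ : ∀ ξ ∈ S₁, Cfsg.classInner χ ξ = 0 :=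
    fun ξ hξ => hS.orthogonal χ hχ ξ (hS₁S ξ hξ) (hne_χξ ξ hξ)
  have hξχ : ∀ ξ ∈ S₁, Cfsg.classInner ξ χ = 0 :=
    fun ξ hξ => hS.orthogonal ξ (hS₁S ξ hξ) χ hχ (hne_χξ ξ hξ).symm
  have hχcξ : ∀ ξ ∈ S₁, Cfsg.classInner (Cfsg.conjFun χ) ξ = 0 :=
    fun ξ hξ => hS.orthogonal _ hχc ξ (hS₁S ξ hξ) (hne_χcξ ξ hξ)
  have hξχc : ∀ ξ ∈ S₁, Cfsg.classInner ξ (Cfsg.conjFun χ) = 0 :=
    fun ξ hξ => hS.orthogonal ξ (hS₁S ξ hξ) _ hχc (hne_χcξ ξ hξ).symm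
  have hχχc : Cfsg.classInner χ (Cfsg.conjFun χ) = 0 :=
    hS.orthogonal χ hχ _ hχc (hS.conj_ne χ hχ).symm
  have hχcχ : Cfsg.classInner (Cfsg.conjFun χ) χ = 0 :=
    hS.orthogonal _ hχc χ hχ (hS.conj_ne χ hχ)
  have horthN : ∀ ξ ∈ S₁, ∀ ξ' ∈ S₁, Cfsg.classInner ξ ξ' = if ξ = ξ' then (n ξ : ℂ) else 0 := by
    intro ξ hξ ξ' hξ'
    split_ifs with h
    · subst h; exact hn ξ (hS₁S ξ hξ)
    · exact hS.orthogonal ξ (hS₁S ξ hξ) ξ' (hS₁S ξ' hξ') h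
  -- β₀
  set ψ : L → ℂ := (a : ℤ) • χ₁ with hψdef
  have hψS : ψ ∈ Cfsg.zspan S := zsmul_mem_zspan _ (mS χ₁ hχ₁S')
  have hχcone : Cfsg.conjFun χ 1 = (d χ : ℂ) := conjFun_apply_one_of_nat (hd χ hχ)
  have hψone : ψ 1 = (d χ : ℂ) := by
    rw [hψdef, Pi.smul_apply, hd χ₁ hχ₁S', ha]
    push_cast
    simp
    ring
  have hβ₀ : χ - ψ ∈ Cfsg.zspanOn S ({1}ᶜ : Set L) := by
    rw [mem_zspanOn_compl_one_iff]
    refine ⟨sub_mem_zspan (mS χ hχ) hψS, ?_⟩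
    rw [Pi.sub_apply, hd χ hχ, hψone, sub_self]
  have hβ₁ : Cfsg.conjFun χ - ψ ∈ Cfsg.zspanOn S ({1}ᶜ : Set L) := by
    rw [mem_zspanOn_compl_one_iff]
    refine ⟨sub_mem_zspan (mS _ hχc) hψS, ?_⟩
    rw [Pi.sub_apply, hχcone, hψone, sub_self]
  have hχχcmem : χ - Cfsg.conjFun χ ∈ Cfsg.zspanOn S ({1}ᶜ : Set L) := by
    rw [mem_zspanOn_compl_one_iff]
    refine ⟨sub_mem_zspan (mS χ hχ) (mS _ hχc), ?_⟩
    rw [Pi.sub_apply, hd χ hχ, hχcone, sub_self]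
  have hχψ : Cfsg.classInner χ ψ = 0 := by
    rw [hψdef, classInner_zsmul_right, hχξ χ₁ hχ₁S, mul_zero]
  have hψχ : Cfsg.classInner ψ χ = 0 := by
    rw [hψdef, classInner_zsmul_left, hξχ χ₁ hχ₁S, mul_zero]
  have hχcψ : Cfsg.classInner (Cfsg.conjFun χ) ψ = 0 := by
    rw [hψdef, classInner_zsmul_right, hχcξ χ₁ hχ₁S, mul_zero]
  have hψχc : Cfsg.classInner ψ (Cfsg.conjFun χ) = 0 := by
    rw [hψdef, classInner_zsmul_left, hξχc χ₁ hχ₁S, mul_zero]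
  -- ζ
  have hζ : ∀ ξ ∈ S₁, ∀ ξ' ∈ S₁, (d ξ' : ℤ) • ξ - (d ξ : ℤ) • ξ' ∈
      Cfsg.zspanOn (↑S₁ : Set (L → ℂ)) ({1}ᶜ : Set L) := by
    intro ξ hξ ξ' hξ'
    rw [mem_zspanOn_compl_one_iff]
    refine ⟨sub_mem_zspan (zsmul_mem_zspan _ (mS₁ ξ hξ)) (zsmul_mem_zspan _ (mS₁ ξ' hξ')), ?_⟩
    simp only [Pi.sub_apply, Pi.smul_apply, hd ξ (hS₁S ξ hξ), hd ξ' (hS₁S ξ' hξ')]
    simp
    ring
  have hτ₁ζ : ∀ ξ ∈ S₁, ∀ ξ' ∈ S₁, τ₁ ((d ξ' : ℤ) • ξ - (d ξ : ℤ) • ξ') =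
      (d ξ' : ℤ) • τ₁ ξ - (d ξ : ℤ) • τ₁ ξ' := by
    intro ξ hξ ξ' hξ'
    rw [LIO.map_sub_zspan hτ₁ (zsmul_mem_zspan _ (mS₁ ξ hξ)) (zsmul_mem_zspan _ (mS₁ ξ' hξ')),
      LIO.map_zsmul hτ₁ (mS₁ ξ hξ), LIO.map_zsmul hτ₁ (mS₁ ξ' hξ')]
  set X : G → ℂ := τ (χ - ψ) + (a : ℤ) • τ₁ χ₁ with hXdef
  have hXgen : Cfsg.IsGeneralizedCharacter G X :=
    isGeneralizedCharacter_add (LIO.isGenChar hS.isometry hβ₀)
      (isGeneralizedCharacter_zsmul _ (LIO.isGenChar hτ₁ (mS₁ χ₁ hχ₁S)))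
  have horth₁ : ∀ ξ ∈ S₁, ∀ ξ' ∈ S₁,
      Cfsg.classInner (τ₁ ξ) (τ₁ ξ') = if ξ = ξ' then (((n ξ : ℕ) : ℝ) : ℂ) else 0 := by
    intro ξ hξ ξ' hξ'
    rw [LIO.inner_eq hτ₁ (mS₁ ξ hξ) (mS₁ ξ' hξ'), horthN ξ hξ ξ' hξ']
    split_ifs <;> simp
  -- (K1)
  have K1 : ∀ ξ ∈ S₁, ∀ ξ' ∈ S₁,
      Cfsg.classInner X ((d ξ' : ℤ) • τ₁ ξ - (d ξ : ℤ) • τ₁ ξ') = 0 := by
    intro ξ hξ ξ' hξ'
    have hz := hζ ξ hξ ξ' hξ'
    rw [← hτ₁ζ ξ hξ ξ' hξ', hXdef, classInner_add_left, classInner_zsmul_left]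
    rw [LIO.inner_eq hτ₁ (mS₁ χ₁ hχ₁S) hz.1]
    rw [hagree _ hz, LIO.inner_eq hS.isometry hβ₀ (hsubOn hz)]
    rw [← classInner_zsmul_left, ← classInner_add_left]
    have : χ - ψ + (a : ℤ) • χ₁ = χ := by rw [hψdef]; abel
    rw [this, classInner_sub_right, classInner_zsmul_right, classInner_zsmul_right,
      hχξ ξ hξ, hχξ ξ' hξ']
    ring
  have hint : ∀ ξ ∈ S₁, ∃ z : ℤ, Cfsg.classInner X (τ₁ ξ) = z :=
    fun ξ hξ => classInner_genChar_int hXgen (LIO.isGenChar hτ₁ (mS₁ ξ hξ))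
  choose! z hz using hint
  have K2 : ∀ ξ ∈ S₁, ∀ ξ' ∈ S₁, (d ξ' : ℤ) * z ξ = (d ξ : ℤ) * z ξ' := by
    intro ξ hξ ξ' hξ'
    have := K1 ξ hξ ξ' hξ'
    rw [classInner_sub_right, classInner_zsmul_right, classInner_zsmul_right, hz ξ hξ,
      hz ξ' hξ'] at this
    have h2 : (((d ξ' : ℤ) * z ξ - (d ξ : ℤ) * z ξ' : ℤ) : ℂ) = 0 := by
      push_cast
      push_cast at this
      exact this
    have h3 : (d ξ' : ℤ) * z ξ - (d ξ : ℤ) * z ξ' = 0 := by exact_mod_cast h2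
    linarith
  have hχχ : Cfsg.classInner χ χ = (n χ : ℂ) := hn χ hχ
  have hχ₁χ₁ : Cfsg.classInner χ₁ χ₁ = (n χ₁ : ℂ) := hn χ₁ hχ₁S'
  have hψψ : Cfsg.classInner ψ ψ = (a : ℂ) ^ 2 * n χ₁ := by
    rw [hψdef, classInner_zsmul_left, classInner_zsmul_right, hχ₁χ₁]
    push_cast
    ring
  have hββ : Cfsg.classInner (χ - ψ) (χ - ψ) = (n χ : ℂ) + (a : ℂ) ^ 2 * n χ₁ := by
    rw [classInner_sub_left, classInner_sub_right, classInner_sub_right, hχχ, hψψ, hχψ, hψχ]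
    ring
  have hτ₁χ₁ : Cfsg.classInner (τ₁ χ₁) (τ₁ χ₁) = (n χ₁ : ℂ) := by
    rw [LIO.inner_eq hτ₁ (mS₁ χ₁ hχ₁S) (mS₁ χ₁ hχ₁S), hχ₁χ₁]
  have K3 : Cfsg.classInner (τ (χ - ψ)) (τ₁ χ₁) = (z χ₁ : ℂ) - a * n χ₁ := by
    have := hz χ₁ hχ₁S
    rw [hXdef, classInner_add_left, classInner_zsmul_left, hτ₁χ₁] at this
    push_cast at this
    linear_combination this
  have K3' : Cfsg.classInner (τ₁ χ₁) (τ (χ - ψ)) = (z χ₁ : ℂ) - a * n χ₁ := by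
    rw [← classInner_conj_symm, K3]
    simp
  have K4 : Cfsg.classInner X X = (n χ : ℂ) + 2 * (a : ℂ) * z χ₁ := by
    rw [hXdef, classInner_add_left, classInner_add_right, classInner_add_right,
      classInner_zsmul_left, classInner_zsmul_left, classInner_zsmul_right, classInner_zsmul_right,
      LIO.inner_eq hS.isometry hβ₀ hβ₀, hββ, K3, K3', hτ₁χ₁]
    push_cast
    ring
  -- τ₁ ξ ⊥ R χ
  have hτ₁R : ∀ ξ ∈ S₁, ∀ α ∈ R χ, Cfsg.classInner (τ₁ ξ) α = 0 := fun ξ hξ =>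
    tau1_orth_R S τ R hS (↑S₁ : Set (L → ℂ)) hS₁ hS₁c' τ₁ hτ₁ hagree χ hχ
      (fun h => hχ₁ (Finset.mem_coe.mp h)) (fun h => hχ₂ (Finset.mem_coe.mp h)) ξ
      (Finset.mem_coe.mpr hξ)
  have hXα : ∀ α ∈ R χ, Cfsg.classInner X α = Cfsg.classInner (τ (χ - ψ)) α := by
    intro α hα
    rw [hXdef, classInner_add_left, classInner_zsmul_left, hτ₁R χ₁ hχ₁S α hα, mul_zero, add_zero]
  -- (K5) weighted Pythagoras
  have hw : ∀ ξ ∈ S₁, ((n ξ : ℕ) : ℝ) ≠ 0 := by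
    intro ξ hξ
    have := hnpos ξ (hS₁S ξ hξ)
    exact_mod_cast this.ne'
  have K5 := pythagorasW_re S₁ τ₁ (fun ξ => ((n ξ : ℕ) : ℝ)) hw horth₁ X
  set X' : G → ℂ := orthoPartW S₁ τ₁ (fun ξ => ((n ξ : ℕ) : ℝ)) X with hX'def
  have hX'α : ∀ α ∈ R χ, Cfsg.classInner X' α = Cfsg.classInner (τ (χ - ψ)) α := by
    intro α hα
    rw [hX'def, orthoPartW, classInner_sub_left, classInner_sum_left, hXα α hα,
      Finset.sum_eq_zero, sub_zero]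
    intro ξ hξ
    rw [classInner_smul_left, hτ₁R ξ hξ α hα, mul_zero]
  -- (K6)
  have hsub1 : Cfsg.zspan ({χ - ψ, χ - Cfsg.conjFun χ} : Set (L → ℂ)) ⊆
      Cfsg.zspanOn S ({1}ᶜ : Set L) := by
    apply zspan_subset_zspanOn
    rintro x (rfl | rfl)
    · exact hβ₀
    · exact hχχcmem
  obtain ⟨h15, -⟩ := Cfsg.Agent.S1515.result S τ R hS χ hχ ψ hψS hχψ hχcψ τ
    (LIO.mono hS.isometry hsub1) (fun _ => rfl)
  have K6 : ((n χ : ℕ) : ℝ) ≤ (Cfsg.classInner X' X').re := by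
    have hpy := pythagoras_re (R χ) (fun x => x) (hS.orthonormal χ hχ) X'
    have hr0 := classInner_self_re_nonneg (orthoPart (R χ) (fun x => x) X')
    rw [Finset.sum_congr rfl (fun α hα => by rw [hX'α α hα])] at hpy
    rw [hχχ] at h15
    simp only [Complex.natCast_re] at h15
    linarith
  -- the arithmetic
  have hcore : z χ₁ = 0 := by
    apply arith2 a (d χ₁) (z χ₁) (∑ φ ∈ S₁, ((d φ : ℝ) ^ 2 / (n φ : ℝ))) ha_pos hd₁pos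
    · have : (2 * (d χ : ℝ) * d χ₁ : ℝ) = 2 * ((d χ₁ : ℝ) * a) * d χ₁ := by
        rw [ha]; push_cast; ring
      rw [← this]
      exact hineq
    · have hsum : ∑ ξ ∈ S₁, ‖Cfsg.classInner X (τ₁ ξ)‖ ^ 2 / ((n ξ : ℕ) : ℝ) * (d χ₁ : ℝ) ^ 2
          = (z χ₁ : ℝ) ^ 2 * ∑ φ ∈ S₁, ((d φ : ℝ) ^ 2 / (n φ : ℝ)) := by
        rw [Finset.mul_sum]
        apply Finset.sum_congr rfl
        intro ξ hξ
        rw [hz ξ hξ, Complex.norm_intCast, sq_abs]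
        have e1 := K2 ξ hξ χ₁ hχ₁S
        have e2 : ((d χ₁ : ℝ) * (z ξ : ℝ)) ^ 2 = ((d ξ : ℝ) * (z χ₁ : ℝ)) ^ 2 := by
          have : ((d χ₁ : ℤ) * z ξ : ℝ) = ((d ξ : ℤ) * z χ₁ : ℝ) := by exact_mod_cast e1
          push_cast at this
          rw [this]
        have hnn := hw ξ hξ
        field_simp
        linear_combination e2
      rw [K4] at K5
      have K5' : ((n χ : ℕ) : ℝ) + 2 * a * z χ₁ = ∑ ξ ∈ S₁, ‖Cfsg.classInner X (τ₁ ξ)‖ ^ 2 / ((n ξ : ℕ) : ℝ)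
          + (Cfsg.classInner X' X').re := by
        rw [← K5]
        simp
      rw [← hsum, ← Finset.sum_mul]
      have hd2 : (0 : ℝ) ≤ (d χ₁ : ℝ) ^ 2 := by positivity
      nlinarith
  have hzero : ∀ ξ ∈ S₁, z ξ = 0 := by
    intro ξ hξ
    have := K2 ξ hξ χ₁ hχ₁S
    rw [hcore, mul_zero] at this
    have hd0 : (d χ₁ : ℤ) ≠ 0 := by exact_mod_cast hd₁pos.ne'
    exact (mul_eq_zero.mp this).resolve_left hd0
  have hXX : Cfsg.classInner X X = Cfsg.classInner χ χ := by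
    rw [K4, hcore, hχχ]
    simp
  have hXorth : ∀ ξ ∈ S₁, Cfsg.classInner X (τ₁ ξ) = 0 := by
    intro ξ hξ
    rw [hz ξ hξ, hzero ξ hξ]
    simp
  -- sum of R χ
  set Sg : G → ℂ := ∑ α ∈ R χ, α with hSgdef
  have hτχχc : τ (χ - Cfsg.conjFun χ) = Sg := hS.sum_eq χ hχ
  have hnconj : (starRingEnd ℂ) (Cfsg.classInner χ χ) = Cfsg.classInner χ χ :=
    Complex.conj_eq_iff_im.mpr (classInner_self_im χ)
  have hSggen : Cfsg.IsGeneralizedCharacter G Sg :=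
    isGeneralizedCharacter_sum _ _ (fun α hα => hS.virtual χ hχ α hα)
  have hXSg : Cfsg.classInner X Sg = Cfsg.classInner χ χ := by
    have h1 : Cfsg.classInner (τ₁ χ₁) Sg = 0 := by
      rw [hSgdef, classInner_sum_right]
      exact Finset.sum_eq_zero (fun α hα => hτ₁R χ₁ hχ₁S α hα)
    rw [hXdef, classInner_add_left, classInner_zsmul_left, h1, mul_zero, add_zero, ← hτχχc,
      LIO.inner_eq hS.isometry hβ₀ hχχcmem, classInner_sub_left, classInner_sub_right,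
      classInner_sub_right, hχχc, hψχ, hψχc]
    ring
  have hSgX : Cfsg.classInner Sg X = Cfsg.classInner χ χ := by
    rw [← classInner_conj_symm, hXSg, hnconj]
  have hχcχc : Cfsg.classInner (Cfsg.conjFun χ) (Cfsg.conjFun χ) = Cfsg.classInner χ χ := by
    have := Cfsg.Agent.Lib.Helper05.classInner_conj_conj χ χ
    rw [hnconj] at this
    exact this
  have hSgSg : Cfsg.classInner Sg Sg = 2 * Cfsg.classInner χ χ := by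
    rw [← hτχχc, LIO.inner_eq hS.isometry hχχcmem hχχcmem, classInner_sub_left,
      classInner_sub_right, classInner_sub_right, hχχc, hχcχ, hχcχc]
    ring
  set Xt : G → ℂ := X - Sg with hXtdef
  have hXtgen : Cfsg.IsGeneralizedCharacter G Xt := isGeneralizedCharacter_sub hXgen hSggen
  have hXtXt : Cfsg.classInner Xt Xt = Cfsg.classInner (Cfsg.conjFun χ) (Cfsg.conjFun χ) := by
    rw [hXtdef, classInner_sub_left, classInner_sub_right, classInner_sub_right, hXX, hXSg, hSgX,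
      hSgSg, hχcχc]
    ring
  have hXtX : Cfsg.classInner Xt X = 0 := by
    rw [hXtdef, classInner_sub_left, hXX, hSgX, sub_self]
  have hSgτ₁ : ∀ ξ ∈ S₁, Cfsg.classInner Sg (τ₁ ξ) = 0 := by
    intro ξ hξ
    rw [hSgdef, classInner_sum_left]
    apply Finset.sum_eq_zero
    intro α hα
    rw [← classInner_conj_symm, hτ₁R ξ hξ α hα, map_zero]
  have hXtorth : ∀ ξ ∈ S₁, Cfsg.classInner Xt (τ₁ ξ) = 0 := by
    intro ξ hξ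
    rw [hXtdef, classInner_sub_left, hXorth ξ hξ, hSgτ₁ ξ hξ, sub_zero]
  -- first extension
  have horthS₁ : ∀ φ ∈ S₁, ∀ φ' ∈ S₁, φ ≠ φ' → Cfsg.classInner φ φ' = 0 :=
    fun φ hφ φ' hφ' hne => hS.orthogonal φ (hS₁S φ hφ) φ' (hS₁S φ' hφ') hne
  have hnzS : ∀ φ ∈ S, Cfsg.classInner φ φ ≠ 0 :=
    fun φ hφ h => hne0 φ hφ ((classInner_self_eq_zero φ).mp h)
  obtain ⟨τ₂, hτ₂, hτ₂χ, hτ₂ag⟩ := extend_one S₁ horthS₁ (fun φ hφ => hnzS φ (hS₁S φ hφ)) τ₁ hτ₁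
    χ hχ₁ hχξ (hnzS χ hχ) X hXgen hXX hXorth
  -- second extension
  have hS₂S : ∀ ξ ∈ insert χ S₁, ξ ∈ S := by
    intro ξ hξ
    rcases Finset.mem_insert.mp hξ with rfl | h
    · exact hχ
    · exact hS₁S ξ h
  have hχc_notin : Cfsg.conjFun χ ∉ insert χ S₁ := by
    intro h
    rcases Finset.mem_insert.mp h with h | h
    · exact hS.conj_ne χ hχ h
    · exact hχ₂ h
  have horthS₂ : ∀ φ ∈ insert χ S₁, ∀ φ' ∈ insert χ S₁, φ ≠ φ' → Cfsg.classInner φ φ' = 0 :=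
    fun φ hφ φ' hφ' hne => hS.orthogonal φ (hS₂S φ hφ) φ' (hS₂S φ' hφ') hne
  have hχcorth : ∀ ξ ∈ insert χ S₁, Cfsg.classInner (Cfsg.conjFun χ) ξ = 0 := by
    intro ξ hξ
    rcases Finset.mem_insert.mp hξ with rfl | h
    · exact hχcχ
    · exact hχcξ ξ h
  have hXtorth₂ : ∀ ξ ∈ insert χ S₁, Cfsg.classInner Xt (τ₂ ξ) = 0 := by
    intro ξ hξ
    rcases Finset.mem_insert.mp hξ with rfl | h
    · rw [hτ₂χ]; exact hXtX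
    · rw [hτ₂ag ξ (mS₁ ξ h)]; exact hXtorth ξ h
  obtain ⟨τ₃, hτ₃, hτ₃χc, hτ₃ag⟩ := extend_one (insert χ S₁) horthS₂
    (fun φ hφ => hnzS φ (hS₂S φ hφ)) τ₂ hτ₂ (Cfsg.conjFun χ) hχc_notin hχcorth (hnzS _ hχc)
    Xt hXtgen hXtXt hXtorth₂
  -- the set
  set T : Finset (L → ℂ) := insert (Cfsg.conjFun χ) (insert χ S₁) with hTdef
  have hTset : (↑S₁ ∪ {χ, Cfsg.conjFun χ} : Set (L → ℂ)) = ↑T := by
    ext x
    simp only [hTdef, Finset.coe_insert, Set.mem_union, Set.mem_insert_iff, Finset.mem_coe,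
      Set.mem_singleton_iff]
    tauto
  rw [hTset]
  have hTS : ∀ ξ ∈ T, ξ ∈ S := by
    intro ξ hξ
    rcases Finset.mem_insert.mp hξ with rfl | h
    · exact hχc
    · exact hS₂S ξ h
  have horthT : ∀ φ ∈ T, ∀ φ' ∈ T, φ ≠ φ' → Cfsg.classInner φ φ' = 0 :=
    fun φ hφ φ' hφ' hne => hS.orthogonal φ (hTS φ hφ) φ' (hTS φ' hφ') hne
  have hnzT : ∀ φ ∈ T, Cfsg.classInner φ φ ≠ 0 := fun φ hφ => hnzS φ (hTS φ hφ)
  have hTsubS : (↑T : Set (L → ℂ)) ⊆ S := fun x hx => hTS x (Finset.mem_coe.mp hx)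
  have hχT : χ ∈ T := Finset.mem_insert_of_mem (Finset.mem_insert_self χ S₁)
  have hχcT : Cfsg.conjFun χ ∈ T := Finset.mem_insert_self _ _
  have hS₁T : ∀ ξ ∈ S₁, ξ ∈ T :=
    fun ξ h => Finset.mem_insert_of_mem (Finset.mem_insert_of_mem h)
  have mT : ∀ ξ ∈ T, ξ ∈ Cfsg.zspan (↑T : Set (L → ℂ)) :=
    fun ξ h => mem_zspan_of_mem (Finset.mem_coe.mpr h)
  have mS₂ : ∀ ξ ∈ insert χ S₁, ξ ∈ Cfsg.zspan (↑(insert χ S₁) : Set (L → ℂ)) :=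
    fun ξ h => mem_zspan_of_mem (Finset.mem_coe.mpr h)
  have hS₁S₂ : Cfsg.zspan (↑S₁ : Set (L → ℂ)) ⊆ Cfsg.zspan (↑(insert χ S₁) : Set (L → ℂ)) := by
    apply zspan_mono
    intro x hx
    exact Finset.mem_coe.mpr (Finset.mem_insert_of_mem (Finset.mem_coe.mp hx))
  -- values of τ₃
  have hτ₃χ : τ₃ χ = X := by
    rw [hτ₃ag χ (mS₂ χ (Finset.mem_insert_self χ S₁)), hτ₂χ]
  have hτ₃S₁ : ∀ θ ∈ Cfsg.zspan (↑S₁ : Set (L → ℂ)), τ₃ θ = τ₁ θ := by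
    intro θ hθ
    rw [hτ₃ag θ (hS₁S₂ hθ), hτ₂ag θ hθ]
  have hψT : ψ ∈ Cfsg.zspan (↑T : Set (L → ℂ)) := zsmul_mem_zspan _ (mT χ₁ (hS₁T χ₁ hχ₁S))
  have hτ₃ψ : τ₃ ψ = (a : ℤ) • τ₁ χ₁ := by
    rw [hψdef, LIO.map_zsmul hτ₃ (mT χ₁ (hS₁T χ₁ hχ₁S)), hτ₃S₁ χ₁ (mS₁ χ₁ hχ₁S)]
  have hτ₃β₀ : τ₃ (χ - ψ) = τ (χ - ψ) := by
    rw [LIO.map_sub_zspan hτ₃ (mT χ hχT) hψT, hτ₃χ, hτ₃ψ, hXdef]
    abel
  have hdecβ₁ : Cfsg.conjFun χ - ψ = (χ - ψ) - (χ - Cfsg.conjFun χ) := by abel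
  have hτβ₁ : τ (Cfsg.conjFun χ - ψ) = τ (χ - ψ) - Sg := by
    rw [hdecβ₁, LIO.map_sub_zspanOn hS.isometry hβ₀ hχχcmem, hτχχc]
  have hτ₃β₁ : τ₃ (Cfsg.conjFun χ - ψ) = τ (Cfsg.conjFun χ - ψ) := by
    rw [LIO.map_sub_zspan hτ₃ (mT _ hχcT) hψT, hτ₃χc, hτ₃ψ, hτβ₁, hXtdef, hXdef]
    abel
  refine ⟨⟨χ - Cfsg.conjFun χ, ?_, ?_⟩, τ₃, hτ₃, ?_⟩
  · exact ⟨sub_mem_zspan (mT χ hχT) (mT _ hχcT), hχχcmem.2⟩
  · rw [sub_ne_zero]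
    exact (hS.conj_ne χ hχ).symm
  · intro α hα
    obtain ⟨p, hp⟩ := coeffAt_int T horthT hnzT hα.1 χ hχT
    obtain ⟨q, hq⟩ := coeffAt_int T horthT hnzT hα.1 (Cfsg.conjFun χ) hχcT
    have hχχne : Cfsg.classInner χ χ ≠ 0 := hnzS χ hχ
    have hχcχcne : Cfsg.classInner (Cfsg.conjFun χ) (Cfsg.conjFun χ) ≠ 0 := hnzS _ hχc
    have c1 : coeffAt (χ - ψ) χ = 1 := by
      rw [coeffAt, classInner_sub_left, hψχ, sub_zero, div_self hχχne]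
    have c2 : coeffAt (Cfsg.conjFun χ - ψ) χ = 0 := by
      rw [coeffAt, classInner_sub_left, hψχ, hχcχ, sub_zero, zero_div]
    have c3 : coeffAt (χ - ψ) (Cfsg.conjFun χ) = 0 := by
      rw [coeffAt, classInner_sub_left, hψχc, hχχc, sub_zero, zero_div]
    have c4 : coeffAt (Cfsg.conjFun χ - ψ) (Cfsg.conjFun χ) = 1 := by
      rw [coeffAt, classInner_sub_left, hψχc, sub_zero, div_self hχcχcne]
    set γ : L → ℂ := α - p • (χ - ψ) - q • (Cfsg.conjFun χ - ψ) with hγdef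
    have hβ₀T : χ - ψ ∈ Cfsg.zspan (↑T : Set (L → ℂ)) := sub_mem_zspan (mT χ hχT) hψT
    have hβ₁T : Cfsg.conjFun χ - ψ ∈ Cfsg.zspan (↑T : Set (L → ℂ)) :=
      sub_mem_zspan (mT _ hχcT) hψT
    have hγT : γ ∈ Cfsg.zspan (↑T : Set (L → ℂ)) :=
      sub_mem_zspan (sub_mem_zspan hα.1 (zsmul_mem_zspan p hβ₀T)) (zsmul_mem_zspan q hβ₁T)
    have hγχc : coeffAt γ (Cfsg.conjFun χ) = 0 := by
      rw [hγdef, sub_eq_add_neg, sub_eq_add_neg, coeffAt_add, coeffAt_add, coeffAt_neg,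
        coeffAt_neg, coeffAt_zsmul, coeffAt_zsmul, c3, c4, hq]
      ring
    have hγχ : coeffAt γ χ = 0 := by
      rw [hγdef, sub_eq_add_neg, sub_eq_add_neg, coeffAt_add, coeffAt_add, coeffAt_neg,
        coeffAt_neg, coeffAt_zsmul, coeffAt_zsmul, c1, c2, hp]
      ring
    have hγS₂ : γ ∈ Cfsg.zspan (↑(insert χ S₁) : Set (L → ℂ)) :=
      mem_zspan_of_coeffAt_eq_zero T horthT hnzT (insert χ S₁) (Cfsg.conjFun χ) hχc_notin hTdef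
        hγT hγχc
    have hγS₁ : γ ∈ Cfsg.zspan (↑S₁ : Set (L → ℂ)) :=
      mem_zspan_of_coeffAt_eq_zero (insert χ S₁) horthS₂ (fun φ hφ => hnzS φ (hS₂S φ hφ)) S₁ χ
        hχ₁ rfl hγS₂ hγχ
    have hγOn : γ ∈ Cfsg.zspanOn (↑S₁ : Set (L → ℂ)) ({1}ᶜ : Set L) := by
      rw [mem_zspanOn_compl_one_iff]
      refine ⟨hγS₁, ?_⟩
      have h1 := (mem_zspanOn_compl_one_iff.mp hα).2
      have h2 := (mem_zspanOn_compl_one_iff.mp hβ₀).2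
      have h3 := (mem_zspanOn_compl_one_iff.mp hβ₁).2
      rw [hγdef, Pi.sub_apply, Pi.sub_apply, Pi.smul_apply, Pi.smul_apply, h1, h2, h3]
      simp
    have hαdec : α = p • (χ - ψ) + q • (Cfsg.conjFun χ - ψ) + γ := by rw [hγdef]; abel
    have hγS := hsubOn hγOn
    have e1 : τ₃ α = p • τ (χ - ψ) + q • τ (Cfsg.conjFun χ - ψ) + τ γ := by
      conv_lhs => rw [hαdec]
      rw [LIO.map_add hτ₃ (add_mem_zspan (zsmul_mem_zspan p hβ₀T) (zsmul_mem_zspan q hβ₁T))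
          (zspan_mono (fun x hx => Finset.mem_coe.mpr (hS₁T x (Finset.mem_coe.mp hx))) hγS₁),
        LIO.map_add hτ₃ (zsmul_mem_zspan p hβ₀T) (zsmul_mem_zspan q hβ₁T),
        LIO.map_zsmul hτ₃ hβ₀T, LIO.map_zsmul hτ₃ hβ₁T, hτ₃β₀, hτ₃β₁, hτ₃S₁ γ hγS₁,
        hagree γ hγOn]
    have e2 : τ α = p • τ (χ - ψ) + q • τ (Cfsg.conjFun χ - ψ) + τ γ := by
      conv_lhs => rw [hαdec]
      rw [LIO.map_add hS.isometry
          (add_mem_zspanOn (zsmul_mem_zspanOn p hβ₀) (zsmul_mem_zspanOn q hβ₁)) hγS,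
        LIO.map_add hS.isometry (zsmul_mem_zspanOn p hβ₀) (zsmul_mem_zspanOn q hβ₁),
        LIO.map_zsmul hS.isometry hβ₀, LIO.map_zsmul hS.isometry hβ₁]
    rw [e1, e2]

end Cfsg.Agent.S1516
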