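import Cfsg.Statements.S1519
-- import your own Cfsg.Agent.* helpers here
import Cfsg.Agent.Lib.Helper34.Coherence
import Cfsg.Agent.Lib.Helper34.IndAbove
import Cfsg.Agent.S1492
import Cfsg.Agent.S1516

set_option autoImplicit false
open Cfsg

namespace Cfsg.Agent.S1519

open Cfsg.Agent.Lib.Helper34

section

variable {L : Type*} [Group L] [Fintype L] {G : Type*} [Group G] [Fintype G]

/-- a subset of a coherent set is coherent, provided it carries a nonzero element vanishing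
at `1` -/
theorem isCoherent_subset {S₁ S₂ : Set (L → ℂ)} (τ : (L → ℂ) → (G → ℂ)) (h : S₂ ⊆ S₁)
    (hcoh : Cfsg.IsCoherent S₁ {1}ᶜ τ) (hne : ∃ α ∈ Cfsg.zspanOn S₂ ({1}ᶜ : Set L), α ≠ 0) :
    Cfsg.IsCoherent S₂ {1}ᶜ τ := by
  obtain ⟨-, τ₁, hτ₁, hag⟩ := hcoh
  have hsub : Cfsg.zspan S₂ ⊆ Cfsg.zspan S₁ := zspan_mono h
  refine ⟨hne, τ₁, ?_, fun α hα => hag α ⟨hsub hα.1, hα.2⟩⟩
  exact ⟨fun α hα β hβ => hτ₁.1 α (hsub hα) β (hsub hβ), fun α hα n => hτ₁.2.1 α (hsub hα) n,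
    fun α hα β hβ => hτ₁.2.2.1 α (hsub hα) β (hsub hβ), fun α hα => hτ₁.2.2.2 α (hsub hα)⟩

theorem cj_cj (φ : L → ℂ) : Cfsg.conjFun (Cfsg.conjFun φ) = φ := by
  funext x
  simp [Cfsg.conjFun]

/-- degree and norm functions on a set of characters -/
theorem exists_dn (S : Set (L → ℂ)) (hchar : ∀ φ ∈ S, Cfsg.IsCharacter L φ) :
    ∃ d n : (L → ℂ) → ℕ, (∀ φ ∈ S, φ 1 = (d φ : ℂ)) ∧
      (∀ φ ∈ S, Cfsg.classInner φ φ = (n φ : ℂ)) := by
  classical
  have hdex : ∀ φ ∈ S, ∃ k : ℕ, φ 1 = k := fun φ hφ =>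
    Cfsg.Agent.Lib.Helper83.char_one_eq_nat (hchar φ hφ)
  have hnex : ∀ φ ∈ S, ∃ k : ℕ, Cfsg.classInner φ φ = k := fun φ hφ =>
    Cfsg.Agent.Lib.Helper83.classInner_char_nat (hchar φ hφ) (hchar φ hφ)
  refine ⟨fun φ => if h : ∃ k : ℕ, φ 1 = k then h.choose else 0,
    fun φ => if h : ∃ k : ℕ, Cfsg.classInner φ φ = k then h.choose else 0, ?_, ?_⟩
  · intro φ hφ
    simp only [dif_pos (hdex φ hφ)]
    exact (hdex φ hφ).choose_spec
  · intro φ hφ
    simp only [dif_pos (hnex φ hφ)]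
    exact (hnex φ hφ).choose_spec

/-- the numerical heart of the argument -/
theorem numeric {e t r I J cK cC cD cL : ℕ} (hcC : 0 < cC) (hcD : 0 < cD)
    (h1 : t ^ 2 * cC * cD ≤ cK ^ 2) (heK : e * cK = cL) (hIC : I * cC = cL) (hJD : J * cD = cC)
    (hlt : 4 * I ^ 2 * J < (r - 1) ^ 2) : 2 * e * t < r - 1 := by
  have h2 : (2 * e * t) ^ 2 * (cC ^ 2 * cD) ≤ (4 * I ^ 2 * J) * (cC ^ 2 * cD) := by
    calc (2 * e * t) ^ 2 * (cC ^ 2 * cD) = 4 * e ^ 2 * cC * (t ^ 2 * cC * cD) := by ring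
      _ ≤ 4 * e ^ 2 * cC * cK ^ 2 := Nat.mul_le_mul_left _ h1
      _ = 4 * (e * cK) ^ 2 * cC := by ring
      _ = 4 * (I * cC) ^ 2 * (J * cD) := by rw [heK, hIC, hJD]
      _ = (4 * I ^ 2 * J) * (cC ^ 2 * cD) := by ring
  have hpos : 0 < cC ^ 2 * cD := by positivity
  have h3 : (2 * e * t) ^ 2 ≤ 4 * I ^ 2 * J := Nat.le_of_mul_le_mul_right h2 hpos
  have h4 : (2 * e * t) ^ 2 < (r - 1) ^ 2 := lt_of_le_of_lt h3 hlt
  exact lt_of_pow_lt_pow_left₀ 2 (Nat.zero_le _) h4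

omit [Fintype L] in
theorem card_subgroupOf_of_le {H K : Subgroup L} (h : H ≤ K) :
    Nat.card (H.subgroupOf K) = Nat.card H :=
  Nat.card_congr (Subgroup.subgroupOfEquivOfLe h).toEquiv

end

/-- Let K be a solvable normal subgroup of the finite group L and (S, τ, R) a coherence system from L to G where S is the set of functions induced from non-principal irreducible characters of K; write S(A) for those induced from characters whose kernel contains A. Let A, B, C, D be normal subgroups of L with A < K, B < K, B ≤ D ≤ C ≤ K and every commutator of D with C in B. If S(A) is coherent and 4 * [L:C]^2 * [C:D] < ([K:A] − 1)^2, then S(B) is coherent. -/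
theorem result {L : Type*} [Group L] [Fintype L] {G : Type*} [Group G] [Fintype G] (K : Subgroup L) [hK : K.Normal] (hsolv : Group.IsSolvable K) (τ : (L → ℂ) → (G → ℂ)) (R : (L → ℂ) → Finset (G → ℂ)) (hS : Cfsg.IsCoherenceSystem (Cfsg.inducedIrrAbove K ⊥) τ R) (A B C D : Subgroup L) [A.Normal] [B.Normal] [C.Normal] [D.Normal] (hAK : A < K) (hBK : B < K) (hBD : B ≤ D) (hDC : D ≤ C) (hCK : C ≤ K) (hcent : ∀ x ∈ D, ∀ y ∈ C, x * y * x⁻¹ * y⁻¹ ∈ B) (hA : Cfsg.IsCoherent (Cfsg.inducedIrrAbove K A) {1}ᶜ τ) (hlt : 4 * C.index ^ 2 * D.relIndex C < (A.relIndex K - 1) ^ 2) : Cfsg.IsCoherent (Cfsg.inducedIrrAbove K B) {1}ᶜ τ := by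
  classical
  have hSfin : (Cfsg.inducedIrrAbove K (⊥ : Subgroup L)).Finite := inducedIrrAbove_finite K ⊥
  have hSA_sub : Cfsg.inducedIrrAbove K A ⊆ Cfsg.inducedIrrAbove K ⊥ :=
    inducedIrrAbove_anti K bot_le
  have hSB_sub : Cfsg.inducedIrrAbove K B ⊆ Cfsg.inducedIrrAbove K ⊥ :=
    inducedIrrAbove_anti K bot_le
  obtain ⟨SA, hSAcoe⟩ : ∃ SA : Finset (L → ℂ), (SA : Set (L → ℂ)) = Cfsg.inducedIrrAbove K A :=
    ⟨(inducedIrrAbove_finite K A).toFinset, Set.Finite.coe_toFinset _⟩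
  obtain ⟨Sf, hSfcoe⟩ : ∃ Sf : Finset (L → ℂ), (Sf : Set (L → ℂ)) = Cfsg.inducedIrrAbove K ⊥ :=
    ⟨hSfin.toFinset, Set.Finite.coe_toFinset _⟩
  obtain ⟨d, n, hd, hn⟩ := exists_dn (Cfsg.inducedIrrAbove K ⊥) hS.isCharacter
  -- the candidates
  let P : Finset (L → ℂ) → Prop := fun S₁ => SA ⊆ S₁ ∧ (∀ φ ∈ S₁, Cfsg.conjFun φ ∈ S₁) ∧
    Cfsg.IsCoherent (↑S₁ : Set (L → ℂ)) {1}ᶜ τ
  have hSAcand : SA ∈ Sf.powerset.filter P := by
    rw [Finset.mem_filter, Finset.mem_powerset]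
    refine ⟨?_, subset_refl _, ?_, ?_⟩
    · intro φ hφ
      rw [← Finset.mem_coe, hSfcoe]
      apply hSA_sub
      rw [← hSAcoe]
      exact Finset.mem_coe.mpr hφ
    · intro φ hφ
      rw [← Finset.mem_coe, hSAcoe] at hφ ⊢
      exact inducedIrrAbove_conj_mem K A hφ
    · rw [hSAcoe]
      exact hA
  obtain ⟨S₁, hS₁mem, hS₁max⟩ :=
    Finset.exists_max_image (Sf.powerset.filter P) Finset.card ⟨SA, hSAcand⟩
  rw [Finset.mem_filter, Finset.mem_powerset] at hS₁mem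
  obtain ⟨hS₁sub, hSAS₁, hS₁c, hS₁coh⟩ := hS₁mem
  have hS₁S : (↑S₁ : Set (L → ℂ)) ⊆ Cfsg.inducedIrrAbove K ⊥ := by
    intro φ hφ
    rw [← hSfcoe]
    exact Finset.mem_coe.mpr (hS₁sub (Finset.mem_coe.mp hφ))
  -- the linear character
  haveI : (A.subgroupOf K).Normal := inferInstance
  haveI : (B.subgroupOf K).Normal := inferInstance
  obtain ⟨lam, hlam, hlam1, hlamne, hlamA⟩ := exists_linear_above K hsolv A hAK
  have hχ₁A : Cfsg.indFun K lam ∈ Cfsg.inducedIrrAbove K A := ⟨lam, hlam, hlamne, hlamA, rfl⟩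
  have hχ₁S₁ : Cfsg.indFun K lam ∈ S₁ := by
    apply hSAS₁
    rw [← Finset.mem_coe, hSAcoe]
    exact hχ₁A
  have hF5 := sum_inducedIrrAbove K A hAK.le SA hSAcoe
  -- sizes
  have hKpos : 0 < K.index := Nat.pos_of_ne_zero Subgroup.index_ne_zero_of_finite
  have hd₁ : d (Cfsg.indFun K lam) = K.index := by
    have h1 := hd _ (hSA_sub hχ₁A)
    rw [Cfsg.Agent.Lib.Helper83.indFun_one_eq, hlam1, mul_one] at h1
    exact_mod_cast h1.symm
  -- the sum over `SA` in real form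
  have hF5' : ∑ φ ∈ SA, ((d φ : ℝ) ^ 2 / (n φ : ℝ)) =
      (K.index : ℝ) * ((A.relIndex K : ℝ) - 1) := by
    apply Complex.ofReal_injective
    push_cast
    rw [← hF5]
    apply Finset.sum_congr rfl
    intro φ hφ
    have hφS : φ ∈ Cfsg.inducedIrrAbove K ⊥ := by
      apply hSA_sub
      rw [← hSAcoe]
      exact Finset.mem_coe.mpr hφ
    rw [hd φ hφS, hn φ hφS]
  have hle : ∑ φ ∈ SA, ((d φ : ℝ) ^ 2 / (n φ : ℝ)) ≤ ∑ φ ∈ S₁, ((d φ : ℝ) ^ 2 / (n φ : ℝ)) := by
    apply Finset.sum_le_sum_of_subset_of_nonneg hSAS₁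
    intro φ _ _
    positivity
  -- the claim
  have hclaim : Cfsg.inducedIrrAbove K B ⊆ (↑S₁ : Set (L → ℂ)) := by
    intro χ hχB
    by_contra hχ₁'
    have hχ₁ : χ ∉ S₁ := fun h => hχ₁' (Finset.mem_coe.mpr h)
    have hχS : χ ∈ Cfsg.inducedIrrAbove K ⊥ := hSB_sub hχB
    have hχ₂ : Cfsg.conjFun χ ∉ S₁ := by
      intro h
      apply hχ₁
      have := hS₁c _ h
      rwa [cj_cj] at this
    obtain ⟨θ, hθ, hθne, hθB, hχθ⟩ := hχB
    obtain ⟨t, ht⟩ := Cfsg.Agent.Lib.Helper83.char_one_eq_nat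
      (Cfsg.Agent.Lib.Helper83.isCharacter_of_irr hθ)
    have hdχ : d χ = K.index * t := by
      have h1 := hd _ hχS
      rw [hχθ, Cfsg.Agent.Lib.Helper83.indFun_one_eq, ht] at h1
      rw [hχθ]
      exact_mod_cast h1.symm
    have hdvd : d (Cfsg.indFun K lam) ∣ d χ := by
      rw [hd₁, hdχ]
      exact Dvd.intro _ rfl
    -- the numerical inequality
    have hnum : 2 * K.index * t < A.relIndex K - 1 := by
      have h92 := Cfsg.Agent.S1492.result θ hθ (B.subgroupOf K) (C.subgroupOf K) (D.subgroupOf K)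
        (fun x hx => Subgroup.mem_subgroupOf.mpr (hBD (Subgroup.mem_subgroupOf.mp hx)))
        (fun x hx => Subgroup.mem_subgroupOf.mpr (hDC (Subgroup.mem_subgroupOf.mp hx)))
        (fun c _ b hb => Subgroup.mem_subgroupOf.mpr (by
            have := (inferInstance : B.Normal).conj_mem _ (Subgroup.mem_subgroupOf.mp hb) (c : L)
            simpa using this))
        (fun d hd c hc => Subgroup.mem_subgroupOf.mpr (by
            have := hcent _ (Subgroup.mem_subgroupOf.mp hd) _ (Subgroup.mem_subgroupOf.mp hc)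
            simpa using this))
        (fun b hb => hθB b (Subgroup.mem_subgroupOf.mp hb))
      rw [card_subgroupOf_of_le hCK, card_subgroupOf_of_le (hDC.trans hCK), ht] at h92
      have h1 : t ^ 2 * Nat.card C * Nat.card D ≤ (Nat.card K) ^ 2 := by
        have : ‖(t : ℂ)‖ = t := by simp
        rw [this] at h92
        exact_mod_cast h92
      have hJD : D.relIndex C * Nat.card D = Nat.card C := by
        have := Subgroup.index_mul_card (D.subgroupOf C)
        rwa [card_subgroupOf_of_le hDC] at this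
      exact numeric Nat.card_pos Nat.card_pos h1 (Subgroup.index_mul_card K)
        (Subgroup.index_mul_card C) hJD hlt
    have hineq : (2 * d χ * d (Cfsg.indFun K lam) : ℝ) <
        ∑ φ ∈ S₁, ((d φ : ℝ) ^ 2 / (n φ : ℝ)) := by
      refine lt_of_lt_of_le ?_ hle
      rw [hF5', hd₁, hdχ]
      have hr1 : 1 ≤ A.relIndex K := by omega
      have h2 : ((2 * K.index * t : ℕ) : ℝ) < ((A.relIndex K - 1 : ℕ) : ℝ) := by
        exact_mod_cast hnum
      rw [Nat.cast_sub hr1] at h2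
      push_cast at h2 ⊢
      have hK' : (0 : ℝ) < (K.index : ℝ) := by exact_mod_cast hKpos
      nlinarith
    have hnew := Cfsg.Agent.S1516.result (Cfsg.inducedIrrAbove K ⊥) τ R hS d n hd hn S₁ hS₁S hS₁c
      hS₁coh χ hχS hχ₁ hχ₂ (Cfsg.indFun K lam) hχ₁S₁ hdvd hineq
    -- a bigger candidate
    have hS₂coe : ((insert χ (insert (Cfsg.conjFun χ) S₁) : Finset (L → ℂ)) : Set (L → ℂ)) =
        ↑S₁ ∪ {χ, Cfsg.conjFun χ} := by
      ext x
      simp only [Finset.coe_insert, Set.mem_insert_iff, Finset.mem_coe, Set.mem_union,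
        Set.mem_singleton_iff]
      tauto
    have hS₂cand : insert χ (insert (Cfsg.conjFun χ) S₁) ∈ Sf.powerset.filter P := by
      rw [Finset.mem_filter, Finset.mem_powerset]
      refine ⟨?_, ?_, ?_, ?_⟩
      · intro φ hφ
        rw [Finset.mem_insert, Finset.mem_insert] at hφ
        rw [← Finset.mem_coe, hSfcoe]
        rcases hφ with rfl | rfl | hφ
        · exact hχS
        · exact hS.conj_mem _ hχS
        · exact hS₁S (Finset.mem_coe.mpr hφ)
      · intro φ hφ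
        exact Finset.mem_insert_of_mem (Finset.mem_insert_of_mem (hSAS₁ hφ))
      · intro φ hφ
        rw [Finset.mem_insert, Finset.mem_insert] at hφ ⊢
        rcases hφ with rfl | rfl | hφ
        · right; left; rfl
        · left; exact cj_cj _
        · right; right; exact hS₁c φ hφ
      · rw [hS₂coe]
        exact hnew
    have hcard : S₁.card < (insert χ (insert (Cfsg.conjFun χ) S₁)).card := by
      rw [Finset.card_insert_of_notMem]
      · exact lt_of_le_of_lt (Finset.card_le_card (Finset.subset_insert _ _)) (Nat.lt_succ_self _)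
      · rw [Finset.mem_insert]
        rintro (h | h)
        · exact hS.conj_ne χ hχS h.symm
        · exact hχ₁ h
    exact absurd (hS₁max _ hS₂cand) (not_le.mpr hcard)
  -- conclusion
  apply isCoherent_subset τ hclaim hS₁coh
  obtain ⟨lamB, hlamB, hlamB1, hlamBne, hlamBB⟩ := exists_linear_above K hsolv B hBK
  have hχB : Cfsg.indFun K lamB ∈ Cfsg.inducedIrrAbove K B := ⟨lamB, hlamB, hlamBne, hlamBB, rfl⟩
  have hχBc := inducedIrrAbove_conj_mem K B hχB
  refine ⟨Cfsg.indFun K lamB - Cfsg.conjFun (Cfsg.indFun K lamB), ?_, ?_⟩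
  · rw [mem_zspanOn_compl_one_iff]
    refine ⟨sub_mem_zspan (mem_zspan_of_mem hχB) (mem_zspan_of_mem hχBc), ?_⟩
    obtain ⟨k, hk⟩ := Cfsg.Agent.Lib.Helper83.char_one_eq_nat
      (hS.isCharacter _ (hSB_sub hχB))
    simp [Cfsg.conjFun, hk]
  · intro h
    exact hS.conj_ne _ (hSB_sub hχB) (sub_eq_zero.mp h).symm

end Cfsg.Agent.S1519
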