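import Cfsg.Statements.S1520
-- import your own Cfsg.Agent.* helpers here
import Cfsg.Agent.S1519

set_option autoImplicit false
open Cfsg

namespace Cfsg.Agent.S1520

section

open scoped commutatorElement

variable {L : Type*} [Group L]

/-- the descending chain `X₀ = H₁`, `X_{i+1} = [X_i, H] M` -/
def chain (M H₁ H : Subgroup L) : ℕ → Subgroup L
  | 0 => H₁
  | (i + 1) => ⁅chain M H₁ H i, H⁆ ⊔ M

theorem chain_normal (M H₁ H : Subgroup L) [M.Normal] [H₁.Normal] [H.Normal] (i : ℕ) :
    (chain M H₁ H i).Normal := by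
  induction i with
  | zero => exact (inferInstance : H₁.Normal)
  | succ i ih =>
    haveI := ih
    show (⁅chain M H₁ H i, H⁆ ⊔ M).Normal
    infer_instance

theorem le_chain (M H₁ H : Subgroup L) (hMH₁ : M ≤ H₁) (i : ℕ) : M ≤ chain M H₁ H i := by
  cases i with
  | zero => exact hMH₁
  | succ i => exact le_sup_right

theorem chain_succ_le (M H₁ H : Subgroup L) [M.Normal] [H₁.Normal] [H.Normal] (hMH₁ : M ≤ H₁)
    (i : ℕ) : chain M H₁ H (i + 1) ≤ chain M H₁ H i := by
  haveI := chain_normal M H₁ H i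
  exact sup_le (Subgroup.commutator_le_left _ _) (le_chain M H₁ H hMH₁ i)

theorem chain_le (M H₁ H : Subgroup L) [M.Normal] [H₁.Normal] [H.Normal] (hMH₁ : M ≤ H₁)
    (i : ℕ) : chain M H₁ H i ≤ H₁ := by
  induction i with
  | zero => exact le_refl _
  | succ i ih => exact (chain_succ_le M H₁ H hMH₁ i).trans ih

/-- the chain lies in the preimage of the lower central series of `H/M` -/
theorem chain_le_lcs (M H₁ H : Subgroup L) (hMH₁ : M ≤ H₁) (hH₁H : H₁ ≤ H) [(M.subgroupOf H).Normal] (i : ℕ) :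
    ∀ x ∈ chain M H₁ H i, ∃ hx : x ∈ H,
      (QuotientGroup.mk (⟨x, hx⟩ : ↥H) : ↥H ⧸ M.subgroupOf H) ∈
        Subgroup.lowerCentralSeries (⊤ : Subgroup (↥H ⧸ M.subgroupOf H)) i := by
  induction i with
  | zero =>
    intro x hx
    exact ⟨hH₁H hx, Subgroup.mem_top _⟩
  | succ i ih =>
    intro x hx
    -- the set of good elements is a subgroup
    let W : Subgroup L :=
      ((Subgroup.lowerCentralSeries (⊤ : Subgroup (↥H ⧸ M.subgroupOf H)) (i + 1)).comap
        (QuotientGroup.mk' (M.subgroupOf H))).map H.subtype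
    have hW : ∀ y, y ∈ W ↔ ∃ hy : y ∈ H,
        (QuotientGroup.mk (⟨y, hy⟩ : ↥H) : ↥H ⧸ M.subgroupOf H) ∈
          Subgroup.lowerCentralSeries (⊤ : Subgroup (↥H ⧸ M.subgroupOf H)) (i + 1) := by
      intro y
      constructor
      · rintro ⟨y', hy', rfl⟩
        exact ⟨y'.2, hy'⟩
      · rintro ⟨hy, h⟩
        exact ⟨⟨y, hy⟩, h, rfl⟩
    have hle : chain M H₁ H (i + 1) ≤ W := by
      apply sup_le
      · rw [Subgroup.commutator_le]
        intro a ha b hb
        obtain ⟨ha', hamem⟩ := ih a ha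
        rw [hW]
        have hab : ⁅a, b⁆ ∈ H := by
          rw [commutatorElement_def]
          exact H.mul_mem (H.mul_mem (H.mul_mem ha' hb) (H.inv_mem ha')) (H.inv_mem hb)
        refine ⟨hab, ?_⟩
        have h1 : (QuotientGroup.mk (⟨⁅a, b⁆, hab⟩ : ↥H) : ↥H ⧸ M.subgroupOf H) =
            ⁅(QuotientGroup.mk (⟨a, ha'⟩ : ↥H) : ↥H ⧸ M.subgroupOf H),
              (QuotientGroup.mk (⟨b, hb⟩ : ↥H) : ↥H ⧸ M.subgroupOf H)⁆ := by
          have h0 : (⟨⁅a, b⁆, hab⟩ : ↥H) = ⁅(⟨a, ha'⟩ : ↥H), ⟨b, hb⟩⁆ :=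
            Subtype.ext (by simp [commutatorElement_def])
          rw [h0]
          exact map_commutatorElement (QuotientGroup.mk' (M.subgroupOf H)) _ _
        rw [h1, Subgroup.lowerCentralSeries_succ]
        exact Subgroup.commutator_mem_commutator hamem (Subgroup.mem_top _)
      · intro m hm
        rw [hW]
        refine ⟨hH₁H (hMH₁ hm), ?_⟩
        have : (QuotientGroup.mk (⟨m, hH₁H (hMH₁ hm)⟩ : ↥H) : ↥H ⧸ M.subgroupOf H) = 1 := by
          rw [QuotientGroup.eq_one_iff]
          exact Subgroup.mem_subgroupOf.mpr hm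
        rw [this]
        exact Subgroup.one_mem _
    exact (hW x).mp (hle hx)

theorem numeric2 {e a b : ℕ} (ha : 1 ≤ a) (hb : 4 * e ^ 2 + 1 < b) :
    4 * (a * e) ^ 2 * b < (b * a - 1) ^ 2 := by
  obtain ⟨s, hs⟩ : ∃ s, b * a = s + 1 := by
    have : 0 < b * a := Nat.mul_pos (by omega) ha
    exact ⟨b * a - 1, by omega⟩
  rw [hs, Nat.add_sub_cancel]
  have h1 : (4 * e ^ 2 + 2) * (a ^ 2 * b) ≤ b * (a ^ 2 * b) := Nat.mul_le_mul_right _ hb
  have h2 : a * b ≤ a ^ 2 * b := by
    have : a ≤ a ^ 2 := by nlinarith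
    exact Nat.mul_le_mul_right _ this
  zify at *
  have hs' : (s : ℤ) = b * a - 1 := by linarith
  rw [hs']
  nlinarith

end

/-- Let K be a solvable normal subgroup of the finite group L and (S, τ, R) a coherence system from L to G with S the functions induced from non-principal irreducible characters of K; S(A) the members of S induced from characters whose kernel contains A. Let M ≤ H₁ ≤ H ≤ K be normal subgroups of L such that every term of the lower central series of H eventually lies in M (H/M nilpotent), S(H₁) is coherent and [H:H₁] > 4 * [L:K]^2 + 1. Then S(M) is coherent. -/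
theorem result {L : Type*} [Group L] [Fintype L] {G : Type*} [Group G] [Fintype G] (K : Subgroup L) [hK : K.Normal] (hsolv : Group.IsSolvable K) (τ : (L → ℂ) → (G → ℂ)) (R : (L → ℂ) → Finset (G → ℂ)) (hS : Cfsg.IsCoherenceSystem (Cfsg.inducedIrrAbove K ⊥) τ R) (M H₁ H : Subgroup L) [M.Normal] [H₁.Normal] [H.Normal] (hMH₁ : M ≤ H₁) (hH₁H : H₁ ≤ H) (hHK : H ≤ K) [(M.subgroupOf H).Normal] (hnil : Group.IsNilpotent (↥H ⧸ M.subgroupOf H)) (hcoh : Cfsg.IsCoherent (Cfsg.inducedIrrAbove K H₁) {1}ᶜ τ) (hbig : 4 * K.index ^ 2 + 1 < H₁.relIndex H) : Cfsg.IsCoherent (Cfsg.inducedIrrAbove K M) {1}ᶜ τ := by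
  classical
  have hKpos : 0 < K.index := Nat.pos_of_ne_zero Subgroup.index_ne_zero_of_finite
  -- `H₁ < K`
  have hH₁K : H₁ < K := by
    refine lt_of_le_of_ne (hH₁H.trans hHK) ?_
    intro h
    have h1 : H₁.relIndex H = 1 := by
      rw [Subgroup.relIndex_eq_one, h]
      exact hHK
    rw [h1] at hbig
    omega
  have key : ∀ i : ℕ, Cfsg.IsCoherent (Cfsg.inducedIrrAbove K (chain M H₁ H i)) {1}ᶜ τ := by
    intro i
    induction i with
    | zero => exact hcoh
    | succ i ih =>
      haveI := chain_normal M H₁ H i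
      haveI := chain_normal M H₁ H (i + 1)
      have hle₁ : chain M H₁ H i ≤ H₁ := chain_le M H₁ H hMH₁ i
      have hle₂ : chain M H₁ H (i + 1) ≤ chain M H₁ H i := chain_succ_le M H₁ H hMH₁ i
      refine Cfsg.Agent.S1519.result K hsolv τ R hS (chain M H₁ H i) (chain M H₁ H (i + 1)) H
        (chain M H₁ H i) (lt_of_le_of_lt hle₁ hH₁K) (lt_of_le_of_lt (hle₂.trans hle₁) hH₁K)
        hle₂ (hle₁.trans hH₁H) hHK ?_ ih ?_
      · intro x hx y hy
        have := Subgroup.commutator_mem_commutator hx hy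
        rw [commutatorElement_def] at this
        exact (le_sup_left : ⁅chain M H₁ H i, H⁆ ≤ ⁅chain M H₁ H i, H⁆ ⊔ M) this
      · -- numerics
        have h1 : H.index = H.relIndex K * K.index := (Subgroup.relIndex_mul_index hHK).symm
        have h2 : (chain M H₁ H i).relIndex K =
            (chain M H₁ H i).relIndex H * H.relIndex K :=
          (Subgroup.relIndex_mul_relIndex _ _ _ (hle₁.trans hH₁H) hHK).symm
        have h3 : H₁.relIndex H ≤ (chain M H₁ H i).relIndex H := by
          apply Nat.le_of_dvd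
          · exact Nat.pos_of_ne_zero
              (Subgroup.index_ne_zero_of_finite : ((chain M H₁ H i).subgroupOf H).index ≠ 0)
          · exact Subgroup.relIndex_dvd_of_le_left H hle₁
        have h4 : 1 ≤ H.relIndex K := Nat.pos_of_ne_zero
          (Subgroup.index_ne_zero_of_finite : (H.subgroupOf K).index ≠ 0)
        rw [h1, h2]
        exact numeric2 h4 (lt_of_lt_of_le hbig h3)
  obtain ⟨n, hn⟩ := Subgroup.nilpotent_iff_lowerCentralSeries.mp hnil
  have hfin : chain M H₁ H n = M := by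
    apply le_antisymm
    · intro x hx
      obtain ⟨hxH, hmem⟩ := chain_le_lcs M H₁ H hMH₁ hH₁H n x hx
      rw [hn, Subgroup.mem_bot, QuotientGroup.eq_one_iff] at hmem
      exact Subgroup.mem_subgroupOf.mp hmem
    · exact le_chain M H₁ H hMH₁ n
  rw [← hfin]
  exact key n

end Cfsg.Agent.S1520
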