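import Cfsg.Statements.S1535
-- import your own Cfsg.Agent.* helpers here
import Cfsg.Agent.Lib.Helper34.FrobCoh
import Cfsg.Agent.Lib.Helper34.FrobTI
import Cfsg.Agent.Lib.Helper34.FrobQuot
import Cfsg.Agent.Lib.Helper34.NilpQuot
import Cfsg.Agent.Lib.Helper34.IndAbove
import Cfsg.Agent.Lib.Helper34.Coherence
import Cfsg.Agent.Lib.Helper03.FrobThompson
import Cfsg.Agent.Lib.Helper05.PiSection
import Cfsg.Agent.Lib.Helper83.Abelian

set_option autoImplicit false
open Cfsg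

namespace Cfsg.Agent.S1535

open Cfsg.Agent.Lib.Helper34

section Hall

variable {N : Type*} [Group N] [Finite N]

/-- Hall decomposition of a nilpotent normal subgroup into `N`-normal `p`- and `p'`-parts -/
theorem exists_hall_normal (H : Subgroup N) [hHn : H.Normal] (hnil : Group.IsNilpotent H)
    (p : ℕ) (hp : p.Prime) :
    ∃ P Q : Subgroup N, P.Normal ∧ Q.Normal ∧ P ⊔ Q = H ∧ P ⊓ Q = ⊥ ∧
      (∀ a ∈ P, ∀ b ∈ Q, a * b = b * a) ∧ (∃ k, Nat.card P = p ^ k) ∧ ¬ p ∣ Nat.card Q := by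
  classical
  have hcard0 : Nat.card H ≠ 0 := Nat.card_pos.ne'
  set m := p ^ (Nat.card H).factorization p with hm
  set n := Nat.card H / m with hn
  have hmn : m * n = Nat.card H := Nat.ordProj_mul_ordCompl_eq_self (Nat.card H) p
  have hcop : m.Coprime n := (Nat.coprime_ordCompl hp hcard0).pow_left _
  have hmpos : 0 < m := pos_of_ne_zero (fun h => hcard0 (by rw [← hmn, h, zero_mul]))
  have hnpos : 0 < n := pos_of_ne_zero (fun h => hcard0 (by rw [← hmn, h, mul_zero]))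
  obtain ⟨A, B, hA, hB, hAB, hcomm, hbij⟩ :=
    Cfsg.Agent.Lib.Helper05.exists_hall_pair (E := ↥H) hcop (dvd_of_eq hmn.symm)
  have hAm : Nat.card A = m := by
    obtain ⟨a', ha'⟩ := hA
    obtain ⟨b', hb'⟩ := hB
    have h1 : Nat.card A * Nat.card B * (a' * b') = Nat.card A * Nat.card B * 1 := by
      calc Nat.card A * Nat.card B * (a' * b') = (Nat.card A * a') * (Nat.card B * b') := by ring
        _ = m * n := by rw [← ha', ← hb']
        _ = Nat.card A * Nat.card B * 1 := by rw [hmn, hAB, mul_one]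
    have hABpos : 0 < Nat.card A * Nat.card B := by rw [hAB]; exact Nat.card_pos
    have h2 : a' * b' = 1 := Nat.eq_of_mul_eq_mul_left hABpos h1
    have h3 : a' = 1 := Nat.eq_one_of_mul_eq_one_right h2
    rw [ha', h3, mul_one]
  have hBn : Nat.card B = n := by
    have h1 : m * Nat.card B = m * n := by rw [← hAm, hAB, hAm, hmn]
    exact Nat.eq_of_mul_eq_mul_left hmpos h1
  have hApow : ∀ x : H, x ∈ A → x ^ m = 1 := by
    intro x hx
    have := pow_card_eq_one' (G := A) (x := ⟨x, hx⟩)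
    rw [hAm] at this
    have h2 := congrArg Subtype.val this
    rw [Subgroup.coe_pow, Subgroup.coe_one] at h2
    exact h2
  have hBpow : ∀ x : H, x ∈ B → x ^ n = 1 := by
    intro x hx
    have := pow_card_eq_one' (G := B) (x := ⟨x, hx⟩)
    rw [hBn] at this
    have h2 := congrArg Subtype.val this
    rw [Subgroup.coe_pow, Subgroup.coe_one] at h2
    exact h2
  have hone : ∀ x : H, x ^ m = 1 → x ^ n = 1 → x = 1 := by
    intro x h1 h2
    have h3 : orderOf x ∣ m := orderOf_dvd_of_pow_eq_one h1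
    have h4 : orderOf x ∣ n := orderOf_dvd_of_pow_eq_one h2
    exact orderOf_eq_one_iff.mp (Nat.eq_one_of_dvd_coprimes hcop h3 h4)
  have hAiff : ∀ x : H, x ∈ A ↔ x ^ m = 1 := by
    intro x
    refine ⟨hApow x, fun hx => ?_⟩
    obtain ⟨⟨a, b⟩, hab⟩ := hbij.surjective x
    simp only at hab
    have hc : Commute (a : H) (b : H) := hcomm a a.2 b b.2
    have h1 : (b : H) ^ m = 1 := by
      have := hx
      rw [← hab, hc.mul_pow, hApow a a.2, one_mul] at this
      exact this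
    have hb1 : (b : H) = 1 := hone _ h1 (hBpow b b.2)
    rw [← hab, hb1, mul_one]
    exact a.2
  have hBiff : ∀ x : H, x ∈ B ↔ x ^ n = 1 := by
    intro x
    refine ⟨hBpow x, fun hx => ?_⟩
    obtain ⟨⟨a, b⟩, hab⟩ := hbij.surjective x
    simp only at hab
    have hc : Commute (a : H) (b : H) := hcomm a a.2 b b.2
    have h1 : (a : H) ^ n = 1 := by
      have := hx
      rw [← hab, hc.mul_pow, hBpow b b.2, mul_one] at this
      exact this
    have ha1 : (a : H) = 1 := hone _ (hApow a a.2) h1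
    rw [← hab, ha1, one_mul]
    exact b.2
  have hnormal : ∀ (C : Subgroup H) (k : ℕ), (∀ x : H, x ∈ C ↔ x ^ k = 1) →
      (C.map H.subtype).Normal := by
    intro C k hC
    refine ⟨fun x hx g => ?_⟩
    obtain ⟨c, hc, rfl⟩ := hx
    have hmem : g * (c : N) * g⁻¹ ∈ H := hHn.conj_mem _ c.2 g
    refine ⟨⟨g * (c : N) * g⁻¹, hmem⟩, ?_, rfl⟩
    rw [SetLike.mem_coe, hC]
    apply Subtype.ext
    rw [Subgroup.coe_pow, Subgroup.coe_one]
    show (g * (c : N) * g⁻¹) ^ k = 1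
    rw [conj_pow]
    have h1 := (hC c).mp hc
    have h2 := congrArg Subtype.val h1
    rw [Subgroup.coe_pow, Subgroup.coe_one] at h2
    rw [h2, mul_one, mul_inv_cancel]
  refine ⟨A.map H.subtype, B.map H.subtype, hnormal A m hAiff, hnormal B n hBiff, ?_, ?_, ?_, ?_, ?_⟩
  · apply le_antisymm
    · exact sup_le (Subgroup.map_subtype_le A) (Subgroup.map_subtype_le B)
    · intro x hx
      obtain ⟨⟨a, b⟩, hab⟩ := hbij.surjective ⟨x, hx⟩
      simp only at hab
      have h1 : x = ((a : H) : N) * ((b : H) : N) := by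
        have := congrArg Subtype.val hab
        rw [Subgroup.coe_mul] at this
        exact this.symm
      rw [h1]
      exact Subgroup.mul_mem_sup (Subgroup.mem_map_of_mem _ a.2) (Subgroup.mem_map_of_mem _ b.2)
  · rw [eq_bot_iff]
    rintro x ⟨⟨a, ha, rfl⟩, ⟨b, hb, hab⟩⟩
    rw [Subgroup.mem_bot]
    have hab' : b = a := Subtype.ext hab
    subst hab'
    have := hone b (hApow b ha) (hBpow b hb)
    rw [this]
    rfl
  · rintro x ⟨a, ha, rfl⟩ y ⟨b, hb, rfl⟩
    have := (hcomm a ha b hb).eq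
    exact congrArg Subtype.val this
  · refine ⟨(Nat.card H).factorization p, ?_⟩
    rw [Subgroup.card_map_of_injective (Subgroup.subtype_injective H), hAm]
  · rw [Subgroup.card_map_of_injective (Subgroup.subtype_injective H), hBn]
    exact Nat.not_dvd_ordCompl hp hcard0

end Hall

section Frob

variable {N : Type*} [Group N] [Fintype N] (H : Subgroup N) [hHn : H.Normal]
  (hC : ∀ h ∈ H, h ≠ 1 → Subgroup.centralizer ({h} : Set N) ≤ H)

include hC in
theorem set_eq : {χ : N → ℂ | Cfsg.IsIrrCharacter N χ ∧ ∃ h ∈ H, χ h ≠ χ 1} =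
    Cfsg.inducedIrrAbove H ⊥ := by
  ext χ
  constructor
  · intro hχ
    obtain ⟨φ, hφ, hne, rfl⟩ := FrobRel.eq_ind H hC (χ := χ) hχ
    refine ⟨φ, hφ, hne, ?_, rfl⟩
    intro a ha
    rw [Subgroup.mem_bot] at ha
    have : a = 1 := Subtype.ext ha
    rw [this]
  · rintro ⟨θ, hθ, hne, -, rfl⟩
    exact ind_frobRel H hC hθ hne

include hC in
theorem irrS : ∀ χ ∈ Cfsg.inducedIrrAbove H ⊥, Cfsg.IsIrrCharacter N χ := by
  rintro χ ⟨θ, hθ, hne, -, rfl⟩
  exact (ind_frobRel H hC hθ hne).1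

include hC in
/-- `[H : X] ≡ 1` modulo `[N : H]` for every normal subgroup `X ≤ H` of `N` -/
theorem relIndex_eq (X : Subgroup N) [X.Normal] (hXH : X ≤ H) :
    ∃ a : ℕ, X.relIndex H = a * H.index + 1 := by
  classical
  obtain ⟨T, hT⟩ : ∃ T : Finset (N → ℂ), (T : Set (N → ℂ)) = Cfsg.inducedIrrAbove H X :=
    ⟨(inducedIrrAbove_finite H X).toFinset, Set.Finite.coe_toFinset _⟩
  have hsum := sum_inducedIrrAbove H X hXH T hT
  have hsub : Cfsg.inducedIrrAbove H X ⊆ Cfsg.inducedIrrAbove H ⊥ := inducedIrrAbove_anti H bot_le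
  have hdeg : ∀ φ ∈ T, ∃ t : ℕ, φ 1 = ((H.index * t : ℕ) : ℂ) := by
    intro φ hφ
    have hφ' : φ ∈ Cfsg.inducedIrrAbove H X := by rw [← hT]; exact Finset.mem_coe.mpr hφ
    obtain ⟨θ, hθ, -, -, rfl⟩ := hφ'
    obtain ⟨t, ht⟩ := Cfsg.Agent.Lib.Helper83.char_one_eq_nat
      (Cfsg.Agent.Lib.Helper83.isCharacter_of_irr hθ)
    refine ⟨t, ?_⟩
    rw [Cfsg.Agent.Lib.Helper83.indFun_one_eq, ht]
    push_cast
    rfl
  choose! t ht using hdeg
  have hr1 : 1 ≤ X.relIndex H := Nat.pos_of_ne_zero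
    (Subgroup.index_ne_zero_of_finite : (X.subgroupOf H).index ≠ 0)
  have hepos : 0 < H.index := Nat.pos_of_ne_zero Subgroup.index_ne_zero_of_finite
  have h1 : ((∑ φ ∈ T, (H.index * t φ) ^ 2 : ℕ) : ℂ) = ((H.index * (X.relIndex H - 1) : ℕ) : ℂ) := by
    rw [Nat.cast_mul, Nat.cast_sub hr1, Nat.cast_one, ← hsum, Nat.cast_sum]
    apply Finset.sum_congr rfl
    intro φ hφ
    have hφ' : φ ∈ Cfsg.inducedIrrAbove H ⊥ := by
      apply hsub; rw [← hT]; exact Finset.mem_coe.mpr hφ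
    rw [ht φ hφ, Cfsg.Agent.Lib.Helper05.classInner_irr_self (irrS H hC φ hφ'), div_one]
    push_cast
    rfl
  have h2 : ∑ φ ∈ T, (H.index * t φ) ^ 2 = H.index * (X.relIndex H - 1) := by exact_mod_cast h1
  have h3 : H.index * (H.index * ∑ φ ∈ T, t φ ^ 2) = H.index * (X.relIndex H - 1) := by
    rw [← h2, Finset.mul_sum, Finset.mul_sum]
    apply Finset.sum_congr rfl
    intro φ _
    ring
  have h4 : H.index * ∑ φ ∈ T, t φ ^ 2 = X.relIndex H - 1 := Nat.eq_of_mul_eq_mul_left hepos h3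
  refine ⟨∑ φ ∈ T, t φ ^ 2, ?_⟩
  rw [mul_comm, h4]
  omega

include hC in
/-- consecutive normal subgroups have index at least `e + 1` -/
theorem relIndex_ge (X Y : Subgroup N) [X.Normal] [Y.Normal] (hXY : X ≤ Y) (hYH : Y ≤ H)
    (hne : ¬ Y ≤ X) : H.index + 1 ≤ X.relIndex Y := by
  obtain ⟨a, ha⟩ := relIndex_eq H hC X (hXY.trans hYH)
  obtain ⟨b, hb⟩ := relIndex_eq H hC Y hYH
  have hmul := Subgroup.relIndex_mul_relIndex X Y H hXY hYH
  have hc1 : X.relIndex Y ≠ 1 := fun h => hne (Subgroup.relIndex_eq_one.mp h)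
  have hc0 : 0 < X.relIndex Y := Nat.pos_of_ne_zero
    (Subgroup.index_ne_zero_of_finite : (X.subgroupOf Y).index ≠ 0)
  rw [ha, hb] at hmul
  have hepos : 0 < H.index := Nat.pos_of_ne_zero Subgroup.index_ne_zero_of_finite
  set c := X.relIndex Y with hc
  set e := H.index with he
  -- c * (b e + 1) = a e + 1, so c ≡ 1 mod e
  have h1 : c + c * b * e = a * e + 1 := by linarith [hmul, mul_add c (b * e) 1, mul_assoc c b e]
  have h2 : c - 1 = (a - c * b) * e := by
    have h3 : c * b ≤ a := by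
      by_contra hlt
      push Not at hlt
      have : (a + 1) * e ≤ c * b * e := Nat.mul_le_mul_right e hlt
      linarith
    zify [hc0, h3]
    linarith [h1]
  have h5 : 0 < a - c * b := by
    rcases Nat.eq_zero_or_pos (a - c * b) with h0 | h0
    · rw [h0, zero_mul] at h2; omega
    · exact h0
  have : e ≤ (a - c * b) * e := Nat.le_mul_of_pos_left e h5
  omega

include hC in
/-- the kernel of a Frobenius group is nilpotent (Thompson) -/
theorem kernel_nilpotent (hH2 : H ≠ ⊤) : Group.IsNilpotent H := by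
  have hepos : 0 < H.index := Nat.pos_of_ne_zero Subgroup.index_ne_zero_of_finite
  have he1 : H.index ≠ 1 := fun h => hH2 (Subgroup.index_eq_one.mp h)
  obtain ⟨a, ha⟩ := relIndex_eq H hC ⊥ bot_le
  rw [Subgroup.relIndex_bot_left] at ha
  set r := H.index.minFac with hr
  have hrp : r.Prime := Nat.minFac_prime he1
  have hre : r ∣ H.index := Nat.minFac_dvd _
  have hrN : r ∣ Nat.card N := hre.trans (Subgroup.index_dvd_card H)
  haveI : Fact r.Prime := ⟨hrp⟩
  obtain ⟨y, hy⟩ := exists_prime_orderOf_dvd_card' (G := N) r hrN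
  have hrH : ¬ r ∣ Nat.card H := by
    intro h
    rw [ha] at h
    have h1 : r ∣ a * H.index := Dvd.dvd.mul_left hre a
    have h2 : r ∣ 1 := (Nat.dvd_add_right h1).mp h
    exact hrp.one_lt.ne' (Nat.dvd_one.mp h2)
  refine Cfsg.Agent.Lib.Helper03.FrobThompson.isNilpotent_of_fpf H (Subgroup.zpowers y) ?_ ?_ ?_
  · intro h
    have : y = 1 := by
      have hy' : y ∈ Subgroup.zpowers y := Subgroup.mem_zpowers y
      rw [h, Subgroup.mem_bot] at hy'
      exact hy'
    rw [this, orderOf_one] at hy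
    exact hrp.one_lt.ne hy
  · intro e _ u hu
    exact hHn.conj_mem u hu e
  · intro e he he1 u hu hcomm
    by_contra hu1
    have heH : e ∈ H := by
      apply hC u hu hu1
      rw [Subgroup.mem_centralizer_iff]
      intro c hc
      rw [Set.mem_singleton_iff] at hc
      rw [hc]
      exact hcomm.symm
    have hoe : orderOf e ∣ r := by
      rw [← hy]
      exact orderOf_dvd_of_mem_zpowers he
    have hoe' : orderOf e = r := by
      rcases (Nat.dvd_prime hrp).mp hoe with h | h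
      · exact absurd (orderOf_eq_one_iff.mp h) he1
      · exact h
    apply hrH
    rw [← hoe']
    have := Subgroup.orderOf_dvd_natCard H heH
    exact this

end Frob

section Cases

variable {N : Type*} [Group N] [Fintype N] {G : Type*} [Group G] [Fintype G]
  (H : Subgroup N) [hHn : H.Normal]
  (hC : ∀ h ∈ H, h ≠ 1 → Subgroup.centralizer ({h} : Set N) ≤ H)
  (τ : (N → ℂ) → (G → ℂ))
  (hτ : Cfsg.IsLinearIsometryOn (Cfsg.zspanOn (Cfsg.inducedIrrAbove H ⊥) ({1}ᶜ : Set N)) τ)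
  (hτ1 : ∀ α ∈ Cfsg.zspanOn (Cfsg.inducedIrrAbove H ⊥) ({1}ᶜ : Set N), τ α 1 = 0)

include hC hτ hτ1 in
/-- characters of the abelian quotient `H/X` -/
theorem coh_abelian (X : Subgroup N) [X.Normal] (hXH : X ≤ H) (hab : ⁅H, H⁆ ≤ X)
    (hcount : 2 * H.index + 1 ≤ X.relIndex H) :
    Cfsg.IsCoherent (Cfsg.inducedIrrAbove H X) ({1}ᶜ : Set N) τ := by
  classical
  have hsub : Cfsg.inducedIrrAbove H X ⊆ Cfsg.inducedIrrAbove H ⊥ := inducedIrrAbove_anti H bot_le
  have hmono : Cfsg.zspanOn (Cfsg.inducedIrrAbove H X) ({1}ᶜ : Set N) ⊆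
      Cfsg.zspanOn (Cfsg.inducedIrrAbove H ⊥) ({1}ᶜ : Set N) :=
    fun x hx => ⟨zspan_mono hsub hx.1, hx.2⟩
  have hdegree : ∀ φ ∈ Cfsg.inducedIrrAbove H X, φ 1 = (H.index : ℂ) := by
    rintro φ ⟨θ, hθ, hne, hker, rfl⟩
    rw [Cfsg.Agent.Lib.Helper83.indFun_one_eq, degree_one_of_ker H X hab hθ hker, mul_one]
  apply coherent_of_equal_degree_irr _ τ (LIO.mono hτ hmono) (fun α hα => hτ1 α (hmono hα))
    (inducedIrrAbove_finite H X) (fun φ hφ => irrS H hC φ (hsub hφ))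
    (fun φ hφ ψ hψ => by rw [hdegree φ hφ, hdegree ψ hψ])
  obtain ⟨T, hT⟩ : ∃ T : Finset (N → ℂ), (T : Set (N → ℂ)) = Cfsg.inducedIrrAbove H X :=
    ⟨(inducedIrrAbove_finite H X).toFinset, Set.Finite.coe_toFinset _⟩
  have hsum := sum_inducedIrrAbove H X hXH T hT
  have hr1 : 1 ≤ X.relIndex H := by omega
  have hepos : 0 < H.index := Nat.pos_of_ne_zero Subgroup.index_ne_zero_of_finite
  have h1 : ((T.card * H.index ^ 2 : ℕ) : ℂ) = ((H.index * (X.relIndex H - 1) : ℕ) : ℂ) := by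
    rw [Nat.cast_mul (H.index), Nat.cast_sub hr1, Nat.cast_one, ← hsum]
    rw [Finset.sum_congr rfl (fun φ hφ => by
      have hφ' : φ ∈ Cfsg.inducedIrrAbove H X := by rw [← hT]; exact Finset.mem_coe.mpr hφ
      rw [hdegree φ hφ', Cfsg.Agent.Lib.Helper05.classInner_irr_self (irrS H hC φ (hsub hφ')),
        div_one])]
    rw [Finset.sum_const, nsmul_eq_mul]
    push_cast
    rfl
  have h2 : T.card * H.index ^ 2 = H.index * (X.relIndex H - 1) := by exact_mod_cast h1
  have h3 : H.index * (T.card * H.index) = H.index * (X.relIndex H - 1) := by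
    rw [← h2]; ring
  have h4 : T.card * H.index = X.relIndex H - 1 := Nat.eq_of_mul_eq_mul_left hepos h3
  have hcard : 1 < T.card := by
    by_contra hle
    push Not at hle
    have : T.card * H.index ≤ 1 * H.index := Nat.mul_le_mul_right _ hle
    omega
  obtain ⟨a, ha, b, hb, hab'⟩ := Finset.one_lt_card.mp hcard
  exact ⟨a, by rw [← hT]; exact Finset.mem_coe.mpr ha, b, by rw [← hT]; exact Finset.mem_coe.mpr hb,
    hab'⟩

theorem num_key {e c u₀ : ℕ} (he : 2 ≤ e) (hc : e + 1 ≤ c) (hu₀ : (e + 1) ^ 2 ≤ u₀) :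
    ∀ u : ℕ, u₀ ≤ u → 4 * e ^ 2 * u < c * (u - 1) ^ 2 := by
  intro u hu
  obtain ⟨v, rfl⟩ : ∃ v, u = v + 1 := ⟨u - 1, by
    have : 1 ≤ u := le_trans (by nlinarith) (le_trans hu₀ hu)
    omega⟩
  rw [Nat.add_sub_cancel]
  have hv : e ^ 2 + 2 * e ≤ v := by
    have : (e + 1) ^ 2 ≤ v + 1 := le_trans hu₀ hu
    nlinarith
  have h1 : (e + 1) * v ^ 2 ≤ c * v ^ 2 := Nat.mul_le_mul_right _ hc
  refine lt_of_lt_of_le ?_ h1
  -- 4 e² (v+1) < (e+1) v²
  have h2 : (e ^ 2 + 2 * e) * v ≤ v * v := Nat.mul_le_mul_right _ hv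
  nlinarith [Nat.mul_le_mul_left (e + 1) h2, Nat.mul_le_mul hv hv, Nat.mul_le_mul he he,
    Nat.mul_le_mul_left (e ^ 2) he]

theorem num_big {e u₀ : ℕ} (hu₀ : 4 * e ^ 2 + 1 < u₀) :
    ∀ u : ℕ, u₀ ≤ u → 4 * e ^ 2 * u < 1 * (u - 1) ^ 2 := by
  intro u hu
  obtain ⟨v, rfl⟩ : ∃ v, u = v + 1 := ⟨u - 1, by omega⟩
  rw [Nat.add_sub_cancel, one_mul]
  have hv : 4 * e ^ 2 + 1 ≤ v := by omega
  nlinarith [Nat.mul_le_mul_right v hv]

end Cases

section NonPP

variable {N : Type*} [Group N] [Fintype N] {G : Type*} [Group G] [Fintype G]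
  (H : Subgroup N) [hHn : H.Normal]
  (hC : ∀ h ∈ H, h ≠ 1 → Subgroup.centralizer ({h} : Set N) ≤ H)
  (τ : (N → ℂ) → (G → ℂ))
  (hτ : Cfsg.IsLinearIsometryOn (Cfsg.zspanOn (Cfsg.inducedIrrAbove H ⊥) ({1}ᶜ : Set N)) τ)
  (hτ1 : ∀ α ∈ Cfsg.zspanOn (Cfsg.inducedIrrAbove H ⊥) ({1}ᶜ : Set N), τ α 1 = 0)

include hC hτ hτ1 in
/-- the case where `[H : H']` is divisible by two distinct primes -/
theorem coh_nonpp (he2 : 2 ≤ H.index) (hnil : Group.IsNilpotent H) (hHd : ⁅H, H⁆ < H)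
    (p q : ℕ) (hp : p.Prime) (hq : q.Prime) (hqp : q ≠ p)
    (hpr : p ∣ (⁅H, H⁆ : Subgroup N).relIndex H) (hqr : q ∣ (⁅H, H⁆ : Subgroup N).relIndex H) :
    Cfsg.IsCoherent (Cfsg.inducedIrrAbove H ⊥) ({1}ᶜ : Set N) τ := by
  classical
  haveI := hnil
  have hsolv : Group.IsSolvable H := inferInstance
  haveI hH'n : (⁅H, H⁆ : Subgroup N).Normal := Subgroup.commutator_normal H H
  obtain ⟨P, Q, hPn, hQn, hPQ, hdisj, hcomm, ⟨k, hPk⟩, hQp⟩ := exists_hall_normal H hnil p hp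
  haveI := hPn
  haveI := hQn
  have hPH : P ≤ H := hPQ ▸ le_sup_left
  have hQH : Q ≤ H := hPQ ▸ le_sup_right
  have hpos : ∀ X Y : Subgroup N, 0 < X.relIndex Y := fun X Y =>
    Nat.pos_of_ne_zero (Subgroup.index_ne_zero_of_finite : (X.subgroupOf Y).index ≠ 0)
  -- F1
  have hF1 : ¬ Q ≤ ⁅H, H⁆ := by
    intro h
    have h1 : ⁅H, H⁆ ⊔ P = H := le_antisymm (sup_le hHd.le hPH)
      (le_trans (le_of_eq hPQ.symm) (sup_le le_sup_right (h.trans le_sup_left)))
    have h2 : (⁅H, H⁆ : Subgroup N).relIndex H = (⁅H, H⁆ : Subgroup N).relIndex P := by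
      have := Subgroup.relIndex_sup_left P ⁅H, H⁆
      rwa [h1] at this
    have h3 : (⁅H, H⁆ : Subgroup N).relIndex P ∣ Nat.card P := Subgroup.index_dvd_card _
    rw [h2] at hqr
    have h4 : q ∣ p ^ k := hPk ▸ hqr.trans h3
    exact hqp ((Nat.prime_dvd_prime_iff_eq hq hp).mp (hq.dvd_of_dvd_pow h4))
  -- F2
  have hF2 : ¬ H ≤ ⁅H, H⁆ ⊔ Q := by
    intro h
    have h1 : ⁅H, H⁆ ⊔ Q = H := le_antisymm (sup_le hHd.le hQH) h
    have h2 : (⁅H, H⁆ : Subgroup N).relIndex H = (⁅H, H⁆ : Subgroup N).relIndex Q := by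
      have := Subgroup.relIndex_sup_left Q ⁅H, H⁆
      rwa [h1] at this
    rw [h2] at hpr
    exact hQp (hpr.trans (Subgroup.index_dvd_card _))
  haveI : (⁅H, H⁆ ⊔ Q : Subgroup N).Normal := inferInstance
  have hc₁ : H.index + 1 ≤ (⁅H, H⁆ : Subgroup N).relIndex Q := by
    have := relIndex_ge H hC ⁅H, H⁆ (⁅H, H⁆ ⊔ Q) le_sup_left (sup_le hHd.le hQH)
      (fun h => hF1 (le_sup_right.trans h))
    rwa [Subgroup.relIndex_sup_left Q ⁅H, H⁆] at this
  have hidx₂ : H.index + 1 ≤ (⁅H, H⁆ ⊔ Q : Subgroup N).relIndex H :=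
    relIndex_ge H hC (⁅H, H⁆ ⊔ Q) H (sup_le hHd.le hQH) le_rfl hF2
  have hr : (H.index + 1) ^ 2 ≤ (⁅H, H⁆ : Subgroup N).relIndex H := by
    rw [← Subgroup.relIndex_mul_relIndex ⁅H, H⁆ (⁅H, H⁆ ⊔ Q) H le_sup_left (sup_le hHd.le hQH),
      Subgroup.relIndex_sup_left Q ⁅H, H⁆, sq]
    exact Nat.mul_le_mul hc₁ hidx₂
  -- stage 1
  haveI hM₁n : (⁅Q, H⁆ : Subgroup N).Normal := Subgroup.commutator_normal Q H
  have hM₁H' : (⁅Q, H⁆ : Subgroup N) ≤ ⁅H, H⁆ := Subgroup.commutator_mono hQH le_rfl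
  have hM₁Q : (⁅Q, H⁆ : Subgroup N) ≤ Q := Subgroup.commutator_le_left Q H
  have hcoh0 : Cfsg.IsCoherent (Cfsg.inducedIrrAbove H ⁅H, H⁆) ({1}ᶜ : Set N) τ :=
    coh_abelian H hC τ hτ hτ1 ⁅H, H⁆ hHd.le le_rfl (by nlinarith)
  have hcoh1 : Cfsg.IsCoherent (Cfsg.inducedIrrAbove H ⁅Q, H⁆) ({1}ᶜ : Set N) τ := by
    apply chainZ_irr H hsolv (irrS H hC) τ hτ hτ1 ⁅Q, H⁆ ⁅H, H⁆ Q hM₁H' hHd hQH inferInstance
      ?_ hcoh0 (num_key he2 hc₁ hr)
    intro z hz k hk
    have := Subgroup.commutator_mem_commutator hz hk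
    rwa [commutatorElement_def] at this
  -- stage 2
  haveI hZ₂n : (P ⊓ Subgroup.centralizer (H : Set N)).Normal := inferInstance
  have hZ₂P : P ⊓ Subgroup.centralizer (H : Set N) ≤ P := inf_le_left
  have hZ₂ne : ¬ P ⊓ Subgroup.centralizer (H : Set N) ≤ ⁅Q, H⁆ := by
    intro h
    have hPne : P ≠ ⊥ := by
      intro hP
      have hHQ : H = Q := by rw [← hPQ, hP, bot_sup_eq]
      apply hQp
      have h1 : (⁅H, H⁆ : Subgroup N).relIndex H ∣ Nat.card H := Subgroup.index_dvd_card _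
      have h2 := hpr.trans h1
      rwa [hHQ] at h2
    haveI : Nontrivial P := (Subgroup.nontrivial_iff_ne_bot P).mpr hPne
    haveI : Fact p.Prime := ⟨hp⟩
    have hPp : IsPGroup p P := IsPGroup.of_card hPk
    haveI := hPp.center_nontrivial
    obtain ⟨z, hz1⟩ := exists_ne (1 : Subgroup.center P)
    have hle : H ≤ Subgroup.centralizer ({((z : P) : N)} : Set N) := by
      refine le_trans (le_of_eq hPQ.symm) ?_
      apply sup_le
      · intro a ha
        rw [Subgroup.mem_centralizer_iff]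
        intro c hc
        rw [Set.mem_singleton_iff] at hc
        rw [hc]
        have := Subgroup.mem_center_iff.mp z.2 ⟨a, ha⟩
        exact (congrArg Subtype.val this).symm
      · intro b hb
        rw [Subgroup.mem_centralizer_iff]
        intro c hc
        rw [Set.mem_singleton_iff] at hc
        rw [hc]
        exact hcomm _ (z : P).2 b hb
    have hzZ₂ : ((z : P) : N) ∈ P ⊓ Subgroup.centralizer (H : Set N) := by
      refine Subgroup.mem_inf.mpr ⟨(z : P).2, ?_⟩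
      rw [Subgroup.mem_centralizer_iff]
      intro h' hh
      exact ((Subgroup.mem_centralizer_iff.mp (hle hh)) _ rfl).symm
    have hmem : ((z : P) : N) ∈ P ⊓ Q := Subgroup.mem_inf.mpr ⟨(z : P).2, hM₁Q (h hzZ₂)⟩
    rw [hdisj, Subgroup.mem_bot] at hmem
    apply hz1
    apply Subtype.ext
    apply Subtype.ext
    exact hmem
  haveI : (⁅Q, H⁆ ⊔ (P ⊓ Subgroup.centralizer (H : Set N)) : Subgroup N).Normal := inferInstance
  have hc₂ : H.index + 1 ≤ (⁅Q, H⁆ : Subgroup N).relIndex (P ⊓ Subgroup.centralizer (H : Set N)) := by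
    have := relIndex_ge H hC ⁅Q, H⁆ (⁅Q, H⁆ ⊔ (P ⊓ Subgroup.centralizer (H : Set N))) le_sup_left
      (sup_le (hM₁Q.trans hQH) (hZ₂P.trans hPH)) (fun h => hZ₂ne (le_sup_right.trans h))
    rwa [Subgroup.relIndex_sup_left (P ⊓ Subgroup.centralizer (H : Set N)) ⁅Q, H⁆] at this
  have hr₂ : (H.index + 1) ^ 2 ≤ (⁅Q, H⁆ : Subgroup N).relIndex H :=
    le_trans hr (Nat.le_of_dvd (hpos _ _) (Subgroup.relIndex_dvd_of_le_left H hM₁H'))
  have hM₁lt : (⁅Q, H⁆ : Subgroup N) < H := lt_of_le_of_lt hM₁H' hHd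
  apply chainZ_irr H hsolv (irrS H hC) τ hτ hτ1 ⊥ ⁅Q, H⁆ (P ⊓ Subgroup.centralizer (H : Set N))
    bot_le hM₁lt (hZ₂P.trans hPH) inferInstance ?_ hcoh1 (num_key he2 hc₂ hr₂)
  intro z hz k hk
  rw [Subgroup.mem_bot]
  have := Subgroup.mem_centralizer_iff.mp (Subgroup.mem_inf.mp hz).2 k hk
  rw [← this]
  group

end NonPP

/-- Let N be a finite group with a proper nontrivial normal subgroup H such that every element commuting with a non-identity element of H lies in H (N is a Frobenius group with kernel H); let e be the index of H and suppose Nat.card H ≠ e + 1. Let S be the set of irreducible characters χ of N with χ h ≠ χ 1 for some h ∈ H, and τ a linear isometry on the integer combinations of S vanishing at 1, with values virtual characters of a finite group G vanishing at 1. Then (S, N minus 1, τ) is coherent, or there is a prime p with Nat.card H a power of p, H non-abelian and [H : [H,H]] ≤ 4e² + 1. -/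
theorem result {N : Type*} [Group N] [Fintype N] {G : Type*} [Group G] [Fintype G] (H : Subgroup N) [H.Normal] (hH1 : H ≠ ⊥) (hH2 : H ≠ ⊤) (hC : ∀ h ∈ H, h ≠ 1 → Subgroup.centralizer ({h} : Set N) ≤ H) (he : Nat.card H ≠ H.index + 1) (τ : (N → ℂ) → (G → ℂ)) (hτ : Cfsg.IsLinearIsometryOn (Cfsg.zspanOn {χ : N → ℂ | Cfsg.IsIrrCharacter N χ ∧ ∃ h ∈ H, χ h ≠ χ 1} {1}ᶜ) τ) (hτ1 : ∀ α ∈ Cfsg.zspanOn {χ : N → ℂ | Cfsg.IsIrrCharacter N χ ∧ ∃ h ∈ H, χ h ≠ χ 1} {1}ᶜ, τ α 1 = 0) : Cfsg.IsCoherent {χ : N → ℂ | Cfsg.IsIrrCharacter N χ ∧ ∃ h ∈ H, χ h ≠ χ 1} {1}ᶜ τ ∨ ∃ p : ℕ, p.Prime ∧ (∃ m : ℕ, Nat.card H = p ^ m) ∧ ¬ IsMulCommutative H ∧ (⁅H, H⁆.subgroupOf H).index ≤ 4 * H.index ^ 2 + 1 := by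
  classical
  have hSeq := set_eq H hC
  rw [hSeq] at hτ hτ1 ⊢
  have hepos : 0 < H.index := Nat.pos_of_ne_zero Subgroup.index_ne_zero_of_finite
  have he1 : H.index ≠ 1 := fun h => hH2 (Subgroup.index_eq_one.mp h)
  have he2 : 2 ≤ H.index := by omega
  have hnil := kernel_nilpotent H hC hH2
  haveI := hnil
  have hsolv : Group.IsSolvable H := inferInstance
  haveI : Nontrivial H := (Subgroup.nontrivial_iff_ne_bot H).mpr hH1
  have hHd : ⁅H, H⁆ < H := by
    have h1 : commutator H < ⊤ := Group.IsSolvable.commutator_lt_top_of_nontrivial H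
    rw [← Subgroup.map_subtype_commutator]
    have h2 := (Subgroup.map_lt_map_iff_of_injective H.subtype_injective).mpr h1
    rwa [← MonoidHom.range_eq_map, Subgroup.range_subtype] at h2
  haveI : (⁅H, H⁆ : Subgroup N).Normal := Subgroup.commutator_normal H H
  by_cases hab : ∀ a ∈ H, ∀ b ∈ H, a * b = b * a
  · left
    have hab' : ⁅H, H⁆ ≤ (⊥ : Subgroup N) := by
      rw [Subgroup.commutator_le]
      intro a ha b hb
      rw [Subgroup.mem_bot, commutatorElement_eq_one_iff_commute]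
      exact hab a ha b hb
    obtain ⟨a, ha⟩ := relIndex_eq H hC ⊥ bot_le
    have hcount : 2 * H.index + 1 ≤ (⊥ : Subgroup N).relIndex H := by
      rw [ha]
      rw [Subgroup.relIndex_bot_left] at ha
      have h1 : Nat.card H ≠ 1 := fun h => hH1 (Subgroup.card_eq_one.mp h)
      have h2 : 2 ≤ a := by
        by_contra hlt
        push Not at hlt
        interval_cases a
        · apply h1; rw [ha]; ring
        · apply he; rw [ha]; ring
      nlinarith
    exact coh_abelian H hC τ hτ hτ1 ⊥ bot_le hab' hcount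
  · by_cases hbig : 4 * H.index ^ 2 + 1 < (⁅H, H⁆ : Subgroup N).relIndex H
    · left
      have hcoh0 := coh_abelian H hC τ hτ hτ1 ⁅H, H⁆ hHd.le le_rfl (by nlinarith)
      apply chainZ_irr H hsolv (irrS H hC) τ hτ hτ1 ⊥ ⁅H, H⁆ ⊥ bot_le hHd bot_le inferInstance
        ?_ hcoh0 ?_
      · intro z hz k hk
        rw [Subgroup.mem_bot] at hz
        subst hz
        simp
      · rw [Subgroup.relIndex_bot_right]
        exact num_big hbig
    · by_cases hpp : ∃ p m : ℕ, p.Prime ∧ Nat.card H = p ^ m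
      · right
        obtain ⟨p, m, hp, hm⟩ := hpp
        refine ⟨p, hp, ⟨m, hm⟩, ?_, not_lt.mp hbig⟩
        intro hcomm
        apply hab
        intro a ha b hb
        have := hcomm.is_comm.comm ⟨a, ha⟩ ⟨b, hb⟩
        exact congrArg Subtype.val this
      · left
        have hr1 : (⁅H, H⁆ : Subgroup N).relIndex H ≠ 1 :=
          fun h => absurd (Subgroup.relIndex_eq_one.mp h) (not_le_of_gt hHd)
        have hr0 : (⁅H, H⁆ : Subgroup N).relIndex H ≠ 0 :=
          (Subgroup.index_ne_zero_of_finite : ((⁅H, H⁆ : Subgroup N).subgroupOf H).index ≠ 0)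
        have hp : ((⁅H, H⁆ : Subgroup N).relIndex H).minFac.Prime := Nat.minFac_prime hr1
        have hpr := Nat.minFac_dvd ((⁅H, H⁆ : Subgroup N).relIndex H)
        obtain ⟨q, hq, hqr, hqp⟩ : ∃ q, q.Prime ∧ q ∣ (⁅H, H⁆ : Subgroup N).relIndex H ∧
            q ≠ ((⁅H, H⁆ : Subgroup N).relIndex H).minFac := by
          by_contra hcon
          push Not at hcon
          have h1 := Nat.eq_prime_pow_of_unique_prime_dvd hr0 (fun {d} hd hdvd => hcon d hd hdvd)
          apply hpp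
          have hrel : (⁅H, H⁆ : Subgroup N).subgroupOf H = commutator H := by
            rw [← Subgroup.map_subtype_commutator]
            exact Subgroup.comap_map_eq_self_of_injective (Subgroup.subtype_injective H) _
          have h2 : (commutator H).index = ((⁅H, H⁆ : Subgroup N).relIndex H).minFac ^
              ((⁅H, H⁆ : Subgroup N).relIndex H).primeFactorsList.length := by
            rw [← hrel]
            exact h1
          obtain ⟨b, hb⟩ := card_eq_pow_of_commutator_index hp h2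
          exact ⟨_, b, hp, hb⟩
        exact coh_nonpp H hC τ hτ hτ1 he2 hnil hHd _ q hp hq hqp hpr hqr

end Cfsg.Agent.S1535
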