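import Cfsg.Statements.S1500
-- import your own Cfsg.Agent.* helpers here
import Mathlib
import Cfsg.Agent.Lib.Helper34.DadeCount
import Cfsg.Agent.Lib.Helper34.Induction

set_option autoImplicit false
open Cfsg

namespace Cfsg.Agent.S1500

open Cfsg.Agent.Lib.Helper34
open Cfsg.Agent.Lib.Helper33

theorem finsum_mem_eq_sum_filter' {α M : Type*} [Fintype α] [AddCommMonoid M] (s : Set α)
    [DecidablePred (· ∈ s)] (f : α → M) :
    ∑ᶠ i ∈ s, f i = ∑ i ∈ Finset.univ.filter (· ∈ s), f i := by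
  rw [finsum_mem_eq_finite_toFinset_sum f (Set.toFinite s)]
  apply Finset.sum_congr _ (fun _ _ => rfl)
  ext x
  simp

section

variable {G : Type*} [Group G] [Fintype G] {A : Set G} {L : Subgroup G} {H : G → Subgroup G}

/-- the value of the Dade image on a conjugate of an element of `a · H a` -/
theorem dade_apply (hD : Cfsg.DadeHypothesis A L H) (α : L → ℂ) (hα : Cfsg.IsClassFunction L α)
    (a : L) (ha : (a : G) ∈ A) (u : G) (hu : u ∈ H a) (x g : G) (hx : x * g * x⁻¹ = (a : G) * u) :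
    Cfsg.dadeIsometry A L H α g = α a := by
  classical
  have hex : ∃ a : ↥L, (a : G) ∈ A ∧ ∃ x : G, ∃ u ∈ H (a : G), x * g * x⁻¹ = (a : G) * u :=
    ⟨a, ha, x, u, hu, hx⟩
  rw [Cfsg.dadeIsometry, dif_pos hex]
  obtain ⟨ha', x', u', hu', hx'⟩ := Classical.choose_spec hex
  set a' := Classical.choose hex with ha'def
  have hconj : (x' * x⁻¹) * ((a : G) * u) * (x' * x⁻¹)⁻¹ = (a' : G) * u' := by
    rw [← hx, ← hx']; group
  have h1 := dade_conj_eq hD ha ha' hu hu' hconj
  have h2 : (x' * x⁻¹) * (a : G) * (x' * x⁻¹)⁻¹ ∈ A := by rw [h1]; exact ha'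
  obtain ⟨z, hz, hza⟩ := hD.fusion a ha _ h2
  have h3 : a' = (⟨z, hz⟩ : L) * a * (⟨z, hz⟩ : L)⁻¹ := by
    apply Subtype.ext
    simp only [Subgroup.coe_mul, Subgroup.coe_inv]
    rw [hza, h1]
  rw [h3]
  exact hα a ⟨z, hz⟩

theorem dade_apply_not_mem (α : L → ℂ) (g : G)
    (hg : ¬ ∃ a ∈ A, ∃ u ∈ H a, ∃ x : G, x * g * x⁻¹ = a * u) (hAL : A ⊆ (L : Set G)) :
    Cfsg.dadeIsometry A L H α g = 0 := by
  classical
  rw [Cfsg.dadeIsometry, dif_neg]
  rintro ⟨a, ha, x, u, hu, hx⟩
  exact hg ⟨a, ha, u, hu, x, hx⟩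

/-- the Dade image is a class function -/
theorem dade_isClassFunction (hD : Cfsg.DadeHypothesis A L H) (α : L → ℂ)
    (hα : Cfsg.IsClassFunction L α) : Cfsg.IsClassFunction G (Cfsg.dadeIsometry A L H α) := by
  classical
  intro g h
  by_cases hg : ∃ a ∈ A, ∃ u ∈ H a, ∃ x : G, x * g * x⁻¹ = a * u
  · obtain ⟨a, ha, u, hu, x, hx⟩ := hg
    have haL : a ∈ L := hD.subset ha
    rw [dade_apply hD α hα ⟨a, haL⟩ ha u hu x g hx]
    have hx' : (x * h⁻¹) * (h * g * h⁻¹) * (x * h⁻¹)⁻¹ = a * u := by rw [← hx]; group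
    exact dade_apply hD α hα ⟨a, haL⟩ ha u hu (x * h⁻¹) (h * g * h⁻¹) hx'
  · rw [dade_apply_not_mem α g hg hD.subset]
    apply dade_apply_not_mem α _ _ hD.subset
    rintro ⟨a, ha, u, hu, x, hx⟩
    apply hg
    refine ⟨a, ha, u, hu, x * h, ?_⟩
    rw [← hx]; group


theorem part2 [Fintype L] (hD : Cfsg.DadeHypothesis A L H) (α : L → ℂ)
    (hα : Cfsg.IsClassFunction L α) (hαA : ∀ x : L, (x : G) ∉ A → α x = 0)
    (χ : G → ℂ) (ψ : L → ℂ) (hχ : Cfsg.IsClassFunction G χ)
    (hψ : ∀ a : L, (a : G) ∈ A → ψ a = (Nat.card (H a) : ℂ)⁻¹ * ∑ᶠ u ∈ (H a : Set G), χ (a * u)) :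
    Cfsg.classInner (Cfsg.dadeIsometry A L H α) χ = Cfsg.classInner α ψ := by
  classical
  set T := Cfsg.dadeIsometry A L H α with hT
  have hTcf : Cfsg.IsClassFunction G T := dade_isClassFunction hD α hα
  set F : G → ℂ := fun g => T g * (starRingEnd ℂ) (χ g) with hF
  have hFcf : ∀ g h : G, F (h * g * h⁻¹) = F g := by
    intro g h
    simp only [hF]
    rw [hTcf g h, hχ g h]
  have hsum := dade_sum (K := ℂ) hD F hFcf
  have hL : (Nat.card L : ℂ) ≠ 0 := by
    have : 0 < Nat.card L := Nat.card_pos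
    exact_mod_cast this.ne'
  have hG : (Nat.card G : ℂ) ≠ 0 := by
    have : 0 < Nat.card G := Nat.card_pos
    exact_mod_cast this.ne'
  -- left side
  have hleft : ∑ g : G, F g = ∑ g ∈ Finset.univ.filter
      (fun g : G => ∃ a ∈ A, ∃ u ∈ H a, ∃ x : G, x * g * x⁻¹ = a * u), F g := by
    rw [Finset.sum_filter]
    apply Finset.sum_congr rfl
    intro g _
    split_ifs with hg
    · rfl
    · simp only [hF, hT]
      rw [dade_apply_not_mem α g hg hD.subset, zero_mul]
  -- right side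
  have hright : ∑ a ∈ Finset.univ.filter (fun a : L => (a : G) ∈ A), (Nat.card (H a) : ℂ)⁻¹ *
      ∑ u ∈ Finset.univ.filter (fun u : G => u ∈ H a), F (a * u) =
      ∑ a : L, α a * (starRingEnd ℂ) (ψ a) := by
    rw [Finset.sum_filter]
    apply Finset.sum_congr rfl
    intro a _
    split_ifs with ha
    · have h1 : ∀ u ∈ Finset.univ.filter (fun u : G => u ∈ H a),
          F (a * u) = α a * (starRingEnd ℂ) (χ (a * u)) := by
        intro u hu
        have hu' : u ∈ H a := (Finset.mem_filter.mp hu).2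
        simp only [hF, hT]
        rw [dade_apply hD α hα a ha u hu' 1 ((a : G) * u) (by group)]
      rw [Finset.sum_congr rfl h1, ← Finset.mul_sum, hψ a ha, finsum_mem_eq_sum_filter', map_mul,
        map_inv₀, Complex.conj_natCast, map_sum]
      have : (Finset.univ.filter (fun u : G => u ∈ (H a : Set G))) =
          Finset.univ.filter (fun u : G => u ∈ H a) := by
        ext u; simp
      rw [this]
      ring
    · rw [hαA a ha, zero_mul]
  rw [Cfsg.classInner, Cfsg.classInner]
  have e1 : ∑ g : G, T g * (starRingEnd ℂ) (χ g) = ∑ g : G, F g := rfl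
  rw [e1, hleft, ← hright]
  have h6 : ∑ g ∈ Finset.univ.filter
      (fun g : G => ∃ a ∈ A, ∃ u ∈ H a, ∃ x : G, x * g * x⁻¹ = a * u), F g =
      (Nat.card L : ℂ)⁻¹ * ((Nat.card G : ℂ) * ∑ a ∈ Finset.univ.filter (fun a : L => (a : G) ∈ A),
        (Nat.card (H a) : ℂ)⁻¹ * ∑ u ∈ Finset.univ.filter (fun u : G => u ∈ H a), F (a * u)) := by
    rw [← hsum, ← mul_assoc, inv_mul_cancel₀ hL, one_mul]
  rw [h6]
  field_simp

end

/-- Under the Dade hypothesis for (A, L, H), let α be a class function of L vanishing outside A. Then (i) for every class function β of L vanishing outside A, the inner product over G of the Dade images of α and β equals the inner product of α and β over L; and (ii) for every class function χ of G and every function ψ on L whose value at each a ∈ A is the average of χ over the coset a·H(a), the inner product over G of the Dade image of α with χ equals the inner product over L of α with ψ. -/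
theorem result {G : Type*} [Group G] [Fintype G] (A : Set G) (L : Subgroup G) [Fintype L] (H : G → Subgroup G) (hD : Cfsg.DadeHypothesis A L H) (α : L → ℂ) (hα : Cfsg.IsClassFunction L α) (hαA : ∀ x : L, (x : G) ∉ A → α x = 0) : (∀ β : L → ℂ, Cfsg.IsClassFunction L β → (∀ x : L, (x : G) ∉ A → β x = 0) → Cfsg.classInner (Cfsg.dadeIsometry A L H α) (Cfsg.dadeIsometry A L H β) = Cfsg.classInner α β) ∧ (∀ (χ : G → ℂ) (ψ : L → ℂ), Cfsg.IsClassFunction G χ → (∀ a : L, (a : G) ∈ A → ψ a = (Nat.card (H a) : ℂ)⁻¹ * ∑ᶠ u ∈ (H a : Set G), χ (a * u)) → Cfsg.classInner (Cfsg.dadeIsometry A L H α) χ = Cfsg.classInner α ψ) := by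
  classical
  refine ⟨?_, ?_⟩
  · intro β hβ hβA
    apply part2 hD α hα hαA (Cfsg.dadeIsometry A L H β) β (dade_isClassFunction hD β hβ)
    intro a ha
    rw [finsum_mem_eq_sum_filter']
    have h1 : ∀ u ∈ Finset.univ.filter (fun u : G => u ∈ (H a : Set G)),
        Cfsg.dadeIsometry A L H β (a * u) = β a := by
      intro u hu
      have hu' : u ∈ H a := (Finset.mem_filter.mp hu).2
      exact dade_apply hD β hβ a ha u hu' 1 ((a : G) * u) (by group)
    rw [Finset.sum_congr rfl h1, Finset.sum_const, nsmul_eq_mul]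
    have hcard : (Finset.univ.filter (fun u : G => u ∈ (H a : Set G))).card = Nat.card (H a) := by
      rw [Nat.card_eq_fintype_card, Fintype.card_subtype]
      rfl
    rw [hcard]
    have hne : (Nat.card (H a) : ℂ) ≠ 0 := by
      have : 0 < Nat.card (H a) := Nat.card_pos
      exact_mod_cast this.ne'
    field_simp
  · intro χ ψ hχ hψ
    exact part2 hD α hα hαA χ ψ hχ hψ

end Cfsg.Agent.S1500
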