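import Cfsg.Statements.S1501
-- import your own Cfsg.Agent.* helpers here
import Cfsg.Agent.Lib.Helper34.DadeExpansion
import Cfsg.Agent.Lib.Helper04.Basis
import Cfsg.Agent.S1500

set_option autoImplicit false
open Cfsg

namespace Cfsg.Agent.S1501
section Aux

open Cfsg.Agent.Lib.Helper34

variable {G : Type*} [Group G] [Fintype G] {A : Set G} {L : Subgroup G} [Fintype L]
  {H : G → Subgroup G}

open scoped Classical in
/-- the coset average as a `finsum` -/
theorem avgOn_eq_finsum (K : Subgroup G) (χ : G → ℂ) (x : G) :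
    avgOn K χ x = (Nat.card K : ℂ)⁻¹ * ∑ᶠ u ∈ (K : Set G), χ (x * u) := by
  unfold avgOn
  congr 1
  rw [Cfsg.Agent.S1500.finsum_mem_eq_sum_filter']
  symm
  apply Finset.sum_subtype
  intro u
  simp

/-- **Dade**: the Dade image of a generalized character vanishing off `A` is a generalized
character (proved through the Dade expansion, without Brauer's characterisation). -/
theorem dade_genChar (hD : Cfsg.DadeHypothesis A L H) (α : L → ℂ)
    (hα : Cfsg.IsGeneralizedCharacter L α) (hαA : ∀ x : L, (x : G) ∉ A → α x = 0) :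
    Cfsg.IsGeneralizedCharacter G (Cfsg.dadeIsometry A L H α) := by
  classical
  haveI : Fintype (IrrCharacter G) := Fintype.ofFinite _
  have hαc : IsClassFunction L α := isGeneralizedCharacter_isClassFunction hα
  have hcl : IsClassFunction G (dadeIsometry A L H α) :=
    Cfsg.Agent.S1500.dade_isClassFunction hD α hαc
  have hint : ∀ χ : IrrCharacter G, ∃ z : ℤ,
      classInner (dadeIsometry A L H α) (χ : G → ℂ) = z := by
    intro χ
    have hχ : IsCharacter G (χ : G → ℂ) := by
      obtain ⟨n, ρ, -, h⟩ := χ.2
      exact ⟨n, ρ, h⟩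
    have hχc : IsClassFunction G (χ : G → ℂ) := Cfsg.Agent.Lib.Helper83.char_isClassFunction hχ
    have h1 := Cfsg.Agent.S1500.part2 hD α hαc hαA (χ : G → ℂ) (PsiL A L H (χ : G → ℂ)) hχc (by
      intro a ha
      rw [PsiL_apply_mem hD hχc ((mem_AL a).2 ha), avgOn_eq_finsum])
    rw [h1]
    exact classInner_PsiL_int hD hχ hα
  choose z hz using hint
  have hexp := Cfsg.Agent.Lib.Helper04.classFunction_expansion (dadeIsometry A L H α) hcl
  rw [hexp]
  have : (∑ χ : IrrCharacter G, classInner (dadeIsometry A L H α) (χ : G → ℂ) • (χ : G → ℂ)) =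
      ∑ χ : IrrCharacter G, (z χ : ℂ) • (χ : G → ℂ) := by
    apply Finset.sum_congr rfl
    intro χ _
    rw [hz χ]
  rw [this]
  exact int_combo_isGeneralizedCharacter z

end Aux

/-- Under the Dade hypothesis for (A, L, H): if α is a generalized character of L vanishing outside A, then its image under the Dade map is a generalized character of G. -/
theorem result {G : Type*} [Group G] [Fintype G] (A : Set G) (L : Subgroup G) [Fintype L] (H : G → Subgroup G) (hD : Cfsg.DadeHypothesis A L H) (α : L → ℂ) (hα : Cfsg.IsGeneralizedCharacter L α) (hαA : ∀ x : L, (x : G) ∉ A → α x = 0) : Cfsg.IsGeneralizedCharacter G (Cfsg.dadeIsometry A L H α) := by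
  exact dade_genChar hD α hα hαA

end Cfsg.Agent.S1501
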