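import Cfsg.Statements.S1537
import Cfsg.Prelude.Def_OddOrderChar
import Cfsg.Agent.S1351
import Cfsg.Agent.S1352
import Cfsg.Agent.Lib.Helper02.BG1537AE
import Cfsg.Agent.Lib.Helper11.BG1537FGHI
import Cfsg.Agent.Lib.Helper23.BG1537D
import Cfsg.Agent.Lib.Helper23.BG1537J
import Cfsg.Agent.Lib.Helper61.BG1537B2
import Cfsg.Agent.Lib.Helper64.BG1537B3
import Cfsg.Agent.Lib.Helper83.BG1537B1
import Cfsg.Agent.Lib.Helper94.BG1537C
import Cfsg.Agent.Lib.Helper36.BG142Glue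
import Cfsg.Agent.Lib.Helper31.BG147D2
import Cfsg.Agent.Lib.Helper81.BG144R
import Cfsg.Agent.Lib.Helper71.BG11a

set_option autoImplicit false
open Cfsg

namespace Cfsg.Agent.S1537

open Subgroup

variable {G : Type*} [Group G] [Finite G]

/-- abstract form: any `M`-invariant `A` with `M_σ# ⊆ A ⊆ A₀(M)`. -/
theorem dade_of (hG : IsMinSimpleOddOrder G) {M : Subgroup G} (hM : IsCoatom M) {A : Set G}
    (h1 : (sigmaCore M : Set G) \ {1} ⊆ A) (h2 : A ⊆ typeA0 M)
    (hinv : ∀ m ∈ M, ∀ a ∈ A, m * a * m⁻¹ ∈ A) :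
    normalizer A = M ∧ DadeHypothesis A M (supportR M) := by
  have hC := Cfsg.Agent.Lib.Helper02.BG1537.typeCore_eq_sigmaCore hG hM
  have h0 := Cfsg.Agent.Lib.Helper94.BG1537.typeA0_subset_sigmaHat hG hM hC
  obtain ⟨⟨K, hK⟩, hcyc⟩ := Cfsg.Agent.S1351.result hG M hM
  obtain ⟨⟨U, hKU⟩, -⟩ := Cfsg.Agent.S1352.result hG M hM K (hcyc K hK) hK
  have hE : ∀ {v g : G}, v ∈ typeA0 M → v ∉ sigmaCore M → g * v * g⁻¹ ∈ typeA0 M → g ∈ M :=
    fun {v g} hv hvσ hb => Cfsg.Agent.Lib.Helper02.BG1537.mem_of_conj_typeA0 hG hM hKU (Cfsg.Agent.Lib.Helper61.BG1537.typeA_subset_sigmaA hG hM hKU hC)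
      (fun a g ha haσ hb => Cfsg.Agent.Lib.Helper23.BG1537.mem_of_conj_sigmaA hG hM hKU ha haσ hb) hv hvσ hb
  have hAM : A ⊆ (M : Set G) \ {1} := fun a ha => ⟨(h0 (h2 ha)).1.1, (h0 (h2 ha)).2⟩
  have hσ1 : sigmaCore M ≠ ⊥ := Cfsg.Agent.Lib.Helper36.BG142.sigmaCore_ne_bot' hG hM
  obtain ⟨y, hy, hy1⟩ := (Subgroup.ne_bot_iff_exists_ne_one).mp hσ1 |> fun ⟨y, hy⟩ =>
    (⟨(y : G), y.2, fun h => hy (Subtype.ext h)⟩ : ∃ y : G, y ∈ sigmaCore M ∧ y ≠ 1)
  have hne : A.Nonempty := ⟨y, h1 ⟨hy, hy1⟩⟩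
  -- centralizers of the elements outside `M_σ`
  have hcent : ∀ a ∈ A, a ∉ sigmaCore M → centralizer ({a} : Set G) ≤ M := by
    intro a ha haσ c hc
    apply hE (h2 ha) haσ (g := c)
    have : c * a * c⁻¹ = a := by
      have := Subgroup.mem_centralizer_iff.mp hc a rfl
      rw [← this, mul_inv_cancel_right]
    rw [this]
    exact h2 ha
  have hbot : ∀ a ∈ A, a ∉ sigmaCore M → supportR M a = ⊥ := fun a ha haσ =>
    Cfsg.Agent.Lib.Helper81.BG144.supportR_eq_bot M a (hcent a ha haσ)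
  refine ⟨Cfsg.Agent.Lib.Helper23.BG1537.normalizer_eq_of_invariant hG hM hAM hne hinv, ?_⟩
  refine
    { one_not_mem := fun h => (hAM h).2 rfl
      subset := fun a ha => (hAM ha).1
      conj_mem := hinv
      fusion := ?_
      le_centralizer := ?_
      conj_mem_H := fun a _ c hc u hu => Cfsg.Agent.Lib.Helper11.BG1537.conj_mem_supportR M hc hu
      inf_eq_bot := ?_
      sup_eq := ?_
      coprime := ?_ }
  · intro a ha g hg
    by_cases haσ : a ∈ sigmaCore M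
    · exact Cfsg.Agent.Lib.Helper11.BG1537.fusion_sigmaCore hG hM haσ (hAM ha).2 (hAM hg).1
    · exact ⟨g, hE (h2 ha) haσ (h2 hg), rfl⟩
  · intro a _
    exact Cfsg.Agent.Lib.Helper31.BG147.supportR_le_centralizer M a
  · intro a ha
    by_cases haσ : a ∈ sigmaCore M
    · exact (Cfsg.Agent.Lib.Helper11.BG1537.supportR_compl hG hM haσ (hAM ha).2).1
    · rw [hbot a ha haσ]; exact bot_inf_eq _
  · intro a ha
    by_cases haσ : a ∈ sigmaCore M
    · exact (Cfsg.Agent.Lib.Helper11.BG1537.supportR_compl hG hM haσ (hAM ha).2).2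
    · rw [hbot a ha haσ, bot_sup_eq]
      exact inf_eq_right.mpr (hcent a ha haσ)
  · intro a ha b hb
    by_cases haσ : a ∈ sigmaCore M
    · exact Cfsg.Agent.Lib.Helper11.BG1537.coprime_supportR hG hM haσ (hAM ha).2 (h0 (h2 hb)).1 (h0 (h2 hb)).2
    · rw [hbot a ha haσ, Subgroup.card_bot]
      exact Nat.coprime_one_left _

/-- Let G be a minimal simple group of odd order and M a maximal subgroup. For A equal to A₁(M), A(M) or A₀(M): the set normaliser of A is M, and the Dade hypothesis holds for A, M and the function a ↦ R(a). -/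
theorem result {G : Type*} [Group G] [Finite G] (hG : Cfsg.IsMinSimpleOddOrder G) (M : Subgroup G) (hM : IsCoatom M) (A : Set G) (hA : A = Cfsg.typeA1 M ∨ A = Cfsg.typeA M ∨ A = Cfsg.typeA0 M) : Subgroup.normalizer A = M ∧ Cfsg.DadeHypothesis A M (Cfsg.supportR M) := by
  have hC := Cfsg.Agent.Lib.Helper02.BG1537.typeCore_eq_sigmaCore hG hM
  have hB1 := Cfsg.Agent.Lib.Helper83.BG1537.sigmaCore_diff_subset_typeA hG hM hC
  have hA1 : typeA1 M = (sigmaCore M : Set G) \ {1} := by unfold typeA1; rw [hC]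
  rcases hA with rfl | rfl | rfl
  · refine dade_of hG hM (by rw [hA1]) ?_ ?_
    · rw [hA1]; exact hB1.trans Set.subset_union_left
    · intro m hm a ha
      rw [hA1] at ha ⊢
      refine ⟨?_, ?_⟩
      · exact Cfsg.Agent.Lib.Helper71.BG11.le_normalizer_sigmaCore M hm |> fun h =>
          (Subgroup.mem_normalizer_iff.mp h a).mp ha.1
      · intro h
        apply ha.2
        have : a = m⁻¹ * (m * a * m⁻¹) * m := by group
        rw [this, Set.mem_singleton_iff.mp h]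
        simp
  · refine dade_of hG hM hB1 Set.subset_union_left ?_
    intro m hm a ha
    exact Cfsg.Agent.Lib.Helper64.BG1537.conj_mem_typeA hm ha
  · refine dade_of hG hM (hB1.trans Set.subset_union_left) subset_rfl ?_
    intro m hm a ha
    rcases ha with ha | ⟨hnI, W₁, U, W₂, hP, m', hm', w, hw, hw1, hw2, rfl⟩
    · exact Or.inl (Cfsg.Agent.Lib.Helper64.BG1537.conj_mem_typeA hm ha)
    · refine Or.inr ⟨hnI, W₁, U, W₂, hP, m * m', M.mul_mem hm hm', w, hw, hw1, hw2, ?_⟩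
      group

end Cfsg.Agent.S1537
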