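import Cfsg.Statements.S2896
import Cfsg.Agent.Lib.Helper56.CharPElt
import Cfsg.Agent.Lib.Helper38.PGroup

set_option autoImplicit false
open Cfsg

namespace Cfsg.Agent.S2896

open Cfsg.Agent.Lib.Helper56
open Cfsg.Agent.Lib.Helper54

/-- Every element of order `p` has a conjugate in the Sylow subgroup `S`. -/
theorem exists_conj_mem_sylow {G : Type*} [Group G] [Finite G] {p : ℕ} [Fact p.Prime]
    (S : Sylow p G) (T : Subgroup G) (hT : IsPGroup p ↥T) :
    ∃ g : G, ∀ t ∈ T, g⁻¹ * t * g ∈ (S : Subgroup G) := by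
  obtain ⟨Q, hQ⟩ := hT.exists_le_sylow
  obtain ⟨g, hg⟩ := MulAction.exists_smul_eq G S Q
  refine ⟨g, fun t ht => ?_⟩
  have h1 : t ∈ (Q : Subgroup G) := hQ ht
  rw [← hg, Sylow.coe_subgroup_smul, Subgroup.mem_pointwise_smul_iff_inv_smul_mem] at h1
  simpa [MulAut.smul_def, MulAut.conj_apply] using h1

/-- In a p-group `X`, `z ∈ Z(X)` nontrivial, charP transfer via conjugation into `S`. -/
theorem charP_cent_of_conj {G : Type*} [Group G] {p : ℕ} (g z : G)
    (hC : Subgroup.centralizer (Cfsg.pCore p ↥(Subgroup.centralizer ({g⁻¹ * z * g} : Set G)) :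
        Set ↥(Subgroup.centralizer ({g⁻¹ * z * g} : Set G))) ≤
      Cfsg.pCore p ↥(Subgroup.centralizer ({g⁻¹ * z * g} : Set G))) :
    Subgroup.centralizer (Cfsg.pCore p ↥(Subgroup.centralizer ({z} : Set G)) :
        Set ↥(Subgroup.centralizer ({z} : Set G))) ≤
      Cfsg.pCore p ↥(Subgroup.centralizer ({z} : Set G)) := by
  have h := charP_centralizer_conj (p := p) g (g⁻¹ * z * g) hC
  have h2 : g * (g⁻¹ * z * g) * g⁻¹ = z := by group
  rwa [h2] at h

/-- Membership in `Ω₁(Z(S))`. -/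
theorem mem_omegaOne_center {G : Type*} [Group G] {p : ℕ} (S : Subgroup G) (z : G)
    (hz : z ∈ Cfsg.omegaOne p (S ⊓ Subgroup.centralizer (S : Set G))) :
    z ∈ S ∧ (∀ s ∈ S, s * z = z * s) ∧ z ^ p = 1 := by
  unfold Cfsg.omegaOne at hz
  induction hz using Subgroup.closure_induction with
  | mem x hx =>
    obtain ⟨⟨h1, h2⟩, h3⟩ := hx
    exact ⟨h1, fun s hs => (Subgroup.mem_centralizer_iff.mp h2) s hs, h3⟩
  | one => exact ⟨S.one_mem, fun s _ => by simp, one_pow p⟩
  | mul x y _ _ hx hy =>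
    refine ⟨S.mul_mem hx.1 hy.1, fun s hs => ?_, ?_⟩
    · rw [← mul_assoc, hx.2.1 s hs, mul_assoc, hy.2.1 s hs, mul_assoc]
    · have hc : Commute x y := (hx.2.1 y hy.1).symm
      rw [hc.mul_pow, hx.2.2, hy.2.2, one_mul]
  | inv x _ hx =>
    refine ⟨S.inv_mem hx.1, fun s hs => ?_, by rw [inv_pow, hx.2.2, inv_one]⟩
    have := hx.2.1 s hs
    have h2 : s * x⁻¹ = x⁻¹ * (x * s) * x⁻¹ := by group
    rw [h2, ← this]
    group

/-- Two Sylow subgroups are conjugate, elementwise form. -/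
theorem exists_conj_sylow_iff {G : Type*} [Group G] [Finite G] {p : ℕ} [Fact p.Prime]
    (S T : Sylow p G) :
    ∃ g : G, ∀ t : G, t ∈ (T : Subgroup G) ↔ g⁻¹ * t * g ∈ (S : Subgroup G) := by
  obtain ⟨g, hg⟩ := MulAction.exists_smul_eq G S T
  refine ⟨g, fun t => ?_⟩
  rw [← hg, Sylow.coe_subgroup_smul, Subgroup.mem_pointwise_smul_iff_inv_smul_mem]
  simp [MulAut.smul_def]

/-- A `p`-subgroup normalized by a Sylow `p`-subgroup lies in it. -/
theorem le_sylow_of_le_normalizer {G : Type*} [Group G] [Finite G] {p : ℕ} [Fact p.Prime]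
    (R : Subgroup G) (hRp : IsPGroup p ↥R) (T : Sylow p G)
    (hTN : (T : Subgroup G) ≤ Subgroup.normalizer (R : Set G)) : R ≤ (T : Subgroup G) := by
  have hRn : (R.subgroupOf (Subgroup.normalizer (R : Set G))).Normal :=
    Subgroup.normal_subgroupOf_of_le_normalizer le_rfl
  have h1 : R.subgroupOf (Subgroup.normalizer (R : Set G)) ≤
      Cfsg.pCore p ↥(Subgroup.normalizer (R : Set G)) :=
    le_pCore hRn (hRp.comap_of_injective _ (Subgroup.subtype_injective _))
  have h2 := h1.trans (pCore_le_sylow (T.subtype hTN))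
  intro r hr
  have h3 : (⟨r, Subgroup.le_normalizer hr⟩ : ↥(Subgroup.normalizer (R : Set G))) ∈
      R.subgroupOf (Subgroup.normalizer (R : Set G)) := Subgroup.mem_subgroupOf.mpr hr
  have h4 := h2 h3
  rw [Sylow.coe_subtype, Subgroup.mem_subgroupOf] at h4
  exact h4

/-- A nonidentity central element of a `p`-subgroup `T` lying in `R` gives one of order `p`. -/
theorem exists_orderOf_eq_prime_central {G : Type*} [Group G] {p : ℕ} [Fact p.Prime]
    (T R : Subgroup G) (hTp : IsPGroup p ↥T) (z : G) (hzT : z ∈ T) (hzR : z ∈ R) (hz1 : z ≠ 1)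
    (hzc : ∀ t ∈ T, t * z = z * t) :
    ∃ w : G, w ∈ T ∧ w ∈ R ∧ orderOf w = p ∧ ∀ t ∈ T, t * w = w * t := by
  have hk : ∃ k : ℕ, orderOf z = p ^ k := by
    obtain ⟨k, hk⟩ := (IsPGroup.iff_orderOf.mp hTp) ⟨z, hzT⟩
    refine ⟨k, ?_⟩
    rw [← hk]
    exact Subgroup.orderOf_coe (⟨z, hzT⟩ : ↥T)
  obtain ⟨n, hn⟩ := Cfsg.Agent.Lib.Helper38.exists_pow_orderOf_eq_prime p z hz1 hk
  refine ⟨z ^ n, T.pow_mem hzT n, R.pow_mem hzR n, hn, fun t ht => ?_⟩
  have hc : Commute t z := hzc t ht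
  exact (hc.pow_right n).eq

theorem result {G : Type*} [Group G] [Finite G] {p : ℕ} [Fact p.Prime] (hdiv : p ∣ Nat.card G) (S : Sylow p G) (X : Subgroup G) (hX : X ≤ (S : Subgroup G)) : (∀ z : G, z ≠ 1 → z ∈ X → (∀ x ∈ X, x * z = z * x) → Cfsg.generalizedFittingSubgroup ↥(Subgroup.centralizer ({z} : Set G)) = Cfsg.pCore p ↥(Subgroup.centralizer ({z} : Set G)) → Cfsg.generalizedFittingSubgroup ↥(Subgroup.normalizer (X : Set G)) = Cfsg.pCore p ↥(Subgroup.normalizer (X : Set G))) ∧ (Cfsg.IsOfParabolicCharacteristic p G ↔ ∀ z : G, z ≠ 1 → z ∈ Cfsg.omegaOne p ((S : Subgroup G) ⊓ Subgroup.centralizer ((S : Subgroup G) : Set G)) → Cfsg.generalizedFittingSubgroup ↥(Subgroup.centralizer ({z} : Set G)) = Cfsg.pCore p ↥(Subgroup.centralizer ({z} : Set G))) ∧ ((∀ z : G, z ∈ (S : Subgroup G) → orderOf z = p → Cfsg.generalizedFittingSubgroup ↥(Subgroup.centralizer ({z} : Set G)) = Cfsg.pCore p ↥(Subgroup.centralizer ({z} : Set G))) → Cfsg.IsOfLocalCharacteristic p G) := by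
  classical
  have hp : p.Prime := Fact.out
  refine ⟨?_, ⟨?_, ?_⟩, ?_⟩
  · -- (i)
    intro z _ hzX hzc hF
    rw [genFitting_eq_pCore_iff] at hF ⊢
    exact charP_normalizer_of_centralizer_elt X (S.isPGroup'.to_le hX) z hzX hzc hF
  · -- (ii) forward
    intro hpar z hz1 hzΩ
    obtain ⟨hzS, hzc, hzp⟩ := mem_omegaOne_center (p := p) (S : Subgroup G) z hzΩ
    rw [genFitting_eq_pCore_iff]
    set R : Subgroup G := Subgroup.zpowers z with hR
    have hRp : IsPGroup p ↥R := by
      apply IsPGroup.of_card (n := 1)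
      rw [Nat.card_zpowers, pow_one]
      exact orderOf_eq_prime hzp hz1
    have hRne : R ≠ ⊥ := by
      intro h
      exact hz1 (Subgroup.zpowers_eq_bot.mp h)
    have hCN : Subgroup.centralizer (R : Set G) ≤ Subgroup.normalizer (R : Set G) :=
      Subgroup.centralizer_le_normalizer _
    have hSC : (S : Subgroup G) ≤ Subgroup.centralizer (R : Set G) := by
      intro s hs
      rw [hR, Subgroup.zpowers_eq_closure, Subgroup.centralizer_closure,
        Subgroup.mem_centralizer_iff]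
      intro y hy
      rw [Set.mem_singleton_iff] at hy
      subst hy
      exact (hzc s hs).symm
    have hN := hpar R hRp hRne ⟨S, hSC.trans hCN⟩
    have hC := charP_centralizer_rel (Subgroup.normalizer (R : Set G)) R hN hRp
      Subgroup.le_normalizer hCN
    have hEq : Subgroup.centralizer (R : Set G) = Subgroup.centralizer ({z} : Set G) := by
      rw [hR, Subgroup.zpowers_eq_closure, Subgroup.centralizer_closure]
    rw [hEq] at hC
    exact hC
  · -- (ii) backward
    intro hyp R hRp hRne ⟨T, hTN⟩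
    have hRT : R ≤ (T : Subgroup G) := le_sylow_of_le_normalizer R hRp T hTN
    have hTfin : Finite ↥(T : Subgroup G) := inferInstance
    have hRTn : (R.subgroupOf (T : Subgroup G)).Normal :=
      Subgroup.normal_subgroupOf_of_le_normalizer hTN
    have hRTne : R.subgroupOf (T : Subgroup G) ≠ ⊥ := by
      intro h
      apply hRne
      rw [eq_bot_iff]
      intro r hr
      have h1 : (⟨r, hRT hr⟩ : ↥(T : Subgroup G)) ∈ R.subgroupOf (T : Subgroup G) :=
        Subgroup.mem_subgroupOf.mpr hr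
      rw [h, Subgroup.mem_bot] at h1
      rw [Subgroup.mem_bot]
      exact congrArg Subtype.val h1
    obtain ⟨x, hxR, hxZ, hx1⟩ := Cfsg.Agent.Lib.Helper38.normal_inf_center_ne_bot p
      T.isPGroup' (R.subgroupOf (T : Subgroup G)) hRTne
    have hxc : ∀ t ∈ (T : Subgroup G), t * (x : G) = (x : G) * t := by
      intro t ht
      have := (Subgroup.mem_center_iff.mp hxZ) ⟨t, ht⟩
      exact congrArg Subtype.val this
    obtain ⟨w, hwT, hwR, hwo, hwc⟩ := exists_orderOf_eq_prime_central (T : Subgroup G) R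
      T.isPGroup' (x : G) x.2 (Subgroup.mem_subgroupOf.mp hxR)
      (fun h => hx1 (Subtype.ext h)) hxc
    obtain ⟨g, hg⟩ := exists_conj_sylow_iff S T
    have hw1 : g⁻¹ * w * g ≠ 1 := by
      intro h
      have h2 : w = g * (g⁻¹ * w * g) * g⁻¹ := by group
      rw [h] at h2
      have h3 : w = 1 := by rw [h2]; group
      rw [h3, orderOf_one] at hwo
      exact hp.one_lt.ne hwo
    have hwΩ : g⁻¹ * w * g ∈
        Cfsg.omegaOne p ((S : Subgroup G) ⊓ Subgroup.centralizer ((S : Subgroup G) : Set G)) := by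
      apply Subgroup.subset_closure
      refine ⟨⟨(hg w).mp hwT, ?_⟩, ?_⟩
      · show g⁻¹ * w * g ∈ Subgroup.centralizer ((S : Subgroup G) : Set G)
        rw [Subgroup.mem_centralizer_iff]
        intro s hs
        have hsT : g * s * g⁻¹ ∈ (T : Subgroup G) := by
          rw [hg]
          have : g⁻¹ * (g * s * g⁻¹) * g = s := by group
          rw [this]
          exact hs
        have h1 := hwc _ hsT
        have h2 : s * (g⁻¹ * w * g) = g⁻¹ * (g * s * g⁻¹ * w) * g := by group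
        rw [h2, h1]
        group
      · have h1 : (g⁻¹ * w * g) ^ p = g⁻¹ * w ^ p * g := by
          have := conj_pow (a := g⁻¹) (b := w) (i := p)
          simpa using this
        rw [h1, ← hwo, pow_orderOf_eq_one]
        group
    have hF := hyp _ hw1 hwΩ
    rw [genFitting_eq_pCore_iff] at hF
    have hCw := charP_cent_of_conj g w hF
    exact charP_normalizer_of_centralizer_elt R hRp w hwR (fun r hr => hwc r (hRT hr)) hCw
  · -- (iii)
    intro hyp
    refine ⟨hdiv, ?_⟩
    intro T hTp hTne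
    obtain ⟨a, ha⟩ := (Subgroup.ne_bot_iff_exists_ne_one).mp hTne
    have hnt : Nontrivial ↥T := ⟨⟨a, 1, ha⟩⟩
    have hZ : Nontrivial ↥(Subgroup.center ↥T) := hTp.center_nontrivial
    obtain ⟨x, hx1⟩ := exists_ne (1 : ↥(Subgroup.center ↥T))
    have hxc : ∀ t ∈ T, t * ((x : ↥T) : G) = ((x : ↥T) : G) * t := by
      intro t ht
      have := (Subgroup.mem_center_iff.mp x.2) ⟨t, ht⟩
      exact congrArg Subtype.val this
    obtain ⟨w, hwT, _, hwo, hwc⟩ := exists_orderOf_eq_prime_central T T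
      hTp ((x : ↥T) : G) (x : ↥T).2 (x : ↥T).2
      (fun h => hx1 (Subtype.ext (Subtype.ext h))) hxc
    obtain ⟨g, hg⟩ := exists_conj_mem_sylow S T hTp
    have hwo' : orderOf (g⁻¹ * w * g) = p := by
      rw [← hwo]
      have : g⁻¹ * w * g = (MulAut.conj g⁻¹) w := by simp
      rw [this, MulEquiv.orderOf_eq]
    have hF := hyp _ (hg w hwT) hwo'
    rw [genFitting_eq_pCore_iff] at hF
    have hCw := charP_cent_of_conj g w hF
    exact charP_normalizer_of_centralizer_elt T hTp w hwT hwc hCw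

end Cfsg.Agent.S2896
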