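import Cfsg.Statements.S2897
import Cfsg.Agent.S2896
import Cfsg.Agent.Lib.Helper54.SylowLib

set_option autoImplicit false
open Cfsg

namespace Cfsg.Agent.S2897

open Cfsg.Agent.Lib.Helper56
open Cfsg.Agent.Lib.Helper54

/-- `A ∩ B` seen inside `B` and inside `A`. -/
noncomputable def subgroupOfSwapEquiv {G : Type*} [Group G] (A B : Subgroup G) :
    ↥(A.subgroupOf B) ≃* ↥(B.subgroupOf A) :=
  ((MulEquiv.subgroupCongr (Subgroup.inf_subgroupOf_right A B).symm).trans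
    (Subgroup.subgroupOfEquivOfLe (inf_le_right : A ⊓ B ≤ B))).trans
  ((Subgroup.subgroupOfEquivOfLe (inf_le_left : A ⊓ B ≤ A)).symm.trans
    (MulEquiv.subgroupCongr (Subgroup.inf_subgroupOf_left B A)))

theorem result {G : Type*} [Group G] [Finite G] {p : ℕ} [Fact p.Prime] (hdiv : p ∣ Nat.card G) (hG : Cfsg.IsOfParabolicCharacteristic p G) (S : Sylow p G) (G₁ : Subgroup G) [G₁.Normal] (hne : Cfsg.omegaOne p (((S : Subgroup G) ⊓ G₁) ⊓ Subgroup.centralizer (((S : Subgroup G) ⊓ G₁ : Subgroup G) : Set G)) ≠ ⊥) (hle : Cfsg.omegaOne p (((S : Subgroup G) ⊓ G₁) ⊓ Subgroup.centralizer (((S : Subgroup G) ⊓ G₁ : Subgroup G) : Set G)) ≤ Cfsg.omegaOne p ((S : Subgroup G) ⊓ Subgroup.centralizer ((S : Subgroup G) : Set G))) : Cfsg.IsOfParabolicCharacteristic p ↥G₁ := by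
  classical
  have hp : p.Prime := Fact.out
  obtain ⟨P, hP⟩ := exists_sylow_eq_subgroupOf_of_normal S G₁
  -- p divides |G₁|
  have hdiv₁ : p ∣ Nat.card ↥G₁ := by
    obtain ⟨w, hw1⟩ := (Subgroup.ne_bot_iff_exists_ne_one).mp hne
    obtain ⟨hwS, _, hwp⟩ := Cfsg.Agent.S2896.mem_omegaOne_center (p := p) _ (w : G) w.2
    have hw1' : (w : G) ≠ 1 := fun h => hw1 (Subtype.ext h)
    have ho : orderOf (⟨(w : G), hwS.2⟩ : ↥G₁) = p := by
      rw [← Subgroup.orderOf_coe]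
      exact orderOf_eq_prime hwp hw1'
    rw [← ho]
    exact orderOf_dvd_natCard _
  rw [(Cfsg.Agent.S2896.result hdiv₁ P ⊥ bot_le).2.1]
  intro z₁ hz1 hzΩ
  obtain ⟨hzP, hzc, hzp⟩ := Cfsg.Agent.S2896.mem_omegaOne_center (p := p) (P : Subgroup ↥G₁) z₁ hzΩ
  rw [genFitting_eq_pCore_iff]
  set z : G := (z₁ : G) with hz
  have hzS : z ∈ (S : Subgroup G) := by
    rw [hP, Subgroup.mem_subgroupOf] at hzP
    exact hzP
  have hz1' : z ≠ 1 := fun h => hz1 (Subtype.ext h)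
  have hzp' : z ^ p = 1 := by
    have := congrArg Subtype.val hzp
    simpa using this
  have hzΩ₁ : z ∈ Cfsg.omegaOne p (((S : Subgroup G) ⊓ G₁) ⊓
      Subgroup.centralizer (((S : Subgroup G) ⊓ G₁ : Subgroup G) : Set G)) := by
    apply Subgroup.subset_closure
    refine ⟨⟨⟨hzS, z₁.2⟩, ?_⟩, hzp'⟩
    show z ∈ Subgroup.centralizer (((S : Subgroup G) ⊓ G₁ : Subgroup G) : Set G)
    rw [Subgroup.mem_centralizer_iff]
    intro s hs
    have hsP : (⟨s, hs.2⟩ : ↥G₁) ∈ (P : Subgroup ↥G₁) := by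
      rw [hP, Subgroup.mem_subgroupOf]
      exact hs.1
    exact congrArg Subtype.val (hzc _ hsP)
  have hF := (Cfsg.Agent.S2896.result hdiv S ⊥ bot_le).2.1.mp hG z hz1' (hle hzΩ₁)
  rw [genFitting_eq_pCore_iff] at hF
  set C : Subgroup G := Subgroup.centralizer ({z} : Set G) with hC
  have hYn : (G₁.subgroupOf C).Normal := inferInstance
  have hY := charP_of_isSubnormal hF (G₁.subgroupOf C) hYn.isSubnormal
  have hEq : Subgroup.centralizer ({z₁} : Set ↥G₁) = C.subgroupOf G₁ := by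
    ext x
    rw [Subgroup.mem_subgroupOf, hC, Subgroup.mem_centralizer_iff, Subgroup.mem_centralizer_iff]
    simp only [Set.mem_singleton_iff, forall_eq]
    constructor
    · intro h
      exact congrArg Subtype.val h
    · intro h
      exact Subtype.ext h
  rw [hEq]
  exact charP_of_mulEquiv (subgroupOfSwapEquiv G₁ C) hY

end Cfsg.Agent.S2897
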