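import Cfsg.Statements.S3742

set_option autoImplicit false
open Cfsg

namespace Cfsg.Agent.S3742

open QuaternionGroup

abbrev Q := QuaternionGroup 2

/-- the map determined by the images `u`, `v` of the generators `a 1`, `xa 0` -/
def ev (u v : Q) : Q → Q
  | a k => u ^ k.val
  | xa k => v * u ^ k.val

abbrev Valid (u v : Q) : Prop :=
  (∀ g h : Q, ev u v (g * h) = ev u v g * ev u v h) ∧ (∀ g h : Q, ev u v g = ev u v h → g = h)

def axis : Q → Fin 3
  | a _ => 0
  | xa k => if k.val % 2 = 0 then 1 else 2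

def sgn : Q → Bool
  | a k => k.val == 1
  | xa k => k.val == 0 || k.val == 3

def negQ (x : Q) : Q := a 2 * x

def sOf (x : Fin 4) : Bool × Bool := (x.val / 2 == 0, x.val % 2 == 0)

def ofS (s : Bool × Bool) : Fin 4 :=
  match s with
  | (true, true) => 0
  | (true, false) => 1
  | (false, true) => 2
  | (false, false) => 3

/-- action of the automorphism with generator images `u`, `v` on the four diagonals -/
def act (u v : Q) (x : Fin 4) : Fin 4 :=
  let s := sOf x
  let t0 := u
  let t1 := if s.1 then v else negQ v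
  let t2 := if s.2 then u * v else negQ (u * v)
  let ε : Fin 3 → Bool := fun c =>
    if axis t0 = c then sgn t0 else if axis t1 = c then sgn t1 else sgn t2
  ofS (ε 1 == ε 0, ε 2 == ε 0)

theorem a_one_pow_val : ∀ k : ZMod (2 * 2), (a 1 : Q) ^ k.val = a k := by decide

theorem xa_zero_mul : ∀ k : ZMod (2 * 2), (xa 0 : Q) * a k = xa k := by decide

theorem ev_eq (φ : MulAut Q) (g : Q) : ev (φ (a 1)) (φ (xa 0)) g = φ g := by
  cases g with
  | a k =>
    change (φ (a 1)) ^ k.val = φ (a k)
    rw [← map_pow, a_one_pow_val]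
  | xa k =>
    change φ (xa 0) * (φ (a 1)) ^ k.val = φ (xa k)
    rw [← map_pow, ← map_mul, a_one_pow_val, xa_zero_mul]

theorem valid_of_aut (φ : MulAut Q) : Valid (φ (a 1)) (φ (xa 0)) := by
  refine ⟨fun g h => ?_, fun g h hgh => ?_⟩
  · rw [ev_eq, ev_eq, ev_eq, map_mul]
  · rw [ev_eq, ev_eq] at hgh
    exact φ.injective hgh

theorem act_one : ∀ x : Fin 4, act (a 1) (xa 0) x = x := by decide

set_option maxRecDepth 100000 in
theorem act_mul : ∀ u v u' v' : Q, Valid u v → Valid u' v' →
    ∀ x : Fin 4, act (ev u v u') (ev u v v') x = act u v (act u' v' x) := by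
  decide

set_option maxRecDepth 100000 in
theorem act_faithful : ∀ u v : Q, Valid u v → (∀ x : Fin 4, act u v x = x) → u = a 1 ∧ v = xa 0 := by
  decide

/-- the action of `Aut(Q₈)` on the four diagonals -/
@[reducible] def autAction : MulAction (MulAut Q) (Fin 4) where
  smul φ x := act (φ (a 1)) (φ (xa 0)) x
  one_smul x := act_one x
  mul_smul φ ψ x := by
    change act ((φ * ψ) (a 1)) ((φ * ψ) (xa 0)) x
      = act (φ (a 1)) (φ (xa 0)) (act (ψ (a 1)) (ψ (xa 0)) x)
    rw [MulAut.mul_apply, MulAut.mul_apply, ← ev_eq φ (ψ (a 1)), ← ev_eq φ (ψ (xa 0))]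
    exact act_mul _ _ _ _ (valid_of_aut φ) (valid_of_aut ψ) x

/-- the automorphism with prescribed images of the generators -/
noncomputable def ofPair (u v : Q) (h : Valid u v) : MulAut Q :=
  MulEquiv.ofBijective (MonoidHom.mk' (ev u v) h.1)
    ⟨fun g g' hgg => h.2 g g' hgg, Finite.surjective_of_injective (fun g g' hgg => h.2 g g' hgg)⟩

theorem ofPair_apply (u v : Q) (h : Valid u v) (g : Q) : ofPair u v h g = ev u v g := rfl

/-- the permutation representation -/
noncomputable def permHom : MulAut Q →* Equiv.Perm (Fin 4) :=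
  @MulAction.toPermHom (MulAut Q) (Fin 4) _ autAction

theorem permHom_apply (φ : MulAut Q) (x : Fin 4) :
    permHom φ x = act (φ (a 1)) (φ (xa 0)) x := rfl

theorem permHom_injective : Function.Injective permHom := by
  rw [injective_iff_map_eq_one permHom]
  intro φ hφ
  have h1 : ∀ x : Fin 4, act (φ (a 1)) (φ (xa 0)) x = x := by
    intro x
    rw [← permHom_apply, hφ]
    rfl
  obtain ⟨hu, hv⟩ := act_faithful _ _ (valid_of_aut φ) h1
  ext g
  rw [← ev_eq φ g, hu, hv]
  have := ev_eq (1 : MulAut Q) g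
  simpa using this

theorem valid1 : Valid (xa 0 : Q) (a 1) := by decide
theorem valid2 : Valid (a 3 : Q) (xa 1) := by decide
theorem valid3 : Valid (xa 2 : Q) (a 3) := by decide

theorem swap1 : ∀ x : Fin 4, act (ev (xa 0) (a 1) (a 1)) (ev (xa 0) (a 1) (xa 0)) x
    = Equiv.swap (Fin.castSucc (0 : Fin 3)) (Fin.succ (0 : Fin 3)) x := by decide
theorem swap2 : ∀ x : Fin 4, act (ev (a 3) (xa 1) (a 1)) (ev (a 3) (xa 1) (xa 0)) x
    = Equiv.swap (Fin.castSucc (1 : Fin 3)) (Fin.succ (1 : Fin 3)) x := by decide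
theorem swap3 : ∀ x : Fin 4, act (ev (xa 2) (a 3) (a 1)) (ev (xa 2) (a 3) (xa 0)) x
    = Equiv.swap (Fin.castSucc (2 : Fin 3)) (Fin.succ (2 : Fin 3)) x := by decide

theorem permHom_surjective : Function.Surjective permHom := by
  rw [← MonoidHom.range_eq_top, eq_top_iff]
  have key : (⊤ : Submonoid (Equiv.Perm (Fin 4))) ≤ permHom.range.toSubmonoid := by
    rw [← Equiv.Perm.mclosure_swap_castSucc_succ 3, Submonoid.closure_le]
    rintro _ ⟨i, rfl⟩
    fin_cases i
    · exact ⟨ofPair _ _ valid1, Equiv.ext swap1⟩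
    · exact ⟨ofPair _ _ valid2, Equiv.ext swap2⟩
    · exact ⟨ofPair _ _ valid3, Equiv.ext swap3⟩
  intro σ _
  exact key (Submonoid.mem_top σ)

theorem result : Nonempty (MulAut (QuaternionGroup 2) ≃* Equiv.Perm (Fin 4)) := by
  exact ⟨MulEquiv.ofBijective permHom ⟨permHom_injective, permHom_surjective⟩⟩

end Cfsg.Agent.S3742
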