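import Cfsg.Statements.S0857
import Cfsg.Agent.Lib.Helper85.LinearTwist

set_option autoImplicit false
open Cfsg

namespace Cfsg.Agent.S0857

open Cfsg.Agent.Lib.Helper83 Cfsg.Agent.Lib.Helper85
open scoped commutatorElement

/-- Let L < K be normal subgroups of the finite group G with no normal subgroup of G strictly between them and with K / L abelian (the commutator subgroup of K lies in L). Let ϑ be an irreducible character of K invariant under conjugation by G. Then the restriction of ϑ to L is irreducible; or it equals e times an irreducible character of L with e ^ 2 equal to the index of L in K; or it is the sum of a family of pairwise distinct irreducible characters of L indexed by a set whose size is the index of L in K. -/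
theorem result {G : Type*} [Group G] [Fintype G] (K L : Subgroup G) [hK : K.Normal] [L.Normal] (hLK : L < K) (hchief : ∀ M : Subgroup G, M.Normal → L ≤ M → M ≤ K → M = L ∨ M = K) (hab : ⁅K, K⁆ ≤ L) (ϑ : K → ℂ) (hϑ : Cfsg.IsIrrCharacter K ϑ) (hinv : ∀ (g : G) (n : K), ϑ ⟨g * n * g⁻¹, hK.conj_mem (n : G) n.2 g⟩ = ϑ n) : Cfsg.IsIrrCharacter L (fun x : L => ϑ ⟨(x : G), hLK.le x.2⟩) ∨ (∃ (φ : L → ℂ) (e : ℕ), Cfsg.IsIrrCharacter L φ ∧ (fun x : L => ϑ ⟨(x : G), hLK.le x.2⟩) = (e : ℂ) • φ ∧ e ^ 2 = L.relIndex K) ∨ (∃ F : Finset (L → ℂ), (∀ φ ∈ F, Cfsg.IsIrrCharacter L φ) ∧ F.card = L.relIndex K ∧ (fun x : L => ϑ ⟨(x : G), hLK.le x.2⟩) = ∑ φ ∈ F, φ) := by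
  classical
  have hL : L.Normal := inferInstance
  have : Fintype K := Fintype.ofFinite K
  have : Fintype L := Fintype.ofFinite L
  set r : L → ℂ := fun x : L => ϑ ⟨(x : G), hLK.le x.2⟩ with hr
  have hϑc : IsCharacter K ϑ := isCharacter_of_irr hϑ
  have hrc : IsCharacter L r := isCharacter_comp_hom (Subgroup.inclusion hLK.le) hϑc
  have hr1 : r 1 ≠ 0 := irr_degree_ne_zero ⟨ϑ, hϑ⟩
  have hrinv : ∀ (g : G) (n : L), r ⟨g * n * g⁻¹, hL.conj_mem n n.2 g⟩ = r n := by
    intro g n
    exact hinv g ⟨n, hLK.le n.2⟩
  obtain ⟨φ, hφ, hconst⟩ := exists_irr_constituent hrc hr1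
  set S : Finset (L → ℂ) := Finset.univ.image (fun k : K => conjFun hL φ k) with hS
  have hcl : r = classInner r φ • ∑ ψ ∈ S, ψ := clifford_rel hL hLK.le hϑ hφ hconst
  have hcard : S.card = (conjStab hL φ).relIndex K := card_conj_orbit_rel hL hLK.le φ
  obtain ⟨m, hm⟩ := classInner_char_nat hrc (isCharacter_of_irr hφ)
  have hm0 : m ≠ 0 := by
    rintro rfl
    exact hconst (by rw [hm]; simp)
  rw [hm] at hcl
  have hSirr : ∀ ψ ∈ S, IsIrrCharacter L ψ := by
    intro ψ hψ
    rw [hS, Finset.mem_image] at hψ
    obtain ⟨k, -, rfl⟩ := hψ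
    exact isIrrCharacter_conjFun hL hφ k
  have hφS : φ ∈ S := by
    rw [hS, Finset.mem_image]
    exact ⟨1, Finset.mem_univ _, conjFun_one hL φ⟩
  have hrr : classInner r r = ((m ^ 2 * S.card : ℕ) : ℂ) := by
    conv_lhs => rw [hcl]
    rw [classInner_smul_left, classInner_smul_right, classInner_sum_irr_finset S hSirr]
    simp only [Complex.conj_natCast]
    push_cast
    ring
  set L' : Subgroup K := L.subgroupOf K with hL'
  have hL'n : L'.Normal := hL.subgroupOf K
  have : Fintype L' := Fintype.ofFinite _
  have habQ : ∀ a b : K ⧸ L', a * b = b * a := by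
    intro a b
    induction a using QuotientGroup.induction_on with | H a => ?_
    induction b using QuotientGroup.induction_on with | H b => ?_
    rw [← QuotientGroup.mk_mul, ← QuotientGroup.mk_mul, QuotientGroup.eq]
    rw [hL', Subgroup.mem_subgroupOf]
    apply hab
    have : (((a * b)⁻¹ * (b * a) : K) : G) = ⁅(b : G)⁻¹, (a : G)⁻¹⁆ := by
      rw [commutatorElement_def]
      push_cast
      group
    rw [this]
    exact Subgroup.commutator_mem_commutator (K.inv_mem b.2) (K.inv_mem a.2)
  have : Fintype (IrrCharacter (K ⧸ L')) := Fintype.ofFinite _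
  set Λ := Finset.univ.filter (fun β : IrrCharacter (K ⧸ L') =>
    (fun k => (β : K ⧸ L' → ℂ) (QuotientGroup.mk k) * ϑ k) = ϑ) with hΛ
  have hΛcard : (Λ.card : ℂ) = classInner (fun n : L' => ϑ n) (fun n : L' => ϑ n) :=
    card_twist_fixed L' habQ hϑ
  have htrans : classInner (fun n : L' => ϑ n) (fun n : L' => ϑ n) = classInner r r :=
    classInner_comp_mulEquiv (Subgroup.subgroupOfEquivOfLe hLK.le) r r
  have hkey : Λ.card = m ^ 2 * S.card := by
    have : (Λ.card : ℂ) = ((m ^ 2 * S.card : ℕ) : ℂ) := by rw [hΛcard, htrans, hrr]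
    exact_mod_cast this
  have hcardQ : Nat.card (IrrCharacter (K ⧸ L')) = L.relIndex K := by
    rw [card_irr_of_comm habQ]
    rfl
  have hΛle : Λ.card ≤ L.relIndex K := by
    calc Λ.card ≤ (Finset.univ : Finset (IrrCharacter (K ⧸ L'))).card :=
          Finset.card_le_card (Finset.filter_subset _ _)
      _ = Nat.card (IrrCharacter (K ⧸ L')) := by
          rw [Finset.card_univ, Nat.card_eq_fintype_card]
      _ = L.relIndex K := hcardQ
  set T : Subgroup G := conjStab hL φ ⊓ K with hT
  have hLstab : L ≤ conjStab hL φ :=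
    le_conjStab hL (char_isClassFunction (isCharacter_of_irr hφ))
  have hLT : L ≤ T := le_inf hLstab hLK.le
  have hTK : T ≤ K := inf_le_right
  have hTn : T.Normal := by
    constructor
    intro n hn g
    rw [hT, Subgroup.mem_inf] at hn ⊢
    obtain ⟨hn1, hn2⟩ := hn
    refine ⟨?_, hK.conj_mem n hn2 g⟩
    rw [mem_conjStab]
    have hirrg : IsIrrCharacter L (conjFun hL φ g) := isIrrCharacter_conjFun hL hφ g
    have hcg : classInner r (conjFun hL φ g) ≠ 0 := by
      rw [classInner_conjFun_of_invariant hL hrinv]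
      exact hconst
    obtain ⟨k, hk⟩ : ∃ k : K, conjFun hL φ g = conjFun hL φ k := by
      by_contra hcon
      push Not at hcon
      exact hcg (clifford_rel_inner_eq_zero hL hLK.le hϑ hφ hconst hirrg hcon)
    have hkn : conjFun hL φ ((k : G) * n * (k : G)⁻¹) = φ := by
      rw [← mem_conjStab]
      have : (k : G) * n * (k : G)⁻¹ = n * ⁅n⁻¹, (k : G)⁆ := by
        rw [commutatorElement_def]
        group
      rw [this]
      apply (conjStab hL φ).mul_mem hn1
      apply hLstab
      apply hab
      exact Subgroup.commutator_mem_commutator (K.inv_mem hn2) k.2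
    have hstab : conjFun hL (conjFun hL φ g) n = conjFun hL φ g := by
      rw [hk, conjFun_conjFun]
      have : (k : G) * n = ((k : G) * n * (k : G)⁻¹) * k := by group
      rw [this, ← conjFun_conjFun, hkn]
    calc conjFun hL φ (g * n * g⁻¹) = conjFun hL (conjFun hL (conjFun hL φ g) n) g⁻¹ := by
          rw [conjFun_conjFun, conjFun_conjFun, mul_assoc]
      _ = conjFun hL (conjFun hL φ g) g⁻¹ := by rw [hstab]
      _ = φ := by rw [conjFun_conjFun, mul_inv_cancel, conjFun_one]
  have hrel : (conjStab hL φ).relIndex K = T.relIndex K := by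
    rw [hT, Subgroup.inf_relIndex_right]
  have hpos : 0 < L.relIndex K := by
    have : (L.subgroupOf K).index ≠ 0 := Subgroup.index_ne_zero_of_finite
    exact Nat.pos_of_ne_zero this
  rcases hchief T hTn hLT hTK with hTL | hTK'
  · -- T = L
    right; right
    have hcardS : S.card = L.relIndex K := by rw [hcard, hrel, hTL]
    have hm1 : m = 1 := by
      have h1 : m ^ 2 * L.relIndex K ≤ L.relIndex K := by
        rw [← hcardS, ← hkey, hcardS]
        exact hΛle
      have h2 : m ^ 2 ≤ 1 := by
        by_contra h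
        push Not at h
        nlinarith
      have h3 : m ≤ 1 := by nlinarith
      omega
    refine ⟨S, hSirr, hcardS, ?_⟩
    rw [hcl, hm1]
    simp
  · -- T = K
    have hcardS : S.card = 1 := by rw [hcard, hrel, hTK', Subgroup.relIndex_self]
    have hSeq : S = {φ} := by
      obtain ⟨a, ha⟩ := Finset.card_eq_one.mp hcardS
      rw [ha] at hφS ⊢
      rw [Finset.mem_singleton] at hφS
      rw [hφS]
    rw [hSeq, Finset.sum_singleton] at hcl
    rw [hcardS, mul_one] at hkey
    set s : Set G := {g | ∃ h : g ∈ K, ϑ ⟨g, h⟩ ≠ 0} with hs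
    set V : Subgroup G := L ⊔ Subgroup.normalClosure s with hV
    have hVn : V.Normal := inferInstance
    have hLV : L ≤ V := le_sup_left
    have hsK : s ⊆ K := fun g hg => hg.1
    have hVK : V ≤ K := sup_le hLK.le (Subgroup.normalClosure_le_normal hsK)
    rcases hchief V hVn hLV hVK with hVL | hVK'
    · -- V = L : ϑ vanishes off L
      right; left
      have hvan : ∀ k : K, ϑ k ≠ 0 → (k : G) ∈ L := by
        intro k hk
        rw [← hVL]
        apply (le_sup_right : Subgroup.normalClosure s ≤ V)
        apply Subgroup.subset_normalClosure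
        exact ⟨k.2, hk⟩
      have hall : Λ = Finset.univ := by
        rw [hΛ, Finset.filter_eq_self]
        intro β _
        funext k
        by_cases hk : ϑ k = 0
        · rw [hk, mul_zero]
        · have hkL : k ∈ L' := hvan k hk
          have : (QuotientGroup.mk k : K ⧸ L') = 1 := (QuotientGroup.eq_one_iff k).mpr hkL
          rw [this, irr_apply_one_of_comm habQ β.2, one_mul]
      have hcardΛ : Λ.card = L.relIndex K := by
        rw [hall, Finset.card_univ, ← Nat.card_eq_fintype_card, hcardQ]
      refine ⟨φ, m, hφ, hcl, ?_⟩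
      rw [← hkey, hcardΛ]
    · -- V = K
      left
      have htriv : ∀ β ∈ Λ, ∀ x : K ⧸ L', (β : K ⧸ L' → ℂ) x = 1 := by
        intro β hβ x
        obtain ⟨k, rfl⟩ := QuotientGroup.mk_surjective x
        rw [hΛ, Finset.mem_filter] at hβ
        have hβeq := hβ.2
        have hβc : IsCharacter (K ⧸ L') (β : K ⧸ L' → ℂ) := isCharacter_of_irr β.2
        have hβ1 : (β : K ⧸ L' → ℂ) 1 = 1 := irr_apply_one_of_comm habQ β.2
        let M : Subgroup G :=
          { carrier := {g | ∃ h : g ∈ K, (β : K ⧸ L' → ℂ) (QuotientGroup.mk (⟨g, h⟩ : K)) = 1}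
            mul_mem' := by
              rintro a b ⟨ha, ha1⟩ ⟨hb, hb1⟩
              refine ⟨K.mul_mem ha hb, ?_⟩
              have : (QuotientGroup.mk (⟨a * b, K.mul_mem ha hb⟩ : K) : K ⧸ L') =
                QuotientGroup.mk (⟨a, ha⟩ : K) * QuotientGroup.mk (⟨b, hb⟩ : K) := rfl
              rw [this, char_deg_one_mul hβc hβ1, ha1, hb1, one_mul]
            one_mem' := ⟨K.one_mem, hβ1⟩
            inv_mem' := by
              rintro a ⟨ha, ha1⟩
              refine ⟨K.inv_mem ha, ?_⟩
              have h := char_deg_one_inv_mul hβc hβ1 (QuotientGroup.mk (⟨a, ha⟩ : K))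
              rw [ha1, mul_one] at h
              exact h }
        have hsM : s ⊆ M := by
          rintro g ⟨hgK, hg⟩
          refine ⟨hgK, ?_⟩
          have := congrFun hβeq ⟨g, hgK⟩
          exact mul_right_cancel₀ hg (by rw [this, one_mul])
        have hLM : L ≤ M := by
          intro g hg
          refine ⟨hLK.le hg, ?_⟩
          have : (QuotientGroup.mk (⟨g, hLK.le hg⟩ : K) : K ⧸ L') = 1 :=
            (QuotientGroup.eq_one_iff _).mpr hg
          rw [this, hβ1]
        have hncM : Subgroup.normalClosure s ≤ M := by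
          rw [Subgroup.normalClosure, Subgroup.closure_le]
          intro x hx
          rw [Group.mem_conjugatesOfSet_iff] at hx
          obtain ⟨a, ha, hax⟩ := hx
          apply hsM
          rw [isConj_iff] at hax
          obtain ⟨c, rfl⟩ := hax
          obtain ⟨haK, ha0⟩ := ha
          refine ⟨hK.conj_mem a haK c, ?_⟩
          rw [hinv c ⟨a, haK⟩]
          exact ha0
        have hVM : V ≤ M := sup_le hLM hncM
        have hkV : (k : G) ∈ V := by
          rw [hVK']
          exact k.2
        have hk : (k : G) ∈ M := hVM hkV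
        obtain ⟨_, h⟩ := hk
        exact h
      have hΛ1 : Λ.card ≤ 1 := by
        rw [Finset.card_le_one]
        intro β hβ β' hβ'
        apply Subtype.ext
        funext x
        rw [htriv β hβ x, htriv β' hβ' x]
      have hm1 : m = 1 := by
        have h2 : m ^ 2 ≤ 1 := by rw [← hkey]; exact hΛ1
        have h3 : m ≤ 1 := by nlinarith
        omega
      have : r = φ := by
        rw [hcl, hm1]
        simp
      rw [this]
      exact hφ

end Cfsg.Agent.S0857
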