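import Cfsg.Statements.S0858
import Cfsg.Agent.Lib.Helper84.RelMGroup
import Cfsg.Agent.Lib.Helper80.Monomial

set_option autoImplicit false
open Cfsg

namespace Cfsg.Agent.S0858

/-- Let N be a normal subgroup of the finite group G with G / N solvable, and suppose that for every subgroup H containing N and all subgroups L < K between N and H that are normal in H with no subgroup normal in H strictly between them, the index of L in K is not a perfect square. Then every irreducible character χ of G is induced from an irreducible character ψ of some subgroup H containing N such that the restriction of ψ to N is irreducible. -/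
theorem result {G : Type*} [Group G] [Fintype G] (N : Subgroup G) [N.Normal] (hsolv : Group.IsSolvable (G ⧸ N)) (hchief : ∀ (H K L : Subgroup G), N ≤ L → L < K → K ≤ H → (∀ h ∈ H, ∀ k ∈ K, h * k * h⁻¹ ∈ K) → (∀ h ∈ H, ∀ l ∈ L, h * l * h⁻¹ ∈ L) → (∀ M : Subgroup G, L ≤ M → M ≤ K → (∀ h ∈ H, ∀ m ∈ M, h * m * h⁻¹ ∈ M) → M = L ∨ M = K) → ¬ IsSquare (L.relIndex K)) (χ : G → ℂ) (hχ : Cfsg.IsIrrCharacter G χ) : ∃ (H : Subgroup G) (hNH : N ≤ H) (ψ : H → ℂ), Cfsg.IsIrrCharacter H ψ ∧ Cfsg.indFun H ψ = χ ∧ Cfsg.IsIrrCharacter N (fun n : N => ψ ⟨(n : G), hNH n.2⟩) := by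
  classical
  -- the subgroups from which χ is induced
  let S : Finset (Subgroup G) := Finset.univ.filter
    (fun H => N ≤ H ∧ ∃ ψ : H → ℂ, Cfsg.IsIrrCharacter H ψ ∧ Cfsg.indFun H ψ = χ)
  have hχcl := Cfsg.Agent.Lib.Helper83.char_isClassFunction
    (Cfsg.Agent.Lib.Helper83.isCharacter_of_irr hχ)
  have hSne : S.Nonempty := by
    refine ⟨⊤, Finset.mem_filter.mpr ⟨Finset.mem_univ _, le_top, fun k : (⊤ : Subgroup G) => χ k,
      Cfsg.Agent.Lib.Helper84.isIrrCharacter_restrict_top hχ, ?_⟩⟩
    funext g
    rw [Cfsg.Agent.Lib.Helper80.indFun_of_forall_mem ⊤ (fun g => Subgroup.mem_top g)]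
    intro x y
    exact hχcl x y
  obtain ⟨H, hHS, hHmin⟩ := Finset.exists_min_image S (fun H => Nat.card H) hSne
  obtain ⟨-, hNH, ψ, hψ, hind⟩ := Finset.mem_filter.mp hHS
  refine ⟨H, hNH, ψ, hψ, hind, ?_⟩
  have : Fintype H := Fintype.ofFinite _
  have : Fintype (N.subgroupOf H) := Fintype.ofFinite _
  have hMn : (N.subgroupOf H).Normal := inferInstance
  -- solvability of H / (N ∩ H)
  have hsolvH : Group.IsSolvable (↥H ⧸ N.subgroupOf H) := by
    have hle : N.subgroupOf H ≤ N.comap H.subtype := le_refl _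
    have hinj : Function.Injective (QuotientGroup.map (N.subgroupOf H) N H.subtype hle) := by
      rw [injective_iff_map_eq_one]
      intro x hx
      obtain ⟨h, rfl⟩ := QuotientGroup.mk_surjective x
      rw [QuotientGroup.map_mk, QuotientGroup.eq_one_iff] at hx
      rw [QuotientGroup.eq_one_iff]
      exact Subgroup.mem_subgroupOf.mpr hx
    exact Group.isSolvable_of_isSolvable_injective hinj
  -- chief factors
  have hchiefH : ∀ K' L' : Subgroup H, K'.Normal → L'.Normal → N.subgroupOf H ≤ L' → L' < K' →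
      (∀ X : Subgroup H, X.Normal → L' ≤ X → X ≤ K' → X = L' ∨ X = K') →
      ¬ IsSquare (L'.relIndex K') := by
    intro K' L' hK' hL' hML' hLK' hch'
    have hinjH : Function.Injective H.subtype := H.subtype_injective
    have hmem : ∀ (Y : Subgroup H) (x : G) (hx : x ∈ H), x ∈ Y.map H.subtype ↔ (⟨x, hx⟩ : H) ∈ Y := by
      intro Y x hx
      constructor
      · rintro ⟨y, hy, hyx⟩
        have : y = ⟨x, hx⟩ := Subtype.ext hyx
        rw [← this]; exact hy
      · intro h
        exact ⟨⟨x, hx⟩, h, rfl⟩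
    have hnormmap : ∀ Y : Subgroup H, Y.Normal → ∀ h ∈ H, ∀ y ∈ Y.map H.subtype,
        h * y * h⁻¹ ∈ Y.map H.subtype := by
      intro Y hY h hh y hy
      have hyH : y ∈ H := Subgroup.map_subtype_le Y hy
      rw [hmem Y _ (H.mul_mem (H.mul_mem hh hyH) (H.inv_mem hh))]
      have := hY.conj_mem ⟨y, hyH⟩ ((hmem Y y hyH).mp hy) ⟨h, hh⟩
      exact this
    have h := hchief H (K'.map H.subtype) (L'.map H.subtype)
      (by
        intro n hn
        rw [hmem L' n (hNH hn)]
        exact hML' (Subgroup.mem_subgroupOf.mpr hn))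
      (lt_of_le_of_ne (Subgroup.map_mono hLK'.le)
        (fun h => hLK'.ne (Subgroup.map_injective hinjH h)))
      (Subgroup.map_subtype_le K')
      (hnormmap K' hK') (hnormmap L' hL')
      (by
        intro Mx hLM hMK hMinv
        have hMH : Mx ≤ H := hMK.trans (Subgroup.map_subtype_le K')
        have hXn : (Mx.subgroupOf H).Normal := by
          constructor
          intro n hn g
          rw [Subgroup.mem_subgroupOf] at hn ⊢
          exact hMinv g g.2 n hn
        have hLX : L' ≤ Mx.subgroupOf H := by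
          intro x hx
          rw [Subgroup.mem_subgroupOf]
          exact hLM ((hmem L' x x.2).mpr hx)
        have hXK : Mx.subgroupOf H ≤ K' := by
          intro x hx
          rw [Subgroup.mem_subgroupOf] at hx
          exact (hmem K' x x.2).mp (hMK hx)
        rcases hch' _ hXn hLX hXK with h | h
        · left
          rw [← h, Subgroup.map_subgroupOf_eq_of_le hMH]
        · right
          rw [← h, Subgroup.map_subgroupOf_eq_of_le hMH])
    rwa [Subgroup.relIndex_map_map_of_injective L' K' hinjH] at h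
  -- relative primitivity
  have hprimH : ∀ (I : Subgroup H) (ψ' : I → ℂ), N.subgroupOf H ≤ I → Cfsg.IsIrrCharacter I ψ' →
      Cfsg.indFun I ψ' = ψ → I = ⊤ := by
    intro I ψ' hMI hψ' hindI
    have hinjH : Function.Injective H.subtype := H.subtype_injective
    let e : I ≃* I.map H.subtype := I.equivMapOfInjective H.subtype hinjH
    have hψ₀ : Cfsg.IsIrrCharacter (I.map H.subtype)
        (fun h => ψ' (Cfsg.Agent.Lib.Helper80.mapSubtypeHom H I h)) := by
      have h1 := Cfsg.Agent.Lib.Helper84.isIrrCharacter_comp_mulEquiv e.symm hψ'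
      have h2 : (fun h => ψ' (e.symm h)) =
          fun h => ψ' (Cfsg.Agent.Lib.Helper80.mapSubtypeHom H I h) := by
        funext h
        congr 1
        apply e.injective
        rw [MulEquiv.apply_symm_apply]
        apply Subtype.ext
        rfl
      rw [← h2]; exact h1
    have hI₀S : I.map H.subtype ∈ S := by
      refine Finset.mem_filter.mpr ⟨Finset.mem_univ _, ?_, _, hψ₀, ?_⟩
      · intro n hn
        exact ⟨⟨n, hNH hn⟩, hMI (Subgroup.mem_subgroupOf.mpr hn), rfl⟩
      · rw [← Cfsg.Agent.Lib.Helper80.indFun_indFun_subtype H I ψ', hindI, hind]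
    have hcard := hHmin _ hI₀S
    have hcard2 : Nat.card (I.map H.subtype) = Nat.card I := (Nat.card_congr e.toEquiv).symm
    rw [hcard2] at hcard
    exact Subgroup.eq_top_of_le_card I hcard
  have hA := Cfsg.Agent.Lib.Helper84.irr_restrict_of_rel_primitive (N.subgroupOf H) hsolvH hchiefH
    ψ hψ hprimH
  have hB := Cfsg.Agent.Lib.Helper84.isIrrCharacter_comp_mulEquiv
    (Subgroup.subgroupOfEquivOfLe hNH).symm hA
  exact hB

end Cfsg.Agent.S0858
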