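import Cfsg.Statements.S0859
-- import your own Cfsg.Agent.* helpers here
import Cfsg.Agent.Lib.Helper84.MonomialRestrict

set_option autoImplicit false
open Cfsg

namespace Cfsg.Agent.S0859

open Cfsg.Agent.Lib.Helper83 Cfsg.Agent.Lib.Helper84 Cfsg.Agent.Lib.Helper80

/-- Let G be a finite solvable group and N a normal subgroup such that for every prime p every Sylow p-subgroup of N is abelian. Suppose every irreducible character of G is induced from an irreducible character of some subgroup containing N whose restriction to N is irreducible. Then every irreducible character of G is induced from a character of degree 1 of some subgroup. -/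
theorem result {G : Type*} [Group G] [Fintype G] [Group.IsSolvable G] (N : Subgroup G) [N.Normal] (hab : ∀ (p : ℕ) [Fact p.Prime] (P : Sylow p N), ∀ a ∈ P, ∀ b ∈ P, a * b = b * a) (hrel : ∀ χ : G → ℂ, Cfsg.IsIrrCharacter G χ → ∃ (H : Subgroup G) (hNH : N ≤ H) (ψ : H → ℂ), Cfsg.IsIrrCharacter H ψ ∧ Cfsg.indFun H ψ = χ ∧ Cfsg.IsIrrCharacter N (fun n : N => ψ ⟨(n : G), hNH n.2⟩)) (χ : G → ℂ) (hχ : Cfsg.IsIrrCharacter G χ) : ∃ (U : Subgroup G) (lam : U → ℂ), Cfsg.IsCharacter U lam ∧ lam 1 = 1 ∧ Cfsg.indFun U lam = χ := by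
  classical
  obtain ⟨H, hNH, ψ, hψ, hind, hψN⟩ := hrel χ hχ
  have : Fintype H := Fintype.ofFinite _
  have : Group.IsSolvable H := Group.isSolvable_of_isSolvable_injective H.subtype_injective
  have hN' : (N.subgroupOf H).Normal := Subgroup.Normal.subgroupOf inferInstance H
  have habN : AbSyl N := fun p _ P => hab p P
  have habD : AbSyl (N.subgroupOf H) :=
    habN.of_injective (Subgroup.subgroupOfEquivOfLe hNH).toMonoidHom
      (Subgroup.subgroupOfEquivOfLe hNH).injective
  have hψD : IsIrrCharacter (N.subgroupOf H) (fun x : N.subgroupOf H => ψ x.1) := by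
    have h1 := isIrrCharacter_comp_mulEquiv (Subgroup.subgroupOfEquivOfLe hNH) hψN
    have h2 : (fun x : N.subgroupOf H =>
        (fun n : N => ψ ⟨(n : G), hNH n.2⟩) ((Subgroup.subgroupOfEquivOfLe hNH) x)) =
        fun x : N.subgroupOf H => ψ x.1 := by
      funext x
      simp only
      congr 1
    rw [h2] at h1
    exact h1
  have hmon := monomial_of_restrict_irr (N.subgroupOf H) habD hψ hψD
  have hmonG := isMonomialChar_induce H hmon
  rw [hind] at hmonG
  obtain ⟨U, lam, hlam⟩ := hmonG
  refine ⟨U, fun h => ((lam h : ℂˣ) : ℂ), isCharacter_of_hom lam, by simp, hlam.symm⟩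


end Cfsg.Agent.S0859
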