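import Cfsg.Statements.S0539
import Cfsg.Agent.Lib.Helper13.Basic
import Cfsg.Agent.Lib.Helper13.Wielandt

set_option autoImplicit false
open Pointwise
open Cfsg

namespace Cfsg.Agent.S0539

open Cfsg.Agent.Lib.Helper13

lemma key {G : Type*} [Group G] [Finite G] (S S₀ : Set (Subgroup G))
    (hconj : ∀ U ∈ S, ∀ g : G, MulAut.conj g • U ∈ S) (h₀ : S₀ ⊆ S)
    (hex : ∃ X ∈ S, ¬ X ≤ sSup S₀) (L : Subgroup G) (hL : L.IsSubnormal) :
    sSup S₀ ≤ L → (∀ X ∈ S, X ≤ L → X ≤ sSup S₀) →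
    ∃ X ∈ S, ¬ X ≤ sSup S₀ ∧ X ≤ Subgroup.normalizer ((sSup S₀ : Subgroup G) : Set G) := by
  induction hL with
  | top =>
    intro _ hall
    obtain ⟨X, hX, hXJ⟩ := hex
    exact absurd (hall X hX le_top) hXJ
  | step L K hLK hK hN ih =>
    intro hJL hall
    by_cases hK' : ∀ X ∈ S, X ≤ K → X ≤ sSup S₀
    · exact ih (hJL.trans hLK) hK'
    · push Not at hK'
      obtain ⟨X, hXS, hXK, hXJ⟩ := hK'
      refine ⟨X, hXS, hXJ, ?_⟩
      have hKn : K ≤ Subgroup.normalizer (L : Set G) :=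
        (Subgroup.normal_subgroupOf_iff_le_normalizer hLK).mp hN
      have h1 : ∀ y ∈ X, ∀ U ∈ S₀, MulAut.conj y • U ≤ sSup S₀ := by
        intro y hy U hU
        apply hall _ (hconj U (h₀ hU) y)
        have h2 : MulAut.conj y • L = L :=
          (mem_normalizer_iff_conj_smul L y).mp (hKn (hXK hy))
        rw [← h2]
        exact Subgroup.pointwise_smul_le_pointwise_smul_iff.mpr ((le_sSup hU).trans hJL)
      intro x hx
      rw [mem_normalizer_iff_conj_smul]
      apply conj_smul_eq_of_le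
      apply sSup_le
      intro U hU
      rw [Subgroup.subset_pointwise_smul_iff, ← map_inv]
      exact h1 x⁻¹ (X.inv_mem hx) U hU

/-- Let S be a family of subnormal subgroups of a finite group that is closed under conjugation, and S₀ a proper subfamily. Then some member of S not in S₀ normalizes the join of S₀. -/
theorem result {G : Type*} [Group G] [Finite G] (S S₀ : Set (Subgroup G)) (hS : ∀ U ∈ S, U.IsSubnormal) (hconj : ∀ U ∈ S, ∀ g : G, MulAut.conj g • U ∈ S) (h₀ : S₀ ⊂ S) : ∃ X ∈ S, X ∉ S₀ ∧ X ≤ Subgroup.normalizer ((sSup S₀ : Subgroup G) : Set G) := by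
  have hJ : (sSup S₀ : Subgroup G).IsSubnormal :=
    isSubnormal_sSup S₀ (fun U hU => hS U (h₀.subset hU))
  by_cases hex : ∃ X ∈ S, ¬ X ≤ sSup S₀
  · obtain ⟨X, hXS, hXJ, hXn⟩ := key S S₀ hconj h₀.subset hex _ hJ le_rfl (fun X _ h => h)
    exact ⟨X, hXS, fun h => hXJ (le_sSup h), hXn⟩
  · push Not at hex
    obtain ⟨X, hXS, hX0⟩ := Set.exists_of_ssubset h₀
    exact ⟨X, hXS, hX0, (hex X hXS).trans Subgroup.le_normalizer⟩

end Cfsg.Agent.S0539
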