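import Cfsg.Statements.S0549
import Mathlib

set_option autoImplicit false
open Cfsg

namespace Cfsg.Agent.S0549

lemma sup_eq_top_of_normal {G : Type*} [Group G] (U : Subgroup G) (hU : IsCoatom U)
    (hcore : U.normalCore = ⊥) (K : Subgroup G) [K.Normal] (hK : K ≠ ⊥) : K ⊔ U = ⊤ := by
  have h1 : ¬ K ≤ U := by
    intro h
    have := Subgroup.normal_le_normalCore.mpr h
    rw [hcore] at this
    exact hK (le_bot_iff.mp this)
  by_contra hne
  have h2 : U < K ⊔ U := lt_of_le_of_ne le_sup_right (fun h => h1 (h ▸ le_sup_left))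
  exact hne (hU.2 _ h2)

/-- Let U be a maximal subgroup of a finite group G whose normal core is trivial, and N a nontrivial normal subgroup with centralizer C. Then C ∩ U = 1, and either C = 1 or C is a minimal normal subgroup of G. -/
theorem result {G : Type*} [Group G] [Finite G] (U : Subgroup G) (hU : IsCoatom U) (hcore : U.normalCore = ⊥) (N : Subgroup G) [N.Normal] (hN : N ≠ ⊥) : Subgroup.centralizer (N : Set G) ⊓ U = ⊥ ∧ (Subgroup.centralizer (N : Set G) = ⊥ ∨ (Subgroup.centralizer (N : Set G) ≠ ⊥ ∧ ∀ K : Subgroup G, K.Normal → K ≤ Subgroup.centralizer (N : Set G) → K = ⊥ ∨ K = Subgroup.centralizer (N : Set G))) := by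
  have hCn : (Subgroup.centralizer (N : Set G)).Normal := inferInstance
  have hNU : N ⊔ U = ⊤ := sup_eq_top_of_normal U hU hcore N hN
  have hCU : Subgroup.centralizer (N : Set G) ⊓ U = ⊥ := by
    have hle : N ⊔ U ≤ Subgroup.normalizer ((Subgroup.centralizer (N : Set G) ⊓ U : Subgroup G) : Set G) := by
      apply sup_le
      · intro n hn
        rw [Subgroup.mem_normalizer_iff]
        intro x
        constructor
        · intro hx
          have : n * x * n⁻¹ = x := by
            have := hx.1 n hn
            rw [mul_inv_eq_iff_eq_mul]; exact this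
          rw [this]; exact hx
        · intro hx
          have h1 : n * x * n⁻¹ * n = n * (n * x * n⁻¹) := (hx.1 n hn).symm
          have h2 : n * x * n⁻¹ = x := by
            have : n * x = n * (n * x * n⁻¹) := by rw [← h1]; group
            exact (mul_left_cancel this).symm
          rw [h2] at hx; exact hx
      · intro u hu
        rw [Subgroup.mem_normalizer_iff]
        intro x
        constructor
        · intro hx
          exact ⟨hCn.conj_mem x hx.1 u, U.mul_mem (U.mul_mem hu hx.2) (U.inv_mem hu)⟩
        · intro hx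
          have h1 : u⁻¹ * (u * x * u⁻¹) * u⁻¹⁻¹ ∈ Subgroup.centralizer (N : Set G) := hCn.conj_mem _ hx.1 u⁻¹
          have h2 : u⁻¹ * (u * x * u⁻¹) * u⁻¹⁻¹ ∈ U := U.mul_mem (U.mul_mem (U.inv_mem hu) hx.2) (U.inv_mem (U.inv_mem hu))
          have h3 : u⁻¹ * (u * x * u⁻¹) * u⁻¹⁻¹ = x := by group
          rw [h3] at h1 h2
          exact ⟨h1, h2⟩
    rw [hNU, top_le_iff, Subgroup.normalizer_eq_top_iff] at hle
    have h1 : Subgroup.centralizer (N : Set G) ⊓ U ≤ U.normalCore :=
      (Subgroup.normal_le_normalCore (hN := hle)).mpr inf_le_right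
    rw [hcore] at h1
    exact le_bot_iff.mp h1
  refine ⟨hCU, ?_⟩
  by_cases hC : Subgroup.centralizer (N : Set G) = ⊥
  · exact Or.inl hC
  · refine Or.inr ⟨hC, ?_⟩
    intro K hKn hKC
    by_cases hK : K = ⊥
    · exact Or.inl hK
    · right
      have hKU : K ⊔ U = ⊤ := sup_eq_top_of_normal U hU hcore K hK
      apply le_antisymm hKC
      intro c hc
      have hc' : c ∈ K ⊔ U := by rw [hKU]; trivial
      rw [Subgroup.mem_sup_of_normal_left] at hc'
      obtain ⟨k, hk, u, hu, rfl⟩ := hc'
      have hu' : u ∈ Subgroup.centralizer (N : Set G) ⊓ U := by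
        refine ⟨?_, hu⟩
        have : u = k⁻¹ * (k * u) := by group
        rw [this]
        exact Subgroup.mul_mem _ (Subgroup.inv_mem _ (hKC hk)) hc
      rw [hCU, Subgroup.mem_bot] at hu'
      rw [hu', mul_one]; exact hk

end Cfsg.Agent.S0549
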