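import Cfsg.Statements.S0551
import Cfsg.Agent.Lib.Helper13.Basic
import Cfsg.Agent.Lib.Helper13.PrimSolvable
import Cfsg.Agent.Lib.Helper13.QuotientLemmas
import Cfsg.Agent.Lib.Helper13.Complements

set_option autoImplicit false
open Pointwise
open Cfsg

namespace Cfsg.Agent.S0551

open Cfsg.Agent.Lib.Helper13

lemma conj_smul_le_normalizer {G : Type*} [Group G] (H K : Subgroup G)
    (h : H ≤ Subgroup.normalizer (K : Set G)) (g : G) :
    MulAut.conj g • H ≤ Subgroup.normalizer ((MulAut.conj g • K : Subgroup G) : Set G) := by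
  rintro _ ⟨x, hx, rfl⟩
  rw [mem_normalizer_iff_conj_smul]
  have h1 : MulAut.conj x • K = K := (mem_normalizer_iff_conj_smul K x).mp (h hx)
  show MulAut.conj (MulAut.conj g x) • MulAut.conj g • K = MulAut.conj g • K
  rw [MulAut.conj_apply, map_mul, map_mul, mul_smul, mul_smul, map_inv, inv_smul_smul, h1]

/-- Facts about `L ⊓ W` for a core-free maximal subgroup `W` complementing `N`. -/
lemma facts {G : Type*} [Group G] [Finite G] (N L W : Subgroup G) [N.Normal] [hLn : L.Normal]
    (hW : IsCoatom W) (hWc : W.normalCore = ⊥)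
    (hNL : N ≤ L) (hNW : N ⊓ W = ⊥) (hNWs : N ⊔ W = ⊤) (hlt : Nat.card N < Nat.card L) :
    L ⊓ W ≠ ⊥ ∧ W = Subgroup.normalizer ((L ⊓ W : Subgroup G) : Set G) := by
  have hc := card_eq_card_mul_card_inf_of_complement N L W hNL hNW hNWs
  have hne : L ⊓ W ≠ ⊥ := by
    intro h
    rw [h, Subgroup.card_bot, mul_one] at hc
    exact hlt.ne' hc
  refine ⟨hne, ?_⟩
  have h1 : W ≤ Subgroup.normalizer ((L ⊓ W : Subgroup G) : Set G) := by
    rw [Subgroup.le_normalizer_iff]
    intro w hw x hx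
    exact ⟨hLn.conj_mem x hx.1 w, W.mul_mem (W.mul_mem hw hx.2) (W.inv_mem hw)⟩
  have h2 : Subgroup.normalizer ((L ⊓ W : Subgroup G) : Set G) ≠ ⊤ := by
    intro h
    have hn : (L ⊓ W).Normal := Subgroup.normalizer_eq_top_iff.mp h
    have : L ⊓ W ≤ W.normalCore := Subgroup.normal_le_normalCore.mpr inf_le_right
    rw [hWc, le_bot_iff] at this
    exact hne this
  by_contra hcon
  exact h2 (hW.2 _ (lt_of_le_of_ne h1 hcon))

/-- In a finite solvable group all core-free maximal subgroups are conjugate. -/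
theorem result {G : Type*} [Group G] [Finite G] [Group.IsSolvable G] (U V : Subgroup G) (hU : IsCoatom U) (hV : IsCoatom V) (hUc : U.normalCore = ⊥) (hVc : V.normalCore = ⊥) : ∃ g : G, MulAut.conj g • U = V := by
  have hnon : Nontrivial G := by
    by_contra h
    rw [not_nontrivial_iff_subsingleton] at h
    exact hU.1 (Subsingleton.elim _ _)
  obtain ⟨N, hN⟩ := exists_isMinNormal (G := G)
  have hNn : N.Normal := hN.1
  obtain ⟨hCN, hNU, hNUs⟩ := coreFree_minNormal U hU hUc N hN
  obtain ⟨_, hNV, hNVs⟩ := coreFree_minNormal V hV hVc N hN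
  by_cases hNtop : N = ⊤
  · refine ⟨1, ?_⟩
    rw [hNtop, top_inf_eq] at hNU hNV
    rw [hNU, hNV]
    simp
  have hQnon : Nontrivial (G ⧸ N) := by
    rw [← not_subsingleton_iff_nontrivial]
    intro hsub
    exact hNtop (QuotientGroup.subgroup_eq_top_of_subsingleton N hsub)
  obtain ⟨L', hL'⟩ := exists_isMinNormal (G := G ⧸ N)
  have hL'n : L'.Normal := hL'.1
  set L := L'.comap (QuotientGroup.mk' N) with hLdef
  have hLn : L.Normal := hL'n.comap _
  have hNL : N ≤ L := le_comap_mk' N L'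
  have hLc : Nat.card L = Nat.card L' * Nat.card N := card_comap_mk' N L'
  obtain ⟨p, hp, hpd, hpow, hNp⟩ := hN.exists_prime
  obtain ⟨q, hq, hqd, hqpow, hL'q⟩ := hL'.exists_prime
  have hpF : Fact p.Prime := ⟨hp⟩
  have hqF : Fact q.Prime := ⟨hq⟩
  obtain ⟨a, ha⟩ := hL'q.exists_card_eq
  obtain ⟨b, hb⟩ := hNp.exists_card_eq
  have hL'1 : 1 < Nat.card L' := (Subgroup.one_lt_card_iff_ne_bot L').mpr hL'.2.1
  have hlt : Nat.card N < Nat.card L := by
    rw [hLc]; exact lt_mul_of_one_lt_left Nat.card_pos hL'1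
  -- q ≠ p
  have hqp : q ≠ p := by
    rintro rfl
    have hLp : IsPGroup q L := IsPGroup.of_card (n := a + b) (by rw [hLc, ha, hb, pow_add])
    have h1 := inf_centralizer_ne_bot q L N hLp hNp hN.2.1
    have h2 : (N ⊓ Subgroup.centralizer (L : Set G)).Normal := inferInstance
    have h3 : N ⊓ Subgroup.centralizer (L : Set G) = N := (hN.2.2 _ h2 inf_le_left).resolve_left h1
    have h4 : N ≤ Subgroup.centralizer (L : Set G) := inf_eq_left.mp h3
    have h5 : L ≤ Subgroup.centralizer (N : Set G) := by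
      rw [← Subgroup.commutator_eq_bot_iff_le_centralizer] at h4 ⊢
      rwa [Subgroup.commutator_comm]
    rw [hCN] at h5
    have h6 : L = N := le_antisymm h5 hNL
    have h7 : L' = ⊥ := by
      rw [← map_comap_mk' N L', ← hLdef, h6, QuotientGroup.map_mk'_self]
    exact hL'.2.1 h7
  obtain ⟨hUne, hUnorm⟩ := facts N L U hU hUc hNL hNU hNUs hlt
  obtain ⟨hVne, hVnorm⟩ := facts N L V hV hVc hNL hNV hNVs hlt
  have hcU := card_eq_card_mul_card_inf_of_complement N L U hNL hNU hNUs
  have hcV := card_eq_card_mul_card_inf_of_complement N L V hNL hNV hNVs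
  have hcU' : Nat.card (L ⊓ U : Subgroup G) = q ^ a := by
    rw [hLc, ha, mul_comm] at hcU
    exact (Nat.eq_of_mul_eq_mul_left Nat.card_pos hcU).symm
  have hcV' : Nat.card (L ⊓ V : Subgroup G) = q ^ a := by
    rw [hLc, ha, mul_comm] at hcV
    exact (Nat.eq_of_mul_eq_mul_left Nat.card_pos hcV).symm
  -- Sylow q-subgroups of G containing them
  obtain ⟨S, hS⟩ := (IsPGroup.of_card hcU').exists_le_sylow
  obtain ⟨S', hS'⟩ := (IsPGroup.of_card hcV').exists_le_sylow
  have key : ∀ (T : Sylow q G) (X : Subgroup G), X ≤ T → X ≤ L → Nat.card X = q ^ a →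
      (T : Subgroup G) ⊓ L = X := by
    intro T X hXT hXL hXc
    symm
    apply Subgroup.eq_of_le_of_card_ge (le_inf hXT hXL)
    have hTL : IsPGroup q ((T : Subgroup G) ⊓ L : Subgroup G) := T.isPGroup'.to_le inf_le_left
    obtain ⟨c, hc⟩ := hTL.exists_card_eq
    have hdvd : Nat.card ((T : Subgroup G) ⊓ L : Subgroup G) ∣ Nat.card L :=
      Subgroup.card_dvd_of_le inf_le_right
    rw [hc, hLc, ha, hb] at hdvd
    have hcop : Nat.Coprime (q ^ c) (p ^ b) :=
      Nat.Coprime.pow _ _ ((Nat.coprime_primes hq hp).mpr hqp)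
    have := hcop.dvd_of_dvd_mul_right hdvd
    rw [hc, hXc]
    exact Nat.le_of_dvd (pow_pos hq.pos a) this
  have hSL := key S _ hS inf_le_left hcU'
  have hS'L := key S' _ hS' inf_le_left hcV'
  obtain ⟨g, hg⟩ := MulAction.exists_smul_eq G S S'
  have hg' : MulAut.conj g • (S : Subgroup G) = S' := by
    rw [← hg]; exact Sylow.coe_subgroup_smul.symm
  have hconj : MulAut.conj g • (L ⊓ U) = L ⊓ V := by
    rw [← hSL, Subgroup.smul_inf, hg', Subgroup.Normal.conj_smul_eq_self g L, hS'L]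
  refine ⟨g, ?_⟩
  apply Subgroup.eq_of_le_of_card_ge
  · have h1 := conj_smul_le_normalizer U (L ⊓ U) hUnorm.le g
    rw [hconj, ← hVnorm] at h1
    exact h1
  · rw [card_conj_smul]
    have e1 := (isComplement'_of_normal_sup_inf N U hNUs hNU).card_mul_card
    have e2 := (isComplement'_of_normal_sup_inf N V hNVs hNV).card_mul_card
    have : Nat.card N * Nat.card V = Nat.card N * Nat.card U := e2.trans e1.symm
    exact (Nat.eq_of_mul_eq_mul_left Nat.card_pos this).le

end Cfsg.Agent.S0551
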