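import Cfsg.Statements.S0572
import Mathlib.Tactic.Group

set_option autoImplicit false
open Cfsg
open scoped commutatorElement

namespace Cfsg.Agent.S0572

variable {G : Type*} [Group G]

theorem comm_left (a3 b3 b : G) (h : b3 * b = b * b3) : ⁅a3 * b3, b⁆ = ⁅a3, b⁆ := by
  rw [commutatorElement_def, commutatorElement_def]
  calc a3 * b3 * b * (a3 * b3)⁻¹ * b⁻¹ = a3 * (b3 * b) * b3⁻¹ * a3⁻¹ * b⁻¹ := by group
    _ = a3 * b * a3⁻¹ * b⁻¹ := by rw [h]; group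

theorem comm_right (a3 b2 a2 : G) (h : a2 * a3 = a3 * a2) : ⁅a3, b2 * a2⁆ = ⁅a3, b2⁆ := by
  rw [commutatorElement_def, commutatorElement_def]
  have h' : a2 * a3⁻¹ = a3⁻¹ * a2 := by
    calc a2 * a3⁻¹ = a3⁻¹ * (a3 * a2) * a3⁻¹ := by group
      _ = a3⁻¹ * a2 := by rw [← h]; group
  calc a3 * (b2 * a2) * a3⁻¹ * (b2 * a2)⁻¹ = a3 * b2 * (a2 * a3⁻¹) * a2⁻¹ * b2⁻¹ := by group
    _ = a3 * b2 * a3⁻¹ * b2⁻¹ := by rw [h']; group

theorem conj_comm (g x y : G) : g * ⁅x, y⁆ * g⁻¹ = ⁅g * x * g⁻¹, g * y * g⁻¹⁆ := by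
  rw [commutatorElement_def, commutatorElement_def]; group

theorem conj_of_comm (a a1 : G) (h : a1 * a = a * a1) : a1 * a * a1⁻¹ = a := by
  rw [h]; group

/-- Ito: G = AB with A, B abelian implies G' abelian. -/
theorem result {G : Type*} [Group G] (A B : Subgroup G) [IsMulCommutative A] [IsMulCommutative B] (hAB : ∀ g : G, ∃ a ∈ A, ∃ b ∈ B, g = a * b) : derivedSeries G 2 = ⊥ := by
  have hA : ∀ x ∈ A, ∀ y ∈ A, x * y = y * x := by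
    intro x hx y hy
    exact congrArg Subtype.val ((IsMulCommutative.is_comm (M := A)).comm ⟨x, hx⟩ ⟨y, hy⟩)
  have hB : ∀ x ∈ B, ∀ y ∈ B, x * y = y * x := by
    intro x hx y hy
    exact congrArg Subtype.val ((IsMulCommutative.is_comm (M := B)).comm ⟨x, hx⟩ ⟨y, hy⟩)
  have hBA : ∀ g : G, ∃ b ∈ B, ∃ a ∈ A, g = b * a := by
    intro g
    obtain ⟨a, ha, b, hb, h⟩ := hAB g⁻¹
    refine ⟨b⁻¹, B.inv_mem hb, a⁻¹, A.inv_mem ha, ?_⟩
    rw [← mul_inv_rev, ← h, inv_inv]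
  set S : Set G := {g | ∃ a ∈ A, ∃ b ∈ B, ⁅a, b⁆ = g} with hS
  -- S is stable under conjugation by A and by B
  have hSA : ∀ a1 ∈ A, ∀ s ∈ S, a1 * s * a1⁻¹ ∈ S := by
    rintro a1 ha1 s ⟨a, ha, b, hb, rfl⟩
    obtain ⟨b2, hb2, a2, ha2, h⟩ := hBA (a1 * b * a1⁻¹)
    refine ⟨a, ha, b2, hb2, ?_⟩
    rw [conj_comm, conj_of_comm a a1 (hA a1 ha1 a ha), h, comm_right a b2 a2 (hA a2 ha2 a ha)]
  have hSB : ∀ b1 ∈ B, ∀ s ∈ S, b1 * s * b1⁻¹ ∈ S := by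
    rintro b1 hb1 s ⟨a, ha, b, hb, rfl⟩
    obtain ⟨a3, ha3, b3, hb3, h⟩ := hAB (b1 * a * b1⁻¹)
    refine ⟨a3, ha3, b, hb, ?_⟩
    rw [conj_comm, conj_of_comm b b1 (hB b1 hb1 b hb), h, comm_left a3 b3 b (hB b3 hb3 b hb)]
  -- key: generators commute
  have hkey : ∀ s ∈ S, ∀ s' ∈ S, s * s' = s' * s := by
    have hXY : ∀ a1 ∈ A, ∀ b1 ∈ B, ∀ a ∈ A, ∀ b ∈ B,
        a1 * (b1 * ⁅a, b⁆ * b1⁻¹) * a1⁻¹ = b1 * (a1 * ⁅a, b⁆ * a1⁻¹) * b1⁻¹ := by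
      intro a1 ha1 b1 hb1 a ha b hb
      obtain ⟨a3, ha3, b3, hb3, h3⟩ := hAB (b1 * a * b1⁻¹)
      obtain ⟨b2, hb2, a2, ha2, h2⟩ := hBA (a1 * b * a1⁻¹)
      have e1 : b1 * ⁅a, b⁆ * b1⁻¹ = ⁅a3, b⁆ := by
        rw [conj_comm, conj_of_comm b b1 (hB b1 hb1 b hb), h3, comm_left a3 b3 b (hB b3 hb3 b hb)]
      have e2 : a1 * ⁅a3, b⁆ * a1⁻¹ = ⁅a3, b2⁆ := by
        rw [conj_comm, conj_of_comm a3 a1 (hA a1 ha1 a3 ha3), h2, comm_right a3 b2 a2 (hA a2 ha2 a3 ha3)]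
      have e3 : a1 * ⁅a, b⁆ * a1⁻¹ = ⁅a, b2⁆ := by
        rw [conj_comm, conj_of_comm a a1 (hA a1 ha1 a ha), h2, comm_right a b2 a2 (hA a2 ha2 a ha)]
      have e4 : b1 * ⁅a, b2⁆ * b1⁻¹ = ⁅a3, b2⁆ := by
        rw [conj_comm, conj_of_comm b2 b1 (hB b1 hb1 b2 hb2), h3, comm_left a3 b3 b2 (hB b3 hb3 b2 hb2)]
      rw [e1, e2, e3, e4]
    rintro s ⟨a1, ha1, b1, hb1, rfl⟩ s' ⟨a, ha, b, hb, rfl⟩
    have h := hXY a1⁻¹ (A.inv_mem ha1) b1⁻¹ (B.inv_mem hb1) a ha b hb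
    rw [commutatorElement_def a1 b1]
    generalize ⁅a, b⁆ = c at h ⊢
    calc a1 * b1 * a1⁻¹ * b1⁻¹ * c
        = a1 * b1 * (a1⁻¹ * (b1⁻¹ * c * b1⁻¹⁻¹) * a1⁻¹⁻¹) * a1⁻¹ * b1⁻¹ := by group
      _ = a1 * b1 * (b1⁻¹ * (a1⁻¹ * c * a1⁻¹⁻¹) * b1⁻¹⁻¹) * a1⁻¹ * b1⁻¹ := by rw [h]
      _ = c * (a1 * b1 * a1⁻¹ * b1⁻¹) := by group
  set K : Subgroup G := Subgroup.closure S with hK
  have hSK : S ⊆ (K : Set G) := Subgroup.subset_closure
  -- S is stable under conjugation by G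
  have hSG : ∀ g : G, ∀ s ∈ S, g * s * g⁻¹ ∈ S := by
    intro g s hs
    obtain ⟨a1, ha1, b1, hb1, rfl⟩ := hAB g
    have := hSA a1 ha1 _ (hSB b1 hb1 s hs)
    have e : a1 * b1 * s * (a1 * b1)⁻¹ = a1 * (b1 * s * b1⁻¹) * a1⁻¹ := by group
    rw [e]; exact this
  have hKG : ∀ g : G, ∀ k ∈ K, g * k * g⁻¹ ∈ K := by
    intro g k hk
    induction hk using Subgroup.closure_induction with
    | mem s hs => exact hSK (hSG g s hs)
    | one => simp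
    | mul x y _ _ ihx ihy =>
      have e : g * (x * y) * g⁻¹ = (g * x * g⁻¹) * (g * y * g⁻¹) := by group
      rw [e]; exact K.mul_mem ihx ihy
    | inv x _ ihx =>
      have e : g * x⁻¹ * g⁻¹ = (g * x * g⁻¹)⁻¹ := by group
      rw [e]; exact K.inv_mem ihx
  -- the derived subgroup lies in K
  have hcomm : ∀ a ∈ A, ∀ b ∈ B, ⁅a, b⁆ ∈ K := fun a ha b hb => hSK ⟨a, ha, b, hb, rfl⟩
  have hcomm' : ∀ b ∈ B, ∀ a ∈ A, ⁅b, a⁆ ∈ K := by
    intro b hb a ha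
    have : ⁅b, a⁆ = ⁅a, b⁆⁻¹ := by
      rw [commutatorElement_def, commutatorElement_def]; group
    rw [this]; exact K.inv_mem (hcomm a ha b hb)
  have hAA : ∀ a ∈ A, ∀ a' ∈ A, ⁅a, a'⁆ = 1 := by
    intro a ha a' ha'
    rw [commutatorElement_def, hA a ha a' ha']; group
  have hBB : ∀ b ∈ B, ∀ b' ∈ B, ⁅b, b'⁆ = 1 := by
    intro b hb b' hb'
    rw [commutatorElement_def, hB b hb b' hb']; group
  have hG'K : ⁅(⊤ : Subgroup G), (⊤ : Subgroup G)⁆ ≤ K := by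
    rw [Subgroup.commutator_le]
    intro g1 _ g2 _
    obtain ⟨a, ha, b, hb, rfl⟩ := hAB g1
    obtain ⟨a', ha', b', hb', rfl⟩ := hAB g2
    -- expand
    have e1 : ⁅a * b, a' * b'⁆ = a * ⁅b, a' * b'⁆ * a⁻¹ * ⁅a, a' * b'⁆ := by
      simp only [commutatorElement_def]; group
    have e2 : ⁅b, a' * b'⁆ = ⁅b, a'⁆ * (a' * ⁅b, b'⁆ * a'⁻¹) := by
      simp only [commutatorElement_def]; group
    have e3 : ⁅a, a' * b'⁆ = ⁅a, a'⁆ * (a' * ⁅a, b'⁆ * a'⁻¹) := by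
      simp only [commutatorElement_def]; group
    rw [e1]
    apply K.mul_mem
    · apply hKG
      rw [e2, hBB b hb b' hb']
      apply K.mul_mem (hcomm' b hb a' ha')
      simp
    · rw [e3, hAA a ha a' ha', one_mul]
      exact hKG _ _ (hcomm a ha b' hb')
  -- K is commutative
  have hcent : ∀ s ∈ S, ∀ k ∈ Subgroup.closure S, k * s = s * k := by
    intro s hs k hk
    induction hk using Subgroup.closure_induction with
    | mem s' hs' => exact hkey s' hs' s hs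
    | one => simp
    | mul x y _ _ ihx ihy =>
      calc x * y * s = x * (y * s) := by group
        _ = x * (s * y) := by rw [ihy]
        _ = (x * s) * y := by group
        _ = s * x * y := by rw [ihx]
        _ = s * (x * y) := by group
    | inv x _ ihx =>
      calc x⁻¹ * s = x⁻¹ * (s * x) * x⁻¹ := by group
        _ = x⁻¹ * (x * s) * x⁻¹ := by rw [ihx]
        _ = s * x⁻¹ := by group
  have hKcomm : ⁅K, K⁆ = ⊥ := by
    rw [Subgroup.commutator_eq_bot_iff_le_centralizer, hK, Subgroup.closure_le]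
    intro s hs
    rw [SetLike.mem_coe, Subgroup.mem_centralizer_iff]
    intro k hk
    exact hcent s hs k hk
  rw [show (2 : ℕ) = 1 + 1 from rfl, derivedSeries_succ, derivedSeries_one, commutator_def]
  exact le_bot_iff.mp (hKcomm ▸ Subgroup.commutator_mono hG'K hG'K)

end Cfsg.Agent.S0572
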