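import Cfsg.Statements.S1523
-- import your own Cfsg.Agent.* helpers here
import Cfsg.Agent.Lib.Helper34.FreeOrbitSum
import Cfsg.Agent.Lib.Helper82.CharSchur
import Cfsg.Agent.Lib.Helper82.Counting

set_option autoImplicit false
open Cfsg

namespace Cfsg.Agent.S1523

open Cfsg.Agent.Lib.Helper34 Cfsg.Agent.Lib.Helper82

theorem card_filter_mem {G : Type*} [Group G] [Fintype G] (H : Subgroup G)
    [DecidablePred (fun g : G => g ∈ H)] :
    (Finset.univ.filter (fun g : G => g ∈ H)).card = Nat.card H := by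
  haveI : Fintype ↥H := Fintype.ofFinite _
  rw [Nat.card_eq_fintype_card]
  exact (Fintype.card_of_subtype _ (by simp)).symm

/-- The part of the class-sum off `L`: it is `|P| |C|` times an algebraic integer. -/
theorem sum_off {G : Type*} [Group G] [Fintype G] [DecidableEq G] (P L C : Subgroup G)
    [DecidablePred (fun g : G => g ∈ L)]
    (hPL : P ≤ L) (hCL : C ≤ L)
    (hfree : ∀ u ∈ P, ∀ c ∈ C, ∀ g : G, g ∉ L → u * g * c⁻¹ = g → u = 1 ∧ c = 1)
    (ψ : G → ℂ) (hψ : Cfsg.IsCharacter G ψ) (z y : G) (hzP : ∀ u ∈ P, z * u = u * z)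
    (hyC : ∀ c ∈ C, c * y = y * c) :
    ∃ A : ℂ, IsIntegral ℤ A ∧
      ∑ g ∈ Finset.univ.filter (fun g : G => g ∉ L), ψ (z * (g * y * g⁻¹))
       = (Nat.card P : ℂ) * (Nat.card C : ℂ) * A := by
  classical
  haveI : Fintype (↥P × ↥C) := Fintype.ofFinite _
  obtain ⟨A, hA, hsum⟩ := sum_free_action (Γ := ↥P × ↥C) (X := G)
    (fun γ g => (γ.1 : G) * g * ((γ.2 : G))⁻¹)
    (by intro x; simp)
    (by intro γ γ' x; simp [mul_assoc])
    (fun g => ψ (z * (g * y * g⁻¹)))
    (by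
      intro γ g
      obtain ⟨⟨u, hu⟩, ⟨c, hc⟩⟩ := γ
      simp only
      have e0 : c⁻¹ * y * c = y := by
        rw [mul_assoc, ← hyC c hc, ← mul_assoc, inv_mul_cancel, one_mul]
      have e1 : u * g * c⁻¹ * y * (u * g * c⁻¹)⁻¹ = u * (g * y * g⁻¹) * u⁻¹ := by
        calc u * g * c⁻¹ * y * (u * g * c⁻¹)⁻¹ = u * g * (c⁻¹ * y * c) * g⁻¹ * u⁻¹ := by group
          _ = u * (g * y * g⁻¹) * u⁻¹ := by rw [e0]; group
      rw [e1]
      have e2 : z * (u * (g * y * g⁻¹) * u⁻¹) = u * (z * (g * y * g⁻¹)) * u⁻¹ := by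
        rw [← mul_assoc, ← mul_assoc, hzP u hu]; group
      rw [e2, IsCharacter.conj_apply hψ])
    (fun g => IsCharacter.isIntegral hψ _)
    _ (Finset.univ.filter (fun g : G => g ∉ L)) rfl
    (by
      intro γ g hg
      obtain ⟨⟨u, hu⟩, ⟨c, hc⟩⟩ := γ
      simp only [Finset.mem_filter, Finset.mem_univ, true_and] at hg ⊢
      intro h
      apply hg
      have : g = u⁻¹ * (u * g * c⁻¹) * c := by group
      rw [this]
      exact L.mul_mem (L.mul_mem (L.inv_mem (hPL hu)) h) (hCL hc))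
    (by
      intro γ g hg h
      obtain ⟨⟨u, hu⟩, ⟨c, hc⟩⟩ := γ
      simp only [Finset.mem_filter, Finset.mem_univ, true_and] at hg
      simp only at h
      obtain ⟨h1, h2⟩ := hfree u hu c hc g hg h
      subst h1; subst h2
      rfl)
  refine ⟨A, hA, ?_⟩
  rw [hsum, ← Nat.card_eq_fintype_card, Nat.card_prod]
  push_cast
  ring

/-- Core of Peterfalvi (6.7). -/
theorem core {G : Type*} [Group G] [Fintype G] [DecidableEq G] (p : ℕ) [Fact p.Prime]
    (P : Sylow p G) (hTI : Cfsg.IsTISubset ((P : Subgroup G) : Set G))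
    (hodd : Odd (Nat.card (Subgroup.normalizer ((P : Subgroup G) : Set G))))
    (Z : Subgroup G) (hZP : Z ≤ P)
    (hZn : ∀ x ∈ Subgroup.normalizer ((P : Subgroup G) : Set G), ∀ z ∈ Z, x * z * x⁻¹ ∈ Z)
    (hZc : ∀ z ∈ Z, ∀ y ∈ (P : Subgroup G), z * y = y * z)
    (ψ : G → ℂ) (hψ : Cfsg.IsIrrCharacter G ψ) (a : ℂ) (ha : ∀ z ∈ Z, z ≠ 1 → ψ z = a)
    (z : G) (hz : z ∈ Z) (hz1 : z ≠ 1) :
    ∃ A : ℂ, IsIntegral ℤ A ∧ ψ 1 - a = (Nat.card (P : Subgroup G) : ℂ) * A := by
  classical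
  set L : Subgroup G := Subgroup.normalizer ((P : Subgroup G) : Set G) with hL
  set C : Subgroup G := L ⊓ Subgroup.centralizer ({z} : Set G) with hC
  have hPL : (P : Subgroup G) ≤ L := Subgroup.le_normalizer
  have hCL : C ≤ L := inf_le_left
  have hzL : z ∈ L := hPL (hZP hz)
  have hCz : ∀ c ∈ C, c * z = z * c := by
    intro c hc
    have := (Subgroup.mem_inf.mp hc).2
    rw [Subgroup.mem_centralizer_iff] at this
    exact (this z (Set.mem_singleton z)).symm
  have hCz' : ∀ c ∈ C, c * z⁻¹ = z⁻¹ * c := by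
    intro c hc
    have h1 := hCz c hc
    calc c * z⁻¹ = z⁻¹ * (z * c) * z⁻¹ := by group
      _ = z⁻¹ * (c * z) * z⁻¹ := by rw [h1]
      _ = z⁻¹ * c := by group
  have hfree : ∀ u ∈ (P : Subgroup G), ∀ c ∈ C, ∀ g : G, g ∉ L → u * g * c⁻¹ = g →
      u = 1 ∧ c = 1 := by
    intro u hu c hc g hg h
    have hcu : c = g⁻¹ * u * g := by
      calc c = g⁻¹ * (u * g * c⁻¹) * c := by rw [h]; group
        _ = g⁻¹ * u * g := by group
    have hcP : c ∈ (P : Subgroup G) := by
      -- c is a p-element of L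
      have hcL : c ∈ L := hCL hc
      obtain ⟨k, hk⟩ := (IsPGroup.iff_orderOf.mp P.2) ⟨u, hu⟩
      have hordc : orderOf c = p ^ k := by
        have h5 : orderOf (g⁻¹ * u * g) = orderOf u := by
          have := orderOf_injective (MulAut.conj g⁻¹).toMonoidHom (MulAut.conj g⁻¹).injective u
          simpa [MulAut.conj_apply] using this
        rw [hcu, h5, ← Subgroup.orderOf_mk u hu, ← hk]
      have hgp : IsPGroup p (Subgroup.zpowers c) :=
        IsPGroup.of_card (n := k) (by rw [Nat.card_zpowers, hordc])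
      have hle : Subgroup.zpowers c ≤ Subgroup.normalizer ((P : Subgroup G) : Set G) := by
        rw [Subgroup.zpowers_le]; exact hcL
      have hsup : IsPGroup p (Subgroup.zpowers c ⊔ (P : Subgroup G) : Subgroup G) :=
        IsPGroup.to_sup_of_normal_right' hgp P.2 hle
      have heq := P.is_maximal' hsup le_sup_right
      rw [← heq]
      exact Subgroup.mem_sup_left (Subgroup.mem_zpowers c)
    have hc1 : c = 1 := by
      apply hTI g hg c hcP
      rw [hcu]
      have : g * (g⁻¹ * u * g) * g⁻¹ = u := by group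
      rw [this]; exact hu
    refine ⟨?_, hc1⟩
    have : u = g * c * g⁻¹ := by rw [hcu]; group
    rw [this, hc1]; group
  have hψc := IsIrrCharacter.isCharacter hψ
  obtain ⟨A₁, hA₁, h₁⟩ := sum_off (P : Subgroup G) L C hPL hCL hfree ψ hψc z z
    (fun u hu => hZc z hz u hu) hCz
  obtain ⟨A₂, hA₂, h₂⟩ := sum_off (P : Subgroup G) L C hPL hCL hfree ψ hψc z z⁻¹
    (fun u hu => hZc z hz u hu) hCz'
  have T₁ := IsIrrCharacter.sum_mul_conj hψ z z
  have T₂ := IsIrrCharacter.sum_mul_conj hψ z z⁻¹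
  have hzinv : ψ z⁻¹ = a := ha z⁻¹ (Z.inv_mem hz) (by simpa using hz1)
  have hza : ψ z = a := ha z hz hz1
  rw [← Finset.sum_filter_add_sum_filter_not Finset.univ (fun g : G => g ∈ L), h₁, hza] at T₁
  rw [← Finset.sum_filter_add_sum_filter_not Finset.univ (fun g : G => g ∈ L), h₂, hza, hzinv] at T₂
  -- inner sums
  have I₁ : ∑ g ∈ Finset.univ.filter (fun g : G => g ∈ L), ψ (z * (g * z * g⁻¹))
      = (Nat.card L : ℂ) * a := by
    rw [← card_filter_mem L, ← nsmul_eq_mul, ← Finset.sum_const]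
    apply Finset.sum_congr rfl
    intro g hg
    simp only [Finset.mem_filter, Finset.mem_univ, true_and] at hg
    have hgz : g * z * g⁻¹ ∈ Z := hZn g hg z hz
    apply ha _ (Z.mul_mem hz hgz)
    intro h
    have h' : g * z * g⁻¹ = z⁻¹ := eq_inv_of_mul_eq_one_right h
    exact hz1 (eq_one_of_conj_eq_inv_of_odd L hodd hg hzL h')
  have I₂ : ∑ g ∈ Finset.univ.filter (fun g : G => g ∈ L), ψ (z * (g * z⁻¹ * g⁻¹))
      = (Nat.card L : ℂ) * a + (Nat.card C : ℂ) * (ψ 1 - a) := by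
    have hcong : ∀ g ∈ Finset.univ.filter (fun g : G => g ∈ L), ψ (z * (g * z⁻¹ * g⁻¹))
        = a + (if g ∈ C then (ψ 1 - a) else 0) := by
      intro g hg
      simp only [Finset.mem_filter, Finset.mem_univ, true_and] at hg
      by_cases hgC : g ∈ C
      · rw [if_pos hgC]
        have : z * (g * z⁻¹ * g⁻¹) = 1 := by
          rw [hCz' g hgC]; group
        rw [this]; ring
      · rw [if_neg hgC, add_zero]
        have hgz : g * z⁻¹ * g⁻¹ ∈ Z := hZn g hg z⁻¹ (Z.inv_mem hz)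
        apply ha _ (Z.mul_mem hz hgz)
        intro h
        apply hgC
        refine Subgroup.mem_inf.mpr ⟨hg, ?_⟩
        rw [Subgroup.mem_centralizer_iff]
        intro x hx
        rw [Set.mem_singleton_iff] at hx
        rw [hx]
        have h3 : g * z⁻¹ * g⁻¹ = z⁻¹ := eq_inv_of_mul_eq_one_right h
        have h4 : g * z * g⁻¹ = z := by
          have : g * z * g⁻¹ = (g * z⁻¹ * g⁻¹)⁻¹ := by group
          rw [this, h3, inv_inv]
        calc z * g = (g * z * g⁻¹) * g := by rw [h4]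
          _ = g * z := by group
    have hfe : (Finset.univ.filter (fun g : G => g ∈ L ∧ g ∈ C)) =
        Finset.univ.filter (fun g : G => g ∈ C) := by
      apply Finset.filter_congr
      intro g _
      exact ⟨fun h => h.2, fun h => ⟨hCL h, h⟩⟩
    rw [Finset.sum_congr rfl hcong, Finset.sum_add_distrib, Finset.sum_const, nsmul_eq_mul,
      card_filter_mem L, ← Finset.sum_filter, Finset.filter_filter, Finset.sum_const, nsmul_eq_mul,
      hfe, card_filter_mem C]
  rw [I₁] at T₁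
  rw [I₂] at T₂
  have hCne : (Nat.card C : ℂ) ≠ 0 := by
    exact_mod_cast Nat.card_pos.ne'
  refine ⟨A₁ - A₂, hA₁.sub hA₂, ?_⟩
  have key : (Nat.card C : ℂ) * (ψ 1 - a) =
      (Nat.card C : ℂ) * ((Nat.card (P : Subgroup G) : ℂ) * (A₁ - A₂)) := by
    have := T₁.trans T₂.symm
    linear_combination -this
  exact mul_left_cancel₀ hCne key

/-- Let G be a finite group, p a prime, P a Sylow p-subgroup whose underlying set is a TI-subset of G, with L the set normaliser of P of odd order. Let Z ≠ ⊥ be a subgroup of P, normal in L and central in P, such that the centralisers in L of any two non-identity elements of Z have the same order. If ψ is an irreducible character of G taking the same value at all non-identity elements of Z, then for z ∈ Z, z ≠ 1, the value ψ z is an integer n with Nat.card P dividing ψ(1) − n (as integers, ψ 1 being the degree). -/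
theorem result {G : Type*} [Group G] [Finite G] (p : ℕ) [Fact p.Prime] (P : Sylow p G) (hTI : Cfsg.IsTISubset ((P : Subgroup G) : Set G)) (hodd : Odd (Nat.card (Subgroup.normalizer ((P : Subgroup G) : Set G)))) (Z : Subgroup G) (hZ1 : Z ≠ ⊥) (hZP : Z ≤ P) (hZn : ∀ x ∈ Subgroup.normalizer ((P : Subgroup G) : Set G), ∀ z ∈ Z, x * z * x⁻¹ ∈ Z) (hZc : ∀ z ∈ Z, ∀ y ∈ (P : Subgroup G), z * y = y * z) (hCL : ∀ z ∈ Z, ∀ z' ∈ Z, z ≠ 1 → z' ≠ 1 → Nat.card ↥(Subgroup.normalizer ((P : Subgroup G) : Set G) ⊓ Subgroup.centralizer ({z} : Set G)) = Nat.card ↥(Subgroup.normalizer ((P : Subgroup G) : Set G) ⊓ Subgroup.centralizer ({z'} : Set G))) (ψ : G → ℂ) (hψ : Cfsg.IsIrrCharacter G ψ) (hconst : ∀ z ∈ Z, ∀ z' ∈ Z, z ≠ 1 → z' ≠ 1 → ψ z = ψ z') (z : G) (hz : z ∈ Z) (hz1 : z ≠ 1) : ∃ n d : ℤ, ψ z = n ∧ ψ 1 = d ∧ (Nat.card (P : Subgroup G) : ℤ) ∣ d - n := by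
  classical
  haveI : Fintype G := Fintype.ofFinite G
  have hψc := Cfsg.Agent.Lib.Helper82.IsIrrCharacter.isCharacter hψ
  set a := ψ z with ha
  have hconst' : ∀ w ∈ Z, w ≠ 1 → ψ w = a := fun w hw hw1 => hconst w hw z hz hw1 hz1
  haveI : Fintype ↥Z := Fintype.ofFinite _
  obtain ⟨m₀, hm₀⟩ := Cfsg.Agent.Lib.Helper82.IsCharacter.sum_subgroup hψc Z
  obtain ⟨d, hd⟩ := Cfsg.Agent.Lib.Helper82.IsCharacter.apply_one hψc
  have hsumZ : ∑ u : Z, ψ u = (Fintype.card Z : ℂ) * a + (ψ 1 - a) := by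
    have hu : ∀ u : Z, ψ u = a + (if u = 1 then (ψ 1 - a) else 0) := by
      intro u
      by_cases hu : u = 1
      · rw [if_pos hu, hu]; simp
      · rw [if_neg hu, add_zero]
        exact hconst' u u.2 (fun h => hu (Subtype.ext h))
    rw [Finset.sum_congr rfl (fun u _ => hu u), Finset.sum_add_distrib, Finset.sum_const,
      Finset.card_univ, nsmul_eq_mul, Finset.sum_ite_eq']
    simp
  have hZcard : 2 ≤ Fintype.card Z := by
    rw [← Nat.card_eq_fintype_card]
    exact (Subgroup.one_lt_card_iff_ne_bot Z).mpr hZ1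
  have haq : a = (((Fintype.card Z : ℚ) * m₀ - d) / ((Fintype.card Z : ℚ) - 1) : ℚ) := by
    have h1 : ((Fintype.card Z : ℂ) - 1) ≠ 0 := by
      intro h
      have h2 : (Fintype.card Z : ℂ) = 1 := by linear_combination h
      have h3 : Fintype.card Z = 1 := by exact_mod_cast h2
      omega
    push_cast
    rw [eq_div_iff h1]
    rw [hsumZ, hd] at hm₀
    linear_combination hm₀
  have hint : IsIntegral ℤ a := Cfsg.Agent.Lib.Helper82.IsCharacter.isIntegral hψc z
  rw [haq] at hint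
  obtain ⟨n, hn⟩ := Cfsg.Agent.Lib.Helper82.exists_int_of_isIntegral_ratCast hint
  have han : a = n := by rw [haq, hn]; simp
  obtain ⟨A, hA, hAeq⟩ := core p P hTI hodd Z hZP hZn hZc ψ hψ a hconst' z hz hz1
  have hPne : (Nat.card (P : Subgroup G) : ℂ) ≠ 0 := by exact_mod_cast Nat.card_pos.ne'
  have hAq : A = (((d : ℚ) - n) / (Nat.card (P : Subgroup G) : ℚ) : ℚ) := by
    push_cast
    rw [eq_div_iff hPne, ← hd, ← han, hAeq]; ring
  rw [hAq] at hA
  obtain ⟨k, hk⟩ := Cfsg.Agent.Lib.Helper82.exists_int_of_isIntegral_ratCast hA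
  refine ⟨n, (d : ℤ), han, by rw [hd]; simp, ⟨k, ?_⟩⟩
  have hq : ((d : ℚ) - n) = (Nat.card (P : Subgroup G) : ℚ) * k := by
    have hPq : (Nat.card (P : Subgroup G) : ℚ) ≠ 0 := by exact_mod_cast Nat.card_pos.ne'
    rw [← hk]; field_simp
  exact_mod_cast hq

end Cfsg.Agent.S1523
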