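import Cfsg.Statements.S1533
-- import your own Cfsg.Agent.* helpers here
import Cfsg.Agent.Lib.Helper34.SibleySylow
import Cfsg.Agent.Lib.Helper34.SibleySmall

set_option autoImplicit false
open Cfsg

namespace Cfsg.Agent.S1533

open Cfsg.Agent.Lib.Helper34

section Iso

variable {G : Type*} [Group G] [Fintype G] (N : Subgroup G) [Fintype N] (KN : Subgroup N)
  [hKN : KN.Normal]

/-- induction from `N` to `G` is a linear isometry on the degree-zero part of `ℤ[S]`, `S` the
irreducible characters of the Frobenius group `N` not containing the kernel `KN` in their kernel -/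
theorem iso_of_frob
    (hC : ∀ k ∈ KN, k ≠ 1 → Subgroup.centralizer ({k} : Set N) ≤ KN)
    (hiso : ∀ α β : N → ℂ, Cfsg.IsClassFunction N α → Cfsg.IsClassFunction N β →
      (∀ x : N, x ∉ KN → α x = 0) → (∀ x : N, x ∉ KN → β x = 0) → α 1 = 0 →
      Cfsg.classInner (Cfsg.indFun N α) (Cfsg.indFun N β) = Cfsg.classInner α β) :
    Cfsg.IsLinearIsometryOn (Cfsg.zspanOn {χ : N → ℂ | Cfsg.IsIrrCharacter N χ ∧
      ∃ h ∈ KN, χ h ≠ χ 1} ({1}ᶜ : Set N)) (fun α => Cfsg.indFun N α) ∧
    ∀ α ∈ Cfsg.zspanOn {χ : N → ℂ | Cfsg.IsIrrCharacter N χ ∧ ∃ h ∈ KN, χ h ≠ χ 1}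
      ({1}ᶜ : Set N), (fun α => Cfsg.indFun N α) α 1 = 0 := by
  classical
  rw [Cfsg.Agent.S1535.set_eq KN hC]
  set S : Set (N → ℂ) := Cfsg.inducedIrrAbove KN ⊥ with hSdef
  have hSirr : ∀ χ ∈ S, Cfsg.IsIrrCharacter N χ := Cfsg.Agent.S1535.irrS KN hC
  have hSrel : ∀ χ ∈ S, FrobRel KN χ := by
    rintro χ ⟨θ, hθ, hne, -, rfl⟩
    exact ind_frobRel KN hC hθ hne
  have hprop : ∀ α ∈ Cfsg.zspan S, Cfsg.IsClassFunction N α ∧ (∀ x : N, x ∉ KN → α x = 0) ∧
      Cfsg.IsGeneralizedCharacter N α := by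
    intro α hα
    refine zspan_induction (p := fun α => Cfsg.IsClassFunction N α ∧
      (∀ x : N, x ∉ KN → α x = 0) ∧ Cfsg.IsGeneralizedCharacter N α) hα ?_ ?_ ?_ ?_
    · intro χ hχ
      have hχc := Cfsg.Agent.Lib.Helper83.isCharacter_of_irr (hSirr χ hχ)
      exact ⟨Cfsg.Agent.Lib.Helper83.char_isClassFunction hχc,
        fun x hx => (hSrel χ hχ).vanish KN hC hx, IsCharacter.isGeneralizedCharacter hχc⟩
    · exact ⟨fun g x => rfl, fun x _ => rfl, isGeneralizedCharacter_zero⟩
    · rintro a b ⟨ha1, ha2, ha3⟩ ⟨hb1, hb2, hb3⟩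
      refine ⟨fun g x => ?_, fun x hx => ?_, isGeneralizedCharacter_add ha3 hb3⟩
      · show a _ + b _ = a _ + b _
        rw [ha1 g x, hb1 g x]
      · show a x + b x = 0
        rw [ha2 x hx, hb2 x hx, add_zero]
    · rintro a ⟨ha1, ha2, ha3⟩
      refine ⟨fun g x => ?_, fun x hx => ?_, isGeneralizedCharacter_neg ha3⟩
      · show -a _ = -a _
        rw [ha1 g x]
      · show -a x = 0
        rw [ha2 x hx, neg_zero]
  refine ⟨⟨fun α _ β _ => indFun_add N α β, fun α _ n => indFun_zsmul N n α, ?_, ?_⟩, ?_⟩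
  · intro α hα β hβ
    obtain ⟨hα1, hα2, -⟩ := hprop α hα.1
    obtain ⟨hβ1, hβ2, -⟩ := hprop β hβ.1
    exact hiso α β hα1 hβ1 hα2 hβ2 (mem_zspanOn_compl_one_iff.mp hα).2
  · intro α hα
    exact isGeneralizedCharacter_indFun N (hprop α hα.1).2.2
  · intro α hα
    show Cfsg.indFun N α 1 = 0
    rw [Cfsg.Agent.Lib.Helper83.indFun_one_eq, (mem_zspanOn_compl_one_iff.mp hα).2, mul_zero]

end Iso

/-- a subtype cut out by a predicate equivalent to `· = χ₀` has exactly one element -/
theorem card_subtype_eq_one {X : Type*} (q : X → Prop) (x₀ : X) (h : ∀ x, q x ↔ x = x₀) :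
    Nat.card {x // q x} = 1 := by
  rw [Nat.card_eq_one_iff_unique]
  refine ⟨⟨?_⟩, ⟨⟨x₀, (h x₀).mpr rfl⟩⟩⟩
  rintro ⟨a, ha⟩ ⟨b, hb⟩
  apply Subtype.ext
  show a = b
  rw [(h a).mp ha, (h b).mp hb]

/-- Let G be a finite group, p an odd prime, and P a nontrivial Sylow p-subgroup whose underlying set is a TI-subset of G, with P properly contained in its set normaliser N and C_G(x) ≤ P for every non-identity x ∈ P. Let S be the set of irreducible characters χ of N with χ x ≠ χ 1 for some x ∈ P. Then either S has exactly one member, P is elementary abelian and Nat.card P = [N:P] + 1; or (S, N minus 1, induction to G) is coherent. -/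
theorem result {G : Type*} [Group G] [Fintype G] (p : ℕ) [Fact p.Prime] (hp : p ≠ 2) (P : Sylow p G) (hP1 : (P : Subgroup G) ≠ ⊥) (hTI : Cfsg.IsTISubset ((P : Subgroup G) : Set G)) (hlt : (P : Subgroup G) < Subgroup.normalizer ((P : Subgroup G) : Set G)) (hC : ∀ k ∈ (P : Subgroup G), k ≠ 1 → Subgroup.centralizer ({k} : Set G) ≤ (P : Subgroup G)) [Fintype ↥(Subgroup.normalizer ((P : Subgroup G) : Set G))] : (Nat.card {χ : ↥(Subgroup.normalizer ((P : Subgroup G) : Set G)) → ℂ // Cfsg.IsIrrCharacter ↥(Subgroup.normalizer ((P : Subgroup G) : Set G)) χ ∧ ∃ x : ↥(Subgroup.normalizer ((P : Subgroup G) : Set G)), (x : G) ∈ (P : Subgroup G) ∧ χ x ≠ χ 1} = 1 ∧ Cfsg.IsElementaryAbelian p (P : Subgroup G) ∧ Nat.card (P : Subgroup G) = ((P : Subgroup G).subgroupOf (Subgroup.normalizer ((P : Subgroup G) : Set G))).index + 1) ∨ Cfsg.IsCoherent {χ : ↥(Subgroup.normalizer ((P : Subgroup G) : Set G)) → ℂ | Cfsg.IsIrrCharacter ↥(Subgroup.normalizer ((P : Subgroup G) : Set G)) χ ∧ ∃ x :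 ↥(Subgroup.normalizer ((P : Subgroup G) : Set G)), (x : G) ∈ (P : Subgroup G) ∧ χ x ≠ χ 1} {1}ᶜ (fun α => Cfsg.indFun (Subgroup.normalizer ((P : Subgroup G) : Set G)) α) := by
  classical
  have hPN : (P : Subgroup G) ≤ Subgroup.normalizer ((P : Subgroup G) : Set G) :=
    Subgroup.le_normalizer
  haveI hKN : ((P : Subgroup G).subgroupOf
      (Subgroup.normalizer ((P : Subgroup G) : Set G))).Normal := Subgroup.normal_in_normalizer
  have hKp : IsPGroup p ((P : Subgroup G).subgroupOf
      (Subgroup.normalizer ((P : Subgroup G) : Set G))) := P.isPGroup'.comap_subtype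
  have hC' := Cfsg.Agent.Lib.Helper34.frobTI_hC (P : Subgroup G) hC
  have hcardK : Nat.card ((P : Subgroup G).subgroupOf
      (Subgroup.normalizer ((P : Subgroup G) : Set G))) = Nat.card (P : Subgroup G) :=
    Cfsg.Agent.S1519.card_subgroupOf_of_le hPN
  have hK1 : (P : Subgroup G).subgroupOf (Subgroup.normalizer ((P : Subgroup G) : Set G)) ≠ ⊥ := by
    intro h
    apply hP1
    rw [Subgroup.eq_bot_iff_forall]
    intro z hz
    have h1 : (⟨z, hPN hz⟩ : ↥(Subgroup.normalizer ((P : Subgroup G) : Set G))) ∈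
        (P : Subgroup G).subgroupOf (Subgroup.normalizer ((P : Subgroup G) : Set G)) := hz
    rw [h, Subgroup.mem_bot] at h1
    exact congrArg Subtype.val h1
  have hK2 : (P : Subgroup G).subgroupOf (Subgroup.normalizer ((P : Subgroup G) : Set G)) ≠ ⊤ := by
    rw [Ne, Subgroup.subgroupOf_eq_top]
    exact not_le_of_gt hlt
  have hiso : ∀ α β : ↥(Subgroup.normalizer ((P : Subgroup G) : Set G)) → ℂ,
      Cfsg.IsClassFunction ↥(Subgroup.normalizer ((P : Subgroup G) : Set G)) α →
      Cfsg.IsClassFunction ↥(Subgroup.normalizer ((P : Subgroup G) : Set G)) β →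
      (∀ x : ↥(Subgroup.normalizer ((P : Subgroup G) : Set G)),
        x ∉ (P : Subgroup G).subgroupOf (Subgroup.normalizer ((P : Subgroup G) : Set G)) → α x = 0) →
      (∀ x : ↥(Subgroup.normalizer ((P : Subgroup G) : Set G)),
        x ∉ (P : Subgroup G).subgroupOf (Subgroup.normalizer ((P : Subgroup G) : Set G)) → β x = 0) →
      α 1 = 0 →
      Cfsg.classInner (Cfsg.indFun (Subgroup.normalizer ((P : Subgroup G) : Set G)) α)
        (Cfsg.indFun (Subgroup.normalizer ((P : Subgroup G) : Set G)) β) = Cfsg.classInner α β := by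
    intro α β hα hβ hαoff hβoff hα1
    exact Cfsg.Agent.Lib.Helper04.indFun_isometry_on_ti ((P : Subgroup G) : Set G) hTI
      (fun x hx => Subgroup.le_normalizer hx) α β hα hβ (fun x hx => hαoff x hx)
      (fun x hx => hβoff x hx) hα1
  by_cases hcard : Nat.card ((P : Subgroup G).subgroupOf
      (Subgroup.normalizer ((P : Subgroup G) : Set G))) =
      ((P : Subgroup G).subgroupOf (Subgroup.normalizer ((P : Subgroup G) : Set G))).index + 1
  · -- the small case
    left
    obtain ⟨hab, ⟨p', hp', hexp⟩, χ₀, hS⟩ := frob_small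
      ((P : Subgroup G).subgroupOf (Subgroup.normalizer ((P : Subgroup G) : Set G))) hK1
      hKp.isNilpotent hC' hcard
    refine ⟨?_, ⟨?_, ?_⟩, ?_⟩
    · apply card_subtype_eq_one _ χ₀
      intro χ
      have h1 : χ ∈ ({χ₀} : Set _) ↔ χ = χ₀ := Set.mem_singleton_iff
      rw [← h1, ← hS]
      exact Iff.rfl
    · refine ⟨⟨fun a b => Subtype.ext ?_⟩⟩
      have := hab ⟨a, hPN a.2⟩ a.2 ⟨b, hPN b.2⟩ b.2
      show (a : G) * (b : G) = (b : G) * (a : G)
      exact congrArg Subtype.val this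
    · -- exponent `p`
      have hexpG : ∀ a ∈ (P : Subgroup G), a ^ p' = 1 := by
        intro a ha
        have := hexp ⟨a, hPN ha⟩ ha
        have h2 := congrArg Subtype.val this
        simpa using h2
      obtain ⟨x, hx, hx1⟩ : ∃ x ∈ (P : Subgroup G), x ≠ 1 := by
        by_contra h
        push Not at h
        exact hP1 ((Subgroup.eq_bot_iff_forall _).mpr h)
      have hord : orderOf x = p' := by
        have h1 : orderOf x ∣ p' := orderOf_dvd_of_pow_eq_one (hexpG x hx)
        rcases (Nat.dvd_prime hp').mp h1 with h2 | h2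
        · exact absurd (orderOf_eq_one_iff.mp h2) hx1
        · exact h2
      obtain ⟨k, hk⟩ := (IsPGroup.iff_orderOf.mp P.2) ⟨x, hx⟩
      rw [Subgroup.orderOf_mk, hord] at hk
      have hpp : p' = p := by
        have h1 : p ∣ p' := by
          rcases Nat.eq_zero_or_pos k with h0 | h0
          · rw [h0, pow_zero] at hk
            exact absurd hk hp'.one_lt.ne'
          · rw [hk]
            exact dvd_pow_self p h0.ne'
        exact ((Nat.prime_dvd_prime_iff_eq (Fact.out : p.Prime) hp').mp h1).symm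
      intro a ha
      have h3 := hexpG a ha
      rwa [hpp] at h3
    · rw [← hcardK]
      exact hcard
  · -- the large case
    right
    obtain ⟨hτ, hτ1⟩ := iso_of_frob (Subgroup.normalizer ((P : Subgroup G) : Set G))
      ((P : Subgroup G).subgroupOf (Subgroup.normalizer ((P : Subgroup G) : Set G))) hC' hiso
    rcases Cfsg.Agent.S1535.result
      ((P : Subgroup G).subgroupOf (Subgroup.normalizer ((P : Subgroup G) : Set G))) hK1 hK2 hC'
      hcard _ hτ hτ1 with hcoh | ⟨p', hp', -, hnc, -⟩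
    · exact hcoh
    · apply sibley_ex_sylow p hp P ?_ hTI hlt hC
      intro hcomm
      apply hnc
      refine ⟨⟨fun a b => Subtype.ext (Subtype.ext ?_)⟩⟩
      have := hcomm.is_comm.comm (⟨((a : ↥(Subgroup.normalizer ((P : Subgroup G) : Set G))) : G), a.2⟩ :
        ↥(P : Subgroup G)) ⟨((b : ↥(Subgroup.normalizer ((P : Subgroup G) : Set G))) : G), b.2⟩
      have h2 := congrArg Subtype.val this
      show ((a : ↥(Subgroup.normalizer ((P : Subgroup G) : Set G))) : G) *
        ((b : ↥(Subgroup.normalizer ((P : Subgroup G) : Set G))) : G) =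
        ((b : ↥(Subgroup.normalizer ((P : Subgroup G) : Set G))) : G) *
        ((a : ↥(Subgroup.normalizer ((P : Subgroup G) : Set G))) : G)
      exact h2

end Cfsg.Agent.S1533
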