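import Cfsg.Statements.S1534
-- import your own Cfsg.Agent.* helpers here
import Cfsg.Agent.S1533
import Cfsg.Agent.S1535

set_option autoImplicit false
open Cfsg

namespace Cfsg.Agent.S1534
open Cfsg.Agent.Lib.Helper34


/-- a `p`-subgroup containing the centralizers of its non-identity elements is a Sylow subgroup -/
theorem sylow_of_hC {G : Type*} [Group G] [Finite G] (p : ℕ) [Fact p.Prime] (K : Subgroup G)
    (hK1 : K ≠ ⊥) (hKp : IsPGroup p K)
    (hC : ∀ k ∈ K, k ≠ 1 → Subgroup.centralizer ({k} : Set G) ≤ K) :
    ∃ P : Sylow p G, (P : Subgroup G) = K := by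
  obtain ⟨P, hKP⟩ := hKp.exists_le_sylow
  refine ⟨P, le_antisymm ?_ hKP⟩
  obtain ⟨k, hk, hk1⟩ : ∃ k ∈ K, k ≠ 1 := by
    by_contra h
    push Not at h
    exact hK1 ((Subgroup.eq_bot_iff_forall _).mpr h)
  haveI : Nontrivial (P : Subgroup G) :=
    ⟨⟨⟨k, hKP hk⟩, 1, fun h => hk1 (congrArg Subtype.val h)⟩⟩
  haveI := P.isPGroup'.center_nontrivial
  obtain ⟨⟨z, hz⟩, hz1⟩ := exists_ne (1 : Subgroup.center (P : Subgroup G))
  have hz1' : (z : G) ≠ 1 := by
    intro h
    apply hz1
    apply Subtype.ext
    apply Subtype.ext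
    exact h
  have hzK : (z : G) ∈ K := by
    apply hC k hk hk1
    rw [Subgroup.mem_centralizer_iff]
    intro c hc
    rw [Set.mem_singleton_iff] at hc
    subst hc
    have := Subgroup.mem_center_iff.mp hz ⟨c, hKP hk⟩
    exact congrArg Subtype.val this
  intro x hx
  apply hC z hzK hz1'
  rw [Subgroup.mem_centralizer_iff]
  intro c hc
  rw [Set.mem_singleton_iff] at hc
  subst hc
  have := Subgroup.mem_center_iff.mp hz ⟨x, hx⟩
  exact (congrArg Subtype.val this).symm

/-- the index of the derived subgroup is invariant under passing to `K.subgroupOf N` -/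
theorem index_commutator_subgroupOf {G : Type*} [Group G] {K N : Subgroup G} (hKN : K ≤ N) :
    (⁅K.subgroupOf N, K.subgroupOf N⁆.subgroupOf (K.subgroupOf N)).index =
      (⁅K, K⁆.subgroupOf K).index := by
  have h1 : ∀ {Q : Type _} [Group Q] (A : Subgroup Q), ⁅A, A⁆.subgroupOf A = commutator A := by
    intro Q _ A
    rw [← Subgroup.map_subtype_commutator, Subgroup.subgroupOf,
      Subgroup.comap_map_eq_self_of_injective A.subtype_injective]
  rw [h1, h1, Subgroup.index_eq_card, Subgroup.index_eq_card]
  exact Nat.card_congr (Subgroup.subgroupOfEquivOfLe hKN).abelianizationCongr.toEquiv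


/-- Let G be a finite group and K a nontrivial nilpotent subgroup whose underlying set is a TI-subset of G, properly contained in its set normaliser N, with C_G(k) ≤ K for every non-identity k ∈ K; let e be the index of K in N and S the set of irreducible characters χ of N with χ k ≠ χ 1 for some k ∈ K. Then one of: S has exactly one member, Nat.card K = e + 1 and K is an elementary abelian p-group for some prime p; or K is a Sylow 2-subgroup of G (Nat.card K is the largest power of 2 dividing Nat.card G) and [K : [K,K]] < 4e²; or (S, N minus 1, induction to G) is coherent. -/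
theorem result {G : Type*} [Group G] [Fintype G] (K : Subgroup G) (hK1 : K ≠ ⊥) (hnil : Group.IsNilpotent K) (hTI : Cfsg.IsTISubset (K : Set G)) (hlt : K < Subgroup.normalizer (K : Set G)) (hC : ∀ k ∈ K, k ≠ 1 → Subgroup.centralizer ({k} : Set G) ≤ K) [Fintype ↥(Subgroup.normalizer (K : Set G))] : (Nat.card {χ : ↥(Subgroup.normalizer (K : Set G)) → ℂ // Cfsg.IsIrrCharacter ↥(Subgroup.normalizer (K : Set G)) χ ∧ ∃ k : ↥(Subgroup.normalizer (K : Set G)), (k : G) ∈ K ∧ χ k ≠ χ 1} = 1 ∧ Nat.card K = (K.subgroupOf (Subgroup.normalizer (K : Set G))).index + 1 ∧ ∃ p : ℕ, p.Prime ∧ Cfsg.IsElementaryAbelian p K) ∨ (Nat.card K = 2 ^ (Nat.card G).factorization 2 ∧ (⁅K, K⁆.subgroupOf K).index < 4 * (K.subgroupOf (Subgroup.normalizer (K : Set G))).index ^ 2) ∨ Cfsg.IsCoherent {χ : ↥(Subgroup.normalizer (K : Set G)) → ℂ | Cfsg.IsIrrCharacter ↥(Subgroup.normalizer (K : Set G)) χ ∧ ∃ k : ↥(Subgroup.normalizer (K : Set G)), (k : G) ∈ K ∧ χ k ≠ χ 1} {1}ᶜ (fun α => Cfsg.indFun (Subgroup.normalizer (K : Set G)) α) := by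
  classical
  have hPN : K ≤ Subgroup.normalizer (K : Set G) := Subgroup.le_normalizer
  haveI hKN : (K.subgroupOf (Subgroup.normalizer (K : Set G))).Normal :=
    Subgroup.normal_in_normalizer
  have hC' := Cfsg.Agent.Lib.Helper34.frobTI_hC K hC
  have hcardK : Nat.card (K.subgroupOf (Subgroup.normalizer (K : Set G))) = Nat.card K :=
    Cfsg.Agent.S1519.card_subgroupOf_of_le hPN
  have hnil' : Group.IsNilpotent (K.subgroupOf (Subgroup.normalizer (K : Set G))) := by
    haveI := hnil
    exact Group.nilpotent_of_mulEquiv (Subgroup.subgroupOfEquivOfLe hPN).symm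
  have hK1' : K.subgroupOf (Subgroup.normalizer (K : Set G)) ≠ ⊥ := by
    intro h
    apply hK1
    rw [Subgroup.eq_bot_iff_forall]
    intro z hz
    have h1 : (⟨z, hPN hz⟩ : ↥(Subgroup.normalizer (K : Set G))) ∈
        K.subgroupOf (Subgroup.normalizer (K : Set G)) := hz
    rw [h, Subgroup.mem_bot] at h1
    exact congrArg Subtype.val h1
  have hK2' : K.subgroupOf (Subgroup.normalizer (K : Set G)) ≠ ⊤ := by
    rw [Ne, Subgroup.subgroupOf_eq_top]
    exact not_le_of_gt hlt
  have hiso : ∀ α β : ↥(Subgroup.normalizer (K : Set G)) → ℂ,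
      Cfsg.IsClassFunction ↥(Subgroup.normalizer (K : Set G)) α →
      Cfsg.IsClassFunction ↥(Subgroup.normalizer (K : Set G)) β →
      (∀ x : ↥(Subgroup.normalizer (K : Set G)),
        x ∉ K.subgroupOf (Subgroup.normalizer (K : Set G)) → α x = 0) →
      (∀ x : ↥(Subgroup.normalizer (K : Set G)),
        x ∉ K.subgroupOf (Subgroup.normalizer (K : Set G)) → β x = 0) →
      α 1 = 0 →
      Cfsg.classInner (Cfsg.indFun (Subgroup.normalizer (K : Set G)) α)
        (Cfsg.indFun (Subgroup.normalizer (K : Set G)) β) = Cfsg.classInner α β := by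
    intro α β hα hβ hαoff hβoff hα1
    exact Cfsg.Agent.Lib.Helper04.indFun_isometry_on_ti (K : Set G) hTI
      (fun x hx => Subgroup.le_normalizer hx) α β hα hβ (fun x hx => hαoff x hx)
      (fun x hx => hβoff x hx) hα1
  by_cases hcard : Nat.card (K.subgroupOf (Subgroup.normalizer (K : Set G))) =
      (K.subgroupOf (Subgroup.normalizer (K : Set G))).index + 1
  · -- the small case
    left
    obtain ⟨hab, ⟨p', hp', hexp⟩, χ₀, hS⟩ := frob_small
      (K.subgroupOf (Subgroup.normalizer (K : Set G))) hK1' hnil' hC' hcard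
    refine ⟨?_, ?_, p', hp', ⟨?_, ?_⟩⟩
    · apply Cfsg.Agent.S1533.card_subtype_eq_one _ χ₀
      intro χ
      have h1 : χ ∈ ({χ₀} : Set _) ↔ χ = χ₀ := Set.mem_singleton_iff
      rw [← h1, ← hS]
      exact Iff.rfl
    · rw [← hcardK]
      exact hcard
    · refine ⟨⟨fun a b => Subtype.ext ?_⟩⟩
      have := hab ⟨a, hPN a.2⟩ a.2 ⟨b, hPN b.2⟩ b.2
      show (a : G) * (b : G) = (b : G) * (a : G)
      exact congrArg Subtype.val this
    · intro a ha
      have := hexp ⟨a, hPN ha⟩ ha
      have h2 := congrArg Subtype.val this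
      simpa using h2
  · -- the large case
    right
    obtain ⟨hτ, hτ1⟩ := Cfsg.Agent.S1533.iso_of_frob (Subgroup.normalizer (K : Set G))
      (K.subgroupOf (Subgroup.normalizer (K : Set G))) hC' hiso
    rcases Cfsg.Agent.S1535.result
      (K.subgroupOf (Subgroup.normalizer (K : Set G))) hK1' hK2' hC'
      hcard _ hτ hτ1 with hcoh | ⟨p, hp, ⟨m, hm⟩, hnc, hidx⟩
    · right
      exact hcoh
    · haveI : Fact p.Prime := ⟨hp⟩
      rw [hcardK] at hm
      have hKp : IsPGroup p K := IsPGroup.of_card hm
      have hna : ¬ IsMulCommutative K := by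
        intro hcomm
        apply hnc
        refine ⟨⟨fun a b => Subtype.ext (Subtype.ext ?_)⟩⟩
        have := hcomm.is_comm.comm (⟨((a : ↥(Subgroup.normalizer (K : Set G))) : G), a.2⟩ : ↥K)
          ⟨((b : ↥(Subgroup.normalizer (K : Set G))) : G), b.2⟩
        have h2 := congrArg Subtype.val this
        show ((a : ↥(Subgroup.normalizer (K : Set G))) : G) *
          ((b : ↥(Subgroup.normalizer (K : Set G))) : G) =
          ((b : ↥(Subgroup.normalizer (K : Set G))) : G) *
          ((a : ↥(Subgroup.normalizer (K : Set G))) : G)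
        exact h2
      rw [index_commutator_subgroupOf hPN] at hidx
      obtain ⟨P, hPK⟩ := sylow_of_hC p K hK1 hKp hC
      by_cases hp2 : p = 2
      · left
        subst hp2
        refine ⟨?_, ?_⟩
        · rw [← hPK]
          exact P.card_eq_multiplicity
        · -- numerics
          obtain ⟨a, ha⟩ := Cfsg.Agent.S1535.relIndex_eq
            (K.subgroupOf (Subgroup.normalizer (K : Set G))) hC' ⊥ bot_le
          rw [Subgroup.relIndex_bot_left, hcardK, hm] at ha
          set e := (K.subgroupOf (Subgroup.normalizer (K : Set G))).index with he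
          have he1 : e ≠ 1 := fun h => hK2' (Subgroup.index_eq_one.mp h)
          have hm0 : m ≠ 0 := by
            intro h0
            rw [h0, pow_zero] at hm
            apply hK1
            exact Subgroup.card_eq_one.mp hm
          have hodd : Odd e := by
            rcases Nat.even_or_odd e with hev | hod
            · exfalso
              have h1 : Even (2 ^ m) := (Nat.even_pow' hm0).mpr even_two
              have h2 : Even (a * e) := hev.mul_left a
              rw [ha] at h1
              exact (Nat.not_even_iff_odd.mpr h2.add_one) h1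
            · exact hod
          have hdvd : (⁅K, K⁆.subgroupOf K).index ∣ 2 ^ m := by
            rw [← hm]
            exact Subgroup.index_dvd_card _
          obtain ⟨j, -, hj⟩ := (Nat.dvd_prime_pow Nat.prime_two).mp hdvd
          by_contra hlt'
          push Not at hlt'
          rw [hj] at hlt' hidx
          have hcase : 2 ^ j = 4 * e ^ 2 ∨ 2 ^ j = 4 * e ^ 2 + 1 := by omega
          rcases hcase with h4 | h4
          · have hed : e ∣ 2 ^ j := ⟨4 * e, by rw [h4]; ring⟩
            obtain ⟨i, -, hi⟩ := (Nat.dvd_prime_pow Nat.prime_two).mp hed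
            rcases Nat.eq_zero_or_pos i with h0 | h0
            · rw [h0, pow_zero] at hi
              exact he1 hi
            · have : Even e := by
                rw [hi]
                exact (Nat.even_pow' h0.ne').mpr even_two
              exact (Nat.not_even_iff_odd.mpr hodd) this
          · rcases Nat.eq_zero_or_pos j with h0 | h0
            · rw [h0, pow_zero] at h4
              have : e ^ 2 = 0 := by omega
              have he0 : e = 0 := by simpa using this
              rw [he0] at hodd
              exact absurd hodd (by decide)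
            · have h1 : Even (2 ^ j) := (Nat.even_pow' h0.ne').mpr even_two
              rw [h4] at h1
              have h2 : Even (4 * e ^ 2) := by
                exact Even.mul_right (by decide) _
              exact (Nat.not_even_iff_odd.mpr h2.add_one) h1
      · right
        subst hPK
        exact sibley_ex_sylow p hp2 P hna hTI hlt hC

end Cfsg.Agent.S1534
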