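import Cfsg.Statements.S1524
-- import your own Cfsg.Agent.* helpers here
import Cfsg.Agent.S1534

set_option autoImplicit false
open Cfsg

namespace Cfsg.Agent.S1524
open Cfsg.Agent.Lib.Helper34


section Frob

variable {G : Type*} [Group G] (H W₁ : Subgroup G)

/-- elements of `H ⊔ W₁` are products `h * w` when `W₁` normalizes `H` -/
theorem mem_sup_exists (hHn : ∀ x ∈ W₁, ∀ h ∈ H, x * h * x⁻¹ ∈ H) {x : G} (hx : x ∈ H ⊔ W₁) :
    ∃ h ∈ H, ∃ w ∈ W₁, x = h * w := by
  let M : Subgroup G :=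
    { carrier := {x | ∃ h ∈ H, ∃ w ∈ W₁, x = h * w}
      one_mem' := ⟨1, H.one_mem, 1, W₁.one_mem, (mul_one 1).symm⟩
      mul_mem' := by
        rintro _ _ ⟨h, hh, w, hw, rfl⟩ ⟨h', hh', w', hw', rfl⟩
        refine ⟨h * (w * h' * w⁻¹), H.mul_mem hh (hHn w hw h' hh'), w * w', W₁.mul_mem hw hw', ?_⟩
        group
      inv_mem' := by
        rintro _ ⟨h, hh, w, hw, rfl⟩
        refine ⟨w⁻¹ * h⁻¹ * w⁻¹⁻¹, hHn w⁻¹ (W₁.inv_mem hw) h⁻¹ (H.inv_mem hh), w⁻¹,
          W₁.inv_mem hw, ?_⟩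
        group }
  have hle : H ⊔ W₁ ≤ M := by
    apply sup_le
    · intro h hh
      exact ⟨h, hh, 1, W₁.one_mem, (mul_one h).symm⟩
    · intro w hw
      exact ⟨1, H.one_mem, w, hw, (one_mul w).symm⟩
  exact hle hx

/-- in a Frobenius group `H ⋊ W₁`, the centralizer of a non-identity element of the kernel lies in
the kernel -/
theorem frob_centralizer [Finite G] (hHn : ∀ x ∈ W₁, ∀ h ∈ H, x * h * x⁻¹ ∈ H)
    (hfpf : ∀ w ∈ W₁, w ≠ 1 → ∀ h ∈ H, w * h = h * w → h = 1)
    {x k : G} (hx : x ∈ H ⊔ W₁) (hk : k ∈ H) (hk1 : k ≠ 1) (hcomm : x * k = k * x) : x ∈ H := by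
  obtain ⟨h, hh, w, hw, rfl⟩ := mem_sup_exists H W₁ hHn hx
  by_cases hw1 : w = 1
  · rw [hw1, mul_one]
    exact hh
  exfalso
  -- the map `u ↦ u⁻¹ * (w u w⁻¹)` is a bijection of `H`
  let φ : H → H := fun u => ⟨(u : G)⁻¹ * (w * u * w⁻¹), H.mul_mem (H.inv_mem u.2) (hHn w hw u u.2)⟩
  have hinj : Function.Injective φ := by
    intro u v huv
    have h1 : (u : G)⁻¹ * (w * u * w⁻¹) = (v : G)⁻¹ * (w * v * w⁻¹) := congrArg Subtype.val huv
    have h2 : w * ((v : G) * (u : G)⁻¹) = ((v : G) * (u : G)⁻¹) * w := by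
      have h3 : (v : G) * ((u : G)⁻¹ * (w * u * w⁻¹)) * w * (u : G)⁻¹ =
          (v : G) * ((v : G)⁻¹ * (w * v * w⁻¹)) * w * (u : G)⁻¹ := by rw [h1]
      have h4 : (v : G) * ((u : G)⁻¹ * (w * u * w⁻¹)) * w * (u : G)⁻¹ =
          ((v : G) * (u : G)⁻¹) * w := by group
      have h5 : (v : G) * ((v : G)⁻¹ * (w * v * w⁻¹)) * w * (u : G)⁻¹ =
          w * ((v : G) * (u : G)⁻¹) := by group
      rw [← h4, ← h5, h3]
    have h6 := hfpf w hw hw1 _ (H.mul_mem v.2 (H.inv_mem u.2)) h2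
    apply Subtype.ext
    exact (mul_inv_eq_one.mp h6).symm
  have hsurj : Function.Surjective φ := Finite.injective_iff_surjective.mp hinj
  obtain ⟨u, hu⟩ := hsurj ⟨h, hh⟩
  have hu' : (u : G)⁻¹ * (w * u * w⁻¹) = h := congrArg Subtype.val hu
  have hx : h * w = (u : G)⁻¹ * w * u := by
    rw [← hu']
    group
  rw [hx] at hcomm
  have h7 : w * ((u : G) * k * (u : G)⁻¹) = ((u : G) * k * (u : G)⁻¹) * w := by
    have h8 : (u : G) * ((u : G)⁻¹ * w * u * k) * (u : G)⁻¹ =
        (u : G) * (k * ((u : G)⁻¹ * w * u)) * (u : G)⁻¹ := by rw [hcomm]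
    have h9 : (u : G) * ((u : G)⁻¹ * w * u * k) * (u : G)⁻¹ = w * ((u : G) * k * (u : G)⁻¹) := by
      group
    have h10 : (u : G) * (k * ((u : G)⁻¹ * w * u)) * (u : G)⁻¹ =
        ((u : G) * k * (u : G)⁻¹) * w := by group
    rw [← h9, ← h10, h8]
  have hconj : (u : G) * k * (u : G)⁻¹ ∈ H :=
    H.mul_mem (H.mul_mem u.2 hk) (H.inv_mem u.2)
  have h11 := hfpf w hw hw1 _ hconj h7
  apply hk1
  have : k = (u : G)⁻¹ * ((u : G) * k * (u : G)⁻¹) * (u : G) := by group
  rw [this, h11]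
  group

end Frob


/-- Let G be a finite group and H ≤ L subgroups with L of odd order, H ≠ ⊥ nilpotent and normal in L with a nontrivial complement W₁ in L (H ⊓ W₁ = ⊥, H ⊔ W₁ = L) acting on H without non-identity fixed points (L is a Frobenius group with kernel H), and suppose the underlying set of H is a TI-subset of G whose normaliser is L. Let S be the set of functions on L induced from the non-principal irreducible characters of H. Then (S, L minus 1, induction to G) is coherent. -/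
theorem result {G : Type*} [Group G] [Fintype G] (H L W₁ : Subgroup G) [Fintype L] (hodd : Odd (Nat.card L)) (hHL : H ≤ L) (hW₁L : W₁ ≤ L) (hH1 : H ≠ ⊥) (hW1 : W₁ ≠ ⊥) (hnil : Group.IsNilpotent H) (hHn : ∀ x ∈ L, ∀ h ∈ H, x * h * x⁻¹ ∈ H) (hinf : H ⊓ W₁ = ⊥) (hsup : H ⊔ W₁ = L) (hfpf : ∀ w ∈ W₁, w ≠ 1 → ∀ h ∈ H, w * h = h * w → h = 1) (hTI : Cfsg.IsTISubset (H : Set G)) (hN : Subgroup.normalizer (H : Set G) = L) : Cfsg.IsCoherent (Cfsg.inducedIrrAbove (H.subgroupOf L) ⊥) {1}ᶜ (fun α : L → ℂ => Cfsg.indFun L α) := by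
  classical
  subst hN
  have hC : ∀ k ∈ H, k ≠ 1 → Subgroup.centralizer ({k} : Set G) ≤ H := by
    intro k hk hk1 x hx
    have hxk : x * k = k * x := by
      have := (Subgroup.mem_centralizer_iff.mp hx) k (Set.mem_singleton k)
      exact this.symm
    have hxN : x ∈ Subgroup.normalizer (H : Set G) := by
      by_contra hxN
      apply hk1
      apply hTI x hxN k hk
      rw [hxk, mul_inv_cancel_right]
      exact hk
    rw [← hsup] at hxN
    exact frob_centralizer H W₁ (fun w hw h hh => hHn w (hW₁L hw) h hh) hfpf hxN hk hk1 hxk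
  have hlt : H < Subgroup.normalizer (H : Set G) := by
    refine lt_of_le_of_ne hHL ?_
    intro heq
    apply hW1
    rw [eq_bot_iff, ← hinf]
    refine le_inf ?_ le_rfl
    rw [heq]
    exact hW₁L
  have hcardK : Nat.card (H.subgroupOf (Subgroup.normalizer (H : Set G))) = Nat.card H :=
    Cfsg.Agent.S1519.card_subgroupOf_of_le hHL
  have hmul := Subgroup.card_mul_index (H.subgroupOf (Subgroup.normalizer (H : Set G)))
  rw [hcardK] at hmul
  rcases Cfsg.Agent.S1534.result H hH1 hnil hTI hlt hC with ⟨-, h1, -⟩ | ⟨h1, -⟩ | hcoh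
  · exfalso
    rw [h1] at hmul
    rw [← hmul] at hodd
    have : Even (((H.subgroupOf (Subgroup.normalizer (H : Set G))).index + 1) *
        (H.subgroupOf (Subgroup.normalizer (H : Set G))).index) := by
      rw [mul_comm]
      exact Nat.even_mul_succ_self _
    exact (Nat.not_even_iff_odd.mpr hodd) this
  · exfalso
    rw [← hmul] at hodd
    have hoddH : Odd (Nat.card H) := (Nat.odd_mul.mp hodd).1
    rw [h1] at hoddH
    rcases Nat.eq_zero_or_pos ((Nat.card G).factorization 2) with h0 | h0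
    · rw [h0, pow_zero] at h1
      exact hH1 (Subgroup.card_eq_one.mp h1)
    · have : Even (2 ^ (Nat.card G).factorization 2) := (Nat.even_pow' h0.ne').mpr even_two
      exact (Nat.not_even_iff_odd.mpr hoddH) this
  · have hC' := Cfsg.Agent.Lib.Helper34.frobTI_hC H hC
    haveI hKN : (H.subgroupOf (Subgroup.normalizer (H : Set G))).Normal :=
      Subgroup.normal_in_normalizer
    rw [← Cfsg.Agent.S1535.set_eq (H.subgroupOf (Subgroup.normalizer (H : Set G))) hC']
    exact hcoh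

end Cfsg.Agent.S1524
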