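import Cfsg.Statements.S0561
import Mathlib
import Cfsg.Agent.Lib.Helper01.Hall
import Cfsg.Agent.Lib.Helper57.CD
-- import your own Cfsg.Agent.* helpers here

set_option autoImplicit false
open Pointwise
open Cfsg

namespace Cfsg.Agent.S0561

open Cfsg.Agent.Lib.Helper01 Cfsg.Agent.Lib.Helper57

theorem mem_conj_smul {G : Type*} [Group G] (b y : G) (X : Subgroup G) :
    y ∈ (MulAut.conj b • X : Subgroup G) ↔ b⁻¹ * y * b ∈ X := by
  rw [Subgroup.mem_pointwise_smul_iff_inv_smul_mem, MulAut.smul_def, ← map_inv, MulAut.conj_apply,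
    inv_inv]

theorem conj_conj_smul {G : Type*} [Group G] (a b : G) (X : Subgroup G) :
    (MulAut.conj a • (MulAut.conj b • X : Subgroup G) : Subgroup G) = MulAut.conj (a * b) • X := by
  rw [← mul_smul, ← map_mul]

/-- If `h ∈ H` and `A` is normal in `H`, conjugation by `h` fixes `A`. -/
theorem conj_smul_eq_of_normal_subgroupOf {G : Type*} [Group G] (H A : Subgroup G) (hA : A ≤ H)
    (hAn : (A.subgroupOf H).Normal) (h : G) (hh : h ∈ H) : (MulAut.conj h • A : Subgroup G) = A := by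
  have hN : H ≤ Subgroup.normalizer (A : Set G) :=
    (Subgroup.normal_subgroupOf_iff_le_normalizer hA).mp hAn
  ext z
  rw [mem_conj_smul]
  have h1 := hN (H.inv_mem hh)
  rw [Subgroup.mem_normalizer_iff] at h1
  rw [h1 z, inv_inv]

theorem card_conj_smul' {G : Type*} [Group G] (g : G) (X : Subgroup G) :
    Nat.card ↥(MulAut.conj g • X : Subgroup G) = Nat.card ↥X := by
  exact Nat.card_congr (Subgroup.equivSMul (MulAut.conj g) X).symm.toEquiv

/-- Key: `A` and `B` lie in a common subgroup of order `lcm |A| |B|`. -/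
theorem exists_common_hall {G : Type*} [Group G] [Finite G] [Group.IsSolvable G] (H K A B : Subgroup G)
    (hHK : ∀ g : G, ∃ h ∈ H, ∃ k ∈ K, g = h * k) (hA : A ≤ H) (hAn : (A.subgroupOf H).Normal)
    (hB : B ≤ K) (hBn : (B.subgroupOf K).Normal) (hAh : (Nat.card A).Coprime A.index)
    (hBh : (Nat.card B).Coprime B.index) :
    ∃ T : Subgroup G, A ≤ T ∧ B ≤ T ∧ Nat.card T = Nat.lcm (Nat.card A) (Nat.card B) := by
  set a := Nat.card A with ha
  set b := Nat.card B with hb
  set N := Nat.card G with hN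
  have haN : a * A.index = N := A.card_mul_index
  have hbN : b * B.index = N := B.card_mul_index
  have hNpos : 0 < N := Nat.card_pos
  have hapos : 0 < a := Nat.card_pos
  have hbpos : 0 < b := Nat.card_pos
  set m := Nat.lcm a b with hm
  have hmN : m ∣ N := Nat.lcm_dvd ⟨_, haN.symm⟩ ⟨_, hbN.symm⟩
  obtain ⟨n, hn⟩ := hmN
  have hmpos : 0 < m := Nat.lcm_pos hapos hbpos
  have hcop : m.Coprime n := by
    apply Nat.coprime_of_dvd
    intro q hq hqm hqn
    have hqab : q ∣ a * b := dvd_trans hqm (Nat.lcm_dvd_mul a b)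
    rcases (Nat.Prime.dvd_mul hq).mp hqab with hqa | hqb
    · -- n ∣ A.index
      obtain ⟨c, hc⟩ := Nat.dvd_lcm_left a b
      have h1 : A.index = c * n := by
        have : a * A.index = a * (c * n) := by
          rw [haN, hn, hm, hc, mul_assoc]
        exact Nat.eq_of_mul_eq_mul_left hapos this
      have h2 : q ∣ A.index := by rw [h1]; exact dvd_mul_of_dvd_right hqn c
      have := Nat.eq_one_of_dvd_coprimes hAh hqa h2
      exact hq.ne_one this
    · obtain ⟨c, hc⟩ := Nat.dvd_lcm_right a b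
      have h1 : B.index = c * n := by
        have : b * B.index = b * (c * n) := by
          rw [hbN, hn, hm, hc, mul_assoc]
        exact Nat.eq_of_mul_eq_mul_left hbpos this
      have h2 : q ∣ B.index := by rw [h1]; exact dvd_mul_of_dvd_right hqn c
      have := Nat.eq_one_of_dvd_coprimes hBh hqb h2
      exact hq.ne_one this
  obtain ⟨-, hconj, hdom⟩ := hallProp (G := G) m n hn hcop
  have hacop : a.Coprime n := Nat.Coprime.coprime_dvd_left (Nat.dvd_lcm_left a b) hcop
  have hbcop : b.Coprime n := Nat.Coprime.coprime_dvd_left (Nat.dvd_lcm_right a b) hcop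
  obtain ⟨T₁, hT₁c, hAT₁⟩ := hdom A hacop
  obtain ⟨T₂, hT₂c, hBT₂⟩ := hdom B hbcop
  obtain ⟨g, hg⟩ := hconj T₁ T₂ hT₁c hT₂c
  -- g = k * h
  obtain ⟨h', hh', k', hk', hgk⟩ := hHK g⁻¹
  have hg' : g = k'⁻¹ * h'⁻¹ := by
    rw [← inv_inv g, hgk]; group
  refine ⟨MulAut.conj h'⁻¹ • T₁, ?_, ?_, ?_⟩
  · rw [← conj_smul_eq_of_normal_subgroupOf H A hA hAn h'⁻¹ (H.inv_mem hh')]
    exact Subgroup.pointwise_smul_le_pointwise_smul_iff.mpr hAT₁
  · have h1 : B ≤ MulAut.conj k'⁻¹ • (MulAut.conj h'⁻¹ • T₁ : Subgroup G) := by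
      rw [conj_conj_smul, ← hg', hg]; exact hBT₂
    rw [Subgroup.subset_pointwise_smul_iff, ← map_inv, inv_inv,
      conj_smul_eq_of_normal_subgroupOf K B hB hBn k' hk'] at h1
    exact h1
  · rw [card_conj_smul', hT₁c]

theorem exists_subgroup_mul {G : Type*} [Group G] [Finite G] [Group.IsSolvable G] (H K A B : Subgroup G)
    (hHK : ∀ g : G, ∃ h ∈ H, ∃ k ∈ K, g = h * k) (hA : A ≤ H) (hAn : (A.subgroupOf H).Normal)
    (hB : B ≤ K) (hBn : (B.subgroupOf K).Normal) (hAh : (Nat.card A).Coprime A.index)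
    (hBh : (Nat.card B).Coprime B.index) :
    ((A ⊔ B : Subgroup G) : Set G) = (A : Set G) * (B : Set G) := by
  obtain ⟨T, hAT, hBT, hT⟩ := exists_common_hall H K A B hHK hA hAn hB hBn hAh hBh
  apply coe_sup_eq_mul_of_card_eq
  apply le_antisymm (card_mul_card_le_sup_inf A B)
  have h1 : Nat.card ↥(A ⊔ B) ≤ Nat.lcm (Nat.card A) (Nat.card B) := by
    rw [← hT]
    exact Nat.le_of_dvd Nat.card_pos (Subgroup.card_dvd_of_le (sup_le hAT hBT))
  have h2 : Nat.card ↥(A ⊓ B) ≤ Nat.gcd (Nat.card A) (Nat.card B) := by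
    apply Nat.le_of_dvd (Nat.gcd_pos_of_pos_left _ Nat.card_pos)
    exact Nat.dvd_gcd (Subgroup.card_dvd_of_le inf_le_left) (Subgroup.card_dvd_of_le inf_le_right)
  calc Nat.card ↥(A ⊔ B) * Nat.card ↥(A ⊓ B)
      ≤ Nat.lcm (Nat.card A) (Nat.card B) * Nat.gcd (Nat.card A) (Nat.card B) :=
        Nat.mul_le_mul h1 h2
    _ = Nat.card A * Nat.card B := by rw [mul_comm, Nat.gcd_mul_lcm]


/-- Let the finite solvable group G be the product HK of subgroups, and let A be normal in H and B normal in K, where A and B are Hall subgroups of G (order coprime to index). Then for all x, y the product set of xAx⁻¹ and yBy⁻¹ is a subgroup of G. -/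
theorem result {G : Type*} [Group G] [Finite G] [Group.IsSolvable G] (H K A B : Subgroup G) (hHK : ∀ g : G, ∃ h ∈ H, ∃ k ∈ K, g = h * k) (hA : A ≤ H) (hAn : (A.subgroupOf H).Normal) (hB : B ≤ K) (hBn : (B.subgroupOf K).Normal) (hAh : (Nat.card A).Coprime A.index) (hBh : (Nat.card B).Coprime B.index) (x y : G) : ∃ S : Subgroup G, (S : Set G) = ((MulAut.conj x • A : Subgroup G) : Set G) * ((MulAut.conj y • B : Subgroup G) : Set G) := by
  -- reduction to a common conjugator
  obtain ⟨hx, hhx, kx, hkx, ex⟩ := hHK x⁻¹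
  have ex' : x = kx⁻¹ * hx⁻¹ := by rw [← inv_inv x, ex]; group
  obtain ⟨hy, hhy, ky, hky, ey⟩ := hHK y
  obtain ⟨h₁, hh₁, k₁, hk₁, e1⟩ := hHK (kx * hy)
  -- u = kx⁻¹ * h₁ = hy * k₁⁻¹
  set u := kx⁻¹ * h₁ with hu
  have hu' : u = hy * k₁⁻¹ := by
    rw [hu]
    have : h₁ = kx * hy * k₁⁻¹ := by rw [e1]; group
    rw [this]; group
  have hAu : (MulAut.conj x • A : Subgroup G) = MulAut.conj u • A := by
    rw [ex', hu, ← conj_conj_smul, ← conj_conj_smul,
      conj_smul_eq_of_normal_subgroupOf H A hA hAn hx⁻¹ (H.inv_mem hhx),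
      conj_smul_eq_of_normal_subgroupOf H A hA hAn h₁ hh₁]
  have hBu : (MulAut.conj y • B : Subgroup G) = MulAut.conj u • B := by
    rw [ey, hu', ← conj_conj_smul, ← conj_conj_smul,
      conj_smul_eq_of_normal_subgroupOf K B hB hBn ky hky,
      conj_smul_eq_of_normal_subgroupOf K B hB hBn k₁⁻¹ (K.inv_mem hk₁)]
  have hAB := exists_subgroup_mul H K A B hHK hA hAn hB hBn hAh hBh
  refine ⟨MulAut.conj u • (A ⊔ B), ?_⟩
  rw [hAu, hBu]
  ext z
  constructor
  · intro hz
    have hz' : u⁻¹ * z * u ∈ ((A ⊔ B : Subgroup G) : Set G) := (mem_conj_smul u z _).mp hz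
    rw [hAB, Set.mem_mul] at hz'
    obtain ⟨a, ha, b, hb, hab⟩ := hz'
    refine ⟨u * a * u⁻¹, ?_, u * b * u⁻¹, ?_, ?_⟩
    · apply (mem_conj_smul u _ A).mpr
      have : u⁻¹ * (u * a * u⁻¹) * u = a := by group
      rw [this]; exact ha
    · apply (mem_conj_smul u _ B).mpr
      have : u⁻¹ * (u * b * u⁻¹) * u = b := by group
      rw [this]; exact hb
    · show u * a * u⁻¹ * (u * b * u⁻¹) = z
      have : u * a * u⁻¹ * (u * b * u⁻¹) = u * (a * b) * u⁻¹ := by group
      rw [this, hab]; group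
  · rintro ⟨a', ha', b', hb', rfl⟩
    have ha'' : u⁻¹ * a' * u ∈ A := (mem_conj_smul u a' A).mp ha'
    have hb'' : u⁻¹ * b' * u ∈ B := (mem_conj_smul u b' B).mp hb'
    apply (mem_conj_smul u _ (A ⊔ B)).mpr
    have : u⁻¹ * (a' * b') * u = (u⁻¹ * a' * u) * (u⁻¹ * b' * u) := by group
    rw [this]
    exact Subgroup.mul_mem_sup ha'' hb''

end Cfsg.Agent.S0561
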