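import Cfsg.Statements.S0562
import Mathlib

set_option autoImplicit false
open Cfsg
open Pointwise

namespace Cfsg.Agent.S0562

lemma mem_normalizer_iff_conj_smul {G : Type*} [Group G] (J : Subgroup G) (g : G) :
    g ∈ Subgroup.normalizer (J : Set G) ↔ MulAut.conj g • J = J := by
  rw [Subgroup.mem_normalizer_iff_map_conj_eq]
  rfl

lemma conj_smul_eq_of_le {G : Type*} [Group G] [Finite G] (J : Subgroup G) (g : G)
    (h : J ≤ MulAut.conj g • J) : MulAut.conj g • J = J := by
  symm
  apply Subgroup.eq_of_le_of_card_ge h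
  rw [Nat.card_congr (Subgroup.equivSMul (MulAut.conj g) J).toEquiv]

lemma conj_smul_normal_of_mem {G : Type*} [Group G] (H A : Subgroup G) (hA : A ≤ H)
    (hAn : (A.subgroupOf H).Normal) (h : G) (hh : h ∈ H) : MulAut.conj h • A = A := by
  have h1 : H ≤ Subgroup.normalizer (A : Set G) :=
    (Subgroup.normal_subgroupOf_iff_le_normalizer hA).mp hAn
  exact (mem_normalizer_iff_conj_smul A h).mp (h1 hh)

/-- Let the finite group G be the product HK of subgroups, A normal in H, B normal in K, and L the normalizer of the subgroup generated by A and B. Then every element of L is a product of an element of L ∩ H and an element of L ∩ K. -/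
theorem result {G : Type*} [Group G] [Finite G] (H K A B : Subgroup G) (hHK : ∀ g : G, ∃ h ∈ H, ∃ k ∈ K, g = h * k) (hA : A ≤ H) (hAn : (A.subgroupOf H).Normal) (hB : B ≤ K) (hBn : (B.subgroupOf K).Normal) : ∀ g ∈ Subgroup.normalizer ((A ⊔ B : Subgroup G) : Set G), ∃ h ∈ Subgroup.normalizer ((A ⊔ B : Subgroup G) : Set G) ⊓ H, ∃ k ∈ Subgroup.normalizer ((A ⊔ B : Subgroup G) : Set G) ⊓ K, g = h * k := by
  intro g hg
  obtain ⟨h, hh, k, hk, rfl⟩ := hHK g
  rw [mem_normalizer_iff_conj_smul, map_mul, mul_smul] at hg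
  have hk' : MulAut.conj k • (A ⊔ B) = (MulAut.conj h)⁻¹ • (A ⊔ B) := by
    rw [← hg, inv_smul_smul, hg]
  have hkB : MulAut.conj k • B = B := conj_smul_normal_of_mem K B hB hBn k hk
  have hhA : (MulAut.conj h)⁻¹ • A = A := by
    rw [← map_inv]
    exact conj_smul_normal_of_mem H A hA hAn h⁻¹ (H.inv_mem hh)
  have h1 : B ≤ MulAut.conj k • (A ⊔ B) := by
    rw [Subgroup.smul_sup, hkB]; exact le_sup_right
  have h2 : A ≤ MulAut.conj k • (A ⊔ B) := by
    rw [hk', Subgroup.smul_sup, hhA]; exact le_sup_left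
  have h3 : MulAut.conj k • (A ⊔ B) = A ⊔ B := conj_smul_eq_of_le _ _ (sup_le h2 h1)
  have h4 : MulAut.conj h • (A ⊔ B) = A ⊔ B := by
    rw [h3] at hg; exact hg
  refine ⟨h, ⟨(mem_normalizer_iff_conj_smul _ _).mpr h4, hh⟩, k, ⟨(mem_normalizer_iff_conj_smul _ _).mpr h3, hk⟩, rfl⟩

end Cfsg.Agent.S0562
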