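import Cfsg.Statements.S0566
import Mathlib
-- import your own Cfsg.Agent.* helpers here

set_option autoImplicit false
open Pointwise
open Cfsg

namespace Cfsg.Agent.S0566

/-- `X` and `C` permute elementwise: `C * X ⊆ X * C`. -/
def Prm {G : Type*} [Group G] (X C : Subgroup G) : Prop :=
  ∀ c ∈ C, ∀ a ∈ X, ∃ a' ∈ X, ∃ c' ∈ C, c * a = a' * c'

theorem prm_of_subgroup {G : Type*} [Group G] (X C S : Subgroup G)
    (hS : (S : Set G) = (X : Set G) * (C : Set G)) : Prm X C := by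
  intro c hc a ha
  have h1 : a⁻¹ * c⁻¹ ∈ (S : Set G) := by
    rw [hS]; exact Set.mul_mem_mul (X.inv_mem ha) (C.inv_mem hc)
  have h2 : (a⁻¹ * c⁻¹)⁻¹ ∈ (S : Set G) := S.inv_mem h1
  rw [hS, Set.mem_mul] at h2
  obtain ⟨a', ha', c', hc', h3⟩ := h2
  refine ⟨a', ha', c', hc', ?_⟩
  rw [h3]; group

theorem prm_sup {G : Type*} [Group G] (X X' C : Subgroup G) (h1 : Prm X C) (h2 : Prm X' C) :
    Prm (X ⊔ X') C := by
  intro c hc y hy
  rw [Subgroup.sup_eq_closure] at hy
  revert c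
  induction hy using Subgroup.closure_induction'' with
  | mem y hy =>
    intro c hc
    rcases hy with hy | hy
    · obtain ⟨a', ha', c', hc', h3⟩ := h1 c hc y hy
      exact ⟨a', (le_sup_left : X ≤ X ⊔ X') ha', c', hc', h3⟩
    · obtain ⟨a', ha', c', hc', h3⟩ := h2 c hc y hy
      exact ⟨a', (le_sup_right : X' ≤ X ⊔ X') ha', c', hc', h3⟩
  | inv_mem y hy =>
    intro c hc
    rcases hy with hy | hy
    · obtain ⟨a', ha', c', hc', h3⟩ := h1 c hc y⁻¹ (X.inv_mem hy)
      exact ⟨a', (le_sup_left : X ≤ X ⊔ X') ha', c', hc', h3⟩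
    · obtain ⟨a', ha', c', hc', h3⟩ := h2 c hc y⁻¹ (X'.inv_mem hy)
      exact ⟨a', (le_sup_right : X' ≤ X ⊔ X') ha', c', hc', h3⟩
  | one =>
    intro c hc
    exact ⟨1, Subgroup.one_mem _, c, hc, by simp⟩
  | mul y₁ y₂ _ _ ih1 ih2 =>
    intro c hc
    obtain ⟨a₁, ha₁, c₁, hc₁, e1⟩ := ih1 c hc
    obtain ⟨a₂, ha₂, c₂, hc₂, e2⟩ := ih2 c₁ hc₁
    refine ⟨a₁ * a₂, Subgroup.mul_mem _ ha₁ ha₂, c₂, hc₂, ?_⟩
    rw [← mul_assoc, e1, mul_assoc, e2, mul_assoc]

/-- The subgroup with underlying set `X * C` for permuting `X`, `C`. -/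
def prodSubgroup {G : Type*} [Group G] (X C : Subgroup G) (h : Prm X C) : Subgroup G where
  carrier := (X : Set G) * (C : Set G)
  one_mem' := ⟨1, X.one_mem, 1, C.one_mem, one_mul 1⟩
  mul_mem' := by
    rintro _ _ ⟨a, ha, c, hc, rfl⟩ ⟨a', ha', c', hc', rfl⟩
    obtain ⟨a'', ha'', c'', hc'', e⟩ := h c hc a' ha'
    refine ⟨a * a'', X.mul_mem ha ha'', c'' * c', C.mul_mem hc'' hc', ?_⟩
    show a * a'' * (c'' * c') = a * c * (a' * c')
    rw [mul_assoc a c, ← mul_assoc c a', e]; group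
  inv_mem' := by
    rintro _ ⟨a, ha, c, hc, rfl⟩
    obtain ⟨a'', ha'', c'', hc'', e⟩ := h c⁻¹ (C.inv_mem hc) a⁻¹ (X.inv_mem ha)
    refine ⟨a'', ha'', c'', hc'', ?_⟩
    show a'' * c'' = (a * c)⁻¹
    rw [← e]; group

theorem coe_prodSubgroup {G : Type*} [Group G] (X C : Subgroup G) (h : Prm X C) :
    ((prodSubgroup X C h : Subgroup G) : Set G) = (X : Set G) * (C : Set G) := rfl

theorem mem_conj_smul {G : Type*} [Group G] (b y : G) (X : Subgroup G) :
    y ∈ (MulAut.conj b • X : Subgroup G) ↔ b⁻¹ * y * b ∈ X := by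
  rw [Subgroup.mem_pointwise_smul_iff_inv_smul_mem, MulAut.smul_def, ← map_inv, MulAut.conj_apply,
    inv_inv]

theorem prm_conj {G : Type*} [Group G] (X C : Subgroup G) (b : G) (h : Prm X C) :
    Prm (MulAut.conj b • X) (MulAut.conj b • C) := by
  intro c hc a ha
  rw [mem_conj_smul] at hc ha
  obtain ⟨a', ha', c', hc', e⟩ := h _ hc _ ha
  refine ⟨b * a' * b⁻¹, ?_, b * c' * b⁻¹, ?_, ?_⟩
  · rw [mem_conj_smul]; simpa [mul_assoc] using ha'
  · rw [mem_conj_smul]; simpa [mul_assoc] using hc'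
  · have : c * a = b * ((b⁻¹ * c * b) * (b⁻¹ * a * b)) * b⁻¹ := by group
    rw [this, e]; group

/-- The property: all products `X * B^x` are proper subgroups. -/
def PP {G : Type*} [Group G] (B X : Subgroup G) : Prop :=
  ∀ x : G, ∃ S : Subgroup G, S ≠ ⊤ ∧ (S : Set G) = (X : Set G) * ((MulAut.conj x • B : Subgroup G) : Set G)

theorem pp_step {G : Type*} [Group G] (B X : Subgroup G) (hX : PP B X) (h b : G)
    (hb : b ∈ (MulAut.conj h • B : Subgroup G)) : PP B (X ⊔ MulAut.conj b • X) := by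
  intro x
  set Y := X ⊔ MulAut.conj b • X with hY
  set Bx : Subgroup G := MulAut.conj x • B with hBx
  set Bh : Subgroup G := MulAut.conj h • B with hBh
  -- permutability
  obtain ⟨S₁, -, hS₁⟩ := hX x
  obtain ⟨S₂, -, hS₂⟩ := hX (b⁻¹ * x)
  have p1 : Prm X Bx := prm_of_subgroup X Bx S₁ hS₁
  have p2 : Prm (MulAut.conj b • X) Bx := by
    have := prm_conj X _ b (prm_of_subgroup X _ S₂ hS₂)
    rwa [← mul_smul, ← map_mul, mul_inv_cancel_left] at this
  have p3 : Prm Y Bx := prm_sup _ _ _ p1 p2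
  refine ⟨prodSubgroup Y Bx p3, ?_, rfl⟩
  -- properness
  obtain ⟨H, hHtop, hH⟩ := hX h
  have hXH : X ≤ H := by
    intro a ha
    have : a ∈ (H : Set G) := by
      rw [hH]; exact ⟨a, ha, 1, Subgroup.one_mem _, mul_one a⟩
    exact this
  have hBhH : Bh ≤ H := by
    intro c hc
    have : c ∈ (H : Set G) := by
      rw [hH]; exact ⟨1, X.one_mem, c, hc, one_mul c⟩
    exact this
  have hbH : b ∈ H := hBhH hb
  have hYH : Y ≤ H := by
    apply sup_le hXH
    intro y hy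
    rw [mem_conj_smul] at hy
    have := H.mul_mem (H.mul_mem hbH (hXH hy)) (H.inv_mem hbH)
    simpa [mul_assoc] using this
  intro htop
  apply hHtop
  -- write (x * h⁻¹)⁻¹ = y * c
  have hmem : (x * h⁻¹)⁻¹ ∈ ((prodSubgroup Y Bx p3 : Subgroup G) : Set G) := by
    rw [htop]; exact Set.mem_univ _
  rw [coe_prodSubgroup, Set.mem_mul] at hmem
  obtain ⟨y, hy, c, hc, e⟩ := hmem
  -- then Bx ≤ H
  have hBxH : Bx ≤ H := by
    intro d hd
    have hd : x⁻¹ * d * x ∈ B := (mem_conj_smul x d B).mp hd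
    have hc : x⁻¹ * c * x ∈ B := (mem_conj_smul x c B).mp hc
    -- x = c⁻¹ ... : from e, x * h⁻¹ = c⁻¹ * y⁻¹
    have e' : x = c⁻¹ * y⁻¹ * h := by
      have : x * h⁻¹ = c⁻¹ * y⁻¹ := by
        rw [← inv_inv (x * h⁻¹), ← e]; group
      rw [← this]; group
    -- d = y⁻¹ * (h * (stuff in B) * h⁻¹) * y
    have hc' : x⁻¹ * c⁻¹ * x ∈ B := by
      have := B.inv_mem hc
      simpa [mul_assoc] using this
    -- h⁻¹ * (y * d * y⁻¹) * h ∈ B
    have key : h⁻¹ * (y * d * y⁻¹) * h ∈ B := by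
      have e2 : y⁻¹ * h = c * x := by rw [e']; group
      have e3 : h⁻¹ * y = x⁻¹ * c⁻¹ := by
        rw [← inv_inj]; simp only [mul_inv_rev, inv_inv]; exact e2
      have : h⁻¹ * (y * d * y⁻¹) * h = (x⁻¹ * c * x)⁻¹ * (x⁻¹ * d * x) * (x⁻¹ * c * x) := by
        have : h⁻¹ * (y * d * y⁻¹) * h = (h⁻¹ * y) * d * (y⁻¹ * h) := by group
        rw [this, e2, e3]; group
      rw [this]
      exact B.mul_mem (B.mul_mem (B.inv_mem hc) hd) hc
    have h1 : y * d * y⁻¹ ∈ Bh := by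
      rw [hBh, mem_conj_smul]; exact key
    have h2 := H.mul_mem (H.mul_mem (H.inv_mem (hYH hy)) (hBhH h1)) (hYH hy)
    have : y⁻¹ * (y * d * y⁻¹) * y = d := by group
    rwa [this] at h2
  rw [eq_top_iff]
  intro g _
  have hg : g ∈ ((prodSubgroup Y Bx p3 : Subgroup G) : Set G) := by
    rw [htop]; exact Set.mem_univ _
  rw [coe_prodSubgroup, Set.mem_mul] at hg
  obtain ⟨y', hy', c', hc', rfl⟩ := hg
  exact H.mul_mem (hYH hy') (hBxH hc')


/-- Let A and B be nontrivial subgroups of a finite group G such that for every x the product set of A and xBx⁻¹ is a proper subgroup of G. Then there is a proper normal subgroup of G containing A or containing B. -/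
theorem result {G : Type*} [Group G] [Finite G] (A B : Subgroup G) (hA : A ≠ ⊥) (hB : B ≠ ⊥) (h : ∀ x : G, ∃ S : Subgroup G, S ≠ ⊤ ∧ (S : Set G) = (A : Set G) * ((MulAut.conj x • B : Subgroup G) : Set G)) : ∃ N : Subgroup G, N.Normal ∧ N ≠ ⊤ ∧ (A ≤ N ∨ B ≤ N) := by
  classical
  -- maximal X ≥ A with PP B X
  have hfin : Set.Finite {X : Subgroup G | A ≤ X ∧ PP B X} := Set.toFinite _
  have hne : {X : Subgroup G | A ≤ X ∧ PP B X}.Nonempty := ⟨A, le_refl A, h⟩
  obtain ⟨X, ⟨hAX, hPX⟩, hmax⟩ := hfin.exists_maximal hne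
  -- every element of every conjugate of B normalizes X
  have hnorm : ∀ (g b : G), b ∈ (MulAut.conj g • B : Subgroup G) → MulAut.conj b • X ≤ X := by
    intro g b hb
    have h1 : PP B (X ⊔ MulAut.conj b • X) := pp_step B X hPX g b hb
    have h2 : X ⊔ MulAut.conj b • X ≤ X :=
      hmax ⟨hAX.trans le_sup_left, h1⟩ le_sup_left
    exact le_sup_right.trans h2
  have hXtop : X ≠ ⊤ := by
    obtain ⟨S, hS, hSe⟩ := hPX 1
    intro hX
    apply hS
    rw [eq_top_iff]
    intro g _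
    have : g ∈ (S : Set G) := by
      rw [hSe]; exact ⟨g, by rw [hX]; trivial, 1, Subgroup.one_mem _, mul_one g⟩
    exact this
  by_cases hBG : Subgroup.normalClosure (B : Set G) = ⊤
  · refine ⟨X, ?_, hXtop, Or.inl hAX⟩
    -- the normalizer of X contains all conjugates of B, hence the normal closure
    have hle : Subgroup.normalClosure (B : Set G) ≤ Subgroup.normalizer (X : Set G) := by
      rw [Subgroup.normalClosure, Subgroup.closure_le]
      intro z hz
      rw [Group.mem_conjugatesOfSet_iff] at hz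
      obtain ⟨b₀, hb₀, hconj⟩ := hz
      rw [isConj_iff] at hconj
      obtain ⟨g, rfl⟩ := hconj
      have hb : g * b₀ * g⁻¹ ∈ (MulAut.conj g • B : Subgroup G) := by
        rw [mem_conj_smul]; simpa [mul_assoc] using hb₀
      have h1 := hnorm g _ hb
      have h2 := hnorm g _ (Subgroup.inv_mem _ hb)
      rw [SetLike.mem_coe, Subgroup.mem_normalizer_iff]
      intro a
      constructor
      · intro ha
        apply h1
        rw [mem_conj_smul]; simpa [mul_assoc] using ha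
      · intro ha
        have := h2 (show (g * b₀ * g⁻¹)⁻¹ * (g * b₀ * g⁻¹ * a * (g * b₀ * g⁻¹)⁻¹) * (g * b₀ * g⁻¹) ∈
          (MulAut.conj (g * b₀ * g⁻¹)⁻¹ • X : Subgroup G) by
            rw [mem_conj_smul]; simpa [mul_assoc] using ha)
        simpa [mul_assoc] using this
    rw [hBG, top_le_iff] at hle
    exact Subgroup.normalizer_eq_top_iff.mp hle
  · exact ⟨Subgroup.normalClosure (B : Set G), Subgroup.normalClosure_normal, hBG,
      Or.inr Subgroup.le_normalClosure⟩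

end Cfsg.Agent.S0566
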