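import Cfsg.Statements.S0560
import Cfsg.Agent.Lib.Helper13.Basic
import Cfsg.Agent.Lib.Helper13.ProdCard

set_option autoImplicit false
open Pointwise
open Cfsg

namespace Cfsg.Agent.S0560

open Cfsg.Agent.Lib.Helper13

/-- A Sylow subgroup of `G` that restricts to a Sylow of `H`, conjugated by an element of `H`,
still restricts to a Sylow subgroup of `H`. -/
lemma not_dvd_relIndex_conj {G : Type*} [Group G] [Finite G] (p : ℕ) [Fact p.Prime]
    (H : Subgroup G) (P1 : Sylow p H) (S : Sylow p G)
    (hS : (S : Subgroup G).comap H.subtype = P1) (a : G) (ha : a ∈ H) :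
    ¬ p ∣ (MulAut.conj a • (S : Subgroup G)).relIndex H := by
  have h1 : (MulAut.conj a • (S : Subgroup G)).relIndex H = (S : Subgroup G).relIndex H := by
    conv_lhs => rw [← Subgroup.conj_smul_eq_self_of_mem ha]
    exact Subgroup.relIndex_pointwise_smul (MulAut.conj a) (S : Subgroup G) H
  rw [h1, Subgroup.relIndex, Subgroup.subgroupOf, hS]
  exact Sylow.not_dvd_index P1

/-- Let the finite group G be the product HK of two subgroups and p a prime. Then there are Sylow p-subgroups P of H and Q of K and a Sylow p-subgroup R of G whose underlying set is the product set of P and Q. -/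
theorem result {G : Type*} [Group G] [Finite G] (H K : Subgroup G) (hHK : ∀ g : G, ∃ h ∈ H, ∃ k ∈ K, g = h * k) (p : ℕ) [Fact p.Prime] : ∃ (P : Sylow p H) (Q : Sylow p K) (R : Sylow p G), ((R : Subgroup G) : Set G) = (((P : Subgroup H).map H.subtype : Subgroup G) : Set G) * (((Q : Subgroup K).map K.subtype : Subgroup G) : Set G) := by
  have hp : p.Prime := Fact.out
  obtain ⟨P1⟩ : Nonempty (Sylow p H) := inferInstance
  obtain ⟨Q1⟩ : Nonempty (Sylow p K) := inferInstance
  obtain ⟨S, hS⟩ := Sylow.exists_comap_subtype_eq P1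
  obtain ⟨S', hS'⟩ := Sylow.exists_comap_subtype_eq Q1
  obtain ⟨y, hy⟩ := MulAction.exists_smul_eq G S S'
  obtain ⟨h, hh, k, hk, hyhk⟩ := hHK y⁻¹
  have hky : k * y = h⁻¹ := by
    have : y = k⁻¹ * h⁻¹ := by rw [← mul_inv_rev, ← hyhk, inv_inv]
    rw [this]; group
  -- the Sylow subgroup R
  set R : Sylow p G := h⁻¹ • S with hR
  have hR1 : (R : Subgroup G) = MulAut.conj h⁻¹ • (S : Subgroup G) := Sylow.coe_subgroup_smul
  have hR2 : (R : Subgroup G) = MulAut.conj k • (S' : Subgroup G) := by
    have : R = k • S' := by rw [hR, ← hy, smul_smul, hky]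
    rw [this]; exact Sylow.coe_subgroup_smul
  have hRH : ¬ p ∣ ((R : Subgroup G).subgroupOf H).index := by
    change ¬ p ∣ (R : Subgroup G).relIndex H
    rw [hR1]; exact not_dvd_relIndex_conj p H P1 S hS h⁻¹ (H.inv_mem hh)
  have hRK : ¬ p ∣ ((R : Subgroup G).subgroupOf K).index := by
    change ¬ p ∣ (R : Subgroup G).relIndex K
    rw [hR2]; exact not_dvd_relIndex_conj p K Q1 S' hS' k hk
  have hPH : IsPGroup p ((R : Subgroup G).subgroupOf H) := R.isPGroup'.comap_subtype
  have hPK : IsPGroup p ((R : Subgroup G).subgroupOf K) := R.isPGroup'.comap_subtype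
  refine ⟨IsPGroup.toSylow hPH hRH, IsPGroup.toSylow hPK hRK, R, ?_⟩
  rw [IsPGroup.toSylow_coe, IsPGroup.toSylow_coe, Subgroup.subgroupOf_map_subtype,
    Subgroup.subgroupOf_map_subtype]
  -- now a counting argument
  set A : Subgroup G := (R : Subgroup G) ⊓ H with hA
  set B : Subgroup G := (R : Subgroup G) ⊓ K with hB
  have hsub : (A : Set G) * (B : Set G) ⊆ ((R : Subgroup G) : Set G) := by
    rintro _ ⟨a, ha, b, hb, rfl⟩
    exact (R : Subgroup G).mul_mem ha.1 hb.1
  symm
  apply Set.eq_of_subset_of_ncard_le hsub _ (Set.toFinite _)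
  -- cardinalities
  have cR : Nat.card (R : Subgroup G) = p ^ (Nat.card G).factorization p := Sylow.card_eq_multiplicity R
  have cA : Nat.card A = p ^ (Nat.card H).factorization p := by
    have h1 := Sylow.card_eq_multiplicity (IsPGroup.toSylow hPH hRH)
    rw [← h1]
    have h2 : A = ((R : Subgroup G).subgroupOf H).map H.subtype := (Subgroup.subgroupOf_map_subtype _ _).symm
    rw [h2, Subgroup.card_subtype]; rfl
  have cB : Nat.card B = p ^ (Nat.card K).factorization p := by
    have h1 := Sylow.card_eq_multiplicity (IsPGroup.toSylow hPK hRK)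
    rw [← h1]
    have h2 : B = ((R : Subgroup G).subgroupOf K).map K.subtype := (Subgroup.subgroupOf_map_subtype _ _).symm
    rw [h2, Subgroup.card_subtype]; rfl
  have hAB : IsPGroup p (A ⊓ B : Subgroup G) :=
    R.isPGroup'.to_le (le_trans inf_le_left inf_le_left)
  obtain ⟨c, hc⟩ := hAB.exists_card_eq
  have hcle : c ≤ (Nat.card (H ⊓ K : Subgroup G)).factorization p := by
    have h1 : Nat.card (A ⊓ B : Subgroup G) ∣ Nat.card (H ⊓ K : Subgroup G) :=
      Subgroup.card_dvd_of_le (inf_le_inf inf_le_right inf_le_right)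
    rw [hc] at h1
    exact (hp.pow_dvd_iff_le_factorization Nat.card_pos.ne').mp h1
  have e1 := card_mul_card_inf A B
  have e2 := card_mul_card_inf_of_factorization H K hHK
  have e3 : (Nat.card G).factorization p + (Nat.card (H ⊓ K : Subgroup G)).factorization p
      = (Nat.card H).factorization p + (Nat.card K).factorization p := by
    have := congrArg (fun n => n.factorization p) e2
    rw [Nat.factorization_mul Nat.card_pos.ne' Nat.card_pos.ne',
      Nat.factorization_mul Nat.card_pos.ne' Nat.card_pos.ne'] at this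
    simpa using this
  rw [hc, cA, cB, ← pow_add, ← e3] at e1
  obtain ⟨d, hd⟩ := Nat.exists_eq_add_of_le hcle
  rw [hd, add_comm c d, ← add_assoc, pow_add _ _ c] at e1
  have e4 := Nat.eq_of_mul_eq_mul_right (pow_pos hp.pos c) e1
  rw [← Nat.card_coe_set_eq, ← Nat.card_coe_set_eq, e4]
  show Nat.card (R : Subgroup G) ≤ _
  rw [cR, pow_add]
  exact Nat.le_mul_of_pos_right _ (pow_pos hp.pos d)

end Cfsg.Agent.S0560
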