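import Cfsg.Statements.S0532
import Mathlib

set_option autoImplicit false
open Cfsg

namespace Cfsg.Agent.S0532

universe u

lemma clt_of_mulEquiv {A B : Type*} [Group A] [Group B] (e : A ≃* B)
    (h : Cfsg.HasSubgroupOfEveryOrder A) : Cfsg.HasSubgroupOfEveryOrder B := by
  intro d hd
  have hd' : d ∣ Nat.card A := by rwa [Nat.card_congr e.toEquiv]
  obtain ⟨L, hL⟩ := h d hd'
  exact ⟨L.map e.toMonoidHom, by rw [← hL]; exact (Nat.card_congr (e.subgroupMap L).toEquiv).symm⟩

theorem aux (n : ℕ) : ∀ (G : Type u) [Group G] [Finite G], Nat.card G = n →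
    (∀ H : Subgroup G, Cfsg.HasSubgroupOfEveryOrder H) → ∀ (p : ℕ) [Fact p.Prime],
    p ∣ Nat.card G → (∀ q : ℕ, q.Prime → q ∣ Nat.card G → q ≤ p) →
    ∀ P : Sylow p G, (P : Subgroup G).Normal := by
  induction n using Nat.strong_induction_on with
  | _ n ih =>
    intro G _ _ hn h p _ hdvd hmax P
    have hp : p.Prime := Fact.out
    have hcard_pos : 0 < Nat.card G := Nat.card_pos
    have hcard_ne_one : Nat.card G ≠ 1 := by
      intro h1; rw [h1] at hdvd; exact hp.one_lt.ne' (Nat.dvd_one.mp hdvd)
    set q := (Nat.card G).minFac with hq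
    have hqp : q.Prime := Nat.minFac_prime hcard_ne_one
    have hqdvd : q ∣ Nat.card G := Nat.minFac_dvd _
    -- a subgroup of index q
    have hG : Cfsg.HasSubgroupOfEveryOrder G := clt_of_mulEquiv Subgroup.topEquiv (h ⊤)
    obtain ⟨M, hM⟩ := hG (Nat.card G / q) (Nat.div_dvd_of_dvd hqdvd)
    have hMidx : M.index = q := by
      have h1 := M.card_mul_index
      rw [hM] at h1
      have h2 : Nat.card G / q * q = Nat.card G := Nat.div_mul_cancel hqdvd
      have h3 : 0 < Nat.card G / q := Nat.div_pos (Nat.le_of_dvd hcard_pos hqdvd) hqp.pos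
      exact Nat.eq_of_mul_eq_mul_left h3 (h1.trans h2.symm)
    have hMn : M.Normal := Subgroup.normal_of_index_eq_minFac_card hMidx
    by_cases hpq : q = p
    · -- G is a p-group
      have hall : ∀ {d : ℕ}, d.Prime → d ∣ Nat.card G → d = p := by
        intro d hd hdd
        apply le_antisymm (hmax d hd hdd)
        rw [← hpq]
        exact Nat.minFac_le_of_dvd hd.two_le hdd
      have hpow := Nat.eq_prime_pow_of_unique_prime_dvd hcard_pos.ne' hall
      have hGp : IsPGroup p G := IsPGroup.of_card hpow
      have htop : IsPGroup p (⊤ : Subgroup G) := hGp.to_subgroup ⊤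
      have := P.is_maximal' htop le_top
      rw [← this]
      exact Subgroup.normal_top
    · -- p divides |M|
      have hGM : Nat.card G = Nat.card M * q := by rw [← hMidx]; exact M.card_mul_index.symm
      have hpM : p ∣ Nat.card M := by
        rw [hGM] at hdvd
        rcases (Nat.Prime.dvd_mul hp).mp hdvd with h1 | h1
        · exact h1
        · exact absurd ((Nat.prime_dvd_prime_iff_eq hp hqp).mp h1).symm hpq
      have hMlt : Nat.card M < n := by
        rw [← hn, hGM]
        exact lt_mul_of_one_lt_right Nat.card_pos hqp.one_lt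
      have hMclt : ∀ L : Subgroup M, Cfsg.HasSubgroupOfEveryOrder L := by
        intro L
        exact clt_of_mulEquiv (Subgroup.equivMapOfInjective L M.subtype M.subtype_injective).symm
          (h (L.map M.subtype))
      have hMmax : ∀ r : ℕ, r.Prime → r ∣ Nat.card M → r ≤ p := by
        intro r hr hrd
        exact hmax r hr (dvd_trans hrd (hGM ▸ dvd_mul_right _ _))
      obtain ⟨PM⟩ : Nonempty (Sylow p M) := inferInstance
      have hPMn : (PM : Subgroup M).Normal := ih (Nat.card M) hMlt M rfl hMclt p hpM hMmax PM
      have hPMc : (PM : Subgroup M).Characteristic := Sylow.characteristic_of_normal PM hPMn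
      have hNn : ((PM : Subgroup M).map M.subtype).Normal := inferInstance
      have hNp : IsPGroup p ((PM : Subgroup M).map M.subtype) := PM.isPGroup'.map _
      have hle : (PM : Subgroup M).map M.subtype ≤ P := hNp.le_sylow_of_normal P
      have hcard : Nat.card ((PM : Subgroup M).map M.subtype) = Nat.card (P : Subgroup G) := by
        rw [Subgroup.card_subtype, Sylow.card_eq_multiplicity, Sylow.card_eq_multiplicity, hGM,
          Nat.factorization_mul Nat.card_pos.ne' hqp.ne_zero]
        have : q.factorization p = 0 := by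
          rw [hqp.factorization]
          simp [hpq]
        simp [this]
      have heq : (PM : Subgroup M).map M.subtype = P :=
        Subgroup.eq_of_le_of_card_ge hle hcard.ge
      rw [← heq]
      exact hNn

/-- If each subgroup of a finite group satisfies the converse of Lagrange's theorem, then a Sylow subgroup for the largest prime dividing the group order is normal. -/
theorem result {G : Type*} [Group G] [Finite G] (h : ∀ H : Subgroup G, Cfsg.HasSubgroupOfEveryOrder H) (p : ℕ) [Fact p.Prime] (hdvd : p ∣ Nat.card G) (hmax : ∀ q : ℕ, q.Prime → q ∣ Nat.card G → q ≤ p) (P : Sylow p G) : (P : Subgroup G).Normal :=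
  aux (Nat.card G) G rfl h p hdvd hmax P

end Cfsg.Agent.S0532
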