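import Cfsg.Statements.S0050
import Cfsg.Agent.Lib.Helper01.Hall

set_option autoImplicit false
open Cfsg

namespace Cfsg.Agent.S0050

open Cfsg.Agent.Lib.Helper01
open scoped Pointwise

/-- Frattini argument for Hall subgroups: if L is a solvable normal subgroup and H a subgroup of L of order coprime to its index in L, then L together with the normaliser of H generates the whole group. -/
theorem result {G : Type*} [Group G] [Finite G] (L : Subgroup G) [L.Normal] (hL : Group.IsSolvable L)
    (H : Subgroup G) (hHL : H ≤ L) (hHall : (Nat.card H).Coprime (H.relIndex L)) :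
    L ⊔ Subgroup.normalizer (H : Set G) = ⊤ := by
  rw [eq_top_iff]
  intro g _
  -- H' = g H g⁻¹ ≤ L
  have hH'L : MulAut.conj g • H ≤ L := by
    have h1 : MulAut.conj g • H ≤ MulAut.conj g • L := Subgroup.pointwise_smul_le_pointwise_smul_iff.mpr hHL
    rwa [conj_smul_normal g L] at h1
  have hcard' : Nat.card (MulAut.conj g • H : Subgroup G) = Nat.card H := card_conj_smul g H
  have hLcard : Nat.card L = Nat.card H * H.relIndex L := by
    have := (H.subgroupOf L).card_mul_index
    rw [card_subgroupOf_of_le hHL] at this
    exact this.symm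
  obtain ⟨-, hconj, -⟩ := hallProp (G := L) (Nat.card H) (H.relIndex L) hLcard hHall
  obtain ⟨l, hlL, hl⟩ := conj_of_conj_subgroupOf hH'L hHL
    (hconj _ _ (by rw [card_subgroupOf_of_le hH'L, hcard']) (card_subgroupOf_of_le hHL))
  rw [conj_smul_conj_smul] at hl
  have hn : l * g ∈ Subgroup.normalizer (H : Set G) := mem_normalizer_iff_conj_smul.mpr hl
  have : g = l⁻¹ * (l * g) := by group
  rw [this]
  exact Subgroup.mul_mem_sup (L.inv_mem hlL) hn

end Cfsg.Agent.S0050
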