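import Cfsg.Statements.S0985
import Cfsg.Agent.Lib.Helper23.Orbits

set_option autoImplicit false
open Cfsg

namespace Cfsg.Agent.S0985

open MulAction in
/-- the stabilizer in `P` of another Sylow subgroup `R` is `R ⊓ P`. -/
theorem stabilizer_sylow {G : Type*} [Group G] (p : ℕ) [Fact p.Prime] (P R : Sylow p G) :
    stabilizer (↥(P : Subgroup G)) R = (R : Subgroup G).subgroupOf (P : Subgroup G) := by
  ext x
  rw [mem_stabilizer_iff, Subgroup.mem_subgroupOf]
  have h1 : x • R = (x : G) • R := rfl
  rw [h1, Sylow.smul_eq_iff_mem_normalizer]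
  have h2 := P.2.inf_normalizer_sylow R
  constructor
  · intro hx
    exact (h2.le ⟨x.2, hx⟩).2
  · intro hx
    exact Subgroup.le_normalizer hx

/-- If the number of Sylow p-subgroups of a finite group is not congruent to 1 modulo p^k, then there are two distinct Sylow p-subgroups P and R such that the index of P ∩ R in P is at most p^(k-1). -/
theorem result {G : Type*} [Group G] [Finite G] (p k : ℕ) [Fact p.Prime] (h : ¬ Nat.card (Sylow p G) ≡ 1 [MOD p ^ k]) : ∃ P R : Sylow p G, P ≠ R ∧ ((R : Subgroup G).subgroupOf (P : Subgroup G)).index ≤ p ^ (k - 1) := by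
  classical
  by_contra hcon
  push Not at hcon
  apply h
  obtain ⟨P⟩ : Nonempty (Sylow p G) := inferInstance
  refine Cfsg.Agent.Lib.Helper23.card_modEq_one_of_dvd_card_orbit (↥(P : Subgroup G)) (Sylow p G)
    (p ^ k) P ?_ ?_
  · intro x
    have h1 : x • P = (x : G) • P := rfl
    rw [h1, Sylow.smul_eq_iff_mem_normalizer]
    exact Subgroup.le_normalizer x.2
  · intro R hR
    have h1 := hcon P R (Ne.symm hR)
    rw [← stabilizer_sylow, MulAction.index_stabilizer] at h1
    rw [Nat.card_coe_set_eq]
    obtain ⟨n, hn⟩ := P.2.card_orbit (α := Sylow p G) R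
    rw [Nat.card_coe_set_eq] at hn
    rw [hn] at h1 ⊢
    have hp : 1 < p := (Fact.out : p.Prime).one_lt
    have : k - 1 < n := (Nat.pow_lt_pow_iff_right hp).mp h1
    exact pow_dvd_pow p (by omega)

end Cfsg.Agent.S0985
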