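import Cfsg.Statements.S0494
import Cfsg.Agent.Lib.Helper12.SmallSimple
import Cfsg.Agent.S0985

set_option autoImplicit false
open Cfsg

namespace Cfsg.Agent.S0494

open Cfsg.Agent.Lib

/-- A simple group of order 60 has a subgroup of index 5. -/
theorem exists_index_five {G : Type*} [Group G] [Finite G] [IsSimpleGroup G]
    (h : Nat.card G = 60) (hG : ¬ IsMulCommutative G) : ∃ H : Subgroup G, H.index = 5 := by
  have : Fact (Nat.Prime 2) := ⟨Nat.prime_two⟩
  obtain ⟨hd, hd2, hd1, hdf⟩ := Helper12.sylow_count_spec hG 2 2 15 (by norm_num)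
    (h.trans (by norm_num)) (by norm_num)
  have hd15 : Nat.card (Sylow 2 G) ≤ 15 := Nat.le_of_dvd (by norm_num) hd
  rw [h] at hdf
  have hcases : Nat.card (Sylow 2 G) = 5 ∨ Nat.card (Sylow 2 G) = 15 := by
    generalize Nat.card (Sylow 2 G) = c at *
    interval_cases c <;> simp_all (config := {decide := true})
  rcases hcases with h5 | h15
  · obtain ⟨P⟩ : Nonempty (Sylow 2 G) := inferInstance
    exact ⟨_, (Helper23.card_sylow_eq_index_normalizer' 2 P).symm.trans h5⟩
  · have hmod : ¬ Nat.card (Sylow 2 G) ≡ 1 [MOD 2 ^ 2] := by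
      rw [h15]; decide
    obtain ⟨P, R, hne, hidx⟩ := Cfsg.Agent.S0985.result 2 2 hmod
    have hPcard : Nat.card (P : Subgroup G) = 4 :=
      (Helper23.sylow_card_of_card_eq 2 2 15 (h.trans (by norm_num)) (by norm_num) P).trans
        (by norm_num)
    have hRcard : Nat.card (R : Subgroup G) = 4 :=
      (Helper23.sylow_card_of_card_eq 2 2 15 (h.trans (by norm_num)) (by norm_num) R).trans
        (by norm_num)
    set D : Subgroup G := (P : Subgroup G) ⊓ (R : Subgroup G) with hD
    have hDcard := Helper23.card_inf_mul_index_subgroupOf (P : Subgroup G) (R : Subgroup G)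
    rw [hPcard] at hDcard
    have hDne : D ≠ ⊥ := by
      intro hbot
      rw [← hD, hbot, Subgroup.card_bot, one_mul] at hDcard
      rw [hDcard] at hidx
      norm_num at hidx
    have hPcomm : ∀ a ∈ (P : Subgroup G), ∀ b ∈ (P : Subgroup G), a * b = b * a := by
      intro a ha b hb
      have := (IsPGroup.isMulCommutative_of_card_eq_prime_sq (p := 2) (G := (P : Subgroup G))
        (hPcard.trans (by norm_num))).is_comm.comm ⟨a, ha⟩ ⟨b, hb⟩
      exact congrArg Subtype.val this
    have hRcomm : ∀ a ∈ (R : Subgroup G), ∀ b ∈ (R : Subgroup G), a * b = b * a := by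
      intro a ha b hb
      have := (IsPGroup.isMulCommutative_of_card_eq_prime_sq (p := 2) (G := (R : Subgroup G))
        (hRcard.trans (by norm_num))).is_comm.comm ⟨a, ha⟩ ⟨b, hb⟩
      exact congrArg Subtype.val this
    have hPN := Helper23.le_normalizer_of_comm (P : Subgroup G) D inf_le_left hPcomm
    have hRN := Helper23.le_normalizer_of_comm (R : Subgroup G) D inf_le_right hRcomm
    obtain ⟨d, hdmod, hd1', hddvd⟩ :=
      Helper23.exists_card_sylow_of_two_le 2 P R hne (Subgroup.normalizer (D : Set G)) hPN hRN
    rw [hPcard] at hddvd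
    -- the normalizer is proper
    have hNtop : Subgroup.normalizer (D : Set G) ≠ ⊤ := by
      intro htop
      have hDn : D.Normal := Subgroup.normalizer_eq_top_iff.mp htop
      rcases hDn.eq_bot_or_eq_top with hb | ht
      · exact hDne hb
      · have h1 : Nat.card D ≤ Nat.card (P : Subgroup G) :=
          Nat.le_of_dvd (by rw [hPcard]; norm_num) (Subgroup.card_dvd_of_le inf_le_left)
        rw [ht, Subgroup.card_top, h, hPcard] at h1
        norm_num at h1
    have hfact := Helper23.card_dvd_factorial_index hG _ hNtop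
    have hmul := Subgroup.card_mul_index (Subgroup.normalizer (D : Set G))
    rw [h] at hmul hfact
    refine ⟨Subgroup.normalizer (D : Set G), ?_⟩
    obtain ⟨e, he⟩ := hddvd
    rw [he] at hmul
    have hidx1 : (Subgroup.normalizer (D : Set G)).index ≠ 1 := by
      rw [Ne, Subgroup.index_eq_one]; exact hNtop
    generalize (Subgroup.normalizer (D : Set G)).index = i at *
    -- 4 * d * e * i = 60, d odd, d > 1, 60 ∣ i !, i ≠ 1
    have h15' : d * (e * i) = 15 := by nlinarith
    have hd3 : 3 ≤ d := by
      unfold Nat.ModEq at hdmod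
      omega
    have hi5 : e * i ≤ 5 := by nlinarith
    have hi_dvd : i ∣ 15 := ⟨d * e, by nlinarith⟩
    have he0 : 0 < e := by
      rcases Nat.eq_zero_or_pos e with h0 | h0
      · subst h0; simp at h15'
      · exact h0
    have hile : i ≤ 5 := by nlinarith
    interval_cases i <;> simp_all (config := {decide := true})

theorem result {G : Type*} [Group G] [Finite G] [IsSimpleGroup G]
    (h : Nat.card G = 60) : Nonempty (G ≃* alternatingGroup (Fin 5)) := by
  have hG : ¬ IsMulCommutative G := by
    apply Helper23.not_isMulCommutative_of_simple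
    rw [h]; norm_num
  obtain ⟨H, hH⟩ := exists_index_five h hG
  have hHtop : H ≠ ⊤ := by
    intro ht
    rw [ht, Subgroup.index_top] at hH
    norm_num at hH
  have key : ∀ k, H.index = k →
      ∃ f : G →* ↥(alternatingGroup (Fin k)), Function.Injective f := by
    intro k hk
    subst hk
    exact Cfsg.Agent.S0991.result hG H hHtop
  obtain ⟨f, hf⟩ := key 5 hH
  have hcard : Nat.card (alternatingGroup (Fin 5)) = 60 := by
    rw [nat_card_alternatingGroup]
    simp [Nat.factorial]
  have hbij : Function.Bijective f :=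
    hf.bijective_of_nat_card_le (by rw [hcard, h])
  exact ⟨MulEquiv.ofBijective f hbij⟩

end Cfsg.Agent.S0494
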