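import Cfsg.Statements.S0044
import Cfsg.Agent.Lib.Helper02.Fitting

set_option autoImplicit false
open Cfsg

namespace Cfsg.Agent.S0044

open Cfsg.Agent.Lib.Helper02

/-- the derived series of a subgroup, computed in the ambient group -/
def dser {G : Type*} [Group G] (C : Subgroup G) : ℕ → Subgroup G
  | 0 => C
  | n + 1 => ⁅dser C n, dser C n⁆

theorem dser_normal {G : Type*} [Group G] (C : Subgroup G) [hC : C.Normal] (n : ℕ) :
    (dser C n).Normal := by
  induction n with
  | zero => exact hC
  | succ n ih =>
    have := ih
    exact Subgroup.commutator_normal (dser C n) (dser C n)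

theorem dser_le {G : Type*} [Group G] (C : Subgroup G) (n : ℕ) : dser C n ≤ C := by
  induction n with
  | zero => exact le_rfl
  | succ n ih => exact (Subgroup.commutator_le_self _).trans ih

theorem dser_le_derivedSeries {G : Type*} [Group G] (C : Subgroup G) (n : ℕ) :
    dser C n ≤ derivedSeries G n := by
  induction n with
  | zero => exact le_top
  | succ n ih => exact Subgroup.commutator_mono ih ih

/-- In a finite solvable group, the centraliser of the Fitting subgroup is contained in the Fitting subgroup. -/
theorem result {G : Type*} [Group G] [Finite G] [Group.IsSolvable G] :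
    Subgroup.centralizer (Cfsg.fittingSubgroup G : Set G) ≤ Cfsg.fittingSubgroup G := by
  have hF : (fittingSubgroup G).Normal := fittingSubgroup_normal
  set F := fittingSubgroup G with hFdef
  set C := Subgroup.centralizer (F : Set G) with hCdef
  have hCn : C.Normal := Subgroup.normal_centralizer
  have hCF : ⁅F, C⁆ = ⊥ := by
    rw [Subgroup.commutator_comm, Subgroup.commutator_eq_bot_iff_le_centralizer]
  obtain ⟨k, hk⟩ := (Group.isSolvable_def G).mp inferInstance
  have step : ∀ n, dser C (n + 1) ≤ F → dser C n ≤ F := by
    intro n hn
    have := dser_normal C n
    apply le_fittingSubgroup _ (dser_normal C n)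
    apply isNilpotent_of_commutator_commutator_eq_bot
    rw [eq_bot_iff, ← hCF]
    exact Subgroup.commutator_mono hn (dser_le C n)
  have down : ∀ j, j ≤ k → dser C (k - j) ≤ F := by
    intro j
    induction j with
    | zero =>
      intro _
      have := dser_le_derivedSeries C k
      rw [hk] at this
      exact (le_bot_iff.mp this).le.trans bot_le
    | succ j ih =>
      intro hj
      have h1 := ih (by omega)
      have h2 : k - j = (k - (j + 1)) + 1 := by omega
      rw [h2] at h1
      exact step _ h1
  have := down k le_rfl
  rw [Nat.sub_self] at this
  exact this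

end Cfsg.Agent.S0044
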