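import Cfsg.Statements.S3377
import Cfsg.Agent.Lib.Helper62.Rewrite
import Mathlib

set_option autoImplicit false
open Cfsg

namespace Cfsg.Agent.S3377

open Cfsg.Agent.Lib.Helper62

def R0 : Rules := [([0, 0, 0], []), ([1, 1, 1, 1, 1], []), ([0, 1, 0, 1], [])]
def certs : List Cert := [
  ⟨[], [1, 0, 1], 0, [0, 0], [], 2, false⟩,
  ⟨[], [1, 1, 1, 1], 2, [0, 1, 0], [], 1, false⟩,
  ⟨[], [1, 1, 1], 1, [1, 1, 1, 1], [], 4, true⟩,
  ⟨[], [1, 1, 1], 3, [1, 0], [], 4, true⟩,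
  ⟨[], [0, 1], 4, [1, 1, 1], [], 3, true⟩,
  ⟨[], [1, 0], 7, [1, 1], [], 6, true⟩,
  ⟨[], [0, 1], 8, [1, 1, 0, 0, 1, 1], [], 3, false⟩,
  ⟨[], [1, 0, 0, 1, 1, 0, 0, 1], 0, [0, 0], [], 9, true⟩,
  ⟨[], [1, 1], 9, [0, 1, 0, 0], [], 8, false⟩,
  ⟨[], [1, 0, 0, 1, 1, 0, 0, 1, 1], 3, [1, 0], [], 11, true⟩
]
def NF : List Word := [
  [],
  [0],
  [1],
  [0, 0],
  [1, 0],
  [0, 1],
  [1, 1],
  [1, 0, 0],
  [0, 1, 0],
  [1, 1, 0],
  [0, 0, 1],
  [0, 1, 1],
  [1, 1, 1],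
  [0, 1, 0, 0],
  [1, 1, 0, 0],
  [0, 0, 1, 0],
  [0, 1, 1, 0],
  [1, 1, 1, 0],
  [1, 0, 0, 1],
  [0, 0, 1, 1],
  [0, 1, 1, 1],
  [0, 0, 1, 0, 0],
  [0, 1, 1, 0, 0],
  [0, 0, 1, 1, 0],
  [0, 1, 1, 1, 0],
  [0, 1, 0, 0, 1],
  [1, 1, 0, 0, 1],
  [1, 0, 0, 1, 1],
  [0, 0, 1, 1, 1],
  [0, 0, 1, 1, 0, 0],
  [1, 0, 0, 1, 1, 0],
  [0, 0, 1, 1, 1, 0],
  [0, 0, 1, 0, 0, 1],
  [0, 1, 1, 0, 0, 1],
  [0, 1, 0, 0, 1, 1],
  [1, 1, 0, 0, 1, 1],
  [1, 0, 0, 1, 1, 1],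
  [1, 0, 0, 1, 1, 0, 0],
  [0, 1, 0, 0, 1, 1, 0],
  [1, 1, 0, 0, 1, 1, 0],
  [1, 0, 0, 1, 1, 1, 0],
  [0, 0, 1, 1, 0, 0, 1],
  [0, 0, 1, 0, 0, 1, 1],
  [0, 1, 1, 0, 0, 1, 1],
  [0, 1, 0, 0, 1, 1, 1],
  [0, 1, 0, 0, 1, 1, 0, 0],
  [1, 1, 0, 0, 1, 1, 0, 0],
  [0, 0, 1, 0, 0, 1, 1, 0],
  [0, 1, 1, 0, 0, 1, 1, 0],
  [0, 1, 0, 0, 1, 1, 1, 0],
  [1, 0, 0, 1, 1, 0, 0, 1],
  [0, 0, 1, 1, 0, 0, 1, 1],
  [0, 0, 1, 0, 0, 1, 1, 1],
  [0, 0, 1, 0, 0, 1, 1, 0, 0],
  [0, 1, 1, 0, 0, 1, 1, 0, 0],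
  [0, 0, 1, 1, 0, 0, 1, 1, 0],
  [0, 0, 1, 0, 0, 1, 1, 1, 0],
  [1, 1, 0, 0, 1, 1, 0, 0, 1],
  [1, 0, 0, 1, 1, 0, 0, 1, 1],
  [0, 1, 1, 0, 0, 1, 1, 0, 0, 1]
]

theorem check : checkAll 64 2 R0 certs NF = true := by decide +kernel

theorem NF_length : NF.length = 60 := by decide

abbrev rels : Set (FreeGroup (Fin 2)) :=
  {FreeGroup.of (0 : Fin 2) ^ 3, FreeGroup.of (1 : Fin 2) ^ 5,
    (FreeGroup.of (0 : Fin 2) * FreeGroup.of 1) ^ 2}

abbrev P := PresentedGroup rels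

def gen : ℕ → P := fun i =>
  if i = 0 then PresentedGroup.of 0 else if i = 1 then PresentedGroup.of 1 else 1

theorem rel0 : (PresentedGroup.of 0 : P) ^ 3 = 1 := by
  have h : (FreeGroup.of (0 : Fin 2) ^ 3) ∈ rels := by simp [rels]
  have := PresentedGroup.one_of_mem h
  simpa [PresentedGroup.of] using this

theorem rel1 : (PresentedGroup.of 1 : P) ^ 5 = 1 := by
  have h : (FreeGroup.of (1 : Fin 2) ^ 5) ∈ rels := by simp [rels]
  have := PresentedGroup.one_of_mem h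
  simpa [PresentedGroup.of] using this

theorem rel2 : ((PresentedGroup.of 0 : P) * PresentedGroup.of 1) ^ 2 = 1 := by
  have h : ((FreeGroup.of (0 : Fin 2) * FreeGroup.of 1) ^ 2) ∈ rels := by simp [rels]
  have := PresentedGroup.one_of_mem h
  simpa [PresentedGroup.of] using this

theorem valid_R0 : Valid gen R0 := by
  intro p hp
  simp only [R0, List.mem_cons, List.not_mem_nil, or_false] at hp
  rcases hp with rfl | rfl | rfl
  · simp only [ev_cons, ev_nil, gen, if_true, mul_one]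
    rw [← rel0]; simp [pow_succ, mul_assoc]
  · simp only [ev_cons, ev_nil, gen, if_true, mul_one]
    rw [← rel1]; simp [pow_succ, mul_assoc]
  · simp only [ev_cons, ev_nil, gen, if_true, mul_one]
    rw [← rel2]; simp [pow_succ, mul_assoc]

theorem gen_closure : Subgroup.closure (gen '' {i | i < 2}) = ⊤ := by
  rw [eq_top_iff, ← PresentedGroup.closure_range_of rels]
  apply Subgroup.closure_mono
  rintro _ ⟨i, rfl⟩
  fin_cases i
  · exact ⟨0, by simp, by simp [gen]⟩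
  · exact ⟨1, by simp, by simp [gen]⟩

theorem P_card : Finite P ∧ Nat.card P ≤ 60 := by
  have := card_le_of_checkAll gen 64 2 R0 certs NF valid_R0 check gen_closure
  rwa [NF_length] at this

def aP : Equiv.Perm (Fin 5) := Equiv.swap 0 3 * Equiv.swap 3 1
def bP : Equiv.Perm (Fin 5) := Equiv.swap 0 1 * Equiv.swap 1 2 * Equiv.swap 2 3 * Equiv.swap 3 4

def aA : alternatingGroup (Fin 5) := ⟨aP, Equiv.Perm.mem_alternatingGroup.mpr (by decide)⟩
def bA : alternatingGroup (Fin 5) := ⟨bP, Equiv.Perm.mem_alternatingGroup.mpr (by decide)⟩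

theorem aA_pow : aA ^ 3 = 1 := by apply Subtype.ext; decide
theorem bA_pow : bA ^ 5 = 1 := by apply Subtype.ext; decide
theorem abA_pow : (aA * bA) ^ 2 = 1 := by apply Subtype.ext; decide
theorem aA_ne : aA ≠ 1 := by
  intro h; have := congrArg Subtype.val h; revert this; decide
theorem bA_ne : bA ≠ 1 := by
  intro h; have := congrArg Subtype.val h; revert this; decide
theorem abA_ne : aA * bA ≠ 1 := by
  intro h; have := congrArg Subtype.val h; revert this; decide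

def genA : Fin 2 → alternatingGroup (Fin 5) := ![aA, bA]

theorem lift_rels : ∀ r ∈ rels, FreeGroup.lift genA r = 1 := by
  intro r hr
  simp only [rels, Set.mem_insert_iff, Set.mem_singleton_iff] at hr
  rcases hr with rfl | rfl | rfl
  · simpa [genA] using aA_pow
  · simpa [genA] using bA_pow
  · simpa [genA] using abA_pow

def φ : P →* alternatingGroup (Fin 5) := PresentedGroup.toGroup lift_rels

theorem φ_of0 : φ (PresentedGroup.of 0) = aA := by
  simp [φ, genA]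
theorem φ_of1 : φ (PresentedGroup.of 1) = bA := by
  simp [φ, genA]

theorem card_A5 : Nat.card (alternatingGroup (Fin 5)) = 60 := by
  have h := two_mul_card_alternatingGroup (α := Fin 5)
  rw [Fintype.card_perm, Fintype.card_fin] at h
  rw [Nat.card_eq_fintype_card]
  have : (5 : ℕ).factorial = 120 := by decide
  omega

theorem φ_surj : Function.Surjective φ := by
  rw [← MonoidHom.range_eq_top]
  set R := φ.range with hR
  have haR : aA ∈ R := ⟨_, φ_of0⟩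
  have hbR : bA ∈ R := ⟨_, φ_of1⟩
  have habR : aA * bA ∈ R := R.mul_mem haR hbR
  have hp3 : Fact (Nat.Prime 3) := ⟨by norm_num⟩
  have hp5 : Fact (Nat.Prime 5) := ⟨by norm_num⟩
  have hp2 : Fact (Nat.Prime 2) := ⟨by norm_num⟩
  have ho3 : orderOf aA = 3 := orderOf_eq_prime aA_pow aA_ne
  have ho5 : orderOf bA = 5 := orderOf_eq_prime bA_pow bA_ne
  have ho2 : orderOf (aA * bA) = 2 := orderOf_eq_prime abA_pow abA_ne
  have hd3 : 3 ∣ Nat.card R := by
    have h := orderOf_dvd_natCard (⟨aA, haR⟩ : R)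
    rw [Subgroup.orderOf_mk, ho3] at h; exact h
  have hd5 : 5 ∣ Nat.card R := by
    have h := orderOf_dvd_natCard (⟨bA, hbR⟩ : R)
    rw [Subgroup.orderOf_mk, ho5] at h; exact h
  have hd2 : 2 ∣ Nat.card R := by
    have h := orderOf_dvd_natCard (⟨aA * bA, habR⟩ : R)
    rw [Subgroup.orderOf_mk, ho2] at h; exact h
  have h30 : 30 ∣ Nat.card R := by
    have h6 : 6 ∣ Nat.card R := Nat.Coprime.mul_dvd_of_dvd_of_dvd (by decide) hd2 hd3
    exact Nat.Coprime.mul_dvd_of_dvd_of_dvd (by decide) h6 hd5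
  have hidx : R.index * Nat.card R = 60 := by rw [Subgroup.index_mul_card, card_A5]
  obtain ⟨k, hk⟩ := h30
  have hkpos : 0 < k := by
    rcases Nat.eq_zero_or_pos k with h0 | h0
    · rw [h0, mul_zero] at hk; rw [hk] at hidx; omega
    · exact h0
  have hik : R.index * k = 2 := by
    rw [hk] at hidx
    have : 30 * (R.index * k) = 60 := by rw [← hidx]; ring
    omega
  have hcases : R.index = 1 ∨ R.index = 2 := by
    have hdvd : R.index ∣ 2 := ⟨k, hik.symm⟩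
    exact (Nat.dvd_prime Nat.prime_two).1 hdvd
  rcases hcases with h1 | h2
  · exact Subgroup.index_eq_one.mp h1
  · exfalso
    have hnorm : R.Normal := Subgroup.normal_of_index_eq_two h2
    have hsimple : IsSimpleGroup (alternatingGroup (Fin 5)) := alternatingGroup.isSimpleGroup (by simp)
    rcases hnorm.eq_bot_or_eq_top with hb | ht
    · rw [hb, Subgroup.index_bot, card_A5] at h2; omega
    · rw [ht, Subgroup.index_top] at h2; omega

theorem result :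
    Nonempty (PresentedGroup ({FreeGroup.of (0 : Fin 2) ^ 3, FreeGroup.of (1 : Fin 2) ^ 5,
        (FreeGroup.of (0 : Fin 2) * FreeGroup.of 1) ^ 2} : Set (FreeGroup (Fin 2))) ≃* alternatingGroup (Fin 5)) := by
  obtain ⟨hfin, hcard⟩ := P_card
  have hbij : Function.Bijective φ :=
    Function.Surjective.bijective_of_nat_card_le φ_surj (by rw [card_A5]; exact hcard)
  exact ⟨MulEquiv.ofBijective φ hbij⟩

end Cfsg.Agent.S3377
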