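import Cfsg.Statements.S0804
import Mathlib
import Cfsg.Agent.S3377
import Cfsg.Agent.Lib.Helper45.SLCard

set_option autoImplicit false
open Cfsg

namespace Cfsg.Agent.S0804

section Aux

open Matrix

variable {F : Type*} [Field F]

/-- Cayley-Hamilton for SL₂ -/
lemma ch (y : Matrix.SpecialLinearGroup (Fin 2) F) :
    y.1 * y.1 = y.1.trace • y.1 - 1 := by
  have hdet := y.2
  rw [Matrix.det_fin_two] at hdet
  ext i j
  fin_cases i <;> fin_cases j <;>
    simp [Matrix.mul_apply, Fin.sum_univ_two, Matrix.trace_fin_two]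
  · linear_combination (-1 : F) * hdet
  · ring
  · ring
  · linear_combination (-1 : F) * hdet

/-- fifth power from the quadratic relation -/
lemma pow_five_of_sq (M : Matrix (Fin 2) (Fin 2) F) (τ : F) (h : M * M = τ • M - 1) :
    M ^ 5 = (τ ^ 4 - 3 * τ ^ 2 + 1) • M - (τ ^ 3 - 2 * τ) • (1 : Matrix (Fin 2) (Fin 2) F) := by
  have h3 : M ^ 3 = (τ ^ 2 - 1) • M - τ • (1 : Matrix (Fin 2) (Fin 2) F) := by
    rw [pow_succ, pow_two, h, sub_mul, one_mul, smul_mul_assoc, h]
    module
  have h4 : M ^ 4 = (τ ^ 3 - 2 * τ) • M - (τ ^ 2 - 1) • (1 : Matrix (Fin 2) (Fin 2) F) := by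
    rw [pow_succ, h3, sub_mul, smul_mul_assoc, smul_mul_assoc, one_mul, h]
    module
  rw [pow_succ, h4, sub_mul, smul_mul_assoc, smul_mul_assoc, one_mul, h]
  module

/-- the trace of a non-scalar element of order dividing 5 -/
lemma tau_of_pow_five (y : Matrix.SpecialLinearGroup (Fin 2) F) (h5 : y ^ 5 = 1)
    (hns : ∀ c : F, y.1 ≠ c • (1 : Matrix (Fin 2) (Fin 2) F)) :
    y.1.trace ^ 2 + y.1.trace - 1 = 0 := by
  set τ := y.1.trace with hτ
  have h1 := pow_five_of_sq y.1 τ (ch y)
  have h2 : y.1 ^ 5 = 1 := by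
    rw [← Matrix.SpecialLinearGroup.coe_pow, h5]; rfl
  rw [h2] at h1
  have hA : τ ^ 4 - 3 * τ ^ 2 + 1 = 0 := by
    by_contra hA
    apply hns ((τ ^ 3 - 2 * τ + 1) / (τ ^ 4 - 3 * τ ^ 2 + 1))
    have h3 : (τ ^ 4 - 3 * τ ^ 2 + 1) • y.1 = (τ ^ 3 - 2 * τ + 1) • (1 : Matrix (Fin 2) (Fin 2) F) := by
      rw [← eq_sub_iff_add_eq.mp h1, add_smul, one_smul, add_comm]
    calc y.1 = (τ ^ 4 - 3 * τ ^ 2 + 1)⁻¹ • ((τ ^ 4 - 3 * τ ^ 2 + 1) • y.1) := by
          rw [smul_smul, inv_mul_cancel₀ hA, one_smul]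
      _ = ((τ ^ 3 - 2 * τ + 1) / (τ ^ 4 - 3 * τ ^ 2 + 1)) • (1 : Matrix (Fin 2) (Fin 2) F) := by
          rw [h3, smul_smul, div_eq_inv_mul]
  have hB : τ ^ 3 - 2 * τ + 1 = 0 := by
    rw [hA, zero_smul, zero_sub] at h1
    have := congrFun (congrFun h1 0) 0
    simp at this
    linear_combination this
  by_contra hne
  have ht1 : τ = 1 := by
    have : (τ - 1) * (τ ^ 2 + τ - 1) = 0 := by linear_combination hB
    rcases mul_eq_zero.mp this with h | h
    · exact sub_eq_zero.mp h
    · exact absurd h hne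
  rw [ht1] at hA
  norm_num at hA

lemma exists_tau [Fintype F] (h5 : 5 ∣ Fintype.card F * (Fintype.card F ^ 2 - 1)) :
    ∃ τ : F, τ ^ 2 + τ - 1 = 0 := by
  haveI : Fact (Nat.Prime 5) := ⟨by norm_num⟩
  have hcard := Cfsg.Agent.Lib.Helper45.card_SL2 (F := F)
  rw [← hcard] at h5
  obtain ⟨y, hy⟩ := exists_prime_orderOf_dvd_card' (G := Matrix.SpecialLinearGroup (Fin 2) F) 5 h5
  refine ⟨y.1.trace, tau_of_pow_five y ?_ ?_⟩
  · rw [← hy]; exact pow_orderOf_eq_one y
  · intro c hc
    -- scalar element: c^2 = 1 so y^2 = 1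
    have hdet := y.2
    rw [hc, Matrix.det_smul, Matrix.det_one, mul_one, Fintype.card_fin] at hdet
    have hy2 : y ^ 2 = 1 := by
      apply Subtype.ext
      rw [Matrix.SpecialLinearGroup.coe_pow, hc, pow_two, smul_mul_smul_comm, mul_one, ← pow_two,
        hdet, one_smul]
      rfl
    have := orderOf_dvd_of_pow_eq_one hy2
    rw [hy] at this
    norm_num at this

/-- companion matrix -/
def comp (τ : F) : Matrix.SpecialLinearGroup (Fin 2) F :=
  ⟨!![0, -1; 1, τ], by simp [Matrix.det_fin_two]⟩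

lemma comp_trace (τ : F) : (comp τ).1.trace = τ := by
  simp [comp, Matrix.trace_fin_two]

lemma comp_pow_five (τ : F) (hτ : τ ^ 2 + τ - 1 = 0) : comp τ ^ 5 = 1 := by
  apply Subtype.ext
  rw [Matrix.SpecialLinearGroup.coe_pow]
  have h1 := pow_five_of_sq (comp τ).1 τ (by rw [ch, comp_trace])
  rw [h1]
  have hA : τ ^ 4 - 3 * τ ^ 2 + 1 = 0 := by linear_combination (τ ^ 2 - τ - 1) * hτ
  have hB : τ ^ 3 - 2 * τ = -1 := by linear_combination (τ - 1) * hτ
  rw [hA, hB, zero_smul, zero_sub, neg_smul, neg_neg, one_smul]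
  rfl

lemma exists_conic [Fintype F] (τ : F) (hτ : τ ^ 2 + τ - 1 = 0) :
    ∃ r t : F, r ^ 2 + τ * r * t + t ^ 2 + t + 1 = 0 := by
  by_cases h2 : (2 : F) = 0
  · refine ⟨1, 0, ?_⟩
    linear_combination h2
  by_cases h4 : τ ^ 2 = 4
  · refine ⟨1, -1, ?_⟩
    have h3 : τ = -3 := by linear_combination hτ - h4
    rw [h3]
    rw [h3] at h4
    linear_combination h4
  · have hodd : Fintype.card F % 2 = 1 := by
      have hchar : ringChar F ≠ 2 := by
        intro h
        apply h2
        have := CharP.cast_eq_zero F (ringChar F)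
        rw [h] at this
        exact_mod_cast this
      exact FiniteField.odd_card_of_char_ne_two hchar
    have hlead : (4 - τ ^ 2 : F) ≠ 0 := by
      intro h
      apply h4
      linear_combination (-1 : F) * h
    have h4' : (4 : F) ≠ 0 := by
      have : (4 : F) = 2 * 2 := by norm_num
      rw [this]; exact mul_ne_zero h2 h2
    have hf : (Polynomial.X ^ 2 : Polynomial F).degree = 2 := Polynomial.degree_X_pow 2
    have hg : (Polynomial.C (4 - τ ^ 2) * Polynomial.X ^ 2 + Polynomial.C 4 * Polynomial.X +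
        Polynomial.C 4 : Polynomial F).degree = 2 := Polynomial.degree_quadratic hlead
    obtain ⟨a, b, hab⟩ := FiniteField.exists_root_sum_quadratic hf hg hodd
    simp only [Polynomial.eval_pow, Polynomial.eval_X, Polynomial.eval_add, Polynomial.eval_mul,
      Polynomial.eval_C] at hab
    refine ⟨(a - τ * b) / 2, b, ?_⟩
    set r := (a - τ * b) / 2 with hr
    have h2r : 2 * r = a - τ * b := by rw [hr]; field_simp
    have h5 : 4 * (r ^ 2 + τ * r * b + b ^ 2 + b + 1) = 0 := by
      linear_combination hab + (2 * r + (a - τ * b) + 2 * τ * b) * h2r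
    exact (mul_eq_zero.mp h5).resolve_left h4'

/-- the order three generator -/
def xmat (τ r t : F) (h : r ^ 2 + τ * r * t + t ^ 2 + t + 1 = 0) :
    Matrix.SpecialLinearGroup (Fin 2) F :=
  ⟨!![-1 - t, r; r + t * τ, t], by
    rw [Matrix.det_fin_two]
    simp
    linear_combination (-1 : F) * h⟩

lemma xmat_pow_three (τ r t : F) (h : r ^ 2 + τ * r * t + t ^ 2 + t + 1 = 0) :
    xmat τ r t h ^ 3 = 1 := by
  apply Subtype.ext
  rw [Matrix.SpecialLinearGroup.coe_pow]
  have h1 := ch (xmat τ r t h)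
  have htr : (xmat τ r t h).1.trace = -1 := by
    simp [xmat, Matrix.trace_fin_two]
  rw [htr] at h1
  rw [pow_succ, pow_two, h1]
  have : (((-1 : F) • (xmat τ r t h).1 - 1) * (xmat τ r t h).1) =
      -((xmat τ r t h).1 * (xmat τ r t h).1) - (xmat τ r t h).1 := by
    rw [sub_mul, one_mul, smul_mul_assoc, neg_one_smul]
  rw [this, h1]
  simp

lemma xy_sq (τ r t : F) (h : r ^ 2 + τ * r * t + t ^ 2 + t + 1 = 0) :
    ((xmat τ r t h * comp τ).1 * (xmat τ r t h * comp τ).1) = -1 := by
  have h1 := ch (xmat τ r t h * comp τ)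
  have htr : (xmat τ r t h * comp τ).1.trace = 0 := by
    rw [Matrix.SpecialLinearGroup.coe_mul]
    simp [xmat, comp, Matrix.trace_fin_two, Matrix.mul_apply, Fin.sum_univ_two]
  rw [htr, zero_smul, zero_sub] at h1
  exact h1

/-- an element whose square is `-1` squares into the centre -/
lemma sq_mem_center (z : Matrix.SpecialLinearGroup (Fin 2) F) (hz : z.1 * z.1 = -1) :
    z ^ 2 ∈ Subgroup.center (Matrix.SpecialLinearGroup (Fin 2) F) := by
  rw [Subgroup.mem_center_iff]
  intro g
  apply Subtype.ext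
  rw [Matrix.SpecialLinearGroup.coe_mul, Matrix.SpecialLinearGroup.coe_mul,
    Matrix.SpecialLinearGroup.coe_pow, pow_two, hz]
  simp

def upp : Matrix.SpecialLinearGroup (Fin 2) F :=
  ⟨!![1, 1; 0, 1], by simp [Matrix.det_fin_two]⟩

lemma comp_not_mem_center (τ : F) :
    comp τ ∉ Subgroup.center (Matrix.SpecialLinearGroup (Fin 2) F) := by
  intro h
  rw [Subgroup.mem_center_iff] at h
  have h1 := h upp
  have h2 : ((upp : Matrix.SpecialLinearGroup (Fin 2) F).1 * (comp τ).1) 0 0
      = ((comp τ).1 * (upp : Matrix.SpecialLinearGroup (Fin 2) F).1) 0 0 := by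
    have := congrArg (fun M : Matrix.SpecialLinearGroup (Fin 2) F => M.1) h1
    simp only [Matrix.SpecialLinearGroup.coe_mul] at this
    rw [this]
  simp [comp, upp, Matrix.mul_apply, Fin.sum_univ_two] at h2

end Aux

/-- PSL_2(q) has a subgroup isomorphic to A_5 iff 5 ∣ q(q² − 1). -/
theorem result {F : Type*} [Field F] [Fintype F] {q : ℕ} (hF : Fintype.card F = q) : (∃ H : Subgroup (Matrix.ProjectiveSpecialLinearGroup (Fin 2) F), Nonempty (H ≃* alternatingGroup (Fin 5))) ↔ 5 ∣ q * (q ^ 2 - 1) := by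
  classical
  constructor
  · rintro ⟨H, ⟨e⟩⟩
    have hcardH : Nat.card H = 60 := by
      rw [Nat.card_congr e.toEquiv, Nat.card_eq_fintype_card]
      have h2 := two_mul_card_alternatingGroup (α := Fin 5)
      rw [Fintype.card_perm, Fintype.card_fin] at h2
      have : (Nat.factorial 5) = 120 := by decide
      omega
    have h1 : Nat.card H ∣ Nat.card (Matrix.ProjectiveSpecialLinearGroup (Fin 2) F) :=
      Subgroup.card_subgroup_dvd_card H
    have h2 : Nat.card (Matrix.ProjectiveSpecialLinearGroup (Fin 2) F) ∣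
        Nat.card (Matrix.SpecialLinearGroup (Fin 2) F) :=
      Subgroup.card_quotient_dvd_card _
    have h3 := Cfsg.Agent.Lib.Helper45.card_SL2 (F := F)
    rw [h3, hF] at h2
    rw [hcardH] at h1
    exact dvd_trans (by norm_num) (dvd_trans h1 h2)
  · intro h5
    rw [← hF] at h5
    obtain ⟨τ, hτ⟩ := exists_tau (F := F) h5
    obtain ⟨r, t, hrt⟩ := exists_conic τ hτ
    set x := xmat τ r t hrt with hx
    set y := comp τ with hy
    let Z := Subgroup.center (Matrix.SpecialLinearGroup (Fin 2) F)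
    let X : Matrix.ProjectiveSpecialLinearGroup (Fin 2) F := QuotientGroup.mk x
    let Y : Matrix.ProjectiveSpecialLinearGroup (Fin 2) F := QuotientGroup.mk y
    have hX : X ^ 3 = 1 := by
      show (QuotientGroup.mk x : Matrix.ProjectiveSpecialLinearGroup (Fin 2) F) ^ 3 = 1
      rw [← QuotientGroup.mk_pow, hx, xmat_pow_three]; rfl
    have hY : Y ^ 5 = 1 := by
      show (QuotientGroup.mk y : Matrix.ProjectiveSpecialLinearGroup (Fin 2) F) ^ 5 = 1
      rw [← QuotientGroup.mk_pow, hy, comp_pow_five τ hτ]; rfl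
    have hXY : (X * Y) ^ 2 = 1 := by
      show ((QuotientGroup.mk x : Matrix.ProjectiveSpecialLinearGroup (Fin 2) F) * QuotientGroup.mk y) ^ 2 = 1
      rw [← QuotientGroup.mk_mul, ← QuotientGroup.mk_pow]
      exact (QuotientGroup.eq_one_iff _).mpr (sq_mem_center _ (xy_sq τ r t hrt))
    have hYne : Y ≠ 1 := by
      intro h
      exact comp_not_mem_center τ ((QuotientGroup.eq_one_iff _).mp h)
    obtain ⟨e⟩ := Cfsg.Agent.S3377.result
    let rels : Set (FreeGroup (Fin 2)) := {FreeGroup.of (0 : Fin 2) ^ 3, FreeGroup.of (1 : Fin 2) ^ 5,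
        (FreeGroup.of (0 : Fin 2) * FreeGroup.of 1) ^ 2}
    let f : Fin 2 → Matrix.ProjectiveSpecialLinearGroup (Fin 2) F := ![X, Y]
    have hrels : ∀ r ∈ rels, FreeGroup.lift f r = 1 := by
      intro r hr
      rcases hr with rfl | rfl | rfl
      · simpa [f] using hX
      · simpa [f] using hY
      · simpa [f] using hXY
    let φ : PresentedGroup rels →* Matrix.ProjectiveSpecialLinearGroup (Fin 2) F :=
      PresentedGroup.toGroup hrels
    let ψ : alternatingGroup (Fin 5) →* Matrix.ProjectiveSpecialLinearGroup (Fin 2) F :=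
      φ.comp e.symm.toMonoidHom
    have hψinj : Function.Injective ψ := by
      have hsimple : IsSimpleGroup (alternatingGroup (Fin 5)) :=
        alternatingGroup.isSimpleGroup (by simp)
      rcases ((MonoidHom.normal_ker ψ).eq_bot_or_eq_top) with h | h
      · exact (MonoidHom.ker_eq_bot_iff ψ).mp h
      · exfalso
        apply hYne
        have : ψ (e (PresentedGroup.of 1)) = 1 := by
          have : e (PresentedGroup.of 1) ∈ ψ.ker := by rw [h]; trivial
          exact this
        simpa [ψ, φ, f] using this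
    exact ⟨ψ.range, ⟨(MonoidHom.ofInjective hψinj).symm⟩⟩

end Cfsg.Agent.S0804
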