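import Cfsg.Statements.S0695
import Cfsg.Agent.Lib.Helper17.RegularNormal

set_option autoImplicit false
open Cfsg

namespace Cfsg.Agent.S0695

open MulAction SubMulAction Cfsg.Agent.Lib.Helper17
open scoped Pointwise

variable {G : Type*} [Group G] {X : Type*} [MulAction G X]

/-- the bijection `N ≃ X` for a regular subgroup -/
noncomputable def regEquiv (N : Subgroup G) [htrans : IsPretransitive N X] (x₀ : X)
    (hreg : stabilizer N x₀ = ⊥) : N ≃ X :=
  Equiv.ofBijective (fun n : N => (n : G) • x₀) ⟨fun n m h =>
    Subtype.ext (smul_inj_of_stabilizer_eq_bot N x₀ hreg n.2 m.2 h), fun y => by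
      obtain ⟨n, hn⟩ := exists_smul_eq N x₀ y
      exact ⟨n, hn⟩⟩

/-- a group of exponent two: commutative and of 2-power order -/
theorem exp_two (N : Subgroup G) [Finite N] (h : ∀ n ∈ N, n ^ 2 = 1) :
    IsMulCommutative N ∧ ∃ m : ℕ, Nat.card N = 2 ^ m := by
  have hinv : ∀ n ∈ N, n⁻¹ = n := by
    intro n hn
    have := h n hn
    rw [pow_two] at this
    exact inv_eq_of_mul_eq_one_left this
  constructor
  · refine ⟨⟨fun a b => ?_⟩⟩
    apply Subtype.ext
    change (a : G) * b = b * a
    have h1 := hinv _ (N.mul_mem a.2 b.2)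
    rw [mul_inv_rev, hinv _ a.2, hinv _ b.2] at h1
    exact h1.symm
  · have : Fact (Nat.Prime 2) := ⟨Nat.prime_two⟩
    have hp : IsPGroup 2 N := by
      intro n
      refine ⟨1, ?_⟩
      apply Subtype.ext
      rw [pow_one]
      exact h n n.2
    exact hp.exists_card_eq

/-- A regular normal subgroup of a doubly primitive group of finite degree at least 2 is an elementary abelian 2-group (and the degree is a power of 2), unless the degree is 3. -/
theorem result {G : Type*} [Group G] {X : Type*} [Fintype X] [MulAction G X] (hX : 2 ≤ Fintype.card X) (h2 : MulAction.IsMultiplyPreprimitive G X 2) (N : Subgroup G) [N.Normal] (htrans : MulAction.IsPretransitive N X) (hreg : ∀ x : X, MulAction.stabilizer N x = ⊥) : Fintype.card X = 3 ∨ (IsMulCommutative N ∧ (∀ n ∈ N, n ^ 2 = 1) ∧ ∃ m : ℕ, Fintype.card X = 2 ^ m) := by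
  classical
  have hne : Nonempty X := by
    rw [← Fintype.card_pos_iff]; omega
  obtain ⟨x₀⟩ := hne
  have hT2 : IsMultiplyPretransitive G X 2 := h2.isMultiplyPretransitive
  have hT : IsPretransitive G X := isPretransitive_of_is_two_pretransitive
  have hpre : IsPreprimitive (stabilizer G x₀) (ofStabilizer G x₀) := by
    rw [← is_one_preprimitive_iff]
    exact isMultiplyPreprimitive_ofStabilizer G X
  let e := regEquiv N x₀ (hreg x₀)
  have hfin : Finite N := Finite.of_equiv X e.symm
  have hcardN : Nat.card N = Fintype.card X := by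
    rw [Nat.card_congr e, Nat.card_eq_fintype_card]
  -- key dichotomy
  have key : (∀ n ∈ N, n ^ 2 = 1) ∨ Fintype.card X ≤ 3 := by
    by_contra hcon
    push Not at hcon
    obtain ⟨⟨n, hn, hn2⟩, hcard⟩ := hcon
    have hn1 : n ≠ 1 := by
      rintro rfl
      exact hn2 (one_pow 2)
    have hnx : n • x₀ ≠ x₀ := by
      intro h
      apply hn1
      apply smul_inj_of_stabilizer_eq_bot N x₀ (hreg x₀) hn N.one_mem
      rw [h, one_smul]
    have hnx' : n⁻¹ • x₀ ≠ x₀ := by
      intro h
      apply hnx
      rw [inv_smul_eq_iff] at h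
      exact h.symm
    have hblockX := isBlock_invPair N x₀ (hreg x₀) hn
    let B : Set (ofStabilizer G x₀) := Subtype.val ⁻¹' (invPair x₀ n)
    have himg : Subtype.val '' B = invPair x₀ n := by
      change Subtype.val '' (Subtype.val ⁻¹' (invPair x₀ n)) = invPair x₀ n
      rw [Set.image_preimage_eq_inter_range, Set.inter_eq_left, Subtype.range_coe_subtype]
      intro y hy
      change y ∈ ofStabilizer G x₀
      rw [mem_ofStabilizer_iff]
      rcases hy with rfl | rfl
      · exact hnx
      · exact hnx'
    have hblock : IsBlock (stabilizer G x₀) B := by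
      rw [← isBlock_subtypeVal, himg]
      exact hblockX
    rcases hpre.isTrivialBlock_of_isBlock hblock with hs | hu
    · -- subsingleton: n x₀ = n⁻¹ x₀
      have h1 : (⟨n • x₀, (mem_ofStabilizer_iff G x₀).mpr hnx⟩ : ofStabilizer G x₀) ∈ B := by
        change n • x₀ ∈ invPair x₀ n
        exact Or.inl rfl
      have h2 : (⟨n⁻¹ • x₀, (mem_ofStabilizer_iff G x₀).mpr hnx'⟩ : ofStabilizer G x₀) ∈ B := by
        change n⁻¹ • x₀ ∈ invPair x₀ n
        exact Or.inr rfl
      have h3 := hs h1 h2
      have h4 : n • x₀ = n⁻¹ • x₀ := congrArg Subtype.val h3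
      have h5 := smul_inj_of_stabilizer_eq_bot N x₀ (hreg x₀) hn (N.inv_mem hn) h4
      apply hn2
      rw [pow_two]
      nth_rewrite 1 [h5]
      exact inv_mul_cancel n
    · -- everything: card ≤ 3
      have hsub : (Finset.univ : Finset X) ⊆ {x₀, n • x₀, n⁻¹ • x₀} := by
        intro y _
        by_cases hy : y = x₀
        · simp [hy]
        · have : (⟨y, (mem_ofStabilizer_iff G x₀).mpr hy⟩ : ofStabilizer G x₀) ∈ B := by
            rw [hu]; trivial
          have h' : y ∈ invPair x₀ n := this
          rcases h' with rfl | rfl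
          · simp
          · simp
      have := Finset.card_le_card hsub
      have h3 : ({x₀, n • x₀, n⁻¹ • x₀} : Finset X).card ≤ 3 := Finset.card_le_three
      rw [Finset.card_univ] at this
      omega
  have hexp : (∀ n ∈ N, n ^ 2 = 1) ∨ Fintype.card X = 3 := by
    rcases key with h | h
    · exact Or.inl h
    · by_cases h3 : Fintype.card X = 3
      · exact Or.inr h3
      · left
        have hc2 : Nat.card N = 2 := by rw [hcardN]; omega
        intro n hn
        have := pow_card_eq_one' (G := N) (x := ⟨n, hn⟩)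
        rw [hc2] at this
        exact congrArg Subtype.val this
  rcases hexp with h | h
  · right
    obtain ⟨hc, m, hm⟩ := exp_two N h
    exact ⟨hc, h, m, by rw [← hcardN, hm]⟩
  · exact Or.inl h

end Cfsg.Agent.S0695
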