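import Cfsg.Statements.S0499
import Cfsg.Agent.Lib.Helper41.Frobenius
import Cfsg.Agent.Lib.Helper03.AbelianSylowAut

set_option autoImplicit false
open Cfsg

namespace Cfsg.Agent.S0499

theorem not_hasNormalPComplement {G : Type*} [Group G] [Finite G] [IsSimpleGroup G]
    (hG : ¬ IsMulCommutative G) (h2 : Even (Nat.card G)) : ¬ Cfsg.HasNormalPComplement 2 G := by
  rintro ⟨P, N, hNn, hc⟩
  have hcard := hc.card_mul_card
  rcases hNn.eq_bot_or_eq_top with h | h
  · -- G is a 2-group
    rw [h, Subgroup.card_bot, one_mul] at hcard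
    have hPtop : (P : Subgroup G) = ⊤ := Subgroup.eq_top_of_card_eq _ hcard
    have hp : IsPGroup 2 G := by
      intro g
      obtain ⟨k, hk⟩ := P.2 ⟨g, hPtop ▸ Subgroup.mem_top g⟩
      exact ⟨k, by simpa using congrArg Subtype.val hk⟩
    have hnt : Nontrivial G := IsSimpleGroup.toNontrivial
    have hc := hp.center_nontrivial
    have hcn : (Subgroup.center G).Normal := inferInstance
    rcases hcn.eq_bot_or_eq_top with h' | h'
    · exact (Subgroup.nontrivial_iff_ne_bot _).mp hc h'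
    · exact hG (Subgroup.center_eq_top_iff.mp h')
  · rw [h, Subgroup.card_top] at hcard
    have h1 : Nat.card (P : Subgroup G) = 1 := by
      have hpos : 0 < Nat.card G := Nat.card_pos
      exact Nat.eq_of_mul_eq_mul_left hpos (by rw [hcard, mul_one])
    have hdvd : 2 ∣ Nat.card G := h2.two_dvd
    have := P.ne_bot_of_dvd_card hdvd
    exact this (Subgroup.card_eq_one.mp h1)

/-- A non-abelian finite simple group of even order has order divisible by 12, 16 or 56. -/
theorem result {G : Type*} [Group G] [Finite G] [IsSimpleGroup G]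
    (hG : ¬ IsMulCommutative G) (h2 : Even (Nat.card G)) :
    12 ∣ Nat.card G ∨ 16 ∣ Nat.card G ∨ 56 ∣ Nat.card G := by
  have hno := not_hasNormalPComplement hG h2
  rw [Cfsg.Agent.Lib.Helper41.hasNormalPComplement_iff_frobCond] at hno
  unfold Cfsg.Agent.Lib.Helper41.FrobCond at hno
  push Not at hno
  obtain ⟨Q, hQ, g, hgN, hcop, hgC⟩ := hno
  set φ := Q.normalizerMonoidHom with hφ
  set σ : MulAut Q := φ ⟨g, hgN⟩ with hσ
  have hσ1 : σ ≠ 1 := by
    intro h
    have : (⟨g, hgN⟩ : Subgroup.normalizer (Q : Set G)) ∈ φ.ker := h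
    rw [Subgroup.normalizerMonoidHom_ker] at this
    exact hgC this
  have hord : orderOf σ ∣ orderOf g := by
    have := orderOf_map_dvd φ (⟨g, hgN⟩ : Subgroup.normalizer (Q : Set G))
    rwa [Subgroup.orderOf_mk] at this
  have hσo : orderOf σ ≠ 1 := fun h => hσ1 (orderOf_eq_one_iff.mp h)
  have hgpos : orderOf g ≠ 0 := (orderOf_pos g).ne'
  have hσpos : orderOf σ ≠ 0 := fun h => hgpos (by rw [h] at hord; exact zero_dvd_iff.mp hord)
  obtain ⟨q, hq, hqσ⟩ := Nat.exists_prime_and_dvd hσo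
  have hτ : orderOf (σ ^ (orderOf σ / q)) = q := orderOf_pow_orderOf_div hσpos hqσ
  obtain ⟨n, hn⟩ := IsPGroup.iff_card.mp hQ
  obtain ⟨j, hj, hdvd⟩ := Cfsg.Agent.Lib.Helper03.exists_lt_dvd_sub_of_orderOf_mulAut
    Nat.prime_two hq hn _ hτ
  have hqg : q ∣ orderOf g := hqσ.trans hord
  have hqG : q ∣ Nat.card G := hqg.trans (orderOf_dvd_natCard g)
  have hq2 : q ≠ 2 := by
    intro h
    rw [h] at hqg
    have := Nat.Coprime.eq_one_of_dvd hcop.symm hqg
    omega
  have h2n : 2 ^ n ∣ Nat.card G := hn ▸ Subgroup.card_subgroup_dvd_card Q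
  by_cases hn4 : 4 ≤ n
  · right; left
    exact (pow_dvd_pow 2 hn4).trans h2n
  · push Not at hn4
    have key : ∀ m : ℕ, 0 < m → q ∣ m → m ≤ 7 → q = 3 ∧ 3 ∣ m ∨ q = 7 ∧ m = 7 ∨ q = 5 ∧ 5 ∣ m := by
      intro m hm hqm hm7
      have hq7 : q ≤ 7 := (Nat.le_of_dvd hm hqm).trans hm7
      have hq2' : 2 ≤ q := hq.two_le
      interval_cases q
      · exact absurd rfl hq2
      · left; exact ⟨rfl, hqm⟩
      · exact absurd hq (by norm_num)
      · right; right; exact ⟨rfl, hqm⟩
      · exact absurd hq (by norm_num)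
      · right; left
        refine ⟨rfl, ?_⟩
        have := Nat.le_of_dvd hm hqm
        omega
    interval_cases n
    · omega
    · interval_cases j
      have h1 : (2 : ℕ) ^ 1 - 2 ^ 0 = 1 := by norm_num
      rw [h1] at hdvd
      have := Nat.le_of_dvd (by norm_num) hdvd
      have := hq.two_le
      omega
    · have h4 : 4 ∣ Nat.card G := by simpa using h2n
      interval_cases j
      · have h1 : (2 : ℕ) ^ 2 - 2 ^ 0 = 3 := by norm_num
        rw [h1] at hdvd
        rcases key 3 (by norm_num) hdvd (by norm_num) with ⟨rfl, -⟩ | ⟨rfl, h⟩ | ⟨rfl, h⟩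
        · left; omega
        · omega
        · omega
      · have h1 : (2 : ℕ) ^ 2 - 2 ^ 1 = 2 := by norm_num
        rw [h1] at hdvd
        rcases key 2 (by norm_num) hdvd (by norm_num) with ⟨rfl, h⟩ | ⟨rfl, h⟩ | ⟨rfl, h⟩ <;> omega
    · have h8 : 8 ∣ Nat.card G := by simpa using h2n
      interval_cases j
      · have h1 : (2 : ℕ) ^ 3 - 2 ^ 0 = 7 := by norm_num
        rw [h1] at hdvd
        rcases key 7 (by norm_num) hdvd (by norm_num) with ⟨rfl, h⟩ | ⟨rfl, -⟩ | ⟨rfl, h⟩
        · omega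
        · right; right; omega
        · omega
      · have h1 : (2 : ℕ) ^ 3 - 2 ^ 1 = 6 := by norm_num
        rw [h1] at hdvd
        rcases key 6 (by norm_num) hdvd (by norm_num) with ⟨rfl, -⟩ | ⟨rfl, h⟩ | ⟨rfl, h⟩
        · left; omega
        · omega
        · omega
      · have h1 : (2 : ℕ) ^ 3 - 2 ^ 2 = 4 := by norm_num
        rw [h1] at hdvd
        rcases key 4 (by norm_num) hdvd (by norm_num) with ⟨rfl, h⟩ | ⟨rfl, h⟩ | ⟨rfl, h⟩ <;> omega

end Cfsg.Agent.S0499
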