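import Cfsg.Statements.S4250
import Cfsg.Agent.Lib.Helper42.Alperin

set_option autoImplicit false
open Cfsg

namespace Cfsg.Agent.S4250
open Cfsg.Agent.Lib.Helper42 Cfsg.Agent.S2012
open scoped commutatorElement
set_option linter.style.haveILetI false
set_option linter.unusedSectionVars false

section aux
variable {G : Type*} [Group G] [Finite G] {p : ℕ} [Fact p.Prime]

/-- the right-hand side of the statement -/
def rhs (P : Sylow p G) : Subgroup G :=
  ⁅(P : Subgroup G), Subgroup.normalizer ((P : Subgroup G) : Set G)⁆ ⊔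
        ⨆ (Q : Sylow p G) (_ : (¬ p ∣ ((P : Subgroup G) ⊓ Subgroup.normalizer (((P : Subgroup G) ⊓ (Q : Subgroup G) : Subgroup G) : Set G)).relIndex (Subgroup.normalizer (((P : Subgroup G) ⊓ (Q : Subgroup G) : Subgroup G) : Set G)) ∧ ¬ p ∣ ((Q : Subgroup G) ⊓ Subgroup.normalizer (((P : Subgroup G) ⊓ (Q : Subgroup G) : Subgroup G) : Set G)).relIndex (Subgroup.normalizer (((P : Subgroup G) ⊓ (Q : Subgroup G) : Subgroup G) : Set G))))
          (x : G) (_ : x ∈ Subgroup.normalizer (((P : Subgroup G) ⊓ (Q : Subgroup G) : Subgroup G) : Set G) ∧ ∃ k : ℕ, orderOf x = p ^ k),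
          ⁅(P : Subgroup G) ⊓ (Q : Subgroup G), Subgroup.zpowers x⁆

theorem step_mem (P T : Sylow p G) (x : G) (hs : StepOK P T x) (a : G)
    (ha : a ∈ (P : Subgroup G) ⊓ (T : Subgroup G)) : ⁅a, x⁻¹⁆ ∈ rhs P := by
  obtain ⟨hx, h1, h2, h3⟩ := hs
  unfold rhs
  rcases h3 with hTP | hxp
  · apply Subgroup.mem_sup_left
    apply Subgroup.commutator_mem_commutator ha.1
    rw [hTP, inf_idem] at hx
    exact Subgroup.inv_mem _ hx
  · apply Subgroup.mem_sup_right
    have : ⁅a, x⁻¹⁆ ∈ ⁅(P : Subgroup G) ⊓ (T : Subgroup G), Subgroup.zpowers x⁆ :=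
      Subgroup.commutator_mem_commutator ha (Subgroup.inv_mem _ (Subgroup.mem_zpowers x))
    refine Subgroup.mem_iSup_of_mem T ?_
    refine Subgroup.mem_iSup_of_mem ⟨h1, h2⟩ ?_
    refine Subgroup.mem_iSup_of_mem x ?_
    refine Subgroup.mem_iSup_of_mem ⟨hx, hxp⟩ ?_
    exact this

theorem valid_mem (P : Sylow p G) : ∀ (l : List (Sylow p G × G)) (A : Set G), Valid P A l →
    ∀ a ∈ A, a * ((l.map Prod.snd).prod⁻¹ * a * (l.map Prod.snd).prod)⁻¹ ∈ rhs P := by
  intro l
  induction l with
  | nil => intro A _ a _; simp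
  | cons tx l ih =>
    intro A hv a ha
    obtain ⟨T, x⟩ := tx
    obtain ⟨hs, hA, hv'⟩ := valid_cons P T x A l hv
    have h1 := step_mem P T x hs a (hA ha)
    have h2 := ih (cj x A) hv' (x⁻¹ * a * x) ⟨a, ha, rfl⟩
    have := (rhs P).mul_mem h1 h2
    convert this using 1
    simp only [List.map_cons, List.prod_cons, commutatorElement_def]
    group


end aux


/-- Let P be a Sylow p-subgroup of a finite group G. Call an intersection H = P ∩ Q with a Sylow p-subgroup Q tame when N_P(H) and N_Q(H) are Sylow p-subgroups of N_G(H). Then P ∩ G′ is generated by [P, N_G(P)] together with the commutator subgroups [P ∩ Q, ⟨x⟩] for all tame intersections P ∩ Q and all p-elements x of N_G(P ∩ Q). -/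
theorem result {G : Type*} [Group G] [Finite G] (p : ℕ) [Fact p.Prime] (P : Sylow p G) :
    (P : Subgroup G) ⊓ commutator G =
      ⁅(P : Subgroup G), Subgroup.normalizer ((P : Subgroup G) : Set G)⁆ ⊔
        ⨆ (Q : Sylow p G) (_ : (¬ p ∣ ((P : Subgroup G) ⊓ Subgroup.normalizer (((P : Subgroup G) ⊓ (Q : Subgroup G) : Subgroup G) : Set G)).relIndex (Subgroup.normalizer (((P : Subgroup G) ⊓ (Q : Subgroup G) : Subgroup G) : Set G)) ∧ ¬ p ∣ ((Q : Subgroup G) ⊓ Subgroup.normalizer (((P : Subgroup G) ⊓ (Q : Subgroup G) : Subgroup G) : Set G)).relIndex (Subgroup.normalizer (((P : Subgroup G) ⊓ (Q : Subgroup G) : Subgroup G) : Set G))))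
          (x : G) (_ : x ∈ Subgroup.normalizer (((P : Subgroup G) ⊓ (Q : Subgroup G) : Subgroup G) : Set G) ∧ ∃ k : ℕ, orderOf x = p ^ k),
          ⁅(P : Subgroup G) ⊓ (Q : Subgroup G), Subgroup.zpowers x⁆ := by
  show _ = rhs P
  apply le_antisymm
  · -- focal subgroup theorem + Alperin
    rw [inf_comm, Subgroup.commutator_inf_eq_focalSubgroup, Subgroup.focalSubgroup_def,
      Subgroup.closure_le]
    rintro g ⟨hgP, a, haP, u, rfl⟩
    -- `u a u⁻¹ ∈ P`
    have huP : u * a * u⁻¹ ∈ (P : Subgroup G) := by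
      have := (P : Subgroup G).mul_mem (Subgroup.inv_mem _ hgP) haP
      have e : ⁅a, u⁆⁻¹ * a = u * a * u⁻¹ := by
        rw [commutatorElement_def]; group
      rwa [e] at this
    have hgood : Good P ({a} : Set G) u⁻¹ := by
      apply good_of_subset P
      · intro b hb; rw [Set.mem_singleton_iff.mp hb]; exact haP
      · rintro _ ⟨b, hb, rfl⟩
        rw [Set.mem_singleton_iff.mp hb]
        show u⁻¹⁻¹ * a * u⁻¹ ∈ (P : Subgroup G)
        rw [inv_inv]
        exact huP
    obtain ⟨l, hv, hprod, -⟩ := hgood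
    have := valid_mem P l {a} hv a rfl
    rw [hprod] at this
    have e : a * (u⁻¹⁻¹ * a * u⁻¹)⁻¹ = ⁅a, u⁆ := by
      rw [commutatorElement_def]; group
    rwa [e] at this
  · unfold rhs
    apply sup_le
    · apply le_inf
      · rw [Subgroup.commutator_le]
        intro a ha n hn
        rw [commutatorElement_def]
        have : n * a⁻¹ * n⁻¹ ∈ (P : Subgroup G) :=
          (Subgroup.mem_normalizer_iff.mp hn a⁻¹).mp (Subgroup.inv_mem _ ha)
        have h2 := (P : Subgroup G).mul_mem ha this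
        convert h2 using 1
        group
      · rw [commutator_def]
        exact Subgroup.commutator_mono le_top le_top
    · refine iSup_le fun Q => iSup_le fun _ => iSup_le fun x => iSup_le fun hx => ?_
      apply le_inf
      · refine le_trans ?_ (inf_le_left : (P : Subgroup G) ⊓ (Q : Subgroup G) ≤ (P : Subgroup G))
        rw [Subgroup.commutator_le]
        intro a ha y hy
        have hyN : y ∈ Subgroup.normalizer (((P : Subgroup G) ⊓ (Q : Subgroup G) : Subgroup G) : Set G) :=
          (Subgroup.zpowers_le.mpr hx.1) hy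
        rw [commutatorElement_def]
        have : y * a⁻¹ * y⁻¹ ∈ (P : Subgroup G) ⊓ (Q : Subgroup G) :=
          (Subgroup.mem_normalizer_iff.mp hyN a⁻¹).mp (Subgroup.inv_mem _ ha)
        have h2 := ((P : Subgroup G) ⊓ (Q : Subgroup G)).mul_mem ha this
        convert h2 using 1
        group
      · rw [commutator_def]
        exact Subgroup.commutator_mono le_top le_top

end Cfsg.Agent.S4250
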