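import Cfsg.Statements.S4216
import Cfsg.Agent.S4250
import Cfsg.Agent.Lib.Helper42.Conj

set_option autoImplicit false
open Cfsg

namespace Cfsg.Agent.S4216

open Cfsg.Agent.Lib.Helper42
open scoped commutatorElement
set_option linter.style.haveILetI false
set_option linter.unusedSectionVars false

/-- Grün's first Theorem: if `P` is a Sylow `p`-subgroup of the finite group `G`, then `P ∩ G'` is the subgroup generated by `P ∩ N_G(P)'` together with the subgroups `P ∩ z P' z⁻¹` for all `z ∈ G`, where `'` denotes the derived subgroup and `N_G(P)` the normalizer of `P`. -/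
theorem result {G : Type*} [Group G] [Finite G] {p : ℕ} [Fact p.Prime] (P : Sylow p G) : (P : Subgroup G) ⊓ commutator G = ((P : Subgroup G) ⊓ ⁅Subgroup.normalizer ((P : Subgroup G) : Set G), Subgroup.normalizer ((P : Subgroup G) : Set G)⁆) ⊔ ⨆ z : G, (P : Subgroup G) ⊓ (⁅(P : Subgroup G), (P : Subgroup G)⁆).map (MulAut.conj z).toMonoidHom := by
  have hcomm_le : ∀ (H : Subgroup G) (z : G),
      (⁅H, H⁆).map (MulAut.conj z).toMonoidHom ≤ commutator G := by
    intro H z
    rw [commutator_def]
    rw [Subgroup.map_commutator]
    exact Subgroup.commutator_mono le_top le_top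
  apply le_antisymm
  · rw [Cfsg.Agent.S4250.result p P]
    apply sup_le
    · apply le_sup_of_le_left
      apply le_inf
      · rw [Subgroup.commutator_le]
        intro a ha n hn
        rw [commutatorElement_def]
        have : n * a⁻¹ * n⁻¹ ∈ (P : Subgroup G) :=
          (Subgroup.mem_normalizer_iff.mp hn a⁻¹).mp (Subgroup.inv_mem _ ha)
        have h2 := (P : Subgroup G).mul_mem ha this
        convert h2 using 1
        group
      · exact Subgroup.commutator_mono Subgroup.le_normalizer le_rfl
    · refine iSup_le fun Q => iSup_le fun hQ => iSup_le fun x => iSup_le fun hx => ?_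
      apply le_sup_of_le_right
      obtain ⟨hxN, k, hk⟩ := hx
      have hB : IsPGroup p (Subgroup.zpowers x) := by
        intro y
        obtain ⟨y, hy⟩ := y
        obtain ⟨m, rfl⟩ := Subgroup.mem_zpowers_iff.mp hy
        refine ⟨k, ?_⟩
        apply Subtype.ext
        simp only [Subgroup.coe_pow, Subgroup.coe_one]
        rw [← zpow_natCast, ← zpow_mul, mul_comm, zpow_mul, zpow_natCast, ← hk, pow_orderOf_eq_one,
          one_zpow]
      have hS : IsPGroup p ((P : Subgroup G) ⊓ Subgroup.normalizer
          (((P : Subgroup G) ⊓ (Q : Subgroup G) : Subgroup G) : Set G) : Subgroup G) :=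
        P.2.to_le inf_le_left
      obtain ⟨e, he, hconj⟩ := exists_conj_mem_of_le' p
        (Subgroup.normalizer (((P : Subgroup G) ⊓ (Q : Subgroup G) : Subgroup G) : Set G))
        ((P : Subgroup G) ⊓ Subgroup.normalizer (((P : Subgroup G) ⊓ (Q : Subgroup G) : Subgroup G) : Set G))
        (Subgroup.zpowers x) hS hQ.1 hB (Subgroup.zpowers_le.mpr hxN)
      refine le_trans ?_ (le_iSup _ e⁻¹)
      rw [Subgroup.commutator_le]
      intro a ha b hb
      have hbN : b ∈ Subgroup.normalizer (((P : Subgroup G) ⊓ (Q : Subgroup G) : Subgroup G) : Set G) :=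
        (Subgroup.zpowers_le.mpr hxN) hb
      refine ⟨?_, ?_⟩
      · apply (inf_le_left : (P : Subgroup G) ⊓ (Q : Subgroup G) ≤ (P : Subgroup G))
        rw [commutatorElement_def]
        have : b * a⁻¹ * b⁻¹ ∈ (P : Subgroup G) ⊓ (Q : Subgroup G) :=
          (Subgroup.mem_normalizer_iff.mp hbN a⁻¹).mp (Subgroup.inv_mem _ ha)
        have h2 := ((P : Subgroup G) ⊓ (Q : Subgroup G)).mul_mem ha this
        convert h2 using 1
        group
      · refine ⟨⁅e * a * e⁻¹, e * b * e⁻¹⁆, ?_, ?_⟩
        · apply Subgroup.commutator_mem_commutator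
          · exact ((Subgroup.mem_normalizer_iff.mp he a).mp ha).1
          · exact (hconj b hb).1
        · simp only [MulEquiv.coe_toMonoidHom, MulAut.conj_apply, commutatorElement_def]
          group
  · apply sup_le
    · apply le_inf inf_le_left
      refine le_trans inf_le_right ?_
      rw [commutator_def]
      exact Subgroup.commutator_mono le_top le_top
    · refine iSup_le fun z => ?_
      exact le_inf inf_le_left (le_trans inf_le_right (hcomm_le _ z))

end Cfsg.Agent.S4216
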