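import Cfsg.Statements.S0496
import Cfsg.Agent.Lib.Helper17.Small1092Chunk0
import Cfsg.Agent.Lib.Helper17.Small1092Chunk1
import Cfsg.Agent.Lib.Helper17.Small1092Chunk2
import Cfsg.Agent.Lib.Helper17.Small1092Chunk3
import Cfsg.Agent.Lib.Helper17.Small1092Chunk4
import Cfsg.Agent.Lib.Helper17.Small1092Chunk5
import Cfsg.Agent.Lib.Helper17.Small1092Chunk6
import Cfsg.Agent.Lib.Helper17.Small1092Chunk7
import Cfsg.Agent.Lib.Helper17.Small1092Chunk8
import Cfsg.Agent.Lib.Helper17.Small1092Chunk9
import Cfsg.Agent.Lib.Helper17.Small1092Chunk10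

set_option autoImplicit false
open Cfsg

namespace Cfsg.Agent.S0496

open Cfsg.Agent.Lib.Helper17.Small1092 in
/-- A non-abelian finite simple group of order at most 1092 has order 60, 168, 360, 504, 660 or 1092. -/
theorem result {G : Type*} [Group G] [Finite G] [IsSimpleGroup G]
    (hG : ¬ IsMulCommutative G) (h : Nat.card G ≤ 1092) :
    Nat.card G = 60 ∨ Nat.card G = 168 ∨ Nat.card G = 360 ∨ Nat.card G = 504 ∨ Nat.card G = 660 ∨
      Nat.card G = 1092 := by
  by_contra hne
  push Not at hne
  obtain ⟨h60, h168, h360, h504, h660, h1092⟩ := hne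
  have h1 : 1 < Nat.card G := Finite.one_lt_card
  obtain ⟨n, hn⟩ : ∃ n, Nat.card G = n := ⟨_, rfl⟩
  rw [hn] at h h1 h60 h168 h360 h504 h660 h1092
  rcases Nat.lt_or_ge n 101 with c | c
  · exact chunk0 hG n hn (by omega) (by omega) h60
  rcases Nat.lt_or_ge n 201 with c | c
  · exact chunk1 hG n hn (by omega) (by omega) h168
  rcases Nat.lt_or_ge n 301 with c | c
  · exact chunk2 hG n hn (by omega) (by omega)
  rcases Nat.lt_or_ge n 401 with c | c
  · exact chunk3 hG n hn (by omega) (by omega) h360
  rcases Nat.lt_or_ge n 501 with c | c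
  · exact chunk4 hG n hn (by omega) (by omega)
  rcases Nat.lt_or_ge n 601 with c | c
  · exact chunk5 hG n hn (by omega) (by omega) h504
  rcases Nat.lt_or_ge n 701 with c | c
  · exact chunk6 hG n hn (by omega) (by omega) h660
  rcases Nat.lt_or_ge n 801 with c | c
  · exact chunk7 hG n hn (by omega) (by omega)
  rcases Nat.lt_or_ge n 901 with c | c
  · exact chunk8 hG n hn (by omega) (by omega)
  rcases Nat.lt_or_ge n 1001 with c | c
  · exact chunk9 hG n hn (by omega) (by omega)
  · exact chunk10 hG n hn (by omega) (by omega) h1092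

end Cfsg.Agent.S0496
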