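import Cfsg.Statements.S0840
import Cfsg.Agent.Lib.Helper82.Regular
import Cfsg.Agent.Lib.Helper83.CharBasic

set_option autoImplicit false
set_option linter.style.haveILetI false
open scoped ComplexConjugate
open Cfsg

namespace Cfsg.Agent.S0840

open Cfsg.Agent.Lib.Helper82

/-- The conjugators taking `a` to a fixed conjugate `x` form a coset of the centralizer. -/
theorem card_filter_conj_eq {G : Type*} [Group G] [Fintype G] [DecidableEq G] (a x : G)
    (h : IsConj a x) :
    (Finset.univ.filter fun g : G => g * a * g⁻¹ = x).card =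
      Nat.card (Subgroup.centralizer ({a} : Set G)) := by
  classical
  obtain ⟨g₀, hg₀⟩ := isConj_iff.1 h
  rw [Nat.card_eq_fintype_card, ← Fintype.card_subtype]
  refine Fintype.card_congr ?_
  refine
    { toFun := fun g => ⟨g₀⁻¹ * g.1, ?_⟩
      invFun := fun z => ⟨g₀ * z.1, ?_⟩
      left_inv := ?_
      right_inv := ?_ }
  · rw [Subgroup.mem_centralizer_iff]
    intro w hw
    rw [Set.mem_singleton_iff] at hw
    subst hw
    have h1 : g.1 * w * g.1⁻¹ = g₀ * w * g₀⁻¹ := by rw [g.2, hg₀]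
    calc w * (g₀⁻¹ * g.1) = g₀⁻¹ * (g₀ * w * g₀⁻¹) * g.1 := by group
      _ = g₀⁻¹ * (g.1 * w * g.1⁻¹) * g.1 := by rw [h1]
      _ = g₀⁻¹ * g.1 * w := by group
  · have hz := z.2
    rw [Subgroup.mem_centralizer_iff] at hz
    have h2 := hz a rfl
    show g₀ * z.1 * a * (g₀ * z.1)⁻¹ = x
    calc g₀ * z.1 * a * (g₀ * z.1)⁻¹ = g₀ * (z.1 * a) * z.1⁻¹ * g₀⁻¹ := by group
      _ = g₀ * (a * z.1) * z.1⁻¹ * g₀⁻¹ := by rw [h2]
      _ = g₀ * a * g₀⁻¹ := by group
      _ = x := hg₀
  · rintro ⟨g, hg⟩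
    simp
  · rintro ⟨z, hz⟩
    simp

/-- `|C(a)| * |a^G| = |G|`. -/
theorem card_centralizer_mul_card_conj {G : Type*} [Group G] [Fintype G] (a : G) :
    Nat.card (Subgroup.centralizer ({a} : Set G)) * Nat.card {x : G // IsConj a x} =
      Fintype.card G := by
  rw [← index_centralizer_eq_card_conj, Subgroup.card_mul_index, Nat.card_eq_fintype_card]

/-- Counting conjugator pairs through the fibres over the pairs of conjugates. -/
theorem card_conjugator_pairs {G : Type*} [Group G] [Fintype G] [DecidableEq G] (a b c : G) :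
    (Finset.univ.filter fun gh : G × G =>
        (gh.1 * a * gh.1⁻¹) * (gh.2 * b * gh.2⁻¹) = c).card =
      Nat.card (Subgroup.centralizer ({a} : Set G)) *
        Nat.card (Subgroup.centralizer ({b} : Set G)) *
        Nat.card {p : G × G // IsConj a p.1 ∧ IsConj b p.2 ∧ p.1 * p.2 = c} := by
  classical
  set T : Finset (G × G) :=
    Finset.univ.filter fun p : G × G => IsConj a p.1 ∧ IsConj b p.2 ∧ p.1 * p.2 = c with hT
  have hmaps : ∀ gh ∈ (Finset.univ.filter fun gh : G × G =>
      (gh.1 * a * gh.1⁻¹) * (gh.2 * b * gh.2⁻¹) = c),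
      (gh.1 * a * gh.1⁻¹, gh.2 * b * gh.2⁻¹) ∈ T := by
    intro gh hgh
    rw [Finset.mem_filter] at hgh
    rw [hT, Finset.mem_filter]
    exact ⟨Finset.mem_univ _, isConj_iff.2 ⟨gh.1, rfl⟩, isConj_iff.2 ⟨gh.2, rfl⟩, hgh.2⟩
  rw [Finset.card_eq_sum_card_fiberwise hmaps]
  have hfib : ∀ p ∈ T, ((Finset.univ.filter fun gh : G × G =>
      (gh.1 * a * gh.1⁻¹) * (gh.2 * b * gh.2⁻¹) = c).filter fun gh =>
        (gh.1 * a * gh.1⁻¹, gh.2 * b * gh.2⁻¹) = p).card =
      Nat.card (Subgroup.centralizer ({a} : Set G)) *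
        Nat.card (Subgroup.centralizer ({b} : Set G)) := by
    intro p hp
    rw [hT, Finset.mem_filter] at hp
    obtain ⟨-, hpa, hpb, hpc⟩ := hp
    have heq : ((Finset.univ.filter fun gh : G × G =>
        (gh.1 * a * gh.1⁻¹) * (gh.2 * b * gh.2⁻¹) = c).filter fun gh =>
          (gh.1 * a * gh.1⁻¹, gh.2 * b * gh.2⁻¹) = p) =
        (Finset.univ.filter fun g : G => g * a * g⁻¹ = p.1) ×ˢ
          (Finset.univ.filter fun h : G => h * b * h⁻¹ = p.2) := by
      ext ⟨g, h⟩
      simp only [Finset.mem_filter, Finset.mem_univ, true_and, Finset.mem_product]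
      constructor
      · rintro ⟨-, h2⟩
        rw [← h2]
        exact ⟨rfl, rfl⟩
      · rintro ⟨h1, h2⟩
        refine ⟨?_, ?_⟩
        · rw [h1, h2]; exact hpc
        · rw [h1, h2]
    rw [heq, Finset.card_product, card_filter_conj_eq a p.1 hpa, card_filter_conj_eq b p.2 hpb]
  rw [Finset.sum_congr rfl hfib, Finset.sum_const, smul_eq_mul, mul_comm]
  congr 1
  rw [Nat.card_eq_fintype_card, Fintype.card_subtype]

/-- Class multiplication coefficients from the character table: for elements a, b, c of a finite group G, the number of ordered pairs (x, y) with x conjugate to a, y conjugate to b and x * y = c equals the product of the sizes of the conjugacy classes of a and b, divided by the order of G, times the sum over the irreducible characters χ of χ a * χ b * conj (χ c) / χ 1. -/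
theorem result {G : Type*} [Group G] [Finite G] (a b c : G) : (Nat.card {p : G × G // IsConj a p.1 ∧ IsConj b p.2 ∧ p.1 * p.2 = c} : ℂ) = (Nat.card {x : G // IsConj a x} : ℂ) * (Nat.card {x : G // IsConj b x} : ℂ) / (Nat.card G : ℂ) * ∑ᶠ χ : Cfsg.IrrCharacter G, (χ : G → ℂ) a * (χ : G → ℂ) b * conj ((χ : G → ℂ) c) / (χ : G → ℂ) 1 := by
  classical
  letI : Fintype G := Fintype.ofFinite G
  obtain ⟨s, hs_all, hs1, hs2⟩ := regularDecomp (G := G)
  have hs := RegularDecomp.ite_form hs1 hs2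
  have key := card_conj_mul_conj_eq s hs a b c
  rw [card_conjugator_pairs a b c] at key
  have hfin : ∑ᶠ χ : Cfsg.IrrCharacter G,
      (χ : G → ℂ) a * (χ : G → ℂ) b * conj ((χ : G → ℂ) c) / (χ : G → ℂ) 1 =
      ∑ χ ∈ s, (χ : G → ℂ) a * (χ : G → ℂ) b * (χ : G → ℂ) c⁻¹ / (χ : G → ℂ) 1 := by
    rw [finsum_eq_sum_of_support_subset (s := s)]
    · refine Finset.sum_congr rfl fun χ _ => ?_
      rw [Cfsg.Agent.Lib.Helper83.char_inv (IsIrrCharacter.isCharacter χ.2) c]
    · intro χ _
      exact hs_all χ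
  rw [hfin]
  have hGa := card_centralizer_mul_card_conj a
  have hGb := card_centralizer_mul_card_conj b
  have hG : (Fintype.card G : ℂ) ≠ 0 := by exact_mod_cast Fintype.card_ne_zero
  have hGa' : (Nat.card (Subgroup.centralizer ({a} : Set G)) : ℂ) *
      (Nat.card {x : G // IsConj a x} : ℂ) = (Fintype.card G : ℂ) := by exact_mod_cast hGa
  have hGb' : (Nat.card (Subgroup.centralizer ({b} : Set G)) : ℂ) *
      (Nat.card {x : G // IsConj b x} : ℂ) = (Fintype.card G : ℂ) := by exact_mod_cast hGb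
  have hCa : (Nat.card (Subgroup.centralizer ({a} : Set G)) : ℂ) ≠ 0 := by
    intro h0; rw [h0, zero_mul] at hGa'; exact hG hGa'.symm
  have hCb : (Nat.card (Subgroup.centralizer ({b} : Set G)) : ℂ) ≠ 0 := by
    intro h0; rw [h0, zero_mul] at hGb'; exact hG hGb'.symm
  rw [Nat.card_eq_fintype_card (α := G)]
  push_cast at key
  set S := ∑ χ ∈ s, (χ : G → ℂ) a * (χ : G → ℂ) b * (χ : G → ℂ) c⁻¹ / (χ : G → ℂ) 1
  set N := (Nat.card {p : G × G // IsConj a p.1 ∧ IsConj b p.2 ∧ p.1 * p.2 = c} : ℂ)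
  have h3 : (Nat.card (Subgroup.centralizer ({a} : Set G)) : ℂ) *
      (Nat.card (Subgroup.centralizer ({b} : Set G)) : ℂ) * N =
      (Nat.card (Subgroup.centralizer ({a} : Set G)) : ℂ) *
      (Nat.card (Subgroup.centralizer ({b} : Set G)) : ℂ) *
      ((Nat.card {x : G // IsConj a x} : ℂ) * (Nat.card {x : G // IsConj b x} : ℂ) /
        (Fintype.card G : ℂ) * S) := by
    rw [key]
    have : (Nat.card (Subgroup.centralizer ({a} : Set G)) : ℂ) *
      (Nat.card (Subgroup.centralizer ({b} : Set G)) : ℂ) *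
      ((Nat.card {x : G // IsConj a x} : ℂ) * (Nat.card {x : G // IsConj b x} : ℂ) /
        (Fintype.card G : ℂ) * S) =
      ((Nat.card (Subgroup.centralizer ({a} : Set G)) : ℂ) *
        (Nat.card {x : G // IsConj a x} : ℂ)) *
      ((Nat.card (Subgroup.centralizer ({b} : Set G)) : ℂ) *
        (Nat.card {x : G // IsConj b x} : ℂ)) / (Fintype.card G : ℂ) * S := by ring
    rw [this, hGa', hGb']
    field_simp
  exact mul_left_cancel₀ (mul_ne_zero hCa hCb) h3

end Cfsg.Agent.S0840
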