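import Cfsg.Statements.S0190
import Cfsg.Agent.Lib.Helper34.Induction

set_option autoImplicit false
open Cfsg

namespace Cfsg.Agent.S0190

open Cfsg.Agent.Lib.Helper34

theorem card_fiber {G : Type*} [Group G] (X : Type*) [MulAction G X]
    [MulAction.IsPretransitive G X] (x z : X) :
    Nat.card {y : G // y • x = z} = Nat.card (MulAction.stabilizer G x) := by
  obtain ⟨y₀, hy₀⟩ := MulAction.exists_smul_eq G x z
  apply Nat.card_congr
  exact
    { toFun := fun y => ⟨y₀⁻¹ * y.1, by
        rw [MulAction.mem_stabilizer_iff, mul_smul, y.2, ← hy₀, inv_smul_smul]⟩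
      invFun := fun h => ⟨y₀ * h.1, by
        rw [mul_smul, MulAction.mem_stabilizer_iff.mp h.2, hy₀]⟩
      left_inv := fun y => by
        apply Subtype.ext
        simp
      right_inv := fun h => by
        apply Subtype.ext
        simp }

/-- For a transitive action of a finite group on X, the permutation character g ↦ (number of fixed points of g) is the function induced from the principal character of the stabilizer of any point. -/
theorem result {G : Type*} [Group G] [Fintype G] (X : Type*) [MulAction G X] [Finite X] [MulAction.IsPretransitive G X] (x : X) : (fun g : G => (Nat.card (MulAction.fixedBy X g) : ℂ)) = Cfsg.indFun (MulAction.stabilizer G x) (fun _ => 1) := by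
  classical
  haveI : Fintype X := Fintype.ofFinite X
  funext g
  rw [indFun_apply]
  set H := MulAction.stabilizer G x with hH
  have hne : (Nat.card H : ℂ) ≠ 0 := by exact_mod_cast Nat.card_pos.ne'
  have h1 : ∀ y : G, extendByZero H (fun _ => (1 : ℂ)) (y⁻¹ * g * y) =
      if g • (y • x) = y • x then 1 else 0 := by
    intro y
    have hiff : y⁻¹ * g * y ∈ H ↔ g • (y • x) = y • x := by
      rw [hH, MulAction.mem_stabilizer_iff, mul_smul, mul_smul, inv_smul_eq_iff]
    by_cases h : g • (y • x) = y • x
    · rw [if_pos h, extendByZero_apply_mem H _ (hiff.mpr h)]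
    · rw [if_neg h, extendByZero_apply_not_mem H _ (fun h' => h (hiff.mp h'))]
  simp_rw [h1]
  have h2 : ∑ y : G, (if g • (y • x) = y • x then (1 : ℂ) else 0) =
      ∑ z : X, ∑ y ∈ Finset.univ.filter (fun y : G => y • x = z),
        (if g • (y • x) = y • x then (1 : ℂ) else 0) :=
    (Finset.sum_fiberwise Finset.univ (fun y : G => y • x) _).symm
  rw [h2]
  have h3 : ∀ z : X, ∑ y ∈ Finset.univ.filter (fun y : G => y • x = z),
      (if g • (y • x) = y • x then (1 : ℂ) else 0) =
      (Nat.card H : ℂ) * (if g • z = z then 1 else 0) := by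
    intro z
    have : ∀ y ∈ Finset.univ.filter (fun y : G => y • x = z),
        (if g • (y • x) = y • x then (1 : ℂ) else 0) = (if g • z = z then 1 else 0) := by
      intro y hy
      rw [(Finset.mem_filter.mp hy).2]
    rw [Finset.sum_congr rfl this, Finset.sum_const, nsmul_eq_mul]
    congr 1
    rw [← card_fiber X x z, Nat.card_eq_fintype_card, Fintype.card_subtype]
  simp_rw [h3]
  rw [← Finset.mul_sum, ← mul_assoc, inv_mul_cancel₀ hne, one_mul]
  rw [Finset.sum_boole]
  congr 1
  rw [Nat.card_eq_fintype_card, ← Fintype.card_subtype]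
  rfl

end Cfsg.Agent.S0190
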