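import Cfsg.Statements.S0157
import Cfsg.Agent.S0190
import Cfsg.Agent.Lib.Helper05.CharSub
import Cfsg.Agent.Lib.Helper34.GenChar
import Cfsg.Agent.Lib.Helper64.Derangement
-- import your own Cfsg.Agent.* helpers here

set_option autoImplicit false
open Cfsg

namespace Cfsg.Agent.S0157

open Cfsg.Agent.Lib.Helper05 MulAction
open scoped ComplexConjugate

section

variable {G : Type*} [Group G] [Fintype G] (X : Type*) [MulAction G X] [Finite X]

/-- The permutation character. -/
noncomputable def permChar : G → ℂ := fun g => (Nat.card (MulAction.fixedBy X g) : ℂ)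

theorem isCharacter_permChar [IsPretransitive G X] [hne : Nonempty X] :
    IsCharacter G (permChar (G := G) X) := by
  obtain ⟨x⟩ := hne
  have h := Cfsg.Agent.S0190.result (G := G) X x
  unfold permChar
  rw [h]
  exact Cfsg.Agent.Lib.Helper34.isCharacter_indFun _ isCharacter_one

theorem card_ne_zero_complex' : (Nat.card G : ℂ) ≠ 0 := by
  exact_mod_cast Nat.card_pos.ne'

theorem classInner_permChar_one :
    classInner (permChar (G := G) X) (fun _ => 1) = Nat.card (orbitRel.Quotient G X) := by
  unfold classInner permChar
  simp only [map_one, mul_one]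
  rw [← Nat.cast_sum, Cfsg.Agent.Lib.Helper64.burnside_sum, Nat.cast_mul]
  have := card_ne_zero_complex' (G := G)
  field_simp

theorem classInner_one_permChar :
    classInner (fun _ => 1) (permChar (G := G) X) = Nat.card (orbitRel.Quotient G X) := by
  unfold classInner permChar
  simp only [Complex.conj_natCast, one_mul]
  rw [← Nat.cast_sum, Cfsg.Agent.Lib.Helper64.burnside_sum, Nat.cast_mul]
  have := card_ne_zero_complex' (G := G)
  field_simp

theorem classInner_permChar_self :
    classInner (permChar (G := G) X) (permChar (G := G) X) =
      Nat.card (orbitRel.Quotient G (X × X)) := by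
  unfold classInner permChar
  simp only [Complex.conj_natCast]
  have h : ∀ g : G, (Nat.card (fixedBy X g) : ℂ) * (Nat.card (fixedBy X g) : ℂ) =
      ((Nat.card (fixedBy (X × X) g) : ℕ) : ℂ) := by
    intro g; rw [Cfsg.Agent.Lib.Helper64.card_fixedBy_prod, Nat.cast_mul]
  simp only [h]
  rw [← Nat.cast_sum, Cfsg.Agent.Lib.Helper64.burnside_sum, Nat.cast_mul]
  have := card_ne_zero_complex' (G := G)
  field_simp

theorem classInner_one_one : classInner (fun _ : G => (1 : ℂ)) (fun _ => 1) = 1 := by
  unfold classInner
  simp only [map_one, mul_one, Finset.sum_const, Finset.card_univ, nsmul_eq_mul,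
    Nat.card_eq_fintype_card]
  have : (Fintype.card G : ℂ) ≠ 0 := by exact_mod_cast Fintype.card_ne_zero
  field_simp

end

/-- The number of orbits on ordered pairs is two exactly for 2-transitive actions. -/
theorem card_orbits_prod_eq_two_iff {G : Type*} [Group G] (X : Type*) [MulAction G X] [Finite X]
    [IsPretransitive G X] (hX : 2 ≤ Nat.card X) :
    Nat.card (orbitRel.Quotient G (X × X)) = 2 ↔ IsMultiplyPretransitive G X 2 := by
  classical
  rw [MulAction.is_two_pretransitive_iff]
  let d : orbitRel.Quotient G (X × X) → Bool :=
    Quotient.lift (fun p : X × X => decide (p.1 = p.2)) (by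
      rintro ⟨a, b⟩ ⟨c, e⟩ h
      obtain ⟨g, hg⟩ := h
      have h1 : g • c = a := congrArg Prod.fst hg
      have h2 : g • e = b := congrArg Prod.snd hg
      simp only [decide_eq_decide]
      rw [← h1, ← h2]
      exact (smul_left_cancel_iff g))
  have hd : ∀ a b : X, d (Quotient.mk'' (a, b)) = decide (a = b) := fun a b => rfl
  obtain ⟨a₀, b₀, hab₀⟩ : ∃ a b : X, a ≠ b := by
    have h1 : 1 < Nat.card X := hX
    haveI := Fintype.ofFinite X
    rw [Nat.card_eq_fintype_card] at h1
    exact Fintype.exists_pair_of_one_lt_card h1
  have hdsurj : Function.Surjective d := by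
    intro t
    cases t
    · exact ⟨Quotient.mk'' (a₀, b₀), by rw [hd]; simpa using hab₀⟩
    · exact ⟨Quotient.mk'' (a₀, a₀), by rw [hd]; simp⟩
  constructor
  · intro h2
    have hbij : Function.Bijective d := by
      apply hdsurj.bijective_of_nat_card_le
      rw [h2]; simp
    intro a b c e hab hce
    have h3 : d (Quotient.mk'' (a, b)) = d (Quotient.mk'' (c, e)) := by
      rw [hd, hd]; simp [hab, hce]
    have h4 := Quotient.exact (hbij.1 h3)
    obtain ⟨g, hg⟩ := h4
    have h1 : g • c = a := congrArg Prod.fst hg
    have h2 : g • e = b := congrArg Prod.snd hg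
    refine ⟨g⁻¹, ?_, ?_⟩
    · rw [← h1, inv_smul_smul]
    · rw [← h2, inv_smul_smul]
  · intro h2t
    have hinj : Function.Injective d := by
      intro q1 q2
      induction q1 using Quotient.inductionOn' with
      | h p =>
        induction q2 using Quotient.inductionOn' with
        | h q =>
          obtain ⟨a, b⟩ := p
          obtain ⟨c, e⟩ := q
          intro h
          rw [hd, hd, decide_eq_decide] at h
          apply Quotient.sound'
          by_cases hab : a = b
          · have hce : c = e := h.mp hab
            subst hab
            subst hce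
            obtain ⟨g, hg⟩ := MulAction.exists_smul_eq G c a
            exact ⟨g, by simp [hg]⟩
          · have hce : c ≠ e := fun hce => hab (h.mpr hce)
            obtain ⟨g, hg1, hg2⟩ := h2t hce hab
            exact ⟨g, by simp [hg1, hg2]⟩
    have hbij : Function.Bijective d := ⟨hinj, hdsurj⟩
    rw [Nat.card_eq_of_bijective d hbij]
    simp

/-- For a transitive action of a finite group on a finite set with at least two points: the action is 2-transitive if and only if the function sending g to (number of fixed points of g) − 1 is an irreducible character. -/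
theorem result {G : Type*} [Group G] [Finite G] (X : Type*) [MulAction G X] [Finite X] [MulAction.IsPretransitive G X] (hX : 2 ≤ Nat.card X) : Cfsg.IsIrrCharacter G (fun g => (Nat.card (MulAction.fixedBy X g) : ℂ) - 1) ↔ MulAction.IsMultiplyPretransitive G X 2 := by
  classical
  haveI := Fintype.ofFinite G
  haveI : Nonempty X := by
    have h1 : 0 < Nat.card X := by omega
    exact (Nat.card_pos_iff.mp h1).1
  rw [← card_orbits_prod_eq_two_iff X hX]
  have hfun : (fun g : G => (Nat.card (MulAction.fixedBy X g) : ℂ) - 1) =
      permChar (G := G) X - (fun _ => (1 : ℂ)) := rfl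
  rw [hfun]
  have hπ := isCharacter_permChar (G := G) X
  have h1 := classInner_permChar_one (G := G) X
  have h1' := classInner_one_permChar (G := G) X
  rw [Cfsg.Agent.Lib.Helper64.card_orbits_eq_one_of_pretransitive, Nat.cast_one] at h1 h1'
  have hchar : IsCharacter G (permChar (G := G) X - (fun _ => (1 : ℂ))) := by
    apply isCharacter_sub_of_classInner_ne_zero hπ isIrrCharacter_one
    rw [h1]; exact one_ne_zero
  have hnorm : classInner (permChar (G := G) X - (fun _ => (1 : ℂ)))
      (permChar (G := G) X - (fun _ => (1 : ℂ))) =
      (Nat.card (orbitRel.Quotient G (X × X)) : ℂ) - 1 := by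
    rw [classInner_sub_left, classInner_sub_right, classInner_sub_right, h1, h1',
      classInner_permChar_self, classInner_one_one]
    ring
  constructor
  · intro hirr
    have h2 := classInner_irr_self hirr
    rw [hnorm] at h2
    have h3 : (Nat.card (orbitRel.Quotient G (X × X)) : ℂ) = 2 := by
      linear_combination h2
    exact_mod_cast h3
  · intro h2
    apply isIrrCharacter_of_classInner_self_eq_one hchar
    rw [hnorm, h2]
    norm_num

end Cfsg.Agent.S0157
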