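import Cfsg.Statements.S0669

set_option autoImplicit false
open Cfsg

namespace Cfsg.Agent.S0669

theorem result {G : Type*} [Group G] {Ω : Type*} [Finite Ω] [MulAction G Ω] [MulAction.IsPretransitive G Ω] (a : Ω) : Nat.card (MulAction.orbitRel.Quotient G (Ω × Ω)) = Nat.card (MulAction.orbitRel.Quotient (MulAction.stabilizer G a) Ω) := by
  symm
  let f : MulAction.orbitRel.Quotient (MulAction.stabilizer G a) Ω →
      MulAction.orbitRel.Quotient G (Ω × Ω) :=
    Quotient.map' (fun b => (a, b)) (by
      intro b b' h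
      change b ∈ MulAction.orbit (MulAction.stabilizer G a) b' at h
      obtain ⟨⟨g, hg⟩, rfl⟩ := h
      change (a, (⟨g, hg⟩ : MulAction.stabilizer G a) • b') ∈ MulAction.orbit G (a, b')
      refine ⟨g, ?_⟩
      rw [MulAction.mem_stabilizer_iff] at hg
      change (g • a, g • b') = _
      rw [hg]
      rfl)
  apply Nat.card_congr
  refine Equiv.ofBijective f ⟨?_, ?_⟩
  · intro q q'
    induction q using Quotient.inductionOn' with | _ b => ?_
    induction q' using Quotient.inductionOn' with | _ b' => ?_
    intro h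
    have h' : (Quotient.mk'' (a, b) : MulAction.orbitRel.Quotient G (Ω × Ω)) = Quotient.mk'' (a, b') := h
    rw [Quotient.eq''] at h'
    change (a, b) ∈ MulAction.orbit G (a, b') at h'
    obtain ⟨g, hg⟩ := h'
    have hg' : (g • a, g • b') = (a, b) := hg
    rw [Prod.mk.injEq] at hg'
    apply Quotient.sound'
    change b ∈ MulAction.orbit (MulAction.stabilizer G a) b'
    exact ⟨⟨g, MulAction.mem_stabilizer_iff.mpr hg'.1⟩, hg'.2⟩
  · intro q
    induction q using Quotient.inductionOn' with | _ xy => ?_
    obtain ⟨x, y⟩ := xy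
    obtain ⟨g, hg⟩ := MulAction.exists_smul_eq G x a
    refine ⟨Quotient.mk'' (g • y), ?_⟩
    change (Quotient.mk'' (a, g • y) : MulAction.orbitRel.Quotient G (Ω × Ω)) = Quotient.mk'' (x, y)
    apply Quotient.sound'
    change (a, g • y) ∈ MulAction.orbit G (x, y)
    refine ⟨g, ?_⟩
    change (g • x, g • y) = _
    rw [hg]

end Cfsg.Agent.S0669
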