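-- Statement S0731 (row 731): Zassenhaus groups whose point stabiliser has an abelian regular normal
-- subgroup are sharply triply transitive or `PSL(2, K)`.
import Cfsg.Statements.S0731
import Mathlib
import Cfsg.Agent.Lib.Helper17.FeitZass
import Cfsg.Agent.Lib.Helper17.ZassPSLOdd
import Cfsg.Agent.Lib.Helper26.MinConf
import Cfsg.Agent.S0741
import Cfsg.Agent.S0742

set_option autoImplicit false
set_option linter.style.haveILetI false
open Cfsg

namespace Cfsg.Agent.S0731

open MulAction Cfsg.Agent.Lib.Helper28 Cfsg.Agent.Lib.Helper17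

/-- the sharply triply transitive case -/
theorem sharp3 {G Ω : Type*} [Group G] [Finite G] [MulAction G Ω] [Fintype Ω]
    (hpre : ZPre G Ω) {x b : Ω} (hxb : x ≠ b)
    (hcard : Nat.card ↥(stabilizer G x ⊓ stabilizer G b : Subgroup G) = Fintype.card Ω - 2) :
    MulAction.IsMultiplyPretransitive G Ω 3 ∧ ∀ t : Fin 3 ↪ Ω, MulAction.stabilizer G t = ⊥ := by
  classical
  have hEmem : ∀ g : G, g ∈ (stabilizer G x ⊓ stabilizer G b : Subgroup G) ↔
      g • x = x ∧ g • b = b := by
    intro g
    rw [Subgroup.mem_inf, mem_stabilizer_iff, mem_stabilizer_iff]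
  -- the two-point stabilizer is transitive on the remaining points
  have htr : ∀ c c' : Ω, c ≠ x → c ≠ b → c' ≠ x → c' ≠ b →
      ∃ h ∈ (stabilizer G x ⊓ stabilizer G b : Subgroup G), h • c = c' := by
    intro c c' hcx hcb hc'x hc'b
    have hmap : ∀ h : ↥(stabilizer G x ⊓ stabilizer G b : Subgroup G),
        (h : G) • c ≠ x ∧ (h : G) • c ≠ b := by
      intro h
      obtain ⟨h1, h2⟩ := (hEmem _).mp h.2
      constructor
      · intro h3
        exact hcx (MulAction.injective (h : G) (h3.trans h1.symm))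
      · intro h3
        exact hcb (MulAction.injective (h : G) (h3.trans h2.symm))
    let ψ : ↥(stabilizer G x ⊓ stabilizer G b : Subgroup G) → {y : Ω // y ≠ x ∧ y ≠ b} :=
      fun h => ⟨(h : G) • c, hmap h⟩
    have hψinj : Function.Injective ψ := by
      intro h h' hh
      have h1 : (h : G) • c = (h' : G) • c := congrArg Subtype.val hh
      obtain ⟨hx1, hb1⟩ := (hEmem _).mp h.2
      obtain ⟨hx2, hb2⟩ := (hEmem _).mp h'.2
      have h2 : ((h' : G)⁻¹ * (h : G)) = 1 := by
        apply hpre.three _ x b c hxb (Ne.symm hcb) (Ne.symm hcx)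
        · rw [mul_smul, hx1, inv_smul_eq_iff, hx2]
        · rw [mul_smul, hb1, inv_smul_eq_iff, hb2]
        · rw [mul_smul, h1, inv_smul_smul]
      apply Subtype.ext
      have : (h : G) = (h' : G) * ((h' : G)⁻¹ * (h : G)) := by group
      rw [this, h2, mul_one]
    have hcard2 : Nat.card {y : Ω // y ≠ x ∧ y ≠ b} = Fintype.card Ω - 2 := by
      rw [Nat.card_eq_fintype_card, Fintype.card_subtype]
      have : (Finset.univ.filter (fun y : Ω => y ≠ x ∧ y ≠ b)) =
          (Finset.univ.erase x).erase b := by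
        ext y
        simp only [Finset.mem_filter, Finset.mem_univ, true_and, Finset.mem_erase, and_true]
        tauto
      rw [this, Finset.card_erase_of_mem, Finset.card_erase_of_mem (Finset.mem_univ _),
        Finset.card_univ]
      · rfl
      · rw [Finset.mem_erase]
        exact ⟨hxb.symm, Finset.mem_univ _⟩
    have hψbij : Function.Bijective ψ :=
      hψinj.bijective_of_nat_card_le (by rw [hcard2, hcard])
    obtain ⟨h, hh⟩ := hψbij.2 ⟨c', hc'x, hc'b⟩
    exact ⟨h, h.2, congrArg Subtype.val hh⟩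
  constructor
  · rw [MulAction.isMultiplyPretransitive_iff]
    intro s t
    have hs01 : s 0 ≠ s 1 := fun h => by have := s.injective h; simp at this
    have hs02 : s 0 ≠ s 2 := fun h => by have := s.injective h; simp at this
    have hs12 : s 1 ≠ s 2 := fun h => by have := s.injective h; simp at this
    have ht01 : t 0 ≠ t 1 := fun h => by have := t.injective h; simp at this
    have ht02 : t 0 ≠ t 2 := fun h => by have := t.injective h; simp at this
    have ht12 : t 1 ≠ t 2 := fun h => by have := t.injective h; simp at this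
    obtain ⟨g₁, h10, h11⟩ := hpre.trans2 (s 0) (s 1) x b hs01 hxb
    obtain ⟨g₂, h20, h21⟩ := hpre.trans2 (t 0) (t 1) x b ht01 hxb
    have hc1x : g₁ • s 2 ≠ x := fun h => hs02 (MulAction.injective g₁ (h10.trans h.symm))
    have hc1b : g₁ • s 2 ≠ b := fun h => hs12 (MulAction.injective g₁ (h11.trans h.symm))
    have hc2x : g₂ • t 2 ≠ x := fun h => ht02 (MulAction.injective g₂ (h20.trans h.symm))
    have hc2b : g₂ • t 2 ≠ b := fun h => ht12 (MulAction.injective g₂ (h21.trans h.symm))
    obtain ⟨h, hhE, hh⟩ := htr _ _ hc1x hc1b hc2x hc2b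
    obtain ⟨hhx, hhb⟩ := (hEmem h).mp hhE
    refine ⟨g₂⁻¹ * h * g₁, ?_⟩
    ext i
    rw [Function.Embedding.smul_apply]
    fin_cases i
    · show (g₂⁻¹ * h * g₁) • s 0 = t 0
      rw [mul_smul, mul_smul, h10, hhx, inv_smul_eq_iff, h20]
    · show (g₂⁻¹ * h * g₁) • s 1 = t 1
      rw [mul_smul, mul_smul, h11, hhb, inv_smul_eq_iff, h21]
    · show (g₂⁻¹ * h * g₁) • s 2 = t 2
      rw [mul_smul, mul_smul, hh, inv_smul_smul]
  · intro t
    rw [eq_bot_iff]
    intro g hg
    rw [Subgroup.mem_bot]
    have hg' : g • t = t := mem_stabilizer_iff.mp hg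
    have ht01 : t 0 ≠ t 1 := fun h => by have := t.injective h; simp at this
    have ht02 : t 0 ≠ t 2 := fun h => by have := t.injective h; simp at this
    have ht12 : t 1 ≠ t 2 := fun h => by have := t.injective h; simp at this
    have hfix : ∀ i, g • t i = t i := by
      intro i
      have := congrArg (fun f : Fin 3 ↪ Ω => f i) hg'
      simpa only [Function.Embedding.smul_apply] using this
    exact hpre.three g (t 0) (t 1) (t 2) ht01 ht12 ht02 (hfix 0) (hfix 1) (hfix 2)

/-- A finite Zassenhaus group whose point stabiliser has an abelian regular normal subgroup on the remaining points is sharply triply transitive or isomorphic to `PSL(2, F)` for a finite field `F` of odd characteristic. -/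
theorem result {G Ω : Type*} [Group G] [Finite G] [MulAction G Ω] [Finite Ω] (hZ : Cfsg.IsZassenhausGroup G Ω) (x : Ω) (F : Subgroup G) (hFle : F ≤ MulAction.stabilizer G x) (hFn : (F.subgroupOf (MulAction.stabilizer G x)).Normal) (hFab : IsMulCommutative F) (hreg : ∀ y z : Ω, y ≠ x → z ≠ x → ∃! u : F, (u : G) • y = z) : (MulAction.IsMultiplyPretransitive G Ω 3 ∧ ∀ t : Fin 3 ↪ Ω, MulAction.stabilizer G t = ⊥) ∨ ∃ (K : Type) (_ : Field K) (_ : Fintype K), ringChar K ≠ 2 ∧ Nonempty (G ≃* Matrix.ProjectiveSpecialLinearGroup (Fin 2) K) := by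
  classical
  letI : Fintype Ω := Fintype.ofFinite Ω
  have hpre := zpre_of_isZassenhausGroup hZ
  -- a second point
  obtain ⟨b, hxb⟩ : ∃ b : Ω, x ≠ b := by
    obtain ⟨g, -, a', b', hab', -, -⟩ := hpre.two
    by_cases h : x = a'
    · exact ⟨b', by rw [h]; exact hab'⟩
    · exact ⟨a', h⟩
  have hFab' : ∀ a ∈ F, ∀ c ∈ F, a * c = c * a := by
    intro a ha c hc
    have := hFab.is_comm.comm (⟨a, ha⟩ : F) ⟨c, hc⟩
    exact congrArg Subtype.val this
  have hFx : ∀ u ∈ F, u • x = x := fun u hu => mem_stabilizer_iff.mp (hFle hu)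
  have hfpf : ∀ k ∈ F, k ≠ 1 → ∀ c : Ω, c ≠ x → k • c ≠ c := by
    intro k hk hk1 c hcx hc
    obtain ⟨w, -, hw⟩ := hreg c c hcx hcx
    have h1 := hw ⟨k, hk⟩ hc
    have h2 := hw 1 (by show ((1 : F) : G) • c = c; rw [Subgroup.coe_one, one_smul])
    apply hk1
    have := h1.trans h2.symm
    exact congrArg Subtype.val this
  obtain ⟨hFcard, hGcard⟩ := hpre.card_of_regular_kernel hxb F hFle hreg
  obtain ⟨e, he⟩ : ∃ e, Nat.card ↥(stabilizer G x ⊓ stabilizer G b : Subgroup G) = e := ⟨_, rfl⟩
  have hepos : 0 < e := by rw [← he]; exact Nat.card_pos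
  -- `e` divides `q - 1`
  have hEmem : ∀ g : G, g ∈ (stabilizer G x ⊓ stabilizer G b : Subgroup G) ↔
      g • x = x ∧ g • b = b := by
    intro g
    rw [Subgroup.mem_inf, mem_stabilizer_iff, mem_stabilizer_iff]
  have hnorm : ∀ g ∈ (stabilizer G x ⊓ stabilizer G b : Subgroup G), ∀ t ∈ F, g * t * g⁻¹ ∈ F := by
    intro g hg t ht
    have := hFn.conj_mem ⟨t, hFle ht⟩ (Subgroup.mem_subgroupOf.mpr ht)
      ⟨g, (Subgroup.mem_inf.mp hg).1⟩
    exact Subgroup.mem_subgroupOf.mp this
  have hfree : ∀ g ∈ (stabilizer G x ⊓ stabilizer G b : Subgroup G), g ≠ 1 → ∀ y ∈ F,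
      g * y = y * g → y = 1 := by
    intro g hg hg1 y hy hcomm
    by_contra hy1
    apply hg1
    obtain ⟨hgx, hgb⟩ := (hEmem g).mp hg
    have hyb : y • b ≠ b := hfpf y hy hy1 b hxb.symm
    have hybx : y • b ≠ x := by
      intro hh
      have : y⁻¹ • x = b := by rw [← hh, inv_smul_smul]
      rw [hFx _ (F.inv_mem hy)] at this
      exact hxb this
    have hgy : g • (y • b) = y • b := by rw [← mul_smul, hcomm, mul_smul, hgb]
    exact hpre.three g x b (y • b) hxb (Ne.symm hyb) (Ne.symm hybx) hgx hgb hgy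
  have hdvd : e ∣ Nat.card F - 1 := by
    have h1 : Nat.card ↥(stabilizer G x ⊓ stabilizer G b : Subgroup G) ∣
        Nat.card F - Nat.card (⊥ : Subgroup G) := by
      apply Cfsg.Agent.Lib.Helper26.card_dvd_card_sub_of_free _ F ⊥ bot_le
      · intro g hg
        rw [Subgroup.mem_normalizer_iff]
        intro m
        constructor
        · intro hm
          exact hnorm g hg m hm
        · intro hm
          have := hnorm g⁻¹ (Subgroup.inv_mem _ hg) _ hm
          have h2 : g⁻¹ * (g * m * g⁻¹) * g⁻¹⁻¹ = m := by group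
          rwa [h2] at this
      · intro g _
        rw [Subgroup.mem_normalizer_iff]
        intro m
        rw [Subgroup.mem_bot, Subgroup.mem_bot]
        constructor
        · rintro rfl; group
        · intro hm
          have : m = g⁻¹ * (g * m * g⁻¹) * g := by group
          rw [this, hm]; group
      · intro g hg hg1 y hy hcomm
        rw [Subgroup.mem_bot]
        exact hfree g hg hg1 y hy hcomm
    rwa [Subgroup.card_bot, he] at h1
  -- at least three points
  obtain ⟨c₀, hc₀x, hc₀b⟩ := hpre.exists_third hxb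
  have hΩ3 : 3 ≤ Fintype.card Ω := by
    have : ({x, b, c₀} : Finset Ω).card ≤ Fintype.card Ω := Finset.card_le_univ _
    rw [Finset.card_insert_of_notMem (by
      rw [Finset.mem_insert, Finset.mem_singleton]
      rintro (h | h)
      · exact hxb h
      · exact hc₀x h.symm), Finset.card_pair (Ne.symm hc₀b)] at this
    exact this
  -- the bound
  have hbound : Fintype.card Ω - 2 ≤ 2 * e := by
    rcases Nat.even_or_odd e with heven | hodd
    · have := Cfsg.Agent.S0741.result hZ hxb (by rw [he]; exact heven)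
      rwa [he] at this
    · have := FeitZass.feit_abelian hZ hxb F hFle hFn hFab' hreg (by rw [he]; exact hodd)
      rwa [he] at this
  obtain ⟨k, hk⟩ := hdvd
  have hk' : Fintype.card Ω - 2 = e * k := by omega
  have hk12 : k = 1 ∨ k = 2 := by
    have hk0 : k ≠ 0 := by
      rintro rfl
      omega
    have hk2 : k ≤ 2 := by
      by_contra h
      push Not at h
      have : e * 3 ≤ e * k := Nat.mul_le_mul_left e h
      omega
    omega
  rcases hk12 with rfl | rfl
  · left
    apply sharp3 hpre hxb
    rw [he]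
    omega
  right
  have heq : Fintype.card Ω - 2 = 2 * e := by omega
  rcases Nat.even_or_odd e with heven | hodd
  · obtain ⟨p, f, K, iK, iF, hp, hp2, hKcard, -, hiso⟩ :=
      Cfsg.Agent.S0742.result hZ hxb (by rw [he]; exact heven) (by rw [he]; omega)
    refine ⟨K, iK, iF, ?_, hiso⟩
    intro h2
    have h1 : ((Fintype.card K : ℕ) : K) = 0 := Nat.cast_card_eq_zero K
    rw [ringChar.spec, h2, hKcard] at h1
    have := Nat.Prime.dvd_of_dvd_pow Nat.prime_two h1
    exact hp2 ((Nat.prime_dvd_prime_iff_eq Nat.prime_two hp).mp this).symm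
  · have hodd' : Odd (Nat.card ↥(stabilizer G x ⊓ stabilizer G b : Subgroup G)) := by
      rw [he]; exact hodd
    have heq' : Fintype.card Ω - 2 =
        2 * Nat.card ↥(stabilizer G x ⊓ stabilizer G b : Subgroup G) := by rw [he]; exact heq
    haveI : IsSimpleGroup G :=
      FeitZass.isSimpleGroup_of_eq hZ hxb F hFle hFn hFab' hreg hodd' heq'
    have hinv := FeitZass.swap_inverts hZ hxb hodd'
    obtain ⟨p, n, hp, hn, hp2, -, hiso⟩ :=
      ZassPSLOdd.zassenhaus_psl_odd hZ hxb hodd' heq' F hFle hFn hFab' hreg hinv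
    letI : Fintype (GaloisField p n) := Fintype.ofFinite _
    refine ⟨GaloisField p n, inferInstance, inferInstance, ?_, hiso⟩
    rw [ringChar.eq (GaloisField p n) p]
    exact hp2

end Cfsg.Agent.S0731
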