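import Cfsg.Statements.S0252
import Cfsg.Agent.Lib.Helper07.PermEmbed

set_option autoImplicit false
open Cfsg

namespace Cfsg.Agent.S0252

/-- PSL_2(4) is isomorphic to A_5. -/
theorem result {F : Type*} [Field F] [Fintype F] (hF : Fintype.card F = 4) : Nonempty (Matrix.ProjectiveSpecialLinearGroup (Fin 2) F ≃* alternatingGroup (Fin 5)) := by
  classical
  have hcard : Nat.card (Matrix.ProjectiveSpecialLinearGroup (Fin 2) F) = 60 := by
    have h := Cfsg.Agent.Lib.Helper07.card_psl_two (F := F)
    rw [hF] at h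
    generalize Nat.card (Matrix.ProjectiveSpecialLinearGroup (Fin 2) F) = c at h ⊢
    norm_num at h
    omega
  exact Cfsg.Agent.Lib.Helper07.nonempty_mulEquiv_alternatingGroup _
    (Matrix.ProjectiveSpecialLinearGroup.toPermHom_injective (K := F) (ι := Fin 2)) 5
    (by rw [Cfsg.Agent.Lib.Helper07.card_projLine, hF]) (by rw [hcard]; rfl)

end Cfsg.Agent.S0252
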