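-- Statement S0673: translation-invariant subspaces of functions on ZMod p.
import Mathlib
import Cfsg.Statements.S0673

set_option autoImplicit false
open Cfsg

namespace Cfsg.Agent.S0673

open Polynomial Module

section
variable {p : ℕ} [Fact p.Prime] {K : Type*} [Field K] [CharP K p]

/-- evaluation of a polynomial at the points of `ZMod p`. -/
noncomputable def ev (p : ℕ) [Fact p.Prime] (K : Type*) [Field K] [CharP K p] :
    K[X] →ₗ[K] (ZMod p → K) where
  toFun P := fun j => P.eval (ZMod.cast j : K)
  map_add' := by intros; ext; simp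
  map_smul' := by intros; ext; simp

/-- the backward difference operator. -/
def Dl (p : ℕ) [Fact p.Prime] (K : Type*) [Field K] [CharP K p] :
    Module.End K (ZMod p → K) where
  toFun f := fun j => f j - f (j - 1)
  map_add' := by intros; ext; simp; ring
  map_smul' := by intros; ext; simp [mul_sub]

omit [Fact p.Prime] in
lemma cast_inj' [Fact p.Prime] : Function.Injective (fun j : ZMod p => (ZMod.cast j : K)) := by
  have h := (ZMod.castHom (dvd_refl p) K).injective
  intro a b hab
  exact h (by simpa using hab)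

lemma Dl_ev (P : K[X]) : Dl p K (ev p K P) = ev p K (P - taylor (-1) P) := by
  ext j
  simp only [Dl, ev, LinearMap.coe_mk, AddHom.coe_mk, eval_sub, taylor_eval]
  rw [ZMod.cast_sub (dvd_refl p), ZMod.cast_one (dvd_refl p)]
  ring_nf

lemma degree_diff_lt (P : K[X]) (hP : P ≠ 0) : (P - taylor (-1) P).degree < P.degree := by
  apply degree_sub_lt_left
  · rw [degree_taylor]
  · exact hP
  · rw [leadingCoeff_taylor]

/-- polynomial functions of degree `< r`. -/
noncomputable def Pr (p : ℕ) [Fact p.Prime] (K : Type*) [Field K] [CharP K p] (r : ℕ) :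
    Submodule K (ZMod p → K) :=
  (degreeLT K r).map (ev p K)

lemma mem_Pr (r : ℕ) (f : ZMod p → K) :
    f ∈ Pr p K r ↔ ∃ P : K[X], P.degree < r ∧ ∀ j : ZMod p, f j = P.eval (ZMod.cast j : K) := by
  unfold Pr
  rw [Submodule.mem_map]
  constructor
  · rintro ⟨P, hP, rfl⟩
    exact ⟨P, mem_degreeLT.1 hP, fun j => rfl⟩
  · rintro ⟨P, hP, h⟩
    exact ⟨P, mem_degreeLT.2 hP, by ext j; exact (h j).symm⟩

lemma Dl_Pr (r : ℕ) (f : ZMod p → K) (hf : f ∈ Pr p K (r + 1)) : Dl p K f ∈ Pr p K r := by
  unfold Pr at hf ⊢
  rw [Submodule.mem_map] at hf ⊢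
  obtain ⟨P, hP, rfl⟩ := hf
  refine ⟨P - taylor (-1) P, ?_, (Dl_ev P).symm⟩
  rw [mem_degreeLT] at hP ⊢
  by_cases h0 : P = 0
  · subst h0
    simp
  · have h1 := degree_diff_lt P h0
    have h2 : P.degree ≤ r := by
      rw [degree_eq_natDegree h0] at hP ⊢
      have : P.natDegree < r + 1 := by exact_mod_cast hP
      exact_mod_cast Nat.lt_succ_iff.1 this
    exact lt_of_lt_of_le h1 h2

lemma Pr_le_ker (r : ℕ) : Pr p K r ≤ LinearMap.ker ((Dl p K) ^ r) := by
  induction r with
  | zero =>
    intro f hf
    unfold Pr at hf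
    rw [Submodule.mem_map] at hf
    obtain ⟨P, hP, rfl⟩ := hf
    rw [mem_degreeLT] at hP
    have : P = 0 := by
      by_contra h
      rw [degree_eq_natDegree h] at hP
      have : (P.natDegree : WithBot ℕ) < ((0 : ℕ) : WithBot ℕ) := hP
      have := WithBot.coe_lt_coe.1 this
      omega
    subst this
    simp
  | succ r ih =>
    intro f hf
    rw [LinearMap.mem_ker, pow_succ, Module.End.mul_apply]
    exact ih (Dl_Pr r f hf)

lemma ev_inj (r : ℕ) (hr : r ≤ p) (P : K[X]) (hP : P.degree < r) (h : ev p K P = 0) : P = 0 := by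
  apply eq_zero_of_natDegree_lt_card_of_eval_eq_zero P (cast_inj' (p := p) (K := K))
  · intro j
    exact congrFun h j
  · rw [ZMod.card]
    by_cases h0 : P = 0
    · subst h0
      simpa using (Fact.out : p.Prime).pos
    · rw [degree_eq_natDegree h0] at hP
      have : P.natDegree < r := by exact_mod_cast hP
      omega

lemma finrank_Pr (r : ℕ) (hr : r ≤ p) : finrank K (Pr p K r) = r := by
  have hinj : Function.Injective ((ev p K).domRestrict (degreeLT K r)) := by
    rw [← LinearMap.ker_eq_bot, LinearMap.ker_eq_bot']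
    rintro ⟨P, hP⟩ h
    have := ev_inj r hr P (mem_degreeLT.1 hP) (by simpa using h)
    exact Subtype.ext this
  have h1 : Pr p K r = LinearMap.range ((ev p K).domRestrict (degreeLT K r)) := by
    unfold Pr
    ext f
    simp only [Submodule.mem_map, LinearMap.mem_range, LinearMap.domRestrict_apply,
      Subtype.exists, exists_prop]
  rw [h1, LinearMap.finrank_range_of_inj hinj, LinearEquiv.finrank_eq (degreeLTEquiv K r),
    Module.finrank_fin_fun]

lemma ker_Dl_le : LinearMap.ker (Dl p K) ≤ Submodule.span K {(fun _ => (1 : K) : ZMod p → K)} := by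
  intro f hf
  rw [LinearMap.mem_ker] at hf
  have h1 : ∀ j : ZMod p, f j = f (j - 1) := by
    intro j
    have := congrFun hf j
    simp only [Dl, LinearMap.coe_mk, AddHom.coe_mk, Pi.zero_apply] at this
    exact sub_eq_zero.1 this
  have h2 : ∀ n : ℕ, f (n : ZMod p) = f 0 := by
    intro n
    induction n with
    | zero => simp
    | succ n ih =>
      rw [h1]
      simpa using ih
  rw [Submodule.mem_span_singleton]
  refine ⟨f 0, ?_⟩
  ext j
  have := h2 j.val
  rw [ZMod.natCast_zmod_val] at this
  simp [this]

lemma finrank_ker_Dl : finrank K (LinearMap.ker (Dl p K)) ≤ 1 := by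
  refine le_trans (Submodule.finrank_mono ker_Dl_le) ?_
  exact (finrank_span_le_card _).trans (by simp)

lemma finrank_comap_le {V : Type*} [AddCommGroup V] [Module K V] [FiniteDimensional K V]
    (g : Module.End K V) (S : Submodule K V) :
    finrank K (S.comap g) ≤ finrank K S + finrank K (LinearMap.ker g) := by
  let h : (S.comap g) →ₗ[K] S := g.restrict (fun x hx => hx)
  have h1 := h.finrank_range_add_finrank_ker
  have h2 : finrank K (LinearMap.range h) ≤ finrank K S := Submodule.finrank_le _
  have h3 : finrank K (LinearMap.ker h) ≤ finrank K (LinearMap.ker g) := by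
    let i : LinearMap.ker h →ₗ[K] LinearMap.ker g :=
      { toFun := fun x => ⟨x.1.1, by
          have := x.2
          rw [LinearMap.mem_ker] at this ⊢
          have h4 : ((h x.1 : S) : V) = 0 := by rw [this]; rfl
          exact h4⟩
        map_add' := by intros; rfl
        map_smul' := by intros; rfl }
    apply LinearMap.finrank_le_finrank_of_injective (f := i)
    intro x y hxy
    have := congrArg Subtype.val hxy
    exact Subtype.ext (Subtype.ext this)
  omega

lemma finrank_ker_pow_le (r : ℕ) : finrank K (LinearMap.ker ((Dl p K) ^ r)) ≤ r := by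
  induction r with
  | zero =>
    simp [Module.End.one_eq_id]
  | succ r ih =>
    have h1 : LinearMap.ker ((Dl p K) ^ (r + 1)) = (LinearMap.ker ((Dl p K) ^ r)).comap (Dl p K) := by
      ext f
      simp [pow_succ, Module.End.mul_apply]
    rw [h1]
    have := finrank_comap_le (Dl p K) (LinearMap.ker ((Dl p K) ^ r))
    have := finrank_ker_Dl (p := p) (K := K)
    omega

lemma Pr_eq_ker (r : ℕ) (hr : r ≤ p) : Pr p K r = LinearMap.ker ((Dl p K) ^ r) := by
  apply Submodule.eq_of_le_of_finrank_le (Pr_le_ker r)
  rw [finrank_Pr r hr]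
  exact finrank_ker_pow_le r

lemma Dl_pow_p : (Dl p K) ^ p = 0 := by
  have h1 : Pr p K p = ⊤ := by
    apply Submodule.eq_top_of_finrank_eq
    rw [finrank_Pr p le_rfl, Module.finrank_fintype_fun_eq_card K, ZMod.card]
  have h2 := Pr_le_ker (p := p) (K := K) p
  rw [h1] at h2
  apply LinearMap.ext
  intro f
  have := h2 (Submodule.mem_top : f ∈ (⊤ : Submodule K (ZMod p → K)))
  simpa using this

end

/-- In characteristic `p`, the translation-invariant subspaces of the space of functions on `ZMod p` are exactly the spaces of polynomial functions of degree less than `r`, one for each `r ≤ p`, of dimension `r`. -/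
theorem result {p : ℕ} [Fact p.Prime] {K : Type*} [Field K] [CharP K p] (W : Submodule K (ZMod p → K)) (hW : ∀ f ∈ W, (fun j => f (j - 1)) ∈ W) : ∃ r : ℕ, r ≤ p ∧ Module.finrank K W = r ∧ ∀ f : ZMod p → K, f ∈ W ↔ ∃ P : Polynomial K, P.degree < r ∧ ∀ j : ZMod p, f j = P.eval (ZMod.cast j : K) := by
  have hr : finrank K W ≤ p := by
    have := Submodule.finrank_le W
    rwa [Module.finrank_fintype_fun_eq_card K, ZMod.card] at this
  refine ⟨finrank K W, hr, rfl, ?_⟩
  -- W is invariant under Dl
  have hinv : ∀ f ∈ W, Dl p K f ∈ W := by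
    intro f hf
    have : Dl p K f = f - (fun j => f (j - 1)) := by
      ext j; simp [Dl]
    rw [this]
    exact W.sub_mem hf (hW f hf)
  let g : Module.End K W := (Dl p K).restrict hinv
  have hgpow : ∀ (n : ℕ) (w : W), ((g ^ n) w : ZMod p → K) = ((Dl p K) ^ n) w.1 := by
    intro n
    induction n with
    | zero => intro w; simp
    | succ n ih =>
      intro w
      rw [pow_succ, Module.End.mul_apply, ih, pow_succ, Module.End.mul_apply]
      rfl
  have hgp : g ^ p = 0 := by
    ext1 w
    apply Subtype.ext
    rw [hgpow, Dl_pow_p]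
    simp
  have hker : LinearMap.ker (g ^ finrank K W) = ⊤ := by
    have := Module.End.ker_pow_le_ker_pow_finrank g p
    rw [hgp, LinearMap.ker_zero] at this
    exact top_le_iff.1 this
  have hWle : W ≤ Pr p K (finrank K W) := by
    rw [Pr_eq_ker _ hr]
    intro f hf
    rw [LinearMap.mem_ker]
    have h1 : (⟨f, hf⟩ : W) ∈ LinearMap.ker (g ^ finrank K W) := by rw [hker]; trivial
    rw [LinearMap.mem_ker] at h1
    have := congrArg Subtype.val h1
    rw [hgpow] at this
    simpa using this
  have hEq : W = Pr p K (finrank K W) := by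
    apply Submodule.eq_of_le_of_finrank_le hWle
    rw [finrank_Pr _ hr]
  intro f
  rw [← mem_Pr]
  constructor
  · intro hf; rw [← hEq]; exact hf
  · intro hf; rw [hEq]; exact hf

end Cfsg.Agent.S0673
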