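import Cfsg.Statements.S3335
import Cfsg.Agent.Lib.Helper64.Carm2
-- import your own Cfsg.Agent.* helpers here

set_option autoImplicit false
open Cfsg

namespace Cfsg.Agent.S3335

open Cfsg.Agent.Lib.Helper64 in
theorem main (k : ℕ) (hk : 1 ≤ k) :
    Nonempty (PresentedGroup
      ({g : FreeGroup (Fin k) | ∃ i : Fin k, i.val = 0 ∧ g = FreeGroup.of i ^ 3} ∪
       {g | ∃ i : Fin k, 1 ≤ i.val ∧ g = FreeGroup.of i ^ 2} ∪
       {g | ∃ i j : Fin k, j.val = i.val + 1 ∧ g = (FreeGroup.of i * FreeGroup.of j) ^ 3} ∪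
       {g | ∃ i j : Fin k, i.val + 1 < j.val ∧ g = (FreeGroup.of i * FreeGroup.of j) ^ 2})
      ≃* alternatingGroup (Fin (k + 2))) := by
  set rels : Set (FreeGroup (Fin k)) :=
      ({g : FreeGroup (Fin k) | ∃ i : Fin k, i.val = 0 ∧ g = FreeGroup.of i ^ 3} ∪
       {g | ∃ i : Fin k, 1 ≤ i.val ∧ g = FreeGroup.of i ^ 2} ∪
       {g | ∃ i j : Fin k, j.val = i.val + 1 ∧ g = (FreeGroup.of i * FreeGroup.of j) ^ 3} ∪
       {g | ∃ i j : Fin k, i.val + 1 < j.val ∧ g = (FreeGroup.of i * FreeGroup.of j) ^ 2})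
    with hrels
  -- the generators of the presented group
  let y : ℕ → PresentedGroup rels := fun i =>
    if h : i < k then PresentedGroup.of ⟨i, h⟩ else 1
  have hyi : ∀ i (h : i < k), y i = PresentedGroup.of ⟨i, h⟩ := by
    intro i h
    simp only [y, dif_pos h]
  have hy : CarRel y k := by
    refine ⟨?_, ?_, ?_, ?_⟩
    · rw [hyi 0 (by omega)]
      have hmem : (FreeGroup.of (⟨0, by omega⟩ : Fin k)) ^ 3 ∈ rels :=
        Or.inl (Or.inl (Or.inl ⟨⟨0, by omega⟩, rfl, rfl⟩))
      have := PresentedGroup.one_of_mem hmem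
      rwa [map_pow] at this
    · intro i h1 h2
      rw [hyi i h2]
      have hmem : (FreeGroup.of (⟨i, h2⟩ : Fin k)) ^ 2 ∈ rels :=
        Or.inl (Or.inl (Or.inr ⟨⟨i, h2⟩, h1, rfl⟩))
      have := PresentedGroup.one_of_mem hmem
      rwa [map_pow, pow_two] at this
    · intro i h1
      rw [hyi i (by omega), hyi (i + 1) h1]
      have hmem : (FreeGroup.of (⟨i, by omega⟩ : Fin k) * FreeGroup.of (⟨i + 1, h1⟩ : Fin k)) ^ 3
          ∈ rels :=
        Or.inl (Or.inr ⟨⟨i, by omega⟩, ⟨i + 1, h1⟩, rfl, rfl⟩)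
      have := PresentedGroup.one_of_mem hmem
      rwa [map_pow, map_mul] at this
    · intro i j h1 h2
      rw [hyi i (by omega), hyi j h2]
      have hmem : (FreeGroup.of (⟨i, by omega⟩ : Fin k) * FreeGroup.of (⟨j, h2⟩ : Fin k)) ^ 2
          ∈ rels :=
        Or.inr ⟨⟨i, by omega⟩, ⟨j, h2⟩, h1, rfl⟩
      have := PresentedGroup.one_of_mem hmem
      rwa [map_pow, map_mul] at this
  have hK : carK y k = ⊤ := by
    rw [eq_top_iff, ← PresentedGroup.closure_range_of rels]
    apply Subgroup.closure_mono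
    rintro _ ⟨j, rfl⟩
    exact ⟨j.val, j.isLt, (hyi j.val j.isLt).symm⟩
  obtain ⟨hfin, hcard⟩ := hy.card_bound k hk
  rw [hK] at hfin hcard
  rw [Subgroup.card_top] at hcard
  haveI : Finite (PresentedGroup rels) :=
    Finite.of_equiv _ (Subgroup.topEquiv (G := PresentedGroup rels)).toEquiv
  -- the homomorphism to the alternating group
  let f : Fin k → alternatingGroup (Fin (k + 2)) := fun i => ⟨cgen k i.val, cgen_mem_alt k i.isLt⟩
  have hC := cgen_carRel k
  have hrel : ∀ r ∈ rels, FreeGroup.lift f r = 1 := by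
    intro r hr
    rcases hr with ((⟨i, hi, rfl⟩ | ⟨i, hi, rfl⟩) | ⟨i, j, hij, rfl⟩) | ⟨i, j, hij, rfl⟩
    · rw [map_pow, FreeGroup.lift_apply_of]
      apply Subtype.ext
      simp only [f, Subgroup.coe_pow, Subgroup.coe_one, hi]
      exact hC.r1
    · rw [map_pow, FreeGroup.lift_apply_of]
      apply Subtype.ext
      simp only [f, Subgroup.coe_pow, Subgroup.coe_one]
      rw [pow_two]
      exact hC.r2 i.val hi i.isLt
    · rw [map_pow, map_mul, FreeGroup.lift_apply_of, FreeGroup.lift_apply_of]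
      apply Subtype.ext
      simp only [f, Subgroup.coe_pow, Subgroup.coe_mul, Subgroup.coe_one, hij]
      exact hC.r3 i.val (by have := j.isLt; omega)
    · rw [map_pow, map_mul, FreeGroup.lift_apply_of, FreeGroup.lift_apply_of]
      apply Subtype.ext
      simp only [f, Subgroup.coe_pow, Subgroup.coe_mul, Subgroup.coe_one]
      exact hC.r4 i.val j.val hij j.isLt
  let φ : PresentedGroup rels →* alternatingGroup (Fin (k + 2)) := PresentedGroup.toGroup hrel
  let ψ : PresentedGroup rels →* Equiv.Perm (Fin (k + 2)) :=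
    (alternatingGroup (Fin (k + 2))).subtype.comp φ
  have hrange : carK (cgen k) k ≤ ψ.range := by
    unfold carK
    rw [Subgroup.closure_le]
    rintro g ⟨i, hi, rfl⟩
    refine ⟨PresentedGroup.of ⟨i, hi⟩, ?_⟩
    simp only [ψ, φ, MonoidHom.comp_apply, PresentedGroup.toGroup.of, f]
    rfl
  have hsurj : Function.Surjective φ := by
    intro a
    have ha : (a : Equiv.Perm (Fin (k + 2))) ∈ carK (cgen k) k := by
      rw [carK_cgen_eq]
      exact a.2
    obtain ⟨x, hx⟩ := hrange ha
    exact ⟨x, Subtype.ext hx⟩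
  have hcard2 := two_mul_card_alt k
  have hbij : Function.Bijective φ :=
    hsurj.bijective_of_nat_card_le (by omega)
  exact ⟨MulEquiv.ofBijective φ hbij⟩

/-- A presentation of the alternating group of degree n ≥ 3 on generators x_1, …, x_{n−2} (indexed here by 0, …, n−3): the first generator cubes to 1, every other generator squares to 1, the product of two consecutive generators has order dividing 3, and the product of two generators at distance at least 2 has order dividing 2. The group so presented is isomorphic to the alternating group of degree n. -/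
theorem result (n : ℕ) (hn : 3 ≤ n) :
    Nonempty (PresentedGroup
      ({g : FreeGroup (Fin (n - 2)) | ∃ i : Fin (n - 2), i.val = 0 ∧ g = FreeGroup.of i ^ 3} ∪
       {g | ∃ i : Fin (n - 2), 1 ≤ i.val ∧ g = FreeGroup.of i ^ 2} ∪
       {g | ∃ i j : Fin (n - 2), j.val = i.val + 1 ∧ g = (FreeGroup.of i * FreeGroup.of j) ^ 3} ∪
       {g | ∃ i j : Fin (n - 2), i.val + 1 < j.val ∧ g = (FreeGroup.of i * FreeGroup.of j) ^ 2})
      ≃* alternatingGroup (Fin n)) := by
  obtain ⟨k, rfl⟩ : ∃ k, n = k + 2 := ⟨n - 2, by omega⟩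
  exact main k (by omega)

end Cfsg.Agent.S3335
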