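import Cfsg.Statements.S0111
import Mathlib.GroupTheory.IndexNormal

set_option autoImplicit false
open Cfsg

namespace Cfsg.Agent.S0111

open scoped IsMulCommutative in
/-- The Thompson transfer lemma states that an involution of a Sylow 2-subgroup P lying outside a subgroup Q of index 2 in P either lies outside some normal subgroup of index 2 in G or is conjugate to an element of Q. -/
theorem result {G : Type*} [Group G] [Finite G] (P : Sylow 2 G) (Q : Subgroup G) (hQP : Q ≤ (P : Subgroup G)) (hQi : Q.relIndex (P : Subgroup G) = 2) (u : G) (hu : orderOf u = 2) (huP : u ∈ (P : Subgroup G)) (huQ : u ∉ Q) : (∃ M : Subgroup G, M.Normal ∧ M.index = 2 ∧ u ∉ M) ∨ ∃ g : G, g * u * g⁻¹ ∈ Q := by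
  by_contra hcon
  push Not at hcon
  obtain ⟨hM, hconj⟩ := hcon
  have : Fact (Nat.Prime 2) := ⟨Nat.prime_two⟩
  have hidx : (Q.subgroupOf (P : Subgroup G)).index = 2 := hQi
  have hnorm : (Q.subgroupOf (P : Subgroup G)).Normal := Subgroup.normal_of_index_eq_two hidx
  have hcardA : Nat.card ((P : Subgroup G) ⧸ Q.subgroupOf (P : Subgroup G)) = 2 := hidx
  have hcyc : IsCyclic ((P : Subgroup G) ⧸ Q.subgroupOf (P : Subgroup G)) :=
    isCyclic_of_prime_card hcardA
  have hcomm : IsMulCommutative ((P : Subgroup G) ⧸ Q.subgroupOf (P : Subgroup G)) :=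
    hcyc.isMulCommutative
  let φ : (P : Subgroup G) →* (P : Subgroup G) ⧸ Q.subgroupOf (P : Subgroup G) :=
    QuotientGroup.mk' (Q.subgroupOf (P : Subgroup G))
  have hφ1 : ∀ x : (P : Subgroup G), φ x = 1 ↔ (x : G) ∈ Q := by
    intro x
    rw [QuotientGroup.mk'_apply, QuotientGroup.eq_one_iff, Subgroup.mem_subgroupOf]
  set t := φ ⟨u, huP⟩ with ht
  have ht1 : t ≠ 1 := by
    intro h
    exact huQ ((hφ1 _).mp h)
  have huniq : ∀ a b : (P : Subgroup G) ⧸ Q.subgroupOf (P : Subgroup G), a ≠ 1 → b ≠ 1 → a = b := by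
    intro a b ha hb
    exact ((Nat.card_eq_two_iff' (1 : (P : Subgroup G) ⧸ Q.subgroupOf (P : Subgroup G))).mp
      hcardA).unique ha hb
  have ht2 : t ^ 2 = 1 := by
    have := pow_card_eq_one' (G := (P : Subgroup G) ⧸ Q.subgroupOf (P : Subgroup G)) (x := t)
    rwa [hcardA] at this
  have hu2 : u ^ 2 = 1 := by rw [← hu]; exact pow_orderOf_eq_one u
  have : Fintype (Quotient (MulAction.orbitRel (Subgroup.zpowers u) (G ⧸ (P : Subgroup G)))) :=
    Fintype.ofFinite _
  have hV := MonoidHom.transfer_eq_prod_quotient_orbitRel_zpowers_quot φ u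
  -- each factor equals `t ^ minimalPeriod`
  have hfactor : ∀ (q : Quotient (MulAction.orbitRel (Subgroup.zpowers u) (G ⧸ (P : Subgroup G))))
      (x : (P : Subgroup G)),
      (x : G) = q.out.out⁻¹ * u ^ Function.minimalPeriod (u • ·) q.out * q.out.out →
      φ x = t ^ Function.minimalPeriod (u • ·) q.out := by
    intro q x hx
    have hper : Function.IsPeriodicPt (u • · : G ⧸ (P : Subgroup G) → G ⧸ (P : Subgroup G)) 2
        q.out := by
      show (u • · : G ⧸ (P : Subgroup G) → G ⧸ (P : Subgroup G))^[2] q.out = q.out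
      simp only [Function.iterate_succ, Function.iterate_zero, Function.comp_apply, id]
      rw [← mul_smul, ← pow_two, hu2, one_smul]
    have hdvd : Function.minimalPeriod (u • ·) q.out ∣ 2 := hper.minimalPeriod_dvd
    have hcases : Function.minimalPeriod (u • ·) q.out = 1 ∨
        Function.minimalPeriod (u • ·) q.out = 2 :=
      (Nat.dvd_prime Nat.prime_two).mp hdvd
    rcases hcases with h1 | h2
    · rw [h1, pow_one] at hx ⊢
      apply huniq _ _ _ ht1
      intro h
      have hxQ : (x : G) ∈ Q := (hφ1 x).mp h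
      apply hconj (q.out.out⁻¹)
      rw [inv_inv, ← hx]
      exact hxQ
    · rw [h2, hu2] at hx
      rw [h2, ht2]
      have : x = 1 := by
        apply Subtype.ext
        rw [hx]; simp
      rw [this, map_one]
  have hV' : MonoidHom.transfer φ u = t ^ (P : Subgroup G).index := by
    rw [hV, Subgroup.index_eq_sum_minimalPeriod (P : Subgroup G) u, ← Finset.prod_pow_eq_pow_sum]
    apply Finset.prod_congr rfl
    intro q _
    exact hfactor q _ rfl
  have hodd : ¬ 2 ∣ (P : Subgroup G).index := P.not_dvd_index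
  have hVu : MonoidHom.transfer φ u = t := by
    rw [hV']
    obtain ⟨k, hk⟩ := Nat.odd_iff.mpr (Nat.two_dvd_ne_zero.mp hodd)
    rw [hk, pow_succ, pow_mul, ht2, one_pow, one_mul]
  -- the kernel of the transfer is the required subgroup
  have hmem := hM (MonoidHom.transfer φ).ker inferInstance ?_
  · rw [MonoidHom.mem_ker, hVu] at hmem
    exact ht1 hmem
  · rw [Subgroup.index_ker]
    have h1 : Nat.card (MonoidHom.transfer φ).range ∣ 2 := by
      have := Subgroup.card_subgroup_dvd_card (MonoidHom.transfer φ).range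
      rwa [hcardA] at this
    rcases (Nat.dvd_prime Nat.prime_two).mp h1 with h | h
    · exfalso
      have hbot : (MonoidHom.transfer φ).range = ⊥ := Subgroup.card_eq_one.mp h
      have : t ∈ (MonoidHom.transfer φ).range := ⟨u, hVu⟩
      rw [hbot, Subgroup.mem_bot] at this
      exact ht1 this
    · exact h

end Cfsg.Agent.S0111
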