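import Cfsg.Statements.S4431
import Cfsg.Agent.Lib.Helper21.RegularPart

set_option autoImplicit false
open Cfsg

namespace Cfsg.Agent.S4431

open Cfsg.Agent.Lib.Helper21 Cfsg.Agent.Lib.Helper82 Cfsg.Agent.Lib.Helper83
open scoped ComplexConjugate

/-- The inner product in the statement, rewritten with the central character of `ψ`. -/
theorem inner_eq {G : Type*} [Group G] [Fintype G] (p : ℕ) (H : Subgroup G) [Fintype H]
    (χ : Cfsg.IrrCharacter G) (ψ : Cfsg.IrrCharacter H) (c : ℂ) :
    Cfsg.classInner (fun h : H => if p ∣ orderOf h then (0 : ℂ) else c * (χ : G → ℂ) h)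
        (ψ : H → ℂ) / (ψ : H → ℂ) 1
      = c / (Nat.card H : ℂ) * omega (fun h : H => regConj p (χ : G → ℂ) (h : G)) (ψ : H → ℂ) := by
  have hψc : Cfsg.IsCharacter H (ψ : H → ℂ) := IrrCharacter_isCharacter ψ
  have hχc : Cfsg.IsCharacter G (χ : G → ℂ) := IrrCharacter_isCharacter χ
  rw [classInner_def, omega]
  have hsum : ∑ h : H, (if p ∣ orderOf h then (0 : ℂ) else c * (χ : G → ℂ) h) * conj ((ψ : H → ℂ) h)
      = c * ∑ h : H, regConj p (χ : G → ℂ) (h : G) * (ψ : H → ℂ) h := by
    rw [← Equiv.sum_comp (Equiv.inv H), Finset.mul_sum]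
    apply Finset.sum_congr rfl
    intro h _
    simp only [Equiv.inv_apply, orderOf_inv, regConj_apply, Subgroup.orderOf_coe]
    split_ifs
    · simp
    · rw [char_inv hψc, Complex.conj_conj, Subgroup.coe_inv, char_inv hχc]
      ring
  rw [hsum]
  ring


/-- Let H be a subgroup of the finite group G and b a block of H whose induced block B₀ in G is defined (relative to a maximal ideal M of the algebraic integers containing p). Let χ be an irreducible character of G, ψ ∈ b, and let η be the class function on H equal to p^a · χ on the p-regular elements of H and zero elsewhere, p^a being the p-part of the order of H. Then (a) if χ ∉ B₀, the number [η, ψ]/ψ(1) lies in the local ideal at M; (b) if χ ∈ B₀ has height zero, it does not. -/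
theorem result {G : Type*} [Group G] [Fintype G] (p : ℕ) [Fact p.Prime] (M : Ideal Cfsg.AlgInt) (hM : Cfsg.IsPModular p M) (H : Subgroup G) [Fintype H] (b : Set (Cfsg.IrrCharacter H)) (B₀ : Set (Cfsg.IrrCharacter G)) (hind : Cfsg.IsInducedBlock M H b B₀) (χ : Cfsg.IrrCharacter G) (ψ : Cfsg.IrrCharacter H) (hψ : ψ ∈ b) : (χ ∉ B₀ → Cfsg.MemLocalIdeal M (Cfsg.classInner (fun h : H => if p ∣ orderOf h then (0 : ℂ) else ((p ^ (Nat.card H).factorization p : ℕ) : ℂ) * (χ : G → ℂ) h) (ψ : H → ℂ) / (ψ : H → ℂ) 1)) ∧ (χ ∈ B₀ → Cfsg.blockHeight p B₀ (χ : G → ℂ) = 0 → ¬ Cfsg.MemLocalIdeal M (Cfsg.classInner (fun h : H => if p ∣ orderOf h then (0 : ℂ) else ((p ^ (Nat.card H).factorization p : ℕ) : ℂ) * (χ : G → ℂ) h) (ψ : H → ℂ) / (ψ : H → ℂ) 1)) := by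
  classical
  have := Fintype.ofFinite (Cfsg.IrrCharacter G)
  have := Fintype.ofFinite (Cfsg.IrrCharacter H)
  have hp : p.Prime := Fact.out
  have hprime : M.IsPrime := hM.2.1.isPrime
  obtain ⟨χ₀, hχ₀⟩ := Cfsg.Agent.Lib.Helper82.IsPBlock.nonempty hprime hind.2.1
  have hB₀ : B₀ = blockOf M (χ₀ : G → ℂ) := IsPBlock.eq_blockOf hprime hind.2.1 hχ₀
  have hΘc : IsClassFunction G (regConj p (χ : G → ℂ)) :=
    regConj_isClassFunction p (isClassFunction_irr χ)
  have hΘR : ∀ g, MemLocalRing M (regConj p (χ : G → ℂ) g) := regConj_memLocalRing p hprime χ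
  -- the unit
  set a := (Nat.card H).factorization p with ha
  have hH0 : Nat.card H ≠ 0 := Nat.card_pos.ne'
  have hH0' : (Nat.card H : ℂ) ≠ 0 := by exact_mod_cast hH0
  have hpa0 : ((p ^ a : ℕ) : ℂ) ≠ 0 := by
    have : p ^ a ≠ 0 := pow_ne_zero _ hp.ne_zero
    exact_mod_cast this
  have huR : MemLocalRing M (((p ^ a : ℕ) : ℂ) / (Nat.card H : ℂ)) := by
    apply memLocalRing_natCast_div hM hH0
    rw [Nat.factorization_pow]
    simp [hp.factorization_self, ha, Nat.card_eq_fintype_card]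
  have hmdvd : p ^ a ∣ Nat.card H := Nat.ordProj_dvd _ _
  obtain ⟨m, hm⟩ := hmdvd
  have hmu : (m : ℂ) * (((p ^ a : ℕ) : ℂ) / (Nat.card H : ℂ)) = 1 := by
    rw [hm]
    push_cast
    have hm0 : (m : ℂ) ≠ 0 := by
      have : m ≠ 0 := by
        rintro rfl
        exact hH0 (by rw [hm, mul_zero])
      exact_mod_cast this
    have hpc : (p : ℂ) ≠ 0 := by exact_mod_cast hp.ne_zero
    field_simp
  have hback : ∀ x : ℂ, MemLocalIdeal M (((p ^ a : ℕ) : ℂ) / (Nat.card H : ℂ) * x) →
      MemLocalIdeal M x := by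
    intro x hx
    have := memLocalIdeal_mul_left hprime (memLocalRing_natCast hprime m) hx
    rwa [← mul_assoc, hmu, one_mul] at this
  constructor
  · intro hχ
    rw [inner_eq]
    apply memLocalIdeal_mul_left hprime huR
    have h1 := omega_restrict_sub_memLocalIdeal H hprime hind hψ hχ₀ hΘc hΘR
    have hns : ¬ SameBlock M (χ₀ : G → ℂ) (χ : G → ℂ) := by
      intro hs
      apply hχ
      rw [hB₀, mem_blockOf_iff]
      exact hs
    have h0 : omega (regConj p (χ : G → ℂ)) (χ₀ : G → ℂ) = 0 := by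
      rw [omega, omega_regConj_eq_zero hM χ χ₀ hns, zero_div]
    rwa [h0, sub_zero] at h1
  · intro hχ hht hmem
    rw [inner_eq] at hmem
    have h2 := hback _ hmem
    have h1 := omega_restrict_sub_memLocalIdeal H hprime hind hψ hχ hΘc hΘR
    have h3 := memLocalIdeal_sub hprime h2 h1
    rw [sub_sub_cancel] at h3
    refine omega_regConj_not_memLocalIdeal hM χ ?_ h3
    intro χ' hs
    have hχ'B : χ' ∈ B₀ := by
      have hBχ : B₀ = blockOf M (χ : G → ℂ) := IsPBlock.eq_blockOf hprime hind.2.1 hχ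
      rw [hBχ, mem_blockOf_iff]
      exact hs
    unfold Cfsg.blockHeight at hht
    have hle := Nat.sub_eq_zero_iff_le.1 hht
    refine le_trans hle (Nat.sInf_le ?_)
    exact ⟨χ', hχ'B, rfl⟩

end Cfsg.Agent.S4431
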