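-- Statement S0941
import Cfsg.Statements.S0941
import Cfsg.Agent.Lib.Helper22.BlockRegular
import Cfsg.Agent.Lib.Helper22.BlockQuot

set_option autoImplicit false
set_option linter.unusedSectionVars false
open Cfsg

namespace Cfsg.Agent.S0941

open Cfsg.Agent.Lib.Helper22 Cfsg.Agent.Lib.Helper21 Cfsg.Agent.Lib.Helper82 Cfsg.Agent.Lib.Helper83
open scoped ComplexConjugate

universe u
variable {G : Type u} [Group G]

/-- A `p`-regular element of `G ⧸ P` (`P` a normal `p`-subgroup) lifts to a `p`-regular element. -/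
theorem exists_regular_lift [Finite G] {p : ℕ} [Fact p.Prime] (P : Subgroup G) [P.Normal]
    (q : G ⧸ P) (hq : ¬ p ∣ orderOf q) :
    ∃ g : G, (QuotientGroup.mk g : G ⧸ P) = q ∧ ¬ p ∣ orderOf g := by
  have hp : p.Prime := Fact.out
  obtain ⟨g₀, rfl⟩ := QuotientGroup.mk_surjective q
  have hfin : 0 < orderOf g₀ := orderOf_pos g₀
  obtain ⟨a, m, hpm, hord⟩ := Nat.exists_eq_pow_mul_and_not_dvd hfin.ne' p hp.ne_one
  set q : G ⧸ P := QuotientGroup.mk g₀ with hqdef
  have hqdvd : orderOf q ∣ orderOf g₀ :=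
    orderOf_dvd_of_pow_eq_one (by rw [hqdef, ← QuotientGroup.mk_pow, pow_orderOf_eq_one]; rfl)
  have hcop : Nat.Coprime (p ^ a) (orderOf q) :=
    Nat.Coprime.pow_left a ((Nat.Prime.coprime_iff_not_dvd hp).2 hq)
  have hqm : orderOf q ∣ m := by
    rw [hord] at hqdvd
    exact (Nat.Coprime.dvd_mul_left hcop.symm).mp hqdvd
  obtain ⟨c, hc1, hc2⟩ := Nat.chineseRemainder hcop 0 1
  refine ⟨g₀ ^ (c : ℕ), ?_, ?_⟩
  · rw [QuotientGroup.mk_pow, ← hqdef]
    have : q ^ (c : ℕ) = q ^ 1 := by
      rw [pow_eq_pow_iff_modEq]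
      exact hc2
    rw [this, pow_one]
  · have hpc : p ^ a ∣ c := (Nat.modEq_zero_iff_dvd).1 hc1
    have h1 : (g₀ ^ (c : ℕ)) ^ m = 1 := by
      rw [← pow_mul]
      obtain ⟨d, hd⟩ := hpc
      rw [hd, mul_assoc, mul_comm d m, ← mul_assoc, ← hord, pow_mul, pow_orderOf_eq_one, one_pow]
    intro hdvd
    exact hpm (dvd_trans hdvd (orderOf_dvd_of_pow_eq_one h1))

/-- For a `p`-regular `g` centralizing the normal `p`-subgroup `P`, the class sizes of `g` in `G`
and of its image in `G ⧸ P` agree. -/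
theorem index_centralizer_mk [Finite G] {p : ℕ} [Fact p.Prime] (P : Subgroup G) [P.Normal]
    (hP : IsPGroup p P) (g : G) (hg : ¬ p ∣ orderOf g)
    (hgc : g ∈ Subgroup.centralizer (P : Set G)) :
    (Subgroup.centralizer ({(QuotientGroup.mk g : G ⧸ P)} : Set (G ⧸ P))).index =
      (Subgroup.centralizer ({g} : Set G)).index := by
  have hp : p.Prime := Fact.out
  set q : G ⧸ P := QuotientGroup.mk g with hq
  have hK : (Subgroup.centralizer ({q} : Set (G ⧸ P))).comap (QuotientGroup.mk' P) =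
      Subgroup.centralizer ({g} : Set G) := by
    ext x
    simp only [Subgroup.mem_comap, Subgroup.mem_centralizer_iff, Set.mem_singleton_iff, forall_eq,
      QuotientGroup.mk'_apply]
    constructor
    · intro hx
      -- u = g⁻¹ * x * g * x⁻¹ ∈ P
      set u : G := g⁻¹ * (x * g * x⁻¹) with hu
      have huP : u ∈ P := by
        rw [← QuotientGroup.eq_one_iff]
        rw [hu, QuotientGroup.mk_mul, QuotientGroup.mk_mul, QuotientGroup.mk_mul,
          QuotientGroup.mk_inv, QuotientGroup.mk_inv, ← hq]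
        have hx' : (QuotientGroup.mk x : G ⧸ P) * q = q * QuotientGroup.mk x := hx.symm
        rw [hx']
        group
      have hcomm : g * u = u * g := by
        rw [Subgroup.mem_centralizer_iff] at hgc
        exact (hgc u huP).symm
      have hconj : x * g * x⁻¹ = g * u := by rw [hu]; group
      have hpow : (g * u) ^ orderOf g = 1 := by
        rw [← hconj, conj_pow, pow_orderOf_eq_one]; group
      rw [(Commute.mul_pow hcomm (orderOf g)), pow_orderOf_eq_one, one_mul] at hpow
      have hu1 : u = 1 := by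
        obtain ⟨j, hj⟩ := hP ⟨u, huP⟩
        have hj' : u ^ p ^ j = 1 := by
          have := congrArg Subtype.val hj
          simpa using this
        have hcop : Nat.Coprime (p ^ j) (orderOf g) :=
          Nat.Coprime.pow_left j ((Nat.Prime.coprime_iff_not_dvd hp).2 hg)
        have h1 : orderOf u ∣ Nat.gcd (p ^ j) (orderOf g) :=
          Nat.dvd_gcd (orderOf_dvd_of_pow_eq_one hj') (orderOf_dvd_of_pow_eq_one hpow)
        rw [hcop] at h1
        exact orderOf_eq_one_iff.mp (Nat.dvd_one.mp h1)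
      rw [hu1, mul_one] at hconj
      calc g * x = x * g * x⁻¹ * x := by rw [hconj]
        _ = x * g := by group
    · intro hx
      rw [hq, ← QuotientGroup.mk_mul, ← QuotientGroup.mk_mul, hx]
  rw [← hK]
  exact (Subgroup.index_comap_of_surjective _ (QuotientGroup.mk'_surjective P)).symm

/-- The coefficient at `1` of the idempotent of a nonempty set of characters is nonzero. -/
theorem blockCoeff_one_ne_zero [Fintype G] [Fintype (IrrCharacter G)]
    (B : Set (IrrCharacter G)) (χ₀ : IrrCharacter G) (hχ₀ : χ₀ ∈ B) :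
    blockCoeff B 1 ≠ 0 := by
  classical
  rw [blockCoeff_eq_sum]
  have hcard : (Nat.card G : ℂ)⁻¹ ≠ 0 := by
    apply inv_ne_zero
    have : Nat.card G ≠ 0 := Nat.card_pos.ne'
    exact_mod_cast this
  apply mul_ne_zero hcard
  have hterm : ∀ χ : IrrCharacter G,
      (if χ ∈ B then (χ : G → ℂ) 1 * conj ((χ : G → ℂ) 1) else 0) =
      (((if χ ∈ B then charDegree (χ : G → ℂ) * charDegree (χ : G → ℂ) else 0 : ℕ)) : ℂ) := by
    intro χ
    split_ifs
    · rw [← charDegree_cast (IrrCharacter_isCharacter χ)]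
      simp
    · simp
  rw [Finset.sum_congr rfl (fun χ _ => hterm χ), ← Nat.cast_sum]
  have hpos : 0 < ∑ χ : IrrCharacter G,
      (if χ ∈ B then charDegree (χ : G → ℂ) * charDegree (χ : G → ℂ) else 0) := by
    apply Finset.sum_pos'
    · intro χ _; exact Nat.zero_le _
    · refine ⟨χ₀, Finset.mem_univ _, ?_⟩
      rw [if_pos hχ₀]
      exact Nat.mul_pos (irr_charDegree_pos χ₀) (irr_charDegree_pos χ₀)
  exact_mod_cast hpos.ne'

/-- Every block contains a character with the normal `p`-subgroup `P` in its kernel. -/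
theorem exists_mem_block_ker [Fintype G] {p : ℕ} [Fact p.Prime] {M : Ideal AlgInt}
    (hM : IsPModular p M) (P : Subgroup G) [P.Normal] (hP : IsPGroup p P) (χ₀ : IrrCharacter G) :
    ∃ θ ∈ blockOf M (χ₀ : G → ℂ), ∀ u ∈ P, (θ : G → ℂ) u = (θ : G → ℂ) 1 := by
  classical
  let _ : Fintype (IrrCharacter G) := Fintype.ofFinite _
  let _ : Fintype P := Fintype.ofFinite _
  have hp : p.Prime := Fact.out
  have hprime : M.IsPrime := hM.2.1.isPrime
  set B := blockOf M (χ₀ : G → ℂ) with hB
  by_contra hcon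
  push Not at hcon
  -- sum over P of the idempotent coefficients
  have h1 : ∑ u : P, blockCoeff B (u : G) = blockCoeff B 1 := by
    rw [Finset.sum_eq_single (1 : P)]
    · rfl
    · intro u _ hu
      apply blockCoeff_eq_zero_of_singular hM χ₀
      obtain ⟨j, hj⟩ := hP u
      have hj' : (u : G) ^ p ^ j = 1 := by
        have := congrArg Subtype.val hj
        simpa using this
      have hdvd : orderOf (u : G) ∣ p ^ j := orderOf_dvd_of_pow_eq_one hj'
      obtain ⟨i, -, hi⟩ := (Nat.dvd_prime_pow hp).mp hdvd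
      rcases Nat.eq_zero_or_pos i with rfl | hipos
      · exfalso
        rw [pow_zero, orderOf_eq_one_iff] at hi
        exact hu (Subtype.ext hi)
      · rw [hi]; exact dvd_pow_self p hipos.ne'
    · intro h; exact absurd (Finset.mem_univ _) h
  have h2 : ∑ u : P, blockCoeff B (u : G) = 0 := by
    simp_rw [blockCoeff_eq_sum B]
    rw [← Finset.mul_sum, Finset.sum_comm]
    have : ∀ χ : IrrCharacter G,
        ∑ u : P, (if χ ∈ B then (χ : G → ℂ) 1 * conj ((χ : G → ℂ) (u : G)) else 0) = 0 := by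
      intro χ
      split_ifs with hχ
      · rw [← Finset.mul_sum, ← map_sum]
        obtain ⟨u, hu, hne⟩ := hcon χ hχ
        rw [irr_sum_normal_eq_zero χ P ⟨u, hu, hne⟩, map_zero, mul_zero]
      · exact Finset.sum_const_zero
    rw [Finset.sum_congr rfl (fun χ _ => this χ), Finset.sum_const_zero, mul_zero]
  exact blockCoeff_one_ne_zero B χ₀ (mem_blockOf_self hprime χ₀) (h1 ▸ h2)


theorem result {G : Type*} [Group G] [Finite G] (p : ℕ) [Fact p.Prime] (M : Ideal Cfsg.AlgInt) (hM : Cfsg.IsPModular p M) (P : Subgroup G) [P.Normal] (hP : IsPGroup p P) (hC : ∃ k : ℕ, (Subgroup.centralizer (P : Set G)).index = p ^ k) : (∀ χ ψ : Cfsg.IrrCharacter (G ⧸ P), Cfsg.SameBlock M (χ : G ⧸ P → ℂ) (ψ : G ⧸ P → ℂ) ↔ Cfsg.SameBlock M ((χ : G ⧸ P → ℂ) ∘ QuotientGroup.mk) ((ψ : G ⧸ P → ℂ) ∘ QuotientGroup.mk)) ∧ ∀ B : Set (Cfsg.IrrCharacter G), Cfsg.IsPBlock M B → ∃ χ : Cfsg.IrrCharacter (G ⧸ P), ∃ θ ∈ B, (θ : G → ℂ) = (χ : G ⧸ P → ℂ) ∘ QuotientGroup.mk := by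
  classical
  let _ : Fintype G := Fintype.ofFinite G
  let _ : Fintype (G ⧸ P) := Fintype.ofFinite _
  have hprime : M.IsPrime := hM.2.1.isPrime
  obtain ⟨k, hk⟩ := hC
  constructor
  · intro χ ψ
    constructor
    · intro h
      exact sameBlock_inflate hprime P h
    · intro h
      apply sameBlock_of_forall_regular hM
      intro q hq
      obtain ⟨g, rfl, hg⟩ := exists_regular_lift P q hq
      have hgc : g ∈ Subgroup.centralizer (P : Set G) :=
        mem_of_regular_of_index (Subgroup.centralizer (P : Set G)) hk hg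
      have hidx := index_centralizer_mk P hP g hg hgc
      have h1 := h g
      unfold Cfsg.centralChar at h1 ⊢
      simp only [Function.comp, QuotientGroup.mk_one] at h1
      rw [hidx]
      exact h1
  · intro B hB
    obtain ⟨χ₀, rfl⟩ := hB
    obtain ⟨θ, hθ, hker⟩ := exists_mem_block_ker hM P hP χ₀
    obtain ⟨χ', hχ'irr, hχ'eq⟩ := exists_isIrrCharacter_quotient P θ.2 hker
    refine ⟨⟨χ', hχ'irr⟩, θ, hθ, ?_⟩
    funext g
    exact (hχ'eq g).symm

end Cfsg.Agent.S0941
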