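import Cfsg.Statements.S2280
import Cfsg.Agent.Lib.Helper73.RUDefs
import Cfsg.Agent.Lib.Helper73.RUHub

set_option autoImplicit false
open Cfsg

namespace Cfsg.Agent.S2280

open Matrix Cfsg.Agent.Lib.Helper73.RU Cfsg.Agent.Lib.Helper73.RUSpec

/-- the matrix of a conjugate -/
theorem coe_conj_eq {n : ℕ} {F : Type*} [Field F] (g u : SpecialLinearGroup (Fin n) F)
    (B : Matrix (Fin n) (Fin n) F)
    (h : (g : Matrix (Fin n) (Fin n) F) * (u : Matrix (Fin n) (Fin n) F) =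
      B * (g : Matrix (Fin n) (Fin n) F)) :
    ((g * u * g⁻¹ : SpecialLinearGroup (Fin n) F) : Matrix (Fin n) (Fin n) F) = B := by
  have h1 : (g : Matrix (Fin n) (Fin n) F) *
      ((g⁻¹ : SpecialLinearGroup (Fin n) F) : Matrix (Fin n) (Fin n) F) = 1 := by
    have hd := g.2
    simp [mul_adjugate, hd]
  have h2 : ((g * u * g⁻¹ : SpecialLinearGroup (Fin n) F) : Matrix (Fin n) (Fin n) F) =
      (g : Matrix (Fin n) (Fin n) F) * (u : Matrix (Fin n) (Fin n) F) *
        ((g⁻¹ : SpecialLinearGroup (Fin n) F) : Matrix (Fin n) (Fin n) F) := by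
    simp
  rw [h2, h, Matrix.mul_assoc, h1, Matrix.mul_one]

/-- the column argument: all transvections with axis `e_last` lie in `G` -/
theorem elast_mem_Ax {m : ℕ} {F : Type*} [Field F]
    (G : Subgroup (SpecialLinearGroup (Fin (m + 3)) F)) (l δ : F) (hl0 : l ≠ 0)
    (hl : ∀ x : F, x ≠ 0 → ∃ k : ℕ, x = l ^ (k + 1)) (hδ : δ = 1 ∨ δ = -1)
    (ha : InG G (aMat m F)) (hc : InG G (cMat m F δ))
    (hz : InG G (tvm (l • (Pi.single 0 1 : Fin (m + 3) → F)) (Pi.single (Fin.last (m + 2)) 1))) :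
    (Pi.single (Fin.last (m + 2)) 1 : Fin (m + 3) → F) ∈ Ax G := by
  set e : Fin (m + 3) → F := Pi.single (Fin.last (m + 2)) 1 with he
  have hedot : ∀ v : Fin (m + 3) → F, e ⬝ᵥ v = v (Fin.last (m + 2)) := by
    intro v
    rw [he, single_dotProduct, one_mul]
  have h0last : (0 : Fin (m + 3)) ≠ Fin.last (m + 2) := by
    intro h
    have := congrArg Fin.val h
    simp at this
  have hex : e ⬝ᵥ (l • (Pi.single 0 1 : Fin (m + 3) → F)) = 0 := by
    rw [hedot]
    simp [h0last.symm]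
  have hδ0 : δ ≠ 0 := by
    rcases hδ with h | h <;> rw [h] <;> simp
  have hphi0 : phi m F δ 0 = (-1) ^ (m + 2) * δ := by
    unfold phi
    rw [if_neg h0last]
    simp
  have hφx : phi m F δ ⬝ᵥ (l • (Pi.single 0 1 : Fin (m + 3) → F)) = l * phi m F δ 0 := by
    rw [dotProduct_smul, dotProduct_single, mul_one, smul_eq_mul]
  have hμ0 : cMu m F δ 0 = 1 := by
    unfold cMu
    rw [if_neg]
    simp
  have hμ : ∀ j, cMu m F δ j ≠ 0 := by
    intro j
    unfold cMu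
    split_ifs
    · exact hδ0
    · exact one_ne_zero
  let M : Set (Fin (m + 3) → F) := {v | e ⬝ᵥ v = 0 ∧ InG G (tvm v e)}
  have key := mset_induction M (aMat m F) (cMat m F δ) (cMu m F δ) l (-(l * phi m F δ 0)) hl
    (by
      rw [hμ0, mul_one, hphi0]
      rcases neg_one_pow_eq_or F (m + 2) with h | h <;> rcases hδ with h' | h' <;> rw [h, h'] <;> simp)
    (by
      rw [hphi0]
      have : ((-1 : F) ^ (m + 2)) ≠ 0 := pow_ne_zero _ (by simp)
      exact neg_ne_zero.mpr (mul_ne_zero hl0 (mul_ne_zero this hδ0)))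
    hμ
    ⟨by simp, by rw [tvm_zero]; exact inG_one⟩
    (fun v w hv hw => ⟨by rw [dotProduct_add, hv.1, hw.1, add_zero], by
      rw [← tvm_mul_tvm v w e hw.1]; exact inG_mul hv.2 hw.2⟩)
    (fun v hv => ⟨by rw [dotProduct_neg, hv.1, neg_zero], inG_tvm_neg hv.1 hv.2⟩)
    (fun v hv => ⟨by
      rw [dotProduct_mulVec, last_vecMul_aMat, hv.1], mset_mulVec e ha (last_vecMul_aMat m F) v hv.2⟩)
    (fun v hv hCv => by
      have h1 : e ⬝ᵥ (cMat m F δ *ᵥ v) = 0 := by rw [hedot]; exact hCv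
      refine ⟨by rw [dotProduct_smul, h1, smul_zero], ?_⟩
      have := mset_step e (phi m F δ) (l • (Pi.single 0 1 : Fin (m + 3) → F)) hc
        (phi_vecMul_cMat m F δ) hex hz v hv.1 hv.2 h1
      rw [hφx] at this
      exact this)
    ⟨hex, hz⟩
    (aMat_mulVec_zero m F) (aMat_mulVec_one m F) (cMat_mulVec_single m F δ)
  intro v hv
  have hv' : v (Fin.last (m + 2)) = 0 := by rw [← hedot v]; exact hv
  exact (key v hv').2

theorem result {F : Type*} [Field F] [Fintype F] (n : ℕ) (hn : 3 ≤ n) :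
    ∃ u g h : Matrix.SpecialLinearGroup (Fin n) F, (IsNilpotent ((u : Matrix (Fin n) (Fin n) F) - 1) ∧ ((u : Matrix (Fin n) (Fin n) F) - 1) ^ (n - 1) ≠ 0) ∧
      Subgroup.closure ({u, g * u * g⁻¹, h * u * h⁻¹} : Set (Matrix.SpecialLinearGroup (Fin n) F)) = ⊤ := by
  obtain ⟨m, rfl⟩ : ∃ m, n = m + 3 := ⟨n - 3, by omega⟩
  obtain ⟨l, hl0, hl⟩ := exists_gen F
  let u : SpecialLinearGroup (Fin (m + 3)) F := ⟨aMat m F, det_aMat m F⟩
  let g : SpecialLinearGroup (Fin (m + 3)) F := ⟨gMat m F l, det_gMat m F l⟩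
  let h : SpecialLinearGroup (Fin (m + 3)) F := ⟨hMat m F, det_hMat m F⟩
  refine ⟨u, g, h, ⟨isNilpotent_aMat_sub_one m F, aMat_sub_one_pow_ne_zero m F⟩, ?_⟩
  set G := Subgroup.closure ({u, g * u * g⁻¹, h * u * h⁻¹} :
    Set (Matrix.SpecialLinearGroup (Fin (m + 3)) F)) with hG
  have hu : InG G (aMat m F) := ⟨u, Subgroup.subset_closure (by simp), rfl⟩
  have hb : InG G (bMat m F l) :=
    ⟨g * u * g⁻¹, Subgroup.subset_closure (by simp), coe_conj_eq g u _ (gMat_mul_aMat m F l)⟩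
  have hc : InG G (cMat m F (dlt m F)) :=
    ⟨h * u * h⁻¹, Subgroup.subset_closure (by simp), coe_conj_eq h u _ (hMat_mul_aMat m F)⟩
  have hz : InG G (tvm (l • (Pi.single 0 1 : Fin (m + 3) → F)) (Pi.single (Fin.last (m + 2)) 1)) := by
    refine inG_of_mul_left hu ?_
    rw [← bMat_eq]
    exact hb
  have h1 := elast_mem_Ax G l (dlt m F) hl0 hl (dlt_eq m F) hu hc hz
  have h2 := single_mem_Ax_of (fun s ψ hψ => ax_smul s hψ) (fun ψ hψ A hA => ax_vecMul hψ hA)
    (fun ψ₁ ψ₂ h1 h2 v₀ hv1 hv2 => ax_add_of h1 h2 v₀ hv1 hv2) (cMat m F (dlt m F)) (cMu m F (dlt m F)) hc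
    (single_vecMul_cMat m F (dlt m F))
    (by
      intro j
      unfold cMu
      split_ifs
      · rcases dlt_eq m F with h | h <;> rw [h] <;> simp
      · exact one_ne_zero) h1
  exact eq_top_of_single_mem_Ax G h2

end Cfsg.Agent.S2280
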