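import Cfsg.Statements.S0294
import Cfsg.Agent.Lib.Helper08.OmegaStd
import Cfsg.Agent.S0791

set_option autoImplicit false
open Cfsg

namespace Cfsg.Agent.S0294

open Cfsg.Agent.Lib.Helper08

/-- gcd(4, q^m + 1) |PΩ^-_{2m}(q)| = q^(m(m-1)) (q^m + 1) prod_{i=1}^{m-1} (q^(2i) - 1), m at least 4 (type ²D_m). -/
theorem result {F : Type*} [Field F] [Fintype F] {q : ℕ} (hF : Fintype.card F = q) (m : ℕ) (hm : 4 ≤ m) (a b : F) (hab : ∀ z₁ z₂ : F, z₁ ^ 2 + a * z₁ * z₂ + b * z₂ ^ 2 = 0 → z₁ = 0 ∧ z₂ = 0) : Nat.gcd 4 (q ^ m + 1) * Nat.card (Cfsg.POmega F (Cfsg.quadFormMinus (m - 1) F a b)) = q ^ (m * (m - 1)) * (q ^ m + 1) * ∏ i ∈ Finset.range (m - 1), (q ^ (2 * (i + 1)) - 1) := by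
  classical
  have hk3 : 3 ≤ m - 1 := by omega
  have hm1 : 1 ≤ m := by omega
  have hq1 : 1 ≤ q := by rw [← hF]; exact Fintype.card_pos
  obtain ⟨Q, hQdef⟩ : ∃ Q : QuadraticForm F ((Fin (m - 1) ⊕ Fin (m - 1)) ⊕ Fin 2 → F),
      Q = (qdataMinus (m - 1) a b hab).qf := ⟨_, rfl⟩
  have hcoe : ⇑Q = Cfsg.quadFormMinus (m - 1) F a b := by rw [hQdef]; rfl
  have hQ : (QuadraticMap.polarBilin Q).Nondegenerate := by
    rw [hQdef]; exact (qdataMinus (m - 1) a b hab).qf_nondeg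
  have HT : HypTriple Q (fun i => Pi.single (Sum.inl (Sum.inl (Fin.castLE hk3 i))) 1)
      (fun i => Pi.single (Sum.inl (Sum.inr (Fin.castLE hk3 i))) 1) := by
    rw [hQdef]; exact hypTriple_minus (m - 1) hk3 a b hab
  have RP := reflPairs_finite Q hQ
  have hcard := card_isometryGroup_eq (Q := Q)
  have hGO := card_GOminus hF m hm1 a b hab
  rw [← hcoe] at hGO ⊢
  set N := q ^ (m * (m - 1)) * (q ^ m + 1) * ∏ i ∈ Finset.range (m - 1), (q ^ (2 * (i + 1)) - 1)
    with hN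
  have hGO' : Nat.card ↥(Cfsg.isometryGroup F ⇑Q) = 2 * N := by
    rw [hGO, hN]; ring
  have hdim : Fintype.card ((Fin (m - 1) ⊕ Fin (m - 1)) ⊕ Fin 2) = 2 * m := by
    rw [Fintype.card_sum, Fintype.card_sum, Fintype.card_fin, Fintype.card_fin]; omega
  by_cases h2 : (2 : F) = 0
  · have hc : CharP F 2 := CharTwo.of_one_ne_zero_of_two_eq_zero one_ne_zero h2
    have hne : Nonempty ((Fin (m - 1) ⊕ Fin (m - 1)) ⊕ Fin 2) := ⟨Sum.inr 0⟩
    have hidx : (Cfsg.Omega F ⇑Q).index = 2 :=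
      Cfsg.Agent.Lib.Helper43.index_Omega_char_two Q hQ (Or.inr (by rw [hdim]; omega))
    have hcen : Nat.card (Subgroup.center ↥(Cfsg.Omega F ⇑Q)) = 1 :=
      card_center_Omega_of_not hQ _ _ HT RP (Or.inl h2)
    have heven : q % 2 = 0 := by
      rw [← hF]
      exact FiniteField.even_card_iff_char_two.mp (ringChar.eq F 2)
    have hpe : q ^ m % 2 = 0 := by
      rw [Nat.pow_mod, heven, zero_pow (by omega)]; rfl
    rw [gcd_four_add_one_of_even hpe, one_mul]
    rw [hcen, hidx, hGO'] at hcard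
    omega
  · have hodd : Odd q := by
      rw [← Nat.not_even_iff_odd]
      intro he
      apply h2
      have h3 : ringChar F = 2 :=
        FiniteField.even_card_iff_char_two.mpr (by rw [hF]; exact Nat.even_iff.mp he)
      have h4 := ringChar.Nat.cast_ringChar (R := F)
      rw [h3] at h4
      exact_mod_cast h4
    have hidx : (Cfsg.Omega F ⇑Q).index = 4 :=
      Cfsg.Agent.Lib.Helper50.index_commutator h2 Q hQ (by rw [hdim]; omega)
    have hcrit := Cfsg.Agent.S0791.result hF hodd m hm1 a b hab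
    rw [← hcoe] at hcrit
    by_cases h4 : q ^ m % 4 = 3
    · have hcen : Nat.card (Subgroup.center ↥(Cfsg.Omega F ⇑Q)) = 2 :=
        card_center_Omega_of_mem hQ _ _ HT RP h2 (hcrit.mpr h4)
      rw [gcd_four_add_one_of_mod_three h4]
      rw [hcen, hidx, hGO'] at hcard
      omega
    · have h41 : q ^ m % 4 = 1 := by
        rcases Cfsg.Agent.Lib.Helper50.odd_pow_mod_four hodd m with h | h
        · exact h
        · exact absurd h h4
      have hcen : Nat.card (Subgroup.center ↥(Cfsg.Omega F ⇑Q)) = 1 :=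
        card_center_Omega_of_not hQ _ _ HT RP (Or.inr (fun h => h4 (hcrit.mp h)))
      rw [gcd_four_add_one_of_mod_one h41]
      rw [hcen, hidx, hGO'] at hcard
      omega

end Cfsg.Agent.S0294
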