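import Cfsg.Statements.S0958
import Cfsg.Agent.Lib.Helper21.BrauerCorr
import Cfsg.Agent.S0912
import Cfsg.Agent.S0917

set_option autoImplicit false
open Cfsg

namespace Cfsg.Agent.S0958

open Cfsg.Agent.Lib.Helper21 Cfsg.Agent.Lib.Helper82 Cfsg.Agent.Lib.Helper83

/-- (⇐) direction: if a conjugate of `P` lies in a defect group of `B`, some block of `H`
induces `B`. -/
theorem exists_isInducedBlock {G : Type*} [Group G] [Finite G] (p : ℕ) [Fact p.Prime]
    (M : Ideal Cfsg.AlgInt) (hM : Cfsg.IsPModular p M) (P H : Subgroup G) (hP : IsPGroup p P)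
    (hPH : P ≤ H) (hCH : Subgroup.centralizer (P : Set G) ≤ H)
    (hHN : H ≤ Subgroup.normalizer (P : Set G)) (B : Set (Cfsg.IrrCharacter G))
    (hB : Cfsg.IsPBlock M B) (D : Subgroup G) (hD : Cfsg.IsDefectGroup p M B D) (x : G)
    (hx : P.map (MulAut.conj x).toMonoidHom ≤ D) :
    ∃ b : Set (Cfsg.IrrCharacter H), Cfsg.IsInducedBlock M H b B := by
  classical
  have := Fintype.ofFinite G
  have := Fintype.ofFinite H
  have := Fintype.ofFinite (Cfsg.IrrCharacter G)
  have := Fintype.ofFinite (Cfsg.IrrCharacter H)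
  have hprime : M.IsPrime := hM.2.1.isPrime
  obtain ⟨χ₀, rfl⟩ := hB
  obtain ⟨g₀, hg₀, Q, rfl⟩ := hD
  by_contra hcon
  push Not at hcon
  -- `x⁻¹ g₀ x` centralizes `P`
  have hc : x⁻¹ * g₀ * x ∈ Subgroup.centralizer (P : Set G) := by
    rw [Subgroup.mem_centralizer_iff]
    intro q hq
    have h1 : (MulAut.conj x).toMonoidHom q ∈
        (Q : Subgroup (Subgroup.centralizer ({g₀} : Set G))).map
          (Subgroup.centralizer ({g₀} : Set G)).subtype := hx ⟨q, hq, rfl⟩
    obtain ⟨d, _, hd⟩ := h1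
    have h2 := Subgroup.mem_centralizer_iff.1 d.2 g₀ (Set.mem_singleton g₀)
    simp only [MulEquiv.toMonoidHom_eq_coe, MonoidHom.coe_coe, MulAut.conj_apply,
      Subgroup.coe_subtype] at hd
    rw [hd] at h2
    calc q * (x⁻¹ * g₀ * x) = x⁻¹ * ((x * q * x⁻¹) * g₀) * x := by group
      _ = x⁻¹ * (g₀ * (x * q * x⁻¹)) * x := by rw [h2]
      _ = x⁻¹ * g₀ * x * q := by group
  have h0 := resC_blockCoeff_memLocalIdeal hM P H hP hPH hCH hHN χ₀ hcon ⟨x⁻¹ * g₀ * x, hCH hc⟩
  rw [resC_apply, if_pos hc] at h0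
  have hconj : IsConj g₀ (x⁻¹ * g₀ * x) := isConj_iff.2 ⟨x⁻¹, by simp⟩
  rw [blockCoeff_of_isConj _ hconj] at h0
  exact hg₀.2.1 h0

/-- Let P be a p-subgroup of the finite group G and H a subgroup with P ⊔ C_G(P) ≤ H ≤ N_G(P); fix a maximal ideal M of the algebraic integers containing p. Then a block B of G is induced by some block of H if and only if some conjugate of P is contained in a defect group of B. -/
theorem result {G : Type*} [Group G] [Finite G] (p : ℕ) [Fact p.Prime] (M : Ideal Cfsg.AlgInt) (hM : Cfsg.IsPModular p M) (P H : Subgroup G) (hP : IsPGroup p P) (hPH : P ⊔ Subgroup.centralizer (P : Set G) ≤ H) (hHN : H ≤ Subgroup.normalizer (P : Set G)) (B : Set (Cfsg.IrrCharacter G)) (hB : Cfsg.IsPBlock M B) : (∃ b : Set (Cfsg.IrrCharacter H), Cfsg.IsInducedBlock M H b B) ↔ ∃ D : Subgroup G, Cfsg.IsDefectGroup p M B D ∧ ∃ x : G, P.map (MulAut.conj x).toMonoidHom ≤ D := by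
  classical
  have hprime : M.IsPrime := hM.2.1.isPrime
  have hP' : P ≤ H := le_trans le_sup_left hPH
  have hC' : Subgroup.centralizer (P : Set G) ≤ H := le_trans le_sup_right hPH
  constructor
  · rintro ⟨b, hind⟩
    have := Fintype.ofFinite G
    have := Fintype.ofFinite H
    have := Fintype.ofFinite (Cfsg.IrrCharacter G)
    have := Fintype.ofFinite (Cfsg.IrrCharacter H)
    obtain ⟨ξ₀, hb⟩ := hind.1
    obtain ⟨h, hh⟩ := exists_isDefectClass hprime ξ₀
    obtain ⟨Q⟩ : Nonempty (Sylow p (Subgroup.centralizer ({h} : Set H))) := inferInstance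
    have hDb : Cfsg.IsDefectGroup p M b ((Q : Subgroup (Subgroup.centralizer ({h} : Set H))).map
        (Subgroup.centralizer ({h} : Set H)).subtype) := by
      rw [hb]
      exact ⟨h, hh, Q, rfl⟩
    have hcore := Cfsg.Agent.S0912.result p M hM b hind.1 _ hDb
    obtain ⟨E, hE, hDE⟩ := Cfsg.Agent.S0917.result p M hM H b hind.1 B hB hind _ hDb
    have hPle : P.subgroupOf H ≤ Cfsg.pCore p H := by
      apply le_sSup
      refine ⟨?_, hP.comap_subtype⟩
      constructor
      intro n hn y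
      rw [Subgroup.mem_subgroupOf] at hn ⊢
      push_cast
      exact (Subgroup.mem_normalizer_iff.1 (hHN y.2) n).1 hn
    refine ⟨E, hE, 1, ?_⟩
    rintro _ ⟨q, hq, rfl⟩
    have h1 : (⟨q, hP' hq⟩ : H) ∈ P.subgroupOf H := Subgroup.mem_subgroupOf.2 hq
    have h2 := hcore (hPle h1)
    have h3 : q ∈ ((Q : Subgroup (Subgroup.centralizer ({h} : Set H))).map
        (Subgroup.centralizer ({h} : Set H)).subtype).map H.subtype := ⟨⟨q, hP' hq⟩, h2, rfl⟩
    simpa using hDE h3
  · rintro ⟨D, hD, x, hx⟩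
    exact exists_isInducedBlock p M hM P H hP hP' hC' hHN B hB D hD x hx

end Cfsg.Agent.S0958
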