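import Cfsg.Statements.S0955
import Cfsg.Agent.S0958
import Cfsg.Agent.S0911

set_option autoImplicit false
open Cfsg

namespace Cfsg.Agent.S0955

open Cfsg.Agent.Lib.Helper21 Cfsg.Agent.Lib.Helper82 Cfsg.Agent.Lib.Helper83

/-- Defect groups of a block are not larger than one another. -/
theorem card_defectGroup_le {G : Type*} [Group G] [Finite G] (p : ℕ) [Fact p.Prime]
    (M : Ideal Cfsg.AlgInt) (hM : Cfsg.IsPModular p M) (B : Set (Cfsg.IrrCharacter G))
    (hB : Cfsg.IsPBlock M B) (D E : Subgroup G) (hD : Cfsg.IsDefectGroup p M B D)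
    (hE : Cfsg.IsDefectGroup p M B E) : Nat.card E ≤ Nat.card D := by
  classical
  obtain ⟨g, hg, Q, rfl⟩ := hD
  obtain ⟨g', hg', Q', rfl⟩ := hE
  obtain ⟨x, Q'', hQ''⟩ := (Cfsg.Agent.S0911.result p M hM B hB g hg Q g').1 hg'.1 hg'.2.1
  have h1 := Subgroup.card_le_of_le hQ''
  have hinj : Function.Injective (MulAut.conj x).toMonoidHom := (MulAut.conj x).injective
  rw [Subgroup.card_map_of_injective hinj,
    Subgroup.card_map_of_injective (Subgroup.subtype_injective _),
    Subgroup.card_map_of_injective (Subgroup.subtype_injective _)] at h1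
  rw [Subgroup.card_map_of_injective (Subgroup.subtype_injective _),
    Subgroup.card_map_of_injective (Subgroup.subtype_injective _)]
  have h2 : Nat.card (Q' : Subgroup (Subgroup.centralizer ({g'} : Set G)))
      = Nat.card (Q'' : Subgroup (Subgroup.centralizer ({g'} : Set G))) := by
    rw [Sylow.card_eq_multiplicity, Sylow.card_eq_multiplicity]
  rw [h2]
  exact h1

theorem card_defectGroup_eq {G : Type*} [Group G] [Finite G] (p : ℕ) [Fact p.Prime]
    (M : Ideal Cfsg.AlgInt) (hM : Cfsg.IsPModular p M) (B : Set (Cfsg.IrrCharacter G))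
    (hB : Cfsg.IsPBlock M B) (D E : Subgroup G) (hD : Cfsg.IsDefectGroup p M B D)
    (hE : Cfsg.IsDefectGroup p M B E) : Nat.card E = Nat.card D :=
  le_antisymm (card_defectGroup_le p M hM B hB D E hD hE) (card_defectGroup_le p M hM B hB E D hE hD)

/-- Every block has a defect group. -/
theorem exists_isDefectGroup {G : Type*} [Group G] [Finite G] (p : ℕ) [Fact p.Prime]
    (M : Ideal Cfsg.AlgInt) (hM : Cfsg.IsPModular p M) (B : Set (Cfsg.IrrCharacter G))
    (hB : Cfsg.IsPBlock M B) : ∃ D : Subgroup G, Cfsg.IsDefectGroup p M B D := by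
  classical
  have := Fintype.ofFinite G
  have := Fintype.ofFinite (Cfsg.IrrCharacter G)
  have hprime : M.IsPrime := hM.2.1.isPrime
  obtain ⟨χ₀, rfl⟩ := hB
  obtain ⟨h, hh⟩ := exists_isDefectClass hprime χ₀
  obtain ⟨Q⟩ : Nonempty (Sylow p (Subgroup.centralizer ({h} : Set G))) := inferInstance
  exact ⟨_, h, hh, Q, rfl⟩

theorem isPGroup_of_isDefectGroup {G : Type*} [Group G] (p : ℕ) [Fact p.Prime]
    (M : Ideal Cfsg.AlgInt) (B : Set (Cfsg.IrrCharacter G)) (D : Subgroup G)
    (hD : Cfsg.IsDefectGroup p M B D) : IsPGroup p D := by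
  obtain ⟨g, _, Q, rfl⟩ := hD
  exact Q.isPGroup'.map _

/-- Let D be a defect group of a block of the finite group G relative to a maximal ideal M of the algebraic integers containing the prime p. Then D is the largest normal p-subgroup of its own normalizer: O_p(N_G(D)) = D. -/
theorem result {G : Type*} [Group G] [Finite G] (p : ℕ) [Fact p.Prime] (M : Ideal Cfsg.AlgInt) (hM : Cfsg.IsPModular p M) (B : Set (Cfsg.IrrCharacter G)) (hB : Cfsg.IsPBlock M B) (D : Subgroup G) (hD : Cfsg.IsDefectGroup p M B D) : (Cfsg.pCore p (Subgroup.normalizer (D : Set G))).map (Subgroup.normalizer (D : Set G)).subtype = D := by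
  classical
  have hprime : M.IsPrime := hM.2.1.isPrime
  have hDp : IsPGroup p D := isPGroup_of_isDefectGroup p M B D hD
  set N := Subgroup.normalizer (D : Set G) with hN
  -- a block of `N` inducing `B`
  obtain ⟨b, hind⟩ := Cfsg.Agent.S0958.exists_isInducedBlock p M hM D N hDp Subgroup.le_normalizer
    (Subgroup.centralizer_le_normalizer _) le_rfl B hB D hD 1 (by
      rintro _ ⟨q, hq, rfl⟩
      simpa using hq)
  obtain ⟨Db, hDb⟩ := exists_isDefectGroup p M hM b hind.1
  have hcore := Cfsg.Agent.S0912.result p M hM b hind.1 Db hDb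
  obtain ⟨E, hE, hDE⟩ := Cfsg.Agent.S0917.result p M hM N b hind.1 B hB hind Db hDb
  have hcard := card_defectGroup_eq p M hM B hB D E hD hE
  have hDle : D.subgroupOf N ≤ Cfsg.pCore p N := by
    apply le_sSup
    exact ⟨Subgroup.normal_in_normalizer, hDp.comap_subtype⟩
  have h1 : Nat.card (Cfsg.pCore p N) ≤ Nat.card Db := Subgroup.card_le_of_le hcore
  have h2 : Nat.card Db ≤ Nat.card E := by
    have := Subgroup.card_le_of_le hDE
    rwa [Subgroup.card_map_of_injective (Subgroup.subtype_injective _)] at this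
  have h3 : Nat.card (D.subgroupOf N) = Nat.card D := by
    have := Subgroup.card_map_of_injective (K := D.subgroupOf N) (Subgroup.subtype_injective N)
    rw [← this, Subgroup.subgroupOf_map_subtype, inf_of_le_left Subgroup.le_normalizer]
  have heq : D.subgroupOf N = Cfsg.pCore p N := by
    apply Subgroup.eq_of_le_of_card_ge hDle
    rw [h3]
    omega
  rw [← heq, Subgroup.subgroupOf_map_subtype, inf_of_le_left Subgroup.le_normalizer]

end Cfsg.Agent.S0955
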