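import Cfsg.Statements.S0920
import Cfsg.Agent.Lib.Helper21.FirstMain
import Cfsg.Agent.Lib.Helper21.BlockSupport
import Cfsg.Agent.S0955

set_option autoImplicit false
open Cfsg

namespace Cfsg.Agent.S0920

open Cfsg.Agent.Lib.Helper21 Cfsg.Agent.Lib.Helper82 Cfsg.Agent.Lib.Helper83
open Cfsg.Agent.S0955

/-- A `p`-subgroup of `K` at least as large as a Sylow `p`-subgroup of `K` is one. -/
theorem sylow_of_le_of_card {X : Type*} [Group X] [Finite X] {p : ℕ} [Fact p.Prime]
    (K T : Subgroup X) (hT : IsPGroup p T) (hTK : T ≤ K) (Q' : Sylow p K)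
    (hcard : Nat.card (Q' : Subgroup K) ≤ Nat.card T) :
    ∃ Q'' : Sylow p K, T = (Q'' : Subgroup K).map K.subtype := by
  obtain ⟨Q'', hQ''⟩ := (hT.comap_subtype (K := K)).exists_le_sylow
  refine ⟨Q'', ?_⟩
  have h1 : Nat.card (T.subgroupOf K) = Nat.card T := by
    have := Subgroup.card_map_of_injective (K := T.subgroupOf K) (Subgroup.subtype_injective K)
    rw [← this, Subgroup.subgroupOf_map_subtype, inf_of_le_left hTK]
  have h2 : Nat.card (Q'' : Subgroup K) = Nat.card (Q' : Subgroup K) := by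
    rw [Sylow.card_eq_multiplicity, Sylow.card_eq_multiplicity]
  have h3 : T.subgroupOf K = (Q'' : Subgroup K) := by
    apply Subgroup.eq_of_le_of_card_ge hQ''
    have h1' : Nat.card (Subgroup.comap K.subtype T) = Nat.card T := h1
    rw [h1', h2]
    exact hcard
  rw [← h3, Subgroup.subgroupOf_map_subtype, inf_of_le_left hTK]

section
variable {G : Type*} [Group G] [Finite G] (p : ℕ) [Fact p.Prime] (M : Ideal Cfsg.AlgInt)
  (hM : Cfsg.IsPModular p M) (D : Subgroup G) (hD : IsPGroup p D)

include hM hD in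
/-- Local congruence at a class of `N` with defect group `D`. -/
theorem local_congr (b : Set (Cfsg.IrrCharacter (Subgroup.normalizer (D : Set G))))
    (B : Set (Cfsg.IrrCharacter G))
    (hind : Cfsg.IsInducedBlock M (Subgroup.normalizer (D : Set G)) b B)
    (ξ : Cfsg.IrrCharacter (Subgroup.normalizer (D : Set G))) (hξ : ξ ∈ b)
    (χ : Cfsg.IrrCharacter G) (hχ : χ ∈ B)
    (l : Subgroup.normalizer (D : Set G))
    (Q : Sylow p (Subgroup.centralizer ({l} : Set (Subgroup.normalizer (D : Set G)))))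
    (hQ : D.subgroupOf (Subgroup.normalizer (D : Set G))
      = (Q : Subgroup (Subgroup.centralizer ({l} : Set (Subgroup.normalizer (D : Set G))))).map
        (Subgroup.centralizer ({l} : Set (Subgroup.normalizer (D : Set G)))).subtype) :
    Cfsg.MemLocalIdeal M (Cfsg.centralChar (ξ : Subgroup.normalizer (D : Set G) → ℂ) l -
      Cfsg.centralChar (χ : G → ℂ) (l : G)) := by
  classical
  have := Fintype.ofFinite G
  have := Fintype.ofFinite (Subgroup.normalizer (D : Set G))
  have := Fintype.ofFinite (Cfsg.IrrCharacter (Subgroup.normalizer (D : Set G)))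
  have hprime : M.IsPrime := hM.2.1.isPrime
  have h1 := hind.2.2 ξ hξ χ hχ (l : G)
  have h2 := Cfsg.Agent.S0918.induced_sub_brauer p M hM D (Subgroup.normalizer (D : Set G)) hD
    Subgroup.le_normalizer le_rfl ξ (l : G)
  rw [brauerCentralChar_eq_centralChar D l Q hQ _ (isClassFunction_irr ξ)] at h2
  have := memLocalIdeal_sub hprime h1 h2
  convert this using 1
  ring

include hM hD in
/-- Part (i). -/
theorem part_one (b : Set (Cfsg.IrrCharacter (Subgroup.normalizer (D : Set G))))
    (hb : Cfsg.IsPBlock M b)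
    (hbD : Cfsg.IsDefectGroup p M b (D.subgroupOf (Subgroup.normalizer (D : Set G)))) :
    ∃ B : Set (Cfsg.IrrCharacter G), Cfsg.IsPBlock M B ∧ Cfsg.IsDefectGroup p M B D ∧
      Cfsg.IsInducedBlock M (Subgroup.normalizer (D : Set G)) b B := by
  classical
  have := Fintype.ofFinite G
  have := Fintype.ofFinite (Subgroup.normalizer (D : Set G))
  have := Fintype.ofFinite (Cfsg.IrrCharacter G)
  have := Fintype.ofFinite (Cfsg.IrrCharacter (Subgroup.normalizer (D : Set G)))
  have hprime : M.IsPrime := hM.2.1.isPrime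
  obtain ⟨ξ₀, rfl⟩ := hb
  obtain ⟨χ₁, _, hind⟩ := exists_brauer_correspondent hM D (Subgroup.normalizer (D : Set G)) hD
    Subgroup.le_normalizer (Subgroup.centralizer_le_normalizer _) le_rfl ξ₀
  have hB : Cfsg.IsPBlock M (blockOf M (χ₁ : G → ℂ)) := ⟨χ₁, rfl⟩
  refine ⟨blockOf M (χ₁ : G → ℂ), hB, ?_, hind⟩
  have hξ₀ := mem_blockOf_self hprime ξ₀
  have hχ₁ := mem_blockOf_self hprime χ₁
  obtain ⟨l, hl, Q, hQ⟩ := hbD
  have h5 : ¬ Cfsg.MemLocalIdeal M (Cfsg.centralChar (χ₁ : G → ℂ) (l : G)) := by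
    intro hcon
    have h1 := local_congr p M hM D hD _ _ hind ξ₀ hξ₀ χ₁ hχ₁ l Q hQ
    have := memLocalIdeal_add hprime h1 hcon
    rw [sub_add_cancel] at this
    exact hl.2.2 ξ₀ hξ₀ this
  obtain ⟨QG, hQG⟩ := sylow_centralizer_of_normalizer D l Q hQ
  obtain ⟨E₀, hE₀⟩ := exists_isDefectGroup p M hM _ hB
  obtain ⟨E, hE, hDE⟩ := Cfsg.Agent.S0917.result p M hM _ _ ⟨ξ₀, rfl⟩ _ hB hind _
    (⟨l, hl, Q, hQ⟩ : Cfsg.IsDefectGroup p M _ (D.subgroupOf (Subgroup.normalizer (D : Set G))))
  rw [Subgroup.subgroupOf_map_subtype, inf_of_le_left Subgroup.le_normalizer] at hDE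
  have hcardE : Nat.card E ≤ Nat.card D := by
    rw [card_defectGroup_eq p M hM _ hB E₀ E hE₀ hE]
    obtain ⟨g₀, hg₀, Q₀, rfl⟩ := hE₀
    obtain ⟨x, Q'', hQ''⟩ := (Cfsg.Agent.S0911.result p M hM _ hB g₀ hg₀ Q₀ (l : G)).2
      ⟨χ₁, hχ₁, h5⟩
    have h1 := Subgroup.card_le_of_le hQ''
    have hinj : Function.Injective (MulAut.conj x).toMonoidHom := (MulAut.conj x).injective
    rw [Subgroup.card_map_of_injective hinj] at h1
    refine le_trans h1 ?_
    have hcD : Nat.card D = Nat.card ((QG : Subgroup (Subgroup.centralizer ({(l : G)} : Set G))).map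
        (Subgroup.centralizer ({(l : G)} : Set G)).subtype) :=
      congrArg (fun S : Subgroup G => Nat.card S) hQG
    rw [hcD, Subgroup.card_map_of_injective (Subgroup.subtype_injective _),
      Subgroup.card_map_of_injective (Subgroup.subtype_injective _),
      Sylow.card_eq_multiplicity, Sylow.card_eq_multiplicity]
  have : D = E := Subgroup.eq_of_le_of_card_ge hDE hcardE
  rw [this]
  exact hE

include hM hD in
/-- Part (ii), existence. -/
theorem part_two_exists (B : Set (Cfsg.IrrCharacter G)) (hB : Cfsg.IsPBlock M B)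
    (hBD : Cfsg.IsDefectGroup p M B D) :
    ∃ b : Set (Cfsg.IrrCharacter (Subgroup.normalizer (D : Set G))), Cfsg.IsPBlock M b ∧
      Cfsg.IsDefectGroup p M b (D.subgroupOf (Subgroup.normalizer (D : Set G))) ∧
      Cfsg.IsInducedBlock M (Subgroup.normalizer (D : Set G)) b B := by
  classical
  obtain ⟨b, hind⟩ := Cfsg.Agent.S0958.exists_isInducedBlock p M hM D
    (Subgroup.normalizer (D : Set G)) hD Subgroup.le_normalizer
    (Subgroup.centralizer_le_normalizer _) le_rfl B hB D hBD 1 (by
      rintro _ ⟨q, hq, rfl⟩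
      simpa using hq)
  refine ⟨b, hind.1, ?_, hind⟩
  obtain ⟨Db, hDb⟩ := exists_isDefectGroup p M hM b hind.1
  have hcore := Cfsg.Agent.S0912.result p M hM b hind.1 Db hDb
  obtain ⟨E, hE, hDE⟩ := Cfsg.Agent.S0917.result p M hM _ b hind.1 B hB hind Db hDb
  have hcard := card_defectGroup_eq p M hM B hB D E hBD hE
  have hDle : D.subgroupOf (Subgroup.normalizer (D : Set G)) ≤
      Cfsg.pCore p (Subgroup.normalizer (D : Set G)) := by
    apply le_sSup
    exact ⟨Subgroup.normal_in_normalizer, hD.comap_subtype⟩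
  have h2 : Nat.card Db ≤ Nat.card E := by
    have := Subgroup.card_le_of_le hDE
    rwa [Subgroup.card_map_of_injective (Subgroup.subtype_injective _)] at this
  have h3 : Nat.card (D.subgroupOf (Subgroup.normalizer (D : Set G))) = Nat.card D := by
    have := Subgroup.card_map_of_injective (K := D.subgroupOf (Subgroup.normalizer (D : Set G)))
      (Subgroup.subtype_injective (Subgroup.normalizer (D : Set G)))
    rw [← this, Subgroup.subgroupOf_map_subtype, inf_of_le_left Subgroup.le_normalizer]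
  have heq : D.subgroupOf (Subgroup.normalizer (D : Set G)) = Db := by
    apply Subgroup.eq_of_le_of_card_ge (le_trans hDle hcore)
    rw [h3]
    omega
  rw [heq]
  exact hDb

include hM hD in
/-- Part (ii), uniqueness. -/
theorem part_two_unique (B : Set (Cfsg.IrrCharacter G)) (hB : Cfsg.IsPBlock M B)
    (b₁ b₂ : Set (Cfsg.IrrCharacter (Subgroup.normalizer (D : Set G))))
    (hb₁ : Cfsg.IsPBlock M b₁)
    (hb₁D : Cfsg.IsDefectGroup p M b₁ (D.subgroupOf (Subgroup.normalizer (D : Set G))))
    (hind₁ : Cfsg.IsInducedBlock M (Subgroup.normalizer (D : Set G)) b₁ B)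
    (hb₂ : Cfsg.IsPBlock M b₂)
    (hind₂ : Cfsg.IsInducedBlock M (Subgroup.normalizer (D : Set G)) b₂ B) : b₂ = b₁ := by
  classical
  have := Fintype.ofFinite G
  have := Fintype.ofFinite (Subgroup.normalizer (D : Set G))
  have := Fintype.ofFinite (Cfsg.IrrCharacter G)
  have := Fintype.ofFinite (Cfsg.IrrCharacter (Subgroup.normalizer (D : Set G)))
  have hprime : M.IsPrime := hM.2.1.isPrime
  obtain ⟨ξ₁, rfl⟩ := hb₁
  obtain ⟨ξ₂, rfl⟩ := hb₂
  by_contra hne
  have hξ₂ : ξ₂ ∉ blockOf M (ξ₁ : Subgroup.normalizer (D : Set G) → ℂ) := by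
    intro hmem
    rw [mem_blockOf_iff] at hmem
    exact hne (blockOf_eq_of_sameBlock hprime hmem).symm
  have hξ₁ := mem_blockOf_self hprime ξ₁
  have hξ₂' := mem_blockOf_self hprime ξ₂
  obtain ⟨χ, hχ⟩ := Cfsg.Agent.Lib.Helper82.IsPBlock.nonempty hprime hB
  have heR : IsRClass M (blockCoeff (blockOf M (ξ₁ : Subgroup.normalizer (D : Set G) → ℂ))) :=
    blockCoeff_isRClass hprime ξ₁
  have h1 : omega (blockCoeff (blockOf M (ξ₁ : Subgroup.normalizer (D : Set G) → ℂ)))
      (ξ₁ : Subgroup.normalizer (D : Set G) → ℂ) = 1 := by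
    rw [omega_blockCoeff, if_pos hξ₁]
  have h0 : omega (blockCoeff (blockOf M (ξ₁ : Subgroup.normalizer (D : Set G) → ℂ)))
      (ξ₂ : Subgroup.normalizer (D : Set G) → ℂ) = 0 := by
    rw [omega_blockCoeff, if_neg hξ₂]
  rw [omega_eq_sum_classes heR.1 (isClassFunction_irr ξ₁)] at h1
  rw [omega_eq_sum_classes heR.1 (isClassFunction_irr ξ₂)] at h0
  have hD'p : IsPGroup p (D.subgroupOf (Subgroup.normalizer (D : Set G))) := hD.comap_subtype
  have hD'n : (D.subgroupOf (Subgroup.normalizer (D : Set G))).Normal :=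
    Subgroup.normal_in_normalizer
  have hdiff : MemLocalIdeal M
      (∑ L : ConjClasses (Subgroup.normalizer (D : Set G)),
        blockCoeff (blockOf M (ξ₁ : Subgroup.normalizer (D : Set G) → ℂ)) (Quotient.out L) *
          centralChar (ξ₁ : Subgroup.normalizer (D : Set G) → ℂ) (Quotient.out L) -
       ∑ L : ConjClasses (Subgroup.normalizer (D : Set G)),
        blockCoeff (blockOf M (ξ₁ : Subgroup.normalizer (D : Set G) → ℂ)) (Quotient.out L) *
          centralChar (ξ₂ : Subgroup.normalizer (D : Set G) → ℂ) (Quotient.out L)) := by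
    rw [← Finset.sum_sub_distrib]
    apply memLocalIdeal_sum hprime
    intro L _
    rw [← mul_sub]
    by_cases he : MemLocalIdeal M
        (blockCoeff (blockOf M (ξ₁ : Subgroup.normalizer (D : Set G) → ℂ)) (Quotient.out L))
    · exact memLocalIdeal_mul_right hprime he (memLocalRing_sub hprime
        (memLocalRing_centralChar hprime ξ₁ _) (memLocalRing_centralChar hprime ξ₂ _))
    · apply memLocalIdeal_mul_left hprime (heR.2 _)
      have hlC : Quotient.out L ∈ Subgroup.centralizer
          ((D.subgroupOf (Subgroup.normalizer (D : Set G)) :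
            Subgroup (Subgroup.normalizer (D : Set G))) : Set (Subgroup.normalizer (D : Set G))) := by
        by_contra hcon
        exact he (blockCoeff_memLocalIdeal_of_not_mem_centralizer hM _ hD'p ξ₁ _ hcon)
      obtain ⟨l₁, hl₁, Q₁, hQ₁⟩ := hb₁D
      obtain ⟨x, Q', hQ'⟩ := (Cfsg.Agent.S0911.result p M hM _ ⟨ξ₁, rfl⟩ l₁ hl₁ Q₁
        (Quotient.out L)).1 (heR.2 _) he
      have hc : Nat.card (Q' : Subgroup (Subgroup.centralizer
          ({Quotient.out L} : Set (Subgroup.normalizer (D : Set G))))) ≤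
          Nat.card (D.subgroupOf (Subgroup.normalizer (D : Set G))) := by
        have h3 := Subgroup.card_le_of_le hQ'
        have hinj : Function.Injective (MulAut.conj x).toMonoidHom := (MulAut.conj x).injective
        rw [Subgroup.card_map_of_injective hinj, ← hQ₁,
          Subgroup.card_map_of_injective (Subgroup.subtype_injective _)] at h3
        exact h3
      have hD'C : D.subgroupOf (Subgroup.normalizer (D : Set G)) ≤ Subgroup.centralizer
          ({Quotient.out L} : Set (Subgroup.normalizer (D : Set G))) := by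
        intro d hd
        rw [Subgroup.mem_centralizer_iff]
        intro z hz
        rw [Set.mem_singleton_iff] at hz
        subst hz
        exact (Subgroup.mem_centralizer_iff.1 hlC d hd).symm
      obtain ⟨Q'', hQ''⟩ := sylow_of_le_of_card _ _ hD'p hD'C Q' hc
      have c1 := local_congr p M hM D hD _ _ hind₁ ξ₁ hξ₁ χ hχ _ Q'' hQ''
      have c2 := local_congr p M hM D hD _ _ hind₂ ξ₂ hξ₂' χ hχ _ Q'' hQ''
      have := memLocalIdeal_sub hprime c1 c2
      convert this using 1
      ring
  rw [h1, h0, sub_zero] at hdiff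
  exact not_memLocalIdeal_one hprime hdiff

end

/-- Brauer's First Main Theorem. Let D be a p-subgroup of the finite group G with normalizer N, and fix a maximal ideal M of the algebraic integers containing p. Then (i) every block b of N having D as a defect group induces some block B of G having D as a defect group; (ii) every block of G with defect group D is induced by exactly one block of N with defect group D. -/
theorem result {G : Type*} [Group G] [Finite G] (p : ℕ) [Fact p.Prime] (M : Ideal Cfsg.AlgInt) (hM : Cfsg.IsPModular p M) (D : Subgroup G) (hD : IsPGroup p D) : (∀ b : Set (Cfsg.IrrCharacter (Subgroup.normalizer (D : Set G))), Cfsg.IsPBlock M b → Cfsg.IsDefectGroup p M b (D.subgroupOf (Subgroup.normalizer (D : Set G))) → ∃ B : Set (Cfsg.IrrCharacter G), Cfsg.IsPBlock M B ∧ Cfsg.IsDefectGroup p M B D ∧ Cfsg.IsInducedBlock M (Subgroup.normalizer (D : Set G)) b B) ∧ (∀ B : Set (Cfsg.IrrCharacter G), Cfsg.IsPBlock M B → Cfsg.IsDefectGroup p M B D → ∃! b : Set (Cfsg.IrrCharacter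 (Subgroup.normalizer (D : Set G))), Cfsg.IsPBlock M b ∧ Cfsg.IsDefectGroup p M b (D.subgroupOf (Subgroup.normalizer (D : Set G))) ∧ Cfsg.IsInducedBlock M (Subgroup.normalizer (D : Set G)) b B) := by
  refine ⟨fun b hb hbD => part_one p M hM D hD b hb hbD, fun B hB hBD => ?_⟩
  obtain ⟨b, hb, hbD, hind⟩ := part_two_exists p M hM D hD B hB hBD
  refine ⟨b, ⟨hb, hbD, hind⟩, ?_⟩
  rintro b₂ ⟨hb₂, _, hind₂⟩
  exact part_two_unique p M hM D hD B hB b b₂ hb hbD hind hb₂ hind₂

end Cfsg.Agent.S0920
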