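import Cfsg.Statements.S1327
import Cfsg.Agent.Lib.Helper15.Lifting
import Cfsg.Agent.Lib.Helper15.Cores
import Cfsg.Agent.Lib.Helper28.FStarP
import Cfsg.Agent.Lib.Helper28.FStar
import Cfsg.Agent.Lib.Helper29.PCompUnique
import Cfsg.Agent.Lib.Helper29.PCore
import Cfsg.Agent.Lib.Helper30.Layer

set_option autoImplicit false
open Cfsg

namespace Cfsg.Agent.S1327

open scoped commutatorElement

/-- In a group with trivial `p'`-core: `C(O_p) ≤ O_p` iff the layer is trivial. -/
theorem centralizer_pCore_le_iff {Y : Type*} [Group Y] [Finite Y] (p : ℕ) [Fact p.Prime]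
    (hY : pPrimeCore p Y = ⊥) :
    Subgroup.centralizer (pCore p Y : Set Y) ≤ pCore p Y ↔ layer Y = ⊥ := by
  constructor
  · intro h
    by_contra hne
    have hex : ∃ K : Subgroup Y, IsComponent K := by
      by_contra hcon
      push Not at hcon
      apply hne
      rw [eq_bot_iff]
      exact sSup_le fun K hK => absurd hK (hcon K)
    obtain ⟨K, hK⟩ := hex
    have h1 : ⁅layer Y, pCore p Y⁆ = ⊥ := by
      rw [eq_bot_iff, ← Cfsg.Agent.Lib.Helper30.layer_commute_fitting (G := Y)]
      exact Subgroup.commutator_mono le_rfl (Cfsg.Agent.Lib.Helper76.pCore_le_fittingSubgroup p)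
    have h2 : layer Y ≤ Subgroup.centralizer (pCore p Y : Set Y) :=
      Subgroup.commutator_eq_bot_iff_le_centralizer.mp h1
    have h3 : K ≤ pCore p Y := (Cfsg.Agent.Lib.Helper30.component_le_layer hK).trans (h2.trans h)
    have h4 : IsPGroup p K := (Cfsg.Agent.Lib.Helper28.pCore_isPGroup p).to_le h3
    exact Cfsg.Agent.Lib.Helper28.quasisimple_not_solvable hK.2
      (Cfsg.Agent.Lib.Helper28.isSolvable_of_isPGroup K h4)
  · intro h
    have hF : Cfsg.Agent.Lib.Helper28.FStarP p Y := by
      rw [Cfsg.Agent.Lib.Helper28.fStarP_iff]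
      refine ⟨fun K hK => ?_, fun q hq hqp => ?_⟩
      · have := Cfsg.Agent.Lib.Helper30.component_le_layer hK
        rw [h] at this
        exact Cfsg.Agent.Lib.Helper30.component_ne_bot hK (le_bot_iff.mp this)
      · have : Fact q.Prime := ⟨hq⟩
        rw [eq_bot_iff, ← hY]
        refine le_sSup ⟨inferInstance, ?_⟩
        obtain ⟨k, hk⟩ := IsPGroup.iff_card.mp (Cfsg.Agent.Lib.Helper28.pCore_isPGroup (G := Y) q)
        rw [hk]
        exact Nat.Coprime.pow_left k ((Nat.coprime_primes hq (Fact.out : p.Prime)).mpr hqp)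
    have h1 := Cfsg.Agent.Lib.Helper28.fStarP_genFitting_eq p hF
    have h2 := Cfsg.Agent.Lib.Helper28.centralizer_genFitting_le (G := Y)
    rw [h1] at h2
    exact h2

/-- A finite group X is p-constrained if and only if its p-layer L_{p'}(X) is trivial (equivalently X / O_{p'}(X) has trivial layer). -/
theorem result {X : Type*} [Group X] [Finite X] (p : ℕ) [Fact p.Prime] : Cfsg.IsPConstrained p X ↔ Cfsg.pLayer p X = ⊥ := by
  have hN : (Nat.card (pPrimeCore p X)).Coprime p := Cfsg.Agent.Lib.Helper29.pPrimeCore_coprime p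
  have hY : pPrimeCore p (X ⧸ pPrimeCore p X) = ⊥ :=
    Cfsg.Agent.Lib.Helper29.pPrimeCore_quotient_eq_bot p
  have hlayer : Cfsg.pLayer p X = ⊥ ↔ layer (X ⧸ pPrimeCore p X) = ⊥ := by
    constructor
    · intro h
      rw [← Cfsg.Agent.Lib.Helper29.map_pLayer_eq_layer, h, Subgroup.map_bot]
    · intro h
      rw [← Cfsg.Agent.Lib.Helper29.map_pLayer_eq_layer] at h
      rw [eq_bot_iff]
      apply sSup_le
      intro K hK
      exfalso
      have h1 : K.map (QuotientGroup.mk' (pPrimeCore p X)) ≤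
          (Cfsg.pLayer p X).map (QuotientGroup.mk' (pPrimeCore p X)) :=
        Subgroup.map_mono (le_sSup hK)
      rw [h] at h1
      exact Cfsg.Agent.Lib.Helper30.component_ne_bot hK.2.1 (le_bot_iff.mp h1)
  have hP : ∀ P : Sylow p ↥(pPrimePCore p X),
      Subgroup.centralizer (((P : Subgroup ↥(pPrimePCore p X)).map (pPrimePCore p X).subtype :
        Subgroup X) : Set X) ≤ pPrimePCore p X ↔
      Subgroup.centralizer (pCore p (X ⧸ pPrimeCore p X) : Set (X ⧸ pPrimeCore p X)) ≤
        pCore p (X ⧸ pPrimeCore p X) := by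
    intro P
    have hPp : IsPGroup p ((P : Subgroup ↥(pPrimePCore p X)).map (pPrimePCore p X).subtype) :=
      P.2.map _
    have h1 := Cfsg.Agent.Lib.Helper15.centralizer_map_mk_of_coprime (pPrimeCore p X) hN _ hPp
    rw [Cfsg.Agent.Lib.Helper15.sylow_pPrimePCore_map P] at h1
    rw [h1, Subgroup.map_le_iff_le_comap]
    rfl
  rw [hlayer, ← centralizer_pCore_le_iff p hY]
  constructor
  · intro h
    obtain ⟨P⟩ : Nonempty (Sylow p ↥(pPrimePCore p X)) := inferInstance
    exact (hP P).mp (h P)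
  · intro h P
    exact (hP P).mpr h

end Cfsg.Agent.S1327
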