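import Cfsg.Statements.S2898
import Cfsg.Agent.S2897
import Cfsg.Agent.Lib.Helper42.PPrimeCore

set_option autoImplicit false
open Cfsg

namespace Cfsg.Agent.S2898

open Cfsg.Agent.Lib.Helper56
open Cfsg.Agent.Lib.Helper54

/-- A group of characteristic `p` has no nontrivial normal subgroup of order prime to `p`. -/
theorem eq_bot_of_charP_of_coprime {H : Type*} [Group H] [Finite H] {p : ℕ} [Fact p.Prime]
    (hH : Subgroup.centralizer (Cfsg.pCore p H : Set H) ≤ Cfsg.pCore p H)
    (N : Subgroup H) (hN : N.Normal) (hc : (Nat.card ↥N).Coprime p) : N = ⊥ := by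
  have hPn : (Cfsg.pCore p H).Normal := pCore_normal p H
  have hPp : IsPGroup p ↥(Cfsg.pCore p H) := pCore_isPGroup p H
  have hdisj : N ⊓ Cfsg.pCore p H = ⊥ := by
    apply disjoint_iff.mp
    apply Subgroup.disjoint_of_coprime_natCard
    obtain ⟨k, hk⟩ := IsPGroup.iff_card.mp hPp
    rw [hk]
    exact Nat.Coprime.pow_right k hc
  have hle : N ≤ Subgroup.centralizer (Cfsg.pCore p H : Set H) := by
    intro n hn
    rw [Subgroup.mem_centralizer_iff]
    intro a ha
    exact (Subgroup.commute_of_normal_of_disjoint _ _ hN hPn (disjoint_iff.mpr hdisj) n a hn ha).eq.symm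
  rw [eq_bot_iff, ← hdisj]
  exact le_inf le_rfl (hle.trans hH)

theorem result {G : Type*} [Group G] [Finite G] (h2 : 2 ∣ Nat.card G) (hG : Cfsg.IsOfParabolicCharacteristic 2 G) [hN : (Cfsg.oddCore G).Normal] (hZ : Subgroup.center (G ⧸ Cfsg.oddCore G) = ⊥) : Cfsg.oddCore G = ⊥ := by
  classical
  have : Fact (Nat.Prime 2) := ⟨Nat.prime_two⟩
  by_contra hKne
  have hKc : (Nat.card ↥(Cfsg.oddCore G)).Coprime 2 :=
    Cfsg.Agent.Lib.Helper42.pPrimeCore_card_coprime 2 G
  obtain S : Sylow 2 G := default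
  have hSne : (S : Subgroup G) ≠ ⊥ := S.ne_bot_of_dvd_card h2
  obtain ⟨a, ha⟩ := (Subgroup.ne_bot_iff_exists_ne_one).mp hSne
  have hnt : Nontrivial ↥(S : Subgroup G) := ⟨⟨a, 1, ha⟩⟩
  have hZS : Nontrivial ↥(Subgroup.center ↥(S : Subgroup G)) := S.isPGroup'.center_nontrivial
  obtain ⟨x, hx1⟩ := exists_ne (1 : ↥(Subgroup.center ↥(S : Subgroup G)))
  have hxc : ∀ t ∈ (S : Subgroup G), t * ((x : ↥(S : Subgroup G)) : G) = ((x : ↥(S : Subgroup G)) : G) * t := by
    intro t ht
    have := (Subgroup.mem_center_iff.mp x.2) ⟨t, ht⟩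
    exact congrArg Subtype.val this
  obtain ⟨z, hzS, _, hzo, hzc⟩ := Cfsg.Agent.S2896.exists_orderOf_eq_prime_central
    (S : Subgroup G) (S : Subgroup G)
    S.isPGroup' ((x : ↥(S : Subgroup G)) : G) (x : ↥(S : Subgroup G)).2 (x : ↥(S : Subgroup G)).2
    (fun h => hx1 (Subtype.ext (Subtype.ext h))) hxc
  have hz1 : z ≠ 1 := by
    intro h
    rw [h, orderOf_one] at hzo
    omega
  have hzz : z ^ 2 = 1 := by
    rw [← hzo]
    exact pow_orderOf_eq_one z
  have hz2 : z * z = 1 := by rw [← sq]; exact hzz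
  have hzi : z⁻¹ = z := inv_eq_of_mul_eq_one_left hz2
  have hzΩ : z ∈ Cfsg.omegaOne 2 ((S : Subgroup G) ⊓
      Subgroup.centralizer ((S : Subgroup G) : Set G)) := by
    apply Subgroup.subset_closure
    refine ⟨⟨hzS, ?_⟩, hzz⟩
    show z ∈ Subgroup.centralizer ((S : Subgroup G) : Set G)
    rw [Subgroup.mem_centralizer_iff]
    exact hzc
  have hF := (Cfsg.Agent.S2896.result h2 S ⊥ bot_le).2.1.mp hG z hz1 hzΩ
  rw [genFitting_eq_pCore_iff] at hF
  set K : Subgroup G := Cfsg.oddCore G with hKdef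
  set C : Subgroup G := Subgroup.centralizer ({z} : Set G) with hC
  -- subgroups of the form K ∩ L have odd order
  have hcop : ∀ L : Subgroup G, (Nat.card ↥(K.subgroupOf L)).Coprime 2 := by
    intro L
    have h1 : Nat.card ↥(K.subgroupOf L) = Nat.card ↥(L.subgroupOf K) :=
      Nat.card_congr (Cfsg.Agent.S2897.subgroupOfSwapEquiv K L).toEquiv
    rw [h1]
    exact Nat.Coprime.coprime_dvd_left (Subgroup.card_subgroup_dvd_card _) hKc
  have hKC : K.subgroupOf C = ⊥ :=
    eq_bot_of_charP_of_coprime hF (K.subgroupOf C) inferInstance (hcop C)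
  -- z inverts K
  have hinv : ∀ k ∈ K, z * k * z⁻¹ = k⁻¹ := by
    let φ : MulAut ↥K := MulAut.conjNormal z
    have hfpf : MonoidHom.FixedPointFree φ := by
      intro k hk
      have h1 : z * (k : G) * z⁻¹ = (k : G) := by
        have := congrArg Subtype.val hk
        simpa [φ, MulAut.conjNormal_apply] using this
      have hkC : (k : G) ∈ C := by
        rw [hC, Subgroup.mem_centralizer_iff]
        intro y hy
        rw [Set.mem_singleton_iff] at hy
        subst hy
        calc y * (k : G) = y * (k : G) * y⁻¹ * y := by group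
          _ = (k : G) * y := by rw [h1]
      have h3 : (⟨(k : G), hkC⟩ : ↥C) ∈ K.subgroupOf C := Subgroup.mem_subgroupOf.mpr k.2
      rw [hKC, Subgroup.mem_bot] at h3
      have h5 : (k : G) = 1 := congrArg Subtype.val h3
      exact Subtype.ext h5
    have hinvol : Function.Involutive φ := by
      intro k
      apply Subtype.ext
      simp only [φ, MulAut.conjNormal_apply]
      rw [hzi]
      calc z * (z * (k : G) * z) * z = (z * z) * (k : G) * (z * z) := by group
        _ = (k : G) := by rw [hz2]; group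
    have hφ := hfpf.coe_eq_inv_of_involutive hinvol
    intro k hk
    have h3 := congrFun hφ ⟨k, hk⟩
    have h4 := congrArg Subtype.val h3
    simpa [φ, MulAut.conjNormal_apply] using h4
  set CK : Subgroup G := Subgroup.centralizer (K : Set G) with hCK
  have hCKn : CK.Normal := Subgroup.normal_centralizer
  by_cases hT : (S : Subgroup G) ⊓ CK = ⊥
  · -- CK has odd order
    have hCKodd : (Nat.card ↥CK).Coprime 2 := by
      rw [Nat.coprime_comm, Nat.Prime.coprime_iff_not_dvd Nat.prime_two]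
      intro hdvd
      obtain ⟨t, ht⟩ := exists_prime_orderOf_dvd_card' (G := ↥CK) 2 hdvd
      have htp : IsPGroup 2 ↥(Subgroup.zpowers (t : G)) := by
        apply IsPGroup.of_card (n := 1)
        rw [Nat.card_zpowers, pow_one, Subgroup.orderOf_coe]
        exact ht
      obtain ⟨g, hg⟩ := Cfsg.Agent.S2896.exists_conj_mem_sylow S _ htp
      have h1 : g⁻¹ * (t : G) * g ∈ (S : Subgroup G) ⊓ CK := by
        refine ⟨hg _ (Subgroup.mem_zpowers _), ?_⟩
        have := hCKn.conj_mem (t : G) t.2 g⁻¹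
        simpa using this
      rw [hT, Subgroup.mem_bot] at h1
      have h2 : (t : G) = g * (g⁻¹ * (t : G) * g) * g⁻¹ := by group
      rw [h1] at h2
      have h3 : (t : G) = 1 := by rw [h2]; group
      have h4 : t = 1 := Subtype.ext h3
      rw [h4, orderOf_one] at ht
      omega
    have hCKK : CK ≤ K := Cfsg.Agent.Lib.Helper42.le_pPrimeCore CK hCKodd
    have hcomm : ∀ g : G, z * g * z⁻¹ * g⁻¹ ∈ K := by
      intro g
      apply hCKK
      rw [hCK, Subgroup.mem_centralizer_iff]
      intro k hk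
      have hk1 : g⁻¹ * k * g ∈ K := by
        have := hN.conj_mem k hk g⁻¹
        simpa using this
      have e1 := hinv _ hk1
      have e2 := hinv _ (K.inv_mem hk)
      rw [inv_inv] at e2
      -- c * k * c⁻¹ = k
      have e3 : (z * g * z⁻¹ * g⁻¹) * k * (z * g * z⁻¹ * g⁻¹)⁻¹ = k := by
        have : (z * g * z⁻¹ * g⁻¹) * k * (z * g * z⁻¹ * g⁻¹)⁻¹
            = z * (g * (z⁻¹ * (g⁻¹ * k * g) * z) * g⁻¹) * z⁻¹ := by group
        rw [this]
        have e4 : z⁻¹ * (g⁻¹ * k * g) * z = (g⁻¹ * k * g)⁻¹ := by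
          have : z⁻¹ * (g⁻¹ * k * g) * z = z * (g⁻¹ * k * g) * z⁻¹ := by rw [hzi]
          rw [this, e1]
        rw [e4]
        have e5 : g * (g⁻¹ * k * g)⁻¹ * g⁻¹ = k⁻¹ := by group
        rw [e5, e2]
      calc k * (z * g * z⁻¹ * g⁻¹)
          = ((z * g * z⁻¹ * g⁻¹) * k * (z * g * z⁻¹ * g⁻¹)⁻¹)⁻¹⁻¹ * (z * g * z⁻¹ * g⁻¹) := by
            rw [e3, inv_inv]
        _ = (z * g * z⁻¹ * g⁻¹) * k := by rw [inv_inv]; group
    have hzcen : (QuotientGroup.mk z : G ⧸ K) ∈ Subgroup.center (G ⧸ K) := by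
      rw [Subgroup.mem_center_iff]
      intro y
      obtain ⟨g, rfl⟩ := QuotientGroup.mk_surjective y
      rw [← QuotientGroup.mk_mul, ← QuotientGroup.mk_mul, QuotientGroup.eq]
      have := hcomm g⁻¹
      rw [inv_inv] at this
      have e : (g * z)⁻¹ * (z * g) = z * g⁻¹ * z⁻¹ * g := by
        have e0 : (g * z)⁻¹ * (z * g) = z⁻¹ * g⁻¹ * z * g := by group
        rw [e0, hzi]
      rw [e]
      exact this
    rw [hZ, Subgroup.mem_bot, QuotientGroup.eq_one_iff] at hzcen
    have hdvd : orderOf z ∣ Nat.card ↥K := by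
      have : orderOf (⟨z, hzcen⟩ : ↥K) = orderOf z := (Subgroup.orderOf_coe (⟨z, hzcen⟩ : ↥K)).symm
      rw [← this]
      exact orderOf_dvd_natCard _
    rw [hzo] at hdvd
    have := Nat.Coprime.eq_one_of_dvd hKc.symm hdvd
    omega
  · -- T ≠ 1: N_G(T) is a parabolic 2-local
    set T : Subgroup G := (S : Subgroup G) ⊓ CK with hTdef
    have hTp : IsPGroup 2 ↥T := S.isPGroup'.to_le inf_le_left
    have hST : (S : Subgroup G) ≤ Subgroup.normalizer (T : Set G) := by
      intro s hs
      rw [Subgroup.mem_normalizer_iff]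
      intro t
      constructor
      · intro ht
        exact ⟨(S : Subgroup G).mul_mem ((S : Subgroup G).mul_mem hs ht.1)
          ((S : Subgroup G).inv_mem hs), hCKn.conj_mem t ht.2 s⟩
      · intro ht
        refine ⟨?_, ?_⟩
        · have := (S : Subgroup G).mul_mem ((S : Subgroup G).mul_mem
            ((S : Subgroup G).inv_mem hs) ht.1) hs
          have e : s⁻¹ * (s * t * s⁻¹) * s = t := by group
          rwa [e] at this
        · have := hCKn.conj_mem _ ht.2 s⁻¹
          have e : s⁻¹ * (s * t * s⁻¹) * s⁻¹⁻¹ = t := by group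
          rwa [e] at this
    have hNT := hG T hTp hT ⟨S, hST⟩
    have hKN : K ≤ Subgroup.normalizer (T : Set G) := by
      refine le_trans ?_ (Subgroup.centralizer_le_normalizer _)
      intro k hk
      rw [Subgroup.mem_centralizer_iff]
      intro t ht
      have := (Subgroup.mem_centralizer_iff.mp ht.2) k hk
      exact this.symm
    have hbot : K.subgroupOf (Subgroup.normalizer (T : Set G)) = ⊥ :=
      eq_bot_of_charP_of_coprime hNT _ inferInstance (hcop _)
    apply hKne
    rw [eq_bot_iff]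
    intro k hk
    have h3 : (⟨k, hKN hk⟩ : ↥(Subgroup.normalizer (T : Set G))) ∈
        K.subgroupOf (Subgroup.normalizer (T : Set G)) := Subgroup.mem_subgroupOf.mpr hk
    rw [hbot, Subgroup.mem_bot] at h3
    rw [Subgroup.mem_bot]
    exact congrArg Subtype.val h3

end Cfsg.Agent.S2898
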