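import Cfsg.Statements.S0631
import Cfsg.Agent.S1327
import Cfsg.Agent.S2898
import Cfsg.Agent.Lib.Helper56.CharPLocal
import Cfsg.Agent.Lib.Helper56.CharPIso
import Cfsg.Agent.Lib.Helper15.Lifting
import Cfsg.Agent.Lib.Helper15.Cores
import Cfsg.Agent.Lib.Helper29.Cores
import Cfsg.Agent.Lib.Helper29.PCore

set_option autoImplicit false
set_option linter.style.haveILetI false
open Cfsg

namespace Cfsg.Agent.S0631

/-- `X` is `p`-constrained iff `X / O_{p'}(X)` has characteristic `p`. -/
theorem isPConstrained_iff {X : Type*} [Group X] [Finite X] (p : ℕ) [Fact p.Prime] :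
    Cfsg.IsPConstrained p X ↔
      Subgroup.centralizer (pCore p (X ⧸ pPrimeCore p X) : Set (X ⧸ pPrimeCore p X)) ≤
        pCore p (X ⧸ pPrimeCore p X) := by
  have hN : (Nat.card (pPrimeCore p X)).Coprime p := Cfsg.Agent.Lib.Helper29.pPrimeCore_coprime p
  have hP : ∀ P : Sylow p ↥(pPrimePCore p X),
      Subgroup.centralizer (((P : Subgroup ↥(pPrimePCore p X)).map (pPrimePCore p X).subtype :
        Subgroup X) : Set X) ≤ pPrimePCore p X ↔
      Subgroup.centralizer (pCore p (X ⧸ pPrimeCore p X) : Set (X ⧸ pPrimeCore p X)) ≤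
        pCore p (X ⧸ pPrimeCore p X) := by
    intro P
    have hPp : IsPGroup p ((P : Subgroup ↥(pPrimePCore p X)).map (pPrimePCore p X).subtype) :=
      P.2.map _
    have h1 := Cfsg.Agent.Lib.Helper15.centralizer_map_mk_of_coprime (pPrimeCore p X) hN _ hPp
    rw [Cfsg.Agent.Lib.Helper15.sylow_pPrimePCore_map P] at h1
    rw [h1, Subgroup.map_le_iff_le_comap]
    rfl
  constructor
  · intro h
    obtain ⟨P⟩ : Nonempty (Sylow p ↥(pPrimePCore p X)) := inferInstance
    exact (hP P).mp (h P)
  · intro h P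
    exact (hP P).mpr h

/-- If `X / K₁` has characteristic `p` for a normal `p'`-subgroup `K₁`, then `X` is
`p`-constrained. -/
theorem isPConstrained_of_quotient {X : Type*} [Group X] [Finite X] (p : ℕ) [Fact p.Prime]
    (K₁ : Subgroup X) [hK₁ : K₁.Normal] (hc : (Nat.card K₁).Coprime p)
    (h : Subgroup.centralizer (pCore p (X ⧸ K₁) : Set (X ⧸ K₁)) ≤ pCore p (X ⧸ K₁)) :
    Cfsg.IsPConstrained p X := by
  have h1 : K₁ ≤ pPrimeCore p X := Cfsg.Agent.Lib.Helper29.normal_le_pPrimeCore p K₁ hc
  have h2 : pPrimeCore p X ≤ K₁ := by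
    have hn : ((pPrimeCore p X).map (QuotientGroup.mk' K₁)).Normal :=
      Subgroup.Normal.map inferInstance _ (QuotientGroup.mk'_surjective K₁)
    have hcop : (Nat.card ((pPrimeCore p X).map (QuotientGroup.mk' K₁))).Coprime p :=
      Nat.Coprime.coprime_dvd_left (Subgroup.card_map_dvd _ _)
        (Cfsg.Agent.Lib.Helper29.pPrimeCore_coprime p)
    have hb := Cfsg.Agent.S2898.eq_bot_of_charP_of_coprime h _ hn hcop
    have := (Subgroup.map_eq_bot_iff _).mp hb
    rwa [QuotientGroup.ker_mk'] at this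
  obtain rfl : K₁ = pPrimeCore p X := le_antisymm h1 h2
  exact (isPConstrained_iff p).mpr h

/-- A subgroup `N` of `G` whose image in `G / K` (`K` a normal `p'`-subgroup) has
characteristic `p` is `p`-constrained. -/
theorem isPConstrained_of_map {G : Type*} [Group G] [Finite G] (p : ℕ) [Fact p.Prime]
    (K : Subgroup G) [K.Normal] (hK : (Nat.card K).Coprime p) (N : Subgroup G)
    (M : Subgroup (G ⧸ K)) (hM : M = N.map (QuotientGroup.mk' K))
    (h : Subgroup.centralizer (pCore p ↥M : Set ↥M) ≤ pCore p ↥M) :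
    Cfsg.IsPConstrained p ↥N := by
  set φ : ↥N →* G ⧸ K := (QuotientGroup.mk' K).comp N.subtype with hφ
  have hrange : φ.range = M := by
    rw [hM, hφ, MonoidHom.range_comp, Subgroup.range_subtype]
  have hker : φ.ker = K.comap N.subtype := by
    ext x
    rw [MonoidHom.mem_ker, Subgroup.mem_comap, hφ, MonoidHom.comp_apply, QuotientGroup.mk'_apply,
      QuotientGroup.eq_one_iff]
  have hc : (Nat.card φ.ker).Coprime p := by
    rw [hker]
    exact Nat.Coprime.coprime_dvd_left
      (Subgroup.card_comap_dvd_of_injective K N.subtype N.subtype_injective) hK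
  have e : ↥M ≃* ↥N ⧸ φ.ker :=
    (MulEquiv.subgroupCongr hrange.symm).trans (QuotientGroup.quotientKerEquivRange φ).symm
  exact isPConstrained_of_quotient p φ.ker hc (Cfsg.Agent.Lib.Helper56.charP_of_mulEquiv e h)

/-- In a p-constrained group the normalizer and the centralizer of any p-subgroup are again p-constrained. -/
theorem result {G : Type*} [Group G] [Finite G] {p : ℕ} [Fact p.Prime] (hG : Cfsg.IsPConstrained p G) (P : Subgroup G) (hP : IsPGroup p P) : Cfsg.IsPConstrained p ↥(Subgroup.normalizer (P : Set G)) ∧ Cfsg.IsPConstrained p ↥(Subgroup.centralizer (P : Set G)) := by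
  have hK : (Nat.card (pPrimeCore p G)).Coprime p := Cfsg.Agent.Lib.Helper29.pPrimeCore_coprime p
  have hbar := (isPConstrained_iff p).mp hG
  have hPbar : IsPGroup p ((P.map (QuotientGroup.mk' (pPrimeCore p G)) : Subgroup _)) := hP.map _
  constructor
  · exact isPConstrained_of_map p (pPrimeCore p G) hK _ _
      (Cfsg.Agent.Lib.Helper15.normalizer_map_mk_of_coprime (pPrimeCore p G) hK P hP)
      (Cfsg.Agent.Lib.Helper56.charP_normalizer hbar _ hPbar)
  · exact isPConstrained_of_map p (pPrimeCore p G) hK _ _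
      (Cfsg.Agent.Lib.Helper15.centralizer_map_mk_of_coprime (pPrimeCore p G) hK P hP)
      (Cfsg.Agent.Lib.Helper56.charP_centralizer hbar _ hPbar)

end Cfsg.Agent.S0631
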