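import Cfsg.Statements.S0661
import Cfsg.Agent.Lib.Helper16.ZJ3
import Cfsg.Agent.Lib.Helper56.AxB
import Cfsg.Agent.Lib.Helper53.PPrime

set_option autoImplicit false
open Cfsg

namespace Cfsg.Agent.S0661

open Cfsg.Agent.Lib.Helper16 in
theorem pgroup_inf_coprime {G : Type*} [Group G] [Finite G] {p : ℕ} [Fact p.Prime]
    {X Y : Subgroup G} (hX : IsPGroup p ↥X) (hY : (Nat.card ↥Y).Coprime p) : X ⊓ Y = ⊥ := by
  apply disjoint_iff.mp
  apply Subgroup.disjoint_of_coprime_natCard
  obtain ⟨n, hn⟩ := hX.exists_card_eq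
  rw [hn]
  exact Nat.Coprime.pow_left n hY.symm

/-- the inclusion `O_{p'}(N_G(P)) ≤ O_{p'}(G)` -/
theorem core_normalizer_le {G : Type*} [Group G] [Finite G] {p : ℕ} [Fact p.Prime]
    (hc : Subgroup.centralizer (Cfsg.pCore p (G ⧸ Cfsg.pPrimeCore p G) :
      Set (G ⧸ Cfsg.pPrimeCore p G)) ≤ Cfsg.pCore p (G ⧸ Cfsg.pPrimeCore p G))
    (P : Subgroup G) (hP : IsPGroup p ↥P) :
    (Cfsg.pPrimeCore p ↥(Subgroup.normalizer (P : Set G))).map
      (Subgroup.normalizer (P : Set G)).subtype ≤ Cfsg.pPrimeCore p G := by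
  have hKcop : (Nat.card ↥(Cfsg.pPrimeCore p G)).Coprime p :=
    Cfsg.Agent.Lib.Helper16.ZJ.pPrimeCore_card_coprime p G
  have hXcop : (Nat.card ↥((Cfsg.pPrimeCore p ↥(Subgroup.normalizer (P : Set G))).map
      (Subgroup.normalizer (P : Set G)).subtype)).Coprime p := by
    rw [Subgroup.card_map_of_injective (Subgroup.subtype_injective _)]
    exact Cfsg.Agent.Lib.Helper16.ZJ.pPrimeCore_card_coprime p _
  have hXN : (Cfsg.pPrimeCore p ↥(Subgroup.normalizer (P : Set G))).map
      (Subgroup.normalizer (P : Set G)).subtype ≤ Subgroup.normalizer (P : Set G) :=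
    Subgroup.map_subtype_le _
  -- `X` is normalized by `N`
  have hXnorm : ∀ n ∈ Subgroup.normalizer (P : Set G),
      ∀ x ∈ (Cfsg.pPrimeCore p ↥(Subgroup.normalizer (P : Set G))).map
        (Subgroup.normalizer (P : Set G)).subtype,
      n * x * n⁻¹ ∈ (Cfsg.pPrimeCore p ↥(Subgroup.normalizer (P : Set G))).map
        (Subgroup.normalizer (P : Set G)).subtype := by
    rintro n hn _ ⟨x', hx', rfl⟩
    exact ⟨⟨n, hn⟩ * x' * ⟨n, hn⟩⁻¹,
      (Cfsg.pPrimeCore_normal p ↥(Subgroup.normalizer (P : Set G))).conj_mem x' hx' ⟨n, hn⟩, rfl⟩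
  have hXP : (Cfsg.pPrimeCore p ↥(Subgroup.normalizer (P : Set G))).map
      (Subgroup.normalizer (P : Set G)).subtype ⊓ P = ⊥ := by
    rw [inf_comm]; exact pgroup_inf_coprime hP hXcop
  intro x hx
  -- `x` commutes with `P`
  have hxP : ∀ b ∈ P, b * x = x * b := by
    intro b hb
    have h1 : b * x * b⁻¹ * x⁻¹ ∈ (Cfsg.pPrimeCore p ↥(Subgroup.normalizer (P : Set G))).map
        (Subgroup.normalizer (P : Set G)).subtype ⊓ P := by
      refine ⟨Subgroup.mul_mem _ (hXnorm b (Subgroup.le_normalizer hb) x hx)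
        (Subgroup.inv_mem _ hx), ?_⟩
      have h2 : x * b⁻¹ * x⁻¹ ∈ P :=
        (Subgroup.mem_normalizer_iff.mp (hXN hx) b⁻¹).mp (P.inv_mem hb)
      have e : b * x * b⁻¹ * x⁻¹ = b * (x * b⁻¹ * x⁻¹) := by group
      rw [e]
      exact P.mul_mem hb h2
    rw [hXP, Subgroup.mem_bot] at h1
    have h3 := mul_inv_eq_one.mp h1
    calc b * x = (b * x * b⁻¹) * b := by group
      _ = x * b := by rw [h3]
  -- work in the quotient
  have hxo : (orderOf (QuotientGroup.mk' (Cfsg.pPrimeCore p G) x)).Coprime p := by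
    have h1 : orderOf (QuotientGroup.mk' (Cfsg.pPrimeCore p G) x) ∣ orderOf x :=
      orderOf_map_dvd _ x
    have h2 : orderOf x ∣ Nat.card ↥((Cfsg.pPrimeCore p ↥(Subgroup.normalizer (P : Set G))).map
        (Subgroup.normalizer (P : Set G)).subtype) := by
      have := orderOf_dvd_natCard (⟨x, hx⟩ : ↥((Cfsg.pPrimeCore p
        ↥(Subgroup.normalizer (P : Set G))).map (Subgroup.normalizer (P : Set G)).subtype))
      rwa [Subgroup.orderOf_mk] at this
    exact Nat.Coprime.coprime_dvd_left (h1.trans h2) hXcop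
  have hQn : (Cfsg.pCore p (G ⧸ Cfsg.pPrimeCore p G)).Normal := Cfsg.pCore_normal p _
  have hQp : IsPGroup p ↥(Cfsg.pCore p (G ⧸ Cfsg.pPrimeCore p G)) :=
    Cfsg.Agent.Lib.Helper16.ZJ.pCore_isPGroup p
  have hXbcop : (Nat.card ↥(((Cfsg.pPrimeCore p ↥(Subgroup.normalizer (P : Set G))).map
      (Subgroup.normalizer (P : Set G)).subtype).map
      (QuotientGroup.mk' (Cfsg.pPrimeCore p G)))).Coprime p :=
    Nat.Coprime.coprime_dvd_left (Subgroup.card_map_dvd _ _) hXcop
  have hQX : Cfsg.pCore p (G ⧸ Cfsg.pPrimeCore p G) ⊓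
      ((Cfsg.pPrimeCore p ↥(Subgroup.normalizer (P : Set G))).map
      (Subgroup.normalizer (P : Set G)).subtype).map
      (QuotientGroup.mk' (Cfsg.pPrimeCore p G)) = ⊥ := pgroup_inf_coprime hQp hXbcop
  have hall := Cfsg.Agent.Lib.Helper56.axb_lemma (G := G ⧸ Cfsg.pPrimeCore p G)
    (Cfsg.pCore p (G ⧸ Cfsg.pPrimeCore p G)) (P.map (QuotientGroup.mk' (Cfsg.pPrimeCore p G)))
    (QuotientGroup.mk' (Cfsg.pPrimeCore p G) x) hQp (hP.map _)
    (by rw [Subgroup.normalizer_eq_top]; exact le_top)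
    (by rw [Subgroup.normalizer_eq_top]; trivial)
    (by
      rintro _ ⟨b, hb, rfl⟩
      rw [← map_mul, ← map_mul, hxP b hb])
    hxo
    (by
      intro ab hab hcomm
      obtain ⟨g, rfl⟩ := QuotientGroup.mk'_surjective (Cfsg.pPrimeCore p G) ab
      -- `g` normalizes `P ⊔ K`
      have hstep : ∀ g : G, (∀ bb ∈ P.map (QuotientGroup.mk' (Cfsg.pPrimeCore p G)),
          bb * QuotientGroup.mk' (Cfsg.pPrimeCore p G) g =
            QuotientGroup.mk' (Cfsg.pPrimeCore p G) g * bb) →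
          ∀ m ∈ P ⊔ Cfsg.pPrimeCore p G, g * m * g⁻¹ ∈ P ⊔ Cfsg.pPrimeCore p G := by
        intro g hg m hm
        have hcm : (P.map (QuotientGroup.mk' (Cfsg.pPrimeCore p G))).comap
            (QuotientGroup.mk' (Cfsg.pPrimeCore p G)) = P ⊔ Cfsg.pPrimeCore p G := by
          rw [Subgroup.comap_map_eq, QuotientGroup.ker_mk']
        rw [← hcm] at hm ⊢
        rw [Subgroup.mem_comap] at hm ⊢
        have := hg _ hm
        rw [map_mul, map_mul, map_inv, ← this]
        simpa using hm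
      have hgN : g ∈ Subgroup.normalizer ((P ⊔ Cfsg.pPrimeCore p G : Subgroup G) : Set G) := by
        rw [Subgroup.mem_normalizer_iff]
        intro m
        constructor
        · exact hstep g hcomm m
        · intro hm
          have hinv : ∀ bb ∈ P.map (QuotientGroup.mk' (Cfsg.pPrimeCore p G)),
              bb * QuotientGroup.mk' (Cfsg.pPrimeCore p G) g⁻¹ =
                QuotientGroup.mk' (Cfsg.pPrimeCore p G) g⁻¹ * bb := by
            intro bb hbb
            have := hcomm bb hbb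
            rw [map_inv]
            calc bb * (QuotientGroup.mk' (Cfsg.pPrimeCore p G) g)⁻¹
                = (QuotientGroup.mk' (Cfsg.pPrimeCore p G) g)⁻¹ *
                  (QuotientGroup.mk' (Cfsg.pPrimeCore p G) g * bb) *
                  (QuotientGroup.mk' (Cfsg.pPrimeCore p G) g)⁻¹ := by group
              _ = (QuotientGroup.mk' (Cfsg.pPrimeCore p G) g)⁻¹ * bb := by rw [← this]; group
          have := hstep g⁻¹ hinv _ hm
          have e : g⁻¹ * (g * m * g⁻¹) * g⁻¹⁻¹ = m := by group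
          rwa [e] at this
      obtain ⟨k, hk, hkg⟩ := Cfsg.Agent.Lib.Helper53.exists_mul_mem_normalizer_of_coprime
        (Cfsg.pPrimeCore p G) hKcop P hP g hgN
      have hkk : QuotientGroup.mk' (Cfsg.pPrimeCore p G) k = 1 :=
        (QuotientGroup.eq_one_iff k).mpr hk
      have hng : QuotientGroup.mk' (Cfsg.pPrimeCore p G) (k * g) =
          QuotientGroup.mk' (Cfsg.pPrimeCore p G) g := by
        rw [map_mul, hkk, one_mul]
      -- the commutator `[n, x]`
      have hcX : (k * g) * x * (k * g)⁻¹ * x⁻¹ ∈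
          (Cfsg.pPrimeCore p ↥(Subgroup.normalizer (P : Set G))).map
            (Subgroup.normalizer (P : Set G)).subtype :=
        Subgroup.mul_mem _ (hXnorm _ hkg x hx) (Subgroup.inv_mem _ hx)
      have hcQ : QuotientGroup.mk' (Cfsg.pPrimeCore p G) ((k * g) * x * (k * g)⁻¹ * x⁻¹) ∈
          Cfsg.pCore p (G ⧸ Cfsg.pPrimeCore p G) := by
        have e : QuotientGroup.mk' (Cfsg.pPrimeCore p G) ((k * g) * x * (k * g)⁻¹ * x⁻¹) =
            QuotientGroup.mk' (Cfsg.pPrimeCore p G) g *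
              (QuotientGroup.mk' (Cfsg.pPrimeCore p G) x *
                (QuotientGroup.mk' (Cfsg.pPrimeCore p G) g)⁻¹ *
                (QuotientGroup.mk' (Cfsg.pPrimeCore p G) x)⁻¹) := by
          rw [map_mul, map_mul, map_mul, map_inv, map_inv, hng]
          group
        rw [e]
        exact Subgroup.mul_mem _ hab (hQn.conj_mem _ (Subgroup.inv_mem _ hab) _)
      have h1 : QuotientGroup.mk' (Cfsg.pPrimeCore p G) ((k * g) * x * (k * g)⁻¹ * x⁻¹) ∈
          Cfsg.pCore p (G ⧸ Cfsg.pPrimeCore p G) ⊓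
          ((Cfsg.pPrimeCore p ↥(Subgroup.normalizer (P : Set G))).map
            (Subgroup.normalizer (P : Set G)).subtype).map
            (QuotientGroup.mk' (Cfsg.pPrimeCore p G)) :=
        ⟨hcQ, Subgroup.mem_map_of_mem _ hcX⟩
      rw [hQX, Subgroup.mem_bot, map_mul, map_mul, map_mul, map_inv, map_inv, hng] at h1
      have h3 := mul_inv_eq_one.mp h1
      calc QuotientGroup.mk' (Cfsg.pPrimeCore p G) g * QuotientGroup.mk' (Cfsg.pPrimeCore p G) x
          = (QuotientGroup.mk' (Cfsg.pPrimeCore p G) g *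
              QuotientGroup.mk' (Cfsg.pPrimeCore p G) x *
              (QuotientGroup.mk' (Cfsg.pPrimeCore p G) g)⁻¹) *
              QuotientGroup.mk' (Cfsg.pPrimeCore p G) g := by group
        _ = QuotientGroup.mk' (Cfsg.pPrimeCore p G) x *
              QuotientGroup.mk' (Cfsg.pPrimeCore p G) g := by rw [h3])
  have hxc : QuotientGroup.mk' (Cfsg.pPrimeCore p G) x ∈
      Subgroup.centralizer (Cfsg.pCore p (G ⧸ Cfsg.pPrimeCore p G) :
        Set (G ⧸ Cfsg.pPrimeCore p G)) := by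
    rw [Subgroup.mem_centralizer_iff]
    intro a ha
    exact hall a ha
  have h1 : QuotientGroup.mk' (Cfsg.pPrimeCore p G) x ∈
      Cfsg.pCore p (G ⧸ Cfsg.pPrimeCore p G) ⊓
      ((Cfsg.pPrimeCore p ↥(Subgroup.normalizer (P : Set G))).map
        (Subgroup.normalizer (P : Set G)).subtype).map
        (QuotientGroup.mk' (Cfsg.pPrimeCore p G)) :=
    ⟨hc hxc, Subgroup.mem_map_of_mem _ hx⟩
  rw [hQX, Subgroup.mem_bot] at h1
  exact (QuotientGroup.eq_one_iff x).mp h1

/-- If, modulo the largest normal subgroup of order prime to p, the largest normal p-subgroup contains its centralizer, then for every p-subgroup P the p'-core of N_G(P) is just O_p'(G) ∩ N_G(P). -/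
theorem result {G : Type*} [Group G] [Finite G] {p : ℕ} [Fact p.Prime] (hc : Subgroup.centralizer (Cfsg.pCore p (G ⧸ Cfsg.pPrimeCore p G) : Set (G ⧸ Cfsg.pPrimeCore p G)) ≤ Cfsg.pCore p (G ⧸ Cfsg.pPrimeCore p G)) (P : Subgroup G) (hP : IsPGroup p P) : (Cfsg.pPrimeCore p ↥(Subgroup.normalizer (P : Set G))).map (Subgroup.normalizer (P : Set G)).subtype = Cfsg.pPrimeCore p G ⊓ Subgroup.normalizer (P : Set G) := by
  apply le_antisymm
  · exact le_inf (core_normalizer_le hc P hP) (Subgroup.map_subtype_le _)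
  · intro y hy
    have hKcop : (Nat.card ↥(Cfsg.pPrimeCore p G)).Coprime p :=
      Cfsg.Agent.Lib.Helper16.ZJ.pPrimeCore_card_coprime p G
    have hn : ((Cfsg.pPrimeCore p G).subgroupOf (Subgroup.normalizer (P : Set G))).Normal :=
      inferInstance
    have hcop : (Nat.card ↥((Cfsg.pPrimeCore p G).subgroupOf
        (Subgroup.normalizer (P : Set G)))).Coprime p := by
      have h1 : Nat.card ↥((Cfsg.pPrimeCore p G).subgroupOf (Subgroup.normalizer (P : Set G))) =
          Nat.card ↥(Cfsg.pPrimeCore p G ⊓ Subgroup.normalizer (P : Set G)) := by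
        rw [← Subgroup.subgroupOf_map_subtype,
          Subgroup.card_map_of_injective (Subgroup.subtype_injective _)]
      rw [h1]
      exact Nat.Coprime.coprime_dvd_left (Subgroup.card_dvd_of_le inf_le_left) hKcop
    have hle : (Cfsg.pPrimeCore p G).subgroupOf (Subgroup.normalizer (P : Set G)) ≤
        Cfsg.pPrimeCore p ↥(Subgroup.normalizer (P : Set G)) := le_sSup ⟨hn, hcop⟩
    exact ⟨⟨y, hy.2⟩, hle (Subgroup.mem_subgroupOf.mpr hy.1), rfl⟩

end Cfsg.Agent.S0661
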