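import Cfsg.Statements.S0973
-- import your own Cfsg.Agent.* helpers here
import Cfsg.Agent.S0958
import Cfsg.Agent.S0955
import Cfsg.Agent.S0912
import Cfsg.Agent.S0917
import Cfsg.Agent.S0918
import Cfsg.Agent.S0920
import Cfsg.Agent.S0964
import Cfsg.Agent.S0965
import Cfsg.Agent.Lib.Helper22.ClassPartition
import Cfsg.Agent.Lib.Helper22.BlockTransport
import Cfsg.Agent.Lib.Helper22.BlockRegular

set_option autoImplicit false
set_option maxHeartbeats 1000000
open Cfsg

namespace Cfsg.Agent.S0973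

open Cfsg.Agent.Lib.Helper21 Cfsg.Agent.Lib.Helper82 Cfsg.Agent.Lib.Helper83 Cfsg.Agent.Lib.Helper22

section
variable {G : Type*} [Group G] [Finite G] (p : ℕ) [Fact p.Prime] (M : Ideal Cfsg.AlgInt)
  (hM : Cfsg.IsPModular p M)

include hM in
/-- A block of `H` (`P ≤ H ≤ N(P)`) inducing a block with defect group `P` has defect group `P`. -/
theorem isDefectGroup_of_induced (P H : Subgroup G) (hP : IsPGroup p P) (hPH : P ≤ H)
    (hHN : H ≤ Subgroup.normalizer (P : Set G)) (b : Set (Cfsg.IrrCharacter H))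
    (B : Set (Cfsg.IrrCharacter G)) (hind : Cfsg.IsInducedBlock M H b B)
    (hBP : Cfsg.IsDefectGroup p M B P) : Cfsg.IsDefectGroup p M b (P.subgroupOf H) := by
  obtain ⟨Db, hDb⟩ := Cfsg.Agent.S0955.exists_isDefectGroup p M hM b hind.1
  have hcore := Cfsg.Agent.S0912.result p M hM b hind.1 Db hDb
  obtain ⟨E, hE, hDE⟩ := Cfsg.Agent.S0917.result p M hM H b hind.1 B hind.2.1 hind Db hDb
  have hcard := Cfsg.Agent.S0955.card_defectGroup_eq p M hM B hind.2.1 P E hBP hE
  have hnorm : (P.subgroupOf H).Normal := Subgroup.normal_subgroupOf_of_le_normalizer hHN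
  have hDle : P.subgroupOf H ≤ Cfsg.pCore p H := by
    apply le_sSup
    exact ⟨hnorm, hP.comap_subtype⟩
  have h2 : Nat.card Db ≤ Nat.card E := by
    have := Subgroup.card_le_of_le hDE
    rwa [Subgroup.card_map_of_injective (Subgroup.subtype_injective _)] at this
  have h3 : Nat.card (P.subgroupOf H) = Nat.card P := by
    have := Subgroup.card_map_of_injective (K := P.subgroupOf H) (Subgroup.subtype_injective H)
    rw [← this, Subgroup.subgroupOf_map_subtype, inf_of_le_left hPH]
  have heq : P.subgroupOf H = Db := by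
    apply Subgroup.eq_of_le_of_card_ge (le_trans hDle hcore)
    rw [h3]
    omega
  rw [heq]
  exact hDb


include hM in
/-- A block of `N(P)` covering (the transport of) `b`, inducing `B` and with defect group `P`. -/
theorem exists_cover (P : Subgroup G) (hP : IsPGroup p P)
    [Fintype ↥((P ⊔ Subgroup.centralizer (P : Set G)).subgroupOf
      (Subgroup.normalizer (P : Set G)))]
    (hnorm : ((P ⊔ Subgroup.centralizer (P : Set G)).subgroupOf
      (Subgroup.normalizer (P : Set G))).Normal)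
    (hLN : P ⊔ Subgroup.centralizer (P : Set G) ≤ Subgroup.normalizer (P : Set G))
    (b : Set (Cfsg.IrrCharacter ↥(P ⊔ Subgroup.centralizer (P : Set G))))
    (B : Set (Cfsg.IrrCharacter G))
    (hind : Cfsg.IsInducedBlock M (P ⊔ Subgroup.centralizer (P : Set G)) b B)
    (hBP : Cfsg.IsDefectGroup p M B P) :
    ∃ β : Set (Cfsg.IrrCharacter (Subgroup.normalizer (P : Set G))),
      Cfsg.IsPBlock M β ∧
      Cfsg.IsDefectGroup p M β (P.subgroupOf (Subgroup.normalizer (P : Set G))) ∧
      Cfsg.IsInducedBlock M (Subgroup.normalizer (P : Set G)) β B ∧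
      ∃ ξ ∈ β, ∃ θ ∈ b, Cfsg.classInner
        (fun n : (P ⊔ Subgroup.centralizer (P : Set G)).subgroupOf
          (Subgroup.normalizer (P : Set G)) =>
          (ξ : Subgroup.normalizer (P : Set G) → ℂ) n)
        (irrComap (Subgroup.subgroupOfEquivOfLe hLN) θ :
          (P ⊔ Subgroup.centralizer (P : Set G)).subgroupOf
            (Subgroup.normalizer (P : Set G)) → ℂ) ≠ 0 := by
  classical
  have hMp : M.IsPrime := hM.2.1.isPrime
  let _ : Fintype G := Fintype.ofFinite G
  let _ : Fintype (Subgroup.normalizer (P : Set G)) := Fintype.ofFinite _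
  obtain ⟨θ₀, hθ₀⟩ := IsPBlock.nonempty hMp hind.1
  obtain ⟨ξ, hξ⟩ := exists_irr_over ((P ⊔ Subgroup.centralizer (P : Set G)).subgroupOf
    (Subgroup.normalizer (P : Set G))) (irrComap (Subgroup.subgroupOfEquivOfLe hLN) θ₀)
  have hβ : IsPBlock M (blockOf M (ξ : Subgroup.normalizer (P : Set G) → ℂ)) := ⟨ξ, rfl⟩
  have hξβ := mem_blockOf_self hMp ξ
  have hbt := isPBlock_blockComap (M := M) (Subgroup.subgroupOfEquivOfLe hLN) hind.1
  have hθt := irrComap_mem_blockComap (Subgroup.subgroupOfEquivOfLe hLN) hθ₀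
  have hcong := (Cfsg.Agent.S0965.result p M hM _ _ hβ _ hbt).1 ⟨ξ, hξβ, _, hθt, hξ⟩
  have hPL : P ≤ P ⊔ Subgroup.centralizer (P : Set G) := le_sup_left
  have hCL : Subgroup.centralizer (P : Set G) ≤ P ⊔ Subgroup.centralizer (P : Set G) :=
    le_sup_right
  have h18L := (Cfsg.Agent.S0918.result p M hM P _ hP hPL hCL hLN b hind.1 B hind.2.1).1 hind
  have hindN : Cfsg.IsInducedBlock M (Subgroup.normalizer (P : Set G))
      (blockOf M (ξ : Subgroup.normalizer (P : Set G) → ℂ)) B := by
    rw [Cfsg.Agent.S0918.result p M hM P _ hP Subgroup.le_normalizer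
      (Subgroup.centralizer_le_normalizer _) le_rfl _ hβ B hind.2.1]
    intro ξ' hξ' χ hχ g
    have h1 := brauerCentralChar_sub_mem hMp P _ _ hLN hCL le_rfl hnorm
      (ξ' : Subgroup.normalizer (P : Set G) → ℂ) (isClassFunction_irr ξ')
      (θ₀ : ↥(P ⊔ Subgroup.centralizer (P : Set G)) → ℂ)
      (fun n => hcong ξ' hξ' _ hθt n) g
    have h2 := h18L θ₀ hθ₀ χ hχ g
    have := memLocalIdeal_add hMp h1 h2
    rwa [sub_add_sub_cancel] at this
  refine ⟨_, hβ, ?_, hindN, ξ, hξβ, θ₀, hθ₀, hξ⟩
  exact isDefectGroup_of_induced p M hM P _ hP Subgroup.le_normalizer le_rfl _ B hindN hBP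

end

/-- Let B be a block of the finite group G with defect group P (relative to a maximal ideal M of the algebraic integers containing p), and let L = P ⊔ C_G(P). Then (i) some block b of L with defect group P (viewed in L) induces B, and (ii) if b and b' are blocks of L both inducing B, there is n ∈ N_G(P) carrying b to b': for every θ ∈ b there is θ' ∈ b' with θ' x = θ (n x n⁻¹) for all x ∈ L. -/
theorem result {G : Type*} [Group G] [Finite G] (p : ℕ) [Fact p.Prime] (M : Ideal Cfsg.AlgInt) (hM : Cfsg.IsPModular p M) (B : Set (Cfsg.IrrCharacter G)) (hB : Cfsg.IsPBlock M B) (P : Subgroup G) (hP : Cfsg.IsDefectGroup p M B P) : (∃ b : Set (Cfsg.IrrCharacter ↥(P ⊔ Subgroup.centralizer (P : Set G))), Cfsg.IsDefectGroup p M b (P.subgroupOf (P ⊔ Subgroup.centralizer (P : Set G))) ∧ Cfsg.IsInducedBlock M (P ⊔ Subgroup.centralizer (P : Set G)) b B) ∧ ∀ b b' : Set (Cfsg.IrrCharacter ↥(P ⊔ Subgroup.centralizer (P : Set G))), Cfsg.IsInducedBlock M (P ⊔ Subgroup.centralizer (P : Set G)) b B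 → Cfsg.IsInducedBlock M (P ⊔ Subgroup.centralizer (P : Set G)) b' B → ∃ n ∈ Subgroup.normalizer (P : Set G), ∀ θ ∈ b, ∃ θ' ∈ b', ∀ x : ↥(P ⊔ Subgroup.centralizer (P : Set G)), ∀ hx : n * (x : G) * n⁻¹ ∈ P ⊔ Subgroup.centralizer (P : Set G), (θ' : ↥(P ⊔ Subgroup.centralizer (P : Set G)) → ℂ) x = (θ : ↥(P ⊔ Subgroup.centralizer (P : Set G)) → ℂ) ⟨n * (x : G) * n⁻¹, hx⟩ := by
  classical
  have hMp : M.IsPrime := hM.2.1.isPrime
  have hPp : IsPGroup p P := Cfsg.Agent.S0955.isPGroup_of_isDefectGroup p M B P hP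
  have hLN : P ⊔ Subgroup.centralizer (P : Set G) ≤ Subgroup.normalizer (P : Set G) :=
    sup_le Subgroup.le_normalizer (Subgroup.centralizer_le_normalizer _)
  have hPL : P ≤ P ⊔ Subgroup.centralizer (P : Set G) := le_sup_left
  have hCL : Subgroup.centralizer (P : Set G) ≤ P ⊔ Subgroup.centralizer (P : Set G) :=
    le_sup_right
  constructor
  · obtain ⟨b, hind⟩ := Cfsg.Agent.S0958.exists_isInducedBlock p M hM P _ hPp hPL hCL hLN B hB P
      hP 1 (by
        rintro _ ⟨q, hq, rfl⟩
        simpa using hq)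
    exact ⟨b, isDefectGroup_of_induced p M hM P _ hPp hPL hLN b B hind hP, hind⟩
  · intro b b' hind hind'
    let _ : Fintype G := Fintype.ofFinite G
    let _ : Fintype (Subgroup.normalizer (P : Set G)) := Fintype.ofFinite _
    let _ : Fintype ((P ⊔ Subgroup.centralizer (P : Set G)).subgroupOf
      (Subgroup.normalizer (P : Set G))) := Fintype.ofFinite _
    have hnorm : ((P ⊔ Subgroup.centralizer (P : Set G)).subgroupOf
        (Subgroup.normalizer (P : Set G))).Normal := by
      rw [Subgroup.normal_subgroupOf_iff hLN]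
      intro h k hh hk
      have hmap : (P ⊔ Subgroup.centralizer (P : Set G)).map (MulAut.conj k).toMonoidHom ≤
          P ⊔ Subgroup.centralizer (P : Set G) := by
        rw [Subgroup.map_sup]
        apply sup_le_sup
        · rintro _ ⟨q, hq, rfl⟩
          exact (Subgroup.mem_normalizer_iff.1 hk q).1 hq
        · rintro _ ⟨c, hc, rfl⟩
          have hcn : (Subgroup.centralizer (P : Set G)).subgroupOf
              (Subgroup.normalizer (P : Set G)) |>.Normal := inferInstance
          have := hcn.conj_mem ⟨c, Subgroup.centralizer_le_normalizer _ hc⟩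
            (by rw [Subgroup.mem_subgroupOf]; exact hc) ⟨k, hk⟩
          rw [Subgroup.mem_subgroupOf] at this
          exact this
      exact hmap ⟨h, hh, rfl⟩
    obtain ⟨β, hβ, hβD, hβind, ξ, hξ, θ₀, hθ₀, hcon⟩ :=
      exists_cover p M hM P hPp hnorm hLN b B hind hP
    obtain ⟨β', hβ', hβD', hβind', ξ', hξ', θ₀', hθ₀', hcon'⟩ :=
      exists_cover p M hM P hPp hnorm hLN b' B hind' hP
    have huniq := (Cfsg.Agent.S0920.result p M hM P hPp).2 B hB hP
    have hββ' : β = β' := huniq.unique ⟨hβ, hβD, hβind⟩ ⟨hβ', hβD', hβind'⟩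
    subst hββ'
    have hbt := isPBlock_blockComap (M := M) (Subgroup.subgroupOfEquivOfLe hLN) hind.1
    have hbt' := isPBlock_blockComap (M := M) (Subgroup.subgroupOfEquivOfLe hLN) hind'.1
    obtain ⟨g, θ'', hθ'', hconj⟩ := Cfsg.Agent.S0964.result (hN := hnorm) p M hM _ β hβ _ hbt ξ hξ
      (irrComap (Subgroup.subgroupOfEquivOfLe hLN) θ₀)
      (irrComap_mem_blockComap (Subgroup.subgroupOfEquivOfLe hLN) hθ₀) hcon ξ' hξ'
      (irrComap (Subgroup.subgroupOfEquivOfLe hLN) θ₀') hcon'
    refine ⟨(g : G), g.2, ?_⟩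
    intro θ hθ
    have hmem : irrConj hnorm g (irrComap (Subgroup.subgroupOfEquivOfLe hLN) θ) ∈
        blockComap (Subgroup.subgroupOfEquivOfLe hLN) b' := by
      have h1 : SameBlock M
          (θ'' : (P ⊔ Subgroup.centralizer (P : Set G)).subgroupOf
            (Subgroup.normalizer (P : Set G)) → ℂ)
          (irrComap (Subgroup.subgroupOfEquivOfLe hLN) θ :
            (P ⊔ Subgroup.centralizer (P : Set G)).subgroupOf
              (Subgroup.normalizer (P : Set G)) → ℂ) :=
        IsPBlock.sameBlock hMp hbt hθ'' (irrComap_mem_blockComap _ hθ)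
      have h2 := sameBlock_conjFun hnorm h1 g
      have h3 : irrConj hnorm g θ'' = irrComap (Subgroup.subgroupOfEquivOfLe hLN) θ₀' := by
        apply Subtype.ext
        funext n
        rw [irrConj_apply]
        exact (hconj n).symm
      have h4 : irrConj hnorm g θ'' ∈ blockComap (Subgroup.subgroupOfEquivOfLe hLN) b' := by
        rw [h3]
        exact irrComap_mem_blockComap _ hθ₀'
      exact IsPBlock.mem_of_sameBlock hMp hbt' h4 h2
    refine ⟨irrComap (Subgroup.subgroupOfEquivOfLe hLN).symm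
      (irrConj hnorm g (irrComap (Subgroup.subgroupOfEquivOfLe hLN) θ)), hmem, ?_⟩
    intro x hx
    rw [irrComap_apply, irrConj_apply, irrComap_apply]
    refine congrArg _ (Subtype.ext ?_)
    simp

end Cfsg.Agent.S0973
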