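import Cfsg.Statements.S0959
import Cfsg.Agent.S0911
import Cfsg.Agent.Lib.Helper21.InducedBlock
import Cfsg.Agent.Lib.Helper21.SylowAux

set_option autoImplicit false
open Cfsg

namespace Cfsg.Agent.S0959

open Cfsg.Agent.Lib.Helper21 Cfsg.Agent.Lib.Helper82 Cfsg.Agent.Lib.Helper83

/-- Let B be a block of the finite group G with defect group D (relative to a maximal ideal M of the algebraic integers containing the prime p), and let P be a p-subgroup. Then there is an element g whose idempotent coefficient for B is a local integer outside the local ideal at M and which has a conjugate centralizing P, if and only if some conjugate of P is contained in D. -/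
theorem result {G : Type*} [Group G] [Finite G] (p : ℕ) [Fact p.Prime] (M : Ideal Cfsg.AlgInt) (hM : Cfsg.IsPModular p M) (B : Set (Cfsg.IrrCharacter G)) (hB : Cfsg.IsPBlock M B) (D : Subgroup G) (hD : Cfsg.IsDefectGroup p M B D) (P : Subgroup G) (hP : IsPGroup p P) : (∃ g : G, Cfsg.MemLocalRing M (Cfsg.blockCoeff B g) ∧ ¬ Cfsg.MemLocalIdeal M (Cfsg.blockCoeff B g) ∧ ∃ c : G, IsConj g c ∧ c ∈ Subgroup.centralizer (P : Set G)) ↔ ∃ x : G, P.map (MulAut.conj x).toMonoidHom ≤ D := by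
  classical
  have := Fintype.ofFinite G
  have := Fintype.ofFinite (Cfsg.IrrCharacter G)
  obtain ⟨g₀, hg₀, Q, rfl⟩ := hD
  constructor
  · rintro ⟨g, hgR, hgI, c, hgc, hc⟩
    have hcB : blockCoeff B c = blockCoeff B g := blockCoeff_of_isConj B hgc
    obtain ⟨x, Q', hQ'⟩ := (Cfsg.Agent.S0911.result p M hM B hB g₀ hg₀ Q c).1
      (by rw [hcB]; exact hgR) (by rw [hcB]; exact hgI)
    have hPc : P ≤ Subgroup.centralizer ({c} : Set G) := by
      intro q hq
      rw [Subgroup.mem_centralizer_iff]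
      intro z hz
      rw [Set.mem_singleton_iff] at hz
      subst hz
      exact (Subgroup.mem_centralizer_iff.1 hc q hq).symm
    obtain ⟨y, _, hy⟩ := exists_conj_mem_of_sylow_subgroup Q' rfl hP hPc
    refine ⟨x⁻¹ * y⁻¹, ?_⟩
    rintro _ ⟨q, hq, rfl⟩
    obtain ⟨d, hd, hdq⟩ := hQ' (hy q hq)
    have : (MulAut.conj (x⁻¹ * y⁻¹)).toMonoidHom q = d := by
      simp only [MulEquiv.toMonoidHom_eq_coe, MonoidHom.coe_coe, MulAut.conj_apply] at hdq ⊢
      calc x⁻¹ * y⁻¹ * q * (x⁻¹ * y⁻¹)⁻¹ = x⁻¹ * (y⁻¹ * q * y) * x := by group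
        _ = x⁻¹ * (x * d * x⁻¹) * x := by rw [hdq]
        _ = d := by group
    rw [this]
    exact hd
  · rintro ⟨x, hx⟩
    refine ⟨g₀, hg₀.1, hg₀.2.1, x⁻¹ * g₀ * x, isConj_iff.2 ⟨x⁻¹, by simp⟩, ?_⟩
    rw [Subgroup.mem_centralizer_iff]
    intro q hq
    have h1 : (MulAut.conj x).toMonoidHom q ∈
        (Q : Subgroup (Subgroup.centralizer ({g₀} : Set G))).map
          (Subgroup.centralizer ({g₀} : Set G)).subtype := hx ⟨q, hq, rfl⟩
    obtain ⟨d, _, hd⟩ := h1
    have h2 := Subgroup.mem_centralizer_iff.1 d.2 g₀ (Set.mem_singleton g₀)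
    simp only [MulEquiv.toMonoidHom_eq_coe, MonoidHom.coe_coe, MulAut.conj_apply,
      Subgroup.coe_subtype] at hd
    rw [hd] at h2
    calc q * (x⁻¹ * g₀ * x) = x⁻¹ * ((x * q * x⁻¹) * g₀) * x := by group
      _ = x⁻¹ * (g₀ * (x * q * x⁻¹)) * x := by rw [h2]
      _ = x⁻¹ * g₀ * x * q := by group

end Cfsg.Agent.S0959
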