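import Cfsg.Statements.S0924
import Cfsg.Agent.Lib.Helper82.VanishOffDefect
import Cfsg.Agent.S0959

set_option autoImplicit false
set_option linter.style.haveILetI false
open Cfsg

namespace Cfsg.Agent.S0924

open Cfsg.Agent.Lib.Helper82 Cfsg.Agent.Lib.Helper21 Cfsg.Agent.Lib.Helper83

/-- Let χ be an irreducible character of the finite group G and g ∈ G, and fix a maximal ideal M of the algebraic integers containing the prime p. If the p-part of g is contained in no defect group of the block of χ, then χ g = 0. -/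
theorem result {G : Type*} [Group G] [Finite G] (p : ℕ) [Fact p.Prime] (M : Ideal Cfsg.AlgInt) (hM : Cfsg.IsPModular p M) (χ : Cfsg.IrrCharacter G) (g x : G) (hx : Cfsg.IsPPart p g x) (hD : ∀ D : Subgroup G, Cfsg.IsDefectGroup p M (Cfsg.blockOf M (χ : G → ℂ)) D → x ∉ D) : (χ : G → ℂ) g = 0 := by
  classical
  letI : Fintype G := Fintype.ofFinite G
  haveI : Fintype (IrrCharacter G) := Fintype.ofFinite _
  have hMp : M.IsPrime := hM.2.1.isPrime
  set B := blockOf M (χ : G → ℂ) with hB
  have hBblock : IsPBlock M B := ⟨χ, rfl⟩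
  apply irr_apply_eq_zero_of_coeff hM χ g x hx _ χ (mem_blockOf_self hMp χ)
  intro c hc
  by_contra hcon
  -- a defect group
  obtain ⟨g₀, hg₀⟩ := exists_isDefectClass hMp χ
  obtain ⟨Q⟩ : Nonempty (Sylow p (Subgroup.centralizer ({g₀} : Set G))) := inferInstance
  have hD₀ : IsDefectGroup p M B
      ((Q : Subgroup (Subgroup.centralizer ({g₀} : Set G))).map
        (Subgroup.centralizer ({g₀} : Set G)).subtype) := ⟨g₀, hg₀, Q, rfl⟩
  -- the cyclic `p`-group generated by `x`
  have hxP : IsPGroup p (Subgroup.zpowers x) := by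
    obtain ⟨_, _, _, ⟨k, hk⟩, _⟩ := hx
    exact IsPGroup.of_card (n := k) (by rw [Nat.card_zpowers, hk])
  have hcP : c ∈ Subgroup.centralizer ((Subgroup.zpowers x : Subgroup G) : Set G) := by
    rw [Subgroup.mem_centralizer_iff]
    intro z hz
    obtain ⟨n, rfl⟩ := Subgroup.mem_zpowers_iff.1 hz
    have h1 : c * x = x * c := Subgroup.mem_centralizer_singleton_iff.1 hc
    have h2 : Commute x c := h1.symm
    exact (h2.zpow_left n).eq
  obtain ⟨t, ht⟩ := (Cfsg.Agent.S0959.result p M hM B hBblock _ hD₀ (Subgroup.zpowers x) hxP).1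
    ⟨c, memLocalRing_blockCoeff_blockOf hMp χ c, hcon, c, IsConj.refl c, hcP⟩
  -- conjugate back
  have hD₁ := isDefectGroup_conj hD₀ t⁻¹
  apply hD _ hD₁
  rw [Subgroup.mem_map]
  refine ⟨t * x * t⁻¹, ht ?_, ?_⟩
  · rw [Subgroup.mem_map]
    exact ⟨x, Subgroup.mem_zpowers x, rfl⟩
  · show t⁻¹ * (t * x * t⁻¹) * t⁻¹⁻¹ = x
    group

end Cfsg.Agent.S0924
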