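import Mathlib
import Cfsg.Prelude
import Cfsg.Agent.Lib.Helper84.FTBoundE
import Cfsg.Agent.Lib.Helper83.Quotient

set_option autoImplicit false
open Cfsg

namespace Cfsg.Agent.S0898

open scoped ComplexConjugate
open Cfsg.Agent.Lib.Helper83 Cfsg.Agent.Lib.Helper84

/-- second part: `|H| < (1 + χ(1))²`. -/
theorem part2 {G : Type*} [Group G] [Fintype G] (H : Subgroup G) [Fintype H]
    (hab : ∀ a ∈ H, ∀ b ∈ H, a * b = b * a) (hZ : H ⊓ Subgroup.center G = ⊥)
    (hone : ∀ g : G, g ∉ Subgroup.center G → ∀ a b : G,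
      Subgroup.centralizer ({g} : Set G) ⊓ H.map (MulAut.conj a).toMonoidHom ≠ ⊥ →
      Subgroup.centralizer ({g} : Set G) ⊓ H.map (MulAut.conj b).toMonoidHom ≠ ⊥ →
      H.map (MulAut.conj a).toMonoidHom = H.map (MulAut.conj b).toMonoidHom)
    (χ : IrrCharacter G) (hd1 : (χ : G → ℂ) 1 ≠ 1)
    (hM : ∀ M : Subgroup G, M.Normal → H ≤ M → M = ⊤) :
    (Nat.card H : ℝ) < (1 + ((χ : G → ℂ) 1).re) ^ 2 := by
  classical
  have : Fintype (IrrCharacter G) := Fintype.ofFinite _
  have hχc := IrrCharacter_isCharacter χ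
  set d : ℕ := charDegree (χ : G → ℂ) with hd
  have hdc : (d : ℂ) = (χ : G → ℂ) 1 := charDegree_cast hχc
  have hdre : ((χ : G → ℂ) 1).re = (d : ℝ) := by rw [← hdc]; simp
  have hd2 : 2 ≤ d := by
    have h0 : 0 < d := irr_charDegree_pos χ
    have h1 : d ≠ 1 := by
      intro h
      apply hd1
      rw [← hdc, h]; simp
    omega
  have hHpos : (0 : ℝ) < Nat.card H := by exact_mod_cast Nat.card_pos
  have hHc : (Nat.card H : ℂ) ≠ 0 := card_ne_zero_complex
  set s : ℝ := Real.sqrt (Nat.card H) with hs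
  have hspos : 0 < s := Real.sqrt_pos.2 hHpos
  have hs2 : s ^ 2 = (Nat.card H : ℝ) := Real.sq_sqrt hHpos.le
  -- θ = χ χ̄
  set θ : G → ℂ := (χ : G → ℂ) * (fun g => conj ((χ : G → ℂ) g)) with hθ
  have hθc : IsCharacter G θ := isCharacter_mul hχc (isCharacter_conj hχc)
  have hθapp : ∀ g, θ g = ((Complex.normSq ((χ : G → ℂ) g) : ℝ) : ℂ) := by
    intro g
    simp only [hθ, Pi.mul_apply, Complex.mul_conj]
  set a : IrrCharacter G → ℕ := fun φ => irrMult θ φ with ha
  have hdec : θ = ∑ φ : IrrCharacter G, (a φ : ℂ) • (φ : G → ℂ) := char_eq_sum_irrMult hθc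
  have hdecapp : ∀ g : G, θ g = ∑ φ : IrrCharacter G, (a φ : ℂ) * (φ : G → ℂ) g := by
    intro g
    conv_lhs => rw [hdec]
    simp [Finset.sum_apply]
  -- multiplicity of the trivial character
  have hatriv : a (trivChar G) = 1 := by
    have h1 : (a (trivChar G) : ℂ) = classInner θ (trivChar G : G → ℂ) := irrMult_cast hθc _
    have h2 : classInner θ (trivChar G : G → ℂ) = classInner (χ : G → ℂ) (χ : G → ℂ) := by
      rw [classInner_def, classInner_def]
      congr 1
      apply Finset.sum_congr rfl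
      intro g _
      simp [hθ, trivChar_apply]
    rw [h2, irr_inner_self] at h1
    exact_mod_cast h1
  -- degrees
  have hdeg : ∑ φ : IrrCharacter G, (a φ : ℝ) * ((φ : G → ℂ) 1).re = (d : ℝ) ^ 2 := by
    have h1 := hdecapp 1
    have h2 : θ 1 = ((d : ℂ)) ^ 2 := by
      simp only [hθ, Pi.mul_apply]
      rw [← hdc]
      simp [sq]
    rw [h2] at h1
    have h3 := congrArg Complex.re h1
    rw [Complex.re_sum] at h3
    have h4 : ∀ φ : IrrCharacter G, ((a φ : ℂ) * (φ : G → ℂ) 1).re =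
        (a φ : ℝ) * ((φ : G → ℂ) 1).re := by
      intro φ
      simp
    rw [Finset.sum_congr rfl (fun φ _ => h4 φ)] at h3
    rw [← h3]
    norm_cast
  -- the inner products with 1_H
  set c : IrrCharacter G → ℂ := fun φ => classInner (fun h : H => (φ : G → ℂ) h) (fun _ => 1)
    with hc
  have hm : classInner (fun h : H => θ h) (fun _ => 1) = ∑ φ : IrrCharacter G, (a φ : ℂ) * c φ := by
    have h1 : (fun h : H => θ h) = ∑ φ : IrrCharacter G,
        (a φ : ℂ) • (fun h : H => (φ : G → ℂ) h) := by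
      funext h
      rw [hdecapp]
      simp [Finset.sum_apply]
    rw [h1, classInner_sum_left]
    apply Finset.sum_congr rfl
    intro φ _
    rw [classInner_smul_left]
  have hmge : (d : ℝ) ≤ (classInner (fun h : H => θ h) (fun _ => 1)).re := by
    have h1 := comm_subgroup_sum_normSq_ge hχc H hab
    rw [hdre] at h1
    have h2 : classInner (fun h : H => θ h) (fun _ => 1) =
        (((Nat.card H : ℝ)⁻¹ * ∑ h : H, Complex.normSq ((χ : G → ℂ) h) : ℝ) : ℂ) := by
      rw [classInner_def]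
      simp only [hθapp, map_one, mul_one]
      push_cast
      rfl
    rw [h2, Complex.ofReal_re]
    rw [le_inv_mul_iff₀ hHpos]
    exact h1
  -- bound for each φ
  have hctriv : c (trivChar G) = 1 := by
    simp only [hc, classInner_def, trivChar_apply, map_one, mul_one, Finset.sum_const,
      Finset.card_univ, nsmul_eq_mul, ← Nat.card_eq_fintype_card]
    exact inv_mul_cancel₀ hHc
  have hφ1re : ∀ φ : IrrCharacter G, 0 < ((φ : G → ℂ) 1).re := by
    intro φ
    rw [charDegree_re (IrrCharacter_isCharacter φ)]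
    exact_mod_cast irr_charDegree_pos φ
  have hbound : ∀ φ : IrrCharacter G, φ ≠ trivChar G → s * ‖c φ‖ < ((φ : G → ℂ) 1).re := by
    intro φ hφ
    have hφc := IrrCharacter_isCharacter φ
    have hker : ∃ h ∈ H, (φ : G → ℂ) h ≠ (φ : G → ℂ) 1 := by
      by_contra hcon
      push Not at hcon
      apply hφ
      apply eq_trivChar_of_forall_eq
      intro g
      have hle : H ≤ charKer hφc := fun h hh => (mem_charKer hφc h).2 (hcon h hh)
      have htop := hM (charKer hφc) (charKer_normal hφc) hle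
      have : g ∈ charKer hφc := by rw [htop]; exact Subgroup.mem_top g
      exact (mem_charKer hφc g).1 this
    have h1 := ft_bound H hab hZ hone φ hker
    have h2 : Complex.normSq ((φ : G → ℂ) 1) = (((φ : G → ℂ) 1).re) ^ 2 := by
      rw [← charDegree_cast hφc]
      simp [Complex.normSq_natCast, sq]
    rw [h2, Complex.normSq_eq_norm_sq, ← hs2, ← mul_pow] at h1
    exact lt_of_pow_lt_pow_left₀ 2 (hφ1re φ).le h1
  -- u
  set u : IrrCharacter G → ℝ := fun φ =>
    (a φ : ℝ) * ((φ : G → ℂ) 1).re + (if φ = trivChar G then s - 1 else 0) with hu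
  have hle : ∀ φ : IrrCharacter G, s * ((a φ : ℝ) * ‖c φ‖) ≤ u φ := by
    intro φ
    by_cases hφ : φ = trivChar G
    · simp only [hu, hφ, hatriv, hctriv, if_true, trivChar_apply]
      simp
    · simp only [hu, if_neg hφ, add_zero]
      have := hbound φ hφ
      have ha0 : (0 : ℝ) ≤ (a φ : ℝ) := Nat.cast_nonneg _
      nlinarith
  have hsumu : ∑ φ : IrrCharacter G, u φ = (d : ℝ) ^ 2 + s - 1 := by
    simp only [hu]
    rw [Finset.sum_add_distrib, hdeg, Finset.sum_ite_eq' Finset.univ (trivChar G)]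
    simp
    ring
  -- existence of a nontrivial constituent
  have hex : ∃ φ : IrrCharacter G, φ ≠ trivChar G ∧ a φ ≠ 0 := by
    by_contra hcon
    push Not at hcon
    have h1 : ∑ φ : IrrCharacter G, (a φ : ℝ) * ((φ : G → ℂ) 1).re = 1 := by
      rw [Finset.sum_eq_single (trivChar G)]
      · rw [hatriv, trivChar_apply]; simp
      · intro φ _ hφ
        rw [hcon φ hφ]; simp
      · intro h; exact absurd (Finset.mem_univ _) h
    rw [hdeg] at h1
    have : (2 : ℝ) ≤ d := by exact_mod_cast hd2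
    nlinarith
  obtain ⟨φ₀, hφ₀, haφ₀⟩ := hex
  have hlt : ∑ φ : IrrCharacter G, s * ((a φ : ℝ) * ‖c φ‖) < ∑ φ : IrrCharacter G, u φ := by
    apply Finset.sum_lt_sum (fun φ _ => hle φ)
    refine ⟨φ₀, Finset.mem_univ _, ?_⟩
    simp only [hu, if_neg hφ₀, add_zero]
    have := hbound φ₀ hφ₀
    have ha0 : (1 : ℝ) ≤ (a φ₀ : ℝ) := by exact_mod_cast Nat.one_le_iff_ne_zero.2 haφ₀
    nlinarith [norm_nonneg (c φ₀)]
  -- d ≤ ∑ a ‖c‖
  have hd_le : (d : ℝ) ≤ ∑ φ : IrrCharacter G, (a φ : ℝ) * ‖c φ‖ := by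
    refine le_trans hmge ?_
    rw [hm, Complex.re_sum]
    apply Finset.sum_le_sum
    intro φ _
    have h1 : ((a φ : ℂ) * c φ).re = (a φ : ℝ) * (c φ).re := by simp
    rw [h1]
    exact mul_le_mul_of_nonneg_left (Complex.re_le_norm _) (Nat.cast_nonneg _)
  rw [← Finset.mul_sum, hsumu] at hlt
  -- s d ≤ s Σ < d² + s - 1
  have h1 : s * (d : ℝ) < (d : ℝ) ^ 2 + s - 1 := lt_of_le_of_lt
    (mul_le_mul_of_nonneg_left hd_le hspos.le) hlt
  have hdR : (2 : ℝ) ≤ d := by exact_mod_cast hd2
  have h2 : s < (d : ℝ) + 1 := by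
    by_contra hcon
    have hcon' : (d : ℝ) + 1 ≤ s := not_lt.1 hcon
    nlinarith
  rw [hdre, ← hs2]
  nlinarith

/-- Let H be an abelian subgroup of the finite group G meeting the centre of G trivially, such that for every non-central g the centralizer of g has nontrivial intersection with at most one conjugate of H. Let χ be an irreducible character of G with χ h ≠ χ 1 for some h in H, and let c be the inner product of the restriction of χ to H with the principal character. Then χ(1)² > (order of H)·c²; and if in addition χ 1 ≠ 1 and no proper normal subgroup of G contains H, then (1 + χ 1)² > order of H (both sides read as real numbers). -/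
theorem result {G : Type*} [Group G] [Fintype G] (H : Subgroup G) [Fintype H] (hab : ∀ a ∈ H, ∀ b ∈ H, a * b = b * a) (hZ : H ⊓ Subgroup.center G = ⊥) (hone : ∀ g : G, g ∉ Subgroup.center G → ∀ a b : G, Subgroup.centralizer ({g} : Set G) ⊓ H.map (MulAut.conj a).toMonoidHom ≠ ⊥ → Subgroup.centralizer ({g} : Set G) ⊓ H.map (MulAut.conj b).toMonoidHom ≠ ⊥ → H.map (MulAut.conj a).toMonoidHom = H.map (MulAut.conj b).toMonoidHom) (χ : G → ℂ) (hχ : Cfsg.IsIrrCharacter G χ) (hker : ∃ h ∈ H, χ h ≠ χ 1) : (χ 1).re ^ 2 > (Nat.card H : ℝ) * (Cfsg.classInner (fun h : H => χ h) (fun _ => 1)).re ^ 2 ∧ (χ 1 ≠ 1 → (∀ M : Subgroup G, M.Normal → H ≤ M → M = ⊤) → (1 + (χ 1).re) ^ 2 > (Nat.card H : ℝ)) := by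
  refine ⟨?_, ?_⟩
  · have h1 := ft_bound H hab hZ hone ⟨χ, hχ⟩ hker
    have hχc : IsCharacter G χ := isCharacter_of_irr hχ
    have h2 : Complex.normSq (χ 1) = (χ 1).re ^ 2 := by
      rw [← charDegree_cast hχc]
      simp [Complex.normSq_natCast, sq]
    have h3 : (Cfsg.classInner (fun h : H => χ h) (fun _ => 1)).re ^ 2 ≤
        Complex.normSq (Cfsg.classInner (fun h : H => χ h) (fun _ => 1)) := by
      rw [Complex.normSq_apply]
      nlinarith [mul_self_nonneg (Cfsg.classInner (fun h : H => χ h) (fun _ => 1)).im]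
    have hHpos : (0 : ℝ) < Nat.card H := by exact_mod_cast Nat.card_pos
    change (Nat.card H : ℝ) * Complex.normSq (Cfsg.classInner (fun h : H => χ h) (fun _ => 1)) <
      Complex.normSq (χ 1) at h1
    rw [h2] at h1
    have := mul_le_mul_of_nonneg_left h3 hHpos.le
    exact lt_of_le_of_lt this h1
  · intro hd1 hM
    exact part2 H hab hZ hone ⟨χ, hχ⟩ hd1 hM

end Cfsg.Agent.S0898
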