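import Cfsg.Statements.S0927
import Cfsg.Agent.Lib.Helper22.DefectClass

set_option autoImplicit false
open Cfsg

namespace Cfsg.Agent.S0927

open Cfsg.Agent.Lib.Helper21 Cfsg.Agent.Lib.Helper82 Cfsg.Agent.Lib.Helper22

/-- Let B be a block of the finite group G relative to a maximal ideal M of the algebraic integers containing p, let y represent a defect class of B and let P be a Sylow p-subgroup of the centralizer of y. (a) If x ∈ P and χ ∈ B has height zero, then χ (x * y) is not in the local ideal at M. (b) If x lies in the centre of P, then for every χ ∈ B the central character of χ at x * y is not in the local ideal at M. -/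
theorem result {G : Type*} [Group G] [Finite G] (p : ℕ) [Fact p.Prime] (M : Ideal Cfsg.AlgInt) (hM : Cfsg.IsPModular p M) (B : Set (Cfsg.IrrCharacter G)) (hB : Cfsg.IsPBlock M B) (y : G) (hy : Cfsg.IsDefectClass M B y) (P : Sylow p (Subgroup.centralizer ({y} : Set G))) (x : Subgroup.centralizer ({y} : Set G)) (hx : x ∈ (P : Subgroup (Subgroup.centralizer ({y} : Set G)))) : (∀ χ ∈ B, Cfsg.blockHeight p B (χ : G → ℂ) = 0 → ¬ Cfsg.MemLocalIdeal M ((χ : G → ℂ) ((x : G) * y))) ∧ ((∀ w ∈ (P : Subgroup (Subgroup.centralizer ({y} : Set G))), x * w = w * x) → ∀ χ ∈ B, ¬ Cfsg.MemLocalIdeal M (Cfsg.centralChar (χ : G → ℂ) ((x : G) * y))) := by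
  classical
  have hp : p.Prime := hM.1
  have hMp : M.IsPrime := hM.2.1.isPrime
  have hxy : (x : G) * y = y * (x : G) := ((Subgroup.mem_centralizer_iff.1 x.2) y rfl).symm
  obtain ⟨k, hk⟩ := (IsPGroup.iff_orderOf.1 P.isPGroup') ⟨x, hx⟩
  have hk' : orderOf (x : G) = p ^ k := by
    rw [← hk, Subgroup.orderOf_mk, Subgroup.orderOf_coe]
  -- part (a)
  have hA : ∀ χ ∈ B, Cfsg.blockHeight p B (χ : G → ℂ) = 0 →
      ¬ Cfsg.MemLocalIdeal M ((χ : G → ℂ) ((x : G) * y)) := by
    intro χ hχ h0 hcon
    have hχc := IsIrrCharacter.isCharacter χ.2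
    have h1 := char_mul_sub_memLocalIdeal hM hχc (x : G) y hxy k hk'
    have h2 := memLocalIdeal_sub hMp hcon h1
    rw [sub_sub_cancel] at h2
    exact not_memLocalIdeal_apply_of_height_zero hM hB hy hχ h0 h2
  refine ⟨hA, ?_⟩
  intro hcent χ hχ hcon
  obtain ⟨χ₁, hχ₁, h01⟩ := exists_height_zero (p := p) hMp hB
  have hsame := IsPBlock.sameBlock hMp hB hχ hχ₁ ((x : G) * y)
  have h1 : MemLocalIdeal M (centralChar (χ₁ : G → ℂ) ((x : G) * y)) := by
    have := memLocalIdeal_sub hMp hcon hsame
    rwa [sub_sub_cancel] at this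
  apply hA χ₁ hχ₁ h01
  have hχc := IsIrrCharacter.isCharacter χ₁.2
  have hdpos := IsIrrCharacter.charDegree_pos χ₁.2
  have hd0 : (charDegree (χ₁ : G → ℂ) : ℂ) ≠ 0 := Nat.cast_ne_zero.2 hdpos.ne'
  have hidx0 : (Subgroup.centralizer ({(x : G) * y} : Set G)).index ≠ 0 :=
    Subgroup.index_ne_zero_of_finite
  have hidx0' : ((Subgroup.centralizer ({(x : G) * y} : Set G)).index : ℂ) ≠ 0 :=
    Nat.cast_ne_zero.2 hidx0
  have hrew : (χ₁ : G → ℂ) ((x : G) * y) =
      ((charDegree (χ₁ : G → ℂ) : ℂ) /
        ((Subgroup.centralizer ({(x : G) * y} : Set G)).index : ℂ)) *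
        centralChar (χ₁ : G → ℂ) ((x : G) * y) := by
    rw [centralChar, IsCharacter.charDegree_cast hχc]
    have := IsIrrCharacter.apply_one_ne_zero χ₁.2
    field_simp
  rw [hrew]
  refine memLocalIdeal_mul_left hMp (memLocalRing_div_of_factorization_le hM _ _ hidx0 ?_) h1
  rw [factorization_charDegree_of_height_zero hM hB hy hχ₁ h01]
  -- compare the two centralizers
  have hle : (P : Subgroup (Subgroup.centralizer ({y} : Set G))).map
      (Subgroup.centralizer ({y} : Set G)).subtype ≤
      Subgroup.centralizer ({(x : G) * y} : Set G) := by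
    rintro _ ⟨w, hw, rfl⟩
    rw [Subgroup.mem_centralizer_iff]
    intro h hh
    rw [Set.mem_singleton_iff] at hh
    subst hh
    have h1 : y * (w : G) = (w : G) * y := (Subgroup.mem_centralizer_iff.1 w.2) y rfl
    have h2 : (x : G) * (w : G) = (w : G) * (x : G) := by
      have := congrArg (fun t : Subgroup.centralizer ({y} : Set G) => (t : G)) (hcent w hw)
      simpa using this
    change (x : G) * y * (w : G) = (w : G) * ((x : G) * y)
    rw [mul_assoc, h1, ← mul_assoc, h2, mul_assoc]
  have hdvd := Subgroup.card_dvd_of_le hle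
  rw [Subgroup.card_map_of_injective (Subgroup.subtype_injective _), P.card_eq_multiplicity] at hdvd
  have h3 := (Nat.Prime.pow_dvd_iff_le_factorization hp Nat.card_pos.ne').1 hdvd
  have h4 := factorization_card_eq_add (p := p) ((x : G) * y)
  have h5 := factorization_card_eq_add (p := p) y
  omega

end Cfsg.Agent.S0927
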