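import Mathlib
import Cfsg.Statements.S3378
import Cfsg.Agent.Lib.Helper62.Small120
import Cfsg.Agent.Lib.Helper62.SL25Pres
import Cfsg.Agent.S3377

set_option autoImplicit false
open Cfsg

namespace Cfsg.Agent.S3378

universe u

open Subgroup Cfsg.Agent.Lib.Helper62 Cfsg.Agent.Lib.Helper62.Small120

/-- the generators of `A₅` given by its presentation, transported to a group isomorphic to `A₅` -/
theorem exists_A5_gens {Q : Type u} [Group Q] (e : Q ≃* alternatingGroup (Fin 5)) :
    ∃ a b : Q, a ^ 3 = 1 ∧ b ^ 5 = 1 ∧ (a * b) ^ 2 = 1 ∧ Subgroup.closure ({a, b} : Set Q) = ⊤ ∧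
      ∃ f : Cfsg.Agent.S3377.P ≃* Q, f (PresentedGroup.of 0) = a ∧ f (PresentedGroup.of 1) = b := by
  obtain ⟨g⟩ := Cfsg.Agent.S3377.result
  let f : Cfsg.Agent.S3377.P ≃* Q := g.trans e.symm
  refine ⟨f (PresentedGroup.of 0), f (PresentedGroup.of 1), ?_, ?_, ?_, ?_, f, rfl, rfl⟩
  · rw [← map_pow, Cfsg.Agent.S3377.rel0, map_one]
  · rw [← map_pow, Cfsg.Agent.S3377.rel1, map_one]
  · rw [← map_mul, ← map_pow, Cfsg.Agent.S3377.rel2, map_one]
  · have h := PresentedGroup.closure_range_of Cfsg.Agent.S3377.rels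
    have h2 : (Subgroup.closure (Set.range (PresentedGroup.of (rels := Cfsg.Agent.S3377.rels)))).map
        f.toMonoidHom = ⊤ := by
      rw [h, ← MonoidHom.range_eq_map, MonoidHom.range_eq_top]
      exact f.surjective
    rw [MonoidHom.map_closure] at h2
    rw [← h2]
    congr 1
    ext x
    simp only [Set.mem_insert_iff, Set.mem_singleton_iff, Set.mem_image, Set.mem_range]
    constructor
    · rintro (rfl | rfl)
      · exact ⟨_, ⟨0, rfl⟩, rfl⟩
      · exact ⟨_, ⟨1, rfl⟩, rfl⟩
    · rintro ⟨_, ⟨i, rfl⟩, rfl⟩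
      fin_cases i
      · left; rfl
      · right; rfl

set_option maxHeartbeats 1000000 in
/-- the central extension case -/
theorem central_case {G : Type u} [Group G] [Finite G] (hG : Nat.card G = 120)
    (hQ : ∀ P : Sylow 2 G, Nonempty ((P : Subgroup G) ≃* QuaternionGroup 2))
    (N : Subgroup G) [hNn : N.Normal] (hN : Nat.card N = 2)
    (e : G ⧸ N ≃* alternatingGroup (Fin 5)) :
    Nonempty (G ≃* SL25Pres.P) := by
  classical
  -- the central involution
  have : Nontrivial N := by
    rw [← Finite.one_lt_card_iff_nontrivial, hN]; norm_num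
  obtain ⟨z', hz'⟩ := exists_ne (1 : N)
  obtain ⟨z, hzN⟩ := z'
  have hz1 : z ≠ 1 := fun h => hz' (Subtype.ext h)
  have hNel : ∀ u ∈ N, u = 1 ∨ u = z := by
    intro u hu
    by_contra hcon
    push Not at hcon
    obtain ⟨y, hy, hy2⟩ := (Nat.card_eq_two_iff' (1 : N)).mp hN
    have e1 := hy2 ⟨u, hu⟩ (fun h => hcon.1 (congrArg Subtype.val h))
    have e2 := hy2 ⟨z, hzN⟩ (fun h => hz1 (congrArg Subtype.val h))
    exact hcon.2 (congrArg Subtype.val (e1.trans e2.symm))
  have hzz : z * z = 1 := by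
    have := pow_card_eq_one' (G := N) (x := ⟨z, hzN⟩)
    rw [hN] at this
    have := congrArg Subtype.val this
    simpa [pow_two] using this
  have hz2 : z ^ 2 = 1 := by rw [pow_two]; exact hzz
  have hzc : ∀ g : G, z * g = g * z := by
    intro g
    have h1 : g * z * g⁻¹ ∈ N := hNn.conj_mem z hzN g
    rcases hNel _ h1 with h | h
    · exfalso
      apply hz1
      have : z = g⁻¹ * (g * z * g⁻¹) * g := by group
      rw [this, h]; group
    · calc z * g = g * z * g⁻¹ * g := by rw [h]
        _ = g * z := by group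
  -- the generators of the quotient
  obtain ⟨a₀, b₀, ha₀, hb₀, hab₀, hgen₀, f, hf0, hf1⟩ := exists_A5_gens e
  obtain ⟨a₁, ha₁⟩ := QuotientGroup.mk_surjective a₀
  obtain ⟨b₁, hb₁⟩ := QuotientGroup.mk_surjective b₀
  have hmkz : ((z : G) : G ⧸ N) = 1 := (QuotientGroup.eq_one_iff z).mpr hzN
  -- adjust a₁
  have hex_a : ∃ a : G, (a : G ⧸ N) = a₀ ∧ a ^ 3 = 1 := by
    have h3 : a₁ ^ 3 ∈ N := by
      rw [← QuotientGroup.eq_one_iff, QuotientGroup.mk_pow, ha₁, ha₀]
    rcases hNel _ h3 with h | h
    · exact ⟨a₁, ha₁, h⟩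
    · refine ⟨a₁ * z, by rw [QuotientGroup.mk_mul, hmkz, mul_one, ha₁], ?_⟩
      have hc : Commute a₁ z := (hzc a₁).symm
      rw [hc.mul_pow, h, pow_succ, hz2, one_mul, hzz]
  have hex_b : ∃ b : G, (b : G ⧸ N) = b₀ ∧ b ^ 5 = 1 := by
    have h5 : b₁ ^ 5 ∈ N := by
      rw [← QuotientGroup.eq_one_iff, QuotientGroup.mk_pow, hb₁, hb₀]
    rcases hNel _ h5 with h | h
    · exact ⟨b₁, hb₁, h⟩
    · refine ⟨b₁ * z, by rw [QuotientGroup.mk_mul, hmkz, mul_one, hb₁], ?_⟩
      have hc : Commute b₁ z := (hzc b₁).symm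
      have hz5 : z ^ 5 = z := by
        rw [show 5 = 2 * 2 + 1 by norm_num, pow_succ, pow_mul, hz2, one_pow, one_mul]
      rw [hc.mul_pow, h, hz5, hzz]
  obtain ⟨a, haq, ha3⟩ := hex_a
  obtain ⟨b, hbq, hb5⟩ := hex_b
  have hab2 : (a * b) ^ 2 ∈ N := by
    rw [← QuotientGroup.eq_one_iff, QuotientGroup.mk_pow, QuotientGroup.mk_mul, haq, hbq, hab₀]
  rcases hNel _ hab2 with h | h
  · -- split case: contradiction
    exfalso
    have hrels : ∀ r ∈ Cfsg.Agent.S3377.rels, FreeGroup.lift ![a, b] r = 1 := by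
      intro r hr
      simp only [Cfsg.Agent.S3377.rels, Set.mem_insert_iff, Set.mem_singleton_iff] at hr
      rcases hr with rfl | rfl | rfl
      · simpa using ha3
      · simpa using hb5
      · simpa using h
    let ψ : Cfsg.Agent.S3377.P →* G := PresentedGroup.toGroup hrels
    have hψ0 : ψ (PresentedGroup.of 0) = a := by simp [ψ]
    have hψ1 : ψ (PresentedGroup.of 1) = b := by simp [ψ]
    have hcomp : (QuotientGroup.mk' N).comp ψ = f.toMonoidHom := by
      apply PresentedGroup.ext
      intro i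
      fin_cases i
      · change ((ψ (PresentedGroup.of 0) : G) : G ⧸ N) = f (PresentedGroup.of 0)
        rw [hψ0, haq, hf0]
      · change ((ψ (PresentedGroup.of 1) : G) : G ⧸ N) = f (PresentedGroup.of 1)
        rw [hψ1, hbq, hf1]
    have hψinj : Function.Injective ψ := by
      intro p q hpq
      apply f.injective
      have h1 : ((QuotientGroup.mk' N).comp ψ) p = ((QuotientGroup.mk' N).comp ψ) q := by
        simp only [MonoidHom.comp_apply, hpq]
      rw [hcomp] at h1
      exact h1
    set K := ψ.range with hK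
    have eK : K ≃* alternatingGroup (Fin 5) :=
      ((MonoidHom.ofInjective hψinj).symm.trans f).trans e
    have hKcard : Nat.card K = 60 := by
      rw [Nat.card_congr eK.toEquiv, Cfsg.Agent.S3377.card_A5]
    have hKidx : K.index = 2 := by
      have := K.card_mul_index
      rw [hKcard, hG] at this; omega
    have : Fact (Nat.Prime 2) := ⟨Nat.prime_two⟩
    obtain ⟨S⟩ : Nonempty (Sylow 2 G) := inferInstance
    obtain ⟨fS⟩ := hQ S
    exact false_of_A5_index_two K hKidx eK (S : Subgroup G) fS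
  · -- the nonsplit case
    have hgen : Subgroup.closure ({a, b, z} : Set G) = ⊤ := by
      rw [eq_top_iff]
      intro g _
      set R := Subgroup.closure ({a, b, z} : Set G) with hR
      have haR : a ∈ R := Subgroup.subset_closure (by simp)
      have hbR : b ∈ R := Subgroup.subset_closure (by simp)
      have hzR : z ∈ R := Subgroup.subset_closure (by simp)
      have hmap : (Subgroup.closure ({a, b} : Set G)).map (QuotientGroup.mk' N) = ⊤ := by
        rw [MonoidHom.map_closure, ← hgen₀]
        congr 1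
        simp only [Set.image_insert_eq, Set.image_singleton, QuotientGroup.mk'_apply, haq, hbq]
      have hg : (QuotientGroup.mk' N) g ∈ (Subgroup.closure ({a, b} : Set G)).map (QuotientGroup.mk' N) := by
        rw [hmap]; trivial
      obtain ⟨k, hk, hkg⟩ := Subgroup.mem_map.mp hg
      have hkR : k ∈ R := by
        have hle : Subgroup.closure ({a, b} : Set G) ≤ R := by
          rw [Subgroup.closure_le]
          intro x hx
          simp only [Set.mem_insert_iff, Set.mem_singleton_iff] at hx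
          rcases hx with rfl | rfl
          · exact haR
          · exact hbR
        exact hle hk
      have hkN : k⁻¹ * g ∈ N := by
        rw [← QuotientGroup.eq_one_iff, QuotientGroup.mk_mul, QuotientGroup.mk_inv]
        have : ((k : G) : G ⧸ N) = ((g : G) : G ⧸ N) := hkg
        rw [this, inv_mul_cancel]
      have hkgR : k⁻¹ * g ∈ R := by
        rcases hNel _ hkN with h1 | h1
        · rw [h1]; exact R.one_mem
        · rw [h1]; exact hzR
      have : g = k * (k⁻¹ * g) := by group
      rw [this]; exact R.mul_mem hkR hkgR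
    have hbij := SL25Pres.liftHom_bijective a b z ha3 hb5 hz2 (hzc a) (hzc b) h
      (by rw [hG]) hgen
    exact ⟨(MulEquiv.ofBijective _ hbij).symm⟩

set_option maxHeartbeats 1000000 in
theorem part1 (G : Type u) [Group G] [Finite G] (hG : Nat.card G = 120)
    (hns : ¬ Group.IsSolvable G)
    (hQ : ∀ P : Sylow 2 G, Nonempty ((P : Subgroup G) ≃* QuaternionGroup 2)) :
    Nonempty (G ≃* SL25Pres.P) := by
  classical
  have : Nontrivial G := by
    rw [← Finite.one_lt_card_iff_nontrivial, hG]; norm_num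
  obtain ⟨N, hNn, hNt, hsim⟩ := exists_maximal_normal (G := G)
  have hcard := N.card_mul_index
  rw [hG] at hcard
  have hidx : Nat.card (G ⧸ N) = N.index := rfl
  by_cases hc : IsCyclic (G ⧸ N)
  · exfalso
    have hQs : Group.IsSolvable (G ⧸ N) :=
      Group.isSolvable_of_comm (fun a b => (IsCyclic.commGroup (α := G ⧸ N)).mul_comm a b)
    have hNns : ¬ Group.IsSolvable N := fun h => hns (isSolvable_of_normal N h hQs)
    have hN60 : 60 ≤ Nat.card N := by
      by_contra hlt
      push Not at hlt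
      exact hNns (solvable_of_card_lt_sixty _ hlt N rfl)
    have hidx1 : N.index ≠ 1 := fun h => hNt (Subgroup.index_eq_one.mp h)
    have hidx0 : N.index ≠ 0 := Subgroup.index_ne_zero_of_finite
    have hidx2 : N.index = 2 := by
      by_contra h2
      have : 3 ≤ N.index := by omega
      have : 60 * 3 ≤ Nat.card N * N.index := Nat.mul_le_mul hN60 this
      omega
    have hNcard : Nat.card N = 60 := by rw [hidx2] at hcard; omega
    have hNsim : IsSimpleGroup N := isSimpleGroup_of_card_sixty hNcard hNns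
    obtain ⟨eN⟩ :=
      Cfsg.Agent.Lib.Helper07.nonempty_mulEquiv_alternatingGroup_five_of_card_eq_sixty hNcard
    have : Fact (Nat.Prime 2) := ⟨Nat.prime_two⟩
    obtain ⟨S⟩ : Nonempty (Sylow 2 G) := inferInstance
    obtain ⟨fS⟩ := hQ S
    exact false_of_A5_index_two N hidx2 eN (S : Subgroup G) fS
  · by_cases h100 : Nat.card (G ⧸ N) ≤ 100
    · have h60 : Nat.card (G ⧸ N) = 60 := Cfsg.Agent.S0493.result hc h100
      rw [hidx] at h60
      have hN2 : Nat.card N = 2 := by rw [h60] at hcard; omega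
      obtain ⟨e⟩ :=
        Cfsg.Agent.Lib.Helper07.nonempty_mulEquiv_alternatingGroup_five_of_card_eq_sixty
          (G := G ⧸ N) (by rw [hidx, h60])
      exact central_case hG hQ N hN2 e
    · exfalso
      push Not at h100
      rw [hidx] at h100
      have hdvd : N.index ∣ 120 := ⟨Nat.card N, by rw [← hcard, mul_comm]⟩
      have hle : N.index ≤ 120 := Nat.le_of_dvd (by norm_num) hdvd
      have h120 : N.index = 120 := by
        generalize N.index = k at *
        interval_cases k <;> simp_all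
      exact no_simple_120 (G := G ⧸ N) (by rw [hidx, h120])

theorem result :
    (∀ (G : Type*) [Group G] [Finite G], Nat.card G = 120 → ¬ Group.IsSolvable G →
      (∀ P : Sylow 2 G, Nonempty ((P : Subgroup G) ≃* QuaternionGroup 2)) →
      Nonempty (G ≃* Matrix.SpecialLinearGroup (Fin 2) (ZMod 5))) ∧
    Nonempty (PresentedGroup ({FreeGroup.of (0 : Fin 3) ^ 3, FreeGroup.of (1 : Fin 3) ^ 5, FreeGroup.of (2 : Fin 3) ^ 2,
        (FreeGroup.of (2 : Fin 3))⁻¹ * FreeGroup.of 0 * FreeGroup.of 2 * (FreeGroup.of (0 : Fin 3))⁻¹,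
        (FreeGroup.of (2 : Fin 3))⁻¹ * FreeGroup.of 1 * FreeGroup.of 2 * (FreeGroup.of (1 : Fin 3))⁻¹,
        (FreeGroup.of (0 : Fin 3) * FreeGroup.of 1) ^ 2 * (FreeGroup.of (2 : Fin 3))⁻¹} : Set (FreeGroup (Fin 3)))
      ≃* Matrix.SpecialLinearGroup (Fin 2) (ZMod 5)) := by
  refine ⟨?_, ⟨SL25Pres.equivSL⟩⟩
  intro G _ _ hG hns hQ
  obtain ⟨e⟩ := part1 G hG hns hQ
  exact ⟨e.trans SL25Pres.equivSL⟩

end Cfsg.Agent.S3378
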