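import Mathlib
import Cfsg.Statements.S3997

set_option autoImplicit false
open Cfsg

namespace Cfsg.Agent.S3997

/-- Two finite groups with the same order type admit an order-preserving bijection. -/
theorem exists_equiv {G H : Type*} [Group G] [Finite G] [Group H] [Finite H]
    (hT : ∀ m : ℕ, Nat.card {g : G // orderOf g = m} = Nat.card {h : H // orderOf h = m}) :
    ∃ e : G ≃ H, ∀ g, orderOf (e g) = orderOf g := by
  have hne : ∀ m : ℕ, Nonempty ({g : G // orderOf g = m} ≃ {h : H // orderOf h = m}) :=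
    fun m => Finite.card_eq.mp (hT m)
  let f : ∀ m : ℕ, {g : G // orderOf g = m} ≃ {h : H // orderOf h = m} := fun m => (hne m).some
  refine ⟨(Equiv.sigmaFiberEquiv (orderOf : G → ℕ)).symm.trans
    ((Equiv.sigmaCongrRight f).trans (Equiv.sigmaFiberEquiv (orderOf : H → ℕ))), ?_⟩
  intro g
  simp only [Equiv.trans_apply, Equiv.sigmaFiberEquiv, Equiv.coe_fn_symm_mk, Equiv.sigmaCongrRight_apply,
    Equiv.coe_fn_mk]
  exact (f (orderOf g) ⟨g, rfl⟩).2

/-- The set of `p`-elements. -/
def pElts (p : ℕ) (G : Type*) [Group G] : Set G := {g : G | ∃ k : ℕ, orderOf g = p ^ k}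

theorem sylow_subset_pElts {G : Type*} [Group G] [Finite G] (p : ℕ) [Fact p.Prime] (P : Sylow p G) :
    ((P : Subgroup G) : Set G) ⊆ pElts p G := by
  intro g hg
  obtain ⟨k, hk⟩ := (IsPGroup.iff_orderOf.mp P.isPGroup') ⟨g, hg⟩
  refine ⟨k, ?_⟩
  rw [← hk]
  exact (Subgroup.orderOf_mk g hg).symm

theorem pElts_subset_sylow_of_normal {G : Type*} [Group G] [Finite G] (p : ℕ) [Fact p.Prime]
    (P : Sylow p G) (hP : (P : Subgroup G).Normal) :
    pElts p G ⊆ ((P : Subgroup G) : Set G) := by
  intro g hg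
  obtain ⟨k, hk⟩ := hg
  have hz : IsPGroup p (Subgroup.zpowers g) := by
    apply IsPGroup.of_card (n := k)
    rw [Nat.card_zpowers, hk]
  obtain ⟨Q, hQ⟩ := hz.exists_le_sylow
  have : Q = P := by
    haveI := Sylow.unique_of_normal P hP
    exact Subsingleton.elim _ _
  rw [this] at hQ
  exact hQ (Subgroup.mem_zpowers g)

theorem result {G H : Type*} [Group G] [Finite G] [Group H] [Finite H] (hT : (∀ m : ℕ, Nat.card {g : G // orderOf g = m} = Nat.card {h : H // orderOf h = m})) (hG : Group.IsNilpotent G) :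
    Group.IsNilpotent H := by
  obtain ⟨e, he⟩ := exists_equiv hT
  have hcard : Nat.card G = Nat.card H := Nat.card_congr e
  have hsyl : ∀ (p : ℕ) (_ : Fact p.Prime) (P : Sylow p G), (P : Subgroup G).Normal :=
    (Group.isNilpotent_of_finite_tfae.out 0 3).mp hG
  apply (Group.isNilpotent_of_finite_tfae.out 0 3).mpr
  intro p hp Q
  -- number of p-elements agree
  have hpe : (pElts p G).ncard = (pElts p H).ncard := by
    have : pElts p H = e '' pElts p G := by
      ext h
      constructor
      · rintro ⟨k, hk⟩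
        refine ⟨e.symm h, ⟨k, ?_⟩, by simp⟩
        rw [← he, Equiv.apply_symm_apply, hk]
      · rintro ⟨g, ⟨k, hk⟩, rfl⟩
        exact ⟨k, by rw [he, hk]⟩
    rw [this, Set.ncard_image_of_injective _ e.injective]
  obtain ⟨P⟩ : Nonempty (Sylow p G) := inferInstance
  have hPn := hsyl p hp P
  have hPeq : ((P : Subgroup G) : Set G) = pElts p G :=
    Set.Subset.antisymm (sylow_subset_pElts p P) (pElts_subset_sylow_of_normal p P hPn)
  have hQcard : ∀ Q' : Sylow p H, ((Q' : Subgroup H) : Set H).ncard = (pElts p H).ncard := by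
    intro Q'
    rw [← hpe, ← hPeq]
    change Nat.card (Q' : Subgroup H) = Nat.card (P : Subgroup G)
    rw [Sylow.card_eq_multiplicity, Sylow.card_eq_multiplicity, hcard]
  have hQeq : ∀ Q' : Sylow p H, ((Q' : Subgroup H) : Set H) = pElts p H := by
    intro Q'
    exact Set.eq_of_subset_of_ncard_le (sylow_subset_pElts p Q') (hQcard Q').ge (Set.toFinite _)
  haveI : Subsingleton (Sylow p H) := by
    constructor
    intro Q1 Q2
    apply Sylow.ext
    apply SetLike.coe_injective
    rw [hQeq Q1, hQeq Q2]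
  exact Sylow.normal_of_subsingleton Q

end Cfsg.Agent.S3997
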