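import Cfsg.Statements.S1042
import Cfsg.Agent.S1041
import Cfsg.Agent.Lib.Helper24.FactsAll
import Cfsg.Agent.Lib.Helper24.CommAll
import Cfsg.Agent.Lib.Helper24.UpTab
import Cfsg.Agent.Lib.Helper24.RankTab
import Cfsg.Agent.Lib.Helper24.MonoTab
import Cfsg.Agent.Lib.Helper24.UFTab
import Cfsg.Agent.Lib.Helper24.RootTables
import Cfsg.Agent.Lib.Helper24.BNTab

set_option autoImplicit false
open Cfsg

namespace Cfsg.Agent.S1042

/-- The Chevalley group has a (B,N)-pair with `B = UH`, `N` the monomial subgroup and the `n_p`, `p` fundamental, as representatives of the distinguished involutions of `W = N/H`. -/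
theorem result {F : Type*} [Field F] (D : Cfsg.Lie.ChevalleyDatum) (hD : D ∈ [Cfsg.Lie.chevG2, Cfsg.Lie.chevB2, Cfsg.Lie.chevD4, Cfsg.Lie.chevF4, Cfsg.Lie.chevE6, Cfsg.Lie.chevE7, Cfsg.Lie.chevE8]) :
    ∃ P : Cfsg.BNPair ↥(D.group F),
      P.B = (D.borelSubgroup F).subgroupOf (D.group F) ∧ P.N = (D.monomialSubgroup F).subgroupOf (D.group F) ∧
      P.S = {n : ↥(D.group F) | ∃ i < D.rank, ((n : GL D.Idx F) : Matrix D.Idx D.Idx F) = D.nMat F (D.simple i) 1} := by
  obtain ⟨tab, orb, hN, hH, hL, hC⟩ := Cfsg.Agent.Lib.Helper24.cfacts_all D hD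
  obtain ⟨T, reps, hall, hreps⟩ := hC.pairs
  have hF := Cfsg.Agent.Lib.Helper24.facts_all D hD
  have hCh : Cfsg.Agent.Lib.Helper24.ChainOK D := ⟨Cfsg.Agent.Lib.Helper24.tableOK_all D hD, hC.chain⟩
  have hUp : ∀ i < D.rank,
      D.rootSubgroup F (D.simple i) ≤
        Subgroup.normalizer (Cfsg.Agent.Lib.Helper24.Up D F i : Set (GL D.Idx F)) ∧
      Cfsg.Agent.Lib.Helper24.Up D F i ⊔ D.rootSubgroup F (D.simple i) = D.posUnipotent F := by
    intro i hi
    have h := hF.Up_normal (F := F) hCh i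
      (fun r hr s hs hrs hneg => hF.QF_of_comm r s
        (fun t u => hF.comm_formula hN hH hCh hC.negRev T reps hall hreps r s hr hs hrs hneg t u))
      (Cfsg.Agent.Lib.Helper24.simpleCommOK_all D hD i hi)
    exact ⟨le_trans le_sup_left h.1, h.2⟩
  have hBN : D.borelSubgroup F ⊓ D.monomialSubgroup F = D.diagonalSubgroup F := by
    obtain ⟨tab', orb', hN', hH', hM⟩ := Cfsg.Agent.Lib.Helper24.mfacts_all D hD
    exact (hF.pos_inf_monomial hN' hH' hM (Cfsg.Agent.Lib.Helper24.ufacts_all D hD)).2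
  obtain ⟨w, hw⟩ := hL.w0
  exact hF.exists_bnPair hN hH (Cfsg.Agent.Lib.Helper24.rootTableOK_all D hD)
    (Cfsg.Agent.Lib.Helper24.negNeOK_all D hD) (Cfsg.Agent.Lib.Helper24.ufacts_all D hD).unit
    (Cfsg.Agent.Lib.Helper24.simpleReflNeOK_all D hD) (Cfsg.Agent.Lib.Helper24.reflPosOK_all D hD)
    hUp hBN (Cfsg.Agent.S1041.result D hD) (hF.longest hN hL.perm w hw)

end Cfsg.Agent.S1042
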