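import Cfsg.Statements.S1151
import Cfsg.Agent.Lib.Helper76.ReeOdd

set_option autoImplicit false
open Cfsg

namespace Cfsg.Agent.S1151

/-- In the small Ree group ²G₂(q), q = 3^(2m+1), realised as G¹ inside the Chevalley group G₂ over the field with q elements (θ the 3^m-th power map), with H¹ = G¹ ∩ H and U¹ = G¹ ∩ U the intersections with the ambient diagonal and positive unipotent subgroups: `H¹` has exactly `(q - 1)/2` elements of odd order, and each non-identity one centralises no non-identity element of `U¹`. -/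
theorem result {K : Type*} [Field K] [Fintype K] {m : ℕ} (hK : Fintype.card K = 3 ^ (2 * m + 1)) :
    2 * Nat.card {h : ↥(Cfsg.Lie.chevG2.diagonalSubgroup K ⊓ Cfsg.Lie.twistedG2 K (3 ^ m)) // Odd (orderOf h)} = 3 ^ (2 * m + 1) - 1 ∧
      ∀ h ∈ (Cfsg.Lie.chevG2.diagonalSubgroup K ⊓ Cfsg.Lie.twistedG2 K (3 ^ m)), h ≠ 1 → Odd (orderOf h) →
        (Cfsg.Lie.chevG2.posUnipotent K ⊓ Cfsg.Lie.twistedG2 K (3 ^ m)) ⊓ Subgroup.centralizer {h} = ⊥ := by
  obtain ⟨S⟩ := Cfsg.Agent.Lib.Helper24.ree_exists_sigma hK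
  have hE := Cfsg.Agent.Lib.Helper24.reeExp_of_card hK
  have := Cfsg.Agent.Lib.Helper24.ree_charP hK
  -- `3 ^ (2m+1) - 1 = 2k` with `k` odd
  have h4 : 3 ^ (2 * m + 1) % 4 = 3 := by
    rw [pow_succ, pow_mul, Nat.mul_mod, Nat.pow_mod]
    norm_num
  obtain ⟨k, hk, hq⟩ : ∃ k, Odd k ∧ Fintype.card K - 1 = 2 * k := by
    refine ⟨(3 ^ (2 * m + 1) - 1) / 2, ?_, ?_⟩
    · rw [Nat.odd_iff]; omega
    · rw [hK]; omega
  have key := Cfsg.Agent.Lib.Helper76.Ree.odd_torus S hE k hk hq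
  rw [hK] at key
  exact key

end Cfsg.Agent.S1151
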