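import Cfsg.Statements.S0292
import Cfsg.Agent.S0286
import Cfsg.Agent.Lib.Helper50.OmegaCenter
import Cfsg.Agent.Lib.Helper50.StdForms
import Cfsg.Agent.Lib.Helper50.IsometryClass

set_option autoImplicit false
open Cfsg

namespace Cfsg.Agent.S0292

/-- 2 |PΩ_{2m+1}(q)| = q^(m^2) prod_{i=1}^{m} (q^(2i) - 1), for q odd and m at least 3 (type B_m). -/
theorem result {F : Type*} [Field F] [Fintype F] {q : ℕ} (hF : Fintype.card F = q) (hodd : Odd q) (m : ℕ) (hm : 3 ≤ m) : 2 * Nat.card (Cfsg.POmega F (Cfsg.quadFormOdd m F)) = q ^ (m ^ 2) * ∏ i ∈ Finset.range m, (q ^ (2 * (i + 1)) - 1) := by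
  have h2 : (2 : F) ≠ 0 := Cfsg.Agent.Lib.Helper50.two_ne_zero_of_odd_card hF hodd
  have hdet : (Matrix.fromBlocks ((2 * (1 : F)) • (1 : Matrix Unit Unit F))
        (0 : Matrix Unit (Fin m ⊕ Fin m) F) (0 : Matrix (Fin m ⊕ Fin m) Unit F)
        (Matrix.fromBlocks (0 : Matrix (Fin m) (Fin m) F) (1 : Matrix (Fin m) (Fin m) F)
        (1 : Matrix (Fin m) (Fin m) F) (0 : Matrix (Fin m) (Fin m) F))).det ≠ 0 := by
    rw [Cfsg.Agent.Lib.Helper50.det_odd_gram]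
    exact mul_ne_zero (mul_ne_zero h2 one_ne_zero) (pow_ne_zero _ (neg_ne_zero.mpr one_ne_zero))
  set Q : QuadraticForm F (Unit ⊕ (Fin m ⊕ Fin m) → F) := Cfsg.Agent.Lib.Helper50.QOdd m F with hQdef
  have hQcoe : (⇑Q : (Unit ⊕ (Fin m ⊕ Fin m) → F) → F) = Cfsg.quadFormOdd m F := rfl
  have hQ : (QuadraticMap.polarBilin Q).Nondegenerate :=
    Cfsg.Agent.Lib.Helper50.qfOfPolar_nondegenerate _ _ _ _ hdet
  have hcard : Fintype.card (Unit ⊕ (Fin m ⊕ Fin m)) = 2 * m + 1 := by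
    simp; ring
  have hidx := Cfsg.Agent.Lib.Helper50.index_commutator h2 Q hQ (by rw [hcard]; omega)
  have hO := Cfsg.Agent.S0286.result hF hodd m
  rw [← hQcoe] at hO ⊢
  have hmul := Subgroup.card_mul_index (commutator ↥(Cfsg.isometryGroup F (⇑Q)))
  rw [hidx, hO] at hmul
  -- the centre is trivial
  have hcen : Subgroup.center ↥(Cfsg.Omega F (⇑Q)) = ⊥ := by
    rw [Subgroup.eq_bot_iff_forall]
    intro z hz
    rw [Subgroup.mem_center_iff] at hz
    apply Subtype.ext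
    apply Cfsg.Agent.Lib.Helper50.center_trivial_odd h2 Q hQ (by rw [hcard]; exact ⟨m, rfl⟩)
      (by rw [hcard]; omega) (z : ↥(Cfsg.isometryGroup F (⇑Q))) z.2
    intro g hg
    have := hz ⟨g, hg⟩
    have h3 := congrArg Subtype.val this
    exact h3.symm
  have hquot : Nat.card (Cfsg.POmega F (⇑Q)) = Nat.card ↥(Cfsg.Omega F (⇑Q)) := by
    unfold Cfsg.POmega
    rw [hcen]
    exact Nat.card_congr (QuotientGroup.quotientBot (G := ↥(Cfsg.Omega F (⇑Q)))).toEquiv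
  rw [hquot]
  change 2 * Nat.card ↥(commutator ↥(Cfsg.isometryGroup F (⇑Q))) = _
  have : 4 * Nat.card ↥(commutator ↥(Cfsg.isometryGroup F (⇑Q))) =
      2 * (q ^ (m ^ 2) * ∏ i ∈ Finset.range m, (q ^ (2 * (i + 1)) - 1)) := by
    rw [mul_comm 4, hmul]; ring
  omega

end Cfsg.Agent.S0292
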