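import Cfsg.Statements.S1226
import Mathlib

set_option autoImplicit false
open Cfsg

namespace Cfsg.Agent.S1226

/-- A `2`-element normalizing a Sylow `2`-subgroup lies in it. -/
theorem mem_sylow_of_mem_normalizer {G : Type*} [Group G] [Finite G] {p : ℕ} [Fact p.Prime]
    (T : Sylow p G) (t : G) (ht : t ∈ Subgroup.normalizer ((T : Subgroup G) : Set G))
    (htp : IsPGroup p (Subgroup.zpowers t)) : t ∈ (T : Subgroup G) := by
  have h1 : IsPGroup p ↥(Subgroup.zpowers t ⊔ (T : Subgroup G)) :=
    IsPGroup.to_sup_of_normal_right' htp T.isPGroup' (by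
      rw [Subgroup.zpowers_le]; exact ht)
  have h2 := T.is_maximal' h1 le_sup_right
  have : t ∈ Subgroup.zpowers t ⊔ (T : Subgroup G) :=
    Subgroup.mem_sup_left (Subgroup.mem_zpowers t)
  rw [h2] at this
  exact this

theorem isPGroup_zpowers_of_orderOf {G : Type*} [Group G] {p : ℕ} [Fact p.Prime] (t : G)
    (ht : orderOf t = p) : IsPGroup p (Subgroup.zpowers t) := by
  apply IsPGroup.of_card (n := 1)
  rw [Nat.card_zpowers, ht, pow_one]

/-- Let G be a finite group with a Sylow 2-subgroup T that is neither cyclic nor normal, such that the centralizer of every involution is an elementary abelian 2-group. Then N_G(T) is a strongly embedded subgroup of G. -/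
theorem result {G : Type*} [Group G] [Finite G] (T : Sylow 2 G) (hnc : ¬ IsCyclic (T : Subgroup G)) (hnn : ¬ (T : Subgroup G).Normal) (hC : ∀ t : G, orderOf t = 2 → IsMulCommutative (Subgroup.centralizer ({t} : Set G)) ∧ ∀ c ∈ Subgroup.centralizer ({t} : Set G), c ^ 2 = 1) : Cfsg.IsStronglyEmbedded (Subgroup.normalizer ((T : Subgroup G) : Set G)) := by
  -- centralizers of involutions are 2-groups
  have hCp : ∀ t : G, orderOf t = 2 → IsPGroup 2 (Subgroup.centralizer ({t} : Set G)) := by
    intro t ht x
    refine ⟨1, ?_⟩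
    apply Subtype.ext
    have := (hC t ht).2 x x.2
    simpa using this
  -- T is nontrivial
  have hTne : (T : Subgroup G) ≠ ⊥ := by
    intro h
    apply hnn
    rw [h]; infer_instance
  have hTnt : Nontrivial (T : Subgroup G) := (Subgroup.nontrivial_iff_ne_bot _).2 hTne
  -- a central involution of T
  have hcen : ⊥ < Subgroup.center (T : Subgroup G) := IsPGroup.bot_lt_center T.isPGroup'
  have hcard2 : 2 ∣ Nat.card (Subgroup.center (T : Subgroup G)) := by
    have hpc : IsPGroup 2 (Subgroup.center (T : Subgroup G)) :=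
      T.isPGroup'.to_subgroup _
    obtain ⟨n, hn⟩ := IsPGroup.iff_card.1 hpc
    have hn0 : n ≠ 0 := by
      rintro rfl
      rw [pow_zero, Subgroup.card_eq_one] at hn
      exact hcen.ne' hn
    rw [hn]
    exact dvd_pow_self 2 hn0
  obtain ⟨z, hz⟩ := exists_prime_orderOf_dvd_card' 2 hcard2
  -- z as an element of G
  set z' : G := ((z : (T : Subgroup G)) : G) with hz'
  have hz'ord : orderOf z' = 2 := by
    rw [hz', Subgroup.orderOf_coe, Subgroup.orderOf_coe]; exact hz
  have hTz : (T : Subgroup G) ≤ Subgroup.centralizer ({z'} : Set G) := by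
    intro x hx
    rw [Subgroup.mem_centralizer_iff]
    intro y hy
    rw [Set.mem_singleton_iff] at hy
    subst hy
    have := Subgroup.mem_center_iff.1 z.2 ⟨x, hx⟩
    have h2 := congrArg Subtype.val this
    simpa [hz'] using h2.symm
  have hTeq : Subgroup.centralizer ({z'} : Set G) = (T : Subgroup G) :=
    T.is_maximal' (hCp z' hz'ord) hTz
  -- T is commutative of exponent 2
  have hTcomm : ∀ x ∈ (T : Subgroup G), ∀ y ∈ (T : Subgroup G), x * y = y * x := by
    intro x hx y hy
    rw [← hTeq] at hx hy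
    have := (hC z' hz'ord).1.is_comm.comm ⟨x, hx⟩ ⟨y, hy⟩
    exact congrArg Subtype.val this
  -- centralizer of every involution of T is T
  have hCT : ∀ t ∈ (T : Subgroup G), orderOf t = 2 →
      Subgroup.centralizer ({t} : Set G) = (T : Subgroup G) := by
    intro t htT ht
    apply T.is_maximal' (hCp t ht)
    intro x hx
    rw [Subgroup.mem_centralizer_iff]
    intro y hy
    rw [Set.mem_singleton_iff] at hy
    subst hy
    exact hTcomm y htT x hx
  refine ⟨?_, ?_, ?_⟩
  · intro h
    apply hnn
    exact Subgroup.normalizer_eq_top_iff.1 h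
  · have h1 : Nat.card (T : Subgroup G) ∣
        Nat.card (Subgroup.normalizer ((T : Subgroup G) : Set G)) :=
      Subgroup.card_dvd_of_le Subgroup.le_normalizer
    have h2 : 2 ∣ Nat.card (T : Subgroup G) := by
      have : orderOf z' ∣ Nat.card (T : Subgroup G) := by
        rw [hz', Subgroup.orderOf_coe]
        exact orderOf_dvd_natCard _
      rwa [hz'ord] at this
    exact even_iff_two_dvd.2 (h2.trans h1)
  · intro g hg
    rw [← Nat.not_even_iff_odd]
    intro heven
    have h2 : 2 ∣ Nat.card ↥(Subgroup.normalizer ((T : Subgroup G) : Set G) ⊓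
        (Subgroup.normalizer ((T : Subgroup G) : Set G)).map (MulAut.conj g).toMonoidHom) :=
      even_iff_two_dvd.1 heven
    obtain ⟨t, ht⟩ := exists_prime_orderOf_dvd_card' 2 h2
    have htord : orderOf (t : G) = 2 := by rw [Subgroup.orderOf_coe]; exact ht
    obtain ⟨ht1, ht2⟩ := Subgroup.mem_inf.1 t.2
    obtain ⟨s, hs, hst⟩ := ht2
    have hst' : g * s * g⁻¹ = (t : G) := by simpa using hst
    have hsord : orderOf s = 2 := by
      have h3 := MulEquiv.orderOf_eq (MulAut.conj g) s
      rw [MulAut.conj_apply, hst', htord] at h3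
      exact h3.symm
    have htT : (t : G) ∈ (T : Subgroup G) :=
      mem_sylow_of_mem_normalizer T _ ht1 (isPGroup_zpowers_of_orderOf _ htord)
    have hsT : s ∈ (T : Subgroup G) :=
      mem_sylow_of_mem_normalizer T _ hs (isPGroup_zpowers_of_orderOf _ hsord)
    have hCt := hCT _ htT htord
    have hCs := hCT _ hsT hsord
    apply hg
    rw [Subgroup.mem_normalizer_iff]
    intro x
    have e1 : x ∈ (T : Subgroup G) ↔ x ∈ Subgroup.centralizer ({s} : Set G) := by rw [hCs]
    have e2 : g * x * g⁻¹ ∈ (T : Subgroup G) ↔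
        g * x * g⁻¹ ∈ Subgroup.centralizer ({(t : G)} : Set G) := by rw [hCt]
    rw [e1, e2, Subgroup.mem_centralizer_iff, Subgroup.mem_centralizer_iff]
    simp only [Set.mem_singleton_iff, forall_eq]
    rw [← hst']
    constructor
    · intro h
      calc g * s * g⁻¹ * (g * x * g⁻¹) = g * (s * x) * g⁻¹ := by group
        _ = g * (x * s) * g⁻¹ := by rw [h]
        _ = g * x * g⁻¹ * (g * s * g⁻¹) := by group
    · intro h
      have h' : g⁻¹ * (g * s * g⁻¹ * (g * x * g⁻¹)) * g = g⁻¹ * (g * x * g⁻¹ * (g * s * g⁻¹)) * g := by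
        rw [h]
      calc s * x = g⁻¹ * (g * s * g⁻¹ * (g * x * g⁻¹)) * g := by group
        _ = g⁻¹ * (g * x * g⁻¹ * (g * s * g⁻¹)) * g := h'
        _ = x * s := by group

end Cfsg.Agent.S1226
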