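import Cfsg.Statements.S1227
import Cfsg.Agent.Lib.Helper28.BSW
import Mathlib

set_option autoImplicit false
open Cfsg

namespace Cfsg.Agent.S1227

open Cfsg.Agent.Lib.Helper28 Cfsg.Agent.Lib.Helper41

/-- Let G be a finite group with a Sylow 2-subgroup T that is neither cyclic nor normal, such that the centralizer of every involution is an elementary abelian 2-group; put H = N_G(T), let u be an involution outside H and D = H ∩ uHu⁻¹. Then u inverts every element of D, |H| = |T|·(|T| − 1), and D is a complement to T in H. -/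
theorem result {G : Type*} [Group G] [Finite G] (T : Sylow 2 G) (hnc : ¬ IsCyclic (T : Subgroup G)) (hnn : ¬ (T : Subgroup G).Normal) (hC : ∀ t : G, orderOf t = 2 → IsMulCommutative (Subgroup.centralizer ({t} : Set G)) ∧ ∀ c ∈ Subgroup.centralizer ({t} : Set G), c ^ 2 = 1) (u : G) (hu : orderOf u = 2) (huH : u ∉ Subgroup.normalizer ((T : Subgroup G) : Set G)) : (∀ d ∈ Subgroup.normalizer ((T : Subgroup G) : Set G) ⊓ (Subgroup.normalizer ((T : Subgroup G) : Set G)).map (MulAut.conj u).toMonoidHom, u * d * u⁻¹ = d⁻¹) ∧ Nat.card (Subgroup.normalizer ((T : Subgroup G) : Set G)) = Nat.card T * (Nat.card T - 1) ∧ Subgroup.IsComplement' ((Subgroup.normalizer ((T : Subgroup G) : Set G) ⊓ (Subgroup.normalizer ((T : Subgroup G) : Set G)).map (MulAut.conj u).toMonoidHom).subgroupOf (Subgroup.normalizer ((T : Subgroup G) : Set G))) ((T : Subgroup G).subgroupOf (Subgroup.normalizer ((T : Subgroup G) : Set G))) := by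
  have hcompl : Subgroup.IsComplement' ((Subgroup.normalizer ((T : Subgroup G) : Set G) ⊓
      (Subgroup.normalizer ((T : Subgroup G) : Set G)).map (MulAut.conj u).toMonoidHom).subgroupOf
        (Subgroup.normalizer ((T : Subgroup G) : Set G)))
      ((T : Subgroup G).subgroupOf (Subgroup.normalizer ((T : Subgroup G) : Set G))) := by
    apply Subgroup.isComplement'_of_disjoint_and_mul_eq_univ
    · rw [Subgroup.disjoint_def]
      intro x hxD hxT
      rw [Subgroup.mem_subgroupOf] at hxD hxT
      apply Subtype.ext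
      exact bsw_D_inf_T T hnc hnn hC u huH hxD hxT
    · rw [Set.eq_univ_iff_forall]
      intro h
      obtain ⟨d, hd, x, hx, hdx⟩ := bsw_H_eq_DT T hnc hnn hC u hu huH h.2
      refine ⟨⟨d, (Subgroup.mem_inf.1 hd).1⟩, ?_, ⟨x, Subgroup.le_normalizer hx⟩, ?_, ?_⟩
      · show _ ∈ Subgroup.subgroupOf _ _
        rw [Subgroup.mem_subgroupOf]; exact hd
      · show _ ∈ Subgroup.subgroupOf _ _
        rw [Subgroup.mem_subgroupOf]; exact hx
      · apply Subtype.ext
        exact hdx
  refine ⟨fun d hd => bsw_D_inverted T hnc hnn hC u hu huH hd, ?_, hcompl⟩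
  have h1 := hcompl.card_mul_card
  rw [Nat.card_congr (Subgroup.subgroupOfEquivOfLe inf_le_left).toEquiv,
    Nat.card_congr (Subgroup.subgroupOfEquivOfLe Subgroup.le_normalizer).toEquiv,
    bsw_card_D T hnc hnn hC u hu huH] at h1
  rw [← h1, mul_comm]

end Cfsg.Agent.S1227
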