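import Cfsg.Statements.S1230
import Cfsg.Agent.Lib.Helper28.BSW3
import Cfsg.Agent.Lib.Helper28.Coord
import Cfsg.Agent.Lib.Helper28.Moebius
import Cfsg.Agent.Lib.Helper28.PGL2

set_option autoImplicit false
open Cfsg

namespace Cfsg.Agent.S1230

open Cfsg.Agent.Lib.Helper28 Cfsg.Agent.Lib.Helper41

open scoped MatrixGroups

/-- Let G be a finite group with a Sylow 2-subgroup T that is neither cyclic nor normal, such that the centralizer of every involution is an elementary abelian 2-group. Then G ≅ PSL(2,F) for a finite field F with |F| = |T|. -/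
theorem result {G : Type*} [Group G] [Finite G] (T : Sylow 2 G) (hnc : ¬ IsCyclic (T : Subgroup G)) (hnn : ¬ (T : Subgroup G).Normal) (hC : ∀ t : G, orderOf t = 2 → IsMulCommutative (Subgroup.centralizer ({t} : Set G)) ∧ ∀ c ∈ Subgroup.centralizer ({t} : Set G), c ^ 2 = 1) : ∃ (F : Type) (_ : Field F) (_ : Fintype F), Fintype.card F = Nat.card T ∧ Nonempty (G ≃* Matrix.ProjectiveSpecialLinearGroup (Fin 2) F) := by
  classical
  -- the setup
  obtain ⟨g, hg⟩ := bsw_exists_not_mem T hnn
  obtain ⟨u, hu, huH, _, _⟩ := bsw_exists_invol_coset T hnc hnn hC hg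
  set H : Subgroup G := Subgroup.normalizer ((T : Subgroup G) : Set G) with hHdef
  set D : Subgroup G := H ⊓ lc u H with hDdef
  have hse := bsw_se T hnc hnn hC
  have hTH : (T : Subgroup G) ≤ H := Subgroup.le_normalizer
  have hDH : D ≤ H := inf_le_left
  obtain ⟨e, he, heT, hCe⟩ := bsw_exists_central T hnn hC
  have he1 : e ≠ 1 := ne_one_of_orderOf_two he
  have huu : u * u = 1 := mul_self_of_orderOf_two hu
  have huinv : u⁻¹ = u := inv_eq_self_of_orderOf_two hu
  -- order of T
  obtain ⟨k, hk⟩ := IsPGroup.iff_card.1 T.isPGroup'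
  have hk' : Nat.card (T : Subgroup G) = 2 ^ k := hk
  have h4 := bsw_four_le_card T hnc hnn
  have hk0 : k ≠ 0 := by
    rintro rfl
    rw [hk', pow_zero] at h4
    omega
  -- facts for the coordinatization
  have hTcomm := bsw_comm T hnn hC
  have hDcomm := (bsw_Dg_facts T hnc hnn hC huH).2.2
  have hnorm : ∀ d ∈ D, ∀ t ∈ (T : Subgroup G), d * t * d⁻¹ ∈ (T : Subgroup G) := by
    intro d hd t ht
    exact (Subgroup.mem_normalizer_iff.1 (hDH hd) t).1 ht
  have hregE : ∀ a ∈ (T : Subgroup G), a ≠ 1 → ∃ d ∈ D, d * e * d⁻¹ = a := by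
    intro a ha ha1
    have haord := bsw_orderOf_eq_two T hnn hC ha ha1
    obtain ⟨d, hd, hda, _⟩ := se_exists_conj_in_D hse hu huH he (hTH heT) haord (hTH ha)
    exact ⟨d, hd, hda⟩
  have hreg : ∀ a ∈ (T : Subgroup G), a ≠ 1 → ∃! d : D, (d : G) * e * (d : G)⁻¹ = a := by
    intro a ha ha1
    obtain ⟨d, hd, hda⟩ := hregE a ha ha1
    refine ⟨⟨d, hd⟩, hda, ?_⟩
    rintro ⟨d', hd'⟩ hd'a
    apply Subtype.ext
    show d' = d
    have hd'a' : d' * e * d'⁻¹ = a := hd'a
    have hcent : d⁻¹ * d' ∈ Subgroup.centralizer ({e} : Set G) := by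
      rw [Subgroup.mem_centralizer_iff]
      intro y hy
      rw [Set.mem_singleton_iff] at hy
      subst hy
      have h1 : d' * y * d'⁻¹ = d * y * d⁻¹ := by rw [hd'a', hda]
      calc y * (d⁻¹ * d') = d⁻¹ * (d * y * d⁻¹) * d' := by group
        _ = d⁻¹ * (d' * y * d'⁻¹) * d' := by rw [h1]
        _ = d⁻¹ * d' * y := by group
    rw [hCe] at hcent
    have hmemD : d⁻¹ * d' ∈ D := D.mul_mem (D.inv_mem hd) hd'
    have := bsw_D_inf_T T hnc hnn hC u huH hmemD hcent
    calc d' = d * (d⁻¹ * d') := by group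
      _ = d := by rw [this, mul_one]
  obtain ⟨φ, hφ, hadd, hφe, hmul⟩ := exists_coord (T : Subgroup G) D hTcomm hDcomm hnorm e heT he1
    hreg k hk0 hk'
  -- the field
  let _ : Fintype (GaloisField 2 k) := Fintype.ofFinite _
  have hFcard : Fintype.card (GaloisField 2 k) = Nat.card (T : Subgroup G) := by
    rw [← Nat.card_eq_fintype_card, GaloisField.card 2 k hk0, hk']
  refine ⟨GaloisField 2 k, inferInstance, inferInstance, hFcard, ?_⟩
  -- the action on `G ⧸ H`
  set inf : G ⧸ H := QuotientGroup.mk 1 with hinf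
  set o : G ⧸ H := QuotientGroup.mk u with ho_def
  have hHinf : ∀ h ∈ H, h • inf = inf := by
    intro h hh
    rw [hinf, MulAction.Quotient.smul_mk, QuotientGroup.eq]
    simpa using H.inv_mem hh
  have hTinf : ∀ t ∈ (T : Subgroup G), t • inf = inf := fun t ht => hHinf t (hTH ht)
  have hDinf : ∀ d ∈ D, d • inf = inf := fun d hd => hHinf d (hDH hd)
  have hDo : ∀ d ∈ D, d • o = o := by
    intro d hd
    rw [ho_def, smul_mk_self_iff]
    exact mem_lc.1 (Subgroup.mem_inf.1 hd).2
  have huinf : u • inf = o := by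
    rw [hinf, ho_def, MulAction.Quotient.smul_mk, smul_eq_mul, mul_one]
  have huo : u • o = inf := by
    rw [hinf, ho_def, MulAction.Quotient.smul_mk, smul_eq_mul, huu]
  have hinv : ∀ d ∈ D, u * d * u⁻¹ = d⁻¹ := fun d hd => bsw_D_inverted T hnc hnn hC u hu huH hd
  have ho : o ≠ inf := by
    intro h
    rw [hinf, ho_def, QuotientGroup.eq] at h
    apply huH
    have := H.inv_mem h
    simpa using this
  have hTreg : ∀ x : G ⧸ H, x ≠ inf → ∃! t : (T : Subgroup G), (t : G) • o = x := by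
    intro x hx
    obtain ⟨t, ⟨htT, htx⟩, htuniq⟩ := bsw_T_regular T hnc hnn hC o x ho hx
    refine ⟨⟨t, htT⟩, htx, ?_⟩
    rintro ⟨t', ht'T⟩ ht'x
    apply Subtype.ext
    exact htuniq t' ⟨ht'T, ht'x⟩
  have hgen : Subgroup.closure (((T : Subgroup G) : Set G) ∪ D ∪ {u}) = ⊤ := by
    rw [Subgroup.eq_top_iff']
    intro g
    have hTle : ((T : Subgroup G) : Set G) ⊆ Subgroup.closure (((T : Subgroup G) : Set G) ∪ D ∪ {u}) :=
      fun x hx => Subgroup.subset_closure (Or.inl (Or.inl hx))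
    have hDle : (D : Set G) ⊆ Subgroup.closure (((T : Subgroup G) : Set G) ∪ D ∪ {u}) :=
      fun x hx => Subgroup.subset_closure (Or.inl (Or.inr hx))
    have hule : u ∈ Subgroup.closure (((T : Subgroup G) : Set G) ∪ D ∪ {u}) :=
      Subgroup.subset_closure (Or.inr rfl)
    have hHle : ∀ h ∈ H, h ∈ Subgroup.closure (((T : Subgroup G) : Set G) ∪ D ∪ {u}) := by
      intro h hh
      obtain ⟨d, hd, x, hx, rfl⟩ := bsw_H_eq_DT T hnc hnn hC u hu huH hh
      exact Subgroup.mul_mem _ (hDle hd) (hTle hx)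
    by_cases hgH : g ∈ H
    · exact hHle g hgH
    · have hgx : (QuotientGroup.mk g : G ⧸ H) ≠ inf := by
        intro h
        rw [hinf, QuotientGroup.eq] at h
        apply hgH
        have := H.inv_mem h
        simpa using this
      obtain ⟨t, ht, _⟩ := hTreg _ hgx
      rw [ho_def, MulAction.Quotient.smul_mk, QuotientGroup.eq] at ht
      have : g = (t : G) * u * (((t : G) * u)⁻¹ * g) := by group
      rw [this]
      refine Subgroup.mul_mem _ (Subgroup.mul_mem _ (hTle t.2) hule) (hHle _ ?_)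
      simpa [smul_eq_mul] using ht
  have hfaith : ∀ g : G, (∀ x : G ⧸ H, g • x = x) → g = 1 := by
    intro g hgx
    have heo : e • o ≠ o := by
      intro h
      exact he1 (bsw_T_semiregular T hnc hnn hC heT ho h)
    have heinf : e • o ≠ inf := by
      intro h
      apply ho
      have h1 : o = e⁻¹ • inf := by rw [← h, inv_smul_smul]
      rw [h1, hTinf _ (Subgroup.inv_mem _ heT)]
    exact bsw_fix_three T hnc hnn hC ho.symm heinf.symm heo.symm (hgx _) (hgx _) (hgx _)
  have hq2 : 2 ≤ Fintype.card (GaloisField 2 k) := by rw [hFcard]; omega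
  have hcard : Nat.card (PGL(Fin 2, GaloisField 2 k)) ≤ Nat.card G := by
    rw [card_pgl_two hq2, hFcard, Subgroup.card_eq_card_quotient_mul_card_subgroup H,
      bsw_card_quotient T hnc hnn hC, bsw_card_H T hnc hnn hC]
  obtain ⟨E⟩ := nonempty_mulEquiv_pgl (X := G ⧸ H) (T : Subgroup G) D u inf o e heT he1 φ hφ hadd hφe
    hnorm hmul hregE hTinf hDinf hDo huinf huo hinv ho hTreg hgen hfaith hcard
  have hchar : ringChar (GaloisField 2 k) = 2 := ringChar.eq _ 2
  obtain ⟨E'⟩ := nonempty_psl_mulEquiv_pgl_of_char_two (F := GaloisField 2 k) hchar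
  exact ⟨E.trans E'.symm⟩

end Cfsg.Agent.S1230
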