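import Cfsg.Statements.S0801
import Cfsg.Agent.Lib.Helper19.GenSL2
import Cfsg.Agent.Lib.Helper19.GenF9

set_option autoImplicit false
open Cfsg

namespace Cfsg.Agent.S0801

/-- Let F be a finite field of odd characteristic and λ ≠ 0 an element generating F as a field. Then the lower and upper unitriangular matrices with off-diagonal entries 1 and λ generate SL_2(F), unless |F| = 9 and λ² = −1, in which case they generate a subgroup of order 120. -/
theorem result {F : Type*} [Field F] [Fintype F] (h2 : (2 : F) ≠ 0) (lam : F) (hlam : lam ≠ 0) (hgen : Subfield.closure ({lam} : Set F) = ⊤) : (Subgroup.closure {g : Matrix.SpecialLinearGroup (Fin 2) F | (g : Matrix (Fin 2) (Fin 2) F) = !![1, 0; 1, 1] ∨ (g : Matrix (Fin 2) (Fin 2) F) = !![1, lam; 0, 1]} = ⊤ ∧ ¬ (Fintype.card F = 9 ∧ lam ^ 2 = -1)) ∨ (Fintype.card F = 9 ∧ lam ^ 2 = -1 ∧ Nat.card ↥(Subgroup.closure {g : Matrix.SpecialLinearGroup (Fin 2) F | (g : Matrix (Fin 2) (Fin 2) F) = !![1, 0; 1, 1] ∨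 (g : Matrix (Fin 2) (Fin 2) F) = !![1, lam; 0, 1]}) = 120) := by
  classical
  obtain ⟨p, hp⟩ := CharP.exists F
  have : Fact p.Prime := ⟨CharP.char_is_prime F p⟩
  have hp2 : p ≠ 2 := by
    rintro rfl
    apply h2
    have := CharP.cast_eq_zero F 2
    exact_mod_cast this
  have hl0 : Cfsg.Agent.Lib.Helper19.TwoTrans.lmat (1 : F) ∈ Subgroup.closure
      {g : Matrix.SpecialLinearGroup (Fin 2) F | (g : Matrix (Fin 2) (Fin 2) F) = !![1, 0; 1, 1] ∨
        (g : Matrix (Fin 2) (Fin 2) F) = !![1, lam; 0, 1]} :=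
    Subgroup.subset_closure (Or.inl rfl)
  have hu0 : Cfsg.Agent.S0802.umat lam ∈ Subgroup.closure
      {g : Matrix.SpecialLinearGroup (Fin 2) F | (g : Matrix (Fin 2) (Fin 2) F) = !![1, 0; 1, 1] ∨
        (g : Matrix (Fin 2) (Fin 2) F) = !![1, lam; 0, 1]} :=
    Subgroup.subset_closure (Or.inr rfl)
  have hA := Cfsg.Agent.Lib.Helper19.GenSL2.main_A p hp2 lam hlam hgen _ hl0 hu0
  by_cases hex : Fintype.card F = 9 ∧ lam ^ 2 = -1
  · right
    have hne := Cfsg.Agent.Lib.Helper19.GenF9.closure_ne_top hex.1 lam hex.2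
    rcases hA with h | h
    · exact absurd h hne
    · exact h
  · left
    rcases hA with h | h
    · exact ⟨h, hex⟩
    · exact absurd ⟨h.1, h.2.1⟩ hex

end Cfsg.Agent.S0801
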