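import Cfsg.Statements.S5098
import Cfsg.Agent.Lib.Helper87.KNormalizer2

set_option autoImplicit false
open Cfsg

namespace Cfsg.Agent.S5098

open Cfsg.FusionSystem Cfsg.Agent.Lib.Helper87

theorem normalizerIn_eq_normK {Ω : Type*} [Group Ω] (S Q : Subgroup Ω) :
    normalizerIn S Q = normK S Q ⊤ := by
  ext g
  rw [mem_normK]
  constructor
  · rintro ⟨hgS, hgn⟩
    exact ⟨hgS, conjAut Q g hgn, trivial, fun x => rfl⟩
  · rintro ⟨hgS, κ, -, hκ⟩
    exact ⟨hgS, mem_normalizer_of_conj_eq hκ⟩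

theorem normalizerHom_eq_homK {Ω : Type*} [Group Ω] {S : Subgroup Ω} [Finite S]
    (F : FusionSystem S) (Q P : Subgroup Ω) :
    F.normalizerHom Q P = homK F Q ⊤ (normK S Q ⊤) P := by
  have hN := normalizerIn_eq_normK S Q
  ext φ
  constructor
  · rintro ⟨hφ, hPN, hφN, ψ, hψ, hψP, hψQ⟩
    refine ⟨hφ, hPN.trans hN.le, fun x => hN.le (hφN x), ψ, hψ, hψP, ?_⟩
    have hr : (ψ.comp (Subgroup.inclusion (le_sup_right : Q ≤ P ⊔ Q))).range = Q := by
      ext y
      constructor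
      · rintro ⟨x, rfl⟩
        exact hψQ.le ⟨Subgroup.inclusion le_sup_right x, Subgroup.mem_subgroupOf.mpr x.2, rfl⟩
      · intro hy
        obtain ⟨z, hz, rfl⟩ := hψQ.ge hy
        exact ⟨⟨z, Subgroup.mem_subgroupOf.mp hz⟩, rfl⟩
    have hinj : Function.Injective (ψ.comp (Subgroup.inclusion (le_sup_right : Q ≤ P ⊔ Q))) :=
      (F.injective_of_mem hψ).comp (Subgroup.inclusion_injective _)
    exact ⟨equivOfHom _ hinj hr, trivial, fun x => rfl⟩
  · rintro ⟨hφ, hPN, hφN, ψ, hψ, hψP, κ, -, hκ⟩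
    refine ⟨hφ, hPN.trans hN.ge, fun x => hN.ge (hφN x), ψ, hψ, hψP, ?_⟩
    ext y
    constructor
    · rintro ⟨z, hz, rfl⟩
      have hzQ : (z : Ω) ∈ Q := Subgroup.mem_subgroupOf.mp hz
      have : z = inR (⟨(z : Ω), hzQ⟩ : Q) := rfl
      rw [this]
      show ψ (inR _) ∈ Q
      rw [hκ]
      exact Subtype.prop _
    · intro hy
      refine ⟨inR (κ.symm ⟨y, hy⟩),
        Subgroup.mem_subgroupOf.mpr (κ.symm ⟨y, hy⟩).2, ?_⟩
      show ψ (inR _) = y
      rw [hκ]
      simp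

/-- If F is a saturated fusion system over a finite p-group S and Q is fully normalized in F, then the normalizer system N_F(Q) is a saturated fusion system over N_S(Q). -/
theorem result {Ω : Type*} [Group Ω] {S : Subgroup Ω} [Finite S] (p : ℕ) [Fact p.Prime] (hS : IsPGroup p S) (F : Cfsg.FusionSystem S) (hF : F.IsSaturated p) (Q : Subgroup Ω) (hQ : F.IsFullyNormalized Q) (E : Cfsg.FusionSystem (Cfsg.FusionSystem.normalizerIn S Q)) (hE : F.IsNormalizerSystem Q E) : E.IsSaturated p := by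
  obtain ⟨hfc, hfa⟩ := fullyNormalized_props p hS F hF Q hQ
  have hrec := isReceptive_of_isFullyCentralized p hS F hF Q hfc
  have hgood : IsGoodK F p Q ⊤ := by
    refine ⟨hrec, ?_⟩
    rw [inf_top_eq, inf_top_eq]
    exact hfa.2
  have hN := normalizerIn_eq_normK S Q
  rw [← castSys'_isSaturated hN E p]
  apply isSaturated_normK p hS F hF Q ⊤ hgood
  intro P
  rw [castSys'_hom, hE P, normalizerHom_eq_homK]

end Cfsg.Agent.S5098
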