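import Cfsg.Statements.S0557
import Cfsg.Agent.Lib.Helper13.HallTransfer

set_option autoImplicit false
open Cfsg

namespace Cfsg.Agent.S0557

open Cfsg.Agent.Lib.Helper13
open Pointwise
open scoped commutatorElement

universe u

lemma focal_mono {G : Type*} [Group G] {A B : Subgroup G} (h : A ≤ B) :
    A.focalSubgroup ≤ B.focalSubgroup := by
  rw [Subgroup.focalSubgroup_def, Subgroup.focalSubgroup_def]
  apply Subgroup.closure_mono
  rintro g ⟨hg, x, hx, u, rfl⟩
  exact ⟨h hg, x, h hx, u, rfl⟩

lemma focal_monotone {G : Type*} [Group G] :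
    Monotone (fun K : Subgroup G => Subgroup.focalSubgroup K) := fun _ _ h => focal_mono h

lemma focal_map_subtype_le {G : Type*} [Group G] (K : Subgroup G) (X : Subgroup K) :
    (X.focalSubgroup).map K.subtype ≤ (X.map K.subtype).focalSubgroup := by
  rw [Subgroup.focalSubgroup_def, MonoidHom.map_closure, Subgroup.focalSubgroup_def]
  apply Subgroup.closure_mono
  rintro _ ⟨g, ⟨hg, x, hx, u, rfl⟩, rfl⟩
  refine ⟨⟨_, hg, rfl⟩, (x : G), ⟨x, hx, rfl⟩, (u : G), ?_⟩
  simp [commutatorElement_def]

lemma iter_focal_map_subtype_le {G : Type*} [Group G] (K : Subgroup G) (m : ℕ) :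
    ∀ X : Subgroup K, (((fun Y : Subgroup K => Subgroup.focalSubgroup Y)^[m] X).map K.subtype)
      ≤ (fun Y : Subgroup G => Subgroup.focalSubgroup Y)^[m] (X.map K.subtype) := by
  induction m with
  | zero => intro X; exact le_rfl
  | succ m ih =>
    intro X
    rw [Function.iterate_succ_apply, Function.iterate_succ_apply]
    exact (ih _).trans (focal_monotone.iterate m (focal_map_subtype_le K X))

theorem aux (n : ℕ) : ∀ (G : Type u) [Group G] [Finite G] (H : Subgroup G),
    (Nat.card H).Coprime H.index →
    (fun K : Subgroup G => Subgroup.focalSubgroup K)^[n] H = ⊥ →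
    ∃ N : Subgroup G, N.Normal ∧ Subgroup.IsComplement' N H := by
  induction n with
  | zero =>
    intro G _ _ H _ hfoc
    rw [Function.iterate_zero, id_eq] at hfoc
    subst hfoc
    exact ⟨⊤, Subgroup.normal_top, Subgroup.isComplement'_top_bot⟩
  | succ n ih =>
    intro G _ _ H hHall hfoc
    rw [Function.iterate_succ_apply] at hfoc
    obtain ⟨hKH, hKsup⟩ := hall_transferFocal H hHall
    set K := H.transferFocal.ker with hK
    have hKn : K.Normal := MonoidHom.normal_ker _
    have hH1K : H.focalSubgroup ≤ K := hKH ▸ inf_le_left
    have hH1H : H.focalSubgroup ≤ H := H.focalSubgroup_le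
    have hcard1 : Nat.card (H.focalSubgroup.subgroupOf K) = Nat.card H.focalSubgroup :=
      Nat.card_congr (Subgroup.subgroupOfEquivOfLe hH1K).toEquiv
    have hdvd : Nat.card H.focalSubgroup ∣ Nat.card H := Subgroup.card_dvd_of_le hH1H
    have hidx : (H.focalSubgroup.subgroupOf K).index = H.index := by
      have h1 : (H.focalSubgroup.subgroupOf K).index = H.relIndex K := by
        show H.focalSubgroup.relIndex K = _
        rw [← hKH, Subgroup.inf_relIndex_left]
      have h2 := index_eq_relIndex_mul_index_sup H K
      rw [sup_comm, hKsup, Subgroup.index_top, mul_one] at h2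
      rw [h1, h2]
    have hHall' : (Nat.card (H.focalSubgroup.subgroupOf K)).Coprime
        (H.focalSubgroup.subgroupOf K).index := by
      rw [hcard1, hidx]
      exact Nat.Coprime.coprime_dvd_left hdvd hHall
    have hfoc' : (fun Y : Subgroup K => Subgroup.focalSubgroup Y)^[n]
        (H.focalSubgroup.subgroupOf K) = ⊥ := by
      have h1 := iter_focal_map_subtype_le K n (H.focalSubgroup.subgroupOf K)
      rw [Subgroup.map_subgroupOf_eq_of_le hH1K, hfoc, le_bot_iff] at h1
      exact (Subgroup.map_eq_bot_iff_of_injective _ K.subtype_injective).mp h1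
    obtain ⟨N', hN'n, hN'c⟩ := ih K (H.focalSubgroup.subgroupOf K) hHall' hfoc'
    have hcN' : Nat.card N' = H.index := by
      rw [← hidx]; exact hN'c.index_eq_card.symm
    have hiN' : N'.index = Nat.card H.focalSubgroup := by
      rw [← hcard1]; exact hN'c.symm.index_eq_card
    set N := N'.map K.subtype with hN
    have hcN : Nat.card N = H.index := by rw [hN, Subgroup.card_subtype, hcN']
    have hNK : N ≤ K := Subgroup.map_subtype_le N'
    have hNsub : N.subgroupOf K = N' :=
      Subgroup.comap_map_eq_self_of_injective K.subtype_injective N'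
    have hNnormal : N.Normal := by
      apply Subgroup.Normal.of_conjugate_fixed
      intro g
      apply conj_smul_eq_of_ge
      apply le_of_coprime_card_relIndex (MulAut.conj g • N) N K
      · calc MulAut.conj g • N ≤ MulAut.conj g • K :=
            Subgroup.pointwise_smul_le_pointwise_smul_iff.mpr hNK
          _ = K := Subgroup.Normal.conj_smul_eq_self g K
      · rw [hNsub]; exact hN'n
      · rw [card_conj_smul, hcN]
        show (H.index).Coprime (N.subgroupOf K).index
        rw [hNsub, hiN']
        exact (Nat.Coprime.coprime_dvd_left hdvd hHall).symm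
    refine ⟨N, hNnormal, ?_⟩
    apply Subgroup.isComplement'_of_coprime
    · rw [hcN]; exact H.index_mul_card
    · rw [hcN]; exact hHall.symm

/-- Let H be a subgroup of a finite group G with order coprime to its index. If iterating the focal-subgroup construction starting from H reaches the trivial subgroup after finitely many steps, then H has a normal complement in G. -/
theorem result {G : Type*} [Group G] [Finite G] (H : Subgroup G) (hHall : (Nat.card H).Coprime H.index) (n : ℕ) (hfoc : (fun K : Subgroup G => Subgroup.focalSubgroup K)^[n] H = ⊥) : ∃ N : Subgroup G, N.Normal ∧ Subgroup.IsComplement' N H :=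
  aux n G H hHall hfoc

end Cfsg.Agent.S0557
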