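import Cfsg.Statements.S2012
import Cfsg.Agent.Lib.Helper42.StronglyEmbedded
import Cfsg.Agent.Lib.Helper42.Conj

set_option autoImplicit false
open Cfsg

namespace Cfsg.Agent.S2012
open Cfsg.Agent.Lib.Helper42
set_option linter.style.haveILetI false
set_option linter.unusedSectionVars false

section aux
variable {G : Type*} [Group G]

/-- right conjugation of a set -/
def cj (g : G) (A : Set G) : Set G := (fun a => g⁻¹ * a * g) '' A

theorem mem_cj {g : G} {A : Set G} {b : G} : b ∈ cj g A ↔ g * b * g⁻¹ ∈ A := by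
  constructor
  · rintro ⟨a, ha, rfl⟩
    simpa [mul_assoc] using ha
  · intro h
    exact ⟨g * b * g⁻¹, h, by simp [mul_assoc]⟩

theorem cj_one (A : Set G) : cj 1 A = A := by
  ext b; simp [mem_cj]

theorem cj_mul (g h : G) (A : Set G) : cj (g * h) A = cj h (cj g A) := by
  ext b; simp [mem_cj, mul_assoc]

theorem cj_mono {g : G} {A B : Set G} (h : A ⊆ B) : cj g A ⊆ cj g B := Set.image_mono h

theorem cj_subgroup_of_mem_normalizer {g : G} {H : Subgroup G}
    (hg : g ∈ Subgroup.normalizer (H : Set G)) : cj g (H : Set G) = H := by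
  ext b
  rw [mem_cj, SetLike.mem_coe, SetLike.mem_coe]
  exact ((Subgroup.mem_normalizer_iff.mp hg) b).symm

variable {p : ℕ} [Fact p.Prime]

/-- an admissible step -/
def StepOK (P T : Sylow p G) (x : G) : Prop :=
  x ∈ Subgroup.normalizer ((((P : Subgroup G) ⊓ (T : Subgroup G)) : Subgroup G) : Set G) ∧
  ¬ p ∣ ((P : Subgroup G) ⊓ Subgroup.normalizer ((((P : Subgroup G) ⊓ (T : Subgroup G)) : Subgroup G) : Set G)).relIndex (Subgroup.normalizer ((((P : Subgroup G) ⊓ (T : Subgroup G)) : Subgroup G) : Set G)) ∧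
  ¬ p ∣ ((T : Subgroup G) ⊓ Subgroup.normalizer ((((P : Subgroup G) ⊓ (T : Subgroup G)) : Subgroup G) : Set G)).relIndex (Subgroup.normalizer ((((P : Subgroup G) ⊓ (T : Subgroup G)) : Subgroup G) : Set G)) ∧
  ((T : Subgroup G) = (P : Subgroup G) ∨ ∃ k : ℕ, orderOf x = p ^ k)

def Valid (P : Sylow p G) (A : Set G) (l : List (Sylow p G × G)) : Prop :=
  ∀ (i : ℕ) (h : i < l.length), StepOK P l[i].1 l[i].2 ∧
    cj ((l.take i).map Prod.snd).prod A ⊆ (((P : Subgroup G) ⊓ (l[i].1 : Subgroup G) : Subgroup G) : Set G)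

def Good (P : Sylow p G) (A : Set G) (g : G) : Prop :=
  ∃ l : List (Sylow p G × G), Valid P A l ∧ (l.map Prod.snd).prod = g ∧ cj g A ⊆ (P : Set G)

theorem good_one (P : Sylow p G) (A : Set G) (hA : A ⊆ (P : Set G)) : Good P A 1 :=
  ⟨[], fun i h => absurd h (by simp), by simp, by rwa [cj_one]⟩

theorem good_mono (P : Sylow p G) {A B : Set G} (hBA : B ⊆ A) {g : G} (h : Good P A g) : Good P B g := by
  obtain ⟨l, hv, hp, hs⟩ := h
  exact ⟨l, fun i hi => ⟨(hv i hi).1, (cj_mono hBA).trans (hv i hi).2⟩, hp, (cj_mono hBA).trans hs⟩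

theorem good_mul (P : Sylow p G) {A : Set G} {g h : G} (h1 : Good P A g) (h2 : Good P (cj g A) h) :
    Good P A (g * h) := by
  obtain ⟨l₁, hv₁, hp₁, hs₁⟩ := h1
  obtain ⟨l₂, hv₂, hp₂, hs₂⟩ := h2
  refine ⟨l₁ ++ l₂, ?_, by rw [List.map_append, List.prod_append, hp₁, hp₂], by rw [cj_mul]; exact hs₂⟩
  intro i hi
  by_cases hlt : i < l₁.length
  · have e1 : (l₁ ++ l₂)[i] = l₁[i] := List.getElem_append_left hlt
    have e2 : (l₁ ++ l₂).take i = l₁.take i := by
      rw [List.take_append_of_le_length hlt.le]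
    rw [e1, e2]
    exact hv₁ i hlt
  · push Not at hlt
    have hj : i - l₁.length < l₂.length := by
      rw [List.length_append] at hi; omega
    have e1 : (l₁ ++ l₂)[i] = l₂[i - l₁.length] := List.getElem_append_right hlt
    have e2 : (l₁ ++ l₂).take i = l₁ ++ l₂.take (i - l₁.length) := by
      rw [List.take_append, List.take_of_length_le hlt]
    rw [e1, e2, List.map_append, List.prod_append, hp₁, cj_mul]
    exact hv₂ _ hj

theorem good_step (P T : Sylow p G) (x : G) (hs : StepOK P T x) {A : Set G}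
    (hA : A ⊆ (((P : Subgroup G) ⊓ (T : Subgroup G) : Subgroup G) : Set G)) : Good P A x := by
  refine ⟨[(T, x)], ?_, by simp, ?_⟩
  · intro i hi
    have : i = 0 := by simpa using hi
    subst this
    refine ⟨hs, ?_⟩
    simpa [cj_one] using hA
  · calc cj x A ⊆ cj x (((P : Subgroup G) ⊓ (T : Subgroup G) : Subgroup G) : Set G) := cj_mono hA
      _ = (((P : Subgroup G) ⊓ (T : Subgroup G) : Subgroup G) : Set G) :=
        cj_subgroup_of_mem_normalizer hs.1
      _ ⊆ (P : Set G) := fun a ha => ha.1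

/-- products of admissible `p`-elements normalizing `P ⊓ T` -/
theorem good_list (P T : Sylow p G)
    (h1 : ¬ p ∣ ((P : Subgroup G) ⊓ Subgroup.normalizer ((((P : Subgroup G) ⊓ (T : Subgroup G)) : Subgroup G) : Set G)).relIndex (Subgroup.normalizer ((((P : Subgroup G) ⊓ (T : Subgroup G)) : Subgroup G) : Set G)))
    (h2 : ¬ p ∣ ((T : Subgroup G) ⊓ Subgroup.normalizer ((((P : Subgroup G) ⊓ (T : Subgroup G)) : Subgroup G) : Set G)).relIndex (Subgroup.normalizer ((((P : Subgroup G) ⊓ (T : Subgroup G)) : Subgroup G) : Set G)))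
    (l : List G)
    (hl : ∀ y ∈ l, y ∈ Subgroup.normalizer ((((P : Subgroup G) ⊓ (T : Subgroup G)) : Subgroup G) : Set G) ∧
      ∃ k : ℕ, orderOf y = p ^ k) :
    Good P (((P : Subgroup G) ⊓ (T : Subgroup G) : Subgroup G) : Set G) l.prod := by
  induction l with
  | nil => exact good_one P _ (fun a ha => ha.1)
  | cons y l ih =>
    rw [List.prod_cons]
    have hy := hl y (List.mem_cons_self)
    apply good_mul P (good_step P T y ⟨hy.1, h1, h2, Or.inr hy.2⟩ le_rfl)
    rw [cj_subgroup_of_mem_normalizer hy.1]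
    exact ih (fun z hz => hl z (List.mem_cons_of_mem _ hz))


omit [Fact p.Prime] in
theorem conclusion_of_good (P : Sylow p G) (A : Set G) (g : G) (h : Good P A g) :
    ∃ (n : ℕ) (Q : Fin n → Sylow p G) (x : Fin n → G), (List.ofFn x).prod = g ∧ (∀ i : Fin n, x i ∈ Subgroup.normalizer ((((P : Subgroup G) ⊓ (Q i : Subgroup G)) : Subgroup G) : Set G) ∧ ¬ p ∣ ((P : Subgroup G) ⊓ Subgroup.normalizer ((((P : Subgroup G) ⊓ (Q i : Subgroup G)) : Subgroup G) : Set G)).relIndex (Subgroup.normalizer ((((P : Subgroup G) ⊓ (Q i : Subgroup G)) : Subgroup G) : Set G)) ∧ ¬ p ∣ ((Q i : Subgroup G) ⊓ Subgroup.normalizer ((((P : Subgroup G) ⊓ (Q i : Subgroup G)) : Subgroup G) : Set G)).relIndex (Subgroup.normalizer ((((P : Subgroup G) ⊓ (Q i : Subgroup G)) : Subgroup G) : Set G)) ∧ ((Q i : Subgroup G) = (P : Subgroup G) ∨ ∃ k : ℕ, orderOf (x i) = p ^ k)) ∧ (∀ h : 0 < n, A ⊆ (((P : Subgroup G) ⊓ (Q ⟨0, h⟩ : Subgroup G) : Subgroup G) : Set G)) ∧ ∀ i : Fin n, ∀ h : i.val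 + 1 < n, (fun a => (((List.ofFn x).take (i.val + 1)).prod)⁻¹ * a * ((List.ofFn x).take (i.val + 1)).prod) '' A ⊆ (((P : Subgroup G) ⊓ (Q ⟨i.val + 1, h⟩ : Subgroup G) : Subgroup G) : Set G) := by
  obtain ⟨l, hv, hprod, -⟩ := h
  have hofn : List.ofFn (fun i : Fin l.length => l[i].2) = l.map Prod.snd := by
    apply List.ext_getElem
    · simp
    · intro i h1 h2
      simp
  refine ⟨l.length, fun i => l[i].1, fun i => l[i].2, ?_, ?_, ?_, ?_⟩
  · rw [hofn, hprod]
  · intro i
    exact (hv i i.2).1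
  · intro h
    have := (hv 0 h).2
    simpa [cj_one] using this
  · intro i h
    have := (hv (i.val + 1) h).2
    rw [hofn]
    rw [← List.map_take]
    exact this


theorem coe_cjs (g : G) (H : Subgroup G) : ((cjs g H : Subgroup G) : Set G) = cj g (H : Set G) := by
  ext b
  rw [SetLike.mem_coe, mem_cjs, mem_cj, SetLike.mem_coe]

variable [Finite G]

/-- the induction hypothesis, as a predicate on a threshold `c` -/
def IH (P : Sylow p G) (c : ℕ) : Prop :=
  ∀ (Q' : Sylow p G) (D' : Subgroup G), D' ≤ (P : Subgroup G) ⊓ (Q' : Subgroup G) → c < Nat.card D' →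
    ∃ x : G, x⁻¹ • Q' = P ∧ Good P (D' : Set G) x

theorem card_lt_of_lt {H K : Subgroup G} (h : H < K) : Nat.card H < Nat.card K := by
  refine lt_of_le_of_ne (Subgroup.card_le_of_le h.le) ?_
  intro he
  exact h.ne (Subgroup.eq_of_le_of_card_ge h.le he.ge)

theorem step_two (P Q : Sylow p G) (D : Subgroup G) (hD : D ≤ (P : Subgroup G) ⊓ (Q : Subgroup G))
    (hcard : Nat.card D < Nat.card (P : Subgroup G))
    (htame : ¬ p ∣ ((P : Subgroup G) ⊓ Subgroup.normalizer (D : Set G)).relIndex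
      (Subgroup.normalizer (D : Set G)))
    (ih : IH P (Nat.card D)) : ∃ z : G, z⁻¹ • Q = P ∧ Good P (D : Set G) z := by
  by_cases hlt : D < (P : Subgroup G) ⊓ (Q : Subgroup G)
  · obtain ⟨x, hx, hg⟩ := ih Q _ le_rfl (card_lt_of_lt hlt)
    exact ⟨x, hx, good_mono P (by exact_mod_cast hD) hg⟩
  have hDeq : D = (P : Subgroup G) ⊓ (Q : Subgroup G) := by
    by_contra hne
    exact hlt (lt_of_le_of_ne hD hne)
  have hDQ : D < (Q : Subgroup G) := by
    refine lt_of_le_of_ne (hD.trans inf_le_right) ?_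
    intro he
    have : Nat.card (Q : Subgroup G) = Nat.card (P : Subgroup G) := Sylow.card_eq_multiplicity Q |>.trans (Sylow.card_eq_multiplicity P).symm
    rw [← he] at this
    omega
  set N := Subgroup.normalizer (D : Set G) with hN
  obtain ⟨B, hDB, hBQ, hBN⟩ := exists_lt_le_normalizer p (Q : Subgroup G) D Q.2 hDQ
  have hQNp : IsPGroup p ((Q : Subgroup G) ⊓ N : Subgroup G) := Q.2.to_le inf_le_left
  have hcardQN : Nat.card D < Nat.card ((Q : Subgroup G) ⊓ N : Subgroup G) :=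
    lt_of_lt_of_le (card_lt_of_lt hDB) (Subgroup.card_le_of_le (le_inf hBQ hBN))
  obtain ⟨V, hQNV, hVN, hVp, hVi⟩ := exists_sylow_of_le p N _ hQNp inf_le_right
  obtain ⟨T, hVT⟩ := hVp.exists_le_sylow
  have hDQN : D ≤ (Q : Subgroup G) ⊓ N := le_inf (hD.trans inf_le_right) Subgroup.le_normalizer
  have hDPT : D ≤ (P : Subgroup G) ⊓ (T : Subgroup G) :=
    le_inf (hD.trans inf_le_left) ((hDQN.trans hQNV).trans hVT)
  by_cases hlt2 : D < (P : Subgroup G) ⊓ (T : Subgroup G)
  · -- case (2a)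
    obtain ⟨y, hy, hgy⟩ := ih T _ le_rfl (card_lt_of_lt hlt2)
    have hgyD : Good P (D : Set G) y := good_mono P (by exact_mod_cast hDPT) hgy
    have hyT : cjs y (T : Subgroup G) = (P : Subgroup G) := by
      rw [← sylow_inv_smul_coe, hy]
    have h1 : cjs y ((Q : Subgroup G) ⊓ N) ≤ (P : Subgroup G) ⊓ ((y⁻¹ • Q : Sylow p G) : Subgroup G) := by
      apply le_inf
      · rw [← hyT]; exact cjs_mono (hQNV.trans hVT)
      · rw [sylow_inv_smul_coe]; exact cjs_mono inf_le_left
    obtain ⟨z, hz, hgz⟩ := ih (y⁻¹ • Q) _ h1 (by rw [card_cjs]; exact hcardQN)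
    refine ⟨y * z, by rw [mul_inv_rev, mul_smul, hz], good_mul P hgyD ?_⟩
    refine good_mono P ?_ hgz
    rw [← coe_cjs]
    exact_mod_cast cjs_mono hDQN
  · -- case (2b)
    have hDeqT : D = (P : Subgroup G) ⊓ (T : Subgroup G) := by
      by_contra hne
      exact hlt2 (lt_of_le_of_ne hDPT hne)
    have hTN : (T : Subgroup G) ⊓ N = V := inf_eq_of_relIndex_not_dvd p V N _ hVN hVi T.2 hVT
    have hNeq : Subgroup.normalizer ((((P : Subgroup G) ⊓ (T : Subgroup G)) : Subgroup G) : Set G) = N := by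
      rw [← hDeqT]
    -- the subgroup generated by the p-elements of N
    set K := Subgroup.closure {y : G | y ∈ N ∧ ∃ k : ℕ, orderOf y = p ^ k} with hK
    have hKN : K ≤ N := (Subgroup.closure_le _).mpr (fun y hy => hy.1)
    have hpK : ∀ H : Subgroup G, IsPGroup p H → H ≤ N → H ≤ K := by
      intro H hH hHN a ha
      apply Subgroup.subset_closure
      refine ⟨hHN ha, ?_⟩
      obtain ⟨k, hk⟩ := IsPGroup.iff_orderOf.mp hH ⟨a, ha⟩
      exact ⟨k, by rw [← hk, ← Subgroup.orderOf_coe]⟩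
    have hPNK : (P : Subgroup G) ⊓ N ≤ K := hpK _ (P.2.to_le inf_le_left) inf_le_right
    have hQNK : (Q : Subgroup G) ⊓ N ≤ K := hpK _ hQNp inf_le_right
    have hrel : ¬ p ∣ ((P : Subgroup G) ⊓ N).relIndex K := by
      intro h
      apply htame
      rw [← Subgroup.relIndex_mul_relIndex _ _ _ hPNK hKN]
      exact Dvd.dvd.mul_right h _
    obtain ⟨e, heK, he⟩ := exists_conj_mem_of_le' p K _ _ (P.2.to_le (inf_le_left : (P : Subgroup G) ⊓ N ≤ P))
      hrel hQNp hQNK
    have hnK : e⁻¹ ∈ K := K.inv_mem heK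
    have hnK' : e⁻¹ ∈ Submonoid.closure ({y : G | y ∈ N ∧ ∃ k : ℕ, orderOf y = p ^ k} ∪
        {y : G | y ∈ N ∧ ∃ k : ℕ, orderOf y = p ^ k}⁻¹) := by
      rw [← Subgroup.closure_toSubmonoid]; exact hnK
    obtain ⟨l, hl, hprod⟩ := Submonoid.exists_list_of_mem_closure hnK'
    have hl' : ∀ y ∈ l, y ∈ Subgroup.normalizer ((((P : Subgroup G) ⊓ (T : Subgroup G)) : Subgroup G) : Set G) ∧
        ∃ k : ℕ, orderOf y = p ^ k := by
      intro y hy
      rw [hNeq]
      rcases hl y hy with h | h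
      · exact h
      · rw [Set.mem_inv] at h
        exact ⟨by simpa using N.inv_mem h.1, by simpa using h.2⟩
    have hgn : Good P (D : Set G) e⁻¹ := by
      have := good_list P T (by rw [hNeq]; exact htame) (by rw [hNeq, hTN]; exact hVi) l hl'
      rw [hprod, ← hDeqT] at this
      exact this
    have h1 : cjs e⁻¹ ((Q : Subgroup G) ⊓ N) ≤ (P : Subgroup G) ⊓ (((e⁻¹)⁻¹ • Q : Sylow p G) : Subgroup G) := by
      apply le_inf
      · intro b hb
        rw [mem_cjs] at hb
        have := he _ hb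
        have h2 : e * (e⁻¹ * b * e⁻¹⁻¹) * e⁻¹ = b := by group
        rw [h2] at this
        exact this.1
      · rw [sylow_inv_smul_coe]; exact cjs_mono inf_le_left
    obtain ⟨z, hz, hgz⟩ := ih ((e⁻¹)⁻¹ • Q) _ h1 (by rw [card_cjs]; exact hcardQN)
    refine ⟨e⁻¹ * z, by rw [mul_inv_rev, mul_smul, hz], good_mul P hgn ?_⟩
    refine good_mono P ?_ hgz
    rw [← coe_cjs]
    exact_mod_cast cjs_mono hDQN


theorem claim (P : Sylow p G) : ∀ (m : ℕ) (Q : Sylow p G) (D : Subgroup G),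
    D ≤ (P : Subgroup G) ⊓ (Q : Subgroup G) → Nat.card (P : Subgroup G) - Nat.card D ≤ m →
    ∃ x : G, x⁻¹ • Q = P ∧ Good P (D : Set G) x := by
  intro m
  induction m with
  | zero =>
    intro Q D hD hm
    have hDP : D ≤ (P : Subgroup G) := hD.trans inf_le_left
    have hDeq : D = (P : Subgroup G) := Subgroup.eq_of_le_of_card_ge hDP (by omega)
    have hPQ : (P : Subgroup G) ≤ (Q : Subgroup G) := hDeq ▸ hD.trans inf_le_right
    have hQP : Q = P := by
      apply Sylow.ext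
      exact P.3 Q.2 hPQ
    exact ⟨1, by simp [hQP], good_one P _ (by exact_mod_cast hDP)⟩
  | succ m ihm =>
    intro Q D hD hm
    have hDP : D ≤ (P : Subgroup G) := hD.trans inf_le_left
    by_cases hDeq : D = (P : Subgroup G)
    · have hPQ : (P : Subgroup G) ≤ (Q : Subgroup G) := hDeq ▸ hD.trans inf_le_right
      have hQP : Q = P := by
        apply Sylow.ext
        exact P.3 Q.2 hPQ
      exact ⟨1, by simp [hQP], good_one P _ (by exact_mod_cast hDP)⟩
    have hDltP : D < (P : Subgroup G) := lt_of_le_of_ne hDP hDeq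
    have hcard : Nat.card D < Nat.card (P : Subgroup G) := card_lt_of_lt hDltP
    -- the induction hypothesis in threshold form
    have ih : IH P (Nat.card D) := by
      intro Q' D' hD' hc
      apply ihm Q' D' hD'
      have : Nat.card D' ≤ Nat.card (P : Subgroup G) := Subgroup.card_le_of_le (hD'.trans inf_le_left)
      omega
    -- Step 1
    set N := Subgroup.normalizer (D : Set G) with hN
    obtain ⟨B, hDB, hBP, hBN⟩ := exists_lt_le_normalizer p (P : Subgroup G) D P.2 hDltP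
    have hPNp : IsPGroup p ((P : Subgroup G) ⊓ N : Subgroup G) := P.2.to_le inf_le_left
    have hcardPN : Nat.card D < Nat.card ((P : Subgroup G) ⊓ N : Subgroup G) :=
      lt_of_lt_of_le (card_lt_of_lt hDB) (Subgroup.card_le_of_le (le_inf hBP hBN))
    obtain ⟨U, hPNU, hUN, hUp, hUi⟩ := exists_sylow_of_le p N _ hPNp inf_le_right
    obtain ⟨R, hUR⟩ := hUp.exists_le_sylow
    have hDPN : D ≤ (P : Subgroup G) ⊓ N := le_inf hDP Subgroup.le_normalizer
    obtain ⟨y, hy, hgy⟩ := ih R _ (le_inf inf_le_left (hPNU.trans hUR)) hcardPN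
    have hgyD : Good P (D : Set G) y := good_mono P (by exact_mod_cast hDPN) hgy
    have hyR : cjs y (R : Subgroup G) = (P : Subgroup G) := by
      rw [← sylow_inv_smul_coe, hy]
    -- the conjugated configuration
    have hD₁P : cjs y D ≤ (P : Subgroup G) := by
      obtain ⟨_, _, _, h3⟩ := hgyD
      intro b hb
      have : b ∈ cj y (D : Set G) := by rw [← coe_cjs]; exact hb
      exact h3 this
    have hD₁ : cjs y D ≤ (P : Subgroup G) ⊓ ((y⁻¹ • Q : Sylow p G) : Subgroup G) := by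
      refine le_inf hD₁P ?_
      rw [sylow_inv_smul_coe]
      exact cjs_mono (hD.trans inf_le_right)
    have hU₁P : cjs y U ≤ (P : Subgroup G) := by rw [← hyR]; exact cjs_mono hUR
    have hU₁N : cjs y U ≤ Subgroup.normalizer ((cjs y D : Subgroup G) : Set G) := by
      rw [← cjs_normalizer]; exact cjs_mono hUN
    have hU₁i : ¬ p ∣ (cjs y U).relIndex (Subgroup.normalizer ((cjs y D : Subgroup G) : Set G)) := by
      rw [← cjs_normalizer, relIndex_cjs]; exact hUi
    have htame : ¬ p ∣ ((P : Subgroup G) ⊓ Subgroup.normalizer ((cjs y D : Subgroup G) : Set G)).relIndex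
        (Subgroup.normalizer ((cjs y D : Subgroup G) : Set G)) := by
      rw [inf_eq_of_relIndex_not_dvd p (cjs y U) _ _ hU₁N hU₁i P.2 hU₁P]
      exact hU₁i
    obtain ⟨z, hz, hgz⟩ := step_two P (y⁻¹ • Q) (cjs y D) hD₁ (by rw [card_cjs]; exact hcard) htame
      (by rw [card_cjs]; exact ih)
    refine ⟨y * z, by rw [mul_inv_rev, mul_smul, hz], good_mul P hgyD ?_⟩
    rw [← coe_cjs]
    exact hgz


end aux


/-- Alperin's fusion Theorem with the factors taken to be p-elements: let P be a Sylow p-subgroup of a finite group G, A a subset of P and g an element with g⁻¹Ag ⊆ P. Then g = x_1 ⋯ x_n where, for each i, Q_i is a Sylow p-subgroup with P ∩ Q_i a tame intersection (the normalizers in P and in Q_i of P ∩ Q_i are Sylow in N_G(P ∩ Q_i)), x_i normalizes P ∩ Q_i, x_i has p-power order unless Q_i = P, A ⊆ P ∩ Q_1, and (x_1 ⋯ x_i)⁻¹ A (x_1 ⋯ x_i) lies in P ∩ Q_{i+1} for i < n. -/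
theorem result {G : Type*} [Group G] [Finite G] {p : ℕ} [Fact p.Prime] (P : Sylow p G) (A : Set G) (g : G) (hA : A ⊆ (P : Set G)) (hAg : (fun a => g⁻¹ * a * g) '' A ⊆ (P : Set G)) : ∃ (n : ℕ) (Q : Fin n → Sylow p G) (x : Fin n → G), (List.ofFn x).prod = g ∧ (∀ i : Fin n, x i ∈ Subgroup.normalizer ((((P : Subgroup G) ⊓ (Q i : Subgroup G)) : Subgroup G) : Set G) ∧ ¬ p ∣ ((P : Subgroup G) ⊓ Subgroup.normalizer ((((P : Subgroup G) ⊓ (Q i : Subgroup G)) : Subgroup G) : Set G)).relIndex (Subgroup.normalizer ((((P : Subgroup G) ⊓ (Q i : Subgroup G)) : Subgroup G) : Set G)) ∧ ¬ p ∣ ((Q i : Subgroup G) ⊓ Subgroup.normalizer ((((P : Subgroup G) ⊓ (Q i : Subgroup G)) : Subgroup G) : Set G)).relIndex (Subgroup.normalizer ((((P : Subgroup G) ⊓ (Q i : Subgroup G)) : Subgroup G) : Set G)) ∧ ((Q i : Subgroup G) = (P : Subgroup G) ∨ ∃ k : ℕ, orderOf (x i) = p ^ k)) ∧ (∀ h : 0 < n, A ⊆ (((P : Subgroup G) ⊓ (Q ⟨0, h⟩ : Subgroup G) : Subgroup G) : Set G)) ∧ ∀ i : Fin n,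 ∀ h : i.val + 1 < n, (fun a => (((List.ofFn x).take (i.val + 1)).prod)⁻¹ * a * ((List.ofFn x).take (i.val + 1)).prod) '' A ⊆ (((P : Subgroup G) ⊓ (Q ⟨i.val + 1, h⟩ : Subgroup G) : Subgroup G) : Set G) := by
  -- the Sylow subgroup `g P g⁻¹`
  have hAQ : A ⊆ (((P : Subgroup G) ⊓ ((g • P : Sylow p G) : Subgroup G) : Subgroup G) : Set G) := by
    intro a ha
    refine ⟨hA ha, ?_⟩
    rw [Sylow.coe_subgroup_smul]
    refine ⟨g⁻¹ * a * g, hAg ⟨a, ha, rfl⟩, ?_⟩
    simp [MulAut.conj_apply, mul_assoc]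
  obtain ⟨x, hx, hgx⟩ := claim P _ (g • P) _ le_rfl le_rfl
  have hgxA : Good P A x := good_mono P hAQ hgx
  -- the last factor normalizes `P`
  have hnorm : x⁻¹ * g ∈ Subgroup.normalizer ((P : Subgroup G) : Set G) := by
    apply Sylow.smul_eq_iff_mem_normalizer.mp
    rw [mul_smul, hx]
  have hPP : (P : Subgroup G) ⊓ (P : Subgroup G) = (P : Subgroup G) := inf_idem _
  have hrel : ¬ p ∣ ((P : Subgroup G) ⊓ Subgroup.normalizer ((P : Subgroup G) : Set G)).relIndex
      (Subgroup.normalizer ((P : Subgroup G) : Set G)) := by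
    rw [inf_eq_left.mpr Subgroup.le_normalizer]
    exact fun h => P.not_dvd_index (h.trans (Subgroup.relIndex_dvd_index_of_le Subgroup.le_normalizer))
  have hstep : StepOK P P (x⁻¹ * g) := by
    refine ⟨?_, ?_, ?_, Or.inl rfl⟩
    · rw [hPP]; exact hnorm
    · rw [hPP]; exact hrel
    · rw [hPP]; exact hrel
  have hsub : cj x A ⊆ (P : Set G) := by
    obtain ⟨_, _, _, h3⟩ := hgxA
    exact h3
  have hlast : Good P (cj x A) (x⁻¹ * g) := good_step P P _ hstep (by rw [hPP]; exact hsub)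
  have := good_mul P hgxA hlast
  rw [mul_inv_cancel_left] at this
  exact conclusion_of_good P A g this

end Cfsg.Agent.S2012
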