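import Cfsg.Statements.S5126
import Cfsg.Agent.S5098
import Cfsg.Agent.Lib.Helper87.FusionRealized
import Cfsg.Agent.Lib.Helper52.PCore
import Cfsg.Agent.Lib.Helper90.FusionNormal

set_option autoImplicit false
open Cfsg

namespace Cfsg.Agent.S5126

open Cfsg.FusionSystem Cfsg.Agent.Lib.Helper87

variable {Ω : Type*} [Group Ω] {S : Subgroup Ω}

/-- `R` is normal in its normalizer system. -/
theorem isNormal_normalizerSystem [Finite S] (F : FusionSystem S) (R : Subgroup Ω) (hRS : R ≤ S)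
    (E : FusionSystem (normalizerIn S R)) (hE : F.IsNormalizerSystem R E) : E.IsNormal R := by
  have hRN : R ≤ normalizerIn S R := le_normalizerIn hRS
  have hfinR : Finite R := finite_of_le hRS
  refine ⟨hRN, fun P φ hφ => ?_⟩
  rw [hE P] at hφ
  obtain ⟨hφF, hPN, hφN, ψ, hψ, hψP, hψR⟩ := hφ
  refine ⟨ψ, ?_, hψP, hψR⟩
  rw [hE]
  have hPRN : P ⊔ R ≤ normalizerIn S R := sup_le hPN hRN
  have hle : (P ⊔ R) ⊔ R ≤ P ⊔ R := sup_le le_rfl le_sup_right
  refine ⟨hψ, hPRN, fun x => ⟨hom_mem F hψ x, ?_⟩, ψ.comp (Subgroup.inclusion hle),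
    restrict_mem F hle hψ, fun x => rfl, ?_⟩
  · apply mem_normalizer_of_conj_mem
    intro y hy
    obtain ⟨z, hz, rfl⟩ := hψR.ge hy
    have hzR : (z : Ω) ∈ R := hz
    rw [← map_inv, ← map_mul, ← map_mul]
    refine hψR.le ⟨x * z * x⁻¹, ?_, rfl⟩
    show (x : Ω) * z * (x : Ω)⁻¹ ∈ R
    exact (Subgroup.mem_normalizer_iff.mp (hPRN x.2).2 _).mp hzR
  · ext y
    constructor
    · rintro ⟨z, hz, rfl⟩
      have hzR : (z : Ω) ∈ R := hz
      exact hψR.le ⟨Subgroup.inclusion hle z, hzR, rfl⟩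
    · intro hy
      obtain ⟨z, hz, rfl⟩ := hψR.ge hy
      have hzR : (z : Ω) ∈ R := hz
      exact ⟨⟨z, (le_sup_left : P ⊔ R ≤ (P ⊔ R) ⊔ R) z.2⟩, hzR, rfl⟩

/-- Every `N_F(R)`-conjugate of `R` is `R`. -/
theorem conj_eq_self (F : FusionSystem S) (R : Subgroup Ω)
    (E : FusionSystem (normalizerIn S R)) (hE : F.IsNormalizerSystem R E) {R' : Subgroup Ω}
    (hconj : E.IsConj R R') : R' = R := by
  obtain ⟨φ, hφ, hφr⟩ := hconj
  rw [hE] at hφ
  obtain ⟨-, -, -, ψ, hψ, hψR₁, hψR⟩ := hφ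
  rw [← hφr]
  ext y
  constructor
  · rintro ⟨x, rfl⟩
    rw [← hψR₁]
    exact hψR.le ⟨_, x.2, rfl⟩
  · intro hy
    obtain ⟨z, hz, rfl⟩ := hψR.ge hy
    have hzR : (z : Ω) ∈ R := hz
    refine ⟨⟨z, hzR⟩, ?_⟩
    rw [← hψR₁]
    rfl

theorem isCentric_normalizerSystem (F : FusionSystem S) (R : Subgroup Ω) (hRc : F.IsCentric R)
    (E : FusionSystem (normalizerIn S R)) (hE : F.IsNormalizerSystem R E) : E.IsCentric R := by
  have hRS := hRc.1
  refine ⟨le_normalizerIn hRS, fun R' hconj => ?_⟩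
  rw [conj_eq_self F R E hE hconj]
  intro g hg
  rw [mem_centralizerIn] at hg
  apply hRc.2 R (isConj_refl F hRS)
  exact mem_centralizerIn.mpr ⟨normalizerIn_le S R hg.1, hg.2⟩

/-- In a model of a fusion system, a subgroup normal in the system maps into `O_p`. -/
theorem map_le_pCore_of_isNormal {N : Subgroup Ω} [Finite N] (p : ℕ) [Fact p.Prime]
    (hN : IsPGroup p N) (E : FusionSystem N) {G : Type*} [Group G] (ι : N →* G)
    (hmodel : E.IsModel p G ι) (R : Subgroup Ω) (hR : E.IsNormal R) :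
    (R.subgroupOf N).map ι ≤ Cfsg.pCore p G := by
  obtain ⟨hfin, hreal, ⟨T, hT⟩, hC⟩ := hmodel
  have hinj := hreal.1
  have hRN : R ≤ N := hR.1
  have hfinR : Finite R := finite_of_le hRN
  have hsc := Cfsg.Agent.Lib.Helper90.IsNormal.stronglyClosed E hR
  have hRnorm : ∀ n ∈ N, ∀ y ∈ R, n * y * n⁻¹ ∈ R :=
    Cfsg.Agent.Lib.Helper90.StronglyClosed.conj_mem E hsc
  have hQn : (Cfsg.pCore p G).Normal := Cfsg.Agent.Lib.Helper52.pCore_normal p G
  have hQT : Cfsg.pCore p G ≤ ι.range := by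
    rw [← hT]; exact Cfsg.Agent.Lib.Helper52.pCore_le_sylow p G T
  have hQ'N : pull ι (Cfsg.pCore p G) ≤ N := pull_le ι _
  have hUp : IsPGroup p ((R.subgroupOf N).map ι) := (hN.to_subgroup _).map ι
  -- normality of `U`
  have hconj : ∀ g : G, ∀ u ∈ (R.subgroupOf N).map ι, g * u * g⁻¹ ∈ (R.subgroupOf N).map ι := by
    intro g u hu
    have h1 : ∀ x : pull ι (Cfsg.pCore p G), g * ι ⟨x, hQ'N x.2⟩ * g⁻¹ ∈ ι.range := by
      intro x
      obtain ⟨hxN, hx⟩ := mem_pull.mp x.2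
      exact hQT (hQn.conj_mem _ hx g)
    have hφg := pullConj_mem_hom E hreal _ hQ'N g h1
    obtain ⟨ψ, hψ, hψφ, hψR⟩ := hR.2 _ _ hφg
    obtain ⟨h, hh⟩ := exists_conj_of_mem_hom E hreal hψ
    -- `h⁻¹ g` centralizes `O_p(G)`
    have hc : h⁻¹ * g ∈ Subgroup.centralizer ((Cfsg.pCore p G : Subgroup G) : Set G) := by
      rw [Subgroup.mem_centralizer_iff]
      intro q hq
      obtain ⟨n, rfl⟩ := hQT hq
      have hnQ' : (n : Ω) ∈ pull ι (Cfsg.pCore p G) := mem_pull.mpr ⟨n.2, hq⟩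
      have e1 := hh (Subgroup.inclusion le_sup_left ⟨n, hnQ'⟩)
      have e2 := ι_pullConj ι hinj _ hQ'N g h1 ⟨n, hnQ'⟩
      have e3 : h * ι n * h⁻¹ = g * ι n * g⁻¹ :=
        e1.symm.trans ((congrArg ι (Subtype.ext (hψφ ⟨n, hnQ'⟩))).trans e2)
      calc ι n * (h⁻¹ * g) = h⁻¹ * (h * ι n * h⁻¹) * g := by group
        _ = h⁻¹ * (g * ι n * g⁻¹) * g := by rw [e3]
        _ = h⁻¹ * g * ι n := by group
    obtain ⟨n₀, hn₀⟩ := hQT (hC hc)
    obtain ⟨r, hr, rfl⟩ := hu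
    have hrR : (r : Ω) ∈ R := hr
    have hr' : (n₀ : Ω) * r * (n₀ : Ω)⁻¹ ∈ R := hRnorm n₀ n₀.2 r hrR
    have hr'PR : (n₀ : Ω) * r * (n₀ : Ω)⁻¹ ∈ pull ι (Cfsg.pCore p G) ⊔ R :=
      (le_sup_right : R ≤ _) hr'
    have e4 := hh ⟨_, hr'PR⟩
    have e5 : g * ι r * g⁻¹ = h * ι (n₀ * r * n₀⁻¹) * h⁻¹ := by
      rw [map_mul, map_mul, map_inv, hn₀]
      group
    rw [e5]
    have e6 : ι (n₀ * r * n₀⁻¹) = ι ⟨((⟨_, hr'PR⟩ : ↥(pull ι (Cfsg.pCore p G) ⊔ R)) : Ω),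
        hom_le E hψ hr'PR⟩ := rfl
    rw [e6, ← e4]
    refine ⟨_, ?_, rfl⟩
    show ψ ⟨_, hr'PR⟩ ∈ R
    exact hψR.le ⟨⟨_, hr'PR⟩, hr', rfl⟩
  have hUn : ((R.subgroupOf N).map ι).Normal := ⟨fun u hu g => hconj g u hu⟩
  exact Cfsg.Agent.Lib.Helper52.le_pCore hUn hUp


/-- In a model of `N_F(R)` with `R` centric and radical in `F`, `O_p` is contained in the image
of `R`. -/
theorem pCore_le_map [Finite S] (p : ℕ) [Fact p.Prime] (hS : IsPGroup p S) (F : FusionSystem S)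
    (R : Subgroup Ω) (hRc : F.IsCentric R) (hRr : F.IsRadical p R)
    (E : FusionSystem (normalizerIn S R)) (hE : F.IsNormalizerSystem R E)
    {G : Type*} [Group G] (ι : ↥(normalizerIn S R) →* G) (hmodel : E.IsModel p G ι) :
    Cfsg.pCore p G ≤ (R.subgroupOf (normalizerIn S R)).map ι := by
  obtain ⟨hfin, hreal, ⟨T, hT⟩, hC⟩ := hmodel
  have hinj := hreal.1
  have hRS := hRc.1
  have hRN : R ≤ normalizerIn S R := le_normalizerIn hRS
  have hQn : (Cfsg.pCore p G).Normal := Cfsg.Agent.Lib.Helper52.pCore_normal p G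
  have hQT : Cfsg.pCore p G ≤ ι.range := by
    rw [← hT]; exact Cfsg.Agent.Lib.Helper52.pCore_le_sylow p G T
  have hQN : pull ι (Cfsg.pCore p G) ≤ normalizerIn S R := pull_le ι _
  have hQS : pull ι (Cfsg.pCore p G) ≤ S := hQN.trans (normalizerIn_le S R)
  have hQp : IsPGroup p (pull ι (Cfsg.pCore p G)) := hS.to_le hQS
  have hBp : IsPGroup p ((autInducedBy (pull ι (Cfsg.pCore p G)) R).subgroupOf (F.autGroup R)) :=
    (isPGroup_autInducedBy hQp R).comap_subtype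
  have hBn : ((autInducedBy (pull ι (Cfsg.pCore p G)) R).subgroupOf (F.autGroup R)).Normal := by
    refine ⟨fun α hα β => ?_⟩
    rw [Subgroup.mem_subgroupOf] at hα ⊢
    obtain ⟨m, hm, hmα⟩ := mem_autInducedBy_iff.mp hα
    rw [mem_autInducedBy_iff]
    have hβ : R.subtype.comp (β : MulAut R).toMonoidHom ∈ F.Hom R :=
      (mem_autGroup_iff F hRS).mp β.2
    have hle : R ⊔ R ≤ R := sup_le le_rfl le_rfl
    have hβE : R.subtype.comp (β : MulAut R).toMonoidHom ∈ E.Hom R := by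
      rw [hE]
      refine ⟨hβ, hRN, fun x => hRN ((β : MulAut R) x).2,
        (R.subtype.comp (β : MulAut R).toMonoidHom).comp (Subgroup.inclusion hle),
        restrict_mem F hle hβ, fun x => rfl, ?_⟩
      ext y
      constructor
      · rintro ⟨z, hz, rfl⟩
        exact ((β : MulAut R) _).2
      · intro hy
        refine ⟨⟨((β : MulAut R).symm ⟨y, hy⟩ : R), (le_sup_left : R ≤ R ⊔ R) (Subtype.prop _)⟩, ?_, ?_⟩
        · show (((β : MulAut R).symm ⟨y, hy⟩ : R) : Ω) ∈ R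
          exact Subtype.prop _
        · show ((((β : MulAut R)) ((β : MulAut R).symm ⟨y, hy⟩) : R) : Ω) = y
          rw [MulEquiv.apply_symm_apply]
    obtain ⟨g, hg⟩ := exists_conj_of_mem_hom E hreal hβE
    obtain ⟨hmN, hmQ⟩ := mem_pull.mp hm
    obtain ⟨m', hm'⟩ := hQT (hQn.conj_mem _ hmQ g)
    have hm'Q : (m' : Ω) ∈ pull ι (Cfsg.pCore p G) := by
      refine mem_pull.mpr ⟨m'.2, ?_⟩
      show ι m' ∈ _
      rw [hm']
      exact hQn.conj_mem _ hmQ g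
    refine ⟨m', hm'Q, fun y => ?_⟩
    obtain ⟨x, rfl⟩ : ∃ x : R, (β : MulAut R) x = y :=
      ⟨(β : MulAut R).symm y, MulEquiv.apply_symm_apply _ _⟩
    have e0 : ((β * α * β⁻¹ : F.autGroup R) : MulAut R) ((β : MulAut R) x) =
        (β : MulAut R) ((α : MulAut R) x) := by
      show ((β : MulAut R) * (α : MulAut R) * (β : MulAut R)⁻¹) ((β : MulAut R) x) = _
      rw [MulAut.mul_apply, MulAut.mul_apply, MulAut.inv_apply, MulEquiv.symm_apply_apply]
    rw [e0]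
    have hαx : (((α : MulAut R) x : R) : Ω) = m * x * m⁻¹ := hmα x
    have h1 := hg ((α : MulAut R) x)
    have h2 := hg x
    have h3 : (⟨(((α : MulAut R) x : R) : Ω), hRN (Subtype.prop _)⟩ : normalizerIn S R) =
        ⟨m, hmN⟩ * ⟨x, hRN x.2⟩ * ⟨m, hmN⟩⁻¹ := Subtype.ext hαx
    have key : ι ⟨(((β : MulAut R) ((α : MulAut R) x) : R) : Ω), hRN (Subtype.prop _)⟩ =
        ι (m' * ⟨((β : MulAut R) x : R), hRN (Subtype.prop _)⟩ * m'⁻¹) := by
      calc ι ⟨(((β : MulAut R) ((α : MulAut R) x) : R) : Ω), hRN (Subtype.prop _)⟩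
          = g * ι ⟨(((α : MulAut R) x : R) : Ω), hRN (Subtype.prop _)⟩ * g⁻¹ := h1
        _ = g * (ι ⟨m, hmN⟩ * ι ⟨x, hRN x.2⟩ * (ι ⟨m, hmN⟩)⁻¹) * g⁻¹ := by
            rw [h3, map_mul, map_mul, map_inv]
        _ = (g * ι ⟨m, hmN⟩ * g⁻¹) * (g * ι ⟨x, hRN x.2⟩ * g⁻¹) * (g * ι ⟨m, hmN⟩ * g⁻¹)⁻¹ := by
            group
        _ = ι m' * ι ⟨((β : MulAut R) x : R), hRN (Subtype.prop _)⟩ * (ι m')⁻¹ := by
            rw [hm']
            exact congrArg (fun t => (g * ι ⟨m, hmN⟩ * g⁻¹) * t * (g * ι ⟨m, hmN⟩ * g⁻¹)⁻¹) h2.symm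
        _ = ι (m' * ⟨((β : MulAut R) x : R), hRN (Subtype.prop _)⟩ * m'⁻¹) := by
            rw [map_mul, map_mul, map_inv]
    exact congrArg Subtype.val (hinj key)
  have hB := Cfsg.Agent.Lib.Helper52.le_pCore hBn hBp
  intro q hq
  obtain ⟨n, rfl⟩ := hQT hq
  have hnQ : (n : Ω) ∈ pull ι (Cfsg.pCore p G) := mem_pull.mpr ⟨n.2, hq⟩
  have hn2 : (n : Ω) ∈ Subgroup.normalizer (R : Set Ω) := n.2.2
  have hcQ : conjAut R n hn2 ∈ autInducedBy (pull ι (Cfsg.pCore p G)) R :=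
    conjAut_mem_autInducedBy hnQ hn2
  have hcF : conjAut R n hn2 ∈ F.autGroup R :=
    autInducedBy_le_autGroup F hRS (conjAut_mem_autInducedBy n.2.1 hn2)
  have hcB : (⟨conjAut R n hn2, hcF⟩ : F.autGroup R) ∈
      (autInducedBy (pull ι (Cfsg.pCore p G)) R).subgroupOf (F.autGroup R) :=
    Subgroup.mem_subgroupOf.mpr hcQ
  have hcI : conjAut R n hn2 ∈ Inn R := by
    rw [← hRr.2]
    exact ⟨⟨conjAut R n hn2, hcF⟩, hB hcB, rfl⟩
  obtain ⟨r, hr⟩ := hcI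
  -- `r⁻¹ n` centralizes `R`
  have hcent : (r : Ω)⁻¹ * n ∈ centralizerIn S R := by
    rw [mem_centralizerIn]
    refine ⟨S.mul_mem (S.inv_mem (hRS r.2)) n.2.1, fun x hx => ?_⟩
    have h4 := congrArg (fun a : MulAut R => ((a ⟨x, hx⟩ : R) : Ω)) hr
    have h5 : (r : Ω) * x * (r : Ω)⁻¹ = n * x * (n : Ω)⁻¹ := h4
    calc x * ((r : Ω)⁻¹ * n) = (r : Ω)⁻¹ * ((r : Ω) * x * (r : Ω)⁻¹) * n := by group
      _ = (r : Ω)⁻¹ * (n * x * (n : Ω)⁻¹) * n := by rw [h5]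
      _ = (r : Ω)⁻¹ * n * x := by group
  have hmem : (r : Ω)⁻¹ * n ∈ R := hRc.2 R (isConj_refl F hRS) hcent
  have hnR : (n : Ω) ∈ R := by
    have := R.mul_mem r.2 hmem
    rwa [mul_inv_cancel_left] at this
  exact ⟨n, hnR, rfl⟩


/-- In a saturated fusion system over a finite p-group S, the normalizer system of a fully normalized, centric, radical subgroup R is constrained, and in every model of that normalizer system the largest normal p-subgroup is the image of R. -/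
theorem result {Ω : Type*} [Group Ω] {S : Subgroup Ω} [Finite S] (p : ℕ) [Fact p.Prime] (hS : IsPGroup p S) (F : Cfsg.FusionSystem S) (hF : F.IsSaturated p) (R : Subgroup Ω) (hRn : F.IsFullyNormalized R) (hRc : F.IsCentric R) (hRr : F.IsRadical p R) (E : Cfsg.FusionSystem (Cfsg.FusionSystem.normalizerIn S R)) (hE : F.IsNormalizerSystem R E) {G : Type*} [Group G] (ι : ↥(Cfsg.FusionSystem.normalizerIn S R) →* G) : E.IsConstrained p ∧ (E.IsModel p G ι → (Cfsg.pCore p G : Subgroup G) = (R.subgroupOf (Cfsg.FusionSystem.normalizerIn S R)).map ι) := by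
  have hRS := hRc.1
  have hNp : IsPGroup p (normalizerIn S R) := hS.to_le (normalizerIn_le S R)
  have hnorm := isNormal_normalizerSystem F R hRS E hE
  have hfinN : Finite (normalizerIn S R) := finite_of_le (normalizerIn_le S R)
  refine ⟨⟨Cfsg.Agent.S5098.result p hS F hF R hRn E hE, R, hnorm,
    isCentric_normalizerSystem F R hRc E hE⟩, fun hmodel => le_antisymm ?_ ?_⟩
  · exact pCore_le_map p hS F R hRc hRr E hE ι hmodel
  · exact map_le_pCore_of_isNormal p hNp E ι hmodel R hnorm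

end Cfsg.Agent.S5126
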