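import Cfsg.Statements.S5086
import Cfsg.Agent.S5080
import Cfsg.Agent.S5087
import Cfsg.Agent.Lib.Helper89.NormalCrit

set_option autoImplicit false
open Cfsg

namespace Cfsg.Agent.S5086

open Cfsg.FusionSystem Cfsg.Agent.Lib

/-- In a saturated fusion system over a finite p-group, a subgroup Q is normal in the system if and only if Q is strongly closed in the system and is contained in every centric-radical subgroup. -/
theorem result {Ω : Type*} [Group Ω] {S : Subgroup Ω} [Finite S] (p : ℕ) [Fact p.Prime] (hS : IsPGroup p S) (F : Cfsg.FusionSystem S) (hF : F.IsSaturated p) (Q : Subgroup Ω) : F.IsNormal Q ↔ (F.StronglyClosed Q ∧ ∀ P : Subgroup Ω, F.IsCentric P → F.IsRadical p P → Q ≤ P) := by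
  constructor
  · intro hQ
    exact ⟨Helper89.IsNormal.stronglyClosed hQ, fun P hcen hrad =>
      Helper89.IsNormal.le_of_centric_radical hS hQ hcen hrad⟩
  · rintro ⟨hsc, hle⟩
    rw [Cfsg.Agent.S5087.result p hS F hF Q]
    intro P hP
    have hPS : P ≤ S := by
      rcases hP with rfl | hess
      · exact le_rfl
      · exact hess.1.1
    refine ⟨?_, fun α hα => Helper89.stronglyClosed_map_aut_eq hsc hPS α hα⟩
    rcases hP with rfl | hess
    · exact hsc.1
    · exact hle P hess.1 (Cfsg.Agent.S5080.result p hS F hF P hess)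

end Cfsg.Agent.S5086
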