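import Cfsg.Statements.S5084
import Cfsg.Agent.Lib.Helper87.FusionNormalizer
import Cfsg.Agent.Lib.Helper87.FusionAut
import Cfsg.Agent.S5082

set_option autoImplicit false
open Cfsg

namespace Cfsg.Agent.S5084

open Cfsg.Agent.Lib.Helper87 Cfsg.FusionSystem

/-- Transport of a fusion system along an equality of the underlying subgroups. -/
def castSys {Ω : Type*} [Group Ω] {T S : Subgroup Ω} (h : T = S) (E : FusionSystem T) :
    FusionSystem S := h ▸ E

theorem castSys_hom {Ω : Type*} [Group Ω] {T S : Subgroup Ω} (h : T = S) (E : FusionSystem T)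
    (P : Subgroup Ω) : (castSys h E).Hom P = E.Hom P := by
  subst h
  rfl

/-- In a saturated fusion system over a finite p-group S, a subgroup Q is central in the system if and only if Q ≤ S and no element of Q is conjugate in the system to any element other than itself. -/
theorem result {Ω : Type*} [Group Ω] {S : Subgroup Ω} [Finite S] (p : ℕ) [Fact p.Prime] (hS : IsPGroup p S) (F : Cfsg.FusionSystem S) (hF : F.IsSaturated p) (Q : Subgroup Ω) : F.IsCentral Q ↔ (Q ≤ S ∧ ∀ x ∈ Q, ∀ y : Ω, F.IsConjElt x y → y = x) := by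
  constructor
  · rintro ⟨hQS, hQ⟩
    refine ⟨hQS, fun x hx y hxy => ?_⟩
    obtain ⟨φ, hφ, hφx⟩ := hxy
    obtain ⟨ψ, -, hψφ, hψQ⟩ := hQ _ φ hφ
    have h1 := hψφ ⟨x, Subgroup.mem_zpowers x⟩
    have h2 := hψQ ⟨x, hx⟩
    rw [hφx] at h1
    have e : Subgroup.inclusion (le_sup_left : Subgroup.zpowers x ≤ Subgroup.zpowers x ⊔ Q)
        ⟨x, Subgroup.mem_zpowers x⟩ =
        Subgroup.inclusion (le_sup_right : Q ≤ Subgroup.zpowers x ⊔ Q) ⟨x, hx⟩ := Subtype.ext rfl
    rw [e, h2] at h1
    exact h1.symm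
  · rintro ⟨hQS, hsing⟩
    -- elements of Q are fixed by every F-map defined at them
    have hfix : ∀ (P : Subgroup Ω) (φ : P →* Ω), φ ∈ F.Hom P → ∀ x : P, (x : Ω) ∈ Q → φ x = x := by
      intro P φ hφ x hx
      have hle : Subgroup.zpowers (x : Ω) ≤ P := by
        rw [Subgroup.zpowers_le]; exact x.2
      have h1 := restrict_mem F hle hφ
      exact hsing x hx _ ⟨_, h1, rfl⟩
    -- Q is central in S
    have hZ : ∀ s ∈ S, ∀ x ∈ Q, x * s = s * x := by
      intro s hs x hx
      have h1 := hfix Q (conjHom Q s) (F.conj_mem hQS hs) ⟨x, hx⟩ hx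
      have h2 : s * x * s⁻¹ = x := h1
      conv_lhs => rw [← h2]
      group
    have hN : centralizerIn S Q = S := by
      apply le_antisymm (centralizerIn_le S Q)
      intro s hs
      exact mem_centralizerIn.mpr ⟨hs, hZ s hs⟩
    let E : FusionSystem S := castSys hN (centralizerSystem F Q hQS)
    have hEhom : ∀ P : Subgroup Ω, E.Hom P = F.centralizerHom Q P := fun P => castSys_hom hN _ P
    have hFE : F ≤ E := by
      apply Cfsg.Agent.S5082.result p hS F hF E
      intro P hP α hα
      have hPS : P ≤ S := by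
        rcases hP with rfl | hess
        · exact le_rfl
        · exact hess.1.1
      have hQP : Q ≤ P := by
        rcases hP with rfl | hess
        · exact hQS
        · have hc := hess.1.2 P (isConj_refl F hPS)
          intro x hx
          apply hc
          rw [mem_centralizerIn]
          exact ⟨hQS hx, fun y hy => (hZ y (hPS hy) x hx).symm⟩
      rw [mem_autGroup_iff E hPS, hEhom]
      have hφ := (mem_autGroup_iff F hPS).mp hα
      have hsup : P ⊔ Q = P := sup_eq_left.mpr hQP
      have hPN : P ≤ centralizerIn S Q := by rw [hN]; exact hPS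
      refine ⟨hφ, hPN, fun x => hPN (α x).2, _, cast_mem F hsup hφ, fun x => rfl, fun x => ?_⟩
      exact hfix P _ hφ ⟨x, hQP x.2⟩ x.2
    refine ⟨hQS, fun P φ hφ => ?_⟩
    have h1 : φ ∈ E.Hom P := hFE P hφ
    rw [hEhom] at h1
    obtain ⟨-, -, -, ψ, hψ, h2, h3⟩ := h1
    exact ⟨ψ, hψ, h2, h3⟩

end Cfsg.Agent.S5084
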