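import Cfsg.Statements.S0638
import Cfsg.Agent.S0636
import Cfsg.Agent.Lib.Helper15.CycMax
-- import your own Cfsg.Agent.* helpers here

set_option autoImplicit false
open Cfsg

namespace Cfsg.Agent.S0638

open Cfsg.Agent.Lib.Helper15 in
/-- For odd p, in a non-cyclic metacyclic p-group the elements of order dividing p generate an elementary abelian subgroup of order p². -/
theorem result {R : Type*} [Group R] [Finite R] {p : ℕ} [Fact p.Prime] (hp : p ≠ 2) (hR : IsPGroup p R) (hm : Cfsg.IsMetacyclic R) (hnc : ¬ IsCyclic R) : Cfsg.IsElementaryAbelian p (Cfsg.omegaOne p (⊤ : Subgroup R)) ∧ Nat.card ↥(Cfsg.omegaOne p (⊤ : Subgroup R)) = p ^ 2 := by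
  have hpp : p.Prime := Fact.out
  obtain ⟨N, hNn, hNc, hQc⟩ := hm
  have hncyc : ¬ IsCyclic (⊤ : Subgroup R) := by
    intro hcyc
    exact hnc (isCyclic_of_surjective (⊤ : Subgroup R).subtype (by
      intro g; exact ⟨⟨g, Subgroup.mem_top g⟩, rfl⟩))
  obtain ⟨A, -, hAn, ⟨hAcomm, hAexp⟩, hAcard⟩ := Cfsg.Agent.S0636.result hp hR ⊤ hncyc
  obtain ⟨q0, hq0⟩ := hQc.exists_generator
  have hQp : IsPGroup p (R ⧸ N) := hR.to_quotient N
  obtain ⟨m, hm⟩ := (IsPGroup.iff_orderOf.mp hQp) q0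
  have hm1 : 1 ≤ m := by
    by_contra hm0
    have hm00 : m = 0 := by omega
    subst hm00
    rw [pow_zero, orderOf_eq_one_iff] at hm
    have hNtop : N = ⊤ := by
      rw [eq_top_iff]; intro x _
      rw [← QuotientGroup.eq_one_iff]
      obtain ⟨i, hi⟩ := hq0 (x : R ⧸ N)
      rw [← hi, hm]
      exact one_zpow i
    apply hnc
    rw [hNtop] at hNc
    exact isCyclic_of_surjective (⊤ : Subgroup R).subtype (by
      intro g; exact ⟨⟨g, Subgroup.mem_top g⟩, rfl⟩)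
  obtain ⟨Q1, hQ1⟩ : ∃ Q1 : Subgroup (R ⧸ N), Q1 = Subgroup.zpowers (q0 ^ (p ^ (m - 1))) := ⟨_, rfl⟩
  have hQ1card : Nat.card Q1 = p := by rw [hQ1]; exact card_zpowers_pow_prime hm1 hm
  obtain ⟨R1, hR1⟩ : ∃ R1 : Subgroup R, R1 = Q1.comap (QuotientGroup.mk' N) := ⟨_, rfl⟩
  have hNR1 : N ≤ R1 := by
    intro x hx
    rw [hR1]
    show (QuotientGroup.mk' N x) ∈ Q1
    rw [QuotientGroup.mk'_apply, (QuotientGroup.eq_one_iff x).mpr hx]
    exact Q1.one_mem
  have hrel : N.relIndex R1 = p := by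
    calc N.relIndex R1
        = ((⊥ : Subgroup (R ⧸ N)).comap (QuotientGroup.mk' N)).relIndex R1 := by
          rw [MonoidHom.comap_bot, QuotientGroup.ker_mk']
      _ = (⊥ : Subgroup (R ⧸ N)).relIndex (R1.map (QuotientGroup.mk' N)) :=
          Subgroup.relIndex_comap _ _ _
      _ = Nat.card Q1 := by
          rw [hR1, Subgroup.map_comap_eq_self_of_surjective (QuotientGroup.mk'_surjective N),
            Subgroup.relIndex_bot_left]
      _ = p := hQ1card
  have hΩR1 : ∀ x : R, x ^ p = 1 → x ∈ R1 := by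
    intro x hx
    rw [hR1]
    show (QuotientGroup.mk' N x) ∈ Q1
    rw [hQ1]
    apply mem_zpowers_pow_of_pow_eq_one hm1 hm (hq0 _)
    rw [← map_pow, hx, map_one]
  have hcore : ∀ x y : R1, (x * y) ^ p = x ^ p * y ^ p := by
    have : (N.subgroupOf R1).Normal := inferInstance
    apply mul_pow_prime_of_cyclic_index hp (hR.to_subgroup R1) (N.subgroupOf R1) ?_ hrel
    exact (Subgroup.subgroupOfEquivOfLe hNR1).isCyclic.mpr hNc
  let W : Subgroup R :=
    { carrier := {x | x ∈ R1 ∧ x ^ p = 1}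
      mul_mem' := by
        rintro x y ⟨hx1, hxp⟩ ⟨hy1, hyp⟩
        refine ⟨R1.mul_mem hx1 hy1, ?_⟩
        have h1 := hcore ⟨x, hx1⟩ ⟨y, hy1⟩
        have h2 := congrArg Subtype.val h1
        simp only [Subgroup.coe_pow, Subgroup.coe_mul] at h2
        rw [h2, hxp, hyp, one_mul]
      one_mem' := ⟨R1.one_mem, one_pow p⟩
      inv_mem' := by
        rintro x ⟨hx1, hxp⟩
        exact ⟨R1.inv_mem hx1, by rw [inv_pow, hxp, inv_one]⟩ }
  have hWmem : ∀ x, x ∈ W ↔ x ∈ R1 ∧ x ^ p = 1 := fun x => Iff.rfl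
  have hAW : A ≤ W := fun x hx => ⟨hΩR1 x (hAexp x hx), hAexp x hx⟩
  have hWcard : Nat.card W ≤ p ^ 2 := by
    have h1 := Subgroup.relIndex_inf_mul_relIndex (⊥ : Subgroup R) N W
    rw [bot_inf_eq, Subgroup.relIndex_bot_left, Subgroup.relIndex_bot_left] at h1
    have hWR1 : W ≤ R1 := fun x hx => hx.1
    have h2 : N.relIndex W ≤ p := by
      rw [← hrel]
      exact Subgroup.relIndex_le_of_le_right hWR1 (by rw [hrel]; exact hpp.ne_zero)
    have h3 : Nat.card (N ⊓ W : Subgroup R) ≤ p :=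
      card_le_of_le_cyclic_of_exp hR N hNc (N ⊓ W) inf_le_left (fun x hx => hx.2.2)
    rw [← h1, pow_two]
    exact Nat.mul_le_mul h3 h2
  have hWA : A = W := Subgroup.eq_of_le_of_card_ge hAW (by rw [hAcard]; exact hWcard)
  have hΩ : Cfsg.omegaOne p (⊤ : Subgroup R) = W := by
    unfold Cfsg.omegaOne
    apply le_antisymm
    · rw [Subgroup.closure_le]
      rintro x ⟨-, hx⟩
      exact ⟨hΩR1 x hx, hx⟩
    · intro x hx
      exact Subgroup.subset_closure ⟨Subgroup.mem_top x, hx.2⟩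
  rw [hΩ, ← hWA]
  exact ⟨⟨hAcomm, hAexp⟩, hAcard⟩

end Cfsg.Agent.S0638
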