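import Cfsg.Statements.S1447
import Cfsg.Agent.Lib.Helper68.MetaActC
import Cfsg.Agent.Lib.Helper68.MetaSub
import Cfsg.Agent.S0638

set_option autoImplicit false
open Cfsg

namespace Cfsg.Agent.S1447


open Subgroup
open scoped commutatorElement
open Cfsg.Agent.Lib.Helper68

/-- In a non-cyclic... : a subgroup `X` of the metacyclic `p`-group `R` (`p` odd) meeting a nontrivial
subgroup `Y` of `R` trivially is cyclic. -/
theorem cyc_of_disjoint {G : Type*} [Group G] [Finite G] (p : ℕ) [Fact p.Prime] (hp : p ≠ 2)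
    (R : Subgroup G) (hR : IsPGroup p R) (hRm : Cfsg.IsMetacyclic R) (X Y : Subgroup G)
    (hXR : X ≤ R) (hYR : Y ≤ R) (hXY : X ⊓ Y = ⊥) (hY : Y ≠ ⊥) : IsCyclic ↥X := by
  have hpp : p.Prime := Fact.out
  by_contra hnc
  have hXp : IsPGroup p X := hR.to_le hXR
  have hXm : Cfsg.IsMetacyclic ↥X := MA.isMetacyclic_of_le hXR hRm
  have hRnc : ¬ IsCyclic ↥R := fun h => hnc (Subgroup.isCyclic_of_le hXR)
  have h1 := (Cfsg.Agent.S0638.result hp hXp hXm hnc).2
  have h2 := (Cfsg.Agent.S0638.result hp hR hRm hRnc).2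
  have hle : (Cfsg.omegaOne p (⊤ : Subgroup ↥X)).map (Subgroup.inclusion hXR) ≤
      Cfsg.omegaOne p (⊤ : Subgroup ↥R) := by
    rw [map_le_iff_le_comap]
    unfold Cfsg.omegaOne
    rw [closure_le]
    rintro x ⟨-, hx⟩
    rw [SetLike.mem_coe, mem_comap]
    apply Subgroup.subset_closure
    exact ⟨mem_top _, by rw [← map_pow, hx, map_one]⟩
  have heq : (Cfsg.omegaOne p (⊤ : Subgroup ↥X)).map (Subgroup.inclusion hXR) =
      Cfsg.omegaOne p (⊤ : Subgroup ↥R) := by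
    apply Subgroup.eq_of_le_of_card_ge hle
    rw [Subgroup.card_map_of_injective (Subgroup.inclusion_injective hXR), h1, h2]
  -- an element of order p in Y
  have hYp : IsPGroup p Y := hR.to_le hYR
  obtain ⟨k, hk⟩ := IsPGroup.iff_card.mp hYp
  have hk0 : k ≠ 0 := by
    intro h0
    rw [h0, pow_zero, Subgroup.card_eq_one] at hk
    exact hY hk
  have hdvd : p ∣ Nat.card ↥Y := by rw [hk]; exact dvd_pow_self p hk0
  obtain ⟨y, hy⟩ := exists_prime_orderOf_dvd_card' p hdvd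
  have hyp : (y : G) ^ p = 1 := by
    have : y ^ p = 1 := by rw [← hy]; exact pow_orderOf_eq_one y
    have := congrArg Subtype.val this
    simpa using this
  have hy1 : (y : G) ≠ 1 := by
    intro h
    have : y = 1 := Subtype.ext h
    rw [this, orderOf_one] at hy
    exact hpp.one_lt.ne hy
  have hymem : (⟨y, hYR y.2⟩ : ↥R) ∈ Cfsg.omegaOne p (⊤ : Subgroup ↥R) := by
    apply Subgroup.subset_closure
    exact ⟨mem_top _, Subtype.ext (by simpa using hyp)⟩
  rw [← heq] at hymem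
  obtain ⟨x, -, hx⟩ := hymem
  have hxy : (x : G) = y := congrArg Subtype.val hx
  have : (y : G) ∈ X ⊓ Y := ⟨hxy ▸ x.2, y.2⟩
  rw [hXY, mem_bot] at this
  exact hy1 this

/-- Let G be a finite group, p an odd prime, R a metacyclic p-subgroup and A a subgroup of order coprime to p normalizing R. Then [R, A] is abelian; R is generated by [R, A] and R ∩ C_G(A), which meet trivially; and if R is non-abelian and A does not centralize R, then [R, A] and R ∩ C_G(A) are nontrivial cyclic groups and [R, R] ≤ [R, A]. -/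
theorem result {G : Type*} [Group G] [Finite G] (p : ℕ) [Fact p.Prime] (hp : p ≠ 2) (R A : Subgroup G) (hR : IsPGroup p R) (hRm : Cfsg.IsMetacyclic R)
    (hA : (A ≤ Subgroup.normalizer (R : Set G))) (hcop : (Nat.card A).Coprime p) :
    IsMulCommutative ↥⁅R, A⁆ ∧ ⁅R, A⁆ ⊔ (R ⊓ Subgroup.centralizer (A : Set G)) = R ∧ ⁅R, A⁆ ⊓ (R ⊓ Subgroup.centralizer (A : Set G)) = ⊥ ∧
      (¬ IsMulCommutative R → ¬ A ≤ Subgroup.centralizer (R : Set G) →
        ⁅R, A⁆ ≠ ⊥ ∧ IsCyclic ↥⁅R, A⁆ ∧ (R ⊓ Subgroup.centralizer (A : Set G)) ≠ ⊥ ∧ IsCyclic ↥(R ⊓ Subgroup.centralizer (A : Set G)) ∧ ⁅R, R⁆ ≤ ⁅R, A⁆) := by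
  have hpp : p.Prime := Fact.out
  obtain ⟨n, hn⟩ := IsPGroup.iff_card.mp hR
  have hcopAR : (Nat.card A).Coprime (Nat.card R) := by rw [hn]; exact hcop.pow_right n
  have hcopRA : (Nat.card R).Coprime (Nat.card A) := hcopAR.symm
  have hsolvR : Group.IsSolvable R := by
    have : Group.IsNilpotent R := hR.isNilpotent
    infer_instance
  have hTR : ⁅R, A⁆ ≤ R := le_normalizer_iff_commutator_le_left.mp hA
  have hAT : A ≤ normalizer ((⁅R, A⁆ : Subgroup G) : Set G) := normalizer_commutator_ge_right R A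
  have hRT : R ≤ normalizer ((⁅R, A⁆ : Subgroup G) : Set G) := normalizer_commutator_ge_left R A
  have hTA : ⁅⁅R, A⁆, A⁆ = ⁅R, A⁆ :=
    MA.commutator_commutator_eq_self R A hA hcopRA (Or.inl hsolvR)
  have hTp : IsPGroup p (⁅R, A⁆ : Subgroup G) := hR.to_le hTR
  have hTm : Cfsg.IsMetacyclic ↥(⁅R, A⁆ : Subgroup G) := MA.isMetacyclic_of_le hTR hRm
  have hTT : ⁅⁅R, A⁆, ⁅R, A⁆⁆ = ⊥ :=
    MA.abelian_of_commutator_eq hp ⁅R, A⁆ A hTp hTm hAT hcop hTA
  have hTcomm : IsMulCommutative ↥(⁅R, A⁆ : Subgroup G) :=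
    le_centralizer_iff_isMulCommutative.mp (commutator_eq_bot_iff_le_centralizer.mp hTT)
  have hdec := Cfsg.Agent.Lib.Helper32.le_centralizer_sup_commutator hA hcopRA (Or.inl hsolvR)
  have h2 : ⁅R, A⁆ ⊔ (R ⊓ Subgroup.centralizer (A : Set G)) = R :=
    le_antisymm (sup_le hTR inf_le_left) (hdec.trans (by rw [sup_comm]))
  have hcopAT : (Nat.card A).Coprime (Nat.card (⁅R, A⁆ : Subgroup G)) :=
    hcopAR.coprime_dvd_right (card_dvd_of_le hTR)
  have h3 : ⁅R, A⁆ ⊓ (R ⊓ Subgroup.centralizer (A : Set G)) = ⊥ := by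
    rw [eq_bot_iff, ← hTT]
    apply Cfsg.Agent.Lib.Helper66.le_commutator_of_centralized ⁅R, A⁆ A _ hAT hTA hcopAT inf_le_left
    rw [commutator_eq_bot_iff_le_centralizer]
    exact inf_le_right.trans inf_le_right
  refine ⟨hTcomm, h2, h3, ?_⟩
  intro hRna hAnc
  have hT0 : ⁅R, A⁆ ≠ ⊥ := by
    intro h
    apply hAnc
    rw [le_centralizer_iff, ← commutator_eq_bot_iff_le_centralizer]
    exact h
  have hC0 : R ⊓ Subgroup.centralizer (A : Set G) ≠ ⊥ := by
    intro h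
    apply hRna
    rw [h, sup_bot_eq] at h2
    rw [MC.isMulCommutative_iff]
    intro g hg k hk
    rw [← h2] at hg hk
    exact (MC.isMulCommutative_iff _).mp hTcomm g hg k hk
  have hTcyc : IsCyclic ↥(⁅R, A⁆ : Subgroup G) :=
    cyc_of_disjoint p hp R hR hRm _ _ hTR inf_le_left h3 hC0
  have hCcyc : IsCyclic ↥(R ⊓ Subgroup.centralizer (A : Set G)) :=
    cyc_of_disjoint p hp R hR hRm _ _ inf_le_left hTR (by rw [inf_comm]; exact h3) hT0
  refine ⟨hT0, hTcyc, hC0, hCcyc, ?_⟩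
  -- `R' ≤ [R, A]`
  have hCcomm : ∀ c ∈ R ⊓ Subgroup.centralizer (A : Set G),
      ∀ y ∈ R ⊓ Subgroup.centralizer (A : Set G), c * y = y * c := by
    intro c hc y hy
    have h := @mul_comm _ (IsCyclic.commGroup (α := ↥(R ⊓ Subgroup.centralizer (A : Set G)))).toCommMagma
      ⟨c, hc⟩ ⟨y, hy⟩
    exact congrArg Subtype.val h
  have hconjT : ∀ r ∈ R, ∀ t ∈ (⁅R, A⁆ : Subgroup G), r * t * r⁻¹ ∈ (⁅R, A⁆ : Subgroup G) :=
    fun r hr t ht => (mem_normalizer_iff.mp (hRT hr) t).mp ht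
  have hTr : ∀ t ∈ (⁅R, A⁆ : Subgroup G), ∀ r ∈ R, ⁅t, r⁆ ∈ (⁅R, A⁆ : Subgroup G) := by
    intro t ht r hr
    have e : ⁅t, r⁆ = t * (r * t⁻¹ * r⁻¹) := by rw [commutatorElement_def]; group
    rw [e]
    exact mul_mem ht (hconjT r hr _ (inv_mem ht))
  have hstep1 : R ≤ MA.centMod ⁅R, A⁆ (R ⊓ Subgroup.centralizer (A : Set G)) := by
    refine (le_of_eq h2.symm).trans (sup_le ?_ ?_)
    · intro t ht
      exact ⟨le_normalizer ht, fun y hy => hTr t ht y hy.1⟩
    · intro c hc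
      refine ⟨hRT hc.1, fun y hy => ?_⟩
      have : ⁅c, y⁆ = 1 := by
        rw [commutatorElement_eq_one_iff_commute]; exact hCcomm c hc y hy
      rw [this]; exact one_mem _
  have hstep2 : R ≤ MA.centMod ⁅R, A⁆ R := by
    refine (le_of_eq h2.symm).trans (sup_le ?_ ?_)
    · intro t ht
      exact ⟨le_normalizer ht, fun r hr => hTr t ht r hr⟩
    · intro c hc
      refine ⟨hRT hc.1, fun r hr => ?_⟩
      rw [← commutatorElement_inv]
      exact inv_mem ((hstep1 hr).2 c hc)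
  exact MA.commutator_le_of_le_centMod hstep2

end Cfsg.Agent.S1447
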