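import Cfsg.Statements.S3305

set_option autoImplicit false
open Cfsg

namespace Cfsg.Agent.S3305

open scoped Pointwise

/-- Sylow's theorem inside a subgroup `A`: a `p`-subgroup `Q ≤ A` lies in an `A`-conjugate of any
Sylow `p`-subgroup `P ≤ A` of `G`. -/
theorem exists_le_smul_sylow {G : Type*} [Group G] [Finite G] {p : ℕ} [Fact p.Prime]
    (P : Sylow p G) (A Q : Subgroup G) (hPA : (P : Subgroup G) ≤ A) (hQ : IsPGroup p ↥Q) (hQA : Q ≤ A) :
    ∃ a : G, a ∈ A ∧ Q ≤ ((a • P : Sylow p G) : Subgroup G) := by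
  have hQ' : IsPGroup p ↥(Q.subgroupOf A) := hQ.comap_subtype
  obtain ⟨P', hP'⟩ := hQ'.exists_le_sylow
  obtain ⟨a, ha⟩ := MulAction.exists_smul_eq ↥A (P.subtype hPA) P'
  refine ⟨(a : G), a.2, ?_⟩
  intro q hq
  have h1 : (⟨q, hQA hq⟩ : ↥A) ∈ Q.subgroupOf A := by
    rw [Subgroup.mem_subgroupOf]; exact hq
  have h2 : (⟨q, hQA hq⟩ : ↥A) ∈ (P' : Subgroup ↥A) := hP' h1
  rw [← ha, Sylow.smul_subtype hPA a] at h2
  have h3 : (⟨q, hQA hq⟩ : ↥A) ∈ ((a • P : Sylow p G) : Subgroup G).subgroupOf A := h2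
  rw [Subgroup.mem_subgroupOf] at h3
  exact h3

theorem result {G : Type*} [Group G] [Finite G]
    (hC : ∀ S T : Sylow 2 G, S ≠ T → IsCyclic ↥((S : Subgroup G) ⊓ (T : Subgroup G))) (H : Subgroup G) [H.Normal] :
    ∀ S T : Sylow 2 (G ⧸ H), S ≠ T → IsCyclic ↥((S : Subgroup (G ⧸ H)) ⊓ (T : Subgroup (G ⧸ H))) := by
  intro Sbar Tbar hne
  have hπ : Function.Surjective (QuotientGroup.mk' H) := QuotientGroup.mk'_surjective H
  obtain ⟨S, hS⟩ := Sylow.mapSurjective_surjective hπ 2 Sbar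
  obtain ⟨T, hT⟩ := Sylow.mapSurjective_surjective hπ 2 Tbar
  have hS' : (S : Subgroup G).map (QuotientGroup.mk' H) = (Sbar : Subgroup (G ⧸ H)) := by
    rw [← hS, Sylow.coe_mapSurjective]
  have hT' : (T : Subgroup G).map (QuotientGroup.mk' H) = (Tbar : Subgroup (G ⧸ H)) := by
    rw [← hT, Sylow.coe_mapSurjective]
  -- the intersection and its preimage
  set Dbar : Subgroup (G ⧸ H) := (Sbar : Subgroup (G ⧸ H)) ⊓ (Tbar : Subgroup (G ⧸ H)) with hDbar
  have hDbar2 : IsPGroup 2 ↥Dbar := Sbar.isPGroup'.to_le inf_le_left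
  -- a Sylow 2-subgroup of the preimage mapping onto Dbar
  have hf : Function.Surjective ((QuotientGroup.mk' H).subgroupComap Dbar) :=
    (QuotientGroup.mk' H).subgroupComap_surjective_of_surjective Dbar hπ
  obtain ⟨Qbar⟩ : Nonempty (Sylow 2 ↥Dbar) := inferInstance
  have hQtop : (Qbar : Subgroup ↥Dbar) = ⊤ := by
    have h2 : IsPGroup 2 ↥(⊤ : Subgroup ↥Dbar) := by
      intro g
      obtain ⟨k, hk⟩ := hDbar2 g.1
      exact ⟨k, Subtype.ext hk⟩
    exact (Qbar.3 h2 le_top).symm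
  obtain ⟨R₀, hR₀⟩ := Sylow.mapSurjective_surjective hf 2 Qbar
  have hR₀' : (R₀ : Subgroup _).map ((QuotientGroup.mk' H).subgroupComap Dbar) = ⊤ := by
    rw [← hQtop, ← hR₀, Sylow.coe_mapSurjective]
  set R : Subgroup G := (R₀ : Subgroup _).map (Dbar.comap (QuotientGroup.mk' H)).subtype with hR
  have hR2 : IsPGroup 2 ↥R := R₀.isPGroup'.map _
  have hRD : R ≤ Dbar.comap (QuotientGroup.mk' H) := by
    rintro _ ⟨r, _, rfl⟩
    exact r.2
  have hRmap : R.map (QuotientGroup.mk' H) = Dbar := by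
    apply le_antisymm
    · rintro _ ⟨r, hr, rfl⟩
      exact hRD hr
    · intro d hd
      have : (⟨d, hd⟩ : ↥Dbar) ∈ (R₀ : Subgroup _).map ((QuotientGroup.mk' H).subgroupComap Dbar) := by
        rw [hR₀']; trivial
      obtain ⟨r, hr, hrd⟩ := this
      refine ⟨(r : G), ⟨r, hr, rfl⟩, ?_⟩
      have := congrArg Subtype.val hrd
      exact this
  -- move S and T
  have hSA : (S : Subgroup G) ≤ (Sbar : Subgroup (G ⧸ H)).comap (QuotientGroup.mk' H) := by
    rw [← hS', ← Subgroup.map_le_iff_le_comap]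
  have hTA : (T : Subgroup G) ≤ (Tbar : Subgroup (G ⧸ H)).comap (QuotientGroup.mk' H) := by
    rw [← hT', ← Subgroup.map_le_iff_le_comap]
  have hRS : R ≤ (Sbar : Subgroup (G ⧸ H)).comap (QuotientGroup.mk' H) :=
    hRD.trans (Subgroup.comap_mono inf_le_left)
  have hRT : R ≤ (Tbar : Subgroup (G ⧸ H)).comap (QuotientGroup.mk' H) :=
    hRD.trans (Subgroup.comap_mono inf_le_right)
  obtain ⟨a, ha, hRa⟩ := exists_le_smul_sylow S _ R hSA hR2 hRS
  obtain ⟨b, hb, hRb⟩ := exists_le_smul_sylow T _ R hTA hR2 hRT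
  have himg : ∀ (P : Sylow 2 G) (Pbar : Sylow 2 (G ⧸ H)) (c : G),
      (P : Subgroup G).map (QuotientGroup.mk' H) = (Pbar : Subgroup (G ⧸ H)) →
      c ∈ (Pbar : Subgroup (G ⧸ H)).comap (QuotientGroup.mk' H) →
      ((c • P : Sylow 2 G) : Subgroup G).map (QuotientGroup.mk' H) = (Pbar : Subgroup (G ⧸ H)) := by
    intro P Pbar c hP hc
    rw [Sylow.coe_subgroup_smul]
    have : (MulAut.conj c • (P : Subgroup G)).map (QuotientGroup.mk' H)
        = MulAut.conj ((QuotientGroup.mk' H) c) • ((P : Subgroup G).map (QuotientGroup.mk' H)) := by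
      ext x
      constructor
      · rintro ⟨_, ⟨y, hy, rfl⟩, rfl⟩
        refine ⟨(QuotientGroup.mk' H) y, ⟨y, hy, rfl⟩, ?_⟩
        simp [MulAut.conj_apply]
      · rintro ⟨_, ⟨y, hy, rfl⟩, rfl⟩
        refine ⟨c * y * c⁻¹, ⟨y, hy, by simp [MulAut.conj_apply]⟩, ?_⟩
        simp [MulAut.conj_apply]
    rw [this, hP]
    exact Subgroup.conj_smul_eq_self_of_mem hc
  have hne' : (a • S : Sylow 2 G) ≠ (b • T : Sylow 2 G) := by
    intro heq
    apply hne
    apply Sylow.ext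
    rw [← himg S Sbar a hS' ha, ← himg T Tbar b hT' hb, heq]
  have := hC _ _ hne'
  have hRle : R ≤ ((a • S : Sylow 2 G) : Subgroup G) ⊓ ((b • T : Sylow 2 G) : Subgroup G) :=
    le_inf hRa hRb
  have : IsCyclic ↥R := isCyclic_of_injective (Subgroup.inclusion hRle) (Subgroup.inclusion_injective hRle)
  have : IsCyclic ↥(R.map (QuotientGroup.mk' H)) :=
    isCyclic_of_surjective ((QuotientGroup.mk' H).subgroupMap R) ((QuotientGroup.mk' H).subgroupMap_surjective R)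
  rw [hRmap] at this
  exact this

end Cfsg.Agent.S3305
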