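import Cfsg.Statements.S1211
import Cfsg.Agent.Lib.Helper27.WreathedTau
import Cfsg.Agent.Lib.Helper60.ThompsonTransfer

set_option autoImplicit false
open Cfsg

namespace Cfsg.Agent.S1211

open Cfsg.Agent.Lib.Helper27

/-- Let G be a finite group whose Sylow 2-subgroup S is wreathed of order 2^(2n+1), U the commutative subgroup of index 2 in S, Q a quaternion subgroup of order 8 of S and V = Q Z(S). If |N_G(U) : C_G(U)| = 6 and |N_G(V) : V C_G(V)| = 2, then G has a normal subgroup K of index 2 containing U (so U is a Sylow 2-subgroup of K) which has no subgroup of index 2, and G has exactly two classes of involutions. -/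
theorem result {G : Type*} [Group G] [Finite G] (S : Sylow 2 G) (hS : Cfsg.IsWreathed (S : Subgroup G)) (n : ℕ) (hn : Nat.card S = 2 ^ (2 * n + 1)) (U : Subgroup G) (hUS : U ≤ S) (hUab : IsMulCommutative U) (hUcard : Nat.card U = 2 ^ (2 * n)) (Q : Subgroup G) (hQS : Q ≤ S) (eQ : Q ≃* QuaternionGroup 2) (h₁ : (Subgroup.centralizer (U : Set G)).relIndex (Subgroup.normalizer (U : Set G)) = 6) (h₂ : ((Q ⊔ ((Subgroup.center (S : Subgroup G)).map (S : Subgroup G).subtype)) ⊔ Subgroup.centralizer ((Q ⊔ ((Subgroup.center (S : Subgroup G)).map (S : Subgroup G).subtype) : Subgroup G) : Set G)).relIndex (Subgroup.normalizer ((Q ⊔ ((Subgroup.center (S : Subgroup G)).map (S : Subgroup G).subtype) : Subgroup G) : Set G)) = 2) : (∃ K : Subgroup G, K.Normal ∧ K.index = 2 ∧ U ≤ K ∧ (∀ H : Subgroup ↥K, H.index ≠ 2)) ∧ Nat.card {C : ConjClasses G // ∃ t : G, orderOf t = 2 ∧ ConjClasses.mk t = C} = 2 := by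
  obtain ⟨m, x, y, z, h⟩ := exists_isWr hS
  have hmn : n = m := h.n_eq hn
  subst hmn
  have hU : U = h.UG := h.eq_UG U hUS hUab hUcard
  subst hU
  obtain ⟨g₁, hg₁N, hodd₁, hg₁C, hg₁3⟩ := h.exists_odd_UG h₁
  have hzu : IsConj h.zG h.uG := h.isConj_zG_uG hg₁N hodd₁ hg₁C
  have hnot : ¬ IsConj h.tG h.zG := h.not_isConj_tG_zG Q hQS eQ h₂
  -- Thompson transfer
  have hord : ∀ y ∈ (S : Subgroup G), y ∉ h.UG → 2 ^ (1 - 1) < orderOf y := by
    intro y _ hyU
    have h1 : y ≠ 1 := fun hc => hyU (hc ▸ h.UG.one_mem)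
    have h2 : orderOf y ≠ 1 := fun hc => h1 (orderOf_eq_one_iff.mp hc)
    have h3 : 0 < orderOf y := orderOf_pos y
    simp only [le_refl, Nat.sub_self, pow_zero]
    omega
  have hnc : ∀ g : G, g * h.tG * g⁻¹ ∉ h.UG := by
    intro g hc
    have h2 : orderOf (g * h.tG * g⁻¹) = 2 := by
      have : g * h.tG * g⁻¹ = MulAut.conj g h.tG := rfl
      rw [this, MulEquiv.orderOf_eq, h.orderOf_tG]
    have hcj : IsConj h.tG (g * h.tG * g⁻¹) := isConj_iff.mpr ⟨g, rfl⟩
    rcases h.involution_cases (h.UG_le hc) h2 with h3 | h3 | h3 | ⟨c, h3⟩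
    · exact hnot (h3 ▸ hcj)
    · exact hnot ((h3 ▸ hcj).trans hzu.symm)
    · apply hnot
      apply (h3 ▸ hcj).trans
      apply IsConj.trans _ hzu.symm
      rw [isConj_iff]
      exact ⟨h.QG 0 0, by rw [h.QG_conj_PG]; rfl⟩
    · rw [h3] at hc
      exact h.QG_not_mem_UG _ _ hc
  obtain ⟨K, hKn, hKi, htK⟩ := Cfsg.Agent.Lib.Helper60.thompson_transfer_general S h.UG
    h.relIndex_UG 1 le_rfl hord h.tG (by rw [h.orderOf_tG, pow_one]) hnc
  have hUK : h.UG ≤ K := h.UG_le_of_index_two hg₁N hodd₁ hg₁C hg₁3 hKi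
  refine ⟨⟨K, hKn, hKi, hUK, ?_⟩, ?_⟩
  · intro H hH
    have hg₁K : g₁ ∈ K := mem_of_odd_of_index_two hKi hodd₁
    have hoddK : Odd (orderOf (⟨g₁, hg₁K⟩ : K)) := by rw [Subgroup.orderOf_mk]; exact hodd₁
    have hWH : h.UG.subgroupOf K ≤ H := by
      apply le_of_index_two_of_fixedPointFree hH (h.UG.subgroupOf K) ?_ ?_
        (mem_of_odd_of_index_two hH hoddK) ?_ ?_ ?_
      · intro a ha b hb
        rw [Subgroup.mem_subgroupOf] at ha hb
        apply Subtype.ext
        rw [Subgroup.coe_mul, Subgroup.coe_mul]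
        exact h.UG_comm _ ha _ hb
      · intro a ha
        rw [Subgroup.mem_subgroupOf] at ha
        obtain ⟨j, hj⟩ := h.pow_eq_one_of_mem (h.UG_le ha)
        exact ⟨j, Subtype.ext (by rw [Subgroup.coe_pow, hj]; rfl)⟩
      · intro w hw
        rw [Subgroup.mem_subgroupOf] at hw ⊢
        simp only [Subgroup.coe_mul, Subgroup.coe_inv]
        exact (Subgroup.mem_normalizer_iff.mp hg₁N _).mp hw
      · intro w hw
        rw [Subgroup.mem_subgroupOf] at hw
        apply Subtype.ext
        simp only [Subgroup.coe_mul, Subgroup.coe_inv, Subgroup.coe_pow]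
        rw [Subgroup.mem_centralizer_iff] at hg₁3
        have := hg₁3 _ hw
        rw [← this]; group
      · intro w hw hfix
        rw [Subgroup.mem_subgroupOf] at hw
        apply Subtype.ext
        have h1 := congrArg Subtype.val hfix
        simp only [Subgroup.coe_mul, Subgroup.coe_inv] at h1
        exact h.fixedPointFree_UG hg₁N hodd₁ hg₁C _ hw h1
    have h1 := Subgroup.index_dvd_of_le hWH
    rw [hH] at h1
    have h2 : (h.UG.subgroupOf K).index = h.UG.relIndex K := rfl
    rw [h2] at h1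
    have h3 := Subgroup.relIndex_mul_index hUK
    have h4 := Subgroup.relIndex_mul_index h.UG_le
    rw [h.relIndex_UG] at h4
    rw [hKi, ← h4] at h3
    have h5 : h.UG.relIndex K = (S : Subgroup G).index := by omega
    rw [h5] at h1
    exact S.not_dvd_index h1
  · refine card_involution_classes ![h.zG, h.tG] ?_ ?_ ?_
    · intro i
      fin_cases i
      · exact h.orderOf_zG
      · exact h.orderOf_tG
    · intro i j hij
      fin_cases i <;> fin_cases j
      · rfl
      · exact absurd hij.symm hnot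
      · exact absurd hij hnot
      · rfl
    · intro t ht
      rcases h.involution_conj ht with h1 | h1 | h1
      · exact ⟨0, h1⟩
      · exact ⟨0, h1.trans hzu.symm⟩
      · exact ⟨1, h1⟩

end Cfsg.Agent.S1211
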