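import Cfsg.Statements.S1190
import Cfsg.Agent.Lib.Helper59.QDBridge
import Cfsg.Agent.Lib.Helper59.QDKlein

set_option autoImplicit false
open Cfsg

namespace Cfsg.Agent.S1190

open Cfsg.Agent.Lib.Helper59

lemma klein_props {S : Type*} [Group S] (T : Subgroup S) (hT : IsKleinFour T) :
    Nat.card T = 4 ∧ ∀ t ∈ T, t * t = 1 := by
  refine ⟨hT.card_four, ?_⟩
  intro t ht
  have h1 : (⟨t, ht⟩ : T) ^ Monoid.exponent T = 1 := Monoid.pow_exponent_eq_one _
  rw [hT.exponent_two, sq] at h1
  exact congrArg Subtype.val h1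

/-- In a quasi-dihedral 2-group all Klein four-subgroups are conjugate, and each is self-centralizing with normalizer of order 8. -/
theorem result {S : Type*} [Group S] [Finite S] (hS : Cfsg.IsQuasiDihedral S) : (∀ T₁ T₂ : Subgroup S, IsKleinFour T₁ → IsKleinFour T₂ → ∃ s : S, T₁.map (MulAut.conj s).toMonoidHom = T₂) ∧ (∀ T : Subgroup S, IsKleinFour T → Subgroup.centralizer (T : Set S) = T ∧ T.relIndex (Subgroup.normalizer (T : Set S)) = 2) := by
  obtain ⟨k, x, y, h⟩ := exists_QD_of_isQuasiDihedral hS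
  have hw := QD.w_pos k
  have hw0 : (2 : ℤ) ^ k ≠ 0 := by positivity
  constructor
  · intro T₁ T₂ hT₁ hT₂
    obtain ⟨h41, h21⟩ := klein_props T₁ hT₁
    obtain ⟨h42, h22⟩ := klein_props T₂ hT₂
    obtain ⟨b₁, ⟨e₁, rfl⟩, hx₁, hy₁⟩ := h.klein_desc T₁ h41 h21
    obtain ⟨b₂, ⟨e₂, rfl⟩, hx₂, hy₂⟩ := h.klein_desc T₂ h42 h22
    refine ⟨x ^ ((e₂ - e₁) * (1 + 2 * 2 ^ k)), ?_⟩
    apply Subgroup.eq_of_le_of_card_ge
    · intro g hg
      obtain ⟨t, ht, rfl⟩ := Subgroup.mem_map.mp hg
      simp only [MulEquiv.toMonoidHom_eq_coe, MonoidHom.coe_coe, MulAut.conj_apply]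
      rcases h.cases t with ⟨c, rfl⟩ | ⟨c, rfl⟩
      · rw [QD.conj_x_by_x, hx₂]
        exact (hx₁ c).mp ht
      · rw [h.conj_xy_by_x, hy₂]
        obtain ⟨f, hf⟩ := (hy₁ c).mp ht
        refine ⟨f - 2 * 2 ^ k * (e₂ - e₁), ?_⟩
        have : c = 2 * e₁ + 4 * 2 ^ k * f := by linarith
        rw [this]; ring
    · rw [Subgroup.card_map_of_injective (MulAut.conj _).injective, h41, h42]
  · intro T hT
    obtain ⟨h4, h2⟩ := klein_props T hT
    obtain ⟨b, ⟨e, rfl⟩, hx, hy⟩ := h.klein_desc T h4 h2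
    have ht₀ : x ^ (2 * e) * y ∈ T := (hy _).mpr (by simp)
    constructor
    · -- centralizer
      apply le_antisymm
      · intro g hg
        rw [Subgroup.mem_centralizer_iff] at hg
        have h1 := hg _ ht₀
        rcases h.cases g with ⟨a, rfl⟩ | ⟨a, rfl⟩
        · rw [hx]
          rw [h.mul_xy_x, QD.mul_x_xy, h.xy_eq_xy] at h1
          obtain ⟨c, hc⟩ := h1
          apply QD.dvd_of_dvd_odd_mul
          refine ⟨c, ?_⟩
          have : (2 * 2 ^ k - 1) * a * 2 = 4 * 2 ^ k * c * 2 := by linarith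
          exact mul_right_cancel₀ (by norm_num : (2 : ℤ) ≠ 0) this
        · rw [hy]
          rw [h.mul_xy_xy, h.mul_xy_xy, h.zpow_eq_zpow] at h1
          obtain ⟨c, hc⟩ := h1
          apply QD.dvd_of_dvd_odd_mul
          refine ⟨c, ?_⟩
          have : (2 * 2 ^ k - 1) * (a - 2 * e) * 2 = 4 * 2 ^ k * c * 2 := by linarith
          exact mul_right_cancel₀ (by norm_num : (2 : ℤ) ≠ 0) this
      · intro g hg
        rw [Subgroup.mem_centralizer_iff]
        intro t ht
        have h1 := h2 _ (T.mul_mem ht hg)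
        have h3 := h2 _ ht
        have h5 := h2 _ hg
        have hgi : g⁻¹ = g := inv_eq_of_mul_eq_one_right h5
        have hti : t⁻¹ = t := inv_eq_of_mul_eq_one_right h3
        have htgi : (t * g)⁻¹ = t * g := inv_eq_of_mul_eq_one_right h1
        calc t * g = (t * g)⁻¹ := htgi.symm
          _ = g⁻¹ * t⁻¹ := mul_inv_rev t g
          _ = g * t := by rw [hgi, hti]
    · -- normalizer index
      rw [Subgroup.relIndex_eq_two_iff]
      refine ⟨x ^ (2 * 2 ^ k : ℤ), ?_, ?_⟩
      · rw [Subgroup.mem_normalizer_iff]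
        intro t
        rcases h.cases t with ⟨c, rfl⟩ | ⟨c, rfl⟩
        · rw [QD.conj_x_by_x]
        · rw [h.conj_xy_by_x, hy, hy]
          have : c + (2 - 4 * 2 ^ k) * (2 * 2 ^ k) - 2 * e = (c - 2 * e) + 4 * 2 ^ k * (1 - 2 * 2 ^ k) := by
            ring
          rw [this]
          exact (dvd_add_left (Dvd.intro _ rfl)).symm
      · intro g hg
        rw [Subgroup.mem_normalizer_iff] at hg
        have h1 := (hg _).mp ht₀
        rcases h.cases g with ⟨a, rfl⟩ | ⟨a, rfl⟩
        · rw [h.conj_xy_by_x, hy] at h1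
          have h3 : (2 * 2 ^ k : ℤ) ∣ a := by
            apply QD.half_dvd
            obtain ⟨c, hc⟩ := h1
            exact ⟨c + a, by linarith⟩
          obtain ⟨f, rfl⟩ := h3
          rw [← zpow_add, hx, hx]
          have e1 : (2 * 2 ^ k * f + 2 * 2 ^ k : ℤ) = 2 * 2 ^ k * (f + 1) := by ring
          have e2 : (4 * 2 ^ k : ℤ) = 2 * 2 ^ k * 2 := by ring
          rw [e1, e2, mul_dvd_mul_iff_left (by positivity), mul_dvd_mul_iff_left (by positivity)]
          rcases Int.even_or_odd' f with ⟨d, rfl | rfl⟩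
          · right
            constructor
            · exact ⟨d, by ring⟩
            · rintro ⟨c, hc⟩; omega
          · left
            constructor
            · exact ⟨d + 1, by ring⟩
            · rintro ⟨c, hc⟩; omega
        · rw [h.conj_xy_by_xy, hy] at h1
          have h3 : (2 * 2 ^ k : ℤ) ∣ a - 2 * e := by
            apply QD.half_dvd
            obtain ⟨c, hc⟩ := h1
            exact ⟨c + (a - 2 * e), by linarith⟩
          obtain ⟨f, hf⟩ := h3
          have ha : a = 2 * e + 2 * 2 ^ k * f := by linarith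
          rw [h.mul_xy_x, hy, hy, ha]
          have e1 : (2 * e + 2 * 2 ^ k * f + (4 * 2 ^ k - 1) * (2 * 2 ^ k) - 2 * e : ℤ) =
              2 * 2 ^ k * (f - 1 + 4 * 2 ^ k) := by ring
          have e3 : (2 * e + 2 * 2 ^ k * f - 2 * e : ℤ) = 2 * 2 ^ k * f := by ring
          have e2 : (4 * 2 ^ k : ℤ) = 2 * 2 ^ k * 2 := by ring
          rw [e1, e3, e2, mul_dvd_mul_iff_left (by positivity), mul_dvd_mul_iff_left (by positivity)]
          rcases Int.even_or_odd' f with ⟨d, rfl | rfl⟩
          · right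
            constructor
            · exact ⟨d, by ring⟩
            · rintro ⟨c, hc⟩; omega
          · left
            constructor
            · exact ⟨d + 2 * 2 ^ k, by ring⟩
            · rintro ⟨c, hc⟩; omega

end Cfsg.Agent.S1190
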