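import Cfsg.Statements.S1191
import Cfsg.Agent.Lib.Helper59.QDBridge
import Cfsg.Agent.Lib.Helper59.QDQuat

set_option autoImplicit false
open Cfsg

namespace Cfsg.Agent.S1191

open Cfsg.Agent.Lib.Helper59

/-- In a quasi-dihedral 2-group all quaternion subgroups of order 8 are conjugate, and each such Q satisfies C_S(Q) = Z(Q) and the index of Q in N_S(Q) = 2. -/
theorem result {S : Type*} [Group S] [Finite S] (hS : Cfsg.IsQuasiDihedral S) : (∀ Q₁ Q₂ : Subgroup S, Nonempty (Q₁ ≃* QuaternionGroup 2) → Nonempty (Q₂ ≃* QuaternionGroup 2) → ∃ s : S, Q₁.map (MulAut.conj s).toMonoidHom = Q₂) ∧ (∀ Q : Subgroup S, Nonempty (Q ≃* QuaternionGroup 2) → Subgroup.centralizer (Q : Set S) = (Subgroup.center Q).map Q.subtype ∧ Q.relIndex (Subgroup.normalizer (Q : Set S)) = 2) := by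
  obtain ⟨k, x, y, h⟩ := exists_QD_of_isQuasiDihedral hS
  have hw := QD.w_pos k
  have hw0 : (2 : ℤ) ^ k ≠ 0 := by positivity
  constructor
  · rintro Q₁ Q₂ ⟨e₁⟩ ⟨e₂⟩
    have hc1 : Nat.card Q₁ = 8 := by rw [Nat.card_congr e₁.toEquiv, q8_card]
    have hc2 : Nat.card Q₂ = 8 := by rw [Nat.card_congr e₂.toEquiv, q8_card]
    obtain ⟨f₁, hx₁, hy₁⟩ := h.quat_desc Q₁ e₁
    obtain ⟨f₂, hx₂, hy₂⟩ := h.quat_desc Q₂ e₂
    refine ⟨x ^ ((f₂ - f₁) * (1 + 2 * 2 ^ k)), ?_⟩
    apply Subgroup.eq_of_le_of_card_ge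
    · intro g hg
      obtain ⟨t, ht, rfl⟩ := Subgroup.mem_map.mp hg
      simp only [MulEquiv.toMonoidHom_eq_coe, MonoidHom.coe_coe, MulAut.conj_apply]
      rcases h.cases t with ⟨c, rfl⟩ | ⟨c, rfl⟩
      · rw [QD.conj_x_by_x, hx₂]
        exact (hx₁ c).mp ht
      · rw [h.conj_xy_by_x, hy₂]
        obtain ⟨r, hr⟩ := (hy₁ c).mp ht
        refine ⟨r - 4 * 2 ^ k * (f₂ - f₁), ?_⟩
        have : c = (2 * f₁ + 1) + 2 * 2 ^ k * r := by linarith
        rw [this]; ring
    · rw [Subgroup.card_map_of_injective (MulAut.conj _).injective, hc1, hc2]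
  · rintro Q ⟨e⟩
    obtain ⟨f, hx, hy⟩ := h.quat_desc Q e
    have ht₀ : x ^ (2 * f + 1) * y ∈ Q := (hy _).mpr (by simp)
    have hu : x ^ (2 * 2 ^ k : ℤ) ∈ Q := (hx _).mpr dvd_rfl
    -- both sides equal {x^a : 4w ∣ a}
    have hC : ∀ g : S, g ∈ Subgroup.centralizer (Q : Set S) ↔ ∃ a : ℤ, (4 * 2 ^ k : ℤ) ∣ a ∧ g = x ^ a := by
      intro g
      constructor
      · intro hg
        rw [Subgroup.mem_centralizer_iff] at hg
        rcases h.cases g with ⟨a, rfl⟩ | ⟨a, rfl⟩
        · refine ⟨a, ?_, rfl⟩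
          have h1 := hg _ ht₀
          rw [h.mul_xy_x, QD.mul_x_xy, h.xy_eq_xy] at h1
          obtain ⟨c, hc⟩ := h1
          apply QD.dvd_of_dvd_odd_mul
          refine ⟨c, ?_⟩
          have : (2 * 2 ^ k - 1) * a * 2 = 4 * 2 ^ k * c * 2 := by linarith
          exact mul_right_cancel₀ (by norm_num : (2 : ℤ) ≠ 0) this
        · exfalso
          have h1 := hg _ hu
          rw [QD.mul_x_xy, h.mul_xy_x, h.xy_eq_xy] at h1
          obtain ⟨c, hc⟩ := h1
          -- 2w + a - (a + (4w-1) 2w) = 4w - 8w² = 8w c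
          have h3 : (2 : ℤ) ^ k * (4 - 8 * 2 ^ k - 8 * c) = 0 := by linarith
          rcases mul_eq_zero.mp h3 with h4 | h4
          · exact hw0 h4
          · omega
      · rintro ⟨a, ha, rfl⟩
        rw [Subgroup.mem_centralizer_iff]
        intro t _
        exact h.central_of_dvd a ha t
    constructor
    · ext g
      rw [hC]
      constructor
      · rintro ⟨a, ha, rfl⟩
        rw [Subgroup.mem_map]
        have hmem : x ^ a ∈ Q := (hx a).mpr (dvd_trans ⟨2, by ring⟩ ha)
        refine ⟨⟨x ^ a, hmem⟩, ?_, rfl⟩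
        rw [Subgroup.mem_center_iff]
        intro q
        apply Subtype.ext
        exact h.central_of_dvd a ha q.1
      · intro hg
        obtain ⟨q, hq, rfl⟩ := Subgroup.mem_map.mp hg
        rw [← hC, Subgroup.mem_centralizer_iff]
        intro t ht
        rw [Subgroup.mem_center_iff] at hq
        have := hq ⟨t, ht⟩
        exact congrArg Subtype.val this
    · rw [Subgroup.relIndex_eq_two_iff]
      refine ⟨x ^ ((2 : ℤ) ^ k), ?_, ?_⟩
      · rw [Subgroup.mem_normalizer_iff]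
        intro t
        rcases h.cases t with ⟨c, rfl⟩ | ⟨c, rfl⟩
        · rw [QD.conj_x_by_x]
        · rw [h.conj_xy_by_x, hy, hy]
          have : c + (2 - 4 * 2 ^ k) * 2 ^ k - (2 * f + 1) = (c - (2 * f + 1)) + 2 * 2 ^ k * (1 - 2 * 2 ^ k) := by
            ring
          rw [this]
          exact (dvd_add_left (Dvd.intro _ rfl)).symm
      · intro g hg
        rw [Subgroup.mem_normalizer_iff] at hg
        have h1 := (hg _).mp ht₀
        have e2 : (2 * 2 ^ k : ℤ) = 2 ^ k * 2 := by ring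
        rcases h.cases g with ⟨a, rfl⟩ | ⟨a, rfl⟩
        · rw [h.conj_xy_by_x, hy] at h1
          have h3 : ((2 : ℤ) ^ k) ∣ a := by
            obtain ⟨c, hc⟩ := h1
            refine ⟨c + 2 * a, ?_⟩
            have : 2 * a = 2 * (2 ^ k * (c + 2 * a)) := by linarith
            linarith
          obtain ⟨r, rfl⟩ := h3
          rw [← zpow_add, hx, hx]
          have e1 : ((2 : ℤ) ^ k * r + 2 ^ k : ℤ) = 2 ^ k * (r + 1) := by ring
          rw [e1, e2, mul_dvd_mul_iff_left hw0, mul_dvd_mul_iff_left hw0]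
          rcases Int.even_or_odd' r with ⟨d, rfl | rfl⟩
          · right
            constructor
            · exact ⟨d, by ring⟩
            · rintro ⟨c, hc⟩; omega
          · left
            constructor
            · exact ⟨d + 1, by ring⟩
            · rintro ⟨c, hc⟩; omega
        · rw [h.conj_xy_by_xy, hy] at h1
          have h3 : ((2 : ℤ) ^ k) ∣ a - (2 * f + 1) := by
            obtain ⟨c, hc⟩ := h1
            refine ⟨c + 2 * (a - (2 * f + 1)), ?_⟩
            have : 2 * (a - (2 * f + 1)) = 2 * (2 ^ k * (c + 2 * (a - (2 * f + 1)))) := by linarith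
            linarith
          obtain ⟨r, hr⟩ := h3
          have ha : a = (2 * f + 1) + 2 ^ k * r := by linarith
          rw [h.mul_xy_x, hy, hy, ha]
          have e1 : ((2 * f + 1) + 2 ^ k * r + (4 * 2 ^ k - 1) * 2 ^ k - (2 * f + 1) : ℤ) =
              2 ^ k * (r - 1 + 4 * 2 ^ k) := by ring
          have e3 : ((2 * f + 1) + 2 ^ k * r - (2 * f + 1) : ℤ) = 2 ^ k * r := by ring
          rw [e1, e3, e2, mul_dvd_mul_iff_left hw0, mul_dvd_mul_iff_left hw0]
          rcases Int.even_or_odd' r with ⟨d, rfl | rfl⟩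
          · right
            constructor
            · exact ⟨d, by ring⟩
            · rintro ⟨c, hc⟩; omega
          · left
            constructor
            · exact ⟨d + 2 * 2 ^ k, by ring⟩
            · rintro ⟨c, hc⟩; omega

end Cfsg.Agent.S1191
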