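import Cfsg.Statements.S1203
import Cfsg.Agent.Lib.Helper59.AutIndex
import Cfsg.Agent.S1190
import Cfsg.Agent.S1191

set_option autoImplicit false
open Cfsg

namespace Cfsg.Agent.S1203

open Cfsg.Agent.Lib.Helper59

theorem isKleinFour_of_mulEquiv {A B : Type*} [Group A] [Group B] (e : A ≃* B) [hB : IsKleinFour B] :
    IsKleinFour A where
  card_four := by rw [Nat.card_congr e.toEquiv]; exact hB.card_four
  exponent_two := by rw [Monoid.exponent_eq_of_mulEquiv e]; exact hB.exponent_two

/-- lifting a normalizing element from the Sylow subgroup -/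
theorem val_mem_normalizer {G : Type*} [Group G] (S P : Subgroup G) (hPS : P ≤ S) (g' : S)
    (hg' : g' ∈ Subgroup.normalizer ((P.subgroupOf S : Subgroup S) : Set S)) :
    (g' : G) ∈ Subgroup.normalizer (P : Set G) := by
  rw [Subgroup.mem_normalizer_iff] at hg' ⊢
  intro t
  constructor
  · intro ht
    have := (hg' ⟨t, hPS ht⟩).mp (Subgroup.mem_subgroupOf.mpr ht)
    exact Subgroup.mem_subgroupOf.mp this
  · intro ht
    have htS : t ∈ S := by
      have : (g' : G)⁻¹ * ((g' : G) * t * (g' : G)⁻¹) * g' ∈ S :=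
        S.mul_mem (S.mul_mem (S.inv_mem g'.2) (hPS ht)) g'.2
      have h2 : (g' : G)⁻¹ * ((g' : G) * t * (g' : G)⁻¹) * g' = t := by group
      rwa [h2] at this
    exact Subgroup.mem_subgroupOf.mp ((hg' ⟨t, htS⟩).mpr (Subgroup.mem_subgroupOf.mpr ht))

/-- from relative index two we get an outside element -/
theorem exists_notMem_of_relIndex_two {S : Type*} [Group S] (P : Subgroup S)
    (h : P.relIndex (Subgroup.normalizer (P : Set S)) = 2) :
    ∃ g ∈ Subgroup.normalizer (P : Set S), g ∉ P := by
  by_contra hcon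
  push Not at hcon
  have hle : Subgroup.normalizer (P : Set S) ≤ P := hcon
  have := Subgroup.relIndex_eq_one.mpr hle
  omega

theorem two_or_six {c : ℕ} (h2 : 2 ∣ c) (h6 : c ∣ 6) : c = 2 ∨ c = 6 := by
  have hle : c ≤ 6 := Nat.le_of_dvd (by norm_num) h6
  interval_cases c <;> omega

/-- Let G be a finite group with quasi-dihedral Sylow 2-subgroup S, T a Klein four-subgroup of S and Q a quaternion subgroup of order 8 of S. Then |N_G(T) : C_G(T)| ∈ {2, 6} and |N_G(Q) : Q C_G(Q)| ∈ {2, 6}. -/
theorem result {G : Type*} [Group G] [Finite G] (S : Sylow 2 G) (hS : Cfsg.IsQuasiDihedral (S : Subgroup G)) (T : Subgroup G) (hT : IsKleinFour T) (hTS : T ≤ S) (Q : Subgroup G) (hQS : Q ≤ S) (eQ : Q ≃* QuaternionGroup 2) : ((Subgroup.centralizer (T : Set G)).relIndex (Subgroup.normalizer (T : Set G)) = 2 ∨ (Subgroup.centralizer (T : Set G)).relIndex (Subgroup.normalizer (T : Set G)) = 6) ∧ ((Q ⊔ Subgroup.centralizer (Q : Set G)).relIndex (Subgroup.normalizer (Q : Set G)) = 2 ∨ (Q ⊔ Subgroup.centralizer (Q : Set G)).relIndex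 (Subgroup.normalizer (Q : Set G)) = 6) := by
  have hp : IsPGroup 2 (S : Subgroup G) := S.isPGroup'
  constructor
  · -- Klein four part
    have eT : T.subgroupOf (S : Subgroup G) ≃* T := Subgroup.subgroupOfEquivOfLe hTS
    have hT' : IsKleinFour (T.subgroupOf (S : Subgroup G)) := isKleinFour_of_mulEquiv eT
    obtain ⟨hC, hN⟩ := (Cfsg.Agent.S1190.result hS).2 (T.subgroupOf (S : Subgroup G)) hT'
    obtain ⟨g', hg'N, hg'T⟩ := exists_notMem_of_relIndex_two _ hN
    have hgN : (g' : G) ∈ Subgroup.normalizer (T : Set G) := val_mem_normalizer _ T hTS g' hg'N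
    obtain ⟨m, hm⟩ := hp g'
    have hgC : (g' : G) ∉ Subgroup.centralizer (T : Set G) := by
      intro hc
      apply hg'T
      rw [← hC, Subgroup.mem_centralizer_iff]
      intro t ht
      apply Subtype.ext
      exact (Subgroup.mem_centralizer_iff.mp hc) t (Subgroup.mem_subgroupOf.mp ht)
    rw [relIndex_centralizer_normalizer]
    apply two_or_six
    · apply two_dvd_card_range T.normalizerMonoidHom ⟨g', hgN⟩ m
      · apply Subtype.ext
        have := congrArg Subtype.val hm
        simpa using this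
      · intro h1
        apply hgC
        have : (⟨g', hgN⟩ : Subgroup.normalizer (T : Set G)) ∈ T.normalizerMonoidHom.ker := h1
        rw [Subgroup.normalizerMonoidHom_ker] at this
        exact Subgroup.mem_subgroupOf.mp this
    · rw [← card_mulAut_klein T]
      exact Subgroup.card_subgroup_dvd_card _
  · -- quaternion part
    have eQ' : Q.subgroupOf (S : Subgroup G) ≃* QuaternionGroup 2 :=
      (Subgroup.subgroupOfEquivOfLe hQS).trans eQ
    obtain ⟨hC, hN⟩ := (Cfsg.Agent.S1191.result hS).2 (Q.subgroupOf (S : Subgroup G)) ⟨eQ'⟩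
    obtain ⟨g', hg'N, hg'Q⟩ := exists_notMem_of_relIndex_two _ hN
    have hgN : (g' : G) ∈ Subgroup.normalizer (Q : Set G) := val_mem_normalizer _ Q hQS g' hg'N
    obtain ⟨m, hm⟩ := hp g'
    have : Finite Q := inferInstance
    rw [relIndex_sup_centralizer_normalizer]
    apply two_or_six
    · apply two_dvd_card_range (outHom Q) ⟨g', hgN⟩ m
      · apply Subtype.ext
        have := congrArg Subtype.val hm
        simpa using this
      · intro h1
        obtain ⟨q, hq⟩ := exists_of_outHom_eq_one Q ⟨g', hgN⟩ h1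
        apply hg'Q
        -- the element q⁻¹ g' of S centralizes Q'
        have hqS : (q : G) ∈ (S : Subgroup G) := hQS q.2
        have hmem : (⟨(q : G), hqS⟩⁻¹ * g' : (S : Subgroup G)) ∈
            Subgroup.centralizer ((Q.subgroupOf (S : Subgroup G) : Subgroup (S : Subgroup G)) : Set (S : Subgroup G)) := by
          rw [Subgroup.mem_centralizer_iff]
          intro t ht
          apply Subtype.ext
          exact (Subgroup.mem_centralizer_iff.mp hq) t (Subgroup.mem_subgroupOf.mp ht)
        rw [hC] at hmem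
        obtain ⟨z, _, hz⟩ := Subgroup.mem_map.mp hmem
        have hzQ : (⟨(q : G), hqS⟩⁻¹ * g' : (S : Subgroup G)) ∈ Q.subgroupOf (S : Subgroup G) := by
          rw [← hz]; exact z.2
        have hqQ : (⟨(q : G), hqS⟩ : (S : Subgroup G)) ∈ Q.subgroupOf (S : Subgroup G) :=
          Subgroup.mem_subgroupOf.mpr q.2
        have := Subgroup.mul_mem _ hqQ hzQ
        rwa [mul_inv_cancel_left] at this
    · rw [← index_innSub_q8 Q eQ]
      exact Subgroup.card_subgroup_dvd_card _

end Cfsg.Agent.S1203
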