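import Cfsg.Statements.S1204
import Cfsg.Agent.Lib.Helper59.QDFusionLow

set_option autoImplicit false
open Cfsg

namespace Cfsg.Agent.S1204

open Cfsg.Agent.Lib.Helper59

/-- Let G be a finite group with quasi-dihedral Sylow 2-subgroup S, T a Klein four-subgroup and Q a quaternion subgroup of order 8 of S, with |N_G(T) : C_G(T)| = 6 and |N_G(Q) : Q C_G(Q)| = 6. Then G has no subgroup of index 2, exactly one conjugacy class of involutions and exactly one conjugacy class of elements of order 4. -/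
theorem result {G : Type*} [Group G] [Finite G] (S : Sylow 2 G) (hS : Cfsg.IsQuasiDihedral (S : Subgroup G)) (T : Subgroup G) (hT : IsKleinFour T) (hTS : T ≤ S) (Q : Subgroup G) (hQS : Q ≤ S) (eQ : Q ≃* QuaternionGroup 2) (h₁ : (Subgroup.centralizer (T : Set G)).relIndex (Subgroup.normalizer (T : Set G)) = 6) (h₂ : (Q ⊔ Subgroup.centralizer (Q : Set G)).relIndex (Subgroup.normalizer (Q : Set G)) = 6) : (∀ H : Subgroup G, H.index ≠ 2) ∧ Nat.card {C : ConjClasses G // ∃ t : G, orderOf t = 2 ∧ ConjClasses.mk t = C} = 1 ∧ Nat.card {C : ConjClasses G // ∃ t : G, orderOf t = 4 ∧ ConjClasses.mk t = C} = 1 := by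
  obtain ⟨k, x, y, h⟩ := exists_QD_of_isQuasiDihedral hS
  have hw := QD.w_pos k
  have hzy := zG_isConj_yG S h T hT hTS h₁
  have huv := uG_isConj_vG S h Q hQS eQ h₂
  refine ⟨?_, ?_, ?_⟩
  · intro H h2
    apply index_ne_two_of_sylow_le S H _ h2
    -- squares lie in H
    have hx2 : ∀ a : ℤ, (((x ^ (2 * a) : (S : Subgroup G)) : G)) ∈ H := by
      intro a
      have e : ((x ^ (2 * a) : (S : Subgroup G)) : G) = ((x ^ a : (S : Subgroup G)) : G) ^ 2 := by
        rw [← Subgroup.coe_pow, ← zpow_natCast, ← zpow_mul]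
        congr 2; push_cast; ring
      rw [e]
      exact Subgroup.sq_mem_of_index_two h2 _
    have hzH : ((x ^ (4 * 2 ^ k : ℤ) : (S : Subgroup G)) : G) ∈ H := by
      have := hx2 (2 * 2 ^ k)
      rwa [show (2 * (2 * 2 ^ k) : ℤ) = 4 * 2 ^ k by ring] at this
    have huH : ((x ^ (2 * 2 ^ k : ℤ) : (S : Subgroup G)) : G) ∈ H := hx2 (2 ^ k)
    have hyH : (y : G) ∈ H := by
      obtain ⟨c, hc⟩ := isConj_iff.mp hzy
      rw [← hc, conj_mem_iff_of_index_two H h2]
      exact hzH
    have hvH : ((x ^ (1 : ℤ) * y : (S : Subgroup G)) : G) ∈ H := by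
      obtain ⟨c, hc⟩ := isConj_iff.mp huv
      rw [← hc, conj_mem_iff_of_index_two H h2]
      exact huH
    have hxH : (x : G) ∈ H := by
      have := H.mul_mem hvH (H.inv_mem hyH)
      simpa using this
    exact sylow_le_of_mem S h H hxH hyH
  · apply card_classes_eq_one 2 _ (orderOf_zG S h)
    intro t ht
    rcases invol_isConj S h t ht with h1 | h1
    · exact h1
    · exact h1.trans hzy.symm
  · apply card_classes_eq_one 4 _ (orderOf_uG S h)
    intro t ht
    rcases order4_isConj S h t ht with h1 | h1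
    · exact h1
    · exact h1.trans huv.symm

end Cfsg.Agent.S1204
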