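import Cfsg.Statements.S1205
import Cfsg.Agent.Lib.Helper59.QDCases

set_option autoImplicit false
open Cfsg

namespace Cfsg.Agent.S1205

open Cfsg.Agent.Lib.Helper59

/-- Let G be a finite group with quasi-dihedral Sylow 2-subgroup S, T a Klein four-subgroup and Q a quaternion subgroup of order 8 of S, with |N_G(T) : C_G(T)| = 2 and |N_G(Q) : Q C_G(Q)| = 6. Then G has a normal subgroup K of index 2 whose Sylow 2-subgroups are generalized quaternion and which has no subgroup of index 2; the centre of S is weakly closed in S; and G has exactly two classes of involutions and one class of elements of order 4. -/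
theorem result {G : Type*} [Group G] [Finite G] (S : Sylow 2 G) (hS : Cfsg.IsQuasiDihedral (S : Subgroup G)) (T : Subgroup G) (hT : IsKleinFour T) (hTS : T ≤ S) (Q : Subgroup G) (hQS : Q ≤ S) (eQ : Q ≃* QuaternionGroup 2) (h₁ : (Subgroup.centralizer (T : Set G)).relIndex (Subgroup.normalizer (T : Set G)) = 2) (h₂ : (Q ⊔ Subgroup.centralizer (Q : Set G)).relIndex (Subgroup.normalizer (Q : Set G)) = 6) : (∃ K : Subgroup G, K.Normal ∧ K.index = 2 ∧ (∀ P : Sylow 2 ↥K, ∃ m : ℕ, 1 ≤ m ∧ Nonempty ((P : Subgroup ↥K) ≃* QuaternionGroup (2 ^ m))) ∧ (∀ H : Subgroup ↥K, H.index ≠ 2)) ∧ Cfsg.IsWeaklyClosed ((Subgroup.center (S : Subgroup G)).map (S : Subgroup G).subtype) (S : Subgroup G) ∧ Nat.card {C : ConjClasses G // ∃ t : G, orderOf t = 2 ∧ ConjClasses.mk t = C} = 2 ∧ Nat.card {C : ConjClasses G // ∃ t : G, orderOf t = 4 ∧ ConjClasses.mk t = C} = 1 := by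
  obtain ⟨k, x, y, h⟩ := exists_QD_of_isQuasiDihedral hS
  have hw := QD.w_pos k
  have hd8 := QD.two_dvd_8w k
  have huv := uG_isConj_vG S h Q hQS eQ h₂
  have hfz := fun a ha g hag => fusion_z S hS h T hT hTS Q hQS eQ h₁ a ha g hag
  refine ⟨?_, ?_, ?_, ?_⟩
  · obtain ⟨n, c, hc, hn⟩ := exists_sq_conj_quat S h Q hQS eQ h₂
    have F2 : ∃ n a : G, a ∈ (h.sub 2 1 (QD.hdbε k 1)).map (S : Subgroup G).subtype ∧ ∃ c : ℤ,
        (2 : ℤ) ∣ c - 1 ∧ (n * n) * a * (n * n)⁻¹ * a⁻¹ = ((x ^ c * y : (S : Subgroup G)) : G) := by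
      refine ⟨n, ((x ^ (2 * 2 ^ k : ℤ) : (S : Subgroup G)) : G), ?_,
        c + (4 * 2 ^ k - 1) * (-(2 * 2 ^ k)), ?_, ?_⟩
      · exact ⟨x ^ (2 * 2 ^ k : ℤ), (h.x_mem_sub hd8 _ _).mpr ⟨2 ^ k, by ring⟩, rfl⟩
      · rcases Int.even_or_odd' c with ⟨c', h1 | h1⟩
        · exact absurd ⟨c', h1⟩ hc
        · exact ⟨c' - (4 * 2 ^ k - 1) * 2 ^ k, by rw [h1]; ring⟩
      · rw [hn, ← Subgroup.coe_inv, ← Subgroup.coe_mul]
        congr 1
        rw [← zpow_neg, h.mul_xy_x]
    obtain ⟨K, hKn, hK2, hSyl, hno⟩ := exists_index_two_normal S h 1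
      (fun a ha g hag => fusion_sub_two_one S hS h T hT hTS Q hQS eQ h₁ a ha g hag) F2
    refine ⟨K, hKn, hK2, ?_, hno⟩
    intro P
    obtain ⟨e⟩ := hSyl P
    obtain ⟨e'⟩ := h.sub_two_one_quaternion
    exact ⟨k + 1, by omega, ⟨e.trans e'⟩⟩
  · -- weak closure of the centre
    refine ⟨Subgroup.map_subtype_le _, ?_⟩
    intro g hg
    have hfix : ∀ w ∈ (Subgroup.center (S : Subgroup G)).map (S : Subgroup G).subtype,
        g * w * g⁻¹ = w := by
      rintro w ⟨w', hw', rfl⟩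
      rw [h.center_eq] at hw'
      obtain ⟨j, rfl⟩ := Subgroup.mem_zpowers_iff.mp hw'
      have hzmem : ((x ^ (4 * 2 ^ k : ℤ) : (S : Subgroup G)) : G) ∈
          (Subgroup.center (S : Subgroup G)).map (S : Subgroup G).subtype := by
        refine ⟨x ^ (4 * 2 ^ k : ℤ), ?_, rfl⟩
        rw [h.center_eq]; exact Subgroup.mem_zpowers _
      have hzg : g * ((x ^ (4 * 2 ^ k : ℤ) : (S : Subgroup G)) : G) * g⁻¹ ∈ (S : Subgroup G) := by
        apply hg
        exact ⟨_, hzmem, by simp [MulAut.conj_apply]⟩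
      have h1 := (hfz _ (x ^ (4 * 2 ^ k : ℤ)).2 g⁻¹ (by rw [inv_inv]; exact hzg)).mp rfl
      rw [inv_inv] at h1
      simp only [Subgroup.subtype_apply, Subgroup.coe_zpow]
      rw [← conj_zpow]
      simp only [Subgroup.coe_zpow] at h1
      rw [h1]
    ext t
    rw [mem_map_conj]
    constructor
    · intro ht
      have := hfix _ ht
      have e : g * (g⁻¹ * t * g) * g⁻¹ = t := by group
      rw [e] at this
      rw [this]; exact ht
    · intro ht
      have := hfix _ ht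
      have e : g⁻¹ * t * g = g⁻¹ * (g * t * g⁻¹) * g := by rw [this]
      rw [e]
      have e2 : g⁻¹ * (g * t * g⁻¹) * g = t := by group
      rw [e2]; exact ht
  · apply card_classes_eq_two 2 _ _ (orderOf_zG S h) (orderOf_yG S h) ?_ (invol_isConj S h)
    intro hc
    obtain ⟨c, hc⟩ := isConj_iff.mp hc
    have h1 := (hfz _ (x ^ (4 * 2 ^ k : ℤ)).2 c⁻¹ (by rw [inv_inv, hc]; exact y.2)).mp rfl
    rw [inv_inv, hc] at h1
    have h2 : y = x ^ (4 * 2 ^ k : ℤ) := Subtype.ext h1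
    apply h.y_notMem
    rw [h2]; exact Subgroup.zpow_mem_zpowers x _
  · apply card_classes_eq_one 4 _ (orderOf_uG S h)
    intro t ht
    rcases order4_isConj S h t ht with h1 | h1
    · exact h1
    · exact h1.trans huv.symm

end Cfsg.Agent.S1205
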