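import Cfsg.Statements.S1206
import Cfsg.Agent.Lib.Helper59.QDCases

set_option autoImplicit false
open Cfsg

namespace Cfsg.Agent.S1206

open Cfsg.Agent.Lib.Helper59

/-- Let G be a finite group with quasi-dihedral Sylow 2-subgroup S, T a Klein four-subgroup and Q a quaternion subgroup of order 8 of S, with |N_G(T) : C_G(T)| = 6 and |N_G(Q) : Q C_G(Q)| = 2. Then G has a normal subgroup K of index 2 whose Sylow 2-subgroups are dihedral and which has no subgroup of index 2, and G has exactly one class of involutions and two classes of elements of order 4. -/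
theorem result {G : Type*} [Group G] [Finite G] (S : Sylow 2 G) (hS : Cfsg.IsQuasiDihedral (S : Subgroup G)) (T : Subgroup G) (hT : IsKleinFour T) (hTS : T ≤ S) (Q : Subgroup G) (hQS : Q ≤ S) (eQ : Q ≃* QuaternionGroup 2) (h₁ : (Subgroup.centralizer (T : Set G)).relIndex (Subgroup.normalizer (T : Set G)) = 6) (h₂ : (Q ⊔ Subgroup.centralizer (Q : Set G)).relIndex (Subgroup.normalizer (Q : Set G)) = 2) : (∃ K : Subgroup G, K.Normal ∧ K.index = 2 ∧ (∀ P : Sylow 2 ↥K, ∃ m : ℕ, Nonempty ((P : Subgroup ↥K) ≃* DihedralGroup m)) ∧ (∀ H : Subgroup ↥K, H.index ≠ 2)) ∧ Nat.card {C : ConjClasses G // ∃ t : G, orderOf t = 2 ∧ ConjClasses.mk t = C} = 1 ∧ Nat.card {C : ConjClasses G // ∃ t : G, orderOf t = 4 ∧ ConjClasses.mk t = C} = 2 := by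
  obtain ⟨k, x, y, h⟩ := exists_QD_of_isQuasiDihedral hS
  have hw := QD.w_pos k
  have hd8 := QD.two_dvd_8w k
  have hzy := zG_isConj_yG S h T hT hTS h₁
  refine ⟨?_, ?_, ?_⟩
  · obtain ⟨n, b, hb, hn⟩ := exists_sq_conj_klein S h T hT hTS h₁
    have F2 : ∃ n a : G, a ∈ (h.sub 2 0 (QD.hdbε k 0)).map (S : Subgroup G).subtype ∧ ∃ c : ℤ,
        (2 : ℤ) ∣ c - 0 ∧ (n * n) * a * (n * n)⁻¹ * a⁻¹ = ((x ^ c * y : (S : Subgroup G)) : G) := by
      refine ⟨n, ((x ^ (4 * 2 ^ k : ℤ) : (S : Subgroup G)) : G), ?_,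
        b + (4 * 2 ^ k - 1) * (-(4 * 2 ^ k)), ?_, ?_⟩
      · exact ⟨x ^ (4 * 2 ^ k : ℤ), (h.x_mem_sub hd8 _ _).mpr ⟨2 * 2 ^ k, by ring⟩, rfl⟩
      · obtain ⟨b', rfl⟩ := hb
        exact ⟨b' - (4 * 2 ^ k - 1) * (2 * 2 ^ k), by ring⟩
      · rw [hn, ← Subgroup.coe_inv, ← Subgroup.coe_mul]
        congr 1
        rw [← zpow_neg, h.mul_xy_x]
    obtain ⟨K, hKn, hK2, hSyl, hno⟩ := exists_index_two_normal S h 0
      (fun a ha g hag => fusion_sub_two_zero S hS h T hT hTS Q hQS eQ h₂ a ha g hag) F2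
    refine ⟨K, hKn, hK2, ?_, hno⟩
    intro P
    obtain ⟨e⟩ := hSyl P
    obtain ⟨e'⟩ := h.sub_two_zero_dihedral (QD.hdbε k 0)
    exact ⟨2 ^ (k + 2), ⟨e.trans e'⟩⟩
  · apply card_classes_eq_one 2 _ (orderOf_zG S h)
    intro t ht
    rcases invol_isConj S h t ht with h1 | h1
    · exact h1
    · exact h1.trans hzy.symm
  · apply card_classes_eq_two 4 _ _ (orderOf_uG S h) (orderOf_vG S h) ?_ (order4_isConj S h)
    intro hc
    obtain ⟨c, hc⟩ := isConj_iff.mp hc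
    have h1 := fusion_x S hS h T hT hTS Q hQS eQ h₂ _ (x ^ (2 * 2 ^ k : ℤ)).2 c⁻¹
      (by rw [inv_inv, hc]; exact (x ^ (1 : ℤ) * y).2)
    rw [inv_inv, hc] at h1
    have h2 : ((x ^ (1 : ℤ) * y : (S : Subgroup G)) : G) ∈
        (Subgroup.zpowers x).map (S : Subgroup G).subtype := by
      refine (h1.mp ⟨⟨x ^ (2 * 2 ^ k : ℤ), Subgroup.zpow_mem_zpowers x _, rfl⟩, ?_⟩).1
      intro h3
      have h4 : orderOf ((x ^ (2 * 2 ^ k : ℤ) : (S : Subgroup G)) : G) ∣ 2 :=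
        orderOf_dvd_of_pow_eq_one (by rw [sq]; exact h3)
      rw [orderOf_uG S h] at h4
      omega
    rw [mem_map_subtype_iff _ _ _ (x ^ (1 : ℤ) * y).2] at h2
    obtain ⟨j, hj⟩ := Subgroup.mem_zpowers_iff.mp h2
    exact h.xy_ne_x 1 j hj.symm

end Cfsg.Agent.S1206
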