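import Cfsg.Statements.S1207
import Cfsg.Agent.Lib.Helper59.QDClasses

set_option autoImplicit false
open Cfsg

namespace Cfsg.Agent.S1207

open Cfsg.Agent.Lib.Helper59

/-- Let G be a finite group with quasi-dihedral Sylow 2-subgroup S, T a Klein four-subgroup and Q a quaternion subgroup of order 8 of S, with |N_G(T) : C_G(T)| = 2 and |N_G(Q) : Q C_G(Q)| = 2. Then G has a normal 2-complement, exactly two classes of involutions and exactly two classes of elements of order 4. -/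
theorem result {G : Type*} [Group G] [Finite G] (S : Sylow 2 G) (hS : Cfsg.IsQuasiDihedral (S : Subgroup G)) (T : Subgroup G) (hT : IsKleinFour T) (hTS : T ≤ S) (Q : Subgroup G) (hQS : Q ≤ S) (eQ : Q ≃* QuaternionGroup 2) (h₁ : (Subgroup.centralizer (T : Set G)).relIndex (Subgroup.normalizer (T : Set G)) = 2) (h₂ : (Q ⊔ Subgroup.centralizer (Q : Set G)).relIndex (Subgroup.normalizer (Q : Set G)) = 2) : Cfsg.HasNormalPComplement 2 G ∧ Nat.card {C : ConjClasses G // ∃ t : G, orderOf t = 2 ∧ ConjClasses.mk t = C} = 2 ∧ Nat.card {C : ConjClasses G // ∃ t : G, orderOf t = 4 ∧ ConjClasses.mk t = C} = 2 := by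
  obtain ⟨k, x, y, h⟩ := exists_QD_of_isQuasiDihedral hS
  -- control of fusion
  have hctrl : ∀ a ∈ (S : Subgroup G), ∀ g : G, g⁻¹ * a * g ∈ (S : Subgroup G) →
      ∃ s ∈ (S : Subgroup G), g⁻¹ * a * g = s * a * s⁻¹ := by
    intro a ha g hag
    refine qd_fusion_induction S hS T hT hTS Q hQS eQ
      (fun a b => ∃ s ∈ (S : Subgroup G), b = s * a * s⁻¹) ?_ ?_ ?_ (Or.inl h₁) (Or.inl h₂) a g ha hag
    · intro a
      exact ⟨1, Subgroup.one_mem _, by group⟩
    · rintro a b c ⟨s, hs, rfl⟩ ⟨s', hs', rfl⟩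
      exact ⟨s' * s, Subgroup.mul_mem _ hs' hs, by group⟩
    · intro a _ s hs
      exact ⟨s, hs, rfl⟩
  have hnc : ∀ a b : (S : Subgroup G), IsConj (a : G) (b : G) → IsConj a b := by
    intro a b hc
    obtain ⟨c, hc⟩ := isConj_iff.mp hc
    obtain ⟨s, hs, hsa⟩ := hctrl a a.2 c⁻¹ (by rw [inv_inv, hc]; exact b.2)
    rw [inv_inv, hc] at hsa
    exact isConj_iff.mpr ⟨⟨s, hs⟩, Subtype.ext hsa.symm⟩
  refine ⟨?_, ?_, ?_⟩
  · apply hasNormalPComplement_of_control S
    intro a ha g hag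
    obtain ⟨s, hs, hsa⟩ := hctrl a ha g hag
    exact ⟨s⁻¹, Subgroup.inv_mem _ hs, by rw [hsa, inv_inv]⟩
  · apply card_classes_eq_two 2 _ _ (orderOf_zG S h) (orderOf_yG S h) ?_ (invol_isConj S h)
    intro hc
    have := hnc _ _ hc
    apply h.not_isConj_x_xy 0 (4 * 2 ^ k)
    rw [zpow_zero, one_mul]
    exact this
  · apply card_classes_eq_two 4 _ _ (orderOf_uG S h) (orderOf_vG S h) ?_ (order4_isConj S h)
    intro hc
    exact h.not_isConj_x_xy 1 (2 * 2 ^ k) (hnc _ _ hc)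

end Cfsg.Agent.S1207
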