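import Cfsg.Statements.S0852
-- import your own Cfsg.Agent.* helpers here
import Cfsg.Agent.Lib.Helper34.FrobTI

set_option autoImplicit false
open Cfsg

namespace Cfsg.Agent.S0852

open Cfsg.Agent.Lib.Helper34
open scoped ComplexConjugate

section

variable {G : Type*} [Group G] [Fintype G] (N : Subgroup G) [Fintype N] (KN : Subgroup N)
  [hKN : KN.Normal]
  (hC : ∀ k ∈ KN, k ≠ 1 → Subgroup.centralizer ({k} : Set N) ≤ KN)
  (S : Set (N → ℂ)) (hS : S = {χ : N → ℂ | FrobRel KN χ})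
  (star : (N → ℂ) → (G → ℂ)) (hstar : Cfsg.IsLinearIsometryOn (Cfsg.zspan S) star)
  (hext : ∀ α ∈ Cfsg.zspanOn S ({1}ᶜ : Set N), star α = Cfsg.indFun N α)

omit [Fintype G] [Fintype ↥N] hKN in
include hS in
theorem mem_S_irr {χ : N → ℂ} (hχ : χ ∈ S) : Cfsg.IsIrrCharacter N χ := by
  rw [hS] at hχ
  exact hχ.1

omit [Fintype G] [Fintype ↥N] hKN in
include hS in
theorem mem_S_rel {χ : N → ℂ} (hχ : χ ∈ S) : FrobRel KN χ := by
  rw [hS] at hχ
  exact hχ

include hS in
theorem mem_S_deg {χ : N → ℂ} (hχ : χ ∈ S) : ∃ d : ℕ, 0 < d ∧ χ 1 = d := by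
  obtain ⟨d, hd, h1, -⟩ := Cfsg.Agent.Lib.Helper05.exists_degree_dvd (mem_S_irr N KN S hS hχ)
  exact ⟨d, hd, h1⟩

include hS hstar in
/-- `star χ` is an irreducible character up to sign -/
theorem star_irr {χ : N → ℂ} (hχ : χ ∈ S) :
    Cfsg.IsIrrCharacter G (star χ) ∨ Cfsg.IsIrrCharacter G (-star χ) := by
  apply irr_or_neg_irr_of_norm_one (LIO.isGenChar hstar (mem_zspan_of_mem hχ))
  rw [LIO.inner_eq hstar (mem_zspan_of_mem hχ) (mem_zspan_of_mem hχ)]
  exact Cfsg.Agent.Lib.Helper83.irr_inner_self ⟨χ, mem_S_irr N KN S hS hχ⟩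

include hS hstar in
theorem ortho_of_ne {ψ : G → ℂ} (hψ : Cfsg.IsIrrCharacter G ψ) {χ : N → ℂ} (hχ : χ ∈ S)
    (h1 : ψ ≠ star χ) (h2 : ψ ≠ -star χ) : Cfsg.classInner ψ (star χ) = 0 := by
  rcases star_irr N KN S hS star hstar hχ with h | h
  · exact Cfsg.Agent.Lib.Helper83.irr_inner_ne (χ := ⟨ψ, hψ⟩) (ψ := ⟨star χ, h⟩)
      (fun h' => h1 (congrArg Subtype.val h'))
  · have := Cfsg.Agent.Lib.Helper83.irr_inner_ne (χ := ⟨ψ, hψ⟩) (ψ := ⟨-star χ, h⟩)
      (fun h' => h2 (congrArg Subtype.val h'))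
    simp only at this
    rw [classInner_neg_right] at this
    exact neg_eq_zero.mp this

include hS in
/-- a relevant character is orthogonal to the principal character: its values sum to zero -/
theorem sum_rel_eq_zero {χ : N → ℂ} (hχ : χ ∈ S) : ∑ x : N, χ x = 0 := by
  have hrel := mem_S_rel N KN S hS hχ
  have hne : (⟨χ, hrel.1⟩ : Cfsg.IrrCharacter N) ≠
      ⟨fun _ => 1, Cfsg.Agent.Lib.Helper83.isIrrCharacter_one⟩ := by
    intro h
    have h' : χ = fun _ => 1 := congrArg Subtype.val h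
    obtain ⟨k, -, hk⟩ := hrel.2
    apply hk
    rw [h']
  have := Cfsg.Agent.Lib.Helper83.irr_inner_ne hne
  simp only [classInner_def, map_one, mul_one] at this
  have hN : (Nat.card N : ℂ)⁻¹ ≠ 0 := by
    apply inv_ne_zero
    exact_mod_cast Nat.card_pos.ne'
  exact (mul_eq_zero.mp this).resolve_left hN

include hC hS hstar hext in
theorem aux (htwo : ∃ χ ∈ S, ∃ ξ ∈ S, χ ≠ ξ) (ψ : G → ℂ) (hψ : Cfsg.IsIrrCharacter G ψ) :
    (∃ χ ∈ S, ψ = star χ ∨ ψ = -star χ) ↔
      ∃ a ∈ KN, ∃ b ∈ KN, a ≠ 1 ∧ b ≠ 1 ∧ ψ a ≠ ψ b := by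
  classical
  have hψcf : Cfsg.IsClassFunction G ψ := Cfsg.Agent.Lib.Helper83.char_isClassFunction
    (Cfsg.Agent.Lib.Helper83.isCharacter_of_irr hψ)
  constructor
  · rintro ⟨χ, hχ, hψχ⟩
    by_contra hcon
    push Not at hcon
    -- pick ξ ≠ χ
    obtain ⟨ξ, hξ, hne⟩ : ∃ ξ ∈ S, ξ ≠ χ := by
      obtain ⟨χ₁, h1, χ₂, h2, h12⟩ := htwo
      by_cases h : χ₁ = χ
      · exact ⟨χ₂, h2, fun h' => h12 (h.trans h'.symm)⟩
      · exact ⟨χ₁, h1, h⟩
    obtain ⟨dχ, hdχ0, hdχ⟩ := mem_S_deg N KN S hS hχ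
    obtain ⟨dξ, hdξ0, hdξ⟩ := mem_S_deg N KN S hS hξ
    have hα : ((dξ : ℤ) • χ - (dχ : ℤ) • ξ) ∈ Cfsg.zspanOn S ({1}ᶜ : Set N) := by
      apply cross_mem_zspanOn N hχ hξ
      rw [hdχ, hdξ]; push_cast; ring
    have hrec := star_restrict_inner N hext hψcf hα
    rw [star_cross N hstar hχ hξ] at hrec
    -- right side: ± dξ
    have horth : Cfsg.classInner (star χ) (star ξ) = 0 := by
      rw [LIO.inner_eq hstar (mem_zspan_of_mem hχ) (mem_zspan_of_mem hξ)]
      exact Cfsg.Agent.Lib.Helper83.irr_inner_ne (χ := ⟨χ, mem_S_irr N KN S hS hχ⟩)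
        (ψ := ⟨ξ, mem_S_irr N KN S hS hξ⟩) (fun h' => hne (congrArg Subtype.val h').symm)
    have hnorm : Cfsg.classInner (star χ) (star χ) = 1 := by
      rw [LIO.inner_eq hstar (mem_zspan_of_mem hχ) (mem_zspan_of_mem hχ)]
      exact Cfsg.Agent.Lib.Helper83.irr_inner_self ⟨χ, mem_S_irr N KN S hS hχ⟩
    have hright : Cfsg.classInner ψ ((dξ : ℤ) • star χ - (dχ : ℤ) • star ξ) ≠ 0 := by
      rw [classInner_sub_right, classInner_zsmul_right, classInner_zsmul_right]
      rcases hψχ with h | h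
      · rw [h, hnorm, horth]
        simp only [mul_one, mul_zero, sub_zero]
        exact_mod_cast hdξ0.ne'
      · rw [h, classInner_neg_left, classInner_neg_left, hnorm, horth]
        simp only [mul_neg, mul_one, neg_zero, mul_zero, sub_zero, ne_eq, neg_eq_zero]
        exact_mod_cast hdξ0.ne'
    apply hright
    rw [← hrec]
    -- left side: zero
    obtain ⟨k₀, hk₀, hk₀ne⟩ := (mem_S_rel N KN S hS hχ).2
    have hk₀1 : k₀ ≠ 1 := by
      intro h
      apply hk₀ne
      rw [h]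
    set α : N → ℂ := (dξ : ℤ) • χ - (dχ : ℤ) • ξ with hαdef
    have hα1 : α 1 = 0 := (mem_zspanOn_compl_one_iff.mp hα).2
    have hαoff : ∀ x : N, x ∉ KN → α x = 0 := by
      intro x hx
      simp only [hαdef, Pi.sub_apply, Pi.smul_apply]
      rw [(mem_S_rel N KN S hS hχ).vanish KN hC hx, (mem_S_rel N KN S hS hξ).vanish KN hC hx]
      simp
    have hterm : ∀ x : N, ψ x * conj (α x) = ψ k₀ * conj (α x) := by
      intro x
      by_cases hx : x ∈ KN
      · by_cases hx1 : x = 1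
        · rw [hx1, hα1]; simp
        · rw [hcon x hx k₀ hk₀ hx1 hk₀1]
      · rw [hαoff x hx]; simp
    have hsum : ∑ x : N, α x = 0 := by
      simp only [hαdef, Pi.sub_apply, Pi.smul_apply, Finset.sum_sub_distrib, ← Finset.smul_sum]
      rw [sum_rel_eq_zero N KN S hS hχ, sum_rel_eq_zero N KN S hS hξ]
      simp
    rw [classInner_def]
    simp only [hterm]
    rw [← Finset.mul_sum, ← map_sum, hsum]
    simp
  · intro hnc
    by_contra hcon
    push Not at hcon
    -- ψ is orthogonal to all star χ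
    have horth : ∀ χ ∈ S, Cfsg.classInner ψ (star χ) = 0 := fun χ hχ =>
      ortho_of_ne N KN S hS star hstar hψ hχ (hcon χ hχ).1 (hcon χ hχ).2
    set Ψ : N → ℂ := fun x : N => ψ x with hΨ
    have hΨcf : Cfsg.IsClassFunction N Ψ := by
      intro g h
      simp only [hΨ]
      have := hψcf (g : G) (h : G)
      simpa using this
    have hcross : ∀ χ ξ, FrobRel KN χ → FrobRel KN ξ →
        Cfsg.classInner Ψ χ * ξ 1 = Cfsg.classInner Ψ ξ * χ 1 := by
      intro χ ξ hχ' hξ'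
      have hχ : χ ∈ S := by rw [hS]; exact hχ'
      have hξ : ξ ∈ S := by rw [hS]; exact hξ'
      obtain ⟨dχ, hdχ0, hdχ⟩ := mem_S_deg N KN S hS hχ
      obtain ⟨dξ, hdξ0, hdξ⟩ := mem_S_deg N KN S hS hξ
      have hα : ((dξ : ℤ) • χ - (dχ : ℤ) • ξ) ∈ Cfsg.zspanOn S ({1}ᶜ : Set N) := by
        apply cross_mem_zspanOn N hχ hξ
        rw [hdχ, hdξ]; push_cast; ring
      have hrec := star_restrict_inner N hext hψcf hα
      have hL : Cfsg.classInner Ψ ((dξ : ℤ) • χ - (dχ : ℤ) • ξ)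
          = (dξ : ℂ) * Cfsg.classInner Ψ χ - (dχ : ℂ) * Cfsg.classInner Ψ ξ := by
        rw [classInner_sub_right, classInner_zsmul_right, classInner_zsmul_right]
        simp
      have hR : Cfsg.classInner ψ ((dξ : ℤ) • star χ - (dχ : ℤ) • star ξ) = 0 := by
        rw [classInner_sub_right, classInner_zsmul_right, classInner_zsmul_right,
          horth χ hχ, horth ξ hξ]
        simp
      rw [star_cross N hstar hχ hξ, hR] at hrec
      have hrec' : Cfsg.classInner Ψ ((dξ : ℤ) • χ - (dχ : ℤ) • ξ) = 0 := hrec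
      rw [hL] at hrec'
      rw [hdχ, hdξ]
      linear_combination hrec'
    -- ratio
    obtain ⟨u, hu⟩ : ∃ u : ℂ, ∀ χ, FrobRel KN χ → Cfsg.classInner Ψ χ = u * χ 1 := by
      by_cases hex : ∃ χ₀, FrobRel KN χ₀
      · obtain ⟨χ₀, hχ₀⟩ := hex
        have hχ₀S : χ₀ ∈ S := by rw [hS]; exact hχ₀
        obtain ⟨d₀, hd₀0, hd₀⟩ := mem_S_deg N KN S hS hχ₀S
        have hd₀ne : χ₀ 1 ≠ 0 := by rw [hd₀]; exact_mod_cast hd₀0.ne'
        refine ⟨Cfsg.classInner Ψ χ₀ / χ₀ 1, fun χ hχ => ?_⟩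
        have := hcross χ χ₀ hχ hχ₀
        field_simp
        linear_combination this
      · exact ⟨0, fun χ hχ => absurd ⟨χ, hχ⟩ hex⟩
    obtain ⟨W, hW, -⟩ := frob_const KN hC Ψ hΨcf u hu
    obtain ⟨a, ha, b, hb, ha1, hb1, hab⟩ := hnc
    apply hab
    have h1 := hW a ha ha1
    have h2 := hW b hb hb1
    simp only [hΨ] at h1 h2
    rw [h1, h2]

end

/-- Let K be a subgroup of the finite group G that meets each conjugate by an element outside its normalizer N trivially, is properly contained in N, and contains the centralizer of each of its non-identity elements (a T.I. subgroup with Frobenius normalizer). Let S be the set of irreducible characters of N taking at some element of K a value different from their degree, suppose S has at least two members, and let star be a linear isometry on the integer span of S into the generalized characters of G that agrees with induction on the members vanishing at the identity (so S is coherent, with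 star as the extending isometry). Then an irreducible character ψ of G is of the form star χ or -star χ for some χ in S if and only if ψ is not constant on the non-identity elements of K. -/
theorem result {G : Type*} [Group G] [Fintype G] (K : Subgroup G) (hTI : ∀ g : G, g ∉ Subgroup.normalizer (K : Set G) → ∀ k ∈ K, g * k * g⁻¹ ∈ K → k = 1) (hlt : K < Subgroup.normalizer (K : Set G)) (hC : ∀ k ∈ K, k ≠ 1 → Subgroup.centralizer ({k} : Set G) ≤ K) [Fintype ↥(Subgroup.normalizer (K : Set G))] (S : Set (↥(Subgroup.normalizer (K : Set G)) → ℂ)) (hS : S = {χ : ↥(Subgroup.normalizer (K : Set G)) → ℂ | Cfsg.IsIrrCharacter ↥(Subgroup.normalizer (K : Set G)) χ ∧ ∃ k : ↥(Subgroup.normalizer (K : Set G)), (k : G) ∈ K ∧ χ k ≠ χ 1}) (htwo : ∃ χ ∈ S, ∃ ξ ∈ S, χ ≠ ξ) (star : (↥(Subgroup.normalizer (K : Set G)) → ℂ) → (G → ℂ)) (hstar : Cfsg.IsLinearIsometryOn (Cfsg.zspan S) star) (hext : ∀ α ∈ Cfsg.zspanOn S ({1}ᶜ : Set ↥(Subgroup.normalizer (K : Set G))),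 star α = Cfsg.indFun (Subgroup.normalizer (K : Set G)) α) (ψ : G → ℂ) (hψ : Cfsg.IsIrrCharacter G ψ) : (∃ χ ∈ S, ψ = star χ ∨ ψ = -star χ) ↔ ∃ a ∈ K, ∃ b ∈ K, a ≠ 1 ∧ b ≠ 1 ∧ ψ a ≠ ψ b := by
  classical
  haveI : (K.subgroupOf (Subgroup.normalizer (K : Set G))).Normal := Subgroup.normal_in_normalizer
  have hC' := frobTI_hC K hC
  have hS' : S = {χ : ↥(Subgroup.normalizer (K : Set G)) → ℂ |
      FrobRel (K.subgroupOf (Subgroup.normalizer (K : Set G))) χ} := by
    rw [hS]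
    rfl
  have := aux (Subgroup.normalizer (K : Set G)) (K.subgroupOf (Subgroup.normalizer (K : Set G)))
    hC' S hS' star hstar hext htwo ψ hψ
  rw [this]
  constructor
  · rintro ⟨a, ha, b, hb, ha1, hb1, hab⟩
    refine ⟨(a : G), ha, (b : G), hb, fun h => ha1 (Subtype.ext h), fun h => hb1 (Subtype.ext h), hab⟩
  · rintro ⟨a, ha, b, hb, ha1, hb1, hab⟩
    refine ⟨⟨a, Subgroup.le_normalizer ha⟩, ha, ⟨b, Subgroup.le_normalizer hb⟩, hb,
      fun h => ha1 (congrArg Subtype.val h), fun h => hb1 (congrArg Subtype.val h), hab⟩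

end Cfsg.Agent.S0852
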