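-- Statement S0945
import Cfsg.Statements.S0945
import Cfsg.Agent.Lib.Helper22.Homocyclic

set_option autoImplicit false
open Cfsg

namespace Cfsg.Agent.S0945

open Cfsg.Agent.Lib.Helper22

variable {G : Type*} [Group G]

/-- The image of the normalizer in the automorphism group. -/
noncomputable abbrev autImage (P : Subgroup G) : Subgroup (MulAut P) := P.normalizerMonoidHom.range

theorem relIndex_eq_card_autImage (P : Subgroup G) :
    (Subgroup.centralizer (P : Set G)).relIndex (Subgroup.normalizer (P : Set G)) =
      Nat.card (autImage P) := by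
  rw [Subgroup.relIndex, ← Subgroup.normalizerMonoidHom_ker, Subgroup.index_ker]

theorem le_centralizer_of_comm (P : Subgroup G) (hcomm : ∀ a b : P, a * b = b * a) :
    P ≤ Subgroup.centralizer (P : Set G) := by
  intro g hg h hh
  have := hcomm ⟨h, hh⟩ ⟨g, hg⟩
  exact congrArg Subtype.val this

theorem odd_card_autImage [Finite G] (P : Sylow 2 G)
    (hcomm : ∀ a b : (P : Subgroup G), a * b = b * a) :
    Odd (Nat.card (autImage (P : Subgroup G))) := by
  rw [← relIndex_eq_card_autImage]
  have h1 : (Subgroup.centralizer ((P : Subgroup G) : Set G)).relIndex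
      (Subgroup.normalizer ((P : Subgroup G) : Set G)) ∣
      (P : Subgroup G).relIndex (Subgroup.normalizer ((P : Subgroup G) : Set G)) :=
    Subgroup.relIndex_dvd_of_le_left _ (le_centralizer_of_comm _ hcomm)
  have h2 : (P : Subgroup G).relIndex (Subgroup.normalizer ((P : Subgroup G) : Set G)) ∣
      (P : Subgroup G).index :=
    Subgroup.relIndex_dvd_index_of_le Subgroup.le_normalizer
  have h3 : ¬ 2 ∣ (P : Subgroup G).index := P.not_dvd_index
  rw [← Nat.not_even_iff_odd, even_iff_two_dvd]
  intro h
  exact h3 (dvd_trans h (dvd_trans h1 h2))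

/-- Let P be a Sylow 2-subgroup of the finite group G isomorphic to Z/2^m × Z/2^m with m ≥ 1. Then (i) the index of C_G(P) in N_G(P) is 1 or 3, and (ii) if it is not 1, then for every z ≠ 1 in P, C_G(z) ∩ N_G(P) = C_G(P). -/
theorem result {G : Type*} [Group G] [Finite G] (P : Sylow 2 G) (m : ℕ) (hm : 1 ≤ m) (e : (P : Subgroup G) ≃* Multiplicative (ZMod (2 ^ m) × ZMod (2 ^ m))) : ((Subgroup.centralizer (P : Set G)).relIndex (Subgroup.normalizer (P : Set G)) = 1 ∨ (Subgroup.centralizer (P : Set G)).relIndex (Subgroup.normalizer (P : Set G)) = 3) ∧ ((Subgroup.centralizer (P : Set G)).relIndex (Subgroup.normalizer (P : Set G)) ≠ 1 → ∀ z ∈ (P : Subgroup G), z ≠ 1 → Subgroup.centralizer ({z} : Set G) ⊓ Subgroup.normalizer (P : Set G) = Subgroup.centralizer (P : Set G)) := by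
  have hcomm : ∀ a b : (P : Subgroup G), a * b = b * a := comm_of_equiv_zmod m e
  have hP2 : IsPGroup 2 (P : Subgroup G) := P.isPGroup'
  have hT : Nat.card (Invol (P : Subgroup G)) = 3 := card_invol_of_equiv_zmod m hm e
  have hodd := odd_card_autImage P hcomm
  have hcard := card_odd_aut hcomm hP2 hT (autImage (P : Subgroup G)) hodd
  have hrel : (Subgroup.centralizer (P : Set G)).relIndex (Subgroup.normalizer (P : Set G)) =
      Nat.card (autImage (P : Subgroup G)) := relIndex_eq_card_autImage (P : Subgroup G)
  have hCeq : Subgroup.centralizer (P : Set G) =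
      Subgroup.centralizer ((P : Subgroup G) : Set G) := rfl
  have hNeq : Subgroup.normalizer (P : Set G) =
      Subgroup.normalizer ((P : Subgroup G) : Set G) := rfl
  refine ⟨?_, ?_⟩
  · rw [hrel]; exact hcard
  · intro hne z hz hz1
    rw [hrel] at hne
    have h3 : Nat.card (autImage (P : Subgroup G)) = 3 := by
      rcases hcard with h | h
      · exact absurd h hne
      · exact h
    rw [hCeq, hNeq]
    apply le_antisymm
    · rintro n ⟨hnz, hnN⟩
      have hnN' : n ∈ Subgroup.normalizer ((P : Subgroup G) : Set G) := hnN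
      set α : MulAut (P : Subgroup G) := (P : Subgroup G).normalizerMonoidHom ⟨n, hnN'⟩ with hα
      have hαmem : α ∈ autImage (P : Subgroup G) := ⟨⟨n, hnN'⟩, rfl⟩
      have hαz : α ⟨z, hz⟩ = ⟨z, hz⟩ := by
        apply Subtype.ext
        show n * z * n⁻¹ = z
        have := Subgroup.mem_centralizer_singleton_iff.mp hnz
        rw [this, mul_inv_cancel_right]
      have hα1 : α = 1 := by
        by_contra hα1
        have hz1' : (⟨z, hz⟩ : (P : Subgroup G)) ≠ 1 := by
          intro h
          exact hz1 (congrArg Subtype.val h)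
        exact no_fixed_of_card_three hcomm hP2 hT _ h3 α hαmem hα1 ⟨z, hz⟩ hz1' hαz
      have hker : (⟨n, hnN'⟩ : Subgroup.normalizer ((P : Subgroup G) : Set G)) ∈
          (P : Subgroup G).normalizerMonoidHom.ker := hα1
      rw [Subgroup.normalizerMonoidHom_ker, Subgroup.mem_subgroupOf] at hker
      exact hker
    · apply le_inf
      · apply Subgroup.centralizer_le
        intro x hx
        rw [Set.mem_singleton_iff] at hx
        rw [hx]
        exact hz
      · exact Subgroup.centralizer_le_normalizer _

end Cfsg.Agent.S0945
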