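import Cfsg.Statements.S1587
-- import your own Cfsg.Agent.* helpers here

set_option autoImplicit false
open Matrix
open Cfsg

namespace Cfsg.Agent.S1587

theorem quad_symm (B : Matrix (Fin 24) (Fin 24) ℤ) (hsymm : B.IsSymm) (x y : Fin 24 → ℤ) :
    x ⬝ᵥ (B *ᵥ y) = y ⬝ᵥ (B *ᵥ x) := by
  rw [Matrix.dotProduct_mulVec, ← Matrix.mulVec_transpose, hsymm.eq, dotProduct_comm]

theorem quad_two_smul (B : Matrix (Fin 24) (Fin 24) ℤ) (z : Fin 24 → ℤ) :
    ((2 : ℤ) • z) ⬝ᵥ (B *ᵥ ((2 : ℤ) • z)) = 4 * (z ⬝ᵥ (B *ᵥ z)) := by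
  rw [Matrix.mulVec_smul, smul_dotProduct, dotProduct_smul]
  simp only [smul_eq_mul]
  ring


/-- First step of the characterisation of the rank-24 lattice: in an even lattice without roots, norm-8 vectors congruent modulo 2 are equal, opposite or orthogonal. -/
theorem result (B : Matrix (Fin 24) (Fin 24) ℤ) (hsymm : B.IsSymm) (hpos : ∀ x : Fin 24 → ℤ, x ≠ 0 → 0 < x ⬝ᵥ (B *ᵥ x)) (heven : ∀ x : Fin 24 → ℤ, (2 : ℤ) ∣ x ⬝ᵥ (B *ᵥ x)) (h2 : ∀ x : Fin 24 → ℤ, x ⬝ᵥ (B *ᵥ x) ≠ 2) (x y : Fin 24 → ℤ) (hx : x ⬝ᵥ (B *ᵥ x) = 8) (hy : y ⬝ᵥ (B *ᵥ y) = 8) (hc : ∀ i, (2 : ℤ) ∣ (x - y) i) : y = x ∨ y = -x ∨ x ⬝ᵥ (B *ᵥ y) = 0 := by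
  choose z hz using hc
  have hz' : x - y = (2 : ℤ) • z := by
    funext i
    simp only [Pi.smul_apply, smul_eq_mul]
    exact hz i
  set w : Fin 24 → ℤ := y + z with hw
  have hw' : x + y = (2 : ℤ) • w := by
    have : x = y + (2 : ℤ) • z := by rw [← hz']; abel
    rw [hw, this]
    funext i
    simp only [Pi.add_apply, Pi.smul_apply, smul_eq_mul]
    ring
  have hsym := quad_symm B hsymm y x
  have e1 : (x - y) ⬝ᵥ (B *ᵥ (x - y)) = 16 - 2 * (x ⬝ᵥ (B *ᵥ y)) := by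
    rw [Matrix.mulVec_sub, dotProduct_sub, sub_dotProduct, sub_dotProduct, hx, hy, hsym]
    ring
  have e2 : (x + y) ⬝ᵥ (B *ᵥ (x + y)) = 16 + 2 * (x ⬝ᵥ (B *ᵥ y)) := by
    rw [Matrix.mulVec_add, dotProduct_add, add_dotProduct, add_dotProduct, hx, hy, hsym]
    ring
  rw [hz', quad_two_smul] at e1
  rw [hw', quad_two_smul] at e2
  have nonneg : ∀ v : Fin 24 → ℤ, 0 ≤ v ⬝ᵥ (B *ᵥ v) := by
    intro v
    by_cases hv : v = 0
    · subst hv; simp
    · exact (hpos v hv).le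
  have zero_of : ∀ v : Fin 24 → ℤ, v ⬝ᵥ (B *ᵥ v) = 0 → v = 0 := by
    intro v hv
    by_contra hne
    have := hpos v hne
    omega
  obtain ⟨a, ha⟩ := heven z
  obtain ⟨b, hb⟩ := heven w
  have hz0 := nonneg z
  have hw0 := nonneg w
  have hz2 := h2 z
  have hw2 := h2 w
  have ha' : a = 0 ∨ a = 2 ∨ a = 4 := by omega
  rcases ha' with h | h | h
  · left
    have : z = 0 := zero_of z (by omega)
    rw [this, smul_zero, sub_eq_zero] at hz'
    exact hz'.symm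
  · right; right
    omega
  · right; left
    have : w = 0 := zero_of w (by omega)
    rw [this, smul_zero] at hw'
    exact eq_neg_of_add_eq_zero_right hw'

end Cfsg.Agent.S1587
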