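import Cfsg.Statements.S1588
import Cfsg.Agent.Lib.Helper35.LatticeMod2

set_option autoImplicit false
open Matrix
open Cfsg

namespace Cfsg.Agent.S1588

open Cfsg.Agent.Lib.Helper35.LatticeMod2

/-- reduction mod 2 -/
def red (x : Fin 24 → ℤ) : Fin 24 → ZMod 2 := fun i => (x i : ZMod 2)

lemma red_eq_iff (u v : Fin 24 → ℤ) : red u = red v ↔ ∀ i, (2 : ℤ) ∣ (v - u) i := by
  constructor
  · intro h i
    have := congrFun h i
    simp only [red] at this
    have h2 := (ZMod.intCast_eq_intCast_iff_dvd_sub (u i) (v i) 2).mp this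
    simpa using h2
  · intro h
    funext i
    simp only [red]
    apply (ZMod.intCast_eq_intCast_iff_dvd_sub (u i) (v i) 2).mpr
    simpa using h i

/-- weights: 48 for zero, 1 for norm 8, 24 otherwise -/
noncomputable def wt (B : Matrix (Fin 24) (Fin 24) ℤ) (u : Fin 24 → ℤ) : ℕ :=
  open Classical in if u = 0 then 48 else if bil B u u = 8 then 1 else 24

theorem main (B : Matrix (Fin 24) (Fin 24) ℤ) (hsymm : B.IsSymm)
    (hpos : ∀ x : Fin 24 → ℤ, x ≠ 0 → 0 < bil B x x)
    (heven : ∀ x : Fin 24 → ℤ, (2 : ℤ) ∣ bil B x x)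
    (h2 : ∀ x : Fin 24 → ℤ, bil B x x ≠ 2)
    (h4 : {x : Fin 24 → ℤ | bil B x x = 4}.ncard = 196560)
    (h6 : {x : Fin 24 → ℤ | bil B x x = 6}.ncard = 16773120)
    (h8 : {x : Fin 24 → ℤ | bil B x x = 8}.ncard = 398034000)
    (x : Fin 24 → ℤ) (hx : bil B x x = 8) :
    {y : Fin 24 → ℤ | bil B y y = 8 ∧ ∀ i, (2 : ℤ) ∣ (x - y) i}.ncard = 48 := by
  classical
  have fin4 : {x : Fin 24 → ℤ | bil B x x = 4}.Finite :=
    Set.finite_of_ncard_ne_zero (by rw [h4]; norm_num)
  have fin6 : {x : Fin 24 → ℤ | bil B x x = 6}.Finite :=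
    Set.finite_of_ncard_ne_zero (by rw [h6]; norm_num)
  have fin8 : {x : Fin 24 → ℤ | bil B x x = 8}.Finite :=
    Set.finite_of_ncard_ne_zero (by rw [h8]; norm_num)
  set s4 := fin4.toFinset with hs4
  set s6 := fin6.toFinset with hs6
  set s8 := fin8.toFinset with hs8
  have c4 : s4.card = 196560 := by rw [← h4, Set.ncard_eq_toFinset_card _ fin4]
  have c6 : s6.card = 16773120 := by rw [← h6, Set.ncard_eq_toFinset_card _ fin6]
  have c8 : s8.card = 398034000 := by rw [← h8, Set.ncard_eq_toFinset_card _ fin8]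
  have m4 : ∀ u, u ∈ s4 ↔ bil B u u = 4 := fun u => by simp [hs4]
  have m6 : ∀ u, u ∈ s6 ↔ bil B u u = 6 := fun u => by simp [hs6]
  have m8 : ∀ u, u ∈ s8 ↔ bil B u u = 8 := fun u => by simp [hs8]
  have q0 : bil B (0 : Fin 24 → ℤ) 0 = 0 := bil_zero_left B 0
  -- the set of short vectors
  set S : Finset (Fin 24 → ℤ) := (({0} ∪ s4) ∪ s6) ∪ s8 with hS
  have mS : ∀ u, u ∈ S ↔ (u = 0 ∨ bil B u u = 4 ∨ bil B u u = 6 ∨ bil B u u = 8) := by
    intro u
    simp only [hS, Finset.mem_union, Finset.mem_singleton, m4, m6, m8]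
    tauto
  have leS : ∀ u ∈ S, bil B u u ≤ 8 := by
    intro u hu
    rcases (mS u).mp hu with h | h | h | h
    · rw [h, q0]; norm_num
    · omega
    · omega
    · omega
  have ne0 : ∀ u : Fin 24 → ℤ, bil B u u ≠ 0 → u ≠ 0 := by
    intro u h h0; apply h; rw [h0, q0]
  -- total weight
  have wt4 : ∀ u ∈ s4, wt B u = 24 := by
    intro u hu
    have h := (m4 u).mp hu
    have : u ≠ 0 := ne0 u (by omega)
    simp only [wt, this, if_false, h]
    norm_num
  have wt6 : ∀ u ∈ s6, wt B u = 24 := by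
    intro u hu
    have h := (m6 u).mp hu
    have : u ≠ 0 := ne0 u (by omega)
    simp only [wt, this, if_false, h]
    norm_num
  have wt8 : ∀ u, bil B u u = 8 → wt B u = 1 := by
    intro u h
    have : u ≠ 0 := ne0 u (by omega)
    simp only [wt, this, if_false, h, if_true]
  have total : ∑ u ∈ S, wt B u = 48 * 16777216 := by
    rw [hS, Finset.sum_union, Finset.sum_union, Finset.sum_union]
    · rw [Finset.sum_singleton, Finset.sum_congr rfl wt4, Finset.sum_congr rfl wt6,
        Finset.sum_congr rfl (fun u hu => wt8 u ((m8 u).mp hu))]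
      simp only [Finset.sum_const, c4, c6, c8, smul_eq_mul]
      simp [wt]
    · rw [Finset.disjoint_left]
      intro u hu hu'
      rw [Finset.mem_singleton] at hu
      rw [m4, hu, q0] at hu'
      omega
    · rw [Finset.disjoint_left]
      intro u hu hu'
      rw [m6] at hu'
      rcases Finset.mem_union.mp hu with h | h
      · rw [Finset.mem_singleton] at h; rw [h, q0] at hu'; omega
      · rw [m4] at h; omega
    · rw [Finset.disjoint_left]
      intro u hu hu'
      rw [m8] at hu'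
      rcases Finset.mem_union.mp hu with h | h
      · rcases Finset.mem_union.mp h with h | h
        · rw [Finset.mem_singleton] at h; rw [h, q0] at hu'; omega
        · rw [m4] at h; omega
      · rw [m6] at h; omega
  -- fibres
  have fib_alt : ∀ u ∈ S, ∀ v ∈ S, red u = red v → u ≠ v → u ≠ -v →
      bil B u u = 8 ∧ bil B v v = 8 ∧ bil B u v = 0 := by
    intro u hu v hv huv hne hne'
    apply key B hsymm hpos heven h2 (leS u hu) (leS v hv) _ hne hne'
    exact (red_eq_iff v u).mp huv.symm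
  have fib_le : ∀ w : Fin 24 → ZMod 2, ∑ u ∈ S.filter (fun u => red u = w), wt B u ≤ 48 := by
    intro w
    by_cases hex : ∃ u0 ∈ S.filter (fun u => red u = w), bil B u0 u0 ≠ 8
    · obtain ⟨u0, hu0, hq0⟩ := hex
      rw [Finset.mem_filter] at hu0
      have hsub : S.filter (fun u => red u = w) ⊆ {u0, -u0} := by
        intro v hv
        rw [Finset.mem_filter] at hv
        by_contra hcon
        have h1 : v ≠ u0 := fun h => hcon (by simp [h])
        have h2' : v ≠ -u0 := fun h => hcon (by simp [h])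
        have := fib_alt v hv.1 u0 hu0.1 (hv.2.trans hu0.2.symm) h1 h2'
        exact hq0 this.2.1
      refine (Finset.sum_le_sum_of_subset hsub).trans ?_
      by_cases hz : u0 = 0
      · subst hz
        simp [wt]
      · have hne : u0 ≠ -u0 := by
          intro h
          apply hz
          have h2u : (2 : ℤ) • u0 = 0 := by
            rw [two_smul]; nth_rewrite 1 [h]; simp
          funext i
          have := congrFun h2u i
          simp only [Pi.smul_apply, Pi.zero_apply, smul_eq_mul] at this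
          simp only [Pi.zero_apply]
          omega
        rw [Finset.sum_pair hne]
        have hz' : -u0 ≠ 0 := by simpa using hz
        have e1 : wt B u0 = 24 := by simp only [wt, hz, if_false, hq0]
        have e2 : wt B (-u0) = 24 := by
          simp only [wt, hz', if_false, bil_neg_neg, hq0]
        rw [e1, e2]
    · have hex' : ∀ u0 ∈ S.filter (fun u => red u = w), bil B u0 u0 = 8 := by
        intro u0 hu0
        by_contra h
        exact hex ⟨u0, hu0, h⟩
      clear hex
      rename' hex' => hex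
      have hw1 : ∀ u ∈ S.filter (fun u => red u = w), wt B u = 1 := fun u hu => wt8 u (hex u hu)
      rw [Finset.sum_congr rfl hw1]
      simp only [Finset.sum_const, smul_eq_mul, mul_one]
      have := frame_card_le B (S.filter (fun u => red u = w))
        (fun u hu => by rw [hex u hu]; norm_num) ?_
      · omega
      · intro u hu v hv
        by_cases h1 : u = v
        · exact Or.inl h1
        by_cases h2' : u = -v
        · exact Or.inr (Or.inl h2')
        rw [Finset.mem_filter] at hu hv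
        exact Or.inr (Or.inr (fib_alt u hu.1 v hv.1 (hu.2.trans hv.2.symm) h1 h2').2.2)
  -- every fibre has weight exactly 48
  have hsum : ∑ w : Fin 24 → ZMod 2, ∑ u ∈ S.filter (fun u => red u = w), wt B u
      = ∑ _w : Fin 24 → ZMod 2, 48 := by
    have hR : ∑ _w : Fin 24 → ZMod 2, 48 = 48 * 16777216 := by
      rw [Finset.sum_const, Finset.card_univ, Fintype.card_fun, ZMod.card, Fintype.card_fin,
        smul_eq_mul]
      norm_num
    rw [hR, Finset.sum_fiberwise_of_maps_to (fun u _ => Finset.mem_univ (red u)), total]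
  have hall := (Finset.sum_eq_sum_iff_of_le (fun w _ => fib_le w)).mp hsum
  have hfx := hall (red x) (Finset.mem_univ _)
  -- the fibre of x
  have hxS : x ∈ S := (mS x).mpr (Or.inr (Or.inr (Or.inr hx)))
  have hfib8 : ∀ u ∈ S.filter (fun u => red u = red x), bil B u u = 8 := by
    intro u hu
    rw [Finset.mem_filter] at hu
    by_cases h1 : u = x
    · rw [h1]; exact hx
    by_cases h2' : u = -x
    · rw [h2', bil_neg_neg]; exact hx
    exact (fib_alt u hu.1 x hxS hu.2 h1 h2').1
  rw [Finset.sum_congr rfl (fun u hu => wt8 u (hfib8 u hu))] at hfx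
  simp only [Finset.sum_const, smul_eq_mul, mul_one] at hfx
  have hset : {y : Fin 24 → ℤ | bil B y y = 8 ∧ ∀ i, (2 : ℤ) ∣ (x - y) i}
      = ↑(S.filter (fun u => red u = red x)) := by
    ext y
    simp only [Set.mem_ofPred_eq, Finset.coe_filter]
    constructor
    · rintro ⟨hy, hc⟩
      exact ⟨(mS y).mpr (Or.inr (Or.inr (Or.inr hy))), (red_eq_iff y x).mpr hc⟩
    · rintro ⟨hyS, hyr⟩
      exact ⟨hfib8 y (Finset.mem_filter.mpr ⟨hyS, hyr⟩), (red_eq_iff y x).mp hyr⟩
  rw [hset, Set.ncard_coe_finset]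
  exact hfx

/-- Second step of the characterisation: under the vector counts of the rank-24 lattice, the norm-8 vectors fall into congruence classes of exactly 48 modulo twice the lattice. -/
theorem result (B : Matrix (Fin 24) (Fin 24) ℤ) (hsymm : B.IsSymm) (hpos : ∀ x : Fin 24 → ℤ, x ≠ 0 → 0 < x ⬝ᵥ (B *ᵥ x)) (heven : ∀ x : Fin 24 → ℤ, (2 : ℤ) ∣ x ⬝ᵥ (B *ᵥ x)) (h2 : ∀ x : Fin 24 → ℤ, x ⬝ᵥ (B *ᵥ x) ≠ 2) (h4 : {x : Fin 24 → ℤ | x ⬝ᵥ (B *ᵥ x) = 4}.ncard = 196560) (h6 : {x : Fin 24 → ℤ | x ⬝ᵥ (B *ᵥ x) = 6}.ncard = 16773120) (h8 : {x : Fin 24 → ℤ | x ⬝ᵥ (B *ᵥ x) = 8}.ncard = 398034000) (x : Fin 24 → ℤ) (hx : x ⬝ᵥ (B *ᵥ x) = 8) : {y : Fin 24 → ℤ | y ⬝ᵥ (B *ᵥ y) = 8 ∧ ∀ i, (2 : ℤ) ∣ (x - y) i}.ncard = 48 := by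
  exact main B hsymm hpos heven h2 h4 h6 h8 x hx

end Cfsg.Agent.S1588
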