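import Cfsg.Statements.S1529
-- import your own Cfsg.Agent.* helpers here
import Cfsg.Agent.Lib.Helper05.CharDecomp
import Cfsg.Agent.Lib.Helper34.GenChar
import Cfsg.Agent.Lib.Helper34.Coherence

set_option autoImplicit false
open Cfsg

namespace Cfsg.Agent.S1529

open Cfsg.Agent.Lib.Helper34
open Cfsg.Agent.Lib.Helper05 (classInner_irr classInner_irr_self exists_pos_degree)


/-- Let N be a subgroup of the finite group G, S a set of irreducible characters of N with at least two members, and τ₁ a linear isometry on the integer combinations of S with virtual-character values such that τ₁ α vanishes at 1 whenever α ∈ ℤ[S] does. Then there is ε ∈ {1, −1} such that ε • τ₁ χ is an irreducible character of G for every χ ∈ S, and distinct members of S give distinct characters. -/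
theorem result {G : Type*} [Group G] [Fintype G] (N : Subgroup G) [Fintype N] (S : Set (N → ℂ)) (hirr : ∀ χ ∈ S, Cfsg.IsIrrCharacter N χ) (htwo : ∃ χ ∈ S, ∃ ψ ∈ S, χ ≠ ψ) (τ₁ : (N → ℂ) → (G → ℂ)) (hτ₁ : Cfsg.IsLinearIsometryOn (Cfsg.zspan S) τ₁) (h0 : ∀ α ∈ Cfsg.zspan S, α 1 = 0 → τ₁ α 1 = 0) : ∃ ε : ℂ, (ε = 1 ∨ ε = -1) ∧ (∀ χ ∈ S, Cfsg.IsIrrCharacter G (ε • τ₁ χ)) ∧ (∀ χ ∈ S, ∀ ψ ∈ S, τ₁ χ = τ₁ ψ → χ = ψ) := by
  classical
  -- basic facts for members of S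
  have hmem : ∀ χ ∈ S, χ ∈ Cfsg.zspan S := fun χ h => mem_zspan_of_mem h
  have hnorm : ∀ χ ∈ S, Cfsg.classInner (τ₁ χ) (τ₁ χ) = 1 := by
    intro χ hχ
    rw [LIO.inner_eq hτ₁ (hmem χ hχ) (hmem χ hχ), classInner_irr_self (hirr χ hχ)]
  have hpm : ∀ χ ∈ S, Cfsg.IsIrrCharacter G (τ₁ χ) ∨ Cfsg.IsIrrCharacter G (-τ₁ χ) := by
    intro χ hχ
    exact irr_or_neg_irr_of_norm_one (LIO.isGenChar hτ₁ (hmem χ hχ)) (hnorm χ hχ)
  -- the value at 1 of τ₁ χ is a nonzero real number r with sign, and s • τ₁ χ is irreducible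
  have hval : ∀ χ ∈ S, ∃ r : ℝ, r ≠ 0 ∧ τ₁ χ 1 = (r : ℂ) ∧
      (0 < r → Cfsg.IsIrrCharacter G (τ₁ χ)) ∧ (r < 0 → Cfsg.IsIrrCharacter G (-τ₁ χ)) := by
    intro χ hχ
    rcases hpm χ hχ with h | h
    · obtain ⟨n, hn, hn1⟩ := exists_pos_degree h
      refine ⟨(n : ℝ), by exact_mod_cast hn.ne', by rw [hn1]; simp, fun _ => h, fun hneg => ?_⟩
      have : (0 : ℝ) < n := by exact_mod_cast hn
      linarith
    · obtain ⟨n, hn, hn1⟩ := exists_pos_degree h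
      refine ⟨-(n : ℝ), by simpa using hn.ne', ?_, fun hpos => ?_, fun _ => h⟩
      · have : τ₁ χ 1 = -((-τ₁ χ) 1) := by simp
        rw [this, hn1]; simp
      · have : (0 : ℝ) < n := by exact_mod_cast hn
        linarith
  -- proportionality of the values at 1
  have hprop : ∀ χ ∈ S, ∀ ψ ∈ S, ∀ (dχ dψ : ℕ), χ 1 = dχ → ψ 1 = dψ →
      (dψ : ℂ) * τ₁ χ 1 = (dχ : ℂ) * τ₁ ψ 1 := by
    intro χ hχ ψ hψ dχ dψ h1 h2
    have m1 : ((dψ : ℤ) • χ) ∈ Cfsg.zspan S := zsmul_mem_zspan _ (hmem χ hχ)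
    have m2 : ((-(dχ : ℤ)) • ψ) ∈ Cfsg.zspan S := zsmul_mem_zspan _ (hmem ψ hψ)
    have hz : ((dψ : ℤ) • χ + (-(dχ : ℤ)) • ψ) 1 = 0 := by
      simp [h1, h2]
      ring
    have h3 := h0 _ (add_mem_zspan m1 m2) hz
    rw [LIO.map_add hτ₁ m1 m2, LIO.map_zsmul hτ₁ (hmem χ hχ), LIO.map_zsmul hτ₁ (hmem ψ hψ)] at h3
    simp at h3
    linear_combination h3
  obtain ⟨χ₀, hχ₀, -, -, -⟩ := htwo
  obtain ⟨r₀, hr₀, hr₀1, hr₀pos, hr₀neg⟩ := hval χ₀ hχ₀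
  obtain ⟨d₀, hd₀, hd₀1⟩ := exists_pos_degree (hirr χ₀ hχ₀)
  have hd₀' : (0 : ℝ) < d₀ := by exact_mod_cast hd₀
  -- same sign for all
  have hsign : ∀ χ ∈ S, ∀ r : ℝ, τ₁ χ 1 = (r : ℂ) → 0 < r * r₀ := by
    intro χ hχ r hr
    obtain ⟨d, hd, hd1⟩ := exists_pos_degree (hirr χ hχ)
    have hd' : (0 : ℝ) < d := by exact_mod_cast hd
    have h4 := hprop χ hχ χ₀ hχ₀ d d₀ hd1 hd₀1
    rw [hr, hr₀1] at h4
    have h5 : (d₀ : ℝ) * r = (d : ℝ) * r₀ := by exact_mod_cast h4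
    have h6 : r = (d : ℝ) * r₀ / d₀ := by field_simp; linarith
    rw [h6]
    have : (d : ℝ) * r₀ / d₀ * r₀ = (d / d₀) * (r₀ * r₀) := by ring
    rw [this]
    exact mul_pos (div_pos hd' hd₀') (mul_self_pos.mpr hr₀)
  have inj : ∀ χ ∈ S, ∀ ψ ∈ S, τ₁ χ = τ₁ ψ → χ = ψ := by
    intro χ hχ ψ hψ h
    by_contra hne
    have h1 := LIO.inner_eq hτ₁ (hmem χ hχ) (hmem ψ hψ)
    rw [← h, hnorm χ hχ, classInner_irr (hirr χ hχ) (hirr ψ hψ), if_neg hne] at h1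
    exact one_ne_zero h1
  rcases lt_or_gt_of_ne hr₀ with hneg | hpos
  · refine ⟨-1, Or.inr rfl, ?_, inj⟩
    intro χ hχ
    obtain ⟨r, hr, hr1, _, hrneg⟩ := hval χ hχ
    have h7 := hsign χ hχ r hr1
    have hrlt : r < 0 := by
      by_contra hc
      push Not at hc
      have : r * r₀ ≤ 0 := mul_nonpos_of_nonneg_of_nonpos hc hneg.le
      linarith
    have : (-1 : ℂ) • τ₁ χ = -τ₁ χ := by simp
    rw [this]
    exact hrneg hrlt
  · refine ⟨1, Or.inl rfl, ?_, inj⟩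
    intro χ hχ
    obtain ⟨r, hr, hr1, hrpos, _⟩ := hval χ hχ
    have h7 := hsign χ hχ r hr1
    have hrgt : 0 < r := by
      by_contra hc
      push Not at hc
      have : r * r₀ ≤ 0 := mul_nonpos_of_nonpos_of_nonneg hc hpos.le
      linarith
    rw [one_smul]
    exact hrpos hrgt

end Cfsg.Agent.S1529
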