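import Cfsg.Statements.S1505
-- import your own Cfsg.Agent.* helpers here
import Cfsg.Agent.Lib.Helper34.Induction
import Cfsg.Agent.Lib.Helper34.LinChar
import Cfsg.Agent.Lib.Helper34.CyclicTI

set_option autoImplicit false
open Cfsg

namespace Cfsg.Agent.S1505

open Cfsg.Agent.Lib.Helper34

theorem alpha_eq {W : Type*} [Group W] (φ ψ : W →* ℂˣ) :
    (fun w => 1 - (φ w : ℂ) - (ψ w : ℂ) + (φ w : ℂ) * (ψ w : ℂ))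
      = linFun 1 - linFun φ - linFun ψ + linFun (φ * ψ) := by
  funext w
  simp [linFun]

theorem alpha_vanish {G : Type*} [Group G] (W₁ W₂ : Subgroup G) (φ ψ : ↥(W₁ ⊔ W₂) →* ℂˣ)
    (hφ : ∀ w : ↥(W₁ ⊔ W₂), (w : G) ∈ W₂ → φ w = 1)
    (hψ : ∀ w : ↥(W₁ ⊔ W₂), (w : G) ∈ W₁ → ψ w = 1)
    (w : ↥(W₁ ⊔ W₂)) (hw : (w : G) ∈ W₁ ∨ (w : G) ∈ W₂) :
    1 - (φ w : ℂ) - (ψ w : ℂ) + (φ w : ℂ) * (ψ w : ℂ) = 0 := by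
  rcases hw with hw | hw
  · rw [hψ w hw]; simp
  · rw [hφ w hw]; simp


open Classical in
/-- Let W₁, W₂ ≤ G form a self-normalising cyclic subgroup W = W₁ ⊔ W₂. For nontrivial linear characters φ, φ' of W trivial on W₂ and ψ, ψ' trivial on W₁, put α = (1 − φ)(1 − ψ) and α' = (1 − φ')(1 − ψ'). Then the function induced from α to G has inner product 1 with the principal character, and the inner product of the functions induced from α and α' is 1 + a + b + ab where a = 1 if φ = φ' (else 0) and b = 1 if ψ = ψ' (else 0). -/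
theorem result {G : Type*} [Group G] [Fintype G] (W₁ W₂ : Subgroup G) (hW : Cfsg.IsSelfNormalizingCyclic W₁ W₂) (φ φ' ψ ψ' : ↥(W₁ ⊔ W₂) →* ℂˣ) (hφ : φ ≠ 1) (hφ' : φ' ≠ 1) (hψ : ψ ≠ 1) (hψ' : ψ' ≠ 1) (hφ₂ : ∀ w : ↥(W₁ ⊔ W₂), (w : G) ∈ W₂ → φ w = 1 ∧ φ' w = 1) (hψ₁ : ∀ w : ↥(W₁ ⊔ W₂), (w : G) ∈ W₁ → ψ w = 1 ∧ ψ' w = 1) : Cfsg.classInner (Cfsg.indFun (W₁ ⊔ W₂) (fun w => 1 - (φ w : ℂ) - (ψ w : ℂ) + (φ w : ℂ) * (ψ w : ℂ))) (fun _ => 1) = 1 ∧ Cfsg.classInner (Cfsg.indFun (W₁ ⊔ W₂) (fun w => 1 - (φ w : ℂ) - (ψ w : ℂ) + (φ w : ℂ) * (ψ w : ℂ))) (Cfsg.indFun (W₁ ⊔ W₂) (fun w => 1 - (φ' w : ℂ) - (ψ' w : ℂ) + (φ' w : ℂ) * (ψ' w : ℂ))) = 1 + (if φ = φ' then 1 else 0) + (if ψ = ψ' then 1 else 0) + (if φ = φ' then 1 else 0) * (if ψ = ψ' then 1 else 0) := by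
  classical
  let _ : Fintype ↥(W₁ ⊔ W₂) := Fintype.ofFinite _
  have hφ2 : ∀ w : ↥(W₁ ⊔ W₂), (w : G) ∈ W₂ → φ w = 1 := fun w hw => (hφ₂ w hw).1
  have hφ'2 : ∀ w : ↥(W₁ ⊔ W₂), (w : G) ∈ W₂ → φ' w = 1 := fun w hw => (hφ₂ w hw).2
  have hψ1 : ∀ w : ↥(W₁ ⊔ W₂), (w : G) ∈ W₁ → ψ w = 1 := fun w hw => (hψ₁ w hw).1
  have hψ'1 : ∀ w : ↥(W₁ ⊔ W₂), (w : G) ∈ W₁ → ψ' w = 1 := fun w hw => (hψ₁ w hw).2
  have triv2 : ∀ w : ↥(W₁ ⊔ W₂), (w : G) ∈ W₂ → (1 : ↥(W₁ ⊔ W₂) →* ℂˣ) w = 1 := fun _ _ => rfl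
  have triv1 : ∀ w : ↥(W₁ ⊔ W₂), (w : G) ∈ W₁ → (1 : ↥(W₁ ⊔ W₂) →* ℂˣ) w = 1 := fun _ _ => rfl
  have e : ∀ ω ω' : ↥(W₁ ⊔ W₂) →* ℂˣ, classInner (linFun ω) (linFun ω') = if ω = ω' then 1 else 0 :=
    fun ω ω' => classInner_linFun ω ω'
  -- distinctness facts
  have n1 : ¬ (1 : ↥(W₁ ⊔ W₂) →* ℂˣ) = φ' := fun h => hφ' h.symm
  have n2 : ¬ (1 : ↥(W₁ ⊔ W₂) →* ℂˣ) = ψ' := fun h => hψ' h.symm
  have n3 : ¬ (1 : ↥(W₁ ⊔ W₂) →* ℂˣ) = φ' * ψ' := fun h =>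
    hψ' (eq_one_of_mul_eq_right W₁ W₂ φ' ψ' 1 hφ'2 hψ'1 triv2 h.symm)
  have n4 : ¬ φ = 1 := hφ
  have n5 : ¬ φ = ψ' := fun h => hφ (hom_ext_sup W₁ W₂ φ 1 (fun w hw => by rw [h, hψ'1 w hw]; rfl)
    (fun w hw => by rw [hφ2 w hw]; rfl))
  have n6 : ¬ φ = φ' * ψ' := fun h =>
    hψ' (eq_one_of_mul_eq_right W₁ W₂ φ' ψ' φ hφ'2 hψ'1 hφ2 h.symm)
  have n7 : ¬ ψ = 1 := hψ
  have n8 : ¬ ψ = φ' := fun h => hψ (hom_ext_sup W₁ W₂ ψ 1 (fun w hw => by rw [hψ1 w hw]; rfl)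
    (fun w hw => by rw [h, hφ'2 w hw]; rfl))
  have n9 : ¬ ψ = φ' * ψ' := fun h =>
    hφ' (eq_one_of_mul_eq_left W₁ W₂ φ' ψ' ψ hφ'2 hψ'1 hψ1 h.symm)
  have n10 : ¬ φ * ψ = 1 := fun h =>
    hψ (eq_one_of_mul_eq_right W₁ W₂ φ ψ 1 hφ2 hψ1 triv2 h)
  have n11 : ¬ φ * ψ = φ' := fun h =>
    hψ (eq_one_of_mul_eq_right W₁ W₂ φ ψ φ' hφ2 hψ1 hφ'2 h)
  have n12 : ¬ φ * ψ = ψ' := fun h =>
    hφ (eq_one_of_mul_eq_left W₁ W₂ φ ψ ψ' hφ2 hψ1 hψ'1 h)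
  have n13 := mul_eq_mul_iff W₁ W₂ φ ψ φ' ψ' hφ2 hψ1 hφ'2 hψ'1
  have one_class : IsClassFunction G (fun _ => (1 : ℂ)) := fun _ _ => rfl
  refine ⟨?_, ?_⟩
  · rw [classInner_indFun_left _ _ _ one_class, alpha_eq, ← linFun_one]
    simp only [classInner_add_left, classInner_sub_left, e]
    simp [n4, n7, n10]
  · rw [classInner_indFun_left _ _ _ (indFun_isClassFunction _ _)]
    have h1 : classInner (fun w => 1 - (φ w : ℂ) - (ψ w : ℂ) + (φ w : ℂ) * (ψ w : ℂ))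
        (fun h : ↥(W₁ ⊔ W₂) => indFun (W₁ ⊔ W₂)
          (fun w => 1 - (φ' w : ℂ) - (ψ' w : ℂ) + (φ' w : ℂ) * (ψ' w : ℂ)) h)
        = classInner (fun w => 1 - (φ w : ℂ) - (ψ w : ℂ) + (φ w : ℂ) * (ψ w : ℂ))
          (fun w => 1 - (φ' w : ℂ) - (ψ' w : ℂ) + (φ' w : ℂ) * (ψ' w : ℂ)) := by
      rw [classInner_def, classInner_def]
      congr 1
      apply Finset.sum_congr rfl
      intro w _
      by_cases hw : (w : G) ∈ W₁ ∨ (w : G) ∈ W₂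
      · rw [alpha_vanish W₁ W₂ φ ψ hφ2 hψ1 w hw, zero_mul, zero_mul]
      · rw [not_or] at hw
        rw [selfNormCyclic_indFun_apply W₁ W₂ hW _ (alpha_vanish W₁ W₂ φ' ψ' hφ'2 hψ'1) w hw.1 hw.2]
    rw [h1, alpha_eq, alpha_eq]
    simp only [classInner_add_left, classInner_sub_left, classInner_add_right, classInner_sub_right, e]
    simp only [n1, n2, n3, n4, n5, n6, n7, n8, n9, n10, n11, n12, n13, if_false, if_true]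
    by_cases h1 : φ = φ' <;> by_cases h2 : ψ = ψ' <;> simp [h1, h2]

end Cfsg.Agent.S1505
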