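import Cfsg.Statements.S1056
import Cfsg.Agent.Lib.Helper08.B2Iso
import Cfsg.Agent.Lib.Helper08.PSp4Simple

set_option autoImplicit false
open Cfsg

namespace Cfsg.Agent.S1056

/-- B₂(F) is simple for every field `F` other than the field with two elements. -/
theorem result {F : Type*} [Field F] (hF : ∃ a : F, a ≠ 0 ∧ a ≠ 1) : IsSimpleGroup ↥(Cfsg.Lie.chevB2.group F) ∧ ¬ IsMulCommutative ↥(Cfsg.Lie.chevB2.group F) := by
  have e := Cfsg.Agent.Lib.Helper08.B2Sp.b2Iso (F := F)
  constructor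
  · exact e.isSimpleGroup_congr.mpr (Cfsg.Agent.Lib.Helper08.PSp4.psp4_simple hF)
  · intro hc
    apply Cfsg.Agent.Lib.Helper08.PSp4.psp4_not_comm hF
    refine ⟨⟨fun a b => ?_⟩⟩
    have h := hc.is_comm.comm (e.symm a) (e.symm b)
    have h2 := congrArg e h
    simpa using h2

end Cfsg.Agent.S1056
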