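import Cfsg.Statements.S1102
import Cfsg.Agent.Lib.Helper24.FactsAll
import Cfsg.Agent.Lib.Helper24.SimpleTables
import Cfsg.Agent.Lib.Helper76.TwistE6
import Cfsg.Agent.Lib.Helper14.TwCountE6
import Cfsg.Agent.Lib.Helper32.TwCountE6Z
import Cfsg.Agent.Lib.Helper19.TwCountE6hZ

set_option autoImplicit false
open Cfsg

namespace Cfsg.Agent.S1102

/-- `|H¹| = |G¹ ∩ H|`: `Nat.gcd 3 (q + 1) * |H¹| = (q - 1) ^ 4 * (q + 1) ^ 2` for ²E₆(q). -/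
theorem result {K : Type*} [Field K] [Fintype K] {q : ℕ} (hq : IsPrimePow q) (hK : Fintype.card K = q ^ 2) :
    Nat.gcd 3 (q + 1) * Nat.card ↥(Cfsg.Lie.chevE6.diagonalSubgroup K ⊓ Cfsg.Lie.twistedE6 K q) = (q - 1) ^ 4 * (q + 1) ^ 2 := by
  have hF := Cfsg.Agent.Lib.Helper24.facts_all Cfsg.Lie.chevE6 (by simp)
  have hS := Cfsg.Agent.Lib.Helper24.simpleOK_all Cfsg.Lie.chevE6 (by simp)
  have key := Cfsg.Agent.Lib.Helper76.Twist.card_diagonal_inf_twistedE6 hF hS hq hK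
    (Cfsg.Agent.Lib.Helper14.TwCount.card_fix_E6 q hK)
    (Cfsg.Agent.Lib.Helper32.TwCount.card_fix_center_E6 q hK)
    (fun ζ hζ c0 c5 h0 h5 => Cfsg.Agent.Lib.Helper19.TwCount.hZ_E6 q hK ζ hζ c0 c5 h0 h5)
  rw [mul_comm, key]
  have h2 := Cfsg.Agent.Lib.Helper76.TwistCount.two_le_of_card hK
  obtain ⟨m, rfl⟩ : ∃ m, q = m + 1 := ⟨q - 1, by omega⟩
  have e : (m + 1) ^ 2 = (m ^ 2 + 2 * m) + 1 := by ring
  rw [e, Nat.add_sub_cancel, Nat.add_sub_cancel]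
  ring

end Cfsg.Agent.S1102
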