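import Cfsg.Statements.S1106
import Cfsg.Agent.Lib.Helper24.FactsAll
import Cfsg.Agent.Lib.Helper24.SimpleTables
import Cfsg.Agent.Lib.Helper76.TwistD4
import Cfsg.Agent.Lib.Helper14.TwCountD4

set_option autoImplicit false
open Cfsg

namespace Cfsg.Agent.S1106

/-- `|H¹| = |G¹ ∩ H|`: `|H¹| = (q - 1) ^ 2 * (q ^ 2 + q + 1)` for ³D₄(q). -/
theorem result {K : Type*} [Field K] [Fintype K] {q : ℕ} (hq : IsPrimePow q) (hK : Fintype.card K = q ^ 3) :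
    Nat.card ↥(Cfsg.Lie.chevD4.diagonalSubgroup K ⊓ Cfsg.Lie.twistedD4 K q) = (q - 1) ^ 2 * (q ^ 2 + q + 1) := by
  have hF := Cfsg.Agent.Lib.Helper24.facts_all Cfsg.Lie.chevD4 (by simp)
  have hS := Cfsg.Agent.Lib.Helper24.simpleOK_all Cfsg.Lie.chevD4 (by simp)
  rw [Cfsg.Agent.Lib.Helper76.Twist.card_diagonal_inf_twistedD4 hF hS hq hK
    (Cfsg.Agent.Lib.Helper14.TwCount.card_fix_D4 q hK)]
  have h2 := Cfsg.Agent.Lib.Helper76.TwistCount.two_le_of_card hK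
  obtain ⟨m, rfl⟩ : ∃ m, q = m + 1 := ⟨q - 1, by omega⟩
  have e : (m + 1) ^ 3 = (m ^ 3 + 3 * m ^ 2 + 3 * m) + 1 := by ring
  rw [e, Nat.add_sub_cancel, Nat.add_sub_cancel]
  ring

end Cfsg.Agent.S1106
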