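import Cfsg.Statements.S1068
import Cfsg.Agent.Lib.Helper33.F4Final
import Cfsg.Agent.Lib.Helper76.F4Order
import Cfsg.Agent.Lib.Helper76.F4OrderArith
import Cfsg.Agent.Lib.Helper76.F4OReps
import Cfsg.Agent.Lib.Helper76.F4OUn
import Cfsg.Agent.Lib.Helper76.F4OSeg
-- import your own Cfsg.Agent.* helpers here

set_option autoImplicit false
open Cfsg

namespace Cfsg.Agent.S1068

/-- `|²F₄(q)| = q¹² (q - 1)(q³ + 1)(q⁴ - 1)(q⁶ + 1)` for `q = 2^(2m+1)` (θ = 2^m-th power map), every `m ≥ 0`. -/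
theorem result {K : Type*} [Field K] [Fintype K] {m : ℕ} (hK : Fintype.card K = 2 ^ (2 * m + 1)) :
    Nat.card ↥(Cfsg.Lie.twistedF4 K (2 ^ m)) =
      (2 ^ (2 * m + 1)) ^ 12 * (2 ^ (2 * m + 1) - 1) * ((2 ^ (2 * m + 1)) ^ 3 + 1) * ((2 ^ (2 * m + 1)) ^ 4 - 1) * ((2 ^ (2 * m + 1)) ^ 6 + 1) := by
  obtain ⟨S, L, C, T⟩ := Cfsg.Agent.Lib.Helper33.F4.exists_leavesF hK
  have he : (2 : ℕ) ^ m ≠ 0 := by positivity
  have h := Cfsg.Agent.Lib.Helper76.F4O.card_twistedF4 L C.card_eq T.card_eq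
    (fun j hj => Cfsg.Agent.Lib.Helper76.F4O.reps_mem L j hj)
    (fun j j' hj hj' h => Cfsg.Agent.Lib.Helper76.F4O.reps_dis j j' hj hj' h)
    (fun n hn hnG => Cfsg.Agent.Lib.Helper76.F4O.reps_cover L n hn hnG)
    (fun j hj => Cfsg.Agent.Lib.Helper76.F4O.Un_eq j hj)
    (fun i len h => Cfsg.Agent.Lib.Helper76.F4O.card_seg C he i len h)
  rw [h, hK]
  exact Cfsg.Agent.Lib.Helper76.F4O.order_arith _ (Nat.one_le_two_pow)

end Cfsg.Agent.S1068
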