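import Cfsg.Statements.S1163
import Cfsg.Agent.Lib.Helper09.SuzukiLie
import Cfsg.Agent.Lib.Helper09.SuzukiBorel

set_option autoImplicit false
open Cfsg

namespace Cfsg.Agent.S1163

open Cfsg.Agent.Lib.Helper09

section Aux
variable {F : Type*} [Field F] [Fintype F] {m : ℕ}

theorem stab_oInf_card (hm : 1 ≤ m) (hF : Fintype.card F = 2 ^ (2 * m + 1)) :
    Nat.card ↥(MulAction.stabilizer ↥(Cfsg.Sz F m) (oInf F m))
      = (2 ^ (2 * m + 1)) ^ 2 * (2 ^ (2 * m + 1) - 1) := by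
  have : MulAction.stabilizer ↥(Cfsg.Sz F m) (oInf F m)
      = MulAction.stabilizer ↥(Cfsg.Sz F m) (pInf F) := by
    ext g
    rw [MulAction.mem_stabilizer_iff, MulAction.mem_stabilizer_iff, Subtype.ext_iff]
    rfl
  rw [this, card_stab_inf hm hF]

theorem general {G : Type*} [Group G] (hm : 1 ≤ m) (hF : Fintype.card F = 2 ^ (2 * m + 1))
    (e : G ≃* ↥(Cfsg.Sz F m)) :
    Nat.card G = (2 ^ (2 * m + 1)) ^ 2 * (2 ^ (2 * m + 1) - 1) * ((2 ^ (2 * m + 1)) ^ 2 + 1) ∧
    ∃ S : Sylow 2 G,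
      Nat.card (Subgroup.normalizer ((S : Subgroup G) : Set G)) = (2 ^ (2 * m + 1)) ^ 2 * (2 ^ (2 * m + 1) - 1) ∧
      (Subgroup.normalizer ((S : Subgroup G) : Set G)).index = (2 ^ (2 * m + 1)) ^ 2 + 1 ∧
      MulAction.IsMultiplyPretransitive G (G ⧸ Subgroup.normalizer ((S : Subgroup G) : Set G)) 2 ∧
      ∀ x y : G ⧸ Subgroup.normalizer ((S : Subgroup G) : Set G),
        x ≠ (QuotientGroup.mk 1) → y ≠ (QuotientGroup.mk 1) → ∃! s : ↥(S : Subgroup G), (s : G) • x = y := by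
  have : Fact (Nat.Prime 2) := ⟨Nat.prime_two⟩
  have hfin0 : Finite ↥(Cfsg.Sz F m) := inferInstance
  have hfin : Finite G := Finite.of_equiv _ e.symm.toEquiv
  have hcard : Nat.card G = (2 ^ (2 * m + 1)) ^ 2 * (2 ^ (2 * m + 1) - 1) * ((2 ^ (2 * m + 1)) ^ 2 + 1) := by
    rw [Nat.card_congr e.toEquiv, card_sz hm hF]; ring
  refine ⟨hcard, ?_⟩
  set U' : Subgroup G := (Uz hF).map e.symm.toMonoidHom with hU'
  have hmemU : ∀ x, x ∈ U' ↔ e x ∈ Uz hF := by
    intro x
    rw [hU', Subgroup.mem_map_equiv]; rfl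
  have hU'card : Nat.card U' = (2 ^ (2 * m + 1)) ^ 2 := by
    rw [← card_Uz hF]
    exact (Nat.card_congr (e.symm.subgroupMap (Uz hF)).toEquiv).symm
  have hU'card' : Nat.card U' = 2 ^ (Nat.card G).factorization 2 := by
    rw [Nat.card_congr e.toEquiv, factorization_card_sz hm hF, hU'card, ← pow_mul]
    ring_nf
  refine ⟨Sylow.ofCard U' hU'card', ?_⟩
  have hS : ((Sylow.ofCard U' hU'card' : Sylow 2 G) : Subgroup G) = U' := rfl
  rw [hS]
  -- the normaliser
  have hN : ∀ y : G, y ∈ Subgroup.normalizer (U' : Set G) ↔ e y • oInf F m = oInf F m := by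
    intro y
    rw [← MulAction.mem_stabilizer_iff, ← normalizer_Uz hm hF, Subgroup.mem_normalizer_iff,
      Subgroup.mem_normalizer_iff]
    constructor
    · intro h z
      have := h (e.symm z)
      rw [hmemU, hmemU] at this
      simpa using this
    · intro h z
      rw [hmemU, hmemU]
      simpa using h (e z)
  -- cardinality of the normaliser
  have hNeq : Subgroup.normalizer (U' : Set G)
      = (MulAction.stabilizer ↥(Cfsg.Sz F m) (oInf F m)).map e.symm.toMonoidHom := by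
    ext y
    rw [hN, Subgroup.mem_map_equiv, MulAction.mem_stabilizer_iff]; rfl
  have hNcard : Nat.card (Subgroup.normalizer (U' : Set G))
      = (2 ^ (2 * m + 1)) ^ 2 * (2 ^ (2 * m + 1) - 1) := by
    rw [hNeq, ← stab_oInf_card hm hF]
    exact (Nat.card_congr (e.symm.subgroupMap _).toEquiv).symm
  have hq1 : 2 ^ 1 < 2 ^ (2 * m + 1) := Nat.pow_lt_pow_right (by norm_num) (by omega)
  have hNindex : (Subgroup.normalizer (U' : Set G)).index = (2 ^ (2 * m + 1)) ^ 2 + 1 := by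
    have h1 := Subgroup.index_mul_card (Subgroup.normalizer (U' : Set G))
    rw [hNcard, hcard] at h1
    have hpos : 0 < (2 ^ (2 * m + 1)) ^ 2 * (2 ^ (2 * m + 1) - 1) := by
      apply Nat.mul_pos (by positivity)
      omega
    apply Nat.eq_of_mul_eq_mul_right hpos
    rw [h1]; ring
  refine ⟨hNcard, hNindex, ?_⟩
  -- the coset space as the ovoid
  set N := Subgroup.normalizer (U' : Set G) with hNdef
  let φ : G ⧸ N → ↥(Cfsg.suzukiOvoid F m) :=
    Quotient.lift (fun g : G => e g • oInf F m) (by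
      intro a b hab
      have hab' : a⁻¹ * b ∈ N := QuotientGroup.leftRel_apply.1 hab
      rw [hN, map_mul, mul_smul, map_inv, inv_smul_eq_iff] at hab'
      exact hab'.symm)
  have hφmk : ∀ g : G, φ (QuotientGroup.mk g) = e g • oInf F m := fun g => rfl
  have hφinj : Function.Injective φ := by
    intro a b
    induction a using QuotientGroup.induction_on with
    | H a =>
      induction b using QuotientGroup.induction_on with
      | H b =>
        intro h
        rw [hφmk, hφmk] at h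
        rw [QuotientGroup.eq, hN, map_mul, mul_smul, map_inv, inv_smul_eq_iff]
        exact h.symm
  have hφsmul : ∀ (g : G) (x : G ⧸ N), φ (g • x) = e g • φ x := by
    intro g x
    induction x using QuotientGroup.induction_on with
    | H a =>
      rw [MulAction.Quotient.smul_mk, hφmk, hφmk, smul_eq_mul, map_mul, mul_smul]
  have hφone : φ (QuotientGroup.mk 1) = oInf F m := by rw [hφmk, map_one, one_smul]
  refine ⟨?_, ?_⟩
  · rw [MulAction.is_two_pretransitive_iff]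
    intro a b c d hab hcd
    obtain ⟨g₀, h1, h2⟩ := (MulAction.is_two_pretransitive_iff.1 (sz_two_pretransitive hF))
      (hφinj.ne hab) (hφinj.ne hcd)
    refine ⟨e.symm g₀, hφinj ?_, hφinj ?_⟩
    · rw [hφsmul, MulEquiv.apply_symm_apply, h1]
    · rw [hφsmul, MulEquiv.apply_symm_apply, h2]
  · intro x y hx hy
    have hx' : φ x ≠ oInf F m := by rw [← hφone]; exact hφinj.ne hx
    have hy' : φ y ≠ oInf F m := by rw [← hφone]; exact hφinj.ne hy
    rcases ovoid_cases (φ x) with h | ⟨a, b, hab⟩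
    · exact absurd h hx'
    rcases ovoid_cases (φ y) with h | ⟨c, d, hcd⟩
    · exact absurd h hy'
    have hsU : e.symm (tauG hF c d * (tauG hF a b)⁻¹) ∈ U' := by
      rw [hmemU, MulEquiv.apply_symm_apply]
      exact mul_mem (tauG_mem_Uz hF c d) (inv_mem (tauG_mem_Uz hF a b))
    refine ⟨⟨_, hsU⟩, ?_, ?_⟩
    · apply hφinj
      show φ (e.symm (tauG hF c d * (tauG hF a b)⁻¹) • x) = φ y
      rw [hφsmul, MulEquiv.apply_symm_apply, hab, hcd, mul_smul,
        inv_smul_eq_iff.2 (tauG_smul_oAff_zero hF a b).symm, tauG_smul_oAff_zero]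
    · rintro ⟨s, hs⟩ hsy
      have hsy' : s • x = y := hsy
      apply Subtype.ext
      show s = e.symm (tauG hF c d * (tauG hF a b)⁻¹)
      set t := e.symm (tauG hF c d * (tauG hF a b)⁻¹) with ht
      have hty : t • x = y := by
        apply hφinj
        rw [hφsmul, ht, MulEquiv.apply_symm_apply, hab, hcd, mul_smul,
          inv_smul_eq_iff.2 (tauG_smul_oAff_zero hF a b).symm, tauG_smul_oAff_zero]
      have hfix : e (t⁻¹ * s) • φ x = φ x := by
        rw [← hφsmul, mul_smul, hsy', ← hty, inv_smul_smul]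
      have hmem : e (t⁻¹ * s) ∈ Uz hF := by
        rw [← hmemU]
        exact mul_mem (inv_mem hsU) hs
      obtain ⟨α, β, hαβ⟩ := (mem_Uz hF _).1 hmem
      by_contra hne
      have hne1 : tauG hF α β ≠ 1 := by
        rw [← hαβ]
        intro h1
        have : t⁻¹ * s = 1 := e.injective (by rw [h1, map_one])
        apply hne
        rw [inv_mul_eq_one] at this
        exact this.symm
      rw [hαβ] at hfix
      exact hx' (tauG_fix hF hne1 hfix)

end Aux

/-- For the Suzuki group Sz(q), q = 2^(2m+1) ≥ 8, realised as the elements g of Sp₄(F) with g* = g^θ (θ the 2^(m+1)-th power map, so that θ² is squaring): `|Sz(q)| = q² (q - 1) (q² + 1)`, and there is a Sylow 2-subgroup `S` whose normaliser `H` has order `q²(q-1)` and index `q² + 1`, the action of `Sz(q)` on the cosets of `H` is doubly transitive, and `S` acts regularly on the cosets other than `H` itself. -/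
theorem result {F : Type*} [Field F] [Fintype F] {m : ℕ} (hm : 1 ≤ m) (hF : Fintype.card F = 2 ^ (2 * m + 1)) :
    Nat.card ↥(Cfsg.Lie.Sz F (2 ^ (m + 1))) = (2 ^ (2 * m + 1)) ^ 2 * (2 ^ (2 * m + 1) - 1) * ((2 ^ (2 * m + 1)) ^ 2 + 1) ∧
    ∃ S : Sylow 2 ↥(Cfsg.Lie.Sz F (2 ^ (m + 1))),
      Nat.card (Subgroup.normalizer ((S : Subgroup ↥(Cfsg.Lie.Sz F (2 ^ (m + 1)))) : Set ↥(Cfsg.Lie.Sz F (2 ^ (m + 1))))) = (2 ^ (2 * m + 1)) ^ 2 * (2 ^ (2 * m + 1) - 1) ∧
      (Subgroup.normalizer ((S : Subgroup ↥(Cfsg.Lie.Sz F (2 ^ (m + 1)))) : Set ↥(Cfsg.Lie.Sz F (2 ^ (m + 1))))).index = (2 ^ (2 * m + 1)) ^ 2 + 1 ∧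
      MulAction.IsMultiplyPretransitive ↥(Cfsg.Lie.Sz F (2 ^ (m + 1))) (↥(Cfsg.Lie.Sz F (2 ^ (m + 1))) ⧸ Subgroup.normalizer ((S : Subgroup ↥(Cfsg.Lie.Sz F (2 ^ (m + 1)))) : Set ↥(Cfsg.Lie.Sz F (2 ^ (m + 1))))) 2 ∧
      ∀ x y : ↥(Cfsg.Lie.Sz F (2 ^ (m + 1))) ⧸ Subgroup.normalizer ((S : Subgroup ↥(Cfsg.Lie.Sz F (2 ^ (m + 1)))) : Set ↥(Cfsg.Lie.Sz F (2 ^ (m + 1)))),
        x ≠ (QuotientGroup.mk 1) → y ≠ (QuotientGroup.mk 1) → ∃! s : ↥(S : Subgroup ↥(Cfsg.Lie.Sz F (2 ^ (m + 1)))), (s : ↥(Cfsg.Lie.Sz F (2 ^ (m + 1)))) • x = y := by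
  exact general hm hF (lieEquiv hm hF).symm

end Cfsg.Agent.S1163
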