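import Cfsg.Statements.S1521
-- import your own Cfsg.Agent.* helpers here
import Cfsg.Agent.Lib.Helper34.Coherence
import Cfsg.Agent.Lib.Helper34.IndAbove
import Cfsg.Agent.Lib.Helper34.NilpQuot
import Cfsg.Agent.Lib.Helper34.FrobQuot
import Cfsg.Agent.S1516
import Cfsg.Agent.S1517
import Cfsg.Agent.S1520

set_option autoImplicit false
open Cfsg

namespace Cfsg.Agent.S1521

open Cfsg.Agent.Lib.Helper34

section

open scoped commutatorElement

variable {L : Type*} [Group L] [Fintype L] {G : Type*} [Group G] [Fintype G]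

/-- a conjugation-closed nonempty subset of a coherence system is a coherence system -/
theorem isCoherenceSystem_subset {S S' : Set (L → ℂ)} {τ : (L → ℂ) → (G → ℂ)}
    {R : (L → ℂ) → Finset (G → ℂ)} (hS : Cfsg.IsCoherenceSystem S τ R) (hsub : S' ⊆ S)
    (hne : S'.Nonempty) (hconj : ∀ χ ∈ S', Cfsg.conjFun χ ∈ S') :
    Cfsg.IsCoherenceSystem S' τ R := by
  have hsubOn : Cfsg.zspanOn S' ({1}ᶜ : Set L) ⊆ Cfsg.zspanOn S ({1}ᶜ : Set L) :=
    Cfsg.Agent.S1516.zspanOn_mono' hsub
  obtain ⟨h1, h2, h3, h4⟩ := hS.isometry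
  exact
  { nonempty := hne
    isCharacter := fun χ h => hS.isCharacter χ (hsub h)
    conj_mem := hconj
    conj_ne := fun χ h => hS.conj_ne χ (hsub h)
    isometry := ⟨fun α hα β hβ => h1 α (hsubOn hα) β (hsubOn hβ),
      fun α hα n => h2 α (hsubOn hα) n,
      fun α hα β hβ => h3 α (hsubOn hα) β (hsubOn hβ), fun α hα => h4 α (hsubOn hα)⟩
    map_one := fun α hα => hS.map_one α (hsubOn hα)
    orthogonal := fun χ hχ φ hφ => hS.orthogonal χ (hsub hχ) φ (hsub hφ)
    orthonormal := fun χ hχ => hS.orthonormal χ (hsub hχ)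
    virtual := fun χ hχ => hS.virtual χ (hsub hχ)
    sum_eq := fun χ hχ => hS.sum_eq χ (hsub hχ)
    disjoint := fun χ hχ φ hφ => hS.disjoint χ (hsub hχ) φ (hsub hφ) }

/-- `S(H₁)` is coherent when `K/H₁` is abelian: all degrees are equal -/
theorem coherent_above_derived (K : Subgroup L) [hK : K.Normal] (hsolv : Group.IsSolvable K)
    (τ : (L → ℂ) → (G → ℂ)) (R : (L → ℂ) → Finset (G → ℂ))
    (hS : Cfsg.IsCoherenceSystem (Cfsg.inducedIrrAbove K ⊥) τ R)
    (H₁ : Subgroup L) [H₁.Normal] (hH₁K : H₁ < K) (hab : ⁅K, K⁆ ≤ H₁) :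
    Cfsg.IsCoherent (Cfsg.inducedIrrAbove K H₁) {1}ᶜ τ := by
  have hsub : Cfsg.inducedIrrAbove K H₁ ⊆ Cfsg.inducedIrrAbove K ⊥ :=
    inducedIrrAbove_anti K bot_le
  haveI : (H₁.subgroupOf K).Normal := inferInstance
  obtain ⟨lam, hlam, hlam1, hlamne, hlamA⟩ := exists_linear_above K hsolv H₁ hH₁K
  have hne : (Cfsg.inducedIrrAbove K H₁).Nonempty := ⟨Cfsg.indFun K lam, lam, hlam, hlamne, hlamA, rfl⟩
  have hS' := isCoherenceSystem_subset hS hsub hne
    (fun χ hχ => inducedIrrAbove_conj_mem K H₁ hχ)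
  apply Cfsg.Agent.S1517.result _ τ R hS'
  rintro φ ⟨θ, hθ, -, hker, rfl⟩ ψ ⟨θ', hθ', -, hker', rfl⟩
  rw [Cfsg.Agent.Lib.Helper83.indFun_one_eq, Cfsg.Agent.Lib.Helper83.indFun_one_eq,
    degree_one_of_ker K H₁ hab hθ hker, degree_one_of_ker K H₁ hab hθ' hker']

theorem numeric_a {e rN w rH u v : ℕ} (he1 : 1 < e) (heodd : Odd e) (hrN : u * e + 1 = rN)
    (hrH : v * e + 1 = rH) (hmul : w * rN = rH) (hw1 : 1 < w) (hrN1 : 1 < rN) (hwodd : Odd w)
    (hrNodd : Odd rN) : 4 * e ^ 2 + 1 < rH := by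
  -- `rN ≥ 2e + 1`
  have hu : 2 ≤ u := by
    have hu1 : 1 ≤ u := by
      rcases Nat.eq_zero_or_pos u with h | h
      · subst h; omega
      · exact h
    have heven : Even (u * e) := by
      rw [← hrN] at hrNodd
      rcases Nat.even_or_odd (u * e) with h | h
      · exact h
      · exact absurd hrNodd (by rw [Nat.not_odd_iff_even]; exact Odd.add_one h)
    rcases Nat.even_mul.mp heven with h | h
    · obtain ⟨k, hk⟩ := h; omega
    · exact absurd heodd (by rw [Nat.not_odd_iff_even]; exact h)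
  have h1 : 2 * e + 1 ≤ rN := by nlinarith
  -- `w ≥ 2e + 1`
  have hz : (w : ℤ) - 1 = e * ((v : ℤ) - w * u) := by
    have h := hmul
    rw [← hrN, ← hrH] at h
    have h' : (w : ℤ) * (u * e + 1) = v * e + 1 := by exact_mod_cast h
    linear_combination h'
  have hs : 2 ≤ (v : ℤ) - w * u := by
    set s := (v : ℤ) - w * u with hsdef
    have hpos : 0 < s := by
      by_contra hneg
      push Not at hneg
      have : (e : ℤ) * s ≤ 0 := mul_nonpos_of_nonneg_of_nonpos (by positivity) hneg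
      have hw' : (1 : ℤ) < w := by exact_mod_cast hw1
      linarith
    have heven : Even ((e : ℤ) * s) := by
      rw [← hz]
      obtain ⟨k, hk⟩ := hwodd
      exact ⟨k, by push_cast [hk]; ring⟩
    rcases Int.even_mul.mp heven with h | h
    · exact absurd heodd (by rw [Nat.not_odd_iff_even]; exact_mod_cast h)
    · obtain ⟨k, hk⟩ := h; omega
  have h2 : 2 * e + 1 ≤ w := by
    have : (2 : ℤ) * e + 1 ≤ w := by nlinarith
    exact_mod_cast this
  rw [← hmul]
  nlinarith

/-- in the abelian section `K/H₁`, the elements whose `p`-th power lies in `H₁` form a normal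
subgroup of `L` strictly between `H₁` and `K` unless `[K:H₁]` is a power of `p` -/
theorem exists_normal_between (K H₁ : Subgroup L) [hK : K.Normal] [hH₁ : H₁.Normal]
    (hH₁K : H₁ ≤ K) (hab : ⁅K, K⁆ ≤ H₁) (p : ℕ) (hp : p.Prime) (hpq : p ∣ H₁.relIndex K)
    (hnp : ¬ ∃ a : ℕ, H₁.relIndex K = p ^ a) :
    ∃ N : Subgroup L, N.Normal ∧ H₁ < N ∧ N < K := by
  classical
  haveI : (H₁.subgroupOf K).Normal := inferInstance
  -- the quotient is commutative
  have hcomm : ∀ a b : ↥K ⧸ H₁.subgroupOf K, a * b = b * a := by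
    intro a b
    induction a using QuotientGroup.induction_on with
    | H x =>
    induction b using QuotientGroup.induction_on with
    | H y =>
    rw [← QuotientGroup.mk_mul, ← QuotientGroup.mk_mul, QuotientGroup.eq, Subgroup.mem_subgroupOf]
    apply hab
    have h1 : ((x * y)⁻¹ * (y * x) : K) = ⁅y⁻¹, x⁻¹⁆ := by
      rw [commutatorElement_def]; group
    rw [h1]
    exact coe_mem_commutator K (Subgroup.commutator_mem_commutator (Subgroup.mem_top _)
      (Subgroup.mem_top _))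
  -- the `p`-torsion of the quotient
  let N' : Subgroup (↥K ⧸ H₁.subgroupOf K) :=
    { carrier := {q | q ^ p = 1}
      mul_mem' := by
        intro a b ha hb
        show (a * b) ^ p = 1
        have ha' : a ^ p = 1 := ha
        have hb' : b ^ p = 1 := hb
        rw [(show Commute a b from hcomm a b).mul_pow, ha', hb', one_mul]
      one_mem' := by simp
      inv_mem' := by
        intro a ha
        show a⁻¹ ^ p = 1
        have ha' : a ^ p = 1 := ha
        rw [inv_pow, ha', inv_one] }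
  have hN' : ∀ q : ↥K ⧸ H₁.subgroupOf K, q ∈ N' ↔ q ^ p = 1 := fun q => Iff.rfl
  let N : Subgroup L := (N'.comap (QuotientGroup.mk' (H₁.subgroupOf K))).map K.subtype
  have hN : ∀ x : L, x ∈ N ↔ ∃ y : K, (QuotientGroup.mk y : ↥K ⧸ H₁.subgroupOf K) ^ p = 1 ∧
      (y : L) = x := by
    intro x
    constructor
    · rintro ⟨y, hy, rfl⟩
      exact ⟨y, hy, rfl⟩
    · rintro ⟨y, hy, rfl⟩
      exact ⟨y, hy, rfl⟩
  have hpow : ∀ y : K, (QuotientGroup.mk y : ↥K ⧸ H₁.subgroupOf K) ^ p = 1 ↔ (y : L) ^ p ∈ H₁ := by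
    intro y
    rw [← QuotientGroup.mk_pow, QuotientGroup.eq_one_iff, Subgroup.mem_subgroupOf,
      Subgroup.coe_pow]
  have hNK : N ≤ K := Subgroup.map_subtype_le _
  have hH₁N : H₁ ≤ N := by
    intro h hh
    rw [hN]
    refine ⟨⟨h, hH₁K hh⟩, ?_, rfl⟩
    rw [hpow]
    exact H₁.pow_mem hh p
  have hcard : Nat.card (↥K ⧸ H₁.subgroupOf K) = H₁.relIndex K :=
    (Subgroup.index_eq_card _).symm
  refine ⟨N, ⟨?_⟩, lt_of_le_of_ne hH₁N ?_, lt_of_le_of_ne hNK ?_⟩
  · -- normality
    intro x hx g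
    rw [hN] at hx ⊢
    obtain ⟨y, hy, rfl⟩ := hx
    refine ⟨⟨g * y * g⁻¹, hK.conj_mem y y.2 g⟩, ?_, rfl⟩
    rw [hpow] at hy ⊢
    show (g * (y : L) * g⁻¹) ^ p ∈ H₁
    rw [conj_pow]
    exact hH₁.conj_mem _ hy g
  · -- `H₁ ≠ N` by Cauchy
    intro heq
    haveI : Fact p.Prime := ⟨hp⟩
    obtain ⟨q, hq⟩ := exists_prime_orderOf_dvd_card' (G := ↥K ⧸ H₁.subgroupOf K) p
      (by rw [hcard]; exact hpq)
    induction q using QuotientGroup.induction_on with
    | H y =>
    have hyN : (y : L) ∈ N := by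
      rw [hN]
      exact ⟨y, by rw [← hq]; exact pow_orderOf_eq_one _, rfl⟩
    rw [← heq] at hyN
    have : (QuotientGroup.mk y : ↥K ⧸ H₁.subgroupOf K) = 1 := by
      rw [QuotientGroup.eq_one_iff]
      exact Subgroup.mem_subgroupOf.mpr hyN
    rw [this, orderOf_one] at hq
    exact hp.one_lt.ne hq
  · -- `N ≠ K`
    intro heq
    apply hnp
    haveI : Fact p.Prime := ⟨hp⟩
    have hpg : IsPGroup p (↥K ⧸ H₁.subgroupOf K) := by
      intro q
      induction q using QuotientGroup.induction_on with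
      | H y =>
      have hyN : (y : L) ∈ N := by rw [heq]; exact y.2
      rw [hN] at hyN
      obtain ⟨y', hy', hyy⟩ := hyN
      have : y' = y := Subtype.ext hyy
      rw [this] at hy'
      exact ⟨1, by rw [pow_one]; exact hy'⟩
    obtain ⟨a, ha⟩ := IsPGroup.iff_card.mp hpg
    exact ⟨a, by rw [← hcard, ha]⟩

end

/-- Let K be a solvable normal subgroup of the finite group L of odd order and (S, τ, R) a coherence system from L to G with S the functions induced from non-principal irreducible characters of K; S(A) as before. Let M ≤ K be normal in L with K/M nilpotent, H₁ = [K, K] ⊔ M, H₁ < K < L, and suppose every element of K outside H₁ is centralised modulo H₁ only from inside K (L/H₁ is a Frobenius group with kernel K/H₁). Suppose one of the following: some normal subgroup of L lies strictly between H₁ and K; or [K:H₁] > 4[L:K]^2 + 1; or [K:M] is not a prime power; or [K,K] ≤ M; or [K:M] is a power of a prime p with [L:K] dividing p − 1. Then S(M) is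 coherent. -/
theorem result {L : Type*} [Group L] [Fintype L] {G : Type*} [Group G] [Fintype G] (K : Subgroup L) [hK : K.Normal] (hsolv : Group.IsSolvable K) (τ : (L → ℂ) → (G → ℂ)) (R : (L → ℂ) → Finset (G → ℂ)) (hS : Cfsg.IsCoherenceSystem (Cfsg.inducedIrrAbove K ⊥) τ R) (hodd : Odd (Nat.card L)) (M : Subgroup L) [M.Normal] (hMK : M ≤ K) [(M.subgroupOf K).Normal] (hnil : Group.IsNilpotent (↥K ⧸ M.subgroupOf K)) (H₁ : Subgroup L) (hH₁ : H₁ = ⁅K, K⁆ ⊔ M) (hH₁K : H₁ < K) (hKL : K < ⊤) (hfrob : ∀ k ∈ K, k ∉ H₁ → ∀ x : L, x * k * x⁻¹ * k⁻¹ ∈ H₁ → x ∈ K) (hgood : (∃ N : Subgroup L, N.Normal ∧ H₁ < N ∧ N < K) ∨ 4 * K.index ^ 2 + 1 < H₁.relIndex K ∨ (¬ ∃ p m : ℕ, p.Prime ∧ M.relIndex K = p ^ m) ∨ ⁅K, K⁆ ≤ M ∨ (∃ p m : ℕ, p.Prime ∧ M.relIndex K = p ^ m ∧ K.index ∣ p - 1)) : Cfsg.IsCoherent (Cfsg.inducedIrrAbove K M) {1}ᶜ τ := by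
  classical
  have hab : ⁅K, K⁆ ≤ H₁ := by rw [hH₁]; exact le_sup_left
  have hMH₁ : M ≤ H₁ := by rw [hH₁]; exact le_sup_right
  haveI : H₁.Normal := by rw [hH₁]; infer_instance
  have hcohH₁ := coherent_above_derived K hsolv τ R hS H₁ hH₁K hab
  -- basic numbers
  have he0 : K.index ≠ 0 := Subgroup.index_ne_zero_of_finite
  have he1 : 1 < K.index := by
    have : K.index ≠ 1 := by
      rw [Ne, Subgroup.index_eq_one]
      exact hKL.ne
    omega
  have hcardL : Nat.card L = Nat.card L := rfl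
  have hodd_of_dvd : ∀ m : ℕ, m ∣ Nat.card L → Odd m := fun m hm => Odd.of_dvd_nat hodd hm
  have heodd : Odd K.index := hodd_of_dvd _ (Subgroup.index_dvd_card K)
  have hrel_dvd : ∀ A B : Subgroup L, A.relIndex B ∣ Nat.card L := by
    intro A B
    exact (Subgroup.index_dvd_card (A.subgroupOf B)).trans (Subgroup.card_subgroup_dvd_card B)
  have hrel_ne : ∀ A B : Subgroup L, A.relIndex B ≠ 0 := fun A B =>
    (Subgroup.index_ne_zero_of_finite : (A.subgroupOf B).index ≠ 0)
  have hrel_gt : ∀ A B : Subgroup L, A < B → 1 < A.relIndex B := by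
    intro A B hAB
    have h1 : A.relIndex B ≠ 1 := by
      rw [Ne, Subgroup.relIndex_eq_one]
      exact not_le_of_gt hAB
    have := hrel_ne A B
    omega
  -- case (b)
  have caseb : 4 * K.index ^ 2 + 1 < H₁.relIndex K →
      Cfsg.IsCoherent (Cfsg.inducedIrrAbove K M) {1}ᶜ τ := fun hb =>
    Cfsg.Agent.S1520.result K hsolv τ R hS M H₁ K hMH₁ hH₁K.le le_rfl hnil hcohH₁ hb
  -- case (d)
  have cased : ⁅K, K⁆ ≤ M → Cfsg.IsCoherent (Cfsg.inducedIrrAbove K M) {1}ᶜ τ := by
    intro hd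
    have : H₁ = M := by rw [hH₁]; exact sup_eq_right.mpr hd
    rw [← this]
    exact hcohH₁
  -- case (a)
  have casea : (∃ N : Subgroup L, N.Normal ∧ H₁ < N ∧ N < K) →
      Cfsg.IsCoherent (Cfsg.inducedIrrAbove K M) {1}ᶜ τ := by
    rintro ⟨N, hNn, hH₁N, hNK⟩
    haveI := hNn
    apply caseb
    obtain ⟨u, hu⟩ := exists_mul_index_add_one K H₁ hab hfrob N hH₁N.le hNK.le
    obtain ⟨v, hv⟩ := exists_mul_index_add_one K H₁ hab hfrob H₁ le_rfl hH₁K.le
    exact numeric_a he1 heodd hu hv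
      (Subgroup.relIndex_mul_relIndex H₁ N K hH₁N.le hNK.le) (hrel_gt _ _ hH₁N)
      (hrel_gt _ _ hNK) (hodd_of_dvd _ (hrel_dvd _ _)) (hodd_of_dvd _ (hrel_dvd _ _))
  have hq1 : 1 < H₁.relIndex K := hrel_gt _ _ hH₁K
  have hidx := commutator_quot_index K M hMK
  rw [← hH₁] at hidx
  have hcardQ := card_quot_eq_relIndex K M
  haveI : Finite (↥K ⧸ M.subgroupOf K) := inferInstance
  rcases hgood with h | h | h | h | h
  · exact casea h
  · exact caseb h
  · -- `[K:M]` not a prime power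
    apply casea
    have hpp : (H₁.relIndex K).minFac.Prime := Nat.minFac_prime (by omega)
    apply exists_normal_between K H₁ hH₁K.le hab _ hpp (Nat.minFac_dvd _)
    rintro ⟨a, ha⟩
    apply h
    have ha' : (commutator (↥K ⧸ M.subgroupOf K)).index = (H₁.relIndex K).minFac ^ a := by
      rw [hidx]; exact ha
    obtain ⟨b, hb⟩ := card_eq_pow_of_commutator_index hpp ha'
    exact ⟨_, b, hpp, by rw [← hcardQ, hb]⟩
  · exact cased h
  · obtain ⟨p, m, hp, hpm, hdvd⟩ := h
    have hqdvd : H₁.relIndex K ∣ p ^ m := by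
      rw [← hpm]
      exact Subgroup.relIndex_dvd_of_le_left K hMH₁
    obtain ⟨a, -, ha⟩ := (Nat.dvd_prime_pow hp).mp hqdvd
    rcases Nat.lt_or_ge a 2 with ha2 | ha2
    · -- `[K:H₁] = p`
      have ha1 : a = 1 := by
        rcases Nat.eq_zero_or_pos a with h0 | h0
        · rw [h0, pow_zero] at ha; omega
        · omega
      rw [ha1, pow_one] at ha
      apply cased
      rw [← hidx] at ha
      have hcommQ := comm_of_commutator_index_prime hp ha
      rw [Subgroup.commutator_le]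
      intro x hx y hy
      have h1 : (QuotientGroup.mk ((⟨x, hx⟩ : ↥K) * ⟨y, hy⟩ * (⟨x, hx⟩ : ↥K)⁻¹ * (⟨y, hy⟩ : ↥K)⁻¹) :
          ↥K ⧸ M.subgroupOf K) = 1 := by
        simp only [QuotientGroup.mk_mul, QuotientGroup.mk_inv]
        rw [hcommQ (QuotientGroup.mk (⟨x, hx⟩ : ↥K)) (QuotientGroup.mk (⟨y, hy⟩ : ↥K)),
          mul_inv_cancel_right, mul_inv_cancel]
      rw [QuotientGroup.eq_one_iff, Subgroup.mem_subgroupOf] at h1
      rw [commutatorElement_def]
      simpa using h1
    · -- `[K:H₁] ≥ p²`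
      apply caseb
      have hpodd : Odd p := by
        apply hodd_of_dvd
        refine dvd_trans ?_ (hrel_dvd H₁ K)
        rw [ha]
        exact dvd_pow_self p (by omega)
      obtain ⟨t, ht⟩ := hdvd
      have hp2 : 2 ≤ p := hp.two_le
      have ht2 : 2 ≤ t := by
        have ht1 : 1 ≤ t := by
          rcases Nat.eq_zero_or_pos t with h0 | h0
          · rw [h0, mul_zero] at ht; omega
          · exact h0
        have heven : Even (K.index * t) := by
          rw [← ht]
          obtain ⟨k, hk⟩ := hpodd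
          exact ⟨k, by omega⟩
        rcases Nat.even_mul.mp heven with h' | h'
        · exact absurd heodd (by rw [Nat.not_odd_iff_even]; exact h')
        · obtain ⟨k, hk⟩ := h'; omega
      have hp' : 2 * K.index + 1 ≤ p := by
        have : K.index * 2 ≤ K.index * t := Nat.mul_le_mul_left _ ht2
        omega
      rw [ha]
      have hpow : p ^ 2 ≤ p ^ a := Nat.pow_le_pow_right (by omega) ha2
      nlinarith

end Cfsg.Agent.S1521
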