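import Cfsg.Statements.S0868
import Cfsg.Agent.Lib.Helper84.CosetAvg

set_option autoImplicit false
open scoped ComplexConjugate
open Cfsg

namespace Cfsg.Agent.S0868

open Cfsg.Agent.Lib.Helper84

section Aux

universe u

variable {G : Type u} [Group G] [Fintype G] (N : Subgroup G) [hN : N.Normal] [Fintype N]

omit hN in
/-- The sum over `N` of an irreducible character in terms of the multiplicity in `(1_N)^G`. -/
theorem sum_N_eq (γ : IrrCharacter G) :
    ∑ n : N, (γ : G → ℂ) n = (Nat.card N : ℂ) *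
      (Cfsg.Agent.Lib.Helper83.irrMult (indFun N (fun _ : N => (1 : ℂ))) γ : ℂ) := by
  have hR : IsCharacter G (indFun N (fun _ : N => (1 : ℂ))) :=
    Cfsg.Agent.Lib.Helper34.isCharacter_indFun N Cfsg.Agent.Lib.Helper83.isCharacter_one
  have hNc : (Nat.card N : ℂ) ≠ 0 := Cfsg.Agent.Lib.Helper83.card_ne_zero_complex
  have h1 := Cfsg.Agent.Lib.Helper83.irrMult_cast hR γ
  rw [Cfsg.Agent.Lib.Helper34.classInner_indFun_left N _ _
    (Cfsg.Agent.Lib.Helper83.isClassFunction_irr γ), Cfsg.Agent.Lib.Helper83.classInner_def] at h1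
  simp only [one_mul] at h1
  have h2 := congrArg conj h1
  rw [Complex.conj_natCast, map_mul, map_inv₀, Complex.conj_natCast, map_sum] at h2
  simp only [Complex.conj_conj] at h2
  rw [h2, ← mul_assoc, mul_inv_cancel₀ hNc, one_mul]

/-- The coefficient `c_γ` is `1` when `γ` lies over the trivial character of `N`. -/
theorem coeff_eq_one (γ : IrrCharacter G)
    (hm : Cfsg.Agent.Lib.Helper83.irrMult (indFun N (fun _ : N => (1 : ℂ))) γ ≠ 0) :
    (∑ n : N, (γ : G → ℂ) n) / ((Nat.card N : ℂ) * (γ : G → ℂ) 1) = 1 := by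
  have hNc : (Nat.card N : ℂ) ≠ 0 := Cfsg.Agent.Lib.Helper83.card_ne_zero_complex
  have hγ1 := Cfsg.Agent.Lib.Helper83.irr_degree_ne_zero γ
  have hne : classInner (fun n : N => (γ : G → ℂ) n) (fun _ : N => (1 : ℂ)) ≠ 0 := by
    rw [Cfsg.Agent.Lib.Helper83.classInner_def]
    simp only [map_one, mul_one]
    rw [sum_N_eq N γ, ← mul_assoc, inv_mul_cancel₀ hNc, one_mul]
    exact_mod_cast hm
  have hconst := irr_const_of_classInner_one_ne_zero N γ.2 hne
  have : ∑ n : N, (γ : G → ℂ) n = (Nat.card N : ℂ) * (γ : G → ℂ) 1 := by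
    rw [Finset.sum_congr rfl (fun (n : N) _ => hconst (n : G) n.2), Finset.sum_const, Finset.card_univ,
      nsmul_eq_mul, Nat.card_eq_fintype_card]
  rw [this, div_self (mul_ne_zero hNc hγ1)]

/-- The coefficient `c_γ` is `0` when `γ` does not lie over the trivial character of `N`. -/
theorem coeff_eq_zero (γ : IrrCharacter G)
    (hm : Cfsg.Agent.Lib.Helper83.irrMult (indFun N (fun _ : N => (1 : ℂ))) γ = 0) :
    (∑ n : N, (γ : G → ℂ) n) / ((Nat.card N : ℂ) * (γ : G → ℂ) 1) = 0 := by
  rw [sum_N_eq N γ, hm, Nat.cast_zero, mul_zero, zero_div]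

/-- The inner product of the coset average of `ψ · conj χ` with `γ`. -/
theorem classInner_eta (χ ψ : G → ℂ) (γ : IrrCharacter G) :
    classInner (fun g => (Nat.card N : ℂ)⁻¹ * ∑ n : N, ψ ((n : G) * g) * conj (χ ((n : G) * g)))
        (γ : G → ℂ) =
      conj ((∑ n : N, (γ : G → ℂ) n) / ((Nat.card N : ℂ) * (γ : G → ℂ) 1)) *
        classInner ψ ((γ : G → ℂ) * χ) := by
  have h := classInner_cosetAvg N (fun g => ψ g * conj (χ g)) γ
  rw [h]
  congr 1
  rw [Cfsg.Agent.Lib.Helper83.classInner_def, Cfsg.Agent.Lib.Helper83.classInner_def]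
  congr 1
  refine Finset.sum_congr rfl fun g _ => ?_
  simp only [Pi.mul_apply, map_mul]
  ring

end Aux

/-- Let N be a normal subgroup of the finite group G, χ an irreducible character of G whose restriction ϑ to N is irreducible, and ψ an irreducible character of G. Define η on G by η g = (1 / order of N) * Σ over n in N of ψ (n * g) * conj (χ (n * g)). Then: if the restriction of ψ to N has nonzero inner product with ϑ, η is an irreducible character of G; if that inner product is zero, η vanishes identically; and if ψ = χ then η is identically 1. -/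
theorem result {G : Type*} [Group G] [Fintype G] (N : Subgroup G) [N.Normal] [Fintype N] (χ : G → ℂ) (hχ : Cfsg.IsIrrCharacter G χ) (hχN : Cfsg.IsIrrCharacter N (fun n : N => χ n)) (ψ : G → ℂ) (hψ : Cfsg.IsIrrCharacter G ψ) (η : G → ℂ) (hη : η = fun g => (Nat.card N : ℂ)⁻¹ * ∑ n : N, ψ ((n : G) * g) * conj (χ ((n : G) * g))) : (Cfsg.classInner (fun n : N => ψ n) (fun n : N => χ n) ≠ 0 → Cfsg.IsIrrCharacter G η) ∧ (Cfsg.classInner (fun n : N => ψ n) (fun n : N => χ n) = 0 → η = 0) ∧ (ψ = χ → η = fun _ => 1) := by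
  classical
  have : Fintype (IrrCharacter G) := Fintype.ofFinite _
  have hχc := Cfsg.Agent.Lib.Helper83.isCharacter_of_irr hχ
  have hψc := Cfsg.Agent.Lib.Helper83.isCharacter_of_irr hψ
  have hχcl := Cfsg.Agent.Lib.Helper83.char_isClassFunction hχc
  have hψcl := Cfsg.Agent.Lib.Helper83.char_isClassFunction hψc
  have h1N : IsIrrCharacter N (fun _ : N => (1 : ℂ)) := Cfsg.Agent.Lib.Helper83.isIrrCharacter_one
  have hone : ((fun _ : N => (1 : ℂ)) * fun n : N => χ n) = fun n : N => χ n := by
    funext n; simp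
  have hprod : IsIrrCharacter N ((fun _ : N => (1 : ℂ)) * fun n : N => χ n) := by
    rw [hone]; exact hχN
  have hinv1 : ∀ g : G, conjFun N g (fun _ : N => (1 : ℂ)) = fun _ : N => (1 : ℂ) := fun g => rfl
  obtain ⟨hG1, hG2, hG3⟩ := gallagher_general N h1N hinv1 hprod hχc (fun n => rfl)
  set m : IrrCharacter G → ℕ :=
    fun γ => Cfsg.Agent.Lib.Helper83.irrMult (indFun N (fun _ : N => (1 : ℂ))) γ with hm
  -- the class function property of η
  have hFcl : IsClassFunction G (fun g => ψ g * conj (χ g)) := by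
    intro g h
    simp only [hψcl g h, hχcl g h]
  have hηcl : IsClassFunction G η := by
    rw [hη]
    exact isClassFunction_cosetAvg N hFcl
  -- the inner products of η
  have hinner : ∀ γ : IrrCharacter G, classInner η (γ : G → ℂ) =
      if m γ = 0 then 0 else classInner ψ ((γ : G → ℂ) * χ) := by
    intro γ
    rw [hη, classInner_eta N χ ψ γ]
    split_ifs with h0
    · rw [coeff_eq_zero N γ h0, map_zero, zero_mul]
    · rw [coeff_eq_one N γ h0, map_one, one_mul]
  -- key: if ψ = β χ with m β ≠ 0 then η = β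
  have key : ∀ β : IrrCharacter G, m β ≠ 0 → ψ = (β : G → ℂ) * χ → η = (β : G → ℂ) := by
    intro β hβ hψβ
    have hz : η - (β : G → ℂ) = 0 := by
      apply Cfsg.Agent.Lib.Helper83.eq_zero_of_classInner_irr_eq_zero
        (Cfsg.Agent.Lib.Helper83.isClassFunction_sub hηcl
          (Cfsg.Agent.Lib.Helper83.isClassFunction_irr β))
      intro γ
      rw [Cfsg.Agent.Lib.Helper83.classInner_sub_left, hinner γ,
        Cfsg.Agent.Lib.Helper83.irr_orthonormal β γ]
      by_cases h0 : m γ = 0
      · rw [if_pos h0]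
        have hne : β ≠ γ := by
          intro h; rw [h] at hβ; exact hβ h0
        rw [if_neg hne, sub_zero]
      · rw [if_neg h0, hψβ]
        by_cases hβγ : β = γ
        · rw [if_pos hβγ, hβγ,
            Cfsg.Agent.Lib.Helper83.irr_inner_self ⟨_, hG1 γ h0⟩, sub_self]
        · rw [if_neg hβγ]
          have hne : (⟨_, hG1 β hβ⟩ : IrrCharacter G) ≠ ⟨_, hG1 γ h0⟩ := by
            intro heq
            exact hβγ (hG2 β γ hβ h0 (congrArg Subtype.val heq))
          rw [Cfsg.Agent.Lib.Helper83.irr_inner_ne hne, sub_zero]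
    exact sub_eq_zero.mp hz
  have hfrob : classInner (indFun N ((fun _ : N => (1 : ℂ)) * fun n : N => χ n)) ψ =
      conj (classInner (fun n : N => ψ n) (fun n : N => χ n)) := by
    rw [hone, Cfsg.Agent.Lib.Helper34.classInner_indFun_left N _ ψ hψcl,
      Cfsg.Agent.Lib.Helper83.classInner_conj_symm]
  have case1 : Cfsg.classInner (fun n : N => ψ n) (fun n : N => χ n) ≠ 0 →
      ∃ β : IrrCharacter G, m β ≠ 0 ∧ ψ = (β : G → ℂ) * χ := by
    intro hne
    have hne' : classInner (indFun N ((fun _ : N => (1 : ℂ)) * fun n : N => χ n)) ψ ≠ 0 := by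
      rw [hfrob]
      exact (map_ne_zero _).mpr hne
    exact gallagher_surj N h1N hinv1 hprod hχc (fun n => rfl) hψ hne'
  refine ⟨?_, ?_, ?_⟩
  · intro hne
    obtain ⟨β, hβ, hψβ⟩ := case1 hne
    rw [key β hβ hψβ]
    exact β.2
  · intro h0
    apply Cfsg.Agent.Lib.Helper83.eq_zero_of_classInner_irr_eq_zero hηcl
    intro γ
    rw [hinner γ]
    split_ifs with hmγ
    · rfl
    · by_contra hne
      have heq : ψ = (γ : G → ℂ) * χ :=
        irr_eq_of_classInner_ne_zero hψ (hG1 γ hmγ) hne
      have h1 := gallagher_mult N h1N hinv1 hprod hχc (fun n => rfl) γ hmγ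
      rw [← heq, hfrob, h0, map_zero] at h1
      exact hmγ (by exact_mod_cast h1.symm)
  · intro hψχ
    have hne : Cfsg.classInner (fun n : N => ψ n) (fun n : N => χ n) ≠ 0 := by
      rw [hψχ, Cfsg.Agent.Lib.Helper83.irr_inner_self ⟨_, hχN⟩]
      exact one_ne_zero
    obtain ⟨β, hβ, hψβ⟩ := case1 hne
    rw [key β hβ hψβ]
    -- β is the trivial character
    have htriv : m (Cfsg.Agent.Lib.Helper83.trivChar G) ≠ 0 := by
      intro h0
      have h1 := sum_N_eq N (Cfsg.Agent.Lib.Helper83.trivChar G)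
      rw [show Cfsg.Agent.Lib.Helper83.irrMult (indFun N (fun _ : N => (1 : ℂ)))
        (Cfsg.Agent.Lib.Helper83.trivChar G) = 0 from h0] at h1
      simp only [Cfsg.Agent.Lib.Helper83.trivChar_apply, Finset.sum_const, Finset.card_univ,
        nsmul_eq_mul, mul_one, Nat.cast_zero, mul_zero] at h1
      have : (Fintype.card N : ℂ) ≠ 0 := by
        exact_mod_cast Fintype.card_ne_zero
      exact this h1
    have hβtriv : β = Cfsg.Agent.Lib.Helper83.trivChar G := by
      apply hG2 β _ hβ htriv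
      rw [← hψβ, hψχ]
      funext g
      simp [Cfsg.Agent.Lib.Helper83.trivChar_apply]
    rw [hβtriv]
    rfl

end Cfsg.Agent.S0868
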