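import Cfsg.Statements.S1514
-- import your own Cfsg.Agent.* helpers here
import Cfsg.Agent.Lib.Helper05.CharDecomp
import Cfsg.Agent.Lib.Helper34.GenChar
import Cfsg.Agent.Lib.Helper34.GenChar2
import Cfsg.Agent.Lib.Helper34.Coherence

set_option autoImplicit false
open Cfsg

namespace Cfsg.Agent.S1514

open Cfsg.Agent.Lib.Helper34
open Cfsg.Agent.Lib.Helper05 (classInner_irr classInner_irr_self classInner_irr_ne exists_pos_degree
  isIrrCharacter_conj classInner_conj_conj)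

theorem neg_irr_ne_irr {G : Type*} [Group G] {a b : G → ℂ} (ha : Cfsg.IsIrrCharacter G a)
    (hb : Cfsg.IsIrrCharacter G b) : a ≠ -b := by
  intro h
  obtain ⟨n, hn, hn1⟩ := exists_pos_degree ha
  obtain ⟨m, hm, hm1⟩ := exists_pos_degree hb
  have := congrFun h 1
  rw [Pi.neg_apply, hn1, hm1] at this
  have h2 : ((n : ℤ) : ℂ) = ((-(m : ℤ) : ℤ) : ℂ) := by push_cast; exact this
  have h3 : (n : ℤ) = -(m : ℤ) := by exact_mod_cast h2
  omega


/-- Let S be a nonempty set of irreducible characters of the finite group L, closed under complex conjugation and containing no real-valued member, and τ a linear isometry on the integer combinations of S vanishing at 1, with values virtual characters of G vanishing at 1. Then there is a choice R making (S, τ, R) a coherence system. -/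
theorem result {L : Type*} [Group L] [Fintype L] {G : Type*} [Group G] [Fintype G] (S : Set (L → ℂ)) (hS : S.Nonempty) (hirr : ∀ χ ∈ S, Cfsg.IsIrrCharacter L χ) (hconj : ∀ χ ∈ S, Cfsg.conjFun χ ∈ S ∧ Cfsg.conjFun χ ≠ χ) (τ : (L → ℂ) → (G → ℂ)) (hτ : Cfsg.IsLinearIsometryOn (Cfsg.zspanOn S {1}ᶜ) τ) (hτ1 : ∀ α ∈ Cfsg.zspanOn S {1}ᶜ, τ α 1 = 0) : ∃ R : (L → ℂ) → Finset (G → ℂ), Cfsg.IsCoherenceSystem S τ R := by
  classical
  have hconjirr : ∀ χ ∈ S, Cfsg.IsIrrCharacter L (Cfsg.conjFun χ) :=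
    fun χ hχ => isIrrCharacter_conj (hirr χ hχ)
  -- χ - conj χ lies in the domain of τ
  have hdom : ∀ χ ∈ S, χ - Cfsg.conjFun χ ∈ Cfsg.zspanOn S ({1}ᶜ : Set L) := by
    intro χ hχ
    rw [mem_zspanOn_compl_one_iff]
    refine ⟨sub_mem_zspan (mem_zspan_of_mem hχ) (mem_zspan_of_mem (hconj χ hχ).1), ?_⟩
    obtain ⟨n, _, hn⟩ := exists_pos_degree (hirr χ hχ)
    simp [Cfsg.conjFun, hn]
  have hnorm : ∀ χ ∈ S, Cfsg.classInner (χ - Cfsg.conjFun χ) (χ - Cfsg.conjFun χ) = 2 := by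
    intro χ hχ
    rw [classInner_sub_left, classInner_sub_right, classInner_sub_right,
      classInner_irr_self (hirr χ hχ), classInner_irr_self (hconjirr χ hχ),
      classInner_irr_ne (hirr χ hχ) (hconjirr χ hχ) (hconj χ hχ).2.symm,
      classInner_irr_ne (hconjirr χ hχ) (hirr χ hχ) (hconj χ hχ).2]
    norm_num
  have hex : ∀ χ ∈ S, ∃ ψ₁ ψ₂ : G → ℂ, Cfsg.IsIrrCharacter G ψ₁ ∧ Cfsg.IsIrrCharacter G ψ₂ ∧
      ψ₁ ≠ ψ₂ ∧ τ (χ - Cfsg.conjFun χ) = ψ₁ - ψ₂ := by
    intro χ hχ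
    apply exists_sub_irr_of_norm_two (LIO.isGenChar hτ (hdom χ hχ))
    · rw [LIO.inner_eq hτ (hdom χ hχ) (hdom χ hχ), hnorm χ hχ]
    · exact hτ1 _ (hdom χ hχ)
  choose! f₁ f₂ hf₁ hf₂ hne hsum using hex
  refine ⟨fun χ => {f₁ χ, -f₂ χ}, ?_⟩
  have hne' : ∀ χ ∈ S, f₁ χ ≠ -f₂ χ := fun χ hχ => neg_irr_ne_irr (hf₁ χ hχ) (hf₂ χ hχ)
  have hnegnorm : ∀ χ ∈ S, Cfsg.classInner (-f₂ χ) (-f₂ χ) = 1 := by
    intro χ hχ
    rw [classInner_neg_left, classInner_neg_right, neg_neg, classInner_irr_self (hf₂ χ hχ)]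
  refine
    { nonempty := hS
      isCharacter := fun χ hχ => Cfsg.Agent.Lib.Helper05.IsIrrCharacter.isCharacter (hirr χ hχ)
      conj_mem := fun χ hχ => (hconj χ hχ).1
      conj_ne := fun χ hχ => (hconj χ hχ).2
      isometry := hτ
      map_one := hτ1
      orthogonal := fun χ hχ φ hφ hne => classInner_irr_ne (hirr χ hχ) (hirr φ hφ) hne
      orthonormal := ?_
      virtual := ?_
      sum_eq := ?_
      disjoint := ?_ }
  · intro χ hχ α hα β hβ
    simp only [Finset.mem_insert, Finset.mem_singleton] at hα hβ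
    rcases hα with rfl | rfl <;> rcases hβ with rfl | rfl
    · rw [if_pos rfl, classInner_irr_self (hf₁ χ hχ)]
    · rw [if_neg (hne' χ hχ), classInner_neg_right,
        classInner_irr_ne (hf₁ χ hχ) (hf₂ χ hχ) (hne χ hχ), neg_zero]
    · rw [if_neg (hne' χ hχ).symm, classInner_neg_left,
        classInner_irr_ne (hf₂ χ hχ) (hf₁ χ hχ) (hne χ hχ).symm, neg_zero]
    · rw [if_pos rfl, hnegnorm χ hχ]
  · intro χ hχ α hα
    simp only [Finset.mem_insert, Finset.mem_singleton] at hα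
    rcases hα with rfl | rfl
    · exact isGeneralizedCharacter_of_irr (hf₁ χ hχ)
    · exact isGeneralizedCharacter_neg (isGeneralizedCharacter_of_irr (hf₂ χ hχ))
  · intro χ hχ
    rw [Finset.sum_pair (hne' χ hχ), hsum χ hχ, sub_eq_add_neg]
  · intro χ hχ φ hφ h1 h2 α hα β hβ
    -- inner product of the two differences vanishes
    have h3 : Cfsg.classInner (f₁ φ - f₂ φ) (f₁ χ - f₂ χ) = 0 := by
      rw [← hsum φ hφ, ← hsum χ hχ, LIO.inner_eq hτ (hdom φ hφ) (hdom χ hχ)]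
      rw [classInner_sub_left, classInner_sub_right, classInner_sub_right, h1, h2]
      have e1 : Cfsg.classInner (Cfsg.conjFun φ) χ = 0 := by
        have := classInner_conj_conj φ (Cfsg.conjFun χ)
        have hcc : (fun g => (starRingEnd ℂ) (Cfsg.conjFun χ g)) = χ := by
          funext g; simp [Cfsg.conjFun]
        rw [hcc, h2, map_zero] at this
        exact this
      have e2 : Cfsg.classInner (Cfsg.conjFun φ) (Cfsg.conjFun χ) = 0 := by
        have := classInner_conj_conj φ χ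
        rw [h1, map_zero] at this
        exact this
      rw [e1, e2]
      norm_num
    obtain ⟨k1, k2, k3, k4⟩ := irr_ne_of_inner_sub_eq_zero (hf₁ φ hφ) (hf₂ φ hφ) (hf₁ χ hχ)
      (hf₂ χ hχ) (hne φ hφ) (hne χ hχ) h3
    simp only [Finset.mem_insert, Finset.mem_singleton] at hα hβ
    rcases hα with rfl | rfl <;> rcases hβ with rfl | rfl
    · exact classInner_irr_ne (hf₁ φ hφ) (hf₁ χ hχ) k1
    · rw [classInner_neg_right, classInner_irr_ne (hf₁ φ hφ) (hf₂ χ hχ) k2, neg_zero]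
    · rw [classInner_neg_left, classInner_irr_ne (hf₂ φ hφ) (hf₁ χ hχ) k3, neg_zero]
    · rw [classInner_neg_left, classInner_neg_right, classInner_irr_ne (hf₂ φ hφ) (hf₂ χ hχ) k4]
      simp

end Cfsg.Agent.S1514
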