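import Cfsg.Statements.S1522
-- import your own Cfsg.Agent.* helpers here
import Cfsg.Agent.Lib.Helper34.Coherence3
import Cfsg.Agent.Lib.Helper34.IndAbove
import Cfsg.Agent.Lib.Helper34.FrobQuot
import Cfsg.Agent.Lib.Helper34.FrobTI
import Cfsg.Agent.Lib.Helper34.NilpQuot
import Cfsg.Agent.Lib.Helper33.Constituent
import Cfsg.Agent.Lib.Helper83.LinearCount
import Cfsg.Agent.Lib.Helper84.Frobenius
import Cfsg.Agent.Lib.Helper05.CharDegree
import Cfsg.Agent.Lib.Helper05.CharOrtho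
import Cfsg.Agent.S1519
import Cfsg.Agent.S1521
import Cfsg.Agent.S1487

set_option autoImplicit false
open Cfsg

namespace Cfsg.Agent.S1522

open Cfsg.Agent.Lib.Helper34

section

variable {L : Type*} [Group L] [Fintype L]

/-- a purely numerical inequality along a chain of `p`-power degrees -/
theorem numeric_chain {ι : Type*} (X : Finset ι) (t : ι → ℕ) (p e q : ℕ)
    (hp : p.Prime) (hp3 : 3 ≤ p) (hcop : Nat.Coprime e p) (hpow : ∀ φ ∈ X, ∃ c, t φ = p ^ c)
    (hq : ∀ φ ∈ X, (t φ) ^ 2 ∣ q) (hsum : q ∣ e * ∑ φ ∈ X, (t φ) ^ 2) (χ₁ χ : ι) (hχ₁ : χ₁ ∈ X)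
    (hχ : χ ∈ X) (hlt : t χ₁ < t χ) :
    2 * t χ * t χ₁ < ∑ φ ∈ X.filter (fun φ => t φ < t χ), (t φ) ^ 2 := by
  classical
  obtain ⟨b, hb⟩ := hpow χ hχ
  obtain ⟨a, ha⟩ := hpow χ₁ hχ₁
  have hp1 : 1 < p := hp.one_lt
  have hab : a < b := by
    rw [ha, hb] at hlt
    exact (Nat.pow_lt_pow_iff_right hp1).mp hlt
  have hdvd1 : (t χ) ^ 2 ∣ ∑ φ ∈ X, (t φ) ^ 2 := by
    have h1 : (t χ) ^ 2 ∣ e * ∑ φ ∈ X, (t φ) ^ 2 := (hq χ hχ).trans hsum
    have h2 : Nat.Coprime ((t χ) ^ 2) e := by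
      rw [hb]
      exact Nat.Coprime.pow_left _ (Nat.Coprime.pow_left _ hcop.symm)
    exact h2.dvd_of_dvd_mul_left h1
  have hsplit := Finset.sum_filter_add_sum_filter_not X (fun φ => t φ < t χ) (fun φ => (t φ) ^ 2)
  have hdvd2 : (t χ) ^ 2 ∣ ∑ φ ∈ X.filter (fun φ => ¬ t φ < t χ), (t φ) ^ 2 := by
    apply Finset.dvd_sum
    intro φ hφ
    obtain ⟨hφX, hφ⟩ := Finset.mem_filter.mp hφ
    obtain ⟨c, hc⟩ := hpow φ hφX
    rw [hc, hb] at hφ ⊢
    have hbc : b ≤ c := by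
      by_contra h
      push Not at h
      exact hφ ((Nat.pow_lt_pow_iff_right hp1).mpr h)
    exact pow_dvd_pow_of_dvd (pow_dvd_pow p hbc) 2
  have hdvd3 : (t χ) ^ 2 ∣ ∑ φ ∈ X.filter (fun φ => t φ < t χ), (t φ) ^ 2 := by
    rw [← hsplit] at hdvd1
    exact (Nat.dvd_add_left hdvd2).mp hdvd1
  have hpos1 : 0 < t χ₁ := by rw [ha]; positivity
  have hge : (t χ₁) ^ 2 ≤ ∑ φ ∈ X.filter (fun φ => t φ < t χ), (t φ) ^ 2 :=
    Finset.single_le_sum (f := fun φ => (t φ) ^ 2) (fun _ _ => Nat.zero_le _)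
      (Finset.mem_filter.mpr ⟨hχ₁, hlt⟩)
  have hApos : 0 < ∑ φ ∈ X.filter (fun φ => t φ < t χ), (t φ) ^ 2 :=
    lt_of_lt_of_le (by positivity) hge
  have hAge := Nat.le_of_dvd hApos hdvd3
  have h3 : 3 * t χ₁ ≤ t χ := by
    rw [ha, hb]
    have : p ^ (a + 1) ≤ p ^ b := Nat.pow_le_pow_right (by omega) hab
    rw [pow_succ] at this
    nlinarith
  nlinarith

/-- `θ(1)² |Z| ≤ |H|` for an irreducible character `θ` and a central subgroup `Z` -/
theorem degree_sq_mul_card_le {H : Type*} [Group H] [Fintype H] {θ : H → ℂ}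
    (hθ : IsIrrCharacter H θ) (Zc : Subgroup H) (hZc : ∀ z ∈ Zc, ∀ h : H, z * h = h * z)
    (t : ℕ) (ht : θ 1 = t) : t ^ 2 * Nat.card Zc ≤ Nat.card H := by
  classical
  have h1 := Cfsg.Agent.Lib.Helper33.sum_norm_sq_irr hθ
  have h2 : ∀ z ∈ Zc, ‖θ z‖ ^ 2 = (t : ℝ) ^ 2 := by
    intro z hz
    have h := Cfsg.Agent.Lib.Helper83.irr_central_normSq ⟨θ, hθ⟩ (z := z)
      (Subgroup.mem_center_iff.mpr (fun h => (hZc z hz h).symm))
    rw [Complex.sq_norm, h]
    have hcd : (Cfsg.charDegree θ : ℂ) = θ 1 :=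
      Cfsg.Agent.Lib.Helper83.charDegree_cast (Cfsg.Agent.Lib.Helper83.isCharacter_of_irr hθ)
    have : Cfsg.charDegree θ = t := by exact_mod_cast (hcd.trans ht)
    rw [this]
  have h3 : ∑ z ∈ Finset.univ.filter (fun z => z ∈ Zc), ‖θ z‖ ^ 2 ≤ ∑ g : H, ‖θ g‖ ^ 2 :=
    Finset.sum_le_sum_of_subset_of_nonneg (Finset.filter_subset _ _) (fun _ _ _ => by positivity)
  have h4 : ∑ z ∈ Finset.univ.filter (fun z => z ∈ Zc), ‖θ z‖ ^ 2 =
      (Finset.univ.filter (fun z => z ∈ Zc)).card * (t : ℝ) ^ 2 := by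
    rw [Finset.sum_congr rfl (fun z hz => h2 z (Finset.mem_filter.mp hz).2), Finset.sum_const,
      nsmul_eq_mul]
  have h5 : (Finset.univ.filter (fun z => z ∈ Zc)).card = Nat.card Zc := by
    rw [Nat.card_eq_fintype_card, Fintype.card_subtype]
  have : ((t ^ 2 * Nat.card Zc : ℕ) : ℝ) ≤ (Nat.card H : ℝ) := by
    rw [← h1]
    refine le_trans (le_of_eq ?_) h3
    rw [h4, h5]
    push_cast
    ring
  exact_mod_cast this

/-- membership in `S ∖ S(Z)` in terms of the induced function itself -/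
theorem mem_diff_iff (K : Subgroup L) [K.Normal] (Z : Subgroup L) [Z.Normal] (hZK : Z ≤ K)
    (φ : L → ℂ) :
    φ ∈ Cfsg.inducedIrrAbove K ⊥ \ Cfsg.inducedIrrAbove K Z ↔
      φ ∈ Cfsg.inducedIrrAbove K ⊥ ∧ ∃ z ∈ Z, φ z ≠ φ 1 := by
  constructor
  · rintro ⟨h1, h2⟩
    refine ⟨h1, ?_⟩
    by_contra hcon
    push Not at hcon
    obtain ⟨θ, hθ, hne, -, rfl⟩ := h1
    apply h2
    exact ⟨θ, hθ, hne, (Cfsg.Agent.S1487.result Z K hZK θ hθ).mpr hcon, rfl⟩
  · rintro ⟨h1, z, hz, hne⟩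
    refine ⟨h1, ?_⟩
    rintro ⟨θ, hθ, -, hker, rfl⟩
    exact hne ((Cfsg.Agent.S1487.result Z K hZK θ hθ).mp hker z hz)

/-- part (i): `S ∖ S(Z)` consists of the irreducible characters of `L` not trivial on `Z` -/
theorem part_one (K : Subgroup L) [K.Normal] (Z : Subgroup L) [Z.Normal] (hZK : Z ≤ K)
    (hirr : ∀ χ ∈ Cfsg.inducedIrrAbove K ⊥ \ Cfsg.inducedIrrAbove K Z, Cfsg.IsIrrCharacter L χ) :
    Cfsg.inducedIrrAbove K ⊥ \ Cfsg.inducedIrrAbove K Z =
      {χ | Cfsg.IsIrrCharacter L χ ∧ ∃ z ∈ Z, χ z ≠ χ 1} := by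
  classical
  ext χ
  constructor
  · intro h
    exact ⟨hirr χ h, ((mem_diff_iff K Z hZK χ).mp h).2⟩
  · rintro ⟨hχ, z, hz, hne⟩
    letI : Fintype K := Fintype.ofFinite K
    haveI : Finite (IrrCharacter K) := Cfsg.Agent.Lib.Helper05.finite_irrCharacter
    letI : Fintype (IrrCharacter K) := Fintype.ofFinite _
    have hχc : IsCharacter L χ := Cfsg.Agent.Lib.Helper83.isCharacter_of_irr hχ
    have hres : IsCharacter K (fun k : K => χ k) :=
      Cfsg.Agent.Lib.Helper83.isCharacter_restrict K hχc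
    have hres0 : (fun k : K => χ k) ≠ 0 := by
      intro h
      have h1 := congrFun h 1
      exact Cfsg.Agent.Lib.Helper84.irr_one_ne_zero χ hχ h1
    obtain ⟨θ, hθ⟩ := Cfsg.Agent.Lib.Helper33.exists_irr_constituent hres hres0
    have hfr : classInner (indFun K (θ : K → ℂ)) χ ≠ 0 := by
      rw [classInner_indFun_left K _ χ (Cfsg.Agent.Lib.Helper83.char_isClassFunction hχc),
        ← classInner_conj_symm]
      intro h
      apply hθ
      have := congrArg (starRingEnd ℂ) h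
      simpa using this
    have hindchar : IsCharacter L (indFun K (θ : K → ℂ)) :=
      isCharacter_indFun K (Cfsg.Agent.Lib.Helper83.isCharacter_of_irr θ.2)
    have hne' : indFun K (θ : K → ℂ) z ≠ indFun K (θ : K → ℂ) 1 := by
      intro h
      exact hne (Cfsg.Agent.Lib.Helper33.constituent_apply_eq hindchar hχ hfr h)
    have hθ1 : (θ : K → ℂ) ≠ fun _ => 1 := by
      intro h
      apply hne'
      rw [h, indFun_one_apply_mem K (hZK hz), indFun_one_apply_mem K K.one_mem]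
    have hmem : indFun K (θ : K → ℂ) ∈ Cfsg.inducedIrrAbove K ⊥ \ Cfsg.inducedIrrAbove K Z := by
      rw [mem_diff_iff K Z hZK]
      refine ⟨⟨θ, θ.2, hθ1, ?_, rfl⟩, z, hz, hne'⟩
      intro a ha
      have : a = 1 := Subtype.ext (Subgroup.mem_bot.mp ha)
      rw [this]
    have hirrInd := hirr _ hmem
    have heq : indFun K (θ : K → ℂ) = χ := by
      by_contra hne2
      exact hfr (Cfsg.Agent.Lib.Helper05.classInner_irr_ne hirrInd hχ hne2)
    rw [← heq]
    exact hmem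

end

/-- Let K be a nilpotent normal subgroup of the finite group L of odd order with [K,K] < K < L and L/[K,K] a Frobenius group with kernel K/[K,K] (elements of K outside [K,K] are centralised modulo [K,K] only from inside K); let (S, τ, R) be a coherence system from L to G with S the functions induced from non-principal irreducible characters of K. Let Z be a nontrivial normal subgroup of L contained in the centre of K, and suppose every member of S outside S(Z) is an irreducible character of L. Then S minus S(Z) is the set of irreducible characters χ of L with χ z ≠ χ 1 for some z ∈ Z, and it is coherent. -/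
theorem result {L : Type*} [Group L] [Fintype L] {G : Type*} [Group G] [Fintype G] (K : Subgroup L) [hK : K.Normal] (hsolv : Group.IsSolvable K) (τ : (L → ℂ) → (G → ℂ)) (R : (L → ℂ) → Finset (G → ℂ)) (hS : Cfsg.IsCoherenceSystem (Cfsg.inducedIrrAbove K ⊥) τ R) (hodd : Odd (Nat.card L)) (hnil : Group.IsNilpotent K) (hH₁K : ⁅K, K⁆ < K) (hKL : K < ⊤) (hfrob : ∀ k ∈ K, k ∉ ⁅K, K⁆ → ∀ x : L, x * k * x⁻¹ * k⁻¹ ∈ ⁅K, K⁆ → x ∈ K) (Z : Subgroup L) [Z.Normal] (hZ1 : Z ≠ ⊥) (hZK : Z ≤ K) (hZc : ∀ z ∈ Z, ∀ k ∈ K, z * k = k * z) (hirr : ∀ χ ∈ Cfsg.inducedIrrAbove K ⊥ \ Cfsg.inducedIrrAbove K Z, Cfsg.IsIrrCharacter L χ) : Cfsg.inducedIrrAbove K ⊥ \ Cfsg.inducedIrrAbove K Z = {χ | Cfsg.IsIrrCharacter L χ ∧ ∃ z ∈ Z, χ z ≠ χ 1} ∧ Cfsg.IsCoherent (Cfsg.inducedIrrAbove K ⊥ \ Cfsg.inducedIrrAbove K Z) {1}ᶜ τ := by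
  classical
  have hpart1 := part_one K Z hZK hirr
  refine ⟨hpart1, ?_⟩
  -- finsets
  obtain ⟨T₁, hT₁⟩ : ∃ T : Finset (L → ℂ), (T : Set (L → ℂ)) = Cfsg.inducedIrrAbove K ⊥ :=
    ⟨(inducedIrrAbove_finite K ⊥).toFinset, Set.Finite.coe_toFinset _⟩
  obtain ⟨T₂, hT₂⟩ : ∃ T : Finset (L → ℂ), (T : Set (L → ℂ)) = Cfsg.inducedIrrAbove K Z :=
    ⟨(inducedIrrAbove_finite K Z).toFinset, Set.Finite.coe_toFinset _⟩
  have hX : ((T₁ \ T₂ : Finset (L → ℂ)) : Set (L → ℂ)) =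
      Cfsg.inducedIrrAbove K ⊥ \ Cfsg.inducedIrrAbove K Z := by
    rw [Finset.coe_sdiff, hT₁, hT₂]
  set X : Finset (L → ℂ) := T₁ \ T₂ with hXdef
  have hmemX : ∀ φ, φ ∈ X ↔ φ ∈ Cfsg.inducedIrrAbove K ⊥ \ Cfsg.inducedIrrAbove K Z := by
    intro φ
    rw [← hX, Finset.mem_coe]
  have hXS' : ∀ φ ∈ X, φ ∈ Cfsg.inducedIrrAbove K ⊥ := fun φ hφ => ((hmemX φ).mp hφ).1
  have hT₂₁ : T₂ ⊆ T₁ := by
    rw [← Finset.coe_subset, hT₁, hT₂]
    exact inducedIrrAbove_anti K bot_le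
  have hsum₁ := sum_inducedIrrAbove K ⊥ bot_le T₁ hT₁
  have hsum₂ := sum_inducedIrrAbove K Z hZK T₂ hT₂
  have hsumX : ∑ φ ∈ X, φ 1 ^ 2 / Cfsg.classInner φ φ =
      (K.index : ℂ) * (((⊥ : Subgroup L).relIndex K : ℂ) - (Z.relIndex K : ℂ)) := by
    have h := Finset.sum_sdiff hT₂₁ (f := fun φ : L → ℂ => φ 1 ^ 2 / Cfsg.classInner φ φ)
    rw [hsum₁, hsum₂] at h
    linear_combination h
  -- basic numbers
  have he0 : K.index ≠ 0 := Subgroup.index_ne_zero_of_finite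
  have hepos : 0 < K.index := Nat.pos_of_ne_zero he0
  have hbot : (⊥ : Subgroup L).relIndex K = Nat.card K := by
    rw [Subgroup.relIndex, Subgroup.bot_subgroupOf, Subgroup.index_bot]
  have hcardZ : Nat.card (Z.subgroupOf K) * Z.relIndex K = Nat.card K :=
    Subgroup.card_mul_index _
  have hZ'1 : 1 < Nat.card (Z.subgroupOf K) := by
    rw [Cfsg.Agent.S1519.card_subgroupOf_of_le hZK]
    exact (Subgroup.one_lt_card_iff_ne_bot Z).mpr hZ1
  have hqpos : 0 < Z.relIndex K := Nat.pos_of_ne_zero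
    (Subgroup.index_ne_zero_of_finite : (Z.subgroupOf K).index ≠ 0)
  -- conjugation
  have hXc : ∀ φ ∈ X, Cfsg.conjFun φ ∈ X := by
    intro φ hφ
    obtain ⟨h1, h2⟩ := (hmemX φ).mp hφ
    rw [hmemX]
    refine ⟨inducedIrrAbove_conj_mem K ⊥ h1, fun h => h2 ?_⟩
    have := inducedIrrAbove_conj_mem K Z h
    rwa [Cfsg.Agent.S1517.conjFun_conjFun] at this
  -- `X` is nonempty
  have hXne : X.Nonempty := by
    rw [Finset.nonempty_iff_ne_empty]
    intro h0
    rw [h0, Finset.sum_empty, hbot] at hsumX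
    have he' : (K.index : ℂ) ≠ 0 := by exact_mod_cast he0
    have h1 : (Nat.card K : ℂ) - (Z.relIndex K : ℂ) = 0 := by
      rcases mul_eq_zero.mp hsumX.symm with h | h
      · exact absurd h he'
      · exact h
    have h2 : Nat.card K = Z.relIndex K := by
      have : (Nat.card K : ℂ) = (Z.relIndex K : ℂ) := by linear_combination h1
      exact_mod_cast this
    rw [h2] at hcardZ
    have : Nat.card (Z.subgroupOf K) = 1 := by
      have h3 : Nat.card (Z.subgroupOf K) * Z.relIndex K = 1 * Z.relIndex K := by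
        rw [hcardZ, one_mul]
      exact Nat.eq_of_mul_eq_mul_right hqpos h3
    omega
  -- a nonzero element of the span vanishing at `1`
  have hnez : ∃ α ∈ Cfsg.zspanOn (Cfsg.inducedIrrAbove K ⊥ \ Cfsg.inducedIrrAbove K Z)
      ({1}ᶜ : Set L), α ≠ 0 := by
    obtain ⟨χ, hχ⟩ := hXne
    have hχ' := (hmemX χ).mp hχ
    have hcχ' := (hmemX _).mp (hXc χ hχ)
    refine ⟨χ - Cfsg.conjFun χ, ?_, sub_ne_zero.mpr (hS.conj_ne χ hχ'.1).symm⟩
    rw [mem_zspanOn_compl_one_iff]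
    refine ⟨sub_mem_zspan (mem_zspan_of_mem hχ') (mem_zspan_of_mem hcχ'), ?_⟩
    obtain ⟨k, hk⟩ := Cfsg.Agent.Lib.Helper83.char_one_eq_nat (hS.isCharacter χ hχ'.1)
    show χ 1 - (starRingEnd ℂ) (χ 1) = 0
    rw [hk, Complex.conj_natCast, sub_self]
  by_cases hpp : ∃ p m : ℕ, p.Prime ∧ (⊥ : Subgroup L).relIndex K = p ^ m
  swap
  · -- `|K|` is not a prime power: all of `S` is coherent
    haveI : ((⊥ : Subgroup L).subgroupOf K).Normal := inferInstance
    haveI := hnil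
    have hnilq : Group.IsNilpotent (↥K ⧸ (⊥ : Subgroup L).subgroupOf K) := inferInstance
    have hcoh := Cfsg.Agent.S1521.result K hsolv τ R hS hodd ⊥ bot_le hnilq ⁅K, K⁆ (by simp)
      hH₁K hKL hfrob (Or.inr (Or.inr (Or.inl hpp)))
    exact Cfsg.Agent.S1519.isCoherent_subset τ Set.sdiff_subset hcoh hnez
  · obtain ⟨p, m, hp, hpm⟩ := hpp
    rw [hbot] at hpm
    -- `p ≥ 3`
    have hKdvd : Nat.card K ∣ Nat.card L := Subgroup.card_subgroup_dvd_card K
    have hpdvd : p ∣ Nat.card K := by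
      have hm : m ≠ 0 := by
        intro h0
        rw [h0, pow_zero] at hpm
        have : Nat.card (Z.subgroupOf K) ≤ Nat.card K :=
          Nat.le_of_dvd (by rw [hpm]; exact Nat.one_pos) (Dvd.intro _ hcardZ)
        omega
      rw [hpm]
      exact dvd_pow_self p hm
    have hp3 : 3 ≤ p := by
      have hpodd : Odd p := Odd.of_dvd_nat hodd (hpdvd.trans hKdvd)
      have h2 := hp.two_le
      rcases Nat.lt_or_ge p 3 with h | h
      · have : p = 2 := by omega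
        rw [this] at hpodd
        exact absurd hpodd (by decide)
      · exact h
    -- `e` is coprime to `p`
    have hcop : Nat.Coprime K.index p := by
      haveI : (⁅K, K⁆ : Subgroup L).Normal := Subgroup.commutator_normal K K
      obtain ⟨c, hc⟩ := exists_mul_index_add_one K ⁅K, K⁆ le_rfl hfrob ⁅K, K⁆ le_rfl hH₁K.le
      have h1 : (⁅K, K⁆ : Subgroup L).relIndex K ∣ p ^ m := by
        rw [← hpm, ← hbot]
        exact Subgroup.relIndex_dvd_of_le_left K bot_le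
      obtain ⟨j, -, hj⟩ := (Nat.dvd_prime_pow hp).mp h1
      have hj0 : j ≠ 0 := by
        intro h0
        rw [h0, pow_zero, Subgroup.relIndex_eq_one] at hj
        exact absurd hj (not_le_of_gt hH₁K)
      have hpd : p ∣ c * K.index + 1 := by
        rw [hc, hj]
        exact dvd_pow_self p hj0
      apply Nat.Coprime.symm
      rw [Nat.Prime.coprime_iff_not_dvd hp]
      intro hdvd
      have h2 : p ∣ c * K.index := Dvd.dvd.mul_left hdvd c
      have h3 : p ∣ 1 := (Nat.dvd_add_right h2).mp hpd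
      exact hp.one_lt.ne' (Nat.dvd_one.mp h3)
    obtain ⟨d, n, hd, hn⟩ := Cfsg.Agent.S1519.exists_dn (Cfsg.inducedIrrAbove K ⊥) hS.isCharacter
    -- `q` is a power of `p`
    obtain ⟨j, -, hj⟩ := (Nat.dvd_prime_pow hp).mp
      (show Z.relIndex K ∣ p ^ m by rw [← hpm]; exact Dvd.intro_left _ hcardZ)
    -- data attached to the members of `X`
    have hdata : ∀ φ ∈ X, ∃ c : ℕ, d φ = K.index * p ^ c ∧ (p ^ c) ^ 2 ∣ Z.relIndex K ∧
        n φ = 1 := by
      intro φ hφ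
      have hφ' := (hmemX φ).mp hφ
      have hφirr := hirr φ hφ'
      have hdφ := hd φ hφ'.1
      have hnφ := hn φ hφ'.1
      obtain ⟨θ, hθ, hne, -, rfl⟩ := hφ'.1
      letI : Fintype K := Fintype.ofFinite K
      obtain ⟨t₀, ht₀pos, ht₀, ht₀dvd⟩ := Cfsg.Agent.Lib.Helper05.exists_degree_dvd hθ
      rw [hpm] at ht₀dvd
      obtain ⟨c, -, rfl⟩ := (Nat.dvd_prime_pow hp).mp ht₀dvd
      refine ⟨c, ?_, ?_, ?_⟩
      · rw [Cfsg.Agent.Lib.Helper83.indFun_one_eq, ht₀] at hdφ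
        have : ((K.index * p ^ c : ℕ) : ℂ) = (d (indFun K θ) : ℂ) := by
          rw [← hdφ]; push_cast; ring
        exact_mod_cast this.symm
      · have hle := degree_sq_mul_card_le hθ (Z.subgroupOf K)
          (fun z hz h => Subtype.ext (hZc (z : L) (Subgroup.mem_subgroupOf.mp hz) (h : L) h.2))
          (p ^ c) ht₀
        rw [← hcardZ, mul_comm (Nat.card _)] at hle
        have hle' : (p ^ c) ^ 2 ≤ Z.relIndex K :=
          Nat.le_of_mul_le_mul_right hle (by omega)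
        rw [hj, ← pow_mul] at hle' ⊢
        exact pow_dvd_pow p ((Nat.pow_le_pow_iff_right hp.one_lt).mp hle')
      · rw [Cfsg.Agent.Lib.Helper05.classInner_irr_self hφirr] at hnφ
        exact_mod_cast hnφ.symm
    set t : (L → ℂ) → ℕ := fun φ => d φ / K.index with htdef
    have ht : ∀ φ ∈ X, d φ = K.index * t φ := by
      intro φ hφ
      obtain ⟨c, hc, -, -⟩ := hdata φ hφ
      show d φ = K.index * (d φ / K.index)
      rw [hc, Nat.mul_div_cancel_left _ hepos]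
    have htpow : ∀ φ ∈ X, ∃ c, t φ = p ^ c := by
      intro φ hφ
      obtain ⟨c, hc, -, -⟩ := hdata φ hφ
      refine ⟨c, ?_⟩
      show d φ / K.index = p ^ c
      rw [hc, Nat.mul_div_cancel_left _ hepos]
    have htq : ∀ φ ∈ X, (t φ) ^ 2 ∣ Z.relIndex K := by
      intro φ hφ
      obtain ⟨c, hc, hc2, -⟩ := hdata φ hφ
      have : t φ = p ^ c := by
        show d φ / K.index = p ^ c
        rw [hc, Nat.mul_div_cancel_left _ hepos]
      rw [this]
      exact hc2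
    have hn1 : ∀ φ ∈ X, n φ = 1 := fun φ hφ => (hdata φ hφ).choose_spec.2.2
    -- the sum of squares
    have hsumt : Z.relIndex K ∣ K.index * ∑ φ ∈ X, (t φ) ^ 2 := by
      have hterm : ∀ φ ∈ X, φ 1 ^ 2 / Cfsg.classInner φ φ =
          (K.index : ℂ) ^ 2 * ((t φ : ℕ) : ℂ) ^ 2 := by
        intro φ hφ
        rw [hd φ (hXS' φ hφ), hn φ (hXS' φ hφ), hn1 φ hφ, Nat.cast_one, div_one, ht φ hφ]
        push_cast
        ring
      rw [Finset.sum_congr rfl hterm, ← Finset.mul_sum, hbot] at hsumX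
      have he' : (K.index : ℂ) ≠ 0 := by exact_mod_cast he0
      have h1 : (K.index : ℂ) * ((K.index : ℂ) * ∑ φ ∈ X, ((t φ : ℕ) : ℂ) ^ 2) =
          (K.index : ℂ) * ((Nat.card K : ℂ) - (Z.relIndex K : ℂ)) := by
        rw [← hsumX]; ring
      have h2 := mul_left_cancel₀ he' h1
      have h3 : ((K.index * ∑ φ ∈ X, (t φ) ^ 2 + Z.relIndex K : ℕ) : ℂ) = (Nat.card K : ℂ) := by
        push_cast
        linear_combination h2
      have h4 : K.index * ∑ φ ∈ X, (t φ) ^ 2 + Z.relIndex K = Nat.card K := by exact_mod_cast h3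
      have h5 : Z.relIndex K ∣ K.index * ∑ φ ∈ X, (t φ) ^ 2 + Z.relIndex K := by
        rw [h4]; exact Dvd.intro_left _ hcardZ
      exact (Nat.dvd_add_left (dvd_refl _)).mp h5
    -- the chain
    have hXS : (↑X : Set (L → ℂ)) ⊆ Cfsg.inducedIrrAbove K ⊥ := by
      rw [hX]; exact Set.sdiff_subset
    have hpos : ∀ φ ∈ X, 0 < d φ := by
      intro φ hφ
      obtain ⟨c, hc, -, -⟩ := hdata φ hφ
      rw [hc]
      have := hp.pos
      positivity
    obtain ⟨χ₁, hχ₁X, hχ₁min⟩ := Finset.exists_min_image X d hXne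
    have hdvd : ∀ φ ∈ X, d χ₁ ∣ d φ := by
      intro φ hφ
      obtain ⟨c, hc, -, -⟩ := hdata φ hφ
      obtain ⟨a, ha, -, -⟩ := hdata χ₁ hχ₁X
      have hle := hχ₁min φ hφ
      rw [hc, ha] at hle ⊢
      have hle' : p ^ a ≤ p ^ c := Nat.le_of_mul_le_mul_left hle hepos
      exact Nat.mul_dvd_mul_left _ (pow_dvd_pow p ((Nat.pow_le_pow_iff_right hp.one_lt).mp hle'))
    have hineq : ∀ χ ∈ X, d χ ≠ d χ₁ → (2 * d χ * d χ₁ : ℝ) <
        ∑ φ ∈ X.filter (fun φ => d φ < d χ), ((d φ : ℝ) ^ 2 / (n φ : ℝ)) := by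
      intro χ hχ hne
      have hlt : t χ₁ < t χ := by
        have h1 : d χ₁ < d χ := lt_of_le_of_ne (hχ₁min χ hχ) (Ne.symm hne)
        rw [ht χ hχ, ht χ₁ hχ₁X] at h1
        exact Nat.lt_of_mul_lt_mul_left h1
      have hnum := numeric_chain X t p K.index (Z.relIndex K) hp hp3 hcop htpow htq hsumt χ₁ χ
        hχ₁X hχ hlt
      have hfilter : X.filter (fun φ => d φ < d χ) = X.filter (fun φ => t φ < t χ) := by
        apply Finset.filter_congr
        intro φ hφ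
        rw [ht φ hφ, ht χ hχ]
        exact Nat.mul_lt_mul_left hepos
      rw [hfilter]
      have hterm2 : ∀ φ ∈ X.filter (fun φ => t φ < t χ), ((d φ : ℝ) ^ 2 / (n φ : ℝ)) =
          (K.index : ℝ) ^ 2 * ((t φ : ℕ) : ℝ) ^ 2 := by
        intro φ hφ
        have hφX := (Finset.mem_filter.mp hφ).1
        rw [hn1 φ hφX, Nat.cast_one, div_one, ht φ hφX]
        push_cast
        ring
      rw [Finset.sum_congr rfl hterm2, ← Finset.mul_sum, ht χ hχ, ht χ₁ hχ₁X]
      have hnum' : ((2 * t χ * t χ₁ : ℕ) : ℝ) <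
          ((∑ φ ∈ X.filter (fun φ => t φ < t χ), (t φ) ^ 2 : ℕ) : ℝ) := by exact_mod_cast hnum
      push_cast at hnum' ⊢
      have he2 : (0 : ℝ) < (K.index : ℝ) ^ 2 := by positivity
      nlinarith
    have hfinal := coherent_chain _ τ R hS d n hd hn X hXS hXc hpos χ₁ hχ₁X hdvd hineq
    rw [hX] at hfinal
    exact hfinal

end Cfsg.Agent.S1522
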