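import Cfsg.Statements.S1532
-- import your own Cfsg.Agent.* helpers here
import Cfsg.Agent.Lib.Helper34.IndAbove
import Cfsg.Agent.Lib.Helper34.FrobTI
import Cfsg.Agent.Lib.Helper34.Coherence
import Cfsg.Agent.Lib.Helper42.PComponents
import Cfsg.Agent.Lib.Helper84.OddReal
import Cfsg.Agent.Lib.Helper04.IndFun
import Cfsg.Agent.S1514
import Cfsg.Agent.S1522
import Cfsg.Agent.S1528

set_option autoImplicit false
open Cfsg

namespace Cfsg.Agent.S1532

section GroupTheory

variable {N : Type*} [Group N] [Finite N]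

/-- an involutory endomorphism without nontrivial fixed points inverts every element -/
theorem inv_of_fpf_involution (ψ : N →* N) (hψ : ∀ x, ψ (ψ x) = x) (hfix : ∀ x, ψ x = x → x = 1)
    (x : N) : ψ x = x⁻¹ := by
  have hinj : Function.Injective (fun y : N => y⁻¹ * ψ y) := by
    intro a b hab
    simp only at hab
    have h1 : ψ (b * a⁻¹) = b * a⁻¹ := by
      rw [map_mul, map_inv]
      have h2 : ψ b = b * (a⁻¹ * ψ a) := by rw [hab]; group
      rw [h2]; group
    have h3 := hfix _ h1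
    exact (mul_inv_eq_one.mp h3).symm
  obtain ⟨y, hy⟩ := (Finite.surjective_of_injective hinj) x
  simp only at hy
  rw [← hy, map_mul, map_inv, hψ]
  group

/-- a group admitting a fixed-point-free involutory inner action is abelian -/
theorem comm_of_fpf_involution (K : Subgroup N) (t : N) (ht : t * t = 1)
    (hnorm : ∀ x ∈ K, t * x * t⁻¹ ∈ K) (hfix : ∀ x ∈ K, t * x * t⁻¹ = x → x = 1) :
    ∀ a ∈ K, ∀ b ∈ K, a * b = b * a := by
  have htinv : t⁻¹ = t := inv_eq_of_mul_eq_one_left ht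
  let ψ : K →* K :=
    { toFun := fun x => ⟨t * x * t⁻¹, hnorm x x.2⟩
      map_one' := by ext; simp
      map_mul' := by intro a b; ext; simp [mul_assoc] }
  have hψ : ∀ x, ψ (ψ x) = x := by
    intro x
    ext
    show t * (t * (x : N) * t⁻¹) * t⁻¹ = x
    rw [htinv]
    calc t * (t * (x : N) * t) * t = (t * t) * x * (t * t) := by group
      _ = x := by rw [ht, one_mul, mul_one]
  have hinv := inv_of_fpf_involution ψ hψ
    (fun x hx => Subtype.ext (hfix x x.2 (congrArg Subtype.val hx)))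
  intro a ha b hb
  have h1 := hinv (⟨a, ha⟩ * ⟨b, hb⟩)
  rw [map_mul, hinv ⟨a, ha⟩, hinv ⟨b, hb⟩] at h1
  have h4 := congrArg Subtype.val h1
  simp only [Subgroup.coe_mul, Subgroup.coe_inv, mul_inv_rev] at h4
  -- h4 : a⁻¹ * b⁻¹ = b⁻¹ * a⁻¹
  have h5 := congrArg (fun z => z⁻¹) h4
  simpa using h5.symm

/-- the quotient of a Frobenius group with `p`-group kernel `K` by a normal subgroup `M ≤ K` is
again a Frobenius group (in the centraliser formulation) -/
theorem frob_quotient (K : Subgroup N) [hK : K.Normal] (p : ℕ) [hp : Fact p.Prime]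
    (hKp : IsPGroup p K) (hsyl : ∀ x : N, (∃ j : ℕ, x ^ (p ^ j) = 1) → x ∈ K)
    (hC : ∀ k ∈ K, k ≠ 1 → Subgroup.centralizer ({k} : Set N) ≤ K)
    (M : Subgroup N) [hM : M.Normal] (hMK : M ≤ K) :
    ∀ k ∈ K, k ∉ M → ∀ x : N, x * k * x⁻¹ * k⁻¹ ∈ M → x ∈ K := by
  intro k hk hkM x hx
  by_contra hxK
  have hox : orderOf x ≠ 0 := (orderOf_pos x).ne'
  obtain ⟨r, hr, hrdvd, hrp⟩ : ∃ r, r.Prime ∧ r ∣ orderOf x ∧ r ≠ p := by
    by_contra hcon
    push Not at hcon
    apply hxK
    apply hsyl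
    have h1 := Nat.eq_prime_pow_of_unique_prime_dvd hox (fun {d} hd hdvd => hcon d hd hdvd)
    exact ⟨_, by rw [← h1]; exact pow_orderOf_eq_one x⟩
  set y := x ^ (orderOf x / r) with hy
  have hyord : orderOf y = r := orderOf_pow_orderOf_div hox hrdvd
  have hpow : ∀ j : ℕ, x ^ j * k * (x ^ j)⁻¹ * k⁻¹ ∈ M := by
    intro j
    induction j with
    | zero => simp
    | succ j ih =>
      have h1 : x ^ (j + 1) * k * (x ^ (j + 1))⁻¹ * k⁻¹ =
          x * (x ^ j * k * (x ^ j)⁻¹ * k⁻¹) * x⁻¹ * (x * k * x⁻¹ * k⁻¹) := by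
        rw [pow_succ']; group
      rw [h1]
      exact M.mul_mem (hM.conj_mem _ ih x) hx
  have hyk : y * k * y⁻¹ * k⁻¹ ∈ M := hpow _
  haveI : Fact r.Prime := ⟨hr⟩
  have hMcop : (Nat.card M).Coprime r := by
    have hMp : IsPGroup p M := hKp.to_le hMK
    obtain ⟨j, hj⟩ := IsPGroup.iff_card.mp hMp
    rw [hj]
    exact Nat.Coprime.pow_left _ ((Nat.coprime_primes hp.out hr).mpr (Ne.symm hrp))
  obtain ⟨o, hoM, hfixed⟩ := Cfsg.Agent.Lib.Helper42.exists_fixed_in_coset r y
    (by rw [← hyord]; exact pow_orderOf_eq_one y) M hMcop k (by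
      intro o ho
      have h1 : k⁻¹ * y * k * o * y⁻¹ = k⁻¹ * (y * k * y⁻¹ * k⁻¹) * k * (y * o * y⁻¹) := by group
      rw [h1]
      refine M.mul_mem ?_ (hM.conj_mem o ho y)
      have := hM.conj_mem _ hyk k⁻¹
      simpa using this)
  have hcK : k * o ∈ K := K.mul_mem hk (hMK hoM)
  have hc1 : k * o ≠ 1 := by
    intro h
    apply hkM
    have : k = o⁻¹ := mul_eq_one_iff_eq_inv.mp h
    rw [this]
    exact M.inv_mem hoM
  have hyK : y ∈ K := by
    apply hC (k * o) hcK hc1
    rw [Subgroup.mem_centralizer_iff]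
    intro c hc
    rw [Set.mem_singleton_iff] at hc
    subst hc
    -- `(k o) * y = y * (k o)`
    have : y * (k * o) = (k * o) * y := by
      calc y * (k * o) = (y * (k * o) * y⁻¹) * y := by group
        _ = (k * o) * y := by rw [hfixed]
    exact this.symm
  -- `y ∈ K` has order `r ≠ p`
  obtain ⟨j, hj⟩ := hKp ⟨y, hyK⟩
  have h1 : y ^ (p ^ j) = 1 := by
    have := congrArg Subtype.val hj
    simpa using this
  have h2 : r ∣ p ^ j := by rw [← hyord]; exact orderOf_dvd_of_pow_eq_one h1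
  have h3 : r ∣ p := hr.dvd_of_dvd_pow h2
  exact hrp ((Nat.prime_dvd_prime_iff_eq hr hp.out).mp h3)

end GroupTheory

section Assembly

open Cfsg.Agent.Lib.Helper34

variable {G : Type*} [Group G] [Fintype G] (N : Subgroup G) [Fintype N] (KN : Subgroup N)
  [hKN : KN.Normal]

theorem assembly (p : ℕ) [hp : Fact p.Prime] (hp2 : p ≠ 2) (hKp : IsPGroup p KN)
    (hsyl : ∀ x : N, (∃ j : ℕ, x ^ (p ^ j) = 1) → x ∈ KN)
    (hna : ¬ ∀ a ∈ KN, ∀ b ∈ KN, a * b = b * a)
    (hlt : KN < ⊤)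
    (hC : ∀ k ∈ KN, k ≠ 1 → Subgroup.centralizer ({k} : Set N) ≤ KN)
    (hiso : ∀ α β : N → ℂ, Cfsg.IsClassFunction N α → Cfsg.IsClassFunction N β →
      (∀ x : N, x ∉ KN → α x = 0) → (∀ x : N, x ∉ KN → β x = 0) → α 1 = 0 →
      Cfsg.classInner (Cfsg.indFun N α) (Cfsg.indFun N β) = Cfsg.classInner α β)
    (ZN : Subgroup N) [ZN.Normal] (hZ1 : ZN ≠ ⊥) (hZK : ZN ≤ KN)
    (hZc : ∀ z ∈ ZN, ∀ k ∈ KN, z * k = k * z) :
    Cfsg.IsCoherent {χ : N → ℂ | Cfsg.IsIrrCharacter N χ ∧ ∃ z ∈ ZN, χ z ≠ χ 1} {1}ᶜ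
      (fun α => Cfsg.indFun N α) := by
  classical
  -- `|N|` is odd
  have hodd : Odd (Nat.card N) := by
    by_contra h
    rw [Nat.not_odd_iff_even] at h
    haveI : Fact (Nat.Prime 2) := ⟨Nat.prime_two⟩
    obtain ⟨t, ht⟩ := exists_prime_orderOf_dvd_card' (G := N) 2 h.two_dvd
    have htt : t * t = 1 := by
      have := pow_orderOf_eq_one t
      rw [ht, sq] at this
      exact this
    apply hna
    apply comm_of_fpf_involution KN t htt (fun x hx => hKN.conj_mem x hx t)
    intro x hx hfix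
    by_contra hx1
    have htK : t ∈ KN := by
      apply hC x hx hx1
      rw [Subgroup.mem_centralizer_iff]
      intro c hc
      rw [Set.mem_singleton_iff] at hc
      subst hc
      calc c * t = (t * c * t⁻¹)⁻¹⁻¹ * t := by rw [hfix]; group
        _ = t * c := by rw [inv_inv]; group
    obtain ⟨j, hj⟩ := hKp ⟨t, htK⟩
    have h1 : t ^ (p ^ j) = 1 := by
      have := congrArg Subtype.val hj
      simpa using this
    have h2 : 2 ∣ p ^ j := by rw [← ht]; exact orderOf_dvd_of_pow_eq_one h1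
    have h3 : 2 ∣ p := Nat.prime_two.dvd_of_dvd_pow h2
    exact hp2 ((Nat.prime_dvd_prime_iff_eq Nat.prime_two hp.out).mp h3).symm
  -- group-theoretic facts on `KN`
  haveI hnil : Group.IsNilpotent KN := hKp.isNilpotent
  have hsolv : Group.IsSolvable KN := inferInstance
  have hKne : KN ≠ ⊥ := by
    intro h
    apply hna
    intro a ha b hb
    rw [h, Subgroup.mem_bot] at ha hb
    rw [ha, hb]
  haveI : Nontrivial KN := (Subgroup.nontrivial_iff_ne_bot KN).mpr hKne
  have hH₁K : ⁅KN, KN⁆ < KN := by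
    have h1 : commutator KN < ⊤ := Group.IsSolvable.commutator_lt_top_of_nontrivial KN
    rw [← Subgroup.map_subtype_commutator]
    have h2 := (Subgroup.map_lt_map_iff_of_injective KN.subtype_injective).mpr h1
    rwa [← MonoidHom.range_eq_map, Subgroup.range_subtype] at h2
  haveI : (⁅KN, KN⁆ : Subgroup N).Normal := Subgroup.commutator_normal KN KN
  have hfrob := frob_quotient KN p hKp hsyl hC ⁅KN, KN⁆ hH₁K.le
  -- the set `S`
  set S : Set (N → ℂ) := Cfsg.inducedIrrAbove KN ⊥ with hSdef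
  have hSrel : ∀ χ ∈ S, FrobRel KN χ := by
    rintro χ ⟨θ, hθ, hne, -, rfl⟩
    exact ind_frobRel KN hC hθ hne
  have hSirr : ∀ χ ∈ S, Cfsg.IsIrrCharacter N χ := fun χ hχ => (hSrel χ hχ).1
  have hSne : S.Nonempty := by
    haveI : ((⊥ : Subgroup N).subgroupOf KN).Normal := inferInstance
    obtain ⟨lam, hlam, -, hlamne, hlamA⟩ := exists_linear_above KN hsolv ⊥ (bot_lt_iff_ne_bot.mpr hKne)
    exact ⟨Cfsg.indFun KN lam, lam, hlam, hlamne, hlamA, rfl⟩
  have hconj : ∀ χ ∈ S, Cfsg.conjFun χ ∈ S ∧ Cfsg.conjFun χ ≠ χ := by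
    intro χ hχ
    refine ⟨inducedIrrAbove_conj_mem KN ⊥ hχ, ?_⟩
    intro hreal
    have h1 := Cfsg.Agent.Lib.Helper84.real_irr_eq_one_of_odd hodd ⟨χ, hSirr χ hχ⟩ (by
      intro q
      have := congrFun hreal q
      simp only [Cfsg.conjFun] at this
      exact Complex.conj_eq_iff_im.mp this)
    obtain ⟨k, -, hk⟩ := (hSrel χ hχ).2
    apply hk
    simp only at h1
    rw [h1]
  -- the isometry
  have hprop : ∀ α ∈ Cfsg.zspan S, Cfsg.IsClassFunction N α ∧ (∀ x : N, x ∉ KN → α x = 0) ∧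
      Cfsg.IsGeneralizedCharacter N α := by
    intro α hα
    refine zspan_induction (p := fun α => Cfsg.IsClassFunction N α ∧
      (∀ x : N, x ∉ KN → α x = 0) ∧ Cfsg.IsGeneralizedCharacter N α) hα ?_ ?_ ?_ ?_
    · intro χ hχ
      have hχc := Cfsg.Agent.Lib.Helper83.isCharacter_of_irr (hSirr χ hχ)
      exact ⟨Cfsg.Agent.Lib.Helper83.char_isClassFunction hχc,
        fun x hx => (hSrel χ hχ).vanish KN hC hx, IsCharacter.isGeneralizedCharacter hχc⟩
    · exact ⟨fun g x => rfl, fun x _ => rfl, isGeneralizedCharacter_zero⟩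
    · rintro a b ⟨ha1, ha2, ha3⟩ ⟨hb1, hb2, hb3⟩
      refine ⟨fun g x => ?_, fun x hx => ?_, isGeneralizedCharacter_add ha3 hb3⟩
      · show a _ + b _ = a _ + b _
        rw [ha1 g x, hb1 g x]
      · show a x + b x = 0
        rw [ha2 x hx, hb2 x hx, add_zero]
    · rintro a ⟨ha1, ha2, ha3⟩
      refine ⟨fun g x => ?_, fun x hx => ?_, isGeneralizedCharacter_neg ha3⟩
      · show -a _ = -a _
        rw [ha1 g x]
      · show -a x = 0
        rw [ha2 x hx, neg_zero]
  have hτ : Cfsg.IsLinearIsometryOn (Cfsg.zspanOn S ({1}ᶜ : Set N)) (fun α => Cfsg.indFun N α) := by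
    refine ⟨fun α _ β _ => indFun_add N α β, fun α _ n => indFun_zsmul N n α, ?_, ?_⟩
    · intro α hα β hβ
      obtain ⟨hα1, hα2, -⟩ := hprop α hα.1
      obtain ⟨hβ1, hβ2, -⟩ := hprop β hβ.1
      exact hiso α β hα1 hβ1 hα2 hβ2 (mem_zspanOn_compl_one_iff.mp hα).2
    · intro α hα
      exact isGeneralizedCharacter_indFun N (hprop α hα.1).2.2
  have hτ1 : ∀ α ∈ Cfsg.zspanOn S ({1}ᶜ : Set N), (fun α => Cfsg.indFun N α) α 1 = 0 := by
    intro α hα
    show Cfsg.indFun N α 1 = 0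
    rw [Cfsg.Agent.Lib.Helper83.indFun_one_eq, (mem_zspanOn_compl_one_iff.mp hα).2, mul_zero]
  obtain ⟨R, hR⟩ := Cfsg.Agent.S1514.result S hSne hSirr hconj _ hτ hτ1
  obtain ⟨hset, hcoh⟩ := Cfsg.Agent.S1522.result KN hsolv _ R hR hodd hnil hH₁K hlt hfrob ZN hZ1
    hZK hZc (fun χ hχ => hSirr χ hχ.1)
  rw [hset] at hcoh
  exact hcoh

end Assembly


/-- Let G be a finite group, p an odd prime and P a Sylow p-subgroup that is non-abelian, whose underlying set is a TI-subset of G, with P properly contained in its set normaliser N and C_G(x) ≤ P for every non-identity x ∈ P. Let Z be a nontrivial subgroup of the centre of P normalised by N. Then the set of irreducible characters χ of N with χ z ≠ χ 1 for some z ∈ Z is coherent for the map induced by induction from N to G. -/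
theorem result {G : Type*} [Group G] [Fintype G] (p : ℕ) [Fact p.Prime] (hp : p ≠ 2) (P : Sylow p G) (hna : ¬ IsMulCommutative (P : Subgroup G)) (hTI : Cfsg.IsTISubset ((P : Subgroup G) : Set G)) (hlt : (P : Subgroup G) < Subgroup.normalizer ((P : Subgroup G) : Set G)) (hC : ∀ k ∈ (P : Subgroup G), k ≠ 1 → Subgroup.centralizer ({k} : Set G) ≤ (P : Subgroup G)) [Fintype ↥(Subgroup.normalizer ((P : Subgroup G) : Set G))] (Z : Subgroup G) (hZ1 : Z ≠ ⊥) (hZP : ∀ z ∈ Z, z ∈ (P : Subgroup G) ∧ ∀ y ∈ (P : Subgroup G), z * y = y * z) (hZn : ∀ x ∈ Subgroup.normalizer ((P : Subgroup G) : Set G), ∀ z ∈ Z, x * z * x⁻¹ ∈ Z) : Cfsg.IsCoherent {χ : ↥(Subgroup.normalizer ((P : Subgroup G) : Set G)) → ℂ | Cfsg.IsIrrCharacter ↥(Subgroup.normalizer ((P : Subgroup G) : Set G)) χ ∧ ∃ z : ↥(Subgroup.normalizer ((P : Subgroup G) : Set G)), (z : G) ∈ Z ∧ χ z ≠ χ 1} {1}ᶜ (fun α => Cfsg.indFun (Subgroup.normalizer ((P : Subgroup G) : Set G)) α) := by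
  classical
  have hPN : (P : Subgroup G) ≤ Subgroup.normalizer ((P : Subgroup G) : Set G) :=
    Subgroup.le_normalizer
  haveI hKN : ((P : Subgroup G).subgroupOf
      (Subgroup.normalizer ((P : Subgroup G) : Set G))).Normal := Subgroup.normal_in_normalizer
  have hKp : IsPGroup p ((P : Subgroup G).subgroupOf
      (Subgroup.normalizer ((P : Subgroup G) : Set G))) := P.isPGroup'.comap_subtype
  -- the Sylow subgroup contains every `p`-element of its normaliser
  have hsyl : ∀ x : ↥(Subgroup.normalizer ((P : Subgroup G) : Set G)),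
      (∃ j : ℕ, x ^ (p ^ j) = 1) → x ∈ (P : Subgroup G).subgroupOf
        (Subgroup.normalizer ((P : Subgroup G) : Set G)) := by
    rintro x ⟨j, hj⟩
    have hQn : ((P.subtype hPN : Sylow p ↥(Subgroup.normalizer ((P : Subgroup G) : Set G))) :
        Subgroup ↥(Subgroup.normalizer ((P : Subgroup G) : Set G))).Normal := by
      rw [Sylow.coe_subtype]; exact hKN
    have hzp : IsPGroup p (Subgroup.zpowers x) := by
      have hdvd : orderOf x ∣ p ^ j := orderOf_dvd_of_pow_eq_one hj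
      obtain ⟨i, -, hi⟩ := (Nat.dvd_prime_pow (Fact.out : p.Prime)).mp hdvd
      exact IsPGroup.of_card (n := i) (by rw [Nat.card_zpowers, hi])
    obtain ⟨Q', hQ'⟩ := hzp.exists_le_sylow
    haveI := Sylow.unique_of_normal (P.subtype hPN) hQn
    have hQQ : Q' = P.subtype hPN := Subsingleton.elim _ _
    have hx : x ∈ (Q' : Subgroup ↥(Subgroup.normalizer ((P : Subgroup G) : Set G))) :=
      hQ' (Subgroup.mem_zpowers x)
    rw [hQQ, Sylow.coe_subtype] at hx
    exact hx
  have hna' : ¬ ∀ a ∈ (P : Subgroup G).subgroupOf (Subgroup.normalizer ((P : Subgroup G) : Set G)),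
      ∀ b ∈ (P : Subgroup G).subgroupOf (Subgroup.normalizer ((P : Subgroup G) : Set G)),
        a * b = b * a := by
    intro h
    apply hna
    refine ⟨⟨fun a b => Subtype.ext ?_⟩⟩
    have := h ⟨a, hPN a.2⟩ a.2 ⟨b, hPN b.2⟩ b.2
    show (a : G) * (b : G) = (b : G) * (a : G)
    exact congrArg Subtype.val this
  have hlt' : (P : Subgroup G).subgroupOf (Subgroup.normalizer ((P : Subgroup G) : Set G)) < ⊤ := by
    rw [lt_top_iff_ne_top, Ne, Subgroup.subgroupOf_eq_top]
    exact not_le_of_gt hlt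
  have hC' := Cfsg.Agent.Lib.Helper34.frobTI_hC (P : Subgroup G) hC
  have hiso : ∀ α β : ↥(Subgroup.normalizer ((P : Subgroup G) : Set G)) → ℂ,
      Cfsg.IsClassFunction ↥(Subgroup.normalizer ((P : Subgroup G) : Set G)) α →
      Cfsg.IsClassFunction ↥(Subgroup.normalizer ((P : Subgroup G) : Set G)) β →
      (∀ x : ↥(Subgroup.normalizer ((P : Subgroup G) : Set G)),
        x ∉ (P : Subgroup G).subgroupOf (Subgroup.normalizer ((P : Subgroup G) : Set G)) → α x = 0) →
      (∀ x : ↥(Subgroup.normalizer ((P : Subgroup G) : Set G)),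
        x ∉ (P : Subgroup G).subgroupOf (Subgroup.normalizer ((P : Subgroup G) : Set G)) → β x = 0) →
      α 1 = 0 →
      Cfsg.classInner (Cfsg.indFun (Subgroup.normalizer ((P : Subgroup G) : Set G)) α)
        (Cfsg.indFun (Subgroup.normalizer ((P : Subgroup G) : Set G)) β) = Cfsg.classInner α β := by
    intro α β hα hβ hαoff hβoff hα1
    exact Cfsg.Agent.Lib.Helper04.indFun_isometry_on_ti ((P : Subgroup G) : Set G) hTI
      (fun x hx => Subgroup.le_normalizer hx) α β hα hβ (fun x hx => hαoff x hx)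
      (fun x hx => hβoff x hx) hα1
  haveI hZN : (Z.subgroupOf (Subgroup.normalizer ((P : Subgroup G) : Set G))).Normal :=
    ⟨fun z hz x => hZn (x : G) x.2 (z : G) hz⟩
  have hZ1' : Z.subgroupOf (Subgroup.normalizer ((P : Subgroup G) : Set G)) ≠ ⊥ := by
    intro h
    apply hZ1
    rw [Subgroup.eq_bot_iff_forall]
    intro z hz
    have hzN : z ∈ Subgroup.normalizer ((P : Subgroup G) : Set G) := hPN (hZP z hz).1
    have h1 : (⟨z, hzN⟩ : ↥(Subgroup.normalizer ((P : Subgroup G) : Set G))) ∈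
        Z.subgroupOf (Subgroup.normalizer ((P : Subgroup G) : Set G)) := hz
    rw [h, Subgroup.mem_bot] at h1
    exact congrArg Subtype.val h1
  have hres := assembly (Subgroup.normalizer ((P : Subgroup G) : Set G))
    ((P : Subgroup G).subgroupOf (Subgroup.normalizer ((P : Subgroup G) : Set G))) p hp hKp hsyl
    hna' hlt' hC' hiso (Z.subgroupOf (Subgroup.normalizer ((P : Subgroup G) : Set G))) hZ1'
    (fun z hz => (hZP (z : G) hz).1)
    (fun z hz k hk => Subtype.ext ((hZP (z : G) hz).2 (k : G) hk))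
  exact hres

end Cfsg.Agent.S1532
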