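import Cfsg.Statements.S0391
import Mathlib
import Cfsg.Agent.Lib.Helper95.GolayConcrete
-- import your own Cfsg.Agent.* helpers here

set_option autoImplicit false
open Cfsg

namespace Cfsg.Agent.S0391

open Cfsg.Agent.Lib.Helper95

/-- The shape of a lattice vector modulo 4: a constant plus twice a codeword. -/
def Shape (x : GolayPt → ℤ) : Prop :=
  ∃ (a : ℤ) (c : GolayPt → ZMod 2), c ∈ golayCode ∧
    ∀ i, x i ≡ a + 2 * ((c i).val : ℤ) [ZMOD 4]

lemma zmod2_cases : ∀ u : ZMod 2, u = 0 ∨ u = 1 := by decide

lemma val_add_cases : ∀ u v : ZMod 2,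
    ((u + v).val : ℤ) = (u.val : ℤ) + v.val ∨ ((u + v).val : ℤ) = (u.val : ℤ) + v.val - 2 := by
  decide

lemma val_add_one : ∀ u : ZMod 2, ((u + 1).val : ℤ) = 1 - (u.val : ℤ) := by decide

lemma val_le_one (u : ZMod 2) : ((u.val : ℕ) : ℤ) = 0 ∨ ((u.val : ℕ) : ℤ) = 1 := by
  rcases zmod2_cases u with h | h <;> simp [h, ZMod.val_one]

lemma shape_of_leechSet (x : GolayPt → ℤ) (hx : x ∈ leechSet) : Shape x := by
  obtain ⟨m, h2, -, hk⟩ := hx
  obtain ⟨c, hc, hsupp⟩ := hk (m + 2)
  refine ⟨m, c, hc, fun i => ?_⟩
  have hi : i ∈ support₂ c ↔ x i ≡ m + 2 [ZMOD 4] := by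
    rw [hsupp]; simp
  have h2i := h2 i
  rcases zmod2_cases (c i) with h | h
  · have hn : ¬ (x i ≡ m + 2 [ZMOD 4]) := by
      rw [← hi]; simp [support₂, h]
    rw [h]
    simp only [Int.ModEq] at *
    simp only [ZMod.val_zero]
    omega
  · have hn : (x i ≡ m + 2 [ZMOD 4]) := by
      rw [← hi]; simp [support₂, h]
    rw [h]
    simp only [Int.ModEq] at *
    simp only [ZMod.val_one]
    omega

lemma shape_of_mem (x : GolayPt → ℤ) (hx : x ∈ leechLattice) : Shape x := by
  unfold leechLattice at hx
  induction hx using AddSubgroup.closure_induction with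
  | mem x hx => exact shape_of_leechSet x hx
  | zero =>
    refine ⟨0, 0, golayCode.zero_mem, fun i => ?_⟩
    simp
  | add x y _ _ hx hy =>
    obtain ⟨a, c, hc, hxa⟩ := hx
    obtain ⟨b, d, hd, hyb⟩ := hy
    refine ⟨a + b, c + d, golayCode.add_mem hc hd, fun i => ?_⟩
    have h1 := hxa i
    have h2 := hyb i
    have h3 := val_add_cases (c i) (d i)
    simp only [Pi.add_apply]
    simp only [Int.ModEq] at *
    rcases h3 with h3 | h3 <;> rw [h3] <;> omega
  | neg x _ hx =>
    obtain ⟨a, c, hc, hxa⟩ := hx
    refine ⟨-a, c, hc, fun i => ?_⟩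
    have h1 := hxa i
    simp only [Pi.neg_apply]
    simp only [Int.ModEq] at *
    rcases val_le_one (c i) with h | h <;> rw [h] at h1 ⊢ <;> omega

lemma shape_normal (x : GolayPt → ℤ) (h : Shape x) :
    ∃ c ∈ golayCode, (∀ i, x i ≡ 2 * ((c i).val : ℤ) [ZMOD 4]) ∨
      (∀ i, x i ≡ 1 + 2 * ((c i).val : ℤ) [ZMOD 4]) := by
  obtain ⟨a, c, hc, h⟩ := h
  have h1 : (1 : GolayPt → ZMod 2) ∈ golayCode := golayCode_one_mem
  have ha : a % 4 = 0 ∨ a % 4 = 1 ∨ a % 4 = 2 ∨ a % 4 = 3 := by omega
  rcases ha with ha | ha | ha | ha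
  · refine ⟨c, hc, Or.inl fun i => ?_⟩
    have := h i
    simp only [Int.ModEq] at *
    omega
  · refine ⟨c, hc, Or.inr fun i => ?_⟩
    have := h i
    simp only [Int.ModEq] at *
    omega
  · refine ⟨c + 1, golayCode.add_mem hc h1, Or.inl fun i => ?_⟩
    have := h i
    simp only [Pi.add_apply, Pi.one_apply, val_add_one]
    simp only [Int.ModEq] at *
    rcases val_le_one (c i) with h' | h' <;> rw [h'] at this ⊢ <;> omega
  · refine ⟨c + 1, golayCode.add_mem hc h1, Or.inr fun i => ?_⟩
    have := h i
    simp only [Pi.add_apply, Pi.one_apply, val_add_one]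
    simp only [Int.ModEq] at *
    rcases val_le_one (c i) with h' | h' <;> rw [h'] at this ⊢ <;> omega

lemma sum_of_mem (x : GolayPt → ℤ) (hx : x ∈ leechLattice) :
    (8 : ℤ) ∣ (∑ i, x i) - 4 * x none := by
  unfold leechLattice at hx
  induction hx using AddSubgroup.closure_induction with
  | mem x hx =>
    obtain ⟨m, h2, hs, -⟩ := hx
    have h2n := h2 none
    simp only [Int.ModEq] at *
    omega
  | zero => simp
  | add x y _ _ hx hy =>
    simp only [Pi.add_apply, Finset.sum_add_distrib]
    have : (∑ i, x i) + (∑ i, y i) - 4 * (x none + y none)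
        = ((∑ i, x i) - 4 * x none) + ((∑ i, y i) - 4 * y none) := by ring
    rw [this]
    exact dvd_add hx hy
  | neg x _ hx =>
    simp only [Pi.neg_apply, Finset.sum_neg_distrib]
    have : -(∑ i, x i) - 4 * (-x none) = -((∑ i, x i) - 4 * x none) := by ring
    rw [this]
    exact (dvd_neg).mpr hx

lemma sq_ge_of_dvd (n t : ℤ) (hn : 0 < n) (h : n ∣ t) (ht : t ≠ 0) : n ^ 2 ≤ t ^ 2 := by
  obtain ⟨s, rfl⟩ := h
  have hs : s ≠ 0 := by rintro rfl; simp at ht
  have : 0 < s ^ 2 := by positivity
  nlinarith

lemma sum_val_eq (c : GolayPt → ZMod 2) : (∑ i, ((c i).val : ℤ)) = (hammingNorm c : ℤ) := by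
  unfold hammingNorm
  rw [Finset.card_filter]
  push_cast
  apply Finset.sum_congr rfl
  intro i _
  rcases zmod2_cases (c i) with h | h <;> simp [h, ZMod.val_one]

/-- Nonzero lattice vectors have sum of squares ≥ 32 (no vectors of customary norm 2). -/
theorem result (x : Cfsg.GolayPt → ℤ) (hx : x ∈ Cfsg.leechLattice) (h0 : x ≠ 0) : 32 ≤ Cfsg.sqNorm x := by
  obtain ⟨c, hc, h | h⟩ := shape_normal x (shape_of_mem x hx)
  · -- even case
    by_cases hc0 : c = 0
    · have h4 : ∀ i, (4 : ℤ) ∣ x i := by
        intro i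
        have := h i
        rw [hc0] at this
        simp only [Pi.zero_apply, ZMod.val_zero, Nat.cast_zero, mul_zero] at this
        exact Int.modEq_zero_iff_dvd.mp this
      obtain ⟨j, hj⟩ : ∃ j, x j ≠ 0 := by
        by_contra hne
        push Not at hne
        exact h0 (funext hne)
      have hj16 := sq_ge_of_dvd 4 (x j) (by norm_num) (h4 j) hj
      by_cases hk : ∃ k, k ≠ j ∧ x k ≠ 0
      · obtain ⟨k, hkj, hk0⟩ := hk
        have hk16 := sq_ge_of_dvd 4 (x k) (by norm_num) (h4 k) hk0
        have hsub : ∑ i ∈ ({j, k} : Finset GolayPt), x i ^ 2 ≤ ∑ i, x i ^ 2 :=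
          Finset.sum_le_sum_of_subset_of_nonneg (Finset.subset_univ _)
            (fun i _ _ => sq_nonneg _)
        rw [Finset.sum_pair (Ne.symm hkj)] at hsub
        unfold sqNorm
        linarith
      · push Not at hk
        have hsum : ∑ i, x i = x j :=
          Finset.sum_eq_single j (fun b _ hb => hk b hb)
            (fun hh => absurd (Finset.mem_univ _) hh)
        have hQ := sum_of_mem x hx
        rw [hsum] at hQ
        have h8 : (8 : ℤ) ∣ x j := by
          obtain ⟨s, hs⟩ := h4 none
          rw [hs] at hQ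
          omega
        have hj64 := sq_ge_of_dvd 8 (x j) (by norm_num) h8 hj
        have hsub : x j ^ 2 ≤ ∑ i, x i ^ 2 :=
          Finset.single_le_sum (f := fun i => x i ^ 2) (fun i _ => sq_nonneg _)
            (Finset.mem_univ j)
        unfold sqNorm
        linarith
    · have hw : 8 ≤ hammingNorm c := golayCode_hmin c hc hc0
      have hterm : ∀ i, (if c i ≠ 0 then (4 : ℤ) else 0) ≤ x i ^ 2 := by
        intro i
        split_ifs with hci
        · have hci1 : c i = 1 := by
            rcases zmod2_cases (c i) with h' | h'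
            · exact absurd h' hci
            · exact h'
          have := h i
          rw [hci1] at this
          simp only [ZMod.val_one, Nat.cast_one, mul_one] at this
          have h2 : (2 : ℤ) ∣ x i := by
            simp only [Int.ModEq] at this
            omega
          have hne : x i ≠ 0 := by
            intro h0'
            rw [h0'] at this
            simp only [Int.ModEq] at this
            omega
          have := sq_ge_of_dvd 2 (x i) (by norm_num) h2 hne
          linarith
        · exact sq_nonneg _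
      have hsum : ∑ i, (if c i ≠ 0 then (4 : ℤ) else 0) ≤ ∑ i, x i ^ 2 :=
        Finset.sum_le_sum (fun i _ => hterm i)
      have hcount : ∑ i, (if c i ≠ 0 then (4 : ℤ) else 0) = 4 * (hammingNorm c : ℤ) := by
        unfold hammingNorm
        rw [← Finset.sum_filter, Finset.sum_const]
        simp [mul_comm]
      rw [hcount] at hsum
      unfold sqNorm
      have : (8 : ℤ) ≤ (hammingNorm c : ℤ) := by exact_mod_cast hw
      linarith
  · -- odd case
    by_contra hlt
    push Not at hlt
    have hcard : (Finset.univ : Finset GolayPt).card = 24 := by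
      rw [Finset.card_univ]; exact golayPt_card
    have hne : ∀ i, x i ≠ 0 := by
      intro i h0'
      have := h i
      rw [h0'] at this
      simp only [Int.ModEq] at this
      rcases val_le_one (c i) with h' | h' <;> rw [h'] at this <;> omega
    have hsq1 : ∀ i, 1 ≤ x i ^ 2 := by
      intro i
      have : 0 < x i ^ 2 := by have := hne i; positivity
      linarith
    have hall : ∀ j, x j ^ 2 < 9 := by
      intro j
      by_contra hj
      push Not at hj
      have h1 : x j ^ 2 - 1 ≤ ∑ i, (x i ^ 2 - 1) :=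
        Finset.single_le_sum (f := fun i => x i ^ 2 - 1)
          (fun i _ => by have := hsq1 i; linarith) (Finset.mem_univ j)
      rw [Finset.sum_sub_distrib, Finset.sum_const, hcard] at h1
      unfold sqNorm at hlt
      simp only [nsmul_eq_mul, Nat.cast_ofNat, mul_one] at h1
      linarith
    have hpm : ∀ i, x i = 1 - 2 * ((c i).val : ℤ) := by
      intro i
      have h9 := hall i
      have hlo : -3 < x i := by nlinarith
      have hhi : x i < 3 := by nlinarith
      have := h i
      simp only [Int.ModEq] at this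
      rcases val_le_one (c i) with h' | h' <;> rw [h'] at this ⊢ <;> omega
    have hsum : ∑ i, x i = 24 - 2 * (hammingNorm c : ℤ) := by
      rw [← sum_val_eq, Finset.mul_sum]
      have : ∑ i, x i = ∑ i, (1 - 2 * ((c i).val : ℤ)) :=
        Finset.sum_congr rfl (fun i _ => hpm i)
      rw [this, Finset.sum_sub_distrib, Finset.sum_const, hcard]
      simp
    have h4 : 4 ∣ hammingNorm c :=
      g24_doubly_even golayPt_card golayCode golayCode_finrank golayCode_hmin golayCode_horth c hc
    have hQ := sum_of_mem x hx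
    rw [hsum, hpm none] at hQ
    obtain ⟨t, ht⟩ := h4
    rw [ht] at hQ
    push_cast at hQ
    rcases val_le_one (c none) with h' | h' <;> rw [h'] at hQ <;> omega

end Cfsg.Agent.S0391
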