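import Cfsg.Statements.S5553
import Mathlib
import Cfsg.Prelude.Def_Spor_Conway
import Cfsg.Agent.S0391
import Cfsg.Agent.Lib.Helper95.GolayConcrete
-- import your own Cfsg.Agent.* helpers here

set_option autoImplicit false
open Cfsg

namespace Cfsg.Agent.S5553

open Cfsg.Agent.Lib.Helper95
open Cfsg.Agent.S0391 (zmod2_cases val_le_one shape_of_mem sum_of_mem sum_val_eq)

lemma even_add_none (x : GolayPt → ℤ) (hx : x ∈ leechLattice) (i : GolayPt) :
    (2 : ℤ) ∣ x i + x none := by
  obtain ⟨a, c, hc, h⟩ := shape_of_mem x hx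
  have h1 := h i
  have h2 := h none
  simp only [Int.ModEq] at *
  omega

/-- The homomorphism `x ↦ ((x_i + x_∞)/2 mod 2)_i` on the lattice. -/
noncomputable def hmap : leechLattice →+ (GolayPt → ZMod 2) where
  toFun x := fun i => (((x.1 i + x.1 none) / 2 : ℤ) : ZMod 2)
  map_zero' := by
    ext i
    simp
  map_add' x y := by
    ext i
    obtain ⟨s, hs⟩ := even_add_none x.1 x.2 i
    obtain ⟨t, ht⟩ := even_add_none y.1 y.2 i
    have : ((x + y : leechLattice).1 i + (x + y : leechLattice).1 none) = 2 * (s + t) := by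
      simp only [AddSubgroup.coe_add, Pi.add_apply]
      linarith
    simp only [Pi.add_apply]
    rw [this, hs, ht]
    simp

lemma hmap_apply (x : leechLattice) (i : GolayPt) :
    hmap x i = (((x.1 i + x.1 none) / 2 : ℤ) : ZMod 2) := rfl

/-- The subgroup of all vectors with `4 ∣ x_i + x_∞`. -/
def B : AddSubgroup (GolayPt → ℤ) where
  carrier := {x | ∀ i, (4 : ℤ) ∣ x i + x none}
  zero_mem' := by intro i; simp
  add_mem' := by
    intro x y hx hy i
    have := dvd_add (hx i) (hy i)
    simp only [Pi.add_apply]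
    have e : x i + y i + (x none + y none) = x i + x none + (y i + y none) := by ring
    rw [e]; exact this
  neg_mem' := by
    intro x hx i
    have := (dvd_neg).mpr (hx i)
    simp only [Pi.neg_apply]
    have e : -x i + -x none = -(x i + x none) := by ring
    rw [e]; exact this

lemma mem_B (x : GolayPt → ℤ) : x ∈ B ↔ ∀ i, (4 : ℤ) ∣ x i + x none := Iff.rfl

lemma ker_eq : (leechLattice ⊓ B).addSubgroupOf leechLattice = hmap.ker := by
  ext x
  rw [AddSubgroup.mem_addSubgroupOf, AddSubgroup.mem_inf, AddMonoidHom.mem_ker, mem_B]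
  constructor
  · rintro ⟨-, h⟩
    ext i
    rw [hmap_apply, Pi.zero_apply, ZMod.intCast_zmod_eq_zero_iff_dvd]
    obtain ⟨s, hs⟩ := h i
    have : (x : GolayPt → ℤ) i + (x : GolayPt → ℤ) none = 2 * (2 * s) := by rw [hs]; ring
    rw [this]
    simp
  · intro h
    refine ⟨x.2, fun i => ?_⟩
    have hi := congrFun h i
    rw [hmap_apply, Pi.zero_apply, ZMod.intCast_zmod_eq_zero_iff_dvd] at hi
    obtain ⟨s, hs⟩ := even_add_none x.1 x.2 i
    have hs' : (x : GolayPt → ℤ) i + (x : GolayPt → ℤ) none = 2 * s := hs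
    rw [hs'] at hi ⊢
    simp only [ne_eq, OfNat.ofNat_ne_zero, not_false_eq_true, Int.mul_ediv_cancel_left] at hi
    obtain ⟨t, ht⟩ := hi
    exact ⟨t, by rw [ht]; push_cast; ring⟩

lemma range_le : hmap.range ≤ golayCode.toAddSubgroup := by
  rintro _ ⟨x, rfl⟩
  obtain ⟨a, c, hc, h⟩ := shape_of_mem x.1 x.2
  have h1 : (1 : GolayPt → ZMod 2) ∈ golayCode := golayCode_one_mem
  have key : hmap x = c + ((a : ZMod 2) + c none) • (1 : GolayPt → ZMod 2) := by
    ext i
    rw [hmap_apply]
    have e : (c + ((a : ZMod 2) + c none) • (1 : GolayPt → ZMod 2)) i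
        = ((a + ((c i).val : ℤ) + ((c none).val : ℤ) : ℤ) : ZMod 2) := by
      simp only [Pi.add_apply, Pi.smul_apply, Pi.one_apply, smul_eq_mul, mul_one]
      push_cast
      rw [ZMod.natCast_zmod_val, ZMod.natCast_zmod_val]
      ring
    rw [e, ZMod.intCast_eq_intCast_iff_dvd_sub]
    have h1 := h i
    have h2 := h none
    simp only [Int.ModEq] at h1 h2
    push_cast
    omega
  rw [key]
  exact golayCode.add_mem hc (golayCode.smul_mem _ h1)

lemma mem_supports_of (w : GolayPt → ZMod 2) (hw : w ∈ golayCode) (p : GolayPt → Prop)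
    [DecidablePred p] (h : ∀ i, w i ≠ 0 ↔ p i) :
    (Finset.univ.filter p) ∈ supports (golayCode : Set (GolayPt → ZMod 2)) := by
  refine ⟨w, hw, ?_⟩
  ext i
  simp [support₂, h i]

lemma lift2_mem (c : GolayPt → ZMod 2) (hc : c ∈ golayCode) :
    (fun i => 2 * ((c i).val : ℤ)) ∈ leechSet := by
  have h1 : (1 : GolayPt → ZMod 2) ∈ golayCode := golayCode_one_mem
  refine ⟨0, fun i => ?_, ?_, fun k => ?_⟩
  · simp only [Int.ModEq]
    omega
  · rw [← Finset.mul_sum, sum_val_eq]
    obtain ⟨t, ht⟩ :=
      g24_doubly_even golayPt_card golayCode golayCode_finrank golayCode_hmin golayCode_horth c hc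
    rw [ht]
    push_cast
    simp only [Int.ModEq]
    omega
  · have hk : k % 4 = 0 ∨ k % 4 = 1 ∨ k % 4 = 2 ∨ k % 4 = 3 := by omega
    rcases hk with hk | hk | hk | hk
    · apply mem_supports_of (1 + c) (golayCode.add_mem h1 hc)
      intro i
      show (1 : ZMod 2) + c i ≠ 0 ↔ 2 * ((c i).val : ℤ) % 4 = k % 4
      rcases zmod2_cases (c i) with h | h <;> rw [h]
      · simp only [add_zero, ZMod.val_zero, Nat.cast_zero, mul_zero]
        constructor
        · intro _; omega
        · intro _; decide
      · simp only [ZMod.val_one, Nat.cast_one, mul_one]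
        constructor
        · intro hh; exact absurd (by decide) hh
        · intro hh; omega
    · apply mem_supports_of 0 golayCode.zero_mem
      intro i
      show (0 : ZMod 2) ≠ 0 ↔ 2 * ((c i).val : ℤ) % 4 = k % 4
      constructor
      · intro hh; exact absurd rfl hh
      · intro hh; rcases val_le_one (c i) with h | h <;> rw [h] at hh <;> omega
    · apply mem_supports_of c hc
      intro i
      show c i ≠ 0 ↔ 2 * ((c i).val : ℤ) % 4 = k % 4
      rcases zmod2_cases (c i) with h | h <;> rw [h]
      · simp only [ZMod.val_zero, Nat.cast_zero, mul_zero]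
        constructor
        · intro hh; exact absurd rfl hh
        · intro hh; omega
      · simp only [ZMod.val_one, Nat.cast_one, mul_one]
        constructor
        · intro _; omega
        · intro _; decide
    · apply mem_supports_of 0 golayCode.zero_mem
      intro i
      show (0 : ZMod 2) ≠ 0 ↔ 2 * ((c i).val : ℤ) % 4 = k % 4
      constructor
      · intro hh; exact absurd rfl hh
      · intro hh; rcases val_le_one (c i) with h | h <;> rw [h] at hh <;> omega

lemma one_mem_range : (1 : GolayPt → ZMod 2) ∈ hmap.range := by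
  refine ⟨Cfsg.Spor.leechV, ?_⟩
  ext i
  rw [hmap_apply]
  cases i with
  | none => simp [Cfsg.Spor.leechV, Cfsg.Spor.vecV]; decide
  | some j => simp [Cfsg.Spor.leechV, Cfsg.Spor.vecV]; decide

lemma shifted_mem_range (c : GolayPt → ZMod 2) (hc : c ∈ golayCode) :
    c + (c none) • (1 : GolayPt → ZMod 2) ∈ hmap.range := by
  refine ⟨⟨_, AddSubgroup.subset_closure (lift2_mem c hc)⟩, ?_⟩
  ext i
  rw [hmap_apply]
  simp only [Pi.add_apply, Pi.smul_apply, Pi.one_apply, smul_eq_mul, mul_one]
  have : 2 * ((c i).val : ℤ) + 2 * ((c none).val : ℤ)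
      = 2 * (((c i).val : ℤ) + ((c none).val : ℤ)) := by ring
  rw [this]
  simp only [ne_eq, OfNat.ofNat_ne_zero, not_false_eq_true, Int.mul_ediv_cancel_left]
  push_cast
  rw [ZMod.natCast_zmod_val, ZMod.natCast_zmod_val]

lemma range_eq : hmap.range = golayCode.toAddSubgroup := by
  apply le_antisymm range_le
  intro c hc
  have hc' : c ∈ golayCode := hc
  have h2 := shifted_mem_range c hc'
  rcases zmod2_cases (c none) with h | h
  · rw [h] at h2
    simpa using h2
  · rw [h] at h2
    have h3 := hmap.range.add_mem h2 one_mem_range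
    have e : c + (1 : ZMod 2) • (1 : GolayPt → ZMod 2) + 1 = c := by
      ext i
      simp only [Pi.add_apply, Pi.smul_apply, Pi.one_apply, smul_eq_mul, mul_one]
      have : (1 : ZMod 2) + 1 = 0 := by decide
      rw [add_assoc, this, add_zero]
    rw [e] at h3
    exact h3

lemma sq_dvd (x : GolayPt → ℤ) (hx : x ∈ leechLattice) (hB : x ∈ B) : (32 : ℤ) ∣ sqNorm x := by
  have hQ := sum_of_mem x hx
  rw [mem_B] at hB
  have hn := hB none
  have hn2 : x none % 4 = 0 ∨ x none % 4 = 2 := by omega
  unfold sqNorm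
  rcases hn2 with hn2 | hn2
  · -- all coordinates divisible by 4
    have h4 : ∀ i, ∃ y : ℤ, x i = 4 * y := by
      intro i
      have := hB i
      exact ⟨x i / 4, by omega⟩
    choose y hy using h4
    have hsum : ∑ i, x i = 4 * ∑ i, y i := by
      rw [Finset.mul_sum]
      exact Finset.sum_congr rfl (fun i _ => hy i)
    have hsq : ∑ i, x i ^ 2 = 16 * ∑ i, y i ^ 2 := by
      rw [Finset.mul_sum]
      exact Finset.sum_congr rfl (fun i _ => by rw [hy i]; ring)
    have hev : (2 : ℤ) ∣ ∑ i, (y i ^ 2 - y i) := by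
      apply Finset.dvd_sum
      intro i _
      have : y i ^ 2 - y i = y i * (y i - 1) := by ring
      rw [this]
      exact (Int.even_mul_pred_self (y i)).two_dvd
    rw [Finset.sum_sub_distrib] at hev
    rw [hsum, hy none] at hQ
    rw [hsq]
    obtain ⟨s, hs⟩ := hev
    obtain ⟨t, ht⟩ := hQ
    have : ∑ i, y i ^ 2 = 2 * (s + t + 2 * y none) := by linarith
    rw [this]
    exact ⟨s + t + 2 * y none, by ring⟩
  · -- all coordinates congruent to 2 modulo 4
    have h4 : ∀ i, ∃ y : ℤ, x i = 4 * y + 2 := by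
      intro i
      have := hB i
      exact ⟨x i / 4, by omega⟩
    choose y hy using h4
    have hcard : (Finset.univ : Finset GolayPt).card = 24 := by
      rw [Finset.card_univ]; exact golayPt_card
    have hsq : ∑ i, x i ^ 2 = 16 * ∑ i, (y i * (y i + 1)) + 96 := by
      have : ∑ i, x i ^ 2 = ∑ i, (16 * (y i * (y i + 1)) + 4) :=
        Finset.sum_congr rfl (fun i _ => by rw [hy i]; ring)
      rw [this, Finset.sum_add_distrib, Finset.sum_const, hcard, Finset.mul_sum]
      simp
    have hev : (2 : ℤ) ∣ ∑ i, (y i * (y i + 1)) := by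
      apply Finset.dvd_sum
      intro i _
      exact (Int.even_mul_succ_self (y i)).two_dvd
    obtain ⟨s, hs⟩ := hev
    rw [hsq, hs]
    exact ⟨s + 3, by ring⟩

/-- The Leech lattice of the definitions has an additive subgroup A containing twice the lattice, of index 2^12 in the lattice, all of whose vectors have squared length divisible by 32: the invariant quadratic form 'squared length over 16 modulo 2' on the lattice modulo twice the lattice (a 24-dimensional space over the field with two elements) vanishes on a 12-dimensional subspace, so it is of plus type. -/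
theorem result : ∃ A : AddSubgroup (Cfsg.GolayPt → ℤ), A ≤ Cfsg.leechLattice ∧ (∀ v ∈ Cfsg.leechLattice, (2 : ℤ) • v ∈ A) ∧ (A.addSubgroupOf Cfsg.leechLattice).index = 2 ^ 12 ∧ ∀ v ∈ A, (32 : ℤ) ∣ Cfsg.sqNorm v := by
  refine ⟨leechLattice ⊓ B, inf_le_left, ?_, ?_, ?_⟩
  · intro v hv
    refine AddSubgroup.mem_inf.mpr ⟨leechLattice.zsmul_mem hv 2, ?_⟩
    rw [mem_B]
    intro i
    obtain ⟨s, hs⟩ := even_add_none v hv i
    refine ⟨s, ?_⟩
    simp only [Pi.smul_apply, smul_eq_mul]
    linarith
  · rw [ker_eq, AddSubgroup.index_ker, range_eq]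
    have := golayCode_card
    have e : Nat.card golayCode.toAddSubgroup = Nat.card golayCode := rfl
    rw [e, this]
    norm_num
  · rintro v ⟨hv, hB⟩
    exact sq_dvd v hv hB

end Cfsg.Agent.S5553
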