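import Cfsg.Statements.S0393
import Mathlib
import Cfsg.Agent.S0391
import Cfsg.Agent.S5553
import Cfsg.Agent.Lib.Helper95.GolayConcrete
import Cfsg.Agent.Lib.Helper94.LeechMore
-- import your own Cfsg.Agent.* helpers here

set_option autoImplicit false
open Cfsg

namespace Cfsg.Agent.S0393

open Cfsg.Agent.Lib.Helper95
open Cfsg.Agent.Lib.Helper94
open Cfsg.Agent.S0391 (zmod2_cases val_le_one shape_of_mem sum_of_mem sum_val_eq)

lemma card_univ24 : (Finset.univ : Finset GolayPt).card = 24 := by
  rw [Finset.card_univ]; exact golayPt_card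

/-- `Θ y = 2y − y_∞·1`. -/
def Theta : (GolayPt → ℤ) →+ (GolayPt → ℤ) where
  toFun y := fun i => 2 * y i - y none
  map_zero' := by ext i; simp
  map_add' y z := by ext i; simp only [Pi.add_apply]; ring

lemma Theta_apply (y : GolayPt → ℤ) (i : GolayPt) : Theta y i = 2 * y i - y none := rfl

lemma Theta_inj : Function.Injective Theta := by
  intro y z h
  have hn := congrFun h none
  rw [Theta_apply, Theta_apply] at hn
  have hn' : y none = z none := by linarith
  ext i
  have hi := congrFun h i
  rw [Theta_apply, Theta_apply] at hi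
  linarith

/-- Reduction modulo 2. -/
def red2 : (GolayPt → ℤ) →+ (GolayPt → ZMod 2) where
  toFun y := fun i => (y i : ZMod 2)
  map_zero' := by ext i; simp
  map_add' y z := by ext i; simp

lemma red2_apply (y : GolayPt → ℤ) (i : GolayPt) : red2 y i = (y i : ZMod 2) := rfl

lemma red2_surj : Function.Surjective red2 := by
  intro w
  refine ⟨fun i => ((w i).val : ℤ), ?_⟩
  ext i
  rw [red2_apply]
  simp

/-- The functional `y ↦ Σ y − 2 y_∞` modulo 4. -/
def rho : (GolayPt → ℤ) →+ ZMod 4 where
  toFun y := ((∑ i, y i - 2 * y none : ℤ) : ZMod 4)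
  map_zero' := by simp
  map_add' y z := by
    simp only [Pi.add_apply, Finset.sum_add_distrib]
    push_cast
    ring

lemma rho_apply (y : GolayPt → ℤ) : rho y = ((∑ i, y i - 2 * y none : ℤ) : ZMod 4) := rfl

/-- Vectors reducing to a code word modulo 2. -/
def L1 : AddSubgroup (GolayPt → ℤ) := golayCode.toAddSubgroup.comap red2

lemma mem_L1 (y : GolayPt → ℤ) : y ∈ L1 ↔ red2 y ∈ golayCode := Iff.rfl

/-- The preimage of the lattice under `Θ`. -/
def Lam' : AddSubgroup (GolayPt → ℤ) := L1 ⊓ rho.ker

lemma two_dvd_sub_val (n : ℤ) : (2 : ℤ) ∣ n - ((((n : ZMod 2)).val : ℕ) : ℤ) := by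
  apply (ZMod.intCast_zmod_eq_zero_iff_dvd _ 2).mp
  push_cast
  rw [ZMod.natCast_zmod_val, sub_self]

lemma code_index : golayCode.toAddSubgroup.index = 2 ^ 12 := by
  have h := AddSubgroup.card_mul_index golayCode.toAddSubgroup
  have e : Nat.card golayCode.toAddSubgroup = Nat.card golayCode := rfl
  rw [e, golayCode_card] at h
  have h2 : Nat.card (GolayPt → ZMod 2) = 2 ^ 24 := by
    rw [Nat.card_eq_fintype_card, Fintype.card_fun, golayPt_card, ZMod.card]
  rw [h2] at h
  have : 4096 * golayCode.toAddSubgroup.index = 4096 * 2 ^ 12 := by rw [h]; norm_num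
  exact Nat.eq_of_mul_eq_mul_left (by norm_num) this

lemma L1_index : L1.index = 2 ^ 12 := by
  unfold L1
  rw [AddSubgroup.index_comap_of_surjective _ red2_surj, code_index]

/-- On `L1` the coordinate sum is even. -/
lemma even_sum_of_mem_L1 (y : GolayPt → ℤ) (hy : y ∈ L1) : (2 : ℤ) ∣ ∑ i, y i := by
  rw [mem_L1] at hy
  have hterm : ∀ i, (2 : ℤ) ∣ y i - ((red2 y i).val : ℤ) := fun i => two_dvd_sub_val (y i)
  have h1 : (2 : ℤ) ∣ ∑ i, (y i - ((red2 y i).val : ℤ)) := Finset.dvd_sum (fun i _ => hterm i)
  rw [Finset.sum_sub_distrib, sum_val_eq] at h1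
  obtain ⟨s, hs⟩ :=
    g24_doubly_even golayPt_card golayCode golayCode_finrank golayCode_hmin golayCode_horth _ hy
  obtain ⟨r, hr⟩ := h1
  rw [hs] at hr
  push_cast at hr
  exact ⟨r + 2 * s, by linarith⟩

lemma map_rho_L1 : L1.map rho = AddSubgroup.zmultiples (2 : ZMod 4) := by
  apply le_antisymm
  · rintro _ ⟨y, hy, rfl⟩
    obtain ⟨s, hs⟩ := even_sum_of_mem_L1 y hy
    rw [rho_apply, hs, AddSubgroup.mem_zmultiples_iff]
    refine ⟨s - y none, ?_⟩
    push_cast
    simp only [zsmul_eq_mul]
    push_cast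
    ring
  · rw [AddSubgroup.zmultiples_le]
    refine ⟨fun i => if i = some 0 then 2 else 0, ?_, ?_⟩
    · rw [SetLike.mem_coe, mem_L1]
      have : red2 (fun i => if i = some 0 then 2 else 0) = 0 := by
        ext i
        rw [red2_apply]
        split_ifs
        · simp only [Pi.zero_apply, Int.cast_ofNat]; decide
        · simp
      rw [this]
      exact golayCode.zero_mem
    · rw [rho_apply, Finset.sum_ite_eq' Finset.univ (some 0) (fun _ => (2 : ℤ))]
      simp

lemma card_zmultiples_two : Nat.card (AddSubgroup.zmultiples (2 : ZMod 4)) = 2 := by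
  rw [Nat.card_zmultiples]
  have : addOrderOf (2 : ZMod 4) = 2 := by
    apply addOrderOf_eq_prime
    · decide
    · decide
  exact this

lemma Lam'_index : Lam'.index = 2 ^ 13 := by
  have h : Lam'.relIndex L1 * L1.index = Lam'.index :=
    AddSubgroup.relIndex_mul_index (inf_le_left : Lam' ≤ L1)
  have h2 : Lam'.relIndex L1 = 2 := by
    unfold Lam'
    rw [AddSubgroup.inf_relIndex_left, AddSubgroup.relIndex_ker, map_rho_L1, card_zmultiples_two]
  rw [h2, L1_index] at h
  rw [← h]
  norm_num

/-- Vectors all of whose coordinates have the parity of the coordinate at `∞`, via a map. -/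
def qmap : (GolayPt → ℤ) →+ (ZMod 23 → ZMod 2) where
  toFun x := fun j => ((x (some j) - x none : ℤ) : ZMod 2)
  map_zero' := by ext j; simp
  map_add' x y := by
    ext j
    simp only [Pi.add_apply]
    push_cast
    ring

lemma qmap_apply (x : GolayPt → ℤ) (j : ZMod 23) :
    qmap x j = ((x (some j) - x none : ℤ) : ZMod 2) := rfl

lemma qmap_surj : Function.Surjective qmap := by
  intro w
  refine ⟨fun i => match i with | none => 0 | some j => ((w j).val : ℤ), ?_⟩
  ext j
  rw [qmap_apply]
  simp

lemma range_Theta : Theta.range = qmap.ker := by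
  ext x
  rw [AddMonoidHom.mem_range, AddMonoidHom.mem_ker]
  constructor
  · rintro ⟨y, rfl⟩
    ext j
    rw [qmap_apply, Theta_apply, Theta_apply, Pi.zero_apply, ZMod.intCast_zmod_eq_zero_iff_dvd]
    exact ⟨y (some j) - y none, by ring⟩
  · intro h
    have hev : ∀ i, (2 : ℤ) ∣ x i + x none := by
      intro i
      cases i with
      | none => exact ⟨x none, by ring⟩
      | some j =>
        have := congrFun h j
        rw [qmap_apply, Pi.zero_apply, ZMod.intCast_zmod_eq_zero_iff_dvd] at this
        obtain ⟨s, hs⟩ := this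
        simp only [Nat.cast_ofNat] at hs
        exact ⟨s + x none, by linarith⟩
    refine ⟨fun i => (x i + x none) / 2, ?_⟩
    ext i
    rw [Theta_apply]
    obtain ⟨s, hs⟩ := hev i
    obtain ⟨t, ht⟩ := hev none
    show 2 * ((x i + x none) / 2) - (x none + x none) / 2 = x i
    rw [hs, ht]
    simp only [ne_eq, OfNat.ofNat_ne_zero, not_false_eq_true, Int.mul_ediv_cancel_left]
    linarith

lemma range_Theta_index : Theta.range.index = 2 ^ 23 := by
  rw [range_Theta, AddSubgroup.index_ker, AddMonoidHom.range_eq_top.mpr qmap_surj]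
  rw [Nat.card_congr (AddSubgroup.topEquiv (G := ZMod 23 → ZMod 2)).toEquiv,
    Nat.card_eq_fintype_card, Fintype.card_fun, ZMod.card, ZMod.card]

lemma map_Theta : Lam'.map Theta = leechLattice := by
  ext x
  rw [AddSubgroup.mem_map]
  constructor
  · rintro ⟨y, hy, rfl⟩
    obtain ⟨hy1, hy2⟩ := AddSubgroup.mem_inf.mp hy
    rw [mem_L1] at hy1
    rw [AddMonoidHom.mem_ker, rho_apply, ZMod.intCast_zmod_eq_zero_iff_dvd] at hy2
    rw [mem_leechLattice_iff]
    refine ⟨-(y none), red2 y, hy1, fun i => ?_, ?_⟩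
    · rw [Theta_apply]
      have h2 : (2 : ℤ) ∣ y i - ((red2 y i).val : ℤ) := two_dvd_sub_val (y i)
      obtain ⟨s, hs⟩ := h2
      simp only [Int.ModEq]
      omega
    · have hsum : ∑ i, Theta y i = 2 * ∑ i, y i - 24 * y none := by
        simp only [Theta_apply]
        rw [Finset.sum_sub_distrib, ← Finset.mul_sum, Finset.sum_const, card_univ24]
        simp
      rw [hsum]
      obtain ⟨s, hs⟩ := hy2
      simp only [Int.ModEq]
      push_cast at hs
      omega
  · intro hx
    have hev := Cfsg.Agent.S5553.even_add_none x hx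
    refine ⟨fun i => (x i + x none) / 2, AddSubgroup.mem_inf.mpr ⟨?_, ?_⟩, ?_⟩
    · rw [mem_L1]
      have := Cfsg.Agent.S5553.range_le ⟨⟨x, hx⟩, rfl⟩
      exact this
    · rw [AddMonoidHom.mem_ker, rho_apply, ZMod.intCast_zmod_eq_zero_iff_dvd]
      have hQ := sum_of_mem x hx
      have h2 : 2 * ∑ i, (x i + x none) / 2 = ∑ i, x i + 24 * x none := by
        rw [Finset.mul_sum]
        have : ∀ i, 2 * ((x i + x none) / 2) = x i + x none := by
          intro i
          obtain ⟨s, hs⟩ := hev i
          rw [hs]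
          simp
        simp only [this]
        rw [Finset.sum_add_distrib, Finset.sum_const, card_univ24]
        simp
      obtain ⟨t, ht⟩ := hev none
      have h3 : (x none + x none) / 2 = x none := by
        have : x none + x none = 2 * x none := by ring
        rw [this]; simp
      show (4 : ℤ) ∣ ∑ i, (x i + x none) / 2 - 2 * ((x none + x none) / 2)
      rw [h3]
      obtain ⟨q, hq⟩ := hQ
      omega
    · ext i
      rw [Theta_apply]
      obtain ⟨s, hs⟩ := hev i
      obtain ⟨t, ht⟩ := hev none
      show 2 * ((x i + x none) / 2) - (x none + x none) / 2 = x i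
      rw [hs, ht]
      simp only [ne_eq, OfNat.ofNat_ne_zero, not_false_eq_true, Int.mul_ediv_cancel_left]
      linarith

/-- The lattice has index 2^36 in ℤ^24 (unimodular at scale 1/8). -/
theorem result : Cfsg.leechLattice.index = 2 ^ 36 := by
  have h := AddSubgroup.index_map_of_injective (H := Lam') Theta_inj
  rw [map_Theta, Lam'_index, range_Theta_index] at h
  rw [h]
  norm_num

end Cfsg.Agent.S0393
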