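import Cfsg.Statements.S5551
import Cfsg.Agent.S0391
import Cfsg.Agent.Lib.Helper94.LeechShort

set_option autoImplicit false
open Cfsg

namespace Cfsg.Agent.S5551

theorem result (v w : Cfsg.GolayPt → ℤ) (hv : v ∈ Cfsg.leechLattice) (hw : w ∈ Cfsg.leechLattice) (hv0 : v ≠ 0) (hw0 : w ≠ 0) (hvn : Cfsg.sqNorm v ≤ 64) (hwn : Cfsg.sqNorm w ≤ 64) (hc : ∃ z ∈ Cfsg.leechLattice, v - w = 2 • z) : Cfsg.sqNorm v = Cfsg.sqNorm w ∧ (Cfsg.sqNorm v < 64 → w = v ∨ w = -v) := by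
  by_cases h1 : v = w
  · subst h1
    exact ⟨rfl, fun _ => Or.inl rfl⟩
  by_cases h2 : v = -w
  · subst h2
    refine ⟨?_, fun _ => Or.inr (by simp)⟩
    unfold Cfsg.sqNorm
    apply Finset.sum_congr rfl
    intro i _
    simp
  · obtain ⟨h64v, h64w, -⟩ :=
      Cfsg.Agent.Lib.Helper94.short_congruent Cfsg.Agent.S0391.result v w hw h1 h2 hvn hwn hc
    refine ⟨by rw [h64v, h64w], fun hlt => ?_⟩
    omega

end Cfsg.Agent.S5551
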