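import Cfsg.Statements.S5592
import Cfsg.Agent.S0391
import Cfsg.Agent.Lib.Helper94.LeechShort

set_option autoImplicit false
open Cfsg

namespace Cfsg.Agent.S5592

theorem result (x y : Cfsg.GolayPt → ℤ) (hx : x ∈ Cfsg.leechLattice) (hy : y ∈ Cfsg.leechLattice) (hxy : x ≠ y) (hxn : Cfsg.sqNorm x ≤ 64) (hyn : Cfsg.sqNorm y ≤ 64) (hc : (∃ z ∈ Cfsg.leechLattice, x - y = 2 • z)) :
    x = -y ∨ (Cfsg.sqNorm x = 64 ∧ Cfsg.sqNorm y = 64 ∧ Cfsg.dotInt x y = 0) := by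
  by_cases h : x = -y
  · exact Or.inl h
  · exact Or.inr (Cfsg.Agent.Lib.Helper94.short_congruent Cfsg.Agent.S0391.result x y hy hxy h hxn hyn hc)

end Cfsg.Agent.S5592
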