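import Cfsg.Statements.S0392
import Mathlib
import Cfsg.Agent.S0391
import Cfsg.Agent.Lib.Helper95.GolayConcrete
-- import your own Cfsg.Agent.* helpers here

set_option autoImplicit false
open Cfsg

namespace Cfsg.Agent.S0392

open Cfsg.Agent.Lib.Helper95
open Cfsg.Agent.S0391 (zmod2_cases val_le_one shape_of_mem shape_normal sum_of_mem sum_val_eq)

lemma card_univ24 : (Finset.univ : Finset GolayPt).card = 24 := by
  rw [Finset.card_univ]; exact golayPt_card

/-- Sum of squares of every lattice vector is divisible by 16 (even lattice at scale 1/8). -/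
theorem result (x : Cfsg.GolayPt → ℤ) (hx : x ∈ Cfsg.leechLattice) : (16 : ℤ) ∣ Cfsg.sqNorm x := by
  have hQ := sum_of_mem x hx
  obtain ⟨c, hc, h | h⟩ := shape_normal x (shape_of_mem x hx)
  · -- even case
    have hterm : ∀ i, (16 : ℤ) ∣ x i ^ 2 - 4 * ((c i).val : ℤ) := by
      intro i
      obtain ⟨t, ht⟩ := (h i).symm.dvd
      have hx : x i = 2 * ((c i).val : ℤ) + 4 * t := by linarith
      rcases val_le_one (c i) with h' | h' <;> rw [h'] at hx ⊢
      · exact ⟨t ^ 2, by rw [hx]; ring⟩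
      · exact ⟨t ^ 2 + t, by rw [hx]; ring⟩
    have h1 : (16 : ℤ) ∣ ∑ i, (x i ^ 2 - 4 * ((c i).val : ℤ)) :=
      Finset.dvd_sum (fun i _ => hterm i)
    rw [Finset.sum_sub_distrib, ← Finset.mul_sum, sum_val_eq] at h1
    obtain ⟨s, hs⟩ :=
      g24_doubly_even golayPt_card golayCode golayCode_finrank golayCode_hmin golayCode_horth c hc
    obtain ⟨r, hr⟩ := h1
    unfold sqNorm
    rw [hs] at hr
    push_cast at hr
    exact ⟨r + s, by linarith⟩
  · -- odd case
    have ht : ∀ i, ∃ t : ℤ, x i = 1 + 2 * ((c i).val : ℤ) + 4 * t := by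
      intro i
      obtain ⟨t, ht⟩ := (h i).symm.dvd
      exact ⟨t, by linarith⟩
    choose t ht using ht
    have hterm : ∀ i, (16 : ℤ) ∣ x i ^ 2 - 1 - 8 * ((c i).val : ℤ) - 8 * t i := by
      intro i
      have hx := ht i
      rcases val_le_one (c i) with h' | h' <;> rw [h'] at hx ⊢
      · exact ⟨t i ^ 2, by rw [hx]; ring⟩
      · exact ⟨t i ^ 2 + t i, by rw [hx]; ring⟩
    have h1 : (16 : ℤ) ∣ ∑ i, (x i ^ 2 - 1 - 8 * ((c i).val : ℤ) - 8 * t i) :=
      Finset.dvd_sum (fun i _ => hterm i)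
    rw [Finset.sum_sub_distrib, Finset.sum_sub_distrib, Finset.sum_sub_distrib,
      ← Finset.mul_sum, ← Finset.mul_sum, sum_val_eq, Finset.sum_const, card_univ24] at h1
    have hsum : ∑ i, x i = 24 + 2 * (hammingNorm c : ℤ) + 4 * ∑ i, t i := by
      rw [← sum_val_eq, Finset.mul_sum, Finset.mul_sum]
      have : ∑ i, x i = ∑ i, (1 + 2 * ((c i).val : ℤ) + 4 * t i) :=
        Finset.sum_congr rfl (fun i _ => ht i)
      rw [this, Finset.sum_add_distrib, Finset.sum_add_distrib, Finset.sum_const, card_univ24]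
      simp
    obtain ⟨s, hs⟩ :=
      g24_doubly_even golayPt_card golayCode golayCode_finrank golayCode_hmin golayCode_horth c hc
    rw [hsum, ht none, hs] at hQ
    rw [hs] at h1
    push_cast at hQ h1
    obtain ⟨r, hr⟩ := h1
    obtain ⟨q, hq⟩ := hQ
    unfold sqNorm
    simp only [nsmul_eq_mul, Nat.cast_ofNat, mul_one] at hr
    have hodd : ∃ k, ∑ i, t i = 2 * k + 1 := by
      rcases val_le_one (c none) with h' | h' <;> rw [h'] at hq
      · exact ⟨q - s + 2 * t none - 3, by linarith⟩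
      · exact ⟨q - s + 2 * t none - 2, by linarith⟩
    obtain ⟨k, hk⟩ := hodd
    rw [hk] at hr
    exact ⟨r + 2 + 2 * s + k, by linarith⟩

end Cfsg.Agent.S0392
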