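import Cfsg.Statements.S0394
import Cfsg.Agent.Lib.Helper94.LeechCount

set_option autoImplicit false
open Cfsg

namespace Cfsg.Agent.S0394

open Cfsg.Agent.Lib.Helper95
open Cfsg.Agent.Lib.Helper94
open Cfsg.Agent.S0391 (zmod2_cases val_le_one shape_of_mem shape_normal sum_of_mem sum_val_eq
  sq_ge_of_dvd)

/-- The vectors of shape `(∓3, ±1^23)`. -/
noncomputable def I1 : Finset (GolayPt → ℤ) :=
  ((oneVecs 1 (-3)) ×ˢ codeAll).image fun p => signVec p.2 p.1

/-- The vectors of shape `(±2^8, 0^16)`. -/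
noncomputable def I2 : Finset (GolayPt → ℤ) :=
  ((codeSupps 8).sigma fun s => s.powerset.filter fun t => Even t.card).image
    fun p : (Σ _ : Finset GolayPt, Finset GolayPt) => pmVec 2 p.1 p.2

/-- The vectors of shape `(±4^2, 0^22)`. -/
@[irreducible] noncomputable def I3 : Finset (GolayPt → ℤ) :=
  (((Finset.univ : Finset GolayPt).powersetCard 2).sigma
      fun s => s.powerset.filter fun _ => True).image
    fun p : (Σ _ : Finset GolayPt, Finset GolayPt) => pmVec 4 p.1 p.2

lemma card_I1 : I1.card = 98304 := by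
  unfold I1
  rw [card_image_signVec, card_oneVecs 1 (by norm_num)]
  · norm_num
  · intro u hu i
    obtain ⟨s, -, rfl⟩ := (mem_oneVecs 1 (-3) u).mp hu
    exact oneVec_mod s (by decide) i

lemma card_I2 : I2.card = 97152 := by
  unfold I2
  rw [card_image_pmVec (by norm_num) _ _ (2 ^ 7), card_codeSupps, card_codeWords_eight]
  · norm_num
  intro s hs
  have h8 := card_of_mem_codeSupps hs
  have hne : s.Nonempty := by
    rw [← Finset.card_pos, h8]; norm_num
  have := (card_even_odd_subsets s hne).1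
  rw [h8] at this
  exact this

lemma card_I3 : I3.card = 1104 := by
  unfold I3
  rw [card_image_pmVec (by norm_num) _ _ 4, Finset.card_powersetCard, Finset.card_univ,
    golayPt_card]
  · rfl
  · intro s hs
    rw [Finset.filter_true_of_mem (fun _ _ => trivial), Finset.card_powerset,
      (Finset.mem_powersetCard.mp hs).2]
    rfl

lemma mem_I1 (x : GolayPt → ℤ) :
    x ∈ I1 ↔ ∃ s : Finset GolayPt, s.card = 1 ∧ ∃ c ∈ golayCode, x = signVec c (oneVec s (-3)) := by
  unfold I1
  rw [mem_image_signVec]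
  constructor
  · rintro ⟨u, hu, c, hc, rfl⟩
    obtain ⟨s, hs, rfl⟩ := (mem_oneVecs 1 (-3) u).mp hu
    exact ⟨s, hs, c, hc, rfl⟩
  · rintro ⟨s, hs, c, hc, rfl⟩
    exact ⟨_, (mem_oneVecs 1 (-3) _).mpr ⟨s, hs, rfl⟩, c, hc, rfl⟩

lemma mem_I2 (x : GolayPt → ℤ) :
    x ∈ I2 ↔ ∃ s t, s ∈ codeSupps 8 ∧ t ⊆ s ∧ Even t.card ∧ x = pmVec 2 s t := by
  unfold I2
  rw [mem_image_pmVec]

lemma mem_I3 (x : GolayPt → ℤ) :
    x ∈ I3 ↔ ∃ s t, s ∈ (Finset.univ : Finset GolayPt).powersetCard 2 ∧ t ⊆ s ∧ True ∧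
      x = pmVec 4 s t := by
  unfold I3
  rw [mem_image_pmVec]

/-! ### The three families lie in the lattice and have sum of squares 32 -/

lemma I1_sub (x : GolayPt → ℤ) (hx : x ∈ I1) : x ∈ leechLattice ∧ sqNorm x = 32 := by
  obtain ⟨s, hs, c, hc, rfl⟩ := (mem_I1 x).mp hx
  constructor
  · apply signVec_mem hc
    apply mem_of_one_mod_four _ (fun i => oneVec_mod s (by decide) i)
    rw [sum_oneVec, hs]
    decide
  · rw [sqNorm_signVec, sqNorm_oneVec, hs]
    norm_num

lemma I2_sub (x : GolayPt → ℤ) (hx : x ∈ I2) : x ∈ leechLattice ∧ sqNorm x = 32 := by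
  obtain ⟨s, t, hs, hts, ht, rfl⟩ := (mem_I2 x).mp hx
  obtain ⟨c, hc, hw, rfl⟩ := (mem_codeSupps 8 s).mp hs
  have hcard : (bsupp c).card = 8 := by rw [← hammingNorm_eq_card_bsupp, hw]
  constructor
  · apply pmVec_two_mem hc hts
    rw [hcard]
    obtain ⟨k, hk⟩ := ht
    rw [hk]
    push_cast
    omega
  · rw [sqNorm_pmVec 2 hts, hcard]
    norm_num

lemma I3_sub (x : GolayPt → ℤ) (hx : x ∈ I3) : x ∈ leechLattice ∧ sqNorm x = 32 := by
  obtain ⟨s, t, hs, hts, -, rfl⟩ := (mem_I3 x).mp hx
  have hcard := (Finset.mem_powersetCard.mp hs).2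
  constructor
  · apply pmVec_four_mem hts
    rw [hcard]; decide
  · rw [sqNorm_pmVec 4 hts, hcard]
    norm_num

/-! ### Classification -/

lemma classify_odd (x : GolayPt → ℤ) (hx : x ∈ leechLattice) (hn : sqNorm x = 32)
    (c : GolayPt → ZMod 2) (hc : c ∈ golayCode)
    (h : ∀ i, x i ≡ 1 + 2 * ((c i).val : ℤ) [ZMOD 4]) : x ∈ I1 := by
  obtain ⟨u, hu, -, hnu, rfl⟩ := odd_decomp x hx c hc h
  rw [hn] at hnu
  obtain ⟨hvals, hsum⟩ := base_vals u hu (by rw [hnu]; norm_num)
  rw [hnu] at hsum
  set s3 := Finset.univ.filter fun i => u i = -3 with hs3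
  set s5 := Finset.univ.filter fun i => u i = 5 with hs5
  have h3 : s3.card = 1 := by omega
  have h5 : s5.card = 0 := by omega
  rw [mem_I1]
  refine ⟨s3, h3, c, hc, ?_⟩
  congr 1
  ext i
  rw [oneVec_apply]
  have hi5 : u i ≠ 5 := by
    intro h'
    have : i ∈ s5 := by rw [hs5]; simp [h']
    rw [Finset.card_eq_zero.mp h5] at this
    simp at this
  by_cases hi : u i = -3
  · rw [if_pos (by rw [hs3]; simp [hi]), hi]
  · rw [if_neg (by rw [hs3]; simp [hi])]
    rcases hvals i with h' | h' | h'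
    · exact h'
    · exact absurd h' hi
    · exact absurd h' hi5

lemma classify_zero (x : GolayPt → ℤ) (hn : sqNorm x = 32) (h4 : ∀ i, (4 : ℤ) ∣ x i) :
    x ∈ I3 := by
  have hvals : ∀ i, x i = 0 ∨ x i = 4 ∨ x i = -4 := by
    intro j
    have h1 : x j ^ 2 ≤ ∑ i, x i ^ 2 :=
      Finset.single_le_sum (f := fun i => x i ^ 2) (fun i _ => sq_nonneg _) (Finset.mem_univ j)
    unfold sqNorm at hn
    rw [hn] at h1
    obtain ⟨z, hz⟩ := h4 j
    have hlo : -2 < z := by nlinarith
    have hhi : z < 2 := by nlinarith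
    omega
  obtain ⟨hx, hts⟩ := eq_pmVec_of_vals (a := 4) (by norm_num) x hvals
  rw [mem_I3]
  refine ⟨_, _, ?_, hts, trivial, hx⟩
  rw [Finset.mem_powersetCard]
  refine ⟨Finset.subset_univ _, ?_⟩
  have := sqNorm_pmVec 4 hts
  rw [← hx, hn] at this
  omega

lemma classify_code (x : GolayPt → ℤ) (hx : x ∈ leechLattice) (hn : sqNorm x = 32)
    (c : GolayPt → ZMod 2) (hc : c ∈ golayCode) (hc0 : c ≠ 0)
    (h : ∀ i, x i ≡ 2 * ((c i).val : ℤ) [ZMOD 4]) : x ∈ I2 := by
  have hw : 8 ≤ hammingNorm c := golayCode_hmin c hc hc0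
  have hterm : ∀ i, (if c i ≠ 0 then (4 : ℤ) else 0) ≤ x i ^ 2 := by
    intro i
    split_ifs with hci
    · have hci1 : c i = 1 := by
        rcases zmod2_cases (c i) with h' | h'
        · exact absurd h' hci
        · exact h'
      have := h i
      rw [hci1] at this
      simp only [ZMod.val_one, Nat.cast_one, mul_one] at this
      have h2 : (2 : ℤ) ∣ x i := by
        simp only [Int.ModEq] at this
        omega
      have hne : x i ≠ 0 := by
        intro h0'
        rw [h0'] at this
        simp only [Int.ModEq] at this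
        omega
      have := sq_ge_of_dvd 2 (x i) (by norm_num) h2 hne
      linarith
    · exact sq_nonneg _
  have hcount : ∑ i, (if c i ≠ 0 then (4 : ℤ) else 0) = 4 * (hammingNorm c : ℤ) := by
    unfold hammingNorm
    rw [← Finset.sum_filter, Finset.sum_const]
    simp [mul_comm]
  have hle : ∑ i, (if c i ≠ 0 then (4 : ℤ) else 0) ≤ ∑ i, x i ^ 2 :=
    Finset.sum_le_sum (fun i _ => hterm i)
  have hn' : ∑ i, x i ^ 2 = 32 := hn
  have hw' : (8 : ℤ) ≤ (hammingNorm c : ℤ) := by exact_mod_cast hw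
  have hwt : hammingNorm c = 8 := by
    rw [hcount, hn'] at hle
    omega
  have heq : ∑ i, (if c i ≠ 0 then (4 : ℤ) else 0) = ∑ i, x i ^ 2 := by
    rw [hcount, hn', hwt]; norm_num
  have hall := (Finset.sum_eq_sum_iff_of_le (fun i _ => hterm i)).mp heq
  have hvals : ∀ i, x i = 0 ∨ x i = 2 ∨ x i = -2 := by
    intro i
    have := hall i (Finset.mem_univ i)
    split_ifs at this with hci
    · have h2 : (x i - 2) * (x i + 2) = 0 := by linear_combination -this
      rcases mul_eq_zero.mp h2 with h' | h'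
      · right; left; omega
      · right; right; omega
    · left
      exact pow_eq_zero_iff (two_ne_zero) |>.mp this.symm
  obtain ⟨hxp, hts⟩ := eq_pmVec_of_vals (a := 2) (by norm_num) x hvals
  have hsupp : (Finset.univ.filter fun i => x i ≠ 0) = bsupp c := by
    ext i
    simp only [Finset.mem_filter, Finset.mem_univ, true_and, bsupp]
    have := hall i (Finset.mem_univ i)
    split_ifs at this with hci
    · constructor
      · intro _; exact hci
      · intro _ h0; rw [h0] at this; norm_num at this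
    · constructor
      · intro h0; exfalso; apply h0
        exact pow_eq_zero_iff (two_ne_zero) |>.mp this.symm
      · intro h'; exact absurd h' hci
  rw [mem_I2]
  refine ⟨_, _, ?_, hts, ?_, hxp⟩
  · rw [hsupp, mem_codeSupps]
    exact ⟨c, hc, hwt, rfl⟩
  · have hsum := sum_pmVec 2 hts
    rw [← hxp, hsupp, ← hammingNorm_eq_card_bsupp, hwt] at hsum
    have hQ := sum_of_mem x hx
    rw [hsum] at hQ
    obtain ⟨k, hk⟩ := hQ
    rcases hvals none with h' | h' | h' <;> rw [h'] at hk <;>
      · rw [Nat.even_iff]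
        push_cast at hk
        omega

/-- Exactly 196560 lattice vectors have sum of squares 32. -/
theorem result : {x : Cfsg.GolayPt → ℤ | x ∈ Cfsg.leechLattice ∧ Cfsg.sqNorm x = 32}.ncard = 196560 := by
  classical
  have hS : {x : Cfsg.GolayPt → ℤ | x ∈ Cfsg.leechLattice ∧ Cfsg.sqNorm x = 32}
      = ↑(I1 ∪ I2 ∪ I3) := by
    ext x
    simp only [Set.mem_ofPred_eq, Finset.coe_union, Set.mem_union, Finset.mem_coe]
    constructor
    · rintro ⟨hx, hn⟩
      obtain ⟨c, hc, h | h⟩ := shape_normal x (shape_of_mem x hx)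
      · by_cases hc0 : c = 0
        · right
          apply classify_zero x hn
          intro i
          have := h i
          rw [hc0] at this
          simp only [Pi.zero_apply, ZMod.val_zero, Nat.cast_zero, mul_zero] at this
          exact Int.modEq_zero_iff_dvd.mp this
        · left; right
          exact classify_code x hx hn c hc hc0 h
      · left; left
        exact classify_odd x hx hn c hc h
    · rintro ((h | h) | h)
      · exact I1_sub x h
      · exact I2_sub x h
      · exact I3_sub x h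
  have hodd1 : ∀ x ∈ I1, ¬ (2 : ℤ) ∣ x none := by
    intro x hx
    obtain ⟨s, hs, c, hc, rfl⟩ := (mem_I1 x).mp hx
    rw [signVec_apply, oneVec_apply]
    unfold sgnOf
    rcases val_le_one (c none) with h' | h' <;> rw [h'] <;> split_ifs <;> omega
  have heven2 : ∀ x ∈ I2, ∀ i, x i = 0 ∨ x i = 2 ∨ x i = -2 := by
    intro x hx i
    obtain ⟨s, t, hs, hts, ht, rfl⟩ := (mem_I2 x).mp hx
    rw [pmVec_apply]
    split_ifs <;> simp
  have heven3 : ∀ x ∈ I3, (∀ i, x i = 0 ∨ x i = 4 ∨ x i = -4) ∧ ∃ i, x i ≠ 0 := by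
    intro x hx
    obtain ⟨s, t, hs, hts, -, rfl⟩ := (mem_I3 x).mp hx
    constructor
    · intro i
      rw [pmVec_apply]
      split_ifs <;> simp
    · have hcard := (Finset.mem_powersetCard.mp hs).2
      have hne : s.Nonempty := by rw [← Finset.card_pos, hcard]; norm_num
      obtain ⟨i, hi⟩ := hne
      refine ⟨i, ?_⟩
      rw [pmVec_apply]
      split_ifs <;> norm_num
  have hd12 : Disjoint I1 I2 := by
    rw [Finset.disjoint_left]
    intro x h1 h2
    apply hodd1 x h1
    rcases heven2 x h2 none with h | h | h <;> rw [h] <;> norm_num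
  have hd123 : Disjoint (I1 ∪ I2) I3 := by
    rw [Finset.disjoint_left]
    intro x h12 h3
    obtain ⟨hv, i, hi⟩ := heven3 x h3
    rcases Finset.mem_union.mp h12 with h1 | h2
    · apply hodd1 x h1
      rcases hv none with h | h | h <;> rw [h] <;> norm_num
    · rcases heven2 x h2 i with h | h | h <;> rcases hv i with h' | h' | h' <;> omega
  rw [hS, Set.ncard_coe_finset, Finset.card_union_of_disjoint hd123,
    Finset.card_union_of_disjoint hd12, card_I1, card_I2, card_I3]

end Cfsg.Agent.S0394
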