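import Cfsg.Statements.S0395
import Cfsg.Agent.Lib.Helper94.LeechCount48

set_option autoImplicit false
open Cfsg

namespace Cfsg.Agent.S0395

open Cfsg.Agent.Lib.Helper95
open Cfsg.Agent.Lib.Helper94

/-- Exactly 16773120 lattice vectors have sum of squares 48. -/
theorem result : {x : Cfsg.GolayPt → ℤ | x ∈ Cfsg.leechLattice ∧ Cfsg.sqNorm x = 48}.ncard = 16773120 := by
  classical
  have hS : {x : Cfsg.GolayPt → ℤ | x ∈ Cfsg.leechLattice ∧ Cfsg.sqNorm x = 48}
      = ↑(evenFam 12 0 ∪ oddFam (oneVecs 3 (-3)) ∪ evenFam 8 1 ∪ oddFam (oneVecs 1 5)) := by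
    ext x
    simp only [Set.mem_ofPred_eq, Finset.coe_union, Set.mem_union, Finset.mem_coe]
    rw [norm48_iff]
    tauto
  have hev : ∀ x : GolayPt → ℤ, (∀ i, x i = 0 ∨ x i = 2 ∨ x i = -2 ∨ x i = 4 ∨ x i = -4) →
      ∀ j, ¬ (|x j| = 1 ∨ |x j| = 3 ∨ |x j| = 5) := by
    intro x h j
    rcases h j with h' | h' | h' | h' | h' <;> rw [h'] <;> norm_num
  have hd1 : Disjoint (evenFam 12 0) (oddFam (oneVecs 3 (-3))) := by
    rw [Finset.disjoint_left]
    intro x h1 h2
    have := fam48_1_vals x h1 none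
    rcases (fam48_2_vals x h2).1 none with h' | h' <;> rcases this with h'' | h'' | h'' <;>
      rw [h''] at h' <;> norm_num at h'
  have hd2 : Disjoint (evenFam 12 0 ∪ oddFam (oneVecs 3 (-3))) (evenFam 8 1) := by
    rw [Finset.disjoint_left]
    intro x h12 h3
    obtain ⟨hv, i, hi⟩ := fam48_3_vals x h3
    rcases Finset.mem_union.mp h12 with h1 | h2
    · rcases fam48_1_vals x h1 i with h'' | h'' | h'' <;> rw [h''] at hi <;> norm_num at hi
    · apply hev x hv i
      rcases (fam48_2_vals x h2).1 i with h' | h'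
      · exact Or.inl h'
      · exact Or.inr (Or.inl h')
  have hd3 : Disjoint (evenFam 12 0 ∪ oddFam (oneVecs 3 (-3)) ∪ evenFam 8 1)
      (oddFam (oneVecs 1 5)) := by
    rw [Finset.disjoint_left]
    intro x h123 h4
    obtain ⟨hv, i, hi⟩ := fam48_4_vals x h4
    rcases Finset.mem_union.mp h123 with h12 | h3
    · rcases Finset.mem_union.mp h12 with h1 | h2
      · rcases fam48_1_vals x h1 i with h'' | h'' | h'' <;> rw [h''] at hi <;> norm_num at hi
      · rcases (fam48_2_vals x h2).1 i with h' | h' <;> omega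
    · exact hev x (fam48_3_vals x h3).1 i (Or.inr (Or.inr hi))
  rw [hS, Set.ncard_coe_finset, Finset.card_union_of_disjoint hd3,
    Finset.card_union_of_disjoint hd2, Finset.card_union_of_disjoint hd1, card_fam48_1,
    card_fam48_2, card_fam48_3, card_fam48_4]

end Cfsg.Agent.S0395
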