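import Cfsg.Statements.S5594
import Mathlib
import Cfsg.Prelude.Def_Spor_Conway
import Cfsg.Agent.S0391
import Cfsg.Agent.S0372
import Cfsg.Agent.Lib.Helper10.M24Mem
import Cfsg.Agent.Lib.Helper95.GolayConcrete
import Cfsg.Agent.Lib.Helper94.LeechShape
-- import your own Cfsg.Agent.* helpers here

set_option autoImplicit false
open Cfsg

namespace Cfsg.Agent.S5594

open Cfsg.Agent.Lib.Helper95
open Cfsg.Agent.Lib.Helper94
open Cfsg.Agent.Lib.Helper10 (permWord permWord_mem_of_mem_M24)
open Cfsg.Agent.S0391 (zmod2_cases val_le_one shape_of_mem shape_normal sum_of_mem sum_val_eq)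

/-- The dodecad word. -/
def dd : GolayPt → ZMod 2 := qrWord 0

lemma dd_mem : dd ∈ golayCode :=
  Submodule.subset_span (Set.mem_union_left _ ⟨0, rfl⟩)

/-- Sign: `-1` on the dodecad, `1` off it. -/
def sgn (i : GolayPt) : ℤ := 1 - 2 * ((dd i).val : ℤ)

lemma dd_swap : ∀ i : GolayPt, dd (projInv i) = 1 + dd i := by decide +kernel

lemma projInv_invol (i : GolayPt) : projInv (projInv i) = i := projInv.left_inv i

lemma sgn_swap (i : GolayPt) : sgn (projInv i) = - sgn i := by
  unfold sgn
  rw [dd_swap]
  rcases zmod2_cases (dd i) with h | h <;> rw [h] <;> decide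

lemma sgn_sq (i : GolayPt) : sgn i * sgn i = 1 := by
  unfold sgn
  rcases val_le_one (dd i) with h | h <;> rw [h] <;> norm_num

/-- The monomial map. -/
def T (x : GolayPt → ℤ) : GolayPt → ℤ := fun i => sgn i * x (projInv i)

lemma T_apply (x : GolayPt → ℤ) (i : GolayPt) : T x i = sgn i * x (projInv i) := rfl

lemma T_add (x y : GolayPt → ℤ) : T (x + y) = T x + T y := by
  ext i; simp only [T_apply, Pi.add_apply]; ring

lemma T_neg (x : GolayPt → ℤ) : T (-x) = - T x := by
  ext i; simp only [T_apply, Pi.neg_apply]; ring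

lemma T_T (x : GolayPt → ℤ) : T (T x) = -x := by
  ext i
  simp only [T_apply, Pi.neg_apply, projInv_invol, sgn_swap]
  have := sgn_sq i
  linear_combination (-(x i)) * this

lemma sqNorm_T (x : GolayPt → ℤ) : sqNorm (T x) = sqNorm x := by
  unfold sqNorm
  have : ∀ i, T x i ^ 2 = x (projInv i) ^ 2 := by
    intro i
    rw [T_apply]
    have := sgn_sq i
    linear_combination (x (projInv i) ^ 2) * this
  simp only [this]
  exact Equiv.sum_comp projInv (fun j => x j ^ 2)

lemma sum_T (x : GolayPt → ℤ) :
    ∑ i, T x i = -(∑ j, x j - 2 * ∑ j, ((dd j).val : ℤ) * x j) := by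
  have h1 : ∑ i, T x i = ∑ j, sgn (projInv j) * x j := by
    rw [← Equiv.sum_comp projInv (fun j => sgn (projInv j) * x j)]
    apply Finset.sum_congr rfl
    intro i _
    rw [T_apply, projInv_invol]
  rw [h1, Finset.mul_sum, ← Finset.sum_sub_distrib, ← Finset.sum_neg_distrib]
  apply Finset.sum_congr rfl
  intro j _
  rw [sgn_swap]
  unfold sgn
  ring

lemma T_mem (x : GolayPt → ℤ) (hx : x ∈ leechLattice) : T x ∈ leechLattice := by
  apply AddSubgroup.subset_closure
  have hQ := sum_of_mem x hx
  have hD := four_dvd_dot_code x hx dd dd_mem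
  have hsum := sum_T x
  obtain ⟨c, hc, h | h⟩ := shape_normal x (shape_of_mem x hx)
  · -- even case
    have hc' : permWord projInv c ∈ golayCode :=
      permWord_mem_of_mem_M24 Cfsg.Agent.S0372.result c hc
    apply mem_leechSet_of_shape (T x) 0 (permWord projInv c) hc'
    · intro i
      have hi := h (projInv i)
      have e : permWord projInv c i = c (projInv i) := rfl
      rw [e, T_apply]
      unfold sgn
      simp only [Int.ModEq] at *
      rcases val_le_one (dd i) with h' | h' <;> rw [h'] <;>
        rcases val_le_one (c (projInv i)) with h'' | h'' <;> rw [h''] at hi ⊢ <;> omega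
    · rw [hsum]
      have hn := h none
      obtain ⟨s, hs⟩ := hD
      obtain ⟨t, ht⟩ := hQ
      simp only [Int.ModEq] at *
      rcases val_le_one (c none) with h' | h' <;> rw [h'] at hn <;> omega
  · -- odd case
    have hc' : permWord projInv c + dd ∈ golayCode :=
      golayCode.add_mem (permWord_mem_of_mem_M24 Cfsg.Agent.S0372.result c hc) dd_mem
    apply mem_leechSet_of_shape (T x) 1 (permWord projInv c + dd) hc'
    · intro i
      have hi := h (projInv i)
      have e : (permWord projInv c + dd) i = c (projInv i) + dd i := rfl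
      rw [e, T_apply]
      unfold sgn
      simp only [Int.ModEq] at *
      rcases zmod2_cases (dd i) with h' | h' <;> rw [h'] <;>
        rcases zmod2_cases (c (projInv i)) with h'' | h'' <;> rw [h''] at hi ⊢ <;>
        simp only [ZMod.val_zero, ZMod.val_one, add_zero, zero_add, Nat.cast_zero, Nat.cast_one,
          show ((1 : ZMod 2) + 1) = 0 from by decide] at hi ⊢ <;> omega
    · rw [hsum]
      have hn := h none
      obtain ⟨s, hs⟩ := hD
      obtain ⟨t, ht⟩ := hQ
      simp only [Int.ModEq] at *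
      rcases val_le_one (c none) with h' | h' <;> rw [h'] at hn <;> omega

/-- `T` as a permutation of the lattice. -/
def gPerm : Equiv.Perm leechLattice where
  toFun v := ⟨T v.1, T_mem v.1 v.2⟩
  invFun v := ⟨-T v.1, leechLattice.neg_mem (T_mem v.1 v.2)⟩
  left_inv v := by
    apply Subtype.ext
    show -T (T v.1) = v.1
    rw [T_T, neg_neg]
  right_inv v := by
    apply Subtype.ext
    show T (-T v.1) = v.1
    rw [T_neg, T_T, neg_neg]

lemma gPerm_mem : gPerm ∈ Co0 := by
  refine ⟨fun v w => ?_, fun v => ?_⟩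
  · apply Subtype.ext
    show T (v.1 + w.1) = T v.1 + T w.1
    exact T_add _ _
  · exact sqNorm_T v.1

lemma negPerm_mem : (Equiv.neg leechLattice) ∈ Co0 := by
  refine ⟨fun v w => ?_, fun v => ?_⟩
  · simp only [Equiv.neg_apply]
    abel
  · simp only [Equiv.neg_apply]
    unfold sqNorm
    apply Finset.sum_congr rfl
    intro i _
    simp

/-- Negation in `Co0`. -/
def nn : ↥Co0 := ⟨Equiv.neg leechLattice, negPerm_mem⟩

/-- The square root of negation in `Co0`. -/
def gg : ↥Co0 := ⟨gPerm, gPerm_mem⟩

lemma gg_sq : gg * gg = nn := by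
  apply Subtype.ext
  apply Equiv.ext
  intro v
  apply Subtype.ext
  show T (T v.1) = -v.1
  exact T_T _

lemma map_zero_of_mem (f : ↥Co0) : f.1 0 = 0 := by
  have := f.2.1 0 0
  rw [add_zero] at this
  exact left_eq_add.mp this |>.symm ▸ rfl

lemma map_neg_of_mem (f : ↥Co0) (v : leechLattice) : f.1 (-v) = - f.1 v := by
  have := f.2.1 (-v) v
  rw [neg_add_cancel, map_zero_of_mem] at this
  exact eq_neg_of_add_eq_zero_left this.symm

lemma nn_comm (f : ↥Co0) : nn * f = f * nn := by
  apply Subtype.ext
  apply Equiv.ext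
  intro v
  show -(f.1 v) = f.1 (-v)
  rw [map_neg_of_mem]

lemma nn_sq : nn * nn = 1 := by
  apply Subtype.ext
  apply Equiv.ext
  intro v
  show -(-v) = v
  exact neg_neg v

lemma nn_ne_one : nn ≠ 1 := by
  intro h
  have h1 : nn.1 Cfsg.Spor.leechU = Cfsg.Spor.leechU := by rw [h]; rfl
  have h2 : (nn.1 Cfsg.Spor.leechU : GolayPt → ℤ) none = (Cfsg.Spor.leechU : GolayPt → ℤ) none := by
    rw [h1]
  revert h2
  show ¬ (-(Cfsg.Spor.vecU none) = Cfsg.Spor.vecU none)
  decide

/-- The automorphism group of the Leech lattice contains the negation map, and the subgroup of order 2 it generates has no complement: the automorphism group is a non-split extension of its quotient by that subgroup (it is not the direct product of a group of order 2 with the first Conway group). -/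
theorem result :
    ∃ n : ↥Cfsg.Co0, (∀ v : ↥Cfsg.leechLattice, ((n • v : ↥Cfsg.leechLattice) : Cfsg.GolayPt → ℤ) = -(v : Cfsg.GolayPt → ℤ)) ∧
    ∀ K : Subgroup ↥Cfsg.Co0, ¬ (Subgroup.zpowers n).IsComplement' K := by
  refine ⟨nn, fun v => rfl, fun K hK => ?_⟩
  obtain ⟨⟨h, k⟩, hhk⟩ := hK.2 gg
  simp only at hhk
  obtain ⟨j, hj⟩ := Subgroup.mem_zpowers_iff.mp h.2
  have hcomm : ∀ f : ↥Co0, Commute (h : ↥Co0) f := by
    intro f
    rw [← hj]
    exact (Commute.zpow_left (nn_comm f) j)
  have hh : (h : ↥Co0) * h = 1 := by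
    rw [← hj, ← (Commute.refl nn).mul_zpow, nn_sq, one_zpow]
  have hkk : nn = (k : ↥Co0) * k := by
    rw [← gg_sq, ← hhk]
    calc (h : ↥Co0) * k * (h * k) = (h * h) * (k * k) := by
          rw [mul_assoc, ← mul_assoc (k : ↥Co0) h k, ← (hcomm k).eq]
          group
      _ = k * k := by rw [hh, one_mul]
  have hnK : nn ∈ K := by rw [hkk]; exact K.mul_mem k.2 k.2
  have := Subgroup.disjoint_def.mp hK.disjoint (Subgroup.mem_zpowers nn) hnK
  exact nn_ne_one this

end Cfsg.Agent.S5594
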