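import Cfsg.Statements.S1571
import Mathlib
import Cfsg.Prelude.Def_Spor_Conway
import Cfsg.Agent.S0364
import Cfsg.Agent.S5553
import Cfsg.Agent.S5594
import Cfsg.Agent.Lib.Helper10.M24Mem
import Cfsg.Agent.Lib.Helper94.LeechMonomial
-- import your own Cfsg.Agent.* helpers here

set_option autoImplicit false
open Cfsg

namespace Cfsg.Agent.S1571

open Cfsg.Agent.Lib.Helper95
open Cfsg.Agent.Lib.Helper94
open Cfsg.Agent.Lib.Helper10 (permWord mem_M24_of_mapsTo support₂_injective mem_support₂)
open Cfsg.Agent.S0391 (zmod2_cases val_le_one)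
open Cfsg.Agent.S5594 (map_neg_of_mem map_zero_of_mem)

lemma vec8_eq_single (i : GolayPt) : vec8 i = Pi.single i 8 := by
  ext j
  unfold vec8
  rw [Pi.single_apply]

lemma vec8_mem_cross (i : GolayPt) : vec8 i ∈ stdCross :=
  ⟨i, 8, Or.inl rfl, vec8_eq_single i⟩

/-- The stabiliser property. -/
def Stab (g : ↥Co0) : Prop :=
  ∀ v : ↥leechLattice, (v : GolayPt → ℤ) ∈ stdCross →
    ((g • v : ↥leechLattice) : GolayPt → ℤ) ∈ stdCross

/-- The additive map underlying `g`. -/
def ghom (g : ↥Co0) : leechLattice →+ leechLattice := AddMonoidHom.mk' g.1 g.2.1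

lemma ghom_apply (g : ↥Co0) (v : leechLattice) : ghom g v = g.1 v := rfl

section Main

variable (g : ↥Co0) (hg : Stab g)

include hg

lemma image_E8 (i : GolayPt) :
    ∃ (j : GolayPt) (s : ℤ), (s = 8 ∨ s = -8) ∧ (g.1 (E8 i)).1 = Pi.single j s :=
  hg (E8 i) (vec8_mem_cross i)

lemma exists_data : ∃ (π : GolayPt → GolayPt) (sg : GolayPt → ℤ),
    ∀ i, (sg i = 8 ∨ sg i = -8) ∧ (g.1 (E8 i)).1 = Pi.single (π i) (sg i) := by
  choose π sg h using image_E8 g hg
  exact ⟨π, sg, h⟩

end Main

lemma E8_ne (i j : GolayPt) (hij : i ≠ j) : E8 i ≠ E8 j ∧ E8 i ≠ -E8 j := by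
  constructor
  · intro h
    have := congrFun (congrArg Subtype.val h) i
    simp [E8, vec8, hij] at this
  · intro h
    have := congrFun (congrArg Subtype.val h) i
    simp [E8, vec8, hij] at this

lemma structure_of_stab (g : ↥Co0) (hg : Stab g) :
    ∃ σ ∈ M24, ∃ d ∈ golayCode, ∀ (v : ↥leechLattice) (j : GolayPt),
      (g.1 v).1 j = sgnOf d j * v.1 (σ.symm j) := by
  obtain ⟨π, sg, hdata⟩ := exists_data g hg
  -- injectivity of π
  have hinj : Function.Injective π := by
    intro i j hij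
    by_contra hne
    obtain ⟨hsi, hi⟩ := hdata i
    obtain ⟨hsj, hj⟩ := hdata j
    rw [hij] at hi
    have hcase : sg i = sg j ∨ sg i = -sg j := by
      rcases hsi with h1 | h1 <;> rcases hsj with h2 | h2 <;> rw [h1, h2] <;> norm_num
    rcases hcase with h | h
    · have : g.1 (E8 i) = g.1 (E8 j) := Subtype.ext (by rw [hi, hj, h])
      exact (E8_ne i j hne).1 (g.1.injective this)
    · have : g.1 (E8 i) = g.1 (-E8 j) := by
        rw [map_neg_of_mem]
        apply Subtype.ext
        rw [hi, h]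
        show Pi.single (π j) (-sg j) = -(g.1 (E8 j)).1
        rw [hj, Pi.single_neg]
      exact (E8_ne i j hne).2 (g.1.injective this)
  have hbij : Function.Bijective π := hinj.bijective_of_finite
  set σ : Equiv.Perm GolayPt := Equiv.ofBijective π hbij with hσ
  have hσπ : ∀ i, σ i = π i := fun i => rfl
  have hπσ : ∀ j, π (σ.symm j) = j := fun j => by rw [← hσπ]; simp
  -- the formula with factor 8
  have key : ∀ (v : ↥leechLattice) (j : GolayPt),
      8 * (g.1 v).1 j = sg (σ.symm j) * v.1 (σ.symm j) := by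
    intro v j
    have h8 : (8 : ℤ) • g.1 v = ∑ i, (v.1 i) • g.1 (E8 i) := by
      rw [← ghom_apply, ← map_zsmul, eight_smul_eq_sum, map_sum]
      apply Finset.sum_congr rfl
      intro i _
      rw [map_zsmul, ghom_apply]
    have := congrFun (congrArg Subtype.val h8) j
    rw [AddSubgroup.val_finsetSum, Finset.sum_apply] at this
    simp only [AddSubgroup.coe_zsmul, Pi.smul_apply, smul_eq_mul] at this
    rw [this, Finset.sum_eq_single (σ.symm j)]
    · rw [(hdata (σ.symm j)).2, hπσ, Pi.single_eq_same, mul_comm]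
    · intro b _ hb
      rw [(hdata b).2, Pi.single_apply, if_neg, mul_zero]
      intro hjb
      apply hb
      rw [hjb, ← hσπ, Equiv.symm_apply_apply]
    · intro h; exact absurd (Finset.mem_univ _) h
  -- the sign word as a function
  have hsgn : ∀ j, sg (σ.symm j) = 8 ∨ sg (σ.symm j) = -8 := fun j => (hdata (σ.symm j)).1
  -- formula without the factor
  have key2 : ∀ (v : ↥leechLattice) (j : GolayPt),
      (g.1 v).1 j = if sg (σ.symm j) = -8 then -v.1 (σ.symm j) else v.1 (σ.symm j) := by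
    intro v j
    have := key v j
    rcases hsgn j with h | h
    · rw [h] at this
      rw [if_neg (by rw [h]; norm_num)]
      linarith
    · rw [h] at this
      rw [if_pos h]
      linarith
  -- σ preserves the code
  have hσM : σ ∈ M24 := by
    apply mem_M24_of_mapsTo
    intro w hw
    set v : ↥leechLattice :=
      ⟨_, AddSubgroup.subset_closure (Cfsg.Agent.S5553.lift2_mem w hw)⟩ with hv
    have hmem := mem_leechSet_of_mem (g.1 v).1 (g.1 v).2
    obtain ⟨m, -, -, hk⟩ := hmem
    obtain ⟨w', hw', hsupp⟩ := hk 2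
    have : w' = permWord σ w := by
      apply support₂_injective
      rw [hsupp]
      ext j
      rw [Finset.mem_filter, mem_support₂]
      simp only [Finset.mem_univ, true_and]
      rw [key2 v j]
      have hvj : v.1 (σ.symm j) = 2 * ((w (σ.symm j)).val : ℤ) := rfl
      have hp : permWord σ w j = w (σ.symm j) := rfl
      rw [hvj, hp]
      simp only [Int.ModEq]
      rcases zmod2_cases (w (σ.symm j)) with h | h <;> rw [h] <;> split_ifs <;>
        simp only [ZMod.val_zero, ZMod.val_one, Nat.cast_zero, Nat.cast_one] <;>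
        constructor <;> intro hh <;> first | omega | exact absurd rfl hh | decide
    rw [← this]
    exact hw'
  -- the sign set is a code word
  have hmemV := mem_leechSet_of_mem (g.1 Cfsg.Spor.leechV).1 (g.1 Cfsg.Spor.leechV).2
  obtain ⟨m, -, -, hk⟩ := hmemV
  obtain ⟨d, hd, hsupp⟩ := hk 1
  have hdj : ∀ j, d j ≠ 0 ↔ sg (σ.symm j) = -8 := by
    intro j
    rw [← mem_support₂, hsupp, Finset.mem_filter]
    simp only [Finset.mem_univ, true_and]
    rw [key2 Cfsg.Spor.leechV j]
    have hV : (Cfsg.Spor.leechV : ↥leechLattice).1 (σ.symm j) = -5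
        ∨ (Cfsg.Spor.leechV : ↥leechLattice).1 (σ.symm j) = -1 := by
      show Cfsg.Spor.vecV (σ.symm j) = -5 ∨ Cfsg.Spor.vecV (σ.symm j) = -1
      unfold Cfsg.Spor.vecV
      split_ifs
      · left; rfl
      · right; rfl
    simp only [Int.ModEq]
    rcases hV with h | h <;> rw [h] <;> split_ifs with h' <;>
      constructor <;> intro hh <;> omega
  refine ⟨σ, hσM, d, hd, fun v j => ?_⟩
  rw [key2 v j]
  unfold sgnOf
  by_cases h : sg (σ.symm j) = -8
  · rw [if_pos h]
    have : d j = 1 := by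
      rcases zmod2_cases (d j) with h0 | h1
      · exact absurd h0 ((hdj j).mpr h)
      · exact h1
    have hv : (((d j).val : ℕ) : ℤ) = 1 := by rw [this]; rfl
    rw [hv]; ring
  · rw [if_neg h]
    have : d j = 0 := by
      by_contra hne
      exact h ((hdj j).mp hne)
    have hv : (((d j).val : ℕ) : ℤ) = 0 := by rw [this]; rfl
    rw [hv]; ring

lemma signedPerm_eq (σ : Equiv.Perm GolayPt) (d : GolayPt → ZMod 2) (x : GolayPt → ℤ)
    (j : GolayPt) : signedPerm σ (support₂ d) x j = sgnOf d j * x (σ.symm j) := by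
  unfold signedPerm sgnOf
  split_ifs with hmem
  · rw [mem_support₂] at hmem
    have : d j = 1 := by
      rcases zmod2_cases (d j) with h0 | h1
      · exact absurd h0 hmem
      · exact h1
    have hv : (((d j).val : ℕ) : ℤ) = 1 := by rw [this]; rfl
    rw [hv]; ring
  · rw [mem_support₂, not_not] at hmem
    have hv : (((d j).val : ℕ) : ℤ) = 0 := by rw [hmem]; rfl
    rw [hv]; ring

/-- The monomial element attached to a code word and a member of the code's group. -/
def mono (d : ↥golayCode) (σ : ↥M24) : ↥Co0 :=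
  ⟨signPerm d.1 d.2 * permPerm σ.1 σ.2,
    Co0.mul_mem (signPerm_mem d.1 d.2) (permPerm_mem σ.1 σ.2)⟩

lemma mono_apply (d : ↥golayCode) (σ : ↥M24) (v : ↥leechLattice) (j : GolayPt) :
    ((mono d σ).1 v).1 j = sgnOf d.1 j * v.1 (σ.1.symm j) := rfl

lemma mono_stab (d : ↥golayCode) (σ : ↥M24) : Stab (mono d σ) := by
  rintro v ⟨i, s, hs, hv⟩
  refine ⟨σ.1 i, sgnOf d.1 (σ.1 i) * s, ?_, ?_⟩
  · unfold sgnOf
    rcases val_le_one (d.1 (σ.1 i)) with h | h <;> rw [h] <;> rcases hs with h' | h' <;>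
      rw [h'] <;> norm_num
  · ext j
    show ((mono d σ).1 v).1 j = _
    rw [mono_apply, hv, Pi.single_apply, Pi.single_apply]
    by_cases hj : j = σ.1 i
    · rw [if_pos hj, if_pos (by rw [hj]; simp), hj]
    · rw [if_neg hj, if_neg (fun h => hj (by rw [← h]; simp)), mul_zero]

lemma mono_inj : Function.Injective (fun p : ↥golayCode × ↥M24 =>
    (⟨mono p.1 p.2, mono_stab p.1 p.2⟩ : {g : ↥Co0 // Stab g})) := by
  rintro ⟨d, σ⟩ ⟨d', σ'⟩ h
  have h1 : mono d σ = mono d' σ' := congrArg Subtype.val h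
  have hval : ∀ (v : ↥leechLattice) (j : GolayPt),
      sgnOf d.1 j * v.1 (σ.1.symm j) = sgnOf d'.1 j * v.1 (σ'.1.symm j) := by
    intro v j
    rw [← mono_apply, ← mono_apply, h1]
  have hσ : ∀ j, σ.1.symm j = σ'.1.symm j := by
    intro j
    have := hval (E8 (σ.1.symm j)) j
    simp only [E8, vec8, if_true] at this
    by_contra hne
    rw [if_neg (fun h => hne h.symm), mul_zero] at this
    have h2 := sgnOf_sq d.1 j
    rw [mul_eq_zero] at this
    rcases this with h0 | h0
    · rw [h0] at h2; simp at h2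
    · norm_num at h0
  have hσ' : σ = σ' := by
    apply Subtype.ext
    have : σ.1.symm = σ'.1.symm := Equiv.ext hσ
    exact Equiv.symm_bijective.injective this
  have hd : d = d' := by
    apply Subtype.ext
    funext j
    have := hval (E8 (σ.1.symm j)) j
    rw [← hσ j] at this
    simp only [E8, vec8, if_true] at this
    have h3 : sgnOf d.1 j = sgnOf d'.1 j := by linarith
    unfold sgnOf at h3
    have e0 : (((0 : ZMod 2).val : ℕ) : ℤ) = 0 := rfl
    have e1 : (((1 : ZMod 2).val : ℕ) : ℤ) = 1 := rfl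
    rcases zmod2_cases (d.1 j) with h | h <;> rcases zmod2_cases (d'.1 j) with h' | h'
    · rw [h, h']
    · exfalso; rw [h, h', e0, e1] at h3; norm_num at h3
    · exfalso; rw [h, h', e0, e1] at h3; norm_num at h3
    · rw [h, h']
  rw [hσ', hd]

lemma mono_surj : Function.Surjective (fun p : ↥golayCode × ↥M24 =>
    (⟨mono p.1 p.2, mono_stab p.1 p.2⟩ : {g : ↥Co0 // Stab g})) := by
  rintro ⟨g, hg⟩
  obtain ⟨σ, hσ, d, hd, h⟩ := structure_of_stab g hg
  refine ⟨(⟨d, hd⟩, ⟨σ, hσ⟩), ?_⟩
  apply Subtype.ext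
  apply Subtype.ext
  apply Equiv.ext
  intro v
  apply Subtype.ext
  funext j
  show ((mono ⟨d, hd⟩ ⟨σ, hσ⟩).1 v).1 j = (g.1 v).1 j
  rw [mono_apply, h v j]

/-- The stabiliser of the standard cross in the automorphism group of the lattice is the monomial group of the code: each of its elements acts as a signed permutation with permutation part in the code's group and sign set a codeword, and it has order 4096 · 244823040. -/
theorem result : (∀ g : ↥Cfsg.Co0, (∀ v : ↥Cfsg.leechLattice, (v : Cfsg.GolayPt → ℤ) ∈ Cfsg.stdCross → ((g • v : ↥Cfsg.leechLattice) : Cfsg.GolayPt → ℤ) ∈ Cfsg.stdCross) → ∃ f ∈ Cfsg.golayMonomialMaps, ∀ v : ↥Cfsg.leechLattice, ((g • v : ↥Cfsg.leechLattice) : Cfsg.GolayPt → ℤ) = f (v : Cfsg.GolayPt → ℤ)) ∧ Nat.card {g : ↥Cfsg.Co0 // (∀ v : ↥Cfsg.leechLattice, (v : Cfsg.GolayPt → ℤ) ∈ Cfsg.stdCross → ((g • v : ↥Cfsg.leechLattice) : Cfsg.GolayPt → ℤ) ∈ Cfsg.stdCross)} = 4096 * 244823040 := by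
  constructor
  · intro g hg
    obtain ⟨σ, hσ, d, hd, h⟩ := structure_of_stab g hg
    refine ⟨signedPerm σ (support₂ d), ⟨σ, hσ, support₂ d, ⟨d, hd, rfl⟩, rfl⟩, fun v => ?_⟩
    funext j
    rw [signedPerm_eq]
    exact h v j
  · have hbij : Function.Bijective (fun p : ↥golayCode × ↥M24 =>
        (⟨mono p.1 p.2, mono_stab p.1 p.2⟩ : {g : ↥Co0 // Stab g})) := ⟨mono_inj, mono_surj⟩
    have hcard := Nat.card_eq_of_bijective _ hbij
    rw [Nat.card_prod, golayCode_card, Cfsg.Agent.S0364.result] at hcard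
    exact hcard.symm

end Cfsg.Agent.S1571
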