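import Cfsg.Statements.S0398
import Mathlib
import Cfsg.Agent.S0370
import Cfsg.Agent.S0372
import Cfsg.Agent.S5594
import Cfsg.Agent.Lib.Helper94.LeechMonomial
-- import your own Cfsg.Agent.* helpers here

set_option autoImplicit false
open Cfsg

namespace Cfsg.Agent.S0398

open Cfsg.Agent.Lib.Helper95
open Cfsg.Agent.Lib.Helper94
open Cfsg.Agent.S0391 (zmod2_cases val_le_one)
open Cfsg.Agent.S5594 (nn nn_comm nn_ne_one map_neg_of_mem map_zero_of_mem)

lemma sep_some : ∀ x y : ZMod 23, x ≠ y → ∃ t : ZMod 23, qrWord t (some x) ≠ qrWord t (some y) := by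
  decide +kernel

lemma qrWord_mem (t : ZMod 23) : qrWord t ∈ golayCode :=
  Submodule.subset_span (Set.mem_union_left _ ⟨t, rfl⟩)

lemma sep_word (i j : GolayPt) (hij : i ≠ j) : ∃ d ∈ golayCode, d i = 0 ∧ d j = 1 := by
  have key : ∃ d ∈ golayCode, d i ≠ d j := by
    cases i with
    | none =>
      cases j with
      | none => exact absurd rfl hij
      | some y =>
        refine ⟨qrWord y, qrWord_mem y, ?_⟩
        have h1 : qrWord y none = 0 := rfl
        have h2 : qrWord y (some y) = 1 := by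
          show (if ∃ r : ZMod 23, y = r ^ 2 + y then (1 : ZMod 2) else 0) = 1
          rw [if_pos ⟨0, by ring⟩]
        rw [h1, h2]; decide
    | some x =>
      cases j with
      | none =>
        refine ⟨qrWord x, qrWord_mem x, ?_⟩
        have h1 : qrWord x none = 0 := rfl
        have h2 : qrWord x (some x) = 1 := by
          show (if ∃ r : ZMod 23, x = r ^ 2 + x then (1 : ZMod 2) else 0) = 1
          rw [if_pos ⟨0, by ring⟩]
        rw [h1, h2]; decide
      | some y =>
        have hxy : x ≠ y := fun h => hij (by rw [h])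
        obtain ⟨t, ht⟩ := sep_some x y hxy
        exact ⟨qrWord t, qrWord_mem t, ht⟩
  obtain ⟨d, hd, hne⟩ := key
  rcases zmod2_cases (d i) with hi | hi
  · refine ⟨d, hd, hi, ?_⟩
    rcases zmod2_cases (d j) with hj | hj
    · exact absurd (hi.trans hj.symm) hne
    · exact hj
  · refine ⟨d + 1, golayCode.add_mem hd golayCode_one_mem, ?_, ?_⟩
    · simp only [Pi.add_apply, Pi.one_apply, hi]; decide
    · rcases zmod2_cases (d j) with hj | hj
      · simp only [Pi.add_apply, Pi.one_apply, hj]; decide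
      · exact absurd (hi.trans hj.symm) hne

lemma signVec_vec8 (d : GolayPt → ZMod 2) (i : GolayPt) (hi : d i = 0) :
    signVec d (vec8 i) = vec8 i := by
  ext k
  rw [signVec_apply]
  unfold vec8 sgnOf
  split_ifs with hk
  · rw [hk, hi]; simp
  · simp

lemma permVec_vec8 (σ : Equiv.Perm GolayPt) (i : GolayPt) :
    permVec σ (vec8 i) = vec8 (σ i) := by
  ext k
  rw [permVec_apply]
  unfold vec8
  by_cases hk : k = σ i
  · rw [if_pos hk, if_pos (by rw [hk]; simp)]
  · rw [if_neg hk, if_neg (fun h => hk (by rw [← h]; simp))]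

section Center

variable (z : ↥Co0) (hz : ∀ g : ↥Co0, g * z = z * g)

include hz

lemma off_diag (i j : GolayPt) (hij : j ≠ i) : (z.1 (E8 i)).1 j = 0 := by
  obtain ⟨d, hd, hdi, hdj⟩ := sep_word i j (Ne.symm hij)
  have hcomm := hz ⟨signPerm d hd, signPerm_mem d hd⟩
  have h1 := congrArg (fun g : ↥Co0 => (g.1 (E8 i)).1 j) hcomm
  have e1 : (signPerm d hd) (E8 i) = E8 i := Subtype.ext (signVec_vec8 d i hdi)
  have h2 : ((signPerm d hd) (z.1 (E8 i))).1 j = (z.1 ((signPerm d hd) (E8 i))).1 j := h1
  rw [e1] at h2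
  have h3 : ((signPerm d hd) (z.1 (E8 i))).1 j = sgnOf d j * (z.1 (E8 i)).1 j := rfl
  rw [h3] at h2
  unfold sgnOf at h2
  rw [hdj] at h2
  simp only [ZMod.val_one, Nat.cast_one, mul_one] at h2
  linarith

lemma diag_sq (i : GolayPt) : (z.1 (E8 i)).1 i = 8 ∨ (z.1 (E8 i)).1 i = -8 := by
  have hn : sqNorm (z.1 (E8 i)).1 = 64 := by
    rw [z.2.2 (E8 i)]
    exact sqNorm_vec8 i
  unfold sqNorm at hn
  rw [Finset.sum_eq_single i] at hn
  · have : ((z.1 (E8 i)).1 i - 8) * ((z.1 (E8 i)).1 i + 8) = 0 := by linarith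
    rcases mul_eq_zero.mp this with h | h
    · left; linarith
    · right; linarith
  · intro b _ hb
    rw [off_diag z hz i b hb]
    norm_num
  · intro h; exact absurd (Finset.mem_univ i) h

lemma diag_perm (σ : Equiv.Perm GolayPt) (hσ : σ ∈ M24) (i : GolayPt) :
    (z.1 (E8 (σ i))).1 (σ i) = (z.1 (E8 i)).1 i := by
  have hcomm := hz ⟨permPerm σ hσ, permPerm_mem σ hσ⟩
  have h1 := congrArg (fun g : ↥Co0 => (g.1 (E8 i)).1 (σ i)) hcomm
  have e1 : (permPerm σ hσ) (E8 i) = E8 (σ i) := Subtype.ext (permVec_vec8 σ i)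
  have h2 : ((permPerm σ hσ) (z.1 (E8 i))).1 (σ i) = (z.1 ((permPerm σ hσ) (E8 i))).1 (σ i) := h1
  rw [e1] at h2
  have h3 : ((permPerm σ hσ) (z.1 (E8 i))).1 (σ i) = (z.1 (E8 i)).1 (σ.symm (σ i)) := rfl
  rw [h3, Equiv.symm_apply_apply] at h2
  exact h2.symm

lemma diag_const (i : GolayPt) : (z.1 (E8 i)).1 i = (z.1 (E8 none)).1 none := by
  have hsome : ∀ n : ℕ, (z.1 (E8 (some (n : ZMod 23)))).1 (some (n : ZMod 23))
      = (z.1 (E8 (some 0))).1 (some 0) := by
    intro n
    induction n with
    | zero => simp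
    | succ n ih =>
      have := diag_perm z hz _ Cfsg.Agent.S0370.result (some (n : ZMod 23))
      have e : (Equiv.optionCongr (Equiv.addRight (1 : ZMod 23))) (some (n : ZMod 23))
          = some ((n + 1 : ℕ) : ZMod 23) := by
        simp
      rw [e] at this
      rw [this, ih]
  have hnone : (z.1 (E8 none)).1 none = (z.1 (E8 (some 0))).1 (some 0) := by
    have := diag_perm z hz _ Cfsg.Agent.S0372.result (some 0)
    have e : projInv (some 0) = none := rfl
    rw [e] at this
    exact this
  cases i with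
  | none => rfl
  | some x =>
    have hx : x = ((x.val : ℕ) : ZMod 23) := by simp
    rw [hx, hsome, hnone]

/-- The additive map underlying `z`. -/
def zhom : leechLattice →+ leechLattice := AddMonoidHom.mk' z.1 z.2.1

omit hz in
lemma zhom_apply (v : leechLattice) : zhom z v = z.1 v := rfl

lemma image_E8 (i : GolayPt) (ε : ℤ) (hε : (z.1 (E8 none)).1 none = 8 * ε) :
    z.1 (E8 i) = ε • E8 i := by
  apply Subtype.ext
  funext j
  by_cases hj : j = i
  · rw [hj, diag_const z hz i, hε]
    simp [E8, vec8, mul_comm]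
  · rw [off_diag z hz i j hj]
    simp [E8, vec8, hj]

lemma eq_smul (ε : ℤ) (hε : (z.1 (E8 none)).1 none = 8 * ε) (v : leechLattice) :
    z.1 v = ε • v := by
  have h8 : (8 : ℤ) • z.1 v = (8 : ℤ) • (ε • v) := by
    rw [← zhom_apply, ← map_zsmul, eight_smul_eq_sum, map_sum]
    have : ∀ i, zhom z ((v.1 i) • E8 i) = (v.1 i) • (ε • E8 i) := by
      intro i
      rw [map_zsmul, zhom_apply, image_E8 z hz i ε hε]
    simp only [this]
    rw [smul_comm (8 : ℤ) ε v, eight_smul_eq_sum, Finset.smul_sum]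
    apply Finset.sum_congr rfl
    intro i _
    rw [smul_comm]
  apply Subtype.ext
  funext j
  have := congrFun (congrArg Subtype.val h8) j
  simp only [AddSubgroup.coe_zsmul, Pi.smul_apply, smul_eq_mul] at this ⊢
  linarith

lemma center_cases : z = 1 ∨ z = nn := by
  rcases diag_sq z hz none with h | h
  · left
    apply Subtype.ext
    apply Equiv.ext
    intro v
    rw [eq_smul z hz 1 (by rw [h]; norm_num) v, one_smul]
    rfl
  · right
    apply Subtype.ext
    apply Equiv.ext
    intro v
    rw [eq_smul z hz (-1) (by rw [h]; norm_num) v, neg_one_smul]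
    rfl

end Center

/-- The centre of the lattice's automorphism group has order 2. -/
theorem result : Nat.card (Subgroup.center Cfsg.Co0) = 2 := by
  rw [Nat.card_eq_two_iff]
  have hnn : nn ∈ Subgroup.center Co0 := by
    rw [Subgroup.mem_center_iff]
    intro g
    exact (nn_comm g).symm
  refine ⟨1, ⟨nn, hnn⟩, ?_, ?_⟩
  · intro h
    exact nn_ne_one (congrArg Subtype.val h).symm
  · rw [Set.eq_univ_iff_forall]
    rintro ⟨z, hz⟩
    rw [Subgroup.mem_center_iff] at hz
    rcases center_cases z hz with h | h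
    · left; exact Subtype.ext h
    · right; exact Subtype.ext h

end Cfsg.Agent.S0398
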