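import Cfsg.Statements.S0378
import Cfsg.Agent.Lib.Helper10.Order
import Cfsg.Agent.S0366

set_option autoImplicit false
open Cfsg

namespace Cfsg.Agent.S0378

open MulAction

/-- A two-point stabiliser in the group of the length-24 code has order 443520 = 2^7·3^2·5·7·11. -/
theorem result (p q : Cfsg.GolayPt) (hpq : p ≠ q) : Nat.card ↥(MulAction.stabilizer Cfsg.M24 p ⊓ MulAction.stabilizer Cfsg.M24 q) = 443520 := by
  have h5 : IsMultiplyPretransitive M24 GolayPt 5 := Cfsg.Agent.S0366.result
  have hs : ({p, q} : Set GolayPt).ncard = 2 := Set.ncard_pair hpq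
  have h2 : IsMultiplyPretransitive M24 GolayPt ({p, q} : Set GolayPt).ncard := by
    rw [hs]
    exact isMultiplyPretransitive_of_le (n := 5) (by decide) (by simp)
  have hi := IsMultiplyPretransitive.index_of_fixingSubgroup_eq ({p, q} : Set GolayPt) h2
  have hfix : fixingSubgroup M24 ({p, q} : Set GolayPt) =
      stabilizer M24 p ⊓ stabilizer M24 q := by
    ext g
    simp [mem_fixingSubgroup_iff, mem_stabilizer_iff]
  have h24 : Nat.card GolayPt = 24 := by
    rw [Nat.card_eq_fintype_card]; rfl
  rw [hs, h24, hfix] at hi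
  have hc := Subgroup.card_mul_index (stabilizer M24 p ⊓ stabilizer M24 q)
  rw [hi, Cfsg.Agent.Lib.Helper10.card_M24] at hc
  have : Nat.choose 24 2 * Nat.factorial 2 = 552 := by decide
  rw [this] at hc
  omega

end Cfsg.Agent.S0378
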