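import Cfsg.Statements.S0379
import Cfsg.Agent.Lib.Helper93.M21Base

set_option autoImplicit false
open Cfsg

namespace Cfsg.Agent.S0379

/-- A two-point stabiliser in the group of the length-24 code is simple. -/
theorem result (p q : Cfsg.GolayPt) (hpq : p ≠ q) : IsSimpleGroup ↥(MulAction.stabilizer Cfsg.M24 p ⊓ MulAction.stabilizer Cfsg.M24 q) := by
  have hc : ({p, q} : Set GolayPt).ncard ≤ 3 := by
    rw [Set.ncard_pair hpq]; norm_num
  have h := Cfsg.Agent.Lib.Helper93.m24_fixing_simple ({p, q} : Set GolayPt) hc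
  have e : fixingSubgroup ↥M24 ({p, q} : Set GolayPt)
      = MulAction.stabilizer ↥M24 p ⊓ MulAction.stabilizer ↥M24 q := by
    ext g
    rw [mem_fixingSubgroup_iff, Subgroup.mem_inf, MulAction.mem_stabilizer_iff,
      MulAction.mem_stabilizer_iff]
    simp
  rw [e] at h
  exact h

end Cfsg.Agent.S0379
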