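import Cfsg.Statements.S0430
import Cfsg.Agent.Lib.Helper11.SRG100B
import Cfsg.Agent.S0410

set_option autoImplicit false
open Cfsg

namespace Cfsg.Agent.S0430

/-- Uniqueness of the strongly regular graph with parameters (100, 22, 0, 6). -/
theorem result {V W : Type*} [Fintype V] [Fintype W] {G : SimpleGraph V} {H : SimpleGraph W} [DecidableRel G.Adj] [DecidableRel H.Adj] (hG : G.IsSRGWith 100 22 0 6) (hH : H.IsSRGWith 100 22 0 6) : Nonempty (G ≃g H) := by
  classical
  have hV : 0 < Fintype.card V := by rw [hG.card]; norm_num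
  have hW : 0 < Fintype.card W := by rw [hH.card]; norm_num
  obtain ⟨o⟩ := Fintype.card_pos_iff.mp hV
  obtain ⟨o'⟩ := Fintype.card_pos_iff.mp hW
  obtain ⟨e, he⟩ := Cfsg.Agent.S0410.result
    (Cfsg.Agent.Lib.Helper11.SRG100.card_Pt G o hG)
    (Cfsg.Agent.Lib.Helper11.SRG100.card_Pt H o' hH)
    (Cfsg.Agent.Lib.Helper11.SRG100.steiner G o hG)
    (Cfsg.Agent.Lib.Helper11.SRG100.steiner H o' hH)
  exact ⟨(Cfsg.Agent.Lib.Helper11.SRG100.isoPB G o hG).trans
    ((Cfsg.Agent.Lib.Helper11.SRG100.pbIso e he).trans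
      (Cfsg.Agent.Lib.Helper11.SRG100.isoPB H o' hH).symm)⟩

end Cfsg.Agent.S0430
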