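import Cfsg.Statements.S0363
import Cfsg.Agent.Lib.Helper10.Trans
import Cfsg.Agent.Lib.Helper10.Octad

set_option autoImplicit false
open Cfsg

namespace Cfsg.Agent.S0363

open Cfsg.Agent.Lib.Helper10
open scoped Pointwise

theorem octO_mem : fs octO ∈ octads :=
  fs_mem_octads (by decide +kernel) (by decide +kernel) (by decide +kernel)

theorem bpt_mem : ∀ i : Fin 5, bpt i ∈ fs octO := by
  intro i
  rw [mem_fs]
  revert i
  decide +kernel

/-- every 5-set lies in an octad. -/
theorem exists_octad (s : Finset GolayPt) (hs : s.card = 5) : ∃ b ∈ octads, s ⊆ b := by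
  let e : Fin 5 ≃ s := (s.equivFinOfCardEq hs).symm
  let x : Fin 5 ↪ GolayPt := e.toEmbedding.trans (Function.Embedding.subtype _)
  obtain ⟨g, hg, hgx⟩ := five_trans_base x
  refine ⟨g • fs octO, smul_mem_octads (H_le_M24 hg) octO_mem, ?_⟩
  intro p hp
  obtain ⟨i, hi⟩ := e.surjective ⟨p, hp⟩
  have hxi : x i = p := by
    show ((e i : s) : GolayPt) = p
    rw [hi]
  rw [← hxi, ← hgx i]
  exact Finset.smul_mem_smul_finset (bpt_mem i)

/-- The octads of the length-24 code form a Steiner system S(5, 8, 24) on the 24 points. -/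
theorem result : Cfsg.IsSteinerSystem 5 8 Cfsg.octads := by
  refine ⟨fun b hb => hb.2, fun s hs => ?_⟩
  obtain ⟨b, hb, hsb⟩ := exists_octad s hs
  refine ⟨b, ⟨hb, hsb⟩, ?_⟩
  rintro b' ⟨hb', hsb'⟩
  apply octad_eq_of_inter_ge hb' hb
  rw [← hs]
  exact Finset.card_le_card (Finset.subset_inter hsb' hsb)

end Cfsg.Agent.S0363
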