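import Cfsg.Statements.S0427
import Cfsg.Agent.Lib.Helper11.Steiner22

set_option autoImplicit false
open Cfsg

namespace Cfsg.Agent.S0427

open Cfsg.Agent.Lib.Helper11 in
/-- The block graph (adjacent = disjoint) of an S(3, 6, 22) is strongly regular with parameters (77, 16, 0, 4). -/
theorem result {α : Type*} [Fintype α] (hα : Fintype.card α = 22) {B : Set (Finset α)} (hB : Cfsg.IsSteinerSystem 3 6 B) [Fintype B] [DecidableRel (Cfsg.blockGraph B).Adj] : (Cfsg.blockGraph B).IsSRGWith 77 16 0 4 := by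
  classical
  set Bf : Finset (Finset α) := Finset.univ.filter (· ∈ B) with hBf
  have hmem : ∀ b, b ∈ Bf ↔ b ∈ B := by simp [hBf]
  have h6 : ∀ b ∈ Bf, b.card = 6 := fun b hb => hB.1 b ((hmem b).mp hb)
  have h3 : ∀ s : Finset α, s.card = 3 → ∃! b, b ∈ Bf ∧ s ⊆ b := by
    intro s hs
    obtain ⟨b, hb, hu⟩ := hB.2 s hs
    exact ⟨b, ⟨(hmem b).mpr hb.1, hb.2⟩, fun c hc => hu c ⟨(hmem c).mp hc.1, hc.2⟩⟩
  have hin : ∀ v : B, v.1 ∈ Bf := fun v => (hmem _).mpr v.2
  have hadj : ∀ v d : B, (Cfsg.blockGraph B).Adj v d ↔ Disjoint v.1 d.1 := by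
    intro v d
    unfold Cfsg.blockGraph
    rw [SimpleGraph.fromRel_adj]
    constructor
    · rintro ⟨-, h | h⟩
      · exact h
      · exact h.symm
    · intro h
      refine ⟨?_, Or.inl h⟩
      intro hvd
      exact st_ne_of_disjoint hα h6 h3 (hin v) h (congrArg Subtype.val hvd)
  refine ⟨?_, ?_, ?_, ?_⟩
  · rw [Fintype.card_of_subtype Bf hmem]
    exact st_card_blocks hα h6 h3
  · intro v
    rw [← SimpleGraph.card_neighborSet_eq_degree, Fintype.card_eq_nat_card,
      ncard_sub Bf hmem _ (fun d => Disjoint v.1 d) (fun d => by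
        rw [SimpleGraph.mem_neighborSet, hadj])]
    exact st_card_disjoint hα h6 h3 (hin v)
  · intro v w hvw
    rw [Fintype.card_eq_nat_card,
      ncard_sub Bf hmem _ (fun d => Disjoint v.1 d ∧ Disjoint w.1 d) (fun d => by
        rw [SimpleGraph.mem_commonNeighbors, hadj, hadj])]
    exact st_no_common_disjoint hα h6 h3 (hin v) (hin w) ((hadj v w).mp hvw)
  · intro v w hne hvw
    rw [Fintype.card_eq_nat_card,
      ncard_sub Bf hmem _ (fun d => Disjoint v.1 d ∧ Disjoint w.1 d) (fun d => by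
        rw [SimpleGraph.mem_commonNeighbors, hadj, hadj])]
    exact st_common_disjoint_of_meet hα h6 h3 (hin v) (hin w)
      (fun h => hne (Subtype.ext h)) (fun h => hvw ((hadj v w).mpr h))

end Cfsg.Agent.S0427
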