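import Cfsg.Statements.S1586
import Cfsg.Agent.Lib.Helper93.HSModel
import Cfsg.Agent.S0410
import Cfsg.Agent.S0414

set_option autoImplicit false
open Cfsg

namespace Cfsg.Agent.S1586

open Cfsg.Agent.Lib.Helper93 in
/-- the count for the standard family. -/
theorem card_aut_hsB :
    Nat.card (Cfsg.pointBlockGraph hsB ≃g Cfsg.pointBlockGraph hsB) = 88704000 := by
  have hfin : Finite (Cfsg.pointBlockGraph hsB ≃g Cfsg.pointBlockGraph hsB) :=
    Finite.of_injective (fun φ => (φ : Option (Fin 22 ⊕ hsB) → Option (Fin 22 ⊕ hsB)))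
      (fun φ ψ h => RelIso.ext (congrFun h))
  have h1 := Subgroup.card_mul_index (MulAction.stabilizer
    (Cfsg.pointBlockGraph hsB ≃g Cfsg.pointBlockGraph hsB) (none : Option (Fin 22 ⊕ hsB)))
  rw [MulAction.index_stabilizer, card_stabilizer_none,
    (Cfsg.Agent.S0414.result (by simp) hsB_steiner).1] at h1
  have horb : MulAction.orbit (Cfsg.pointBlockGraph hsB ≃g Cfsg.pointBlockGraph hsB)
      (none : Option (Fin 22 ⊕ hsB)) = Set.univ := by
    ext v
    simp only [Set.mem_univ, iff_true]
    obtain ⟨φ, hφ⟩ := hsB_transitive v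
    exact ⟨φ, hφ⟩
  rw [horb, Set.ncard_univ, Finite.card_option, Nat.card_sum, card_hsB] at h1
  simp only [Nat.card_eq_fintype_card, Fintype.card_fin] at h1
  omega

/-- The Higman–Sims graph built from an S(3, 6, 22) has exactly 88704000 automorphisms. -/
theorem result {α : Type*} [Fintype α] [DecidableEq α] (hα : Fintype.card α = 22) {B : Set (Finset α)} (hB : Cfsg.IsSteinerSystem 3 6 B) : Nat.card (Cfsg.pointBlockGraph B ≃g Cfsg.pointBlockGraph B) = 88704000 := by
  open Cfsg.Agent.Lib.Helper93 in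
  obtain ⟨e, he⟩ := Cfsg.Agent.S0410.result hα (by simp) hB hsB_steiner
  rw [card_aut_congr (pbIso e he)]
  exact card_aut_hsB

end Cfsg.Agent.S1586
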