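import Cfsg.Statements.S0431
import Cfsg.Agent.Lib.Helper35.HS100Odd
import Cfsg.Agent.Lib.Helper35.HSSimple
import Cfsg.Agent.S0410
import Cfsg.Agent.S0414
import Cfsg.Agent.S0427
import Cfsg.Agent.S1586

set_option autoImplicit false
open Cfsg

namespace Cfsg.Agent.S0431

open Cfsg.Agent.Lib.Helper35.PBG Cfsg.Agent.Lib.Helper35.HS100

/-- Aut of the point-block graph of an S(3, 6, 22) contains a simple subgroup of order 44352000. -/
theorem result {α : Type*} [Fintype α] (hα : Fintype.card α = 22) {B : Set (Finset α)} (hB : Cfsg.IsSteinerSystem 3 6 B) : ∃ H : Subgroup (Cfsg.pointBlockGraph B ≃g Cfsg.pointBlockGraph B), Cfsg.IsHS H := by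
  classical
  letI : Fintype B := Fintype.ofFinite B
  obtain ⟨-, h3, M0, hidx, hM0s, hM0c⟩ := Cfsg.Agent.S0414.result hα hB
  obtain ⟨e, he⟩ := Cfsg.Agent.S0410.result hα (by simp) hB steiner22
  have h77 : Nat.card B = 77 := by
    rw [Nat.card_eq_fintype_card]
    exact (Cfsg.Agent.S0427.result hα hB).card
  obtain ⟨⟨ψ, a0, hψ⟩, g0, hg0, hs, ⟨a1, hga⟩, b1, hgb⟩ := exists_data e he
  exact ⟨_, isHS_ker hα hB (Cfsg.Agent.S1586.result hα hB) h3 M0 hidx hM0s hM0c h77 ψ a0 hψ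
    (sgnHom (Cfsg.pointBlockGraph B)) g0 hg0 hs a1 hga b1 hgb⟩

end Cfsg.Agent.S0431
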