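import Cfsg.Statements.S1550
import Cfsg.Agent.Lib.Helper95.GolaySextet
import Cfsg.Agent.Lib.Helper95.GolayConcrete

set_option autoImplicit false
open scoped Pointwise
open Cfsg

namespace Cfsg.Agent.S1550

open Cfsg.Agent.Lib.Helper95

/-- Every 4-element set of the 24 points is a tetrad of exactly one sextet, and the sextets number 1771. -/
theorem result : (∀ t : Finset Cfsg.GolayPt, t.card = 4 → ∃! S : Finset (Finset Cfsg.GolayPt), S ∈ Cfsg.sextets ∧ t ∈ S) ∧ Cfsg.sextets.ncard = 1771 := by
  have hEq : Cfsg.sextets = sextetsOf Cfsg.golayCode := rfl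
  rw [hEq]
  exact ⟨g24_sextet_existsUnique golayPt_card Cfsg.golayCode golayCode_finrank golayCode_hmin,
    g24_sextets_ncard golayPt_card Cfsg.golayCode golayCode_finrank golayCode_hmin⟩

end Cfsg.Agent.S1550
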