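import Cfsg.Statements.S1593
import Cfsg.Agent.Lib.Helper35.TernaryGolay

set_option autoImplicit false
open Cfsg

namespace Cfsg.Agent.S1593

open Cfsg.Agent.Lib.Helper35

/-- The sign attached to a boolean. -/
def sg (t : Bool) : ZMod 3 := if t then 1 else 2

/-- Coordinatewise product of a sign list with a word list. -/
def mulL (d l : List (ZMod 3)) : Cfsg.ArrayPt → ZMod 3 := mk12 (List.zipWith (· * ·) d l)

theorem sign_key : ∀ t0 t1 t2 t3 t4 t5 t6 t7 t8 t9 t10 t11 : Bool,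
    (Cfsg.IsTernaryGolayWord (mulL [sg t0, sg t1, sg t2, sg t3, sg t4, sg t5, sg t6, sg t7, sg t8, sg t9, sg t10, sg t11]
        [1, 0, 0, 0, 0, 1, 0, 0, 1, 1, 1, 2]) ∧
     Cfsg.IsTernaryGolayWord (mulL [sg t0, sg t1, sg t2, sg t3, sg t4, sg t5, sg t6, sg t7, sg t8, sg t9, sg t10, sg t11]
        [0, 1, 0, 0, 0, 1, 0, 2, 2, 2, 0, 2]) ∧
     Cfsg.IsTernaryGolayWord (mulL [sg t0, sg t1, sg t2, sg t3, sg t4, sg t5, sg t6, sg t7, sg t8, sg t9, sg t10, sg t11]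
        [0, 0, 1, 0, 0, 1, 0, 1, 0, 2, 1, 1]) ∧
     Cfsg.IsTernaryGolayWord (mulL [sg t0, sg t1, sg t2, sg t3, sg t4, sg t5, sg t6, sg t7, sg t8, sg t9, sg t10, sg t11]
        [0, 0, 0, 1, 0, 2, 0, 2, 1, 2, 1, 0]) ∧
     Cfsg.IsTernaryGolayWord (mulL [sg t0, sg t1, sg t2, sg t3, sg t4, sg t5, sg t6, sg t7, sg t8, sg t9, sg t10, sg t11]
        [0, 0, 0, 0, 1, 2, 0, 1, 2, 0, 1, 2]) ∧
     Cfsg.IsTernaryGolayWord (mulL [sg t0, sg t1, sg t2, sg t3, sg t4, sg t5, sg t6, sg t7, sg t8, sg t9, sg t10, sg t11]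
        [0, 0, 0, 0, 0, 0, 1, 1, 1, 2, 2, 2])) →
    (t0 && t1 && t2 && t3 && t4 && t5 && t6 && t7 && t8 && t9 && t10 && t11) = true ∨
    (t0 || t1 || t2 || t3 || t4 || t5 || t6 || t7 || t8 || t9 || t10 || t11) = false := by
  decide +kernel

theorem unit_val (u : (ZMod 3)ˣ) : ∃ t : Bool, (u : ZMod 3) = sg t := by
  have h : ∀ z : ZMod 3, z ≠ 0 → z = 1 ∨ z = 2 := by decide
  rcases h (u : ZMod 3) u.ne_zero with h1 | h2
  · exact ⟨true, h1⟩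
  · exact ⟨false, h2⟩

theorem monomial_eq (c : Cfsg.ArrayPt → (ZMod 3)ˣ) (l : List (ZMod 3)) :
    Cfsg.monomialMap 1 c (mk12 l) =
      fun p => (c p : ZMod 3) * mk12 l p := by
  funext p
  rfl

theorem mul_mk12 (d : Cfsg.ArrayPt → ZMod 3) (l0 l1 l2 l3 l4 l5 l6 l7 l8 l9 l10 l11 : ZMod 3) :
    (fun p => d p * mk12 [l0, l1, l2, l3, l4, l5, l6, l7, l8, l9, l10, l11] p) =
      mulL [d (0,0), d (0,1), d (0,2), d (1,0), d (1,1), d (1,2), d (2,0), d (2,1), d (2,2),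
        d (3,0), d (3,1), d (3,2)] [l0, l1, l2, l3, l4, l5, l6, l7, l8, l9, l10, l11] := by
  funext ⟨i, r⟩
  fin_cases i <;> fin_cases r <;> rfl

theorem basis_words :
    word 1 0 0 0 0 0 = mk12 [1, 0, 0, 0, 0, 1, 0, 0, 1, 1, 1, 2] ∧
    word 0 1 0 0 0 0 = mk12 [0, 1, 0, 0, 0, 1, 0, 2, 2, 2, 0, 2] ∧
    word 0 0 1 0 0 0 = mk12 [0, 0, 1, 0, 0, 1, 0, 1, 0, 2, 1, 1] ∧
    word 0 0 0 1 0 0 = mk12 [0, 0, 0, 1, 0, 2, 0, 2, 1, 2, 1, 0] ∧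
    word 0 0 0 0 1 0 = mk12 [0, 0, 0, 0, 1, 2, 0, 1, 2, 0, 1, 2] ∧
    word 0 0 0 0 0 1 = mk12 [0, 0, 0, 0, 0, 0, 1, 1, 1, 2, 2, 2] := by
  decide +kernel


/-- The only sign changes preserving the length-12 ternary code are the identity and negation of all coordinates. -/
theorem result (c : Cfsg.ArrayPt → (ZMod 3)ˣ) (h : (∀ x ∈ Cfsg.ternaryGolayCode, Cfsg.monomialMap 1 c x ∈ Cfsg.ternaryGolayCode)) : (∀ p, c p = 1) ∨ (∀ p, c p = -1) := by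
  choose t ht using fun p => unit_val (c p)
  obtain ⟨b0, b1, b2, b3, b4, b5⟩ := basis_words
  have key : ∀ l0 l1 l2 l3 l4 l5 l6 l7 l8 l9 l10 l11 : ZMod 3,
      mk12 [l0, l1, l2, l3, l4, l5, l6, l7, l8, l9, l10, l11] ∈ Cfsg.ternaryGolayCode →
      Cfsg.IsTernaryGolayWord (mulL [sg (t (0,0)), sg (t (0,1)), sg (t (0,2)), sg (t (1,0)),
        sg (t (1,1)), sg (t (1,2)), sg (t (2,0)), sg (t (2,1)), sg (t (2,2)), sg (t (3,0)),
        sg (t (3,1)), sg (t (3,2))] [l0, l1, l2, l3, l4, l5, l6, l7, l8, l9, l10, l11]) := by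
    intro l0 l1 l2 l3 l4 l5 l6 l7 l8 l9 l10 l11 hl
    have := h _ hl
    rw [monomial_eq, mul_mk12 (fun p => (c p : ZMod 3))] at this
    simp only [ht] at this
    exact this
  have w0 := key _ _ _ _ _ _ _ _ _ _ _ _ (b0 ▸ word_mem 1 0 0 0 0 0)
  have w1 := key _ _ _ _ _ _ _ _ _ _ _ _ (b1 ▸ word_mem 0 1 0 0 0 0)
  have w2 := key _ _ _ _ _ _ _ _ _ _ _ _ (b2 ▸ word_mem 0 0 1 0 0 0)
  have w3 := key _ _ _ _ _ _ _ _ _ _ _ _ (b3 ▸ word_mem 0 0 0 1 0 0)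
  have w4 := key _ _ _ _ _ _ _ _ _ _ _ _ (b4 ▸ word_mem 0 0 0 0 1 0)
  have w5 := key _ _ _ _ _ _ _ _ _ _ _ _ (b5 ▸ word_mem 0 0 0 0 0 1)
  rcases sign_key _ _ _ _ _ _ _ _ _ _ _ _ ⟨w0, w1, w2, w3, w4, w5⟩ with hall | hnone
  · left
    simp only [Bool.and_eq_true] at hall
    obtain ⟨⟨⟨⟨⟨⟨⟨⟨⟨⟨⟨h0, h1⟩, h2⟩, h3⟩, h4⟩, h5⟩, h6⟩, h7⟩, h8⟩, h9⟩, h10⟩, h11⟩ := hall
    have hall' : ∀ p, t p = true := by
      rintro ⟨i, r⟩
      fin_cases i <;> fin_cases r <;> (first | exact h0 | exact h1 | exact h2 | exact h3 | exact h4 | exact h5 | exact h6 | exact h7 | exact h8 | exact h9 | exact h10 | exact h11)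
    intro p
    apply Units.ext
    rw [ht, hall' p]
    rfl
  · right
    simp only [Bool.or_eq_false_iff] at hnone
    obtain ⟨⟨⟨⟨⟨⟨⟨⟨⟨⟨⟨h0, h1⟩, h2⟩, h3⟩, h4⟩, h5⟩, h6⟩, h7⟩, h8⟩, h9⟩, h10⟩, h11⟩ := hnone
    have hneg : (2 : ZMod 3) = ((-1 : (ZMod 3)ˣ) : ZMod 3) := by decide
    have hall' : ∀ p, t p = false := by
      rintro ⟨i, r⟩
      fin_cases i <;> fin_cases r <;> (first | exact h0 | exact h1 | exact h2 | exact h3 | exact h4 | exact h5 | exact h6 | exact h7 | exact h8 | exact h9 | exact h10 | exact h11)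
    intro p
    apply Units.ext
    rw [ht, hall' p, ← hneg]
    rfl

end Cfsg.Agent.S1593
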