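import Cfsg.Statements.S0354
import Cfsg.Agent.Lib.Helper09.Steiner
-- import your own Cfsg.Agent.* helpers here

set_option autoImplicit false
open Cfsg

namespace Cfsg.Agent.S0354

open Cfsg.Agent.Lib.Helper09 Finset

/-- In an S(5, 8, 24), each block is disjoint from exactly 30 blocks. -/
theorem result {α : Type*} [Fintype α] [DecidableEq α] (hα : Fintype.card α = 24) {B : Set (Finset α)} (hB : Cfsg.IsSteinerSystem 5 8 B) {b : Finset α} (hb : b ∈ B) : {c : Finset α | c ∈ B ∧ Disjoint b c}.ncard = 30 := by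
  have S0 : ∑ c ∈ (blocks B).erase b, Nat.choose (b ∩ c).card 0 = 758 :=
    (sum_choose_inter_eq hB hb 0 759 (by norm_num) (by decide) (by rw [hα]; decide)).trans
      (by norm_num [Nat.choose])
  have S1 : ∑ c ∈ (blocks B).erase b, Nat.choose (b ∩ c).card 1 = 2016 :=
    (sum_choose_inter_eq hB hb 1 253 (by norm_num) (by decide) (by rw [hα]; decide)).trans
      (by norm_num [Nat.choose])
  have S2 : ∑ c ∈ (blocks B).erase b, Nat.choose (b ∩ c).card 2 = 2128 :=
    (sum_choose_inter_eq hB hb 2 77 (by norm_num) (by decide) (by rw [hα]; decide)).trans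
      (by norm_num [Nat.choose])
  have S3 : ∑ c ∈ (blocks B).erase b, Nat.choose (b ∩ c).card 3 = 1120 :=
    (sum_choose_inter_eq hB hb 3 21 (by norm_num) (by decide) (by rw [hα]; decide)).trans
      (by norm_num [Nat.choose])
  have S4 : ∑ c ∈ (blocks B).erase b, Nat.choose (b ∩ c).card 4 = 280 :=
    (sum_choose_inter_eq hB hb 4 5 (by norm_num) (by decide) (by rw [hα]; decide)).trans
      (by norm_num [Nat.choose])
  have hle : ∀ c ∈ (blocks B).erase b, (b ∩ c).card ≤ 4 := fun c hc =>
    Nat.lt_succ_iff.1 (card_inter_lt_of_mem_erase hB hb hc)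
  have key0 : ∀ c ∈ (blocks B).erase b,
      Nat.choose (b ∩ c).card 0 + Nat.choose (b ∩ c).card 2 + Nat.choose (b ∩ c).card 4
        = Nat.choose (b ∩ c).card 1 + Nat.choose (b ∩ c).card 3
          + (if (b ∩ c).card = 0 then 1 else 0) := by
    intro c hc
    have := hle c hc
    interval_cases (b ∩ c).card <;> decide
  have e0 := sum_congr rfl key0
  simp only [sum_add_distrib] at e0
  rw [S0, S1, S2, S3, S4] at e0
  have z0 : (∑ c ∈ (blocks B).erase b, if (b ∩ c).card = 0 then 1 else 0) = 30 := by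
    omega
  rw [← card_filter] at z0
  rw [← z0, ← Set.ncard_coe_finset]
  congr 1
  ext c
  simp only [Set.mem_ofPred_eq, coe_filter, mem_erase, mem_blocks, card_eq_zero,
    ← disjoint_iff_inter_eq_empty]
  constructor
  · rintro ⟨hc, hd⟩
    refine ⟨⟨?_, hc⟩, hd⟩
    rintro rfl
    rw [disjoint_self] at hd
    have := hB.1 c hc
    rw [hd] at this
    simp at this
  · rintro ⟨⟨_, hc⟩, hd⟩
    exact ⟨hc, hd⟩

end Cfsg.Agent.S0354
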