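import Cfsg.Statements.S1557
import Cfsg.Agent.S0354
import Cfsg.Agent.Lib.Helper95.GolayConcrete

set_option autoImplicit false
open scoped Pointwise
open Cfsg

namespace Cfsg.Agent.S1557

open Cfsg.Agent.Lib.Helper95

theorem octads_steiner : Cfsg.IsSteinerSystem 5 8 Cfsg.octads :=
  g24_isSteinerSystem golayPt_card Cfsg.golayCode golayCode_finrank golayCode_hmin

theorem bsupp_one_add (x : Cfsg.GolayPt → ZMod 2) : bsupp (1 + x) = (bsupp x)ᶜ := by
  ext i
  rw [Finset.mem_compl, mem_bsupp, mem_bsupp, Pi.add_apply, Pi.one_apply]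
  generalize x i = a
  revert a
  decide

theorem compl_union_mem (o o' : Finset Cfsg.GolayPt) (ho : o ∈ Cfsg.octads) (ho' : o' ∈ Cfsg.octads)
    (hd : Disjoint o o') : (o ∪ o')ᶜ ∈ Cfsg.octads := by
  obtain ⟨⟨c, hc, rfl⟩, h8⟩ := ho
  obtain ⟨⟨c', hc', rfl⟩, h8'⟩ := ho'
  simp only [support₂_eq_bsupp] at hd h8 h8' ⊢
  have hsupp : bsupp (1 + (c + c')) = (bsupp c ∪ bsupp c')ᶜ := by
    rw [bsupp_one_add, bsupp_add, Disjoint.symmDiff_eq_sup hd]
    rfl
  refine ⟨⟨1 + (c + c'), Cfsg.golayCode.add_mem golayCode_one_mem (Cfsg.golayCode.add_mem hc hc'),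
    ?_⟩, ?_⟩
  · rw [support₂_eq_bsupp, hsupp]
  · rw [Finset.card_compl, Finset.card_union_of_disjoint hd, h8, h8', golayPt_card]

/-- The trio determined by two disjoint octads. -/
def trioOf (x : Finset Cfsg.GolayPt × Finset Cfsg.GolayPt) : Finset (Finset Cfsg.GolayPt) :=
  {x.1, x.2, (x.1 ∪ x.2)ᶜ}

theorem octad_card {o : Finset Cfsg.GolayPt} (ho : o ∈ Cfsg.octads) : o.card = 8 := ho.2

theorem eq_trioOf (T : Finset (Finset Cfsg.GolayPt)) (hT : T ∈ Cfsg.trios)
    (x : Finset Cfsg.GolayPt × Finset Cfsg.GolayPt) (hx : x ∈ T.offDiag) : T = trioOf x := by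
  obtain ⟨hT3, hToct, hTdisj⟩ := hT
  rw [Finset.mem_offDiag] at hx
  obtain ⟨h1, h2, hne⟩ := hx
  apply Finset.eq_of_subset_of_card_le
  · intro y hy
    unfold trioOf
    rw [Finset.mem_insert, Finset.mem_insert, Finset.mem_singleton]
    by_cases hy1 : y = x.1
    · exact Or.inl hy1
    · by_cases hy2 : y = x.2
      · exact Or.inr (Or.inl hy2)
      · right; right
        have hd1 := hTdisj y hy x.1 h1 hy1
        have hd2 := hTdisj y hy x.2 h2 hy2
        have hd12 := hTdisj x.1 h1 x.2 h2 hne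
        apply Finset.eq_of_subset_of_card_le
        · intro p hp
          rw [Finset.mem_compl, Finset.mem_union]
          rintro (h | h)
          · exact Finset.disjoint_left.mp hd1 hp h
          · exact Finset.disjoint_left.mp hd2 hp h
        · rw [Finset.card_compl, Finset.card_union_of_disjoint hd12, octad_card (hToct _ h1),
            octad_card (hToct _ h2), octad_card (hToct _ hy), golayPt_card]
  · rw [hT3]
    unfold trioOf
    exact Finset.card_le_three

theorem trioOf_mem (x : Finset Cfsg.GolayPt × Finset Cfsg.GolayPt) (h1 : x.1 ∈ Cfsg.octads)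
    (h2 : x.2 ∈ Cfsg.octads) (hd : Disjoint x.1 x.2) :
    trioOf x ∈ Cfsg.trios ∧ x ∈ (trioOf x).offDiag := by
  have h3 := compl_union_mem x.1 x.2 h1 h2 hd
  have hd13 : Disjoint x.1 (x.1 ∪ x.2)ᶜ := by
    rw [Finset.disjoint_left]
    intro p hp hq
    rw [Finset.mem_compl, Finset.mem_union] at hq
    exact hq (Or.inl hp)
  have hd23 : Disjoint x.2 (x.1 ∪ x.2)ᶜ := by
    rw [Finset.disjoint_left]
    intro p hp hq
    rw [Finset.mem_compl, Finset.mem_union] at hq
    exact hq (Or.inr hp)
  have hne_of_disj : ∀ a b : Finset Cfsg.GolayPt, a ∈ Cfsg.octads → Disjoint a b → a ≠ b := by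
    rintro a b ha hab rfl
    rw [disjoint_self, Finset.bot_eq_empty] at hab
    have := octad_card ha
    rw [hab] at this
    simp at this
  have hne12 := hne_of_disj _ _ h1 hd
  have hne13 := hne_of_disj _ _ h1 hd13
  have hne23 := hne_of_disj _ _ h2 hd23
  refine ⟨⟨?_, ?_, ?_⟩, ?_⟩
  · unfold trioOf
    rw [Finset.card_insert_of_notMem, Finset.card_insert_of_notMem, Finset.card_singleton]
    · rw [Finset.mem_singleton]; exact hne23
    · rw [Finset.mem_insert, Finset.mem_singleton]
      rintro (h | h)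
      · exact hne12 h
      · exact hne13 h
  · intro o ho
    unfold trioOf at ho
    rw [Finset.mem_insert, Finset.mem_insert, Finset.mem_singleton] at ho
    rcases ho with rfl | rfl | rfl
    · exact h1
    · exact h2
    · exact h3
  · intro o ho o' ho' hne
    unfold trioOf at ho ho'
    rw [Finset.mem_insert, Finset.mem_insert, Finset.mem_singleton] at ho ho'
    rcases ho with rfl | rfl | rfl <;> rcases ho' with rfl | rfl | rfl
    · exact absurd rfl hne
    · exact hd
    · exact hd13
    · exact hd.symm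
    · exact absurd rfl hne
    · exact hd23
    · exact hd13.symm
    · exact hd23.symm
    · exact absurd rfl hne
  · rw [Finset.mem_offDiag]
    unfold trioOf
    refine ⟨?_, ?_, hne12⟩
    · exact Finset.mem_insert_self _ _
    · exact Finset.mem_insert_of_mem (Finset.mem_insert_self _ _)

theorem trios_ncard : Cfsg.trios.ncard = 3795 := by
  classical
  set O : Finset (Finset Cfsg.GolayPt) := (Set.toFinite Cfsg.octads).toFinset with hO
  have hOmem : ∀ o, o ∈ O ↔ o ∈ Cfsg.octads := fun o => Set.Finite.mem_toFinset _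
  set Tr : Finset (Finset (Finset Cfsg.GolayPt)) := (Set.toFinite Cfsg.trios).toFinset with hTr
  have hTrmem : ∀ T, T ∈ Tr ↔ T ∈ Cfsg.trios := fun T => Set.Finite.mem_toFinset _
  have hOcard : O.card = 759 := by
    rw [← Set.ncard_eq_toFinset_card Cfsg.octads (Set.toFinite _)]
    exact g24_octads_ncard golayPt_card Cfsg.golayCode golayCode_finrank golayCode_hmin
  set Pairs := (O ×ˢ O).filter (fun x => Disjoint x.1 x.2) with hPairs
  have hP1 : Pairs.card = 759 * 30 := by
    rw [hPairs, Finset.card_filter, Finset.sum_product]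
    have : ∀ o ∈ O, ∑ o' ∈ O, (if Disjoint (o, o').1 (o, o').2 then 1 else 0) = 30 := by
      intro o ho
      rw [← Finset.card_filter]
      have h30 := Cfsg.Agent.S0354.result golayPt_card octads_steiner ((hOmem o).mp ho)
      rw [← h30, ← Set.ncard_coe_finset]
      congr 1
      ext c
      simp only [Finset.coe_filter, Set.mem_ofPred_eq, hOmem]
    rw [Finset.sum_congr rfl this, Finset.sum_const, smul_eq_mul, hOcard]
  have hP2 : Pairs = Tr.biUnion Finset.offDiag := by
    ext x
    rw [hPairs, Finset.mem_filter, Finset.mem_product, Finset.mem_biUnion, hOmem, hOmem]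
    constructor
    · rintro ⟨⟨h1, h2⟩, hd⟩
      have := trioOf_mem x h1 h2 hd
      exact ⟨trioOf x, (hTrmem _).mpr this.1, this.2⟩
    · rintro ⟨T, hT, hx⟩
      have hT' := (hTrmem T).mp hT
      rw [Finset.mem_offDiag] at hx
      exact ⟨⟨hT'.2.1 _ hx.1, hT'.2.1 _ hx.2.1⟩, hT'.2.2 _ hx.1 _ hx.2.1 hx.2.2⟩
  have hdisj : ∀ T ∈ Tr, ∀ T' ∈ Tr, T ≠ T' → Disjoint T.offDiag T'.offDiag := by
    intro T hT T' hT' hne
    rw [Finset.disjoint_left]
    intro x hx hx'
    apply hne
    rw [eq_trioOf T ((hTrmem T).mp hT) x hx, eq_trioOf T' ((hTrmem T').mp hT') x hx']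
  have hcard := Finset.card_biUnion hdisj
  rw [← hP2, hP1] at hcard
  have h6 : ∀ T ∈ Tr, T.offDiag.card = 6 := by
    intro T hT
    rw [Finset.offDiag_card, ((hTrmem T).mp hT).1]
  rw [Finset.sum_congr rfl h6, Finset.sum_const, smul_eq_mul] at hcard
  have hfin : Cfsg.trios.ncard = Tr.card :=
    Set.ncard_eq_toFinset_card Cfsg.trios (Set.toFinite _)
  omega

/-- The complement of the union of two disjoint octads is an octad, and the code has exactly 3795 trios of pairwise disjoint octads. -/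
theorem result : (∀ o o' : Finset Cfsg.GolayPt, o ∈ Cfsg.octads → o' ∈ Cfsg.octads → Disjoint o o' → (o ∪ o')ᶜ ∈ Cfsg.octads) ∧ Cfsg.trios.ncard = 3795 := by
  exact ⟨compl_union_mem, trios_ncard⟩

end Cfsg.Agent.S1557
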