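import Cfsg.Statements.S0376
import Cfsg.Agent.Lib.Helper10.Order
import Cfsg.Agent.S0366

set_option autoImplicit false
open Cfsg

namespace Cfsg.Agent.S0376

open MulAction

/-- A point stabiliser in the group of the length-24 code has order 10200960 = 2^7·3^2·5·7·11·23. -/
theorem result (p : Cfsg.GolayPt) : Nat.card (MulAction.stabilizer Cfsg.M24 p) = 10200960 := by
  have h5 : IsMultiplyPretransitive M24 GolayPt 5 := Cfsg.Agent.S0366.result
  have h1 : IsMultiplyPretransitive M24 GolayPt 1 :=
    isMultiplyPretransitive_of_le (n := 5) (by decide) (by simp)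
  have ht : IsPretransitive M24 GolayPt := is_one_pretransitive_iff.mp h1
  have hi := index_stabilizer_of_transitive M24 p
  have hc := Subgroup.card_mul_index (stabilizer M24 p)
  rw [hi, Cfsg.Agent.Lib.Helper10.card_M24] at hc
  have h24 : Nat.card GolayPt = 24 := by
    rw [Nat.card_eq_fintype_card]; rfl
  rw [h24] at hc
  omega

end Cfsg.Agent.S0376
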