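import Cfsg.Statements.S5604
import Cfsg.Agent.Lib.Helper92.M24Seven2

set_option autoImplicit false
open Cfsg

namespace Cfsg.Agent.S5604

open Cfsg.Agent.Lib.Helper10 Cfsg.Agent.Lib.Helper95 Cfsg.Agent.Lib.Helper92
open scoped Pointwise
open Classical

/-- the standard element of order 7 as an element of the group. -/
noncomputable def s0' : ↥M24 := ⟨s0, s0_mem⟩

/-- the standard subgroup of order 7. -/
noncomputable def S0' : Subgroup ↥M24 := Subgroup.zpowers s0'

theorem s0_ne_one : s0 ≠ 1 := by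
  intro h
  have h4 := s0_pow_bpt (i := 1) (by norm_num)
  rw [pow_one, h] at h4
  simp only [Equiv.Perm.coe_one, id_eq] at h4
  exact absurd (bpt_injective (by norm_num) (by norm_num) h4) (by norm_num)

theorem orderOf_s0 : orderOf s0 = 7 :=
  orderOf_eq_prime (p := 7) (hp := ⟨by norm_num⟩) s0_pow_seven s0_ne_one

theorem orderOf_s0' : orderOf s0' = 7 := by
  rw [← orderOf_s0]
  exact (Subgroup.orderOf_coe s0').symm

theorem card_S0' : Nat.card S0' = 7 := by
  unfold S0'
  rw [Nat.card_zpowers, orderOf_s0']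

theorem coe_pow' (m : ℕ) : ((s0' ^ m : ↥M24) : Equiv.Perm GolayPt) = s0 ^ m := by
  simp [s0']

/-- a subgroup of `M24` described by a finset of permutations. -/
theorem card_subgroup_eq (K : Subgroup ↥M24) (F : Finset (Equiv.Perm GolayPt))
    (h : ∀ n : ↥M24, n ∈ K ↔ (n : Equiv.Perm GolayPt) ∈ F) (hF : ∀ x ∈ F, x ∈ M24) :
    Nat.card K = F.card := by
  have e : K ≃ F :=
    { toFun := fun k => ⟨k.1.1, (h k.1).mp k.2⟩
      invFun := fun x => ⟨⟨x.1, hF x.1 x.2⟩, (h _).mpr x.2⟩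
      left_inv := fun k => rfl
      right_inv := fun x => rfl }
  rw [Nat.card_congr e, Nat.card_eq_fintype_card, Fintype.card_coe]

theorem mem_S0'_iff (x : ↥M24) : x ∈ S0' ↔ ∃ m : ℕ, s0' ^ m = x := by
  unfold S0'
  rw [← mem_powers_iff_mem_zpowers, Submonoid.mem_powers_iff]

theorem mem_normalizer_S0' (n : ↥M24) :
    n ∈ Subgroup.normalizer (S0' : Set ↥M24) ↔ (n : Equiv.Perm GolayPt) ∈ normSeven := by
  rw [mem_normSeven]
  constructor
  · intro hn
    refine ⟨n.2, ?_⟩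
    have h1 : n * s0' * n⁻¹ ∈ S0' :=
      (Subgroup.mem_normalizer_iff.mp hn s0').mp (Subgroup.mem_zpowers s0')
    obtain ⟨m, hm⟩ := (mem_S0'_iff _).mp h1
    have hm' : s0' ^ (m % 7) = n * s0' * n⁻¹ := by
      rw [← hm, ← orderOf_s0', pow_mod_orderOf]
    have hj7 : m % 7 < 7 := Nat.mod_lt _ (by norm_num)
    have hj1 : 1 ≤ m % 7 := by
      by_contra hcon
      have h0 : m % 7 = 0 := by omega
      rw [h0, pow_zero] at hm'
      have h2 : s0' = 1 := by
        have h3 : n * s0' * n⁻¹ = 1 := hm'.symm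
        rw [mul_inv_eq_one] at h3
        exact mul_left_cancel (h3.trans (mul_one n).symm)
      have h4 := congrArg (fun x : ↥M24 => (x : Equiv.Perm GolayPt)) h2
      exact s0_ne_one h4
    refine ⟨m % 7, hj1, hj7, ?_⟩
    have h5 := congrArg (fun x : ↥M24 => (x : Equiv.Perm GolayPt)) hm'
    simp only [Subgroup.coe_mul, Subgroup.coe_inv, coe_pow'] at h5
    have h6 : (s0' : Equiv.Perm GolayPt) = s0 := rfl
    rw [h6] at h5
    rw [h5]
    group
  · rintro ⟨-, j, -, -, hrel⟩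
    have hconj : n * s0' * n⁻¹ = s0' ^ j := by
      apply Subtype.ext
      simp only [Subgroup.coe_mul, Subgroup.coe_inv, coe_pow']
      have h6 : (s0' : Equiv.Perm GolayPt) = s0 := rfl
      rw [h6, hrel]
      group
    apply Subgroup.mem_normalizer_fintype
    intro h hh
    obtain ⟨m, rfl⟩ := (mem_S0'_iff h).mp hh
    have h7 : n * s0' ^ m * n⁻¹ = (s0' ^ j) ^ m := by
      rw [← hconj, conj_pow]
    rw [SetLike.mem_coe, h7, ← pow_mul]
    exact (mem_S0'_iff _).mpr ⟨_, rfl⟩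

theorem mem_centralizer_S0' (c : ↥M24) :
    c ∈ Subgroup.centralizer (S0' : Set ↥M24) ↔ (c : Equiv.Perm GolayPt) ∈ centSeven := by
  rw [mem_centSeven, Subgroup.mem_centralizer_iff]
  constructor
  · intro hc
    refine ⟨c.2, ?_⟩
    have h1 := hc s0' (Subgroup.mem_zpowers s0')
    have h2 := congrArg (fun x : ↥M24 => (x : Equiv.Perm GolayPt)) h1
    exact h2.symm
  · rintro ⟨-, hrel⟩ h hh
    obtain ⟨m, rfl⟩ := (mem_S0'_iff h).mp hh
    have h1 : Commute s0' c := by
      apply Subtype.ext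
      exact hrel.symm
    exact (h1.pow_left m).eq

/-! ### transport to an arbitrary subgroup of order 7 -/

theorem exists_conj (S : Subgroup ↥M24) (hS : Nat.card S = 7) :
    ∃ g : ↥M24, ∀ x : ↥M24, x ∈ S ↔ g⁻¹ * x * g ∈ S0' := by
  have : Fact (Nat.Prime 7) := ⟨by norm_num⟩
  have hfac : (Nat.card ↥M24).factorization 7 = 1 := by
    rw [card_M24]
    have h1 : 1 ≤ (244823040 : ℕ).factorization 7 :=
      (Nat.Prime.pow_dvd_iff_le_factorization (by norm_num) (by norm_num)).mp (by norm_num)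
    have h2 : ¬ 2 ≤ (244823040 : ℕ).factorization 7 := fun h =>
      absurd ((Nat.Prime.pow_dvd_iff_le_factorization (by norm_num) (by norm_num)).mpr h)
        (by norm_num)
    omega
  let P : Sylow 7 ↥M24 := Sylow.ofCard S (by rw [hS, hfac, pow_one])
  let P0 : Sylow 7 ↥M24 := Sylow.ofCard S0' (by rw [card_S0', hfac, pow_one])
  obtain ⟨g, hg⟩ := MulAction.exists_smul_eq ↥M24 P0 P
  refine ⟨g, fun x => ?_⟩
  have h1 : S = MulAut.conj g • S0' := by
    have := congrArg (fun Q : Sylow 7 ↥M24 => (Q : Subgroup ↥M24)) hg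
    exact this.symm
  rw [h1, Subgroup.mem_pointwise_smul_iff_inv_smul_mem]
  simp [MulAut.smul_def]

theorem normalizer_transport (S : Subgroup ↥M24) (g : ↥M24)
    (hg : ∀ x : ↥M24, x ∈ S ↔ g⁻¹ * x * g ∈ S0') (n : ↥M24) :
    n ∈ Subgroup.normalizer (S : Set ↥M24) ↔
      g⁻¹ * n * g ∈ Subgroup.normalizer (S0' : Set ↥M24) := by
  rw [Subgroup.mem_normalizer_iff, Subgroup.mem_normalizer_iff]
  constructor
  · intro h x
    have h1 := h (g * x * g⁻¹)
    rw [hg, hg] at h1
    have e1 : g⁻¹ * (g * x * g⁻¹) * g = x := by group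
    have e2 : g⁻¹ * (n * (g * x * g⁻¹) * n⁻¹) * g = g⁻¹ * n * g * x * (g⁻¹ * n * g)⁻¹ := by group
    rw [e1, e2] at h1
    exact h1
  · intro h x
    have h1 := h (g⁻¹ * x * g)
    rw [hg, hg]
    have e2 : g⁻¹ * (n * x * n⁻¹) * g = g⁻¹ * n * g * (g⁻¹ * x * g) * (g⁻¹ * n * g)⁻¹ := by group
    rw [e2]
    exact h1

theorem centralizer_transport (S : Subgroup ↥M24) (g : ↥M24)
    (hg : ∀ x : ↥M24, x ∈ S ↔ g⁻¹ * x * g ∈ S0') (c : ↥M24) :
    c ∈ Subgroup.centralizer (S : Set ↥M24) ↔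
      g⁻¹ * c * g ∈ Subgroup.centralizer (S0' : Set ↥M24) := by
  rw [Subgroup.mem_centralizer_iff, Subgroup.mem_centralizer_iff]
  constructor
  · intro h x hx
    have h1 := h (g * x * g⁻¹) (by
      rw [SetLike.mem_coe, hg]
      have e1 : g⁻¹ * (g * x * g⁻¹) * g = x := by group
      rw [e1]
      exact hx)
    calc x * (g⁻¹ * c * g) = g⁻¹ * (g * x * g⁻¹ * c) * g := by group
      _ = g⁻¹ * (c * (g * x * g⁻¹)) * g := by rw [h1]
      _ = g⁻¹ * c * g * x := by group
  · intro h x hx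
    have h1 := h (g⁻¹ * x * g) ((hg x).mp hx)
    calc x * c = g * (g⁻¹ * x * g * (g⁻¹ * c * g)) * g⁻¹ := by group
      _ = g * (g⁻¹ * c * g * (g⁻¹ * x * g)) * g⁻¹ := by rw [h1]
      _ = c * x := by group


theorem smul_mem_trios {σ : Equiv.Perm GolayPt} (hσ : σ ∈ M24) {T : Finset (Finset GolayPt)}
    (hT : T ∈ trios) : σ • T ∈ trios := by
  refine ⟨?_, ?_, ?_⟩
  · rw [Finset.card_smul_finset]; exact hT.1
  · intro o ho
    obtain ⟨o0, ho0, rfl⟩ := Finset.mem_smul_finset.mp ho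
    exact smul_mem_octads hσ (hT.2.1 o0 ho0)
  · intro o ho o' ho' hne
    obtain ⟨o0, ho0, rfl⟩ := Finset.mem_smul_finset.mp ho
    obtain ⟨o1, ho1, rfl⟩ := Finset.mem_smul_finset.mp ho'
    have hne0 : o0 ≠ o1 := fun h => hne (by rw [h])
    have hd := hT.2.2 o0 ho0 o1 ho1 hne0
    rw [Finset.disjoint_iff_inter_eq_empty] at hd ⊢
    rw [← Finset.smul_finset_inter, hd, Finset.smul_finset_empty]

theorem conj_image_injective (g : Equiv.Perm GolayPt) :
    Function.Injective (fun x : Equiv.Perm GolayPt => g * x * g⁻¹) := by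
  intro x y h
  simpa using h

/-- For a subgroup S of order 7 of the group of the length-24 code (a Sylow 7-subgroup): the normaliser of S has order 126, the centraliser of S has order 42 and is non-abelian, and the whole normaliser leaves some trio invariant. (These are the orders of a Frobenius group of order 21 times a symmetric group of degree 3; the isomorphism type itself is not asserted here.) -/
theorem result (S : Subgroup ↥Cfsg.M24) (hS : Nat.card S = 7) : Nat.card ↥(Subgroup.normalizer (S : Set ↥Cfsg.M24)) = 126 ∧ Nat.card ↥(Subgroup.centralizer (S : Set ↥Cfsg.M24)) = 42 ∧ (∃ x ∈ Subgroup.centralizer (S : Set ↥Cfsg.M24), ∃ y ∈ Subgroup.centralizer (S : Set ↥Cfsg.M24), x * y ≠ y * x) ∧ ∃ T ∈ Cfsg.trios, ∀ n ∈ Subgroup.normalizer (S : Set ↥Cfsg.M24), ((n : ↥Cfsg.M24) : Equiv.Perm Cfsg.GolayPt) • T = T := by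
  obtain ⟨g, hg⟩ := exists_conj S hS
  have hconj : ∀ n : ↥M24, ((g⁻¹ * n * g : ↥M24) : Equiv.Perm GolayPt) =
      (g : Equiv.Perm GolayPt)⁻¹ * n * g := fun n => rfl
  have hN : ∀ n : ↥M24, n ∈ Subgroup.normalizer (S : Set ↥M24) ↔
      (n : Equiv.Perm GolayPt) ∈ normSeven.image (fun x => (g : Equiv.Perm GolayPt) * x * (g : Equiv.Perm GolayPt)⁻¹) := by
    intro n
    rw [normalizer_transport S g hg, mem_normalizer_S0', Finset.mem_image, hconj]
    constructor
    · intro h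
      exact ⟨_, h, by group⟩
    · rintro ⟨x, hx, hxn⟩
      rw [← hxn]
      have e : (g : Equiv.Perm GolayPt)⁻¹ * ((g : Equiv.Perm GolayPt) * x * (g : Equiv.Perm GolayPt)⁻¹) * g = x := by group
      rw [e]
      exact hx
  have hC : ∀ n : ↥M24, n ∈ Subgroup.centralizer (S : Set ↥M24) ↔
      (n : Equiv.Perm GolayPt) ∈ centSeven.image (fun x => (g : Equiv.Perm GolayPt) * x * (g : Equiv.Perm GolayPt)⁻¹) := by
    intro n
    rw [centralizer_transport S g hg, mem_centralizer_S0', Finset.mem_image, hconj]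
    constructor
    · intro h
      exact ⟨_, h, by group⟩
    · rintro ⟨x, hx, hxn⟩
      rw [← hxn]
      have e : (g : Equiv.Perm GolayPt)⁻¹ * ((g : Equiv.Perm GolayPt) * x * (g : Equiv.Perm GolayPt)⁻¹) * g = x := by group
      rw [e]
      exact hx
  refine ⟨?_, ?_, ?_, ?_⟩
  · rw [card_subgroup_eq _ _ hN, Finset.card_image_of_injective _ (conj_image_injective _),
      card_normSeven]
    intro x hx
    obtain ⟨y, hy, rfl⟩ := Finset.mem_image.mp hx
    exact M24.mul_mem (M24.mul_mem g.2 ((mem_normSeven y).mp hy).1) (M24.inv_mem g.2)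
  · rw [card_subgroup_eq _ _ hC, Finset.card_image_of_injective _ (conj_image_injective _),
      card_centSeven]
    intro x hx
    obtain ⟨y, hy, rfl⟩ := Finset.mem_image.mp hx
    exact M24.mul_mem (M24.mul_mem g.2 ((mem_centSeven y).mp hy).1) (M24.inv_mem g.2)
  · obtain ⟨x, hx, y, hy, hxy⟩ := centSeven_noncomm
    have hxM : x ∈ M24 := ((mem_centSeven x).mp hx).1
    have hyM : y ∈ M24 := ((mem_centSeven y).mp hy).1
    refine ⟨g * ⟨x, hxM⟩ * g⁻¹, ?_, g * ⟨y, hyM⟩ * g⁻¹, ?_, ?_⟩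
    · rw [hC, Finset.mem_image]
      exact ⟨x, hx, rfl⟩
    · rw [hC, Finset.mem_image]
      exact ⟨y, hy, rfl⟩
    · intro h
      apply hxy
      have h1 : (⟨x, hxM⟩ : ↥M24) * ⟨y, hyM⟩ = ⟨y, hyM⟩ * ⟨x, hxM⟩ := by
        have e1 : (⟨x, hxM⟩ : ↥M24) * ⟨y, hyM⟩ =
            g⁻¹ * (g * ⟨x, hxM⟩ * g⁻¹ * (g * ⟨y, hyM⟩ * g⁻¹)) * g := by group
        rw [e1, h]
        group
      exact congrArg (fun z : ↥M24 => (z : Equiv.Perm GolayPt)) h1
  · refine ⟨(g : Equiv.Perm GolayPt) • trio7, smul_mem_trios g.2 trio7_mem, ?_⟩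
    intro n hn
    have h1 := (normalizer_transport S g hg n).mp hn
    rw [mem_normalizer_S0', hconj] at h1
    have h2 := normSeven_trio _ h1
    rw [smul_smul]
    have e : (n : Equiv.Perm GolayPt) * g =
        g * ((g : Equiv.Perm GolayPt)⁻¹ * n * g) := by group
    rw [e, ← smul_smul, h2]

end Cfsg.Agent.S5604
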