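import Cfsg.Statements.S0385
import Cfsg.Agent.Lib.Helper10.Inter
import Cfsg.Agent.S0363

set_option autoImplicit false
open Cfsg

namespace Cfsg.Agent.S0385

open Cfsg.Agent.Lib.Helper10

/-- The 6-point intersections of octads with a fixed dodecad form a Steiner system S(5, 6, 12) on the dodecad. -/
theorem result (d : Finset Cfsg.GolayPt) (hd : d ∈ Cfsg.dodecads) : Cfsg.IsSteinerSystem 5 6 {h : Finset {p : Cfsg.GolayPt // p ∈ d} | ∃ o ∈ Cfsg.octads, (o ∩ d).card = 6 ∧ h = Finset.subtype (fun p => p ∈ d) o} := by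
  constructor
  · rintro b ⟨o, _, h6, rfl⟩
    rw [Finset.card_subtype, Finset.filter_mem_eq_inter]
    exact h6
  · intro s hs
    let s' : Finset GolayPt := s.map (Function.Embedding.subtype _)
    have hs' : s'.card = 5 := by rw [Finset.card_map]; exact hs
    have hs'd : s' ⊆ d := by
      intro p hp
      rw [Finset.mem_map] at hp
      obtain ⟨x, _, rfl⟩ := hp
      exact x.2
    obtain ⟨o, ⟨ho, hso⟩, huniq⟩ := Cfsg.Agent.S0363.result.2 s' hs'
    have h5 : 5 ≤ (o ∩ d).card := by
      rw [← hs']
      exact Finset.card_le_card (Finset.subset_inter hso hs'd)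
    have h6 : (o ∩ d).card = 6 := by
      rcases card_octad_inter_dodecad ho hd with h | h | h <;> omega
    refine ⟨Finset.subtype (fun p => p ∈ d) o, ⟨⟨o, ho, h6, rfl⟩, ?_⟩, ?_⟩
    · intro x hx
      rw [Finset.mem_subtype]
      apply hso
      exact Finset.mem_map_of_mem _ hx
    · rintro b ⟨⟨o', ho', _, rfl⟩, hsb⟩
      have : o' = o := by
        apply huniq
        refine ⟨ho', ?_⟩
        intro p hp
        rw [Finset.mem_map] at hp
        obtain ⟨x, hx, rfl⟩ := hp
        have := hsb hx
        rw [Finset.mem_subtype] at this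
        exact this
      rw [this]

end Cfsg.Agent.S0385
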