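import Cfsg.Statements.S1595
import Cfsg.Agent.Lib.Helper95.SteinerLeech

set_option autoImplicit false
open Cfsg

namespace Cfsg.Agent.S1595

open Cfsg.Agent.Lib.Helper95 Cfsg.Agent.Lib.Helper09

/-- Numbers of blocks through an `i`-subset of a block. -/
def lam : ℕ → ℕ
  | 0 => 132
  | 1 => 66
  | 2 => 30
  | 3 => 12
  | 4 => 4
  | _ => 1

/-- Numbers of blocks meeting a block exactly in a given `i`-subset. -/
def G : ℕ → ℕ
  | 0 => 1
  | 2 => 3
  | 3 => 2
  | 4 => 3
  | 6 => 1
  | _ => 0

theorem table {α : Type*} [Fintype α] [DecidableEq α] (hα : Fintype.card α = 12)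
    {B : Set (Finset α)} (hB : Cfsg.IsSteinerSystem 5 6 B) (b : Finset α) (hb : b ∈ B) :
    ∀ s : Finset α, s ⊆ b → meetCount B b s = G s.card := by
  have hbk : b.card = 6 := hB.1 b hb
  have hlam : ∀ s : Finset α, s ⊆ b → ((blocks B).filter (s ⊆ ·)).card = lam s.card := by
    intro s hsb
    have hle : s.card ≤ 6 := by rw [← hbk]; exact Finset.card_le_card hsb
    rcases Nat.lt_or_ge s.card 5 with h | h
    · obtain ⟨i, hi⟩ : ∃ i, s.card = i := ⟨_, rfl⟩
      rw [hi]
      rw [hi] at h
      interval_cases i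
      · exact card_blocks_through_eq hB 0 132 (by norm_num) (by decide) (by rw [hα]; decide) s hi
      · exact card_blocks_through_eq hB 1 66 (by norm_num) (by decide) (by rw [hα]; decide) s hi
      · exact card_blocks_through_eq hB 2 30 (by norm_num) (by decide) (by rw [hα]; decide) s hi
      · exact card_blocks_through_eq hB 3 12 (by norm_num) (by decide) (by rw [hα]; decide) s hi
      · exact card_blocks_through_eq hB 4 4 (by norm_num) (by decide) (by rw [hα]; decide) s hi
    · rw [blocks_through_of_le hB hb s hsb h]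
      obtain ⟨i, hi⟩ : ∃ i, s.card = i := ⟨_, rfl⟩
      rw [hi]
      rw [hi] at h hle
      interval_cases i <;> rfl
  apply leech_table B b lam G hlam
  rw [hbk]
  intro i hi
  interval_cases i <;> decide

/-- Leech triangle of S(5, 6, 12): blocks meet in 0, 2, 3 or 4 points, and a block is met exactly in a given 2-, 3- or 4-subset by 3, 2, 3 blocks respectively. -/
theorem result {α : Type*} [Fintype α] [DecidableEq α] (hα : Fintype.card α = 12) {B : Set (Finset α)} (hB : Cfsg.IsSteinerSystem 5 6 B) (b : Finset α) (hb : b ∈ B) : (∀ c ∈ B, c ≠ b → (b ∩ c).card = 0 ∨ (b ∩ c).card = 2 ∨ (b ∩ c).card = 3 ∨ (b ∩ c).card = 4) ∧ ∀ s ⊆ b, (s.card = 2 → {c : Finset α | c ∈ B ∧ b ∩ c = s}.ncard = 3) ∧ (s.card = 3 → {c : Finset α | c ∈ B ∧ b ∩ c = s}.ncard = 2) ∧ (s.card = 4 → {c : Finset α | c ∈ B ∧ b ∩ c = s}.ncard = 3) := by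
  have htab := table hα hB b hb
  have hbk : b.card = 6 := hB.1 b hb
  refine ⟨?_, ?_⟩
  · intro c hc hne
    have hpos := meetCount_pos_of_mem B b c hc
    rw [htab (b ∩ c) Finset.inter_subset_left] at hpos
    have hle : (b ∩ c).card ≤ 6 := by
      rw [← hbk]; exact Finset.card_le_card Finset.inter_subset_left
    obtain ⟨i, hi⟩ : ∃ i, (b ∩ c).card = i := ⟨_, rfl⟩
    rw [hi] at hpos hle ⊢
    interval_cases i
    · exact Or.inl rfl
    · exact absurd hpos (by decide)
    · exact Or.inr (Or.inl rfl)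
    · exact Or.inr (Or.inr (Or.inl rfl))
    · exact Or.inr (Or.inr (Or.inr rfl))
    · exact absurd hpos (by decide)
    · exfalso
      apply hne
      have h1 : b ∩ c = b :=
        Finset.eq_of_subset_of_card_le Finset.inter_subset_left (by rw [hi, hbk])
      have h2 : b ⊆ c := by rw [← h1]; exact Finset.inter_subset_right
      exact (Finset.eq_of_subset_of_card_le h2 (by rw [hB.1 c hc, hbk])).symm
  · intro s hsb
    refine ⟨?_, ?_, ?_⟩
    · intro hs
      rw [ncard_eq_meetCount, htab s hsb, hs]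
      rfl
    · intro hs
      rw [ncard_eq_meetCount, htab s hsb, hs]
      rfl
    · intro hs
      rw [ncard_eq_meetCount, htab s hsb, hs]
      rfl

end Cfsg.Agent.S1595
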