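import Cfsg.Statements.S1596
import Cfsg.Agent.Lib.Helper95.GolayHexad

set_option autoImplicit false
open scoped Pointwise
open Cfsg

namespace Cfsg.Agent.S1596

open Cfsg.Agent.Lib.Helper95

theorem card_union_six {a b : Finset Cfsg.GolayPt} (ha : a.card = 3) (hb : b.card = 3)
    (h : (a ∪ b).card = 6) : Disjoint a b := by
  rw [Finset.disjoint_iff_inter_eq_empty, ← Finset.card_eq_zero]
  have := Finset.card_union_add_card_inter a b
  omega

theorem eq_of_union_eq {t a b : Finset Cfsg.GolayPt} (ha : Disjoint t a) (hb : Disjoint t b)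
    (h : t ∪ a = t ∪ b) : a = b := by
  have h1 : (t ∪ a) \ t = a := Finset.union_sdiff_cancel_left ha
  have h2 : (t ∪ b) \ t = b := Finset.union_sdiff_cancel_left hb
  rw [← h1, ← h2, h]

/-- A quartet of a dodecad is determined by any two of its triples: two disjoint triples uniting to a hexad extend to exactly one quartet. -/
theorem result (d : Finset Cfsg.GolayPt) (hd : d ∈ Cfsg.dodecads) (t u : Finset Cfsg.GolayPt) (ht : t.card = 3) (hu : u.card = 3) (htu : Disjoint t u) (hh : t ∪ u ∈ Cfsg.hexadsOn d) : ∃! Q : Finset (Finset Cfsg.GolayPt), Q ∈ Cfsg.quartets d ∧ t ∈ Q ∧ u ∈ Q := by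
  classical
  have hd12 : d.card = 12 := hd.2
  have hh6 : (t ∪ u).card = 6 := hh.1
  have hhd : t ∪ u ⊆ d := hexad_subset hh
  obtain ⟨k1, hk1, hk1t⟩ := exists_hexad_meeting hd hh Finset.subset_union_left ht
  have hk1d : k1 ⊆ d := hexad_subset hk1
  have htk1 : t ⊆ k1 := by rw [← hk1t]; exact Finset.inter_subset_right
  set v := k1 \ t with hv
  have hv3 : v.card = 3 := by rw [hv, Finset.card_sdiff_of_subset htk1, hk1.1, ht]
  -- pointwise facts
  have ptd : ∀ x, x ∈ t → x ∈ d := fun x hx => hhd (Finset.mem_union_left _ hx)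
  have pud : ∀ x, x ∈ u → x ∈ d := fun x hx => hhd (Finset.mem_union_right _ hx)
  have pvd : ∀ x, x ∈ v → x ∈ d := fun x hx => hk1d (Finset.mem_sdiff.mp hx).1
  have ptu : ∀ x, x ∈ t → x ∉ u := fun x hx hx' => Finset.disjoint_left.mp htu hx hx'
  have pvt : ∀ x, x ∈ v → x ∉ t := fun x hx => (Finset.mem_sdiff.mp hx).2
  have pvu : ∀ x, x ∈ v → x ∉ u := by
    intro x hx hxu
    have : x ∈ (t ∪ u) ∩ k1 :=
      Finset.mem_inter.mpr ⟨Finset.mem_union_right _ hxu, (Finset.mem_sdiff.mp hx).1⟩
    rw [hk1t] at this
    exact pvt x hx this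
  have hk1eq : k1 = t ∪ v := by
    rw [hv, Finset.union_sdiff_of_subset htk1]
  set w := d \ (t ∪ u ∪ v) with hw
  have pwd : ∀ x, x ∈ w → x ∈ d := fun x hx => (Finset.mem_sdiff.mp hx).1
  have pw : ∀ x, x ∈ w ↔ x ∈ d ∧ x ∉ t ∧ x ∉ u ∧ x ∉ v := by
    intro x
    rw [hw, Finset.mem_sdiff, Finset.mem_union, Finset.mem_union]
    tauto
  have htuv9 : (t ∪ u ∪ v).card = 9 := by
    rw [Finset.card_union_of_disjoint, hh6, hv3]
    rw [Finset.disjoint_left]
    intro x hx hxv
    rw [Finset.mem_union] at hx
    rcases hx with hx | hx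
    · exact pvt x hxv hx
    · exact pvu x hxv hx
  have hw3 : w.card = 3 := by
    rw [hw, Finset.card_sdiff_of_subset, hd12, htuv9]
    intro x hx
    rw [Finset.mem_union, Finset.mem_union] at hx
    rcases hx with (hx | hx) | hx
    · exact ptd x hx
    · exact pud x hx
    · exact pvd x hx
  -- the six hexads
  have Htu : t ∪ u ∈ Cfsg.hexadsOn d := hh
  have Htv : t ∪ v ∈ Cfsg.hexadsOn d := hk1eq ▸ hk1
  have Huv : u ∪ v ∈ Cfsg.hexadsOn d := by
    have h3 : ((t ∪ u) ∩ k1).card = 3 := by rw [hk1t, ht]
    have := hexad_symmDiff hh hk1 h3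
    have hEq : symmDiff (t ∪ u) k1 = u ∪ v := by
      ext x
      have h1 := ptu x
      have h2 := pvt x
      have h3 := pvu x
      rw [hk1eq]
      simp only [Finset.mem_symmDiff, Finset.mem_union]
      tauto
    rw [hEq] at this
    exact this
  have Hvw : v ∪ w ∈ Cfsg.hexadsOn d := by
    have := hexad_compl hd Htu
    have hEq : d \ (t ∪ u) = v ∪ w := by
      ext x
      have h1 := pvd x
      have h2 := pvt x
      have h3 := pvu x
      have h4 := pw x
      simp only [Finset.mem_sdiff, Finset.mem_union]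
      tauto
    rw [hEq] at this
    exact this
  have Huw : u ∪ w ∈ Cfsg.hexadsOn d := by
    have := hexad_compl hd Htv
    have hEq : d \ (t ∪ v) = u ∪ w := by
      ext x
      have h1 := pud x
      have h2 := ptu x
      have h3 := pvu x
      have h4 := pw x
      simp only [Finset.mem_sdiff, Finset.mem_union]
      tauto
    rw [hEq] at this
    exact this
  have Htw : t ∪ w ∈ Cfsg.hexadsOn d := by
    have := hexad_compl hd Huv
    have hEq : d \ (u ∪ v) = t ∪ w := by
      ext x
      have h1 := ptd x
      have h2 := ptu x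
      have h3 := pvt x
      have h4 := pw x
      simp only [Finset.mem_sdiff, Finset.mem_union]
      tauto
    rw [hEq] at this
    exact this
  -- disjointness
  have Dtu : Disjoint t u := htu
  have Dtv : Disjoint t v := card_union_six ht hv3 Htv.1
  have Dtw : Disjoint t w := card_union_six ht hw3 Htw.1
  have Duv : Disjoint u v := card_union_six hu hv3 Huv.1
  have Duw : Disjoint u w := card_union_six hu hw3 Huw.1
  have Dvw : Disjoint v w := card_union_six hv3 hw3 Hvw.1
  have ne_of_disj : ∀ a b : Finset Cfsg.GolayPt, a.card = 3 → Disjoint a b → a ≠ b := by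
    rintro a b ha hab rfl
    rw [disjoint_self, Finset.bot_eq_empty] at hab
    rw [hab] at ha
    simp at ha
  have Ntu := ne_of_disj t u ht Dtu
  have Ntv := ne_of_disj t v ht Dtv
  have Ntw := ne_of_disj t w ht Dtw
  have Nuv := ne_of_disj u v hu Duv
  have Nuw := ne_of_disj u w hu Duw
  have Nvw := ne_of_disj v w hv3 Dvw
  have hQcard : ({t, u, v, w} : Finset (Finset Cfsg.GolayPt)).card = 4 := by
    rw [Finset.card_insert_of_notMem, Finset.card_insert_of_notMem, Finset.card_pair Nvw]
    · rw [Finset.mem_insert, Finset.mem_singleton]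
      rintro (h | h)
      · exact Nuv h
      · exact Nuw h
    · rw [Finset.mem_insert, Finset.mem_insert, Finset.mem_singleton]
      rintro (h | h | h)
      · exact Ntu h
      · exact Ntv h
      · exact Ntw h
  have hwd : w ⊆ d := fun x hx => pwd x hx
  have hQ : ({t, u, v, w} : Finset (Finset Cfsg.GolayPt)) ∈ Cfsg.quartets d := by
    refine ⟨hQcard, ?_, ?_⟩
    · intro x hx
      rw [Finset.mem_insert, Finset.mem_insert, Finset.mem_insert, Finset.mem_singleton] at hx
      rcases hx with rfl | rfl | rfl | rfl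
      · exact ⟨ht, fun y hy => ptd y hy⟩
      · exact ⟨hu, fun y hy => pud y hy⟩
      · exact ⟨hv3, fun y hy => pvd y hy⟩
      · exact ⟨hw3, hwd⟩
    · intro x hx y hy hne
      rw [Finset.mem_insert, Finset.mem_insert, Finset.mem_insert, Finset.mem_singleton] at hx hy
      rcases hx with rfl | rfl | rfl | rfl <;> rcases hy with rfl | rfl | rfl | rfl
      · exact absurd rfl hne
      · exact Htu
      · exact Htv
      · exact Htw
      · rw [Finset.union_comm]; exact Htu
      · exact absurd rfl hne
      · exact Huv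
      · exact Huw
      · rw [Finset.union_comm]; exact Htv
      · rw [Finset.union_comm]; exact Huv
      · exact absurd rfl hne
      · exact Hvw
      · rw [Finset.union_comm]; exact Htw
      · rw [Finset.union_comm]; exact Huw
      · rw [Finset.union_comm]; exact Hvw
      · exact absurd rfl hne
  refine ⟨{t, u, v, w}, ⟨hQ, Finset.mem_insert_self _ _,
    Finset.mem_insert_of_mem (Finset.mem_insert_self _ _)⟩, ?_⟩
  rintro Q' ⟨⟨hQ'4, hQ'3, hQ'h⟩, htQ', huQ'⟩
  apply Finset.eq_of_subset_of_card_le
  · intro x hx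
    rw [Finset.mem_insert, Finset.mem_insert, Finset.mem_insert, Finset.mem_singleton]
    by_cases hxt : x = t
    · exact Or.inl hxt
    · by_cases hxu : x = u
      · exact Or.inr (Or.inl hxu)
      · right; right
        have hx3 := (hQ'3 x hx).1
        have hxd := (hQ'3 x hx).2
        have Htx := hQ'h t htQ' x hx (Ne.symm hxt)
        have Hux := hQ'h u huQ' x hx (Ne.symm hxu)
        have Dtx : Disjoint t x := card_union_six ht hx3 Htx.1
        have Dux : Disjoint u x := card_union_six hu hx3 Hux.1
        have hxvw : x = (x ∩ v) ∪ (x ∩ w) := by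
          ext y
          have h1 := pw y
          have h2 : y ∈ x → y ∈ d := fun h => hxd h
          have h3 : y ∈ x → y ∉ t := fun h h' => Finset.disjoint_left.mp Dtx h' h
          have h4 : y ∈ x → y ∉ u := fun h h' => Finset.disjoint_left.mp Dux h' h
          simp only [Finset.mem_union, Finset.mem_inter]
          constructor
          · intro hy
            by_cases hyv : y ∈ v
            · exact Or.inl ⟨hy, hyv⟩
            · exact Or.inr ⟨hy, h1.mpr ⟨h2 hy, h3 hy, h4 hy, hyv⟩⟩
          · rintro (⟨h, -⟩ | ⟨h, -⟩) <;> exact h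
        have hsum : (x ∩ v).card + (x ∩ w).card = 3 := by
          rw [← Finset.card_union_of_disjoint, ← hxvw, hx3]
          exact Finset.disjoint_of_subset_left Finset.inter_subset_right
            (Finset.disjoint_of_subset_right Finset.inter_subset_right Dvw)
        have key : ∀ z : Finset Cfsg.GolayPt, t ∪ z ∈ Cfsg.hexadsOn d → Disjoint t z →
            2 ≤ (x ∩ z).card → x = z := by
          intro z Htz Dtz h2
          apply eq_of_union_eq Dtx Dtz
          apply hexad_eq_of_inter Htx Htz
          have hsub : t ∪ (x ∩ z) ⊆ (t ∪ x) ∩ (t ∪ z) := by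
            intro y hy
            rw [Finset.mem_union, Finset.mem_inter] at hy
            rw [Finset.mem_inter, Finset.mem_union, Finset.mem_union]
            rcases hy with hy | ⟨hy1, hy2⟩
            · exact ⟨Or.inl hy, Or.inl hy⟩
            · exact ⟨Or.inr hy1, Or.inr hy2⟩
          have hc : (t ∪ (x ∩ z)).card = 3 + (x ∩ z).card := by
            rw [Finset.card_union_of_disjoint, ht]
            exact Finset.disjoint_of_subset_right Finset.inter_subset_left Dtx
          have := Finset.card_le_card hsub
          omega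
        by_cases h2 : 2 ≤ (x ∩ v).card
        · exact Or.inl (key v Htv Dtv h2)
        · exact Or.inr (key w Htw Dtw (by omega))
  · rw [hQcard, hQ'4]

end Cfsg.Agent.S1596
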