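import Mathlib
import Cfsg.Statements.S5357
import Cfsg.Agent.Lib.Helper50.SpinorCrit
import Cfsg.Agent.Lib.Helper50.Isotropic

set_option autoImplicit false
open scoped MatrixGroups
open Cfsg

namespace Cfsg.Agent.S5357

open Matrix Cfsg.Agent.Lib.Helper50 Cfsg.Agent.Lib.Helper19

section general

variable {F : Type*} [Field F] {V : Type*} [AddCommGroup V] [Module F V]

theorem quad_add_smul (Q : QuadraticForm F V) (x t : V) (a : F) :
    Q (x + a • t) = Q x + a * a * Q t + a * QuadraticMap.polar (⇑Q) x t := by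
  have h1 : Q (x + a • t) = Q x + Q (a • t) + QuadraticMap.polar (⇑Q) x (a • t) := by
    simp only [QuadraticMap.polar]; ring
  rw [h1, QuadraticMap.map_smul, QuadraticMap.polar_smul_right]
  simp only [smul_eq_mul]

/-- a nondegenerate subspace of dimension at least 3 over a finite field represents everything -/
theorem exists_norm_of_nondeg_sub [Finite F] [FiniteDimensional F V]
    (Q : QuadraticForm F V) (S : Submodule F V) (h3 : 3 ≤ Module.finrank F S)
    (hS : ∀ t ∈ S, t ≠ 0 → ∃ t' ∈ S, QuadraticMap.polar (⇑Q) t' t ≠ 0) (c : F) :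
    ∃ t ∈ S, Q t = c := by
  obtain ⟨t0, ht0, hQ0⟩ := exists_isotropic (Q.comp S.subtype) h3
  have hQ0' : Q (t0 : V) = 0 := by simpa using hQ0
  have ht0' : (t0 : V) ≠ 0 := by
    intro h; apply ht0; exact Subtype.ext h
  obtain ⟨t', ht'S, hp⟩ := hS t0 t0.2 ht0'
  refine ⟨t' + ((c - Q t') / QuadraticMap.polar (⇑Q) t' t0) • (t0 : V),
    S.add_mem ht'S (S.smul_mem _ t0.2), ?_⟩
  rw [quad_add_smul, hQ0']
  field_simp
  ring

end general

section refl

variable {n : ℕ} (Q : QuadraticForm (ZMod 3) (Fin n → ZMod 3))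

theorem polar_self' (v : Fin n → ZMod 3) : QuadraticMap.polar (⇑Q) v v = 2 * Q v := by
  rw [QuadraticMap.polar_self, two_smul, two_mul]

theorem unit_sq (d : ZMod 3) (hd : d ≠ 0) : d * d = 1 := by
  revert d; decide

theorem two_ne : (2 : ZMod 3) ≠ 0 := by decide

/-- the orthogonal complement of two orthogonal vectors of norm `c` is a nondegenerate subspace
  of codimension at most two -/
theorem exists_orth_norm (hn : 5 ≤ n) (hQ : (QuadraticMap.polarBilin Q).Nondegenerate)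
    (c : ZMod 3) (hc : c ≠ 0) (u v : Fin n → ZMod 3) (hu : Q u = c) (hv : Q v = c)
    (huv : QuadraticMap.polar (⇑Q) u v = 0) (e : ZMod 3) :
    ∃ t, QuadraticMap.polar (⇑Q) u t = 0 ∧ QuadraticMap.polar (⇑Q) v t = 0 ∧ Q t = e := by
  let f : (Fin n → ZMod 3) →ₗ[ZMod 3] (ZMod 3 × ZMod 3) :=
    LinearMap.prod (QuadraticMap.polarBilin Q u) (QuadraticMap.polarBilin Q v)
  have hf : ∀ x, x ∈ LinearMap.ker f ↔
      QuadraticMap.polar (⇑Q) u x = 0 ∧ QuadraticMap.polar (⇑Q) v x = 0 := by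
    intro x
    simp [f, LinearMap.mem_ker]
  have hrank : 3 ≤ Module.finrank (ZMod 3) (LinearMap.ker f) := by
    have h1 := LinearMap.finrank_range_add_finrank_ker f
    have h2 : Module.finrank (ZMod 3) (LinearMap.range f) ≤ 2 := by
      have := Submodule.finrank_le (LinearMap.range f)
      simpa [Module.finrank_prod] using this
    have h3 : Module.finrank (ZMod 3) (Fin n → ZMod 3) = n := by simp
    omega
  have h2 : (2 : ZMod 3) ≠ 0 := two_ne
  have h2c : (2 : ZMod 3) * c ≠ 0 := mul_ne_zero two_ne hc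
  have hS : ∀ t ∈ LinearMap.ker f, t ≠ 0 →
      ∃ t' ∈ LinearMap.ker f, QuadraticMap.polar (⇑Q) t' t ≠ 0 := by
    intro t ht ht0
    rw [hf] at ht
    have : ∃ x, QuadraticMap.polar (⇑Q) x t ≠ 0 := by
      by_contra hcon
      push Not at hcon
      apply ht0
      apply hQ.2 t
      intro x
      simpa using hcon x
    obtain ⟨x, hx⟩ := this
    set a := QuadraticMap.polar (⇑Q) u x / (2 * c) with ha
    set b := QuadraticMap.polar (⇑Q) v x / (2 * c) with hb
    refine ⟨x - a • u - b • v, ?_, ?_⟩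
    · rw [hf]
      constructor
      · rw [QuadraticMap.polar_sub_right, QuadraticMap.polar_sub_right,
          QuadraticMap.polar_smul_right, QuadraticMap.polar_smul_right, huv, polar_self', hu]
        simp only [smul_eq_mul, ha]
        field_simp
        ring
      · rw [QuadraticMap.polar_sub_right, QuadraticMap.polar_sub_right,
          QuadraticMap.polar_smul_right, QuadraticMap.polar_smul_right,
          QuadraticMap.polar_comm (⇑Q) v u, huv, polar_self', hv]
        simp only [smul_eq_mul, hb]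
        field_simp
        ring
    · rw [QuadraticMap.polar_sub_left, QuadraticMap.polar_sub_left,
        QuadraticMap.polar_smul_left, QuadraticMap.polar_smul_left, ht.1, ht.2]
      simpa using hx
  obtain ⟨t, ht, hQt⟩ := exists_norm_of_nondeg_sub Q (LinearMap.ker f) hrank hS e
  rw [hf] at ht
  exact ⟨t, ht.1, ht.2, hQt⟩

theorem exists_norm (hn : 5 ≤ n) (hQ : (QuadraticMap.polarBilin Q).Nondegenerate)
    (c : ZMod 3) : ∃ v, Q v = c := by
  have h3 : 3 ≤ Module.finrank (ZMod 3) (⊤ : Submodule (ZMod 3) (Fin n → ZMod 3)) := by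
    rw [finrank_top]; simp; omega
  have hS : ∀ t ∈ (⊤ : Submodule (ZMod 3) (Fin n → ZMod 3)), t ≠ 0 →
      ∃ t' ∈ (⊤ : Submodule (ZMod 3) (Fin n → ZMod 3)), QuadraticMap.polar (⇑Q) t' t ≠ 0 := by
    intro t _ ht0
    by_contra hcon
    push Not at hcon
    apply ht0
    apply hQ.2 t
    intro x
    simpa using hcon x Submodule.mem_top
  obtain ⟨t, _, ht⟩ := exists_norm_of_nondeg_sub Q ⊤ h3 hS c
  exact ⟨t, ht⟩

end refl

section grp

theorem grp_sq {G : Type*} [Group G] (a b : G) (ha : a * a = 1) (hb : b * b = 1)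
    (h : a * b * a = b) : (a * b) ^ 2 = 1 := by
  rw [pow_two]
  calc a * b * (a * b) = (a * b * a) * b := by group
    _ = 1 := by rw [h, hb]

theorem grp_cube {G : Type*} [Group G] (a b : G) (ha : a * a = 1) (hb : b * b = 1)
    (h : a * b * a = b * a * b) : (a * b) ^ 3 = 1 := by
  have : (a * b) ^ 3 = (a * b * a) * (b * a * b) := by
    rw [pow_succ, pow_two]; group
  rw [this, ← h]
  calc a * b * a * (a * b * a) = a * b * (a * a) * b * a := by group
    _ = 1 := by rw [ha, mul_one, mul_assoc a b b, hb, mul_one, ha]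

theorem grp_conj {G : Type*} [Group G] (a b : G) (ha : a * a = 1) (hb : b * b = 1)
    (h : a * b * a = b * a * b) : (a * b) * a * (a * b)⁻¹ = b := by
  have hai : a⁻¹ = a := inv_eq_of_mul_eq_one_left ha
  have hbi : b⁻¹ = b := inv_eq_of_mul_eq_one_left hb
  rw [_root_.mul_inv_rev, hai, hbi]
  calc a * b * a * (b * a) = (a * b * a) * b * a := by group
    _ = b * a * (b * b) * a := by rw [h]; group
    _ = b := by rw [hb, mul_one, mul_assoc, ha, mul_one]

end grp

section refl2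

variable {n : ℕ} (Q : QuadraticForm (ZMod 3) (Fin n → ZMod 3)) (c : ZMod 3)

theorem reflO_mem_norm (hc : c ≠ 0) {v : Fin n → ZMod 3} (hv : Q v = c) :
    reflO Q v ∈ Cfsg.reflectionsOfNorm (⇑Q) c :=
  ⟨v, hv, reflO_val Q v (hv ▸ hc)⟩

theorem eq_reflO_of_mem (hc : c ≠ 0) {g : ↥(Cfsg.isometryGroup (ZMod 3) (⇑Q))}
    (hg : g ∈ Cfsg.reflectionsOfNorm (⇑Q) c) : ∃ v, Q v = c ∧ g = reflO Q v := by
  obtain ⟨v, hv, hgv⟩ := hg
  exact ⟨v, hv, O_ext _ _ _ (hgv.trans (reflO_val Q v (hv ▸ hc)).symm)⟩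

theorem reflO_mem_sub (hc : c ≠ 0) {v : Fin n → ZMod 3} (hv : Q v = c) :
    reflO Q v ∈ Cfsg.reflectionSubgroup (⇑Q) c :=
  Subgroup.subset_closure (reflO_mem_norm Q c hc hv)

/-- `r_u r_v r_u = r_{R_u v}` -/
theorem reflO_conj_reflO (u v : Fin n → ZMod 3) (hu : Q u ≠ 0) (hv : Q v ≠ 0) :
    reflO Q u * reflO Q v * reflO Q u =
      reflO Q (v - ((Q u)⁻¹ * QuadraticMap.polar (⇑Q) u v) • u) := by
  rw [conj_reflO Q _ v hv, mul_assoc, reflO_mul_self, mul_one, reflO_val Q u hu,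
    reflectionMatrix_mulVec]

theorem reflO_ne_one (hc : c ≠ 0) {v : Fin n → ZMod 3} (hv : Q v = c) : reflO Q v ≠ 1 := by
  intro h
  have hv0 : Q v ≠ 0 := hv ▸ hc
  have h1 := reflO_val Q v hv0
  rw [h] at h1
  have h2 : (1 : Matrix (Fin n) (Fin n) (ZMod 3)) *ᵥ v = Cfsg.reflectionMatrix (⇑Q) v *ᵥ v := by
    rw [← h1]; rfl
  rw [Matrix.one_mulVec, reflectionMatrix_mulVec, polar_self'] at h2
  have h3 : (Q v)⁻¹ * (2 * Q v) = 2 := by field_simp
  rw [h3] at h2
  have h4 : (2 : ZMod 3) • v = 0 := by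
    have : v - (v - (2 : ZMod 3) • v) = 0 := by rw [← h2]; simp
    simpa using this
  have h5 : v = 0 := by
    rcases smul_eq_zero.mp h4 with h | h
    · exact absurd h two_ne
    · exact h
  apply hv0
  rw [h5, map_zero]

theorem polar_refl_zero (u v : Fin n → ZMod 3) (hu : Q u ≠ 0) (hv : Q v ≠ 0)
    (h : QuadraticMap.polar (⇑Q) u v = 0) :
    reflO Q u * reflO Q v * reflO Q u = reflO Q v := by
  rw [reflO_conj_reflO Q u v hu hv, h]
  simp

theorem polar_refl_ne (hc : c ≠ 0) (u v : Fin n → ZMod 3) (hu : Q u = c) (hv : Q v = c)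
    (h : QuadraticMap.polar (⇑Q) u v ≠ 0) :
    reflO Q u * reflO Q v * reflO Q u = reflO Q v * reflO Q u * reflO Q v := by
  have hu0 : Q u ≠ 0 := hu ▸ hc
  have hv0 : Q v ≠ 0 := hv ▸ hc
  rw [reflO_conj_reflO Q u v hu0 hv0, reflO_conj_reflO Q v u hv0 hu0,
    QuadraticMap.polar_comm (⇑Q) v u, hu, hv]
  set d := c⁻¹ * QuadraticMap.polar (⇑Q) u v with hd
  have hd0 : d ≠ 0 := mul_ne_zero (inv_ne_zero hc) h
  have hdd : d * d = 1 := unit_sq d hd0
  have hw : Q (v - d • u) ≠ 0 := by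
    have := reflectionMatrix_isometry Q u hu0 v
    rw [reflectionMatrix_mulVec, hu, ← hd] at this
    rw [this]; exact hv0
  have hnd : (-d) ≠ 0 := neg_ne_zero.mpr hd0
  have : u - d • v = (-d) • (v - d • u) := by
    rw [smul_sub, smul_smul, neg_mul, hdd]
    simp
    abel
  rw [this, reflO_smul Q _ hw (-d) hnd]

/-- two non-orthogonal reflections of norm `c` are conjugate in the reflection subgroup -/
theorem conj_of_polar_ne (hc : c ≠ 0) (u v : Fin n → ZMod 3) (hu : Q u = c) (hv : Q v = c)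
    (h : QuadraticMap.polar (⇑Q) u v ≠ 0) :
    ∃ g ∈ Cfsg.reflectionSubgroup (⇑Q) c, g * reflO Q u * g⁻¹ = reflO Q v :=
  ⟨reflO Q u * reflO Q v,
    Subgroup.mul_mem _ (reflO_mem_sub Q c hc hu) (reflO_mem_sub Q c hc hv),
    grp_conj _ _ (reflO_mul_self Q u) (reflO_mul_self Q v) (polar_refl_ne Q c hc u v hu hv h)⟩

theorem conj_all (hn : 5 ≤ n) (hQ : (QuadraticMap.polarBilin Q).Nondegenerate) (hc : c ≠ 0)
    (u v : Fin n → ZMod 3) (hu : Q u = c) (hv : Q v = c) :
    ∃ g ∈ Cfsg.reflectionSubgroup (⇑Q) c, g * reflO Q u * g⁻¹ = reflO Q v := by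
  by_cases h : QuadraticMap.polar (⇑Q) u v ≠ 0
  · exact conj_of_polar_ne Q c hc u v hu hv h
  · have h0 : QuadraticMap.polar (⇑Q) u v = 0 := not_not.mp h
    obtain ⟨t, htu, htv, hQt⟩ := exists_orth_norm Q hn hQ c hc u v hu hv h0 (-c)
    have h2c : (2 : ZMod 3) * c ≠ 0 := mul_ne_zero two_ne hc
    have hw : Q (u + v + t) = c := by
      have e1 : Q (u + v + t) = Q (u + v) + Q t + QuadraticMap.polar (⇑Q) (u + v) t := by
        simp only [QuadraticMap.polar]; ring
      have e2 : Q (u + v) = Q u + Q v + QuadraticMap.polar (⇑Q) u v := by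
        simp only [QuadraticMap.polar]; ring
      rw [e1, e2, QuadraticMap.polar_add_left, htu, htv, h0, hu, hv, hQt]
      ring
    have hp1 : QuadraticMap.polar (⇑Q) u (u + v + t) ≠ 0 := by
      rw [QuadraticMap.polar_add_right, QuadraticMap.polar_add_right, htu, h0, polar_self', hu]
      simpa using h2c
    have hp2 : QuadraticMap.polar (⇑Q) (u + v + t) v ≠ 0 := by
      rw [QuadraticMap.polar_add_left, QuadraticMap.polar_add_left, h0,
        QuadraticMap.polar_comm (⇑Q) t v, htv, polar_self', hv]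
      simpa using h2c
    obtain ⟨g1, hg1, e1⟩ := conj_of_polar_ne Q c hc u (u + v + t) hu hw hp1
    obtain ⟨g2, hg2, e2⟩ := conj_of_polar_ne Q c hc (u + v + t) v hw hv hp2
    refine ⟨g2 * g1, Subgroup.mul_mem _ hg2 hg1, ?_⟩
    rw [← e2, ← e1]
    group

end refl2

/-- Let Q be a non-degenerate quadratic form on the n-dimensional coordinate space over the field with three elements, n ≥ 5, and c a non-zero scalar. In the subgroup of the isometry group of Q generated by the reflections in vectors v with Q(v) = c, these reflections form a single conjugacy class of 3-transpositions generating that subgroup. -/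
theorem result (n : ℕ) (hn : 5 ≤ n) (Q : QuadraticForm (ZMod 3) (Fin n → ZMod 3)) (hQ : (QuadraticMap.polarBilin Q).Nondegenerate) (c : ZMod 3) (hc : c ≠ 0) : Cfsg.IsThreeTranspositionClass {g : ↥(Cfsg.reflectionSubgroup (⇑Q) c) | (g : ↥(Cfsg.isometryGroup (ZMod 3) (⇑Q))) ∈ Cfsg.reflectionsOfNorm (⇑Q) c} := by
  obtain ⟨v0, hv0⟩ := exists_norm Q hn hQ c
  refine ⟨⟨?_, ?_⟩, ?_, ?_⟩
  · intro d hd
    obtain ⟨v, hv, hdv⟩ := eq_reflO_of_mem Q c hc hd
    apply orderOf_eq_prime
    · rw [pow_two]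
      apply Subtype.ext
      rw [Subgroup.coe_mul, hdv, Subgroup.coe_one]
      exact reflO_mul_self Q v
    · intro h1
      apply reflO_ne_one Q c hc hv
      rw [← hdv, h1, Subgroup.coe_one]
  · intro d hd e he
    obtain ⟨u, hu, hdu⟩ := eq_reflO_of_mem Q c hc hd
    obtain ⟨v, hv, hev⟩ := eq_reflO_of_mem Q c hc he
    have hu0 : Q u ≠ 0 := hu ▸ hc
    have hv0' : Q v ≠ 0 := hv ▸ hc
    by_cases h : QuadraticMap.polar (⇑Q) u v = 0
    · left
      apply Subtype.ext
      rw [Subgroup.coe_pow, Subgroup.coe_mul, hdu, hev, Subgroup.coe_one]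
      exact grp_sq _ _ (reflO_mul_self Q u) (reflO_mul_self Q v) (polar_refl_zero Q u v hu0 hv0' h)
    · right
      apply Subtype.ext
      rw [Subgroup.coe_pow, Subgroup.coe_mul, hdu, hev, Subgroup.coe_one]
      exact grp_cube _ _ (reflO_mul_self Q u) (reflO_mul_self Q v)
        (polar_refl_ne Q c hc u v hu hv h)
  · refine ⟨⟨reflO Q v0, reflO_mem_sub Q c hc hv0⟩, reflO_mem_norm Q c hc hv0, ?_⟩
    ext x
    change _ ↔ IsConj _ x
    rw [isConj_iff]
    constructor
    · intro hx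
      obtain ⟨v, hv, hxv⟩ := eq_reflO_of_mem Q c hc hx
      obtain ⟨g, hg, hgc⟩ := conj_all Q c hn hQ hc v0 v hv0 hv
      refine ⟨⟨g, hg⟩, ?_⟩
      apply Subtype.ext
      rw [Subgroup.coe_mul, Subgroup.coe_mul, Subgroup.coe_inv, hxv]
      exact hgc
    · rintro ⟨g, hg⟩
      have hv00 : Q v0 ≠ 0 := hv0 ▸ hc
      have h1 := conj_reflO Q (g : ↥(Cfsg.isometryGroup (ZMod 3) (⇑Q))) v0 hv00
      have h2 : (x : ↥(Cfsg.isometryGroup (ZMod 3) (⇑Q))) =
          reflO Q ((((g : ↥(Cfsg.isometryGroup (ZMod 3) (⇑Q))) : GL (Fin n) (ZMod 3)) :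
            Matrix (Fin n) (Fin n) (ZMod 3)) *ᵥ v0) := by
        rw [← hg, Subgroup.coe_mul, Subgroup.coe_mul, Subgroup.coe_inv]
        change (g : ↥(Cfsg.isometryGroup (ZMod 3) (⇑Q))) * reflO Q v0 * _ = _
        rw [h1, mul_assoc, mul_inv_cancel, mul_one]
      change (x : ↥(Cfsg.isometryGroup (ZMod 3) (⇑Q))) ∈ Cfsg.reflectionsOfNorm (⇑Q) c
      rw [h2]
      apply reflO_mem_norm Q c hc
      rw [O_isometry (⇑Q) _ v0, hv0]
  · exact Subgroup.closure_closure_coe_preimage

end Cfsg.Agent.S5357
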