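import Cfsg.Statements.S5092
import Cfsg.Agent.S5082
import Cfsg.Agent.Lib.Helper87.FusionSaturated
import Cfsg.Agent.Lib.Helper42.PResidual

set_option autoImplicit false
open Cfsg
open scoped commutatorElement

namespace Cfsg.Agent.S5092

open Cfsg.FusionSystem Cfsg.Agent.Lib.Helper87

variable {Ω : Type*} [Group Ω] {S : Subgroup Ω}

/-- The subsystem of `F` of the maps `φ` with `x⁻¹ φ(x) ∈ H` for all `x`, where `H ≥ ⁅S,S⁆`. -/
def subSys (F : FusionSystem S) (H : Subgroup Ω) (hH : ⁅S, S⁆ ≤ H) : FusionSystem S where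
  Hom P := {φ | φ ∈ F.Hom P ∧ ∀ x : P, (x : Ω)⁻¹ * φ x ∈ H}
  le_of_mem := fun h => F.le_of_mem h.1
  injective_of_mem := fun h => F.injective_of_mem h.1
  conj_mem := by
    intro P g hP hg
    refine ⟨F.conj_mem hP hg, fun x => hH ?_⟩
    have : (x : Ω)⁻¹ * conjHom P g x = ⁅(x : Ω)⁻¹, g⁆ := by
      simp [conjHom, commutatorElement_def, mul_assoc]
    rw [this]
    exact Subgroup.commutator_mem_commutator (S.inv_mem (hP x.2)) hg
  comp_mem := by
    intro P Q φ ψ hφ hψ h
    refine ⟨F.comp_mem hφ.1 hψ.1 h, fun x => ?_⟩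
    have : (x : Ω)⁻¹ * (ψ.comp (φ.codRestrict Q h)) x
        = ((x : Ω)⁻¹ * φ x) * ((φ x)⁻¹ * ψ ⟨φ x, h x⟩) := by
      simp [mul_assoc]
    rw [this]
    exact H.mul_mem (hφ.2 x) (hψ.2 ⟨φ x, h x⟩)
  inv_mem := by
    intro P φ hφ
    obtain ⟨ψ, hψ, hψx⟩ := F.inv_mem hφ.1
    refine ⟨ψ, ⟨hψ, ?_⟩, hψx⟩
    rintro ⟨y, x, rfl⟩
    have := hψx x
    rw [this]
    have h2 : (φ x)⁻¹ * (x : Ω) = ((x : Ω)⁻¹ * φ x)⁻¹ := by group
    show (φ x)⁻¹ * (x : Ω) ∈ H
    rw [h2]
    exact H.inv_mem (hφ.2 x)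

theorem self_isFullyNormalized [Finite S] (F : FusionSystem S) : F.IsFullyNormalized S := by
  refine ⟨le_refl _, fun Q _ => ?_⟩
  have h1 : normalizerIn S S = S := by
    apply le_antisymm (normalizerIn_le S S) (le_normalizerIn (le_refl S))
  have h2 := card_le_of_le (normalizerIn_le S Q)
  rw [h1]
  exact h2

theorem result {Ω : Type*} [Group Ω] {S : Subgroup Ω} [Finite S] (p : ℕ) [Fact p.Prime] (hS : IsPGroup p S) (F : Cfsg.FusionSystem S) (hF : F.IsSaturated p) : F.focalSubgroup = F.hyperfocalSubgroup p ⊔ ⁅(S : Subgroup Ω), (S : Subgroup Ω)⁆ := by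
  apply le_antisymm
  · -- ⊆ via Alperin
    set H := F.hyperfocalSubgroup p ⊔ ⁅(S : Subgroup Ω), (S : Subgroup Ω)⁆ with hHdef
    have hH : ⁅S, S⁆ ≤ H := le_sup_right
    have hle : F ≤ subSys F H hH := by
      apply Cfsg.Agent.S5082.result p hS F hF
      intro P hP
      have hPfn : F.IsFullyNormalized P := by
        rcases hP with rfl | hP
        · exact self_isFullyNormalized F
        · exact hP.2.1
      have hPS : P ≤ S := hPfn.1
      obtain ⟨-, -, R, hR⟩ := fullyNormalized_props p hS F hF P hPfn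
      have : Finite (F.autGroup P) := finite_autGroup F hPS
      intro α hα
      rw [mem_autGroup_iff _ hPS]
      refine ⟨(mem_autGroup_iff F hPS).mp hα, fun x => ?_⟩
      -- decompose
      have hidx : ¬ p ∣ ((autInducedBy S P).subgroupOf (F.autGroup P)).index := by
        rw [← hR]; exact R.not_dvd_index
      have htop := Cfsg.Agent.Lib.Helper42.pResidual_sup_eq_top p (F.autGroup P) _ hidx
      have hnorm := Cfsg.Agent.Lib.Helper42.pResidual_normal p (F.autGroup P)
      have hmem : (⟨α, hα⟩ : F.autGroup P) ∈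
          Cfsg.pResidual p (F.autGroup P) ⊔ (autInducedBy S P).subgroupOf (F.autGroup P) := by
        rw [htop]; trivial
      rw [← SetLike.mem_coe, Subgroup.normal_mul, Set.mem_mul] at hmem
      obtain ⟨β, hβ, γ, hγ, hβγ⟩ := hmem
      rw [SetLike.mem_coe, Subgroup.mem_subgroupOf, mem_autInducedBy_iff] at hγ
      obtain ⟨g, hg, hgγ⟩ := hγ
      have hα' : α = (β : MulAut P) * (γ : MulAut P) := by
        have := congrArg Subtype.val hβγ
        simpa using this.symm
      have hx : (x : Ω)⁻¹ * (P.subtype.comp α.toMonoidHom) x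
          = ((x : Ω)⁻¹ * (((γ : MulAut P) x : P) : Ω)) *
            ((((γ : MulAut P) x : P) : Ω)⁻¹ * (((β : MulAut P) ((γ : MulAut P) x) : P) : Ω)) := by
        rw [hα']
        simp [mul_assoc]
      rw [hx]
      apply H.mul_mem
      · apply hH
        rw [hgγ x]
        have : (x : Ω)⁻¹ * (g * (x : Ω) * g⁻¹) = ⁅(x : Ω)⁻¹, g⁆ := by
          simp [commutatorElement_def, mul_assoc]
        rw [this]
        exact Subgroup.commutator_mem_commutator (S.inv_mem (hPS x.2)) hg
      · apply (le_sup_left : F.hyperfocalSubgroup p ≤ H)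
        apply Subgroup.subset_closure
        exact ⟨P, β, (γ : MulAut P) x, hPS, hβ, rfl⟩
    unfold focalSubgroup
    rw [Subgroup.closure_le]
    rintro y ⟨P, φ, x, hφ, rfl⟩
    exact (hle P hφ).2 x
  · -- ⊇
    apply sup_le
    · unfold hyperfocalSubgroup
      rw [Subgroup.closure_le]
      rintro y ⟨P, α, x, hPS, hα, rfl⟩
      apply Subgroup.subset_closure
      exact ⟨P, P.subtype.comp (α : MulAut P).toMonoidHom, x,
        (mem_autGroup_iff F hPS).mp α.2, rfl⟩
    · rw [Subgroup.commutator_le]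
      intro s hs t ht
      apply Subgroup.subset_closure
      refine ⟨S, conjHom S t, ⟨s⁻¹, S.inv_mem hs⟩, F.conj_mem (le_refl S) ht, ?_⟩
      simp [conjHom, commutatorElement_def, mul_assoc]

end Cfsg.Agent.S5092
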