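import Cfsg.Statements.S1100
import Cfsg.Agent.S1042
import Cfsg.Agent.Lib.Helper24.Bruhat

set_option autoImplicit false
open Cfsg

namespace Cfsg.Agent.S1100

/-- Canonical form `g = b n_w u` (`b ∈ B`, `u ∈ U_w⁻ = ⟨X_r : r > 0, n_w X_r n_w⁻¹ ≤ V⟩`): such a decomposition exists for every element of the group; the coset `n_w H` is determined by `g`; and for a fixed representative `n_w` the factors `b`, `u` are unique. -/
theorem result {F : Type*} [Field F] (D : Cfsg.Lie.ChevalleyDatum) (hD : D ∈ [Cfsg.Lie.chevG2, Cfsg.Lie.chevB2, Cfsg.Lie.chevD4, Cfsg.Lie.chevF4, Cfsg.Lie.chevE6, Cfsg.Lie.chevE7, Cfsg.Lie.chevE8]) :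
    (∀ g ∈ D.group F, ∃ b ∈ D.borelSubgroup F, ∃ n ∈ D.monomialSubgroup F,
      ∃ u ∈ Subgroup.closure {x : GL D.Idx F | ∃ (r : ℕ) (t : F), D.IsPosRoot r ∧
            (D.rootSubgroup F r).map (MulAut.conj n).toMonoidHom ≤ D.negUnipotent F ∧ (x : Matrix D.Idx D.Idx F) = D.x F r t},
        g = b * n * u) ∧
    (∀ (b b' n n' u u' : GL D.Idx F), b ∈ D.borelSubgroup F → b' ∈ D.borelSubgroup F →
      n ∈ D.monomialSubgroup F → n' ∈ D.monomialSubgroup F →
      u ∈ Subgroup.closure {x : GL D.Idx F | ∃ (r : ℕ) (t : F), D.IsPosRoot r ∧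
            (D.rootSubgroup F r).map (MulAut.conj n).toMonoidHom ≤ D.negUnipotent F ∧ (x : Matrix D.Idx D.Idx F) = D.x F r t} →
      u' ∈ Subgroup.closure {x : GL D.Idx F | ∃ (r : ℕ) (t : F), D.IsPosRoot r ∧
            (D.rootSubgroup F r).map (MulAut.conj n').toMonoidHom ≤ D.negUnipotent F ∧ (x : Matrix D.Idx D.Idx F) = D.x F r t} →
      b * n * u = b' * n' * u' → n⁻¹ * n' ∈ D.diagonalSubgroup F ∧ (n = n' → b = b' ∧ u = u')) := by
  obtain ⟨tab, orb, hN, hH, _, hC⟩ := Cfsg.Agent.Lib.Helper24.cfacts_all D hD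
  obtain ⟨T, reps, hall, hreps⟩ := hC.pairs
  have hF := Cfsg.Agent.Lib.Helper24.facts_all D hD
  have hCh : Cfsg.Agent.Lib.Helper24.ChainOK D := ⟨Cfsg.Agent.Lib.Helper24.tableOK_all D hD, hC.chain⟩
  have hR := Cfsg.Agent.Lib.Helper24.rootTableOK_all D hD
  have hUF := Cfsg.Agent.Lib.Helper24.ufacts_all D hD
  have hcomm : ∀ r < D.nroots, ∀ s < D.nroots, s ≠ r → s ≠ D.neg r → hF.QF F r s :=
    fun r hr s hs hrs hneg => hF.QF_of_comm r s
      (fun t u => hF.comm_formula hN hH hCh hC.negRev T reps hall hreps r s hr hs hrs hneg t u)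
  obtain ⟨P, hB, hN', _⟩ := Cfsg.Agent.S1042.result (F := F) D hD
  have hBN : D.borelSubgroup F ⊓ D.monomialSubgroup F = D.diagonalSubgroup F := by
    obtain ⟨tab', orb', hN2, hH2, hM⟩ := Cfsg.Agent.Lib.Helper24.mfacts_all D hD
    exact (hF.pos_inf_monomial hN2 hH2 hM hUF).2
  have hset : ∀ n : GL D.Idx F,
      Subgroup.closure {x : GL D.Idx F | ∃ (r : ℕ) (t : F), D.IsPosRoot r ∧
        (D.rootSubgroup F r).map (MulAut.conj n).toMonoidHom ≤ D.negUnipotent F ∧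
        (x : Matrix D.Idx D.Idx F) = D.x F r t} =
      Cfsg.Agent.Lib.Helper24.rootClosure D F
        (fun r => D.IsPosRoot r ∧ Cfsg.Agent.Lib.Helper24.NegSet D F n r) := by
    intro n
    unfold Cfsg.Agent.Lib.Helper24.rootClosure Cfsg.Agent.Lib.Helper24.NegSet
    congr 1
    ext x
    simp only [Set.mem_ofPred_eq, and_assoc]
  constructor
  · intro g hg
    obtain ⟨b, hb, n, hn, u, hu, e⟩ := hF.normal_form_exists hN hH hR hCh hUF hC.negRev hcomm P hB hN' g hg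
    exact ⟨b, hb, n, hn, u, by rw [hset]; exact hu, e⟩
  · intro b b' n n' u u' hb hb' hn hn' hu hu' e
    rw [hset] at hu hu'
    exact hF.normal_form_unique P hB hN' hBN b b' n n' u u' hb hb' hn hn' hu hu' e

end Cfsg.Agent.S1100
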