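import Cfsg.Statements.S1030
import Cfsg.Agent.Lib.Helper37.ChevSL2Tab
import Cfsg.Agent.Lib.Helper24.FactsAll
import Cfsg.Agent.Lib.Helper24.RootTables
import Cfsg.Agent.S1032
import Cfsg.Agent.S1033

set_option autoImplicit false
open Cfsg

namespace Cfsg.Agent.S1030

/-- There is a homomorphism `SL₂(F) → GL` with image `⟨X_r, X_{-r}⟩` sending `[[1,t],[0,1]]` to `x_r(t)` and `[[1,0],[t,1]]` to `x_{-r}(t)`. -/
theorem result {F : Type*} [Field F] (D : Cfsg.Lie.ChevalleyDatum) (hD : D ∈ [Cfsg.Lie.chevG2, Cfsg.Lie.chevB2, Cfsg.Lie.chevD4, Cfsg.Lie.chevF4, Cfsg.Lie.chevE6, Cfsg.Lie.chevE7, Cfsg.Lie.chevE8]) (r : ℕ) (hr : r < D.nroots) :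
    ∃ φ : Matrix.SpecialLinearGroup (Fin 2) F →* GL D.Idx F,
      φ.range = D.rootSubgroup F r ⊔ D.rootSubgroup F (D.neg r) ∧
      ∀ (g : Matrix.SpecialLinearGroup (Fin 2) F) (t : F),
        ((g : Matrix (Fin 2) (Fin 2) F) = !![1, t; 0, 1] → ((φ g : GL D.Idx F) : Matrix D.Idx D.Idx F) = D.x F r t) ∧
        ((g : Matrix (Fin 2) (Fin 2) F) = !![1, 0; t, 1] → ((φ g : GL D.Idx F) : Matrix D.Idx D.Idx F) = D.x F (D.neg r) t) := by
  obtain ⟨tab, orb, hN, hH, hη⟩ := Cfsg.Agent.Lib.Helper37.ChevSL2.sl2facts_all D hD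
  have hF := Cfsg.Agent.Lib.Helper24.facts_all D hD
  have hR := Cfsg.Agent.Lib.Helper24.rootTableOK_all D hD
  refine Cfsg.Agent.Lib.Helper37.ChevSL2.main hF r
    (Cfsg.Agent.Lib.Helper37.ChevSL2.hasSL2_all hF hN hH (fun j hj => ?_) r hr)
  have hp := Cfsg.Agent.Lib.Helper37.ChevSL2.simple_lt' hH j hj
  have hneg := (Cfsg.Agent.Lib.Helper24.rootTableOK_spec D hR _ hp).2.1
  have R := Cfsg.Agent.Lib.Helper37.ChevSL2.rel_simple (F := F) hF hN j hj (hη j hj) hp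
    (fun c hc => Cfsg.Agent.S1033.result D hD j hj c hc)
    (fun c hc t => Cfsg.Agent.S1032.result D hD j _ hj hneg c hc t)
    (Cfsg.Agent.Lib.Helper37.ChevSL2.negCartan_spec D
      (Cfsg.Agent.Lib.Helper37.ChevSL2.negCartan_all D hD) j hj)
  obtain ⟨φ, hu, hl, hm⟩ := Cfsg.Agent.Lib.Helper37.SL2.exists_hom R
  exact ⟨φ, hu, hl, hm⟩

end Cfsg.Agent.S1030
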