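import Cfsg.Statements.S1027
import Cfsg.Agent.Lib.Helper24.FactsAll
import Cfsg.Agent.Lib.Helper24.CommAll
import Cfsg.Agent.Lib.Helper24.UFTab
import Cfsg.Agent.Lib.Helper24.UCard

set_option autoImplicit false
open Cfsg

namespace Cfsg.Agent.S1027

/-- For the subgroup `U` generated by the root elements `x_r(t)` of the positive roots `r`: `|U| = q^N` over a field with `q` elements, where `N` is the number of positive roots (half the number of roots). -/
theorem result {F : Type*} [Field F] [Fintype F] (D : Cfsg.Lie.ChevalleyDatum) (hD : D ∈ [Cfsg.Lie.chevG2, Cfsg.Lie.chevB2, Cfsg.Lie.chevD4, Cfsg.Lie.chevF4, Cfsg.Lie.chevE6, Cfsg.Lie.chevE7, Cfsg.Lie.chevE8]) :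
    Nat.card (D.posUnipotent F) = Fintype.card F ^ (D.nroots / 2) := by
  obtain ⟨tab, orb, hN, hH, _, hC⟩ := Cfsg.Agent.Lib.Helper24.cfacts_all D hD
  obtain ⟨T, reps, hall, hreps⟩ := hC.pairs
  have hF := Cfsg.Agent.Lib.Helper24.facts_all D hD
  have hCh : Cfsg.Agent.Lib.Helper24.ChainOK D := ⟨Cfsg.Agent.Lib.Helper24.tableOK_all D hD, hC.chain⟩
  exact hF.card_posUnipotent hCh (Cfsg.Agent.Lib.Helper24.ufacts_all D hD) hC.negRev
    (fun r hr s hs hrs hneg => hF.QF_of_comm r s
      (fun t u => hF.comm_formula hN hH hCh hC.negRev T reps hall hreps r s hr hs hrs hneg t u))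

end Cfsg.Agent.S1027
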