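import Cfsg.Statements.S1782
import Cfsg.Agent.Lib.Helper38.Conj
import Cfsg.Agent.Lib.Helper38.PGroup

set_option autoImplicit false
open Cfsg

namespace Cfsg.Agent.S1782

open Cfsg.Agent.Lib.Helper38

section
variable {S : Type*} [Group S]

/-- abstract step B -/
theorem stepB (R T : Subgroup S) (t : S) (ht : t ∈ T)
    (hF2T : ∀ x ∈ T, x ≠ 1 → ∀ s : S, s * x * s⁻¹ = x → s ∈ Subgroup.normalizer (T : Set S))
    (hcomm : ∀ a ∈ R, ∀ b ∈ R, a * (t * b * t⁻¹) = (t * b * t⁻¹) * a)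
    (hdisj : ∀ y ∈ R, t * y * t⁻¹ = y → y = 1)
    (z : S) (hzR : z ∈ R) (hz1 : z ≠ 1) (hzc : ∀ r ∈ R, z * r = r * z)
    (y : S) (hyR : y ∈ R) (hyN : y ∈ Subgroup.normalizer (T : Set S)) (hy1 : y ≠ 1) :
    R ≤ Subgroup.normalizer (T : Set S) := by
  have key : ∀ w ∈ R, w ∈ Subgroup.normalizer (T : Set S) → w ≠ 1 → ∀ r ∈ R, r * w = w * r →
      r ∈ Subgroup.normalizer (T : Set S) := by
    intro w hwR hwN hw1 r hrR hrw
    have hcT : w⁻¹ * (t * w * t⁻¹) ∈ T := by
      have h1 : w⁻¹ * t * w⁻¹⁻¹ ∈ T :=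
        (Subgroup.mem_normalizer_iff.mp ((Subgroup.normalizer (T : Set S)).inv_mem hwN) t).mp ht
      have h2 : w⁻¹ * (t * w * t⁻¹) = (w⁻¹ * t * w⁻¹⁻¹) * t⁻¹ := by group
      rw [h2]
      exact T.mul_mem h1 (T.inv_mem ht)
    have hc1 : w⁻¹ * (t * w * t⁻¹) ≠ 1 := by
      intro h
      apply hw1
      apply hdisj w hwR
      have := congrArg (fun u => w * u) h
      simpa [mul_assoc] using this
    apply hF2T _ hcT hc1
    have h3 : r * w⁻¹ = w⁻¹ * r := by
      have := congrArg (fun u => w⁻¹ * u * w⁻¹) hrw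
      simpa [mul_assoc] using this.symm
    have h4 := hcomm r hrR w hwR
    calc r * (w⁻¹ * (t * w * t⁻¹)) * r⁻¹ = (r * w⁻¹) * (t * w * t⁻¹) * r⁻¹ := by group
      _ = (w⁻¹ * r) * (t * w * t⁻¹) * r⁻¹ := by rw [h3]
      _ = w⁻¹ * (r * (t * w * t⁻¹)) * r⁻¹ := by group
      _ = w⁻¹ * ((t * w * t⁻¹) * r) * r⁻¹ := by rw [h4]
      _ = w⁻¹ * (t * w * t⁻¹) := by group
  have hzN : z ∈ Subgroup.normalizer (T : Set S) := key y hyR hyN hy1 z hzR (hzc y hyR)
  intro r hr
  exact key z hzR hzN hz1 r hr (hzc r hr).symm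

/-- abstract step E -/
theorem stepE (R T : Subgroup S) (r t : S) (hr : r ∈ R) (ht : t ∈ T)
    (hF2R : ∀ x ∈ R, x ≠ 1 → ∀ s : S, s * x * s⁻¹ = x → s ∈ Subgroup.normalizer (R : Set S))
    (hF2T : ∀ x ∈ T, x ≠ 1 → ∀ s : S, s * x * s⁻¹ = x → s ∈ Subgroup.normalizer (T : Set S))
    (hT0 : ∀ s ∈ T, s ∈ Subgroup.normalizer (R : Set S) → s = 1)
    (hR0 : ∀ s ∈ R, s ∈ Subgroup.normalizer (T : Set S) → s = 1)
    (hr1 : r ≠ 1) (ht1 : t ≠ 1)
    (hcr : r * (t * r * t⁻¹) = (t * r * t⁻¹) * r)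
    (hct : t * (r⁻¹ * t * r) = (r⁻¹ * t * r) * t) :
    orderOf r = orderOf t := by
  set c := r⁻¹ * (t * r * t⁻¹) with hc
  have hcr' : c * r = r * c := by
    rw [hc]
    calc r⁻¹ * (t * r * t⁻¹) * r = r⁻¹ * ((t * r * t⁻¹) * r) := by group
      _ = r⁻¹ * (r * (t * r * t⁻¹)) := by rw [hcr]
      _ = r * (r⁻¹ * (t * r * t⁻¹)) := by group
  have hct' : c * t = t * c := by
    rw [hc]
    calc r⁻¹ * (t * r * t⁻¹) * t = (r⁻¹ * t * r) * t * t⁻¹ := by group
      _ = t * (r⁻¹ * t * r) * t⁻¹ := by rw [hct]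
      _ = t * (r⁻¹ * (t * r * t⁻¹)) := by group
  have h1 : t * r * t⁻¹ = r * c := by rw [hc]; group
  have h2 : r⁻¹ * t * r = c * t := by rw [hc]; group
  have hi : ∀ j : ℕ, t ^ j * r * (t ^ j)⁻¹ = r * c ^ j := by
    intro j
    induction j with
    | zero => simp
    | succ j ih =>
      have hcj : t * c ^ j = c ^ j * t := ((Commute.pow_left (show Commute c t from hct') j).eq).symm
      calc t ^ (j + 1) * r * (t ^ (j + 1))⁻¹ = t * (t ^ j * r * (t ^ j)⁻¹) * t⁻¹ := by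
            rw [pow_succ']; group
        _ = t * (r * c ^ j) * t⁻¹ := by rw [ih]
        _ = (t * r * t⁻¹) * (t * c ^ j) * t⁻¹ := by group
        _ = (r * c) * (c ^ j * t) * t⁻¹ := by rw [h1, hcj]
        _ = r * c ^ (j + 1) := by rw [pow_succ']; group
  have hii : ∀ j : ℕ, (r ^ j)⁻¹ * t * r ^ j = c ^ j * t := by
    intro j
    induction j with
    | zero => simp
    | succ j ih =>
      have hcj : r⁻¹ * c ^ j = c ^ j * r⁻¹ := by
        have hcomm : Commute c r := hcr'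
        exact ((hcomm.pow_left j).inv_right).eq.symm
      calc (r ^ (j + 1))⁻¹ * t * r ^ (j + 1) = r⁻¹ * ((r ^ j)⁻¹ * t * r ^ j) * r := by
            rw [pow_succ']; group
        _ = r⁻¹ * (c ^ j * t) * r := by rw [ih]
        _ = (r⁻¹ * c ^ j) * r * (r⁻¹ * t * r) := by group
        _ = (c ^ j * r⁻¹) * r * (c * t) := by rw [hcj, h2]
        _ = c ^ (j + 1) * t := by rw [pow_succ]; group
  -- orderOf t ∣ orderOf c
  have d1 : orderOf t ∣ orderOf c := by
    have h := hi (orderOf c)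
    rw [pow_orderOf_eq_one, mul_one] at h
    have hN := hF2R r hr hr1 _ h
    have := hT0 _ (T.pow_mem ht _) hN
    exact orderOf_dvd_of_pow_eq_one this
  have d2 : orderOf c ∣ orderOf t := by
    have h := hi (orderOf t)
    rw [pow_orderOf_eq_one] at h
    have : c ^ orderOf t = 1 := by
      have h' : r = r * c ^ orderOf t := by simpa using h
      have := congrArg (fun u => r⁻¹ * u) h'
      simpa using this.symm
    exact orderOf_dvd_of_pow_eq_one this
  have d3 : orderOf r ∣ orderOf c := by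
    have h := hii (orderOf c)
    rw [pow_orderOf_eq_one, one_mul] at h
    have hN := hF2T t ht ht1 ((r ^ orderOf c)⁻¹) (by simpa using h)
    have hN' : r ^ orderOf c ∈ Subgroup.normalizer (T : Set S) := by
      have := (Subgroup.normalizer (T : Set S)).inv_mem hN
      simpa using this
    have := hR0 _ (R.pow_mem hr _) hN'
    exact orderOf_dvd_of_pow_eq_one this
  have d4 : orderOf c ∣ orderOf r := by
    have h := hii (orderOf r)
    rw [pow_orderOf_eq_one] at h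
    have : c ^ orderOf r = 1 := by
      have h' : t = c ^ orderOf r * t := by simpa using h
      have := congrArg (fun u => u * t⁻¹) h'
      simpa using this.symm
    exact orderOf_dvd_of_pow_eq_one this
  exact (Nat.dvd_antisymm d3 d4).trans (Nat.dvd_antisymm d2 d1)

end

section main
variable {S : Type*} [Group S] [Finite S]

theorem ne_bot_of_frattini {R : Subgroup S} (h : frattini ↥R ≠ ⊥) : R ≠ ⊥ := by
  rintro rfl
  apply h
  rw [eq_bot_iff]
  intro x _
  rw [Subgroup.mem_bot]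
  exact Subsingleton.elim x 1

theorem exists_sq_ne_one {R : Subgroup S} (h : frattini ↥R ≠ ⊥) : ∃ t ∈ R, t ^ 2 ≠ 1 := by
  by_contra hcon
  push Not at hcon
  apply h
  apply frattini_eq_bot_of_sq_eq_one
  intro t
  apply Subtype.ext
  have := hcon t t.2
  simpa using this

variable (hS : IsPGroup 2 S)
    (Δ : Set (Subgroup S)) (hinv : ∀ s : S, ∀ R ∈ Δ, R.map (MulAut.conj s).toMonoidHom ∈ Δ)
    (hΦ : ∀ R ∈ Δ, frattini ↥R ≠ ⊥) (hord : ∀ R ∈ Δ, ∀ T ∈ Δ, Nat.card ↥R = Nat.card ↥T)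
    (hti : ∀ R ∈ Δ, ∀ T ∈ Δ, R = T ∨ R ⊓ T = ⊥)

include hinv hti in
/-- F2 -/
theorem f2 (X : Subgroup S) (hX : X ∈ Δ) (x : S) (hx : x ∈ X) (hx1 : x ≠ 1) (s : S)
    (hs : s * x * s⁻¹ = x) : s ∈ Subgroup.normalizer (X : Set S) := by
  rw [← map_conj_eq_self_iff]
  rcases hti _ (hinv s X hX) X hX with h | h
  · exact h
  · exfalso
    have hmem : x ∈ X.map (MulAut.conj s).toMonoidHom ⊓ X := by
      rw [Subgroup.mem_inf]
      refine ⟨?_, hx⟩
      rw [← hs]
      exact conj_mem_map_conj X s x hx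
    rw [h, Subgroup.mem_bot] at hmem
    exact hx1 hmem

include hinv hord hti in
/-- star -/
theorem star (R T : Subgroup S) (hR : R ∈ Δ) (hT : T ∈ Δ) (hne : R ≠ T)
    (hN : T ≤ Subgroup.normalizer (R : Set S)) : ⁅R, T⁆ = ⊥ := by
  apply commutator_eq_bot_of_ti R T
  · intro a _
    rcases hti _ (hinv a T hT) T hT with h | h
    · left; exact h
    · right; exact h
  · exact le_of_eq (hord R hR T hT)
  · rcases hti R hR T hT with h | h
    · exact absurd h hne
    · exact h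
  · exact hN

include hS hinv hΦ hti in
/-- F1 -/
theorem f1 (n : ℕ)
    (IH : ∀ m < n, ∀ R T : Subgroup S, R ∈ Δ → T ∈ Δ → R ≠ T → Nat.card ↥(R ⊔ T) = m → ⁅R, T⁆ = ⊥)
    (R T : Subgroup S) (hR : R ∈ Δ) (hT : T ∈ Δ) (hne : R ≠ T) (hcard : Nat.card ↥(R ⊔ T) = n) :
    ∀ d ∈ R ⊔ T, R.map (MulAut.conj d).toMonoidHom = R ∨ ⁅R, R.map (MulAut.conj d).toMonoidHom⁆ = ⊥ := by
  have hfact : Fact (Nat.Prime 2) := ⟨Nat.prime_two⟩
  have hRT : R ⊓ T = ⊥ := by
    rcases hti R hR T hT with h | h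
    · exact absurd h hne
    · exact h
  have hRD : R ≤ R ⊔ T := le_sup_left
  have hnt : R.subgroupOf (R ⊔ T) ≠ ⊤ := by
    intro h
    rw [Subgroup.subgroupOf_eq_top] at h
    have hTR : T ≤ R := le_trans le_sup_right h
    have : T = ⊥ := by
      rw [eq_bot_iff, ← hRT]
      exact le_inf hTR le_rfl
    exact ne_bot_of_frattini (hΦ T hT) this
  obtain ⟨N, hNn, hRN, hNtop⟩ := exists_normal_ne_top_of_pgroup 2 (hS.to_subgroup (R ⊔ T)) _ hnt
  have hNcard : Nat.card ↥(N.map (R ⊔ T).subtype) < n := by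
    have h1 : Nat.card ↥(N.map (R ⊔ T).subtype) = Nat.card ↥N :=
      Nat.card_congr (N.equivMapOfInjective _ (R ⊔ T).subtype_injective).symm.toEquiv
    rw [h1, ← hcard]
    rcases lt_or_ge (Nat.card ↥N) (Nat.card ↥(R ⊔ T)) with h | h
    · exact h
    · exact absurd ((Subgroup.card_eq_iff_eq_top N).mp (le_antisymm (Subgroup.card_le_card_group N) h)) hNtop
  intro d hd
  by_cases heq : R.map (MulAut.conj d).toMonoidHom = R
  · left; exact heq
  · right
    have hle : R ⊔ R.map (MulAut.conj d).toMonoidHom ≤ N.map (R ⊔ T).subtype := by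
      apply sup_le
      · intro r hr
        exact ⟨⟨r, hRD hr⟩, hRN (by rw [Subgroup.mem_subgroupOf]; exact hr), rfl⟩
      · rintro _ ⟨r, hr, rfl⟩
        have hrN : (⟨r, hRD hr⟩ : ↥(R ⊔ T)) ∈ N := hRN (by rw [Subgroup.mem_subgroupOf]; exact hr)
        have := hNn.conj_mem _ hrN ⟨d, hd⟩
        exact ⟨_, this, rfl⟩
    have hlt : Nat.card ↥(R ⊔ R.map (MulAut.conj d).toMonoidHom) < n :=
      lt_of_le_of_lt (Subgroup.card_le_of_le hle) hNcard
    exact IH _ hlt R _ hR (hinv d R hR) (Ne.symm heq) rfl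

include hS hinv hΦ hord hti in
theorem main : ∀ n : ℕ, ∀ R T : Subgroup S, R ∈ Δ → T ∈ Δ → R ≠ T → Nat.card ↥(R ⊔ T) = n → ⁅R, T⁆ = ⊥ := by
  have hfact : Fact (Nat.Prime 2) := ⟨Nat.prime_two⟩
  intro n
  induction n using Nat.strong_induction_on with
  | _ n IH =>
  intro R T hR hT hne hcard
  by_contra hcomm
  have hRT : R ⊓ T = ⊥ := by
    rcases hti R hR T hT with h | h
    · exact absurd h hne
    · exact h
  -- neither normalizes the other
  have hnT : ¬ T ≤ Subgroup.normalizer (R : Set S) := fun h => hcomm (star Δ hinv hord hti R T hR hT hne h)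
  have hnR : ¬ R ≤ Subgroup.normalizer (T : Set S) := fun h => by
    apply hcomm
    rw [Subgroup.commutator_comm]
    exact star Δ hinv hord hti T R hT hR (Ne.symm hne) h
  have F1R := f1 hS Δ hinv hΦ hti n IH R T hR hT hne hcard
  have hcard' : Nat.card ↥(T ⊔ R) = n := by rw [sup_comm]; exact hcard
  have F1T := f1 hS Δ hinv hΦ hti n IH T R hT hR (Ne.symm hne) hcard'
  have hF2R := f2 Δ hinv hti R hR
  have hF2T := f2 Δ hinv hti T hT
  -- commuting of R with R^t for t ∈ T outside the normalizer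
  have hRc : ∀ t ∈ T, t ∉ Subgroup.normalizer (R : Set S) →
      (∀ a ∈ R, ∀ b ∈ R, a * (t * b * t⁻¹) = (t * b * t⁻¹) * a) ∧ (∀ y ∈ R, t * y * t⁻¹ = y → y = 1) := by
    intro t ht htN
    have hne' : R.map (MulAut.conj t).toMonoidHom ≠ R := fun h => htN ((map_conj_eq_self_iff R t).mp h)
    have hc : ⁅R, R.map (MulAut.conj t).toMonoidHom⁆ = ⊥ := by
      rcases F1R t ((le_sup_right : T ≤ R ⊔ T) ht) with h | h
      · exact absurd h hne'
      · exact h
    have hd : R ⊓ R.map (MulAut.conj t).toMonoidHom = ⊥ := by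
      rcases hti R hR _ (hinv t R hR) with h | h
      · exact absurd h.symm hne'
      · exact h
    constructor
    · intro a ha b hb
      rw [Subgroup.commutator_eq_bot_iff_le_centralizer] at hc
      have := Subgroup.mem_centralizer_iff.mp (hc ha) (t * b * t⁻¹) (conj_mem_map_conj R t b hb)
      exact this.symm
    · intro y hy hty
      have : y ∈ R ⊓ R.map (MulAut.conj t).toMonoidHom := by
        rw [Subgroup.mem_inf]
        refine ⟨hy, ?_⟩
        rw [← hty]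
        exact conj_mem_map_conj R t y hy
      rw [hd, Subgroup.mem_bot] at this
      exact this
  have hTc : ∀ r ∈ R, r ∉ Subgroup.normalizer (T : Set S) →
      (∀ a ∈ T, ∀ b ∈ T, a * (r * b * r⁻¹) = (r * b * r⁻¹) * a) ∧ (∀ y ∈ T, r * y * r⁻¹ = y → y = 1) := by
    intro r hr hrN
    have hne' : T.map (MulAut.conj r).toMonoidHom ≠ T := fun h => hrN ((map_conj_eq_self_iff T r).mp h)
    have hc : ⁅T, T.map (MulAut.conj r).toMonoidHom⁆ = ⊥ := by
      rcases F1T r ((le_sup_right : R ≤ T ⊔ R) hr) with h | h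
      · exact absurd h hne'
      · exact h
    have hd : T ⊓ T.map (MulAut.conj r).toMonoidHom = ⊥ := by
      rcases hti T hT _ (hinv r T hT) with h | h
      · exact absurd h.symm hne'
      · exact h
    constructor
    · intro a ha b hb
      rw [Subgroup.commutator_eq_bot_iff_le_centralizer] at hc
      have := Subgroup.mem_centralizer_iff.mp (hc ha) (r * b * r⁻¹) (conj_mem_map_conj T r b hb)
      exact this.symm
    · intro y hy hty
      have : y ∈ T ⊓ T.map (MulAut.conj r).toMonoidHom := by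
        rw [Subgroup.mem_inf]
        refine ⟨hy, ?_⟩
        rw [← hty]
        exact conj_mem_map_conj T r y hy
      rw [hd, Subgroup.mem_bot] at this
      exact this
  -- central elements
  have hcenter : ∀ X : Subgroup S, X ∈ Δ → ∃ z ∈ X, z ≠ 1 ∧ ∀ r ∈ X, z * r = r * z := by
    intro X hX
    have hXnt : Nontrivial ↥X := (Subgroup.nontrivial_iff_ne_bot X).mpr (ne_bot_of_frattini (hΦ X hX))
    have hZ : Nontrivial ↥(Subgroup.center ↥X) := (hS.to_subgroup X).center_nontrivial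
    obtain ⟨z, hz⟩ := exists_ne (1 : ↥(Subgroup.center ↥X))
    refine ⟨((z : ↥X) : S), (z : ↥X).2, ?_, ?_⟩
    · intro h
      apply hz
      apply Subtype.ext
      apply Subtype.ext
      exact h
    · intro r hr
      have := Subgroup.mem_center_iff.mp z.2 ⟨r, hr⟩
      have h2 := congrArg (fun u : ↥X => (u : S)) this
      exact h2.symm
  -- step B
  have hR0 : ∀ s ∈ R, s ∈ Subgroup.normalizer (T : Set S) → s = 1 := by
    intro y hy hyN
    by_contra hy1
    obtain ⟨t, ht, htN⟩ := SetLike.not_le_iff_exists.mp hnT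
    obtain ⟨z, hz, hz1, hzc⟩ := hcenter R hR
    obtain ⟨h1, h2⟩ := hRc t ht htN
    exact hnR (stepB R T t ht hF2T h1 h2 z hz hz1 hzc y hy hyN hy1)
  have hT0 : ∀ s ∈ T, s ∈ Subgroup.normalizer (R : Set S) → s = 1 := by
    intro y hy hyN
    by_contra hy1
    obtain ⟨r, hr, hrN⟩ := SetLike.not_le_iff_exists.mp hnR
    obtain ⟨z, hz, hz1, hzc⟩ := hcenter T hT
    obtain ⟨h1, h2⟩ := hTc r hr hrN
    exact hnT (stepB T R r hr hF2R h1 h2 z hz hz1 hzc y hy hyN hy1)
  -- step E for all pairs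
  have hE : ∀ r ∈ R, ∀ t ∈ T, r ≠ 1 → t ≠ 1 → orderOf r = orderOf t := by
    intro r hr t ht hr1 ht1
    have htN : t ∉ Subgroup.normalizer (R : Set S) := fun h => ht1 (hT0 t ht h)
    have hrN : r⁻¹ ∉ Subgroup.normalizer (T : Set S) := fun h =>
      hr1 (by have := hR0 r⁻¹ (R.inv_mem hr) h; simpa using this)
    apply stepE R T r t hr ht hF2R hF2T hT0 hR0 hr1 ht1
    · exact (hRc t ht htN).1 r hr r hr
    · have := (hTc r⁻¹ (R.inv_mem hr) hrN).1 t ht t ht
      simpa using this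
  -- final contradiction
  obtain ⟨t, ht, ht2⟩ := exists_sq_ne_one (hΦ T hT)
  obtain ⟨r, hr, hr1⟩ := (Subgroup.ne_bot_iff_exists_ne_one).mp (ne_bot_of_frattini (hΦ R hR)) |>.elim
    (fun r h => (⟨r.1, r.2, fun h1 => h (Subtype.ext h1)⟩ : ∃ r ∈ R, r ≠ 1))
  have ht1 : t ≠ 1 := by
    rintro rfl
    simp at ht2
  have e1 := hE r hr t ht hr1 ht1
  have e2 := hE r hr (t ^ 2) (T.pow_mem ht 2) hr1 ht2
  have e3 : orderOf (t ^ 2) = orderOf t := e2.symm.trans e1
  obtain ⟨k, hk⟩ := (IsPGroup.iff_orderOf.mp hS) t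
  have hk1 : k ≠ 0 := by
    rintro rfl
    rw [pow_zero, orderOf_eq_one_iff] at hk
    exact ht1 hk
  have hdvd : 2 ∣ orderOf t := by
    rw [hk]; exact dvd_pow_self 2 hk1
  have e4 : orderOf (t ^ 2) = orderOf t / 2 := orderOf_pow_of_dvd (by norm_num) hdvd
  rw [e3] at e4
  have hpos : 0 < orderOf t := by rw [hk]; positivity
  omega

end main

theorem result {S : Type*} [Group S] [Finite S] (hS : IsPGroup 2 S)
    (Δ : Set (Subgroup S)) (hinv : ∀ s : S, ∀ R ∈ Δ, R.map (MulAut.conj s).toMonoidHom ∈ Δ)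
    (hΦ : ∀ R ∈ Δ, frattini ↥R ≠ ⊥) (hord : ∀ R ∈ Δ, ∀ T ∈ Δ, Nat.card ↥R = Nat.card ↥T)
    (hti : ∀ R ∈ Δ, ∀ T ∈ Δ, R = T ∨ R ⊓ T = ⊥) :
    ∀ R ∈ Δ, ∀ T ∈ Δ, R ≠ T → ⁅R, T⁆ = ⊥ := by
  intro R hR T hT hne
  exact main hS Δ hinv hΦ hord hti _ R T hR hT hne rfl

end Cfsg.Agent.S1782
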