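import Cfsg.Statements.S4117
import Cfsg.Agent.Lib.Helper01.ActionSD
import Cfsg.Agent.Lib.Helper01.CyclicAux
import Cfsg.Agent.Lib.Helper01.Basic
import Cfsg.Agent.Lib.Helper01.FrobPartition
import Cfsg.Agent.S0055

set_option autoImplicit false
open Cfsg

namespace Cfsg.Agent.S4117

open SemidirectProduct
open scoped commutatorElement
open Cfsg.Agent.Lib.Helper01

/-- The commutator subgroup of an action is normal. -/
theorem actComm_normal {A G : Type*} [Group A] [Group G] [MulDistribMulAction A G] :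
    (actComm A G).Normal := by
  constructor
  intro n hn h
  unfold actComm at hn ⊢
  induction hn using Subgroup.closure_induction with
  | mem y hy =>
    obtain ⟨a, g, rfl⟩ := hy
    have e : h * (g⁻¹ * a • g) * h⁻¹ =
        ((g * h⁻¹)⁻¹ * a • (g * h⁻¹)) * ((h⁻¹)⁻¹ * a • h⁻¹)⁻¹ := by
      simp only [smul_mul', smul_inv']
      group
    rw [e]
    exact Subgroup.mul_mem _ (Subgroup.subset_closure ⟨a, g * h⁻¹, rfl⟩)
      (Subgroup.inv_mem _ (Subgroup.subset_closure ⟨a, h⁻¹, rfl⟩))
  | one => simp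
  | mul x y _ _ hx hy =>
    have e : h * (x * y) * h⁻¹ = (h * x * h⁻¹) * (h * y * h⁻¹) := by group
    rw [e]; exact Subgroup.mul_mem _ hx hy
  | inv x _ hx =>
    have e : h * x⁻¹ * h⁻¹ = (h * x * h⁻¹)⁻¹ := by group
    rw [e]; exact Subgroup.inv_mem _ hx

/-- Coprime action: `G = C_G(A) [G, A]`. -/
theorem fixed_sup_actComm {A G : Type*} [Group A] [Group G] [Finite A] [Finite G]
    [MulDistribMulAction A G] (hcop : (Nat.card A).Coprime (Nat.card G))
    (hsolv : Group.IsSolvable G) :
    FixedPoints.subgroup A G ⊔ actComm A G = ⊤ := by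
  have hsolv' : Group.IsSolvable ((inl : G →* SD A G).range) :=
    Group.isSolvable_of_isSolvable_injective
      (f := (MonoidHom.ofInjective (inl_injective (φ := MulDistribMulAction.toMulAut A G))).symm.toMonoidHom)
      (MonoidHom.ofInjective inl_injective).symm.injective
  have h1 := Cfsg.Agent.Lib.Helper32.le_centralizer_sup_commutator
    (R := (inl : G →* SD A G).range) (B := (inr : A →* SD A G).range)
    (by rw [Subgroup.normalizer_eq_top]; exact le_top)
    (by rw [sd_card_range_inl, sd_card_range_inr]; exact hcop.symm)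
    (Or.inl hsolv')
  have h2 : ((inl : G →* SD A G).range ⊓ Subgroup.centralizer
      (((inr : A →* SD A G).range : Subgroup (SD A G)) : Set (SD A G)))
      = (FixedPoints.subgroup A G).map (inl : G →* SD A G) := by
    ext x
    constructor
    · rintro ⟨⟨g, rfl⟩, hc⟩
      exact ⟨g, (sd_mem_centralizer_iff g).mp hc, rfl⟩
    · rintro ⟨g, hg, rfl⟩
      exact ⟨⟨g, rfl⟩, (sd_mem_centralizer_iff g).mpr hg⟩
  rw [h2, sd_commutator_eq, ← Subgroup.map_sup, MonoidHom.range_eq_map] at h1
  rw [eq_top_iff]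
  exact (Subgroup.map_le_map_iff_of_injective inl_injective).mp h1

theorem actComm_smul_mem {A G : Type*} [Group A] [Group G] [MulDistribMulAction A G]
    (a : A) (n : G) (hn : n ∈ actComm A G) : a • n ∈ actComm A G := by
  unfold actComm at hn ⊢
  induction hn using Subgroup.closure_induction with
  | mem y hy =>
    obtain ⟨b, g, rfl⟩ := hy
    apply Subgroup.subset_closure
    refine ⟨a * b * a⁻¹, a • g, ?_⟩
    simp only [smul_mul', smul_inv', smul_smul]
    simp
  | one => simp
  | mul x y _ _ hx hy => rw [smul_mul']; exact Subgroup.mul_mem _ hx hy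
  | inv x _ hx => rw [smul_inv']; exact Subgroup.inv_mem _ hx

theorem gen_eq {A G : Type*} [Group A] [Group G] [MulDistribMulAction A G]
    (hsup : FixedPoints.subgroup A G ⊔ actComm A G = ⊤) (a : A) (g : G) :
    ∃ m ∈ actComm A G, g⁻¹ * a • g = m⁻¹ * a • m := by
  haveI := actComm_normal (A := A) (G := G)
  have hg : g ∈ ((FixedPoints.subgroup A G ⊔ actComm A G : Subgroup G) : Set G) := by
    rw [hsup]; trivial
  rw [Subgroup.mul_normal] at hg
  obtain ⟨c, hc, m, hm, rfl⟩ := hg
  refine ⟨m, hm, ?_⟩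
  have hc' : a • c = c := hc a
  rw [smul_mul', hc']
  group

theorem fixed_inf_actComm {A G : Type*} [Group A] [Group G] [Finite A] [Finite G]
    [MulDistribMulAction A G] (hcop : (Nat.card A).Coprime (Nat.card G))
    (hsup : FixedPoints.subgroup A G ⊔ actComm A G = ⊤)
    (hcomm : ∀ x ∈ actComm A G, ∀ y ∈ actComm A G, x * y = y * x) :
    actComm A G ⊓ FixedPoints.subgroup A G = ⊥ := by
  set V : Subgroup (SD A G) := (actComm A G).map (inl : G →* SD A G) with hV
  set B : Subgroup (SD A G) := (inr : A →* SD A G).range with hB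
  haveI : IsMulCommutative V := ⟨⟨by
    rintro ⟨_, x, hx, rfl⟩ ⟨_, y, hy, rfl⟩
    apply Subtype.ext
    change (inl x : SD A G) * inl y = inl y * inl x
    rw [← map_mul, ← map_mul, hcomm x hx y hy]⟩⟩
  have hBV : B ≤ Subgroup.normalizer (V : Set (SD A G)) := by
    rintro _ ⟨a, rfl⟩
    rw [Subgroup.mem_normalizer_iff]
    intro v
    constructor
    · rintro ⟨n, hn, rfl⟩
      rw [← map_inv, sd_conj]
      exact ⟨a • n, actComm_smul_mem a n hn, rfl⟩
    · rintro ⟨n, hn, hnv⟩
      have : v = inl (a⁻¹ • n) := by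
        rw [← sd_conj, hnv]
        simp [mul_assoc]
      rw [this]
      exact ⟨a⁻¹ • n, actComm_smul_mem a⁻¹ n hn, rfl⟩
  have hcard : (Nat.card B).Coprime (Nat.card V) := by
    rw [hB, sd_card_range_inr, hV, Subgroup.card_map_of_injective inl_injective]
    exact Nat.Coprime.coprime_dvd_right (Subgroup.card_subgroup_dvd_card _) hcop
  have h55 := (Cfsg.Agent.S0055.result B V hBV hcard).1
  have hVle : V ≤ ⁅V, B⁆ := by
    rintro _ ⟨n, hn, rfl⟩
    have hn' : n ∈ Subgroup.closure {y : G | ∃ (a : A) (g : G), y = g⁻¹ * a • g} := hn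
    induction hn' using Subgroup.closure_induction with
    | mem y hy =>
      obtain ⟨a, g, rfl⟩ := hy
      obtain ⟨m, hm, hgm⟩ := gen_eq hsup a g
      rw [hgm]
      have : (inl (m⁻¹ * a • m) : SD A G) = ⁅(inl m⁻¹ : SD A G), inr a⁆ := by
        rw [commutatorElement_def, map_mul, ← sd_conj]
        simp [mul_assoc]
      rw [this]
      exact Subgroup.commutator_mem_commutator ⟨m⁻¹, (actComm A G).inv_mem hm, rfl⟩ ⟨a, rfl⟩
    | one => rw [map_one]; exact Subgroup.one_mem _
    | mul x y hx hy hx' hy' =>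
      rw [map_mul]
      exact Subgroup.mul_mem _ (hx' (Subgroup.closure_le _ |>.mpr (fun _ h => Subgroup.subset_closure h) hx))
        (hy' (Subgroup.closure_le _ |>.mpr (fun _ h => Subgroup.subset_closure h) hy))
    | inv x hx hx' =>
      rw [map_inv]
      exact Subgroup.inv_mem _ (hx' (Subgroup.closure_le _ |>.mpr (fun _ h => Subgroup.subset_closure h) hx))
  rw [eq_bot_iff]
  intro n hn
  obtain ⟨hn1, hn2⟩ := Subgroup.mem_inf.mp hn
  have h1 : (inl n : SD A G) ∈ V := ⟨n, hn1, rfl⟩
  have h2 : (inl n : SD A G) ∈ Subgroup.centralizer (B : Set (SD A G)) :=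
    (sd_mem_centralizer_iff n).mpr hn2
  have h3 : (inl n : SD A G) ∈ (V ⊓ Subgroup.centralizer (B : Set (SD A G))) ⊓ ⁅V, B⁆ :=
    Subgroup.mem_inf.mpr ⟨Subgroup.mem_inf.mpr ⟨h1, h2⟩, hVle h1⟩
  rw [h55, Subgroup.mem_bot] at h3
  rw [Subgroup.mem_bot]
  have : (inl n : SD A G) = inl 1 := by rw [h3, map_one]
  exact inl_injective this

theorem actComm_le_centralizer {A G : Type*} [Group A] [Group G] [Finite G]
    [MulDistribMulAction A G] [IsZGroup G] :
    actComm A G ≤ Subgroup.centralizer (commutator G : Set G) := by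
  haveI : IsCyclic (commutator G) := IsZGroup.isCyclic_commutator G
  obtain ⟨⟨y₀, hy₀⟩, hgen⟩ := IsCyclic.exists_generator (α := commutator G)
  have hchar : (commutator G).Characteristic := by unfold commutator; infer_instance
  have hinv : ∀ (a : A) (z : G), z ∈ commutator G → a • z ∈ commutator G := by
    intro a z hz
    exact Subgroup.characteristic_iff_le_comap.mp hchar (MulDistribMulAction.toMulAut A G a) hz
  have hpow : ∀ g : G, ∃ k : ℤ, ∀ z ∈ commutator G, g * z * g⁻¹ = z ^ k := by
    intro g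
    have h1 : g * y₀ * g⁻¹ ∈ commutator G :=
      (inferInstance : (commutator G).Normal).conj_mem y₀ hy₀ g
    obtain ⟨k, hk⟩ := Subgroup.mem_zpowers_iff.mp (hgen ⟨g * y₀ * g⁻¹, h1⟩)
    have hk' : y₀ ^ k = g * y₀ * g⁻¹ := by
      have := congrArg Subtype.val hk
      simpa using this
    refine ⟨k, fun z hz => ?_⟩
    obtain ⟨j, hj⟩ := Subgroup.mem_zpowers_iff.mp (hgen ⟨z, hz⟩)
    have hj' : y₀ ^ j = z := by
      have := congrArg Subtype.val hj
      simpa using this
    rw [← hj', ← zpow_mul, mul_comm, zpow_mul, hk', conj_zpow]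
  unfold actComm
  rw [Subgroup.closure_le]
  rintro _ ⟨a, g, rfl⟩
  rw [SetLike.mem_coe, Subgroup.mem_centralizer_iff]
  intro z hz
  obtain ⟨k, hk⟩ := hpow g
  have h1 : a • g * z * (a • g)⁻¹ = z ^ k := by
    have h2 := hk (a⁻¹ • z) (hinv a⁻¹ z hz)
    have h3 := congrArg (fun t => a • t) h2
    simp only [smul_mul', smul_inv', smul_zpow', smul_inv_smul] at h3
    exact h3
  have h4 := hk z hz
  have h5 : a • g * z * (a • g)⁻¹ = g * z * g⁻¹ := h1.trans h4.symm
  calc z * (g⁻¹ * a • g) = g⁻¹ * (g * z * g⁻¹) * a • g := by group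
    _ = g⁻¹ * (a • g * z * (a • g)⁻¹) * a • g := by rw [h5]
    _ = g⁻¹ * a • g * z := by group

theorem actComm_comm {A G : Type*} [Group A] [Group G] [Finite G]
    [MulDistribMulAction A G] [IsZGroup G] :
    ∀ x ∈ actComm A G, ∀ y ∈ actComm A G, x * y = y * x := by
  intro x hx y hy
  let f : ↥(actComm A G) →* Abelianization G :=
    (Abelianization.of).comp (actComm A G).subtype
  have hker : f.ker ≤ Subgroup.center ↥(actComm A G) := by
    intro n hn
    rw [MonoidHom.mem_ker] at hn
    have hn' : (n : G) ∈ commutator G := (QuotientGroup.eq_one_iff _).mp hn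
    rw [Subgroup.mem_center_iff]
    intro m
    apply Subtype.ext
    have := actComm_le_centralizer m.2
    rw [Subgroup.mem_centralizer_iff] at this
    exact (this n hn').symm
  have := commutative_of_cyclic_center_quotient f hker ⟨x, hx⟩ ⟨y, hy⟩
  exact congrArg Subtype.val this

theorem actComm_isCyclic {A G : Type*} [Group A] [Group G] [Finite G]
    [MulDistribMulAction A G] [IsZGroup G] : IsCyclic ↥(actComm A G) := by
  letI : CommGroup ↥(actComm A G) :=
    { (inferInstance : Group ↥(actComm A G)) with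
      mul_comm := fun x y => Subtype.ext (actComm_comm (x : G) x.2 (y : G) y.2) }
  haveI : Group.IsNilpotent ↥(actComm A G) := CommGroup.isNilpotent
  infer_instance

theorem coprime_card_of_isZGroup {G : Type*} [Group G] [Finite G] [IsZGroup G]
    (N F : Subgroup G) [N.Normal] [IsCyclic N] (hNF : N ⊓ F = ⊥) :
    (Nat.card F).Coprime (Nat.card N) := by
  by_contra hne
  obtain ⟨p, hp, hpF, hpN⟩ := Nat.Prime.not_coprime_iff_dvd.mp hne
  haveI := Fact.mk hp
  obtain ⟨c, hc⟩ := exists_prime_orderOf_dvd_card' p hpF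
  obtain ⟨z, hz⟩ := exists_prime_orderOf_dvd_card' p hpN
  have hcG : orderOf (c : G) = p := by rw [Subgroup.orderOf_coe, hc]
  have hzG : orderOf (z : G) = p := by rw [Subgroup.orderOf_coe, hz]
  have hPc : IsPGroup p (Subgroup.zpowers (c : G)) :=
    IsPGroup.of_card (n := 1) (by rw [Nat.card_zpowers, hcG, pow_one])
  have hPz : IsPGroup p (Subgroup.zpowers (z : G)) :=
    IsPGroup.of_card (n := 1) (by rw [Nat.card_zpowers, hzG, pow_one])
  obtain ⟨P, hP⟩ := hPc.exists_le_sylow
  obtain ⟨Q, hQ⟩ := hPz.exists_le_sylow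
  obtain ⟨g, hg⟩ := MulAction.exists_smul_eq G P Q
  have hcP : (c : G) ∈ (P : Subgroup G) := hP (Subgroup.mem_zpowers _)
  have hzQ : (z : G) ∈ (Q : Subgroup G) := hQ (Subgroup.mem_zpowers _)
  have hcQ : g * (c : G) * g⁻¹ ∈ (Q : Subgroup G) := by
    rw [← hg, Sylow.coe_subgroup_smul, mem_conj_smul_iff_mul]
    have : g⁻¹ * (g * (c : G) * g⁻¹) * g = c := by group
    rw [this]; exact hcP
  haveI : IsCyclic ↥(Q : Subgroup G) := IsZGroup.isZGroup p hp Q
  have hmem := mem_zpowers_of_isCyclic (H := ↥(Q : Subgroup G)) hp.pos ⟨(z : G), hzQ⟩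
    ⟨g * (c : G) * g⁻¹, hcQ⟩ ((Subgroup.orderOf_mk _ _).trans hzG)
    (by
      apply Subtype.ext
      simp only [Subgroup.coe_pow, Subgroup.coe_one]
      rw [conj_pow, ← hcG, pow_orderOf_eq_one]
      group)
  obtain ⟨k, hk⟩ := Subgroup.mem_zpowers_iff.mp hmem
  have hk' : (z : G) ^ k = g * (c : G) * g⁻¹ := by
    have := congrArg Subtype.val hk
    simpa using this
  have hcN : g * (c : G) * g⁻¹ ∈ N := by
    rw [← hk']; exact Subgroup.zpow_mem _ z.2 k
  have hcN' : (c : G) ∈ N := by
    have := (inferInstance : N.Normal).conj_mem _ hcN g⁻¹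
    have e : g⁻¹ * (g * (c : G) * g⁻¹) * g⁻¹⁻¹ = c := by group
    rw [e] at this; exact this
  have hc1 : (c : G) ∈ N ⊓ F := Subgroup.mem_inf.mpr ⟨hcN', c.2⟩
  rw [hNF, Subgroup.mem_bot] at hc1
  rw [hc1, orderOf_one] at hcG
  exact hp.one_lt.ne hcG


/-- Let A be a finite group acting on the finite group G by automorphisms with the orders of A and G coprime, and suppose every Sylow subgroup of G is cyclic. Then the fixed-point subgroup C_G(A) is a Hall subgroup of G (its order is coprime to its index), the subgroup [G, A] generated by the elements g⁻¹·a(g) is cyclic and normal with [G, A] ∩ C_G(A) = 1 and [G, A]·C_G(A) = G. -/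
theorem result {G A : Type*} [Group G] [Finite G] [Group A] [Finite A]
    [MulDistribMulAction A G] (hcop : (Nat.card A).Coprime (Nat.card G))
    (hcyc : ∀ (p : ℕ) [Fact p.Prime] (P : Sylow p G), IsCyclic (P : Subgroup G)) :
    (Nat.card (MulAction.fixedPoints A G : Set G)).Coprime (Nat.card G / Nat.card (MulAction.fixedPoints A G : Set G)) ∧
    IsCyclic (Subgroup.closure {y : G | ∃ (a : A) (g : G), y = g⁻¹ * a • g}) ∧
    (Subgroup.closure {y : G | ∃ (a : A) (g : G), y = g⁻¹ * a • g}).Normal ∧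
    (Subgroup.closure {y : G | ∃ (a : A) (g : G), y = g⁻¹ * a • g} : Set G) ∩ MulAction.fixedPoints A G = {1} ∧
    Subgroup.closure {y : G | ∃ (a : A) (g : G), y = g⁻¹ * a • g} ⊔ Subgroup.closure (MulAction.fixedPoints A G) = ⊤ := by
  haveI : IsZGroup G := ⟨fun p hp P => by haveI := Fact.mk hp; exact hcyc p P⟩
  have hsolv : Group.IsSolvable G := inferInstance
  have hN : Subgroup.closure {y : G | ∃ (a : A) (g : G), y = g⁻¹ * a • g} = actComm A G := rfl
  rw [hN]
  have hFcl : Subgroup.closure (MulAction.fixedPoints A G) = FixedPoints.subgroup A G :=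
    Subgroup.closure_eq (FixedPoints.subgroup A G)
  rw [hFcl]
  have hsup := fixed_sup_actComm hcop hsolv
  have hinf := fixed_inf_actComm hcop hsup actComm_comm
  haveI := actComm_normal (A := A) (G := G)
  haveI := actComm_isCyclic (A := A) (G := G)
  have hcard : Nat.card G = Nat.card (actComm A G) * Nat.card (FixedPoints.subgroup A G) := by
    have := card_sup_mul_card_inf (actComm A G) (FixedPoints.subgroup A G)
    rw [hsup, hinf, Subgroup.card_top, Subgroup.card_bot, mul_one] at this
    exact this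
  have hFcard : Nat.card (MulAction.fixedPoints A G : Set G)
      = Nat.card (FixedPoints.subgroup A G) := rfl
  refine ⟨?_, inferInstance, inferInstance, ?_, ?_⟩
  · rw [hFcard, hcard, Nat.mul_div_cancel _ Nat.card_pos]
    exact coprime_card_of_isZGroup _ _ hinf
  · ext x
    simp only [Set.mem_inter_iff, SetLike.mem_coe, Set.mem_singleton_iff]
    constructor
    · rintro ⟨h1, h2⟩
      have : x ∈ actComm A G ⊓ FixedPoints.subgroup A G := Subgroup.mem_inf.mpr ⟨h1, h2⟩
      rwa [hinf, Subgroup.mem_bot] at this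
    · rintro rfl
      exact ⟨Subgroup.one_mem _, Subgroup.one_mem (FixedPoints.subgroup A G)⟩
  · rw [sup_comm]; exact hsup

end Cfsg.Agent.S4117
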