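import Cfsg.Statements.S5913

set_option autoImplicit false
open Cfsg

namespace Cfsg.Agent.S5913

theorem center_eq_bot {S : Type*} [Group S] [IsSimpleGroup S] (hS : ¬ IsMulCommutative S) :
    Subgroup.center S = ⊥ := by
  rcases (inferInstance : (Subgroup.center S).Normal).eq_bot_or_eq_top with h | h
  · exact h
  · exfalso
    apply hS
    rw [isMulCommutative_iff]
    intro a b
    have ha : a ∈ Subgroup.center S := h ▸ Subgroup.mem_top a
    rw [Subgroup.mem_center_iff] at ha
    exact (ha b).symm

theorem mulSingle_mem {S : Type*} [Group S] [IsSimpleGroup S] (hS : ¬ IsMulCommutative S) (n : ℕ)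
    (N : Subgroup (Fin n → S)) [hN : N.Normal] (i : Fin n) (y : Fin n → S) (hy : y ∈ N)
    (hyi : y i ≠ 1) (s : S) : Pi.mulSingle i s ∈ N := by
  set Ni : Subgroup S := N.comap (MonoidHom.mulSingle (fun _ : Fin n => S) i) with hNi
  have hNin : Ni.Normal := hN.comap _
  have hne : Ni ≠ ⊥ := by
    -- y i is not central
    have hyc : y i ∉ Subgroup.center S := by
      rw [center_eq_bot hS, Subgroup.mem_bot]; exact hyi
    rw [Subgroup.mem_center_iff] at hyc
    push Not at hyc
    obtain ⟨t, ht⟩ := hyc
    intro hbot
    have hmem : (y i * t * (y i)⁻¹ * t⁻¹) ∈ Ni := by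
      rw [hNi, Subgroup.mem_comap]
      have h1 : y * Pi.mulSingle i t * y⁻¹ * (Pi.mulSingle i t)⁻¹ ∈ N := by
        have h2 : Pi.mulSingle i t * y⁻¹ * (Pi.mulSingle i t)⁻¹ ∈ N :=
          hN.conj_mem _ (N.inv_mem hy) _
        have := N.mul_mem hy h2
        simpa [mul_assoc] using this
      have h3 : (MonoidHom.mulSingle (fun _ : Fin n => S) i) (y i * t * (y i)⁻¹ * t⁻¹)
          = y * Pi.mulSingle i t * y⁻¹ * (Pi.mulSingle i t)⁻¹ := by
        funext j
        by_cases hj : j = i
        · subst hj
          simp
        · simp [Pi.mulSingle_eq_of_ne hj]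
      rw [h3]; exact h1
    rw [hbot, Subgroup.mem_bot] at hmem
    apply ht
    have : y i * t = t * y i := by
      have h4 : y i * t * (y i)⁻¹ = t := by
        rw [mul_inv_eq_one] at hmem; exact hmem
      rw [mul_inv_eq_iff_eq_mul] at h4
      exact h4
    exact this.symm
  have htop : Ni = ⊤ := (hNin.eq_bot_or_eq_top).resolve_left hne
  have : s ∈ Ni := htop ▸ Subgroup.mem_top s
  exact this

/-- Let S be a non-abelian simple group and n a natural number. Every normal subgroup N of the direct power S^n (functions Fin n → S) is a subproduct: there is a set T of coordinates such that N consists exactly of the elements whose coordinates outside T are trivial. In particular the minimal normal subgroups of S^n are its n factors. -/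
theorem result {S : Type*} [Group S] [IsSimpleGroup S] (hS : ¬ IsMulCommutative S) (n : ℕ)
    (N : Subgroup (Fin n → S)) [N.Normal] :
    ∃ T : Finset (Fin n), ∀ x : Fin n → S, x ∈ N ↔ ∀ i, i ∉ T → x i = 1 := by
  classical
  refine ⟨Finset.univ.filter (fun i => ∃ y ∈ N, y i ≠ 1), fun x => ⟨?_, ?_⟩⟩
  · intro hx i hi
    by_contra hne
    apply hi
    simp only [Finset.mem_filter, Finset.mem_univ, true_and]
    exact ⟨x, hx, hne⟩
  · intro hx
    rw [← Finset.noncommProd_mulSingle x]
    apply Subgroup.noncommProd_mem
    intro i _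
    by_cases hi : i ∈ Finset.univ.filter (fun i => ∃ y ∈ N, y i ≠ 1)
    · simp only [Finset.mem_filter, Finset.mem_univ, true_and] at hi
      obtain ⟨y, hy, hyi⟩ := hi
      exact mulSingle_mem hS n N i y hy hyi (x i)
    · rw [hx i hi, Pi.mulSingle_one]
      exact N.one_mem

end Cfsg.Agent.S5913
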