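import Cfsg.Statements.S5914
import Cfsg.Agent.S5913

set_option autoImplicit false
open Cfsg

namespace Cfsg.Agent.S5914

section forward

variable {G : Type*} [Group G]

theorem nonempty_prod_equiv_sup (A B : Subgroup G) (hA : A.Normal) (hB : B.Normal)
    (hdis : Disjoint A B) : Nonempty ((A × B) ≃* ↥(A ⊔ B)) := by
  have comm : ∀ (a : A) (b : B), Commute (A.subtype a) (B.subtype b) :=
    fun a b => Subgroup.commute_of_normal_of_disjoint A B hA hB hdis a b a.2 b.2
  let f := MonoidHom.noncommCoprod A.subtype B.subtype comm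
  have hinj : Function.Injective f := by
    rw [MonoidHom.noncommCoprod_injective]
    refine ⟨A.subtype_injective, B.subtype_injective, ?_⟩
    rw [Subgroup.range_subtype, Subgroup.range_subtype]; exact hdis
  have hrange : f.range = A ⊔ B := by
    rw [MonoidHom.noncommCoprod_range, Subgroup.range_subtype, Subgroup.range_subtype]
  exact ⟨(MonoidHom.ofInjective hinj).trans (MulEquiv.subgroupCongr hrange)⟩

/-- `N × N^k ≃* N^(k+1)`. -/
def consMulEquiv (N : Type*) [Group N] (k : ℕ) : (N × (Fin k → N)) ≃* (Fin (k + 1) → N) :=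
  { Fin.consEquiv (fun _ => N) with
    map_mul' := fun x y => by
      funext i
      refine Fin.cases ?_ (fun j => ?_) i <;> simp [Fin.consEquiv] }

/-- Minimal normal subgroups. -/
def MinNormal (N : Subgroup G) : Prop :=
  N.Normal ∧ N ≠ ⊥ ∧ ∀ K : Subgroup G, K.Normal → K ≤ N → K = ⊥ ∨ K = N

theorem MinNormal.map {N : Subgroup G} (hN : MinNormal N) (α : G ≃* G) :
    MinNormal (N.map α.toMonoidHom) := by
  obtain ⟨hn, hbot, hmin⟩ := hN
  refine ⟨hn.map _ α.surjective, ?_, ?_⟩
  · intro h
    apply hbot
    rw [eq_bot_iff] at h ⊢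
    intro x hx
    have : α x ∈ N.map α.toMonoidHom := ⟨x, hx, rfl⟩
    have := h this
    rw [Subgroup.mem_bot] at this ⊢
    exact α.injective (this.trans (map_one α).symm)
  · intro K hK hKN
    have hK' : (K.comap α.toMonoidHom).Normal := hK.comap _
    have hle : K.comap α.toMonoidHom ≤ N := by
      intro x hx
      obtain ⟨y, hy, hyx⟩ := hKN hx
      have : y = x := α.injective hyx
      rwa [← this]
    rcases hmin _ hK' hle with h | h
    · left
      rw [eq_bot_iff]
      intro x hx
      have : α.symm x ∈ K.comap α.toMonoidHom := by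
        show α (α.symm x) ∈ K
        rwa [α.apply_symm_apply]
      rw [h, Subgroup.mem_bot] at this
      rw [Subgroup.mem_bot]
      have h2 := congrArg α this
      rwa [α.apply_symm_apply, map_one] at h2
    · right
      rw [← h, Subgroup.map_comap_eq_self_of_surjective (f := α.toMonoidHom) α.surjective]

theorem exists_minNormal [Finite G] [Nontrivial G] : ∃ N : Subgroup G, MinNormal N := by
  obtain ⟨N, ⟨hNn, hNbot⟩, hNmin⟩ := wellFounded_lt.has_min
    {N : Subgroup G | N.Normal ∧ N ≠ ⊥} ⟨⊤, inferInstance, top_ne_bot⟩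
  refine ⟨N, hNn, hNbot, fun K hK hKN => ?_⟩
  by_contra hcon
  push Not at hcon
  exact hNmin K ⟨hK, hcon.1⟩ (lt_of_le_of_ne hKN hcon.2)

theorem forward [Finite G] [Nontrivial G]
    (hchar : ∀ H : Subgroup G, H.Characteristic → H = ⊥ ∨ H = ⊤) :
    ∃ (S : Type) (_ : Group S) (_ : IsSimpleGroup S) (n : ℕ), 1 ≤ n ∧
      Nonempty (G ≃* (Fin n → S)) := by
  obtain ⟨N, hN⟩ := exists_minNormal (G := G)
  have hNn : N.Normal := hN.1
  -- the subgroup generated by all automorphic images of N is everything
  set C : Subgroup G := ⨆ α : G ≃* G, N.map α.toMonoidHom with hC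
  have hCchar : C.Characteristic := by
    rw [Subgroup.characteristic_iff_map_le]
    intro φ
    rw [hC, Subgroup.map_iSup]
    apply iSup_le
    intro α
    rw [Subgroup.map_map]
    exact le_iSup (fun β : G ≃* G => N.map β.toMonoidHom) (α.trans φ)
  have hNC : N ≤ C := by
    have := le_iSup (fun β : G ≃* G => N.map β.toMonoidHom) (MulEquiv.refl G)
    refine le_trans ?_ this
    intro x hx
    exact ⟨x, hx, rfl⟩
  have hCtop : C = ⊤ := by
    rcases hchar C hCchar with h | h
    · exfalso
      apply hN.2.1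
      rw [eq_bot_iff, ← h]; exact hNC
    · exact h
  -- maximal normal subgroup isomorphic to a power of N
  obtain ⟨M, ⟨hMn, k, hk, ⟨eM⟩⟩, hMmax⟩ := wellFounded_gt.has_min
    {M : Subgroup G | M.Normal ∧ ∃ k : ℕ, 1 ≤ k ∧ Nonempty (M ≃* (Fin k → N))}
    ⟨N, hNn, 1, le_rfl, ⟨(MulEquiv.funUnique (Fin 1) N).symm⟩⟩
  have hall : ∀ α : G ≃* G, N.map α.toMonoidHom ≤ M := by
    intro α
    by_contra hnot
    have hα := hN.map α
    have hdis : Disjoint M (N.map α.toMonoidHom) := by
      rw [disjoint_iff]
      have hinfn : (M ⊓ N.map α.toMonoidHom).Normal := by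
        have := hα.1
        infer_instance
      rcases hα.2.2 _ hinfn inf_le_right with h | h
      · exact h
      · exact absurd (h ▸ inf_le_left) hnot
    have hαn := hα.1
    obtain ⟨e1⟩ := nonempty_prod_equiv_sup M (N.map α.toMonoidHom) hMn hαn hdis
    have e2 : N ≃* N.map α.toMonoidHom := α.subgroupMap N
    have e3 : ↥(M ⊔ N.map α.toMonoidHom) ≃* (Fin (k + 1) → N) :=
      e1.symm.trans ((MulEquiv.prodCongr eM e2.symm).trans
        (MulEquiv.prodComm.trans (consMulEquiv N k)))
    have hmem : M ⊔ N.map α.toMonoidHom ∈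
        {M : Subgroup G | M.Normal ∧ ∃ k : ℕ, 1 ≤ k ∧ Nonempty (M ≃* (Fin k → N))} :=
      ⟨inferInstance, k + 1, by omega, ⟨e3⟩⟩
    apply hMmax _ hmem
    show M < M ⊔ N.map α.toMonoidHom
    refine lt_of_le_of_ne le_sup_left ?_
    intro heq
    exact hnot (heq ▸ le_sup_right)
  have hMtop : M = ⊤ := by
    rw [eq_top_iff, ← hCtop, hC]
    exact iSup_le hall
  -- N is simple
  have hNsimple : IsSimpleGroup N := by
    rw [Subgroup.isSimpleGroup_iff]
    refine ⟨hN.2.1, fun K hKN hKnorm => ?_⟩
    rw [Subgroup.normal_subgroupOf_iff_le_normalizer hKN] at hKnorm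
    have hKn : K.Normal := by
      rw [← Subgroup.normalizer_eq_top_iff, eq_top_iff, ← hCtop, hC]
      apply iSup_le
      intro α
      have hα := hN.map α
      by_cases heq : N.map α.toMonoidHom = N
      · rw [heq]; exact hKnorm
      · have hdis : Disjoint (N.map α.toMonoidHom) N := by
          rw [disjoint_iff]
          have hinfn : (N.map α.toMonoidHom ⊓ N).Normal := by
            have := hα.1
            infer_instance
          rcases hN.2.2 _ hinfn inf_le_right with h | h
          · exact h
          · exfalso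
            have hle : N ≤ N.map α.toMonoidHom :=
              calc N = N.map α.toMonoidHom ⊓ N := h.symm
                _ ≤ N.map α.toMonoidHom := inf_le_left
            rcases hα.2.2 N hNn hle with h' | h'
            · exact hN.2.1 h'
            · exact heq h'.symm
        rw [Subgroup.le_normalizer_iff]
        intro g hg x hx
        have := Subgroup.commute_of_normal_of_disjoint _ _ hα.1 hNn hdis g x hg (hKN hx)
        have h2 : g * x * g⁻¹ = x := by
          rw [this.eq, mul_inv_cancel_right]
        rw [h2]; exact hx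
    exact hN.2.2 K hKn hKN
  -- conclude
  have e4 : G ≃* (Fin k → N) := by
    subst hMtop
    exact Subgroup.topEquiv.symm.trans eM
  have e5 : Shrink.{0} N ≃* N := Shrink.mulEquiv
  have hSsimple : IsSimpleGroup (Shrink.{0} N) := e5.isSimpleGroup
  refine ⟨Shrink.{0} N, inferInstance, hSsimple, k, hk, ⟨e4.trans ?_⟩⟩
  exact MulEquiv.piCongrRight (fun _ => e5.symm)

end forward


section backward

theorem charSimple_of_equiv {G P : Type*} [Group G] [Group P] (e : G ≃* P)
    (hP : ∀ H : Subgroup P, H.Characteristic → H = ⊥ ∨ H = ⊤) :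
    ∀ H : Subgroup G, H.Characteristic → H = ⊥ ∨ H = ⊤ := by
  intro H hH
  have hchar : (H.map e.toMonoidHom).Characteristic := by
    rw [Subgroup.characteristic_iff_map_le]
    intro φ
    rw [Subgroup.map_map]
    have : φ.toMonoidHom.comp e.toMonoidHom =
        e.toMonoidHom.comp ((e.trans φ).trans e.symm).toMonoidHom := by
      ext x; simp
    rw [this, ← Subgroup.map_map]
    apply Subgroup.map_mono
    exact (Subgroup.characteristic_iff_map_le.mp hH _)
  rcases hP _ hchar with h | h
  · left; exact (Subgroup.map_eq_bot_iff_of_injective H e.injective).mp h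
  · right
    rw [eq_top_iff]; intro x _
    have : e x ∈ H.map e.toMonoidHom := h ▸ Subgroup.mem_top _
    obtain ⟨y, hy, hyx⟩ := this
    rwa [← e.injective hyx]

/-- Permuting the coordinates. -/
def permAut (S : Type*) [Group S] {n : ℕ} (σ : Equiv.Perm (Fin n)) :
    (Fin n → S) ≃* (Fin n → S) where
  toFun x := x ∘ σ
  invFun x := x ∘ σ.symm
  left_inv x := by funext i; simp
  right_inv x := by funext i; simp
  map_mul' x y := rfl

theorem backward_nonabelian {S : Type*} [Group S] [IsSimpleGroup S] (hS : ¬ IsMulCommutative S)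
    (n : ℕ) (H : Subgroup (Fin n → S)) (hH : H.Characteristic) : H = ⊥ ∨ H = ⊤ := by
  classical
  have : H.Normal := inferInstance
  obtain ⟨T, hT⟩ := Cfsg.Agent.S5913.result hS n H
  by_cases hTe : T = ∅
  · left
    rw [eq_bot_iff]; intro x hx
    rw [hT] at hx
    rw [Subgroup.mem_bot]
    funext i
    exact hx i (by simp [hTe])
  · right
    obtain ⟨i₀, hi₀⟩ := Finset.nonempty_of_ne_empty hTe
    have hall : ∀ j, j ∈ T := by
      intro j
      by_contra hj
      obtain ⟨s, hs⟩ := exists_ne (1 : S)
      have hx : Pi.mulSingle i₀ s ∈ H := by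
        rw [hT]; intro i hi
        have : i ≠ i₀ := fun h => hi (h ▸ hi₀)
        exact Pi.mulSingle_eq_of_ne (M := fun _ : Fin n => S) this s
      have hmap := Subgroup.characteristic_iff_le_comap.mp hH (permAut S (Equiv.swap i₀ j))
      have h1 := hmap hx
      have h2 := (hT _).mp h1 j hj
      have h3 : (permAut S (Equiv.swap i₀ j)) (Pi.mulSingle i₀ s) j = s := by
        show (Pi.mulSingle i₀ s : Fin n → S) (Equiv.swap i₀ j j) = s
        rw [Equiv.swap_apply_right, Pi.mulSingle_eq_same]
      exact hs (h3.symm.trans h2)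
    rw [eq_top_iff]; intro x _
    rw [hT]; intro i hi; exact absurd (hall i) hi

/-- A shear automorphism of a power of a commutative group. -/
def shearAut {S : Type*} [CommGroup S] {n : ℕ} (i j : Fin n) (hij : i ≠ j) (k : ℤ) :
    (Fin n → S) ≃* (Fin n → S) where
  toFun y := y * Pi.mulSingle j ((y i) ^ k)
  invFun y := y * Pi.mulSingle j ((y i) ^ (-k))
  left_inv y := by
    funext l
    by_cases hl : l = j
    · subst hl
      simp [Pi.mulSingle_eq_of_ne hij, zpow_neg]
    · simp [Pi.mulSingle_eq_of_ne hl]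
  right_inv y := by
    funext l
    by_cases hl : l = j
    · subst hl
      simp [Pi.mulSingle_eq_of_ne hij, zpow_neg]
    · simp [Pi.mulSingle_eq_of_ne hl]
  map_mul' y z := by
    funext l
    by_cases hl : l = j
    · subst hl
      simp [mul_zpow, mul_mul_mul_comm]
    · simp [Pi.mulSingle_eq_of_ne hl]

theorem backward_abelian {S : Type*} [CommGroup S] [IsSimpleGroup S] (n : ℕ)
    (H : Subgroup (Fin n → S)) (hH : H.Characteristic) : H = ⊥ ∨ H = ⊤ := by
  classical
  rw [or_iff_not_imp_left]
  intro hbot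
  obtain ⟨x, hxH, hx1⟩ : ∃ x ∈ H, x ≠ 1 := by
    by_contra hcon
    push Not at hcon
    exact hbot ((Subgroup.eq_bot_iff_forall H).mpr hcon)
  obtain ⟨i₀, hi₀⟩ : ∃ i, x i ≠ 1 := by
    by_contra h
    push Not at h
    exact hx1 (funext h)
  have hgen : ∀ s : S, ∃ k : ℤ, (x i₀) ^ k = s := by
    have htop : Subgroup.zpowers (x i₀) = ⊤ := by
      rcases (Subgroup.normal_of_isMulCommutative (Subgroup.zpowers (x i₀))).eq_bot_or_eq_top with h | h
      · exact absurd (Subgroup.zpowers_eq_bot.mp h) hi₀
      · exact h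
    intro s
    have : s ∈ Subgroup.zpowers (x i₀) := htop ▸ Subgroup.mem_top s
    exact Subgroup.mem_zpowers_iff.mp this
  have h1 : ∀ j, j ≠ i₀ → ∀ s, Pi.mulSingle j s ∈ H := by
    intro j hj s
    obtain ⟨k, rfl⟩ := hgen s
    have hmem := Subgroup.characteristic_iff_le_comap.mp hH (shearAut i₀ j hj.symm k) hxH
    have hmem' : x * Pi.mulSingle j ((x i₀) ^ k) ∈ H := hmem
    have := H.mul_mem (H.inv_mem hxH) hmem'
    rwa [inv_mul_cancel_left] at this
  have h2 : Pi.mulSingle i₀ (x i₀) ∈ H := by
    have hx : Pi.mulSingle i₀ (x i₀) * ∏ j ∈ Finset.univ.erase i₀, Pi.mulSingle j (x j) = x := by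
      rw [Finset.mul_prod_erase Finset.univ (fun j => (Pi.mulSingle j (x j) : Fin n → S))
        (Finset.mem_univ i₀), Finset.univ_prod_mulSingle]
    have hprod : ∏ j ∈ Finset.univ.erase i₀, Pi.mulSingle j (x j) ∈ H :=
      Subgroup.prod_mem _ (fun j hj => h1 j (Finset.ne_of_mem_erase hj) _)
    have : Pi.mulSingle i₀ (x i₀) =
        x * (∏ j ∈ Finset.univ.erase i₀, Pi.mulSingle j (x j))⁻¹ := by
      rw [eq_mul_inv_iff_mul_eq]; exact hx
    rw [this]; exact H.mul_mem hxH (H.inv_mem hprod)
  have h3 : ∀ s, Pi.mulSingle i₀ s ∈ H := by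
    intro s
    obtain ⟨k, rfl⟩ := hgen s
    have := H.zpow_mem h2 k
    have e : Pi.mulSingle i₀ (x i₀ ^ k) = (Pi.mulSingle i₀ (x i₀) : Fin n → S) ^ k :=
      map_zpow (MonoidHom.mulSingle (fun _ : Fin n => S) i₀) (x i₀) k
    rw [e]; exact this
  rw [eq_top_iff]; intro y _
  rw [← Finset.univ_prod_mulSingle y]
  refine Subgroup.prod_mem _ (fun j _ => ?_)
  by_cases hj : j = i₀
  · subst hj; exact h3 _
  · exact h1 j hj _

theorem backward_abelian' {S : Type*} [Group S] [IsSimpleGroup S]
    (hcomm : ∀ a b : S, a * b = b * a) (n : ℕ)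
    (H : Subgroup (Fin n → S)) (hH : H.Characteristic) : H = ⊥ ∨ H = ⊤ := by
  let _ : CommGroup S := { (inferInstance : Group S) with mul_comm := hcomm }
  exact backward_abelian n H hH

end backward

/-- A non-trivial finite group G is characteristically simple (its only characteristic subgroups are 1 and G) if and only if G is isomorphic to a direct power S^n (n ≥ 1) of some simple group S (possibly cyclic of prime order). -/
theorem result {G : Type*} [Group G] [Finite G] [Nontrivial G] :
    (∀ H : Subgroup G, H.Characteristic → H = ⊥ ∨ H = ⊤) ↔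
    ∃ (S : Type) (_ : Group S) (_ : IsSimpleGroup S) (n : ℕ), 1 ≤ n ∧ Nonempty (G ≃* (Fin n → S)) := by
  constructor
  · exact forward
  · rintro ⟨S, hS1, hS2, n, hn, ⟨e⟩⟩
    apply charSimple_of_equiv e
    intro H hH
    by_cases hc : IsMulCommutative S
    · exact backward_abelian' (fun a b => mul_comm' a b) n H hH
    · exact backward_nonabelian hc n H hH

end Cfsg.Agent.S5914
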