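import Cfsg.Statements.S1140

set_option autoImplicit false
set_option linter.unusedSectionVars false
set_option linter.style.haveILetI false
open Cfsg

namespace Cfsg.Agent.S1140

section
variable {F : Type*} [Field F] [Fintype F] [CharP F 2]

theorem finite_aut : Finite (F ≃+* F) :=
  Finite.of_injective (fun σ : F ≃+* F => (σ : F → F)) DFunLike.coe_injective

theorem part1 : LinearIndependent F (fun σ : F ≃+* F => ((σ : F →+* F) : F → F)) := by
  have h := linearIndependent_monoidHom F F
  have hinj : Function.Injective (fun σ : F ≃+* F => ((σ : F →+* F) : F →* F)) := by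
    intro σ τ hst
    ext x
    exact DFunLike.congr_fun hst x
  exact h.comp _ hinj

theorem card_aut : letI := ZMod.algebra F 2
    Nat.card (F ≃+* F) = Module.finrank (ZMod 2) F := by
  letI := ZMod.algebra F 2
  rw [← IsGalois.card_aut_eq_finrank (ZMod 2) F]
  refine Nat.card_congr ⟨fun τ => AlgEquiv.ofRingEquiv (f := τ) (fun r => ?_), fun σ => σ.toRingEquiv,
    fun τ => by ext; rfl, fun σ => by ext; rfl⟩
  exact RingHom.congr_fun (Subsingleton.elim ((τ : F →+* F).comp (algebraMap (ZMod 2) F))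
    (algebraMap (ZMod 2) F)) r

/-- The automorphisms form an `F`-basis of the additive endomorphisms. -/
theorem exists_basis [Fintype (F ≃+* F)] : letI := ZMod.algebra F 2
    ∃ bs : Module.Basis (F ≃+* F) F (F →ₗ[ZMod 2] F), ∀ σ x, bs σ x = σ x := by
  letI := ZMod.algebra F 2
  let b : (F ≃+* F) → (F →ₗ[ZMod 2] F) := fun σ => ((σ : F →+* F) : F →+ F).toZModLinearMap 2
  have hli : LinearIndependent F b := by
    apply LinearIndependent.of_comp (LinearMap.ltoFun (ZMod 2) F F F)
    exact part1
  have hfr : Module.finrank F (F →ₗ[ZMod 2] F) = Module.finrank (ZMod 2) F := by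
    rw [Module.finrank_linearMap, Module.finrank_self, mul_one]
  have hcard : Fintype.card (F ≃+* F) = Module.finrank F (F →ₗ[ZMod 2] F) := by
    rw [hfr, ← card_aut, Nat.card_eq_fintype_card]
  haveI : Nonempty (F ≃+* F) := ⟨RingEquiv.refl F⟩
  refine ⟨basisOfLinearIndependentOfCardEqFinrank hli hcard, fun σ x => ?_⟩
  rw [coe_basisOfLinearIndependentOfCardEqFinrank]
  rfl

theorem part2' [Fintype (F ≃+* F)] (f : F →+ F) :
    ∃ c : (F ≃+* F) → F, ∀ x : F, f x = ∑ σ, c σ * σ x := by
  letI := ZMod.algebra F 2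
  obtain ⟨bs, hbs⟩ := exists_basis (F := F)
  refine ⟨fun σ => bs.repr (f.toZModLinearMap 2) σ, fun x => ?_⟩
  have h := bs.sum_repr (f.toZModLinearMap 2)
  have h2 := LinearMap.congr_fun h x
  rw [LinearMap.sum_apply] at h2
  simp only [LinearMap.smul_apply, hbs, smul_eq_mul] at h2
  exact h2.symm

theorem part3' [Fintype (F ≃+* F)] (B : F →+ F →+ F) :
    ∃ c : (F ≃+* F) × (F ≃+* F) → F, ∀ x y : F, B x y = ∑ p, c p * (p.1 x * p.2 y) := by
  letI := ZMod.algebra F 2
  obtain ⟨bs, hbs⟩ := exists_basis (F := F)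
  -- coefficient of `B x` at `τ`, additive in `x`
  let coef : (F ≃+* F) → (F →+ F) := fun τ =>
    { toFun := fun x => bs.repr ((B x).toZModLinearMap 2) τ
      map_zero' := by
        have : (B 0).toZModLinearMap 2 = 0 := by
          ext y; simp
        rw [this]; simp
      map_add' := fun x y => by
        have : (B (x + y)).toZModLinearMap 2 = (B x).toZModLinearMap 2 + (B y).toZModLinearMap 2 := by
          ext z; simp
        rw [this]; simp }
  have hcoef : ∀ x y, B x y = ∑ τ, coef τ x * τ y := by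
    intro x y
    have h := bs.sum_repr ((B x).toZModLinearMap 2)
    have h2 := LinearMap.congr_fun h y
    rw [LinearMap.sum_apply] at h2
    simp only [LinearMap.smul_apply, hbs, smul_eq_mul] at h2
    exact h2.symm
  choose d hd using fun τ => part2' (coef τ)
  refine ⟨fun p => d p.2 p.1, fun x y => ?_⟩
  rw [hcoef, Fintype.sum_prod_type, Finset.sum_comm]
  apply Finset.sum_congr rfl
  intro τ _
  rw [hd τ x, Finset.sum_mul]
  apply Finset.sum_congr rfl
  intro σ _
  ring

end

theorem result {F : Type*} [Field F] [Fintype F] [CharP F 2] :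
    LinearIndependent F (fun σ : F ≃+* F => ((σ : F →+* F) : F → F)) ∧
      (∀ f : F →+ F, ∃ (s : Finset (F ≃+* F)) (c : (F ≃+* F) → F), ∀ x : F, f x = ∑ σ ∈ s, c σ * σ x) ∧
      ∀ B : F →+ F →+ F, ∃ (s : Finset ((F ≃+* F) × (F ≃+* F))) (c : (F ≃+* F) × (F ≃+* F) → F),
        ∀ x y : F, B x y = ∑ p ∈ s, c p * (p.1 x * p.2 y) := by
  haveI := finite_aut (F := F)
  letI := Fintype.ofFinite (F ≃+* F)
  refine ⟨part1, fun f => ?_, fun B => ?_⟩
  · obtain ⟨c, hc⟩ := part2' f
    exact ⟨Finset.univ, c, hc⟩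
  · obtain ⟨c, hc⟩ := part3' B
    exact ⟨Finset.univ, c, hc⟩

end Cfsg.Agent.S1140
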