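import Cfsg.Statements.S3807
import Cfsg.Agent.Lib.Helper68.AbelianIndexP
import Cfsg.Agent.Lib.Helper68.CountIndexP

set_option autoImplicit false
open Cfsg

namespace Cfsg.Agent.S3807

open Cfsg.Agent.Lib.Helper68


/-- Let S be a non-abelian finite p-group with an abelian subgroup A of index p. Then [S : Z(S)] = p·#[S,S], and either [S,S] has order p, S/Z(S) is elementary abelian of order p², and S has exactly p + 1 abelian subgroups of index p; or [S,S] has order at least p² and A is the only abelian subgroup of index p in S. -/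
theorem result {S : Type*} [Group S] [Finite S] (p : ℕ) [Fact p.Prime] (hS : IsPGroup p S) (hna : ¬ IsMulCommutative S)
    (A : Subgroup S) (hA : IsMulCommutative ↥A) (hAi : A.index = p) :
    (Subgroup.center S).index = p * Nat.card (commutator S) ∧
      ((Nat.card (commutator S) = p ∧ Cfsg.IsElementaryAbelian p (⊤ : Subgroup (S ⧸ Subgroup.center S)) ∧
          Nat.card (S ⧸ Subgroup.center S) = p ^ 2 ∧
          Nat.card {B : Subgroup S // IsMulCommutative ↥B ∧ B.index = p} = p + 1) ∨
        (p ^ 2 ≤ Nat.card (commutator S) ∧ ∀ B : Subgroup S, IsMulCommutative ↥B → B.index = p → B = A)) := by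
  classical
  have hp : p.Prime := Fact.out
  obtain ⟨n, hn⟩ := hS.exists_card_eq
  have hn0 : n ≠ 0 := by
    rintro rfl
    apply hna
    rw [pow_zero] at hn
    have : Subsingleton S := (Nat.card_eq_one_iff_unique.1 hn).1
    exact ⟨⟨fun a b => Subsingleton.elim _ _⟩⟩
  have hAn : A.Normal := by
    apply Subgroup.normal_of_index_eq_minFac_card
    rw [hAi, hn, Nat.pow_minFac hn0, hp.minFac_eq]
  have hcardA := card_eq_card_center_mul_card_commutator hp hna A hA hAn hAi
  set Z := Subgroup.center S with hZ
  set c := Nat.card (commutator S) with hc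
  have hcardS : Nat.card A * p = Nat.card S := by rw [← hAi]; exact Subgroup.card_mul_index A
  have hZidx : Z.index = p * c := by
    have h1 : Nat.card Z * Z.index = Nat.card S := Subgroup.card_mul_index Z
    have h2 : Nat.card Z * Z.index = Nat.card Z * (p * c) := by
      rw [h1, ← hcardS, hcardA]; ring
    exact Nat.eq_of_mul_eq_mul_left Nat.card_pos h2
  refine ⟨hZidx, ?_⟩
  -- the derived subgroup has p-power order, not 1
  obtain ⟨m, hm⟩ := (hS.to_subgroup (commutator S)).exists_card_eq
  have hm0 : m ≠ 0 := by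
    rintro rfl
    apply hna
    rw [pow_zero] at hm
    rw [← commutator_eq_bot_iff]
    exact Subgroup.card_eq_one.1 hm
  have hZA : Z ≤ A := center_le_of_abelian_index_prime hp hna A hA hAi
  by_cases hcp : c = p
  · left
    have hZidx2 : Z.index = p ^ 2 := by rw [hZidx, hcp, sq]
    have hcardQ : Nat.card (S ⧸ Z) = p ^ 2 := hZidx2
    have hQcomm : ∀ a b : S ⧸ Z, a * b = b * a := (IsPGroup.isMulCommutative_of_card_eq_prime_sq hcardQ).is_comm.comm
    -- S/Z is not cyclic
    have hQnc : ¬ IsCyclic (S ⧸ Z) := by
      intro hcyc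
      apply hna
      exact (QuotientGroup.mk' Z).isMulCommutative_of_isCyclic_of_ker_le_center (by rw [QuotientGroup.ker_mk'])
    have hQexp : ∀ q : S ⧸ Z, q ^ p = 1 := by
      intro q
      have hdvd : orderOf q ∣ p ^ 2 := by rw [← hcardQ]; exact orderOf_dvd_natCard q
      obtain ⟨k, hk, hk'⟩ := (Nat.dvd_prime_pow hp).1 hdvd
      have hk2 : k ≠ 2 := by
        intro h2
        apply hQnc
        apply isCyclic_of_orderOf_eq_card q
        rw [hk', h2, hcardQ]
      have hk1 : k ≤ 1 := by omega
      rw [← orderOf_dvd_iff_pow_eq_one, hk']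
      calc p ^ k ∣ p ^ 1 := Nat.pow_dvd_pow p hk1
        _ = p := pow_one p
    -- x ∉ Z gives an abelian subgroup of index p
    have hBx : ∀ x : S, x ∉ Z → IsMulCommutative ↥(Z ⊔ Subgroup.zpowers x) ∧ (Z ⊔ Subgroup.zpowers x).index = p := by
      intro x hx
      have hab : IsMulCommutative ↥(Z ⊔ Subgroup.zpowers x) := by
        rw [← Subgroup.le_centralizer_iff_isMulCommutative]
        apply sup_le
        · exact Subgroup.center_le_centralizer _
        · rw [Subgroup.le_centralizer_iff]
          apply sup_le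
          · exact Subgroup.center_le_centralizer _
          · rw [Subgroup.le_centralizer_iff_isMulCommutative]
            infer_instance
      refine ⟨hab, ?_⟩
      have hdvd : (Z ⊔ Subgroup.zpowers x).index ∣ p ^ 2 := by
        rw [← hZidx2]; exact Subgroup.index_dvd_of_le le_sup_left
      obtain ⟨k, hk, hk'⟩ := (Nat.dvd_prime_pow hp).1 hdvd
      have hk0 : k ≠ 0 := by
        intro h0
        rw [h0, pow_zero, Subgroup.index_eq_one] at hk'
        apply hna
        have h1 : IsMulCommutative ↥(⊤ : Subgroup S) := hk' ▸ hab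
        exact ⟨⟨fun a b => congrArg Subtype.val (mul_comm' (⟨a, trivial⟩ : ↥(⊤ : Subgroup S)) ⟨b, trivial⟩)⟩⟩
      have hk2 : k ≠ 2 := by
        intro h2
        rw [h2, ← hZidx2] at hk'
        have h3 := Subgroup.relIndex_mul_index (le_sup_left : Z ≤ Z ⊔ Subgroup.zpowers x)
        rw [hk'] at h3
        have hpos : 0 < Z.index := Nat.pos_of_ne_zero Subgroup.index_ne_zero_of_finite
        have h4 : Z.relIndex (Z ⊔ Subgroup.zpowers x) = 1 :=
          Nat.eq_of_mul_eq_mul_right hpos (by rw [h3, one_mul])
        exact hx (Subgroup.relIndex_eq_one.1 h4 ((le_sup_right : Subgroup.zpowers x ≤ _) (Subgroup.mem_zpowers x)))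
      have hk1 : k = 1 := by omega
      rw [hk', hk1, pow_one]
    refine ⟨hcp, ⟨?_, ?_⟩, hcardQ, ?_⟩
    · exact ⟨⟨fun a b => Subtype.ext (hQcomm a b)⟩⟩
    · intro a _
      exact hQexp a
    · have := card_family_index_p hp Z hZidx2 {B : Subgroup S | IsMulCommutative ↥B ∧ B.index = p}
        (fun B hB => ⟨center_le_of_abelian_index_prime hp hna B hB.1 hB.2, hB.2⟩)
        (fun x hx => ⟨Z ⊔ Subgroup.zpowers x, hBx x hx,
          (le_sup_right : Subgroup.zpowers x ≤ _) (Subgroup.mem_zpowers x)⟩)
      exact this
  · right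
    have hm2 : 2 ≤ m := by
      by_contra hlt
      have : m = 1 := by omega
      rw [this, pow_one] at hm
      exact hcp hm
    have hpc : p ^ 2 ≤ c := by
      rw [hc, hm]; exact Nat.pow_le_pow_right hp.pos hm2
    refine ⟨hpc, ?_⟩
    intro B hB hBi
    by_contra hBA
    have hnle : ¬ B ≤ A := by
      intro hle
      apply hBA
      apply Subgroup.eq_of_le_of_card_ge hle
      have h1 : Nat.card B * p = Nat.card S := by rw [← hBi]; exact Subgroup.card_mul_index B
      have h2 : Nat.card A * p = Nat.card B * p := by rw [hcardS, h1]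
      exact (Nat.eq_of_mul_eq_mul_right hp.pos h2).le
    have hsup : A ⊔ B = ⊤ := by
      apply eq_top_of_lt_of_index_prime hp A _ hAi
      apply lt_of_le_of_ne le_sup_left
      intro h
      apply hnle
      rw [h]; exact le_sup_right
    have hinf : A ⊓ B ≤ Z := by
      intro x hx
      rw [hZ, Subgroup.mem_center_iff]
      intro g
      have hle : A ⊔ B ≤ Subgroup.centralizer ({x} : Set S) := by
        apply sup_le
        · intro a ha
          rw [Subgroup.mem_centralizer_iff]
          intro h hh
          rw [Set.mem_singleton_iff] at hh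
          rw [hh]
          exact congrArg Subtype.val (mul_comm' (⟨x, hx.1⟩ : ↥A) ⟨a, ha⟩)
        · intro b hb
          rw [Subgroup.mem_centralizer_iff]
          intro h hh
          rw [Set.mem_singleton_iff] at hh
          rw [hh]
          exact congrArg Subtype.val (mul_comm' (⟨x, hx.2⟩ : ↥B) ⟨b, hb⟩)
      have hg : g ∈ Subgroup.centralizer ({x} : Set S) := hle (by rw [hsup]; trivial)
      rw [Subgroup.mem_centralizer_iff] at hg
      exact (hg x rfl).symm
    have h1 : Z.index ∣ (A ⊓ B).index := Subgroup.index_dvd_of_le hinf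
    have h2 : (A ⊓ B).index ≤ A.index * B.index := Subgroup.index_inf_le
    rw [hAi, hBi] at h2
    have h3 : Z.index ≤ (A ⊓ B).index :=
      Nat.le_of_dvd (Nat.pos_of_ne_zero Subgroup.index_ne_zero_of_finite) h1
    rw [hZidx] at h3
    have h4 : p * p ^ 2 ≤ p * p := (Nat.mul_le_mul_left p hpc).trans (h3.trans h2)
    have h5 : p ^ 2 ≤ p := Nat.le_of_mul_le_mul_left h4 hp.pos
    have h6 : p * p ≤ p * 1 := by rw [← sq, mul_one]; exact h5
    have h7 := Nat.le_of_mul_le_mul_left h6 hp.pos
    exact absurd hp.one_lt (by omega)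

end Cfsg.Agent.S3807
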