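import Cfsg.Statements.S5635
import Cfsg.Agent.Lib.Helper95.Transvection

set_option autoImplicit false
open Cfsg

namespace Cfsg.Agent.S5635

open Cfsg.Agent.Lib.Helper95 Matrix
open scoped Classical

section
variable {F : Type*} [Field F] {n t : ℕ}

local notation "V" => (Fin n → F)
local notation "GLn" => Matrix.GeneralLinearGroup (Fin n) F

theorem gl_mul_act (g g' : GLn) (v : V) : (g * g').1 *ᵥ v = g.1 *ᵥ (g'.1 *ᵥ v) := by
  rw [Units.val_mul, Matrix.mulVec_mulVec]

theorem gl_inv_act (g : GLn) (v : V) : g⁻¹.1 *ᵥ (g.1 *ᵥ v) = v := by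
  rw [Matrix.mulVec_mulVec, ← Units.val_mul, inv_mul_cancel, Units.val_one, Matrix.one_mulVec]

theorem gl_act_inv (g : GLn) (v : V) : g.1 *ᵥ (g⁻¹.1 *ᵥ v) = v := by
  rw [Matrix.mulVec_mulVec, ← Units.val_mul, mul_inv_cancel, Units.val_one, Matrix.one_mulVec]

theorem mat_ext' {A B : Matrix (Fin n) (Fin n) F} (h : ∀ v : V, A *ᵥ v = B *ᵥ v) : A = B :=
  Matrix.toLin'.injective (LinearMap.ext fun v => by
    rw [Matrix.toLin'_apply, Matrix.toLin'_apply]; exact h v)

theorem mem_SL_iff (g : GLn) : g ∈ Cfsg.Geo.specialLinear (Fin n) F ↔ g.1.det = 1 := by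
  unfold Cfsg.Geo.specialLinear
  rw [MonoidHom.mem_ker]
  constructor
  · intro h
    have := congrArg Units.val h
    rwa [Matrix.GeneralLinearGroup.val_det_apply, Units.val_one] at this
  · intro h
    apply Units.ext
    rw [Matrix.GeneralLinearGroup.val_det_apply, Units.val_one, h]

/-- the sum of the other members -/
def Sc (D : Fin t → Submodule F V) (i : Fin t) : Submodule F V := ⨆ j, ⨆ (_ : j ≠ i), D j

theorem le_Sc (D : Fin t → Submodule F V) {i j : Fin t} (h : j ≠ i) : D j ≤ Sc D i :=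
  le_iSup₂_of_le j h le_rfl

theorem disj (D : Fin t → Submodule F V) (hI : iSupIndep D) (i : Fin t) (x : V) (hx : x ∈ D i)
    (hx' : x ∈ Sc D i) : x = 0 :=
  (Submodule.disjoint_def.mp (hI i)) x hx hx'

/-- the weight of a vector, in `F` -/
noncomputable def wt (D : Fin t → Submodule F V) (v : V) : F :=
  ∑ i : Fin t, (if v ∈ Sc D i then (0 : F) else 1)

/-- weight-preserving maps -/
noncomputable def Iso (D : Fin t → Submodule F V) : Subgroup GLn where
  carrier := {g | ∀ v : V, wt D (g.1 *ᵥ v) = wt D v}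
  one_mem' := fun v => by rw [Units.val_one, Matrix.one_mulVec]
  mul_mem' := fun {a b} ha hb => fun v => by rw [gl_mul_act, ha, hb]
  inv_mem' := fun {a} ha => fun v => by
    have := ha (a⁻¹.1 *ᵥ v)
    rw [gl_act_inv] at this
    exact this.symm

theorem mem_Iso (D : Fin t → Submodule F V) (g : GLn) :
    g ∈ Iso D ↔ ∀ v : V, wt D (g.1 *ᵥ v) = wt D v := Iff.rfl

theorem exists_decomp (D : Fin t → Submodule F V) (hT : iSup D = ⊤) (v : V) :
    ∃ c : Fin t → V, (∀ j, c j ∈ D j) ∧ ∑ j, c j = v := by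
  have hv : v ∈ ⨆ i ∈ (Finset.univ : Finset (Fin t)), D i := by
    simp only [Finset.mem_univ, iSup_pos, hT, Submodule.mem_top]
  obtain ⟨μ, hμ⟩ := (Submodule.mem_iSup_finset_iff_exists_sum D v).mp hv
  exact ⟨fun i => (μ i : V), fun j => (μ j).2, hμ⟩

theorem sum_mem_Sc_iff (D : Fin t → Submodule F V) (hI : iSupIndep D) (c : Fin t → V)
    (hc : ∀ j, c j ∈ D j) (i : Fin t) : (∑ j, c j) ∈ Sc D i ↔ c i = 0 := by
  have hrest : ∑ j ∈ Finset.univ.erase i, c j ∈ Sc D i :=
    Submodule.sum_mem _ (fun j hj => le_Sc D (Finset.ne_of_mem_erase hj) (hc j))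
  have hsplit : ∑ j, c j = c i + ∑ j ∈ Finset.univ.erase i, c j :=
    (Finset.add_sum_erase _ _ (Finset.mem_univ i)).symm
  constructor
  · intro h
    apply disj D hI i (c i) (hc i)
    have : c i = ∑ j, c j - ∑ j ∈ Finset.univ.erase i, c j := by rw [hsplit]; abel
    rw [this]
    exact Submodule.sub_mem _ h hrest
  · intro h
    rw [hsplit, h, zero_add]
    exact hrest

theorem wt_sum (D : Fin t → Submodule F V) (hI : iSupIndep D) (c : Fin t → V)
    (hc : ∀ j, c j ∈ D j) : wt D (∑ j, c j) = ∑ j, (if c j = 0 then (0 : F) else 1) := by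
  unfold wt
  apply Finset.sum_congr rfl
  intro i _
  simp only [sum_mem_Sc_iff D hI c hc i]

theorem map_Sc (D : Fin t → Submodule F V) (g : GLn) (σ : Equiv.Perm (Fin t))
    (hσ : ∀ i, (D i).map (Matrix.toLin' g.1) = D (σ i)) (i : Fin t) :
    (Sc D i).map (Matrix.toLin' g.1) = Sc D (σ i) := by
  unfold Sc
  rw [Submodule.map_iSup]
  simp_rw [Submodule.map_iSup, hσ]
  apply le_antisymm
  · exact iSup₂_le fun j hj => le_iSup₂_of_le (σ j) (by simpa using hj) le_rfl
  · exact iSup₂_le fun k hk => le_iSup₂_of_le (σ.symm k)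
      (by intro h; apply hk; rw [← h]; simp) (by simp)

theorem stab_le_Iso (D : Fin t → Submodule F V) :
    Cfsg.Geo.decompositionStabilizer D ≤ Iso D := by
  rintro g ⟨σ, hσ⟩
  intro v
  have key : ∀ i, g.1 *ᵥ v ∈ Sc D (σ i) ↔ v ∈ Sc D i := by
    intro i
    rw [← map_Sc D g σ hσ i, Submodule.mem_map]
    constructor
    · rintro ⟨v', hv', he⟩
      rw [Matrix.toLin'_apply] at he
      have := congrArg (fun x => g⁻¹.1 *ᵥ x) he
      simp only [gl_inv_act] at this
      rw [← this]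
      exact hv'
    · intro hv
      exact ⟨v, hv, Matrix.toLin'_apply _ _⟩
  unfold wt
  rw [← Equiv.sum_comp σ]
  apply Finset.sum_congr rfl
  intro i _
  simp only [key i]

theorem not_stab (D : Fin t → Submodule F V) (g : GLn) (k i j : Fin t) (hij : i ≠ j) (x : V)
    (hx : x ∈ D k) (hi : g.1 *ᵥ x ∉ Sc D i) (hj : g.1 *ᵥ x ∉ Sc D j) :
    g ∉ Cfsg.Geo.decompositionStabilizer D := by
  rintro ⟨σ, hσ⟩
  have hmem : g.1 *ᵥ x ∈ D (σ k) := by
    rw [← hσ k]
    exact ⟨x, hx, Matrix.toLin'_apply _ _⟩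
  have h1 : σ k = i := by
    by_contra h
    exact hi (le_Sc D h hmem)
  have h2 : σ k = j := by
    by_contra h
    exact hj (le_Sc D h hmem)
  exact hij (h1.symm.trans h2)

theorem t_ge (D : Fin t → Submodule F V) (m : ℕ) (hD : Cfsg.Geo.IsMDecomposition m D) :
    n ≤ t * m := by
  let Φ : (∀ i : Fin t, D i) →ₗ[F] V := ∑ i, (D i).subtype.comp (LinearMap.proj i)
  have hΦ : ∀ c : (∀ i : Fin t, D i), Φ c = ∑ i, (c i : V) := by
    intro c
    simp [Φ, LinearMap.sum_apply]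
  have hsurj : Function.Surjective Φ := by
    intro v
    obtain ⟨c, hc, rfl⟩ := exists_decomp D hD.iSup_eq_top v
    exact ⟨fun i => ⟨c i, hc i⟩, by rw [hΦ]⟩
  have hV : Module.finrank F V = n := by
    rw [Module.finrank_fintype_fun_eq_card, Fintype.card_fin]
  have hP : Module.finrank F (∀ i : Fin t, D i) = t * m := by
    rw [Module.finrank_pi_fintype]
    simp only [hD.finrank_eq, Finset.sum_const, Finset.card_univ, Fintype.card_fin,
      smul_eq_mul]
  have h1 := LinearMap.finrank_range_add_finrank_ker Φ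
  rw [LinearMap.range_eq_top.mpr hsurj, finrank_top, hV, hP] at h1
  omega


/-! ### lines -/

/-- coordinates for a decomposition into lines -/
structure Coord (D : Fin t → Submodule F V) where
  d : Fin t → V
  φ : Fin t → V
  d_mem : ∀ i, d i ∈ D i
  span : ∀ i, ∀ w ∈ D i, ∃ c : F, c • d i = w
  φ_Sc : ∀ i, ∀ x ∈ Sc D i, φ i ⬝ᵥ x = 0
  φ_d : ∀ i, φ i ⬝ᵥ d i = 1

theorem exists_coord (D : Fin t → Submodule F V) (hD : Cfsg.Geo.IsMDecomposition 1 D) :
    Nonempty (Coord D) := by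
  have h1 : ∀ i, ∃ d : V, d ∈ D i ∧ d ≠ 0 ∧ ∀ w ∈ D i, ∃ c : F, c • d = w := by
    intro i
    obtain ⟨⟨d, hd⟩, hne, hall⟩ := finrank_eq_one_iff'.mp (hD.finrank_eq i)
    refine ⟨d, hd, fun h0 => hne (Subtype.ext h0), fun w hw => ?_⟩
    obtain ⟨c, hc⟩ := hall ⟨w, hw⟩
    exact ⟨c, congrArg Subtype.val hc⟩
  choose d hd hd0 hspan using h1
  have h2 : ∀ i, ∃ φ : V, (∀ x ∈ Sc D i, φ ⬝ᵥ x = 0) ∧ φ ⬝ᵥ d i = 1 := by
    intro i
    apply exists_dotProduct_separating
    intro hmem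
    exact hd0 i (disj D hD.indep i (d i) (hd i) hmem)
  choose φ hφS hφd using h2
  exact ⟨⟨d, φ, hd, hspan, hφS, hφd⟩⟩

theorem Coord.φ_dd {D : Fin t → Submodule F V} (C : Coord D) (i j : Fin t) :
    C.φ i ⬝ᵥ C.d j = if i = j then 1 else 0 := by
  by_cases h : i = j
  · rw [if_pos h, h, C.φ_d]
  · rw [if_neg h]
    exact C.φ_Sc i _ (le_Sc D (Ne.symm h) (C.d_mem j))

theorem Coord.expansion {D : Fin t → Submodule F V} (C : Coord D) (hT : iSup D = ⊤) (v : V) :
    ∑ j, (C.φ j ⬝ᵥ v) • C.d j = v := by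
  obtain ⟨c, hc, rfl⟩ := exists_decomp D hT v
  have hx : ∀ j, ∃ x : F, x • C.d j = c j := fun j => C.span j (c j) (hc j)
  choose x hx using hx
  have hcoef : ∀ i, C.φ i ⬝ᵥ (∑ j, c j) = x i := by
    intro i
    rw [dotProduct_sum]
    rw [Finset.sum_eq_single i]
    · rw [← hx i, dotProduct_smul, C.φ_d, smul_eq_mul, mul_one]
    · intro j _ hji
      rw [← hx j, dotProduct_smul, C.φ_dd, if_neg (Ne.symm hji), smul_zero]
    · intro h; exact absurd (Finset.mem_univ i) h
  apply Finset.sum_congr rfl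
  intro j _
  rw [hcoef j, hx j]

theorem Coord.mem_Sc_iff {D : Fin t → Submodule F V} (C : Coord D) (hI : iSupIndep D)
    (hT : iSup D = ⊤) (v : V) (i : Fin t) : v ∈ Sc D i ↔ C.φ i ⬝ᵥ v = 0 := by
  constructor
  · exact C.φ_Sc i v
  · intro h
    have h1 : (∑ j, (C.φ j ⬝ᵥ v) • C.d j) ∈ Sc D i :=
      (sum_mem_Sc_iff D hI (fun j => (C.φ j ⬝ᵥ v) • C.d j)
        (fun j => (D j).smul_mem _ (C.d_mem j)) i).mpr (by simp only [h, zero_smul])
    rwa [C.expansion hT] at h1

/-- the form -/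
noncomputable def Coord.H {D : Fin t → Submodule F V} (C : Coord D) (θ : F →+* F) (v w : V) : F :=
  ∑ i, (C.φ i ⬝ᵥ v) * θ (C.φ i ⬝ᵥ w)

theorem Coord.H_add_left {D : Fin t → Submodule F V} (C : Coord D) (θ : F →+* F) (v v' w : V) :
    C.H θ (v + v') w = C.H θ v w + C.H θ v' w := by
  simp only [Coord.H, dotProduct_add, add_mul, Finset.sum_add_distrib]

theorem Coord.H_add_right {D : Fin t → Submodule F V} (C : Coord D) (θ : F →+* F) (v w w' : V) :
    C.H θ v (w + w') = C.H θ v w + C.H θ v w' := by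
  simp only [Coord.H, dotProduct_add, map_add, mul_add, Finset.sum_add_distrib]

theorem Coord.H_smul_left {D : Fin t → Submodule F V} (C : Coord D) (θ : F →+* F) (c : F) (v w : V) :
    C.H θ (c • v) w = c * C.H θ v w := by
  simp only [Coord.H, dotProduct_smul, smul_eq_mul, Finset.mul_sum, mul_assoc]

theorem Coord.H_smul_right {D : Fin t → Submodule F V} (C : Coord D) (θ : F →+* F) (c : F) (v w : V) :
    C.H θ v (c • w) = θ c * C.H θ v w := by
  simp only [Coord.H, dotProduct_smul, smul_eq_mul, Finset.mul_sum, map_mul]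
  apply Finset.sum_congr rfl
  intro i _
  ring

theorem Coord.H_conj {D : Fin t → Submodule F V} (C : Coord D) (θ : F →+* F)
    (hθθ : ∀ x, θ (θ x) = x) (v w : V) : θ (C.H θ v w) = C.H θ w v := by
  simp only [Coord.H, map_sum, map_mul, hθθ]
  apply Finset.sum_congr rfl
  intro i _
  ring

theorem Coord.H_dd {D : Fin t → Submodule F V} (C : Coord D) (θ : F →+* F) (k l : Fin t) :
    C.H θ (C.d k) (C.d l) = if k = l then 1 else 0 := by
  unfold Coord.H
  rw [Finset.sum_eq_single k]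
  · rw [C.φ_d, one_mul, C.φ_dd]
    by_cases h : k = l
    · rw [if_pos h, map_one]
    · rw [if_neg h, map_zero]
  · intro j _ hjk
    rw [C.φ_dd, if_neg hjk, zero_mul]
  · intro h; exact absurd (Finset.mem_univ k) h

theorem Coord.wt_eq {D : Fin t → Submodule F V} (C : Coord D) (hI : iSupIndep D)
    (hT : iSup D = ⊤) (θ : F →+* F) (hN : ∀ x : F, x ≠ 0 → x * θ x = 1) (v : V) :
    wt D v = C.H θ v v := by
  unfold wt Coord.H
  apply Finset.sum_congr rfl
  intro i _
  rw [C.mem_Sc_iff hI hT]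
  by_cases h : C.φ i ⬝ᵥ v = 0
  · rw [if_pos h, h, zero_mul]
  · rw [if_neg h, hN _ h]

/-- the functional `H(·, a)` -/
noncomputable def Coord.ψ {D : Fin t → Submodule F V} (C : Coord D) (θ : F →+* F) (a : V) : V :=
  ∑ i, θ (C.φ i ⬝ᵥ a) • C.φ i

theorem Coord.ψ_dot {D : Fin t → Submodule F V} (C : Coord D) (θ : F →+* F) (a v : V) :
    C.ψ θ a ⬝ᵥ v = C.H θ v a := by
  unfold Coord.ψ Coord.H
  rw [sum_dotProduct]
  apply Finset.sum_congr rfl
  intro i _
  rw [smul_dotProduct, smul_eq_mul, mul_comm]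

theorem Coord.refl_sq {D : Fin t → Submodule F V} (C : Coord D) (θ : F →+* F) (a : V)
    (h2 : 2 + C.H θ a a = 0) : tvMat (C.ψ θ a) a * tvMat (C.ψ θ a) a = 1 := by
  apply mat_ext'
  intro v
  rw [← Matrix.mulVec_mulVec, tvMat_mulVec, tvMat_mulVec, Matrix.one_mulVec, C.ψ_dot, C.ψ_dot,
    C.H_add_left, C.H_smul_left]
  have : C.H θ v a + C.H θ v a * C.H θ a a = -C.H θ v a := by linear_combination C.H θ v a * h2
  rw [this, neg_smul, add_neg_cancel_right]

/-- the reflection / transvection in `a` -/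
noncomputable def Coord.refl {D : Fin t → Submodule F V} (C : Coord D) (θ : F →+* F) (a : V)
    (h2 : 2 + C.H θ a a = 0) : GLn where
  val := tvMat (C.ψ θ a) a
  inv := tvMat (C.ψ θ a) a
  val_inv := C.refl_sq θ a h2
  inv_val := C.refl_sq θ a h2

theorem Coord.refl_act {D : Fin t → Submodule F V} (C : Coord D) (θ : F →+* F) (a : V)
    (h2 : 2 + C.H θ a a = 0) (v : V) : (C.refl θ a h2).1 *ᵥ v = v + C.H θ v a • a := by
  show tvMat (C.ψ θ a) a *ᵥ v = _
  rw [tvMat_mulVec, C.ψ_dot]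

theorem Coord.refl_det {D : Fin t → Submodule F V} (C : Coord D) (θ : F →+* F) (a : V)
    (h2 : 2 + C.H θ a a = 0) : (C.refl θ a h2).1.det = 1 + C.H θ a a := by
  show (tvMat (C.ψ θ a) a).det = _
  rw [det_tvMat, C.ψ_dot]

theorem Coord.refl_mem {D : Fin t → Submodule F V} (C : Coord D) (hI : iSupIndep D)
    (hT : iSup D = ⊤) (θ : F →+* F) (hθθ : ∀ x, θ (θ x) = x)
    (hN : ∀ x : F, x ≠ 0 → x * θ x = 1) (a : V)
    (h2 : 2 + C.H θ a a = 0) : C.refl θ a h2 ∈ Iso D := by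
  intro v
  rw [C.refl_act, C.wt_eq hI hT θ hN, C.wt_eq hI hT θ hN]
  simp only [Coord.H_add_left, Coord.H_add_right, Coord.H_smul_left, Coord.H_smul_right]
  have hc : C.H θ a v = θ (C.H θ v a) := (C.H_conj θ hθθ v a).symm
  rw [hc]
  linear_combination (C.H θ v a * θ (C.H θ v a)) * h2


theorem lines_strict1 (D : Fin t → Submodule F V) (hI : iSupIndep D) (hT : iSup D = ⊤)
    (C : Coord D) (θ : F →+* F) (hθθ : ∀ x, θ (θ x) = x) (hN : ∀ x : F, x ≠ 0 → x * θ x = 1)
    (h6 : (6 : F) = 0) (hch : (2 : F) = 0 ∨ (3 : F) = 0) (ht : 5 ≤ t) :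
    ∃ g : GLn, g ∈ Iso D ∧ g ∈ Cfsg.Geo.specialLinear (Fin n) F ∧
      g ∉ Cfsg.Geo.decompositionStabilizer D := by
  obtain ⟨d0, hd0⟩ : ∃ x : V, x = C.d ⟨0, by omega⟩ := ⟨_, rfl⟩
  obtain ⟨a, ha⟩ : ∃ a : V, a = C.d ⟨0, by omega⟩ + C.d ⟨1, by omega⟩ + C.d ⟨2, by omega⟩ +
    C.d ⟨3, by omega⟩ := ⟨_, rfl⟩
  have hHaa : C.H θ a a = 4 := by
    rw [ha]
    simp only [Coord.H_add_left, Coord.H_add_right, Coord.H_dd, Fin.mk.injEq]
    norm_num
  have h2 : 2 + C.H θ a a = 0 := by rw [hHaa]; linear_combination h6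
  have hd0a : C.H θ d0 a = 1 := by
    rw [ha, hd0]
    simp only [Coord.H_add_right, Coord.H_dd, Fin.mk.injEq]
    norm_num
  have hact : (C.refl θ a h2).1 *ᵥ d0 = d0 + a := by
    rw [C.refl_act, hd0a, one_smul]
  have hn1 : d0 + a ∉ Sc D ⟨1, by omega⟩ := by
    intro hmem
    have := C.φ_Sc _ _ hmem
    rw [ha, hd0] at this
    simp only [dotProduct_add, Coord.φ_dd, Fin.mk.injEq] at this
    norm_num at this
  have hn2 : d0 + a ∉ Sc D ⟨2, by omega⟩ := by
    intro hmem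
    have := C.φ_Sc _ _ hmem
    rw [ha, hd0] at this
    simp only [dotProduct_add, Coord.φ_dd, Fin.mk.injEq] at this
    norm_num at this
  have h12 : (⟨1, by omega⟩ : Fin t) ≠ ⟨2, by omega⟩ := by simp [Fin.ext_iff]
  have hd0mem : d0 ∈ D ⟨0, by omega⟩ := by rw [hd0]; exact C.d_mem _
  rcases hch with hc | hc
  · refine ⟨C.refl θ a h2, C.refl_mem hI hT θ hθθ hN a h2, ?_, ?_⟩
    · rw [mem_SL_iff, C.refl_det, hHaa]
      linear_combination 2 * hc
    · exact not_stab D _ ⟨0, by omega⟩ ⟨1, by omega⟩ ⟨2, by omega⟩ h12 d0 hd0mem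
        (by rw [hact]; exact hn1) (by rw [hact]; exact hn2)
  · have hb2 : 2 + C.H θ (C.d ⟨4, by omega⟩) (C.d ⟨4, by omega⟩) = 0 := by
      rw [C.H_dd, if_pos rfl]
      linear_combination hc
    refine ⟨C.refl θ a h2 * C.refl θ (C.d ⟨4, by omega⟩) hb2,
      Subgroup.mul_mem _ (C.refl_mem hI hT θ hθθ hN a h2) (C.refl_mem hI hT θ hθθ hN _ hb2), ?_, ?_⟩
    · rw [mem_SL_iff, Units.val_mul, Matrix.det_mul, C.refl_det, C.refl_det, hHaa, C.H_dd,
        if_pos rfl]
      linear_combination 3 * hc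
    · have h04 : C.H θ d0 (C.d ⟨4, by omega⟩) = 0 := by
        rw [hd0, C.H_dd, if_neg (by simp [Fin.ext_iff])]
      have hact' : (C.refl θ a h2 * C.refl θ (C.d ⟨4, by omega⟩) hb2).1 *ᵥ d0 = d0 + a := by
        rw [gl_mul_act, C.refl_act θ (C.d ⟨4, by omega⟩), h04, zero_smul, add_zero, hact]
      exact not_stab D _ ⟨0, by omega⟩ ⟨1, by omega⟩ ⟨2, by omega⟩ h12 d0 hd0mem
        (by rw [hact']; exact hn1) (by rw [hact']; exact hn2)

theorem lines_strict2 (D : Fin t → Submodule F V) (hI : iSupIndep D) (hT : iSup D = ⊤)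
    (C : Coord D) (θ : F →+* F) (hN : ∀ x : F, x ≠ 0 → x * θ x = 1) (ht : 2 ≤ t) :
    ∃ g : GLn, g ∈ Cfsg.Geo.specialLinear (Fin n) F ∧ g ∉ Iso D := by
  have h01 : C.φ ⟨0, by omega⟩ ⬝ᵥ C.d ⟨1, by omega⟩ = 0 := by
    rw [C.φ_dd, if_neg (by simp [Fin.ext_iff])]
  refine ⟨tvGL (C.φ ⟨0, by omega⟩) (C.d ⟨1, by omega⟩) h01, tvGL_mem_specialLinear _ _ _, ?_⟩
  intro hmem
  have := hmem (C.d ⟨0, by omega⟩)
  rw [tvGL_val, tvMat_mulVec, C.φ_d, one_smul, C.wt_eq hI hT θ hN, C.wt_eq hI hT θ hN] at this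
  simp only [Coord.H_add_left, Coord.H_add_right, Coord.H_dd, Fin.mk.injEq] at this
  norm_num at this
  exact one_ne_zero (by linear_combination this : (1 : F) = 0)


theorem small_field [Fintype F] (hq : Fintype.card F ≤ 4) :
    ∃ θ : F →+* F, (∀ x, θ (θ x) = x) ∧ (∀ x : F, x ≠ 0 → x * θ x = 1) ∧ (6 : F) = 0 ∧
      ((2 : F) = 0 ∨ (3 : F) = 0) := by
  have h1 : 1 < Fintype.card F := Fintype.one_lt_card
  have hc := Nat.cast_card_eq_zero F
  have hp : ∀ x : F, x ≠ 0 → x ^ (Fintype.card F - 1) = 1 :=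
    fun x hx => FiniteField.pow_card_sub_one_eq_one x hx
  have hp' : ∀ x : F, x ^ Fintype.card F = x := fun x => FiniteField.pow_card x
  obtain ⟨q, hq'⟩ : ∃ q, q = Fintype.card F := ⟨_, rfl⟩
  rw [← hq'] at hq h1 hc hp hp'
  interval_cases q
  · have h2 : (2 : F) = 0 := by exact_mod_cast hc
    refine ⟨RingHom.id F, fun x => rfl, fun x hx => ?_, by linear_combination 3 * h2, Or.inl h2⟩
    have := hp x hx
    norm_num at this
    rw [this, RingHom.id_apply, mul_one]
  · have h3 : (3 : F) = 0 := by exact_mod_cast hc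
    refine ⟨RingHom.id F, fun x => rfl, fun x hx => ?_, by linear_combination 2 * h3, Or.inr h3⟩
    have h := hp x hx
    have h' : x ^ 2 = 1 := h
    rw [RingHom.id_apply, ← pow_two]
    exact h'
  · have h4 : (4 : F) = 0 := by exact_mod_cast hc
    have h2 : (2 : F) = 0 := by
      have : (2 : F) * 2 = 0 := by linear_combination h4
      rcases mul_eq_zero.mp this with h | h <;> exact h
    refine ⟨{ toFun := fun x => x ^ 2
              map_one' := one_pow 2
              map_mul' := fun x y => mul_pow x y 2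
              map_zero' := by norm_num
              map_add' := fun x y => by linear_combination (x * y) * h2 }, fun x => ?_,
      fun x hx => ?_, by linear_combination 3 * h2, Or.inl h2⟩
    · show (x ^ 2) ^ 2 = x
      rw [← pow_mul]
      exact hp' x
    · show x * x ^ 2 = 1
      have := hp x hx
      norm_num at this
      rw [← this]
      ring

/-! ### planes over the field with two elements -/

theorem f2_cases [Fintype F] (hq : Fintype.card F = 2) (x : F) : x = 0 ∨ x = 1 := by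
  have h := FiniteField.pow_card x
  rw [hq] at h
  have h2 : x * (x - 1) = 0 := by linear_combination h
  rcases mul_eq_zero.mp h2 with h3 | h3
  · exact Or.inl h3
  · exact Or.inr (sub_eq_zero.mp h3)

theorem two_eq_zero [Fintype F] (hq : Fintype.card F = 2) : (2 : F) = 0 := by
  have := Nat.cast_card_eq_zero F
  rw [hq] at this
  exact_mod_cast this

/-- a basis of a member, with one coordinate functional -/
structure Pair (D : Fin t → Submodule F V) (i : Fin t) where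
  a : V
  b : V
  β : V
  a_mem : a ∈ D i
  b_mem : b ∈ D i
  a_ne : a ≠ 0
  span : ∀ c ∈ D i, ∃ s u : F, s • a + u • b = c
  β_Sc : ∀ x ∈ Sc D i, β ⬝ᵥ x = 0
  β_a : β ⬝ᵥ a = 0
  β_b : β ⬝ᵥ b = 1

theorem exists_pair (D : Fin t → Submodule F V) (hD : Cfsg.Geo.IsMDecomposition 2 D) (i : Fin t) :
    Nonempty (Pair D i) := by
  have bs := Module.finBasisOfFinrankEq F (D i) (hD.finrank_eq i)
  have hspan : ∀ c ∈ D i, ∃ s u : F, s • (bs 0 : V) + u • (bs 1 : V) = c := by
    intro c hc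
    have := bs.sum_repr ⟨c, hc⟩
    rw [Fin.sum_univ_two] at this
    exact ⟨bs.repr ⟨c, hc⟩ 0, bs.repr ⟨c, hc⟩ 1, by simpa using congrArg Subtype.val this⟩
  have ha0 : (bs 0 : V) ≠ 0 := fun h => bs.ne_zero 0 (Subtype.ext h)
  have hnot : (bs 1 : V) ∉ Sc D i ⊔ Submodule.span F {(bs 0 : V)} := by
    intro hmem
    obtain ⟨s, hs, y, hy, hsum⟩ := Submodule.mem_sup.mp hmem
    obtain ⟨l, rfl⟩ := Submodule.mem_span_singleton.mp hy
    have hs' : s ∈ D i := by
      have : s = (bs 1 : V) - l • (bs 0 : V) := by rw [← hsum]; abel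
      rw [this]
      exact (D i).sub_mem (bs 1).2 ((D i).smul_mem _ (bs 0).2)
    have hs0 := disj D hD.indep i s hs' hs
    rw [hs0, zero_add] at hsum
    have h1 : l • bs 0 = bs 1 := Subtype.ext hsum
    have h2 := congrArg (fun x => bs.repr x 1) h1
    simp at h2
  obtain ⟨β, hβ, hβb⟩ := exists_dotProduct_separating _ _ hnot
  exact ⟨⟨bs 0, bs 1, β, (bs 0).2, (bs 1).2, ha0, hspan,
    fun x hx => hβ x (Submodule.mem_sup_left hx),
    hβ _ (Submodule.mem_sup_right (Submodule.subset_span rfl)), hβb⟩⟩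

theorem Pair.flip [Fintype F] (hq : Fintype.card F = 2) {D : Fin t → Submodule F V} {i : Fin t}
    (P : Pair D i) (c : V) (hc : c ∈ D i) :
    (if c + P.a = 0 then (0 : F) else 1) = (if c = 0 then (0 : F) else 1) + 1 + P.β ⬝ᵥ c := by
  have h2 := two_eq_zero hq
  have haa : P.a + P.a = 0 := by rw [← two_smul F P.a, h2, zero_smul]
  rcases f2_cases hq (P.β ⬝ᵥ c) with h0 | h1
  · obtain ⟨s, u, hsu⟩ := P.span c hc
    have hu : u = 0 := by
      rw [← hsu, dotProduct_add, dotProduct_smul, dotProduct_smul, P.β_a, P.β_b, smul_zero,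
        zero_add, smul_eq_mul, mul_one] at h0
      exact h0
    rw [hu, zero_smul, add_zero] at hsu
    rcases f2_cases hq s with hs | hs
    · rw [hs, zero_smul] at hsu
      rw [← hsu, zero_add, if_neg P.a_ne, if_pos rfl, dotProduct_zero]
      ring
    · rw [hs, one_smul] at hsu
      rw [← hsu, haa, if_pos rfl, if_neg P.a_ne, P.β_a]
      linear_combination -h2
  · have hc0 : c ≠ 0 := by
      rintro rfl
      rw [dotProduct_zero] at h1
      exact zero_ne_one h1
    have hca : c + P.a ≠ 0 := by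
      intro h
      have := congrArg (fun x => P.β ⬝ᵥ x) h
      simp only [dotProduct_add, P.β_a, add_zero, dotProduct_zero] at this
      rw [h1] at this
      exact one_ne_zero this
    rw [if_neg hca, if_neg hc0, h1]
    linear_combination -h2

theorem Pair.wt_add [Fintype F] (hq : Fintype.card F = 2) {D : Fin t → Submodule F V}
    (hI : iSupIndep D) (hT : iSup D = ⊤) {i : Fin t} (P : Pair D i) (v : V) :
    wt D (v + P.a) = wt D v + 1 + P.β ⬝ᵥ v := by
  obtain ⟨c, hc, rfl⟩ := exists_decomp D hT v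
  obtain ⟨c', hc'⟩ : ∃ c' : Fin t → V, c' = fun j => c j + (if j = i then P.a else 0) := ⟨_, rfl⟩
  have hc'mem : ∀ j, c' j ∈ D j := by
    intro j
    rw [hc']
    by_cases hji : j = i
    · subst hji
      simp only [if_true]
      exact (D j).add_mem (hc j) P.a_mem
    · simp only [hji, if_false, add_zero]
      exact hc j
  have hsum : ∑ j, c j + P.a = ∑ j, c' j := by
    rw [hc', Finset.sum_add_distrib, Finset.sum_ite_eq' Finset.univ i (fun _ => P.a)]
    simp
  have hβ : P.β ⬝ᵥ (∑ j, c j) = P.β ⬝ᵥ c i := by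
    rw [dotProduct_sum]
    apply Finset.sum_eq_single i
    · intro j _ hji
      exact P.β_Sc _ (le_Sc D hji (hc j))
    · intro h; exact absurd (Finset.mem_univ i) h
  rw [hsum, wt_sum D hI c' hc'mem, wt_sum D hI c hc, hβ]
  have hterm : ∀ j, (if c' j = 0 then (0 : F) else 1) =
      (if c j = 0 then (0 : F) else 1) + (if j = i then 1 + P.β ⬝ᵥ c i else 0) := by
    intro j
    by_cases hji : j = i
    · subst hji
      simp only [hc', if_true]
      rw [P.flip hq (c j) (hc j)]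
      ring
    · simp only [hc', hji, if_false, add_zero]
  rw [Finset.sum_congr rfl (fun j _ => hterm j), Finset.sum_add_distrib,
    Finset.sum_ite_eq' Finset.univ i (fun _ => 1 + P.β ⬝ᵥ c i)]
  simp only [Finset.mem_univ, if_true]
  ring

theorem Pair.β_other {D : Fin t → Submodule F V} {i j : Fin t} (P : Pair D i) (hij : j ≠ i)
    (x : V) (hx : x ∈ D j) : P.β ⬝ᵥ x = 0 := P.β_Sc x (le_Sc D hij hx)

theorem planes_strict1 [Fintype F] (hq : Fintype.card F = 2) (D : Fin t → Submodule F V)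
    (hI : iSupIndep D) (hT : iSup D = ⊤) (i0 i1 i2 : Fin t) (h01 : i0 ≠ i1) (h02 : i0 ≠ i2)
    (h12 : i1 ≠ i2) (P0 : Pair D i0) (P1 : Pair D i1) (P2 : Pair D i2) :
    ∃ g : GLn, g ∈ Iso D ∧ g ∈ Cfsg.Geo.specialLinear (Fin n) F ∧
      g ∉ Cfsg.Geo.decompositionStabilizer D := by
  have h2 := two_eq_zero hq
  have e01 := P0.β_other (Ne.symm h01) P1.a P1.a_mem
  have e02 := P0.β_other (Ne.symm h02) P2.a P2.a_mem
  have e10 := P1.β_other h01 P0.a P0.a_mem
  have e12 := P1.β_other (Ne.symm h12) P2.a P2.a_mem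
  have e20 := P2.β_other h02 P0.a P0.a_mem
  have e21 := P2.β_other h12 P1.a P1.a_mem
  have e00 := P0.β_a
  have e11 := P1.β_a
  have e22 := P2.β_a
  have hψa : (P0.β + P1.β + P2.β) ⬝ᵥ (P0.a + P1.a + P2.a) = 0 := by
    simp only [add_dotProduct, dotProduct_add, e00, e01, e02, e10, e11, e12, e20, e21, e22,
      add_zero]
  refine ⟨tvGL _ _ hψa, ?_, tvGL_mem_specialLinear _ _ _, ?_⟩
  · intro v
    rw [tvGL_val, tvMat_mulVec]
    rcases f2_cases hq ((P0.β + P1.β + P2.β) ⬝ᵥ v) with h0 | h1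
    · rw [h0, zero_smul, add_zero]
    · rw [h1, one_smul]
      have e : v + (P0.a + P1.a + P2.a) = ((v + P0.a) + P1.a) + P2.a := by abel
      rw [e, P2.wt_add hq hI hT, P1.wt_add hq hI hT, P0.wt_add hq hI hT]
      simp only [add_dotProduct] at h1
      simp only [dotProduct_add, e10, e20, e21, add_zero]
      linear_combination h1 + 2 * h2
  · have hb : (P0.β + P1.β + P2.β) ⬝ᵥ P0.b = 1 := by
      simp only [add_dotProduct, P0.β_b, P1.β_other h01 P0.b P0.b_mem,
        P2.β_other h02 P0.b P0.b_mem, add_zero]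
    have hact : (tvGL _ _ hψa : GLn).1 *ᵥ P0.b = P0.b + (P0.a + P1.a + P2.a) := by
      rw [tvGL_val, tvMat_mulVec, hb, one_smul]
    refine not_stab D _ i0 i1 i2 h12 P0.b P0.b_mem ?_ ?_
    · rw [hact]
      intro hmem
      apply P1.a_ne
      apply disj D hI i1 P1.a P1.a_mem
      have : P1.a = (P0.b + (P0.a + P1.a + P2.a)) - (P0.b + P0.a) - P2.a := by abel
      rw [this]
      exact Submodule.sub_mem _ (Submodule.sub_mem _ hmem
        (le_Sc D h01 ((D i0).add_mem P0.b_mem P0.a_mem))) (le_Sc D (Ne.symm h12) P2.a_mem)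
    · rw [hact]
      intro hmem
      apply P2.a_ne
      apply disj D hI i2 P2.a P2.a_mem
      have : P2.a = (P0.b + (P0.a + P1.a + P2.a)) - (P0.b + P0.a) - P1.a := by abel
      rw [this]
      exact Submodule.sub_mem _ (Submodule.sub_mem _ hmem
        (le_Sc D h02 ((D i0).add_mem P0.b_mem P0.a_mem))) (le_Sc D h12 P1.a_mem)

theorem planes_strict2 [Fintype F] (hq : Fintype.card F = 2) (D : Fin t → Submodule F V)
    (hI : iSupIndep D) (hT : iSup D = ⊤) (i0 i1 : Fin t) (h01 : i0 ≠ i1)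
    (P0 : Pair D i0) (P1 : Pair D i1) :
    ∃ g : GLn, g ∈ Cfsg.Geo.specialLinear (Fin n) F ∧ g ∉ Iso D := by
  have e01 := P0.β_other (Ne.symm h01) P1.a P1.a_mem
  refine ⟨tvGL P0.β P1.a e01, tvGL_mem_specialLinear _ _ _, ?_⟩
  intro hmem
  have := hmem P0.b
  rw [tvGL_val, tvMat_mulVec, P0.β_b, one_smul, P1.wt_add hq hI hT,
    P1.β_other h01 P0.b P0.b_mem] at this
  exact one_ne_zero (by linear_combination this : (1 : F) = 0)

theorem finish (D : Fin t → Submodule F V) (g g' : GLn) (hg1 : g ∈ Iso D)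
    (hg2 : g ∈ Cfsg.Geo.specialLinear (Fin n) F)
    (hg3 : g ∉ Cfsg.Geo.decompositionStabilizer D)
    (hg'1 : g' ∈ Cfsg.Geo.specialLinear (Fin n) F) (hg'2 : g' ∉ Iso D) :
    ∃ K : Subgroup GLn, Cfsg.Geo.decompositionStabilizer D ⊓ Cfsg.Geo.specialLinear (Fin n) F < K ∧
      K < Cfsg.Geo.specialLinear (Fin n) F := by
  refine ⟨Iso D ⊓ Cfsg.Geo.specialLinear (Fin n) F,
    lt_of_le_of_ne (inf_le_inf_right _ (stab_le_Iso D)) ?_, lt_of_le_of_ne inf_le_right ?_⟩
  · intro heq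
    have : g ∈ Iso D ⊓ Cfsg.Geo.specialLinear (Fin n) F := ⟨hg1, hg2⟩
    rw [← heq] at this
    exact hg3 this.1
  · intro heq
    rw [← heq] at hg'1
    exact hg'2 hg'1.1

end

/-- For a finite field F with q elements and n ≥ 13, let D be a decomposition of F^n into t ≥ 2 independent subspaces of equal dimension m spanning F^n, where m = 1 and q ≤ 4, or m = 2 and q = 2. Then the elements of SL_n(F) permuting the members of D form a subgroup that is not maximal: some subgroup lies strictly between it and SL_n(F). -/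
theorem result {F : Type*} [Field F] [Fintype F] (n : ℕ) (hn : 13 ≤ n) {t : ℕ} (m : ℕ) (D : Fin t → Submodule F (Fin n → F)) (hD : Cfsg.Geo.IsMDecomposition m D) (h : (m = 1 ∧ Fintype.card F ≤ 4) ∨ (m = 2 ∧ Fintype.card F = 2)) : ∃ K : Subgroup (Matrix.GeneralLinearGroup (Fin n) F), Cfsg.Geo.decompositionStabilizer D ⊓ Cfsg.Geo.specialLinear (Fin n) F < K ∧ K < Cfsg.Geo.specialLinear (Fin n) F := by
  have hnt := t_ge D m hD
  rcases h with ⟨rfl, hq⟩ | ⟨rfl, hq⟩
  · have ht : 13 ≤ t := by omega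
    obtain ⟨C⟩ := exists_coord D hD
    obtain ⟨θ, hθθ, hN, h6, hch⟩ := small_field hq
    obtain ⟨g, hg1, hg2, hg3⟩ :=
      lines_strict1 D hD.indep hD.iSup_eq_top C θ hθθ hN h6 hch (by omega)
    obtain ⟨g', hg'1, hg'2⟩ := lines_strict2 D hD.indep hD.iSup_eq_top C θ hN (by omega)
    exact finish D g g' hg1 hg2 hg3 hg'1 hg'2
  · have ht : 7 ≤ t := by omega
    have h01 : (⟨0, by omega⟩ : Fin t) ≠ ⟨1, by omega⟩ := by simp [Fin.ext_iff]
    have h02 : (⟨0, by omega⟩ : Fin t) ≠ ⟨2, by omega⟩ := by simp [Fin.ext_iff]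
    have h12 : (⟨1, by omega⟩ : Fin t) ≠ ⟨2, by omega⟩ := by simp [Fin.ext_iff]
    obtain ⟨P0⟩ := exists_pair D hD ⟨0, by omega⟩
    obtain ⟨P1⟩ := exists_pair D hD ⟨1, by omega⟩
    obtain ⟨P2⟩ := exists_pair D hD ⟨2, by omega⟩
    obtain ⟨g, hg1, hg2, hg3⟩ :=
      planes_strict1 hq D hD.indep hD.iSup_eq_top _ _ _ h01 h02 h12 P0 P1 P2
    obtain ⟨g', hg'1, hg'2⟩ := planes_strict2 hq D hD.indep hD.iSup_eq_top _ _ h01 P0 P1
    exact finish D g g' hg1 hg2 hg3 hg'1 hg'2

end Cfsg.Agent.S5635
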