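import Cfsg.Statements.S2167
import Cfsg.Agent.Lib.Helper43.AltForm

set_option autoImplicit false
open Cfsg

namespace Cfsg.Agent.S2167

open Matrix

variable {F : Type*} [Field F] {m : ℕ}

lemma sympForm_add_left (u u' v : Fin m ⊕ Fin m → F) :
    sympForm m F (u + u') v = sympForm m F u v + sympForm m F u' v := by
  unfold sympForm; rw [add_dotProduct]

lemma sympForm_add_right (u v v' : Fin m ⊕ Fin m → F) :
    sympForm m F u (v + v') = sympForm m F u v + sympForm m F u v' := by
  unfold sympForm; rw [mulVec_add, dotProduct_add]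

lemma sympForm_sub_right (u v v' : Fin m ⊕ Fin m → F) :
    sympForm m F u (v - v') = sympForm m F u v - sympForm m F u v' := by
  unfold sympForm; rw [mulVec_sub, dotProduct_sub]

lemma sympForm_zero_right (u : Fin m ⊕ Fin m → F) :
    sympForm m F u 0 = 0 := by
  unfold sympForm; rw [mulVec_zero, dotProduct_zero]

lemma sympForm_smul_left (c : F) (u v : Fin m ⊕ Fin m → F) :
    sympForm m F (c • u) v = c * sympForm m F u v := by
  unfold sympForm; rw [smul_dotProduct, smul_eq_mul]

lemma sympForm_smul_right (c : F) (u v : Fin m ⊕ Fin m → F) :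
    sympForm m F u (c • v) = c * sympForm m F u v := by
  unfold sympForm; rw [mulVec_smul, dotProduct_smul, smul_eq_mul]

lemma sympForm_swap (u v : Fin m ⊕ Fin m → F) :
    sympForm m F u v = - sympForm m F v u := by
  unfold sympForm
  rw [dotProduct_mulVec, dotProduct_comm, ← mulVec_transpose, J_transpose, neg_mulVec,
    dotProduct_neg]

lemma J_mulVec_eq (v : Fin m ⊕ Fin m → F) :
    J (Fin m) F *ᵥ v = Sum.elim (-(v ∘ Sum.inr)) (v ∘ Sum.inl) := by
  unfold J
  rw [fromBlocks_mulVec]
  simp only [zero_mulVec, neg_mulVec, one_mulVec, zero_add, add_zero]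

lemma sympForm_self (v : Fin m ⊕ Fin m → F) : sympForm m F v v = 0 := by
  unfold sympForm
  rw [J_mulVec_eq]
  simp only [dotProduct, Fintype.sum_sum_type, Sum.elim_inl, Sum.elim_inr, Pi.neg_apply,
    Function.comp_apply, mul_neg, Finset.sum_neg_distrib]
  rw [neg_add_eq_zero]
  apply Finset.sum_congr rfl
  intro i _
  ring

lemma sympForm_mulVec_mulVec {A : Matrix (Fin m ⊕ Fin m) (Fin m ⊕ Fin m) F}
    (hA : Aᵀ * J (Fin m) F * A = J (Fin m) F) (u v : Fin m ⊕ Fin m → F) :
    sympForm m F (A *ᵥ u) (A *ᵥ v) = sympForm m F u v := by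
  unfold sympForm
  conv_rhs => rw [← hA]
  rw [← mulVec_mulVec, ← mulVec_mulVec, dotProduct_mulVec u, vecMul_transpose]

lemma J_mulVec_eq_zero {w : Fin m ⊕ Fin m → F} (h : J (Fin m) F *ᵥ w = 0) : w = 0 := by
  have h1 : (J (Fin m) F * J (Fin m) F) *ᵥ w = 0 := by
    rw [← mulVec_mulVec, h, mulVec_zero]
  rw [J_squared, neg_mulVec, one_mulVec, neg_eq_zero] at h1
  exact h1

lemma eq_zero_of_sympForm_left_eq_zero {w : Fin m ⊕ Fin m → F}
    (h : ∀ v, sympForm m F v w = 0) : w = 0 := by
  apply J_mulVec_eq_zero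
  unfold sympForm at h
  funext i
  have := h (Pi.single i 1)
  rw [single_one_dotProduct] at this
  exact this

/-- For an involution t of the symplectic group Sp_{2m}(F), m ≥ 2, F a finite field of characteristic two (matrices A with A J Aᵀ = J acting on column vectors, alternating form f(u, v) = u ⬝ (J v)): the set V(t) of vectors v with f(v, t v) = 0 has either q^{2m} or q^{2m−1} elements, q the order of F (it is a subspace of codimension at most 1), and if it is the whole space then t − 1 has even rank. -/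
theorem result {F : Type*} [Field F] [Fintype F] [CharP F 2] {m : ℕ} (hm : 2 ≤ m) (a : ↥(Matrix.symplecticGroup (Fin m) F)) (ha : orderOf a = 2) :
    (Nat.card {v : Fin m ⊕ Fin m → F // Cfsg.sympForm m F v (Matrix.mulVec ((a : ↥(Matrix.symplecticGroup (Fin m) F)) : Matrix (Fin m ⊕ Fin m) (Fin m ⊕ Fin m) F) v) = 0} = Fintype.card F ^ (2 * m) ∨ Nat.card {v : Fin m ⊕ Fin m → F // Cfsg.sympForm m F v (Matrix.mulVec ((a : ↥(Matrix.symplecticGroup (Fin m) F)) : Matrix (Fin m ⊕ Fin m) (Fin m ⊕ Fin m) F) v) = 0} * Fintype.card F = Fintype.card F ^ (2 * m)) ∧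
    ((∀ v : Fin m ⊕ Fin m → F, Cfsg.sympForm m F v (Matrix.mulVec ((a : ↥(Matrix.symplecticGroup (Fin m) F)) : Matrix (Fin m ⊕ Fin m) (Fin m ⊕ Fin m) F) v) = 0) → Even (((a : ↥(Matrix.symplecticGroup (Fin m) F)) : Matrix (Fin m ⊕ Fin m) (Fin m ⊕ Fin m) F) - 1).rank) := by
  classical
  set A : Matrix (Fin m ⊕ Fin m) (Fin m ⊕ Fin m) F := ((a : ↥(Matrix.symplecticGroup (Fin m) F)) : Matrix (Fin m ⊕ Fin m) (Fin m ⊕ Fin m) F) with hAdef
  have hA : Aᵀ * J (Fin m) F * A = J (Fin m) F := (SymplecticGroup.mem_iff').1 a.2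
  have hA2 : A * A = 1 := by
    have h := pow_orderOf_eq_one a
    rw [ha, pow_two] at h
    have := congrArg Subtype.val h
    simpa using this
  have hAA : ∀ v, A *ᵥ (A *ᵥ v) = v := by intro v; rw [mulVec_mulVec, hA2, one_mulVec]
  let φ : (Fin m ⊕ Fin m → F) → F := fun v => sympForm m F v (A *ᵥ v)
  have hcross : ∀ u v, sympForm m F v (A *ᵥ u) = - sympForm m F u (A *ᵥ v) := by
    intro u v
    rw [← sympForm_mulVec_mulVec hA v (A *ᵥ u), hAA, sympForm_swap]
  have hadd : ∀ u v, φ (u + v) = φ u + φ v := by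
    intro u v
    simp only [φ, mulVec_add, sympForm_add_left, sympForm_add_right, hcross u v]
    ring
  have hsmul : ∀ (c : F) v, φ (c • v) = c ^ 2 * φ v := by
    intro c v
    simp only [φ, mulVec_smul, sympForm_smul_left, sympForm_smul_right]
    ring
  let Φ : (Fin m ⊕ Fin m → F) →+ F := AddMonoidHom.mk' φ hadd
  have hcardV : Nat.card (Fin m ⊕ Fin m → F) = Fintype.card F ^ (2 * m) := by
    rw [Nat.card_eq_fintype_card, Fintype.card_fun, Fintype.card_sum, Fintype.card_fin, two_mul]
  have hker : Nat.card {v : Fin m ⊕ Fin m → F // φ v = 0} = Nat.card Φ.ker :=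
    Nat.card_congr (Equiv.subtypeEquivRight (fun v => by rw [AddMonoidHom.mem_ker]; rfl))
  constructor
  · by_cases hall : ∀ v, φ v = 0
    · left
      show Nat.card {v : Fin m ⊕ Fin m → F // φ v = 0} = _
      rw [← hcardV]
      exact Nat.card_congr (Equiv.subtypeUnivEquiv hall)
    · right
      push Not at hall
      obtain ⟨v0, hv0⟩ := hall
      have hsurj : Φ.range = ⊤ := by
        rw [eq_top_iff]
        intro d _
        obtain ⟨e, he⟩ := FiniteField.isSquare_of_char_two (ringChar.eq F 2) (d / φ v0)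
        refine ⟨e • v0, ?_⟩
        show φ (e • v0) = d
        rw [hsmul, pow_two, ← he, div_mul_cancel₀ _ hv0]
      show Nat.card {v : Fin m ⊕ Fin m → F // φ v = 0} * _ = _
      rw [hker, ← hcardV, ← AddSubgroup.card_mul_index Φ.ker, AddSubgroup.index_ker, hsurj,
        AddSubgroup.card_top, Nat.card_eq_fintype_card (α := F)]
  · intro hall
    let N : Matrix (Fin m ⊕ Fin m) (Fin m ⊕ Fin m) F := A - 1
    let C : LinearMap.BilinForm F (Fin m ⊕ Fin m → F) := Matrix.toBilin' (J (Fin m) F * N)
    have hC : ∀ u v, C u v = sympForm m F u (N *ᵥ v) := by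
      intro u v
      show Matrix.toBilin' (J (Fin m) F * N) u v = _
      rw [Matrix.toBilin'_apply']
      unfold sympForm
      rw [mulVec_mulVec]
    have hCalt : C.IsAlt := by
      intro v
      show C v v = 0
      rw [hC, sub_mulVec, one_mulVec, sympForm_sub_right, hall v, sympForm_self, sub_zero]
    have hkerC : LinearMap.ker C = LinearMap.ker N.mulVecLin := by
      ext u
      simp only [LinearMap.mem_ker, Matrix.mulVecLin_apply]
      constructor
      · intro hu
        apply eq_zero_of_sympForm_left_eq_zero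
        intro v
        rw [← hC]
        apply (hCalt.eq_iff).1
        rw [hu]; rfl
      · intro hu
        apply LinearMap.ext
        intro v
        show C u v = 0
        apply (hCalt.eq_iff).1
        rw [hC, hu, sympForm_zero_right]
    have hev := Cfsg.Agent.Lib.Helper43.even_finrank_sub_finrank_ker_of_isAlt C hCalt
    rw [hkerC] at hev
    have hrk := LinearMap.finrank_range_add_finrank_ker N.mulVecLin
    have : N.rank = Module.finrank F (Fin m ⊕ Fin m → F) - Module.finrank F (LinearMap.ker N.mulVecLin) := by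
      unfold Matrix.rank; omega
    show Even N.rank
    rw [this]
    exact hev

end Cfsg.Agent.S2167
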