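import Cfsg.Statements.S2166
import Cfsg.Agent.Lib.Helper43.SympConj
import Cfsg.Agent.S2167

set_option autoImplicit false
open Cfsg

namespace Cfsg.Agent.S2166

open Matrix Module Cfsg.Agent.Lib.Helper43 Cfsg.Agent.S2167

/-- the symplectic form as a bilinear form -/
noncomputable def fB (m : ℕ) (F : Type*) [Field F] : LinearMap.BilinForm F (Fin m ⊕ Fin m → F) :=
  Matrix.toBilin' (J (Fin m) F)

lemma fB_apply {F : Type*} [Field F] {m : ℕ} (u v : Fin m ⊕ Fin m → F) :
    fB m F u v = sympForm m F u v := by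
  unfold fB sympForm
  rw [Matrix.toBilin'_apply']

lemma mem_symplectic_of_preserves {F : Type*} [Field F] {m : ℕ}
    (C : Matrix (Fin m ⊕ Fin m) (Fin m ⊕ Fin m) F)
    (hC : ∀ u v, sympForm m F (C *ᵥ u) (C *ᵥ v) = sympForm m F u v) :
    C ∈ symplecticGroup (Fin m) F := by
  rw [SymplecticGroup.mem_iff']
  have key : ∀ (M : Matrix (Fin m ⊕ Fin m) (Fin m ⊕ Fin m) F) i j,
      M i j = (Pi.single i 1 : Fin m ⊕ Fin m → F) ⬝ᵥ (M *ᵥ Pi.single j 1) := by
    intro M i j
    rw [single_one_dotProduct, mulVec_single_one]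
    rfl
  ext i j
  rw [key (Cᵀ * J (Fin m) F * C) i j, key (J (Fin m) F) i j, ← mulVec_mulVec, ← mulVec_mulVec,
    dotProduct_mulVec, vecMul_transpose]
  exact hC _ _

/-- data describing the induced symmetric form of a symplectic involution -/
def Data {F : Type*} [Field F] {m : ℕ} (N : (Fin m ⊕ Fin m → F) →ₗ[F] (Fin m ⊕ Fin m → F))
    (ι : Type) [DecidableEq ι] (τ : ι → ι) : Prop :=
  ∃ e : ι → (Fin m ⊕ Fin m → F),
    (∀ i j, fB m F (e i) (N (e j)) = if τ i = j then 1 else 0) ∧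
    (∀ x, (∀ i, fB m F x (N (e i)) = 0) → N x = 0)

lemma fB_alt {F : Type*} [Field F] {m : ℕ} (v : Fin m ⊕ Fin m → F) : fB m F v v = 0 := by
  rw [fB_apply, sympForm_self]

lemma fB_nondeg {F : Type*} [Field F] {m : ℕ} (v : Fin m ⊕ Fin m → F)
    (h : ∀ u, fB m F u v = 0) : v = 0 :=
  eq_zero_of_sympForm_left_eq_zero (fun u => by rw [← fB_apply]; exact h u)

lemma rank_of_data {F : Type*} [Field F] [CharP F 2] {m : ℕ}
    (N : (Fin m ⊕ Fin m → F) →ₗ[F] (Fin m ⊕ Fin m → F))
    (hN : ∀ v, N (N v) = 0) (hNf : ∀ u v, fB m F (N u) v = fB m F u (N v))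
    (ι : Type) [Fintype ι] [DecidableEq ι] (τ : ι → ι) (hτ : Function.Involutive τ)
    (hD : Data N ι τ) : finrank F (LinearMap.range N) = Fintype.card ι := by
  obtain ⟨e, hG, hk⟩ := hD
  obtain ⟨s, b, h1, h2, h3, -⟩ :=
    exists_adapted_symplectic_basis τ hτ (fB m F) fB_alt fB_nondeg N hN hNf e hG hk
  exact finrank_range_of_adapted_symp b N h1 h2 h3

lemma data_of_alt {F : Type*} [Field F] [CharP F 2] {m : ℕ}
    (N : (Fin m ⊕ Fin m → F) →ₗ[F] (Fin m ⊕ Fin m → F))
    (hNf : ∀ u v, fB m F (N u) v = fB m F u (N v))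
    (hsym : ∀ u v, fB m F u v = fB m F v u)
    (halt : ∀ v, fB m F v (N v) = 0) :
    ∃ r : ℕ, Data N (Fin r ⊕ Fin r) Sum.swap := by
  set β : LinearMap.BilinForm F (Fin m ⊕ Fin m → F) := (fB m F).compl₂ N with hβ
  have hβapp : ∀ u v, β u v = fB m F u (N v) := fun u v => rfl
  have hβsym : ∀ u v, β u v = β v u := by
    intro u v; rw [hβapp, hβapp, ← hNf, hsym]
  obtain ⟨r, x, y, -, -, hxy, hxx, hyy, hrad⟩ :=
    exists_symplectic_family β hβsym _ ⊤ rfl (fun v _ => halt v)
  refine ⟨r, Sum.elim x y, ?_, ?_⟩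
  · rintro (i | i) (j | j)
    · simp only [Sum.elim_inl, Sum.swap_inl, reduceCtorEq, if_false]
      exact hxx i j
    · simp only [Sum.elim_inl, Sum.elim_inr, Sum.swap_inl, Sum.inr.injEq]
      exact hxy i j
    · have := hxy j i
      rw [hβsym] at this
      simp only [Sum.elim_inl, Sum.elim_inr, Sum.swap_inr, Sum.inl.injEq]
      rw [← hβapp, this]
      exact if_congr eq_comm rfl rfl
    · simp only [Sum.elim_inr, Sum.swap_inr, reduceCtorEq, if_false]
      exact hyy i j
  · intro v hv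
    apply fB_nondeg
    intro u
    rw [← hβapp]
    apply hrad v Submodule.mem_top _ _ u Submodule.mem_top
    · intro i; exact hv (Sum.inl i)
    · intro i; exact hv (Sum.inr i)

lemma data_of_not_alt {F : Type*} [Field F] [Fintype F] [CharP F 2] {m : ℕ}
    (N : (Fin m ⊕ Fin m → F) →ₗ[F] (Fin m ⊕ Fin m → F))
    (hNf : ∀ u v, fB m F (N u) v = fB m F u (N v))
    (hsym : ∀ u v, fB m F u v = fB m F v u)
    (halt : ¬ ∀ v, fB m F v (N v) = 0) :
    ∃ k : ℕ, Data N (Fin k) id := by
  set β : LinearMap.BilinForm F (Fin m ⊕ Fin m → F) := (fB m F).compl₂ N with hβ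
  have hβapp : ∀ u v, β u v = fB m F u (N v) := fun u v => rfl
  have hβsym : ∀ u v, β u v = β v u := by
    intro u v; rw [hβapp, hβapp, ← hNf, hsym]
  push Not at halt
  obtain ⟨v0, hv0⟩ := halt
  have hsq : ∀ x : F, IsSquare x := FiniteField.isSquare_of_char_two (ringChar.eq F 2)
  obtain ⟨k, u, -, hG, hrad⟩ :=
    exists_orthonormal_family_sym hsq β hβsym _ ⊤ rfl (Or.inl ⟨v0, Submodule.mem_top, hv0⟩)
  refine ⟨k, u, ?_, ?_⟩
  · intro i j
    simp only [id_eq]
    exact hG i j
  · intro v hv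
    apply fB_nondeg
    intro w
    rw [← hβapp]
    exact hrad v Submodule.mem_top hv w Submodule.mem_top

/-- main step -/
lemma exists_conj_of_data {F : Type*} [Field F] [CharP F 2] {m : ℕ}
    (a b : ↥(Matrix.symplecticGroup (Fin m) F))
    (ι : Type) [Fintype ι] [DecidableEq ι] (τ : ι → ι) (hτ : Function.Involutive τ)
    (Na Nb : (Fin m ⊕ Fin m → F) →ₗ[F] (Fin m ⊕ Fin m → F))
    (hNadef : Na = ((a : Matrix (Fin m ⊕ Fin m) (Fin m ⊕ Fin m) F) - 1).mulVecLin)
    (hNbdef : Nb = ((b : Matrix (Fin m ⊕ Fin m) (Fin m ⊕ Fin m) F) - 1).mulVecLin)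
    (hNa : ∀ v, Na (Na v) = 0) (hNb : ∀ v, Nb (Nb v) = 0)
    (hNaf : ∀ u v, fB m F (Na u) v = fB m F u (Na v))
    (hNbf : ∀ u v, fB m F (Nb u) v = fB m F u (Nb v))
    (hDa : Data Na ι τ) (hDb : Data Nb ι τ) : IsConj a b := by
  obtain ⟨ea, hGa, hka⟩ := hDa
  obtain ⟨eb, hGb, hkb⟩ := hDb
  obtain ⟨T, hTiso, hTint⟩ := exists_symp_isometry_intertwining τ hτ (fB m F) fB_alt fB_nondeg
    Na Nb hNa hNb hNaf hNbf ea eb hGa hGb hka hkb
  set A : Matrix (Fin m ⊕ Fin m) (Fin m ⊕ Fin m) F := (a : Matrix (Fin m ⊕ Fin m) (Fin m ⊕ Fin m) F) with hA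
  set B : Matrix (Fin m ⊕ Fin m) (Fin m ⊕ Fin m) F := (b : Matrix (Fin m ⊕ Fin m) (Fin m ⊕ Fin m) F) with hB
  set C : Matrix (Fin m ⊕ Fin m) (Fin m ⊕ Fin m) F := LinearMap.toMatrix' T with hC
  have hCiso : ∀ x y, sympForm m F (C *ᵥ x) (C *ᵥ y) = sympForm m F x y := by
    intro x y
    rw [hC, LinearMap.toMatrix'_mulVec, LinearMap.toMatrix'_mulVec, ← fB_apply, ← fB_apply]
    exact hTiso x y
  have hCmem := mem_symplectic_of_preserves C hCiso
  have hTint' : T ∘ₗ (A - 1).mulVecLin = (B - 1).mulVecLin ∘ₗ T := by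
    apply LinearMap.ext
    intro v
    simp only [LinearMap.comp_apply]
    rw [← hNadef, ← hNbdef]
    exact hTint v
  have hCint : C * (A - 1) = (B - 1) * C := by
    have := congrArg LinearMap.toMatrix' hTint'
    rw [LinearMap.toMatrix'_comp, LinearMap.toMatrix'_comp, ← Matrix.toLin'_apply',
      ← Matrix.toLin'_apply', LinearMap.toMatrix'_toLin', LinearMap.toMatrix'_toLin'] at this
    exact this
  have hCAB : C * A = B * C := by
    rw [mul_sub, sub_mul, mul_one, one_mul] at hCint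
    exact sub_left_injective hCint
  rw [isConj_iff]
  refine ⟨⟨C, hCmem⟩, ?_⟩
  rw [mul_inv_eq_iff_eq_mul]
  apply Subtype.ext
  exact hCAB

/-- Conjugacy of involutions in the symplectic group Sp_{2m}(F), F a finite field of characteristic two, m ≥ 2 (Sp taken as the matrices A with A J Aᵀ = J, acting on column vectors, with the alternating form f(u, v) = u ⬝ (J v)). For an involution t write V(t) for the set of vectors v with f(v, t v) = 0 (a subspace). Two involutions a, b are conjugate in Sp_{2m}(F) exactly when a − 1 and b − 1 have the same rank and, in case that rank is even, V(a) and V(b) have the same number of elements. -/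
theorem result {F : Type*} [Field F] [Fintype F] [CharP F 2] {m : ℕ} (hm : 2 ≤ m) (a b : ↥(Matrix.symplecticGroup (Fin m) F)) (ha : orderOf a = 2) (hb : orderOf b = 2) :
    IsConj a b ↔ ((((a : ↥(Matrix.symplecticGroup (Fin m) F)) : Matrix (Fin m ⊕ Fin m) (Fin m ⊕ Fin m) F) - 1).rank = (((b : ↥(Matrix.symplecticGroup (Fin m) F)) : Matrix (Fin m ⊕ Fin m) (Fin m ⊕ Fin m) F) - 1).rank ∧
      (Even (((a : ↥(Matrix.symplecticGroup (Fin m) F)) : Matrix (Fin m ⊕ Fin m) (Fin m ⊕ Fin m) F) - 1).rank → Nat.card {v : Fin m ⊕ Fin m → F // Cfsg.sympForm m F v (Matrix.mulVec ((a : ↥(Matrix.symplecticGroup (Fin m) F)) : Matrix (Fin m ⊕ Fin m) (Fin m ⊕ Fin m) F) v) = 0} = Nat.card {v : Fin m ⊕ Fin m → F // Cfsg.sympForm m F v (Matrix.mulVec ((b : ↥(Matrix.symplecticGroup (Fin m) F)) : Matrix (Fin m ⊕ Fin m) (Fin m ⊕ Fin m) F) v) = 0})) := by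
  classical
  set A : Matrix (Fin m ⊕ Fin m) (Fin m ⊕ Fin m) F := ((a : ↥(Matrix.symplecticGroup (Fin m) F)) : Matrix (Fin m ⊕ Fin m) (Fin m ⊕ Fin m) F) with hAdef
  set B : Matrix (Fin m ⊕ Fin m) (Fin m ⊕ Fin m) F := ((b : ↥(Matrix.symplecticGroup (Fin m) F)) : Matrix (Fin m ⊕ Fin m) (Fin m ⊕ Fin m) F) with hBdef
  have hA : Aᵀ * J (Fin m) F * A = J (Fin m) F := (SymplecticGroup.mem_iff').1 a.2
  have hB : Bᵀ * J (Fin m) F * B = J (Fin m) F := (SymplecticGroup.mem_iff').1 b.2
  have hsq2 : ∀ (c : ↥(Matrix.symplecticGroup (Fin m) F)), orderOf c = 2 →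
      (c : Matrix (Fin m ⊕ Fin m) (Fin m ⊕ Fin m) F) * (c : Matrix (Fin m ⊕ Fin m) (Fin m ⊕ Fin m) F) = 1 := by
    intro c hc
    have h := pow_orderOf_eq_one c
    rw [hc, pow_two] at h
    have := congrArg Subtype.val h
    simpa using this
  have hA2 : A * A = 1 := hsq2 a ha
  have hB2 : B * B = 1 := hsq2 b hb
  constructor
  · -- conjugate implies the invariants agree
    intro hconj
    obtain ⟨c, hc⟩ := isConj_iff.1 hconj
    set Cm : Matrix (Fin m ⊕ Fin m) (Fin m ⊕ Fin m) F := (c : Matrix (Fin m ⊕ Fin m) (Fin m ⊕ Fin m) F) with hCm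
    set Ci : Matrix (Fin m ⊕ Fin m) (Fin m ⊕ Fin m) F := ((c⁻¹ : ↥(Matrix.symplecticGroup (Fin m) F)) : Matrix (Fin m ⊕ Fin m) (Fin m ⊕ Fin m) F) with hCi
    have hCC : Cm * Ci = 1 := congrArg Subtype.val (mul_inv_cancel c)
    have hCC' : Ci * Cm = 1 := congrArg Subtype.val (inv_mul_cancel c)
    have hCAB : Cm * A = B * Cm := by
      have h1 : c * a = b * c := by rw [← hc]; group
      have := congrArg Subtype.val h1
      simpa using this
    have hCsymp : Cmᵀ * J (Fin m) F * Cm = J (Fin m) F := (SymplecticGroup.mem_iff').1 c.2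
    have hdetC : IsUnit Cm.det := SymplecticGroup.symplectic_det c.2
    have hdetCi : IsUnit Ci.det := SymplecticGroup.symplectic_det (c⁻¹).2
    constructor
    · have hB' : B - 1 = Cm * (A - 1) * Ci := by
        rw [mul_sub, sub_mul, mul_one, hCC, hCAB, mul_assoc, hCC, mul_one]
      rw [hB', Matrix.rank_mul_eq_left_of_isUnit_det _ _ hdetCi,
        Matrix.rank_mul_eq_right_of_isUnit_det _ _ hdetC]
    · intro _
      let e : (Fin m ⊕ Fin m → F) ≃ (Fin m ⊕ Fin m → F) :=
        { toFun := fun v => Cm *ᵥ v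
          invFun := fun v => Ci *ᵥ v
          left_inv := fun v => by simp only [mulVec_mulVec, hCC', one_mulVec]
          right_inv := fun v => by simp only [mulVec_mulVec, hCC, one_mulVec] }
      apply Nat.card_congr
      refine Equiv.subtypeEquiv e ?_
      intro v
      show _ ↔ sympForm m F (Cm *ᵥ v) (B *ᵥ (Cm *ᵥ v)) = 0
      rw [mulVec_mulVec, ← hCAB, ← mulVec_mulVec, sympForm_mulVec_mulVec hCsymp]
  · rintro ⟨hrank, hcard⟩
    set Na : (Fin m ⊕ Fin m → F) →ₗ[F] (Fin m ⊕ Fin m → F) := (A - 1).mulVecLin with hNa_def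
    set Nb : (Fin m ⊕ Fin m → F) →ₗ[F] (Fin m ⊕ Fin m → F) := (B - 1).mulVecLin with hNb_def
    have gen : ∀ (M : Matrix (Fin m ⊕ Fin m) (Fin m ⊕ Fin m) F), M * M = 1 →
        Mᵀ * J (Fin m) F * M = J (Fin m) F →
        (∀ v, (M - 1).mulVecLin ((M - 1).mulVecLin v) = 0) ∧
        (∀ u v, fB m F ((M - 1).mulVecLin u) v = fB m F u ((M - 1).mulVecLin v)) ∧
        (∀ v, fB m F v ((M - 1).mulVecLin v) = sympForm m F v (M *ᵥ v)) := by
      intro M hM2 hMJ
      have hsub : (M - 1) * (M - 1) = 0 := by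
        rw [sub_mul, mul_sub, mul_sub, hM2, mul_one, one_mul, one_mul]
        ext i j
        simp only [Matrix.sub_apply, Matrix.zero_apply]
        have h2 : (1 : Matrix (Fin m ⊕ Fin m) (Fin m ⊕ Fin m) F) i j + (1 : Matrix (Fin m ⊕ Fin m) (Fin m ⊕ Fin m) F) i j = 0 :=
          CharTwo.add_self_eq_zero _
        have h3 : M i j + M i j = 0 := CharTwo.add_self_eq_zero _
        linear_combination h2 - h3
      refine ⟨?_, ?_, ?_⟩
      · intro v
        simp only [Matrix.mulVecLin_apply, Matrix.mulVec_mulVec, hsub, Matrix.zero_mulVec]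
      · intro u v
        have h1 : fB m F (M *ᵥ u) v = fB m F u (M *ᵥ v) := by
          have := sympForm_mulVec_mulVec hMJ u (M *ᵥ v)
          rw [Matrix.mulVec_mulVec, hM2, Matrix.one_mulVec] at this
          rw [fB_apply, fB_apply]
          exact this
        simp only [Matrix.mulVecLin_apply, Matrix.one_mulVec, map_sub,
          LinearMap.sub_apply, h1]
      · intro v
        rw [fB_apply]
        show sympForm m F v ((M - 1) *ᵥ v) = _
        rw [Matrix.sub_mulVec, Matrix.one_mulVec, sympForm_sub_right, sympForm_self, sub_zero]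
    obtain ⟨hNa, hNaf, hφa⟩ := gen A hA2 hA
    obtain ⟨hNb, hNbf, hφb⟩ := gen B hB2 hB
    have hsym : ∀ u v, fB m F u v = fB m F v u := by
      intro u v
      rw [fB_apply, fB_apply, sympForm_swap, CharTwo.neg_eq]
    have hrank' : finrank F (LinearMap.range Na) = finrank F (LinearMap.range Nb) := hrank
    -- cardinalities
    have hcardlt : ∀ (M : Matrix (Fin m ⊕ Fin m) (Fin m ⊕ Fin m) F),
        (¬ ∀ v, sympForm m F v (M *ᵥ v) = 0) →
        Nat.card {v : Fin m ⊕ Fin m → F // sympForm m F v (M *ᵥ v) = 0} <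
          Nat.card (Fin m ⊕ Fin m → F) := by
      intro M hM
      push Not at hM
      obtain ⟨v0, hv0⟩ := hM
      rw [Nat.card_eq_fintype_card, Nat.card_eq_fintype_card]
      exact Fintype.card_subtype_lt hv0
    have hcardeq : ∀ (M : Matrix (Fin m ⊕ Fin m) (Fin m ⊕ Fin m) F),
        (∀ v, sympForm m F v (M *ᵥ v) = 0) →
        Nat.card {v : Fin m ⊕ Fin m → F // sympForm m F v (M *ᵥ v) = 0} =
          Nat.card (Fin m ⊕ Fin m → F) := by
      intro M hM
      exact Nat.card_congr (Equiv.subtypeUnivEquiv hM)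
    by_cases halta : ∀ v, sympForm m F v (A *ᵥ v) = 0
    · obtain ⟨ra, hDa⟩ := data_of_alt Na hNaf hsym (fun v => by rw [hφa]; exact halta v)
      have hra := rank_of_data Na hNa hNaf _ Sum.swap Sum.swap_swap hDa
      have heven : Even (A - 1).rank := by
        have : (A - 1).rank = ra + ra := by
          show finrank F (LinearMap.range Na) = _
          rw [hra]; simp
        rw [this]; exact ⟨ra, rfl⟩
      by_cases haltb : ∀ v, sympForm m F v (B *ᵥ v) = 0
      · obtain ⟨rb, hDb⟩ := data_of_alt Nb hNbf hsym (fun v => by rw [hφb]; exact haltb v)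
        have hrb := rank_of_data Nb hNb hNbf _ Sum.swap Sum.swap_swap hDb
        have hr : ra = rb := by
          rw [hrank', hrb] at hra
          simp only [Fintype.card_sum, Fintype.card_fin] at hra
          omega
        subst hr
        exact exists_conj_of_data a b _ Sum.swap Sum.swap_swap Na Nb rfl rfl hNa hNb hNaf hNbf hDa hDb
      · exfalso
        have h1 := hcard heven
        have h2 := hcardeq A halta
        have h3 := hcardlt B haltb
        omega
    · obtain ⟨ka, hDa⟩ := data_of_not_alt Na hNaf hsym (fun h => halta (fun v => by rw [← hφa]; exact h v))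
      have hka := rank_of_data Na hNa hNaf _ id (fun _ => rfl) hDa
      by_cases haltb : ∀ v, sympForm m F v (B *ᵥ v) = 0
      · exfalso
        obtain ⟨rb, hDb⟩ := data_of_alt Nb hNbf hsym (fun v => by rw [hφb]; exact haltb v)
        have hrb := rank_of_data Nb hNb hNbf _ Sum.swap Sum.swap_swap hDb
        have heven : Even (A - 1).rank := by
          have : (A - 1).rank = rb + rb := by
            show finrank F (LinearMap.range Na) = _
            rw [hrank', hrb]; simp
          rw [this]; exact ⟨rb, rfl⟩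
        have h1 := hcard heven
        have h2 := hcardeq B haltb
        have h3 := hcardlt A halta
        omega
      · obtain ⟨kb, hDb⟩ := data_of_not_alt Nb hNbf hsym (fun h => haltb (fun v => by rw [← hφb]; exact h v))
        have hkb := rank_of_data Nb hNb hNbf _ id (fun _ => rfl) hDb
        have hk : ka = kb := by
          rw [hrank', hkb] at hka
          simpa using hka.symm
        subst hk
        exact exists_conj_of_data a b _ id (fun _ => rfl) Na Nb rfl rfl hNa hNb hNaf hNbf hDa hDb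

end Cfsg.Agent.S2166
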