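import Cfsg.Statements.S0756

set_option autoImplicit false
open Cfsg

namespace Cfsg.Agent.S0756

open Module LinearMap.BilinForm Polynomial

theorem exists_sq_add_sq_eq_one {F : Type*} [Field F] [Finite F] (h2 : (2 : F) ≠ 0) (a b : F) (ha : a ≠ 0) (hb : b ≠ 0) :
    ∃ x y : F, a * x ^ 2 + b * y ^ 2 = 1 := by
  classical
  have := Fintype.ofFinite F
  have hF : ringChar F ≠ 2 := by
    intro h
    apply h2
    have : ((2 : ℕ) : F) = 0 := by
      rw [← h]; exact ringChar.Nat.cast_ringChar
    exact_mod_cast this
  have hodd : Fintype.card F % 2 = 1 := FiniteField.odd_card_of_char_ne_two hF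
  have hf : degree (C a * X ^ 2 : F[X]) = 2 := by
    rw [degree_C_mul_X_pow 2 ha]; rfl
  have hg : degree (C b * X ^ 2 - 1 : F[X]) = 2 := by
    rw [degree_sub_eq_left_of_degree_lt]
    · rw [degree_C_mul_X_pow 2 hb]; rfl
    · rw [degree_C_mul_X_pow 2 hb, degree_one]; norm_num
  obtain ⟨x, y, h⟩ := FiniteField.exists_root_sum_quadratic hf hg hodd
  refine ⟨x, y, ?_⟩
  simp at h
  linear_combination h

universe u v

theorem exists_unit_vector {F : Type v} {V : Type u} [Field F] [Finite F] [AddCommGroup V] [Module F V]
    [FiniteDimensional F V] (h2 : (2 : F) ≠ 0) (B : LinearMap.BilinForm F V) (hS : B.IsSymm)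
    (hB : B.Nondegenerate) (hd : 2 ≤ finrank F V) : ∃ v : V, B v v = 1 := by
  have : Invertible (2 : F) := invertibleOfNonzero h2
  obtain ⟨e, he⟩ := exists_orthogonal_basis (isSymm_iff.mp hS)
  have he' : B.iIsOrtho e := he
  have hne := he'.not_isOrtho_basis_self_of_nondegenerate hB
  set i0 : Fin (finrank F V) := ⟨0, by omega⟩ with hi0
  set i1 : Fin (finrank F V) := ⟨1, by omega⟩ with hi1
  have h01 : i0 ≠ i1 := by
    intro h
    have := congrArg Fin.val h
    simp [hi0, hi1] at this
  have ha : B (e i0) (e i0) ≠ 0 := hne i0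
  have hb : B (e i1) (e i1) ≠ 0 := hne i1
  have h0 : B (e i0) (e i1) = 0 := he h01
  have h0' : B (e i1) (e i0) = 0 := he h01.symm
  obtain ⟨x, y, hxy⟩ := exists_sq_add_sq_eq_one h2 _ _ ha hb
  refine ⟨x • e i0 + y • e i1, ?_⟩
  simp only [map_add, map_smul, LinearMap.add_apply, LinearMap.smul_apply, smul_eq_mul, h0, h0']
  linear_combination hxy

theorem exists_basis_aux {F : Type v} [Field F] [Finite F] (h2 : (2 : F) ≠ 0) :
    ∀ (n : ℕ) {V : Type u} [AddCommGroup V] [Module F V] [FiniteDimensional F V]
      (B : LinearMap.BilinForm F V), B.IsSymm → B.Nondegenerate → finrank F V = n + 1 →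
      ∃ b : Basis (Fin (n + 1)) F V, (∀ i j, i ≠ j → B (b i) (b j) = 0) ∧
        (∀ i, i ≠ Fin.last n → B (b i) (b i) = 1) ∧ B (b (Fin.last n)) (b (Fin.last n)) ≠ 0 := by
  intro n
  induction n with
  | zero =>
    intro V _ _ _ B hS hB hd
    let b : Basis (Fin (0 + 1)) F V := finBasisOfFinrankEq F V hd
    refine ⟨b, ?_, ?_, ?_⟩
    · intro i j hij
      exact absurd (Fin.ext (by omega)) hij
    · intro i hi
      exact absurd (Fin.ext (by simp only [Fin.val_last]; omega)) hi
    · intro h0
      have hb0 : b (Fin.last 0) ≠ 0 := b.ne_zero _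
      apply hb0
      apply hB.1
      intro y
      have : y = (b.repr y (Fin.last 0)) • b (Fin.last 0) := by
        conv_lhs => rw [← b.sum_repr y]
        simp
      rw [this, map_smul, h0, smul_zero]
  | succ n ih =>
    intro V _ _ _ B hS hB hd
    obtain ⟨x, hx1⟩ := exists_unit_vector h2 B hS hB (by omega)
    have hx : B x x ≠ 0 := by rw [hx1]; exact one_ne_zero
    have hd' := hd
    rw [← Submodule.finrank_add_eq_of_isCompl (isCompl_span_singleton_orthogonal hx).symm,
      finrank_span_singleton (ne_zero_of_map hx)] at hd'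
    set N := B.orthogonal (F ∙ x) with hN
    have hBN : (B.restrict N).Nondegenerate :=
      restrict_nondegenerate_orthogonal_spanSingleton B hB hS.isRefl hx
    have hSN : (B.restrict N).IsSymm := hS.restrict N
    obtain ⟨v', hv1, hv2, hv3⟩ := ih (B.restrict N) hSN hBN (by omega)
    let b :=
      Basis.mkFinCons x v'
        (by
          rintro c y hy hc
          rw [add_eq_zero_iff_neg_eq] at hc
          rw [← hc, Submodule.neg_mem_iff] at hy
          have := (isCompl_span_singleton_orthogonal hx).disjoint
          rw [Submodule.disjoint_def] at this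
          have := this (c • x) (Submodule.smul_mem _ _ <| Submodule.mem_span_singleton_self _) hy
          exact (smul_eq_zero.1 this).resolve_right fun h => hx <| h.symm ▸ map_zero _)
        (by
          intro y
          refine ⟨-B x y / B x x, fun z hz => ?_⟩
          obtain ⟨c, rfl⟩ := Submodule.mem_span_singleton.1 hz
          rw [map_smul, LinearMap.smul_apply, map_add, map_smul, smul_eq_mul, smul_eq_mul,
            div_mul_cancel₀ _ hx, add_neg_cancel, mul_zero])
    have hb0 : b 0 = x := by
      simp [b, Basis.coe_mkFinCons]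
    have hbs : ∀ i : Fin (n + 1), b i.succ = (v' i : V) := by
      intro i
      simp [b, Basis.coe_mkFinCons]
    have hxv : ∀ i : Fin (n + 1), B x (v' i : V) = 0 :=
      fun i => (v' i).prop _ (Submodule.mem_span_singleton_self x)
    refine ⟨b, ?_, ?_, ?_⟩
    · intro i j
      refine Fin.cases ?_ (fun i => ?_) i <;> refine Fin.cases ?_ (fun j => ?_) j <;> intro hij
      · exact (hij rfl).elim
      · rw [hb0, hbs]; exact hxv j
      · rw [hb0, hbs, hS.eq]; exact hxv i
      · rw [hbs, hbs]
        have := hv1 i j (fun h => hij (by rw [h]))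
        simpa using this
    · intro i
      refine Fin.cases ?_ (fun i => ?_) i
      · intro _; rw [hb0]; exact hx1
      · intro hi
        rw [hbs]
        have hi' : i ≠ Fin.last n := by
          intro h; apply hi; rw [h]; rfl
        have := hv2 i hi'
        simpa using this
    · have : Fin.last (n + 1) = (Fin.last n).succ := rfl
      rw [this, hbs]
      simpa using hv3

/-- Classification of symmetric bilinear forms over finite fields of odd characteristic: if B is non-degenerate symmetric on V of dimension n + 1 and α is a fixed non-square of F, there is an orthogonal basis b_0, ..., b_n with B(b_i, b_i) = 1 for i < n and B(b_n, b_n) ∈ {1, α}. -/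
theorem result {F V : Type*} [Field F] [Finite F] [AddCommGroup V] [Module F V] [FiniteDimensional F V] (h2 : (2 : F) ≠ 0) (B : LinearMap.BilinForm F V) (hS : B.IsSymm) (hB : B.Nondegenerate) {n : ℕ} (hn : Module.finrank F V = n + 1) (α : F) (hα : ¬ IsSquare α) : ∃ b : Module.Basis (Fin (n + 1)) F V, (∀ i j, i ≠ j → B (b i) (b j) = 0) ∧ (∀ i, i ≠ Fin.last n → B (b i) (b i) = 1) ∧ (B (b (Fin.last n)) (b (Fin.last n)) = 1 ∨ B (b (Fin.last n)) (b (Fin.last n)) = α) := by
  classical
  obtain ⟨b, hb1, hb2, hb3⟩ := exists_basis_aux h2 n B hS hB hn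
  set c := B (b (Fin.last n)) (b (Fin.last n)) with hc
  have := Fintype.ofFinite F
  have hF : ringChar F ≠ 2 := by
    intro h
    apply h2
    have : ((2 : ℕ) : F) = 0 := by
      rw [← h]; exact ringChar.Nat.cast_ringChar
    exact_mod_cast this
  have hα0 : α ≠ 0 := by
    rintro rfl
    exact hα ⟨0, by simp⟩
  -- c is a square or c / α is a square
  have hcase : ∃ r : F, r ≠ 0 ∧ (c = r * r ∨ c = α * (r * r)) := by
    by_cases hsq : IsSquare c
    · obtain ⟨r, hr⟩ := hsq
      refine ⟨r, ?_, Or.inl hr⟩
      rintro rfl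
      apply hb3
      rw [hr]; ring
    · have h1 : quadraticChar F c = -1 := quadraticChar_neg_one_iff_not_isSquare.mpr hsq
      have h2' : quadraticChar F α = -1 := quadraticChar_neg_one_iff_not_isSquare.mpr hα
      have h3 : quadraticChar F (c / α) = 1 := by
        rw [div_eq_mul_inv, map_mul, h1]
        have : quadraticChar F α⁻¹ = -1 := by
          have hm : quadraticChar F α * quadraticChar F α⁻¹ = 1 := by
            rw [← map_mul, mul_inv_cancel₀ hα0, map_one]
          rw [h2'] at hm
          linarith
        rw [this]; norm_num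
      have hcα : c / α ≠ 0 := div_ne_zero hb3 hα0
      obtain ⟨r, hr⟩ := (quadraticChar_one_iff_isSquare hcα).mp h3
      refine ⟨r, ?_, Or.inr ?_⟩
      · rintro rfl
        apply hcα
        rw [hr]; ring
      · rw [← hr]; field_simp
  obtain ⟨r, hr0, hr⟩ := hcase
  let w : Fin (n + 1) → Fˣ := fun i => if i = Fin.last n then (Units.mk0 r hr0)⁻¹ else 1
  refine ⟨b.unitsSMul w, ?_, ?_, ?_⟩
  · intro i j hij
    rw [Basis.unitsSMul_apply, Basis.unitsSMul_apply]
    simp only [Units.smul_def, map_smul, LinearMap.smul_apply, smul_eq_mul, hb1 i j hij, mul_zero]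
  · intro i hi
    rw [Basis.unitsSMul_apply]
    simp only [w, if_neg hi, one_smul]
    exact hb2 i hi
  · rw [Basis.unitsSMul_apply]
    simp only [w, if_true, Units.smul_def, map_smul, LinearMap.smul_apply, smul_eq_mul, ← hc]
    rcases hr with h | h
    · left
      rw [h]
      simp only [Units.val_inv_eq_inv_val, Units.val_mk0]
      field_simp
    · right
      rw [h]
      simp only [Units.val_inv_eq_inv_val, Units.val_mk0]
      field_simp

end Cfsg.Agent.S0756
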