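import Cfsg.Statements.S0776
import Cfsg.Agent.Lib.Helper18.Stab
import Cfsg.Agent.Lib.Helper18.SympTrans
import Cfsg.Agent.Lib.Helper20.SympEmbed

set_option autoImplicit false
open Cfsg

namespace Cfsg.Agent.S0776

open Matrix

section
variable {F : Type*} [Field F] {m k : ℕ}

/-- `Fin k ⊕ Fin (m-k) ≃ Fin m` -/
def sig (hk : k ≤ m) : Fin k ⊕ Fin (m - k) ≃ Fin m :=
  finSumFinEquiv.trans (finCongr (by omega))

/-- index equivalence -/
def eps (hk : k ≤ m) : (Fin k ⊕ Fin k) ⊕ (Fin (m - k) ⊕ Fin (m - k)) ≃ Fin m ⊕ Fin m :=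
  (Equiv.sumSumSumComm _ _ _ _).trans (Equiv.sumCongr (sig hk) (sig hk))

theorem J_eps (hk : k ≤ m) :
    (Matrix.J (Fin m) F).submatrix (eps hk) (eps hk) =
      fromBlocks (Matrix.J (Fin k) F) 0 0 (Matrix.J (Fin (m - k)) F) := by
  ext x y
  rcases x with (i | i) | (j | j) <;> rcases y with (i' | i') | (j' | j') <;>
    simp [eps, Matrix.J, Matrix.one_apply, (sig hk).injective.eq_iff]

/-- block diagonal embedding -/
def blk (hk : k ≤ m) (A : Matrix (Fin k ⊕ Fin k) (Fin k ⊕ Fin k) F)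
    (D : Matrix (Fin (m - k) ⊕ Fin (m - k)) (Fin (m - k) ⊕ Fin (m - k)) F) :
    Matrix (Fin m ⊕ Fin m) (Fin m ⊕ Fin m) F :=
  (fromBlocks A 0 0 D).submatrix (eps hk).symm (eps hk).symm

theorem blk_mul (hk : k ≤ m) (A A' : Matrix (Fin k ⊕ Fin k) (Fin k ⊕ Fin k) F)
    (D D' : Matrix (Fin (m - k) ⊕ Fin (m - k)) (Fin (m - k) ⊕ Fin (m - k)) F) :
    blk hk A D * blk hk A' D' = blk hk (A * A') (D * D') := by
  unfold blk
  rw [Matrix.submatrix_mul_equiv, Matrix.fromBlocks_multiply]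
  simp

theorem blk_transpose (hk : k ≤ m) (A : Matrix (Fin k ⊕ Fin k) (Fin k ⊕ Fin k) F)
    (D : Matrix (Fin (m - k) ⊕ Fin (m - k)) (Fin (m - k) ⊕ Fin (m - k)) F) :
    (blk hk A D)ᵀ = blk hk Aᵀ Dᵀ := by
  unfold blk
  rw [Matrix.transpose_submatrix, Matrix.fromBlocks_transpose]
  simp

theorem J_eq_blk (hk : k ≤ m) :
    Matrix.J (Fin m) F = blk hk (Matrix.J (Fin k) F) (Matrix.J (Fin (m - k)) F) := by
  unfold blk
  rw [← J_eps hk]
  simp

theorem blk_one (hk : k ≤ m) : blk hk (1 : Matrix (Fin k ⊕ Fin k) (Fin k ⊕ Fin k) F) 1 = 1 := by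
  unfold blk
  rw [Matrix.fromBlocks_one, Matrix.submatrix_one_equiv]

theorem blk_inj (hk : k ≤ m) {A A' : Matrix (Fin k ⊕ Fin k) (Fin k ⊕ Fin k) F}
    {D D' : Matrix (Fin (m - k) ⊕ Fin (m - k)) (Fin (m - k) ⊕ Fin (m - k)) F}
    (h : blk hk A D = blk hk A' D') : A = A' ∧ D = D' := by
  unfold blk at h
  have h' := congrArg (fun M => M.submatrix (eps hk) (eps hk)) h
  simp only [Matrix.submatrix_submatrix, Equiv.symm_comp_self, Matrix.submatrix_id_id] at h'
  rw [Matrix.fromBlocks_inj] at h'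
  exact ⟨h'.1, h'.2.2.2⟩

theorem blk_mem (hk : k ≤ m) {A : Matrix (Fin k ⊕ Fin k) (Fin k ⊕ Fin k) F}
    {D : Matrix (Fin (m - k) ⊕ Fin (m - k)) (Fin (m - k) ⊕ Fin (m - k)) F}
    (hA : A ∈ Matrix.symplecticGroup (Fin k) F) (hD : D ∈ Matrix.symplecticGroup (Fin (m - k)) F) :
    blk hk A D ∈ Matrix.symplecticGroup (Fin m) F := by
  rw [SymplecticGroup.mem_iff] at hA hD ⊢
  rw [J_eq_blk hk, blk_transpose, blk_mul, blk_mul, hA, hD]



/-- the block-diagonal homomorphism -/
def Psi (hk : k ≤ m) : Matrix.symplecticGroup (Fin k) F × Matrix.symplecticGroup (Fin (m - k)) F →*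
    Matrix.symplecticGroup (Fin m) F where
  toFun p := ⟨blk hk p.1.1 p.2.1, blk_mem hk p.1.2 p.2.2⟩
  map_one' := Subtype.ext (blk_one hk)
  map_mul' p q := Subtype.ext (blk_mul hk _ _ _ _).symm

theorem Psi_injective (hk : k ≤ m) : Function.Injective (Psi (F := F) hk) := by
  intro p q h
  have h' := congrArg Subtype.val h
  obtain ⟨h1, h2⟩ := blk_inj hk h'
  exact Prod.ext (Subtype.ext h1) (Subtype.ext h2)

/-- coordinates outside the first block -/
def pOut (hk : k ≤ m) (x : Fin m ⊕ Fin m) : Prop := ∃ y, x = eps hk (Sum.inr y)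

theorem pOut_inr (hk : k ≤ m) (y : Fin (m - k) ⊕ Fin (m - k)) : pOut hk (eps hk (Sum.inr y)) :=
  ⟨y, rfl⟩

theorem not_pOut_inl (hk : k ≤ m) (x : Fin k ⊕ Fin k) : ¬ pOut hk (eps hk (Sum.inl x)) := by
  rintro ⟨y, hy⟩
  have := (eps hk).injective hy
  simp at this

theorem stab_W0 (hk : k ≤ m) (h : Matrix.symplecticGroup (Fin m) F) :
    h ∈ Cfsg.stabilizing (Cfsg.spToMat m F) {v : Fin m ⊕ Fin m → F | ∀ x, pOut hk x → v x = 0} ↔
      h ∈ (Psi (F := F) hk).range := by
  rw [Cfsg.Agent.Lib.Helper18.mem_stabilizing_coord_iff]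
  constructor
  · intro hC
    set M := h.1.submatrix (eps hk) (eps hk) with hM
    have hMJ : M * fromBlocks (Matrix.J (Fin k) F) 0 0 (Matrix.J (Fin (m - k)) F) * Mᵀ =
        fromBlocks (Matrix.J (Fin k) F) 0 0 (Matrix.J (Fin (m - k)) F) := by
      have h2 := SymplecticGroup.mem_iff.mp h.2
      have h3 := congrArg (fun X => X.submatrix (eps hk) (eps hk)) h2
      rw [← J_eps hk, hM, Matrix.transpose_submatrix, Matrix.submatrix_mul_equiv,
        Matrix.submatrix_mul_equiv]
      exact h3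
    have hC0 : M.toBlocks₂₁ = 0 := by
      ext y x
      simp only [Matrix.toBlocks₂₁, hM, Matrix.submatrix_apply, Matrix.of_apply, Matrix.zero_apply]
      exact hC _ _ (pOut_inr hk y) (not_pOut_inl hk x)
    rw [← Matrix.fromBlocks_toBlocks M, hC0] at hMJ
    set A := M.toBlocks₁₁
    set B := M.toBlocks₁₂
    set D := M.toBlocks₂₂
    rw [Matrix.fromBlocks_transpose, Matrix.fromBlocks_multiply, Matrix.fromBlocks_multiply,
      Matrix.fromBlocks_inj] at hMJ
    simp only [Matrix.mul_zero, Matrix.zero_mul, add_zero, zero_add, Matrix.transpose_zero] at hMJ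
    obtain ⟨e11, e12, e21, e22⟩ := hMJ
    have hD : D ∈ Matrix.symplecticGroup (Fin (m - k)) F := SymplecticGroup.mem_iff.mpr e22
    have hD' := SymplecticGroup.mem_iff'.mp hD
    have hB : B = 0 := by
      have h5 : B * Matrix.J (Fin (m - k)) F * Dᵀ * (Matrix.J (Fin (m - k)) F * D) = 0 := by
        rw [e12, Matrix.zero_mul]
      have h6 : B * Matrix.J (Fin (m - k)) F * Dᵀ * (Matrix.J (Fin (m - k)) F * D) = -B := by
        calc B * Matrix.J (Fin (m - k)) F * Dᵀ * (Matrix.J (Fin (m - k)) F * D)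
            = B * Matrix.J (Fin (m - k)) F * (Dᵀ * Matrix.J (Fin (m - k)) F * D) := by
              simp only [Matrix.mul_assoc]
          _ = B * (Matrix.J (Fin (m - k)) F * Matrix.J (Fin (m - k)) F) := by
              rw [hD', Matrix.mul_assoc]
          _ = -B := by rw [Matrix.J_squared]; simp
      rw [h6] at h5
      exact neg_eq_zero.mp h5
    rw [hB] at e11
    simp only [Matrix.zero_mul, add_zero] at e11
    have hA : A ∈ Matrix.symplecticGroup (Fin k) F := SymplecticGroup.mem_iff.mpr e11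
    refine ⟨(⟨A, hA⟩, ⟨D, hD⟩), ?_⟩
    apply Subtype.ext
    show blk hk A D = h.1
    unfold blk
    have hM2 : M = fromBlocks A 0 0 D := by
      rw [← Matrix.fromBlocks_toBlocks M, hC0]
      show fromBlocks A B 0 D = _
      rw [hB]
    rw [← hM2, hM]
    simp
  · rintro ⟨p, rfl⟩ i j hi hj
    obtain ⟨y, rfl⟩ := hi
    have hj' : ∃ x, j = eps hk (Sum.inl x) := by
      rcases hx : (eps hk).symm j with x | y'
      · exact ⟨x, by rw [← hx]; simp⟩
      · exfalso; apply hj; exact ⟨y', by rw [← hx]; simp⟩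
    obtain ⟨x, rfl⟩ := hj'
    show blk hk p.1.1 p.2.1 _ _ = 0
    simp [blk]

end


section
variable {F : Type*} [Field F] {m k : ℕ}

/-- the symplectic form as a bilinear form -/
noncomputable def sB (m : ℕ) (F : Type*) [Field F] : LinearMap.BilinForm F (Fin m ⊕ Fin m → F) :=
  Matrix.toBilin' (Matrix.J (Fin m) F)

theorem sB_apply (u v : Fin m ⊕ Fin m → F) : sB m F u v = Cfsg.sympForm m F u v := by
  simp [sB, Matrix.toBilin'_apply', Cfsg.sympForm]

theorem sB_isAlt : (sB m F).IsAlt := fun x => by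
  rw [sB_apply]; exact Cfsg.Agent.Lib.Helper18.sympForm_self m x

theorem sB_nondeg : (sB m F).Nondegenerate := by
  constructor
  · intro x hx
    by_contra hne
    obtain ⟨y, hy⟩ := Cfsg.Agent.Lib.Helper18.sf_nondeg_top m x hne
    exact hy (by rw [← sB_apply]; exact hx y)
  · intro y hy
    by_contra hne
    obtain ⟨x, hx⟩ := Cfsg.Agent.Lib.Helper18.sf_nondeg_top m y hne
    apply hx
    rw [Cfsg.Agent.Lib.Helper18.sympForm_swap, ← sB_apply, hy x, neg_zero]

theorem exists_P (hk : k ≤ m) (W : Submodule F (Fin m ⊕ Fin m → F))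
    (hWk : Module.finrank F W = 2 * k)
    (hW : ∀ u ∈ W, (∀ v ∈ W, Cfsg.sympForm m F u v = 0) → u = 0) :
    ∃ P : Matrix.symplecticGroup (Fin m) F, ∀ v : Fin m ⊕ Fin m → F,
      v ∈ W ↔ ∀ x, pOut hk x → ((P⁻¹ : Matrix.symplecticGroup (Fin m) F).1 *ᵥ v) x = 0 := by
  classical
  set B := sB m F with hBdef
  have hAlt : B.IsAlt := sB_isAlt
  have hND : B.Nondegenerate := sB_nondeg
  have hRefl : B.IsRefl := hAlt.isRefl
  have hWalt : (B.restrict W).IsAlt := fun x => hAlt x.1
  have hWnd : (B.restrict W).Nondegenerate := by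
    have hleft : ∀ x : W, (∀ y : W, (B.restrict W) x y = 0) → x = 0 := by
      intro x hx
      apply Subtype.ext
      apply hW x.1 x.2
      intro v hv
      have := hx ⟨v, hv⟩
      rw [← sB_apply]
      exact this
    constructor
    · exact hleft
    · intro y hy
      apply hleft
      intro x
      have h1 := hy x
      have h2 : (B.restrict W) y x = -(B.restrict W) x y := (hWalt.neg_eq x y).symm
      rw [h2, h1, neg_zero]
  obtain ⟨bW, hbW⟩ := Cfsg.Agent.Lib.Helper20.exists_symplectic_basis (B.restrict W) hWalt hWnd k hWk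
  set W' := B.orthogonal W with hW'def
  have hcompl : IsCompl W W' :=
    LinearMap.BilinForm.isCompl_orthogonal_of_restrict_nondegenerate hRefl hWnd
  have hVdim : Module.finrank F (Fin m ⊕ Fin m → F) = 2 * m := by
    rw [Module.finrank_pi, Fintype.card_sum, Fintype.card_fin]; ring
  have hW'dim : Module.finrank F W' = 2 * (m - k) := by
    rw [hW'def, LinearMap.BilinForm.finrank_orthogonal hND, hWk, hVdim]; omega
  have hW'alt : (B.restrict W').IsAlt := fun x => hAlt x.1
  have hW'nd : (B.restrict W').Nondegenerate := by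
    rw [LinearMap.BilinForm.restrict_nondegenerate_iff_isCompl_orthogonal hRefl,
      hW'def, LinearMap.BilinForm.orthogonal_orthogonal hND hRefl]
    exact hcompl.symm
  obtain ⟨bW', hbW'⟩ :=
    Cfsg.Agent.Lib.Helper20.exists_symplectic_basis (B.restrict W') hW'alt hW'nd (m - k) hW'dim
  -- columns
  let c : Fin m ⊕ Fin m → (Fin m ⊕ Fin m → F) := fun z =>
    Sum.elim (fun x => ((bW x : W) : Fin m ⊕ Fin m → F))
      (fun y => ((bW' y : W') : Fin m ⊕ Fin m → F)) ((eps hk).symm z)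
  let P : Matrix (Fin m ⊕ Fin m) (Fin m ⊕ Fin m) F := Matrix.of (fun i j => c j i)
  have hPcol : ∀ u : Fin m ⊕ Fin m → F, P *ᵥ u = ∑ z, u z • c z := by
    intro u
    ext i
    simp only [P, Matrix.mulVec, dotProduct, Matrix.of_apply, Finset.sum_apply, Pi.smul_apply,
      smul_eq_mul]
    apply Finset.sum_congr rfl
    intro z _
    ring
  have hgram : ∀ z z', Cfsg.sympForm m F (c z) (c z') = Matrix.J (Fin m) F z z' := by
    intro z z'
    obtain ⟨a, rfl⟩ := (eps hk).surjective z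
    obtain ⟨a', rfl⟩ := (eps hk).surjective z'
    have hJ : Matrix.J (Fin m) F (eps hk a) (eps hk a') =
        (fromBlocks (Matrix.J (Fin k) F) 0 0 (Matrix.J (Fin (m - k)) F)) a a' :=
      congrFun (congrFun (J_eps (F := F) hk) a) a'
    rw [hJ]
    simp only [c, Equiv.symm_apply_apply]
    rcases a with x | y <;> rcases a' with x' | y'
    · simp only [Sum.elim_inl, Matrix.fromBlocks_apply₁₁]
      have := congrFun (congrFun hbW x) x'
      rw [LinearMap.BilinForm.toMatrix_apply] at this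
      rw [← this, ← sB_apply]
      rfl
    · simp only [Sum.elim_inl, Sum.elim_inr, Matrix.fromBlocks_apply₁₂, Matrix.zero_apply]
      rw [← sB_apply]
      exact (bW' y').2 _ (bW x).2
    · simp only [Sum.elim_inl, Sum.elim_inr, Matrix.fromBlocks_apply₂₁, Matrix.zero_apply]
      rw [Cfsg.Agent.Lib.Helper18.sympForm_swap, ← sB_apply]
      rw [(bW' y).2 _ (bW x').2, neg_zero]
    · simp only [Sum.elim_inr, Matrix.fromBlocks_apply₂₂]
      have := congrFun (congrFun hbW' y) y'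
      rw [LinearMap.BilinForm.toMatrix_apply] at this
      rw [← this, ← sB_apply]
      rfl
  have hPmem : P ∈ Matrix.symplecticGroup (Fin m) F := by
    rw [SymplecticGroup.mem_iff']
    ext z z'
    rw [← hgram z z']
    simp only [Matrix.mul_apply, Matrix.transpose_apply, P, Matrix.of_apply, Cfsg.sympForm,
      dotProduct, Matrix.mulVec, Finset.sum_mul, Finset.mul_sum]
    rw [Finset.sum_comm]
    apply Finset.sum_congr rfl
    intro a _
    apply Finset.sum_congr rfl
    intro b _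
    ring
  let Pg : Matrix.symplecticGroup (Fin m) F := ⟨P, hPmem⟩
  have hinvP : (Pg⁻¹ : Matrix.symplecticGroup (Fin m) F).1 * P = 1 := by
    have : (Pg⁻¹ * Pg : Matrix.symplecticGroup (Fin m) F).1 = 1 := by
      rw [inv_mul_cancel]; rfl
    exact this
  have hPinv : P * (Pg⁻¹ : Matrix.symplecticGroup (Fin m) F).1 = 1 := by
    have : (Pg * Pg⁻¹ : Matrix.symplecticGroup (Fin m) F).1 = 1 := by
      rw [mul_inv_cancel]; rfl
    exact this
  have claim1 : ∀ u : Fin m ⊕ Fin m → F, (∀ x, pOut hk x → u x = 0) → P *ᵥ u ∈ W := by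
    intro u hu
    rw [hPcol]
    apply Submodule.sum_mem
    intro z _
    obtain ⟨a, rfl⟩ := (eps hk).surjective z
    rcases a with x | y
    · apply Submodule.smul_mem
      simp only [c, Equiv.symm_apply_apply, Sum.elim_inl]
      exact (bW x).2
    · rw [hu _ (pOut_inr hk y), zero_smul]
      exact W.zero_mem
  have claim2 : ∀ v ∈ W, ∃ u : Fin m ⊕ Fin m → F, (∀ x, pOut hk x → u x = 0) ∧ P *ᵥ u = v := by
    intro v hv
    refine ⟨fun z => Sum.elim (fun x => bW.repr ⟨v, hv⟩ x) (fun _ => 0) ((eps hk).symm z), ?_, ?_⟩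
    · rintro x ⟨y, rfl⟩
      simp
    · rw [hPcol]
      rw [← Equiv.sum_comp (eps hk)]
      rw [Fintype.sum_sum_type]
      simp only [c, Equiv.symm_apply_apply, Sum.elim_inl, Sum.elim_inr, zero_smul,
        Finset.sum_const_zero, add_zero]
      have := bW.sum_repr ⟨v, hv⟩
      have h2 := congrArg (Subtype.val) this
      simp only [Submodule.coe_sum, Submodule.coe_smul] at h2
      exact h2
  refine ⟨Pg, ?_⟩
  intro v
  constructor
  · intro hv
    obtain ⟨u, hu, rfl⟩ := claim2 v hv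
    rw [Matrix.mulVec_mulVec, hinvP, Matrix.one_mulVec]
    exact hu
  · intro hu
    have := claim1 _ hu
    rw [Matrix.mulVec_mulVec, hPinv, Matrix.one_mulVec] at this
    exact this

end

/-- If W ≤ F^(2m) is a 2k-dimensional subspace on which the symplectic form is non-degenerate, then the stabiliser of W in Sp_2m(F) is isomorphic to Sp_2k(F) × Sp_(2m−2k)(F). -/
theorem result {F : Type*} [Field F] (m k : ℕ) (hk : k ≤ m) (W : Submodule F (Fin m ⊕ Fin m → F)) (hWk : Module.finrank F W = 2 * k) (hW : ∀ u ∈ W, (∀ v ∈ W, Cfsg.sympForm m F u v = 0) → u = 0) : Nonempty (↥(Cfsg.stabilizing (Cfsg.spToMat m F) (W : Set (Fin m ⊕ Fin m → F))) ≃* Matrix.symplecticGroup (Fin k) F × Matrix.symplecticGroup (Fin (m - k)) F) := by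
  classical
  obtain ⟨P, hP⟩ := exists_P hk W hWk hW
  let Φ : Matrix.symplecticGroup (Fin k) F × Matrix.symplecticGroup (Fin (m - k)) F →*
      Matrix.symplecticGroup (Fin m) F := (MulAut.conj P).toMonoidHom.comp (Psi hk)
  have hinj : Function.Injective Φ := (MulAut.conj P).injective.comp (Psi_injective hk)
  -- transport of the stabiliser
  have transport : ∀ g : Matrix.symplecticGroup (Fin m) F,
      g ∈ Cfsg.stabilizing (Cfsg.spToMat m F) (W : Set (Fin m ⊕ Fin m → F)) ↔
      P⁻¹ * g * P ∈ Cfsg.stabilizing (Cfsg.spToMat m F)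
        {v : Fin m ⊕ Fin m → F | ∀ x, pOut hk x → v x = 0} := by
    intro g
    have hmul : ∀ u : Fin m ⊕ Fin m → F, (Cfsg.spToMat m F (P⁻¹ * g * P)) *ᵥ u =
        (P⁻¹ : Matrix.symplecticGroup (Fin m) F).1 *ᵥ (g.1 *ᵥ (P.1 *ᵥ u)) := by
      intro u
      rw [Matrix.mulVec_mulVec, Matrix.mulVec_mulVec]
      rfl
    have hPP : ∀ u : Fin m ⊕ Fin m → F,
        (P⁻¹ : Matrix.symplecticGroup (Fin m) F).1 *ᵥ (P.1 *ᵥ u) = u := by
      intro u
      rw [Matrix.mulVec_mulVec]
      have : (P⁻¹ * P : Matrix.symplecticGroup (Fin m) F).1 = 1 := by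
        rw [inv_mul_cancel]; rfl
      have h' : (P⁻¹ : Matrix.symplecticGroup (Fin m) F).1 * P.1 = 1 := this
      rw [h', Matrix.one_mulVec]
    have hPP' : ∀ u : Fin m ⊕ Fin m → F,
        P.1 *ᵥ ((P⁻¹ : Matrix.symplecticGroup (Fin m) F).1 *ᵥ u) = u := by
      intro u
      rw [Matrix.mulVec_mulVec]
      have : (P * P⁻¹ : Matrix.symplecticGroup (Fin m) F).1 = 1 := by
        rw [mul_inv_cancel]; rfl
      have h' : P.1 * (P⁻¹ : Matrix.symplecticGroup (Fin m) F).1 = 1 := this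
      rw [h', Matrix.one_mulVec]
    constructor
    · intro hg u
      show (∀ x, pOut hk x → u x = 0) ↔
        ∀ x, pOut hk x → ((Cfsg.spToMat m F (P⁻¹ * g * P)) *ᵥ u) x = 0
      rw [hmul]
      have h1 := hP (P.1 *ᵥ u)
      rw [hPP] at h1
      rw [← h1, ← hP]
      exact hg (P.1 *ᵥ u)
    · intro hg v
      show v ∈ W ↔ g.1 *ᵥ v ∈ W
      have h1 := hg ((P⁻¹ : Matrix.symplecticGroup (Fin m) F).1 *ᵥ v)
      have h2 : (∀ x, pOut hk x → ((P⁻¹ : Matrix.symplecticGroup (Fin m) F).1 *ᵥ v) x = 0) ↔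
          ∀ x, pOut hk x → ((Cfsg.spToMat m F (P⁻¹ * g * P)) *ᵥ
            ((P⁻¹ : Matrix.symplecticGroup (Fin m) F).1 *ᵥ v)) x = 0 := h1
      rw [hmul, hPP'] at h2
      rw [hP v, hP (g.1 *ᵥ v)]
      exact h2
  have hrange : Φ.range = Cfsg.stabilizing (Cfsg.spToMat m F) (W : Set (Fin m ⊕ Fin m → F)) := by
    ext g
    rw [transport g, stab_W0 hk]
    constructor
    · rintro ⟨p, rfl⟩
      refine ⟨p, ?_⟩
      show Psi hk p = P⁻¹ * (P * Psi hk p * P⁻¹) * P
      group
    · rintro ⟨p, hp⟩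
      refine ⟨p, ?_⟩
      show P * Psi hk p * P⁻¹ = g
      rw [hp]; group
  exact ⟨(MulEquiv.subgroupCongr hrange.symm).trans (MonoidHom.ofInjective hinj).symm⟩

end Cfsg.Agent.S0776
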