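import Cfsg.Statements.S0780
import Cfsg.Agent.Lib.Helper51.SUGen6

set_option autoImplicit false
open Cfsg

namespace Cfsg.Agent.S0780

open Cfsg.Agent.Lib.Helper51 Cfsg.Agent.Lib.Helper08 Matrix

theorem mem_closure_of_TT {F : Type*} [Field F] [Fintype F] {q : ℕ}
    (hF : Fintype.card F = q ^ 2) (n : ℕ) {M : Matrix (Fin n) (Fin n) F}
    (hM : M ∈ TT (Fin n) F q) :
    ∀ A : ↥(Cfsg.SU n F q),
      ((A : Matrix.SpecialLinearGroup (Fin n) F) : Matrix (Fin n) (Fin n) F) = M →
      A ∈ Subgroup.closure {A : ↥(Cfsg.SU n F q) | ∃ (v : Fin n → F) (c : F),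
        Cfsg.hermForm n F q v v = 0 ∧
        ((A : Matrix.SpecialLinearGroup (Fin n) F) : Matrix (Fin n) (Fin n) F) =
          Cfsg.unitaryTransvection n q v c} := by
  induction hM using Submonoid.closure_induction with
  | mem x hx =>
    intro A hA
    obtain ⟨d, c, hd, hc, rfl⟩ := hx
    apply Subgroup.subset_closure
    exact ⟨d, c, hd, hA⟩
  | one =>
    intro A hA
    have : A = 1 := by
      apply Subtype.ext
      apply Subtype.ext
      exact hA
    rw [this]
    exact Subgroup.one_mem _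
  | mul x y hx hy ihx ihy =>
    intro A hA
    have hxi := TT_iso hF hx
    have hyi := TT_iso hF hy
    let X : ↥(Cfsg.SU n F q) := ⟨⟨x, TT_det hx⟩, fun u v => hxi u v⟩
    let Y : ↥(Cfsg.SU n F q) := ⟨⟨y, TT_det hy⟩, fun u v => hyi u v⟩
    have hAXY : A = X * Y := by
      apply Subtype.ext
      apply Subtype.ext
      rw [hA]
      rfl
    rw [hAXY]
    exact Subgroup.mul_mem _ (ihx X rfl) (ihy Y rfl)

/-- Generation of SU_n(q), n ≥ 3, (n, q) ≠ (3, 2), by unitary transvections: the subgroup generated by the elements whose matrix is x ↦ x + c h(x, v) v with v isotropic is all of SU_n(q). -/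
theorem result {F : Type*} [Field F] [Fintype F] {q : ℕ} (hF : Fintype.card F = q ^ 2) (n : ℕ) (hn : 3 ≤ n) (h32 : ¬ (n = 3 ∧ q = 2)) : Subgroup.closure {A : ↥(Cfsg.SU n F q) | ∃ (v : Fin n → F) (c : F), Cfsg.hermForm n F q v v = 0 ∧ ((A : Matrix.SpecialLinearGroup (Fin n) F) : Matrix (Fin n) (Fin n) F) = Cfsg.unitaryTransvection n q v c} = ⊤ := by
  rw [eq_top_iff]
  intro A _
  apply mem_closure_of_TT hF n _ A rfl
  apply SU_le_TT hF n h32
  · intro u v
    exact A.2 u v
  · exact A.1.2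

end Cfsg.Agent.S0780
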