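import Cfsg.Statements.S2644
import Cfsg.Agent.Lib.Helper51.UnitaryT3

set_option autoImplicit false
open Cfsg

namespace Cfsg.Agent.S2644



/-- In the special unitary group SU_n(q) with n ≥ 3 (isometries of Σ u_i v_i^q of determinant one over the field with q² elements), any two transvections (elements t with t − 1 of rank one and square zero) are conjugate. -/
theorem result {K : Type*} [Field K] [Fintype K] {q n : ℕ} (hK : Fintype.card K = q ^ 2) (hn : 3 ≤ n) (s t : ↥(Cfsg.SU n K q)) (hs : Cfsg.IsTransvection (((s : GL (Fin n) K) : Matrix (Fin n) (Fin n) K))) (ht : Cfsg.IsTransvection (((t : GL (Fin n) K) : Matrix (Fin n) (Fin n) K))) : IsConj s t := by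
  classical
  have hq0 : q ≠ 0 := by have := Cfsg.Agent.Lib.Helper51.one_lt_q' hK; omega
  set S : Matrix (Fin n) (Fin n) K := ((s : Matrix.SpecialLinearGroup (Fin n) K) : Matrix (Fin n) (Fin n) K) with hS
  set T : Matrix (Fin n) (Fin n) K := ((t : Matrix.SpecialLinearGroup (Fin n) K) : Matrix (Fin n) (Fin n) K) with hT
  have hSiso : Cfsg.Agent.Lib.Helper08.IsIsoMat q S := fun x y => s.2 x y
  have hTiso : Cfsg.Agent.Lib.Helper08.IsIsoMat q T := fun x y => t.2 x y
  obtain ⟨a, c, ha0, ha, hc0, hc, hSa⟩ := Cfsg.Agent.Lib.Helper51.transvection_form hK S hSiso hs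
  obtain ⟨b, d, hb0, hb, hd0, hd, hTb⟩ := Cfsg.Agent.Lib.Helper51.transvection_form hK T hTiso ht
  have hcq : c ^ q = -c := by linear_combination hc
  have hdq : d ^ q = -d := by linear_combination hd
  obtain ⟨l, hl⟩ := Cfsg.Agent.Lib.Helper51.exists_norm_eq hK (d / c) (div_ne_zero hd0 hc0) (by
    rw [div_pow, hcq, hdq, neg_div_neg_eq])
  have hl0 : l ≠ 0 := by
    intro h0
    rw [h0, zero_mul] at hl
    exact (div_ne_zero hd0 hc0) hl.symm
  have hb'0 : l • b ≠ 0 := smul_ne_zero hl0 hb0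
  have hb' : Cfsg.Agent.Lib.Helper08.hform (Fin n) K q (l • b) (l • b) = 0 := by
    rw [Cfsg.Agent.Lib.Helper08.hform_smul_left, Cfsg.Agent.Lib.Helper08.hform_smul_right, hb, mul_zero, mul_zero]
  obtain ⟨M, hMiso, hMdet, hMa⟩ := Cfsg.Agent.Lib.Helper51.exists_SU_map hK hn a (l • b) ha0 hb'0 ha hb'
  have hcomm : M * S = T * M := by
    apply Matrix.mulVec_injective
    funext x
    rw [← Matrix.mulVec_mulVec, ← Matrix.mulVec_mulVec, hSa, hTb,
      Cfsg.Agent.Lib.Helper08.qrefl_mulVec, Cfsg.Agent.Lib.Helper08.qrefl_mulVec,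
      Matrix.mulVec_add, Matrix.mulVec_smul, hMa]
    congr 1
    have h1 : Cfsg.Agent.Lib.Helper08.hform (Fin n) K q (Matrix.mulVec M x) b * l ^ q =
        Cfsg.Agent.Lib.Helper08.hform (Fin n) K q x a := by
      rw [← hMiso x a, hMa, Cfsg.Agent.Lib.Helper08.hform_smul_right, mul_comm]
    rw [← h1, smul_smul]
    congr 1
    have h2 : d = c * (l * l ^ q) := by
      rw [hl]
      field_simp
    rw [h2]
    ring
  let g : ↥(Cfsg.SU n K q) := ⟨⟨M, hMdet⟩, fun x y => hMiso x y⟩
  rw [isConj_iff]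
  refine ⟨g, ?_⟩
  rw [mul_inv_eq_iff_eq_mul]
  apply Subtype.ext
  apply Subtype.ext
  exact hcomm

end Cfsg.Agent.S2644
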