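import Cfsg.Statements.S2420
import Cfsg.Agent.Lib.Helper47.ParabolicCount
import Cfsg.Agent.Lib.Helper47.CompLabel

set_option autoImplicit false
open scoped MatrixGroups
open Cfsg

namespace Cfsg.Agent.S2420

/-- The number of partial flags of a given type: for a composition `μ` of `n` (with `n` parts, zeros allowed) and a field with `q` elements, the index of the standard parabolic subgroup `P_μ` in `GL_n(q)` times `∏_i {μ_i}` equals `{n}`, where `{r}` denotes the product over `k = 1, …, r` of the q-integers `1 + q + ⋯ + q^(k−1)`. -/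
theorem result {F : Type*} [Field F] [Fintype F] {q : ℕ} (hq : Fintype.card F = q) {n : ℕ} (μ : Fin n → ℕ) (hμ : ∑ i, μ i = n) :
    Nat.card (GL (Fin n) F ⧸ Cfsg.parabolicGL n F μ) * ∏ i : Fin n, ∏ j ∈ Finset.range (μ i), ∑ l ∈ Finset.range (j + 1), q ^ l =
      ∏ j ∈ Finset.range n, ∑ l ∈ Finset.range (j + 1), q ^ l := by
  classical
  subst hq
  have hq2 : 1 < Fintype.card F := Fintype.one_lt_card
  have hq1 : 1 ≤ Fintype.card F := hq2.le
  have hb : Monotone (Cfsg.compLabel μ) := Lib.Helper47.compLabel_monotone μ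
  have hP := Lib.Helper47.card_parabolicGL F μ hb
  have hG := Matrix.card_GL_field (𝔽 := F) n
  have hidx := Subgroup.index_mul_card (Cfsg.parabolicGL n F μ)
  rw [Subgroup.index_eq_card] at hidx
  have hpow : ∀ j c : ℕ, Fintype.card F ^ (j + 1 + c) - Fintype.card F ^ j =
      Fintype.card F ^ j * (Fintype.card F - 1) *
        ∑ l ∈ Finset.range (c + 1), Fintype.card F ^ l := by
    intro j c
    have h := geom_sum_mul_of_one_le hq1 (c + 1)
    rw [show j + 1 + c = j + (c + 1) by ring, pow_add, ← Nat.mul_sub_one, ← h]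
    ring
  have hP' : Nat.card (Cfsg.parabolicGL n F μ) =
      (∏ j : Fin n, Fintype.card F ^ (j : ℕ) * (Fintype.card F - 1)) *
        ∏ j : Fin n, ∑ l ∈ Finset.range ((Finset.univ.filter fun i : Fin n =>
          j < i ∧ Cfsg.compLabel μ i = Cfsg.compLabel μ j).card + 1), Fintype.card F ^ l := by
    rw [hP, ← Finset.prod_mul_distrib]
    apply Finset.prod_congr rfl
    intro j _
    rw [Lib.Helper47.card_filter_le_of_monotone _ hb j, hpow]
  have hG' : Nat.card (GL (Fin n) F) =
      (∏ j : Fin n, Fintype.card F ^ (j : ℕ) * (Fintype.card F - 1)) *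
        ∏ j : Fin n, ∑ l ∈ Finset.range (n - 1 - (j : ℕ) + 1), Fintype.card F ^ l := by
    rw [hG, ← Finset.prod_mul_distrib]
    apply Finset.prod_congr rfl
    intro j _
    rw [← hpow]
    congr 2
    have := j.isLt
    omega
  have hApos : 0 < ∏ j : Fin n, Fintype.card F ^ (j : ℕ) * (Fintype.card F - 1) := by
    apply Finset.prod_pos
    intro j _
    apply Nat.mul_pos (pow_pos (by omega) _)
    omega
  rw [hP', hG', ← mul_assoc, mul_comm _ (∏ j : Fin n, Fintype.card F ^ (j : ℕ) *
    (Fintype.card F - 1)), mul_assoc] at hidx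
  have hmain := Nat.eq_of_mul_eq_mul_left hApos hidx
  have h1 := Lib.Helper47.prod_fiber_count (Cfsg.compLabel μ) n
    (Lib.Helper47.compLabel_lt μ hμ)
    (fun r => ∑ l ∈ Finset.range (r + 1), Fintype.card F ^ l)
  rw [h1, ← Fin.prod_univ_eq_prod_range (fun k => ∏ r ∈ Finset.range
    (Finset.univ.filter fun i : Fin n => Cfsg.compLabel μ i = k).card,
      ∑ l ∈ Finset.range (r + 1), Fintype.card F ^ l) n] at hmain
  have h2 : ∀ k : Fin n, (Finset.univ.filter fun i : Fin n =>
      Cfsg.compLabel μ i = (k : ℕ)).card = μ k :=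
    fun k => Lib.Helper47.card_compLabel_eq μ hμ k
  simp only [h2] at hmain
  rw [hmain, Fin.prod_univ_eq_prod_range (fun j => ∑ l ∈ Finset.range (n - 1 - j + 1),
    Fintype.card F ^ l) n]
  exact Finset.prod_range_reflect (fun j => ∑ l ∈ Finset.range (j + 1),
    Fintype.card F ^ l) n

end Cfsg.Agent.S2420
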