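import Cfsg.Statements.S2424
import Cfsg.Agent.S2420
import Cfsg.Agent.Lib.Helper47.QFactorial

set_option autoImplicit false
open scoped MatrixGroups
open Cfsg

namespace Cfsg.Agent.S2424

/-- Degrees of the partition-indexed irreducible characters of `GL_n(q)`: for `ν` a partition of `n` with `n` non-decreasing parts `ν_0 ≤ ⋯ ≤ ν_{n−1}` (zeros allowed; positions counted from 0) and `λ_i = ν_i + i`, write `Q(r)` for the q-integer `1 + q + ⋯ + q^(r−1)` and `Q!(r)` for `Q(1)Q(2)⋯Q(r)`; then the degree `γ(ν)` of the character satisfies `γ(ν) · q^(n(n−1)(n−2)/6) · ∏_i Q!(λ_i) = Q!(n) · ∏_{i<j} (Q(λ_j) − Q(λ_i))`. For `ν = (1,…,1)` this gives the Steinberg degree `q^(n(n−1)/2)`, for `ν = (0,…,0,n)` degree 1. -/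
theorem result {F : Type*} [Field F] [Fintype F] {q : ℕ} (hq : Fintype.card F = q) {n : ℕ} (ν : Fin n → ℕ) (hmono : Monotone ν) (hsum : ∑ i, ν i = n) :
    Cfsg.unipotentCharacterGL n F ν 1 * (q : ℂ) ^ (n * (n - 1) * (n - 2) / 6) *
        ∏ i : Fin n, ∏ j ∈ Finset.range (ν i + i.val), ((∑ l ∈ Finset.range (j + 1), q ^ l : ℕ) : ℂ) =
      (∏ j ∈ Finset.range n, ((∑ l ∈ Finset.range (j + 1), q ^ l : ℕ) : ℂ)) *
        ∏ i : Fin n, ∏ j ∈ Finset.univ.filter (fun j : Fin n => i < j),
          (((∑ l ∈ Finset.range (ν j + j.val), q ^ l : ℕ) : ℂ) - ((∑ l ∈ Finset.range (ν i + i.val), q ^ l : ℕ) : ℂ)) := by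
  classical
  have hfpc : ∀ H : Subgroup (GL (Fin n) F), Cfsg.fixedPointCharacter H 1 =
      (Nat.card (GL (Fin n) F ⧸ H) : ℂ) := by
    intro H
    unfold Cfsg.fixedPointCharacter
    rw [MulAction.fixedBy_one_eq_univ, Nat.card_univ]
  -- the key termwise identity
  have hterm : ∀ κ : Equiv.Perm (Fin n),
      (if ∀ i : Fin n, (κ i).val ≤ ν i + i.val then
        ((Equiv.Perm.sign κ : ℤ) : ℂ) *
          Cfsg.fixedPointCharacter (Cfsg.parabolicGL n F fun i => ν i + i.val - (κ i).val) 1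
        else 0) * ∏ i : Fin n, (Lib.Helper47.qFact q (ν i + i.val) : ℂ) =
      (Lib.Helper47.qFact q n : ℂ) * (((Equiv.Perm.sign κ : ℤ) : ℂ) *
        ∏ i : Fin n, (Lib.Helper47.qFall q (ν i + i.val) (κ i).val : ℂ)) := by
    intro κ
    by_cases hc : ∀ i : Fin n, (κ i).val ≤ ν i + i.val
    · rw [if_pos hc, hfpc]
      have hsum : ∑ i : Fin n, (ν i + i.val - (κ i).val) = n := by
        have h1 : ∑ i : Fin n, (ν i + i.val - (κ i).val) + ∑ i : Fin n, (κ i).val =
            ∑ i : Fin n, (ν i + i.val) := by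
          rw [← Finset.sum_add_distrib]
          apply Finset.sum_congr rfl
          intro i _
          exact Nat.sub_add_cancel (hc i)
        have h2 : ∑ i : Fin n, ((κ i : Fin n) : ℕ) = ∑ i : Fin n, (i : ℕ) :=
          Equiv.sum_comp κ (fun i : Fin n => (i : ℕ))
        rw [Finset.sum_add_distrib, hsum, h2] at h1
        omega
      have h20 := Cfsg.Agent.S2420.result hq (fun i => ν i + i.val - (κ i).val) hsum
      have h20' : Nat.card (GL (Fin n) F ⧸ Cfsg.parabolicGL n F
          fun i => ν i + i.val - (κ i).val) *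
          ∏ i : Fin n, Lib.Helper47.qFact q (ν i + i.val - (κ i).val) =
          Lib.Helper47.qFact q n := h20
      have h3 : ∏ i : Fin n, Lib.Helper47.qFact q (ν i + i.val) =
          (∏ i : Fin n, Lib.Helper47.qFact q (ν i + i.val - (κ i).val)) *
            ∏ i : Fin n, Lib.Helper47.qFall q (ν i + i.val) (κ i).val := by
        rw [← Finset.prod_mul_distrib]
        apply Finset.prod_congr rfl
        intro i _
        exact Lib.Helper47.qFact_eq q _ _ (hc i)
      rw [← h20']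
      have h3' := congrArg (Nat.cast (R := ℂ)) h3
      push_cast at h3' ⊢
      rw [h3']
      ring
    · rw [if_neg hc, zero_mul]
      simp only [not_forall, not_le] at hc
      obtain ⟨i, hi⟩ := hc
      have : ∏ i : Fin n, (Lib.Helper47.qFall q (ν i + i.val) (κ i).val : ℂ) = 0 := by
        apply Finset.prod_eq_zero (Finset.mem_univ i)
        rw [Lib.Helper47.qFall_eq_zero q _ _ hi, Nat.cast_zero]
      rw [this, mul_zero, mul_zero]
  have hgamma : Cfsg.unipotentCharacterGL n F ν 1 *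
      ∏ i : Fin n, (Lib.Helper47.qFact q (ν i + i.val) : ℂ) =
      (Lib.Helper47.qFact q n : ℂ) *
        (Matrix.of fun i j : Fin n => (Lib.Helper47.qFall q (ν i + i.val) j : ℂ)).det := by
    unfold Cfsg.unipotentCharacterGL
    rw [Finset.sum_mul, Finset.sum_congr rfl (fun κ _ => hterm κ), ← Finset.mul_sum,
      ← Matrix.det_transpose, Matrix.det_apply']
    rfl
  have hdet := Lib.Helper47.det_qFall q n (fun i => ν i + i.val)
  have hL : ∏ i : Fin n, ∏ j ∈ Finset.range (ν i + i.val),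
      ((∑ l ∈ Finset.range (j + 1), q ^ l : ℕ) : ℂ) =
      ∏ i : Fin n, (Lib.Helper47.qFact q (ν i + i.val) : ℂ) := by
    apply Finset.prod_congr rfl
    intro i _
    unfold Lib.Helper47.qFact Lib.Helper47.qInt
    rw [Nat.cast_prod]
  have hR : ∏ j ∈ Finset.range n, ((∑ l ∈ Finset.range (j + 1), q ^ l : ℕ) : ℂ) =
      (Lib.Helper47.qFact q n : ℂ) := by
    unfold Lib.Helper47.qFact Lib.Helper47.qInt
    rw [Nat.cast_prod]
  rw [hL, hR]
  have hV : ∏ i : Fin n, ∏ j ∈ Finset.univ.filter (fun j : Fin n => i < j),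
      (((∑ l ∈ Finset.range (ν j + j.val), q ^ l : ℕ) : ℂ) -
        ((∑ l ∈ Finset.range (ν i + i.val), q ^ l : ℕ) : ℂ)) =
      ∏ i : Fin n, ∏ j ∈ Finset.Ioi i, ((Lib.Helper47.qInt q (ν j + j.val) : ℂ) -
        (Lib.Helper47.qInt q (ν i + i.val) : ℂ)) := by
    apply Finset.prod_congr rfl
    intro i _
    rw [Finset.filter_lt_eq_Ioi]
    rfl
  rw [hV, ← hdet, mul_right_comm, hgamma]
  ring

end Cfsg.Agent.S2424
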