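import Cfsg.Statements.S0962
import Cfsg.Agent.Lib.Helper22.DefectClass
import Cfsg.Agent.Lib.Helper82.ResidueField
import Cfsg.Agent.Lib.Helper82.WeakOrth
import Cfsg.Agent.Lib.Helper21.OsimaApps

set_option autoImplicit false
open Cfsg

namespace Cfsg.Agent.S0962

open Cfsg.Agent.Lib.Helper21 Cfsg.Agent.Lib.Helper82 Cfsg.Agent.Lib.Helper83
open Cfsg.Agent.Lib.Helper22

/-- The central characters of a block of defect at least `d` vanish modulo the local ideal on
classes of defect less than `d`. -/
theorem memLocalIdeal_centralChar_of_defect_lt {G : Type*} [Group G] [Finite G] {p : ℕ}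
    [Fact p.Prime] {M : Ideal AlgInt} (hM : IsPModular p M) {B : Set (IrrCharacter G)}
    (hB : IsPBlock M B) {d : ℕ} (hd : d ≤ blockDefect p B) (χ : IrrCharacter G) (hχ : χ ∈ B)
    (g : G) (hg : (Nat.card (Subgroup.centralizer ({g} : Set G))).factorization p < d) :
    MemLocalIdeal M (centralChar (χ : G → ℂ) g) := by
  have hMp : M.IsPrime := hM.2.1.isPrime
  obtain ⟨χ₁, hχ₁, h01⟩ := exists_height_zero (p := p) hMp hB
  have h1 : MemLocalIdeal M (centralChar (χ₁ : G → ℂ) g) := by
    have hχc := IsIrrCharacter.isCharacter χ₁.2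
    have hdpos := IsIrrCharacter.charDegree_pos χ₁.2
    have hrew : centralChar (χ₁ : G → ℂ) g =
        (((Subgroup.centralizer ({g} : Set G)).index : ℂ) / (charDegree (χ₁ : G → ℂ) : ℂ)) *
          (χ₁ : G → ℂ) g := by
      rw [centralChar, IsCharacter.charDegree_cast hχc]
      ring
    rw [hrew]
    refine memLocalIdeal_mul_right hMp
      (Cfsg.Agent.S0908.memLocalIdeal_div_of_factorization_lt hM _ _ hdpos.ne' ?_)
      (memLocalRing_of_isIntegral hMp (IsCharacter.isIntegral hχc g))
    have h2 := factorization_card_eq_add (p := p) g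
    have h3 : sInf ((fun χ : IrrCharacter G => (charDegree (χ : G → ℂ)).factorization p) '' B) ≤
        (charDegree (χ₁ : G → ℂ)).factorization p := Nat.sInf_le (Set.mem_image_of_mem _ hχ₁)
    rw [blockHeight] at h01
    rw [blockDefect] at hd
    omega
  have hsame := IsPBlock.sameBlock hMp hB hχ hχ₁ g
  have := memLocalIdeal_add hMp hsame h1
  rwa [sub_add_cancel] at this

/-- Fix a maximal ideal M of the algebraic integers containing the prime p and a natural number d. The number of blocks of the finite group G of defect at least d is at most the number of conjugacy classes of p-regular elements of G of defect at least d, where the defect of a class is the exponent of p in the order of the centralizer of any of its elements. -/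
theorem result {G : Type*} [Group G] [Finite G] (p : ℕ) [Fact p.Prime] (M : Ideal Cfsg.AlgInt) (hM : Cfsg.IsPModular p M) (d : ℕ) : Nat.card {B : Set (Cfsg.IrrCharacter G) // Cfsg.IsPBlock M B ∧ d ≤ Cfsg.blockDefect p B} ≤ Nat.card {C : ConjClasses G // ∃ g : G, ConjClasses.mk g = C ∧ Cfsg.IsPRegular p g ∧ d ≤ (Nat.card (Subgroup.centralizer ({g} : Set G))).factorization p} := by
  classical
  have hp : p.Prime := hM.1
  have hMp : M.IsPrime := hM.2.1.isPrime
  let _ : Fintype G := Fintype.ofFinite G
  let _ : Fintype (IrrCharacter G) := Fintype.ofFinite _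
  let _ : Fintype (ConjClasses G) := Fintype.ofFinite _
  rw [Nat.card_eq_fintype_card, Nat.card_eq_fintype_card]
  -- representatives and integrality
  have hne : ∀ B : {B : Set (Cfsg.IrrCharacter G) // Cfsg.IsPBlock M B ∧ d ≤ Cfsg.blockDefect p B},
      ∃ χ : IrrCharacter G, χ ∈ B.1 := fun B => IsPBlock.nonempty hMp B.2.1
  choose rep hrep using hne
  have hA : ∀ (B : {B : Set (Cfsg.IrrCharacter G) // Cfsg.IsPBlock M B ∧ d ≤ Cfsg.blockDefect p B})
      (g : G), MemLocalRing M (blockCoeff B.1 g) := by
    intro B g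
    obtain ⟨χ₀, h⟩ := B.2.1
    rw [h]
    exact memLocalRing_blockCoeff_blockOf hMp χ₀ g
  have hΩ : ∀ (χ : IrrCharacter G) (g : G), MemLocalRing M (centralChar (χ : G → ℂ) g) :=
    fun χ g => memLocalRing_of_isIntegral hMp (IsIrrCharacter.isIntegral_centralChar χ.2 g)
  -- the two matrices over the residue field
  let Λ : Matrix {B : Set (Cfsg.IrrCharacter G) // Cfsg.IsPBlock M B ∧ d ≤ Cfsg.blockDefect p B}
      {C : ConjClasses G // ∃ g : G, ConjClasses.mk g = C ∧ Cfsg.IsPRegular p g ∧
        d ≤ (Nat.card (Subgroup.centralizer ({g} : Set G))).factorization p}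
      (LocalResidue M hMp) := fun B K =>
    residueMap M hMp ⟨centralChar (rep B : G → ℂ) (Quotient.out K.1), hΩ _ _⟩
  let A : Matrix {C : ConjClasses G // ∃ g : G, ConjClasses.mk g = C ∧ Cfsg.IsPRegular p g ∧
        d ≤ (Nat.card (Subgroup.centralizer ({g} : Set G))).factorization p}
      {B : Set (Cfsg.IrrCharacter G) // Cfsg.IsPBlock M B ∧ d ≤ Cfsg.blockDefect p B}
      (LocalResidue M hMp) := fun K B =>
    residueMap M hMp ⟨blockCoeff B.1 (Quotient.out K.1), hA B _⟩
  have key : Λ * A = 1 := by
    ext B B'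
    rw [Matrix.mul_apply, Matrix.one_apply]
    -- the complex computation
    have hfull : ∑ K : ConjClasses G, blockCoeff B'.1 (Quotient.out K) *
        centralChar (rep B : G → ℂ) (Quotient.out K) = if rep B ∈ B'.1 then 1 else 0 := by
      rw [← omega_eq_sum_classes (blockCoeff_isClassFunction B'.1) (isClassFunction_irr (rep B)),
        omega_blockCoeff]
    have hbad : ∀ K : {C : ConjClasses G // ¬ ∃ g : G, ConjClasses.mk g = C ∧ Cfsg.IsPRegular p g ∧
        d ≤ (Nat.card (Subgroup.centralizer ({g} : Set G))).factorization p},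
        MemLocalIdeal M (blockCoeff B'.1 (Quotient.out K.1) *
          centralChar (rep B : G → ℂ) (Quotient.out K.1)) := by
      intro K
      have hK := K.2
      push Not at hK
      have hK' := hK (Quotient.out K.1) (Quotient.out_eq K.1)
      by_cases hreg : IsPRegular p (Quotient.out K.1)
      · have hlt := hK' hreg
        exact memLocalIdeal_mul_left hMp (hA B' _)
          (memLocalIdeal_centralChar_of_defect_lt hM B.2.1 B.2.2 (rep B) (hrep B) _ hlt)
      · rw [IsPRegular, not_not] at hreg
        obtain ⟨χ₀, h⟩ := B'.2.1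
        rw [h, blockCoeff_eq_zero_of_singular hM χ₀ _ hreg, zero_mul]
        exact memLocalIdeal_zero hMp
    have hsplit := Fintype.sum_subtype_add_sum_subtype
      (fun C : ConjClasses G => ∃ g : G, ConjClasses.mk g = C ∧ Cfsg.IsPRegular p g ∧
        d ≤ (Nat.card (Subgroup.centralizer ({g} : Set G))).factorization p)
      (fun K : ConjClasses G => blockCoeff B'.1 (Quotient.out K) *
        centralChar (rep B : G → ℂ) (Quotient.out K))
    rw [hfull] at hsplit
    have hgood : MemLocalIdeal M ((∑ K : {C : ConjClasses G // ∃ g : G, ConjClasses.mk g = C ∧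
        Cfsg.IsPRegular p g ∧ d ≤ (Nat.card (Subgroup.centralizer ({g} : Set G))).factorization p},
        blockCoeff B'.1 (Quotient.out K.1) * centralChar (rep B : G → ℂ) (Quotient.out K.1)) -
        (if rep B ∈ B'.1 then 1 else 0)) := by
      rw [← hsplit, sub_add_cancel_left]
      exact Cfsg.Agent.Lib.Helper82.memLocalIdeal_neg (memLocalIdeal_sum hMp _ _ fun K _ => hbad K)
    have hiff : rep B ∈ B'.1 ↔ B = B' := by
      constructor
      · intro h
        apply Subtype.ext
        rw [IsPBlock.eq_blockOf hMp B.2.1 (hrep B), IsPBlock.eq_blockOf hMp B'.2.1 h]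
      · rintro rfl
        exact hrep B
    simp only [hiff] at hgood
    -- transfer to the residue field
    have hsum : ∑ K, Λ B K * A K B' = residueMap M hMp
        ⟨∑ K : {C : ConjClasses G // ∃ g : G, ConjClasses.mk g = C ∧
          Cfsg.IsPRegular p g ∧ d ≤ (Nat.card (Subgroup.centralizer ({g} : Set G))).factorization p},
          blockCoeff B'.1 (Quotient.out K.1) * centralChar (rep B : G → ℂ) (Quotient.out K.1),
          memLocalRing_sum hMp _ _ fun K _ => memLocalRing_mul hMp (hA B' _) (hΩ _ _)⟩ := by
      have : (⟨∑ K : {C : ConjClasses G // ∃ g : G, ConjClasses.mk g = C ∧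
          Cfsg.IsPRegular p g ∧ d ≤ (Nat.card (Subgroup.centralizer ({g} : Set G))).factorization p},
          blockCoeff B'.1 (Quotient.out K.1) * centralChar (rep B : G → ℂ) (Quotient.out K.1),
          memLocalRing_sum hMp _ _ fun K _ => memLocalRing_mul hMp (hA B' _) (hΩ _ _)⟩ :
          localSubring M hMp) = ∑ K : {C : ConjClasses G // ∃ g : G, ConjClasses.mk g = C ∧
          Cfsg.IsPRegular p g ∧ d ≤ (Nat.card (Subgroup.centralizer ({g} : Set G))).factorization p},
          (⟨centralChar (rep B : G → ℂ) (Quotient.out K.1), hΩ _ _⟩ : localSubring M hMp) *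
          ⟨blockCoeff B'.1 (Quotient.out K.1), hA B' _⟩ := by
        apply Subtype.ext
        push_cast
        refine Finset.sum_congr rfl fun K _ => ?_
        exact mul_comm _ _
      rw [this, map_sum]
      refine Finset.sum_congr rfl fun K _ => ?_
      rw [map_mul]
    rw [hsum]
    by_cases hBB : B = B'
    · rw [if_pos hBB] at hgood ⊢
      rw [← sub_eq_zero, ← map_one (residueMap M hMp), ← map_sub, residueMap_eq_zero_iff]
      exact hgood
    · rw [if_neg hBB] at hgood ⊢
      rw [residueMap_eq_zero_iff]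
      simpa using hgood
  calc Fintype.card {B : Set (Cfsg.IrrCharacter G) // Cfsg.IsPBlock M B ∧ d ≤ Cfsg.blockDefect p B}
      = (1 : Matrix {B : Set (Cfsg.IrrCharacter G) // Cfsg.IsPBlock M B ∧ d ≤ Cfsg.blockDefect p B}
          {B : Set (Cfsg.IrrCharacter G) // Cfsg.IsPBlock M B ∧ d ≤ Cfsg.blockDefect p B}
          (LocalResidue M hMp)).rank := Matrix.rank_one.symm
    _ = (Λ * A).rank := by rw [key]
    _ ≤ Λ.rank := Matrix.rank_mul_le_left Λ A
    _ ≤ _ := Matrix.rank_le_card_width Λ

end Cfsg.Agent.S0962
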