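import Cfsg.Statements.S4741
import Cfsg.Agent.S0911
import Cfsg.Agent.Lib.Helper82.ResidueField
import Cfsg.Agent.Lib.Helper82.BlockBasic
import Cfsg.Agent.Lib.Helper82.CharBasic
import Cfsg.Agent.Lib.Helper82.CharSchur
import Cfsg.Agent.Lib.Helper82.VanishOffDefect
import Cfsg.Agent.Lib.Helper82.Counting
import Cfsg.Agent.Lib.Helper83.SecondOrth
import Cfsg.Agent.Lib.Helper83.CharBasic
import Cfsg.Agent.Lib.Helper22.DefectClass
import Cfsg.Agent.Lib.Helper22.DefectConj
import Cfsg.Agent.Lib.Helper21.OsimaApps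
import Cfsg.Agent.Lib.Helper21.SylowAux

set_option autoImplicit false
open Cfsg

namespace Cfsg.Agent.S4741

open scoped ComplexConjugate
open Cfsg.Agent.Lib.Helper82

/-- Rank lemma: if rank-one matrices `u b ⊗ v b` sum to an invertible scalar matrix, one can pick
`r` indices with `v ≠ 0` whose `u`-vectors are linearly independent. -/
theorem exists_independent {k : Type*} [Field k] {ι : Type*} [Fintype ι] {r : ℕ}
    (u v : ι → Fin r → k) (c : k) (hc : c ≠ 0)
    (h : ∀ i j, ∑ b, u b i * v b j = if i = j then c else 0) :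
    ∃ f : Fin r → ι, Function.Injective f ∧ (∀ l, v (f l) ≠ 0) ∧
      (Matrix.of fun l i => u (f l) i).det ≠ 0 := by
  classical
  let u' : {b : ι // v b ≠ 0} → Fin r → k := fun b => u b.1
  have hspan : Submodule.span k (Set.range u') = ⊤ := by
    rw [eq_top_iff]
    intro w _
    have hw : c • w = ∑ b, (∑ j, v b j * w j) • u b := by
      ext i
      simp only [Pi.smul_apply, smul_eq_mul, Finset.sum_apply]
      calc c * w i = ∑ j, (if i = j then c else 0) * w j := by simp
        _ = ∑ j, (∑ b, u b i * v b j) * w j := by simp only [h]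
        _ = ∑ b, (∑ j, v b j * w j) * u b i := by
            simp only [Finset.sum_mul]
            rw [Finset.sum_comm]
            refine Finset.sum_congr rfl fun b _ => Finset.sum_congr rfl fun j _ => by ring
    have h1 : c • w ∈ Submodule.span k (Set.range u') := by
      rw [hw]
      refine Submodule.sum_mem _ fun b _ => ?_
      by_cases hb : v b = 0
      · simp [hb]
      · exact Submodule.smul_mem _ _ (Submodule.subset_span ⟨⟨b, hb⟩, rfl⟩)
    have h2 := Submodule.smul_mem _ c⁻¹ h1
    rwa [smul_smul, inv_mul_cancel₀ hc, one_smul] at h2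
  obtain ⟨κ, a, ha, hsp, hli⟩ := exists_linearIndependent' k u'
  rw [hspan] at hsp
  haveI : Finite κ := Finite.of_injective a ha
  letI := Fintype.ofFinite κ
  let bas : Module.Basis κ k (Fin r → k) := Module.Basis.mk hli (by rw [hsp])
  have hcard : Fintype.card κ = r := by
    rw [← Module.finrank_eq_card_basis bas]; simp
  let e : Fin r ≃ κ := (Fintype.equivFinOfCardEq hcard).symm
  refine ⟨fun l => (a (e l)).1, ?_, fun l => (a (e l)).2, ?_⟩
  · intro l l' hll
    exact e.injective (ha (Subtype.ext hll))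
  · have hli' : LinearIndependent k (fun l : Fin r => u' (a (e l))) :=
      hli.comp e e.injective
    have h3 : LinearIndependent k (Matrix.of fun l i => u (a (e l)).1 i).row := hli'
    rw [Matrix.linearIndependent_rows_iff_isUnit, Matrix.isUnit_iff_isUnit_det] at h3
    exact h3.ne_zero

section KeyIdentity

universe u
variable {G : Type u} [Group G] [Fintype G] [Fintype (IrrCharacter G)]

open Classical in
theorem second_orth' (a y : G) :
    ∑ χ : IrrCharacter G, (χ : G → ℂ) a * conj ((χ : G → ℂ) y) =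
      if IsConj a y then (Nat.card (Subgroup.centralizer ({a} : Set G)) : ℂ) else 0 := by
  classical
  have h := Cfsg.Agent.Lib.Helper83.second_orthogonality y a
  have h2 : ∑ χ : IrrCharacter G, (χ : G → ℂ) a * conj ((χ : G → ℂ) y) =
      conj (∑ χ : IrrCharacter G, (χ : G → ℂ) y * conj ((χ : G → ℂ) a)) := by
    rw [map_sum]
    refine Finset.sum_congr rfl fun χ _ => ?_
    rw [map_mul, Complex.conj_conj, mul_comm]
  rw [h2, h]
  by_cases hc : IsConj a y
  · rw [if_pos hc, if_pos hc.symm, Complex.conj_natCast]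
  · rw [if_neg hc, if_neg (fun h' => hc h'.symm), map_zero]

open Classical in
/-- The key identity: the class-multiplication count of pairs of conjugates whose quotient lies
in a `p`-subgroup `S`, under the separation hypothesis. -/
theorem key_identity (p : ℕ) [Fact p.Prime] (S : Subgroup G) [Fintype S] (hS : IsPGroup p S) (a b : G)
    (hsep : ∀ g h : G, IsConj a g → IsConj b h → ∀ k : ℕ, 0 < k → orderOf (g * h⁻¹) ≠ p ^ k) :
    ∑ χ : IrrCharacter G, (∑ s : S, conj ((χ : G → ℂ) s)) * (χ : G → ℂ) a *
        conj ((χ : G → ℂ) b) / (χ : G → ℂ) 1 =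
      if IsConj a b then (Nat.card (Subgroup.centralizer ({a} : Set G)) : ℂ) else 0 := by
  classical
  have hG0 : (Fintype.card G : ℂ) ≠ 0 := by
    exact_mod_cast Fintype.card_ne_zero
  have hterm : ∀ χ : IrrCharacter G, (∑ s : S, conj ((χ : G → ℂ) s)) * (χ : G → ℂ) a *
        conj ((χ : G → ℂ) b) / (χ : G → ℂ) 1 =
      (Fintype.card G : ℂ)⁻¹ * ∑ s : S, ∑ g : G, (χ : G → ℂ) a *
        conj ((χ : G → ℂ) ((s : G) * (g * b * g⁻¹))) := by
    intro χ
    have h1 : ∀ s : S, ∑ g : G, (χ : G → ℂ) a * conj ((χ : G → ℂ) ((s : G) * (g * b * g⁻¹))) =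
        (Fintype.card G : ℂ) * (conj ((χ : G → ℂ) s) * (χ : G → ℂ) a *
        conj ((χ : G → ℂ) b) / (χ : G → ℂ) 1) := by
      intro s
      rw [← Finset.mul_sum, ← map_sum, IsIrrCharacter.sum_mul_conj χ.2 (s : G) b]
      rw [map_div₀, map_mul, map_mul, Complex.conj_natCast,
        Cfsg.Agent.Lib.Helper83.char_one_conj (IsIrrCharacter.isCharacter χ.2)]
      ring
    simp only [h1]
    rw [← Finset.mul_sum, ← mul_assoc, inv_mul_cancel₀ hG0, one_mul, Finset.sum_mul,
      Finset.sum_mul, Finset.sum_div]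
  simp only [hterm]
  rw [← Finset.mul_sum]
  have hswap : ∑ χ : IrrCharacter G, ∑ s : S, ∑ g : G, (χ : G → ℂ) a *
        conj ((χ : G → ℂ) ((s : G) * (g * b * g⁻¹))) =
      ∑ s : S, ∑ g : G, ∑ χ : IrrCharacter G, (χ : G → ℂ) a *
        conj ((χ : G → ℂ) ((s : G) * (g * b * g⁻¹))) := by
    rw [Finset.sum_comm]
    refine Finset.sum_congr rfl fun s _ => ?_
    rw [Finset.sum_comm]
  rw [hswap]
  simp only [second_orth']
  have hiff : ∀ (s : S) (g : G), IsConj a ((s : G) * (g * b * g⁻¹)) ↔ (s = 1 ∧ IsConj a b) := by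
    intro s g
    have hgb : IsConj b (g * b * g⁻¹) := isConj_iff.2 ⟨g, rfl⟩
    constructor
    · intro hc
      obtain ⟨k, hk⟩ := (IsPGroup.iff_orderOf.1 hS) s
      have hs1 : s = 1 := by
        by_contra hne
        have hk0 : 0 < k := by
          rcases Nat.eq_zero_or_pos k with h0 | h0
          · exfalso
            rw [h0, pow_zero, orderOf_eq_one_iff] at hk
            exact hne hk
          · exact h0
        refine hsep _ _ hc hgb k hk0 ?_
        rw [mul_inv_cancel_right, ← hk, Subgroup.orderOf_coe]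
      refine ⟨hs1, ?_⟩
      rw [hs1, Subgroup.coe_one, one_mul] at hc
      exact hc.trans hgb.symm
    · rintro ⟨hs1, hc⟩
      rw [hs1, Subgroup.coe_one, one_mul]
      exact hc.trans hgb
  simp only [hiff]
  rw [Finset.sum_eq_single (1 : S)]
  · by_cases hc : IsConj a b
    · simp only [hc, and_self, if_true, Finset.sum_const, Finset.card_univ, nsmul_eq_mul]
      rw [← mul_assoc, inv_mul_cancel₀ hG0, one_mul]
    · simp [hc]
  · intro s _ hs
    simp [hs]
  · intro h; exact absurd (Finset.mem_univ _) h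

end KeyIdentity

section Defect

variable {G : Type*} [Group G] [Finite G] {p : ℕ} [Fact p.Prime] {M : Ideal AlgInt}

/-- If `χ y` is not in the local ideal, the `p`-part of the degree of `χ` is at most the `p`-part
of the class size of `y`. -/
theorem factorization_charDegree_le (hM : IsPModular p M) (χ : IrrCharacter G) (y : G)
    (h : ¬ MemLocalIdeal M ((χ : G → ℂ) y)) :
    (charDegree (χ : G → ℂ)).factorization p ≤
      (Subgroup.centralizer ({y} : Set G)).index.factorization p := by
  have hprime : M.IsPrime := hM.2.1.isPrime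
  by_contra hlt
  rw [not_le] at hlt
  apply h
  set n := charDegree (χ : G → ℂ) with hn
  set idx := (Subgroup.centralizer ({y} : Set G)).index with hidx
  have hn0 : n ≠ 0 := (IsIrrCharacter.charDegree_pos χ.2).ne'
  have hidx0 : idx ≠ 0 := Subgroup.index_ne_zero_of_finite
  have hpn : p ∣ n := by
    by_contra hnd
    rw [Nat.factorization_eq_zero_of_not_dvd hnd] at hlt
    exact Nat.not_lt_zero _ hlt
  obtain ⟨n', hn'⟩ := hpn
  have hn'0 : n' ≠ 0 := by
    rintro rfl
    rw [mul_zero] at hn'
    exact hn0 hn'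
  have hp0 : p ≠ 0 := (Fact.out : p.Prime).ne_zero
  have hfac : n.factorization p = n'.factorization p + 1 := by
    rw [hn', Nat.factorization_mul hp0 hn'0]
    simp [Nat.Prime.factorization_self (Fact.out : p.Prime)]
    ring
  have hle : idx.factorization p ≤ n'.factorization p := by omega
  have hR := Cfsg.Agent.Lib.Helper22.memLocalRing_div_of_factorization_le hM n' idx hidx0 hle
  have hχ1 : ((χ : G → ℂ) 1) = (n : ℂ) :=
    (IsCharacter.charDegree_cast (IsIrrCharacter.isCharacter χ.2)).symm
  have hχ10 : (χ : G → ℂ) 1 ≠ 0 := IsIrrCharacter.apply_one_ne_zero χ.2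
  have hidxC : (idx : ℂ) ≠ 0 := by exact_mod_cast hidx0
  have hval : (χ : G → ℂ) y = centralChar (χ : G → ℂ) y * ((p : ℂ) * ((n' : ℂ) / (idx : ℂ))) := by
    unfold centralChar
    rw [← hidx, hχ1, hn']
    have hpC : (p : ℂ) ≠ 0 := by exact_mod_cast hp0
    have hn'C : (n' : ℂ) ≠ 0 := by exact_mod_cast hn'0
    push_cast
    field_simp
  rw [hval]
  refine memLocalIdeal_mul_left hprime
    (memLocalRing_of_isIntegral hprime (IsIrrCharacter.isIntegral_centralChar χ.2 y)) ?_
  exact memLocalIdeal_mul_right hprime ((memLocalIdeal_natCast_iff hM p).2 dvd_rfl) hR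

theorem centralizer_inv_eq (y : G) :
    Subgroup.centralizer ({y⁻¹} : Set G) = Subgroup.centralizer ({y} : Set G) := by
  ext z
  simp only [Subgroup.mem_centralizer_iff, Set.mem_singleton_iff, forall_eq]
  constructor
  · intro h
    calc y * z = y * (z * y⁻¹) * y := by group
      _ = y * (y⁻¹ * z) * y := by rw [h]
      _ = z * y := by group
  · intro h
    calc y⁻¹ * z = y⁻¹ * (z * y) * y⁻¹ := by group
      _ = y⁻¹ * (y * z) * y⁻¹ := by rw [h]
      _ = z * y⁻¹ := by group

theorem card_sylow_map {H : Subgroup G} (P : Sylow p H) :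
    Nat.card ((P : Subgroup H).map H.subtype) = p ^ (Nat.card H).factorization p := by
  rw [← P.card_eq_multiplicity]
  exact Nat.card_congr
    ((P : Subgroup H).equivMapOfInjective H.subtype H.subtype_injective).symm.toEquiv

/-- A block on which some central character is nonzero at `xi` and some character value is nonzero
at `xj⁻¹`, where `D` is a Sylow subgroup of both centralizers, has defect group `D`. -/
theorem isDefectGroup_of (hM : IsPModular p M) (D : Subgroup G) (χ₀ χ₁ : IrrCharacter G)
    (hχ₁ : χ₁ ∈ blockOf M (χ₀ : G → ℂ)) (xi xj : G)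
    (Si : Sylow p (Subgroup.centralizer ({xi} : Set G)))
    (hSi : (Si : Subgroup (Subgroup.centralizer ({xi} : Set G))).map
      (Subgroup.centralizer ({xi} : Set G)).subtype = D)
    (Sj : Sylow p (Subgroup.centralizer ({xj} : Set G)))
    (hSj : (Sj : Subgroup (Subgroup.centralizer ({xj} : Set G))).map
      (Subgroup.centralizer ({xj} : Set G)).subtype = D)
    (h0 : ¬ MemLocalIdeal M (centralChar (χ₀ : G → ℂ) xi))
    (h1 : ¬ MemLocalIdeal M ((χ₁ : G → ℂ) xj⁻¹)) :
    IsDefectGroup p M (blockOf M (χ₀ : G → ℂ)) D := by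
  classical
  letI := Fintype.ofFinite G
  letI := Fintype.ofFinite (IrrCharacter G)
  have hprime : M.IsPrime := hM.2.1.isPrime
  set B := blockOf M (χ₀ : G → ℂ) with hBdef
  have hB : IsPBlock M B := isPBlock_blockOf χ₀
  obtain ⟨g₀, hg₀⟩ := Cfsg.Agent.Lib.Helper21.exists_isDefectClass hprime χ₀
  obtain ⟨P₀⟩ : Nonempty (Sylow p (Subgroup.centralizer ({g₀} : Set G))) := inferInstance
  set D₀ : Subgroup G := (P₀ : Subgroup (Subgroup.centralizer ({g₀} : Set G))).map
    (Subgroup.centralizer ({g₀} : Set G)).subtype with hD₀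
  obtain ⟨t, Q, hQ⟩ := (Cfsg.Agent.S0911.result p M hM B hB g₀ hg₀ P₀ xi).2
    ⟨χ₀, mem_blockOf_self hprime χ₀, h0⟩
  have hQ'p : IsPGroup p (D₀.map (MulAut.conj t).toMonoidHom) := (P₀.isPGroup'.map _).map _
  have hQ'le : D₀.map (MulAut.conj t).toMonoidHom ≤ Subgroup.centralizer ({xi} : Set G) := by
    refine hQ.trans ?_
    rintro _ ⟨q, _, rfl⟩
    exact q.2
  obtain ⟨c, _, hc⟩ := Cfsg.Agent.Lib.Helper21.exists_conj_mem_of_sylow_subgroup Si hSi hQ'p hQ'le
  have hle : D₀.map (MulAut.conj (c⁻¹ * t)).toMonoidHom ≤ D := by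
    rintro _ ⟨q, hq, rfl⟩
    have := hc (t * q * t⁻¹) ⟨q, hq, by simp⟩
    simp only [MulEquiv.coe_toMonoidHom, MulAut.conj_apply]
    convert this using 1
    group
  -- cardinalities
  have hcardD : Nat.card D = p ^ (Nat.card (Subgroup.centralizer ({xj} : Set G))).factorization p := by
    rw [← hSj]; exact card_sylow_map Sj
  have hcardD₀ : Nat.card D₀ = p ^ (Nat.card (Subgroup.centralizer ({g₀} : Set G))).factorization p :=
    card_sylow_map P₀
  have hcardconj : Nat.card (D₀.map (MulAut.conj (c⁻¹ * t)).toMonoidHom) = Nat.card D₀ :=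
    Nat.card_congr (D₀.equivMapOfInjective _ (MulAut.conj (c⁻¹ * t)).injective).symm.toEquiv
  have hdeg := factorization_charDegree_le hM χ₁ xj⁻¹ h1
  rw [centralizer_inv_eq] at hdeg
  have hsInf := Cfsg.Agent.Lib.Helper22.sInf_factorization_eq_of_isDefectClass hM hB hg₀
  have hsle : sInf ((fun χ : IrrCharacter G => (charDegree (χ : G → ℂ)).factorization p) '' B) ≤
      (charDegree (χ₁ : G → ℂ)).factorization p := Nat.sInf_le ⟨χ₁, hχ₁, rfl⟩
  have ha1 := Cfsg.Agent.Lib.Helper22.factorization_card_eq_add (p := p) g₀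
  have ha2 := Cfsg.Agent.Lib.Helper22.factorization_card_eq_add (p := p) xj
  have hexp : (Nat.card (Subgroup.centralizer ({xj} : Set G))).factorization p ≤
      (Nat.card (Subgroup.centralizer ({g₀} : Set G))).factorization p := by omega
  have heq : D₀.map (MulAut.conj (c⁻¹ * t)).toMonoidHom = D := by
    apply Subgroup.eq_of_le_of_card_ge hle
    rw [hcardconj, hcardD, hcardD₀]
    exact Nat.pow_le_pow_right (Fact.out : p.Prime).pos hexp
  have hD₀def : IsDefectGroup p M B D₀ := ⟨g₀, hg₀, P₀, rfl⟩
  have := isDefectGroup_conj hD₀def (c⁻¹ * t)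
  rwa [heq] at this

end Defect

/-- Let p be a prime, M a maximal ideal of the algebraic integers containing p, and D a subgroup of the finite group G. Let x₁, …, x_r be pairwise non-conjugate elements of G such that D is a Sylow p-subgroup of the centralizer of each xᵢ, and such that for any conjugates g of some xᵢ and h of some xⱼ the element g h⁻¹ is never a non-identity p-element. Then there are r distinct p-blocks B₁, …, B_r of G, each having D as a defect group, such that for every choice of characters χᵢ ∈ Bᵢ of height zero the determinant of the r × r matrix (χᵢ(xⱼ)) does not lie in the local ideal at M. -/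
theorem result {G : Type*} [Group G] [Finite G] (p : ℕ) [Fact p.Prime] (M : Ideal Cfsg.AlgInt) (hM : Cfsg.IsPModular p M) (D : Subgroup G) {r : ℕ} (x : Fin r → G) (hx : ∀ i j : Fin r, IsConj (x i) (x j) → i = j) (hD : ∀ i : Fin r, ∃ S : Sylow p ↥(Subgroup.centralizer ({x i} : Set G)), (S : Subgroup ↥(Subgroup.centralizer ({x i} : Set G))).map (Subgroup.centralizer ({x i} : Set G)).subtype = D) (hsep : ∀ i j : Fin r, ∀ g h : G, IsConj (x i) g → IsConj (x j) h → ∀ k : ℕ, 0 < k → orderOf (g * h⁻¹) ≠ p ^ k) : ∃ B : Fin r → Set (Cfsg.IrrCharacter G), Function.Injective B ∧ (∀ i : Fin r, Cfsg.IsPBlock M (B i) ∧ Cfsg.IsDefectGroup p M (B i) D) ∧ ∀ χ : Fin r → Cfsg.IrrCharacter G, (∀ i : Fin r, χ i ∈ B i ∧ Cfsg.blockHeight p (B i) (χ i : G → ℂ) = 0) → ¬ Cfsg.MemLocalIdeal M (Matrix.det (Matrix.of fun i j : Fin r => (χ i : G → ℂ) (x j))) := by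
  classical
  letI := Fintype.ofFinite G
  letI := Fintype.ofFinite (IrrCharacter G)
  have hprime : M.IsPrime := hM.2.1.isPrime
  obtain ⟨S⟩ : Nonempty (Sylow p G) := inferInstance
  -- multiplicities of the trivial character of `S`
  have hm : ∀ χ : IrrCharacter G, ∃ m : ℕ, ∑ u : (S : Subgroup G), (χ : G → ℂ) u =
      (Fintype.card (S : Subgroup G) : ℂ) * m :=
    fun χ => IsCharacter.sum_subgroup (IsIrrCharacter.isCharacter χ.2) (S : Subgroup G)
  choose m hm using hm
  have hchar : ∀ χ : IrrCharacter G, IsCharacter G (χ : G → ℂ) :=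
    fun χ => IsIrrCharacter.isCharacter χ.2
  -- the key identity in `ℂ`
  have hkey : ∀ i j : Fin r, ∑ χ : IrrCharacter G, centralChar (χ : G → ℂ) (x i) *
      ((m χ : ℂ) * conj ((χ : G → ℂ) (x j))) =
      if i = j then (((S : Subgroup G).index : ℕ) : ℂ) else 0 := by
    intro i j
    have h1 := key_identity p (S : Subgroup G) S.isPGroup' (x i) (x j) (hsep i j)
    have hScard : (Fintype.card (S : Subgroup G) : ℂ) ≠ 0 := by
      exact_mod_cast Fintype.card_ne_zero
    have hterm : ∀ χ : IrrCharacter G, centralChar (χ : G → ℂ) (x i) *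
        ((m χ : ℂ) * conj ((χ : G → ℂ) (x j))) =
        (((Subgroup.centralizer ({x i} : Set G)).index : ℂ) / (Fintype.card (S : Subgroup G) : ℂ)) *
        ((∑ s : (S : Subgroup G), conj ((χ : G → ℂ) s)) * (χ : G → ℂ) (x i) *
          conj ((χ : G → ℂ) (x j)) / (χ : G → ℂ) 1) := by
      intro χ
      have h2 : ∑ s : (S : Subgroup G), conj ((χ : G → ℂ) s) =
          (Fintype.card (S : Subgroup G) : ℂ) * m χ := by
        rw [← map_sum, hm χ, map_mul, Complex.conj_natCast, Complex.conj_natCast]
      rw [h2]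
      unfold centralChar
      field_simp
    simp only [hterm]
    rw [← Finset.mul_sum, h1]
    by_cases hij : i = j
    · subst hij
      rw [if_pos (IsConj.refl _), if_pos rfl]
      have h3 := Subgroup.card_mul_index (Subgroup.centralizer ({x i} : Set G))
      have h4 := Subgroup.card_mul_index (S : Subgroup G)
      have h5 : (Nat.card (Subgroup.centralizer ({x i} : Set G)) : ℂ) *
          ((Subgroup.centralizer ({x i} : Set G)).index : ℂ) =
          (Fintype.card (S : Subgroup G) : ℂ) * ((S : Subgroup G).index : ℂ) := by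
        rw [← Nat.card_eq_fintype_card]
        exact_mod_cast h3.trans h4.symm
      field_simp
      linear_combination h5
    · rw [if_neg (fun h => hij (hx i j h)), if_neg hij, mul_zero]
  -- elements of the local ring
  set R := localSubring M hprime with hR
  set res := residueMap M hprime with hres
  have hAmem : ∀ (χ : IrrCharacter G) (g : G), MemLocalRing M (centralChar (χ : G → ℂ) g) :=
    fun χ g => memLocalRing_of_isIntegral hprime (IsIrrCharacter.isIntegral_centralChar χ.2 g)
  have hbmem : ∀ (χ : IrrCharacter G) (j : Fin r),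
      MemLocalRing M ((m χ : ℂ) * conj ((χ : G → ℂ) (x j))) := by
    intro χ j
    refine memLocalRing_mul hprime (memLocalRing_natCast hprime _) ?_
    rw [← Cfsg.Agent.Lib.Helper83.char_inv (hchar χ)]
    exact memLocalRing_of_isIntegral hprime (IsCharacter.isIntegral (hchar χ) _)
  let A : IrrCharacter G → Fin r → R := fun χ i => ⟨centralChar (χ : G → ℂ) (x i), hAmem χ (x i)⟩
  let b : IrrCharacter G → Fin r → R := fun χ j =>
    ⟨(m χ : ℂ) * conj ((χ : G → ℂ) (x j)), hbmem χ j⟩
  have hkeyR : ∀ i j : Fin r, ∑ χ : IrrCharacter G, A χ i * b χ j =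
      if i = j then (((S : Subgroup G).index : ℕ) : R) else 0 := by
    intro i j
    apply Subtype.ext
    rw [AddSubmonoidClass.coe_finsetSum]
    have := hkey i j
    split_ifs with hij
    · rw [if_pos hij] at this
      simpa [A, b] using this
    · rw [if_neg hij] at this
      simpa [A, b] using this
  -- blocks
  let blk : IrrCharacter G → Set (IrrCharacter G) := fun χ => blockOf M (χ : G → ℂ)
  have hresA : ∀ (χ ψ : IrrCharacter G), blk χ = blk ψ → ∀ i, res (A χ i) = res (A ψ i) := by
    intro χ ψ hb i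
    have h1 : ψ ∈ blk χ := by rw [hb]; exact mem_blockOf_self hprime ψ
    have h2 : MemLocalIdeal M (((A χ i - A ψ i : R) : ℂ)) := h1 (x i)
    have h3 := (residueMap_eq_zero_iff M hprime (A χ i - A ψ i)).2 h2
    rw [map_sub, sub_eq_zero] at h3
    exact h3
  let v : Set (IrrCharacter G) → Fin r → LocalResidue M hprime := fun Bs j =>
    ∑ χ ∈ Finset.univ.filter (fun χ => blk χ = Bs), res (b χ j)
  let u : Set (IrrCharacter G) → Fin r → LocalResidue M hprime := fun Bs i =>
    if h : ∃ χ, blk χ = Bs then res (A h.choose i) else 0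
  have hu : ∀ (χ : IrrCharacter G) (i : Fin r), u (blk χ) i = res (A χ i) := by
    intro χ i
    have h : ∃ ψ, blk ψ = blk χ := ⟨χ, rfl⟩
    show (if h : ∃ ψ, blk ψ = blk χ then res (A h.choose i) else 0) = _
    rw [dif_pos h]
    exact hresA _ _ h.choose_spec i
  have hsum : ∀ i j : Fin r, ∑ Bs : Set (IrrCharacter G), u Bs i * v Bs j =
      if i = j then res (((S : Subgroup G).index : ℕ) : R) else 0 := by
    intro i j
    have h1 : ∀ Bs : Set (IrrCharacter G), u Bs i * v Bs j =
        ∑ χ ∈ Finset.univ.filter (fun χ => blk χ = Bs), res (A χ i * b χ j) := by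
      intro Bs
      show u Bs i * (∑ χ ∈ Finset.univ.filter (fun χ => blk χ = Bs), res (b χ j)) = _
      rw [Finset.mul_sum]
      refine Finset.sum_congr rfl fun χ hχ => ?_
      rw [Finset.mem_filter] at hχ
      rw [← hχ.2, hu, map_mul]
    simp only [h1]
    rw [Finset.sum_fiberwise, ← map_sum, hkeyR]
    split_ifs <;> simp
  have hc : res (((S : Subgroup G).index : ℕ) : R) ≠ 0 := by
    intro h
    rw [residueMap_eq_zero_iff] at h
    have h2 : MemLocalIdeal M (((S : Subgroup G).index : ℕ) : ℂ) := by simpa using h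
    exact S.not_dvd_index ((memLocalIdeal_natCast_iff hM _).1 h2)
  obtain ⟨f, hfinj, hfv, hfdet⟩ := exists_independent u v _ hc hsum
  -- witnesses for each selected block
  have hwit : ∀ l : Fin r, ∃ (χ₁ : IrrCharacter G) (j : Fin r), blk χ₁ = f l ∧ res (b χ₁ j) ≠ 0 := by
    intro l
    obtain ⟨j, hj⟩ := Function.ne_iff.1 (hfv l)
    obtain ⟨χ₁, hχ₁, hne⟩ := Finset.exists_ne_zero_of_sum_ne_zero hj
    rw [Finset.mem_filter] at hχ₁
    exact ⟨χ₁, j, hχ₁.2, hne⟩
  choose χ₁ j₁ hχ₁blk hχ₁ne using hwit
  have hrow : ∀ l : Fin r, ∃ i : Fin r, u (f l) i ≠ 0 := by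
    intro l
    by_contra hcon
    push Not at hcon
    exact hfdet (Matrix.det_eq_zero_of_row_eq_zero l (fun i => hcon i))
  have hdef : ∀ l : Fin r, IsDefectGroup p M (f l) D := by
    intro l
    obtain ⟨i, hi⟩ := hrow l
    rw [← hχ₁blk l, hu] at hi
    obtain ⟨Si, hSi⟩ := hD i
    obtain ⟨Sj, hSj⟩ := hD (j₁ l)
    have h0 : ¬ MemLocalIdeal M (centralChar (χ₁ l : G → ℂ) (x i)) := by
      intro h
      exact hi ((residueMap_eq_zero_iff M hprime (A (χ₁ l) i)).2 h)
    have h1 : ¬ MemLocalIdeal M ((χ₁ l : G → ℂ) (x (j₁ l))⁻¹) := by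
      intro h
      apply hχ₁ne l
      rw [residueMap_eq_zero_iff]
      show MemLocalIdeal M ((m (χ₁ l) : ℂ) * conj ((χ₁ l : G → ℂ) (x (j₁ l))))
      rw [← Cfsg.Agent.Lib.Helper83.char_inv (hchar (χ₁ l))]
      exact memLocalIdeal_mul_left hprime (memLocalRing_natCast hprime _) h
    have := isDefectGroup_of hM D (χ₁ l) (χ₁ l) (mem_blockOf_self hprime _) (x i) (x (j₁ l))
      Si hSi Sj hSj h0 h1
    rw [← hχ₁blk l]
    exact this
  refine ⟨f, hfinj, fun l => ⟨⟨χ₁ l, (hχ₁blk l).symm⟩, hdef l⟩, ?_⟩
  intro χ hχ hdet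
  -- the matrix of central characters
  let AR : Matrix (Fin r) (Fin r) R := Matrix.of fun l j => A (χ l) j
  have hmap : res.mapMatrix AR = Matrix.of fun l i => u (f l) i := by
    ext l i
    rw [RingHom.mapMatrix_apply, Matrix.map_apply]
    show res (A (χ l) i) = u (f l) i
    have h1 : blk (χ l) = f l := by
      have h2 : χ l ∈ blk (χ₁ l) := by
        show χ l ∈ blockOf M (χ₁ l : G → ℂ)
        have := (hχ l).1
        rw [← hχ₁blk l] at this
        exact this
      rw [← hχ₁blk l]
      exact blockOf_eq_of_mem hprime h2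
    rw [← h1, hu]
  have hdetR : res AR.det ≠ 0 := by
    rw [RingHom.map_det, hmap]
    exact hfdet
  apply hdetR
  rw [residueMap_eq_zero_iff]
  -- the determinant in `ℂ`
  have hcoe : ((AR.det : R) : ℂ) =
      (Matrix.of fun l j : Fin r => centralChar (χ l : G → ℂ) (x j)).det := by
    have := RingHom.map_det R.subtype AR
    rw [Subring.coe_subtype] at this
    rw [this]
    congr 1
  rw [hcoe]
  have hfactor : (Matrix.of fun l j : Fin r => centralChar (χ l : G → ℂ) (x j)).det =
      (∏ l : Fin r, ((Subgroup.centralizer ({x l} : Set G)).index : ℂ) / (χ l : G → ℂ) 1) *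
      (Matrix.of fun i j : Fin r => (χ i : G → ℂ) (x j)).det := by
    have h1 : (Matrix.of fun l j : Fin r => centralChar (χ l : G → ℂ) (x j)) =
        Matrix.of fun l j : Fin r => ((χ l : G → ℂ) 1)⁻¹ *
          (Matrix.of fun l j : Fin r => ((Subgroup.centralizer ({x j} : Set G)).index : ℂ) *
            (Matrix.of fun i j : Fin r => (χ i : G → ℂ) (x j)) l j) l j := by
      ext l j
      simp only [Matrix.of_apply, centralChar]
      ring
    rw [h1, Matrix.det_mul_column, Matrix.det_mul_row, ← mul_assoc, ← Finset.prod_mul_distrib]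
    congr 1
    refine Finset.prod_congr rfl fun l _ => ?_
    rw [div_eq_mul_inv, mul_comm]
  rw [hfactor]
  refine memLocalIdeal_mul_left hprime (memLocalRing_prod hprime _ _ fun l _ => ?_) hdet
  -- each factor is a local integer
  obtain ⟨g, hg, P, hDP⟩ := hdef l
  have hB : IsPBlock M (f l) := ⟨χ₁ l, (hχ₁blk l).symm⟩
  have h1 := Cfsg.Agent.Lib.Helper22.factorization_charDegree_of_height_zero hM hB hg
    (hχ l).1 (hχ l).2
  obtain ⟨Sl, hSl⟩ := hD l
  have hc1 : Nat.card D = p ^ (Nat.card (Subgroup.centralizer ({x l} : Set G))).factorization p := by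
    rw [← hSl]; exact card_sylow_map Sl
  have hc2 : Nat.card D = p ^ (Nat.card (Subgroup.centralizer ({g} : Set G))).factorization p := by
    rw [hDP]; exact card_sylow_map P
  have hexp : (Nat.card (Subgroup.centralizer ({x l} : Set G))).factorization p =
      (Nat.card (Subgroup.centralizer ({g} : Set G))).factorization p :=
    Nat.pow_right_injective (Fact.out : p.Prime).two_le (hc1.symm.trans hc2)
  have ha1 := Cfsg.Agent.Lib.Helper22.factorization_card_eq_add (p := p) g
  have ha2 := Cfsg.Agent.Lib.Helper22.factorization_card_eq_add (p := p) (x l)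
  have hle : (charDegree (χ l : G → ℂ)).factorization p ≤
      (Subgroup.centralizer ({x l} : Set G)).index.factorization p := by omega
  have := Cfsg.Agent.Lib.Helper22.memLocalRing_div_of_factorization_le hM
    (Subgroup.centralizer ({x l} : Set G)).index (charDegree (χ l : G → ℂ))
    (IsIrrCharacter.charDegree_pos (χ l).2).ne' hle
  rwa [IsCharacter.charDegree_cast (hchar (χ l))] at this

end Cfsg.Agent.S4741
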