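import Cfsg.Statements.S0953
import Cfsg.Agent.S4741
import Cfsg.Agent.S0920
import Cfsg.Agent.S0962

set_option autoImplicit false
open Cfsg

namespace Cfsg.Agent.S0953

open Cfsg.Agent.Lib.Helper82

section NormalSylow

variable {H : Type*} [Group H] [Finite H] {p : ℕ} [Fact p.Prime] {M : Ideal AlgInt}

/-- An element whose centralizer has full `p`-part centralizes a normal Sylow subgroup. -/
theorem mem_centralizer_of_full_defect (Q : Sylow p H) (hQ : (Q : Subgroup H).Normal) (g : H)
    (hg : (Nat.card H).factorization p ≤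
      (Nat.card (Subgroup.centralizer ({g} : Set H))).factorization p) :
    g ∈ Subgroup.centralizer ((Q : Subgroup H) : Set H) := by
  obtain ⟨S'⟩ : Nonempty (Sylow p (Subgroup.centralizer ({g} : Set H))) := inferInstance
  set R : Subgroup H := (S' : Subgroup (Subgroup.centralizer ({g} : Set H))).map
    (Subgroup.centralizer ({g} : Set H)).subtype with hR
  have hRp : IsPGroup p R := S'.isPGroup'.map _
  obtain ⟨Q', hQ'⟩ := hRp.exists_le_sylow
  haveI := Sylow.unique_of_normal Q hQ
  have hQQ : Q' = Q := Subsingleton.elim _ _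
  rw [hQQ] at hQ'
  have hcardR : Nat.card R = p ^ (Nat.card (Subgroup.centralizer ({g} : Set H))).factorization p :=
    Cfsg.Agent.S4741.card_sylow_map S'
  have hcardQ : Nat.card (Q : Subgroup H) = p ^ (Nat.card H).factorization p :=
    Q.card_eq_multiplicity
  have hRQ : R = (Q : Subgroup H) := by
    apply Subgroup.eq_of_le_of_card_ge hQ'
    rw [hcardR, hcardQ]
    exact Nat.pow_le_pow_right (Fact.out : p.Prime).pos hg
  rw [Subgroup.mem_centralizer_iff]
  intro q hq
  have hqR : q ∈ R := by rw [hRQ]; exact hq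
  obtain ⟨c, _, rfl⟩ := hqR
  have := (Subgroup.mem_centralizer_iff.1 c.2) g (Set.mem_singleton g)
  exact this.symm

theorem mem_centralizer_conj (Q : Subgroup H) [hQ : Q.Normal] (g c : H)
    (hg : g ∈ Subgroup.centralizer (Q : Set H)) :
    c * g * c⁻¹ ∈ Subgroup.centralizer (Q : Set H) := by
  rw [Subgroup.mem_centralizer_iff] at hg ⊢
  intro q hq
  have h1 : c⁻¹ * q * c ∈ Q := by
    have := hQ.conj_mem q hq c⁻¹
    simpa using this
  have h2 := hg _ h1
  calc q * (c * g * c⁻¹) = c * ((c⁻¹ * q * c) * g) * c⁻¹ := by group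
    _ = c * (g * (c⁻¹ * q * c)) * c⁻¹ := by rw [h2]
    _ = c * g * c⁻¹ * q := by group

theorem card_blocks_normal_sylow (hM : IsPModular p M) (Q : Sylow p H)
    (hQ : (Q : Subgroup H).Normal) :
    Nat.card {b : Set (IrrCharacter H) // IsPBlock M b ∧ IsDefectGroup p M b (Q : Subgroup H)} =
    Nat.card {C : ConjClasses H // ∀ n : H, ConjClasses.mk n = C → ¬ p ∣ orderOf n ∧
      n ∈ Subgroup.centralizer ((Q : Subgroup H) : Set H)} := by
  classical
  haveI : Finite (IrrCharacter H) := Cfsg.Agent.Lib.Helper83.irr_finite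
  apply le_antisymm
  · -- upper bound through S0962
    have h962 := Cfsg.Agent.S0962.result (G := H) p M hM ((Nat.card H).factorization p)
    refine le_trans ?_ (le_trans h962 ?_)
    · refine Nat.card_le_card_of_injective
        (fun b => ⟨b.1, b.2.1, ?_⟩) ?_
      · have h1 := Cfsg.Agent.Lib.Helper22.IsDefectGroup.card_eq hM b.2.1 b.2.2
        rw [Q.card_eq_multiplicity] at h1
        exact (Nat.pow_right_injective (Fact.out : p.Prime).two_le h1).le
      · intro b b' hbb
        exact Subtype.ext (by simpa using congrArg Subtype.val hbb)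
    · refine Nat.card_le_card_of_injective
        (fun C => ⟨C.1, ?_⟩) ?_
      · obtain ⟨g, hgC, hreg, hdef⟩ := C.2
        intro n hn
        rw [← hgC, ConjClasses.mk_eq_mk_iff_isConj, isConj_comm, isConj_iff] at hn
        obtain ⟨c, rfl⟩ := hn
        refine ⟨?_, ?_⟩
        · have : orderOf (c * g * c⁻¹) = orderOf g := by
            have := MulEquiv.orderOf_eq (MulAut.conj c) g
            rwa [MulAut.conj_apply] at this
          rw [this]
          exact hreg
        · haveI := hQ
          exact mem_centralizer_conj (Q : Subgroup H) g c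
            (mem_centralizer_of_full_defect Q hQ g hdef)
      · intro C C' hCC
        exact Subtype.ext (by simpa using congrArg Subtype.val hCC)
  · -- lower bound through S4741
    set U := {C : ConjClasses H // ∀ n : H, ConjClasses.mk n = C → ¬ p ∣ orderOf n ∧
      n ∈ Subgroup.centralizer ((Q : Subgroup H) : Set H)} with hU
    set r := Nat.card U with hr
    let e : Fin r ≃ U := (Finite.equivFin U).symm
    let x : Fin r → H := fun i => Quotient.out (e i).1
    have hxmk : ∀ i, ConjClasses.mk (x i) = (e i).1 := fun i => Quotient.out_eq _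
    have hxprop : ∀ i, ¬ p ∣ orderOf (x i) ∧
        x i ∈ Subgroup.centralizer ((Q : Subgroup H) : Set H) := fun i => (e i).2 _ (hxmk i)
    have hx : ∀ i j : Fin r, IsConj (x i) (x j) → i = j := by
      intro i j hij
      rw [← ConjClasses.mk_eq_mk_iff_isConj, hxmk, hxmk] at hij
      exact e.injective (Subtype.ext hij)
    have hD : ∀ i : Fin r, ∃ S : Sylow p ↥(Subgroup.centralizer ({x i} : Set H)),
        (S : Subgroup ↥(Subgroup.centralizer ({x i} : Set H))).map
          (Subgroup.centralizer ({x i} : Set H)).subtype = (Q : Subgroup H) := by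
      intro i
      have hle : (Q : Subgroup H) ≤ Subgroup.centralizer ({x i} : Set H) := by
        intro q hq
        rw [Subgroup.mem_centralizer_iff]
        intro y hy
        rw [Set.mem_singleton_iff] at hy
        subst hy
        exact ((Subgroup.mem_centralizer_iff.1 (hxprop i).2) q hq).symm
      refine ⟨Q.subtype hle, ?_⟩
      rw [Sylow.coe_subtype, Subgroup.subgroupOf_map_subtype, inf_eq_left.2 hle]
    have hsep : ∀ i j : Fin r, ∀ g h : H, IsConj (x i) g → IsConj (x j) h → ∀ k : ℕ, 0 < k →
        orderOf (g * h⁻¹) ≠ p ^ k := by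
      intro i j g h hg hh k hk hord
      haveI := hQ
      -- `u = g h⁻¹` lies in `Q`
      set u := g * h⁻¹ with hu
      have huQ : u ∈ (Q : Subgroup H) := by
        have hup : IsPGroup p (Subgroup.zpowers u) :=
          IsPGroup.of_card (n := k) (by rw [Nat.card_zpowers, hord])
        obtain ⟨Q', hQ'⟩ := hup.exists_le_sylow
        haveI := Sylow.unique_of_normal Q hQ
        have hQQ : Q' = Q := Subsingleton.elim _ _
        rw [hQQ] at hQ'
        exact hQ' (Subgroup.mem_zpowers u)
      obtain ⟨c, rfl⟩ := isConj_iff.1 hh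
      obtain ⟨c', rfl⟩ := isConj_iff.1 hg
      have hhC := mem_centralizer_conj (Q : Subgroup H) (x j) c (hxprop j).2
      have hcomm : Commute u (c * x j * c⁻¹) := (Subgroup.mem_centralizer_iff.1 hhC u huQ)
      have hordh : orderOf (c * x j * c⁻¹) = orderOf (x j) := by
        have := MulEquiv.orderOf_eq (MulAut.conj c) (x j)
        rwa [MulAut.conj_apply] at this
      have hordg : orderOf (c' * x i * c'⁻¹) = orderOf (x i) := by
        have := MulEquiv.orderOf_eq (MulAut.conj c') (x i)
        rwa [MulAut.conj_apply] at this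
      have hcop : (orderOf u).Coprime (orderOf (c * x j * c⁻¹)) := by
        rw [hord, hordh]
        exact Nat.Coprime.pow_left k
          ((Nat.Prime.coprime_iff_not_dvd (Fact.out : p.Prime)).2 (hxprop j).1)
      have hmul := hcomm.orderOf_mul_eq_mul_orderOf_of_coprime hcop
      have hgu : u * (c * x j * c⁻¹) = c' * x i * c'⁻¹ := by
        rw [hu]; group
      rw [hgu, hordg, hord] at hmul
      apply (hxprop i).1
      rw [hmul]
      exact Dvd.dvd.mul_right (dvd_pow_self p hk.ne') _
    obtain ⟨B, hBinj, hB, _⟩ := Cfsg.Agent.S4741.result p M hM (Q : Subgroup H) x hx hD hsep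
    have := Nat.card_le_card_of_injective (fun i : Fin r =>
      (⟨B i, hB i⟩ : {b : Set (IrrCharacter H) // IsPBlock M b ∧
        IsDefectGroup p M b (Q : Subgroup H)})) (fun i j hij => hBinj (congrArg Subtype.val hij))
    rwa [Nat.card_fin] at this

end NormalSylow

section FirstMain

variable {G : Type*} [Group G] [Finite G] {p : ℕ} [Fact p.Prime] {M : Ideal AlgInt}

/-- A block of a subgroup induces at most one block. -/
theorem induced_block_unique (hprime : M.IsPrime) (N : Subgroup G)
    (b : Set (IrrCharacter N)) (B B' : Set (IrrCharacter G))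
    (h : IsInducedBlock M N b B) (h' : IsInducedBlock M N b B') : B = B' := by
  obtain ⟨hb, hB, hind⟩ := h
  obtain ⟨_, hB', hind'⟩ := h'
  obtain ⟨ξ, hξ⟩ := IsPBlock.nonempty hprime hb
  obtain ⟨χ, hχ⟩ := IsPBlock.nonempty hprime hB
  obtain ⟨χ', hχ'⟩ := IsPBlock.nonempty hprime hB'
  have hsame : SameBlock M (χ : G → ℂ) (χ' : G → ℂ) := by
    intro g
    have h1 := hind ξ hξ χ hχ g
    have h2 := hind' ξ hξ χ' hχ' g
    have := memLocalIdeal_sub hprime h2 h1
    rwa [sub_sub_sub_cancel_left] at this
  rw [IsPBlock.eq_blockOf hprime hB hχ, IsPBlock.eq_blockOf hprime hB' hχ']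
  exact blockOf_eq_of_sameBlock hprime hsame

theorem card_blocks_eq_normalizer (hM : IsPModular p M) (D : Subgroup G) (hD : IsPGroup p D) :
    Nat.card {B : Set (IrrCharacter G) // IsPBlock M B ∧ IsDefectGroup p M B D} =
    Nat.card {b : Set (IrrCharacter (Subgroup.normalizer (D : Set G))) // IsPBlock M b ∧
      IsDefectGroup p M b (D.subgroupOf (Subgroup.normalizer (D : Set G)))} := by
  have hprime : M.IsPrime := hM.2.1.isPrime
  obtain ⟨h1, h2⟩ := Cfsg.Agent.S0920.result p M hM D hD
  let Φ : {B : Set (IrrCharacter G) // IsPBlock M B ∧ IsDefectGroup p M B D} →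
      {b : Set (IrrCharacter (Subgroup.normalizer (D : Set G))) // IsPBlock M b ∧
      IsDefectGroup p M b (D.subgroupOf (Subgroup.normalizer (D : Set G)))} :=
    fun B => ⟨(h2 B.1 B.2.1 B.2.2).choose, (h2 B.1 B.2.1 B.2.2).choose_spec.1.1,
      (h2 B.1 B.2.1 B.2.2).choose_spec.1.2.1⟩
  have hΦ : ∀ B, IsInducedBlock M (Subgroup.normalizer (D : Set G)) (Φ B).1 B.1 :=
    fun B => (h2 B.1 B.2.1 B.2.2).choose_spec.1.2.2
  refine Nat.card_congr (Equiv.ofBijective Φ ⟨?_, ?_⟩)
  · intro B B' hBB
    apply Subtype.ext
    have h3 := hΦ B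
    have h4 := hΦ B'
    rw [hBB] at h3
    exact induced_block_unique hprime _ _ _ _ h3 h4
  · intro b
    obtain ⟨B, hB, hBD, hind⟩ := h1 b.1 b.2.1 b.2.2
    refine ⟨⟨B, hB, hBD⟩, ?_⟩
    apply Subtype.ext
    have huniq := (h2 B hB hBD).choose_spec.2
    exact (huniq b.1 ⟨b.2.1, b.2.2, hind⟩).symm

end FirstMain

/-- Let P be a Sylow p-subgroup of the finite group G with normalizer N, and fix a maximal ideal M of the algebraic integers containing p. The number of blocks of G having P as a defect group equals the number of conjugacy classes of N consisting of elements of order prime to p that centralize P. -/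
theorem result {G : Type*} [Group G] [Finite G] (p : ℕ) [Fact p.Prime] (M : Ideal Cfsg.AlgInt) (hM : Cfsg.IsPModular p M) (P : Sylow p G) : Nat.card {B : Set (Cfsg.IrrCharacter G) // Cfsg.IsPBlock M B ∧ Cfsg.IsDefectGroup p M B (P : Subgroup G)} = Nat.card {C : ConjClasses (Subgroup.normalizer ((P : Subgroup G) : Set G)) // ∀ n : Subgroup.normalizer ((P : Subgroup G) : Set G), ConjClasses.mk n = C → ¬ p ∣ orderOf n ∧ (n : G) ∈ Subgroup.centralizer ((P : Subgroup G) : Set G)} := by
  rw [card_blocks_eq_normalizer hM (P : Subgroup G) P.isPGroup']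
  set N := Subgroup.normalizer ((P : Subgroup G) : Set G) with hN
  have hle : (P : Subgroup G) ≤ N := Subgroup.le_normalizer
  set Q : Sylow p N := P.subtype hle with hQ
  have hQcoe : (Q : Subgroup N) = (P : Subgroup G).subgroupOf N := Sylow.coe_subtype P hle
  have hQn : (Q : Subgroup N).Normal := by
    rw [hQcoe]; exact Subgroup.normal_in_normalizer
  have h := card_blocks_normal_sylow hM Q hQn
  rw [hQcoe] at h
  rw [h]
  refine Nat.card_congr (Equiv.subtypeEquivRight fun C => ?_)
  have hiff : ∀ n : N, n ∈ Subgroup.centralizer (((P : Subgroup G).subgroupOf N : Subgroup N) : Set N) ↔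
      (n : G) ∈ Subgroup.centralizer ((P : Subgroup G) : Set G) := by
    intro n
    rw [Subgroup.mem_centralizer_iff, Subgroup.mem_centralizer_iff]
    constructor
    · intro h q hq
      have := h ⟨q, hle hq⟩ (by rw [SetLike.mem_coe, Subgroup.mem_subgroupOf]; exact hq)
      exact congrArg Subtype.val this
    · intro h q hq
      rw [SetLike.mem_coe, Subgroup.mem_subgroupOf] at hq
      exact Subtype.ext (h (q : G) hq)
  constructor
  · intro h n hn
    exact ⟨(h n hn).1, (hiff n).1 (h n hn).2⟩
  · intro h n hn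
    exact ⟨(h n hn).1, (hiff n).2 (h n hn).2⟩

end Cfsg.Agent.S0953
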