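import Cfsg.Statements.S2437
import Cfsg.Agent.Lib.Helper47.BorelCount

set_option autoImplicit false
open Cfsg

namespace Cfsg.Agent.S2437

open Matrix
open Cfsg.Agent.Lib.Helper47

section
variable {F : Type*} [Field F] [Fintype F]

/-- the number of commuting pairs in the Borel subgroup, as a sum over the diagonal parts -/
theorem card_commuting_pairs [DecidableEq F] :
    Nat.card {p : borel F × borel F // Commute p.1 p.2} =
      ∑ ac : Fˣ × Fˣ, (if ((ac.1 : F) - (ac.1 : F)⁻¹ = 0 ∧ (ac.2 : F) - (ac.2 : F)⁻¹ = 0)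
        then Fintype.card F * Fintype.card F else Fintype.card F) := by
  -- transport along the parametrization
  have e1 : {x : (Fˣ × F) × (Fˣ × F) // x.2.2 * ((x.1.1 : F) - (x.1.1 : F)⁻¹) =
      x.1.2 * ((x.2.1 : F) - (x.2.1 : F)⁻¹)} ≃ {p : borel F × borel F // Commute p.1 p.2} :=
    Equiv.subtypeEquiv ((borelEquiv F).prodCongr (borelEquiv F))
      (fun x => (borelMk_commute_iff x.1.1 x.2.1 x.1.2 x.2.2).symm)
  have e2 : {x : (Fˣ × F) × (Fˣ × F) // x.2.2 * ((x.1.1 : F) - (x.1.1 : F)⁻¹) =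
      x.1.2 * ((x.2.1 : F) - (x.2.1 : F)⁻¹)} ≃
      {y : (Fˣ × Fˣ) × (F × F) // y.2.2 * ((y.1.1 : F) - (y.1.1 : F)⁻¹) =
        y.2.1 * ((y.1.2 : F) - (y.1.2 : F)⁻¹)} :=
    Equiv.subtypeEquiv (Equiv.prodProdProdComm Fˣ F Fˣ F) (fun x => Iff.rfl)
  have e3 : {y : (Fˣ × Fˣ) × (F × F) // y.2.2 * ((y.1.1 : F) - (y.1.1 : F)⁻¹) =
        y.2.1 * ((y.1.2 : F) - (y.1.2 : F)⁻¹)} ≃
      Σ ac : Fˣ × Fˣ, {bd : F × F // bd.2 * ((ac.1 : F) - (ac.1 : F)⁻¹) =
        bd.1 * ((ac.2 : F) - (ac.2 : F)⁻¹)} :=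
    Equiv.subtypeProdEquivSigmaSubtype
      (fun (ac : Fˣ × Fˣ) (bd : F × F) => bd.2 * ((ac.1 : F) - (ac.1 : F)⁻¹) =
        bd.1 * ((ac.2 : F) - (ac.2 : F)⁻¹))
  rw [← Nat.card_congr e1, Nat.card_congr e2, Nat.card_congr e3, Nat.card_eq_fintype_card,
    Fintype.card_sigma]
  apply Finset.sum_congr rfl
  intro ac _
  rw [Fintype.card_subtype, card_linear_pairs]

theorem sum_eval [DecidableEq F] (hodd : Fintype.card F % 2 = 1) :
    (∑ ac : Fˣ × Fˣ, (if ((ac.1 : F) - (ac.1 : F)⁻¹ = 0 ∧ (ac.2 : F) - (ac.2 : F)⁻¹ = 0)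
        then Fintype.card F * Fintype.card F else Fintype.card F)) =
      (Fintype.card F - 1) * (Fintype.card F - 1) * Fintype.card F +
        2 * 2 * (Fintype.card F * Fintype.card F - Fintype.card F) := by
  set q := Fintype.card F with hq
  have hsplit : ∀ ac : Fˣ × Fˣ,
      (if ((ac.1 : F) - (ac.1 : F)⁻¹ = 0 ∧ (ac.2 : F) - (ac.2 : F)⁻¹ = 0) then q * q else q) =
      q + (if ((ac.1 : F) - (ac.1 : F)⁻¹ = 0 ∧ (ac.2 : F) - (ac.2 : F)⁻¹ = 0) then (q * q - q) else 0) := by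
    intro ac
    split_ifs
    · have : q ≤ q * q := Nat.le_mul_self q
      omega
    · rfl
  rw [Finset.sum_congr rfl (fun ac _ => hsplit ac), Finset.sum_add_distrib, Finset.sum_const,
    Finset.card_univ, Fintype.card_prod, Fintype.card_units, smul_eq_mul]
  congr 1
  rw [← Finset.sum_filter, Finset.sum_const, smul_eq_mul]
  congr 1
  have : (Finset.univ.filter (fun ac : Fˣ × Fˣ =>
      (ac.1 : F) - (ac.1 : F)⁻¹ = 0 ∧ (ac.2 : F) - (ac.2 : F)⁻¹ = 0)) =
      (Finset.univ.filter (fun a : Fˣ => (a : F) - (a : F)⁻¹ = 0)) ×ˢ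
      (Finset.univ.filter (fun a : Fˣ => (a : F) - (a : F)⁻¹ = 0)) := by
    ext ⟨a, c⟩
    simp
  rw [this, Finset.card_product, card_units_sub_inv_eq_zero hodd]

end

/-- Over a finite field F with q elements, q odd, the upper triangular subgroup of SL₂ (a Borel subgroup, of order q(q − 1)) has exactly q + 3 conjugacy classes. -/
theorem result {F : Type*} [Field F] [Fintype F] (hodd : Odd (Fintype.card F)) :
    Nat.card (ConjClasses ((Cfsg.upperTriangularGL 2 F).comap Matrix.SpecialLinearGroup.toGL)) = Fintype.card F + 3 := by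
  classical
  have hodd' : Fintype.card F % 2 = 1 := Nat.odd_iff.mp hodd
  have hq2 : 1 < Fintype.card F := Fintype.one_lt_card
  have key := card_comm_eq_card_conjClasses_mul_card (borel F)
  rw [card_commuting_pairs, sum_eval hodd', card_borel] at key
  set q := Fintype.card F with hq
  have hq3 : 3 ≤ q := by omega
  obtain ⟨n, hn⟩ : ∃ n, q = n + 1 := ⟨q - 1, by omega⟩
  have h1 : q - 1 = n := by omega
  have h2 : q * q - q = q * n := by
    rw [hn]; simp [Nat.mul_succ, Nat.succ_mul]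
  rw [h1, h2] at key
  have hpos : 0 < n * q := by
    apply Nat.mul_pos <;> omega
  have : (n + 4) * (n * q) =
      Nat.card (ConjClasses (borel F)) * (n * q) := by
    rw [← key]; ring
  have := Nat.eq_of_mul_eq_mul_right hpos this
  change Nat.card (ConjClasses (borel F)) = q + 3
  omega

end Cfsg.Agent.S2437
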