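import Cfsg.Statements.S2299
import Cfsg.Agent.Lib.Helper45.SL2CountOdd

set_option autoImplicit false
open Cfsg

namespace Cfsg.Agent.S2299

open Cfsg.Agent.Lib.Helper45 Cfsg.Agent.Lib

/-- Over a finite field F with q elements, q odd, every irreducible complex character of SL₂ has degree 1, q, q + 1, q − 1, (q + 1)/2 or (q − 1)/2; and when q ≥ 5 (so that these six numbers are distinct) there are exactly one irreducible character of degree 1, one of degree q, (q − 3)/2 of degree q + 1, (q − 1)/2 of degree q − 1, two of degree (q + 1)/2 and two of degree (q − 1)/2. -/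
theorem result {F : Type*} [Field F] [Fintype F] (hodd : Odd (Fintype.card F)) :
    (∀ χ : Matrix.SpecialLinearGroup (Fin 2) F → ℂ, Cfsg.IsIrrCharacter (Matrix.SpecialLinearGroup (Fin 2) F) χ →
      χ 1 = 1 ∨ χ 1 = (Fintype.card F : ℂ) ∨ χ 1 = (Fintype.card F : ℂ) + 1 ∨ χ 1 = (Fintype.card F : ℂ) - 1 ∨
        χ 1 = (((Fintype.card F + 1) / 2 : ℕ) : ℂ) ∨ χ 1 = (((Fintype.card F - 1) / 2 : ℕ) : ℂ)) ∧
    (5 ≤ Fintype.card F →
      Nat.card {χ : Cfsg.IrrCharacter (Matrix.SpecialLinearGroup (Fin 2) F) // (χ : Matrix.SpecialLinearGroup (Fin 2) F → ℂ) 1 = 1} = 1 ∧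
      Nat.card {χ : Cfsg.IrrCharacter (Matrix.SpecialLinearGroup (Fin 2) F) // (χ : Matrix.SpecialLinearGroup (Fin 2) F → ℂ) 1 = (Fintype.card F : ℂ)} = 1 ∧
      Nat.card {χ : Cfsg.IrrCharacter (Matrix.SpecialLinearGroup (Fin 2) F) // (χ : Matrix.SpecialLinearGroup (Fin 2) F → ℂ) 1 = (Fintype.card F : ℂ) + 1} = (Fintype.card F - 3) / 2 ∧
      Nat.card {χ : Cfsg.IrrCharacter (Matrix.SpecialLinearGroup (Fin 2) F) // (χ : Matrix.SpecialLinearGroup (Fin 2) F → ℂ) 1 = (Fintype.card F : ℂ) - 1} = (Fintype.card F - 1) / 2 ∧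
      Nat.card {χ : Cfsg.IrrCharacter (Matrix.SpecialLinearGroup (Fin 2) F) // (χ : Matrix.SpecialLinearGroup (Fin 2) F → ℂ) 1 = (((Fintype.card F + 1) / 2 : ℕ) : ℂ)} = 2 ∧
      Nat.card {χ : Cfsg.IrrCharacter (Matrix.SpecialLinearGroup (Fin 2) F) // (χ : Matrix.SpecialLinearGroup (Fin 2) F → ℂ) 1 = (((Fintype.card F - 1) / 2 : ℕ) : ℂ)} = 2) := by
  classical
  have : Fintype (IrrCharacter (Matrix.SpecialLinearGroup (Fin 2) F)) := Fintype.ofFinite _
  have hodd' : Fintype.card F % 2 = 1 := Nat.odd_iff.mp hodd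
  have hq1 : 1 ≤ Fintype.card F := Fintype.card_pos
  constructor
  · intro χ hχ
    obtain ⟨n, hn, h⟩ := irr_table_SL2_nat hχ
    rw [hn]
    rcases h with ⟨h1, -⟩ | ⟨h1, -⟩ | ⟨h1, -⟩ | ⟨h1, -⟩ | ⟨h1, -⟩ | ⟨h1, -⟩
    · left; rw [h1]; simp
    · right; left; rw [h1]
    · right; right; left; rw [h1]; simp
    · right; right; right; right; left; rw [h1]
    · right; right; right; left; rw [h1]; push_cast [Nat.cast_sub hq1]; ring
    · right; right; right; right; right; rw [h1]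
  · intro hq
    obtain ⟨h1, h2, h3, h4, h5, h6⟩ := card_irr_SL2_odd (F := F) hodd' hq
    refine ⟨?_, ?_, ?_, ?_, ?_, ?_⟩
    · rw [natCard_irr_degree 1 1 (by simp)]; exact h1
    · rw [natCard_irr_degree (Fintype.card F) _ rfl]; exact h2
    · rw [natCard_irr_degree (Fintype.card F + 1) _ (by simp)]; exact h3
    · rw [natCard_irr_degree (Fintype.card F - 1) _ (by push_cast [Nat.cast_sub hq1]; ring)]
      exact h5
    · rw [natCard_irr_degree ((Fintype.card F + 1) / 2) _ rfl]; exact h4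
    · rw [natCard_irr_degree ((Fintype.card F - 1) / 2) _ rfl]; exact h6

end Cfsg.Agent.S2299
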