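import Cfsg.Statements.S0012
import Cfsg.Agent.Lib.Helper01.PGroupMax

set_option autoImplicit false
open Cfsg

namespace Cfsg.Agent.S0012

/-- In a finite p-group every commutator and every p-th power lies in the Frattini subgroup, so the Frattini quotient is elementary abelian. -/
theorem result {G : Type*} [Group G] [Finite G] (p : ℕ) [Fact p.Prime]
    (hG : IsPGroup p G) : commutator G ≤ frattini G ∧ ∀ x : G, x ^ p ∈ frattini G := by
  have key : ∀ M : Subgroup G, IsCoatom M → commutator G ≤ M ∧ ∀ x : G, x ^ p ∈ M := by
    intro M hM
    have hMn : M.Normal := Cfsg.Agent.Lib.Helper01.IsPGroup_coatom_normal hG hM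
    have hidx : M.index = p := Cfsg.Agent.Lib.Helper01.IsPGroup_coatom_index hG hM
    have hcard : Nat.card (G ⧸ M) = p := by rw [← Subgroup.index_eq_card, hidx]
    have : IsCyclic (G ⧸ M) := isCyclic_of_prime_card hcard
    constructor
    · rw [commutator_def, Subgroup.commutator_le]
      intro a _ b _
      rw [← QuotientGroup.eq_one_iff, commutatorElement_def]
      simp only [QuotientGroup.mk_mul, QuotientGroup.mk_inv]
      have hc : (a : G ⧸ M) * (b : G ⧸ M) = (b : G ⧸ M) * (a : G ⧸ M) :=
        (IsCyclic.commGroup (α := G ⧸ M)).mul_comm _ _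
      rw [hc]
      group
    · intro x
      rw [← QuotientGroup.eq_one_iff, QuotientGroup.mk_pow, ← hcard]
      exact pow_card_eq_one'
  constructor
  · unfold frattini Order.radical
    exact le_iInf (fun M => le_iInf (fun hM => (key M hM).1))
  · intro x
    unfold frattini Order.radical
    rw [Subgroup.mem_iInf]
    intro M
    rw [Subgroup.mem_iInf]
    intro hM
    exact (key M hM).2 x

end Cfsg.Agent.S0012
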