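import Cfsg.Statements.S0013
import Mathlib

set_option autoImplicit false
open Cfsg

namespace Cfsg.Agent.S0013

/-- a subgroup containing the commutator subgroup is normal -/
theorem normal_of_commutator_le {G : Type*} [Group G] {M : Subgroup G} (h : commutator G ≤ M) :
    M.Normal := by
  constructor
  intro m hm g
  have h1 : g * m * g⁻¹ * m⁻¹ ∈ M := by
    apply h
    rw [commutator_def]
    have := Subgroup.commutator_mem_commutator (Subgroup.mem_top g) (Subgroup.mem_top m)
    simpa [commutatorElement_def] using this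
  have h2 := M.mul_mem h1 hm
  simpa using h2

/-- key step: for `x ∉ N` there is a maximal subgroup containing `N` but not `x`. -/
theorem exists_coatom_not_mem {G : Type*} [Group G] [Finite G] (p : ℕ) [hp : Fact p.Prime]
    (N : Subgroup G) (hcomm : commutator G ≤ N) (hpow : ∀ x : G, x ^ p ∈ N) (x : G) (hx : x ∉ N) :
    ∃ M : Subgroup G, IsCoatom M ∧ x ∉ M := by
  let 𝒮 : Set (Subgroup G) := {M | N ≤ M ∧ x ∉ M}
  obtain ⟨M, ⟨hNM, hxM⟩, hmax⟩ := Set.exists_max_image 𝒮 (fun M => Nat.card M) (Set.toFinite _)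
    ⟨N, le_rfl, hx⟩
  have hMn : M.Normal := normal_of_commutator_le (hcomm.trans hNM)
  have hgt : ∀ L : Subgroup G, M < L → x ∈ L := by
    intro L hL
    by_contra hxL
    have := hmax L ⟨hNM.trans hL.le, hxL⟩
    exact (ne_of_lt hL) (Subgroup.eq_of_le_of_card_ge hL.le this)
  refine ⟨M, ⟨fun h => hxM (h ▸ Subgroup.mem_top x), ?_⟩, hxM⟩
  intro L hL
  rw [eq_top_iff]
  intro y _
  by_cases hyM : y ∈ M
  · exact hL.le hyM
  · have hK : M < M ⊔ Subgroup.zpowers y := by
      refine lt_of_le_of_ne le_sup_left ?_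
      intro h
      apply hyM
      rw [h]
      exact le_sup_right (a := M) (Subgroup.mem_zpowers y)
    have hxK := hgt _ hK
    obtain ⟨m, hm, z, hz, hmz⟩ := Subgroup.mem_sup_of_normal_left.mp hxK
    obtain ⟨k, rfl⟩ := Subgroup.mem_zpowers_iff.mp hz
    have hxL : x ∈ L := hgt L hL
    have hykL : y ^ k ∈ L := by
      have : y ^ k = m⁻¹ * x := by rw [← hmz]; group
      rw [this]
      exact L.mul_mem (L.inv_mem (hL.le hm)) hxL
    have hypL : y ^ (p : ℤ) ∈ L := by
      rw [zpow_natCast]; exact hL.le (hNM (hpow y))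
    have hndvd : ¬ (p : ℤ) ∣ k := by
      rintro ⟨c, rfl⟩
      apply hxM
      rw [← hmz]
      apply M.mul_mem hm
      rw [zpow_mul, zpow_natCast]
      exact M.zpow_mem (hNM (hpow y)) c
    have hirr : Irreducible (p : ℤ) := (Nat.prime_iff_prime_int.mp hp.out).irreducible
    obtain ⟨a, b, hab⟩ := (hirr.coprime_iff_not_dvd.mpr hndvd)
    have : y = (y ^ (p : ℤ)) ^ a * (y ^ k) ^ b := by
      rw [← zpow_mul, ← zpow_mul, ← zpow_add, mul_comm (p : ℤ) a, mul_comm k b, hab, zpow_one]
    rw [this]
    exact L.mul_mem (L.zpow_mem hypL a) (L.zpow_mem hykL b)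


/-- In a finite p-group the Frattini subgroup is the smallest normal subgroup with elementary abelian quotient: it lies below any normal subgroup containing all commutators and all p-th powers. -/
theorem result {G : Type*} [Group G] [Finite G] (p : ℕ) [Fact p.Prime]
    (hG : IsPGroup p G) (N : Subgroup G) [N.Normal] (hcomm : commutator G ≤ N) (hpow : ∀ x : G, x ^ p ∈ N) :
    frattini G ≤ N := by
  intro x hxΦ
  by_contra hxN
  obtain ⟨M, hM, hxM⟩ := exists_coatom_not_mem p N hcomm hpow x hxN
  exact hxM (frattini_le_coatom hM hxΦ)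

end Cfsg.Agent.S0013
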