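import Cfsg.Statements.S2564
import Cfsg.Agent.Lib.Helper49.QuadF2

set_option autoImplicit false
open Cfsg

namespace Cfsg.Agent.S2564

open Cfsg.Agent.Lib.Helper49

/-- the functional `v ↦ f(v, w)` -/
def polarFun (m : ℕ) (w : Fin m ⊕ Fin m → ZMod 2) : (Fin m ⊕ Fin m → ZMod 2) →ₗ[ZMod 2] ZMod 2 where
  toFun v := polarPlus m v w
  map_add' u v := polarPlus_add_left m u v w
  map_smul' c u := by simpa using polarPlus_smul_left m c u w

/-- the transvection `v ↦ v + f(v, w) w` -/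
def transv (m : ℕ) (w : Fin m ⊕ Fin m → ZMod 2) : (Fin m ⊕ Fin m → ZMod 2) →ₗ[ZMod 2] (Fin m ⊕ Fin m → ZMod 2) :=
  LinearMap.id + (polarFun m w).smulRight w

theorem transv_apply (m : ℕ) (w v : Fin m ⊕ Fin m → ZMod 2) :
    transv m w v = v + polarPlus m v w • w := by
  simp [transv, polarFun]

theorem transv_involutive (m : ℕ) (w : Fin m ⊕ Fin m → ZMod 2) : Function.Involutive (transv m w) := by
  intro v
  rw [transv_apply, transv_apply, polarPlus_add_left, polarPlus_smul_left, polarPlus_self, mul_zero, add_zero,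
    add_assoc, ← add_smul, CharTwo.add_self_eq_zero, zero_smul, add_zero]

theorem result (m : ℕ) (hm : 1 ≤ m) (q : (Fin m ⊕ Fin m → ZMod 2) → ZMod 2) (hq : (∀ u v : (Fin m ⊕ Fin m → ZMod 2), q (u + v) = q u + q v + (Cfsg.quadFormPlus m (ZMod 2) (u + v) - Cfsg.quadFormPlus m (ZMod 2) u - Cfsg.quadFormPlus m (ZMod 2) v))) (w : (Fin m ⊕ Fin m → ZMod 2)) :
    (∀ u v : (Fin m ⊕ Fin m → ZMod 2), (q (u + v) + (Cfsg.quadFormPlus m (ZMod 2) (u + v + w) - Cfsg.quadFormPlus m (ZMod 2) (u + v) - Cfsg.quadFormPlus m (ZMod 2) w)) =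
        (q u + (Cfsg.quadFormPlus m (ZMod 2) (u + w) - Cfsg.quadFormPlus m (ZMod 2) u - Cfsg.quadFormPlus m (ZMod 2) w)) + (q v + (Cfsg.quadFormPlus m (ZMod 2) (v + w) - Cfsg.quadFormPlus m (ZMod 2) v - Cfsg.quadFormPlus m (ZMod 2) w)) +
        (Cfsg.quadFormPlus m (ZMod 2) (u + v) - Cfsg.quadFormPlus m (ZMod 2) u - Cfsg.quadFormPlus m (ZMod 2) v)) ∧
    ((∃ g : (Fin m ⊕ Fin m → ZMod 2) ≃ₗ[ZMod 2] (Fin m ⊕ Fin m → ZMod 2), ∀ v, q v + (Cfsg.quadFormPlus m (ZMod 2) (v + w) - Cfsg.quadFormPlus m (ZMod 2) v - Cfsg.quadFormPlus m (ZMod 2) w) = q (g v)) ↔ q w = 0) := by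
  change (∀ u v, q (u + v) = q u + q v + polarPlus m u v) at hq
  change (∀ u v : (Fin m ⊕ Fin m → ZMod 2), q (u + v) + polarPlus m (u + v) w =
      (q u + polarPlus m u w) + (q v + polarPlus m v w) + polarPlus m u v) ∧
    ((∃ g : (Fin m ⊕ Fin m → ZMod 2) ≃ₗ[ZMod 2] (Fin m ⊕ Fin m → ZMod 2), ∀ v, q v + polarPlus m v w = q (g v)) ↔ q w = 0)
  have hq0 : q 0 = 0 := by
    have := hq 0 0
    simp only [add_zero, polarPlus_self] at this
    have h2 : ∀ a : ZMod 2, a = a + a → a = 0 := by decide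
    exact h2 _ this
  refine ⟨?_, ?_, ?_⟩
  · intro u v
    rw [hq, polarPlus_add_left]
    ring
  · -- if equivalent then q w = 0
    rintro ⟨g, hg⟩
    by_contra hqw
    have hqw1 : q w = 1 := by
      have : ∀ a : ZMod 2, a ≠ 0 → a = 1 := by decide
      exact this _ hqw
    have h1 : ∀ v, q (g v) = q (v + w) + 1 := by
      intro v
      rw [← hg, hq v w, hqw1]
      have h2 : ∀ a b : ZMod 2, a + b = a + 1 + b + 1 := by decide
      exact h2 _ _
    have hS := gauss_sum_ne_zero m q hq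
    apply hS
    have e1 : ∑ v : Fin m ⊕ Fin m → ZMod 2, chi2 (q (g v)) = ∑ v : Fin m ⊕ Fin m → ZMod 2, chi2 (q v) :=
      Equiv.sum_comp g.toEquiv (fun v => chi2 (q v))
    have e2 : ∑ v : Fin m ⊕ Fin m → ZMod 2, chi2 (q (g v)) = - ∑ v : Fin m ⊕ Fin m → ZMod 2, chi2 (q v) := by
      rw [← Equiv.sum_comp (Equiv.addRight w) (fun v => chi2 (q v)), ← Finset.sum_neg_distrib]
      apply Finset.sum_congr rfl
      intro v _
      rw [h1, chi2_add_one]
      rfl
    omega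
  · intro hqw
    refine ⟨LinearEquiv.ofInvolutive (transv m w) (transv_involutive m w), ?_⟩
    intro v
    rw [LinearEquiv.coe_ofInvolutive, transv_apply]
    have hc : ∀ c : ZMod 2, q (v + c • w) = q v + c * polarPlus m v w := by
      intro c
      have h01 : ∀ c : ZMod 2, c = 0 ∨ c = 1 := by decide
      rcases h01 c with rfl | rfl
      · simp
      · rw [one_smul, hq, hqw, add_zero, one_mul]
    rw [hc]
    have hsq : ∀ a : ZMod 2, a * a = a := by decide
    rw [hsq]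

end Cfsg.Agent.S2564
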