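import Cfsg.Statements.S2569
import Cfsg.Agent.Lib.Helper49.DetCentralizer

set_option autoImplicit false
open Cfsg

namespace Cfsg.Agent.S2569

open Cfsg.Agent.Lib.Helper49 Polynomial

theorem exists_commute_det {F : Type*} [Field F] [Fintype F] {p : ℕ} [Fact p.Prime] [CharP F p]
    {n : ℕ} (hn : 0 < n) (x : GL (Fin n) F) (hx : (orderOf x).Coprime p) (δ : F) (hδ : δ ≠ 0) :
    ∃ c : Matrix (Fin n) (Fin n) F, c * (x : Matrix (Fin n) (Fin n) F) = (x : Matrix (Fin n) (Fin n) F) * c ∧
      c.det = δ := by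
  classical
  set X' : Matrix (Fin n) (Fin n) F := (x : Matrix (Fin n) (Fin n) F) with hX'
  set φ : (Fin n → F) →ₗ[F] (Fin n → F) := Matrix.toLin' X' with hφ
  set N := orderOf x with hN
  have hNpos : 0 < N := orderOf_pos x
  have hXN : X' ^ N = 1 := by
    rw [hX', ← Units.val_pow_eq_pow_val, hN, pow_orderOf_eq_one]; rfl
  have hφN : φ ^ N = 1 := by
    rw [hφ, ← Matrix.toLin'_pow, hXN, Matrix.toLin'_one]; rfl
  have hN0 : (N : F) ≠ 0 := by
    intro h0
    rw [CharP.cast_eq_zero_iff F p] at h0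
    have h1 : p ∣ Nat.gcd N p := Nat.dvd_gcd h0 (dvd_refl p)
    rw [hx] at h1
    exact (Fact.out : p.Prime).one_lt.ne' (Nat.dvd_one.mp h1)
  set s : F[X] := X ^ N - C 1 with hs
  have hsq : Squarefree s := (separable_X_pow_sub_C (1 : F) hN0 one_ne_zero).squarefree
  have hM : Module.IsTorsion F[X] (Module.AEval' φ) :=
    Module.AEval.isTorsion_of_finiteDimensional F (Fin n → F) φ
  let o : (Fin n → F) ≃ₗ[F] Module.AEval' φ := Module.AEval'.of φ
  have hsM : ∀ m : Module.AEval' φ, s • m = 0 := by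
    intro m
    obtain ⟨v, rfl⟩ := o.surjective m
    have := Module.AEval.of_aeval_smul (R := F) (M := Fin n → F) (a := φ) s v
    change s • o v = 0
    rw [← this, hs, map_sub, map_pow, aeval_X, aeval_C, hφN]
    simp
  have : Nonempty (Fin n) := ⟨⟨0, hn⟩⟩
  have : Nontrivial (Module.AEval' φ) := o.symm.toEquiv.nontrivial
  obtain ⟨T, hT⟩ := exists_equiv_det (M := Module.AEval' φ) hM s hsq hsM δ hδ
  -- transport to matrices
  let TF : (Fin n → F) →ₗ[F] (Fin n → F) :=
    (o.symm : Module.AEval' φ →ₗ[F] (Fin n → F)) ∘ₗ ((T : Module.AEval' φ →ₗ[F[X]] Module.AEval' φ).restrictScalars F) ∘ₗ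
      ((o.symm).symm : (Fin n → F) →ₗ[F] Module.AEval' φ)
  have hdetTF : LinearMap.det TF = δ := by
    rw [← hT]
    exact LinearMap.det_conj _ o.symm
  have hTFapply : ∀ v, TF v = o.symm (T (o v)) := fun v => rfl
  have hcomm : TF ∘ₗ φ = φ ∘ₗ TF := by
    apply LinearMap.ext
    intro v
    change o.symm (T (o (φ v))) = φ (o.symm (T (o v)))
    have h1 : o (φ v) = (X : F[X]) • o v := (Module.AEval'.X_smul_of φ v).symm
    rw [h1, map_smul]
    exact Module.AEval'.of_symm_X_smul φ (T (o v))
  refine ⟨LinearMap.toMatrix' TF, ?_, ?_⟩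
  · have h2 : X' = LinearMap.toMatrix' φ := by rw [hφ, LinearMap.toMatrix'_toLin']
    rw [h2, ← LinearMap.toMatrix'_comp, ← LinearMap.toMatrix'_comp, hcomm]
  · rw [LinearMap.det_toMatrix', hdetTF]

/-- In GL_n over a finite field of characteristic p, the conjugacy class of a semisimple element (an element of order prime to p) under the special linear group is its whole GL-conjugacy class: for every such x and every invertible g there is h of determinant one with h x h⁻¹ = g x g⁻¹. -/
theorem result {F : Type*} [Field F] [Fintype F] {p : ℕ} [Fact p.Prime] [CharP F p] {n : ℕ} (x g : GL (Fin n) F) (hx : (orderOf x).Coprime p) : ∃ h : GL (Fin n) F, (h : Matrix (Fin n) (Fin n) F).det = 1 ∧ h * x * h⁻¹ = g * x * g⁻¹ := by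
  classical
  rcases Nat.eq_zero_or_pos n with hn0 | hn
  · subst hn0
    refine ⟨1, ?_, ?_⟩
    · simp
    · exact Subsingleton.elim _ _
  · have hdg : (g : Matrix (Fin n) (Fin n) F).det ≠ 0 := by
      have := (Matrix.isUnit_iff_isUnit_det _).mp g.isUnit
      exact this.ne_zero
    obtain ⟨c, hcx, hcdet⟩ := exists_commute_det hn x hx _ hdg
    let cG : GL (Fin n) F := Matrix.GeneralLinearGroup.mkOfDetNeZero c (by rw [hcdet]; exact hdg)
    have hcG : (cG : Matrix (Fin n) (Fin n) F) = c := rfl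
    have hcomm : cG * x = x * cG := by
      apply Units.ext
      rw [Units.val_mul, Units.val_mul, hcG]
      exact hcx
    refine ⟨g * cG⁻¹, ?_, ?_⟩
    · have h1 : Matrix.GeneralLinearGroup.det (g * cG⁻¹) = 1 := by
        rw [map_mul, map_inv]
        have : Matrix.GeneralLinearGroup.det g = Matrix.GeneralLinearGroup.det cG := by
          apply Units.ext
          rw [Matrix.GeneralLinearGroup.val_det_apply, Matrix.GeneralLinearGroup.val_det_apply, hcG, hcdet]
        rw [this, mul_inv_cancel]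
      have h2 := congrArg Units.val h1
      rw [Matrix.GeneralLinearGroup.val_det_apply] at h2
      exact h2
    · have h3 : cG⁻¹ * x * cG = x := by
        rw [mul_assoc, ← hcomm, ← mul_assoc, inv_mul_cancel, one_mul]
      calc g * cG⁻¹ * x * (g * cG⁻¹)⁻¹ = g * (cG⁻¹ * x * cG) * g⁻¹ := by
            rw [mul_inv_rev, inv_inv]; group
        _ = g * x * g⁻¹ := by rw [h3]

end Cfsg.Agent.S2569
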