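import Cfsg.Statements.S2588
import Cfsg.Agent.Lib.Helper40.GUSim

open Cfsg.Agent.Lib.Helper40.GUConj

set_option autoImplicit false
open Cfsg

namespace Cfsg.Agent.S2588

/-- An invertible matrix A over the field with q² elements is conjugate in GL_n(q²) to an element of the general unitary group GU_n(q) (isometries of the Hermitian form Σ u_i v_i^q) if and only if A is similar to the inverse transpose of its entrywise q-th power (A ~ A^(−qT), the image of A under the map sending a matrix to the inverse transpose of its entrywise q-th power — inverse transpose composed with the field automorphism — whose fixed points form GU_n(q)). -/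
theorem result {K : Type*} [Field K] [Fintype K] {q n : ℕ} (hK : Fintype.card K = q ^ 2) (A : GL (Fin n) K) : (∃ B : ↥(Cfsg.GU n K q), IsConj A (B : GL (Fin n) K)) ↔ IsConj (A : Matrix (Fin n) (Fin n) K) (((A : Matrix (Fin n) (Fin n) K).map (fun x : K => x ^ q)).transpose)⁻¹ := by
  obtain ⟨φ, hφ, hφφ, θ₀, hθ₀⟩ := Cfsg.Agent.Lib.Helper40.GUConj.exists_frob hK
  set Am : Matrix (Fin n) (Fin n) K := (A : Matrix (Fin n) (Fin n) K) with hAm
  have hmap : (Am.map (fun x : K => x ^ q)).transpose = adj φ Am := by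
    unfold Cfsg.Agent.Lib.Helper40.GUConj.adj
    rw [RingHom.mapMatrix_apply]
    have : (fun x : K => x ^ q) = ⇑φ := funext (fun x => (hφ x).symm)
    rw [this]
  rw [hmap]
  have hadet : IsUnit (adj φ Am).det := by
    rw [det_adj]
    have hA1 : IsUnit Am := ⟨A, rfl⟩
    rw [Matrix.isUnit_iff_isUnit_det] at hA1
    exact hA1.map φ
  have hinv1 : (adj φ Am)⁻¹ * adj φ Am = 1 := Matrix.nonsing_inv_mul _ hadet
  have hinv2 : adj φ Am * (adj φ Am)⁻¹ = 1 := Matrix.mul_nonsing_inv _ hadet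
  constructor
  · rintro ⟨B, hAB⟩
    rw [isConj_iff] at hAB
    obtain ⟨c, hc⟩ := hAB
    have hB := (mem_GU_iff_adj φ hφ (B : GL (Fin n) K)).mp B.2
    set Bm : Matrix (Fin n) (Fin n) K := ((B : GL (Fin n) K) : Matrix (Fin n) (Fin n) K) with hBm
    set cm : Matrix (Fin n) (Fin n) K := (c : Matrix (Fin n) (Fin n) K) with hcm
    have hcA : cm * Am = Bm * cm := by
      have h1 : c * A = (B : GL (Fin n) K) * c := by rw [← hc]; group
      have := congrArg (fun x : GL (Fin n) K => (x : Matrix (Fin n) (Fin n) K)) h1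
      simpa using this
    let d : (Matrix (Fin n) (Fin n) K)ˣ :=
      ⟨adj φ cm * cm, (↑c⁻¹ : Matrix (Fin n) (Fin n) K) * adj φ (↑c⁻¹ : Matrix (Fin n) (Fin n) K),
        by
          calc adj φ cm * cm * ((↑c⁻¹ : Matrix (Fin n) (Fin n) K) * adj φ ↑c⁻¹)
              = adj φ cm * (cm * ↑c⁻¹) * adj φ ↑c⁻¹ := by simp only [mul_assoc]
            _ = 1 := by rw [hcm, Units.mul_inv, mul_one, ← adj_mul, Units.inv_mul, adj_one],
        by
          calc (↑c⁻¹ : Matrix (Fin n) (Fin n) K) * adj φ ↑c⁻¹ * (adj φ cm * cm)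
              = ↑c⁻¹ * (adj φ ↑c⁻¹ * adj φ cm) * cm := by simp only [mul_assoc]
            _ = 1 := by rw [← adj_mul, hcm, Units.mul_inv, adj_one, mul_one, Units.inv_mul]⟩
    refine ⟨d, ?_⟩
    show (adj φ cm * cm) * Am = (adj φ Am)⁻¹ * (adj φ cm * cm)
    have h1 : adj φ Am * (adj φ cm * cm * Am) = adj φ cm * cm := by
      calc adj φ Am * (adj φ cm * cm * Am) = adj φ (cm * Am) * (cm * Am) := by
            rw [adj_mul]; simp only [mul_assoc]
        _ = adj φ cm * (adj φ Bm * Bm) * cm := by rw [hcA, adj_mul]; simp only [mul_assoc]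
        _ = adj φ cm * cm := by rw [hB, mul_one]
    calc adj φ cm * cm * Am = (adj φ Am)⁻¹ * (adj φ Am * (adj φ cm * cm * Am)) := by
          rw [← mul_assoc, hinv1, one_mul]
      _ = (adj φ Am)⁻¹ * (adj φ cm * cm) := by rw [h1]
  · rintro ⟨gu, hgu⟩
    have hS : adj φ Am * (gu : Matrix (Fin n) (Fin n) K) * Am = (gu : Matrix (Fin n) (Fin n) K) := by
      rw [mul_assoc, hgu.eq, ← mul_assoc, hinv2, one_mul]
    obtain ⟨B, hB, hAB⟩ :=
      Cfsg.Agent.Lib.Helper40.GUSim.exists_unitary_of_sim hK φ hφ hφφ θ₀ hθ₀ A gu hS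
    exact ⟨⟨B, hB⟩, hAB⟩

end Cfsg.Agent.S2588
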