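import Cfsg.Statements.S0445
import Mathlib

set_option autoImplicit false
open Cfsg

namespace Cfsg.Agent.S0445

abbrev M5 := Matrix (Fin 5) (Fin 5) (ZMod 2)
abbrev M3 := Matrix (Fin 3) (Fin 3) (ZMod 2)

/-- the general shape of a matrix commuting with the transvection -/
def build (a : ZMod 2) (b c : Fin 3 → ZMod 2) (M : M3) : M5 :=
  !![1, a, b 0, b 1, b 2;
     0, 1, 0, 0, 0;
     0, c 0, M 0 0, M 0 1, M 0 2;
     0, c 1, M 1 0, M 1 1, M 1 2;
     0, c 2, M 2 0, M 2 1, M 2 2]

theorem det_build (a : ZMod 2) (b c : Fin 3 → ZMod 2) (M : M3) :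
    (build a b c M).det = M.det := by
  unfold build
  rw [Matrix.det_succ_column_zero]
  simp [Fin.sum_univ_succ, Matrix.det_succ_row_zero, Matrix.submatrix, Fin.succAbove]

theorem transvection_eq : (Matrix.transvection (0 : Fin 5) 1 (1 : ZMod 2)) =
  !![1, 1, 0, 0, 0;
     0, 1, 0, 0, 0;
     0, 0, 1, 0, 0;
     0, 0, 0, 1, 0;
     0, 0, 0, 0, 1] := by
  decide

theorem build_comm (a : ZMod 2) (b c : Fin 3 → ZMod 2) (M : M3) :
    build a b c M * Matrix.transvection (0 : Fin 5) 1 (1 : ZMod 2) =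
      Matrix.transvection (0 : Fin 5) 1 (1 : ZMod 2) * build a b c M := by
  rw [transvection_eq]
  unfold build
  ext i j
  fin_cases i <;> fin_cases j <;> simp [Matrix.mul_apply, Fin.sum_univ_succ, add_comm]

theorem entries_of_comm (g : M5)
    (h : g * Matrix.transvection (0 : Fin 5) 1 (1 : ZMod 2) =
      Matrix.transvection (0 : Fin 5) 1 (1 : ZMod 2) * g) :
    g 1 0 = 0 ∧ g 2 0 = 0 ∧ g 3 0 = 0 ∧ g 4 0 = 0 ∧ g 1 2 = 0 ∧ g 1 3 = 0 ∧ g 1 4 = 0 ∧
      g 0 0 = g 1 1 := by
  rw [transvection_eq] at h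
  have e := fun i j => congrFun (congrFun h i) j
  have e11 := e 1 1
  have e21 := e 2 1
  have e31 := e 3 1
  have e41 := e 4 1
  have e02 := e 0 2
  have e03 := e 0 3
  have e04 := e 0 4
  have e01 := e 0 1
  simp [Matrix.mul_apply, Fin.sum_univ_succ] at e11 e21 e31 e41 e02 e03 e04 e01
  refine ⟨e11, e21, e31, e41, e02, e03, e04, ?_⟩
  rw [add_comm] at e01
  exact add_left_cancel e01

/-- shift of indices -/
def sh : Fin 3 → Fin 5 := ![2, 3, 4]

theorem zmod2_cases : ∀ x : ZMod 2, x = 0 ∨ x = 1 := by decide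

theorem eq_build (g : M5) (hdet : g.det = 1)
    (h : g * Matrix.transvection (0 : Fin 5) 1 (1 : ZMod 2) =
      Matrix.transvection (0 : Fin 5) 1 (1 : ZMod 2) * g) :
    g = build (g 0 1) (fun j => g 0 (sh j)) (fun i => g (sh i) 1)
      (Matrix.of fun i j => g (sh i) (sh j)) := by
  obtain ⟨h10, h20, h30, h40, h12, h13, h14, h00⟩ := entries_of_comm g h
  have h00' : g 0 0 = 1 := by
    rcases zmod2_cases (g 0 0) with h0 | h1
    · exfalso
      have : g.det = 0 := by
        apply Matrix.det_eq_zero_of_column_eq_zero 0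
        intro i
        fin_cases i
        · exact h0
        · exact h10
        · exact h20
        · exact h30
        · exact h40
      rw [this] at hdet
      exact zero_ne_one hdet
    · exact h1
  have h11' : g 1 1 = 1 := by rw [← h00, h00']
  ext i j
  fin_cases i <;> fin_cases j <;>
    simp [build, sh, h10, h20, h30, h40, h12, h13, h14, h00', h11']

theorem sl_coe_transvection (s : Matrix.SpecialLinearGroup (Fin 5) (ZMod 2))
    (hs : (s : M5) = Matrix.transvection 0 1 1)
    (g : Matrix.SpecialLinearGroup (Fin 5) (ZMod 2)) :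
    g ∈ Subgroup.centralizer ({s} : Set (Matrix.SpecialLinearGroup (Fin 5) (ZMod 2))) ↔
      (g : M5) * Matrix.transvection (0 : Fin 5) 1 (1 : ZMod 2) =
        Matrix.transvection (0 : Fin 5) 1 (1 : ZMod 2) * (g : M5) := by
  rw [Subgroup.mem_centralizer_iff]
  constructor
  · intro h
    have := h s rfl
    have h2 := congrArg (fun x : Matrix.SpecialLinearGroup (Fin 5) (ZMod 2) => (x : M5)) this
    simp only [Matrix.SpecialLinearGroup.coe_mul, hs] at h2
    exact h2.symm
  · intro h t ht
    rw [Set.mem_singleton_iff] at ht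
    subst ht
    apply Subtype.ext
    rw [Matrix.SpecialLinearGroup.coe_mul, Matrix.SpecialLinearGroup.coe_mul, hs]
    exact h.symm

/-- the parametrisation of the centraliser -/
noncomputable def centEquiv (s : Matrix.SpecialLinearGroup (Fin 5) (ZMod 2))
    (hs : (s : M5) = Matrix.transvection 0 1 1) :
    Subgroup.centralizer ({s} : Set (Matrix.SpecialLinearGroup (Fin 5) (ZMod 2))) ≃
      ZMod 2 × (Fin 3 → ZMod 2) × (Fin 3 → ZMod 2) ×
        Matrix.SpecialLinearGroup (Fin 3) (ZMod 2) where
  toFun g :=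
    have hc := (sl_coe_transvection s hs g.1).1 g.2
    (g.1.1 0 1, fun j => g.1.1 0 (sh j), fun i => g.1.1 (sh i) 1,
      ⟨Matrix.of fun i j => g.1.1 (sh i) (sh j), by
        have h1 := eq_build g.1.1 g.1.2 hc
        have h2 := g.1.2
        rw [h1, det_build] at h2
        exact h2⟩)
  invFun t :=
    ⟨⟨build t.1 t.2.1 t.2.2.1 t.2.2.2.1, by rw [det_build]; exact t.2.2.2.2⟩,
      (sl_coe_transvection s hs _).2 (build_comm _ _ _ _)⟩
  left_inv g := by
    have hc := (sl_coe_transvection s hs g.1).1 g.2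
    apply Subtype.ext
    apply Subtype.ext
    exact (eq_build g.1.1 g.1.2 hc).symm
  right_inv t := by
    obtain ⟨a, b, c, M⟩ := t
    refine Prod.ext ?_ (Prod.ext ?_ (Prod.ext ?_ ?_))
    · simp [build]
    · funext j; fin_cases j <;> simp [build, sh]
    · funext i; fin_cases i <;> simp [build, sh]
    · apply Subtype.ext
      ext i j
      fin_cases i <;> fin_cases j <;> simp [build, sh]

theorem unit_zmod2 : ∀ x : ZMod 2, IsUnit x → x = 1 := by decide

theorem card_sl3 : Nat.card (Matrix.SpecialLinearGroup (Fin 3) (ZMod 2)) = 168 := by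
  have hbij : Function.Bijective
      (Matrix.SpecialLinearGroup.toGL : Matrix.SpecialLinearGroup (Fin 3) (ZMod 2) → GL (Fin 3) (ZMod 2)) := by
    refine ⟨Matrix.SpecialLinearGroup.toGL_injective, fun u => ?_⟩
    have hdet : (u : Matrix (Fin 3) (Fin 3) (ZMod 2)).det = 1 := by
      apply unit_zmod2
      exact (Matrix.isUnit_iff_isUnit_det _).1 u.isUnit
    refine ⟨⟨u, hdet⟩, ?_⟩
    apply Units.ext
    rfl
  rw [Nat.card_congr (Equiv.ofBijective _ hbij), Matrix.card_GL_field]
  simp [Fin.prod_univ_succ, ZMod.card]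

/-- In the special linear group of dimension 5 over the field with two elements, the centraliser of a transvection has order 21504 = 2 ^ 7 · 168 (it is an extension of an extraspecial group of order 2 ^ 7 by the simple group of order 168). -/
theorem result (s : Matrix.SpecialLinearGroup (Fin 5) (ZMod 2)) (hs : (s : Matrix (Fin 5) (Fin 5) (ZMod 2)) = Matrix.transvection 0 1 1) : Nat.card (Subgroup.centralizer ({s} : Set (Matrix.SpecialLinearGroup (Fin 5) (ZMod 2)))) = 21504 := by
  rw [Nat.card_congr (centEquiv s hs), Nat.card_prod, Nat.card_prod, Nat.card_prod, card_sl3]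
  simp [Nat.card_eq_fintype_card, ZMod.card]

end Cfsg.Agent.S0445
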