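import Cfsg.Statements.S0601
import Cfsg.Agent.Lib.Helper14.PLocal

set_option autoImplicit false
open Cfsg

namespace Cfsg.Agent.S0601

open Subgroup

theorem conj_gens {G : Type*} [Group G] {p : ℕ} (S : Sylow p G) (g x : G)
    (hx : x ∈ ((S : Subgroup G)) ⊓ Subgroup.centralizer ((S : Subgroup G) : Set G)) :
    g * x * g⁻¹ ∈ (((g • S : Sylow p G) : Subgroup G)) ⊓
      Subgroup.centralizer (((g • S : Sylow p G) : Subgroup G) : Set G) := by
  have hmem : ∀ z : G, z ∈ ((g • S : Sylow p G) : Subgroup G) ↔ g⁻¹ * z * g ∈ (S : Subgroup G) := by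
    intro z
    rw [Sylow.smul_def, Sylow.pointwise_smul_def, Subgroup.mem_pointwise_smul_iff_inv_smul_mem,
      MulAut.smul_def, MulAut.conj_inv_apply]
  rw [Subgroup.mem_inf] at hx ⊢
  refine ⟨?_, ?_⟩
  · rw [hmem]
    have : g⁻¹ * (g * x * g⁻¹) * g = x := by group
    rw [this]
    exact hx.1
  · rw [Subgroup.mem_centralizer_iff]
    intro z hz
    rw [SetLike.mem_coe, hmem] at hz
    have := (Subgroup.mem_centralizer_iff.mp hx.2) _ hz
    calc z * (g * x * g⁻¹) = g * ((g⁻¹ * z * g) * x) * g⁻¹ := by group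
      _ = g * (x * (g⁻¹ * z * g)) * g⁻¹ := by rw [this]
      _ = g * x * g⁻¹ * z := by group

/-- When O_p(G) contains its centralizer, the normal closure of Ω₁(Z(S)) is elementary abelian and G has no nontrivial normal p-subgroup modulo its centralizer. -/
theorem result {G : Type*} [Group G] [Finite G] {p : ℕ} [Fact p.Prime] (hc : Subgroup.centralizer (Cfsg.pCore p G : Set G) ≤ Cfsg.pCore p G) : (⨆ S : Sylow p G, Cfsg.omegaOne p (((S : Subgroup G)) ⊓ Subgroup.centralizer ((S : Subgroup G) : Set G))).Normal ∧ Cfsg.IsElementaryAbelian p (⨆ S : Sylow p G, Cfsg.omegaOne p (((S : Subgroup G)) ⊓ Subgroup.centralizer ((S : Subgroup G) : Set G))) ∧ ∀ D : Subgroup G, D.Normal → Subgroup.centralizer ((⨆ S : Sylow p G, Cfsg.omegaOne p (((S : Subgroup G)) ⊓ Subgroup.centralizer ((S : Subgroup G) : Set G)) : Subgroup G) : Set G) ≤ D → (∃ k : ℕ, (Subgroup.centralizer ((⨆ S : Sylow p G, Cfsg.omegaOne p (((S : Subgroup G)) ⊓ Subgroup.centralizer ((S : Subgroup G) : Set G)) : Subgroup G) : Set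 G)).relIndex D = p ^ k) → D = Subgroup.centralizer ((⨆ S : Sylow p G, Cfsg.omegaOne p (((S : Subgroup G)) ⊓ Subgroup.centralizer ((S : Subgroup G) : Set G)) : Subgroup G) : Set G) := by
  classical
  set W : Subgroup G := ⨆ S : Sylow p G, Cfsg.omegaOne p (((S : Subgroup G)) ⊓ Subgroup.centralizer ((S : Subgroup G) : Set G)) with hW
  -- (1) normality
  have hWn : W.Normal := by
    constructor
    intro n hn g
    have hle : W.map (MulAut.conj g).toMonoidHom ≤ W := by
      rw [hW, Subgroup.map_iSup]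
      refine iSup_le fun S => ?_
      refine le_trans ?_ (le_iSup _ (g • S))
      unfold Cfsg.omegaOne
      rw [MonoidHom.map_closure]
      apply Subgroup.closure_mono
      rintro _ ⟨x, ⟨hx1, hx2⟩, rfl⟩
      refine ⟨?_, ?_⟩
      · exact conj_gens S g x hx1
      · show (MulAut.conj g x) ^ p = 1
        rw [← map_pow, hx2, map_one]
    have : (MulAut.conj g).toMonoidHom n ∈ W.map (MulAut.conj g).toMonoidHom :=
      Subgroup.mem_map_of_mem _ hn
    have := hle this
    simpa [MulAut.conj_apply] using this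
  -- (2) elementary abelian
  have hWe : Cfsg.IsElementaryAbelian p W := by
    have hWcl : W = Subgroup.closure (⋃ S : Sylow p G, {x : G | x ∈ ((S : Subgroup G)) ⊓ Subgroup.centralizer ((S : Subgroup G) : Set G) ∧ x ^ p = 1}) := by
      rw [Subgroup.closure_iUnion]
      rfl
    rw [hWcl]
    have hO : ∀ S : Sylow p G, Cfsg.pCore p G ≤ (S : Subgroup G) := by
      intro S
      unfold Cfsg.pCore
      refine sSup_le ?_
      rintro N ⟨hNn, hN⟩
      have := hNn
      exact Cfsg.Agent.Lib.Helper14.normal_pgroup_le_sylow N hN S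
    have hZ : ∀ x ∈ (⋃ S : Sylow p G, {x : G | x ∈ ((S : Subgroup G)) ⊓ Subgroup.centralizer ((S : Subgroup G) : Set G) ∧ x ^ p = 1}),
        x ∈ Cfsg.pCore p G ∧ x ∈ Subgroup.centralizer (Cfsg.pCore p G : Set G) := by
      intro x hx
      rw [Set.mem_iUnion] at hx
      obtain ⟨S, ⟨hx1, -⟩⟩ := hx
      have h2 : x ∈ Subgroup.centralizer (Cfsg.pCore p G : Set G) :=
        Subgroup.centralizer_le (hO S) hx1.2
      exact ⟨hc h2, h2⟩
    apply Cfsg.Agent.Lib.Helper14.isElementaryAbelian_closure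
    · intro x hx y hy
      exact ((Subgroup.mem_centralizer_iff.mp (hZ y hy).2) x (hZ x hx).1)
    · intro x hx
      rw [Set.mem_iUnion] at hx
      obtain ⟨S, ⟨-, hx2⟩⟩ := hx
      exact hx2
  refine ⟨hWn, hWe, ?_⟩
  -- (3)
  intro D hDn hCD hk
  obtain ⟨k, hk⟩ := hk
  have := hWn
  have hgen : W = ⨆ S : Sylow p G, W ⊓ Subgroup.centralizer ((S : Subgroup G) : Set G) := by
    apply le_antisymm
    · conv_lhs => rw [hW]
      refine iSup_le fun S => ?_
      refine le_trans ?_ (le_iSup _ S)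
      refine le_inf (le_iSup (fun S : Sylow p G => Cfsg.omegaOne p (((S : Subgroup G)) ⊓ Subgroup.centralizer ((S : Subgroup G) : Set G))) S) ?_
      unfold Cfsg.omegaOne
      rw [Subgroup.closure_le]
      rintro x ⟨hx1, -⟩
      exact hx1.2
    · exact iSup_le fun S => inf_le_left
  set π := QuotientGroup.mk' (Subgroup.centralizer (W : Set G)) with hπ
  have hπs : Function.Surjective π := QuotientGroup.mk'_surjective _
  have : (D.map π).Normal := hDn.map π hπs
  have hcard : Nat.card (D.map π) = p ^ k := by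
    rw [← hk, ← Subgroup.relIndex_ker, QuotientGroup.ker_mk']
  have hpg : IsPGroup p (D.map π) := IsPGroup.of_card hcard
  have hbot := Cfsg.Agent.Lib.Helper14.normal_pgroup_quotient_centralizer_eq_bot W hgen (D.map π) hpg
  apply le_antisymm _ hCD
  intro d hd
  have : π d ∈ D.map π := Subgroup.mem_map_of_mem _ hd
  rw [hbot, Subgroup.mem_bot] at this
  rw [← QuotientGroup.eq_one_iff]
  exact this

end Cfsg.Agent.S0601
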