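import Mathlib
import Cfsg.Statements.S0602
import Cfsg.Agent.Lib.Helper99.Thompson

set_option autoImplicit false
open Cfsg

namespace Cfsg.Agent.S0602

open Cfsg.Agent.Lib.Helper99

/-- The Thompson subgroup is characteristic, and nontrivial as soon as p divides the group order. -/
theorem result {G : Type*} [Group G] [Finite G] {p : ℕ} [Fact p.Prime] : (Cfsg.thompsonSubgroup p G).Characteristic ∧ (p ∣ Nat.card G → Cfsg.thompsonSubgroup p G ≠ ⊥) := by
  constructor
  · rw [Subgroup.characteristic_iff_map_le]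
    intro φ
    rw [Subgroup.map_le_iff_le_comap]
    unfold thompsonSubgroup
    apply sSup_le
    intro A hA
    rw [← Subgroup.map_le_iff_le_comap]
    exact le_sSup (maxEA_map_equiv φ hA)
  · intro hdvd hbot
    obtain ⟨x, hx⟩ := exists_prime_orderOf_dvd_card' p hdvd
    obtain ⟨A, hA⟩ := maxEA_nonempty (G := G) (p := p)
    have hAbot : A = ⊥ := le_bot_iff.mp (hbot ▸ le_thompson hA)
    have hEA : IsElementaryAbelian p (Subgroup.zpowers x) := by
      rw [isEA_iff]
      refine ⟨fun a ha b hb => ?_, fun a ha => ?_⟩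
      · obtain ⟨i, rfl⟩ := Subgroup.mem_zpowers_iff.mp ha
        obtain ⟨j, rfl⟩ := Subgroup.mem_zpowers_iff.mp hb
        exact (Commute.zpow_zpow_self x i j).eq
      · obtain ⟨i, rfl⟩ := Subgroup.mem_zpowers_iff.mp ha
        rw [← zpow_natCast, ← zpow_mul, mul_comm, zpow_mul, zpow_natCast, ← hx, pow_orderOf_eq_one,
          one_zpow]
    have h1 := hA.2 _ hEA
    rw [hAbot, Subgroup.card_bot, Nat.card_zpowers, hx] at h1
    exact absurd h1 (not_le.mpr (Fact.out : p.Prime).one_lt)

end Cfsg.Agent.S0602
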