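import Cfsg.Statements.S0608
import Cfsg.Agent.Lib.Helper15.SylowNormal

set_option autoImplicit false
open Cfsg
open Cfsg.Agent.Lib.Helper15
open scoped Pointwise

namespace Cfsg.Agent.S0608

universe u

variable {G : Type u} [Group G]

/-- `Ω₁(Z(S))` inside `G` -/
def ZS (p : ℕ) (S : Subgroup G) : Subgroup G :=
  Cfsg.omegaOne p (S ⊓ Subgroup.centralizer (S : Set G))

theorem ZS_map (p : ℕ) (g : G) (S : Subgroup G) :
    (ZS p S).map (MulAut.conj g).toMonoidHom = ZS p (S.map (MulAut.conj g).toMonoidHom) := by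
  unfold ZS
  rw [omegaOne_map p _ (MulAut.conj g).injective, map_inf_centralizer _ (MulAut.conj g).injective]

theorem W_normal [Finite G] (p : ℕ) [Fact p.Prime] :
    (⨆ S : Sylow p G, ZS p (S : Subgroup G)).Normal := by
  constructor
  intro n hn g
  have h1 : (MulAut.conj g).toMonoidHom n ∈
      (⨆ S : Sylow p G, ZS p (S : Subgroup G)).map (MulAut.conj g).toMonoidHom :=
    Subgroup.mem_map_of_mem _ hn
  rw [Subgroup.map_iSup] at h1
  have hle : (⨆ S : Sylow p G, (ZS p (S : Subgroup G)).map (MulAut.conj g).toMonoidHom) ≤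
      ⨆ S : Sylow p G, ZS p (S : Subgroup G) := by
    apply iSup_le
    intro S
    rw [ZS_map, conj_map_eq_smul, ← Sylow.coe_subgroup_smul]
    exact le_iSup (fun S : Sylow p G => ZS p (S : Subgroup G)) (g • S)
  simpa using hle h1

/-- With trivial p'-core, Thompson factorizability is equivalent to J(G) centralizing the subgroup generated by all Ω₁(Z(S)), S Sylow. -/
theorem result {G : Type*} [Group G] [Finite G] {p : ℕ} [Fact p.Prime] (hO : Cfsg.pPrimeCore p G = ⊥) : Cfsg.IsThompsonFactorizable p G ↔ Cfsg.thompsonSubgroup p G ≤ Subgroup.centralizer ((⨆ S : Sylow p G, Cfsg.omegaOne p (((S : Subgroup G)) ⊓ Subgroup.centralizer ((S : Subgroup G) : Set G)) : Subgroup G) : Set G) := by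
  change Cfsg.IsThompsonFactorizable p G ↔ Cfsg.thompsonSubgroup p G ≤
    Subgroup.centralizer ((⨆ S : Sylow p G, ZS p (S : Subgroup G) : Subgroup G) : Set G)
  constructor
  · intro hF
    unfold Cfsg.thompsonSubgroup
    apply sSup_le
    intro A hA
    rw [Subgroup.le_centralizer_iff]
    apply iSup_le
    intro T
    rw [Subgroup.le_centralizer_iff]
    obtain ⟨S, hAS⟩ := exists_sylow_le_thompsonSubgroupOf hA
    obtain ⟨h, hh⟩ := MulAction.exists_smul_eq G S T
    obtain ⟨x, hx, c, hc, n, hn, hfac⟩ := hF S h⁻¹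
    rw [hO, Subgroup.mem_bot] at hx
    subst hx
    rw [one_mul] at hfac
    have hheq : h = (c * n)⁻¹ := by rw [← hfac, inv_inv]
    have hTS : (T : Subgroup G) = (S : Subgroup G).map (MulAut.conj h).toMonoidHom := by
      rw [← hh, Sylow.coe_subgroup_smul, conj_map_eq_smul]
    change A ≤ Subgroup.centralizer ((ZS p (T : Subgroup G) : Subgroup G) : Set G)
    unfold ZS Cfsg.omegaOne
    rw [Subgroup.centralizer_closure]
    intro a ha
    rw [Subgroup.mem_centralizer_iff]
    rintro z ⟨hzT, hzp⟩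
    rw [Subgroup.mem_inf] at hzT
    obtain ⟨hzT1, hzT2⟩ := hzT
    -- z' = h⁻¹ z h
    have hz'S : h⁻¹ * z * h ∈ (S : Subgroup G) := by
      rw [hTS] at hzT1
      obtain ⟨s, hs, hsz⟩ := hzT1
      have : z = h * s * h⁻¹ := by rw [← hsz]; simp
      rw [this]
      have : h⁻¹ * (h * s * h⁻¹) * h = s := by group
      rw [this]; exact hs
    have hz'C : h⁻¹ * z * h ∈ Subgroup.centralizer ((S : Subgroup G) : Set G) := by
      rw [Subgroup.mem_centralizer_iff]
      intro s hs
      have hsT : h * s * h⁻¹ ∈ (T : Subgroup G) := by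
        rw [hTS]
        exact ⟨s, hs, by simp⟩
      have := Subgroup.mem_centralizer_iff.mp hzT2 _ hsT
      -- (h s h⁻¹) z = z (h s h⁻¹)
      have h2 : s * (h⁻¹ * z * h) = h⁻¹ * ((h * s * h⁻¹) * z) * h := by group
      rw [h2, this]; group
    have hz'p : (h⁻¹ * z * h) ^ p = 1 := by
      have : h⁻¹ * z * h = h⁻¹ * z * (h⁻¹)⁻¹ := by rw [inv_inv]
      rw [this, conj_pow, hzp]; simp
    have hz'Z : h⁻¹ * z * h ∈ ZS p (S : Subgroup G) := by
      unfold ZS Cfsg.omegaOne
      apply Subgroup.subset_closure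
      exact ⟨Subgroup.mem_inf.mpr ⟨hz'S, hz'C⟩, hz'p⟩
    have hcz : (h⁻¹ * z * h) * c = c * (h⁻¹ * z * h) :=
      Subgroup.mem_centralizer_iff.mp hc _ hz'Z
    -- a ∈ J_S, n normalizes J_S
    have haJ : a ∈ Cfsg.thompsonSubgroupOf p (S : Subgroup G) := hAS ha
    have hnaJ : n * a * n⁻¹ ∈ Cfsg.thompsonSubgroupOf p (S : Subgroup G) :=
      (Subgroup.mem_normalizer_iff.mp hn a).mp haJ
    have hnaS : n * a * n⁻¹ ∈ (S : Subgroup G) := thompsonSubgroupOf_le p _ hnaJ
    have hcomm : (n * a * n⁻¹) * (h⁻¹ * z * h) = (h⁻¹ * z * h) * (n * a * n⁻¹) :=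
      Subgroup.mem_centralizer_iff.mp hz'C _ hnaS
    -- now compute
    set z' := h⁻¹ * z * h with hz'
    have hz_eq : z = n⁻¹ * z' * n := by
      have h1 : z = h * z' * h⁻¹ := by rw [hz']; group
      rw [h1, hheq]
      have h2 : (c * n)⁻¹ * z' * ((c * n)⁻¹)⁻¹ = n⁻¹ * (c⁻¹ * (z' * c)) * n := by group
      rw [h2, hcz]; group
    rw [hz_eq]
    have h3 : n⁻¹ * z' * n * a = n⁻¹ * (z' * (n * a * n⁻¹)) * n := by group
    rw [h3, ← hcomm]; group
  · intro hJ S g
    haveI hWn : (⨆ S : Sylow p G, ZS p (S : Subgroup G)).Normal := W_normal p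
    set W : Subgroup G := ⨆ S : Sylow p G, ZS p (S : Subgroup G) with hW
    set C : Subgroup G := Subgroup.centralizer (W : Set G) with hC
    haveI : C.Normal := Subgroup.normal_centralizer
    have hJS : Cfsg.thompsonSubgroupOf p (S : Subgroup G) ≤ C :=
      (thompsonSubgroupOf_sylow_le S).trans hJ
    obtain ⟨P, hP⟩ := sylow_inf_normal S C
    have hfr := Sylow.normalizer_sup_eq_top P
    rw [hP] at hfr
    have hg : g ∈ C ⊔ Subgroup.normalizer (((S : Subgroup G) ⊓ C : Subgroup G) : Set G) := by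
      rw [sup_comm, hfr]; trivial
    obtain ⟨c, hc, n, hn, rfl⟩ := Subgroup.mem_sup_of_normal_left.mp hg
    refine ⟨1, Subgroup.one_mem _, c, ?_, n, ?_, by simp⟩
    · have hle : ZS p (S : Subgroup G) ≤ W := le_iSup (fun S : Sylow p G => ZS p (S : Subgroup G)) S
      exact Subgroup.centralizer_le (SetLike.coe_subset_coe.mpr hle) hc
    · have h1 := normalizer_le_normalizer_thompsonSubgroupOf p ((S : Subgroup G) ⊓ C) hn
      rwa [thompsonSubgroupOf_eq_of_le p inf_le_left (le_inf (thompsonSubgroupOf_le p _) hJS)] at h1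

end Cfsg.Agent.S0608
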