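import Cfsg.Statements.S2822
import Cfsg.Agent.Lib.Helper54.PReduced

set_option autoImplicit false
open Cfsg
open scoped commutatorElement

namespace Cfsg.Agent.S2822

open Cfsg.Agent.Lib.Helper54

/-- Let H be a finite group, p a prime, T a Sylow p-subgroup, and L, M subgroups of characteristic p containing T, with largest p-reduced normal subgroups Y_L, Y_M. If L·C_H(Y_M) = M·C_H(Y_M), then Y_M ≤ Y_L. -/
theorem result {H : Type*} [Group H] [Finite H] {p : ℕ} [Fact p.Prime] (T : Sylow p H) (L M : Subgroup H) (hTL : (T : Subgroup H) ≤ L) (hTM : (T : Subgroup H) ≤ M) (hL : Subgroup.centralizer (Cfsg.pCore p ↥L : Set ↥L) ≤ Cfsg.pCore p ↥L) (hM : Subgroup.centralizer (Cfsg.pCore p ↥M : Set ↥M) ≤ Cfsg.pCore p ↥M) : L ⊔ Subgroup.centralizer (((Cfsg.largestPReducedOf p M) : Subgroup H) : Set H) = M ⊔ Subgroup.centralizer (((Cfsg.largestPReducedOf p M) : Subgroup H) : Set H) → (Cfsg.largestPReducedOf p M) ≤ (Cfsg.largestPReducedOf p L) := by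
  intro hfac
  set Y := Cfsg.largestPReducedOf p M with hY
  set C := Subgroup.centralizer ((Y : Subgroup H) : Set H) with hC
  have hYM : Y ≤ M := largestPReducedOf_le_self p M
  obtain ⟨hMY, hYel, hcritM⟩ :=
    (isPReducedNormal_subgroupOf_iff hYM).1 (isPReducedNormal_largestPReducedOf M)
  have hYT : Y ≤ (T : Subgroup H) :=
    ((largestPReducedOf_le M).trans (omegaOne_le p _)).trans
      (inf_le_left.trans (pCoreOf_le_sylow M T hTM))
  have hYL : Y ≤ L := hYT.trans hTL
  have hCY : C ≤ Subgroup.normalizer (Y : Set H) := Subgroup.centralizer_le_normalizer _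
  have hLY : L ≤ Subgroup.normalizer (Y : Set H) := by
    refine le_sup_left.trans (hfac ▸ sup_le hMY hCY)
  have hNC : Subgroup.normalizer (Y : Set H) ≤ Subgroup.normalizer (C : Set H) :=
    normalizer_le_normalizer_centralizer' Y
  apply le_largestPReducedOf hYL
  rw [isPReducedNormal_subgroupOf_iff hYL]
  refine ⟨hLY, hYel, ?_⟩
  intro D hDL hLD hCD hpow
  have hDC : D ≤ Subgroup.normalizer (C : Set H) := (hDL.trans hLY).trans hNC
  -- C normalises D ⊔ C
  have hCE : C ≤ Subgroup.normalizer ((D ⊔ C : Subgroup H) : Set H) := by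
    apply le_normalizer_of_map_conj_le
    intro c hc
    rw [Subgroup.map_sup, map_conj_eq_of_mem_normalizer (Subgroup.le_normalizer hc)]
    apply sup_le _ le_sup_right
    rintro _ ⟨d, hd, rfl⟩
    have h1 : (MulAut.conj c).toMonoidHom d = (c * (d * c⁻¹ * d⁻¹)) * d := by
      simp [mul_assoc]
    rw [h1]
    refine Subgroup.mul_mem _ (le_sup_right (a := D) (C.mul_mem hc ?_)) (le_sup_left (b := C) hd)
    exact (Subgroup.mem_normalizer_iff.1 (hDC hd) _).1 (C.inv_mem hc)
  have hLE : L ≤ Subgroup.normalizer ((D ⊔ C : Subgroup H) : Set H) :=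
    le_normalizer_sup hLD (hLY.trans hNC)
  have hME : M ≤ Subgroup.normalizer ((D ⊔ C : Subgroup H) : Set H) := by
    refine le_sup_left.trans (hfac ▸ sup_le hLE hCE)
  set F := (D ⊔ C) ⊓ M with hF
  have hFC : F ≤ C := by
    apply hcritM F inf_le_right
    · refine le_trans ?_ Subgroup.inf_normalizer_le_normalizer_inf
      exact le_inf hME Subgroup.le_normalizer
    · exact le_inf (inf_le_right.trans le_sup_right) inf_le_left
    · rintro f ⟨hfE, _⟩
      obtain ⟨c, hc, d, hd, rfl⟩ := exists_mul_of_mem_sup_of_le_normalizer hDC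
        (by rwa [sup_comm] at hfE : f ∈ C ⊔ D)
      -- f = c * d; write as d * (d⁻¹ c d)
      obtain ⟨k, hk⟩ := hpow d hd
      have hc2 : d⁻¹ * c * d⁻¹⁻¹ ∈ C :=
        (Subgroup.mem_normalizer_iff.1 (Subgroup.inv_mem _ (hDC hd)) c).1 hc
      obtain ⟨c', hc', h⟩ := exists_mul_pow_eq (hDC hd) hc2 (p ^ k)
      refine ⟨k, ?_⟩
      have e : c * d = d * (d⁻¹ * c * d⁻¹⁻¹) := by group
      rw [e, h]
      exact C.mul_mem hk hc'
  intro d hd
  have hdMC : d ∈ C ⊔ M := by
    rw [sup_comm, ← hfac]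
    exact le_sup_left (b := C) (hDL hd)
  obtain ⟨c, hc, m, hm, rfl⟩ := exists_mul_of_mem_sup_of_le_normalizer (hMY.trans hNC) hdMC
  have hmE : m ∈ D ⊔ C := by
    have : m = c⁻¹ * (c * m) := by group
    rw [this]
    exact Subgroup.mul_mem _ (le_sup_right (a := D) (C.inv_mem hc)) (le_sup_left (b := C) hd)
  exact C.mul_mem hc (hFC ⟨hmE, hm⟩)

end Cfsg.Agent.S2822
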