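import Cfsg.Statements.S2941

set_option autoImplicit false
open Cfsg
open scoped commutatorElement

namespace Cfsg.Agent.S2941

/-- If `A` is a `p`-group normalizing `K`, elements of `K ⊔ A` of order prime to `p` lie in `K`. -/
theorem mem_of_coprime_of_mem_sup {G : Type*} [Group G] {p : ℕ} [Fact p.Prime] (K A : Subgroup G)
    (hA : IsPGroup p ↥A) (hAK : A ≤ Subgroup.normalizer (K : Set G)) (g : G) (hg : g ∈ K ⊔ A)
    (hgo : (orderOf g).Coprime p) : g ∈ K := by
  classical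
  set X : Subgroup G := K ⊔ A with hX
  have hKX : K ≤ X := le_sup_left
  have hAX : A ≤ X := le_sup_right
  have hXn : X ≤ Subgroup.normalizer (K : Set G) := sup_le Subgroup.le_normalizer hAK
  have hKn : (K.subgroupOf X).Normal := Subgroup.normal_subgroupOf_of_le_normalizer hXn
  set π := QuotientGroup.mk' (K.subgroupOf X) with hπ
  have hsurj : Function.Surjective π := QuotientGroup.mk'_surjective _
  have htop : (A.subgroupOf X).map π = ⊤ := by
    have h1 : Subgroup.comap π ((A.subgroupOf X).map π) = ⊤ := by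
      rw [Subgroup.comap_map_eq, QuotientGroup.ker_mk', ← Subgroup.subgroupOf_sup hAX hKX,
        sup_comm, Subgroup.subgroupOf_self]
    have h2 := Subgroup.map_comap_eq_self_of_surjective hsurj ((A.subgroupOf X).map π)
    rw [h1, Subgroup.map_top_of_surjective π hsurj] at h2
    exact h2.symm
  have hA' : IsPGroup p ↥((A.subgroupOf X).map π) := (hA.comap_subtype (K := X)).map π
  -- π ⟨g, hg⟩ has p-power order
  have hmem : π ⟨g, hg⟩ ∈ (A.subgroupOf X).map π := by rw [htop]; exact Subgroup.mem_top _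
  obtain ⟨k, hk⟩ := hA' ⟨π ⟨g, hg⟩, hmem⟩
  have hk' : (π ⟨g, hg⟩) ^ (p ^ k) = 1 := by
    have := congrArg Subtype.val hk
    simpa using this
  have hn' : (π ⟨g, hg⟩) ^ (orderOf g) = 1 := by
    rw [← map_pow]
    have : (⟨g, hg⟩ : X) ^ orderOf g = 1 := by
      apply Subtype.ext
      simp [pow_orderOf_eq_one]
    rw [this, map_one]
  have hgcd : (π ⟨g, hg⟩) ^ (Nat.gcd (p ^ k) (orderOf g)) = 1 := pow_gcd_eq_one.mpr ⟨hk', hn'⟩
  have hcop : Nat.gcd (p ^ k) (orderOf g) = 1 := by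
    have : (orderOf g).Coprime (p ^ k) := Nat.Coprime.pow_right k hgo
    exact this.symm
  rw [hcop, pow_one] at hgcd
  have : (⟨g, hg⟩ : X) ∈ K.subgroupOf X := (QuotientGroup.eq_one_iff _).mp hgcd
  exact Subgroup.mem_subgroupOf.mp this

theorem result {G : Type*} [Group G] [Finite G] (hL : Cfsg.IsCharacteristicTwoType G) (hN : ∀ N : Subgroup G, Cfsg.IsTwoLocal N → Group.IsSolvable ↥N)
    (hZ : ∀ S : Sylow 2 G, Subgroup.centralizer (Cfsg.omegaCenterOf (S : Subgroup G) : Set G) ≤ Subgroup.normalizer ((S : Subgroup G) : Set G)) (T : Subgroup G) (hT : IsPGroup 2 ↥T) (hT1 : T ≠ ⊥) (K : Subgroup G) (hK : Cfsg.IsJComponent T K)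
    (Q : Subgroup G) (hQ1 : K ⊔ Cfsg.thompsonSubgroupOf 2 T ≤ Subgroup.normalizer (Q : Set G)) (hQ2 : Q ≤ Subgroup.normalizer (Cfsg.thompsonSubgroupOf 2 T : Set G)) :
    Q ≤ Subgroup.normalizer (K : Set G) := by
  classical
  obtain ⟨hKodd, hKJ, -⟩ := hK
  set A : Subgroup G := Cfsg.thompsonSubgroupOf 2 T with hAdef
  have hA2 : IsPGroup 2 ↥A := (hT.to_subgroup _).map T.subtype
  set X : Subgroup G := K ⊔ A with hX
  have hKX : K ≤ X := le_sup_left
  have hAX : A ≤ X := le_sup_right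
  -- A normalizes K
  have hAK : A ≤ Subgroup.normalizer (K : Set G) := by
    have key : ∀ a ∈ A, ∀ k ∈ K, a * k * a⁻¹ ∈ K := by
      intro a ha k hk
      have h1 : ⁅k⁻¹, a⁆ ∈ ⁅K, A⁆ := Subgroup.commutator_mem_commutator (K.inv_mem hk) ha
      rw [hKJ, commutatorElement_def] at h1
      have h2 : k * (k⁻¹ * a * k⁻¹⁻¹ * a⁻¹) ∈ K := K.mul_mem hk h1
      have : k * (k⁻¹ * a * k⁻¹⁻¹ * a⁻¹) = a * k * a⁻¹ := by group
      rwa [this] at h2
    intro a ha
    rw [Subgroup.mem_normalizer_iff]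
    intro k
    constructor
    · exact key a ha k
    · intro h
      have := key a⁻¹ (A.inv_mem ha) _ h
      have h3 : a⁻¹ * (a * k * a⁻¹) * a⁻¹⁻¹ = k := by group
      rwa [h3] at this
  -- The subgroup X₀ of elements of X all of whose Q-conjugates stay in X
  let X₀ : Subgroup G :=
    { carrier := {g | g ∈ X ∧ ∀ q ∈ Q, q * g * q⁻¹ ∈ X}
      mul_mem' := by
        rintro a b ⟨ha, ha'⟩ ⟨hb, hb'⟩
        refine ⟨X.mul_mem ha hb, fun q hq => ?_⟩
        have : q * (a * b) * q⁻¹ = (q * a * q⁻¹) * (q * b * q⁻¹) := by group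
        rw [this]
        exact X.mul_mem (ha' q hq) (hb' q hq)
      one_mem' := ⟨X.one_mem, fun q _ => by simp⟩
      inv_mem' := by
        rintro a ⟨ha, ha'⟩
        refine ⟨X.inv_mem ha, fun q hq => ?_⟩
        have : q * a⁻¹ * q⁻¹ = (q * a * q⁻¹)⁻¹ := by group
        rw [this]
        exact X.inv_mem (ha' q hq) }
  have hX₀mem : ∀ g, g ∈ X₀ ↔ (g ∈ X ∧ ∀ q ∈ Q, q * g * q⁻¹ ∈ X) := fun g => Iff.rfl
  -- X normalizes Q
  have hXQ : ∀ x ∈ X, ∀ q ∈ Q, x⁻¹ * q * x ∈ Q := by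
    intro x hx q hq
    have hxn : x⁻¹ ∈ Subgroup.normalizer (Q : Set G) := hQ1 (X.inv_mem hx)
    have := (Subgroup.mem_normalizer_iff.mp hxn q).mp hq
    simpa using this
  -- A ≤ X₀
  have hAX₀ : A ≤ X₀ := by
    intro a ha
    refine ⟨hAX ha, fun q hq => hAX ?_⟩
    exact (Subgroup.mem_normalizer_iff.mp (hQ2 hq) a).mp ha
  -- X₀ is closed under conjugation by X
  have hX₀conj : ∀ x ∈ X, ∀ g ∈ X₀, x * g * x⁻¹ ∈ X₀ := by
    rintro x hx g ⟨hg, hg'⟩
    refine ⟨X.mul_mem (X.mul_mem hx hg) (X.inv_mem hx), fun q hq => ?_⟩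
    have h1 := hg' (x⁻¹ * q * x) (hXQ x hx q hq)
    have h2 : q * (x * g * x⁻¹) * q⁻¹ = x * ((x⁻¹ * q * x) * g * (x⁻¹ * q * x)⁻¹) * x⁻¹ := by group
    rw [h2]
    exact X.mul_mem (X.mul_mem hx h1) (X.inv_mem hx)
  -- K ≤ X₀
  have hKX₀ : K ≤ X₀ := by
    have : ⁅K, A⁆ ≤ X₀ := by
      rw [Subgroup.commutator_le]
      intro k hk a ha
      rw [commutatorElement_def]
      have h1 : k * a * k⁻¹ ∈ X₀ := hX₀conj k (hKX hk) a (hAX₀ ha)
      exact X₀.mul_mem h1 (X₀.inv_mem (hAX₀ ha))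
    rwa [hKJ] at this
  have hXX₀ : X ≤ X₀ := sup_le hKX₀ hAX₀
  have hQX : ∀ q ∈ Q, ∀ g ∈ X, q * g * q⁻¹ ∈ X := fun q hq g hg => (hXX₀ hg).2 q hq
  -- K is generated by the odd order elements of X
  have hKgen : K = Subgroup.closure {g : G | g ∈ X ∧ Odd (orderOf g)} := by
    apply le_antisymm
    · conv_lhs => rw [← hKodd]
      apply Subgroup.closure_mono
      rintro g ⟨hg, hgo⟩
      exact ⟨hKX hg, hgo⟩
    · rw [Subgroup.closure_le]
      rintro g ⟨hg, hgo⟩
      have : Fact (Nat.Prime 2) := ⟨Nat.prime_two⟩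
      refine mem_of_coprime_of_mem_sup (p := 2) K A hA2 hAK g hg ?_
      exact (Odd.coprime_two_left hgo).symm
  -- conclude
  have hstab : ∀ q ∈ Q, ∀ k ∈ K, q * k * q⁻¹ ∈ K := by
    intro q hq k hk
    have hle : K ≤ K.comap (MulAut.conj q).toMonoidHom := by
      conv_lhs => rw [hKgen]
      rw [Subgroup.closure_le]
      rintro g ⟨hg, hgo⟩
      show (MulAut.conj q) g ∈ K
      rw [hKgen]
      apply Subgroup.subset_closure
      refine ⟨by simpa [MulAut.conj_apply] using hQX q hq g hg, ?_⟩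
      rw [MulEquiv.orderOf_eq]
      exact hgo
    have := hle hk
    simpa [MulAut.conj_apply] using this
  intro q hq
  rw [Subgroup.mem_normalizer_iff]
  intro k
  constructor
  · exact hstab q hq k
  · intro h
    have := hstab q⁻¹ (Q.inv_mem hq) _ h
    have h3 : q⁻¹ * (q * k * q⁻¹) * q⁻¹⁻¹ = k := by group
    rwa [h3] at this

end Cfsg.Agent.S2941
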