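import Cfsg.Statements.S5329
import Cfsg.Agent.Lib.Helper87.BisetFocal
import Cfsg.Agent.Lib.Helper90.FusionCenter

set_option autoImplicit false
open Cfsg

namespace Cfsg.Agent.S5329

open Cfsg.FusionSystem Cfsg.Agent.Lib.Helper87

/-- The derived subgroup of `S` lies in the focal subgroup. -/
theorem commutator_le_focal {Ω : Type*} [Group Ω] {S : Subgroup Ω} (F : Cfsg.FusionSystem S) :
    ⁅(S : Subgroup Ω), (S : Subgroup Ω)⁆ ≤ F.focalSubgroup := by
  rw [Subgroup.commutator_le]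
  intro a ha b hb
  apply Subgroup.subset_closure
  refine ⟨S, conjHom S b, ⟨a⁻¹, S.inv_mem ha⟩, F.conj_mem le_rfl hb, ?_⟩
  rw [commutatorElement_def]
  show a * b * a⁻¹ * b⁻¹ = (a⁻¹)⁻¹ * (b * a⁻¹ * b⁻¹)
  group

/-- The key inclusion: an element of the centre of the system lying in the focal subgroup lies in the derived subgroup. -/
theorem mem_commutator_of_mem_focal_center {Ω : Type*} [Group Ω] {S : Subgroup Ω} [Finite S] (p : ℕ) [Fact p.Prime]
    (hS : IsPGroup p S) (F : Cfsg.FusionSystem S) (hF : F.IsSaturated p) {z : Ω} (hzf : z ∈ F.focalSubgroup)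
    (hzc : z ∈ F.center) : z ∈ ⁅(S : Subgroup Ω), (S : Subgroup Ω)⁆ := by
  classical
  obtain ⟨m, hm, hbal, k, hk, hpk⟩ := exists_characteristic_bset p hS F hF
  have hfree : ∀ (t : ↥S) (x : BSet m), (((1 : ↥S), t) : ↥S × ↥S) • x = x → t = 1 := bset_free F m hm
  have hcen : F.IsCentral F.center := Cfsg.Agent.Lib.Helper88.isCentral_center F
  have hzSZ := Cfsg.Agent.Lib.Helper90.IsCentral.le_center F hcen hzc
  have hzS : z ∈ S := hzSZ.1
  have hzcent : (⟨z, hzS⟩ : ↥S) ∈ Subgroup.center ↥S := by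
    rw [Subgroup.mem_center_iff]
    intro g
    apply Subtype.ext
    have := (Subgroup.mem_centralizer_iff.mp hzSZ.2) g g.2
    exact this
  set zc : Subgroup.center ↥S := ⟨⟨z, hzS⟩, hzcent⟩ with hzc'
  set ζ : rightAut ↥S (BSet m) := centralAut zc with hζ
  -- the powers of `ζ` never move a point inside its orbit
  have hζfree : IsOrbFree ζ := by
    intro n x t h
    rw [hζ, pw_centralAut] at h
    set w : ↥S := ((zc ^ n : Subgroup.center ↥S) : ↥S) with hw
    have hwΩ : (w : Ω) ∈ F.center := by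
      have : (w : Ω) = z ^ n := by
        rw [hw, Subgroup.coe_zpow, Subgroup.coe_zpow]
      rw [this]; exact Subgroup.zpow_mem _ hzc n
    have hst : ((w, t⁻¹ * w) : ↥S × ↥S) ∈ MulAction.stabilizer (↥S × ↥S) x := by
      rw [MulAction.mem_stabilizer_iff]
      have : ((w, t⁻¹ * w) : ↥S × ↥S) = (((1 : ↥S), t⁻¹) : ↥S × ↥S) * ((w, w) : ↥S × ↥S) := by simp
      rw [this, mul_smul, h, smul_smul]
      have : ((((1 : ↥S), t⁻¹) : ↥S × ↥S) * (((1 : ↥S), t) : ↥S × ↥S)) = 1 := by simp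
      rw [this, one_smul]
    have htw : MulAction.stabilizer (↥S × ↥S) x ∈ twisted F :=
      bset_stabilizer_mem (twisted F) (fun K D h hK => twisted_of_sconj F h hK) m hm x
    obtain ⟨R, ρ, hρ, hD⟩ := htw
    obtain ⟨r, e1, e2⟩ := (hD _).mp hst
    have e1' : (w : Ω) = ρ r := e1
    have e2' : ((t⁻¹ * w : ↥S) : Ω) = r := e2
    obtain ⟨ψ, hψ, hψ1, hψ2⟩ := hcen.2 R ρ hρ
    have h1 := hψ1 r
    have h2 := hψ2 ⟨w, hwΩ⟩
    have h3 : Subgroup.inclusion (le_sup_left : R ≤ R ⊔ F.center) r =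
        Subgroup.inclusion (le_sup_right : F.center ≤ R ⊔ F.center) ⟨w, hwΩ⟩ := by
      apply F.injective_of_mem hψ
      rw [h1, h2, ← e1']
    have h4 : (r : Ω) = w := congrArg (fun y : ↥(R ⊔ F.center) => (y : Ω)) h3
    have h5 : ((t⁻¹ * w : ↥S) : Ω) = w := by rw [e2', h4]
    have h6 : t⁻¹ * w = w := Subtype.ext h5
    have h7 : t⁻¹ = 1 := mul_right_cancel (h6.trans (one_mul w).symm)
    exact inv_eq_one.mp h7
  obtain ⟨σ, hσ, hσζ⟩ := exists_adapted_section ζ hζfree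
  haveI : Fintype (RightOrb ↥S (BSet m)) := Fintype.ofFinite _
  set κ : ↥S →* Abelianization ↥S := Abelianization.of with hκ
  set τ := transferHom hσ hfree κ with hτ
  set t : ↥S →* Abelianization ↥S := τ.comp (leftHom ↥S (BSet m)) with ht
  -- `t` is stable
  have hstable : ∀ (P : Subgroup Ω) (φ : P →* Ω) (hφ : φ ∈ F.Hom P) (u : P),
      t ⟨φ u, hom_mem F hφ u⟩ = t ⟨u, hom_le F hφ u.2⟩ := by
    intro P φ hφ u
    obtain ⟨g, hg⟩ := exists_conj_of_balanced F m hm hbal (hom_le F hφ) hφ (hom_mem F hφ)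
    show τ (leftHom ↥S (BSet m) ⟨φ u, _⟩) = τ (leftHom ↥S (BSet m) ⟨u, _⟩)
    rw [hg u, map_mul, map_mul, map_inv, mul_comm, ← mul_assoc, inv_mul_cancel, one_mul]
  -- the focal subgroup lies in the kernel
  have hfoc : F.focalSubgroup ≤ t.ker.map S.subtype := by
    unfold focalSubgroup
    rw [Subgroup.closure_le]
    rintro y ⟨P, φ, x, hφ, rfl⟩
    refine ⟨⟨x, hom_le F hφ x.2⟩⁻¹ * ⟨φ x, hom_mem F hφ x⟩, ?_, rfl⟩
    show t _ = 1
    rw [map_mul, map_inv, hstable P φ hφ x, inv_mul_cancel]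
  obtain ⟨z', hz'ker, hz'z⟩ := hfoc hzf
  have hz' : z' = ⟨z, hzS⟩ := Subtype.ext hz'z
  rw [hz'] at hz'ker
  have htz : t ⟨z, hzS⟩ = 1 := hz'ker
  -- the value of `t` at `z`
  have hval : t ⟨z, hzS⟩ = (κ ⟨z, hzS⟩ ^ Fintype.card (RightOrb ↥S (BSet m)))⁻¹ := by
    show τ (leftHom ↥S (BSet m) ((zc : Subgroup.center ↥S) : ↥S)) = _
    rw [leftHom_eq_central, map_mul, map_inv, hτ, transferHom_eq_one_of_section hσ hfree κ ζ hσζ,
      transferHom_rightCentral hσ hfree κ zc, one_mul]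
  rw [hval, inv_eq_one, ← map_pow] at htz
  -- the number of orbits
  have hcardI : Fintype.card (RightOrb ↥S (BSet m)) = k := by
    have h1 := card_eq_card_rightOrb_mul hσ hfree
    rw [hk, mul_comm, Nat.card_eq_fintype_card (α := RightOrb ↥S (BSet m))] at h1
    exact (Nat.eq_of_mul_eq_mul_right Nat.card_pos h1).symm
  rw [hcardI] at htz
  have hmem : (⟨z, hzS⟩ : ↥S) ^ k ∈ commutator ↥S := by
    rw [← Abelianization.ker_of]
    exact htz
  -- `z` is a power of `z ^ k`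
  have hcop : k.Coprime (orderOf (⟨z, hzS⟩ : ↥S)) := by
    obtain ⟨e, he⟩ := (IsPGroup.iff_orderOf.mp hS) ⟨z, hzS⟩
    rw [he]
    apply Nat.Coprime.pow_right
    exact ((Nat.Prime.coprime_iff_not_dvd (Fact.out : p.Prime)).mpr hpk).symm
  obtain ⟨j, hj⟩ := exists_pow_eq_self_of_coprime hcop
  have hzcomm : (⟨z, hzS⟩ : ↥S) ∈ commutator ↥S := by
    rw [← hj]; exact Subgroup.pow_mem _ hmem j
  have hmap : (commutator ↥S).map S.subtype = ⁅(S : Subgroup Ω), (S : Subgroup Ω)⁆ := by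
    rw [commutator_def, Subgroup.map_commutator, ← MonoidHom.range_eq_map, Subgroup.range_subtype]
  rw [← hmap]
  exact ⟨⟨z, hzS⟩, hzcomm, rfl⟩

/-- For a saturated fusion system F over a finite p-group S, the focal subgroup and the derived subgroup of S meet the centre Z(F) of the system in the same subgroup: foc(F) ∩ Z(F) = S′ ∩ Z(F). -/
theorem result {Ω : Type*} [Group Ω] {S : Subgroup Ω} [Finite S] (p : ℕ) [Fact p.Prime] (hS : IsPGroup p S) (F : Cfsg.FusionSystem S) (hF : F.IsSaturated p) : F.focalSubgroup ⊓ F.center = ⁅(S : Subgroup Ω), (S : Subgroup Ω)⁆ ⊓ F.center := by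
  apply le_antisymm
  · rintro z ⟨hzf, hzc⟩
    exact ⟨mem_commutator_of_mem_focal_center p hS F hF hzf hzc, hzc⟩
  · exact inf_le_inf_right _ (commutator_le_focal F)

end Cfsg.Agent.S5329
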