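import Cfsg.Statements.S3888
import Cfsg.Agent.Lib.Helper68.Rank2StepA
import Cfsg.Agent.Lib.Helper68.Rank2CaseII
import Cfsg.Agent.Lib.Helper68.Rank2Reg

set_option autoImplicit false
open Cfsg

namespace Cfsg.Agent.S3888

/-- The classification of the p-groups of rank at most two for odd p. Let p be an odd prime and G a group of order p^n with no elementary abelian subgroup of order p³. Then one of the following holds: G is metacyclic; n ≥ 3 and G is generated by elements x, y, z with x^p = y^p = z^(p^(n−2)) = 1, z commuting with x and y, and x⁻¹yx = y z^(p^(n−3)); n ≥ 4 and G is generated by elements x, y, z with x^p = y^p = z^(p^(n−2)) = 1, yz = zy, x⁻¹yx = y z^(s p^(n−3)) and x⁻¹zx = yz, where s = 1 or s is a quadratic non-residue modulo p; or p = 3 and G has maximal class (nilpotency class n − 1). -/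
theorem result {G : Type*} [Group G] [Finite G] {p : ℕ} [Fact p.Prime] (hp : p ≠ 2) (n : ℕ) (hG : Nat.card G = p ^ n)
    (hrk : Cfsg.PRankLE p 2 G) :
    Cfsg.IsMetacyclic G ∨
    (3 ≤ n ∧ ∃ x y z : G, Subgroup.closure ({x, y, z} : Set G) = ⊤ ∧ x ^ p = 1 ∧ y ^ p = 1 ∧ z ^ p ^ (n - 2) = 1 ∧
        x * z = z * x ∧ y * z = z * y ∧ x⁻¹ * y * x = y * z ^ p ^ (n - 3)) ∨
    (4 ≤ n ∧ ∃ (s : ℕ) (x y z : G), (s = 1 ∨ ¬ IsSquare (s : ZMod p)) ∧ Subgroup.closure ({x, y, z} : Set G) = ⊤ ∧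
        x ^ p = 1 ∧ y ^ p = 1 ∧ z ^ p ^ (n - 2) = 1 ∧ y * z = z * y ∧ x⁻¹ * y * x = y * z ^ (s * p ^ (n - 3)) ∧
        x⁻¹ * z * x = y * z) ∨
    (p = 3 ∧ 2 ≤ n ∧ (⊤ : Subgroup G).lowerCentralSeries (n - 2) ≠ ⊥) := by
  have hpp := (Fact.out : p.Prime)
  have hPG : IsPGroup p G := IsPGroup.of_card hG
  by_cases hcyc : IsCyclic G
  · exact Or.inl (Cfsg.Agent.Lib.Helper68.R2.isMetacyclic_of_isCyclic hcyc)
  have hcyc' : ¬ IsCyclic (⊤ : Subgroup G) := by
    intro h
    apply hcyc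
    exact isCyclic_of_surjective (Subgroup.topEquiv (G := G)).toMonoidHom
      (Subgroup.topEquiv (G := G)).surjective
  obtain ⟨N, -, hNn, hNexp, hNcard⟩ :=
    Cfsg.Agent.Lib.Helper26.exists_normal_exp_p_sq hp hPG ⊤ hcyc'
  have hN0 : N ≠ ⊥ := by
    intro h
    rw [h, Subgroup.card_bot] at hNcard
    have : 1 < p ^ 2 := Nat.one_lt_pow (by norm_num) hpp.one_lt
    omega
  obtain ⟨z₀, hz₀N, hz₀c, hz₀o⟩ := Cfsg.Agent.Lib.Helper26.exists_central_order_p hPG N hN0
  by_cases hE : ∃ E : Subgroup G, E.Normal ∧ Nat.card E = p ^ 3 ∧ ∀ e ∈ E, e ^ p = 1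
  · obtain ⟨E, hEn, hEcard, hEexp⟩ := hE
    obtain ⟨S, -⟩ := Cfsg.Agent.Lib.Helper68.R2.exists_ES hp hPG hrk E hEcard hEexp
    rcases S.typeCD n hG with h | h
    · exact Or.inr (Or.inl h)
    · exact Or.inr (Or.inr (Or.inl h))
  by_cases hp3 : p = 3
  · by_cases hall : ∀ x : G, x ^ p = 1 → x ∈ N
    · rcases Cfsg.Agent.Lib.Helper68.R2.thmK hp n hG N hNcard.le hall with h | ⟨h1, h2⟩
      · exact Or.inl h
      · exact Or.inr (Or.inr (Or.inr ⟨hp3, h1, h2⟩))
    · push Not at hall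
      obtain ⟨x, hx, hxN⟩ := hall
      obtain ⟨h1, h2⟩ :=
        Cfsg.Agent.Lib.Helper68.R2.caseII hp n hG hrk N hNcard hNexp hE x hx hxN
      exact Or.inr (Or.inr (Or.inr ⟨hp3, h1, h2⟩))
  · have hp5 : 5 ≤ p := by
      have h2 := hpp.two_le
      have h4 : p ≠ 4 := by
        intro h
        rw [h] at hpp
        exact absurd hpp (by norm_num)
      omega
    have hNcomm := Cfsg.Agent.Lib.Helper68.R2.N_comm N hNcard z₀ hz₀N hz₀o
    have hNT : N ≤ Subgroup.centralizer (N : Set G) := by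
      intro a ha
      rw [Subgroup.mem_centralizer_iff]
      intro b hb
      exact hNcomm b hb a ha
    have hom : ∀ t : Subgroup.centralizer (N : Set G), t ^ p = 1 → (t : G) ∈ N := by
      intro t ht
      apply Cfsg.Agent.Lib.Helper68.R2.mem_of_comm_of_prank hrk N hNcard hNexp hNcomm (t : G)
      · have := congrArg Subtype.val ht
        simpa using this
      · intro a ha
        exact Subgroup.mem_centralizer_iff.mp t.2 a ha
    have hTc : Cfsg.Agent.Lib.Helper68.R2.PCentral p (Subgroup.centralizer (N : Set G)) := by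
      intro t ht
      rw [Subgroup.mem_center_iff]
      intro s
      apply Subtype.ext
      have := Subgroup.mem_centralizer_iff.mp s.2 (t : G) (hom t ht)
      simpa using this.symm
    have hTm : Cfsg.IsMetacyclic (Subgroup.centralizer (N : Set G)) := by
      apply Cfsg.Agent.Lib.Helper68.R2.isMetacyclic_of_pcentral' hp
        (hPG.to_subgroup _) hTc (N.subgroupOf (Subgroup.centralizer (N : Set G)))
      · intro t ht
        rw [Subgroup.mem_subgroupOf]
        exact hom t ht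
      · rw [Nat.card_congr (Subgroup.subgroupOfEquivOfLe hNT).toEquiv, hNcard]
    rcases Cfsg.Agent.Lib.Helper68.R2.meta_or_E_of_ge_five hp hPG hp5 hrk N hNcard hNexp z₀ hz₀N
      hz₀c hz₀o hTm with h | h
    · exact Or.inl h
    · exact absurd h hE

end Cfsg.Agent.S3888
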