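import Cfsg.Statements.S2827
import Cfsg.Agent.Lib.Helper54.Minimal

set_option autoImplicit false
open Cfsg
open scoped commutatorElement

namespace Cfsg.Agent.S2827

open Cfsg.Agent.Lib.Helper54

/-- Let H be a finite p-irreducible group (not p-closed, and O^p(H) lies in every normal subgroup that is not p-closed) and T a Sylow p-subgroup. Then H is generated by the conjugates of T and H = H'·T; O^p(H) ≤ H'; and for every normal subgroup Y of T not contained in O_p(H), O^p(H) = [O^p(H), Y] and O^p(H) is contained in the normal closure of Y in H. -/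
theorem result {H : Type*} [Group H] [Finite H] {p : ℕ} [Fact p.Prime] (hH : Cfsg.IsPIrreducible p H) (T : Sylow p H) : Subgroup.normalClosure ((T : Subgroup H) : Set H) = ⊤ ∧ commutator H ⊔ (T : Subgroup H) = ⊤ ∧ Cfsg.pResidual p H ≤ commutator H ∧ ∀ Y : Subgroup H, Y ≤ (T : Subgroup H) → (T : Subgroup H) ≤ Subgroup.normalizer (Y : Set H) → ¬ Y ≤ Cfsg.pCore p H → ⁅Cfsg.pResidual p H, Y⁆ = Cfsg.pResidual p H ∧ Cfsg.pResidual p H ≤ Subgroup.normalClosure (Y : Set H) := by
  have h1 : Subgroup.normalClosure ((T : Subgroup H) : Set H) = ⊤ :=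
    eq_top_of_sylow_le_of_isPIrreducible hH T Subgroup.normalClosure_normal
      Subgroup.le_normalClosure
  have h2 : commutator H ⊔ (T : Subgroup H) = ⊤ :=
    eq_top_of_sylow_le_of_isPIrreducible hH T
      (Subgroup.Normal.of_commutator_le H le_sup_left) le_sup_right
  have h3 : Cfsg.pResidual p H ≤ commutator H :=
    pResidual_le_of_sup_eq_top T.isPGroup' h2
  refine ⟨h1, h2, h3, ?_⟩
  intro Y hYT hTY hYO
  have hYp : IsPGroup p ↥Y := T.isPGroup'.to_le hYT
  have hRn : (Cfsg.pResidual p H).Normal := pResidual_normal p H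
  set R := Cfsg.pResidual p H with hR
  have hRT : R ⊔ (T : Subgroup H) = ⊤ := pResidual_sup_sylow T
  -- second claim
  have hb : R ≤ Subgroup.normalClosure (Y : Set H) := by
    apply hH.2 _ Subgroup.normalClosure_normal
    intro hcl
    exact hYO (le_pCore_of_isPClosed_normal hcl hYp Subgroup.le_normalClosure)
  refine ⟨?_, hb⟩
  set D := ⁅R, Y⁆ with hD
  have hDR : D ≤ R := Subgroup.commutator_le_left R Y
  -- T normalises D
  have hRmap : ∀ g : H, R.map (MulAut.conj g).toMonoidHom = R := fun g =>
    map_conj_eq_of_mem_normalizer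
      (by rw [Subgroup.normalizer_eq_top_iff.2 hRn]; exact Subgroup.mem_top _)
  have hTD : (T : Subgroup H) ≤ Subgroup.normalizer (D : Set H) := by
    intro t ht
    apply mem_normalizer_of_map_conj_eq
    rw [hD, Subgroup.map_commutator, hRmap, map_conj_eq_of_mem_normalizer (hTY ht)]
  have hRD : R ≤ Subgroup.normalizer (D : Set H) := Subgroup.normalizer_commutator_ge_left R Y
  -- E = Y ⊔ D is normal
  have hTE : (T : Subgroup H) ≤ Subgroup.normalizer ((Y ⊔ D : Subgroup H) : Set H) := by
    intro t ht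
    apply mem_normalizer_of_map_conj_eq
    rw [Subgroup.map_sup, map_conj_eq_of_mem_normalizer (hTY ht),
      map_conj_eq_of_mem_normalizer (hTD ht)]
  have hRE : R ≤ Subgroup.normalizer ((Y ⊔ D : Subgroup H) : Set H) := by
    apply le_normalizer_of_map_conj_le
    intro r hr
    rw [Subgroup.map_sup, map_conj_eq_of_mem_normalizer (hRD hr)]
    apply sup_le _ le_sup_right
    rintro _ ⟨y, hy, rfl⟩
    have h4 : (MulAut.conj r).toMonoidHom y = ⁅r, y⁆ * y := by
      simp [commutatorElement_def, mul_assoc]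
    rw [h4]
    exact Subgroup.mul_mem _ (le_sup_right (a := Y) (Subgroup.commutator_mem_commutator hr hy))
      (le_sup_left (b := D) hy)
  have hEn : (Y ⊔ D : Subgroup H).Normal := by
    rw [← Subgroup.normalizer_eq_top_iff, eq_top_iff, ← hRT]
    exact sup_le hRE hTE
  have hEncl : ¬ IsPClosed p ↥(Y ⊔ D : Subgroup H) := by
    intro hcl
    exact hYO (le_pCore_of_isPClosed_normal hcl hYp le_sup_left)
  have hRE' : R ≤ Y ⊔ D := hH.2 _ hEn hEncl
  have hDn : D.Normal := by
    rw [← Subgroup.normalizer_eq_top_iff, eq_top_iff, ← hRT]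
    exact sup_le hRD hTD
  have hDT : D ⊔ (T : Subgroup H) = ⊤ := by
    rw [eq_top_iff, ← hRT]
    apply sup_le _ le_sup_right
    exact hRE'.trans (sup_le (hYT.trans le_sup_right) le_sup_left)
  exact le_antisymm hDR (pResidual_le_of_sup_eq_top T.isPGroup' hDT)

end Cfsg.Agent.S2827
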