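import Cfsg.Statements.S2831
import Cfsg.Agent.Lib.Helper54.Minimal

set_option autoImplicit false
open Cfsg
open scoped commutatorElement

namespace Cfsg.Agent.S2831

open Cfsg.Agent.Lib.Helper54

/-- Let H be a finite group with Sylow p-subgroup T such that H is T-minimal (H is generated by the conjugates of T and T lies in exactly one maximal subgroup of H). Then H is p-irreducible: H is not p-closed and O^p(H) lies in every normal subgroup of H that is not p-closed. -/
theorem result {H : Type*} [Group H] [Finite H] {p : ℕ} [Fact p.Prime] (T : Sylow p H) (hmin : Cfsg.IsMinimalOver (T : Subgroup H)) : Cfsg.IsPIrreducible p H := by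
  have hmin' := hmin
  obtain ⟨hnc, M, ⟨hMco, hTM⟩, hMuniq⟩ := hmin
  constructor
  · intro hcl
    exact minimalOver_not_normal hmin' (hcl T)
  · intro N hN hNc
    have hTnorm : (T : Subgroup H) ≤
        Subgroup.normalizer ((((T : Subgroup H) ⊓ N : Subgroup H)) : Set H) := by
      refine le_trans ?_ Subgroup.inf_normalizer_le_normalizer_inf
      exact le_inf Subgroup.le_normalizer
        (by rw [Subgroup.normalizer_eq_top_iff.2 hN]; exact le_top)
    have h1 : N ⊔ (T : Subgroup H) = ⊤ := by
      by_contra hne
      have hNTM : N ⊔ (T : Subgroup H) ≤ M :=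
        minimalOver_le_coatom hmin' hMco hTM le_sup_right hne
      have h2 := normalizer_inf_sup_eq_top T N
      by_cases h3 : Subgroup.normalizer ((((T : Subgroup H) ⊓ N : Subgroup H)) : Set H) = ⊤
      · have h4 : ((T : Subgroup H) ⊓ N).Normal := Subgroup.normalizer_eq_top_iff.1 h3
        obtain ⟨P, hP⟩ := exists_sylow_eq_subgroupOf_of_normal T N
        apply hNc
        apply isPClosed_of_normal P
        rw [hP, ← Subgroup.inf_subgroupOf_right]
        exact Subgroup.Normal.subgroupOf h4 N
      · have h5 := minimalOver_le_coatom hmin' hMco hTM hTnorm h3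
        have h6 : (⊤ : Subgroup H) ≤ M := by
          rw [← h2]
          exact sup_le h5 (le_sup_left.trans hNTM)
        exact hMco.1 (top_le_iff.1 h6)
    exact pResidual_le_of_sup_eq_top T.isPGroup' h1

end Cfsg.Agent.S2831
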