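import Cfsg.Statements.S2840
import Cfsg.Agent.Lib.Helper54.WeaklyClosed

set_option autoImplicit false
open Cfsg

namespace Cfsg.Agent.S2840

open Cfsg.Agent.Lib.Helper54

/-- Let Q be a nontrivial p-subgroup of the finite group H that is a weakly closed subgroup and K a subgroup containing Q; let K° be the weak closure of Q in K (generated by the H-conjugates of Q inside K). Then K° is generated by the K-conjugates of Q, and K° is the subnormal closure of Q in K. -/
theorem result {H : Type*} [Group H] [Finite H] {p : ℕ} [Fact p.Prime] (Q : Subgroup H) (hQp : IsPGroup p ↥Q) (hQ1 : Q ≠ ⊥) (hwc : Cfsg.IsWeaklyClosedSubgroup p Q) (K : Subgroup H) (hQK : Q ≤ K) (Kc : Subgroup H) (hKc : Kc = Cfsg.weakClosure Q K) : Kc = ⨆ k : ↥K, ((Q : Subgroup H).map (MulAut.conj ((k : H) : H)).toMonoidHom) ∧ Kc = (Cfsg.subnormalClosure (Q.subgroupOf K)).map K.subtype := by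
  have hconjK : ∀ k : ↥K, Q.map (MulAut.conj (k : H)).toMonoidHom ≤ K := by
    rintro k _ ⟨q, hq, rfl⟩
    exact K.mul_mem (K.mul_mem k.2 (hQK hq)) (K.inv_mem k.2)
  have h1 : Kc = ⨆ k : ↥K, ((Q : Subgroup H).map (MulAut.conj ((k : H) : H)).toMonoidHom) := by
    rw [hKc]
    unfold Cfsg.weakClosure
    apply le_antisymm
    · apply iSup_le
      rintro ⟨g, hg⟩
      obtain ⟨k, hk, hk2⟩ := exists_conj_eq_of_le hQp hwc hQK hg
      show Q.map (MulAut.conj g).toMonoidHom ≤ _
      rw [hk2]
      exact le_iSup (fun k : ↥K => Q.map (MulAut.conj (k : H)).toMonoidHom) ⟨k, hk⟩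
    · apply iSup_le
      intro k
      exact le_iSup (fun g : {g : H // Q.map (MulAut.conj g).toMonoidHom ≤ K} =>
        Q.map (MulAut.conj (g : H)).toMonoidHom) ⟨(k : H), hconjK k⟩
  refine ⟨h1, ?_⟩
  rw [h1]
  set W := ⨆ k : ↥K, ((Q : Subgroup H).map (MulAut.conj ((k : H) : H)).toMonoidHom) with hW
  have hWK : W ≤ K := iSup_le hconjK
  have hQW : Q ≤ W := by
    have := le_iSup (fun k : ↥K => Q.map (MulAut.conj (k : H)).toMonoidHom) (1 : ↥K)
    have e : Q.map (MulAut.conj (((1 : ↥K) : H))).toMonoidHom = Q := by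
      rw [Subgroup.coe_one, map_conj_one]
    simp only [e] at this
    exact this
  have hKW : K ≤ Subgroup.normalizer (W : Set H) := by
    apply le_normalizer_of_map_conj_le
    intro k hk
    rw [hW, Subgroup.map_iSup]
    apply iSup_le
    intro k₁
    rw [← map_conj_mul]
    exact le_iSup (fun k : ↥K => Q.map (MulAut.conj (k : H)).toMonoidHom) (⟨k, hk⟩ * k₁)
  have hWn : (W.subgroupOf K).Normal :=
    (Subgroup.normal_subgroupOf_iff_le_normalizer hWK).2 hKW
  have hwcK := isWeaklyClosedSubgroup_subgroupOf hQp hwc hQK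
  have hQKp : IsPGroup p ↥(Q.subgroupOf K) :=
    hQp.comap_of_injective K.subtype K.subtype_injective
  apply le_antisymm
  · apply iSup_le
    intro k y hy
    have hyK : y ∈ K := hconjK k hy
    refine ⟨⟨y, hyK⟩, ?_, rfl⟩
    unfold Cfsg.subnormalClosure
    show (⟨y, hyK⟩ : ↥K) ∈ sInf {K_1 | Q.subgroupOf K ≤ K_1 ∧ K_1.IsSubnormal}
    rw [Subgroup.mem_sInf]
    rintro S ⟨hQS, hS⟩
    have := map_conj_le_of_isSubnormal hQKp hwcK hS hQS k
    apply this
    rw [subgroupOf_map_conj, Subgroup.mem_subgroupOf]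
    exact hy
  · have h2 : Cfsg.subnormalClosure (Q.subgroupOf K) ≤ W.subgroupOf K := by
      unfold Cfsg.subnormalClosure
      apply sInf_le
      refine ⟨?_, hWn.isSubnormal⟩
      intro x hx
      rw [Subgroup.mem_subgroupOf] at hx ⊢
      exact hQW hx
    refine (Subgroup.map_mono h2).trans ?_
    rw [Subgroup.subgroupOf_map_subtype]
    exact inf_le_left

end Cfsg.Agent.S2840
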