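import Cfsg.Statements.S1462
import Cfsg.Agent.Lib.Helper56.AxB
import Cfsg.Agent.Lib.Helper32.OddFix
import Cfsg.Agent.Lib.Helper32.PLength
import Cfsg.Agent.Lib.Helper61.SolvableCore
import Cfsg.Agent.Lib.Helper81.PSolvable
import Cfsg.Agent.Lib.Helper54.Basic
import Cfsg.Agent.Lib.Helper54.Conj

set_option autoImplicit false
open Cfsg

namespace Cfsg.Agent.S1462

open Cfsg.Agent.Lib

/-- an element of a `p`-group lying in a subgroup of order prime to `p` is trivial -/
theorem eq_one_of_mem_pgroup_of_mem_coprime {G : Type*} [Group G] [Finite G] {p : ℕ} [Fact p.Prime]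
    {B N : Subgroup G} (hB : IsPGroup p ↥B) (hN : (Nat.card N).Coprime p) {z : G}
    (hzB : z ∈ B) (hzN : z ∈ N) : z = 1 := by
  obtain ⟨k, hk⟩ := hB ⟨z, hzB⟩
  have h1 : z ^ (p ^ k) = 1 := by
    have := congrArg Subtype.val hk
    simpa using this
  have h2 : orderOf z ∣ p ^ k := orderOf_dvd_of_pow_eq_one h1
  have h3 : orderOf z ∣ Nat.card N := by
    have : orderOf (⟨z, hzN⟩ : ↥N) ∣ Nat.card N := orderOf_dvd_natCard _
    rwa [Subgroup.orderOf_mk] at this
  have h4 : orderOf z = 1 := Nat.eq_one_of_dvd_coprimes (hN.pow_right k) h3 h2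
  exact orderOf_eq_one_iff.1 h4

/-- key claim: an element of order dividing `p` of the quotient commuting with the image of the
maximal elementary abelian subgroup `E` lies in that image. -/
theorem mem_map_of_commute {G : Type*} [Group G] [Finite G] (p : ℕ) [Fact p.Prime]
    (N : Subgroup G) [N.Normal] (hN : (Nat.card N).Coprime p) (E : Subgroup G)
    (hE : Cfsg.IsElementaryAbelian p E)
    (hEmax : ∀ B : Subgroup G, Cfsg.IsElementaryAbelian p B → E ≤ B → B = E)
    (x : G ⧸ N) (hxp : x ^ p = 1)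
    (hxE : ∀ e ∈ E, (QuotientGroup.mk' N e) * x = x * (QuotientGroup.mk' N e)) :
    x ∈ E.map (QuotientGroup.mk' N) := by
  classical
  set π := QuotientGroup.mk' N with hπ
  obtain ⟨hEc, hEp⟩ := hE
  -- generating set
  set k : Set (G ⧸ N) := ((E.map π : Subgroup (G ⧸ N)) : Set (G ⧸ N)) ∪ {x} with hk
  have hkcomm : ∀ a ∈ k, ∀ b ∈ k, a * b = b * a := by
    intro a ha b hb
    rcases ha with ha | ha <;> rcases hb with hb | hb
    · obtain ⟨e, he, rfl⟩ := ha
      obtain ⟨f, hf, rfl⟩ := hb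
      have : e * f = f * e := by
        have := hEc.is_comm.comm ⟨e, he⟩ ⟨f, hf⟩
        exact congrArg Subtype.val this
      rw [← map_mul, ← map_mul, this]
    · obtain ⟨e, he, rfl⟩ := ha
      rw [Set.mem_singleton_iff.1 hb]
      exact hxE e he
    · obtain ⟨f, hf, rfl⟩ := hb
      rw [Set.mem_singleton_iff.1 ha]
      exact (hxE f hf).symm
    · rw [Set.mem_singleton_iff.1 ha, Set.mem_singleton_iff.1 hb]
  set Bbar : Subgroup (G ⧸ N) := Subgroup.closure k with hBbar
  have hcomm : ∀ a ∈ Bbar, ∀ b ∈ Bbar, a * b = b * a := by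
    intro a ha b hb
    have := (Subgroup.isMulCommutative_closure hkcomm).is_comm.comm ⟨a, ha⟩ ⟨b, hb⟩
    exact congrArg Subtype.val this
  have hexp : ∀ a ∈ Bbar, a ^ p = 1 := by
    intro a ha
    induction ha using Subgroup.closure_induction with
    | mem y hy =>
      rcases hy with hy | hy
      · obtain ⟨e, he, rfl⟩ := hy
        rw [← map_pow, hEp e he, map_one]
      · rw [Set.mem_singleton_iff.1 hy]; exact hxp
    | one => exact one_pow _
    | mul y z hy hz ihy ihz =>
      have : Commute y z := hcomm y hy z hz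
      rw [this.mul_pow, ihy, ihz, one_mul]
    | inv y hy ihy => rw [inv_pow, ihy, inv_one]
  have hEB : E.map π ≤ Bbar := fun y hy => Subgroup.subset_closure (Or.inl hy)
  have hxB : x ∈ Bbar := Subgroup.subset_closure (Or.inr rfl)
  -- preimage
  set D : Subgroup G := Bbar.comap π with hD
  have hED : E ≤ D := fun e he => hEB ⟨e, he, rfl⟩
  have hND : N ≤ D := by
    intro n hn
    show π n ∈ Bbar
    have : π n = 1 := (QuotientGroup.eq_one_iff n).2 hn
    rw [this]; exact Bbar.one_mem
  have hEpg : IsPGroup p ↥(E.subgroupOf D) := by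
    intro y
    refine ⟨1, ?_⟩
    apply Subtype.ext
    apply Subtype.ext
    have := hEp (y : ↥D) (Subgroup.mem_subgroupOf.1 y.2)
    simpa using this
  obtain ⟨Q, hQ⟩ := hEpg.exists_le_sylow
  set B : Subgroup G := (Q : Subgroup ↥D).map D.subtype with hB
  have hBp : IsPGroup p ↥B := Q.2.map D.subtype
  have hBD : B ≤ D := by
    rintro _ ⟨y, _, rfl⟩
    exact y.2
  have hEleB : E ≤ B := by
    intro e he
    exact ⟨⟨e, hED he⟩, hQ (Subgroup.mem_subgroupOf.2 he), rfl⟩
  have hBel : Cfsg.IsElementaryAbelian p B := by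
    refine ⟨⟨⟨fun a b => ?_⟩⟩, ?_⟩
    · apply Subtype.ext
      have h1 : π ((a : G) * b * ((b : G) * a)⁻¹) = 1 := by
        rw [map_mul, map_inv, map_mul, map_mul]
        rw [hcomm (π a) (hBD a.2) (π b) (hBD b.2)]
        exact mul_inv_cancel _
      have h2 : (a : G) * b * ((b : G) * a)⁻¹ ∈ N := (QuotientGroup.eq_one_iff _).1 h1
      have h3 : (a : G) * b * ((b : G) * a)⁻¹ ∈ B :=
        B.mul_mem (B.mul_mem a.2 b.2) (B.inv_mem (B.mul_mem b.2 a.2))
      have h4 := eq_one_of_mem_pgroup_of_mem_coprime hBp hN h3 h2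
      have h5 : (a : G) * b = (b : G) * a := by
        rw [mul_inv_eq_one] at h4
        exact h4
      simpa using h5
    · intro a ha
      have h1 : π (a ^ p) = 1 := by
        rw [map_pow]
        exact hexp _ (hBD ha)
      have h2 : a ^ p ∈ N := (QuotientGroup.eq_one_iff _).1 h1
      exact eq_one_of_mem_pgroup_of_mem_coprime hBp hN (B.pow_mem ha p) h2
  have hBE : B = E := hEmax B hBel hEleB
  -- factorisation of D
  haveI hNDn : (N.subgroupOf D).Normal := inferInstance
  have h1 : pResidual p ↥D ≤ N.subgroupOf D := by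
    apply Helper54.pResidual_le_of_forall_pow_mem
    intro g
    refine ⟨1, ?_⟩
    rw [Subgroup.mem_subgroupOf, pow_one]
    have h1 : π ((g : G) ^ p) = 1 := by
      rw [map_pow]
      exact hexp _ g.2
    have := (QuotientGroup.eq_one_iff _).1 h1
    simpa using this
  have h2 := Helper54.pResidual_sup_sylow Q
  have h3 : N.subgroupOf D ⊔ (Q : Subgroup ↥D) = ⊤ := by
    rw [eq_top_iff, ← h2]
    exact sup_le_sup_right h1 _
  obtain ⟨g, hg⟩ := QuotientGroup.mk'_surjective N x
  have hgD : g ∈ D := by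
    show π g ∈ Bbar
    rw [hπ, hg]; exact hxB
  have h4 : (⟨g, hgD⟩ : ↥D) ∈ N.subgroupOf D ⊔ (Q : Subgroup ↥D) := by
    rw [h3]; exact Subgroup.mem_top _
  obtain ⟨a, ha, b, hb, hab⟩ := Helper54.exists_mul_of_mem_sup_of_le_normalizer
    (by rw [Subgroup.normalizer_eq_top]; exact le_top) h4
  have h5 : g = (a : G) * (b : G) := by
    have := congrArg Subtype.val hab
    simpa using this
  have h6 : (b : G) ∈ E := by
    rw [← hBE]
    exact ⟨b, hb, rfl⟩
  refine ⟨(b : G), h6, ?_⟩
  rw [← hg, h5]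
  show π (b : G) = π ((a : G) * (b : G))
  rw [map_mul]
  have : π (a : G) = 1 := (QuotientGroup.eq_one_iff _).2 (Subgroup.mem_subgroupOf.1 ha)
  rw [this, one_mul]

/-- Let G be a finite solvable group, p an odd prime with G = O_{p',p,p'}(G), E an elementary abelian p-subgroup contained in no larger elementary abelian p-subgroup of G, and L a subgroup of order coprime to p normalized by E. Then L ≤ O_{p'}(G). -/
theorem result {G : Type*} [Group G] [Finite G] [Group.IsSolvable G] (p : ℕ) [Fact p.Prime] (hp : p ≠ 2) (hpl : Cfsg.PLengthLE p 1 G) (E L : Subgroup G) (hE : Cfsg.IsElementaryAbelian p E)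
    (hEmax : ∀ B : Subgroup G, Cfsg.IsElementaryAbelian p B → E ≤ B → B = E) (hL : (Nat.card L).Coprime p) (hEL : E ≤ Subgroup.normalizer (L : Set G)) :
    L ≤ Cfsg.pPrimeCore p G := by
  classical
  haveI hNn : (pPrimeCore p G).Normal := Helper81.pPrimeCore_normal p
  have hNc : (Nat.card (pPrimeCore p G)).Coprime p := Helper81.card_pPrimeCore_coprime p
  set N := pPrimeCore p G with hN
  set π := QuotientGroup.mk' N with hπ
  have hbot : pPrimeCore p (G ⧸ N) = ⊥ := Helper81.pPrimeCore_quotient_eq_bot p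
  have hsolv : Group.IsSolvable (G ⧸ N) := inferInstance
  have hC := Helper61.centralizer_pCore_le p hsolv hbot
  set Pbar := pCore p (G ⧸ N) with hPbar
  have hPp : IsPGroup p ↥Pbar := Helper61.pCore_isPGroup p _
  haveI hPn : Pbar.Normal := Helper54.pCore_normal p _
  -- the index of Pbar is prime to p
  obtain ⟨K, M, hKn, hMn, hKM, hKc, ⟨k, hk⟩, hMi⟩ := Helper32.exists_of_pLengthLE_one p hpl
  have hKN : K ≤ N := le_sSup ⟨hKn, hKc⟩
  have hMp : IsPGroup p ↥(M.map π) := by
    rintro ⟨_, m, hm, rfl⟩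
    refine ⟨k, ?_⟩
    apply Subtype.ext
    show (π m) ^ (p ^ k) = 1
    rw [← map_pow]
    apply (QuotientGroup.eq_one_iff _).2
    apply hKN
    haveI : (K.subgroupOf M).Normal := inferInstance
    have h1 := Subgroup.pow_index_mem (K.subgroupOf M) (⟨m, hm⟩ : ↥M)
    have h2 : (K.subgroupOf M).index = p ^ k := hk
    rw [h2, Subgroup.mem_subgroupOf] at h1
    simpa using h1
  have hMP : M.map π ≤ Pbar :=
    Helper61.le_pCore (hMn.map π (QuotientGroup.mk'_surjective N)) hMp
  have hPi : ¬ p ∣ Pbar.index := by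
    intro hdvd
    apply hMi
    have h1 : Pbar.index ∣ (M.map π).index := Subgroup.index_dvd_of_le hMP
    have h2 : (M.map π).index ∣ M.index := Subgroup.index_map_dvd M (QuotientGroup.mk'_surjective N)
    exact hdvd.trans (h1.trans h2)
  -- every p-subgroup of the quotient lies in Pbar
  have hsyl : ∀ X : Subgroup (G ⧸ N), IsPGroup p ↥X → X ≤ Pbar := by
    intro X hX
    set S : Sylow p (G ⧸ N) := hPp.toSylow hPi with hS
    obtain ⟨S', hXS'⟩ := hX.exists_le_sylow
    obtain ⟨g, hg⟩ := MulAction.exists_smul_eq (G ⧸ N) S S'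
    haveI : (S : Subgroup (G ⧸ N)).Normal := hPn
    have h1 : g • S = S := Sylow.smul_eq_of_normal
    rw [h1] at hg
    rw [← hg] at hXS'
    exact hXS'
  have hEp : IsPGroup p ↥(E.map π) := by
    rintro ⟨_, e, he, rfl⟩
    refine ⟨1, ?_⟩
    apply Subtype.ext
    show (π e) ^ (p ^ 1) = 1
    rw [pow_one, ← map_pow, hE.2 e he, map_one]
  have hEP : E.map π ≤ Pbar := hsyl _ hEp
  -- now elementwise
  intro l hl
  apply (QuotientGroup.eq_one_iff l).1
  show π l = 1
  set y := π l with hy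
  have hlo : (orderOf l).Coprime p := by
    have h3 : orderOf l ∣ Nat.card L := by
      have : orderOf (⟨l, hl⟩ : ↥L) ∣ Nat.card L := orderOf_dvd_natCard _
      rwa [Subgroup.orderOf_mk] at this
    exact Nat.Coprime.coprime_dvd_left h3 hL
  have hyo : (orderOf y).Coprime p :=
    Nat.Coprime.coprime_dvd_left (orderOf_map_dvd π l) hlo
  -- y commutes with the image of E
  have hyE : ∀ b ∈ E.map π, b * y = y * b := by
    rintro _ ⟨e, he, rfl⟩
    -- c = l e l⁻¹ e⁻¹ ∈ L
    have hc : l * (e * l⁻¹ * e⁻¹) ∈ L :=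
      L.mul_mem hl ((Subgroup.mem_normalizer_iff.1 (hEL he) l⁻¹).1 (L.inv_mem hl))
    have hco : (orderOf (l * (e * l⁻¹ * e⁻¹))).Coprime p := by
      have h3 : orderOf (l * (e * l⁻¹ * e⁻¹)) ∣ Nat.card L := by
        have : orderOf (⟨_, hc⟩ : ↥L) ∣ Nat.card L := orderOf_dvd_natCard _
        rwa [Subgroup.orderOf_mk] at this
      exact Nat.Coprime.coprime_dvd_left h3 hL
    have hcP : π (l * (e * l⁻¹ * e⁻¹)) ∈ Pbar := by
      have h1 : π (l * (e * l⁻¹ * e⁻¹)) = (y * π e * y⁻¹) * (π e)⁻¹ := by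
        simp only [map_mul, map_inv, hy]
        group
      rw [h1]
      exact Pbar.mul_mem (hPn.conj_mem _ (hEP ⟨e, he, rfl⟩) y) (Pbar.inv_mem (hEP ⟨e, he, rfl⟩))
    have hc1 : π (l * (e * l⁻¹ * e⁻¹)) = 1 := by
      obtain ⟨j, hj⟩ := hPp ⟨_, hcP⟩
      have h1 : (π (l * (e * l⁻¹ * e⁻¹))) ^ (p ^ j) = 1 := by
        have := congrArg Subtype.val hj
        simpa using this
      have h2 : orderOf (π (l * (e * l⁻¹ * e⁻¹))) ∣ p ^ j := orderOf_dvd_of_pow_eq_one h1
      have h3 : orderOf (π (l * (e * l⁻¹ * e⁻¹))) ∣ orderOf (l * (e * l⁻¹ * e⁻¹)) :=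
        orderOf_map_dvd π _
      have h4 := Nat.eq_one_of_dvd_coprimes (hco.pow_right j) h3 h2
      exact orderOf_eq_one_iff.1 h4
    have h5 : y * (π e * y⁻¹ * (π e)⁻¹) = 1 := by
      rw [← hc1]
      simp only [map_mul, map_inv, hy]
    -- so y π e y⁻¹ = π e
    have h6 : y * π e = π e * y := by
      have : y * π e * y⁻¹ * (π e)⁻¹ = 1 := by
        rw [← h5]; group
      rw [mul_inv_eq_one, mul_inv_eq_iff_eq_mul] at this
      exact this
    exact h6.symm
  -- y centralizes C_Pbar(E)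
  have hcent : ∀ a ∈ Pbar, (∀ b ∈ E.map π, b * a = a * b) → a * y = y * a := by
    intro a haP haE
    set A : Subgroup (G ⧸ N) := Subgroup.zpowers y with hA
    have hAc : (Nat.card A).Coprime p := by
      rw [hA, Nat.card_zpowers]; exact hyo
    set Dc : Subgroup (G ⧸ N) := Pbar ⊓ Subgroup.centralizer ((E.map π : Subgroup (G ⧸ N)) : Set (G ⧸ N))
      with hDc
    have hDp : IsPGroup p ↥Dc := hPp.to_le inf_le_left
    have hAD : A ≤ Subgroup.normalizer (Dc : Set (G ⧸ N)) := by
      rw [hA, Subgroup.zpowers_le]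
      rw [Subgroup.mem_normalizer_iff]
      have key : ∀ z : G ⧸ N, ∀ h : G ⧸ N, z ∈ Subgroup.zpowers y → h ∈ Dc → z * h * z⁻¹ ∈ Dc := by
        intro z h hz hh
        rw [hDc, Subgroup.mem_inf] at hh ⊢
        refine ⟨hPn.conj_mem _ hh.1 z, ?_⟩
        rw [Subgroup.mem_centralizer_iff]
        intro b hb
        have hzb : b * z = z * b := by
          obtain ⟨n, rfl⟩ := hz
          exact ((Commute.zpow_right (hyE b hb) n : Commute b (y ^ n))).eq
        have hhb : b * h = h * b := (Subgroup.mem_centralizer_iff.1 hh.2) b hb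
        have hzb' : z⁻¹ * b = b * z⁻¹ := by
          rw [inv_mul_eq_iff_eq_mul, ← mul_assoc, ← hzb, mul_assoc, mul_inv_cancel, mul_one]
        calc b * (z * h * z⁻¹) = (b * z) * h * z⁻¹ := by group
          _ = z * (b * h) * z⁻¹ := by rw [hzb]; group
          _ = z * h * (b * z⁻¹) := by rw [hhb]; group
          _ = z * h * z⁻¹ * b := by rw [← hzb']; group
      intro h
      constructor
      · intro hh
        exact key y h (Subgroup.mem_zpowers y) hh
      · intro hh
        have := key y⁻¹ (y * h * y⁻¹) (Subgroup.inv_mem _ (Subgroup.mem_zpowers y)) hh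
        have e : y⁻¹ * (y * h * y⁻¹) * y⁻¹⁻¹ = h := by group
        rwa [e] at this
    have hfix : ∀ z ∈ Dc, z ^ p = 1 → z ∈ Subgroup.centralizer (A : Set (G ⧸ N)) := by
      intro z hz hzp
      rw [hDc, Subgroup.mem_inf] at hz
      have hzE : z ∈ E.map π := by
        apply mem_map_of_commute p N hNc E hE hEmax z hzp
        intro e he
        exact (Subgroup.mem_centralizer_iff.1 hz.2) (π e) ⟨e, he, rfl⟩
      rw [Subgroup.mem_centralizer_iff]
      intro w hw
      obtain ⟨n, rfl⟩ := hw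
      exact ((Commute.zpow_left (hyE z hzE).symm n : Commute (y ^ n) z)).eq
    have h1 := Helper32.centralizes_of_fixes_order_p p hp A hAc (Nat.card Dc) Dc rfl hDp hAD hfix
    have haD : a ∈ Dc := by
      rw [hDc, Subgroup.mem_inf]
      refine ⟨haP, ?_⟩
      rw [Subgroup.mem_centralizer_iff]
      intro b hb
      exact haE b hb
    have h2 := h1 haD
    have h3 := (Subgroup.mem_centralizer_iff.1 h2) y (Subgroup.mem_zpowers y)
    exact h3.symm
  have hyP : ∀ a ∈ Pbar, a * y = y * a :=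
    Helper56.axb_lemma Pbar (E.map π) y hPp hEp
      (by rw [Subgroup.normalizer_eq_top]; exact le_top)
      (by rw [Subgroup.normalizer_eq_top]; exact Subgroup.mem_top _) hyE hyo hcent
  have hyC : y ∈ Subgroup.centralizer (Pbar : Set (G ⧸ N)) := by
    rw [Subgroup.mem_centralizer_iff]
    intro a ha
    exact hyP a ha
  have hyPbar : y ∈ Pbar := hC hyC
  obtain ⟨j, hj⟩ := hPp ⟨y, hyPbar⟩
  have h1 : y ^ (p ^ j) = 1 := by
    have := congrArg Subtype.val hj
    simpa using this
  have h2 : orderOf y ∣ p ^ j := orderOf_dvd_of_pow_eq_one h1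
  have h4 := Nat.eq_one_of_dvd_coprimes (hyo.pow_right j) (dvd_refl _) h2
  exact orderOf_eq_one_iff.1 h4

end Cfsg.Agent.S1462
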