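import Cfsg.Statements.S3277
import Cfsg.Agent.S1230
import Cfsg.Agent.Lib.Helper28.CentFour
import Cfsg.Agent.Lib.Helper42.A5Recog

set_option autoImplicit false
set_option linter.style.haveILetI false
open Cfsg

namespace Cfsg.Agent.S3277

open Cfsg.Agent.Lib.Helper28.CentFour in
/-- Let G be a finite group containing an involution whose centralizer is elementary abelian of order 4. If G has no normal 2-complement and no normal elementary abelian 2-subgroup of order 2 or 4, then G is isomorphic to the alternating group of degree 5 (that is, to PSL(2, 5)). -/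
theorem result {G : Type*} [Group G] [Finite G] (x : G) (hx : orderOf x = 2)
    (hC4 : Nat.card ↥(Subgroup.centralizer ({x} : Set G)) = 4) (hCe : ∀ c ∈ Subgroup.centralizer ({x} : Set G), c ^ 2 = 1)
    (hnc : ¬ Cfsg.HasNormalPComplement 2 G)
    (hne : ∀ E : Subgroup G, E.Normal → Cfsg.IsElementaryAbelian 2 E → Nat.card ↥E ≠ 2 ∧ Nat.card ↥E ≠ 4) :
    Nonempty (G ≃* ↥(alternatingGroup (Fin 5))) := by
  classical
  haveI : Fact (Nat.Prime 2) := ⟨Nat.prime_two⟩
  have hVp : IsPGroup 2 (Subgroup.centralizer ({x} : Set G)) :=
    IsPGroup.of_card (n := 2) (by rw [hC4]; norm_num)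
  obtain ⟨S, hVS⟩ := hVp.exists_le_sylow
  by_cases heq : Subgroup.centralizer ({x} : Set G) = (S : Subgroup G)
  · -- the centralizer is a Sylow subgroup
    have hconj := caseB_conj hx hC4 hCe S heq hnc
    -- subgroups of exponent two are commutative
    have hcomm_of_exp : ∀ H : Subgroup G, (∀ c ∈ H, c ^ 2 = 1) → IsMulCommutative H := by
      intro H hH
      have hinv : ∀ a ∈ H, a⁻¹ = a := by
        intro a ha
        rw [inv_eq_iff_mul_eq_one, ← sq]; exact hH a ha
      refine ⟨⟨fun a b => ?_⟩⟩
      apply Subtype.ext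
      have h1 := hinv _ (mul_mem a.2 b.2)
      rw [mul_inv_rev, hinv a a.2, hinv b b.2] at h1
      exact h1.symm
    -- centralizers of all involutions
    have hCt : ∀ t : G, orderOf t = 2 →
        Nat.card (Subgroup.centralizer ({t} : Set G)) = 4 ∧
        ∀ c ∈ Subgroup.centralizer ({t} : Set G), c ^ 2 = 1 := by
      intro t ht
      obtain ⟨c, hc⟩ := hconj t ht
      have memC : ∀ (y v : G), v ∈ Subgroup.centralizer ({y} : Set G) ↔ y * v = v * y := by
        intro y v
        rw [Subgroup.mem_centralizer_iff]
        constructor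
        · intro h; exact h y rfl
        · intro h w hw; rw [Set.mem_singleton_iff.1 hw]; exact h
      have h1 : ∀ d ∈ Subgroup.centralizer ({t} : Set G),
          c⁻¹ * d * c ∈ Subgroup.centralizer ({x} : Set G) := by
        intro d hd
        rw [memC] at hd ⊢
        have hx' : x = c⁻¹ * t * c := by rw [← hc]; group
        rw [hx']
        calc c⁻¹ * t * c * (c⁻¹ * d * c) = c⁻¹ * (t * d) * c := by group
          _ = c⁻¹ * (d * t) * c := by rw [hd]
          _ = c⁻¹ * d * c * (c⁻¹ * t * c) := by group
      have h2 : ∀ v ∈ Subgroup.centralizer ({x} : Set G),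
          c * v * c⁻¹ ∈ Subgroup.centralizer ({t} : Set G) := by
        intro v hv
        rw [memC] at hv ⊢
        rw [← hc]
        calc c * x * c⁻¹ * (c * v * c⁻¹) = c * (x * v) * c⁻¹ := by group
          _ = c * (v * x) * c⁻¹ := by rw [hv]
          _ = c * v * c⁻¹ * (c * x * c⁻¹) := by group
      constructor
      · rw [← hC4]
        apply Nat.card_congr
        exact
          { toFun := fun d => ⟨c⁻¹ * d.1 * c, h1 d.1 d.2⟩
            invFun := fun v => ⟨c * v.1 * c⁻¹, h2 v.1 v.2⟩
            left_inv := fun d => by apply Subtype.ext; simp only []; group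
            right_inv := fun v => by apply Subtype.ext; simp only []; group }
      · intro d hd
        have := hCe _ (h1 d hd)
        have h3 : (c⁻¹ * d * c) ^ 2 = c⁻¹ * d ^ 2 * c := by
          rw [sq, sq]; group
        rw [h3] at this
        have h4 : d ^ 2 = c * (c⁻¹ * d ^ 2 * c) * c⁻¹ := by group
        rw [h4, this]; group
    have hC : ∀ t : G, orderOf t = 2 →
        IsMulCommutative (Subgroup.centralizer ({t} : Set G)) ∧
        ∀ c ∈ Subgroup.centralizer ({t} : Set G), c ^ 2 = 1 := by
      intro t ht
      exact ⟨hcomm_of_exp _ (hCt t ht).2, (hCt t ht).2⟩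
    have hSexp : ∀ c ∈ (S : Subgroup G), c ^ 2 = 1 := by
      intro c hc
      rw [← heq] at hc
      exact hCe c hc
    have hScard : Nat.card (S : Subgroup G) = 4 := by rw [← heq]; exact hC4
    have hncyc : ¬ IsCyclic (S : Subgroup G) := by
      intro hcyc
      obtain ⟨g, hg⟩ := hcyc.exists_generator
      have h1 := orderOf_eq_card_of_forall_mem_zpowers hg
      rw [hScard] at h1
      have h2 : g ^ 2 = 1 := by
        apply Subtype.ext
        rw [Subgroup.coe_pow, Subgroup.coe_one]
        exact hSexp g.1 g.2
      have h3 := orderOf_dvd_of_pow_eq_one h2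
      rw [h1] at h3
      omega
    have hnn : ¬ (S : Subgroup G).Normal := by
      intro hn
      have := hne (S : Subgroup G) hn ⟨hcomm_of_exp _ hSexp, hSexp⟩
      exact this.2 hScard
    obtain ⟨F, instF, instFt, hF, ⟨e⟩⟩ := Cfsg.Agent.S1230.result S hncyc hnn hC
    have hF4 : Fintype.card F = 4 := by rw [hF]; exact hScard
    have hcard : Nat.card G = 60 := by
      rw [Nat.card_congr e.toEquiv]
      have := Cfsg.Agent.Lib.Helper07.card_psl_two (F := F)
      rw [hF4] at this
      have hg : Nat.gcd 2 (4 - 1) = 1 := by decide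
      rw [hg] at this
      generalize Nat.card (Matrix.ProjectiveSpecialLinearGroup (Fin 2) F) = N at this ⊢
      norm_num at this
      omega
    apply Cfsg.Agent.Lib.Helper42.A5Recog.a5_of_card hcard
    · intro g hg4
      by_contra hg2
      have ho : orderOf (g ^ 2) = 2 := by
        apply orderOf_eq_prime (p := 2)
        · rw [← pow_mul]; exact hg4
        · exact hg2
      have hgC : g ∈ Subgroup.centralizer ({g ^ 2} : Set G) := by
        rw [Subgroup.mem_centralizer_iff]
        intro h hh
        rw [Set.mem_singleton_iff.1 hh]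
        group
      exact hg2 ((hCt _ ho).2 g hgC)
    · intro z w hz hw
      obtain ⟨c, hc⟩ := hconj z hz
      obtain ⟨d, hd⟩ := hconj w hw
      rw [isConj_iff]
      refine ⟨d * c⁻¹, ?_⟩
      rw [← hc, ← hd]; group
    · intro z hz
      exact (hCt z hz).1
  · exfalso
    obtain ⟨E, hEn, hEe, hEc⟩ := caseA hx hC4 S hVS heq
    have := hne E hEn hEe
    rcases hEc with h | h
    · exact this.1 h
    · exact this.2 h

end Cfsg.Agent.S3277
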