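import Cfsg.Statements.S3061
import Cfsg.Agent.Lib.Helper58.DStar

set_option autoImplicit false
open Cfsg

namespace Cfsg.Agent.S3061

open Subgroup Cfsg.Agent.Lib.Helper58

/-- Let S be a finite p-group. Then D*(S) itself belongs to the family that generates it: D*(S) is abelian, and every x ∈ S with ⟨D*(S), x⟩ of class at most two centralizes D*(S). Hence D*(S) is the unique maximal member of that family. -/
theorem result {S : Type*} [Group S] [Finite S] {p : ℕ} [Fact p.Prime] (hS : IsPGroup p S) :
    Cfsg.dStar S ∈ Cfsg.dStarFamily S := by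
  have hcl : Cfsg.dStar S = Subgroup.closure (⋃ A ∈ Cfsg.dStarFamily S, (A : Set S)) := by
    unfold Cfsg.dStar
    rw [sSup_eq_iSup]
    simp only [Subgroup.closure_iUnion, Subgroup.closure_eq]
  refine ⟨?_, ?_⟩
  · rw [hcl]
    apply Subgroup.isMulCommutative_closure
    intro x hx y hy
    simp only [Set.mem_iUnion] at hx hy
    obtain ⟨A, hA, hxA⟩ := hx
    obtain ⟨B, hB, hyB⟩ := hy
    exact dStarFamily_commute hS hA hB x hxA y hyB
  · intro x hx
    have hle : Cfsg.dStar S ≤ Subgroup.centralizer ({x} : Set S) := by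
      unfold Cfsg.dStar
      apply sSup_le
      intro A hA a ha
      have hAle : A ≤ Cfsg.dStar S := le_sSup hA
      have hsub : A ⊔ Subgroup.zpowers x ≤ Cfsg.dStar S ⊔ Subgroup.zpowers x :=
        sup_le_sup_right hAle _
      have htriv : ⁅⁅A ⊔ Subgroup.zpowers x, A ⊔ Subgroup.zpowers x⁆, A ⊔ Subgroup.zpowers x⁆ = ⊥ := by
        rw [eq_bot_iff, ← hx]
        exact Subgroup.commutator_mono (Subgroup.commutator_mono hsub hsub) hsub
      rw [Subgroup.mem_centralizer_iff]
      intro y hy
      rw [Set.mem_singleton_iff] at hy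
      subst hy
      exact (hA.2 y htriv a ha).symm
    intro a ha
    have := hle ha
    rw [Subgroup.mem_centralizer_iff] at this
    exact (this x rfl).symm

end Cfsg.Agent.S3061
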