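import Cfsg.Statements.S3058
import Cfsg.Agent.Lib.Helper58.SEGeneration
-- import your own Cfsg.Agent.* helpers here

set_option autoImplicit false
open Cfsg

namespace Cfsg.Agent.S3058

open Subgroup Cfsg.Agent.Lib.Helper58

/-- Let p be a prime and G a finite group whose Sylow p-subgroups are not chain-connected through nontrivial intersections (so G has a strongly p-embedded subgroup). If N and M are normal subgroups of G whose orders are both divisible by p, then the order of N ∩ M is divisible by p. Consequently, among the normal subgroups of G whose order is divisible by p there is a smallest one (the intersection of all of them). -/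
theorem result {G : Type*} [Group G] [Finite G]
    (p : ℕ) [Fact p.Prime] (hG : ¬ Cfsg.IsSylowChainConnected p G)
    (N M : Subgroup G) [N.Normal] [M.Normal] (hN : p ∣ Nat.card N) (hM : p ∣ Nat.card M) :
    p ∣ Nat.card ↥(N ⊓ M) := by
  have hp : p.Prime := Fact.out
  rw [isSylowChainConnected_iff] at hG
  push Not at hG
  obtain ⟨S, T, hST⟩ := hG
  obtain ⟨hHtop, hpH, hse⟩ := SE_of_not_connected hST
  have hSH : (S : Subgroup G) ≤ compStab S := le_compStab S
  set H := compStab S with hH
  by_contra hK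
  set K := N ⊓ M with hKdef
  have hKS : K ⊓ (S : Subgroup G) = ⊥ := by
    by_contra hne
    apply hK
    have hpg : IsPGroup p ↥(K ⊓ (S : Subgroup G)) := S.isPGroup'.to_le inf_le_right
    exact (pgroup_card_dvd hpg hne).trans (Subgroup.card_dvd_of_le inf_le_left)
  -- elements of order p
  have hSN := sylow_inf_normal_ne_bot S N hN
  have hSM := sylow_inf_normal_ne_bot S M hM
  have hSNp : IsPGroup p ↥((S : Subgroup G) ⊓ N) := S.isPGroup'.to_le inf_le_left
  have hSMp : IsPGroup p ↥((S : Subgroup G) ⊓ M) := S.isPGroup'.to_le inf_le_left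
  obtain ⟨a', ha'⟩ := exists_prime_orderOf_dvd_card' p (pgroup_card_dvd hSNp hSN)
  obtain ⟨x', hx'⟩ := exists_prime_orderOf_dvd_card' p (pgroup_card_dvd hSMp hSM)
  obtain ⟨a, haSN⟩ := a'
  obtain ⟨x, hxSM⟩ := x'
  rw [← Subgroup.orderOf_coe] at ha' hx'
  change orderOf a = p at ha'
  change orderOf x = p at hx'
  have haS : a ∈ (S : Subgroup G) := haSN.1
  have haN : a ∈ N := haSN.2
  have hxS : x ∈ (S : Subgroup G) := hxSM.1
  have hxM : x ∈ M := hxSM.2
  have hx1 : x ≠ 1 := by
    intro h; rw [h, orderOf_one] at hx'; exact hp.one_lt.ne hx'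
  -- a and x commute
  have hcomm : a * x = x * a := by
    have hc : a * x * a⁻¹ * x⁻¹ ∈ K ⊓ (S : Subgroup G) := by
      refine Subgroup.mem_inf.mpr ⟨Subgroup.mem_inf.mpr ⟨?_, ?_⟩, ?_⟩
      · have h1 : x * a⁻¹ * x⁻¹ ∈ N := ‹N.Normal›.conj_mem _ (N.inv_mem haN) x
        have h2 : a * (x * a⁻¹ * x⁻¹) ∈ N := N.mul_mem haN h1
        have : a * x * a⁻¹ * x⁻¹ = a * (x * a⁻¹ * x⁻¹) := by group
        rw [this]; exact h2
      · have h1 : a * x * a⁻¹ ∈ M := ‹M.Normal›.conj_mem _ hxM a
        exact M.mul_mem h1 (M.inv_mem hxM)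
      · exact mul_mem (mul_mem (mul_mem haS hxS) (inv_mem haS)) (inv_mem hxS)
    rw [hKS, Subgroup.mem_bot] at hc
    have : a * x = (a * x * a⁻¹ * x⁻¹) * (x * a) := by group
    rw [this, hc, one_mul]
  -- x is not a power of a
  have hx_not : x ∉ zpowers a := by
    intro hx
    have hxN : x ∈ N := (Subgroup.zpowers_le.mpr haN) hx
    have : x ∈ K ⊓ (S : Subgroup G) := Subgroup.mem_inf.mpr ⟨Subgroup.mem_inf.mpr ⟨hxN, hxM⟩, hxS⟩
    rw [hKS, Subgroup.mem_bot] at this
    exact hx1 this
  -- the elementary abelian group A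
  obtain ⟨hAel, hAcard⟩ := elemAb_closure_pair ha' hx' hcomm hx_not
  set A := Subgroup.closure ({a, x} : Set G) with hA
  have hAS : A ≤ (S : Subgroup G) := by
    rw [hA, Subgroup.closure_le]
    intro u hu
    rcases hu with rfl | rfl
    · exact haS
    · exact hxS
  have hAH : A ≤ H := hAS.trans hSH
  have haA : a ∈ A := Subgroup.subset_closure (by simp)
  have hKnorm : Subgroup.normalizer (K : Set G) = ⊤ := Subgroup.normalizer_eq_top_iff.mpr inferInstance
  -- K ≤ H by the generation theorem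
  have hKH : K ≤ H := pprime_le_of_SE hse hAH hAel hAcard hK (by rw [hKnorm]; exact le_top)
  -- M ≤ H
  have hKcop : (Nat.card K).Coprime p := by
    rw [Nat.coprime_comm]
    exact (Nat.Prime.coprime_iff_not_dvd hp).mpr hK
  have haH : a ∈ H := hAH haA
  have hMH : M ≤ H := by
    intro m hm
    have hYp : IsPGroup p (zpowers a) := S.isPGroup'.to_le (Subgroup.zpowers_le.mpr haS)
    have hYC : zpowers a ≤ Subgroup.normalizer (K : Set G) := by
      rw [hKnorm]; exact le_top
    have hRp : IsPGroup p ((zpowers a).map (MulAut.conj m).toMonoidHom) := hYp.map _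
    have hmem : m * a * m⁻¹ ∈ zpowers a ⊔ K := by
      have hk : a⁻¹ * (m * a * m⁻¹) ∈ K := by
        refine Subgroup.mem_inf.mpr ⟨?_, ?_⟩
        · exact N.mul_mem (N.inv_mem haN) (‹N.Normal›.conj_mem _ haN m)
        · have h1 : a⁻¹ * m * a⁻¹⁻¹ ∈ M := ‹M.Normal›.conj_mem _ hm a⁻¹
          have h2 : a⁻¹ * m * a⁻¹⁻¹ * m⁻¹ ∈ M := M.mul_mem h1 (M.inv_mem hm)
          have : a⁻¹ * (m * a * m⁻¹) = a⁻¹ * m * a⁻¹⁻¹ * m⁻¹ := by group
          rw [this]; exact h2
      have : m * a * m⁻¹ = a * (a⁻¹ * (m * a * m⁻¹)) := by group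
      rw [this]
      exact Subgroup.mul_mem_sup (Subgroup.mem_zpowers a) hk
    have hRle : (zpowers a).map (MulAut.conj m).toMonoidHom ≤ zpowers a ⊔ K := by
      rw [MonoidHom.map_zpowers, Subgroup.zpowers_le]
      simpa [MulAut.conj_apply] using hmem
    obtain ⟨c, hcK, hc⟩ := conj_into_of_normalizes (zpowers a) K _ hYp hKcop hYC hRp hRle
    have h1 : c * (m * a * m⁻¹) * c⁻¹ ∈ zpowers a := by
      apply hc
      rw [Subgroup.mem_map]
      exact ⟨a, Subgroup.mem_zpowers a, by simp [MulAut.conj_apply]⟩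
    have h2 : (c * m) * a * (c * m)⁻¹ ∈ H := by
      have : (c * m) * a * (c * m)⁻¹ = c * (m * a * m⁻¹) * c⁻¹ := by group
      rw [this]
      exact (Subgroup.zpowers_le.mpr haH) h1
    have h3 : c * m ∈ H := mem_of_conj_mem_of_SE hse ha' haH h2
    have h4 : m = c⁻¹ * (c * m) := by group
    rw [h4]
    exact H.mul_mem (H.inv_mem (hKH hcK)) h3
  -- Frattini
  apply hHtop
  rw [eq_top_iff, ← frattini_inf S M]
  apply sup_le _ hMH
  exact normalizer_le_of_SE hse (inf_le_left.trans hSH) hSMp hSM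

end Cfsg.Agent.S3058
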