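import Mathlib
import Cfsg.Statements.S2475
import Cfsg.Agent.Lib.Helper48.PSL2Spec

set_option autoImplicit false
open Cfsg

namespace Cfsg.Agent.S2475

open Cfsg.Agent.Lib.Helper48

/-- The set of element orders of PSL(2,q): let F be a finite field of characteristic p with q ≥ 4 elements and d = gcd(2, q − 1). The orders of elements of PSL(2,F) are exactly the divisors of p, of (q − 1)/d and of (q + 1)/d. -/
theorem result {F : Type*} [Field F] [Fintype F] (p : ℕ) [Fact p.Prime] [CharP F p] (h4 : 4 ≤ Fintype.card F) :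
    Set.range (orderOf : Matrix.ProjectiveSpecialLinearGroup (Fin 2) F → ℕ) =
      {m : ℕ | m ∣ p ∨ m ∣ (Fintype.card F - 1) / Nat.gcd 2 (Fintype.card F - 1) ∨ m ∣ (Fintype.card F + 1) / Nat.gcd 2 (Fintype.card F - 1)} := by
  have hpp : p.Prime := Fact.out
  -- divisor closure
  have hclosed : ∀ (g : Matrix.ProjectiveSpecialLinearGroup (Fin 2) F) (m : ℕ), orderOf g ≠ 0 →
      m ∣ orderOf g → m ∈ Set.range (orderOf : Matrix.ProjectiveSpecialLinearGroup (Fin 2) F → ℕ) :=
    fun g m h0 hm => ⟨g ^ (orderOf g / m), orderOf_pow_orderOf_div h0 hm⟩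
  have hd : Nat.gcd 2 (Fintype.card F - 1) ≤ 2 := Nat.le_of_dvd (by norm_num) (Nat.gcd_dvd_left _ _)
  have hd0 : 0 < Nat.gcd 2 (Fintype.card F - 1) := Nat.gcd_pos_of_pos_left _ (by norm_num)
  ext m
  constructor
  · rintro ⟨g, rfl⟩
    exact psl2_orderOf_dvd p g
  · rintro (h | h | h)
    · obtain ⟨g, hg⟩ := psl2_exists_orderOf_eq_char (F := F) p
      exact hclosed g m (by rw [hg]; exact hpp.ne_zero) (hg ▸ h)
    · obtain ⟨g, hg⟩ := psl2_exists_orderOf_eq_split (F := F) h4
      refine hclosed g m ?_ (hg ▸ h)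
      rw [hg]
      exact (Nat.div_pos (by omega) hd0).ne'
    · obtain ⟨g, hg⟩ := psl2_exists_orderOf_eq_nonsplit (F := F) p
      refine hclosed g m ?_ (hg ▸ h)
      rw [hg]
      exact (Nat.div_pos (by omega) hd0).ne'

end Cfsg.Agent.S2475
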