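import Cfsg.Statements.S0630
import Cfsg.Agent.Lib.Helper15.Cores

set_option autoImplicit false
open Cfsg
open Cfsg.Agent.Lib.Helper15

namespace Cfsg.Agent.S0630

/-- for a group with trivial p'-core, p-constraint says `C(O_p) ≤ O_p` -/
theorem isPConstrained_iff_of_pPrimeCore_eq_bot {X : Type*} [Group X] [Finite X] {p : ℕ}
    [Fact p.Prime] (h : pPrimeCore p X = ⊥) :
    IsPConstrained p X ↔ Subgroup.centralizer (pCore p X : Set X) ≤ pCore p X := by
  have hK : pPrimePCore p X = pCore p X := pPrimePCore_eq_pCore_of_pPrimeCore_eq_bot p h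
  have hKp : IsPGroup p ↥(pPrimePCore p X) := by
    rw [hK]; exact Cfsg.Agent.Lib.Helper81.isPGroup_pCore p
  unfold IsPConstrained
  constructor
  · intro hc
    obtain ⟨P⟩ := (inferInstance : Nonempty (Sylow p ↥(pPrimePCore p X)))
    have := hc P
    rw [sylow_map_subtype_of_isPGroup _ hKp P, hK] at this
    exact this
  · intro hc P
    rw [sylow_map_subtype_of_isPGroup _ hKp P, hK]
    exact hc

/-- p-constraint passes to and from the quotient by the largest normal subgroup of order prime to p. -/
theorem result {G : Type*} [Group G] [Finite G] {p : ℕ} [Fact p.Prime] : Cfsg.IsPConstrained p G ↔ Cfsg.IsPConstrained p (G ⧸ Cfsg.pPrimeCore p G) := by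
  have hbot : pPrimeCore p (G ⧸ pPrimeCore p G) = ⊥ :=
    Cfsg.Agent.Lib.Helper81.pPrimeCore_quotient_eq_bot p
  have hNc : (Nat.card (pPrimeCore p G)).Coprime p :=
    Cfsg.Agent.Lib.Helper81.card_pPrimeCore_coprime p
  rw [isPConstrained_iff_of_pPrimeCore_eq_bot hbot]
  constructor
  · intro hG
    obtain ⟨P⟩ := (inferInstance : Nonempty (Sylow p ↥(pPrimePCore p G)))
    have hP := hG P
    have hPp : IsPGroup p ((P : Subgroup ↥(pPrimePCore p G)).map (pPrimePCore p G).subtype) :=
      P.isPGroup'.map _
    rw [← sylow_pPrimePCore_map P, centralizer_map_mk_of_coprime _ hNc _ hPp,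
      sylow_pPrimePCore_map P, ← map_pPrimePCore]
    exact Subgroup.map_mono hP
  · intro hQ P x hx
    have hPp : IsPGroup p ((P : Subgroup ↥(pPrimePCore p G)).map (pPrimePCore p G).subtype) :=
      P.isPGroup'.map _
    have h1 : QuotientGroup.mk' (pPrimeCore p G) x ∈
        (Subgroup.centralizer (((P : Subgroup ↥(pPrimePCore p G)).map
          (pPrimePCore p G).subtype : Subgroup G) : Set G)).map (QuotientGroup.mk' (pPrimeCore p G)) :=
      Subgroup.mem_map_of_mem _ hx
    rw [← centralizer_map_mk_of_coprime _ hNc _ hPp, sylow_pPrimePCore_map P] at h1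
    exact hQ h1

end Cfsg.Agent.S0630
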