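import Cfsg.Statements.S3276

set_option autoImplicit false
open Cfsg

namespace Cfsg.Agent.S3276

/-- Two involutions whose product has odd order are conjugate. -/
theorem conj_of_odd {G : Type*} [Group G] (x z : G) (hx2 : x * x = 1) (hz2 : z * z = 1)
    (k : ℕ) (hk : (x * z) ^ (2 * k + 1) = 1) : ∃ c : G, c * x * c⁻¹ = z := by
  have hxi : x⁻¹ = x := inv_eq_of_mul_eq_one_right hx2
  have hzi : z⁻¹ = z := inv_eq_of_mul_eq_one_right hz2
  have hs : SemiconjBy x (x * z)⁻¹ (x * z) := by
    unfold SemiconjBy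
    rw [mul_inv_rev, hxi, hzi]
    simp [mul_assoc]
  have hs' := hs.pow_right k
  unfold SemiconjBy at hs'
  refine ⟨(x * z) ^ k, ?_⟩
  -- (xz)^k x (xz)^-k = (xz)^k (xz)^k x = (xz)^(2k) x = (xz)⁻¹ x = z
  have h1 : (x * z) ^ k * x * ((x * z) ^ k)⁻¹ = (x * z) ^ k * (x * ((x * z)⁻¹) ^ k) := by
    rw [inv_pow, mul_assoc]
  rw [h1, hs', ← mul_assoc, ← pow_add, ← two_mul]
  have h2 : (x * z) ^ (2 * k) = (x * z)⁻¹ := by
    rw [eq_inv_iff_mul_eq_one, ← pow_succ]; exact hk
  rw [h2, mul_inv_rev, hxi, hzi, mul_assoc, hx2, mul_one]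

/-- If the product of two involutions has even order `2m`, then `(xz)^m` is an involution
commuting with both. -/
theorem central_invol {G : Type*} [Group G] (x z : G) (hx2 : x * x = 1) (hz2 : z * z = 1)
    (m : ℕ) (hm : orderOf (x * z) = 2 * m) (hm0 : 0 < m) :
    orderOf ((x * z) ^ m) = 2 ∧ Commute ((x * z) ^ m) x ∧ Commute z ((x * z) ^ m) := by
  have hxi : x⁻¹ = x := inv_eq_of_mul_eq_one_right hx2
  have hzi : z⁻¹ = z := inv_eq_of_mul_eq_one_right hz2
  have hsq : (x * z) ^ m * (x * z) ^ m = 1 := by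
    rw [← pow_add, ← two_mul, ← hm, pow_orderOf_eq_one]
  have hinv : ((x * z)⁻¹) ^ m = (x * z) ^ m := by
    rw [inv_pow, inv_eq_iff_mul_eq_one]; exact hsq
  refine ⟨?_, ?_, ?_⟩
  · have : Fact (Nat.Prime 2) := ⟨Nat.prime_two⟩
    apply orderOf_eq_prime
    · rw [sq]; exact hsq
    · apply pow_ne_one_of_lt_orderOf hm0.ne'
      omega
  · have hs : SemiconjBy x (x * z)⁻¹ (x * z) := by
      unfold SemiconjBy
      rw [mul_inv_rev, hxi, hzi]
      simp [mul_assoc]
    have hs' := hs.pow_right m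
    unfold SemiconjBy at hs'
    rw [hinv] at hs'
    exact hs'.symm
  · have hs : SemiconjBy z (x * z)⁻¹ (x * z) := by
      unfold SemiconjBy
      rw [mul_inv_rev, hxi, hzi, ← mul_assoc, hz2, one_mul, mul_assoc, hz2, mul_one]
    have hs' := hs.pow_right m
    unfold SemiconjBy at hs'
    rw [hinv] at hs'
    exact hs'

theorem result {G : Type*} [Group G] [Finite G] (x y : G) (hx : orderOf x = 2) (hy : orderOf y = 2)
    (hxy : Commute x y) (hnc : ¬ IsConj x y)
    (hstar : ∀ u : G, orderOf u = 2 → Commute u x → ∀ g : G, Commute (g * y * g⁻¹) u → Commute (g * y * g⁻¹) y) :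
    Subgroup.normalClosure ({y} : Set G) ≠ ⊤ ∧ Cfsg.IsElementaryAbelian 2 (Subgroup.normalClosure ({y} : Set G)) ∧
      ((∀ u ∈ Subgroup.normalClosure ({y} : Set G), orderOf u = 2 → Commute u x → u = y) →
        Nat.card ↥(Subgroup.normalClosure ({y} : Set G)) ≤ 4) := by
  have hx2 : x * x = 1 := by rw [← sq, ← hx, pow_orderOf_eq_one]
  have hy2 : y * y = 1 := by rw [← sq, ← hy, pow_orderOf_eq_one]
  have hx1 : x ≠ 1 := by rintro rfl; simp at hx
  have hxi : x⁻¹ = x := inv_eq_of_mul_eq_one_right hx2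
  -- Step A: every conjugate of y commutes with y
  have stepA : ∀ g : G, Commute (g * y * g⁻¹) y := by
    intro g
    have hz2 : (g * y * g⁻¹) * (g * y * g⁻¹) = 1 := by
      have : (g * y * g⁻¹) * (g * y * g⁻¹) = g * (y * y) * g⁻¹ := by group
      rw [this, hy2, mul_one, mul_inv_cancel]
    rcases Nat.even_or_odd' (orderOf (x * (g * y * g⁻¹))) with ⟨m, hm | hm⟩
    · have hm0 : 0 < m := by
        have := orderOf_pos (x * (g * y * g⁻¹)); omega
      obtain ⟨hu, hux, hzu⟩ := central_invol x (g * y * g⁻¹) hx2 hz2 m hm hm0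
      exact hstar _ hu hux g hzu
    · exfalso
      apply hnc
      obtain ⟨c, hc⟩ := conj_of_odd x (g * y * g⁻¹) hx2 hz2 m (by rw [← hm, pow_orderOf_eq_one])
      rw [isConj_iff]
      refine ⟨g⁻¹ * c, ?_⟩
      have : g⁻¹ * c * x * (g⁻¹ * c)⁻¹ = g⁻¹ * (c * x * c⁻¹) * g := by group
      rw [this, hc]; group
  -- Step B: conjugates commute pairwise
  have stepB : ∀ a ∈ Group.conjugatesOfSet ({y} : Set G), ∀ b ∈ Group.conjugatesOfSet ({y} : Set G),
      a * b = b * a := by
    intro a ha b hb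
    rw [Group.mem_conjugatesOfSet_iff] at ha hb
    obtain ⟨a', ha', ha⟩ := ha
    obtain ⟨b', hb', hb⟩ := hb
    rw [Set.mem_singleton_iff] at ha' hb'
    rw [ha', isConj_iff] at ha
    rw [hb', isConj_iff] at hb
    obtain ⟨g, hg⟩ := ha
    obtain ⟨h, hh⟩ := hb
    rw [← hg, ← hh]
    have h1 := stepA (h⁻¹ * g)
    have h2 : h * ((h⁻¹ * g) * y * (h⁻¹ * g)⁻¹ * y) * h⁻¹ = h * (y * ((h⁻¹ * g) * y * (h⁻¹ * g)⁻¹)) * h⁻¹ := by
      rw [h1.eq]
    have e1 : h * ((h⁻¹ * g) * y * (h⁻¹ * g)⁻¹ * y) * h⁻¹ = g * y * g⁻¹ * (h * y * h⁻¹) := by group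
    have e2 : h * (y * ((h⁻¹ * g) * y * (h⁻¹ * g)⁻¹)) * h⁻¹ = h * y * h⁻¹ * (g * y * g⁻¹) := by group
    rw [e1, e2] at h2
    exact h2
  have hcomm : IsMulCommutative ↥(Subgroup.normalClosure ({y} : Set G)) :=
    Subgroup.isMulCommutative_closure stepB
  have hcomm' : ∀ a ∈ Subgroup.normalClosure ({y} : Set G), ∀ b ∈ Subgroup.normalClosure ({y} : Set G),
      a * b = b * a := by
    intro a ha b hb
    have := hcomm.is_comm.comm ⟨a, ha⟩ ⟨b, hb⟩
    exact congrArg Subtype.val this
  have hexp : ∀ a ∈ Subgroup.normalClosure ({y} : Set G), a ^ 2 = 1 := by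
    intro a ha
    induction ha using Subgroup.closure_induction with
    | mem a ha =>
      rw [Group.mem_conjugatesOfSet_iff] at ha
      obtain ⟨b, hb, ha⟩ := ha
      rw [Set.mem_singleton_iff] at hb
      rw [hb, isConj_iff] at ha
      obtain ⟨g, hg⟩ := ha
      rw [← hg]
      have : (g * y * g⁻¹) ^ 2 = g * (y * y) * g⁻¹ := by simp [sq, mul_assoc]
      rw [this, hy2, mul_one, mul_inv_cancel]
    | one => simp
    | mul a b ha hb iha ihb =>
      have hab : Commute a b := hcomm' a ha b hb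
      rw [hab.mul_pow, iha, ihb, one_mul]
    | inv a ha iha => rw [inv_pow, iha, inv_one]
  refine ⟨?_, ⟨hcomm, hexp⟩, ?_⟩
  · -- properness
    intro htop
    have hG : ∀ a b : G, a * b = b * a := fun a b =>
      hcomm' a (htop ▸ Subgroup.mem_top a) b (htop ▸ Subgroup.mem_top b)
    apply hnc
    have hnorm : (Subgroup.zpowers y).Normal := by
      constructor
      intro n hn g
      have : g * n * g⁻¹ = n := by rw [hG g n, mul_assoc, mul_inv_cancel, mul_one]
      rw [this]; exact hn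
    have hle : Subgroup.normalClosure ({y} : Set G) ≤ Subgroup.zpowers y :=
      Subgroup.normalClosure_le_normal (by simp)
    have hxmem : x ∈ Subgroup.zpowers y := hle (htop ▸ Subgroup.mem_top x)
    rw [Subgroup.mem_zpowers_iff] at hxmem
    obtain ⟨k, hk⟩ := hxmem
    have hyi : y⁻¹ = y := inv_eq_of_mul_eq_one_right hy2
    rcases Int.even_or_odd' k with ⟨j, hj | hj⟩
    · exfalso; apply hx1
      rw [← hk, hj, zpow_mul, zpow_two, hy2, one_zpow]
    · have : x = y := by
        rw [← hk, hj, zpow_add, zpow_mul, zpow_two, hy2, one_zpow, one_mul, zpow_one]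
      rw [this]
  · -- the bound
    intro huniq
    set N := Subgroup.normalClosure ({y} : Set G) with hN
    have hNn : N.Normal := Subgroup.normalClosure_normal
    -- the hom n ↦ n * (x n x⁻¹)
    let φ : ↥N →* ↥N :=
      { toFun := fun n => ⟨(n : G) * (x * n * x⁻¹), N.mul_mem n.2 (hNn.conj_mem _ n.2 x)⟩
        map_one' := by
          apply Subtype.ext
          simp
        map_mul' := by
          intro a b
          apply Subtype.ext
          simp only [Subgroup.coe_mul]
          have h1 : x * ((a : G) * b) * x⁻¹ = (x * a * x⁻¹) * (x * b * x⁻¹) := by group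
          rw [h1]
          have hc := hcomm' (b : G) b.2 (x * a * x⁻¹) (hNn.conj_mem _ a.2 x)
          calc (a : G) * b * ((x * a * x⁻¹) * (x * b * x⁻¹))
              = a * (b * (x * a * x⁻¹)) * (x * b * x⁻¹) := by group
            _ = a * ((x * a * x⁻¹) * b) * (x * b * x⁻¹) := by rw [hc]
            _ = a * (x * a * x⁻¹) * (b * (x * b * x⁻¹)) := by group }
    have hφ : ∀ n : ↥N, ((φ n : ↥N) : G) = (n : G) * (x * n * x⁻¹) := fun n => rfl
    -- elements of N commuting with x are 1 or y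
    have hfix : ∀ n : G, n ∈ N → Commute n x → n = 1 ∨ n = y := by
      intro n hn hnx
      by_cases h1 : n = 1
      · left; exact h1
      · right
        apply huniq n hn _ hnx
        have : Fact (Nat.Prime 2) := ⟨Nat.prime_two⟩
        exact orderOf_eq_prime (hexp n hn) h1
    have hyN : y ∈ N := Subgroup.subset_normalClosure (Set.mem_singleton y)
    have hsmall : ∀ K : Subgroup ↥N, (∀ k ∈ K, (k : G) = 1 ∨ (k : G) = y) → Nat.card ↥K ≤ 2 := by
      intro K hK
      have hsub : (K : Set ↥N) ⊆ {1, ⟨y, hyN⟩} := by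
        intro k hk
        rcases hK k hk with h | h
        · left; exact Subtype.ext h
        · right; exact Subtype.ext h
      calc Nat.card ↥K = (K : Set ↥N).ncard := by
              rw [← Nat.card_coe_set_eq]; rfl
        _ ≤ ({1, ⟨y, hyN⟩} : Set ↥N).ncard := Set.ncard_le_ncard hsub (Set.toFinite _)
        _ ≤ ({⟨y, hyN⟩} : Set ↥N).ncard + 1 := Set.ncard_insert_le _ _
        _ = 2 := by rw [Set.ncard_singleton]
    have hker : Nat.card ↥φ.ker ≤ 2 := by
      apply hsmall
      intro k hk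
      apply hfix k k.2
      rw [MonoidHom.mem_ker] at hk
      have h1 : (k : G) * (x * k * x⁻¹) = 1 := by
        rw [← hφ k, hk]; rfl
      have h2 : (k : G) * k = 1 := by rw [← sq]; exact hexp k k.2
      have h3 : x * k * x⁻¹ = k := by
        have := mul_left_cancel (h1.trans h2.symm)
        exact this
      unfold Commute SemiconjBy
      calc (k : G) * x = (x * k * x⁻¹) * x := by rw [h3]
        _ = x * k := by group
    have hrange : Nat.card ↥φ.range ≤ 2 := by
      apply hsmall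
      rintro _ ⟨n, rfl⟩
      apply hfix _ (φ n).2
      rw [hφ]
      unfold Commute SemiconjBy
      have hc := hcomm' (n : G) n.2 (x * n * x⁻¹) (hNn.conj_mem _ n.2 x)
      calc (n : G) * (x * n * x⁻¹) * x = (x * n * x⁻¹) * n * x := by rw [hc]
        _ = x * n * (x⁻¹ * n * x) := by group
        _ = x * n * (x * n * x⁻¹) := by rw [hxi]
        _ = x * (n * (x * n * x⁻¹)) := by group
    have hcard : Nat.card ↥φ.ker * Nat.card ↥φ.range = Nat.card ↥N := by
      rw [← Subgroup.index_ker, Subgroup.card_mul_index]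
    calc Nat.card ↥N = Nat.card ↥φ.ker * Nat.card ↥φ.range := hcard.symm
      _ ≤ 2 * 2 := Nat.mul_le_mul hker hrange
      _ = 4 := by norm_num

end Cfsg.Agent.S3276
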