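import Cfsg.Statements.S0596
import Cfsg.Agent.Lib.Helper02.QuadCore

set_option autoImplicit false
open Cfsg

namespace Cfsg.Agent.S0596

open scoped commutatorElement
open Cfsg.Agent.Lib.Helper02

/-- For odd p, a p-separable group with a faithful action on an elementary abelian p-group that is not p-stable has p = 3 and involves SL(2,3). -/
theorem result {G : Type*} [Group G] [Finite G] {p : ℕ} [Fact p.Prime] (hp : p ≠ 2) (V H : Subgroup G) (hV : Cfsg.IsElementaryAbelian p V) (hHV : H ≤ Subgroup.normalizer (V : Set G)) (hf : H ⊓ Subgroup.centralizer (V : Set G) = ⊥) (hsep : Cfsg.IsPSolvable p H) (a : G) (haH : a ∈ H) (hq : ⁅⁅V, Subgroup.zpowers a⁆, Subgroup.zpowers a⁆ = ⊥) (hna : a ∉ (Cfsg.pCore p H).map H.subtype) : p = 3 ∧ ∃ (K L : Subgroup G) (hL : (L.subgroupOf K).Normal), K ≤ H ∧ Nonempty ((K ⧸ L.subgroupOf K) ≃* Matrix.SpecialLinearGroup (Fin 2) (ZMod 3)) := by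
  classical
  have hpr : p.Prime := Fact.out
  obtain ⟨g, hg⟩ := PStab.exists_conj_not_pGroup (p := p) (⟨a, haH⟩ : H) (by
    intro N hN hNp hmem
    apply hna
    exact Subgroup.mem_map.mpr ⟨⟨a, haH⟩, Cfsg.Agent.Lib.Helper01.le_pCore hN hNp hmem, rfl⟩)
  set b := (g : G) * a * (g : G)⁻¹ with hb
  have hbH : b ∈ H := H.mul_mem (H.mul_mem g.2 haH) (H.inv_mem g.2)
  set H₁ := Subgroup.closure {a, b} with hH₁
  have hH₁H : H₁ ≤ H := by
    rw [hH₁, Subgroup.closure_le]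
    intro s hs
    rcases hs with rfl | hs
    · exact haH
    · rw [Set.mem_singleton_iff] at hs
      rw [hs]; exact hbH
  have haH₁ : a ∈ H₁ := Subgroup.subset_closure (by simp)
  have hbH₁ : b ∈ H₁ := Subgroup.subset_closure (by simp)
  have hmap : (Subgroup.closure ({(⟨a, haH⟩ : H), g * ⟨a, haH⟩ * g⁻¹} : Set H)).map H.subtype
      = H₁ := by
    rw [MonoidHom.map_closure, Set.image_pair]
    rfl
  have hnp₁ : ¬ IsPGroup p H₁ := by
    intro hpg
    apply hg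
    intro m
    have hm : (m : H).1 ∈ H₁ := by
      rw [← hmap]
      exact Subgroup.mem_map.mpr ⟨m.1, m.2, rfl⟩
    obtain ⟨k, hk⟩ := hpg ⟨(m : H).1, hm⟩
    refine ⟨k, ?_⟩
    have h5 := congrArg Subtype.val hk
    simp only [Subgroup.coe_pow, Subgroup.coe_one] at h5
    apply Subtype.ext
    apply Subtype.ext
    simp only [Subgroup.coe_pow, Subgroup.coe_one]
    exact h5
  have hHV₁ : H₁ ≤ Subgroup.normalizer (V : Set G) := hH₁H.trans hHV
  have hf₁ : H₁ ⊓ Subgroup.centralizer (V : Set G) = ⊥ := by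
    rw [eq_bot_iff, ← hf]; exact inf_le_inf_right _ hH₁H
  have hqb : ⁅⁅V, Subgroup.zpowers b⁆, Subgroup.zpowers b⁆ = ⊥ :=
    Cfsg.Agent.Lib.Helper52.quadratic_conj V a g (hHV g.2) hq
  obtain ⟨E, _, _, _, ψ, hψ⟩ :=
    QuadInternal.exists_hom_SL2 V H₁ hV hHV₁ hf₁ a b rfl hq hqb hnp₁
  have hap : a ^ p = 1 :=
    Cfsg.Agent.Lib.Helper52.pow_p_eq_one_of_quadratic V H hV hf a haH (hHV haH) hq
  have hbp : b ^ p = 1 := by
    rw [hb, conj_pow, hap]; group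
  have hgen : Subgroup.closure {(⟨a, haH₁⟩ : H₁), (⟨b, hbH₁⟩ : H₁)} = ⊤ :=
    Cfsg.Agent.Lib.Helper52.closure_pair_subtype_eq_top a b H₁ rfl haH₁ hbH₁
  have hαp : (⟨a, haH₁⟩ : H₁) ^ p = 1 := Subtype.ext (by simpa using hap)
  have hβp : (⟨b, hbH₁⟩ : H₁) ^ p = 1 := Subtype.ext (by simpa using hbp)
  have hsol₁ : IsPSolvable p H₁ := by
    have h1 : IsPSolvable p (H₁.subgroupOf H) :=
      Cfsg.Agent.Lib.Helper40.isPSolvable_subgroup hpr hsep (H₁.subgroupOf H)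
    exact Cfsg.Agent.Lib.Helper15.IsPSolvable.of_surjective hpr h1
      (Subgroup.subgroupOfEquivOfLe hH₁H).toMonoidHom (Subgroup.subgroupOfEquivOfLe hH₁H).surjective
  haveI : Finite E := Finite.of_fintype E
  obtain ⟨h3, T, hT, ⟨e⟩⟩ := QuadCore.core_psolv hp hsol₁ (⟨a, haH₁⟩ : H₁) ⟨b, hbH₁⟩ hgen hαp hβp
    ψ hψ
  refine ⟨h3, ?_⟩
  obtain ⟨K, L, hL, hK, hiso⟩ := QuadSection.section_of_hom H₁ ψ T hT e
  exact ⟨K, L, hL, hK.trans hH₁H, hiso⟩

end Cfsg.Agent.S0596
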