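import Cfsg.Statements.S0713
import Cfsg.Agent.Lib.Helper17.MultTrans

set_option autoImplicit false
open Cfsg

namespace Cfsg.Agent.S0713

open MulAction SubMulAction Equiv Equiv.Perm Subgroup Cfsg.Agent.Lib.Helper17
open scoped Pointwise

variable {α : Type*} [Fintype α] [DecidableEq α]

/-- Step 1: a primitive group containing a `p`-cycle is `(n - p)`-transitive. -/
theorem multTrans (G : Subgroup (Perm α)) (hG : IsPreprimitive G α) {p : ℕ} (hp : p.Prime)
    (hpn : p + 3 ≤ Fintype.card α) {g : Perm α} (hgc : g.IsCycle) (hgp : g.support.card = p)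
    (hg : g ∈ G) : IsMultiplyPretransitive G α (Fintype.card α - p) := by
  classical
  obtain ⟨n, hn⟩ : ∃ n, Fintype.card α = p + 1 + n := ⟨Fintype.card α - p - 1, by omega⟩
  have hsc : Set.ncard ((g.support)ᶜ : Set α) = n + 1 := by
    apply Nat.add_left_cancel
    rw [Set.ncard_add_ncard_compl, Set.ncard_coe_finset, hgp, Nat.card_eq_fintype_card, hn]
    ring
  have hJ : IsMultiplyPreprimitive G α (n + 2) := by
    apply hG.isMultiplyPreprimitive hsc
    · rw [Nat.card_eq_fintype_card, hn]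
      have := hp.two_le
      omega
    have := isPretransitive_of_isCycle_mem hgc hg
    apply IsPreprimitive.of_prime_card
    convert hp
    have h1 : Nat.card (ofFixingSubgroup G ((g.support : Set α)ᶜ)) =
        Set.ncard (((g.support : Set α)ᶜ)ᶜ) := Nat.card_coe_set_eq _
    rw [h1, compl_compl, Set.ncard_coe_finset, hgp]
  have hT : IsMultiplyPretransitive G α (n + 2) := hJ.isMultiplyPretransitive
  have : Fintype.card α - p = n + 1 := by omega
  rw [this]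
  apply isMultiplyPretransitive_of_le (n := n + 2) (Nat.le_succ _)
  rw [Nat.card_eq_fintype_card, hn]
  have := hp.two_le
  omega

/-- Sylow conjugacy for elements of order `p` when `p ^ 2` does not divide the group order. -/
theorem conj_mem_zpowers {K : Type*} [Group K] [Finite K] {p : ℕ} (hp : p.Prime)
    (hK : ¬ p ^ 2 ∣ Nat.card K) (a b : K) (ha : orderOf a = p) (hb : orderOf b = p) :
    ∃ h : K, h * b * h⁻¹ ∈ zpowers a := by
  have : Fact p.Prime := ⟨hp⟩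
  have hsyl : ∀ c : K, orderOf c = p → ∃ S : Sylow p K, (S : Subgroup K) = zpowers c := by
    intro c hc
    have hcard : Nat.card (zpowers c) = p := by rw [Nat.card_zpowers, hc]
    have hP1 : IsPGroup p (zpowers c) := IsPGroup.of_card (n := 1) (by rw [hcard, pow_one])
    have hP2 : ¬ p ∣ (zpowers c).index := by
      intro hdvd
      apply hK
      rw [← (zpowers c).card_mul_index, hcard, pow_two]
      exact Nat.mul_dvd_mul_left p hdvd
    exact ⟨hP1.toSylow hP2, rfl⟩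
  obtain ⟨Sa, hSa⟩ := hsyl a ha
  obtain ⟨Sb, hSb⟩ := hsyl b hb
  obtain ⟨h, hh⟩ := MulAction.exists_smul_eq K Sb Sa
  refine ⟨h, ?_⟩
  have h1 : b ∈ (Sb : Subgroup K) := by rw [hSb]; exact mem_zpowers b
  have h2 : MulAut.conj h • b ∈ MulAut.conj h • (Sb : Subgroup K) :=
    Subgroup.smul_mem_pointwise_smul _ _ _ h1
  rw [← Sylow.coe_subgroup_smul, hh, hSa] at h2
  simpa [MulAut.smul_def, MulAut.conj_apply] using h2

/-- The elements of `G` fixing every point outside `Δ`. -/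
def fixOut (G : Subgroup (Perm α)) (Δ : Finset α) : Subgroup (Perm α) where
  carrier := {h | h ∈ G ∧ ∀ x, x ∉ Δ → h x = x}
  one_mem' := ⟨G.one_mem, fun _ _ => rfl⟩
  mul_mem' := by
    rintro a b ⟨ha, ha'⟩ ⟨hb, hb'⟩
    refine ⟨G.mul_mem ha hb, fun x hx => ?_⟩
    rw [Perm.mul_apply, hb' x hx, ha' x hx]
  inv_mem' := by
    rintro a ⟨ha, ha'⟩
    refine ⟨G.inv_mem ha, fun x hx => ?_⟩
    rw [Perm.inv_eq_iff_eq, ha' x hx]

theorem fixOut_card_dvd (G : Subgroup (Perm α)) (Δ : Finset α) :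
    Nat.card (fixOut G Δ) ∣ (Δ.card).factorial := by
  have hle : fixOut G Δ ≤ (Perm.ofSubtype (p := fun x => x ∈ Δ)).range := by
    rintro h ⟨_, hh⟩
    have h1 : ∀ x, h x ∈ Δ ↔ x ∈ Δ := by
      intro x
      constructor
      · intro hx
        by_contra hx'
        rw [hh x hx'] at hx
        exact hx' hx
      · intro hx
        by_contra hx'
        have := hh (h x) hx'
        have h3 := h.injective this
        rw [h3] at hx'
        exact hx' hx
    have h2 : ∀ x, h x ≠ x → x ∈ Δ := by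
      intro x hx
      by_contra hx'
      exact hx (hh x hx')
    exact ⟨subtypePerm h h1, Perm.ofSubtype_subtypePerm h1 h2⟩
  have h1 := Subgroup.card_dvd_of_le hle
  have h2 : Nat.card (Perm.ofSubtype (p := fun x => x ∈ Δ)).range =
      Nat.card (Perm {x // x ∈ Δ}) :=
    Nat.card_congr (MonoidHom.ofInjective Perm.ofSubtype_injective).toEquiv.symm
  rw [h2, Nat.card_perm] at h1
  simpa using h1

omit [Fintype α] [DecidableEq α] in
theorem perm_apply_inv_self (σ : Perm α) (x : α) : σ (σ⁻¹ x) = x := by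
  simp only [Equiv.Perm.coe_inv, Equiv.apply_symm_apply]

theorem sq_not_dvd_factorial {p : ℕ} (hp : p.Prime) : ¬ p ^ 2 ∣ p.factorial := by
  intro h
  rw [← Nat.mul_factorial_pred hp.ne_zero, pow_two] at h
  have h1 : p ∣ (p - 1).factorial := Nat.dvd_of_mul_dvd_mul_left hp.pos h
  rw [hp.dvd_factorial] at h1
  have := hp.pos
  omega

/-- Witt-type lemma: permutations of the fixed points of `g` are induced by elements of `G`
that normalise `⟨g⟩`. -/
theorem exists_normalizing (G : Subgroup (Perm α)) (hG : IsPreprimitive G α) {p : ℕ}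
    (hp : p.Prime) (hpn : p + 3 ≤ Fintype.card α) {g : Perm α} (hgc : g.IsCycle)
    (hgp : g.support.card = p) (hg : g ∈ G) (σ : Perm α) (hσ : ∀ x ∈ g.support, σ x = x) :
    ∃ n ∈ G, n * g * n⁻¹ ∈ zpowers g ∧ ∀ x, x ∉ g.support → n x = σ x := by
  have hT := multTrans G hG hp hpn hgc hgp hg
  have hΓ : (g.supportᶜ).card = Fintype.card α - p := by
    rw [Finset.card_compl, hgp]
  obtain ⟨y, hy⟩ := exists_smul_eq_of_card_eq hT (g.supportᶜ) hΓ σ
  have hy' : ∀ x, x ∉ g.support → (y : Perm α) x = σ x := by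
    intro x hx
    exact hy x (Finset.mem_compl.mpr hx)
  -- σ preserves the complement of the support
  have hσΓ : ∀ x, x ∉ g.support → σ x ∉ g.support := by
    intro x hx hx'
    have h1 := hσ (σ x) hx'
    have h2 := σ.injective h1
    rw [h2] at hx'
    exact hx hx'
  have hσΓ' : ∀ x, x ∉ g.support → σ⁻¹ x ∉ g.support := by
    intro x hx hx'
    have h1 := hσ (σ⁻¹ x) hx'
    rw [perm_apply_inv_self] at h1
    rw [← h1] at hx'
    exact hx hx'
  have hyinv : ∀ x, x ∉ g.support → (y : Perm α)⁻¹ x = σ⁻¹ x := by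
    intro x hx
    rw [Perm.inv_eq_iff_eq, hy' _ (hσΓ' x hx), perm_apply_inv_self]
  -- the conjugate of g by y
  have hgfix : ∀ x, x ∉ g.support → g x = x := fun x hx => Perm.notMem_support.mp hx
  have hg_mem : g ∈ fixOut G g.support := ⟨hg, hgfix⟩
  have hg2_mem : (y : Perm α) * g * (y : Perm α)⁻¹ ∈ fixOut G g.support := by
    refine ⟨G.mul_mem (G.mul_mem y.2 hg) (G.inv_mem y.2), fun x hx => ?_⟩
    rw [Perm.mul_apply, Perm.mul_apply, hyinv x hx, hgfix _ (hσΓ' x hx), ← hyinv x hx,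
      perm_apply_inv_self]
  have hord : orderOf g = p := by rw [hgc.orderOf, hgp]
  have hord2 : orderOf ((y : Perm α) * g * (y : Perm α)⁻¹) = p := by
    have := orderOf_injective (MulAut.conj (y : Perm α)).toMonoidHom
      (MulAut.conj (y : Perm α)).injective g
    simp only [MulEquiv.toMonoidHom_eq_coe, MonoidHom.coe_coe, MulAut.conj_apply] at this
    rw [this, hord]
  have hK : ¬ p ^ 2 ∣ Nat.card (fixOut G g.support) := by
    intro h
    have h1 := fixOut_card_dvd G g.support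
    rw [hgp] at h1
    exact sq_not_dvd_factorial hp (h.trans h1)
  obtain ⟨h, hh⟩ := conj_mem_zpowers hp hK (⟨g, hg_mem⟩ : fixOut G g.support)
    ⟨_, hg2_mem⟩ (by rw [Subgroup.orderOf_mk, hord]) (by rw [Subgroup.orderOf_mk, hord2])
  rw [Subgroup.mem_zpowers_iff] at hh
  obtain ⟨j, hj⟩ := hh
  have hj' : g ^ j = (h : Perm α) * ((y : Perm α) * g * (y : Perm α)⁻¹) * (h : Perm α)⁻¹ := by
    have := congrArg (Subtype.val) hj
    simpa using this
  refine ⟨(h : Perm α) * (y : Perm α), G.mul_mem h.2.1 y.2, ?_, ?_⟩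
  · rw [Subgroup.mem_zpowers_iff]
    refine ⟨j, ?_⟩
    rw [hj']
    group
  · intro x hx
    rw [Perm.mul_apply, hy' x hx]
    exact h.2.2 _ (hσΓ x hx)

/-- facts about a permutation `n` that agrees off `Δ` with a permutation `σ` fixing `Δ` -/
theorem off_facts (Δ : Finset α) (n σ : Perm α) (hσ : ∀ x ∈ Δ, σ x = x)
    (hn : ∀ x, x ∉ Δ → n x = σ x) :
    (∀ x, x ∉ Δ → σ x ∉ Δ) ∧ (∀ x, x ∉ Δ → σ⁻¹ x ∉ Δ) ∧ (∀ x, x ∉ Δ → n⁻¹ x = σ⁻¹ x) := by
  have h1 : ∀ x, x ∉ Δ → σ x ∉ Δ := by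
    intro x hx hx'
    have h1 := hσ (σ x) hx'
    have h2 := σ.injective h1
    rw [h2] at hx'
    exact hx hx'
  have h2 : ∀ x, x ∉ Δ → σ⁻¹ x ∉ Δ := by
    intro x hx hx'
    have h1 := hσ (σ⁻¹ x) hx'
    rw [perm_apply_inv_self] at h1
    rw [← h1] at hx'
    exact hx hx'
  refine ⟨h1, h2, fun x hx => ?_⟩
  rw [Perm.inv_eq_iff_eq, hn _ (h2 x hx), perm_apply_inv_self]

theorem swap_fix (Δ : Finset α) {u v : α} (hu : u ∉ Δ) (hv : v ∉ Δ) :
    ∀ x ∈ Δ, swap u v x = x := by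
  intro x hx
  apply swap_apply_of_ne_of_ne
  · rintro rfl; exact hu hx
  · rintro rfl; exact hv hx

/-- Jordan's Theorem: a primitive permutation group of degree `n ≥ 5` containing a `p`-cycle for a prime `p ≤ n - 3` contains the alternating group. -/
theorem result {α : Type*} [Fintype α] [DecidableEq α] (G : Subgroup (Equiv.Perm α)) (hG : MulAction.IsPreprimitive G α) {p : ℕ} (hp : p.Prime) (hn : 5 ≤ Fintype.card α) (hpn : p + 3 ≤ Fintype.card α) {g : Equiv.Perm α} (hgc : g.IsCycle) (hgp : g.support.card = p) (hg : g ∈ G) : alternatingGroup α ≤ G := by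
  -- three fixed points of g
  have hΓ : 3 ≤ (g.supportᶜ).card := by
    rw [Finset.card_compl, hgp]; omega
  obtain ⟨T, hTsub, hT3⟩ := Finset.exists_subset_card_eq hΓ
  obtain ⟨u, v, w, huv, huw, hvw, rfl⟩ := Finset.card_eq_three.mp hT3
  have hu : u ∉ g.support := Finset.mem_compl.mp (hTsub (by simp))
  have hv : v ∉ g.support := Finset.mem_compl.mp (hTsub (by simp))
  have hw : w ∉ g.support := Finset.mem_compl.mp (hTsub (by simp))
  set σ₁ : Perm α := swap u v with hσ₁def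
  set σ₂ : Perm α := swap u w with hσ₂def
  have hσ₁ := swap_fix g.support hu hv
  have hσ₂ := swap_fix g.support hu hw
  obtain ⟨n₁, hn₁G, hn₁g, hn₁σ⟩ := exists_normalizing G hG hp hpn hgc hgp hg σ₁ hσ₁
  obtain ⟨n₂, hn₂G, hn₂g, hn₂σ⟩ := exists_normalizing G hG hp hpn hgc hgp hg σ₂ hσ₂
  obtain ⟨a1, a2, a3⟩ := off_facts g.support n₁ σ₁ hσ₁ hn₁σ
  obtain ⟨b1, b2, b3⟩ := off_facts g.support n₂ σ₂ hσ₂ hn₂σ
  rw [Subgroup.mem_zpowers_iff] at hn₁g hn₂g
  obtain ⟨e₁, he₁⟩ := hn₁g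
  obtain ⟨e₂, he₂⟩ := hn₂g
  -- the commutator commutes with g
  have hA : (n₁ * n₂) * g * (n₁ * n₂)⁻¹ = g ^ (e₁ * e₂) := by
    calc (n₁ * n₂) * g * (n₁ * n₂)⁻¹ = n₁ * (n₂ * g * n₂⁻¹) * n₁⁻¹ := by group
      _ = n₁ * g ^ e₂ * n₁⁻¹ := by rw [he₂]
      _ = (n₁ * g * n₁⁻¹) ^ e₂ := by rw [conj_zpow]
      _ = (g ^ e₁) ^ e₂ := by rw [he₁]
      _ = g ^ (e₁ * e₂) := by rw [zpow_mul]
  have hB : (n₂ * n₁) * g * (n₂ * n₁)⁻¹ = g ^ (e₁ * e₂) := by
    calc (n₂ * n₁) * g * (n₂ * n₁)⁻¹ = n₂ * (n₁ * g * n₁⁻¹) * n₂⁻¹ := by group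
      _ = n₂ * g ^ e₁ * n₂⁻¹ := by rw [he₁]
      _ = (n₂ * g * n₂⁻¹) ^ e₁ := by rw [conj_zpow]
      _ = (g ^ e₂) ^ e₁ := by rw [he₂]
      _ = g ^ (e₁ * e₂) := by rw [← zpow_mul, mul_comm]
  set c : Perm α := n₁⁻¹ * n₂⁻¹ * n₁ * n₂ with hcdef
  have hcG : c ∈ G := G.mul_mem (G.mul_mem (G.mul_mem (G.inv_mem hn₁G) (G.inv_mem hn₂G)) hn₁G) hn₂G
  have hcomm : Commute c g := by
    have h := hA.trans hB.symm
    change c * g = g * c
    calc c * g = (n₂ * n₁)⁻¹ * ((n₁ * n₂) * g * (n₁ * n₂)⁻¹) * (n₁ * n₂) := by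
          rw [hcdef]; group
      _ = (n₂ * n₁)⁻¹ * ((n₂ * n₁) * g * (n₂ * n₁)⁻¹) * (n₁ * n₂) := by rw [h]
      _ = g * c := by rw [hcdef]; group
  -- action of c off the support
  have hc_off : ∀ x, x ∉ g.support → c x = (σ₁⁻¹ * σ₂⁻¹ * σ₁ * σ₂) x := by
    intro x hx
    simp only [hcdef, Perm.mul_apply]
    rw [hn₂σ x hx, hn₁σ _ (b1 x hx), b3 _ (a1 _ (b1 x hx)), a3 _ (b2 _ (a1 _ (b1 x hx)))]
  obtain ⟨hc', hmem⟩ := hgc.commute_iff.mp hcomm
  rw [Subgroup.mem_zpowers_iff] at hmem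
  obtain ⟨j, hj⟩ := hmem
  have ht : c * (g ^ j)⁻¹ = σ₁⁻¹ * σ₂⁻¹ * σ₁ * σ₂ := by
    ext x
    by_cases hx : x ∈ g.support
    · have hx' : (g ^ j)⁻¹ x ∈ g.support := by
        rw [← zpow_neg]; exact Perm.zpow_apply_mem_support.mpr hx
      rw [Perm.mul_apply, ← Perm.ofSubtype_subtypePerm_of_mem hc' hx', ← hj, perm_apply_inv_self]
      have i1 : ∀ y ∈ g.support, σ₁⁻¹ y = y := by
        intro y hy; rw [Perm.inv_eq_iff_eq, hσ₁ y hy]
      have i2 : ∀ y ∈ g.support, σ₂⁻¹ y = y := by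
        intro y hy; rw [Perm.inv_eq_iff_eq, hσ₂ y hy]
      simp only [Perm.mul_apply]
      rw [hσ₂ x hx, hσ₁ x hx, i2 x hx, i1 x hx]
    · have hgx : g x = x := Perm.notMem_support.mp hx
      have h1 : (g ^ j)⁻¹ x = x := by
        rw [← zpow_neg]; exact Perm.zpow_apply_eq_self_of_apply_eq_self hgx _
      rw [Perm.mul_apply, h1, hc_off x hx]
  have h3 : (σ₁⁻¹ * σ₂⁻¹ * σ₁ * σ₂).IsThreeCycle := by
    have : σ₁⁻¹ * σ₂⁻¹ * σ₁ * σ₂ = (σ₁ * σ₂) * (σ₁ * σ₂) := by
      rw [hσ₁def, hσ₂def, swap_inv, swap_inv]; group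
    rw [this]
    exact (isThreeCycle_swap_mul_swap_same huv huw hvw).isThreeCycle_sq
  have htG : σ₁⁻¹ * σ₂⁻¹ * σ₁ * σ₂ ∈ G := by
    rw [← ht]
    exact G.mul_mem hcG (G.inv_mem (G.zpow_mem hg j))
  exact alternatingGroup_le_of_isPreprimitive_of_isThreeCycle_mem hG h3 htG

end Cfsg.Agent.S0713
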