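import Cfsg.Statements.S1040
import Cfsg.Agent.Lib.Helper24.FactsAll
import Cfsg.Agent.Lib.Helper24.MonoTab
import Cfsg.Agent.Lib.Helper24.UFTab

set_option autoImplicit false
open Cfsg

namespace Cfsg.Agent.S1040

/-- `U ∩ N = 1` and `B ∩ N = UH ∩ N = H`. -/
theorem result {F : Type*} [Field F] (D : Cfsg.Lie.ChevalleyDatum) (hD : D ∈ [Cfsg.Lie.chevG2, Cfsg.Lie.chevB2, Cfsg.Lie.chevD4, Cfsg.Lie.chevF4, Cfsg.Lie.chevE6, Cfsg.Lie.chevE7, Cfsg.Lie.chevE8]) :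
    D.posUnipotent F ⊓ D.monomialSubgroup F = ⊥ ∧ D.borelSubgroup F ⊓ D.monomialSubgroup F = D.diagonalSubgroup F := by
  obtain ⟨tab, orb, hN, hH, hM⟩ := Cfsg.Agent.Lib.Helper24.mfacts_all D hD
  exact (Cfsg.Agent.Lib.Helper24.facts_all D hD).pos_inf_monomial hN hH hM
    (Cfsg.Agent.Lib.Helper24.ufacts_all D hD)

end Cfsg.Agent.S1040
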