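import Cfsg.Statements.S0910
import Cfsg.Agent.Lib.Helper04.BurnsideSimple
import Cfsg.Agent.Lib.Helper82.LocalRing
import Cfsg.Agent.Lib.Helper82.CharSchur

set_option autoImplicit false
open Cfsg

namespace Cfsg.Agent.S0910

/-- Let G be a non-abelian finite simple group and p a prime. If an irreducible character χ lies in the principal block (relative to a maximal ideal of the algebraic integers containing p) and χ 1 is a power of p, then χ is the principal character. -/
theorem result {G : Type*} [Group G] [Finite G] (p : ℕ) [Fact p.Prime] (M : Ideal Cfsg.AlgInt) (hM : Cfsg.IsPModular p M) [IsSimpleGroup G] (hna : ∃ a b : G, a * b ≠ b * a) (χ : Cfsg.IrrCharacter G) (hχ : χ ∈ Cfsg.principalBlock M G) (k : ℕ) (hdeg : (χ : G → ℂ) 1 = (p : ℂ) ^ k) : (χ : G → ℂ) = fun _ => 1 := by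
  classical
  have hp : p.Prime := Fact.out
  have hprime : M.IsPrime := hM.2.1.isPrime
  have := Fintype.ofFinite G
  -- G is not of prime order
  have hnp : ¬ (Nat.card G).Prime := by
    intro hpr
    have : Fact (Nat.card G).Prime := ⟨hpr⟩
    have hcyc : IsCyclic G := isCyclic_of_prime_card rfl
    obtain ⟨a, b, hab⟩ := hna
    obtain ⟨g, hg⟩ := hcyc.exists_generator
    obtain ⟨i, rfl⟩ := Subgroup.mem_zpowers_iff.mp (hg a)
    obtain ⟨j, rfl⟩ := Subgroup.mem_zpowers_iff.mp (hg b)
    exact hab ((Commute.refl g).zpow_zpow i j).eq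
  obtain ⟨n, ρ, hirr, hρ⟩ := χ.2
  have := hirr
  have hfin : Module.finrank ℂ (Fin n → ℂ) = n := Module.finrank_fin_fun ℂ
  have h1 : (χ : G → ℂ) 1 = n := by
    rw [← hρ, Representation.char_one, hfin]
  -- it suffices to find a nontrivial element acting as a scalar
  suffices hsc : ∃ g : G, g ≠ 1 ∧ ∃ ω : ℂ, ρ g = ω • (LinearMap.id : (Fin n → ℂ) →ₗ[ℂ] (Fin n → ℂ)) by
    obtain ⟨g, hg, ω, hω⟩ := hsc
    have htriv := Cfsg.Agent.Lib.Helper04.rep_trivial_of_scalar hnp ρ g hg ω hω
    have hdim := Cfsg.Agent.Lib.Helper04.finrank_eq_one_of_trivial ρ htriv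
    rw [← hρ]
    funext x
    simp only [Representation.character]
    rw [htriv x, LinearMap.trace_one, hdim]
    simp
  have hnk : (n : ℂ) = (p : ℂ) ^ k := by rw [← h1, hdeg]
  have hnk' : n = p ^ k := by exact_mod_cast hnk
  by_cases hpG : p ∣ Nat.card G
  · -- Sylow p-subgroup nontrivial; central element
    obtain ⟨P⟩ : Nonempty (Sylow p G) := inferInstance
    have hPne : (P : Subgroup G) ≠ ⊥ := by
      intro hbot
      have hcard := P.card_eq_multiplicity
      rw [hbot, Subgroup.card_bot] at hcard
      have : (Nat.card G).factorization p = 0 := by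
        by_contra h0
        have : 1 < p ^ (Nat.card G).factorization p := Nat.one_lt_pow h0 hp.one_lt
        omega
      have h2 := (hp.dvd_iff_one_le_factorization (Nat.card_pos.ne')).mp hpG
      omega
    have : Nontrivial (P : Subgroup G) := (Subgroup.nontrivial_iff_ne_bot _).mpr hPne
    have : Nontrivial (Subgroup.center (P : Subgroup G)) := (P.isPGroup').center_nontrivial
    obtain ⟨z, hz⟩ := exists_ne (1 : Subgroup.center (P : Subgroup G))
    set z' : G := ((z : (P : Subgroup G)) : G) with hz'
    have hz'1 : z' ≠ 1 := by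
      intro h
      apply hz
      apply Subtype.ext
      apply Subtype.ext
      exact h
    have hle : (P : Subgroup G) ≤ Subgroup.centralizer ({z'} : Set G) := by
      intro x hx
      rw [Subgroup.mem_centralizer_iff]
      intro y hy
      rw [Set.mem_singleton_iff] at hy
      subst hy
      have hc := Subgroup.mem_center_iff.mp z.2 ⟨x, hx⟩
      have := congrArg (fun t : (P : Subgroup G) => (t : G)) hc
      exact this.symm
    have hnd : ¬ p ∣ (Subgroup.centralizer ({z'} : Set G)).index := by
      intro h
      exact P.not_dvd_index (dvd_trans h (Subgroup.index_dvd_of_le hle))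
    have hblock := hχ z'
    have hc1 : centralChar (fun _ : G => (1 : ℂ)) z'
        = ((Subgroup.centralizer ({z'} : Set G)).index : ℂ) := by
      simp [centralChar]
    have hne0 : (χ : G → ℂ) z' ≠ 0 := by
      intro h0
      apply hnd
      rw [← Cfsg.Agent.Lib.Helper82.memLocalIdeal_natCast_iff hM]
      have hc2 : centralChar (χ : G → ℂ) z' = 0 := by
        simp [centralChar, h0]
      rw [hc1, hc2, sub_zero] at hblock
      exact hblock
    have hcop : Nat.Coprime (Module.finrank ℂ (Fin n → ℂ))
        (Subgroup.centralizer ({z'} : Set G)).index := by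
      rw [hfin, hnk']
      exact Nat.Coprime.pow_left k ((Nat.Prime.coprime_iff_not_dvd hp).mpr hnd)
    rcases Cfsg.Agent.S0142.result ρ z' hcop with h0 | hnorm
    · rw [hρ] at h0
      exact absurd h0 hne0
    · exact ⟨z', hz'1, (Cfsg.Agent.Lib.Helper04.norm_char_eq_iff ρ z').mp hnorm⟩
  · -- p does not divide |G|: degree 1
    have hdvd : n ∣ Nat.card G := by
      have := Cfsg.Agent.Lib.Helper82.finrank_dvd_card ρ
      rw [hfin] at this
      rwa [Nat.card_eq_fintype_card]
    have hk0 : k = 0 := by
      by_contra hk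
      apply hpG
      exact dvd_trans (dvd_pow_self p hk) (hnk' ▸ hdvd)
    subst hk0
    have hn1 : n = 1 := by simpa using hnk'
    subst hn1
    obtain ⟨g, hg⟩ := exists_ne (1 : G)
    refine ⟨g, hg, ρ g (fun _ => 1) 0, ?_⟩
    apply LinearMap.ext
    intro v
    have hv : v = (v 0) • (fun _ : Fin 1 => (1 : ℂ)) := by
      funext i
      have : i = 0 := Subsingleton.elim _ _
      subst this
      simp
    funext i
    have hi : i = 0 := Subsingleton.elim _ _
    subst hi
    conv_lhs => rw [hv]
    rw [map_smul]
    simp [mul_comm]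

end Cfsg.Agent.S0910
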