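import Cfsg.Statements.S4106
import Mathlib

set_option autoImplicit false
open Cfsg
open scoped Pointwise

namespace Cfsg.Agent.S4106

universe u

lemma orderOf_conj' {G : Type*} [Group G] (a b : G) : orderOf (a * b * a⁻¹) = orderOf b := by
  rw [← MulAut.conj_apply]
  exact MulEquiv.orderOf_eq (MulAut.conj a) b

/-- the `π`-part of `n` -/
def piPart (π : Finset ℕ) (n : ℕ) : ℕ := ∏ q ∈ π, q ^ n.factorization q

lemma piPart_mono (π : Finset ℕ) (hπ : ∀ q ∈ π, q.Prime) {a b : ℕ} (hab : a ∣ b) (hb : b ≠ 0) :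
    piPart π a ≤ piPart π b := by
  unfold piPart
  have ha : a ≠ 0 := fun h => hb (by rw [h] at hab; exact zero_dvd_iff.mp hab)
  apply Finset.prod_le_prod (fun _ _ => Nat.zero_le _)
  intro q hq
  exact Nat.pow_le_pow_right (hπ q hq).pos ((Nat.factorization_le_iff_dvd ha hb).mpr hab q)

lemma dec {G : Type*} [Group G] [Finite G] (x : G) (p : ℕ) (hp : p.Prime) :
    ∃ u v : G, u * v = x ∧ Commute u v ∧ (∃ a : ℕ, orderOf u = p ^ a) ∧ ¬ p ∣ orderOf v ∧
      orderOf v ∣ orderOf x := by
  have hn0 : orderOf x ≠ 0 := (orderOf_pos x).ne'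
  set a := (orderOf x).factorization p with ha
  set m := orderOf x / p ^ a with hm
  have hnm : p ^ a * m = orderOf x := Nat.ordProj_mul_ordCompl_eq_self (orderOf x) p
  have hcop : Nat.Coprime (p ^ a) m := (Nat.coprime_ordCompl hp hn0).pow_left a
  have hbez := Nat.gcd_eq_gcd_ab (p ^ a) m
  rw [hcop.gcd_eq_one] at hbez
  have hpm : ¬ p ∣ m := Nat.not_dvd_ordCompl hp hn0
  refine ⟨x ^ ((m : ℤ) * Nat.gcdB (p ^ a) m), x ^ (((p ^ a : ℕ) : ℤ) * Nat.gcdA (p ^ a) m),
    ?_, ?_, ?_, ?_, ?_⟩
  · rw [← zpow_add]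
    conv_rhs => rw [← zpow_one x]
    congr 1
    rw [Nat.cast_one] at hbez
    linarith
  · exact Commute.zpow_zpow_self x _ _
  · have h1 : (x ^ ((m : ℤ) * Nat.gcdB (p ^ a) m)) ^ (p ^ a) = 1 := by
      rw [← zpow_natCast, ← zpow_mul]
      have : (m : ℤ) * Nat.gcdB (p ^ a) m * ((p ^ a : ℕ) : ℤ) =
          ((orderOf x : ℕ) : ℤ) * Nat.gcdB (p ^ a) m := by
        rw [← hnm]; push_cast; ring
      rw [this, zpow_mul, zpow_natCast, pow_orderOf_eq_one, one_zpow]
    obtain ⟨b, _, hb⟩ := (Nat.dvd_prime_pow hp).mp (orderOf_dvd_of_pow_eq_one h1)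
    exact ⟨b, hb⟩
  · have h1 : (x ^ (((p ^ a : ℕ) : ℤ) * Nat.gcdA (p ^ a) m)) ^ m = 1 := by
      rw [← zpow_natCast, ← zpow_mul]
      have : ((p ^ a : ℕ) : ℤ) * Nat.gcdA (p ^ a) m * (m : ℤ) =
          ((orderOf x : ℕ) : ℤ) * Nat.gcdA (p ^ a) m := by
        rw [← hnm]; push_cast; ring
      rw [this, zpow_mul, zpow_natCast, pow_orderOf_eq_one, one_zpow]
    intro hpd
    exact hpm (hpd.trans (orderOf_dvd_of_pow_eq_one h1))
  · exact orderOf_dvd_of_mem_zpowers (Subgroup.zpow_mem_zpowers x _)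

lemma conj_into_sylow {G : Type*} [Group G] [Finite G] (p : ℕ) [Fact p.Prime] (P : Sylow p G)
    (u : G) (hu : ∃ a : ℕ, orderOf u = p ^ a) : ∃ g : G, g * u * g⁻¹ ∈ (P : Subgroup G) := by
  obtain ⟨a, ha⟩ := hu
  have hzp : IsPGroup p (Subgroup.zpowers u) := by
    apply IsPGroup.of_card (n := a)
    rw [Nat.card_zpowers, ha]
  obtain ⟨R, hR⟩ := hzp.exists_le_sylow
  obtain ⟨g, hg⟩ := MulAction.exists_smul_eq G P R
  have hkR : u ∈ (R : Subgroup G) := hR (Subgroup.mem_zpowers u)
  rw [← hg, Sylow.coe_subgroup_smul, Subgroup.mem_pointwise_smul_iff_inv_smul_mem] at hkR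
  simp only [MulAut.smul_def, ← map_inv, MulAut.conj_apply, inv_inv] at hkR
  exact ⟨g⁻¹, by simpa using hkR⟩

theorem KL (π : Finset ℕ) (hπ : ∀ q ∈ π, q.Prime) :
    ∀ (G : Type u) [Group G] [Finite G], ∃ R : Finset G,
      R.card ≤ piPart π (Nat.card G) ∧
      ∀ x : G, (∀ q : ℕ, q.Prime → q ∣ orderOf x → q ∈ π) → ∃ r ∈ R, ∃ g : G, g * x * g⁻¹ = r := by
  classical
  induction π using Finset.induction_on with
  | empty =>
    intro G _ _
    refine ⟨{1}, ?_, ?_⟩
    · simp [piPart]
    · intro x hx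
      have : orderOf x = 1 := by
        by_contra h
        obtain ⟨q, hq, hqd⟩ := Nat.exists_prime_and_dvd h
        exact absurd (hx q hq hqd) (Finset.notMem_empty q)
      have hx1 : x = 1 := orderOf_eq_one_iff.mp this
      exact ⟨1, Finset.mem_singleton_self 1, 1, by rw [hx1]; group⟩
  | insert p π' hp' ih =>
    intro G _ _
    have hpp : p.Prime := hπ p (Finset.mem_insert_self p π')
    have : Fact p.Prime := ⟨hpp⟩
    have hπ' : ∀ q ∈ π', q.Prime := fun q hq => hπ q (Finset.mem_insert_of_mem hq)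
    have ih' := ih hπ'
    obtain ⟨P⟩ : Nonempty (Sylow p G) := inferInstance
    have : Fintype (P : Subgroup G) := Fintype.ofFinite _
    have hch : ∀ u : (P : Subgroup G), ∃ R : Finset ↥(Subgroup.centralizer ({(u : G)} : Set G)),
        R.card ≤ piPart π' (Nat.card ↥(Subgroup.centralizer ({(u : G)} : Set G))) ∧
        ∀ x : ↥(Subgroup.centralizer ({(u : G)} : Set G)),
          (∀ q : ℕ, q.Prime → q ∣ orderOf x → q ∈ π') → ∃ r ∈ R, ∃ g, g * x * g⁻¹ = r :=
      fun u => ih' ↥(Subgroup.centralizer ({(u : G)} : Set G))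
    choose Ru hRu1 hRu2 using hch
    refine ⟨Finset.univ.biUnion (fun u : (P : Subgroup G) =>
      (Ru u).image (fun v : ↥(Subgroup.centralizer ({(u : G)} : Set G)) => (u : G) * (v : G))), ?_, ?_⟩
    · calc (Finset.univ.biUnion (fun u : (P : Subgroup G) =>
            (Ru u).image (fun v : ↥(Subgroup.centralizer ({(u : G)} : Set G)) => (u : G) * (v : G)))).card
          ≤ ∑ u : (P : Subgroup G), ((Ru u).image (fun v : ↥(Subgroup.centralizer ({(u : G)} : Set G)) => (u : G) * (v : G))).card :=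
            Finset.card_biUnion_le
        _ ≤ ∑ u : (P : Subgroup G), piPart π' (Nat.card G) := by
            apply Finset.sum_le_sum
            intro u _
            calc ((Ru u).image (fun v : ↥(Subgroup.centralizer ({(u : G)} : Set G)) => (u : G) * (v : G))).card ≤ (Ru u).card :=
                  Finset.card_image_le
              _ ≤ piPart π' (Nat.card ↥(Subgroup.centralizer ({(u : G)} : Set G))) := hRu1 u
              _ ≤ piPart π' (Nat.card G) :=
                  piPart_mono π' hπ' (Subgroup.card_subgroup_dvd_card _) Nat.card_pos.ne'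
        _ = Nat.card (P : Subgroup G) * piPart π' (Nat.card G) := by
            rw [Finset.sum_const, Finset.card_univ, smul_eq_mul, Nat.card_eq_fintype_card (α := (P : Subgroup G))]
        _ = piPart (insert p π') (Nat.card G) := by
            unfold piPart
            rw [Finset.prod_insert hp']
            have := P.card_eq_multiplicity
            rw [this]
    · intro x hx
      obtain ⟨u, v, huv, hcomm, hu, hpv, hvx⟩ := dec x p hpp
      obtain ⟨g, hg⟩ := conj_into_sylow p P u hu
      obtain ⟨u', hu'⟩ : ∃ u' : G, u' = g * u * g⁻¹ := ⟨_, rfl⟩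
      obtain ⟨v', hv'⟩ : ∃ v' : G, v' = g * v * g⁻¹ := ⟨_, rfl⟩
      rw [← hu'] at hg
      have hv'C : v' ∈ Subgroup.centralizer ({u'} : Set G) := by
        rw [Subgroup.mem_centralizer_iff]
        intro z hz
        rw [Set.mem_singleton_iff] at hz
        subst hz
        rw [hu', hv']
        have := hcomm.eq
        calc g * u * g⁻¹ * (g * v * g⁻¹) = g * (u * v) * g⁻¹ := by group
          _ = g * (v * u) * g⁻¹ := by rw [this]
          _ = g * v * g⁻¹ * (g * u * g⁻¹) := by group
      have hv'pi : ∀ q : ℕ, q.Prime → q ∣ orderOf (⟨v', hv'C⟩ : ↥(Subgroup.centralizer ({u'} : Set G))) →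
          q ∈ π' := by
        intro q hq hqd
        rw [← Subgroup.orderOf_coe] at hqd
        simp only at hqd
        rw [hv', orderOf_conj'] at hqd
        have h1 : q ∈ insert p π' := hx q hq (hqd.trans hvx)
        rcases Finset.mem_insert.mp h1 with h2 | h2
        · exfalso
          rw [h2] at hqd
          exact hpv hqd
        · exact h2
      obtain ⟨r, hr, c, hc⟩ := hRu2 ⟨u', hg⟩ ⟨v', hv'C⟩ hv'pi
      refine ⟨u' * (r : G), ?_, (c : G) * g, ?_⟩
      · rw [Finset.mem_biUnion]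
        refine ⟨⟨u', hg⟩, Finset.mem_univ _, ?_⟩
        rw [Finset.mem_image]
        exact ⟨r, hr, rfl⟩
      · have hc' : (c : G) * v' * (c : G)⁻¹ = (r : G) := by
          have := congrArg (fun w : ↥(Subgroup.centralizer ({u'} : Set G)) => (w : G)) hc
          simpa using this
        have hcu : u' * (c : G) = (c : G) * u' := by
          have := c.2
          rw [Subgroup.mem_centralizer_iff] at this
          exact this u' rfl
        rw [← hc', ← huv]
        calc (c : G) * g * (u * v) * ((c : G) * g)⁻¹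
            = (c : G) * (g * u * g⁻¹) * (g * v * g⁻¹) * (c : G)⁻¹ := by group
          _ = ((c : G) * u') * v' * (c : G)⁻¹ := by rw [← hu', ← hv']
          _ = (u' * (c : G)) * v' * (c : G)⁻¹ := by rw [hcu]
          _ = u' * ((c : G) * v' * (c : G)⁻¹) := by group


theorem result {G : Type*} [Group G] [Finite G]
    (π : Set ℕ) (hπ : ∀ q ∈ π, q.Prime)
    (m : ℕ) (hm : m ∣ Nat.card G) (hmπ : ∀ q : ℕ, q.Prime → q ∣ m → q ∈ π)
    (hm' : ∀ q ∈ π, ¬ q ∣ Nat.card G / m) :
    Nat.card {C : ConjClasses G // ∀ q : ℕ, q.Prime → (∃ g : G, ConjClasses.mk g = C ∧ q ∣ orderOf g) → q ∈ π} ≤ m := by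
  classical
  have hG0 : Nat.card G ≠ 0 := Nat.card_pos.ne'
  have hm0 : m ≠ 0 := fun h => hG0 (by rw [h] at hm; exact zero_dvd_iff.mp hm)
  have hdiv0 : Nat.card G / m ≠ 0 := by
    intro h
    have := Nat.div_mul_cancel hm
    rw [h, zero_mul] at this
    exact hG0 this.symm
  have hGm : m * (Nat.card G / m) = Nat.card G := Nat.mul_div_cancel' hm
  obtain ⟨R, hR1, hR2⟩ := KL m.primeFactors (fun q hq => Nat.prime_of_mem_primeFactors hq) G
  have hpart : piPart m.primeFactors (Nat.card G) = m := by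
    unfold piPart
    have h1 : ∀ q ∈ m.primeFactors, q ^ (Nat.card G).factorization q = q ^ m.factorization q := by
      intro q hq
      have hqp := Nat.prime_of_mem_primeFactors hq
      have hqm := Nat.dvd_of_mem_primeFactors hq
      have hqπ := hmπ q hqp hqm
      have hnd := hm' q hqπ
      congr 1
      rw [← hGm, Nat.factorization_mul hm0 hdiv0]
      simp [Nat.factorization_eq_zero_of_not_dvd hnd]
    rw [Finset.prod_congr rfl h1, ← Nat.prod_factorization_eq_prod_primeFactors (fun p k => p ^ k)]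
    exact Nat.factorization_prod_pow_eq_self hm0
  rw [hpart] at hR1
  -- injection into R
  have hch : ∀ C : {C : ConjClasses G // ∀ q : ℕ, q.Prime →
      (∃ g : G, ConjClasses.mk g = C ∧ q ∣ orderOf g) → q ∈ π},
      ∃ r : G, r ∈ R ∧ ConjClasses.mk r = (C : ConjClasses G) := by
    rintro ⟨C, hC⟩
    obtain ⟨g, rfl⟩ := ConjClasses.mk_surjective C
    have hg : ∀ q : ℕ, q.Prime → q ∣ orderOf g → q ∈ m.primeFactors := by
      intro q hq hqd
      have hqπ : q ∈ π := hC q hq ⟨g, rfl, hqd⟩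
      have hnd := hm' q hqπ
      have hqG : q ∣ m * (Nat.card G / m) := by
        rw [hGm]; exact hqd.trans (orderOf_dvd_natCard g)
      rcases (Nat.Prime.dvd_mul hq).mp hqG with h | h
      · exact Nat.mem_primeFactors.mpr ⟨hq, h, hm0⟩
      · exact absurd h hnd
    obtain ⟨r, hr, c, hc⟩ := hR2 g hg
    refine ⟨r, hr, ?_⟩
    simp only
    rw [ConjClasses.mk_eq_mk_iff_isConj, isConj_comm, isConj_iff]
    exact ⟨c, hc⟩
  choose f hfR hf using hch
  have hinj : Function.Injective (fun C => (⟨f C, hfR C⟩ : {r : G // r ∈ R})) := by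
    intro C D hCD
    have h1 : f C = f D := congrArg (fun w : {r : G // r ∈ R} => (w : G)) hCD
    apply Subtype.ext
    rw [← hf C, ← hf D, h1]
  have h2 := Nat.card_le_card_of_injective _ hinj
  have h3 : Nat.card {r : G // r ∈ R} = R.card := by
    rw [Nat.card_eq_fintype_card, Fintype.card_coe]
  omega

end Cfsg.Agent.S4106
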