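import Cfsg.Statements.S1998
import Cfsg.Agent.Lib.Helper41.SecTransferMain
import Cfsg.Agent.Lib.Helper14.GlaubermanMin

set_option autoImplicit false
set_option linter.unusedSectionVars false
set_option linter.style.haveILetI false
universe u
open Cfsg

namespace Cfsg.Agent.S1998

open Cfsg.Agent.Lib.Helper41 Cfsg.Agent.Lib.Helper14
open scoped commutatorElement

section aux

variable {G : Type u} [Group G] [Finite G] {p : ℕ} [Fact p.Prime]

/-- `famD` commutes with conjugation -/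
theorem famD_lc {𝓕 : Set (Subgroup G → Subgroup G)} (h𝓕 : ∀ W ∈ 𝓕, IsConjugacyFunctor p W)
    (g : G) {P : Subgroup G} (hP : IsPGroup p P) :
    famD 𝓕 (lc g P) = lc g (famD 𝓕 P) := by
  have htop : lc g (⊤ : Subgroup G) = ⊤ := lc_eq_of_normal g ⊤
  unfold famD
  show _ = Subgroup.map _ _
  rw [Subgroup.map_iSup]
  refine iSup_congr fun W => ?_
  rw [Subgroup.map_iSup]
  refine iSup_congr fun hW => ?_
  show _ = lc g _
  rw [lc_inf, lc_commutator, lc_inf, htop, ← normalizer_lc, ← functor_lc (h𝓕 W hW) hP]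

end aux


/-- Let p be a prime, G a finite group with Sylow p-subgroup S, and 𝓦 a nonempty set of isomorphism-invariant p-group functors (W assigns to every group Q a subgroup W(Q), nontrivial whenever Q is a nontrivial finite p-group, and every isomorphism from a finite p-group Q onto a group R carries W(Q) onto W(R)). Suppose the induced conjugacy functors control transfer in every section of G other than G itself, but not in G. Let T be the subgroup generated by the S ∩ (N_G(W(S)))', W ∈ 𝓦, and M = N_G(T ∩ O_p(G)). Then: C_G(O_p(G)) ≤ O_p(G); M is a proper subgroup of G containing every proper subgroup of G that contains S (the unique maximal subgroup over S); [O_p(G), M] ≤ O_p(G) ∩ M' ≤ O_p(G) ∩ T; and every element u of S outside O_p(G) satisfies [X, u, …, u] ≰ Y with p − 1 entries u, for some chief factor X/Y of G with X ≤ O_p(G). -/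
theorem result {G : Type u} [Group G] [Finite G] {p : ℕ} [Fact p.Prime] (S : Sylow p G) (𝓦 : Set (∀ (Q : Type u) [Group Q], Subgroup Q)) (h𝓦 : ∀ W ∈ 𝓦, Cfsg.IsCharPFunctor.{u} p W) (hne : 𝓦.Nonempty) (hsec : ∀ (K R : Subgroup G) [hR : (R.subgroupOf K).Normal], (K = ⊤ → R ≠ ⊥) → Cfsg.FamilyControlsTransferIn p ((fun W => Cfsg.inducedFunctor (G := (↥K ⧸ R.subgroupOf K)) W) '' 𝓦) ⊤) (hG : ¬ Cfsg.FamilyControlsTransferIn p ((fun W => Cfsg.inducedFunctor (G := G) W) '' 𝓦) ⊤) (T M : Subgroup G) (hT : T = (⨆ W ∈ 𝓦, (S : Subgroup G) ⊓ ⁅Subgroup.normalizer ((Cfsg.inducedFunctor (G := G) W (S : Subgroup G) : Subgroup G) : Set G), Subgroup.normalizer ((Cfsg.inducedFunctor (G := G) W (S : Subgroup G) : Subgroup G) : Set G)⁆)) (hM : M = Subgroup.normalizer ((T ⊓ Cfsg.pCore p G : Subgroup G) : Set G)) : Subgroup.centralizer ((Cfsg.pCore p G : Subgroup G) : Set G) ≤ Cfsg.pCore p G ∧ (M ≠ ⊤ ∧ ∀ H : Subgroup G, (S : Subgroup G) ≤ H → H ≠ ⊤ → H ≤ M) ∧ (⁅Cfsg.pCore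 p G, M⁆ ≤ Cfsg.pCore p G ⊓ ⁅M, M⁆ ∧ Cfsg.pCore p G ⊓ ⁅M, M⁆ ≤ Cfsg.pCore p G ⊓ T) ∧ ∀ u : G, u ∈ (S : Subgroup G) → u ∉ Cfsg.pCore p G → ∃ U V : Subgroup G, Cfsg.IsChiefFactor U V ∧ U ≤ Cfsg.pCore p G ∧ ¬ Cfsg.iterCommutator U (Subgroup.zpowers u) (p - 1) ≤ V := by
  classical
  have hp : p.Prime := Fact.out
  -- control of transfer in proper subgroups and proper quotients
  let Φ : ∀ (Y : Type u) [Group Y], Prop := fun Y _ => Nat.card Y < Nat.card G → GoodT p 𝓦 Y
  have hΦ : IsoInv Φ := by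
    intro Y Z _ _ _ e hY hZ
    exact GoodT.of_equiv h𝓦 e (hY (by rw [Nat.card_congr e.toEquiv]; exact hZ))
  have hall : SecAll Φ G := by
    intro K R hn hlt
    apply hsec K R
    intro hK hRb
    subst hK
    subst hRb
    have hb : (⊥ : Subgroup G).subgroupOf ⊤ = ⊥ := Subgroup.bot_subgroupOf _
    let e : (↥(⊤ : Subgroup G) ⧸ (⊥ : Subgroup G).subgroupOf ⊤) ≃* G :=
      ((QuotientGroup.quotientMulEquivOfEq hb).trans QuotientGroup.quotientBot).trans
        Subgroup.topEquiv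
    rw [Nat.card_congr e.toEquiv] at hlt
    exact lt_irrefl _ hlt
  have hsub : ∀ H : Subgroup G, H ≠ ⊤ → GoodT p 𝓦 ↥H := fun H hH =>
    ((hall.subgroup hΦ H).top hΦ) (card_subgroup_lt hH)
  have hquot : ∀ (N : Subgroup G) [N.Normal], N ≠ ⊥ → GoodT p 𝓦 (G ⧸ N) := fun N _ hN =>
    ((hall.quotient hΦ N).top hΦ) (card_quotient_lt hN)
  have hGood : ¬ GoodT p 𝓦 G := hG
  have h𝓦G := isConjugacyFunctor_indFam h𝓦 G
  -- `T` is `famD`
  have hTD : T = famD (indFam 𝓦 G) (S : Subgroup G) := by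
    rw [hT]
    unfold famD indFam
    rw [iSup_image]
    simp only [top_inf_eq]
  set Q := Cfsg.pCore p G with hQdef
  haveI hQn : Q.Normal := pCore_normal' (X := G) p
  have hQS : Q ≤ (S : Subgroup G) := Cfsg.Agent.Lib.Helper40.pCore_le_sylow' S
  -- the group is constrained and `Q ∩ G' ≰ T`
  have hnc : ¬ ConstrainedT p 𝓦 G := fun h => hGood (secT_step h𝓦 G h hsub hquot)
  unfold ConstrainedT at hnc
  push Not at hnc
  obtain ⟨hcon, T₀, hT₀⟩ := hnc
  have hfail : ¬ Q ⊓ commutator G ≤ T := by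
    intro hle
    apply hT₀
    obtain ⟨g, hg⟩ := MulAction.exists_smul_eq G S T₀
    have hgS : (T₀ : Subgroup G) = lc g (S : Subgroup G) := by
      rw [← hg]
      rfl
    rw [hgS, famD_lc h𝓦G g S.2, ← hTD]
    haveI : (Q ⊓ commutator G).Normal := inferInstance
    rw [← lc_eq_of_normal g (Q ⊓ commutator G)]
    exact lc_mono hle
  -- proper overgroups of `S`
  have hsubD : ∀ H : Subgroup G, (S : Subgroup G) ≤ H → H ≠ ⊤ →
      (S : Subgroup G) ⊓ ⁅H, H⁆ ≤ T := by
    intro H hSH hH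
    have h1 := GoodT.subgroup h𝓦 H (hsub H hH)
    have hidx : ¬ p ∣ (S : Subgroup G).relIndex H := fun h =>
      S.not_dvd_index (h.trans (Subgroup.relIndex_dvd_index_of_le hSH))
    rw [hTD]
    exact ftransAt_le_famD (ftransAt_of_controls h𝓦G h1 hSH S.2 hidx)
  have hnotle : ¬ (S : Subgroup G) ⊓ ⁅(⊤ : Subgroup G), ⊤⁆ ≤ T := by
    intro hle
    apply hGood
    rw [hTD] at hle
    exact ⟨S, le_top, S.2, sylow_relIndex_top S, ftransAt_top_of_le hle⟩
  -- each term of `T`
  have hTterm : ∀ W ∈ 𝓦, (S : Subgroup G) ⊓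
      ⁅Subgroup.normalizer ((Cfsg.inducedFunctor (G := G) W (S : Subgroup G) : Subgroup G) : Set G),
        Subgroup.normalizer ((Cfsg.inducedFunctor (G := G) W (S : Subgroup G) : Subgroup G) : Set G)⁆
        ≤ T := by
    intro W hW
    rw [hT]
    exact le_iSup₂ (f := fun W (_ : W ∈ 𝓦) => (S : Subgroup G) ⊓
      ⁅Subgroup.normalizer ((Cfsg.inducedFunctor (G := G) W (S : Subgroup G) : Subgroup G) : Set G),
        Subgroup.normalizer ((Cfsg.inducedFunctor (G := G) W (S : Subgroup G) : Subgroup G) : Set G)⁆)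
      W hW
  obtain ⟨W₀, hW₀⟩ := hne
  have hW₀f : Cfsg.IsConjugacyFunctor p (Cfsg.inducedFunctor (G := G) W₀) :=
    isConjugacyFunctor_inducedFunctor W₀ (h𝓦 W₀ hW₀) G
  have hNSW : Subgroup.normalizer (((S : Subgroup G) : Subgroup G) : Set G) ≤
      Subgroup.normalizer ((Cfsg.inducedFunctor (G := G) W₀ (S : Subgroup G) : Subgroup G) : Set G) :=
    normalizer_le_normalizer_functor hW₀f S.2
  have hS'T : ⁅(S : Subgroup G), (S : Subgroup G)⁆ ≤ T := by
    refine le_trans (le_inf ?_ ?_) (hTterm W₀ hW₀)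
    · exact Subgroup.commutator_le.mpr (fun a ha b hb => by
        rw [commutatorElement_def]
        exact Subgroup.mul_mem _ (Subgroup.mul_mem _ (Subgroup.mul_mem _ ha hb)
          (Subgroup.inv_mem _ ha)) (Subgroup.inv_mem _ hb))
    · exact Subgroup.commutator_mono (Subgroup.le_normalizer.trans hNSW)
        (Subgroup.le_normalizer.trans hNSW)
  have hNStop : Subgroup.normalizer (((S : Subgroup G) : Subgroup G) : Set G) ≠ ⊤ := by
    intro htop
    apply hnotle
    refine le_trans (inf_le_inf_left _ ?_) (hTterm W₀ hW₀)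
    rw [htop, top_le_iff] at hNSW
    rw [hNSW]
  -- a proper overgroup of `S` acts trivially on `Q` modulo `T`
  have hprop : ∀ H : Subgroup G, (S : Subgroup G) ≤ H → H ≠ ⊤ →
      ∀ x ∈ Q, ∀ h ∈ H, h⁻¹ * x * h * x⁻¹ ∈ T := by
    intro H hSH hH x hx h hh
    apply hsubD H hSH hH
    refine ⟨?_, ?_⟩
    · exact hQS (Q.mul_mem (inv_conj_mem Q hx h) (inv_mem hx))
    · have : h⁻¹ * x * h * x⁻¹ = ⁅h⁻¹, x⁆ := by rw [commutatorElement_def, inv_inv]
      rw [this]
      exact Subgroup.commutator_mem_commutator (inv_mem hh) (hSH (hQS hx))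
  -- (b1)
  have hb1 : ∀ H : Subgroup G, (S : Subgroup G) ≤ H → H ≠ ⊤ → H ≤ M := by
    intro H hSH hH h hh
    rw [hM]
    apply Subgroup.mem_normalizer_fintype
    intro n hn
    have hnT : n ∈ T := hn.1
    have hnQ : n ∈ Q := hn.2
    have h1 := hprop H hSH hH n hnQ h⁻¹ (inv_mem hh)
    rw [inv_inv] at h1
    refine ⟨?_, hQn.conj_mem n hnQ h⟩
    have : h * n * h⁻¹ = (h * n * h⁻¹ * n⁻¹) * n := by group
    rw [this]
    exact T.mul_mem h1 hnT
  -- (b2)
  have hb2 : M ≠ ⊤ := by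
    intro htop
    rw [hM] at htop
    have hR : (T ⊓ Q).Normal := Subgroup.normalizer_eq_top_iff.mp htop
    apply hfail
    exact inf_commutator_le_of_inf_normal S Q T hQS hS'T hR
      (fun h hh x hx => hprop _ Subgroup.le_normalizer hNStop x hx h hh)
  have hStop : (S : Subgroup G) ≠ ⊤ := by
    intro h
    apply hNStop
    rw [eq_top_iff, ← h]
    exact Subgroup.le_normalizer
  have hSM : (S : Subgroup G) ≤ M := hb1 _ le_rfl hStop
  refine ⟨hcon, ⟨hb2, hb1⟩, ⟨?_, ?_⟩, ?_⟩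
  · exact le_inf (Subgroup.commutator_le_left Q M) (Subgroup.commutator_mono (hQS.trans hSM) le_rfl)
  · exact le_inf inf_le_left ((inf_le_inf_right _ hQS).trans (hsubD M hSM hb2))
  · intro u huS huQ
    exact exists_chiefFactor_not_engel S T M hS'T hb1
      (fun x hx m hm => hprop M hSM hb2 x hx m hm) hfail u huS huQ

end Cfsg.Agent.S1998
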