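import Cfsg.Statements.S1972
import Cfsg.Agent.S1998

set_option autoImplicit false
set_option linter.unusedSectionVars false
set_option linter.style.haveILetI false
universe u
open Cfsg

namespace Cfsg.Agent.S1972

open Cfsg.Agent.Lib.Helper41 Cfsg.Agent.Lib.Helper14

section aux

theorem card_section_lt {X : Type u} [Group X] [Finite X] (K R : Subgroup X)
    [(R.subgroupOf K).Normal] (h : K = ⊤ → R ≠ ⊥) :
    Nat.card (↥K ⧸ R.subgroupOf K) < Nat.card X := by
  by_cases hK : K = ⊤
  · have hR : R.subgroupOf K ≠ ⊥ := by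
      intro hb
      rw [Subgroup.subgroupOf_eq_bot, hK, disjoint_top] at hb
      exact h hK hb
    have h1 := card_quotient_lt hR
    have h2 : Nat.card ↥K = Nat.card X := by rw [hK]; exact Subgroup.card_top
    omega
  · have h1 := card_subgroup_lt hK
    have h2 := Subgroup.card_eq_card_quotient_mul_card_subgroup (R.subgroupOf K)
    have h3 : 0 < Nat.card ↥(R.subgroupOf K) := Nat.card_pos
    have h4 : Nat.card (↥K ⧸ R.subgroupOf K) ≤ Nat.card ↥K := by
      rw [h2]; exact Nat.le_mul_of_pos_right _ h3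
    omega

/-- induction over the sections of a finite group, the conclusion being available in all proper
sections. -/
theorem sec_induction_sec {Φ Ψ : ∀ (Y : Type u) [Group Y], Prop} (hΨ : IsoInv Ψ)
    (step : ∀ (X : Type u) [Group X] [Finite X], Φ X →
      (∀ (K R : Subgroup X) [(R.subgroupOf K).Normal], (K = ⊤ → R ≠ ⊥) →
        Ψ (↥K ⧸ R.subgroupOf K)) → Ψ X)
    (G : Type u) [Group G] [Finite G] (h : SecAll Φ G) : SecAll Ψ G := by
  have key : ∀ n : ℕ, SecAll (fun (Y : Type u) [Group Y] => Nat.card Y ≤ n → Ψ Y) G := by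
    intro n
    induction n with
    | zero =>
      intro K R _ hc
      have := Nat.card_pos (α := ↥K ⧸ R.subgroupOf K)
      omega
    | succ n ih =>
      intro K R _ hc
      have hΘ : IsoInv (fun (Y : Type u) [Group Y] => Nat.card Y ≤ n → Ψ Y) := by
        intro Y Z _ _ _ e hY hcZ
        exact hΨ Y Z e (hY (by rw [Nat.card_congr e.toEquiv]; exact hcZ))
      have hX := ih.sec hΘ K R
      apply step _ (h K R)
      intro K' R' _ hKR
      apply hX K' R'
      have := card_section_lt K' R' hKR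
      omega
  intro K R _
  exact key _ K R le_rfl

theorem family_singleton_iff {Y : Type u} [Group Y] (p : ℕ)
    (W : ∀ (Q : Type u) [Group Q], Subgroup Q) :
    FamilyControlsTransferIn p ((fun W => inducedFunctor (G := Y) W) '' {W}) ⊤ ↔
      ControlsTransferIn p (inducedFunctor (G := Y) W) ⊤ := by
  unfold FamilyControlsTransferIn ControlsTransferIn
  rw [Set.image_singleton]
  simp only [iSup_singleton]

end aux

/-- Let p be a prime, G a finite group and W an isomorphism-invariant p-group functor (W assigns to every group Q a subgroup W(Q), nontrivial whenever Q is a nontrivial finite p-group, and every isomorphism from a finite p-group Q onto a group R carries W(Q) onto W(R)). Suppose that whenever G* = K/R is a section of G with C_{G*}(O_p(G*)) ≤ O_p(G*) and S* is a Sylow p-subgroup of G* with W(S*) not normal in G*, there is an element g of S* outside O_p(G*) such that [X, g, …, g] ≤ Y with p − 1 entries g, for every chief factor X/Y of G* with X ≤ O_p(G*). Then W controls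 transfer in every section of G. -/
theorem result {G : Type u} [Group G] [Finite G] {p : ℕ} [Fact p.Prime] (W : ∀ (Q : Type u) [Group Q], Subgroup Q) (hW : Cfsg.IsCharPFunctor.{u} p W) (hloc : ∀ (K R : Subgroup G) [hR : (R.subgroupOf K).Normal], Subgroup.centralizer ((Cfsg.pCore p (↥K ⧸ R.subgroupOf K) : Subgroup (↥K ⧸ R.subgroupOf K)) : Set (↥K ⧸ R.subgroupOf K)) ≤ Cfsg.pCore p (↥K ⧸ R.subgroupOf K) → ∀ T : Sylow p (↥K ⧸ R.subgroupOf K), ¬ (Cfsg.inducedFunctor (G := (↥K ⧸ R.subgroupOf K)) W ((T : Subgroup (↥K ⧸ R.subgroupOf K)))).Normal → ∃ g : (↥K ⧸ R.subgroupOf K), g ∈ (T : Subgroup (↥K ⧸ R.subgroupOf K)) ∧ g ∉ Cfsg.pCore p (↥K ⧸ R.subgroupOf K) ∧ ∀ U V : Subgroup (↥K ⧸ R.subgroupOf K), Cfsg.IsChiefFactor U V → U ≤ Cfsg.pCore p (↥K ⧸ R.subgroupOf K) → Cfsg.iterCommutator U (Subgroup.zpowers g) (p - 1) ≤ V) : ∀ (K R : Subgroup G) [hR : (R.subgroupOf K).Normal], Cfsg.ControlsTransferIn p (Cfsg.inducedFunctor (G := (↥K ⧸ R.subgroupOf K)) W) ⊤ := by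
  classical
  have h𝓦 : ∀ W' ∈ ({W} : Set (∀ (Q : Type u) [Group Q], Subgroup Q)), IsCharPFunctor.{u} p W' := by
    intro W' hW'
    rw [Set.mem_singleton_iff] at hW'
    rw [hW']; exact hW
  let Φ : ∀ (Y : Type u) [Group Y], Prop := fun Y _ =>
    Subgroup.centralizer ((Cfsg.pCore p Y : Subgroup Y) : Set Y) ≤ Cfsg.pCore p Y →
      ∀ T : Sylow p Y, ¬ (Cfsg.inducedFunctor (G := Y) W (T : Subgroup Y)).Normal →
        ∃ g : Y, g ∈ (T : Subgroup Y) ∧ g ∉ Cfsg.pCore p Y ∧ ∀ U V : Subgroup Y,
          Cfsg.IsChiefFactor U V → U ≤ Cfsg.pCore p Y →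
            Cfsg.iterCommutator U (Subgroup.zpowers g) (p - 1) ≤ V
  have hΦG : SecAll Φ G := fun K R hR => hloc K R
  have hΨ : IsoInv (fun (Y : Type u) [Group Y] => GoodT p {W} Y) :=
    fun _ _ _ _ _ e hY => GoodT.of_equiv h𝓦 e hY
  have hmain : SecAll (fun (Y : Type u) [Group Y] => GoodT p {W} Y) G := by
    refine sec_induction_sec (Φ := Φ) hΨ ?_ G hΦG
    intro X _ _ hΦX hsecs
    by_contra hG
    obtain ⟨S⟩ : Nonempty (Sylow p X) := inferInstance
    obtain ⟨hcon, -, -, hd⟩ := Cfsg.Agent.S1998.result S {W} h𝓦 (Set.singleton_nonempty W)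
      (fun K R hR hKR => hsecs K R hKR) hG _ _ rfl rfl
    by_cases hn : (Cfsg.inducedFunctor (G := X) W (S : Subgroup X)).Normal
    · apply hG
      refine ⟨S, le_top, S.2, sylow_relIndex_top S, ftransAt_top_of_le ?_⟩
      unfold famD indFam
      rw [Set.image_singleton]
      simp only [iSup_singleton]
      rw [Subgroup.normalizer_eq_top_iff.mpr hn]
      simp
    · obtain ⟨g, hgS, hgQ, hg⟩ := hΦX hcon S hn
      obtain ⟨U, V, hUV, hUQ, hnot⟩ := hd g hgS hgQ
      exact hnot (hg U V hUV hUQ)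
  intro K R hR
  exact (family_singleton_iff p W).mp (hmain K R)

end Cfsg.Agent.S1972
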