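import Cfsg.Statements.S1984
import Cfsg.Agent.S1972
import Cfsg.Agent.Lib.Helper16.KInfCtl

set_option autoImplicit false
universe u
open Cfsg

namespace Cfsg.Agent.S1984

/-- the local hypothesis of `S1972.result` for `K_∞` and `p ≥ 5` -/
theorem hloc_kInfLower {G : Type u} [Group G] [Finite G] {p : ℕ} [Fact p.Prime] (hp : 5 ≤ p) :
    ∀ (K R : Subgroup G) [hR : (R.subgroupOf K).Normal], Subgroup.centralizer ((Cfsg.pCore p (↥K ⧸ R.subgroupOf K) : Subgroup (↥K ⧸ R.subgroupOf K)) : Set (↥K ⧸ R.subgroupOf K)) ≤ Cfsg.pCore p (↥K ⧸ R.subgroupOf K) → ∀ T : Sylow p (↥K ⧸ R.subgroupOf K), ¬ (Cfsg.inducedFunctor (G := (↥K ⧸ R.subgroupOf K)) Cfsg.kInfLower ((T : Subgroup (↥K ⧸ R.subgroupOf K)))).Normal → ∃ g : (↥K ⧸ R.subgroupOf K), g ∈ (T : Subgroup (↥K ⧸ R.subgroupOf K)) ∧ g ∉ Cfsg.pCore p (↥K ⧸ R.subgroupOf K) ∧ ∀ U V : Subgroup (↥K ⧸ R.subgroupOf K), Cfsg.IsChiefFactor U V → U ≤ Cfsg.pCore p (↥K ⧸ R.subgroupOf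 K) → Cfsg.iterCommutator U (Subgroup.zpowers g) (p - 1) ≤ V := by
  intro K R _ _ T hnn
  obtain ⟨g, hgT, hgO, h4⟩ := Cfsg.Agent.Lib.Helper16.KComm.kinf_four T hnn
  refine ⟨g, hgT, hgO, fun U V hUV hU => ?_⟩
  have hVn : V.Normal := hUV.2.2.1
  exact Cfsg.Agent.Lib.Helper16.KComm.iter_le_of_le
    (Cfsg.Agent.Lib.Helper16.KComm.le_normalizer_of_normal _ V) (h4 U V hUV hU) (by omega)

/-- Let p ≥ 5 be a prime and G a finite group. Then the lower K-infinity subgroup controls transfer in G: for some (equivalently, every) Sylow p-subgroup S of G, S ∩ G' = S ∩ (N_G(K))', where K is the lower K-infinity subgroup of S. -/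
theorem result {G : Type u} [Group G] [Finite G] {p : ℕ} [Fact p.Prime] (hp : 5 ≤ p) : Cfsg.ControlsTransferIn p (Cfsg.inducedFunctor (G := G) Cfsg.kInfLower) ⊤ := by
  have hW : Cfsg.IsCharPFunctor.{u} p Cfsg.kInfLower :=
    Cfsg.Agent.Lib.Helper16.KComm.isCharPFunctor_kInfLower p
  have hbn : ((⊥ : Subgroup G).subgroupOf (⊤ : Subgroup G)).Normal := by
    rw [Subgroup.bot_subgroupOf]
    infer_instance
  have h := Cfsg.Agent.S1972.result (G := G) (p := p) Cfsg.kInfLower hW (hloc_kInfLower hp)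
    (⊤ : Subgroup G) (⊥ : Subgroup G)
  have hb : (⊥ : Subgroup G).subgroupOf (⊤ : Subgroup G) = ⊥ := Subgroup.bot_subgroupOf _
  let e : (↥(⊤ : Subgroup G) ⧸ (⊥ : Subgroup G).subgroupOf (⊤ : Subgroup G)) ≃* G :=
    ((QuotientGroup.quotientMulEquivOfEq hb).trans (QuotientGroup.quotientBot)).trans
      Subgroup.topEquiv
  exact Cfsg.Agent.Lib.Helper41.controlsTransferIn_top_of_equiv Cfsg.kInfLower hW e h

end Cfsg.Agent.S1984
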