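import Cfsg.Statements.S3908
import Cfsg.Agent.S0016
import Cfsg.Agent.Lib.Helper69.PClosed

set_option autoImplicit false
open Cfsg

namespace Cfsg.Agent.S3908

open Cfsg.Agent.Lib.Helper69

theorem isMulCommutative_of_forall {G : Type*} [Group G] (A : Subgroup G)
    (h : ∀ a ∈ A, ∀ b ∈ A, a * b = b * a) : IsMulCommutative ↥A :=
  ⟨⟨fun a b => Subtype.ext (h a a.2 b b.2)⟩⟩

/-- A finite `p`-group with two distinct subgroups of order `p` has an abelian subgroup of order
`p ^ 2` and exponent `p`. -/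
theorem exists_elementary_sq {p : ℕ} [hp : Fact p.Prime] {Q : Type*} [Group Q] [Finite Q]
    (hQ : IsPGroup p Q) (H K : Subgroup Q) (hH : Nat.card H = p) (hK : Nat.card K = p)
    (hne : H ≠ K) :
    ∃ E : Subgroup Q, Nat.card E = p ^ 2 ∧ (∀ a ∈ E, ∀ b ∈ E, a * b = b * a) ∧
      ∀ a ∈ E, a ^ p = 1 := by
  haveI : Nontrivial Q := by
    have : Nontrivial ↥H := by
      rw [← Finite.one_lt_card_iff_nontrivial, hH]; exact hp.out.one_lt
    obtain ⟨a, b, hab⟩ := this
    exact ⟨⟨a, b, fun h => hab (Subtype.ext h)⟩⟩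
  haveI hZnt : Nontrivial (Subgroup.center Q) := hQ.center_nontrivial
  have hZp : IsPGroup p ↥(Subgroup.center Q) := hQ.to_subgroup _
  obtain ⟨k, hk⟩ := IsPGroup.iff_card.mp hZp
  have hk0 : k ≠ 0 := by
    rintro rfl
    rw [pow_zero] at hk
    have := Finite.one_lt_card_iff_nontrivial.mpr hZnt
    omega
  obtain ⟨z₀, hz₀⟩ := exists_prime_orderOf_dvd_card' p (by rw [hk]; exact dvd_pow_self p hk0)
  set z : Q := (z₀ : Q) with hz
  have hzc : ∀ g : Q, g * z = z * g := fun g => (Subgroup.mem_center_iff.mp z₀.2 g)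
  have hzord : orderOf z = p := by rw [hz, Subgroup.orderOf_coe]; exact hz₀
  have hzp : z ^ p = 1 := by rw [← hzord]; exact pow_orderOf_eq_one z
  set Z₀ := Subgroup.zpowers z with hZ₀
  have hZ₀card : Nat.card Z₀ = p := by rw [Nat.card_zpowers, hzord]
  obtain ⟨H', hH', hH'ne⟩ : ∃ H' : Subgroup Q, Nat.card H' = p ∧ H' ≠ Z₀ := by
    by_cases h1 : H = Z₀
    · exact ⟨K, hK, fun h2 => hne (h1.trans h2.symm)⟩
    · exact ⟨H, hH, h1⟩
  obtain ⟨h, hhH', hhZ⟩ : ∃ h ∈ H', h ∉ Z₀ := by
    by_contra hcon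
    push Not at hcon
    have hle : H' ≤ Z₀ := hcon
    exact hH'ne (Subgroup.eq_of_le_of_card_ge hle (by rw [hH', hZ₀card]))
  have hhp : h ^ p = 1 := by
    have := pow_card_eq_one' (G := ↥H') (x := ⟨h, hhH'⟩)
    rw [hH'] at this
    simpa using congrArg Subtype.val this
  set E := Subgroup.closure ({z, h} : Set Q) with hE
  have hcommgen : ∀ x ∈ ({z, h} : Set Q), ∀ y ∈ ({z, h} : Set Q), x * y = y * x := by
    intro x hx y hy
    rcases hx with rfl | rfl <;> rcases hy with rfl | rfl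
    · rfl
    · exact (hzc _).symm
    · exact hzc _
    · rfl
  haveI hEc : IsMulCommutative ↥E := Subgroup.isMulCommutative_closure hcommgen
  have hEcomm : ∀ a ∈ E, ∀ b ∈ E, a * b = b * a := by
    intro a ha b hb
    exact congrArg Subtype.val (mul_comm' (⟨a, ha⟩ : ↥E) ⟨b, hb⟩)
  have hEexp : ∀ a ∈ E, a ^ p = 1 := by
    intro a ha
    induction ha using Subgroup.closure_induction with
    | mem x hx =>
      rcases hx with rfl | rfl
      · exact hzp
      · exact hhp
    | one => exact one_pow _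
    | mul x y hx hy ihx ihy =>
      have hc : Commute x y := hEcomm x hx y hy
      rw [hc.mul_pow, ihx, ihy, one_mul]
    | inv x hx ih => rw [inv_pow, ih, inv_one]
  have hEp : IsPGroup p ↥E := hQ.to_subgroup _
  obtain ⟨e, he⟩ := IsPGroup.iff_card.mp hEp
  have hZ₀E : Z₀ ≤ E := by
    rw [hZ₀, Subgroup.zpowers_le]; exact Subgroup.subset_closure (by simp)
  have hhE : h ∈ E := Subgroup.subset_closure (by simp)
  have hlt : Z₀ < E := lt_of_le_of_ne hZ₀E (fun heq => hhZ (heq ▸ hhE))
  have hcardlt : Nat.card Z₀ < Nat.card E := card_lt_of_lt' hlt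
  have he2 : 2 ≤ e := by
    by_contra hcon
    push Not at hcon
    have : e = 0 ∨ e = 1 := by omega
    rcases this with rfl | rfl
    · rw [pow_zero] at he; rw [he, hZ₀card] at hcardlt; have := hp.out.pos; omega
    · rw [pow_one] at he; rw [he, hZ₀card] at hcardlt; omega
  obtain ⟨E₂', hE₂'⟩ := Sylow.exists_subgroup_card_pow_prime (G := ↥E) p (n := 2)
    (by rw [he]; exact pow_dvd_pow p he2)
  refine ⟨E₂'.map E.subtype, ?_, ?_, ?_⟩
  · rw [Subgroup.card_map_of_injective E.subtype_injective]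
    exact hE₂'
  · intro a ha b hb
    exact hEcomm a (Subgroup.map_subtype_le _ ha) b (Subgroup.map_subtype_le _ hb)
  · intro a ha
    exact hEexp a (Subgroup.map_subtype_le _ ha)

theorem exists_orderOf_sq {p : ℕ} [hp : Fact p.Prime] {Q : Type*} [Group Q] (x : Q) (k : ℕ)
    (hx : x ^ (p ^ k) = 1) (hxp : x ^ p ≠ 1) : ∃ y : Q, orderOf y = p ^ 2 := by
  obtain ⟨j, hj, hjo⟩ := (Nat.dvd_prime_pow hp.out).mp (orderOf_dvd_of_pow_eq_one hx)
  have hj2 : 2 ≤ j := by
    by_contra hcon
    push Not at hcon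
    apply hxp
    apply orderOf_dvd_iff_pow_eq_one.mp
    rw [hjo]
    calc p ^ j ∣ p ^ 1 := pow_dvd_pow p (by omega)
      _ = p := pow_one p
  refine ⟨x ^ (p ^ (j - 2)), ?_⟩
  rw [orderOf_pow_of_dvd (pow_ne_zero _ hp.out.ne_zero)
    (by rw [hjo]; exact pow_dvd_pow p (by omega)), hjo]
  rw [Nat.pow_div (by omega) hp.out.pos]
  congr 1
  omega

theorem sylow_aux {G : Type*} [Group G] [Finite G]
    (hB : ∀ A B : Subgroup G, IsMulCommutative ↥A → IsMulCommutative ↥B →
      Nat.card ↥A = Nat.card ↥B → ∃ g : G, B = A.map (MulAut.conj g).toMonoidHom)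
    (p : ℕ) [hp : Fact p.Prime] (P : Sylow p G) :
    (IsCyclic ↥(P : Subgroup G) ∨
      (p = 2 ∧ ∃ n : ℕ, Nonempty (↥(P : Subgroup G) ≃* QuaternionGroup (2 ^ n)))) ∨
      ∀ x ∈ (P : Subgroup G), x ^ p = 1 := by
  by_cases huniq : ∀ H K : Subgroup ↥(P : Subgroup G), Nat.card H = p → Nat.card K = p → H = K
  · left
    exact Cfsg.Agent.S0016.result p P.2 huniq
  · right
    push Not at huniq
    obtain ⟨H, K, hH, hK, hne⟩ := huniq
    obtain ⟨E, hEcard, hEcomm, hEexp⟩ := exists_elementary_sq P.2 H K hH hK hne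
    intro x hx
    by_contra hxp
    obtain ⟨k, hk⟩ := P.2 ⟨x, hx⟩
    obtain ⟨y, hy⟩ := exists_orderOf_sq (Q := ↥(P : Subgroup G)) ⟨x, hx⟩ k hk
      (fun h => hxp (by simpa using congrArg Subtype.val h))
    set C := (Subgroup.zpowers y).map (P : Subgroup G).subtype with hC
    set E' := E.map (P : Subgroup G).subtype with hE'
    have hCcomm : IsMulCommutative ↥C := by
      apply isMulCommutative_of_forall
      rintro a ha b hb
      obtain ⟨a', ha', rfl⟩ := Subgroup.mem_map.mp ha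
      obtain ⟨b', hb', rfl⟩ := Subgroup.mem_map.mp hb
      obtain ⟨i, rfl⟩ := Subgroup.mem_zpowers_iff.mp ha'
      obtain ⟨j, rfl⟩ := Subgroup.mem_zpowers_iff.mp hb'
      rw [← map_mul, ← map_mul, ← zpow_add, ← zpow_add, add_comm]
    have hE'comm : IsMulCommutative ↥E' := by
      apply isMulCommutative_of_forall
      rintro a ha b hb
      obtain ⟨a', ha', rfl⟩ := Subgroup.mem_map.mp ha
      obtain ⟨b', hb', rfl⟩ := Subgroup.mem_map.mp hb
      rw [← map_mul, ← map_mul, hEcomm a' ha' b' hb']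
    have hcard : Nat.card C = Nat.card E' := by
      rw [hC, hE', Subgroup.card_map_of_injective (Subgroup.subtype_injective _),
        Subgroup.card_map_of_injective (Subgroup.subtype_injective _), Nat.card_zpowers, hy, hEcard]
    obtain ⟨g, hg⟩ := hB C E' hCcomm hE'comm hcard
    have hyC : (y : G) ∈ C := Subgroup.mem_map.mpr ⟨y, Subgroup.mem_zpowers y, rfl⟩
    have hconj : g * y * g⁻¹ ∈ E' := by
      rw [hg]
      exact Subgroup.mem_map.mpr ⟨(y : G), hyC, rfl⟩
    obtain ⟨e, he, hee⟩ := Subgroup.mem_map.mp hconj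
    have h1 : (g * y * g⁻¹) ^ p = 1 := by
      rw [← hee]
      have := hEexp e he
      simpa using congrArg Subtype.val this
    rw [conj_pow] at h1
    have h2 : (y : G) ^ p = 1 := by
      have := congrArg (fun t => g⁻¹ * t * g) h1
      simpa [mul_assoc] using this
    have h3 : y ^ p = 1 := Subtype.ext (by simpa using h2)
    have h4 := orderOf_dvd_of_pow_eq_one h3
    rw [hy] at h4
    have h5 := Nat.le_of_dvd hp.out.pos h4
    nlinarith [hp.out.one_lt]

/-- Let G be a finite group in which any two abelian subgroups of the same order are conjugate. Then a Sylow 2-subgroup of G is cyclic, elementary abelian or generalized quaternion, and for an odd prime p a Sylow p-subgroup of G is cyclic or has exponent dividing p. -/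
theorem result {G : Type*} [Group G] [Finite G] (hB : ∀ A B : Subgroup G, IsMulCommutative ↥A → IsMulCommutative ↥B → Nat.card ↥A = Nat.card ↥B → ∃ g : G, B = A.map (MulAut.conj g).toMonoidHom) :
    (∀ P : Sylow 2 G, IsCyclic ↥(P : Subgroup G) ∨ Cfsg.IsElementaryAbelian 2 (P : Subgroup G) ∨ ∃ k : ℕ, Nonempty (↥(P : Subgroup G) ≃* QuaternionGroup (2 ^ k))) ∧
    ∀ (p : ℕ) [Fact p.Prime], p ≠ 2 → ∀ P : Sylow p G, IsCyclic ↥(P : Subgroup G) ∨ ∀ x ∈ (P : Subgroup G), x ^ p = 1 := by
  constructor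
  · intro P
    haveI : Fact (Nat.Prime 2) := ⟨Nat.prime_two⟩
    rcases sylow_aux hB 2 P with (h | ⟨_, h⟩) | h
    · exact Or.inl h
    · exact Or.inr (Or.inr h)
    · right; left
      refine ⟨?_, h⟩
      apply isMulCommutative_of_forall
      intro a ha b hb
      have hab := h (a * b) ((P : Subgroup G).mul_mem ha hb)
      have ha2 := h a ha
      have hb2 := h b hb
      rw [pow_two] at hab ha2 hb2
      calc a * b = a * (a * b * (a * b)) * b := by rw [hab, mul_one]
        _ = (a * a) * (b * a) * (b * b) := by group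
        _ = b * a := by rw [ha2, hb2, one_mul, mul_one]
  · intro p hp hp2 P
    rcases sylow_aux hB p P with (h | ⟨h, _⟩) | h
    · exact Or.inl h
    · exact absurd h hp2
    · exact Or.inr h

end Cfsg.Agent.S3908
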