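import Cfsg.Statements.S4023
import Cfsg.Agent.S0016
import Cfsg.Agent.S3908
import Cfsg.Agent.Lib.Helper29.Sup
import Cfsg.Agent.Lib.Helper69.Nilpotent

set_option autoImplicit false
open Cfsg

namespace Cfsg.Agent.S4023

open Cfsg.Agent.Lib.Helper69


open QuaternionGroup

noncomputable def par (N : ℕ) : ZMod (2 * N) →+* ZMod 2 :=
  ZMod.castHom (dvd_mul_right 2 N) (ZMod 2)

theorem neg_eq_self_zmod2 (x : ZMod 2) : -x = x := by
  revert x; decide

theorem par_sub (N : ℕ) (i j : ZMod (2 * N)) : par N (j - i) = par N i + par N j := by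
  rw [map_sub, sub_eq_add_neg, neg_eq_self_zmod2, add_comm]

theorem par_N (N : ℕ) (hN : Even N) : par N (N : ZMod (2 * N)) = 0 := by
  rw [map_natCast]
  obtain ⟨k, rfl⟩ := hN
  have : ((k + k : ℕ) : ZMod 2) = (2 : ZMod 2) * k := by push_cast; ring
  rw [this]
  have h2 : (2 : ZMod 2) = 0 := by decide
  rw [h2, zero_mul]

/-- parity homomorphism on the generalized quaternion group of order `4N`, `N` even. -/
noncomputable def parityFun (N : ℕ) : QuaternionGroup N → Multiplicative (ZMod 2)
  | a i => Multiplicative.ofAdd (par N i)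
  | xa i => Multiplicative.ofAdd (par N i)

noncomputable def parityHom (N : ℕ) (hN : Even N) : QuaternionGroup N →* Multiplicative (ZMod 2) :=
  MonoidHom.mk' (parityFun N) (by
    rintro (i | i) (j | j)
    · show Multiplicative.ofAdd (par N (i + j)) = _
      rw [map_add]; rfl
    · have e := par_sub N i j
      show Multiplicative.ofAdd (par N (j - i)) = _
      rw [e]; rfl
    · show Multiplicative.ofAdd (par N (i + j)) = _
      rw [map_add]; rfl
    · have e : par N ((N : ZMod (2 * N)) + j - i) = par N i + par N j := by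
        rw [par_sub, map_add, par_N N hN, zero_add]
      show Multiplicative.ofAdd (par N ((N : ZMod (2 * N)) + j - i)) = _
      rw [e]; rfl)

theorem parityHom_a (N : ℕ) (hN : Even N) (i : ZMod (2 * N)) :
    parityHom N hN (a i) = Multiplicative.ofAdd (par N i) := rfl

theorem parityHom_xa (N : ℕ) (hN : Even N) (i : ZMod (2 * N)) :
    parityHom N hN (xa i) = Multiplicative.ofAdd (par N i) := rfl

/-- In a generalized quaternion group of order at least 16 there are two subgroups of the same
order, one commutative and one not. -/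
theorem exists_subgroups (N : ℕ) (hN : Even N) (hN4 : 4 ≤ N) :
    ∃ A B : Subgroup (QuaternionGroup N), Nat.card A = Nat.card B ∧
      (∀ x ∈ A, ∀ y ∈ A, x * y = y * x) ∧ ¬ (∀ x ∈ B, ∀ y ∈ B, x * y = y * x) := by
  haveI : NeZero N := ⟨by omega⟩
  refine ⟨Subgroup.zpowers (a 1), (parityHom N hN).ker, ?_, ?_, ?_⟩
  · rw [Nat.card_zpowers, orderOf_a_one]
    have hsurj : Function.Surjective (parityHom N hN) := by
      intro y
      refine ⟨a ((Multiplicative.toAdd y).val : ℕ), ?_⟩
      rw [parityHom_a]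
      have : par N (((Multiplicative.toAdd y).val : ℕ) : ZMod (2 * N)) = Multiplicative.toAdd y := by
        rw [map_natCast, ZMod.natCast_zmod_val]
      rw [this]; rfl
    have h1 := Subgroup.index_ker (parityHom N hN)
    rw [MonoidHom.range_eq_top.mpr hsurj, Subgroup.card_top] at h1
    have h2 : Nat.card (Multiplicative (ZMod 2)) = 2 := by
      rw [Nat.card_eq_fintype_card]; rfl
    rw [h2] at h1
    have h3 := Subgroup.card_mul_index (parityHom N hN).ker
    rw [h1, Nat.card_eq_fintype_card (α := QuaternionGroup N), QuaternionGroup.card] at h3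
    omega
  · intro x hx y hy
    obtain ⟨i, rfl⟩ := Subgroup.mem_zpowers_iff.mp hx
    obtain ⟨j, rfl⟩ := Subgroup.mem_zpowers_iff.mp hy
    rw [← zpow_add, ← zpow_add, add_comm]
  · intro hcomm
    have h2 : par N (2 : ZMod (2 * N)) = 0 := by
      have : (2 : ZMod (2 * N)) = ((2 : ℕ) : ZMod (2 * N)) := by norm_cast
      rw [this, map_natCast]; decide
    have ha : a (2 : ZMod (2 * N)) ∈ (parityHom N hN).ker := by
      rw [MonoidHom.mem_ker, parityHom_a, h2]; rfl
    have hx : xa (0 : ZMod (2 * N)) ∈ (parityHom N hN).ker := by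
      rw [MonoidHom.mem_ker, parityHom_xa, map_zero]; rfl
    have := hcomm _ ha _ hx
    rw [a_mul_xa, xa_mul_a] at this
    have h4 : (0 : ZMod (2 * N)) - 2 = 0 + 2 := by
      injection this
    have h5 : ((4 : ℕ) : ZMod (2 * N)) = 0 := by
      have : ((4 : ℕ) : ZMod (2 * N)) = (0 + 2) - (0 - 2) := by push_cast; ring
      rw [this, h4, sub_self]
    rw [ZMod.natCast_eq_zero_iff] at h5
    have := Nat.le_of_dvd (by norm_num) h5
    omega


/-- Transfer of commutativity between `p`-subgroups of `P` of the same order. -/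
theorem comm_transfer {G : Type*} [Group G] [Finite G] {p : ℕ} [Fact p.Prime]
    (hC : ∀ H K : Subgroup G, IsPGroup p H → IsPGroup p K → Nat.card H = Nat.card K →
      ∃ g : G, K = H.map (MulAut.conj g).toMonoidHom) (P : Sylow p G)
    (A B : Subgroup ↥(P : Subgroup G)) (hcard : Nat.card A = Nat.card B)
    (hA : ∀ a ∈ A, ∀ b ∈ A, a * b = b * a) : ∀ a ∈ B, ∀ b ∈ B, a * b = b * a := by
  have hA' : IsPGroup p ↥(A.map (P : Subgroup G).subtype) :=
    P.2.to_le (Subgroup.map_subtype_le _)
  have hB' : IsPGroup p ↥(B.map (P : Subgroup G).subtype) :=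
    P.2.to_le (Subgroup.map_subtype_le _)
  have hc : Nat.card ↥(A.map (P : Subgroup G).subtype) =
      Nat.card ↥(B.map (P : Subgroup G).subtype) := by
    rw [Subgroup.card_map_of_injective (Subgroup.subtype_injective _),
      Subgroup.card_map_of_injective (Subgroup.subtype_injective _), hcard]
  obtain ⟨g, hg⟩ := hC _ _ hA' hB' hc
  intro a ha b hb
  have ha' : (a : G) ∈ B.map (P : Subgroup G).subtype := Subgroup.mem_map.mpr ⟨a, ha, rfl⟩
  have hb' : (b : G) ∈ B.map (P : Subgroup G).subtype := Subgroup.mem_map.mpr ⟨b, hb, rfl⟩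
  rw [hg] at ha' hb'
  obtain ⟨a₁, ha₁, ha₁e⟩ := Subgroup.mem_map.mp ha'
  obtain ⟨b₁, hb₁, hb₁e⟩ := Subgroup.mem_map.mp hb'
  obtain ⟨a₀, ha₀, rfl⟩ := Subgroup.mem_map.mp ha₁
  obtain ⟨b₀, hb₀, rfl⟩ := Subgroup.mem_map.mp hb₁
  apply Subtype.ext
  rw [Subgroup.coe_mul, Subgroup.coe_mul, ← ha₁e, ← hb₁e, ← map_mul, ← map_mul, ← map_mul,
    ← map_mul, hA a₀ ha₀ b₀ hb₀]

/-- Transfer of exponent `p` between `p`-subgroups of `P` of the same order. -/
theorem exp_transfer {G : Type*} [Group G] [Finite G] {p : ℕ} [Fact p.Prime]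
    (hC : ∀ H K : Subgroup G, IsPGroup p H → IsPGroup p K → Nat.card H = Nat.card K →
      ∃ g : G, K = H.map (MulAut.conj g).toMonoidHom) (P : Sylow p G)
    (A B : Subgroup ↥(P : Subgroup G)) (hcard : Nat.card A = Nat.card B)
    (hA : ∀ a ∈ A, a ^ p = 1) : ∀ a ∈ B, a ^ p = 1 := by
  have hA' : IsPGroup p ↥(A.map (P : Subgroup G).subtype) :=
    P.2.to_le (Subgroup.map_subtype_le _)
  have hB' : IsPGroup p ↥(B.map (P : Subgroup G).subtype) :=
    P.2.to_le (Subgroup.map_subtype_le _)
  have hc : Nat.card ↥(A.map (P : Subgroup G).subtype) =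
      Nat.card ↥(B.map (P : Subgroup G).subtype) := by
    rw [Subgroup.card_map_of_injective (Subgroup.subtype_injective _),
      Subgroup.card_map_of_injective (Subgroup.subtype_injective _), hcard]
  obtain ⟨g, hg⟩ := hC _ _ hA' hB' hc
  intro a ha
  have ha' : (a : G) ∈ B.map (P : Subgroup G).subtype := Subgroup.mem_map.mpr ⟨a, ha, rfl⟩
  rw [hg] at ha'
  obtain ⟨a₁, ha₁, ha₁e⟩ := Subgroup.mem_map.mp ha'
  obtain ⟨a₀, ha₀, rfl⟩ := Subgroup.mem_map.mp ha₁
  apply Subtype.ext
  rw [Subgroup.coe_pow, ← ha₁e, ← map_pow, ← map_pow, hA a₀ ha₀, map_one, map_one]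
  rfl

/-- A nonabelian finite `p`-group of exponent `p` has a nonabelian subgroup of order
dividing `p ^ 3`. -/
theorem exists_nonabelian_small {p : ℕ} [hp : Fact p.Prime] {Q : Type*} [Group Q] [Finite Q]
    (hQ : IsPGroup p Q) (hexp : ∀ x : Q, x ^ p = 1) (hna : ¬ ∀ a b : Q, a * b = b * a) :
    ∃ H : Subgroup Q, Nat.card H ∣ p ^ 3 ∧ ¬ ∀ a ∈ H, ∀ b ∈ H, a * b = b * a := by
  have hZtop : Subgroup.center Q ≠ ⊤ := by
    intro h
    apply hna
    intro a b
    have : b ∈ Subgroup.center Q := by rw [h]; exact Subgroup.mem_top b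
    exact (Subgroup.mem_center_iff.mp this a)
  haveI : Nontrivial (Q ⧸ Subgroup.center Q) := by
    rw [← Finite.one_lt_card_iff_nontrivial, ← Subgroup.index_eq_card]
    have h1 : (Subgroup.center Q).index ≠ 1 := fun h => hZtop (Subgroup.index_eq_one.mp h)
    have h0 : (Subgroup.center Q).index ≠ 0 := Subgroup.index_ne_zero_of_finite
    omega
  have hQZ : IsPGroup p (Q ⧸ Subgroup.center Q) := hQ.to_quotient _
  haveI := hQZ.center_nontrivial
  obtain ⟨⟨ybar, hybar⟩, hy1⟩ := exists_ne (1 : Subgroup.center (Q ⧸ Subgroup.center Q))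
  obtain ⟨y, rfl⟩ := QuotientGroup.mk_surjective ybar
  have hyZ : y ∉ Subgroup.center Q := by
    intro h
    apply hy1
    apply Subtype.ext
    exact (QuotientGroup.eq_one_iff y).mpr h
  have hcomm : ∀ g : Q, g * y * g⁻¹ * y⁻¹ ∈ Subgroup.center Q := by
    intro g
    rw [← QuotientGroup.eq_one_iff]
    have := Subgroup.mem_center_iff.mp hybar (g : Q ⧸ Subgroup.center Q)
    simp only [QuotientGroup.mk_mul, QuotientGroup.mk_inv]
    rw [this]
    group
  obtain ⟨x, hx⟩ : ∃ x : Q, x * y ≠ y * x := by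
    by_contra hcon
    push Not at hcon
    exact hyZ (Subgroup.mem_center_iff.mpr hcon)
  set c := x * y * x⁻¹ * y⁻¹ with hc
  have hcZ : c ∈ Subgroup.center Q := hcomm x
  have hcc : ∀ g : Q, g * c = c * g := Subgroup.mem_center_iff.mp hcZ
  have hxy : x * y * x⁻¹ = c * y := by rw [hc]; group
  have hci : ∀ g : Q, g * c⁻¹ = c⁻¹ * g := by
    intro g
    have := hcc g
    calc g * c⁻¹ = c⁻¹ * (c * g) * c⁻¹ := by group
      _ = c⁻¹ * (g * c) * c⁻¹ := by rw [this]
      _ = c⁻¹ * g := by group
  have hxy' : x⁻¹ * y * x = c⁻¹ * y := by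
    calc x⁻¹ * y * x = x⁻¹ * (c⁻¹ * (c * y)) * x := by group
      _ = x⁻¹ * (c⁻¹ * (x * y * x⁻¹)) * x := by rw [hxy]
      _ = (x⁻¹ * c⁻¹) * x * y := by group
      _ = c⁻¹ * y := by rw [hci x⁻¹]; group
  set K₁ := Subgroup.zpowers c with hK₁
  set K₂ := K₁ ⊔ Subgroup.zpowers y with hK₂
  set K₃ := K₂ ⊔ Subgroup.zpowers x with hK₃
  have hK₁n : K₁.Normal := normal_of_le_center _ (Subgroup.zpowers_le.mpr hcZ)
  have hcK₂ : c ∈ K₂ := (le_sup_left : K₁ ≤ K₂) (Subgroup.mem_zpowers c)
  have hyK₂ : y ∈ K₂ := (le_sup_right : Subgroup.zpowers y ≤ K₂) (Subgroup.mem_zpowers y)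
  have hord : ∀ g : Q, Nat.card (Subgroup.zpowers g) ∣ p := by
    intro g
    rw [Nat.card_zpowers]
    exact orderOf_dvd_of_pow_eq_one (hexp g)
  have h1 : Nat.card K₂ ∣ p * p := by
    have := Cfsg.Agent.Lib.Helper29.card_sup_dvd_of_le_normalizer K₁ (Subgroup.zpowers y) (by
      rw [Subgroup.normalizer_eq_top_iff.mpr hK₁n]; exact le_top)
    exact this.trans (mul_dvd_mul (hord c) (hord y))
  -- `x` normalizes `K₂`
  have hconj : ∀ t : Q, (t * c * t⁻¹ ∈ K₂) → (t * y * t⁻¹ ∈ K₂) → ∀ h ∈ K₂, t * h * t⁻¹ ∈ K₂ := by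
    intro t htc hty h hh
    have hle : K₂ ≤ K₂.comap (MulAut.conj t).toMonoidHom := by
      rw [hK₂]
      apply sup_le
      · rw [hK₁, Subgroup.zpowers_le]
        exact htc
      · rw [Subgroup.zpowers_le]
        exact hty
    exact hle hh
  have hxn : x ∈ Subgroup.normalizer (K₂ : Set Q) := by
    rw [Subgroup.mem_normalizer_iff]
    intro h
    constructor
    · intro hh
      apply hconj x _ _ h hh
      · have : x * c * x⁻¹ = c := by rw [hcc]; group
        rw [this]; exact hcK₂
      · rw [hxy]; exact K₂.mul_mem hcK₂ hyK₂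
    · intro hh
      have := hconj x⁻¹ (by
        have : x⁻¹ * c * x⁻¹⁻¹ = c := by rw [hcc]; group
        rw [this]; exact hcK₂) (by
        rw [inv_inv, hxy']; exact K₂.mul_mem (K₂.inv_mem hcK₂) hyK₂) _ hh
      have e : x⁻¹ * (x * h * x⁻¹) * x⁻¹⁻¹ = h := by group
      rwa [e] at this
  have h2 : Nat.card K₃ ∣ p * p * p := by
    have := Cfsg.Agent.Lib.Helper29.card_sup_dvd_of_le_normalizer K₂ (Subgroup.zpowers x) (by
      rw [Subgroup.zpowers_le]; exact hxn)
    exact this.trans (mul_dvd_mul h1 (hord x))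
  refine ⟨K₃, ?_, ?_⟩
  · have : p ^ 3 = p * p * p := by ring
    rw [this]; exact h2
  · intro hcomm'
    apply hx
    exact hcomm' x ((le_sup_right : Subgroup.zpowers x ≤ K₃) (Subgroup.mem_zpowers x)) y
      ((le_sup_left : K₂ ≤ K₃) hyK₂)

/-- A finite `p`-group of order divisible by `p ^ 4` has an abelian subgroup of order divisible
by `p ^ 3`. -/
theorem exists_abelian_large {p : ℕ} [hp : Fact p.Prime] {Q : Type*} [Group Q] [Finite Q]
    (hQ : IsPGroup p Q) (hcard : p ^ 4 ∣ Nat.card Q) :
    ∃ A : Subgroup Q, p ^ 3 ∣ Nat.card A ∧ ∀ a ∈ A, ∀ b ∈ A, a * b = b * a := by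
  have hpowdvd : ∀ (S : Subgroup Q) (j : ℕ), p ^ j ≤ Nat.card S → p ^ j ∣ Nat.card S := by
    intro S j hj
    obtain ⟨e, he⟩ := IsPGroup.iff_card.mp (hQ.to_subgroup S)
    rw [he] at hj ⊢
    exact pow_dvd_pow p ((Nat.pow_le_pow_iff_right hp.out.one_lt).mp hj)
  have hpowlt : ∀ (S T : Subgroup Q) (j : ℕ), p ^ j ≤ Nat.card S → S < T → p ^ (j + 1) ≤ Nat.card T := by
    intro S T j hj hlt
    obtain ⟨e, he⟩ := IsPGroup.iff_card.mp (hQ.to_subgroup S)
    obtain ⟨f, hf⟩ := IsPGroup.iff_card.mp (hQ.to_subgroup T)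
    have hlt' := Cfsg.Agent.Lib.Helper69.card_lt_of_lt' hlt
    rw [he] at hj
    rw [he, hf] at hlt'
    rw [hf]
    have h1 : j ≤ e := (Nat.pow_le_pow_iff_right hp.out.one_lt).mp hj
    have h2 : e < f := (Nat.pow_lt_pow_iff_right hp.out.one_lt).mp hlt'
    exact Nat.pow_le_pow_right hp.out.pos (by omega)
  haveI : Nontrivial Q := by
    rw [← Finite.one_lt_card_iff_nontrivial]
    have := Nat.le_of_dvd Nat.card_pos hcard
    have h2 : 1 < p ^ 4 := Nat.one_lt_pow (by norm_num) hp.out.one_lt
    omega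
  haveI hZnt : Nontrivial (Subgroup.center Q) := hQ.center_nontrivial
  have hZp : IsPGroup p ↥(Subgroup.center Q) := hQ.to_subgroup _
  obtain ⟨k, hk⟩ := IsPGroup.iff_card.mp hZp
  have hk0 : k ≠ 0 := by
    rintro rfl
    rw [pow_zero] at hk
    have := Finite.one_lt_card_iff_nontrivial.mpr hZnt
    omega
  obtain ⟨z₀, hz₀⟩ := exists_prime_orderOf_dvd_card' p (by rw [hk]; exact dvd_pow_self p hk0)
  set z : Q := (z₀ : Q) with hz
  have hzZ : z ∈ Subgroup.center Q := z₀.2
  have hzc : ∀ g : Q, g * z = z * g := fun g => (Subgroup.mem_center_iff.mp z₀.2 g)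
  have hzord : orderOf z = p := by rw [hz, Subgroup.orderOf_coe]; exact hz₀
  set C := Subgroup.zpowers z with hC
  have hCcard : Nat.card C = p := by rw [Nat.card_zpowers, hzord]
  have hCZ : C ≤ Subgroup.center Q := Subgroup.zpowers_le.mpr hzZ
  haveI hCn : C.Normal := normal_of_le_center _ hCZ
  -- the quotient by `C` is a nontrivial `p`-group
  have hidx : p ^ 3 ∣ C.index := by
    have h1 := Subgroup.card_mul_index C
    rw [hCcard] at h1
    have h2 : p * p ^ 3 ∣ p * C.index := by
      rw [h1]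
      have : p * p ^ 3 = p ^ 4 := by ring
      rw [this]; exact hcard
    exact Nat.dvd_of_mul_dvd_mul_left hp.out.pos h2
  haveI : Nontrivial (Q ⧸ C) := by
    rw [← Finite.one_lt_card_iff_nontrivial, ← Subgroup.index_eq_card]
    have := Nat.le_of_dvd (Nat.pos_of_ne_zero Subgroup.index_ne_zero_of_finite) hidx
    have h2 : 1 < p ^ 3 := Nat.one_lt_pow (by norm_num) hp.out.one_lt
    omega
  have hQC : IsPGroup p (Q ⧸ C) := hQ.to_quotient _
  haveI := hQC.center_nontrivial
  obtain ⟨⟨ubar, hubar⟩, hu1⟩ := exists_ne (1 : Subgroup.center (Q ⧸ C))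
  obtain ⟨u, rfl⟩ := QuotientGroup.mk_surjective ubar
  have huC : u ∉ C := by
    intro h
    apply hu1
    apply Subtype.ext
    exact (QuotientGroup.eq_one_iff u).mpr h
  have hcommC : ∀ g : Q, g * u * g⁻¹ * u⁻¹ ∈ C := by
    intro g
    rw [← QuotientGroup.eq_one_iff]
    have := Subgroup.mem_center_iff.mp hubar (g : Q ⧸ C)
    simp only [QuotientGroup.mk_mul, QuotientGroup.mk_inv]
    rw [this]
    group
  -- the commutator homomorphism into `C`
  let θ : Q →* ↥C := MonoidHom.mk' (fun g => ⟨g * u * g⁻¹ * u⁻¹, hcommC g⟩) (by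
    intro g h
    apply Subtype.ext
    show g * h * u * (g * h)⁻¹ * u⁻¹ = (g * u * g⁻¹ * u⁻¹) * (h * u * h⁻¹ * u⁻¹)
    have hch : ∀ t : Q, t * (h * u * h⁻¹ * u⁻¹) = (h * u * h⁻¹ * u⁻¹) * t :=
      Subgroup.mem_center_iff.mp (hCZ (hcommC h))
    calc g * h * u * (g * h)⁻¹ * u⁻¹ = g * (h * u * h⁻¹ * u⁻¹) * u * g⁻¹ * u⁻¹ := by group
      _ = (h * u * h⁻¹ * u⁻¹) * g * u * g⁻¹ * u⁻¹ := by rw [hch g]
      _ = (h * u * h⁻¹ * u⁻¹) * (g * u * g⁻¹ * u⁻¹) := by group
      _ = (g * u * g⁻¹ * u⁻¹) * (h * u * h⁻¹ * u⁻¹) := (hch _).symm)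
  set M := θ.ker with hM
  have hMmem : ∀ g : Q, g ∈ M ↔ g * u = u * g := by
    intro g
    rw [hM, MonoidHom.mem_ker]
    constructor
    · intro h
      have := congrArg Subtype.val h
      have h1 : g * u * g⁻¹ * u⁻¹ = 1 := this
      calc g * u = (g * u * g⁻¹ * u⁻¹) * u * g := by group
        _ = u * g := by rw [h1, one_mul]
    · intro h
      apply Subtype.ext
      show g * u * g⁻¹ * u⁻¹ = 1
      rw [h]; group
  have hMidx : M.index ∣ p := by
    rw [hM, Subgroup.index_ker]
    have := Subgroup.card_subgroup_dvd_card θ.range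
    rwa [hCcard] at this
  have hMcard : p ^ 3 ≤ Nat.card M := by
    have h1 := Subgroup.card_mul_index M
    have h2 : p ^ 4 ≤ Nat.card M * M.index := by
      rw [h1]; exact Nat.le_of_dvd Nat.card_pos hcard
    have h3 : M.index ≤ p := Nat.le_of_dvd hp.out.pos hMidx
    have h4 : Nat.card M * M.index ≤ Nat.card M * p := Nat.mul_le_mul_left _ h3
    have h5 : p ^ 4 = p ^ 3 * p := by ring
    rw [h5] at h2
    exact Nat.le_of_mul_le_mul_right (h2.trans h4) hp.out.pos
  by_cases hMc : ∀ a ∈ M, ∀ b ∈ M, a * b = b * a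
  · exact ⟨M, hpowdvd M 3 hMcard, hMc⟩
  · set N := Subgroup.closure ({z, u} : Set Q) with hN
    have hNcomm : ∀ a ∈ N, ∀ b ∈ N, a * b = b * a := by
      haveI : IsMulCommutative ↥N := Subgroup.isMulCommutative_closure (by
        intro a ha b hb
        rcases ha with rfl | rfl <;> rcases hb with rfl | rfl
        · rfl
        · exact (hzc _).symm
        · exact hzc _
        · rfl)
      intro a ha b hb
      exact congrArg Subtype.val (mul_comm' (⟨a, ha⟩ : ↥N) ⟨b, hb⟩)
    have hNM : N ≤ M := by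
      rw [hN, Subgroup.closure_le]
      intro t ht
      rcases ht with rfl | rfl
      · exact (hMmem _).mpr (hzc u).symm
      · exact (hMmem _).mpr rfl
    obtain ⟨w, hwM, hwN⟩ : ∃ w ∈ M, w ∉ N := by
      by_contra hcon
      push Not at hcon
      exact hMc (fun a ha b hb => hNcomm a (hcon a ha) b (hcon b hb))
    set A := Subgroup.closure ({z, u, w} : Set Q) with hA
    have hwu : w * u = u * w := (hMmem w).mp hwM
    have hAcomm : ∀ a ∈ A, ∀ b ∈ A, a * b = b * a := by
      haveI : IsMulCommutative ↥A := Subgroup.isMulCommutative_closure (by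
        intro a ha b hb
        rcases ha with rfl | rfl | rfl <;> rcases hb with rfl | rfl | rfl
        · rfl
        · exact (hzc _).symm
        · exact (hzc _).symm
        · exact hzc _
        · rfl
        · exact hwu.symm
        · exact hzc _
        · exact hwu
        · rfl)
      intro a ha b hb
      exact congrArg Subtype.val (mul_comm' (⟨a, ha⟩ : ↥A) ⟨b, hb⟩)
    have hCN : C < N := by
      refine lt_of_le_of_ne ?_ ?_
      · rw [hC, Subgroup.zpowers_le]; exact Subgroup.subset_closure (by simp)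
      · intro h
        apply huC
        rw [h]; exact Subgroup.subset_closure (by simp)
    have hNA : N < A := by
      refine lt_of_le_of_ne ?_ ?_
      · rw [hN, Subgroup.closure_le]
        intro t ht
        rcases ht with rfl | rfl
        · exact Subgroup.subset_closure (by simp)
        · exact Subgroup.subset_closure (by simp)
      · intro h
        apply hwN
        rw [h]; exact Subgroup.subset_closure (by simp)
    have h1 : p ^ 1 ≤ Nat.card C := by rw [hCcard, pow_one]
    have h2 := hpowlt C N 1 h1 hCN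
    have h3 := hpowlt N A 2 h2 hNA
    exact ⟨A, hpowdvd A 3 h3, hAcomm⟩

/-- Let p be a prime and G a finite group in which any two p-subgroups of the same order are conjugate, with Sylow p-subgroup P. Then P is cyclic, or elementary abelian, or p = 2 and P is a quaternion group of order 8, or p is odd and P is non-abelian of order p³ and exponent p. -/
theorem result {G : Type*} [Group G] [Finite G]
    {p : ℕ} [Fact p.Prime] (hC : ∀ H K : Subgroup G, IsPGroup p H → IsPGroup p K → Nat.card H = Nat.card K →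
      ∃ g : G, K = H.map (MulAut.conj g).toMonoidHom) (P : Sylow p G) :
    IsCyclic P ∨ Cfsg.IsElementaryAbelian p (P : Subgroup G) ∨
      (p = 2 ∧ Nonempty ((P : Subgroup G) ≃* QuaternionGroup 2)) ∨
      (p ≠ 2 ∧ ¬ IsMulCommutative P ∧ Nat.card P = p ^ 3 ∧ Monoid.exponent P = p) := by
  classical
  have hp : p.Prime := Fact.out
  by_cases huniq : ∀ H K : Subgroup ↥(P : Subgroup G), Nat.card H = p → Nat.card K = p → H = K
  · rcases Cfsg.Agent.S0016.result p P.2 huniq with h | ⟨h2, n, ⟨e⟩⟩
    · exact Or.inl h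
    · rcases Nat.lt_or_ge n 2 with hn | hn
      · interval_cases n
        · left
          have : IsCyclic (QuaternionGroup (2 ^ 0)) := by
            rw [pow_zero]; exact QuaternionGroup.quaternionGroup_one_isCyclic
          exact isCyclic_of_surjective e.symm e.symm.surjective
        · right; right; left
          exact ⟨h2, ⟨e⟩⟩
      · exfalso
        have hN : Even (2 ^ n) := Nat.even_pow.mpr ⟨even_two, by omega⟩
        have hN4 : 4 ≤ 2 ^ n := by
          calc 4 = 2 ^ 2 := rfl
            _ ≤ 2 ^ n := Nat.pow_le_pow_right (by norm_num) hn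
        obtain ⟨A, B, hcard, hA, hB⟩ := exists_subgroups (2 ^ n) hN hN4
        set A' := A.map e.symm.toMonoidHom with hA'def
        set B' := B.map e.symm.toMonoidHom with hB'def
        have hcard' : Nat.card A' = Nat.card B' := by
          rw [hA'def, hB'def, Subgroup.card_map_of_injective e.symm.injective,
            Subgroup.card_map_of_injective e.symm.injective, hcard]
        have hA' : ∀ a ∈ A', ∀ b ∈ A', a * b = b * a := by
          intro a ha b hb
          obtain ⟨a₀, ha₀, rfl⟩ := Subgroup.mem_map.mp ha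
          obtain ⟨b₀, hb₀, rfl⟩ := Subgroup.mem_map.mp hb
          rw [← map_mul, ← map_mul, hA a₀ ha₀ b₀ hb₀]
        have hB' := comm_transfer hC P A' B' hcard' hA'
        apply hB
        intro x hx y hy
        have := hB' (e.symm x) (Subgroup.mem_map_of_mem _ hx) (e.symm y)
          (Subgroup.mem_map_of_mem _ hy)
        rw [← map_mul, ← map_mul] at this
        exact e.symm.injective this
  · push Not at huniq
    obtain ⟨H, K, hH, hK, hne⟩ := huniq
    obtain ⟨E, hEcard, hEcomm, hEexp⟩ :=
      Cfsg.Agent.S3908.exists_elementary_sq P.2 H K hH hK hne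
    have hexp : ∀ x : ↥(P : Subgroup G), x ^ p = 1 := by
      intro x
      by_contra hxp
      obtain ⟨k, hk⟩ := P.2 x
      obtain ⟨y, hy⟩ := Cfsg.Agent.S3908.exists_orderOf_sq x k hk hxp
      have hcard : Nat.card E = Nat.card (Subgroup.zpowers y) := by
        rw [Nat.card_zpowers, hy, hEcard]
      have := exp_transfer hC P E (Subgroup.zpowers y) hcard hEexp y (Subgroup.mem_zpowers y)
      have h4 := orderOf_dvd_of_pow_eq_one this
      rw [hy] at h4
      have h5 := Nat.le_of_dvd hp.pos h4
      nlinarith [hp.one_lt]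
    by_cases hcomm : ∀ a b : ↥(P : Subgroup G), a * b = b * a
    · right; left
      exact ⟨⟨⟨hcomm⟩⟩, fun a ha => by simpa using congrArg Subtype.val (hexp ⟨a, ha⟩)⟩
    · right; right; right
      have hp2 : p ≠ 2 := by
        rintro rfl
        apply hcomm
        intro a b
        have hab := hexp (a * b)
        have ha2 := hexp a
        have hb2 := hexp b
        rw [pow_two] at hab ha2 hb2
        calc a * b = a * (a * b * (a * b)) * b := by rw [hab, mul_one]
          _ = (a * a) * (b * a) * (b * b) := by group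
          _ = b * a := by rw [ha2, hb2, one_mul, mul_one]
      refine ⟨hp2, ?_, ?_, ?_⟩
      · intro h
        apply hcomm
        intro a b
        exact mul_comm' a b
      · obtain ⟨k, hk⟩ := IsPGroup.iff_card.mp P.2
        have hk3 : 3 ≤ k := by
          by_contra hlt
          push Not at hlt
          apply hcomm
          interval_cases k
          · rw [pow_zero] at hk
            haveI : Subsingleton ↥(P : Subgroup G) := (Nat.card_eq_one_iff_unique.mp hk).1
            intro a b
            rw [Subsingleton.elim a b]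
          · rw [pow_one] at hk
            haveI := isCyclic_of_prime_card hk
            intro a b
            exact (IsCyclic.commGroup (α := ↥(P : Subgroup G))).mul_comm a b
          · haveI := IsPGroup.isMulCommutative_of_card_eq_prime_sq hk
            intro a b
            exact mul_comm' a b
        have hk3' : k ≤ 3 := by
          by_contra hgt
          push Not at hgt
          have hdvd : p ^ 4 ∣ Nat.card ↥(P : Subgroup G) := by
            rw [hk]; exact pow_dvd_pow p hgt
          obtain ⟨A, hAcard, hAcomm⟩ := exists_abelian_large P.2 hdvd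
          obtain ⟨Hn, hHcard, hHna⟩ := exists_nonabelian_small P.2 hexp hcomm
          obtain ⟨A₃', hA₃'⟩ := Sylow.exists_subgroup_card_pow_prime (G := ↥A) p (n := 3) hAcard
          set A₃ := A₃'.map A.subtype with hA₃
          have hA₃card : Nat.card A₃ = p ^ 3 := by
            rw [hA₃, Subgroup.card_map_of_injective A.subtype_injective]; exact hA₃'
          have hA₃comm : ∀ a ∈ A₃, ∀ b ∈ A₃, a * b = b * a := fun a ha b hb =>
            hAcomm a (Subgroup.map_subtype_le _ ha) b (Subgroup.map_subtype_le _ hb)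
          obtain ⟨j, hj⟩ := IsPGroup.iff_card.mp (P.2.to_subgroup Hn)
          have hj3 : j ≤ 3 := by
            rw [hj] at hHcard
            exact (Nat.pow_dvd_pow_iff_le_right hp.one_lt).mp hHcard
          have hd3 : p ^ 3 ∣ Nat.card ↥(P : Subgroup G) := by
            rw [hk]; exact pow_dvd_pow p (by omega)
          obtain ⟨H₃, hH₃card, hH₃⟩ := Sylow.exists_subgroup_card_pow_prime_le p hd3 Hn hj hj3
          have := comm_transfer hC P A₃ H₃ (by rw [hA₃card, hH₃card]) hA₃comm
          exact hHna (fun a ha b hb => this a (hH₃ ha) b (hH₃ hb))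
        have hk' : k = 3 := by omega
        rw [← hk'] 
        exact hk
      · have h1 : Monoid.exponent ↥(P : Subgroup G) ∣ p :=
          Monoid.exponent_dvd_of_forall_pow_eq_one hexp
        rcases (Nat.dvd_prime hp).mp h1 with h | h
        · exfalso
          rw [Monoid.exp_eq_one_iff] at h
          apply hcomm
          intro a b
          rw [Subsingleton.elim a b]
        · exact h

end Cfsg.Agent.S4023
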