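import Mathlib
import Cfsg.Statements.S3951
import Cfsg.Agent.Lib.Helper70.StemExt
import Cfsg.Agent.Lib.Helper70.Heis

set_option autoImplicit false
open Cfsg

namespace Cfsg.Agent.S3951

open Cfsg.Agent.Lib.Helper70 Subgroup

theorem gen_top (m n : ℕ) :
    zpowers (Multiplicative.ofAdd ((1, 0) : ZMod m × ZMod n)) ⊔
      zpowers (Multiplicative.ofAdd ((0, 1) : ZMod m × ZMod n)) = ⊤ := by
  rw [eq_top_iff]
  intro t _
  obtain ⟨i, hi⟩ := ZMod.intCast_surjective (Multiplicative.toAdd t).1
  obtain ⟨j, hj⟩ := ZMod.intCast_surjective (Multiplicative.toAdd t).2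
  have : t = (Multiplicative.ofAdd ((1, 0) : ZMod m × ZMod n)) ^ i *
      (Multiplicative.ofAdd ((0, 1) : ZMod m × ZMod n)) ^ j := by
    rw [← ofAdd_zsmul, ← ofAdd_zsmul, ← ofAdd_add]
    apply Multiplicative.toAdd.injective
    rw [toAdd_ofAdd]
    ext
    · simp [hi]
    · simp [hj]
  rw [this]
  exact Subgroup.mul_mem_sup (Subgroup.zpow_mem_zpowers _ _) (Subgroup.zpow_mem_zpowers _ _)

/-- For positive integers `m` and `n` with `n` dividing `m`, the Schur multiplier of the abelian group `ZMod m × ZMod n` (written multiplicatively) is cyclic of order `n`. In particular the elementary abelian group of order `p ^ 2` has multiplier of order `p`. -/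
theorem result (m n : ℕ) [NeZero m] [NeZero n] (hnm : n ∣ m) : Cfsg.HasCyclicSchurMultiplier (Multiplicative (ZMod m × ZMod n)) n := by
  constructor
  · exact ⟨Heis m n, Heis.group hnm, inferInstance, Heis.proj hnm, Heis.proj_stem hnm, ⟨Heis.kerEquiv hnm⟩⟩
  · intro Γ _ _ σ hσ
    obtain ⟨c, hc1, hc2⟩ := stem_ker_two_gen σ hσ (Multiplicative.ofAdd ((1, 0) : ZMod m × ZMod n))
      (Multiplicative.ofAdd ((0, 1) : ZMod m × ZMod n)) (gen_top m n) n (by
        rw [← ofAdd_nsmul]
        have : n • ((0, 1) : ZMod m × ZMod n) = 0 := by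
          ext
          · simp
          · simp
        rw [this]; rfl)
    exact exists_surj_zmod_of_le_zpowers σ.ker c n hc1 hc2

end Cfsg.Agent.S3951
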