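import Cfsg.Statements.S1224
import Cfsg.Agent.Lib.Helper28.StronglyEmbedded
import Mathlib

set_option autoImplicit false
open Cfsg

namespace Cfsg.Agent.S1224

open Cfsg.Agent.Lib.Helper28

/-- Let H be a strongly embedded subgroup of the finite group G and x ≠ y two cosets in G/H. Then the number of involutions i of G with i • x = y equals the number of involutions lying in H. -/
theorem result {G : Type*} [Group G] [Finite G] (H : Subgroup G) (hH : Cfsg.IsStronglyEmbedded H) (x y : G ⧸ H) (hxy : x ≠ y) : Nat.card {i : G // orderOf i = 2 ∧ i • x = y} = Nat.card {t : G // orderOf t = 2 ∧ t ∈ H} := by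
  induction x using QuotientGroup.induction_on with
  | H a =>
    induction y using QuotientGroup.induction_on with
    | H b =>
      rw [← card_invCoset hH (QuotientGroup.mk (a⁻¹ * b))]
      have key : ∀ i : G, i • (QuotientGroup.mk a : G ⧸ H) = QuotientGroup.mk b ↔
          (QuotientGroup.mk (a⁻¹ * i * a) : G ⧸ H) = QuotientGroup.mk (a⁻¹ * b) := by
        intro i
        rw [smul_mk_eq_iff, QuotientGroup.eq]
        have : (a⁻¹ * i * a)⁻¹ * (a⁻¹ * b) = a⁻¹ * i⁻¹ * b := by group
        rw [this]
      refine Nat.card_congr ⟨fun i => ⟨a⁻¹ * i.1 * a, ?_, ?_⟩, fun t => ⟨a * t.1 * a⁻¹, ?_, ?_⟩, ?_, ?_⟩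
      · have := orderOf_conj_eq a⁻¹ i.1
        rw [inv_inv] at this
        rw [this, i.2.1]
      · exact (key _).1 i.2.2
      · rw [orderOf_conj_eq, t.2.1]
      · rw [key]
        have : a⁻¹ * (a * t.1 * a⁻¹) * a = t.1 := by group
        rw [this]; exact t.2.2
      · intro i; apply Subtype.ext; simp [mul_assoc]
      · intro t; apply Subtype.ext; simp [mul_assoc]

end Cfsg.Agent.S1224
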