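import Cfsg.Statements.S1225
import Cfsg.Agent.Lib.Helper28.StronglyEmbedded
import Mathlib

set_option autoImplicit false
open Cfsg

namespace Cfsg.Agent.S1225

open Cfsg.Agent.Lib.Helper28

/-- Let H be a strongly embedded subgroup of the finite group G, u an involution outside H and D = H ∩ uHu⁻¹. Then any two involutions of H are conjugate by an element of D, and any two involutions of G are conjugate in G. -/
theorem result {G : Type*} [Group G] [Finite G] (H : Subgroup G) (hH : Cfsg.IsStronglyEmbedded H) (u : G) (hu : orderOf u = 2) (huH : u ∉ H) (s t : G) (hs : orderOf s = 2) (hsH : s ∈ H) (ht : orderOf t = 2) (htH : t ∈ H) : (∃ d ∈ (H ⊓ H.map (MulAut.conj u).toMonoidHom), d * s * d⁻¹ = t) ∧ ∀ a b : G, orderOf a = 2 → orderOf b = 2 → IsConj a b := by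
  constructor
  · obtain ⟨d, hd, hds, _⟩ := se_exists_conj_in_D hH hu huH hs hsH ht htH
    exact ⟨d, hd, hds⟩
  · -- every involution is conjugate to `s`
    have key : ∀ a : G, orderOf a = 2 → IsConj s a := by
      intro a ha
      obtain ⟨c, hc⟩ := se_exists_fixed hH a ha
      have hord : orderOf (c⁻¹ * a * c) = 2 := by
        have := orderOf_conj_eq c⁻¹ a
        rw [inv_inv] at this
        rw [this, ha]
      obtain ⟨d, _, hds, _⟩ := se_exists_conj_in_D hH hu huH hs hsH hord hc
      rw [isConj_iff]
      refine ⟨c * d, ?_⟩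
      calc c * d * s * (c * d)⁻¹ = c * (d * s * d⁻¹) * c⁻¹ := by group
        _ = c * (c⁻¹ * a * c) * c⁻¹ := by rw [hds]
        _ = a := by group
    intro a b ha hb
    exact (key a ha).symm.trans (key b hb)

end Cfsg.Agent.S1225
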