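import Cfsg.Statements.S0175
import Cfsg.Agent.S4566
import Cfsg.Agent.Lib.Helper80.Monomial
import Cfsg.Agent.Lib.Helper85.CliffordCorr
import Cfsg.Agent.Lib.Helper34.GenChar
import Cfsg.Agent.Lib.Helper83.SecondOrth

set_option autoImplicit false
open Cfsg

namespace Cfsg.Agent.S0175

open Cfsg.Agent.Lib.Helper80 Cfsg.Agent.Lib.Helper85 Cfsg.Agent.Lib.Helper83
open scoped ComplexConjugate commutatorElement

/-- If the permutation character of `G` on `G/H` takes at `x` its value at `1`, then `x ∈ H`. -/
theorem mem_of_indFun_one_eq {G : Type*} [Group G] [Fintype G] (H : Subgroup G) (x : G)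
    (hx : Cfsg.indFun H (fun _ => (1 : ℂ)) x = Cfsg.indFun H (fun _ => (1 : ℂ)) 1) : x ∈ H := by
  classical
  rw [Cfsg.Agent.Lib.Helper04.indFun_apply, Cfsg.Agent.Lib.Helper04.indFun_apply] at hx
  have hH0 : (Nat.card H : ℂ)⁻¹ ≠ 0 := by
    have : 0 < Nat.card H := Nat.card_pos
    have h : (Nat.card H : ℂ) ≠ 0 := by exact_mod_cast this.ne'
    exact inv_ne_zero h
  have hx' := mul_left_cancel₀ hH0 hx
  have hext : ∀ y : G, Cfsg.extendByZero H (fun _ => (1 : ℂ)) y = if y ∈ H then 1 else 0 := by
    intro y
    split_ifs with hy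
    · rw [Cfsg.Agent.Lib.Helper04.extendByZero_apply_of_mem _ _ y hy]
    · rw [Cfsg.Agent.Lib.Helper04.extendByZero_apply_not_mem _ _ y hy]
  simp only [hext] at hx'
  rw [Finset.sum_boole, Finset.sum_boole] at hx'
  have h2 : (Finset.univ.filter fun g : G => g⁻¹ * x * g ∈ H).card =
      (Finset.univ.filter fun g : G => g⁻¹ * 1 * g ∈ H).card := by exact_mod_cast hx'
  have h3 : (Finset.univ.filter fun g : G => g⁻¹ * 1 * g ∈ H) = Finset.univ := by
    ext g; simp
  rw [h3] at h2
  have h4 := (Finset.card_eq_iff_eq_univ _).1 h2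
  have h5 : (1 : G) ∈ Finset.univ.filter fun g : G => g⁻¹ * x * g ∈ H := by
    rw [h4]; exact Finset.mem_univ _
  simpa using h5

/-- Constituents of the permutation character on `G/H`, of index `d + 1` with `d ≥ 1`, have degree
at most `d`. -/
theorem perm_const_degree {G : Type*} [Group G] [Fintype G] [Fintype (IrrCharacter G)]
    (H : Subgroup G) (d : ℕ) (hd : 1 ≤ d) (hidx : H.index = d + 1) (ψ : IrrCharacter G)
    (hm : irrMult (Cfsg.indFun H fun _ => (1 : ℂ)) ψ ≠ 0) (k : ℕ) (hk : ψ.1 1 = k) : k ≤ d := by
  classical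
  letI : Fintype H := Fintype.ofFinite _
  set Φ : G → ℂ := Cfsg.indFun H fun _ => (1 : ℂ) with hΦdef
  have hΦ : IsCharacter G Φ := Cfsg.Agent.Lib.Helper34.isCharacter_indFun H isCharacter_one
  have hdec := char_eq_sum_irrMult hΦ
  have h1 : Φ 1 = ((d + 1 : ℕ) : ℂ) := by
    rw [hΦdef, indFun_apply_one, hidx, mul_one]
  have hsum : (d + 1 : ℕ) = ∑ φ : IrrCharacter G, irrMult Φ φ * charDegree (φ : G → ℂ) := by
    have h2 := congrFun hdec 1
    rw [h1] at h2
    simp only [Finset.sum_apply, Pi.smul_apply, smul_eq_mul] at h2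
    have h3 : ∀ φ : IrrCharacter G, (irrMult Φ φ : ℂ) * (φ : G → ℂ) 1 =
        ((irrMult Φ φ * charDegree (φ : G → ℂ) : ℕ) : ℂ) := by
      intro φ
      rw [Nat.cast_mul, charDegree_cast (IrrCharacter_isCharacter φ)]
    rw [Finset.sum_congr rfl fun φ _ => h3 φ, ← Nat.cast_sum] at h2
    exact_mod_cast h2
  -- the trivial character has multiplicity one
  have hτ : irrMult Φ (trivChar G) = 1 := by
    have h4 := irrMult_cast hΦ (trivChar G)
    rw [hΦdef, Cfsg.Agent.Lib.Helper04.frobenius_reciprocity H _ _
      (char_isClassFunction (IrrCharacter_isCharacter (trivChar G)))] at h4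
    have h5 : Cfsg.classInner (fun _ : H => (1 : ℂ)) (fun h : H => (trivChar G : G → ℂ) h) = 1 := by
      unfold Cfsg.classInner
      simp only [trivChar_apply, map_one, mul_one, Finset.sum_const, Finset.card_univ,
        nsmul_eq_mul]
      rw [Nat.card_eq_fintype_card]
      have : (Fintype.card H : ℂ) ≠ 0 := by
        have : 0 < Fintype.card H := Fintype.card_pos
        exact_mod_cast this.ne'
      field_simp
    rw [h5] at h4
    exact_mod_cast h4
  have hdegτ : charDegree ((trivChar G : IrrCharacter G) : G → ℂ) = 1 := by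
    have := charDegree_cast (IrrCharacter_isCharacter (trivChar G))
    rw [trivChar_apply] at this
    exact_mod_cast this
  have hkdeg : charDegree (ψ : G → ℂ) = k := by
    have := charDegree_cast (IrrCharacter_isCharacter ψ)
    rw [hk] at this
    exact_mod_cast this
  by_cases hψτ : ψ = trivChar G
  · rw [hψτ, hdegτ] at hkdeg
    omega
  · have h6 : ∑ φ ∈ ({ψ, trivChar G} : Finset (IrrCharacter G)),
        irrMult Φ φ * charDegree (φ : G → ℂ) ≤
        ∑ φ : IrrCharacter G, irrMult Φ φ * charDegree (φ : G → ℂ) :=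
      Finset.sum_le_sum_of_subset (Finset.subset_univ _)
    rw [Finset.sum_pair hψτ, ← hsum, hτ, hdegτ, hkdeg] at h6
    have h7 : 1 ≤ irrMult Φ ψ := Nat.one_le_iff_ne_zero.2 hm
    nlinarith

/-- The key step of Taketa's theorem. -/
theorem taketa_step {G : Type*} [Group G] [Fintype G]
    (hM : ∀ χ : G → ℂ, Cfsg.IsIrrCharacter G χ → ∃ (H : Subgroup G) (lam : H →* ℂˣ),
      χ = Cfsg.indFun H (fun h => (lam h : ℂ))) :
    ∀ d : ℕ, ∀ χ : G → ℂ, IsIrrCharacter G χ → ∀ m : ℕ, χ 1 = m → m ≤ d →
      ∀ x ∈ derivedSeries G d, χ x = χ 1 := by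
  classical
  letI : Fintype (IrrCharacter G) := Fintype.ofFinite _
  intro d
  induction d with
  | zero =>
    intro χ hχ m hm hm0 x _
    exfalso
    have : m = 0 := by omega
    rw [this] at hm
    exact Cfsg.Agent.S4566.irr_char_one_ne_zero χ hχ (by simpa using hm)
  | succ d ih =>
    intro χ hχ m hm hmd x hx
    have hanti : derivedSeries G (d + 1) ≤ derivedSeries G d :=
      derivedSeries_antitone G (Nat.le_succ d)
    by_cases hmd' : m ≤ d
    · exact ih χ hχ m hm hmd' x (hanti hx)
    · have hmeq : m = d + 1 := by omega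
      subst hmeq
      have hχc := isCharacter_of_irr hχ
      rcases Nat.eq_zero_or_pos d with hd0 | hdpos
      · -- linear character
        subst hd0
        have h1 : χ 1 = 1 := by simpa using hm
        rw [h1]
        apply char_deg_one_commutator hχc h1
        rw [derivedSeries_one] at hx
        exact hx
      · obtain ⟨H, lam, hχind⟩ := hM χ hχ
        have hidx : H.index = d + 1 := by
          have h2 : χ 1 = (H.index : ℂ) * ((lam 1 : ℂˣ) : ℂ) := by
            rw [hχind, indFun_apply_one]
          rw [map_one, Units.val_one, mul_one, hm] at h2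
          exact_mod_cast h2.symm
        -- elements of the d-th derived subgroup lie in H
        have hsub : ∀ y ∈ derivedSeries G d, y ∈ H := by
          intro y hy
          apply mem_of_indFun_one_eq
          have hΦ : IsCharacter G (Cfsg.indFun H fun _ => (1 : ℂ)) :=
            Cfsg.Agent.Lib.Helper34.isCharacter_indFun H isCharacter_one
          have hdec := char_eq_sum_irrMult hΦ
          rw [congrFun hdec y, congrFun hdec 1]
          simp only [Finset.sum_apply, Pi.smul_apply, smul_eq_mul]
          apply Finset.sum_congr rfl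
          intro ψ _
          by_cases hmψ : irrMult (Cfsg.indFun H fun _ => (1 : ℂ)) ψ = 0
          · rw [hmψ]; simp
          · obtain ⟨k, hk⟩ := char_one_eq_nat (IrrCharacter_isCharacter ψ)
            have hkd := perm_const_degree H d hdpos hidx ψ hmψ k hk
            rw [ih ψ.1 ψ.2 k hk hkd y hy]
        -- commutators of such elements lie in the kernel of χ
        have hker : derivedSeries G (d + 1) ≤ charKer hχc := by
          rw [derivedSeries_succ, Subgroup.commutator_le]
          intro y₁ hy₁ y₂ hy₂
          rw [mem_charKer]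
          have hN : (derivedSeries G d).Normal := derivedSeries_normal G d
          have hval : ∀ c : G, (∀ g : G, ∃ hc : g⁻¹ * c * g ∈ H, lam ⟨g⁻¹ * c * g, hc⟩ = 1) →
              χ c = (Nat.card H : ℂ)⁻¹ * (Fintype.card G : ℂ) := by
            intro c hc
            rw [hχind, Cfsg.Agent.Lib.Helper04.indFun_apply]
            congr 1
            have : ∀ g : G, Cfsg.extendByZero H (fun h => ((lam h : ℂˣ) : ℂ)) (g⁻¹ * c * g) = 1 := by
              intro g
              obtain ⟨hc1, hc2⟩ := hc g
              rw [Cfsg.Agent.Lib.Helper04.extendByZero_apply_of_mem _ _ _ hc1, hc2]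
              rfl
            rw [Finset.sum_congr rfl fun g _ => this g]
            simp
          rw [hval ⁅y₁, y₂⁆, hval 1]
          · intro g
            refine ⟨by simp, ?_⟩
            have : (⟨g⁻¹ * 1 * g, by simp⟩ : H) = 1 := by
              apply Subtype.ext; simp
            rw [this, map_one]
          · intro g
            have h1 : g⁻¹ * y₁ * g ∈ H := by
              apply hsub
              have := hN.conj_mem y₁ hy₁ g⁻¹
              simpa using this
            have h2 : g⁻¹ * y₂ * g ∈ H := by
              apply hsub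
              have := hN.conj_mem y₂ hy₂ g⁻¹
              simpa using this
            have heq : g⁻¹ * ⁅y₁, y₂⁆ * g = ⁅g⁻¹ * y₁ * g, g⁻¹ * y₂ * g⁆ := by
              simp only [commutatorElement_def]; group
            have hmem : g⁻¹ * ⁅y₁, y₂⁆ * g ∈ H := by
              rw [heq, commutatorElement_def]
              exact H.mul_mem (H.mul_mem (H.mul_mem h1 h2) (H.inv_mem h1)) (H.inv_mem h2)
            refine ⟨hmem, ?_⟩
            have h3 : (⟨g⁻¹ * ⁅y₁, y₂⁆ * g, hmem⟩ : H) =
                ⁅(⟨g⁻¹ * y₁ * g, h1⟩ : H), (⟨g⁻¹ * y₂ * g, h2⟩ : H)⁆ := by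
              apply Subtype.ext
              show g⁻¹ * ⁅y₁, y₂⁆ * g = _
              rw [heq]
              simp [commutatorElement_def]
            rw [h3, map_commutatorElement, commutatorElement_def]
            rw [mul_comm (lam _) (lam _), mul_assoc, mul_assoc, mul_inv_cancel_left,
              mul_inv_cancel]
        exact (mem_charKer hχc x).1 (hker hx)

/-- Taketa's Theorem on M-groups: if every irreducible complex character of a finite group is induced from a linear character (a homomorphism to ℂˣ) of some subgroup, the group is solvable. -/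
theorem result {G : Type*} [Group G] [Fintype G] (hM : ∀ χ : G → ℂ, Cfsg.IsIrrCharacter G χ → ∃ (H : Subgroup G) (lam : H →* ℂˣ), χ = Cfsg.indFun H (fun h => (lam h : ℂ))) : Group.IsSolvable G := by
  classical
  letI : Fintype (IrrCharacter G) := Fintype.ofFinite _
  rw [Group.isSolvable_def]
  refine ⟨∑ χ : IrrCharacter G, charDegree (χ : G → ℂ), ?_⟩
  rw [eq_bot_iff]
  intro x hx
  rw [Subgroup.mem_bot]
  have hall : ∀ χ : IrrCharacter G, χ.1 x = χ.1 1 := by
    intro χ
    have hm := (charDegree_cast (IrrCharacter_isCharacter χ)).symm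
    exact taketa_step hM _ χ.1 χ.2 _ hm
      (Finset.single_le_sum (f := fun χ : IrrCharacter G => charDegree (χ : G → ℂ))
        (fun _ _ => Nat.zero_le _) (Finset.mem_univ χ)) x hx
  have h1 := second_orthogonality x (1 : G)
  have h2 := second_orthogonality (1 : G) (1 : G)
  have h3 : ∑ χ : IrrCharacter G, (χ : G → ℂ) x * conj ((χ : G → ℂ) 1) =
      ∑ χ : IrrCharacter G, (χ : G → ℂ) 1 * conj ((χ : G → ℂ) 1) :=
    Finset.sum_congr rfl fun χ _ => by rw [hall χ]
  rw [h3, h2, if_pos (IsConj.refl _)] at h1
  by_contra hcon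
  rw [if_neg (fun h => hcon (isConj_one_left.1 h))] at h1
  have hpos : 0 < Nat.card (Subgroup.centralizer ({(1 : G)} : Set G)) := Nat.card_pos
  have : (Nat.card (Subgroup.centralizer ({(1 : G)} : Set G)) : ℂ) ≠ 0 := by
    exact_mod_cast hpos.ne'
  exact this h1

end Cfsg.Agent.S0175
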