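import Cfsg.Statements.S4464
import Cfsg.Agent.Lib.Helper87.MaxDeg

set_option autoImplicit false
open Cfsg

namespace Cfsg.Agent.S4464

/-- Let p be a prime and G a finite group all of whose irreducible character degrees are less than p. Then G has a normal abelian Sylow p-subgroup. -/
theorem result {G : Type*} [Group G] [Finite G] (p : ℕ) (hp : p.Prime) (hb : ∀ χ : Cfsg.IrrCharacter G, Cfsg.charDegree (χ : G → ℂ) < p) : ∃ P : Subgroup G, P.Normal ∧ (∀ x ∈ P, ∀ y ∈ P, x * y = y * x) ∧ IsPGroup p P ∧ ¬ p ∣ P.index := by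
  classical
  haveI : Fact p.Prime := ⟨hp⟩
  letI : Fintype G := Fintype.ofFinite G
  obtain ⟨P⟩ : Nonempty (Sylow p G) := inferInstance
  have hnorm : (P : Subgroup G).Normal :=
    Cfsg.Agent.Lib.Helper87.MaxDeg.sylow_normal_of_degrees_lt p hb P
  refine ⟨P, hnorm, ?_, P.2, P.not_dvd_index⟩
  haveI := hnorm
  have hlin : ∀ θ : IrrCharacter (P : Subgroup G),
      charDegree θ.1 = 1 := by
    intro θ
    obtain ⟨χ, hχ, e, he, _⟩ := Cfsg.Agent.Lib.Helper42.CD3.exists_over (P : Subgroup G) θ.2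
    have h1 : charDegree χ < p := hb ⟨χ, hχ⟩
    have h2 : charDegree θ.1 ∣ Nat.card (P : Subgroup G) :=
      Cfsg.Agent.Lib.Helper83.irr_charDegree_dvd_card θ
    obtain ⟨k, hk⟩ := IsPGroup.iff_card.1 P.2
    rw [hk] at h2
    obtain ⟨j, _, hj2⟩ := (Nat.dvd_prime_pow hp).1 h2
    have hχpos : 0 < charDegree χ :=
      Cfsg.Agent.Lib.Helper83.irr_charDegree_pos (⟨χ, hχ⟩ : IrrCharacter G)
    have hepos : 0 < e := by
      rcases Nat.eq_zero_or_pos e with h0 | h0
      · rw [h0, zero_mul] at he; omega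
      · exact h0
    have h3 : charDegree θ.1 < p := by
      calc charDegree θ.1 ≤ e * charDegree θ.1 :=
            Nat.le_mul_of_pos_left _ hepos
        _ = charDegree χ := he.symm
        _ < p := h1
    rw [hj2] at h3 ⊢
    rcases Nat.eq_zero_or_pos j with h0 | h0
    · rw [h0, pow_zero]
    · exfalso
      have : p ^ 1 ≤ p ^ j := Nat.pow_le_pow_right hp.pos h0
      rw [pow_one] at this
      omega
  have hab := Cfsg.Agent.Lib.Helper61.CD3.comm_of_all_linear hlin
  intro x hx y hy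
  exact congrArg Subtype.val (hab ⟨x, hx⟩ ⟨y, hy⟩)

end Cfsg.Agent.S4464
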