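import Cfsg.Statements.S4065

set_option autoImplicit false
open Cfsg

namespace Cfsg.Agent.S4065

set_option linter.unusedSimpArgs false
set_option linter.unreachableTactic false
set_option linter.unusedTactic false

theorem exists_lin {F : Type*} [Field F] (x y : Matrix (Fin 2) (Fin 2) F)
    (hx : ¬ (x 0 1 = 0 ∧ x 1 0 = 0 ∧ x 0 0 = x 1 1)) (hy : x * y = y * x) :
    ∃ l m : F, y = l • x + m • (1 : Matrix (Fin 2) (Fin 2) F) := by
  have h11 := congrFun (congrFun hy 0) 0
  have h12 := congrFun (congrFun hy 0) 1
  have h21 := congrFun (congrFun hy 1) 0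
  have h22 := congrFun (congrFun hy 1) 1
  simp only [Matrix.mul_apply, Fin.sum_univ_two] at h11 h12 h21 h22
  by_cases hb : x 0 1 = 0
  · by_cases hc : x 1 0 = 0
    · have had : x 0 0 - x 1 1 ≠ 0 := fun h => hx ⟨hb, hc, sub_eq_zero.mp h⟩
      refine ⟨(y 0 0 - y 1 1) / (x 0 0 - x 1 1), y 0 0 - (y 0 0 - y 1 1) / (x 0 0 - x 1 1) * x 0 0, ?_⟩
      ext i j
      fin_cases i <;> fin_cases j <;> simp [Matrix.one_apply] <;> field_simp <;>
        first | linear_combination h12 | linear_combination -h12 | linear_combination h21 | linear_combination -h21 | ring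
    · refine ⟨y 1 0 / x 1 0, y 0 0 - y 1 0 / x 1 0 * x 0 0, ?_⟩
      ext i j
      fin_cases i <;> fin_cases j <;> simp [Matrix.one_apply] <;> field_simp <;>
        first | linear_combination h11 | linear_combination -h11 | linear_combination h21 | linear_combination -h21 | ring
  · refine ⟨y 0 1 / x 0 1, y 0 0 - y 0 1 / x 0 1 * x 0 0, ?_⟩
    ext i j
    fin_cases i <;> fin_cases j <;> simp [Matrix.one_apply] <;> field_simp <;>
      first | linear_combination h11 | linear_combination -h11 | linear_combination h12 | linear_combination -h12 | ring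

theorem comm_of_comm_nonscalar {F : Type*} [Field F] (x y z : Matrix (Fin 2) (Fin 2) F)
    (hx : ¬ (x 0 1 = 0 ∧ x 1 0 = 0 ∧ x 0 0 = x 1 1)) (hy : x * y = y * x) (hz : x * z = z * x) :
    y * z = z * y := by
  obtain ⟨l, m, rfl⟩ := exists_lin x y hx hy
  obtain ⟨l', m', rfl⟩ := exists_lin x z hx hz
  have h : Commute (l • x + m • (1 : Matrix (Fin 2) (Fin 2) F)) (l' • x + m' • (1 : Matrix (Fin 2) (Fin 2) F)) := by
    apply Commute.add_left
    · apply Commute.smul_left
      apply Commute.add_right
      · exact (Commute.refl x).smul_right l'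
      · exact (Commute.one_right x).smul_right m'
    · apply Commute.smul_left
      exact Commute.one_left _
  exact h.eq

section

variable {F : Type*} [Field F] [CharP F 2]

open Matrix

/-- in characteristic 2 the center of `SL₂` is trivial -/
theorem center_eq_bot : Subgroup.center (SpecialLinearGroup (Fin 2) F) = ⊥ := by
  rw [eq_bot_iff]
  intro A hA
  rw [Matrix.SpecialLinearGroup.mem_center_iff] at hA
  obtain ⟨r, hr, hrA⟩ := hA
  rw [Fintype.card_fin] at hr
  have h1 : (r - 1) ^ 2 = 0 := by
    have h2 : (2 : F) = 0 := by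
      have := CharP.cast_eq_zero F 2
      simpa using this
    linear_combination hr + (1 - r) * h2
  have h3 : r = 1 := by
    have := pow_eq_zero_iff (two_ne_zero) |>.mp h1
    exact sub_eq_zero.mp this
  rw [Subgroup.mem_bot]
  apply Subtype.ext
  rw [← hrA, h3]
  simp

theorem mk_injective :
    Function.Injective (QuotientGroup.mk' (Subgroup.center (SpecialLinearGroup (Fin 2) F))) := by
  intro a b hab
  have := (QuotientGroup.eq).mp hab
  rw [center_eq_bot, Subgroup.mem_bot] at this
  exact (inv_mul_eq_one.mp this)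

/-- nonscalar matrices from non-identity elements of `SL₂` -/
theorem nonscalar_of_ne_one (A : SpecialLinearGroup (Fin 2) F) (hA : A ≠ 1) :
    ¬ ((A : Matrix (Fin 2) (Fin 2) F) 0 1 = 0 ∧ (A : Matrix (Fin 2) (Fin 2) F) 1 0 = 0 ∧
      (A : Matrix (Fin 2) (Fin 2) F) 0 0 = (A : Matrix (Fin 2) (Fin 2) F) 1 1) := by
  rintro ⟨h1, h2, h3⟩
  apply hA
  have hc : A ∈ Subgroup.center (SpecialLinearGroup (Fin 2) F) := by
    rw [Matrix.SpecialLinearGroup.mem_center_iff]
    refine ⟨(A : Matrix (Fin 2) (Fin 2) F) 0 0, ?_, ?_⟩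
    · have hdet := A.2
      rw [Matrix.det_fin_two, h1, zero_mul, sub_zero, ← h3] at hdet
      rw [Fintype.card_fin, pow_two]; exact hdet
    · ext i j
      fin_cases i <;> fin_cases j <;> simp [h1, h2, h3]
  rw [center_eq_bot, Subgroup.mem_bot] at hc
  exact hc

/-- the CA property of `PSL₂` in characteristic 2 -/
theorem ca_property (a b c : ProjectiveSpecialLinearGroup (Fin 2) F) (ha : a ≠ 1)
    (hb : a * b = b * a) (hc : a * c = c * a) : b * c = c * b := by
  obtain ⟨A, rfl⟩ := QuotientGroup.mk_surjective a
  obtain ⟨B, rfl⟩ := QuotientGroup.mk_surjective b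
  obtain ⟨C, rfl⟩ := QuotientGroup.mk_surjective c
  have hA : A ≠ 1 := by
    rintro rfl
    exact ha rfl
  have hAB : A * B = B * A := mk_injective (by simpa using hb)
  have hAC : A * C = C * A := mk_injective (by simpa using hc)
  have hAB' : (A : Matrix (Fin 2) (Fin 2) F) * B = B * A := by
    have := congrArg Subtype.val hAB
    simpa using this
  have hAC' : (A : Matrix (Fin 2) (Fin 2) F) * C = C * A := by
    have := congrArg Subtype.val hAC
    simpa using this
  have hBC := comm_of_comm_nonscalar _ _ _ (nonscalar_of_ne_one A hA) hAB' hAC'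
  have : B * C = C * B := Subtype.ext (by simpa using hBC)
  rw [← QuotientGroup.mk_mul, ← QuotientGroup.mk_mul, this]

theorem ti_centralizer (x : ProjectiveSpecialLinearGroup (Fin 2) F) :
    Cfsg.IsTISubset (Subgroup.centralizer ({x} : Set (ProjectiveSpecialLinearGroup (Fin 2) F)) :
      Set (ProjectiveSpecialLinearGroup (Fin 2) F)) := by
  intro g hg u hu hgu
  by_contra hu1
  apply hg
  by_cases hx : x = 1
  · subst hx
    rw [Subgroup.mem_set_normalizer_iff]
    intro v
    simp [Subgroup.mem_centralizer_singleton_iff]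
  · have hu' : u * x = x * u := Subgroup.mem_centralizer_singleton_iff.mp hu
    have hgu' : g * u * g⁻¹ * x = x * (g * u * g⁻¹) := Subgroup.mem_centralizer_singleton_iff.mp hgu
    have hgu1 : g * u * g⁻¹ ≠ 1 := by
      intro h
      apply hu1
      have : u = g⁻¹ * (g * u * g⁻¹) * g := by group
      rw [this, h]; group
    -- C(x) = C(w) for any w ≠ 1 in C(x)
    have key : ∀ w : ProjectiveSpecialLinearGroup (Fin 2) F, w ≠ 1 → w * x = x * w →
        ∀ v, (v * x = x * v ↔ v * w = w * v) := by
      intro w hw1 hwx v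
      constructor
      · intro hv
        exact ca_property x v w hx hv.symm hwx.symm
      · intro hv
        exact ca_property w v x hw1 hv.symm hwx
    rw [Subgroup.mem_set_normalizer_iff]
    intro v
    rw [SetLike.mem_coe, SetLike.mem_coe, Subgroup.mem_centralizer_singleton_iff,
      Subgroup.mem_centralizer_singleton_iff, key u hu1 hu' v, key (g * u * g⁻¹) hgu1 hgu' (g * v * g⁻¹)]
    constructor
    · intro h
      calc g * v * g⁻¹ * (g * u * g⁻¹) = g * (v * u) * g⁻¹ := by group
        _ = g * (u * v) * g⁻¹ := by rw [h]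
        _ = _ := by group
    · intro h
      have : g * (v * u) * g⁻¹ = g * (u * v) * g⁻¹ := by
        calc g * (v * u) * g⁻¹ = g * v * g⁻¹ * (g * u * g⁻¹) := by group
          _ = g * u * g⁻¹ * (g * v * g⁻¹) := h
          _ = _ := by group
      exact mul_left_cancel (mul_right_cancel this)

end

/-- Let F be a finite field with 2ⁿ elements, n ≥ 2. In PSL₂(F) the centralizer of every element meets each of its conjugates by elements outside its normalizer trivially. -/
theorem result (n : ℕ) (hn : 2 ≤ n)
    (x : Matrix.ProjectiveSpecialLinearGroup (Fin 2) (GaloisField 2 n)) :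
    Cfsg.IsTISubset (Subgroup.centralizer ({x} : Set (Matrix.ProjectiveSpecialLinearGroup (Fin 2) (GaloisField 2 n))) :
      Set (Matrix.ProjectiveSpecialLinearGroup (Fin 2) (GaloisField 2 n))) :=
  ti_centralizer x

end Cfsg.Agent.S4065
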