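import Cfsg.Statements.S4160
import Cfsg.Agent.Lib.Helper81.PSolvable

set_option autoImplicit false
open Cfsg

namespace Cfsg.Agent.S4160

open scoped Pointwise

theorem conj_mem_centralizer {G : Type*} [Group G] [Finite G] {r : ℕ} [Fact r.Prime]
    (P : Sylow r G) (g : G)
    (hg : ¬ r ∣ (Subgroup.centralizer ({g} : Set G)).index) :
    ∃ t : G, t⁻¹ * g * t ∈ Subgroup.centralizer ((P : Subgroup G) : Set G) := by
  obtain ⟨Q, hQ⟩ := Cfsg.Agent.Lib.Helper81.exists_sylow_le_of_not_dvd_index _ hg
  obtain ⟨t, ht⟩ := MulAction.exists_smul_eq G P Q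
  refine ⟨t, ?_⟩
  rw [Subgroup.mem_centralizer_iff]
  intro x hx
  have h1 : t * x * t⁻¹ ∈ (Q : Subgroup G) := by
    rw [← ht, Sylow.coe_subgroup_smul]
    have := Subgroup.smul_mem_pointwise_smul x (MulAut.conj t) (P : Subgroup G) hx
    simpa [MulAut.smul_def] using this
  have h2 := hQ h1
  rw [Subgroup.mem_centralizer_iff] at h2
  have h3 := h2 g (Set.mem_singleton g)
  have h4 : t⁻¹ * (g * (t * x * t⁻¹)) * t = t⁻¹ * (t * x * t⁻¹ * g) * t := by rw [h3]
  simp only [mul_assoc, inv_mul_cancel_left, inv_mul_cancel, mul_one] at h4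
  simp only [mul_assoc]
  exact h4.symm

theorem normalizer_conj_centralizer {G : Type*} [Group G] (P : Subgroup G) (n : G)
    (hn : n ∈ Subgroup.normalizer (P : Set G)) (c : G)
    (hc : c ∈ Subgroup.centralizer (P : Set G)) :
    n * c * n⁻¹ ∈ Subgroup.centralizer (P : Set G) := by
  rw [Subgroup.mem_centralizer_iff] at hc ⊢
  intro y hy
  have hy' : n⁻¹ * y * n ∈ P := (Subgroup.mem_normalizer_iff''.1 hn y).1 hy
  have h3 := hc _ hy'
  have h4 : n * (n⁻¹ * y * n * c) * n⁻¹ = n * (c * (n⁻¹ * y * n)) * n⁻¹ := by rw [h3]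
  simp only [mul_assoc, mul_inv_cancel_left, mul_inv_cancel, mul_one] at h4
  simp only [mul_assoc]
  exact h4

theorem card_bound {G : Type*} [Group G] [Fintype G] [DecidableEq G] {r : ℕ} [Fact r.Prime]
    (P : Sylow r G) :
    (Finset.univ.filter (fun g : G => g ≠ 1 ∧
        ¬ r ∣ (Subgroup.centralizer ({g} : Set G)).index)).card
      ≤ (Subgroup.normalizer ((P : Subgroup G) : Set G)).index *
        (Nat.card (Subgroup.centralizer ((P : Subgroup G) : Set G)) - 1) := by
  classical
  set N := Subgroup.normalizer ((P : Subgroup G) : Set G) with hN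
  set C := Subgroup.centralizer ((P : Subgroup G) : Set G) with hC
  let f : (G ⧸ N) × C → G := fun d => d.1.out * (d.2 : G) * (d.1.out)⁻¹
  have hsurj : Set.SurjOn f
      ((Finset.univ ×ˢ (Finset.univ.erase (1 : C)) : Finset ((G ⧸ N) × C)) : Set ((G ⧸ N) × C))
      ((Finset.univ.filter (fun g : G => g ≠ 1 ∧
        ¬ r ∣ (Subgroup.centralizer ({g} : Set G)).index) : Finset G) : Set G) := by
    intro g hg
    simp only [Finset.coe_filter, Finset.mem_univ, true_and, Set.mem_ofPred_eq] at hg
    obtain ⟨hg1, hg2⟩ := hg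
    obtain ⟨t, ht⟩ := conj_mem_centralizer P g hg2
    obtain ⟨h, hh⟩ := QuotientGroup.mk_out_eq_mul N t
    have hmem : ((t : G ⧸ N).out)⁻¹ * g * (t : G ⧸ N).out ∈ C := by
      rw [hh]
      have := normalizer_conj_centralizer (P : Subgroup G) ((h : G)⁻¹) (N.inv_mem h.2) _ ht
      rw [hC]
      simpa [mul_assoc] using this
    refine ⟨((t : G ⧸ N), ⟨_, hmem⟩), ?_, ?_⟩
    · simp only [Finset.coe_product, Finset.coe_univ, Finset.coe_erase, Set.mem_prod,
        Set.mem_univ, true_and, Set.mem_sdiff, Set.mem_singleton_iff]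
      intro h1
      apply hg1
      have h2 : ((t : G ⧸ N).out)⁻¹ * g * (t : G ⧸ N).out = 1 := congrArg Subtype.val h1
      have h3 : g = (t : G ⧸ N).out * (((t : G ⧸ N).out)⁻¹ * g * (t : G ⧸ N).out) *
          ((t : G ⧸ N).out)⁻¹ := by group
      rw [h3, h2]; group
    · simp only [f]; group
  calc _ ≤ (Finset.univ ×ˢ (Finset.univ.erase (1 : C)) : Finset ((G ⧸ N) × C)).card :=
        Finset.card_le_card_of_surjOn f hsurj
    _ = _ := by
        rw [Finset.card_product, Finset.card_erase_of_mem (Finset.mem_univ _), Finset.card_univ,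
          Finset.card_univ, ← Nat.card_eq_fintype_card, ← Nat.card_eq_fintype_card]
        rfl

theorem two_mul_le {G : Type*} [Group G] [Finite G] (C N : Subgroup G) (hCN : C ≤ N)
    (hne : ¬ N ≤ C) : 2 * (N.index * Nat.card C) ≤ Nat.card G := by
  obtain ⟨k, hk⟩ := Subgroup.card_dvd_of_le hCN
  have hNpos : 0 < Nat.card N := Nat.card_pos
  have hCpos : 0 < Nat.card C := Nat.card_pos
  have hk0 : k ≠ 0 := by
    rintro rfl
    rw [mul_zero] at hk
    omega
  have hk1 : k ≠ 1 := by
    rintro rfl
    rw [mul_one] at hk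
    exact hne (Subgroup.eq_of_le_of_card_ge hCN (le_of_eq hk)).ge
  have hk2 : 2 ≤ k := by omega
  have hG : N.index * Nat.card N = Nat.card G := Subgroup.index_mul_card N
  rw [← hG, hk]
  have : N.index * (Nat.card C * k) = (N.index * Nat.card C) * k := by ring
  rw [this]
  nlinarith [Nat.zero_le (N.index * Nat.card C)]

/-- Let G be a finite group and p ≠ q primes each dividing the size of some conjugacy class of G, such that no conjugacy class size is divisible by pq. Then G has a normal p-complement or a normal q-complement. -/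
theorem result {G : Type*} [Group G] [Finite G] (p q : ℕ) (hp : p.Prime) (hq : q.Prime) (hpq : p ≠ q)
    (hp' : ∃ x : G, p ∣ (Subgroup.centralizer ({x} : Set G)).index) (hq' : ∃ x : G, q ∣ (Subgroup.centralizer ({x} : Set G)).index) (h : ∀ x : G, ¬ p * q ∣ (Subgroup.centralizer ({x} : Set G)).index) :
    Cfsg.HasNormalPComplement p G ∨ Cfsg.HasNormalPComplement q G := by
  classical
  have : Fintype G := Fintype.ofFinite G
  have : Fact p.Prime := ⟨hp⟩
  have : Fact q.Prime := ⟨hq⟩
  obtain ⟨P⟩ : Nonempty (Sylow p G) := inferInstance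
  obtain ⟨Q⟩ : Nonempty (Sylow q G) := inferInstance
  by_cases hP : Subgroup.normalizer ((P : Subgroup G) : Set G) ≤
      Subgroup.centralizer ((P : Subgroup G) : Set G)
  · left
    exact ⟨P, _, MonoidHom.normal_ker _, MonoidHom.ker_transferSylow_isComplement' P hP⟩
  by_cases hQ : Subgroup.normalizer ((Q : Subgroup G) : Set G) ≤
      Subgroup.centralizer ((Q : Subgroup G) : Set G)
  · right
    exact ⟨Q, _, MonoidHom.normal_ker _, MonoidHom.ker_transferSylow_isComplement' Q hQ⟩
  exfalso
  have h1 := two_mul_le _ _ (Subgroup.centralizer_le_normalizer (s := ((P : Subgroup G) : Set G))) hP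
  have h2 := two_mul_le _ _ (Subgroup.centralizer_le_normalizer (s := ((Q : Subgroup G) : Set G))) hQ
  have b1 := card_bound P
  have b2 := card_bound Q
  have hcov : (Finset.univ.erase (1 : G)) ⊆
      (Finset.univ.filter (fun g : G => g ≠ 1 ∧
        ¬ p ∣ (Subgroup.centralizer ({g} : Set G)).index)) ∪
      (Finset.univ.filter (fun g : G => g ≠ 1 ∧
        ¬ q ∣ (Subgroup.centralizer ({g} : Set G)).index)) := by
    intro g hg
    simp only [Finset.mem_erase, Finset.mem_univ, and_true] at hg
    simp only [Finset.mem_union, Finset.mem_filter, Finset.mem_univ, true_and]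
    by_contra hcon
    rw [not_or] at hcon
    have hpd : p ∣ (Subgroup.centralizer ({g} : Set G)).index := by
      by_contra h'
      exact hcon.1 ⟨hg, h'⟩
    have hqd : q ∣ (Subgroup.centralizer ({g} : Set G)).index := by
      by_contra h'
      exact hcon.2 ⟨hg, h'⟩
    exact h g (Nat.Coprime.mul_dvd_of_dvd_of_dvd ((Nat.coprime_primes hp hq).2 hpq) hpd hqd)
  have hcard := (Finset.card_le_card hcov).trans (Finset.card_union_le _ _)
  rw [Finset.card_erase_of_mem (Finset.mem_univ _), Finset.card_univ,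
    ← Nat.card_eq_fintype_card] at hcard
  have ia : 0 < (Subgroup.normalizer ((P : Subgroup G) : Set G)).index :=
    Nat.pos_of_ne_zero (Subgroup.index_ne_zero_of_finite)
  have ib : 0 < (Subgroup.normalizer ((Q : Subgroup G) : Set G)).index :=
    Nat.pos_of_ne_zero (Subgroup.index_ne_zero_of_finite)
  have ca : 0 < Nat.card (Subgroup.centralizer ((P : Subgroup G) : Set G)) := Nat.card_pos
  have cb : 0 < Nat.card (Subgroup.centralizer ((Q : Subgroup G) : Set G)) := Nat.card_pos
  obtain ⟨k1, hk1⟩ := Nat.exists_eq_add_of_le ca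
  obtain ⟨k2, hk2⟩ := Nat.exists_eq_add_of_le cb
  rw [hk1] at h1 b1
  rw [hk2] at h2 b2
  simp only [Nat.add_sub_cancel_left] at b1 b2
  have e1 : (Subgroup.normalizer ((P : Subgroup G) : Set G)).index * (0 + 1 + k1) =
      (Subgroup.normalizer ((P : Subgroup G) : Set G)).index * k1 +
      (Subgroup.normalizer ((P : Subgroup G) : Set G)).index := by ring
  have e2 : (Subgroup.normalizer ((Q : Subgroup G) : Set G)).index * (0 + 1 + k2) =
      (Subgroup.normalizer ((Q : Subgroup G) : Set G)).index * k2 +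
      (Subgroup.normalizer ((Q : Subgroup G) : Set G)).index := by ring
  rw [e1] at h1
  rw [e2] at h2
  generalize (Subgroup.normalizer ((P : Subgroup G) : Set G)).index * k1 = x1 at *
  generalize (Subgroup.normalizer ((Q : Subgroup G) : Set G)).index * k2 = x2 at *
  omega

end Cfsg.Agent.S4160
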