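import Cfsg.Statements.S4750
import Cfsg.Agent.Lib.Helper05.Lattice
import Cfsg.Agent.Lib.Helper05.CharDecomp
import Cfsg.Agent.Lib.Helper05.CharOrtho

set_option autoImplicit false
open scoped Pointwise
open Cfsg

namespace Cfsg.Agent.S4750

open scoped ComplexConjugate

/-- TI control: a non-identity element of the TI Sylow subgroup `P` that is conjugated into
`H ≥ N_G(P)` by `g` forces `g ∈ H`. -/
theorem eq_one_of_conj_mem {G : Type*} [Group G] [Finite G] (p : ℕ) [Fact p.Prime] (P : Sylow p G)
    (hTI : ∀ g : G, g ∉ Subgroup.normalizer ((P : Subgroup G) : Set G) →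
      (P : Subgroup G) ⊓ (MulAut.conj g • (P : Subgroup G)) = ⊥)
    (H : Subgroup G) (hH : Subgroup.normalizer ((P : Subgroup G) : Set G) ≤ H)
    (u : G) (hu : u ∈ (P : Subgroup G)) (g : G) (hg : g ∉ H) (hx : g⁻¹ * u * g ∈ H) : u = 1 := by
  by_contra hne
  have hPH : (P : Subgroup G) ≤ H := Subgroup.le_normalizer.trans hH
  -- the `p`-subgroup `(g⁻¹ P g) ∩ H` of `H`
  have hQp : IsPGroup p ((MulAut.conj g⁻¹ • (P : Subgroup G)).subgroupOf H) := by
    have h1 : IsPGroup p (MulAut.conj g⁻¹ • (P : Subgroup G) : Subgroup G) := by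
      have := (g⁻¹ • P : Sylow p G).isPGroup'
      rwa [Sylow.coe_subgroup_smul] at this
    exact h1.comap_subtype
  obtain ⟨R, hR⟩ := hQp.exists_le_sylow
  obtain ⟨h, hh⟩ := MulAction.exists_smul_eq H (P.subtype hPH) R
  have hxR : (⟨g⁻¹ * u * g, hx⟩ : H) ∈ (R : Subgroup H) := by
    apply hR
    rw [Subgroup.mem_subgroupOf]
    show g⁻¹ * u * g ∈ MulAut.conj g⁻¹ • (P : Subgroup G)
    rw [Subgroup.mem_pointwise_smul_iff_inv_smul_mem]
    simpa [MulAut.smul_def, mul_assoc] using hu
  rw [← hh, Sylow.coe_subgroup_smul, Subgroup.mem_pointwise_smul_iff_inv_smul_mem] at hxR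
  have hxP : (h : G)⁻¹ * (g⁻¹ * u * g) * (h : G) ∈ (P : Subgroup G) := by
    have := hxR
    rw [Sylow.coe_subtype, Subgroup.mem_subgroupOf] at this
    simpa [MulAut.smul_def, mul_assoc] using this
  by_cases hn : g * (h : G) ∈ Subgroup.normalizer ((P : Subgroup G) : Set G)
  · apply hg
    have h1 := H.mul_mem (hH hn) (H.inv_mem h.2)
    simpa using h1
  · have h1 := hTI _ hn
    have h2 : u ∈ (P : Subgroup G) ⊓ (MulAut.conj (g * (h : G)) • (P : Subgroup G)) := by
      refine ⟨hu, ?_⟩
      show u ∈ MulAut.conj (g * (h : G)) • (P : Subgroup G)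
      rw [Subgroup.mem_pointwise_smul_iff_inv_smul_mem]
      simpa [MulAut.smul_def, mul_assoc] using hxP
    rw [h1, Subgroup.mem_bot] at h2
    exact hne h2

/-- Sum over a finite invariant set on which a finite group acts freely, as a sum over orbit
representatives. -/
theorem sum_eq_sum_reps {K X A : Type*} [Group K] [Fintype K] [DecidableEq X] [AddCommMonoid A]
    (act : K → X → X) (h1 : ∀ x, act 1 x = x)
    (hmul : ∀ k k' x, act (k * k') x = act k (act k' x)) (F : X → A) (Y : Finset X)
    (hinv : ∀ k, ∀ x ∈ Y, act k x ∈ Y) (hfree : ∀ k, ∀ x ∈ Y, act k x = x → k = 1) :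
    ∃ S : Finset X, S ⊆ Y ∧ ∑ x ∈ Y, F x = ∑ s ∈ S, ∑ k : K, F (act k s) := by
  classical
  induction Y using Finset.strongInduction with
  | H Y ih =>
    rcases Y.eq_empty_or_nonempty with rfl | ⟨y, hy⟩
    · exact ⟨∅, by simp, by simp⟩
    · set O := Finset.univ.image (fun k : K => act k y) with hO
      have hOY : O ⊆ Y := by
        intro x hx
        rw [hO, Finset.mem_image] at hx
        obtain ⟨k, -, rfl⟩ := hx
        exact hinv k y hy
      have hyO : y ∈ O := by
        rw [hO, Finset.mem_image]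
        exact ⟨1, Finset.mem_univ _, h1 y⟩
      have hinj : Function.Injective (fun k : K => act k y) := by
        intro k k' h
        have h2 : act (k'⁻¹ * k) y = y := by
          rw [hmul]
          show act k'⁻¹ ((fun k : K => act k y) k) = y
          rw [h]
          show act k'⁻¹ (act k' y) = y
          rw [← hmul, inv_mul_cancel, h1]
        have h3 := hfree _ y hy h2
        exact (inv_mul_eq_one.mp h3).symm
      have hY' : Y \ O ⊂ Y := by
        refine Finset.ssubset_iff_subset_ne.mpr ⟨Finset.sdiff_subset, fun h => ?_⟩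
        have : y ∈ Y \ O := by rw [h]; exact hy
        exact (Finset.mem_sdiff.mp this).2 hyO
      have hinv' : ∀ k, ∀ x ∈ Y \ O, act k x ∈ Y \ O := by
        intro k x hx
        rw [Finset.mem_sdiff] at hx ⊢
        refine ⟨hinv k x hx.1, fun hkx => hx.2 ?_⟩
        rw [hO, Finset.mem_image] at hkx ⊢
        obtain ⟨k', -, hk'⟩ := hkx
        refine ⟨k⁻¹ * k', Finset.mem_univ _, ?_⟩
        rw [hmul, hk', ← hmul, inv_mul_cancel, h1]
      have hfree' : ∀ k, ∀ x ∈ Y \ O, act k x = x → k = 1 := fun k x hx =>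
        hfree k x (Finset.mem_sdiff.mp hx).1
      obtain ⟨S', hS', hsum⟩ := ih (Y \ O) hY' hinv' hfree'
      have hyS' : y ∉ S' := fun h => (Finset.mem_sdiff.mp (hS' h)).2 hyO
      refine ⟨insert y S', ?_, ?_⟩
      · exact Finset.insert_subset hy (hS'.trans Finset.sdiff_subset)
      · rw [← Finset.sum_sdiff hOY, hsum, Finset.sum_insert hyS', hO,
          Finset.sum_image (fun a _ b _ h => hinj h), add_comm]

/-- **Lemma A.**  With a TI Sylow `p`-subgroup `P`, `N_G(P) ≤ H` and a representation of degree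
`< |P|`, the `H`-invariants and the `G`-invariants coincide. -/
theorem invariants_eq {G : Type*} [Group G] [Fintype G] [DecidableEq G] (p : ℕ) [Fact p.Prime]
    (P : Sylow p G)
    (hTI : ∀ g : G, g ∉ Subgroup.normalizer ((P : Subgroup G) : Set G) →
      (P : Subgroup G) ⊓ (MulAut.conj g • (P : Subgroup G)) = ⊥)
    (H : Subgroup G) [Fintype ↥H] (hH : Subgroup.normalizer ((P : Subgroup G) : Set G) ≤ H)
    {V : Type*} [AddCommGroup V] [Module ℂ V] [FiniteDimensional ℂ V]
    (ρ : Representation ℂ G V) (hd : Module.finrank ℂ V < Nat.card (P : Subgroup G))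
    (v : V) (hv : ∀ h : H, ρ (h : G) v = v) (g : G) : ρ g v = v := by
  classical
  have hPH : (P : Subgroup G) ≤ H := Subgroup.le_normalizer.trans hH
  haveI : Fintype ↥(P : Subgroup G) := Fintype.ofFinite _
  set AG : V := ∑ x : G, ρ x v with hAG
  have hAGfix : ∀ y : G, ρ y AG = AG := by
    intro y
    rw [hAG, map_sum]
    refine Fintype.sum_equiv (Equiv.mulLeft y) _ _ fun x => ?_
    simp [map_mul]
  set w : V := (Fintype.card G : ℂ) • v - AG with hw
  have hwH : ∀ h : H, ρ (h : G) w = w := by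
    intro h
    rw [hw, map_sub, map_smul, hv h, hAGfix]
  have hwG : ∑ x : G, ρ x w = 0 := by
    have h1 : ∀ x : G, ρ x w = (Fintype.card G : ℂ) • ρ x v - AG := by
      intro x
      rw [hw, map_sub, map_smul, hAGfix]
    rw [Finset.sum_congr rfl fun x _ => h1 x, Finset.sum_sub_distrib, ← Finset.smul_sum,
      Finset.sum_const, Finset.card_univ, ← hAG, Nat.cast_smul_eq_nsmul, sub_self]
  -- split the sum over `G` into `H` and its complement
  set Y : Finset G := Finset.univ.filter (fun x => x ∉ H) with hY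
  have hsplit : ∑ x : G, ρ x w = (Fintype.card H : ℂ) • w + ∑ x ∈ Y, ρ x w := by
    rw [← Finset.sum_filter_add_sum_filter_not Finset.univ (fun x => x ∈ H)]
    congr 1
    have h2 : ∑ x ∈ Finset.univ.filter (fun x => x ∈ H), ρ x w = ∑ h : H, ρ (h : G) w := by
      refine (Finset.sum_subtype _ (fun x => ?_) _)
      simp
    rw [h2, Finset.sum_congr rfl fun h _ => hwH h, Finset.sum_const, Finset.card_univ,
      Nat.cast_smul_eq_nsmul]
  -- the free action of `P × H` on the complement of `H`
  let act : (↥(P : Subgroup G) × ↥H) → G → G := fun k x => (k.1 : G) * x * ((k.2 : G))⁻¹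
  have hact1 : ∀ x, act 1 x = x := fun x => by simp [act]
  have hactmul : ∀ k k' x, act (k * k') x = act k (act k' x) := fun k k' x => by
    simp [act, mul_assoc]
  have hinv : ∀ k, ∀ x ∈ Y, act k x ∈ Y := by
    intro k x hx
    rw [hY, Finset.mem_filter] at hx ⊢
    refine ⟨Finset.mem_univ _, fun hmem => hx.2 ?_⟩
    have h3 := H.mul_mem (H.mul_mem (H.inv_mem (hPH k.1.2)) hmem) k.2.2
    simpa [act, mul_assoc] using h3
  have hfree : ∀ k, ∀ x ∈ Y, act k x = x → k = 1 := by
    intro k x hx hk
    rw [hY, Finset.mem_filter] at hx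
    have h4 : x⁻¹ * (k.1 : G) * x = (k.2 : G) := by
      have : (k.1 : G) * x * ((k.2 : G))⁻¹ = x := hk
      rw [mul_inv_eq_iff_eq_mul] at this
      rw [mul_assoc, this, inv_mul_cancel_left]
    have h5 : (k.1 : G) = 1 :=
      eq_one_of_conj_mem p P hTI H hH _ k.1.2 x hx.2 (h4 ▸ k.2.2)
    have h6 : (k.2 : G) = 1 := by rw [← h4, h5]; simp
    exact Prod.ext (Subtype.ext h5) (Subtype.ext h6)
  obtain ⟨S, -, hS⟩ := sum_eq_sum_reps act hact1 hactmul (fun x => ρ x w) Y hinv hfree
  have hS2 : ∑ s ∈ S, ∑ k : ↥(P : Subgroup G) × ↥H, ρ (act k s) w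
      = (Fintype.card H : ℂ) • ∑ s ∈ S, ∑ u : ↥(P : Subgroup G), ρ ((u : G) * s) w := by
    rw [Finset.smul_sum]
    refine Finset.sum_congr rfl fun s _ => ?_
    rw [Fintype.sum_prod_type, Finset.smul_sum]
    refine Finset.sum_congr rfl fun u _ => ?_
    have h7 : ∀ h : H, ρ (act (u, h) s) w = ρ ((u : G) * s) w := by
      intro h
      show ρ ((u : G) * s * ((h : G))⁻¹) w = _
      rw [map_mul ρ ((u : G) * s), Module.End.mul_apply]
      congr 1
      exact hwH h⁻¹
    rw [Finset.sum_congr rfl fun h _ => h7 h, Finset.sum_const, Finset.card_univ,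
      Nat.cast_smul_eq_nsmul]
  have hfinal : w + ∑ s ∈ S, ∑ u : ↥(P : Subgroup G), ρ ((u : G) * s) w = 0 := by
    have h8 : (Fintype.card H : ℂ) •
        (w + ∑ s ∈ S, ∑ u : ↥(P : Subgroup G), ρ ((u : G) * s) w) = 0 := by
      rw [smul_add, ← hS2, ← hS, ← hsplit, hwG]
    rcases smul_eq_zero.mp h8 with h9 | h9
    · exact absurd h9 (by exact_mod_cast Fintype.card_ne_zero)
    · exact h9
  have hd' : Module.finrank ℂ V < Fintype.card ↥(P : Subgroup G) := by
    rwa [Fintype.card_eq_nat_card]
  have hw0 : w = 0 := Cfsg.Agent.Lib.Helper05.Lattice.eq_zero_of_add_sum_eq_zero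
    (P : Subgroup G) P.isPGroup' ρ hd' w S hfinal
  have hv' : (Fintype.card G : ℂ) • v = AG := sub_eq_zero.mp (hw ▸ hw0)
  have hcard : (Fintype.card G : ℂ) ≠ 0 := by exact_mod_cast Fintype.card_ne_zero
  have hv'' : v = (Fintype.card G : ℂ)⁻¹ • AG := by
    rw [← hv', smul_smul, inv_mul_cancel₀ hcard, one_smul]
  rw [hv'', map_smul, hAGfix]

/-- Character form of Lemma A. -/
theorem average_eq {G : Type*} [Group G] [Fintype G] [DecidableEq G] (p : ℕ) [Fact p.Prime]
    (P : Sylow p G)
    (hTI : ∀ g : G, g ∉ Subgroup.normalizer ((P : Subgroup G) : Set G) →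
      (P : Subgroup G) ⊓ (MulAut.conj g • (P : Subgroup G)) = ⊥)
    (H : Subgroup G) [Fintype ↥H] (hH : Subgroup.normalizer ((P : Subgroup G) : Set G) ≤ H)
    {d : ℕ} (ρ : Representation ℂ G (Fin d → ℂ)) (hd : d < Nat.card (P : Subgroup G)) :
    (Nat.card H : ℂ)⁻¹ * ∑ h : H, ρ.character (h : G)
      = (Nat.card G : ℂ)⁻¹ * ∑ g : G, ρ.character g := by
  classical
  haveI : Invertible (Nat.card G : ℂ) :=
    invertibleOfNonzero (by exact_mod_cast Nat.card_pos.ne')
  haveI : Invertible (Nat.card H : ℂ) :=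
    invertibleOfNonzero (by exact_mod_cast Nat.card_pos.ne')
  have h1 := Representation.card_inv_mul_sum_char_eq_finrank ρ
  have h2 := Representation.card_inv_mul_sum_char_eq_finrank (ρ.comp H.subtype)
  have h3 : Representation.invariants (ρ.comp H.subtype) = Representation.invariants ρ := by
    ext v
    rw [Representation.mem_invariants, Representation.mem_invariants]
    constructor
    · intro hv g
      exact invariants_eq p P hTI H hH ρ (by rwa [Module.finrank_fin_fun]) v hv g
    · intro hv h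
      exact hv (h : G)
  rw [h1, ← h3, ← h2]
  rfl

theorem classInner_multiset_sum {G : Type*} [Group G] [Fintype G] (l : Multiset (G → ℂ))
    (φ : G → ℂ) : Cfsg.classInner l.sum φ = (l.map fun θ => Cfsg.classInner θ φ).sum := by
  induction l using Multiset.induction_on with
  | empty => simp [Cfsg.classInner]
  | cons a l ih =>
    rw [Multiset.sum_cons, Multiset.map_cons, Multiset.sum_cons,
      Cfsg.Agent.Lib.Helper05.classInner_add_left, ih]

/-- Let P be a Sylow p-subgroup of the finite group G that meets each conjugate g P g⁻¹ with g outside N_G(P) trivially, χ a character of G with χ(1)² ≤ |P|, and H a subgroup of G containing N_G(P). Then the inner product of χ with itself over G equals the inner product over H of the restriction of χ to H. -/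
theorem result {G : Type*} [Group G] [Fintype G] [DecidableEq G] (p : ℕ) [Fact p.Prime] (P : Sylow p G) (hTI : ∀ g : G, g ∉ Subgroup.normalizer ((P : Subgroup G) : Set G) → (P : Subgroup G) ⊓ (MulAut.conj g • (P : Subgroup G)) = ⊥) (χ : G → ℂ) (hχ : Cfsg.IsCharacter G χ) (hdeg : Cfsg.charDegree χ ^ 2 ≤ Nat.card ↥(P : Subgroup G)) (H : Subgroup G) [Fintype ↥H] (hH : Subgroup.normalizer ((P : Subgroup G) : Set G) ≤ H) : Cfsg.classInner χ χ = Cfsg.classInner (fun h : ↥H => χ h) (fun h : ↥H => χ h) := by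
  classical
  have hGne : (Nat.card G : ℂ) ≠ 0 := by exact_mod_cast Nat.card_pos.ne'
  have hHne : (Nat.card H : ℂ) ≠ 0 := by exact_mod_cast Nat.card_pos.ne'
  by_cases h0 : Cfsg.classInner χ χ = 0
  · -- then `χ` vanishes identically
    have hsum : ∑ g : G, Complex.normSq (χ g) = 0 := by
      have h1 : Cfsg.classInner χ χ = (Nat.card G : ℂ)⁻¹ * ((∑ g : G, Complex.normSq (χ g) : ℝ) : ℂ) := by
        unfold Cfsg.classInner
        congr 1
        push_cast
        refine Finset.sum_congr rfl fun g _ => ?_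
        rw [Complex.mul_conj]
      rw [h1] at h0
      rcases mul_eq_zero.mp h0 with h2 | h2
      · exact absurd h2 (inv_ne_zero hGne)
      · exact_mod_cast h2
    have hzero : ∀ g : G, χ g = 0 := by
      intro g
      have := (Finset.sum_eq_zero_iff_of_nonneg fun g _ => Complex.normSq_nonneg (χ g)).mp hsum g
        (Finset.mem_univ _)
      exact Complex.normSq_eq_zero.mp this
    rw [h0]
    unfold Cfsg.classInner
    simp [hzero]
  · -- `ψ = χ χ̄` contains the principal character
    set ψ : G → ℂ := χ * (fun g => conj (χ g)) with hψdef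
    have hψ : Cfsg.IsCharacter G ψ :=
      Cfsg.Agent.Lib.Helper05.isCharacter_mul hχ (Cfsg.Agent.Lib.Helper05.isCharacter_conj hχ)
    have hinner : Cfsg.classInner χ χ = Cfsg.classInner ψ (fun _ => (1 : ℂ)) := by
      unfold Cfsg.classInner
      simp [hψdef]
    obtain ⟨l, hl, hψl⟩ := Cfsg.Agent.Lib.Helper05.exists_multiset_irr hψ
    have hex : ∃ θ ∈ l, Cfsg.classInner θ (fun _ => (1 : ℂ)) ≠ 0 := by
      by_contra hcon
      push Not at hcon
      apply h0
      rw [hinner, hψl, classInner_multiset_sum]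
      apply Multiset.sum_eq_zero
      intro x hx
      rw [Multiset.mem_map] at hx
      obtain ⟨θ, hθ, rfl⟩ := hx
      exact hcon θ hθ
    obtain ⟨θ, hθl, hθ1⟩ := hex
    have hθeq : θ = fun _ => (1 : ℂ) := by
      by_contra hne
      exact hθ1 (Cfsg.Agent.Lib.Helper05.classInner_irr_ne (hl θ hθl)
        Cfsg.Agent.Lib.Helper05.isIrrCharacter_one hne)
    obtain ⟨l', hl'⟩ := Multiset.exists_cons_of_mem hθl
    have hψ' : Cfsg.IsCharacter G l'.sum :=
      Cfsg.Agent.Lib.Helper05.isCharacter_sum_multiset l' fun φ hφ =>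
        hl φ (hl' ▸ Multiset.mem_cons_of_mem hφ)
    have hψsum : ∀ g, ψ g = 1 + l'.sum g := by
      intro g
      rw [hψl, hl', Multiset.sum_cons, hθeq]
      rfl
    obtain ⟨d, ρ, hρ⟩ := hψ'
    -- the degree
    obtain ⟨n, hn⟩ := Cfsg.Agent.Lib.Helper05.exists_nat_degree hχ
    have hcd : Cfsg.charDegree χ = n := by
      unfold Cfsg.charDegree
      rw [hn]
      simp
    have hd1 : (d : ℂ) = l'.sum 1 := by
      rw [← hρ, Representation.char_one, Module.finrank_fin_fun]
    have hd2 : (d : ℂ) + 1 = (n : ℂ) ^ 2 := by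
      have := hψsum 1
      rw [hψdef, Pi.mul_apply, hn] at this
      rw [hd1]
      simp only [Complex.conj_natCast] at this
      rw [sq, this]
      ring
    have hd3 : d + 1 = n ^ 2 := by exact_mod_cast hd2
    have hd : d < Nat.card (P : Subgroup G) := by
      rw [hcd] at hdeg
      omega
    have hA := average_eq p P hTI H hH ρ hd
    rw [hρ] at hA
    have hG : Cfsg.classInner χ χ = 1 + (Nat.card G : ℂ)⁻¹ * ∑ g : G, l'.sum g := by
      rw [hinner]
      unfold Cfsg.classInner
      simp only [map_one, mul_one]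
      rw [Finset.sum_congr rfl fun g _ => hψsum g, Finset.sum_add_distrib, Finset.sum_const,
        Finset.card_univ, mul_add, nsmul_eq_mul, mul_one, ← Nat.card_eq_fintype_card,
        inv_mul_cancel₀ hGne]
    have hHH : Cfsg.classInner (fun h : ↥H => χ h) (fun h : ↥H => χ h)
        = 1 + (Nat.card H : ℂ)⁻¹ * ∑ h : H, l'.sum (h : G) := by
      unfold Cfsg.classInner
      have h5 : ∀ h : H, χ (h : G) * conj (χ (h : G)) = 1 + l'.sum (h : G) := by
        intro h
        rw [← hψsum]
        rfl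
      rw [Finset.sum_congr rfl fun h _ => h5 h, Finset.sum_add_distrib, Finset.sum_const,
        Finset.card_univ, mul_add, nsmul_eq_mul, mul_one, ← Nat.card_eq_fintype_card,
        inv_mul_cancel₀ hHne]
    rw [hG, hHH, hA]

end Cfsg.Agent.S4750
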