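import Cfsg.Statements.S0925
import Cfsg.Agent.Lib.Helper82.BlockOrthFull

set_option autoImplicit false
set_option linter.style.haveILetI false
open Cfsg

namespace Cfsg.Agent.S0925

open Cfsg.Agent.Lib.Helper82 Cfsg.Agent.Lib.Helper21 Cfsg.Agent.Lib.Helper83
open scoped ComplexConjugate

theorem part_two {G : Type*} [Group G] [Finite G] (p : ℕ) (M : Ideal Cfsg.AlgInt)
    (hM : Cfsg.IsPModular p M) (g h x y : G) (hx : Cfsg.IsPPart p g x) (hy : Cfsg.IsPPart p h y)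
    (hxy : ¬ IsConj x y) (B : Set (Cfsg.IrrCharacter G)) (hB : Cfsg.IsPBlock M B) :
    ∑ᶠ χ ∈ B, (χ : G → ℂ) g * (χ : G → ℂ) h⁻¹ = 0 := by
  haveI := Fintype.ofFinite G
  obtain ⟨χ₀, rfl⟩ := hB
  exact sum_block_mul_eq_zero_of_not_isConj hM χ₀ g h⁻¹ x y hx (by rwa [inv_inv]) hxy

/-- Let ϑ be a class function ... -/
theorem result {G : Type*} [Group G] [Finite G] (p : ℕ) [Fact p.Prime] (M : Ideal Cfsg.AlgInt) (hM : Cfsg.IsPModular p M) : (∀ (ϑ : G → ℂ), Cfsg.IsClassFunction G ϑ → ∀ x : G, (∃ k : ℕ, orderOf x = p ^ k) → (∀ u z : G, Cfsg.IsPPart p u z → IsConj x z → ϑ u = 0) → ∀ B : Set (Cfsg.IrrCharacter G), Cfsg.IsPBlock M B → ∀ u z : G, Cfsg.IsPPart p u z → IsConj x z → Cfsg.blockPart B ϑ u = 0) ∧ (∀ g h x y : G, Cfsg.IsPPart p g x → Cfsg.IsPPart p h y → ¬ IsConj x y → ∀ B : Set (Cfsg.IrrCharacter G), Cfsg.IsPBlock M B → ∑ᶠ χ ∈ B, (χ : G → ℂ) g * (χ : G → ℂ) h⁻¹ = 0) := by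
  classical
  refine ⟨?_, fun g h x y hx hy hxy B hB => part_two p M hM g h x y hx hy hxy B hB⟩
  intro ϑ _ x _ hϑ B hB u z hu hxz
  haveI : Fintype (IrrCharacter G) := Fintype.ofFinite _
  have hp : p.Prime := hM.1
  letI : Fintype G := Fintype.ofFinite G
  unfold blockPart
  rw [finsum_mem_eq_sum_ite]
  -- expand the inner products
  have h1 : ∀ χ : IrrCharacter G, (if χ ∈ B then classInner ϑ (χ : G → ℂ) * (χ : G → ℂ) u else 0) =
      (Nat.card G : ℂ)⁻¹ * ∑ g : G, ϑ g * (if χ ∈ B then (χ : G → ℂ) u * (χ : G → ℂ) g⁻¹ else 0) := by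
    intro χ
    split_ifs with hχ
    · unfold classInner
      rw [mul_assoc, Finset.sum_mul]
      congr 1
      refine Finset.sum_congr rfl fun g _ => ?_
      rw [char_inv (IsIrrCharacter.isCharacter χ.2)]
      ring
    · simp
  rw [Finset.sum_congr rfl fun χ _ => h1 χ, ← Finset.mul_sum, Finset.sum_comm]
  have h2 : ∀ g : G, ∑ χ : IrrCharacter G,
      ϑ g * (if χ ∈ B then (χ : G → ℂ) u * (χ : G → ℂ) g⁻¹ else 0) = 0 := by
    intro g
    rw [← Finset.mul_sum, ← finsum_mem_eq_sum_ite]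
    obtain ⟨w, hw⟩ := exists_isPPart (p := p) hp g (orderOf_pos g)
    by_cases hxw : IsConj x w
    · rw [hϑ g w hw hxw, zero_mul]
    · have hzw : ¬ IsConj z w := fun h => hxw (hxz.trans h)
      rw [part_two p M hM u g z w hu hw hzw B hB, mul_zero]
  rw [Finset.sum_congr rfl fun g _ => h2 g, Finset.sum_const_zero, mul_zero]

end Cfsg.Agent.S0925
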