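import Cfsg.Statements.S4448
import Cfsg.Agent.Lib.Helper80.NormAct
import Cfsg.Agent.Lib.Helper80.InvAbove
import Cfsg.Agent.Lib.Helper84.Clifford

set_option autoImplicit false
open Cfsg

namespace Cfsg.Agent.S4448

open Cfsg.Agent.Lib.Helper80
open scoped commutatorElement

section Aux

universe u

variable {Γ : Type u} [Group Γ]

/-- Transitivity of "lies over". -/
theorem over_trans (G M N : Subgroup Γ) [Fintype G] [Fintype M] [Fintype N] (hMG : M ≤ G)
    (hNM : N ≤ M) (χ : IrrCharacter G) (η : IrrCharacter M) (θ : IrrCharacter N)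
    (h1 : classInner (fun m : M => (χ : G → ℂ) ⟨m, hMG m.2⟩) (η : M → ℂ) ≠ 0)
    (h2 : classInner (fun n : N => (η : M → ℂ) ⟨n, hNM n.2⟩) (θ : N → ℂ) ≠ 0) :
    classInner (fun n : N => (χ : G → ℂ) ⟨n, hMG (hNM n.2)⟩) (θ : N → ℂ) ≠ 0 := by
  classical
  have hχc : IsCharacter G (χ : G → ℂ) := Cfsg.Agent.Lib.Helper83.isCharacter_of_irr χ.2
  have hA : IsCharacter M (fun m : M => (χ : G → ℂ) ⟨m, hMG m.2⟩) :=
    Cfsg.Agent.Lib.Helper83.isCharacter_comp_hom (Subgroup.inclusion hMG) hχc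
  obtain ⟨A', hA'c, hA'⟩ := Cfsg.Agent.Lib.Helper84.exists_char_sub hA η
  set m := Cfsg.Agent.Lib.Helper83.irrMult (fun m : M => (χ : G → ℂ) ⟨m, hMG m.2⟩) η with hm
  have hm0 : m ≠ 0 := by
    intro h
    apply h1
    rw [← Cfsg.Agent.Lib.Helper83.irrMult_cast hA η, ← hm, h, Nat.cast_zero]
  have hηN : IsCharacter N (fun n : N => (η : M → ℂ) ⟨n, hNM n.2⟩) :=
    Cfsg.Agent.Lib.Helper83.isCharacter_comp_hom (Subgroup.inclusion hNM)
      (Cfsg.Agent.Lib.Helper83.isCharacter_of_irr η.2)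
  have hA'N : IsCharacter N (fun n : N => A' ⟨n, hNM n.2⟩) :=
    Cfsg.Agent.Lib.Helper83.isCharacter_comp_hom (Subgroup.inclusion hNM) hA'c
  have hθc : IsCharacter N (θ : N → ℂ) := Cfsg.Agent.Lib.Helper83.isCharacter_of_irr θ.2
  obtain ⟨a, ha⟩ := Cfsg.Agent.Lib.Helper83.classInner_char_nat hηN hθc
  obtain ⟨b, hb⟩ := Cfsg.Agent.Lib.Helper83.classInner_char_nat hA'N hθc
  have ha0 : a ≠ 0 := by
    intro h
    apply h2
    rw [ha, h, Nat.cast_zero]
  have hsplit : (fun n : N => (χ : G → ℂ) ⟨n, hMG (hNM n.2)⟩) =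
      (m : ℂ) • (fun n : N => (η : M → ℂ) ⟨n, hNM n.2⟩) + fun n : N => A' ⟨n, hNM n.2⟩ := by
    funext n
    have := congrFun hA' ⟨n, hNM n.2⟩
    simpa using this
  rw [hsplit, Cfsg.Agent.Lib.Helper83.classInner_add_left,
    Cfsg.Agent.Lib.Helper83.classInner_smul_left, ha, hb]
  have : 0 < m * a + b := by positivity
  exact_mod_cast this.ne'

variable [Fintype Γ]

/-- Abelian-quotient case, inside `Γ`. -/
theorem core_sub (G S N : Subgroup Γ) [Fintype G] [Fintype N]
    (hnorm : ∀ s ∈ S, ∀ g ∈ G, s * g * s⁻¹ ∈ G) (hNG : N ≤ G)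
    (hNn : (N.subgroupOf G).Normal) (hNS : ∀ s ∈ S, ∀ n ∈ N, s * n * s⁻¹ ∈ N)
    (hcop : (N.relIndex G).Coprime (Nat.card S))
    (hab : ∀ x ∈ G, ∀ y ∈ G, x * y * x⁻¹ * y⁻¹ ∈ N) (θ : Cfsg.IrrCharacter N)
    (hinv : ∀ s ∈ S, ∀ g g' : N, (g' : Γ) = s * g * s⁻¹ → (θ : N → ℂ) g' = (θ : N → ℂ) g) :
    ∃ χ : Cfsg.IrrCharacter G,
      Cfsg.classInner (fun n : N => (χ : G → ℂ) ⟨n, hNG n.2⟩) (θ : N → ℂ) ≠ 0 ∧
      (∀ s ∈ S, ∀ g g' : G, (g' : Γ) = s * g * s⁻¹ → (χ : G → ℂ) g' = (χ : G → ℂ) g) := by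
  classical
  have hSG : S ≤ Subgroup.normalizer (G : Set Γ) := by
    intro s hs
    apply mem_normalizer_of_conj_mem (hnorm s hs)
    intro g hg
    have := hnorm s⁻¹ (S.inv_mem hs) g hg
    rwa [inv_inv] at this
  set act : S →* MulAut G := (normConj G).comp (Subgroup.inclusion hSG) with hact
  have hactv : ∀ (s : S) (g : G), ((act s g : G) : Γ) = (s : Γ) * g * (s : Γ)⁻¹ := fun s g => rfl
  let e : N.subgroupOf G ≃* N := Subgroup.subgroupOfEquivOfLe hNG
  have : Fintype (N.subgroupOf G) := Fintype.ofFinite _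
  have hcomp : ∀ (a b : N → ℂ), classInner (fun x : N.subgroupOf G => a (e x))
      (fun x : N.subgroupOf G => b (e x)) = classInner a b := by
    intro a b
    rw [classInner, classInner, Nat.card_congr e.toEquiv]
    congr 1
    exact Equiv.sum_comp e.toEquiv (fun k => a k * (starRingEnd ℂ) (b k))
  obtain ⟨χ, hχ1, hχ2⟩ := exists_invariant_above_of_abelian (N.subgroupOf G) act
    (by
      intro s n hn
      rw [Subgroup.mem_subgroupOf] at hn ⊢
      rw [hactv]
      exact hNS s s.2 n hn)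
    (by
      intro x y
      rw [Subgroup.mem_subgroupOf]
      exact hab x x.2 y y.2)
    hcop (fun x => (θ : N → ℂ) (e x))
    (Cfsg.Agent.Lib.Helper84.isIrrCharacter_comp_mulEquiv e θ.2)
    (by
      intro s n m h
      apply hinv s s.2 (e n) (e m)
      have : ((m : G) : Γ) = ((act s n : G) : Γ) := by rw [h]
      rw [hactv] at this
      exact this)
  refine ⟨χ, ?_, ?_⟩
  · have hres : (fun n : N.subgroupOf G => (χ : G → ℂ) n) =
        fun x => (fun n : N => (χ : G → ℂ) ⟨n, hNG n.2⟩) (e x) := by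
      funext x
      rfl
    rw [hres] at hχ1
    rw [← hcomp (fun n : N => (χ : G → ℂ) ⟨n, hNG n.2⟩) (θ : N → ℂ)]
    exact hχ1
  · intro s hs g g' hg'
    have : g' = act ⟨s, hs⟩ g := by
      apply Subtype.ext
      rw [hg', hactv]
    rw [this, hχ2]

omit [Fintype Γ] in
/-- Conjugation by an element normalising `G` and `N` stabilises `N ⊔ ⁅G, G⁆`. -/
theorem conj_mem_sup_commutator (G N : Subgroup Γ) (x : Γ) (hG : ∀ g ∈ G, x * g * x⁻¹ ∈ G)
    (hN : ∀ n ∈ N, x * n * x⁻¹ ∈ N) : ∀ m ∈ N ⊔ ⁅G, G⁆, x * m * x⁻¹ ∈ N ⊔ ⁅G, G⁆ := by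
  intro m hm
  have h : (N ⊔ ⁅G, G⁆).map (MulAut.conj x).toMonoidHom ≤ N ⊔ ⁅G, G⁆ := by
    rw [Subgroup.map_sup, Subgroup.map_commutator]
    apply sup_le_sup
    · rintro _ ⟨n, hn, rfl⟩
      exact hN n hn
    · apply Subgroup.commutator_mono
      · rintro _ ⟨g, hg, rfl⟩
        exact hG g hg
      · rintro _ ⟨g, hg, rfl⟩
        exact hG g hg
  exact h ⟨m, hm, rfl⟩

/-- The general case, by induction on the index. -/
theorem aux (S : Subgroup Γ) (n : ℕ) : ∀ (G N : Subgroup Γ) [Fintype G] [Fintype N]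
    (_hnorm : ∀ s ∈ S, ∀ g ∈ G, s * g * s⁻¹ ∈ G) (hNG : N ≤ G)
    (hNn : (N.subgroupOf G).Normal) (_hNS : ∀ s ∈ S, ∀ n ∈ N, s * n * s⁻¹ ∈ N)
    (_hrel : N.relIndex G = n) (_hcop : (N.relIndex G).Coprime (Nat.card S))
    (_hsolv : Group.IsSolvable (G ⧸ N.subgroupOf G)) (θ : Cfsg.IrrCharacter N)
    (_hinv : ∀ s ∈ S, ∀ g g' : N, (g' : Γ) = s * g * s⁻¹ → (θ : N → ℂ) g' = (θ : N → ℂ) g),
    ∃ χ : Cfsg.IrrCharacter G,
      Cfsg.classInner (fun n : N => (χ : G → ℂ) ⟨n, hNG n.2⟩) (θ : N → ℂ) ≠ 0 ∧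
      (∀ s ∈ S, ∀ g g' : G, (g' : Γ) = s * g * s⁻¹ → (χ : G → ℂ) g' = (χ : G → ℂ) g) := by
  induction n using Nat.strong_induction_on with
  | _ n ih =>
  intro G N _ _ hnorm hNG hNn hNS hrel hcop hsolv θ hinv
  by_cases hab : ∀ x ∈ G, ∀ y ∈ G, x * y * x⁻¹ * y⁻¹ ∈ N
  · exact core_sub G S N hnorm hNG hNn hNS hcop hab θ hinv
  · set M : Subgroup Γ := N ⊔ ⁅G, G⁆ with hM
    have hGG : ⁅G, G⁆ ≤ G := by
      rw [Subgroup.commutator_le]
      intro g₁ h₁ g₂ h₂
      rw [commutatorElement_def]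
      exact G.mul_mem (G.mul_mem (G.mul_mem h₁ h₂) (G.inv_mem h₁)) (G.inv_mem h₂)
    have hNM : N ≤ M := le_sup_left
    have hMG : M ≤ G := sup_le hNG hGG
    have hGconj : ∀ g ∈ G, ∀ n ∈ N, g * n * g⁻¹ ∈ N := by
      intro g hg n hn
      have := hNn.conj_mem ⟨n, hNG hn⟩ (Subgroup.mem_subgroupOf.mpr hn) ⟨g, hg⟩
      exact Subgroup.mem_subgroupOf.mp this
    have hMS : ∀ s ∈ S, ∀ m ∈ M, s * m * s⁻¹ ∈ M := fun s hs =>
      conj_mem_sup_commutator G N s (hnorm s hs) (hNS s hs)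
    have hMGc : ∀ g ∈ G, ∀ m ∈ M, g * m * g⁻¹ ∈ M := fun g hg =>
      conj_mem_sup_commutator G N g
        (fun g' hg' => G.mul_mem (G.mul_mem hg hg') (G.inv_mem hg)) (hGconj g hg)
    have hNnM : (N.subgroupOf M).Normal := by
      constructor
      intro n hn m
      rw [Subgroup.mem_subgroupOf] at hn ⊢
      exact hGconj m (hMG m.2) n hn
    have hMnG : (M.subgroupOf G).Normal := by
      constructor
      intro m hm g
      rw [Subgroup.mem_subgroupOf] at hm ⊢
      exact hMGc g g.2 m hm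
    -- `M ≠ G`
    have hMneG : ¬ G ≤ M := by
      intro hGM
      apply hab
      have hQ : commutator (G ⧸ N.subgroupOf G) = ⊤ := by
        set T : Subgroup Γ :=
          ((commutator (G ⧸ N.subgroupOf G)).comap (QuotientGroup.mk' (N.subgroupOf G))).map
            G.subtype with hT
        have hNT : N ≤ T := by
          intro n hn
          refine ⟨⟨n, hNG hn⟩, ?_, rfl⟩
          rw [SetLike.mem_coe, Subgroup.mem_comap, QuotientGroup.mk'_apply,
            (QuotientGroup.eq_one_iff _).mpr (Subgroup.mem_subgroupOf.mpr hn)]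
          exact Subgroup.one_mem _
        have hCT : ⁅G, G⁆ ≤ T := by
          rw [Subgroup.commutator_le]
          intro g₁ h₁ g₂ h₂
          refine ⟨⁅(⟨g₁, h₁⟩ : G), ⟨g₂, h₂⟩⁆, ?_, rfl⟩
          rw [SetLike.mem_coe, Subgroup.mem_comap, map_commutatorElement]
          exact Subgroup.commutator_mem_commutator (Subgroup.mem_top _) (Subgroup.mem_top _)
        have hGT : G ≤ T := hGM.trans (sup_le hNT hCT)
        rw [eq_top_iff]
        rintro q -
        induction q using QuotientGroup.induction_on with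
        | H g =>
          obtain ⟨g', hg', hgg'⟩ := hGT g.2
          have : g' = g := Subtype.ext hgg'
          rw [this] at hg'
          exact hg'
      by_cases hnt : Nontrivial (G ⧸ N.subgroupOf G)
      · exact absurd hQ (Group.IsSolvable.commutator_lt_top_of_nontrivial _).ne
      · rw [not_nontrivial_iff_subsingleton] at hnt
        have hxN : ∀ g : G, (g : Γ) ∈ N := by
          intro g
          have h1 : (QuotientGroup.mk g : G ⧸ N.subgroupOf G) = 1 := Subsingleton.elim _ _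
          rw [QuotientGroup.eq_one_iff] at h1
          exact Subgroup.mem_subgroupOf.mp h1
        intro x hx y hy
        exact hxN ⟨x * y * x⁻¹ * y⁻¹,
          G.mul_mem (G.mul_mem (G.mul_mem hx hy) (G.inv_mem hx)) (G.inv_mem hy)⟩
    have hmul : N.relIndex M * M.relIndex G = N.relIndex G :=
      Subgroup.relIndex_mul_relIndex N M G hNM hMG
    have hMG1 : M.relIndex G ≠ 1 := by
      rw [Ne, Subgroup.relIndex_eq_one]
      exact hMneG
    have hn0 : N.relIndex G ≠ 0 := by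
      unfold Subgroup.relIndex
      exact Subgroup.index_ne_zero_of_finite
    have hlt : N.relIndex M < n := by
      rw [← hrel, ← hmul]
      have h1 : N.relIndex M ≠ 0 := fun h => hn0 (by rw [← hmul, h, zero_mul])
      have h2 : M.relIndex G ≠ 0 := fun h => hn0 (by rw [← hmul, h, mul_zero])
      have h3 : 2 ≤ M.relIndex G := by omega
      nlinarith [Nat.pos_of_ne_zero h1]
    have hcopM : (N.relIndex M).Coprime (Nat.card S) :=
      Nat.Coprime.coprime_dvd_left (Dvd.intro _ hmul) hcop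
    have hcopMG : (M.relIndex G).Coprime (Nat.card S) :=
      Nat.Coprime.coprime_dvd_left (Dvd.intro_left _ hmul) hcop
    have hsolvM : Group.IsSolvable (M ⧸ N.subgroupOf M) := by
      let f : (M ⧸ N.subgroupOf M) →* (G ⧸ N.subgroupOf G) :=
        QuotientGroup.map _ _ (Subgroup.inclusion hMG) (by
          intro m hm
          exact hm)
      have hf : Function.Injective f := by
        rw [injective_iff_map_eq_one]
        intro q hq
        induction q using QuotientGroup.induction_on with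
        | H m =>
          rw [show f (m : M ⧸ N.subgroupOf M) =
            ((Subgroup.inclusion hMG m : G) : G ⧸ N.subgroupOf G) from rfl,
            QuotientGroup.eq_one_iff] at hq
          rw [QuotientGroup.eq_one_iff]
          exact hq
      exact Group.isSolvable_of_isSolvable_injective hf
    have : Fintype M := Fintype.ofFinite _
    obtain ⟨η, hη1, hη2⟩ := ih (N.relIndex M) hlt M N hMS hNM hNnM hNS rfl hcopM hsolvM θ hinv
    have hab' : ∀ x ∈ G, ∀ y ∈ G, x * y * x⁻¹ * y⁻¹ ∈ M := by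
      intro x hx y hy
      apply le_sup_right (a := N)
      have := Subgroup.commutator_mem_commutator hx hy
      rwa [commutatorElement_def] at this
    obtain ⟨χ, hχ1, hχ2⟩ := core_sub G S M hnorm hMG hMnG hMS hcopMG hab' η hη2
    exact ⟨χ, over_trans G M N hMG hNM χ η θ hχ1 hη1, hχ2⟩

end Aux

/-- Inside a finite group Γ let S normalise G and also normalise a normal subgroup N of G, with the order of S coprime to the index of N in G and G/N solvable. Then for every S-invariant irreducible character ϑ of N, the induced character ϑ^G has an S-invariant irreducible constituent. -/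
theorem result {Γ : Type*} [Group Γ] [Fintype Γ] (G S N : Subgroup Γ) [Fintype G] [Fintype N] (hnorm : ∀ s ∈ S, ∀ g ∈ G, s * g * s⁻¹ ∈ G) (hNG : N ≤ G) [hNn : (N.subgroupOf G).Normal] (hNS : ∀ s ∈ S, ∀ n ∈ N, s * n * s⁻¹ ∈ N) (hcop : (N.relIndex G).Coprime (Nat.card S)) (hsolv : Group.IsSolvable (G ⧸ N.subgroupOf G)) (θ : Cfsg.IrrCharacter N) (hinv : (∀ s ∈ S, ∀ g g' : N, (g' : Γ) = s * g * s⁻¹ → (θ : N → ℂ) g' = (θ : N → ℂ) g)) : ∃ χ : Cfsg.IrrCharacter G, Cfsg.classInner (fun n : N => (χ : G → ℂ) ⟨n, hNG n.2⟩) (θ : N → ℂ) ≠ 0 ∧ (∀ s ∈ S, ∀ g g' : G, (g' : Γ) = s * g * s⁻¹ → (χ : G → ℂ) g' = (χ : G → ℂ) g) :=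
  aux S _ G N hnorm hNG hNn hNS rfl hcop hsolv θ hinv

end Cfsg.Agent.S4448
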