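import Cfsg.Statements.S4659
import Cfsg.Agent.Lib.Helper81.BPMax
import Cfsg.Agent.Lib.Helper21.BrauerCorr

set_option autoImplicit false
open Cfsg
open Cfsg.Agent.Lib.Helper81 Cfsg.Agent.Lib.Helper82 Cfsg.Agent.Lib.Helper83

namespace Cfsg.Agent.S4659

/-- Fix a prime p and a maximal ideal M of the algebraic integers containing p. If (P, e) is a maximal Brauer pair of the p-block B of the finite group G, then P is a defect group of B. -/
theorem result {G : Type*} [Group G] [Fintype G] (p : ℕ) [Fact p.Prime] (M : Ideal Cfsg.AlgInt) (hM : Cfsg.IsPModular p M) (B : Set (Cfsg.IrrCharacter G)) (P : Subgroup G) (e : Set (Cfsg.IrrCharacter (Subgroup.centralizer (P : Set G)))) (hmax : Cfsg.IsMaximalBrauerPair p M B P e) : Cfsg.IsDefectGroup p M B P := by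
  classical
  have : Finite (IrrCharacter G) := irr_finite
  have : Fintype (IrrCharacter G) := Fintype.ofFinite _
  have : Fintype (Subgroup.centralizer (P : Set G)) := Fintype.ofFinite _
  have : Finite (IrrCharacter (Subgroup.centralizer (P : Set G))) := irr_finite
  have : Fintype (IrrCharacter (Subgroup.centralizer (P : Set G))) := Fintype.ofFinite _
  have : Fintype (Subgroup.normalizer (P : Set G)) := Fintype.ofFinite _
  have : Finite (IrrCharacter (Subgroup.normalizer (P : Set G))) := irr_finite
  have : Fintype (IrrCharacter (Subgroup.normalizer (P : Set G))) := Fintype.ofFinite _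
  have hprime : M.IsPrime := hM.2.1.isPrime
  obtain ⟨⟨hP, he⟩, hB, hbr⟩ := id hmax.1
  obtain ⟨b', hb', hb'c⟩ := exists_block_orbitSum hM hP Subgroup.le_normalizer
    (Subgroup.centralizer_le_normalizer _) le_rfl he (H := Subgroup.normalizer (P : Set G))
  have hind := isInducedBlock_orbitBlock hM hmax.1 hb' hb'c
  have hdef := isDefectGroup_orbitBlock hM hmax hb' hb'c
  obtain ⟨B'', hB'', hdefB'', hind''⟩ := (Cfsg.Agent.S0920.result p M hM P hP).1 b' hb' hdef
  have hBB : B'' = B :=
    Cfsg.Agent.Lib.Helper21.isInducedBlock_unique hprime _ hind'' hind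
  rw [← hBB]
  exact hdefB''

end Cfsg.Agent.S4659
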