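import Cfsg.Statements.S4654
import Cfsg.Agent.Lib.Helper81.BPStab

set_option autoImplicit false
open Cfsg
open Cfsg.Agent.Lib.Helper81 Cfsg.Agent.Lib.Helper82 Cfsg.Agent.Lib.Helper83

namespace Cfsg.Agent.S4654

/-- Fix a prime p and a maximal ideal M of the algebraic integers containing p. Let P be a normal p-subgroup of the finite group G, B a p-block of G and e a p-block of C_G(P) such that (P, e) is a Brauer pair of B (as P is normal, this says that e occurs in the idempotent of B, which is supported on C_G(P)). Let T be the stabilizer of e in G under conjugation. Then the idempotent of e is a block idempotent of T: some block E of T has, at every element of T, the same idempotent coefficient as e (zero off C_G(P)); and the idempotent of B is the sum of the distinct G-conjugates of the idempotent of e: its coefficient at g is the sum over all x in G of the coefficient of e at x⁻¹ g x, divided by the order of T. -/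
theorem result {G : Type*} [Group G] [Fintype G] (p : ℕ) [Fact p.Prime] (M : Ideal Cfsg.AlgInt) (hM : Cfsg.IsPModular p M) (P : Subgroup G) [P.Normal] (hP : IsPGroup p P) (B : Set (Cfsg.IrrCharacter G)) (e : Set (Cfsg.IrrCharacter (Subgroup.centralizer (P : Set G)))) (hBe : Cfsg.IsBrauerPairOf p M B P e) (T : Subgroup G) (hT : ∀ x : G, x ∈ T ↔ Cfsg.StabilizesBlock (Subgroup.centralizer (P : Set G)) e x) : (∃ E : Set (Cfsg.IrrCharacter T), Cfsg.IsPBlock M E ∧ ∀ t : T, Cfsg.blockCoeff E t = Cfsg.subgroupBlockCoeff (Subgroup.centralizer (P : Set G)) e (t : G)) ∧ ∀ g : G, Cfsg.blockCoeff B g = (Nat.card T : ℂ)⁻¹ * ∑ x : G, Cfsg.subgroupBlockCoeff (Subgroup.centralizer (P : Set G)) e (x⁻¹ * g * x) := by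
  classical
  have : Finite (IrrCharacter G) := irr_finite
  have : Fintype (IrrCharacter G) := Fintype.ofFinite _
  have : Fintype (Subgroup.centralizer (P : Set G)) := Fintype.ofFinite _
  have : Finite (IrrCharacter (Subgroup.centralizer (P : Set G))) := irr_finite
  have : Fintype (IrrCharacter (Subgroup.centralizer (P : Set G))) := Fintype.ofFinite _
  have : Fintype T := Fintype.ofFinite _
  have : Finite (IrrCharacter T) := irr_finite
  have : Fintype (IrrCharacter T) := Fintype.ofFinite _
  have : Fintype (⊤ : Subgroup G) := Fintype.ofFinite _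
  have : Finite (IrrCharacter (⊤ : Subgroup G)) := irr_finite
  have : Fintype (IrrCharacter (⊤ : Subgroup G)) := Fintype.ofFinite _
  have hprime : M.IsPrime := hM.2.1.isPrime
  obtain ⟨⟨-, he⟩, hB, hbr⟩ := hBe
  have hNtop : Subgroup.normalizer (P : Set G) = ⊤ := Subgroup.normalizer_eq_top P
  set ε : G → ℂ := subgroupBlockCoeff (Subgroup.centralizer (P : Set G)) e with hε
  have hPT : P ≤ T := fun u hu => (hT u).2 (stabilizesBlock_of_mem hprime he hu)
  have hCT : Subgroup.centralizer (P : Set G) ≤ T :=
    fun c hc => (hT c).2 (stabilizesBlock_of_mem_centralizer hprime he hc)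
  have hTfix : ∀ x, x ∈ T ↔ conjF x ε = ε := by
    intro x
    rw [hT x, stabilizesBlock_iff_conjF _ hprime he]
    constructor
    · exact fun h => h.2
    · intro h
      refine ⟨?_, h⟩
      apply normalizer_le_normalizer_centralizer P
      rw [hNtop]; exact Subgroup.mem_top x
  constructor
  · obtain ⟨E, hE, hEc⟩ := exists_block_orbitSum hM hP hPT hCT
      (by rw [hNtop]; exact le_top) he (H := T)
    refine ⟨E, hE, fun t => ?_⟩
    rw [hEc t, orbitSum_eq_self (fun x hx => (hTfix x).1 hx)]
  · obtain ⟨b', hb', hb'c⟩ := exists_block_orbitSum hM hP le_top le_top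
      (by rw [hNtop]) he (H := (⊤ : Subgroup G))
    set s : G → ℂ := orbitSum (⊤ : Subgroup G) ε with hs
    -- the formula for the orbit sum
    have hsum : ∀ g, ∑ x : G, ε (x⁻¹ * g * x) = (Nat.card T : ℂ) * s g := by
      intro g
      have h1 := sum_conjF_eq (⊤ : Subgroup G) ε
      have h2 := congrFun h1 g
      rw [Finset.sum_apply, Pi.smul_apply, nsmul_eq_mul] at h2
      have h3 : ∑ x : (⊤ : Subgroup G), conjF (x : G) ε g = ∑ x : G, ε (x⁻¹ * g * x) :=
        Fintype.sum_equiv Subgroup.topEquiv.toEquiv _ _ (fun x => rfl)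
      have h4 : (Finset.univ.filter (fun x : (⊤ : Subgroup G) => conjF (x : G) ε = ε)).card
          = Nat.card T := by
        rw [← Fintype.card_subtype, Nat.card_eq_fintype_card]
        apply Fintype.card_congr
        exact
          { toFun := fun x => ⟨((x.1 : (⊤ : Subgroup G)) : G), (hTfix _).2 x.2⟩
            invFun := fun t => ⟨⟨(t : G), Subgroup.mem_top _⟩, (hTfix _).1 t.2⟩
            left_inv := fun x => rfl
            right_inv := fun t => rfl }
      rw [← h3, h2, h4]
    -- the block `b'` is `B`
    obtain ⟨χ₀, hχ₀⟩ := id hB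
    set φ : (⊤ : Subgroup G) ≃* G := Subgroup.topEquiv with hφ
    set Bt : Set (IrrCharacter (⊤ : Subgroup G)) := blockOf M (irrComp φ χ₀ : (⊤ : Subgroup G) → ℂ)
      with hBt
    have hBtc : ∀ h : (⊤ : Subgroup G), blockCoeff Bt h = blockCoeff B (h : G) := by
      intro h
      rw [hBt, blockCoeff_blockOf_irrComp M φ χ₀ h, hχ₀]
      rfl
    have hbeq : b' = Bt := by
      by_contra hne
      have h0 := conv_blockCoeff_of_ne hprime hb' ⟨_, rfl⟩ hne
      have e1 : ext0 (⊤ : Subgroup G) (blockCoeff b') = s := by
        funext g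
        rw [ext0_of_mem _ _ (Subgroup.mem_top g), hb'c]
      have e2 : ext0 (⊤ : Subgroup G) (blockCoeff Bt) = blockCoeff B := by
        funext g
        rw [ext0_of_mem _ _ (Subgroup.mem_top g), hBtc]
      have h1 : Cfsg.Agent.Lib.Helper21.conv s (blockCoeff B) = 0 := by
        rw [← e1, ← e2]
        have := gconv_ext0 (⊤ : Subgroup G) (blockCoeff b') (blockCoeff Bt)
        rw [show Cfsg.Agent.Lib.Helper21.conv (ext0 (⊤ : Subgroup G) (blockCoeff b'))
            (ext0 (⊤ : Subgroup G) (blockCoeff Bt))
          = gconv (ext0 (⊤ : Subgroup G) (blockCoeff b')) (ext0 (⊤ : Subgroup G) (blockCoeff Bt))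
          from rfl, this,
          show gconv (blockCoeff b') (blockCoeff Bt)
            = Cfsg.Agent.Lib.Helper21.conv (blockCoeff b') (blockCoeff Bt) from rfl, h0]
        funext g
        rw [ext0_of_mem _ _ (Subgroup.mem_top g)]; rfl
      obtain ⟨ξ₀, hξ₀⟩ := IsPBlock.nonempty hprime he
      have hNle : (⊤ : Subgroup G) ≤ Subgroup.normalizer (P : Set G) := by rw [hNtop]
      have hBR : ∀ g, MemLocalRing M (blockCoeff B g) := fun g =>
        hχ₀ ▸ Cfsg.Agent.Lib.Helper21.memLocalRing_blockCoeff_blockOf hprime χ₀ g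
      have hBcls := Cfsg.Agent.Lib.Helper21.blockCoeff_isClassFunction B
      have hmul := omega_rs_conv hM P hP ((orbitSum_conjInv (⊤ : Subgroup G) ε).mono le_top)
        (conjInv_of_isClassFunction _ hBcls) (orbitSum_conjInv_centralizer hNle he)
        (conjInv_of_isClassFunction _ hBcls) (orbitSum_memLocalRing hprime hNle he) hBR ξ₀
      rw [← hs, h1] at hmul
      have h00 : Cfsg.Agent.Lib.Helper21.omega
          (rs (Subgroup.centralizer (P : Set G)) (0 : G → ℂ))
          (ξ₀ : Subgroup.centralizer (P : Set G) → ℂ) = 0 := by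
        have : rs (Subgroup.centralizer (P : Set G)) (0 : G → ℂ) = 0 := rfl
        rw [this, Cfsg.Agent.Lib.Helper21.omega_zero]
      rw [h00, hs, omega_orbitSum hprime hNle he,
        if_pos ⟨e, he, hξ₀, self_mem_orbitIdems _ ε⟩, one_mul, zero_sub] at hmul
      have h2 := hbr ξ₀ hξ₀
      rw [brauerOmega_eq_omega_rs] at h2
      have h3 := memLocalIdeal_add hprime hmul h2
      have h4 : -Cfsg.Agent.Lib.Helper21.omega
          (rs (Subgroup.centralizer (P : Set G)) (blockCoeff B))
          (ξ₀ : Subgroup.centralizer (P : Set G) → ℂ) +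
          (Cfsg.Agent.Lib.Helper21.omega
          (rs (Subgroup.centralizer (P : Set G)) (blockCoeff B))
          (ξ₀ : Subgroup.centralizer (P : Set G) → ℂ) - 1) = -1 := by ring
      rw [h4] at h3
      have h5 := memLocalIdeal_neg h3
      rw [neg_neg] at h5
      exact not_memLocalIdeal_one hprime h5
    intro g
    have hTpos : (Nat.card T : ℂ) ≠ 0 := by
      have : 0 < Nat.card T := Nat.card_pos
      exact_mod_cast this.ne'
    rw [hsum g, ← mul_assoc, inv_mul_cancel₀ hTpos, one_mul]
    have := hb'c ⟨g, Subgroup.mem_top g⟩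
    rw [hbeq, hBtc] at this
    exact this

end Cfsg.Agent.S4654
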