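import Cfsg.Statements.S0969
import Cfsg.Agent.Lib.Helper79.CentralDefect
import Cfsg.Agent.Lib.Helper79.DefectSep
import Cfsg.Agent.Lib.Helper21.OsimaApps
import Cfsg.Agent.S4426
import Cfsg.Agent.S0908

set_option autoImplicit false
open Cfsg

namespace Cfsg.Agent.S0969

/-- Let D be a central p-subgroup of the finite group G and χ an irreducible character with the exponent of p in χ(1) equal to the exponent of p in the index of D; fix a maximal ideal M of the algebraic integers containing p. Then D is a defect group of the block of χ, and χ g = 0 whenever the p-part of g does not lie in D. -/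
theorem result {G : Type*} [Group G] [Finite G] (p : ℕ) [Fact p.Prime] (M : Ideal Cfsg.AlgInt) (hM : Cfsg.IsPModular p M) (D : Subgroup G) (hD : IsPGroup p D) (hDZ : D ≤ Subgroup.center G) (χ : Cfsg.IrrCharacter G) (hdeg : (Cfsg.charDegree (χ : G → ℂ)).factorization p = D.index.factorization p) : Cfsg.IsDefectGroup p M (Cfsg.blockOf M (χ : G → ℂ)) D ∧ ∀ g x : G, Cfsg.IsPPart p g x → x ∉ D → (χ : G → ℂ) g = 0 := by
  classical
  let _ : Fintype G := Fintype.ofFinite G
  let _ : Fintype (IrrCharacter G) := Fintype.ofFinite _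
  have hp : p.Prime := Fact.out
  have hMp : M.IsPrime := hM.2.1.isPrime
  set a := (Nat.card G).factorization p with ha
  obtain ⟨d₀, hd₀⟩ := IsPGroup.iff_card.1 hD
  have hidx : Nat.card D * D.index = Nat.card G := Subgroup.card_mul_index D
  have hidx0 : D.index ≠ 0 := Subgroup.index_ne_zero_of_finite
  have haeq : a = d₀ + D.index.factorization p := by
    rw [ha, ← hidx, hd₀, Nat.factorization_mul (pow_ne_zero _ hp.ne_zero) hidx0,
      Finsupp.add_apply, Nat.Prime.factorization_pow hp, Finsupp.single_eq_same]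
  have hcard : Nat.card D =
      p ^ ((Nat.card G).factorization p - (charDegree (χ : G → ℂ)).factorization p) := by
    rw [hdeg, ← ha, haeq, Nat.add_sub_cancel, hd₀]
  constructor
  · set B := blockOf M (χ : G → ℂ) with hBdef
    have hB : IsPBlock M B := Cfsg.Agent.Lib.Helper82.isPBlock_blockOf χ
    have hχB : χ ∈ B := Cfsg.Agent.Lib.Helper82.mem_blockOf_self hMp χ
    have hEq := Cfsg.Agent.Lib.Helper79.card_mul_regNormSq_eq D hD hDZ χ hcard
    have hG0 : (Nat.card G : ℂ) ≠ 0 := Nat.cast_ne_zero.2 Nat.card_pos.ne'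
    have hinner : classInner (fun x : G => if p ∣ orderOf x then (0 : ℂ) else
        ((p ^ (Nat.card G).factorization p : ℕ) : ℂ) * (χ : G → ℂ) x) (χ : G → ℂ) =
        (((p ^ (a - d₀) : ℕ) : ℤ) : ℂ) := by
      have h1 : classInner (fun x : G => if p ∣ orderOf x then (0 : ℂ) else
          ((p ^ (Nat.card G).factorization p : ℕ) : ℂ) * (χ : G → ℂ) x) (χ : G → ℂ) =
          ((p : ℂ) ^ a) * classInner (pRegularPart p (χ : G → ℂ)) (χ : G → ℂ) := by
        rw [Cfsg.Agent.Lib.Helper82.classInner_pRegularPart_left,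
          Cfsg.Agent.Lib.Helper83.classInner_def]
        have h3 : (p : ℂ) ^ a * ((Nat.card G : ℂ)⁻¹ * ∑ x : G,
            (if p ∣ orderOf x then 0 else (χ : G → ℂ) x * (starRingEnd ℂ) ((χ : G → ℂ) x))) =
            (Nat.card G : ℂ)⁻¹ * ∑ x : G, (p : ℂ) ^ a *
            (if p ∣ orderOf x then 0 else (χ : G → ℂ) x * (starRingEnd ℂ) ((χ : G → ℂ) x)) := by
          rw [← Finset.mul_sum]
          ring
        rw [h3]
        refine congrArg _ (Finset.sum_congr rfl fun x _ => ?_)
        split_ifs
        · simp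
        · push_cast
          ring
      rw [h1, Cfsg.Agent.Lib.Helper79.classInner_pRegularPart_self]
      have hDC : ((Nat.card D : ℝ) : ℂ) * ((Cfsg.Agent.Lib.Helper79.regNormSq p (χ : G → ℂ) : ℝ) : ℂ)
          = ((Nat.card G : ℝ) : ℂ) := by exact_mod_cast hEq
      have hDd : ((Nat.card D : ℝ) : ℂ) = (p : ℂ) ^ d₀ := by
        rw [hd₀]; push_cast; rfl
      have hpa : (p : ℂ) ^ a = (p : ℂ) ^ (a - d₀) * (p : ℂ) ^ d₀ := by
        rw [← pow_add, Nat.sub_add_cancel (by omega)]
      have hp0 : (p : ℂ) ≠ 0 := Nat.cast_ne_zero.2 hp.ne_zero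
      have hGR : ((Nat.card G : ℝ) : ℂ) = (Nat.card G : ℂ) := by push_cast; rfl
      rw [hDd, hGR] at hDC
      have h5 : (p : ℂ) ^ d₀ * (((Cfsg.Agent.Lib.Helper79.regNormSq p (χ : G → ℂ) : ℝ) : ℂ) /
          (Nat.card G : ℂ)) = 1 := by
        rw [← mul_div_assoc, hDC, div_self hG0]
      push_cast
      rw [hpa, mul_assoc, h5, mul_one]
    have hheight : blockHeight p B (χ : G → ℂ) = 0 := by
      refine (Cfsg.Agent.S4426.result p M hM B hB χ hχB).1.mpr
        ⟨χ, hχB, ((p ^ (a - d₀) : ℕ) : ℤ), hinner, ?_, ?_⟩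
      · exact_mod_cast (pow_pos hp.pos _).ne'
      · rw [padicValInt.of_nat, padicValNat.prime_pow, hdeg, haeq, Nat.add_sub_cancel_left]
    have hsum0 := Cfsg.Agent.Lib.Helper79.sInf_add_blockDefect (p := p) hMp hB
    have hle : sInf ((fun χ : IrrCharacter G => (charDegree (χ : G → ℂ)).factorization p) '' B) ≤
        (charDegree (χ : G → ℂ)).factorization p := Nat.sInf_le (Set.mem_image_of_mem _ hχB)
    have hdB : blockDefect p B = d₀ := by
      unfold blockHeight at hheight
      omega
    obtain ⟨g, hg⟩ := Cfsg.Agent.Lib.Helper21.exists_isDefectClass hMp χ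
    obtain ⟨P⟩ : Nonempty (Sylow p (Subgroup.centralizer ({g} : Set G))) := inferInstance
    refine ⟨g, hg, P, ?_⟩
    have hD'card := Cfsg.Agent.S0908.result p M hM B hB _ ⟨g, hg, P, rfl⟩
    have hDle : D ≤ (P : Subgroup (Subgroup.centralizer ({g} : Set G))).map
        (Subgroup.centralizer ({g} : Set G)).subtype := by
      intro z hz
      have hzc : z ∈ Subgroup.centralizer ({g} : Set G) := by
        rw [Subgroup.mem_centralizer_iff]
        intro h hh
        have := hDZ hz
        rw [Subgroup.mem_center_iff] at this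
        exact this h
      haveI : (D.subgroupOf (Subgroup.centralizer ({g} : Set G))).Normal := by
        constructor
        intro n hn c
        rw [Subgroup.mem_subgroupOf] at hn ⊢
        have hnc := hDZ hn
        rw [Subgroup.mem_center_iff] at hnc
        have : ((c * n * c⁻¹ : Subgroup.centralizer ({g} : Set G)) : G) = (n : G) := by
          push_cast
          rw [hnc (c : G), mul_assoc, mul_inv_cancel, mul_one]
        rw [this]
        exact hn
      have hpg : IsPGroup p (D.subgroupOf (Subgroup.centralizer ({g} : Set G))) :=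
        hD.comap_subtype
      have hle := hpg.le_sylow_of_normal P
      exact ⟨⟨z, hzc⟩, hle (by rw [Subgroup.mem_subgroupOf]; exact hz), rfl⟩
    refine Subgroup.eq_of_le_of_card_ge hDle ?_
    rw [hD'card, hdB, hd₀]
  · intro g x hgx hxD
    apply Cfsg.Agent.Lib.Helper79.eq_zero_of_not_mem_regImage D hD hDZ χ hcard
    rw [Cfsg.Agent.Lib.Helper79.mem_regImage]
    rintro ⟨z, hz, y', hy', hzy⟩
    obtain ⟨y, hxy, hcomm, ⟨k, hk⟩, hy⟩ := hgx
    apply hxD
    have hzc : ∀ h : G, h * z = z * h := by
      have := hDZ hz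
      rw [Subgroup.mem_center_iff] at this
      exact this
    set w : G := z⁻¹ * x with hw
    have hwy : w * y = y' := by
      rw [hw, mul_assoc, hxy, ← hzy, ← mul_assoc, inv_mul_cancel, one_mul]
    have hzx : Commute z⁻¹ x := by
      have : Commute z x := (hzc x).symm
      exact this.inv_left
    have hwcomm : Commute w y := by
      have h1 : Commute z⁻¹ y := by
        have : Commute z y := (hzc y).symm
        exact this.inv_left
      exact h1.mul_left hcomm
    obtain ⟨k', hk'⟩ := (IsPGroup.iff_orderOf.1 hD) ⟨z, hz⟩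
    have hk'' : orderOf z = p ^ k' := by
      rw [← hk']
      exact Subgroup.orderOf_coe (⟨z, hz⟩ : D)
    have hwpow : w ^ (p ^ (k + k')) = 1 := by
      rw [hw, hzx.mul_pow, inv_pow, pow_add, pow_mul', ← hk'', pow_orderOf_eq_one, one_pow,
        inv_one, one_mul, pow_mul, ← hk, pow_orderOf_eq_one, one_pow]
    obtain ⟨j, -, hj⟩ := (Nat.dvd_prime_pow hp).1 (orderOf_dvd_of_pow_eq_one hwpow)
    have hj0 : j = 0 := by
      by_contra hj0
      have hco : (orderOf w).Coprime (orderOf y) := by
        rw [hj]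
        exact Nat.Coprime.pow_left j ((Nat.Prime.coprime_iff_not_dvd hp).2 hy)
      have hord := hwcomm.orderOf_mul_eq_mul_orderOf_of_coprime hco
      rw [hwy, hj] at hord
      apply hy'
      rw [hord]
      exact dvd_mul_of_dvd_left (dvd_pow_self p hj0) _
    rw [hj0, pow_zero, orderOf_eq_one_iff] at hj
    have hxz : x = z := by
      rw [hw, inv_mul_eq_one] at hj
      exact hj.symm
    rw [hxz]
    exact hz


end Cfsg.Agent.S0969
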