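import Cfsg.Statements.S0968
-- import your own Cfsg.Agent.* helpers here
import Cfsg.Agent.Lib.Helper22.CentralProduct
import Cfsg.Agent.Lib.Helper22.CentralDefectCount
import Cfsg.Agent.Lib.Helper22.CentralDefectUnique

set_option autoImplicit false
open Cfsg

namespace Cfsg.Agent.S0968

open Cfsg.Agent.Lib.Helper22 Cfsg.Agent.Lib.Helper82

/-- Let P be a p-subgroup of the finite group G with P ⊔ C_G(P) = G, and let B be a block with defect group P relative to a maximal ideal M of the algebraic integers containing p. Then there is exactly one θ ∈ B with θ x = θ 1 for all x ∈ P; for this θ the exponent of p in θ(1) equals the exponent of p in the index of P; and the number of members of B equals the number of conjugacy classes of P. -/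
theorem result {G : Type*} [Group G] [Finite G] (p : ℕ) [Fact p.Prime] (M : Ideal Cfsg.AlgInt) (hM : Cfsg.IsPModular p M) (P : Subgroup G) (hP : IsPGroup p P) (hG : P ⊔ Subgroup.centralizer (P : Set G) = ⊤) (B : Set (Cfsg.IrrCharacter G)) (hB : Cfsg.IsPBlock M B) (hD : Cfsg.IsDefectGroup p M B P) : (∃! θ : Cfsg.IrrCharacter G, θ ∈ B ∧ ∀ x ∈ P, (θ : G → ℂ) x = (θ : G → ℂ) 1) ∧ (∀ θ ∈ B, (∀ x ∈ P, (θ : G → ℂ) x = (θ : G → ℂ) 1) → (Cfsg.charDegree (θ : G → ℂ)).factorization p = P.index.factorization p) ∧ Nat.card B = Nat.card (ConjClasses P) := by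
  classical
  have hprime : M.IsPrime := hM.2.1.isPrime
  have hN : P.Normal := normal_of_sup_centralizer_eq_top P hG
  have h2 : ∀ θ ∈ B, (∀ x ∈ P, (θ : G → ℂ) x = (θ : G → ℂ) 1) →
      (Cfsg.charDegree (θ : G → ℂ)).factorization p = P.index.factorization p :=
    fun θ hθ hker => factorization_charDegree_of_ker hM P hB hD θ hθ hker
  have huniq : ∀ θ₁ ∈ B, ∀ θ₂ ∈ B, (∀ x ∈ P, (θ₁ : G → ℂ) x = (θ₁ : G → ℂ) 1) →
      (∀ x ∈ P, (θ₂ : G → ℂ) x = (θ₂ : G → ℂ) 1) → θ₁ = θ₂ :=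
    fun θ₁ h₁ θ₂ h₂ hk₁ hk₂ => eq_of_ker_of_sup_centralizer hM P hP hG hB hD θ₁ θ₂ h₁ h₂ hk₁ hk₂
  obtain ⟨B₁, hB₁, hcard⟩ := card_block_eq_card_conjClasses_mul hM P hP hG hB hD
  have hBpos : 0 < Nat.card B := by
    obtain ⟨χ, hχ⟩ := IsPBlock.nonempty hprime hB
    have : Nonempty B := ⟨⟨χ, hχ⟩⟩
    exact Nat.card_pos
  have hB₁card : B₁.card = 1 := by
    apply le_antisymm
    · rw [Finset.card_le_one]
      intro a ha b hb
      exact huniq a (hB₁ a ha).1 b (hB₁ b hb).1 (hB₁ a ha).2 (hB₁ b hb).2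
    · by_contra h
      have h0 : B₁.card = 0 := by omega
      rw [h0, mul_zero] at hcard
      omega
  refine ⟨?_, h2, ?_⟩
  · obtain ⟨θ, hθ⟩ := Finset.card_eq_one.1 hB₁card
    have hmem : θ ∈ B₁ := by rw [hθ]; exact Finset.mem_singleton_self θ
    refine ⟨θ, hB₁ θ hmem, ?_⟩
    rintro θ' ⟨hθ'B, hθ'ker⟩
    exact huniq θ' hθ'B θ (hB₁ θ hmem).1 hθ'ker (hB₁ θ hmem).2
  · rw [hcard, hB₁card, mul_one]

end Cfsg.Agent.S0968
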