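import Cfsg.Statements.S4511
import Cfsg.Agent.Lib.Helper82.SubsectionBlocks

set_option autoImplicit false
set_option linter.style.haveILetI false
open Cfsg

namespace Cfsg.Agent.S4511

open Cfsg.Agent.Lib.Helper82 Cfsg.Agent.Lib.Helper83

/-- Brauer's count of the irreducible characters in a block by subsections. Let M be a maximal ideal of the algebraic integers containing the prime p, B a p-block of the finite group G, and X a set of representatives of the conjugacy classes of p-elements of G (elements of p-power order, the identity included: every p-element is conjugate to exactly one member of X). Then the number of irreducible characters in B is the sum, over x ∈ X and over the blocks b of C_G(x) that induce B, of the p-regular rank of b (the number of irreducible Brauer characters of b, here the dimension of the span of the restrictions of the members of b to the p-regular elements of C_G(x)). -/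
theorem result {G : Type*} [Group G] [Finite G] (p : ℕ) (M : Ideal Cfsg.AlgInt) (hM : Cfsg.IsPModular p M)
    (B : Set (Cfsg.IrrCharacter G)) (hB : Cfsg.IsPBlock M B) (X : Finset G)
    (hX : ∀ x ∈ X, ∃ k : ℕ, orderOf x = p ^ k)
    (hXrep : ∀ g : G, (∃ k : ℕ, orderOf g = p ^ k) → ∃! x, x ∈ X ∧ IsConj g x) :
    Nat.card B = ∑ x ∈ X, ∑ᶠ b ∈ {b : Set (Cfsg.IrrCharacter ↥(Subgroup.centralizer ({x} : Set G))) | Cfsg.IsInducedBlock M (Subgroup.centralizer ({x} : Set G)) b B},
      Cfsg.blockRank p b := by
  classical
  haveI : Fintype G := Fintype.ofFinite G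
  haveI : Fintype (IrrCharacter G) := Fintype.ofFinite _
  haveI : ∀ x : G, Fintype (Subgroup.centralizer ({x} : Set G)) := fun x => Fintype.ofFinite _
  haveI : ∀ x : G, Fintype (IrrCharacter (Subgroup.centralizer ({x} : Set G))) :=
    fun x => Fintype.ofFinite _
  have hp : p.Prime := hM.1
  obtain ⟨χ₀, rfl⟩ := hB
  apply Nat.cast_injective (R := ℂ)
  rw [Nat.cast_sum]
  have hL : (Nat.card (blockOf M (χ₀ : G → ℂ)) : ℂ) =
      ∑ χ : IrrCharacter G, if χ ∈ blockOf M (χ₀ : G → ℂ) then
        classInner (χ : G → ℂ) (χ : G → ℂ) else 0 := by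
    have h1 : ∀ χ : IrrCharacter G, (if χ ∈ blockOf M (χ₀ : G → ℂ) then
        classInner (χ : G → ℂ) (χ : G → ℂ) else 0) =
        if χ ∈ blockOf M (χ₀ : G → ℂ) then (1 : ℂ) else 0 := by
      intro χ
      rw [irr_orthonormal, if_pos rfl]
    rw [Finset.sum_congr rfl fun χ _ => h1 χ, Finset.sum_boole, Nat.card_eq_fintype_card,
      Fintype.card_subtype]
  rw [hL]
  have h2 : ∀ χ : IrrCharacter G, (if χ ∈ blockOf M (χ₀ : G → ℂ) then
      classInner (χ : G → ℂ) (χ : G → ℂ) else 0) =
      ∑ x ∈ X, if χ ∈ blockOf M (χ₀ : G → ℂ) then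
        classInner (secLin p x (χ : G → ℂ)) (secLin p x (χ : G → ℂ)) else 0 := by
    intro χ
    split_ifs
    · exact classInner_self_eq_sum_sections hp X hX hXrep (isClassFunction_irr χ)
    · simp
  rw [Finset.sum_congr rfl fun χ _ => h2 χ, Finset.sum_comm]
  refine Finset.sum_congr rfl fun x hx => ?_
  rw [section_identity hM (hX x hx) χ₀]
  rw [finsum_blockRank_eq hM
    (fun b => IsInducedBlock M (Subgroup.centralizer ({x} : Set G)) b (blockOf M (χ₀ : G → ℂ)))
    (fun b hb => hb.1)]

end Cfsg.Agent.S4511
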