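import Cfsg.Statements.S0188
import Cfsg.Agent.Lib.Helper05.CharDecomp
import Cfsg.Agent.Lib.Helper83.Completeness

set_option autoImplicit false
open Cfsg

namespace Cfsg.Agent.S0188

open Cfsg.Agent.Lib.Helper05
open scoped ComplexConjugate

section

variable {G : Type*} [Group G] [Fintype G] {H : Type*} [Group H] [Fintype H]

/-- Fubini for the inner product on a product group. -/
theorem classInner_prod (θ : G × H → ℂ) (φ : G → ℂ) (ψ : H → ℂ) :
    Cfsg.classInner θ (fun x => φ x.1 * ψ x.2) =
      Cfsg.classInner (fun h : H => Cfsg.classInner (fun g : G => θ (g, h)) φ) ψ := by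
  simp only [Cfsg.classInner, Nat.card_prod, Nat.cast_mul, Fintype.sum_prod_type, map_mul]
  rw [Finset.sum_comm]
  rw [mul_inv, mul_comm (Nat.card G : ℂ)⁻¹, mul_assoc]
  congr 1
  rw [Finset.mul_sum]
  apply Finset.sum_congr rfl
  intro h _
  rw [mul_assoc, Finset.sum_mul, Finset.mul_sum, Finset.mul_sum]
  apply Finset.sum_congr rfl
  intro g _
  ring

theorem classInner_prod_prod (φ φ' : G → ℂ) (ψ ψ' : H → ℂ) :
    Cfsg.classInner (fun x : G × H => φ x.1 * ψ x.2) (fun x => φ' x.1 * ψ' x.2) =
      Cfsg.classInner φ φ' * Cfsg.classInner ψ ψ' := by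
  rw [classInner_prod]
  have : (fun h : H => Cfsg.classInner (fun g : G => φ g * ψ h) φ') =
      Cfsg.classInner φ φ' • ψ := by
    funext h
    have : (fun g : G => φ g * ψ h) = ψ h • φ := by
      funext g
      simp [mul_comm]
    rw [this, classInner_smul_left]
    simp [mul_comm]
  rw [this, classInner_smul_left]

theorem isIrrCharacter_prod {φ : G → ℂ} {ψ : H → ℂ} (hφ : Cfsg.IsIrrCharacter G φ)
    (hψ : Cfsg.IsIrrCharacter H ψ) :
    Cfsg.IsIrrCharacter (G × H) (fun x => φ x.1 * ψ x.2) := by
  apply isIrrCharacter_of_classInner_self_eq_one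
  · exact isCharacter_mul
      (isCharacter_comp (MonoidHom.fst G H) (IsIrrCharacter.isCharacter hφ))
      (isCharacter_comp (MonoidHom.snd G H) (IsIrrCharacter.isCharacter hψ))
  · rw [classInner_prod_prod, classInner_irr_self hφ, classInner_irr_self hψ, mul_one]

end

/-- The irreducible complex characters of G × H are precisely the functions (g, h) ↦ φ g * ψ h with φ, ψ irreducible characters of G and H. -/
theorem result {G : Type*} [Group G] [Finite G] {H : Type*} [Group H] [Finite H] (θ : G × H → ℂ) : Cfsg.IsIrrCharacter (G × H) θ ↔ ∃ (φ : G → ℂ) (ψ : H → ℂ), Cfsg.IsIrrCharacter G φ ∧ Cfsg.IsIrrCharacter H ψ ∧ θ = fun x => φ x.1 * ψ x.2 := by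
  classical
  haveI : Fintype G := Fintype.ofFinite G
  haveI : Fintype H := Fintype.ofFinite H
  constructor
  · intro hθ
    by_contra hno
    push Not at hno
    have hcf : Cfsg.IsClassFunction (G × H) θ :=
      Cfsg.Agent.Lib.Helper83.char_isClassFunction (IsIrrCharacter.isCharacter hθ)
    -- all inner products with products vanish
    have h0 : ∀ (φ : Cfsg.IrrCharacter G) (ψ : Cfsg.IrrCharacter H),
        Cfsg.classInner θ (fun x => (φ : G → ℂ) x.1 * (ψ : H → ℂ) x.2) = 0 := by
      intro φ ψ
      apply classInner_irr_ne hθ (isIrrCharacter_prod φ.2 ψ.2)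
      exact hno φ.1 ψ.1 φ.2 ψ.2
    have h1 : ∀ φ : Cfsg.IrrCharacter G,
        (fun h : H => Cfsg.classInner (fun g : G => θ (g, h)) (φ : G → ℂ)) = 0 := by
      intro φ
      apply Cfsg.Agent.Lib.Helper83.eq_zero_of_classInner_irr_eq_zero
      · intro h y
        simp only [Cfsg.classInner]
        congr 1
        apply Finset.sum_congr rfl
        intro g _
        have := hcf (g, h) (1, y)
        simp only [Prod.mk_mul_mk, Prod.inv_mk, inv_one, one_mul, mul_one] at this
        rw [this]
      · intro ψ
        rw [← classInner_prod]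
        exact h0 φ ψ
    have h2 : ∀ h : H, (fun g : G => θ (g, h)) = 0 := by
      intro h
      apply Cfsg.Agent.Lib.Helper83.eq_zero_of_classInner_irr_eq_zero
      · intro g x
        have := hcf (g, h) (x, 1)
        simp only [Prod.mk_mul_mk, Prod.inv_mk, inv_one, one_mul, mul_one] at this
        exact this
      · intro φ
        exact congrFun (h1 φ) h
    apply IsIrrCharacter.ne_zero hθ
    funext x
    exact congrFun (h2 x.2) x.1
  · rintro ⟨φ, ψ, hφ, hψ, rfl⟩
    exact isIrrCharacter_prod hφ hψ

end Cfsg.Agent.S0188
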