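import Cfsg.Statements.S5029
import Cfsg.Agent.Lib.Helper86.CommCase

set_option autoImplicit false
open Cfsg
open Cfsg.Agent.Lib.Helper86

namespace Cfsg.Agent.S5029

theorem members_eq {G : Type*} [Group G] {S : Set (Subgroup G)} (hS : IsRootSubgroupSet S)
    {A B D : Subgroup G} (hAS : A ∈ S) (hD : D ∈ S) (hAD : IsRankOnePair A D)
    (hc : RootCommutatorCase S A B) :
    membersIn S (A ⊔ ⁅A, B⁆) = (fun b : G => conjBy A b) '' (B : Set G) ∪ {⁅A, B⁆} := by
  ext E
  constructor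
  · rintro ⟨hES, hEle⟩
    by_cases hex : ∃ a ∈ A, a ≠ 1 ∧ ∃ c ∈ ⁅A, B⁆, a * c ∈ E
    · obtain ⟨a, ha, ha1, c, hcm, hac⟩ := hex
      left
      obtain ⟨b, hb, hb2⟩ := commcase_conj hc ha ha1 hcm
      refine ⟨b, hb, ?_⟩
      have hAb : conjBy A b ∈ S := hS.conj_mem A hAS b
      rcases root_inter hS hAb (hS.conj_mem D hD b) (rk1_conj hAD b) hES with h | h
      · exfalso
        have hmem : b * a * b⁻¹ ∈ conjBy A b ⊓ E :=
          ⟨conj_mem_conjBy ha, by rw [hb2]; exact hac⟩
        rw [h, Subgroup.mem_bot] at hmem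
        apply ha1
        have := congrArg (fun x => b⁻¹ * x * b) hmem
        simpa [mul_assoc] using this
      · exact h
    · right
      push Not at hex
      have hle : E ≤ ⁅A, B⁆ := by
        intro e he
        obtain ⟨a, ha, c, hcm, rfl⟩ := (mem_sup_of_commute (commcase_comm_left hc)).mp (hEle he)
        by_cases ha1 : a = 1
        · subst ha1; simpa using hcm
        · exact absurd he (hex a ha ha1 c hcm)
      exact commcase_le_comm_eq hS hAS hD hAD hc hES hle
  · rintro (⟨b, hb, rfl⟩ | h)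
    · exact ⟨hS.conj_mem A hAS b, commcase_conj_le A B hb⟩
    · rw [Set.mem_singleton_iff] at h
      subst h
      exact ⟨hc.1, le_sup_right⟩

theorem partition {G : Type*} [Group G] {S : Set (Subgroup G)} (hS : IsRootSubgroupSet S)
    {A B D : Subgroup G} (hAS : A ∈ S) (hD : D ∈ S) (hAD : IsRankOnePair A D)
    (hc : RootCommutatorCase S A B) :
    IsSubgroupPartition (A ⊔ ⁅A, B⁆) (membersIn S (A ⊔ ⁅A, B⁆)) := by
  refine ⟨fun E hE => hE.2, ?_, ?_⟩
  · intro x hx hx1
    obtain ⟨a, ha, c, hcm, rfl⟩ := (mem_sup_of_commute (commcase_comm_left hc)).mp hx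
    by_cases ha1 : a = 1
    · subst ha1
      exact ⟨⁅A, B⁆, ⟨hc.1, le_sup_right⟩, by simpa using hcm⟩
    · obtain ⟨b, hb, hb2⟩ := commcase_conj hc ha ha1 hcm
      refine ⟨conjBy A b, ⟨hS.conj_mem A hAS b, commcase_conj_le A B hb⟩, ?_⟩
      rw [← hb2]
      exact conj_mem_conjBy ha
  · intro E hE F hF hEF
    have hE' := hE
    have hF' := hF
    rw [members_eq hS hAS hD hAD hc] at hE' hF'
    rcases hE' with ⟨b, hb, rfl⟩ | hE'
    · rcases root_inter hS (hS.conj_mem A hAS b) (hS.conj_mem D hD b) (rk1_conj hAD b) hF.1 with h | h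
      · exact h
      · exact absurd h hEF
    · rcases hF' with ⟨b, hb, rfl⟩ | hF'
      · rcases root_inter hS (hS.conj_mem A hAS b) (hS.conj_mem D hD b) (rk1_conj hAD b) hE.1
          with h | h
        · rw [inf_comm]; exact h
        · exact absurd h.symm hEF
      · rw [Set.mem_singleton_iff] at hE' hF'
        exact absurd (hE'.trans hF'.symm) hEF

/-- Let S be a set of abstract root subgroups of G, A ∈ S having a rank one partner in S, and B ∈ S with C = ⁅A, B⁆ ∈ S. Then the members of S contained in AC are the conjugates of A by elements of B together with C, they partition AC, the members of S inside AC partition AC so that A is a line partner of C, and for every non-identity a ∈ A the map b ↦ a⁻¹ b⁻¹ a b is an isomorphism from B onto C. -/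
theorem result {G : Type*} [Group G] {S : Set (Subgroup G)} (hS : Cfsg.IsRootSubgroupSet S)
    {A B : Subgroup G} (hA : ¬ Cfsg.IsIsolatedIn (Cfsg.FAdj S) S A) (hAS : A ∈ S) (hB : B ∈ S) (hC : ⁅A, B⁆ ∈ S) :
    Cfsg.membersIn S (A ⊔ ⁅A, B⁆) = (fun b : G => Cfsg.conjBy A b) '' (B : Set G) ∪ {⁅A, B⁆} ∧
    Cfsg.IsSubgroupPartition (A ⊔ ⁅A, B⁆) (Cfsg.membersIn S (A ⊔ ⁅A, B⁆)) ∧
    A ∈ Cfsg.linePartners S ⁅A, B⁆ ∧
    ∀ a ∈ A, a ≠ 1 → ∃ φ : ↥B ≃* ↥⁅A, B⁆, ∀ b : ↥B, (φ b : G) = a⁻¹ * (b : G)⁻¹ * a * b := by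
  obtain ⟨D, hD, hAD⟩ := nonisolated_exists hAS hA
  have hc := commcase_of_comm_mem hS hAS hB hC
  refine ⟨members_eq hS hAS hD hAD hc, partition hS hAS hD hAD hc, ?_, ?_⟩
  · refine ⟨⟨hAS, commcase_ne hS hc, ?_⟩, ?_⟩
    · rw [commutator_eq_bot_iff_comm]
      intro c hcm a ha
      exact (commcase_comm_left hc a ha c hcm).symm
    · rw [sup_comm]
      exact partition hS hAS hD hAD hc
  · intro a ha ha1
    refine ⟨MulEquiv.ofBijective (commcaseHom hc ha)
      ⟨commcaseHom_injective hS hAS hD hAD hc ha ha1, commcaseHom_surjective hc ha ha1⟩, ?_⟩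
    intro b
    rfl

end Cfsg.Agent.S5029
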