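import Cfsg.Statements.S5019
import Cfsg.Agent.Lib.Helper86.Quadratic

set_option autoImplicit false
open Cfsg

namespace Cfsg.Agent.S5019

open Cfsg.Agent.Lib.Helper86

section
variable {X : Type*} [Group X] {A B : Subgroup X} {N : Type*} [AddCommGroup N] [DistribMulAction X N]

/-- the kernel of a non-quadratic action is central -/
theorem kernel_central (htop : A ⊔ B = ⊤) (hp : IsRankOnePair A B)
    (hq : ∀ a ∈ A, ∀ a' ∈ A, ∀ n : N, a' • (a • n - n) = a • n - n)
    (hX : ∃ x y : X, ∃ n : N, y • (x • n - n) ≠ x • n - n) :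
    ∀ x : X, (∀ n : N, x • n = n) → x ∈ Subgroup.center X := by
  let K : Subgroup X :=
    { carrier := {x | ∀ n : N, x • n = n}
      one_mem' := fun n => one_smul _ _
      mul_mem' := by
        intro x y hx hy n
        rw [mul_smul, hy n, hx n]
      inv_mem' := by
        intro x hx n
        have := congrArg (fun w => x⁻¹ • w) (hx n)
        simp only [inv_smul_smul] at this
        exact this.symm }
  have hKmem : ∀ x : X, x ∈ K ↔ ∀ n : N, x • n = n := fun x => Iff.rfl
  have hKnormal : K.Normal := by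
    refine ⟨fun x hx g => ?_⟩
    rw [hKmem] at hx ⊢
    intro n
    rw [mul_smul, mul_smul, hx, smul_inv_smul]
  have hcen : Subgroup.centralizer ((A ⊔ B : Subgroup X) : Set X) = Subgroup.center X := by
    rw [htop, Subgroup.coe_top, Subgroup.centralizer_univ]
  have hKn : A ⊔ B ≤ Subgroup.normalizer (K : Set X) := by
    rw [Subgroup.normalizer_eq_top_iff.mpr hKnormal]; exact le_top
  rcases rk1_normal_dichotomy hp hKn (by rw [htop]; exact le_top) with h1 | h1
  · exfalso
    have htop' : K ⊔ A = ⊤ := by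
      rw [eq_top_iff, ← htop]
      exact sup_le le_sup_right h1
    have hdec : ∀ x : X, ∃ a ∈ A, ∀ n : N, x • n = a • n := by
      intro x
      have hx : x ∈ K ⊔ A := by rw [htop']; exact Subgroup.mem_top x
      have := hKnormal
      rw [← SetLike.mem_coe, Subgroup.normal_mul] at hx
      obtain ⟨κ, hκ, a, ha, rfl⟩ := Set.mem_mul.mp hx
      exact ⟨a, ha, fun n => by rw [mul_smul, (hKmem κ).mp hκ]⟩
    obtain ⟨x, y, n, hxy⟩ := hX
    obtain ⟨a, ha, hxa⟩ := hdec x
    obtain ⟨a', ha', hya⟩ := hdec y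
    apply hxy
    rw [hya, hxa, hq a ha a' ha']
  · intro x hx
    rw [← hcen]
    exact h1 ((hKmem x).mpr hx)

/-- the key module computation -/
theorem fix_CA (hp : IsRankOnePair A B)
    (hq : ∀ a ∈ A, ∀ a' ∈ A, ∀ n : N, a' • (a • n - n) = a • n - n)
    (hqB : ∀ b ∈ B, ∀ b' ∈ B, ∀ n : N, b' • (b • n - n) = b • n - n)
    {a b : X} (ha : a ∈ A) (hb : b ∈ B) (hc : conjBy A b⁻¹ = conjBy B a⁻¹)
    (hb2 : a * (b⁻¹ * a * b) * a⁻¹ ∈ B)
    {m : N} (hm : ∀ a' ∈ A, a' • m = m) :
    (a * (b⁻¹ * a * b) * a⁻¹ * b) • m = m := by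
  -- t = b m - m, s = a t - t
  obtain ⟨t, ht⟩ : ∃ t, t = b • m - m := ⟨_, rfl⟩
  obtain ⟨s, hs⟩ : ∃ s, s = a • t - t := ⟨_, rfl⟩
  have hbm : b • m = m + t := by rw [ht]; abel
  have hat : a • t = t + s := by rw [hs]; abel
  have hbt : b • t = t := by rw [ht]; exact hqB b hb b hb m
  have has : a • s = s := by rw [hs]; exact hq a ha a ha t
  have ham : a • m = m := hm a ha
  have hainvm : a⁻¹ • m = m := by
    have := congrArg (fun w => a⁻¹ • w) ham
    simp only [inv_smul_smul] at this
    exact this.symm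
  have hbinvm : b⁻¹ • m = m - t := by
    have h1 : b • (m - t) = m := by rw [smul_sub, hbm, hbt]; abel
    have := congrArg (fun w => b⁻¹ • w) h1
    simp only [inv_smul_smul] at this
    exact this.symm
  have hbinvt : b⁻¹ • t = t := by
    have := congrArg (fun w => b⁻¹ • w) hbt
    simp only [inv_smul_smul] at this
    exact this.symm
  -- a b⁻¹ m is fixed by B
  have hfix : b • (a • b⁻¹ • m) = a • b⁻¹ • m := by
    have hmem : b * a⁻¹ * b * a * b⁻¹ ∈ A := by
      have h1 : a⁻¹ * b * a ∈ conjBy B a⁻¹ := by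
        have := conj_mem_conjBy (g := a⁻¹) hb
        simpa using this
      rw [← hc, mem_conjBy] at h1
      simpa [mul_assoc] using h1
    have h2 := hm _ hmem
    have h3 : b • a • b⁻¹ • m = a • b⁻¹ • ((b * a⁻¹ * b * a * b⁻¹) • m) := by
      simp only [mul_smul, inv_smul_smul, smul_inv_smul]
    rw [h3, h2]
  -- (2): b s - s = t
  have hbs : b • s = t + s := by
    simp only [hbinvm, smul_sub, smul_add, ham, hat, hbm, hbt] at hfix
    linear_combination (norm := abel) -hfix
  have hbinvs : b⁻¹ • s = s - t := by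
    have h1 : b • (s - t) = s := by rw [smul_sub, hbs, hbt]; abel
    have := congrArg (fun w => b⁻¹ • w) h1
    simp only [inv_smul_smul] at this
    exact this.symm
  -- b2 fixes t
  have hb2t : (a * (b⁻¹ * a * b) * a⁻¹) • t = t := by rw [ht]; exact hqB b hb _ hb2 m
  have hb2m : (a * (b⁻¹ * a * b) * a⁻¹) • m = m - t := by
    simp only [mul_smul, hainvm, hbm, smul_add, smul_sub, ham, hat, hbinvm, hbinvt, hbinvs, has]
    abel
  rw [mul_smul, hbm, smul_add, hb2m, hb2t]
  abel

end

/-- Let X be a rank one group with abelian unipotent subgroups A and B, and suppose X acts on an abelian group N (written additively) in such a way that A acts quadratically, meaning a' • (a • n − n) = a • n − n for all a, a' in A and n in N, while X as a whole does not: y • (x • n − n) ≠ x • n − n for some x, y in X and n in N. Then X is a special rank one group. -/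
theorem result {X : Type*} [Group X] {A B : Subgroup X} (h : Cfsg.IsRankOneGroup X A B)
    (hab : Cfsg.HasAbelianUnipotents A B) {N : Type*} [AddCommGroup N] [DistribMulAction X N]
    (hq : ∀ a ∈ A, ∀ a' ∈ A, ∀ n : N, a' • (a • n - n) = a • n - n)
    (hX : ∃ x y : X, ∃ n : N, y • (x • n - n) ≠ x • n - n) : Cfsg.IsSpecialRankOnePair A B := by
  obtain ⟨htop, hp⟩ := h
  have hqB := quad_right hp hq
  have hcen : Subgroup.centralizer ((A ⊔ B : Subgroup X) : Set X) = Subgroup.center X := by
    rw [htop, Subgroup.coe_top, Subgroup.centralizer_univ]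
  have hcen' : Subgroup.centralizer ((B ⊔ A : Subgroup X) : Set X) = Subgroup.center X := by
    rw [sup_comm]; exact hcen
  have hK := kernel_central htop hp hq hX
  have hall : ∀ x : X, x ∈ A ⊔ B := fun x => by rw [htop]; exact Subgroup.mem_top x
  refine ⟨hp, ?_⟩
  intro a ha ha1 b hb hb1 hc
  -- b2 ∈ B
  have hb2 : a * (b⁻¹ * a * b) * a⁻¹ ∈ B := by
    have h1 : b⁻¹ * a * b ∈ conjBy A b⁻¹ := by
      have := conj_mem_conjBy (g := b⁻¹) ha
      simpa using this
    rw [hc, mem_conjBy] at h1
    simpa [mul_assoc] using h1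
  obtain ⟨b3, hb3def⟩ : ∃ b3, b3 = a * (b⁻¹ * a * b) * a⁻¹ * b := ⟨_, rfl⟩
  have hb3B : b3 ∈ B := by rw [hb3def]; exact B.mul_mem hb2 hb
  -- it suffices that b3 = 1
  suffices hb31 : b3 = 1 by
    rw [hb3def] at hb31
    have h1 : a * (b⁻¹ * a * b) * a⁻¹ = b⁻¹ := eq_inv_of_mul_eq_one_left hb31
    have := congrArg (fun x => a⁻¹ * x * a) h1
    simpa [mul_assoc] using this
  by_contra hb3ne
  -- (Q): b3 fixes [N, X]
  have hQ : ∀ x : X, ∀ n : N, b3 • (x • n - n) = x • n - n := by
    let S : Subgroup X :=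
      { carrier := {x | ∀ n : N, b3 • (x • n - n) = x • n - n}
        one_mem' := fun n => by simp
        mul_mem' := by
          intro x y hx hy n
          have e : (x * y) • n - n = (x • (y • n) - y • n) + (y • n - n) := by
            rw [mul_smul]; abel
          rw [e, smul_add, hx, hy]
        inv_mem' := by
          intro x hx n
          have e : x⁻¹ • n - n = -(x • (x⁻¹ • n) - x⁻¹ • n) := by
            rw [smul_inv_smul]; abel
          rw [e, smul_neg, hx] }
    have hAS : A ≤ S := by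
      intro a' ha' n
      have hm : ∀ a2 ∈ A, a2 • (a' • n - n) = a' • n - n := fun a2 ha2 => hq a' ha' a2 ha2 n
      have := fix_CA hp hq hqB ha hb hc hb2 hm
      rw [← hb3def] at this
      exact this
    have hBS : B ≤ S := fun b' hb' n => hqB b' hb' b3 hb3B n
    intro x
    exact (sup_le hAS hBS) (hall x)
  -- K_M
  let KM : Subgroup X :=
    { carrier := {y | ∀ x : X, ∀ n : N, y • (x • n - n) = x • n - n}
      one_mem' := fun x n => one_smul _ _
      mul_mem' := by
        intro y y' hy hy' x n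
        rw [mul_smul, hy' x n, hy x n]
      inv_mem' := by
        intro y hy x n
        have := congrArg (fun w => y⁻¹ • w) (hy x n)
        simp only [inv_smul_smul] at this
        exact this.symm }
  have hKMmem : ∀ y : X, y ∈ KM ↔ ∀ x : X, ∀ n : N, y • (x • n - n) = x • n - n := fun y => Iff.rfl
  have hKMnormal : KM.Normal := by
    refine ⟨fun y hy g => ?_⟩
    rw [hKMmem] at hy ⊢
    intro x n
    have e : g⁻¹ • (x • n - n) = (g⁻¹ * x * g) • (g⁻¹ • n) - g⁻¹ • n := by
      simp only [mul_smul, smul_sub, smul_inv_smul]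
    rw [mul_smul, mul_smul, e, hy, ← e, smul_inv_smul]
  have hb3KM : b3 ∈ KM := hQ
  have hb3nc : b3 ∉ Subgroup.center X := by
    intro hcn
    have : b3 ∈ B ⊓ Subgroup.normalizer (A : Set X) :=
      ⟨hb3B, Subgroup.centralizer_le_normalizer _ (Subgroup.center_le_centralizer _ hcn)⟩
    rw [rk1_inf_normalizer' hp, Subgroup.mem_bot] at this
    exact hb3ne this
  have hKMn : B ⊔ A ≤ Subgroup.normalizer (KM : Set X) := by
    rw [Subgroup.normalizer_eq_top_iff.mpr hKMnormal]; exact le_top
  have hAle : A ≤ KM ⊔ B := by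
    rcases rk1_normal_dichotomy (RankOnePair_symm hp) hKMn (by rw [sup_comm, htop]; exact le_top)
      with h1 | h1
    · exact h1
    · exact absurd (hcen' ▸ h1 hb3KM) hb3nc
  have hdec : ∀ y : X, ∃ κ ∈ KM, ∃ b' ∈ B, y = κ * b' := by
    intro y
    have hy : y ∈ KM ⊔ B := by
      have : A ⊔ B ≤ KM ⊔ B := sup_le hAle le_sup_right
      exact this (hall y)
    have := hKMnormal
    rw [← SetLike.mem_coe, Subgroup.normal_mul] at hy
    obtain ⟨κ, hκ, b', hb', rfl⟩ := Set.mem_mul.mp hy
    exact ⟨κ, hκ, b', hb', rfl⟩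
  -- (R'): [N,X,X] is fixed by X
  have hR : ∀ x y w : X, ∀ n : N,
      w • (y • (x • n - n) - (x • n - n)) = y • (x • n - n) - (x • n - n) := by
    intro x y w n
    obtain ⟨κ, hκ, b', hb', rfl⟩ := hdec y
    obtain ⟨κ', hκ', b2', hb2', rfl⟩ := hdec w
    have h1 : (κ * b') • (x • n - n) = b' • (x • n - n) := by
      have e : b' • (x • n - n) = (x • n - n) + (b' • (x • n - n) - (x • n - n)) := by abel
      rw [mul_smul, e, smul_add, (hKMmem κ).mp hκ x n, (hKMmem κ).mp hκ b' (x • n - n)]
    rw [h1, mul_smul, hqB b' hb' b2' hb2', (hKMmem κ').mp hκ' b' (x • n - n)]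
  -- b3 is central
  have hb3c : b3 ∈ Subgroup.centralizer ((A ⊔ B : Subgroup X) : Set X) := by
    apply rk1_second_center hp (hall b3)
    intro y _
    obtain ⟨c, hcdef⟩ : ∃ c, c = b3 * y * b3⁻¹ * y⁻¹ := ⟨_, rfl⟩
    rw [← hcdef]
    -- formula for c
    have hb3inv : ∀ n : N, b3⁻¹ • n = n - (b3 • n - n) := by
      intro n
      have h1 : b3 • (n - (b3 • n - n)) = n := by
        rw [smul_sub, hQ b3 n]; abel
      have := congrArg (fun w => b3⁻¹ • w) h1
      simp only [inv_smul_smul] at this
      exact this.symm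
    have hd : ∀ x : X, ∀ n : N, b3 • (x • n) - x • n = b3 • n - n := by
      intro x n
      have h1 := hQ x n
      rw [smul_sub] at h1
      linear_combination (norm := abel) h1
    have hform : ∀ n : N, c • n = n - (y • (b3 • n - n) - (b3 • n - n)) := by
      intro n
      have h1 : b3 • (y⁻¹ • n) - y⁻¹ • n = b3 • n - n := hd y⁻¹ n
      have h2 : b3 • (y • (b3 • n - n) - (b3 • n - n)) = y • (b3 • n - n) - (b3 • n - n) :=
        hQ y (b3 • n - n)
      have h3 : b3 • (b3 • n - n) = b3 • n - n := hQ b3 n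
      rw [hcdef, mul_smul, mul_smul, mul_smul, hb3inv, h1, smul_sub, smul_inv_smul, smul_sub]
      rw [smul_sub] at h2
      linear_combination (norm := abel) (-1 : ℤ) • h2 + (-1 : ℤ) • h3
    apply rk1_second_center hp (hall c)
    intro w _
    rw [hcen]
    apply hK
    -- c and w commute on N
    have hcw : ∀ n : N, c • w • n = w • c • n := by
      intro n
      have e1 : c • w • n = w • n - (y • (b3 • n - n) - (b3 • n - n)) := by
        rw [hform, hd w n]
      have e2 : w • c • n = w • n - (y • (b3 • n - n) - (b3 • n - n)) := by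
        rw [hform, smul_sub, hR b3 y w n]
      rw [e1, e2]
    intro n
    have := hcw (c⁻¹ • w⁻¹ • n)
    rw [smul_inv_smul, smul_inv_smul] at this
    rw [mul_smul, mul_smul, mul_smul, this]
  have : b3 ∈ B ⊓ Subgroup.normalizer (A : Set X) :=
    ⟨hb3B, Subgroup.centralizer_le_normalizer _ (Subgroup.centralizer_le (by
      intro x hx; exact Subgroup.mem_sup_left hx) hb3c)⟩
  rw [rk1_inf_normalizer' hp, Subgroup.mem_bot] at this
  exact hb3ne this

end Cfsg.Agent.S5019
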