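import Cfsg.Statements.S5022
import Cfsg.Agent.Lib.Helper86.SL2Rk1

set_option autoImplicit false
open Cfsg

namespace Cfsg.Agent.S5022

open Cfsg.Agent.Lib.Helper86 Cfsg.Agent.Lib.Helper07 Matrix

/-- Let X be a special rank one group with abelian unipotent subgroups A and B, where A is an elementary abelian p-group for the prime p. Then for every non-identity a in A and the non-identity b in B with b⁻¹ A b = a⁻¹ B a, the subgroup generated by a and b is isomorphic to SL₂(p) or to PSL₂(p). -/
theorem result {X : Type*} [Group X] {A B : Subgroup X} (h : Cfsg.IsRankOneGroup X A B)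
    (hs : Cfsg.IsSpecialRankOnePair A B) (hab : Cfsg.HasAbelianUnipotents A B)
    {p : ℕ} [Fact p.Prime] (hA : Cfsg.IsElementaryAbelian p A)
    {a b : X} (ha : a ∈ A) (ha1 : a ≠ 1) (hb : b ∈ B) (hb1 : b ≠ 1) (hab' : Cfsg.conjBy A b⁻¹ = Cfsg.conjBy B a⁻¹) :
    Nonempty (↥(Subgroup.closure ({a, b} : Set X)) ≃* Matrix.SpecialLinearGroup (Fin 2) (ZMod p)) ∨
    Nonempty (↥(Subgroup.closure ({a, b} : Set X)) ≃* Matrix.ProjectiveSpecialLinearGroup (Fin 2) (ZMod p)) := by
  have h1 : Ptn A B a b := ⟨ha, ha1, hb, hb1, hab'⟩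
  have hap : a ^ p = 1 := hA.2 a ha
  obtain ⟨D, hD⟩ : ∃ D, D = rk1StData hs hab.1 hab.2 h1 hap := ⟨_, rfl⟩
  have hx : ∀ t, D.x t = xf p a t := fun t => by rw [hD]; rfl
  have hy : ∀ t, D.y t = xf p b t := fun t => by rw [hD]; rfl
  have hrange : D.slHom.range = Subgroup.closure ({a, b} : Set X) := by
    rw [slHom_range]
    apply le_antisymm
    · rw [Subgroup.closure_le]
      rintro g (⟨t, rfl⟩ | ⟨t, rfl⟩)
      · rw [hx]; exact Subgroup.pow_mem _ (Subgroup.subset_closure (by simp)) _
      · rw [hy]; exact Subgroup.pow_mem _ (Subgroup.subset_closure (by simp)) _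
    · rw [Subgroup.closure_le]
      rintro g (rfl | rfl)
      · apply Subgroup.subset_closure; left; exact ⟨1, by rw [hx, xf_one]⟩
      · apply Subgroup.subset_closure; right; exact ⟨1, by rw [hy, xf_one]⟩
  have hker : ∀ g, D.slHom g = 1 → g = 1 ∨ g = (sl2Data (ZMod p)).h (-1) := by
    intro g hg; rw [hD] at hg; exact rk1_slHom_ker hs hab.1 hab.2 h1 hap hg
  by_cases hk : D.slHom.ker = ⊥
  · left
    have hinj : Function.Injective D.slHom := (MonoidHom.ker_eq_bot_iff _).mp hk
    exact ⟨((MonoidHom.ofInjective hinj).trans (MulEquiv.subgroupCongr hrange)).symm⟩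
  · right
    obtain ⟨z, hz, hz1⟩ : ∃ z ∈ D.slHom.ker, z ≠ 1 := by
      by_contra hcon
      push Not at hcon
      exact hk ((Subgroup.eq_bot_iff_forall _).mpr hcon)
    have hzeq : z = (sl2Data (ZMod p)).h (-1) := (hker z hz).resolve_left hz1
    have hker2 : ∀ g ∈ D.slHom.ker, g = 1 ∨ g = z := by
      intro g hg; rw [hzeq]; exact hker g hg
    have hzc : z ∈ Subgroup.center (SpecialLinearGroup (Fin 2) (ZMod p)) := by
      rw [Subgroup.mem_center_iff]
      intro g
      have hn : g * z * g⁻¹ ∈ D.slHom.ker := (MonoidHom.normal_ker _).conj_mem z hz g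
      rcases hker2 _ hn with h0 | h0
      · exfalso
        apply hz1
        have h2 := congrArg (fun y => g⁻¹ * y * g) h0
        simpa [mul_assoc] using h2
      · calc g * z = (g * z * g⁻¹) * g := by group
          _ = z * g := by rw [h0]
    have hsc : ∀ c ∈ Subgroup.center (SpecialLinearGroup (Fin 2) (ZMod p)),
        c = 1 ∨ (c : Matrix (Fin 2) (Fin 2) (ZMod p)) = Matrix.scalar (Fin 2) (-1) := by
      intro c hc
      obtain ⟨r, hr, hrc⟩ := Matrix.SpecialLinearGroup.mem_center_iff.mp hc
      rw [Fintype.card_fin] at hr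
      have hr1 : r = 1 ∨ r = -1 := by
        have h : r * r = 1 := by rw [← sq]; exact hr
        exact mul_self_eq_one_iff.mp h
      rcases hr1 with rfl | rfl
      · left; apply Subtype.ext; rw [← hrc]; simp
      · right; exact hrc.symm
    have hcu : ∀ c ∈ Subgroup.center (SpecialLinearGroup (Fin 2) (ZMod p)), c = 1 ∨ c = z := by
      intro c hc
      rcases hsc c hc with h0 | h0
      · left; exact h0
      · right
        rcases hsc z hzc with h2 | h2
        · exact absurd h2 hz1
        · exact Subtype.ext (h0.trans h2.symm)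
    have hkc : D.slHom.ker = Subgroup.center (SpecialLinearGroup (Fin 2) (ZMod p)) := by
      apply le_antisymm
      · intro g hg
        rcases hker2 g hg with rfl | rfl
        · exact Subgroup.one_mem _
        · exact hzc
      · intro c hc
        rcases hcu c hc with rfl | rfl
        · exact Subgroup.one_mem _
        · exact hz
    exact ⟨((QuotientGroup.quotientMulEquivOfEq hkc).symm.trans
      ((QuotientGroup.quotientKerEquivRange D.slHom).trans
        (MulEquiv.subgroupCongr hrange))).symm⟩

end Cfsg.Agent.S5022
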