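import Cfsg.Statements.S5031
import Cfsg.Agent.Lib.Helper86.Components

set_option autoImplicit false
open Cfsg
open Cfsg.Agent.Lib.Helper86

namespace Cfsg.Agent.S5031

/-- Let S be a set of abstract root subgroups of G and let A, B ∈ S lie in different connected components of the graph of rank one pairs on S, each component having more than one member. Then B is not a line partner of A. -/
theorem result {G : Type*} [Group G] {S : Set (Subgroup G)} (hS : Cfsg.IsRootSubgroupSet S)
    {A B : Subgroup G} (hA : A ∈ S) (hB : B ∈ S)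
    (hne : Cfsg.componentOf (Cfsg.FAdj S) S A ≠ Cfsg.componentOf (Cfsg.FAdj S) S B)
    (hA2 : ∃ A' ∈ Cfsg.componentOf (Cfsg.FAdj S) S A, A' ≠ A) (hB2 : ∃ B' ∈ Cfsg.componentOf (Cfsg.FAdj S) S B, B' ≠ B) :
    B ∉ Cfsg.linePartners S A := by
  rintro ⟨⟨-, hBA, hcomm⟩, hpart⟩
  rw [commutator_eq_bot_iff_comm] at hcomm
  obtain ⟨A', hA', hAA'⟩ := exists_partner_of_component hA2
  obtain ⟨B', hB', hBB'⟩ := exists_partner_of_component hB2
  have hinf : A ⊓ B = ⊥ := (root_inter hS hA hA' hAA' hB).resolve_right hBA.symm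
  have hroot : ∀ a ∈ A, a ≠ 1 → ∀ b ∈ B, b ≠ 1 → ∃ E ∈ membersIn S (A ⊔ B), a * b ∈ E := by
    intro a ha ha1 b hb hb1
    apply hpart.2.1 _ (Subgroup.mul_mem _ (Subgroup.mem_sup_left ha) (Subgroup.mem_sup_right hb))
    intro h
    have h1 : b = a⁻¹ := eq_inv_of_mul_eq_one_right h
    have : b ∈ A ⊓ B := ⟨by rw [h1]; exact A.inv_mem ha, hb⟩
    rw [hinf, Subgroup.mem_bot] at this
    exact hb1 this
  have hnr1 : ¬ IsRankOnePair A' B := by
    intro h
    apply hne
    apply component_eq_of_reach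
    exact (Relation.ReflTransGen.single ⟨hA, hA', hAA'⟩).tail ⟨hA', hB, h⟩
  have hnr2 : ¬ IsRankOnePair B' A := by
    intro h
    apply hne
    apply component_eq_of_reach
    apply FReach_symm
    exact (Relation.ReflTransGen.single ⟨hB, hB', hBB'⟩).tail ⟨hB', hA, h⟩
  obtain ⟨a, ha, ha1⟩ := rk1_exists_ne_one hAA'
  obtain ⟨b, hb, hb1⟩ := rk1_exists_ne_one hBB'
  obtain ⟨E, hE, habE⟩ := hroot a ha ha1 b hb hb1
  have hEB : E ≠ B := by
    rintro rfl
    have : a ∈ A ⊓ E := ⟨ha, by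
      have := E.mul_mem habE (E.inv_mem hb)
      simpa using this⟩
    rw [hinf, Subgroup.mem_bot] at this
    exact ha1 this
  have hEA : E ≠ A := by
    rintro rfl
    have : b ∈ E ⊓ B := ⟨by
      have := E.mul_mem (E.inv_mem ha) habE
      simpa using this, hb⟩
    rw [hinf, Subgroup.mem_bot] at this
    exact hb1 this
  have h1 : IsRankOnePair A' E :=
    line_members hS hA hA' hB hB' hAA' hBB' hcomm hBA.symm
      (fun a ha ha1 b hb hb1 => by
        obtain ⟨E, hE, h⟩ := hroot a ha ha1 b hb hb1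
        exact ⟨E, hE.1, h⟩) hnr1 hE hEB
  have hE' : E ∈ membersIn S (B ⊔ A) := by rw [sup_comm]; exact hE
  have h2 : IsRankOnePair B' E :=
    line_members hS hB hB' hA hA' hBB' hAA' (fun b hb a ha => (hcomm a ha b hb).symm) hBA
      (fun b hb hb1 a ha ha1 => by
        obtain ⟨E, hE, h⟩ := hroot a ha ha1 b hb hb1
        rw [hcomm a ha b hb] at h
        exact ⟨E, hE.1, h⟩) hnr2 hE' hEA
  apply hne
  apply component_eq_of_reach
  have p1 : Relation.ReflTransGen (FAdj S) A E :=
    (Relation.ReflTransGen.single ⟨hA, hA', hAA'⟩).tail ⟨hA', hE.1, h1⟩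
  have p2 : Relation.ReflTransGen (FAdj S) B E :=
    (Relation.ReflTransGen.single ⟨hB, hB', hBB'⟩).tail ⟨hB', hE.1, h2⟩
  exact p1.trans (FReach_symm p2)

end Cfsg.Agent.S5031
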