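import Cfsg.Statements.S5032
import Cfsg.Agent.Lib.Helper86.Components
import Cfsg.Agent.S5031

set_option autoImplicit false
open Cfsg
open Cfsg.Agent.Lib.Helper86

namespace Cfsg.Agent.S5032

theorem conj_of_reach {G : Type*} [Group G] {S : Set (Subgroup G)} {A B : Subgroup G}
    (h : Relation.ReflTransGen (FAdj S) A B) : ∃ g : G, B = conjBy A g := by
  induction h with
  | refl => exact ⟨1, (conjBy_one A).symm⟩
  | tail _ hbc ih =>
    obtain ⟨g, rfl⟩ := ih
    obtain ⟨a, -, a', -, -, -, h⟩ := rk1_exists_conj hbc.2.2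
    exact ⟨a⁻¹ * a' * g, by rw [h, conjBy_conjBy]⟩

theorem not_isolated_of_partner {G : Type*} [Group G] {S : Set (Subgroup G)} {A D : Subgroup G}
    (hA : A ∈ S) (hD : D ∈ S) (h : IsRankOnePair A D) : ¬ IsIsolatedIn (FAdj S) S A :=
  fun hi => (hi.2 D).1 ⟨hA, hD, h⟩

theorem has_other_of_partner {G : Type*} [Group G] {S : Set (Subgroup G)} {A D : Subgroup G}
    (hA : A ∈ S) (hD : D ∈ S) (h : IsRankOnePair A D) :
    ∃ A' ∈ componentOf (FAdj S) S A, A' ≠ A :=
  ⟨D, ⟨hD, Relation.ReflTransGen.single ⟨hA, hD, h⟩⟩, h.ne.symm⟩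

/-- members of different components commute, if every member has a partner -/
theorem diff_comp_commute {G : Type*} [Group G] {S : Set (Subgroup G)} (hS : IsRootSubgroupSet S)
    (hall : ∀ A ∈ S, ∃ D ∈ S, IsRankOnePair A D) {A B : Subgroup G} (hA : A ∈ S) (hB : B ∈ S)
    (hne : componentOf (FAdj S) S A ≠ componentOf (FAdj S) S B) : ⁅A, B⁆ = ⊥ := by
  rcases hS.pair A hA B hB with h | h | h
  · exact h
  · exact absurd (component_eq_of_reach (Relation.ReflTransGen.single ⟨hA, hB, h⟩)) hne
  · exfalso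
    have hC := h.1
    obtain ⟨A', hA', hAA'⟩ := hall A hA
    obtain ⟨B', hB', hBB'⟩ := hall B hB
    obtain ⟨C', hC', hCC'⟩ := hall _ hC
    have h1 : A ∈ linePartners S ⁅A, B⁆ :=
      (Cfsg.Agent.S5029.result hS (not_isolated_of_partner hA hA' hAA') hA hB hC).2.2.1
    have hC2 : ⁅B, A⁆ ∈ S := by rw [Subgroup.commutator_comm]; exact hC
    have h2 : B ∈ linePartners S ⁅A, B⁆ := by
      have := (Cfsg.Agent.S5029.result hS (not_isolated_of_partner hB hB' hBB') hB hA hC2).2.2.1
      rwa [Subgroup.commutator_comm] at this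
    have e1 : componentOf (FAdj S) S ⁅A, B⁆ = componentOf (FAdj S) S A := by
      by_contra hcon
      exact Cfsg.Agent.S5031.result hS hC hA hcon (has_other_of_partner hC hC' hCC')
        (has_other_of_partner hA hA' hAA') h1
    have e2 : componentOf (FAdj S) S ⁅A, B⁆ = componentOf (FAdj S) S B := by
      by_contra hcon
      exact Cfsg.Agent.S5031.result hS hC hB hcon (has_other_of_partner hC hC' hCC')
        (has_other_of_partner hB hB' hBB') h2
    exact hne (e1.symm.trans e2)

/-- elements of members of `S` preserve every component -/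
theorem conj_mem_component {G : Type*} [Group G] {S : Set (Subgroup G)} (hS : IsRootSubgroupSet S)
    (hall : ∀ A ∈ S, ∃ D ∈ S, IsRankOnePair A D) {A E D : Subgroup G} (hE : E ∈ S)
    {e : G} (he : e ∈ E) (hD : D ∈ componentOf (FAdj S) S A) :
    conjBy D e ∈ componentOf (FAdj S) S A := by
  by_cases hEA : componentOf (FAdj S) S E = componentOf (FAdj S) S A
  · have hEmem : E ∈ componentOf (FAdj S) S A := by
      rw [← hEA]; exact ⟨hE, Relation.ReflTransGen.refl⟩
    have h1 : Relation.ReflTransGen (FAdj S) E D := (FReach_symm hEmem.2).trans hD.2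
    have h2 := FReach_conj hS h1 e
    rw [conjBy_self_mem he] at h2
    exact ⟨hS.conj_mem D hD.1 e, hEmem.2.trans h2⟩
  · have h1 : componentOf (FAdj S) S A = componentOf (FAdj S) S D := component_eq_of_reach hD.2
    have h2 : ⁅E, D⁆ = ⊥ := diff_comp_commute hS hall hE hD.1 (by rw [← h1]; exact hEA)
    rw [commutator_eq_bot_iff_comm] at h2
    have h3 : conjBy D e = D := conjBy_eq_of_commute fun x hx => (h2 e he x hx).symm
    rw [h3]; exact hD

/-- Let S be a set of abstract root subgroups of G with more than one member. Then the graph of rank one pairs on S is connected if and only if S is a single conjugacy class of G and some member of S has a rank one partner in S. -/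
theorem result {G : Type*} [Group G] {S : Set (Subgroup G)} (hS : Cfsg.IsRootSubgroupSet S) (h2 : ∃ A ∈ S, ∃ B ∈ S, A ≠ B) :
    Cfsg.IsConnectedFamily (Cfsg.FAdj S) S ↔
      (Cfsg.IsConjClassOfSubgroups S ∧ ∃ A ∈ S, ¬ Cfsg.IsIsolatedIn (Cfsg.FAdj S) S A) := by
  constructor
  · intro hconn
    obtain ⟨A, hA, B, hB, hAB⟩ := h2
    refine ⟨⟨⟨A, hA⟩, fun A hA B hB => conj_of_reach (hconn A hA B hB)⟩, A, hA, ?_⟩
    rcases Relation.ReflTransGen.cases_head (hconn A hA B hB) with h | ⟨C, hC, -⟩
    · exact absurd h hAB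
    · exact fun hi => (hi.2 C).1 hC
  · rintro ⟨⟨-, hconj⟩, A₀, hA₀, hiso⟩
    obtain ⟨D₀, hD₀, hAD₀⟩ := nonisolated_exists hA₀ hiso
    have hall : ∀ A ∈ S, ∃ D ∈ S, IsRankOnePair A D := by
      intro A hA
      obtain ⟨g, rfl⟩ := hconj A₀ hA₀ A hA
      exact ⟨conjBy D₀ g, hS.conj_mem D₀ hD₀ g, rk1_conj hAD₀ g⟩
    intro A hA B hB
    let T : Subgroup G :=
      { carrier := {g | (∀ D ∈ componentOf (FAdj S) S A, conjBy D g ∈ componentOf (FAdj S) S A) ∧
          (∀ D ∈ componentOf (FAdj S) S A, conjBy D g⁻¹ ∈ componentOf (FAdj S) S A)}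
        one_mem' := by
          constructor
          · intro D hD; rw [conjBy_one]; exact hD
          · intro D hD; rw [inv_one, conjBy_one]; exact hD
        mul_mem' := by
          rintro g h ⟨hg1, hg2⟩ ⟨hh1, hh2⟩
          constructor
          · intro D hD
            rw [← conjBy_conjBy]
            exact hg1 _ (hh1 D hD)
          · intro D hD
            rw [mul_inv_rev, ← conjBy_conjBy]
            exact hh2 _ (hg2 D hD)
        inv_mem' := by
          rintro g ⟨hg1, hg2⟩
          refine ⟨hg2, ?_⟩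
          intro D hD
          rw [inv_inv]
          exact hg1 D hD }
    have hT : ∀ E ∈ S, E ≤ T := by
      intro E hE e he
      exact ⟨fun D hD => conj_mem_component hS hall hE he hD,
        fun D hD => conj_mem_component hS hall hE (E.inv_mem he) hD⟩
    have htop : T = ⊤ := by
      rw [eq_top_iff, ← hS.generates]
      exact iSup₂_le hT
    obtain ⟨g, rfl⟩ := hconj A hA B hB
    have hg : g ∈ T := by rw [htop]; exact Subgroup.mem_top g
    exact (hg.1 A ⟨hA, Relation.ReflTransGen.refl⟩).2

end Cfsg.Agent.S5032
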