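import Cfsg.Statements.S0154
import Cfsg.Agent.Lib.Helper05.CharBasic
import Cfsg.Agent.Lib.Helper21.LinearChar

set_option autoImplicit false
open Cfsg

namespace Cfsg.Agent.S0154

open Cfsg.Agent.Lib.Helper05

/-- Degree one irreducible characters correspond to homomorphisms into `ℂˣ`. -/
noncomputable def linEquiv (G : Type*) [Group G] :
    {χ : Cfsg.IrrCharacter G // (χ : G → ℂ) 1 = 1} ≃ (G →* ℂˣ) where
  toFun χ := (Cfsg.Agent.Lib.Helper21.linearCharHom
    (IsIrrCharacter.isCharacter χ.1.2) χ.2).toHomUnits
  invFun lam := ⟨⟨fun g => ((lam g : ℂˣ) : ℂ), isIrrCharacter_of_hom lam⟩, by simp⟩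
  left_inv χ := by
    apply Subtype.ext
    apply Subtype.ext
    funext g
    rfl
  right_inv lam := by
    ext g
    rfl

/-- A finite group has exactly as many irreducible complex characters of degree 1 as the index of its commutator subgroup. -/
theorem result {G : Type*} [Group G] [Finite G] : Nat.card {χ : Cfsg.IrrCharacter G // (χ : G → ℂ) 1 = 1} = (commutator G).index := by
  rw [Nat.card_congr (linEquiv G), Nat.card_congr (Abelianization.lift (G := G) (A := ℂˣ))]
  haveI : NeZero (Monoid.exponent (Abelianization G)) := ⟨Monoid.exponent_ne_zero_of_finite⟩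
  rw [CommGroup.card_monoidHom_of_hasEnoughRootsOfUnity (Abelianization G) ℂ]
  rfl

end Cfsg.Agent.S0154
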