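import Cfsg.Statements.S2566
import Mathlib
import Cfsg.Agent.S0287
import Cfsg.Agent.Lib.Helper51.O4b

set_option autoImplicit false
open Cfsg

namespace Cfsg.Agent.S2566

open Cfsg.Agent.Lib.Helper51

/-- The full orthogonal group of the plus-type form x₁y₁ + x₂y₂ in dimension 4 over the field of two elements has order 72 and is isomorphic to the wreath product of the symmetric group of degree 3 by a group of order 2: it has a normal subgroup isomorphic to the direct product of two symmetric groups of degree 3, of index 2, whose two direct factors are interchanged by conjugation by some element. -/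
theorem result :
    Nat.card ↥(Cfsg.isometryGroup (ZMod 2) (Cfsg.quadFormPlus 2 (ZMod 2))) = 72 ∧
    ∃ (A B : Subgroup ↥(Cfsg.isometryGroup (ZMod 2) (Cfsg.quadFormPlus 2 (ZMod 2)))),
      Nonempty (↥A ≃* Equiv.Perm (Fin 3)) ∧ Nonempty (↥B ≃* Equiv.Perm (Fin 3)) ∧ A ⊓ B = ⊥ ∧ (∀ a ∈ A, ∀ b ∈ B, a * b = b * a) ∧
      (A ⊔ B).index = 2 ∧ ∃ g : ↥(Cfsg.isometryGroup (ZMod 2) (Cfsg.quadFormPlus 2 (ZMod 2))), A.map (MulAut.conj g).toMonoidHom = B := by
  classical
  have hcardG : Nat.card G4 = 72 := by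
    have := Cfsg.Agent.S0287.result (F := ZMod 2) (ZMod.card 2) 2 (by norm_num)
    rw [this]
    norm_num [Finset.prod_range_succ]
  refine ⟨hcardG, phiA.range, phiB.range, ?_, ?_, ?_, ?_, ?_, ?_⟩
  · exact ⟨(MonoidHom.ofInjective phiA_injective).symm.trans sl2EquivPerm⟩
  · exact ⟨(MonoidHom.ofInjective phiB_injective).symm.trans sl2EquivPerm⟩
  · rw [eq_bot_iff]
    rintro x ⟨⟨g, rfl⟩, ⟨h, hh⟩⟩
    obtain ⟨hg, -⟩ := phiA_eq_phiB g h hh.symm
    rw [hg, map_one]
    exact Subgroup.mem_bot.2 rfl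
  · rintro a ⟨g, rfl⟩ b ⟨h, rfl⟩
    exact phiA_phiB_comm g h
  · have hcomm : ∀ (g h : SL2), Commute (phiA g) (phiB h) := fun g h => phiA_phiB_comm g h
    have hdisj : Disjoint phiA.range phiB.range := by
      rw [Subgroup.disjoint_def]
      rintro x ⟨g, rfl⟩ ⟨h, hh⟩
      obtain ⟨hg, -⟩ := phiA_eq_phiB g h hh.symm
      rw [hg, map_one]
    have hinj : Function.Injective (MonoidHom.noncommCoprod phiA phiB hcomm) :=
      (MonoidHom.noncommCoprod_injective _ _ _).2 ⟨phiA_injective, phiB_injective, hdisj⟩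
    have hrange := MonoidHom.noncommCoprod_range phiA phiB hcomm
    have hcard : Nat.card ↥(phiA.range ⊔ phiB.range) = 36 := by
      rw [← hrange, ← Nat.card_congr (MonoidHom.ofInjective hinj).toEquiv, Nat.card_prod,
        Nat.card_eq_fintype_card]
      decide
    have := Subgroup.card_mul_index (phiA.range ⊔ phiB.range)
    rw [hcard, hcardG] at this
    omega
  · refine ⟨gT, ?_⟩
    ext x
    constructor
    · rintro ⟨a, ⟨g, rfl⟩, rfl⟩
      exact ⟨(g.transpose)⁻¹, (conj_phiA g).symm⟩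
    · rintro ⟨h, rfl⟩
      refine ⟨phiA (h⁻¹).transpose, ⟨_, rfl⟩, ?_⟩
      show gT * phiA (h⁻¹).transpose * gT⁻¹ = phiB h
      rw [conj_phiA]
      congr 1
      have : (h⁻¹).transpose.transpose = h⁻¹ := Subtype.ext (Matrix.transpose_transpose _)
      rw [this, inv_inv]

end Cfsg.Agent.S2566
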