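import Cfsg.Statements.S5091
import Cfsg.Agent.Lib.Helper87.Model
import Cfsg.Agent.Lib.Helper87.FibreIso

set_option autoImplicit false
open Cfsg

namespace Cfsg.Agent.S5091

open Cfsg.FusionSystem Cfsg.Agent.Lib.Helper87

/-- The preimages of `O_p` of two models are comparable (hence equal). -/
theorem pull_pCore_le {Ω : Type*} [Group Ω] {S : Subgroup Ω} [Finite S] (p : ℕ) [Fact p.Prime]
    (hS : IsPGroup p S) (F : FusionSystem S) {G₁ G₂ : Type*} [Group G₁] [Group G₂]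
    (ι₁ : S →* G₁) (ι₂ : S →* G₂) (h₁ : F.IsModel p G₁ ι₁) (h₂ : F.IsModel p G₂ ι₂) :
    pull ι₁ (pCore p G₁) ≤ pull ι₂ (pCore p G₂) := by
  obtain ⟨hfin₁, hreal₁, ⟨T₁, hT₁⟩, hC₁⟩ := h₁
  haveI := Cfsg.Agent.Lib.Helper52.pCore_normal p G₁
  have hQT₁ : pCore p G₁ ≤ ι₁.range := by
    rw [← hT₁]; exact Cfsg.Agent.Lib.Helper52.pCore_le_sylow p G₁ T₁
  have hnorm := isNormal_pull_of_normal F hreal₁ (pCore p G₁) hQT₁
  have hle := map_le_pCore_of_isNormal p hS F ι₂ h₂ _ hnorm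
  intro x hx
  have hxS := pull_le ι₁ _ hx
  exact mem_pull.mpr ⟨hxS, hle ⟨⟨x, hxS⟩, hx, rfl⟩⟩

/-- An automorphism of `O` induced by one realization is induced by any other. -/
theorem exists_autHom_eq {Ω : Type*} [Group Ω] {S : Subgroup Ω} (F : FusionSystem S)
    {O : Subgroup Ω} (hOS : O ≤ S) {G G' : Type*} [Group G] [Group G'] (ι : S →* G) (ι' : S →* G')
    (hreal : F.IsRealizedBy ι) (hreal' : F.IsRealizedBy ι') (hn : (push ι O).Normal)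
    (hn' : (push ι' O).Normal) (g : G) :
    ∃ g' : G', autHom hreal'.1 hOS hn' g' = autHom hreal.1 hOS hn g := by
  have hφ : O.subtype.comp (autHom hreal.1 hOS hn g).toMonoidHom ∈ F.Hom O :=
    (hreal.2 O hOS _ (fun x => hOS (Subtype.prop _))).mpr
      ⟨g, fun x => ι_autHom hreal.1 hOS hn g x⟩
  obtain ⟨g', hg'⟩ := exists_conj_of_mem_hom F hreal' hφ
  refine ⟨g', ?_⟩
  ext x
  have e1 := ι_autHom hreal'.1 hOS hn' g' x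
  have e2 := hg' x
  have e3 : ι' ⟨autHom hreal'.1 hOS hn' g' x, hOS (Subtype.prop _)⟩ =
      ι' ⟨autHom hreal.1 hOS hn g x, hOS (Subtype.prop _)⟩ := by
    rw [e1]; exact e2.symm
  exact congrArg (fun z : S => (z : Ω)) (hreal'.1 e3)

/-- Model Theorem, uniqueness: two models of a constrained saturated fusion system over a finite p-group S are isomorphic by an isomorphism compatible with the two embeddings of S. -/
theorem result {Ω : Type*} [Group Ω] {S : Subgroup Ω} [Finite S] (p : ℕ) [Fact p.Prime] (hS : IsPGroup p S) (F : Cfsg.FusionSystem S) (hF : F.IsConstrained p) {G₁ G₂ : Type*} [Group G₁] [Group G₂] (ι₁ : S →* G₁) (ι₂ : S →* G₂) (h₁ : F.IsModel p G₁ ι₁) (h₂ : F.IsModel p G₂ ι₂) : ∃ φ : G₁ ≃* G₂, ∀ x : S, φ (ι₁ x) = ι₂ x := by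
  classical
  have hOeq : pull ι₁ (pCore p G₁) = pull ι₂ (pCore p G₂) :=
    le_antisymm (pull_pCore_le p hS F ι₁ ι₂ h₁ h₂) (pull_pCore_le p hS F ι₂ ι₁ h₂ h₁)
  obtain ⟨hfin₁, hreal₁, ⟨T₁, hT₁⟩, hC₁⟩ := h₁
  obtain ⟨hfin₂, hreal₂, ⟨T₂, hT₂⟩, hC₂⟩ := h₂
  have hinj₁ := hreal₁.1
  have hinj₂ := hreal₂.1
  have hQT₁ : pCore p G₁ ≤ ι₁.range := by
    rw [← hT₁]; exact Cfsg.Agent.Lib.Helper52.pCore_le_sylow p G₁ T₁
  have hQT₂ : pCore p G₂ ≤ ι₂.range := by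
    rw [← hT₂]; exact Cfsg.Agent.Lib.Helper52.pCore_le_sylow p G₂ T₂
  obtain ⟨O, hO⟩ : ∃ O : Subgroup Ω, O = pull ι₁ (pCore p G₁) := ⟨_, rfl⟩
  have hOS : O ≤ S := by rw [hO]; exact pull_le ι₁ _
  have hpush₁ : push ι₁ O = pCore p G₁ := by rw [hO]; exact push_pull ι₁ hQT₁
  have hpush₂ : push ι₂ O = pCore p G₂ := by rw [hO, hOeq]; exact push_pull ι₂ hQT₂
  have hn₁ : (push ι₁ O).Normal := by
    rw [hpush₁]; exact Cfsg.Agent.Lib.Helper52.pCore_normal p G₁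
  have hn₂ : (push ι₂ O).Normal := by
    rw [hpush₂]; exact Cfsg.Agent.Lib.Helper52.pCore_normal p G₂
  -- kernels
  have hker₁ : ∀ g₁ : G₁, autHom hinj₁ hOS hn₁ g₁ = 1 → g₁ ∈ pCore p G₁ := by
    intro g₁ h
    rw [autHom_eq_one_iff, hpush₁] at h
    exact hC₁ h
  have hker₂ : ∀ g₂ : G₂, autHom hinj₂ hOS hn₂ g₂ = 1 → g₂ ∈ pCore p G₂ := by
    intro g₂ h
    rw [autHom_eq_one_iff, hpush₂] at h
    exact hC₂ h
  have hcent₂ : ∀ g₂ : G₂, autHom hinj₂ hOS hn₂ g₂ = 1 →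
      g₂ ∈ Subgroup.centralizer ((pCore p G₂ : Subgroup G₂) : Set G₂) := by
    intro g₂ h
    rw [autHom_eq_one_iff, hpush₂] at h
    exact h
  refine exists_iso_of_fibre p ι₁ ι₂ hinj₁ hinj₂ (autHom hinj₁ hOS hn₁) (autHom hinj₂ hOS hn₂)
    ?_ ?_ ?_ ?_ ?_ ?_ ?_ ?_ ?_
  · -- compatibility on `S`
    intro s
    ext x
    rw [autHom_ι, autHom_ι]
  · intro g₁
    exact exists_autHom_eq F hOS ι₁ ι₂ hreal₁ hreal₂ hn₁ hn₂ g₁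
  · intro g₂
    exact exists_autHom_eq F hOS ι₂ ι₁ hreal₂ hreal₁ hn₂ hn₁ g₂
  · intro g₁ h
    exact hQT₁ (hker₁ g₁ h)
  · intro g₂ h
    exact hQT₂ (hker₂ g₂ h)
  · refine (Cfsg.Agent.Lib.Helper52.pCore_isPGroup p G₂).to_le ?_
    intro g₂ h
    exact hker₂ g₂ (MonoidHom.mem_ker.mp h)
  · intro a b ha hb
    have h1 := Subgroup.mem_centralizer_iff.mp (hcent₂ b hb) a (hker₂ a ha)
    exact h1
  · rw [← hT₁]
    exact T₁.not_dvd_index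
  · -- stability
    intro g₁ g₂ hg
    have hRS : pull ι₁ ((ι₁.range).comap (MulAut.conj g₁⁻¹).toMonoidHom) ≤ S := pull_le ι₁ _
    have hrange : ∀ x : ↥(pull ι₁ ((ι₁.range).comap (MulAut.conj g₁⁻¹).toMonoidHom)),
        g₁⁻¹ * ι₁ ⟨x, hRS x.2⟩ * g₁⁻¹⁻¹ ∈ ι₁.range := fun x => (mem_pull.mp x.2).2
    have hφ := pullConj_mem_hom F hreal₁ _ hRS g₁⁻¹ hrange
    obtain ⟨h₂, hh₂⟩ := exists_conj_of_mem_hom F hreal₂ hφ
    have hOR : O ≤ pull ι₁ ((ι₁.range).comap (MulAut.conj g₁⁻¹).toMonoidHom) := by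
      intro x hx
      refine mem_pull.mpr ⟨hOS hx, ?_⟩
      show g₁⁻¹ * ι₁ ⟨x, hOS hx⟩ * g₁⁻¹⁻¹ ∈ ι₁.range
      have h1 : ι₁ ⟨x, hOS hx⟩ ∈ push ι₁ O := mem_push.mpr ⟨⟨x, hOS hx⟩, hx, rfl⟩
      have h2 := hn₁.conj_mem _ h1 g₁⁻¹
      rw [hpush₁] at h2
      exact hQT₁ h2
    have hkey : autHom hinj₂ hOS hn₂ h₂ = (autHom hinj₂ hOS hn₂ g₂)⁻¹ := by
      rw [← hg, ← map_inv]
      ext x
      have e1 := ι_autHom hinj₂ hOS hn₂ h₂ x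
      have e2 := hh₂ ⟨x, hOR x.2⟩
      have e3 := ι_pullConj ι₁ hinj₁ _ hRS g₁⁻¹ hrange ⟨x, hOR x.2⟩
      have e4 := ι_autHom hinj₁ hOS hn₁ g₁⁻¹ x
      have e5 : pullConj ι₁ hinj₁ _ hRS g₁⁻¹ hrange ⟨x, hOR x.2⟩ =
          ((autHom hinj₁ hOS hn₁ g₁⁻¹ x : O) : Ω) := by
        have : ι₁ ⟨pullConj ι₁ hinj₁ _ hRS g₁⁻¹ hrange ⟨x, hOR x.2⟩,
            pullConj_mem ι₁ hinj₁ _ hRS g₁⁻¹ hrange _⟩ =
            ι₁ ⟨((autHom hinj₁ hOS hn₁ g₁⁻¹ x : O) : Ω), hOS (Subtype.prop _)⟩ := by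
          rw [e3, e4]
        exact congrArg (fun z : S => (z : Ω)) (hinj₁ this)
      have e6 : ι₂ ⟨((autHom hinj₂ hOS hn₂ h₂ x : O) : Ω), hOS (Subtype.prop _)⟩ =
          ι₂ ⟨((autHom hinj₁ hOS hn₁ g₁⁻¹ x : O) : Ω), hOS (Subtype.prop _)⟩ := by
        rw [e1]
        have e2' : ι₂ ⟨pullConj ι₁ hinj₁ _ hRS g₁⁻¹ hrange ⟨x, hOR x.2⟩,
            hom_mem F hφ ⟨x, hOR x.2⟩⟩ = h₂ * ι₂ ⟨x, hOS x.2⟩ * h₂⁻¹ := e2
        rw [← e2']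
        congr 1
        exact Subtype.ext e5
      exact congrArg (fun z : S => (z : Ω)) (hinj₂ e6)
    refine ⟨g₂⁻¹ * h₂⁻¹, ?_, fun s s' hs => ?_⟩
    · rw [map_mul, map_inv, map_inv, hkey, inv_inv, inv_mul_cancel]
    · have hsR : (s : Ω) ∈ pull ι₁ ((ι₁.range).comap (MulAut.conj g₁⁻¹).toMonoidHom) := by
        refine mem_pull.mpr ⟨s.2, ?_⟩
        show g₁⁻¹ * ι₁ s * g₁⁻¹⁻¹ ∈ ι₁.range
        rw [inv_inv, hs]
        exact ⟨s', rfl⟩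
      have e1 := ι_pullConj ι₁ hinj₁ _ hRS g₁⁻¹ hrange ⟨s, hsR⟩
      have e2 := hh₂ ⟨s, hsR⟩
      have e3 : pullConj ι₁ hinj₁ _ hRS g₁⁻¹ hrange ⟨s, hsR⟩ = (s' : Ω) := by
        have : ι₁ ⟨pullConj ι₁ hinj₁ _ hRS g₁⁻¹ hrange ⟨s, hsR⟩,
            pullConj_mem ι₁ hinj₁ _ hRS g₁⁻¹ hrange _⟩ = ι₁ s' := by
          rw [e1, ← hs, inv_inv]
        exact congrArg (fun z : S => (z : Ω)) (hinj₁ this)
      have e4 : ι₂ s' = h₂ * ι₂ s * h₂⁻¹ := by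
        have e2' : ι₂ ⟨pullConj ι₁ hinj₁ _ hRS g₁⁻¹ hrange ⟨s, hsR⟩,
            hom_mem F hφ ⟨s, hsR⟩⟩ = h₂ * ι₂ s * h₂⁻¹ := e2
        rw [← e2']
        congr 1
        exact Subtype.ext e3.symm
      rw [e4]
      group

end Cfsg.Agent.S5091
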