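import Cfsg.Statements.S5103
import Cfsg.Agent.Lib.Helper87.FusionRealized
import Cfsg.Agent.Lib.Helper52.PCore

set_option autoImplicit false
open Cfsg

namespace Cfsg.Agent.S5103

open Cfsg.Agent.Lib.Helper87 Cfsg.FusionSystem

/-- A fusion system over a finite p-group that has a model (a finite group realizing it on a Sylow p-subgroup with self-centralizing largest normal p-subgroup) is constrained. -/
theorem result {Ω : Type*} [Group Ω] {S : Subgroup Ω} [Finite S] (p : ℕ) [Fact p.Prime] (hS : IsPGroup p S) (F : Cfsg.FusionSystem S) {G : Type*} [Group G] (ι : S →* G) (hG : F.IsModel p G ι) : F.IsConstrained p := by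
  obtain ⟨hfin, hι, ⟨T, hT⟩, hcent⟩ := hG
  have hinj := hι.1
  refine ⟨isSaturated_of_realized F hι T hT, ?_⟩
  set O := pCore p G with hO
  have hOn : O.Normal := Cfsg.Agent.Lib.Helper52.pCore_normal p G
  have hOT : O ≤ ι.range := by
    rw [← hT]; exact Cfsg.Agent.Lib.Helper52.pCore_le_sylow p G T
  set Q := pull ι O with hQdef
  have hQS : Q ≤ S := pull_le ι O
  have hpush : push ι Q = O := push_pull ι hOT
  have hQmem : ∀ {x : Ω} (hx : x ∈ S), x ∈ Q ↔ ι ⟨x, hx⟩ ∈ O := by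
    intro x hx
    rw [hQdef, mem_pull]
    exact ⟨fun ⟨_, h⟩ => h, fun h => ⟨hx, h⟩⟩
  refine ⟨Q, ⟨hQS, fun P φ hφ => ?_⟩, hQS, fun R hR => ?_⟩
  · -- normal
    have hP : P ≤ S := hom_le F hφ
    obtain ⟨g, hg⟩ := exists_conj_of_mem_hom F hι hφ
    have hsup : P ⊔ Q ≤ S := sup_le hP hQS
    have hW : P ⊔ Q ≤ pull ι ((ι.range).comap (MulAut.conj g).toMonoidHom) := by
      refine sup_le ?_ ?_
      · intro x hx
        refine mem_pull.mpr ⟨hP hx, ?_⟩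
        show g * ι ⟨x, hP hx⟩ * g⁻¹ ∈ ι.range
        rw [← hg ⟨x, hx⟩]; exact ⟨_, rfl⟩
      · intro x hx
        refine mem_pull.mpr ⟨hQS hx, ?_⟩
        show g * ι ⟨x, hQS hx⟩ * g⁻¹ ∈ ι.range
        exact hOT (hOn.conj_mem _ ((hQmem (hQS hx)).mp hx) g)
    have hrange : ∀ y : ↥(P ⊔ Q), g * ι ⟨y, hsup y.2⟩ * g⁻¹ ∈ ι.range := by
      intro y
      obtain ⟨_, h2⟩ := mem_pull.mp (hW y.2)
      exact h2
    refine ⟨pullConj ι hinj (P ⊔ Q) hsup g hrange, pullConj_mem_hom F hι (P ⊔ Q) hsup g hrange,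
      fun x => ?_, ?_⟩
    · have h1 := ι_pullConj ι hinj (P ⊔ Q) hsup g hrange (Subgroup.inclusion le_sup_left x)
      have h2 : ι ⟨pullConj ι hinj (P ⊔ Q) hsup g hrange (Subgroup.inclusion le_sup_left x),
          pullConj_mem ι hinj (P ⊔ Q) hsup g hrange _⟩ = ι ⟨φ x, hom_mem F hφ x⟩ := by
        rw [h1, hg x]; rfl
      exact congrArg (fun z : S => (z : Ω)) (hinj h2)
    · ext y
      constructor
      · rintro ⟨q, hq, rfl⟩
        have hqQ : (q : Ω) ∈ Q := hq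
        rw [hQmem (pullConj_mem ι hinj (P ⊔ Q) hsup g hrange q), ι_pullConj]
        exact hOn.conj_mem _ ((hQmem (hsup q.2)).mp hqQ) g
      · intro hy
        have hyO : ι ⟨y, hQS hy⟩ ∈ O := (hQmem (hQS hy)).mp hy
        have h1 : g⁻¹ * ι ⟨y, hQS hy⟩ * g⁻¹⁻¹ ∈ O := hOn.conj_mem _ hyO g⁻¹
        obtain ⟨q, hq⟩ := hOT h1
        have hqQ : (q : Ω) ∈ Q := (hQmem q.2).mpr (by rw [hq]; exact h1)
        refine ⟨⟨q, (le_sup_right : Q ≤ P ⊔ Q) hqQ⟩, hqQ, ?_⟩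
        have h2 := ι_pullConj ι hinj (P ⊔ Q) hsup g hrange ⟨q, (le_sup_right : Q ≤ P ⊔ Q) hqQ⟩
        have h3 : ι ⟨pullConj ι hinj (P ⊔ Q) hsup g hrange ⟨q, (le_sup_right : Q ≤ P ⊔ Q) hqQ⟩,
            pullConj_mem ι hinj (P ⊔ Q) hsup g hrange _⟩ = ι ⟨y, hQS hy⟩ := by
          rw [h2]
          have : ι ⟨(q : Ω), hsup ((le_sup_right : Q ≤ P ⊔ Q) hqQ)⟩ = ι q := rfl
          rw [this, hq]; group
        exact congrArg (fun z : S => (z : Ω)) (hinj h3)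
  · -- centric
    obtain ⟨φ, hφ, hφr⟩ := hR
    obtain ⟨g, hg⟩ := exists_conj_of_mem_hom F hι hφ
    have hRQ : R = Q := by
      rw [← hφr]
      ext y
      constructor
      · rintro ⟨x, rfl⟩
        rw [hQmem (hom_mem F hφ x), hg]
        exact hOn.conj_mem _ ((hQmem (hQS x.2)).mp x.2) g
      · intro hy
        have hyO : ι ⟨y, hQS hy⟩ ∈ O := (hQmem (hQS hy)).mp hy
        have h1 : g⁻¹ * ι ⟨y, hQS hy⟩ * g⁻¹⁻¹ ∈ O := hOn.conj_mem _ hyO g⁻¹
        obtain ⟨q, hq⟩ := hOT h1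
        have hqQ : (q : Ω) ∈ Q := (hQmem q.2).mpr (by rw [hq]; exact h1)
        refine ⟨⟨q, hqQ⟩, ?_⟩
        have h3 : ι ⟨φ ⟨q, hqQ⟩, hom_mem F hφ _⟩ = ι ⟨y, hQS hy⟩ := by
          rw [hg]
          have : ι ⟨(q : Ω), hQS hqQ⟩ = ι q := rfl
          rw [this, hq]; group
        exact congrArg (fun z : S => (z : Ω)) (hinj h3)
    rw [hRQ]
    intro c hc
    obtain ⟨hcS, hcc⟩ := mem_centralizerIn.mp hc
    rw [hQmem hcS]
    apply hcent
    rw [Subgroup.mem_centralizer_iff]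
    intro z hz
    obtain ⟨q, hq⟩ := hOT hz
    have hqQ : (q : Ω) ∈ Q := (hQmem q.2).mpr (by rw [hq]; exact hz)
    rw [← hq, ← map_mul, ← map_mul]
    congr 1
    exact Subtype.ext (hcc q hqQ)

end Cfsg.Agent.S5103
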