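import Cfsg.Statements.S5343
import Cfsg.Agent.Lib.Helper87.CutNormal
import Cfsg.Agent.Lib.Helper87.KNormalizer

set_option autoImplicit false
universe u
open Cfsg

namespace Cfsg.Agent.S5343

open Cfsg.FusionSystem Cfsg.Agent.Lib.Helper87 Cfsg.Agent.Lib.Helper88

variable {Ω : Type u} [Group Ω] {S : Subgroup Ω}

/-- A realization on a Sylow subgroup passes to the quotient by a normal subgroup meeting the image of
`S` trivially. -/
theorem realizes_quotient {G : Type u} [Group G] [Finite G] (F : FusionSystem S) (p : ℕ)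
    [Fact p.Prime] (ι : S →* G) (hι : F.IsRealizedBy ι) (T : Sylow p G)
    (hT : (T : Subgroup G) = ι.range) (N : Subgroup G) [hN : N.Normal] (hbot : pull ι N = ⊥) :
    F.IsRealizedBy ((QuotientGroup.mk' N).comp ι) ∧
      ∃ T' : Sylow p (G ⧸ N), (T' : Subgroup (G ⧸ N)) = ((QuotientGroup.mk' N).comp ι).range := by
  have hdisj : ∀ s : S, ι s ∈ N → s = 1 := by
    intro s hs
    have h1 : (s : Ω) ∈ pull ι N := mem_pull.mpr ⟨s.2, hs⟩
    rw [hbot, Subgroup.mem_bot] at h1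
    exact Subtype.ext h1
  have hinj' : Function.Injective ((QuotientGroup.mk' N).comp ι) := by
    rw [injective_iff_map_eq_one]
    intro s hs
    have h1 : ι s ∈ N := by
      rwa [MonoidHom.comp_apply, QuotientGroup.mk'_apply, QuotientGroup.eq_one_iff] at hs
    exact hdisj s h1
  have hsyl : IsSylowIn p (T : Subgroup G) ⊤ := by
    rw [isSylowIn_iff_card le_top, Subgroup.card_top]
    exact T.card_eq_multiplicity
  refine ⟨⟨hinj', fun P hP φ hφ => ⟨?_, ?_⟩⟩, ?_⟩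
  · intro h
    obtain ⟨g, hg⟩ := exists_conj_of_mem_hom F hι h
    refine ⟨QuotientGroup.mk' N g, fun x => ?_⟩
    have := hg x
    simp only [MonoidHom.comp_apply]
    rw [this, map_mul, map_mul, map_inv]
  · rintro ⟨q, hq⟩
    obtain ⟨g, rfl⟩ := QuotientGroup.mk'_surjective N q
    have hcong : ∀ x : P, (g * ι ⟨x, hP x.2⟩ * g⁻¹)⁻¹ * ι ⟨φ x, hφ x⟩ ∈ N := by
      intro x
      have h1 := hq x
      simp only [MonoidHom.comp_apply] at h1
      rw [← map_inv, ← map_mul, ← map_mul] at h1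
      exact QuotientGroup.eq.mp h1.symm
    have hPT : push ι P ≤ (T : Subgroup G) := by rw [hT]; exact push_le_range ι P
    have hUp : IsPGroup p ((push ι P).map (MulAut.conj g).toMonoidHom) :=
      (T.isPGroup'.to_le hPT).map _
    have hUle : (push ι P).map (MulAut.conj g).toMonoidHom ≤ (T : Subgroup G) ⊔ N := by
      rintro _ ⟨y, hy, rfl⟩
      obtain ⟨s, hs, rfl⟩ := mem_push.mp hy
      have h1 := hcong ⟨s, hs⟩
      have h2 : (MulAut.conj g).toMonoidHom (ι s) =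
          ι ⟨φ ⟨s, hs⟩, hφ ⟨s, hs⟩⟩ * ((g * ι s * g⁻¹)⁻¹ * ι ⟨φ ⟨s, hs⟩, hφ ⟨s, hs⟩⟩)⁻¹ := by
        show g * ι s * g⁻¹ = _
        group
      rw [h2]
      refine Subgroup.mul_mem _ (Subgroup.mem_sup_left ?_) (Subgroup.mem_sup_right (N.inv_mem h1))
      rw [hT]; exact ⟨_, rfl⟩
    obtain ⟨c, hc, hcU⟩ := hsyl.exists_conj_le_of_le_sup le_top le_top
      (fun m _ c hc => hN.conj_mem c hc m) hUle hUp
    refine (hι.2 P hP φ hφ).mpr ⟨c * g, fun x => ?_⟩
    have h1 : c * (g * ι ⟨x, hP x.2⟩ * g⁻¹) * c⁻¹ ∈ (T : Subgroup G) :=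
      hcU _ ⟨ι ⟨x, hP x.2⟩, coe_mem_push hP x, rfl⟩
    rw [hT] at h1
    obtain ⟨s, hs⟩ := h1
    have h2 : ι (s⁻¹ * ⟨φ x, hφ x⟩) ∈ N := by
      rw [map_mul, map_inv, hs]
      have h3 : (c * (g * ι ⟨x, hP x.2⟩ * g⁻¹) * c⁻¹)⁻¹ * ι ⟨φ x, hφ x⟩ =
          c * ((g * ι ⟨x, hP x.2⟩ * g⁻¹)⁻¹ * c⁻¹ * (g * ι ⟨x, hP x.2⟩ * g⁻¹)⁻¹⁻¹) *
            ((g * ι ⟨x, hP x.2⟩ * g⁻¹)⁻¹ * ι ⟨φ x, hφ x⟩) := by group
      rw [h3]
      exact N.mul_mem (N.mul_mem hc (hN.conj_mem _ (N.inv_mem hc) _)) (hcong x)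
    have h4 := hdisj _ h2
    have h5 : s = ⟨φ x, hφ x⟩ := by
      have := congrArg (fun z => s * z) h4
      simpa using this.symm
    rw [← h5, hs]
    group
  · refine ⟨T.mapSurjective (QuotientGroup.mk'_surjective N), ?_⟩
    rw [Sylow.coe_mapSurjective, hT, MonoidHom.range_comp]

/-- If the cut system of `N` is all of `F`, then `N` realizes `F`. -/
theorem realizes_subgroup {G : Type u} [Group G] [Finite G] (F : FusionSystem S) (p : ℕ)
    [Fact p.Prime] (ι : S →* G) (hι : F.IsRealizedBy ι) (T : Sylow p G)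
    (hT : (T : Subgroup G) = ι.range) (N : Subgroup G) [hN : N.Normal] (htop : pull ι N = S)
    (hHom : ∀ P : Subgroup Ω, (cutSystem F ι N).Hom P = F.Hom P) :
    ∃ ι' : S →* N, F.IsRealizedBy ι' ∧ ∃ T' : Sylow p N, (T' : Subgroup N) = ι'.range := by
  have hmemN : ∀ s : S, ι s ∈ N := by
    intro s
    have h1 : (s : Ω) ∈ pull ι N := by rw [htop]; exact s.2
    exact (mem_pull.mp h1).2
  have hTN : (T : Subgroup G) ≤ N := by
    rw [hT]; rintro _ ⟨s, rfl⟩; exact hmemN s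
  refine ⟨ι.codRestrict N hmemN, ⟨?_, fun P hP φ hφ => ⟨?_, ?_⟩⟩, T.subtype hTN, ?_⟩
  · intro a b hab
    exact hι.1 (congrArg Subtype.val hab)
  · intro h
    rw [← hHom P] at h
    obtain ⟨-, -, n, hn, hnφ⟩ := h
    exact ⟨⟨n, hn⟩, fun x => Subtype.ext (hnφ x (hP x.2) (hφ x))⟩
  · rintro ⟨g, hg⟩
    exact (hι.2 P hP φ hφ).mpr ⟨g, fun x => congrArg Subtype.val (hg x)⟩
  · rw [Sylow.coe_subtype]
    ext y
    rw [Subgroup.mem_subgroupOf, hT]
    constructor
    · rintro ⟨s, hs⟩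
      exact ⟨s, Subtype.ext hs⟩
    · rintro ⟨s, rfl⟩
      exact ⟨s, rfl⟩

/-- Let F be a simple saturated fusion system over a finite p-group S that is realized by some finite group on a Sylow p-subgroup. Then F is realized by a finite simple group on a Sylow p-subgroup. -/
theorem result {Ω : Type u} [Group Ω] {S : Subgroup Ω} [Finite S] (p : ℕ) [Fact p.Prime] (hS : IsPGroup p S) (F : Cfsg.FusionSystem S) (hsimple : F.IsSimple p) (hreal : F.IsRealizable p) : ∃ (G : Type u) (_ : Group G) (_ : Finite G) (_ : IsSimpleGroup G) (ι : ↥S →* G), F.IsRealizedBy ι ∧ ∃ T : Sylow p G, (T : Subgroup G) = ι.range := by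
  classical
  have hex : ∃ n : ℕ, ∃ (G : Type u) (_ : Group G) (_ : Finite G) (ι : S →* G),
      Nat.card G = n ∧ F.IsRealizedBy ι ∧ ∃ T : Sylow p G, (T : Subgroup G) = ι.range := by
    obtain ⟨G, i1, i2, ι, h1, h2⟩ := hreal
    exact ⟨Nat.card G, G, i1, i2, ι, rfl, h1, h2⟩
  obtain ⟨G, iG, iF, ι, hcard, hι, T, hT⟩ := Nat.find_spec hex
  have hmin : ∀ (G' : Type u) (_ : Group G') (_ : Finite G') (ι' : S →* G'), F.IsRealizedBy ι' →
      (∃ T' : Sylow p G', (T' : Subgroup G') = ι'.range) → Nat.card G ≤ Nat.card G' := by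
    intro G' i1 i2 ι' h1 h2
    rw [hcard]
    exact Nat.find_min' hex ⟨G', i1, i2, ι', rfl, h1, h2⟩
  refine ⟨G, iG, iF, ?_, ι, hι, T, hT⟩
  have hnt : Nontrivial G := by
    obtain ⟨-, hSne, -⟩ := hsimple
    obtain ⟨s, hs1⟩ := (Subgroup.ne_bot_iff_exists_ne_one).mp hSne
    refine ⟨ι s, 1, fun h => hs1 ?_⟩
    exact hι.1 (h.trans (map_one ι).symm)
  refine { toNontrivial := hnt, eq_bot_or_eq_top_of_normal := fun N hN => ?_ }
  haveI := hN
  have hnormal := cutSystem_isNormalIn F hι N p T hT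
  rcases hsimple.2.2 _ _ hnormal with hbot | ⟨htop, hHom⟩
  · left
    obtain ⟨h1, h2⟩ := realizes_quotient F p ι hι T hT N hbot
    have hle := hmin (G ⧸ N) inferInstance inferInstance _ h1 h2
    have hmul : Nat.card G = Nat.card (G ⧸ N) * Nat.card N :=
      Subgroup.card_eq_card_quotient_mul_card_subgroup N
    have hpos : 0 < Nat.card (G ⧸ N) := Nat.card_pos
    have hposN : 0 < Nat.card N := Nat.card_pos
    have h3 : Nat.card N = 1 := by nlinarith
    exact Subgroup.card_eq_one.mp h3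
  · right
    obtain ⟨ι', h1, h2⟩ := realizes_subgroup F p ι hι T hT N htop hHom
    have hle := hmin N inferInstance inferInstance ι' h1 h2
    exact Subgroup.eq_top_of_le_card _ hle

end Cfsg.Agent.S5343
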