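import Cfsg.Statements.S5093
import Cfsg.Agent.S5092
import Cfsg.Agent.Lib.Helper87.Hyperfocal

set_option autoImplicit false
open Cfsg

namespace Cfsg.Agent.S5093

open Cfsg.FusionSystem Cfsg.Agent.Lib.Helper87

/-- Hyperfocal subgroup Theorem: for a finite group G with Sylow p-subgroup S, the hyperfocal subgroup of the fusion system of G on S equals S ∩ O^p(G), where O^p(G) is the subgroup generated by the elements of order prime to p. -/
theorem result {G : Type*} [Group G] [Finite G] (p : ℕ) [Fact p.Prime] (S : Sylow p G) : (Cfsg.groupFusionSystem (S : Subgroup G)).hyperfocalSubgroup p = (S : Subgroup G) ⊓ Cfsg.pResidual p G := by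
  apply le_antisymm (hyperfocal_group_le p (S : Subgroup G))
  have hn := Cfsg.Agent.Lib.Helper42.pResidual_normal p G
  have hTp : IsPGroup p ((S : Subgroup G) ⊓ Cfsg.pResidual p G : Subgroup G) :=
    S.isPGroup'.to_le inf_le_left
  have hEsat : (relFusionSystem (Cfsg.pResidual p G) ((S : Subgroup G) ⊓ Cfsg.pResidual p G)
      inf_le_right).IsSaturated p := by
    obtain ⟨T', hT'⟩ := Cfsg.Agent.Lib.Helper90.exists_sylow_eq_subgroupOf S (Cfsg.pResidual p G)
    apply isSaturated_of_realized _ (relFusionSystem_realized _ _ inf_le_right) T'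
    rw [hT']
    ext k
    rw [Subgroup.mem_subgroupOf]
    constructor
    · intro hk
      exact ⟨⟨k, hk, k.2⟩, rfl⟩
    · rintro ⟨t, rfl⟩
      exact t.2.1
  have h1 := Cfsg.Agent.S5092.result p hTp _ hEsat
  have h2 := le_focal_rel p S
  rw [h1] at h2
  exact (le_hyperfocal_of_le_sup p hTp _ h2).trans
    (hyperfocal_rel_le p _ _ (S : Subgroup G) inf_le_right inf_le_left)

end Cfsg.Agent.S5093
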