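import Cfsg.Statements.S5243
import Cfsg.Agent.Lib.Helper88.FusionOL7

set_option autoImplicit false
open Cfsg

namespace Cfsg.Agent.S5243

/-- Let F be a saturated fusion system over a finite p-group S, E a normal subsystem of F over T ≤ S, and χ a surjective homomorphism from Aut_F(T) onto a nontrivial finite group Δ of order prime to p whose kernel contains Aut_E(T). Then there is a proper normal subsystem F₀ of F over S containing E such that Aut_{F₀}(S) consists of those α ∈ Aut_F(S) whose restriction to T is an element of Aut_F(T) in the kernel of χ; moreover every p'-residual subsystem O^{p'}(F) of F is contained in F₀. -/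
theorem result {Ω : Type*} [Group Ω] {S : Subgroup Ω} [Finite S] (p : ℕ) [Fact p.Prime] (hS : IsPGroup p S) (F : Cfsg.FusionSystem S) (hF : F.IsSaturated p) {T : Subgroup Ω} (hTS : T ≤ S) (E : Cfsg.FusionSystem T) (hE : E.IsNormalIn F p) {Δ : Type*} [Group Δ] [Finite Δ] [Nontrivial Δ] (hΔ : (Nat.card Δ).Coprime p) (χ : ↥(F.autGroup T) →* Δ) (hχ : Function.Surjective χ) (hker : (E.autGroup T).subgroupOf (F.autGroup T) ≤ χ.ker) : ∃ F₀ : Cfsg.FusionSystem S, F₀.IsNormalIn F p ∧ ¬ (∀ P : Subgroup Ω, F₀.Hom P = F.Hom P) ∧ E.IsSubsystemOf F₀ ∧ (∀ α : MulAut ↥S, α ∈ F₀.autGroup S ↔ α ∈ F.autGroup S ∧ ∃ β : ↥(F.autGroup T), χ β = 1 ∧ ∀ t : ↥T, (((β : MulAut ↥T) t : ↥T) : Ω) = ((α ⟨(t : Ω), hTS t.2⟩ : ↥S) : Ω)) ∧ ∀ R : Cfsg.FusionSystem S, F.IsPPrimeResidual p R → R.IsSubsystemOf F₀ := by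
  have hEF : E.IsSubsystemOf F := hE.1.2.2.1
  have hK : Cfsg.Agent.Lib.Helper88.OLData F E p (χ.ker.map (F.autGroup T).subtype) := by
    refine ⟨Subgroup.map_subtype_le _, ?_, ?_, ?_⟩
    · rintro a ha _ ⟨k, hk, rfl⟩
      exact ⟨⟨a, ha⟩ * k * ⟨a, ha⟩⁻¹, (inferInstance : χ.ker.Normal).conj_mem k hk ⟨a, ha⟩, rfl⟩
    · intro e he
      have heF : e ∈ F.autGroup T := by
        have hle : E.autGroup T ≤ F.autGroup T := Subgroup.closure_mono (fun a ha => hEF T ha)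
        exact hle he
      have h1 : (⟨e, heF⟩ : F.autGroup T) ∈ (E.autGroup T).subgroupOf (F.autGroup T) :=
        Subgroup.mem_subgroupOf.mpr he
      exact ⟨⟨e, heF⟩, hker h1, rfl⟩
    · rintro a ha e ⟨k, hk, hka⟩
      have hk' : k = (⟨a, ha⟩ : F.autGroup T) ^ (p ^ e) := Subtype.ext hka
      have h1 : χ ⟨a, ha⟩ ^ (p ^ e) = 1 := by
        rw [← map_pow, ← hk']
        exact hk
      have h2 : χ ⟨a, ha⟩ ^ (Nat.card Δ) = 1 := pow_card_eq_one'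
      have h3 : χ ⟨a, ha⟩ ∈ (⊥ : Subgroup Δ) :=
        Cfsg.Agent.Lib.Helper88.mem_of_pow_mem_of_pow_mem_coprime ⊥ (Nat.Coprime.pow_left e hΔ.symm)
          (Subgroup.mem_bot.mpr h1) (Subgroup.mem_bot.mpr h2)
      exact ⟨⟨a, ha⟩, Subgroup.mem_bot.mp h3, rfl⟩
  have hKne : ∃ a ∈ F.autGroup T, a ∉ χ.ker.map (F.autGroup T).subtype := by
    obtain ⟨δ, hδ⟩ := exists_ne (1 : Δ)
    obtain ⟨a, rfl⟩ := hχ δ
    refine ⟨a.1, a.2, ?_⟩
    rintro ⟨k, hk, hka⟩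
    have : k = a := Subtype.ext hka
    rw [this] at hk
    exact hδ hk
  obtain ⟨F₀, h1, h2, h3, h4, h5⟩ := Cfsg.Agent.Lib.Helper88.ol_main p hS F hF hTS E hE hK hKne
  refine ⟨F₀, h1, h2, h3, fun α => ?_, h5⟩
  rw [h4 α]
  constructor
  · rintro ⟨hα, _, ⟨k, hk, rfl⟩, hat⟩
    exact ⟨hα, k, hk, hat⟩
  · rintro ⟨hα, β, hβ, hβt⟩
    exact ⟨hα, β.1, ⟨β, hβ, rfl⟩, hβt⟩

end Cfsg.Agent.S5243
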