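import Cfsg.Statements.S5085
import Cfsg.Agent.Lib.Helper87.FusionBasic

set_option autoImplicit false
open Cfsg

namespace Cfsg.Agent.S5085

open Cfsg.Agent.Lib.Helper87

/-- In any fusion system, a characteristic subgroup of a subgroup that is normal in the system is itself normal in the system. -/
theorem result {Ω : Type*} [Group Ω] {S : Subgroup Ω} (F : Cfsg.FusionSystem S) (Q U : Subgroup Ω) (hQ : F.IsNormal Q) (hUQ : U ≤ Q) (hU : (U.subgroupOf Q).Characteristic) : F.IsNormal U := by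
  obtain ⟨hQS, hQ⟩ := hQ
  refine ⟨hUQ.trans hQS, fun P φ hφ => ?_⟩
  obtain ⟨ψ, hψ, hψφ, hψQ⟩ := hQ P φ hφ
  have hle : P ⊔ U ≤ P ⊔ Q := sup_le_sup_left hUQ P
  have hψinj := F.injective_of_mem hψ
  refine ⟨ψ.comp (Subgroup.inclusion hle), restrict_mem F hle hψ, fun x => hψφ x, ?_⟩
  -- the automorphism of Q induced by ψ
  have hmemQ : ∀ q : Q, ψ ⟨q, (le_sup_right : Q ≤ P ⊔ Q) q.2⟩ ∈ Q := by
    intro q
    exact hψQ.le ⟨⟨q, (le_sup_right : Q ≤ P ⊔ Q) q.2⟩, q.2, rfl⟩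
  let α₀ : Q →* Q := (ψ.comp (Subgroup.inclusion (le_sup_right : Q ≤ P ⊔ Q))).codRestrict Q hmemQ
  have hα₀ : Function.Bijective α₀ := by
    constructor
    · intro a b hab
      have h1 : ψ ⟨a, (le_sup_right : Q ≤ P ⊔ Q) a.2⟩ = ψ ⟨b, (le_sup_right : Q ≤ P ⊔ Q) b.2⟩ :=
        congrArg Subtype.val hab
      have h2 := hψinj h1
      exact Subtype.ext (congrArg (fun z : ↥(P ⊔ Q) => (z : Ω)) h2)
    · intro b
      have hb : (b : Ω) ∈ (Q.subgroupOf (P ⊔ Q)).map ψ := hψQ.ge b.2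
      obtain ⟨y, hy, hyb⟩ := hb
      exact ⟨⟨y, hy⟩, Subtype.ext hyb⟩
  let α : Q ≃* Q := MulEquiv.ofBijective α₀ hα₀
  have hchar := (Subgroup.characteristic_iff_map_eq.mp hU) α
  ext y
  constructor
  · rintro ⟨x, hx, rfl⟩
    have hxU : (x : Ω) ∈ U := hx
    have : α ⟨x, hUQ hxU⟩ ∈ U.subgroupOf Q := by
      rw [← hchar]
      exact ⟨⟨x, hUQ hxU⟩, hxU, rfl⟩
    exact this
  · intro hy
    have : (⟨y, hUQ hy⟩ : Q) ∈ (U.subgroupOf Q).map α.toMonoidHom := by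
      rw [hchar]; exact hy
    obtain ⟨q, hq, hqy⟩ := this
    have hqU : (q : Ω) ∈ U := hq
    refine ⟨⟨q, (le_sup_right : U ≤ P ⊔ U) hqU⟩, hqU, ?_⟩
    exact congrArg Subtype.val hqy

end Cfsg.Agent.S5085
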