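import Cfsg.Statements.S5088
import Cfsg.Agent.S5085
import Cfsg.Agent.S5086
import Cfsg.Agent.Lib.Helper90.FusionNormal
import Cfsg.Agent.Lib.Helper90.StabChain

set_option autoImplicit false
open Cfsg

namespace Cfsg.Agent.S5088

open Cfsg.Agent.Lib.Helper87 (hom_le hom_mem restrict_mem finite_of_le hom_congr subtype_mem mem_centralizerIn isConj_refl centralizerIn_le)
open Cfsg.Agent.Lib.Helper90 Cfsg.FusionSystem
open scoped commutatorElement

variable {Ω : Type*} [Group Ω] {S : Subgroup Ω}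

theorem forward [Finite S] (p : ℕ) [Fact p.Prime] (hS : IsPGroup p S) (F : FusionSystem S)
    (Q : Subgroup Ω) (hQ : F.IsNormal Q) :
    ∃ (n : ℕ) (Qs : Fin (n + 1) → Subgroup Ω), Qs 0 = ⊥ ∧ Qs (Fin.last n) = Q ∧ Monotone Qs ∧
      ∀ i : Fin n, F.StronglyClosed (Qs i.succ) ∧ ⁅Q, Qs i.succ⁆ ≤ Qs (Fin.castSucc i) := by
  obtain ⟨n, hn⟩ := exists_ucs_eq hS hQ.1
  refine ⟨n, fun i => ucs Q i, ucs_zero Q, ucs_eq_self_of_eq_top Q hn, ?_, ?_⟩
  · intro i j hij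
    exact ucs_mono Q hij
  · intro i
    refine ⟨IsNormal.stronglyClosed F
      (Cfsg.Agent.S5085.result F Q (ucs Q (i.succ : Fin (n + 1))) hQ (ucs_le Q _) (ucs_characteristic Q _)), ?_⟩
    have := commutator_ucs_succ_le Q (i : ℕ)
    simpa using this

section backward

/-- The chain induced on `P` by the chain `Qs`, indexed by `ℕ` and completed by `⊤`. -/
def chainOn (P : Subgroup Ω) (n : ℕ) (Qs : Fin (n + 1) → Subgroup Ω) : ℕ → Subgroup P :=
  fun j => if h : j ≤ n then (Qs ⟨j, Nat.lt_succ_of_le h⟩).subgroupOf P else ⊤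

theorem chainOn_of_le (P : Subgroup Ω) (n : ℕ) (Qs : Fin (n + 1) → Subgroup Ω) {j : ℕ} (h : j ≤ n) :
    chainOn P n Qs j = (Qs ⟨j, Nat.lt_succ_of_le h⟩).subgroupOf P := by
  unfold chainOn; rw [dif_pos h]

theorem chainOn_of_not_le (P : Subgroup Ω) (n : ℕ) (Qs : Fin (n + 1) → Subgroup Ω) {j : ℕ} (h : ¬ j ≤ n) :
    chainOn P n Qs j = ⊤ := by
  unfold chainOn; rw [dif_neg h]

theorem chainOn_zero (P : Subgroup Ω) (n : ℕ) (Qs : Fin (n + 1) → Subgroup Ω) (h0 : Qs 0 = ⊥) :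
    chainOn P n Qs 0 = ⊥ := by
  rw [chainOn_of_le P n Qs (Nat.zero_le n)]
  have : (⟨0, Nat.lt_succ_of_le (Nat.zero_le n)⟩ : Fin (n + 1)) = 0 := rfl
  rw [this, h0]
  exact Subgroup.bot_subgroupOf P

theorem chainOn_mono (P : Subgroup Ω) (n : ℕ) (Qs : Fin (n + 1) → Subgroup Ω) (hmono : Monotone Qs) :
    Monotone (chainOn P n Qs) := by
  intro j k hjk
  by_cases hk : k ≤ n
  · have hj : j ≤ n := hjk.trans hk
    rw [chainOn_of_le P n Qs hj, chainOn_of_le P n Qs hk]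
    intro x hx
    have hle : (⟨j, Nat.lt_succ_of_le hj⟩ : Fin (n + 1)) ≤ ⟨k, Nat.lt_succ_of_le hk⟩ := hjk
    exact Subgroup.mem_subgroupOf.mpr (hmono hle (Subgroup.mem_subgroupOf.mp hx))
  · rw [chainOn_of_not_le P n Qs hk]; exact le_top

/-- Conjugation by an element of `Q` normalizing `P` acts trivially on the factors of the chain. -/
theorem conj_chain (Q : Subgroup Ω) (hQn : ∀ g ∈ S, ∀ y ∈ Q, g * y * g⁻¹ ∈ Q) (P : Subgroup Ω) (hPS : P ≤ S)
    (n : ℕ) (Qs : Fin (n + 1) → Subgroup Ω) (hlast : Qs (Fin.last n) = Q)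
    (hsc : ∀ i : Fin n, ⁅Q, Qs i.succ⁆ ≤ Qs (Fin.castSucc i))
    (g : Ω) (hgQ : g ∈ Q) (hgN : g ∈ Subgroup.normalizer (P : Set Ω)) :
    ∀ i, ∀ x ∈ chainOn P n Qs (i + 1),
      x⁻¹ * (P.normalizerMonoidHom ⟨g, hgN⟩) x ∈ chainOn P n Qs i := by
  intro i x hx
  by_cases h1 : i + 1 ≤ n
  · have hi : i ≤ n := by omega
    rw [chainOn_of_le P n Qs h1] at hx
    rw [chainOn_of_le P n Qs hi]
    rw [Subgroup.mem_subgroupOf] at hx ⊢
    have hcomm := hsc ⟨i, by omega⟩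
    have e1 : (⟨i, by omega⟩ : Fin n).succ = ⟨i + 1, Nat.lt_succ_of_le h1⟩ := rfl
    have e2 : Fin.castSucc (⟨i, by omega⟩ : Fin n) = ⟨i, Nat.lt_succ_of_le hi⟩ := rfl
    rw [e1, e2, Subgroup.commutator_comm] at hcomm
    apply hcomm
    have : ((x⁻¹ * (P.normalizerMonoidHom ⟨g, hgN⟩) x : P) : Ω) = ⁅(x : Ω)⁻¹, g⁆ := by
      show (x : Ω)⁻¹ * (g * (x : Ω) * g⁻¹) = (x : Ω)⁻¹ * g * (x : Ω)⁻¹⁻¹ * g⁻¹
      group
    rw [this]
    exact Subgroup.commutator_mem_commutator (Subgroup.inv_mem _ hx) hgQ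
  · by_cases h2 : i ≤ n
    · have hin : i = n := by omega
      subst hin
      rw [chainOn_of_le P i Qs h2]
      rw [Subgroup.mem_subgroupOf]
      have e : (⟨i, Nat.lt_succ_of_le h2⟩ : Fin (i + 1)) = Fin.last i := rfl
      rw [e, hlast]
      show (x : Ω)⁻¹ * (g * (x : Ω) * g⁻¹) ∈ Q
      have h3 : (x : Ω)⁻¹ * g * (x : Ω)⁻¹⁻¹ ∈ Q := hQn _ (S.inv_mem (hPS x.2)) g hgQ
      have e3 : (x : Ω)⁻¹ * (g * (x : Ω) * g⁻¹) = ((x : Ω)⁻¹ * g * (x : Ω)⁻¹⁻¹) * g⁻¹ := by group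
      rw [e3]
      exact Q.mul_mem h3 (Q.inv_mem hgQ)
    · rw [chainOn_of_not_le P n Qs h2]; trivial

theorem le_of_centric_radical [Finite S] (p : ℕ) [Fact p.Prime] (hS : IsPGroup p S) (F : FusionSystem S)
    (Q : Subgroup Ω) (n : ℕ) (Qs : Fin (n + 1) → Subgroup Ω) (h0 : Qs 0 = ⊥)
    (hlast : Qs (Fin.last n) = Q) (hmono : Monotone Qs)
    (hsc : ∀ i : Fin n, F.StronglyClosed (Qs i.succ) ∧ ⁅Q, Qs i.succ⁆ ≤ Qs (Fin.castSucc i))
    (hQsc : F.StronglyClosed Q) (P : Subgroup Ω) (hPc : F.IsCentric P) (hPr : F.IsRadical p P) :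
    Q ≤ P := by
  by_contra hQP
  have hPS := hPc.1
  have : Finite P := finite_of_le hPS
  have hQn := StronglyClosed.conj_mem F hQsc
  obtain ⟨g, hgQ, hgN, hgP⟩ := exists_normalizer_not_mem hS hQsc.1 hPS hQn hQP
  have hscall : ∀ j : Fin (n + 1), F.StronglyClosed (Qs j) := by
    intro j
    refine Fin.cases ?_ (fun i => (hsc i).1) j
    rw [h0]; exact stronglyClosed_bot F
  have hc0 := chainOn_zero P n Qs h0
  have hcm := chainOn_mono P n Qs hmono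
  have hct : chainOn P n Qs (n + 1) = ⊤ := chainOn_of_not_le P n Qs (by omega)
  have hinv : ∀ α ∈ F.autGroup P, ∀ j, ∀ x ∈ chainOn P n Qs j, α x ∈ chainOn P n Qs j := by
    intro α hα j x hx
    by_cases hj : j ≤ n
    · rw [chainOn_of_le P n Qs hj] at hx ⊢
      exact Subgroup.mem_subgroupOf.mpr
        (StronglyClosed.aut_mem F (hscall _) hPS hα x (Subgroup.mem_subgroupOf.mp hx))
    · rw [chainOn_of_not_le P n Qs hj]; trivial
  let D : Subgroup (F.autGroup P) := (stabChain (chainOn P n Qs) hcm).subgroupOf (F.autGroup P)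
  have hDp : IsPGroup p D :=
    (stabChain_isPGroup (hS.to_le hPS) (chainOn P n Qs) hc0 hcm (n + 1) hct).comap_subtype
  have hDn : D.Normal := by
    refine ⟨fun d hd a => ?_⟩
    have hd' : (d : MulAut P) ∈ stabChain (chainOn P n Qs) hcm := hd
    have := stabChain_conj_mem (chainOn P n Qs) hcm (a : MulAut P) (hinv a a.2)
      (hinv _ (Subgroup.inv_mem _ a.2)) hd'
    exact this
  have hDcore : D ≤ pCore p (F.autGroup P) := le_sSup ⟨hDn, hDp⟩
  let cg : MulAut P := P.normalizerMonoidHom ⟨g, hgN⟩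
  have hcgA : cg ∈ F.autGroup P :=
    autInducedBy_le_autGroup F hPS ((mem_autInducedBy_iff cg).mpr ⟨g, hQsc.1 hgQ, fun x => rfl⟩)
  have hsc' : ∀ i : Fin n, ⁅Q, Qs i.succ⁆ ≤ Qs (Fin.castSucc i) := fun i => (hsc i).2
  have hcgD : (⟨cg, hcgA⟩ : F.autGroup P) ∈ D := by
    show cg ∈ stabChain (chainOn P n Qs) hcm
    intro i x hx
    refine ⟨conj_chain Q hQn P hPS n Qs hlast hsc' g hgQ hgN i x hx, ?_⟩
    have hginv : g⁻¹ ∈ Subgroup.normalizer (P : Set Ω) := Subgroup.inv_mem _ hgN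
    have e : cg⁻¹ = P.normalizerMonoidHom ⟨g⁻¹, hginv⟩ := by
      rw [← map_inv]; rfl
    rw [e]
    exact conj_chain Q hQn P hPS n Qs hlast hsc' g⁻¹ (Q.inv_mem hgQ) hginv i x hx
  have hcgInn : cg ∈ Inn P := by
    rw [← hPr.2]; exact ⟨⟨cg, hcgA⟩, hDcore hcgD, rfl⟩
  obtain ⟨y, hy⟩ := hcgInn
  apply hgP
  have hcent : (y : Ω)⁻¹ * g ∈ centralizerIn S P := by
    rw [mem_centralizerIn]
    refine ⟨S.mul_mem (S.inv_mem (hPS y.2)) (hQsc.1 hgQ), fun x hx => ?_⟩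
    have h1 := congrArg (fun β : MulAut P => ((β ⟨x, hx⟩ : P) : Ω)) hy
    have h2 : (y : Ω) * x * (y : Ω)⁻¹ = g * x * g⁻¹ := h1
    calc x * ((y : Ω)⁻¹ * g) = (y : Ω)⁻¹ * ((y : Ω) * x * (y : Ω)⁻¹) * g := by group
      _ = (y : Ω)⁻¹ * (g * x * g⁻¹) * g := by rw [h2]
      _ = (y : Ω)⁻¹ * g * x := by group
  have h3 := hPc.2 P (isConj_refl F hPS) hcent
  have e : g = (y : Ω) * ((y : Ω)⁻¹ * g) := by group
  rw [e]
  exact P.mul_mem y.2 h3

end backward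

/-- In a saturated fusion system over a finite p-group, a subgroup Q is normal in the system if and only if there is a chain of subgroups 1 = Q₀ ≤ Q₁ ≤ ⋯ ≤ Qₙ = Q such that each Qᵢ with i ≥ 1 is strongly closed in the system and [Q, Qᵢ] ≤ Qᵢ₋₁. -/
theorem result {Ω : Type*} [Group Ω] {S : Subgroup Ω} [Finite S] (p : ℕ) [Fact p.Prime] (hS : IsPGroup p S) (F : Cfsg.FusionSystem S) (hF : F.IsSaturated p) (Q : Subgroup Ω) : F.IsNormal Q ↔ ∃ (n : ℕ) (Qs : Fin (n + 1) → Subgroup Ω), Qs 0 = ⊥ ∧ Qs (Fin.last n) = Q ∧ Monotone Qs ∧ ∀ i : Fin n, F.StronglyClosed (Qs i.succ) ∧ ⁅Q, Qs i.succ⁆ ≤ Qs (Fin.castSucc i) := by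
  constructor
  · exact forward p hS F Q
  · rintro ⟨n, Qs, h0, hlast, hmono, hsc⟩
    have hQsc : F.StronglyClosed Q := by
      cases n with
      | zero =>
        have : Q = ⊥ := by rw [← hlast]; exact h0
        rw [this]; exact stronglyClosed_bot F
      | succ k =>
        have := (hsc (Fin.last k)).1
        rw [Fin.succ_last] at this
        rw [← hlast]; exact this
    rw [Cfsg.Agent.S5086.result p hS F hF Q]
    exact ⟨hQsc, fun P hPc hPr => le_of_centric_radical p hS F Q n Qs h0 hlast hmono hsc hQsc P hPc hPr⟩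

end Cfsg.Agent.S5088
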