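import Cfsg.Statements.S5106
import Cfsg.Agent.S5088
import Cfsg.Agent.Lib.Helper89.FusionAut

set_option autoImplicit false
open Cfsg

namespace Cfsg.Agent.S5106

open Cfsg.Agent.Lib.Helper87 (hom_le hom_mem restrict_mem finite_of_le hom_congr subtype_mem)
open Cfsg.Agent.Lib.Helper90 Cfsg.FusionSystem

/-- In a saturated fusion system over a finite p-group S, a subgroup R ≤ S is normal in the system if and only if every map of the system whose source is a subgroup of R is the restriction of an element of Aut_F(R). -/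
theorem result {Ω : Type*} [Group Ω] {S : Subgroup Ω} [Finite S] (p : ℕ) [Fact p.Prime] (hS : IsPGroup p S) (F : Cfsg.FusionSystem S) (hF : F.IsSaturated p) (R : Subgroup Ω) (hRS : R ≤ S) : F.IsNormal R ↔ ∀ (P : Subgroup Ω) (hPR : P ≤ R) (φ : P →* Ω), φ ∈ F.Hom P → ∃ α ∈ F.autGroup R, ∀ x : P, ((α (Subgroup.inclusion hPR x) : R) : Ω) = φ x := by
  constructor
  · intro hR P hPR φ hφ
    obtain ⟨ψ, hψ, hψφ, hψR⟩ := hR.2 P φ hφ
    have hle : R ≤ P ⊔ R := le_sup_right
    have hρ : ψ.comp (Subgroup.inclusion hle) ∈ F.Hom R := restrict_mem F hle hψ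
    have hrange : (ψ.comp (Subgroup.inclusion hle)).range = R := by
      have h1 : (ψ.comp (Subgroup.inclusion hle)).range = (R.subgroupOf (P ⊔ R)).map ψ := by
        ext y
        constructor
        · rintro ⟨x, rfl⟩
          exact ⟨Subgroup.inclusion hle x, Subgroup.mem_subgroupOf.mpr x.2, rfl⟩
        · rintro ⟨z, hz, rfl⟩
          exact ⟨⟨z, Subgroup.mem_subgroupOf.mp hz⟩, rfl⟩
      rw [h1, hψR]
    obtain ⟨α, hα, hαx⟩ := Cfsg.Agent.Lib.Helper89.exists_aut_of_range_eq F hρ hrange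
    refine ⟨α, hα, fun x => ?_⟩
    rw [hαx, ← hψφ x]
    rfl
  · intro h
    rw [Cfsg.Agent.S5088.result p hS F hF R]
    obtain ⟨n, hn⟩ := exists_ucs_eq hS hRS
    refine ⟨n, fun i => ucs R i, ucs_zero R, ucs_eq_self_of_eq_top R hn, ?_, ?_⟩
    · intro i j hij
      exact ucs_mono R hij
    · intro i
      refine ⟨⟨(ucs_le R _).trans hRS, fun P hP φ hφ x => ?_⟩, ?_⟩
      · have hPR : P ≤ R := hP.trans (ucs_le R _)
        obtain ⟨α, -, hαx⟩ := h P hPR φ hφ
        rw [← hαx x]
        exact aut_ucs_mem α _ _ (hP x.2)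
      · have := commutator_ucs_succ_le R (i : ℕ)
        simpa using this

end Cfsg.Agent.S5106
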