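import Cfsg.Statements.S5290
import Cfsg.Agent.S5106
import Cfsg.Agent.Lib.Helper90.FusionInner

set_option autoImplicit false
open Cfsg

namespace Cfsg.Agent.S5290

open Cfsg.Agent.Lib.Helper87 (hom_le hom_mem restrict_mem finite_of_le hom_congr subtype_mem)
open Cfsg.Agent.Lib.Helper90 Cfsg.FusionSystem

/-- Let F be a saturated fusion system over a finite p-group S and Q a subgroup of S. Then Q is normal in F (F = N_F(Q)) if and only if the inner fusion system of Q, consisting of the conjugations by elements of Q on subgroups of Q, is a weakly normal subsystem of F (both saturated, Q strongly closed, invariant under F-conjugation, with the Frattini property). -/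
theorem result {Ω : Type*} [Group Ω] {S : Subgroup Ω} [Finite S] (p : ℕ) [Fact p.Prime] (hS : IsPGroup p S)
    (F : Cfsg.FusionSystem S) (hF : F.IsSaturated p)
    (Q : Subgroup Ω) (hQ : Q ≤ S) :
    F.IsNormal Q ↔ (Cfsg.innerFusionSystem Q).IsWeaklyNormalIn F p := by
  have h106 := Cfsg.Agent.S5106.result p hS F hF Q hQ
  constructor
  · intro hN
    refine ⟨inner_isSaturated (hS.to_le hQ), hF, inner_isSubsystemOf F hQ,
      IsNormal.stronglyClosed F hN, ?_, ?_⟩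
    · -- invariance
      rintro P hPQ φ ⟨-, g, hg, hgφ⟩ α hα
      set P' : Subgroup Ω := (P.subgroupOf Q).map (Q.subtype.comp α.toMonoidHom) with hP'
      have hP'Q : P' ≤ Q := by
        rintro _ ⟨z, -, rfl⟩
        exact (α z).2
      refine ⟨conjHom P' ((α ⟨g, hg⟩ : Q) : Ω), ⟨hP'Q, _, (α ⟨g, hg⟩).2, fun x => rfl⟩, ?_⟩
      intro x hφx hαx
      show ((α ⟨g, hg⟩ : Q) : Ω) * ((α ⟨x, hPQ x.2⟩ : Q) : Ω) * ((α ⟨g, hg⟩ : Q) : Ω)⁻¹ = _
      have e : (⟨φ x, hφx⟩ : Q) = ⟨g, hg⟩ * ⟨x, hPQ x.2⟩ * ⟨g, hg⟩⁻¹ := Subtype.ext (hgφ x)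
      rw [e, map_mul, map_mul, map_inv]
      rfl
    · -- Frattini
      intro P hPQ φ hφ
      obtain ⟨α, hα, hαφ⟩ := h106.mp hN P hPQ φ hφ
      refine ⟨α, hα, P.subtype, ⟨hPQ, 1, Q.one_mem, fun x => by simp⟩, fun x hx => ?_⟩
      rw [← hαφ x]
      rfl
  · rintro ⟨-, -, -, -, -, hfr⟩
    rw [h106]
    intro P hPQ φ hφ
    obtain ⟨α, hα, φ₀, ⟨-, g, hg, hgφ₀⟩, hαφ⟩ := hfr P hPQ φ hφ
    have hconj : (MulAut.conj (⟨g, hg⟩ : Q)) ∈ F.autGroup Q :=
      inn_le_autGroup F hQ ⟨⟨g, hg⟩, rfl⟩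
    refine ⟨α * MulAut.conj (⟨g, hg⟩ : Q), Subgroup.mul_mem _ hα hconj, fun x => ?_⟩
    have hx : φ₀ x ∈ Q := by
      rw [hgφ₀ x]
      exact Q.mul_mem (Q.mul_mem hg (hPQ x.2)) (Q.inv_mem hg)
    rw [hαφ x hx]
    show ((α (MulAut.conj (⟨g, hg⟩ : Q) (Subgroup.inclusion hPQ x)) : Q) : Ω) = _
    congr 2
    apply Subtype.ext
    exact (hgφ₀ x).symm

end Cfsg.Agent.S5290
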