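import Cfsg.Statements.S5089
import Cfsg.Agent.S5088

set_option autoImplicit false
open Cfsg

namespace Cfsg.Agent.S5089

open Cfsg.Agent.Lib.Helper90 Cfsg.FusionSystem
open scoped commutatorElement

/-- A saturated fusion system over a finite p-group has a nontrivial subgroup that is normal in the system (O_p(F) ≠ 1) if and only if some nontrivial abelian subgroup is strongly closed in the system. -/
theorem result {Ω : Type*} [Group Ω] {S : Subgroup Ω} [Finite S] (p : ℕ) [Fact p.Prime] (hS : IsPGroup p S) (F : Cfsg.FusionSystem S) (hF : F.IsSaturated p) : F.core ≠ ⊥ ↔ ∃ Q : Subgroup Ω, Q ≠ ⊥ ∧ IsMulCommutative Q ∧ F.StronglyClosed Q := by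
  constructor
  · intro hcore
    have hex : ∃ Q : Subgroup Ω, F.IsNormal Q ∧ Q ≠ ⊥ := by
      by_contra hcon
      push Not at hcon
      apply hcore
      unfold core
      rw [sSup_eq_bot]
      exact fun Q hQ => hcon Q hQ
    obtain ⟨Q, hQ, hQne⟩ := hex
    have hQS : Q ≤ S := hQ.1
    have : Finite Q := Cfsg.Agent.Lib.Helper87.finite_of_le hQS
    have hQp : IsPGroup p Q := hS.to_le hQS
    have hnt : Nontrivial Q := (Subgroup.nontrivial_iff_ne_bot Q).mpr hQne
    have hcn : Nontrivial (Subgroup.center Q) := hQp.center_nontrivial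
    refine ⟨ucs Q 1, ?_, ?_, ?_⟩
    · unfold ucs
      rw [Subgroup.upperCentralSeries_one, Ne,
        Subgroup.map_eq_bot_iff_of_injective _ (Subgroup.subtype_injective Q)]
      exact (Subgroup.nontrivial_iff_ne_bot _).mp hcn
    · unfold ucs
      rw [Subgroup.upperCentralSeries_one]
      infer_instance
    · exact IsNormal.stronglyClosed F
        (Cfsg.Agent.S5085.result F Q (ucs Q 1) hQ (ucs_le Q _) (ucs_characteristic Q _))
  · rintro ⟨Q, hQne, hQc, hQsc⟩
    have hQn : F.IsNormal Q := by
      rw [Cfsg.Agent.S5088.result p hS F hF Q]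
      refine ⟨1, ![⊥, Q], rfl, rfl, ?_, ?_⟩
      · intro i j hij
        fin_cases i <;> fin_cases j
        · exact le_refl _
        · exact bot_le
        · exact absurd hij (by decide)
        · exact le_refl _
      · intro i
        fin_cases i
        refine ⟨hQsc, ?_⟩
        show ⁅Q, Q⁆ ≤ ⊥
        rw [le_bot_iff, Subgroup.commutator_eq_bot_iff_le_centralizer]
        intro x hx
        rw [Subgroup.mem_centralizer_iff]
        intro y hy
        have := mul_comm' (⟨y, hy⟩ : Q) ⟨x, hx⟩
        exact congrArg Subtype.val this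
    intro hbot
    apply hQne
    rw [← le_bot_iff, ← hbot]
    exact le_sSup hQn

end Cfsg.Agent.S5089
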