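import Cfsg.Statements.S0634
import Cfsg.Agent.Lib.Helper81.PSolvable

set_option autoImplicit false
open Cfsg
open Cfsg.Agent.Lib.Helper81

namespace Cfsg.Agent.S0634

theorem upperPSeries_succ_even {G : Type*} [Group G] (p n : ℕ) (hn : Even n) :
    (upperPSeries p G (n + 1)).1 =
      (pPrimeCore p (G ⧸ (upperPSeries p G n).1)).comap (QuotientGroup.mk' _) := by
  rw [upperPSeries]
  simp [hn]

theorem upperPSeries_succ_odd {G : Type*} [Group G] (p n : ℕ) (hn : ¬ Even n) :
    (upperPSeries p G (n + 1)).1 =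
      (pCore p (G ⧸ (upperPSeries p G n).1)).comap (QuotientGroup.mk' _) := by
  rw [upperPSeries]
  simp [hn]

/-- quotient by the preimage of the p'-core of a quotient has trivial p'-core -/
theorem pPrimeCore_quotient_comap_eq_bot {G : Type*} [Group G] [Finite G] (p : ℕ)
    (N M : Subgroup G) [N.Normal] [M.Normal]
    (hM : M = (pPrimeCore p (G ⧸ N)).comap (QuotientGroup.mk' N)) :
    pPrimeCore p (G ⧸ M) = ⊥ := by
  rw [pPrimeCore_eq_bot_iff]
  intro A hAn hAc
  have hNM : N ≤ M := by
    rw [hM]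
    intro x hx
    rw [Subgroup.mem_comap]
    have : QuotientGroup.mk' N x = 1 := (QuotientGroup.eq_one_iff x).mpr hx
    rw [this]; exact Subgroup.one_mem _
  set B : Subgroup G := A.comap (QuotientGroup.mk' M) with hB
  have hBn : B.Normal := hAn.comap _
  have hMB : M ≤ B := by
    intro x hx
    rw [hB, Subgroup.mem_comap]
    have : QuotientGroup.mk' M x = 1 := (QuotientGroup.eq_one_iff x).mpr hx
    rw [this]; exact A.one_mem
  have hNB : N ≤ B := hNM.trans hMB
  set Bb : Subgroup (G ⧸ N) := B.map (QuotientGroup.mk' N) with hBb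
  have hBbn : Bb.Normal := Subgroup.Normal.map hBn _ (QuotientGroup.mk'_surjective N)
  have hcomap : Bb.comap (QuotientGroup.mk' N) = B := by
    rw [hBb, Subgroup.comap_map_eq_self]
    rw [QuotientGroup.ker_mk']; exact hNB
  have hc1 : Nat.card B = Nat.card N * Nat.card Bb := by
    rw [← card_comap_mk' N Bb, hcomap]
  have hc2 : Nat.card B = Nat.card M * Nat.card A := card_comap_mk' M A
  have hc3 : Nat.card M = Nat.card N * Nat.card (pPrimeCore p (G ⧸ N)) := by
    rw [← card_comap_mk' N (pPrimeCore p (G ⧸ N)), ← hM]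
  have hc4 : Nat.card Bb = Nat.card (pPrimeCore p (G ⧸ N)) * Nat.card A := by
    have h : Nat.card N * Nat.card Bb =
        Nat.card N * (Nat.card (pPrimeCore p (G ⧸ N)) * Nat.card A) := by
      rw [← hc1, hc2, hc3, mul_assoc]
    exact Nat.eq_of_mul_eq_mul_left Nat.card_pos h
  have hBbc : (Nat.card Bb).Coprime p := by
    rw [hc4]
    exact Nat.Coprime.mul_left (card_pPrimeCore_coprime p) hAc
  have hBble : Bb ≤ pPrimeCore p (G ⧸ N) := le_pPrimeCore hBbn hBbc
  have hBM : B ≤ M := by
    rw [hM, ← hcomap]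
    exact Subgroup.comap_mono hBble
  rw [eq_bot_iff]
  intro x hx
  obtain ⟨g, rfl⟩ := QuotientGroup.mk'_surjective M x
  rw [Subgroup.mem_bot]
  exact (QuotientGroup.eq_one_iff g).mpr (hBM hx)

/-- In a p-soluble group each p-factor of the upper p-series contains its own centralizer in the corresponding quotient. -/
theorem result {G : Type*} [Group G] [Finite G] {p : ℕ} [Fact p.Prime] (hsol : Cfsg.IsPSolvable p G) (k : ℕ) : Subgroup.centralizer ((((Cfsg.upperPSeries p G (2 * k + 2)).1.map (QuotientGroup.mk' (Cfsg.upperPSeries p G (2 * k + 1)).1)) : Subgroup (G ⧸ (Cfsg.upperPSeries p G (2 * k + 1)).1)) : Set (G ⧸ (Cfsg.upperPSeries p G (2 * k + 1)).1)) ≤ (Cfsg.upperPSeries p G (2 * k + 2)).1.map (QuotientGroup.mk' (Cfsg.upperPSeries p G (2 * k + 1)).1) := by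
  have hodd : ¬ Even (2 * k + 1) := by
    rw [Nat.not_even_iff_odd]; exact ⟨k, rfl⟩
  have heven : Even (2 * k) := ⟨k, by ring⟩
  have h2 : (Cfsg.upperPSeries p G (2 * k + 2)).1 =
      (pCore p (G ⧸ (upperPSeries p G (2 * k + 1)).1)).comap (QuotientGroup.mk' _) :=
    upperPSeries_succ_odd p (2 * k + 1) hodd
  have h1 : (Cfsg.upperPSeries p G (2 * k + 1)).1 =
      (pPrimeCore p (G ⧸ (upperPSeries p G (2 * k)).1)).comap (QuotientGroup.mk' _) :=
    upperPSeries_succ_even p (2 * k) heven
  rw [h2, Subgroup.map_comap_eq_self_of_surjective (QuotientGroup.mk'_surjective _)]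
  apply centralizer_pCore_le (IsPSolvable.quotient (Fact.out : p.Prime) hsol _)
  exact pPrimeCore_quotient_comap_eq_bot p (upperPSeries p G (2 * k)).1 _ h1

end Cfsg.Agent.S0634
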