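import Cfsg.Statements.S5099
import Cfsg.Agent.Lib.Helper87.KNormalizer2

set_option autoImplicit false
open Cfsg

namespace Cfsg.Agent.S5099

open Cfsg.FusionSystem Cfsg.Agent.Lib.Helper87 Cfsg.Agent.Lib.Helper88

theorem centralizerIn_eq_normK {Ω : Type*} [Group Ω] (S Q : Subgroup Ω) :
    centralizerIn S Q = normK S Q ⊥ := by
  ext g
  rw [mem_normK, mem_centralizerIn]
  constructor
  · rintro ⟨hgS, hgc⟩
    refine ⟨hgS, 1, Subgroup.one_mem _, fun x => ?_⟩
    have := hgc x x.2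
    show (x : Ω) = g * x * g⁻¹
    rw [← this]; group
  · rintro ⟨hgS, κ, hκ, hκx⟩
    rw [Subgroup.mem_bot] at hκ
    subst hκ
    refine ⟨hgS, fun x hx => ?_⟩
    have := hκx ⟨x, hx⟩
    have h2 : x = g * x * g⁻¹ := this
    calc x * g = (g * x * g⁻¹) * g := by rw [← h2]
      _ = g * x := by group

theorem centralizerHom_eq_homK {Ω : Type*} [Group Ω] {S : Subgroup Ω} [Finite S]
    (F : FusionSystem S) (Q P : Subgroup Ω) :
    F.centralizerHom Q P = homK F Q ⊥ (normK S Q ⊥) P := by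
  have hN := centralizerIn_eq_normK S Q
  ext φ
  constructor
  · rintro ⟨hφ, hPN, hφN, ψ, hψ, hψP, hψQ⟩
    exact ⟨hφ, hPN.trans hN.le, fun x => hN.le (hφN x), ψ, hψ, hψP, 1, Subgroup.one_mem _,
      fun x => hψQ x⟩
  · rintro ⟨hφ, hPN, hφN, ψ, hψ, hψP, κ, hκ, hκx⟩
    rw [Subgroup.mem_bot] at hκ
    subst hκ
    exact ⟨hφ, hPN.trans hN.ge, fun x => hN.ge (hφN x), ψ, hψ, hψP, fun x => hκx x⟩

/-- If F is a saturated fusion system over a finite p-group S and Q is fully centralized in F, then the centralizer system C_F(Q) is a saturated fusion system over C_S(Q). -/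
theorem result {Ω : Type*} [Group Ω] {S : Subgroup Ω} [Finite S] (p : ℕ) [Fact p.Prime] (hS : IsPGroup p S) (F : Cfsg.FusionSystem S) (hF : F.IsSaturated p) (Q : Subgroup Ω) (hQ : F.IsFullyCentralized Q) (E : Cfsg.FusionSystem (Cfsg.FusionSystem.centralizerIn S Q)) (hE : F.IsCentralizerSystem Q E) : E.IsSaturated p := by
  have hrec := isReceptive_of_isFullyCentralized p hS F hF Q hQ
  have hfin : Finite Q := finite_of_le hQ.1
  have hgood : IsGoodK F p Q ⊥ := by
    refine ⟨hrec, ?_⟩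
    rw [inf_bot_eq, inf_bot_eq, isSylowIn_iff_card le_rfl]
    simp
  have hN := centralizerIn_eq_normK S Q
  rw [← castSys'_isSaturated hN E p]
  apply isSaturated_normK p hS F hF Q ⊥ hgood
  intro P
  rw [castSys'_hom, hE P, centralizerHom_eq_homK]

end Cfsg.Agent.S5099
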