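import Cfsg.Statements.S5198
-- import your own Cfsg.Agent.* helpers here
import Cfsg.Agent.Lib.Helper89.ConjSystem
import Cfsg.Agent.Lib.Helper03.PResidual

set_option autoImplicit false
open Cfsg

namespace Cfsg.Agent.S5198

open Cfsg.FusionSystem Cfsg.Agent.Lib

/-- The conjugation action of `S` on a subgroup `T` it normalizes. -/
def conjOn {Ω : Type*} [Group Ω] (S T : Subgroup Ω) (hST : S ≤ Subgroup.normalizer (T : Set Ω)) :
    S →* MulAut T where
  toFun s := Helper89.conjAut T s (hST s.2)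
  map_one' := by
    ext t
    show (1 : Ω) * t * (1 : Ω)⁻¹ = t
    group
  map_mul' a b := by
    ext t
    show ((a : Ω) * b) * t * ((a : Ω) * b)⁻¹ = a * (b * t * (b : Ω)⁻¹) * (a : Ω)⁻¹
    group

/-- A `p`-element `γ` with `γ^m` commuting with `y`, `m` prime to `p`, commutes with `y`. -/
theorem commute_of_pow_commute {Γ : Type*} [Group Γ] {p : ℕ} [Fact p.Prime] (hΓ : IsPGroup p Γ) (γ y : Γ)
    (m : ℕ) (hm : m.Coprime p) (h : Commute (γ ^ m) y) : Commute γ y := by
  obtain ⟨e, he⟩ := hΓ γ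
  have hco : m.Coprime (orderOf γ) :=
    Nat.Coprime.coprime_dvd_right (orderOf_dvd_of_pow_eq_one he) (Nat.Coprime.pow_right e hm)
  obtain ⟨k, hk⟩ := exists_pow_eq_self_of_coprime hco
  rw [← hk]
  exact h.pow_left k

/-- Let F be a saturated fusion system over a finite p-group S and T a subgroup of S strongly closed in F (so T is normal in S). Then every element x of the hyperfocal subgroup of F acts on T by conjugation as an element of O^p(Aut_F(T))·Inn(T): there is an automorphism of T in the subgroup generated by the elements of Aut_F(T) of order prime to p together with the inner automorphisms of T that agrees with conjugation by x. -/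
theorem result {Ω : Type*} [Group Ω] {S : Subgroup Ω} [Finite S] (p : ℕ) [Fact p.Prime] (hS : IsPGroup p S) (F : Cfsg.FusionSystem S) (hF : F.IsSaturated p) (T : Subgroup Ω) (hT : F.StronglyClosed T) : ∀ x ∈ F.hyperfocalSubgroup p, ∃ α ∈ ((Cfsg.pResidual p ↥(F.autGroup T)).map (F.autGroup T).subtype ⊔ Cfsg.Inn ↥T : Subgroup (MulAut ↥T)), ∀ t : ↥T, ((α t : ↥T) : Ω) = x * (t : Ω) * x⁻¹ := by
  have hTS : T ≤ S := hT.1
  have hTn := Helper90.StronglyClosed.conj_mem F hT
  have hST : S ≤ Subgroup.normalizer (T : Set Ω) := by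
    intro s hs
    rw [Subgroup.mem_normalizer_iff]
    intro y
    constructor
    · intro hy; exact hTn s hs y hy
    · intro hy
      have := hTn s⁻¹ (S.inv_mem hs) _ hy
      have e : s⁻¹ * (s * y * s⁻¹) * s⁻¹⁻¹ = y := by group
      rwa [e] at this
  have hTfin : Finite T := Helper87.finite_of_le hTS
  have : Finite (MulAut T) := inferInstance
  let A : Subgroup (MulAut T) := F.autGroup T
  have hAfin : Finite A := inferInstance
  let cS : S →* MulAut T := conjOn S T hST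
  have hcSA : ∀ s : S, cS s ∈ A := fun s =>
    Helper89.autInducedBy_le_autGroup F hTS (Helper89.conjAut_mem_autInducedBy s.2 (hST s.2))
  let c : S →* A := cS.codRestrict A hcSA
  have hpn : (pResidual p A).Normal := Helper03.pResidual_normal p A
  let B₁ : Subgroup A := pResidual p A ⊔ (Inn T).subgroupOf A
  have hB₁n : B₁.Normal := inferInstance
  let θ : S →* A ⧸ B₁ := (QuotientGroup.mk' B₁).comp c
  have hθ1 : ∀ s : S, θ s = 1 ↔ c s ∈ B₁ := fun s => QuotientGroup.eq_one_iff _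
  -- the quotient is a `p`-group
  have hΓp : IsPGroup p (A ⧸ B₁) := by
    intro g
    obtain ⟨a, rfl⟩ := QuotientGroup.mk_surjective g
    have h1 : IsPGroup p (A ⧸ pResidual p A) := Helper03.isPGroup_quotient_pResidual
    obtain ⟨k, hk⟩ := h1 (QuotientGroup.mk a)
    refine ⟨k, ?_⟩
    rw [← QuotientGroup.mk_pow, QuotientGroup.eq_one_iff]
    apply (le_sup_left : pResidual p A ≤ B₁)
    rw [← QuotientGroup.mk_pow, QuotientGroup.eq_one_iff] at hk
    exact hk
  -- `θ` kills `T`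
  have hθT : ∀ (t : Ω) (ht : t ∈ T), θ ⟨t, hT.1 ht⟩ = 1 := by
    intro t ht
    rw [hθ1]
    apply (le_sup_right : (Inn T).subgroupOf A ≤ B₁)
    rw [Subgroup.mem_subgroupOf]
    refine ⟨⟨t, ht⟩, ?_⟩
    ext y
    rfl
  -- `θ` is equivariant up to conjugation for automorphisms of overgroups of `T`
  have hover : ∀ (R : Subgroup Ω), R ≤ S → T ≤ R → ∀ α : MulAut R,
      R.subtype.comp α.toMonoidHom ∈ F.Hom R →
        Helper89.ConjGood θ (R.subtype.comp α.toMonoidHom) := by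
    intro R hRS hTR α hα
    have hφT := Helper87.restrict_mem F hTR hα
    have hrange : ((R.subtype.comp α.toMonoidHom).comp (Subgroup.inclusion hTR)).range = T :=
      Helper90.range_eq_of_forall_mem F hφT (fun t => hT.2 T le_rfl _ hφT t)
    obtain ⟨a, haA, ha⟩ := Helper89.exists_aut_of_range_eq F hφT hrange
    have hat : ∀ t : T, ((a t : T) : Ω) = ((α ⟨t, hTR t.2⟩ : R) : Ω) := fun t => ha t
    refine ⟨QuotientGroup.mk (⟨a, haA⟩ : A), fun x hx hαx => ?_⟩
    have key : c ⟨(R.subtype.comp α.toMonoidHom) x, hαx⟩ = (⟨a, haA⟩ : A) * c ⟨x, hx⟩ * (⟨a, haA⟩ : A)⁻¹ := by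
      apply Subtype.ext
      show cS ⟨((α x : R) : Ω), hαx⟩ = a * cS ⟨x, hx⟩ * a⁻¹
      ext t
      show ((α x : R) : Ω) * t * ((α x : R) : Ω)⁻¹ = ((a (cS ⟨x, hx⟩ (a⁻¹ t)) : T) : Ω)
      rw [hat]
      set t' : T := a⁻¹ t with ht'
      have h1 : ((a t' : T) : Ω) = t := by rw [ht']; simp
      have h2 : (⟨((cS ⟨x, hx⟩ t' : T) : Ω), hTR (cS ⟨x, hx⟩ t').2⟩ : R) = x * ⟨t', hTR t'.2⟩ * x⁻¹ :=
        Subtype.ext rfl
      rw [h2, map_mul, map_mul, map_inv]
      show _ = ((α x : R) : Ω) * ((α ⟨t', hTR t'.2⟩ : R) : Ω) * ((α x : R) : Ω)⁻¹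
      rw [← hat t', h1]
    show (QuotientGroup.mk' B₁) (c ⟨(R.subtype.comp α.toMonoidHom) x, hαx⟩) = _
    rw [key]
    rfl
  -- hence for all maps of `F`
  have hall : ∀ {P : Subgroup Ω} {φ : P →* Ω}, φ ∈ F.Hom P → Helper89.ConjGood θ φ :=
    fun hφ => Helper89.conjGood_of_saturated p hS F hF hT θ hθT hover hφ
  -- automorphisms of order prime to `p` are `θ`-invariant
  have hpprime : ∀ (P : Subgroup Ω) (hPS : P ≤ S) (α : MulAut P), α ∈ F.autGroup P →
      (orderOf α).Coprime p → ∀ x : P, θ ⟨((α x : P) : Ω), hPS (α x).2⟩ = θ ⟨x, hPS x.2⟩ := by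
    intro P hPS α hα hco x
    obtain ⟨γ, hγ⟩ := hall ((Helper89.mem_autGroup_iff F hPS α).mp hα)
    have hγ' : ∀ y : P, θ ⟨((α y : P) : Ω), hPS (α y).2⟩ = γ * θ ⟨y, hPS y.2⟩ * γ⁻¹ :=
      fun y => hγ y (hPS y.2) (hPS (α y).2)
    have hpow : ∀ (j : ℕ) (y : P), θ ⟨(((α ^ j) y : P) : Ω), hPS ((α ^ j) y).2⟩ =
        γ ^ j * θ ⟨y, hPS y.2⟩ * (γ ^ j)⁻¹ := by
      intro j
      induction j with
      | zero => intro y; simp
      | succ j ih =>
        intro y
        rw [pow_succ', MulAut.mul_apply, hγ', ih, pow_succ']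
        group
    have h1 := hpow (orderOf α) x
    rw [pow_orderOf_eq_one] at h1
    have hcomm : Commute (γ ^ orderOf α) (θ ⟨x, hPS x.2⟩) := by
      have h2 : θ ⟨x, hPS x.2⟩ = γ ^ orderOf α * θ ⟨x, hPS x.2⟩ * (γ ^ orderOf α)⁻¹ := h1
      show γ ^ orderOf α * θ ⟨x, hPS x.2⟩ = θ ⟨x, hPS x.2⟩ * γ ^ orderOf α
      calc γ ^ orderOf α * θ ⟨x, hPS x.2⟩
          = (γ ^ orderOf α * θ ⟨x, hPS x.2⟩ * (γ ^ orderOf α)⁻¹) * γ ^ orderOf α := by group
        _ = θ ⟨x, hPS x.2⟩ * γ ^ orderOf α := by rw [← h2]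
    have hc2 := commute_of_pow_commute hΓp γ _ (orderOf α) hco hcomm
    rw [hγ' x, hc2.eq]
    group
  -- the subgroup of `θ`-invariant automorphisms contains `O^p(Aut_F(P))`
  have hres : ∀ (P : Subgroup Ω) (hPS : P ≤ S) (α : F.autGroup P), α ∈ pResidual p (F.autGroup P) →
      ∀ x : P, θ ⟨(((α : MulAut P) x : P) : Ω), hPS ((α : MulAut P) x).2⟩ = θ ⟨x, hPS x.2⟩ := by
    intro P hPS
    let K : Subgroup (F.autGroup P) :=
      { carrier := {α | ∀ x : P, θ ⟨(((α : MulAut P) x : P) : Ω), hPS ((α : MulAut P) x).2⟩ = θ ⟨x, hPS x.2⟩}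
        one_mem' := fun x => rfl
        mul_mem' := by
          intro a b ha hb x
          show θ ⟨(((a : MulAut P) ((b : MulAut P) x) : P) : Ω), _⟩ = _
          rw [ha, hb]
        inv_mem' := by
          intro a ha x
          have h1 := ha ((a : MulAut P)⁻¹ x)
          have h2 : (a : MulAut P) ((a : MulAut P)⁻¹ x) = x := by simp
          show θ ⟨((((a : MulAut P)⁻¹) x : P) : Ω), _⟩ = _
          rw [← h1]
          congr 1
          exact Subtype.ext (congrArg (fun z : P => (z : Ω)) h2) }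
    have hle : pResidual p (F.autGroup P) ≤ K := by
      unfold pResidual
      rw [Subgroup.closure_le]
      intro α hα x
      have hα' : (orderOf α).Coprime p := hα
      rw [← Subgroup.orderOf_coe] at hα'
      exact hpprime P hPS (α : MulAut P) α.2 hα' x
    intro α hα
    exact hle hα
  -- the hyperfocal subgroup lies in the kernel of `θ`
  have hhyp : F.hyperfocalSubgroup p ≤ (θ.ker).map S.subtype := by
    unfold FusionSystem.hyperfocalSubgroup
    rw [Subgroup.closure_le]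
    rintro _ ⟨P, α, x, hPS, hα, rfl⟩
    have hy : (x : Ω)⁻¹ * (((α : MulAut P) x : P) : Ω) ∈ S :=
      S.mul_mem (S.inv_mem (hPS x.2)) (hPS ((α : MulAut P) x).2)
    refine ⟨⟨_, hy⟩, ?_, rfl⟩
    show θ ⟨_, hy⟩ = 1
    have : (⟨(x : Ω)⁻¹ * (((α : MulAut P) x : P) : Ω), hy⟩ : S) =
        (⟨x, hPS x.2⟩ : S)⁻¹ * ⟨(((α : MulAut P) x : P) : Ω), hPS ((α : MulAut P) x).2⟩ := rfl
    rw [this, map_mul, map_inv, hres P hPS α hα x]
    group
  intro x hx
  obtain ⟨s, hs, rfl⟩ := hhyp hx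
  have h1 : c s ∈ B₁ := (hθ1 s).mp hs
  refine ⟨cS s, ?_, fun t => rfl⟩
  have h2 : cS s ∈ B₁.map A.subtype := ⟨c s, h1, rfl⟩
  have h3 : B₁.map A.subtype ≤ (pResidual p A).map A.subtype ⊔ Inn T := by
    rw [Subgroup.map_sup, Subgroup.subgroupOf_map_subtype]
    exact sup_le_sup_left inf_le_left _
  exact h3 h2

end Cfsg.Agent.S5198
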