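import Cfsg.Statements.S5160
import Cfsg.Agent.Lib.Helper87.InvariantOverS
import Cfsg.Agent.Lib.Helper87.FusionRealized
import Cfsg.Agent.Lib.Helper87.GroupCond

set_option autoImplicit false
open Cfsg

namespace Cfsg.Agent.S5160

open Cfsg.FusionSystem Cfsg.Agent.Lib.Helper87

section Aux

variable {G : Type*} [Group G]

/-- The subgroup generated by the `p`-elements of `N_G(R)` acts on `R` through `Aut_E(R)`, for `E` an invariant
subsystem over `S` of the saturated system `F_S(G)` and `R` fully normalized. -/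
theorem closure_le_comap (p : ℕ) [Fact p.Prime] (S : Subgroup G) [Finite S] (hS : IsPGroup p S)
    (E : FusionSystem S) (hE : E.IsInvariantIn (groupFusionSystem S))
    (hF : (groupFusionSystem S).IsSaturated p) {R : Subgroup G}
    (hR : (groupFusionSystem S).IsFullyNormalized R) :
    Subgroup.closure {g : G | g ∈ Subgroup.normalizer (R : Set G) ∧ ∃ k : ℕ, orderOf g = p ^ k} ≤
      ((E.autGroup R).comap (Subgroup.normalizerMonoidHom R)).map
        (Subgroup.normalizer (R : Set G)).subtype := by
  rw [Subgroup.closure_le]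
  rintro g ⟨hgN, k, hk⟩
  refine ⟨⟨g, hgN⟩, ?_, rfl⟩
  show Subgroup.normalizerMonoidHom R ⟨g, hgN⟩ ∈ E.autGroup R
  have hRS : R ≤ S := hR.1
  apply pElement_mem_autGroup_of_isInvariantIn p hS hF hE hR
  · rw [mem_autGroup_iff _ hRS]
    refine ⟨hRS, fun x => hRS (Subtype.prop _), g, fun x => rfl⟩
  · have h1 : orderOf (Subgroup.normalizerMonoidHom R ⟨g, hgN⟩) ∣ p ^ k := by
      have h2 := orderOf_map_dvd (Subgroup.normalizerMonoidHom R)
        (⟨g, hgN⟩ : Subgroup.normalizer (R : Set G))
      have h3 : orderOf (⟨g, hgN⟩ : Subgroup.normalizer (R : Set G)) = p ^ k := by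
        rw [← hk]
        exact Subgroup.orderOf_mk g hgN
      rwa [h3] at h2
    obtain ⟨j, -, hj⟩ := (Nat.dvd_prime_pow (Fact.out : p.Prime)).mp h1
    exact ⟨j, hj⟩

end Aux

/-- Let G be a finite group with nontrivial Sylow p-subgroup S and F its fusion system on S. Suppose (a) no nontrivial proper subgroup of S is strongly closed in F, and (b) the automorphisms of S induced by G are generated by those induced, for R running over the fully normalized radical centric subgroups of F, by the subgroup of N_G(R) generated by its elements of p-power order. Then F is simple. -/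
theorem result {G : Type*} [Group G] [Finite G] (p : ℕ) [Fact p.Prime] (S : Sylow p G) (hS1 : (S : Subgroup G) ≠ ⊥) (ha : ∀ T : Subgroup G, (Cfsg.groupFusionSystem (S : Subgroup G)).StronglyClosed T → T = ⊥ ∨ T = (S : Subgroup G)) (hb : Cfsg.autInducedBy ⊤ (S : Subgroup G) = ⨆ (R : Subgroup G) (_ : (Cfsg.groupFusionSystem (S : Subgroup G)).IsFullyNormalized R ∧ (Cfsg.groupFusionSystem (S : Subgroup G)).IsRadical p R ∧ (Cfsg.groupFusionSystem (S : Subgroup G)).IsCentric R), Cfsg.autInducedBy (Subgroup.closure {g : G | g ∈ Subgroup.normalizer (R : Set G) ∧ ∃ k : ℕ, orderOf g = p ^ k}) (S : Subgroup G)) : (Cfsg.groupFusionSystem (S : Subgroup G)).IsSimple p := by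
  have hSp : IsPGroup p (S : Subgroup G) := S.isPGroup'
  have hsat : (groupFusionSystem (S : Subgroup G)).IsSaturated p :=
    isSaturated_of_realized _ (groupFusionSystem_isRealizedBy (S : Subgroup G)) S
      (Subgroup.range_subtype _).symm
  refine ⟨hsat, hS1, ?_⟩
  intro T E hE
  obtain ⟨⟨hEsat, -, hinv⟩, -⟩ := hE
  rcases ha T hinv.2.1 with h | h
  · exact Or.inl h
  · refine Or.inr ⟨h, ?_⟩
    subst h
    have hle : E ≤ groupFusionSystem (S : Subgroup G) := hinv.1
    -- `Aut_F(S) ≤ Aut_E(S)`
    have hA : (groupFusionSystem (S : Subgroup G)).autGroup (S : Subgroup G) ≤ E.autGroup (S : Subgroup G) := by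
      intro α hα
      have h1 : α ∈ autInducedBy ⊤ (S : Subgroup G) := by
        obtain ⟨-, -, g, hg⟩ := (mem_autGroup_iff _ le_rfl).mp hα
        exact mem_autInducedBy_iff.mpr ⟨g, Subgroup.mem_top g, fun x => hg x⟩
      rw [hb] at h1
      refine (iSup_le (fun R => iSup_le (fun hR => ?_)) : _ ≤ E.autGroup (S : Subgroup G)) h1
      clear h1 hα α
      obtain ⟨hRfn, -, hRc⟩ := hR
      have hRS : R ≤ (S : Subgroup G) := hRfn.1
      intro α hα
      obtain ⟨g, hgK, hg⟩ := mem_autInducedBy_iff.mp hα
      obtain ⟨n, hn, hng⟩ := closure_le_comap p (S : Subgroup G) hSp E hinv hsat hRfn hgK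
      have hn' : Subgroup.normalizerMonoidHom R n ∈ E.autGroup R := hn
      rw [mem_autGroup_iff _ hRS] at hn'
      rw [mem_autGroup_iff _ le_rfl]
      have hψF : (S : Subgroup G).subtype.comp α.toMonoidHom ∈
          (groupFusionSystem (S : Subgroup G)).Hom (S : Subgroup G) :=
        ⟨le_rfl, fun x => (α x).2, g, fun x => hg x⟩
      refine Cfsg.Agent.Lib.Helper91.hom_mem_of_restrict_centric' p hSp _ E hsat hEsat hle R
        (S : Subgroup G) hRS hRc _ hψF ?_
      refine hom_congr E hn' (fun x => ?_)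
      show ((α ⟨x, hRS x.2⟩ : (S : Subgroup G)) : G) = (n : G) * x * (n : G)⁻¹
      rw [hg]
      have : (n : G) = g := hng
      rw [this]
    have hFE : groupFusionSystem (S : Subgroup G) ≤ E := le_of_isInvariantIn_of_autGroup_le hinv hA
    intro P
    exact Set.Subset.antisymm (hle P) (hFE P)

end Cfsg.Agent.S5160
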