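import Cfsg.Statements.S5193
import Cfsg.Agent.Lib.Helper53.FusWC8

set_option autoImplicit false
open Cfsg

namespace Cfsg.Agent.S5193

/-- Glauberman's Theorem for fusion systems. Let F be a saturated fusion system over a finite p-group S, let J(S) be the subgroup generated by the abelian subgroups of S of largest order, and let N be the normalizer fusion system of J(S) in F (a fusion system over N_S(J(S)) = S). Then every p-th power of an element of Z(S) that lies in the centre of N lies in the centre of F; and if p is odd, or if the symmetric group of degree 4 is not involved in any model of the normalizer system of a fully normalized F-centric subgroup (F is S₄-free), then the centre of N equals the centre of F. -/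
theorem result {Ω : Type*} [Group Ω] {S : Subgroup Ω} [Finite S] (p : ℕ) [Fact p.Prime] (hS : IsPGroup p S) (F : Cfsg.FusionSystem S) (hF : F.IsSaturated p) (N : Cfsg.FusionSystem (Cfsg.FusionSystem.normalizerIn S (Cfsg.thompsonSubgroupAOf S))) (hN : F.IsNormalizerSystem (Cfsg.thompsonSubgroupAOf S) N) : Subgroup.closure ((fun z : Ω => z ^ p) '' ((S ⊓ Subgroup.centralizer (S : Set Ω) : Subgroup Ω) : Set Ω)) ⊓ N.center ≤ F.center ∧ (p ≠ 2 ∨ F.IsSectionFree p (Equiv.Perm (Fin 4)) → N.center = F.center) := by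
  classical
  have hW2 : ∀ (Q R : Type _) [Group Q] [Group R] [Finite Q], IsPGroup p Q → ∀ φ : Q ≃* R,
      (Cfsg.Agent.Lib.Helper53.JAfun Q).map φ.toMonoidHom = Cfsg.Agent.Lib.Helper53.JAfun R :=
    fun Q R _ _ _ _ φ => Cfsg.Agent.Lib.Helper53.thompsonA_map_equiv φ
  have hWZ : ∀ (Q : Type _) [Group Q] [Finite Q], IsPGroup p Q →
      Subgroup.center Q ≤ Cfsg.Agent.Lib.Helper53.JAfun Q :=
    fun Q _ _ _ => Cfsg.Agent.Lib.Helper53.FusWC.center_le_thompsonA Q
  have hUS : Cfsg.thompsonSubgroupAOf S ≤ S :=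
    Cfsg.Agent.Lib.Helper53.FusWC.subFunctor_le Cfsg.Agent.Lib.Helper53.JAfun S
  have hfn : F.IsFullyNormalized (Cfsg.thompsonSubgroupAOf S) :=
    Cfsg.Agent.Lib.Helper53.FusWC.isFullyNormalized_subFunctor_self hS F
      Cfsg.Agent.Lib.Helper53.JAfun hW2
  have hNsat : N.IsSaturated p := Cfsg.Agent.S5098.result p hS F hF _ hfn N hN
  have hNS : Cfsg.FusionSystem.normalizerIn S (Cfsg.thompsonSubgroupAOf S) ≤ S :=
    Cfsg.Agent.Lib.Helper87.normalizerIn_le S _
  have : Finite ↥(Cfsg.FusionSystem.normalizerIn S (Cfsg.thompsonSubgroupAOf S)) :=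
    Finite.of_injective (Subgroup.inclusion hNS) (Subgroup.inclusion_injective _)
  have hcen : N.IsCentral N.center := Cfsg.Agent.S5144.result N
  have key : ∀ x ∈ N.center, (p ≠ 2 ∨ (∃ z ∈ S ⊓ Subgroup.centralizer (S : Set Ω), z ^ p = x) ∨
      F.IsSectionFree p (Equiv.Perm (Fin 4))) →
      ∀ (A : Subgroup Ω) (φ : A →* Ω), φ ∈ F.Hom A → ∀ hz : x ∈ A, φ ⟨x, hz⟩ = x := by
    intro x hx h
    obtain ⟨hxS, hxZ⟩ := Cfsg.Agent.Lib.Helper53.FusWC.center_nsys_le_centralizer hS
      Cfsg.Agent.Lib.Helper53.JAfun hW2 N x hx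
    have hcomm : ∀ y ∈ S, y * x = x * y := fun y hy =>
      (Subgroup.mem_centralizer_iff.mp hxZ y hy)
    exact Cfsg.Agent.Lib.Helper53.FusWC.fixMaps_main p hS F hF
      (Cfsg.Agent.Lib.Helper53.FusWC.subFunctor Cfsg.Agent.Lib.Helper53.JAfun)
      (fun P _ => Cfsg.Agent.Lib.Helper53.FusWC.subFunctor_le _ P)
      (fun P hP s _ hs => Cfsg.Agent.Lib.Helper53.FusWC.subFunctor_normalizer hS _ hW2 P hP s hs)
      x hxS hxZ
      (fun P hP hxP => Cfsg.Agent.Lib.Helper53.FusWC.mem_subFunctor_of_central hS _ hWZ P hP x hxP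
        (fun y hy => hcomm y (hP hy)))
      (Cfsg.Agent.Lib.Helper53.FusWC.fixAut_of_mem_center_nsys F hUS N hN x hx)
      (Cfsg.Agent.Lib.Helper53.FusWC.modelHyp_thompson hS F x hxS hxZ h)
  constructor
  · apply Cfsg.Agent.Lib.Helper53.FusWC.le_center_of_fixMaps p hS F hF _
      (inf_le_right.trans (hcen.1.trans hNS))
    intro x hx
    obtain ⟨z, hz, hzx⟩ := Cfsg.Agent.Lib.Helper53.FusWC.exists_pow_of_mem_closure
      (S ⊓ Subgroup.centralizer (S : Set Ω))
      (fun a ha b hb => ((Subgroup.mem_centralizer_iff.mp hb.2) a ha.1)) p x hx.1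
    exact key x hx.2 (Or.inr (Or.inl ⟨z, hz, hzx⟩))
  · intro h
    apply le_antisymm
    · apply Cfsg.Agent.Lib.Helper53.FusWC.le_center_of_fixMaps p hS F hF N.center
        (hcen.1.trans hNS)
      intro x hx
      exact key x hx (h.elim Or.inl (fun h => Or.inr (Or.inr h)))
    · exact Cfsg.Agent.Lib.Helper53.FusWC.center_le_center_nsys p hS F hF _ hUS N hN hNsat

end Cfsg.Agent.S5193
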