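import Cfsg.Statements.S5194
import Cfsg.Agent.S5193
import Cfsg.Agent.Lib.Helper87.ThompsonJ
import Cfsg.Agent.Lib.Helper88.FusionBasic

set_option autoImplicit false
open Cfsg

namespace Cfsg.Agent.S5194

open Cfsg.FusionSystem Cfsg.Agent.Lib.Helper87 in
/-- Thompson's normal p-complement Theorem for fusion systems. Let F be a saturated fusion system over a finite p-group S such that p is odd or F is S₄-free (the symmetric group of degree 4 is not involved in any model of the normalizer system of a fully normalized F-centric subgroup), and let J(S) be the subgroup generated by the abelian subgroups of S of largest order. If the centralizer fusion system of Z(S) in F is the inner fusion system of C_S(Z(S)) = S and the normalizer fusion system of J(S) in F is the inner fusion system of N_S(J(S)) = S, then F is the inner fusion system of S. -/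
theorem result {Ω : Type*} [Group Ω] {S : Subgroup Ω} [Finite S] (p : ℕ) [Fact p.Prime] (hS : IsPGroup p S) (F : Cfsg.FusionSystem S) (hF : F.IsSaturated p) (hp : p ≠ 2 ∨ F.IsSectionFree p (Equiv.Perm (Fin 4))) (hC : ∀ C : Cfsg.FusionSystem (Cfsg.FusionSystem.centralizerIn S (S ⊓ Subgroup.centralizer (S : Set Ω))), F.IsCentralizerSystem (S ⊓ Subgroup.centralizer (S : Set Ω)) C → ∀ P : Subgroup Ω, C.Hom P = (Cfsg.innerFusionSystem (Cfsg.FusionSystem.centralizerIn S (S ⊓ Subgroup.centralizer (S : Set Ω)))).Hom P) (hN : ∀ N : Cfsg.FusionSystem (Cfsg.FusionSystem.normalizerIn S (Cfsg.thompsonSubgroupAOf S)), F.IsNormalizerSystem (Cfsg.thompsonSubgroupAOf S) N → ∀ P : Subgroup Ω, N.Hom P = (Cfsg.innerFusionSystem (Cfsg.FusionSystem.normalizerIn S (Cfsg.thompsonSubgroupAOf S))).Hom P) : ∀ P : Subgroup Ω, F.Hom P = (Cfsg.innerFusionSystem S).Hom P := by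
  intro P
  have hJS : thompsonSubgroupAOf S ≤ S := Cfsg.Agent.Lib.Helper53.thompsonAOf_le S
  have hNS : normalizerIn S (thompsonSubgroupAOf S) = S := normalizerIn_thompsonJ S
  let N := normalizerSystem F (thompsonSubgroupAOf S) hJS
  have hNsys : F.IsNormalizerSystem (thompsonSubgroupAOf S) N :=
    normalizerSystem_isNormalizerSystem F _ hJS
  have hNinner := hN N hNsys
  have hcen : N.center = F.center := (Cfsg.Agent.S5193.result p hS F hF N hNsys).2 hp
  have hZN := isCentral_center_of_inner N hNinner
  have hZle : S ⊓ Subgroup.centralizer (S : Set Ω) ≤ F.center := by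
    have h1 : (normalizerIn S (thompsonSubgroupAOf S) ⊓
      Subgroup.centralizer ((normalizerIn S (thompsonSubgroupAOf S) : Subgroup Ω) : Set Ω)) =
        S ⊓ Subgroup.centralizer (S : Set Ω) := by rw [hNS]
    rw [← h1, ← hcen]
    exact le_sSup hZN
  have hFc : F.IsCentral F.center := Cfsg.Agent.Lib.Helper88.isCentral_center F
  have hZS : S ⊓ Subgroup.centralizer (S : Set Ω) ≤ S := inf_le_left
  let C := centralizerSystem F (S ⊓ Subgroup.centralizer (S : Set Ω)) hZS
  have hC' := hC C (centralizerSystem_isCentralizerSystem F _ hZS)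
  have hCS : centralizerIn S (S ⊓ Subgroup.centralizer (S : Set Ω)) = S := by
    apply inf_of_le_left
    intro s hs
    rw [Subgroup.mem_centralizer_iff]
    intro z hz
    exact ((Subgroup.mem_centralizer_iff.mp hz.2) s hs).symm
  ext φ
  constructor
  · intro hφ
    have hPS := hom_le F hφ
    obtain ⟨ψ, hψ, hψφ, hψZ⟩ := hFc.2 P φ hφ
    have hle : P ⊔ (S ⊓ Subgroup.centralizer (S : Set Ω)) ≤ P ⊔ F.center := sup_le_sup_left hZle P
    have hmem : φ ∈ C.Hom P := by
      show φ ∈ F.centralizerHom (S ⊓ Subgroup.centralizer (S : Set Ω)) P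
      refine ⟨hφ, ?_, ?_, ψ.comp (Subgroup.inclusion hle), restrict_mem F hle hψ,
        fun x => hψφ x, fun x => hψZ ⟨x, hZle x.2⟩⟩
      · rw [hCS]; exact hPS
      · intro x; rw [hCS]; exact hom_mem F hφ x
    rw [hC' P] at hmem
    obtain ⟨-, g, hg, hφg⟩ := hmem
    exact ⟨hPS, g, centralizerIn_le _ _ hg, hφg⟩
  · rintro ⟨hPS, g, hg, hφg⟩
    exact hom_congr F (F.conj_mem hPS hg) (fun x => hφg x)

end Cfsg.Agent.S5194
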