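import Cfsg.Statements.S5344
import Cfsg.Agent.S2530

set_option autoImplicit false
open Cfsg

namespace Cfsg.Agent.S5344

set_option maxRecDepth 100000 in
/-- every nontrivial normal subgroup of the symmetric group of degree 4 contains (0 1)(2 3) -/
theorem normal_closure_aux : ∀ g : Equiv.Perm (Fin 4), g ≠ 1 →
    ∃ x y : Equiv.Perm (Fin 4), x * g * x⁻¹ * (y * g * y⁻¹) = Equiv.swap 0 1 * Equiv.swap 2 3 := by
  decide


/-- In a set of 3-transpositions, let a, b, c be members with a and c different and commuting, while neither a nor c commutes with b (a 3-string). Then there is an injective homomorphism from the symmetric group of degree 4 into the ambient group sending the transpositions (0 1), (1 2), (2 3) to a, b, c; so a, b, c generate a copy of the symmetric group of degree 4 in which they are transpositions. -/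
theorem result {G : Type*} [Group G] {D : Set G} (hD : Cfsg.IsThreeTranspositionSet D) {a b c : G} (ha : a ∈ D) (hb : b ∈ D) (hc : c ∈ D) (hac : a ≠ c) (hac' : Commute a c) (hab : ¬ Commute a b) (hbc : ¬ Commute b c) : ∃ φ : Equiv.Perm (Fin 4) →* G, Function.Injective φ ∧ φ (Equiv.swap 0 1) = a ∧ φ (Equiv.swap 1 2) = b ∧ φ (Equiv.swap 2 3) = c := by
  obtain ⟨hord, h23⟩ := hD
  have sq : ∀ x ∈ D, x * x = 1 := by
    intro x hx
    have := pow_orderOf_eq_one x
    rw [hord x hx, pow_two] at this
    exact this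
  have inv_eq : ∀ x ∈ D, x⁻¹ = x := fun x hx => inv_eq_of_mul_eq_one_right (sq x hx)
  -- two members of D whose product squares to one commute
  have comm_of_sq : ∀ x ∈ D, ∀ y ∈ D, (x * y) ^ 2 = 1 → Commute x y := by
    intro x hx y hy h
    have h1 : x * y * (x * y) = 1 := by rw [← pow_two]; exact h
    have h2 : x * y = (x * y)⁻¹ := eq_inv_of_mul_eq_one_left h1
    rw [mul_inv_rev, inv_eq x hx, inv_eq y hy] at h2
    exact h2
  have cube : ∀ x ∈ D, ∀ y ∈ D, ¬ Commute x y → (x * y) ^ 3 = 1 := by
    intro x hx y hy hxy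
    rcases h23 x hx y hy with h | h
    · exact absurd (comm_of_sq x hx y hy h) hxy
    · exact h
  have hab3 : (a * b) ^ 3 = 1 := cube a ha b hb hab
  have hba3 : (b * a) ^ 3 = 1 := cube b hb a ha (fun h => hab h.symm)
  have hbc3 : (b * c) ^ 3 = 1 := cube b hb c hc hbc
  have hcb3 : (c * b) ^ 3 = 1 := cube c hc b hb (fun h => hbc h.symm)
  have hac2 : (a * c) ^ 2 = 1 := by
    rw [pow_two]
    calc a * c * (a * c) = a * (c * a) * c := by group
      _ = a * (a * c) * c := by rw [hac'.eq]
      _ = (a * a) * (c * c) := by group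
      _ = 1 := by rw [sq a ha, sq c hc, one_mul]
  have hca2 : (c * a) ^ 2 = 1 := by rw [← hac'.eq]; exact hac2
  obtain ⟨cs, hcs⟩ := Cfsg.Agent.S2530.result 3
  have hlift : (CoxeterMatrix.A 3).IsLiftable (![a, b, c] : Fin 3 → G) := by
    intro i j
    fin_cases i <;> fin_cases j <;>
      simp [CoxeterMatrix.A, sq a ha, sq b hb, sq c hc, hab3, hba3, hbc3, hcb3, hac2, hca2]
  let φ : Equiv.Perm (Fin 4) →* G := cs.lift ⟨_, hlift⟩
  have h0 : φ (Equiv.swap 0 1) = a := by
    have := cs.lift_apply_simple hlift 0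
    rw [hcs 0] at this
    exact this
  have h1 : φ (Equiv.swap 1 2) = b := by
    have := cs.lift_apply_simple hlift 1
    rw [hcs 1] at this
    exact this
  have h2 : φ (Equiv.swap 2 3) = c := by
    have := cs.lift_apply_simple hlift 2
    rw [hcs 2] at this
    exact this
  refine ⟨φ, ?_, h0, h1, h2⟩
  rw [injective_iff_map_eq_one]
  intro g hg
  by_contra hg1
  obtain ⟨x, y, hxy⟩ := normal_closure_aux g hg1
  have : φ (Equiv.swap 0 1 * Equiv.swap 2 3) = 1 := by
    rw [← hxy]
    simp [hg]
  rw [map_mul, h0, h2] at this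
  apply hac
  have := eq_inv_of_mul_eq_one_left this
  rw [this, inv_eq c hc]

end Cfsg.Agent.S5344
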