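import Cfsg.Statements.S5301
import Cfsg.Agent.S5080
import Cfsg.Agent.S5082
import Cfsg.Agent.Lib.Helper90.FusionExt

set_option autoImplicit false
universe u
open Cfsg

namespace Cfsg.Agent.S5301

open Cfsg.Agent.Lib.Helper87 hiding mem_autGroup_iff mem_autInducedBy_iff autInducedBy_le_autGroup mem_normalizer_of_conj_eq isPGroup_autInducedBy
open Cfsg.Agent.Lib.Helper90 Cfsg.FusionSystem

/-- Let F be a saturated fusion system over a finite p-group S. If for every subgroup P of S that is fully normalized, centric and radical in F the automorphism group that F induces on P has a normal Sylow p-subgroup, then S is normal in F. -/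
theorem result {Ω : Type u} [Group Ω] {S : Subgroup Ω} [Finite S] (p : ℕ) [Fact p.Prime] (hS : IsPGroup p S)
    (F : Cfsg.FusionSystem S) (hF : F.IsSaturated p)
    (hcl : ∀ P : Subgroup Ω, F.IsFullyNormalized P → F.IsCentric P → F.IsRadical p P →
      ∃ R : Sylow p ↥(F.autGroup P), (R : Subgroup ↥(F.autGroup P)).Normal) :
    F.IsNormal S := by
  have hness : ∀ P : Subgroup Ω, ¬ F.IsEssential p P := by
    intro P hess
    have hrad := Cfsg.Agent.S5080.result p hS F hF P hess
    obtain ⟨hcen, hfn, hN, E, hpd, -, -⟩ := hess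
    obtain ⟨R, hRn⟩ := hcl P hfn hcen hrad
    haveI : Finite P := finite_of_le hcen.1
    have hRcore : (R : Subgroup (F.autGroup P)) ≤ pCore p (F.autGroup P) :=
      le_sSup ⟨hRn, R.isPGroup'⟩
    have hcoreI : pCore p (F.autGroup P) ≤ (Inn P).subgroupOf (F.autGroup P) := by
      intro a ha
      rw [Subgroup.mem_subgroupOf, ← hrad.2]
      exact ⟨a, ha, rfl⟩
    have h1 : ((Inn P).subgroupOf (F.autGroup P)).index ∣ (R : Subgroup (F.autGroup P)).index :=
      Subgroup.index_dvd_of_le (hRcore.trans hcoreI)
    have h2 : ¬ p ∣ (R : Subgroup (F.autGroup P)).index := R.not_dvd_index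
    apply h2
    refine dvd_trans ?_ h1
    rw [Subgroup.index_eq_card]
    exact hpd
  have hle : F ≤ extSystem F := by
    apply Cfsg.Agent.S5082.result p hS F hF (extSystem F)
    rintro P (rfl | hP)
    · exact autGroup_top_le_extSystem F
    · exact absurd hP (hness P)
  exact isNormal_top_of_le_extSystem F hle

end Cfsg.Agent.S5301
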