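import Cfsg.Statements.S5421
import Cfsg.Agent.Lib.Helper92.Extraspecial

set_option autoImplicit false
open Cfsg

namespace Cfsg.Agent.S5421

open Cfsg.Agent.Lib.Helper92
open scoped commutatorElement

/-- Let Q be an extraspecial 2-subgroup of the finite group G whose centralizer in G is its centre Z and which is normal in the centralizer of Z. If some involution b of Q outside Z has Z inside the largest normal 2-subgroup of the centralizer of b, then Q is a large extraspecial 2-subgroup of G. -/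
theorem result {G : Type*} [Group G] [Finite G] (Q : Subgroup G) (hL1 : Cfsg.IsExtraspecial 2 ↥Q) (hL2 : Subgroup.centralizer (Q : Set G) = ((Subgroup.center ↥Q).map Q.subtype)) (hL3 : Subgroup.centralizer (((Subgroup.center ↥Q).map Q.subtype) : Set G) ≤ Subgroup.normalizer (Q : Set G)) (b : G) (hbQ : b ∈ Q) (hbZ : b ∉ ((Subgroup.center ↥Q).map Q.subtype)) (hb : orderOf b = 2) (hZ : ((Subgroup.center ↥Q).map Q.subtype) ≤ (Cfsg.pCore 2 ↥(Subgroup.centralizer ({b} : Set G))).map (Subgroup.centralizer ({b} : Set G)).subtype) : Cfsg.IsLargeExtraspecial Q := by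
  refine ⟨hL1, hL2, hL3, ?_⟩
  intro K hK hQK
  have hZcard : Nat.card ((Subgroup.center Q).map Q.subtype) = 2 := by
    rw [card_map_subtype_center]; exact hL1.2
  -- the nontrivial central element z
  obtain ⟨z, hz, hz1⟩ : ∃ z ∈ (Subgroup.center Q).map Q.subtype, z ≠ 1 := by
    by_contra hcon
    push Not at hcon
    have : (Subgroup.center Q).map Q.subtype = ⊥ := by
      rw [eq_bot_iff]; intro x hx; exact (Subgroup.mem_bot).2 (hcon x hx)
    rw [this] at hZcard
    simp at hZcard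
  obtain ⟨hzQ, hzc⟩ := (mem_map_subtype_center_iff Q z).1 hz
  have hz2 : z * z = 1 := by
    have h := eq_one_or_eq_of_card_two hZcard hz hz1
      (((Subgroup.center Q).map Q.subtype).mul_mem hz hz)
    rcases h with h | h
    · exact h
    · exfalso; apply hz1
      calc z = z⁻¹ * (z * z) := by group
        _ = z⁻¹ * z := by rw [h]
        _ = 1 := by group
  have hb2 : b * b = 1 := by
    have := pow_orderOf_eq_one b
    rw [hb, pow_two] at this
    exact this
  -- (i) no nontrivial element of K commutes with z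
  have hKz : ∀ k ∈ K, k * z = z * k → k = 1 := by
    intro k hkK hkz
    apply eq_one_of_mem_odd_of_mem_centralizer_center Q hL1 hL2 hL3 K hK hQK hkK
    rw [Subgroup.mem_centralizer_iff]
    intro x hx
    rcases eq_one_or_eq_of_card_two hZcard hz hz1 hx with h | h
    · rw [h]; simp
    · rw [h]; exact hkz.symm
  -- (ii) no nontrivial element of K commutes with b
  have hKb : ∀ k ∈ K, k * b = b * k → k = 1 := by
    intro k hkK hkb
    apply hKz k hkK
    set C := Subgroup.centralizer ({b} : Set G) with hC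
    have hkC : k ∈ C := by
      rw [hC, Subgroup.mem_centralizer_singleton_iff]; exact hkb
    set R := (Cfsg.pCore 2 ↥C).map C.subtype with hR
    have hR2 : IsPGroup 2 R := (pCoreIsPGroup 2).map _
    have hzR : z ∈ R := hZ hz
    have hconj : k * z * k⁻¹ ∈ R := by
      obtain ⟨z', hz', rfl⟩ := hzR
      have hn : (Cfsg.pCore 2 ↥C).Normal := pCoreNormal 2
      exact ⟨⟨k, hkC⟩ * z' * ⟨k, hkC⟩⁻¹, hn.conj_mem z' hz' ⟨k, hkC⟩, rfl⟩
    have h1 : k * z * k⁻¹ * z⁻¹ ∈ R := R.mul_mem hconj (R.inv_mem hzR)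
    have h2 : k * z * k⁻¹ * z⁻¹ ∈ K := by
      have : z * k⁻¹ * z⁻¹ ∈ K :=
        (Subgroup.mem_set_normalizer_iff.1 (hQK hzQ) k⁻¹).1 (K.inv_mem hkK)
      have := K.mul_mem hkK this
      simpa [mul_assoc] using this
    have h3 := eq_one_of_mem_two_group_of_mem_odd hR2 hK h1 h2
    calc k * z = (k * z * k⁻¹ * z⁻¹) * (z * k) := by group
      _ = z * k := by rw [h3]; group
  -- (iii) z * b is conjugate to b under Q
  obtain ⟨q, hqQ, hq⟩ : ∃ q ∈ Q, q * b * q⁻¹ = z * b := by
    have : ¬ (b ∈ Q ∧ ∀ q ∈ Q, q * b = b * q) := fun h =>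
      hbZ ((mem_map_subtype_center_iff Q b).2 h)
    push Not at this
    obtain ⟨q, hqQ, hqb⟩ := this hbQ
    refine ⟨q, hqQ, ?_⟩
    have hcomm : (⁅(⟨q, hqQ⟩ : Q), ⟨b, hbQ⟩⁆ : Q) ∈ commutator Q :=
      Subgroup.commutator_mem_commutator (Subgroup.mem_top _) (Subgroup.mem_top _)
    rw [hL1.1.2.2] at hcomm
    have hcz : q * b * q⁻¹ * b⁻¹ ∈ (Subgroup.center Q).map Q.subtype :=
      ⟨_, hcomm, rfl⟩
    rcases eq_one_or_eq_of_card_two hZcard hz hz1 hcz with h | h
    · exfalso; apply hqb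
      calc q * b = (q * b * q⁻¹ * b⁻¹) * (b * q) := by group
        _ = b * q := by rw [h]; group
    · calc q * b * q⁻¹ = (q * b * q⁻¹ * b⁻¹) * b := by group
        _ = z * b := by rw [h]
  have hKzb : ∀ k ∈ K, k * (z * b) = (z * b) * k → k = 1 := by
    intro k hkK hk
    have hk' : q⁻¹ * k * q ∈ K :=
      (Subgroup.mem_set_normalizer_iff''.1 (hQK hqQ) k).1 hkK
    have hcomm : (q⁻¹ * k * q) * b = b * (q⁻¹ * k * q) := by
      calc (q⁻¹ * k * q) * b = q⁻¹ * (k * (q * b * q⁻¹)) * q := by group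
        _ = q⁻¹ * ((q * b * q⁻¹) * k) * q := by rw [hq, hk]
        _ = b * (q⁻¹ * k * q) := by group
    have := hKb _ hk' hcomm
    calc k = q * (q⁻¹ * k * q) * q⁻¹ := by group
      _ = 1 := by rw [this]; group
  -- (iv) z and b both invert K
  have hinvz := conj_eq_inv_of_fixedPointFree hz2 (hQK hzQ) hKz
  have hinvb := conj_eq_inv_of_fixedPointFree hb2 (hQK hbQ) hKb
  rw [eq_bot_iff]
  intro k hkK
  rw [Subgroup.mem_bot]
  apply hKzb k hkK
  have h1 : b * k * b⁻¹ = k⁻¹ := hinvb k hkK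
  have h2 : z * k⁻¹ * z⁻¹ = k⁻¹⁻¹ := hinvz k⁻¹ (K.inv_mem hkK)
  have h3 : (z * b) * k * (z * b)⁻¹ = k := by
    calc (z * b) * k * (z * b)⁻¹ = z * (b * k * b⁻¹) * z⁻¹ := by group
      _ = z * k⁻¹ * z⁻¹ := by rw [h1]
      _ = k := by rw [h2, inv_inv]
  calc k * (z * b) = ((z * b) * k * (z * b)⁻¹) * (z * b) := by rw [h3]
    _ = (z * b) * k := by group

end Cfsg.Agent.S5421
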