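import Cfsg.Statements.S5422
import Cfsg.Agent.Lib.Helper38.LargeExtraspecial
import Cfsg.Agent.Lib.Helper38.FourGroup
import Cfsg.Agent.Lib.Helper55.Large
import Cfsg.Agent.Lib.Helper03.PGroupFrattini
import Cfsg.Agent.Lib.Helper92.Basic
import Cfsg.Agent.S5421

set_option autoImplicit false
open Cfsg

namespace Cfsg.Agent.S5422

/-- Let Q be an extraspecial 2-subgroup of the finite group G whose centralizer in G is its centre Z and which is normal in the centralizer of Z; suppose Q has width at least 2 (order 2^(2w+1) with w ≥ 2) and g is an element of G not normalizing Z with g Z g⁻¹ inside Q. Then Z lies inside g Q g⁻¹; writing V for the subgroup generated by Z and g Z g⁻¹ (a four-group), the normalizer of V induces on V its full automorphism group, that is, the centralizer of V has index 6 in the normalizer of V; and Q is a large extraspecial 2-subgroup of G. -/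
theorem result {G : Type*} [Group G] [Finite G] (Q : Subgroup G) (hL1 : Cfsg.IsExtraspecial 2 ↥Q) (hL2 : Subgroup.centralizer (Q : Set G) = ((Subgroup.center ↥Q).map Q.subtype)) (hL3 : Subgroup.centralizer (((Subgroup.center ↥Q).map Q.subtype) : Set G) ≤ Subgroup.normalizer (Q : Set G)) (w : ℕ) (hw : 2 ≤ w) (hcard : Nat.card ↥Q = 2 ^ (2 * w + 1)) (g : G) (hg : g ∉ Subgroup.normalizer (((Subgroup.center ↥Q).map Q.subtype) : Set G)) (hZg : (((Subgroup.center ↥Q).map Q.subtype)).map (MulAut.conj g).toMonoidHom ≤ Q) : ((Subgroup.center ↥Q).map Q.subtype) ≤ (Q).map (MulAut.conj g).toMonoidHom ∧ (Subgroup.centralizer ((((Subgroup.center ↥Q).map Q.subtype) ⊔ (((Subgroup.center ↥Q).map Q.subtype)).map (MulAut.conj g).toMonoidHom : Subgroup G) : Set G)).relIndex (Subgroup.normalizer ((((Subgroup.center ↥Q).map Q.subtype) ⊔ (((Subgroup.center ↥Q).map Q.subtype)).map (MulAut.conj g).toMonoidHom : Subgroup G) : Set G)) = 6 ∧ Cfsg.IsLargeExtraspecial Q := by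
  classical
  have hf2 : Fact (Nat.Prime 2) := ⟨Nat.prime_two⟩
  have hL1' := hL1
  obtain ⟨⟨hP, hfrat, hcommeq⟩, hcardZ⟩ := hL1'
  have hcomm : commutator ↥Q ≤ Subgroup.center ↥Q := hcommeq.le
  have hsq : ∀ x : ↥Q, x ^ 2 ∈ Subgroup.center ↥Q := by
    intro x
    rw [← hfrat]
    exact Cfsg.Agent.Lib.Helper03.pow_mem_frattini_of_isPGroup hP x
  set Z := (Subgroup.center ↥Q).map Q.subtype with hZdef
  have hZcard : Nat.card Z = 2 := by
    rw [hZdef, Cfsg.Agent.Lib.Helper92.card_map_subtype_center]; exact hcardZ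
  obtain ⟨z, hzZ, hz1⟩ : ∃ z ∈ Z, z ≠ 1 := by
    by_contra hcon
    push Not at hcon
    have : Z = ⊥ := by
      rw [eq_bot_iff]; intro x hx; exact Subgroup.mem_bot.2 (hcon x hx)
    rw [this] at hZcard
    simp at hZcard
  obtain ⟨hzQ, hzc⟩ := (Cfsg.Agent.Lib.Helper92.mem_map_subtype_center_iff Q z).1 hzZ
  have hZmem : ∀ x, x ∈ Z ↔ x = 1 ∨ x = z := by
    intro x
    constructor
    · intro hx; exact Cfsg.Agent.Lib.Helper92.eq_one_or_eq_of_card_two hZcard hzZ hz1 hx
    · rintro (h | h) <;> rw [h]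
      · exact Z.one_mem
      · exact hzZ
  have hz2 : z * z = 1 := by
    rcases (hZmem _).mp (Z.mul_mem hzZ hzZ) with h | h
    · exact h
    · exfalso; apply hz1; exact mul_left_cancel (a := z) (by rw [h, mul_one])
  have hCz : Subgroup.centralizer (Z : Set G) = Subgroup.centralizer ({z} : Set G) := by
    ext x
    rw [Subgroup.mem_centralizer_iff, Subgroup.mem_centralizer_singleton_iff]
    constructor
    · intro h; exact (h z hzZ).symm
    · intro h y hy
      rcases (hZmem y).mp hy with h1 | h1 <;> rw [h1]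
      · rw [one_mul, mul_one]
      · exact h.symm
  have hN : Subgroup.centralizer ({z} : Set G) ≤ Subgroup.normalizer (Q : Set G) := by
    rw [← hCz]; exact hL3
  have hCQ : Subgroup.centralizer (Q : Set G) ≤ Q := by
    rw [hL2]; exact Subgroup.map_subtype_le _
  obtain ⟨b, hb⟩ : ∃ b, b = g * z * g⁻¹ := ⟨_, rfl⟩
  have hbZg : b ∈ Z.map (MulAut.conj g).toMonoidHom := ⟨z, hzZ, by rw [hb]; rfl⟩
  have hbQ : b ∈ Q := hZg hbZg
  have hzgb : z = g⁻¹ * b * g := by rw [hb]; group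
  have hb1 : b ≠ 1 := by
    intro h; apply hz1; rw [hzgb, h]; group
  have hb2 : b * b = 1 := by
    calc b * b = g * (z * z) * g⁻¹ := by rw [hb]; group
      _ = 1 := by rw [hz2]; group
  have hbz : b ≠ z := by
    intro h
    apply hg
    rw [Subgroup.mem_normalizer_iff]
    intro x
    rw [hZmem, hZmem]
    have hx : x = g⁻¹ * (g * x * g⁻¹) * g := by group
    constructor
    · rintro (h1 | h1) <;> rw [h1]
      · left; group
      · right; rw [← hb, h]
    · rintro (h1 | h1)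
      · left; rw [hx, h1]; group
      · right
        have hzz : z = g * z * g⁻¹ := h.symm.trans hb
        rw [hx, h1]
        calc g⁻¹ * z * g = g⁻¹ * (g * z * g⁻¹) * g := by rw [← hzz]
          _ = z := by group
  have hzg : z ∈ Q.map (MulAut.conj g).toMonoidHom :=
    Cfsg.Agent.Lib.Helper38.mem_conj_of_conj_mem Q hP hcomm hcardZ hsq z hzQ hzc hz1 hCQ hN g
      (by rw [← hb]; exact hbQ)
  have part1 : Z ≤ Q.map (MulAut.conj g).toMonoidHom := by
    intro x hx
    rcases (hZmem x).mp hx with h1 | h1 <;> rw [h1]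
    · exact Subgroup.one_mem _
    · exact hzg
  -- part 3
  have hbZ : b ∉ Z := by
    intro h
    rcases (hZmem b).mp h with h1 | h1
    · exact hb1 h1
    · exact hbz h1
  have hbord : orderOf b = 2 := orderOf_eq_prime (by rw [sq]; exact hb2) hb1
  have hcentb : Subgroup.centralizer ({b} : Set G) =
      Cfsg.Agent.Lib.Helper55.cj g (Subgroup.centralizer ({z} : Set G)) := by
    ext x
    rw [Cfsg.Agent.Lib.Helper55.mem_cj, Subgroup.mem_centralizer_singleton_iff,
      Subgroup.mem_centralizer_singleton_iff, hb]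
    constructor
    · intro hA
      calc g⁻¹ * x * g * z = g⁻¹ * (x * (g * z * g⁻¹)) * g := by group
        _ = g⁻¹ * ((g * z * g⁻¹) * x) * g := by rw [hA]
        _ = z * (g⁻¹ * x * g) := by group
    · intro hB
      calc x * (g * z * g⁻¹) = g * (g⁻¹ * x * g * z) * g⁻¹ := by group
        _ = g * (z * (g⁻¹ * x * g)) * g⁻¹ := by rw [hB]
        _ = g * z * g⁻¹ * x := by group
  have hZpc : Z ≤ (Cfsg.pCore 2 ↥(Subgroup.centralizer ({b} : Set G))).map
      (Subgroup.centralizer ({b} : Set G)).subtype := by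
    refine part1.trans ?_
    show Cfsg.Agent.Lib.Helper55.cj g Q ≤ Cfsg.pCoreOf 2 (Subgroup.centralizer ({b} : Set G))
    apply Cfsg.Agent.Lib.Helper55.le_pCoreOf
    · rw [hcentb]
      apply Cfsg.Agent.Lib.Helper55.cj_mono
      intro q hq
      exact Subgroup.mem_centralizer_singleton_iff.mpr (hzc q hq)
    · rw [hcentb, ← Cfsg.Agent.Lib.Helper55.cj_normalizer]
      exact Cfsg.Agent.Lib.Helper55.cj_mono hN
    · exact Cfsg.Agent.Lib.Helper55.isPGroup_cj hP
  have part3 := Cfsg.Agent.S5421.result Q hL1 hL2 hL3 b hbQ hbZ hbord hZpc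
  -- part 2
  have hzb : z * b = b * z := (hzc b hbQ).symm
  have hcenterQ : ∀ x : ↥Q, x ∈ Subgroup.center ↥Q → (x : G) = 1 ∨ (x : G) = z := by
    intro x hx
    exact (hZmem _).mp ⟨x, hx, rfl⟩
  -- a
  have hbQc : (⟨b, hbQ⟩ : ↥Q) ∉ Subgroup.center ↥Q := by
    intro h
    exact hbZ ⟨⟨b, hbQ⟩, h, rfl⟩
  obtain ⟨a, haz, hab⟩ : ∃ a : G, a * z * a⁻¹ = z ∧ a * b * a⁻¹ = z * b := by
    have h0 := hbQc
    rw [Subgroup.mem_center_iff] at h0
    push Not at h0
    obtain ⟨a, ha⟩ := h0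
    have h1 : Cfsg.Agent.Lib.Helper38.cm a (⟨b, hbQ⟩ : ↥Q) ≠ 1 :=
      fun h0 => ha ((Cfsg.Agent.Lib.Helper38.cm_eq_one_iff _ _).mp h0)
    have h2 := hcenterQ _ (Cfsg.Agent.Lib.Helper38.cm_mem_center hcomm a ⟨b, hbQ⟩)
    refine ⟨a, ?_, ?_⟩
    · rw [hzc a a.2]; group
    · rcases h2 with h3 | h3
      · exact absurd (Subtype.ext h3) h1
      · have h4 : (a : G) * b * (a : G)⁻¹ * b⁻¹ = z := h3
        exact mul_inv_eq_iff_eq_mul.mp h4
  -- a'
  obtain ⟨t, ht⟩ : ∃ t, t = g⁻¹ * z * g := ⟨_, rfl⟩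
  have htQ : t ∈ Q := by
    rw [ht]; exact Cfsg.Agent.Lib.Helper55.mem_cj.mp hzg
  have hzt : z = g * t * g⁻¹ := by rw [ht]; group
  have htQc : (⟨t, htQ⟩ : ↥Q) ∉ Subgroup.center ↥Q := by
    intro h
    rcases hcenterQ _ h with h1 | h1
    · apply hz1; rw [hzt]
      have : t = 1 := h1
      rw [this]; group
    · apply hbz
      have h2 : t = z := h1
      rw [hb]
      conv_rhs => rw [hzt, h2]
  obtain ⟨a', ha'b, ha'z⟩ : ∃ a' : G, a' * b * a'⁻¹ = b ∧ a' * z * a'⁻¹ = z * b := by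
    have h0 := htQc
    rw [Subgroup.mem_center_iff] at h0
    push Not at h0
    obtain ⟨a₀, ha₀⟩ := h0
    have h1 : Cfsg.Agent.Lib.Helper38.cm a₀ (⟨t, htQ⟩ : ↥Q) ≠ 1 :=
      fun h0 => ha₀ ((Cfsg.Agent.Lib.Helper38.cm_eq_one_iff _ _).mp h0)
    have h2 := hcenterQ _ (Cfsg.Agent.Lib.Helper38.cm_mem_center hcomm a₀ ⟨t, htQ⟩)
    have h3 : (a₀ : G) * t * (a₀ : G)⁻¹ = z * t := by
      rcases h2 with h3 | h3
      · exact absurd (Subtype.ext h3) h1
      · have h4 : (a₀ : G) * t * (a₀ : G)⁻¹ * t⁻¹ = z := h3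
        exact mul_inv_eq_iff_eq_mul.mp h4
    have h5 : (a₀ : G) * z * (a₀ : G)⁻¹ = z := by rw [hzc a₀ a₀.2]; group
    refine ⟨g * a₀ * g⁻¹, ?_, ?_⟩
    · calc g * a₀ * g⁻¹ * b * (g * a₀ * g⁻¹)⁻¹ = g * ((a₀ : G) * z * (a₀ : G)⁻¹) * g⁻¹ := by
            rw [hb]; group
        _ = b := by rw [h5, hb]
    · calc g * a₀ * g⁻¹ * z * (g * a₀ * g⁻¹)⁻¹ = g * ((a₀ : G) * t * (a₀ : G)⁻¹) * g⁻¹ := by
            rw [hzt]; group
        _ = g * (z * t) * g⁻¹ := by rw [h3]
        _ = (g * z * g⁻¹) * (g * t * g⁻¹) := by group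
        _ = b * z := by rw [← hb, ← hzt]
        _ = z * b := hzb.symm
  have hVeq : Z ⊔ Z.map (MulAut.conj g).toMonoidHom =
      Cfsg.Agent.Lib.Helper38.fourSub z b hz2 hb2 hzb := by
    apply le_antisymm
    · apply sup_le
      · intro x hx
        rcases (hZmem x).mp hx with h1 | h1
        · exact Or.inl h1
        · exact Or.inr (Or.inl h1)
      · rintro _ ⟨y, hy, rfl⟩
        rcases (hZmem y).mp hy with h1 | h1 <;> rw [h1]
        · left; simp
        · right; right; left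
          rw [hb]; rfl
    · intro x hx
      rcases hx with h1 | h1 | h1 | h1 <;> rw [h1]
      · exact Subgroup.one_mem _
      · exact Subgroup.mem_sup_left hzZ
      · exact Subgroup.mem_sup_right hbZg
      · exact Subgroup.mul_mem _ (Subgroup.mem_sup_left hzZ) (Subgroup.mem_sup_right hbZg)
  refine ⟨part1, ?_, part3⟩
  rw [hVeq]
  exact Cfsg.Agent.Lib.Helper38.relIndex_fourSub z b a a' hz1 hb1 hbz.symm hz2 hb2 hzb haz hab ha'b ha'z

end Cfsg.Agent.S5422
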