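import Cfsg.Statements.S5434
import Cfsg.Agent.Lib.Helper92.ExtraSub
import Cfsg.Agent.Lib.Helper92.Extraspecial

set_option autoImplicit false
open Cfsg

namespace Cfsg.Agent.S5434

open Cfsg.Agent.Lib.Helper92
open scoped commutatorElement

/-- Products of two permuted lists of elements of `Q` differ by an element of `Z`, when `Z`
contains all commutators of `Q` and is central in `Q`. -/
theorem prod_perm_mem {G : Type*} [Group G] {Q Z : Subgroup G}
    (hcomm : ∀ x ∈ Q, ∀ y ∈ Q, x * y * x⁻¹ * y⁻¹ ∈ Z)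
    (hcen : ∀ c ∈ Z, ∀ q ∈ Q, q * c = c * q)
    {l₁ l₂ : List G} (h : l₁.Perm l₂) (hl : ∀ x ∈ l₁, x ∈ Q) : l₁.prod * l₂.prod⁻¹ ∈ Z := by
  induction h with
  | nil => simp
  | cons x h ih =>
    have hx : x ∈ Q := hl x (by simp)
    have hc := ih (fun y hy => hl y (by simp [hy]))
    have h1 := hcen _ hc x hx
    rw [List.prod_cons, List.prod_cons]
    rename_i l₁' l₂'
    have h2 : x * l₁'.prod * (x * l₂'.prod)⁻¹ = x * (l₁'.prod * l₂'.prod⁻¹) * x⁻¹ := by group
    rw [h2, h1]
    have h3 : l₁'.prod * l₂'.prod⁻¹ * x * x⁻¹ = l₁'.prod * l₂'.prod⁻¹ := by group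
    rw [h3]; exact hc
  | swap x y l =>
    have hx : x ∈ Q := hl x (by simp)
    have hy : y ∈ Q := hl y (by simp)
    rw [List.prod_cons, List.prod_cons, List.prod_cons, List.prod_cons]
    have h2 : y * (x * l.prod) * (x * (y * l.prod))⁻¹ = y * x * y⁻¹ * x⁻¹ := by group
    rw [h2]
    exact hcomm y hy x hx
  | trans h₁ h₂ ih₁ ih₂ =>
    rename_i l₁' l₂' l₃'
    have hl₂ : ∀ x ∈ l₂', x ∈ Q := fun x hx => hl x (h₁.mem_iff.2 hx)
    have := Z.mul_mem (ih₁ hl) (ih₂ hl₂)
    have h2 : l₁'.prod * l₂'.prod⁻¹ * (l₂'.prod * l₃'.prod⁻¹) = l₁'.prod * l₃'.prod⁻¹ := by group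
    rw [h2] at this
    exact this

/-- Let Q be a large extraspecial 2-subgroup of the finite group G (extraspecial; centralizer equal to its centre; normal in the centralizer of its centre; normalizing no non-trivial subgroup of odd order), and A a non-trivial subgroup of odd order of the normalizer of Q. Then Q is the central product of the centralizer of A in Q and the commutator subgroup [Q, A] (they generate Q and commute elementwise), [Q, A] is extraspecial, and the centralizer of A in Q is either the centre of Q or extraspecial. -/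
theorem result {G : Type*} [Group G] [Finite G] (Q : Subgroup G) (hQ : Cfsg.IsLargeExtraspecial Q) (A : Subgroup G) (hA : A ≤ Subgroup.normalizer (Q : Set G)) (hAodd : Odd (Nat.card ↥A)) (hA1 : A ≠ ⊥) : (Q ⊓ Subgroup.centralizer (A : Set G)) ⊔ ⁅Q, A⁆ = Q ∧ (∀ x ∈ Q ⊓ Subgroup.centralizer (A : Set G), ∀ y ∈ ⁅Q, A⁆, x * y = y * x) ∧ Cfsg.IsExtraspecial 2 ↥⁅Q, A⁆ ∧ (Q ⊓ Subgroup.centralizer (A : Set G) = ((Subgroup.center ↥Q).map Q.subtype) ∨ Cfsg.IsExtraspecial 2 ↥(Q ⊓ Subgroup.centralizer (A : Set G))) := by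
  obtain ⟨hL1, hL2, -, -⟩ := hQ
  set Z := (Subgroup.center Q).map Q.subtype with hZdef
  obtain ⟨z, hz, hz1, hzz, hZcases⟩ := exists_center_generator hL1
  have hZQ : Z ≤ Q := fun c hc => ((mem_map_subtype_center_iff Q c).1 hc).1
  have hZcentral : ∀ c ∈ Z, ∀ q ∈ Q, q * c = c * q := fun c hc q hq =>
    ((mem_map_subtype_center_iff Q c).1 hc).2 q hq
  have hQ2 : IsPGroup 2 Q := hL1.1.1
  have hcommZ : ∀ x ∈ Q, ∀ y ∈ Q, x * y * x⁻¹ * y⁻¹ ∈ Z := fun x hx y hy =>
    comm_mem_centerMap hL1 hx hy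
  set P := ⁅Q, A⁆ with hPdef
  set C := Q ⊓ Subgroup.centralizer (A : Set G) with hCdef
  -- A normalizes Q
  have hAQ : ∀ a ∈ A, ∀ q ∈ Q, a * q * a⁻¹ ∈ Q := fun a ha q hq =>
    (Subgroup.mem_set_normalizer_iff.1 (hA ha) q).1 hq
  have hAQ' : ∀ a ∈ A, ∀ q ∈ Q, a⁻¹ * q * a ∈ Q := fun a ha q hq => by
    have := hAQ a⁻¹ (A.inv_mem ha) q hq
    simpa using this
  -- P ≤ Q
  have hPQ : P ≤ Q := by
    rw [hPdef, Subgroup.commutator_le]
    intro q hq a ha
    have h1 : a * q⁻¹ * a⁻¹ ∈ Q := hAQ a ha q⁻¹ (Q.inv_mem hq)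
    have h2 : ⁅q, a⁆ = q * (a * q⁻¹ * a⁻¹) := by rw [commutatorElement_def]; group
    rw [h2]; exact Q.mul_mem hq h1
  -- A centralizes Z
  have hAz : ∀ a ∈ A, a * z * a⁻¹ = z := by
    intro a ha
    have h1 : a * z * a⁻¹ ∈ Z := by
      rw [hZdef, mem_map_subtype_center_iff]
      refine ⟨hAQ a ha z (hZQ hz), fun q hq => ?_⟩
      have h2 := hZcentral z hz (a⁻¹ * q * a) (hAQ' a ha q hq)
      calc q * (a * z * a⁻¹) = a * ((a⁻¹ * q * a) * z) * a⁻¹ := by group
        _ = a * (z * (a⁻¹ * q * a)) * a⁻¹ := by rw [h2]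
        _ = a * z * a⁻¹ * q := by group
    rcases hZcases _ h1 with h | h
    · exfalso; apply hz1
      calc z = a⁻¹ * (a * z * a⁻¹) * a := by group
        _ = 1 := by rw [h]; group
    · exact h
  have hAZ : ∀ c ∈ Z, ∀ a ∈ A, a * c = c * a := by
    intro c hc a ha
    rcases hZcases c hc with rfl | rfl
    · simp
    · calc a * c = (a * c * a⁻¹) * a := by group
        _ = c * a := by rw [hAz a ha]
  -- P is normalized by Q
  have hPnQ : ∀ x ∈ Q, ∀ p ∈ P, x * p * x⁻¹ ∈ P := by
    intro x hx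
    have : P ≤ P.comap (MulAut.conj x).toMonoidHom := by
      rw [hPdef, Subgroup.commutator_le]
      intro q hq a ha
      rw [Subgroup.mem_comap]
      have h1 : ⁅x * q, a⁆ ∈ ⁅Q, A⁆ := Subgroup.commutator_mem_commutator (Q.mul_mem hx hq) ha
      have h2 : ⁅x, a⁆ ∈ ⁅Q, A⁆ := Subgroup.commutator_mem_commutator hx ha
      have h3 : (MulAut.conj x).toMonoidHom ⁅q, a⁆ = ⁅x * q, a⁆ * ⁅x, a⁆⁻¹ := by
        simp only [MulEquiv.coe_toMonoidHom, MulAut.conj_apply, commutatorElement_def]
        group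
      rw [h3]
      exact (⁅Q, A⁆).mul_mem h1 ((⁅Q, A⁆).inv_mem h2)
    intro p hp
    have := this hp
    rw [Subgroup.mem_comap] at this
    simpa [MulAut.conj_apply] using this
  -- A acts faithfully
  have hfaithful : (∀ q ∈ Q, ∀ a ∈ A, a * q = q * a) → False := by
    intro h
    apply hA1
    rw [eq_bot_iff]
    intro a ha
    rw [Subgroup.mem_bot]
    have h1 : a ∈ Subgroup.centralizer (Q : Set G) := by
      rw [Subgroup.mem_centralizer_iff]
      intro q hq
      exact (h q hq a ha).symm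
    rw [hL2] at h1
    exact eq_one_of_mem_two_group_of_mem_odd hQ2 hAodd (hZQ h1) ha
  -- elements of Q centralized by A modulo Z are centralized by A
  have hlift : ∀ c ∈ Q, (∀ b ∈ A, b * c * b⁻¹ * c⁻¹ ∈ Z) → ∀ b ∈ A, b * c = c * b := by
    intro c hc h b hb
    rcases hZcases _ (h b hb) with h1 | h1
    · calc b * c = (b * c * b⁻¹ * c⁻¹) * (c * b) := by group
        _ = c * b := by rw [h1, one_mul]
    · exfalso
      have hbc : b * c * b⁻¹ = z * c := by
        calc b * c * b⁻¹ = (b * c * b⁻¹ * c⁻¹) * c := by group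
          _ = z * c := by rw [h1]
      have hpow : ∀ k : ℕ, b ^ k * c * (b ^ k)⁻¹ = z ^ k * c := by
        intro k
        induction k with
        | zero => simp
        | succ k ih =>
          have hzk : b * z ^ k * b⁻¹ = z ^ k := by
            have : b * z ^ k = z ^ k * b := hAZ _ (Z.pow_mem hz k) b hb
            calc b * z ^ k * b⁻¹ = (z ^ k * b) * b⁻¹ := by rw [this]
              _ = z ^ k := by group
          calc b ^ (k + 1) * c * (b ^ (k + 1))⁻¹ = b * (b ^ k * c * (b ^ k)⁻¹) * b⁻¹ := by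
                rw [pow_succ']; group
            _ = b * (z ^ k * c) * b⁻¹ := by rw [ih]
            _ = (b * z ^ k * b⁻¹) * (b * c * b⁻¹) := by group
            _ = z ^ k * (z * c) := by rw [hzk, hbc]
            _ = z ^ (k + 1) * c := by rw [pow_succ]; group
      have hord : Odd (orderOf b) := by
        have h2 : orderOf (⟨b, hb⟩ : A) ∣ Nat.card A := orderOf_dvd_natCard _
        rw [Subgroup.orderOf_mk] at h2
        exact Odd.of_dvd_nat hAodd h2
      obtain ⟨m, hm⟩ := hord
      have h3 := hpow (orderOf b)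
      rw [pow_orderOf_eq_one] at h3
      have h4 : z ^ orderOf b = 1 := by
        have : c = z ^ orderOf b * c := by simpa using h3
        calc z ^ orderOf b = (z ^ orderOf b * c) * c⁻¹ := by group
          _ = c * c⁻¹ := by rw [← this]
          _ = 1 := by group
      rw [hm, pow_succ, pow_mul, pow_two, hzz, one_pow, one_mul] at h4
      exact hz1 h4
  -- z ∈ P
  have hzP : z ∈ P := by
    by_contra hzP
    have hPZ : ∀ p ∈ P, p ∈ Z → p = 1 := by
      intro p hp hpZ
      rcases hZcases p hpZ with h | h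
      · exact h
      · exact absurd (h ▸ hp) hzP
    have hPtriv : ∀ p ∈ P, p = 1 := by
      intro p hp
      have h1 : p ∈ Subgroup.centralizer (Q : Set G) := by
        rw [Subgroup.mem_centralizer_iff]
        intro q hq
        have h2 : q * p * q⁻¹ * p⁻¹ ∈ Z := hcommZ q hq p (hPQ hp)
        have h3 : q * p * q⁻¹ * p⁻¹ ∈ P := P.mul_mem (hPnQ q hq p hp) (P.inv_mem hp)
        have h4 := hPZ _ h3 h2
        calc q * p = (q * p * q⁻¹ * p⁻¹) * (p * q) := by group
          _ = p * q := by rw [h4, one_mul]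
      rw [hL2] at h1
      exact hPZ p hp h1
    apply hfaithful
    intro q hq a ha
    have h1 : ⁅q, a⁆ ∈ P := Subgroup.commutator_mem_commutator hq ha
    have h2 := hPtriv _ h1
    rw [commutatorElement_def] at h2
    calc a * q = (q * a * q⁻¹ * a⁻¹)⁻¹ * (q * a) := by group
      _ = q * a := by rw [h2]; group
  have hZP : Z ≤ P := by
    intro c hc
    rcases hZcases c hc with rfl | rfl
    · exact P.one_mem
    · exact hzP
  -- Q ≤ C ⊔ P : averaging
  have hQCP : Q ≤ C ⊔ P := by
    intro q hq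
    obtain ⟨l, hlA, hlnodup, hllen⟩ : ∃ l : List G, (∀ a, a ∈ l ↔ a ∈ A) ∧ l.Nodup ∧
        l.length = Nat.card A := by
      classical
      letI : Fintype A := Fintype.ofFinite A
      refine ⟨(Finset.univ : Finset A).toList.map Subtype.val, ?_, ?_, ?_⟩
      · intro a
        simp only [List.mem_map, Finset.mem_toList, Finset.mem_univ, true_and]
        constructor
        · rintro ⟨⟨b, hb⟩, rfl⟩; exact hb
        · intro ha; exact ⟨⟨a, ha⟩, rfl⟩
      · exact (Finset.nodup_toList _).map Subtype.val_injective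
      · simp only [List.length_map, Finset.length_toList, Finset.card_univ,
          Nat.card_eq_fintype_card]
    let f : G → G := fun a => a * q * a⁻¹
    set c₀ := (l.map f).prod with hc₀
    have hfQ : ∀ a ∈ l, f a ∈ Q := fun a ha => hAQ a ((hlA a).1 ha) q hq
    have hc₀Q : c₀ ∈ Q := by
      apply Subgroup.list_prod_mem
      intro x hx
      obtain ⟨a, ha, rfl⟩ := List.mem_map.1 hx
      exact hfQ a ha
    -- c₀ ≡ q ^ length mod P
    have hD1 : ∀ l' : List G, (∀ a ∈ l', a ∈ A) →
        (l'.map f).prod * (q ^ l'.length)⁻¹ ∈ P ∧ (l'.map f).prod ∈ Q := by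
      intro l'
      induction l' with
      | nil => intro _; simp
      | cons a t ih =>
        intro hl'
        have haA : a ∈ A := hl' a (by simp)
        obtain ⟨ih1, ih2⟩ := ih (fun b hb => hl' b (by simp [hb]))
        have h1 : ⁅q, a⁆ ∈ P := Subgroup.commutator_mem_commutator hq haA
        have h2 : a * q * a⁻¹ * q⁻¹ ∈ P := by
          have : a * q * a⁻¹ * q⁻¹ = ⁅q, a⁆⁻¹ := by rw [commutatorElement_def]; group
          rw [this]; exact P.inv_mem h1
        have h3 := hPnQ q hq _ ih1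
        constructor
        · have : ((a :: t).map f).prod * (q ^ (a :: t).length)⁻¹
              = (a * q * a⁻¹ * q⁻¹) * (q * ((t.map f).prod * (q ^ t.length)⁻¹) * q⁻¹) := by
            simp only [List.map_cons, List.prod_cons, List.length_cons, pow_succ, f]
            group
          rw [this]
          exact P.mul_mem h2 h3
        · simp only [List.map_cons, List.prod_cons]
          exact Q.mul_mem (hAQ a haA q hq) ih2
    have hD1' := (hD1 l (fun a ha => (hlA a).1 ha)).1
    obtain ⟨m, hm⟩ := hAodd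
    have hD3 : q ^ l.length * q⁻¹ ∈ P := by
      rw [hllen, hm, pow_succ, pow_mul]
      have : (q ^ 2) ^ m * q * q⁻¹ = (q * q) ^ m := by rw [pow_two]; group
      rw [this]
      exact hZP (Z.pow_mem (sq_mem_centerMap hL1 hq) m)
    have hD5 : c₀ * q⁻¹ ∈ P := by
      have := P.mul_mem hD1' hD3
      have h2 : (l.map f).prod * (q ^ l.length)⁻¹ * (q ^ l.length * q⁻¹) = c₀ * q⁻¹ := by
        rw [hc₀]; group
      rw [h2] at this
      exact this
    -- c₀ is centralized by A
    have hc₀C : ∀ b ∈ A, b * c₀ = c₀ * b := by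
      apply hlift c₀ hc₀Q
      intro b hb
      have h1 : b * c₀ * b⁻¹ = ((l.map (fun a => b * a)).map f).prod := by
        have h2 : b * c₀ * b⁻¹ = (MulAut.conj b).toMonoidHom c₀ := by simp [MulAut.conj_apply]
        rw [h2, hc₀, map_list_prod, List.map_map, List.map_map]
        congr 1
        apply List.map_congr_left
        intro a _
        simp only [Function.comp, f, MulEquiv.coe_toMonoidHom, MulAut.conj_apply]
        group
      have hperm : (l.map (fun a => b * a)).Perm l := by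
        rw [List.perm_ext_iff_of_nodup (hlnodup.map (mul_right_injective b)) hlnodup]
        intro a
        rw [hlA, List.mem_map]
        constructor
        · rintro ⟨a', ha', rfl⟩
          exact A.mul_mem hb ((hlA a').1 ha')
        · intro ha
          refine ⟨b⁻¹ * a, (hlA _).2 (A.mul_mem (A.inv_mem hb) ha), ?_⟩
          group
      have hperm' := hperm.map f
      have h3 := prod_perm_mem hcommZ hZcentral hperm' (by
        intro x hx
        obtain ⟨a, ha, rfl⟩ := List.mem_map.1 hx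
        obtain ⟨a', ha', rfl⟩ := List.mem_map.1 ha
        exact hAQ _ (A.mul_mem hb ((hlA a').1 ha')) q hq)
      rw [← h1] at h3
      exact h3
    have hc₀C' : c₀ ∈ C := by
      rw [hCdef]
      refine Subgroup.mem_inf.2 ⟨hc₀Q, ?_⟩
      rw [Subgroup.mem_centralizer_iff]
      intro b hb
      exact hc₀C b hb
    have : q = (c₀ * q⁻¹)⁻¹ * c₀ := by group
    rw [this, sup_comm]
    exact Subgroup.mul_mem_sup (P.inv_mem hD5) hc₀C'
  have hCQ : C ≤ Q := inf_le_left
  have h1 : C ⊔ P = Q := le_antisymm (sup_le hCQ hPQ) hQCP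
  -- C and P commute
  have h2 : ∀ x ∈ C, ∀ y ∈ P, x * y = y * x := by
    intro x hx
    have hxQ : x ∈ Q := hCQ hx
    have hxA : ∀ a ∈ A, a * x = x * a := by
      have := (Subgroup.mem_inf.1 hx).2
      rw [Subgroup.mem_centralizer_iff] at this
      exact this
    have : P ≤ Subgroup.centralizer ({x} : Set G) := by
      rw [hPdef, Subgroup.commutator_le]
      intro q hq a ha
      rw [Subgroup.mem_centralizer_singleton_iff, commutatorElement_def]
      -- ζ = x q x⁻¹ q⁻¹ ∈ Z
      set ζ := x * q * x⁻¹ * q⁻¹ with hζ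
      have hζZ : ζ ∈ Z := hcommZ x hxQ q hq
      have hζa : a * ζ = ζ * a := hAZ ζ hζZ a ha
      have hxa : a * x = x * a := hxA a ha
      have hcomm2 : q * a * q⁻¹ * a⁻¹ ∈ Q := by
        have : q * a * q⁻¹ * a⁻¹ = q * (a * q⁻¹ * a⁻¹) := by group
        rw [this]; exact Q.mul_mem hq (hAQ a ha q⁻¹ (Q.inv_mem hq))
      have hζc := hZcentral ζ hζZ _ hcomm2
      -- x q = ζ q x
      have hxq : x * q = ζ * q * x := by rw [hζ]; group
      have hxq' : x * q⁻¹ = q⁻¹ * ζ⁻¹ * x := by
        have : x * q⁻¹ = (x * q * x⁻¹)⁻¹ * x := by group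
        rw [this]
        have : x * q * x⁻¹ = ζ * q := by rw [hζ]; group
        rw [this]; group
      have hxa' : x * a⁻¹ = a⁻¹ * x := by
        calc x * a⁻¹ = a⁻¹ * (a * x) * a⁻¹ := by group
          _ = a⁻¹ * (x * a) * a⁻¹ := by rw [hxa]
          _ = a⁻¹ * x := by group
      have hζa' : ζ⁻¹ * a⁻¹ = a⁻¹ * ζ⁻¹ := by
        calc ζ⁻¹ * a⁻¹ = (a * ζ)⁻¹ := by group
          _ = (ζ * a)⁻¹ := by rw [hζa]
          _ = a⁻¹ * ζ⁻¹ := by group
      symm
      calc x * (q * a * q⁻¹ * a⁻¹) = (x * q) * a * q⁻¹ * a⁻¹ := by group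
        _ = (ζ * q * x) * a * q⁻¹ * a⁻¹ := by rw [hxq]
        _ = ζ * q * (x * a) * q⁻¹ * a⁻¹ := by group
        _ = ζ * q * (a * x) * q⁻¹ * a⁻¹ := by rw [← hxa]
        _ = ζ * q * a * (x * q⁻¹) * a⁻¹ := by group
        _ = ζ * q * a * (q⁻¹ * ζ⁻¹ * x) * a⁻¹ := by rw [hxq']
        _ = ζ * q * a * q⁻¹ * ζ⁻¹ * (x * a⁻¹) := by group
        _ = ζ * q * a * q⁻¹ * ζ⁻¹ * (a⁻¹ * x) := by rw [hxa']
        _ = ζ * q * a * q⁻¹ * (ζ⁻¹ * a⁻¹) * x := by group
        _ = ζ * q * a * q⁻¹ * (a⁻¹ * ζ⁻¹) * x := by rw [hζa']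
        _ = (ζ * (q * a * q⁻¹ * a⁻¹)) * ζ⁻¹ * x := by group
        _ = ((q * a * q⁻¹ * a⁻¹) * ζ) * ζ⁻¹ * x := by rw [← hζc]
        _ = q * a * q⁻¹ * a⁻¹ * x := by group
    intro y hy
    have := this hy
    rw [Subgroup.mem_centralizer_singleton_iff] at this
    exact this.symm
  -- an element commuting with C and P lies in Z
  have hcentQ : ∀ x : G, (∀ y ∈ C, y * x = x * y) → (∀ y ∈ P, y * x = x * y) → x ∈ Z := by
    intro x hxC hxP
    rw [← hL2, Subgroup.mem_centralizer_iff]
    intro q hq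
    have hq' : q ∈ C ⊔ P := hQCP hq
    have hle : C ⊔ P ≤ Subgroup.centralizer ({x} : Set G) := by
      apply sup_le
      · intro y hy; rw [Subgroup.mem_centralizer_singleton_iff]; exact hxC y hy
      · intro y hy; rw [Subgroup.mem_centralizer_singleton_iff]; exact hxP y hy
    have := hle hq'
    rw [Subgroup.mem_centralizer_singleton_iff] at this
    exact this
  -- P is non-abelian
  have hPna : ∃ x ∈ P, ∃ y ∈ P, x * y ≠ y * x := by
    by_contra hcon
    push Not at hcon
    have hPZ : P ≤ Z := by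
      intro p hp
      apply hcentQ p
      · intro y hy; exact h2 y hy p hp
      · intro y hy; exact hcon y hy p hp
    apply hfaithful
    intro q hq a ha
    apply hlift q hq _ a ha
    intro b hb
    apply hPZ
    have h5 : ⁅q, b⁆ ∈ P := Subgroup.commutator_mem_commutator hq hb
    have : b * q * b⁻¹ * q⁻¹ = ⁅q, b⁆⁻¹ := by rw [commutatorElement_def]; group
    rw [this]; exact P.inv_mem h5
  have h3 : Cfsg.IsExtraspecial 2 P :=
    isExtraspecial_of_le hL1 hPQ hPna
      (fun x hx hxc => hcentQ x (fun y hy => h2 y hy x hx) (fun y hy => hxc y hy))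
  have h4 : C = Z ∨ Cfsg.IsExtraspecial 2 C := by
    by_cases hCab : ∀ x ∈ C, ∀ y ∈ C, x * y = y * x
    · left
      apply le_antisymm
      · intro c hc
        apply hcentQ c
        · intro y hy; exact hCab y hy c hc
        · intro y hy; exact (h2 c hc y hy).symm
      · intro c hc
        refine Subgroup.mem_inf.2 ⟨hZQ hc, ?_⟩
        rw [Subgroup.mem_centralizer_iff]
        intro a ha
        exact hAZ c hc a ha
    · right
      push Not at hCab
      obtain ⟨x, hx, y, hy, hxy⟩ := hCab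
      exact isExtraspecial_of_le hL1 hCQ ⟨x, hx, y, hy, hxy⟩
        (fun c hc hcc => hcentQ c hcc (fun y hy => (h2 c hc y hy).symm))
  exact ⟨h1, h2, h3, h4⟩

end Cfsg.Agent.S5434
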