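import Cfsg.Statements.S4488
import Cfsg.Agent.Lib.Helper80.PRootSums
import Cfsg.Agent.Lib.Helper80.GaloisValues
import Cfsg.Agent.Lib.Helper83.Decompose
import Cfsg.Agent.Lib.Helper05.CharValues

set_option autoImplicit false
open Cfsg

namespace Cfsg.Agent.S4488

open Cfsg.Agent.Lib.Helper80

/-- A `p`-rational character is invariant under prime-to-`p` powers on `p`-elements. -/
theorem pow_invariant {G : Type*} [Group G] [Finite G] (p : ℕ) (hp : p.Prime) (χ : G → ℂ)
    (hχ : Cfsg.IsCharacter G χ) (r : ℕ) (hr : 0 < r) (hpr : ¬ p ∣ r)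
    (hrat : ∀ g : G, χ g ∈ IntermediateField.adjoin ℚ
      ({Complex.exp (2 * Real.pi * Complex.I / r)} : Set ℂ))
    (g : G) (e : ℕ) (hg : g ^ (p ^ e) = 1) (k : ℕ) (hk : ¬ p ∣ k) : χ (g ^ k) = χ g := by
  have hζrr : (Complex.exp (2 * Real.pi * Complex.I / r)) ^ r = 1 :=
    (Complex.isPrimitiveRoot_exp r hr.ne').pow_eq_one
  generalize Complex.exp (2 * Real.pi * Complex.I / r) = ζr at hrat hζrr
  set N := r * Nat.card G with hN
  have hN0 : N ≠ 0 := Nat.mul_ne_zero hr.ne' Nat.card_pos.ne'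
  set b := N.factorization p with hb
  set c := N / p ^ b with hc
  have hNbc : p ^ b * c = N := Nat.ordProj_mul_ordCompl_eq_self N p
  have hpc : ¬ p ∣ c := Nat.not_dvd_ordCompl hp hN0
  set N₂ := p ^ (b + 1) * c with hN₂
  have hNN₂ : N ∣ N₂ := by
    rw [← hNbc, hN₂, pow_succ, mul_assoc]
    exact Dvd.intro _ (by ring)
  have hN₂pos : 0 < N₂ := by
    apply Nat.mul_pos (pow_pos hp.pos _)
    rcases Nat.eq_zero_or_pos c with h | h
    · rw [h, mul_zero] at hNbc
      exact absurd hNbc.symm hN0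
    · exact h
  have hcop : (p ^ (b + 1)).Coprime c :=
    Nat.Coprime.pow_left _ ((Nat.Prime.coprime_iff_not_dvd hp).mpr hpc)
  obtain ⟨k', hk'1, hk'2⟩ := Nat.chineseRemainder hcop k 1
  have hk'p : ¬ p ∣ k' := by
    intro h
    apply hk
    have h1 : k' ≡ k [MOD p] := hk'1.of_dvd (dvd_pow_self p (Nat.succ_ne_zero b))
    exact (h1.dvd_iff (dvd_refl p)).mp h
  have hk'cop : k'.Coprime N₂ := by
    apply Nat.Coprime.mul_right
    · exact Nat.Coprime.pow_right _ ((Nat.Prime.coprime_iff_not_dvd hp).mpr hk'p).symm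
    · have : Nat.Coprime k' c := by
        have h1 : Nat.gcd k' c = Nat.gcd 1 c := hk'2.gcd_eq
        rw [Nat.Coprime, h1]
        simp
      exact this
  obtain ⟨τ, hτ⟩ := exists_ringEquiv_pow N₂ hN₂pos k' hk'cop
  have hcardN₂ : Nat.card G ∣ N₂ := (Dvd.intro_left r rfl).trans hNN₂
  have hrN₂ : r ∣ N₂ := (Dvd.intro (Nat.card G) rfl).trans hNN₂
  have h1 : χ (g ^ k') = τ (χ g) := by
    apply char_pow_eq_apply hχ k' τ.toRingHom
    intro ζ hζ
    apply hτ
    obtain ⟨d, hd⟩ := hcardN₂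
    rw [hd, pow_mul, hζ, one_pow]
  -- g ^ k' = g ^ k
  have h2 : g ^ k' = g ^ k := by
    rw [pow_eq_pow_iff_modEq]
    apply hk'1.of_dvd
    obtain ⟨j, -, hj⟩ := (Nat.dvd_prime_pow hp).mp (orderOf_dvd_of_pow_eq_one hg)
    rw [hj]
    apply pow_dvd_pow
    have h3 : p ^ j ∣ N := by
      rw [← hj]
      exact (orderOf_dvd_natCard g).trans (Dvd.intro_left r rfl)
    have := (hp.pow_dvd_iff_le_factorization hN0).mp h3
    omega
  -- τ fixes the value
  have hrc : r ∣ c := by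
    have h3 : r ∣ p ^ b * c := by
      rw [hNbc]
      exact Dvd.intro _ rfl
    exact (Nat.Coprime.pow_right b ((Nat.Prime.coprime_iff_not_dvd hp).mpr hpr).symm).dvd_of_dvd_mul_left h3
  have hζN₂ : ζr ^ N₂ = 1 := by
    obtain ⟨d, hd⟩ := hrN₂
    rw [hd, pow_mul, hζrr, one_pow]
  have hτζ : τ ζr = ζr := by
    rw [hτ ζr hζN₂]
    have h4 : k' ≡ 1 [MOD orderOf ζr] :=
      (hk'2.of_dvd hrc).of_dvd (orderOf_dvd_of_pow_eq_one hζrr)
    rw [← pow_mod_orderOf, h4, pow_mod_orderOf, pow_one]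
  have h3 : τ (χ g) = χ g := by
    refine IntermediateField.adjoin_induction ℚ (p := fun x _ => τ x = x) ?_ ?_ ?_ ?_ ?_ (hrat g)
    · intro x hx
      rw [Set.mem_singleton_iff] at hx
      rw [hx]
      exact hτζ
    · intro x
      exact map_ratCast τ x
    · intro x y _ _ hx hy
      rw [map_add, hx, hy]
    · intro x _ hx
      rw [map_inv₀, hx]
    · intro x y _ _ hx hy
      rw [map_mul, hx, hy]
  rw [← h2, h1, h3]

/-- Shape of the values of a faithful character on nontrivial `p`-elements, when the character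
is invariant under prime-to-`p` powers there. -/
theorem value_shape {G : Type*} [Group G] [Finite G] (p : ℕ) (hp : p.Prime) (χ : G → ℂ)
    (hχ : Cfsg.IsCharacter G χ) (hfaith : ∀ g : G, χ g = χ 1 → g = 1)
    (hinvar : ∀ (g : G) (e : ℕ), g ^ (p ^ e) = 1 → ∀ k : ℕ, ¬ p ∣ k → χ (g ^ k) = χ g)
    (n : ℕ) (hn : χ 1 = n) (g : G) (e : ℕ) (hg : g ^ (p ^ e) = 1) (hg1 : g ≠ 1) :
    ∃ t : ℕ, 1 ≤ t ∧ (p - 1) * t ≤ n ∧ χ g = (n : ℂ) - ((p * t : ℕ) : ℂ) := by
  classical
  obtain ⟨d, ρ, rfl⟩ := hχ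
  obtain ⟨b, μ, hμ, -, hk, -⟩ :=
    Cfsg.Agent.Lib.Helper05.exists_eigenvalues ρ g (isOfFinOrder_of_finite g)
  have hcard : Fintype.card (Fin (Module.finrank ℂ (Fin d → ℂ))) = n := by
    have h1 : (ρ.character 1 : ℂ) = (Module.finrank ℂ (Fin d → ℂ) : ℂ) := by
      simp [Representation.character]
    rw [Fintype.card_fin]
    rw [hn] at h1
    exact_mod_cast h1.symm
  generalize Module.finrank ℂ (Fin d → ℂ) = D at b μ hμ hk hcard
  rw [Fintype.card_fin] at hcard
  subst hcard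
  -- the order of g
  obtain ⟨j, -, hj⟩ := (Nat.dvd_prime_pow hp).mp (orderOf_dvd_of_pow_eq_one hg)
  have hj0 : j ≠ 0 := by
    rintro rfl
    rw [pow_zero, orderOf_eq_one_iff] at hj
    exact hg1 hj
  obtain ⟨e', rfl⟩ := Nat.exists_eq_succ_of_ne_zero hj0
  rw [hj] at hμ
  have hsum1 : ρ.character g = ∑ i, μ i := by
    have := hk 1
    simpa using this
  have hsumk : ∀ k : ℕ, ¬ p ∣ k → ∑ i, μ i ^ k = ∑ i, μ i := by
    intro k hk'
    rw [← hk k, hinvar g e hg k hk', hsum1]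
  -- rationality
  obtain ⟨q, hq⟩ := exists_rat_of_pow_invariant (p ^ (e' + 1)) (pow_pos hp.pos _) μ hμ (by
    intro m hm
    apply hsumk
    intro hpm
    have : p ∣ Nat.gcd m (p ^ (e' + 1)) := Nat.dvd_gcd hpm (dvd_pow_self p (Nat.succ_ne_zero e'))
    rw [hm] at this
    exact hp.one_lt.ne' (Nat.dvd_one.mp this))
  -- integrality
  have hint : IsIntegral ℤ (∑ i, μ i) := by
    apply IsIntegral.sum
    intro i _
    exact ⟨Polynomial.X ^ (p ^ (e' + 1)) - 1,
      Polynomial.monic_X_pow_sub_C 1 (pow_pos hp.pos _).ne', by simp [hμ i]⟩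
  obtain ⟨m, hm⟩ : ∃ m : ℤ, ∑ i, μ i = (m : ℂ) := by
    rw [hq] at hint ⊢
    have h1 : IsIntegral ℤ (algebraMap ℚ ℂ q) := by
      simpa using hint
    have h2 : IsIntegral ℤ q := (isIntegral_algebraMap_iff (algebraMap ℚ ℂ).injective).mp h1
    obtain ⟨z, hz⟩ := IsIntegrallyClosed.isIntegral_iff.mp h2
    refine ⟨z, ?_⟩
    rw [← hz]
    simp
  have hB := int_sum_prime_pow_roots_modEq p hp e' μ hμ m hm
  have hC := int_sum_prime_pow_roots_lower p hp e' μ hμ m (by
    intro k hk'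
    rw [hsumk k hk', hm])
  rw [Fintype.card_fin] at hB hC
  -- upper bound
  have hnorm : ‖(m : ℂ)‖ ≤ D := by
    rw [← hm]
    calc ‖∑ i, μ i‖ ≤ ∑ i, ‖μ i‖ := norm_sum_le _ _
      _ = ∑ _i : Fin D, (1 : ℝ) := by
        apply Finset.sum_congr rfl
        intro i _
        exact Complex.norm_eq_one_of_pow_eq_one (hμ i) (pow_pos hp.pos _).ne'
      _ = D := by simp
  have hmle : m ≤ D := by
    have h1 : ((m : ℤ) : ℝ) ≤ D := by
      have : ‖(m : ℂ)‖ = |(m : ℝ)| := by
        rw [← Complex.ofReal_intCast, Complex.norm_real, Real.norm_eq_abs]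
      rw [this] at hnorm
      exact (le_abs_self _).trans hnorm
    exact_mod_cast h1
  have hmne : m ≠ D := by
    intro h
    apply hg1
    apply hfaith
    rw [hsum1, hm, hn, h]
    simp
  obtain ⟨t', ht'⟩ := hB
  have hpZ : (0 : ℤ) < p := by exact_mod_cast hp.pos
  have ht'pos : 0 < t' := by
    have : (0 : ℤ) < (D : ℤ) - m := by omega
    rw [ht'] at this
    rcases lt_trichotomy t' 0 with h1 | h1 | h1
    · nlinarith
    · rw [h1, mul_zero] at this
      exact absurd this (lt_irrefl _)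
    · exact h1
  have hbound : ((p : ℤ) - 1) * t' ≤ D := by
    have h1 : ((p : ℤ) - 1) * ((D : ℤ) - m) ≤ p * D := by nlinarith
    rw [ht'] at h1
    have h2 : (p : ℤ) * (((p : ℤ) - 1) * t') ≤ p * D := by linarith
    exact le_of_mul_le_mul_left h2 hpZ
  refine ⟨t'.toNat, ?_, ?_, ?_⟩
  · omega
  · have h1 : ((t'.toNat : ℕ) : ℤ) = t' := Int.toNat_of_nonneg ht'pos.le
    have h2 : (((p - 1) * t'.toNat : ℕ) : ℤ) ≤ D := by
      rw [Nat.cast_mul, Nat.cast_sub hp.one_lt.le, h1]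
      simpa using hbound
    exact_mod_cast h2
  · rw [hsum1, hm]
    have h1 : ((t'.toNat : ℕ) : ℤ) = t' := Int.toNat_of_nonneg ht'pos.le
    have h2 : (m : ℤ) = (D : ℤ) - ((p * t'.toNat : ℕ) : ℤ) := by
      rw [Nat.cast_mul, h1]
      linarith
    rw [h2]
    push_cast
    ring

theorem isCharacter_pow {P : Type*} [Group P] {ψ : P → ℂ} (hψ : IsCharacter P ψ) (k : ℕ) :
    IsCharacter P (fun g => ψ g ^ k) := by
  induction k with
  | zero =>
    simp only [pow_zero]
    exact Cfsg.Agent.Lib.Helper83.isCharacter_one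
  | succ k ih =>
    have : (fun g => ψ g ^ (k + 1)) = (fun g => ψ g ^ k) * ψ := by
      funext g
      simp [pow_succ]
    rw [this]
    exact Cfsg.Agent.Lib.Helper83.isCharacter_mul ih hψ

theorem sum_pow_eq {P : Type*} [Group P] [Fintype P] {ψ : P → ℂ} (hψ : IsCharacter P ψ)
    (k : ℕ) : ∃ N : ℕ, ∑ g : P, ψ g ^ k = (Nat.card P : ℂ) * N := by
  obtain ⟨N, hN⟩ := Cfsg.Agent.Lib.Helper83.classInner_char_nat (isCharacter_pow hψ k)
    (Cfsg.Agent.Lib.Helper83.isCharacter_one (G := P))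
  refine ⟨N, ?_⟩
  rw [← hN, classInner]
  have hc : (Nat.card P : ℂ) ≠ 0 := by
    have : Nat.card P ≠ 0 := Nat.card_pos.ne'
    exact_mod_cast this
  rw [← mul_assoc, mul_inv_cancel₀ hc, one_mul]
  simp

/-- **Blichfeldt's trick**: the order of a group divides `∏ (ψ(1) - a)` over the values `a ≠ ψ(1)`
of an integer-valued character `ψ` whose only element with value `ψ(1)` is `1`. -/
theorem card_dvd_prod {P : Type*} [Group P] [Fintype P] [DecidableEq P] {ψ : P → ℂ}
    (hψ : IsCharacter P ψ) (vals : P → ℤ) (hvals : ∀ g, ψ g = (vals g : ℂ)) (A : Finset ℤ)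
    (hA : ∀ g : P, g ≠ 1 → vals g ∈ A) :
    (Nat.card P : ℤ) ∣ ∏ a ∈ A, (vals 1 - a) := by
  classical
  set Q : Polynomial ℤ := ∏ a ∈ A, (Polynomial.X - Polynomial.C a) with hQ
  have heval : ∀ x : ℤ, Q.eval x = ∏ a ∈ A, (x - a) := by
    intro x
    rw [hQ, Polynomial.eval_prod]
    simp
  have hzero : ∀ g : P, g ≠ 1 → Q.eval (vals g) = 0 := by
    intro g hg
    rw [heval]
    exact Finset.prod_eq_zero (hA g hg) (sub_self _)
  have hsum : ∑ g : P, Q.eval (vals g) = ∏ a ∈ A, (vals 1 - a) := by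
    rw [Finset.sum_eq_single (1 : P)]
    · exact heval _
    · intro g _ hg
      exact hzero g hg
    · intro h
      exact absurd (Finset.mem_univ _) h
  have hNk : ∀ k : ℕ, ∃ N : ℤ, ∑ g : P, vals g ^ k = (Nat.card P : ℤ) * N := by
    intro k
    obtain ⟨N, hN⟩ := sum_pow_eq hψ k
    refine ⟨N, ?_⟩
    have : ((∑ g : P, vals g ^ k : ℤ) : ℂ) = (((Nat.card P : ℤ) * (N : ℤ) : ℤ) : ℂ) := by
      push_cast
      rw [← hN]
      apply Finset.sum_congr rfl
      intro g _
      rw [hvals]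
    exact_mod_cast this
  choose Nk hNk' using hNk
  rw [← hsum]
  have : ∑ g : P, Q.eval (vals g) =
      (Nat.card P : ℤ) * ∑ k ∈ Finset.range (Q.natDegree + 1), Q.coeff k * Nk k := by
    simp only [Polynomial.eval_eq_sum_range]
    rw [Finset.sum_comm, Finset.mul_sum]
    apply Finset.sum_congr rfl
    intro k _
    rw [← Finset.mul_sum, hNk' k]
    ring
  rw [this]
  exact Dvd.intro _ rfl

/-- Let the finite group G have a faithful p-rational character χ of degree n (all values of χ lie in the field generated over ℚ by a root of unity of order prime to p), and let p^a be the order of a Sylow p-subgroup of G. Then a ≤ Σ_{i ≥ 0} ⌊n / ((p − 1)·p^i)⌋ (a finite sum; the terms vanish once (p − 1)p^i > n). -/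
theorem result {G : Type*} [Group G] [Finite G] (p : ℕ) (hp : p.Prime) (χ : G → ℂ) (hχ : Cfsg.IsCharacter G χ) (hfaith : ∀ g : G, χ g = χ 1 → g = 1) (hrat : (∃ r : ℕ, 0 < r ∧ ¬ p ∣ r ∧ ∀ g : G, χ g ∈ IntermediateField.adjoin ℚ ({Complex.exp (2 * Real.pi * Complex.I / r)} : Set ℂ))) (n : ℕ) (hn : Cfsg.charDegree χ = n) : (Nat.card G).factorization p ≤ ∑ i ∈ Finset.range (n + 1), n / ((p - 1) * p ^ i) := by
  classical
  have : Fact p.Prime := ⟨hp⟩
  obtain ⟨r, hr, hpr, hrat⟩ := hrat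
  have hinvar : ∀ (g : G) (e : ℕ), g ^ (p ^ e) = 1 → ∀ k : ℕ, ¬ p ∣ k → χ (g ^ k) = χ g :=
    fun g e hg k hk => pow_invariant p hp χ hχ r hr hpr hrat g e hg k hk
  have hn1 : χ 1 = n := by
    rw [← hn]
    exact (Cfsg.Agent.Lib.Helper83.charDegree_cast hχ).symm
  set a := (Nat.card G).factorization p with ha
  let P : Sylow p G := default
  have hPcard : Nat.card P = p ^ a := P.card_eq_multiplicity
  have : Fintype P := Fintype.ofFinite _
  set M := n / (p - 1) with hM
  have hp1 : 0 < p - 1 := Nat.sub_pos_of_lt hp.one_lt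
  have hshape : ∀ g : P, g ≠ 1 → ∃ t : ℕ, 1 ≤ t ∧ t ≤ M ∧ χ g = (n : ℂ) - ((p * t : ℕ) : ℂ) := by
    intro g hg
    have hgp : (g : G) ^ (p ^ a) = 1 := by
      have h1 : g ^ (p ^ a) = 1 := by
        rw [← hPcard]
        exact pow_card_eq_one'
      have := congrArg (Subtype.val) h1
      simpa using this
    have hg1 : (g : G) ≠ 1 := fun h => hg (Subtype.ext h)
    obtain ⟨t, ht1, ht2, ht3⟩ := value_shape p hp χ hχ hfaith hinvar n hn1 g a hgp hg1
    refine ⟨t, ht1, ?_, ht3⟩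
    rw [hM, Nat.le_div_iff_mul_le hp1, mul_comm]
    exact ht2
  choose! tf htf using hshape
  set vals : P → ℤ := fun g => if g = 1 then (n : ℤ) else (n : ℤ) - ((p * tf g : ℕ) : ℤ) with hvalsdef
  have hvals : ∀ g : P, (fun g : P => χ g) g = (vals g : ℂ) := by
    intro g
    by_cases hg : g = 1
    · simp [hvalsdef, hg, hn1]
    · simp only [hvalsdef, hg, if_false]
      rw [(htf g hg).2.2]
      push_cast
      ring
  set T : Finset ℕ := (Finset.univ.filter (fun g : P => g ≠ 1)).image tf with hT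
  set A : Finset ℤ := T.image (fun t => (n : ℤ) - ((p * t : ℕ) : ℤ)) with hA
  have hTsub : T ⊆ Finset.Ico 1 (M + 1) := by
    intro t ht
    obtain ⟨g, hg, rfl⟩ := Finset.mem_image.mp ht
    have hg' := (Finset.mem_filter.mp hg).2
    rw [Finset.mem_Ico]
    exact ⟨(htf g hg').1, Nat.lt_succ_of_le (htf g hg').2.1⟩
  have hdvd := card_dvd_prod (Cfsg.Agent.Lib.Helper83.isCharacter_restrict (P : Subgroup G) hχ)
    vals hvals A (by
      intro g hg
      simp only [hvalsdef, hg, if_false]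
      exact Finset.mem_image_of_mem _ (Finset.mem_image_of_mem _
        (Finset.mem_filter.mpr ⟨Finset.mem_univ _, hg⟩)))
  have hvals1 : vals 1 = n := by simp [hvalsdef]
  have hinj : Set.InjOn (fun t : ℕ => (n : ℤ) - ((p * t : ℕ) : ℤ)) (T : Set ℕ) := by
    intro x _ y _ hxy
    simp only at hxy
    have h1 : ((p * x : ℕ) : ℤ) = ((p * y : ℕ) : ℤ) := by linarith
    have h2 : p * x = p * y := by exact_mod_cast h1
    exact Nat.eq_of_mul_eq_mul_left hp.pos h2
  have hprod : ∏ a ∈ A, (vals 1 - a) = ((p ^ T.card * ∏ t ∈ T, t : ℕ) : ℤ) := by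
    rw [hA, Finset.prod_image hinj, hvals1]
    push_cast
    rw [← Finset.prod_const, ← Finset.prod_mul_distrib]
    apply Finset.prod_congr rfl
    intro t _
    ring
  rw [hprod, hPcard] at hdvd
  have hdvdN : p ^ a ∣ p ^ T.card * ∏ t ∈ T, t := by exact_mod_cast hdvd
  have hTcard : T.card ≤ M := by
    have := Finset.card_le_card hTsub
    simpa using this
  have hprodT : ∏ t ∈ T, t ∣ M.factorial := by
    rw [← Finset.prod_Ico_id_eq_factorial]
    exact Finset.prod_dvd_prod_of_subset T (Finset.Ico 1 (M + 1)) (fun t => t) hTsub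
  have hdvd2 : p ^ a ∣ p ^ M * M.factorial :=
    hdvdN.trans (Nat.mul_dvd_mul (pow_dvd_pow p hTcard) hprodT)
  have hne : p ^ M * M.factorial ≠ 0 :=
    Nat.mul_ne_zero (pow_ne_zero _ hp.ne_zero) (Nat.factorial_ne_zero M)
  have hle := (hp.pow_dvd_iff_le_factorization hne).mp hdvd2
  rw [Nat.factorization_mul (pow_ne_zero _ hp.ne_zero) (Nat.factorial_ne_zero M),
    Finsupp.add_apply, hp.factorization_pow, Finsupp.single_eq_same] at hle
  have hlog : Nat.log p M < n + 1 := by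
    have h1 : Nat.log p M ≤ M := Nat.log_le_self p M
    have h2 : M ≤ n := Nat.div_le_self n (p - 1)
    omega
  rw [Nat.factorization_factorial hp hlog] at hle
  have hsum : ∑ i ∈ Finset.range (n + 1), n / ((p - 1) * p ^ i) =
      M + ∑ i ∈ Finset.Ico 1 (n + 1), M / p ^ i := by
    rw [Finset.range_eq_Ico, Finset.sum_eq_sum_Ico_succ_bot (Nat.succ_pos n)]
    congr 1
    · simp [hM]
    · apply Finset.sum_congr rfl
      intro i _
      rw [hM, Nat.div_div_eq_div_mul]
  rw [hsum]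
  exact hle

end Cfsg.Agent.S4488
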