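import Cfsg.Statements.S5420
import Cfsg.Agent.Lib.Helper92.Extraspecial

set_option autoImplicit false
open Cfsg

namespace Cfsg.Agent.S5420

open Cfsg.Agent.Lib.Helper92

/-- Let Q be an extraspecial 2-subgroup of the finite group G whose centralizer in G is its centre Z and which is normal in the centralizer of Z. If Z lies in the largest normal 2-subgroup of G, then Q is a large extraspecial 2-subgroup of G: it normalizes no non-trivial subgroup of G of odd order. -/
theorem result {G : Type*} [Group G] [Finite G] (Q : Subgroup G) (hL1 : Cfsg.IsExtraspecial 2 ↥Q) (hL2 : Subgroup.centralizer (Q : Set G) = ((Subgroup.center ↥Q).map Q.subtype)) (hL3 : Subgroup.centralizer (((Subgroup.center ↥Q).map Q.subtype) : Set G) ≤ Subgroup.normalizer (Q : Set G)) (hZ : ((Subgroup.center ↥Q).map Q.subtype) ≤ Cfsg.pCore 2 G) : Cfsg.IsLargeExtraspecial Q := by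
  refine ⟨hL1, hL2, hL3, ?_⟩
  intro K hK hQK
  rw [eq_bot_iff]
  intro k hkK
  rw [Subgroup.mem_bot]
  apply eq_one_of_mem_odd_of_mem_centralizer_center Q hL1 hL2 hL3 K hK hQK hkK
  rw [Subgroup.mem_centralizer_iff]
  intro z hz
  have hzQ : z ∈ Q := ((mem_map_subtype_center_iff Q z).1 hz).1
  have hn : (Cfsg.pCore 2 G).Normal := pCoreNormal 2
  have h1 : k * z * k⁻¹ * z⁻¹ ∈ Cfsg.pCore 2 G :=
    (Cfsg.pCore 2 G).mul_mem (hn.conj_mem z (hZ hz) k) ((Cfsg.pCore 2 G).inv_mem (hZ hz))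
  have h2 : k * z * k⁻¹ * z⁻¹ ∈ K := by
    have : z * k⁻¹ * z⁻¹ ∈ K :=
      (Subgroup.mem_set_normalizer_iff.1 (hQK hzQ) k⁻¹).1 (K.inv_mem hkK)
    have := K.mul_mem hkK this
    simpa [mul_assoc] using this
  have h3 := eq_one_of_mem_two_group_of_mem_odd (pCoreIsPGroup 2) hK h1 h2
  calc z * k = (k * z * k⁻¹ * z⁻¹)⁻¹ * (k * z) := by group
    _ = k * z := by rw [h3]; group

end Cfsg.Agent.S5420
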