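import Cfsg.Statements.S0375
import Cfsg.Agent.S0407
import Cfsg.Agent.Lib.Helper95.GolayConcrete
import Cfsg.Agent.Lib.Helper95.GolayCodeCfsg

set_option autoImplicit false
open Cfsg

namespace Cfsg.Agent.S0375

open Cfsg.Agent.Lib.Helper95

theorem zmod2_cases : ∀ x : ZMod 2, x = 0 ∨ x = 1 := by decide

theorem eq_of_support_eq {α : Type*} [Fintype α] {u v : α → ZMod 2}
    (h : Cfsg.support₂ u = Cfsg.support₂ v) : u = v := by
  funext a
  have h1 : a ∈ Cfsg.support₂ u ↔ a ∈ Cfsg.support₂ v := by rw [h]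
  unfold Cfsg.support₂ at h1
  simp only [Finset.mem_filter, Finset.mem_univ, true_and] at h1
  rcases zmod2_cases (u a) with hu | hu <;> rcases zmod2_cases (v a) with hv | hv
  · rw [hu, hv]
  · exfalso; rw [hu, hv] at h1; exact (h1.mpr one_ne_zero) rfl
  · exfalso; rw [hu, hv] at h1; exact (h1.mp one_ne_zero) rfl
  · rw [hu, hv]

theorem support_comp {α β : Type*} [Fintype α] [Fintype β] [DecidableEq β] (e : α ≃ β)
    (w : β → ZMod 2) : (Cfsg.support₂ (fun i => w (e i))).image e = Cfsg.support₂ w := by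
  ext x
  unfold Cfsg.support₂
  simp only [Finset.mem_image, Finset.mem_filter, Finset.mem_univ, true_and]
  constructor
  · rintro ⟨a, ha, rfl⟩; exact ha
  · intro hx; exact ⟨e.symm x, by simpa using hx, by simp⟩

theorem card_support {α : Type*} [Fintype α] [DecidableEq α] (w : α → ZMod 2) :
    (Cfsg.support₂ w).card = hammingNorm w := by
  rw [support₂_eq_bsupp, hammingNorm_eq_card_bsupp]

/-- The octads of a code, as words. -/
def octW {α : Type*} [Fintype α] (C : Submodule (ZMod 2) (α → ZMod 2)) : Set (α → ZMod 2) :=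
  {w | w ∈ C ∧ hammingNorm w = 8}

theorem main_aux (C : Submodule (ZMod 2) (Fin 24 → ZMod 2))
    (hdim : Module.finrank (ZMod 2) C = 12)
    (hmin : ∀ w ∈ C, w ≠ 0 → 8 ≤ hammingNorm w) :
    ∃ e : Fin 24 ≃ Cfsg.GolayPt, ∀ w : Cfsg.GolayPt → ZMod 2,
      w ∈ Cfsg.golayCode ↔ (fun i => w (e i)) ∈ C := by
  have hι : Fintype.card (Fin 24) = 24 := by simp
  have hSC := g24_isSteinerSystem hι C hdim hmin
  have hSG := g24_isSteinerSystem golayPt_card Cfsg.golayCode golayCode_finrank golayCode_hmin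
  obtain ⟨e, he⟩ := Cfsg.Agent.S0407.result hι golayPt_card hSC hSG
  refine ⟨e, ?_⟩
  -- the pull-back map
  let Φ : (Cfsg.GolayPt → ZMod 2) →ₗ[ZMod 2] (Fin 24 → ZMod 2) :=
    LinearMap.funLeft (ZMod 2) (ZMod 2) e
  have hΦ : ∀ w, Φ w = fun i => w (e i) := fun w => rfl
  have hΦinj : Function.Injective Φ := by
    intro u v huv
    funext x
    have := congrFun huv (e.symm x)
    simpa [hΦ] using this
  have himg : Φ '' octW Cfsg.golayCode = octW C := by
    ext c
    constructor
    · rintro ⟨w, ⟨hw, hw8⟩, rfl⟩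
      have h1 : Cfsg.support₂ w ∈ Cfsg.wordsOfWeight (Cfsg.golayCode : Set _) 8 :=
        ⟨⟨w, hw, rfl⟩, by rw [card_support, hw8]⟩
      rw [← he] at h1
      obtain ⟨b, ⟨⟨c, hc, rfl⟩, hb8⟩, hbw⟩ := h1
      have h2 : Φ w = c := by
        apply eq_of_support_eq
        have h3 := support_comp e w
        rw [← hbw] at h3
        exact Finset.image_injective e.injective h3
      rw [h2]
      exact ⟨hc, by rw [← card_support]; exact hb8⟩
    · rintro ⟨hc, hc8⟩
      have h1 : (Cfsg.support₂ c).image e ∈ Cfsg.wordsOfWeight (Cfsg.golayCode : Set _) 8 := by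
        rw [← he]
        exact ⟨_, ⟨⟨c, hc, rfl⟩, by rw [card_support, hc8]⟩, rfl⟩
      obtain ⟨⟨w, hw, hws⟩, hw8⟩ := h1
      refine ⟨w, ⟨hw, ?_⟩, ?_⟩
      · rw [← card_support, hws]; exact hw8
      · apply eq_of_support_eq
        have h3 := support_comp e w
        rw [hws] at h3
        exact Finset.image_injective e.injective h3
  have hmap : Submodule.map Φ Cfsg.golayCode = C := by
    have h1 := g24_span_octads golayPt_card Cfsg.golayCode golayCode_finrank golayCode_hmin
    have h2 := g24_span_octads hι C hdim hmin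
    have h1' : Submodule.span (ZMod 2) (octW Cfsg.golayCode) = Cfsg.golayCode := h1
    have h2' : Submodule.span (ZMod 2) (octW C) = C := h2
    rw [← h1', Submodule.map_span, himg, h2']
  intro w
  constructor
  · intro hw
    rw [← hmap]
    exact ⟨w, hw, rfl⟩
  · intro hw
    have : Φ w ∈ Submodule.map Φ Cfsg.golayCode := by rw [hmap]; exact hw
    obtain ⟨w', hw', hww'⟩ := this
    rw [← hΦinj hww']
    exact hw'

/-- A doubly even self-dual binary code of length 24 with no words of weight 4 is equivalent to the length-24 code built from the squares modulo 23. -/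
theorem result (C : Submodule (ZMod 2) (Fin 24 → ZMod 2)) (hdim : Module.finrank (ZMod 2) C = 12) (horth : ∀ v ∈ C, ∀ w ∈ C, ∑ i, v i * w i = 0) (h4 : ∀ w ∈ C, 4 ∣ hammingNorm w) (hno4 : ∀ w ∈ C, hammingNorm w ≠ 4) : ∃ e : Fin 24 ≃ Cfsg.GolayPt, ∀ w : Cfsg.GolayPt → ZMod 2, w ∈ Cfsg.golayCode ↔ (fun i => w (e i)) ∈ C := by

  apply main_aux C hdim
  intro w hw hw0
  have h1 := h4 w hw
  have h2 := hno4 w hw
  have h3 : hammingNorm w ≠ 0 := by
    rw [Ne, hammingNorm_eq_zero]; exact hw0
  obtain ⟨k, hk⟩ := h1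
  omega

end Cfsg.Agent.S0375
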