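import Cfsg.Statements.S0444
import Cfsg.Agent.Lib.Helper11.ThreeTransp
import Cfsg.Agent.Lib.Helper11.DihedralThree

set_option autoImplicit false
open Cfsg

namespace Cfsg.Agent.S0444

open Cfsg.Agent.Lib.Helper11

/-- Two members of a set of 3-transpositions which do not commute generate a subgroup isomorphic to the symmetric group on three letters. -/
theorem result {G : Type*} [Group G] {E : Set G} (hE : Cfsg.IsThreeTranspositionSet E) {d e : G} (hd : d ∈ E) (he : e ∈ E) (h : ¬ Commute d e) : Nonempty (Subgroup.closure ({d, e} : Set G) ≃* Equiv.Perm (Fin 3)) := by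
  have hd2 := tt_mul_self hE hd
  have he2 := tt_mul_self hE he
  have h3 : (d * e) ^ 3 = 1 := by
    rcases hE.2 d hd e he with h2 | h3
    · exact absurd (commute_of_sq hd2 he2 h2) h
    · exact h3
  exact closure_pair_equiv_perm_three hd2 he2 h3 h

end Cfsg.Agent.S0444
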