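import Cfsg.Statements.S0355
import Cfsg.Agent.Lib.Helper09.Steiner
-- import your own Cfsg.Agent.* helpers here

set_option autoImplicit false
open Cfsg

namespace Cfsg.Agent.S0355

open Cfsg.Agent.Lib.Helper09 Finset

/-- In a Steiner system S(4, 7, 23), two distinct blocks intersect in 1 or 3 points. -/
theorem result {α : Type*} [Fintype α] [DecidableEq α] (hα : Fintype.card α = 23) {B : Set (Finset α)} (hB : Cfsg.IsSteinerSystem 4 7 B) {b c : Finset α} (hb : b ∈ B) (hc : c ∈ B) (hbc : b ≠ c) : (b ∩ c).card = 1 ∨ (b ∩ c).card = 3 := by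
  have S0 : ∑ c ∈ (blocks B).erase b, Nat.choose (b ∩ c).card 0 = 252 :=
    (sum_choose_inter_eq hB hb 0 253 (by norm_num) (by decide) (by rw [hα]; decide)).trans
      (by norm_num [Nat.choose])
  have S1 : ∑ c ∈ (blocks B).erase b, Nat.choose (b ∩ c).card 1 = 532 :=
    (sum_choose_inter_eq hB hb 1 77 (by norm_num) (by decide) (by rw [hα]; decide)).trans
      (by norm_num [Nat.choose])
  have S2 : ∑ c ∈ (blocks B).erase b, Nat.choose (b ∩ c).card 2 = 420 :=
    (sum_choose_inter_eq hB hb 2 21 (by norm_num) (by decide) (by rw [hα]; decide)).trans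
      (by norm_num [Nat.choose])
  have S3 : ∑ c ∈ (blocks B).erase b, Nat.choose (b ∩ c).card 3 = 140 :=
    (sum_choose_inter_eq hB hb 3 5 (by norm_num) (by decide) (by rw [hα]; decide)).trans
      (by norm_num [Nat.choose])
  have hle : ∀ c ∈ (blocks B).erase b, (b ∩ c).card ≤ 3 := fun c hc =>
    Nat.lt_succ_iff.1 (card_inter_lt_of_mem_erase hB hb hc)
  have key0 : ∀ c ∈ (blocks B).erase b,
      Nat.choose (b ∩ c).card 0 + Nat.choose (b ∩ c).card 2
        = Nat.choose (b ∩ c).card 1 + Nat.choose (b ∩ c).card 3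
          + (if (b ∩ c).card = 0 then 1 else 0) := by
    intro c hc
    have := hle c hc
    interval_cases (b ∩ c).card <;> decide
  have key2 : ∀ c ∈ (blocks B).erase b,
      Nat.choose (b ∩ c).card 2
        = 3 * Nat.choose (b ∩ c).card 3 + (if (b ∩ c).card = 2 then 1 else 0) := by
    intro c hc
    have := hle c hc
    interval_cases (b ∩ c).card <;> decide
  have e0 := sum_congr rfl key0
  have e2 := sum_congr rfl key2
  simp only [sum_add_distrib, ← mul_sum] at e0 e2
  rw [S0, S1, S2, S3] at e0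
  rw [S2, S3] at e2
  have z0 : (∑ c ∈ (blocks B).erase b, if (b ∩ c).card = 0 then 1 else 0) = 0 := by
    omega
  have z2 : (∑ c ∈ (blocks B).erase b, if (b ∩ c).card = 2 then 1 else 0) = 0 := by
    omega
  have hcE : c ∈ (blocks B).erase b := by
    rw [mem_erase, mem_blocks]
    exact ⟨Ne.symm hbc, hc⟩
  rw [sum_eq_zero_iff] at z0 z2
  have n0 := z0 c hcE
  have n2 := z2 c hcE
  have h3 := hle c hcE
  simp only [ite_eq_right_iff, one_ne_zero, imp_false] at n0 n2
  omega

end Cfsg.Agent.S0355
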