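import Cfsg.Statements.S0377
import Cfsg.Agent.Lib.Helper93.M21Base

set_option autoImplicit false
open Cfsg

namespace Cfsg.Agent.S0377

/-- A point stabiliser in the group of the length-24 code is simple. -/
theorem result (p : Cfsg.GolayPt) : IsSimpleGroup (MulAction.stabilizer Cfsg.M24 p) := by
  have h := Cfsg.Agent.Lib.Helper93.m24_fixing_simple ({p} : Set GolayPt) (by simp)
  have e : fixingSubgroup ↥M24 ({p} : Set GolayPt) = MulAction.stabilizer ↥M24 p := by
    ext g
    rw [mem_fixingSubgroup_iff, MulAction.mem_stabilizer_iff]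
    simp
  rw [e] at h
  exact h

end Cfsg.Agent.S0377
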