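import Cfsg.Statements.S5626
import Cfsg.Agent.Lib.Helper95.Plane4Iso

set_option autoImplicit false
open Cfsg

namespace Cfsg.Agent.S5626

open Cfsg.Agent.Lib.Helper95

/-- Uniqueness of the projective plane of order 4: any two Steiner systems S(2, 5, 21) (21 points, lines of 5 points, two points on exactly one line) are isomorphic. -/
theorem result {α β : Type*} [Fintype α] [DecidableEq α] [Fintype β] [DecidableEq β] (hα : Fintype.card α = 21) (hβ : Fintype.card β = 21) {L : Set (Finset α)} {L' : Set (Finset β)} (hL : Cfsg.IsSteinerSystem 2 5 L) (hL' : Cfsg.IsSteinerSystem 2 5 L') : Cfsg.SetSystemIso L L' := by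
  classical
  obtain ⟨H, hH⟩ := exists_oval hα hL
  obtain ⟨H', hH'⟩ := exists_oval hβ hL'
  have hcard : H.card = H'.card := by rw [hH.card, hH'.card]
  let σ : ↥H ≃ ↥H' := Finset.equivOfCardEq hcard
  obtain ⟨b0, hb0⟩ : H'.Nonempty := by rw [← Finset.card_pos, hH'.card]; norm_num
  let s : α → β := fun x => if hx : x ∈ H then (σ ⟨x, hx⟩ : β) else b0
  have hs : ∀ x (hx : x ∈ H), s x = (σ ⟨x, hx⟩ : β) := by
    intro x hx
    show (if hx : x ∈ H then (σ ⟨x, hx⟩ : β) else b0) = _
    rw [dif_pos hx]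
  have hsH : ∀ h ∈ H, s h ∈ H' := by
    intro h hh
    rw [hs h hh]
    exact (σ ⟨h, hh⟩).2
  have hsinj : ∀ h ∈ H, ∀ k ∈ H, s h = s k → h = k := by
    intro h hh k hk e
    rw [hs h hh, hs k hk] at e
    have := σ.injective (Subtype.ext e)
    exact congrArg Subtype.val this
  have hssurj : ∀ k ∈ H', ∃ h ∈ H, s h = k := by
    intro k hk
    obtain ⟨⟨h, hh⟩, e⟩ := σ.surjective ⟨k, hk⟩
    refine ⟨h, hh, ?_⟩
    rw [hs h hh, e]
  obtain ⟨e, -, hle⟩ := exists_plane_iso hα hL hβ hL' hH hH' s hsH hsinj hssurj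
  refine ⟨e, ?_⟩
  apply Set.eq_of_subset_of_ncard_le
  · rintro _ ⟨l, hl, rfl⟩
    exact hle l hl
  · rw [Set.ncard_image_of_injective _ (Finset.image_injective e.injective),
      p4_ncard_lines hα hL, p4_ncard_lines hβ hL']
  · exact Set.toFinite _

end Cfsg.Agent.S5626
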