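import Cfsg.Statements.S0352
import Cfsg.Agent.Lib.Helper09.Steiner
-- import your own Cfsg.Agent.* helpers here

set_option autoImplicit false
open Cfsg

namespace Cfsg.Agent.S0352

open Cfsg.Agent.Lib.Helper09 Finset

/-- In a Steiner system S(5, 8, 24), two distinct blocks intersect in 0, 2 or 4 points. -/
theorem result {α : Type*} [Fintype α] [DecidableEq α] (hα : Fintype.card α = 24) {B : Set (Finset α)} (hB : Cfsg.IsSteinerSystem 5 8 B) {b c : Finset α} (hb : b ∈ B) (hc : c ∈ B) (hbc : b ≠ c) : (b ∩ c).card = 0 ∨ (b ∩ c).card = 2 ∨ (b ∩ c).card = 4 := by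
  have S1 : ∑ c ∈ (blocks B).erase b, Nat.choose (b ∩ c).card 1 = 2016 :=
    (sum_choose_inter_eq hB hb 1 253 (by norm_num) (by decide) (by rw [hα]; decide)).trans
      (by norm_num [Nat.choose])
  have S2 : ∑ c ∈ (blocks B).erase b, Nat.choose (b ∩ c).card 2 = 2128 :=
    (sum_choose_inter_eq hB hb 2 77 (by norm_num) (by decide) (by rw [hα]; decide)).trans
      (by norm_num [Nat.choose])
  have S3 : ∑ c ∈ (blocks B).erase b, Nat.choose (b ∩ c).card 3 = 1120 :=
    (sum_choose_inter_eq hB hb 3 21 (by norm_num) (by decide) (by rw [hα]; decide)).trans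
      (by norm_num [Nat.choose])
  have S4 : ∑ c ∈ (blocks B).erase b, Nat.choose (b ∩ c).card 4 = 280 :=
    (sum_choose_inter_eq hB hb 4 5 (by norm_num) (by decide) (by rw [hα]; decide)).trans
      (by norm_num [Nat.choose])
  have hle : ∀ c ∈ (blocks B).erase b, (b ∩ c).card ≤ 4 := fun c hc =>
    Nat.lt_succ_iff.1 (card_inter_lt_of_mem_erase hB hb hc)
  have key1 : ∀ c ∈ (blocks B).erase b,
      Nat.choose (b ∩ c).card 1 + 3 * Nat.choose (b ∩ c).card 3
        = 2 * Nat.choose (b ∩ c).card 2 + 4 * Nat.choose (b ∩ c).card 4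
          + (if (b ∩ c).card = 1 then 1 else 0) := by
    intro c hc
    have := hle c hc
    interval_cases (b ∩ c).card <;> decide
  have key3 : ∀ c ∈ (blocks B).erase b,
      Nat.choose (b ∩ c).card 3
        = 4 * Nat.choose (b ∩ c).card 4 + (if (b ∩ c).card = 3 then 1 else 0) := by
    intro c hc
    have := hle c hc
    interval_cases (b ∩ c).card <;> decide
  have e1 := sum_congr rfl key1
  have e3 := sum_congr rfl key3
  simp only [sum_add_distrib, ← mul_sum] at e1 e3
  rw [S1, S2, S3, S4] at e1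
  rw [S3, S4] at e3
  have z1 : (∑ c ∈ (blocks B).erase b, if (b ∩ c).card = 1 then 1 else 0) = 0 := by
    omega
  have z3 : (∑ c ∈ (blocks B).erase b, if (b ∩ c).card = 3 then 1 else 0) = 0 := by
    omega
  have hcE : c ∈ (blocks B).erase b := by
    rw [mem_erase, mem_blocks]
    exact ⟨Ne.symm hbc, hc⟩
  rw [sum_eq_zero_iff] at z1 z3
  have n1 := z1 c hcE
  have n3 := z3 c hcE
  have h4 := hle c hcE
  simp only [ite_eq_right_iff, one_ne_zero, imp_false] at n1 n3
  omega

end Cfsg.Agent.S0352
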