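import Cfsg.Statements.S0353
import Cfsg.Agent.Lib.Helper09.Steiner
import Cfsg.Agent.S0352
-- import your own Cfsg.Agent.* helpers here

set_option autoImplicit false
open Cfsg

namespace Cfsg.Agent.S0353

open Cfsg.Agent.Lib.Helper09 Finset

variable {α : Type*} [Fintype α] [DecidableEq α] {B : Set (Finset α)}

/-- two distinct blocks containing a common 4-set meet exactly in it -/
theorem inter_eq_of (hB : Cfsg.IsSteinerSystem 5 8 B) {p q X : Finset α} (hp : p ∈ B) (hq : q ∈ B)
    (hne : p ≠ q) (hXp : X ⊆ p) (hXq : X ⊆ q) (hX : 4 ≤ X.card) : p ∩ q = X := by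
  have h1 := card_inter_lt hB hp hq hne
  symm
  apply eq_of_subset_of_card_le (subset_inter hXp hXq)
  omega

/-- existence of a block through a 5-set -/
theorem exists_block (hB : Cfsg.IsSteinerSystem 5 8 B) {s : Finset α} (hs : s.card = 5) :
    ∃ d ∈ B, s ⊆ d := by
  obtain ⟨d, ⟨hd, hsd⟩, _⟩ := hB.2 s hs
  exact ⟨d, hd, hsd⟩

theorem main (hα : Fintype.card α = 24) (hB : Cfsg.IsSteinerSystem 5 8 B) {b c : Finset α}
    (hb : b ∈ B) (hc : c ∈ B) (h4 : (b ∩ c).card = 4) : symmDiff b c ∈ B := by
  have hbk : b.card = 8 := hB.1 b hb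
  have hck : c.card = 8 := hB.1 c hc
  have hbc : b ≠ c := by
    rintro rfl
    rw [inter_self, hbk] at h4
    omega
  have hT2 : (b \ c).card = 4 := by
    have := card_sdiff_add_card_inter b c
    omega
  have hT3 : (c \ b).card = 4 := by
    have := card_sdiff_add_card_inter c b
    rw [inter_comm] at this
    omega
  -- pick x ∈ T3
  obtain ⟨x, hx⟩ : (c \ b).Nonempty := by rw [← card_pos]; omega
  rw [mem_sdiff] at hx
  obtain ⟨hxc, hxb⟩ := hx
  -- the block d through T2 ∪ {x}
  have hxT2 : x ∉ b \ c := fun h => hxb (mem_sdiff.1 h).1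
  obtain ⟨d, hd, hsd⟩ := exists_block hB (s := insert x (b \ c))
    (by rw [card_insert_of_notMem hxT2, hT2])
  have hdk : d.card = 8 := hB.1 d hd
  have hxd : x ∈ d := hsd (mem_insert_self _ _)
  have hT2d : b \ c ⊆ d := (subset_insert _ _).trans hsd
  have hdb : d ≠ b := fun h => hxb (h ▸ hxd)
  have hdbI : d ∩ b = b \ c := inter_eq_of hB hd hb hdb hT2d sdiff_subset (by omega)
  obtain ⟨u0, hu0⟩ : (b \ c).Nonempty := by rw [← card_pos]; omega
  have hdc : d ≠ c := fun h => (mem_sdiff.1 hu0).2 (h ▸ hT2d hu0)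
  -- d ∩ c ⊆ T3
  have hdcT3 : d ∩ c ⊆ c \ b := by
    intro a ha
    rw [mem_inter] at ha
    rw [mem_sdiff]
    refine ⟨ha.2, fun hab => ?_⟩
    have : a ∈ d ∩ b := mem_inter.2 ⟨ha.1, hab⟩
    rw [hdbI, mem_sdiff] at this
    exact this.2 ha.2
  have hxdc : x ∈ d ∩ c := mem_inter.2 ⟨hxd, hxc⟩
  rcases Cfsg.Agent.S0352.result hα hB hd hc hdc with h0 | h2 | h4'
  · rw [card_eq_zero] at h0
    rw [h0] at hxdc
    exact absurd hxdc (notMem_empty _)
  · -- the bad case
    exfalso
    -- Z = d \ (b ∪ c) has two elements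
    have hdisj : Disjoint (d ∩ b) (d ∩ c) := by
      rw [disjoint_left]
      intro a ha hac
      rw [hdbI, mem_sdiff] at ha
      exact ha.2 (mem_inter.1 hac).2
    have hZcard : (d \ (b ∪ c)).card = 2 := by
      have h1 : d \ (b ∪ c) = d \ ((d ∩ b) ∪ (d ∩ c)) := by
        ext a
        simp only [mem_sdiff, mem_union, mem_inter]
        tauto
      have h2' : (d ∩ b) ∪ (d ∩ c) ⊆ d := union_subset inter_subset_left inter_subset_left
      rw [h1, card_sdiff_of_subset h2', card_union_of_disjoint hdisj, hdbI, hT2, h2, hdk]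
    obtain ⟨z, hz⟩ : (d \ (b ∪ c)).Nonempty := by rw [← card_pos]; omega
    have hzd : z ∈ d := (mem_sdiff.1 hz).1
    have hzb : z ∉ b := fun h => (mem_sdiff.1 hz).2 (mem_union_left _ h)
    have hzc : z ∉ c := fun h => (mem_sdiff.1 hz).2 (mem_union_right _ h)
    -- the block c' through T1 ∪ {z}
    have hzT1 : z ∉ b ∩ c := fun h => hzb (mem_inter.1 h).1
    obtain ⟨c', hc', hsc'⟩ := exists_block hB (s := insert z (b ∩ c))
      (by rw [card_insert_of_notMem hzT1, h4])
    have hzc' : z ∈ c' := hsc' (mem_insert_self _ _)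
    have hT1c' : b ∩ c ⊆ c' := (subset_insert _ _).trans hsc'
    have hc'b : c' ≠ b := fun h => hzb (h ▸ hzc')
    have hc'c : c' ≠ c := fun h => hzc (h ▸ hzc')
    have hc'bI : c' ∩ b = b ∩ c := inter_eq_of hB hc' hb hc'b hT1c' inter_subset_left (by omega)
    have hc'cI : c' ∩ c = b ∩ c := inter_eq_of hB hc' hc hc'c hT1c' inter_subset_right (by omega)
    -- c' ∩ d ⊆ Z
    have hc'dZ : c' ∩ d ⊆ d \ (b ∪ c) := by
      intro a ha
      rw [mem_inter] at ha
      rw [mem_sdiff, mem_union]
      refine ⟨ha.2, ?_⟩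
      have key : a ∉ b := by
        intro hab
        have h1 : a ∈ c' ∩ b := mem_inter.2 ⟨ha.1, hab⟩
        have h2' : a ∈ d ∩ b := mem_inter.2 ⟨ha.2, hab⟩
        rw [hc'bI, mem_inter] at h1
        rw [hdbI, mem_sdiff] at h2'
        exact h2'.2 h1.2
      rintro (hab | hac)
      · exact key hab
      · have h1 : a ∈ c' ∩ c := mem_inter.2 ⟨ha.1, hac⟩
        rw [hc'cI, mem_inter] at h1
        exact key h1.1
    obtain ⟨t0, ht0⟩ : (b ∩ c).Nonempty := by rw [← card_pos]; omega
    have ht0d : t0 ∉ d := by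
      intro h
      have : t0 ∈ d ∩ b := mem_inter.2 ⟨h, (mem_inter.1 ht0).1⟩
      rw [hdbI, mem_sdiff] at this
      exact this.2 (mem_inter.1 ht0).2
    have hc'd : c' ≠ d := fun h => ht0d (h ▸ hT1c' ht0)
    have hZc' : d \ (b ∪ c) ⊆ c' := by
      have hzI : z ∈ c' ∩ d := mem_inter.2 ⟨hzc', hzd⟩
      have hle : (c' ∩ d).card ≤ 2 := hZcard ▸ card_le_card hc'dZ
      rcases Cfsg.Agent.S0352.result hα hB hc' hd hc'd with h0 | h2'' | h4''
      · rw [card_eq_zero] at h0
        rw [h0] at hzI
        exact absurd hzI (notMem_empty _)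
      · have : c' ∩ d = d \ (b ∪ c) := eq_of_subset_of_card_le hc'dZ (by omega)
        rw [← this]
        exact inter_subset_left
      · omega
    -- pick t4 ∈ T1 and form e through T1' ∪ {x, z}
    obtain ⟨t4, ht4⟩ : (b ∩ c).Nonempty := ⟨t0, ht0⟩
    have hT1' : ((b ∩ c).erase t4).card = 3 := by rw [card_erase_of_mem ht4, h4]
    have hT1'sub : (b ∩ c).erase t4 ⊆ b ∩ c := erase_subset _ _
    have hxz : x ≠ z := fun h => hzc (h ▸ hxc)
    have hzT1' : z ∉ (b ∩ c).erase t4 := fun h => hzT1 (hT1'sub h)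
    have hxT1' : x ∉ insert z ((b ∩ c).erase t4) := by
      rw [mem_insert]
      rintro (h | h)
      · exact hxz h
      · exact hxb (mem_inter.1 (hT1'sub h)).1
    obtain ⟨e, he, hse⟩ := exists_block hB (s := insert x (insert z ((b ∩ c).erase t4)))
      (by rw [card_insert_of_notMem hxT1', card_insert_of_notMem hzT1', hT1'])
    have hxe : x ∈ e := hse (mem_insert_self _ _)
    have hze : z ∈ e := hse (mem_insert_of_mem (mem_insert_self _ _))
    have hT1'e : (b ∩ c).erase t4 ⊆ e :=
      (subset_insert _ _).trans ((subset_insert _ _).trans hse)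
    have hec : e ≠ c := fun h => hzc (h ▸ hze)
    have hxc' : x ∉ c' := by
      intro h
      have : x ∈ c' ∩ c := mem_inter.2 ⟨h, hxc⟩
      rw [hc'cI, mem_inter] at this
      exact hxb this.1
    have hec' : e ≠ c' := fun h => hxc' (h ▸ hxe)
    have heb : e ≠ b := fun h => hxb (h ▸ hxe)
    have hecI : e ∩ c = insert x ((b ∩ c).erase t4) := by
      apply inter_eq_of hB he hc hec
      · exact insert_subset hxe hT1'e
      · exact insert_subset hxc (hT1'sub.trans inter_subset_right)
      · rw [card_insert_of_notMem (fun h => hxT1' (mem_insert_of_mem h)), hT1']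
    have hec'I : e ∩ c' = insert z ((b ∩ c).erase t4) := by
      apply inter_eq_of hB he hc' hec'
      · exact insert_subset hze hT1'e
      · exact insert_subset hzc' (hT1'sub.trans hT1c')
      · rw [card_insert_of_notMem hzT1', hT1']
    have ht4e : t4 ∉ e := by
      intro h
      have : t4 ∈ e ∩ c := mem_inter.2 ⟨h, (mem_inter.1 ht4).2⟩
      rw [hecI, mem_insert] at this
      rcases this with h | h
      · exact hxb (h ▸ (mem_inter.1 ht4).1)
      · exact (notMem_erase t4 _) h
    -- |e ∩ b| = 4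
    have hT1'eb : (b ∩ c).erase t4 ⊆ e ∩ b :=
      subset_inter hT1'e (hT1'sub.trans inter_subset_left)
    have hebcard : (e ∩ b).card = 4 := by
      have hge : 3 ≤ (e ∩ b).card := hT1' ▸ card_le_card hT1'eb
      rcases Cfsg.Agent.S0352.result hα hB he hb heb with h | h | h <;> omega
    obtain ⟨u, hu⟩ : ((e ∩ b) \ (b ∩ c).erase t4).Nonempty := by
      rw [← card_pos, card_sdiff_of_subset hT1'eb]; omega
    rw [mem_sdiff, mem_inter] at hu
    obtain ⟨⟨hue, hub⟩, huT1'⟩ := hu
    have huc : u ∉ c := by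
      intro h
      have hu1 : u ∈ b ∩ c := mem_inter.2 ⟨hub, h⟩
      by_cases hut : u = t4
      · exact ht4e (hut ▸ hue)
      · exact huT1' (mem_erase.2 ⟨hut, hu1⟩)
    have hud : u ∈ d := hT2d (mem_sdiff.2 ⟨hub, huc⟩)
    have hebI : e ∩ b = insert u ((b ∩ c).erase t4) := by
      symm
      apply eq_of_subset_of_card_le
      · exact insert_subset (mem_inter.2 ⟨hue, hub⟩) hT1'eb
      · rw [card_insert_of_notMem huT1', hT1', hebcard]
    -- e ≠ d
    obtain ⟨t, ht⟩ : ((b ∩ c).erase t4).Nonempty := by rw [← card_pos]; omega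
    have htd : t ∉ d := by
      intro h
      have h1 := hT1'sub ht
      have : t ∈ d ∩ b := mem_inter.2 ⟨h, (mem_inter.1 h1).1⟩
      rw [hdbI, mem_sdiff] at this
      exact this.2 (mem_inter.1 h1).2
    have hed : e ≠ d := fun h => htd (h ▸ hT1'e ht)
    -- e ∩ d ⊆ {u, x, z}
    have hsub : e ∩ d ⊆ {u, x, z} := by
      intro a ha
      rw [mem_inter] at ha
      simp only [mem_insert, mem_singleton]
      by_cases hab : a ∈ b
      · left
        have h1 : a ∈ e ∩ b := mem_inter.2 ⟨ha.1, hab⟩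
        have h2' : a ∈ d ∩ b := mem_inter.2 ⟨ha.2, hab⟩
        rw [hebI, mem_insert] at h1
        rw [hdbI, mem_sdiff] at h2'
        rcases h1 with h1 | h1
        · exact h1
        · exact absurd (mem_inter.1 (hT1'sub h1)).2 h2'.2
      · by_cases hac : a ∈ c
        · right; left
          have h1 : a ∈ e ∩ c := mem_inter.2 ⟨ha.1, hac⟩
          rw [hecI, mem_insert] at h1
          rcases h1 with h1 | h1
          · exact h1
          · exact absurd (mem_inter.1 (hT1'sub h1)).1 hab
        · right; right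
          have haZ : a ∈ d \ (b ∪ c) := by
            rw [mem_sdiff, mem_union]
            exact ⟨ha.2, fun h => h.elim hab hac⟩
          have h1 : a ∈ e ∩ c' := mem_inter.2 ⟨ha.1, hZc' haZ⟩
          rw [hec'I, mem_insert] at h1
          rcases h1 with h1 | h1
          · exact h1
          · exact absurd (mem_inter.1 (hT1'sub h1)).1 hab
    have hle3 : (e ∩ d).card ≤ 3 := (card_le_card hsub).trans card_le_three
    have hge3 : 3 ≤ (e ∩ d).card := by
      have hsub' : ({u, x, z} : Finset α) ⊆ e ∩ d := by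
        intro a ha
        simp only [mem_insert, mem_singleton] at ha
        rcases ha with rfl | rfl | rfl
        · exact mem_inter.2 ⟨hue, hud⟩
        · exact mem_inter.2 ⟨hxe, hxd⟩
        · exact mem_inter.2 ⟨hze, hzd⟩
      have hcard3 : ({u, x, z} : Finset α).card = 3 := by
        rw [card_eq_three]
        refine ⟨u, x, z, ?_, ?_, hxz, rfl⟩
        · exact fun h => hxb (h ▸ hub)
        · exact fun h => hzb (h ▸ hub)
      exact hcard3 ▸ card_le_card hsub'
    rcases Cfsg.Agent.S0352.result hα hB he hd hed with h | h | h <;> omega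
  · -- good case: T3 ⊆ d
    have hT3d : c \ b ⊆ d := by
      have : d ∩ c = c \ b := eq_of_subset_of_card_le hdcT3 (by omega)
      rw [← this]
      exact inter_subset_left
    have hsub : symmDiff b c ⊆ d := by
      rw [symmDiff_def]
      exact union_subset hT2d hT3d
    have hcard : d.card ≤ (symmDiff b c).card := by
      rw [symmDiff_def, sup_eq_union, card_union_of_disjoint, hT2, hT3, hdk]
      rw [disjoint_left]
      intro a ha hac
      exact (mem_sdiff.1 hac).2 (mem_sdiff.1 ha).1
    rw [eq_of_subset_of_card_le hsub hcard]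
    exact hd

/-- In an S(5, 8, 24), the symmetric difference of two blocks meeting in four points is a block. -/
theorem result {α : Type*} [Fintype α] [DecidableEq α] (hα : Fintype.card α = 24) {B : Set (Finset α)} (hB : Cfsg.IsSteinerSystem 5 8 B) {b c : Finset α} (hb : b ∈ B) (hc : c ∈ B) (h4 : (b ∩ c).card = 4) : symmDiff b c ∈ B := by
  exact main hα hB hb hc h4

end Cfsg.Agent.S0353
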