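import Cfsg.Statements.S1555
import Cfsg.Agent.Lib.Helper95.SteinerLeech
import Cfsg.Agent.Lib.Helper95.GolayConcrete

set_option autoImplicit false
open scoped Pointwise
open Cfsg

namespace Cfsg.Agent.S1555

open Cfsg.Agent.Lib.Helper95 Cfsg.Agent.Lib.Helper09

/-- Numbers of blocks of S(5,8,24) through an `i`-subset of a block. -/
def lam : ℕ → ℕ
  | 0 => 759
  | 1 => 253
  | 2 => 77
  | 3 => 21
  | 4 => 5
  | _ => 1

/-- Numbers of blocks of S(5,8,24) meeting a block exactly in a given `i`-subset. -/
def G : ℕ → ℕ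
  | 0 => 30
  | 2 => 16
  | 4 => 4
  | 8 => 1
  | _ => 0

theorem table {α : Type*} [Fintype α] [DecidableEq α] (hα : Fintype.card α = 24)
    {B : Set (Finset α)} (hB : Cfsg.IsSteinerSystem 5 8 B) (b : Finset α) (hb : b ∈ B) :
    ∀ s : Finset α, s ⊆ b → meetCount B b s = G s.card := by
  have hbk : b.card = 8 := hB.1 b hb
  have hlam : ∀ s : Finset α, s ⊆ b → ((blocks B).filter (s ⊆ ·)).card = lam s.card := by
    intro s hsb
    have hle : s.card ≤ 8 := by rw [← hbk]; exact Finset.card_le_card hsb
    rcases Nat.lt_or_ge s.card 5 with h | h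
    · obtain ⟨i, hi⟩ : ∃ i, s.card = i := ⟨_, rfl⟩
      rw [hi]
      rw [hi] at h
      interval_cases i
      · exact card_blocks_through_eq hB 0 759 (by norm_num) (by decide) (by rw [hα]; decide) s hi
      · exact card_blocks_through_eq hB 1 253 (by norm_num) (by decide) (by rw [hα]; decide) s hi
      · exact card_blocks_through_eq hB 2 77 (by norm_num) (by decide) (by rw [hα]; decide) s hi
      · exact card_blocks_through_eq hB 3 21 (by norm_num) (by decide) (by rw [hα]; decide) s hi
      · exact card_blocks_through_eq hB 4 5 (by norm_num) (by decide) (by rw [hα]; decide) s hi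
    · rw [blocks_through_of_le hB hb s hsb h]
      obtain ⟨i, hi⟩ : ∃ i, s.card = i := ⟨_, rfl⟩
      rw [hi]
      rw [hi] at h hle
      interval_cases i <;> rfl
  apply leech_table B b lam G hlam
  rw [hbk]
  intro i hi
  interval_cases i <;> decide

/-- Bottom row of the Leech triangle: an octad is met in a prescribed pair of its points by exactly 16 octads and in a prescribed 4-subset by exactly 4 octads. -/
theorem result (o : Finset Cfsg.GolayPt) (ho : o ∈ Cfsg.octads) (s : Finset Cfsg.GolayPt) (hs : s ⊆ o) : (s.card = 2 → {o' : Finset Cfsg.GolayPt | o' ∈ Cfsg.octads ∧ o ∩ o' = s}.ncard = 16) ∧ (s.card = 4 → {o' : Finset Cfsg.GolayPt | o' ∈ Cfsg.octads ∧ o ∩ o' = s}.ncard = 4) := by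
  have hS : Cfsg.IsSteinerSystem 5 8 Cfsg.octads :=
    g24_isSteinerSystem golayPt_card Cfsg.golayCode golayCode_finrank golayCode_hmin
  have htab := table golayPt_card hS o ho
  refine ⟨?_, ?_⟩
  · intro h2
    rw [ncard_eq_meetCount, htab s hs, h2]
    rfl
  · intro h4
    rw [ncard_eq_meetCount, htab s hs, h4]
    rfl

end Cfsg.Agent.S1555
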