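import Cfsg.Statements.S4452
import Cfsg.Agent.Lib.Helper04.CoprimeDegree

set_option autoImplicit false
open Cfsg Cfsg.Agent.Lib.Helper04

namespace Cfsg.Agent.S4452

/-- Let the finite group G be the product of a normal subgroup K and a solvable subgroup H of coprime orders, and let N = N_G(H). Then the number of irreducible characters of G of degree coprime to the order of H equals the number of irreducible characters of N of degree coprime to the order of H. (The two sets are in fact in a canonical bijection; only the equality of their sizes is stated here.) -/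
theorem result {G : Type*} [Group G] [Finite G] (K H : Subgroup G) [K.Normal] (hKH : K ⊔ H = ⊤) (hcop : (Nat.card K).Coprime (Nat.card H)) (hsolv : Group.IsSolvable H) : Nat.card {χ : Cfsg.IrrCharacter G // (Cfsg.charDegree (χ : G → ℂ)).Coprime (Nat.card H)} = Nat.card {η : Cfsg.IrrCharacter (Subgroup.normalizer (H : Set G)) // (Cfsg.charDegree (η : Subgroup.normalizer (H : Set G) → ℂ)).Coprime (Nat.card H)} := by
  classical
  have hKn : K.Normal := inferInstance
  have hdisj : K ⊓ H = ⊥ := Subgroup.inf_eq_bot_of_coprime hcop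
  -- the left side
  have hL := card_coprime_degree_compl K H hKH hcop
  have hSG : ∀ s ∈ H, ∀ g ∈ K, s * g * s⁻¹ ∈ K := fun s _ g hg => hKn.conj_mem g hg s
  have hC := card_setInv_eq_card_irr K H (K ⊓ Subgroup.centralizer (H : Set G)) hSG hcop hsolv rfl
  rw [hC] at hL
  -- the normalizer of the complement
  have hHN : H ≤ Subgroup.normalizer (H : Set G) := Subgroup.le_normalizer
  have hcent : K ⊓ Subgroup.normalizer (H : Set G) = K ⊓ Subgroup.centralizer (H : Set G) := by
    apply le_antisymm
    · rintro k ⟨hkK, hkN⟩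
      refine ⟨hkK, ?_⟩
      show k ∈ Subgroup.centralizer (H : Set G)
      rw [Subgroup.mem_centralizer_iff]
      intro h hh
      have hh' : h ∈ H := hh
      have h1 : k * h * k⁻¹ ∈ H := ((Subgroup.mem_normalizer_iff).mp hkN h).mp hh'
      have h2 : k * h * k⁻¹ * h⁻¹ ∈ H := H.mul_mem h1 (H.inv_mem hh')
      have h3 : k * h * k⁻¹ * h⁻¹ ∈ K := by
        have : k * h * k⁻¹ * h⁻¹ = k * (h * k⁻¹ * h⁻¹) := by group
        rw [this]
        exact K.mul_mem hkK (hKn.conj_mem k⁻¹ (K.inv_mem hkK) h)
      have h4 : k * h * k⁻¹ * h⁻¹ ∈ K ⊓ H := ⟨h3, h2⟩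
      rw [hdisj, Subgroup.mem_bot] at h4
      have h5 : k * h = h * k := by
        have : k * h = (k * h * k⁻¹ * h⁻¹) * (h * k) := by group
        rw [this, h4, one_mul]
      exact h5.symm
    · exact inf_le_inf_left K (Subgroup.centralizer_le_normalizer _)
  have hsup : K.subgroupOf (Subgroup.normalizer (H : Set G)) ⊔
      H.subgroupOf (Subgroup.normalizer (H : Set G)) = ⊤ := by
    rw [eq_top_iff]
    rintro ⟨n, hn⟩ _
    obtain ⟨k, hk, h, hh, rfl⟩ := exists_mul_of_sup_eq_top K H hKH n
    have hhN : h ∈ Subgroup.normalizer (H : Set G) := hHN hh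
    have hkN : k ∈ Subgroup.normalizer (H : Set G) := by
      have := (Subgroup.normalizer (H : Set G)).mul_mem hn
        ((Subgroup.normalizer (H : Set G)).inv_mem hhN)
      rwa [mul_inv_cancel_right] at this
    have h1 : (⟨k * h, hn⟩ : Subgroup.normalizer (H : Set G)) = ⟨k, hkN⟩ * ⟨h, hhN⟩ := rfl
    rw [h1]
    exact Subgroup.mul_mem _ (Subgroup.mem_sup_left (Subgroup.mem_subgroupOf.mpr hk))
      (Subgroup.mem_sup_right (Subgroup.mem_subgroupOf.mpr hh))
  -- the normal complement inside the normalizer
  let e1 : K.subgroupOf (Subgroup.normalizer (H : Set G)) ≃*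
      (K ⊓ Subgroup.normalizer (H : Set G)).subgroupOf (Subgroup.normalizer (H : Set G)) :=
    MulEquiv.subgroupCongr (Subgroup.inf_subgroupOf_right K _).symm
  let e2 : (K ⊓ Subgroup.normalizer (H : Set G)).subgroupOf (Subgroup.normalizer (H : Set G)) ≃*
      (K ⊓ Subgroup.normalizer (H : Set G) : Subgroup G) :=
    Subgroup.subgroupOfEquivOfLe inf_le_right
  let e3 : (K ⊓ Subgroup.normalizer (H : Set G) : Subgroup G) ≃*
      (K ⊓ Subgroup.centralizer (H : Set G) : Subgroup G) := MulEquiv.subgroupCongr hcent
  let e : K.subgroupOf (Subgroup.normalizer (H : Set G)) ≃*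
      (K ⊓ Subgroup.centralizer (H : Set G) : Subgroup G) := (e1.trans e2).trans e3
  let eH : H.subgroupOf (Subgroup.normalizer (H : Set G)) ≃* H := Subgroup.subgroupOfEquivOfLe hHN
  have hcardH : Nat.card (H.subgroupOf (Subgroup.normalizer (H : Set G))) = Nat.card H :=
    Nat.card_congr eH.toEquiv
  have hcardK : Nat.card (K.subgroupOf (Subgroup.normalizer (H : Set G))) ∣ Nat.card K := by
    rw [Nat.card_congr e.toEquiv]
    exact Subgroup.card_dvd_of_le inf_le_left
  have hcop' : (Nat.card (K.subgroupOf (Subgroup.normalizer (H : Set G)))).Coprime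
      (Nat.card (H.subgroupOf (Subgroup.normalizer (H : Set G)))) := by
    rw [hcardH]
    exact Nat.Coprime.coprime_dvd_left hcardK hcop
  have hR := card_coprime_degree_compl (K.subgroupOf (Subgroup.normalizer (H : Set G)))
    (H.subgroupOf (Subgroup.normalizer (H : Set G))) hsup hcop'
  rw [hcardH] at hR
  rw [hL, hR]
  congr 1
  · -- every irreducible character of the centralizer part is invariant
    have hall : ∀ θ : IrrCharacter (K.subgroupOf (Subgroup.normalizer (H : Set G))),
        SetInv (K.subgroupOf (Subgroup.normalizer (H : Set G)))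
          (H.subgroupOf (Subgroup.normalizer (H : Set G))) (θ : _ → ℂ) := by
      intro θ s hs g g' hgg'
      have hsH : ((s : Subgroup.normalizer (H : Set G)) : G) ∈ H := Subgroup.mem_subgroupOf.mp hs
      have hgK : (((g : Subgroup.normalizer (H : Set G))) : G) ∈ K :=
        Subgroup.mem_subgroupOf.mp g.2
      have hgC : (((g : Subgroup.normalizer (H : Set G))) : G) ∈
          K ⊓ Subgroup.centralizer (H : Set G) := by
        rw [← hcent]
        exact ⟨hgK, (g : Subgroup.normalizer (H : Set G)).2⟩
      have hcomm := (Subgroup.mem_centralizer_iff.mp hgC.2) _ hsH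
      have : g' = g := by
        apply Subtype.ext
        rw [hgg']
        apply Subtype.ext
        simp only [Subgroup.coe_mul, Subgroup.coe_inv]
        rw [hcomm, mul_inv_cancel_right]
      rw [this]
    rw [Nat.card_congr (Equiv.subtypeUnivEquiv hall)]
    exact Nat.card_congr (irrCongr e)
  · apply Nat.card_congr
    refine (irrCongr eH).subtypeEquiv ?_
    intro μ
    rw [irrCongr_apply, map_one]

end Cfsg.Agent.S4452
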