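import Mathlib
import Cfsg.Statements.S2468
import Cfsg.Agent.Lib.Helper99.UnipCent

set_option autoImplicit false
open Cfsg

namespace Cfsg.Agent.S2468

open Cfsg.Agent.Lib.Helper99.UnipCent

section counting

variable {F V : Type*} [Field F] [AddCommGroup V] [Module F V] [Finite V]

/-- divisibility form of the orbit count -/
theorem orderOf_dvd_finrank_sub (X : V →ₗ[F] V) (r : ℕ) [Fact r.Prime] (hX : X ^ r = 1)
    (hr : Nat.Coprime (Nat.card F) r) (U : Submodule F V) (hU : ∀ u ∈ U, X u ∈ U) :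
    orderOf ((Nat.card F : ℕ) : ZMod r) ∣
      Module.finrank F U - Module.finrank F ↥(U ⊓ LinearMap.ker (X - 1)) := by
  have h := card_inv_modEq X r hX U hU
  rw [Module.natCard_eq_pow_finrank (K := F) (V := U),
    Module.natCard_eq_pow_finrank (K := F) (V := ↥(U ⊓ LinearMap.ker (X - 1)))] at h
  have hle : Module.finrank F ↥(U ⊓ LinearMap.ker (X - 1)) ≤ Module.finrank F U :=
    Submodule.finrank_mono inf_le_left
  obtain ⟨k, hk⟩ := Nat.exists_eq_add_of_le hle
  rw [hk, pow_add] at h
  have h1 : Nat.card F ^ k ≡ 1 [MOD r] := by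
    have h2 : Nat.card F ^ Module.finrank F ↥(U ⊓ LinearMap.ker (X - 1)) * Nat.card F ^ k ≡
        Nat.card F ^ Module.finrank F ↥(U ⊓ LinearMap.ker (X - 1)) * 1 [MOD r] := by
      rw [mul_one]; exact h
    have hc : Nat.Coprime r (Nat.card F ^ Module.finrank F ↥(U ⊓ LinearMap.ker (X - 1))) :=
      (Nat.Coprime.pow_left _ hr).symm
    exact Nat.ModEq.cancel_left_of_coprime hc h2
  have h3 : Module.finrank F U - Module.finrank F ↥(U ⊓ LinearMap.ker (X - 1)) = k := by omega
  rw [h3]
  apply orderOf_dvd_of_pow_eq_one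
  have h4 := (ZMod.natCast_eq_natCast_iff _ _ _).mpr h1
  rw [Nat.cast_pow, Nat.cast_one] at h4
  exact h4

/-- two commuting operators of distinct prime orders -/
theorem two_primes_core (X Y : V →ₗ[F] V) (r s : ℕ) [Fact r.Prime] [Fact s.Prime]
    (hX : X ^ r = 1) (hX1 : X ≠ 1) (hY : Y ^ s = 1) (hY1 : Y ≠ 1)
    (hcomm : ∀ v, X (Y v) = Y (X v))
    (hr : Nat.Coprime (Nat.card F) r) (hs : Nat.Coprime (Nat.card F) s)
    (hkl : orderOf ((Nat.card F : ℕ) : ZMod r) ≤ orderOf ((Nat.card F : ℕ) : ZMod s))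
    (hn : Module.finrank F V <
      orderOf ((Nat.card F : ℕ) : ZMod r) + orderOf ((Nat.card F : ℕ) : ZMod s)) :
    orderOf ((Nat.card F : ℕ) : ZMod r) ∣ orderOf ((Nat.card F : ℕ) : ZMod s) := by
  set k := orderOf ((Nat.card F : ℕ) : ZMod r) with hk
  set l := orderOf ((Nat.card F : ℕ) : ZMod s) with hl
  -- invariance
  have hT : ∀ (Z : V →ₗ[F] V), ∀ u ∈ (⊤ : Submodule F V), Z u ∈ (⊤ : Submodule F V) :=
    fun _ _ _ => Submodule.mem_top
  have hFxY : ∀ u ∈ LinearMap.ker (X - 1), Y u ∈ LinearMap.ker (X - 1) := by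
    intro u hu
    rw [LinearMap.mem_ker, LinearMap.sub_apply, sub_eq_zero] at hu ⊢
    rw [hcomm, hu]
    rfl
  have hFyX : ∀ u ∈ LinearMap.ker (Y - 1), X u ∈ LinearMap.ker (Y - 1) := by
    intro u hu
    rw [LinearMap.mem_ker, LinearMap.sub_apply, sub_eq_zero] at hu ⊢
    rw [← hcomm, hu]
    rfl
  have neTop : ∀ (Z : V →ₗ[F] V), Z ≠ 1 → Module.finrank F (LinearMap.ker (Z - 1)) < Module.finrank F V := by
    intro Z hZ
    by_contra hge
    have hle : Module.finrank F (LinearMap.ker (Z - 1)) ≤ Module.finrank F V := Submodule.finrank_le _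
    have htop : LinearMap.ker (Z - 1) = ⊤ := Submodule.eq_top_of_finrank_eq (by omega)
    apply hZ
    ext v
    have hv : v ∈ LinearMap.ker (Z - 1) := by rw [htop]; exact Submodule.mem_top
    rw [LinearMap.mem_ker, LinearMap.sub_apply, sub_eq_zero] at hv
    exact hv
  have hfx := neTop X hX1
  have hfy := neTop Y hY1
  have d1 := orderOf_dvd_finrank_sub X r hX hr ⊤ (hT X)
  have d2 := orderOf_dvd_finrank_sub Y s hY hs ⊤ (hT Y)
  rw [top_inf_eq, finrank_top] at d1 d2
  have d3 := orderOf_dvd_finrank_sub Y s hY hs (LinearMap.ker (X - 1)) hFxY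
  have d4 := orderOf_dvd_finrank_sub X r hX hr (LinearMap.ker (Y - 1)) hFyX
  rw [← hk] at d1 d4
  rw [← hl] at d2 d3
  have hk1 : k ≤ Module.finrank F V - Module.finrank F (LinearMap.ker (X - 1)) :=
    Nat.le_of_dvd (by omega) d1
  have hl1 : l ≤ Module.finrank F V - Module.finrank F (LinearMap.ker (Y - 1)) :=
    Nat.le_of_dvd (by omega) d2
  have hle3 : Module.finrank F ↥(LinearMap.ker (X - 1) ⊓ LinearMap.ker (Y - 1)) ≤
      Module.finrank F (LinearMap.ker (X - 1)) := Submodule.finrank_mono inf_le_left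
  have hle4 : Module.finrank F ↥(LinearMap.ker (Y - 1) ⊓ LinearMap.ker (X - 1)) ≤
      Module.finrank F (LinearMap.ker (Y - 1)) := Submodule.finrank_mono inf_le_left
  -- the fixed spaces coincide
  have e3 : Module.finrank F ↥(LinearMap.ker (X - 1) ⊓ LinearMap.ker (Y - 1)) =
      Module.finrank F (LinearMap.ker (X - 1)) := by
    by_contra hne
    have : l ≤ Module.finrank F (LinearMap.ker (X - 1)) -
        Module.finrank F ↥(LinearMap.ker (X - 1) ⊓ LinearMap.ker (Y - 1)) :=
      Nat.le_of_dvd (by omega) d3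
    omega
  have e4 : Module.finrank F ↥(LinearMap.ker (Y - 1) ⊓ LinearMap.ker (X - 1)) =
      Module.finrank F (LinearMap.ker (Y - 1)) := by
    by_contra hne
    have : k ≤ Module.finrank F (LinearMap.ker (Y - 1)) -
        Module.finrank F ↥(LinearMap.ker (Y - 1) ⊓ LinearMap.ker (X - 1)) :=
      Nat.le_of_dvd (by omega) d4
    omega
  have hxy : LinearMap.ker (X - 1) ≤ LinearMap.ker (Y - 1) := by
    have := Submodule.eq_of_le_of_finrank_eq
      (inf_le_left : LinearMap.ker (X - 1) ⊓ LinearMap.ker (Y - 1) ≤ LinearMap.ker (X - 1)) e3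
    rw [← this]; exact inf_le_right
  have hyx : LinearMap.ker (Y - 1) ≤ LinearMap.ker (X - 1) := by
    have := Submodule.eq_of_le_of_finrank_eq
      (inf_le_left : LinearMap.ker (Y - 1) ⊓ LinearMap.ker (X - 1) ≤ LinearMap.ker (Y - 1)) e4
    rw [← this]; exact inf_le_right
  have heq : LinearMap.ker (X - 1) = LinearMap.ker (Y - 1) := le_antisymm hxy hyx
  rw [heq] at d1 hk1
  -- `n - f` is a positive multiple of `l` below `2 l`
  obtain ⟨c, hc⟩ := d2
  have hc1 : c = 1 := by
    have hpos : 0 < Module.finrank F V - Module.finrank F (LinearMap.ker (Y - 1)) := by omega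
    have hlt : Module.finrank F V - Module.finrank F (LinearMap.ker (Y - 1)) < 2 * l := by omega
    rw [hc] at hpos hlt
    have hlpos : 0 < l := by
      rcases Nat.eq_zero_or_pos l with h0 | h
      · rw [h0, zero_mul] at hpos; omega
      · exact h
    have : c < 2 := by
      by_contra hge
      have : 2 * l ≤ l * c := by nlinarith
      omega
    have : 0 < c := by
      rcases Nat.eq_zero_or_pos c with h0 | h
      · rw [h0, mul_zero] at hpos; omega
      · exact h
    omega
  rw [hc, hc1, mul_one] at d1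
  exact d1

end counting

section blocks

variable {F : Type*} [Field F] {a b : ℕ}

/-- the block diagonal embedding -/
noncomputable def blkG (M₁ : Matrix (Fin a) (Fin a) F) (M₂ : Matrix (Fin b) (Fin b) F) :
    Matrix (Fin (a + b)) (Fin (a + b)) F :=
  Matrix.reindexAlgEquiv F F (finSumFinEquiv : Fin a ⊕ Fin b ≃ Fin (a + b))
    (Matrix.fromBlocks M₁ 0 0 M₂)

theorem blkG_mul (M₁ M₁' : Matrix (Fin a) (Fin a) F) (M₂ M₂' : Matrix (Fin b) (Fin b) F) :
    blkG M₁ M₂ * blkG M₁' M₂' = blkG (M₁ * M₁') (M₂ * M₂') := by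
  unfold blkG
  rw [← map_mul, Matrix.fromBlocks_multiply]
  simp

theorem blkG_one : blkG (1 : Matrix (Fin a) (Fin a) F) (1 : Matrix (Fin b) (Fin b) F) = 1 := by
  unfold blkG
  rw [Matrix.fromBlocks_one, map_one]

theorem blkG_det (M₁ : Matrix (Fin a) (Fin a) F) (M₂ : Matrix (Fin b) (Fin b) F) :
    (blkG M₁ M₂).det = M₁.det * M₂.det := by
  unfold blkG
  rw [Matrix.det_reindexAlgEquiv, Matrix.det_fromBlocks_zero₂₁]

theorem blkG_inj (M₁ M₁' : Matrix (Fin a) (Fin a) F) (M₂ M₂' : Matrix (Fin b) (Fin b) F)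
    (h : blkG M₁ M₂ = blkG M₁' M₂') : M₁ = M₁' ∧ M₂ = M₂' := by
  unfold blkG at h
  have h2 := (Matrix.reindexAlgEquiv F F (finSumFinEquiv : Fin a ⊕ Fin b ≃ Fin (a + b))).injective h
  rw [Matrix.fromBlocks_inj] at h2
  exact ⟨h2.1, h2.2.2.2⟩

/-- the block embedding of `SL_a × SL_b` into `SL_{a+b}` -/
noncomputable def blkSL : Matrix.SpecialLinearGroup (Fin a) F × Matrix.SpecialLinearGroup (Fin b) F →*
    Matrix.SpecialLinearGroup (Fin (a + b)) F where
  toFun x := ⟨blkG (x.1 : Matrix (Fin a) (Fin a) F) (x.2 : Matrix (Fin b) (Fin b) F), by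
    rw [blkG_det, x.1.2, x.2.2, one_mul]⟩
  map_one' := by
    apply Subtype.ext
    simp only [Prod.fst_one, Prod.snd_one, Matrix.SpecialLinearGroup.coe_one]
    exact blkG_one
  map_mul' x y := by
    apply Subtype.ext
    simp only [Prod.fst_mul, Prod.snd_mul, Matrix.SpecialLinearGroup.coe_mul]
    exact (blkG_mul _ _ _ _).symm

theorem blkSL_injective : Function.Injective (blkSL (F := F) (a := a) (b := b)) := by
  intro x y h
  have h1 : blkG (x.1 : Matrix (Fin a) (Fin a) F) (x.2 : Matrix (Fin b) (Fin b) F) =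
      blkG (y.1 : Matrix (Fin a) (Fin a) F) (y.2 : Matrix (Fin b) (Fin b) F) :=
    congrArg Subtype.val h
  obtain ⟨h2, h3⟩ := blkG_inj _ _ _ _ h1
  exact Prod.ext (Subtype.ext h2) (Subtype.ext h3)

/-- an element order of `SL_a` is an element order of `SL_{a+t}` -/
theorem exists_orderOf_add (t : ℕ) (N : ℕ) (x : Matrix.SpecialLinearGroup (Fin a) F)
    (hx : orderOf x = N) : ∃ y : Matrix.SpecialLinearGroup (Fin (a + t)) F, orderOf y = N := by
  refine ⟨blkSL (x, (1 : Matrix.SpecialLinearGroup (Fin t) F)), ?_⟩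
  rw [orderOf_injective blkSL blkSL_injective, Prod.orderOf_mk, hx, orderOf_one, Nat.lcm_one_right]

/-- elements of coprime orders in `SL_a` and `SL_b` give an element of the product order -/
theorem exists_orderOf_mul (r s : ℕ) (hrs : Nat.Coprime r s)
    (x : Matrix.SpecialLinearGroup (Fin a) F) (hx : orderOf x = r)
    (y : Matrix.SpecialLinearGroup (Fin b) F) (hy : orderOf y = s) :
    ∃ z : Matrix.SpecialLinearGroup (Fin (a + b)) F, orderOf z = r * s := by
  refine ⟨blkSL (x, y), ?_⟩
  rw [orderOf_injective blkSL blkSL_injective, Prod.orderOf_mk, hx, hy]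
  exact hrs.lcm_eq_mul

end blocks

section singer

variable {F : Type*} [Field F] [Fintype F]

/-- elements of a Singer cycle inside `SL_l`, for a given extension field -/
theorem exists_singer_aux (K : Type*) [Field K] [Algebra F K] [Finite K] (l : ℕ) (hl : 0 < l)
    (hfr : Module.finrank F K = l) (hcardK : Nat.card K = Fintype.card F ^ l)
    (N : ℕ) (hN : N ∣ Fintype.card F ^ l - 1)
    (hcop : Nat.Coprime N (Fintype.card F - 1)) :
    ∃ x : Matrix.SpecialLinearGroup (Fin l) F, orderOf x = N := by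
  classical
  have : Fintype K := Fintype.ofFinite K
  have hcardU : Nat.card Kˣ = Fintype.card F ^ l - 1 := by
    rw [Nat.card_eq_fintype_card, Fintype.card_units, ← Nat.card_eq_fintype_card, hcardK]
  obtain ⟨γ, hγ⟩ := IsCyclic.exists_generator (α := Kˣ)
  have hoγ : orderOf γ = Fintype.card F ^ l - 1 := by
    rw [← hcardU]
    exact orderOf_eq_card_of_forall_mem_zpowers hγ
  have hq : 2 ≤ Fintype.card F := Fintype.one_lt_card
  have hne : Fintype.card F ^ l - 1 ≠ 0 := by
    have : 2 ^ l ≤ Fintype.card F ^ l := Nat.pow_le_pow_left hq l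
    have : 2 ≤ 2 ^ l := by
      calc 2 = 2 ^ 1 := by norm_num
        _ ≤ 2 ^ l := Nat.pow_le_pow_right (by norm_num) hl
    omega
  have hξ : orderOf (γ ^ (orderOf γ / N)) = N :=
    orderOf_pow_orderOf_div (by rw [hoγ]; exact hne) (by rw [hoγ]; exact hN)
  set ξ : Kˣ := γ ^ (orderOf γ / N) with hξdef
  let b : Module.Basis (Fin l) F K := Module.finBasisOfFinrankEq F K hfr
  let φ : K →* Matrix (Fin l) (Fin l) F := (Algebra.leftMulMatrix b : K →ₐ[F] Matrix (Fin l) (Fin l) F)
  have hφinj : Function.Injective φ := Algebra.leftMulMatrix_injective b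
  have hoM : orderOf (φ (ξ : K)) = N := by
    rw [orderOf_injective φ hφinj, orderOf_units, hξ]
  have hMN : (φ (ξ : K)) ^ N = 1 := by rw [← hoM]; exact pow_orderOf_eq_one _
  -- the determinant is one
  have hdetN : (φ (ξ : K)).det ^ N = 1 := by rw [← Matrix.det_pow, hMN, Matrix.det_one]
  have hNpos : 0 < N := by
    rcases Nat.eq_zero_or_pos N with h0 | h
    · rw [h0] at hN
      exact absurd (Nat.eq_zero_of_zero_dvd hN) hne
    · exact h
  have hdet0 : (φ (ξ : K)).det ≠ 0 := by
    intro h0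
    rw [h0, zero_pow hNpos.ne'] at hdetN
    exact zero_ne_one hdetN
  have hdetq : (φ (ξ : K)).det ^ (Fintype.card F - 1) = 1 :=
    FiniteField.pow_card_sub_one_eq_one _ hdet0
  have hdet : (φ (ξ : K)).det = 1 := by
    have := pow_gcd_eq_one.mpr ⟨hdetN, hdetq⟩
    rw [hcop.gcd_eq_one, pow_one] at this
    exact this
  let x : Matrix.SpecialLinearGroup (Fin l) F := ⟨φ (ξ : K), hdet⟩
  refine ⟨x, ?_⟩
  rw [← hoM]
  apply orderOf_eq_orderOf_iff.mpr
  intro n
  constructor
  · intro h
    have := congrArg Subtype.val h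
    rw [Matrix.SpecialLinearGroup.coe_pow, Matrix.SpecialLinearGroup.coe_one] at this
    exact this
  · intro h
    apply Subtype.ext
    rw [Matrix.SpecialLinearGroup.coe_pow, Matrix.SpecialLinearGroup.coe_one]
    exact h

/-- elements of a Singer cycle inside `SL_l` -/
theorem exists_singer (p : ℕ) [Fact p.Prime] [CharP F p] (l : ℕ) (hl : 0 < l) (N : ℕ)
    (hN : N ∣ Fintype.card F ^ l - 1) (hcop : Nat.Coprime N (Fintype.card F - 1)) :
    ∃ x : Matrix.SpecialLinearGroup (Fin l) F, orderOf x = N := by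
  have : NeZero l := ⟨hl.ne'⟩
  exact exists_singer_aux (FiniteField.Extension F p l) l hl (FiniteField.finrank_extension F p l)
    (by rw [FiniteField.natCard_extension, Nat.card_eq_fintype_card]) N hN hcop

end singer

section assembly

variable {F : Type*} [Field F] [Fintype F] (p : ℕ) [Fact p.Prime] [CharP F p] {n : ℕ}

omit [Fact p.Prime] [CharP F p] in
/-- the order of the image in `PSL_n` of an element of order prime to `q - 1` -/
theorem orderOf_mk_eq (hn : 0 < n) (g : Matrix.SpecialLinearGroup (Fin n) F) (N : ℕ)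
    (hN : orderOf g = N) (hcop : Nat.Coprime N (Fintype.card F - 1)) :
    orderOf (QuotientGroup.mk g : Matrix.ProjectiveSpecialLinearGroup (Fin n) F) = N := by
  apply Nat.dvd_antisymm
  · apply orderOf_dvd_of_pow_eq_one
    rw [← QuotientGroup.mk_pow, ← hN, pow_orderOf_eq_one, QuotientGroup.mk_one]
  · set d := orderOf (QuotientGroup.mk g : Matrix.ProjectiveSpecialLinearGroup (Fin n) F) with hd
    have h1 : g ^ d ∈ Subgroup.center (Matrix.SpecialLinearGroup (Fin n) F) := by
      rw [← QuotientGroup.eq_one_iff, QuotientGroup.mk_pow, hd]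
      exact pow_orderOf_eq_one _
    obtain ⟨c, hcn, hc⟩ := Matrix.SpecialLinearGroup.mem_center_iff.mp h1
    have hc0 : c ≠ 0 := by
      intro h0
      rw [h0, Fintype.card_fin, zero_pow hn.ne'] at hcn
      exact zero_ne_one hcn
    have h2 : g ^ (d * (Fintype.card F - 1)) = 1 := by
      apply Subtype.ext
      rw [pow_mul, Matrix.SpecialLinearGroup.coe_pow, ← hc, ← map_pow,
        FiniteField.pow_card_sub_one_eq_one c hc0, map_one, Matrix.SpecialLinearGroup.coe_one]
    have h3 : N ∣ d * (Fintype.card F - 1) := by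
      rw [← hN]; exact orderOf_dvd_of_pow_eq_one h2
    exact hcop.dvd_of_dvd_mul_right h3

/-- a prime dividing the order of `PSL_n(q)` other than the characteristic divides some `q^j - 1` -/
theorem exists_dvd_pow_sub_one (s : ℕ) (hs : s.Prime) (hsp : s ≠ p)
    (hsG : s ∣ Nat.card (Matrix.ProjectiveSpecialLinearGroup (Fin n) F)) :
    ∃ j, 1 ≤ j ∧ j ≤ n ∧ s ∣ Fintype.card F ^ j - 1 := by
  have hpp : p.Prime := Fact.out
  have h1 : s ∣ Nat.card (Matrix.SpecialLinearGroup (Fin n) F) := by
    rw [Subgroup.card_eq_card_quotient_mul_card_subgroup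
      (Subgroup.center (Matrix.SpecialLinearGroup (Fin n) F))]
    exact dvd_trans hsG (dvd_mul_right _ _)
  rcases Nat.eq_zero_or_pos n with rfl | hn
  · exfalso
    have : Nat.card (Matrix.SpecialLinearGroup (Fin 0) F) = 1 := Nat.card_unique
    rw [this] at h1
    exact hs.one_lt.ne' (Nat.dvd_one.mp h1)
  have : Nonempty (Fin n) := ⟨⟨0, hn⟩⟩
  have h2 : s ∣ Nat.card (GL (Fin n) F) := by
    rw [← Cfsg.Agent.Lib.Helper45.card_SL_mul]
    exact dvd_trans h1 (dvd_mul_right _ _)
  rw [Matrix.card_GL_field] at h2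
  obtain ⟨i, _, hi⟩ := (Prime.dvd_finsetProd_iff (Nat.prime_iff.mp hs) _).mp h2
  have e : Fintype.card F ^ n - Fintype.card F ^ (i : ℕ) =
      Fintype.card F ^ (i : ℕ) * (Fintype.card F ^ (n - i) - 1) := by
    have : Fintype.card F ^ n = Fintype.card F ^ (i : ℕ) * Fintype.card F ^ (n - i) := by
      rw [← pow_add]; congr 1; have := i.2; omega
    rw [this, Nat.mul_sub, mul_one]
  rw [e] at hi
  have hsq : ¬ s ∣ Fintype.card F ^ (i : ℕ) := by
    intro h
    obtain ⟨k, _, hk⟩ := FiniteField.card F p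
    rw [hk] at h
    have h' := hs.dvd_of_dvd_pow (hs.dvd_of_dvd_pow h)
    exact hsp ((Nat.prime_dvd_prime_iff_eq hs hpp).mp h')
  refine ⟨n - i, by have := i.2; omega, by omega, ?_⟩
  exact (hs.dvd_mul.mp hi).resolve_left hsq

end assembly

/-- Adjacency of two odd primes in the prime graph of PSL(n,q): let F be a finite field of characteristic p with q elements, n ≥ 2 with PSL(n,F) simple, and let r ≠ s be odd primes different from p dividing the order of PSL(n,F). Let k and l be the multiplicative orders of q modulo r and modulo s, and suppose 2 ≤ k ≤ l. Then PSL(n,F) has NO element of order r·s if and only if k + l > n and k does not divide l. -/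
theorem result {F : Type*} [Field F] [Fintype F] (p : ℕ) [Fact p.Prime] [CharP F p] (n : ℕ) (hn : 2 ≤ n) (hsmall : n = 2 → 4 ≤ Fintype.card F)
    (r s : ℕ) (hr : r.Prime) (hs : s.Prime) (hr2 : r ≠ 2) (hs2 : s ≠ 2) (hrp : r ≠ p) (hsp : s ≠ p) (hrs : r ≠ s)
    (hrG : r ∣ Nat.card (Matrix.ProjectiveSpecialLinearGroup (Fin n) F)) (hsG : s ∣ Nat.card (Matrix.ProjectiveSpecialLinearGroup (Fin n) F))
    (k l : ℕ) (hk : k = orderOf ((Fintype.card F : ℕ) : ZMod r)) (hl : l = orderOf ((Fintype.card F : ℕ) : ZMod s))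
    (h2k : 2 ≤ k) (hkl : k ≤ l) :
    (r * s ∉ Set.range (orderOf : Matrix.ProjectiveSpecialLinearGroup (Fin n) F → ℕ)) ↔ (n < k + l ∧ ¬ k ∣ l) := by
  have hpp : p.Prime := Fact.out
  have : Fact r.Prime := ⟨hr⟩
  have : Fact s.Prime := ⟨hs⟩
  have hcopr : Nat.Coprime (Nat.card F) r := by
    obtain ⟨t, _, ht⟩ := FiniteField.card F p
    rw [Nat.card_eq_fintype_card, ht]
    exact Nat.Coprime.pow_left _ ((Nat.coprime_primes hpp hr).mpr (Ne.symm hrp))
  have hcops : Nat.Coprime (Nat.card F) s := by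
    obtain ⟨t, _, ht⟩ := FiniteField.card F p
    rw [Nat.card_eq_fintype_card, ht]
    exact Nat.Coprime.pow_left _ ((Nat.coprime_primes hpp hs).mpr (Ne.symm hsp))
  constructor
  · intro hL
    by_contra hR
    apply hL
    -- numerical facts
    have hq2 : 2 ≤ Fintype.card F := Fintype.one_lt_card
    have dvd_of_order : ∀ (t : ℕ), t.Prime →
        t ∣ Fintype.card F ^ orderOf ((Fintype.card F : ℕ) : ZMod t) - 1 := by
      intro t _
      have h1 := pow_orderOf_eq_one ((Fintype.card F : ℕ) : ZMod t)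
      have h2 : ((Fintype.card F ^ orderOf ((Fintype.card F : ℕ) : ZMod t) : ℕ) : ZMod t) =
          ((1 : ℕ) : ZMod t) := by
        rw [Nat.cast_pow, Nat.cast_one]; exact h1
      have h3 := (ZMod.natCast_eq_natCast_iff _ _ _).mp h2
      exact (Nat.modEq_iff_dvd' (Nat.one_le_pow _ _ Fintype.card_pos)).mp h3.symm
    have hrk : r ∣ Fintype.card F ^ k - 1 := by rw [hk]; exact dvd_of_order r hr
    have hsl : s ∣ Fintype.card F ^ l - 1 := by rw [hl]; exact dvd_of_order s hs
    have not_dvd : ∀ (t : ℕ), t.Prime → 2 ≤ orderOf ((Fintype.card F : ℕ) : ZMod t) →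
        ¬ t ∣ Fintype.card F - 1 := by
      intro t ht h2 hdvd
      have : Fact t.Prime := ⟨ht⟩
      have h1 : ((Fintype.card F : ℕ) : ZMod t) = 1 := by
        have := (Nat.modEq_iff_dvd' (by omega : 1 ≤ Fintype.card F)).mpr hdvd
        have h3 := (ZMod.natCast_eq_natCast_iff _ _ _).mpr this
        rw [Nat.cast_one] at h3
        exact h3.symm
      rw [h1, orderOf_one] at h2
      omega
    have hrq : ¬ r ∣ Fintype.card F - 1 := not_dvd r hr (by rw [← hk]; exact h2k)
    have hsq : ¬ s ∣ Fintype.card F - 1 := not_dvd s hs (by rw [← hl]; omega)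
    have hcoprs : Nat.Coprime r s := (Nat.coprime_primes hr hs).mpr hrs
    have hcop : Nat.Coprime (r * s) (Fintype.card F - 1) :=
      Nat.Coprime.mul_left ((Nat.Prime.coprime_iff_not_dvd hr).mpr hrq)
        ((Nat.Prime.coprime_iff_not_dvd hs).mpr hsq)
    -- it suffices to find an element of order `r * s` in `SL_n`
    suffices hex : ∃ g : Matrix.SpecialLinearGroup (Fin n) F, orderOf g = r * s by
      obtain ⟨g, hg⟩ := hex
      exact ⟨QuotientGroup.mk g, orderOf_mk_eq (by omega) g (r * s) hg hcop⟩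
    by_cases hsum : k + l ≤ n
    · obtain ⟨t, rfl⟩ := Nat.exists_eq_add_of_le hsum
      have hdr := prime_dvd_card_SL (F := F) r hr k h2k k (by omega) le_rfl hrk
      have hds := prime_dvd_card_SL (F := F) s hs l (by omega) l (by omega) le_rfl hsl
      obtain ⟨x, hx⟩ := exists_prime_orderOf_dvd_card' (G := Matrix.SpecialLinearGroup (Fin k) F) r hdr
      obtain ⟨y, hy⟩ := exists_prime_orderOf_dvd_card' (G := Matrix.SpecialLinearGroup (Fin l) F) s hds
      obtain ⟨z, hz⟩ := exists_orderOf_mul r s hcoprs x hx y hy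
      exact exists_orderOf_add t (r * s) z hz
    · have hkdvd : k ∣ l := by
        by_contra hnd
        exact hR ⟨by omega, hnd⟩
      obtain ⟨j, hj1, hjn, hj⟩ := exists_dvd_pow_sub_one p s hs hsp hsG
      have hlj : l ∣ j := by
        rw [hl]
        apply orderOf_dvd_of_pow_eq_one
        have := (Nat.modEq_iff_dvd' (Nat.one_le_pow j _ Fintype.card_pos)).mpr hj
        have h3 := (ZMod.natCast_eq_natCast_iff _ _ _).mpr this
        rw [Nat.cast_pow, Nat.cast_one] at h3
        exact h3.symm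
      have hln : l ≤ n := le_trans (Nat.le_of_dvd (by omega) hlj) hjn
      obtain ⟨t, rfl⟩ := Nat.exists_eq_add_of_le hln
      have hrl : r ∣ Fintype.card F ^ l - 1 := by
        obtain ⟨c, hc⟩ := hkdvd
        rw [hc, pow_mul]
        have := Nat.sub_dvd_pow_sub_pow (Fintype.card F ^ k) 1 c
        rw [one_pow] at this
        exact dvd_trans hrk this
      have hrsl : r * s ∣ Fintype.card F ^ l - 1 := hcoprs.mul_dvd_of_dvd_of_dvd hrl hsl
      obtain ⟨x, hx⟩ := exists_singer p l (by omega) (r * s) hrsl hcop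
      exact exists_orderOf_add t (r * s) x hx
  · rintro ⟨hnkl, hndvd⟩ ⟨g, hg⟩
    apply hndvd
    obtain ⟨G0, rfl⟩ := QuotientGroup.mk_surjective g
    have hdvd : r * s ∣ orderOf G0 := by
      rw [← hg]
      apply orderOf_dvd_of_pow_eq_one
      rw [← QuotientGroup.mk_pow, pow_orderOf_eq_one, QuotientGroup.mk_one]
    have hX0 : orderOf (G0 ^ (orderOf G0 / r)) = r :=
      orderOf_pow_orderOf_div (orderOf_pos G0).ne' (dvd_trans (dvd_mul_right r s) hdvd)
    have hY0 : orderOf (G0 ^ (orderOf G0 / s)) = s :=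
      orderOf_pow_orderOf_div (orderOf_pos G0).ne' (dvd_trans (dvd_mul_left s r) hdvd)
    set X0 := G0 ^ (orderOf G0 / r) with hX0def
    set Y0 := G0 ^ (orderOf G0 / s) with hY0def
    have hXY : X0 * Y0 = Y0 * X0 := ((Commute.refl G0).pow_pow _ _).eq
    have hX0r : X0 ^ r = 1 := by rw [← hX0]; exact pow_orderOf_eq_one _
    have hY0s : Y0 ^ s = 1 := by rw [← hY0]; exact pow_orderOf_eq_one _
    have hX01 : X0 ≠ 1 := by
      intro h; rw [h, orderOf_one] at hX0; exact hr.one_lt.ne hX0
    have hY01 : Y0 ≠ 1 := by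
      intro h; rw [h, orderOf_one] at hY0; exact hs.one_lt.ne hY0
    let e := Matrix.toLinAlgEquiv' (R := F) (n := Fin n)
    have key := two_primes_core (F := F) (V := Fin n → F) (e (X0 : Matrix (Fin n) (Fin n) F))
      (e (Y0 : Matrix (Fin n) (Fin n) F)) r s ?_ ?_ ?_ ?_ ?_ hcopr hcops ?_ ?_
    · rw [Nat.card_eq_fintype_card, ← hk, ← hl] at key
      exact key
    · rw [← map_pow, ← Matrix.SpecialLinearGroup.coe_pow, hX0r, Matrix.SpecialLinearGroup.coe_one,
        map_one]
    · intro h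
      apply hX01
      apply Subtype.ext
      rw [Matrix.SpecialLinearGroup.coe_one]
      exact e.injective (by rw [h, map_one])
    · rw [← map_pow, ← Matrix.SpecialLinearGroup.coe_pow, hY0s, Matrix.SpecialLinearGroup.coe_one,
        map_one]
    · intro h
      apply hY01
      apply Subtype.ext
      rw [Matrix.SpecialLinearGroup.coe_one]
      exact e.injective (by rw [h, map_one])
    · intro v
      have hm : (X0 : Matrix (Fin n) (Fin n) F) * (Y0 : Matrix (Fin n) (Fin n) F) =
          (Y0 : Matrix (Fin n) (Fin n) F) * (X0 : Matrix (Fin n) (Fin n) F) := by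
        rw [← Matrix.SpecialLinearGroup.coe_mul, hXY, Matrix.SpecialLinearGroup.coe_mul]
      have := congrArg (fun M => e M v) hm
      simp only [map_mul, Module.End.mul_apply] at this
      exact this
    · rw [Nat.card_eq_fintype_card, ← hk, ← hl]; exact hkl
    · rw [Nat.card_eq_fintype_card, ← hk, ← hl, Module.finrank_fin_fun]; exact hnkl

end Cfsg.Agent.S2468
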