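import Mathlib
import Cfsg.Statements.S2495
import Cfsg.Agent.Lib.Helper51.Singer3

set_option autoImplicit false
open Cfsg

namespace Cfsg.Agent.S2495


section arith

/-- the geometric sum -/
def gs (q k : ℕ) : ℕ := ∑ i ∈ Finset.range k, q ^ i

theorem gs_mul (q k : ℕ) (hq : 1 ≤ q) : gs q k * (q - 1) = q ^ k - 1 := by
  have h1 : 1 ≤ q ^ k := Nat.one_le_pow _ _ hq
  unfold gs
  zify [hq, h1]
  exact geom_sum_mul (q : ℤ) k

theorem gs_modEq (q k : ℕ) (hq : 1 ≤ q) : gs q k ≡ k [MOD (q - 1)] := by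
  have hq1 : q ≡ 1 [MOD (q - 1)] := ((Nat.modEq_iff_dvd' hq).mpr (dvd_refl _)).symm
  induction k with
  | zero => unfold gs; simp; rfl
  | succ k ih =>
    have h1 : gs q (k + 1) = gs q k + q ^ k := by
      unfold gs; rw [Finset.sum_range_succ]
    rw [h1]
    have h2 : q ^ k ≡ 1 [MOD (q - 1)] := by
      have := hq1.pow k
      rwa [one_pow] at this
    exact ih.add h2

theorem gs_dvd_iff (q k d : ℕ) (hq : 1 ≤ q) (hd : d ∣ q - 1) : d ∣ gs q k ↔ d ∣ k :=
  (gs_modEq q k hq).dvd_iff hd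

theorem gs_pos (q k : ℕ) (hk : 0 < k) : 0 < gs q k := by
  unfold gs
  obtain ⟨j, rfl⟩ := Nat.exists_eq_succ_of_ne_zero hk.ne'
  rw [Finset.sum_range_succ']
  simp

theorem gs_two_mul (q m : ℕ) (hq : 2 ≤ q) : gs q (2 * m) = (q ^ m + 1) * gs q m := by
  have h1 := gs_mul q (2 * m) (by omega)
  have h2 := gs_mul q m (by omega)
  have h3 : q ^ (2 * m) - 1 = (q ^ m + 1) * (q ^ m - 1) := by
    have : 1 ≤ q ^ m := Nat.one_le_pow _ _ (by omega)
    rw [mul_comm 2 m, pow_mul]
    zify [this, Nat.one_le_pow 2 (q ^ m) (by omega)]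
    ring
  have h4 : gs q (2 * m) * (q - 1) = ((q ^ m + 1) * gs q m) * (q - 1) := by
    rw [h1, h3, mul_assoc, h2]
  exact Nat.eq_of_mul_eq_mul_right (by omega) h4

end arith

section field

variable {F K : Type*} [Field F] [Fintype F] [Field K] [Algebra F K]

open Polynomial in
/-- elements fixed by the `q`-power map lie in the subfield -/
theorem mem_range_of_pow_card (x : K) (hx : x ^ Fintype.card F = x) :
    ∃ c : F, algebraMap F K c = x := by
  classical
  have hq : 1 < Fintype.card F := Fintype.one_lt_card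
  set P : K[X] := X ^ Fintype.card F - X with hP
  have hP0 : P ≠ 0 := FiniteField.X_pow_card_sub_X_ne_zero K hq
  have hdeg : P.natDegree = Fintype.card F := FiniteField.X_pow_card_sub_X_natDegree_eq K hq
  set T : Finset K := P.roots.toFinset with hT
  set S : Finset K := Finset.univ.image (algebraMap F K) with hS
  have hcS : S.card = Fintype.card F := by
    rw [hS, Finset.card_image_of_injective _ (algebraMap F K).injective, Finset.card_univ]
  have hcT : T.card ≤ Fintype.card F := by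
    calc T.card ≤ Multiset.card P.roots := Multiset.toFinset_card_le _
      _ ≤ P.natDegree := Polynomial.card_roots' P
      _ = Fintype.card F := hdeg
  have hroot : ∀ y : K, y ∈ T ↔ y ^ Fintype.card F = y := by
    intro y
    rw [hT, Multiset.mem_toFinset, Polynomial.mem_roots hP0, hP, Polynomial.IsRoot.def,
      Polynomial.eval_sub, Polynomial.eval_pow, Polynomial.eval_X, sub_eq_zero]
  have hST : S ⊆ T := by
    intro y hy
    rw [hS, Finset.mem_image] at hy
    obtain ⟨c, _, rfl⟩ := hy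
    rw [hroot, ← map_pow, FiniteField.pow_card]
  have heq : S = T := Finset.eq_of_subset_of_card_le hST (by rw [hcS]; exact hcT)
  have hxT : x ∈ T := (hroot x).mpr hx
  rw [← heq, hS, Finset.mem_image] at hxT
  obtain ⟨c, _, hc⟩ := hxT
  exact ⟨c, hc⟩

theorem pow_card_of_mem_range (c : F) : (algebraMap F K c) ^ Fintype.card F = algebraMap F K c := by
  rw [← map_pow, FiniteField.pow_card]

end field



section field2

variable {F K : Type*} [Field F] [Fintype F] [Field K] [Algebra F K]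

theorem neg_one_ne_one_of_odd (hodd : Odd (Fintype.card F)) : (-1 : K) ≠ 1 := by
  intro h
  have h2 : (2 : K) = 0 := by
    have : (1 : K) + 1 = 0 := by
      nth_rewrite 1 [← h]; ring
    rw [← this]; norm_num
  have h2F : (2 : F) = 0 := by
    apply (algebraMap F K).injective
    rw [map_ofNat, map_zero]
    exact h2
  have hc : ringChar F ∣ 2 := by
    apply ringChar.dvd
    exact_mod_cast h2F
  have hp : (ringChar F).Prime := CharP.char_is_prime F (ringChar F)
  have h3 : ringChar F = 2 := (Nat.prime_dvd_prime_iff_eq hp Nat.prime_two).mp hc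
  have := FiniteField.even_card_of_char_two h3
  rcases hodd with ⟨a, ha⟩
  omega

theorem forward (hodd : Odd (Fintype.card F)) (m : ℕ) (k : K) (hk0 : k ≠ 0)
    (hN : k ^ gs (Fintype.card F) (2 * m) = 1)
    (hE : ∃ c : F, algebraMap F K c = k ^ (Fintype.card F ^ m + 1))
    (hhalf : ¬ ∃ c : F, algebraMap F K c = k ^ ((Fintype.card F ^ m + 1) / 2)) :
    2 ^ padicValNat 2 (Fintype.card F - 1) ∣ m := by
  set q := Fintype.card F with hq
  have hq2 : 2 ≤ q := Fintype.one_lt_card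
  have hqm_odd : Odd (q ^ m) := hodd.pow
  obtain ⟨e, he⟩ : ∃ e, q ^ m + 1 = 2 * e := by
    rcases hqm_odd with ⟨a, ha⟩
    exact ⟨a + 1, by omega⟩
  have hhalf_eq : (q ^ m + 1) / 2 = e := by omega
  rw [hhalf_eq] at hhalf
  set h := k ^ e with hh
  have hh0 : h ≠ 0 := pow_ne_zero _ hk0
  obtain ⟨c, hc⟩ := hE
  have hsq : h ^ 2 = algebraMap F K c := by
    rw [hc, hh, ← pow_mul, he, mul_comm]
  have h1 : (h ^ q) ^ 2 = h ^ 2 := by
    rw [← pow_mul, mul_comm, pow_mul, hsq]
    exact pow_card_of_mem_range c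
  have h2 : (h ^ q - h) * (h ^ q + h) = 0 := by
    have : (h ^ q - h) * (h ^ q + h) = (h ^ q) ^ 2 - h ^ 2 := by ring
    rw [this, h1, sub_self]
  have h3 : h ^ q = - h := by
    rcases mul_eq_zero.mp h2 with h4 | h4
    · exfalso
      apply hhalf
      exact mem_range_of_pow_card h (sub_eq_zero.mp h4)
    · exact eq_neg_of_add_eq_zero_left h4
  have h4 : h ^ (q - 1) = -1 := by
    have h5 : h ^ (q - 1) * h = (-1) * h := by
      rw [← pow_succ, Nat.sub_add_cancel (by omega), h3]; ring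
    exact mul_right_cancel₀ hh0 h5
  by_contra hnd
  -- `2 ^ s` does not divide `gs q m`
  have hs_dvd : 2 ^ padicValNat 2 (q - 1) ∣ q - 1 := pow_padicValNat_dvd
  have hnd' : ¬ 2 ^ padicValNat 2 (q - 1) ∣ gs q m := by
    rw [gs_dvd_iff q m _ (by omega) hs_dvd]
    exact hnd
  set g := Nat.gcd (gs q m) (q - 1) with hg
  have hgq : g ∣ q - 1 := Nat.gcd_dvd_right _ _
  obtain ⟨t, ht⟩ := hgq
  have ht_even : 2 ∣ t := by
    by_contra hto
    apply hnd'
    have hcop : Nat.Coprime (2 ^ padicValNat 2 (q - 1)) t :=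
      Nat.Coprime.pow_left _ ((Nat.Prime.coprime_iff_not_dvd Nat.prime_two).mpr hto)
    have : 2 ^ padicValNat 2 (q - 1) ∣ g := by
      apply hcop.dvd_of_dvd_mul_right
      rw [← ht]; exact hs_dvd
    exact dvd_trans this (Nat.gcd_dvd_left _ _)
  have h2g : 2 * g ∣ q - 1 := by
    obtain ⟨t', rfl⟩ := ht_even
    rw [ht]; exact ⟨t', by ring⟩
  -- `h ^ (2 g) = 1`
  have hA : h ^ (2 * gs q m) = 1 := by
    rw [hh, ← pow_mul, ← mul_assoc, mul_comm e 2, ← he, ← gs_two_mul q m hq2]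
    exact hN
  have hB : h ^ (2 * (q - 1)) = 1 := by
    rw [mul_comm, pow_mul, h4]; norm_num
  have hC : h ^ (2 * g) = 1 := by
    have := pow_gcd_eq_one.mpr ⟨hA, hB⟩
    rwa [Nat.gcd_mul_left] at this
  have hD : h ^ (q - 1) = 1 := by
    obtain ⟨u, hu⟩ := h2g
    rw [hu, pow_mul, hC, one_pow]
  rw [h4] at hD
  exact neg_one_ne_one_of_odd (F := F) (K := K) hodd hD

theorem backward [Fintype K] (m : ℕ) (hm : 0 < m)
    (hcK : Fintype.card K = Fintype.card F ^ (2 * m))
    (h2s : 2 ^ padicValNat 2 (Fintype.card F - 1) ∣ m) :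
    ∃ k : K, k ≠ 0 ∧ k ^ gs (Fintype.card F) (2 * m) = 1 ∧
      (∃ c : F, algebraMap F K c = k ^ (Fintype.card F ^ m + 1)) ∧
      ∀ j : ℕ, (∃ c : F, algebraMap F K c = k ^ j) → (Fintype.card F ^ m + 1) ∣ j := by
  classical
  set q := Fintype.card F with hq
  have hq2 : 2 ≤ q := Fintype.one_lt_card
  have hq1 : q - 1 ≠ 0 := by omega
  obtain ⟨γ, hγ⟩ := IsCyclic.exists_generator (α := Kˣ)
  have hoγ : orderOf γ = q ^ (2 * m) - 1 := by
    rw [orderOf_eq_card_of_forall_mem_zpowers hγ, Nat.card_eq_fintype_card, Fintype.card_units, hcK]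
  -- arithmetic
  have hM : gs q (2 * m) * (q - 1) = q ^ (2 * m) - 1 := gs_mul q (2 * m) (by omega)
  have hSm : gs q m * (q - 1) = q ^ m - 1 := gs_mul q m (by omega)
  have hS2 : gs q (2 * m) = (q ^ m + 1) * gs q m := gs_two_mul q m hq2
  have hs_dvd : 2 ^ padicValNat 2 (q - 1) ∣ q - 1 := pow_padicValNat_dvd
  have hs_gs : 2 ^ padicValNat 2 (q - 1) ∣ gs q m := (gs_dvd_iff q m _ (by omega) hs_dvd).mpr h2s
  set g₀ := Nat.gcd (gs q m) (q - 1) with hg₀
  have hg₀pos : 0 < g₀ := Nat.gcd_pos_of_pos_right _ (by omega)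
  obtain ⟨t, ht⟩ : g₀ ∣ q - 1 := Nat.gcd_dvd_right _ _
  obtain ⟨a, ha⟩ : g₀ ∣ gs q m := Nat.gcd_dvd_left _ _
  have hs_g₀ : 2 ^ padicValNat 2 (q - 1) ∣ g₀ := Nat.dvd_gcd hs_gs hs_dvd
  have ht_odd : ¬ 2 ∣ t := by
    intro h2
    obtain ⟨t', rfl⟩ := h2
    have : 2 ^ (padicValNat 2 (q - 1) + 1) ∣ g₀ * (2 * t') := by
      rw [pow_succ]
      obtain ⟨w, hw⟩ := hs_g₀
      exact ⟨w * t', by rw [hw]; ring⟩
    rw [← ht] at this
    exact pow_succ_padicValNat_not_dvd hq1 this
  have hqm1 : 1 ≤ q ^ m := Nat.one_le_pow _ _ (by omega)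
  have hcop : Nat.Coprime (q ^ m + 1) t := by
    set d := Nat.gcd (q ^ m + 1) t with hd
    have hd1 : d ∣ q ^ m + 1 := Nat.gcd_dvd_left _ _
    have hd2 : d ∣ t := Nat.gcd_dvd_right _ _
    have hd3 : d ∣ q ^ m - 1 := by
      rw [← hSm, ht]
      exact dvd_trans hd2 ⟨gs q m * g₀, by ring⟩
    have hd4 : d ∣ 2 := by
      have : (q ^ m + 1) - (q ^ m - 1) = 2 := by omega
      rw [← this]
      exact Nat.dvd_sub hd1 hd3
    have hd5 : d = 1 ∨ d = 2 := by
      have := Nat.le_of_dvd (by norm_num) hd4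
      have hdpos : 0 < d := Nat.pos_of_dvd_of_pos hd4 (by norm_num)
      interval_cases d
      · left; rfl
      · right; rfl
    rcases hd5 with h | h
    · exact h
    · exfalso; apply ht_odd; rw [← h]; exact hd2
  -- the element
  refine ⟨((γ ^ (t * gs q m) : Kˣ) : K), Units.ne_zero _, ?_, ?_, ?_⟩
  · rw [← Units.val_pow_eq_pow_val, ← pow_mul]
    have : t * gs q m * gs q (2 * m) = (q ^ (2 * m) - 1) * a := by
      rw [← hM, ht, ha]; ring
    rw [this, ← hoγ, pow_mul, pow_orderOf_eq_one, one_pow, Units.val_one]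
  · apply mem_range_of_pow_card
    have h1 : (((γ ^ (t * gs q m) : Kˣ) : K) ^ (q ^ m + 1)) ^ (q - 1) = 1 := by
      rw [← Units.val_pow_eq_pow_val, ← Units.val_pow_eq_pow_val, ← pow_mul, ← pow_mul]
      have : t * gs q m * ((q ^ m + 1) * (q - 1)) = (q ^ (2 * m) - 1) * t := by
        rw [← hM, hS2]; ring
      rw [this, ← hoγ, pow_mul, pow_orderOf_eq_one, one_pow, Units.val_one]
    have h3 : ∀ x : K, x ^ (q - 1) = 1 → x ^ q = x := by
      intro x hx
      calc x ^ q = x ^ (q - 1 + 1) := by rw [Nat.sub_add_cancel (by omega)]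
        _ = x := by rw [pow_succ, hx, one_mul]
    exact h3 _ h1
  · rintro j ⟨c, hc⟩
    have hc0 : c ≠ 0 := by
      intro h0
      rw [h0, map_zero] at hc
      exact (pow_ne_zero j (Units.ne_zero _)) hc.symm
    have h1 : (((γ ^ (t * gs q m) : Kˣ) : K) ^ j) ^ (q - 1) = 1 := by
      rw [← hc, ← map_pow, FiniteField.pow_card_sub_one_eq_one c hc0, map_one]
    rw [← Units.val_pow_eq_pow_val, ← Units.val_pow_eq_pow_val, ← pow_mul, ← pow_mul,
      Units.val_eq_one] at h1
    have h2 : q ^ (2 * m) - 1 ∣ t * gs q m * (j * (q - 1)) := by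
      rw [← hoγ]; exact orderOf_dvd_of_pow_eq_one h1
    have h3 : q ^ (2 * m) - 1 = (q ^ m - 1) * (q ^ m + 1) := by
      rw [← hM, hS2, ← hSm]; ring
    have h4 : t * gs q m * (j * (q - 1)) = (q ^ m - 1) * (t * j) := by
      rw [← hSm]; ring
    rw [h3, h4] at h2
    have hpos : 0 < q ^ m - 1 := by
      have : 2 ^ m ≤ q ^ m := Nat.pow_le_pow_left hq2 m
      have : 2 ≤ 2 ^ m := by
        calc 2 = 2 ^ 1 := by norm_num
          _ ≤ 2 ^ m := Nat.pow_le_pow_right (by norm_num) hm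
      omega
    have h5 : q ^ m + 1 ∣ t * j := Nat.dvd_of_mul_dvd_mul_left hpos h2
    exact hcop.dvd_of_dvd_mul_left h5

end field2


section dict

open scoped Matrix

variable {F K : Type*} [Field F] [Fintype F] [Field K] [Fintype K] [Algebra F K] {n : ℕ}

/-- an embedding of an extension field of degree `n` into the `n × n` matrices turns the
determinant into the norm -/
theorem det_eq_norm (φ : K →ₐ[F] Matrix (Fin n) (Fin n) F) (hfr : Module.finrank F K = n)
    (hn : 0 < n) (k : K) : (φ k).det = Algebra.norm F k := by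
  classical
  set v₀ : Fin n → F := Pi.single ⟨0, hn⟩ 1 with hv₀
  have hv₀0 : v₀ ≠ 0 := by
    intro h
    have := congrFun h ⟨0, hn⟩
    rw [hv₀, Pi.single_eq_same, Pi.zero_apply] at this
    exact one_ne_zero this
  let θ₀ : K →ₗ[F] (Fin n → F) :=
    { toFun := fun k' => (φ k') *ᵥ v₀
      map_add' := by intro a b; rw [map_add, Matrix.add_mulVec]
      map_smul' := by intro c a; rw [map_smul, Matrix.smul_mulVec]; rfl }
  have hθ₀ : ∀ k', θ₀ k' = (φ k') *ᵥ v₀ := fun _ => rfl
  have hinj : Function.Injective θ₀ := by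
    rw [← LinearMap.ker_eq_bot, LinearMap.ker_eq_bot']
    intro k' hk'
    by_contra hne
    apply hv₀0
    have h1 : φ (k'⁻¹) * φ k' = 1 := by rw [← map_mul, inv_mul_cancel₀ hne, map_one]
    have h2 : (φ (k'⁻¹)) *ᵥ ((φ k') *ᵥ v₀) = v₀ := by
      rw [Matrix.mulVec_mulVec, h1, Matrix.one_mulVec]
    rw [← h2, ← hθ₀, hk', Matrix.mulVec_zero]
  have hfin : Module.finrank F K = Module.finrank F (Fin n → F) := by
    rw [hfr, Module.finrank_fin_fun]
  let θ : K ≃ₗ[F] (Fin n → F) := LinearMap.linearEquivOfInjective θ₀ hinj hfin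
  have hθ : ∀ k', θ k' = (φ k') *ᵥ v₀ := fun _ => rfl
  have hconj : Matrix.toLin' (φ k) =
      (θ : K →ₗ[F] (Fin n → F)) ∘ₗ (Algebra.lmul F K k) ∘ₗ (θ.symm : (Fin n → F) →ₗ[F] K) := by
    apply LinearMap.ext
    intro v
    obtain ⟨x, rfl⟩ := θ.surjective v
    simp only [LinearMap.coe_comp, LinearEquiv.coe_coe, Function.comp_apply,
      LinearEquiv.symm_apply_apply, Matrix.toLin'_apply]
    rw [hθ, hθ, Matrix.mulVec_mulVec, ← map_mul]
    rfl
  rw [← LinearMap.det_toLin', hconj, LinearMap.det_conj, Algebra.norm_apply]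

/-- the norm formula in matrix form -/
theorem algebraMap_det (φ : K →ₐ[F] Matrix (Fin n) (Fin n) F) (hfr : Module.finrank F K = n)
    (hn : 0 < n) (k : K) : algebraMap F K (φ k).det = k ^ gs (Fintype.card F) n := by
  rw [det_eq_norm φ hfr hn k, FiniteField.algebraMap_norm_eq_pow]
  congr 1
  have hq2 : 2 ≤ Fintype.card F := Fintype.one_lt_card
  have hcK : Nat.card K = Fintype.card F ^ n := by
    rw [Module.natCard_eq_pow_finrank (K := F) (V := K), hfr, Nat.card_eq_fintype_card]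
  rw [hcK, Nat.card_eq_fintype_card]
  exact Nat.div_eq_of_eq_mul_left (by omega) (gs_mul _ n (by omega)).symm

theorem scalar_eq_algebraMap (c : F) :
    Matrix.scalar (Fin n) c = algebraMap F (Matrix (Fin n) (Fin n) F) c := rfl

/-- the dictionary between powers in `PSL_n` and the subfield -/
theorem mk_pow_eq_one_iff (φ : K →ₐ[F] Matrix (Fin n) (Fin n) F) (hn : 0 < n)
    (g : Matrix.SpecialLinearGroup (Fin n) F) (k : K)
    (hgk : (g : Matrix (Fin n) (Fin n) F) = φ k) (j : ℕ) :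
    (QuotientGroup.mk g : Matrix.ProjectiveSpecialLinearGroup (Fin n) F) ^ j = 1 ↔
      ∃ c : F, algebraMap F K c = k ^ j := by
  have : Nonempty (Fin n) := ⟨⟨0, hn⟩⟩
  have hφinj : Function.Injective φ := φ.toRingHom.injective
  have hpow : ((g ^ j : Matrix.SpecialLinearGroup (Fin n) F) : Matrix (Fin n) (Fin n) F) =
      φ (k ^ j) := by
    rw [Matrix.SpecialLinearGroup.coe_pow, hgk, map_pow]
  rw [← QuotientGroup.mk_pow, QuotientGroup.eq_one_iff, Matrix.SpecialLinearGroup.mem_center_iff]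
  constructor
  · rintro ⟨c, _, hc⟩
    refine ⟨c, ?_⟩
    apply hφinj
    rw [φ.commutes, ← scalar_eq_algebraMap, hc, hpow]
  · rintro ⟨c, hc⟩
    have hsc : Matrix.scalar (Fin n) c =
        ((g ^ j : Matrix.SpecialLinearGroup (Fin n) F) : Matrix (Fin n) (Fin n) F) := by
      rw [hpow, ← hc, φ.commutes, scalar_eq_algebraMap]
    refine ⟨c, ?_, hsc⟩
    have hdet := congrArg Matrix.det hsc
    rw [(g ^ j).2] at hdet
    rw [← hdet]
    simp [Matrix.scalar_apply, Matrix.det_diagonal]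

end dict

section assembly

open Cfsg.Agent.Lib.Helper51

variable {F : Type*} [Field F] [Fintype F]

/-- existence of the element of order `q ^ m + 1` -/
theorem exists_elt (n m : ℕ) (hnm : n = 2 * m) (hm : 2 ≤ m)
    (h2s : 2 ^ padicValNat 2 (Fintype.card F - 1) ∣ m) :
    ∃ g : Matrix.ProjectiveSpecialLinearGroup (Fin n) F, orderOf g = Fintype.card F ^ m + 1 := by
  classical
  subst hnm
  obtain ⟨p, hp⟩ := CharP.exists F
  have := hp
  have : Fact p.Prime := ⟨CharP.char_is_prime F p⟩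
  have hn : 0 < 2 * m := by omega
  have : NeZero (2 * m) := ⟨hn.ne'⟩
  let K := FiniteField.Extension F p (2 * m)
  haveI : Fintype K := Fintype.ofFinite K
  have hfr : Module.finrank F K = 2 * m := FiniteField.finrank_extension F p (2 * m)
  have hcK : Fintype.card K = Fintype.card F ^ (2 * m) := by
    rw [← Nat.card_eq_fintype_card, FiniteField.natCard_extension, Nat.card_eq_fintype_card]
  obtain ⟨k, hk0, hkN, hkE, hkmin⟩ := backward (F := F) (K := K) m (by omega) hcK h2s
  let b : Module.Basis (Fin (2 * m)) F K := Module.finBasisOfFinrankEq F K hfr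
  let φ : K →ₐ[F] Matrix (Fin (2 * m)) (Fin (2 * m)) F := Algebra.leftMulMatrix b
  have hdet : (φ k).det = 1 := by
    apply (algebraMap F K).injective
    rw [algebraMap_det φ hfr hn k, hkN, map_one]
  let g : Matrix.SpecialLinearGroup (Fin (2 * m)) F := ⟨φ k, hdet⟩
  have hgk : (g : Matrix (Fin (2 * m)) (Fin (2 * m)) F) = φ k := rfl
  refine ⟨QuotientGroup.mk g, ?_⟩
  apply Nat.dvd_antisymm
  · apply orderOf_dvd_of_pow_eq_one
    exact (mk_pow_eq_one_iff φ hn g k hgk _).mpr hkE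
  · apply hkmin
    exact (mk_pow_eq_one_iff φ hn g k hgk _).mp (pow_orderOf_eq_one _)

/-- necessity of the condition -/
theorem dvd_of_exists (hodd : Odd (Fintype.card F)) (n m : ℕ) (hnm : n = 2 * m) (hm : 2 ≤ m)
    (g : Matrix.ProjectiveSpecialLinearGroup (Fin n) F)
    (hg : orderOf g = Fintype.card F ^ m + 1) :
    2 ^ padicValNat 2 (Fintype.card F - 1) ∣ m := by
  classical
  subst hnm
  set q := Fintype.card F with hq
  have hq2 : 2 ≤ q := Fintype.one_lt_card
  obtain ⟨p, hp⟩ := CharP.exists F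
  have := hp
  have : Fact p.Prime := ⟨CharP.char_is_prime F p⟩
  have hn : 0 < 2 * m := by omega
  have : NeZero (2 * m) := ⟨hn.ne'⟩
  obtain ⟨ĝ, rfl⟩ := QuotientGroup.mk_surjective g
  -- the primitive prime divisor
  have hex1 : ¬ (2 * m = 6 ∧ Fintype.card F = 2) := by
    rintro ⟨_, h2⟩
    rw [← hq] at h2
    rcases hodd with ⟨a, ha⟩
    omega
  have hex2 : ¬ (2 * m = 2 ∧ (Fintype.card F).Prime ∧ ∃ a : ℕ, Fintype.card F + 1 = 2 ^ a) := by
    rintro ⟨h, _⟩
    omega
  obtain ⟨r, hr, hrd, hord⟩ := exists_ppd_field (F := F) (2 * m) (by omega) hex1 hex2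
  rw [← hq] at hrd hord
  have : Fact r.Prime := ⟨hr⟩
  have hcast : ∀ j : ℕ, ((q : ZMod r)) ^ j = 1 ↔ r ∣ q ^ j - 1 := by
    intro j
    have h1 : 1 ≤ q ^ j := Nat.one_le_pow _ _ (by omega)
    rw [← ZMod.natCast_eq_zero_iff, Nat.cast_sub h1, Nat.cast_pow, Nat.cast_one, sub_eq_zero]
  have hqm1 : 1 ≤ q ^ m := Nat.one_le_pow _ _ (by omega)
  have hfac : q ^ (2 * m) - 1 = (q ^ m - 1) * (q ^ m + 1) := by
    rw [mul_comm 2 m, pow_mul]
    zify [hqm1, Nat.one_le_pow 2 (q ^ m) (by omega)]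
    ring
  have hrE : r ∣ q ^ m + 1 := by
    rw [hfac] at hrd
    rcases (Nat.Prime.dvd_mul hr).mp hrd with h | h
    · exfalso
      have h1 := (hcast m).mpr h
      have h2 := orderOf_dvd_of_pow_eq_one h1
      rw [hord] at h2
      have := Nat.le_of_dvd (by omega) h2
      omega
    · exact h
  -- the element of order `r`
  have hEN : q ^ m + 1 ∣ orderOf ĝ := by
    rw [← hg]
    exact orderOf_map_dvd (QuotientGroup.mk' _) ĝ
  have hN0 : orderOf ĝ ≠ 0 := (orderOf_pos ĝ).ne'
  have hrN : r ∣ orderOf ĝ := dvd_trans hrE hEN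
  set y := ĝ ^ (orderOf ĝ / r) with hy
  have hoy : orderOf y = r := orderOf_pow_orderOf_div hN0 hrN
  set X : Matrix (Fin (2 * m)) (Fin (2 * m)) F := (y : Matrix (Fin (2 * m)) (Fin (2 * m)) F) with hXdef
  have hX : X ^ r = 1 := by
    have h1 : y ^ r = 1 := by rw [← hoy]; exact pow_orderOf_eq_one y
    have h2 := congrArg (fun g : Matrix.SpecialLinearGroup (Fin (2 * m)) F =>
      (g : Matrix (Fin (2 * m)) (Fin (2 * m)) F)) h1
    simpa using h2
  have hX1 : X ≠ 1 := by
    intro h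
    have h1 : y = 1 := Subtype.ext h
    rw [h1, orderOf_one] at hoy
    exact hr.one_lt.ne hoy
  set D := Subalgebra.centralizer F ({X} : Set (Matrix (Fin (2 * m)) (Fin (2 * m)) F)) with hD
  have hmemD : ∀ M : Matrix (Fin (2 * m)) (Fin (2 * m)) F, M ∈ D ↔ M * X = X * M := by
    intro M
    rw [hD, Subalgebra.mem_centralizer_iff]
    constructor
    · intro h; exact (h X rfl).symm
    · intro h g hg
      rw [Set.mem_singleton_iff.1 hg]; exact h.symm
  have hcardD : Nat.card D = q ^ (2 * m) := card_commutant hq.symm X r hX hX1 (by omega) hord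
  have hunitM : ∀ M : Matrix (Fin (2 * m)) (Fin (2 * m)) F, M * X = X * M → M ≠ 0 → IsUnit M :=
    fun M h1 h2 => isUnit_of_commute hq.symm X r hX hX1 (by omega) hord M h1 h2
  have hunitD : ∀ a : D, IsUnit a ∨ a = 0 := by
    intro a
    by_cases ha : a = 0
    · right; exact ha
    · left
      have ha' : (a : Matrix (Fin (2 * m)) (Fin (2 * m)) F) ≠ 0 := fun h => ha (Subtype.ext h)
      obtain ⟨u, hu⟩ := hunitM a ((hmemD _).1 a.2) ha'
      have hc : Commute (u : Matrix (Fin (2 * m)) (Fin (2 * m)) F) X := by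
        rw [hu]; exact (hmemD _).1 a.2
      have hinvD : ((u⁻¹ : (Matrix (Fin (2 * m)) (Fin (2 * m)) F)ˣ) :
          Matrix (Fin (2 * m)) (Fin (2 * m)) F) ∈ D := (hmemD _).2 hc.units_inv_left.eq
      have huD : (u : Matrix (Fin (2 * m)) (Fin (2 * m)) F) ∈ D := by rw [hu]; exact a.2
      refine ⟨⟨⟨u, huD⟩, ⟨_, hinvD⟩, ?_, ?_⟩, ?_⟩
      · apply Subtype.ext
        simp
      · apply Subtype.ext
        simp
      · apply Subtype.ext
        exact hu
  have : Nontrivial D := ⟨⟨0, 1, fun h => by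
    have := congrArg Subtype.val h
    simp at this⟩⟩
  -- the field
  let K := FiniteField.Extension F p (2 * m)
  haveI : Fintype K := Fintype.ofFinite K
  have hfr : Module.finrank F K = 2 * m := FiniteField.finrank_extension F p (2 * m)
  have hcard : Nat.card K = Nat.card D := by
    rw [hcardD, FiniteField.natCard_extension, Nat.card_eq_fintype_card]
  obtain ⟨ψ⟩ := nonempty_algEquiv_of_card_eq (F := F) (K := K) (A := D) hunitD hcard
  let φ : K →ₐ[F] Matrix (Fin (2 * m)) (Fin (2 * m)) F := D.val.comp ψ.toAlgHom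
  have hφ : ∀ x : K, φ x = ((ψ x : D) : Matrix (Fin (2 * m)) (Fin (2 * m)) F) := fun _ => rfl
  have hgD : (ĝ : Matrix (Fin (2 * m)) (Fin (2 * m)) F) ∈ D := by
    rw [hmemD, hXdef, hy, Matrix.SpecialLinearGroup.coe_pow]
    exact ((Commute.refl (ĝ : Matrix (Fin (2 * m)) (Fin (2 * m)) F)).pow_right _).eq
  set kk : K := ψ.symm ⟨(ĝ : Matrix (Fin (2 * m)) (Fin (2 * m)) F), hgD⟩ with hkk
  have hgk : (ĝ : Matrix (Fin (2 * m)) (Fin (2 * m)) F) = φ kk := by
    rw [hφ, hkk, AlgEquiv.apply_symm_apply]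
  have hkN : kk ^ gs q (2 * m) = 1 := by
    have h1 := algebraMap_det φ hfr hn kk
    rw [← hgk, ĝ.2, map_one] at h1
    exact h1.symm
  have hk0 : kk ≠ 0 := by
    intro h0
    rw [h0, zero_pow (gs_pos q (2 * m) hn).ne'] at hkN
    exact zero_ne_one hkN
  have hkE : ∃ c : F, algebraMap F K c = kk ^ (q ^ m + 1) := by
    apply (mk_pow_eq_one_iff φ hn ĝ kk hgk _).mp
    rw [← hg]
    exact pow_orderOf_eq_one _
  have hkhalf : ¬ ∃ c : F, algebraMap F K c = kk ^ ((q ^ m + 1) / 2) := by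
    intro h
    have h1 := (mk_pow_eq_one_iff φ hn ĝ kk hgk _).mpr h
    have h2 := orderOf_dvd_of_pow_eq_one h1
    rw [hg] at h2
    have h3 : 0 < (q ^ m + 1) / 2 := Nat.div_pos (by omega) (by norm_num)
    have := Nat.le_of_dvd h3 h2
    omega
  exact forward (F := F) (K := K) hodd m kk hk0 hkN hkE hkhalf

end assembly

/-- Let q be an odd prime power, n ≥ 4 even, and L = PSL(n,q). Then L has an element of order q^(n/2) + 1 if and only if the 2-part of n exceeds the 2-part of q − 1. -/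
theorem result {F : Type*} [Field F] [Fintype F] {q : ℕ} (hF : Fintype.card F = q) (hodd : Odd q)
    {n : ℕ} (hn : 4 ≤ n) (heven : Even n) :
    (∃ g : Matrix.ProjectiveSpecialLinearGroup (Fin n) F, orderOf g = q ^ (n / 2) + 1) ↔
      padicValNat 2 (q - 1) < padicValNat 2 n := by
  subst hF
  obtain ⟨m, hm⟩ := heven
  have hnm : n = 2 * m := by omega
  have hm2 : 2 ≤ m := by omega
  have hhalf : n / 2 = m := by omega
  rw [hhalf]
  have hval : padicValNat 2 n = 1 + padicValNat 2 m := by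
    rw [hnm, padicValNat.mul (by norm_num) (by omega), padicValNat_self]
  have hiff : padicValNat 2 (Fintype.card F - 1) < padicValNat 2 n ↔
      2 ^ padicValNat 2 (Fintype.card F - 1) ∣ m := by
    rw [hval, padicValNat_dvd_iff_le (by omega)]
    omega
  rw [hiff]
  constructor
  · rintro ⟨g, hg⟩
    exact dvd_of_exists hodd n m hnm hm2 g hg
  · intro h
    exact exists_elt n m hnm hm2 h

end Cfsg.Agent.S2495
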