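import Cfsg.Statements.S0006
import Cfsg.Agent.S0144
import Cfsg.Agent.S0019
import Cfsg.Agent.S0007
import Mathlib

set_option autoImplicit false
open Cfsg

namespace Cfsg.Agent.S0006

universe u

/-- A number with at most two prime factors is of the form `p^a * q^b`. -/
lemma exists_two_primes (N : ℕ) (hN : N ≠ 0) (h : N.primeFactors.card ≤ 2) :
    ∃ p q a b : ℕ, p.Prime ∧ q.Prime ∧ N = p ^ a * q ^ b := by
  have hsub : ∃ p q : ℕ, p.Prime ∧ q.Prime ∧ p ≠ q ∧ N.primeFactors ⊆ {p, q} := by
    have hc : N.primeFactors.card = 0 ∨ N.primeFactors.card = 1 ∨ N.primeFactors.card = 2 := by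
      omega
    rcases hc with h0 | h1 | h2
    · refine ⟨2, 3, Nat.prime_two, Nat.prime_three, by norm_num, ?_⟩
      rw [Finset.card_eq_zero.mp h0]; exact Finset.empty_subset _
    · obtain ⟨a, ha⟩ := Finset.card_eq_one.mp h1
      have hap : a.Prime := Nat.prime_of_mem_primeFactors (by rw [ha]; exact Finset.mem_singleton_self a)
      by_cases h2 : a = 2
      · refine ⟨a, 3, hap, Nat.prime_three, by omega, ?_⟩
        rw [ha]; intro x hx; rw [Finset.mem_singleton] at hx; subst hx; simp
      · refine ⟨a, 2, hap, Nat.prime_two, h2, ?_⟩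
        rw [ha]; intro x hx; rw [Finset.mem_singleton] at hx; subst hx; simp
    · obtain ⟨a, b, hab, hs⟩ := Finset.card_eq_two.mp h2
      have hap : a.Prime := Nat.prime_of_mem_primeFactors (by rw [hs]; simp)
      have hbp : b.Prime := Nat.prime_of_mem_primeFactors (by rw [hs]; simp)
      exact ⟨a, b, hap, hbp, hab, by rw [hs]⟩
  obtain ⟨p, q, hp, hq, hpq, hsub⟩ := hsub
  refine ⟨p, q, N.factorization p, N.factorization q, hp, hq, ?_⟩
  have h1 : N = N.factorization.prod (fun x k => x ^ k) := (Nat.prod_factorization_pow_eq_self hN).symm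
  rw [Finsupp.prod, Nat.support_factorization] at h1
  have h2 : ∏ x ∈ N.primeFactors, x ^ N.factorization x = ∏ x ∈ ({p, q} : Finset ℕ), x ^ N.factorization x := by
    apply Finset.prod_subset hsub
    intro x _ hx
    have : N.factorization x = 0 := by
      rw [← Nat.support_factorization] at hx
      exact Finsupp.notMem_support_iff.mp hx
    rw [this, pow_zero]
  rw [h2, Finset.prod_pair hpq] at h1
  exact h1

/-- A `r`-complement inherits the hypothesis of Hall's converse. -/
lemma sub_hyp {G : Type*} [Group G] [Finite G]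
    (h : ∀ p : ℕ, p.Prime → ∃ H : Subgroup G, H.index = p ^ (Nat.card G).factorization p)
    (r : ℕ) (hr : r.Prime) (H : Subgroup G) (hH : H.index = r ^ (Nat.card G).factorization r) :
    ∀ q : ℕ, q.Prime → ∃ K : Subgroup H, K.index = q ^ (Nat.card H).factorization q := by
  intro q hq
  obtain ⟨k, hk⟩ : ∃ k : ℕ, k = (Nat.card G).factorization r := ⟨_, rfl⟩
  rw [← hk] at hH
  have hcard : Nat.card H * r ^ k = Nat.card G := by
    rw [← hH]; exact Subgroup.card_mul_index H
  have hHne : Nat.card H ≠ 0 := Nat.card_pos.ne'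
  have hrne : r ^ k ≠ 0 := pow_ne_zero _ hr.ne_zero
  have hfac : (Nat.card G).factorization = (Nat.card H).factorization +
      (r ^ k).factorization := by
    rw [← Nat.factorization_mul hHne hrne, hcard]
  rw [hr.factorization_pow] at hfac
  by_cases hqr : q = r
  · subst hqr
    refine ⟨⊤, ?_⟩
    have := congrArg (fun f => f q) hfac
    simp only [Finsupp.coe_add, Pi.add_apply, Finsupp.single_eq_same] at this
    have h0 : (Nat.card H).factorization q = 0 := by omega
    rw [h0, pow_zero, Subgroup.index_top]
  · obtain ⟨Hq, hHq⟩ := h q hq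
    refine ⟨Hq.subgroupOf H, ?_⟩
    have hv : (Nat.card H).factorization q = (Nat.card G).factorization q := by
      have := congrArg (fun f => f q) hfac
      simp only [Finsupp.coe_add, Pi.add_apply] at this
      rw [Finsupp.single_eq_of_ne (by exact hqr)] at this
      omega
    rw [hv]
    have hcop : Hq.index.Coprime H.index := by
      rw [hHq, hH]
      exact Nat.Coprime.pow _ _ ((Nat.coprime_primes hq hr).mpr hqr)
    have h7 := (Cfsg.Agent.S0007.result Hq H hcop).1
    have h8 : (Hq ⊓ H).relIndex H * H.index = (Hq ⊓ H).index :=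
      Subgroup.relIndex_mul_index inf_le_right
    rw [Subgroup.inf_relIndex_right, h7] at h8
    have hpos : 0 < H.index := Nat.pos_of_ne_zero Subgroup.index_ne_zero_of_finite
    have h9 : Hq.relIndex H = Hq.index := Nat.eq_of_mul_eq_mul_right hpos h8
    show Hq.relIndex H = _
    rw [h9, hHq]

theorem main : ∀ (n : ℕ) (G : Type u) [Group G] [Finite G], Nat.card G = n →
    (∀ p : ℕ, p.Prime → ∃ H : Subgroup G, H.index = p ^ (Nat.card G).factorization p) →
    Group.IsSolvable G := by
  intro n
  induction n using Nat.strong_induction_on with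
  | _ n ih =>
    intro G _ _ hn h
    have hN : Nat.card G ≠ 0 := Nat.card_pos.ne'
    by_cases hk : (Nat.card G).primeFactors.card ≤ 2
    · obtain ⟨p, q, a, b, hp, hq, hcard⟩ := exists_two_primes _ hN hk
      exact Cfsg.Agent.S0144.result p q a b hp hq hcard
    · have hk3 : 2 < (Nat.card G).primeFactors.card := by omega
      obtain ⟨a, b, c, ha, hb, hc, hab, hac, hbc⟩ := Finset.two_lt_card_iff.mp hk3
      have hap := Nat.prime_of_mem_primeFactors ha
      have hbp := Nat.prime_of_mem_primeFactors hb
      have hcp := Nat.prime_of_mem_primeFactors hc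
      obtain ⟨Ha, hHa⟩ := h a hap
      obtain ⟨Hb, hHb⟩ := h b hbp
      obtain ⟨Hc, hHc⟩ := h c hcp
      -- each complement is solvable by induction
      have hsol : ∀ (r : ℕ), r ∈ (Nat.card G).primeFactors → ∀ H : Subgroup G,
          H.index = r ^ (Nat.card G).factorization r → Group.IsSolvable H := by
        intro r hr H hH
        have hrp := Nat.prime_of_mem_primeFactors hr
        have hpos : 0 < (Nat.card G).factorization r :=
          hrp.factorization_pos_of_dvd hN (Nat.dvd_of_mem_primeFactors hr)
        have hidx : 1 < H.index := by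
          rw [hH]; exact Nat.one_lt_pow hpos.ne' hrp.one_lt
        have hlt : Nat.card H < n := by
          rw [← hn]
          have h1 : Nat.card H * H.index = Nat.card G := Subgroup.card_mul_index H
          have h2 : 0 < Nat.card H := Nat.card_pos
          nlinarith
        exact ih _ hlt H rfl (sub_hyp h r hrp H hH)
      have hsa := hsol a ha Ha hHa
      have hsb := hsol b hb Hb hHb
      have hsc := hsol c hc Hc hHc
      have hcop_ab : Ha.index.Coprime Hb.index := by
        rw [hHa, hHb]; exact Nat.Coprime.pow _ _ ((Nat.coprime_primes hap hbp).mpr hab)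
      have hcop_ac : Ha.index.Coprime Hc.index := by
        rw [hHa, hHc]; exact Nat.Coprime.pow _ _ ((Nat.coprime_primes hap hcp).mpr hac)
      have hcop_bc : Hb.index.Coprime Hc.index := by
        rw [hHb, hHc]; exact Nat.Coprime.pow _ _ ((Nat.coprime_primes hbp hcp).mpr hbc)
      exact Cfsg.Agent.S0019.result Ha Hb Hc hsa hsb hsc
        (Cfsg.Agent.S0007.result Ha Hb hcop_ab).2 (Cfsg.Agent.S0007.result Ha Hc hcop_ac).2 hcop_bc

theorem result {G : Type*} [Group G] [Finite G]
    (h : ∀ p : ℕ, p.Prime → ∃ H : Subgroup G, H.index = p ^ (Nat.card G).factorization p) :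
    Group.IsSolvable G :=
  main _ G rfl h

end Cfsg.Agent.S0006
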