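import Cfsg.Statements.S0011
import Mathlib

set_option autoImplicit false
open Cfsg

namespace Cfsg.Agent.S0011

/-- If the Frattini quotient of a finite group is nilpotent then the group is nilpotent. -/
theorem result {G : Type*} [Group G] [Finite G]
    (h : Group.IsNilpotent (G ⧸ frattini G)) : Group.IsNilpotent G := by
  have q := (Group.isNilpotent_of_finite_tfae (G := G)).out 0 3
  rw [q]; clear q
  intro p hp P
  have q' := (Group.isNilpotent_of_finite_tfae (G := G ⧸ frattini G)).out 0 3
  have hall := q'.mp h
  have hsurj : Function.Surjective (QuotientGroup.mk' (frattini G)) := QuotientGroup.mk'_surjective _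
  have hPbar : (P.mapSurjective hsurj : Subgroup (G ⧸ frattini G)).Normal := hall p hp _
  rw [Sylow.coe_mapSurjective] at hPbar
  have hN : ((P : Subgroup G) ⊔ frattini G).Normal := by
    have h1 : (Subgroup.comap (QuotientGroup.mk' (frattini G))
        (Subgroup.map (QuotientGroup.mk' (frattini G)) (P : Subgroup G))).Normal :=
      Subgroup.Normal.comap hPbar _
    rwa [Subgroup.comap_map_eq, QuotientGroup.ker_mk'] at h1
  have hPN : (P : Subgroup G) ≤ (P : Subgroup G) ⊔ frattini G := le_sup_left
  have hfr := Sylow.normalizer_sup_eq_top' P hPN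
  have hle : Subgroup.normalizer (P : Set G) ⊔ ((P : Subgroup G) ⊔ frattini G) ≤
      Subgroup.normalizer (P : Set G) ⊔ frattini G := by
    apply sup_le le_sup_left
    apply sup_le _ le_sup_right
    exact le_trans Subgroup.le_normalizer le_sup_left
  have htop : Subgroup.normalizer (P : Set G) ⊔ frattini G = ⊤ := by
    rw [eq_top_iff, ← hfr]
    exact hle
  have := frattini_nongenerating htop
  exact Subgroup.normalizer_eq_top_iff.mp this

end Cfsg.Agent.S0011
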