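import Cfsg.Statements.S0014
import Cfsg.Agent.Lib.Helper01.Basic
import Cfsg.Agent.Lib.Helper75.PGroupFrattini

set_option autoImplicit false
open Cfsg

namespace Cfsg.Agent.S0014

open Cfsg.Agent.Lib.Helper01

/-- In a finite elementary abelian `p`-group `V`, every finite family (given through a map
`f : G → V` on a finset) contains a subfamily generating the same subgroup, whose span has order
`p ^ (size)`. -/
theorem exists_independent {G V : Type*} [Group V] [Finite V] (p : ℕ) [Fact p.Prime]
    (hcomm : ∀ a b : V, a * b = b * a) (hpow : ∀ a : V, a ^ p = 1) (f : G → V) [DecidableEq G]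
    (S : Finset G) :
    ∃ T : Finset G, T ⊆ S ∧ Subgroup.closure (f '' (T : Set G)) = Subgroup.closure (f '' (S : Set G)) ∧
      Nat.card (Subgroup.closure (f '' (T : Set G))) = p ^ T.card := by
  have hp : p.Prime := Fact.out
  letI : CommGroup V := { (inferInstance : Group V) with mul_comm := hcomm }
  induction S using Finset.induction_on with
  | empty =>
    refine ⟨∅, Finset.Subset.refl _, rfl, ?_⟩
    simp
  | insert x S hxS ih =>
    obtain ⟨T, hTS, hcl, hcard⟩ := ih
    have hins : Subgroup.closure (f '' ((insert x S : Finset G) : Set G))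
        = Subgroup.closure (f '' (S : Set G)) ⊔ Subgroup.zpowers (f x) := by
      rw [Finset.coe_insert, Set.image_insert_eq, Set.insert_eq, Subgroup.closure_union,
        Subgroup.zpowers_eq_closure, sup_comm]
    by_cases hx : f x ∈ Subgroup.closure (f '' (T : Set G))
    · refine ⟨T, hTS.trans (Finset.subset_insert _ _), ?_, hcard⟩
      rw [hins, ← hcl]
      symm
      apply sup_eq_left.mpr
      rw [Subgroup.zpowers_le]
      exact hx
    · have hxT : x ∉ T := fun h => hxS (hTS h)
      refine ⟨insert x T, Finset.insert_subset_insert _ hTS, ?_, ?_⟩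
      · have hins' : Subgroup.closure (f '' ((insert x T : Finset G) : Set G))
            = Subgroup.closure (f '' (T : Set G)) ⊔ Subgroup.zpowers (f x) := by
          rw [Finset.coe_insert, Set.image_insert_eq, Set.insert_eq, Subgroup.closure_union,
            Subgroup.zpowers_eq_closure, sup_comm]
        rw [hins, hins', hcl]
      · have hins' : Subgroup.closure (f '' ((insert x T : Finset G) : Set G))
            = Subgroup.closure (f '' (T : Set G)) ⊔ Subgroup.zpowers (f x) := by
          rw [Finset.coe_insert, Set.image_insert_eq, Set.insert_eq, Subgroup.closure_union,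
            Subgroup.zpowers_eq_closure, sup_comm]
        rw [hins', Finset.card_insert_of_notMem hxT, pow_succ, ← hcard]
        set H := Subgroup.closure (f '' (T : Set G)) with hH
        have hx1 : f x ≠ 1 := fun h => hx (h ▸ H.one_mem)
        have hord : orderOf (f x) = p := by
          have h1 : orderOf (f x) ∣ p := orderOf_dvd_of_pow_eq_one (hpow _)
          rcases (Nat.dvd_prime hp).mp h1 with h | h
          · exact absurd (orderOf_eq_one_iff.mp h) hx1
          · exact h
        have hzc : Nat.card (Subgroup.zpowers (f x)) = p := by rw [Nat.card_zpowers, hord]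
        haveI : Fact (Nat.card (Subgroup.zpowers (f x))).Prime := ⟨by rw [hzc]; exact hp⟩
        have hinf : Subgroup.zpowers (f x) ⊓ H = ⊥ := by
          rcases Subgroup.eq_bot_or_eq_top_of_prime_card
            ((Subgroup.zpowers (f x) ⊓ H).subgroupOf (Subgroup.zpowers (f x))) with h | h
          · rw [Subgroup.subgroupOf_eq_bot] at h
            rw [disjoint_iff, inf_assoc, inf_comm H, ← inf_assoc, inf_idem] at h
            exact h
          · rw [Subgroup.subgroupOf_eq_top] at h
            exact absurd ((h.trans inf_le_right) (Subgroup.mem_zpowers _)) hx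
        have hmain := card_sup_mul_card_inf (Subgroup.zpowers (f x)) H
        rw [hinf, Subgroup.card_bot, mul_one, hzc] at hmain
        rw [hmain, mul_comm]


/-- Burnside's basis Theorem: in a finite p-group whose Frattini quotient has order p ^ n, every generating set contains n elements that already generate, and no set with fewer than n elements generates. -/
theorem result {G : Type*} [Group G] [Finite G] (p n : ℕ) [Fact p.Prime]
    (hG : IsPGroup p G) (hn : (frattini G).index = p ^ n) :
    (∀ S : Finset G, Subgroup.closure (S : Set G) = ⊤ → ∃ T : Finset G, T ⊆ S ∧ T.card = n ∧ Subgroup.closure (T : Set G) = ⊤) ∧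
    (∀ T : Finset G, Subgroup.closure (T : Set G) = ⊤ → n ≤ T.card) := by
  classical
  have hp : p.Prime := Fact.out
  set f : G → G ⧸ frattini G := fun g => (QuotientGroup.mk' (frattini G)) g with hf
  have hcomm := Cfsg.Agent.Lib.Helper75.frattini_quotient_comm hG
  have hpow := Cfsg.Agent.Lib.Helper75.frattini_quotient_pow hG
  have hcardV : Nat.card (G ⧸ frattini G) = p ^ n := by
    rw [← hn]; rfl
  have himg : ∀ S : Finset G, Subgroup.closure (f '' (S : Set G))
      = (Subgroup.closure (S : Set G)).map (QuotientGroup.mk' (frattini G)) := by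
    intro S
    rw [MonoidHom.map_closure]
  have key : ∀ S : Finset G, Subgroup.closure (S : Set G) = ⊤ →
      ∃ T : Finset G, T ⊆ S ∧ T.card = n ∧ Subgroup.closure (T : Set G) = ⊤ := by
    intro S hS
    obtain ⟨T, hTS, hcl, hcard⟩ := exists_independent p hcomm hpow f S
    have htop : Subgroup.closure (f '' (S : Set G)) = ⊤ := by
      rw [himg, hS, ← MonoidHom.range_eq_map, MonoidHom.range_eq_top]
      exact QuotientGroup.mk'_surjective _
    rw [htop] at hcl
    rw [hcl, Subgroup.card_top, hcardV] at hcard
    refine ⟨T, hTS, (Nat.pow_right_injective hp.two_le hcard).symm, ?_⟩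
    apply frattini_nongenerating
    rw [himg] at hcl
    have h1 : (Subgroup.closure (T : Set G) ⊔ frattini G).map (QuotientGroup.mk' (frattini G)) = ⊤ := by
      rw [Subgroup.map_sup, hcl]
      exact top_sup_eq _
    rw [eq_top_iff]
    intro g _
    have hg : (QuotientGroup.mk' (frattini G)) g ∈
        (Subgroup.closure (T : Set G) ⊔ frattini G).map (QuotientGroup.mk' (frattini G)) := by
      rw [h1]; trivial
    obtain ⟨y, hy, hyg⟩ := hg
    have h2 : y⁻¹ * g ∈ frattini G := by
      rw [← QuotientGroup.eq]
      exact hyg
    have h3 : g = y * (y⁻¹ * g) := by group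
    rw [h3]
    exact Subgroup.mul_mem _ hy (Subgroup.mem_sup_right h2)
  refine ⟨key, ?_⟩
  intro T hT
  obtain ⟨T', hT'T, hcard, _⟩ := key T hT
  rw [← hcard]
  exact Finset.card_le_card hT'T

end Cfsg.Agent.S0014
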