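import Cfsg.Statements.S0015
import Mathlib

set_option autoImplicit false
open Cfsg

namespace Cfsg.Agent.S0015

open scoped commutatorElement in
/-- In a nilpotent group a nontrivial normal subgroup meets the centre nontrivially.
(restored by lead: Lib.Helper78.MaxClass2 depends on it) -/
theorem exists_center_mem {Q : Type*} [Group Q] [Group.IsNilpotent Q] (H : Subgroup Q) [hn : H.Normal]
    (hH : H ≠ ⊥) : ∃ x ∈ H, x ∈ Subgroup.center Q ∧ x ≠ 1 := by
  classical
  obtain ⟨c, hc⟩ := (Group.IsNilpotent.nilpotent' : ∃ n : ℕ, Subgroup.upperCentralSeries Q n = ⊤)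
  have hex : ∃ n, ∃ x ∈ H, x ∈ Subgroup.upperCentralSeries Q n ∧ x ≠ 1 := by
    obtain ⟨⟨x, hx⟩, hx1⟩ := (Subgroup.ne_bot_iff_exists_ne_one.mp hH)
    refine ⟨c, x, hx, by rw [hc]; exact Subgroup.mem_top x, ?_⟩
    intro h
    apply hx1
    exact Subtype.ext h
  have hmin : ∀ m, m < Nat.find hex → ¬ ∃ x ∈ H, x ∈ Subgroup.upperCentralSeries Q m ∧ x ≠ 1 :=
    fun m hm => Nat.find_min hex hm
  obtain ⟨x, hxH, hxZ, hx1⟩ := Nat.find_spec hex
  rcases hn0 : Nat.find hex with _ | m
  · rw [hn0, Subgroup.upperCentralSeries_zero, Subgroup.mem_bot] at hxZ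
    exact absurd hxZ hx1
  · rw [hn0] at hxZ
    refine ⟨x, hxH, ?_, hx1⟩
    rw [Subgroup.mem_center_iff]
    intro y
    have hcomm : ⁅x, y⁆ = 1 := by
      by_contra hne
      have hm : m < Nat.find hex := by omega
      apply hmin m hm
      refine ⟨⁅x, y⁆, ?_, Subgroup.mem_upperCentralSeries_succ_iff.mp hxZ y, hne⟩
      rw [commutatorElement_def]
      have h1 : y * x⁻¹ * y⁻¹ ∈ H := hn.conj_mem _ (H.inv_mem hxH) y
      have : x * y * x⁻¹ * y⁻¹ = x * (y * x⁻¹ * y⁻¹) := by group
      rw [this]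
      exact H.mul_mem hxH h1
    rw [commutatorElement_def] at hcomm
    calc y * x = (x * y * x⁻¹ * y⁻¹)⁻¹ * (x * y) := by group
      _ = x * y := by rw [hcomm]; group

/-- iterated commutators with the whole group -/
def iterComm {G : Type*} [Group G] (C : Subgroup G) : ℕ → Subgroup G
  | 0 => C
  | n + 1 => ⁅iterComm C n, ⊤⁆

open scoped Pointwise commutatorElement in
/-- In a nilpotent group, if a normal subgroup `C` is not contained in `N`, some element
`x ∈ C`, `x ∉ N` has all commutators `⁅x, g⁆` in `N`. -/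
theorem exists_central_mod {G : Type*} [Group G] [Group.IsNilpotent G] (C N : Subgroup G)
    [C.Normal] (hCN : ¬ C ≤ N) : ∃ x ∈ C, x ∉ N ∧ ∀ g : G, ⁅x, g⁆ ∈ N := by
  classical
  let D : ℕ → Subgroup G := iterComm C
  have hD0 : D 0 = C := rfl
  have hDs : ∀ n, D (n + 1) = ⁅D n, ⊤⁆ := fun n => rfl
  have hDC : ∀ n, D n ≤ C := by
    intro n
    induction n with
    | zero => exact le_rfl
    | succ k ih =>
      rw [hDs]
      exact (Subgroup.commutator_mono ih le_rfl).trans (Subgroup.commutator_le_left C ⊤)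
  have hDlcs : ∀ n, D n ≤ (⊤ : Subgroup G).lowerCentralSeries n := by
    intro n
    induction n with
    | zero => exact le_top
    | succ k ih =>
      rw [hDs, Subgroup.lowerCentralSeries_succ]
      exact Subgroup.commutator_mono ih le_rfl
  obtain ⟨m, hm⟩ := Subgroup.nilpotent_iff_lowerCentralSeries.mp (inferInstance : Group.IsNilpotent G)
  have hex : ∃ n, D n ≤ N := ⟨m, by
    have := hDlcs m
    rw [hm, le_bot_iff] at this
    rw [this]; exact bot_le⟩
  obtain ⟨i, hi_spec, hi_min⟩ : ∃ i, D i ≤ N ∧ ∀ k < i, ¬ D k ≤ N :=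
    ⟨Nat.find hex, Nat.find_spec hex, fun k hk => Nat.find_min hex hk⟩
  have hi0 : i ≠ 0 := by
    intro h0
    rw [h0, hD0] at hi_spec
    exact hCN hi_spec
  obtain ⟨j, hj⟩ := Nat.exists_eq_succ_of_ne_zero hi0
  have hjN : ¬ D j ≤ N := hi_min j (by rw [hj]; exact Nat.lt_succ_self j)
  obtain ⟨x, hxD, hxN⟩ := SetLike.not_le_iff_exists.mp hjN
  refine ⟨x, hDC j hxD, hxN, fun g => ?_⟩
  apply hi_spec
  rw [hj, Nat.succ_eq_add_one, hDs]
  exact Subgroup.commutator_mem_commutator hxD (Subgroup.mem_top g)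


/-- In a finite nilpotent group, an abelian normal subgroup that is maximal among abelian normal subgroups equals its own centralizer. -/
theorem result {G : Type*} [Group G] [Finite G] [Group.IsNilpotent G]
    (N : Subgroup G) [N.Normal] [IsMulCommutative N]
    (hmax : ∀ M : Subgroup G, M.Normal → IsMulCommutative M → N ≤ M → M = N) :
    Subgroup.centralizer (N : Set G) = N := by
  have hNC : N ≤ Subgroup.centralizer (N : Set G) :=
    Subgroup.le_centralizer_iff_isMulCommutative.mpr inferInstance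
  apply le_antisymm _ hNC
  by_contra hCN
  obtain ⟨x, hxC, hxN, hcomm⟩ := exists_central_mod (Subgroup.centralizer (N : Set G)) N hCN
  set Z : Subgroup G := Subgroup.zpowers x with hZ
  have hxZ : x ∈ Z := Subgroup.mem_zpowers x
  have hZC : Z ≤ Subgroup.centralizer (N : Set G) := by
    rw [hZ, Subgroup.zpowers_le]; exact hxC
  have hNZ : N ≤ Subgroup.centralizer (Z : Set G) := Subgroup.le_centralizer_iff.mp hZC
  have hZZ : Z ≤ Subgroup.centralizer (Z : Set G) :=
    Subgroup.le_centralizer_iff_isMulCommutative.mpr inferInstance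
  have hMcomm : IsMulCommutative (N ⊔ Z : Subgroup G) := by
    rw [← Subgroup.le_centralizer_iff_isMulCommutative]
    apply sup_le
    · rw [Subgroup.le_centralizer_iff]; exact sup_le hNC hZC
    · rw [Subgroup.le_centralizer_iff]; exact sup_le hNZ hZZ
  have hMnormal : (N ⊔ Z : Subgroup G).Normal := by
    constructor
    intro n hn g
    have hle : N ⊔ Z ≤ (N ⊔ Z : Subgroup G).comap (MulAut.conj g).toMonoidHom := by
      apply sup_le
      · intro y hy
        rw [Subgroup.mem_comap]
        exact le_sup_left (a := N) (b := Z) (Subgroup.Normal.conj_mem inferInstance y hy g)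
      · rw [hZ, Subgroup.zpowers_le, Subgroup.mem_comap]
        change g * x * g⁻¹ ∈ N ⊔ Z
        have h1 := hcomm g
        -- g x g⁻¹ = (x⁻¹ ⁅x,g⁆⁻¹ x) ... use: g x g⁻¹ = ⁅g, x⁆ * x and ⁅g,x⁆ = ⁅x,g⁆⁻¹
        have h2 : g * x * g⁻¹ = (x * g * x⁻¹ * g⁻¹)⁻¹ * x := by group
        rw [h2]
        exact Subgroup.mul_mem_sup (N.inv_mem (by simpa [commutatorElement_def] using h1)) hxZ
    exact hle hn
  have hM := hmax (N ⊔ Z) hMnormal hMcomm le_sup_left
  exact hxN (hM ▸ (le_sup_right (a := N) (b := Z) hxZ))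

end Cfsg.Agent.S0015
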