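import Cfsg.Statements.S0018
import Cfsg.Agent.Lib.Helper01.HallHigman

set_option autoImplicit false
open Cfsg

namespace Cfsg.Agent.S0018

/-- A finite solvable group whose Sylow p-subgroups are abelian has p-length one: a Sylow p-subgroup together with the largest normal subgroup of order prime to p generates a normal subgroup. -/
theorem result {G : Type*} [Group G] [Finite G] [Group.IsSolvable G]
    (p : ℕ) [Fact p.Prime] (P : Sylow p G) (hP : IsMulCommutative P) :
    ((P : Subgroup G) ⊔ Cfsg.pPrimeCore p G).Normal := by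
  have hOn : (Cfsg.pPrimeCore p G).Normal := Cfsg.Agent.Lib.Helper01.pPrimeCore_normal p
  set O := Cfsg.pPrimeCore p G with hO
  set f := QuotientGroup.mk' O with hf
  have hsurj : Function.Surjective f := QuotientGroup.mk'_surjective O
  have hker : f.ker = O := QuotientGroup.ker_mk' O
  have h0 : Cfsg.pPrimeCore p (G ⧸ O) = ⊥ := Cfsg.Agent.Lib.Helper01.pPrimeCore_quotient_eq_bot p
  have hHH := Cfsg.Agent.Lib.Helper01.centralizer_pCore_le (G := G ⧸ O) p h0
  have hcore_le : Cfsg.pCore p (G ⧸ O) ≤ (P : Subgroup G).map f := by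
    have := Cfsg.Agent.Lib.Helper01.pCore_le_sylow (P.mapSurjective hsurj)
    rwa [Sylow.coe_mapSurjective] at this
  have hle : (P : Subgroup G).map f ≤ Subgroup.centralizer (Cfsg.pCore p (G ⧸ O) : Set (G ⧸ O)) := by
    rintro _ ⟨a, ha, rfl⟩
    rw [Subgroup.mem_centralizer_iff]
    intro y hy
    obtain ⟨b, hb, rfl⟩ := hcore_le hy
    have hab : a * b = b * a := congrArg Subtype.val (mul_comm' (⟨a, ha⟩ : P) ⟨b, hb⟩)
    rw [← map_mul, ← map_mul, hab]
  have heq : (P : Subgroup G).map f = Cfsg.pCore p (G ⧸ O) := le_antisymm (hle.trans hHH) hcore_le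
  have hn : ((P : Subgroup G).map f).Normal := heq ▸ Cfsg.Agent.Lib.Helper01.pCore_normal p
  have := hn.comap f
  rwa [Subgroup.comap_map_eq, hker] at this

end Cfsg.Agent.S0018
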