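import Cfsg.Statements.S0021
import Cfsg.Agent.S0006
import Cfsg.Agent.Lib.Helper59.Basic
import Mathlib

set_option autoImplicit false
open Cfsg

namespace Cfsg.Agent.S0021

open scoped Pointwise

variable {G : Type*} [Group G]

/-- The product of two permuting subgroups, as a subgroup. -/
def mulSubgroup (H K : Subgroup G) (h : (H : Set G) * (K : Set G) = (K : Set G) * (H : Set G)) :
    Subgroup G where
  carrier := (H : Set G) * (K : Set G)
  one_mem' := ⟨1, H.one_mem, 1, K.one_mem, by simp⟩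
  mul_mem' := by
    rintro a b ⟨h1, hh1, k1, hk1, rfl⟩ ⟨h2, hh2, k2, hk2, rfl⟩
    have hmem : k1 * h2 ∈ (K : Set G) * (H : Set G) := ⟨k1, hk1, h2, hh2, rfl⟩
    rw [← h] at hmem
    obtain ⟨h3, hh3, k3, hk3, h33⟩ := hmem
    refine ⟨h1 * h3, H.mul_mem hh1 hh3, k3 * k2, K.mul_mem hk3 hk2, ?_⟩
    simp only at h33 ⊢
    calc h1 * h3 * (k3 * k2) = h1 * (h3 * k3) * k2 := by group
      _ = h1 * (k1 * h2) * k2 := by rw [h33]
      _ = h1 * k1 * (h2 * k2) := by group
  inv_mem' := by
    rintro a ⟨h1, hh1, k1, hk1, rfl⟩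
    have hmem : k1⁻¹ * h1⁻¹ ∈ (K : Set G) * (H : Set G) :=
      ⟨k1⁻¹, K.inv_mem hk1, h1⁻¹, H.inv_mem hh1, rfl⟩
    rw [← h] at hmem
    simp only at hmem ⊢
    rw [mul_inv_rev]
    exact hmem

lemma coe_mulSubgroup (H K : Subgroup G) (h : (H : Set G) * (K : Set G) = (K : Set G) * (H : Set G)) :
    (mulSubgroup H K h : Set G) = (H : Set G) * (K : Set G) := rfl

lemma left_le_mulSubgroup (H K : Subgroup G) (h : (H : Set G) * (K : Set G) = (K : Set G) * (H : Set G)) :
    H ≤ mulSubgroup H K h := fun x hx => ⟨x, hx, 1, K.one_mem, by simp⟩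

lemma right_le_mulSubgroup (H K : Subgroup G) (h : (H : Set G) * (K : Set G) = (K : Set G) * (H : Set G)) :
    K ≤ mulSubgroup H K h := fun x hx => ⟨1, H.one_mem, x, hx, by simp⟩

lemma card_mulSubgroup_dvd [Finite G] (H K : Subgroup G)
    (h : (H : Set G) * (K : Set G) = (K : Set G) * (H : Set G)) :
    Nat.card (mulSubgroup H K h) ∣ Nat.card H * Nat.card K := by
  set L := mulSubgroup H K h with hL
  have hprod : ∀ g : L, ∃ x ∈ H.subgroupOf L, ∃ y ∈ K.subgroupOf L, g = x * y := by
    rintro ⟨g, hg⟩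
    obtain ⟨x, hx, y, hy, hxy⟩ := hg
    refine ⟨⟨x, left_le_mulSubgroup H K h hx⟩, hx, ⟨y, right_le_mulSubgroup H K h hy⟩, hy, ?_⟩
    apply Subtype.ext
    simp only at hxy
    simp [hxy]
  have key := Cfsg.Agent.Lib.Helper59.card_mul_card_eq (H.subgroupOf L) (K.subgroupOf L) hprod
  have c1 : Nat.card (H.subgroupOf L) = Nat.card H :=
    Nat.card_congr (Subgroup.subgroupOfEquivOfLe (left_le_mulSubgroup H K h)).toEquiv
  have c2 : Nat.card (K.subgroupOf L) = Nat.card K :=
    Nat.card_congr (Subgroup.subgroupOfEquivOfLe (right_le_mulSubgroup H K h)).toEquiv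
  rw [c1, c2] at key
  exact Dvd.intro _ key

/-- Bundle a prime. -/
def mkP (d : ℕ) (hd : d.Prime) : Nat.Primes := ⟨d, hd⟩

lemma coe_mkP (d : ℕ) (hd : d.Prime) : ((mkP d hd : Nat.Primes) : ℕ) = d := rfl

lemma exists_prod [Finite G] (S : (p : Nat.Primes) → Sylow (p : ℕ) G)
    (hS : ∀ p q : Nat.Primes, (S p : Set G) * (S q : Set G) = (S q : Set G) * (S p : Set G))
    (T : Finset Nat.Primes) :
    ∃ K : Subgroup G, (∀ r : Nat.Primes, (K : Set G) * (S r : Set G) = (S r : Set G) * (K : Set G)) ∧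
      Nat.card K ∣ ∏ q ∈ T, Nat.card (S q) ∧ ∀ q ∈ T, (S q : Subgroup G) ≤ K := by
  classical
  induction T using Finset.induction_on with
  | empty =>
    refine ⟨⊥, ?_, ?_, ?_⟩
    · intro r
      simp [Subgroup.coe_bot]
    · simp
    · intro q hq; simp at hq
  | insert q T hqT ih =>
    obtain ⟨K, hperm, hcard, hle⟩ := ih
    refine ⟨mulSubgroup K (S q) (hperm q), ?_, ?_, ?_⟩
    · intro r
      rw [coe_mulSubgroup]
      calc (K : Set G) * (S q : Set G) * (S r : Set G)
          = (K : Set G) * ((S q : Set G) * (S r : Set G)) := mul_assoc _ _ _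
        _ = (K : Set G) * ((S r : Set G) * (S q : Set G)) := by rw [hS q r]
        _ = ((K : Set G) * (S r : Set G)) * (S q : Set G) := (mul_assoc _ _ _).symm
        _ = ((S r : Set G) * (K : Set G)) * (S q : Set G) := by rw [hperm r]
        _ = (S r : Set G) * ((K : Set G) * (S q : Set G)) := mul_assoc _ _ _
    · rw [Finset.prod_insert hqT]
      refine (card_mulSubgroup_dvd K (S q) (hperm q)).trans ?_
      rw [mul_comm]
      exact Nat.mul_dvd_mul_left _ hcard
    · intro q' hq'
      rw [Finset.mem_insert] at hq'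
      rcases hq' with rfl | hq'
      · exact right_le_mulSubgroup K _ (hperm _)
      · exact (hle q' hq').trans (left_le_mulSubgroup K _ (hperm q))

theorem result {G : Type*} [Group G] [Finite G]
    (S : (p : Nat.Primes) → Sylow (p : ℕ) G)
    (hS : ∀ p q : Nat.Primes, (S p : Set G) * (S q : Set G) = (S q : Set G) * (S p : Set G)) :
    Group.IsSolvable G := by
  classical
  apply Cfsg.Agent.S0006.result
  intro p hp
  have hN : Nat.card G ≠ 0 := Nat.card_pos.ne'
  obtain ⟨T, hT⟩ : ∃ T : Finset Nat.Primes, ∀ q : Nat.Primes,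
      q ∈ T ↔ ((q : ℕ) ≠ p ∧ (q : ℕ) ∈ (Nat.card G).primeFactors) :=
    by
    refine ⟨((Nat.card G).primeFactors.erase p).attach.image
      (fun x => mkP x.1 (Nat.prime_of_mem_primeFactors (Finset.mem_of_mem_erase x.2))),
      fun q => ?_⟩
    rw [Finset.mem_image]
    constructor
    · rintro ⟨x, _, rfl⟩
      rw [coe_mkP]
      exact Finset.mem_erase.mp x.2
    · intro h
      exact ⟨⟨(q : ℕ), Finset.mem_erase.mpr h⟩, Finset.mem_attach _ _,
        Nat.Primes.coe_nat_injective rfl⟩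
  obtain ⟨K, _, hcard, hle⟩ := exists_prod S hS T
  refine ⟨K, ?_⟩
  have hidx_dvd : K.index ∣ Nat.card G := Subgroup.index_dvd_card K
  have hA : ∀ {d : ℕ}, d.Prime → d ∣ K.index → d = p := by
    intro d hd hdK
    by_contra hne
    have hdN : d ∣ Nat.card G := hdK.trans hidx_dvd
    obtain ⟨dq, hdq⟩ : ∃ dq : Nat.Primes, (dq : ℕ) = d := ⟨mkP d hd, rfl⟩
    subst hdq
    have hmem : dq ∈ T := by
      rw [hT]
      exact ⟨hne, Nat.mem_primeFactors.mpr ⟨hd, hdN, hN⟩⟩
    have h1 := hle _ hmem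
    have h2 : K.index ∣ (S dq : Subgroup G).index := Subgroup.index_dvd_of_le h1
    have : Fact (dq : ℕ).Prime := ⟨dq.2⟩
    exact (S dq).not_dvd_index (hdK.trans h2)
  have hpow := Nat.eq_prime_pow_of_unique_prime_dvd (Subgroup.index_ne_zero_of_finite (H := K)) hA
  set j := K.index.primeFactorsList.length with hj
  have hB : Nat.Coprime (Nat.card K) p := by
    apply Nat.Coprime.coprime_dvd_left hcard
    apply Nat.Coprime.prod_left
    intro q hq
    rw [hT] at hq
    have : Fact (q : ℕ).Prime := ⟨q.2⟩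
    rw [(S q).card_eq_multiplicity]
    apply Nat.Coprime.pow_left
    exact (Nat.coprime_primes q.2 hp).mpr hq.1
  have hmul : Nat.card K * p ^ j = Nat.card G := by
    rw [← hpow]; exact Subgroup.card_mul_index K
  have hKne : Nat.card K ≠ 0 := Nat.card_pos.ne'
  have hfac : (Nat.card G).factorization p = j := by
    rw [← hmul, Nat.factorization_mul hKne (pow_ne_zero _ hp.ne_zero), hp.factorization_pow]
    have h0 : (Nat.card K).factorization p = 0 := by
      apply Nat.factorization_eq_zero_of_not_dvd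
      intro hdvd
      have := Nat.Coprime.eq_one_of_dvd hB.symm hdvd
      exact hp.one_lt.ne' this
    simp [h0]
  rw [hfac]
  exact hpow

end Cfsg.Agent.S0021
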