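import Cfsg.Statements.S0030
import Cfsg.Agent.Lib.Helper01.Coprime

set_option autoImplicit false
open Cfsg

namespace Cfsg.Agent.S0030

open Cfsg.Agent.Lib.Helper01 in
/-- Under coprime action fixed points of a product of two invariant subgroups factor: if K = X Y with X and Y normalised by A then every A-fixed element of K is a product of an A-fixed element of X and an A-fixed element of Y. -/
theorem result {G : Type*} [Group G] [Finite G] (A K : Subgroup G) (hAK : A ≤ Subgroup.normalizer (K : Set G))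
    (hcop : (Nat.card A).Coprime (Nat.card K)) (hsolv : Group.IsSolvable A ∨ Group.IsSolvable K)
    (X Y : Subgroup G) (hX : X ≤ K) (hY : Y ≤ K) (hXA : A ≤ Subgroup.normalizer (X : Set G)) (hYA : A ≤ Subgroup.normalizer (Y : Set G))
    (hXY : ∀ k ∈ K, ∃ x ∈ X, ∃ y ∈ Y, k = x * y) (k : G) (hk : k ∈ K ⊓ Subgroup.centralizer (A : Set G)) :
    ∃ x ∈ X ⊓ Subgroup.centralizer (A : Set G), ∃ y ∈ Y ⊓ Subgroup.centralizer (A : Set G), k = x * y := by
  obtain ⟨hkK, hkC⟩ := Subgroup.mem_inf.mp hk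
  obtain ⟨x, hx, y, hy, hkxy⟩ := hXY k hkK
  set D : Subgroup G := X ⊓ Y with hD
  have hDK : D ≤ K := inf_le_left.trans hX
  have hDA : A ≤ Subgroup.normalizer (D : Set G) :=
    (le_inf hXA hYA).trans Subgroup.inf_normalizer_le_normalizer_inf
  have hcopD : (Nat.card D).Coprime (Nat.card A) :=
    (Nat.Coprime.coprime_dvd_right (Subgroup.card_dvd_of_le hDK) hcop).symm
  have hsolv' : Group.IsSolvable D ∨ Group.IsSolvable A := by
    rcases hsolv with h | h
    · exact Or.inr h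
    · exact Or.inl (isSolvable_of_le hDK h)
  have hk' : ∀ a ∈ A, x⁻¹ * a * x * a⁻¹ ∈ D := by
    intro a ha
    have hcomm : a * k = k * a := (Subgroup.mem_centralizer_iff.mp hkC a ha)
    have haxa : a * x * a⁻¹ ∈ X := (Subgroup.mem_normalizer_iff.mp (hXA ha) x).mp hx
    have haya : a * y * a⁻¹ ∈ Y := (Subgroup.mem_normalizer_iff.mp (hYA ha) y).mp hy
    refine Subgroup.mem_inf.mpr ⟨?_, ?_⟩
    · have := X.mul_mem (X.inv_mem hx) haxa
      simpa [mul_assoc] using this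
    · have h1 : x⁻¹ * a * x * a⁻¹ = y * (a * y * a⁻¹)⁻¹ := by
        have h2 : a * (x * y) * a⁻¹ = x * y := by
          rw [← hkxy, hcomm]; group
        have h3 : (a * x * a⁻¹) * (a * y * a⁻¹) = x * y := by
          rw [← h2]; group
        calc x⁻¹ * a * x * a⁻¹ = x⁻¹ * ((a * x * a⁻¹) * (a * y * a⁻¹)) * (a * y * a⁻¹)⁻¹ := by group
          _ = x⁻¹ * (x * y) * (a * y * a⁻¹)⁻¹ := by rw [h3]
          _ = y * (a * y * a⁻¹)⁻¹ := by group
      rw [h1]
      exact Y.mul_mem hy (Y.inv_mem haya)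
  obtain ⟨d, hd, hdA⟩ := exists_mul_inv_normalizes hDA hcopD hsolv' x hk'
  have hdisj : K ⊓ A = ⊥ := (Subgroup.disjoint_of_coprime_natCard hcop.symm).eq_bot
  have hdX : d ∈ X := (Subgroup.mem_inf.mp hd).1
  have hdY : d ∈ Y := (Subgroup.mem_inf.mp hd).2
  have hcX : d * x⁻¹ ∈ X := X.mul_mem hdX (X.inv_mem hx)
  have hcent := mem_centralizer_of_conj_smul_eq hAK hdisj (hX hcX) hdA
  refine ⟨(d * x⁻¹)⁻¹, Subgroup.mem_inf.mpr ⟨X.inv_mem hcX, Subgroup.inv_mem _ hcent⟩,
    (d * x⁻¹) * k, Subgroup.mem_inf.mpr ⟨?_, Subgroup.mul_mem _ hcent hkC⟩, by group⟩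
  have : d * x⁻¹ * k = d * y := by rw [hkxy]; group
  rw [this]
  exact Y.mul_mem hdY hy

end Cfsg.Agent.S0030
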