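import Cfsg.Statements.S0031
import Mathlib

set_option autoImplicit false
open Cfsg

namespace Cfsg.Agent.S0031

open scoped Pointwise in
/-- A fixed-point-free automorphism of a finite group maps some Sylow p-subgroup to itself. -/
theorem result {G : Type*} [Group G] [Finite G] (φ : G ≃* G)
    (hφ : MonoidHom.FixedPointFree (φ : G →* G)) (p : ℕ) [Fact p.Prime] :
    ∃ P : Sylow p G, (P : Subgroup G).map (φ : G →* G) = P := by
  let P : Sylow p G := default
  let ψ : MulAut G := φ
  obtain ⟨g, hg⟩ := MulAction.exists_smul_eq G P (ψ • P)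
  obtain ⟨h', hh'⟩ := hφ.commutatorMap_surjective g⁻¹
  rw [MonoidHom.commutatorMap_apply] at hh'
  -- g = φ(h)⁻¹ h with h = h'⁻¹
  set h := h'⁻¹ with hh
  have hgh : φ h * g = h := by
    have h1 : g = φ h' * h'⁻¹ := by
      have : g⁻¹ = h' / φ h' := hh'.symm
      calc g = (g⁻¹)⁻¹ := by group
        _ = (h' / φ h')⁻¹ := by rw [this]
        _ = φ h' * h'⁻¹ := by rw [div_eq_mul_inv, mul_inv_rev, inv_inv]
    rw [h1, hh, map_inv]; group
  have hconj : ψ * MulAut.conj h = MulAut.conj (φ h) * ψ := by
    ext x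
    simp only [MulAut.mul_apply, MulAut.conj_apply, ψ, map_mul, map_inv]
  refine ⟨h • P, ?_⟩
  have key : ψ • (h • P) = h • P := by
    rw [Sylow.smul_def, ← mul_smul, hconj, mul_smul, ← hg, Sylow.smul_def, ← mul_smul, ← map_mul, hgh]
  have := congrArg (fun Q : Sylow p G => (Q : Subgroup G)) key
  simp only [Sylow.pointwise_smul_def] at this
  rw [Subgroup.pointwise_smul_def] at this
  exact this

end Cfsg.Agent.S0031
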