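import Cfsg.Statements.S0036
import Cfsg.Agent.S0034

set_option autoImplicit false
open Cfsg

namespace Cfsg.Agent.S0036

open scoped Pointwise

theorem ti_mem {G : Type*} [Group G] (H : Subgroup G) (hH : Cfsg.IsFrobeniusComplement H)
    (x g : G) (hx : x ∈ H) (hx1 : x ≠ 1) (hg : g⁻¹ * x * g ∈ H) : g ∈ H := by
  by_contra hgH
  have h := hH.2.2 g hgH
  have hx2 : x ∈ H ⊓ (MulAut.conj g • H) := by
    refine Subgroup.mem_inf.mpr ⟨hx, ?_⟩
    rw [Subgroup.mem_pointwise_smul_iff_inv_smul_mem]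
    simpa [MulAut.smul_def] using hg
  rw [h] at hx2
  exact hx1 (Subgroup.mem_bot.mp hx2)

theorem mem_conj_iff {G : Type*} [Group G] (H : Subgroup G) (g x : G) :
    x ∈ MulAut.conj g • H ↔ g⁻¹ * x * g ∈ H := by
  rw [Subgroup.mem_pointwise_smul_iff_inv_smul_mem]
  simp [MulAut.smul_def]

theorem inv_prod {G : Type*} [Group G] (H : Subgroup G) (hH : Cfsg.IsFrobeniusComplement H)
    (a b g₁ g₂ : G) (ha : a * a = 1) (hb : b * b = 1) (ha1 : a ≠ 1) (hb1 : b ≠ 1)
    (hag : g₁⁻¹ * a * g₁ ∈ H) (hbg : g₂⁻¹ * b * g₂ ∈ H) (hne : g₁⁻¹ * g₂ ∉ H) :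
    a * b ∈ Cfsg.frobeniusKernel H := by
  by_cases hab : a * b = 1
  · exact Or.inl hab
  refine Or.inr fun g hg => ?_
  rw [mem_conj_iff] at hg
  have hainv : a⁻¹ = a := inv_eq_of_mul_eq_one_left ha
  have hbinv : b⁻¹ = b := inv_eq_of_mul_eq_one_left hb
  have hx1 : g⁻¹ * (a * b) * g ≠ 1 := by
    intro h
    apply hab
    have : a * b = g * (g⁻¹ * (a * b) * g) * g⁻¹ := by group
    rw [this, h]; group
  -- a' = g⁻¹ a g ∈ H
  have ha' : g⁻¹ * a * g ∈ H := by
    apply ti_mem H hH _ _ hg hx1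
    have : (g⁻¹ * a * g)⁻¹ * (g⁻¹ * (a * b) * g) * (g⁻¹ * a * g) = (g⁻¹ * (a * b) * g)⁻¹ := by
      have e1 : (g⁻¹ * a * g)⁻¹ * (g⁻¹ * (a * b) * g) * (g⁻¹ * a * g) = g⁻¹ * (a⁻¹ * a * b * a) * g := by
        group
      have e2 : (g⁻¹ * (a * b) * g)⁻¹ = g⁻¹ * (b⁻¹ * a⁻¹) * g := by group
      rw [e1, e2, hainv, hbinv, ha, one_mul]
    rw [this]
    exact H.inv_mem hg
  have hb' : g⁻¹ * b * g ∈ H := by
    have : g⁻¹ * b * g = (g⁻¹ * a * g)⁻¹ * (g⁻¹ * (a * b) * g) := by group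
    rw [this]
    exact H.mul_mem (H.inv_mem ha') hg
  have h1 : g₁⁻¹ * g ∈ H := by
    apply ti_mem H hH _ _ hag
    · intro h
      apply ha1
      have : a = g₁ * (g₁⁻¹ * a * g₁) * g₁⁻¹ := by group
      rw [this, h]; group
    · have : (g₁⁻¹ * g)⁻¹ * (g₁⁻¹ * a * g₁) * (g₁⁻¹ * g) = g⁻¹ * a * g := by group
      rw [this]; exact ha'
  have h2 : g₂⁻¹ * g ∈ H := by
    apply ti_mem H hH _ _ hbg
    · intro h
      apply hb1
      have : b = g₂ * (g₂⁻¹ * b * g₂) * g₂⁻¹ := by group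
      rw [this, h]; group
    · have : (g₂⁻¹ * g)⁻¹ * (g₂⁻¹ * b * g₂) * (g₂⁻¹ * g) = g⁻¹ * b * g := by group
      rw [this]; exact hb'
  apply hne
  have : g₁⁻¹ * g₂ = (g₁⁻¹ * g) * (g₂⁻¹ * g)⁻¹ := by group
  rw [this]
  exact H.mul_mem h1 (H.inv_mem h2)


/-- When a Frobenius complement contains an involution, an elementary argument shows the Frobenius kernel is closed under multiplication (hence a subgroup). -/
theorem result {G : Type*} [Group G] [Finite G] (H : Subgroup G) (hH : Cfsg.IsFrobeniusComplement H)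
    (t : G) (ht : t ∈ H) (ht1 : t ≠ 1) (ht2 : t * t = 1) :
    ∀ x ∈ Cfsg.frobeniusKernel H, ∀ y ∈ Cfsg.frobeniusKernel H, x * y ∈ Cfsg.frobeniusKernel H := by
  classical
  have hcard := (Cfsg.Agent.S0034.result H hH).1
  -- the conjugates of t indexed by cosets
  set s : G ⧸ H → G := fun q => q.out * t * q.out⁻¹ with hs
  have hs2 : ∀ q, s q * s q = 1 := by
    intro q
    have : s q * s q = q.out * (t * t) * q.out⁻¹ := by simp only [hs]; group
    rw [this, ht2]; group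
  have hs1 : ∀ q, s q ≠ 1 := by
    intro q h
    apply ht1
    have : t = q.out⁻¹ * s q * q.out := by simp only [hs]; group
    rw [this, h]; group
  have hsH : ∀ q, (q.out)⁻¹ * s q * q.out ∈ H := by
    intro q
    have : (q.out)⁻¹ * s q * q.out = t := by simp only [hs]; group
    rw [this]; exact ht
  have hout : ∀ q q' : G ⧸ H, q ≠ q' → (q.out)⁻¹ * q'.out ∉ H := by
    intro q q' hne hmem
    apply hne
    rw [← QuotientGroup.out_eq' q, ← QuotientGroup.out_eq' q']
    exact QuotientGroup.eq.mpr hmem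
  have hK : ∀ q q', s q * s q' ∈ Cfsg.frobeniusKernel H := by
    intro q q'
    by_cases hqq : q = q'
    · subst hqq
      exact Or.inl (hs2 q)
    · exact inv_prod H hH (s q) (s q') q.out q'.out (hs2 q) (hs2 q') (hs1 q) (hs1 q') (hsH q) (hsH q')
        (hout q q' hqq)
  have hsinj : Function.Injective s := by
    intro q q' h
    by_contra hne
    have h1 := hsH q
    have h2 := hsH q'
    rw [← h] at h2
    -- s q is in both conjugates
    have h3 : (q.out)⁻¹ * q'.out ∈ H := by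
      apply ti_mem H hH _ _ h1
      · intro h0
        apply hs1 q
        have : s q = q.out * ((q.out)⁻¹ * s q * q.out) * (q.out)⁻¹ := by group
        rw [this, h0]; group
      · have : ((q.out)⁻¹ * q'.out)⁻¹ * ((q.out)⁻¹ * s q * q.out) * ((q.out)⁻¹ * q'.out)
            = (q'.out)⁻¹ * s q * q'.out := by group
        rw [this]; exact h2
    exact hout q q' hne h3
  have hbij : ∀ q₀ : G ⧸ H, ∀ x ∈ Cfsg.frobeniusKernel H, ∃ q, x = s q₀ * s q := by
    intro q₀ x hx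
    let F : G ⧸ H → Cfsg.frobeniusKernel H := fun q => ⟨s q₀ * s q, hK q₀ q⟩
    have hF : Function.Injective F := by
      intro q q' h
      have : s q₀ * s q = s q₀ * s q' := congrArg Subtype.val h
      exact hsinj (mul_left_cancel this)
    have : Finite (Cfsg.frobeniusKernel H) := Set.toFinite _ |>.to_subtype
    have hle : Nat.card (Cfsg.frobeniusKernel H) ≤ Nat.card (G ⧸ H) := by
      rw [hcard]; exact le_of_eq rfl
    have hsurj := (hF.bijective_of_nat_card_le hle).2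
    obtain ⟨q, hq⟩ := hsurj ⟨x, hx⟩
    exact ⟨q, (congrArg Subtype.val hq).symm⟩
  intro x hx y hy
  obtain ⟨q₁, hq₁⟩ := hbij (QuotientGroup.mk 1) x hx
  obtain ⟨q₂, hq₂⟩ := hbij q₁ y hy
  have : x * y = s (QuotientGroup.mk 1) * s q₂ := by
    rw [hq₁, hq₂]
    have : s (QuotientGroup.mk 1) * s q₁ * (s q₁ * s q₂) = s (QuotientGroup.mk 1) * (s q₁ * s q₁) * s q₂ := by
      group
    rw [this, hs2, mul_one]
  rw [this]
  exact hK _ _

end Cfsg.Agent.S0036
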