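import Cfsg.Statements.S3383
import Mathlib

set_option autoImplicit false
open Cfsg
open scoped Pointwise

namespace Cfsg.Agent.S3383

variable {L : Type*} [Group L]

theorem mem_conj_smul (H : Subgroup L) (g x : L) :
    x ∈ MulAut.conj g • H ↔ g⁻¹ * x * g ∈ H := by
  rw [Subgroup.mem_pointwise_smul_iff_inv_smul_mem]
  simp [MulAut.smul_def]

theorem mem_kernel_iff (H : Subgroup L) (K : Subgroup L) (hK : (K : Set L) = Cfsg.frobeniusKernel H)
    (x : L) : x ∈ K ↔ (x = 1 ∨ ∀ g : L, g⁻¹ * x * g ∉ H) := by
  have : x ∈ (K : Set L) ↔ x ∈ Cfsg.frobeniusKernel H := by rw [hK]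
  rw [SetLike.mem_coe] at this
  rw [this]
  unfold Cfsg.frobeniusKernel
  simp only [Set.mem_ofPred_eq, mem_conj_smul]

theorem result {L : Type*} [Group L] [Finite L]
    (H : Subgroup L) (hH : Cfsg.IsFrobeniusComplement H)
    (K : Subgroup L) (hK : (K : Set L) = Cfsg.frobeniusKernel H) :
    K.Characteristic ∧ ∀ N : Subgroup L, N.Normal → K ≤ N ∨ N ≤ K := by
  have hmem := mem_kernel_iff H K hK
  obtain ⟨hHbot, hHtop, hFrob⟩ := hH
  -- K ∩ H = 1
  have hKH : ∀ x, x ∈ K → x ∈ H → x = 1 := by
    intro x hxK hxH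
    rcases (hmem x).1 hxK with h | h
    · exact h
    · exact absurd (by simpa using hxH) (h 1)
  -- K normal
  have hKn : K.Normal := by
    constructor
    intro x hx y
    rw [hmem] at hx ⊢
    rcases hx with h | h
    · left; rw [h]; group
    · right
      intro g hg
      apply h (y⁻¹ * g)
      have : (y⁻¹ * g)⁻¹ * x * (y⁻¹ * g) = g⁻¹ * (y * x * y⁻¹) * g := by group
      rw [this]; exact hg
  -- comparability
  have hcomp : ∀ N : Subgroup L, N.Normal → K ≤ N ∨ N ≤ K := by
    intro N hN
    by_cases hNK : N ≤ K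
    · exact Or.inr hNK
    · left
      obtain ⟨x, hxN, hxK⟩ := SetLike.not_le_iff_exists.mp hNK
      rw [hmem] at hxK
      push Not at hxK
      obtain ⟨hx1, g, hg⟩ := hxK
      set y := g⁻¹ * x * g with hy
      have hyN : y ∈ N := by
        have := hN.conj_mem x hxN g⁻¹
        simpa [hy] using this
      have hy1 : y ≠ 1 := by
        intro h
        apply hx1
        have : x = g * y * g⁻¹ := by rw [hy]; group
        rw [this, h]; group
      -- the injection K → K ⊓ N
      have hmemKN : ∀ k : K, (k : L) * y * (k : L)⁻¹ * y⁻¹ ∈ K ⊓ N := by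
        intro k
        constructor
        · have h1 : y * (k : L)⁻¹ * y⁻¹ ∈ K := hKn.conj_mem _ (K.inv_mem k.2) y
          have h2 := K.mul_mem k.2 h1
          have : (k : L) * (y * (k : L)⁻¹ * y⁻¹) = (k : L) * y * (k : L)⁻¹ * y⁻¹ := by group
          rwa [this] at h2
        · have h1 : (k : L) * y * (k : L)⁻¹ ∈ N := hN.conj_mem y hyN k
          exact N.mul_mem h1 (N.inv_mem hyN)
      let f : K → (K ⊓ N : Subgroup L) := fun k => ⟨(k : L) * y * (k : L)⁻¹ * y⁻¹, hmemKN k⟩
      have hinj : Function.Injective f := by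
        intro k k' hkk
        have h1 : (k : L) * y * (k : L)⁻¹ * y⁻¹ = (k' : L) * y * (k' : L)⁻¹ * y⁻¹ :=
          congrArg Subtype.val hkk
        have h2 : (k : L) * y * (k : L)⁻¹ = (k' : L) * y * (k' : L)⁻¹ := mul_right_cancel h1
        set c : L := (k' : L)⁻¹ * (k : L) with hc
        have hcK : c ∈ K := K.mul_mem (K.inv_mem k'.2) k.2
        have hcy : c * y * c⁻¹ = y := by
          have : c * y * c⁻¹ = (k' : L)⁻¹ * ((k : L) * y * (k : L)⁻¹) * (k' : L) := by
            rw [hc]; group
          rw [this, h2]; group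
        have hcH : c ∈ H := by
          by_contra hcH
          have hbot := hFrob c hcH
          have hyin : y ∈ H ⊓ (MulAut.conj c • H) := by
            refine Subgroup.mem_inf.mpr ⟨hg, ?_⟩
            rw [mem_conj_smul]
            have : c⁻¹ * y * c = y := by
              have h3 : y = c⁻¹ * (c * y * c⁻¹) * c := by group
              rw [hcy] at h3
              exact h3.symm
            rw [this]; exact hg
          rw [hbot] at hyin
          exact hy1 (Subgroup.mem_bot.mp hyin)
        have hc1 : c = 1 := hKH c hcK hcH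
        apply Subtype.ext
        have : (k : L) = (k' : L) * c := by rw [hc]; group
        rw [this, hc1, mul_one]
      have hcard : Nat.card K ≤ Nat.card (K ⊓ N : Subgroup L) :=
        Nat.card_le_card_of_injective f hinj
      have heq : K ⊓ N = K := Subgroup.eq_of_le_of_card_ge inf_le_left hcard
      rw [← heq]
      exact inf_le_right
  refine ⟨?_, hcomp⟩
  rw [Subgroup.characteristic_iff_map_le]
  intro ϕ
  have hNn : (K.map ϕ.toMonoidHom).Normal := hKn.map ϕ.toMonoidHom ϕ.surjective
  have hcard : Nat.card (K.map ϕ.toMonoidHom) = Nat.card K :=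
    Subgroup.card_map_of_injective ϕ.injective
  rcases hcomp _ hNn with h | h
  · have := Subgroup.eq_of_le_of_card_ge h (le_of_eq hcard)
    rw [← this]
  · exact h

end Cfsg.Agent.S3383
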