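import Cfsg.Statements.S0037
import Cfsg.Agent.S0035
import Cfsg.Agent.S0589
import Cfsg.Agent.S3383
import Cfsg.Agent.Lib.Helper01.Basic

set_option autoImplicit false
open Pointwise
open Cfsg

namespace Cfsg.Agent.S0037

/-- Of two Frobenius complements in one finite group, the one of smaller (or equal) order is conjugate to a subgroup of the other. -/
theorem result {G : Type*} [Group G] [Finite G] (H H₀ : Subgroup G)
    (hH : Cfsg.IsFrobeniusComplement H) (hH₀ : Cfsg.IsFrobeniusComplement H₀) (hle : Nat.card H₀ ≤ Nat.card H) :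
    ∃ g : G, MulAut.conj g • H₀ ≤ H := by
  classical
  obtain ⟨N, hNK, hNn, hNc⟩ := Cfsg.Agent.S0035.result H hH
  obtain ⟨N₀, hN₀K, hN₀n, hN₀c⟩ := Cfsg.Agent.S0035.result H₀ hH₀
  have hc1 : Nat.card N * Nat.card H = Nat.card G := hNc.card_mul_card
  have hc2 : Nat.card N₀ * Nat.card H₀ = Nat.card G := hN₀c.card_mul_card
  have hGpos : 0 < Nat.card G := Nat.card_pos
  have hNpos : 0 < Nat.card N := Nat.card_pos
  have hN₀pos : 0 < Nat.card N₀ := Nat.card_pos
  have hHpos : 0 < Nat.card H := Nat.card_pos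
  have hH₀pos : 0 < Nat.card H₀ := Nat.card_pos
  have hdich := (Cfsg.Agent.S3383.result H₀ hH₀ N₀ hN₀K).2 N hNn
  have hle' : N ≤ N₀ := by
    rcases hdich with h | h
    · -- N₀ ≤ N, then card equal
      have h1 : Nat.card N₀ ≤ Nat.card N := Subgroup.card_le_of_le h
      have h2 : Nat.card N ≤ Nat.card N₀ := by
        by_contra hlt
        rw [not_le] at hlt
        have : Nat.card N₀ * Nat.card H₀ < Nat.card N * Nat.card H :=
          Nat.mul_lt_mul_of_lt_of_le hlt hle hHpos
        omega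
      have : N₀ = N := Subgroup.eq_of_le_of_card_ge h h2
      exact this ▸ le_rfl
    · exact h
  have hdisj : N ⊓ H₀ = ⊥ := by
    have := hN₀c.disjoint
    exact le_bot_iff.mp (le_trans (inf_le_inf_right _ hle') this.le_bot)
  have hdvd : Nat.card H₀ ∣ Nat.card H := by
    have h1 : Nat.card (H₀ ⊔ N : Subgroup G) * Nat.card (N ⊓ H₀ : Subgroup G) = Nat.card N * Nat.card H₀ :=
      Cfsg.Agent.Lib.Helper01.card_sup_mul_card_inf N H₀
    rw [hdisj, Subgroup.card_bot, mul_one] at h1
    have h2 : Nat.card (H₀ ⊔ N : Subgroup G) ∣ Nat.card G := Subgroup.card_subgroup_dvd_card _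
    rw [h1, ← hc1] at h2
    exact (Nat.mul_dvd_mul_iff_left hNpos).mp h2
  obtain ⟨x, hx⟩ := Cfsg.Agent.S0589.result H hH H₀ hdvd
  refine ⟨x⁻¹, ?_⟩
  intro y hy
  rw [Subgroup.mem_pointwise_smul_iff_inv_smul_mem] at hy
  have := hx hy
  rw [Subgroup.mem_pointwise_smul_iff_inv_smul_mem] at this
  simpa [MulAut.smul_def, mul_assoc] using this

end Cfsg.Agent.S0037
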