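import Cfsg.Statements.S0038
import Cfsg.Agent.S0034
import Cfsg.Agent.S0035
import Cfsg.Agent.S0036
import Cfsg.Agent.S0037
import Cfsg.Agent.Lib.Helper01.Basic
import Cfsg.Agent.Lib.Helper01.FrobPartition
import Cfsg.Agent.Lib.Helper01.FrobInvariant

set_option autoImplicit false
open Pointwise
open Cfsg

namespace Cfsg.Agent.S0038

open scoped Pointwise
open Cfsg.Agent.Lib.Helper01

theorem conj_frob {G : Type*} [Group G] [Finite G] (H : Subgroup G)
    (hH : Cfsg.IsFrobeniusComplement H) (g : G) :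
    Cfsg.IsFrobeniusComplement (MulAut.conj g • H) := by
  refine ⟨?_, ?_, ?_⟩
  · intro h
    have := card_conj_smul g H
    rw [h, Subgroup.card_bot] at this
    exact hH.1 (Subgroup.card_eq_one.mp this.symm)
  · intro h
    have := card_conj_smul g H
    rw [h, Subgroup.card_top] at this
    exact hH.2.1 ((Subgroup.card_eq_iff_eq_top H).mp this.symm)
  · intro x hx
    rw [eq_bot_iff]
    intro y hy
    obtain ⟨hy1, hy2⟩ := Subgroup.mem_inf.mp hy
    rw [mem_conj_smul_iff_mul] at hy1 hy2
    rw [mem_conj_smul_iff_mul] at hy2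
    rw [Subgroup.mem_bot]
    by_contra hy0
    apply hx
    rw [mem_conj_smul_iff_mul]
    apply Cfsg.Agent.S0036.ti_mem H hH (g⁻¹ * y * g) (g⁻¹ * x * g) hy1
    · intro h
      apply hy0
      have : y = g * (g⁻¹ * y * g) * g⁻¹ := by group
      rw [this, h]; group
    · have : (g⁻¹ * x * g)⁻¹ * (g⁻¹ * y * g) * (g⁻¹ * x * g) = g⁻¹ * (x⁻¹ * y * x) * g := by group
      rw [this]; exact hy2

theorem no_proper {G : Type*} [Group G] [Finite G] (H H₁ : Subgroup G)
    (hH : Cfsg.IsFrobeniusComplement H) (hH₁ : Cfsg.IsFrobeniusComplement H₁)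
    (hle : H₁ ≤ H) (hne : H₁ ≠ H) : False := by
  classical
  obtain ⟨N, hNK, hNn, hNc⟩ := Cfsg.Agent.S0035.result H hH
  haveI := hNn
  have hcop : (Nat.card N).Coprime (Nat.card H) := by
    have h1 := (Cfsg.Agent.S0034.result H hH).2
    have h2 : H.index = Nat.card N := hNc.index_eq_card
    rw [h2] at h1
    have h3 : Nat.ModEq (Nat.card H) (Nat.card N) 1 := h1
    have := h3.gcd_eq
    rw [Nat.gcd_one_left] at this
    exact this
  obtain ⟨W, hWN, hWbot, hWc, hWH⟩ := exists_invariant_abelian_of_frobenius H N hH hNc hcop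
  letI : CommGroup W := { (inferInstance : Group W) with
    mul_comm := fun a b => Subtype.ext (hWc a a.2 b b.2) }
  letI : MulDistribMulAction H W :=
    { smul := fun h w => ⟨h * w * h⁻¹, hWH h h.2 w w.2⟩
      one_smul := fun w => by
        apply Subtype.ext
        change ((1 : H) : G) * w * ((1 : H) : G)⁻¹ = w
        simp
      mul_smul := fun a b w => by
        apply Subtype.ext
        change ((a * b : H) : G) * w * ((a * b : H) : G)⁻¹ = (a : G) * ((b : G) * w * (b : G)⁻¹) * (a : G)⁻¹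
        rw [Subgroup.coe_mul]; group
      smul_mul := fun a w w' => by
        apply Subtype.ext
        change (a : G) * ((w * w' : W) : G) * (a : G)⁻¹ = ((a : G) * w * (a : G)⁻¹) * ((a : G) * w' * (a : G)⁻¹)
        rw [Subgroup.coe_mul]; group
      smul_one := fun a => by
        apply Subtype.ext
        change (a : G) * ((1 : W) : G) * (a : G)⁻¹ = ((1 : W) : G)
        simp }
  have hsmul : ∀ (x : H) (a : W), ((x • a : W) : G) = (x : G) * a * (x : G)⁻¹ := fun x a => rfl
  have hfpf : ∀ x : H, x ≠ 1 → ∀ a : W, x • a = a → a = 1 := by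
    intro x hx a hxa
    have h1 : (x : G) * a * (x : G)⁻¹ = a := by rw [← hsmul, hxa]
    by_contra ha
    have h2 : (a : G) ∈ H := by
      apply Cfsg.Agent.S0036.ti_mem H hH (x : G) (a : G) x.2
      · intro h; exact hx (Subtype.ext h)
      · have : (a : G)⁻¹ * x * a = x := by
          calc (a : G)⁻¹ * x * a = (a : G)⁻¹ * ((x : G) * a * (x : G)⁻¹) * x := by group
            _ = x := by rw [h1]; group
        rw [this]; exact x.2
    have h3 : (a : G) ∈ N ⊓ H := Subgroup.mem_inf.mpr ⟨hWN a.2, h2⟩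
    rw [hNc.disjoint.eq_bot, Subgroup.mem_bot] at h3
    exact ha (Subtype.ext h3)
  have hH₁' : Cfsg.IsFrobeniusComplement (H₁.subgroupOf H) := by
    refine ⟨?_, ?_, ?_⟩
    · intro h
      apply hH₁.1
      rw [eq_bot_iff]
      intro y hy
      have : (⟨y, hle hy⟩ : H) ∈ H₁.subgroupOf H := Subgroup.mem_subgroupOf.mpr hy
      rw [h, Subgroup.mem_bot] at this
      rw [Subgroup.mem_bot]
      exact congrArg Subtype.val this
    · intro h
      rw [Subgroup.subgroupOf_eq_top] at h
      exact hne (le_antisymm hle h)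
    · intro g hg
      rw [eq_bot_iff]
      intro y hy
      obtain ⟨hy1, hy2⟩ := Subgroup.mem_inf.mp hy
      rw [mem_conj_smul_iff_mul] at hy2
      rw [Subgroup.mem_subgroupOf] at hy1 hy2
      rw [Subgroup.mem_bot]
      by_contra hy0
      apply hg
      rw [Subgroup.mem_subgroupOf]
      apply Cfsg.Agent.S0036.ti_mem H₁ hH₁ (y : G) (g : G) hy1
      · intro h; exact hy0 (Subtype.ext h)
      · simpa using hy2
  have hall : ∀ a : W, a = 1 := by
    intro a
    have h1 := pow_index_eq_one_of_fpf hfpf (H₁.subgroupOf H) hH₁' a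
    have h2 : a ^ Nat.card W = 1 := pow_card_eq_one'
    have h3 : orderOf a ∣ (H₁.subgroupOf H).index := orderOf_dvd_of_pow_eq_one h1
    have h4 : orderOf a ∣ Nat.card W := orderOf_dvd_of_pow_eq_one h2
    have h5 : (H₁.subgroupOf H).index ∣ Nat.card H := Subgroup.index_dvd_card _
    have h6 : Nat.card W ∣ Nat.card N := Subgroup.card_dvd_of_le hWN
    have h7 : orderOf a ∣ Nat.gcd (Nat.card N) (Nat.card H) :=
      Nat.dvd_gcd (h4.trans h6) (h3.trans h5)
    rw [hcop, Nat.dvd_one] at h7
    exact orderOf_eq_one_iff.mp h7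
  apply hWbot
  rw [eq_bot_iff]
  intro w hw
  rw [Subgroup.mem_bot]
  exact congrArg Subtype.val (hall ⟨w, hw⟩)

theorem aux {G : Type*} [Group G] [Finite G] (H H₀ : Subgroup G)
    (hH : Cfsg.IsFrobeniusComplement H) (hH₀ : Cfsg.IsFrobeniusComplement H₀)
    (hle : Nat.card H₀ ≤ Nat.card H) : ∃ g : G, MulAut.conj g • H₀ = H := by
  obtain ⟨g, hg⟩ := Cfsg.Agent.S0037.result H H₀ hH hH₀ hle
  refine ⟨g, ?_⟩
  by_contra hne
  exact no_proper H (MulAut.conj g • H₀) hH (conj_frob H₀ hH₀ g) hg hne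


/-- All Frobenius complements of a finite group are conjugate to one another. -/
theorem result {G : Type*} [Group G] [Finite G] (H H₀ : Subgroup G)
    (hH : Cfsg.IsFrobeniusComplement H) (hH₀ : Cfsg.IsFrobeniusComplement H₀) :
    ∃ g : G, MulAut.conj g • H₀ = H := by
  rcases le_total (Nat.card H₀) (Nat.card H) with h | h
  · exact aux H H₀ hH hH₀ h
  · obtain ⟨g, hg⟩ := aux H₀ H hH₀ hH h
    refine ⟨g⁻¹, ?_⟩
    rw [← hg, smul_smul, ← map_mul, inv_mul_cancel, map_one, one_smul]

end Cfsg.Agent.S0038
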