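import Cfsg.Statements.S0043
import Mathlib

set_option autoImplicit false
open Cfsg

namespace Cfsg.Agent.S0043

/-- the `p`-torsion of a commutative subgroup -/
def torsionSub {G : Type*} [Group G] (N : Subgroup G) [IsMulCommutative N] (p : ℕ) : Subgroup G where
  carrier := {x | x ∈ N ∧ x ^ p = 1}
  one_mem' := ⟨N.one_mem, one_pow p⟩
  mul_mem' := by
    rintro x y ⟨hx, hxp⟩ ⟨hy, hyp⟩
    refine ⟨N.mul_mem hx hy, ?_⟩
    have hc : Commute x y := setLike_mul_comm hx hy
    rw [hc.mul_pow, hxp, hyp, one_mul]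
  inv_mem' := by
    rintro x ⟨hx, hxp⟩
    exact ⟨N.inv_mem hx, by rw [inv_pow, hxp, inv_one]⟩

/-- A minimal normal subgroup of a finite solvable group is abelian, and for some prime p all of its elements have order dividing p. -/
theorem result {G : Type*} [Group G] [Finite G] [Group.IsSolvable G]
    (N : Subgroup G) [N.Normal] (hN : N ≠ ⊥) (hmin : ∀ M : Subgroup G, M.Normal → M ≤ N → M = ⊥ ∨ M = N) :
    IsMulCommutative N ∧ ∃ p : ℕ, p.Prime ∧ ∀ x ∈ N, x ^ p = 1 := by
  have hcomm : IsMulCommutative N := by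
    rw [← Subgroup.commutator_self_eq_bot_iff]
    have hlt : ⁅N, N⁆ < N := Group.IsSolvable.commutator_lt_of_ne_bot hN
    rcases hmin ⁅N, N⁆ (Subgroup.commutator_normal N N) hlt.le with h | h
    · exact h
    · exact absurd h hlt.ne
  refine ⟨hcomm, ?_⟩
  have hcard : Nat.card N ≠ 1 := by
    intro h
    exact hN (Subgroup.card_eq_one.mp h)
  obtain ⟨p, hp, hpd⟩ := Nat.exists_prime_and_dvd hcard
  haveI : Fact p.Prime := ⟨hp⟩
  obtain ⟨x, hx⟩ := exists_prime_orderOf_dvd_card' (G := N) p hpd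
  refine ⟨p, hp, ?_⟩
  have hMn : (torsionSub N p).Normal := by
    constructor
    rintro y ⟨hy, hyp⟩ g
    refine ⟨‹N.Normal›.conj_mem y hy g, ?_⟩
    rw [conj_pow, hyp, mul_one, mul_inv_cancel]
  have hMle : torsionSub N p ≤ N := fun y hy => hy.1
  rcases hmin _ hMn hMle with h | h
  · exfalso
    have hxM : (x : G) ∈ torsionSub N p := by
      refine ⟨x.2, ?_⟩
      have : x ^ p = 1 := by rw [← hx]; exact pow_orderOf_eq_one x
      exact_mod_cast congrArg Subtype.val this
    rw [h, Subgroup.mem_bot] at hxM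
    have hx1 : x = 1 := Subtype.ext hxM
    rw [hx1, orderOf_one] at hx
    exact hp.one_lt.ne hx
  · intro y hy
    rw [← h] at hy
    exact hy.2

end Cfsg.Agent.S0043
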