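import Cfsg.Statements.S0047
import Mathlib

set_option autoImplicit false
open Cfsg

namespace Cfsg.Agent.S0047

open scoped commutatorElement

variable {G : Type*} [Group G]

theorem comm_of_mem {A : Subgroup G} [IsMulCommutative A] {x y : G} (hx : x ∈ A) (hy : y ∈ A) :
    x * y = y * x := by
  exact setLike_mul_comm hx hy

theorem conj_of_mem {A : Subgroup G} [IsMulCommutative A] {x y : G} (hx : x ∈ A) (hy : y ∈ A) :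
    x * y * x⁻¹ = y := by
  rw [comm_of_mem hx hy]; group

/-- `⁅a3 * b3, b⁆ = ⁅a3, b⁆` when `b3` commutes with `b`. -/
theorem comm_mul_left (a3 b3 b : G) (h : b3 * b * b3⁻¹ = b) : ⁅a3 * b3, b⁆ = ⁅a3, b⁆ := by
  rw [commutatorElement_def, commutatorElement_def]
  calc a3 * b3 * b * (a3 * b3)⁻¹ * b⁻¹ = a3 * (b3 * b * b3⁻¹) * a3⁻¹ * b⁻¹ := by group
    _ = a3 * b * a3⁻¹ * b⁻¹ := by rw [h]

/-- `⁅a3, b2 * a2⁆ = ⁅a3, b2⁆` when `a2` commutes with `a3`. -/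
theorem comm_mul_right (a3 b2 a2 : G) (h : a2 * a3⁻¹ * a2⁻¹ = a3⁻¹) : ⁅a3, b2 * a2⁆ = ⁅a3, b2⁆ := by
  rw [commutatorElement_def, commutatorElement_def]
  calc a3 * (b2 * a2) * a3⁻¹ * (b2 * a2)⁻¹ = a3 * b2 * (a2 * a3⁻¹ * a2⁻¹) * b2⁻¹ := by group
    _ = a3 * b2 * a3⁻¹ * b2⁻¹ := by rw [h]

theorem key (A B : Subgroup G) [IsMulCommutative A] [IsMulCommutative B]
    (hAB : ∀ g : G, ∃ a ∈ A, ∃ b ∈ B, g = a * b)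
    (a a1 b b1 : G) (ha : a ∈ A) (ha1 : a1 ∈ A) (hb : b ∈ B) (hb1 : b1 ∈ B) :
    (a1 * b1) * ⁅a, b⁆ * (a1 * b1)⁻¹ = (b1 * a1) * ⁅a, b⁆ * (b1 * a1)⁻¹ := by
  have hBA : ∀ g : G, ∃ b ∈ B, ∃ a ∈ A, g = b * a := by
    intro g
    obtain ⟨a', ha', b', hb', h⟩ := hAB g⁻¹
    refine ⟨b'⁻¹, B.inv_mem hb', a'⁻¹, A.inv_mem ha', ?_⟩
    rw [← mul_inv_rev, ← h, inv_inv]
  obtain ⟨a3, ha3, b3, hb3, h3⟩ := hAB (b1 * a * b1⁻¹)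
  obtain ⟨b2, hb2, a2, ha2, h2⟩ := hBA (a1 * b * a1⁻¹)
  have e1 : (a1 * b1) * ⁅a, b⁆ * (a1 * b1)⁻¹ = ⁅a3, b2⁆ := by
    calc (a1 * b1) * ⁅a, b⁆ * (a1 * b1)⁻¹ = a1 * (b1 * ⁅a, b⁆ * b1⁻¹) * a1⁻¹ := by group
      _ = a1 * ⁅b1 * a * b1⁻¹, b1 * b * b1⁻¹⁆ * a1⁻¹ := by rw [conjugate_commutatorElement]
      _ = a1 * ⁅a3 * b3, b⁆ * a1⁻¹ := by rw [conj_of_mem hb1 hb, h3]
      _ = a1 * ⁅a3, b⁆ * a1⁻¹ := by rw [comm_mul_left _ _ _ (conj_of_mem hb3 hb)]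
      _ = ⁅a1 * a3 * a1⁻¹, a1 * b * a1⁻¹⁆ := by rw [conjugate_commutatorElement]
      _ = ⁅a3, b2 * a2⁆ := by rw [conj_of_mem ha1 ha3, h2]
      _ = ⁅a3, b2⁆ := by rw [comm_mul_right _ _ _ (conj_of_mem ha2 (A.inv_mem ha3))]
  have e2 : (b1 * a1) * ⁅a, b⁆ * (b1 * a1)⁻¹ = ⁅a3, b2⁆ := by
    calc (b1 * a1) * ⁅a, b⁆ * (b1 * a1)⁻¹ = b1 * (a1 * ⁅a, b⁆ * a1⁻¹) * b1⁻¹ := by group
      _ = b1 * ⁅a1 * a * a1⁻¹, a1 * b * a1⁻¹⁆ * b1⁻¹ := by rw [conjugate_commutatorElement]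
      _ = b1 * ⁅a, b2 * a2⁆ * b1⁻¹ := by rw [conj_of_mem ha1 ha, h2]
      _ = b1 * ⁅a, b2⁆ * b1⁻¹ := by rw [comm_mul_right _ _ _ (conj_of_mem ha2 (A.inv_mem ha))]
      _ = ⁅b1 * a * b1⁻¹, b1 * b2 * b1⁻¹⁆ := by rw [conjugate_commutatorElement]
      _ = ⁅a3 * b3, b2⁆ := by rw [conj_of_mem hb1 hb2, h3]
      _ = ⁅a3, b2⁆ := by rw [comm_mul_left _ _ _ (conj_of_mem hb3 hb2)]
  rw [e1, e2]

theorem key2 (A B : Subgroup G) [IsMulCommutative A] [IsMulCommutative B]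
    (hAB : ∀ g : G, ∃ a ∈ A, ∃ b ∈ B, g = a * b)
    (a a1 b b1 : G) (ha : a ∈ A) (ha1 : a1 ∈ A) (hb : b ∈ B) (hb1 : b1 ∈ B) :
    ⁅a, b⁆ * ⁅a1, b1⁆ = ⁅a1, b1⁆ * ⁅a, b⁆ := by
  have h := key A B hAB a a1⁻¹ b b1⁻¹ ha (A.inv_mem ha1) hb (B.inv_mem hb1)
  have h2 : ⁅a1, b1⁆ = (b1⁻¹ * a1⁻¹)⁻¹ * (a1⁻¹ * b1⁻¹) := by
    rw [commutatorElement_def]; group
  set c := ⁅a, b⁆ with hc
  have h3 : ((b1⁻¹ * a1⁻¹)⁻¹ * (a1⁻¹ * b1⁻¹)) * c * ((b1⁻¹ * a1⁻¹)⁻¹ * (a1⁻¹ * b1⁻¹))⁻¹ = c := by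
    calc ((b1⁻¹ * a1⁻¹)⁻¹ * (a1⁻¹ * b1⁻¹)) * c * ((b1⁻¹ * a1⁻¹)⁻¹ * (a1⁻¹ * b1⁻¹))⁻¹
        = (b1⁻¹ * a1⁻¹)⁻¹ * ((a1⁻¹ * b1⁻¹) * c * (a1⁻¹ * b1⁻¹)⁻¹) * (b1⁻¹ * a1⁻¹) := by group
      _ = (b1⁻¹ * a1⁻¹)⁻¹ * ((b1⁻¹ * a1⁻¹) * c * (b1⁻¹ * a1⁻¹)⁻¹) * (b1⁻¹ * a1⁻¹) := by rw [h]
      _ = c := by group
  rw [h2]
  set d := (b1⁻¹ * a1⁻¹)⁻¹ * (a1⁻¹ * b1⁻¹) with hd
  calc c * d = (d * c * d⁻¹) * d := by rw [h3]
    _ = d * c := by group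

/-- A finite group which is the product AB of two abelian subgroups A and B is solvable. -/
theorem result {G : Type*} [Group G] [Finite G] (A B : Subgroup G)
    [IsMulCommutative A] [IsMulCommutative B] (hAB : ∀ g : G, ∃ a ∈ A, ∃ b ∈ B, g = a * b) :
    Group.IsSolvable G := by
  -- N = ⁅A, B⁆ is commutative
  have hNcomm : IsMulCommutative (⁅A, B⁆ : Subgroup G) := by
    rw [Subgroup.commutator_def]
    apply Subgroup.isMulCommutative_closure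
    rintro x ⟨a, ha, b, hb, rfl⟩ y ⟨a1, ha1, b1, hb1, rfl⟩
    exact key2 A B hAB a a1 b b1 ha ha1 hb hb1
  -- N is normal
  have hNnormal : (⁅A, B⁆ : Subgroup G).Normal := by
    rw [← Subgroup.normalizer_eq_top_iff, eq_top_iff]
    intro g _
    obtain ⟨a, ha, b, hb, rfl⟩ := hAB g
    exact Subgroup.mul_mem _ (Subgroup.normalizer_commutator_ge_left A B ha)
      (Subgroup.normalizer_commutator_ge_right A B hb)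
  -- G' ≤ N
  have hle : commutator G ≤ ⁅A, B⁆ := by
    rw [commutator_def, Subgroup.commutator_le]
    intro g _ h _
    obtain ⟨a, ha, b, hb, rfl⟩ := hAB g
    obtain ⟨a', ha', b', hb', rfl⟩ := hAB h
    have h1 : ⁅b, a' * b'⁆ ∈ ⁅A, B⁆ := by
      rw [commutatorElement_mul_right_eq_mul_conj]
      have e1 : ⁅b, b'⁆ = 1 := (commutatorElement_eq_one_iff_mul_comm).mpr (comm_of_mem hb hb')
      have e2 : ⁅b, a'⁆ ∈ ⁅A, B⁆ := by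
        rw [← commutatorElement_inv]
        exact Subgroup.inv_mem _ (Subgroup.commutator_mem_commutator ha' hb)
      rw [e1]
      simpa using e2
    have h2 : ⁅a, a' * b'⁆ ∈ ⁅A, B⁆ := by
      rw [commutatorElement_mul_right_eq_mul_conj]
      have e1 : ⁅a, a'⁆ = 1 := (commutatorElement_eq_one_iff_mul_comm).mpr (comm_of_mem ha ha')
      have e2 : ⁅a, b'⁆ ∈ ⁅A, B⁆ := Subgroup.commutator_mem_commutator ha hb'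
      rw [e1, one_mul]
      exact hNnormal.conj_mem _ e2 a'
    rw [commutatorElement_mul_left_eq_conj_mul]
    exact Subgroup.mul_mem _ (hNnormal.conj_mem _ h1 a) h2
  rw [Group.isSolvable_def]
  refine ⟨2, ?_⟩
  rw [derivedSeries_succ, derivedSeries_one, eq_bot_iff]
  calc ⁅commutator G, commutator G⁆ ≤ ⁅(⁅A, B⁆ : Subgroup G), ⁅A, B⁆⁆ := Subgroup.commutator_mono hle hle
    _ = ⊥ := Subgroup.commutator_self_eq_bot_iff.mpr hNcomm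

end Cfsg.Agent.S0047
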