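import Cfsg.Statements.S0048
import Cfsg.Agent.S0043
import Cfsg.Agent.Lib.Helper01.Basic

set_option autoImplicit false
open Cfsg

namespace Cfsg.Agent.S0048

open Cfsg.Agent.Lib.Helper01

universe u

theorem exists_minimal_normal {G : Type u} [Group G] [Finite G] [Nontrivial G] :
    ∃ N : Subgroup G, N.Normal ∧ N ≠ ⊥ ∧ ∀ M : Subgroup G, M.Normal → M ≤ N → M = ⊥ ∨ M = N := by
  obtain ⟨N, hN⟩ := exists_minimal_of_wellFoundedLT (fun N : Subgroup G => N.Normal ∧ N ≠ ⊥)
    ⟨⊤, inferInstance, top_ne_bot⟩
  refine ⟨N, hN.prop.1, hN.prop.2, ?_⟩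
  intro M hM hMN
  by_cases hb : M = ⊥
  · exact Or.inl hb
  · right
    exact le_antisymm hMN (hN.le_of_le ⟨hM, hb⟩ hMN)

theorem aux (n : ℕ) : ∀ (G : Type u) [Group G] [Finite G] [Group.IsSolvable G], Nat.card G = n →
    ∀ M : Subgroup G, IsCoatom M → IsPrimePow M.index := by
  induction n using Nat.strong_induction_on with
  | _ n ih =>
    intro G _ _ _ hn M hM
    haveI : Nontrivial G := by
      by_contra h
      rw [not_nontrivial_iff_subsingleton] at h
      exact hM.1 (Subsingleton.elim _ _)
    obtain ⟨N, hNn, hNne, hNmin⟩ := exists_minimal_normal (G := G)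
    haveI := hNn
    obtain ⟨hNcomm, p, hp, hNp⟩ := Cfsg.Agent.S0043.result N hNne hNmin
    haveI : Fact p.Prime := ⟨hp⟩
    by_cases hNM : N ≤ M
    · -- pass to the quotient
      set M' : Subgroup (G ⧸ N) := (QuotientGroup.comapMk'OrderIso N).symm ⟨M, hNM⟩ with hM'
      have hcomap : M'.comap (QuotientGroup.mk' N) = M := by
        have := (QuotientGroup.comapMk'OrderIso N).apply_symm_apply ⟨M, hNM⟩
        exact congrArg Subtype.val this
      have hidx : M'.index = M.index := by
        rw [← hcomap, Subgroup.index_comap_of_surjective M' (QuotientGroup.mk'_surjective N)]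
      have hcoatom : IsCoatom M' := by
        constructor
        · intro h
          apply hM.1
          rw [← hcomap, h, Subgroup.comap_top]
        · intro B hB
          have h1 : M'.comap (QuotientGroup.mk' N) < B.comap (QuotientGroup.mk' N) :=
            (Subgroup.comap_lt_comap_of_surjective (QuotientGroup.mk'_surjective N)).mpr hB
          rw [hcomap] at h1
          have h2 := hM.2 _ h1
          have h3 := Subgroup.map_comap_eq_self_of_surjective (QuotientGroup.mk'_surjective N) B
          rw [h2, Subgroup.map_top_of_surjective _ (QuotientGroup.mk'_surjective N)] at h3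
          exact h3.symm
      have hlt : Nat.card (G ⧸ N) < n := by
        rw [← hn, Subgroup.card_eq_card_quotient_mul_card_subgroup N]
        apply lt_mul_of_one_lt_right Nat.card_pos
        exact (Subgroup.one_lt_card_iff_ne_bot _).mpr hNne
      rw [← hidx]
      exact ih _ hlt (G ⧸ N) rfl M' hcoatom
    · have hsup : M ⊔ N = ⊤ := by
        by_contra hne
        have hlt : M < M ⊔ N := lt_of_le_of_ne le_sup_left (by
          intro h
          apply hNM
          rw [h]
          exact le_sup_right)
        exact hne (hM.2 _ hlt)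
      have h1 := card_sup_mul_card_inf N M
      rw [hsup, Subgroup.card_top, ← M.card_mul_index] at h1
      have h2 : M.index * Nat.card (N ⊓ M : Subgroup G) = Nat.card N := by
        have hpos : 0 < Nat.card M := Nat.card_pos
        have : Nat.card M * (M.index * Nat.card (N ⊓ M : Subgroup G)) = Nat.card M * Nat.card N := by
          linarith [h1]
        exact Nat.eq_of_mul_eq_mul_left hpos this
      have hNp' : IsPGroup p N := by
        intro x
        refine ⟨1, ?_⟩
        apply Subtype.ext
        simpa using hNp x x.2
      obtain ⟨k, hk⟩ := IsPGroup.exists_card_eq hNp'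
      have h3 : M.index ∣ p ^ k := by rw [← hk, ← h2]; exact dvd_mul_right _ _
      obtain ⟨j, -, hj⟩ := (Nat.dvd_prime_pow hp).mp h3
      rw [hj]
      have hj0 : j ≠ 0 := by
        rintro rfl
        rw [pow_zero, Subgroup.index_eq_one] at hj
        exact hM.1 hj
      exact (hp.prime.isPrimePow).pow hj0

/-- In a finite solvable group every maximal subgroup has index a prime power. -/
theorem result {G : Type*} [Group G] [Finite G] [Group.IsSolvable G]
    (M : Subgroup G) (hM : IsCoatom M) : IsPrimePow M.index := by
  exact aux _ G rfl M hM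

end Cfsg.Agent.S0048
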