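import Cfsg.Statements.S0049
import Mathlib

set_option autoImplicit false
open Cfsg

namespace Cfsg.Agent.S0049

/-- A prime divisor of the order of a finite group also divides the index of the Frattini subgroup. -/
theorem result {G : Type*} [Group G] [Finite G] (p : ℕ) (hp : p.Prime) (hdvd : p ∣ Nat.card G) :
    p ∣ (frattini G).index := by
  by_contra hnd
  haveI : Fact p.Prime := ⟨hp⟩
  obtain P : Sylow p (frattini G) := default
  have frattini_argument := Sylow.normalizer_sup_eq_top P
  have normalizer_P := frattini_nongenerating frattini_argument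
  have hPn : (Subgroup.map (frattini G).subtype P).Normal := Subgroup.normalizer_eq_top_iff.mp normalizer_P
  set P' := Subgroup.map (frattini G).subtype P with hP'
  have hidx : P'.index = (P : Subgroup (frattini G)).index * (frattini G).index :=
    Subgroup.index_map_subtype _
  have hcard : Nat.card P' = Nat.card P :=
    Subgroup.card_map_of_injective (frattini G).subtype_injective
  obtain ⟨n, hn⟩ := IsPGroup.exists_card_eq P.isPGroup'
  have hcop : Nat.Coprime (Nat.card P') P'.index := by
    rw [hcard, hn, hidx]
    apply Nat.Coprime.pow_left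
    rw [Nat.Prime.coprime_iff_not_dvd hp]
    intro h
    rcases (Nat.Prime.dvd_mul hp).mp h with h | h
    · exact P.not_dvd_index h
    · exact hnd h
  obtain ⟨H, hH⟩ := Subgroup.exists_right_complement'_of_coprime hcop
  have hP'le : P' ≤ frattini G := by
    rw [hP']
    exact Subgroup.map_subtype_le _
  have h1 : H ⊔ frattini G = ⊤ := by
    rw [eq_top_iff, ← hH.sup_eq_top, sup_comm]
    exact sup_le_sup_left hP'le H
  have h2 : H = ⊤ := frattini_nongenerating h1
  have h3 := hH.disjoint
  rw [h2, disjoint_top] at h3
  have h4 : (P : Subgroup (frattini G)) = ⊥ := by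
    rw [hP'] at h3
    exact (Subgroup.map_eq_bot_iff_of_injective _ (frattini G).subtype_injective).mp h3
  have h5 : ¬ p ∣ Nat.card (frattini G) := fun h => P.ne_bot_of_dvd_card h h4
  rw [← (frattini G).card_mul_index] at hdvd
  rcases (Nat.Prime.dvd_mul hp).mp hdvd with h | h
  · exact h5 h
  · exact hnd h

end Cfsg.Agent.S0049
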