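import Cfsg.Statements.S0052
import Cfsg.Agent.Lib.Helper96.Gaschutz

set_option autoImplicit false
open Cfsg

namespace Cfsg.Agent.S0052

open Cfsg.Agent.Lib.Helper96
open scoped IsMulCommutative Pointwise

/-- a section of `G → G ⧸ U` with values in a complement `H` of `K ≤ U` -/
lemma exists_section {G : Type*} [Group G] (K U H : Subgroup G) [K.Normal] (hKU : K ≤ U)
    (hc : Subgroup.IsComplement' K H) :
    ∃ s : G ⧸ U → G, (∀ ω, s ω ∈ H) ∧ ∀ ω, (QuotientGroup.mk (s ω) : G ⧸ U) = ω := by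
  have key : ∀ ω : G ⧸ U, ∃ h : G, h ∈ H ∧ (QuotientGroup.mk h : G ⧸ U) = ω := by
    intro ω
    induction ω using QuotientGroup.induction_on with
    | H g =>
      have hg : g ∈ ((K : Set G) * (H : Set G)) := by
        rw [hc.mul_eq]; exact Set.mem_univ g
      obtain ⟨k, hk, h, hh, rfl⟩ := Set.mem_mul.1 hg
      refine ⟨h, hh, ?_⟩
      rw [QuotientGroup.eq]
      apply hKU
      have := Subgroup.Normal.conj_mem' (inferInstance : K.Normal) _ hk h
      rwa [mul_assoc] at this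
  choose s hs1 hs2 using key
  exact ⟨s, hs1, hs2⟩

lemma inf_complement {G : Type*} [Group G] (K U H : Subgroup G) [K.Normal] (hKU : K ≤ U)
    (hc : Subgroup.IsComplement' K H) : (H ⊓ U) ⊓ K = ⊥ ∧ K ⊔ (H ⊓ U) = U := by
  constructor
  · rw [eq_bot_iff]
    intro x hx
    have h1 : x ∈ K ⊓ H := ⟨hx.2, hx.1.1⟩
    rw [hc.disjoint.eq_bot] at h1
    exact h1
  · apply le_antisymm
    · exact sup_le hKU inf_le_right
    · intro u hu
      have hg : u ∈ ((K : Set G) * (H : Set G)) := by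
        rw [hc.mul_eq]; exact Set.mem_univ u
      obtain ⟨k, hk, h, hh, rfl⟩ := Set.mem_mul.1 hg
      have hhU : h ∈ U := by
        have : h = k⁻¹ * (k * h) := by group
        rw [this]
        exact U.mul_mem (U.inv_mem (hKU hk)) hu
      exact Subgroup.mul_mem _ (Subgroup.mem_sup_left hk) (Subgroup.mem_sup_right ⟨hh, hhU⟩)


section main

variable {G : Type*} [Group G] {K U : Subgroup G} [K.Normal]

lemma cfun_eq_one_of_mem {H₀ : Subgroup G} (hAK : (H₀ ⊓ U) ⊓ K = ⊥)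
    {s : G ⧸ U → G} (hs1 : ∀ ω, s ω ∈ H₀)
    (hs : ∀ ω, (QuotientGroup.mk (s ω) : G ⧸ U) = ω) {g : G} (hg : g ∈ H₀) (ω : G ⧸ U) :
    cfun K (H₀ ⊓ U) s g ω = 1 := by
  unfold cfun
  apply quo_eq hAK
  have h1 : (s ω)⁻¹ * ((1 : K) : G)⁻¹ * (g * s (g⁻¹ • ω)) = (s ω)⁻¹ * (g * s (g⁻¹ • ω)) := by
    simp
  rw [h1]
  constructor
  · exact H₀.mul_mem (H₀.inv_mem (hs1 ω)) (H₀.mul_mem hg (hs1 _))
  · change (s ω)⁻¹ * (g * s (g⁻¹ • ω)) ∈ U
    rw [← QuotientGroup.eq, hs, mk_mul_section hs]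

lemma cfun_of_mem_compl {A H₁ : Subgroup G} (hAK : A ⊓ K = ⊥) (hKA : K ⊔ A = U)
    (hA : A = H₁ ⊓ U) {s t : G ⧸ U → G}
    (hs : ∀ ω, (QuotientGroup.mk (s ω) : G ⧸ U) = ω) (ht1 : ∀ ω, t ω ∈ H₁)
    (ht : ∀ ω, (QuotientGroup.mk (t ω) : G ⧸ U) = ω) {g : G} (hg : g ∈ H₁) (ω : G ⧸ U) :
    cfun K A s g ω =
      (MulAut.conjNormal g (quo K A (t (g⁻¹ • ω)) (s (g⁻¹ • ω))))⁻¹ * quo K A (t ω) (s ω) := by
  apply quo_eq hAK
  have hex : ∀ ω : G ⧸ U, (s ω)⁻¹ * (quo K A (t ω) (s ω) : G)⁻¹ * t ω ∈ A := by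
    intro ω
    apply quo_spec
    apply exists_quo
    rw [hKA, ← QuotientGroup.eq, hs, ht]
  have a₁ := hex ω
  have a₂ := hex (g⁻¹ • ω)
  have a₃ : (t ω)⁻¹ * (g * t (g⁻¹ • ω)) ∈ A := by
    rw [hA]
    constructor
    · exact H₁.mul_mem (H₁.inv_mem (ht1 ω)) (H₁.mul_mem hg (ht1 _))
    · change (t ω)⁻¹ * (g * t (g⁻¹ • ω)) ∈ U
      rw [← QuotientGroup.eq, ht, mk_mul_section ht]
  have := A.mul_mem (A.mul_mem a₁ a₃) (A.inv_mem a₂)
  convert this using 1
  simp only [Subgroup.coe_mul, Subgroup.coe_inv, MulAut.conjNormal_apply]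
  group

end main


section final

variable {G : Type*} [Group G] {K U : Subgroup G} [K.Normal] [IsMulCommutative K]
  [Fintype (G ⧸ U)]

lemma gamma_of_mem_compl {A H₁ : Subgroup G} (hAK : A ⊓ K = ⊥) (hKA : K ⊔ A = U)
    (hA : A = H₁ ⊓ U) {s t : G ⧸ U → G}
    (hs : ∀ ω, (QuotientGroup.mk (s ω) : G ⧸ U) = ω) (ht1 : ∀ ω, t ω ∈ H₁)
    (ht : ∀ ω, (QuotientGroup.mk (t ω) : G ⧸ U) = ω) {g : G} (hg : g ∈ H₁) :
    gamma K A s g =
      (MulAut.conjNormal g (∏ ω : G ⧸ U, quo K A (t ω) (s ω)))⁻¹ *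
        ∏ ω : G ⧸ U, quo K A (t ω) (s ω) := by
  unfold gamma
  simp_rw [cfun_of_mem_compl hAK hKA hA hs ht1 ht hg]
  rw [Finset.prod_mul_distrib, Finset.prod_inv_distrib, map_prod]
  congr 2
  exact Fintype.prod_equiv (MulAction.toPerm g⁻¹) _ _ (fun ω => rfl)

end final

/-- Gaschütz's Theorem, conjugacy: for an abelian normal subgroup K ≤ U with the order of K coprime to the index of U, two complements of K in G having the same intersection with U are conjugate. -/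
theorem result {G : Type*} [Group G] [Finite G] (K U : Subgroup G) [K.Normal] [IsMulCommutative K]
    (hKU : K ≤ U) (hcop : (Nat.card K).Coprime U.index)
    (H₀ H₁ : Subgroup G) (h₀ : Subgroup.IsComplement' K H₀) (h₁ : Subgroup.IsComplement' K H₁) (hU : H₀ ⊓ U = H₁ ⊓ U) :
    ∃ g : G, MulAut.conj g • H₀ = H₁ := by
  classical
  haveI : Fintype (G ⧸ U) := Fintype.ofFinite _
  obtain ⟨hAK, hKA⟩ := inf_complement K U H₀ hKU h₀
  obtain ⟨s, hs1, hs⟩ := exists_section K U H₀ hKU h₀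
  obtain ⟨t, ht1, ht⟩ := exists_section K U H₁ hKU h₁
  set A := H₀ ⊓ U with hAdef
  -- the complement attached to `s`
  have hmul := gamma_mul hAK hKA hs
  have hcompl : Subgroup.IsComplement' K (crossedKer (gamma K A s) hmul) :=
    isComplement'_crossedKer hcop _ _ (gamma_of_mem hAK hKU)
  have hle : H₀ ≤ crossedKer (gamma K A s) hmul := by
    intro g hg
    rw [mem_crossedKer]
    unfold gamma
    exact Finset.prod_eq_one (fun ω _ => cfun_eq_one_of_mem hAK hs1 hs hg ω)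
  have hcard0 : Nat.card K * Nat.card H₀ = Nat.card G := h₀.card_mul_card
  have hcard1 : Nat.card K * Nat.card H₁ = Nat.card G := h₁.card_mul_card
  have hcardH : Nat.card K * Nat.card (crossedKer (gamma K A s) hmul) = Nat.card G :=
    hcompl.card_mul_card
  have hKpos : 0 < Nat.card K := Nat.card_pos
  have hH0 : H₀ = crossedKer (gamma K A s) hmul := by
    apply Subgroup.eq_of_le_of_card_ge hle
    have : Nat.card K * Nat.card (crossedKer (gamma K A s) hmul) = Nat.card K * Nat.card H₀ := by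
      rw [hcardH, hcard0]
    exact (Nat.eq_of_mul_eq_mul_left hKpos this).le
  -- the difference element
  set d : K := ∏ ω : G ⧸ U, quo K A (t ω) (s ω) with hd
  obtain ⟨x, hx⟩ := (powCoprime hcop).surjective d
  simp only [powCoprime_apply] at hx
  have hgam : ∀ g ∈ H₁, gamma K A s g = (MulAut.conjNormal g d)⁻¹ * d :=
    fun g hg => gamma_of_mem_compl hAK hKA hU hs ht1 ht hg
  have hconj : ∀ g ∈ H₁, (x : G)⁻¹ * g * x ∈ H₀ := by
    intro g hg
    rw [hH0, mem_crossedKer]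
    have e1 : (x : G)⁻¹ * g * x = ((x⁻¹ : K) : G) * (g * (x : G)) := by
      simp [mul_assoc]
    rw [e1, hmul, gamma_of_mem hAK hKU, conjNormal_of_mem, hmul, hgam g hg,
      gamma_of_mem hAK hKU, hx, inv_pow, hx]
    have hc := mul_comm' d (MulAut.conjNormal g d)
    calc d⁻¹ * ((MulAut.conjNormal g d)⁻¹ * d * MulAut.conjNormal g d)
        = d⁻¹ * ((MulAut.conjNormal g d)⁻¹ * (d * MulAut.conjNormal g d)) := by group
      _ = d⁻¹ * ((MulAut.conjNormal g d)⁻¹ * (MulAut.conjNormal g d * d)) := by rw [hc]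
      _ = 1 := by group
  refine ⟨(x : G), ?_⟩
  -- H₁.map (conj x⁻¹) = H₀
  have hmap : H₁.map (MulAut.conj (x : G)⁻¹).toMonoidHom = H₀ := by
    apply Subgroup.eq_of_le_of_card_ge
    · rintro _ ⟨g, hg, rfl⟩
      have := hconj g hg
      simpa [MulAut.conj_apply] using this
    · rw [Subgroup.card_map_of_injective (MulEquiv.injective _)]
      have : Nat.card K * Nat.card H₀ = Nat.card K * Nat.card H₁ := by rw [hcard0, hcard1]
      exact (Nat.eq_of_mul_eq_mul_left hKpos this).le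
  ext y
  rw [Subgroup.mem_pointwise_smul_iff_inv_smul_mem, ← map_inv, MulAut.smul_def, MulAut.conj_apply,
    inv_inv]
  constructor
  · intro hy
    rw [← hmap] at hy
    obtain ⟨g, hg, hgy⟩ := hy
    simp only [MulEquiv.coe_toMonoidHom, MulAut.conj_apply, inv_inv] at hgy
    have : g = y := by
      have := congrArg (fun z => (x : G) * z * (x : G)⁻¹) hgy
      simpa [mul_assoc] using this
    rw [← this]; exact hg
  · intro hy
    exact hconj y hy

end Cfsg.Agent.S0052
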