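import Cfsg.Statements.S0053
import Mathlib

set_option autoImplicit false
open Cfsg

namespace Cfsg.Agent.S0053

/-- An abelian minimal normal subgroup N of a finite group is complemented exactly when N is not inside the Frattini subgroup. -/
theorem result {G : Type*} [Group G] [Finite G]
    (N : Subgroup G) [N.Normal] [IsMulCommutative N] (hN : N ≠ ⊥)
    (hmin : ∀ M : Subgroup G, M.Normal → M ≤ N → M = ⊥ ∨ M = N) :
    (∃ H : Subgroup G, Subgroup.IsComplement' N H) ↔ ¬ N ≤ frattini G := by
  constructor
  · rintro ⟨H, hH⟩ hle
    have h1 : H ⊔ frattini G = ⊤ := by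
      rw [eq_top_iff, ← hH.sup_eq_top, sup_comm]
      exact sup_le_sup_left hle H
    have h2 : H = ⊤ := frattini_nongenerating h1
    have h3 := hH.disjoint
    rw [h2, disjoint_top] at h3
    exact hN h3
  · intro hle
    have : ∃ M : Subgroup G, IsCoatom M ∧ ¬ N ≤ M := by
      by_contra hcon
      push Not at hcon
      apply hle
      unfold frattini Order.radical
      exact le_iInf₂ hcon
    obtain ⟨M, hM, hNM⟩ := this
    have hsup : N ⊔ M = ⊤ := by
      by_contra hne
      have hlt : M < N ⊔ M := lt_of_le_of_ne le_sup_right (by
        intro h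
        apply hNM
        rw [h]
        exact le_sup_left)
      exact hne (hM.2 _ hlt)
    have hnorm : (N ⊓ M).Normal := by
      rw [← Subgroup.normalizer_eq_top_iff, eq_top_iff, ← hsup, sup_le_iff]
      constructor
      · -- N centralizes N ⊓ M
        intro n hn
        rw [Subgroup.mem_normalizer_iff]
        intro x
        have key : ∀ y : G, y ∈ N → n * y * n⁻¹ = y := by
          intro y hy
          rw [setLike_mul_comm hn hy]; group
        constructor
        · intro hx
          rw [key x hx.1]; exact hx
        · intro hx
          have hxN : x ∈ N := by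
            have := ‹N.Normal›.conj_mem _ hx.1 n⁻¹
            simpa [mul_assoc] using this
          rw [key x hxN] at hx; exact hx
      · calc M ≤ Subgroup.normalizer (N : Set G) ⊓ Subgroup.normalizer (M : Set G) := by
              rw [Subgroup.normalizer_eq_top]; simpa using Subgroup.le_normalizer
          _ ≤ _ := Subgroup.inf_normalizer_le_normalizer_inf
    have hinf : N ⊓ M = ⊥ := by
      rcases hmin _ hnorm inf_le_left with h | h
      · exact h
      · exact absurd (h ▸ inf_le_right : N ≤ M) hNM
    refine ⟨M, Subgroup.isComplement'_of_disjoint_and_mul_eq_univ (disjoint_iff.mpr hinf) ?_⟩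
    rw [← Subgroup.normal_mul, hsup, Subgroup.coe_top]

end Cfsg.Agent.S0053
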