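import Cfsg.Statements.S0054
import Mathlib

set_option autoImplicit false
open Cfsg

namespace Cfsg.Agent.S0054

/-- A regular normal subgroup of a finite 2-transitive group is elementary abelian: it is commutative and all its elements have order dividing one prime. -/
theorem result {G : Type*} [Group G] [Finite G]
    {X : Type*} [Nonempty X] [MulAction G X] (h2 : MulAction.IsMultiplyPretransitive G X 2)
    (N : Subgroup G) [hN : N.Normal] (htrans : MulAction.IsPretransitive N X) (hreg : ∀ x : X, MulAction.stabilizer N x = ⊥) :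
    IsMulCommutative N ∧ ∃ p : ℕ, p.Prime ∧ ∀ n ∈ N, n ^ p = 1 := by
  obtain x0 : X := Classical.arbitrary X
  have h2' : ∀ {a b c d : X} (_ : a ≠ b) (_ : c ≠ d), ∃ g : G, g • a = c ∧ g • b = d :=
    MulAction.is_two_pretransitive_iff.mp h2
  -- nonidentity elements of N move x0
  have hmove : ∀ n ∈ N, n ≠ 1 → n • x0 ≠ x0 := by
    intro n hn hn1 hfix
    have : (⟨n, hn⟩ : N) ∈ MulAction.stabilizer N x0 := hfix
    rw [hreg x0, Subgroup.mem_bot] at this
    exact hn1 (congrArg Subtype.val this)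
  -- two nonidentity elements of N are conjugate
  have hconj : ∀ a ∈ N, a ≠ 1 → ∀ b ∈ N, b ≠ 1 → ∃ g : G, g * a * g⁻¹ = b := by
    intro a ha ha1 b hb hb1
    obtain ⟨g, hg0, hg1⟩ := h2' (hmove a ha ha1).symm (hmove b hb hb1).symm
    refine ⟨g, ?_⟩
    have hmem : b⁻¹ * (g * a * g⁻¹) ∈ N := N.mul_mem (N.inv_mem hb) (hN.conj_mem a ha g)
    have hfix : (b⁻¹ * (g * a * g⁻¹)) • x0 = x0 := by
      have hginv : g⁻¹ • x0 = x0 := by rw [inv_smul_eq_iff, hg0]
      rw [mul_smul, mul_smul, mul_smul, hginv, hg1, inv_smul_smul]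
    have : (⟨_, hmem⟩ : N) ∈ MulAction.stabilizer N x0 := hfix
    rw [hreg x0, Subgroup.mem_bot] at this
    have h3 : b⁻¹ * (g * a * g⁻¹) = 1 := congrArg Subtype.val this
    calc g * a * g⁻¹ = b * (b⁻¹ * (g * a * g⁻¹)) := by group
      _ = b := by rw [h3, mul_one]
  by_cases hbot : N = ⊥
  · subst hbot
    refine ⟨⟨⟨fun a b => ?_⟩⟩, 2, Nat.prime_two, ?_⟩
    · have ha : a = 1 := Subtype.ext (Subgroup.mem_bot.mp a.2)
      have hb : b = 1 := Subtype.ext (Subgroup.mem_bot.mp b.2)
      rw [ha, hb]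
    · intro n hn
      rw [Subgroup.mem_bot.mp hn, one_pow]
  · have hcard : Nat.card N ≠ 1 := fun h => hbot (Subgroup.card_eq_one.mp h)
    obtain ⟨p, hp, hpd⟩ := Nat.exists_prime_and_dvd hcard
    haveI : Fact p.Prime := ⟨hp⟩
    obtain ⟨a, ha⟩ := exists_prime_orderOf_dvd_card' (G := N) p hpd
    have ha1 : (a : G) ≠ 1 := by
      intro h
      have : a = 1 := Subtype.ext h
      rw [this, orderOf_one] at ha
      exact hp.one_lt.ne ha
    have hap : (a : G) ^ p = 1 := by
      have : a ^ p = 1 := by rw [← ha]; exact pow_orderOf_eq_one a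
      exact_mod_cast congrArg Subtype.val this
    have hpow : ∀ n ∈ N, n ^ p = 1 := by
      intro n hn
      by_cases hn1 : n = 1
      · rw [hn1, one_pow]
      · obtain ⟨g, hg⟩ := hconj a a.2 ha1 n hn hn1
        rw [← hg, conj_pow, hap, mul_one, mul_inv_cancel]
    have hNp : IsPGroup p N := by
      intro x
      refine ⟨1, ?_⟩
      apply Subtype.ext
      simpa using hpow x x.2
    haveI : Nontrivial N := (Subgroup.nontrivial_iff_ne_bot N).mpr hbot
    haveI := hNp.center_nontrivial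
    obtain ⟨z, hz⟩ := exists_ne (1 : Subgroup.center N)
    have hz1 : ((z : N) : G) ≠ 1 := by
      intro h
      apply hz
      apply Subtype.ext
      apply Subtype.ext
      exact h
    have hzc : ∀ y ∈ N, y * ((z : N) : G) = ((z : N) : G) * y := by
      intro y hy
      have := (Subgroup.mem_center_iff.mp z.2) ⟨y, hy⟩
      exact congrArg Subtype.val this
    refine ⟨⟨⟨fun u v => ?_⟩⟩, p, hp, hpow⟩
    -- every element of N is central in N
    have hcentral : ∀ n ∈ N, ∀ y ∈ N, y * n = n * y := by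
      intro n hn y hy
      by_cases hn1 : n = 1
      · rw [hn1, mul_one, one_mul]
      · obtain ⟨g, hg⟩ := hconj _ (z : N).2 hz1 n hn hn1
        have hy' : g⁻¹ * y * g⁻¹⁻¹ ∈ N := hN.conj_mem y hy g⁻¹
        have := hzc _ hy'
        rw [← hg]
        calc y * (g * ((z : N) : G) * g⁻¹) = g * ((g⁻¹ * y * g⁻¹⁻¹) * ((z : N) : G)) * g⁻¹ := by group
          _ = g * (((z : N) : G) * (g⁻¹ * y * g⁻¹⁻¹)) * g⁻¹ := by rw [this]
          _ = g * ((z : N) : G) * g⁻¹ * y := by group
    apply Subtype.ext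
    exact hcentral v v.2 u u.2

end Cfsg.Agent.S0054
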