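import Cfsg.Statements.S0057
import Mathlib
import Cfsg.Agent.S0023
import Cfsg.Agent.S0026
import Cfsg.Agent.S0027
import Cfsg.Agent.S0055
import Cfsg.Agent.Lib.Helper01.Commutator
import Cfsg.Agent.Lib.Helper01.Coprime
import Cfsg.Agent.Lib.Helper13.ProdCard

set_option autoImplicit false
open Cfsg

namespace Cfsg.Agent.S0057

open scoped Pointwise commutatorElement

section aux
variable {G : Type*} [Group G]

theorem card_eq_relIndex_mul {H K : Subgroup G} (h : H ≤ K) :
    Nat.card K = H.relIndex K * Nat.card H := by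
  have := Subgroup.card_mul_index (H.subgroupOf K)
  rw [Lib.Helper01.card_subgroupOf_of_le h] at this
  rw [← this, Subgroup.relIndex, mul_comm]

theorem relIndex_eq_of_card [Finite G] {H K : Subgroup G} (h : H ≤ K) (p : ℕ)
    (hc : Nat.card K = p * Nat.card H) : H.relIndex K = p := by
  have h1 := card_eq_relIndex_mul h
  rw [hc] at h1
  exact (Nat.eq_of_mul_eq_mul_right Nat.card_pos h1).symm

theorem commutator_le_of_le_normalizer {A P : Subgroup G}
    (hAP : A ≤ Subgroup.normalizer (P : Set G)) : ⁅P, A⁆ ≤ P := by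
  rw [Subgroup.commutator_le]
  intro x hx a ha
  rw [commutatorElement_def, mul_assoc, mul_assoc]
  refine P.mul_mem hx ?_
  rw [← mul_assoc]
  exact (Subgroup.mem_normalizer_iff.mp (hAP ha) x⁻¹).mp (P.inv_mem hx)

/-- the perfect `p`-group case -/
theorem pgroup_perfect_case [Finite G] (A P : Subgroup G)
    (hAP : A ≤ Subgroup.normalizer (P : Set G))
    (hcop : (Nat.card A).Coprime (Nat.card P)) (p : ℕ) (hp : p.Prime) (hP : IsPGroup p P)
    (hperf : ⁅P, A⁆ = P)
    (hidx : (P ⊓ Subgroup.centralizer (A : Set G)).relIndex P = p) :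
    Nat.card P = p := by
  haveI := Fact.mk hp
  set C := P ⊓ Subgroup.centralizer (A : Set G) with hC
  have hCP : C ≤ P := inf_le_left
  have hcard : Nat.card P = p * Nat.card C := by rw [card_eq_relIndex_mul hCP, hidx]
  have hnorm : (C.subgroupOf P).Normal := by
    apply Subgroup.normal_of_index_eq_minFac_card
    obtain ⟨n, hn⟩ := hP.exists_card_eq
    have hn0 : n ≠ 0 := by
      rintro rfl
      rw [pow_zero] at hn
      rw [hn] at hcard
      have := Nat.eq_one_of_mul_eq_one_right hcard.symm
      exact hp.one_lt.ne' this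
    show C.relIndex P = _
    rw [hidx, hn, Nat.pow_minFac hn0, hp.minFac_eq]
  have hconj : ∀ x ∈ P, ∀ c ∈ C, x * c * x⁻¹ ∈ C := by
    intro x hx c hc
    have := hnorm.conj_mem ⟨c, hCP hc⟩ (Subgroup.mem_subgroupOf.mpr hc) ⟨x, hx⟩
    exact Subgroup.mem_subgroupOf.mp this
  have hCPle : ⁅C, P⁆ ≤ C := by
    rw [Subgroup.commutator_le]
    intro c hc x hx
    rw [commutatorElement_def, mul_assoc, mul_assoc]
    refine C.mul_mem hc ?_
    rw [← mul_assoc]
    exact hconj x hx c⁻¹ (C.inv_mem hc)
  have hCA : ⁅C, A⁆ = ⊥ := by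
    rw [Subgroup.commutator_eq_bot_iff_le_centralizer]
    exact inf_le_right
  have h2 : ⁅⁅C, P⁆, A⁆ = ⊥ := by
    rw [eq_bot_iff, ← hCA]
    exact Subgroup.commutator_mono hCPle le_rfl
  have h1 : ⁅⁅A, C⁆, P⁆ = ⊥ := by
    rw [Subgroup.commutator_comm A C, hCA, Subgroup.commutator_bot_left]
  have h3 : ⁅⁅P, A⁆, C⁆ = ⊥ := Subgroup.commutator_commutator_eq_bot_of_rotate h1 h2
  rw [hperf, Subgroup.commutator_eq_bot_iff_le_centralizer] at h3
  have hcenter : C.subgroupOf P ≤ Subgroup.center P := by
    intro c hc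
    rw [Subgroup.mem_center_iff]
    intro x
    apply Subtype.ext
    have := (Subgroup.mem_centralizer_iff.mp (h3 x.2)) (c : G) (Subgroup.mem_subgroupOf.mp hc)
    simpa using this.symm
  haveI : IsCyclic (↥P ⧸ C.subgroupOf P) := by
    apply isCyclic_of_prime_card (p := p)
    rw [← Subgroup.index_eq_card]
    exact hidx
  haveI : IsMulCommutative P :=
    MonoidHom.isMulCommutative_of_isCyclic_of_ker_le_center (QuotientGroup.mk' (C.subgroupOf P))
      (by rw [QuotientGroup.ker_mk']; exact hcenter)
  have h55 := (S0055.result A P hAP hcop).1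
  rw [hperf, ← hC, inf_of_le_left hCP] at h55
  rw [hcard, h55, Subgroup.card_bot, mul_one]

/-- the `p`-group case -/
theorem pgroup_case [Finite G] (A P : Subgroup G)
    (hAP : A ≤ Subgroup.normalizer (P : Set G))
    (hcop : (Nat.card A).Coprime (Nat.card P)) (p : ℕ) (hp : p.Prime) (hP : IsPGroup p P)
    (hidx : (P ⊓ Subgroup.centralizer (A : Set G)).relIndex P = p) :
    Nat.card (⁅P, A⁆ : Subgroup G) = p ∧ ⁅⁅P, A⁆, A⁆ = ⁅P, A⁆ := by
  haveI := Fact.mk hp
  haveI : Group.IsNilpotent P := hP.isNilpotent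
  have hsolv : Group.IsSolvable A ∨ Group.IsSolvable P := Or.inr inferInstance
  set C := P ⊓ Subgroup.centralizer (A : Set G) with hC
  have hCP : C ≤ P := inf_le_left
  have hcard : Nat.card P = p * Nat.card C := by rw [card_eq_relIndex_mul hCP, hidx]
  set L : Subgroup G := ⁅P, A⁆ with hL
  have hLP : L ≤ P := commutator_le_of_le_normalizer hAP
  have hLA : A ≤ Subgroup.normalizer (L : Set G) := Lib.Helper01.le_normalizer_commutator_right P A
  have hLL : ⁅L, A⁆ = L := S0027.result A P hAP hcop hsolv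
  have hsup : L ⊔ C = P := S0026.result A P hAP hcop hsolv
  have hCL : C ≤ Subgroup.normalizer (L : Set G) :=
    hCP.trans (Lib.Helper01.le_normalizer_commutator_left P A)
  have h1 := Lib.Helper01.card_sup_mul_card_inf_of_le_normalizer L C hCL
  rw [sup_comm, hsup, hcard] at h1
  have hLC : L ⊓ C = L ⊓ Subgroup.centralizer (A : Set G) := by
    rw [hC, ← inf_assoc, inf_of_le_left hLP]
  have h2 : Nat.card L = p * Nat.card (L ⊓ C : Subgroup G) := by
    have hpos : 0 < Nat.card C := Nat.card_pos
    have : (p * Nat.card (L ⊓ C : Subgroup G)) * Nat.card C = Nat.card L * Nat.card C := by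
      rw [← h1]; ring
    exact (Nat.eq_of_mul_eq_mul_right hpos this).symm
  have hidxL : (L ⊓ Subgroup.centralizer (A : Set G)).relIndex L = p := by
    rw [← hLC]
    exact relIndex_eq_of_card inf_le_left p h2
  refine ⟨?_, hLL⟩
  exact pgroup_perfect_case A L hLA
    (Nat.Coprime.coprime_dvd_right (Subgroup.card_dvd_of_le hLP) hcop) p hp (hP.to_le hLP) hLL hidxL

end aux

/-- Under coprime action, if the centraliser of A in K has prime index p in K then the commutator subgroup [K, A] has order exactly p. -/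
theorem result {G : Type*} [Group G] [Finite G] (A K : Subgroup G) (hAK : A ≤ Subgroup.normalizer (K : Set G))
    (hcop : (Nat.card A).Coprime (Nat.card K)) (hsolv : Group.IsSolvable A ∨ Group.IsSolvable K)
    (p : ℕ) (hp : p.Prime) (hidx : (K ⊓ Subgroup.centralizer (A : Set G)).relIndex K = p) :
    Nat.card (⁅K, A⁆ : Subgroup G) = p := by
  haveI := Fact.mk hp
  set C := K ⊓ Subgroup.centralizer (A : Set G) with hC
  have hCK : C ≤ K := inf_le_left
  have hcardK : Nat.card K = p * Nat.card C := by rw [card_eq_relIndex_mul hCK, hidx]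
  obtain ⟨P, hPA⟩ := S0023.result A K hAK hcop hsolv p
  set P' : Subgroup G := (P : Subgroup K).map K.subtype with hP'
  have hP'K : P' ≤ K := Subgroup.map_subtype_le _
  have hP'p : IsPGroup p P' := P.isPGroup'.map _
  have hP'card : Nat.card P' = p ^ (Nat.card K).factorization p := by
    rw [hP', Subgroup.card_map_of_injective K.subtype_injective]
    exact P.card_eq_multiplicity
  -- index of the centraliser in P'
  have hDeq : P' ⊓ Subgroup.centralizer (A : Set G) = C ⊓ P' := by
    exact le_antisymm (le_inf (le_inf (inf_le_left.trans hP'K) inf_le_right) inf_le_left)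
      (le_inf inf_le_right (inf_le_left.trans inf_le_right))
  have hidxP : (P' ⊓ Subgroup.centralizer (A : Set G)).relIndex P' = p := by
    rw [hDeq, Subgroup.inf_relIndex_right]
    have hle : C.relIndex P' ≤ p := by
      rw [← hidx]
      exact Subgroup.relIndex_le_of_le_right hP'K (by rw [hidx]; exact hp.ne_zero)
    have hdvd : C.relIndex P' ∣ p ^ (Nat.card K).factorization p := by
      rw [← hP'card]; exact Subgroup.relIndex_dvd_card _ _
    obtain ⟨j, -, hj⟩ := (Nat.dvd_prime_pow hp).mp hdvd
    rcases j with _ | _ | j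
    · exfalso
      rw [pow_zero, Subgroup.relIndex_eq_one] at hj
      have h1 : Nat.card P' ∣ Nat.card C := Subgroup.card_dvd_of_le hj
      have h2 : p ^ ((Nat.card K).factorization p + 1) ∣ Nat.card K := by
        have h3 : Nat.card P' * p ∣ Nat.card C * p := Nat.mul_dvd_mul_right h1 p
        rw [hP'card, ← pow_succ, mul_comm, ← hcardK] at h3
        exact h3
      exact Nat.pow_succ_factorization_not_dvd Nat.card_pos.ne' hp h2
    · simpa using hj
    · exfalso
      rw [hj] at hle
      have : p ^ 2 ≤ p ^ (j + 1 + 1) := Nat.pow_le_pow_right hp.pos (by omega)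
      have h3 : p < p ^ 2 := by nlinarith [hp.one_lt]
      omega
  have hcopP : (Nat.card A).Coprime (Nat.card P') :=
    Nat.Coprime.coprime_dvd_right (Subgroup.card_dvd_of_le hP'K) hcop
  obtain ⟨hTcard, hTT⟩ := pgroup_case A P' hPA hcopP p hp hP'p hidxP
  set T : Subgroup G := ⁅P', A⁆ with hT
  have hTK : T ≤ K := (commutator_le_of_le_normalizer hPA).trans hP'K
  have hTA : A ≤ Subgroup.normalizer (T : Set G) :=
    Lib.Helper01.le_normalizer_commutator_right P' A
  have hTle : T ≤ ⁅K, A⁆ := Subgroup.commutator_mono hP'K le_rfl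
  have hTC : T ⊓ C = ⊥ := by
    have hdvd : Nat.card (T ⊓ C : Subgroup G) ∣ p := by
      rw [← hTcard]; exact Subgroup.card_dvd_of_le inf_le_left
    rcases (Nat.dvd_prime hp).mp hdvd with h1 | h1
    · exact Subgroup.card_eq_one.mp h1
    · exfalso
      have hTeq : T ⊓ C = T :=
        Subgroup.eq_of_le_of_card_ge inf_le_left (by rw [h1, hTcard])
      have hTleC : T ≤ Subgroup.centralizer (A : Set G) := by
        rw [← hTeq]; exact inf_le_right.trans inf_le_right
      have : ⁅T, A⁆ = ⊥ := Subgroup.commutator_eq_bot_iff_le_centralizer.mpr hTleC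
      rw [hTT] at this
      rw [this, Subgroup.card_bot] at hTcard
      exact hp.one_lt.ne hTcard
  -- K = T * C as sets
  have hprodcard := Lib.Helper13.card_mul_card_inf T C
  rw [hTC, Subgroup.card_bot, mul_one, hTcard, ← hcardK] at hprodcard
  have hsub : ((T : Set G) * (C : Set G) : Set G) ⊆ (K : Set G) := by
    rintro _ ⟨t, ht, c, hc, rfl⟩
    exact K.mul_mem (hTK ht) (hCK hc)
  have hset : ((T : Set G) * (C : Set G) : Set G) = (K : Set G) := by
    apply Set.eq_of_subset_of_ncard_le hsub _ (Set.toFinite _)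
    rw [← Nat.card_coe_set_eq, ← Nat.card_coe_set_eq, hprodcard]
    rfl
  have hKle : ⁅K, A⁆ ≤ T := by
    rw [Subgroup.commutator_le]
    intro x hx a ha
    have hx' : x ∈ ((T : Set G) * (C : Set G) : Set G) := by rw [hset]; exact hx
    obtain ⟨t, ht, c, hc, rfl⟩ := hx'
    have hca : c * a = a * c :=
      ((Subgroup.mem_centralizer_iff.mp (show c ∈ Subgroup.centralizer (A : Set G) from hc.2)) a ha).symm
    have hcalc : ⁅t * c, a⁆ = t * (a * t⁻¹ * a⁻¹) := by
      have : ⁅t * c, a⁆ = t * (c * a * c⁻¹) * t⁻¹ * a⁻¹ := by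
        rw [commutatorElement_def]; group
      rw [this, hca, mul_inv_cancel_right]; group
    rw [hcalc]
    exact T.mul_mem ht ((Subgroup.mem_normalizer_iff.mp (hTA ha) t⁻¹).mp (T.inv_mem ht))
  rw [le_antisymm hKle hTle, hTcard]

end Cfsg.Agent.S0057
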