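import Cfsg.Statements.S0059
import Cfsg.Agent.Lib.Helper01.SZRel

set_option autoImplicit false
open Cfsg

namespace Cfsg.Agent.S0059

open Cfsg.Agent.Lib.Helper01
open scoped Pointwise

theorem mem_conj_smul_iff {G : Type*} [Group G] (g x : G) (H : Subgroup G) :
    x ∈ MulAut.conj g • H ↔ g⁻¹ * x * g ∈ H := by
  rw [Subgroup.mem_pointwise_smul_iff_inv_smul_mem]
  simp [MulAut.smul_def, mul_assoc]

theorem stab_sup_eq_top {G : Type*} [Group G] {X : Type*} [MulAction G X]
    (K : Subgroup G) (htrans : MulAction.IsPretransitive K X) (x0 : X) :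
    MulAction.stabilizer G x0 ⊔ K = ⊤ := by
  rw [eq_top_iff]
  intro g _
  obtain ⟨k, hk⟩ := MulAction.exists_smul_eq K x0 (g • x0)
  have hk' : (k : G) • x0 = g • x0 := hk
  have h1 : (k : G)⁻¹ * g ∈ MulAction.stabilizer G x0 := by
    rw [MulAction.mem_stabilizer_iff, mul_smul, ← hk', inv_smul_smul]
  have : g = (k : G) * ((k : G)⁻¹ * g) := by group
  rw [this, sup_comm]
  exact Subgroup.mul_mem_sup k.2 h1

theorem card_stab {G : Type*} [Group G] [Finite G] {X : Type*} [MulAction G X]
    (K : Subgroup G) [K.Normal] (hcop : (Nat.card K).Coprime K.index)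
    (htrans : MulAction.IsPretransitive K X) (x0 : X) :
    Nat.card (MulAction.stabilizer G x0) =
      Nat.card (K ⊓ MulAction.stabilizer G x0 : Subgroup G) * K.index ∧
    (Nat.card (K ⊓ MulAction.stabilizer G x0 : Subgroup G)).Coprime K.index ∧
    MulAction.stabilizer G x0 ≤
      Subgroup.normalizer ((K ⊓ MulAction.stabilizer G x0 : Subgroup G) : Set G) := by
  refine ⟨(card_inf_mul_index_of_sup_eq_top K _ (stab_sup_eq_top K htrans x0)).symm, ?_, ?_⟩
  · exact Nat.Coprime.coprime_dvd_left (Subgroup.card_dvd_of_le inf_le_left) hcop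
  · rw [inf_comm]
    exact le_normalizer_inf_normal _ K

/-- Let a finite group act on a set on which a normal subgroup K of coprime order and index is transitive, with K or the quotient solvable. Then any complement H of K has a fixed point, and any two H-fixed points are interchanged by an element of K centralising H. -/
theorem result {G : Type*} [Group G] [Finite G] {X : Type*} [Nonempty X] [MulAction G X]
    (K H : Subgroup G) [K.Normal] (hc : Subgroup.IsComplement' K H) (hcop : (Nat.card K).Coprime K.index)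
    (hsolv : Group.IsSolvable K ∨ Group.IsSolvable (G ⧸ K)) (htrans : MulAction.IsPretransitive K X) :
    (∃ x : X, ∀ h ∈ H, h • x = x) ∧
    ∀ x y : X, (∀ h ∈ H, h • x = x) → (∀ h ∈ H, h • y = y) → ∃ k ∈ K ⊓ Subgroup.centralizer (H : Set G), k • x = y := by
  have hHcard : Nat.card H = K.index := card_eq_index_of_isComplement' hc
  constructor
  · obtain x0 : X := Classical.arbitrary X
    obtain ⟨hcard, hcop', hPn⟩ := card_stab K hcop htrans x0
    obtain ⟨H1, hH1S, hH1card⟩ := sz_exists_in (MulAction.stabilizer G x0)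
      (K ⊓ MulAction.stabilizer G x0) inf_le_right hPn K.index hcard hcop'
    have hH1 : Subgroup.IsComplement' K H1 := isComplement'_of_card_eq_index hcop hH1card
    obtain ⟨g, hg⟩ := sz_conj K hcop hsolv H1 H hH1 hc
    refine ⟨g • x0, ?_⟩
    intro h hh
    rw [← hg, mem_conj_smul_iff] at hh
    have h1 := hH1S hh
    rw [MulAction.mem_stabilizer_iff] at h1
    calc h • g • x0 = g • (g⁻¹ * h * g) • x0 := by simp [mul_smul]
      _ = g • x0 := by rw [h1]
  · intro x y hx hy
    obtain ⟨k, hk⟩ := MulAction.exists_smul_eq K x y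
    have hk' : (k : G) • x = y := hk
    obtain ⟨hcard, hcop', hPn⟩ := card_stab K hcop htrans y
    have hHS : H ≤ MulAction.stabilizer G y := fun h hh => hy h hh
    have hkHS : MulAut.conj (k : G) • H ≤ MulAction.stabilizer G y := by
      intro h hh
      rw [mem_conj_smul_iff] at hh
      rw [MulAction.mem_stabilizer_iff]
      have h1 := hx _ hh
      calc h • y = (k : G) • ((k : G)⁻¹ * h * k) • x := by rw [← hk']; simp [mul_smul]
        _ = y := by rw [h1, hk']
    have hsolv' : Group.IsSolvable (K ⊓ MulAction.stabilizer G y : Subgroup G) ∨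
        Group.IsSolvable (MulAut.conj (k : G) • H : Subgroup G) := by
      rcases hsolv with h | h
      · left
        exact Group.isSolvable_of_isSolvable_injective
          (f := Subgroup.inclusion (inf_le_left : K ⊓ MulAction.stabilizer G y ≤ K))
          (Subgroup.inclusion_injective _)
      · right
        have hH : Group.IsSolvable H :=
          Group.isSolvable_of_surjective (f := (hc.symm.QuotientMulEquiv).toMonoidHom)
            (hc.symm.QuotientMulEquiv).surjective
        exact Group.isSolvable_of_surjective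
          (f := (Subgroup.equivSMul (MulAut.conj (k : G)) H).toMonoidHom)
          (Subgroup.equivSMul (MulAut.conj (k : G)) H).surjective
    have hkHcard : Nat.card (MulAut.conj (k : G) • H : Subgroup G) = K.index := by
      rw [card_conj_smul, hHcard]
    obtain ⟨c, hcS, hcc⟩ := sz_conj_in (MulAction.stabilizer G y)
      (K ⊓ MulAction.stabilizer G y) (MulAut.conj (k : G) • H) H inf_le_right hkHS hHS hPn
      (by rw [hkHcard]; exact hcard) (by rw [hkHcard]; exact hcop') (by rw [hkHcard, hHcard]) hsolv'
    rw [conj_smul_conj_smul] at hcc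
    -- n0 = c * k normalizes H
    obtain ⟨⟨k', h'⟩, hkh⟩ := hc.2 (c * k)
    simp only at hkh
    have hk'eq : (k' : G) = c * k * (h' : G)⁻¹ := by rw [← hkh]; group
    have hk'norm : MulAut.conj (k' : G) • H = H := by
      rw [hk'eq, ← conj_smul_conj_smul, Subgroup.conj_smul_eq_self_of_mem (H.inv_mem h'.2), hcc]
    refine ⟨k', Subgroup.mem_inf.mpr ⟨k'.2, ?_⟩, ?_⟩
    · rw [Subgroup.mem_centralizer_iff]
      intro h hh
      have h1 : (k' : G) * h * (k' : G)⁻¹ ∈ H := by
        have : (k' : G) * h * (k' : G)⁻¹ ∈ MulAut.conj (k' : G) • H := by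
          rw [mem_conj_smul_iff]
          have e : (k' : G)⁻¹ * ((k' : G) * h * (k' : G)⁻¹) * (k' : G) = h := by group
          rw [e]; exact hh
        rwa [hk'norm] at this
      have h2 : (k' : G) * h * (k' : G)⁻¹ * h⁻¹ ∈ H := H.mul_mem h1 (H.inv_mem hh)
      have h3 : (k' : G) * h * (k' : G)⁻¹ * h⁻¹ ∈ K := by
        have h4 : h * (k' : G)⁻¹ * h⁻¹ ∈ K := ‹K.Normal›.conj_mem _ (K.inv_mem k'.2) h
        have := K.mul_mem k'.2 h4
        simpa [mul_assoc] using this
      have h5 : (k' : G) * h * (k' : G)⁻¹ * h⁻¹ ∈ K ⊓ H := Subgroup.mem_inf.mpr ⟨h3, h2⟩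
      rw [hc.disjoint.eq_bot, Subgroup.mem_bot] at h5
      calc h * (k' : G) = ((k' : G) * h * (k' : G)⁻¹ * h⁻¹)⁻¹ * ((k' : G) * h) := by group
        _ = (k' : G) * h := by rw [h5]; group
    · rw [hk'eq, mul_smul, mul_smul, hx _ (H.inv_mem h'.2), hk']
      exact hcS

end Cfsg.Agent.S0059
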