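import Cfsg.Statements.S0060
import Cfsg.Agent.Lib.Helper01.PCore
import Cfsg.Agent.Lib.Helper01.Basic
import Cfsg.Agent.Lib.Helper02.SylowFusion

set_option autoImplicit false
open Pointwise
open Cfsg

namespace Cfsg.Agent.S0060

open Cfsg.Agent.Lib.Helper01 Cfsg.Agent.Lib.Helper02

theorem mem_conj_smul_iff {G : Type*} [Group G] (g x : G) (H : Subgroup G) :
    x ∈ MulAut.conj g • H ↔ g⁻¹ * x * g ∈ H := by
  rw [Subgroup.mem_pointwise_smul_iff_inv_smul_mem]
  simp [MulAut.smul_def, mul_assoc]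

/-- Brodkey's Theorem: in a finite group with abelian Sylow p-subgroups and no nontrivial normal p-subgroup, some conjugate of a Sylow p-subgroup meets it trivially. -/
theorem result {G : Type*} [Group G] [Finite G] (p : ℕ) [Fact p.Prime]
    (S : Sylow p G) (hS : IsMulCommutative S) (hOp : Cfsg.pCore p G = ⊥) :
    ∃ g : G, (S : Subgroup G) ⊓ MulAut.conj g • (S : Subgroup G) = ⊥ := by
  obtain ⟨g, hmin⟩ := Finite.exists_min
    (fun g : G => Nat.card ((S : Subgroup G) ⊓ MulAut.conj g • (S : Subgroup G) : Subgroup G))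
  refine ⟨g, ?_⟩
  set T : Subgroup G := MulAut.conj g • (S : Subgroup G) with hT
  set D : Subgroup G := (S : Subgroup G) ⊓ T with hD
  have hScomm : ∀ a ∈ (S : Subgroup G), ∀ b ∈ (S : Subgroup G), a * b = b * a :=
    fun a ha b hb => setLike_mul_comm (s := (S : Subgroup G)) ha hb
  have hTcomm : ∀ a ∈ T, ∀ b ∈ T, a * b = b * a := by
    intro a ha b hb
    rw [hT, mem_conj_smul_iff] at ha hb
    have := hScomm _ ha _ hb
    have e1 : a * b = g * ((g⁻¹ * a * g) * (g⁻¹ * b * g)) * g⁻¹ := by group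
    have e2 : b * a = g * ((g⁻¹ * b * g) * (g⁻¹ * a * g)) * g⁻¹ := by group
    rw [e1, e2, this]
  set N : Subgroup G := Subgroup.normalizer (D : Set G) with hN
  have hSN : (S : Subgroup G) ≤ N := by
    refine le_trans ?_ (Subgroup.centralizer_le_normalizer _)
    intro s hs
    rw [Subgroup.mem_centralizer_iff]
    intro d hd
    exact hScomm d hd.1 s hs
  have hTN : T ≤ N := by
    refine le_trans ?_ (Subgroup.centralizer_le_normalizer _)
    intro t ht
    rw [Subgroup.mem_centralizer_iff]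
    intro d hd
    exact hTcomm d hd.2 t ht
  have key : ∀ P : Sylow p G, D ≤ (P : Subgroup G) := by
    intro P
    obtain ⟨k, hkN, Q, hSQ, hQ⟩ := exists_common_sylow (p := p) N (S : Subgroup G)
      ((P : Subgroup G) ⊓ N) hSN inf_le_right S.isPGroup' (P.isPGroup'.to_le inf_le_left)
    have hQS : (Q : Subgroup G) = S := S.is_maximal' Q.isPGroup' hSQ
    have h1 : MulAut.conj k • (P : Subgroup G) ⊓ T ≤ D := by
      intro x hx
      obtain ⟨hxP, hxT⟩ := Subgroup.mem_inf.mp hx
      refine Subgroup.mem_inf.mpr ⟨?_, hxT⟩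
      rw [mem_conj_smul_iff] at hxP
      have hxN : k⁻¹ * x * k ∈ N := N.mul_mem (N.mul_mem (N.inv_mem hkN) (hTN hxT)) hkN
      have := hQ _ (Subgroup.mem_inf.mpr ⟨hxP, hxN⟩)
      rw [hQS] at this
      have e : k * (k⁻¹ * x * k) * k⁻¹ = x := by group
      rwa [e] at this
    obtain ⟨a, ha⟩ := MulAction.exists_smul_eq G S P
    have haP : (P : Subgroup G) = MulAut.conj a • (S : Subgroup G) := by
      rw [← ha]; rfl
    have h2 : Nat.card D ≤ Nat.card (MulAut.conj k • (P : Subgroup G) ⊓ T : Subgroup G) := by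
      have e : MulAut.conj k • (P : Subgroup G) ⊓ T =
          MulAut.conj g • ((S : Subgroup G) ⊓ MulAut.conj (g⁻¹ * k * a) • (S : Subgroup G)) := by
        rw [Subgroup.smul_inf, conj_smul_conj_smul, hT, haP, conj_smul_conj_smul, inf_comm]
        congr 2
        group
      rw [e, card_conj_smul]
      exact hmin (g⁻¹ * k * a)
    have h3 : MulAut.conj k • (P : Subgroup G) ⊓ T = D := Subgroup.eq_of_le_of_card_ge h1 h2
    intro d hd
    have hd' : k * d * k⁻¹ ∈ D := by
      have := (Subgroup.mem_normalizer_iff.mp hkN d).mp hd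
      exact this
    rw [← h3] at hd'
    have := (mem_conj_smul_iff k _ _).mp (Subgroup.mem_inf.mp hd').1
    have e : k⁻¹ * (k * d * k⁻¹) * k = d := by group
    rwa [e] at this
  have : D ≤ Cfsg.pCore p G := by
    rw [pCore_eq_iInf_sylow]
    exact le_iInf key
  rw [hOp] at this
  exact le_bot_iff.mp this

end Cfsg.Agent.S0060
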