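import Cfsg.Statements.S0069
import Mathlib
import Cfsg.Agent.S0040
import Cfsg.Agent.S0056
import Cfsg.Agent.S0068
import Cfsg.Agent.Lib.Helper02.FrobComplement
import Cfsg.Agent.Lib.Helper01.Coprime
import Cfsg.Agent.Lib.Helper03.CyclicPGroup

set_option autoImplicit false
open Cfsg

namespace Cfsg.Agent.S0069

section aux
variable {G : Type*} [Group G] [Finite G]

theorem even_case (K H : Subgroup G) [K.Normal]
    (hc : Subgroup.IsComplement' K H) (hK : K ≠ ⊥)
    (hfpf : ∀ h ∈ H, h ≠ 1 → K ⊓ Subgroup.centralizer {h} = ⊥) (heven : 2 ∣ Nat.card H) :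
    Subgroup.center H ≠ ⊥ := by
  obtain ⟨⟨s, hsH, hso, huniq, -⟩, -⟩ := S0068.result K H hc hK hfpf heven
  intro hbot
  have hmem : (⟨s, hsH⟩ : H) ∈ Subgroup.center H := by
    rw [Subgroup.mem_center_iff]
    intro h
    apply Subtype.ext
    show (h : G) * s = s * h
    have h1 : orderOf ((h : G) * s * (h : G)⁻¹) = 2 := by
      rw [← MulAut.conj_apply, MulEquiv.orderOf_eq, hso]
    have h2 := huniq _ (H.mul_mem (H.mul_mem h.2 hsH) (H.inv_mem h.2)) h1
    calc (h : G) * s = (h : G) * s * (h : G)⁻¹ * h := by group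
      _ = s * h := by rw [h2]
  rw [hbot, Subgroup.mem_bot] at hmem
  have : s = 1 := congrArg Subtype.val hmem
  rw [this, orderOf_one] at hso
  norm_num at hso

theorem odd_case (K H : Subgroup G) [K.Normal]
    (hc : Subgroup.IsComplement' K H) (hK : K ≠ ⊥) (hH : H ≠ ⊥)
    (hfpf : ∀ h ∈ H, h ≠ 1 → K ⊓ Subgroup.centralizer {h} = ⊥) (hodd : ¬ 2 ∣ Nat.card H) :
    Subgroup.center H ≠ ⊥ := by
  haveI : Nontrivial H := (Subgroup.nontrivial_iff_ne_bot H).mpr hH
  haveI hZ : IsZGroup H := by
    refine ⟨fun p hp P => ?_⟩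
    haveI := Fact.mk hp
    rcases S0040.result K H hc hK hfpf p P with h | ⟨n, ⟨e⟩⟩
    · exact h
    · exfalso
      have h1 : Nat.card (P : Subgroup H) = 4 * 2 ^ n := by
        rw [Nat.card_congr e.toEquiv, Nat.card_eq_fintype_card, QuaternionGroup.card]
      have h2 : Nat.card (P : Subgroup H) ∣ Nat.card H := Subgroup.card_subgroup_dvd_card _
      apply hodd
      exact Dvd.dvd.trans ⟨2 * 2 ^ n, by rw [h1]; ring⟩ h2
  set N : Subgroup H := commutator H with hN
  haveI hNcyc : IsCyclic N := IsZGroup.isCyclic_commutator (G := H)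
  have hNcop : (Nat.card N).Coprime N.index := IsZGroup.coprime_commutator_index H
  obtain ⟨C, hC⟩ := Subgroup.exists_right_complement'_of_coprime hNcop
  have hCcard : N.index = Nat.card C := hC.symm.index_eq_card
  haveI hCcyc : IsCyclic C := by
    have h1 : H ⧸ N ≃* C := hC.symm.QuotientMulEquiv
    haveI : IsCyclic (H ⧸ N) := (IsZGroup.isCyclic_abelianization : IsCyclic (Abelianization H))
    exact isCyclic_of_surjective h1 h1.surjective
  have hCne : C ≠ ⊥ := by
    intro h
    have h1 := hC.card_mul_card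
    rw [h, Subgroup.card_bot, mul_one] at h1
    have h2 : N = ⊤ := Subgroup.eq_top_of_card_eq N h1
    exact (IsZGroup.commutator_lt H).ne h2
  have hC1 : Nat.card C ≠ 1 := fun h => hCne (Subgroup.card_eq_one.mp h)
  obtain ⟨q, hq, hqC⟩ := Nat.exists_prime_and_dvd hC1
  haveI := Fact.mk hq
  obtain ⟨x, hx⟩ := exists_prime_orderOf_dvd_card' (G := C) q hqC
  set xg : G := ((x : H) : G) with hxg
  have hxgH : xg ∈ H := (x : H).2
  have hxgo : orderOf xg = q := by rw [hxg, Subgroup.orderOf_coe, Subgroup.orderOf_coe, hx]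
  have hqN : ¬ q ∣ Nat.card N := by
    intro h
    have hqi : q ∣ N.index := by rw [hCcard]; exact hqC
    have := Nat.dvd_gcd h hqi
    rw [hNcop.gcd_eq_one] at this
    exact hq.one_lt.ne' (Nat.dvd_one.mp this)
  -- transfer to G
  set A : Subgroup G := Subgroup.zpowers xg with hA
  set V : Subgroup G := N.map H.subtype with hV
  have hVH : V ≤ H := Subgroup.map_subtype_le _
  have hVcard : Nat.card V = Nat.card N := Subgroup.card_map_of_injective H.subtype_injective
  haveI : IsCyclic V := isCyclic_of_surjective _ (H.subtype.subgroupMap_surjective N)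
  haveI : IsMulCommutative V := IsCyclic.isMulCommutative
  have hAH : A ≤ H := (Subgroup.zpowers_le).mpr hxgH
  have hHV : ∀ h ∈ H, ∀ v ∈ V, h * v * h⁻¹ ∈ V := by
    rintro h hh _ ⟨n, hn, rfl⟩
    haveI : N.Normal := by rw [hN]; infer_instance
    exact ⟨⟨h, hh⟩ * n * ⟨h, hh⟩⁻¹, ‹N.Normal›.conj_mem n hn ⟨h, hh⟩, rfl⟩
  have hAV : A ≤ Subgroup.normalizer (V : Set G) := by
    rw [Subgroup.le_normalizer_iff]
    intro a ha v hv
    exact hHV a (hAH ha) v hv
  have hAcard : Nat.card A = q := by rw [hA, Nat.card_zpowers, hxgo]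
  have hcop : (Nat.card A).Coprime (Nat.card V) := by
    rw [hAcard, hVcard]
    exact (Nat.Prime.coprime_iff_not_dvd hq).mpr hqN
  haveI : Group.IsSolvable H := inferInstance
  have hΩ : ∀ v ∈ V, (orderOf v).Prime → ∀ a ∈ A, a * v = v * a := by
    intro v hv hr a ha
    set r := orderOf v with hrdef
    -- conjugates of v by H stay in ⟨v⟩
    have hconj : ∀ h ∈ H, h * v * h⁻¹ ∈ Subgroup.zpowers v := by
      intro h hh
      have hz : (⟨h * v * h⁻¹, hHV h hh v hv⟩ : V) ^ r = 1 := by
        apply Subtype.ext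
        rw [Subgroup.coe_pow, Subgroup.coe_one]
        show (h * v * h⁻¹) ^ r = 1
        rw [conj_pow, hrdef, pow_orderOf_eq_one]
        group
      have hd : orderOf (⟨v, hv⟩ : V) = r := by rw [Subgroup.orderOf_mk]
      have hmem := Lib.Helper03.mem_zpowers_of_pow_eq_one_of_isCyclic hr.pos
        (⟨v, hv⟩ : V) ⟨h * v * h⁻¹, hHV h hh v hv⟩ hd hz
      obtain ⟨k, hk⟩ := Subgroup.mem_zpowers_iff.mp hmem
      have hk' := congrArg Subtype.val hk
      rw [Subgroup.coe_zpow] at hk'
      simp only at hk'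
      exact Subgroup.mem_zpowers_iff.mpr ⟨k, hk'⟩
    have hAnorm : A ≤ Subgroup.normalizer (Subgroup.zpowers v : Set G) := by
      rw [Subgroup.le_normalizer_iff]
      intro a ha w hw
      obtain ⟨j, rfl⟩ := Subgroup.mem_zpowers_iff.mp hw
      rw [← conj_zpow]
      exact Subgroup.zpow_mem _ (hconj a (hAH ha)) j
    have hrq : r ≠ q := by
      intro h
      apply hqN
      rw [← hVcard, ← h, hrdef]
      exact Subgroup.orderOf_dvd_natCard V hv
    have hcopE : (Nat.card (Subgroup.zpowers v)).Coprime (Nat.card A) := by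
      rw [Nat.card_zpowers, hAcard]
      exact (Nat.coprime_primes hr hq).mpr hrq
    have hEcard := Lib.Helper01.card_sup_of_coprime_of_le_normalizer (Subgroup.zpowers v) A hAnorm hcopE
    rw [Nat.card_zpowers, hAcard] at hEcard
    set E : Subgroup G := A ⊔ Subgroup.zpowers v with hE
    have hEH : E ≤ H := sup_le hAH ((Subgroup.zpowers_le).mpr (hVH hv))
    have hsolvE : Group.IsSolvable E :=
      solvable_of_solvable_injective (Subgroup.inclusion_injective hEH)
    haveI : IsCyclic E :=
      Lib.Helper02.cyclic_of_card_mul_of_fpf K H hK hfpf E hEH hsolvE r q hr hq hEcard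
    have hxE : xg ∈ E := le_sup_left (b := Subgroup.zpowers v) (Subgroup.mem_zpowers xg)
    have hvE : v ∈ E := le_sup_right (a := A) (Subgroup.mem_zpowers v)
    have hcomm : xg * v = v * xg := by
      have := mul_comm' (⟨xg, hxE⟩ : E) ⟨v, hvE⟩
      exact congrArg Subtype.val this
    obtain ⟨i, rfl⟩ := Subgroup.mem_zpowers_iff.mp ha
    have hc' : Commute xg v := hcomm
    exact (hc'.zpow_left i).eq
  have hcent := S0056.result A V hAV hcop hΩ
  -- x is central in H
  intro hbot
  have hmem : (x : H) ∈ Subgroup.center H := by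
    rw [Subgroup.mem_center_iff]
    intro h
    obtain ⟨⟨n, c⟩, hnc⟩ := hC.2 h
    simp only at hnc
    have h1 : (n : H) * (x : H) = (x : H) * n := by
      apply Subtype.ext
      have hnV : ((n : H) : G) ∈ V := ⟨n, n.2, rfl⟩
      have := (Subgroup.mem_centralizer_iff.mp (hcent (Subgroup.mem_zpowers xg))) _ hnV
      exact this
    have h2 : (c : H) * (x : H) = (x : H) * c := by
      have := mul_comm' c x
      exact congrArg Subtype.val this
    rw [← hnc]
    calc (n : H) * (c : H) * (x : H) = (n : H) * ((c : H) * (x : H)) := by group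
      _ = (n : H) * ((x : H) * c) := by rw [h2]
      _ = ((n : H) * (x : H)) * c := by group
      _ = (x : H) * n * c := by rw [h1]
      _ = (x : H) * ((n : H) * c) := by group
  rw [hbot, Subgroup.mem_bot] at hmem
  have hx1 : x = 1 := Subtype.ext hmem
  rw [hx1, orderOf_one] at hx
  exact hq.one_lt.ne hx

end aux

/-- A Frobenius complement has nontrivial centre: if H ≠ 1 complements a nontrivial normal subgroup K and every nonidentity element of H has trivial centraliser in K, then the centre of H is nontrivial. -/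
theorem result {G : Type*} [Group G] [Finite G] (K H : Subgroup G) [K.Normal]
    (hc : Subgroup.IsComplement' K H) (hK : K ≠ ⊥) (hH : H ≠ ⊥) (hfpf : ∀ h ∈ H, h ≠ 1 → K ⊓ Subgroup.centralizer {h} = ⊥) :
    Subgroup.center H ≠ ⊥ := by
  by_cases heven : 2 ∣ Nat.card H
  · exact even_case K H hc hK hfpf heven
  · exact odd_case K H hc hK hH hfpf heven

end Cfsg.Agent.S0069
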