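import Cfsg.Statements.S0070
import Cfsg.Agent.Lib.Helper76.Fitting

set_option autoImplicit false
open Cfsg

namespace Cfsg.Agent.S0070

open Cfsg.Agent.Lib.Helper76

/-- `O_p(G/Φ(G))` is contained in the image of `O_p(G)`. -/
theorem pCore_quotient_le {G : Type*} [Group G] [Finite G] (p : ℕ) [hp : Fact p.Prime] :
    Cfsg.pCore p (G ⧸ frattini G) ≤ (Cfsg.pCore p G).map (QuotientGroup.mk' (frattini G)) := by
  set Φ := frattini G with hΦ
  set π := QuotientGroup.mk' Φ with hπ
  have hπs : Function.Surjective π := QuotientGroup.mk'_surjective Φ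
  have hker : π.ker = Φ := QuotientGroup.ker_mk' Φ
  set L : Subgroup G := (Cfsg.pCore p (G ⧸ Φ)).comap π with hL
  have hLn : L.Normal := by
    haveI := pCore_normal (G := G ⧸ Φ) p
    exact Subgroup.Normal.comap inferInstance π
  have hΦL : Φ ≤ L := by
    rw [← hker]; exact Subgroup.ker_le_comap π _
  have hLmap : L.map π = Cfsg.pCore p (G ⧸ Φ) := Subgroup.map_comap_eq_self_of_surjective hπs _
  obtain P : Sylow p L := default
  set P' : Subgroup G := (P : Subgroup L).map L.subtype with hP'
  have hP'L : P' ≤ L := Subgroup.map_subtype_le _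
  have hfr : Subgroup.normalizer (P' : Set G) ⊔ L = ⊤ := Sylow.normalizer_sup_eq_top P
  -- L = P' ⊔ Φ
  have hLle : L ≤ P' ⊔ Φ := by
    rw [← Subgroup.relIndex_eq_one]
    have h1 : (P' ⊔ Φ).relIndex L ∣ P'.relIndex L := Subgroup.relIndex_dvd_of_le_left L le_sup_left
    have h2 : (P' ⊔ Φ).relIndex L ∣ Φ.relIndex L := Subgroup.relIndex_dvd_of_le_left L le_sup_right
    have h3 : P'.relIndex L = (P : Subgroup L).index := by
      unfold Subgroup.relIndex
      congr 1
      exact Subgroup.comap_map_eq_self_of_injective L.subtype_injective _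
    have h4 : Φ.relIndex L = Nat.card (Cfsg.pCore p (G ⧸ Φ)) := by
      have e : Φ.relIndex L = π.ker.relIndex L := by rw [hker]
      rw [e, Subgroup.relIndex_ker, hLmap]
    obtain ⟨k, hk⟩ := IsPGroup.exists_card_eq (pCore_isPGroup (G := G ⧸ Φ) p)
    rw [h4, hk] at h2
    obtain ⟨j, -, hj⟩ := (Nat.dvd_prime_pow hp.out).mp h2
    rcases Nat.eq_zero_or_pos j with h0 | hpos
    · rw [hj, h0, pow_zero]
    · exfalso
      apply P.not_dvd_index
      rw [← h3]
      refine dvd_trans ?_ h1
      rw [hj]
      exact dvd_pow_self p hpos.ne'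
  have hNtop : Subgroup.normalizer (P' : Set G) = ⊤ := by
    apply frattini_nongenerating
    rw [eq_top_iff, ← hfr]
    apply sup_le le_sup_left
    refine hLle.trans (sup_le ?_ le_sup_right)
    exact Subgroup.le_normalizer.trans le_sup_left
  have hP'n : P'.Normal := Subgroup.normalizer_eq_top_iff.mp hNtop
  have hP'p : IsPGroup p P' := P.isPGroup'.map _
  have hP'core : P' ≤ Cfsg.pCore p G := le_pCore hP'n hP'p
  rw [← hLmap]
  calc L.map π ≤ (Cfsg.pCore p G ⊔ Φ).map π := Subgroup.map_mono (hLle.trans (sup_le_sup_right hP'core Φ))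
    _ = (Cfsg.pCore p G).map π := by
        have e : Φ.map π = ⊥ := (Subgroup.map_eq_bot_iff _).mpr hker.ge
        rw [Subgroup.map_sup, e, sup_bot_eq]

/-- The Fitting subgroup commutes with passing to the Frattini quotient: the Fitting subgroup of G modulo its Frattini subgroup is the image of the Fitting subgroup of G. -/
theorem result {G : Type*} [Group G] [Finite G] :
    Cfsg.fittingSubgroup (G ⧸ frattini G) = (Cfsg.fittingSubgroup G).map (QuotientGroup.mk' (frattini G)) := by
  apply le_antisymm
  · rw [fittingSubgroup_eq_pCoreJoin]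
    unfold pCoreJoin
    apply iSup_le
    intro p
    haveI : Fact (p : ℕ).Prime := ⟨Nat.prime_of_mem_primeFactors p.2⟩
    exact (pCore_quotient_le (p : ℕ)).trans (Subgroup.map_mono (pCore_le_fittingSubgroup (p : ℕ)))
  · apply le_fittingSubgroup
    · haveI := fittingSubgroup_normal (G := G)
      exact Subgroup.Normal.map inferInstance _ (QuotientGroup.mk'_surjective _)
    · haveI := fittingSubgroup_isNilpotent (G := G)
      exact nilpotent_of_surjective
        ((QuotientGroup.mk' (frattini G)).subgroupMap (Cfsg.fittingSubgroup G))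
        ((QuotientGroup.mk' (frattini G)).subgroupMap_surjective _)

end Cfsg.Agent.S0070
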