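import Cfsg.Statements.S0073
import Mathlib
import Cfsg.Agent.Lib.Helper03.AbelianSylowAut

set_option autoImplicit false
open Cfsg

namespace Cfsg.Agent.S0073

open Cfsg.Agent.Lib.Helper03

/-- arithmetic: a prime `q > p` dividing `p^k - p^j` with `j < k ≤ 2` forces `p = 2, q = 3, k = 2`. -/
theorem arith {p q k j : ℕ} (hp : p.Prime) (hq : q.Prime) (hpq : p < q) (hk : k ≤ 2) (hj : j < k)
    (hd : q ∣ p ^ k - p ^ j) : p = 2 ∧ q = 3 ∧ k = 2 := by
  have hp2 := hp.two_le
  have hq_not_dvd_pred : ¬ q ∣ p - 1 := by
    intro h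
    have := Nat.le_of_dvd (by omega) h
    omega
  have hq_not_dvd_p : ¬ q ∣ p := by
    intro h
    have := Nat.le_of_dvd (by omega) h
    omega
  interval_cases k
  · omega
  · have hj0 : j = 0 := by omega
    subst hj0
    simp at hd
    exact absurd hd hq_not_dvd_pred
  · have hj01 : j = 0 ∨ j = 1 := by omega
    rcases hj01 with rfl | rfl
    · have e : p ^ 2 - p ^ 0 = (p - 1) * (p + 1) := by
        obtain ⟨m, rfl⟩ : ∃ m, p = m + 1 := ⟨p - 1, by omega⟩
        have h : (m + 1) ^ 2 = m * (m + 1 + 1) + 1 := by ring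
        rw [h]; simp
      rw [e] at hd
      rcases (Nat.Prime.dvd_mul hq).mp hd with h | h
      · exact absurd h hq_not_dvd_pred
      · have h1 : q ≤ p + 1 := Nat.le_of_dvd (Nat.succ_pos p) h
        have hqp : q = p + 1 := le_antisymm h1 hpq
        -- consecutive primes
        rcases Nat.even_or_odd p with he | ho
        · have h2 : p = 2 := (Nat.Prime.even_iff hp).mp he
          exact ⟨h2, by omega, rfl⟩
        · exfalso
          have h2 : Even q := by rw [hqp]; exact Odd.add_one ho
          have h3 : q = 2 := (Nat.Prime.even_iff hq).mp h2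
          omega
    · have e : p ^ 2 - p ^ 1 = p * (p - 1) := by
        obtain ⟨m, rfl⟩ : ∃ m, p = m + 1 := ⟨p - 1, by omega⟩
        have h : (m + 1) ^ 2 = (m + 1) * m + (m + 1) ^ 1 := by ring
        rw [h]; simp
      rw [e] at hd
      rcases (Nat.Prime.dvd_mul hq).mp hd with h | h
      · exact absurd h hq_not_dvd_p
      · exact absurd h hq_not_dvd_pred

/-- For a finite non-abelian simple group, either the cube of the least prime divisor of the order divides the order, or 12 does. -/
theorem result {G : Type*} [Group G] [Finite G] [IsSimpleGroup G] (hG : ∃ x y : G, x * y ≠ y * x) : (Nat.card G).minFac ^ 3 ∣ Nat.card G ∨ 12 ∣ Nat.card G := by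
  set n := Nat.card G with hn
  have hn1 : n ≠ 1 := by
    intro h
    have : Subsingleton G := (Nat.card_eq_one_iff_unique.mp h).1
    obtain ⟨x, y, hxy⟩ := hG
    exact hxy (Subsingleton.elim _ _)
  set p := n.minFac with hpdef
  have hp : p.Prime := Nat.minFac_prime hn1
  haveI : Fact p.Prime := ⟨hp⟩
  have hpn : p ∣ n := Nat.minFac_dvd n
  obtain P : Sylow p G := default
  set k := n.factorization p with hk
  have hPcard : Nat.card P = p ^ k := P.card_eq_multiplicity
  have hpk : p ^ k ∣ n := Nat.ordProj_dvd n p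
  by_cases hk3 : 3 ≤ k
  · left
    exact (pow_dvd_pow p hk3).trans hpk
  · right
    have hk2 : k ≤ 2 := by omega
    have hkpos : 0 < k := hp.factorization_pos_of_dvd (Nat.card_pos.ne') hpn
    have hk0 : k ≠ 0 := hkpos.ne'
    -- P is commutative
    have hPcomm : IsMulCommutative P := by
      have hk12 : k = 1 ∨ k = 2 := by omega
      rcases hk12 with h1 | h2
      · rw [h1, pow_one] at hPcard
        haveI := isCyclic_of_prime_card hPcard
        exact IsCyclic.commutative
      · rw [h2] at hPcard
        exact ⟨⟨IsPGroup.commutative_of_card_eq_prime_sq hPcard⟩⟩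
    by_cases hq : ∀ q : ℕ, q.Prime → q ∣ Nat.card G → q ≠ p → ∀ j < k, ¬ q ∣ p ^ k - p ^ j
    · exfalso
      have hNC := normalizer_le_centralizer_of_forall_not_dvd P hPcomm k hPcard hq
      have hcompl := MonoidHom.ker_transferSylow_isComplement' P hNC
      rcases (MonoidHom.normal_ker (MonoidHom.transferSylow P hNC)).eq_bot_or_eq_top with h | h
      · rw [h, Subgroup.isComplement'_bot_left] at hcompl
        obtain ⟨x, y, hxy⟩ := hG
        apply hxy
        have hx : x ∈ (P : Subgroup G) := hcompl ▸ Subgroup.mem_top x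
        have hy : y ∈ (P : Subgroup G) := hcompl ▸ Subgroup.mem_top y
        exact setLike_mul_comm (s := (P : Subgroup G)) hx hy
      · rw [h, Subgroup.isComplement'_top_left] at hcompl
        exact P.ne_bot_of_dvd_card hpn hcompl
    · push Not at hq
      obtain ⟨q, hqp, hqn, hqne, j, hjk, hqd⟩ := hq
      have hpq : p < q := by
        have h1 : p ≤ q := Nat.minFac_le_of_dvd hqp.two_le hqn
        omega
      obtain ⟨rfl', rfl'', hk2'⟩ := arith hp hqp hpq hk2 hjk hqd
      rw [hk2', rfl'] at hpk
      rw [rfl''] at hqn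
      have h4 : 4 ∣ n := by simpa using hpk
      have : Nat.Coprime 4 3 := by decide
      have h12 : 4 * 3 ∣ n := Nat.Coprime.mul_dvd_of_dvd_of_dvd this h4 hqn
      simpa using h12

end Cfsg.Agent.S0073
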