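import Cfsg.Statements.S0075
import Cfsg.Agent.Lib.Helper02.PResidual

set_option autoImplicit false
open Cfsg

namespace Cfsg.Agent.S0075

open Cfsg.Agent.Lib.Helper02
open scoped commutatorElement

/-- For an abelian Sylow p-subgroup T, its intersection with the subgroup generated by the elements of order prime to p is the commutator of T with its normalizer. -/
theorem result {G : Type*} [Group G] [Finite G] {p : ℕ} [Fact p.Prime] (T : Sylow p G) (hT : IsMulCommutative T) : (T : Subgroup G) ⊓ Cfsg.pResidual p G = ⁅(T : Subgroup G), Subgroup.normalizer (T : Set G)⁆ := by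
  apply le_antisymm
  · -- T ⊓ O^p(G) ≤ G' ⊓ T = focal subgroup ≤ ⁅T, N(T)⁆
    have h1 : (T : Subgroup G) ⊓ Cfsg.pResidual p G ≤ commutator G ⊓ (T : Subgroup G) := by
      intro x hx
      obtain ⟨hxT, hxR⟩ := Subgroup.mem_inf.mp hx
      refine Subgroup.mem_inf.mpr ⟨?_, hxT⟩
      obtain ⟨k, hk⟩ := T.isPGroup' ⟨x, hxT⟩
      have hk' : x ^ p ^ k = 1 := by
        have := congrArg Subtype.val hk
        simpa using this
      exact mem_commutator_of_mem_pResidual x hxR k hk'
    refine h1.trans ?_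
    rw [Subgroup.commutator_inf_eq_focalSubgroup, Subgroup.focalSubgroup_def, Subgroup.closure_le]
    rintro g ⟨hgP, x, hxP, u, rfl⟩
    have h1 : (u⁻¹)⁻¹ * x⁻¹ * u⁻¹ ∈ T := by
      have : (u⁻¹)⁻¹ * x⁻¹ * u⁻¹ = x⁻¹ * ⁅x, u⁆ := by
        rw [commutatorElement_def]; group
      rw [this]
      exact mul_mem (inv_mem hxP) hgP
    obtain ⟨n, hn, hconj⟩ := T.conj_eq_normalizer_conj_of_mem x⁻¹ u⁻¹ (inv_mem hxP) h1
    have h2 : ⁅x, u⁆ = ⁅x, n⁻¹⁆ := by
      rw [commutatorElement_def, commutatorElement_def]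
      calc x * u * x⁻¹ * u⁻¹ = x * ((u⁻¹)⁻¹ * x⁻¹ * u⁻¹) := by group
        _ = x * (n⁻¹ * x⁻¹ * n) := by rw [hconj]
        _ = x * n⁻¹ * x⁻¹ * n⁻¹⁻¹ := by group
    rw [SetLike.mem_coe, h2]
    exact Subgroup.commutator_mem_commutator hxP (inv_mem hn)
  · apply le_inf
    · exact (Subgroup.le_normalizer_iff_commutator_le_left).mp le_rfl
    · refine le_trans ?_ (commutator_le_pResidual_of_comm_sylow T hT)
      rw [commutator_def]
      exact Subgroup.commutator_mono le_top le_top

end Cfsg.Agent.S0075
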