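import Cfsg.Statements.S0076
import Cfsg.Agent.Lib.Helper02.SylowFusion

set_option autoImplicit false
open Cfsg

namespace Cfsg.Agent.S0076

open Cfsg.Agent.Lib.Helper02

theorem conj_image_mul {G : Type*} [Group G] (a b : G) (S : Set G) :
    (fun y => (a * b) * y * (a * b)⁻¹) '' S = (fun y => a * y * a⁻¹) '' ((fun y => b * y * b⁻¹) '' S) := by
  rw [Set.image_image]
  congr 1
  funext y
  group

theorem conj_image_inv {G : Type*} [Group G] (a : G) (S T : Set G)
    (h : (fun y => a * y * a⁻¹) '' S = T) : (fun y => a⁻¹ * y * a⁻¹⁻¹) '' T = S := by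
  rw [← h, Set.image_image]
  convert Set.image_id S using 2
  simp only [id]
  group

/-- Two P-invariant subsets of a Sylow p-subgroup P that are conjugate in G are conjugate under the normalizer of P. -/
theorem result {G : Type*} [Group G] [Finite G] {p : ℕ} [Fact p.Prime] (P : Sylow p G) (X Y : Set G) (hXP : X ⊆ P) (hYP : Y ⊆ P) (hX : ∀ x ∈ P, (fun y => x * y * x⁻¹) '' X = X) (hY : ∀ x ∈ P, (fun y => x * y * x⁻¹) '' Y = Y) (g : G) (hg : (fun y => g * y * g⁻¹) '' X = Y) : ∃ n ∈ Subgroup.normalizer (P : Set G), (fun y => n * y * n⁻¹) '' X = Y := by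
  have hmem : ∀ n : G, n ∈ Subgroup.normalizer Y ↔ (fun y => n * y * n⁻¹) '' Y = Y := by
    intro n
    rw [Subgroup.mem_normalizer_iff_conj_image_eq]
    rfl
  have h1 : (P : Subgroup G) ≤ Subgroup.normalizer Y := by
    intro x hx
    rw [hmem]
    exact hY x hx
  have h2 : ∀ x ∈ P, g * x * g⁻¹ ∈ Subgroup.normalizer Y := by
    intro x hx
    rw [hmem]
    have e : g * x * g⁻¹ = g * (x * g⁻¹) := by group
    rw [e, conj_image_mul, conj_image_mul, conj_image_inv g X Y hg, hX x hx, hg]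
  obtain ⟨h, hh, hn⟩ := exists_mem_mul_mem_normalizer P (Subgroup.normalizer Y) g h1 h2
  refine ⟨h * g, hn, ?_⟩
  rw [conj_image_mul, hg]
  exact (hmem h).mp hh

end Cfsg.Agent.S0076
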