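import Cfsg.Statements.S0077
import Cfsg.Agent.Lib.Helper02.SylowFusion

set_option autoImplicit false
open Cfsg

namespace Cfsg.Agent.S0077

open Cfsg.Agent.Lib.Helper02
open scoped commutatorElement Pointwise

variable {G : Type*} [Group G]

theorem mem_normalizer_of_map_eq (Z : Subgroup G) (g : G)
    (h : Z.map (MulAut.conj g).toMonoidHom = Z) : g ∈ Subgroup.normalizer (Z : Set G) := by
  rw [Subgroup.mem_normalizer_iff_map_conj_eq]
  exact h

theorem map_conj_le_iff (Z P : Subgroup G) (g : G) :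
    Z.map (MulAut.conj g).toMonoidHom ≤ P ↔ ∀ z ∈ Z, g * z * g⁻¹ ∈ P := by
  constructor
  · intro h z hz
    exact h ⟨z, hz, rfl⟩
  · rintro h _ ⟨z, hz, rfl⟩
    exact h z hz

/-- weak closure: if `Z` and `k Z k⁻¹` lie in a common Sylow subgroup then `k` normalizes `Z` -/
theorem weak_closure_normalizer [Finite G] {p : ℕ} [Fact p.Prime] (P : Sylow p G) (Z : Subgroup G)
    (hW : Cfsg.IsWeaklyClosed Z P) (Q : Sylow p G) (hZQ : Z ≤ (Q : Subgroup G)) (k : G)
    (hk : ∀ z ∈ Z, k * z * k⁻¹ ∈ (Q : Subgroup G)) : k ∈ Subgroup.normalizer (Z : Set G) := by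
  obtain ⟨h, hh⟩ := MulAction.exists_smul_eq G P Q
  have hQ : ∀ x : G, x ∈ (Q : Subgroup G) ↔ h⁻¹ * x * h ∈ (P : Subgroup G) := by
    intro x
    rw [← hh, Sylow.coe_subgroup_smul, Subgroup.mem_pointwise_smul_iff_inv_smul_mem]
    simp [MulAut.smul_def, mul_assoc]
  have h1 : h⁻¹ ∈ Subgroup.normalizer (Z : Set G) := by
    apply mem_normalizer_of_map_eq
    apply hW.2
    rw [map_conj_le_iff]
    intro z hz
    have := (hQ z).mp (hZQ hz)
    simpa using this
  have h2 : h⁻¹ * k ∈ Subgroup.normalizer (Z : Set G) := by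
    apply mem_normalizer_of_map_eq
    apply hW.2
    rw [map_conj_le_iff]
    intro z hz
    have := (hQ _).mp (hk z hz)
    have e : h⁻¹ * k * z * (h⁻¹ * k)⁻¹ = h⁻¹ * (k * z * k⁻¹) * h := by group
    rw [e]; exact this
  have h3 : k = (h⁻¹)⁻¹ * (h⁻¹ * k) := by group
  rw [h3]
  exact Subgroup.mul_mem _ (Subgroup.inv_mem _ h1) h2

/-- If a subgroup Z of the centre of a Sylow p-subgroup P is weakly closed in P, then P meets the derived subgroup of G exactly where it meets the derived subgroup of the normalizer of Z. -/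
theorem result {G : Type*} [Group G] [Finite G] {p : ℕ} [Fact p.Prime] (P : Sylow p G) (Z : Subgroup G) (hZ : Z ≤ Subgroup.centralizer (P : Set G)) (hW : Cfsg.IsWeaklyClosed Z P) : commutator G ⊓ (P : Subgroup G) = ⁅Subgroup.normalizer (Z : Set G), Subgroup.normalizer (Z : Set G)⁆ ⊓ (P : Subgroup G) := by
  have hPN : (P : Subgroup G) ≤ Subgroup.normalizer (Z : Set G) := by
    intro x hx
    rw [Subgroup.mem_normalizer_iff]
    intro z
    have key : ∀ a ∈ (P : Subgroup G), ∀ y ∈ Z, a * y * a⁻¹ = y := by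
      intro a ha y hy
      have := hZ hy a ha
      rw [this]; group
    constructor
    · intro hz
      rw [key x hx z hz]; exact hz
    · intro hz
      have h3 := key x⁻¹ (inv_mem hx) _ hz
      have e : x⁻¹ * (x * z * x⁻¹) * x⁻¹⁻¹ = z := by group
      rw [e] at h3
      rw [h3]; exact hz
  have hZp : IsPGroup p Z := P.isPGroup'.to_le hW.1
  apply le_antisymm
  · rw [Subgroup.commutator_inf_eq_focalSubgroup, Subgroup.focalSubgroup_def, Subgroup.closure_le]
    rintro g ⟨hgP, x, hxP, u, rfl⟩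
    refine Subgroup.mem_inf.mpr ⟨?_, hgP⟩
    -- y = u x⁻¹ u⁻¹ ∈ P
    set y := u * x⁻¹ * u⁻¹ with hy
    have hyP : y ∈ (P : Subgroup G) := by
      have : y = x⁻¹ * ⁅x, u⁆ := by
        rw [hy, commutatorElement_def]; group
      rw [this]
      exact mul_mem (inv_mem hxP) hgP
    -- Z ≤ C(y), u Z u⁻¹ ≤ C(y)
    set B := Z.map (MulAut.conj u).toMonoidHom with hB
    have hZC : Z ≤ Subgroup.centralizer {y} := by
      intro z hz
      rw [Subgroup.mem_centralizer_singleton_iff]
      exact (hZ hz y hyP).symm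
    have hBC : B ≤ Subgroup.centralizer {y} := by
      rintro _ ⟨z, hz, rfl⟩
      rw [Subgroup.mem_centralizer_singleton_iff]
      have hc : x⁻¹ * z = z * x⁻¹ := hZ hz x⁻¹ (inv_mem hxP)
      simp only [MulEquiv.coe_toMonoidHom, MulAut.conj_apply, hy]
      calc u * z * u⁻¹ * (u * x⁻¹ * u⁻¹) = u * (z * x⁻¹) * u⁻¹ := by group
        _ = u * (x⁻¹ * z) * u⁻¹ := by rw [hc]
        _ = u * x⁻¹ * u⁻¹ * (u * z * u⁻¹) := by group
    have hBp : IsPGroup p B := hZp.map _
    obtain ⟨k, hk, Q, hZQ, hBQ⟩ :=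
      exists_common_sylow (p := p) (Subgroup.centralizer {y}) Z B hZC hBC hZp hBp
    have hn : k * u ∈ Subgroup.normalizer (Z : Set G) := by
      apply weak_closure_normalizer P Z hW Q hZQ
      intro z hz
      have := hBQ (u * z * u⁻¹) ⟨z, hz, rfl⟩
      have e : k * u * z * (k * u)⁻¹ = k * (u * z * u⁻¹) * k⁻¹ := by group
      rw [e]; exact this
    have hky : k * y * k⁻¹ = y := by
      rw [Subgroup.mem_centralizer_singleton_iff] at hk
      rw [hk]; group
    have h2 : ⁅x, u⁆ = ⁅x, k * u⁆ := by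
      rw [commutatorElement_def, commutatorElement_def]
      calc x * u * x⁻¹ * u⁻¹ = x * y := by rw [hy]; group
        _ = x * (k * y * k⁻¹) := by rw [hky]
        _ = x * (k * u) * x⁻¹ * (k * u)⁻¹ := by rw [hy]; group
    rw [h2]
    exact Subgroup.commutator_mem_commutator (hPN hxP) hn
  · apply inf_le_inf_right
    rw [commutator_def]
    exact Subgroup.commutator_mono le_top le_top

end Cfsg.Agent.S0077
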