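import Cfsg.Statements.S0078
import Cfsg.Agent.Lib.Helper41.GrunTwo
import Cfsg.Agent.S5093

set_option autoImplicit false
open Cfsg

namespace Cfsg.Agent.S0078

/-- In a p-normal group, a Sylow p-subgroup P meets O^p(G) exactly where it meets O^p(V), for any subgroup V containing the normalizer of the centre of P. -/
theorem result {G : Type*} [Group G] [Finite G] {p : ℕ} [Fact p.Prime] (P : Sylow p G) (hn : ∀ Q : Sylow p G, (P : Subgroup G) ⊓ Subgroup.centralizer (P : Set G) ≤ (Q : Subgroup G) → (Q : Subgroup G) ⊓ Subgroup.centralizer (Q : Set G) = (P : Subgroup G) ⊓ Subgroup.centralizer (P : Set G)) (V : Subgroup G) (hV : Subgroup.normalizer (((P : Subgroup G) ⊓ Subgroup.centralizer (P : Set G) : Subgroup G) : Set G) ≤ V) : (P : Subgroup G) ⊓ Cfsg.pResidual p G = (P : Subgroup G) ⊓ (Cfsg.pResidual p V).map V.subtype := by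
  classical
  haveI hnV := Cfsg.Agent.Lib.Helper42.pResidual_normal p V
  set R := (Cfsg.pResidual p V).map V.subtype with hR
  -- `P ≤ N_G(Z(P)) ≤ V`
  have hPV : (P : Subgroup G) ≤ V := by
    refine le_trans ?_ hV
    intro x hx
    have hxN : Cfsg.Agent.Lib.Helper41.lc x (P : Subgroup G) = (P : Subgroup G) :=
      Cfsg.Agent.Lib.Helper41.mem_normalizer_iff_lc.mp (Subgroup.le_normalizer hx)
    rw [Cfsg.Agent.Lib.Helper41.mem_normalizer_iff_lc]
    show Cfsg.Agent.Lib.Helper41.lc x ((P : Subgroup G) ⊓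
      Subgroup.centralizer (((P : Subgroup G)) : Set G)) =
      (P : Subgroup G) ⊓ Subgroup.centralizer (((P : Subgroup G)) : Set G)
    rw [Cfsg.Agent.Lib.Helper41.lc_inf, ← Cfsg.Agent.Lib.Helper41.centralizer_lc, hxN]
  have hRconj : ∀ x ∈ V, ∀ k ∈ R, x * k * x⁻¹ ∈ R := by
    intro x hx k hk
    have : Cfsg.Agent.Lib.Helper41.lc x R = R :=
      Cfsg.Agent.Lib.Helper41.lc_map_subtype_of_normal (Cfsg.pResidual p V) hx
    rw [← this]
    exact Cfsg.Agent.Lib.Helper41.conj_mem_lc hk
  apply le_antisymm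
  · rw [← Cfsg.Agent.S5093.result p P]
    refine le_inf (Cfsg.Agent.Lib.Helper87.hyperfocal_le_self _ p) ?_
    unfold Cfsg.FusionSystem.hyperfocalSubgroup
    rw [Subgroup.closure_le]
    rintro y ⟨Q, α, x, hQP, hα, rfl⟩
    have key : ∀ α : (Cfsg.groupFusionSystem (P : Subgroup G)).autGroup Q,
        α ∈ Cfsg.pResidual p _ →
        ∀ x : Q, (x : G)⁻¹ * (((α : MulAut Q) x : Q) : G) ∈ R := by
      intro α hα
      unfold Cfsg.pResidual at hα
      induction hα using Subgroup.closure_induction with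
      | mem β hβ =>
        intro x
        have hβ' : Nat.Coprime (orderOf (β : MulAut Q)) p := by
          rw [Subgroup.orderOf_coe]; exact hβ
        have hmem := (Cfsg.Agent.Lib.Helper87.mem_autGroup_iff
          (Cfsg.groupFusionSystem (P : Subgroup G)) hQP).mp β.2
        obtain ⟨-, hval, g, hg⟩ := hmem
        have hgP : ∀ a ∈ ((Q : Subgroup G) : Set G), g * a * g⁻¹ ∈ (P : Subgroup G) := by
          intro a ha
          have h1 := hval ⟨a, ha⟩
          rw [hg ⟨a, ha⟩] at h1
          exact h1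
        obtain ⟨v, hvV, hv⟩ := Cfsg.Agent.Lib.Helper41.ag_control P (M := V)
          (fun T hT => (Cfsg.Agent.Lib.Helper41.ag_normalizer_le_of_pNormal P hn T hT).trans hV)
          (A := ((Q : Subgroup G) : Set G)) (g := g) hQP hgP
        have hβv : ∀ z : Q, (((β : MulAut Q) z : Q) : G) = v * (z : G) * v⁻¹ := by
          intro z
          rw [hv z z.2]
          exact hg z
        obtain ⟨b, hb⟩ := Cfsg.Agent.Lib.Helper42.isPGroup_quotient_pResidual p V
          (QuotientGroup.mk ⟨v, hvV⟩)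
        rw [← QuotientGroup.mk_pow, QuotientGroup.eq_one_iff] at hb
        have hbR : v ^ p ^ b ∈ R := ⟨_, hb, by simp⟩
        obtain ⟨k, hkR, hk⟩ := Cfsg.Agent.Lib.Helper41.exists_conj_mem_of_pow_mem
          (β : MulAut Q) hβ' v hβv hbR
        rw [hk x]
        have h3 : (x : G)⁻¹ * (k * (x : G) * k⁻¹) = ((x : G)⁻¹ * k * (x : G)⁻¹⁻¹) * k⁻¹ := by group
        rw [h3]
        exact Subgroup.mul_mem _ (hRconj _ (V.inv_mem (hPV (hQP x.2))) k hkR) (Subgroup.inv_mem _ hkR)
      | one =>
        intro x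
        simp
      | mul a b _ _ ha hb =>
        intro x
        have h3 : (x : G)⁻¹ * ((((a * b : (Cfsg.groupFusionSystem (P : Subgroup G)).autGroup Q) :
            MulAut Q) x : Q) : G)
            = ((x : G)⁻¹ * (((b : MulAut Q) x : Q) : G)) *
              ((((b : MulAut Q) x : Q) : G)⁻¹ * (((a : MulAut Q) ((b : MulAut Q) x) : Q) : G)) := by
          simp [mul_assoc]
        rw [h3]
        exact Subgroup.mul_mem _ (hb x) (ha _)
      | inv a _ ha =>
        intro x
        have h4 := ha ((a : MulAut Q)⁻¹ x)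
        have h5 : (a : MulAut Q) ((a : MulAut Q)⁻¹ x) = x := by simp
        rw [h5] at h4
        have h3 : (x : G)⁻¹ * ((((a⁻¹ : (Cfsg.groupFusionSystem (P : Subgroup G)).autGroup Q) :
            MulAut Q) x : Q) : G)
            = ((((a : MulAut Q)⁻¹ x : Q) : G)⁻¹ * (x : G))⁻¹ := by
          simp
        rw [h3]
        exact Subgroup.inv_mem _ h4
    exact key α hα x
  · exact inf_le_inf_left _ (Cfsg.Agent.Lib.Helper87.pResidual_map_le p V.subtype)

end Cfsg.Agent.S0078
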