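import Cfsg.Statements.S0079
import Cfsg.Agent.Lib.Helper03.FusionControl
import Cfsg.Agent.Lib.Helper03.NilpotentSylow

set_option autoImplicit false
open Cfsg

namespace Cfsg.Agent.S0079

open Cfsg.Agent.Lib.Helper03

/-- The normal `p`-complement for a prime `p` dividing the order of a nilpotent Hall subgroup that
controls its own fusion. -/
theorem exists_normal_pprime_part {G : Type*} [Group G] [Finite G] (H : Subgroup G)
    (hH : Group.IsNilpotent H) (hHall : Nat.Coprime (Nat.card H) H.index)
    (hfus : ∀ x ∈ H, ∀ y ∈ H, (∃ g : G, g * x * g⁻¹ = y) → ∃ h ∈ H, h * x * h⁻¹ = y)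
    (p : ℕ) (hp : p.Prime) (hd : p ∣ Nat.card H) :
    ∃ Np : Subgroup G, Np.Normal ∧ ∀ x : G, x ∈ Np ↔ Nat.Coprime (orderOf x) p := by
  have : Fact p.Prime := ⟨hp⟩
  let Q : Sylow p H := default
  have hQ'p : IsPGroup p ((Q : Subgroup H).map H.subtype) := Q.2.map _
  have hpidx : ¬ p ∣ H.index := by
    intro h
    have := Nat.Coprime.eq_one_of_dvd ((Nat.Coprime.coprime_dvd_left hd hHall)) h
    exact hp.one_lt.ne' this
  have hQ'idx : ¬ p ∣ ((Q : Subgroup H).map H.subtype).index := by
    rw [Subgroup.index_map_subtype]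
    intro h
    rcases (Nat.Prime.dvd_mul hp).mp h with h1 | h1
    · exact Q.not_dvd_index h1
    · exact hpidx h1
  let P : Sylow p G := hQ'p.toSylow hQ'idx
  have hP : (P : Subgroup G) = (Q : Subgroup H).map H.subtype := rfl
  have hPH : (P : Subgroup G) ≤ H := hP ▸ Subgroup.map_subtype_le _
  have hctrl : ControlsOwnFusion (P : Subgroup G) := by
    intro x hx y hy hconj
    obtain ⟨h, hhH, hh⟩ := hfus x (hPH hx) y (hPH hy) hconj
    have hQn : (Q : Subgroup H).Normal := inferInstance
    have htop := sylow_sup_centralizer_eq_top_of_isNilpotent Q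
    have hmem : (⟨h, hhH⟩ : H) ∈
        (((Q : Subgroup H) ⊔ Subgroup.centralizer ((Q : Subgroup H) : Set H) : Subgroup H) : Set H) := by
      rw [htop]; exact Set.mem_univ _
    rw [Subgroup.normal_mul] at hmem
    obtain ⟨a, ha, c, hc, hac⟩ := Set.mem_mul.mp hmem
    rw [hP] at hx
    obtain ⟨x', hx', rfl⟩ := hx
    refine ⟨(a : G), hP ▸ ⟨a, ha, rfl⟩, ?_⟩
    have hcx : x' * c = c * x' := (Subgroup.mem_centralizer_iff.mp hc) x' hx'
    have hac' : (a : G) * (c : G) = h := congrArg Subtype.val hac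
    have hcx' : (x' : G) * (c : G) = (c : G) * (x' : G) := congrArg Subtype.val hcx
    rw [← hh, ← hac']
    simp only [Subgroup.coe_subtype]
    calc (a : G) * (x' : G) * (a : G)⁻¹ = (a : G) * ((c : G) * (x' : G) * (c : G)⁻¹) * (a : G)⁻¹ := by
          rw [← hcx']; group
      _ = (a : G) * (c : G) * (x' : G) * ((a : G) * (c : G))⁻¹ := by group
  obtain ⟨Np, hNpn, hNpc⟩ := exists_normal_complement_of_controlsOwnFusion P hctrl
  exact ⟨Np, hNpn, fun x => Cfsg.Agent.S0086.result P Np hNpc x⟩

/-- A nilpotent Hall subgroup has a normal complement exactly when elements of it that are conjugate in the whole group are already conjugate inside it. -/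
theorem result {G : Type*} [Group G] [Finite G] (H : Subgroup G) (hH : Group.IsNilpotent H) (hHall : Nat.Coprime (Nat.card H) H.index) : (∃ N : Subgroup G, N.Normal ∧ N.IsComplement' H) ↔ ∀ x ∈ H, ∀ y ∈ H, (∃ g : G, g * x * g⁻¹ = y) → ∃ h ∈ H, h * x * h⁻¹ = y := by
  constructor
  · rintro ⟨N, hNn, hNc⟩ x hx y hy ⟨g, hg⟩
    obtain ⟨⟨h, n⟩, hhn⟩ := hNc.symm.2 g
    have hg' : (h : G) * (n : G) = g := hhn
    have hdisj : N ⊓ H = ⊥ := disjoint_iff.mp hNc.disjoint
    refine ⟨h, h.2, ?_⟩
    have h1 : (n : G) * x * (n : G)⁻¹ ∈ H := by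
      have : (n : G) * x * (n : G)⁻¹ = (h : G)⁻¹ * y * (h : G) := by
        rw [← hg, ← hg']; group
      rw [this]
      exact mul_mem (mul_mem (inv_mem h.2) hy) h.2
    have h2 : (n : G) * x * (n : G)⁻¹ * x⁻¹ ∈ N ⊓ H := by
      refine Subgroup.mem_inf.mpr ⟨?_, mul_mem h1 (inv_mem hx)⟩
      have : (n : G) * x * (n : G)⁻¹ * x⁻¹ = (n : G) * (x * (n : G)⁻¹ * x⁻¹) := by group
      rw [this]
      exact mul_mem n.2 (hNn.conj_mem _ (inv_mem n.2) x)
    rw [hdisj, Subgroup.mem_bot] at h2
    have h3 : (n : G) * x * (n : G)⁻¹ = x := by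
      have := congrArg (· * x) h2
      simpa using this
    rw [← hg, ← hg']
    calc (h : G) * x * (h : G)⁻¹ = (h : G) * ((n : G) * x * (n : G)⁻¹) * (h : G)⁻¹ := by rw [h3]
      _ = (h : G) * (n : G) * x * ((h : G) * (n : G))⁻¹ := by group
  · intro hfus
    have key := exists_normal_pprime_part H hH hHall hfus
    choose Np hNpn hNpmem using key
    set N : Subgroup G := ⨅ (p : ℕ) (hp : p.Prime) (hd : p ∣ Nat.card H), Np p hp hd with hN
    have hNn : N.Normal := by
      rw [hN]
      apply Subgroup.normal_iInf_normal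
      intro p
      apply Subgroup.normal_iInf_normal
      intro hp
      apply Subgroup.normal_iInf_normal
      intro hd
      exact hNpn p hp hd
    have hNmem : ∀ x : G, x ∈ N ↔ ∀ p : ℕ, p.Prime → p ∣ Nat.card H → Nat.Coprime (orderOf x) p := by
      intro x
      rw [hN]
      simp only [Subgroup.mem_iInf]
      constructor
      · intro h p hp hd
        exact (hNpmem p hp hd x).mp (h p hp hd)
      · intro h p hp hd
        exact (hNpmem p hp hd x).mpr (h p hp hd)
    have hcopNH : Nat.Coprime (Nat.card N) (Nat.card H) := by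
      by_contra hnc
      obtain ⟨q, hq, hqN, hqH⟩ := Nat.Prime.not_coprime_iff_dvd.mp hnc
      have : Fact q.Prime := ⟨hq⟩
      obtain ⟨x, hx⟩ := exists_prime_orderOf_dvd_card' q hqN
      have h1 := (hNmem (x : G)).mp x.2 q hq hqH
      rw [Subgroup.orderOf_coe, hx] at h1
      exact hq.one_lt.ne' ((Nat.coprime_self q).mp h1)
    have hcopIdx : Nat.Coprime N.index H.index := by
      by_contra hnc
      obtain ⟨q, hq, hqN, hqH⟩ := Nat.Prime.not_coprime_iff_dvd.mp hnc
      have : Fact q.Prime := ⟨hq⟩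
      have hqcard : ¬ q ∣ Nat.card H := by
        intro h
        have := Nat.Coprime.eq_one_of_dvd ((Nat.Coprime.coprime_dvd_left h hHall)) hqH
        exact hq.one_lt.ne' this
      let S : Sylow q G := default
      have hSN : (S : Subgroup G) ≤ N := by
        intro s hs
        rw [hNmem]
        intro p hp hd
        obtain ⟨k, hk⟩ := (IsPGroup.iff_orderOf.mp S.2) ⟨s, hs⟩
        have hk' : orderOf s = q ^ k := by rw [← hk, ← Subgroup.orderOf_coe]
        rw [hk']
        apply Nat.Coprime.pow_left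
        rw [Nat.coprime_primes hq hp]
        rintro rfl
        exact hqcard hd
      exact S.not_dvd_index (dvd_trans hqN (Subgroup.index_dvd_of_le hSN))
    have h1 : Nat.card N * N.index = Nat.card G := N.card_mul_index
    have h2 : Nat.card H * H.index = Nat.card G := H.card_mul_index
    have h3 : Nat.card H ∣ N.index := by
      have : Nat.card H ∣ Nat.card N * N.index := by rw [h1, ← h2]; exact dvd_mul_right _ _
      exact (hcopNH.symm).dvd_of_dvd_mul_left this
    have h4 : N.index ∣ Nat.card H := by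
      have : N.index ∣ Nat.card H * H.index := by rw [h2, ← h1]; exact dvd_mul_left _ _
      exact hcopIdx.dvd_of_dvd_mul_right this
    have h5 : N.index = Nat.card H := Nat.dvd_antisymm h4 h3
    refine ⟨N, hNn, Subgroup.isComplement'_of_coprime ?_ hcopNH⟩
    rw [← h5]; exact h1

end Cfsg.Agent.S0079
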