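import Cfsg.Statements.S0080

set_option autoImplicit false
open Cfsg

namespace Cfsg.Agent.S0080

open scoped IsMulCommutative in
/-- When the index of H is prime to the order of H/H', the focal subgroup of H is G' ∩ H, and H/(G' ∩ H) has a normal complement. -/
theorem result {G : Type*} [Group G] [Finite G] (H : Subgroup G) (h : Nat.Coprime H.index (⁅H, H⁆.relIndex H)) : Subgroup.focalSubgroup H = commutator G ⊓ H ∧ ∃ N : Subgroup G, N.Normal ∧ N ⊓ H = commutator G ⊓ H ∧ N ⊔ H = ⊤ := by
  -- the order of `H / H*` divides `|H : H'|`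
  have hcardQ : Nat.card (H ⧸ H.focalSubgroupOf) ∣ ⁅H, H⁆.relIndex H := by
    have h1 : Nat.card (H ⧸ H.focalSubgroupOf) = H.focalSubgroup.relIndex H := rfl
    rw [h1]
    exact Subgroup.relIndex_dvd_of_le_left H H.commutator_le_focalSubgroup
  have hcop : (Nat.card (H ⧸ H.focalSubgroupOf)).Coprime H.index :=
    (Nat.Coprime.coprime_dvd_right hcardQ h).symm
  have hbij : Function.Bijective (· ^ H.index : H ⧸ H.focalSubgroupOf → H ⧸ H.focalSubgroupOf) :=
    hcop.pow_left_bijective
  -- the kernel of the transfer meets `H` in the focal subgroup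
  have hker : H.transferFocal.ker ⊓ H = H.focalSubgroup := by
    ext x
    constructor
    · rintro ⟨hxk, hxH⟩
      have hxH' : x ∈ H := hxH
      have h1 : H.transferFocal x = 1 := hxk
      have h2 := H.transferFocal_eq_pow ⟨x, hxH'⟩
      rw [Subgroup.coe_mk, h1] at h2
      have h3 : ((⟨x, hxH'⟩ : H) : H ⧸ H.focalSubgroupOf) = 1 := by
        apply hbij.1
        show _ ^ H.index = (1 : H ⧸ H.focalSubgroupOf) ^ H.index
        rw [← h2, one_pow]
      have h4 : (⟨x, hxH'⟩ : H) ∈ H.focalSubgroupOf := (QuotientGroup.eq_one_iff _).mp h3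
      exact h4
    · intro hx
      have hxH : x ∈ H := H.focalSubgroup_le hx
      refine ⟨?_, hxH⟩
      show H.transferFocal x = 1
      have h2 := H.transferFocal_eq_pow ⟨x, hxH⟩
      rw [Subgroup.coe_mk] at h2
      rw [h2]
      have h3 : ((⟨x, hxH⟩ : H) : H ⧸ H.focalSubgroupOf) = 1 := by
        rw [QuotientGroup.eq_one_iff]
        exact hx
      rw [h3, one_pow]
  have hfoc : H.focalSubgroup = commutator G ⊓ H := by
    apply le_antisymm
    · exact le_inf H.focalSubgroup_le_commutator H.focalSubgroup_le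
    · rw [← hker]
      exact inf_le_inf_right _ (Abelianization.commutator_subset_ker H.transferFocal)
  refine ⟨hfoc, H.transferFocal.ker, inferInstance, hker.trans hfoc, ?_⟩
  rw [eq_top_iff]
  intro g _
  obtain ⟨y, hy⟩ := hbij.2 (H.transferFocal g)
  obtain ⟨x, rfl⟩ := QuotientGroup.mk_surjective y
  have h2 := H.transferFocal_eq_pow x
  have h3 : H.transferFocal g = H.transferFocal (x : G) := by
    rw [h2]; exact hy.symm
  have h4 : g * (x : G)⁻¹ ∈ H.transferFocal.ker := by
    rw [MonoidHom.mem_ker, map_mul, map_inv, h3, mul_inv_cancel]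
  have : g = g * (x : G)⁻¹ * (x : G) := by group
  rw [this]
  exact Subgroup.mul_mem_sup h4 x.2

end Cfsg.Agent.S0080
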