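import Cfsg.Statements.S0082
import Cfsg.Agent.Lib.Helper03.CoprimeAbelian
import Cfsg.Agent.Lib.Helper03.CyclicPGroup
import Cfsg.Agent.Lib.Helper03.PResidual
import Cfsg.Agent.Lib.Helper03.NormalPComplement

set_option autoImplicit false
open Cfsg

namespace Cfsg.Agent.S0082

open Cfsg.Agent.Lib.Helper03
open scoped commutatorElement

/-- With a cyclic Sylow p-subgroup, either there is a normal p-complement or the elements of order prime to p generate the whole group. -/
theorem result {G : Type*} [Group G] [Finite G] {p : ℕ} [Fact p.Prime] (P : Sylow p G) (hP : IsCyclic P) : Cfsg.HasNormalPComplement p G ∨ Cfsg.pResidual p G = ⊤ := by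
  have hp : p.Prime := Fact.out
  have hc : IsMulCommutative (P : Subgroup G) := hP.isMulCommutative
  set N := Subgroup.normalizer ((P : Subgroup G) : Set G) with hN
  have hPN : (P : Subgroup G) ≤ N := Subgroup.le_normalizer
  have hcop : Nat.Coprime (Nat.card (P : Subgroup G)) ((P : Subgroup G).relIndex N) := by
    have h1 : (P : Subgroup G).relIndex N ∣ (P : Subgroup G).index :=
      Subgroup.relIndex_dvd_index_of_le hPN
    exact Nat.Coprime.coprime_dvd_right h1 P.card_coprime_index
  have hR1 := le_commutator_sup_centralizer_of_abelian_hall (P : Subgroup G) N hPN le_rfl hc hcop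
  have hR2 := commutator_inf_centralizer_inf_eq_bot_of_abelian_hall (P : Subgroup G) N hPN hc hcop
  have hDNN : ⁅(P : Subgroup G), N⁆ ≤ ⁅N, N⁆ := Subgroup.commutator_mono hPN le_rfl
  have hinf : (⁅(P : Subgroup G), N⁆).subgroupOf (P : Subgroup G) ⊓
      (Subgroup.centralizer (N : Set G) ⊓ (P : Subgroup G)).subgroupOf (P : Subgroup G) = ⊥ := by
    rw [eq_bot_iff]
    intro x hx
    obtain ⟨hx1, hx2⟩ := Subgroup.mem_inf.mp hx
    rw [Subgroup.mem_subgroupOf] at hx1 hx2
    have : (x : G) ∈ ⁅N, N⁆ ⊓ Subgroup.centralizer (N : Set G) ⊓ (P : Subgroup G) :=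
      Subgroup.mem_inf.mpr ⟨Subgroup.mem_inf.mpr ⟨hDNN hx1, (Subgroup.mem_inf.mp hx2).1⟩, x.2⟩
    rw [hR2, Subgroup.mem_bot] at this
    rw [Subgroup.mem_bot]
    exact Subtype.ext this
  rcases eq_bot_or_eq_bot_of_inf_eq_bot_of_isCyclic P.2 _ _ hinf with h | h
  · left
    apply hasNormalPComplement_of_normalizer_le_centralizer P
    intro n hn
    rw [Subgroup.mem_centralizer_iff]
    intro x hx
    have hxP : x ∈ (P : Subgroup G) := hx
    have h1 : ⁅x, n⁆ ∈ ⁅(P : Subgroup G), N⁆ := Subgroup.commutator_mem_commutator hxP hn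
    have h2 : ⁅x, n⁆ ∈ (P : Subgroup G) := by
      have h3 : n * x⁻¹ * n⁻¹ ∈ (P : Subgroup G) :=
        (Subgroup.mem_normalizer_iff.mp hn x⁻¹).mp (inv_mem hxP)
      have : ⁅x, n⁆ = x * (n * x⁻¹ * n⁻¹) := by rw [commutatorElement_def]; group
      rw [this]; exact mul_mem hxP h3
    have h4 : (⟨⁅x, n⁆, h2⟩ : (P : Subgroup G)) ∈
        (⁅(P : Subgroup G), N⁆).subgroupOf (P : Subgroup G) := by
      rw [Subgroup.mem_subgroupOf]; exact h1
    rw [h, Subgroup.mem_bot] at h4
    have h5 : ⁅x, n⁆ = 1 := congrArg Subtype.val h4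
    exact (commutatorElement_eq_one_iff_mul_comm.mp h5)
  · right
    apply pResidual_eq_top_of_sylow_le_commutator P
    have hZ : Subgroup.centralizer (N : Set G) ⊓ (P : Subgroup G) = ⊥ := by
      rw [eq_bot_iff]
      intro x hx
      have hxP : x ∈ (P : Subgroup G) := (Subgroup.mem_inf.mp hx).2
      have : (⟨x, hxP⟩ : (P : Subgroup G)) ∈
          (Subgroup.centralizer (N : Set G) ⊓ (P : Subgroup G)).subgroupOf (P : Subgroup G) := by
        rw [Subgroup.mem_subgroupOf]; exact hx
      rw [h, Subgroup.mem_bot] at this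
      rw [Subgroup.mem_bot]
      exact congrArg Subtype.val this
    rw [hZ, sup_bot_eq] at hR1
    refine le_trans hR1 ?_
    rw [commutator_def]
    exact Subgroup.commutator_mono le_top le_top

end Cfsg.Agent.S0082
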