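import Cfsg.Statements.S0083
import Cfsg.Agent.Lib.Helper03.NormalPComplement

set_option autoImplicit false
open Cfsg

namespace Cfsg.Agent.S0083

open Cfsg.Agent.Lib.Helper03

/-- For an abelian Sylow p-subgroup P, a normal p-complement exists exactly when the normalizer of P is an internal direct product of P with some subgroup. -/
theorem result {G : Type*} [Group G] [Finite G] {p : ℕ} [Fact p.Prime] (P : Sylow p G) (hP : IsMulCommutative P) : Cfsg.HasNormalPComplement p G ↔ ∃ Q : Subgroup G, Q ≤ Subgroup.centralizer (P : Set G) ∧ Q ⊓ (P : Subgroup G) = ⊥ ∧ Q ⊔ (P : Subgroup G) = Subgroup.normalizer (P : Set G) := by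
  have hPC : (P : Subgroup G) ≤ Subgroup.centralizer (P : Set G) := P.le_centralizer
  constructor
  · intro h
    obtain ⟨N, hNn, hNc⟩ := (hasNormalPComplement_iff P).mp h
    have hdisj : N ⊓ (P : Subgroup G) = ⊥ := disjoint_iff.mp hNc.disjoint
    refine ⟨N ⊓ Subgroup.normalizer (P : Set G), ?_, ?_, ?_⟩
    · rintro q ⟨hqN, hqn⟩
      rw [Subgroup.mem_centralizer_iff]
      intro x hx
      have hxP : x ∈ (P : Subgroup G) := hx
      have hqn' : q ∈ Subgroup.normalizer ((P : Subgroup G) : Set G) := hqn
      have h1 : q * x * q⁻¹ * x⁻¹ ∈ N := by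
        have : q * x * q⁻¹ * x⁻¹ = q * (x * q⁻¹ * x⁻¹) := by group
        rw [this]
        exact mul_mem hqN (hNn.conj_mem _ (inv_mem hqN) x)
      have h2 : q * x * q⁻¹ * x⁻¹ ∈ (P : Subgroup G) := by
        have : q * x * q⁻¹ ∈ (P : Subgroup G) := (Subgroup.mem_normalizer_iff.mp hqn' x).mp hxP
        exact mul_mem this (inv_mem hxP)
      have h3 : q * x * q⁻¹ * x⁻¹ ∈ N ⊓ (P : Subgroup G) := ⟨h1, h2⟩
      rw [hdisj, Subgroup.mem_bot] at h3
      have : q * x = x * q := by
        have := congrArg (fun t => t * x * q) h3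
        simpa [mul_assoc] using this
      exact this.symm
    · rw [eq_bot_iff, ← hdisj]
      exact inf_le_inf_right _ inf_le_left
    · apply le_antisymm
      · exact sup_le inf_le_right (Subgroup.le_normalizer (H := (P : Subgroup G)))
      · intro n hn
        obtain ⟨⟨a, b⟩, hab⟩ := hNc.2 n
        have hab' : (a : G) * (b : G) = n := hab
        have hbn : (b : G) ∈ Subgroup.normalizer ((P : Subgroup G) : Set G) :=
          Subgroup.le_normalizer b.2
        have han : (a : G) ∈ Subgroup.normalizer ((P : Subgroup G) : Set G) := by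
          have : (a : G) = n * (b : G)⁻¹ := by rw [← hab']; group
          rw [this]
          exact mul_mem hn (inv_mem hbn)
        rw [← hab']
        exact Subgroup.mul_mem_sup ⟨a.2, han⟩ b.2
  · rintro ⟨Q, hQC, -, hQP⟩
    apply hasNormalPComplement_of_normalizer_le_centralizer P
    rw [← hQP]
    exact sup_le hQC hPC

end Cfsg.Agent.S0083
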