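import Cfsg.Statements.S0084
import Cfsg.Agent.Lib.Helper03.AbelianSylowAut

set_option autoImplicit false
open Cfsg

namespace Cfsg.Agent.S0084

open Cfsg.Agent.Lib.Helper03

/-- A group whose Sylow 2-subgroups are Klein four-groups and whose order is prime to 3 has a normal 2-complement. -/
theorem result {G : Type*} [Group G] [Finite G] (T : Sylow 2 G) (hT : IsKleinFour T) (h3 : ¬ 3 ∣ Nat.card G) : Cfsg.HasNormalPComplement 2 G := by
  have hc : IsMulCommutative T := IsKleinFour.isMulCommutative
  have hcard : Nat.card T = 2 ^ 2 := by rw [IsKleinFour.card_four]; norm_num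
  refine hasNormalPComplement_of_forall_not_dvd T hc 2 hcard ?_
  intro q hq hqG hq2 j hj hdvd
  interval_cases j
  · -- q ∣ 3
    have : q ∣ 3 := by simpa using hdvd
    have hq3 : q = 3 := (Nat.prime_dvd_prime_iff_eq hq Nat.prime_three).mp this
    exact h3 (hq3 ▸ hqG)
  · have : q ∣ 2 := by simpa using hdvd
    exact hq2 ((Nat.prime_dvd_prime_iff_eq hq Nat.prime_two).mp this)

end Cfsg.Agent.S0084
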