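import Cfsg.Statements.S0085
import Cfsg.Agent.Lib.Helper03.AbelianSylowAut

set_option autoImplicit false
open Cfsg

namespace Cfsg.Agent.S0085

open Cfsg.Agent.Lib.Helper03

/-- A group whose Sylow 2-subgroups are elementary abelian of order 8 and whose order is prime to 3 and to 7 has a normal 2-complement. -/
theorem result {G : Type*} [Group G] [Finite G] (T : Sylow 2 G) (h8 : Nat.card T = 8) (he : ∀ x : T, x * x = 1) (h3 : ¬ 3 ∣ Nat.card G) (h7 : ¬ 7 ∣ Nat.card G) : Cfsg.HasNormalPComplement 2 G := by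
  have hc : IsMulCommutative T := by
    refine ⟨⟨fun a b => ?_⟩⟩
    have hinv : ∀ x : T, x⁻¹ = x := fun x => inv_eq_of_mul_eq_one_left (he x)
    calc a * b = (a * b)⁻¹ := (hinv _).symm
      _ = b⁻¹ * a⁻¹ := mul_inv_rev a b
      _ = b * a := by rw [hinv a, hinv b]
  have hcard : Nat.card T = 2 ^ 3 := by rw [h8]; norm_num
  refine hasNormalPComplement_of_forall_not_dvd T hc 3 hcard ?_
  intro q hq hqG hq2 j hj hdvd
  interval_cases j
  · have : q ∣ 7 := by simpa using hdvd
    have hq7 : q = 7 := (Nat.prime_dvd_prime_iff_eq hq (by decide : Nat.Prime 7)).mp this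
    exact h7 (hq7 ▸ hqG)
  · have : q ∣ 2 * 3 := by simpa using hdvd
    rcases (Nat.Prime.dvd_mul hq).mp this with h | h
    · exact hq2 ((Nat.prime_dvd_prime_iff_eq hq Nat.prime_two).mp h)
    · have hq3 : q = 3 := (Nat.prime_dvd_prime_iff_eq hq Nat.prime_three).mp h
      exact h3 (hq3 ▸ hqG)
  · have : q ∣ 2 * 2 := by simpa using hdvd
    rcases (Nat.Prime.dvd_mul hq).mp this with h | h <;>
    exact hq2 ((Nat.prime_dvd_prime_iff_eq hq Nat.prime_two).mp h)

end Cfsg.Agent.S0085
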