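import Cfsg.Statements.S0087
import Cfsg.Agent.S0079
import Cfsg.Agent.Lib.Helper03.ComplementConj
-- import your own Cfsg.Agent.* helpers here

set_option autoImplicit false
open Cfsg

namespace Cfsg.Agent.S0087

open Cfsg.Agent.Lib.Helper03

universe u

theorem aux : ∀ n : ℕ, ∀ {G : Type u} [Group G] [Finite G], Nat.card G = n →
    ∀ (H : Subgroup G), Nat.Coprime (Nat.card H) H.index →
      Subgroup.normalizer (H : Set G) ≤ Subgroup.centralizer (H : Set G) →
      ∃ N : Subgroup G, N.Normal ∧ N.IsComplement' H := by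
  intro n
  induction n using Nat.strong_induction_on with
  | _ n ih =>
  intro G _ _ hn H hHall h
  have hab : ∀ a ∈ H, ∀ b ∈ H, a * b = b * a := by
    intro a ha b hb
    have h1 : b ∈ Subgroup.centralizer (H : Set G) := h (Subgroup.le_normalizer hb)
    exact Subgroup.mem_centralizer_iff.mp h1 a ha
  have hnil : Group.IsNilpotent H := by
    let _ : CommGroup H := { (inferInstance : Group H) with
      mul_comm := fun a b => Subtype.ext (hab a a.2 b b.2) }
    exact CommGroup.isNilpotent
  apply (Cfsg.Agent.S0079.result H hnil hHall).mpr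
  rintro x hx y hy ⟨g, hg⟩
  refine ⟨1, H.one_mem, ?_⟩
  rw [one_mul, inv_one, mul_one]
  -- it suffices to show `x = y`
  set Cy : Subgroup G := Subgroup.centralizer {y} with hCy
  have hxg : x = g⁻¹ * y * g := by rw [← hg]; group
  by_cases htop : Cy = ⊤
  · have hyZ : y ∈ Subgroup.center G := by
      rw [hCy, Subgroup.centralizer_eq_top_iff_subset] at htop
      exact htop (Set.mem_singleton y)
    rw [hxg, mul_assoc, ← Subgroup.mem_center_iff.mp hyZ g, ← mul_assoc, inv_mul_cancel, one_mul]
  · have hlt : Nat.card Cy < n := by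
      rw [← hn]
      refine lt_of_le_of_ne (Subgroup.card_le_card_group Cy) ?_
      intro h'
      exact htop (Subgroup.eq_top_of_card_eq _ h')
    have hHC : H ≤ Cy := by
      intro z hz
      rw [hCy, Subgroup.mem_centralizer_iff]
      intro w hw
      rw [Set.mem_singleton_iff] at hw
      rw [hw]
      exact hab y hy z hz
    set Hg : Subgroup G := H.map (MulAut.conj g).toMonoidHom with hHg
    have hmemHg : ∀ z, z ∈ Hg ↔ g⁻¹ * z * g ∈ H := fun z => mem_map_conj_iff H g z
    have habg : ∀ a ∈ Hg, ∀ b ∈ Hg, a * b = b * a := mul_comm_of_mem_map_conj H g hab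
    have hyHg : y ∈ Hg := by
      rw [hmemHg, ← hxg]; exact hx
    have hHgC : Hg ≤ Cy := by
      intro z hz
      rw [hCy, Subgroup.mem_centralizer_iff]
      intro w hw
      rw [Set.mem_singleton_iff] at hw
      rw [hw]
      exact habg y hyHg z hz
    have hcardHC : Nat.card (H.subgroupOf Cy) = Nat.card H := card_subgroupOf_of_le hHC
    have hcardHg : Nat.card Hg = Nat.card H :=
      Subgroup.card_map_of_injective (MulAut.conj g).injective
    have hcardHgC : Nat.card (Hg.subgroupOf Cy) = Nat.card H := by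
      rw [card_subgroupOf_of_le hHgC, hcardHg]
    have hHallC : Nat.Coprime (Nat.card (H.subgroupOf Cy)) (H.subgroupOf Cy).index := by
      rw [hcardHC]
      exact Nat.Coprime.coprime_dvd_right (Subgroup.relIndex_dvd_index_of_le hHC) hHall
    have hNC : Subgroup.normalizer ((H.subgroupOf Cy : Subgroup Cy) : Set Cy) ≤
        Subgroup.centralizer ((H.subgroupOf Cy : Subgroup Cy) : Set Cy) := by
      intro d hd
      have hdN : (d : G) ∈ Subgroup.normalizer (H : Set G) := by
        rw [Subgroup.mem_normalizer_iff]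
        intro t
        constructor
        · intro ht
          have h1 := (Subgroup.mem_normalizer_iff.mp hd ⟨t, hHC ht⟩).mp
            (Subgroup.mem_subgroupOf.mpr ht)
          have h2 := Subgroup.mem_subgroupOf.mp h1
          simpa using h2
        · intro ht
          have htC : t ∈ Cy := by
            have h1 : (d : G) * t * (d : G)⁻¹ ∈ Cy := hHC ht
            have h2 : t = (d : G)⁻¹ * ((d : G) * t * (d : G)⁻¹) * (d : G) := by group
            rw [h2]; exact Cy.mul_mem (Cy.mul_mem (Cy.inv_mem d.2) h1) d.2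
          have h3 : d * (⟨t, htC⟩ : Cy) * d⁻¹ ∈ H.subgroupOf Cy := by
            rw [Subgroup.mem_subgroupOf]
            simpa using ht
          exact Subgroup.mem_subgroupOf.mp ((Subgroup.mem_normalizer_iff.mp hd ⟨t, htC⟩).mpr h3)
      have hdC := h hdN
      rw [Subgroup.mem_centralizer_iff] at hdC ⊢
      intro t ht
      exact Subtype.ext (hdC t (Subgroup.mem_subgroupOf.mp ht))
    obtain ⟨K, hKn, hKH⟩ := ih (Nat.card Cy) hlt rfl (H.subgroupOf Cy) hHallC hNC
    have hcopK : Nat.Coprime (Nat.card K) (Nat.card (H.subgroupOf Cy)) := by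
      have h1 : (H.subgroupOf Cy).index = Nat.card K := hKH.index_eq_card
      rw [← h1]
      exact hHallC.symm
    have hKHg : K.IsComplement' (Hg.subgroupOf Cy) := by
      apply Subgroup.isComplement'_of_coprime
      · rw [hcardHgC, ← hcardHC]; exact hKH.card_mul_card
      · rw [hcardHgC, ← hcardHC]; exact hcopK
    obtain ⟨c, hc⟩ := exists_conj_of_abelian_complements K (H.subgroupOf Cy) (Hg.subgroupOf Cy)
      hKn hKH hKHg
      (fun a ha b hb => Subtype.ext (hab _ (Subgroup.mem_subgroupOf.mp ha) _
        (Subgroup.mem_subgroupOf.mp hb)))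
      (fun a ha b hb => Subtype.ext (habg _ (Subgroup.mem_subgroupOf.mp ha) _
        (Subgroup.mem_subgroupOf.mp hb)))
      hcopK
    -- `n₀ := c⁻¹ * g` normalizes `H`
    have hnN : (c : G)⁻¹ * g ∈ Subgroup.normalizer (H : Set G) := by
      rw [Subgroup.mem_normalizer_iff]
      intro t
      have hkey : (c : G)⁻¹ * g * t * ((c : G)⁻¹ * g)⁻¹ = (c : G)⁻¹ * (g * t * g⁻¹) * c := by
        group
      rw [hkey]
      constructor
      · intro ht
        have h1 : g * t * g⁻¹ ∈ Hg := by
          rw [hmemHg]
          have : g⁻¹ * (g * t * g⁻¹) * g = t := by group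
          rw [this]; exact ht
        have h2 := (hc ⟨g * t * g⁻¹, hHgC h1⟩).mp (Subgroup.mem_subgroupOf.mpr h1)
        have h3 := Subgroup.mem_subgroupOf.mp h2
        simpa using h3
      · intro ht
        have h1 : g * t * g⁻¹ ∈ Cy := by
          have h2 : (c : G)⁻¹ * (g * t * g⁻¹) * c ∈ Cy := hHC ht
          have h3 : g * t * g⁻¹ = (c : G) * ((c : G)⁻¹ * (g * t * g⁻¹) * c) * (c : G)⁻¹ := by
            group
          rw [h3]
          exact Cy.mul_mem (Cy.mul_mem c.2 h2) (Cy.inv_mem c.2)
        have h4 : c⁻¹ * (⟨g * t * g⁻¹, h1⟩ : Cy) * c ∈ H.subgroupOf Cy := by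
          rw [Subgroup.mem_subgroupOf]
          simpa using ht
        have h5 := Subgroup.mem_subgroupOf.mp ((hc ⟨g * t * g⁻¹, h1⟩).mpr h4)
        have h6 := (hmemHg _).mp h5
        have : g⁻¹ * (g * t * g⁻¹) * g = t := by group
        rwa [this] at h6
    have hnC := h hnN
    have h7 : x * ((c : G)⁻¹ * g) = (c : G)⁻¹ * g * x := Subgroup.mem_centralizer_iff.mp hnC x hx
    -- `c` centralizes `y`
    have hcy : y * (c : G) = (c : G) * y := by
      have h8 : (c : G) ∈ Subgroup.centralizer {y} := c.2
      rw [Subgroup.mem_centralizer_iff] at h8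
      exact h8 y (Set.mem_singleton y)
    -- conclude
    have h9 : x = (c : G)⁻¹ * g * x * ((c : G)⁻¹ * g)⁻¹ := by
      rw [← h7]; group
    have h10 : (c : G)⁻¹ * g * x * ((c : G)⁻¹ * g)⁻¹ = (c : G)⁻¹ * (g * x * g⁻¹) * c := by group
    rw [h9, h10, hg, mul_assoc, hcy, ← mul_assoc, inv_mul_cancel, one_mul]

/-- A Hall subgroup that is central in its normalizer has a normal complement. -/
theorem result {G : Type*} [Group G] [Finite G] (H : Subgroup G) (hHall : Nat.Coprime (Nat.card H) H.index) (h : Subgroup.normalizer (H : Set G) ≤ Subgroup.centralizer (H : Set G)) : ∃ N : Subgroup G, N.Normal ∧ N.IsComplement' H := by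
  exact aux (Nat.card G) rfl H hHall h

end Cfsg.Agent.S0087
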