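import Cfsg.Statements.S0090
import Cfsg.Agent.S0088
import Cfsg.Agent.Lib.Helper03.NormalAbelianHall

set_option autoImplicit false
open Cfsg

namespace Cfsg.Agent.S0090

open Cfsg.Agent.Lib.Helper03

/-- An abelian normal Hall subgroup A splits as the internal direct product of G' ∩ A and Z(G) ∩ A, and [A, G] = G' ∩ A. -/
theorem result {G : Type*} [Group G] [Finite G] (A : Subgroup G) [A.Normal] (hc : IsMulCommutative A) (hHall : Nat.Coprime (Nat.card A) A.index) : ⁅A, (⊤ : Subgroup G)⁆ = commutator G ⊓ A ∧ (commutator G ⊓ A) ⊓ (Subgroup.center G ⊓ A) = ⊥ ∧ (commutator G ⊓ A) ⊔ (Subgroup.center G ⊓ A) = A := by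
  have h88 := Cfsg.Agent.S0088.result A hc hHall
  have hdec := le_commutator_sup_center_of_normal_abelian_hall A hc hHall
  have hle1 : ⁅A, (⊤ : Subgroup G)⁆ ≤ commutator G ⊓ A := by
    apply le_inf
    · rw [commutator_def]
      exact Subgroup.commutator_mono le_top le_rfl
    · exact Subgroup.commutator_le_left A ⊤
  have hdisj : (commutator G ⊓ A) ⊓ (Subgroup.center G ⊓ A) = ⊥ := by
    rw [eq_bot_iff, ← h88]
    rintro x ⟨⟨hx1, hx2⟩, ⟨hx3, -⟩⟩
    exact ⟨⟨hx2, hx1⟩, hx3⟩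
  have hle2 : commutator G ⊓ A ≤ ⁅A, (⊤ : Subgroup G)⁆ := by
    rintro x ⟨hx1, hx2⟩
    have hmem : x ∈ ((⁅A, (⊤ : Subgroup G)⁆ ⊔ (Subgroup.center G ⊓ A) : Subgroup G) : Set G) :=
      hdec hx2
    rw [Subgroup.normal_mul] at hmem
    obtain ⟨c, hcD, z, hzC, rfl⟩ := Set.mem_mul.mp hmem
    have hcG : c ∈ commutator G ⊓ A := hle1 hcD
    have hzC' : z ∈ Subgroup.center G ⊓ A := hzC
    have hcG' : c ∈ commutator G := (Subgroup.mem_inf.mp hcG).1
    have hz : z ∈ (commutator G ⊓ A) ⊓ (Subgroup.center G ⊓ A) := by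
      refine Subgroup.mem_inf.mpr ⟨Subgroup.mem_inf.mpr ⟨?_, (Subgroup.mem_inf.mp hzC').2⟩, hzC'⟩
      have : z = c⁻¹ * (c * z) := by group
      rw [this]
      exact mul_mem (inv_mem hcG') hx1
    rw [hdisj, Subgroup.mem_bot] at hz
    rw [hz, mul_one]
    exact hcD
  refine ⟨le_antisymm hle1 hle2, hdisj, le_antisymm (sup_le inf_le_right inf_le_right) ?_⟩
  exact le_trans hdec (sup_le_sup_right hle1 _)

end Cfsg.Agent.S0090
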