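import Cfsg.Statements.S0092
import Cfsg.Agent.S0075
import Cfsg.Agent.Lib.Helper03.Gaschutz
import Cfsg.Agent.Lib.Helper03.PResidual
-- import your own Cfsg.Agent.* helpers here

set_option autoImplicit false
open Cfsg

namespace Cfsg.Agent.S0092

open Cfsg.Agent.Lib.Helper03

/-- `O^p(O^p(G)) = O^p(G)`. -/
theorem pResidual_pResidual_eq_top (p : ℕ) (G : Type*) [Group G] :
    Cfsg.pResidual p ↥(Cfsg.pResidual p G) = ⊤ := by
  have h := Subgroup.closure_closure_coe_preimage (k := {g : G | Nat.Coprime (orderOf g) p})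
  have h2 : ((↑) : Subgroup.closure {g : G | Nat.Coprime (orderOf g) p} → G) ⁻¹'
      {g : G | Nat.Coprime (orderOf g) p} = {y | Nat.Coprime (orderOf y) p} := by
    ext y
    simp
  rw [h2] at h
  exact h

/-- If the Sylow p-subgroups of O^p(G) are abelian then G splits over O^p(G). -/
theorem result {G : Type*} [Group G] [Finite G] {p : ℕ} [Fact p.Prime] (h : ∀ Q : Sylow p (Cfsg.pResidual p G), IsMulCommutative Q) : ∃ K : Subgroup G, K.IsComplement' (Cfsg.pResidual p G) := by
  classical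
  have hp : p.Prime := Fact.out
  set K := Cfsg.pResidual p G with hK
  have hKn : K.Normal := pResidual_normal p G
  let Q : Sylow p K := default
  have hQab : IsMulCommutative Q := h Q
  set Q₀ : Subgroup G := (Q : Subgroup K).map K.subtype with hQ₀
  have hQK : Q₀ ≤ K := Subgroup.map_subtype_le _
  have hQsub : Q₀.subgroupOf K = (Q : Subgroup K) := by
    rw [hQ₀, Subgroup.subgroupOf]
    exact Subgroup.comap_map_eq_self_of_injective K.subtype_injective _
  have hQp : IsPGroup p Q₀ := Q.2.map K.subtype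
  have hQidx : ¬ p ∣ Q₀.relIndex K := by
    rw [Subgroup.relIndex, hQsub]
    exact Q.not_dvd_index
  have hQab' : ∀ a ∈ Q₀, ∀ b ∈ Q₀, a * b = b * a := by
    intro a ha b hb
    obtain ⟨a', ha', rfl⟩ := Subgroup.mem_map.mp ha
    obtain ⟨b', hb', rfl⟩ := Subgroup.mem_map.mp hb
    have h1 := hQab.is_comm.comm ⟨a', ha'⟩ ⟨b', hb'⟩
    have h2 : a' * b' = b' * a' := congrArg Subtype.val h1
    rw [← map_mul, ← map_mul, h2]
  have hKp : ∃ a : ℕ, K.index = p ^ a := by
    have h1 : IsPGroup p (G ⧸ K) := isPGroup_quotient_pResidual (G := G) (p := p)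
    obtain ⟨a, ha⟩ := IsPGroup.iff_card.mp h1
    exact ⟨a, by rw [Subgroup.index_eq_card]; exact ha⟩
  have hFrat : Subgroup.normalizer (Q₀ : Set G) ⊔ K = ⊤ := Sylow.normalizer_sup_eq_top Q
  have hcomm : Q₀ ≤ ⁅Subgroup.normalizer (Q₀ : Set G) ⊓ K, Subgroup.normalizer (Q₀ : Set G) ⊓ K⁆ := by
    have h1 := Cfsg.Agent.S0075.result Q hQab
    rw [pResidual_pResidual_eq_top, inf_top_eq] at h1
    have hQle : (Q : Subgroup K) ≤ Subgroup.normalizer ((Q : Subgroup K) : Set K) :=
      Subgroup.le_normalizer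
    have h2 : (Q : Subgroup K) ≤ ⁅Subgroup.normalizer ((Q : Subgroup K) : Set K),
        Subgroup.normalizer ((Q : Subgroup K) : Set K)⁆ :=
      h1.le.trans (Subgroup.commutator_mono hQle le_rfl)
    have h3 : (Subgroup.normalizer ((Q : Subgroup K) : Set K)).map K.subtype =
        Subgroup.normalizer (Q₀ : Set G) ⊓ K := by
      rw [← hQsub, ← Subgroup.subgroupOf_normalizer_eq hQK, Subgroup.subgroupOf_map_subtype]
    have h4 := Subgroup.map_mono (f := K.subtype) h2
    rw [Subgroup.map_commutator, h3] at h4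
    exact h4
  exact exists_complement_of_abelian_sylow_le_commutator K Q₀ hQK hQp hQidx hQab' hKp hFrat hcomm

end Cfsg.Agent.S0092
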