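import Cfsg.Statements.S0095
import Cfsg.Agent.Lib.Helper03.Pairing
import Cfsg.Agent.Lib.Helper03.ComplementConj
-- import your own Cfsg.Agent.* helpers here

set_option autoImplicit false
open Cfsg

namespace Cfsg.Agent.S0095

open Cfsg.Agent.Lib.Helper03
open scoped commutatorElement
open scoped IsMulCommutative

/-- Every finite group has a self-centralizing (maximal abelian) subgroup. -/
theorem exists_self_centralizing {P : Type*} [Group P] [Finite P] :
    ∃ A : Subgroup P, Subgroup.centralizer (A : Set P) = A := by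
  have hfin : {A : Subgroup P | A ≤ Subgroup.centralizer (A : Set P)}.Finite := Set.toFinite _
  have hbot : (⊥ : Subgroup P) ∈ {A : Subgroup P | A ≤ Subgroup.centralizer (A : Set P)} := by
    show (⊥ : Subgroup P) ≤ _
    exact bot_le
  obtain ⟨A, -, hA⟩ := hfin.exists_le_maximal hbot
  refine ⟨A, le_antisymm ?_ hA.prop⟩
  intro x hx
  set s : Set P := (A : Set P) ∪ {x} with hs
  have hss : s ⊆ Subgroup.centralizer s := by
    intro u hu
    rw [SetLike.mem_coe, Subgroup.mem_centralizer_iff]
    intro v hv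
    rcases hu with hu | hu <;> rcases hv with hv | hv
    · exact Subgroup.mem_centralizer_iff.mp (hA.prop hu) v hv
    · rw [Set.mem_singleton_iff] at hv
      rw [hv]
      exact (Subgroup.mem_centralizer_iff.mp hx u hu).symm
    · rw [Set.mem_singleton_iff] at hu
      rw [hu]
      exact Subgroup.mem_centralizer_iff.mp hx v hv
    · rw [Set.mem_singleton_iff] at hu hv
      rw [hu, hv]
  have hcl : Subgroup.closure s ≤ Subgroup.centralizer (Subgroup.closure s : Set P) := by
    rw [Subgroup.centralizer_closure]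
    exact (Subgroup.closure_le _).mpr hss
  have hle : A ≤ Subgroup.closure s := fun a ha => Subgroup.subset_closure (Or.inl ha)
  have h1 := hA.le_of_ge hcl hle
  exact h1 (Subgroup.subset_closure (Or.inr rfl))

theorem comm_mul_right {P : Type*} [Group P] (hcen : ∀ x a : P, ⁅x, a⁆ ∈ Subgroup.center P)
    (x a b : P) : ⁅x, a * b⁆ = ⁅x, a⁆ * ⁅x, b⁆ := by
  have h1 : ⁅x, a * b⁆ = ⁅x, a⁆ * (a * ⁅x, b⁆ * a⁻¹) := by
    simp only [commutatorElement_def]; group
  have h2 : a * ⁅x, b⁆ = ⁅x, b⁆ * a := Subgroup.mem_center_iff.mp (hcen x b) a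
  rw [h1, h2, mul_inv_cancel_right]

theorem comm_mul_left {P : Type*} [Group P] (hcen : ∀ x a : P, ⁅x, a⁆ ∈ Subgroup.center P)
    (x y a : P) : ⁅x * y, a⁆ = ⁅x, a⁆ * ⁅y, a⁆ := by
  have h1 : ⁅x * y, a⁆ = x * ⁅y, a⁆ * x⁻¹ * ⁅x, a⁆ := by
    simp only [commutatorElement_def]; group
  have h2 : x * ⁅y, a⁆ = ⁅y, a⁆ * x := Subgroup.mem_center_iff.mp (hcen y a) x
  have h3 : ⁅y, a⁆ * ⁅x, a⁆ = ⁅x, a⁆ * ⁅y, a⁆ :=
    (Subgroup.mem_center_iff.mp (hcen y a) _).symm
  rw [h1, h2, mul_inv_cancel_right, h3]

/-- The order of an extraspecial p-group is an odd power p^(2n+1) of p with n ≥ 1. -/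
theorem result {P : Type*} [Group P] [Finite P] {p : ℕ} [Fact p.Prime] (h : Cfsg.IsExtraspecial p P) : ∃ n : ℕ, 1 ≤ n ∧ Nat.card P = p ^ (2 * n + 1) := by
  obtain ⟨⟨hP, hfr, hcomm⟩, hZ⟩ := h
  have hp : p.Prime := Fact.out
  obtain ⟨A, hA⟩ := exists_self_centralizing (P := P)
  have hZA : Subgroup.center P ≤ A := by
    rw [← hA]; exact Subgroup.center_le_centralizer _
  have hcen : ∀ x a : P, ⁅x, a⁆ ∈ Subgroup.center P := by
    intro x a
    rw [← hcomm]
    exact Subgroup.commutator_mem_commutator (Subgroup.mem_top x) (Subgroup.mem_top a)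
  have hcyc : IsCyclic (Subgroup.center P) := isCyclic_of_prime_card hZ
  let φ : P →* (A →* Subgroup.center P) :=
    { toFun := fun x =>
        { toFun := fun a => ⟨⁅x, (a : P)⁆, hcen x a⟩
          map_one' := Subtype.ext (by simp)
          map_mul' := fun a b => Subtype.ext (by
            show ⁅x, (a : P) * (b : P)⁆ = ⁅x, (a : P)⁆ * ⁅x, (b : P)⁆
            exact comm_mul_right hcen x a b) }
      map_one' := by
        ext a
        show ⁅(1 : P), (a : P)⁆ = 1
        simp
      map_mul' := fun x y => by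
        ext a
        show ⁅x * y, (a : P)⁆ = ⁅x, (a : P)⁆ * ⁅y, (a : P)⁆
        exact comm_mul_left hcen x y a }
  have hφ : ∀ (x : P) (a : A), ((φ x a : Subgroup.center P) : P) = ⁅x, (a : P)⁆ := fun x a => rfl
  have hker1 : φ.ker = Subgroup.centralizer (A : Set P) := by
    ext x
    rw [MonoidHom.mem_ker, Subgroup.mem_centralizer_iff]
    constructor
    · intro h a ha
      have h1 := DFunLike.congr_fun h ⟨a, ha⟩
      have h2 : ⁅x, a⁆ = 1 := congrArg Subtype.val h1
      rw [commutatorElement_eq_one_iff_commute] at h2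
      exact h2.eq.symm
    · intro h
      ext a
      show ⁅x, (a : P)⁆ = 1
      rw [commutatorElement_eq_one_iff_commute]
      exact (h a a.2).symm
  have hker2 : φ.flip.ker = (Subgroup.center P).subgroupOf A := by
    ext a
    rw [MonoidHom.mem_ker, Subgroup.mem_subgroupOf, Subgroup.mem_center_iff]
    constructor
    · intro h g
      have h1 := DFunLike.congr_fun h g
      have h2 : ⁅g, (a : P)⁆ = 1 := congrArg Subtype.val h1
      rw [commutatorElement_eq_one_iff_commute] at h2
      exact h2.eq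
    · intro h
      ext g
      show ⁅g, (a : P)⁆ = 1
      rw [commutatorElement_eq_one_iff_commute]
      exact h g
  have hidx : (Subgroup.centralizer (A : Set P)).index =
      ((Subgroup.center P).subgroupOf A).index := by
    rw [← hker1, ← hker2]; exact (index_ker_flip_eq φ).symm
  rw [hA] at hidx
  set k := ((Subgroup.center P).subgroupOf A).index with hk
  have hcardA : Nat.card A = p * k := by
    have h1 := Subgroup.card_mul_index ((Subgroup.center P).subgroupOf A)
    rw [card_subgroupOf_of_le hZA, hZ] at h1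
    exact h1.symm
  have hcardP : Nat.card P = p * k * k := by
    have h1 := Subgroup.card_mul_index A
    rw [hcardA, hidx] at h1
    exact h1.symm
  obtain ⟨m, hm⟩ := IsPGroup.iff_card.mp hP
  have hkdvd : k ∣ p ^ m := by
    rw [← hm, hcardP]; exact Dvd.intro_left _ rfl
  obtain ⟨n, -, hn⟩ := (Nat.dvd_prime_pow hp).mp hkdvd
  refine ⟨n, ?_, ?_⟩
  · by_contra hn0
    have hn0' : n = 0 := by omega
    rw [hn0', pow_zero] at hn
    have hAtop : A = ⊤ := by
      apply Subgroup.index_eq_one.mp
      rw [hidx, hn]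
    have hctop : Subgroup.center P = ⊤ := by
      rw [eq_top_iff]
      intro x _
      rw [Subgroup.mem_center_iff]
      intro g
      have hx : x ∈ Subgroup.centralizer (A : Set P) := by rw [hA, hAtop]; trivial
      exact Subgroup.mem_centralizer_iff.mp hx g (by rw [hAtop]; trivial)
    have hbot : commutator P = ⊥ := (commutator_eq_bot_iff_center_eq_top (G := P)).mpr hctop
    rw [hbot] at hcomm
    rw [← hcomm] at hZ
    have : Nat.card (⊥ : Subgroup P) = 1 := Subgroup.card_bot
    rw [this] at hZ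
    exact hp.one_lt.ne hZ
  · rw [hcardP, hn]
    ring

end Cfsg.Agent.S0095
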