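import Cfsg.Statements.S0097
import Cfsg.Agent.S0094
import Cfsg.Agent.Lib.Helper03.ClassTwo
import Cfsg.Agent.Lib.Helper03.PGroupFrattini

set_option autoImplicit false
open Cfsg

namespace Cfsg.Agent.S0097

open Cfsg.Agent.Lib.Helper03
open scoped commutatorElement

/-- For odd p and E extraspecial, the subgroup generated by the elements of order dividing p has exponent dividing p and index at most p. -/
theorem result {E : Type*} [Group E] [Finite E] {p : ℕ} [Fact p.Prime] (hp : p ≠ 2) (h : Cfsg.IsExtraspecial p E) : (Subgroup.closure {x : E | x ^ p = 1}).index ≤ p ∧ ∀ g ∈ Subgroup.closure {x : E | x ^ p = 1}, g ^ p = 1 := by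
  have hpp : p.Prime := Fact.out
  obtain ⟨hs, hcard⟩ := h
  have hs' := hs
  obtain ⟨hP, hfr, hcomm⟩ := hs
  have h2 : ⁅commutator E, (⊤ : Subgroup E)⁆ = ⊥ := by
    rw [eq_bot_iff, Subgroup.commutator_le]
    intro z hz g _
    rw [hcomm] at hz
    rw [Subgroup.mem_bot, commutatorElement_eq_one_iff_mul_comm]
    exact (Subgroup.mem_center_iff.mp hz g).symm
  refine ⟨?_, fun g hg => pow_prime_eq_one_of_mem_closure_of_class_two hpp hp h2 g hg⟩
  -- the `p`-th power map is a homomorphism into the centre
  have hmul : ∀ x y : E, (x * y) ^ p = x ^ p * y ^ p := by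
    intro x y
    have hc : ⁅y, x⁆ ∈ Subgroup.center E := commutatorElement_mem_center_of_class_two h2 y x
    have hyx : y * x = ⁅y, x⁆ * x * y := by rw [commutatorElement_def]; group
    have hcp : ⁅y, x⁆ ^ p = 1 := Cfsg.Agent.S0094.result hs' _ hc
    have hdvd : p ∣ p.choose 2 := by
      apply hpp.dvd_choose_self (by norm_num)
      have := hpp.two_le
      omega
    obtain ⟨k, hk⟩ := hdvd
    rw [mul_pow_of_central_commutator x y ⁅y, x⁆ hc hyx p, hk, pow_mul, hcp]
    simp
  have hmem : ∀ x : E, x ^ p ∈ Subgroup.center E := by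
    intro x
    rw [← hfr]; exact pow_mem_frattini_of_isPGroup hP x
  let φ : E →* Subgroup.center E :=
    { toFun := fun x => ⟨x ^ p, hmem x⟩
      map_one' := by ext; simp
      map_mul' := by intro x y; ext; simp [hmul x y] }
  have hker : φ.ker ≤ Subgroup.closure {x : E | x ^ p = 1} := by
    intro x hx
    apply Subgroup.subset_closure
    have : φ x = 1 := hx
    have := congrArg Subtype.val this
    simpa [φ] using this
  have h1 : (Subgroup.closure {x : E | x ^ p = 1}).index ∣ φ.ker.index :=
    Subgroup.index_dvd_of_le hker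
  have h3 : φ.ker.index ≤ p := by
    rw [Subgroup.index_ker, ← hcard]
    exact Subgroup.card_le_card_group _
  have hpos : 0 < φ.ker.index := Nat.pos_of_ne_zero (Subgroup.index_ne_zero_of_finite)
  exact le_trans (Nat.le_of_dvd hpos h1) h3

end Cfsg.Agent.S0097
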