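import Cfsg.Statements.S0099
import Cfsg.Agent.Lib.Helper32.XSTwoMain

set_option autoImplicit false
open Cfsg

namespace Cfsg.Agent.S0099

/-- Among three extraspecial 2-groups of equal order, some two are isomorphic. -/
theorem result {E₁ : Type*} {E₂ : Type*} {E₃ : Type*} [Group E₁] [Group E₂] [Group E₃] [Finite E₁] [Finite E₂] [Finite E₃] (h₁ : Cfsg.IsExtraspecial 2 E₁) (h₂ : Cfsg.IsExtraspecial 2 E₂) (h₃ : Cfsg.IsExtraspecial 2 E₃) (h12 : Nat.card E₁ = Nat.card E₂) (h23 : Nat.card E₂ = Nat.card E₃) : Nonempty (E₁ ≃* E₂) ∨ Nonempty (E₂ ≃* E₃) ∨ Nonempty (E₁ ≃* E₃) := by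
  obtain ⟨m₁, -, hm₁, hc₁⟩ := Cfsg.Agent.Lib.Helper32.extraspecial_two_card_count h₁
  obtain ⟨m₂, -, hm₂, hc₂⟩ := Cfsg.Agent.Lib.Helper32.extraspecial_two_card_count h₂
  obtain ⟨m₃, -, hm₃, hc₃⟩ := Cfsg.Agent.Lib.Helper32.extraspecial_two_card_count h₃
  have e12 : m₁ = m₂ := by
    have : (2 : ℕ) ^ (2 * m₁ + 1) = 2 ^ (2 * m₂ + 1) := by rw [← hm₁, ← hm₂, h12]
    have := Nat.pow_right_injective (le_refl 2) this
    omega
  have e23 : m₂ = m₃ := by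
    have : (2 : ℕ) ^ (2 * m₂ + 1) = 2 ^ (2 * m₃ + 1) := by rw [← hm₂, ← hm₃, h23]
    have := Nat.pow_right_injective (le_refl 2) this
    omega
  subst e12 e23
  by_cases e1 : Nat.card {x : E₁ // x ^ 2 = 1} = Nat.card {x : E₂ // x ^ 2 = 1}
  · exact Or.inl (Cfsg.Agent.Lib.Helper32.extraspecial_two_iso h₁ h₂ h12 e1)
  by_cases e2 : Nat.card {x : E₂ // x ^ 2 = 1} = Nat.card {x : E₃ // x ^ 2 = 1}
  · exact Or.inr (Or.inl (Cfsg.Agent.Lib.Helper32.extraspecial_two_iso h₂ h₃ h23 e2))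
  have e3 : Nat.card {x : E₁ // x ^ 2 = 1} = Nat.card {x : E₃ // x ^ 2 = 1} := by
    rcases hc₁ with a | a <;> rcases hc₂ with b | b <;> rcases hc₃ with c | c <;> omega
  exact Or.inr (Or.inr (Cfsg.Agent.Lib.Helper32.extraspecial_two_iso h₁ h₃ (h12.trans h23) e3))

end Cfsg.Agent.S0099
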