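import Cfsg.Statements.S0100
import Cfsg.Agent.S0130
import Cfsg.Agent.Lib.Helper04.MaxAbelBound
import Cfsg.Agent.Lib.Helper03.ComplementConj
-- import your own Cfsg.Agent.* helpers here

set_option autoImplicit false
open Cfsg

namespace Cfsg.Agent.S0100

open Cfsg.Agent.Lib.Helper04
open Cfsg.Agent.Lib.Helper03

/-- a normal subgroup of order `p^(a+k)` of a `p`-group contains a normal subgroup of order `p^a` -/
theorem exists_normal_le_card_pow' {P : Type*} [Group P] [Finite P] {p : ℕ} [Fact p.Prime]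
    (hP : IsPGroup p P) (k : ℕ) : ∀ (A : Subgroup P), A.Normal → ∀ a : ℕ,
    Nat.card A = p ^ (a + k) → ∃ B : Subgroup P, B.Normal ∧ B ≤ A ∧ Nat.card B = p ^ a := by
  induction k with
  | zero =>
    intro A hA a h
    exact ⟨A, hA, le_rfl, by simpa using h⟩
  | succ k ih =>
    intro A hA a h
    have := hA
    obtain ⟨B, hBn, hBA, hB⟩ := exists_normal_le_card_pow hP A (a + k) (by rw [h]; rfl)
    obtain ⟨C, hCn, hCB, hC⟩ := ih B hBn a hB
    exact ⟨C, hCn, hCB.trans hBA, hC⟩

/-- For odd p, a p-group without normal elementary abelian subgroups of order p^3 has p-rank at most 2. -/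
theorem result {P : Type*} [Group P] [Finite P] {p : ℕ} [Fact p.Prime] (hp : p ≠ 2) (hP : IsPGroup p P) (h : ∀ A : Subgroup P, A.Normal → IsMulCommutative A → (∀ a ∈ A, a ^ p = 1) → Nat.card A ≠ p ^ 3) (E : Subgroup P) (hE : IsMulCommutative E) (hEe : ∀ e ∈ E, e ^ p = 1) : Nat.card E ≤ p ^ 2 := by
  classical
  have hpp : p.Prime := Fact.out
  let S : Set (Subgroup P) :=
    {A | A.Normal ∧ (∀ a ∈ A, ∀ b ∈ A, a * b = b * a) ∧ ∀ a ∈ A, a ^ p = 1}
  have hfin : S.Finite := Set.toFinite _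
  have hbot : (⊥ : Subgroup P) ∈ S := by
    refine ⟨inferInstance, ?_, ?_⟩
    · intro a ha b hb
      rw [Subgroup.mem_bot] at ha hb
      rw [ha, hb]
    · intro a ha
      rw [Subgroup.mem_bot] at ha
      rw [ha, one_pow]
  obtain ⟨A, -, hA⟩ := hfin.exists_le_maximal hbot
  obtain ⟨hAn, hAab, hAe⟩ := hA.prop
  have := hAn
  have hAcomm : IsMulCommutative A := ⟨⟨fun a b => Subtype.ext (hAab a a.2 b b.2)⟩⟩
  obtain ⟨k, hk⟩ := IsPGroup.iff_card.mp (hP.to_subgroup A)
  have hk2 : k ≤ 2 := by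
    by_contra hk3
    push Not at hk3
    obtain ⟨B, hBn, hBA, hB⟩ := exists_normal_le_card_pow' hP (k - 3) A hAn 3
      (by rw [hk]; congr 1; omega)
    exact h B hBn ⟨⟨fun a b => Subtype.ext (hAab a (hBA a.2) b (hBA b.2))⟩⟩
      (fun b hb => hAe b (hBA hb)) hB
  have halp : ∀ x ∈ Subgroup.centralizer (A : Set P), x ^ p = 1 → x ∈ A := by
    intro x hx hxp
    refine Cfsg.Agent.S0130.result hP 1 (by rw [pow_one]; exact hp) A hAcomm
      (by intro a ha; rw [pow_one]; exact hAe a ha) ?_ x hx (by rw [pow_one]; exact hxp)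
    intro B hBn hBc hBe hAB
    have hBS : B ∈ S := by
      refine ⟨hBn, ?_, ?_⟩
      · intro a ha b hb
        have h1 := hBc.is_comm.comm ⟨a, ha⟩ ⟨b, hb⟩
        exact congrArg Subtype.val h1
      · intro b hb
        have h1 := hBe b hb
        rwa [pow_one] at h1
    exact le_antisymm (hA.le_of_ge hBS hAB) hAB
  have hidx : (Subgroup.centralizer (A : Set P)).index ≤ p := by
    have h1 := index_centralizer_le hP k A hAn hAcomm hk
    have h2 : k * (k - 1) / 2 ≤ 1 := by interval_cases k <;> simp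
    calc (Subgroup.centralizer (A : Set P)).index ≤ p ^ (k * (k - 1) / 2) := h1
      _ ≤ p ^ 1 := Nat.pow_le_pow_right hpp.pos h2
      _ = p := pow_one p
  set C := Subgroup.centralizer (A : Set P) with hC
  have hrel : C.relIndex E ≤ p := by
    have h1 : C.relIndex E ≤ C.relIndex ⊤ :=
      Subgroup.relIndex_le_of_le_right le_top
        (by rw [Subgroup.relIndex_top_right]; exact Subgroup.index_ne_zero_of_finite)
    rw [Subgroup.relIndex_top_right] at h1
    exact h1.trans hidx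
  have hcardE : Nat.card E = Nat.card (C ⊓ E : Subgroup P) * C.relIndex E := by
    have h1 := Subgroup.card_mul_index (C.subgroupOf E)
    rw [card_subgroupOf_eq_card_inf] at h1
    exact h1.symm
  have hCE : C ⊓ E ≤ A := fun x hx =>
    halp x (Subgroup.mem_inf.mp hx).1 (hEe x (Subgroup.mem_inf.mp hx).2)
  have hcardCE : Nat.card (C ⊓ E : Subgroup P) ≤ p ^ k := hk ▸ Subgroup.card_le_of_le hCE
  by_contra hcon
  push Not at hcon
  obtain ⟨m, hm⟩ := IsPGroup.iff_card.mp (hP.to_subgroup E)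
  have hm3 : 3 ≤ m := by
    by_contra h'
    push Not at h'
    have h1 : p ^ m ≤ p ^ 2 := Nat.pow_le_pow_right hpp.pos (by omega)
    omega
  have h3 : p ^ 3 ≤ Nat.card (C ⊓ E : Subgroup P) * p := by
    calc p ^ 3 ≤ p ^ m := Nat.pow_le_pow_right hpp.pos hm3
      _ = Nat.card E := hm.symm
      _ = Nat.card (C ⊓ E : Subgroup P) * C.relIndex E := hcardE
      _ ≤ Nat.card (C ⊓ E : Subgroup P) * p := Nat.mul_le_mul_left _ hrel
  have h4 : p ^ 2 ≤ Nat.card (C ⊓ E : Subgroup P) := by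
    have h5 : p ^ 2 * p ≤ Nat.card (C ⊓ E : Subgroup P) * p := by
      rw [← pow_succ]; exact h3
    exact Nat.le_of_mul_le_mul_right h5 hpp.pos
  have hk' : p ^ k ≤ p ^ 2 := Nat.pow_le_pow_right hpp.pos hk2
  have heq : C ⊓ E = A := Subgroup.eq_of_le_of_card_ge hCE (by rw [hk]; omega)
  have hAE : A ≤ E := heq ▸ inf_le_right
  have hEC : E ≤ C := by
    intro e he
    rw [hC, Subgroup.mem_centralizer_iff]
    intro a ha
    have h1 := hE.is_comm.comm ⟨a, hAE ha⟩ ⟨e, he⟩
    exact congrArg Subtype.val h1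
  have hEA : E = A := by
    rw [← heq]; exact (inf_eq_right.mpr hEC).symm
  rw [hEA, hk] at hcon
  omega

end Cfsg.Agent.S0100
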