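import Cfsg.Statements.S0102
import Cfsg.Agent.S0101
import Cfsg.Agent.S0088
import Cfsg.Agent.Lib.Helper03.SylowBasic

set_option autoImplicit false
open Cfsg

namespace Cfsg.Agent.S0102

open Cfsg.Agent.Lib.Helper03

/-- A finite perfect group with cyclic Sylow p-subgroups has no perfect central extension whose kernel has order divisible by p. -/
theorem result {G : Type*} {H : Type*} [Group G] [Group H] [Finite G] [Finite H] (hG : commutator G = ⊤) {p : ℕ} [Fact p.Prime] (hcyc : ∀ P : Sylow p G, IsCyclic P) (σ : H →* G) (hσ : Function.Surjective σ) (hz : σ.ker ≤ Subgroup.center H) (hH : commutator H = ⊤) : ¬ p ∣ Nat.card σ.ker := by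
  intro hdvd
  have hp : p.Prime := Fact.out
  let P : Sylow p H := default
  -- step 1: `P` is cyclic
  have hcycQ : IsCyclic ((P.mapSurjective hσ : Sylow p G) : Subgroup G) := hcyc _
  obtain ⟨y, hy⟩ := (Subgroup.isCyclic_iff_exists_zpowers_eq_top _).mp hcycQ
  have hy' : Subgroup.zpowers y = (P : Subgroup H).map σ := hy
  have hyP : y ∈ (P : Subgroup H).map σ := hy' ▸ Subgroup.mem_zpowers y
  obtain ⟨x, hxP, rfl⟩ := hyP
  have hfr := Cfsg.Agent.S0101.result σ hσ hz hH P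
  have htop : Subgroup.zpowers (⟨x, hxP⟩ : (P : Subgroup H)) ⊔ frattini (P : Subgroup H) = ⊤ := by
    rw [eq_top_iff]
    intro w _
    have h0 : σ w ∈ Subgroup.zpowers (σ x) := hy' ▸ ⟨w, w.2, rfl⟩
    obtain ⟨k, hk⟩ := h0
    have hk' : σ x ^ k = σ w := hk
    have h1 : (x ^ k)⁻¹ * (w : H) ∈ σ.ker ⊓ (P : Subgroup H) := by
      refine Subgroup.mem_inf.mpr ⟨?_, ?_⟩
      · rw [MonoidHom.mem_ker, map_mul, map_inv, map_zpow, hk', inv_mul_cancel]
      · exact mul_mem (inv_mem (zpow_mem hxP k)) w.2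
    obtain ⟨u, hu, hu'⟩ := hfr h1
    have h2 : w = (⟨x, hxP⟩ : (P : Subgroup H)) ^ k * u := by
      apply Subtype.ext
      have : ((u : (P : Subgroup H)) : H) = (x ^ k)⁻¹ * (w : H) := hu'
      simp [this]
    rw [h2]
    exact Subgroup.mul_mem_sup (zpow_mem (Subgroup.mem_zpowers _) k) hu
  have hcycP : Subgroup.zpowers (⟨x, hxP⟩ : (P : Subgroup H)) = ⊤ := frattini_nongenerating htop
  have hPc : IsCyclic (P : Subgroup H) := isCyclic_iff_exists_zpowers_eq_top.mpr ⟨_, hcycP⟩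
  have hPcomm : IsMulCommutative (P : Subgroup H) := hPc.isMulCommutative
  -- step 2
  have h88 := Cfsg.Agent.S0088.result (P : Subgroup H) hPcomm P.card_coprime_index
  obtain ⟨z, hzo⟩ := exists_prime_orderOf_dvd_card' p hdvd
  have hzo' : orderOf (z : H) = p ^ 1 := by rw [Subgroup.orderOf_coe, hzo, pow_one]
  have hzZ : (z : H) ∈ Subgroup.center H := hz z.2
  have hzP : (z : H) ∈ (P : Subgroup H) :=
    mem_sylow_of_mem_center_of_orderOf_eq_prime_pow P z hzZ 1 hzo'
  have hmem : (z : H) ∈ (P : Subgroup H) ⊓ commutator H ⊓ Subgroup.center H :=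
    Subgroup.mem_inf.mpr ⟨Subgroup.mem_inf.mpr ⟨hzP, hH ▸ Subgroup.mem_top _⟩, hzZ⟩
  rw [h88, Subgroup.mem_bot] at hmem
  rw [hmem, orderOf_one, pow_one] at hzo'
  exact hp.one_lt.ne hzo'

end Cfsg.Agent.S0102
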