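import Cfsg.Statements.S0104

set_option autoImplicit false
open Cfsg

namespace Cfsg.Agent.S0104

open scoped Pointwise

lemma mem_smul_sylow_iff {G : Type*} [Group G] {p : ℕ} (P : Sylow p G) (g x : G) :
    x ∈ ((g • P : Sylow p G) : Subgroup G) ↔ g⁻¹ * x * g ∈ (P : Subgroup G) := by
  rw [Sylow.coe_subgroup_smul, Subgroup.mem_pointwise_smul_iff_inv_smul_mem]
  simp [MulAut.smul_def, MulAut.conj_apply]

lemma map_conj_eq_of_mem_normalizer {G : Type*} [Group G] (Z : Subgroup G) (g : G)
    (hg : g ∈ Subgroup.normalizer (Z : Set G)) : Z.map (MulAut.conj g).toMonoidHom = Z :=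
  Subgroup.mem_normalizer_iff_map_conj_eq.mp hg

/-- A subgroup Z of a Sylow p-subgroup P that is normalized by N_G(P) is weakly closed in P exactly when it is normal in every Sylow p-subgroup containing it. -/
theorem result {G : Type*} [Group G] [Finite G] {p : ℕ} [Fact p.Prime] (P : Sylow p G) (Z : Subgroup G) (hZP : Z ≤ (P : Subgroup G)) (hZN : Subgroup.normalizer (P : Set G) ≤ Subgroup.normalizer (Z : Set G)) : Cfsg.IsWeaklyClosed Z P ↔ ∀ R : Sylow p G, Z ≤ (R : Subgroup G) → (R : Subgroup G) ≤ Subgroup.normalizer (Z : Set G) := by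
  have hPN : (P : Subgroup G) ≤ Subgroup.normalizer (Z : Set G) :=
    le_trans (Subgroup.le_normalizer (H := (P : Subgroup G))) hZN
  constructor
  · rintro ⟨-, hwc⟩ R hZR
    obtain ⟨g, rfl⟩ := MulAction.exists_smul_eq G P R
    -- conj by g⁻¹ maps Z into P
    have h1 : Z.map (MulAut.conj g⁻¹).toMonoidHom ≤ (P : Subgroup G) := by
      rintro _ ⟨z, hz, rfl⟩
      have := (mem_smul_sylow_iff P g z).mp (hZR hz)
      simpa [MulAut.conj_apply] using this
    have h2 := hwc g⁻¹ h1
    have hginv : g⁻¹ ∈ Subgroup.normalizer (Z : Set G) :=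
      Subgroup.mem_normalizer_iff_map_conj_eq.mpr h2
    have hg : g ∈ Subgroup.normalizer (Z : Set G) := by simpa using inv_mem hginv
    intro r hr
    have hr' := (mem_smul_sylow_iff P g r).mp hr
    have h3 : g⁻¹ * r * g ∈ Subgroup.normalizer (Z : Set G) := hPN hr'
    have : r = g * (g⁻¹ * r * g) * g⁻¹ := by group
    rw [this]
    exact mul_mem (mul_mem hg h3) hginv
  · intro h
    refine ⟨hZP, fun g hg => ?_⟩
    apply map_conj_eq_of_mem_normalizer
    -- R = g⁻¹ • P contains Z
    have hZR : Z ≤ ((g⁻¹ • P : Sylow p G) : Subgroup G) := by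
      intro z hz
      rw [mem_smul_sylow_iff]
      have : g * z * g⁻¹ ∈ (P : Subgroup G) := hg ⟨z, hz, by simp [MulAut.conj_apply]⟩
      simpa using this
    have hRN := h _ hZR
    obtain ⟨n, hn⟩ := MulAction.exists_smul_eq (Subgroup.normalizer (Z : Set G))
      ((g⁻¹ • P).subtype hRN) (P.subtype hPN)
    simp_rw [Sylow.smul_subtype, Subgroup.smul_def, smul_smul] at hn
    have h4 : (n : G) * g⁻¹ ∈ Subgroup.normalizer (P : Set G) :=
      Sylow.smul_eq_iff_mem_normalizer.mp (Sylow.subtype_injective hn)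
    have h5 : (n : G) * g⁻¹ ∈ Subgroup.normalizer (Z : Set G) := hZN h4
    have h6 : g⁻¹ ∈ Subgroup.normalizer (Z : Set G) := by
      have := mul_mem (inv_mem n.2) h5
      simpa using this
    simpa using inv_mem h6

end Cfsg.Agent.S0104
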