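import Cfsg.Statements.S0105
import Cfsg.Agent.Lib.Helper03.CoprimeAbelian

set_option autoImplicit false
open Cfsg

namespace Cfsg.Agent.S0105

open Cfsg.Agent.Lib.Helper03
open scoped commutatorElement

/-- For an abelian Sylow subgroup the focal subgroup is `[P, N_G(P)]`. -/
theorem focalSubgroup_eq_commutator_normalizer {G : Type*} [Group G] [Finite G] {p : ℕ}
    [Fact p.Prime] (P : Sylow p G) (hP : IsMulCommutative P) :
    (P : Subgroup G).focalSubgroup =
      ⁅(P : Subgroup G), Subgroup.normalizer ((P : Subgroup G) : Set G)⁆ := by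
  apply le_antisymm
  · rw [Subgroup.focalSubgroup_def, Subgroup.closure_le]
    rintro g ⟨hgP, x, hxP, u, rfl⟩
    have hy : u⁻¹⁻¹ * x⁻¹ * u⁻¹ ∈ (P : Subgroup G) := by
      have : u⁻¹⁻¹ * x⁻¹ * u⁻¹ = x⁻¹ * ⁅x, u⁆ := by rw [commutatorElement_def]; group
      rw [this]; exact mul_mem (inv_mem hxP) hgP
    obtain ⟨n, hn, hnx⟩ := P.conj_eq_normalizer_conj_of_mem x⁻¹ u⁻¹ (inv_mem hxP) hy
    have : ⁅x, u⁆ = ⁅x, n⁻¹⁆ := by
      rw [commutatorElement_def, commutatorElement_def]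
      calc x * u * x⁻¹ * u⁻¹ = x * (u⁻¹⁻¹ * x⁻¹ * u⁻¹) := by group
        _ = x * (n⁻¹ * x⁻¹ * n) := by rw [hnx]
        _ = x * n⁻¹ * x⁻¹ * n⁻¹⁻¹ := by group
    rw [SetLike.mem_coe, this]
    exact Subgroup.commutator_mem_commutator hxP (inv_mem hn)
  · rw [Subgroup.commutator_le]
    intro x hx n hn
    apply Subgroup.subset_closure
    refine ⟨?_, x, hx, n, rfl⟩
    have h3 : n * x⁻¹ * n⁻¹ ∈ (P : Subgroup G) :=
      (Subgroup.mem_normalizer_iff.mp hn x⁻¹).mp (inv_mem hx)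
    have : ⁅x, n⁆ = x * (n * x⁻¹ * n⁻¹) := by rw [commutatorElement_def]; group
    rw [this]; exact mul_mem hx h3

open scoped IsMulCommutative in
/-- With an abelian Sylow p-subgroup P, some quotient of G is isomorphic to the part of P central in N_G(P). -/
theorem result {G : Type*} [Group G] [Finite G] {p : ℕ} [Fact p.Prime] (P : Sylow p G) (hP : IsMulCommutative P) : ∃ (N : Subgroup G) (hN : N.Normal), Nonempty (G ⧸ N ≃* ((P : Subgroup G) ⊓ Subgroup.centralizer (Subgroup.normalizer (P : Set G) : Set G) : Subgroup G)) := by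
  set Nn := Subgroup.normalizer ((P : Subgroup G) : Set G) with hNn
  have hPN : (P : Subgroup G) ≤ Nn := Subgroup.le_normalizer
  have hcop : Nat.Coprime (Nat.card (P : Subgroup G)) ((P : Subgroup G).relIndex Nn) := by
    have h1 : (P : Subgroup G).relIndex Nn ∣ (P : Subgroup G).index :=
      Subgroup.relIndex_dvd_index_of_le hPN
    exact Nat.Coprime.coprime_dvd_right h1 P.card_coprime_index
  have hR1 := le_commutator_sup_centralizer_of_abelian_hall (P : Subgroup G) Nn hPN le_rfl hP hcop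
  have hR2 := commutator_inf_centralizer_inf_eq_bot_of_abelian_hall (P : Subgroup G) Nn hPN hP hcop
  have hfoc := focalSubgroup_eq_commutator_normalizer P hP
  have hDNN : ⁅(P : Subgroup G), Nn⁆ ≤ ⁅Nn, Nn⁆ := Subgroup.commutator_mono hPN le_rfl
  set Z₀ : Subgroup G := (P : Subgroup G) ⊓ Subgroup.centralizer (Nn : Set G) with hZ₀
  have hZP : Z₀ ≤ (P : Subgroup G) := inf_le_left
  -- the comparison map
  let ψ : Z₀ →* (P : Subgroup G) ⧸ (P : Subgroup G).focalSubgroupOf :=
    (QuotientGroup.mk' (P : Subgroup G).focalSubgroupOf).comp (Subgroup.inclusion hZP)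
  have hinj : Function.Injective ψ := by
    rw [injective_iff_map_eq_one]
    intro z hz
    have h1 : (Subgroup.inclusion hZP z) ∈ (P : Subgroup G).focalSubgroupOf :=
      (QuotientGroup.eq_one_iff _).mp hz
    rw [Subgroup.focalSubgroupOf_def, Subgroup.mem_subgroupOf, hfoc] at h1
    have h2 : (z : G) ∈ ⁅Nn, Nn⁆ ⊓ Subgroup.centralizer (Nn : Set G) ⊓ (P : Subgroup G) :=
      Subgroup.mem_inf.mpr ⟨Subgroup.mem_inf.mpr ⟨hDNN h1, (Subgroup.mem_inf.mp z.2).2⟩,
        (Subgroup.mem_inf.mp z.2).1⟩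
    rw [hR2, Subgroup.mem_bot] at h2
    exact Subtype.ext h2
  have hsurj : Function.Surjective ψ := by
    intro q
    obtain ⟨x, rfl⟩ := QuotientGroup.mk_surjective q
    -- decompose `x` inside the commutative group `P`
    have hx : x ∈ (⁅(P : Subgroup G), Nn⁆).subgroupOf (P : Subgroup G) ⊔
        (Subgroup.centralizer (Nn : Set G) ⊓ (P : Subgroup G)).subgroupOf (P : Subgroup G) := by
      rw [← Subgroup.subgroupOf_sup ?_ ?_]
      · rw [Subgroup.mem_subgroupOf]; exact hR1 x.2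
      · rw [← hfoc]; exact Subgroup.focalSubgroup_le _
      · exact inf_le_right
    obtain ⟨d, hd, z, hz, rfl⟩ := Subgroup.mem_sup.mp hx
    rw [Subgroup.mem_subgroupOf] at hd hz
    have hzZ : (z : G) ∈ Z₀ := Subgroup.mem_inf.mpr ⟨z.2, (Subgroup.mem_inf.mp hz).1⟩
    refine ⟨⟨z, hzZ⟩, ?_⟩
    show (QuotientGroup.mk' _) (Subgroup.inclusion hZP ⟨z, hzZ⟩) = QuotientGroup.mk' _ (d * z)
    rw [map_mul]
    have hd1 : QuotientGroup.mk' (P : Subgroup G).focalSubgroupOf d = 1 := by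
      rw [QuotientGroup.mk'_apply, QuotientGroup.eq_one_iff, Subgroup.focalSubgroupOf_def,
        Subgroup.mem_subgroupOf, hfoc]
      exact hd
    rw [hd1, one_mul]
    rfl
  let e1 : G ⧸ (P : Subgroup G).transferFocal.ker ≃* (P : Subgroup G) ⧸ (P : Subgroup G).focalSubgroupOf :=
    Subgroup.transferFocal.quotientKerMulEquivQuotientFocalSubroupOf P
  let e2 : Z₀ ≃* (P : Subgroup G) ⧸ (P : Subgroup G).focalSubgroupOf :=
    MulEquiv.ofBijective ψ ⟨hinj, hsurj⟩
  exact ⟨(P : Subgroup G).transferFocal.ker, inferInstance, ⟨e1.trans e2.symm⟩⟩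

end Cfsg.Agent.S0105
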