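import Cfsg.Statements.S3224
import Cfsg.Agent.Lib.Helper78.MaxClass2Recognition
import Cfsg.Agent.Lib.Helper03.PGroupFrattini
import Mathlib

set_option autoImplicit false
open Cfsg
open scoped commutatorElement

namespace Cfsg.Agent.S3224

open Cfsg.Agent.Lib.Helper78

/-- Suzuki's counting: `|S| ≤ |C_S(x)| · |S'|`. -/
lemma card_le_card_centralizer_mul_card_commutator {S : Type*} [Group S] [Finite S] (x : S) :
    Nat.card S ≤ Nat.card (Subgroup.centralizer ({x} : Set S)) * Nat.card (commutator S) := by
  classical
  set C := Subgroup.centralizer ({x} : Set S) with hCdef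
  have hmem : ∀ g : S, ⁅g, x⁆ ∈ commutator S := by
    intro g
    rw [commutator_def]
    exact Subgroup.commutator_mem_commutator (Subgroup.mem_top _) (Subgroup.mem_top _)
  let φ : S ⧸ C → commutator S := fun q =>
    Quotient.liftOn' q (fun g => (⟨⁅g, x⁆, hmem g⟩ : commutator S)) (by
      intro g h hgh
      rw [QuotientGroup.leftRel_apply, hCdef, Subgroup.mem_centralizer_singleton_iff] at hgh
      apply Subtype.ext
      show ⁅g, x⁆ = ⁅h, x⁆
      rw [commutatorElement_def, commutatorElement_def]
      have e : h = g * (g⁻¹ * h) := by group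
      rw [e]
      have : g * (g⁻¹ * h) * x * (g * (g⁻¹ * h))⁻¹ * x⁻¹
          = g * ((g⁻¹ * h) * x) * (g⁻¹ * h)⁻¹ * g⁻¹ * x⁻¹ := by group
      rw [this, hgh]
      group)
  have hφinj : Function.Injective φ := by
    intro q₁ q₂ h
    induction q₁ using Quotient.inductionOn' with
    | h g =>
      induction q₂ using Quotient.inductionOn' with
      | h k =>
        apply Quotient.sound'
        rw [QuotientGroup.leftRel_apply, hCdef, Subgroup.mem_centralizer_singleton_iff]
        have h1 : ⁅g, x⁆ = ⁅k, x⁆ := congrArg Subtype.val h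
        rw [commutatorElement_def, commutatorElement_def] at h1
        have h2 : g * x * g⁻¹ = k * x * k⁻¹ := by
          have := congrArg (· * x) h1
          simpa using this
        calc g⁻¹ * k * x = g⁻¹ * (k * x * k⁻¹) * k := by group
          _ = g⁻¹ * (g * x * g⁻¹) * k := by rw [h2]
          _ = x * (g⁻¹ * k) := by group
  have h1 := Nat.card_le_card_of_injective φ hφinj
  have h2 := Subgroup.card_eq_card_quotient_mul_card_subgroup C
  rw [h2, mul_comm]
  exact Nat.mul_le_mul_left _ h1

/-- A finite `2`-group whose commutator subgroup has index at most 2 is abelian. -/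
lemma comm_of_index_commutator_le_two {S : Type*} [Group S] [Finite S] (hS : IsPGroup 2 S)
    (h : (commutator S).index ≤ 2) : ∀ u v : S, u * v = v * u := by
  have : Fact (Nat.Prime 2) := ⟨Nat.prime_two⟩
  have hfr := Cfsg.Agent.Lib.Helper03.commutator_le_frattini_of_isPGroup hS
  -- find a generator modulo `S'`
  obtain ⟨g, hg⟩ : ∃ g : S, Subgroup.zpowers g ⊔ commutator S = ⊤ := by
    by_cases hex : ∃ g : S, g ∉ commutator S
    · obtain ⟨g, hg⟩ := hex
      refine ⟨g, ?_⟩
      by_contra hne
      set K := Subgroup.zpowers g ⊔ commutator S with hK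
      have hle : commutator S ≤ K := le_sup_right
      have hKidx : 2 ≤ K.index := by
        have h0 : K.index ≠ 0 := Subgroup.index_ne_zero_of_finite
        have h1 : K.index ≠ 1 := fun h1 => hne (Subgroup.index_eq_one.mp h1)
        omega
      have hmul := Subgroup.relIndex_mul_index hle
      have hrel : (commutator S).relIndex K = 1 := by
        have h0 : (commutator S).relIndex K ≠ 0 := by
          intro h0; rw [h0, zero_mul] at hmul
          exact Subgroup.index_ne_zero_of_finite hmul.symm
        by_contra h1
        have : 2 ≤ (commutator S).relIndex K := by omega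
        nlinarith
      have hKle : K ≤ commutator S := Subgroup.relIndex_eq_one.mp hrel
      apply hg
      apply hKle
      exact (le_sup_left : Subgroup.zpowers g ≤ K) (Subgroup.mem_zpowers g)
    · push Not at hex
      refine ⟨1, ?_⟩
      rw [eq_top_iff]
      intro y _
      exact (le_sup_right : commutator S ≤ _) (hex y)
  have hg2 : Subgroup.zpowers g ⊔ frattini S = ⊤ := by
    rw [eq_top_iff, ← hg]
    exact sup_le_sup_left hfr _
  have hg3 : Subgroup.zpowers g = ⊤ := frattini_nongenerating hg2
  intro u v
  have hu : u ∈ Subgroup.zpowers g := by rw [hg3]; exact Subgroup.mem_top _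
  have hv : v ∈ Subgroup.zpowers g := by rw [hg3]; exact Subgroup.mem_top _
  obtain ⟨i, rfl⟩ := Subgroup.mem_zpowers_iff.mp hu
  obtain ⟨j, rfl⟩ := Subgroup.mem_zpowers_iff.mp hv
  rw [← zpow_add, ← zpow_add, add_comm]

/-- In a generalized quaternion group every involution is central. -/
lemma quaternion_involution_central {m : ℕ} [NeZero m] (q : QuaternionGroup m)
    (hq : orderOf q = 2) (r : QuaternionGroup m) : r * q = q * r := by
  cases q with
  | a i =>
    have h2 : (QuaternionGroup.a i) ^ 2 = 1 := by rw [← hq]; exact pow_orderOf_eq_one _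
    rw [pow_two, QuaternionGroup.a_mul_a, QuaternionGroup.one_def] at h2
    have hi : i + i = 0 := by
      injection h2
    cases r with
    | a j => rw [QuaternionGroup.a_mul_a, QuaternionGroup.a_mul_a, add_comm]
    | xa j =>
      rw [QuaternionGroup.xa_mul_a, QuaternionGroup.a_mul_xa]
      congr 1
      have : i = -i := eq_neg_of_add_eq_zero_left hi
      rw [sub_eq_add_neg, ← this]
  | xa i =>
    rw [QuaternionGroup.orderOf_xa] at hq
    omega

theorem result {S : Type*} [Group S] [Finite S] (hS : IsPGroup 2 S)
    (x : S) (hx : orderOf x = 2) (hC : Nat.card ↥(Subgroup.centralizer ({x} : Set S)) = 4) :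
    (∃ n : ℕ, Nonempty (S ≃* DihedralGroup n)) ∨ Cfsg.IsQuasiDihedral S ∨ Nat.card S = 4 := by
  have : Fact (Nat.Prime 2) := ⟨Nat.prime_two⟩
  by_cases h4c : Nat.card S = 4
  · exact Or.inr (Or.inr h4c)
  obtain ⟨n, hn⟩ := hS.exists_card_eq
  have hCle : Nat.card (Subgroup.centralizer ({x} : Set S)) ≤ Nat.card S :=
    Subgroup.card_le_card_group _
  rw [hC] at hCle
  have hn3 : 3 ≤ n := by
    by_contra hlt
    have : n ≤ 2 := by omega
    have h2 : 2 ^ n ≤ 2 ^ 2 := Nat.pow_le_pow_right two_pos this
    rw [hn] at hCle h4c
    omega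
  have h8 : 8 ≤ Nat.card S := by
    rw [hn]
    calc 8 = 2 ^ 3 := by norm_num
      _ ≤ 2 ^ n := Nat.pow_le_pow_right two_pos hn3
  -- centralizer of x is not everything
  have hnotall : ¬ ∀ u v : S, u * v = v * u := by
    intro hcomm
    have htop : Subgroup.centralizer ({x} : Set S) = ⊤ := by
      rw [eq_top_iff]
      intro y _
      rw [Subgroup.mem_centralizer_singleton_iff]
      exact hcomm _ _
    rw [htop, Subgroup.card_top] at hC
    omega
  -- index of the commutator subgroup
  have hle := card_le_card_centralizer_mul_card_commutator x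
  rw [hC] at hle
  have hmul := Subgroup.card_mul_index (commutator S)
  have hidx_le : (commutator S).index ≤ 4 := by
    have hpos : 0 < Nat.card (commutator S) := Nat.card_pos
    by_contra hgt
    have : 5 ≤ (commutator S).index := by omega
    nlinarith
  have hidx_gt : ¬ (commutator S).index ≤ 2 := fun h =>
    hnotall (comm_of_index_commutator_le_two hS h)
  have hidx_dvd : (commutator S).index ∣ 2 ^ n := by
    rw [← hn]; exact Subgroup.index_dvd_card _
  obtain ⟨k, hk, hidxk⟩ := (Nat.dvd_prime_pow Nat.prime_two).mp hidx_dvd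
  have h4 : (commutator S).index = 4 := by
    rw [hidxk] at hidx_le hidx_gt ⊢
    have hk2 : k ≤ 2 := by
      by_contra hlt
      have : 3 ≤ k := by omega
      have : 2 ^ 3 ≤ 2 ^ k := Nat.pow_le_pow_right two_pos this
      omega
    interval_cases k <;> simp_all
  rcases classification_of_index_four hS h4 n hn3 hn with hD | hQ | ⟨hn4, a, b, ha, hb, hab⟩
  · exact Or.inl ⟨_, hD⟩
  · exfalso
    obtain ⟨e⟩ := hQ
    have hm : NeZero (2 ^ (n - 2)) := ⟨by positivity⟩
    have hex : orderOf (e x) = 2 := by
      rw [MulEquiv.orderOf_eq]; exact hx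
    have hcentral := quaternion_involution_central (e x) hex
    apply hnotall
    -- everything commutes with x, so centralizer is everything
    have htop : Subgroup.centralizer ({x} : Set S) = ⊤ := by
      rw [eq_top_iff]
      intro y _
      rw [Subgroup.mem_centralizer_singleton_iff]
      apply e.injective
      rw [map_mul, map_mul]
      exact hcentral (e y)
    rw [htop, Subgroup.card_top] at hC
    omega
  · right; left
    refine ⟨n - 1, by omega, ?_, a, b, ha, hb, ?_⟩
    · rw [hn]; congr 1; omega
    · rw [hab]
      have : n - 1 - 1 = n - 2 := by omega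
      rw [this]

end Cfsg.Agent.S3224
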