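import Cfsg.Statements.S3919
import Cfsg.Agent.S3224
import Cfsg.Agent.Lib.Helper78.CenterMeet
import Cfsg.Agent.Lib.Helper78.MaxClass2Nilpotent
import Cfsg.Agent.Lib.Helper78.MaxClass2Structure
import Cfsg.Agent.Lib.Helper97.UniqueOrderP
import Mathlib

set_option autoImplicit false
open Cfsg
open scoped commutatorElement

namespace Cfsg.Agent.S3919

open Cfsg.Agent.Lib.Helper78

section fourgroup

variable {G : Type*} [Group G]

lemma ncard_four_le {α : Type*} (a b c d : α) : ({a, b, c, d} : Set α).ncard ≤ 4 := by
  have h1 := Set.ncard_insert_le a ({b, c, d} : Set α)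
  have h2 := Set.ncard_insert_le b ({c, d} : Set α)
  have h3 := Set.ncard_insert_le c ({d} : Set α)
  have h4 : ({d} : Set α).ncard = 1 := Set.ncard_singleton d
  omega

/-- Elements of the four-group generated by an involution `s` and a central involution `t`. -/
lemma mem_four {s t : G} (hs : orderOf s = 2) (ht : orderOf t = 2) (htc : t ∈ Subgroup.center G)
    {v : G} (hv : v ∈ Subgroup.zpowers s ⊔ Subgroup.zpowers t) :
    v = 1 ∨ v = s ∨ v = t ∨ v = s * t := by
  have hn : (Subgroup.zpowers t).Normal := zpowers_normal_of_mem_center htc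
  have hv' : v ∈ ((Subgroup.zpowers s ⊔ Subgroup.zpowers t : Subgroup G) : Set G) := hv
  rw [Subgroup.mul_normal] at hv'
  obtain ⟨a, ha, b, hb, rfl⟩ := Set.mem_mul.mp hv'
  rcases (mem_zpowers_of_orderOf_two hs).mp ha with rfl | rfl <;>
  rcases (mem_zpowers_of_orderOf_two ht).mp hb with rfl | rfl <;> simp

lemma not_isCyclic_four {s t : G} (hs : orderOf s = 2) (ht : orderOf t = 2)
    (htc : t ∈ Subgroup.center G) (hst : s ≠ t) :
    ¬ IsCyclic ↥(Subgroup.zpowers s ⊔ Subgroup.zpowers t) := by
  intro hcyc
  obtain ⟨v, hv⟩ := hcyc.exists_generator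
  have hs1 : s ≠ 1 := by intro h; rw [h, orderOf_one] at hs; omega
  have ht1 : t ≠ 1 := by intro h; rw [h, orderOf_one] at ht; omega
  have hss : s * s = 1 := by rw [← pow_two, ← hs]; exact pow_orderOf_eq_one s
  have htt : t * t = 1 := by rw [← pow_two, ← ht]; exact pow_orderOf_eq_one t
  have hcomm : s * t = t * s := Subgroup.mem_center_iff.mp htc s
  have hvv : (v : G) * v = 1 := by
    rcases mem_four hs ht htc v.2 with h | h | h | h <;> rw [h]
    · simp
    · exact hss
    · exact htt
    · calc s * t * (s * t) = s * (t * s) * t := by group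
        _ = s * (s * t) * t := by rw [hcomm]
        _ = (s * s) * (t * t) := by group
        _ = 1 := by rw [hss, htt, one_mul]
  have hsmem : s ∈ Subgroup.zpowers s ⊔ Subgroup.zpowers t :=
    (le_sup_left : Subgroup.zpowers s ≤ _) (Subgroup.mem_zpowers s)
  have htmem : t ∈ Subgroup.zpowers s ⊔ Subgroup.zpowers t :=
    (le_sup_right : Subgroup.zpowers t ≤ _) (Subgroup.mem_zpowers t)
  have key : ∀ x (_ : x ∈ Subgroup.zpowers s ⊔ Subgroup.zpowers t), x = 1 ∨ x = (v : G) := by
    intro x hx
    obtain ⟨k, hk⟩ := Subgroup.mem_zpowers_iff.mp (hv ⟨x, hx⟩)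
    have hk' : (v : G) ^ k = x := by
      have := congrArg Subtype.val hk
      simpa using this
    rcases zpow_eq_one_or_self_of_sq hvv k with h | h
    · left; rw [← hk', h]
    · right; rw [← hk', h]
  rcases key s hsmem with h | h
  · exact hs1 h
  · rcases key t htmem with h' | h'
    · exact ht1 h'
    · exact hst (h.trans h'.symm)

lemma card_four_le [Finite G] {s t : G} (hs : orderOf s = 2) (ht : orderOf t = 2)
    (htc : t ∈ Subgroup.center G) :
    Nat.card ↥(Subgroup.zpowers s ⊔ Subgroup.zpowers t) ≤ 4 := by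
  have hsub : ((Subgroup.zpowers s ⊔ Subgroup.zpowers t : Subgroup G) : Set G) ⊆
      {1, s, t, s * t} := by
    intro v hv
    rcases mem_four hs ht htc hv with h | h | h | h <;> simp [h]
  calc Nat.card ↥(Subgroup.zpowers s ⊔ Subgroup.zpowers t)
      = Set.ncard ((Subgroup.zpowers s ⊔ Subgroup.zpowers t : Subgroup G) : Set G) :=
        Nat.card_coe_set_eq _
    _ ≤ Set.ncard ({1, s, t, s * t} : Set G) := Set.ncard_le_ncard hsub (Set.toFinite _)
    _ ≤ 4 := ncard_four_le _ _ _ _

end fourgroup

section quaternion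

lemma two_torsion {m : ℕ} [NeZero m] (i : ZMod (2 * m)) (h : i + i = 0) :
    i = 0 ∨ i = (m : ZMod (2 * m)) := by
  have hm : 0 < m := Nat.pos_of_ne_zero (NeZero.ne m)
  have hv : i.val < 2 * m := ZMod.val_lt i
  have hcast : ((i.val + i.val : ℕ) : ZMod (2 * m)) = 0 := by
    rw [Nat.cast_add, ZMod.natCast_zmod_val]; exact h
  have hdvd : 2 * m ∣ i.val + i.val := (ZMod.natCast_eq_zero_iff _ _).mp hcast
  obtain ⟨c, hc⟩ := hdvd
  have hc2 : c = 0 ∨ c = 1 := by
    by_contra hcon
    push Not at hcon
    have : 2 ≤ c := by omega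
    nlinarith
  rcases hc2 with rfl | rfl
  · left
    have : i.val = 0 := by omega
    exact (ZMod.val_eq_zero i).mp this
  · right
    have : i.val = m := by omega
    rw [← ZMod.natCast_zmod_val i, this]

lemma quat_centralizer {m : ℕ} [NeZero m] (q : QuaternionGroup m)
    (h : q * QuaternionGroup.xa 0 = QuaternionGroup.xa 0 * q) :
    q = QuaternionGroup.a 0 ∨ q = QuaternionGroup.a (m : ZMod (2 * m)) ∨
      q = QuaternionGroup.xa 0 ∨ q = QuaternionGroup.xa (m : ZMod (2 * m)) := by
  cases q with
  | a i =>
    rw [QuaternionGroup.a_mul_xa, QuaternionGroup.xa_mul_a] at h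
    have hi : (0 : ZMod (2 * m)) - i = 0 + i := by injection h
    have hii : i + i = 0 := by
      have := congrArg (· + i) hi
      simp only [zero_sub, neg_add_cancel, zero_add] at this
      exact this.symm
    rcases two_torsion i hii with rfl | rfl
    · left; rfl
    · right; left; rfl
  | xa j =>
    rw [QuaternionGroup.xa_mul_xa, QuaternionGroup.xa_mul_xa] at h
    have hj : (m : ZMod (2 * m)) + 0 - j = (m : ZMod (2 * m)) + j - 0 := by injection h
    have hjj : j + j = 0 := by
      have := congrArg (fun t => t + j - (m : ZMod (2 * m))) hj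
      simp only [add_zero, sub_zero] at this
      have h2 : (m : ZMod (2 * m)) - j + j - (m : ZMod (2 * m)) = 0 := by ring
      rw [h2] at this
      rw [this]; ring
    rcases two_torsion j hjj with rfl | rfl
    · right; right; left; rfl
    · right; right; right; rfl

end quaternion

/-- Maximal class implies that non-cyclic subgroups are self-centralizing. -/
lemma backward {G : Type*} [Group G] [Finite G] (n : ℕ) (hn : 3 ≤ n) (hG : Nat.card G = 2 ^ n)
    (hc : Group.nilpotencyClass G = n - 1) (H : Subgroup G) (hH : ¬ IsCyclic ↥H) :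
    Subgroup.centralizer (H : Set G) ≤ H := by
  have : Fact (Nat.Prime 2) := ⟨Nat.prime_two⟩
  have hGp : IsPGroup 2 G := IsPGroup.of_card hG
  have h4 := index_commutator_of_maximal_class n G hn hG hc
  obtain ⟨a, b, z, horda, hb, hidx, hzdef, hordz, hcenter, hconj, hsq⟩ :=
    structure_of_index_four hGp h4 n hn hG
  -- H is not inside ⟨a⟩
  have hHA : ¬ H ≤ Subgroup.zpowers a := by
    intro hle
    apply hH
    exact isCyclic_of_injective (Subgroup.inclusion hle) (Subgroup.inclusion_injective hle)
  obtain ⟨b', hb'H, hb'A⟩ := SetLike.not_le_iff_exists.mp hHA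
  have hAcomm : ∀ x ∈ Subgroup.zpowers a, ∀ y ∈ Subgroup.zpowers a, x * y = y * x := by
    intro x hx y hy
    obtain ⟨i, rfl⟩ := Subgroup.mem_zpowers_iff.mp hx
    obtain ⟨j, rfl⟩ := Subgroup.mem_zpowers_iff.mp hy
    rw [← zpow_add, ← zpow_add, add_comm]
  -- elements of ⟨a⟩ commuting with b' are central
  have hcen : ∀ g ∈ Subgroup.zpowers a, g * b' = b' * g → g = 1 ∨ g = z := by
    intro g hgA hgb
    rw [← hcenter, Subgroup.mem_center_iff]
    intro y
    rcases mem_or_inv_mul_mem _ hidx b' hb'A y with hy | hy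
    · exact hAcomm y hy g hgA
    · have h1 := hAcomm (b'⁻¹ * y) hy g hgA
      calc y * g = b' * ((b'⁻¹ * y) * g) := by group
        _ = b' * (g * (b'⁻¹ * y)) := by rw [h1]
        _ = (b' * g) * (b'⁻¹ * y) := by group
        _ = (g * b') * (b'⁻¹ * y) := by rw [hgb]
        _ = g * y := by group
  -- z ∈ H
  have hzH : z ∈ H := by
    have hAn : (Subgroup.zpowers a).Normal := Subgroup.normal_of_index_eq_two hidx
    have hHp : IsPGroup 2 H := hGp.to_subgroup H
    have hHnil : Group.IsNilpotent H := hHp.isNilpotent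
    have hKne : (Subgroup.zpowers a).subgroupOf H ≠ ⊥ := by
      intro hbot
      apply hH
      have hle : H ≤ Subgroup.zpowers b' := by
        intro h hh
        rcases mem_or_inv_mul_mem _ hidx b' hb'A h with h1 | h1
        · have h2 : (⟨h, hh⟩ : H) ∈ (Subgroup.zpowers a).subgroupOf H :=
            Subgroup.mem_subgroupOf.mpr h1
          rw [hbot, Subgroup.mem_bot] at h2
          have h3 : h = 1 := congrArg Subtype.val h2
          rw [h3]; exact Subgroup.one_mem _
        · have hmem : b'⁻¹ * h ∈ H := H.mul_mem (H.inv_mem hb'H) hh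
          have h2 : (⟨b'⁻¹ * h, hmem⟩ : H) ∈ (Subgroup.zpowers a).subgroupOf H :=
            Subgroup.mem_subgroupOf.mpr h1
          rw [hbot, Subgroup.mem_bot] at h2
          have h3 : b'⁻¹ * h = 1 := congrArg Subtype.val h2
          have h4 : h = b' := by
            calc h = b' * (b'⁻¹ * h) := by group
              _ = b' := by rw [h3, mul_one]
          rw [h4]; exact Subgroup.mem_zpowers _
      exact isCyclic_of_injective (Subgroup.inclusion hle) (Subgroup.inclusion_injective hle)
    obtain ⟨x, hxK, hxZ, hx1⟩ :=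
      Cfsg.Agent.Lib.Helper78.exists_center_mem_of_normal ((Subgroup.zpowers a).subgroupOf H) hKne
    have hxA : (x : G) ∈ Subgroup.zpowers a := Subgroup.mem_subgroupOf.mp hxK
    have hxb : (x : G) * b' = b' * x := by
      have h1 := Subgroup.mem_center_iff.mp hxZ ⟨b', hb'H⟩
      have h2 := congrArg Subtype.val h1
      simpa using h2.symm
    rcases hcen x hxA hxb with h | h
    · exfalso; apply hx1; exact Subtype.ext h
    · rw [← h]; exact x.2
  intro c hcC
  have hcb : c * b' = b' * c := (Subgroup.mem_centralizer_iff.mp hcC b' hb'H).symm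
  rcases mem_or_inv_mul_mem _ hidx b' hb'A c with hcA | hcA
  · rcases hcen c hcA hcb with h | h
    · rw [h]; exact H.one_mem
    · rw [h]; exact hzH
  · have hcomm : (b'⁻¹ * c) * b' = b' * (b'⁻¹ * c) := by
      calc b'⁻¹ * c * b' = b'⁻¹ * (c * b') := by group
        _ = b'⁻¹ * (b' * c) := by rw [hcb]
        _ = b' * (b'⁻¹ * c) := by group
    rcases hcen _ hcA hcomm with h | h
    · have h5 : c = b' := by
        calc c = b' * (b'⁻¹ * c) := by group
          _ = b' := by rw [h, mul_one]
      rw [h5]; exact hb'H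
    · have h5 : c = b' * z := by
        calc c = b' * (b'⁻¹ * c) := by group
          _ = b' * z := by rw [h]
      rw [h5]; exact H.mul_mem hb'H hzH

/-- Non-cyclic subgroups self-centralizing implies maximal class. -/
lemma forward {G : Type*} [Group G] [Finite G] (hnc : ¬ ∀ a b : G, a * b = b * a) (n : ℕ)
    (hn : 3 ≤ n) (hG : Nat.card G = 2 ^ n)
    (hSC : ∀ H : Subgroup G, ¬ IsCyclic ↥H → Subgroup.centralizer (H : Set G) ≤ H) :
    Group.nilpotencyClass G = n - 1 := by
  have : Fact (Nat.Prime 2) := ⟨Nat.prime_two⟩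
  have hGp : IsPGroup 2 G := IsPGroup.of_card hG
  have hnil : Group.IsNilpotent G := hGp.isNilpotent
  have h8 : 8 ≤ Nat.card G := by
    rw [hG]
    calc 8 = 2 ^ 3 := by norm_num
      _ ≤ 2 ^ n := Nat.pow_le_pow_right two_pos hn
  have key : ∃ x : G, Nat.card (Subgroup.centralizer ({x} : Set G)) ≤ 4 := by
    have htop : (⊤ : Subgroup G) ≠ ⊥ := by
      intro h
      have h1 : Nat.card (⊤ : Subgroup G) = Nat.card (⊥ : Subgroup G) := by rw [h]
      rw [Subgroup.card_top, Subgroup.card_bot] at h1
      omega
    obtain ⟨z₀, -, hz₀Z, hz₀2⟩ := exists_central_involution hGp ⊤ htop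
    by_cases hex : ∃ w : G, orderOf w = 2 ∧ w ∉ Subgroup.center G
    · obtain ⟨w, hw2, hwZ⟩ := hex
      refine ⟨w, ?_⟩
      have hwz : w ≠ z₀ := fun h => hwZ (h ▸ hz₀Z)
      have hVnc := not_isCyclic_four hw2 hz₀2 hz₀Z hwz
      have hle : Subgroup.centralizer ({w} : Set G) ≤
          Subgroup.zpowers w ⊔ Subgroup.zpowers z₀ := by
        intro c hc
        apply hSC _ hVnc
        rw [Subgroup.mem_centralizer_iff]
        intro v hv
        have hcw : c * w = w * c := Subgroup.mem_centralizer_singleton_iff.mp hc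
        have hcz : c * z₀ = z₀ * c := Subgroup.mem_center_iff.mp hz₀Z c
        rcases mem_four hw2 hz₀2 hz₀Z hv with h | h | h | h <;> rw [h]
        · simp
        · exact hcw.symm
        · exact hcz.symm
        · calc w * z₀ * c = w * (z₀ * c) := by group
            _ = w * (c * z₀) := by rw [hcz]
            _ = (w * c) * z₀ := by group
            _ = (c * w) * z₀ := by rw [hcw]
            _ = c * (w * z₀) := by group
      calc Nat.card (Subgroup.centralizer ({w} : Set G))
          ≤ Nat.card ↥(Subgroup.zpowers w ⊔ Subgroup.zpowers z₀) := Subgroup.card_le_of_le hle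
        _ ≤ 4 := card_four_le hw2 hz₀2 hz₀Z
    · push Not at hex
      have hU : Cfsg.Agent.Lib.Helper97.UniqueOrderP 2 G := by
        intro x y hx hy
        by_cases hxy : x = y
        · rw [hxy]; exact Subgroup.mem_zpowers y
        · exfalso
          have hxZ := hex x hx
          have hyZ := hex y hy
          have hVnc := not_isCyclic_four hx hy hyZ hxy
          have hle := hSC _ hVnc
          apply hnc
          have hall : ∀ g : G, g ∈ Subgroup.center G := by
            intro g
            have hg : g ∈ Subgroup.centralizer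
                ((Subgroup.zpowers x ⊔ Subgroup.zpowers y : Subgroup G) : Set G) := by
              rw [Subgroup.mem_centralizer_iff]
              intro v hv
              rcases mem_four hx hy hyZ hv with h | h | h | h <;> rw [h]
              · simp
              · exact (Subgroup.mem_center_iff.mp hxZ g).symm
              · exact (Subgroup.mem_center_iff.mp hyZ g).symm
              · exact (Subgroup.mem_center_iff.mp (Subgroup.mul_mem _ hxZ hyZ) g).symm
            rcases mem_four hx hy hyZ (hle hg) with h | h | h | h <;> rw [h]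
            · exact Subgroup.one_mem _
            · exact hxZ
            · exact hyZ
            · exact Subgroup.mul_mem _ hxZ hyZ
          intro a b
          exact Subgroup.mem_center_iff.mp (hall b) a
      have hncyc : ¬ IsCyclic G := by
        intro h
        apply hnc
        exact (IsCyclic.isMulCommutative (α := G)).is_comm.comm
      obtain ⟨k, ⟨e⟩⟩ := Cfsg.Agent.Lib.Helper97.quaternion_of_uniqueOrderP_two hGp hU hncyc
      have hk : NeZero (2 ^ k) := ⟨by positivity⟩
      refine ⟨e.symm (QuaternionGroup.xa 0), ?_⟩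
      have himg : e '' ((Subgroup.centralizer ({e.symm (QuaternionGroup.xa 0)} : Set G) :
          Subgroup G) : Set G) ⊆
          {QuaternionGroup.a 0, QuaternionGroup.a ((2 ^ k : ℕ) : ZMod (2 * 2 ^ k)),
            QuaternionGroup.xa 0, QuaternionGroup.xa ((2 ^ k : ℕ) : ZMod (2 * 2 ^ k))} := by
        rintro q ⟨c, hc, rfl⟩
        have hcx : c * e.symm (QuaternionGroup.xa 0) = e.symm (QuaternionGroup.xa 0) * c :=
          Subgroup.mem_centralizer_singleton_iff.mp hc
        have h1 : e c * QuaternionGroup.xa 0 = QuaternionGroup.xa 0 * e c := by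
          have := congrArg e hcx
          simpa using this
        rcases quat_centralizer (e c) h1 with h | h | h | h <;> simp [h]
      calc Nat.card (Subgroup.centralizer ({e.symm (QuaternionGroup.xa 0)} : Set G))
          = Set.ncard ((Subgroup.centralizer ({e.symm (QuaternionGroup.xa 0)} : Set G) :
              Subgroup G) : Set G) := Nat.card_coe_set_eq _
        _ = Set.ncard (e '' ((Subgroup.centralizer
              ({e.symm (QuaternionGroup.xa 0)} : Set G) : Subgroup G) : Set G)) :=
            (Set.ncard_image_of_injective _ e.injective).symm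
        _ ≤ Set.ncard ({QuaternionGroup.a 0,
              QuaternionGroup.a ((2 ^ k : ℕ) : ZMod (2 * 2 ^ k)),
              QuaternionGroup.xa 0,
              QuaternionGroup.xa ((2 ^ k : ℕ) : ZMod (2 * 2 ^ k))} :
                Set (QuaternionGroup (2 ^ k))) := Set.ncard_le_ncard himg (Set.toFinite _)
        _ ≤ 4 := ncard_four_le _ _ _ _
  obtain ⟨x, hx⟩ := key
  have hle := Cfsg.Agent.S3224.card_le_card_centralizer_mul_card_commutator x
  have hmul := Subgroup.card_mul_index (commutator G)
  have hpos : 0 < Nat.card (commutator G) := Nat.card_pos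
  have hidx_le : (commutator G).index ≤ 4 := by
    by_contra hgt
    have h5 : 5 ≤ (commutator G).index := by omega
    have h1 : Nat.card G ≤ 4 * Nat.card (commutator G) :=
      le_trans hle (Nat.mul_le_mul_right _ hx)
    nlinarith
  have hidx_gt : ¬ (commutator G).index ≤ 2 := fun h =>
    hnc (Cfsg.Agent.S3224.comm_of_index_commutator_le_two hGp h)
  have hidx_dvd : (commutator G).index ∣ 2 ^ n := by
    rw [← hG]; exact Subgroup.index_dvd_card _
  obtain ⟨j, hj, hidxj⟩ := (Nat.dvd_prime_pow Nat.prime_two).mp hidx_dvd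
  have h4 : (commutator G).index = 4 := by
    rw [hidxj] at hidx_le hidx_gt ⊢
    have hj2 : j ≤ 2 := by
      by_contra hlt
      have h3 : 3 ≤ j := by omega
      have : 2 ^ 3 ≤ 2 ^ j := Nat.pow_le_pow_right two_pos h3
      omega
    interval_cases j <;> simp_all
  exact nilpotencyClass_of_index_four n G hn hG h4

theorem result {G : Type*} [Group G] [Finite G] (hna : ¬ IsMulCommutative G) (n : ℕ) (hG : Nat.card G = 2 ^ n) :
    (∀ H : Subgroup G, ¬ IsCyclic ↥H → Subgroup.centralizer (H : Set G) ≤ H) ↔ (⊤ : Subgroup G).lowerCentralSeries (n - 2) ≠ ⊥ := by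
  have : Fact (Nat.Prime 2) := ⟨Nat.prime_two⟩
  have hGp : IsPGroup 2 G := IsPGroup.of_card hG
  have hnil : Group.IsNilpotent G := hGp.isNilpotent
  have hnc : ¬ ∀ a b : G, a * b = b * a := fun h => hna ⟨⟨h⟩⟩
  have hn3 : 3 ≤ n := by
    by_contra hlt
    apply hna
    have hn2 : n ≤ 2 := by omega
    interval_cases n
    · have h1 : Nat.card G = 1 := by simpa using hG
      obtain ⟨hs, -⟩ := Nat.card_eq_one_iff_unique.mp h1
      exact ⟨⟨fun a b => Subsingleton.elim _ _⟩⟩
    · have h2 : Nat.card G = 2 := by simpa using hG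
      have hc : IsCyclic G := isCyclic_of_prime_card h2
      exact IsCyclic.isMulCommutative
    · exact IsPGroup.isMulCommutative_of_card_eq_prime_sq hG
  have hcls : Group.nilpotencyClass G ≤ n - 1 := nilpotencyClass_le_of_card n G hG (by omega)
  have hiff : (⊤ : Subgroup G).lowerCentralSeries (n - 2) ≠ ⊥ ↔
      Group.nilpotencyClass G = n - 1 := by
    rw [Ne, Subgroup.lowerCentralSeries_eq_bot_iff_nilpotencyClass_le]
    constructor
    · intro h; omega
    · intro h; omega
  rw [hiff]
  constructor
  · intro hSC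
    exact forward hnc n hn3 hG hSC
  · intro hc H hH
    exact backward n hn3 hG hc H hH

end Cfsg.Agent.S3919
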