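import Cfsg.Statements.S0106
import Cfsg.Agent.S0071
import Cfsg.Agent.S3919
import Cfsg.Agent.Lib.Helper61.QuatAut
import Cfsg.Agent.Lib.Helper78.SL23Section
import Mathlib

set_option autoImplicit false
open Cfsg

namespace Cfsg.Agent.S0106

open Cfsg.Agent.Lib.Helper78 Cfsg.Agent.Lib.Helper61

section quatfacts

open QuaternionGroup

variable {m : ℕ} [NeZero m]

lemma q_sq_of_not_mem (u : QuaternionGroup m) (hu : u ∉ quatA m) :
    u * u = a (m : ZMod (2 * m)) := by
  cases u with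
  | a i => exact absurd (a_mem_quatA i) hu
  | xa i => rw [xa_mul_xa, add_sub_cancel_right]

lemma a_m_ne_one : (a (m : ZMod (2 * m)) : QuaternionGroup m) ≠ 1 := by
  rw [one_def]
  intro h
  have h' : (m : ZMod (2 * m)) = 0 := by injection h
  rw [ZMod.natCast_eq_zero_iff] at h'
  have hm : 0 < m := Nat.pos_of_ne_zero (NeZero.ne m)
  have := Nat.le_of_dvd hm h'
  omega

lemma a_m_sq : (a (m : ZMod (2 * m)) : QuaternionGroup m) * a (m : ZMod (2 * m)) = 1 := by
  rw [a_mul_a, one_def]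
  congr 1
  have : ((m : ZMod (2 * m)) + m) = ((2 * m : ℕ) : ZMod (2 * m)) := by push_cast; ring
  rw [this, ZMod.natCast_self]

lemma a_inv' (j : ZMod (2 * m)) : (a j : QuaternionGroup m)⁻¹ = a (-j) := by
  apply inv_eq_of_mul_eq_one_right
  rw [a_mul_a, add_neg_cancel, a_zero]

lemma conj_of_not_mem (u v : QuaternionGroup m) (hu : u ∉ quatA m) (hv : v ∈ quatA m) :
    u * v * u⁻¹ = v⁻¹ := by
  obtain ⟨j, rfl⟩ := hv
  cases u with
  | a i => exact absurd (a_mem_quatA i) hu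
  | xa i =>
    rw [mul_inv_eq_iff_eq_mul, a_inv', xa_mul_a, a_mul_xa]
    congr 1
    ring

lemma unique_invol (v : QuaternionGroup m) (hv : v ∈ quatA m) (hvv : v * v = 1) :
    v = 1 ∨ v = a (m : ZMod (2 * m)) := by
  obtain ⟨j, rfl⟩ := hv
  rw [a_mul_a, one_def] at hvv
  have h : j + j = 0 := by injection hvv
  rcases Cfsg.Agent.S3919.two_torsion j h with rfl | rfl
  · left; exact a_zero
  · right; rfl

end quatfacts

/-- The properties of a generalized quaternion group that we use. -/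
structure QuatLike {G : Type*} [Group G] (T A : Subgroup G) (z₀ : G) : Prop where
  hAT : A ≤ T
  hAcyc : IsCyclic A
  hsq : ∀ x ∈ T, x ∉ A → x * x = z₀
  hz1 : z₀ ≠ 1
  hzz : z₀ * z₀ = 1
  hdiff : ∀ x ∈ T, ∀ y ∈ T, x ∉ A → y ∉ A → x⁻¹ * y ∈ A
  hinv : ∀ x ∈ T, x ∉ A → ∀ y ∈ A, x * y * x⁻¹ = y⁻¹
  huniq : ∀ v ∈ A, v * v = 1 → v = 1 ∨ v = z₀

theorem quatLike_of_equiv {G : Type*} [Group G] (T : Subgroup G) {m : ℕ} [NeZero m]
    (e : T ≃* QuaternionGroup m) : ∃ (A : Subgroup G) (z₀ : G), QuatLike T A z₀ := by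
  let A' : Subgroup T := Subgroup.comap e.toMonoidHom (quatA m)
  let A : Subgroup G := A'.map T.subtype
  have memA : ∀ x : G, x ∈ A ↔ ∃ hx : x ∈ T, e ⟨x, hx⟩ ∈ quatA m := by
    intro x
    constructor
    · rintro ⟨t, ht, rfl⟩
      exact ⟨t.2, ht⟩
    · rintro ⟨hx, h⟩
      exact ⟨⟨x, hx⟩, h, rfl⟩
  have notA : ∀ x : G, ∀ hx : x ∈ T, x ∉ A → e ⟨x, hx⟩ ∉ quatA m := by
    intro x hx hxA h
    exact hxA ((memA x).mpr ⟨hx, h⟩)
  refine ⟨A, ((e.symm (QuaternionGroup.a (m : ZMod (2 * m))) : T) : G), ?_⟩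
  refine ⟨?_, ?_, ?_, ?_, ?_, ?_, ?_, ?_⟩
  · rintro x ⟨t, -, rfl⟩
    exact t.2
  · have h1 : IsCyclic ↥(quatA m) := quatA_isCyclic m
    have h2 : IsCyclic ↥A' := by
      let f : A' →* quatA m :=
        { toFun := fun t => ⟨e t.1, t.2⟩
          map_one' := by apply Subtype.ext; simp
          map_mul' := by intro s t; apply Subtype.ext; simp }
      apply isCyclic_of_injective f
      intro s t hst
      have h3 : e s.1 = e t.1 := congrArg Subtype.val hst
      exact Subtype.ext (e.injective h3)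
    exact isCyclic_of_surjective (T.subtype.subgroupMap A') (T.subtype.subgroupMap_surjective A')
  · intro x hx hxA
    have h1 := q_sq_of_not_mem _ (notA x hx hxA)
    rw [← map_mul] at h1
    have h2 : (⟨x, hx⟩ : T) * ⟨x, hx⟩ = e.symm (QuaternionGroup.a (m : ZMod (2 * m))) := by
      rw [← h1, MulEquiv.symm_apply_apply]
    have := congrArg Subtype.val h2
    simpa using this
  · intro h
    have h1 : (e.symm (QuaternionGroup.a (m : ZMod (2 * m))) : T) = 1 := Subtype.ext h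
    have h2 := congrArg e h1
    rw [MulEquiv.apply_symm_apply, map_one] at h2
    exact a_m_ne_one h2
  · have h1 : (e.symm (QuaternionGroup.a (m : ZMod (2 * m))) : T) *
        e.symm (QuaternionGroup.a (m : ZMod (2 * m))) = 1 := by
      rw [← map_mul, a_m_sq, map_one]
    have := congrArg Subtype.val h1
    simpa using this
  · intro x hx y hy hxA hyA
    have h1 := inv_mul_mem_quatA _ _ (notA x hx hxA) (notA y hy hyA)
    rw [← map_inv, ← map_mul] at h1
    exact (memA _).mpr ⟨T.mul_mem (T.inv_mem hx) hy, h1⟩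
  · intro x hx hxA y hyA
    obtain ⟨hy, hy'⟩ := (memA y).mp hyA
    have h1 := conj_of_not_mem _ _ (notA x hx hxA) hy'
    rw [← map_mul, ← map_inv, ← map_mul, ← map_inv] at h1
    have h2 := e.injective h1
    have := congrArg Subtype.val h2
    simpa using this
  · intro v hvA hvv
    obtain ⟨hv, hv'⟩ := (memA v).mp hvA
    have h0 : e ⟨v, hv⟩ * e ⟨v, hv⟩ = 1 := by
      rw [← map_mul]
      have : (⟨v, hv⟩ : T) * ⟨v, hv⟩ = 1 := Subtype.ext (by simpa using hvv)
      rw [this, map_one]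
    rcases unique_invol _ hv' h0 with h | h
    · left
      have h2 : (⟨v, hv⟩ : T) = 1 := by
        apply e.injective; rw [h, map_one]
      exact congrArg Subtype.val h2
    · right
      have h2 : (⟨v, hv⟩ : T) = e.symm (QuaternionGroup.a (m : ZMod (2 * m))) := by
        rw [← h, MulEquiv.symm_apply_apply]
      exact congrArg Subtype.val h2

theorem exists_triple_of_quatLike {G : Type*} [Group G] {T A : Subgroup G} {z₀ : G}
    (hT : QuatLike T A z₀) [Finite T] (hT2 : IsPGroup 2 T) (Q : Subgroup G) (hQT : Q ≤ T) (g : G)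
    (hgN : g ∈ Subgroup.normalizer (Q : Set G)) (k : ℕ) (hk : Odd k) (hgk : g ^ k = 1)
    (hgC : g ∉ Subgroup.centralizer (Q : Set G)) :
    ∃ i j : G, orderOf i = 4 ∧ j * j = i * i ∧ j * i * j⁻¹ = i⁻¹ ∧ g * i * g⁻¹ = j ∧
      g * j * g⁻¹ = i * j := by
  have hkpos : 0 < k := hk.pos
  have hgQ : ∀ q ∈ Q, g * q * g⁻¹ ∈ Q := fun q hq => (Subgroup.mem_normalizer_iff.mp hgN q).mp hq
  have tool : ∀ (h : G) (B : Subgroup G), h ^ k = 1 → B ≤ T → IsCyclic B →
      (∀ b ∈ B, h * b * h⁻¹ ∈ B) → ∀ b ∈ B, h * b * h⁻¹ = b := by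
    intro h B hhk hBT hBc hB
    have hBfin : Finite B :=
      Finite.of_injective (Subgroup.inclusion hBT) (Subgroup.inclusion_injective hBT)
    have hB2 : IsPGroup 2 B := hT2.to_le hBT
    have hn := mem_normalizer_of_conj_mem B h k hkpos hhk hB
    exact conj_eq_of_cyclic_two B hBc hB2 h hn k hk hhk
  have hnc : ¬ ∀ q ∈ Q, g * q * g⁻¹ = q := by
    intro h
    apply hgC
    rw [Subgroup.mem_centralizer_iff]
    intro q hq
    have := h q hq
    calc q * g = (g * q * g⁻¹) * g := by rw [this]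
      _ = g * q := by group
  have hQA : ¬ Q ≤ A := by
    intro hle
    apply hnc
    have hQc : IsCyclic Q := by
      haveI := hT.hAcyc
      exact isCyclic_of_injective (Subgroup.inclusion hle) (Subgroup.inclusion_injective hle)
    exact tool g Q hgk hQT hQc hgQ
  obtain ⟨b, hbQ, hbA⟩ := SetLike.not_le_iff_exists.mp hQA
  have hCT : Q ⊓ A ≤ T := inf_le_left.trans hQT
  have hCc : IsCyclic ↥(Q ⊓ A) := by
    haveI := hT.hAcyc
    exact isCyclic_of_injective (Subgroup.inclusion (inf_le_right : Q ⊓ A ≤ A))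
      (Subgroup.inclusion_injective _)
  have hdec : ∀ b' ∈ Q, b' ∉ A → ∀ y ∈ Q, y ∈ Q ⊓ A ∨ b'⁻¹ * y ∈ Q ⊓ A := by
    intro b' hb'Q hb'A y hy
    by_cases hyA : y ∈ A
    · left; exact ⟨hy, hyA⟩
    · right
      exact ⟨Q.mul_mem (Q.inv_mem hb'Q) hy, hT.hdiff b' (hQT hb'Q) y (hQT hy) hb'A hyA⟩
  -- g does not centralize C
  have hCnc : ¬ ∀ c ∈ Q ⊓ A, g * c * g⁻¹ = c := by
    intro hcen
    apply hnc
    have hgb : g * b * g⁻¹ = b := by
      have h1 : g * b * g⁻¹ ∈ Q := hgQ b hbQ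
      have h2 : g * b * g⁻¹ ∉ A := by
        intro hA
        have h3 := hcen _ ⟨h1, hA⟩
        have h4 : g * b * g⁻¹ = b := by
          calc g * b * g⁻¹ = g⁻¹ * (g * (g * b * g⁻¹) * g⁻¹) * g := by group
            _ = g⁻¹ * (g * b * g⁻¹) * g := by rw [h3]
            _ = b := by group
        rw [h4] at hA
        exact hbA hA
      have hc' : b⁻¹ * (g * b * g⁻¹) ∈ Q ⊓ A :=
        ⟨Q.mul_mem (Q.inv_mem hbQ) h1, hT.hdiff b (hQT hbQ) _ (hQT h1) hbA h2⟩
      obtain ⟨c', hc'def⟩ : ∃ c', c' = b⁻¹ * (g * b * g⁻¹) := ⟨_, rfl⟩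
      rw [← hc'def] at hc'
      have hgc' : g * c' * g⁻¹ = c' := hcen c' hc'
      have hgb' : g * b * g⁻¹ = b * c' := by rw [hc'def]; group
      have hpow : ∀ r : ℕ, g ^ r * b * (g ^ r)⁻¹ = b * c' ^ r := by
        intro r
        induction r with
        | zero => simp
        | succ r ih =>
          have hcr : g * c' ^ r * g⁻¹ = c' ^ r := by
            rw [← conj_pow, hgc']
          calc g ^ (r + 1) * b * (g ^ (r + 1))⁻¹
              = g * (g ^ r * b * (g ^ r)⁻¹) * g⁻¹ := by rw [pow_succ']; group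
            _ = g * (b * c' ^ r) * g⁻¹ := by rw [ih]
            _ = (g * b * g⁻¹) * (g * c' ^ r * g⁻¹) := by group
            _ = b * c' * c' ^ r := by rw [hgb', hcr]
            _ = b * c' ^ (r + 1) := by rw [pow_succ']; group
      have h5 := hpow k
      rw [hgk] at h5
      have h6 : c' ^ k = 1 := by
        have h7 : b = b * c' ^ k := by simpa using h5
        calc c' ^ k = b⁻¹ * (b * c' ^ k) := by group
          _ = b⁻¹ * b := by rw [← h7]
          _ = 1 := by group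
      have hc'T : c' ∈ T := hCT hc'
      obtain ⟨s, hs⟩ := (IsPGroup.iff_orderOf.mp hT2) ⟨c', hc'T⟩
      have hs' : orderOf c' = 2 ^ s := by rw [← hs, Subgroup.orderOf_mk]
      have hd : orderOf c' ∣ k := orderOf_dvd_of_pow_eq_one h6
      have hc'1 : c' = 1 := by
        rw [hs'] at hd
        rcases Nat.eq_zero_or_pos s with h0 | h0
        · rw [h0, pow_zero] at hs'; exact orderOf_eq_one_iff.mp hs'
        · exfalso
          have h2k : 2 ∣ k := dvd_trans (dvd_pow_self 2 h0.ne') hd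
          obtain ⟨t, ht⟩ := hk
          omega
      rw [hgb', hc'1, mul_one]
    intro q hq
    rcases hdec b hbQ hbA q hq with h | h
    · exact hcen q h
    · calc g * q * g⁻¹ = (g * b * g⁻¹) * (g * (b⁻¹ * q) * g⁻¹) := by group
        _ = b * (b⁻¹ * q) := by rw [hgb, hcen _ h]
        _ = q := by group
  -- generator of C
  obtain ⟨c₀', hc₀'⟩ := hCc.exists_generator
  obtain ⟨i, hidef⟩ : ∃ i : G, i = (c₀' : G) := ⟨_, rfl⟩
  have hiC : i ∈ Q ⊓ A := by rw [hidef]; exact c₀'.2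
  have hCi : ∀ c ∈ Q ⊓ A, c ∈ Subgroup.zpowers i := by
    intro c hc
    obtain ⟨r, hr⟩ := Subgroup.mem_zpowers_iff.mp (hc₀' ⟨c, hc⟩)
    rw [Subgroup.mem_zpowers_iff]
    refine ⟨r, ?_⟩
    have := congrArg Subtype.val hr
    rw [hidef]
    simpa using this
  obtain ⟨j, hjdef⟩ : ∃ j : G, j = g * i * g⁻¹ := ⟨_, rfl⟩
  have hjC : j ∉ Q ⊓ A := by
    intro hmem
    apply hCnc
    apply tool g (Q ⊓ A) hgk hCT hCc
    intro c hc
    obtain ⟨r, rfl⟩ := Subgroup.mem_zpowers_iff.mp (hCi c hc)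
    have : g * i ^ r * g⁻¹ = j ^ r := by rw [hjdef, conj_zpow]
    rw [this]
    exact (Q ⊓ A).zpow_mem hmem r
  have hjQ : j ∈ Q := by rw [hjdef]; exact hgQ i hiC.1
  have hjA : j ∉ A := fun h => hjC ⟨hjQ, h⟩
  have hjj : j * j = z₀ := hT.hsq j (hQT hjQ) hjA
  have hjj' : j * j = g * (i * i) * g⁻¹ := by rw [hjdef]; group
  have hii4 : (i * i) * (i * i) = 1 := by
    have h1 : (j * j) * (j * j) = 1 := by rw [hjj, hT.hzz]
    rw [hjj'] at h1
    have h2 : g * ((i * i) * (i * i)) * g⁻¹ = 1 := by rw [← h1]; group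
    calc (i * i) * (i * i) = g⁻¹ * (g * ((i * i) * (i * i)) * g⁻¹) * g := by group
      _ = 1 := by rw [h2]; group
  have hii1 : i * i ≠ 1 := by
    intro h
    rw [h] at hjj'
    have h1 : j * j = 1 := by rw [hjj']; group
    rw [hjj] at h1
    exact hT.hz1 h1
  have hiiz : i * i = z₀ := by
    rcases hT.huniq (i * i) (A.mul_mem hiC.2 hiC.2) hii4 with h | h
    · exact absurd h hii1
    · exact h
  have hi4' : i ^ 4 = 1 := by
    calc i ^ 4 = (i * i) * (i * i) := by simp only [pow_succ, pow_zero, one_mul, mul_assoc]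
      _ = 1 := hii4
  have hi4 : orderOf i = 4 := by
    apply orderOf_eq_of_pow_and_pow_div_prime (by norm_num) hi4'
    intro p hp hdvd
    have hp2 : p = 2 := by
      have : p ∣ 2 ^ 2 := by simpa using hdvd
      exact (Nat.prime_dvd_prime_iff_eq hp Nat.prime_two).mp (hp.dvd_of_dvd_pow this)
    subst hp2
    intro hcon
    apply hii1
    have h42 : (4 / 2 : ℕ) = 2 := by norm_num
    rw [h42, pow_two] at hcon
    exact hcon
  have hji : j * i * j⁻¹ = i⁻¹ := hT.hinv j (hQT hjQ) hjA i hiC.2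
  -- the image of j
  have hlQ : g * j * g⁻¹ ∈ Q := hgQ j hjQ
  have hcancel : g * j * g⁻¹ ≠ j := by
    intro h
    have h1 : g * j * g⁻¹ = g * i * g⁻¹ := h.trans hjdef
    have h2 : j = i := mul_left_cancel (mul_right_cancel h1)
    exact hjC (h2 ▸ hiC)
  have hlC : g * j * g⁻¹ ∉ Q ⊓ A := by
    intro hmem
    have h2 : ∀ c ∈ Q ⊓ A, (g * g) * c * (g * g)⁻¹ ∈ Q ⊓ A := by
      intro c hc
      obtain ⟨r, rfl⟩ := Subgroup.mem_zpowers_iff.mp (hCi c hc)
      have : (g * g) * i ^ r * (g * g)⁻¹ = (g * j * g⁻¹) ^ r := by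
        rw [conj_zpow, hjdef, conj_zpow]
        simp only [mul_inv_rev, mul_assoc]
      rw [this]
      exact (Q ⊓ A).zpow_mem hmem r
    have hggk : (g * g) ^ k = 1 := by
      rw [← pow_two, ← pow_mul, mul_comm, pow_mul, hgk, one_pow]
    have h3 := tool (g * g) (Q ⊓ A) hggk hCT hCc h2 i hiC
    obtain ⟨t, ht⟩ := hk
    have hg : g = (g * g) ^ (t + 1) := by
      calc g = g ^ (k + 1) := by rw [pow_succ, hgk, one_mul]
        _ = (g * g) ^ (t + 1) := by rw [ht, ← pow_two, ← pow_mul]; congr 1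
    have h4 : ∀ r : ℕ, (g * g) ^ r * i * ((g * g) ^ r)⁻¹ = i := by
      intro r
      induction r with
      | zero => simp
      | succ r ih =>
        calc (g * g) ^ (r + 1) * i * ((g * g) ^ (r + 1))⁻¹
            = (g * g) * ((g * g) ^ r * i * ((g * g) ^ r)⁻¹) * (g * g)⁻¹ := by
              rw [pow_succ', mul_inv_rev]; simp only [mul_assoc]
          _ = i := by rw [ih, h3]
    have h5 : g * i * g⁻¹ = i := by
      have h6 := h4 (t + 1)
      rw [← hg] at h6
      exact h6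
    apply hjC
    rw [hjdef, h5]
    exact hiC
  have hjl : j⁻¹ * (g * j * g⁻¹) ∈ Q ⊓ A := by
    rcases hdec j hjQ hjA _ hlQ with h | h
    · exact absurd h hlC
    · exact h
  have hfin : IsOfFinOrder i := orderOf_pos_iff.mp (by rw [hi4]; norm_num)
  obtain ⟨nn, hnn⟩ : ∃ nn : ℕ, i ^ nn = j⁻¹ * (g * j * g⁻¹) := by
    have := hCi _ hjl
    rw [← hfin.mem_powers_iff_mem_zpowers] at this
    exact (Submonoid.mem_powers_iff _ _).mp this
  have hmod : i ^ nn = i ^ (nn % 4) := by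
    rw [← hi4]; exact (pow_mod_orderOf i nn).symm
  have hl : g * j * g⁻¹ = j * i ^ (nn % 4) := by
    rw [← hmod, hnn]; group
  have hlt : nn % 4 < 4 := Nat.mod_lt _ (by norm_num)
  have hopt : g * j * g⁻¹ = i * j ∨ g * j * g⁻¹ = j * i := by
    obtain ⟨s, hs⟩ : ∃ s, s = nn % 4 := ⟨_, rfl⟩
    rw [← hs] at hl hlt
    interval_cases s
    · exfalso
      rw [pow_zero, mul_one] at hl
      exact hcancel hl
    · right; rw [hl, pow_one]
    · exfalso
      -- g maps ⟨j⟩ into itself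
      have hB : ∀ x ∈ Subgroup.zpowers j, g * x * g⁻¹ ∈ Subgroup.zpowers j := by
        intro x hx
        obtain ⟨r, rfl⟩ := Subgroup.mem_zpowers_iff.mp hx
        have : g * j ^ r * g⁻¹ = (g * j * g⁻¹) ^ r := by rw [conj_zpow]
        rw [this, hl]
        apply Subgroup.zpow_mem
        apply Subgroup.mul_mem _ (Subgroup.mem_zpowers j)
        have : i ^ 2 = j * j := by rw [pow_two, hiiz, hjj]
        rw [this]
        exact Subgroup.mul_mem _ (Subgroup.mem_zpowers j) (Subgroup.mem_zpowers j)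
      have hBT : Subgroup.zpowers j ≤ T := Subgroup.zpowers_le.mpr (hQT hjQ)
      have h3 := tool g (Subgroup.zpowers j) hgk hBT inferInstance hB j (Subgroup.mem_zpowers j)
      exact hcancel h3
    · left
      rw [hl]
      have h3 : i ^ 3 = i⁻¹ := by
        calc i ^ 3 = i ^ 4 * i⁻¹ := by rw [pow_succ i 3]; group
          _ = i⁻¹ := by rw [hi4', one_mul]
      rw [h3]
      calc j * i⁻¹ = (j * i * j⁻¹)⁻¹ * j := by group
        _ = i * j := by rw [hji, inv_inv]
  rcases hopt with h | h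
  · exact ⟨i, j, hi4, hjj.trans hiiz.symm, hji, hjdef.symm, h⟩
  · refine ⟨i⁻¹, j⁻¹, by rw [orderOf_inv]; exact hi4, ?_, ?_, ?_, ?_⟩
    · rw [← mul_inv_rev, ← mul_inv_rev, hjj, hiiz]
    · rw [inv_inv, inv_inv]
      calc j⁻¹ * i⁻¹ * j = j⁻¹ * (j * i * j⁻¹) * j := by rw [hji]
        _ = i := by group
    · rw [hjdef]; group
    · calc g * j⁻¹ * g⁻¹ = (g * j * g⁻¹)⁻¹ := by group
        _ = i⁻¹ * j⁻¹ := by rw [h, mul_inv_rev]

theorem result {G : Type*} [Group G] [Finite G] (T : Sylow 2 G) (n : ℕ) (hn : 1 ≤ n) (hT : Nonempty ((T : Subgroup G) ≃* QuaternionGroup (2 ^ n))) : Cfsg.HasNormalPComplement 2 G ∨ ∃ (H K : Subgroup G) (hK : (K.subgroupOf H).Normal), Nonempty ((H ⧸ K.subgroupOf H) ≃* Matrix.SpecialLinearGroup (Fin 2) (ZMod 3)) := by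
  have : Fact (Nat.Prime 2) := ⟨Nat.prime_two⟩
  by_cases hfr : ∀ Q : Subgroup G, Q ≤ (T : Subgroup G) →
      ∀ g ∈ Subgroup.normalizer (Q : Set G), Nat.Coprime (orderOf g) 2 →
        g ∈ Subgroup.centralizer (Q : Set G)
  · left
    obtain ⟨N, hN, hc⟩ := (Cfsg.Agent.S0071.result T).mpr hfr
    exact ⟨T, N, hN, hc⟩
  · right
    push Not at hfr
    obtain ⟨Q, hQT, g, hgN, hcop, hgC⟩ := hfr
    have hne : NeZero (2 ^ n) := ⟨by positivity⟩
    obtain ⟨e⟩ := hT
    obtain ⟨A, z₀, hql⟩ := quatLike_of_equiv (T : Subgroup G) e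
    have hT2 : IsPGroup 2 (T : Subgroup G) := T.isPGroup'
    have hk : Odd (orderOf g) := Nat.coprime_two_right.mp hcop
    obtain ⟨i, j, h1, h2, h3, h4, h5⟩ := exists_triple_of_quatLike hql hT2 Q hQT g hgN
      (orderOf g) hk (pow_orderOf_eq_one g) hgC
    exact exists_section_SL23 i j g h1 h2 h3 h4 h5 (orderOf g) hk (pow_orderOf_eq_one g)

end Cfsg.Agent.S0106
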