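import Cfsg.Statements.S0110
import Cfsg.Agent.Lib.Helper03.HomCount

set_option autoImplicit false
open Cfsg

namespace Cfsg.Agent.S0110

open Cfsg.Agent.Lib.Helper03
open scoped commutatorElement

open scoped IsMulCommutative in
/-- In a p-group G, an extraspecial subgroup E with [G, E] ≤ Z(E) satisfies G = E C_G(E). -/
theorem result {G : Type*} [Group G] [Finite G] {p : ℕ} [Fact p.Prime] (hG : IsPGroup p G) (E : Subgroup G) (hE : Cfsg.IsExtraspecial p E) (h : ⁅(⊤ : Subgroup G), E⁆ ≤ E ⊓ Subgroup.centralizer (E : Set G)) : E ⊔ Subgroup.centralizer (E : Set G) = ⊤ := by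
  obtain ⟨⟨hPE, hfr, hcomm⟩, hcardZ⟩ := hE
  set C := Subgroup.centralizer (E : Set G) with hC
  set Zs : Subgroup G := E ⊓ C with hZs
  have hcomm_mem : ∀ (g : G) (e : G), e ∈ E → ⁅g, e⁆ ∈ Zs := fun g e he =>
    h (Subgroup.commutator_mem_commutator (Subgroup.mem_top g) he)
  have hEn : E.Normal := ⟨fun e he g => by
    have : g * e * g⁻¹ = ⁅g, e⁆ * e := by rw [commutatorElement_def]; group
    rw [this]; exact mul_mem (Subgroup.mem_inf.mp (hcomm_mem g e he)).1 he⟩
  have hcenter : Subgroup.center E = Zs.subgroupOf E := by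
    ext x
    rw [Subgroup.mem_center_iff, Subgroup.mem_subgroupOf]
    constructor
    · intro hx
      refine Subgroup.mem_inf.mpr ⟨x.2, ?_⟩
      rw [Subgroup.mem_centralizer_iff]
      intro y hy
      exact congrArg Subtype.val (hx ⟨y, hy⟩)
    · intro hx y
      apply Subtype.ext
      exact (Subgroup.mem_centralizer_iff.mp (Subgroup.mem_inf.mp hx).2) y y.2
  have hcardZs : Nat.card Zs = p := by
    rw [← hcardZ, hcenter]
    exact (Nat.card_congr (Subgroup.subgroupOfEquivOfLe (inf_le_left : Zs ≤ E)).toEquiv).symm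
  have hcyc : IsCyclic Zs := isCyclic_of_prime_card hcardZs
  have hcommZ : IsMulCommutative Zs := hcyc.isMulCommutative
  let F : G → (E →* Zs) := fun g =>
    { toFun := fun e => ⟨⁅g, (e : G)⁆, hcomm_mem g e e.2⟩
      map_one' := by
        apply Subtype.ext
        simp
      map_mul' := by
        intro a b
        apply Subtype.ext
        have hb : ⁅g, (b : G)⁆ ∈ C := (Subgroup.mem_inf.mp (hcomm_mem g b b.2)).2
        have hab : (a : G) * ⁅g, (b : G)⁆ = ⁅g, (b : G)⁆ * a :=
          (Subgroup.mem_centralizer_iff.mp hb) a a.2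
        show ⁅g, (a : G) * (b : G)⁆ = ⁅g, (a : G)⁆ * ⁅g, (b : G)⁆
        calc ⁅g, (a : G) * (b : G)⁆ = ⁅g, (a : G)⁆ * ((a : G) * ⁅g, (b : G)⁆) * (a : G)⁻¹ := by
              simp only [commutatorElement_def]; group
          _ = ⁅g, (a : G)⁆ * ⁅g, (b : G)⁆ := by rw [hab]; group }
  have hFinj : ∀ g k : G, F g = F k → g⁻¹ * k ∈ C := by
    intro g k hgk
    rw [Subgroup.mem_centralizer_iff]
    intro e he
    have h1 := congrArg Subtype.val (DFunLike.congr_fun hgk ⟨e, he⟩)
    have h2 : ⁅g, e⁆ = ⁅k, e⁆ := h1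
    rw [commutatorElement_def, commutatorElement_def] at h2
    have h3 : g * e * g⁻¹ = k * e * k⁻¹ := by
      have := congrArg (· * e) h2
      simpa using this
    calc e * (g⁻¹ * k) = g⁻¹ * (g * e * g⁻¹) * k := by group
      _ = g⁻¹ * (k * e * k⁻¹) * k := by rw [h3]
      _ = g⁻¹ * k * e := by group
  have hfin : Finite (E →* Zs) := Finite.of_injective (fun f => (f : E → Zs)) DFunLike.coe_injective
  have hidx : C.index ≤ Nat.card (E →* Zs) := by
    let f : G ⧸ C → (E →* Zs) := fun q => F q.out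
    have hf : Function.Injective f := by
      intro q q' hqq'
      have := hFinj _ _ hqq'
      rw [← QuotientGroup.eq, QuotientGroup.out_eq', QuotientGroup.out_eq'] at this
      exact this
    exact Nat.card_le_card_of_injective f hf
  have hhom := card_monoidHom_le_index_commutator E Zs
  rw [hcomm, hcenter] at hhom
  have h1 : (Zs.subgroupOf E).index = C.relIndex E := by
    show Zs.relIndex E = C.relIndex E
    rw [hZs, Subgroup.inf_relIndex_left]
  have hCn : C.Normal := Subgroup.normal_centralizer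
  have h2 : C.relIndex (E ⊔ C) = C.relIndex E := Subgroup.relIndex_sup_right E C
  have h3 : C.relIndex (E ⊔ C) * (E ⊔ C).index = C.index := Subgroup.relIndex_mul_index le_sup_right
  have h4 : C.index ≤ C.relIndex (E ⊔ C) := by
    rw [h2, ← h1]; exact le_trans hidx hhom
  have hpos : 0 < C.relIndex (E ⊔ C) := by
    apply Nat.pos_of_ne_zero
    show (C.subgroupOf (E ⊔ C)).index ≠ 0
    exact Subgroup.index_ne_zero_of_finite
  have h5 : (E ⊔ C).index ≤ 1 := by
    by_contra hlt
    push Not at hlt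
    have : C.relIndex (E ⊔ C) * 2 ≤ C.relIndex (E ⊔ C) * (E ⊔ C).index :=
      Nat.mul_le_mul_left _ hlt
    omega
  have hpos' : 0 < (E ⊔ C).index := Nat.pos_of_ne_zero (Subgroup.index_ne_zero_of_finite)
  exact Subgroup.index_eq_one.mp (by omega)

end Cfsg.Agent.S0110
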