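import Cfsg.Statements.S0113
import Cfsg.Agent.Lib.Helper78.MaxClass2Nilpotent
import Mathlib

set_option autoImplicit false
open Cfsg

namespace Cfsg.Agent.S0113

theorem result {X : Type*} [Group X] [Finite X] (n : ℕ) (hn : 3 ≤ n) (hX : Nat.card X = 2 ^ n) (hc : Group.nilpotencyClass X = n - 1) : ∃ C : Subgroup X, IsCyclic C ∧ C.index = 2 := by
  have h4 := Cfsg.Agent.Lib.Helper78.index_commutator_of_maximal_class n X hn hX hc
  have hXp : IsPGroup 2 X := IsPGroup.of_card hX
  have h8 : 8 ≤ Nat.card X := by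
    rw [hX]
    calc 8 = 2 ^ 3 := by norm_num
      _ ≤ 2 ^ n := Nat.pow_le_pow_right two_pos hn
  exact Cfsg.Agent.Lib.Helper78.exists_cyclic_index_two hXp h4 h8

end Cfsg.Agent.S0113
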