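import Cfsg.Statements.S0114
import Cfsg.Agent.Lib.Helper78.MaxClass2Nilpotent
import Cfsg.Agent.Lib.Helper78.MaxClass2Recognition
import Mathlib

set_option autoImplicit false
open Cfsg
open scoped commutatorElement

namespace Cfsg.Agent.S0114

open Cfsg.Agent.Lib.Helper78

theorem result {X : Type*} [Group X] [Finite X] (n : ℕ) (hn : 3 ≤ n) (hX : Nat.card X = 2 ^ n) (hc : Group.nilpotencyClass X = n - 1) : Nonempty (X ⧸ Subgroup.center X ≃* DihedralGroup (2 ^ (n - 2))) := by
  have h4 := index_commutator_of_maximal_class n X hn hX hc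
  have hXp : IsPGroup 2 X := IsPGroup.of_card hX
  have h8 : 8 ≤ Nat.card X := by
    rw [hX]
    calc 8 = 2 ^ 3 := by norm_num
      _ ≤ 2 ^ n := Nat.pow_le_pow_right two_pos hn
  obtain ⟨a, b, z, horda, hb, hidx, hzdef, hordz, hcenter, hconj, hsq⟩ :=
    structure_of_index_four hXp h4 n hn hX
  have hcardZ := card_center_eq_two hXp h4 h8
  -- the centre lies in ⟨a⟩
  have hZle : Subgroup.center X ≤ Subgroup.zpowers a := by
    intro x hx
    rcases (hcenter x).mp hx with h | h
    · rw [h]; exact Subgroup.one_mem _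
    · rw [h, hzdef]; exact Subgroup.pow_mem _ (Subgroup.mem_zpowers a) _
  have hzZ : z ∈ Subgroup.center X := (hcenter z).mpr (Or.inr rfl)
  set π : X →* X ⧸ Subgroup.center X := QuotientGroup.mk' (Subgroup.center X) with hπ
  have hπs : Function.Surjective π := QuotientGroup.mk'_surjective _
  have hker : π.ker = Subgroup.center X := QuotientGroup.ker_mk' _
  have hπ1 : ∀ x : X, x ∈ Subgroup.center X → π x = 1 := by
    intro x hx
    have : x ∈ π.ker := by rw [hker]; exact hx
    exact MonoidHom.mem_ker.mp this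
  have hmap : Subgroup.zpowers (π a) = (Subgroup.zpowers a).map π := by
    rw [MonoidHom.map_zpowers]
  have hidx' : (Subgroup.zpowers (π a)).index = 2 := by
    rw [hmap, Subgroup.index_map_eq _ hπs (by rw [hker]; exact hZle)]
    exact hidx
  have hb' : π b ∉ Subgroup.zpowers (π a) := by
    intro hmem
    rw [hmap] at hmem
    obtain ⟨c, hc, hcb⟩ := Subgroup.mem_map.mp hmem
    apply hb
    have h1 : c⁻¹ * b ∈ π.ker := by
      rw [MonoidHom.mem_ker, map_mul, map_inv, hcb]; group
    rw [hker] at h1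
    have h2 : b = c * (c⁻¹ * b) := by group
    rw [h2]
    exact Subgroup.mul_mem _ hc (hZle h1)
  have hbb' : π b * π b = 1 := by
    rw [← map_mul]
    apply hπ1
    rw [hcenter]; exact hsq
  have hbab' : π b * π a * (π b)⁻¹ = (π a)⁻¹ := by
    rw [← map_mul, ← map_inv, ← map_mul, ← map_inv]
    rcases hconj with h | h
    · rw [h]
    · rw [h, map_mul, hπ1 z hzZ, mul_one]
  have hres := nonempty_equiv_dihedral (π a) (π b) hidx' hb' hbb' hbab'
  -- order of π a
  have hcardQ : Nat.card (X ⧸ Subgroup.center X) * 2 = 2 ^ n := by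
    have := Subgroup.card_eq_card_quotient_mul_card_subgroup (Subgroup.center X)
    rw [hX, hcardZ] at this
    exact this.symm
  have hcardQ2 : Nat.card (Subgroup.zpowers (π a)) * 2 = Nat.card (X ⧸ Subgroup.center X) := by
    rw [← hidx']; exact Subgroup.card_mul_index _
  have hord : orderOf (π a) = 2 ^ (n - 2) := by
    rw [← Nat.card_zpowers]
    have h3 : (2:ℕ) ^ n = 2 ^ (n - 2) * 2 * 2 := by
      rw [mul_assoc, ← pow_two, ← pow_add]; congr 1; omega
    rw [← hcardQ2, h3] at hcardQ
    have := Nat.eq_of_mul_eq_mul_right (by norm_num : 0 < 2) hcardQ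
    exact Nat.eq_of_mul_eq_mul_right (by norm_num : 0 < 2) this
  rw [hord] at hres
  exact hres

end Cfsg.Agent.S0114
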