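import Cfsg.Statements.S0115
import Cfsg.Agent.Lib.Helper78.MaxClass2Nilpotent
import Cfsg.Agent.Lib.Helper78.MaxClass2Structure
import Mathlib

set_option autoImplicit false
open Cfsg
open scoped commutatorElement

namespace Cfsg.Agent.S0115

open Cfsg.Agent.Lib.Helper78

lemma sq_eq_one_of_index_four {X : Type*} [Group X] [Finite X] (n : ℕ) (hn : 3 ≤ n)
    (hX : Nat.card X = 2 ^ n) (h4 : (commutator X).index = 4) :
    ∀ q : X ⧸ commutator X, q ^ 2 = 1 := by
  have hXp : IsPGroup 2 X := IsPGroup.of_card hX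
  have h8 : 8 ≤ Nat.card X := by
    rw [hX]
    calc 8 = 2 ^ 3 := by norm_num
      _ ≤ 2 ^ n := Nat.pow_le_pow_right two_pos hn
  obtain ⟨a, b, z, horda, hb, hidx, hzdef, hordz, hcenter, hconj, hsq⟩ :=
    structure_of_index_four hXp h4 n hn hX
  have hZle := center_le_commutator hXp h4 h8
  have hcomm : ∀ p q : X ⧸ commutator X, p * q = q * p := by
    intro p q
    obtain ⟨x, rfl⟩ := QuotientGroup.mk_surjective p
    obtain ⟨y, rfl⟩ := QuotientGroup.mk_surjective q
    rw [← QuotientGroup.mk_mul, ← QuotientGroup.mk_mul, QuotientGroup.eq]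
    have e : (x * y)⁻¹ * (y * x) = ⁅y⁻¹, x⁻¹⁆ := by
      rw [commutatorElement_def]; group
    rw [e, commutator_def]
    exact Subgroup.commutator_mem_commutator (Subgroup.mem_top _) (Subgroup.mem_top _)
  have hmk1 : ∀ x : X, x ∈ commutator X → (QuotientGroup.mk x : X ⧸ commutator X) = 1 := by
    intro x hx
    exact (QuotientGroup.eq_one_iff x).mpr hx
  -- a * a ∈ X'
  have haa : a * a ∈ commutator X := by
    have ht : a * (b * a * b⁻¹) ∈ Subgroup.center X := by
      rw [hcenter]
      rcases hconj with h | h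
      · left; rw [h]; group
      · right; rw [h]; group
    have e : a * a = (a * (b * a * b⁻¹)) * ⁅b, a⁻¹⁆ := by
      rw [commutatorElement_def]; group
    rw [e]
    apply Subgroup.mul_mem _ (hZle ht)
    rw [commutator_def]
    exact Subgroup.commutator_mem_commutator (Subgroup.mem_top _) (Subgroup.mem_top _)
  have hbb : b * b ∈ commutator X := by
    apply hZle
    rw [hcenter]; exact hsq
  have ha2 : (QuotientGroup.mk a : X ⧸ commutator X) ^ 2 = 1 := by
    rw [pow_two, ← QuotientGroup.mk_mul]; exact hmk1 _ haa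
  have hb2 : (QuotientGroup.mk b : X ⧸ commutator X) ^ 2 = 1 := by
    rw [pow_two, ← QuotientGroup.mk_mul]; exact hmk1 _ hbb
  have hc2 : ∀ c ∈ Subgroup.zpowers a, (QuotientGroup.mk c : X ⧸ commutator X) ^ 2 = 1 := by
    intro c hc
    obtain ⟨k, rfl⟩ := Subgroup.mem_zpowers_iff.mp hc
    rw [QuotientGroup.mk_zpow, ← zpow_natCast, ← zpow_mul, mul_comm, zpow_mul, zpow_natCast, ha2,
      one_zpow]
  intro q
  obtain ⟨x, rfl⟩ := QuotientGroup.mk_surjective q
  rcases mem_or_inv_mul_mem _ hidx b hb x with hx | hx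
  · exact hc2 x hx
  · have : x = b * (b⁻¹ * x) := by group
    rw [this, QuotientGroup.mk_mul]
    have hcm : Commute (QuotientGroup.mk b : X ⧸ commutator X) (QuotientGroup.mk (b⁻¹ * x)) :=
      hcomm _ _
    rw [hcm.mul_pow, hb2, hc2 _ hx, one_mul]

theorem result {X : Type*} [Group X] [Finite X] (n : ℕ) (hn : 3 ≤ n) (hX : Nat.card X = 2 ^ n) : Group.nilpotencyClass X = n - 1 ↔ IsKleinFour (X ⧸ commutator X) := by
  constructor
  · intro hc
    have h4 := index_commutator_of_maximal_class n X hn hX hc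
    have hcard : Nat.card (X ⧸ commutator X) = 4 := by
      rw [← Subgroup.index_eq_card]; exact h4
    refine ⟨hcard, ?_⟩
    have hsq := sq_eq_one_of_index_four n hn hX h4
    have hdvd : Monoid.exponent (X ⧸ commutator X) ∣ 2 :=
      Monoid.exponent_dvd_of_forall_pow_eq_one hsq
    rcases (Nat.dvd_prime Nat.prime_two).mp hdvd with h | h
    · exfalso
      rw [Monoid.exp_eq_one_iff] at h
      have := Nat.card_eq_one_iff_unique.mpr ⟨h, ⟨1⟩⟩
      omega
    · exact h
  · intro hK
    have h4 : (commutator X).index = 4 := by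
      rw [Subgroup.index_eq_card]; exact hK.card_four
    exact nilpotencyClass_of_index_four n X hn hX h4

end Cfsg.Agent.S0115
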