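import Cfsg.Statements.S2005
import Cfsg.Agent.Lib.Helper53.NpcFunctor
import Cfsg.Agent.Lib.Helper90.Involves
import Cfsg.Agent.Lib.Helper15.Cores

set_option autoImplicit false
universe u
open Cfsg
open Cfsg.Agent.Lib.Helper53 Cfsg.Agent.Lib.Helper97

namespace Cfsg.Agent.S2005

/-- Thompson's normal p-complement criterion in functor form. Let p be a prime, G a finite group with Sylow p-subgroup S, and W an isomorphism-invariant p-group functor (W assigns to every group Q a subgroup W(Q), nontrivial whenever Q is a nontrivial finite p-group, and every isomorphism from a finite p-group Q onto a group R carries W(Q) onto W(R)). Suppose N_G(W(S)) has a normal p-complement, and that W(S*) is normal in G* whenever G* = K/R is a section of G with C_{G*}(O_p(G*)) ≤ O_p(G*) such that G*/O_p(G*) has a normal p-complement, and S* is a Sylow p-subgroup of G* that is a maximal subgroup of G*. Then G has a normal p-complement. -/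
theorem result {G : Type u} [Group G] [Finite G] {p : ℕ} [Fact p.Prime] (W : ∀ (Q : Type u) [Group Q], Subgroup Q) (hW : Cfsg.IsCharPFunctor.{u} p W) (S : Sylow p G) (hN : Cfsg.HasNormalPComplement p ↥(Subgroup.normalizer ((Cfsg.inducedFunctor (G := G) W (S : Subgroup G) : Subgroup G) : Set G))) (hloc : ∀ (K R : Subgroup G) [hR : (R.subgroupOf K).Normal], Subgroup.centralizer ((Cfsg.pCore p (↥K ⧸ R.subgroupOf K) : Subgroup (↥K ⧸ R.subgroupOf K)) : Set (↥K ⧸ R.subgroupOf K)) ≤ Cfsg.pCore p (↥K ⧸ R.subgroupOf K) → Cfsg.HasNormalPComplement p ((↥K ⧸ R.subgroupOf K) ⧸ Cfsg.pCore p (↥K ⧸ R.subgroupOf K)) → ∀ T : Sylow p (↥K ⧸ R.subgroupOf K), IsCoatom (T : Subgroup (↥K ⧸ R.subgroupOf K)) → (Cfsg.inducedFunctor (G := (↥K ⧸ R.subgroupOf K)) W ((T : Subgroup (↥K ⧸ R.subgroupOf K)))).Normal) : Cfsg.HasNormalPComplement p G := by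
  classical
  -- the iso-invariant form of the local hypothesis
  have hloc' : ∀ (H : Type u) [Group H] [Finite H], Cfsg.Involves H G →
      Subgroup.centralizer ((Cfsg.pCore p H : Subgroup H) : Set H) ≤ Cfsg.pCore p H →
      Cfsg.HasNormalPComplement p (H ⧸ Cfsg.pCore p H) →
      ∀ T : Sylow p H, IsCoatom (T : Subgroup H) →
        (Cfsg.inducedFunctor (G := H) W (T : Subgroup H)).Normal := by
    intro H _ _ hinv hc hq T hT
    obtain ⟨K, R, hR, ⟨e⟩⟩ := hinv
    have hmapcore : (Cfsg.pCore p (↥K ⧸ R.subgroupOf K)).map e.toMonoidHom = Cfsg.pCore p H :=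
      Cfsg.Agent.Lib.Helper15.pCore_map_equiv p e
    have c1 : Subgroup.centralizer ((Cfsg.pCore p (↥K ⧸ R.subgroupOf K) :
        Subgroup (↥K ⧸ R.subgroupOf K)) : Set (↥K ⧸ R.subgroupOf K)) ≤
        Cfsg.pCore p (↥K ⧸ R.subgroupOf K) := by
      intro x hx
      have h1 : e x ∈ Subgroup.centralizer ((Cfsg.pCore p H : Subgroup H) : Set H) := by
        rw [Subgroup.mem_centralizer_iff]
        intro y hy
        rw [← hmapcore] at hy
        obtain ⟨z, hz, rfl⟩ := hy
        have := Subgroup.mem_centralizer_iff.mp hx z hz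
        show e z * e x = e x * e z
        rw [← map_mul, ← map_mul, this]
      have h2 := hc h1
      rw [← hmapcore] at h2
      obtain ⟨z, hz, hzx⟩ := h2
      have : z = x := e.injective hzx
      rw [← this]; exact hz
    haveI hn1 : (Cfsg.pCore p (↥K ⧸ R.subgroupOf K)).Normal :=
      Cfsg.Agent.Lib.Helper81.pCore_normal p
    haveI hn2 : (Cfsg.pCore p H).Normal := Cfsg.Agent.Lib.Helper81.pCore_normal p
    have c2 : Cfsg.HasNormalPComplement p ((↥K ⧸ R.subgroupOf K) ⧸
        Cfsg.pCore p (↥K ⧸ R.subgroupOf K)) := by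
      let ε : ((↥K ⧸ R.subgroupOf K) ⧸ Cfsg.pCore p (↥K ⧸ R.subgroupOf K)) ≃*
          (H ⧸ Cfsg.pCore p H) :=
        QuotientGroup.congr (Cfsg.pCore p (↥K ⧸ R.subgroupOf K)) (Cfsg.pCore p H) e hmapcore
      exact pn_of_injective ε.toMonoidHom ε.injective hq
    let T' : Sylow p (↥K ⧸ R.subgroupOf K) :=
      T.mapSurjective (f := e.symm.toMonoidHom) e.symm.surjective
    have hT'coe : (T' : Subgroup (↥K ⧸ R.subgroupOf K)) =
        (T : Subgroup H).map e.symm.toMonoidHom :=
      Sylow.coe_mapSurjective _ _
    have c3 : IsCoatom (T' : Subgroup (↥K ⧸ R.subgroupOf K)) := by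
      rw [hT'coe]
      constructor
      · intro h
        apply hT.1
        have := congrArg (Subgroup.map e.toMonoidHom) h
        rw [Subgroup.map_map] at this
        have hid : e.toMonoidHom.comp e.symm.toMonoidHom = MonoidHom.id H := by
          ext x; simp
        rw [hid, Subgroup.map_id] at this
        rw [this, ← MonoidHom.range_eq_map, MonoidHom.range_eq_top]
        exact e.surjective
      · intro M hM
        have h1 : (T : Subgroup H) < M.map e.toMonoidHom := by
          have hle : (T : Subgroup H) ≤ M.map e.toMonoidHom := by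
            intro t ht
            refine ⟨e.symm t, hM.le ⟨t, ht, rfl⟩, by simp⟩
          refine lt_of_le_of_ne hle ?_
          intro heq
          apply hM.ne
          rw [heq, Subgroup.map_map]
          have hid : e.symm.toMonoidHom.comp e.toMonoidHom =
              MonoidHom.id (↥K ⧸ R.subgroupOf K) := by
            ext x; simp
          rw [hid, Subgroup.map_id]
        have h2 := hT.2 _ h1
        rw [eq_top_iff]
        intro x _
        have : e x ∈ M.map e.toMonoidHom := by rw [h2]; exact Subgroup.mem_top _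
        obtain ⟨y, hy, hyx⟩ := this
        have : y = x := e.injective hyx
        rw [← this]; exact hy
    have hnorm := @hloc K R hR c1 c2 T' c3
    rw [hT'coe, inducedFunctor_map hW e.symm.toMonoidHom (T : Subgroup H) T.2
      e.symm.injective.injOn] at hnorm
    have h3 := hnorm.map e.toMonoidHom e.surjective
    rw [Subgroup.map_map] at h3
    have hid : e.toMonoidHom.comp e.symm.toMonoidHom = MonoidHom.id H := by
      ext x; simp
    rwa [hid, Subgroup.map_id] at h3
  -- the generic reduction
  have hΦsub : ∀ {H G' : Type u} [Group H] [Group G'] (f : H →* G'), Function.Injective f →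
      Cfsg.Involves G' G → Cfsg.Involves H G := by
    intro H G' _ _ f hf h
    exact Cfsg.Agent.Lib.Helper90.Involves.of_injective_left f hf h
  have hΦquot : ∀ {G' H : Type u} [Group G'] [Group H] (f : G' →* H), Function.Surjective f →
      Cfsg.Involves G' G → Cfsg.Involves H G := by
    intro G' H _ _ f hf h
    obtain ⟨K, g, hg⟩ := Cfsg.Agent.Lib.Helper90.exists_hom_of_involves h
    exact Cfsg.Agent.Lib.Helper90.involves_of_hom K.subtype (f.comp g) K.subtype_injective
      (hf.comp hg)
  have hH : NpcHyp p (hyp2 p W W) (fun (H : Type u) [Group H] => Cfsg.Involves H G) :=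
    npcHyp_functor hW hW hΦsub hΦquot
  have hGG : Cfsg.Involves G G :=
    Cfsg.Agent.Lib.Helper90.involves_of_hom (MonoidHom.id G) (MonoidHom.id G)
      Function.injective_id Function.surjective_id
  refine hH.reduction ?_ (Nat.card G) G rfl hGG S
    ⟨hN, pn_of_le (Subgroup.centralizer_le_normalizer _) hN⟩
  intro G' _ _ hΦ IH P hP hA hOp hC hO hCH
  by_contra hG
  haveI := Cfsg.Agent.Lib.Helper81.pCore_normal (G := G') p
  have hHp : IsPGroup p (Cfsg.pCore p G') := Cfsg.Agent.Lib.Helper81.isPGroup_pCore p
  have hco := sylow_isCoatom hG hA (Cfsg.pCore p G') hHp hCH P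
  have hn := hloc' G' hΦ hCH hC P hco
  apply hG
  have h1 := hP.1
  rw [Subgroup.normalizer_eq_top_iff.mpr hn] at h1
  exact pn_top_iff.mp h1


end Cfsg.Agent.S2005
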