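import Cfsg.Statements.S3071
import Cfsg.Agent.Lib.Helper41.WV
import Cfsg.Agent.Lib.Helper41.SecTransport
import Cfsg.Agent.Lib.Helper57.KLQd
import Cfsg.Agent.Lib.Helper16.QdStable
import Cfsg.Agent.Lib.Helper54.QdFusionFwd
import Cfsg.Agent.Lib.Helper53.Qd
import Cfsg.Agent.Lib.Helper90.Involves

set_option autoImplicit false
open Cfsg
open Cfsg.Agent.Lib.Helper41 Cfsg.Agent.Lib.Helper16

namespace Cfsg.Agent.S3071

universe u

/-- a group injecting into `G` and surjecting onto `H` gives a section of `G` on the image -/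
theorem exists_section_of_hom {H : Type*} [Group H] {G : Type*} [Group G] {K : Type*} [Group K]
    (i : K →* G) (f : K →* H) (hi : Function.Injective i) (hf : Function.Surjective f) :
    ∃ (A B : Subgroup G) (_ : (B.subgroupOf A).Normal), A = i.range ∧
      Nonempty (A ⧸ B.subgroupOf A ≃* H) := by
  let e : K ≃* i.range := MonoidHom.ofInjective hi
  let f₀ : i.range →* H := f.comp e.symm.toMonoidHom
  have hf₀ : Function.Surjective f₀ := by
    intro h
    obtain ⟨k, rfl⟩ := hf h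
    exact ⟨e k, by simp [f₀]⟩
  have hker : (f₀.ker.map i.range.subtype).subgroupOf i.range = f₀.ker := by
    rw [Subgroup.subgroupOf]
    exact Subgroup.comap_map_eq_self_of_injective (Subgroup.subtype_injective _) _
  have hn : ((f₀.ker.map i.range.subtype).subgroupOf i.range).Normal := by
    rw [hker]; infer_instance
  exact ⟨i.range, f₀.ker.map i.range.subtype, hn, rfl,
    ⟨(QuotientGroup.quotientMulEquivOfEq hker).trans
      (QuotientGroup.quotientKerEquivOfSurjective f₀ hf₀)⟩⟩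

/-- `Qd(p)` involved implies `SL₂(p)` involved -/
theorem involves_sl2_of_involves_qd {p : ℕ} [Fact p.Prime] {Y : Type*} [Group Y]
    (h : Cfsg.Involves ↥(Cfsg.qd p) Y) :
    Cfsg.Involves (Matrix.SpecialLinearGroup (Fin 2) (ZMod p)) Y := by
  obtain ⟨K', f, hf⟩ := Cfsg.Agent.Lib.Helper90.exists_hom_of_involves h
  have hq : Function.Surjective (Cfsg.Agent.Lib.Helper53.qlin (F := ZMod p)) :=
    Cfsg.Agent.Lib.Helper53.qlin_surjective
  exact Cfsg.Agent.Lib.Helper90.involves_of_hom K'.subtype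
    ((Cfsg.Agent.Lib.Helper53.qlin (F := ZMod p)).comp f) K'.subtype_injective (hq.comp hf)

/-- control of strong fusion by `N(Z(J(D)))` in every `SL₂(p)`-free finite group -/
theorem ctlAll_of_sl2_free {p : ℕ} [Fact p.Prime] (hp : p ≠ 2) {X : Type u} [Group X] [Finite X]
    (hX : ¬ Cfsg.Involves (Matrix.SpecialLinearGroup (Fin 2) (ZMod p)) X) :
    Cfsg.Agent.Lib.Helper57.GT.CtlAll p
      (fun (Y : Type u) [Group Y] (U : Subgroup Y) => IsMulCommutative ↥U) X := by
  intro P D hD A g hA hgA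
  have h := Cfsg.Agent.Lib.Helper57.GT.ctl_of_free hp
    (Cfsg.Agent.Lib.Helper57.GT.goodFam_comm (p := p))
    (Matrix.SpecialLinearGroup (Fin 2) (ZMod p))
    (fun Y _ _ hY _ P' => Cfsg.Agent.Lib.Helper16.QdStable.stableFor_of_qd_free hp
      (fun hq => hY (involves_sl2_of_involves_qd hq)) (P' : Subgroup Y))
    hX P D hD A hA
  obtain ⟨y, hy, hya⟩ := h.2 g (by rintro _ ⟨a, ha, rfl⟩; exact hgA a ha)
  exact ⟨y, hy, fun a ha => (hya a ha).symm⟩

/-- in an `SL₂(p)`-free subgroup `M` with Sylow `p`-subgroup `R`, conjugations between subsets of `R`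
are realized in `N_M(Z(J(R)))` -/
theorem freach_of_free {G : Type u} [Group G] [Finite G] {p : ℕ} [Fact p.Prime] (hp : p ≠ 2)
    (M : Subgroup G) (hM : ¬ Cfsg.Involves (Matrix.SpecialLinearGroup (Fin 2) (ZMod p)) ↥M)
    (R : Subgroup G) (hRM : R ≤ M) (hRp : IsPGroup p R) (hidx : ¬ p ∣ R.relIndex M)
    (X : Set G) (a : G) (ha : a ∈ M) (hX : X ⊆ R) (haX : rconj a X ⊆ R) :
    FReach ((M ⊓ Subgroup.normalizer (Cfsg.centerThompsonAOf R : Set G) : Subgroup G) : Set G)
      R X a := by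
  have hctl := ctlAll_of_sl2_free hp hM
  obtain ⟨y, hy, hya⟩ := Cfsg.Agent.Lib.Helper57.GT.ctl_subgroup
    (Cfsg.Agent.Lib.Helper57.GT.goodFam_comm (p := p)) M hctl R hRM hRp hidx R
    ⟨le_rfl, fun x _ g hg => hg⟩ X hX a⁻¹ (M.inv_mem ha)
    (fun x hx => by
      have := haX ⟨x, hx, rfl⟩
      simpa using this)
  rw [← ZJ.centerThompsonAOf_eq_WW] at hy
  have hkey : ∀ x ∈ X, (y⁻¹)⁻¹ * x * y⁻¹ = a⁻¹ * x * a := by
    intro x hx
    have := hya x hx
    simpa using this
  refine (FReach.single (y := y⁻¹) (Subgroup.inv_mem _ hy) hX ?_).congr hkey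
  rintro _ ⟨x, hx, rfl⟩
  show (y⁻¹)⁻¹ * x * y⁻¹ ∈ (R : Set G)
  rw [hkey x hx]
  exact haX ⟨x, hx, rfl⟩

/-- the centre functor is a conjugacy functor -/
theorem isConjugacyFunctor_center {G : Type u} [Group G] [Finite G] (p : ℕ) [Fact p.Prime] :
    IsConjugacyFunctor p (fun T : Subgroup G => T ⊓ Subgroup.centralizer (T : Set G)) := by
  intro P hP
  refine ⟨inf_le_left, ?_, ?_⟩
  · intro hne
    haveI : Nontrivial ↥P := (Subgroup.nontrivial_iff_ne_bot P).mpr hne
    have hc : Nontrivial (Subgroup.center ↥P) := hP.center_nontrivial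
    obtain ⟨c, hc1⟩ := exists_ne (1 : Subgroup.center ↥P)
    intro hbot
    apply hc1
    have hmem : ((c : ↥P) : G) ∈ P ⊓ Subgroup.centralizer (P : Set G) := by
      refine Subgroup.mem_inf.mpr ⟨(c : ↥P).2, ?_⟩
      rw [Subgroup.mem_centralizer_iff]
      intro h hh
      have h1 := Subgroup.mem_center_iff.mp c.2 ⟨h, hh⟩
      exact congrArg Subtype.val h1
    have hbot' : P ⊓ Subgroup.centralizer (P : Set G) = ⊥ := hbot
    rw [hbot', Subgroup.mem_bot] at hmem
    apply Subtype.ext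
    apply Subtype.ext
    exact hmem
  · intro g
    show lc g P ⊓ Subgroup.centralizer ((lc g P : Subgroup G) : Set G) =
      lc g (P ⊓ Subgroup.centralizer (P : Set G))
    rw [centralizer_lc, lc_inf]

/-- **S3071** -/
theorem result {G : Type*} [Group G] [Finite G] {p : ℕ} [Fact p.Prime]
    (hp : p ≠ 2) (S : Sylow p G)
    (hfree : ∀ P : Subgroup G, (S : Subgroup G) ⊓ Subgroup.centralizer ((S : Subgroup G) : Set G) ≤ P → P ≤ S →
      ¬ ∃ (H K : Subgroup G) (hK : (K.subgroupOf H).Normal), H ≤ Subgroup.normalizer (P : Set G) ∧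
        Nonempty ((H ⧸ K.subgroupOf H) ≃* Matrix.SpecialLinearGroup (Fin 2) (ZMod p))) :
    ∀ x ∈ S, ∀ y ∈ S, (∃ g : G, g * x * g⁻¹ = y) ↔
      ∃ n ∈ Subgroup.normalizer (Cfsg.centerThompsonAOf (S : Subgroup G) : Set G), n * x * n⁻¹ = y := by
  intro x hx y hy
  constructor
  swap
  · rintro ⟨n, _, hn⟩
    exact ⟨n, hn⟩
  rintro ⟨g, rfl⟩
  set W : Subgroup G → Subgroup G := fun T => Cfsg.centerThompsonAOf T with hWdef
  set V : Subgroup G → Subgroup G := fun T => T ⊓ Subgroup.centralizer (T : Set G) with hVdef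
  have hW : IsConjugacyFunctor p W := by
    have h1 := isConjugacyFunctor_inducedFunctor (p := p) Cfsg.Agent.Lib.Helper54.ZJAfun
      Cfsg.Agent.Lib.Helper54.isCharPFunctor_ZJA G
    have e : inducedFunctor (G := G) Cfsg.Agent.Lib.Helper54.ZJAfun = W :=
      funext (fun P => Cfsg.Agent.Lib.Helper54.inducedFunctor_ZJA P)
    rwa [e] at h1
  have hV : IsConjugacyFunctor p V := isConjugacyFunctor_center p
  have hWZ : ∀ H : Subgroup G, IsPGroup p H → H ⊓ Subgroup.centralizer (H : Set G) ≤ W H := by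
    intro H _
    show H ⊓ Subgroup.centralizer (H : Set G) ≤ Cfsg.centerThompsonAOf H
    rw [ZJ.centerThompsonAOf_eq_WW]
    apply ZJ.le_WW
    intro A hA z hz
    exact ZJ.mem_of_max_comm hA hz.1
      (fun a ha => (Subgroup.mem_centralizer_iff.mp hz.2) a (hA.1 ha))
  have hVmono : ∀ H K : Subgroup G, IsPGroup p H → IsPGroup p K → H ≠ ⊥ → K ≠ ⊥ →
      H ⊓ Subgroup.centralizer (H : Set G) ≤ K ⊓ Subgroup.centralizer (K : Set G) → V H ≤ V K :=
    fun H K _ _ _ _ h => h
  -- the normalizers of the subgroups between `Z(S)` and `S` are `SL₂(p)`-free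
  have hNfree : ∀ H : Subgroup G,
      (S : Subgroup G) ⊓ Subgroup.centralizer ((S : Subgroup G) : Set G) ≤ H → H ≤ S →
      ¬ Cfsg.Involves (Matrix.SpecialLinearGroup (Fin 2) (ZMod p))
        ↥(Subgroup.normalizer (H : Set G)) := by
    intro H hZ hHS hinv
    obtain ⟨K', f, hf⟩ := Cfsg.Agent.Lib.Helper90.exists_hom_of_involves hinv
    obtain ⟨A, B, hB, hA, ⟨e⟩⟩ := exists_section_of_hom
      ((Subgroup.normalizer (H : Set G)).subtype.comp K'.subtype) f
      ((Subgroup.subtype_injective _).comp (Subgroup.subtype_injective _)) hf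
    apply hfree H hZ hHS
    refine ⟨A, B, hB, ?_, ⟨e⟩⟩
    rw [hA]
    rintro _ ⟨k, rfl⟩
    exact k.1.2
  have hloc : LocalWV p W V (S : Subgroup G) := by
    intro H hZ hHS
    obtain ⟨R, -, hRN, hRp, hidx⟩ := exists_sylowIn_ge (p := p)
      (H := Subgroup.normalizer (H : Set G)) (Q := ⊥) IsPGroup.of_bot bot_le
    refine ⟨R, hRN, hRp, hidx, ?_⟩
    intro X a ha hX haX
    exact (freach_of_free hp _ (hNfree H hZ hHS) R hRN hRp hidx X a ha hX haX).weaken
      (fun y hy => Or.inl hy) le_rfl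
  have r := wv_controls S hW hV hWZ hVmono hloc (X := {x}) (a := g⁻¹)
    (by simpa using hx)
    (by
      rintro _ ⟨a, rfl, rfl⟩
      simpa using hy)
  -- replace the steps in `C(Z(S))` by steps in `N(Z(J(S)))`
  have hZS : (S : Subgroup G) ⊓ Subgroup.centralizer ((S : Subgroup G) : Set G) ≤ (S : Subgroup G) :=
    inf_le_left
  have hSN : (S : Subgroup G) ≤ Subgroup.normalizer ((V (S : Subgroup G) : Subgroup G) : Set G) :=
    normalizer_le_normalizer_functor hV S.2 |>.trans' Subgroup.le_normalizer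
  have hidxS : ¬ p ∣ (S : Subgroup G).relIndex
      (Subgroup.normalizer ((V (S : Subgroup G) : Subgroup G) : Set G)) := by
    intro hdvd
    apply S.not_dvd_index
    rw [← Subgroup.relIndex_mul_index hSN]
    exact dvd_mul_of_dvd_left hdvd _
  have r2 : FReach ((Subgroup.normalizer ((W (S : Subgroup G) : Subgroup G) : Set G) : Subgroup G) : Set G)
      (S : Subgroup G) {x} g⁻¹ := by
    refine freach_bind r ?_ le_rfl
    intro z hz B hB hzB
    rcases hz with hz | hz
    · exact FReach.single hz.2 hB hzB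
    · have hzN : z ∈ Subgroup.normalizer ((V (S : Subgroup G) : Subgroup G) : Set G) :=
        Subgroup.centralizer_le_normalizer _ hz.2
      exact (freach_of_free hp _ (hNfree _ le_rfl hZS) (S : Subgroup G) hSN S.2 hidxS B z hzN hB
        hzB).weaken (fun y hy => hy.2) le_rfl
  obtain ⟨L, hL, hag⟩ := r2
  have hLmem : L.prod ∈ Subgroup.normalizer ((W (S : Subgroup G) : Subgroup G) : Set G) :=
    Subgroup.list_prod_mem _ ((fchain_iff L _).mp hL).1
  refine ⟨L.prod⁻¹, Subgroup.inv_mem _ hLmem, ?_⟩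
  have := hag x rfl
  simpa using this

end Cfsg.Agent.S3071
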