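import Mathlib
import Cfsg.Statements.S0118
import Cfsg.Agent.S3071
import Cfsg.Agent.Lib.Helper02.ZJeFun
import Cfsg.Agent.Lib.Helper02.SecCtl
import Cfsg.Agent.Lib.Helper54.QdFusionFwd
import Cfsg.Agent.Lib.Helper16.QdStable

set_option autoImplicit false
open Cfsg

namespace Cfsg.Agent.S0118

open Cfsg.Agent.Lib.Helper02

/-- Glauberman's ZJ-Theorem, in the case of groups with no section isomorphic to SL(2,p), p odd: conjugation of subsets of a Sylow p-subgroup P inside P is always induced from the normalizer of Z(J(P)). -/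
theorem result {G : Type*} [Group G] [Finite G] {p : ℕ} [Fact p.Prime] (hp : p ≠ 2) (hfree : ¬ ∃ (H K : Subgroup G) (hK : (K.subgroupOf H).Normal), Nonempty ((H ⧸ K.subgroupOf H) ≃* Matrix.SpecialLinearGroup (Fin 2) (ZMod p))) (P : Sylow p G) (A : Set G) (hA : A ⊆ (P : Set G)) (g : G) (hAg : (fun a => g⁻¹ * a * g) '' A ⊆ (P : Set G)) : ∃ n ∈ Subgroup.normalizer (Cfsg.centerThompsonOf p (P : Subgroup G) : Set G), ∀ a ∈ A, n⁻¹ * a * n = g⁻¹ * a * g := by
  classical
  have hfree' : ¬ Cfsg.Involves (Matrix.SpecialLinearGroup (Fin 2) (ZMod p)) G := hfree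
  have h := SecCtl.controls_of_normal_in_sections (ZJe.ZJefun p) ZJe.isCharPFunctor_ZJe
    (G := G) ?_ P A hA g hAg
  · rw [ZJe.inducedFunctor_ZJe] at h
    exact h
  · intro K R hR hcon
    obtain ⟨T⟩ : Nonempty (Sylow p (↥K ⧸ R.subgroupOf K)) := inferInstance
    refine ⟨T, ?_⟩
    rw [ZJe.inducedFunctor_ZJe]
    apply ZJe.centerThompsonOf_normal hp hcon T
    apply Cfsg.Agent.Lib.Helper16.QdStable.stableFor_of_qd_free hp
    intro hqd
    apply hfree'
    exact Cfsg.Agent.Lib.Helper54.involves_of_involves_section K R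
      (Cfsg.Agent.S3071.involves_sl2_of_involves_qd hqd)

end Cfsg.Agent.S0118
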