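import Cfsg.Statements.S0132
import Cfsg.Agent.Lib.Helper41.Frobenius
import Cfsg.Agent.S0086

set_option autoImplicit false
open Cfsg

namespace Cfsg.Agent.S0132

open Cfsg.Agent.Lib.Helper41
open scoped commutatorElement
set_option linter.style.haveILetI false
set_option linter.unusedSectionVars false

section aux
variable {G : Type*} [Group G] [Finite G] {p : ℕ} [Fact p.Prime]

/-- A normal subgroup of index prime to `p` contains all elements of order prime to its index. -/
theorem mem_of_coprime_index (Q : Subgroup G) [Q.Normal] (x : G)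
    (hx : Nat.Coprime Q.index (orderOf x)) : x ∈ Q := by
  obtain ⟨m, hm⟩ := exists_pow_eq_self_of_coprime hx
  rw [← hm]
  exact Subgroup.pow_mem _ (Subgroup.pow_index_mem Q x) m

/-- In a finite nilpotent group, `p'`-elements centralize normal `p`-subgroups. -/
theorem mem_centralizer_of_isNilpotent [Group.IsNilpotent G] (Q : Subgroup G) [Q.Normal]
    (hQ : IsPGroup p Q) (g : G) (hg : Nat.Coprime (orderOf g) p) :
    g ∈ Subgroup.centralizer (Q : Set G) := by
  have hp : p.Prime := Fact.out
  have hle : ∀ (r : ℕ) [Fact r.Prime], r ≠ p → ∀ R : Sylow r G,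
      (R : Subgroup G) ≤ Subgroup.centralizer (Q : Set G) := by
    intro r _ hr R x hx
    have hRn : (R : Subgroup G).Normal := inferInstance
    have hQn : Q.Normal := inferInstance
    have hdisj : Disjoint (R : Subgroup G) Q := IsPGroup.disjoint_of_ne r p hr _ _ R.2 hQ
    rw [Subgroup.mem_centralizer_iff]
    intro q hq
    have h1 : ⁅x, q⁆ ∈ (R : Subgroup G) := by
      have : ⁅x, q⁆ = x * (q * x⁻¹ * q⁻¹) := by rw [commutatorElement_def]; group
      rw [this]
      exact mul_mem hx (hRn.conj_mem _ (inv_mem hx) q)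
    have h2 : ⁅x, q⁆ ∈ Q := by
      have : ⁅x, q⁆ = (x * q * x⁻¹) * q⁻¹ := by rw [commutatorElement_def]
      rw [this]
      exact mul_mem (hQn.conj_mem _ hq x) (inv_mem hq)
    have h3 : ⁅x, q⁆ = 1 := Subgroup.disjoint_def.mp hdisj h1 h2
    rw [commutatorElement_def] at h3
    calc q * x = (x * q * x⁻¹ * q⁻¹)⁻¹ * (x * q) := by group
      _ = x * q := by rw [h3]; group
  have hidx : ∃ k, (Subgroup.centralizer (Q : Set G)).index = p ^ k := by
    refine ⟨_, Nat.eq_prime_pow_of_unique_prime_dvd (Subgroup.index_ne_zero_of_finite) ?_⟩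
    intro r hr hrdvd
    by_contra hne
    haveI : Fact r.Prime := ⟨hr⟩
    obtain ⟨R⟩ : Nonempty (Sylow r G) := inferInstance
    exact R.not_dvd_index (hrdvd.trans (Subgroup.index_dvd_of_le (hle r hne R)))
  obtain ⟨k, hk⟩ := hidx
  apply mem_of_coprime_index
  rw [hk]
  exact (Nat.Coprime.pow_right k hg).symm

end aux

/-- A minimal non-p-nilpotent finite group is a minimal non-nilpotent group with a normal Sylow p-subgroup. -/
theorem result {G : Type*} [Group G] [Finite G] {p : ℕ} [Fact p.Prime] (h1 : ¬ Cfsg.HasNormalPComplement p G) (h2 : ∀ H : Subgroup G, H ≠ ⊤ → Cfsg.HasNormalPComplement p H) : (∀ H : Subgroup G, H ≠ ⊤ → Group.IsNilpotent H) ∧ ¬ Group.IsNilpotent G ∧ ∀ P : Sylow p G, (P : Subgroup G).Normal := by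
  have hp : p.Prime := Fact.out
  have hF : ¬ FrobCond p G := fun h => h1 (hasNormalPComplement_of_frobCond h)
  unfold FrobCond at hF
  push Not at hF
  obtain ⟨Q, hQ, g, hgN, hcop, hgC⟩ := hF
  -- `Q ⟨g⟩ = G`
  have hM : Q ⊔ Subgroup.zpowers g = ⊤ := by
    by_contra hne
    have hF' := frobCond_of_hasNormalPComplement (h2 _ hne)
    have hgM : g ∈ Q ⊔ Subgroup.zpowers g :=
      (le_sup_right : Subgroup.zpowers g ≤ Q ⊔ Subgroup.zpowers g) (Subgroup.mem_zpowers g)
    have hnorm : (⟨g, hgM⟩ : ↥(Q ⊔ Subgroup.zpowers g)) ∈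
        Subgroup.normalizer ((Q.subgroupOf (Q ⊔ Subgroup.zpowers g) : Subgroup _) : Set _) := by
      rw [Subgroup.mem_normalizer_iff]
      intro x
      rw [Subgroup.mem_subgroupOf, Subgroup.mem_subgroupOf]
      exact Subgroup.mem_normalizer_iff.mp hgN (x : G)
    have hord : Nat.Coprime (orderOf (⟨g, hgM⟩ : ↥(Q ⊔ Subgroup.zpowers g))) p := by
      rw [← Subgroup.orderOf_coe]
      exact hcop
    have := hF' (Q.subgroupOf (Q ⊔ Subgroup.zpowers g)) hQ.comap_subtype _ hnorm hord
    apply hgC
    rw [Subgroup.mem_centralizer_iff] at this ⊢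
    intro q hq
    have hqM : q ∈ Q ⊔ Subgroup.zpowers g := (le_sup_left : Q ≤ Q ⊔ Subgroup.zpowers g) hq
    have := this ⟨q, hqM⟩ (by rw [SetLike.mem_coe, Subgroup.mem_subgroupOf]; exact hq)
    exact congrArg Subtype.val this
  have hQn : Q.Normal := by
    rw [← Subgroup.normalizer_eq_top_iff, eq_top_iff, ← hM]
    exact sup_le Subgroup.le_normalizer (Subgroup.zpowers_le.mpr hgN)
  haveI := hQn
  -- index of `Q` divides the order of `g`
  have hidx : Q.index ∣ orderOf g := by
    have h1 : (Subgroup.zpowers g).map (QuotientGroup.mk' Q) = ⊤ := by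
      have := congrArg (Subgroup.map (QuotientGroup.mk' Q)) hM
      rw [Subgroup.map_sup, QuotientGroup.map_mk'_self, bot_sup_eq,
        Subgroup.map_top_of_surjective _ (QuotientGroup.mk'_surjective Q)] at this
      exact this
    have h2 := Subgroup.card_map_dvd (H := Subgroup.zpowers g) (QuotientGroup.mk' Q)
    rw [h1, Subgroup.card_top, Nat.card_zpowers] at h2
    rw [Subgroup.index_eq_card]
    exact h2
  have hidxp : Nat.Coprime Q.index p := Nat.Coprime.coprime_dvd_left hidx hcop
  have hnd : ¬ p ∣ Q.index := fun h => hp.one_lt.ne' (Nat.Coprime.eq_one_of_dvd hidxp.symm h)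
  -- commutator subgroup lies in `Q`
  have hcomm : ∀ a b : G, ⁅a, b⁆ ∈ Q := by
    have hcyc : ∀ x : G ⧸ Q, x ∈ Subgroup.zpowers ((QuotientGroup.mk' Q) g) := by
      intro x
      have h1 : (Subgroup.zpowers g).map (QuotientGroup.mk' Q) = ⊤ := by
        have := congrArg (Subgroup.map (QuotientGroup.mk' Q)) hM
        rw [Subgroup.map_sup, QuotientGroup.map_mk'_self, bot_sup_eq,
          Subgroup.map_top_of_surjective _ (QuotientGroup.mk'_surjective Q)] at this
        exact this
      rw [← MonoidHom.map_zpowers, h1]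
      trivial
    intro a b
    obtain ⟨i, hi⟩ := Subgroup.mem_zpowers_iff.mp (hcyc ((QuotientGroup.mk' Q) a))
    obtain ⟨j, hj⟩ := Subgroup.mem_zpowers_iff.mp (hcyc ((QuotientGroup.mk' Q) b))
    rw [← QuotientGroup.eq_one_iff, ← QuotientGroup.mk'_apply, map_commutatorElement, ← hi, ← hj]
    rw [commutatorElement_eq_one_iff_commute]
    exact (Commute.refl _).zpow_zpow i j
  -- every `p`-element lies in `Q`
  have hpel : ∀ x : G, (∃ k : ℕ, orderOf x = p ^ k) → x ∈ Q := by
    rintro x ⟨k, hk⟩
    apply mem_of_coprime_index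
    rw [hk]
    exact Nat.Coprime.pow_right k hidxp
  refine ⟨?_, ?_, ?_⟩
  · -- proper subgroups are nilpotent
    intro H hH
    obtain ⟨S, K, hKn, hKc⟩ := h2 H hH
    haveI := hKn
    have hKmem : ∀ x : H, x ∈ K ↔ Nat.Coprime (orderOf x) p := Cfsg.Agent.S0086.result S K hKc
    have hQK : ∀ x : H, x ∈ K → (x : G) ∈ Q → x = 1 := by
      intro x hxK hxQ
      have h1 := (hKmem x).mp hxK
      obtain ⟨k, hk⟩ := (hQ ⟨(x : G), hxQ⟩)
      have h2 : orderOf (x : G) ∣ p ^ k := by
        apply orderOf_dvd_of_pow_eq_one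
        have := congrArg Subtype.val hk
        simpa using this
      rw [Subgroup.orderOf_coe] at h2
      have h3 : orderOf x = 1 := Nat.Coprime.eq_one_of_dvd (Nat.Coprime.pow_right k h1) h2
      exact orderOf_eq_one_iff.mp h3
    have hKcomm : ∀ a ∈ K, ∀ b ∈ K, a * b = b * a := by
      intro a ha b hb
      have h1 : ⁅a, b⁆ ∈ K := by
        have : ⁅a, b⁆ = a * (b * a⁻¹ * b⁻¹) := by rw [commutatorElement_def]; group
        rw [this]
        exact mul_mem ha (hKn.conj_mem _ (inv_mem ha) b)
      have h2 : ((⁅a, b⁆ : H) : G) ∈ Q := by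
        have := hcomm (a : G) (b : G)
        simpa [commutatorElement_def] using this
      have h3 := hQK _ h1 h2
      rw [commutatorElement_def] at h3
      calc a * b = (a * b * a⁻¹ * b⁻¹) * (b * a) := by group
        _ = b * a := by rw [h3, one_mul]
    have hSQ : ∀ s : H, s ∈ (S : Subgroup H) → (s : G) ∈ Q := by
      intro s hs
      apply hpel
      obtain ⟨k, hk⟩ := (S.2 ⟨s, hs⟩)
      have h2 : orderOf s ∣ p ^ k := by
        apply orderOf_dvd_of_pow_eq_one
        have := congrArg Subtype.val hk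
        simpa using this
      obtain ⟨m, -, hm⟩ := (Nat.dvd_prime_pow hp).mp h2
      exact ⟨m, by rw [Subgroup.orderOf_coe]; exact hm⟩
    have hQKcomm : ∀ s : H, (s : G) ∈ Q → ∀ b ∈ K, s * b = b * s := by
      intro s hs b hb
      have h1 : ⁅s, b⁆ ∈ K := by
        have : ⁅s, b⁆ = (s * b * s⁻¹) * b⁻¹ := by rw [commutatorElement_def]
        rw [this]
        exact mul_mem (hKn.conj_mem _ hb s) (inv_mem hb)
      have h2 : ((⁅s, b⁆ : H) : G) ∈ Q := by
        have : ((⁅s, b⁆ : H) : G) = (s : G) * ((b : G) * (s : G)⁻¹ * (b : G)⁻¹) := by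
          simp [commutatorElement_def, mul_assoc]
        rw [this]
        exact mul_mem hs (hQn.conj_mem _ (inv_mem hs) _)
      have h3 := hQK _ h1 h2
      rw [commutatorElement_def] at h3
      calc s * b = (s * b * s⁻¹ * b⁻¹) * (b * s) := by group
        _ = b * s := by rw [h3, one_mul]
    apply ((Group.isNilpotent_of_finite_tfae (G := H)).out 0 3).mpr
    intro r hr R
    by_cases hrp : r = p
    · subst hrp
      have hle : (R : Subgroup H) ≤ Q.subgroupOf H := by
        intro x hx
        rw [Subgroup.mem_subgroupOf]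
        apply hpel
        obtain ⟨k, hk⟩ := (R.2 ⟨x, hx⟩)
        have h2 : orderOf x ∣ r ^ k := by
          apply orderOf_dvd_of_pow_eq_one
          have := congrArg Subtype.val hk
          simpa using this
        obtain ⟨m, -, hm⟩ := (Nat.dvd_prime_pow hp).mp h2
        exact ⟨m, by rw [Subgroup.orderOf_coe]; exact hm⟩
      have := R.is_maximal' (hQ.comap_subtype (K := H)) hle
      rw [← this]
      infer_instance
    · haveI := hr
      have hRK : (R : Subgroup H) ≤ K := by
        intro x hx
        rw [hKmem]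
        obtain ⟨k, hk⟩ := (R.2 ⟨x, hx⟩)
        have h2 : orderOf x ∣ r ^ k := by
          apply orderOf_dvd_of_pow_eq_one
          have := congrArg Subtype.val hk
          simpa using this
        have hrp' : Nat.Coprime r p := (Nat.coprime_primes hr.out hp).mpr hrp
        exact Nat.Coprime.coprime_dvd_left h2 (Nat.Coprime.pow_left k hrp')
      constructor
      intro x hx h
      obtain ⟨⟨⟨k, hk⟩, ⟨s, hs⟩⟩, hks⟩ := hKc.2 h
      simp only at hks
      have hxK := hRK hx
      have h1 : s * x = x * s := hQKcomm s (hSQ s hs) x hxK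
      have h2 : k * x = x * k := hKcomm k hk x hxK
      have : h * x * h⁻¹ = x := by
        rw [← hks]
        calc k * s * x * (k * s)⁻¹ = k * (s * x) * s⁻¹ * k⁻¹ := by group
          _ = k * (x * s) * s⁻¹ * k⁻¹ := by rw [h1]
          _ = (k * x) * k⁻¹ := by group
          _ = x * k * k⁻¹ := by rw [h2]
          _ = x := by group
      rw [this]
      exact hx
  · -- `G` is not nilpotent
    intro hnil
    haveI := hnil
    exact hgC (mem_centralizer_of_isNilpotent Q hQ g hcop)
  · -- Sylow `p`-subgroups are normal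
    intro P
    obtain ⟨n, hn⟩ := MulAction.exists_smul_eq G (hQ.toSylow hnd) P
    haveI : ((hQ.toSylow hnd : Sylow p G) : Subgroup G).Normal := by
      rw [IsPGroup.toSylow_coe]; exact hQn
    rw [Sylow.smul_eq_of_normal] at hn
    rw [← hn, IsPGroup.toSylow_coe]
    exact hQn

end Cfsg.Agent.S0132
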