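import Cfsg.Statements.S0158
import Cfsg.Agent.Lib.Helper05.CharDecomp

set_option autoImplicit false
open Cfsg

namespace Cfsg.Agent.S0158

open Cfsg.Agent.Lib.Helper05 TensorProduct Module
open scoped ComplexConjugate

theorem trace_comm_comp_map {V : Type*} [AddCommGroup V] [Module ℂ V] [FiniteDimensional ℂ V]
    (A : Module.End ℂ V) :
    LinearMap.trace ℂ (V ⊗[ℂ] V)
      ((TensorProduct.comm ℂ V V).toLinearMap ∘ₗ TensorProduct.map A A) =
      LinearMap.trace ℂ V (A * A) := by
  classical
  let b := Module.finBasis ℂ V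
  rw [LinearMap.trace_eq_matrix_trace ℂ (b.tensorProduct b),
    LinearMap.trace_eq_matrix_trace ℂ b, Matrix.trace, Matrix.trace, Fintype.sum_prod_type,
    LinearMap.toMatrix_mul]
  apply Finset.sum_congr rfl
  intro i _
  rw [Matrix.diag_apply, Matrix.mul_apply]
  apply Finset.sum_congr rfl
  intro j _
  simp [LinearMap.toMatrix_apply, Basis.tensorProduct_apply]
  ring

/-- The Frobenius–Schur indicator of an irreducible complex representation of a finite group — the average over s of the character at s * s — is 0, 1 or −1, and it vanishes exactly when some character value is not real. -/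
theorem result {G : Type*} [Group G] [Fintype G] {V : Type*} [AddCommGroup V] [Module ℂ V] [FiniteDimensional ℂ V] (ρ : Representation ℂ G V) [ρ.IsIrreducible] : ((Nat.card G : ℂ)⁻¹ * ∑ s : G, ρ.character (s * s) = 0 ∨ (Nat.card G : ℂ)⁻¹ * ∑ s : G, ρ.character (s * s) = 1 ∨ (Nat.card G : ℂ)⁻¹ * ∑ s : G, ρ.character (s * s) = -1) ∧ ((Nat.card G : ℂ)⁻¹ * ∑ s : G, ρ.character (s * s) = 0 ↔ ∃ s : G, (ρ.character s).im ≠ 0) := by
  classical
  have hcard : (Nat.card G : ℂ) ≠ 0 := card_ne_zero_complex
  haveI : Invertible (Nat.card G : ℂ) := invertibleOfNonzero hcard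
  set τ : Module.End ℂ (V ⊗[ℂ] V) := (TensorProduct.comm ℂ V V).toLinearMap with hτ
  set σ : Representation ℂ G (V ⊗[ℂ] V) := ρ.tprod ρ with hσ
  obtain ⟨I, hI⟩ : ∃ I, I = Representation.invariants σ := ⟨_, rfl⟩
  obtain ⟨P, hP⟩ : ∃ P : Module.End ℂ (V ⊗[ℂ] V), P = (Nat.card G : ℂ)⁻¹ • ∑ s : G, σ s :=
    ⟨_, rfl⟩
  have hmemI : ∀ x, x ∈ I ↔ ∀ g, σ g x = x := by
    intro x
    rw [hI]
    rfl
  have hτσ : ∀ (s : G) (x : V ⊗[ℂ] V), τ (σ s x) = σ s (τ x) := by
    intro s x
    induction x using TensorProduct.induction_on with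
    | zero => simp
    | tmul v w => simp [hτ, hσ, Representation.tprod_apply]
    | add x y hx hy => simp only [map_add, hx, hy]
  have hτ2 : ∀ x : V ⊗[ℂ] V, τ (τ x) = x := by
    intro x
    simp [hτ]
  have hchar : ∀ s : G, ρ.character (s * s) = LinearMap.trace ℂ _ (τ * σ s) := by
    intro s
    rw [Module.End.mul_eq_comp, hτ, hσ, Representation.tprod_apply, trace_comm_comp_map,
      Representation.character, map_mul]
  have hν : (Nat.card G : ℂ)⁻¹ * ∑ s : G, ρ.character (s * s) = LinearMap.trace ℂ _ (τ * P) := by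
    have h1 : τ * P = (Nat.card G : ℂ)⁻¹ • ∑ s : G, τ * σ s := by
      rw [hP, mul_smul_comm, Finset.mul_sum]
    rw [h1, map_smul, map_sum, smul_eq_mul]
    congr 1
    apply Finset.sum_congr rfl
    intro s _
    exact hchar s
  have hPI : ∀ x, P x ∈ I := by
    intro x
    rw [hmemI]
    intro g
    simp only [hP, LinearMap.smul_apply, LinearMap.sum_apply, map_smul, map_sum]
    congr 1
    apply Fintype.sum_equiv (Equiv.mulLeft g)
    intro s
    simp [map_mul]
  have htrP : LinearMap.trace ℂ _ P = (finrank ℂ I : ℂ) := by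
    rw [hI, ← Representation.card_inv_mul_sum_char_eq_finrank σ, hP, map_smul, map_sum,
      smul_eq_mul]
    rfl
  -- dimension of the invariants
  have hχ : Cfsg.IsIrrCharacter G ρ.character := isIrrCharacter_of_rep ρ inferInstance
  have hdim : (finrank ℂ I : ℂ) =
      Cfsg.classInner ρ.character (fun g => conj (ρ.character g)) := by
    rw [hI, ← Representation.card_inv_mul_sum_char_eq_finrank σ, hσ, Representation.char_tensor]
    simp [Cfsg.classInner]
  rw [classInner_irr hχ (isIrrCharacter_conj hχ)] at hdim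
  by_cases hreal : ρ.character = fun g => conj (ρ.character g)
  · -- real case
    rw [if_pos hreal] at hdim
    have hd1 : finrank ℂ I = 1 := by exact_mod_cast hdim
    obtain ⟨w, hw0, hw⟩ := finrank_eq_one_iff'.mp hd1
    have hτw : τ (w : V ⊗[ℂ] V) ∈ I := by
      have hwI : (w : V ⊗[ℂ] V) ∈ I := w.2
      rw [hmemI] at hwI ⊢
      intro g
      rw [← hτσ, hwI g]
    obtain ⟨ε, hε⟩ := hw ⟨_, hτw⟩
    have hε' : τ (w : V ⊗[ℂ] V) = ε • (w : V ⊗[ℂ] V) := by
      have := congrArg Subtype.val hε
      simpa using this.symm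
    have hw0' : (w : V ⊗[ℂ] V) ≠ 0 := fun h => hw0 (Subtype.ext h)
    have hε2 : ε * ε = 1 := by
      have h1 := hτ2 (w : V ⊗[ℂ] V)
      rw [hε', map_smul, hε', smul_smul] at h1
      have h2 : (ε * ε - 1) • (w : V ⊗[ℂ] V) = 0 := by
        rw [sub_smul, one_smul, h1, sub_self]
      rcases smul_eq_zero.mp h2 with h3 | h3
      · exact sub_eq_zero.mp h3
      · exact absurd h3 hw0'
    have hτP : τ * P = ε • P := by
      refine LinearMap.ext fun x => ?_
      obtain ⟨c, hc⟩ := hw ⟨_, hPI x⟩
      have hc' : P x = c • (w : V ⊗[ℂ] V) := by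
        have := congrArg Subtype.val hc
        simpa using this.symm
      rw [Module.End.mul_apply, LinearMap.smul_apply, hc', map_smul, hε', smul_smul, smul_smul,
        mul_comm]
    rw [hν, hτP, map_smul, htrP, hd1, Nat.cast_one, smul_eq_mul, mul_one]
    have hε1 : ε = 1 ∨ ε = -1 := by
      have : (ε - 1) * (ε + 1) = 0 := by ring_nf; rw [sq, hε2]; ring
      rcases mul_eq_zero.mp this with h | h
      · left; exact sub_eq_zero.mp h
      · right; exact eq_neg_of_add_eq_zero_left h
    have hallreal : ∀ s : G, (ρ.character s).im = 0 := by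
      intro s
      exact Complex.conj_eq_iff_im.mp (congrFun hreal s).symm
    refine ⟨Or.inr hε1, ?_⟩
    constructor
    · intro h0
      rcases hε1 with h | h <;> rw [h] at h0 <;> norm_num at h0
    · rintro ⟨s, hs⟩
      exact absurd (hallreal s) hs
  · -- non-real case
    rw [if_neg hreal] at hdim
    have hd0 : finrank ℂ I = 0 := by exact_mod_cast hdim
    have hI0 : I = ⊥ := Submodule.finrank_eq_zero.mp hd0
    have hP0 : P = 0 := by
      refine LinearMap.ext fun x => ?_
      have := hPI x
      rw [hI0, Submodule.mem_bot] at this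
      simpa using this
    have hν0 : (Nat.card G : ℂ)⁻¹ * ∑ s : G, ρ.character (s * s) = 0 := by
      rw [hν, hP0, mul_zero, map_zero]
    refine ⟨Or.inl hν0, ?_⟩
    constructor
    · intro _
      by_contra hno
      push Not at hno
      apply hreal
      funext g
      exact (Complex.conj_eq_iff_im.mpr (hno g)).symm
    · intro _
      exact hν0

end Cfsg.Agent.S0158
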