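import Cfsg.Statements.S0162
import Cfsg.Agent.S0161
import Cfsg.Agent.Lib.Helper05.CharDegree
import Cfsg.Agent.Lib.Helper83.SecondOrth

set_option autoImplicit false
open Cfsg

namespace Cfsg.Agent.S0162

open Cfsg.Agent.Lib.Helper05
open scoped ComplexConjugate

theorem sixteen_dvd (d : ℕ) (hd : Odd d) : (16 : ℕ) ∣ 2 * (d ^ 2 - 1) := by
  obtain ⟨t, rfl⟩ := hd
  have h1 : (2 * t + 1) ^ 2 - 1 = 4 * (t * (t + 1)) := by
    have : (2 * t + 1) ^ 2 = 4 * (t * (t + 1)) + 1 := by ring
    omega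
  rw [h1]
  obtain ⟨s, hs⟩ := Nat.even_mul_succ_self t
  rw [hs]
  exact ⟨s, by ring⟩

/-- If a finite group has odd order, its order is congruent to its number of conjugacy classes modulo 16. -/
theorem result {G : Type*} [Group G] [Finite G] (hodd : Odd (Nat.card G)) : Nat.card G ≡ Nat.card (ConjClasses G) [MOD 16] := by
  classical
  haveI : Fintype G := Fintype.ofFinite G
  haveI : Finite (Cfsg.IrrCharacter G) := finite_irrCharacter
  haveI : Fintype (Cfsg.IrrCharacter G) := Fintype.ofFinite _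
  choose d hdpos hd1 hddvd using fun ψ : Cfsg.IrrCharacter G => exists_degree_dvd ψ.2
  have hdodd : ∀ ψ, Odd (d ψ) := fun ψ => Odd.of_dvd_nat hodd (hddvd ψ)
  have hsq : ∑ ψ : Cfsg.IrrCharacter G, (d ψ) ^ 2 = Nat.card G := by
    have h1 := Cfsg.Agent.Lib.Helper83.sum_irr_degree_sq (G := G)
    simp only [hd1] at h1
    exact_mod_cast h1
  have hk : Fintype.card (Cfsg.IrrCharacter G) = Nat.card (ConjClasses G) := by
    rw [← Nat.card_eq_fintype_card]
    exact Cfsg.Agent.Lib.Helper83.card_irr_eq_card_conjClasses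
  let cj : Cfsg.IrrCharacter G → Cfsg.IrrCharacter G :=
    fun χ => ⟨fun g => conj ((χ : G → ℂ) g), isIrrCharacter_conj χ.2⟩
  have hdcj : ∀ χ, d (cj χ) = d χ := by
    intro χ
    have h1 := hd1 (cj χ)
    have h2 : ((cj χ : Cfsg.IrrCharacter G) : G → ℂ) 1 = conj ((χ : G → ℂ) 1) := rfl
    rw [h2, hd1 χ, Complex.conj_natCast] at h1
    exact_mod_cast h1.symm
  let f : Cfsg.IrrCharacter G → ZMod 16 := fun χ => ((d χ ^ 2 - 1 : ℕ) : ZMod 16)
  have hf0 : ∑ χ : Cfsg.IrrCharacter G, f χ = 0 := by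
    apply Finset.sum_involution (fun χ _ => cj χ)
    · intro χ _
      simp only [f, hdcj]
      rw [← two_mul]
      have := sixteen_dvd (d χ) (hdodd χ)
      have h2 : ((2 * (d χ ^ 2 - 1) : ℕ) : ZMod 16) = 0 :=
        (ZMod.natCast_eq_zero_iff _ _).mpr this
      push_cast at h2 ⊢
      exact h2
    · intro χ _ hfχ hcj
      apply hfχ
      have hreal : ∀ g : G, ((χ : G → ℂ) g).im = 0 := by
        intro g
        have := congrArg (fun ψ : Cfsg.IrrCharacter G => (ψ : G → ℂ) g) hcj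
        exact Complex.conj_eq_iff_im.mp this
      have h1 := Cfsg.Agent.S0161.result hodd χ hreal
      have h2 := hd1 χ
      rw [h1] at h2
      have h2' : (1 : ℂ) = (d χ : ℂ) := h2
      have h3 : d χ = 1 := by exact_mod_cast h2'.symm
      simp [f, h3]
    · intro χ _
      exact Finset.mem_univ _
    · intro χ _
      apply Subtype.ext
      funext g
      simp [cj]
  have hcast : ((Nat.card G : ℕ) : ZMod 16) = ((Nat.card (ConjClasses G) : ℕ) : ZMod 16) := by
    rw [← hsq, ← hk]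
    have h1 : ∀ χ : Cfsg.IrrCharacter G, ((d χ ^ 2 : ℕ) : ZMod 16) = f χ + 1 := by
      intro χ
      simp only [f]
      have : 1 ≤ d χ ^ 2 := Nat.one_le_pow _ _ (hdpos χ)
      have h2 : d χ ^ 2 = (d χ ^ 2 - 1) + 1 := by omega
      conv_lhs => rw [h2]
      push_cast
      rfl
    rw [Nat.cast_sum, Finset.sum_congr rfl (fun χ _ => h1 χ), Finset.sum_add_distrib, hf0,
      zero_add]
    simp
  exact (ZMod.natCast_eq_natCast_iff _ _ 16).mp hcast

end Cfsg.Agent.S0162
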