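import Cfsg.Statements.S0165
import Cfsg.Agent.Lib.Helper82.DefectZero
import Cfsg.Agent.Lib.Helper05.CharBasic

set_option autoImplicit false
set_option linter.style.haveILetI false
open Cfsg

namespace Cfsg.Agent.S0165

/-- If p ^ n is the exact power of the prime p dividing the order of a finite group and p ^ n divides the degree of an irreducible complex representation, then its character vanishes at every element of order divisible by p. -/
theorem result {G : Type*} [Group G] [Finite G] {V : Type*} [AddCommGroup V] [Module ℂ V] [FiniteDimensional ℂ V] (ρ : Representation ℂ G V) [ρ.IsIrreducible] (p n : ℕ) (hp : p.Prime) (hn : p ^ n ∣ Nat.card G) (hn' : ¬ p ^ (n + 1) ∣ Nat.card G) (hdeg : p ^ n ∣ Module.finrank ℂ V) (x : G) (hx : p ∣ orderOf x) : ρ.character x = 0 := by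
  classical
  letI : Fintype G := Fintype.ofFinite G
  open Cfsg.Agent.Lib.Helper82 in
  obtain ⟨M, hM⟩ := exists_isPModular p hp
  have hirr : Cfsg.IsIrrCharacter G ρ.character :=
    Cfsg.Agent.Lib.Helper05.isIrrCharacter_of_rep ρ inferInstance
  set χ : Cfsg.IrrCharacter G := ⟨ρ.character, hirr⟩ with hχ
  have hχc := Cfsg.Agent.Lib.Helper82.IsIrrCharacter.isCharacter hirr
  have hd : Cfsg.charDegree (χ : G → ℂ) = Module.finrank ℂ V := by
    have h1 := Cfsg.Agent.Lib.Helper82.IsCharacter.charDegree_cast hχc
    rw [Representation.char_one] at h1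
    exact_mod_cast h1
  obtain ⟨k, hk⟩ := Cfsg.Agent.Lib.Helper82.IsIrrCharacter.charDegree_dvd_card hirr
  have hdpos := Cfsg.Agent.Lib.Helper82.IsIrrCharacter.charDegree_pos hirr
  have hnd : ¬ p ∣ Nat.card G / Cfsg.charDegree (χ : G → ℂ) := by
    have hdiv : Nat.card G / Cfsg.charDegree (χ : G → ℂ) = k := by
      show Nat.card G / Cfsg.charDegree ρ.character = k
      rw [hk, Nat.mul_div_cancel_left _ hdpos]
    rw [hdiv]
    intro hpk
    apply hn'
    rw [pow_succ, hk]
    have : p ^ n ∣ Cfsg.charDegree ρ.character := by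
      have := hd
      rw [show ((χ : Cfsg.IrrCharacter G) : G → ℂ) = ρ.character from rfl] at this
      rw [this]; exact hdeg
    exact Nat.mul_dvd_mul this hpk
  have hblock := Cfsg.Agent.Lib.Helper82.blockOf_eq_singleton_of_not_dvd hM χ hnd
  exact Cfsg.Agent.Lib.Helper82.eq_zero_of_blockOf_eq_singleton hM χ hblock x hx

end Cfsg.Agent.S0165
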