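import Cfsg.Statements.S0166
import Cfsg.Agent.Lib.Helper05.CharEquiv
import Cfsg.Agent.Lib.Helper83.SplitField4

set_option autoImplicit false
open Cfsg

namespace Cfsg.Agent.S0166

open Cfsg.Agent.Lib.Helper83 Representation Module

/-- The values of a linear character of a subgroup are powers of a primitive root of unity of
order the exponent of the group. -/
theorem linear_value_mem {G : Type*} [Group G] [Finite G] (E : Subgroup G) (lam : E →* ℂˣ) (e : E) :
    (lam e : ℂ) ∈ IntermediateField.adjoin ℚ
      ({Complex.exp (2 * Real.pi * Complex.I / (Monoid.exponent G : ℂ))} : Set ℂ) := by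
  have hm : Monoid.exponent G ≠ 0 := Monoid.exponent_ne_zero_of_finite
  have hprim := Complex.isPrimitiveRoot_exp (Monoid.exponent G) hm
  have h1 : (lam e : ℂ) ^ Monoid.exponent G = 1 := by
    have h2 : e ^ Monoid.exponent G = 1 := by
      apply Subtype.ext
      rw [Subgroup.coe_pow, Monoid.pow_exponent_eq_one]
      rfl
    rw [← Units.val_pow_eq_pow_val, ← map_pow, h2, map_one, Units.val_one]
  obtain ⟨i, -, hi⟩ := hprim.eq_pow_of_pow_eq_one h1
  rw [← hi]
  exact pow_mem (IntermediateField.mem_adjoin_simple_self ℚ _) i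

/-- Brauer's splitting field Theorem: a complex representation of a finite group of exponent m is equivalent to a representation by matrices with entries in ℚ adjoined exp(2πi/m). -/
theorem result {G : Type*} [Group G] [Finite G] (n : ℕ) (ρ : Representation ℂ G (Fin n → ℂ)) : ∃ σ : Representation ℂ G (Fin n → ℂ), Nonempty (ρ.Equiv σ) ∧ ∀ g : G, ∀ i j : Fin n, LinearMap.toMatrix' (σ g) i j ∈ Algebra.adjoin ℚ ({Complex.exp (2 * Real.pi * Complex.I / (Monoid.exponent G : ℂ))} : Set ℂ) := by
  classical
  haveI : Fintype G := Fintype.ofFinite G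
  set ζ : ℂ := Complex.exp (2 * Real.pi * Complex.I / (Monoid.exponent G : ℂ)) with hζ
  let F := IntermediateField.adjoin ℚ ({ζ} : Set ℂ)
  have hm : Monoid.exponent G ≠ 0 := Monoid.exponent_ne_zero_of_finite
  have hprim : IsPrimitiveRoot ζ (Monoid.exponent G) :=
    Complex.isPrimitiveRoot_exp (Monoid.exponent G) hm
  have hζalg : IsAlgebraic ℚ ζ :=
    ((hprim.isIntegral (Nat.pos_of_ne_zero hm)).tower_top (A := ℚ)).isAlgebraic
  have hsub : F.toSubalgebra = Algebra.adjoin ℚ ({ζ} : Set ℂ) :=
    IntermediateField.adjoin_simple_toSubalgebra_of_isAlgebraic hζalg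
  have hF : ∀ (E : Subgroup G) (lam : E →* ℂˣ), ∃ μ : E →* F,
      ∀ e, algebraMap F ℂ (μ e) = (lam e : ℂ) := by
    intro E lam
    refine ⟨{ toFun := fun e => ⟨(lam e : ℂ), linear_value_mem E lam e⟩
              map_one' := ?_
              map_mul' := ?_ }, fun e => rfl⟩
    · apply Subtype.ext
      simp
    · intro a b
      apply Subtype.ext
      simp
  obtain ⟨V, i1, i2, i3, σ, hσ⟩ :=
    fReal_of_isCharacter (F := F) hF (χ := ρ.character) ⟨n, ρ, rfl⟩
  have hn : finrank F V = n := by
    have h1 := cchar_one σ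
    rw [hσ, Representation.char_one, Module.finrank_fin_fun] at h1
    exact_mod_cast h1.symm
  let b : Basis (Fin n) F V := Module.finBasisOfFinrankEq F V hn
  refine ⟨matRep (cmat σ b), ?_, ?_⟩
  · apply Cfsg.Agent.Lib.Helper05.nonempty_equiv_of_char_eq
    ext g
    rw [← hσ]
    change _ = LinearMap.trace ℂ (Fin n → ℂ) (matRep (cmat σ b) g)
    rw [matRep_character, cmat_trace]
  · intro g i j
    rw [toMatrix'_matRep, cmat_apply, ← hsub]
    exact (LinearMap.toMatrix b b (σ g) i j).2

end Cfsg.Agent.S0166
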