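import Cfsg.Statements.S0167
import Cfsg.Agent.Lib.Helper83.SecondOrth
import Cfsg.Agent.Lib.Helper84.Frobenius

set_option autoImplicit false
open Cfsg

namespace Cfsg.Agent.S0167

/-- An element g of a finite group is a commutator if and only if the sum over the irreducible characters χ of χ g / χ 1 is nonzero. -/
theorem result {G : Type*} [Group G] [Finite G] (g : G) : (∃ a b : G, g = a * b * a⁻¹ * b⁻¹) ↔ ∑ᶠ χ : Cfsg.IrrCharacter G, (χ : G → ℂ) g / (χ : G → ℂ) 1 ≠ 0 := by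
  classical
  haveI : Fintype G := Fintype.ofFinite G
  haveI : Finite (Cfsg.IrrCharacter G) := Cfsg.Agent.Lib.Helper83.irr_finite
  haveI : Fintype (Cfsg.IrrCharacter G) := Fintype.ofFinite _
  have hreg1 : ∑ᶠ χ : Cfsg.IrrCharacter G, (χ : G → ℂ) 1 * (χ : G → ℂ) 1 = (Fintype.card G : ℂ) := by
    rw [finsum_eq_sum_of_fintype, Cfsg.Agent.Lib.Helper83.sum_irr_degree_mul (1 : G), if_pos rfl,
      Nat.card_eq_fintype_card]
  have hreg2 : ∀ u : G, u ≠ 1 →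
      ∑ᶠ χ : Cfsg.IrrCharacter G, (χ : G → ℂ) 1 * (χ : G → ℂ) u = 0 := by
    intro u hu
    rw [finsum_eq_sum_of_fintype, Cfsg.Agent.Lib.Helper83.sum_irr_degree_mul u, if_neg hu]
  have key := Cfsg.Agent.Lib.Helper84.frobenius_count_of_regular hreg1 hreg2 g
  have hne : (Nat.card G : ℂ) ≠ 0 := by exact_mod_cast Nat.card_pos.ne'
  constructor
  · rintro ⟨a, b, hab⟩ h0
    rw [h0, mul_zero] at key
    have hc0 : Nat.card {xy : G × G // xy.1 * xy.2 * xy.1⁻¹ * xy.2⁻¹ = g} = 0 := by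
      exact_mod_cast key
    haveI : Nonempty {xy : G × G // xy.1 * xy.2 * xy.1⁻¹ * xy.2⁻¹ = g} := ⟨⟨(a, b), hab.symm⟩⟩
    exact Nat.card_pos.ne' hc0
  · intro h
    have h1 : (Nat.card {xy : G × G // xy.1 * xy.2 * xy.1⁻¹ * xy.2⁻¹ = g} : ℂ) ≠ 0 := by
      rw [key]
      exact mul_ne_zero hne h
    have h2 : Nat.card {xy : G × G // xy.1 * xy.2 * xy.1⁻¹ * xy.2⁻¹ = g} ≠ 0 := by
      exact_mod_cast h1
    have h3 := Nat.card_pos_iff.mp (Nat.pos_of_ne_zero h2)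
    obtain ⟨⟨⟨a, b⟩, hab⟩⟩ := h3.1
    exact ⟨a, b, hab.symm⟩

end Cfsg.Agent.S0167
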