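import Cfsg.Statements.S0168
import Cfsg.Agent.Lib.Helper05.CharDecomp
import Cfsg.Agent.Lib.Helper04.CharScalar
-- import your own Cfsg.Agent.* helpers here

set_option autoImplicit false
open Cfsg

namespace Cfsg.Agent.S0168

open Cfsg.Agent.Lib.Helper05 Cfsg.Agent.Lib.Helper04
open scoped ComplexConjugate

/-- The Burnside–Brauer Theorem. Let χ be the character of a faithful complex representation of a finite group, taking m distinct values. Then every irreducible character has nonzero inner product with χ ^ i for some i < m. -/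
theorem result {G : Type*} [Group G] [Fintype G] {V : Type*} [AddCommGroup V] [Module ℂ V] [FiniteDimensional ℂ V] (ρ : Representation ℂ G V) (hfaithful : Function.Injective ρ) (ψ : G → ℂ) (hψ : Cfsg.IsIrrCharacter G ψ) : ∃ i : ℕ, i < Nat.card (Set.range ρ.character) ∧ Cfsg.classInner (fun g => ρ.character g ^ i) ψ ≠ 0 := by
  classical
  by_contra hcon
  push Not at hcon
  haveI : Finite (Set.range ρ.character) := (Set.finite_range _).to_subtype
  obtain ⟨m, hm⟩ : ∃ m, m = Nat.card (Set.range ρ.character) := ⟨_, rfl⟩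
  rw [← hm] at hcon
  have e : Fin m ≃ Set.range ρ.character := by
    rw [hm]; exact (Finite.equivFin _).symm
  obtain ⟨a, ha⟩ : ∃ a : Fin m → ℂ, a = fun j => ((e j : Set.range ρ.character) : ℂ) := ⟨_, rfl⟩
  have hainj : Function.Injective a := by
    rw [ha]; exact Subtype.val_injective.comp e.injective
  obtain ⟨φ, hφ⟩ : ∃ φ : G → Fin m, φ = fun g => e.symm ⟨ρ.character g, Set.mem_range_self g⟩ :=
    ⟨_, rfl⟩
  have haφ : ∀ g, a (φ g) = ρ.character g := by
    intro g; rw [ha, hφ]; simp
  obtain ⟨b, hb⟩ : ∃ b : Fin m → ℂ,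
      b = fun j => ∑ g ∈ Finset.univ.filter (fun g => φ g = j), conj (ψ g) := ⟨_, rfl⟩
  have hcard : (Nat.card G : ℂ)⁻¹ ≠ 0 := by
    apply inv_ne_zero
    exact_mod_cast Nat.card_pos.ne'
  have hsum : ∀ i : Fin m, ∑ j, b j * a j ^ (i : ℕ) = 0 := by
    intro i
    have h := hcon i i.2
    unfold Cfsg.classInner at h
    rcases mul_eq_zero.mp h with h | h
    · exact absurd h hcard
    · rw [← h, ← Finset.sum_fiberwise Finset.univ φ]
      refine Finset.sum_congr rfl fun j _ => ?_
      rw [hb, Finset.sum_mul]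
      refine Finset.sum_congr rfl fun g hg => ?_
      rw [Finset.mem_filter] at hg
      change _ = ρ.character g ^ (i : ℕ) * _
      rw [← haφ g, hg.2, mul_comm]
  have hvec : Matrix.vecMul b (Matrix.vandermonde a) = 0 := by
    funext i
    simp only [Matrix.vecMul, dotProduct, Matrix.vandermonde_apply, Pi.zero_apply]
    exact hsum i
  have hdet : (Matrix.vandermonde a).det ≠ 0 := Matrix.det_vandermonde_ne_zero_iff.mpr hainj
  have hb0 : b = 0 := Matrix.eq_zero_of_vecMul_eq_zero hdet hvec
  have hfilter : Finset.univ.filter (fun g => φ g = φ 1) = {(1 : G)} := by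
    ext g
    rw [Finset.mem_filter, Finset.mem_singleton]
    constructor
    · rintro ⟨_, hg⟩
      have h1 : ρ.character g = ρ.character 1 := by rw [← haφ g, ← haφ 1, hg]
      rw [Representation.char_one, char_eq_finrank_iff] at h1
      apply hfaithful
      rw [h1, map_one]; rfl
    · rintro rfl
      exact ⟨Finset.mem_univ _, rfl⟩
  have hb1 : b (φ 1) = conj (ψ 1) := by
    rw [hb]
    simp only
    rw [hfilter, Finset.sum_singleton]
  obtain ⟨n, hn, hψ1⟩ := exists_pos_degree hψ
  rw [hb0, Pi.zero_apply, hψ1, Complex.conj_natCast] at hb1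
  have : (n : ℂ) ≠ 0 := by exact_mod_cast hn.ne'
  exact this hb1.symm

end Cfsg.Agent.S0168
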