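import Cfsg.Statements.S0198
import Cfsg.Agent.Lib.Helper83.Abelian
import Cfsg.Agent.Lib.Helper34.GenChar

set_option autoImplicit false
open Cfsg

namespace Cfsg.Agent.S0198

open Cfsg.Agent.Lib.Helper83 in
/-- A generalized character of norm two vanishing at `1` is a difference of two distinct
irreducible characters. -/
theorem diff_form {G : Type*} [Group G] [Fintype G] {θ : G → ℂ}
    (hgen : Cfsg.IsGeneralizedCharacter G θ) (h1 : θ 1 = 0) (h2 : Cfsg.classInner θ θ = 2) :
    ∃ a b : Cfsg.IrrCharacter G, a ≠ b ∧ θ = (a : G → ℂ) - (b : G → ℂ) := by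
  obtain ⟨ψ₁, ψ₂, ε₁, ε₂, hψ₁, hψ₂, hne, he1, he2, hθ⟩ :=
    Cfsg.Agent.Lib.Helper34.exists_two_irr_of_norm_two hgen h2
  have hd1 := irr_charDegree_pos (⟨ψ₁, hψ₁⟩ : Cfsg.IrrCharacter G)
  have hd2 := irr_charDegree_pos (⟨ψ₂, hψ₂⟩ : Cfsg.IrrCharacter G)
  have hc1 := charDegree_cast (isCharacter_of_irr hψ₁)
  have hc2 := charDegree_cast (isCharacter_of_irr hψ₂)
  simp only at hd1 hd2
  have hval : (ε₁ : ℂ) * (Cfsg.charDegree ψ₁ : ℂ) + (ε₂ : ℂ) * (Cfsg.charDegree ψ₂ : ℂ) = 0 := by
    rw [hc1, hc2, ← h1, hθ]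
    simp [Pi.add_apply, Pi.smul_apply, smul_eq_mul]
  have hvalZ : ε₁ * (Cfsg.charDegree ψ₁ : ℤ) + ε₂ * (Cfsg.charDegree ψ₂ : ℤ) = 0 := by
    exact_mod_cast hval
  have hd1' : (0 : ℤ) < (Cfsg.charDegree ψ₁ : ℤ) := by exact_mod_cast hd1
  have hd2' : (0 : ℤ) < (Cfsg.charDegree ψ₂ : ℤ) := by exact_mod_cast hd2
  rcases he1 with e1 | e1 <;> rcases he2 with e2 | e2
  · exfalso; rw [e1, e2] at hvalZ; omega
  · refine ⟨⟨ψ₁, hψ₁⟩, ⟨ψ₂, hψ₂⟩, fun h => hne (congrArg Subtype.val h), ?_⟩
    rw [hθ, e1, e2]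
    funext g
    simp [sub_eq_add_neg]
  · refine ⟨⟨ψ₂, hψ₂⟩, ⟨ψ₁, hψ₁⟩, fun h => hne (congrArg Subtype.val h).symm, ?_⟩
    rw [hθ, e1, e2]
    funext g
    simp [sub_eq_add_neg, add_comm]
  · exfalso; rw [e1, e2] at hvalZ; omega

open Cfsg.Agent.Lib.Helper83 in
/-- Inner product of two differences of irreducible characters equal to one: they share exactly
one end. -/
theorem share_end {G : Type*} [Group G] [Fintype G] {a b c d : Cfsg.IrrCharacter G}
    (hab : a ≠ b) (hcd : c ≠ d)
    (h : Cfsg.classInner ((a : G → ℂ) - (b : G → ℂ)) ((c : G → ℂ) - (d : G → ℂ)) = 1) :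
    (a = c ∧ b ≠ d) ∨ (b = d ∧ a ≠ c) := by
  classical
  rw [classInner_sub_left, Cfsg.Agent.Lib.Helper34.classInner_sub_right,
    Cfsg.Agent.Lib.Helper34.classInner_sub_right, irr_orthonormal,
    irr_orthonormal, irr_orthonormal, irr_orthonormal] at h
  by_cases h1 : a = c
  · by_cases h2 : b = d
    · exfalso
      have h3 : ¬ a = d := by rw [h1]; exact hcd
      have h4 : ¬ b = c := by rw [← h1]; exact fun h => hab h.symm
      rw [if_pos h1, if_pos h2, if_neg h3, if_neg h4] at h
      norm_num at h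
    · exact Or.inl ⟨h1, h2⟩
  · by_cases h2 : b = d
    · exact Or.inr ⟨h2, h1⟩
    · exfalso
      rw [if_neg h1, if_neg h2] at h
      by_cases h3 : a = d <;> by_cases h4 : b = c
      · rw [if_pos h3, if_pos h4] at h; norm_num at h
      · rw [if_pos h3, if_neg h4] at h; norm_num at h
      · rw [if_neg h3, if_pos h4] at h; norm_num at h
      · rw [if_neg h3, if_neg h4] at h; norm_num at h

/-- The isometry lemma behind exceptional characters. Let τ be a family of generalized characters of a finite group G indexed by Fin n, with τ i₀ = 0, every τ i vanishing at the identity, and inner products ⟨τ i, τ j⟩ = 2 if i = j and 1 otherwise for i, j ≠ i₀. Then there are a sign ε and pairwise distinct irreducible characters μ i with τ i = ε (μ i − μ i₀) for all i. -/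
theorem result {G : Type*} [Group G] [Fintype G] (n : ℕ) (i₀ : Fin n) (τ : Fin n → (G → ℂ)) (h0 : τ i₀ = 0) (hgen : ∀ i, Cfsg.IsGeneralizedCharacter G (τ i)) (hone : ∀ i, τ i 1 = 0) (hgram : ∀ i j, i ≠ i₀ → j ≠ i₀ → Cfsg.classInner (τ i) (τ j) = if i = j then 2 else 1) : ∃ ε : ℂ, (ε = 1 ∨ ε = -1) ∧ ∃ μ : Fin n → (G → ℂ), (∀ i, Cfsg.IsIrrCharacter G (μ i)) ∧ Function.Injective μ ∧ ∀ i, τ i = ε • (μ i - μ i₀) := by
  classical
  -- choose the two ends
  have hex : ∀ i : Fin n, ∃ ab : Cfsg.IrrCharacter G × Cfsg.IrrCharacter G,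
      i ≠ i₀ → (ab.1 ≠ ab.2 ∧ τ i = (ab.1 : G → ℂ) - (ab.2 : G → ℂ)) := by
    intro i
    by_cases hi : i = i₀
    · exact ⟨(Cfsg.Agent.Lib.Helper83.trivChar G, Cfsg.Agent.Lib.Helper83.trivChar G),
        fun h => absurd hi h⟩
    · have h2 := hgram i i hi hi
      rw [if_pos rfl] at h2
      obtain ⟨a, b, hab, hτ⟩ := diff_form (hgen i) (hone i) h2
      exact ⟨(a, b), fun _ => ⟨hab, hτ⟩⟩
  choose ab hab using hex
  set a : Fin n → Cfsg.IrrCharacter G := fun i => (ab i).1 with ha
  set b : Fin n → Cfsg.IrrCharacter G := fun i => (ab i).2 with hb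
  have hne : ∀ i, i ≠ i₀ → a i ≠ b i := fun i hi => (hab i hi).1
  have hτ : ∀ i, i ≠ i₀ → τ i = (a i : G → ℂ) - (b i : G → ℂ) := fun i hi => (hab i hi).2
  have hshare : ∀ i j, i ≠ i₀ → j ≠ i₀ → i ≠ j →
      (a i = a j ∧ b i ≠ b j) ∨ (b i = b j ∧ a i ≠ a j) := by
    intro i j hi hj hij
    have h := hgram i j hi hj
    rw [if_neg hij, hτ i hi, hτ j hj] at h
    exact share_end (hne i hi) (hne j hj) h
  -- is there a non-base index?
  by_cases hS : ∀ i : Fin n, i = i₀
  · refine ⟨1, Or.inl rfl, fun _ => (Cfsg.Agent.Lib.Helper83.trivChar G : G → ℂ),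
      fun _ => (Cfsg.Agent.Lib.Helper83.trivChar G).2, ?_, ?_⟩
    · intro i j _
      rw [hS i, hS j]
    · intro i
      rw [hS i, h0, sub_self, smul_zero]
  push_neg at hS
  obtain ⟨s, hs⟩ := hS
  by_cases hA : ∀ i, i ≠ i₀ → a i = a s
  · -- all share the left end
    refine ⟨-1, Or.inr rfl, fun i => if i = i₀ then (a s : G → ℂ) else (b i : G → ℂ), ?_, ?_, ?_⟩
    · intro i
      by_cases hi : i = i₀
      · simp only [hi, if_true]; exact (a s).2
      · simp only [hi, if_false]; exact (b i).2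
    · intro i j hij
      simp only at hij
      by_contra hne'
      by_cases hi : i = i₀
      · have hj : j ≠ i₀ := fun h => hne' (hi.trans h.symm)
        rw [if_pos hi, if_neg hj] at hij
        have : a j = b j := by rw [hA j hj]; exact Subtype.ext hij
        exact hne j hj this
      · by_cases hj : j = i₀
        · rw [if_neg hi, if_pos hj] at hij
          have : a i = b i := by rw [hA i hi]; exact Subtype.ext hij.symm
          exact hne i hi this
        · rw [if_neg hi, if_neg hj] at hij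
          have hbij : b i = b j := Subtype.ext hij
          rcases hshare i j hi hj hne' with ⟨_, h2⟩ | ⟨_, h2⟩
          · exact h2 hbij
          · exact h2 ((hA i hi).trans (hA j hj).symm)
    · intro i
      by_cases hi : i = i₀
      · rw [hi, h0, sub_self, smul_zero]
      · simp only [hi, if_false, if_true]
        rw [hτ i hi, hA i hi]
        funext g
        simp
  · -- all share the right end
    push_neg at hA
    obtain ⟨j₀, hj₀, hj₀a⟩ := hA
    have hj₀s : j₀ ≠ s := fun h => hj₀a (by rw [h])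
    have hbj₀ : b j₀ = b s := by
      rcases hshare j₀ s hj₀ hs hj₀s with ⟨h1, _⟩ | ⟨h1, _⟩
      · exact absurd h1 hj₀a
      · exact h1
    have hB : ∀ i, i ≠ i₀ → b i = b s := by
      intro i hi
      by_cases his : i = s
      · rw [his]
      · rcases hshare i s hi hs his with ⟨h1, h2⟩ | ⟨h1, _⟩
        · exfalso
          have hij : i ≠ j₀ := fun h => hj₀a (by rw [← h]; exact h1)
          rcases hshare i j₀ hi hj₀ hij with ⟨h3, _⟩ | ⟨h3, _⟩
          · exact hj₀a (h3.symm.trans h1)
          · exact h2 (h3.trans hbj₀)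
        · exact h1
    refine ⟨1, Or.inl rfl, fun i => if i = i₀ then (b s : G → ℂ) else (a i : G → ℂ), ?_, ?_, ?_⟩
    · intro i
      by_cases hi : i = i₀
      · simp only [hi, if_true]; exact (b s).2
      · simp only [hi, if_false]; exact (a i).2
    · intro i j hij
      simp only at hij
      by_contra hne'
      by_cases hi : i = i₀
      · have hj : j ≠ i₀ := fun h => hne' (hi.trans h.symm)
        rw [if_pos hi, if_neg hj] at hij
        have : a j = b j := by rw [hB j hj]; exact (Subtype.ext hij).symm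
        exact hne j hj this
      · by_cases hj : j = i₀
        · rw [if_neg hi, if_pos hj] at hij
          have : a i = b i := by rw [hB i hi]; exact Subtype.ext hij
          exact hne i hi this
        · rw [if_neg hi, if_neg hj] at hij
          have haij : a i = a j := Subtype.ext hij
          rcases hshare i j hi hj hne' with ⟨_, h2⟩ | ⟨_, h2⟩
          · exact h2 ((hB i hi).trans (hB j hj).symm)
          · exact h2 haij
    · intro i
      by_cases hi : i = i₀
      · rw [hi, h0, sub_self, smul_zero]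
      · simp only [hi, if_false, if_true]
        rw [hτ i hi, hB i hi, one_smul]

end Cfsg.Agent.S0198
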