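import Cfsg.Statements.S0171
import Cfsg.Agent.Lib.Helper84.Clifford
import Cfsg.Agent.Lib.Helper84.Brauer

set_option autoImplicit false
open Cfsg

namespace Cfsg.Agent.S0171

open Cfsg.Agent.Lib.Helper84

section

variable {G : Type*} [Group G] [Fintype G] (K : Subgroup G) [hK : K.Normal]

/-- A fixed-point-free element fixes only the trivial conjugacy class of `K`. -/
theorem class_eq_one_of_fixed (h : G) (hfix : ∀ k ∈ K, h * k = k * h → k = 1)
    (x : K) (hx : IsConj ((MulAut.conjNormal h : MulAut K) x) x) : x = 1 := by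
  classical
  -- the map `k ↦ k⁻¹ * (h k h⁻¹)` is injective, hence surjective
  let f : K → K := fun k => k⁻¹ * (MulAut.conjNormal h : MulAut K) k
  have hinj : Function.Injective f := by
    intro a b hab
    have h1 : (MulAut.conjNormal h : MulAut K) (b * a⁻¹) = b * a⁻¹ := by
      have : a⁻¹ * (MulAut.conjNormal h : MulAut K) a = b⁻¹ * (MulAut.conjNormal h : MulAut K) b := hab
      rw [map_mul, map_inv]
      have h2 : (MulAut.conjNormal h : MulAut K) a = a * (b⁻¹ * (MulAut.conjNormal h : MulAut K) b) := by
        rw [← this]; group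
      rw [h2]; group
    have h3 : (b * a⁻¹ : K) = 1 := by
      apply Subtype.ext
      apply hfix _ (b * a⁻¹ : K).2
      have := congrArg Subtype.val h1
      rw [MulAut.conjNormal_apply] at this
      calc h * ((b * a⁻¹ : K) : G) = (h * ((b * a⁻¹ : K) : G) * h⁻¹) * h := by group
        _ = ((b * a⁻¹ : K) : G) * h := by rw [this]
    exact (mul_inv_eq_one.mp h3).symm
  have hsurj : Function.Surjective f := Finite.surjective_of_injective hinj
  rw [isConj_comm, isConj_iff] at hx
  obtain ⟨c, hc⟩ := hx
  -- `hc : c * x * c⁻¹ = h x h⁻¹`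
  obtain ⟨k₀, hk₀⟩ := hsurj c⁻¹
  -- then `k₀ x k₀⁻¹` is fixed by `h`
  have hfixed : (MulAut.conjNormal h : MulAut K) (k₀ * x * k₀⁻¹) = k₀ * x * k₀⁻¹ := by
    have e1 : (MulAut.conjNormal h : MulAut K) k₀ = k₀ * c⁻¹ := by
      change k₀⁻¹ * (MulAut.conjNormal h : MulAut K) k₀ = c⁻¹ at hk₀
      rw [← hk₀]; group
    rw [map_mul, map_mul, map_inv, e1, ← hc]
    group
  have h4 : (k₀ * x * k₀⁻¹ : K) = 1 := by
    apply Subtype.ext
    apply hfix _ (k₀ * x * k₀⁻¹ : K).2
    have := congrArg Subtype.val hfixed
    rw [MulAut.conjNormal_apply] at this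
    calc h * ((k₀ * x * k₀⁻¹ : K) : G) = (h * ((k₀ * x * k₀⁻¹ : K) : G) * h⁻¹) * h := by group
      _ = ((k₀ * x * k₀⁻¹ : K) : G) * h := by rw [this]
  have : x = k₀⁻¹ * (k₀ * x * k₀⁻¹) * k₀ := by group
  rw [this, h4]; group

end

/-- Let G = K H with K normal, K ⊓ H trivial, and no non-identity element of H commuting with a non-identity element of K (a Frobenius group with kernel K and complement H). Then every non-principal irreducible character of K induces to an irreducible character of G. -/
theorem result {G : Type*} [Group G] [Fintype G] (K H : Subgroup G) [K.Normal] (hKH : K ⊓ H = ⊥) (hKH' : K ⊔ H = ⊤) (hfpf : ∀ h ∈ H, h ≠ 1 → ∀ k ∈ K, h * k = k * h → k = 1) (τ : K → ℂ) (hτ : Cfsg.IsIrrCharacter K τ) (hτ1 : τ ≠ fun _ => 1) : Cfsg.IsIrrCharacter G (Cfsg.indFun K τ) := by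
  classical
  have : Fintype K := Fintype.ofFinite _
  have hτc : IsClassFunction K τ :=
    Cfsg.Agent.Lib.Helper83.char_isClassFunction (Cfsg.Agent.Lib.Helper83.isCharacter_of_irr hτ)
  have hKfix : ∀ k ∈ K, conjFun K k τ = τ := by
    intro k hk
    funext n
    rw [conjFun_apply]
    exact hτc n ⟨k, hk⟩
  -- the inertia group of `τ` is `K`
  have hT : ∀ g : G, g ∈ K ↔ ∀ n : K, conjFun K g τ n = τ n := by
    intro g
    constructor
    · intro hg n
      exact congrFun (hKfix g hg) n
    · intro hg
      by_contra hgK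
      have hgmem : g ∈ (↑(K ⊔ H) : Set G) := by rw [hKH']; trivial
      rw [Subgroup.normal_mul] at hgmem
      obtain ⟨k, hk, h, hh, rfl⟩ := hgmem
      have hh1 : h ≠ 1 := by
        rintro rfl
        apply hgK
        simpa using hk
      have hfixh : conjFun K h τ = τ := by
        have e : h = k⁻¹ * (k * h) := by group
        rw [e, conjFun_mul, hKfix k⁻¹ (K.inv_mem hk)]
        exact funext hg
      -- Brauer's permutation lemma for conjugation by `h`
      let _ := classAction (G := G) K
      have key := brauer_pair (G := K)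
        (fun θ => ⟨conjFun K h θ.1, isIrrCharacter_conjFun K h θ.2⟩)
        (MulAction.toPerm (h⁻¹ : G)) ?_
      · have hcls : Nat.card {C : ConjClasses K // (MulAction.toPerm (h⁻¹ : G)) C = C} ≤ 1 := by
          rw [Finite.card_le_one_iff_subsingleton]
          constructor
          rintro ⟨C, hC⟩ ⟨D, hD⟩
          apply Subtype.ext
          have hone : ∀ E : ConjClasses K, (MulAction.toPerm (h⁻¹ : G)) E = E → E = 1 := by
            intro E hE
            obtain ⟨x, rfl⟩ := ConjClasses.exists_rep E
            change (h⁻¹ : G) • ConjClasses.mk x = ConjClasses.mk x at hE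
            rw [classAction_mk, ConjClasses.mk_eq_mk_iff_isConj] at hE
            have hx := class_eq_one_of_fixed K h⁻¹ (fun k hk hc => by
              apply hfpf h⁻¹ (H.inv_mem hh) (by simpa using hh1) k hk hc) x hE
            rw [hx, ConjClasses.one_eq_mk_one]
          exact (hone C hC).trans (hone D hD).symm
        rw [← key] at hcls
        rw [Finite.card_le_one_iff_subsingleton] at hcls
        have h1 : (⟨⟨τ, hτ⟩, Subtype.ext hfixh⟩ : {χ : IrrCharacter K // (⟨conjFun K h χ.1, isIrrCharacter_conjFun K h χ.2⟩ : IrrCharacter K) = χ}) =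
            ⟨⟨fun _ => 1, Cfsg.Agent.Lib.Helper83.isIrrCharacter_one⟩, Subtype.ext (by funext n; rfl)⟩ :=
          hcls.elim _ _
        apply hτ1
        exact congrArg (fun z => z.1.1) h1
      · intro θ k k' hk'
        change ConjClasses.mk k' = (h⁻¹ : G) • ConjClasses.mk k at hk'
        rw [classAction_mk, ConjClasses.mk_eq_mk_iff_isConj] at hk'
        change conjFun K h θ.1 k' = θ.1 k
        have hcl : IsClassFunction K (conjFun K h θ.1) :=
          Cfsg.Agent.Lib.Helper83.char_isClassFunction
            (Cfsg.Agent.Lib.Helper83.isCharacter_of_irr (isIrrCharacter_conjFun K h θ.2))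
        rw [isConj_comm, isConj_iff] at hk'
        obtain ⟨c, hc⟩ := hk'
        rw [← hc, hcl, conjFun_apply]
        have : (⟨h * ((MulAut.conjNormal h⁻¹ : MulAut K) k : G) * h⁻¹,
            Subgroup.Normal.conj_mem inferInstance _ ((MulAut.conjNormal h⁻¹ : MulAut K) k).2 h⟩ : K) = k := by
          apply Subtype.ext
          change h * ((MulAut.conjNormal h⁻¹ : MulAut K) k : G) * h⁻¹ = (k : G)
          rw [MulAut.conjNormal_apply]
          group
        rw [this]
  have hinner : classInner (resFun K K le_rfl τ) τ ≠ 0 := by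
    have : resFun K K le_rfl τ = τ := rfl
    rw [this, Cfsg.Agent.Lib.Helper83.irr_inner_self ⟨τ, hτ⟩]
    exact one_ne_zero
  exact isIrrCharacter_indFun_inertia K K le_rfl hτ hT hτ hinner

end Cfsg.Agent.S0171
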