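import Cfsg.Statements.S0172
import Mathlib

set_option autoImplicit false
open Cfsg

namespace Cfsg.Agent.S0172

open scoped Pointwise

section aux

/-- number of elements commuting with `x` -/
noncomputable def ncomm (X : Type*) [Group X] (x : X) : ℕ := Nat.card {y : X // Commute x y}

theorem sum_ncomm (X : Type*) [Group X] [Fintype X] :
    ∑ x : X, ncomm X x = Nat.card (ConjClasses X) * Nat.card X := by
  rw [← card_comm_eq_card_conjClasses_mul_card,
    Nat.card_congr (Equiv.subtypeProdEquivSigmaSubtype (Commute (S := X))), Nat.card_sigma]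
  rfl

theorem ncomm_one (X : Type*) [Group X] : ncomm X 1 = Nat.card X := by
  unfold ncomm
  exact Nat.card_congr (Equiv.subtypeUnivEquiv (fun y => Commute.one_left y))

variable {G : Type*} [Group G]

theorem ncomm_conj (g x : G) : ncomm G (g * x * g⁻¹) = ncomm G x := by
  unfold ncomm
  refine Nat.card_congr (Equiv.subtypeEquiv (MulAut.conj g⁻¹).toEquiv ?_)
  intro y
  simp only [MulEquiv.toEquiv_eq_coe, MulEquiv.coe_toEquiv, MulAut.conj_apply, inv_inv]
  constructor
  · intro h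
    have := (Commute.conj_iff g⁻¹).mpr h
    simpa [mul_assoc] using this
  · intro h
    have := (Commute.conj_iff g).mpr h
    simpa [mul_assoc] using this

theorem ncomm_subgroup (L : Subgroup G) (x : G) (hx : x ∈ L) (h : ∀ y, Commute x y → y ∈ L) :
    ncomm G x = ncomm L ⟨x, hx⟩ := by
  unfold ncomm
  refine Nat.card_congr
    { toFun := fun y => ⟨⟨y.1, h y.1 y.2⟩, ?_⟩
      invFun := fun y => ⟨y.1.1, ?_⟩
      left_inv := fun y => rfl
      right_inv := fun y => rfl }
  · apply Subtype.ext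
    exact y.2.eq
  · have := congrArg Subtype.val y.2.eq
    exact this

end aux

section frob
variable {G : Type*} [Group G] (K H : Subgroup G) [K.Normal]

theorem conj_inj (hKH : K ⊓ H = ⊥)
    (hfpf : ∀ h ∈ H, h ≠ 1 → ∀ k ∈ K, h * k = k * h → k = 1)
    {g g' h h' : G} (hg : g ∈ K) (hg' : g' ∈ K) (hh : h ∈ H) (hh' : h' ∈ H) (h1 : h ≠ 1)
    (heq : g * h * g⁻¹ = g' * h' * g'⁻¹) : g = g' ∧ h = h' := by
  have hu : g * h * g⁻¹ * h⁻¹ ∈ K := by
    have : g * h * g⁻¹ * h⁻¹ = g * (h * g⁻¹ * h⁻¹) := by group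
    rw [this]
    exact K.mul_mem hg (‹K.Normal›.conj_mem _ (K.inv_mem hg) h)
  have hu' : g' * h' * g'⁻¹ * h'⁻¹ ∈ K := by
    have : g' * h' * g'⁻¹ * h'⁻¹ = g' * (h' * g'⁻¹ * h'⁻¹) := by group
    rw [this]
    exact K.mul_mem hg' (‹K.Normal›.conj_mem _ (K.inv_mem hg') h')
  have hmem : h' * h⁻¹ ∈ K ⊓ H := by
    refine ⟨?_, H.mul_mem hh' (H.inv_mem hh)⟩
    have : h' * h⁻¹ = (g' * h' * g'⁻¹ * h'⁻¹)⁻¹ * (g * h * g⁻¹ * h⁻¹) := by
      rw [heq]; group
    rw [this]
    exact K.mul_mem (K.inv_mem hu') hu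
  rw [hKH, Subgroup.mem_bot] at hmem
  have hh'eq : h' = h := by
    have := mul_inv_eq_one.mp hmem
    exact this
  subst hh'eq
  refine ⟨?_, rfl⟩
  have hk : g⁻¹ * g' ∈ K := K.mul_mem (K.inv_mem hg) hg'
  have hcomm : h' * (g⁻¹ * g') = (g⁻¹ * g') * h' := by
    have : h' * (g⁻¹ * g') = g⁻¹ * (g * h' * g⁻¹) * g' := by group
    rw [this, heq]; group
  have := hfpf h' hh h1 _ hk hcomm
  have h2 : g' = g * (g⁻¹ * g') := by group
  rw [h2, this, mul_one]

theorem conj_not_mem (hKH : K ⊓ H = ⊥) {g h : G} (hh : h ∈ H) (h1 : h ≠ 1)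
    (hmem : g * h * g⁻¹ ∈ K) : False := by
  have : h ∈ K := by
    have h2 : h = g⁻¹ * (g * h * g⁻¹) * g⁻¹⁻¹ := by group
    rw [h2]
    exact ‹K.Normal›.conj_mem _ hmem g⁻¹
  have h3 : h ∈ K ⊓ H := ⟨this, hh⟩
  rw [hKH, Subgroup.mem_bot] at h3
  exact h1 h3

end frob

/-- Class number of a Frobenius group: if G = K H with K normal, K ⊓ H trivial and no non-identity element of H commuting with a non-identity element of K, then |H| * k(G) + 1 = |H| * k(H) + k(K), where k denotes the number of conjugacy classes. -/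
theorem result {G : Type*} [Group G] [Finite G] (K H : Subgroup G) [K.Normal] (hKH : K ⊓ H = ⊥) (hKH' : K ⊔ H = ⊤) (hfpf : ∀ h ∈ H, h ≠ 1 → ∀ k ∈ K, h * k = k * h → k = 1) : Nat.card H * Nat.card (ConjClasses G) + 1 = Nat.card H * Nat.card (ConjClasses H) + Nat.card (ConjClasses K) := by
  classical
  letI : Fintype G := Fintype.ofFinite G
  have hcompl : Subgroup.IsComplement' K H := by
    have hmul : (K : Set G) * (H : Set G) = Set.univ := by
      rw [← Subgroup.normal_mul, hKH']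
      exact Subgroup.coe_top
    exact Subgroup.isComplement'_of_disjoint_and_mul_eq_univ (disjoint_iff.mpr hKH) hmul
  have hcard : Nat.card K * Nat.card H = Nat.card G := hcompl.card_mul_card
  -- the conjugation map
  let S := K × {h : H // h ≠ 1}
  let T := {x : G // x ∉ K}
  let e : S → T := fun s => ⟨(s.1 : G) * (s.2.1 : G) * (s.1 : G)⁻¹, fun hmem =>
    conj_not_mem K H hKH s.2.1.2 (fun h => s.2.2 (Subtype.ext h)) hmem⟩
  have hinj : Function.Injective e := by
    intro s s' hss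
    have heq : (s.1 : G) * (s.2.1 : G) * (s.1 : G)⁻¹ = (s'.1 : G) * (s'.2.1 : G) * (s'.1 : G)⁻¹ :=
      congrArg Subtype.val hss
    obtain ⟨h1, h2⟩ := conj_inj K H hKH hfpf s.1.2 s'.1.2 s.2.1.2 s'.2.1.2
      (fun h => s.2.2 (Subtype.ext h)) heq
    apply Prod.ext
    · exact Subtype.ext h1
    · exact Subtype.ext (Subtype.ext h2)
  have hcardST : Fintype.card S = Fintype.card T := by
    have h1 : Fintype.card S = Fintype.card K * (Fintype.card H - 1) := by
      rw [Fintype.card_prod, Fintype.card_subtype_compl, Fintype.card_subtype_eq]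
    have h2 : Fintype.card T = Fintype.card G - Fintype.card K := by
      rw [Fintype.card_subtype_compl]
    rw [h1, h2, Nat.mul_sub, mul_one, ← Nat.card_eq_fintype_card, ← Nat.card_eq_fintype_card,
      ← Nat.card_eq_fintype_card, hcard]
  have hbij : Function.Bijective e :=
    (Fintype.bijective_iff_injective_and_card e).mpr ⟨hinj, hcardST⟩
  -- centralizers
  have hsurj : ∀ x : G, x ∉ K → ∃ g ∈ K, ∃ h ∈ H, h ≠ 1 ∧ x = g * h * g⁻¹ := by
    intro x hx
    obtain ⟨s, hs⟩ := hbij.2 ⟨x, hx⟩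
    refine ⟨s.1, s.1.2, s.2.1, s.2.1.2, fun h => s.2.2 (Subtype.ext h), ?_⟩
    exact (congrArg Subtype.val hs).symm
  have hcentH : ∀ h ∈ H, h ≠ 1 → ∀ y, Commute h y → y ∈ H := by
    intro h hh h1 y hy
    obtain ⟨⟨k, h₂⟩, hkh⟩ := hcompl.2 y
    simp only at hkh
    have heq : (k : G) * ((h₂ : G) * h * (h₂ : G)⁻¹) * (k : G)⁻¹ = 1 * h * 1⁻¹ := by
      have : (k : G) * ((h₂ : G) * h * (h₂ : G)⁻¹) * (k : G)⁻¹ = y * h * y⁻¹ := by
        rw [← hkh]; group
      rw [this, ← hy.eq]; group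
    have h3 : (h₂ : G) * h * (h₂ : G)⁻¹ ≠ 1 := by
      intro h4
      apply h1
      have : h = (h₂ : G)⁻¹ * ((h₂ : G) * h * (h₂ : G)⁻¹) * h₂ := by group
      rw [this, h4]; group
    obtain ⟨hk1, -⟩ := conj_inj K H hKH hfpf k.2 K.one_mem
      (H.mul_mem (H.mul_mem h₂.2 hh) (H.inv_mem h₂.2)) hh h3 heq
    rw [← hkh, hk1, one_mul]
    exact h₂.2
  have hcentK : ∀ x ∈ K, x ≠ 1 → ∀ y, Commute x y → y ∈ K := by
    intro x hx x1 y hy
    by_contra hyK
    obtain ⟨g, hg, h, hh, h1, rfl⟩ := hsurj y hyK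
    have hx' : g⁻¹ * x * g ∈ K := by
      have := ‹K.Normal›.conj_mem x hx g⁻¹
      simpa using this
    have hcomm : h * (g⁻¹ * x * g) = (g⁻¹ * x * g) * h := by
      have e1 : h * (g⁻¹ * x * g) = g⁻¹ * ((g * h * g⁻¹) * x) * g := by group
      have e2 : (g⁻¹ * x * g) * h = g⁻¹ * (x * (g * h * g⁻¹)) * g := by group
      rw [e1, e2, hy.eq]
    have := hfpf h hh h1 _ hx' hcomm
    apply x1
    have e3 : x = g * (g⁻¹ * x * g) * g⁻¹ := by group
    rw [e3, this]; group
  -- the sums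
  have hsumG := sum_ncomm G
  letI : Fintype K := Fintype.ofFinite K
  letI : Fintype H := Fintype.ofFinite H
  have hsumK := sum_ncomm K
  have hsumH := sum_ncomm H
  -- split the sum over G
  have hsplit : ∑ x : G, ncomm G x =
      ∑ x : {x : G // x ∈ K}, ncomm G x.1 + ∑ x : T, ncomm G x.1 := by
    rw [← Finset.sum_filter_add_sum_filter_not Finset.univ (fun x : G => x ∈ K)]
    congr 1
    · exact Finset.sum_subtype _ (by simp) _
    · exact Finset.sum_subtype _ (by simp) _
  -- the part inside K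
  have hpartK : ∑ x : {x : G // x ∈ K}, ncomm G x.1 + Nat.card K =
      ∑ x : K, ncomm K x + Nat.card G := by
    have h1 : ∀ x : K, x ≠ 1 → ncomm G x.1 = ncomm K x := by
      intro x hx
      have hx1 : (x : G) ≠ 1 := fun h => hx (Subtype.ext h)
      exact ncomm_subgroup K x.1 x.2 (hcentK x.1 x.2 hx1)
    have e1 : ∑ x : {x : G // x ∈ K}, ncomm G x.1 = ∑ x : K, ncomm G x.1 := by
      apply Fintype.sum_equiv (Equiv.refl _)
      intro x; rfl
    rw [e1, ← Finset.add_sum_erase Finset.univ (fun x : K => ncomm G x.1) (Finset.mem_univ 1),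
      ← Finset.add_sum_erase Finset.univ (fun x : K => ncomm K x) (Finset.mem_univ 1)]
    have e2 : ∑ x ∈ Finset.univ.erase (1 : K), ncomm G x.1 =
        ∑ x ∈ Finset.univ.erase (1 : K), ncomm K x := by
      apply Finset.sum_congr rfl
      intro x hx
      exact h1 x (Finset.ne_of_mem_erase hx)
    rw [e2]
    show ncomm G ((1 : K) : G) + _ + _ = _
    rw [Subgroup.coe_one, ncomm_one, ncomm_one]
    ring
  -- the part outside K
  have hpartT : ∑ x : T, ncomm G x.1 + Nat.card K * Nat.card H =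
      Nat.card K * ∑ h : H, ncomm H h := by
    have e1 : ∑ x : T, ncomm G x.1 = ∑ s : S, ncomm H s.2.1 := by
      symm
      apply Fintype.sum_bijective e hbij
      intro s
      show ncomm H s.2.1 = ncomm G ((s.1 : G) * (s.2.1 : G) * (s.1 : G)⁻¹)
      rw [ncomm_conj]
      have hs1 : ((s.2.1 : H) : G) ≠ 1 := fun h => s.2.2 (Subtype.ext h)
      exact (ncomm_subgroup H _ s.2.1.2 (hcentH _ s.2.1.2 hs1)).symm
    rw [e1, Fintype.sum_prod_type]
    simp only [Finset.sum_const, Finset.card_univ, smul_eq_mul]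
    have e2 : ∑ h : H, ncomm H h = Nat.card H + ∑ h : {h : H // h ≠ 1}, ncomm H h.1 := by
      rw [← Finset.add_sum_erase Finset.univ (fun x : H => ncomm H x) (Finset.mem_univ 1), ncomm_one]
      congr 1
      apply Finset.sum_subtype
      intro x
      simp
    rw [e2, Nat.card_eq_fintype_card (α := K)]
    ring
  -- arithmetic
  have hKpos : 0 < Nat.card K := Nat.card_pos
  apply Nat.eq_of_mul_eq_mul_left hKpos
  zify at hsumG hsumK hsumH hsplit hpartK hpartT hcard ⊢
  rw [hsumG] at hsplit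
  rw [hsumK] at hpartK
  rw [hsumH] at hpartT
  rw [← hcard] at hsplit hpartK
  linear_combination hsplit + hpartK + hpartT

end Cfsg.Agent.S0172
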