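import Cfsg.Statements.S0177
import Cfsg.Agent.Lib.Helper05.CharDecomp
import Cfsg.Agent.Lib.Helper83.Completeness
import Cfsg.Agent.Lib.Helper83.Abelian
import Cfsg.Agent.Lib.Helper83.Linear
import Cfsg.Agent.Lib.Helper34.Induction
-- import your own Cfsg.Agent.* helpers here

set_option autoImplicit false
open Cfsg

namespace Cfsg.Agent.S0177

open Cfsg.Agent.Lib.Helper05
open scoped ComplexConjugate

/-- A finite sum of (complex) integers is an integer. -/
theorem exists_int_sum {ι : Type*} (s : Finset ι) (F : ι → ℂ)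
    (h : ∀ i ∈ s, ∃ z : ℤ, F i = z) : ∃ z : ℤ, ∑ i ∈ s, F i = z := by
  classical
  induction s using Finset.induction_on with
  | empty => exact ⟨0, by simp⟩
  | insert a s ha ih =>
    obtain ⟨z1, hz1⟩ := h a (Finset.mem_insert_self a s)
    obtain ⟨z2, hz2⟩ := ih (fun i hi => h i (Finset.mem_insert_of_mem hi))
    refine ⟨z1 + z2, ?_⟩
    rw [Finset.sum_insert ha, hz1, hz2]
    push_cast
    rfl

open Classical in
/-- The sum of the values of a character over the generators of a subgroup is an integer. -/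
theorem sum_zpowers_eq_int {G : Type*} [Group G] [Fintype G] {ψ : G → ℂ}
    (hψ : IsCharacter G ψ) (B : Subgroup G) :
    ∃ z : ℤ, ∑ g ∈ Finset.univ.filter (fun g : G => Subgroup.zpowers g = B), ψ g = z := by
  classical
  induction' hn : Nat.card B using Nat.strong_induction_on with n ih generalizing B
  haveI : Fintype B := Fintype.ofFinite B
  -- the total sum over `B`
  have htot : ∃ m : ℕ, ∑ g ∈ Finset.univ.filter (fun g : G => g ∈ B), ψ g =
      ((Nat.card B * m : ℕ) : ℂ) := by
    obtain ⟨m, hm⟩ := exists_nat_classInner (isCharacter_restrict B hψ)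
      (isIrrCharacter_one (G := B))
    refine ⟨m, ?_⟩
    unfold classInner at hm
    simp only [map_one, mul_one] at hm
    have hB : (Nat.card B : ℂ) ≠ 0 := by exact_mod_cast Nat.card_pos.ne'
    have h1 : ∑ g ∈ Finset.univ.filter (fun g : G => g ∈ B), ψ g = ∑ b : B, ψ (b : G) := by
      rw [Finset.sum_subtype (Finset.univ.filter (fun g : G => g ∈ B)) (p := fun g => g ∈ B)
        (by simp) ψ]
    rw [h1, Nat.cast_mul, ← hm, mul_inv_cancel_left₀ hB]
  obtain ⟨m, hm⟩ := htot
  have hfib := Finset.sum_fiberwise_of_maps_to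
    (s := Finset.univ.filter (fun g : G => g ∈ B))
    (t := Finset.univ.filter (fun C : Subgroup G => C ≤ B))
    (g := fun g : G => Subgroup.zpowers g) (f := ψ)
    (by
      intro x hx
      rw [Finset.mem_filter] at hx ⊢
      exact ⟨Finset.mem_univ _, Subgroup.zpowers_le.mpr hx.2⟩)
  have hinner : ∀ C ∈ Finset.univ.filter (fun C : Subgroup G => C ≤ B),
      ∑ x ∈ (Finset.univ.filter (fun g : G => g ∈ B)).filter
        (fun g : G => Subgroup.zpowers g = C), ψ x =
      ∑ x ∈ Finset.univ.filter (fun g : G => Subgroup.zpowers g = C), ψ x := by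
    intro C hC
    rw [Finset.mem_filter] at hC
    congr 1
    ext x
    simp only [Finset.mem_filter, Finset.mem_univ, true_and, and_iff_right_iff_imp]
    intro hx
    apply hC.2
    rw [← hx]
    exact Subgroup.mem_zpowers x
  rw [Finset.sum_congr rfl hinner] at hfib
  have hBmem : B ∈ Finset.univ.filter (fun C : Subgroup G => C ≤ B) := by
    rw [Finset.mem_filter]; exact ⟨Finset.mem_univ _, le_refl B⟩
  rw [← Finset.add_sum_erase _ _ hBmem, hm] at hfib
  obtain ⟨z, hz⟩ := exists_int_sum ((Finset.univ.filter (fun C : Subgroup G => C ≤ B)).erase B)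
    (fun C => ∑ x ∈ Finset.univ.filter (fun g : G => Subgroup.zpowers g = C), ψ x) (by
      intro C hC
      rw [Finset.mem_erase, Finset.mem_filter] at hC
      obtain ⟨hne, -, hle⟩ := hC
      have hlt : Nat.card C < n := by
        rw [← hn]
        by_contra hcon
        push Not at hcon
        exact hne (Subgroup.eq_of_le_of_card_ge hle hcon)
      exact ih (Nat.card C) hlt C rfl)
  rw [hz] at hfib
  refine ⟨(Nat.card B * m : ℕ) - z, ?_⟩
  push_cast at hfib ⊢
  rw [← hfib]
  ring

open Classical in
/-- Step 1: `|G| χ` is the sum over the cyclic subgroups `A` of the functions induced from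
`|A| χ` restricted to the generators of `A`. -/
theorem card_smul_eq_sum_indFun {G : Type*} [Group G] [Fintype G] [Fintype (Subgroup G)]
    {χ : G → ℂ} (hχ : IsClassFunction G χ) :
    (Nat.card G : ℂ) • χ = ∑ A ∈ Finset.univ.filter (fun A : Subgroup G => IsCyclic A),
      indFun A (fun a : A => if Subgroup.zpowers a = ⊤ then (Nat.card A : ℂ) * χ a else 0) := by
  funext g
  simp only [Pi.smul_apply, Finset.sum_apply, smul_eq_mul]
  have hiff : ∀ (A : Subgroup G) (a : A), Subgroup.zpowers a = ⊤ ↔ Subgroup.zpowers (a : G) = A := by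
    intro A a
    have h1 : (Subgroup.zpowers a).map A.subtype = Subgroup.zpowers (a : G) := by
      rw [MonoidHom.map_zpowers]; rfl
    have h2 : (⊤ : Subgroup A).map A.subtype = A := by
      rw [← MonoidHom.range_eq_map, Subgroup.range_subtype]
    constructor
    · intro h
      rw [← h1, h, h2]
    · intro h
      apply Subgroup.map_injective (Subgroup.subtype_injective A)
      rw [h1, h2, h]
  have h1 : ∀ A : Subgroup G, indFun A (fun a : A => if Subgroup.zpowers a = ⊤ then
      (Nat.card A : ℂ) * χ a else 0) g =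
      ∑ x : G, if Subgroup.zpowers (x⁻¹ * g * x) = A then χ g else 0 := by
    intro A
    have hA : (Nat.card A : ℂ) ≠ 0 := by exact_mod_cast Nat.card_pos.ne'
    rw [Cfsg.Agent.Lib.Helper34.indFun_apply, Finset.mul_sum]
    refine Finset.sum_congr rfl fun x _ => ?_
    by_cases hx : x⁻¹ * g * x ∈ A
    · rw [Cfsg.Agent.Lib.Helper34.extendByZero_apply_mem A _ hx]
      simp only [hiff]
      split_ifs with h
      · have : χ (x⁻¹ * g * x) = χ g := by
          have := hχ g x⁻¹
          simpa using this
        rw [this, inv_mul_cancel_left₀ hA]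
      · rw [mul_zero]
    · rw [Cfsg.Agent.Lib.Helper34.extendByZero_apply_not_mem A _ hx, mul_zero, if_neg]
      intro h
      apply hx
      rw [← h]
      exact Subgroup.mem_zpowers _
  simp only [h1]
  rw [Finset.sum_comm]
  have h2 : ∀ x : G, ∑ A ∈ Finset.univ.filter (fun A : Subgroup G => IsCyclic A),
      (if Subgroup.zpowers (x⁻¹ * g * x) = A then χ g else 0) = χ g := by
    intro x
    rw [Finset.sum_ite_eq, if_pos]
    rw [Finset.mem_filter]
    exact ⟨Finset.mem_univ _, inferInstance⟩
  simp only [h2, Finset.sum_const, Finset.card_univ, nsmul_eq_mul, Nat.card_eq_fintype_card]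

open Classical in
/-- Steps 2-4: on a cyclic group, `|A| χ` restricted to the generators is an integer combination
of homomorphisms to `ℂˣ`. -/
theorem cyclic_decomp {A : Type*} [Group A] [Fintype A] [IsCyclic A] [Fintype (IrrCharacter A)]
    {χ : A → ℂ} (hχ : IsCharacter A χ) :
    ∃ (μ : IrrCharacter A → (A →* ℂˣ)) (z : IrrCharacter A → ℤ),
      (fun a : A => if Subgroup.zpowers a = ⊤ then (Nat.card A : ℂ) * χ a else 0) =
        ∑ lam : IrrCharacter A, (z lam : ℂ) • (fun a => ((μ lam a : ℂˣ) : ℂ)) := by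
  have hcomm : ∀ a b : A, a * b = b * a := fun a b => IsMulCommutative.is_comm.comm a b
  obtain ⟨f, hf⟩ : ∃ f : A → ℂ, f = fun a : A => if Subgroup.zpowers a = ⊤ then
      (Nat.card A : ℂ) * χ a else 0 := ⟨_, rfl⟩
  rw [← hf]
  have hfc : IsClassFunction A f := by
    intro g h
    rw [hcomm h g, mul_inv_cancel_right]
  have hdecomp := Cfsg.Agent.Lib.Helper83.classFunction_eq_sum_irr hfc
  have hz : ∀ lam : IrrCharacter A, ∃ z : ℤ, classInner f (lam : A → ℂ) = z := by
    intro lam
    have hψ : IsCharacter A (χ * fun a => conj ((lam : A → ℂ) a)) :=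
      isCharacter_mul hχ (isCharacter_conj (IsIrrCharacter.isCharacter lam.2))
    obtain ⟨z, hz⟩ := sum_zpowers_eq_int hψ ⊤
    refine ⟨z, ?_⟩
    rw [← hz]
    unfold classInner
    have hA : (Nat.card A : ℂ) ≠ 0 := by exact_mod_cast Nat.card_pos.ne'
    rw [Finset.sum_filter, Finset.mul_sum]
    refine Finset.sum_congr rfl fun a _ => ?_
    rw [hf]
    simp only [Pi.mul_apply]
    split_ifs with h
    · rw [mul_assoc, inv_mul_cancel_left₀ hA]
    · rw [zero_mul, mul_zero]
  have hμ : ∀ lam : IrrCharacter A, ∃ μ : A →* ℂˣ,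
      (lam : A → ℂ) = fun a => ((μ a : ℂˣ) : ℂ) := by
    intro lam
    have h1 := Cfsg.Agent.Lib.Helper83.irr_degree_one_of_comm hcomm lam
    have hc := IsIrrCharacter.isCharacter lam.2
    exact ⟨(Cfsg.Agent.Lib.Helper83.linCharHom hc h1).toHomUnits, rfl⟩
  choose z hz using hz
  choose μ hμ using hμ
  refine ⟨μ, z, ?_⟩
  conv_lhs => rw [hdecomp]
  refine Finset.sum_congr rfl fun lam _ => ?_
  rw [hz lam, ← hμ lam]

/-- Gluing lists along a finite sum. -/
theorem exists_list_of_finset_sum {ι α M : Type*} [AddCommMonoid M] (F : α → M) (P : α → Prop)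
    (s : Finset ι) (v : ι → M)
    (h : ∀ i ∈ s, ∃ l : List α, (∀ t ∈ l, P t) ∧ (l.map F).sum = v i) :
    ∃ l : List α, (∀ t ∈ l, P t) ∧ (l.map F).sum = ∑ i ∈ s, v i := by
  classical
  induction s using Finset.induction_on with
  | empty => exact ⟨[], by simp, by simp⟩
  | insert a s ha ih =>
    obtain ⟨l1, hl1, hs1⟩ := h a (Finset.mem_insert_self a s)
    obtain ⟨l2, hl2, hs2⟩ := ih (fun i hi => h i (Finset.mem_insert_of_mem hi))
    refine ⟨l1 ++ l2, ?_, ?_⟩
    · intro t ht
      rcases List.mem_append.mp ht with ht | ht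
      · exact hl1 t ht
      · exact hl2 t ht
    · rw [List.map_append, List.sum_append, hs1, hs2, Finset.sum_insert ha]

/-- The Artin induction Theorem: for a character χ of a finite group, |G| • χ is a ℤ-linear combination of functions induced from homomorphisms of cyclic subgroups into ℂˣ. -/
theorem result {G : Type*} [Group G] [Fintype G] (χ : G → ℂ) (hχ : Cfsg.IsCharacter G χ) : ∃ l : List ((A : Subgroup G) × ((A →* ℂˣ) × ℤ)), (∀ t ∈ l, IsCyclic t.1) ∧ (Nat.card G : ℂ) • χ = (l.map fun t => (t.2.2 : ℂ) • Cfsg.indFun t.1 (fun a => (t.2.1 a : ℂ))).sum := by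
  classical
  haveI : Fintype (Subgroup G) := Fintype.ofFinite _
  have hcf := Cfsg.Agent.Lib.Helper83.char_isClassFunction hχ
  rw [card_smul_eq_sum_indFun hcf]
  have key := exists_list_of_finset_sum
    (α := (A : Subgroup G) × ((A →* ℂˣ) × ℤ))
    (fun t => (t.2.2 : ℂ) • Cfsg.indFun t.1 (fun a => (t.2.1 a : ℂ)))
    (fun t => IsCyclic t.1)
    (Finset.univ.filter (fun A : Subgroup G => IsCyclic A))
    (fun A => indFun A (fun a : A => if Subgroup.zpowers a = ⊤ then (Nat.card A : ℂ) * χ a else 0))
    (by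
      intro A hA
      rw [Finset.mem_filter] at hA
      haveI : IsCyclic A := hA.2
      haveI : Fintype A := Fintype.ofFinite A
      haveI : Fintype (IrrCharacter A) := Fintype.ofFinite _
      obtain ⟨μ, z, hμz⟩ := cyclic_decomp (isCharacter_restrict A hχ)
      rw [hμz, Cfsg.Agent.Lib.Helper34.indFun_sum]
      apply exists_list_of_finset_sum
      intro lam _
      refine ⟨[⟨A, (μ lam, z lam)⟩], ?_, ?_⟩
      · intro t ht
        rw [List.mem_singleton] at ht
        rw [ht]
        exact hA.2
      · simp only [List.map_cons, List.map_nil, List.sum_cons, List.sum_nil, add_zero]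
        rw [Cfsg.Agent.Lib.Helper34.indFun_smul])
  obtain ⟨l, hl, hsum⟩ := key
  exact ⟨l, hl, hsum.symm⟩

end Cfsg.Agent.S0177
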