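import Cfsg.Statements.S0178
import Cfsg.Agent.Lib.Helper05.CharDecomp

set_option autoImplicit false
open Cfsg

namespace Cfsg.Agent.S0178

open Cfsg.Agent.Lib.Helper05 Module

/-- The degree of an irreducible complex representation of a finite group is at most the index of any abelian subgroup. -/
theorem result {G : Type*} [Group G] [Finite G] {V : Type*} [AddCommGroup V] [Module ℂ V] [FiniteDimensional ℂ V] (ρ : Representation ℂ G V) [ρ.IsIrreducible] (A : Subgroup G) (hA : ∀ a ∈ A, ∀ b ∈ A, a * b = b * a) : Module.finrank ℂ V ≤ A.index := by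
  classical
  have hirr : ρ.IsIrreducible := inferInstance
  rw [isIrreducible_iff] at hirr
  obtain ⟨hnt, hirr⟩ := hirr
  haveI := hnt
  haveI : Fintype (G ⧸ A) := Fintype.ofFinite _
  -- a common eigenvector for A
  let σ : Representation ℂ A V := ρ.comp A.subtype
  obtain ⟨U, hU, hUirr⟩ := exists_irreducible_invariant σ
  haveI : IsMulCommutative A := isMulCommutative_iff.mpr (fun a b => by
    apply Subtype.ext
    exact hA a a.2 b b.2)
  haveI := hUirr
  have hU1 : finrank ℂ U = 1 :=
    Representation.IsIrreducible.finrank_eq_one_of_isMulCommutative (σ.subrepresentation U hU)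
  obtain ⟨v, hv0, hv⟩ := finrank_eq_one_iff'.mp hU1
  have hv0' : (v : V) ≠ 0 := fun h => hv0 (Subtype.ext h)
  have heig : ∀ a ∈ A, ∃ c : ℂ, ρ a (v : V) = c • (v : V) := by
    intro a ha
    have hmem : σ ⟨a, ha⟩ (v : V) ∈ U := hU ⟨a, ha⟩ v.2
    obtain ⟨c, hc⟩ := hv ⟨_, hmem⟩
    refine ⟨c, ?_⟩
    have h1 := congrArg Subtype.val hc
    have h2 : c • (v : V) = σ ⟨a, ha⟩ (v : V) := by simpa using h1
    exact h2.symm
  -- the span of the translates by coset representatives
  set S : Submodule ℂ V := Submodule.span ℂ (Set.range (fun q : G ⧸ A => ρ q.out (v : V))) with hS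
  have hSinv : ∀ g : G, ∀ w ∈ S, ρ g w ∈ S := by
    intro g w hw
    rw [hS] at hw ⊢
    induction hw using Submodule.span_induction with
    | mem x hx =>
      obtain ⟨q, rfl⟩ := hx
      set q' : G ⧸ A := ((g * q.out : G) : G ⧸ A) with hq'
      have hmem : q'.out⁻¹ * (g * q.out) ∈ A := by
        rw [← QuotientGroup.eq, QuotientGroup.out_eq']
      obtain ⟨c, hc⟩ := heig _ hmem
      have h1 : ρ g (ρ q.out (v : V)) = ρ q'.out (ρ (q'.out⁻¹ * (g * q.out)) (v : V)) := by
        rw [← Module.End.mul_apply, ← Module.End.mul_apply, ← map_mul, ← map_mul]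
        congr 2
        group
      rw [h1, hc, map_smul]
      exact Submodule.smul_mem _ _ (Submodule.subset_span ⟨q', rfl⟩)
    | zero => simp
    | add x y _ _ hx hy => rw [map_add]; exact Submodule.add_mem _ hx hy
    | smul c x _ hx => rw [map_smul]; exact Submodule.smul_mem _ _ hx
  have hStop : S = ⊤ := by
    rcases hirr S hSinv with h | h
    · exfalso
      have hmem : ρ ((1 : G) : G ⧸ A).out (v : V) ∈ S := Submodule.subset_span ⟨_, rfl⟩
      rw [h, Submodule.mem_bot] at hmem
      apply hv0'
      have h2 := congrArg (ρ (((1 : G) : G ⧸ A).out)⁻¹) hmem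
      rw [← Module.End.mul_apply, ← map_mul, inv_mul_cancel, map_one, map_zero] at h2
      exact h2
    · exact h
  have hle : finrank ℂ S ≤ Fintype.card (G ⧸ A) := by
    rw [hS]
    exact finrank_range_le_card (fun q : G ⧸ A => ρ q.out (v : V))
  rw [hStop, finrank_top] at hle
  rw [Subgroup.index, Nat.card_eq_fintype_card]
  exact hle

end Cfsg.Agent.S0178
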