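import Cfsg.Statements.S0180
import Cfsg.Agent.Lib.Helper80.GaloisValues
import Cfsg.Agent.Lib.Helper83.SecondOrth

set_option autoImplicit false
open Cfsg

namespace Cfsg.Agent.S0180

open scoped ComplexConjugate

/-- Every irreducible complex character of a finite group takes only rational values if and only if g is conjugate to g ^ m for every element g and every m coprime to the group order. -/
theorem result {G : Type*} [Group G] [Finite G] : (∀ χ : Cfsg.IrrCharacter G, ∀ g : G, ∃ q : ℚ, (χ : G → ℂ) g = (q : ℂ)) ↔ ∀ m : ℕ, m.Coprime (Nat.card G) → ∀ g : G, IsConj g (g ^ m) := by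
  classical
  letI : Fintype G := Fintype.ofFinite G
  letI : Fintype (IrrCharacter G) := Fintype.ofFinite _
  constructor
  · intro hrat m hm g
    have h1 := Cfsg.Agent.Lib.Helper83.second_orthogonality g (g ^ m)
    have h2 := Cfsg.Agent.Lib.Helper83.second_orthogonality (g ^ m) (g ^ m)
    have h3 : ∑ χ : IrrCharacter G, (χ : G → ℂ) g * conj ((χ : G → ℂ) (g ^ m)) =
        ∑ χ : IrrCharacter G, (χ : G → ℂ) (g ^ m) * conj ((χ : G → ℂ) (g ^ m)) := by
      apply Finset.sum_congr rfl
      intro χ _
      obtain ⟨q, hq⟩ := hrat χ g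
      rw [Cfsg.Agent.Lib.Helper80.char_pow_eq_of_rat
        (Cfsg.Agent.Lib.Helper05.IsIrrCharacter.isCharacter χ.2) m hm g q hq]
    rw [h3, h2, if_pos (IsConj.refl _)] at h1
    by_contra hcon
    rw [if_neg hcon] at h1
    have hpos : 0 < Nat.card (Subgroup.centralizer ({g ^ m} : Set G)) := Nat.card_pos
    have : (Nat.card (Subgroup.centralizer ({g ^ m} : Set G)) : ℂ) ≠ 0 := by
      exact_mod_cast hpos.ne'
    exact this h1
  · intro hconj χ g
    exact Cfsg.Agent.Lib.Helper80.char_rat_of_conj_pow
      (Cfsg.Agent.Lib.Helper05.IsIrrCharacter.isCharacter χ.2) g (fun m hm => hconj m hm g)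

end Cfsg.Agent.S0180
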