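import Cfsg.Statements.S0181
import Cfsg.Agent.Lib.Helper05.CharBasic
import Cfsg.Agent.Lib.Helper83.SecondOrth
import Cfsg.Agent.Lib.Helper83.Quotient
import Cfsg.Agent.Lib.Helper04.CharScalar
-- import your own Cfsg.Agent.* helpers here

set_option autoImplicit false
open Cfsg

namespace Cfsg.Agent.S0181

open Cfsg.Agent.Lib.Helper05 Cfsg.Agent.Lib.Helper83 Cfsg.Agent.Lib.Helper04
open scoped ComplexConjugate

/-- If `g` commutes with no non-identity element of the normal subgroup `H`, the centraliser of `g`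
embeds into the centraliser of its image in `G ⧸ H`. -/
theorem card_centralizer_le {G : Type*} [Group G] [Finite G] (H : Subgroup G) [H.Normal] (g : G)
    (hg : ∀ h ∈ H, h * g = g * h → h = 1) :
    Nat.card (Subgroup.centralizer ({g} : Set G)) ≤
      Nat.card (Subgroup.centralizer ({(QuotientGroup.mk g : G ⧸ H)} : Set (G ⧸ H))) := by
  have hmem : ∀ x : Subgroup.centralizer ({g} : Set G),
      (QuotientGroup.mk (x : G) : G ⧸ H) ∈
        Subgroup.centralizer ({(QuotientGroup.mk g : G ⧸ H)} : Set (G ⧸ H)) := by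
    intro x
    rw [Subgroup.mem_centralizer_iff]
    intro y hy
    rw [Set.mem_singleton_iff] at hy
    subst hy
    have hx := Subgroup.mem_centralizer_iff.mp x.2 g (Set.mem_singleton g)
    rw [← QuotientGroup.mk_mul, ← QuotientGroup.mk_mul, hx]
  apply Nat.card_le_card_of_injective (fun x : Subgroup.centralizer ({g} : Set G) =>
    (⟨QuotientGroup.mk (x : G), hmem x⟩ :
      Subgroup.centralizer ({(QuotientGroup.mk g : G ⧸ H)} : Set (G ⧸ H))))
  intro x y hxy
  have h1 : (QuotientGroup.mk (x : G) : G ⧸ H) = QuotientGroup.mk (y : G) :=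
    congrArg Subtype.val hxy
  rw [QuotientGroup.eq] at h1
  have hx := Subgroup.mem_centralizer_iff.mp x.2 g (Set.mem_singleton g)
  have hy := Subgroup.mem_centralizer_iff.mp y.2 g (Set.mem_singleton g)
  have h2 : ((x : G)⁻¹ * y) * g = g * ((x : G)⁻¹ * y) := by
    have hx' : (x : G)⁻¹ * g = g * (x : G)⁻¹ := by
      calc (x : G)⁻¹ * g = (x : G)⁻¹ * (g * x) * (x : G)⁻¹ := by group
        _ = (x : G)⁻¹ * (x * g) * (x : G)⁻¹ := by rw [hx]
        _ = g * (x : G)⁻¹ := by group
    calc ((x : G)⁻¹ * y) * g = (x : G)⁻¹ * (y * g) := by group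
      _ = (x : G)⁻¹ * (g * y) := by rw [hy]
      _ = ((x : G)⁻¹ * g) * y := by group
      _ = (g * (x : G)⁻¹) * y := by rw [hx']
      _ = g * ((x : G)⁻¹ * y) := by group
  have h3 := hg _ h1 h2
  apply Subtype.ext
  exact inv_mul_eq_one.mp h3

theorem sum_normSq_eq_card_centralizer {G : Type*} [Group G] [Fintype G]
    [Fintype (IrrCharacter G)] (g : G) :
    ∑ χ : IrrCharacter G, Complex.normSq ((χ : G → ℂ) g) =
      (Nat.card (Subgroup.centralizer ({g} : Set G)) : ℝ) := by
  have h := second_orthogonality (G := G) g g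
  rw [if_pos (IsConj.refl g)] at h
  have h' : ∀ χ : IrrCharacter G, (χ : G → ℂ) g * conj ((χ : G → ℂ) g) =
      ((Complex.normSq ((χ : G → ℂ) g) : ℝ) : ℂ) := fun χ => Complex.mul_conj _
  simp only [h'] at h
  rw [← Complex.ofReal_sum] at h
  exact_mod_cast h

/-- Let H be a normal subgroup of a finite group G and ρ an irreducible complex representation whose kernel does not contain H. If g commutes with no non-identity element of H, then the character of ρ vanishes at g. -/
theorem result {G : Type*} [Group G] [Finite G] {V : Type*} [AddCommGroup V] [Module ℂ V] [FiniteDimensional ℂ V] (ρ : Representation ℂ G V) [ρ.IsIrreducible] (H : Subgroup G) [H.Normal] (hker : ∃ h ∈ H, ρ h ≠ LinearMap.id) (g : G) (hg : ∀ h ∈ H, h * g = g * h → h = 1) : ρ.character g = 0 := by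
  classical
  haveI := Fintype.ofFinite G
  haveI : Fintype (G ⧸ H) := Fintype.ofFinite _
  haveI := Fintype.ofFinite (IrrCharacter G)
  haveI := Fintype.ofFinite (IrrCharacter (G ⧸ H))
  obtain ⟨P, hP⟩ : ∃ P : IrrCharacter G → Prop,
      P = fun χ : IrrCharacter G => ∀ n ∈ H, (χ : G → ℂ) n = (χ : G → ℂ) 1 := ⟨_, rfl⟩
  have hirr : IsIrrCharacter G ρ.character := Lib.Helper05.isIrrCharacter_of_rep ρ inferInstance
  obtain ⟨χ₀, hχ₀def⟩ : ∃ χ₀ : IrrCharacter G, χ₀ = ⟨ρ.character, hirr⟩ := ⟨_, rfl⟩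
  have hχ₀ : ¬ P χ₀ := by
    intro h
    rw [hP, hχ₀def] at h
    obtain ⟨h0, hh0, hne⟩ := hker
    apply hne
    apply (char_eq_finrank_iff ρ h0).mp
    rw [← Representation.char_one ρ]
    exact h h0 hh0
  have hS := sum_normSq_eq_card_centralizer (G := G) g
  have hT := sum_normSq_eq_card_centralizer (G := G ⧸ H) (QuotientGroup.mk g)
  have hT' : ∑ ψ : IrrCharacter (G ⧸ H), Complex.normSq ((ψ : G ⧸ H → ℂ) (QuotientGroup.mk g)) =
      ∑ χ ∈ Finset.univ.filter P, Complex.normSq ((χ : G → ℂ) g) := by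
    have hPiff : ∀ χ : IrrCharacter G, P χ ↔ ∀ n ∈ H, (χ : G → ℂ) n = (χ : G → ℂ) 1 := by
      intro χ; rw [hP]
    refine Finset.sum_bij (fun ψ _ => ((irrQuotientEquiv H ψ).1 : IrrCharacter G)) ?_ ?_ ?_ ?_
    · intro ψ _
      rw [Finset.mem_filter]
      exact ⟨Finset.mem_univ _, (hPiff _).mpr (irrQuotientEquiv H ψ).2⟩
    · intro ψ₁ _ ψ₂ _ h
      exact (irrQuotientEquiv H).injective (Subtype.ext h)
    · intro χ hχ
      rw [Finset.mem_filter] at hχ
      refine ⟨(irrQuotientEquiv H).symm ⟨χ, (hPiff _).mp hχ.2⟩, Finset.mem_univ _, ?_⟩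
      rw [Equiv.apply_symm_apply]
    · intro ψ _
      rw [irrQuotientEquiv_apply]
  have hsplit := Finset.sum_filter_add_sum_filter_not (Finset.univ : Finset (IrrCharacter G)) P
    (fun χ => Complex.normSq ((χ : G → ℂ) g))
  have hle : Complex.normSq ((χ₀ : G → ℂ) g) ≤
      ∑ χ ∈ Finset.univ.filter (fun χ => ¬ P χ), Complex.normSq ((χ : G → ℂ) g) := by
    apply Finset.single_le_sum (f := fun χ : IrrCharacter G => Complex.normSq ((χ : G → ℂ) g))
    · intro χ _; exact Complex.normSq_nonneg _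
    · rw [Finset.mem_filter]; exact ⟨Finset.mem_univ _, hχ₀⟩
  have hcard : (Nat.card (Subgroup.centralizer ({g} : Set G)) : ℝ) ≤
      (Nat.card (Subgroup.centralizer ({(QuotientGroup.mk g : G ⧸ H)} : Set (G ⧸ H))) : ℝ) := by
    exact_mod_cast card_centralizer_le H g hg
  have h0 : Complex.normSq ((χ₀ : G → ℂ) g) ≤ 0 := by linarith
  have h1 : Complex.normSq ((χ₀ : G → ℂ) g) = 0 := le_antisymm h0 (Complex.normSq_nonneg _)
  rw [Complex.normSq_eq_zero, hχ₀def] at h1
  exact h1

end Cfsg.Agent.S0181
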