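import Cfsg.Statements.S0183
-- import your own Cfsg.Agent.* helpers here
import Cfsg.Agent.S1526
import Cfsg.Agent.Lib.Helper12.CNMaxSub
import Cfsg.Agent.Lib.Helper33.CNQuot
import Cfsg.Agent.Lib.Helper77.ConjUnion

set_option autoImplicit false
set_option linter.style.haveILetI false
open Cfsg

namespace Cfsg.Agent.S0183

open scoped Pointwise
open Cfsg.Agent.Lib.Helper12.CNMaxNilp
open Cfsg.Agent.Lib.Helper12.FrobGp
open Cfsg.Agent.Lib.Helper12.CNMaxSub

universe u

theorem mem_map_conj {G : Type*} [Group G] (H : Subgroup G) (g x : G) :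
    x ∈ H.map (MulAut.conj g).toMonoidHom ↔ g⁻¹ * x * g ∈ H := by
  constructor
  · rintro ⟨y, hy, rfl⟩
    have : g⁻¹ * ((MulAut.conj g).toMonoidHom y) * g = y := by
      show g⁻¹ * (g * y * g⁻¹) * g = y
      group
    rw [this]; exact hy
  · intro h
    refine ⟨g⁻¹ * x * g, h, ?_⟩
    show g * (g⁻¹ * x * g) * g⁻¹ = x
    group

/-- conjugacy of maximal nilpotent subgroups -/
def conjSetoid (G : Type u) [Group G] : Setoid {H : Subgroup G // MaxNilp H} where
  r := fun A B => ∃ g : G, B.1 = A.1.map (MulAut.conj g).toMonoidHom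
  iseqv := by
    refine ⟨fun A => ⟨1, ?_⟩, ?_, ?_⟩
    · ext x
      rw [mem_map_conj]
      simp
    · rintro A B ⟨g, hg⟩
      refine ⟨g⁻¹, ?_⟩
      ext x
      rw [mem_map_conj, hg, mem_map_conj]
      have : g⁻¹ * (g⁻¹⁻¹ * x * g⁻¹) * g = x := by group
      rw [this]
    · rintro A B C ⟨g, hg⟩ ⟨h, hh⟩
      refine ⟨h * g, ?_⟩
      ext x
      rw [hh, mem_map_conj, hg, mem_map_conj, mem_map_conj]
      have : g⁻¹ * (h⁻¹ * x * h) * g = (h * g)⁻¹ * x * (h * g) := by group
      rw [this]

theorem minsimple_false {G : Type u} [Group G] [Finite G] (hG : Cfsg.IsMinSimpleOddOrder G)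
    (hCN : Cfsg.IsCNGroup G) : False := by
  classical
  letI s := conjSetoid G
  let ι := Quotient s
  haveI : Finite ι := inferInstance
  letI : Fintype ι := Fintype.ofFinite ι
  let Hs : ι → Subgroup G := fun i => (Quotient.out i).1
  have hHs : ∀ i, MaxNilp (Hs i) := fun i => (Quotient.out i).2
  let Ls : ι → Subgroup G := fun i => Subgroup.normalizer ((Hs i : Subgroup G) : Set G)
  have hodd : Odd (Nat.card G) := hG.1
  -- every element lies in a conjugate of some representative
  have hcov : ∀ g : G, ∃ i : ι, ∃ t : G, t⁻¹ * g * t ∈ Hs i := by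
    intro g
    have hz : Group.IsNilpotent ↥(Subgroup.zpowers g) := by
      apply isNilpotent_of_comm
      intro a ha b hb
      obtain ⟨m, rfl⟩ := Subgroup.mem_zpowers_iff.mp ha
      obtain ⟨n, rfl⟩ := Subgroup.mem_zpowers_iff.mp hb
      exact (Commute.zpow_zpow_self g m n).eq
    obtain ⟨H', hle, hH'⟩ := exists_maxNilp_ge (Subgroup.zpowers g) hz
    let a : {H : Subgroup G // MaxNilp H} := ⟨H', hH'⟩
    obtain ⟨t, ht⟩ : s.r (Quotient.out (Quotient.mk s a)) a := Quotient.mk_out a
    refine ⟨Quotient.mk s a, t, ?_⟩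
    have hg : g ∈ H' := hle (Subgroup.mem_zpowers g)
    have ht' : H' = (Hs (Quotient.mk s a)).map (MulAut.conj t).toMonoidHom := ht
    rw [ht', mem_map_conj] at hg
    exact hg
  refine Cfsg.Agent.S1526.result hodd (ι := ι) ?_ Ls Hs ?_ ?_ ?_ ?_ ?_ ?_ ?_
  · -- at least two classes
    by_contra hlt
    push Not at hlt
    obtain ⟨i₀, -⟩ := hcov 1
    have hsub : ∀ i : ι, i = i₀ := by
      intro i
      have : Fintype.card ι ≤ 1 := by omega
      exact (Fintype.card_le_one_iff.mp this) i i₀
    have htop : Hs i₀ ≠ ⊤ := nilpotent_ne_top hG (hHs i₀).1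
    obtain ⟨x, hx⟩ := Cfsg.Agent.Lib.Helper77.exists_not_mem_conj (Hs i₀) htop
    obtain ⟨i, t, ht⟩ := hcov x
    rw [hsub i] at ht
    exact hx t ((Cfsg.Agent.Lib.Helper77.mem_conj_smul_iff t x (Hs i₀)).mpr ht)
  · -- H i < L i
    intro i
    refine lt_of_le_of_ne Subgroup.le_normalizer ?_
    intro heq
    obtain ⟨-, E, F⟩ := maxNilp_normalizer hG hCN (hHs i)
    have hEH : E ≤ Hs i := by
      intro e he
      have h2 := F.hEM he
      rw [heq]
      exact h2
    have hE : E ≤ Hs i ⊓ E := le_inf hEH le_rfl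
    rw [F.hinf] at hE
    exact F.hE1 (eq_bot_iff.mpr hE)
  · intro i
    exact maxNilp_ne_bot hG (hHs i)
  · intro i x hx h hh
    exact (Subgroup.mem_normalizer_iff.mp hx h).mp hh
  · intro i h hh hh1 m hm
    obtain ⟨hmL, hmC⟩ := hm
    by_contra hmH
    obtain ⟨-, E, F⟩ := maxNilp_normalizer hG hCN (hHs i)
    have hcomm : h * m = m * h := (Subgroup.mem_centralizer_iff.mp hmC) h rfl
    exact hh1 (F.fpf_outside hmL hmH hh hcomm)
  · intro i j hij
    rcases conj_or_coprime hCN (hHs i) (hHs j) with ⟨g, hg⟩ | h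
    · exfalso
      apply hij
      have : s.r (Quotient.out i) (Quotient.out j) := ⟨g, hg⟩
      exact Quotient.out_equiv_out.mp this
    · exact h
  · intro i
    refine ⟨?_, rfl⟩
    intro g hg x hx hgx
    have hne : (Hs i).map (MulAut.conj g⁻¹).toMonoidHom ≠ Hs i := by
      intro heq
      have h1 := mem_normalizer_of_map_conj_eq heq
      exact hg (by simpa using (Subgroup.normalizer ((Hs i : Subgroup G) : Set G)).inv_mem h1)
    have hti := maxNilp_ti hG hCN (hHs i) g⁻¹ hne
    have hmem : x ∈ Hs i ⊓ (Hs i).map (MulAut.conj g⁻¹).toMonoidHom := by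
      refine ⟨hx, (mem_map_conj _ _ _).mpr ?_⟩
      simpa using hgx
    rw [hti, Subgroup.mem_bot] at hmem
    exact hmem
  · intro g hg1
    obtain ⟨i, t, ht⟩ := hcov g
    exact ⟨i, t⁻¹, by simpa using ht⟩

theorem aux : ∀ (n : ℕ) (G : Type u) [Group G] [Finite G], Nat.card G = n → Odd (Nat.card G) →
    Cfsg.IsCNGroup G → Group.IsSolvable G := by
  intro n
  induction n using Nat.strong_induction_on with
  | _ n ih =>
    intro G _ _ hcard hodd hCN
    have hsub : ∀ H : Subgroup G, H ≠ ⊤ → Group.IsSolvable H := by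
      intro H hH
      have hlt : Nat.card H < n := by
        rw [← hcard]
        have hle := Subgroup.card_le_card_group H
        rcases Nat.lt_or_ge (Nat.card H) (Nat.card G) with h | h
        · exact h
        · exact absurd (Subgroup.card_eq_iff_eq_top H |>.mp (le_antisymm hle h)) hH
      exact ih _ hlt H rfl (Odd.of_dvd_nat hodd (Subgroup.card_subgroup_dvd_card H))
        (Cfsg.Agent.Lib.Helper33.isCNGroup_subgroup hCN H)
    by_cases hns : ∃ N : Subgroup G, N.Normal ∧ N ≠ ⊥ ∧ N ≠ ⊤
    · obtain ⟨N, hNn, hNbot, hNtop⟩ := hns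
      haveI := hNn
      haveI hNs : Group.IsSolvable N := hsub N hNtop
      have hQ : Cfsg.IsCNGroup (G ⧸ N) :=
        Cfsg.Agent.Lib.Helper33.isCNGroup_quotient_solvable_aux (Nat.card N) G hCN N hNs rfl
      have hmul : Nat.card G = Nat.card (G ⧸ N) * Nat.card N :=
        Subgroup.card_eq_card_quotient_mul_card_subgroup N
      have hN2 : 2 ≤ Nat.card N := by
        have h0 : Nat.card N ≠ 1 := fun h => hNbot (Subgroup.card_eq_one.mp h)
        have h00 : 0 < Nat.card N := Nat.card_pos
        omega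
      have hQpos : 0 < Nat.card (G ⧸ N) := Nat.card_pos
      have hQlt : Nat.card (G ⧸ N) < n := by
        rw [← hcard, hmul]
        nlinarith
      have hQodd : Odd (Nat.card (G ⧸ N)) := Odd.of_dvd_nat hodd ⟨Nat.card N, hmul⟩
      haveI hQs : Group.IsSolvable (G ⧸ N) := ih _ hQlt (G ⧸ N) rfl hQodd hQ
      refine Group.isSolvable_of_ker_le_range N.subtype (QuotientGroup.mk' N) ?_
      rw [QuotientGroup.ker_mk', Subgroup.range_subtype]
    · by_cases htriv : Subsingleton G
      · haveI := htriv
        infer_instance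
      · haveI : Nontrivial G := not_subsingleton_iff_nontrivial.mp htriv
        have hsimple : IsSimpleGroup G :=
          { eq_bot_or_eq_top_of_normal := by
              intro N hN
              by_contra hcon
              push Not at hcon
              exact hns ⟨N, hN, hcon.1, hcon.2⟩ }
        by_cases hcomm : IsMulCommutative G
        · exact Group.isSolvable_of_comm (fun a b => hcomm.is_comm.comm a b)
        · exact (minsimple_false ⟨hodd, hsimple, hcomm, hsub⟩ hCN).elim

/-- The CN-Theorem for odd order: a finite group of odd order in which every non-identity element has a nilpotent centralizer (a CN-group) is solvable. -/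
theorem result {G : Type*} [Group G] [Finite G] (hodd : Odd (Nat.card G)) (hCN : Cfsg.IsCNGroup G) : Group.IsSolvable G := by
  exact aux (Nat.card G) G rfl hodd hCN

end Cfsg.Agent.S0183
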