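import Cfsg.Statements.S0184
import Cfsg.Agent.Lib.Helper05.CharBasic
import Cfsg.Agent.Lib.Helper83.SecondOrth
import Cfsg.Agent.Lib.Helper84.Schur
-- import your own Cfsg.Agent.* helpers here

set_option autoImplicit false
open Cfsg

namespace Cfsg.Agent.S0184

open Cfsg.Agent.Lib.Helper05 Cfsg.Agent.Lib.Helper83 Cfsg.Agent.Lib.Helper84

/-- A nontrivial normal subgroup of a finite `p`-group meets the centre nontrivially. -/
theorem exists_mem_center_of_normal_ne_bot' {p : ℕ} [Fact p.Prime] {G : Type*} [Group G] [Finite G]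
    (hG : IsPGroup p G) (N : Subgroup G) [N.Normal] (hN : N ≠ ⊥) :
    ∃ z ∈ N, z ∈ Subgroup.center G ∧ z ≠ 1 := by
  classical
  have hNp : IsPGroup p N := hG.to_subgroup N
  have hnt : Nontrivial N := (Subgroup.nontrivial_iff_ne_bot N).mpr hN
  have hdvd : p ∣ Nat.card N := by
    obtain ⟨n, hn0, hn⟩ := hNp.nontrivial_iff_card.mp hnt
    exact hn.symm ▸ dvd_pow_self _ (ne_of_gt hn0)
  have hfix : (1 : N) ∈ MulAction.fixedPoints (ConjAct G) N := by
    intro g
    exact smul_one g
  obtain ⟨b, hb, hb1⟩ :=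
    (hG.of_equiv ConjAct.toConjAct).exists_fixed_point_of_prime_dvd_card_of_fixed_point N hdvd hfix
  refine ⟨b.1, b.2, ?_, ?_⟩
  · rw [Subgroup.mem_center_iff]
    intro g
    have h1 := hb (ConjAct.toConjAct g)
    have h2 := congrArg Subtype.val h1
    rw [ConjAct.Subgroup.val_conj_smul, ConjAct.smul_def] at h2
    simp only [ConjAct.ofConjAct_toConjAct] at h2
    calc g * b.1 = (g * b.1 * g⁻¹) * g := by group
      _ = b.1 * g := by rw [h2]
  · intro h
    apply hb1
    exact (Subtype.ext h).symm

/-- In a finite cyclic group, an element killed by `p` lies in the subgroup generated by any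
element of order `p`. -/
theorem mem_zpowers_of_pow_eq_one {C : Type*} [Group C] [Finite C] [IsCyclic C] {p : ℕ}
    (hp : 0 < p) {x y : C} (hx : orderOf x = p) (hy : y ^ p = 1) : y ∈ Subgroup.zpowers x := by
  classical
  haveI := Fintype.ofFinite C
  have h1 : (Finset.univ.filter fun a : C => a ^ p = 1).card ≤ p := IsCyclic.card_pow_eq_one_le hp
  have h2 : (Finset.univ.filter fun a : C => a ∈ Subgroup.zpowers x).card = p := by
    rw [← hx, ← Nat.card_zpowers, Nat.card_eq_fintype_card, Fintype.card_subtype]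
  have h3 : (Finset.univ.filter fun a : C => a ∈ Subgroup.zpowers x) ⊆
      (Finset.univ.filter fun a : C => a ^ p = 1) := by
    intro a ha
    rw [Finset.mem_filter] at ha ⊢
    refine ⟨Finset.mem_univ _, ?_⟩
    obtain ⟨k, rfl⟩ := ha.2
    rw [← zpow_natCast, ← zpow_mul, mul_comm, zpow_mul, zpow_natCast, ← hx, pow_orderOf_eq_one,
      one_zpow]
  have h4 := Finset.eq_of_subset_of_card_le h3 (by rw [h2]; exact h1)
  have h5 : y ∈ (Finset.univ.filter fun a : C => a ^ p = 1) := by
    rw [Finset.mem_filter]; exact ⟨Finset.mem_univ _, hy⟩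
  rw [← h4, Finset.mem_filter] at h5
  exact h5.2

/-- Forward direction: a faithful irreducible representation forces a cyclic centre. -/
theorem center_cyclic_of_faithful_irr {G : Type*} [Group G] [Finite G] {V : Type*}
    [AddCommGroup V] [Module ℂ V] [FiniteDimensional ℂ V] (ρ : Representation ℂ G V)
    [ρ.IsIrreducible] (hinj : Function.Injective ρ) : IsCyclic (Subgroup.center G) := by
  have hn0 := irr_finrank_ne_zero ρ
  have hscal : ∀ z : Subgroup.center G, ρ (z : G) =
      (LinearMap.trace ℂ V (ρ (z : G)) / (Module.finrank ℂ V : ℂ)) • LinearMap.id := by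
    intro z
    apply schur_scalar ρ
    intro g
    change ρ (z : G) * ρ g = ρ g * ρ (z : G)
    rw [← map_mul, ← map_mul, (Subgroup.mem_center_iff.mp z.2 g)]
  let f : Subgroup.center G →* ℂ :=
    { toFun := fun z => LinearMap.trace ℂ V (ρ (z : G)) / (Module.finrank ℂ V : ℂ)
      map_one' := by
        simp only [Subgroup.coe_one, map_one, Module.End.one_eq_id, LinearMap.trace_id]
        exact div_self hn0
      map_mul' := by
        intro z w
        have h1 : ρ ((z * w : Subgroup.center G) : G) = ρ (z : G) * ρ (w : G) := by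
          rw [Subgroup.coe_mul, map_mul]
        rw [h1]
        conv_lhs => rw [hscal z]
        rw [smul_mul_assoc, map_smul, ← Module.End.one_eq_id, one_mul, smul_eq_mul, mul_div_assoc] }
  have hf : Function.Injective f := by
    intro z w hzw
    apply Subtype.ext
    apply hinj
    rw [hscal z, hscal w]
    change LinearMap.trace ℂ V (ρ (z : G)) / (Module.finrank ℂ V : ℂ) =
      LinearMap.trace ℂ V (ρ (w : G)) / (Module.finrank ℂ V : ℂ) at hzw
    rw [hzw]
  exact isCyclic_of_subgroup_isDomain f hf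

/-- In a `p`-group every nontrivial element has a power of order `p`. -/
theorem exists_pow_orderOf_eq_prime {C : Type*} [Group C] {p : ℕ} [Fact p.Prime]
    (hC : IsPGroup p C) {x : C} (hx : x ≠ 1) : ∃ j : ℕ, orderOf (x ^ j) = p := by
  have hp : p.Prime := Fact.out
  obtain ⟨k, hk⟩ := (IsPGroup.iff_orderOf.mp hC) x
  have hk0 : k ≠ 0 := by
    rintro rfl
    rw [pow_zero, orderOf_eq_one_iff] at hk
    exact hx hk
  obtain ⟨m, rfl⟩ := Nat.exists_eq_succ_of_ne_zero hk0
  refine ⟨p ^ m, orderOf_eq_prime ?_ ?_⟩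
  · rw [← pow_mul, ← pow_succ, ← hk, pow_orderOf_eq_one]
  · apply pow_ne_one_of_lt_orderOf (pow_pos hp.pos m).ne'
    rw [hk]
    exact Nat.pow_lt_pow_right hp.one_lt (Nat.lt_succ_self m)

/-- Backward direction. -/
theorem exists_faithful_irr {G : Type*} [Group G] [Finite G] (p : ℕ) [Fact p.Prime]
    (hG : IsPGroup p G) (hZ : IsCyclic (Subgroup.center G)) :
    ∃ (n : ℕ) (ρ : Representation ℂ G (Fin n → ℂ)), ρ.IsIrreducible ∧ Function.Injective ρ := by
  classical
  have hp : p.Prime := Fact.out
  rcases subsingleton_or_nontrivial G with hs | hnt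
  · refine ⟨1, 1, ?_, Function.injective_of_subsingleton _⟩
    apply isIrreducible_of_finrank_eq_one
    simp
  · haveI := Fintype.ofFinite G
    haveI := Fintype.ofFinite (IrrCharacter G)
    have hZnt : Nontrivial (Subgroup.center G) := hG.center_nontrivial
    have hZp : IsPGroup p (Subgroup.center G) := hG.to_subgroup _
    obtain ⟨z₁, hz₁⟩ := exists_ne (1 : Subgroup.center G)
    obtain ⟨j₀, hj₀⟩ := exists_pow_orderOf_eq_prime hZp hz₁
    set z₀ : Subgroup.center G := z₁ ^ j₀ with hz₀def
    have hz₀ : z₀ ≠ 1 := by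
      intro h
      rw [h, orderOf_one] at hj₀
      exact hp.one_lt.ne hj₀
    have hz₀p : z₀ ^ p = 1 := by rw [← hj₀, pow_orderOf_eq_one]
    have hz₀G : (z₀ : G) ≠ 1 := by
      intro h; apply hz₀; exact Subtype.ext h
    -- an irreducible character not having `z₀` in its kernel
    have hex : ∃ χ : IrrCharacter G, (χ : G → ℂ) (z₀ : G) ≠ (χ : G → ℂ) 1 := by
      by_contra hcon
      push_neg at hcon
      have h1 := sum_irr_degree_mul (G := G) (z₀ : G)
      rw [if_neg hz₀G] at h1
      have h2 := sum_irr_degree_sq (G := G)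
      have h3 : ∑ χ : IrrCharacter G, (χ : G → ℂ) 1 * (χ : G → ℂ) (z₀ : G) =
          ∑ χ : IrrCharacter G, ((χ : G → ℂ) 1) ^ 2 := by
        refine Finset.sum_congr rfl fun χ _ => ?_
        rw [hcon χ, sq]
      rw [h3, h2] at h1
      have : (Nat.card G : ℂ) ≠ 0 := by
        exact_mod_cast Nat.card_pos.ne'
      exact this h1
    obtain ⟨⟨χ, n, ρ, hirr, hχ⟩, hne⟩ := hex
    refine ⟨n, ρ, hirr, ?_⟩
    have hρz₀ : ρ (z₀ : G) ≠ 1 := by
      intro h
      apply hne
      change χ (z₀ : G) = χ 1
      rw [← hχ]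
      simp only [Representation.character, h, map_one]
    rw [← MonoidHom.ker_eq_bot_iff]
    by_contra hker
    obtain ⟨z, hzK, hzZ, hz1⟩ := exists_mem_center_of_normal_ne_bot' hG ρ.ker hker
    -- work inside the centre
    set K' : Subgroup (Subgroup.center G) := (ρ.ker).subgroupOf (Subgroup.center G) with hK'
    set z' : Subgroup.center G := ⟨z, hzZ⟩ with hz'
    have hz'K : z' ∈ K' := by
      rw [hK', Subgroup.mem_subgroupOf]; exact hzK
    have hz'1 : z' ≠ 1 := by
      intro h; apply hz1; exact congrArg Subtype.val h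
    obtain ⟨j, hj⟩ := exists_pow_orderOf_eq_prime hZp hz'1
    have hwK : z' ^ j ∈ K' := K'.pow_mem hz'K _
    have hmem : z₀ ∈ Subgroup.zpowers (z' ^ j) := mem_zpowers_of_pow_eq_one hp.pos hj hz₀p
    have hz₀K : z₀ ∈ K' := (Subgroup.zpowers_le.mpr hwK) hmem
    rw [hK', Subgroup.mem_subgroupOf, MonoidHom.mem_ker] at hz₀K
    exact hρz₀ hz₀K

/-- A finite p-group admits a faithful irreducible complex representation if and only if its centre is cyclic. -/
theorem result {G : Type*} [Group G] [Finite G] (p : ℕ) [Fact p.Prime] (hG : IsPGroup p G) : (∃ (n : ℕ) (ρ : Representation ℂ G (Fin n → ℂ)), ρ.IsIrreducible ∧ Function.Injective ρ) ↔ IsCyclic (Subgroup.center G) := by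
  constructor
  · rintro ⟨n, ρ, hirr, hinj⟩
    haveI := hirr
    exact center_cyclic_of_faithful_irr ρ hinj
  · exact exists_faithful_irr p hG

end Cfsg.Agent.S0184
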