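import Cfsg.Statements.S0185
import Cfsg.Agent.Lib.Helper05.CharDegree

set_option autoImplicit false
open Cfsg

namespace Cfsg.Agent.S0185

open Cfsg.Agent.Lib.Helper05 Module

/-- If a finite group has a faithful complex representation of degree less than the smallest prime dividing its order, the group is abelian. -/
theorem result {G : Type*} [Group G] [Finite G] {V : Type*} [AddCommGroup V] [Module ℂ V] [FiniteDimensional ℂ V] (ρ : Representation ℂ G V) (hfaithful : Function.Injective ρ) (hdeg : ∀ p : ℕ, p.Prime → p ∣ Nat.card G → Module.finrank ℂ V < p) (a b : G) : a * b = b * a := by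
  classical
  haveI : Fintype G := Fintype.ofFinite G
  haveI : Finite (Cfsg.IrrCharacter G) := finite_irrCharacter
  haveI : Fintype (Cfsg.IrrCharacter G) := Fintype.ofFinite _
  obtain ⟨m, hm⟩ := exists_nat_coeff (isCharacter_of_rep ρ)
  choose d hdpos hd1 hddvd using fun ψ : Cfsg.IrrCharacter G => exists_degree_dvd ψ.2
  have hsum : finrank ℂ V = ∑ ψ : Cfsg.IrrCharacter G, m ψ * d ψ := by
    have h1 := congrFun hm 1
    rw [Representation.char_one] at h1
    simp only [Finset.sum_apply, Pi.smul_apply, smul_eq_mul, hd1] at h1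
    exact_mod_cast h1
  have hlin : ∀ ψ : Cfsg.IrrCharacter G, m ψ ≠ 0 → (ψ : G → ℂ) 1 = 1 := by
    intro ψ hψ
    have hle : d ψ ≤ finrank ℂ V := by
      rw [hsum]
      calc d ψ ≤ m ψ * d ψ := Nat.le_mul_of_pos_left _ (Nat.pos_of_ne_zero hψ)
        _ ≤ ∑ φ : Cfsg.IrrCharacter G, m φ * d φ :=
          Finset.single_le_sum (f := fun φ => m φ * d φ) (fun _ _ => Nat.zero_le _)
            (Finset.mem_univ ψ)
    have hd : d ψ = 1 := by
      by_contra hne
      obtain ⟨p, hp, hpd⟩ := Nat.exists_prime_and_dvd hne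
      have h1 := hdeg p hp (hpd.trans (hddvd ψ))
      have h2 : p ≤ d ψ := Nat.le_of_dvd (hdpos ψ) hpd
      omega
    rw [hd1, hd, Nat.cast_one]
  have hid := rep_commutator_eq_id_of_linear_constituents ρ m hm hlin a b
  have h1 : a * b * a⁻¹ * b⁻¹ = 1 := by
    apply hfaithful
    rw [hid, map_one]
    rfl
  calc a * b = (a * b * a⁻¹ * b⁻¹) * (b * a) := by group
    _ = b * a := by rw [h1, one_mul]

end Cfsg.Agent.S0185
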