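import Cfsg.Statements.S0186
import Cfsg.Agent.S0185
import Cfsg.Agent.Lib.Helper83.SecondOrth

set_option autoImplicit false
open Cfsg

namespace Cfsg.Agent.S0186

open Cfsg.Agent.Lib.Helper05 Module

/-- An irreducible representation on which every group element acts trivially has the
principal character. -/
theorem char_eq_one_of_forall_eq_id {G : Type*} [Group G] {V : Type*} [AddCommGroup V]
    [Module ℂ V] [FiniteDimensional ℂ V] (ρ : Representation ℂ G V) (hirr : ρ.IsIrreducible)
    (h : ∀ g, ρ g = LinearMap.id) : ρ.character = fun _ => 1 := by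
  rw [isIrreducible_iff] at hirr
  obtain ⟨hnt, hirr⟩ := hirr
  obtain ⟨v, hv0⟩ := exists_ne (0 : V)
  have hspan := hirr (Submodule.span ℂ {v}) (by
    intro g w hw
    rw [h g]
    exact hw)
  have hspan' : Submodule.span ℂ {v} = ⊤ := by
    rcases hspan with h1 | h1
    · exfalso
      apply hv0
      have : v ∈ Submodule.span ℂ {v} := Submodule.mem_span_singleton_self v
      rw [h1, Submodule.mem_bot] at this
      exact this
    · exact h1
  have hn : finrank ℂ V = 1 := by
    have : finrank ℂ (Submodule.span ℂ {v}) = 1 := finrank_span_singleton hv0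
    rw [hspan', finrank_top] at this
    exact this
  funext g
  rw [Representation.character, h g, LinearMap.trace_id, hn]
  simp

/-- A non-principal irreducible representation of a simple group is faithful. -/
theorem injective_of_simple {G : Type*} [Group G] [IsSimpleGroup G] {V : Type*} [AddCommGroup V]
    [Module ℂ V] [FiniteDimensional ℂ V] (ρ : Representation ℂ G V) (hirr : ρ.IsIrreducible)
    (hne : ρ.character ≠ fun _ => 1) : Function.Injective ρ := by
  have hker : (MonoidHom.ker ρ).Normal := MonoidHom.normal_ker ρ
  rcases hker.eq_bot_or_eq_top with h | h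
  · exact (MonoidHom.ker_eq_bot_iff ρ).mp h
  · exfalso
    apply hne
    apply char_eq_one_of_forall_eq_id ρ hirr
    intro g
    have : g ∈ MonoidHom.ker ρ := by rw [h]; trivial
    exact (MonoidHom.mem_ker).mp this

/-- Let G be a finite simple group of order n and p a prime dividing n. If G has more than n / p^2 conjugacy classes, then every Sylow p-subgroup of G is abelian. -/
theorem result {G : Type*} [Group G] [Finite G] [IsSimpleGroup G] (p : ℕ) [Fact p.Prime] (hp : p ∣ Nat.card G) (hmany : Nat.card G < p ^ 2 * Nat.card (ConjClasses G)) (P : Sylow p G) (a b : G) (ha : a ∈ P) (hb : b ∈ P) : a * b = b * a := by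
  classical
  have hpp : p.Prime := Fact.out
  haveI : Fintype G := Fintype.ofFinite G
  haveI : Finite (Cfsg.IrrCharacter G) := finite_irrCharacter
  haveI : Fintype (Cfsg.IrrCharacter G) := Fintype.ofFinite _
  suffices hcomm : ∀ x y : (P : Subgroup G), x * y = y * x by
    have := hcomm ⟨a, ha⟩ ⟨b, hb⟩
    exact congrArg Subtype.val this
  by_cases hp2 : p ^ 2 ∣ Nat.card G
  · -- find a non-principal irreducible character of degree < p
    choose d hdpos hd1 hddvd using fun ψ : Cfsg.IrrCharacter G => exists_degree_dvd ψ.2
    have hsq : ∑ ψ : Cfsg.IrrCharacter G, (d ψ) ^ 2 = Nat.card G := by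
      have h1 := Cfsg.Agent.Lib.Helper83.sum_irr_degree_sq (G := G)
      simp only [hd1] at h1
      exact_mod_cast h1
    have hk : Fintype.card (Cfsg.IrrCharacter G) = Nat.card (ConjClasses G) := by
      rw [← Nat.card_eq_fintype_card]
      exact Cfsg.Agent.Lib.Helper83.card_irr_eq_card_conjClasses
    set one : Cfsg.IrrCharacter G := ⟨fun _ => 1, isIrrCharacter_one⟩ with hone
    have hd_one : d one = 1 := by
      have := hd1 one
      simp only [hone] at this
      exact_mod_cast this.symm
    have hex : ∃ ψ : Cfsg.IrrCharacter G, ψ ≠ one ∧ d ψ < p := by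
      by_contra hno
      push Not at hno
      have hsplit := Finset.add_sum_erase Finset.univ (fun ψ => (d ψ) ^ 2) (Finset.mem_univ one)
      have hge : (Finset.univ.erase one).card * p ^ 2 ≤
          ∑ ψ ∈ Finset.univ.erase one, (d ψ) ^ 2 := by
        rw [← smul_eq_mul, ← Finset.sum_const]
        apply Finset.sum_le_sum
        intro ψ hψ
        exact Nat.pow_le_pow_left (hno ψ (Finset.ne_of_mem_erase hψ)) 2
      rw [Finset.card_erase_of_mem (Finset.mem_univ one), Finset.card_univ, hk] at hge
      rw [hd_one, hsq] at hsplit
      obtain ⟨t, ht⟩ := hp2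
      rw [ht] at hmany hsplit
      have htk : t < Nat.card (ConjClasses G) := by
        by_contra hle
        push Not at hle
        have := Nat.mul_le_mul_left (p ^ 2) hle
        omega
      have h3 : p ^ 2 * t ≤ p ^ 2 * (Nat.card (ConjClasses G) - 1) :=
        Nat.mul_le_mul_left _ (by omega)
      have h4 : (Nat.card (ConjClasses G) - 1) * p ^ 2 = p ^ 2 * (Nat.card (ConjClasses G) - 1) :=
        mul_comm _ _
      omega
    obtain ⟨ψ, hψne, hψlt⟩ := hex
    obtain ⟨ψf, m, σ, hirr, rfl⟩ := ψ
    have hχne : σ.character ≠ fun _ => 1 := by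
      intro h
      apply hψne
      apply Subtype.ext
      simp only [hone]
      rw [h]
    have hinj : Function.Injective σ := injective_of_simple σ hirr hχne
    have hdm : finrank ℂ (Fin m → ℂ) = d ⟨σ.character, m, σ, hirr, rfl⟩ := by
      have := hd1 ⟨σ.character, m, σ, hirr, rfl⟩
      simp only at this
      rw [Representation.char_one] at this
      exact_mod_cast this
    intro x y
    apply Cfsg.Agent.S0185.result (σ.comp (P : Subgroup G).subtype)
    · intro u v huv
      exact Subtype.ext (hinj huv)
    · intro q hq hqdvd
      obtain ⟨r, hr⟩ := IsPGroup.iff_card.mp P.isPGroup'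
      rw [hr] at hqdvd
      have : q = p := (Nat.prime_dvd_prime_iff_eq hq hpp).mp (hq.dvd_of_dvd_pow hqdvd)
      rw [this, hdm]
      exact hψlt
  · -- the Sylow subgroup has order p
    have hfac : (Nat.card G).factorization p = 1 := by
      have hn0 : Nat.card G ≠ 0 := Nat.card_pos.ne'
      have h1 : 1 ≤ (Nat.card G).factorization p :=
        (hpp.dvd_iff_one_le_factorization hn0).mp hp
      have h2 : ¬ 2 ≤ (Nat.card G).factorization p := by
        intro h
        exact hp2 ((hpp.pow_dvd_iff_le_factorization hn0).mpr h)
      omega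
    have hcard : Nat.card (P : Subgroup G) = p := by
      rw [P.card_eq_multiplicity, hfac, pow_one]
    haveI : IsCyclic (P : Subgroup G) := isCyclic_of_prime_card hcard
    exact isMulCommutative_iff.mp IsCyclic.isMulCommutative

end Cfsg.Agent.S0186
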