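import Cfsg.Statements.S0187
import Cfsg.Agent.Lib.Helper83.SecondOrth

set_option autoImplicit false
open Cfsg

namespace Cfsg.Agent.S0187

/-- A finite group is commutative if and only if every irreducible complex character has degree 1. -/
theorem result {G : Type*} [Group G] [Finite G] : (∀ a b : G, a * b = b * a) ↔ ∀ χ : Cfsg.IrrCharacter G, (χ : G → ℂ) 1 = 1 := by
  classical
  constructor
  · intro hcomm χ
    obtain ⟨χ, n, ρ, hirr, rfl⟩ := χ
    haveI : IsMulCommutative G := isMulCommutative_iff.mpr hcomm
    haveI := hirr
    have := Representation.IsIrreducible.finrank_eq_one_of_isMulCommutative ρ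
    simp only [Representation.char_one, this, Nat.cast_one]
  · intro h
    haveI : Fintype G := Fintype.ofFinite G
    haveI : Finite (Cfsg.IrrCharacter G) := Cfsg.Agent.Lib.Helper83.irr_finite
    haveI : Fintype (Cfsg.IrrCharacter G) := Fintype.ofFinite _
    have h1 := Cfsg.Agent.Lib.Helper83.sum_irr_degree_sq (G := G)
    simp only [h, one_pow, Finset.sum_const, Finset.card_univ, nsmul_eq_mul, mul_one] at h1
    have h2 : Nat.card (Cfsg.IrrCharacter G) = Nat.card G := by
      rw [Nat.card_eq_fintype_card]
      exact_mod_cast h1
    rw [Cfsg.Agent.Lib.Helper83.card_irr_eq_card_conjClasses] at h2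
    have h3 : commProb G = 1 := by
      rw [commProb_def', h2]
      have : (Nat.card G : ℚ) ≠ 0 := by exact_mod_cast Nat.card_pos.ne'
      exact div_self this
    rw [commProb_eq_one_iff, isMulCommutative_iff] at h3
    exact h3

end Cfsg.Agent.S0187
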