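import Mathlib
import Cfsg.Statements.S4989
import Cfsg.Agent.Lib.Helper83.SecondOrth
import Cfsg.Agent.Lib.Helper85.CharAMGM

set_option autoImplicit false
open Cfsg

namespace Cfsg.Agent.S4989

open Cfsg.Agent.Lib.Helper83 Cfsg.Agent.Lib.Helper85
open scoped ComplexConjugate
open Finset

/-- Let H be a subgroup of the finite group G and χ an irreducible complex character of G. Then the inner product of the restriction of χ to H with itself, (1/#H)·Σ_{h ∈ H} |χ(h)|², is at most 1 + #(Z ∖ H)/#H, where Z is the set of zeros of χ in G. -/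
theorem result {G : Type*} [Group G] [Finite G] (H : Subgroup G) (χ : Cfsg.IrrCharacter G) : (Nat.card ↥H : ℝ)⁻¹ * ∑ᶠ h : ↥H, ‖(χ : G → ℂ) h‖ ^ 2 ≤ 1 + (Set.ncard ({x : G | (χ : G → ℂ) x = 0} \ (H : Set G)) : ℝ) / (Nat.card ↥H : ℝ) := by
  classical
  have : Fintype G := Fintype.ofFinite G
  have hχ : IsCharacter G (χ : G → ℂ) := IrrCharacter_isCharacter χ
  set f : G → ℝ := fun g => ‖(χ : G → ℂ) g‖ ^ 2 with hf
  set M := Nat.card G with hMdef
  have hM : 0 < M := Nat.card_pos
  have hpowM : ∀ g : G, g ^ M = 1 := fun g => pow_card_eq_one'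
  set U := (range M).filter (Nat.Coprime M) with hU
  have hUcard : (U.card : ℝ) = (M.totient : ℝ) := by
    rw [hU, Nat.totient_eq_card_coprime]
  have hφpos : (0 : ℝ) < (M.totient : ℝ) := by
    exact_mod_cast Nat.totient_pos.mpr hM
  -- S1: sum of |χ|² over G
  have hS1 : ∑ g : G, f g = (M : ℝ) := by
    have h := irr_inner_self χ
    rw [classInner_def] at h
    have h' : ∀ g : G, (χ : G → ℂ) g * conj ((χ : G → ℂ) g) = ((f g : ℝ) : ℂ) := by
      intro g
      rw [Complex.mul_conj, Complex.normSq_eq_norm_sq]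
    simp only [h'] at h
    rw [← Complex.ofReal_sum] at h
    have hne : (Nat.card G : ℂ) ≠ 0 := card_ne_zero_complex
    rw [inv_mul_eq_iff_eq_mul₀ hne, mul_one] at h
    have h2 : ((∑ g : G, f g : ℝ) : ℂ) = ((M : ℝ) : ℂ) := by
      rw [h]; push_cast; rfl
    exact Complex.ofReal_injective h2
  -- S2: power maps permute the complement of H
  have hS2 : ∀ k ∈ U, ∑ g : G, (if g ∉ H then f (g ^ k) else 0) =
      ∑ g : G, (if g ∉ H then f g else 0) := by
    intro k hk
    have hcop : (Nat.card G).Coprime k := (Finset.mem_filter.mp hk).2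
    have hiff : ∀ g : G, g ^ k ∉ H ↔ g ∉ H := by
      intro g
      constructor
      · intro h1 h2
        exact h1 (H.pow_mem h2 k)
      · intro h1 h2
        apply h1
        have := (powCoprime hcop).symm_apply_apply g
        rw [powCoprime_symm_apply, powCoprime_apply] at this
        rw [← this]
        exact H.zpow_mem h2 _
    rw [← Equiv.sum_comp (powCoprime hcop) (fun y => if y ∉ H then f y else 0)]
    apply Finset.sum_congr rfl
    intro g _
    simp only [powCoprime_apply]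
    rw [if_congr (hiff g) rfl rfl]
  -- S3: Burnside inequality
  have hS3 : ∀ g : G, (if (χ : G → ℂ) g ≠ 0 then (M.totient : ℝ) else 0) ≤ ∑ k ∈ U, f (g ^ k) := by
    intro g
    split_ifs with h
    · exact char_sum_normSq_ge' hχ g M hM (hpowM g) h
    · exact Finset.sum_nonneg fun k _ => by positivity
  -- S4
  have hS4 : (M.totient : ℝ) * ∑ g : G, (if g ∉ H ∧ (χ : G → ℂ) g ≠ 0 then (1 : ℝ) else 0) ≤
      (M.totient : ℝ) * ∑ g : G, (if g ∉ H then f g else 0) := by
    calc (M.totient : ℝ) * ∑ g : G, (if g ∉ H ∧ (χ : G → ℂ) g ≠ 0 then (1 : ℝ) else 0)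
        = ∑ g : G, (if g ∉ H then (if (χ : G → ℂ) g ≠ 0 then (M.totient : ℝ) else 0) else 0) := by
          rw [Finset.mul_sum]
          apply Finset.sum_congr rfl
          intro g _
          by_cases h1 : g ∉ H <;> by_cases h2 : (χ : G → ℂ) g ≠ 0 <;> simp [h1, h2]
      _ ≤ ∑ g : G, (if g ∉ H then ∑ k ∈ U, f (g ^ k) else 0) := by
          apply Finset.sum_le_sum
          intro g _
          by_cases h1 : g ∉ H
          · rw [if_pos h1, if_pos h1]
            exact hS3 g
          · rw [if_neg h1, if_neg h1]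
      _ = ∑ k ∈ U, ∑ g : G, (if g ∉ H then f (g ^ k) else 0) := by
          rw [Finset.sum_comm]
          apply Finset.sum_congr rfl
          intro g _
          by_cases h1 : g ∉ H
          · simp only [if_pos h1]
          · simp only [if_neg h1, Finset.sum_const_zero]
      _ = ∑ k ∈ U, ∑ g : G, (if g ∉ H then f g else 0) :=
          Finset.sum_congr rfl hS2
      _ = (M.totient : ℝ) * ∑ g : G, (if g ∉ H then f g else 0) := by
          rw [Finset.sum_const, nsmul_eq_mul, hUcard]
  have hS4' : ∑ g : G, (if g ∉ H ∧ (χ : G → ℂ) g ≠ 0 then (1 : ℝ) else 0) ≤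
      ∑ g : G, (if g ∉ H then f g else 0) := le_of_mul_le_mul_left hS4 hφpos
  -- splitting the total sum
  have hsplit : ∑ g : G, f g = ∑ g : G, (if g ∈ H then f g else 0) +
      ∑ g : G, (if g ∉ H then f g else 0) := by
    rw [← Finset.sum_add_distrib]
    apply Finset.sum_congr rfl
    intro g _
    by_cases h : g ∈ H <;> simp [h]
  -- counting
  have hcount : (M : ℝ) = (Nat.card H : ℝ) +
      ∑ g : G, (if g ∉ H ∧ (χ : G → ℂ) g ≠ 0 then (1 : ℝ) else 0) +
      (Set.ncard ({x : G | (χ : G → ℂ) x = 0} \ (H : Set G)) : ℝ) := by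
    have h1 : (M : ℝ) = ∑ g : G, (1 : ℝ) := by
      rw [Finset.sum_const, Finset.card_univ, nsmul_eq_mul, mul_one, hMdef,
        Nat.card_eq_fintype_card]
    have h2 : (Nat.card H : ℝ) = ∑ g : G, (if g ∈ H then (1 : ℝ) else 0) := by
      rw [Finset.sum_boole, Nat.card_eq_fintype_card, Fintype.card_subtype]
    have h3 : (Set.ncard ({x : G | (χ : G → ℂ) x = 0} \ (H : Set G)) : ℝ) =
        ∑ g : G, (if g ∉ H ∧ (χ : G → ℂ) g = 0 then (1 : ℝ) else 0) := by
      rw [Finset.sum_boole, Set.ncard_eq_toFinset_card']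
      congr 2
      ext g
      simp [and_comm]
    rw [h1, h2, h3, ← Finset.sum_add_distrib, ← Finset.sum_add_distrib]
    apply Finset.sum_congr rfl
    intro g _
    by_cases h1 : g ∈ H <;> by_cases h2 : (χ : G → ℂ) g = 0 <;> simp [h1, h2]
  -- the finsum
  have hfinsum : ∑ᶠ h : ↥H, ‖(χ : G → ℂ) h‖ ^ 2 = ∑ g : G, (if g ∈ H then f g else 0) := by
    rw [finsum_eq_sum_of_fintype, ← Finset.sum_filter]
    rw [← Finset.sum_subtype (Finset.univ.filter (· ∈ H)) (by simp) f]
  have hHpos : (0 : ℝ) < (Nat.card H : ℝ) := by exact_mod_cast Nat.card_pos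
  rw [hfinsum]
  have hmain : ∑ g : G, (if g ∈ H then f g else 0) ≤ (Nat.card H : ℝ) +
      (Set.ncard ({x : G | (χ : G → ℂ) x = 0} \ (H : Set G)) : ℝ) := by
    linarith
  calc (Nat.card ↥H : ℝ)⁻¹ * ∑ g : G, (if g ∈ H then f g else 0)
      ≤ (Nat.card ↥H : ℝ)⁻¹ * ((Nat.card H : ℝ) +
        (Set.ncard ({x : G | (χ : G → ℂ) x = 0} \ (H : Set G)) : ℝ)) :=
        mul_le_mul_of_nonneg_left hmain (inv_nonneg.mpr hHpos.le)
    _ = _ := by
        field_simp

end Cfsg.Agent.S4989
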