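import Mathlib
import Cfsg.Statements.S0191
import Cfsg.Agent.Lib.Helper83.SecondOrth
import Cfsg.Agent.S4989

set_option autoImplicit false
open Cfsg

namespace Cfsg.Agent.S0191

open Cfsg.Agent.Lib.Helper83

/-- An irreducible complex representation of a finite group of degree greater than 1 has a character that vanishes somewhere. -/
theorem result {G : Type*} [Group G] [Finite G] {V : Type*} [AddCommGroup V] [Module ℂ V] [FiniteDimensional ℂ V] (ρ : Representation ℂ G V) [ρ.IsIrreducible] (hdeg : 1 < Module.finrank ℂ V) : ∃ g : G, ρ.character g = 0 := by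
  classical
  by_contra hcon
  simp only [not_exists] at hcon
  have hirr : IsIrrCharacter G ρ.character := isIrrCharacter_of_rep ρ inferInstance
  have key := Cfsg.Agent.S4989.result (⊥ : Subgroup G) ⟨ρ.character, hirr⟩
  have hZ : ({x : G | ρ.character x = 0} \ ((⊥ : Subgroup G) : Set G)) = ∅ := by
    ext x
    simp only [Set.mem_diff, Set.mem_setOf_eq, Set.mem_empty_iff_false, iff_false, not_and]
    intro hx
    exact absurd hx (hcon x)
  simp only at key
  rw [hZ, Set.ncard_empty, Nat.cast_zero, zero_div, add_zero, Subgroup.card_bot, Nat.cast_one,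
    inv_one, one_mul] at key
  haveI : Unique ↥(⊥ : Subgroup G) := ⟨⟨1⟩, fun a => Subtype.ext (Subgroup.mem_bot.mp a.2)⟩
  rw [finsum_unique] at key
  have h1 : ρ.character ((default : ↥(⊥ : Subgroup G)) : G) = (Module.finrank ℂ V : ℂ) := by
    have : ((default : ↥(⊥ : Subgroup G)) : G) = 1 := Subgroup.mem_bot.mp (default : ↥(⊥ : Subgroup G)).2
    rw [this, Representation.char_one]
  rw [h1] at key
  have h2 : ‖(Module.finrank ℂ V : ℂ)‖ = (Module.finrank ℂ V : ℝ) := by
    rw [Complex.norm_natCast]
  rw [h2] at key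
  have h3 : (2 : ℝ) ≤ (Module.finrank ℂ V : ℝ) := by exact_mod_cast hdeg
  nlinarith

end Cfsg.Agent.S0191
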