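import Cfsg.Statements.S0192
import Cfsg.Agent.Lib.Helper05.CharBasic

set_option autoImplicit false
open Cfsg

namespace Cfsg.Agent.S0192

open Cfsg.Agent.Lib.Helper05 Module

theorem classInner_restrict_one {G : Type*} [Group G] {n : ℕ} (ρ : Representation ℂ G (Fin n → ℂ))
    (H : Subgroup G) [Fintype H] :
    Cfsg.classInner (fun x : H => ρ.character x) (fun _ => 1) =
      (finrank ℂ (Representation.invariants (ρ.comp H.subtype)) : ℂ) := by
  have hne : (Nat.card H : ℂ) ≠ 0 := by
    exact_mod_cast Nat.card_pos.ne'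
  haveI : Invertible (Nat.card H : ℂ) := invertibleOfNonzero hne
  rw [← Representation.card_inv_mul_sum_char_eq_finrank (ρ.comp H.subtype)]
  simp only [Cfsg.classInner, map_one, mul_one]
  rfl

/-- Brauer's generation criterion. Let G be a finite simple group, H₁ and H₂ subgroups, and χ a non-principal irreducible character. If the multiplicity of the principal character in χ restricted to H₁ ⊓ H₂ is less than the sum of the corresponding multiplicities for H₁ and H₂, then H₁ and H₂ do not generate G. -/
theorem result {G : Type*} [Group G] [Fintype G] [IsSimpleGroup G] (H₁ H₂ : Subgroup G) [Fintype H₁] [Fintype H₂] [Fintype ↥(H₁ ⊓ H₂)] (χ : G → ℂ) (hχ : Cfsg.IsIrrCharacter G χ) (hχ1 : χ ≠ fun _ => 1) (hlt : (Cfsg.classInner (fun x : ↥(H₁ ⊓ H₂) => χ x) (fun _ => 1)).re < (Cfsg.classInner (fun x : H₁ => χ x) (fun _ => 1)).re + (Cfsg.classInner (fun x : H₂ => χ x) (fun _ => 1)).re) : H₁ ⊔ H₂ ≠ ⊤ := by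
  obtain ⟨n, ρ, hirr, rfl⟩ := hχ
  rw [classInner_restrict_one ρ H₁, classInner_restrict_one ρ H₂,
    classInner_restrict_one ρ (H₁ ⊓ H₂)] at hlt
  simp only [Complex.natCast_re] at hlt
  set I₁ := Representation.invariants (ρ.comp H₁.subtype) with hI₁
  set I₂ := Representation.invariants (ρ.comp H₂.subtype) with hI₂
  set I₁₂ := Representation.invariants (ρ.comp (H₁ ⊓ H₂).subtype) with hI₁₂
  have hlt' : finrank ℂ I₁₂ < finrank ℂ I₁ + finrank ℂ I₂ := by exact_mod_cast hlt
  have h1 : I₁ ≤ I₁₂ := by
    intro v hv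
    rw [hI₁, Representation.mem_invariants] at hv
    rw [hI₁₂, Representation.mem_invariants]
    intro g
    exact hv ⟨g.1, g.2.1⟩
  have h2 : I₂ ≤ I₁₂ := by
    intro v hv
    rw [hI₂, Representation.mem_invariants] at hv
    rw [hI₁₂, Representation.mem_invariants]
    intro g
    exact hv ⟨g.1, g.2.2⟩
  have h3 := Submodule.finrank_sup_add_finrank_inf_eq I₁ I₂
  have h4 : finrank ℂ ↥(I₁ ⊔ I₂) ≤ finrank ℂ I₁₂ := Submodule.finrank_mono (sup_le h1 h2)
  have h5 : 0 < finrank ℂ ↥(I₁ ⊓ I₂) := by omega
  obtain ⟨⟨v, hv⟩, hv0⟩ := (Module.finrank_pos_iff_exists_ne_zero (R := ℂ)).mp h5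
  have hv0' : v ≠ 0 := fun h => hv0 (Subtype.ext h)
  intro htop
  -- v is fixed by all of G
  have hfix : ∀ g : G, ρ g v = v := by
    let S : Subgroup G :=
      { carrier := {g | ρ g v = v}
        one_mem' := by simp
        mul_mem' := by
          intro a b ha hb
          simp only [Set.mem_ofPred_eq] at ha hb ⊢
          rw [map_mul, Module.End.mul_apply, hb, ha]
        inv_mem' := by
          intro a ha
          simp only [Set.mem_ofPred_eq] at ha ⊢
          calc ρ a⁻¹ v = ρ a⁻¹ (ρ a v) := by rw [ha]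
            _ = v := by rw [← Module.End.mul_apply, ← map_mul, inv_mul_cancel, map_one,
              Module.End.one_apply] }
    have hS1 : H₁ ≤ S := by
      intro g hg
      have : v ∈ I₁ := hv.1
      rw [hI₁, Representation.mem_invariants] at this
      exact this ⟨g, hg⟩
    have hS2 : H₂ ≤ S := by
      intro g hg
      have : v ∈ I₂ := hv.2
      rw [hI₂, Representation.mem_invariants] at this
      exact this ⟨g, hg⟩
    have : S = ⊤ := by
      rw [eq_top_iff, ← htop]
      exact sup_le hS1 hS2
    intro g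
    have : g ∈ S := by rw [this]; trivial
    exact this
  rw [isIrreducible_iff] at hirr
  have hspan := hirr.2 (Submodule.span ℂ {v}) (by
    intro g w hw
    rw [Submodule.mem_span_singleton] at hw ⊢
    obtain ⟨c, rfl⟩ := hw
    exact ⟨c, by rw [map_smul, hfix]⟩)
  have hspan' : Submodule.span ℂ {v} = ⊤ := by
    rcases hspan with h | h
    · exfalso
      apply hv0'
      have : v ∈ Submodule.span ℂ {v} := Submodule.mem_span_singleton_self v
      rw [h, Submodule.mem_bot] at this
      exact this
    · exact h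
  have hid : ∀ g : G, ρ g = LinearMap.id := by
    intro g
    refine LinearMap.ext fun w => ?_
    have : w ∈ Submodule.span ℂ {v} := by rw [hspan']; trivial
    rw [Submodule.mem_span_singleton] at this
    obtain ⟨c, rfl⟩ := this
    rw [map_smul, hfix]
    rfl
  have hn : finrank ℂ (Fin n → ℂ) = 1 := by
    have : finrank ℂ (Submodule.span ℂ {v}) = 1 := finrank_span_singleton hv0'
    rw [hspan', finrank_top] at this
    exact this
  apply hχ1
  ext g
  rw [Representation.character, hid, LinearMap.trace_id, hn]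
  simp

end Cfsg.Agent.S0192
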