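import Cfsg.Statements.S0193
import Cfsg.Agent.S0173
import Cfsg.Agent.Lib.Helper34.Induction

set_option autoImplicit false
open Cfsg

namespace Cfsg.Agent.S0193

open Cfsg.Agent.Lib.Helper05
open scoped ComplexConjugate

/-- The conjugate of a function on a normal subgroup. -/
def conjFun {G : Type*} [Group G] (H : Subgroup G) [hN : H.Normal] (θ : H → ℂ) (x : G) : H → ℂ :=
  fun h => θ ⟨x * h * x⁻¹, hN.conj_mem h h.2 x⟩

theorem isIrrCharacter_conjFun {G : Type*} [Group G] (H : Subgroup G) [hN : H.Normal] (θ : H → ℂ)
    (hθ : Cfsg.IsIrrCharacter H θ) (x : G) : Cfsg.IsIrrCharacter H (conjFun H θ x) := by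
  have : conjFun H θ x = fun h => θ (MulAut.conjNormal x h) := by
    funext h
    unfold conjFun
    congr 1
  rw [this]
  exact Cfsg.Agent.S0173.isIrrCharacter_comp_mulEquiv (MulAut.conjNormal x) hθ

/-- The restriction to a normal subgroup `H` of the function induced from `θ` is the average
of the conjugates of `θ`. -/
theorem indFun_restrict_normal {G : Type*} [Group G] [Fintype G] (H : Subgroup G) [hN : H.Normal]
    (θ : H → ℂ) :
    (fun h : H => Cfsg.indFun H θ h) = (Nat.card H : ℂ)⁻¹ • ∑ x : G, conjFun H θ x := by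
  funext h
  rw [Cfsg.Agent.Lib.Helper34.indFun_apply]
  simp only [Pi.smul_apply, Finset.sum_apply, smul_eq_mul]
  congr 1
  rw [← Equiv.sum_comp (Equiv.inv G)]
  apply Finset.sum_congr rfl
  intro x _
  simp only [Equiv.inv_apply, inv_inv]
  rw [Cfsg.Agent.Lib.Helper34.extendByZero_apply_mem H θ (hN.conj_mem h h.2 x)]
  rfl

/-- Let H be a normal subgroup of a finite group G and θ an irreducible character of H. Then |H| times the inner product of the induced function of θ with itself equals the number of g in G with θ(g h g⁻¹) = θ(h) for all h in H; in particular the induced character is irreducible when only elements of H stabilise θ. -/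
theorem result {G : Type*} [Group G] [Fintype G] (H : Subgroup G) [hN : H.Normal] (θ : H → ℂ) (hθ : Cfsg.IsIrrCharacter H θ) : (Nat.card H : ℂ) * Cfsg.classInner (Cfsg.indFun H θ) (Cfsg.indFun H θ) = (Nat.card {g : G // ∀ h : H, θ ⟨g * h * g⁻¹, hN.conj_mem h h.2 g⟩ = θ h} : ℂ) := by
  classical
  haveI : Fintype H := Fintype.ofFinite H
  have hH : (Nat.card H : ℂ) ≠ 0 := by exact_mod_cast Nat.card_pos.ne'
  rw [Cfsg.Agent.Lib.Helper34.classInner_indFun_left H θ _
    (Cfsg.Agent.Lib.Helper34.indFun_isClassFunction H θ)]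
  rw [indFun_restrict_normal, classInner_smul_right, classInner_sum_right]
  have h1 : ∀ x : G, Cfsg.classInner θ (conjFun H θ x) = if conjFun H θ x = θ then 1 else 0 := by
    intro x
    rw [classInner_irr hθ (isIrrCharacter_conjFun H θ hθ x)]
    by_cases h : conjFun H θ x = θ
    · rw [if_pos h, if_pos h.symm]
    · rw [if_neg h, if_neg (fun h' => h h'.symm)]
  simp_rw [h1]
  rw [map_inv₀, Complex.conj_natCast, ← mul_assoc, mul_inv_cancel₀ hH, one_mul,
    Finset.sum_boole]
  congr 1
  rw [Nat.card_eq_fintype_card, Fintype.card_subtype]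
  congr 1
  ext x
  simp only [Finset.mem_filter, Finset.mem_univ, true_and]
  constructor
  · intro h hh
    exact congrFun h hh
  · intro h
    funext hh
    exact h hh

end Cfsg.Agent.S0193
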