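import Cfsg.Statements.S0194
import Cfsg.Agent.S0193
import Cfsg.Agent.S0161

set_option autoImplicit false
open Cfsg

namespace Cfsg.Agent.S0194

open Cfsg.Agent.Lib.Helper05 Cfsg.Agent.S0193
open scoped ComplexConjugate

theorem conjFun_mul {G : Type*} [Group G] (H : Subgroup G) [hN : H.Normal] (θ : H → ℂ) (x y : G) :
    conjFun H (conjFun H θ x) y = conjFun H θ (x * y) := by
  funext h
  unfold conjFun
  congr 1
  apply Subtype.ext
  simp only [mul_inv_rev]
  group

theorem conjFun_pow_eq {G : Type*} [Group G] (H : Subgroup G) [hN : H.Normal] (θ : H → ℂ) (x : G)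
    (hx : conjFun H θ x = θ) (k : ℕ) : conjFun H θ (x ^ k) = θ := by
  induction k with
  | zero =>
    funext h
    unfold conjFun
    congr 1
    apply Subtype.ext
    simp
  | succ k ih =>
    rw [pow_succ, ← conjFun_mul, ih, hx]

theorem indFun_conj {G : Type*} [Group G] [Fintype G] (H : Subgroup G) (θ : H → ℂ) :
    (fun g => conj (Cfsg.indFun H θ g)) = Cfsg.indFun H (fun h => conj (θ h)) := by
  funext g
  rw [Cfsg.Agent.Lib.Helper34.indFun_apply, Cfsg.Agent.Lib.Helper34.indFun_apply, map_mul,
    map_inv₀, Complex.conj_natCast, map_sum]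
  congr 1
  apply Finset.sum_congr rfl
  intro x _
  by_cases hx : x⁻¹ * g * x ∈ H
  · rw [Cfsg.Agent.Lib.Helper34.extendByZero_apply_mem H _ hx,
      Cfsg.Agent.Lib.Helper34.extendByZero_apply_mem H _ hx]
  · rw [Cfsg.Agent.Lib.Helper34.extendByZero_apply_not_mem H _ hx,
      Cfsg.Agent.Lib.Helper34.extendByZero_apply_not_mem H _ hx, map_zero]

/-- Let G have odd order, H be a normal subgroup and θ a non-principal irreducible character of H. Then the function induced from θ is orthogonal to its complex conjugate. -/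
theorem result {G : Type*} [Group G] [Fintype G] (hodd : Odd (Nat.card G)) (H : Subgroup G) [H.Normal] (θ : H → ℂ) (hθ : Cfsg.IsIrrCharacter H θ) (hθ1 : θ ≠ fun _ => 1) : Cfsg.classInner (fun g => conj (Cfsg.indFun H θ g)) (Cfsg.indFun H θ) = 0 := by
  classical
  haveI : Fintype H := Fintype.ofFinite H
  have hoddH : Odd (Nat.card H) := Odd.of_dvd_nat hodd (Subgroup.card_subgroup_dvd_card H)
  rw [indFun_conj, Cfsg.Agent.Lib.Helper34.classInner_indFun_left H _ _
    (Cfsg.Agent.Lib.Helper34.indFun_isClassFunction H θ), indFun_restrict_normal,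
    classInner_smul_right, classInner_sum_right]
  have hconjirr : Cfsg.IsIrrCharacter H (fun h => conj (θ h)) := isIrrCharacter_conj hθ
  have h0 : ∀ x : G, Cfsg.classInner (fun h => conj (θ h)) (conjFun H θ x) = 0 := by
    intro x
    apply classInner_irr_ne hconjirr (isIrrCharacter_conjFun H θ hθ x)
    intro heq
    -- x * x stabilises θ
    have h2 : conjFun H θ (x * x) = θ := by
      rw [← conjFun_mul, ← heq]
      funext h
      have h4 : conj (θ h) = θ ⟨x * h * x⁻¹, (inferInstance : H.Normal).conj_mem h h.2 x⟩ :=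
        congrFun heq h
      show conj (θ ⟨x * h * x⁻¹, (inferInstance : H.Normal).conj_mem h h.2 x⟩) = θ h
      rw [← h4, Complex.conj_conj]
    have hoddx : Odd (orderOf x) := Odd.of_dvd_nat hodd (orderOf_dvd_natCard x)
    obtain ⟨m, hm⟩ := hoddx
    have hxpow : x = (x * x) ^ (m + 1) := by
      rw [← pow_two, ← pow_mul]
      have : 2 * (m + 1) = orderOf x + 1 := by omega
      rw [this, pow_succ, pow_orderOf_eq_one, one_mul]
    have h3 : conjFun H θ x = θ := by
      rw [hxpow]
      exact conjFun_pow_eq H θ (x * x) h2 (m + 1)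
    rw [h3] at heq
    -- θ is real valued
    have hreal : ∀ h : H, (θ h).im = 0 := by
      intro h
      exact Complex.conj_eq_iff_im.mp (congrFun heq h)
    exact hθ1 (Cfsg.Agent.S0161.result hoddH ⟨θ, hθ⟩ hreal)
  simp [h0]

end Cfsg.Agent.S0194
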