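import Cfsg.Statements.S0200
import Cfsg.Agent.Lib.Helper06.BaerSuzuki
import Cfsg.Agent.Lib.Helper06.Isolated

set_option autoImplicit false
open Cfsg

namespace Cfsg.Agent.S0200

open Cfsg.Agent.Lib.Helper06 in
/-- An involution lying in no normal 2-subgroup of a finite group inverts a nontrivial element of odd order (a consequence of the Baer–Suzuki Theorem). -/
theorem result {G : Type*} [Group G] [Finite G] (t : G) (ht : orderOf t = 2) (hO : ∀ N : Subgroup G, N.Normal → IsPGroup 2 N → t ∉ N) : ∃ h : G, h ≠ 1 ∧ Odd (orderOf h) ∧ t * h * t⁻¹ = h⁻¹ := by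
  have : Fact (Nat.Prime 2) := ⟨Nat.prime_two⟩
  have ht1 := sq_one_of_orderOf_two ht
  have hti := inv_eq_self_of_orderOf_two ht
  by_contra hcon
  push Not at hcon
  have hconjsq : ∀ c : G, (c * t * c⁻¹) * (c * t * c⁻¹) = 1 := by
    intro c
    calc (c * t * c⁻¹) * (c * t * c⁻¹) = c * (t * t) * c⁻¹ := by group
      _ = 1 := by rw [ht1]; group
  have hclaim : ∀ c : G, ∃ e : ℕ, (t * (c * t * c⁻¹)) ^ (2 ^ e) = 1 := by
    intro c
    have hv1 := hconjsq c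
    obtain ⟨v, hv⟩ : ∃ v, v = c * t * c⁻¹ := ⟨_, rfl⟩
    rw [← hv] at hv1 ⊢
    have hn0 : orderOf (t * v) ≠ 0 := (orderOf_pos _).ne'
    obtain ⟨e, m, hm, hn⟩ := Nat.exists_eq_two_pow_mul_odd hn0
    refine ⟨e, ?_⟩
    by_contra hne
    have hodd : Odd (orderOf ((t * v) ^ (2 ^ e))) := by
      apply Odd.of_dvd_nat hm
      apply orderOf_dvd_of_pow_eq_one
      rw [← pow_mul, ← hn, pow_orderOf_eq_one]
    apply hcon _ hne hodd
    have := inv_conj_zpow ht1 hv1 ((2 ^ e : ℕ) : ℤ)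
    rw [zpow_natCast] at this
    rw [hti]
    exact this
  let K : Set G := {k | ∃ g : G, k = g * t * g⁻¹}
  have hKconj : ∀ g k : G, k ∈ K → g * k * g⁻¹ ∈ K := by
    rintro g _ ⟨g', rfl⟩
    exact ⟨g * g', by group⟩
  have hKp : ∀ a ∈ K, ∀ b ∈ K, IsPGroup 2 (Subgroup.closure ({a, b} : Set G)) := by
    rintro _ ⟨g, rfl⟩ _ ⟨g', rfl⟩
    obtain ⟨e, he⟩ := hclaim (g⁻¹ * g')
    apply pgroup_closure_pair (hconjsq g) (hconjsq g') e
    have h1 : g * t * g⁻¹ * (g' * t * g'⁻¹) =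
        g * (t * ((g⁻¹ * g') * t * (g⁻¹ * g')⁻¹)) * g⁻¹ := by group
    rw [h1, conj_pow, he]
    group
  obtain ⟨N, hN, hNp, hKN⟩ := baer_suzuki_set K hKconj hKp
  exact hO N hN hNp (hKN ⟨1, by simp⟩)

end Cfsg.Agent.S0200
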