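import Cfsg.Statements.S0202
import Cfsg.Agent.Lib.Helper06.KleinSylow

set_option autoImplicit false
open Cfsg

namespace Cfsg.Agent.S0202

open Cfsg.Agent.Lib.Helper06 in
/-- If a Sylow 2-subgroup of a finite group is a Klein four-group, the group has one or three conjugacy classes of involutions. -/
theorem result {G : Type*} [Group G] [Finite G] (P : Sylow 2 G) (hP : IsKleinFour (P : Subgroup G)) : Nat.card {C : ConjClasses G // ∃ t : G, orderOf t = 2 ∧ ConjClasses.mk t = C} = 1 ∨ Nat.card {C : ConjClasses G // ∃ t : G, orderOf t = 2 ∧ ConjClasses.mk t = C} = 3 := by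
  have hsurj := kleinMap_surjective P hP
  by_cases hinj : Function.Injective (kleinMap P hP)
  · right
    rw [← Nat.card_eq_of_bijective _ ⟨hinj, hsurj⟩]
    exact card_kleinDom P hP
  · left
    rw [Function.Injective] at hinj
    push Not at hinj
    obtain ⟨a, b, hab, hne⟩ := hinj
    rw [kleinMap_eq_iff] at hab
    have hne' : a.1 ≠ b.1 := fun h => hne (Subtype.ext h)
    have hab3 := klein_conj_third P hP a.2.1 b.2.1 a.2.2 b.2.2 hne' hab
    have hall : ∀ t : {t : G // t ∈ P ∧ t ≠ 1}, kleinMap P hP t = kleinMap P hP a := by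
      intro t
      rw [kleinMap_eq_iff]
      by_cases hta : t.1 = a.1
      · rw [hta]
      by_cases htb : t.1 = b.1
      · rw [htb]; exact hab.symm
      have := klein_third P hP a.2.1 b.2.1 t.2.1 a.2.2 b.2.2 hne' t.2.2 hta htb
      rw [this]
      exact hab3.symm
    rw [Nat.card_eq_one_iff_unique]
    constructor
    · constructor
      intro x y
      obtain ⟨tx, rfl⟩ := hsurj x
      obtain ⟨ty, rfl⟩ := hsurj y
      rw [hall tx, hall ty]
    · exact ⟨kleinMap P hP a⟩

end Cfsg.Agent.S0202
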