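import Cfsg.Statements.S0203
import Cfsg.Agent.Lib.Helper06.KleinSylow

set_option autoImplicit false
open Cfsg

namespace Cfsg.Agent.S0203

open Cfsg.Agent.Lib.Helper06 in
/-- If a Sylow 2-subgroup P of a finite group G is a Klein four-group, then G has three classes of involutions if and only if P has a normal complement in G. -/
theorem result {G : Type*} [Group G] [Finite G] (P : Sylow 2 G) (hP : IsKleinFour (P : Subgroup G)) : Nat.card {C : ConjClasses G // ∃ t : G, orderOf t = 2 ∧ ConjClasses.mk t = C} = 3 ↔ ∃ N : Subgroup G, N.Normal ∧ Subgroup.IsComplement' N (P : Subgroup G) := by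
  have : Fact (Nat.Prime 2) := ⟨Nat.prime_two⟩
  have hsurj := kleinMap_surjective P hP
  have hcard := card_kleinDom P hP
  constructor
  · intro h3
    have hbij : Function.Bijective (kleinMap P hP) :=
      hsurj.bijective_of_nat_card_le (by rw [hcard, h3])
    have hNC : Subgroup.normalizer ((P : Subgroup G) : Set G) ≤
        Subgroup.centralizer ((P : Subgroup G) : Set G) := by
      intro n hn
      rw [Subgroup.mem_centralizer_iff]
      intro x hx
      by_cases hx1 : x = 1
      · rw [hx1, one_mul, mul_one]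
      have hx' : n * x * n⁻¹ ∈ P := (Subgroup.mem_normalizer_iff.mp hn x).mp hx
      have hx'1 : n * x * n⁻¹ ≠ 1 := by
        intro h
        apply hx1
        have : x = n⁻¹ * (n * x * n⁻¹) * n := by group
        rw [this, h]; group
      have heq : kleinMap P hP ⟨x, hx, hx1⟩ = kleinMap P hP ⟨n * x * n⁻¹, hx', hx'1⟩ := by
        rw [kleinMap_eq_iff, isConj_iff]
        exact ⟨n, rfl⟩
      have := hbij.1 heq
      have h2 : x = n * x * n⁻¹ := congrArg Subtype.val this
      calc x * n = (n * x * n⁻¹) * n := by rw [← h2]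
        _ = n * x := by group
    exact ⟨_, MonoidHom.normal_ker _, MonoidHom.ker_transferSylow_isComplement' P hNC⟩
  · rintro ⟨N, hN, hcompl⟩
    have hinj : Function.Injective (kleinMap P hP) := by
      intro a b hab
      rw [kleinMap_eq_iff, isConj_iff] at hab
      obtain ⟨g, hg⟩ := hab
      obtain ⟨⟨n, p⟩, hnp, -⟩ := (Subgroup.isComplement'_def.mp hcompl).existsUnique g
      simp only at hnp
      have hpa : p.1 * a.1 * p.1⁻¹ = a.1 := by
        rw [klein_comm P hP p.2 a.2.1, mul_assoc, mul_inv_cancel, mul_one]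
      have hb : b.1 = n.1 * a.1 * n.1⁻¹ := by
        rw [← hg, ← hnp]
        calc n.1 * p.1 * a.1 * (n.1 * p.1)⁻¹ = n.1 * (p.1 * a.1 * p.1⁻¹) * n.1⁻¹ := by group
          _ = n.1 * a.1 * n.1⁻¹ := by rw [hpa]
      have hmemN : b.1 * a.1⁻¹ ∈ N := by
        rw [hb]
        have : n.1 * a.1 * n.1⁻¹ * a.1⁻¹ = n.1 * (a.1 * n.1⁻¹ * a.1⁻¹) := by group
        rw [this]
        exact N.mul_mem n.2 (hN.conj_mem _ (N.inv_mem n.2) _)
      have hmemP : b.1 * a.1⁻¹ ∈ (P : Subgroup G) :=
        Subgroup.mul_mem _ b.2.1 (Subgroup.inv_mem _ a.2.1)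
      have hdisj := hcompl.disjoint
      have h1 : b.1 * a.1⁻¹ = 1 := by
        have := Subgroup.disjoint_def.mp hdisj hmemN hmemP
        exact this
      apply Subtype.ext
      have : b.1 = a.1 := by
        rw [mul_inv_eq_one] at h1
        exact h1
      exact this.symm
    rw [← Nat.card_eq_of_bijective _ ⟨hinj, hsurj⟩]
    exact hcard

end Cfsg.Agent.S0203
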