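import Cfsg.Statements.S0206
import Cfsg.Agent.Lib.Helper06.Dihedral

set_option autoImplicit false
open Cfsg

namespace Cfsg.Agent.S0206

open Cfsg.Agent.Lib.Helper06

variable {G : Type*} [Group G]

noncomputable def rot (a : G) (n : ℕ) (h : a ^ n = 1) : ZMod n →+ Additive G :=
  ZMod.lift n ⟨zmultiplesHom (Additive G) (Additive.ofMul a), by
    rw [zmultiplesHom_apply]
    show Additive.ofMul (a ^ (n : ℤ)) = 0
    rw [zpow_natCast, h]; rfl⟩

theorem rot_intCast (a : G) (n : ℕ) (h : a ^ n = 1) (k : ℤ) :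
    (rot a n h (k : ZMod n)).toMul = a ^ k := by
  unfold rot
  rw [ZMod.lift_coe]
  rfl

noncomputable def A (a : G) (n : ℕ) (h : a ^ n = 1) (i : ZMod n) : G := (rot a n h i).toMul

theorem A_add (a : G) (n : ℕ) (h : a ^ n = 1) (i j : ZMod n) :
    A a n h (i + j) = A a n h i * A a n h j := by
  unfold A; rw [map_add]; rfl

theorem A_neg (a : G) (n : ℕ) (h : a ^ n = 1) (i : ZMod n) :
    A a n h (-i) = (A a n h i)⁻¹ := by
  unfold A; rw [map_neg]; rfl

theorem A_sub (a : G) (n : ℕ) (h : a ^ n = 1) (i j : ZMod n) :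
    A a n h (i - j) = A a n h i * (A a n h j)⁻¹ := by
  rw [sub_eq_add_neg, A_add, A_neg]

theorem A_intCast (a : G) (n : ℕ) (h : a ^ n = 1) (k : ℤ) :
    A a n h (k : ZMod n) = a ^ k := rot_intCast a n h k

theorem A_exists (a : G) (n : ℕ) (h : a ^ n = 1) (i : ZMod n) :
    ∃ k : ℤ, A a n h i = a ^ k := by
  obtain ⟨k, rfl⟩ := ZMod.intCast_surjective i
  exact ⟨k, A_intCast a n h k⟩

theorem x_A_x {x y : G} (hx : x * x = 1) (hy : y * y = 1) (n : ℕ) (h : (x * y) ^ n = 1)
    (i : ZMod n) : x * A (x * y) n h i * x = (A (x * y) n h i)⁻¹ := by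
  obtain ⟨k, hk⟩ := A_exists (x * y) n h i
  rw [hk]
  exact inv_conj_zpow hx hy k

noncomputable def dmap (x a : G) (n : ℕ) (h : a ^ n = 1) : DihedralGroup n → G
  | .r i => A a n h i
  | .sr i => x * A a n h i

noncomputable def dhom {x y : G} (hx : x * x = 1) (hy : y * y = 1) (n : ℕ)
    (h : (x * y) ^ n = 1) : DihedralGroup n →* G :=
  MonoidHom.mk' (dmap x (x * y) n h) (by
    intro p q
    have key := x_A_x hx hy n h
    rcases p with i | i <;> rcases q with j | j
    · show A (x * y) n h (i + j) = A (x * y) n h i * A (x * y) n h j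
      exact A_add _ _ _ _ _
    · show x * A (x * y) n h (j - i) = A (x * y) n h i * (x * A (x * y) n h j)
      rw [A_sub]
      have := key i
      calc x * (A (x * y) n h j * (A (x * y) n h i)⁻¹)
          = x * (A (x * y) n h j * (x * A (x * y) n h i * x)) := by rw [this]
        _ = (x * A (x * y) n h j * x) * A (x * y) n h i * x := by group
        _ = (A (x * y) n h j)⁻¹ * A (x * y) n h i * x := by rw [key j]
        _ = (A (x * y) n h j)⁻¹ * A (x * y) n h i * x := rfl
        _ = A (x * y) n h i * (x * A (x * y) n h j) := by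
          have e1 : (A (x * y) n h j)⁻¹ * A (x * y) n h i
              = A (x * y) n h i * (A (x * y) n h j)⁻¹ := by
            rw [← A_neg, ← A_add, ← A_add, add_comm]
          rw [e1, ← key j]
          have : x * A (x * y) n h j * x * x = x * A (x * y) n h j := by
            rw [mul_assoc, hx, mul_one]
          rw [mul_assoc, this]
    · show x * A (x * y) n h (i + j) = x * A (x * y) n h i * A (x * y) n h j
      rw [A_add, mul_assoc]
    · show A (x * y) n h (j - i) = x * A (x * y) n h i * (x * A (x * y) n h j)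
      rw [A_sub]
      calc A (x * y) n h j * (A (x * y) n h i)⁻¹
          = (A (x * y) n h i)⁻¹ * A (x * y) n h j := by
            rw [← A_neg, ← A_add, ← A_add, add_comm]
        _ = (x * A (x * y) n h i * x) * A (x * y) n h j := by rw [key i]
        _ = x * A (x * y) n h i * (x * A (x * y) n h j) := by group)

theorem dhom_r {x y : G} (hx : x * x = 1) (hy : y * y = 1) (n : ℕ)
    (h : (x * y) ^ n = 1) (i : ZMod n) :
    dhom hx hy n h (DihedralGroup.r i) = A (x * y) n h i := rfl

theorem dhom_sr {x y : G} (hx : x * x = 1) (hy : y * y = 1) (n : ℕ)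
    (h : (x * y) ^ n = 1) (i : ZMod n) :
    dhom hx hy n h (DihedralGroup.sr i) = x * A (x * y) n h i := rfl

theorem dhom_injective {x y : G} (hx : orderOf x = 2) (hy : orderOf y = 2) :
    Function.Injective (dhom (sq_one_of_orderOf_two hx) (sq_one_of_orderOf_two hy)
      (orderOf (x * y)) (pow_orderOf_eq_one _)) := by
  rw [injective_iff_map_eq_one]
  intro p hp
  rcases p with i | i
  · rw [dhom_r] at hp
    obtain ⟨k, rfl⟩ := ZMod.intCast_surjective i
    rw [A_intCast] at hp
    have : (orderOf (x * y) : ℤ) ∣ k := orderOf_dvd_iff_zpow_eq_one.mpr hp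
    have : ((k : ℤ) : ZMod (orderOf (x * y))) = 0 :=
      (ZMod.intCast_zmod_eq_zero_iff_dvd k _).mpr this
    rw [this]; rfl
  · exfalso
    rw [dhom_sr] at hp
    obtain ⟨k, hk⟩ := A_exists (x * y) _ (pow_orderOf_eq_one _) i
    rw [hk] at hp
    have hxm : x = ((x * y) ^ k)⁻¹ := eq_inv_of_mul_eq_one_left hp
    apply x_not_mem_zpowers hx hy
    have hm : ((x * y) ^ k)⁻¹ ∈ Subgroup.zpowers (x * y) :=
      Subgroup.inv_mem _ (Subgroup.zpow_mem_zpowers _ k)
    rw [← hxm] at hm
    exact hm

theorem dhom_range {x y : G} (hx : x * x = 1) (hy : y * y = 1) (n : ℕ)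
    (h : (x * y) ^ n = 1) :
    (dhom hx hy n h).range = Subgroup.closure ({x, y} : Set G) := by
  apply le_antisymm
  · rintro _ ⟨p, rfl⟩
    rcases p with i | i
    · rw [dhom_r]
      obtain ⟨k, hk⟩ := A_exists (x * y) n h i
      rw [hk]
      exact (mem_closure_pair_iff hx hy _).mpr ⟨k, Or.inl rfl⟩
    · rw [dhom_sr]
      obtain ⟨k, hk⟩ := A_exists (x * y) n h i
      rw [hk]
      exact (mem_closure_pair_iff hx hy _).mpr ⟨k, Or.inr rfl⟩
  · rw [Subgroup.closure_le]
    rintro z (rfl | rfl)
    · refine ⟨DihedralGroup.sr 0, ?_⟩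
      rw [dhom_sr]
      have : A (z * y) n h 0 = 1 := by
        have := A_intCast (z * y) n h 0
        simpa using this
      rw [this, mul_one]
    · refine ⟨DihedralGroup.sr 1, ?_⟩
      rw [dhom_sr]
      have : A (x * z) n h 1 = x * z := by
        have := A_intCast (x * z) n h 1
        simpa using this
      rw [this, ← mul_assoc, hx, one_mul]

/-- Two distinct involutions x, y of a finite group generate a subgroup isomorphic to the dihedral group of order 2·|xy|. -/
theorem result {G : Type*} [Group G] [Finite G] (x y : G) (hx : orderOf x = 2) (hy : orderOf y = 2) (hxy : x ≠ y) : Nonempty (↥(Subgroup.closure ({x, y} : Set G)) ≃* DihedralGroup (orderOf (x * y))) := by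
  have e1 := MonoidHom.ofInjective (dhom_injective hx hy)
  have e2 := MulEquiv.subgroupCongr (dhom_range (sq_one_of_orderOf_two hx)
    (sq_one_of_orderOf_two hy) (orderOf (x * y)) (pow_orderOf_eq_one _))
  exact ⟨(e1.trans e2).symm⟩

end Cfsg.Agent.S0206
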