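import Cfsg.Statements.S0212
import Cfsg.Agent.Lib.Helper06.BrauerFowler
import Cfsg.Agent.Lib.Helper06.SimpleAux

set_option autoImplicit false
open Cfsg

namespace Cfsg.Agent.S0212

open Cfsg.Agent.Lib.Helper06 in
/-- The Brauer–Fowler bound: if G is a finite simple group and t an involution of G whose centralizer has order n, then |G| ≤ (2n^2)!. -/
theorem result {G : Type*} [Group G] [Finite G] [IsSimpleGroup G] (t : G) (ht : orderOf t = 2) : Nat.card G ≤ Nat.factorial (2 * (Nat.card (Subgroup.centralizer ({t} : Set G))) ^ 2) := by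
  obtain ⟨n, hn⟩ : ∃ n, n = Nat.card (Subgroup.centralizer ({t} : Set G)) := ⟨_, rfl⟩
  rw [← hn]
  have hnpos : 0 < n := by rw [hn]; exact Nat.card_pos
  have hn2 : n ≤ n ^ 2 := Nat.le_self_pow two_ne_zero n
  by_cases hC : Subgroup.centralizer ({t} : Set G) = ⊤
  · have hN : Nat.card G = n := by
      rw [hn, hC, Subgroup.card_top]
    rw [hN]
    calc n ≤ Nat.factorial n := Nat.self_le_factorial n
      _ ≤ Nat.factorial (2 * n ^ 2) := Nat.factorial_le (by omega)
  · have hZ : Odd (Nat.card (Subgroup.center G)) := by
      have hnorm : (Subgroup.center G).Normal := inferInstance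
      rcases hnorm.eq_bot_or_eq_top with h | h
      · rw [h, Subgroup.card_bot]; exact odd_one
      · exfalso
        apply hC
        rw [eq_top_iff]
        intro g _
        rw [mem_centralizer_singleton_iff]
        have htc : t ∈ Subgroup.center G := by rw [h]; trivial
        exact (Subgroup.mem_center_iff.mp htc g).symm
    have heven : Even (Nat.card G) := by
      rw [even_iff_two_dvd, ← ht]
      exact orderOf_dvd_natCard t
    obtain ⟨H, hH, h2 | hlt⟩ := brauer_fowler heven hZ
    · rw [card_eq_two_of_index_two H h2]
      calc 2 ≤ 2 * n ^ 2 := by omega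
        _ ≤ Nat.factorial (2 * n ^ 2) := Nat.self_le_factorial _
    · have hcl := card_class_mul_card_centralizer t
      rw [← hn] at hcl
      have hKm : Nat.card {u : G // IsConj t u} ≤ invCount G := by
        unfold invCount
        apply Nat.card_le_card_of_injective
          (fun u : {u : G // IsConj t u} => (⟨u.1, by
            obtain ⟨c, hc⟩ := isConj_iff.mp u.2
            have h : SemiconjBy c t u.1 := by
              show c * t = u.1 * c
              rw [← hc]; group
            rw [← h.orderOf_eq]; exact ht⟩ : {t : G // orderOf t = 2}))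
        intro a b hab
        apply Subtype.ext
        exact congrArg (fun c : {t : G // orderOf t = 2} => (c : G)) hab
      obtain ⟨m, hm⟩ : ∃ m, m = invCount G := ⟨_, rfl⟩
      obtain ⟨N, hNdef⟩ : ∃ N, N = Nat.card G := ⟨_, rfl⟩
      rw [← hm] at hKm hlt
      rw [← hNdef] at hcl hlt ⊢
      have hNmn : N ≤ m * n := by
        rw [← hcl]
        exact Nat.mul_le_mul_right _ hKm
      have hmpos : 0 < m := by
        rcases Nat.eq_zero_or_pos m with h0 | h0
        · rw [h0, zero_mul] at hNmn
          have : 0 < N := by rw [hNdef]; exact Nat.card_pos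
          omega
        · exact h0
      have h1 : N * (N + m) ≤ (m * n) * (m * n + m) :=
        Nat.mul_le_mul hNmn (Nat.add_le_add_right hNmn m)
      have h2 : (m * n) * (m * n + m) = m ^ 2 * (n * (n + 1)) := by ring
      have h3 : 2 * H.index * m ^ 2 = m ^ 2 * (2 * H.index) := by ring
      rw [h2] at h1
      rw [h3] at hlt
      have h4 : m ^ 2 * (2 * H.index) < m ^ 2 * (n * (n + 1)) := lt_of_lt_of_le hlt h1
      have h5 : 2 * H.index < n * (n + 1) := Nat.lt_of_mul_lt_mul_left h4
      have h6 : n * (n + 1) = n ^ 2 + n := by ring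
      have hidx : H.index ≤ 2 * n ^ 2 := by omega
      calc N ≤ Nat.factorial H.index := by rw [hNdef]; exact card_le_factorial_index H hH
        _ ≤ Nat.factorial (2 * n ^ 2) := Nat.factorial_le hidx

end Cfsg.Agent.S0212
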