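import Cfsg.Statements.S0213
import Cfsg.Agent.Lib.Helper06.BrauerFowler
import Cfsg.Agent.Lib.Helper06.SylowAux

set_option autoImplicit false
open Cfsg

namespace Cfsg.Agent.S0213

open Cfsg.Agent.Lib.Helper06

section

variable {G : Type*} [Group G]

theorem orderOf_of_isConj {a b : G} (h : IsConj a b) : orderOf b = orderOf a := by
  obtain ⟨c, hc⟩ := isConj_iff.mp h
  have hs : SemiconjBy c a b := by
    show c * a = b * c
    rw [← hc]; group
  exact hs.orderOf_eq.symm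

/-- the fibre: pairs `(u, v)` in the two classes with `w` in the cyclic group of `u * v`. -/
abbrev Fib (x₁ x₂ w : G) : Type _ :=
  {p : G × G // IsConj x₁ p.1 ∧ IsConj x₂ p.2 ∧ w ∈ Subgroup.zpowers (p.1 * p.2)}

theorem mem_zpowers_conj {a w : G} (g : G) (h : w ∈ Subgroup.zpowers a) :
    g * w * g⁻¹ ∈ Subgroup.zpowers (g * a * g⁻¹) := by
  obtain ⟨k, rfl⟩ := Subgroup.mem_zpowers_iff.mp h
  rw [← conj_zpow]
  exact Subgroup.zpow_mem_zpowers _ k

theorem card_Fib_conj (x₁ x₂ w g : G) :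
    Nat.card (Fib x₁ x₂ (g * w * g⁻¹)) = Nat.card (Fib x₁ x₂ w) := by
  apply Nat.card_congr
  refine
    { toFun := fun p => ⟨(g⁻¹ * p.1.1 * g, g⁻¹ * p.1.2 * g), ?_, ?_, ?_⟩
      invFun := fun p => ⟨(g * p.1.1 * g⁻¹, g * p.1.2 * g⁻¹), ?_, ?_, ?_⟩
      left_inv := ?_
      right_inv := ?_ }
  · exact p.2.1.trans (isConj_iff.mpr ⟨g⁻¹, by rw [inv_inv]⟩)
  · exact p.2.2.1.trans (isConj_iff.mpr ⟨g⁻¹, by rw [inv_inv]⟩)
  · have h := mem_zpowers_conj g⁻¹ p.2.2.2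
    rw [inv_inv] at h
    have e1 : g⁻¹ * (g * w * g⁻¹) * g = w := by group
    have e2 : g⁻¹ * (p.1.1 * p.1.2) * g = g⁻¹ * p.1.1 * g * (g⁻¹ * p.1.2 * g) := by group
    rw [e1, e2] at h
    exact h
  · exact p.2.1.trans (isConj_iff.mpr ⟨g, rfl⟩)
  · exact p.2.2.1.trans (isConj_iff.mpr ⟨g, rfl⟩)
  · have h := mem_zpowers_conj g p.2.2.2
    have e2 : g * (p.1.1 * p.1.2) * g⁻¹ = g * p.1.1 * g⁻¹ * (g * p.1.2 * g⁻¹) := by group
    rw [e2] at h
    exact h
  · rintro ⟨⟨u, v⟩, h⟩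
    apply Subtype.ext
    apply Prod.ext
    · show g * (g⁻¹ * u * g) * g⁻¹ = u
      group
    · show g * (g⁻¹ * v * g) * g⁻¹ = v
      group
  · rintro ⟨⟨u, v⟩, h⟩
    apply Subtype.ext
    apply Prod.ext
    · show g⁻¹ * (g * u * g⁻¹) * g = u
      group
    · show g⁻¹ * (g * v * g⁻¹) * g = v
      group

theorem card_Fib_of_isConj (x₁ x₂ w w' : G) (h : IsConj w w') :
    Nat.card (Fib x₁ x₂ w') = Nat.card (Fib x₁ x₂ w) := by
  obtain ⟨g, rfl⟩ := isConj_iff.mp h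
  exact card_Fib_conj x₁ x₂ w g

variable [Finite G]

theorem exists_invol (x₁ x₂ : G) (h₁ : orderOf x₁ = 2) (h₂ : orderOf x₂ = 2)
    (hnc : ¬ IsConj x₁ x₂) (u v : G) (hu : IsConj x₁ u) (hv : IsConj x₂ v) :
    ∃ w : G, orderOf w = 2 ∧ w ∈ Subgroup.zpowers (u * v) := by
  have hu2 : orderOf u = 2 := (orderOf_of_isConj hu).trans h₁
  have hv2 : orderOf v = 2 := (orderOf_of_isConj hv).trans h₂
  have heven : Even (orderOf (u * v)) := by
    by_contra hodd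
    rw [Nat.not_even_iff_odd] at hodd
    obtain ⟨d, -, hd⟩ := conj_of_odd hu2 hv2 hodd
    exact hnc ((hu.trans (isConj_iff.mpr ⟨d, hd⟩)).trans hv.symm)
  obtain ⟨hz2, -, -⟩ := central_inv hu2 hv2 heven
  exact ⟨_, hz2, Subgroup.pow_mem _ (Subgroup.mem_zpowers _) _⟩

omit [Finite G] in
theorem invol_unique [Finite G] (a w w' : G) (hw : orderOf w = 2) (hw' : orderOf w' = 2)
    (hm : w ∈ Subgroup.zpowers a) (hm' : w' ∈ Subgroup.zpowers a) : w = w' := by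
  have h := cyclic_unique_invol (C := Subgroup.zpowers a) ⟨w, hm⟩ ⟨w', hm'⟩
    (by rw [Subgroup.orderOf_mk]; exact hw) (by rw [Subgroup.orderOf_mk]; exact hw')
  exact congrArg Subtype.val h

end

/-- Thompson Order Formula, two-class case: if every involution of the finite group G is conjugate to exactly one of the non-conjugate involutions x₁, x₂, and nᵢ is the number of pairs (u, v) with u conjugate to x₁, v conjugate to x₂ and xᵢ in the cyclic group generated by uv, then |G| = |C(x₂)| n₁ + |C(x₁)| n₂. -/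
theorem result {G : Type*} [Group G] [Finite G] (x₁ x₂ : G) (h₁ : orderOf x₁ = 2) (h₂ : orderOf x₂ = 2) (hnc : ¬ IsConj x₁ x₂) (hall : ∀ t : G, orderOf t = 2 → IsConj x₁ t ∨ IsConj x₂ t) : Nat.card G = Nat.card (Subgroup.centralizer ({x₂} : Set G)) * Nat.card {p : G × G // IsConj x₁ p.1 ∧ IsConj x₂ p.2 ∧ x₁ ∈ Subgroup.zpowers (p.1 * p.2)} + Nat.card (Subgroup.centralizer ({x₁} : Set G)) * Nat.card {p : G × G // IsConj x₁ p.1 ∧ IsConj x₂ p.2 ∧ x₂ ∈ Subgroup.zpowers (p.1 * p.2)} := by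
  classical
  have : Fintype G := Fintype.ofFinite G
  -- the type of triples
  let T := {q : (G × G) × G // IsConj x₁ q.1.1 ∧ IsConj x₂ q.1.2 ∧ orderOf q.2 = 2 ∧
    q.2 ∈ Subgroup.zpowers (q.1.1 * q.1.2)}
  -- first count
  have hT1 : Nat.card T = Nat.card {u : G // IsConj x₁ u} * Nat.card {v : G // IsConj x₂ v} := by
    rw [← Nat.card_prod]
    apply Nat.card_congr
    have hex : ∀ uv : {u : G // IsConj x₁ u} × {v : G // IsConj x₂ v},
        ∃ w : G, orderOf w = 2 ∧ w ∈ Subgroup.zpowers (uv.1.1 * uv.2.1) :=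
      fun uv => exists_invol x₁ x₂ h₁ h₂ hnc uv.1.1 uv.2.1 uv.1.2 uv.2.2
    choose zf hzf using hex
    refine
      { toFun := fun q => (⟨q.1.1.1, q.2.1⟩, ⟨q.1.1.2, q.2.2.1⟩)
        invFun := fun uv => ⟨((uv.1.1, uv.2.1), zf uv), uv.1.2, uv.2.2, (hzf uv).1, (hzf uv).2⟩
        left_inv := ?_
        right_inv := ?_ }
    · rintro ⟨⟨⟨u, v⟩, w⟩, hu, hv, hw2, hwm⟩
      apply Subtype.ext
      apply Prod.ext
      · rfl
      · simp only at hu hv hw2 hwm ⊢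
        exact invol_unique (u * v) _ w (hzf (⟨u, hu⟩, ⟨v, hv⟩)).1 hw2
          (hzf (⟨u, hu⟩, ⟨v, hv⟩)).2 hwm
    · rintro ⟨u, v⟩
      rfl
  -- second count: fibres over the third coordinate
  have hfib : ∀ w : G, Nat.card {q : T // q.1.2 = w} =
      (if IsConj x₁ w then Nat.card (Fib x₁ x₂ x₁) else 0) +
      (if IsConj x₂ w then Nat.card (Fib x₁ x₂ x₂) else 0) := by
    intro w
    by_cases hw2 : orderOf w = 2
    · have e : {q : T // q.1.2 = w} ≃ Fib x₁ x₂ w :=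
        { toFun := fun q => ⟨q.1.1.1, q.1.2.1, q.1.2.2.1, by
            have := q.1.2.2.2.2
            rw [q.2] at this
            exact this⟩
          invFun := fun p => ⟨⟨(p.1, w), p.2.1, p.2.2.1, hw2, p.2.2.2⟩, rfl⟩
          left_inv := by
            rintro ⟨⟨⟨⟨u, v⟩, w'⟩, hu, hv, hw', hwm⟩, hq⟩
            simp only at hq
            subst hq
            rfl
          right_inv := by
            rintro ⟨⟨u, v⟩, h⟩
            rfl }
      rw [Nat.card_congr e]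
      rcases hall w hw2 with hc | hc
      · have hn2 : ¬ IsConj x₂ w := fun h => hnc (hc.trans h.symm)
        rw [if_pos hc, if_neg hn2, add_zero]
        exact card_Fib_of_isConj x₁ x₂ x₁ w hc
      · have hn1 : ¬ IsConj x₁ w := fun h => hnc (h.trans hc.symm)
        rw [if_neg hn1, if_pos hc, zero_add]
        exact card_Fib_of_isConj x₁ x₂ x₂ w hc
    · have hn1 : ¬ IsConj x₁ w := fun h => hw2 ((orderOf_of_isConj h).trans h₁)
      have hn2 : ¬ IsConj x₂ w := fun h => hw2 ((orderOf_of_isConj h).trans h₂)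
      rw [if_neg hn1, if_neg hn2, add_zero]
      have : IsEmpty {q : T // q.1.2 = w} := by
        constructor
        rintro ⟨q, hq⟩
        apply hw2
        rw [← hq]
        exact q.2.2.2.1
      exact Nat.card_of_isEmpty
  have hT2 : Nat.card T = Nat.card (Fib x₁ x₂ x₁) * Nat.card {u : G // IsConj x₁ u} +
      Nat.card (Fib x₁ x₂ x₂) * Nat.card {v : G // IsConj x₂ v} := by
    have e := Equiv.sigmaFiberEquiv (fun q : T => q.1.2)
    rw [← Nat.card_congr e, Nat.card_sigma, Finset.sum_congr rfl (fun w _ => hfib w),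
      Finset.sum_add_distrib, sum_ite_const, sum_ite_const,
      Nat.card_eq_fintype_card (α := {u : G // IsConj x₁ u}),
      Nat.card_eq_fintype_card (α := {v : G // IsConj x₂ v}),
      Fintype.card_subtype, Fintype.card_subtype]
  -- combine
  have hc1 := card_class_mul_card_centralizer x₁
  have hc2 := card_class_mul_card_centralizer x₂
  obtain ⟨N, hN⟩ : ∃ N, N = Nat.card G := ⟨_, rfl⟩
  obtain ⟨k₁, hk₁⟩ : ∃ k, k = Nat.card {u : G // IsConj x₁ u} := ⟨_, rfl⟩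
  obtain ⟨k₂, hk₂⟩ : ∃ k, k = Nat.card {u : G // IsConj x₂ u} := ⟨_, rfl⟩
  obtain ⟨c₁, hcc₁⟩ : ∃ c, c = Nat.card (Subgroup.centralizer ({x₁} : Set G)) := ⟨_, rfl⟩
  obtain ⟨c₂, hcc₂⟩ : ∃ c, c = Nat.card (Subgroup.centralizer ({x₂} : Set G)) := ⟨_, rfl⟩
  obtain ⟨n₁, hn₁⟩ : ∃ n, n = Nat.card (Fib x₁ x₂ x₁) := ⟨_, rfl⟩
  obtain ⟨n₂, hn₂⟩ : ∃ n, n = Nat.card (Fib x₁ x₂ x₂) := ⟨_, rfl⟩
  show Nat.card G = Nat.card (Subgroup.centralizer ({x₂} : Set G)) * Nat.card (Fib x₁ x₂ x₁) +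
    Nat.card (Subgroup.centralizer ({x₁} : Set G)) * Nat.card (Fib x₁ x₂ x₂)
  rw [← hN, ← hcc₁, ← hcc₂, ← hn₁, ← hn₂]
  rw [← hk₁, ← hcc₁, ← hN] at hc1
  rw [← hk₂, ← hcc₂, ← hN] at hc2
  rw [hT1, ← hk₁, ← hk₂, ← hn₁, ← hn₂] at hT2
  have hNpos : 0 < N := by rw [hN]; exact Nat.card_pos
  apply Nat.eq_of_mul_eq_mul_left hNpos
  calc N * N = (k₁ * c₁) * (k₂ * c₂) := by rw [hc1, hc2]
    _ = (k₁ * k₂) * (c₁ * c₂) := by ring
    _ = (n₁ * k₁ + n₂ * k₂) * (c₁ * c₂) := by rw [hT2]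
    _ = (k₁ * c₁) * (c₂ * n₁) + (k₂ * c₂) * (c₁ * n₂) := by ring
    _ = N * (c₂ * n₁ + c₁ * n₂) := by rw [hc1, hc2]; ring

end Cfsg.Agent.S0213
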