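import Cfsg.Statements.S0214
import Cfsg.Agent.Lib.Helper06.StronglyEmbedded
import Cfsg.Agent.Lib.Helper06.SylowAux

set_option autoImplicit false
open Cfsg

namespace Cfsg.Agent.S0214

open Cfsg.Agent.Lib.Helper06

section

variable {G : Type*} [Group G] [Finite G] (H : Subgroup G) (P : Sylow 2 ↥H)
  (hN : ∀ X : Subgroup ↥H, X ≤ (P : Subgroup ↥H) → X ≠ ⊥ →
    Subgroup.normalizer ((X.map H.subtype : Subgroup G) : Set G) ≤ H)

include hN

/-- the normalizer of any nontrivial 2-subgroup of `H` lies in `H`. -/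
theorem normalizer_le (U : Subgroup G) (hU : IsPGroup 2 U) (hUH : U ≤ H) (hU1 : U ≠ ⊥) :
    Subgroup.normalizer (U : Set G) ≤ H := by
  have : Fact (Nat.Prime 2) := ⟨Nat.prime_two⟩
  obtain ⟨h, hhH, hconj⟩ := exists_conj_mem_of_sylow_subgroup P rfl hU hUH
  set V : Subgroup G := U.map (MulAut.conj h⁻¹).toMonoidHom with hV
  have hVP : V ≤ (P : Subgroup ↥H).map H.subtype := by
    intro v hv
    rw [hV, mem_conj_map', inv_inv] at hv
    have := hconj _ hv
    have e : h⁻¹ * (h * v * h⁻¹) * h = v := by group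
    rw [e] at this
    exact this
  have hVH : V ≤ H := hVP.trans (Subgroup.map_subtype_le _)
  have hXP : V.subgroupOf H ≤ (P : Subgroup ↥H) := by
    intro x hx
    rw [Subgroup.mem_subgroupOf] at hx
    obtain ⟨p, hp, hpx⟩ := hVP hx
    have : p = x := Subtype.ext hpx
    rw [← this]; exact hp
  have hX1 : V.subgroupOf H ≠ ⊥ := by
    intro hbot
    apply hU1
    rw [Subgroup.eq_bot_iff_forall]
    intro u hu
    have hv : h⁻¹ * u * h ∈ V := by
      rw [hV, mem_conj_map', inv_inv]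
      have e : h * (h⁻¹ * u * h) * h⁻¹ = u := by group
      rw [e]; exact hu
    have hx : (⟨h⁻¹ * u * h, hVH hv⟩ : ↥H) ∈ V.subgroupOf H := by
      rw [Subgroup.mem_subgroupOf]; exact hv
    rw [hbot, Subgroup.mem_bot] at hx
    have h1 : h⁻¹ * u * h = 1 := congrArg Subtype.val hx
    have : u = h * (h⁻¹ * u * h) * h⁻¹ := by group
    rw [this, h1]; group
  have hNV := hN (V.subgroupOf H) hXP hX1
  rw [Subgroup.subgroupOf_map_subtype, inf_eq_left.mpr hVH] at hNV
  intro n hn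
  have h1 := hNV (conj_mem_normalizer U h n hn)
  have : n = h * (h⁻¹ * n * h) * h⁻¹ := by group
  rw [this]
  exact H.mul_mem (H.mul_mem hhH h1) (H.inv_mem hhH)

theorem main (g : G) (hgH : g ∉ H) (t : G) (htH : t ∈ H) (ht2 : orderOf t = 2)
    (hs : g⁻¹ * t * g ∈ H) : False := by
  have : Fact (Nat.Prime 2) := ⟨Nat.prime_two⟩
  obtain ⟨K, hK⟩ : ∃ K : Subgroup G, K = H ⊓ H.map (MulAut.conj g).toMonoidHom := ⟨_, rfl⟩
  have hKH : K ≤ H := by rw [hK]; exact inf_le_left
  have hKg : ∀ x ∈ K, g⁻¹ * x * g ∈ H := by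
    intro x hx
    rw [hK] at hx
    exact (mem_conj_map' H g x).mp hx.2
  have htK : t ∈ K := by
    rw [hK]
    exact ⟨htH, (mem_conj_map' H g t).mpr hs⟩
  -- a Sylow 2-subgroup of K containing t
  have hpt : IsPGroup 2 (Subgroup.zpowers (⟨t, htK⟩ : ↥K)) := by
    apply IsPGroup.of_card (n := 1)
    rw [Nat.card_zpowers, pow_one, ← ht2]
    exact Subgroup.orderOf_mk t htK
  obtain ⟨U₀, hU₀⟩ := hpt.exists_le_sylow
  obtain ⟨U, hUdef⟩ : ∃ U : Subgroup G, U = (U₀ : Subgroup ↥K).map K.subtype := ⟨_, rfl⟩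
  have htU : t ∈ U := by
    rw [hUdef]
    exact ⟨⟨t, htK⟩, hU₀ (Subgroup.mem_zpowers _), rfl⟩
  have hUK : U ≤ K := by rw [hUdef]; exact Subgroup.map_subtype_le _
  have hU2 : IsPGroup 2 U := by rw [hUdef]; exact U₀.2.map _
  have hU1 : U ≠ ⊥ := by
    intro h
    rw [h, Subgroup.mem_bot] at htU
    exact ne_one_of_orderOf_two ht2 htU
  have hUH : U ≤ H := hUK.trans hKH
  have hNU : Subgroup.normalizer (U : Set G) ≤ H := normalizer_le H P hN U hU2 hUH hU1
  -- the conjugate W = g⁻¹ U g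
  set W : Subgroup G := U.map (MulAut.conj g⁻¹).toMonoidHom with hW
  have hWmem : ∀ w, w ∈ W ↔ g * w * g⁻¹ ∈ U := by
    intro w
    rw [hW, mem_conj_map', inv_inv]
  have hWH : W ≤ H := by
    intro w hw
    rw [hWmem] at hw
    have := hKg _ (hUK hw)
    have e : g⁻¹ * (g * w * g⁻¹) * g = w := by group
    rw [e] at this
    exact this
  have hW2 : IsPGroup 2 W := hU2.map _
  have hW1 : W ≠ ⊥ := by
    intro h
    have : g⁻¹ * t * g ∈ W := by
      rw [hWmem]
      have e : g * (g⁻¹ * t * g) * g⁻¹ = t := by group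
      rw [e]; exact htU
    rw [h, Subgroup.mem_bot] at this
    apply ne_one_of_orderOf_two ht2
    have e : t = g * (g⁻¹ * t * g) * g⁻¹ := by group
    rw [e, this]; group
  have hNW : Subgroup.normalizer (W : Set G) ≤ H := normalizer_le H P hN W hW2 hWH hW1
  have hNUK : Subgroup.normalizer (U : Set G) ≤ K := by
    intro n hn
    rw [hK]
    refine Subgroup.mem_inf.mpr ⟨hNU hn, ?_⟩
    rw [mem_conj_map']
    exact hNW (conj_mem_normalizer U g n hn)
  -- a Sylow 2-subgroup of G containing U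
  obtain ⟨S₁, hS₁⟩ := hU2.exists_le_sylow
  by_cases hUS : U = S₁
  · -- U is a Sylow subgroup of G
    obtain ⟨h₁, hh₁H, hc₁⟩ := exists_conj_mem_of_sylow_subgroup P rfl hU2 hUH
    obtain ⟨h₂, hh₂H, hc₂⟩ := exists_conj_mem_of_sylow_subgroup P rfl hW2 hWH
    obtain ⟨P', hP'⟩ : ∃ P' : Subgroup G, P' = (P : Subgroup ↥H).map H.subtype := ⟨_, rfl⟩
    rw [← hP'] at hc₁ hc₂
    have hP'2 : IsPGroup 2 P' := by rw [hP']; exact P.2.map _
    have hcard : Nat.card P' ≤ Nat.card U := by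
      obtain ⟨S₂, hS₂⟩ := hP'2.exists_le_sylow
      calc Nat.card P' ≤ Nat.card (S₂ : Subgroup G) := Subgroup.card_le_of_le hS₂
        _ = Nat.card (S₁ : Subgroup G) := by
            rw [Sylow.card_eq_multiplicity S₂, Sylow.card_eq_multiplicity S₁]
        _ = Nat.card U := by rw [hUS]
    -- the map U → P', u ↦ h₁⁻¹ u h₁ is onto
    let f : U → P' := fun u => ⟨h₁⁻¹ * u.1 * h₁, hc₁ u.1 u.2⟩
    have hf : Function.Injective f := by
      intro a b hab
      have h' : h₁⁻¹ * a.1 * h₁ = h₁⁻¹ * b.1 * h₁ := congrArg Subtype.val hab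
      apply Subtype.ext
      exact mul_left_cancel (mul_right_cancel h')
    have hfs : Function.Surjective f := (hf.bijective_of_nat_card_le hcard).2
    -- n = g h₂ h₁⁻¹ satisfies n⁻¹ U n ⊆ U
    have hnorm : (g * h₂ * h₁⁻¹)⁻¹ ∈ Subgroup.normalizer (U : Set G) := by
      apply Subgroup.mem_normalizer_fintype
      intro u hu
      have hw : g⁻¹ * u * g ∈ W := by
        rw [hWmem]
        have e : g * (g⁻¹ * u * g) * g⁻¹ = u := by group
        rw [e]; exact hu
      have hp := hc₂ _ hw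
      obtain ⟨u', hu'⟩ := hfs ⟨_, hp⟩
      have h' : h₁⁻¹ * u'.1 * h₁ = h₂⁻¹ * (g⁻¹ * u * g) * h₂ := congrArg Subtype.val hu'
      have e : (g * h₂ * h₁⁻¹)⁻¹ * u * (g * h₂ * h₁⁻¹)⁻¹⁻¹ =
          h₁ * (h₂⁻¹ * (g⁻¹ * u * g) * h₂) * h₁⁻¹ := by group
      rw [e, ← h']
      have e2 : h₁ * (h₁⁻¹ * u'.1 * h₁) * h₁⁻¹ = u'.1 := by group
      rw [e2]
      exact u'.2
    have hnH := hNU (Subgroup.inv_mem _ hnorm)
    rw [inv_inv] at hnH
    apply hgH
    have e : g = (g * h₂ * h₁⁻¹) * h₁ * h₂⁻¹ := by group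
    rw [e]
    exact H.mul_mem (H.mul_mem hnH hh₁H) (H.inv_mem hh₂H)
  · -- U is properly contained in S₁
    have hlt : U < (S₁ : Subgroup G) := lt_of_le_of_ne hS₁ hUS
    obtain ⟨y, hyS, hyU, hyN⟩ := exists_mem_normalizer_not_mem_of_lt S₁.2 hlt
    have hyK : y ∈ K := hNUK hyN
    have hQ : (S₁ : Subgroup G) ⊓ K = (U₀ : Subgroup ↥K).map K.subtype :=
      sylow_map_maximal K U₀ _ (S₁.2.to_le inf_le_left)
        (by rw [← hUdef]; exact le_inf hS₁ hUK) inf_le_right
    apply hyU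
    rw [hUdef, ← hQ]
    exact ⟨hyS, hyK⟩

end

/-- Let H be a proper subgroup of the finite group G and P a nontrivial Sylow 2-subgroup of H. Then H is strongly embedded in G if and only if N_G(X) ≤ H for every nontrivial subgroup X of P. -/
theorem result {G : Type*} [Group G] [Finite G] (H : Subgroup G) (hH : H ≠ ⊤) (P : Sylow 2 ↥H) (hP : (P : Subgroup ↥H) ≠ ⊥) : Cfsg.IsStronglyEmbedded H ↔ (∀ X : Subgroup ↥H, X ≤ (P : Subgroup ↥H) → X ≠ ⊥ → Subgroup.normalizer ((X.map H.subtype : Subgroup G) : Set G) ≤ H) := by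
  have : Fact (Nat.Prime 2) := ⟨Nat.prime_two⟩
  rw [stronglyEmbedded_iff]
  constructor
  · rintro ⟨-, -, hse⟩ X hXP hX1 g hg
    by_contra hgH
    have hX2 : IsPGroup 2 X := P.2.to_le hXP
    have h2dvd : 2 ∣ Nat.card X := by
      obtain ⟨k, hk⟩ := IsPGroup.iff_card.mp hX2
      rcases k with _ | k
      · rw [pow_zero] at hk
        exact absurd (Subgroup.card_eq_one.mp hk) hX1
      · rw [hk, pow_succ]; exact dvd_mul_left 2 _
    obtain ⟨x, hx⟩ := exists_prime_orderOf_dvd_card' 2 h2dvd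
    have ht2 : orderOf (x.1.1 : G) = 2 := by
      rw [Subgroup.orderOf_coe, Subgroup.orderOf_coe, hx]
    have htX' : (x.1.1 : G) ∈ X.map H.subtype := ⟨x.1, x.2, rfl⟩
    have hg' := Subgroup.inv_mem _ hg
    have h1 := (Subgroup.mem_normalizer_iff.mp hg' _).mp htX'
    rw [inv_inv] at h1
    exact hse g hgH _ x.1.2 ht2 (Subgroup.map_subtype_le _ h1)
  · intro hN
    refine ⟨hH, ?_, ?_⟩
    · have h2dvd : 2 ∣ Nat.card (P : Subgroup ↥H) := by
        obtain ⟨k, hk⟩ := IsPGroup.iff_card.mp P.2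
        rcases k with _ | k
        · rw [pow_zero] at hk
          exact absurd (Subgroup.card_eq_one.mp hk) hP
        · rw [hk, pow_succ]; exact dvd_mul_left 2 _
      exact even_iff_two_dvd.mpr (h2dvd.trans (Subgroup.card_subgroup_dvd_card _))
    · intro g hgH t htH ht2 hs
      exact main H P hN g hgH t htH ht2 hs

end Cfsg.Agent.S0214
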