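import Cfsg.Statements.S0216
import Cfsg.Agent.Lib.Helper06.Isolated

set_option autoImplicit false
open Cfsg

namespace Cfsg.Agent.S0216

open Cfsg.Agent.Lib.Helper06 in
/-- For an involution u in a Sylow 2-subgroup P of a finite group G, the following are equivalent: no G-conjugate of u other than u lies in P; every commutator of u with an element of G has odd order. -/
theorem result {G : Type*} [Group G] [Finite G] (P : Sylow 2 G) (u : G) (hu : orderOf u = 2) (huP : u ∈ P) : (∀ g : G, g * u * g⁻¹ ∈ P → g * u * g⁻¹ = u) ↔ (∀ g : G, Odd (orderOf (u * g * u⁻¹ * g⁻¹))) := by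
  have hu1 := sq_one_of_orderOf_two hu
  have hui := inv_eq_self_of_orderOf_two hu
  constructor
  · intro hiso g
    have hcomm : u * g * u⁻¹ * g⁻¹ = u * (g * u * g⁻¹) := by rw [hui]; group
    rw [hcomm]
    obtain ⟨v, hv⟩ : ∃ v, v = g * u * g⁻¹ := ⟨_, rfl⟩
    rw [← hv]
    have hv1 : v * v = 1 := by
      rw [hv]
      calc (g * u * g⁻¹) * (g * u * g⁻¹) = g * (u * u) * g⁻¹ := by group
        _ = 1 := by rw [hu1]; group
    have hn0 : orderOf (u * v) ≠ 0 := (orderOf_pos _).ne'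
    obtain ⟨a, b, hb, hn⟩ := Nat.exists_eq_two_pow_mul_odd hn0
    obtain ⟨m, hm⟩ := hb
    have hw := rot_conj_y hu1 hv1 (-(m : ℤ))
    have he : (1 : ℤ) - 2 * (-(m : ℤ)) = (b : ℤ) := by rw [hm]; push_cast; ring
    rw [he, zpow_natCast] at hw
    obtain ⟨d, hd⟩ : ∃ d, d = (u * v) ^ (-(m : ℤ)) := ⟨_, rfl⟩
    rw [← hd] at hw
    have hcw : (d * g) * u * (d * g)⁻¹ = u * (u * v) ^ b := by
      rw [← hw, hv]; group
    have hpow : (u * ((d * g) * u * (d * g)⁻¹)) ^ (2 ^ a) = 1 := by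
      rw [hcw, ← mul_assoc, hu1, one_mul, ← pow_mul, mul_comm, ← hn, pow_orderOf_eq_one]
    have h1 := isolated_eq_of_two_power P u hu1 hiso (d * g) a hpow
    rw [hcw] at h1
    have hb1 : (u * v) ^ b = 1 := by
      have := mul_left_cancel (a := u) (b := (u * v) ^ b) (c := 1) (by rw [mul_one]; exact h1)
      exact this
    have hdvd : orderOf (u * v) ∣ b := orderOf_dvd_of_pow_eq_one hb1
    exact Odd.of_dvd_nat ⟨m, hm⟩ hdvd
  · intro hodd g hg
    have h1 := hodd g
    have hcomm : u * g * u⁻¹ * g⁻¹ = u * (g * u * g⁻¹) := by rw [hui]; group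
    rw [hcomm] at h1
    have hmem : u * (g * u * g⁻¹) ∈ (P : Subgroup G) := Subgroup.mul_mem _ huP hg
    have : Fact (Nat.Prime 2) := ⟨Nat.prime_two⟩
    obtain ⟨k, hk⟩ := (IsPGroup.iff_orderOf.mp P.2) ⟨_, hmem⟩
    rw [Subgroup.orderOf_mk] at hk
    rw [hk] at h1
    have hk0 : k = 0 := by
      by_contra hk0
      have : Even (2 ^ k) := (Nat.even_pow' hk0).mpr even_two
      exact (Nat.not_even_iff_odd.mpr h1) this
    rw [hk0, pow_zero, orderOf_eq_one_iff] at hk
    have : g * u * g⁻¹ = u⁻¹ := eq_inv_of_mul_eq_one_right hk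
    rw [this, hui]

end Cfsg.Agent.S0216
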