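import Cfsg.Statements.S0218
import Cfsg.Agent.Lib.Helper06.Dihedral

set_option autoImplicit false
open Cfsg

namespace Cfsg.Agent.S0218

open Cfsg.Agent.Lib.Helper06 QuaternionGroup

theorem two_mul_eq_zero_imp (M : ℕ) [NeZero M] (i : ZMod (2 * M)) (h : i + i = 0) (h0 : i ≠ 0) :
    i = (M : ZMod (2 * M)) := by
  have hM : 0 < M := Nat.pos_of_ne_zero (NeZero.ne M)
  have hlt : i.val < 2 * M := ZMod.val_lt i
  have h1 : (i + i).val = 0 := by rw [h]; exact ZMod.val_zero
  rw [ZMod.val_add] at h1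
  have h2 : i.val ≠ 0 := by
    intro h'
    exact h0 ((ZMod.val_eq_zero i).mp h')
  have h3 : 2 * M ∣ i.val + i.val := Nat.dvd_of_mod_eq_zero h1
  obtain ⟨c, hc⟩ := h3
  have hc1 : c = 1 := by
    rcases c with _ | _ | c
    · omega
    · rfl
    · exfalso
      have : 2 * M * (c + 1 + 1) ≥ 2 * M * 2 := Nat.mul_le_mul_left _ (by omega)
      omega
  rw [hc1, mul_one] at hc
  have h4 : i.val = M := by omega
  have h5 : ((i.val : ℕ) : ZMod (2 * M)) = i := ZMod.natCast_zmod_val i
  rw [← h5]
  exact congrArg _ h4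

theorem orderOf_a_M (M : ℕ) [NeZero M] :
    orderOf (a (M : ZMod (2 * M)) : QuaternionGroup M) = 2 := by
  have hM : 0 < M := Nat.pos_of_ne_zero (NeZero.ne M)
  apply orderOf_two_of_sq_one
  · rw [a_mul_a, one_def]
    congr 1
    have : ((M : ZMod (2 * M)) + M) = ((2 * M : ℕ) : ZMod (2 * M)) := by
      push_cast; ring
    rw [this, ZMod.natCast_self]
  · intro h
    rw [one_def] at h
    have h' : (M : ZMod (2 * M)) = 0 := by
      injection h
    rw [ZMod.natCast_eq_zero_iff] at h'
    have := Nat.le_of_dvd hM h'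
    omega

theorem eq_of_orderOf_two (M : ℕ) [NeZero M] (x : QuaternionGroup M) (hx : orderOf x = 2) :
    x = a (M : ZMod (2 * M)) := by
  rcases x with i | i
  · have h1 := sq_one_of_orderOf_two hx
    rw [a_mul_a, one_def] at h1
    have h2 : i + i = 0 := by injection h1
    have h3 : i ≠ 0 := by
      intro h
      apply ne_one_of_orderOf_two hx
      rw [h, a_zero]
    rw [two_mul_eq_zero_imp M i h2 h3]
  · rw [orderOf_xa] at hx
    omega

/-- The generalized quaternion group of order 2^(n+3) contains exactly one element of order 2. -/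
theorem result (n : ℕ) : Nat.card {x : QuaternionGroup (2 ^ (n + 1)) // orderOf x = 2} = 1 := by
  rw [Nat.card_eq_one_iff_unique]
  constructor
  · constructor
    intro x y
    apply Subtype.ext
    rw [eq_of_orderOf_two _ x.1 x.2, eq_of_orderOf_two _ y.1 y.2]
  · exact ⟨⟨a ((2 ^ (n + 1) : ℕ) : ZMod (2 * 2 ^ (n + 1))), orderOf_a_M _⟩⟩

end Cfsg.Agent.S0218
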