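import Cfsg.Statements.S0220
import Cfsg.Agent.Lib.Helper06.IndexTwo
import Cfsg.Agent.Lib.Helper06.SylowAux

set_option autoImplicit false
open Cfsg

namespace Cfsg.Agent.S0220

open Cfsg.Agent.Lib.Helper06 in
theorem aux {G : Type*} [Group G] [Finite G] (x : G) (hx : orderOf x = 2) (C : Subgroup G)
    (hC : C = Subgroup.centralizer ({x} : Set G)) (S : Sylow 2 ↥C)
    (hS : IsCyclic (S : Subgroup ↥C)) : ∃ H : Subgroup G, H.index = 2 := by
  classical
  have : Fact (Nat.Prime 2) := ⟨Nat.prime_two⟩
  set S' : Subgroup G := (S : Subgroup C).map C.subtype with hS'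
  have hS'p : IsPGroup 2 S' := S.2.map _
  have hmemC : ∀ g : G, g ∈ C ↔ x * g = g * x := by
    intro g
    rw [hC, Subgroup.mem_centralizer_iff]
    constructor
    · intro h; exact h x (Set.mem_singleton x)
    · intro h y hy
      rw [Set.mem_singleton_iff] at hy
      rw [hy]; exact h
  have hxC : x ∈ C := (hmemC x).mpr rfl
  -- x lies in S'
  have hxS : (⟨x, hxC⟩ : C) ∈ S := by
    apply central_mem_sylow S
    · intro c
      apply Subtype.ext
      show c.1 * x = x * c.1
      exact ((hmemC c.1).mp c.2).symm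
    · rw [← hx]
      exact (Subgroup.orderOf_coe (⟨x, hxC⟩ : C)).symm
  have hxS' : x ∈ S' := ⟨⟨x, hxC⟩, hxS, rfl⟩
  -- S' is cyclic
  have hS'cyc : IsCyclic S' := by
    have e := (S : Subgroup C).equivMapOfInjective C.subtype (Subgroup.subtype_injective C)
    have : IsCyclic (S : Subgroup C) := hS
    exact isCyclic_of_surjective e e.surjective
  -- a Sylow subgroup of G containing S'
  obtain ⟨T, hT⟩ := hS'p.exists_le_sylow
  have hxT : x ∈ T := hT hxS'
  have : Nontrivial (T : Subgroup G) := by
    refine ⟨⟨⟨x, hxT⟩, 1, ?_⟩⟩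
    intro h
    exact ne_one_of_orderOf_two hx (congrArg Subtype.val h)
  have hcn : Nontrivial (Subgroup.center (T : Subgroup G)) := T.2.center_nontrivial
  have hcp : IsPGroup 2 (Subgroup.center (T : Subgroup G)) := T.2.to_subgroup _
  have h2dvd : 2 ∣ Nat.card (Subgroup.center (T : Subgroup G)) := by
    obtain ⟨n, hn⟩ := IsPGroup.iff_card.mp hcp
    rcases n with _ | n
    · rw [pow_zero] at hn
      have := (Nat.card_eq_one_iff_unique.mp hn).1
      exact absurd hcn (not_nontrivial _)
    · rw [hn, pow_succ]; exact dvd_mul_left 2 _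
  obtain ⟨z, hz⟩ := exists_prime_orderOf_dvd_card' 2 h2dvd
  set z' : G := z.1.1 with hz'
  have hz'ord : orderOf z' = 2 := by
    rw [hz', Subgroup.orderOf_coe, Subgroup.orderOf_coe, hz]
  have hz'T : z' ∈ T := z.1.2
  have hzcomm : ∀ t ∈ T, t * z' = z' * t := by
    intro t ht
    have := Subgroup.mem_center_iff.mp z.2 ⟨t, ht⟩
    exact congrArg Subtype.val this
  have hz'C : z' ∈ C := (hmemC z').mpr (hzcomm x hxT)
  -- T ⊓ C = S'
  have hU : (T : Subgroup G) ⊓ C = S' :=
    sylow_map_maximal C S _ (T.2.to_le inf_le_left)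
      (le_inf hT (Subgroup.map_subtype_le _)) inf_le_right
  have hz'S' : z' ∈ S' := by
    rw [← hU]; exact ⟨hz'T, hz'C⟩
  have hzx : z' = x := by
    have := hS'cyc
    have h := cyclic_unique_invol (C := S') ⟨z', hz'S'⟩ ⟨x, hxS'⟩
      (by rw [← hz'ord]; exact (Subgroup.orderOf_coe _).symm)
      (by rw [← hx]; exact (Subgroup.orderOf_coe _).symm)
    exact congrArg Subtype.val h
  have hTC : (T : Subgroup G) ≤ C := by
    intro t ht
    rw [hmemC]
    have := hzcomm t ht
    rw [hzx] at this
    exact this.symm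
  have hTS' : (T : Subgroup G) = S' := by
    rw [← hU, inf_eq_left.mpr hTC]
  have hTcyc : IsCyclic (T : Subgroup G) := by
    rw [hTS']; exact hS'cyc
  have heven : Even (Nat.card G) := by
    rw [even_iff_two_dvd, ← hx]
    exact orderOf_dvd_natCard x
  exact exists_index_two_of_cyclic_sylow heven T hTcyc

/-- If x is an involution of a finite group G and a Sylow 2-subgroup of the centralizer of x is cyclic, then G has a subgroup of index 2; in particular G is not simple unless it has order 2. -/
theorem result {G : Type*} [Group G] [Finite G] (x : G) (hx : orderOf x = 2) (S : Sylow 2 ↥(Subgroup.centralizer ({x} : Set G))) (hS : IsCyclic (S : Subgroup ↥(Subgroup.centralizer ({x} : Set G)))) : ∃ H : Subgroup G, H.index = 2 := by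
  exact aux x hx _ rfl S hS

end Cfsg.Agent.S0220
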