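import Cfsg.Statements.S0221
import Cfsg.Agent.S0111
import Cfsg.Agent.Lib.Helper06.E8Cent
import Cfsg.Agent.Lib.Helper06.KleinSylow

set_option autoImplicit false
open Cfsg

namespace Cfsg.Agent.S0221

open Cfsg.Agent.Lib.Helper06

/-- having an elementary abelian subgroup of order `8` in the centralizer is invariant under
conjugation. -/
theorem e8cent_of_conj {G : Type*} [Group G] (g x : G)
    (h : ∃ E : Subgroup G, E ≤ Subgroup.centralizer ({g * x * g⁻¹} : Set G) ∧ Nat.card E = 8 ∧
      ∀ e ∈ E, e ^ 2 = 1) :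
    ∃ E : Subgroup G, E ≤ Subgroup.centralizer ({x} : Set G) ∧ Nat.card E = 8 ∧
      ∀ e ∈ E, e ^ 2 = 1 := by
  obtain ⟨E, hEc, hE8, hE2⟩ := h
  refine ⟨E.map (MulAut.conj g⁻¹).toMonoidHom, ?_, ?_, ?_⟩
  · rintro _ ⟨e, he, rfl⟩
    have := (mem_centralizer_singleton_iff _ _).mp (hEc he)
    rw [mem_centralizer_singleton_iff]
    simp only [MulEquiv.coe_toMonoidHom, MulAut.conj_apply, inv_inv]
    calc x * (g⁻¹ * e * g) = g⁻¹ * ((g * x * g⁻¹) * e) * g := by group
      _ = g⁻¹ * (e * (g * x * g⁻¹)) * g := by rw [this]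
      _ = g⁻¹ * e * g * x := by group
  · rw [Subgroup.card_map_of_injective (MulAut.conj g⁻¹).injective]; exact hE8
  · rintro _ ⟨e, he, rfl⟩
    rw [← map_pow, hE2 e he, map_one]

/-- Let G be a finite group with no subgroup of index 2 whose 2-rank is at least 3 (it contains an elementary abelian subgroup of order 8). Then the centralizer of every involution of G also contains an elementary abelian subgroup of order 8. -/
theorem result {G : Type*} [Group G] [Finite G] (hno : ∀ H : Subgroup G, H.index ≠ 2) (hrank : ∃ E : Subgroup G, Nat.card E = 8 ∧ ∀ e ∈ E, e ^ 2 = 1) (x : G) (hx : orderOf x = 2) : ∃ E : Subgroup G, E ≤ Subgroup.centralizer ({x} : Set G) ∧ Nat.card E = 8 ∧ ∀ e ∈ E, e ^ 2 = 1 := by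
  have : Fact (Nat.Prime 2) := ⟨Nat.prime_two⟩
  obtain ⟨E0, hE08, hE02⟩ := hrank
  have hE0p : IsPGroup 2 E0 := IsPGroup.of_card (n := 3) (by rw [hE08]; norm_num)
  obtain ⟨P, hE0P⟩ := hE0p.exists_le_sylow
  have hP : ∀ y : G, y ∈ (P : Subgroup G) → y ^ 2 = 1 →
      ∃ E : Subgroup G, E ≤ Subgroup.centralizer ({y} : Set G) ∧ Nat.card E = 8 ∧
        ∀ e ∈ E, e ^ 2 = 1 := by
    obtain ⟨E1, hE1⟩ : ∃ E1 : Subgroup (P : Subgroup G), E1 = E0.subgroupOf P := ⟨_, rfl⟩
    have hE18 : Nat.card E1 = 8 := by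
      rw [hE1, ← hE08]
      exact Nat.card_congr (Subgroup.subgroupOfEquivOfLe hE0P).toEquiv
    have hE12 : ∀ e ∈ E1, e ^ 2 = 1 := by
      intro e he
      rw [hE1, Subgroup.mem_subgroupOf] at he
      apply Subtype.ext
      have := hE02 _ he
      simpa using this
    have hPp : IsPGroup 2 (P : Subgroup G) := P.isPGroup'
    obtain ⟨z, u, hz1, hz2, hu1, hu2, huz, hzc, hconj⟩ := exists_normal_four hPp E1 hE18 hE12
    have htrans : ∀ y' : (P : Subgroup G), y' ^ 2 = 1 → y' * u = u * y' →
        ∃ E : Subgroup G, E ≤ Subgroup.centralizer ({(y' : G)} : Set G) ∧ Nat.card E = 8 ∧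
          ∀ e ∈ E, e ^ 2 = 1 := by
      intro y' hy2 hyu
      obtain ⟨F, hFc, hF8, hF2⟩ := exists_E8_le_centralizer z u hz1 hz2 hu1 hu2 huz hzc hconj
        E1 hE18 hE12 y' hy2 hyu
      refine ⟨F.map (P : Subgroup G).subtype, ?_, ?_, ?_⟩
      · rintro _ ⟨f, hf, rfl⟩
        rw [mem_centralizer_singleton_iff]
        have := (mem_centralizer_singleton_iff _ _).mp (hFc hf)
        exact congrArg Subtype.val this
      · rw [Subgroup.card_map_of_injective (Subgroup.subtype_injective _)]; exact hF8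
      · rintro _ ⟨f, hf, rfl⟩
        rw [← map_pow, hF2 f hf, map_one]
    intro y hyP hy2
    by_cases hyu : (⟨y, hyP⟩ : (P : Subgroup G)) * u = u * ⟨y, hyP⟩
    · exact htrans ⟨y, hyP⟩ (Subtype.ext (by simpa using hy2)) hyu
    · obtain ⟨T, hT⟩ : ∃ T : Subgroup (P : Subgroup G), T = Subgroup.centralizer {u} := ⟨_, rfl⟩
      have hTidx : T.index = 2 := by
        rcases centralizer_index_le_two z u hz2 hzc hconj with h | h
        · exfalso; apply hyu
          have : (⟨y, hyP⟩ : (P : Subgroup G)) ∈ Subgroup.centralizer ({u} : Set (P : Subgroup G)) := by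
            rw [h]; trivial
          exact ((mem_centralizer_singleton_iff _ _).mp this).symm
        · rw [hT]; exact h
      obtain ⟨Q, hQ⟩ : ∃ Q : Subgroup G, Q = T.map (P : Subgroup G).subtype := ⟨_, rfl⟩
      have hQP : Q ≤ P := by
        rw [hQ]; rintro _ ⟨t, _, rfl⟩; exact t.2
      have hQi : Q.relIndex (P : Subgroup G) = 2 := by
        rw [Subgroup.relIndex, hQ]
        have : (T.map (P : Subgroup G).subtype).subgroupOf P = T := by
          ext t
          rw [Subgroup.mem_subgroupOf]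
          constructor
          · rintro ⟨t', ht', h⟩
            have : t' = t := Subtype.ext h
            rw [← this]; exact ht'
          · intro ht; exact ⟨t, ht, rfl⟩
        rw [this]; exact hTidx
      have hyQ : y ∉ Q := by
        rw [hQ]
        rintro ⟨t, ht, hty⟩
        apply hyu
        have : t = ⟨y, hyP⟩ := Subtype.ext hty
        rw [this, hT] at ht
        exact ((mem_centralizer_singleton_iff _ _).mp ht).symm
      have hy1 : y ≠ 1 := by
        rintro rfl
        apply hyu
        have : (⟨1, hyP⟩ : (P : Subgroup G)) = 1 := rfl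
        rw [this, one_mul, mul_one]
      have hyord : orderOf y = 2 := orderOf_eq_prime hy2 hy1
      rcases Cfsg.Agent.S0111.result P Q hQP hQi y hyord hyP hyQ with ⟨M, _, hM2, _⟩ | ⟨g, hg⟩
      · exact absurd hM2 (hno M)
      · rw [hQ] at hg
        obtain ⟨t, ht, htg⟩ := hg
        apply e8cent_of_conj g y
        have htg' : (t : G) = g * y * g⁻¹ := htg
        rw [← htg']
        apply htrans t
        · apply Subtype.ext
          have h1 : ((t ^ 2 : (P : Subgroup G)) : G) = (t : G) ^ 2 := rfl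
          rw [h1, htg', conj_pow, hy2]; simp
        · rw [hT] at ht
          exact ((mem_centralizer_singleton_iff _ _).mp ht).symm
  obtain ⟨g, hg⟩ := exists_conj_mem_sylow P x hx
  apply e8cent_of_conj g x
  apply hP _ hg
  have hx2 : x ^ 2 = 1 := by rw [← hx]; exact pow_orderOf_eq_one x
  rw [conj_pow, hx2]; group

end Cfsg.Agent.S0221
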