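import Cfsg.Statements.S0223
import Cfsg.Agent.Lib.Helper06.StronglyEmbedded

set_option autoImplicit false
open Cfsg

namespace Cfsg.Agent.S0223

open Cfsg.Agent.Lib.Helper06 in
/-- Let H be a proper subgroup of even order of the finite group G. Then H is strongly embedded if and only if (i) C_G(t) ≤ H for every involution t of H and (ii) H controls fusion of its involutions: involutions of H conjugate in G are conjugate in H. -/
theorem result {G : Type*} [Group G] [Finite G] (H : Subgroup G) (hH : H ≠ ⊤) (heven : Even (Nat.card H)) : Cfsg.IsStronglyEmbedded H ↔ ((∀ t ∈ H, orderOf t = 2 → Subgroup.centralizer ({t} : Set G) ≤ H) ∧ (∀ t ∈ H, ∀ s ∈ H, orderOf t = 2 → orderOf s = 2 → IsConj t s → ∃ h ∈ H, h * t * h⁻¹ = s)) := by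
  rw [stronglyEmbedded_iff]
  constructor
  · rintro ⟨-, -, hse⟩
    constructor
    · intro t ht h2 c hc
      by_contra hcH
      apply hse c hcH t ht h2
      rw [Subgroup.mem_centralizer_iff] at hc
      have h1 : t * c = c * t := hc t (Set.mem_singleton t)
      have : c⁻¹ * t * c = t := by
        rw [mul_assoc, h1, ← mul_assoc, inv_mul_cancel, one_mul]
      rw [this]
      exact ht
    · intro t ht s hs h2t h2s hconj
      obtain ⟨c, hc⟩ := isConj_iff.mp hconj
      refine ⟨c, ?_, hc⟩
      by_contra hcH
      apply hse c hcH s hs h2s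
      have : c⁻¹ * s * c = t := by
        rw [← hc]; group
      rw [this]
      exact ht
  · rintro ⟨hcent, hfus⟩
    refine ⟨hH, heven, ?_⟩
    intro g hg t ht h2 hs
    have h2s : orderOf (g⁻¹ * t * g) = 2 := by rw [orderOf_conj_eq]; exact h2
    have hconj : IsConj t (g⁻¹ * t * g) := by
      rw [isConj_iff]
      exact ⟨g⁻¹, by rw [inv_inv]⟩
    obtain ⟨h, hh, hht⟩ := hfus t ht _ hs h2 h2s hconj
    have hmem : g * h ∈ Subgroup.centralizer ({t} : Set G) := by
      rw [Subgroup.mem_centralizer_iff]
      intro u hu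
      rw [Set.mem_singleton_iff] at hu
      subst hu
      have : g * (h * u * h⁻¹) * g⁻¹ = u := by rw [hht]; group
      calc u * (g * h) = (g * (h * u * h⁻¹) * g⁻¹) * (g * h) := by rw [this]
        _ = g * h * u := by group
    have := hcent t ht h2 hmem
    apply hg
    have h3 : g = (g * h) * h⁻¹ := by group
    rw [h3]
    exact Subgroup.mul_mem _ this (Subgroup.inv_mem _ hh)

end Cfsg.Agent.S0223
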