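import Cfsg.Statements.S0224
import Cfsg.Agent.Lib.Helper06.StronglyEmbedded

set_option autoImplicit false
open Cfsg

namespace Cfsg.Agent.S0224

open Cfsg.Agent.Lib.Helper06

theorem fixed_iff {G : Type*} [Group G] (H : Subgroup G) (t g : G) :
    t • (QuotientGroup.mk g : G ⧸ H) = QuotientGroup.mk g ↔ g⁻¹ * t * g ∈ H := by
  rw [MulAction.Quotient.smul_mk, eq_comm, QuotientGroup.eq, smul_eq_mul, ← mul_assoc]

/-- Let H be a proper subgroup of even order of the finite group G. Then H is strongly embedded if and only if each involution of H fixes exactly one point (namely the coset H) in the action of G on the cosets of H. -/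
theorem result {G : Type*} [Group G] [Finite G] (H : Subgroup G) (hH : H ≠ ⊤) (heven : Even (Nat.card H)) : Cfsg.IsStronglyEmbedded H ↔ ∀ t ∈ H, orderOf t = 2 → Nat.card {c : G ⧸ H // t • c = c} = 1 := by
  rw [stronglyEmbedded_iff]
  constructor
  · rintro ⟨-, -, hse⟩ t ht h2
    rw [Nat.card_eq_one_iff_unique]
    have hfix1 : t • (QuotientGroup.mk 1 : G ⧸ H) = QuotientGroup.mk 1 := by
      rw [fixed_iff]; simpa using ht
    constructor
    · constructor
      have key : ∀ c : {c : G ⧸ H // t • c = c}, c.1 = QuotientGroup.mk 1 := by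
        rintro ⟨c, hc⟩
        induction c using QuotientGroup.induction_on with
        | H g =>
          rw [fixed_iff] at hc
          have hg : g ∈ H := by
            by_contra hg
            exact hse g hg t ht h2 hc
          show (QuotientGroup.mk g : G ⧸ H) = QuotientGroup.mk 1
          rw [QuotientGroup.eq]
          simpa using Subgroup.inv_mem _ hg
      intro a b
      apply Subtype.ext
      rw [key a, key b]
    · exact ⟨⟨_, hfix1⟩⟩
  · intro h
    refine ⟨hH, heven, ?_⟩
    intro g hg t ht h2 hc
    have h1 := h t ht h2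
    rw [Nat.card_eq_one_iff_unique] at h1
    obtain ⟨hsub, -⟩ := h1
    have hfix1 : t • (QuotientGroup.mk 1 : G ⧸ H) = QuotientGroup.mk 1 := by
      rw [fixed_iff]; simpa using ht
    have hfixg : t • (QuotientGroup.mk g : G ⧸ H) = QuotientGroup.mk g := by
      rw [fixed_iff]; exact hc
    have := hsub.elim ⟨_, hfix1⟩ ⟨_, hfixg⟩
    have h3 : (QuotientGroup.mk 1 : G ⧸ H) = QuotientGroup.mk g := congrArg Subtype.val this
    rw [QuotientGroup.eq] at h3
    apply hg
    simpa using h3

end Cfsg.Agent.S0224
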