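import Cfsg.Statements.S0226
import Cfsg.Agent.Lib.Helper06.Dihedral

set_option autoImplicit false
open Cfsg

namespace Cfsg.Agent.S0226

open Cfsg.Agent.Lib.Helper06

theorem fixed_equiv {G : Type*} [Group G] :
    Nonempty ({s : {g : G // g⁻¹ = g} // s ≠ ⟨1, inv_one⟩} ≃ {t : G // orderOf t = 2}) := by
  refine ⟨
    { toFun := fun s => ⟨s.1.1, ?_⟩
      invFun := fun t => ⟨⟨t.1, inv_eq_self_of_orderOf_two t.2⟩, ?_⟩
      left_inv := fun s => rfl
      right_inv := fun t => rfl }⟩
  · obtain ⟨⟨g, hg⟩, hne⟩ := s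
    apply orderOf_two_of_sq_one
    · show g * g = 1
      calc g * g = g⁻¹ * g := by rw [hg]
        _ = 1 := inv_mul_cancel g
    · intro h
      apply hne
      apply Subtype.ext
      exact h
  · intro h
    have : t.1 = 1 := congrArg (fun s => s.1) h
    exact ne_one_of_orderOf_two t.2 this

/-- A finite group of even order has an odd number of involutions. -/
theorem result {G : Type*} [Group G] [Finite G] (heven : Even (Nat.card G)) : Odd (Nat.card {t : G // orderOf t = 2}) := by
  classical
  have : Fintype G := Fintype.ofFinite G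
  let f : Function.End G := fun g => g⁻¹
  have hf : f ^ 2 ^ 1 = 1 := by
    rw [pow_one, pow_two]
    funext g
    show (g⁻¹)⁻¹ = g
    exact inv_inv g
  have hmod := Equiv.Perm.card_fixedPoints_modEq (p := 2) (n := 1) hf
  have hfp : Fintype.card (Function.fixedPoints f)
      = Nat.card {g : G // g⁻¹ = g} := by
    rw [← Nat.card_eq_fintype_card]
    rfl
  obtain ⟨e⟩ := fixed_equiv (G := G)
  have h2 : Nat.card {g : G // g⁻¹ = g} = Nat.card {t : G // orderOf t = 2} + 1 := by
    rw [← Nat.card_congr e, ← Finite.card_option]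
    exact (Nat.card_congr (Equiv.optionSubtypeNe _)).symm
  rw [hfp, h2, ← Nat.card_eq_fintype_card] at hmod
  have h3 : Nat.card G % 2 = 0 := Nat.even_iff.mp heven
  have h4 : (Nat.card {t : G // orderOf t = 2} + 1) % 2 = 0 := by
    rw [← hmod, h3]
  rw [Nat.odd_iff]
  omega

end Cfsg.Agent.S0226
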