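import Cfsg.Statements.S0229
import Cfsg.Agent.Lib.Helper06.Isolated

set_option autoImplicit false
open Cfsg

namespace Cfsg.Agent.S0229

open Cfsg.Agent.Lib.Helper06 in
/-- Let t be an involution of a Sylow 2-subgroup S of a finite group G, conjugate in G to no other element of S, and let s be an involution of G not conjugate to t. Then the order of st is twice an odd number. -/
theorem result {G : Type*} [Group G] [Finite G] (S : Sylow 2 G) (t : G) (ht : orderOf t = 2) (htS : t ∈ S) (hiso : ∀ g : G, g * t * g⁻¹ ∈ S → g * t * g⁻¹ = t) (s : G) (hs : orderOf s = 2) (hns : ¬ IsConj s t) : orderOf (s * t) % 4 = 2 := by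
  have ht1 := sq_one_of_orderOf_two ht
  have hcomm : orderOf (s * t) = orderOf (t * s) := by
    have h : SemiconjBy s (t * s) (s * t) := by
      show s * (t * s) = s * t * s
      rw [mul_assoc]
    exact h.orderOf_eq.symm
  have heven : Even (orderOf (t * s)) := by
    by_contra hodd
    rw [Nat.not_even_iff_odd] at hodd
    obtain ⟨d, -, hd⟩ := conj_of_odd ht hs hodd
    apply hns
    rw [isConj_comm, isConj_iff]
    exact ⟨d, hd⟩
  have h4 : ¬ 4 ∣ orderOf (t * s) := by
    intro h4
    obtain ⟨d, -, hd⟩ := (conj_xz_iff ht hs (orderOf_pos _) heven).mpr h4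
    obtain ⟨hz2, -, -⟩ := central_inv ht hs heven
    have hpow : (t * (d * t * d⁻¹)) ^ (2 ^ 1) = 1 := by
      rw [hd, ← mul_assoc, ht1, one_mul, pow_one, pow_two]
      exact sq_one_of_orderOf_two hz2
    have h1 := isolated_eq_of_two_power S t ht1 hiso d 1 hpow
    rw [hd] at h1
    have h2 : (t * s) ^ (orderOf (t * s) / 2) = 1 :=
      mul_left_cancel (a := t) (by rw [mul_one]; exact h1)
    exact ne_one_of_orderOf_two hz2 h2
  rw [hcomm]
  obtain ⟨m, hm⟩ := heven
  omega

end Cfsg.Agent.S0229
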