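import Cfsg.Statements.S0230
import Cfsg.Agent.Lib.Helper06.Dihedral
import Cfsg.Agent.Lib.Helper06.ConjCount

set_option autoImplicit false
open Cfsg

namespace Cfsg.Agent.S0230

open Cfsg.Agent.Lib.Helper06 in
/-- Let G be a finite group with two non-conjugate involutions, and let t be an involution whose centralizer has maximal order among centralizers of involutions. Then |G| < |C_G(t)|^3. -/
theorem result {G : Type*} [Group G] [Finite G] (s t : G) (hs : orderOf s = 2) (ht : orderOf t = 2) (hnc : ¬ IsConj s t) (hmax : ∀ u : G, orderOf u = 2 → Nat.card (Subgroup.centralizer ({u} : Set G)) ≤ Nat.card (Subgroup.centralizer ({t} : Set G))) : Nat.card G < Nat.card (Subgroup.centralizer ({t} : Set G)) ^ 3 := by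
  classical
  have : Fintype {z : G // orderOf z = 2 ∧ Commute z t} := Fintype.ofFinite _
  have key : ∀ u : {u : G // IsConj s u}, ∃ z : {z : G // orderOf z = 2 ∧ Commute z t},
      u.1 ∈ Subgroup.centralizer ({z.1} : Set G) := by
    rintro ⟨u, hu⟩
    have hu2 : orderOf u = 2 := by
      obtain ⟨c, hc⟩ := isConj_iff.mp hu
      have h : SemiconjBy c s u := by
        show c * s = u * c
        rw [← hc]; group
      rw [← h.orderOf_eq]; exact hs
    have hnc' : ¬ IsConj u t := fun h => hnc (hu.trans h)
    have heven : Even (orderOf (u * t)) := by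
      by_contra hodd
      rw [Nat.not_even_iff_odd] at hodd
      obtain ⟨d, -, hd⟩ := conj_of_odd hu2 ht hodd
      exact hnc' (isConj_iff.mpr ⟨d, hd⟩)
    obtain ⟨hz2, hzu, hzt⟩ := central_inv hu2 ht heven
    exact ⟨⟨_, hz2, hzt⟩, (mem_centralizer_singleton_iff _ _).mpr hzu.eq⟩
  choose zf hzf using key
  let F : {u : G // IsConj s u} →
      Σ z : {z : G // orderOf z = 2 ∧ Commute z t}, Subgroup.centralizer ({z.1} : Set G) :=
    fun u => ⟨zf u, ⟨u.1, hzf u⟩⟩
  have hF : Function.Injective F := by
    intro u v h
    have h' := congrArg (fun p : (Σ z : {z : G // orderOf z = 2 ∧ Commute z t},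
      Subgroup.centralizer ({z.1} : Set G)) => (p.2 : G)) h
    exact Subtype.ext h'
  have h1 := Nat.card_le_card_of_injective F hF
  rw [Nat.card_sigma] at h1
  have h2 : ∑ z : {z : G // orderOf z = 2 ∧ Commute z t},
      Nat.card (Subgroup.centralizer ({z.1} : Set G)) ≤
      ∑ _z : {z : G // orderOf z = 2 ∧ Commute z t},
        Nat.card (Subgroup.centralizer ({t} : Set G)) :=
    Finset.sum_le_sum (fun z _ => hmax z.1 z.2.1)
  rw [Finset.sum_const, Finset.card_univ, smul_eq_mul] at h2
  have h3 : Fintype.card {z : G // orderOf z = 2 ∧ Commute z t} <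
      Nat.card (Subgroup.centralizer ({t} : Set G)) := by
    have : Fintype (Subgroup.centralizer ({t} : Set G)) := Fintype.ofFinite _
    rw [Nat.card_eq_fintype_card]
    let j : {z : G // orderOf z = 2 ∧ Commute z t} → Subgroup.centralizer ({t} : Set G) :=
      fun z => ⟨z.1, (mem_centralizer_singleton_iff t z.1).mpr z.2.2.eq.symm⟩
    apply Fintype.card_lt_of_injective_of_notMem j (b := 1)
    · intro a b hab
      apply Subtype.ext
      exact congrArg (fun c : Subgroup.centralizer ({t} : Set G) => (c : G)) hab
    · rintro ⟨z, hz⟩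
      have : z.1 = 1 := congrArg (fun c : Subgroup.centralizer ({t} : Set G) => (c : G)) hz
      exact ne_one_of_orderOf_two z.2.1 this
  have h4 := card_class_mul_card_centralizer s
  have h5 := hmax s hs
  have hcs : 0 < Nat.card (Subgroup.centralizer ({s} : Set G)) := Nat.card_pos
  rw [← h4, pow_succ, pow_two]
  calc Nat.card {u : G // IsConj s u} * Nat.card (Subgroup.centralizer ({s} : Set G))
      ≤ (Fintype.card {z : G // orderOf z = 2 ∧ Commute z t} *
          Nat.card (Subgroup.centralizer ({t} : Set G))) *
          Nat.card (Subgroup.centralizer ({t} : Set G)) :=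
        Nat.mul_le_mul (h1.trans h2) h5
    _ < (Nat.card (Subgroup.centralizer ({t} : Set G)) *
          Nat.card (Subgroup.centralizer ({t} : Set G))) *
          Nat.card (Subgroup.centralizer ({t} : Set G)) := by
        have hpos : 0 < Nat.card (Subgroup.centralizer ({t} : Set G)) := by omega
        exact Nat.mul_lt_mul_of_pos_right (Nat.mul_lt_mul_of_pos_right h3 hpos) hpos

end Cfsg.Agent.S0230
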