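import Cfsg.Statements.S0231
import Cfsg.Agent.Lib.Helper06.Isolated

set_option autoImplicit false
open scoped Pointwise
open Cfsg

namespace Cfsg.Agent.S0231

open Cfsg.Agent.Lib.Helper06

theorem mem_conj_smul {G : Type*} [Group G] (g x : G) (H : Subgroup G) :
    x ∈ MulAut.conj g • H ↔ g⁻¹ * x * g ∈ H := by
  rw [Subgroup.mem_pointwise_smul_iff_inv_smul_mem]
  rfl

section

variable {G : Type*} [Group G] [Finite G] (T : Sylow 2 G)
  (hTI : ∀ g : G, MulAut.conj g • (T : Subgroup G) ≠ T → MulAut.conj g • (T : Subgroup G) ⊓ T = ⊥)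

include hTI

theorem ti_general (Q₁ Q₂ : Sylow 2 G) (hne : Q₁ ≠ Q₂) (y : G) (h1 : y ∈ Q₁) (h2 : y ∈ Q₂) :
    y = 1 := by
  have : Fact (Nat.Prime 2) := ⟨Nat.prime_two⟩
  obtain ⟨g₁, hg₁⟩ := MulAction.exists_smul_eq G T Q₁
  obtain ⟨g₂, hg₂⟩ := MulAction.exists_smul_eq G T Q₂
  have hy1 : g₁⁻¹ * y * g₁ ∈ (T : Subgroup G) := by
    rw [← hg₁] at h1
    exact (mem_conj_smul g₁ y T).mp h1
  have hy2 : g₂⁻¹ * y * g₂ ∈ (T : Subgroup G) := by
    rw [← hg₂] at h2
    exact (mem_conj_smul g₂ y T).mp h2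
  have hne' : MulAut.conj (g₂⁻¹ * g₁) • (T : Subgroup G) ≠ T := by
    intro h
    apply hne
    have h' : (g₂⁻¹ * g₁) • T = T := Sylow.ext h
    rw [← hg₁, ← hg₂]
    rw [mul_smul] at h'
    have h'' := congrArg (fun R : Sylow 2 G => g₂ • R) h'
    simp only [smul_inv_smul] at h''
    exact h''
  have hmem : g₂⁻¹ * y * g₂ ∈ MulAut.conj (g₂⁻¹ * g₁) • (T : Subgroup G) ⊓ T := by
    refine Subgroup.mem_inf.mpr ⟨?_, hy2⟩
    rw [mem_conj_smul]
    have : (g₂⁻¹ * g₁)⁻¹ * (g₂⁻¹ * y * g₂) * (g₂⁻¹ * g₁) = g₁⁻¹ * y * g₁ := by group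
    rw [this]
    exact hy1
  rw [hTI _ hne', Subgroup.mem_bot] at hmem
  have : y = g₂ * (g₂⁻¹ * y * g₂) * g₂⁻¹ := by group
  rw [this, hmem]
  group

/-- if `s ∈ Q` and `s * t` has even order then `t ∈ Q`. -/
theorem mem_of_even (Q : Sylow 2 G) (s t : G) (hs : orderOf s = 2) (ht : orderOf t = 2)
    (hsQ : s ∈ Q) (heven : Even (orderOf (s * t))) : t ∈ Q := by
  have : Fact (Nat.Prime 2) := ⟨Nat.prime_two⟩
  have hs1 := sq_one_of_orderOf_two hs
  have ht1 := sq_one_of_orderOf_two ht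
  obtain ⟨hz2, hzs, hzt⟩ := central_inv hs ht heven
  obtain ⟨z, hz⟩ : ∃ z, z = (s * t) ^ (orderOf (s * t) / 2) := ⟨_, rfl⟩
  rw [← hz] at hz2 hzs hzt
  have hz1 := sq_one_of_orderOf_two hz2
  -- closure {s, z} is a 2-group
  have hp1 : IsPGroup 2 (Subgroup.closure ({s, z} : Set G)) := by
    apply pgroup_closure_pair hs1 hz1 1
    rw [pow_one, pow_two]
    calc s * z * (s * z) = s * (z * s) * z := by group
      _ = s * (s * z) * z := by rw [hzs.eq]
      _ = (s * s) * (z * z) := by group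
      _ = 1 := by rw [hs1, hz1, one_mul]
  obtain ⟨Q', hQ'⟩ := hp1.exists_le_sylow
  have hsQ' : s ∈ Q' := hQ' (Subgroup.subset_closure (by simp))
  have hzQ' : z ∈ Q' := hQ' (Subgroup.subset_closure (by simp))
  have hQQ' : Q' = Q := by
    by_contra hne
    exact ne_one_of_orderOf_two hs (ti_general T hTI Q' Q hne s hsQ' hsQ)
  rw [hQQ'] at hzQ'
  have hp2 : IsPGroup 2 (Subgroup.closure ({t, z} : Set G)) := by
    apply pgroup_closure_pair ht1 hz1 1
    rw [pow_one, pow_two]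
    calc t * z * (t * z) = t * (z * t) * z := by group
      _ = t * (t * z) * z := by rw [hzt.eq]
      _ = (t * t) * (z * z) := by group
      _ = 1 := by rw [ht1, hz1, one_mul]
  obtain ⟨Q'', hQ''⟩ := hp2.exists_le_sylow
  have htQ'' : t ∈ Q'' := hQ'' (Subgroup.subset_closure (by simp))
  have hzQ'' : z ∈ Q'' := hQ'' (Subgroup.subset_closure (by simp))
  have hQQ'' : Q'' = Q := by
    by_contra hne
    exact ne_one_of_orderOf_two hz2 (ti_general T hTI Q'' Q hne z hzQ'' hzQ')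
  rw [hQQ''] at htQ''
  exact htQ''

theorem conj_of_not_mem (Q : Sylow 2 G) (s t : G) (hs : orderOf s = 2) (ht : orderOf t = 2)
    (hsQ : s ∈ Q) (htQ : t ∉ Q) : IsConj s t := by
  have hodd : Odd (orderOf (s * t)) := by
    rw [← Nat.not_even_iff_odd]
    intro heven
    exact htQ (mem_of_even T hTI Q s t hs ht hsQ heven)
  obtain ⟨d, -, hd⟩ := conj_of_odd hs ht hodd
  exact isConj_iff.mpr ⟨d, hd⟩

end

/-- Let T be a Sylow 2-subgroup of the finite group G which is not normal and which intersects every other Sylow 2-subgroup trivially. Then G has a single conjugacy class of involutions. -/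
theorem result {G : Type*} [Group G] [Finite G] (T : Sylow 2 G) (hnn : ¬ (T : Subgroup G).Normal) (hTI : ∀ g : G, MulAut.conj g • (T : Subgroup G) ≠ T → MulAut.conj g • (T : Subgroup G) ⊓ T = ⊥) (s t : G) (hs : orderOf s = 2) (ht : orderOf t = 2) : IsConj s t := by
  have : Fact (Nat.Prime 2) := ⟨Nat.prime_two⟩
  have hs1 := sq_one_of_orderOf_two hs
  -- a Sylow subgroup containing s
  have hps : IsPGroup 2 (Subgroup.zpowers s) := by
    apply IsPGroup.of_card (n := 1)
    rw [Nat.card_zpowers, hs, pow_one]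
  obtain ⟨Q, hQ⟩ := hps.exists_le_sylow
  have hsQ : s ∈ Q := hQ (Subgroup.mem_zpowers s)
  by_cases htQ : t ∈ Q
  · -- a different Sylow subgroup
    have hex : ∃ Q₃ : Sylow 2 G, Q₃ ≠ Q := by
      by_contra hall
      have hall' : ∀ Q₃ : Sylow 2 G, Q₃ = Q := by
        intro Q₃
        by_contra hne
        exact hall ⟨Q₃, hne⟩
      apply hnn
      rw [← Subgroup.normalizer_eq_top_iff]
      rw [eq_top_iff]
      intro g _
      have := (Sylow.smul_eq_iff_mem_normalizer (g := g) (P := T)).mp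
        (by rw [hall' (g • T), hall' T])
      exact this
    obtain ⟨Q₃, hQ₃⟩ := hex
    obtain ⟨h, hh⟩ := MulAction.exists_smul_eq G Q Q₃
    have hr2 : orderOf (h * s * h⁻¹) = 2 := by
      have hsc : SemiconjBy h s (h * s * h⁻¹) := by
        show h * s = h * s * h⁻¹ * h
        group
      rw [← hsc.orderOf_eq]; exact hs
    have hrQ₃ : h * s * h⁻¹ ∈ Q₃ := by
      rw [← hh]
      show h * s * h⁻¹ ∈ MulAut.conj h • (Q : Subgroup G)
      rw [mem_conj_smul]
      have : h⁻¹ * (h * s * h⁻¹) * h = s := by group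
      rw [this]; exact hsQ
    have hrQ : h * s * h⁻¹ ∉ Q := by
      intro hmem
      exact ne_one_of_orderOf_two hr2 (ti_general T hTI Q₃ Q hQ₃ _ hrQ₃ hmem)
    have h1 : IsConj s (h * s * h⁻¹) := isConj_iff.mpr ⟨h, rfl⟩
    have h2 : IsConj t (h * s * h⁻¹) := conj_of_not_mem T hTI Q t _ ht hr2 htQ hrQ
    exact h1.trans h2.symm
  · exact conj_of_not_mem T hTI Q s t hs ht hsQ htQ

end Cfsg.Agent.S0231
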