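import Cfsg.Statements.S0232
import Cfsg.Agent.Lib.Helper06.BrauerFowler
import Cfsg.Agent.Lib.Helper06.IndexTwo
import Cfsg.Agent.Lib.Helper06.SylowAux

set_option autoImplicit false
open Cfsg

namespace Cfsg.Agent.S0232

open Cfsg.Agent.Lib.Helper06

theorem bf_cube_arith (N i h m k c : ℕ) (hN : 0 < N) (hih : i * h = N)
    (hbf : 2 * i * m ^ 2 < N * (N + m)) (hm : m < N) (hkc : k * c = N) (hc : c ^ 3 ≤ N)
    (hk : k ≤ m) : N < h ^ 3 := by
  by_contra hcon
  push Not at hcon
  have e1 : N ^ 3 = i ^ 3 * h ^ 3 := by rw [← hih]; ring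
  have e2 : N ^ 3 ≤ i ^ 3 * N := e1 ▸ Nat.mul_le_mul_left _ hcon
  have e3 : N ^ 2 ≤ i ^ 3 := by
    have : N ^ 2 * N ≤ i ^ 3 * N := by rw [← pow_succ]; exact e2
    exact Nat.le_of_mul_le_mul_right this hN
  have f1 : N ^ 3 = k ^ 3 * c ^ 3 := by rw [← hkc]; ring
  have f2 : N ^ 3 ≤ k ^ 3 * N := f1 ▸ Nat.mul_le_mul_left _ hc
  have f3 : N ^ 2 ≤ k ^ 3 := by
    have : N ^ 2 * N ≤ k ^ 3 * N := by rw [← pow_succ]; exact f2
    exact Nat.le_of_mul_le_mul_right this hN
  have f4 : N ^ 2 ≤ m ^ 3 := f3.trans (Nat.pow_le_pow_left hk 3)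
  have g1 : i * m ^ 2 < N ^ 2 := by
    have h1 : N * (N + m) < N * (N + N) := Nat.mul_lt_mul_of_pos_left (by omega) hN
    have h2 : N * (N + N) = 2 * N ^ 2 := by ring
    have h3 : 2 * i * m ^ 2 = 2 * (i * m ^ 2) := by ring
    omega
  have g2 : (i * m ^ 2) ^ 3 < (N ^ 2) ^ 3 := Nat.pow_lt_pow_left g1 (by norm_num)
  have g3 : (N ^ 2) ^ 3 ≤ (i * m ^ 2) ^ 3 := by
    calc (N ^ 2) ^ 3 = N ^ 2 * (N ^ 2) ^ 2 := by ring
      _ ≤ i ^ 3 * (m ^ 3) ^ 2 := Nat.mul_le_mul e3 (Nat.pow_le_pow_left f4 2)
      _ = (i * m ^ 2) ^ 3 := by ring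
  omega

theorem aux.{u} : ∀ n : ℕ, ∀ (G : Type u) [Group G] [Finite G], Nat.card G = n → Even n → 2 < n →
    ∃ H : Subgroup G, H ≠ ⊤ ∧ Nat.card G < Nat.card H ^ 3 := by
  intro n
  induction n using Nat.strong_induction_on with
  | _ n ih =>
  intro G _ _ hcard heven hgt
  have : Fact (Nat.Prime 2) := ⟨Nat.prime_two⟩
  have hGeven : Even (Nat.card G) := hcard ▸ heven
  by_cases h2 : ∃ H : Subgroup G, H.index = 2
  · obtain ⟨H, hH⟩ := h2
    refine ⟨H, ?_, ?_⟩
    · intro h
      rw [h, Subgroup.index_top] at hH
      norm_num at hH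
    · have h1 := H.card_mul_index
      rw [hH, hcard] at h1
      obtain ⟨c, hc⟩ : ∃ c, c = Nat.card H := ⟨_, rfl⟩
      rw [← hc] at h1 ⊢
      have hc2 : 2 ≤ c := by omega
      rw [hcard, ← h1]
      calc c * 2 < c * 4 := by omega
        _ ≤ c * (c * c) := Nat.mul_le_mul_left _ (Nat.mul_le_mul hc2 hc2)
        _ = c ^ 3 := by ring
  · push Not at h2
    by_cases hZ : Odd (Nat.card (Subgroup.center G))
    · obtain ⟨H, hH, hidx | hlt⟩ := brauer_fowler hGeven hZ
      · exact absurd hidx (h2 H)
      · by_cases hbig : ∃ t : G, orderOf t = 2 ∧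
            n < Nat.card (Subgroup.centralizer ({t} : Set G)) ^ 3
        · obtain ⟨t, ht, hlt'⟩ := hbig
          refine ⟨Subgroup.centralizer ({t} : Set G), ?_, hcard ▸ hlt'⟩
          intro htop
          have hgc : t ∈ Subgroup.center G := by
            rw [Subgroup.mem_center_iff]
            intro h
            have : h ∈ Subgroup.centralizer ({t} : Set G) := by rw [htop]; trivial
            exact ((mem_centralizer_singleton_iff t h).mp this).symm
          have h2' : 2 ∣ Nat.card (Subgroup.center G) := by
            rw [← ht]; exact Subgroup.orderOf_dvd_natCard _ hgc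
          exact (Nat.not_even_iff_odd.mpr hZ) (even_iff_two_dvd.mpr h2')
        · push Not at hbig
          obtain ⟨t, ht⟩ := exists_prime_orderOf_dvd_card' 2 (even_iff_two_dvd.mp hGeven)
          have hc3 := hbig t ht
          have hcl := card_class_mul_card_centralizer t
          have hKm : Nat.card {u : G // IsConj t u} ≤ invCount G := by
            unfold invCount
            apply Nat.card_le_card_of_injective
              (fun u : {u : G // IsConj t u} => (⟨u.1, by
                obtain ⟨c, hc⟩ := isConj_iff.mp u.2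
                have h : SemiconjBy c t u.1 := by
                  show c * t = u.1 * c
                  rw [← hc]; group
                rw [← h.orderOf_eq]; exact ht⟩ : {t : G // orderOf t = 2}))
            intro a b hab
            apply Subtype.ext
            exact congrArg (fun c : {t : G // orderOf t = 2} => (c : G)) hab
          have hmN : invCount G < Nat.card G := by
            classical
            unfold invCount
            have : Fintype G := Fintype.ofFinite G
            have : Fintype {t : G // orderOf t = 2} := Fintype.ofFinite _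
            rw [Nat.card_eq_fintype_card, Nat.card_eq_fintype_card]
            apply Fintype.card_lt_of_injective_of_notMem
              (fun u : {t : G // orderOf t = 2} => u.1) Subtype.val_injective (b := 1)
            rintro ⟨u, hu⟩
            exact ne_one_of_orderOf_two u.2 hu
          refine ⟨H, hH, ?_⟩
          rw [hcard] at hcl hmN hlt ⊢
          have hih : H.index * Nat.card H = n := by
            rw [mul_comm, H.card_mul_index, hcard]
          exact bf_cube_arith n H.index (Nat.card H) (invCount G) _ _ (by omega) hih hlt hmN hcl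
            hc3 hKm
    · have hZeven : Even (Nat.card (Subgroup.center G)) := Nat.not_odd_iff_even.mp hZ
      obtain ⟨z, hz⟩ := exists_prime_orderOf_dvd_card' 2 (even_iff_two_dvd.mp hZeven)
      have hzord : orderOf (z : G) = 2 := by rw [Subgroup.orderOf_coe, hz]
      have hzc : ∀ c : G, c * (z : G) = (z : G) * c := fun c => Subgroup.mem_center_iff.mp z.2 c
      have hnorm : (Subgroup.zpowers (z : G)).Normal := zpowers_normal_of_central _ hzc
      have hZcard : Nat.card (Subgroup.zpowers (z : G)) = 2 := by
        rw [Nat.card_zpowers, hzord]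
      have hQ := Subgroup.card_eq_card_quotient_mul_card_subgroup (Subgroup.zpowers (z : G))
      rw [hZcard, hcard] at hQ
      -- the quotient has even order > 2
      have hQeven : Even (Nat.card (G ⧸ Subgroup.zpowers (z : G))) := by
        rw [← Nat.not_odd_iff_even]
        intro hodd
        -- Sylow 2-subgroup of G has order 2
        obtain ⟨P⟩ : Nonempty (Sylow 2 G) := inferInstance
        have hPcard : Nat.card (P : Subgroup G) = 2 := by
          have h1 := P.card_eq_multiplicity
          have h2' : (Nat.card G).factorization 2 = 1 := by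
            rw [hcard, hQ, Nat.factorization_mul (Nat.card_pos).ne' (by norm_num)]
            have h3 : (Nat.card (G ⧸ Subgroup.zpowers (z : G))).factorization 2 = 0 := by
              apply Nat.factorization_eq_zero_of_not_dvd
              rw [← even_iff_two_dvd]
              exact Nat.not_even_iff_odd.mpr hodd
            simp [h3, Nat.Prime.factorization_self Nat.prime_two]
          rw [h1, h2', pow_one]
        have hPcyc : IsCyclic (P : Subgroup G) := isCyclic_of_prime_card hPcard
        obtain ⟨H, hH⟩ := exists_index_two_of_cyclic_sylow hGeven P hPcyc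
        exact h2 H hH
      have hQgt : 2 < Nat.card (G ⧸ Subgroup.zpowers (z : G)) := by
        by_contra hle
        push Not at hle
        obtain ⟨k, hk⟩ := hQeven
        have hQpos : 0 < Nat.card (G ⧸ Subgroup.zpowers (z : G)) := Nat.card_pos
        have hQ2 : Nat.card (G ⧸ Subgroup.zpowers (z : G)) = 2 := by omega
        apply h2 (Subgroup.zpowers (z : G))
        rw [Subgroup.index_eq_card, hQ2]
      obtain ⟨Hb, hHb, hlt⟩ := ih (Nat.card (G ⧸ Subgroup.zpowers (z : G))) (by omega)
        (G ⧸ Subgroup.zpowers (z : G)) rfl hQeven hQgt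
      have hsurj : Function.Surjective (QuotientGroup.mk' (Subgroup.zpowers (z : G))) :=
        QuotientGroup.mk'_surjective _
      refine ⟨Hb.comap (QuotientGroup.mk' (Subgroup.zpowers (z : G))), ?_, ?_⟩
      · intro htop
        apply hHb
        rw [← Subgroup.map_comap_eq_self_of_surjective hsurj Hb, htop,
          ← MonoidHom.range_eq_map, MonoidHom.range_eq_top.mpr hsurj]
      · have hidx : (Hb.comap (QuotientGroup.mk' (Subgroup.zpowers (z : G)))).index = Hb.index :=
          Subgroup.index_comap_of_surjective Hb hsurj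
        have h1 := (Hb.comap (QuotientGroup.mk' (Subgroup.zpowers (z : G)))).card_mul_index
        have h3 := Hb.card_mul_index
        rw [hidx, hcard] at h1
        -- card comap * idx = n = 2 * card Q = 2 * card Hb * idx
        have hipos : 0 < Hb.index := Nat.pos_of_ne_zero Subgroup.index_ne_zero_of_finite
        have h4 : Nat.card (Hb.comap (QuotientGroup.mk' (Subgroup.zpowers (z : G)))) =
            2 * Nat.card Hb := by
          apply Nat.eq_of_mul_eq_mul_right hipos
          rw [h1, hQ, ← h3]; ring
        rw [h4, hcard, hQ]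
        calc Nat.card (G ⧸ Subgroup.zpowers (z : G)) * 2 < Nat.card Hb ^ 3 * 2 :=
              Nat.mul_lt_mul_of_pos_right hlt (by norm_num)
          _ ≤ (2 * Nat.card Hb) ^ 3 := by
              have : (2 * Nat.card Hb) ^ 3 = Nat.card Hb ^ 3 * 8 := by ring
              rw [this]
              exact Nat.mul_le_mul_left _ (by norm_num)

/-- A finite group G of even order greater than 2 has a proper subgroup H with |G| < |H|^3. -/
theorem result {G : Type*} [Group G] [Finite G] (heven : Even (Nat.card G)) (hgt : 2 < Nat.card G) : ∃ H : Subgroup G, H ≠ ⊤ ∧ Nat.card G < (Nat.card H) ^ 3 := by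
  exact aux (Nat.card G) G rfl heven hgt

end Cfsg.Agent.S0232
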