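import Cfsg.Statements.S0234
import Cfsg.Agent.Lib.Helper06.BrauerFowler
import Cfsg.Agent.Lib.Helper06.SmallSimple

set_option autoImplicit false
open Cfsg

namespace Cfsg.Agent.S0234

open Cfsg.Agent.Lib.Helper06

theorem fact_of (p k r : ℕ) (hp : p.Prime) (hr : ¬ p ∣ r) (hr0 : r ≠ 0) :
    (p ^ k * r).factorization p = k := by
  rw [Nat.factorization_mul (pow_ne_zero _ hp.ne_zero) hr0, Nat.Prime.factorization_pow hp]
  simp [Nat.factorization_eq_zero_of_not_dvd hr]

section

variable {G : Type*} [Group G] [Finite G]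

theorem sylow_card_of {p : ℕ} [Fact p.Prime] (P : Sylow p G) (k r : ℕ)
    (hN : Nat.card G = p ^ k * r) (hr : ¬ p ∣ r) (hr0 : r ≠ 0) :
    Nat.card (P : Subgroup G) = p ^ k := by
  rw [P.card_eq_multiplicity, hN, fact_of p k r Fact.out hr hr0]

theorem count_orders : 1 + Nat.card {g : G // orderOf g = 2} + Nat.card {g : G // orderOf g = 3} +
    Nat.card {g : G // orderOf g = 5} ≤ Nat.card G := by
  classical
  have : Fintype G := Fintype.ofFinite G
  have hpt : ∀ g : G, (if g = 1 then 1 else 0) + (if orderOf g = 2 then 1 else 0) +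
      (if orderOf g = 3 then 1 else 0) + (if orderOf g = 5 then 1 else 0) ≤ 1 := by
    intro g
    by_cases h1 : g = 1
    · subst h1
      simp [orderOf_one]
    · rw [if_neg h1]
      by_cases h2 : orderOf g = 2
      · rw [h2]; simp
      · by_cases h3 : orderOf g = 3
        · rw [h3]; simp
        · rw [if_neg h2, if_neg h3]
          split_ifs <;> simp
  have hsum := Finset.sum_le_sum (fun g (_ : g ∈ (Finset.univ : Finset G)) => hpt g)
  rw [Finset.sum_add_distrib, Finset.sum_add_distrib, Finset.sum_add_distrib, sum_ite_const,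
    sum_ite_const, sum_ite_const, sum_ite_const, Finset.sum_const, Finset.card_univ,
    smul_eq_mul, mul_one, one_mul, one_mul, one_mul, one_mul] at hsum
  have hk1 : (Finset.univ.filter (fun g : G => g = 1)).card = 1 := by
    rw [Finset.filter_eq' Finset.univ (1 : G), if_pos (Finset.mem_univ _), Finset.card_singleton]
  rw [hk1] at hsum
  rw [Nat.card_eq_fintype_card, Nat.card_eq_fintype_card, Nat.card_eq_fintype_card,
    Nat.card_eq_fintype_card, Fintype.card_subtype, Fintype.card_subtype, Fintype.card_subtype]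
  exact hsum

variable [IsSimpleGroup G]

theorem toPermHom_injective (H : Subgroup G) (hH : H ≠ ⊤) :
    Function.Injective (MulAction.toPermHom G (G ⧸ H)) := by
  have hker : (MulAction.toPermHom G (G ⧸ H)).ker = ⊥ := by
    have hn : (MulAction.toPermHom G (G ⧸ H)).ker.Normal := MonoidHom.normal_ker _
    rcases hn.eq_bot_or_eq_top with h | h
    · exact h
    · exfalso
      apply hH
      rw [eq_top_iff, ← h, ← Subgroup.normalCore_eq_ker]
      exact Subgroup.normalCore_le H
  exact (MonoidHom.ker_eq_bot_iff _).mp hker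

/-- the numerical core: a simple group of even order `> 2` dividing `60` has few involutions. -/
theorem small_case (hgt : 2 < Nat.card G) (h2N : 2 ∣ Nat.card G) (h60 : Nat.card G ∣ 60)
    (hcon : Nat.card G ≤ 3 * Nat.card {t : G // orderOf t = 2}) : False := by
  have : Fact (Nat.Prime 2) := ⟨Nat.prime_two⟩
  have : Fact (Nat.Prime 3) := ⟨Nat.prime_three⟩
  have : Fact (Nat.Prime 5) := ⟨Nat.prime_five⟩
  have hle : Nat.card G ≤ 60 := Nat.le_of_dvd (by norm_num) h60
  obtain ⟨N, hN⟩ : ∃ N, Nat.card G = N := ⟨_, rfl⟩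
  rw [hN] at hgt h2N h60 hcon hle
  have hidx2 : ∀ j : ℕ, Odd j → N = 2 * j → False := by
    intro j hj hNj
    obtain ⟨K, hK⟩ := exists_index_two_of_two_mul_odd (G := G) j hj (hN.trans hNj)
    have := card_eq_two_of_index_two K hK
    omega
  interval_cases N <;> try omega
  · -- 4
    have := simple_pgroup_card (G := G) (p := 2) (IsPGroup.of_card (n := 2) (by rw [hN]; norm_num))
    omega
  · exact hidx2 3 (by decide) rfl
  · exact hidx2 5 (by decide) rfl
  · -- 12
    obtain ⟨P⟩ : Nonempty (Sylow 2 G) := inferInstance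
    have hPc : Nat.card (P : Subgroup G) = 2 ^ 2 :=
      sylow_card_of P 2 3 (by rw [hN]; norm_num) (by norm_num) (by norm_num)
    obtain ⟨h1, h2⟩ := simple_sylow P (by rw [hPc]; norm_num) (by rw [hPc, hN]; norm_num)
    have hidx : (P : Subgroup G).index = 3 := by
      have := (P : Subgroup G).card_mul_index
      rw [hPc, hN] at this
      omega
    have hdvd : Nat.card (Sylow 2 G) ∣ 3 := hidx ▸ P.card_dvd_index
    have hle3 : Nat.card (Sylow 2 G) ≤ 3 := Nat.le_of_dvd (by norm_num) hdvd
    rw [hN] at h2
    have h3f : Nat.factorial 3 = 6 := by decide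
    have hmono : Nat.factorial (Nat.card (Sylow 2 G)) ≤ Nat.factorial 3 := Nat.factorial_le hle3
    omega
  · -- 20
    obtain ⟨P⟩ : Nonempty (Sylow 5 G) := inferInstance
    have hPc : Nat.card (P : Subgroup G) = 5 ^ 1 :=
      sylow_card_of P 1 4 (by rw [hN]; norm_num) (by norm_num) (by norm_num)
    obtain ⟨h1, -⟩ := simple_sylow P (by rw [hPc]; norm_num) (by rw [hPc, hN]; norm_num)
    have hidx : (P : Subgroup G).index = 4 := by
      have := (P : Subgroup G).card_mul_index
      rw [hPc, hN] at this
      omega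
    have hdvd : Nat.card (Sylow 5 G) ∣ 4 := hidx ▸ P.card_dvd_index
    have hmod : Nat.card (Sylow 5 G) ≡ 1 [MOD 5] := card_sylow_modEq_one 5 G
    have hle4 : Nat.card (Sylow 5 G) ≤ 4 := Nat.le_of_dvd (by norm_num) hdvd
    unfold Nat.ModEq at hmod
    omega
  · exact hidx2 15 (by decide) rfl
  · -- 60
    obtain ⟨P5⟩ : Nonempty (Sylow 5 G) := inferInstance
    have hP5c : ∀ P : Sylow 5 G, Nat.card (P : Subgroup G) = 5 := by
      intro P
      have := sylow_card_of P 1 12 (by rw [hN]; norm_num) (by norm_num) (by norm_num)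
      rw [this, pow_one]
    obtain ⟨h51, -⟩ := simple_sylow P5 (by rw [hP5c]; norm_num) (by rw [hP5c, hN]; norm_num)
    have hidx5 : (P5 : Subgroup G).index = 12 := by
      have := (P5 : Subgroup G).card_mul_index
      rw [hP5c, hN] at this
      omega
    have hdvd5 : Nat.card (Sylow 5 G) ∣ 12 := hidx5 ▸ P5.card_dvd_index
    have hmod5 : Nat.card (Sylow 5 G) ≡ 1 [MOD 5] := card_sylow_modEq_one 5 G
    have hle5 : Nat.card (Sylow 5 G) ≤ 12 := Nat.le_of_dvd (by norm_num) hdvd5
    have hn5 : Nat.card (Sylow 5 G) = 6 := by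
      unfold Nat.ModEq at hmod5
      obtain ⟨n5, hn5⟩ : ∃ n, Nat.card (Sylow 5 G) = n := ⟨_, rfl⟩
      rw [hn5] at h51 hdvd5 hmod5 hle5 ⊢
      interval_cases n5 <;> omega
    obtain ⟨P3⟩ : Nonempty (Sylow 3 G) := inferInstance
    have hP3c : ∀ P : Sylow 3 G, Nat.card (P : Subgroup G) = 3 := by
      intro P
      have := sylow_card_of P 1 20 (by rw [hN]; norm_num) (by norm_num) (by norm_num)
      rw [this, pow_one]
    obtain ⟨h31, h32⟩ := simple_sylow P3 (by rw [hP3c]; norm_num) (by rw [hP3c, hN]; norm_num)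
    have hidx3 : (P3 : Subgroup G).index = 20 := by
      have := (P3 : Subgroup G).card_mul_index
      rw [hP3c, hN] at this
      omega
    have hdvd3 : Nat.card (Sylow 3 G) ∣ 20 := hidx3 ▸ P3.card_dvd_index
    have hmod3 : Nat.card (Sylow 3 G) ≡ 1 [MOD 3] := card_sylow_modEq_one 3 G
    have hle3 : Nat.card (Sylow 3 G) ≤ 20 := Nat.le_of_dvd (by norm_num) hdvd3
    have hn3 : Nat.card (Sylow 3 G) = 10 := by
      unfold Nat.ModEq at hmod3
      rw [hN] at h32
      obtain ⟨n3, hn3⟩ : ∃ n, Nat.card (Sylow 3 G) = n := ⟨_, rfl⟩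
      rw [hn3] at h31 hdvd3 hmod3 hle3 h32 ⊢
      have h4f : Nat.factorial 4 = 24 := by decide
      interval_cases n3 <;> omega
    have hc5 := card_orderOf_ge (G := G) (p := 5) hP5c
    have hc3 := card_orderOf_ge (G := G) (p := 3) hP3c
    rw [hn5] at hc5
    rw [hn3] at hc3
    have hcount := count_orders (G := G)
    rw [hN] at hcount
    omega

/-- In a finite simple group G of even order greater than 2, the number n of involutions satisfies 3n < |G|. -/
theorem result {G : Type*} [Group G] [Finite G] [IsSimpleGroup G] (heven : Even (Nat.card G)) (hgt : 2 < Nat.card G) : 3 * Nat.card {t : G // orderOf t = 2} < Nat.card G := by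
  classical
  by_contra hcon
  push Not at hcon
  have : Fact (Nat.Prime 2) := ⟨Nat.prime_two⟩
  have h2N : 2 ∣ Nat.card G := even_iff_two_dvd.mp heven
  have hZ : Odd (Nat.card (Subgroup.center G)) := by
    have hnorm : (Subgroup.center G).Normal := inferInstance
    rcases hnorm.eq_bot_or_eq_top with h | h
    · rw [h, Subgroup.card_bot]; exact odd_one
    · exfalso
      obtain ⟨t, ht⟩ := exists_prime_orderOf_dvd_card' (G := G) 2 h2N
      have htc : ∀ c : G, c * t = t * c := by
        intro c
        have : t ∈ Subgroup.center G := by rw [h]; trivial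
        exact Subgroup.mem_center_iff.mp this c
      have hn : (Subgroup.zpowers t).Normal := zpowers_normal_of_central t htc
      rcases hn.eq_bot_or_eq_top with hb | hb
      · have : t ∈ Subgroup.zpowers t := Subgroup.mem_zpowers t
        rw [hb, Subgroup.mem_bot] at this
        rw [this, orderOf_one] at ht
        norm_num at ht
      · have : Nat.card G = 2 := by
          rw [← Subgroup.card_top (G := G), ← hb, Nat.card_zpowers, ht]
        omega
  obtain ⟨H, hH, h2 | hlt⟩ := brauer_fowler heven hZ
  · have := card_eq_two_of_index_two H h2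
    omega
  · unfold invCount at hlt
    obtain ⟨m, hm⟩ : ∃ m, Nat.card {t : G // orderOf t = 2} = m := ⟨_, rfl⟩
    obtain ⟨N, hN⟩ : ∃ N, Nat.card G = N := ⟨_, rfl⟩
    rw [hm, hN] at hlt
    have hmpos : 0 < m := by
      have := invCount_pos heven
      unfold invCount at this
      omega
    have hidx : H.index ≤ 5 := by
      have h1 : N * (N + m) ≤ (3 * m) * (3 * m + m) := by
        rw [hN, hm] at hcon
        exact Nat.mul_le_mul hcon (by omega)
      have h2 : (3 * m) * (3 * m + m) = 12 * m ^ 2 := by ring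
      have h3 : 2 * H.index * m ^ 2 < 12 * m ^ 2 := by omega
      have h4 : 2 * H.index < 12 := Nat.lt_of_mul_lt_mul_right h3
      omega
    have hinj := toPermHom_injective H hH
    have : Fintype (G ⧸ H) := Fintype.ofFinite _
    have hnt : Nontrivial (G ⧸ H) := by
      rw [← Finite.one_lt_card_iff_nontrivial, ← Subgroup.index_eq_card]
      have h0 : H.index ≠ 0 := Subgroup.index_ne_zero_of_finite
      have h1 : H.index ≠ 1 := fun h => hH (Subgroup.index_eq_one.mp h)
      omega
    have hψ : (Equiv.Perm.sign.comp (MulAction.toPermHom G (G ⧸ H))).ker = ⊤ := by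
      have hn : (Equiv.Perm.sign.comp (MulAction.toPermHom G (G ⧸ H))).ker.Normal :=
        MonoidHom.normal_ker _
      rcases hn.eq_bot_or_eq_top with h | h
      · exfalso
        have hinj2 : Function.Injective (Equiv.Perm.sign.comp (MulAction.toPermHom G (G ⧸ H))) :=
          (MonoidHom.ker_eq_bot_iff _).mp h
        have hc := Nat.card_le_card_of_injective _ hinj2
        have hu : Nat.card ℤˣ = 2 := by
          rw [Nat.card_eq_fintype_card]; rfl
        omega
      · exact h
    have hrange : (MulAction.toPermHom G (G ⧸ H)).range ≤ alternatingGroup (G ⧸ H) := by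
      rintro _ ⟨g, rfl⟩
      rw [Equiv.Perm.mem_alternatingGroup]
      have : g ∈ (Equiv.Perm.sign.comp (MulAction.toPermHom G (G ⧸ H))).ker := by
        rw [hψ]; trivial
      exact this
    have hNr : Nat.card (MulAction.toPermHom G (G ⧸ H)).range = N := by
      rw [← hN]
      exact (Nat.card_congr (MonoidHom.ofInjective hinj).toEquiv).symm
    have hdvd1 : N ∣ Nat.card (alternatingGroup (G ⧸ H)) := by
      rw [← hNr]; exact Subgroup.card_dvd_of_le hrange
    have h2alt : 2 * Nat.card (alternatingGroup (G ⧸ H)) = Nat.factorial H.index := by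
      rw [two_mul_nat_card_alternatingGroup, Nat.card_perm, ← Subgroup.index_eq_card]
    have h120 : Nat.factorial H.index ∣ 120 := by
      have : Nat.factorial 5 = 120 := by decide
      rw [← this]
      exact Nat.factorial_dvd_factorial hidx
    have hN60 : N ∣ 60 := by
      have h : 2 * N ∣ 2 * 60 := (Nat.mul_dvd_mul_left 2 hdvd1).trans (h2alt ▸ h120)
      exact Nat.dvd_of_mul_dvd_mul_left two_pos h
    rw [← hN] at hN60
    exact small_case hgt h2N hN60 hcon

end

end Cfsg.Agent.S0234
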