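import Cfsg.Statements.S0236
import Cfsg.Agent.Lib.Helper06.Dihedral

set_option autoImplicit false
open Cfsg

namespace Cfsg.Agent.S0236

open Cfsg.Agent.Lib.Helper06

theorem pairs_equiv {G : Type*} [Group G] (x : G) (hx : orderOf x = 2) :
    Nonempty ({p : G × G // orderOf p.1 = 2 ∧ orderOf p.2 = 2 ∧ p.1 * p.2 = x} ≃
      {s : {t : G // orderOf t = 2 ∧ Commute t x} // s ≠ ⟨x, hx, Commute.refl x⟩}) := by
  have hx1 := sq_one_of_orderOf_two hx
  refine ⟨
    { toFun := fun p => ⟨⟨p.1.1, p.2.1, ?_⟩, ?_⟩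
      invFun := fun s => ⟨(s.1.1, s.1.1 * x), s.1.2.1, ?_, ?_⟩
      left_inv := ?_
      right_inv := ?_ }⟩
  · obtain ⟨⟨u, v⟩, hu, hv, huv⟩ := p
    simp only at hu hv huv ⊢
    have hu1 := sq_one_of_orderOf_two hu
    have hv1 := sq_one_of_orderOf_two hv
    have hvi := inv_eq_self_of_orderOf_two hv
    show u * x = x * u
    have h1 : u * x = v := by rw [← huv, ← mul_assoc, hu1, one_mul]
    have h2 : (u * v) * (u * v) = 1 := by rw [huv]; exact hx1
    have h3 : u * v * u = v⁻¹ := by
      apply eq_inv_of_mul_eq_one_left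
      rw [← h2]; group
    rw [h1, ← huv, h3, hvi]
  · obtain ⟨⟨u, v⟩, hu, hv, huv⟩ := p
    simp only at hu hv huv ⊢
    intro h
    have h' : u = x := congrArg (fun s => s.1) h
    rw [← huv] at h'
    have : v = 1 := by
      have := mul_left_cancel (a := u) (b := 1) (c := v) (by rw [mul_one]; exact h')
      exact this.symm
    exact ne_one_of_orderOf_two hv this
  · obtain ⟨⟨t, ht, hc⟩, hne⟩ := s
    simp only
    have hti := inv_eq_self_of_orderOf_two ht
    have ht1 := sq_one_of_orderOf_two ht
    apply orderOf_two_of_sq_one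
    · calc t * x * (t * x) = t * (x * t) * x := by group
        _ = t * (t * x) * x := by rw [hc.eq]
        _ = (t * t) * (x * x) := by group
        _ = 1 := by rw [ht1, hx1, one_mul]
    · intro h1
      apply hne
      apply Subtype.ext
      show t = x
      have : x = t⁻¹ := eq_inv_of_mul_eq_one_right h1
      rw [this, hti]
  · obtain ⟨⟨t, ht, hc⟩, hne⟩ := s
    simp only
    rw [← mul_assoc, sq_one_of_orderOf_two ht, one_mul]
  · rintro ⟨⟨u, v⟩, hu, hv, huv⟩
    simp only at hu hv huv ⊢
    apply Subtype.ext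
    simp only
    rw [← huv, ← mul_assoc, sq_one_of_orderOf_two hu, one_mul]
  · rintro ⟨⟨t, ht, hc⟩, hne⟩
    rfl

/-- If x is an involution, the number of ordered pairs (u, v) of involutions with uv = x, plus one, equals the number of involutions in the centralizer of x. -/
theorem result {G : Type*} [Group G] [Finite G] (x : G) (hx : orderOf x = 2) : Nat.card {p : G × G // orderOf p.1 = 2 ∧ orderOf p.2 = 2 ∧ p.1 * p.2 = x} + 1 = Nat.card {t : G // orderOf t = 2 ∧ Commute t x} := by
  classical
  obtain ⟨e⟩ := pairs_equiv x hx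
  rw [Nat.card_congr e, ← Finite.card_option]
  exact Nat.card_congr (Equiv.optionSubtypeNe _)

end Cfsg.Agent.S0236
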