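import Cfsg.Statements.S0238
import Mathlib

set_option autoImplicit false
open Cfsg

namespace Cfsg.Agent.S0238

variable {G : Type*} [Group G]

lemma inv_of_order_two {u : G} (hu : orderOf u = 2) : u⁻¹ = u := by
  have h := pow_orderOf_eq_one u
  rw [hu, pow_two] at h
  exact inv_eq_of_mul_eq_one_left h

lemma mem_cent {x y : G} : y ∈ Subgroup.centralizer ({x} : Set G) ↔ x * y = y * x := by
  rw [Subgroup.mem_centralizer_iff]
  constructor
  · intro h; exact h x rfl
  · intro h z hz
    rw [Set.mem_singleton_iff] at hz
    subst hz; exact h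

/-- if `u`, `v` are involutions with `u * v = x` then `u` inverts `x`. -/
lemma conj_of_pair {x u v : G} (hu : orderOf u = 2) (hv : orderOf v = 2) (h : u * v = x) :
    u * x * u⁻¹ = x⁻¹ := by
  have hu' := inv_of_order_two hu
  have hv' := inv_of_order_two hv
  have huu : u * u = 1 := by
    have h := pow_orderOf_eq_one u
    rwa [hu, pow_two] at h
  subst h
  rw [mul_inv_rev, hu', hv', ← mul_assoc, huu, one_mul]

/-- For every x in a finite group G, the number c of ordered pairs (u, v) of involutions with uv = x is at most |C_G(x)|; c = 0 when x is not conjugate to x⁻¹; and c + 2 ≤ |C_G(x)| when x is an involution. -/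
theorem result {G : Type*} [Group G] [Finite G] (x : G) : Nat.card {p : G × G // orderOf p.1 = 2 ∧ orderOf p.2 = 2 ∧ p.1 * p.2 = x} ≤ Nat.card (Subgroup.centralizer ({x} : Set G)) ∧ (¬ IsConj x x⁻¹ → Nat.card {p : G × G // orderOf p.1 = 2 ∧ orderOf p.2 = 2 ∧ p.1 * p.2 = x} = 0) ∧ (orderOf x = 2 → Nat.card {p : G × G // orderOf p.1 = 2 ∧ orderOf p.2 = 2 ∧ p.1 * p.2 = x} + 2 ≤ Nat.card (Subgroup.centralizer ({x} : Set G))) := by
  classical
  set S := {p : G × G // orderOf p.1 = 2 ∧ orderOf p.2 = 2 ∧ p.1 * p.2 = x} with hS
  have hfst : ∀ p q : S, p.1.1 = q.1.1 → p = q := by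
    intro p q h
    apply Subtype.ext
    apply Prod.ext h
    have hp := p.2.2.2
    have hq := q.2.2.2
    rw [h] at hp
    exact mul_left_cancel (hp.trans hq.symm)
  refine ⟨?_, ?_, ?_⟩
  · by_cases hne : Nonempty S
    · obtain ⟨p0⟩ := hne
      have hmem : ∀ p : S, p0.1.1⁻¹ * p.1.1 ∈ Subgroup.centralizer ({x} : Set G) := by
        intro p
        rw [mem_cent]
        have h0 := conj_of_pair p0.2.1 p0.2.2.1 p0.2.2.2
        have h1 := conj_of_pair p.2.1 p.2.2.1 p.2.2.2
        have h0' : x * p0.1.1⁻¹ = p0.1.1⁻¹ * x⁻¹ := by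
          rw [← h0]; group
        have h1' : x⁻¹ * p.1.1 = p.1.1 * x := by
          rw [← h1]; group
        calc x * (p0.1.1⁻¹ * p.1.1) = (x * p0.1.1⁻¹) * p.1.1 := by rw [mul_assoc]
          _ = p0.1.1⁻¹ * (x⁻¹ * p.1.1) := by rw [h0', mul_assoc]
          _ = p0.1.1⁻¹ * p.1.1 * x := by rw [h1', mul_assoc]
      refine Nat.card_le_card_of_injective (fun p : S => (⟨p0.1.1⁻¹ * p.1.1, hmem p⟩ :
        Subgroup.centralizer ({x} : Set G))) ?_
      intro p q hpq
      have := congrArg Subtype.val hpq
      simp only [mul_right_inj] at this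
      exact hfst p q this
    · rw [not_nonempty_iff] at hne
      rw [Nat.card_of_isEmpty]
      exact Nat.zero_le _
  · intro hnc
    have : IsEmpty S := by
      constructor
      intro p
      apply hnc
      rw [isConj_iff]
      exact ⟨p.1.1, conj_of_pair p.2.1 p.2.2.1 p.2.2.2⟩
    exact Nat.card_of_isEmpty
  · intro hx
    have hxinv := inv_of_order_two hx
    have hxmem : x ∈ Subgroup.centralizer ({x} : Set G) := mem_cent.mpr rfl
    have hmem : ∀ p : S, p.1.1 ∈ Subgroup.centralizer ({x} : Set G) := by
      intro p
      rw [mem_cent]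
      have h1 := conj_of_pair p.2.1 p.2.2.1 p.2.2.2
      rw [hxinv] at h1
      calc x * p.1.1 = (p.1.1 * x * p.1.1⁻¹) * p.1.1 := by rw [h1]
        _ = p.1.1 * x := by group
    let f : Option (Option S) → Subgroup.centralizer ({x} : Set G) := fun o =>
      match o with
      | none => 1
      | some none => ⟨x, hxmem⟩
      | some (some p) => ⟨p.1.1, hmem p⟩
    have hx1 : x ≠ 1 := by
      intro h; rw [h, orderOf_one] at hx; omega
    have hp1 : ∀ p : S, p.1.1 ≠ 1 := by
      intro p h
      have := p.2.1
      rw [h, orderOf_one] at this; omega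
    have hpx : ∀ p : S, p.1.1 ≠ x := by
      intro p h
      have h2 := p.2.2.2
      rw [h] at h2
      have h3 : p.1.2 = 1 := by simpa using h2
      have := p.2.2.1
      rw [h3, orderOf_one] at this; omega
    have hinj : Function.Injective f := by
      intro a b hab
      have hab' := congrArg Subtype.val hab
      match a, b with
      | none, none => rfl
      | none, some none => exact absurd hab'.symm hx1
      | none, some (some p) => exact absurd hab'.symm (hp1 p)
      | some none, none => exact absurd hab' hx1
      | some none, some none => rfl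
      | some none, some (some p) => exact absurd hab'.symm (hpx p)
      | some (some p), none => exact absurd hab' (hp1 p)
      | some (some p), some none => exact absurd hab' (hpx p)
      | some (some p), some (some q) => rw [hfst p q hab']
    have := Nat.card_le_card_of_injective f hinj
    rwa [Finite.card_option, Finite.card_option] at this

end Cfsg.Agent.S0238
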