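import Cfsg.Statements.S0240
import Mathlib

set_option autoImplicit false
open Cfsg

namespace Cfsg.Agent.S0240

/-- Let G be a finite group with n involutions and H a subgroup with |H|·(n+1) > |G|. Then some nontrivial h ∈ H is strongly real in G: an involution t of G satisfies t h t⁻¹ = h⁻¹. -/
theorem result {G : Type*} [Group G] [Finite G] (H : Subgroup G) (hH : Nat.card G < Nat.card H * (Nat.card {t : G // orderOf t = 2} + 1)) : ∃ h : G, h ∈ H ∧ h ≠ 1 ∧ ∃ t : G, orderOf t = 2 ∧ t * h * t⁻¹ = h⁻¹ := by
  classical
  let I := {t : G // orderOf t = 2}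
  let e : Option I → G := fun o => o.elim 1 Subtype.val
  have hsq : ∀ o, e o * e o = 1 := by
    intro o
    cases o with
    | none => simp [e]
    | some t =>
      have : (t.1) ^ 2 = 1 := by
        have h := pow_orderOf_eq_one t.1
        rwa [t.2] at h
      simpa [e, pow_two] using this
  have hord : ∀ o, e o ≠ 1 → orderOf (e o) = 2 := by
    intro o ho
    cases o with
    | none => exact absurd rfl ho
    | some t => exact t.2
  have hinv : ∀ o, (e o)⁻¹ = e o := fun o => inv_eq_of_mul_eq_one_left (hsq o)
  have hcard : Nat.card (G ⧸ H) < Nat.card (Option I) := by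
    rw [Finite.card_option]
    have h1 := Subgroup.card_eq_card_quotient_mul_card_subgroup H
    rw [h1, mul_comm] at hH
    have hpos : 0 < Nat.card H := Nat.card_pos
    exact Nat.lt_of_mul_lt_mul_left hH
  have hninj : ¬ Function.Injective (fun o : Option I => (QuotientGroup.mk (e o) : G ⧸ H)) :=
    fun hinj => absurd (Nat.card_le_card_of_injective _ hinj) (not_le.mpr hcard)
  rw [Function.Injective] at hninj
  push Not at hninj
  obtain ⟨a, b, hfab, hab⟩ := hninj
  have hmem : (e a)⁻¹ * e b ∈ H := QuotientGroup.eq.mp hfab
  have hne : e a ≠ e b := by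
    intro h
    apply hab
    cases a with
    | none =>
      cases b with
      | none => rfl
      | some t =>
        exfalso
        have : (1 : G) = t.1 := h
        have h2 := t.2
        rw [← this, orderOf_one] at h2
        omega
    | some s =>
      cases b with
      | none =>
        exfalso
        have : s.1 = (1 : G) := h
        have h2 := s.2
        rw [this, orderOf_one] at h2
        omega
      | some t =>
        have : s.1 = t.1 := h
        rw [Subtype.ext this]
  refine ⟨(e a)⁻¹ * e b, hmem, ?_, ?_⟩
  · intro h
    apply hne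
    exact inv_mul_eq_one.mp h
  · rw [hinv a]
    by_cases ha : e a = 1
    · have hb : e b ≠ 1 := fun hb => hne (ha.trans hb.symm)
      refine ⟨e b, hord b hb, ?_⟩
      rw [ha, one_mul, mul_inv_cancel_right, hinv b]
    · refine ⟨e a, hord a ha, ?_⟩
      rw [mul_inv_rev, hinv a, hinv b, ← mul_assoc, hsq a, one_mul]

end Cfsg.Agent.S0240
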