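import Cfsg.Statements.S0241
import Mathlib

set_option autoImplicit false
open Cfsg

namespace Cfsg.Agent.S0241

/-- If x ≠ 1 is conjugate to x⁻¹ in a finite group G and |C_G(x)| is odd, then some involution t satisfies t x t⁻¹ = x⁻¹. -/
theorem result {G : Type*} [Group G] [Finite G] (x : G) (hx : x ≠ 1) (hreal : IsConj x x⁻¹) (hodd : Odd (Nat.card (Subgroup.centralizer ({x} : Set G)))) : ∃ t : G, orderOf t = 2 ∧ t * x * t⁻¹ = x⁻¹ := by
  obtain ⟨g, hg⟩ := isConj_iff.mp hreal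
  have h1 : g * x⁻¹ * g⁻¹ = x := by
    have : (g * x * g⁻¹)⁻¹ = (x⁻¹)⁻¹ := by rw [hg]
    simpa [mul_assoc] using this
  have h2 : Commute (g ^ 2) x := by
    have : g ^ 2 * x * (g ^ 2)⁻¹ = x := by
      calc g ^ 2 * x * (g ^ 2)⁻¹ = g * (g * x * g⁻¹) * g⁻¹ := by
            simp only [pow_two, mul_inv_rev, mul_assoc]
        _ = g * x⁻¹ * g⁻¹ := by rw [hg]
        _ = x := h1
    have h3 : g ^ 2 * x = x * g ^ 2 := by
      calc g ^ 2 * x = (g ^ 2 * x * (g ^ 2)⁻¹) * g ^ 2 := by simp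
        _ = x * g ^ 2 := by rw [this]
    exact h3
  set c := Nat.card (Subgroup.centralizer ({x} : Set G)) with hc
  have hmem : g ^ 2 ∈ Subgroup.centralizer ({x} : Set G) := by
    rw [Subgroup.mem_centralizer_iff]
    intro y hy
    rw [Set.mem_singleton_iff] at hy
    subst hy
    exact h2.eq.symm
  have hpow : (g ^ 2) ^ c = 1 := by
    have := pow_card_eq_one' (G := Subgroup.centralizer ({x} : Set G)) (x := ⟨g ^ 2, hmem⟩)
    have h4 := congrArg Subtype.val this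
    rw [Subgroup.coe_pow, Subgroup.coe_one] at h4
    exact h4
  obtain ⟨k, hk⟩ := hodd
  -- t = g ^ c inverts x
  have htinv : g ^ c * x * (g ^ c)⁻¹ = x⁻¹ := by
    have hck : g ^ c = (g ^ 2) ^ k * g := by
      rw [← pow_mul, ← pow_succ, hk]
    have hcomm : Commute ((g ^ 2) ^ k) x⁻¹ := (h2.pow_left k).inv_right
    rw [hck]
    calc (g ^ 2) ^ k * g * x * ((g ^ 2) ^ k * g)⁻¹
        = (g ^ 2) ^ k * (g * x * g⁻¹) * ((g ^ 2) ^ k)⁻¹ := by
          simp only [mul_inv_rev, mul_assoc]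
      _ = (g ^ 2) ^ k * x⁻¹ * ((g ^ 2) ^ k)⁻¹ := by rw [hg]
      _ = x⁻¹ := by rw [hcomm.eq, mul_inv_cancel_right]
  have ht2 : (g ^ c) ^ 2 = 1 := by
    rw [← pow_mul, mul_comm, pow_mul]; exact hpow
  have htne : g ^ c ≠ 1 := by
    intro h
    rw [h] at htinv
    have hxx : x = x⁻¹ := by simpa using htinv
    have hx2 : x ^ 2 = 1 := by
      rw [pow_two]; nth_rewrite 2 [hxx]; exact mul_inv_cancel x
    have ho : orderOf x = 2 := orderOf_eq_prime hx2 hx
    have hxmem : x ∈ Subgroup.centralizer ({x} : Set G) := by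
      rw [Subgroup.mem_centralizer_iff]
      intro y hy
      rw [Set.mem_singleton_iff] at hy
      subst hy
      rfl
    have h5 : orderOf (⟨x, hxmem⟩ : Subgroup.centralizer ({x} : Set G)) = 2 := by
      rw [← ho]
      exact Subgroup.orderOf_mk x hxmem
    have h6 : 2 ∣ c := h5 ▸ orderOf_dvd_natCard _
    omega
  exact ⟨g ^ c, orderOf_eq_prime ht2 htne, htinv⟩

end Cfsg.Agent.S0241
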