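import Cfsg.Statements.S0250
import Cfsg.Agent.Lib.Helper07.PermEmbed

set_option autoImplicit false
open Cfsg

namespace Cfsg.Agent.S0250

/-- SL_2(2) is isomorphic to S_3. -/
theorem result {F : Type*} [Field F] [Fintype F] (hF : Fintype.card F = 2) : Nonempty (Matrix.SpecialLinearGroup (Fin 2) F ≃* Equiv.Perm (Fin 3)) := by
  classical
  have hcard : Nat.card (Matrix.SpecialLinearGroup (Fin 2) F) = 6 := by
    have h := Cfsg.Agent.Lib.Helper07.card_sl_two (F := F)
    rw [hF] at h
    generalize Nat.card (Matrix.SpecialLinearGroup (Fin 2) F) = c at h ⊢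
    norm_num at h
    omega
  have hcenter : Subgroup.center (Matrix.SpecialLinearGroup (Fin 2) F) = ⊥ := by
    rw [← Subgroup.card_eq_one, Cfsg.Agent.Lib.Helper07.card_center_sl 2 (by norm_num), hF]
    rfl
  have hinj : Function.Injective
      (MulAction.toPermHom (Matrix.SpecialLinearGroup (Fin 2) F)
        (Projectivization F (Fin 2 → F))) := by
    rw [← MonoidHom.ker_eq_bot_iff, Projectivization.SL_mulAction_ker, hcenter]
  exact Cfsg.Agent.Lib.Helper07.nonempty_mulEquiv_perm _ hinj 3
    (by rw [Cfsg.Agent.Lib.Helper07.card_projLine, hF]) (by rw [hcard]; rfl)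

end Cfsg.Agent.S0250
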