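import Cfsg.Statements.S0257
import Cfsg.Agent.Lib.Helper07.SLCard
import Cfsg.Agent.Lib.Helper07.SLTransfer

set_option autoImplicit false
open Cfsg

namespace Cfsg.Agent.S0257

open Matrix

abbrev S3 := Matrix.SpecialLinearGroup (Fin 2) (ZMod 3)

def A : S3 := ⟨!![0, -1; 1, 0], by decide⟩
def X : S3 := ⟨!![1, 1; 1, -1], by decide⟩

def f : QuaternionGroup 2 → S3
  | .a i => A ^ i.val
  | .xa i => X * A ^ i.val

set_option maxRecDepth 100000 in
theorem f_mul : ∀ x y : QuaternionGroup 2, f (x * y) = f x * f y := by decide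

set_option maxRecDepth 100000 in
theorem f_pow4 : ∀ x : QuaternionGroup 2, (f x) ^ 4 = 1 := by decide

set_option maxRecDepth 100000 in
theorem f_inj : ∀ x y : QuaternionGroup 2, f x = f y → x = y := by decide

set_option maxRecDepth 100000 in
theorem card_Q : Fintype.card {g : S3 // g ^ 4 = 1} = 8 := by decide

set_option maxRecDepth 100000 in
theorem card_S3 : Fintype.card S3 = 24 := by decide

set_option maxRecDepth 100000 in
theorem mul_pow4 : ∀ g h : S3, g ^ 4 = 1 → h ^ 4 = 1 → (g * h) ^ 4 = 1 := by decide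

/-- the quaternion subgroup of `SL(2, 3)`. -/
def Q₀ : Subgroup S3 where
  carrier := {g | g ^ 4 = 1}
  mul_mem' {g h} hg hh := mul_pow4 g h hg hh
  one_mem' := one_pow 4
  inv_mem' {g} hg := by
    show (g⁻¹) ^ 4 = 1
    rw [inv_pow, hg, inv_one]

lemma mem_Q₀ (g : S3) : g ∈ Q₀ ↔ g ^ 4 = 1 := Iff.rfl

instance : Q₀.Normal where
  conj_mem n hn g := by
    rw [mem_Q₀] at hn ⊢
    rw [conj_pow, hn, mul_one, mul_inv_cancel]

lemma card_Q₀ : Nat.card Q₀ = 8 := by
  rw [← card_Q, ← Nat.card_eq_fintype_card]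
  rfl

lemma index_Q₀ : Q₀.index = 3 := by
  have h := Q₀.index_mul_card
  rw [card_Q₀, Nat.card_eq_fintype_card, card_S3] at h
  omega

/-- `Q₀` is the quaternion group. -/
noncomputable def equivQ₀ : QuaternionGroup 2 ≃* Q₀ := by
  let g : QuaternionGroup 2 →* Q₀ :=
    { toFun := fun x => ⟨f x, f_pow4 x⟩
      map_one' := by
        apply Subtype.ext
        show f 1 = 1
        decide
      map_mul' := fun x y => Subtype.ext (f_mul x y) }
  have hinj : Function.Injective g := by
    intro x y hxy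
    exact f_inj x y (congrArg Subtype.val hxy)
  have hbij : Function.Bijective g := by
    refine (Function.Injective.bijective_of_nat_card_le hinj ?_)
    rw [card_Q₀, Nat.card_eq_fintype_card, QuaternionGroup.card]
  exact MulEquiv.ofBijective g hbij

/-- SL_2(3) has a normal subgroup of index 3 isomorphic to the quaternion group of order 8, and its centre has order 2. -/
theorem result {F : Type*} [Field F] [Fintype F] (hF : Fintype.card F = 3) : (∃ Q : Subgroup (Matrix.SpecialLinearGroup (Fin 2) F), Q.Normal ∧ Q.index = 3 ∧ Nonempty (Q ≃* QuaternionGroup 2)) ∧ Nat.card (Subgroup.center (Matrix.SpecialLinearGroup (Fin 2) F)) = 2 := by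
  have : Fact (Nat.Prime 3) := ⟨by norm_num⟩
  obtain ⟨ψ⟩ : Nonempty (S3 ≃* Matrix.SpecialLinearGroup (Fin 2) F) :=
    ⟨(Cfsg.Agent.Lib.Helper07.slEquivZMod 3 hF).symm⟩
  refine ⟨⟨Q₀.map (ψ : S3 →* Matrix.SpecialLinearGroup (Fin 2) F), ?_, ?_, ?_⟩, ?_⟩
  · exact Subgroup.Normal.map inferInstance _ ψ.surjective
  · rw [Subgroup.index_map_equiv, index_Q₀]
  · exact ⟨((ψ.subgroupMap Q₀).symm).trans equivQ₀.symm⟩
  · rw [Cfsg.Agent.Lib.Helper07.card_center_sl 2 (by norm_num), hF]
    rfl

end Cfsg.Agent.S0257
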