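import Mathlib
import Cfsg.Statements.S0263

set_option autoImplicit false
open scoped MatrixGroups
open Cfsg

namespace Cfsg.Agent.S0263

/-- A Sylow p-subgroup of GL_n(q), p the characteristic, has order q^(n(n-1)/2). -/
theorem result {F : Type*} [Field F] [Fintype F] {q : ℕ} (hF : Fintype.card F = q) (p : ℕ) [Fact p.Prime] [CharP F p] (n : ℕ) (P : Sylow p (Matrix.GeneralLinearGroup (Fin n) F)) : Nat.card P = q ^ (n * (n - 1) / 2) := by
  classical
  obtain ⟨f, hp, hqf⟩ := FiniteField.card F p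
  have hq : q = p ^ (f : ℕ) := hF ▸ hqf
  have hq2 : 2 ≤ q := by
    rw [hq]
    calc 2 ≤ p := hp.two_le
      _ = p ^ 1 := (pow_one p).symm
      _ ≤ p ^ (f : ℕ) := Nat.pow_le_pow_right hp.pos f.2
  have hpq : p ∣ q := by rw [hq]; exact dvd_pow_self p f.ne_zero
  rw [Sylow.card_eq_multiplicity, Matrix.card_GL_field]
  have key : ∏ i : Fin n, (Fintype.card F ^ n - Fintype.card F ^ (i : ℕ)) =
      q ^ (n * (n - 1) / 2) * ∏ i : Fin n, (q ^ (n - (i : ℕ)) - 1) := by
    rw [hF, ← Finset.sum_range_id, ← Fin.sum_univ_eq_sum_range (fun i => i) n,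
      ← Finset.prod_pow_eq_pow_sum, ← Finset.prod_mul_distrib]
    refine Finset.prod_congr rfl fun i _ => ?_
    rw [Nat.mul_sub, mul_one, ← pow_add, Nat.add_sub_cancel' i.2.le]
  rw [key]
  have hne1 : q ^ (n * (n - 1) / 2) ≠ 0 := pow_ne_zero _ (by omega)
  have hfac : ∀ i : Fin n, 1 < q ^ (n - (i : ℕ)) := fun i =>
    Nat.one_lt_pow (by have := i.2; omega) (by omega)
  have hne2 : ∏ i : Fin n, (q ^ (n - (i : ℕ)) - 1) ≠ 0 := by
    apply Finset.prod_ne_zero_iff.mpr
    intro i _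
    have := hfac i
    omega
  have hndvd : ¬ p ∣ ∏ i : Fin n, (q ^ (n - (i : ℕ)) - 1) := by
    intro h
    obtain ⟨i, _, hi⟩ := (Prime.dvd_finsetProd_iff hp.prime _).mp h
    have h1 : p ∣ q ^ (n - (i : ℕ)) := dvd_pow hpq (by have := i.2; omega)
    have h2 := hfac i
    have h3 : p ∣ 1 := by
      have := (Nat.dvd_sub h1 hi)
      rwa [Nat.sub_sub_self h2.le] at this
    exact hp.one_lt.ne' (Nat.dvd_one.mp h3)
  rw [Nat.factorization_mul hne1 hne2, Finsupp.add_apply,
    Nat.factorization_eq_zero_of_not_dvd hndvd, add_zero, hq, ← pow_mul,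
    Nat.factorization_pow, Finsupp.smul_apply, hp.factorization_self, smul_eq_mul, mul_one]

end Cfsg.Agent.S0263
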