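import Cfsg.Statements.S0271
-- import your own Cfsg.Agent.* helpers here

set_option autoImplicit false
open Cfsg

namespace Cfsg.Agent.S0271

open Matrix

section helpers

variable {F : Type*} [Field F] {m : ℕ}

/-- the symplectic form -/
def om (x y : Fin m ⊕ Fin m → F) : F := x ⬝ᵥ (J (Fin m) F *ᵥ y)

theorem om_add_left (x x' y : Fin m ⊕ Fin m → F) : om (x + x') y = om x y + om x' y := by
  simp [om, add_dotProduct]

theorem om_add_right (x y y' : Fin m ⊕ Fin m → F) : om x (y + y') = om x y + om x y' := by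
  simp [om, mulVec_add, dotProduct_add]

theorem om_smul_left (a : F) (x y : Fin m ⊕ Fin m → F) : om (a • x) y = a * om x y := by
  simp [om, smul_dotProduct]

theorem om_smul_right (a : F) (x y : Fin m ⊕ Fin m → F) : om x (a • y) = a * om x y := by
  simp [om, mulVec_smul, dotProduct_smul]

theorem om_swap (x y : Fin m ⊕ Fin m → F) : om x y = - om y x := by
  unfold om
  rw [dotProduct_mulVec, ← mulVec_transpose, J_transpose, neg_mulVec, neg_dotProduct,
    dotProduct_comm]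

theorem om_self (x : Fin m ⊕ Fin m → F) : om x x = 0 := by
  simp only [om, J, dotProduct, mulVec, Fintype.sum_sum_type, fromBlocks_apply₁₁,
    fromBlocks_apply₁₂, fromBlocks_apply₂₁, fromBlocks_apply₂₂, Matrix.zero_apply,
    Matrix.neg_apply, Matrix.one_apply, zero_mul, Finset.sum_const_zero, zero_add, add_zero]
  simp only [neg_mul, ite_mul, one_mul, zero_mul, Finset.sum_neg_distrib, Finset.sum_ite_eq,
    Finset.mem_univ, if_true, mul_neg]
  rw [neg_add_eq_zero]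
  apply Finset.sum_congr rfl
  intro i _
  ring

theorem om_nondeg {x : Fin m ⊕ Fin m → F} (hx : x ≠ 0) : ∃ z, om x z ≠ 0 := by
  obtain ⟨i, hi⟩ : ∃ i, x i ≠ 0 := by
    by_contra h
    push Not at h
    exact hx (funext h)
  refine ⟨(-J (Fin m) F) *ᵥ Pi.single i 1, ?_⟩
  unfold om
  rw [mulVec_mulVec, mul_neg, J_squared, neg_neg, one_mulVec]
  simpa using hi

/-- the symplectic transvection `x ↦ x + a ω(u, x) u` -/
def tv (u : Fin m ⊕ Fin m → F) (a : F) : Matrix (Fin m ⊕ Fin m) (Fin m ⊕ Fin m) F :=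
  1 + a • vecMulVec u (u ᵥ* J (Fin m) F)

theorem tv_mulVec (u : Fin m ⊕ Fin m → F) (a : F) (x : Fin m ⊕ Fin m → F) :
    tv u a *ᵥ x = x + (a * om u x) • u := by
  unfold tv om
  rw [add_mulVec, one_mulVec, smul_mulVec, vecMulVec_mulVec, dotProduct_mulVec]
  simp [mul_smul]

theorem mem_of_preserves (A : Matrix (Fin m ⊕ Fin m) (Fin m ⊕ Fin m) F)
    (h : ∀ x y, om (A *ᵥ x) (A *ᵥ y) = om x y) : A ∈ symplecticGroup (Fin m) F := by
  rw [SymplecticGroup.mem_iff', Matrix.ext_iff_mulVec]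
  intro y
  apply dotProduct_eq
  intro x
  have := h x y
  unfold om at this
  calc ((Aᵀ * J (Fin m) F * A) *ᵥ y) ⬝ᵥ x
      = (Aᵀ *ᵥ (J (Fin m) F *ᵥ (A *ᵥ y))) ⬝ᵥ x := by rw [mulVec_mulVec, mulVec_mulVec]
    _ = ((J (Fin m) F *ᵥ (A *ᵥ y)) ᵥ* A) ⬝ᵥ x := by rw [mulVec_transpose]
    _ = (J (Fin m) F *ᵥ (A *ᵥ y)) ⬝ᵥ (A *ᵥ x) := by rw [← dotProduct_mulVec]
    _ = (A *ᵥ x) ⬝ᵥ (J (Fin m) F *ᵥ (A *ᵥ y)) := dotProduct_comm _ _
    _ = x ⬝ᵥ (J (Fin m) F *ᵥ y) := this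
    _ = (J (Fin m) F *ᵥ y) ⬝ᵥ x := dotProduct_comm _ _

theorem tv_mem (u : Fin m ⊕ Fin m → F) (a : F) : tv u a ∈ symplecticGroup (Fin m) F := by
  apply mem_of_preserves
  intro x y
  rw [tv_mulVec, tv_mulVec]
  simp only [om_add_left, om_add_right, om_smul_left, om_smul_right, om_self]
  rw [om_swap x u]
  ring

/-- if `ω(v, w) ≠ 0` some transvection maps `v` to `w` -/
theorem exists_tv {v w : Fin m ⊕ Fin m → F} (h : om v w ≠ 0) :
    ∃ g : symplecticGroup (Fin m) F, (g : Matrix _ _ F) *ᵥ v = w := by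
  refine ⟨⟨tv (w - v) (om w v)⁻¹, tv_mem _ _⟩, ?_⟩
  have h' : om w v ≠ 0 := by rw [om_swap]; exact neg_ne_zero.2 h
  show tv (w - v) (om w v)⁻¹ *ᵥ v = w
  rw [tv_mulVec]
  have : om (w - v) v = om w v := by
    rw [sub_eq_add_neg, om_add_left, ← neg_one_smul F v, om_smul_left, om_self]; ring
  rw [this, inv_mul_cancel₀ h', one_smul]
  abel

end helpers

/-- Sp_{2m}(F) is transitive on non-zero vectors. -/
theorem result {F : Type*} [Field F] (m : ℕ) (v w : Fin m ⊕ Fin m → F) (hv : v ≠ 0) (hw : w ≠ 0) : ∃ g : Matrix.symplecticGroup (Fin m) F, (g : Matrix (Fin m ⊕ Fin m) (Fin m ⊕ Fin m) F).mulVec v = w := by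
  by_cases h : om v w ≠ 0
  · exact exists_tv h
  · rw [not_not] at h
    -- find z with ω(v,z) ≠ 0 and ω(z,w) ≠ 0
    obtain ⟨z1, hz1⟩ := om_nondeg hv
    obtain ⟨z2, hz2⟩ := om_nondeg hw
    have hz2' : om z2 w ≠ 0 := by rw [om_swap]; exact neg_ne_zero.2 hz2
    have key : ∃ z, om v z ≠ 0 ∧ om z w ≠ 0 := by
      by_cases h1 : om z1 w ≠ 0
      · exact ⟨z1, hz1, h1⟩
      · rw [not_not] at h1
        by_cases h2 : om v z2 ≠ 0
        · exact ⟨z2, h2, hz2'⟩
        · rw [not_not] at h2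
          refine ⟨z1 + z2, ?_, ?_⟩
          · rw [om_add_right, h2, add_zero]; exact hz1
          · rw [om_add_left, h1, zero_add]; exact hz2'
    obtain ⟨z, hvz, hzw⟩ := key
    obtain ⟨g1, hg1⟩ := exists_tv hvz
    obtain ⟨g2, hg2⟩ := exists_tv hzw
    refine ⟨g2 * g1, ?_⟩
    show ((g2 : Matrix _ _ F) * (g1 : Matrix _ _ F)) *ᵥ v = w
    rw [← mulVec_mulVec, hg1, hg2]

end Cfsg.Agent.S0271
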