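import Mathlib
import Cfsg.Statements.S0272
import Cfsg.Agent.Lib.Helper07.GL2Sylow

set_option autoImplicit false
open Cfsg

namespace Cfsg.Agent.S0272

open Cfsg.Agent.Lib.Helper07

/-- Over a finite field of characteristic p with q elements, the normaliser of a Sylow p-subgroup of GL_2 (a Borel subgroup) has order q(q-1)^2. -/
theorem result {F : Type*} [Field F] [Fintype F] {q : ℕ} (hF : Fintype.card F = q) (p : ℕ) [Fact p.Prime] [CharP F p] (P : Sylow p (Matrix.GeneralLinearGroup (Fin 2) F)) : Nat.card (Subgroup.normalizer ((P : Subgroup (Matrix.GeneralLinearGroup (Fin 2) F)) : Set (Matrix.GeneralLinearGroup (Fin 2) F))) = q * (q - 1) ^ 2 := by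
  have h1 : Nat.card (Sylow p (Matrix.GeneralLinearGroup (Fin 2) F)) = (Subgroup.normalizer ((P : Subgroup (Matrix.GeneralLinearGroup (Fin 2) F)) : Set (Matrix.GeneralLinearGroup (Fin 2) F))).index := P.card_eq_index_normalizer
  rw [card_sylow_GL_two p] at h1
  have h2 := (Subgroup.normalizer ((P : Subgroup (Matrix.GeneralLinearGroup (Fin 2) F)) : Set (Matrix.GeneralLinearGroup (Fin 2) F))).index_mul_card
  rw [← h1, card_GL_two, hF] at h2
  obtain ⟨r, hr⟩ : ∃ r, q = r + 2 := by
    have := Fintype.one_lt_card (α := F)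
    exact ⟨q - 2, by omega⟩
  subst hr
  have e1 : (r + 2) ^ 2 - 1 = (r + 3) * (r + 1) := by
    have : (r + 2) ^ 2 = (r + 3) * (r + 1) + 1 := by ring
    omega
  have e2 : (r + 2) ^ 2 - (r + 2) = (r + 1) * (r + 2) := by
    have : (r + 2) ^ 2 = (r + 1) * (r + 2) + (r + 2) := by ring
    omega
  have e3 : r + 2 - 1 = r + 1 := by omega
  rw [e1, e2] at h2
  rw [e3]
  have hpos : 0 < r + 2 + 1 := by omega
  apply Nat.eq_of_mul_eq_mul_left hpos
  rw [h2]; ring

end Cfsg.Agent.S0272
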