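import Mathlib
import Cfsg.Statements.S0273
import Cfsg.Agent.Lib.Helper07.GL2Sylow

set_option autoImplicit false
open Cfsg

namespace Cfsg.Agent.S0273

open Cfsg.Agent.Lib.Helper07 Matrix

section aux
variable {F : Type*} [Field F]

lemma comm_upT_iff {M : Matrix (Fin 2) (Fin 2) F} {b : F} (hb : b ≠ 0) :
    M * upT b = upT b * M ↔ M 1 0 = 0 ∧ M 0 0 = M 1 1 := by
  constructor
  · intro h
    have h10 := upT_conj_imp h hb
    refine ⟨h10, ?_⟩
    have := congrFun (congrFun h 0) 1
    simp [upT, Matrix.mul_apply, Fin.sum_univ_two] at this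
    have h2 : (M 0 0 - M 1 1) * b = 0 := by linear_combination this
    rcases mul_eq_zero.mp h2 with h3 | h3
    · exact sub_eq_zero.mp h3
    · exact absurd h3 hb
  · rintro ⟨h10, h00⟩
    ext i j; fin_cases i <;> fin_cases j <;>
      simp [upT, Matrix.mul_apply, Fin.sum_univ_two, h10, h00]
    ring

lemma mem_cent_iff {g : GL (Fin 2) F} {b : F} (hb : b ≠ 0) :
    g ∈ Subgroup.centralizer ({upGL b} : Set (GL (Fin 2) F)) ↔
      g.val 1 0 = 0 ∧ g.val 0 0 = g.val 1 1 := by
  rw [Subgroup.mem_centralizer_singleton_iff, ← comm_upT_iff hb]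
  constructor
  · intro h
    have := congrArg Units.val h
    simpa only [Units.val_mul, upGL_val] using this
  · intro h
    apply Units.ext
    simpa only [Units.val_mul, upGL_val] using h

/-- The centraliser of a nontrivial upper unitriangular element. -/
noncomputable def centEquiv {b : F} (hb : b ≠ 0) :
    (Subgroup.centralizer ({upGL b} : Set (GL (Fin 2) F))) ≃ Fˣ × F where
  toFun h := (Units.mk0 (h.1.val 0 0)
    (diag_ne_zero_of_lower_zero ((mem_cent_iff hb).mp h.2).1).1, h.1.val 0 1)
  invFun t := ⟨GeneralLinearGroup.mkOfDetNeZero !![(t.1 : F), t.2; 0, (t.1 : F)] (by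
    simp [det_fin_two]), by
    rw [mem_cent_iff hb]; simp⟩
  left_inv h := by
    apply Subtype.ext
    apply Units.ext
    have h2 := (mem_cent_iff hb).mp h.2
    ext i j
    fin_cases i <;> fin_cases j <;> simp
    · exact h2.1.symm
    · exact h2.2
  right_inv t := by
    obtain ⟨x, y⟩ := t
    ext <;> simp

lemma card_cent [Fintype F] {b : F} (hb : b ≠ 0) :
    Nat.card (Subgroup.centralizer ({upGL b} : Set (GL (Fin 2) F))) =
      (Fintype.card F - 1) * Fintype.card F := by
  classical
  rw [Nat.card_congr (centEquiv hb), Nat.card_prod, Nat.card_eq_fintype_card,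
    Fintype.card_units, Nat.card_eq_fintype_card]

lemma card_cent_conj {G : Type*} [Group G] (c u : G) :
    Nat.card (Subgroup.centralizer ({c * u * c⁻¹} : Set G)) =
      Nat.card (Subgroup.centralizer ({u} : Set G)) := by
  refine Nat.card_congr (Equiv.subtypeEquiv (MulAut.conj c⁻¹).toEquiv ?_)
  intro g
  simp only [MulEquiv.toEquiv_eq_coe, EquivLike.coe_coe, MulAut.conj_apply, inv_inv]
  rw [Subgroup.mem_centralizer_singleton_iff, Subgroup.mem_centralizer_singleton_iff]
  constructor
  · intro h
    have : c⁻¹ * g * c * u = c⁻¹ * (g * (c * u * c⁻¹)) * c := by group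
    rw [this, h]; group
  · intro h
    have : g * (c * u * c⁻¹) = c * (c⁻¹ * g * c * u) * c⁻¹ := by group
    rw [this, h]; group

end aux

/-- Over a finite field of characteristic p with q elements, a non-identity element of p-power order in GL_2 has centraliser of order q(q-1). -/
theorem result {F : Type*} [Field F] [Fintype F] {q : ℕ} (hF : Fintype.card F = q) (p : ℕ) [Fact p.Prime] [CharP F p] (P : Sylow p (Matrix.GeneralLinearGroup (Fin 2) F)) (a : Matrix.GeneralLinearGroup (Fin 2) F) (ha : a ∈ P) (ha1 : a ≠ 1) : Nat.card (Subgroup.centralizer ({a} : Set (Matrix.GeneralLinearGroup (Fin 2) F))) = q * (q - 1) := by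
  obtain ⟨c, rfl⟩ := MulAction.exists_smul_eq (GL (Fin 2) F) (sylUGL p) P
  have hxc : a ∈ ((c • sylUGL p : Sylow p (GL (Fin 2) F)) : Subgroup (GL (Fin 2) F)) := ha
  rw [Sylow.coe_subgroup_smul, Subgroup.mem_pointwise_smul_iff_inv_smul_mem, sylUGL_coe] at hxc
  simp only [MulAut.smul_def, MulAut.inv_apply, MulAut.conj_symm_apply] at hxc
  obtain ⟨b, hb⟩ := mem_UGL.mp hxc
  have hb0 : b ≠ 0 := by
    rintro rfl
    apply ha1
    have h1 : upGL (0 : F) = 1 := Units.ext upT_zero
    rw [h1] at hb
    have : a = c * (c⁻¹ * a * c) * c⁻¹ := by group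
    rw [this, ← hb]; group
  have ha' : a = c * upGL b * c⁻¹ := by rw [hb]; group
  rw [ha', card_cent_conj, card_cent hb0, hF, mul_comm]

end Cfsg.Agent.S0273
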