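import Cfsg.Statements.S0274
import Cfsg.Agent.Lib.Helper16.SL2Dickson9

set_option autoImplicit false
open Cfsg

namespace Cfsg.Agent.S0274

/-- Dickson's Theorem for SL_2: if p is odd and H is a subgroup of SL_2(q), q a power of p, with more than one Sylow p-subgroup, then H contains a copy of SL_2(p). -/
theorem result {F : Type*} [Field F] [Fintype F] (p : ℕ) [Fact p.Prime] [CharP F p] (hp : p ≠ 2) (H : Subgroup (Matrix.SpecialLinearGroup (Fin 2) F)) (hH : 1 < Nat.card (Sylow p H)) : ∃ K : Subgroup (Matrix.SpecialLinearGroup (Fin 2) F), K ≤ H ∧ Nonempty (K ≃* Matrix.SpecialLinearGroup (Fin 2) (ZMod p)) := by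
  classical
  have hnt : Nontrivial (Sylow p H) := Finite.one_lt_card_iff_nontrivial.1 hH
  obtain ⟨P, Q, hPQ⟩ := exists_pair_ne (Sylow p H)
  have key : ∃ x y : H, (∃ k : ℕ, x ^ p ^ k = 1) ∧ (∃ k : ℕ, y ^ p ^ k = 1) ∧ x * y ≠ y * x := by
    by_contra hcon
    push Not at hcon
    apply hPQ
    have hQP : (Q : Subgroup H) ≤ Subgroup.normalizer ((P : Subgroup H) : Set H) := by
      intro y hy
      have hyp : ∃ k : ℕ, y ^ p ^ k = 1 := by
        obtain ⟨k, hk⟩ := Q.2 ⟨y, hy⟩
        exact ⟨k, by simpa using congrArg Subtype.val hk⟩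
      rw [Subgroup.mem_normalizer_iff]
      intro x
      constructor
      · intro hx
        have hxp : ∃ k : ℕ, x ^ p ^ k = 1 := by
          obtain ⟨k, hk⟩ := P.2 ⟨x, hx⟩
          exact ⟨k, by simpa using congrArg Subtype.val hk⟩
        have hc := hcon y x hyp hxp
        rw [hc, mul_inv_cancel_right]
        exact hx
      · intro hx
        have hxp : ∃ k : ℕ, (y * x * y⁻¹) ^ p ^ k = 1 := by
          obtain ⟨k, hk⟩ := P.2 ⟨y * x * y⁻¹, hx⟩
          exact ⟨k, by simpa using congrArg Subtype.val hk⟩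
        have hc := hcon y (y * x * y⁻¹) hyp hxp
        have hxe : x = y * x * y⁻¹ := by
          have h1 : y * (y * x * y⁻¹) = y * x := by
            rw [hc]; group
          exact (mul_left_cancel h1).symm
        rw [hxe]
        exact hx
    have hpg : IsPGroup p ((P : Subgroup H) ⊔ (Q : Subgroup H) : Subgroup H) :=
      IsPGroup.to_sup_of_normal_left' P.2 Q.2 hQP
    have h1 : ((P : Subgroup H) ⊔ (Q : Subgroup H) : Subgroup H) = (P : Subgroup H) :=
      P.is_maximal' hpg le_sup_left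
    have h2 : (Q : Subgroup H) ≤ (P : Subgroup H) := by
      rw [← h1]; exact le_sup_right
    have h3 : (P : Subgroup H) = (Q : Subgroup H) := Q.is_maximal' P.2 h2
    exact Sylow.ext h3
  obtain ⟨x, y, ⟨k, hx⟩, ⟨l, hy⟩, hxy⟩ := key
  have hx' : (x : Matrix.SpecialLinearGroup (Fin 2) F) ^ p ^ k = 1 := by
    have := congrArg Subtype.val hx
    simpa using this
  have hy' : (y : Matrix.SpecialLinearGroup (Fin 2) F) ^ p ^ l = 1 := by
    have := congrArg Subtype.val hy
    simpa using this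
  have hxt := Cfsg.Agent.Lib.Helper16.SL2Q.tr_eq_two_of_pow (p := p) x.1 k hx'
  have hyt := Cfsg.Agent.Lib.Helper16.SL2Q.tr_eq_two_of_pow (p := p) y.1 l hy'
  exact Cfsg.Agent.Lib.Helper16.SL2Q.exists_sl2p_of_noncommuting_unipotents hp H x.1 y.1 x.2 y.2
    hxt hyt (fun h => hxy (Subtype.ext h))

end Cfsg.Agent.S0274
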