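import Cfsg.Statements.S0276
import Cfsg.Agent.Lib.Helper07.PermEmbed

set_option autoImplicit false
open Cfsg

namespace Cfsg.Agent.S0276

open Matrix

theorem sq_central {F : Type*} [Field F] (h2 : ¬ IsSquare (2 : F))
    (g : Matrix.SpecialLinearGroup (Fin 2) F)
    (h4 : g ^ 4 ∈ Subgroup.center (Matrix.SpecialLinearGroup (Fin 2) F)) :
    g ^ 2 ∈ Subgroup.center (Matrix.SpecialLinearGroup (Fin 2) F) := by
  rw [Matrix.SpecialLinearGroup.mem_center_iff] at h4 ⊢
  obtain ⟨r, -, hr⟩ := h4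
  set a := (g : Matrix (Fin 2) (Fin 2) F) 0 0 with ha
  set b := (g : Matrix (Fin 2) (Fin 2) F) 0 1 with hb
  set c := (g : Matrix (Fin 2) (Fin 2) F) 1 0 with hc
  set d := (g : Matrix (Fin 2) (Fin 2) F) 1 1 with hd
  have hA : (g : Matrix (Fin 2) (Fin 2) F) = !![a, b; c, d] := Matrix.eta_fin_two _
  have hdet : a * d - b * c = 1 := by
    have := g.2
    rw [Matrix.det_fin_two] at this
    exact this
  have hB : ((g ^ 2 : Matrix.SpecialLinearGroup (Fin 2) F) : Matrix (Fin 2) (Fin 2) F) =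
      !![a * a + b * c, a * b + b * d; c * a + d * c, c * b + d * d] := by
    rw [pow_two, Matrix.SpecialLinearGroup.coe_mul, hA, Matrix.mul_fin_two]
  have h44 : ((g ^ 4 : Matrix.SpecialLinearGroup (Fin 2) F) : Matrix (Fin 2) (Fin 2) F) =
      ((g ^ 2 : Matrix.SpecialLinearGroup (Fin 2) F) : Matrix (Fin 2) (Fin 2) F) *
      ((g ^ 2 : Matrix.SpecialLinearGroup (Fin 2) F) : Matrix (Fin 2) (Fin 2) F) := by
    rw [← Matrix.SpecialLinearGroup.coe_mul, ← pow_add]
  rw [← hr, hB, Matrix.mul_fin_two] at h44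
  set B00 := a * a + b * c with hB00
  set B01 := a * b + b * d with hB01
  set B10 := c * a + d * c with hB10
  set B11 := c * b + d * d with hB11
  have e01 : B00 * B01 + B01 * B11 = 0 := by
    have := congrFun (congrFun h44 0) 1
    simpa [Matrix.scalar_apply] using this.symm
  have e10 : B10 * B00 + B11 * B10 = 0 := by
    have := congrFun (congrFun h44 1) 0
    simpa [Matrix.scalar_apply] using this.symm
  have e00 : B00 * B00 + B01 * B10 = r := by
    have := congrFun (congrFun h44 0) 0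
    simpa [Matrix.scalar_apply] using this.symm
  have e11 : B10 * B01 + B11 * B11 = r := by
    have := congrFun (congrFun h44 1) 1
    simpa [Matrix.scalar_apply] using this.symm
  have hs : B00 + B11 ≠ 0 := by
    intro hs
    apply h2
    refine ⟨a + d, ?_⟩
    have : B00 + B11 = (a + d) * (a + d) - 2 * (a * d - b * c) := by
      simp only [hB00, hB11]; ring
    rw [hs, hdet] at this
    linear_combination this
  have h01 : B01 = 0 := by
    have : B01 * (B00 + B11) = 0 := by linear_combination e01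
    rcases mul_eq_zero.mp this with h | h
    · exact h
    · exact absurd h hs
  have h10 : B10 = 0 := by
    have : B10 * (B00 + B11) = 0 := by linear_combination e10
    rcases mul_eq_zero.mp this with h | h
    · exact h
    · exact absurd h hs
  have heq : B00 = B11 := by
    have : (B00 - B11) * (B00 + B11) = 0 := by
      rw [h01, h10] at *
      linear_combination e00 - e11
    rcases mul_eq_zero.mp this with h | h
    · exact sub_eq_zero.mp h
    · exact absurd h hs
  have hdetB : B00 * B11 - B01 * B10 = 1 := by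
    simp only [hB00, hB11, hB01, hB10]
    linear_combination (a * d - b * c + 1) * hdet
  refine ⟨B00, ?_, ?_⟩
  · rw [Fintype.card_fin, pow_two]
    rw [h01, ← heq] at hdetB
    linear_combination hdetB
  · rw [hB, h01, h10, ← heq]
    ext i j
    fin_cases i <;> fin_cases j <;> simp [Matrix.scalar_apply]


theorem card_psl_mod (F : Type*) [Field F] [Fintype F] (hq : Fintype.card F % 8 = 3 ∨ Fintype.card F % 8 = 5) :
    ∃ m, Odd m ∧ Nat.card (Matrix.ProjectiveSpecialLinearGroup (Fin 2) F) = 4 * m := by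
  have h := Cfsg.Agent.Lib.Helper07.card_psl_two (F := F)
  set q := Fintype.card F with hqdef
  set N := Nat.card (Matrix.ProjectiveSpecialLinearGroup (Fin 2) F) with hN
  rcases hq with hq | hq
  · obtain ⟨k, hk⟩ : ∃ k, q = 8 * k + 3 := ⟨q / 8, by omega⟩
    refine ⟨(8 * k + 3) * (4 * k + 1) * (2 * k + 1), ?_, ?_⟩
    · apply Odd.mul (Odd.mul ?_ ?_) ?_
      · exact ⟨4 * k + 1, by ring⟩
      · exact ⟨2 * k, by ring⟩
      · exact ⟨k, by ring⟩
    · rw [hk] at h
      have e1 : 8 * k + 3 - 1 = 2 * (4 * k + 1) := by omega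
      have e2 : Nat.gcd 2 (2 * (4 * k + 1)) = 2 := Nat.gcd_eq_left (Dvd.intro _ rfl)
      have e3 : (8 * k + 3) ^ 2 - 1 = 8 * ((4 * k + 1) * (2 * k + 1)) := by
        have : (8 * k + 3) ^ 2 = 8 * ((4 * k + 1) * (2 * k + 1)) + 1 := by ring
        omega
      have e4 : (8 * k + 3) ^ 2 - (8 * k + 3) = (8 * k + 3) * (2 * (4 * k + 1)) := by
        have : (8 * k + 3) ^ 2 = (8 * k + 3) * (2 * (4 * k + 1)) + (8 * k + 3) := by ring
        omega
      rw [e1, e2, e3, e4] at h
      have hpos : 0 < 2 * (2 * (4 * k + 1)) := by omega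
      apply Nat.eq_of_mul_eq_mul_left hpos
      rw [← mul_assoc] at h
      rw [h]; ring
  · obtain ⟨k, hk⟩ : ∃ k, q = 8 * k + 5 := ⟨q / 8, by omega⟩
    refine ⟨(8 * k + 5) * (2 * k + 1) * (4 * k + 3), ?_, ?_⟩
    · apply Odd.mul (Odd.mul ?_ ?_) ?_
      · exact ⟨4 * k + 2, by ring⟩
      · exact ⟨k, by ring⟩
      · exact ⟨2 * k + 1, by ring⟩
    · rw [hk] at h
      have e1 : 8 * k + 5 - 1 = 4 * (2 * k + 1) := by omega
      have e2 : Nat.gcd 2 (4 * (2 * k + 1)) = 2 := Nat.gcd_eq_left ⟨2 * (2 * k + 1), by ring⟩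
      have e3 : (8 * k + 5) ^ 2 - 1 = 8 * ((2 * k + 1) * (4 * k + 3)) := by
        have : (8 * k + 5) ^ 2 = 8 * ((2 * k + 1) * (4 * k + 3)) + 1 := by ring
        omega
      have e4 : (8 * k + 5) ^ 2 - (8 * k + 5) = (8 * k + 5) * (4 * (2 * k + 1)) := by
        have : (8 * k + 5) ^ 2 = (8 * k + 5) * (4 * (2 * k + 1)) + (8 * k + 5) := by ring
        omega
      rw [e1, e2, e3, e4] at h
      have hpos : 0 < 2 * (4 * (2 * k + 1)) := by omega
      apply Nat.eq_of_mul_eq_mul_left hpos
      rw [← mul_assoc] at h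
      rw [h]; ring

theorem psl_sq_eq_one {F : Type*} [Field F] (h2 : ¬ IsSquare (2 : F))
    (x : Matrix.ProjectiveSpecialLinearGroup (Fin 2) F) (h4 : x ^ 4 = 1) : x ^ 2 = 1 := by
  obtain ⟨g, rfl⟩ := QuotientGroup.mk_surjective x
  rw [← QuotientGroup.mk_pow, QuotientGroup.eq_one_iff] at h4 ⊢
  exact sq_central h2 g h4


/-- For q = 3 or 5 mod 8 the Sylow 2-subgroups of PSL_2(q) are elementary abelian of order 4. -/
theorem result {F : Type*} [Field F] [Fintype F] {q : ℕ} (hF : Fintype.card F = q) (hq : q % 8 = 3 ∨ q % 8 = 5) (P : Sylow 2 (Matrix.ProjectiveSpecialLinearGroup (Fin 2) F)) : IsKleinFour (P : Subgroup (Matrix.ProjectiveSpecialLinearGroup (Fin 2) F)) := by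
  classical
  subst hF
  have h2 : ¬ IsSquare (2 : F) := by
    rw [FiniteField.isSquare_two_iff]
    omega
  obtain ⟨m, hm, hcard⟩ := card_psl_mod F hq
  have : Finite (Matrix.ProjectiveSpecialLinearGroup (Fin 2) F) :=
    Nat.finite_of_card_ne_zero (by rw [hcard]; obtain ⟨r, hr⟩ := hm; omega)
  have hfact : Fact (Nat.Prime 2) := ⟨Nat.prime_two⟩
  -- the order of P
  have hP4 : Nat.card (P : Subgroup (Matrix.ProjectiveSpecialLinearGroup (Fin 2) F)) = 4 := by
    have h4dvd : 2 ^ 2 ∣ Nat.card (P : Subgroup (Matrix.ProjectiveSpecialLinearGroup (Fin 2) F)) :=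
      P.pow_dvd_card_of_pow_dvd_card (by rw [hcard]; exact Dvd.intro _ rfl)
    obtain ⟨n, hn⟩ := IsPGroup.iff_card.mp P.isPGroup'
    have hdvd : Nat.card (P : Subgroup (Matrix.ProjectiveSpecialLinearGroup (Fin 2) F)) ∣ 4 * m := by
      rw [← hcard]; exact Subgroup.card_subgroup_dvd_card _
    rw [hn] at hdvd h4dvd ⊢
    have hn2 : 2 ≤ n := (Nat.pow_dvd_pow_iff_le_right (by norm_num)).mp h4dvd
    have hn3 : n ≤ 2 := by
      by_contra hcon
      push Not at hcon
      have h8 : 2 ^ 3 ∣ 4 * m := (pow_dvd_pow 2 hcon).trans hdvd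
      obtain ⟨r, hr⟩ := hm
      omega
    have : n = 2 := le_antisymm hn3 hn2
    rw [this]; norm_num
  refine ⟨hP4, ?_⟩
  have hexp : Monoid.exponent (P : Subgroup (Matrix.ProjectiveSpecialLinearGroup (Fin 2) F)) ∣ 2 := by
    apply Monoid.exponent_dvd_of_forall_pow_eq_one
    intro x
    have hx4 : x ^ 4 = 1 := by
      rw [← hP4]; exact pow_card_eq_one'
    apply Subtype.ext
    have := psl_sq_eq_one h2 (x : Matrix.ProjectiveSpecialLinearGroup (Fin 2) F)
      (by rw [← Subgroup.coe_pow, hx4]; rfl)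
    rw [Subgroup.coe_pow, this]; rfl
  rcases (Nat.dvd_prime Nat.prime_two).mp hexp with h | h
  · exfalso
    have hsub : Subsingleton (P : Subgroup (Matrix.ProjectiveSpecialLinearGroup (Fin 2) F)) :=
      Monoid.exp_eq_one_iff.mp h
    have := Nat.card_unique (α := (P : Subgroup (Matrix.ProjectiveSpecialLinearGroup (Fin 2) F)))
    omega
  · exact h

end Cfsg.Agent.S0276
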