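import Cfsg.Statements.S0281
import Cfsg.Agent.Lib.Helper46.SU2

set_option autoImplicit false
open Cfsg

namespace Cfsg.Agent.S0281

open Cfsg.Agent.Lib.Helper46

/-- A ring isomorphism induces an isomorphism of special linear groups. -/
def slMapEquiv {R S : Type*} [CommRing R] [CommRing S] (σ : R ≃+* S) :
    Matrix.SpecialLinearGroup (Fin 2) R ≃* Matrix.SpecialLinearGroup (Fin 2) S where
  toFun := Matrix.SpecialLinearGroup.map σ.toRingHom
  invFun := Matrix.SpecialLinearGroup.map σ.symm.toRingHom
  left_inv A := by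
    apply Subtype.ext
    ext i j
    simp
  right_inv A := by
    apply Subtype.ext
    ext i j
    simp
  map_mul' A B := map_mul _ A B

/-- SU_2(q) is isomorphic to SL_2(q). -/
theorem result {F K : Type*} [Field F] [Fintype F] [Field K] [Fintype K] {q : ℕ} (hF : Fintype.card F = q ^ 2) (hK : Fintype.card K = q) : Nonempty (Cfsg.SU 2 F q ≃* Matrix.SpecialLinearGroup (Fin 2) K) := by
  obtain ⟨e₁⟩ := nonempty_mulEquiv_sl2_SU2 hF
  let _ : Fintype ↥(fixedField hF) := Fintype.ofFinite _
  have hcard : Fintype.card ↥(fixedField hF) = Fintype.card K := by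
    rw [hK, ← Nat.card_eq_fintype_card]
    exact card_fixedField hF
  let σ : ↥(fixedField hF) ≃+* K := FiniteField.ringEquivOfCardEq hcard
  exact ⟨e₁.symm.trans (slMapEquiv σ)⟩

end Cfsg.Agent.S0281
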