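import Cfsg.Statements.S0283
import Cfsg.Agent.Lib.Helper51.SUGen10

set_option autoImplicit false
open Cfsg

namespace Cfsg.Agent.S0283

open Cfsg.Agent.Lib.Helper51 Cfsg.Agent.Lib.Helper08 Matrix
open scoped Pointwise

/-- PSU_n(q) is simple for n at least 3 and (n, q) other than (3, 2). -/
theorem result {F : Type*} [Field F] [Fintype F] {q : ℕ} (hF : Fintype.card F = q ^ 2) (n : ℕ) (hn : 3 ≤ n) (h : ¬ (n = 3 ∧ q = 2)) : IsSimpleGroup (Cfsg.PSU n F q) := by
  have hperf : commutator ↥(Cfsg.SU n F q) = ⊤ := SU_perfect hF hn h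
  have : MulAction.IsPreprimitive ↥(Cfsg.SU n F q) ↥(isoPts n F q) := isoPts_preprimitive hF hn
  have hZ : Subgroup.center ↥(Cfsg.SU n F q) ≠ ⊤ := by
    intro hZ
    have h1 := (commutator_eq_bot_iff_center_eq_top _).mpr hZ
    rw [hperf] at h1
    obtain ⟨A, hA⟩ := exists_SU_ne_one (F := F) (q := q) hF (show 2 ≤ n by omega)
    have h2 : A ∈ (⊤ : Subgroup ↥(Cfsg.SU n F q)) := trivial
    rw [h1, Subgroup.mem_bot] at h2
    exact hA h2
  have : Nontrivial (Cfsg.PSU n F q) := by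
    obtain ⟨g, hg⟩ : ∃ g : ↥(Cfsg.SU n F q), g ∉ Subgroup.center ↥(Cfsg.SU n F q) := by
      by_contra hcon
      push Not at hcon
      exact hZ (eq_top_iff.mpr fun g _ => hcon g)
    refine ⟨⟨(g : Cfsg.PSU n F q), 1, ?_⟩⟩
    intro h1
    exact hg ((QuotientGroup.eq_one_iff g).mp h1)
  refine ⟨fun K hK => ?_⟩
  set N : Subgroup ↥(Cfsg.SU n F q) :=
    K.comap (QuotientGroup.mk' (Subgroup.center ↥(Cfsg.SU n F q))) with hN
  have : N.Normal := hK.comap _
  by_cases hfp : MulAction.fixedPoints N ↥(isoPts n F q) = Set.univ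
  · left
    rw [eq_bot_iff]
    intro x hx
    obtain ⟨g, rfl⟩ := QuotientGroup.mk_surjective x
    have hgN : g ∈ N := hx
    have hgZ : g ∈ Subgroup.center ↥(Cfsg.SU n F q) := by
      apply mem_center_of_fixes hF h g
      intro p
      have hp : p ∈ MulAction.fixedPoints N ↥(isoPts n F q) := by
        rw [hfp]; trivial
      exact hp ⟨g, hgN⟩
    rw [Subgroup.mem_bot]
    exact (QuotientGroup.eq_one_iff g).mpr hgZ
  · right
    have hle := (iwaSU (F := F) (n := n) hF h).commutator_le N hfp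
    rw [hperf, top_le_iff] at hle
    rw [eq_top_iff]
    intro x _
    obtain ⟨g, rfl⟩ := QuotientGroup.mk_surjective x
    have hgN : g ∈ N := by rw [hle]; trivial
    exact hgN

end Cfsg.Agent.S0283
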