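import Cfsg.Statements.S0298
import Cfsg.Agent.Lib.Helper08.Omega3
import Cfsg.Agent.Lib.Helper50.StdForms

set_option autoImplicit false
open Cfsg

namespace Cfsg.Agent.S0298

open Cfsg.Agent.Lib.Helper08

/-- PΩ_3(q) is isomorphic to PSL_2(q) for q odd. -/
theorem result {F : Type*} [Field F] [Fintype F] (hodd : Odd (Fintype.card F)) : Nonempty (Cfsg.POmega F (Cfsg.quadFormOdd 1 F) ≃* Matrix.ProjectiveSpecialLinearGroup (Fin 2) F) := by
  classical
  have h2 : (2 : F) ≠ 0 := Cfsg.Agent.Lib.Helper50.two_ne_zero_of_odd_card rfl hodd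
  obtain ⟨Q, hQdef⟩ : ∃ Q : QuadraticForm F (I3 → F), Q = (qdataOdd 1 h2).qf := ⟨_, rfl⟩
  have hcoe : ⇑Q = Cfsg.quadFormOdd 1 F := by rw [hQdef]; rfl
  have hQ : (QuadraticMap.polarBilin Q).Nondegenerate := by
    rw [hQdef]; exact (qdataOdd 1 h2).qf_nondeg
  -- the image lies in Ω
  have hsq : ∀ g : ↥(Cfsg.isometryGroup F (Cfsg.quadFormOdd 1 F)),
      g * g ∈ Cfsg.Omega F (Cfsg.quadFormOdd 1 F) := by
    rw [← hcoe]; exact sq_mem_Omega h2 Q hQ
  have hle : (adjO (F := F)).range ≤ Cfsg.Omega F (Cfsg.quadFormOdd 1 F) := by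
    have htop : (Cfsg.Omega F (Cfsg.quadFormOdd 1 F)).comap (adjO (F := F)) = ⊤ := by
      apply Cfsg.Agent.Lib.Helper07.eq_top_of_transvection_mem
      intro i j hij c
      have hs : Matrix.SpecialLinearGroup.transvection hij c =
          Matrix.SpecialLinearGroup.transvection hij (c / 2) *
            Matrix.SpecialLinearGroup.transvection hij (c / 2) := by
        apply Subtype.ext
        show Matrix.transvection i j c = Matrix.transvection i j (c / 2) * Matrix.transvection i j (c / 2)
        rw [Matrix.transvection_mul_transvection_same i j hij]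
        congr 1
        field_simp
        ring
      rw [Subgroup.mem_comap, hs, map_mul]
      exact hsq _
    rintro _ ⟨g, rfl⟩
    have : g ∈ (Cfsg.Omega F (Cfsg.quadFormOdd 1 F)).comap (adjO (F := F)) := by
      rw [htop]; trivial
    exact this
  -- orders
  have hGO := card_GOodd (F := F) rfl hodd 1
  have hidx : (Cfsg.Omega F (Cfsg.quadFormOdd 1 F)).index = 4 := by
    rw [← hcoe]
    exact Cfsg.Agent.Lib.Helper50.index_commutator h2 Q hQ (by simp)
  have hSL := Cfsg.Agent.Lib.Helper07.card_SL_two' (F := F)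
  have hker : Nat.card (adjO (F := F)).ker ≤ 2 := by
    have hkc : (adjO (F := F)).ker ≤ Subgroup.center (Matrix.SpecialLinearGroup (Fin 2) F) := by
      intro g hg
      rw [MonoidHom.mem_ker] at hg
      apply mem_center_of_adj_commute h2
      intro x
      rw [hg, one_mul, mul_one]
    calc Nat.card (adjO (F := F)).ker
        ≤ Nat.card (Subgroup.center (Matrix.SpecialLinearGroup (Fin 2) F)) :=
          Subgroup.card_le_of_le hkc
      _ = Nat.gcd 2 (Fintype.card F - 1) := Cfsg.Agent.Lib.Helper07.card_center_sl 2 (by norm_num)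
      _ ≤ 2 := Nat.gcd_le_left _ (by norm_num)
  have hrange : (adjO (F := F)).range = commutator ↥(Cfsg.isometryGroup F (Cfsg.quadFormOdd 1 F)) := by
    apply range_eq_of_card _ _ hle
    have h1 := Subgroup.card_mul_index (Cfsg.Omega F (Cfsg.quadFormOdd 1 F))
    rw [hidx, hGO] at h1
    simp only [one_pow, pow_one, Finset.range_one, Finset.prod_singleton, zero_add, mul_one] at h1
    rw [hSL]
    have h3 : Nat.card ↥(Cfsg.Omega F (Cfsg.quadFormOdd 1 F)) * 2 =
        (Fintype.card F ^ 2 - 1) * Fintype.card F := by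
      have : 2 * Fintype.card F * (Fintype.card F ^ 2 - 1) =
          2 * ((Fintype.card F ^ 2 - 1) * Fintype.card F) := by ring
      rw [this] at h1
      omega
    calc Nat.card ↥(Cfsg.Omega F (Cfsg.quadFormOdd 1 F)) * Nat.card (adjO (F := F)).ker
        ≤ Nat.card ↥(Cfsg.Omega F (Cfsg.quadFormOdd 1 F)) * 2 := Nat.mul_le_mul_left _ hker
      _ = _ := h3
  exact pomega_equiv_of_hom (adjO (F := F)) hrange (fun g h => mem_center_of_adj_commute h2 g h)

end Cfsg.Agent.S0298
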