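import Cfsg.Statements.S0299
import Cfsg.Agent.Lib.Helper08.Omega4
import Cfsg.Agent.Lib.Helper08.GroupAux
import Cfsg.Agent.Lib.Helper43.Dickson

set_option autoImplicit false
open Cfsg

namespace Cfsg.Agent.S0299

open Cfsg.Agent.Lib.Helper08

abbrev SL2 (F : Type*) [Field F] := Matrix.SpecialLinearGroup (Fin 2) F

theorem transvection_sq {F : Type*} [Field F] (h2 : (2 : F) ≠ 0) {i j : Fin 2} (hij : i ≠ j) (c : F) :
    Matrix.SpecialLinearGroup.transvection hij c =
      Matrix.SpecialLinearGroup.transvection hij (c / 2) *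
        Matrix.SpecialLinearGroup.transvection hij (c / 2) := by
  apply Subtype.ext
  show Matrix.transvection i j c = Matrix.transvection i j (c / 2) * Matrix.transvection i j (c / 2)
  rw [Matrix.transvection_mul_transvection_same i j hij]
  congr 1
  field_simp
  ring

theorem sl2_perfect {F : Type*} [Field F] [Fintype F] (h2 : (2 : F) = 0) (hF : 3 ≤ Fintype.card F) :
    commutator (SL2 F) = ⊤ := by
  classical
  obtain ⟨a, ha⟩ : ∃ a : F, a ∉ ({0, 1} : Finset F) := by
    by_contra hcon
    push Not at hcon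
    have : Finset.univ ⊆ ({0, 1} : Finset F) := fun x _ => hcon x
    have h1 := Finset.card_le_card this
    rw [Finset.card_univ] at h1
    have h3 : ({0, 1} : Finset F).card ≤ 2 := Finset.card_le_two
    omega
  simp only [Finset.mem_insert, Finset.mem_singleton, not_or] at ha
  apply Matrix.SL2.commutator_eq_top ha.1
  intro hsq
  have h3 : (a - 1) * (a - 1) = 0 := by
    have : (a - 1) * (a - 1) = a ^ 2 - 1 - 2 * (a - 1) := by ring
    rw [this, h2, hsq]; ring
  have := mul_self_eq_zero.mp h3
  exact ha.2 (sub_eq_zero.mp this)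

/-- PΩ^+_4(q) is isomorphic to PSL_2(q) x PSL_2(q) for q at least 3. -/
theorem result {F : Type*} [Field F] [Fintype F] (hF : 3 ≤ Fintype.card F) : Nonempty (Cfsg.POmega F (Cfsg.quadFormPlus 2 F) ≃* Matrix.ProjectiveSpecialLinearGroup (Fin 2) F × Matrix.ProjectiveSpecialLinearGroup (Fin 2) F) := by
  classical
  obtain ⟨Q, hQdef⟩ : ∃ Q : QuadraticForm F (I4 → F), Q = (qdataPlus (F := F) 2).qf := ⟨_, rfl⟩
  have hcoe : ⇑Q = Cfsg.quadFormPlus 2 F := by rw [hQdef]; rfl
  have hQ : (QuadraticMap.polarBilin Q).Nondegenerate := by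
    rw [hQdef]; exact (qdataPlus (F := F) 2).qf_nondeg
  have hGO := card_GOplus (F := F) rfl 2 (by norm_num)
  have hSL := Cfsg.Agent.Lib.Helper07.card_SL_two' (F := F)
  -- the kernel embeds in the centre of SL₂
  have hker : Nat.card (tenO (F := F)).ker ≤ Nat.gcd 2 (Fintype.card F - 1) := by
    rw [← Cfsg.Agent.Lib.Helper07.card_center_sl 2 (by norm_num)]
    have hk : ∀ x : (tenO (F := F)).ker, tenO (F := F) (x.1.1, x.1.2) = 1 := fun x => x.2
    apply Nat.card_le_card_of_injective
      (fun x : (tenO (F := F)).ker => (⟨x.1.1, (tenO_ker _ _ (hk x)).1⟩ :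
        Subgroup.center (Matrix.SpecialLinearGroup (Fin 2) F)))
    intro x y hxy
    have h1 : x.1.1 = y.1.1 := congrArg Subtype.val hxy
    have h2 : x.1.2 = y.1.2 := by
      rw [(tenO_ker _ _ (hk x)).2, (tenO_ker _ _ (hk y)).2, h1]
    exact Subtype.ext (Prod.ext h1 h2)
  set X := (Fintype.card F ^ 2 - 1) * Fintype.card F with hX
  have hGO' : Nat.card ↥(Cfsg.isometryGroup F (Cfsg.quadFormPlus 2 F)) = 2 * (X * X) := by
    rw [hGO, hX]
    simp only [Nat.add_one_sub_one, mul_one, Finset.range_one, Finset.prod_singleton, zero_add]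
    ring
  have hSS : Nat.card (Matrix.SpecialLinearGroup (Fin 2) F × Matrix.SpecialLinearGroup (Fin 2) F) =
      X * X := by
    rw [Nat.card_prod, hSL]
  have hrange : (tenO (F := F)).range =
      commutator ↥(Cfsg.isometryGroup F (Cfsg.quadFormPlus 2 F)) := by
    by_cases h2 : (2 : F) = 0
    · -- characteristic two
      have hc : CharP F 2 := CharTwo.of_one_ne_zero_of_two_eq_zero one_ne_zero h2
      have hle : (tenO (F := F)).range ≤
          commutator ↥(Cfsg.isometryGroup F (Cfsg.quadFormPlus 2 F)) :=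
        range_le_commutator_of_perfect _
          (commutator_prod_eq_top (sl2_perfect h2 hF) (sl2_perfect h2 hF))
      have hne : Nonempty I4 := ⟨Sum.inl 0⟩
      have hidx : (Cfsg.Omega F (Cfsg.quadFormPlus 2 F)).index = 2 := by
        rw [← hcoe]
        exact Cfsg.Agent.Lib.Helper43.index_Omega_char_two Q hQ (Or.inl (by omega))
      have heven : Fintype.card F % 2 = 0 :=
        FiniteField.even_card_iff_char_two.mp (ringChar.eq F 2)
      have hg : Nat.gcd 2 (Fintype.card F - 1) = 1 := by
        rw [Nat.gcd_rec]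
        have : (Fintype.card F - 1) % 2 = 1 := by omega
        rw [this]; rfl
      apply range_eq_of_card _ _ hle
      have h1 := Subgroup.card_mul_index (Cfsg.Omega F (Cfsg.quadFormPlus 2 F))
      rw [hidx, hGO'] at h1
      rw [hSS]
      rw [hg] at hker
      have h3 : Nat.card ↥(Cfsg.Omega F (Cfsg.quadFormPlus 2 F)) = X * X := by omega
      show Nat.card ↥(Cfsg.Omega F (Cfsg.quadFormPlus 2 F)) * _ ≤ _
      rw [h3]
      calc X * X * Nat.card (tenO (F := F)).ker ≤ X * X * 1 := Nat.mul_le_mul_left _ hker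
        _ = X * X := mul_one _
    · -- odd characteristic
      have hsq : ∀ g : ↥(Cfsg.isometryGroup F (Cfsg.quadFormPlus 2 F)),
          g * g ∈ Cfsg.Omega F (Cfsg.quadFormPlus 2 F) := by
        rw [← hcoe]; exact sq_mem_Omega h2 Q hQ
      have hle : (tenO (F := F)).range ≤ Cfsg.Omega F (Cfsg.quadFormPlus 2 F) := by
        have hl : ((Cfsg.Omega F (Cfsg.quadFormPlus 2 F)).comap (tenO (F := F))).comap
            (MonoidHom.inl (SL2 F) (SL2 F)) = ⊤ := by
          apply Cfsg.Agent.Lib.Helper07.eq_top_of_transvection_mem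
          intro i j hij c
          rw [Subgroup.mem_comap, Subgroup.mem_comap, transvection_sq h2 hij c, map_mul, map_mul]
          exact hsq _
        have hr : ((Cfsg.Omega F (Cfsg.quadFormPlus 2 F)).comap (tenO (F := F))).comap
            (MonoidHom.inr (SL2 F) (SL2 F)) = ⊤ := by
          apply Cfsg.Agent.Lib.Helper07.eq_top_of_transvection_mem
          intro i j hij c
          rw [Subgroup.mem_comap, Subgroup.mem_comap, transvection_sq h2 hij c, map_mul, map_mul]
          exact hsq _
        rintro _ ⟨⟨a, b⟩, rfl⟩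
        have ha : a ∈ ((Cfsg.Omega F (Cfsg.quadFormPlus 2 F)).comap (tenO (F := F))).comap
            (MonoidHom.inl (SL2 F) (SL2 F)) := by rw [hl]; trivial
        have hb : b ∈ ((Cfsg.Omega F (Cfsg.quadFormPlus 2 F)).comap (tenO (F := F))).comap
            (MonoidHom.inr (SL2 F) (SL2 F)) := by rw [hr]; trivial
        rw [Subgroup.mem_comap, Subgroup.mem_comap] at ha hb
        have : ((a, b) : SL2 F × SL2 F) = (MonoidHom.inl (SL2 F) (SL2 F)) a *
            (MonoidHom.inr (SL2 F) (SL2 F)) b := by simp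
        rw [this, map_mul]
        exact Subgroup.mul_mem _ ha hb
      have hidx : (Cfsg.Omega F (Cfsg.quadFormPlus 2 F)).index = 4 := by
        rw [← hcoe]
        exact Cfsg.Agent.Lib.Helper50.index_commutator h2 Q hQ (by simp)
      apply range_eq_of_card _ _ hle
      have h1 := Subgroup.card_mul_index (Cfsg.Omega F (Cfsg.quadFormPlus 2 F))
      rw [hidx, hGO'] at h1
      rw [hSS]
      have hk2 : Nat.card (tenO (F := F)).ker ≤ 2 :=
        hker.trans (Nat.gcd_le_left _ (by norm_num))
      have h3 : Nat.card ↥(Cfsg.Omega F (Cfsg.quadFormPlus 2 F)) * 2 = X * X := by omega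
      calc Nat.card ↥(Cfsg.Omega F (Cfsg.quadFormPlus 2 F)) * Nat.card (tenO (F := F)).ker
          ≤ Nat.card ↥(Cfsg.Omega F (Cfsg.quadFormPlus 2 F)) * 2 := Nat.mul_le_mul_left _ hk2
        _ = X * X := h3
  -- projective kernel
  have hcen : ∀ x : SL2 F × SL2 F,
      (∀ y : SL2 F × SL2 F, tenO x * tenO y = tenO y * tenO x) → x ∈ Subgroup.center (SL2 F × SL2 F) := by
    rintro ⟨g, h⟩ hx
    rw [Subgroup.center_prod, Subgroup.mem_prod]
    constructor
    · rw [Subgroup.mem_center_iff]
      intro g'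
      have h1 := hx (g', 1)
      rw [← map_mul, ← map_mul] at h1
      have h3 : tenO (F := F) ((g * g' * (g' * g)⁻¹, 1) : SL2 F × SL2 F) = 1 := by
        have : ((g * g' * (g' * g)⁻¹, 1) : SL2 F × SL2 F) =
            ((g, h) * (g', 1)) * ((g', 1) * (g, h))⁻¹ := by
          simp
        rw [this, map_mul, map_inv, h1, mul_inv_cancel]
      have h4 := (tenO_ker _ _ h3).2
      have h5 : g * g' * (g' * g)⁻¹ = 1 := h4.symm
      exact (mul_inv_eq_one.mp h5).symm
    · rw [Subgroup.mem_center_iff]
      intro h'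
      have h1 := hx (1, h')
      rw [← map_mul, ← map_mul] at h1
      have h3 : tenO (F := F) ((1, h * h' * (h' * h)⁻¹) : SL2 F × SL2 F) = 1 := by
        have : ((1, h * h' * (h' * h)⁻¹) : SL2 F × SL2 F) =
            ((g, h) * (1, h')) * ((1, h') * (g, h))⁻¹ := by
          simp
        rw [this, map_mul, map_inv, h1, mul_inv_cancel]
      have h4 := (tenO_ker _ _ h3).2
      have h5 : h * h' * (h' * h)⁻¹ = 1 := h4
      exact (mul_inv_eq_one.mp h5).symm
  obtain ⟨e1⟩ := pomega_equiv_of_hom (tenO (F := F)) hrange hcen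
  obtain ⟨e2⟩ := quotient_center_prod (G₁ := SL2 F) (G₂ := SL2 F)
  exact ⟨e1.trans e2⟩

end Cfsg.Agent.S0299
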