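import Cfsg.Statements.S0824
import Mathlib
import Cfsg.Agent.S0288

set_option autoImplicit false
open Cfsg

namespace Cfsg.Agent.S0824

open Matrix

section aux

variable {F : Type*} [Field F] [Fintype F]

/-- index type of the 4-dimensional space -/
abbrev I4 : Type := (Fin 1 ⊕ Fin 1) ⊕ Fin 2

/-- vectors from four coordinates -/
def mk4 (a b c d : F) : I4 → F :=
  Sum.elim (Sum.elim (fun _ => a) (fun _ => b)) ![c, d]

theorem mk4_eta (v : I4 → F) :
    v = mk4 (v (.inl (.inl 0))) (v (.inl (.inr 0))) (v (.inr 0)) (v (.inr 1)) := by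
  funext x
  rcases x with (i | i) | j
  · have : i = 0 := Subsingleton.elim _ _
    subst this; rfl
  · have : i = 0 := Subsingleton.elim _ _
    subst this; rfl
  · fin_cases j <;> rfl

theorem Q_mk4 (a b c d : F) :
    Cfsg.quadFormMinus 1 F 1 1 (mk4 a b c d) = a * b + (c ^ 2 + c * d + d ^ 2) := by
  simp [Cfsg.quadFormMinus, mk4]

theorem mk4_inj {a b c d a' b' c' d' : F} (h : mk4 a b c d = mk4 a' b' c' d') :
    a = a' ∧ b = b' ∧ c = c' ∧ d = d' :=
  ⟨congrFun h (.inl (.inl 0)), congrFun h (.inl (.inr 0)), congrFun h (.inr 0), congrFun h (.inr 1)⟩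

theorem zero_or_one (hF : Fintype.card F = 2) (x : F) : x = 0 ∨ x = 1 := by
  by_contra h
  push Not at h
  have : 2 < Fintype.card F :=
    Fintype.two_lt_card_iff.2 ⟨0, 1, x, zero_ne_one, fun h' => h.1 h'.symm, fun h' => h.2 h'.symm⟩
  omega

theorem one_add_one (hF : Fintype.card F = 2) : (1 : F) + 1 = 0 := by
  rcases zero_or_one hF ((1 : F) + 1) with h | h
  · exact h
  · exfalso
    have : (1 : F) = 0 := by linear_combination h
    exact one_ne_zero this

/-- the five singular vectors -/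
def sv (F : Type*) [Field F] : Fin 5 → I4 → F :=
  ![mk4 1 0 0 0, mk4 0 1 0 0, mk4 1 1 1 0, mk4 1 1 0 1, mk4 1 1 1 1]

/-- the set of nonzero singular vectors -/
abbrev SV (F : Type*) [Field F] : Type _ :=
  {v : I4 → F // v ≠ 0 ∧ Cfsg.quadFormMinus 1 F 1 1 v = 0}

theorem mk4_zero : mk4 (0 : F) 0 0 0 = 0 := by
  funext x
  rcases x with (i | i) | j
  · rfl
  · rfl
  · fin_cases j <;> rfl

theorem sv_mem (hF : Fintype.card F = 2) (i : Fin 5) :
    sv F i ≠ 0 ∧ Cfsg.quadFormMinus 1 F 1 1 (sv F i) = 0 := by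
  have h2 := one_add_one hF
  constructor
  · intro h
    rw [← mk4_zero] at h
    fin_cases i <;> simp [sv] at h <;> have := mk4_inj h <;> simp at this
  · fin_cases i <;> simp [sv, Q_mk4, h2]

theorem sv_injective : Function.Injective (sv F) := by
  intro i j h
  fin_cases i <;> fin_cases j <;> simp [sv] at h ⊢ <;> have := mk4_inj h <;> simp at this

theorem sv_surj (hF : Fintype.card F = 2) (v : I4 → F) (hv0 : v ≠ 0)
    (hv : Cfsg.quadFormMinus 1 F 1 1 v = 0) : ∃ i, sv F i = v := by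
  have h2 := one_add_one hF
  rw [mk4_eta v] at hv hv0 ⊢
  rw [Q_mk4] at hv
  generalize v (.inl (.inl 0)) = a at *
  generalize v (.inl (.inr 0)) = b at *
  generalize v (.inr 0) = c at *
  generalize v (.inr 1) = d at *
  rcases zero_or_one hF a with rfl | rfl <;> rcases zero_or_one hF b with rfl | rfl <;>
    rcases zero_or_one hF c with rfl | rfl <;> rcases zero_or_one hF d with rfl | rfl <;>
    simp [h2] at hv
  · exact absurd mk4_zero hv0
  · exact ⟨1, rfl⟩
  · exact ⟨0, rfl⟩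
  · exact ⟨3, rfl⟩
  · exact ⟨2, rfl⟩
  · exact ⟨4, rfl⟩

end aux

section aux2

variable {F : Type*} [Field F] [Fintype F]

theorem mk4_add (a b c d a' b' c' d' : F) :
    mk4 a b c d + mk4 a' b' c' d' = mk4 (a + a') (b + b') (c + c') (d + d') := by
  funext x
  rcases x with (i | i) | j
  · rfl
  · rfl
  · fin_cases j <;> rfl

theorem mk4_smul (t a b c d : F) :
    t • mk4 a b c d = mk4 (t * a) (t * b) (t * c) (t * d) := by
  funext x
  rcases x with (i | i) | j
  · rfl
  · rfl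
  · fin_cases j <;> rfl

theorem mk4_lin (a b c d : F) :
    mk4 a b c d = a • mk4 1 0 0 0 + b • mk4 0 1 0 0 + c • mk4 0 0 1 0 + d • mk4 0 0 0 1 := by
  simp only [mk4_smul, mk4_add]
  congr 1 <;> ring

theorem fix_all (hF : Fintype.card F = 2) (M : Matrix I4 I4 F)
    (h : ∀ i, M *ᵥ sv F i = sv F i) : M = 1 := by
  have h2 := one_add_one hF
  have h0 : M *ᵥ mk4 1 0 0 0 = mk4 1 0 0 0 := h 0
  have h1 : M *ᵥ mk4 0 1 0 0 = mk4 0 1 0 0 := h 1
  have e2 : mk4 (0 : F) 0 1 0 = mk4 1 1 1 0 + mk4 1 0 0 0 + mk4 0 1 0 0 := by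
    simp only [mk4_add]
    congr 1 <;> simp [h2]
  have e3 : mk4 (0 : F) 0 0 1 = mk4 1 1 0 1 + mk4 1 0 0 0 + mk4 0 1 0 0 := by
    simp only [mk4_add]
    congr 1 <;> simp [h2]
  have h2' : M *ᵥ mk4 0 0 1 0 = mk4 0 0 1 0 := by
    have := h 2
    rw [e2, mulVec_add, mulVec_add, h0, h1]
    congr 2
  have h3' : M *ᵥ mk4 0 0 0 1 = mk4 0 0 0 1 := by
    have := h 3
    rw [e3, mulVec_add, mulVec_add, h0, h1]
    congr 2
  apply Matrix.mulVec_injective
  funext v
  rw [one_mulVec, mk4_eta v, mk4_lin]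
  simp only [mulVec_add, mulVec_smul, h0, h1, h2', h3']

theorem mulVec_ne_zero' (g : GL I4 F) (v : I4 → F) (hv : v ≠ 0) :
    (g : Matrix I4 I4 F) *ᵥ v ≠ 0 := by
  intro h
  apply hv
  have h1 : ((g⁻¹ : GL I4 F) : Matrix I4 I4 F) *ᵥ ((g : Matrix I4 I4 F) *ᵥ v) = 0 := by
    rw [h, mulVec_zero]
  rw [mulVec_mulVec, ← Units.val_mul, inv_mul_cancel, Units.val_one, one_mulVec] at h1
  exact h1

end aux2

/-- O⁻_4(2) ≅ S_5: the isometry group of the form x y + z_1² + z_1 z_2 + z_2² over the field with 2 elements is isomorphic to the symmetric group on 5 letters. -/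
theorem result {F : Type*} [Field F] [Fintype F] (hF : Fintype.card F = 2) : Nonempty (↥(Cfsg.isometryGroup F (Cfsg.quadFormMinus 1 F 1 1)) ≃* Equiv.Perm (Fin 5)) := by
  classical
  set Q := Cfsg.quadFormMinus 1 F 1 1 with hQ
  letI : MulAction ↥(Cfsg.isometryGroup F Q) (SV F) :=
    { smul := fun g v => ⟨((g : GL I4 F) : Matrix I4 I4 F) *ᵥ v.1,
        mulVec_ne_zero' _ _ v.2.1, (g.2 v.1 v.1).trans v.2.2⟩
      one_smul := fun v => Subtype.ext (by
        show ((1 : GL I4 F) : Matrix I4 I4 F) *ᵥ v.1 = v.1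
        rw [Units.val_one, one_mulVec])
      mul_smul := fun g g' v => Subtype.ext (by
        show (((g : GL I4 F) * (g' : GL I4 F) : GL I4 F) : Matrix I4 I4 F) *ᵥ v.1 =
          ((g : GL I4 F) : Matrix I4 I4 F) *ᵥ (((g' : GL I4 F) : Matrix I4 I4 F) *ᵥ v.1)
        rw [Units.val_mul, mulVec_mulVec]) }
  have hsmul : ∀ (g : ↥(Cfsg.isometryGroup F Q)) (v : SV F),
      ((g • v : SV F) : I4 → F) = ((g : GL I4 F) : Matrix I4 I4 F) *ᵥ v.1 := fun g v => rfl
  let e : Fin 5 ≃ SV F := Equiv.ofBijective (fun i => ⟨sv F i, sv_mem hF i⟩)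
    ⟨fun i j h => sv_injective (congrArg Subtype.val h), fun v => by
      obtain ⟨i, hi⟩ := sv_surj hF v.1 v.2.1 v.2.2
      exact ⟨i, Subtype.ext hi⟩⟩
  let φ : ↥(Cfsg.isometryGroup F Q) →* Equiv.Perm (Fin 5) :=
    (Equiv.permCongrHom e.symm).toMonoidHom.comp (MulAction.toPermHom _ (SV F))
  have hinj : Function.Injective φ := by
    rw [injective_iff_map_eq_one]
    intro g hg
    have h1 : MulAction.toPermHom ↥(Cfsg.isometryGroup F Q) (SV F) g = 1 := by
      have : (Equiv.permCongrHom e.symm) (MulAction.toPermHom _ (SV F) g) = 1 := hg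
      exact (MulEquiv.map_eq_one_iff _).1 this
    have h2 : ∀ i, ((g : GL I4 F) : Matrix I4 I4 F) *ᵥ sv F i = sv F i := by
      intro i
      have := congrArg (fun p : Equiv.Perm (SV F) => ((p (e i) : SV F) : I4 → F)) h1
      have h3 : ((e i : SV F) : I4 → F) = sv F i := rfl
      simp only [Equiv.Perm.coe_one, id_eq] at this
      rw [← h3]
      exact this
    apply Subtype.ext
    apply Units.ext
    exact fix_all hF _ h2
  have hab : ∀ z₁ z₂ : F, z₁ ^ 2 + 1 * z₁ * z₂ + 1 * z₂ ^ 2 = 0 → z₁ = 0 ∧ z₂ = 0 := by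
    have h2 := one_add_one hF
    intro z₁ z₂ h
    rcases zero_or_one hF z₁ with rfl | rfl <;> rcases zero_or_one hF z₂ with rfl | rfl <;>
      simp [h2] at h ⊢
  have hcardG : Nat.card ↥(Cfsg.isometryGroup F Q) = 120 := by
    have := Cfsg.Agent.S0288.result hF 2 (by norm_num) 1 1 hab
    rw [hQ]
    rw [show (2 - 1 : ℕ) = 1 from rfl] at this
    rw [this]
    norm_num [Finset.prod_range_succ]
  have hcardP : Nat.card (Equiv.Perm (Fin 5)) = 120 := by
    rw [Nat.card_eq_fintype_card, Fintype.card_perm, Fintype.card_fin]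
    rfl
  have hbij : Function.Bijective φ :=
    hinj.bijective_of_nat_card_le (by rw [hcardG, hcardP])
  exact ⟨MulEquiv.ofBijective φ hbij⟩

end Cfsg.Agent.S0824
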