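import Cfsg.Statements.S0300
import Cfsg.Agent.Lib.Helper08.QuadExtFin
import Cfsg.Agent.Lib.Helper08.POmegaIso
import Cfsg.Agent.Lib.Helper08.GroupAux
import Cfsg.Agent.Lib.Helper08.GroupAux2
import Cfsg.Agent.Lib.Helper07.SL2Sylow
import Cfsg.Agent.Lib.Helper07.SLCard
import Cfsg.Agent.Lib.Helper43.Dickson
import Cfsg.Agent.Lib.Helper50.SpinorIndex
import Cfsg.Agent.S0824

set_option autoImplicit false
open Cfsg

namespace Cfsg.Agent.S0300


open Cfsg.Agent.Lib.Helper08

abbrev SL2 (K : Type*) [Field K] := Matrix.SpecialLinearGroup (Fin 2) K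

theorem exists_sq_ne_one {K : Type*} [Field K] [Fintype K] (h : 4 ≤ Fintype.card K) :
    ∃ c : K, c ≠ 0 ∧ c ^ 2 ≠ 1 := by
  classical
  obtain ⟨c, hc⟩ : ∃ c : K, c ∉ ({0, 1, -1} : Finset K) := by
    by_contra hcon
    push Not at hcon
    have : Finset.univ ⊆ ({0, 1, -1} : Finset K) := fun x _ => hcon x
    have h1 := Finset.card_le_card this
    rw [Finset.card_univ] at h1
    have h3 : ({0, 1, -1} : Finset K).card ≤ 3 := Finset.card_le_three
    omega
  simp only [Finset.mem_insert, Finset.mem_singleton, not_or] at hc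
  refine ⟨c, hc.1, fun hsq => ?_⟩
  have h3 : (c - 1) * (c + 1) = 0 := by linear_combination hsq
  rcases mul_eq_zero.mp h3 with h | h
  · exact hc.2.1 (sub_eq_zero.mp h)
  · exact hc.2.2 (eq_neg_of_add_eq_zero_left h)

theorem commutator_ne_top_of_equiv_perm {G : Type*} [Group G] (e : G ≃* Equiv.Perm (Fin 5)) :
    commutator G ≠ ⊤ := by
  intro htop
  set f : G →* ℤˣ := Equiv.Perm.sign.comp e.toMonoidHom with hf
  have hle : commutator G ≤ f.ker := Abelianization.commutator_subset_ker f
  have hmem : e.symm (Equiv.swap 0 1) ∈ f.ker := hle (by rw [htop]; trivial)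
  rw [MonoidHom.mem_ker, hf] at hmem
  simp at hmem


/-- PΩ^-_4(q) is isomorphic to PSL_2(q^2). -/
theorem result {F K : Type*} [Field F] [Fintype F] [Field K] [Fintype K] {q : ℕ} (hF : Fintype.card F = q) (hK : Fintype.card K = q ^ 2) (a b : F) (hab : ∀ z₁ z₂ : F, z₁ ^ 2 + a * z₁ * z₂ + b * z₂ ^ 2 = 0 → z₁ = 0 ∧ z₂ = 0) : Nonempty (Cfsg.POmega F (Cfsg.quadFormMinus 1 F a b) ≃* Matrix.ProjectiveSpecialLinearGroup (Fin 2) K) := by
  classical
  obtain ⟨E⟩ := nonempty_quadExt hF hK a b hab
  have hq : 2 ≤ q := by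
    have := Fintype.one_lt_card (α := F)
    omega
  have hK4 : 4 ≤ Fintype.card K := by rw [hK]; nlinarith
  obtain ⟨Q, hQdef⟩ : ∃ Q : QuadraticForm F (I4m → F), Q = (qdataMinus (F := F) 1 a b hab).qf :=
    ⟨_, rfl⟩
  have hcoe : ⇑Q = Cfsg.quadFormMinus 1 F a b := by rw [hQdef]; rfl
  have hQ : (QuadraticMap.polarBilin Q).Nondegenerate := by
    rw [hQdef]; exact (qdataMinus (F := F) 1 a b hab).qf_nondeg
  obtain ⟨c, hc0, hc1⟩ := exists_sq_ne_one hK4
  have hperf : commutator (SL2 K) = ⊤ := Matrix.SL2.commutator_eq_top hc0 hc1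
  have hsimple : IsSimpleGroup (SL2 K ⧸ Subgroup.center (SL2 K)) :=
    Matrix.ProjectiveSpecialLinearGroup.rank_two_simple
      (by rw [Nat.card_eq_fintype_card]; exact hK4)
  have hkc : (hermO E).ker ≤ Subgroup.center (SL2 K) :=
    ker_le_center_of_simple hperf hsimple _ (hermO_ne_one E)
  have hle : (hermO E).range ≤ commutator ↥(Cfsg.isometryGroup F (Cfsg.quadFormMinus 1 F a b)) :=
    range_le_commutator_of_perfect _ hperf
  have hGO := card_GOminus hF 2 (by norm_num) a b hab
  have hSL := Cfsg.Agent.Lib.Helper07.card_SL_two' (F := K)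
  have hcen := Cfsg.Agent.Lib.Helper07.card_center_sl (F := K) 2 (by norm_num)
  rw [hK] at hSL hcen
  set X := (q ^ 2 + 1) * (q ^ 2 - 1) * q ^ 2 with hX
  have hq2 : 1 ≤ q ^ 2 := Nat.one_le_pow _ _ (by omega)
  have hGO' : Nat.card ↥(Cfsg.isometryGroup F (Cfsg.quadFormMinus 1 F a b)) = 2 * X := by
    have e1 : (2 : ℕ) - 1 = 1 := rfl
    rw [e1] at hGO
    rw [hGO, hX]
    simp only [Finset.range_one, Finset.prod_singleton, zero_add, mul_one]
    ring
  have hSL' : Nat.card (SL2 K) = X := by
    rw [hSL, hX]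
    congr 1
    obtain ⟨r, hr⟩ : ∃ r, q ^ 2 = r + 1 := ⟨q ^ 2 - 1, by omega⟩
    rw [hr]
    have : (r + 1) ^ 2 = (r + 1 + 1) * r + 1 := by ring
    rw [this]
    simp
  have hker_le : Nat.card (hermO E).ker ≤ Nat.gcd 2 (q ^ 2 - 1) := by
    rw [← hcen]; exact Subgroup.card_le_of_le hkc
  have h1 := Subgroup.card_mul_index (Cfsg.Omega F (Cfsg.quadFormMinus 1 F a b))
  rw [hGO'] at h1
  have hrange : (hermO E).range =
      commutator ↥(Cfsg.isometryGroup F (Cfsg.quadFormMinus 1 F a b)) := by
    apply range_eq_of_card _ _ hle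
    rw [hSL']
    by_cases h2 : (2 : F) = 0
    · have hc : CharP F 2 := CharTwo.of_one_ne_zero_of_two_eq_zero one_ne_zero h2
      have hne : Nonempty I4m := ⟨Sum.inr 0⟩
      have heven : q % 2 = 0 := by
        rw [← hF]
        exact FiniteField.even_card_iff_char_two.mp (ringChar.eq F 2)
      have hg : Nat.gcd 2 (q ^ 2 - 1) = 1 := by
        rw [Nat.gcd_rec]
        have : (q ^ 2 - 1) % 2 = 1 := by
          have : q ^ 2 % 2 = 0 := by
            rw [Nat.pow_mod, heven]
          omega
        rw [this]; rfl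
      rw [hg] at hker_le
      have hidx : 2 ≤ (Cfsg.Omega F (Cfsg.quadFormMinus 1 F a b)).index := by
        by_cases hq2' : q = 2
        · subst hq2'
          have huniv : ∀ x : F, x = 0 ∨ x = 1 := by
            intro x
            by_contra hx
            push Not at hx
            have : ({0, 1, x} : Finset F).card ≤ Fintype.card F := Finset.card_le_univ _
            rw [hF, Finset.card_insert_of_notMem, Finset.card_insert_of_notMem,
              Finset.card_singleton] at this
            · omega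
            · simpa using hx.2.symm
            · simp only [Finset.mem_insert, Finset.mem_singleton, not_or]
              exact ⟨zero_ne_one, hx.1.symm⟩
          have hb : b = 1 := by
            rcases huniv b with h | h
            · have := (hab 0 1 (by rw [h]; ring)).2
              exact absurd this one_ne_zero
            · exact h
          have ha : a = 1 := by
            rcases huniv a with h | h
            · have := (hab 1 1 (by rw [h, hb]; linear_combination h2)).2
              exact absurd this one_ne_zero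
            · exact h
          subst ha hb
          obtain ⟨e⟩ := Cfsg.Agent.S0824.result (F := F) hF
          have hne1 : (Cfsg.Omega F (Cfsg.quadFormMinus 1 F 1 1)).index ≠ 1 := by
            intro h
            exact commutator_ne_top_of_equiv_perm e (Subgroup.index_eq_one.mp h)
          have hne0 : (Cfsg.Omega F (Cfsg.quadFormMinus 1 F 1 1)).index ≠ 0 :=
            Subgroup.index_ne_zero_of_finite
          omega
        · have : (Cfsg.Omega F (Cfsg.quadFormMinus 1 F a b)).index = 2 := by
            rw [← hcoe]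
            exact Cfsg.Agent.Lib.Helper43.index_Omega_char_two Q hQ (Or.inl (by omega))
          omega
      have h3 : Nat.card ↥(Cfsg.Omega F (Cfsg.quadFormMinus 1 F a b)) * 2 ≤ 2 * X := by
        rw [← h1]; exact Nat.mul_le_mul_left _ hidx
      calc Nat.card ↥(Cfsg.Omega F (Cfsg.quadFormMinus 1 F a b)) * Nat.card (hermO E).ker
          ≤ Nat.card ↥(Cfsg.Omega F (Cfsg.quadFormMinus 1 F a b)) * 1 :=
            Nat.mul_le_mul_left _ hker_le
        _ ≤ X := by omega
    · have hidx : (Cfsg.Omega F (Cfsg.quadFormMinus 1 F a b)).index = 4 := by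
        rw [← hcoe]
        exact Cfsg.Agent.Lib.Helper50.index_commutator h2 Q hQ (by simp)
      have hker2 : Nat.card (hermO E).ker ≤ 2 :=
        le_trans hker_le (Nat.le_of_dvd (by norm_num) (Nat.gcd_dvd_left _ _))
      rw [hidx] at h1
      have h3 : Nat.card ↥(Cfsg.Omega F (Cfsg.quadFormMinus 1 F a b)) * 2 = X := by omega
      calc Nat.card ↥(Cfsg.Omega F (Cfsg.quadFormMinus 1 F a b)) * Nat.card (hermO E).ker
          ≤ Nat.card ↥(Cfsg.Omega F (Cfsg.quadFormMinus 1 F a b)) * 2 :=
            Nat.mul_le_mul_left _ hker2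
        _ = X := h3
  exact pomega_equiv_of_hom (hermO E) hrange (hcen_of_perfect hperf _ hkc)

end Cfsg.Agent.S0300
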