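import Cfsg.Statements.S0301
import Cfsg.Agent.Lib.Helper08.Omega5
import Cfsg.Agent.Lib.Helper08.POmegaIso
import Cfsg.Agent.Lib.Helper08.GroupAux
import Cfsg.Agent.Lib.Helper08.GroupAux2
import Cfsg.Agent.Lib.Helper07.SpCardD
import Cfsg.Agent.Lib.Helper07.SpCenter
import Cfsg.Agent.Lib.Helper50.SpinorIndex
import Cfsg.Agent.Lib.Helper50.StdForms
import Cfsg.Agent.S0269
import Cfsg.Agent.S0270

set_option autoImplicit false
open Cfsg

namespace Cfsg.Agent.S0301


open Cfsg.Agent.Lib.Helper08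

abbrev Sp4 (F : Type*) [Field F] := ↥(Matrix.symplecticGroup (Fin 2) F)


/-- PΩ_5(q) is isomorphic to PSp_4(q) for q odd. -/
theorem result {F : Type*} [Field F] [Fintype F] (hodd : Odd (Fintype.card F)) : Nonempty (Cfsg.POmega F (Cfsg.quadFormOdd 2 F) ≃* Cfsg.PSp 2 F) := by
  classical
  have h2 : (2 : F) ≠ 0 := Cfsg.Agent.Lib.Helper50.two_ne_zero_of_odd_card rfl hodd
  have h3 : 3 ≤ Fintype.card F := by
    have hq : 2 ≤ Fintype.card F := Fintype.one_lt_card
    rcases hodd with ⟨k, hk⟩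
    omega
  obtain ⟨Q, hQdef⟩ : ∃ Q : QuadraticForm F (I5 → F), Q = (qdataOdd (F := F) 2 h2).qf := ⟨_, rfl⟩
  have hcoe : ⇑Q = Cfsg.quadFormOdd 2 F := by rw [hQdef]; rfl
  have hQ : (QuadraticMap.polarBilin Q).Nondegenerate := by
    rw [hQdef]; exact (qdataOdd (F := F) 2 h2).qf_nondeg
  have hperf : commutator (Sp4 F) = ⊤ :=
    Cfsg.Agent.S0269.result 2 (Or.inr (Or.inl ⟨rfl, h3⟩))
  have hsimple : IsSimpleGroup (Sp4 F ⧸ Subgroup.center (Sp4 F)) :=
    Cfsg.Agent.S0270.result (F := F) 2 le_rfl (fun _ => h3)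
  have hkc : (spO (F := F)).ker ≤ Subgroup.center (Sp4 F) :=
    ker_le_center_of_simple hperf hsimple _ spO_ne_one
  have hle : (spO (F := F)).range ≤ commutator ↥(Cfsg.isometryGroup F (Cfsg.quadFormOdd 2 F)) :=
    range_le_commutator_of_perfect _ hperf
  have hGO := card_GOodd (F := F) rfl hodd 2
  have hSp := Cfsg.Agent.Lib.Helper07.card_symplecticGroup (F := F) rfl 2
  set X := Fintype.card F ^ 2 ^ 2 * ∏ i ∈ Finset.range 2, (Fintype.card F ^ (2 * (i + 1)) - 1)
    with hX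
  have hGO' : Nat.card ↥(Cfsg.isometryGroup F (Cfsg.quadFormOdd 2 F)) = 2 * X := by
    rw [hGO, hX]; ring
  have hrange : (spO (F := F)).range =
      commutator ↥(Cfsg.isometryGroup F (Cfsg.quadFormOdd 2 F)) := by
    apply range_eq_of_card _ _ hle
    have h1 := Subgroup.card_mul_index (Cfsg.Omega F (Cfsg.quadFormOdd 2 F))
    rw [hGO'] at h1
    rw [hSp]
    have hidx : (Cfsg.Omega F (Cfsg.quadFormOdd 2 F)).index = 4 := by
      rw [← hcoe]
      exact Cfsg.Agent.Lib.Helper50.index_commutator h2 Q hQ (by simp)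
    have hker : Nat.card (spO (F := F)).ker ≤ 2 := by
      calc Nat.card (spO (F := F)).ker ≤ Nat.card (Subgroup.center (Sp4 F)) :=
            Subgroup.card_le_of_le hkc
        _ = Nat.gcd 2 (Fintype.card F - 1) :=
            Cfsg.Agent.Lib.Helper07.card_center_symplectic 2 (by norm_num)
        _ ≤ 2 := Nat.le_of_dvd (by norm_num) (Nat.gcd_dvd_left _ _)
    rw [hidx] at h1
    have h4 : Nat.card ↥(Cfsg.Omega F (Cfsg.quadFormOdd 2 F)) * 2 = X := by omega
    calc Nat.card ↥(Cfsg.Omega F (Cfsg.quadFormOdd 2 F)) * Nat.card (spO (F := F)).ker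
        ≤ Nat.card ↥(Cfsg.Omega F (Cfsg.quadFormOdd 2 F)) * 2 := Nat.mul_le_mul_left _ hker
      _ = X := h4
  exact pomega_equiv_of_hom (spO (F := F)) hrange (hcen_of_perfect hperf _ hkc)

end Cfsg.Agent.S0301
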