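import Cfsg.Statements.S0302
import Cfsg.Agent.Lib.Helper08.Omega6
import Cfsg.Agent.Lib.Helper08.POmegaIso
import Cfsg.Agent.Lib.Helper08.GroupAux
import Cfsg.Agent.Lib.Helper08.GroupAux2
import Cfsg.Agent.Lib.Helper07.PSLSimple
import Cfsg.Agent.Lib.Helper07.SLCard
import Cfsg.Agent.Lib.Helper43.Dickson

set_option autoImplicit false
open Cfsg

namespace Cfsg.Agent.S0302

open Cfsg.Agent.Lib.Helper08

abbrev SL4 (F : Type*) [Field F] := Matrix.SpecialLinearGroup (Fin 4) F

theorem card_SL4 {F : Type*} [Field F] [Fintype F] :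
    Nat.card (SL4 F) = Fintype.card F ^ 6 * (Fintype.card F ^ 3 - 1) *
      ((Fintype.card F ^ 2 - 1) * (Fintype.card F ^ 4 - 1)) := by
  have h := Cfsg.Agent.Lib.Helper07.card_sl_mul (F := F) 4 (by norm_num)
  have hq : 2 ≤ Fintype.card F := Fintype.one_lt_card
  set q := Fintype.card F with hqdef
  rw [Fin.prod_univ_four] at h
  simp only [Fin.val_zero, Fin.val_one, Fin.val_two, pow_zero, pow_one] at h
  have h3 : ((3 : Fin 4) : ℕ) = 3 := rfl
  rw [h3] at h
  have e1 : q ^ 4 - q = q * (q ^ 3 - 1) := by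
    rw [Nat.mul_sub]; ring_nf
  have e2 : q ^ 4 - q ^ 2 = q ^ 2 * (q ^ 2 - 1) := by
    rw [Nat.mul_sub]; ring_nf
  have e3 : q ^ 4 - q ^ 3 = q ^ 3 * (q - 1) := by
    rw [Nat.mul_sub]; ring_nf
  rw [e1, e2, e3] at h
  have hpos : 0 < q - 1 := by omega
  apply Nat.eq_of_mul_eq_mul_left hpos
  rw [h]
  ring

/-- PΩ^+_6(q) is isomorphic to PSL_4(q). -/
theorem result {F : Type*} [Field F] [Fintype F] : Nonempty (Cfsg.POmega F (Cfsg.quadFormPlus 3 F) ≃* Matrix.ProjectiveSpecialLinearGroup (Fin 4) F) := by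
  classical
  obtain ⟨Q, hQdef⟩ : ∃ Q : QuadraticForm F (I6 → F), Q = (qdataPlus (F := F) 3).qf := ⟨_, rfl⟩
  have hcoe : ⇑Q = Cfsg.quadFormPlus 3 F := by rw [hQdef]; rfl
  have hQ : (QuadraticMap.polarBilin Q).Nondegenerate := by
    rw [hQdef]; exact (qdataPlus (F := F) 3).qf_nondeg
  have hperf : commutator (SL4 F) = ⊤ :=
    Cfsg.Agent.Lib.Helper07.commutator_sl_eq_top (by simp)
  have hsimple : IsSimpleGroup (SL4 F ⧸ Subgroup.center (SL4 F)) :=
    Cfsg.Agent.Lib.Helper07.psl_isSimpleGroup (F := F) (ι := Fin 4) (by simp)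
  have hkc : (lamO (F := F)).ker ≤ Subgroup.center (SL4 F) :=
    ker_le_center_of_simple hperf hsimple _ lamO_ne_one
  have hle : (lamO (F := F)).range ≤ commutator ↥(Cfsg.isometryGroup F (Cfsg.quadFormPlus 3 F)) :=
    range_le_commutator_of_perfect _ hperf
  have hGO := card_GOplus (F := F) rfl 3 (by norm_num)
  set X := Fintype.card F ^ 6 * (Fintype.card F ^ 3 - 1) *
      ((Fintype.card F ^ 2 - 1) * (Fintype.card F ^ 4 - 1)) with hX
  have hGO' : Nat.card ↥(Cfsg.isometryGroup F (Cfsg.quadFormPlus 3 F)) = 2 * X := by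
    rw [hGO, hX]
    simp only [Finset.prod_range_succ, Finset.range_zero, Finset.prod_empty, one_mul]
    norm_num
    ring
  have hSL : Nat.card (SL4 F) = X := card_SL4
  have hrange : (lamO (F := F)).range =
      commutator ↥(Cfsg.isometryGroup F (Cfsg.quadFormPlus 3 F)) := by
    apply range_eq_of_card _ _ hle
    have h1 := Subgroup.card_mul_index (Cfsg.Omega F (Cfsg.quadFormPlus 3 F))
    rw [hGO'] at h1
    rw [hSL]
    by_cases h2 : (2 : F) = 0
    · have hc : CharP F 2 := CharTwo.of_one_ne_zero_of_two_eq_zero one_ne_zero h2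
      have hne : Nonempty I6 := ⟨Sum.inl 0⟩
      have hidx : (Cfsg.Omega F (Cfsg.quadFormPlus 3 F)).index = 2 := by
        rw [← hcoe]
        exact Cfsg.Agent.Lib.Helper43.index_Omega_char_two Q hQ (Or.inr (by simp))
      have heven : Fintype.card F % 2 = 0 :=
        FiniteField.even_card_iff_char_two.mp (ringChar.eq F 2)
      have hg : Nat.gcd 4 (Fintype.card F - 1) = 1 := by
        have hq : 2 ≤ Fintype.card F := Fintype.one_lt_card
        rw [Nat.gcd_rec]
        have : (Fintype.card F - 1) % 4 = 1 ∨ (Fintype.card F - 1) % 4 = 3 := by omega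
        rcases this with h | h <;> rw [h] <;> rfl
      have hker : Nat.card (lamO (F := F)).ker ≤ 1 := by
        calc Nat.card (lamO (F := F)).ker ≤ Nat.card (Subgroup.center (SL4 F)) :=
              Subgroup.card_le_of_le hkc
          _ = Nat.gcd 4 (Fintype.card F - 1) :=
              Cfsg.Agent.Lib.Helper07.card_center_sl 4 (by norm_num)
          _ = 1 := hg
      rw [hidx] at h1
      have h3 : Nat.card ↥(Cfsg.Omega F (Cfsg.quadFormPlus 3 F)) = X := by omega
      show Nat.card ↥(Cfsg.Omega F (Cfsg.quadFormPlus 3 F)) * _ ≤ _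
      rw [h3]
      calc X * Nat.card (lamO (F := F)).ker ≤ X * 1 := Nat.mul_le_mul_left _ hker
        _ = X := mul_one _
    · have hidx : (Cfsg.Omega F (Cfsg.quadFormPlus 3 F)).index = 4 := by
        rw [← hcoe]
        exact Cfsg.Agent.Lib.Helper50.index_commutator h2 Q hQ (by simp)
      have hsc : ∀ g : (lamO (F := F)).ker, g.1.1 = 1 ∨ g.1.1 = -1 := by
        intro g
        obtain ⟨a, -, ha⟩ := (Matrix.SpecialLinearGroup.mem_center_iff).mp (hkc g.2)
        have h3 := lamO_scalar g.1 a ha g.2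
        rcases mul_self_eq_one_iff.mp h3 with h4 | h4
        · left; rw [← ha, h4]; simp
        · right
          rw [← ha, h4]
          ext i j
          simp only [Matrix.scalar_apply, Matrix.diagonal_apply, Matrix.neg_apply, Matrix.one_apply]
          split_ifs <;> simp
      have hker : Nat.card (lamO (F := F)).ker ≤ 2 := by
        have : Nat.card (lamO (F := F)).ker ≤ Nat.card Bool := by
          apply Nat.card_le_card_of_injective
            (fun g : (lamO (F := F)).ker => decide (g.1.1 = 1))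
          intro g g' hgg
          simp only [decide_eq_decide] at hgg
          apply Subtype.ext
          apply Subtype.ext
          rcases hsc g with h4 | h4
          · rw [h4, hgg.mp h4]
          · rcases hsc g' with h5 | h5
            · rw [hgg.mpr h5, h5]
            · rw [h4, h5]
        simpa using this
      rw [hidx] at h1
      have h3 : Nat.card ↥(Cfsg.Omega F (Cfsg.quadFormPlus 3 F)) * 2 = X := by omega
      calc Nat.card ↥(Cfsg.Omega F (Cfsg.quadFormPlus 3 F)) * Nat.card (lamO (F := F)).ker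
          ≤ Nat.card ↥(Cfsg.Omega F (Cfsg.quadFormPlus 3 F)) * 2 := Nat.mul_le_mul_left _ hker
        _ = X := h3
  exact pomega_equiv_of_hom (lamO (F := F)) hrange (hcen_of_perfect hperf _ hkc)

end Cfsg.Agent.S0302
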