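import Cfsg.Statements.S0303
import Cfsg.Agent.Lib.Helper08.UnitaryO6
import Cfsg.Agent.Lib.Helper08.POmegaIso
import Cfsg.Agent.Lib.Helper08.GroupAux
import Cfsg.Agent.Lib.Helper08.GroupAux2
import Cfsg.Agent.Lib.Helper08.SUCenter
import Cfsg.Agent.Lib.Helper51.SUGen10
import Cfsg.Agent.Lib.Helper43.Dickson
import Cfsg.Agent.Lib.Helper50.SpinorIndex
import Cfsg.Agent.S0283
import Cfsg.Agent.S0278
import Cfsg.Agent.S0279

set_option autoImplicit false
open Cfsg

namespace Cfsg.Agent.S0303


open Cfsg.Agent.Lib.Helper08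

abbrev SU4 (K : Type*) [Field K] (q : ℕ) := ↥(Cfsg.SU 4 K q)


/-- PΩ^-_6(q) is isomorphic to PSU_4(q). -/
theorem result {F K : Type*} [Field F] [Fintype F] [Field K] [Fintype K] {q : ℕ} (hF : Fintype.card F = q) (hK : Fintype.card K = q ^ 2) (a b : F) (hab : ∀ z₁ z₂ : F, z₁ ^ 2 + a * z₁ * z₂ + b * z₂ ^ 2 = 0 → z₁ = 0 ∧ z₂ = 0) : Nonempty (Cfsg.POmega F (Cfsg.quadFormMinus 2 F a b) ≃* Cfsg.PSU 4 K q) := by
  classical
  have hq : 2 ≤ q := by
    have := Fintype.one_lt_card (α := F)
    omega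
  obtain ⟨Q, hQdef⟩ : ∃ Q : QuadraticForm F (I6m → F), Q = (qdataMinus (F := F) 2 a b hab).qf :=
    ⟨_, rfl⟩
  have hcoe : ⇑Q = Cfsg.quadFormMinus 2 F a b := by rw [hQdef]; rfl
  have hQ : (QuadraticMap.polarBilin Q).Nondegenerate := by
    rw [hQdef]; exact (qdataMinus (F := F) 2 a b hab).qf_nondeg
  obtain ⟨ψ, hne, hscal⟩ := exists_SU4_hom (K := K) hF hK a b hab
  have hperf : commutator (SU4 K q) = ⊤ :=
    Cfsg.Agent.Lib.Helper51.SU_perfect hK (by norm_num) (by omega)
  have hsimple : IsSimpleGroup (SU4 K q ⧸ Subgroup.center (SU4 K q)) :=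
    Cfsg.Agent.S0283.result hK 4 (by norm_num) (by omega)
  have hkc : ψ.ker ≤ Subgroup.center (SU4 K q) := ker_le_center_of_simple hperf hsimple _ hne
  have hle : ψ.range ≤ commutator ↥(Cfsg.isometryGroup F (Cfsg.quadFormMinus 2 F a b)) :=
    range_le_commutator_of_perfect _ hperf
  have hGO := card_GOminus hF 3 (by norm_num) a b hab
  have hSU := Cfsg.Agent.S0278.result hK 4 (by norm_num)
  have hcen := Cfsg.Agent.S0279.result hK 4 (by norm_num)
  have hq2 : 1 ≤ q ^ 2 := Nat.one_le_pow _ _ (by omega)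
  have hq4 : 1 ≤ q ^ 4 := Nat.one_le_pow _ _ (by omega)
  set X := q ^ 6 * (q ^ 3 + 1) * ((q ^ 2 - 1) * (q ^ 4 - 1)) with hX
  have hGO' : Nat.card ↥(Cfsg.isometryGroup F (Cfsg.quadFormMinus 2 F a b)) = 2 * X := by
    have e1 : (3 : ℕ) - 1 = 2 := rfl
    rw [e1] at hGO
    rw [hGO, hX]
    simp only [Finset.prod_range_succ, Finset.range_zero, Finset.prod_empty, one_mul]
    norm_num
    ring
  have hSU' : Nat.card (SU4 K q) = X := by
    have hpos : 0 < q + 1 := by omega
    apply Nat.eq_of_mul_eq_mul_left hpos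
    rw [hSU, hX]
    simp only [Finset.prod_range_succ, Finset.range_zero, Finset.prod_empty, one_mul]
    norm_num
    ring
  have h1 := Subgroup.card_mul_index (Cfsg.Omega F (Cfsg.quadFormMinus 2 F a b))
  rw [hGO'] at h1
  have hrange : ψ.range = commutator ↥(Cfsg.isometryGroup F (Cfsg.quadFormMinus 2 F a b)) := by
    apply range_eq_of_card _ _ hle
    rw [hSU']
    by_cases h2 : (2 : F) = 0
    · have hc : CharP F 2 := CharTwo.of_one_ne_zero_of_two_eq_zero one_ne_zero h2
      have hne6 : Nonempty I6m := ⟨Sum.inr 0⟩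
      have heven : q % 2 = 0 := by
        rw [← hF]
        exact FiniteField.even_card_iff_char_two.mp (ringChar.eq F 2)
      have hg : Nat.gcd 4 (q + 1) = 1 := by
        rw [Nat.gcd_rec]
        have : (q + 1) % 4 = 1 ∨ (q + 1) % 4 = 3 := by omega
        rcases this with h | h <;> rw [h] <;> rfl
      have hker : Nat.card ψ.ker ≤ 1 := by
        calc Nat.card ψ.ker ≤ Nat.card (Subgroup.center (SU4 K q)) := Subgroup.card_le_of_le hkc
          _ = Nat.gcd 4 (q + 1) := hcen
          _ = 1 := hg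
      have hidx : (Cfsg.Omega F (Cfsg.quadFormMinus 2 F a b)).index = 2 := by
        rw [← hcoe]
        exact Cfsg.Agent.Lib.Helper43.index_Omega_char_two Q hQ (Or.inr (by simp))
      rw [hidx] at h1
      have h3 : Nat.card ↥(Cfsg.Omega F (Cfsg.quadFormMinus 2 F a b)) = X := by omega
      show Nat.card ↥(Cfsg.Omega F (Cfsg.quadFormMinus 2 F a b)) * _ ≤ _
      rw [h3]
      calc X * Nat.card ψ.ker ≤ X * 1 := Nat.mul_le_mul_left _ hker
        _ = X := mul_one _
    · have hidx : (Cfsg.Omega F (Cfsg.quadFormMinus 2 F a b)).index = 4 := by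
        rw [← hcoe]
        exact Cfsg.Agent.Lib.Helper50.index_commutator h2 Q hQ (by simp)
      have hsc : ∀ g : ψ.ker, ((g.1 : Matrix.SpecialLinearGroup (Fin 4) K) :
          Matrix (Fin 4) (Fin 4) K) = 1 ∨ ((g.1 : Matrix.SpecialLinearGroup (Fin 4) K) :
          Matrix (Fin 4) (Fin 4) K) = -1 := by
        intro g
        obtain ⟨c, -, -, hc⟩ := center_SU_scalar hK (by norm_num) g.1 (hkc g.2)
        have h3 := hscal g.1 c hc g.2
        rcases mul_self_eq_one_iff.mp h3 with h4 | h4
        · left; rw [hc, h4]; exact Matrix.diagonal_one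
        · right
          rw [hc, h4]
          ext i j
          simp only [Matrix.diagonal_apply, Matrix.neg_apply, Matrix.one_apply]
          split_ifs <;> simp
      have hker : Nat.card ψ.ker ≤ 2 := by
        have : Nat.card ψ.ker ≤ Nat.card Bool := by
          apply Nat.card_le_card_of_injective
            (fun g : ψ.ker => decide (((g.1 : Matrix.SpecialLinearGroup (Fin 4) K) :
              Matrix (Fin 4) (Fin 4) K) = 1))
          intro g g' hgg
          simp only [decide_eq_decide] at hgg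
          apply Subtype.ext
          apply Subtype.ext
          apply Subtype.ext
          rcases hsc g with h4 | h4
          · rw [h4, hgg.mp h4]
          · rcases hsc g' with h5 | h5
            · rw [hgg.mpr h5, h5]
            · rw [h4, h5]
        simpa using this
      rw [hidx] at h1
      have h3 : Nat.card ↥(Cfsg.Omega F (Cfsg.quadFormMinus 2 F a b)) * 2 = X := by omega
      calc Nat.card ↥(Cfsg.Omega F (Cfsg.quadFormMinus 2 F a b)) * Nat.card ψ.ker
          ≤ Nat.card ↥(Cfsg.Omega F (Cfsg.quadFormMinus 2 F a b)) * 2 := Nat.mul_le_mul_left _ hker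
        _ = X := h3
  exact pomega_equiv_of_hom ψ hrange (hcen_of_perfect hperf _ hkc)

end Cfsg.Agent.S0303
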