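import Cfsg.Statements.S0305
import Cfsg.Agent.Lib.Helper66.DihedralIso

set_option autoImplicit false
open Cfsg

namespace Cfsg.Agent.S0305

open Matrix

section helpers

variable {F : Type*} [Field F]

/-- a 2x2 matrix indexed by `Fin 1 ⊕ Fin 1` -/
def mk22 (a b c d : F) : Matrix (Fin 1 ⊕ Fin 1) (Fin 1 ⊕ Fin 1) F :=
  Matrix.of fun i j => Sum.elim (fun _ => Sum.elim (fun _ => a) (fun _ => b) j)
    (fun _ => Sum.elim (fun _ => c) (fun _ => d) j) i

theorem mk22_mul (a b c d a' b' c' d' : F) :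
    mk22 a b c d * mk22 a' b' c' d' =
      mk22 (a * a' + b * c') (a * b' + b * d') (c * a' + d * c') (c * b' + d * d') := by
  ext i j
  rcases i with i | i <;> rcases j with j | j <;>
    simp [mk22, Matrix.mul_apply, Fintype.sum_sum_type]

theorem mk22_one : mk22 (1 : F) 0 0 1 = 1 := by
  ext i j
  rcases i with i | i <;> rcases j with j | j <;>
    simp [mk22, Matrix.one_apply, Subsingleton.elim i j]

omit [Field F] in
theorem eq_mk22 (M : Matrix (Fin 1 ⊕ Fin 1) (Fin 1 ⊕ Fin 1) F) :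
    M = mk22 (M (.inl 0) (.inl 0)) (M (.inl 0) (.inr 0)) (M (.inr 0) (.inl 0)) (M (.inr 0) (.inr 0)) := by
  ext i j
  rcases i with i | i <;> rcases j with j | j <;>
    simp [mk22, Subsingleton.elim i 0, Subsingleton.elim j 0]

omit [Field F] in
theorem mk22_inj {a b c d a' b' c' d' : F} (h : mk22 a b c d = mk22 a' b' c' d') :
    a = a' ∧ b = b' ∧ c = c' ∧ d = d' := by
  refine ⟨?_, ?_, ?_, ?_⟩
  · simpa [mk22] using congrFun (congrFun h (.inl 0)) (.inl 0)
  · simpa [mk22] using congrFun (congrFun h (.inl 0)) (.inr 0)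
  · simpa [mk22] using congrFun (congrFun h (.inr 0)) (.inl 0)
  · simpa [mk22] using congrFun (congrFun h (.inr 0)) (.inr 0)

theorem quad_mk22_mulVec (a b c d : F) (v : Fin 1 ⊕ Fin 1 → F) :
    Cfsg.quadFormPlus 1 F (mk22 a b c d *ᵥ v) =
      (a * v (.inl 0) + b * v (.inr 0)) * (c * v (.inl 0) + d * v (.inr 0)) := by
  simp [Cfsg.quadFormPlus, mk22, Matrix.mulVec, dotProduct, Fintype.sum_sum_type]

theorem quad_apply (v : Fin 1 ⊕ Fin 1 → F) :
    Cfsg.quadFormPlus 1 F v = v (.inl 0) * v (.inr 0) := by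
  simp [Cfsg.quadFormPlus]

theorem mem_iso_iff (g : GL (Fin 1 ⊕ Fin 1) F) :
    g ∈ Cfsg.isometryGroup F (Cfsg.quadFormPlus 1 F) ↔
      ∀ v, Cfsg.quadFormPlus 1 F (g.val *ᵥ v) = Cfsg.quadFormPlus 1 F v := by
  constructor
  · intro h v
    exact h v v
  · intro h u _
    exact h u

theorem mem_iso_mk22 (g : GL (Fin 1 ⊕ Fin 1) F) {a b c d : F} (hg : g.val = mk22 a b c d) :
    g ∈ Cfsg.isometryGroup F (Cfsg.quadFormPlus 1 F) ↔ a * c = 0 ∧ b * d = 0 ∧ a * d + b * c = 1 := by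
  rw [mem_iso_iff, hg]
  constructor
  · intro h
    have h1 := h (Sum.elim (fun _ => 1) (fun _ => 0))
    have h2 := h (Sum.elim (fun _ => 0) (fun _ => 1))
    have h3 := h (Sum.elim (fun _ => 1) (fun _ => 1))
    rw [quad_mk22_mulVec, quad_apply] at h1 h2 h3
    simp only [Sum.elim_inl, Sum.elim_inr, mul_one, mul_zero, add_zero, zero_add] at h1 h2 h3
    refine ⟨h1, h2, ?_⟩
    linear_combination h3 - h1 - h2
  · rintro ⟨h1, h2, h3⟩ v
    rw [quad_mk22_mulVec, quad_apply]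
    linear_combination (v (.inl 0)) ^ 2 * h1 + (v (.inr 0)) ^ 2 * h2 + v (.inl 0) * v (.inr 0) * h3

/-- diagonal element -/
def dGL (a : Fˣ) : GL (Fin 1 ⊕ Fin 1) F :=
  ⟨mk22 a 0 0 (a⁻¹ : Fˣ), mk22 (a⁻¹ : Fˣ) 0 0 a, by simp [mk22_mul, mk22_one], by simp [mk22_mul, mk22_one]⟩

/-- antidiagonal element -/
def aGL (a : Fˣ) : GL (Fin 1 ⊕ Fin 1) F :=
  ⟨mk22 0 a (a⁻¹ : Fˣ) 0, mk22 0 a (a⁻¹ : Fˣ) 0, by simp [mk22_mul, mk22_one], by simp [mk22_mul, mk22_one]⟩

theorem dGL_mem (a : Fˣ) : dGL a ∈ Cfsg.isometryGroup F (Cfsg.quadFormPlus 1 F) :=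
  (mem_iso_mk22 (dGL a) rfl).2 (by simp)

theorem aGL_mem (a : Fˣ) : aGL a ∈ Cfsg.isometryGroup F (Cfsg.quadFormPlus 1 F) :=
  (mem_iso_mk22 (aGL a) rfl).2 (by simp)

theorem dGL_mul (a b : Fˣ) : dGL a * dGL b = dGL (a * b) := by
  apply Units.ext
  simp [dGL, mk22_mul, mul_comm]

theorem dGL_one : dGL (1 : Fˣ) = 1 := by
  apply Units.ext
  simp [dGL, mk22_one]

theorem dGL_mul_aGL (a b : Fˣ) : dGL a * aGL b = aGL (a * b) := by
  apply Units.ext
  simp [dGL, aGL, mk22_mul, mul_comm]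

theorem aGL_mul_aGL (a b : Fˣ) : aGL a * aGL b = dGL (a * b⁻¹) := by
  apply Units.ext
  simp [dGL, aGL, mk22_mul, mul_comm]

theorem dGL_injective : Function.Injective (dGL : Fˣ → GL (Fin 1 ⊕ Fin 1) F) := by
  intro a b h
  have := (mk22_inj (congrArg Units.val h)).1
  exact Units.ext this

theorem aGL_ne_one (a : Fˣ) : aGL a ≠ 1 := by
  intro h
  have h1 := congrArg Units.val h
  rw [Units.val_one, ← mk22_one] at h1
  have := (mk22_inj h1).1
  exact zero_ne_one this

/-- every isometry is diagonal or antidiagonal -/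
theorem classify (g : GL (Fin 1 ⊕ Fin 1) F) (hg : g ∈ Cfsg.isometryGroup F (Cfsg.quadFormPlus 1 F)) :
    (∃ a : Fˣ, g = dGL a) ∨ ∃ a : Fˣ, g = aGL a := by
  have hm := eq_mk22 g.val
  obtain ⟨h1, h2, h3⟩ := (mem_iso_mk22 g hm).1 hg
  set a := g.val (.inl 0) (.inl 0)
  set b := g.val (.inl 0) (.inr 0)
  set c := g.val (.inr 0) (.inl 0)
  set d := g.val (.inr 0) (.inr 0)
  by_cases ha : a = 0
  · right
    rw [ha] at h3
    simp only [zero_mul, zero_add] at h3
    have hb : b ≠ 0 := fun hb => by rw [hb] at h3; simp at h3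
    have hd : d = 0 := by
      rcases mul_eq_zero.1 h2 with h | h
      · exact absurd h hb
      · exact h
    have hc : c ≠ 0 := fun hc => by rw [hc] at h3; simp at h3
    refine ⟨Units.mk0 b hb, Units.ext ?_⟩
    rw [hm, ha, hd]
    simp only [aGL, Units.val_mk0]
    congr 1
    have : ((Units.mk0 b hb)⁻¹ : Fˣ) = Units.mk0 c hc := by
      rw [inv_eq_iff_eq_inv, ← mul_eq_one_iff_eq_inv]
      ext
      simpa using h3
    rw [this]
    rfl
  · left
    have hc : c = 0 := by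
      rcases mul_eq_zero.1 h1 with h | h
      · exact absurd h ha
      · exact h
    rw [hc] at h3
    simp only [mul_zero, add_zero] at h3
    have hd : d ≠ 0 := fun hd => by rw [hd] at h3; simp at h3
    have hb : b = 0 := by
      rcases mul_eq_zero.1 h2 with h | h
      · exact h
      · exact absurd h hd
    refine ⟨Units.mk0 a ha, Units.ext ?_⟩
    rw [hm, hb, hc]
    simp only [dGL, Units.val_mk0]
    congr 1
    have : ((Units.mk0 a ha)⁻¹ : Fˣ) = Units.mk0 d hd := by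
      rw [inv_eq_iff_eq_inv, ← mul_eq_one_iff_eq_inv]
      ext
      simpa using h3
    rw [this]
    rfl

/-- the diagonal torus as a homomorphism into the isometry group -/
def dHom : Fˣ →* Cfsg.isometryGroup F (Cfsg.quadFormPlus 1 F) where
  toFun a := ⟨dGL a, dGL_mem a⟩
  map_one' := Subtype.ext dGL_one
  map_mul' a b := Subtype.ext (dGL_mul a b).symm

theorem dHom_injective : Function.Injective (dHom : Fˣ → Cfsg.isometryGroup F (Cfsg.quadFormPlus 1 F)) := by
  intro a b h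
  exact dGL_injective (congrArg Subtype.val h)

end helpers

/-- GO^+_2(q) is dihedral of order 2(q-1). -/
theorem result {F : Type*} [Field F] [Fintype F] {q : ℕ} (hF : Fintype.card F = q) : Nonempty (Cfsg.isometryGroup F (Cfsg.quadFormPlus 1 F) ≃* DihedralGroup (q - 1)) := by
  classical
  subst hF
  obtain ⟨ζ, hζ⟩ := IsCyclic.exists_generator (α := Fˣ)
  have hordζ : orderOf ζ = Fintype.card F - 1 := by
    rw [orderOf_eq_card_of_forall_mem_zpowers hζ, Nat.card_eq_fintype_card, Fintype.card_units]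
  let x : Cfsg.isometryGroup F (Cfsg.quadFormPlus 1 F) := ⟨aGL 1, aGL_mem 1⟩
  let y : Cfsg.isometryGroup F (Cfsg.quadFormPlus 1 F) := ⟨aGL ζ, aGL_mem ζ⟩
  have hinv : ∀ a : Fˣ, orderOf (⟨aGL a, aGL_mem a⟩ : Cfsg.isometryGroup F (Cfsg.quadFormPlus 1 F)) = 2 := by
    intro a
    apply orderOf_eq_prime
    · apply Subtype.ext
      rw [pow_two]
      show aGL a * aGL a = 1
      rw [aGL_mul_aGL, mul_inv_cancel, dGL_one]
    · intro h
      exact aGL_ne_one a (congrArg Subtype.val h)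
  have hx : orderOf x = 2 := hinv 1
  have hy : orderOf y = 2 := hinv ζ
  have hxy : x * y = dHom ζ⁻¹ := by
    apply Subtype.ext
    show aGL 1 * aGL ζ = dGL ζ⁻¹
    rw [aGL_mul_aGL, one_mul]
  have hord : orderOf (x * y) = Fintype.card F - 1 := by
    rw [hxy, orderOf_injective dHom dHom_injective, orderOf_inv, hordζ]
  have htop : Subgroup.closure ({x, y} : Set (Cfsg.isometryGroup F (Cfsg.quadFormPlus 1 F))) = ⊤ := by
    rw [eq_top_iff]
    intro g _
    have hxm : x ∈ Subgroup.closure ({x, y} : Set (Cfsg.isometryGroup F (Cfsg.quadFormPlus 1 F))) :=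
      Subgroup.subset_closure (by simp)
    have hym : y ∈ Subgroup.closure ({x, y} : Set (Cfsg.isometryGroup F (Cfsg.quadFormPlus 1 F))) :=
      Subgroup.subset_closure (by simp)
    have hdζ : dHom ζ ∈ Subgroup.closure ({x, y} : Set (Cfsg.isometryGroup F (Cfsg.quadFormPlus 1 F))) := by
      have : dHom ζ = (x * y)⁻¹ := by rw [hxy, map_inv, inv_inv]
      rw [this]
      exact Subgroup.inv_mem _ (Subgroup.mul_mem _ hxm hym)
    have hd : ∀ a : Fˣ, dHom a ∈ Subgroup.closure ({x, y} : Set (Cfsg.isometryGroup F (Cfsg.quadFormPlus 1 F))) := by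
      intro a
      obtain ⟨k, rfl⟩ := Subgroup.mem_zpowers_iff.1 (hζ a)
      rw [map_zpow]
      exact Subgroup.zpow_mem _ hdζ k
    rcases classify g.1 g.2 with ⟨a, ha⟩ | ⟨a, ha⟩
    · have : g = dHom a := Subtype.ext ha
      rw [this]; exact hd a
    · have : g = dHom a * x := by
        apply Subtype.ext
        show g.1 = dGL a * aGL 1
        rw [dGL_mul_aGL, mul_one, ha]
      rw [this]
      exact Subgroup.mul_mem _ (hd a) hxm
  obtain ⟨e⟩ := Cfsg.Agent.Lib.Helper66.nonempty_equiv_dihedral_of_closure_eq_top hx hy htop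
  rw [hord] at e
  exact ⟨e⟩

end Cfsg.Agent.S0305
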