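import Cfsg.Statements.S0307


set_option autoImplicit false
open Cfsg

namespace Cfsg.Agent.S0307

/-- kernel of `ZMod N → ZMod (gcd n N)` consists of multiples of `n` -/
theorem exists_mul_of_castHom_eq_zero (n N : ℕ) [NeZero N] (y : ZMod N)
    (h : ZMod.castHom (Nat.gcd_dvd_right n N) (ZMod (Nat.gcd n N)) y = 0) :
    ∃ z : ZMod N, y = (n : ZMod N) * z := by
  have h1 : ((y.val : ℕ) : ZMod (Nat.gcd n N)) = 0 := by
    have : ZMod.castHom (Nat.gcd_dvd_right n N) (ZMod (Nat.gcd n N)) ((y.val : ℕ) : ZMod N) = 0 := by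
      rw [ZMod.natCast_zmod_val]; exact h
    rwa [map_natCast] at this
  rw [ZMod.natCast_eq_zero_iff] at h1
  obtain ⟨k, hk⟩ := h1
  have hbez := Nat.gcd_eq_gcd_ab n N
  have h2 : ((Nat.gcd n N : ℕ) : ZMod N) = (n : ZMod N) * ((Nat.gcdA n N : ℤ) : ZMod N) := by
    have := congrArg (fun t : ℤ => (t : ZMod N)) hbez
    simp only [Int.cast_natCast, Int.cast_add, Int.cast_mul, ZMod.natCast_self, zero_mul,
      add_zero] at this
    exact this
  refine ⟨((Nat.gcdA n N : ℤ) : ZMod N) * (k : ZMod N), ?_⟩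
  rw [← mul_assoc, ← h2, ← Nat.cast_mul, ← hk, ZMod.natCast_zmod_val]

/-- a surjective hom from a finite cyclic group `U` of order `N` onto `ZMod (gcd n N)` whose kernel is
the set of `n`-th powers -/
theorem exists_hom_cyclic {U : Type*} [CommGroup U] [Finite U] (hU : IsCyclic U) (n N : ℕ)
    (hN : Nat.card U = N) :
    ∃ ψ : U →* Multiplicative (ZMod (Nat.gcd n N)), Function.Surjective ψ ∧
      (∀ u : U, ψ (u ^ n) = 1) ∧ ∀ u : U, ψ u = 1 → ∃ v : U, u = v ^ n := by
  subst hN
  have : NeZero (Nat.card U) := ⟨Nat.card_pos.ne'⟩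
  set N := Nat.card U
  let e : U ≃* Multiplicative (ZMod N) := (zmodCyclicMulEquiv hU).symm
  let c : ZMod N →+* ZMod (Nat.gcd n N) := ZMod.castHom (Nat.gcd_dvd_right n N) _
  let cm : Multiplicative (ZMod N) →* Multiplicative (ZMod (Nat.gcd n N)) :=
    AddMonoidHom.toMultiplicative c.toAddMonoidHom
  refine ⟨cm.comp e.toMonoidHom, ?_, ?_, ?_⟩
  · intro x
    obtain ⟨y, hy⟩ := ZMod.castHom_surjective (Nat.gcd_dvd_right n N) (Multiplicative.toAdd x)
    refine ⟨e.symm (Multiplicative.ofAdd y), ?_⟩
    simp only [MonoidHom.coe_comp, Function.comp_apply, MulEquiv.coe_toMonoidHom,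
      MulEquiv.apply_symm_apply]
    exact congrArg Multiplicative.ofAdd hy
  · intro u
    rw [map_pow]
    generalize (cm.comp e.toMonoidHom) u = x
    apply Multiplicative.toAdd.injective
    rw [toAdd_pow, toAdd_one, nsmul_eq_mul]
    have : ((n : ℕ) : ZMod (Nat.gcd n N)) = 0 :=
      (ZMod.natCast_eq_zero_iff _ _).2 (Nat.gcd_dvd_left n N)
    rw [this, zero_mul]
  · intro u hu
    have h1 : c (Multiplicative.toAdd (e u)) = 0 := by
      have := congrArg Multiplicative.toAdd hu
      simpa [cm] using this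
    obtain ⟨z, hz⟩ := exists_mul_of_castHom_eq_zero n N _ h1
    refine ⟨e.symm (Multiplicative.ofAdd z), ?_⟩
    rw [← map_pow, ← ofAdd_nsmul, nsmul_eq_mul, ← hz]
    simp


/-- PSL_n(q) is normal in PGL_n(q) with cyclic quotient of order gcd(n, q-1): the image of the natural map PSL_n → PGL_n is the kernel of a surjective homomorphism onto the cyclic group of that order. -/
theorem result {F : Type*} [Field F] [Fintype F] {q : ℕ} (hF : Fintype.card F = q) (n : ℕ) (hn : 1 ≤ n) : ∃ g : Matrix.ProjGenLinGroup (Fin n) F →* Multiplicative (ZMod (Nat.gcd n (q - 1))), Function.Surjective g ∧ g.ker = (Matrix.ProjectiveSpecialLinearGroup.toPGL : Matrix.ProjectiveSpecialLinearGroup (Fin n) F →* Matrix.ProjGenLinGroup (Fin n) F).range := by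
  classical
  subst hF
  have : NeZero n := ⟨by omega⟩
  have hcard : Nat.card Fˣ = Fintype.card F - 1 := by
    rw [Nat.card_eq_fintype_card, Fintype.card_units]
  obtain ⟨ψ, hsurj, hpow, hker⟩ :=
    exists_hom_cyclic (U := Fˣ) inferInstance n (Fintype.card F - 1) hcard
  let g0 : Matrix.GeneralLinearGroup (Fin n) F →* Multiplicative (ZMod (Nat.gcd n (Fintype.card F - 1))) :=
    ψ.comp Matrix.GeneralLinearGroup.det
  have hg0 : g0.comp (Matrix.GeneralLinearGroup.scalar (Fin n)) = 1 := by
    ext u
    simp only [MonoidHom.coe_comp, Function.comp_apply, MonoidHom.one_apply, g0]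
    rw [Matrix.GeneralLinearGroup.det_scalar, Fintype.card_fin]
    exact congrArg _ (hpow u)
  refine ⟨Matrix.ProjGenLinGroup.lift g0 hg0, ?_, ?_⟩
  · intro x
    obtain ⟨u, hu⟩ := hsurj x
    obtain ⟨A, hA⟩ := Matrix.GeneralLinearGroup.det_surjective (n := Fin n) u
    refine ⟨Matrix.ProjGenLinGroup.mk A, ?_⟩
    rw [Matrix.ProjGenLinGroup.lift_mk]
    simp only [MonoidHom.coe_comp, Function.comp_apply, g0, hA, hu]
  · ext x
    rw [MonoidHom.mem_ker, MonoidHom.mem_range]
    constructor
    · intro hx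
      induction x using Matrix.ProjGenLinGroup.induction_on with
      | mk A =>
        rw [Matrix.ProjGenLinGroup.lift_mk] at hx
        obtain ⟨v, hv⟩ := hker _ hx
        set A' := A * Matrix.GeneralLinearGroup.scalar (Fin n) v⁻¹ with hA'
        have hdet : Matrix.GeneralLinearGroup.det A' = 1 := by
          rw [hA', map_mul, Matrix.GeneralLinearGroup.det_scalar, Fintype.card_fin, hv, inv_pow,
            mul_inv_cancel]
        have hdet' : (A' : Matrix (Fin n) (Fin n) F).det = 1 := by
          have := congrArg Units.val hdet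
          simpa using this
        let S : Matrix.SpecialLinearGroup (Fin n) F := ⟨(A' : Matrix (Fin n) (Fin n) F), hdet'⟩
        refine ⟨QuotientGroup.mk S, ?_⟩
        have h1 : Matrix.ProjectiveSpecialLinearGroup.toPGL (QuotientGroup.mk S) =
            Matrix.ProjGenLinGroup.mk (Matrix.SpecialLinearGroup.toGL S) :=
          Matrix.ProjectiveSpecialLinearGroup.toPGL_mk S
        rw [h1]
        have h2 : Matrix.SpecialLinearGroup.toGL S = A' := Units.ext rfl
        rw [h2, hA', map_mul, Matrix.ProjGenLinGroup.mk_scalar, mul_one]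
    · rintro ⟨y, rfl⟩
      induction y using QuotientGroup.induction_on with
      | H S =>
        have h1 : Matrix.ProjectiveSpecialLinearGroup.toPGL (QuotientGroup.mk S) =
            Matrix.ProjGenLinGroup.mk (Matrix.SpecialLinearGroup.toGL S) :=
          Matrix.ProjectiveSpecialLinearGroup.toPGL_mk S
        rw [h1, Matrix.ProjGenLinGroup.lift_mk]
        simp only [MonoidHom.coe_comp, Function.comp_apply, g0,
          Matrix.SpecialLinearGroup.coeToGL_det, map_one]

end Cfsg.Agent.S0307
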