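import Cfsg.Statements.S0313
import Cfsg.Agent.Lib.Helper08.BNPairParabolic

set_option autoImplicit false
open Cfsg

namespace Cfsg.Agent.S0313

/-- Two standard parabolic subgroups of a group with a (B,N)-pair which are conjugate in `G` coincide. -/
theorem result {G : Type*} [Group G] (P : Cfsg.BNPair G) {J K : Set G}
    (hJ : J ⊆ P.S) (hK : K ⊆ P.S) (g : G)
    (h : (P.parabolic J).map (MulAut.conj g).toMonoidHom = P.parabolic K) :
    P.parabolic J = P.parabolic K := by
  have hg' : g⁻¹ ∈ P.parabolic J := by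
    apply Cfsg.Agent.Lib.Helper08.mem_of_conj_le P (P.parabolic K) (P.parabolic J)
      (Cfsg.Agent.Lib.Helper08.B_le_parabolic P K) (Cfsg.Agent.Lib.Helper08.B_le_parabolic P J)
    intro x hx
    rw [← h] at hx
    obtain ⟨y, hy, rfl⟩ := hx
    have e : g⁻¹ * (MulAut.conj g).toMonoidHom y * g⁻¹⁻¹ = y := by
      simp [MulAut.conj_apply, mul_assoc]
    rw [e]
    exact hy
  have hg : g ∈ P.parabolic J := by
    have := Subgroup.inv_mem _ hg'
    simpa using this
  rw [← h]
  ext x
  constructor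
  · intro hx
    refine ⟨g⁻¹ * x * g, Subgroup.mul_mem _ (Subgroup.mul_mem _ hg' hx) hg, ?_⟩
    simp [MulAut.conj_apply, mul_assoc]
  · rintro ⟨y, hy, rfl⟩
    have e : (MulAut.conj g).toMonoidHom y = g * y * g⁻¹ := by
      simp [MulAut.conj_apply]
    rw [e]
    exact Subgroup.mul_mem _ (Subgroup.mul_mem _ hg hy) hg'

end Cfsg.Agent.S0313
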