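import Cfsg.Statements.S0315
import Cfsg.Agent.Lib.Helper08.BNPairExchange

set_option autoImplicit false
open Cfsg

namespace Cfsg.Agent.S0315

/-- Standard parabolic subgroups intersect as the index sets do: `P_J ⊓ P_K = P_{J ∩ K}`. -/
theorem result {G : Type*} [Group G] (P : Cfsg.BNPair G) {J K : Set G}
    (hJ : J ⊆ P.S) (hK : K ⊆ P.S) : P.parabolic J ⊓ P.parabolic K = P.parabolic (J ∩ K) := by
  have hB : P.B ≤ P.parabolic J ⊓ P.parabolic K :=
    le_inf (Cfsg.Agent.Lib.Helper08.B_le_parabolic P J) (Cfsg.Agent.Lib.Helper08.B_le_parabolic P K)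
  rw [Cfsg.Agent.Lib.Helper08.eq_parabolic_of_B_le P _ hB]
  congr 1
  ext s
  simp only [Set.mem_inter_iff, SetLike.mem_coe, Subgroup.mem_inf]
  constructor
  · rintro ⟨hs, h1, h2⟩
    exact ⟨Cfsg.Agent.Lib.Helper08.mem_of_mem_parabolic P hJ hs h1, Cfsg.Agent.Lib.Helper08.mem_of_mem_parabolic P hK hs h2⟩
  · rintro ⟨h1, h2⟩
    refine ⟨hJ h1, ?_, ?_⟩
    · exact (le_sup_right : Subgroup.closure J ≤ P.B ⊔ Subgroup.closure J) (Subgroup.subset_closure h1)
    · exact (le_sup_right : Subgroup.closure K ≤ P.B ⊔ Subgroup.closure K) (Subgroup.subset_closure h2)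

end Cfsg.Agent.S0315
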