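import Cfsg.Statements.S0316
import Cfsg.Agent.Lib.Helper08.BNPairExchange

set_option autoImplicit false
open Cfsg

namespace Cfsg.Agent.S0316

/-- The map `J ↦ P_J` is a lattice isomorphism from the power set of the set of distinguished generators onto the
subgroups containing `B`. -/
theorem result {G : Type*} [Group G] (P : Cfsg.BNPair G) :
    ∃ e : Set P.S ≃o {M : Subgroup G // P.B ≤ M},
      ∀ J : Set P.S, ((e J : {M : Subgroup G // P.B ≤ M}) : Subgroup G) = P.parabolic (Subtype.val '' J) := by
  have himg : ∀ J : Set P.S, Subtype.val '' J ⊆ P.S := by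
    rintro J _ ⟨s, _, rfl⟩
    exact s.2
  have hleft : ∀ J : Set P.S, {s : P.S | (s : G) ∈ P.parabolic (Subtype.val '' J)} = J := by
    intro J
    ext s
    simp only [Set.mem_ofPred_eq]
    constructor
    · intro h
      have := Cfsg.Agent.Lib.Helper08.mem_of_mem_parabolic P (himg J) s.2 h
      obtain ⟨t, ht, hts⟩ := this
      rw [← Subtype.val_injective hts]
      exact ht
    · intro h
      exact (le_sup_right : Subgroup.closure (Subtype.val '' J) ≤ P.B ⊔ _)
        (Subgroup.subset_closure ⟨s, h, rfl⟩)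
  have hright : ∀ M : {M : Subgroup G // P.B ≤ M},
      P.parabolic (Subtype.val '' {s : P.S | (s : G) ∈ M.1}) = M.1 := by
    intro M
    have e : Subtype.val '' {s : P.S | (s : G) ∈ M.1} = P.S ∩ (M.1 : Set G) := by
      ext x
      constructor
      · rintro ⟨s, hs, rfl⟩
        exact ⟨s.2, hs⟩
      · rintro ⟨h1, h2⟩
        exact ⟨⟨x, h1⟩, h2, rfl⟩
    rw [e]
    exact (Cfsg.Agent.Lib.Helper08.eq_parabolic_of_B_le P M.1 M.2).symm
  let e0 : Set P.S ≃ {M : Subgroup G // P.B ≤ M} :=
    ⟨fun J => ⟨P.parabolic (Subtype.val '' J), Cfsg.Agent.Lib.Helper08.B_le_parabolic P _⟩,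
     fun M => {s : P.S | (s : G) ∈ M.1},
     fun J => hleft J, fun M => Subtype.ext (hright M)⟩
  have hrel : ∀ {J K : Set P.S}, e0 J ≤ e0 K ↔ J ≤ K := by
    intro J K
    constructor
    · intro h
      have h' : P.parabolic (Subtype.val '' J) ≤ P.parabolic (Subtype.val '' K) := h
      have := Cfsg.Agent.Lib.Helper08.subset_of_parabolic_le P (himg J) (himg K) h'
      exact (Set.image_subset_image_iff Subtype.val_injective).1 this
    · intro h
      exact Cfsg.Agent.Lib.Helper08.parabolic_mono P (Set.image_mono h)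
  exact ⟨⟨e0, hrel⟩, fun J => rfl⟩

end Cfsg.Agent.S0316
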