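import Cfsg.Statements.S0321
import Cfsg.Agent.Lib.Helper08.BNPairExchange

set_option autoImplicit false
open Cfsg

namespace Cfsg.Agent.S0321

theorem parabolic_singleton {G : Type*} [Group G] (P : Cfsg.BNPair G) {s : G} (hs : s ∈ P.S) :
    (P.parabolic {s} : Set G) = (P.B : Set G) ∪ DoubleCoset.doubleCoset s (P.B : Set G) P.B := by
  have hJ : ({s} : Set G) ⊆ P.S := Set.singleton_subset_iff.2 hs
  apply Set.Subset.antisymm
  · intro g hg
    obtain ⟨m, hm, hdc⟩ := (Cfsg.Agent.Lib.Helper08.mem_parabolic_iff P hJ g).1 hg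
    obtain ⟨l, hl, hlm⟩ := Cfsg.Agent.Lib.Helper08.exists_word_of_mem_closure P hJ hm
    obtain ⟨l', hsub, hred, heqv⟩ := Cfsg.Agent.Lib.Helper08.exists_reduced_sublist P l fun a ha => hJ (hl a ha)
    have hl' : ∀ a ∈ l', a = s := fun a ha => hl a (hsub.subset ha)
    have h2 : Cfsg.Agent.Lib.Helper08.Eqv P l'.prod m := Cfsg.Agent.Lib.Helper08.Eqv_trans P (Cfsg.Agent.Lib.Helper08.Eqv_symm P heqv) hlm
    have hdc' : Cfsg.Agent.Lib.Helper08.DC P l'.prod g := (Cfsg.Agent.Lib.Helper08.Eqv_dc_iff P h2).2 hdc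
    match l', hl', hred, hdc' with
    | [], _, _, hdc' =>
      left
      simpa [Cfsg.Agent.Lib.Helper08.DC_one_iff] using hdc'
    | [a], hl', _, hdc' =>
      right
      have : a = s := hl' a (by simp)
      subst this
      rw [Cfsg.Agent.Lib.Helper08.mem_dc_iff]
      simpa using hdc'
    | a :: b :: l'', hl', hred, _ =>
      exfalso
      have ha : a = s := hl' a (by simp)
      have hb : b = s := hl' b (by simp)
      rw [ha, hb] at hred
      have hred2 : Cfsg.Agent.Lib.Helper08.Reduced P ([s, s] ++ l'') := hred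
      have h3 := (Cfsg.Agent.Lib.Helper08.Reduced.prefix P hred2).2
      have h4 := Cfsg.Agent.Lib.Helper08.len_eq_zero_of_mem_B P (P.sq_mem s hs)
      simp at h3
      omega
  · intro g hg
    rcases hg with hg | hg
    · exact Cfsg.Agent.Lib.Helper08.B_le_parabolic P _ hg
    · obtain ⟨b1, hb1, b2, hb2, rfl⟩ := (Cfsg.Agent.Lib.Helper08.mem_dc_iff P s g).1 hg
      have hs' : s ∈ P.parabolic {s} :=
        (le_sup_right : Subgroup.closure {s} ≤ P.B ⊔ Subgroup.closure {s})
          (Subgroup.subset_closure rfl)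
      exact Subgroup.mul_mem _ (Subgroup.mul_mem _ (Cfsg.Agent.Lib.Helper08.B_le_parabolic P _ hb1) hs')
        (Cfsg.Agent.Lib.Helper08.B_le_parabolic P _ hb2)


/-- For `n ∈ N` not in `B`, the union `B ∪ B n B` is (the underlying set of) a subgroup exactly when `n` agrees
modulo `B ⊓ N` with one of the distinguished representatives; thus the distinguished involutions are
determined by `B` and `N`. -/
theorem result {G : Type*} [Group G] (P : Cfsg.BNPair G) {n : G}
    (hn : n ∈ P.N) (hnB : n ∉ P.B) :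
    (∃ H : Subgroup G, (H : Set G) = (P.B : Set G) ∪ DoubleCoset.doubleCoset n (P.B : Set G) P.B) ↔ ∃ s ∈ P.S, s⁻¹ * n ∈ P.B := by
  constructor
  · rintro ⟨H, hH⟩
    have hBH : P.B ≤ H := by
      intro b hb
      have : b ∈ (H : Set G) := by rw [hH]; exact Or.inl hb
      exact this
    have hnH : n ∈ H := by
      have : n ∈ (H : Set G) := by
        rw [hH]; exact Or.inr (DoubleCoset.mem_doubleCoset_self _ _ _)
      exact this
    have hpar := Cfsg.Agent.Lib.Helper08.eq_parabolic_of_B_le P H hBH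
    have hne : (P.S ∩ (H : Set G)).Nonempty := by
      by_contra hcon
      rw [Set.not_nonempty_iff_eq_empty] at hcon
      rw [hcon] at hpar
      have : n ∈ P.parabolic ∅ := hpar ▸ hnH
      simp [Cfsg.BNPair.parabolic] at this
      exact hnB this
    obtain ⟨s, hs, hsH⟩ := hne
    refine ⟨s, hs, ?_⟩
    have : s ∈ (H : Set G) := hsH
    rw [hH] at this
    rcases this with h | h
    · exact absurd h (Cfsg.Agent.Lib.Helper08.S_not_mem_B P hs)
    · have h1 := (Cfsg.Agent.Lib.Helper08.mem_dc_iff P n s).1 h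
      exact Cfsg.Agent.Lib.Helper08.Eqv_symm P (Cfsg.Agent.Lib.Helper08.bruhat_unique P hn (P.subset hs) h1)
  · rintro ⟨s, hs, hsn⟩
    refine ⟨P.parabolic {s}, ?_⟩
    rw [parabolic_singleton P hs]
    congr 1
    exact (Cfsg.Agent.Lib.Helper08.dc_eq_iff P s n).2 (Cfsg.Agent.Lib.Helper08.Eqv_toDC P hsn)

end Cfsg.Agent.S0321
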