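import Cfsg.Statements.S0322
-- import your own Cfsg.Agent.* helpers here

set_option autoImplicit false
open Cfsg

namespace Cfsg.Agent.S0322

open DoubleCoset

variable {G : Type*} [Group G]

/-- the subgroup `B ∪ B s B` for a distinguished generator `s`. -/
def rankOneSubgroup (P : Cfsg.BNPair G) (s : G) (hs : s ∈ P.S) : Subgroup G where
  carrier := (P.B : Set G) ∪ doubleCoset s (P.B : Set G) P.B
  one_mem' := Or.inl P.B.one_mem
  inv_mem' := by
    rintro g (hg | hg)
    · exact Or.inl (P.B.inv_mem hg)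
    · right
      obtain ⟨x, hx, y, hy, rfl⟩ := mem_doubleCoset.1 hg
      refine mem_doubleCoset.2 ⟨y⁻¹, P.B.inv_mem hy, (s * s)⁻¹ * x⁻¹,
        P.B.mul_mem (P.B.inv_mem (P.sq_mem s hs)) (P.B.inv_mem hx), ?_⟩
      group
  mul_mem' := by
    rintro g h (hg | hg) (hh | hh)
    · exact Or.inl (P.B.mul_mem hg hh)
    · right
      obtain ⟨x, hx, y, hy, rfl⟩ := mem_doubleCoset.1 hh
      exact mem_doubleCoset.2 ⟨g * x, P.B.mul_mem hg hx, y, hy, by group⟩
    · right
      obtain ⟨x, hx, y, hy, rfl⟩ := mem_doubleCoset.1 hg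
      exact mem_doubleCoset.2 ⟨x, hx, y * h, P.B.mul_mem hy hh, by group⟩
    · obtain ⟨x, hx, y, hy, rfl⟩ := mem_doubleCoset.1 hg
      obtain ⟨x', hx', y', hy', rfl⟩ := mem_doubleCoset.1 hh
      have key := P.mul_mem_union s hs s (P.subset hs) (y * x') (P.B.mul_mem hy hx')
      rcases key with key | key
      · left
        obtain ⟨u, hu, v, hv, huv⟩ := mem_doubleCoset.1 key
        have : x * s * y * (x' * s * y') = x * (s * (y * x') * s) * y' := by group
        rw [this, huv]
        exact P.B.mul_mem (P.B.mul_mem hx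
          (P.B.mul_mem (P.B.mul_mem hu (P.sq_mem s hs)) hv)) hy'
      · right
        obtain ⟨u, hu, v, hv, huv⟩ := mem_doubleCoset.1 key
        have : x * s * y * (x' * s * y') = x * (s * (y * x') * s) * y' := by group
        rw [this, huv]
        exact mem_doubleCoset.2 ⟨x * u, P.B.mul_mem hx hu, v * y', P.B.mul_mem hv hy', by group⟩

theorem rankOneSubgroup_eq_top (P : Cfsg.BNPair G) (s : G) (hs : s ∈ P.S)
    (hS : P.S = {s}) : rankOneSubgroup P s hs = ⊤ := by
  have hB : P.B ≤ rankOneSubgroup P s hs := fun b hb => Or.inl hb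
  have hN : P.N ≤ rankOneSubgroup P s hs := by
    rw [← P.closure_sup]
    refine sup_le ?_ (inf_le_left.trans hB)
    rw [Subgroup.closure_le, hS]
    rintro _ rfl
    exact Or.inr (mem_doubleCoset_self _ _ _)
  rw [eq_top_iff, ← P.sup_eq_top]
  exact sup_le hB hN

theorem bruhat_rank_one (P : Cfsg.BNPair G) (s : G) (hs : s ∈ P.S)
    (hS : P.S = {s}) (g : G) : g ∈ P.B ∨ g ∈ doubleCoset s (P.B : Set G) P.B := by
  have : g ∈ rankOneSubgroup P s hs := by
    rw [rankOneSubgroup_eq_top P s hs hS]; trivial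
  exact this

/-- A group with a (B,N)-pair of rank one acts doubly transitively on the left cosets of `B`. -/
theorem result {G : Type*} [Group G] (P : Cfsg.BNPair G) (h : P.rank = 1) : MulAction.IsMultiplyPretransitive G (G ⧸ P.B) 2 := by
  have h1 : Nat.card P.S = 1 := h
  rw [Nat.card_eq_one_iff_exists] at h1
  obtain ⟨⟨s, hs⟩, hs'⟩ := h1
  have hS : P.S = {s} := by
    ext t
    constructor
    · intro ht
      have := hs' ⟨t, ht⟩
      exact congrArg Subtype.val this
    · rintro rfl
      exact hs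
  rw [MulAction.is_two_pretransitive_iff]
  intro a b c d hab hcd
  induction a using QuotientGroup.induction_on with | H x => ?_
  induction b using QuotientGroup.induction_on with | H y => ?_
  induction c using QuotientGroup.induction_on with | H z => ?_
  induction d using QuotientGroup.induction_on with | H w => ?_
  have hxy : x⁻¹ * y ∉ P.B := fun hmem => hab (QuotientGroup.eq.2 hmem)
  have hzw : z⁻¹ * w ∉ P.B := fun hmem => hcd (QuotientGroup.eq.2 hmem)
  have h1 := (bruhat_rank_one P s hs hS (x⁻¹ * y)).resolve_left hxy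
  have h2 := (bruhat_rank_one P s hs hS (z⁻¹ * w)).resolve_left hzw
  obtain ⟨b1, hb1, b2, hb2, e1⟩ := mem_doubleCoset.1 h1
  obtain ⟨b3, hb3, b4, hb4, e2⟩ := mem_doubleCoset.1 h2
  refine ⟨z * b3 * b1⁻¹ * x⁻¹, ?_, ?_⟩
  · rw [MulAction.Quotient.smul_mk, QuotientGroup.eq]
    have : ((z * b3 * b1⁻¹ * x⁻¹) • x)⁻¹ * z = b1 * b3⁻¹ := by
      simp only [smul_eq_mul]; group
    rw [this]
    exact P.B.mul_mem hb1 (P.B.inv_mem hb3)
  · rw [MulAction.Quotient.smul_mk, QuotientGroup.eq]
    have hy : y = x * (b1 * s * b2) := by rw [← e1]; group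
    have hw : w = z * (b3 * s * b4) := by rw [← e2]; group
    have : ((z * b3 * b1⁻¹ * x⁻¹) • y)⁻¹ * w = b2⁻¹ * b4 := by
      simp only [smul_eq_mul]
      rw [hy, hw]; group
    rw [this]
    exact P.B.mul_mem (P.B.inv_mem hb2) hb4

end Cfsg.Agent.S0322
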