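import Cfsg.Statements.S0335
import Cfsg.Agent.Lib.Helper09.Suzuki
-- import your own Cfsg.Agent.* helpers here

set_option autoImplicit false
open Cfsg

namespace Cfsg.Agent.S0335

open Cfsg.Agent.Lib.Helper09

variable {F : Type*} [Field F]

theorem li_base (m : ℕ) {c1 c2 x1 y1 x2 y2 : F} (hc1 : c1 ≠ 0) (hc2 : c2 ≠ 0)
    (hne : ¬ (x1 = x2 ∧ y1 = y2)) :
    LinearIndependent F ![e1, c1 • pt m x1 y1, c2 • pt m x2 y2] := by
  rw [Fintype.linearIndependent_iff]
  intro g hg
  rw [Fin.sum_univ_three] at hg
  have h0 := congrFun hg 0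
  have h1 := congrFun hg 1
  have h2 := congrFun hg 2
  have h3 := congrFun hg 3
  simp [e1, pt] at h0 h1 h2 h3
  have hβ : g 1 * c1 = 0 := by
    by_contra hβ
    apply hne
    have hx : (g 1 * c1) * (x1 - x2) = 0 := by linear_combination h2 - x2 * h3
    have hy : (g 1 * c1) * (y1 - y2) = 0 := by linear_combination h1 - y2 * h3
    exact ⟨sub_eq_zero.1 ((mul_eq_zero.1 hx).resolve_left hβ),
      sub_eq_zero.1 ((mul_eq_zero.1 hy).resolve_left hβ)⟩
  have hg1 : g 1 = 0 := (mul_eq_zero.1 hβ).resolve_right hc1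
  have hγ : g 2 * c2 = 0 := by linear_combination h3 - hβ
  have hg2 : g 2 = 0 := (mul_eq_zero.1 hγ).resolve_right hc2
  have hg0 : g 0 = 0 := by
    rw [hg1, hg2] at h0
    simpa using h0
  intro i
  fin_cases i
  · exact hg0
  · exact hg1
  · exact hg2

variable [Fintype F] {m : ℕ}

/-- image of an ovoid vector other than `pt a b` under `w ∘ τ` -/
theorem image_spec (hF : Fintype.card F = 2 ^ (2 * m + 1)) (a b : F) {u : Fin 4 → F}
    (hu : u = e1 ∨ ∃ x y, u = pt m x y) (hne : u ≠ pt m a b) :
    ∃ c : F, c ≠ 0 ∧ ∃ x y : F,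
      (wM * tauM m a (b + sg m a * a)).mulVec u = c • pt m x y ∧
      ((x = 0 ∧ y = 0) ↔ u = e1) ∧
      (∀ x0 y0, u = pt m x0 y0 →
        c = ff m (x0 + a) (y0 + (b + sg m a * a) + sg m a * x0) ∧
        x = (y0 + (b + sg m a * a) + sg m a * x0) / c ∧ y = (x0 + a) / c) := by
  rcases hu with rfl | ⟨x0, y0, rfl⟩
  · refine ⟨1, one_ne_zero, 0, 0, ?_, ?_, ?_⟩
    · rw [← Matrix.mulVec_mulVec, tauM_mulVec_e1, wM_mulVec_e1 m, one_smul]
    · simp
    · intro x0 y0 h
      exact absurd h.symm (pt_ne_e1 m x0 y0)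
  · have h2 := two_eq_zero' hF
    set x' := x0 + a with hx'
    set y' := y0 + (b + sg m a * a) + sg m a * x0 with hy'
    have hne' : ¬ (x' = 0 ∧ y' = 0) := by
      rintro ⟨h1, h2'⟩
      apply hne
      have hxa : x0 = a := by linear_combination h1 - a * h2
      have hyb : y0 = b := by
        rw [hy', hxa] at h2'
        linear_combination h2' - (b + sg m a * a) * h2
      rw [hxa, hyb]
    have hf : ff m x' y' ≠ 0 := fun h => hne' (ff_eq_zero hF h)
    refine ⟨ff m x' y', hf, y' / ff m x' y', x' / ff m x' y', ?_, ?_, ?_⟩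
    · rw [← Matrix.mulVec_mulVec, tauM_mulVec_pt hF, wM_mulVec_pt hF hf]
    · constructor
      · rintro ⟨h1, h2'⟩
        exfalso
        apply hne'
        rw [div_eq_zero_iff] at h1 h2'
        exact ⟨h2'.resolve_right hf, h1.resolve_right hf⟩
      · intro h
        exact absurd h (pt_ne_e1 m x0 y0)
    · intro x1 y1 h
      obtain ⟨rfl, rfl⟩ := pt_injective h
      exact ⟨rfl, rfl, rfl⟩

theorem li_of_ovoid (hF : Fintype.card F = 2 ^ (2 * m + 1)) (v : Fin 3 → Fin 4 → F)
    (hv : ∀ i, v i = e1 ∨ ∃ x y, v i = pt m x y) (hne : ∀ i j, i ≠ j → v i ≠ v j) :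
    LinearIndependent F v := by
  have hv3 : v = ![v 0, v 1, v 2] := by
    funext i; fin_cases i <;> rfl
  rcases hv 0 with h0 | ⟨a, b, h0⟩
  · -- first point is infinity
    have h1 : ∃ x y, v 1 = pt m x y := by
      rcases hv 1 with h | h
      · exact absurd (h.trans h0.symm) (hne 1 0 (by decide))
      · exact h
    have h2 : ∃ x y, v 2 = pt m x y := by
      rcases hv 2 with h | h
      · exact absurd (h.trans h0.symm) (hne 2 0 (by decide))
      · exact h
    obtain ⟨x1, y1, h1⟩ := h1
    obtain ⟨x2, y2, h2⟩ := h2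
    have hne12 : ¬ (x1 = x2 ∧ y1 = y2) := by
      rintro ⟨rfl, rfl⟩
      exact hne 1 2 (by decide) (h1.trans h2.symm)
    have := li_base m (one_ne_zero (α := F)) (one_ne_zero (α := F)) hne12
    rw [one_smul, one_smul] at this
    rw [hv3, h0, h1, h2]
    exact this
  · -- first point is affine: move it to infinity
    have hne1 : v 1 ≠ pt m a b := fun h => hne 1 0 (by decide) (h.trans h0.symm)
    have hne2 : v 2 ≠ pt m a b := fun h => hne 2 0 (by decide) (h.trans h0.symm)
    obtain ⟨c1, hc1, x1, y1, e1', hz1, hp1⟩ := image_spec hF a b (hv 1) hne1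
    obtain ⟨c2, hc2, x2, y2, e2', hz2, hp2⟩ := image_spec hF a b (hv 2) hne2
    have h2 := two_eq_zero' hF
    -- image of v 0
    have e0' : (wM * tauM m a (b + sg m a * a)).mulVec (v 0) = e1 := by
      rw [h0, ← Matrix.mulVec_mulVec, tauM_mulVec_pt hF]
      have hx : a + a = 0 := by linear_combination a * h2
      have hy : b + (b + sg m a * a) + sg m a * a = 0 := by
        linear_combination (b + sg m a * a) * h2
      rw [hx, hy, wM_mulVec_pt_zero]
    -- the images are distinct
    have hne12 : ¬ (x1 = x2 ∧ y1 = y2) := by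
      rintro ⟨hx, hy⟩
      apply hne 1 2 (by decide)
      rcases hv 1 with h1 | ⟨p1, q1, h1⟩ <;> rcases hv 2 with h2' | ⟨p2, q2, h2'⟩
      · rw [h1, h2']
      · exfalso
        have := hz1.2 h1
        rw [hx, hy] at this
        exact pt_ne_e1 m p2 q2 (h2' ▸ hz2.1 this)
      · exfalso
        have := hz2.2 h2'
        rw [← hx, ← hy] at this
        exact pt_ne_e1 m p1 q1 (h1 ▸ hz1.1 this)
      · obtain ⟨hc1e, hx1, hy1⟩ := hp1 p1 q1 h1
        obtain ⟨hc2e, hx2, hy2⟩ := hp2 p2 q2 h2'
        -- apply ff to the equal parameters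
        have hf1 : ff m x1 y1 = 1 / c1 := by
          rw [hx1, hy1, hc1e]
          exact ff_invert hF (hc1e ▸ hc1)
        have hf2 : ff m x2 y2 = 1 / c2 := by
          rw [hx2, hy2, hc2e]
          exact ff_invert hF (hc2e ▸ hc2)
        have hcc : c1 = c2 := by
          have : 1 / c1 = 1 / c2 := by rw [← hf1, ← hf2, hx, hy]
          field_simp at this
          exact this.symm
        have hxx : p1 + a = p2 + a := by
          have : (p1 + a) / c1 = (p2 + a) / c2 := by rw [← hy1, ← hy2, hy]
          rw [hcc] at this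
          field_simp at this
          exact this
        have hpp : p1 = p2 := add_right_cancel hxx
        have hyy : q1 + (b + sg m a * a) + sg m a * p1 = q2 + (b + sg m a * a) + sg m a * p2 := by
          have : (q1 + (b + sg m a * a) + sg m a * p1) / c1
              = (q2 + (b + sg m a * a) + sg m a * p2) / c2 := by rw [← hx1, ← hx2, hx]
          rw [hcc] at this
          field_simp at this
          exact this
        have hqq : q1 = q2 := by
          rw [hpp] at hyy
          linear_combination hyy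
        rw [h1, h2', hpp, hqq]
    have hli := li_base m hc1 hc2 hne12
    apply LinearIndependent.of_comp (Matrix.mulVecLin (wM * tauM m a (b + sg m a * a)))
    have : (Matrix.mulVecLin (wM * tauM m a (b + sg m a * a))) ∘ v
        = ![e1, c1 • pt m x1 y1, c2 • pt m x2 y2] := by
      funext i
      fin_cases i
      · exact e0'
      · exact e1'
      · exact e2'
    rw [this]
    exact hli

/-- The Suzuki–Tits point set is an ovoid: any three distinct points of it are projectively independent
(no line of projective 3-space meets it in more than two points). -/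
theorem result {F : Type*} [Field F] [Fintype F] {m : ℕ} (hm : 1 ≤ m)
    (hF : Fintype.card F = 2 ^ (2 * m + 1)) (p : Fin 3 ↪ Cfsg.suzukiOvoid F m) :
    Projectivization.Independent (fun i => (p i : Projectivization F (Fin 4 → F))) := by
  have hp : ∀ i, ∃ (v : Fin 4 → F) (hv : v ≠ 0),
      (p i : Projectivization F (Fin 4 → F)) = Projectivization.mk F v hv ∧
      (v = e1 ∨ ∃ x y : F, v = pt m x y) := by
    intro i
    obtain ⟨v, hv, h1, h2⟩ := (p i).2
    exact ⟨v, hv, h1, h2⟩
  choose v hv hpv hvo using hp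
  have hne : ∀ i j, i ≠ j → v i ≠ v j := by
    intro i j hij h
    apply hij
    apply p.injective
    apply Subtype.ext
    rw [hpv i, hpv j]
    congr 1
  have hli := li_of_ovoid hF v hvo hne
  have : (fun i => (p i : Projectivization F (Fin 4 → F)))
      = fun i => Projectivization.mk F (v i) (hv i) := by
    funext i
    exact hpv i
  rw [this]
  exact Projectivization.Independent.mk v hv hli

end Cfsg.Agent.S0335
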