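import Cfsg.Statements.S0344
import Cfsg.Agent.Lib.Helper17.ZassEven
import Cfsg.Agent.Lib.Helper28.ZassConv
import Cfsg.Agent.S0741
import Cfsg.Agent.S0742

set_option autoImplicit false
set_option linter.style.haveILetI false
open Cfsg

namespace Cfsg.Agent.S0344

open MulAction Cfsg.Agent.Lib Cfsg.Agent.Lib.Helper28 in
/-- A finite simple Zassenhaus group with a two-point stabiliser of even order is isomorphic to `PSL₂(F)` for a finite
field `F` with more than three elements. -/
theorem result {G Ω : Type*} [Group G] [Finite G] [MulAction G Ω] [Finite Ω]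
    (hZ : Cfsg.IsZassenhausGroup G Ω) [IsSimpleGroup G]
    {a b : Ω} (hab : a ≠ b) (heven : Even (Nat.card ↥(MulAction.stabilizer G a ⊓ MulAction.stabilizer G b))) :
    ∃ (F : Type) (_ : Field F) (_ : Fintype F), 3 < Fintype.card F ∧ Nonempty (G ≃* Matrix.ProjectiveSpecialLinearGroup (Fin 2) F) := by
  classical
  letI : Fintype Ω := Fintype.ofFinite Ω
  have hpre := zpre_of_isZassenhausGroup hZ
  obtain ⟨F, hF⟩ := hpre.exists_isKer a
  have hdvd := Helper17.ZassEven.card_H_dvd hpre hab hF
  have hbound := Cfsg.Agent.S0741.result hZ hab heven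
  have hpos : 0 < Nat.card ↥(stabilizer G a ⊓ stabilizer G b) := Nat.card_pos
  obtain ⟨c₀, hc₀a, hc₀b⟩ := hpre.exists_third hab
  have hΩ3 : 3 ≤ Fintype.card Ω := by
    have : ({a, b, c₀} : Finset Ω).card ≤ Fintype.card Ω := Finset.card_le_univ _
    rw [Finset.card_insert_of_notMem (by
      rw [Finset.mem_insert, Finset.mem_singleton]
      rintro (h | h)
      · exact hab h
      · exact hc₀a h.symm), Finset.card_pair (Ne.symm hc₀b)] at this
    exact this
  obtain ⟨k, hk⟩ := hdvd
  set e := Nat.card ↥(stabilizer G a ⊓ stabilizer G b) with he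
  have hk12 : k = 1 ∨ k = 2 := by
    have hk0 : k ≠ 0 := by
      rintro rfl
      omega
    have hk2 : k ≤ 2 := by
      by_contra h
      push Not at h
      have : e * 3 ≤ e * k := Nat.mul_le_mul_left e h
      omega
    omega
  rcases hk12 with rfl | rfl
  · -- sharply 3-transitive: impossible
    exfalso
    obtain ⟨φ, x, hxa, -, hφx⟩ := Helper17.ZassEven.exists_hom_of_card_eq hpre hab
      (by rw [← he]; omega) heven
    exact Helper17.ZassEven.false_of_simple hpre.faithful hpre.trans1 φ hxa hφx
  · obtain ⟨p, f, K, iK, iF, hp, hp2, hKcard, hΩcard, hiso⟩ :=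
      Cfsg.Agent.S0742.result hZ hab heven (by rw [← he]; omega)
    refine ⟨K, iK, iF, ?_, hiso⟩
    rw [hKcard]
    obtain ⟨m, hm⟩ := heven
    omega

end Cfsg.Agent.S0344
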