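import Cfsg.Statements.S0346
-- import your own Cfsg.Agent.* helpers here
import Cfsg.Agent.Lib.Helper28.FeitZass
import Cfsg.Agent.S0741

set_option autoImplicit false
set_option linter.style.haveILetI false
open Cfsg

namespace Cfsg.Agent.S0346

/-- The number of points of a finite simple Zassenhaus group is `p^k + 1` for some prime power `p^k` (the regular normal
subgroup of a point stabiliser is a `p`-group). -/
theorem result {G Ω : Type*} [Group G] [Finite G] [MulAction G Ω] [Fintype Ω]
    (hZ : Cfsg.IsZassenhausGroup G Ω) [IsSimpleGroup G] :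
    IsPrimePow (Fintype.card Ω - 1) := by
  classical
  letI : Fintype G := Fintype.ofFinite G
  have hpre := Cfsg.Agent.Lib.Helper28.zpre_of_isZassenhausGroup hZ
  obtain ⟨g₀, -, a, b, hab, -, -⟩ := hpre.two
  obtain ⟨c, hca, hcb⟩ := hpre.exists_third hab
  have h3 : 2 < Fintype.card Ω :=
    Fintype.two_lt_card_iff.mpr ⟨a, b, c, hab, Ne.symm hca, Ne.symm hcb⟩
  obtain ⟨h, hh⟩ : ∃ h, Fintype.card Ω = h + 1 := ⟨Fintype.card Ω - 1, by omega⟩
  have key : ∃ p m : ℕ, p.Prime ∧ h = p ^ m := by
    by_cases hsmall : h - 1 ≤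
        2 * Nat.card ↥(MulAction.stabilizer G a ⊓ MulAction.stabilizer G b : Subgroup G)
    · exact Cfsg.Agent.Lib.Helper28.FeitZass.small_case hZ hab h _ hh rfl hsmall
    · push Not at hsmall
      rcases Nat.even_or_odd
        (Nat.card ↥(MulAction.stabilizer G a ⊓ MulAction.stabilizer G b : Subgroup G))
        with heven | hodd
      · have := Cfsg.Agent.S0741.result hZ hab heven
        rw [hh] at this
        omega
      · exact Cfsg.Agent.Lib.Helper28.FeitZass.odd_case hZ hab h _ hh rfl hodd hsmall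
  obtain ⟨p, m, hp, hm⟩ := key
  rw [hh, Nat.add_sub_cancel, isPrimePow_nat_iff]
  refine ⟨p, m, hp, ?_, hm.symm⟩
  rcases Nat.eq_zero_or_pos m with hm0 | hm0
  · rw [hm0, pow_zero] at hm
    omega
  · exact hm0

end Cfsg.Agent.S0346
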