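import Cfsg.Statements.S0357
import Cfsg.Agent.Lib.Helper09.Steiner
-- import your own Cfsg.Agent.* helpers here

set_option autoImplicit false
open Cfsg

namespace Cfsg.Agent.S0357

open Cfsg.Agent.Lib.Helper09 Finset

/-- In a Steiner system S(5, 6, 12), the complement of every block is again a block. -/
theorem result {α : Type*} [Fintype α] [DecidableEq α] (hα : Fintype.card α = 12) {B : Set (Finset α)} (hB : Cfsg.IsSteinerSystem 5 6 B) {b : Finset α} (hb : b ∈ B) : bᶜ ∈ B := by
  have S0 : ∑ c ∈ (blocks B).erase b, Nat.choose (b ∩ c).card 0 = 131 :=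
    (sum_choose_inter_eq hB hb 0 132 (by norm_num) (by decide) (by rw [hα]; decide)).trans
      (by norm_num [Nat.choose])
  have S1 : ∑ c ∈ (blocks B).erase b, Nat.choose (b ∩ c).card 1 = 390 :=
    (sum_choose_inter_eq hB hb 1 66 (by norm_num) (by decide) (by rw [hα]; decide)).trans
      (by norm_num [Nat.choose])
  have S2 : ∑ c ∈ (blocks B).erase b, Nat.choose (b ∩ c).card 2 = 435 :=
    (sum_choose_inter_eq hB hb 2 30 (by norm_num) (by decide) (by rw [hα]; decide)).trans
      (by norm_num [Nat.choose])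
  have S3 : ∑ c ∈ (blocks B).erase b, Nat.choose (b ∩ c).card 3 = 220 :=
    (sum_choose_inter_eq hB hb 3 12 (by norm_num) (by decide) (by rw [hα]; decide)).trans
      (by norm_num [Nat.choose])
  have S4 : ∑ c ∈ (blocks B).erase b, Nat.choose (b ∩ c).card 4 = 45 :=
    (sum_choose_inter_eq hB hb 4 4 (by norm_num) (by decide) (by rw [hα]; decide)).trans
      (by norm_num [Nat.choose])
  have hle : ∀ c ∈ (blocks B).erase b, (b ∩ c).card ≤ 4 := fun c hc =>
    Nat.lt_succ_iff.1 (card_inter_lt_of_mem_erase hB hb hc)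
  have key0 : ∀ c ∈ (blocks B).erase b,
      Nat.choose (b ∩ c).card 0 + Nat.choose (b ∩ c).card 2 + Nat.choose (b ∩ c).card 4
        = Nat.choose (b ∩ c).card 1 + Nat.choose (b ∩ c).card 3
          + (if (b ∩ c).card = 0 then 1 else 0) := by
    intro c hc
    have := hle c hc
    interval_cases (b ∩ c).card <;> decide
  have e0 := sum_congr rfl key0
  simp only [sum_add_distrib] at e0
  rw [S0, S1, S2, S3, S4] at e0
  have z0 : (∑ c ∈ (blocks B).erase b, if (b ∩ c).card = 0 then 1 else 0) = 1 := by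
    omega
  rw [← card_filter] at z0
  have hne : ((blocks B).erase b |>.filter fun c => (b ∩ c).card = 0).Nonempty := by
    rw [← card_pos, z0]; exact Nat.one_pos
  obtain ⟨c, hc⟩ := hne
  rw [mem_filter, mem_erase, mem_blocks, card_eq_zero, ← disjoint_iff_inter_eq_empty] at hc
  obtain ⟨⟨_, hcB⟩, hd⟩ := hc
  have hsub : c ⊆ bᶜ := by
    intro a ha
    rw [mem_compl]
    exact fun hab => (disjoint_left.1 hd) hab ha
  have hcard : bᶜ.card ≤ c.card := by
    rw [card_compl, hα, hB.1 b hb, hB.1 c hcB]
  rw [← eq_of_subset_of_card_le hsub hcard]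
  exact hcB

end Cfsg.Agent.S0357
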