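import Cfsg.Statements.S0358
import Cfsg.Agent.Lib.Helper09.Golay
-- import your own Cfsg.Agent.* helpers here

set_option autoImplicit false
open Cfsg

namespace Cfsg.Agent.S0358

open Cfsg.Agent.Lib.Helper09

theorem card_golayCode : Nat.card Cfsg.golayCode = 4096 := by
  have hbij : Function.Bijective
      (fun c : Fin 4096 => (⟨wordOfMask (cw c.val),
        (mem_golayCode_iff _).2 ⟨c.val, c.isLt, rfl⟩⟩ : Cfsg.golayCode)) := by
    constructor
    · intro c c' h
      have := congrArg Subtype.val h
      exact Fin.ext (cw_injOn c.isLt c'.isLt this)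
    · rintro ⟨w, hw⟩
      obtain ⟨c, hc, rfl⟩ := (mem_golayCode_iff w).1 hw
      exact ⟨⟨c, hc⟩, rfl⟩
  rw [← Nat.card_congr (Equiv.ofBijective _ hbij), Nat.card_eq_fintype_card, Fintype.card_fin]

/-- The length-24 code built from the squares modulo 23 has dimension 12 over the field with two elements. -/
theorem result : Module.finrank (ZMod 2) Cfsg.golayCode = 12 := by
  have h := Module.natCard_eq_pow_finrank (K := ZMod 2) (V := Cfsg.golayCode)
  rw [card_golayCode, Nat.card_eq_fintype_card, ZMod.card] at h
  have h' : (2 : ℕ) ^ 12 = 2 ^ Module.finrank (ZMod 2) Cfsg.golayCode := by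
    rw [← h]; norm_num
  exact (Nat.pow_right_injective (le_refl 2) h').symm

end Cfsg.Agent.S0358
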