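import Cfsg.Statements.S0369
import Cfsg.Agent.Lib.Helper10.Octad

set_option autoImplicit false
open Cfsg

namespace Cfsg.Agent.S0369

open Cfsg.Agent.Lib.Helper10
open scoped Pointwise

theorem basis_weight : ∀ b ∈ basis, b < 2 ^ 24 ∧ enc b = b ∧ pc b = 8 := by decide +kernel

theorem mem_of_octads {σ : Equiv.Perm GolayPt} (h : σ • octads = octads) : σ ∈ M24 := by
  apply mem_M24_of_mapsTo
  let S : Submodule (ZMod 2) (GolayPt → ZMod 2) :=
    golayCode.comap (LinearMap.funLeft (ZMod 2) (ZMod 2) σ.symm)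
  have hS : ∀ w, w ∈ S ↔ permWord σ w ∈ golayCode := fun w => Iff.rfl
  have hb : ∀ b ∈ basis, vec b ∈ S := by
    intro b hb
    obtain ⟨h1, h2, h3⟩ := basis_weight b hb
    rw [hS]
    have ho : σ • fs b ∈ octads := by
      rw [← h]
      exact Set.smul_mem_smul_set (fs_mem_octads h1 h2 h3)
    obtain ⟨w', hw', e, _⟩ := (mem_octads_iff _).mp ho
    rw [← support₂_vec, smul_support₂] at e
    rw [← support₂_injective e]
    exact hw'
  intro w hw
  rw [← hS]
  have := (mem_golayCode_iff w).mp hw
  rw [← vec_wmask w, ← this]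
  exact vec_xorSel_mem S basis hb 0 _

/-- The group of the length-24 code coincides with the automorphism group of its octad system. -/
theorem result : Cfsg.M24 = Cfsg.setSystemAut Cfsg.octads := by
  have hsub : ∀ σ ∈ M24, σ • octads ⊆ octads := by
    rintro σ hσ _ ⟨o, ho, rfl⟩
    exact smul_mem_octads hσ ho
  apply le_antisymm
  · intro σ hσ
    rw [MulAction.mem_stabilizer_iff]
    apply Set.Subset.antisymm (hsub σ hσ)
    have := hsub σ⁻¹ (M24.inv_mem hσ)
    intro o ho
    have h2 : σ⁻¹ • o ∈ octads := this (Set.smul_mem_smul_set ho)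
    have : o = σ • σ⁻¹ • o := by rw [smul_inv_smul]
    rw [this]
    exact Set.smul_mem_smul_set h2
  · intro σ hσ
    rw [MulAction.mem_stabilizer_iff] at hσ
    exact mem_of_octads hσ

end Cfsg.Agent.S0369
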