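import Cfsg.Statements.S0383
import Cfsg.Agent.Lib.Helper93.DodConj
import Cfsg.Agent.Lib.Helper93.M11Simple
import Cfsg.Agent.Lib.Helper93.SimpleChain

set_option autoImplicit false
open scoped Pointwise
open Cfsg

namespace Cfsg.Agent.S0383

open Cfsg.Agent.Lib.Helper10 Cfsg.Agent.Lib.Helper93 MulAction

theorem smul_mem_of_stab {d : Finset GolayPt} (g : ↥(stabilizer ↥M24 d)) {q : GolayPt} (hq : q ∈ d) :
    ((g : ↥M24) : Equiv.Perm GolayPt) q ∈ d := by
  have h : ((g : ↥M24) : Equiv.Perm GolayPt) • d = d := mem_stabilizer_iff.mp g.2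
  have : ((g : ↥M24) : Equiv.Perm GolayPt) • q ∈ ((g : ↥M24) : Equiv.Perm GolayPt) • d :=
    Finset.smul_mem_smul_finset hq
  rw [h] at this
  exact this

/-- the action of the stabiliser of `d` on the points of `d`. -/
@[reducible] def dodAct (d : Finset GolayPt) : MulAction ↥(stabilizer ↥M24 d) ↥d where
  smul g x := ⟨((g : ↥M24) : Equiv.Perm GolayPt) x.1, smul_mem_of_stab g x.2⟩
  one_smul _ := rfl
  mul_smul _ _ _ := rfl

/-- A dodecad stabiliser in the group of the length-24 code is simple. -/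
theorem result (d : Finset Cfsg.GolayPt) (hd : d ∈ Cfsg.dodecads) : IsSimpleGroup (MulAction.stabilizer Cfsg.M24 d) := by
  classical
  let _ := dodAct d
  have hsmul : ∀ (g : ↥(stabilizer ↥M24 d)) (x : ↥d),
      ((g • x : ↥d) : GolayPt) = ((g : ↥M24) : Equiv.Perm GolayPt) x.1 := fun g x => rfl
  have hcard : Fintype.card ↥d = 12 := by
    rw [Fintype.card_coe]; exact hd.2
  have hne : d.Nonempty := Finset.card_pos.mp (by rw [hd.2]; norm_num)
  obtain ⟨p, hp⟩ := hne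
  obtain ⟨c, hc, hcd, hcp⟩ := exists_conj_sq hd hp
  -- faithful
  have hfaith : FaithfulSMul ↥(stabilizer ↥M24 d) ↥d := by
    refine ⟨fun {g g'} hgg => ?_⟩
    have h1 : (((g'⁻¹ * g : ↥(stabilizer ↥M24 d)) : ↥M24) : Equiv.Perm GolayPt) = 1 := by
      apply eq_one_of_fix_dodecad hd (g'⁻¹ * g : ↥(stabilizer ↥M24 d)).1.2
      intro q hq
      have := congrArg Subtype.val (hgg ⟨q, hq⟩)
      rw [hsmul, hsmul] at this
      show (((g' : ↥M24) : Equiv.Perm GolayPt)⁻¹ * ((g : ↥M24) : Equiv.Perm GolayPt)) q = q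
      rw [Equiv.Perm.mul_apply, this, Equiv.Perm.coe_inv, Equiv.symm_apply_apply]
    have h2 : g'⁻¹ * g = 1 := Subtype.ext (Subtype.ext h1)
    exact (inv_mul_eq_one.mp h2).symm
  -- 3-transitive
  have hmemD : ∀ q, q ∈ d → c⁻¹ q ∈ Spor.squareDodecad := by
    intro q hq
    have : c⁻¹ • q ∈ c⁻¹ • d := Finset.smul_mem_smul_finset hq
    rw [← hcd, inv_smul_smul] at this
    exact this
  have key : ∀ x : Fin 3 ↪ ↥d, ∃ t ∈ Spor.M12, ∀ i : Fin 3, c (t (pt i)) = (x i : GolayPt) := by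
    intro x
    have hinj : ∀ i j : Fin 3, i ≠ j → c⁻¹ (x i : GolayPt) ≠ c⁻¹ (x j : GolayPt) := by
      intro i j hij h
      apply hij
      apply x.injective
      apply Subtype.ext
      exact (c⁻¹).injective h
    obtain ⟨t, ht, h0, h1, h2⟩ := m12_three (c⁻¹ (x 0 : GolayPt)) (c⁻¹ (x 1 : GolayPt))
      (c⁻¹ (x 2 : GolayPt)) (hmemD _ (x 0).2) (hmemD _ (x 1).2) (hmemD _ (x 2).2)
      (hinj 0 1 (by decide)) (hinj 0 2 (by decide)) (hinj 1 2 (by decide))
    refine ⟨t, ht, ?_⟩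
    intro i
    fin_cases i
    · show c (t (pt 0)) = _
      rw [h0, perm_apply_inv]
      rfl
    · show c (t (pt 1)) = _
      rw [h1, perm_apply_inv]
      rfl
    · show c (t (pt 2)) = _
      rw [h2, perm_apply_inv]
      rfl
  have h3 : IsMultiplyPretransitive ↥(stabilizer ↥M24 d) ↥d 3 := by
    refine ⟨fun x y => ?_⟩
    obtain ⟨tx, htx, hx⟩ := key x
    obtain ⟨ty, hty, hy⟩ := key y
    have hM : ∀ t ∈ Spor.M12, t ∈ M24 := fun t ht => (Subgroup.mem_inf.mp ht).1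
    have hD : ∀ t ∈ Spor.M12, t • Spor.squareDodecad = Spor.squareDodecad :=
      fun t ht => mem_stabilizer_iff.mp (Subgroup.mem_inf.mp ht).2
    have hgM : c * ty * tx⁻¹ * c⁻¹ ∈ M24 :=
      M24.mul_mem (M24.mul_mem (M24.mul_mem hc (hM ty hty)) (M24.inv_mem (hM tx htx)))
        (M24.inv_mem hc)
    have hgd : (c * ty * tx⁻¹ * c⁻¹) • d = d := by
      rw [mul_smul, mul_smul, mul_smul, ← hcd, inv_smul_smul, inv_smul_eq_iff.mpr (hD tx htx).symm,
        hD ty hty]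
    refine ⟨⟨⟨c * ty * tx⁻¹ * c⁻¹, hgM⟩, mem_stabilizer_iff.mpr hgd⟩, ?_⟩
    apply DFunLike.ext
    intro i
    apply Subtype.ext
    show (c * ty * tx⁻¹ * c⁻¹) (x i : GolayPt) = (y i : GolayPt)
    rw [← hx i, ← hy i]
    simp only [Equiv.Perm.mul_apply, Equiv.Perm.coe_inv, Equiv.symm_apply_apply]
  -- the point stabiliser
  have hpow : ∀ m : ℕ, Fintype.card ↥d ≠ 2 ^ m := by
    intro m h
    rw [hcard] at h
    rcases Nat.lt_or_ge m 4 with hm | hm
    · have : 2 ^ m ≤ 2 ^ 3 := Nat.pow_le_pow_right (by norm_num) (by omega)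
      omega
    · have : 2 ^ 4 ≤ 2 ^ m := Nat.pow_le_pow_right (by norm_num) hm
      omega
  apply isSimpleGroup_of_stabilizer h3 (by omega) hpow (⟨p, hp⟩ : ↥d)
  have hle : stabilizer ↥M24 d ⊓ stabilizer ↥M24 p ≤ stabilizer ↥M24 d := inf_le_left
  have heq : stabilizer ↥(stabilizer ↥M24 d) (⟨p, hp⟩ : ↥d)
      = (stabilizer ↥M24 d ⊓ stabilizer ↥M24 p).subgroupOf (stabilizer ↥M24 d) := by
    ext g
    rw [mem_stabilizer_iff, Subgroup.mem_subgroupOf, Subgroup.mem_inf, mem_stabilizer_iff,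
      mem_stabilizer_iff]
    constructor
    · intro hg
      exact ⟨mem_stabilizer_iff.mp g.2, congrArg Subtype.val hg⟩
    · intro hg
      exact Subtype.ext hg.2
  rw [heq]
  obtain ⟨e⟩ := nonempty_equiv_M11 hd hp
  have := m11_isSimpleGroup
  have hs : IsSimpleGroup ↥(stabilizer ↥M24 d ⊓ stabilizer ↥M24 p) := e.isSimpleGroup
  exact (Subgroup.subgroupOfEquivOfLe hle).isSimpleGroup

end Cfsg.Agent.S0383
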