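import Cfsg.Statements.S0384
import Cfsg.Agent.Lib.Helper10.M12c

set_option autoImplicit false
open scoped Pointwise
open Cfsg

namespace Cfsg.Agent.S0384

open Cfsg.Agent.Lib.Helper10 MulAction

/-- pull an embedding back along a permutation. -/
def pull (h : Equiv.Perm GolayPt) (x : Fin 5 ↪ GolayPt) : Fin 5 ↪ GolayPt :=
  x.trans (h⁻¹ : Equiv.Perm GolayPt).toEmbedding

theorem pull_apply (h : Equiv.Perm GolayPt) (x : Fin 5 ↪ GolayPt) (i : Fin 5) :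
    pull h x i = h⁻¹ (x i) := rfl

/-- A dodecad stabiliser is sharply 5-transitive on the dodecad. -/
theorem result (d : Finset Cfsg.GolayPt) (hd : d ∈ Cfsg.dodecads) (x y : Fin 5 ↪ Cfsg.GolayPt) (hx : ∀ i, x i ∈ d) (hy : ∀ i, y i ∈ d) : ∃! g : MulAction.stabilizer Cfsg.M24 d, ∀ i, ((g : Cfsg.M24) : Equiv.Perm Cfsg.GolayPt) (x i) = y i := by
  obtain ⟨h, hhH, rfl⟩ := exists_smul_d0_eq hd
  have hh : h ∈ M24 := H_le_M24 hhH
  have hx' : ∀ i, pull h x i ∈ fs d0 := fun i => Finset.inv_smul_mem_iff.mpr (hx i)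
  have hy' : ∀ i, pull h y i ∈ fs d0 := fun i => Finset.inv_smul_mem_iff.mpr (hy i)
  obtain ⟨g1, hg1, hgx⟩ := five_trans12 (pull h x) hx'
  obtain ⟨g2, hg2, hgy⟩ := five_trans12 (pull h y) hy'
  have hk : g2 * g1⁻¹ ∈ K12 := K12.mul_mem hg2 (K12.inv_mem hg1)
  obtain ⟨hm, hdd⟩ := conj_of_K12 hh hk
  have hσ : ∀ i, (h * (g2 * g1⁻¹) * h⁻¹) (x i) = y i := by
    intro i
    show h (g2 (g1⁻¹ (h⁻¹ (x i)))) = y i
    rw [← pull_apply, ← hgx i]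
    have e : g1⁻¹ (g1 (bpt12 i)) = bpt12 i := by simp
    rw [e, hgy i, pull_apply]
    simp
  refine ⟨⟨⟨h * (g2 * g1⁻¹) * h⁻¹, hm⟩, hdd⟩, hσ, ?_⟩
  rintro ⟨⟨τ, hτm⟩, hτd⟩ hτ
  have hτd' : τ • (h • fs d0) = h • fs d0 := hτd
  have hτ' : ∀ i, τ (x i) = y i := hτ
  apply Subtype.ext
  apply Subtype.ext
  show τ = h * (g2 * g1⁻¹) * h⁻¹
  set σ := h * (g2 * g1⁻¹) * h⁻¹ with hσdef
  have hρ : h⁻¹ * (σ⁻¹ * τ) * h ∈ K12 := by
    apply conj_mem_K12 hh (M24.mul_mem (M24.inv_mem hm) hτm)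
    rw [mul_smul, hτd', inv_smul_eq_iff, hdd]
  have hone : h⁻¹ * (σ⁻¹ * τ) * h = 1 := by
    apply eq_one_of_fixes_five hρ (pull h x) hx'
    intro i
    show h⁻¹ (σ⁻¹ (τ (h (pull h x i)))) = pull h x i
    rw [pull_apply]
    have e1 : h (h⁻¹ (x i)) = x i := by simp
    rw [e1, hτ' i, ← hσ i]
    simp
  have h2 : σ⁻¹ * τ = h * (h⁻¹ * (σ⁻¹ * τ) * h) * h⁻¹ := by group
  rw [hone] at h2
  have h3 : σ⁻¹ * τ = 1 := by rw [h2]; group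
  exact (inv_mul_eq_one.mp h3).symm

end Cfsg.Agent.S0384
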