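import Cfsg.Statements.S0386
import Cfsg.Agent.Lib.Helper10.Count
import Cfsg.Agent.Lib.Helper10.Dodecad

set_option autoImplicit false
open Cfsg

namespace Cfsg.Agent.S0386

open Cfsg.Agent.Lib.Helper10
open scoped Pointwise

/-- the octads meeting `d` in `n` points. -/
def A (d : Finset GolayPt) (n : ℕ) : Set (Finset GolayPt) := {o | o ∈ octads ∧ (o ∩ d).card = n}

def P (n : ℕ) (m : ℕ) : Bool := pc m == 8 && pc (m &&& d0) == n

theorem A_d0 (n : ℕ) : A (fs d0) n =
    {s : Finset GolayPt | ∃ w ∈ golayCode, support₂ w = s ∧ P n (wmask w) = true} := by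
  ext o
  simp only [A, P, Set.mem_ofPred_eq, Bool.and_eq_true, beq_iff_eq]
  constructor
  · rintro ⟨ho, hn⟩
    obtain ⟨w, hw, rfl, hc⟩ := (mem_octads_iff o).mp ho
    refine ⟨w, hw, rfl, ?_, ?_⟩
    · rw [← card_support₂]; exact hc
    · rw [support₂_eq_fs, fs_inter, card_fs] at hn; exact hn
  · rintro ⟨w, hw, rfl, h8, hn⟩
    refine ⟨(mem_octads_iff _).mpr ⟨w, hw, rfl, by rw [card_support₂]; exact h8⟩, ?_⟩
    rw [support₂_eq_fs, fs_inter, card_fs]; exact hn

theorem count6 : ((List.range 4096).filter (fun k => P 6 (enc k))).length = 132 := by decide +kernel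
theorem count2 : ((List.range 4096).filter (fun k => P 2 (enc k))).length = 132 := by decide +kernel
theorem count4 : ((List.range 4096).filter (fun k => P 4 (enc k))).length = 495 := by decide +kernel

theorem A_smul {g : Equiv.Perm GolayPt} (hg : g ∈ M24) (d : Finset GolayPt) (n : ℕ) :
    A (g • d) n = (fun o => g • o) '' A d n := by
  ext o
  constructor
  · rintro ⟨ho, hn⟩
    refine ⟨g⁻¹ • o, ⟨smul_mem_octads (M24.inv_mem hg) ho, ?_⟩, smul_inv_smul g o⟩
    rw [← hn, ← Finset.card_smul_finset g (g⁻¹ • o ∩ d), Finset.smul_finset_inter, smul_inv_smul]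
  · rintro ⟨o, ⟨ho, hn⟩, rfl⟩
    refine ⟨smul_mem_octads hg ho, ?_⟩
    rw [← Finset.smul_finset_inter, Finset.card_smul_finset]
    exact hn

theorem ncard_A (d : Finset GolayPt) (hd : d ∈ dodecads) (n : ℕ) :
    (A d n).ncard = ((List.range 4096).filter (fun k => P n (enc k))).length := by
  obtain ⟨g, hg, rfl⟩ := exists_smul_d0_eq hd
  rw [A_smul (H_le_M24 hg), Set.ncard_image_of_injective _ (MulAction.injective g), A_d0,
    ncard_code_filter]

/-- For a fixed dodecad, 132 octads meet it in 6 points, 132 in 2 points and 495 in 4 points. -/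
theorem result (d : Finset Cfsg.GolayPt) (hd : d ∈ Cfsg.dodecads) : {o : Finset Cfsg.GolayPt | o ∈ Cfsg.octads ∧ (o ∩ d).card = 6}.ncard = 132 ∧ {o : Finset Cfsg.GolayPt | o ∈ Cfsg.octads ∧ (o ∩ d).card = 2}.ncard = 132 ∧ {o : Finset Cfsg.GolayPt | o ∈ Cfsg.octads ∧ (o ∩ d).card = 4}.ncard = 495 := by
  refine ⟨?_, ?_, ?_⟩
  · exact (ncard_A d hd 6).trans count6
  · exact (ncard_A d hd 2).trans count2
  · exact (ncard_A d hd 4).trans count4

end Cfsg.Agent.S0386
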