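import Cfsg.Statements.S0387
import Cfsg.Agent.Lib.Helper10.M12c

set_option autoImplicit false
open scoped Pointwise
open Cfsg

namespace Cfsg.Agent.S0387

open Cfsg.Agent.Lib.Helper10 MulAction

/-- The stabiliser of a dodecad and a point on it has order 7920 = 2^4·3^2·5·11. -/
theorem result (d : Finset Cfsg.GolayPt) (hd : d ∈ Cfsg.dodecads) (p : Cfsg.GolayPt) (hp : p ∈ d) : Nat.card ↥(MulAction.stabilizer Cfsg.M24 d ⊓ MulAction.stabilizer Cfsg.M24 p) = 7920 := by
  rw [card_stabilizer_inf_sub]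
  obtain ⟨h, hh, rfl, rfl⟩ := exists_flag hd hp
  have e1 := stabilizer_smul_eq_stabilizer_map_conj h (fs d0)
  have e2 := stabilizer_smul_eq_stabilizer_map_conj h (pt 0)
  have e2' : stabilizer (Equiv.Perm GolayPt) (h (pt 0)) =
      (stabilizer (Equiv.Perm GolayPt) (pt 0)).map (MulAut.conj h).toMonoidHom := e2
  rw [inf_assoc, e1, e2', ← Subgroup.map_inf _ _ _ (MulAut.conj h).injective, card_inf_map_conj hh,
    ← inf_assoc]
  exact card_K11

end Cfsg.Agent.S0387
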