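import Cfsg.Statements.S0389
import Cfsg.Agent.Lib.Helper10.M12c

set_option autoImplicit false
open scoped Pointwise
open Cfsg

namespace Cfsg.Agent.S0389

open Cfsg.Agent.Lib.Helper10 MulAction

/-- pull an embedding back along a permutation. -/
def pull (h : Equiv.Perm GolayPt) (x : Fin 3 ↪ GolayPt) : Fin 3 ↪ GolayPt :=
  x.trans (h⁻¹ : Equiv.Perm GolayPt).toEmbedding

theorem pull_apply (h : Equiv.Perm GolayPt) (x : Fin 3 ↪ GolayPt) (i : Fin 3) :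
    pull h x i = h⁻¹ (x i) := rfl

/-- The stabiliser of a dodecad and a point on it is 3-transitive on the complementary dodecad. -/
theorem result (d : Finset Cfsg.GolayPt) (hd : d ∈ Cfsg.dodecads) (p : Cfsg.GolayPt) (hp : p ∈ d) (x y : Fin 3 ↪ Cfsg.GolayPt) (hx : ∀ i, x i ∉ d) (hy : ∀ i, y i ∉ d) : ∃ g ∈ MulAction.stabilizer Cfsg.M24 d ⊓ MulAction.stabilizer Cfsg.M24 p, ∀ i, (g : Equiv.Perm Cfsg.GolayPt) (x i) = y i := by
  obtain ⟨h, hh, rfl, rfl⟩ := exists_flag hd hp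
  have hx' : ∀ i, pull h x i ∉ fs d0 := by
    intro i hi
    apply hx i
    rw [pull_apply] at hi
    exact Finset.inv_smul_mem_iff.mp hi
  have hy' : ∀ i, pull h y i ∉ fs d0 := by
    intro i hi
    apply hy i
    rw [pull_apply] at hi
    exact Finset.inv_smul_mem_iff.mp hi
  obtain ⟨g1, hg1, hgx⟩ := three_trans11 (pull h x) hx'
  obtain ⟨g2, hg2, hgy⟩ := three_trans11 (pull h y) hy'
  have hk : g2 * g1⁻¹ ∈ K11 := K11.mul_mem hg2 (K11.inv_mem hg1)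
  rw [mem_K11] at hk
  obtain ⟨hm, hdd⟩ := conj_of_K12 hh hk.1
  refine ⟨⟨h * (g2 * g1⁻¹) * h⁻¹, hm⟩, ?_, ?_⟩
  · rw [Subgroup.mem_inf, mem_stabilizer_iff, mem_stabilizer_iff]
    refine ⟨hdd, ?_⟩
    show h ((g2 * g1⁻¹) (h⁻¹ (h (pt 0)))) = h (pt 0)
    have e : h⁻¹ (h (pt 0)) = pt 0 := by simp
    rw [e, hk.2]
  · intro i
    show h (g2 (g1⁻¹ (h⁻¹ (x i)))) = y i
    rw [← pull_apply, ← hgx i]
    have e : g1⁻¹ (g1 (bpt11 i)) = bpt11 i := by simp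
    rw [e, hgy i, pull_apply]
    simp

end Cfsg.Agent.S0389
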