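import Cfsg.Statements.S0403
import Mathlib
import Cfsg.Agent.Lib.Helper94.LeechC3f

set_option autoImplicit false
open Cfsg

namespace Cfsg.Agent.S0403

open Cfsg.Agent.Lib.Helper94

/-- Stabiliser of a vector of sum of squares 48 is simple of order 495766656000. -/
theorem result (v : Cfsg.leechLattice) (hv : Cfsg.sqNorm (v : Cfsg.GolayPt → ℤ) = 48) : Cfsg.IsCo3 (MulAction.stabilizer Cfsg.Co0 v) := by
  obtain ⟨g0, hg0, hvL, h1⟩ := (conj_norm48 v.1 v.2 hv).trans
    (conj_norm48 u5 u5_memL sqNorm_u5).symm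
  set g : ↥Co0 := ⟨g0, hg0⟩ with hg
  have hU : g • v = U5 := Subtype.ext h1
  have heq : (MulAction.stabilizer ↥Co0 v).map (MulAut.conj g).toMonoidHom = CO3 := by
    unfold CO3
    rw [← MulAction.stabilizer_smul_eq_stabilizer_map_conj, hU]
  have e : ↥(MulAction.stabilizer ↥Co0 v) ≃* ↥CO3 :=
    (Subgroup.equivMapOfInjective _ _ (MulAut.conj g).injective).trans
      (MulEquiv.subgroupCongr heq)
  obtain ⟨hs, hc⟩ := isCo3_CO3
  refine ⟨?_, ?_⟩
  · have : Nontrivial ↥(MulAction.stabilizer ↥Co0 v) := by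
      have := hs.toNontrivial
      exact e.symm.injective.nontrivial
    exact IsSimpleGroup.isSimpleGroup_of_surjective e.symm.toMonoidHom e.symm.surjective
  · rw [Nat.card_congr e.toEquiv, hc]

end Cfsg.Agent.S0403
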