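import Cfsg.Statements.S0404
import Mathlib
import Cfsg.Agent.Lib.Helper94.LeechML6

set_option autoImplicit false
open Cfsg

namespace Cfsg.Agent.S0404

open Cfsg.Agent.Lib.Helper94

/-- Joint stabiliser of two minimal vectors with coordinate dot product −8 is simple of order 898128000. -/
theorem result (v w : Cfsg.leechLattice) (hv : Cfsg.sqNorm (v : Cfsg.GolayPt → ℤ) = 32) (hw : Cfsg.sqNorm (w : Cfsg.GolayPt → ℤ) = 32) (hvw : Cfsg.dotInt (v : Cfsg.GolayPt → ℤ) (w : Cfsg.GolayPt → ℤ) = -8) : Cfsg.IsMcL ↥(MulAction.stabilizer Cfsg.Co0 v ⊓ MulAction.stabilizer Cfsg.Co0 w) := by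
  set u : leechLattice := v + w with hu
  have hu1 : (u : GolayPt → ℤ) = (v : GolayPt → ℤ) + (w : GolayPt → ℤ) := rfl
  have nu : sqNorm (u : GolayPt → ℤ) = 48 := by
    rw [hu1, sqNorm_add, hv, hw, hvw]; norm_num
  have huv : dotInt (u : GolayPt → ℤ) (v : GolayPt → ℤ) = 24 := by
    rw [hu1, dotInt_add_left', dotInt_self, hv, dotInt_comm', hvw]; norm_num
  obtain ⟨g0, hg0, huL, hvL, h1, h2⟩ := conj2_mcl u.1 v.1 u.2 v.2 nu hv huv
  set g : ↥Co0 := ⟨g0, hg0⟩ with hg
  have hU : g • u = U5 := Subtype.ext h1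
  have hA : g • v = OA := Subtype.ext h2
  have hsub : MulAction.stabilizer ↥Co0 v ⊓ MulAction.stabilizer ↥Co0 w =
      MulAction.stabilizer ↥Co0 u ⊓ MulAction.stabilizer ↥Co0 v := by
    ext k
    rw [Subgroup.mem_inf, Subgroup.mem_inf, MulAction.mem_stabilizer_iff,
      MulAction.mem_stabilizer_iff, MulAction.mem_stabilizer_iff]
    constructor
    · rintro ⟨a, b⟩
      refine ⟨?_, a⟩
      rw [hu, smul_add_co0, a, b]
    · rintro ⟨a, b⟩
      refine ⟨b, ?_⟩
      have hw' : w = u - v := by rw [hu]; abel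
      rw [hw', smul_sub_co0, a, b]
  have heq : (MulAction.stabilizer ↥Co0 v ⊓ MulAction.stabilizer ↥Co0 w).map
      (MulAut.conj g).toMonoidHom = ML0 := by
    unfold ML0
    rw [hsub, Subgroup.map_inf_eq _ _ _ (MulAut.conj g).injective,
      ← MulAction.stabilizer_smul_eq_stabilizer_map_conj,
      ← MulAction.stabilizer_smul_eq_stabilizer_map_conj, hU, hA]
  have e : ↥(MulAction.stabilizer ↥Co0 v ⊓ MulAction.stabilizer ↥Co0 w) ≃* ↥ML0 :=
    (Subgroup.equivMapOfInjective _ _ (MulAut.conj g).injective).trans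
      (MulEquiv.subgroupCongr heq)
  obtain ⟨hs, hc⟩ := isMcL_ML0
  refine ⟨?_, ?_⟩
  · have : Nontrivial ↥(MulAction.stabilizer ↥Co0 v ⊓ MulAction.stabilizer ↥Co0 w) := by
      have := hs.toNontrivial
      exact e.symm.injective.nontrivial
    exact IsSimpleGroup.isSimpleGroup_of_surjective e.symm.toMonoidHom e.symm.surjective
  · rw [Nat.card_congr e.toEquiv, hc]

end Cfsg.Agent.S0404
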