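import Cfsg.Statements.S0405
import Cfsg.Statements.S0405
import Mathlib
import Cfsg.Agent.Lib.Helper94.LeechHS6

set_option autoImplicit false
open Cfsg

namespace Cfsg.Agent.S0405

open Cfsg.Agent.Lib.Helper94

/-- Joint stabiliser of two vectors of sum of squares 48 with coordinate dot product −32 is simple of order 44352000. -/
theorem result (v w : Cfsg.leechLattice) (hv : Cfsg.sqNorm (v : Cfsg.GolayPt → ℤ) = 48) (hw : Cfsg.sqNorm (w : Cfsg.GolayPt → ℤ) = 48) (hvw : Cfsg.dotInt (v : Cfsg.GolayPt → ℤ) (w : Cfsg.GolayPt → ℤ) = -32) : Cfsg.IsHS ↥(MulAction.stabilizer Cfsg.Co0 v ⊓ MulAction.stabilizer Cfsg.Co0 w) := by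
  obtain ⟨g0, hg0, hvL, hwL, h1, h2⟩ := conj2_hs v.1 w.1 v.2 w.2 hv hw hvw
  set g : ↥Co0 := ⟨g0, hg0⟩ with hg
  have hU : g • v = U5 := Subtype.ext h1
  have hW : g • w = W5 := Subtype.ext h2
  have heq : (MulAction.stabilizer ↥Co0 v ⊓ MulAction.stabilizer ↥Co0 w).map
      (MulAut.conj g).toMonoidHom = HS0 := by
    unfold HS0
    rw [Subgroup.map_inf_eq _ _ _ (MulAut.conj g).injective,
      ← MulAction.stabilizer_smul_eq_stabilizer_map_conj,
      ← MulAction.stabilizer_smul_eq_stabilizer_map_conj, hU, hW]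
  have e : ↥(MulAction.stabilizer ↥Co0 v ⊓ MulAction.stabilizer ↥Co0 w) ≃* ↥HS0 :=
    (Subgroup.equivMapOfInjective _ _ (MulAut.conj g).injective).trans
      (MulEquiv.subgroupCongr heq)
  obtain ⟨hs, hc⟩ := isHS_HS0
  refine ⟨?_, ?_⟩
  · have : Nontrivial ↥(MulAction.stabilizer ↥Co0 v ⊓ MulAction.stabilizer ↥Co0 w) := by
      have := hs.toNontrivial
      exact e.symm.injective.nontrivial
    exact IsSimpleGroup.isSimpleGroup_of_surjective e.symm.toMonoidHom e.symm.surjective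
  · rw [Nat.card_congr e.toEquiv, hc]

end Cfsg.Agent.S0405
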