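import Cfsg.Statements.S0412
import Cfsg.Agent.Lib.Helper95.AutTransport
import Cfsg.Agent.S0407
import Cfsg.Agent.S0363
import Cfsg.Agent.S0364
import Cfsg.Agent.S0365
import Cfsg.Agent.S0366
import Cfsg.Agent.S0369

set_option autoImplicit false
open Cfsg

namespace Cfsg.Agent.S0412

open Cfsg.Agent.Lib.Helper95.St24

theorem card_golayPt : Fintype.card Cfsg.GolayPt = 24 := by
  simp [Cfsg.GolayPt]

theorem octads_facts : ∀ S : Subgroup (Equiv.Perm Cfsg.GolayPt), Cfsg.M24 = S →
    IsSimpleGroup S ∧ Nat.card S = 244823040 ∧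
      MulAction.IsMultiplyPretransitive S Cfsg.GolayPt 5 := by
  rintro S rfl
  exact ⟨Cfsg.Agent.S0365.result, Cfsg.Agent.S0364.result, Cfsg.Agent.S0366.result⟩

/-- Aut of an S(5, 8, 24) is simple of order 244823040 and 5-transitive on points. -/
theorem result {α : Type*} [Fintype α] [DecidableEq α] (hα : Fintype.card α = 24) {B : Set (Finset α)} (hB : Cfsg.IsSteinerSystem 5 8 B) : Cfsg.IsM24 (Cfsg.setSystemAut B) ∧ MulAction.IsMultiplyPretransitive (Cfsg.setSystemAut B) α 5 := by
  obtain ⟨e, he⟩ := Cfsg.Agent.S0407.result hα card_golayPt hB Cfsg.Agent.S0363.result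
  have he' : imgSys e B = Cfsg.octads := he
  obtain ⟨h1, h2, h3⟩ := octads_facts _ Cfsg.Agent.S0369.result
  refine ⟨⟨?_, ?_⟩, ?_⟩
  · haveI := h1
    exact MulEquiv.isSimpleGroup (autIso e he')
  · rw [Nat.card_congr (autIso e he').toEquiv]
    exact h2
  · exact pretransitive_of_iso e he' 5 h3

end Cfsg.Agent.S0412
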