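import Cfsg.Statements.S0415
import Cfsg.Agent.Lib.Helper11.Sharp
import Cfsg.Agent.Lib.Helper11.Jordan

set_option autoImplicit false
open Cfsg

namespace Cfsg.Agent.S0415

open MulAction Cfsg.Agent.Lib.Helper11

theorem factorization_eq_one_of {n p m : ℕ} (hp : p.Prime) (h : n = p * m) (hm : ¬ p ∣ m) :
    n.factorization p = 1 := by
  have hm0 : m ≠ 0 := by rintro rfl; exact hm (dvd_zero p)
  rw [h, Nat.factorization_mul hp.ne_zero hm0, Finsupp.add_apply, hp.factorization_self,
    Nat.factorization_eq_zero_of_not_dvd hm]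

theorem fact840 : (840 : ℕ).factorization 7 = 1 :=
  factorization_eq_one_of (m := 120) (by norm_num) (by norm_num) (by norm_num)

/-- There is no 2-transitive permutation group of degree 7 and order 840. -/
theorem no_deg7 {α : Type*} [Fintype α] (hα : Fintype.card α = 7)
    (G : Subgroup (Equiv.Perm α)) [MulAction.IsMultiplyPretransitive G α 2]
    (hcard : Nat.card G = 840) : False := by
  have hfin : Finite G := Finite.of_injective (fun g : G => g.1) Subtype.val_injective
  have : Fact (Nat.Prime 7) := ⟨by norm_num⟩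
  have hcα : Nat.card α = 7 := by rw [Nat.card_eq_fintype_card, hα]
  have hprim : IsPreprimitive G α := isPreprimitive_of_is_two_pretransitive inferInstance
  obtain ⟨P⟩ : Nonempty (Sylow 7 G) := inferInstance
  have hP : Nat.card P = 7 := by
    rw [P.card_eq_multiplicity, hcard, fact840, pow_one]
  obtain ⟨r, hr, hNr⟩ := card_normalizer_sylow_prime_degree G 7 hcα P hP
  have hmod := card_sylow_modEq_one 7 G
  rw [P.card_eq_index_normalizer] at hmod
  change (Subgroup.normalizer ((P : Subgroup G) : Set G)).index ≡ 1 [MOD 7] at hmod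
  have hidx := Subgroup.card_mul_index (Subgroup.normalizer ((P : Subgroup G) : Set G))
  rw [hcard, hNr] at hidx
  unfold Nat.ModEq at hmod
  have hr6 : r ≤ 6 := Nat.le_of_dvd (by norm_num) hr
  have hr1 : r = 1 := by
    interval_cases r <;> omega
  rw [hr1, mul_one] at hNr
  have := card_eq_of_normalizer_eq G 7 hcα P hP hNr
  omega

/-- Degrees of sharply 4-transitive permutation groups are 4, 5, 6, 11. -/
theorem result {α : Type*} [Fintype α] [DecidableEq α] (G : Subgroup (Equiv.Perm α)) (h4 : 4 ≤ Fintype.card α) [MulAction.IsMultiplyPretransitive G α 4] (hsharp : ∀ x : Fin 4 ↪ α, MulAction.stabilizer G x = ⊥) : Fintype.card α = 4 ∨ Fintype.card α = 5 ∨ Fintype.card α = 6 ∨ Fintype.card α = 11 := by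
  by_cases hn : Fintype.card α < 7
  · omega
  push Not at hn
  have hT : ∀ u v : Fin 4 ↪ α, ∃ g ∈ G, ∀ i, g (u i) = v i := by
    intro u v
    obtain ⟨g, hg⟩ := trans_elem G 4 u v
    exact ⟨g.1, g.2, hg⟩
  have hS : ∀ g ∈ G, ∀ u : Fin 4 ↪ α, (∀ i, g (u i) = u i) → g = 1 := by
    intro g hg u hu
    have := sharp_elem G 4 hsharp ⟨g, hg⟩ u hu
    exact congrArg Subtype.val this
  rcases jordan_seven_or_eleven G hT hS hn with h7 | h11
  · exfalso
    have hcard : Nat.card G = 840 := by
      rw [card_of_sharply G 4 hsharp (by omega), h7]; rfl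
    have h2 : IsMultiplyPretransitive G α 2 :=
      isMultiplyPretransitive_of_le (n := 4) (by norm_num)
        (by rw [Nat.card_eq_fintype_card, h7]; norm_num)
    exact no_deg7 h7 G hcard
  · right; right; right; exact h11

end Cfsg.Agent.S0415
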