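import Cfsg.Statements.S0416
import Cfsg.Agent.Lib.Helper11.Sharp
import Cfsg.Agent.Lib.Helper11.StabPerm
import Cfsg.Agent.S0415

set_option autoImplicit false
open Cfsg

namespace Cfsg.Agent.S0416

open MulAction Cfsg.Agent.Lib.Helper11

/-- Degrees of sharply 5-transitive permutation groups are 5, 6, 7, 12. -/
theorem result {α : Type*} [Fintype α] [DecidableEq α] (G : Subgroup (Equiv.Perm α)) (h5 : 5 ≤ Fintype.card α) [MulAction.IsMultiplyPretransitive G α 5] (hsharp : ∀ x : Fin 5 ↪ α, MulAction.stabilizer G x = ⊥) : Fintype.card α = 5 ∨ Fintype.card α = 6 ∨ Fintype.card α = 7 ∨ Fintype.card α = 12 := by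
  classical
  have hcα : Nat.card α = Fintype.card α := Nat.card_eq_fintype_card
  have : Nonempty α := by
    rw [← Fintype.card_pos_iff]; omega
  obtain ⟨a⟩ := ‹Nonempty α›
  have h2 : IsMultiplyPretransitive G α 2 :=
    isMultiplyPretransitive_of_le (n := 5) (by norm_num) (by rw [hcα]; omega)
  have h1 : IsPretransitive G α := isPretransitive_of_is_two_pretransitive
  have h4 : IsMultiplyPretransitive (stabilizer G a) (SubMulAction.ofStabilizer G a) 4 :=
    (SubMulAction.ofStabilizer.isMultiplyPretransitive (n := 4)).mp inferInstance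
  let _ : Fintype (SubMulAction.ofStabilizer G a) := Fintype.ofFinite _
  have h4' := stabImage_pretransitive G a 4
  have hs := stabImage_sharp G a 4 hsharp
  have hc : Fintype.card (SubMulAction.ofStabilizer G a) = Fintype.card α - 1 := by
    rw [← Nat.card_eq_fintype_card, SubMulAction.nat_card_ofStabilizer_eq, hcα]
  have := Cfsg.Agent.S0415.result (stabImage G a) (by omega) hs
  omega

end Cfsg.Agent.S0416
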