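import Cfsg.Statements.S0417
import Cfsg.Agent.Lib.Helper11.Sharp
import Cfsg.Agent.Lib.Helper11.StabPerm
import Cfsg.Agent.S0416

set_option autoImplicit false
open Cfsg

namespace Cfsg.Agent.S0417

open MulAction Cfsg.Agent.Lib.Helper11

theorem fact13 : (1235520 : ℕ).factorization 13 = 1 :=
  Cfsg.Agent.S0415.factorization_eq_one_of (m := 95040) (by norm_num) (by norm_num) (by norm_num)

/-- There is no permutation group of degree 13 and order 13 * 12 * 11 * 10 * 9 * 8. -/
theorem no_deg13 {α : Type*} [Fintype α] (hα : Fintype.card α = 13)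
    (G : Subgroup (Equiv.Perm α)) (hcard : Nat.card G = 1235520) : False := by
  have hfin : Finite G := Finite.of_injective (fun g : G => g.1) Subtype.val_injective
  have : Fact (Nat.Prime 13) := ⟨by norm_num⟩
  have hcα : Nat.card α = 13 := by rw [Nat.card_eq_fintype_card, hα]
  obtain ⟨P⟩ : Nonempty (Sylow 13 G) := inferInstance
  have hP : Nat.card P = 13 := by
    rw [P.card_eq_multiplicity, hcard, fact13, pow_one]
  obtain ⟨r, hr, hNr⟩ := card_normalizer_sylow_prime_degree G 13 hcα P hP
  have hmod := card_sylow_modEq_one 13 G
  rw [P.card_eq_index_normalizer] at hmod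
  change (Subgroup.normalizer ((P : Subgroup G) : Set G)).index ≡ 1 [MOD 13] at hmod
  have hidx := Subgroup.card_mul_index (Subgroup.normalizer ((P : Subgroup G) : Set G))
  rw [hcard, hNr] at hidx
  unfold Nat.ModEq at hmod
  have hr12 : r ≤ 12 := Nat.le_of_dvd (by norm_num) hr
  interval_cases r <;> omega

universe u

theorem aux (k : ℕ) (hk : 6 ≤ k) : ∀ (α : Type u) [Fintype α] [DecidableEq α]
    (G : Subgroup (Equiv.Perm α)) [MulAction.IsMultiplyPretransitive G α k],
    (∀ x : Fin k ↪ α, MulAction.stabilizer G x = ⊥) → k ≤ Fintype.card α →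
    Fintype.card α = k ∨ Fintype.card α = k + 1 ∨ Fintype.card α = k + 2 := by
  induction k, hk using Nat.le_induction with
  | base =>
    intro α _ _ G _ hsharp hn
    classical
    have hcα : Nat.card α = Fintype.card α := Nat.card_eq_fintype_card
    have : Nonempty α := by
      rw [← Fintype.card_pos_iff]; omega
    obtain ⟨a⟩ := ‹Nonempty α›
    have h2 : IsMultiplyPretransitive G α 2 :=
      isMultiplyPretransitive_of_le (n := 6) (by norm_num) (by rw [hcα]; omega)
    have h1 : IsPretransitive G α := isPretransitive_of_is_two_pretransitive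
    have h5 : IsMultiplyPretransitive (stabilizer G a) (SubMulAction.ofStabilizer G a) 5 :=
      (SubMulAction.ofStabilizer.isMultiplyPretransitive (n := 5)).mp inferInstance
    let _ : Fintype (SubMulAction.ofStabilizer G a) := Fintype.ofFinite _
    have h5' := stabImage_pretransitive G a 5
    have hs := stabImage_sharp G a 5 hsharp
    have hc : Fintype.card (SubMulAction.ofStabilizer G a) = Fintype.card α - 1 := by
      rw [← Nat.card_eq_fintype_card, SubMulAction.nat_card_ofStabilizer_eq, hcα]
    have := Cfsg.Agent.S0416.result (stabImage G a) (by omega) hs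
    have h13 : Fintype.card α ≠ 13 := by
      intro h13
      have hcard : Nat.card G = 1235520 := by
        rw [card_of_sharply G 6 hsharp (by omega), h13]; rfl
      exact no_deg13 h13 G hcard
    omega
  | succ k hk ih =>
    intro α _ _ G _ hsharp hn
    classical
    have hcα : Nat.card α = Fintype.card α := Nat.card_eq_fintype_card
    have : Nonempty α := by
      rw [← Fintype.card_pos_iff]; omega
    obtain ⟨a⟩ := ‹Nonempty α›
    have h2 : IsMultiplyPretransitive G α 2 :=
      isMultiplyPretransitive_of_le (n := k + 1) (by omega) (by rw [hcα]; omega)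
    have h1 : IsPretransitive G α := isPretransitive_of_is_two_pretransitive
    have hk' : IsMultiplyPretransitive (stabilizer G a) (SubMulAction.ofStabilizer G a) k :=
      (SubMulAction.ofStabilizer.isMultiplyPretransitive (n := k)).mp inferInstance
    let _ : Fintype (SubMulAction.ofStabilizer G a) := Fintype.ofFinite _
    have hk'' := stabImage_pretransitive G a k
    have hs := stabImage_sharp G a k hsharp
    have hc : Fintype.card (SubMulAction.ofStabilizer G a) = Fintype.card α - 1 := by
      rw [← Nat.card_eq_fintype_card, SubMulAction.nat_card_ofStabilizer_eq, hcα]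
    have := ih (SubMulAction.ofStabilizer G a) (stabImage G a) hs (by omega)
    omega

/-- For k ≥ 6, sharply k-transitive groups have degree k, k+1 or k+2. -/
theorem result {α : Type*} [Fintype α] [DecidableEq α] (G : Subgroup (Equiv.Perm α)) (k : ℕ) (hk : 6 ≤ k) (hn : k ≤ Fintype.card α) [MulAction.IsMultiplyPretransitive G α k] (hsharp : ∀ x : Fin k ↪ α, MulAction.stabilizer G x = ⊥) : Fintype.card α = k ∨ Fintype.card α = k + 1 ∨ Fintype.card α = k + 2 :=
  aux k hk α G hsharp hn

end Cfsg.Agent.S0417
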