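import Cfsg.Statements.S0418
import Cfsg.Agent.Lib.Helper11.Sharp

set_option autoImplicit false
open Cfsg

namespace Cfsg.Agent.S0418

open MulAction Cfsg.Agent.Lib.Helper11

theorem factorization_eq_one_of {n p m : ℕ} (hp : p.Prime) (h : n = p * m) (hm : ¬ p ∣ m) :
    n.factorization p = 1 := by
  have hm0 : m ≠ 0 := by rintro rfl; exact hm (dvd_zero p)
  rw [h, Nat.factorization_mul hp.ne_zero hm0, Finsupp.add_apply, hp.factorization_self,
    Nat.factorization_eq_zero_of_not_dvd hm]

theorem fact7920 : (7920 : ℕ).factorization 11 = 1 :=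
  factorization_eq_one_of (m := 720) (by norm_num) (by norm_num) (by norm_num)

/-- In a permutation group of degree 11 and order 7920 the Sylow 11-normalisers have order 55. -/
theorem card_normalizer_eq {α : Type*} [Fintype α] (hα : Fintype.card α = 11)
    (G : Subgroup (Equiv.Perm α)) (hcard : Nat.card G = 7920) (P : Sylow 11 G)
    [Fact (Nat.Prime 11)] :
    Nat.card (Subgroup.normalizer ((P : Subgroup G) : Set G)) = 55 := by
  have hfin : Finite G := Finite.of_injective (fun g : G => g.1) Subtype.val_injective
  have hP : Nat.card P = 11 := by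
    rw [P.card_eq_multiplicity, hcard, fact7920, pow_one]
  obtain ⟨r, hr, hNr⟩ := card_normalizer_sylow_prime_degree G 11
    (by rw [Nat.card_eq_fintype_card, hα]) P hP
  have hmod := card_sylow_modEq_one 11 G
  rw [P.card_eq_index_normalizer] at hmod
  change (Subgroup.normalizer ((P : Subgroup G) : Set G)).index ≡ 1 [MOD 11] at hmod
  have hidx := Subgroup.card_mul_index (Subgroup.normalizer ((P : Subgroup G) : Set G))
  rw [hcard, hNr] at hidx
  unfold Nat.ModEq at hmod
  have hr10 : r ≤ 10 := Nat.le_of_dvd (by norm_num) hr
  rw [hNr]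
  interval_cases r <;> omega


/-- stabiliser of a point inside a subgroup -/
theorem stabilizer_subgroup_eq {α : Type*} (G : Subgroup (Equiv.Perm α)) (M : Subgroup G) (a : α) :
    stabilizer M a = (stabilizer G a).subgroupOf M := by
  ext x
  rfl

/-- A 4-transitive permutation group of degree 11 and order 7920 is simple. -/
theorem simple_of_card (α : Type*) [Fintype α] [DecidableEq α] (hα : Fintype.card α = 11)
    (G : Subgroup (Equiv.Perm α)) [MulAction.IsMultiplyPretransitive G α 4]
    (hcard : Nat.card G = 7920) : IsSimpleGroup G := by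
  have hfin : Finite G := Finite.of_injective (fun g : G => g.1) Subtype.val_injective
  have : Fact (Nat.Prime 11) := ⟨by norm_num⟩
  have hcα : Nat.card α = 11 := by rw [Nat.card_eq_fintype_card, hα]
  have h2 : IsMultiplyPretransitive G α 2 :=
    isMultiplyPretransitive_of_le (n := 4) (by norm_num) (by rw [hcα]; norm_num)
  have h1 : IsPretransitive G α := isPretransitive_of_is_two_pretransitive
  have hprim : IsPreprimitive G α := isPreprimitive_of_is_two_pretransitive h2
  have : Nontrivial G := by
    rw [← Finite.one_lt_card_iff_nontrivial, hcard]; norm_num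
  refine ⟨fun M hMn => ?_⟩
  by_cases hM : M = ⊥
  · exact Or.inl hM
  right
  have := hMn
  have htr : IsPretransitive M α := pretransitive_of_normal_ne_bot G M hM
  have : Nonempty α := by
    rw [← Finite.card_pos_iff, hcα]; norm_num
  have h11 : 11 ∣ Nat.card M := by
    have := card_dvd_of_pretransitive M α
    rwa [hcα] at this
  have hMG : Nat.card M ∣ 7920 := hcard ▸ Subgroup.card_subgroup_dvd_card M
  -- a Sylow 11-subgroup of M
  obtain ⟨Q⟩ : Nonempty (Sylow 11 M) := inferInstance
  have hQ : Nat.card Q = 11 := by
    obtain ⟨k, hk⟩ := IsPGroup.iff_card.mp Q.isPGroup'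
    have hk1 : k ≤ 1 := by
      by_contra hcon
      push Not at hcon
      have h121 : 11 ^ 2 ∣ 11 ^ k := pow_dvd_pow 11 hcon
      have : 11 ^ 2 ∣ 7920 := by
        refine h121.trans (hk ▸ ?_)
        exact (Subgroup.card_subgroup_dvd_card _).trans hMG
      norm_num at this
    have hk0 : k ≠ 0 := by
      rintro rfl
      have := Q.dvd_card_of_dvd_card h11
      rw [hk] at this
      norm_num at this
    have : k = 1 := by omega
    rw [hk, this, pow_one]
  have hQ' : Nat.card ((Q : Subgroup M).map M.subtype) = 11 := by
    rw [Subgroup.card_map_of_injective M.subtype_injective, hQ]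
  let P' : Sylow 11 G := Sylow.ofCard ((Q : Subgroup M).map M.subtype)
    (by rw [hQ', hcard, fact7920, pow_one])
  have hN := card_normalizer_eq hα G hcard P'
  have hfrat := Sylow.normalizer_sup_eq_top Q
  change Subgroup.normalizer (((Q : Subgroup M).map M.subtype : Subgroup G) : Set G) ⊔ M = ⊤
    at hfrat
  change Nat.card (Subgroup.normalizer (((Q : Subgroup M).map M.subtype : Subgroup G) : Set G))
    = 55 at hN
  set N' := Subgroup.normalizer (((Q : Subgroup M).map M.subtype : Subgroup G) : Set G) with hN'
  -- index of M
  have hidx : M.index = M.relIndex N' := by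
    rw [← Subgroup.relIndex_top_right, ← hfrat, Subgroup.relIndex_sup_right]
  have hQle : (Q : Subgroup M).map M.subtype ≤ M ⊓ N' := by
    refine le_inf ?_ Subgroup.le_normalizer
    rintro _ ⟨x, _, rfl⟩
    exact x.2
  have h11' : 11 ∣ Nat.card (M ⊓ N' : Subgroup G) := by
    rw [← hQ']; exact Subgroup.card_dvd_of_le hQle
  have hmul : Nat.card (M ⊓ N' : Subgroup G) * M.relIndex N' = 55 := by
    have := Subgroup.relIndex_mul_relIndex (⊥ : Subgroup G) (M ⊓ N') N' bot_le inf_le_right
    rw [Subgroup.relIndex_bot_left, Subgroup.relIndex_bot_left, Subgroup.inf_relIndex_right,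
      hN] at this
    exact this
  have hidx15 : M.index = 1 ∨ M.index = 5 := by
    rw [hidx]
    obtain ⟨c, hc⟩ := h11'
    rw [hc] at hmul
    have : c * M.relIndex N' = 5 := by nlinarith
    have hdvd : M.relIndex N' ∣ 5 := ⟨c, by rw [mul_comm]; exact this.symm⟩
    rcases (Nat.dvd_prime (by norm_num : Nat.Prime 5)).mp hdvd with h | h
    · exact Or.inl h
    · exact Or.inr h
  rcases hidx15 with h | h
  · exact Subgroup.index_eq_one.mp h
  exfalso
  have hMcard : Nat.card M = 1584 := by
    have := Subgroup.card_mul_index M
    rw [h, hcard] at this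
    omega
  obtain ⟨a⟩ := ‹Nonempty α›
  have hrel : (stabilizer G a).relIndex M = 11 := by
    rw [Subgroup.relIndex, ← stabilizer_subgroup_eq G M a, index_stabilizer_of_transitive M a, hcα]
  have hMS : Nat.card (M ⊓ stabilizer G a : Subgroup G) = 144 := by
    have := Subgroup.relIndex_mul_relIndex (⊥ : Subgroup G) (M ⊓ stabilizer G a) M bot_le
      inf_le_left
    rw [Subgroup.relIndex_bot_left, Subgroup.relIndex_bot_left, Subgroup.inf_relIndex_left, hrel,
      hMcard] at this
    omega
  have hT : Nat.card (M.subgroupOf (stabilizer G a)) = 144 := by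
    rw [← Subgroup.inf_subgroupOf_right,
      Nat.card_congr (Subgroup.subgroupOfEquivOfLe inf_le_right).toEquiv, hMS]
  have hTn : (M.subgroupOf (stabilizer G a)).Normal := inferInstance
  have h3 : IsMultiplyPretransitive (stabilizer G a) (SubMulAction.ofStabilizer G a) 3 :=
    (SubMulAction.ofStabilizer.isMultiplyPretransitive (n := 3)).mp inferInstance
  have hc10 : Nat.card (SubMulAction.ofStabilizer G a) = 10 := by
    rw [SubMulAction.nat_card_ofStabilizer_eq, hcα]
  have h2' : IsMultiplyPretransitive (stabilizer G a) (SubMulAction.ofStabilizer G a) 2 :=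
    isMultiplyPretransitive_of_le (n := 3) (by norm_num) (by rw [hc10]; norm_num)
  have hprim' : IsPreprimitive (stabilizer G a) (SubMulAction.ofStabilizer G a) :=
    isPreprimitive_of_is_two_pretransitive h2'
  have hne10 : Nonempty (SubMulAction.ofStabilizer G a) := by
    rw [← Finite.card_pos_iff, hc10]; norm_num
  by_cases hfix : fixedPoints (M.subgroupOf (stabilizer G a)) (SubMulAction.ofStabilizer G a) =
      Set.univ
  · have hbot : M.subgroupOf (stabilizer G a) = ⊥ := by
      rw [eq_bot_iff]
      intro t ht
      rw [Subgroup.mem_bot]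
      apply Subtype.ext
      apply Subtype.ext
      ext b
      by_cases hb : b = a
      · subst hb
        exact t.2
      · have hmem : (⟨b, hb⟩ : SubMulAction.ofStabilizer G a) ∈
            fixedPoints (M.subgroupOf (stabilizer G a)) (SubMulAction.ofStabilizer G a) := by
          rw [hfix]; trivial
        have := hmem ⟨t, ht⟩
        exact congrArg Subtype.val this
    rw [hbot, Subgroup.card_bot] at hT
    omega
  · have := IsQuasiPreprimitive.isPretransitive_of_normal (G := stabilizer G a)
      (N := M.subgroupOf (stabilizer G a)) hfix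
    have hdvd := card_dvd_of_pretransitive (M.subgroupOf (stabilizer G a))
      (SubMulAction.ofStabilizer G a)
    rw [hc10, hT] at hdvd
    norm_num at hdvd

/-- A sharply 4-transitive group of degree 11 is simple of order 7920. -/
theorem result {α : Type*} [Fintype α] [DecidableEq α] (hα : Fintype.card α = 11) (G : Subgroup (Equiv.Perm α)) [MulAction.IsMultiplyPretransitive G α 4] (hsharp : ∀ x : Fin 4 ↪ α, MulAction.stabilizer G x = ⊥) : Cfsg.IsM11 G := by
  have hcard : Nat.card G = 7920 := by
    rw [card_of_sharply G 4 hsharp (by omega), hα]; rfl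
  refine ⟨?_, hcard⟩
  exact simple_of_card α hα G hcard

end Cfsg.Agent.S0418
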