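import Cfsg.Statements.S0419
import Cfsg.Agent.Lib.Helper11.Sharp
import Cfsg.Agent.Lib.Helper11.StabPerm
import Cfsg.Agent.S0418

set_option autoImplicit false
open Cfsg

namespace Cfsg.Agent.S0419

open MulAction Cfsg.Agent.Lib.Helper11

/-- A 5-transitive permutation group of degree 12 and order 95040 is simple. -/
theorem simple_of_card (α : Type*) [Fintype α] [DecidableEq α] (hα : Fintype.card α = 12)
    (G : Subgroup (Equiv.Perm α)) [MulAction.IsMultiplyPretransitive G α 5]
    (hcard : Nat.card G = 95040) : IsSimpleGroup G := by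
  classical
  have hfin : Finite G := Finite.of_injective (fun g : G => g.1) Subtype.val_injective
  have hcα : Nat.card α = 12 := by rw [Nat.card_eq_fintype_card, hα]
  have h2 : IsMultiplyPretransitive G α 2 :=
    isMultiplyPretransitive_of_le (n := 5) (by norm_num) (by rw [hcα]; norm_num)
  have h1 : IsPretransitive G α := isPretransitive_of_is_two_pretransitive
  have hprim : IsPreprimitive G α := isPreprimitive_of_is_two_pretransitive h2
  have : Nontrivial G := by
    rw [← Finite.one_lt_card_iff_nontrivial, hcard]; norm_num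
  have : Nonempty α := by
    rw [← Finite.card_pos_iff, hcα]; norm_num
  obtain ⟨a⟩ := ‹Nonempty α›
  -- the stabiliser is simple
  have hScard : Nat.card (stabilizer G a) = 7920 := by
    have h := Subgroup.card_mul_index (stabilizer G a)
    rw [index_stabilizer_of_transitive G a, hcα, hcard] at h
    omega
  have h4 : IsMultiplyPretransitive (stabilizer G a) (SubMulAction.ofStabilizer G a) 4 :=
    (SubMulAction.ofStabilizer.isMultiplyPretransitive (n := 4)).mp inferInstance
  have hc11 : Nat.card (SubMulAction.ofStabilizer G a) = 11 := by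
    rw [SubMulAction.nat_card_ofStabilizer_eq, hcα]
  have hSsimple : IsSimpleGroup (stabilizer G a) := by
    let _ : Fintype (SubMulAction.ofStabilizer G a) := Fintype.ofFinite _
    have h4' := stabImage_pretransitive G a 4
    have hsimple := Cfsg.Agent.S0418.simple_of_card (SubMulAction.ofStabilizer G a)
      (by rw [← Nat.card_eq_fintype_card, hc11]) (stabImage G a)
      (by rw [stabImage_card, hScard])
    exact (stabEquiv G a).isSimpleGroup
  refine ⟨fun M hMn => ?_⟩
  by_cases hM : M = ⊥
  · exact Or.inl hM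
  right
  have := hMn
  have htr : IsPretransitive M α := pretransitive_of_normal_ne_bot G M hM
  have hrel : (stabilizer G a).relIndex M = 12 := by
    rw [Subgroup.relIndex, ← Cfsg.Agent.S0418.stabilizer_subgroup_eq G M a,
      index_stabilizer_of_transitive M a, hcα]
  have hMS : Nat.card (M ⊓ stabilizer G a : Subgroup G) * 12 = Nat.card M := by
    have := Subgroup.relIndex_mul_relIndex (⊥ : Subgroup G) (M ⊓ stabilizer G a) M bot_le
      inf_le_left
    rw [Subgroup.relIndex_bot_left, Subgroup.relIndex_bot_left, Subgroup.inf_relIndex_left, hrel]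
      at this
    exact this
  have hTn : (M.subgroupOf (stabilizer G a)).Normal := inferInstance
  rcases hTn.eq_bot_or_eq_top with hT | hT
  · -- M is regular of order 12
    exfalso
    have hinf : M ⊓ stabilizer G a = ⊥ := by
      rw [← disjoint_iff]; exact Subgroup.subgroupOf_eq_bot.mp hT
    rw [hinf, Subgroup.card_bot, one_mul] at hMS
    have hfree : ∀ m : G, m ∈ M → m • a = a → m = 1 := by
      intro m hm hma
      have : m ∈ M ⊓ stabilizer G a := ⟨hm, hma⟩
      rw [hinf] at this
      exact this
    have : Fact (Nat.Prime 2) := ⟨Nat.prime_two⟩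
    have : Fact (Nat.Prime 3) := ⟨Nat.prime_three⟩
    obtain ⟨m₂, hm₂⟩ := exists_prime_orderOf_dvd_card' (G := M) 2 (by rw [← hMS]; norm_num)
    obtain ⟨m₃, hm₃⟩ := exists_prime_orderOf_dvd_card' (G := M) 3 (by rw [← hMS]; norm_num)
    have hb₂ : m₂.1 • a ≠ a := by
      intro h
      have h1 := hfree m₂.1 m₂.2 h
      have : m₂ = 1 := Subtype.ext h1
      rw [this, orderOf_one] at hm₂
      omega
    have hb₃ : m₃.1 • a ≠ a := by
      intro h
      have h1 := hfree m₃.1 m₃.2 h
      have : m₃ = 1 := Subtype.ext h1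
      rw [this, orderOf_one] at hm₃
      omega
    rw [is_two_pretransitive_iff] at h2
    obtain ⟨s, hsa, hsb⟩ := h2 (Ne.symm hb₂) (Ne.symm hb₃)
    have hn : s * m₂.1 * s⁻¹ ∈ M := hMn.conj_mem m₂.1 m₂.2 s
    have hna : (s * m₂.1 * s⁻¹) • a = m₃.1 • a := by
      have : s⁻¹ • a = a := by rw [inv_smul_eq_iff, hsa]
      rw [mul_smul, mul_smul, this, hsb]
    have heq : m₃.1⁻¹ * (s * m₂.1 * s⁻¹) = 1 := by
      apply hfree _ (mul_mem (inv_mem m₃.2) hn)
      rw [mul_smul, hna, inv_smul_smul]
    have heq' : s * m₂.1 * s⁻¹ = m₃.1 := (inv_mul_eq_one.mp heq).symm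
    have ho : orderOf (s * m₂.1 * s⁻¹) = 2 := by
      have := (MulAut.conj s).orderOf_eq m₂.1
      rw [MulAut.conj_apply] at this
      rw [this, Subgroup.orderOf_coe, hm₂]
    rw [heq', Subgroup.orderOf_coe, hm₃] at ho
    omega
  · -- the stabiliser lies in M
    have hle : stabilizer G a ≤ M := Subgroup.subgroupOf_eq_top.mp hT
    have : M ⊓ stabilizer G a = stabilizer G a := inf_of_le_right hle
    rw [this, hScard] at hMS
    apply Subgroup.eq_top_of_card_eq
    rw [← hMS, hcard]

/-- A sharply 5-transitive group of degree 12 is simple of order 95040. -/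
theorem result {α : Type*} [Fintype α] [DecidableEq α] (hα : Fintype.card α = 12) (G : Subgroup (Equiv.Perm α)) [MulAction.IsMultiplyPretransitive G α 5] (hsharp : ∀ x : Fin 5 ↪ α, MulAction.stabilizer G x = ⊥) : Cfsg.IsM12 G := by
  have hcard : Nat.card G = 95040 := by
    rw [card_of_sharply G 5 hsharp (by omega), hα]; rfl
  exact ⟨simple_of_card α hα G hcard, hcard⟩

end Cfsg.Agent.S0419
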