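import Cfsg.Statements.S0423
import Cfsg.Agent.Lib.Helper25.TCSJ2XMain

set_option autoImplicit false
open Cfsg

namespace Cfsg.Agent.S0423

/-- Existence of a simple group of order 604800. -/
theorem result : ∃ G : Subgroup (Equiv.Perm (Fin 100)), Cfsg.IsJ2 G := by
  obtain ⟨P, hsimple, hcard⟩ := Cfsg.Agent.Lib.Helper25.TC.exists_perm_group_of_simple_card
    Cfsg.Agent.Lib.Helper25.TC.SJ2_100.setup Cfsg.Agent.Lib.Helper25.TC.SJ2_100.checks 604800
    Cfsg.Agent.Lib.Helper25.TC.SJ2X.simple_card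
  exact ⟨P, hsimple, hcard⟩

end Cfsg.Agent.S0423
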