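import Cfsg.Statements.S0432

set_option autoImplicit false
open Cfsg

namespace Cfsg.Agent.S0432

open scoped Pointwise

/-- precomposition with a permutation as an additive map -/
def compHom (σ : Equiv.Perm Cfsg.GolayPt) : (Cfsg.GolayPt → ℤ) →+ (Cfsg.GolayPt → ℤ) where
  toFun x := fun i => x (σ i)
  map_zero' := rfl
  map_add' _ _ := rfl

theorem mem_leechSet_comp (σ : Equiv.Perm Cfsg.GolayPt) (hσ : σ ∈ Cfsg.M24)
    (x : Cfsg.GolayPt → ℤ) (hx : x ∈ Cfsg.leechSet) : (fun i => x (σ i)) ∈ Cfsg.leechSet := by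
  obtain ⟨m, h1, h2, h3⟩ := hx
  refine ⟨m, fun i => h1 (σ i), ?_, fun k => ?_⟩
  · rw [Equiv.sum_comp σ x]; exact h2
  · have hσ' : σ⁻¹ ∈ Cfsg.M24 := inv_mem hσ
    have hstab : σ⁻¹ • (Cfsg.supports (Cfsg.golayCode : Set (Cfsg.GolayPt → ZMod 2))) =
        Cfsg.supports (Cfsg.golayCode : Set (Cfsg.GolayPt → ZMod 2)) := hσ'
    have hk := h3 k
    have hmem : σ⁻¹ • (Finset.univ.filter fun i => x i ≡ k [ZMOD 4]) ∈
        σ⁻¹ • (Cfsg.supports (Cfsg.golayCode : Set (Cfsg.GolayPt → ZMod 2))) :=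
      Set.smul_mem_smul_set hk
    rw [hstab] at hmem
    have heq : σ⁻¹ • (Finset.univ.filter fun i => x i ≡ k [ZMOD 4]) =
        (Finset.univ.filter fun i => x (σ i) ≡ k [ZMOD 4]) := by
      ext i
      simp only [Finset.mem_smul_finset, Finset.mem_filter, Finset.mem_univ, true_and]
      constructor
      · rintro ⟨j, hj, rfl⟩
        simpa using hj
      · intro hi
        exact ⟨σ i, hi, by simp⟩
    rw [heq] at hmem
    exact hmem

/-- Coordinate permutations from the code's group preserve the lattice. -/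
theorem result (σ : Equiv.Perm Cfsg.GolayPt) (hσ : σ ∈ Cfsg.M24) (x : Cfsg.GolayPt → ℤ) (hx : x ∈ Cfsg.leechLattice) : (fun i => x (σ i)) ∈ Cfsg.leechLattice := by
  have hle : Cfsg.leechLattice ≤ Cfsg.leechLattice.comap (compHom σ) := by
    unfold Cfsg.leechLattice
    rw [AddSubgroup.closure_le]
    intro y hy
    exact AddSubgroup.subset_closure (mem_leechSet_comp σ hσ y hy)
  exact hle hx

end Cfsg.Agent.S0432
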