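import Cfsg.Statements.S0433
import Cfsg.Agent.Lib.Helper11.Golay

set_option autoImplicit false
open Cfsg

namespace Cfsg.Agent.S0433

open Cfsg.Agent.Lib.Helper11

/-- sign change on a set of coordinates as an additive map -/
def signHom (c : Finset Cfsg.GolayPt) : (Cfsg.GolayPt → ℤ) →+ (Cfsg.GolayPt → ℤ) where
  toFun x := fun i => if i ∈ c then -x i else x i
  map_zero' := by funext i; simp
  map_add' x y := by funext i; by_cases h : i ∈ c <;> simp [h, add_comm]

theorem four_dvd_sum (wc : GolayPt → ZMod 2) (hwc : wc ∈ golayCode) (x : GolayPt → ℤ) (m : ℤ)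
    (h1 : ∀ i, x i ≡ m [ZMOD 2])
    (h3 : (Finset.univ.filter fun i => x i ≡ m + 2 [ZMOD 4]) ∈
      supports (golayCode : Set (GolayPt → ZMod 2))) :
    (4 : ℤ) ∣ ∑ i ∈ support₂ wc, x i := by
  obtain ⟨ws, hws, hS⟩ := h3
  have hpt : ∀ i, (4 : ℤ) ∣ x i - m - 2 * (if x i ≡ m + 2 [ZMOD 4] then 1 else 0) := by
    intro i
    have := h1 i
    unfold Int.ModEq at this
    split_ifs with h
    · unfold Int.ModEq at h; omega
    · unfold Int.ModEq at h; omega
  have hsum : ∑ i ∈ support₂ wc, x i =
      ∑ i ∈ support₂ wc, (x i - m - 2 * (if x i ≡ m + 2 [ZMOD 4] then 1 else 0)) +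
        ((support₂ wc).card : ℤ) * m +
        2 * ((support₂ wc ∩ support₂ ws).card : ℤ) := by
    have e1 : ((support₂ wc ∩ support₂ ws).card : ℤ) =
        ∑ i ∈ support₂ wc, (if x i ≡ m + 2 [ZMOD 4] then 1 else 0) := by
      rw [hS, ← Finset.filter_univ_mem (support₂ wc), ← Finset.filter_and, Finset.card_filter]
      push_cast
      rw [Finset.sum_filter]
      apply Finset.sum_congr rfl
      intro i _
      by_cases h : i ∈ support₂ wc <;> simp [h]
    rw [e1, Finset.mul_sum, Finset.sum_sub_distrib, Finset.sum_sub_distrib,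
      Finset.sum_const, nsmul_eq_mul]
    ring
  rw [hsum]
  apply dvd_add
  · apply dvd_add
    · exact Finset.dvd_sum fun i _ => hpt i
    · have := four_dvd_card_support hwc
      exact Dvd.dvd.mul_right (by exact_mod_cast this) m
  · obtain ⟨k, hk⟩ := even_card_inter hwc hws
    rw [hk]
    push_cast
    exact ⟨k, by ring⟩

theorem mem_leechSet_sign (c : Finset Cfsg.GolayPt)
    (hc : c ∈ Cfsg.supports (Cfsg.golayCode : Set (Cfsg.GolayPt → ZMod 2)))
    (x : Cfsg.GolayPt → ℤ) (hx : x ∈ Cfsg.leechSet) :
    (fun i => if i ∈ c then -x i else x i) ∈ Cfsg.leechSet := by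
  obtain ⟨wc, hwc, rfl⟩ := hc
  obtain ⟨m, h1, h2, h3⟩ := hx
  refine ⟨m, ?_, ?_, ?_⟩
  · intro i
    have := h1 i
    unfold Int.ModEq at this
    show (if i ∈ support₂ wc then -x i else x i) % 2 = m % 2
    split_ifs <;> omega
  · have h4 := four_dvd_sum wc hwc x m h1 (h3 (m + 2))
    have hs : ∑ i, (if i ∈ support₂ wc then -x i else x i) =
        ∑ i, x i - 2 * ∑ i ∈ support₂ wc, x i := by
      have hpt : ∀ i, (if i ∈ support₂ wc then -x i else x i) =
          x i - 2 * (if i ∈ support₂ wc then x i else 0) := by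
        intro i; split_ifs <;> ring
      simp_rw [hpt]
      rw [Finset.sum_sub_distrib, ← Finset.mul_sum, Finset.sum_ite_mem, Finset.univ_inter]
    show (∑ i, (if i ∈ support₂ wc then -x i else x i)) ≡ 4 * m [ZMOD 8]
    rw [hs]
    obtain ⟨k, hk⟩ := h4
    rw [hk]
    unfold Int.ModEq at h2 ⊢
    omega
  · intro k
    show (Finset.univ.filter fun i => (if i ∈ support₂ wc then -x i else x i) ≡ k [ZMOD 4]) ∈
      supports (golayCode : Set (GolayPt → ZMod 2))
    have hcongr : (∀ i, ((if i ∈ support₂ wc then -x i else x i) ≡ k [ZMOD 4]) ↔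
        (x i ≡ k [ZMOD 4])) →
        (Finset.univ.filter fun i => (if i ∈ support₂ wc then -x i else x i) ≡ k [ZMOD 4]) ∈
          supports (golayCode : Set (GolayPt → ZMod 2)) := by
      intro h
      have : (Finset.univ.filter fun i => (if i ∈ support₂ wc then -x i else x i) ≡ k [ZMOD 4]) =
          (Finset.univ.filter fun i => x i ≡ k [ZMOD 4]) :=
        Finset.filter_congr fun i _ => h i
      rw [this]
      exact h3 k
    rcases Int.emod_two_eq_zero_or_one m with hm | hm
    · apply hcongr
      intro i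
      have := h1 i
      unfold Int.ModEq at this ⊢
      split_ifs
      · omega
      · rfl
    rcases Int.emod_two_eq_zero_or_one k with hk | hk
    · apply hcongr
      intro i
      have := h1 i
      unfold Int.ModEq at this ⊢
      split_ifs
      · omega
      · rfl
    obtain ⟨ws, hws, hS⟩ := h3 k
    have hmem : ∀ i, ws i ≠ 0 ↔ x i ≡ k [ZMOD 4] := by
      intro i
      have := Finset.ext_iff.1 hS i
      simpa [support₂] using this
    refine ⟨ws + wc, golayCode.add_mem hws hwc, ?_⟩
    ext i
    simp only [support₂, Finset.mem_filter, Finset.mem_univ, true_and, Pi.add_apply]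
    rw [zmod2_add_ne_zero, hmem]
    by_cases hi : wc i = 0
    · simp [hi]
    · rw [if_pos hi]
      simp only [hi, iff_false]
      have := h1 i
      unfold Int.ModEq at this ⊢
      omega

/-- Sign changes on the support of a codeword preserve the lattice. -/
theorem result (c : Finset Cfsg.GolayPt) (hc : c ∈ Cfsg.supports (Cfsg.golayCode : Set (Cfsg.GolayPt → ZMod 2))) (x : Cfsg.GolayPt → ℤ) (hx : x ∈ Cfsg.leechLattice) : (fun i => if i ∈ c then -x i else x i) ∈ Cfsg.leechLattice := by
  have hle : Cfsg.leechLattice ≤ Cfsg.leechLattice.comap (signHom c) := by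
    unfold Cfsg.leechLattice
    rw [AddSubgroup.closure_le]
    intro y hy
    exact AddSubgroup.subset_closure (mem_leechSet_sign c hc y hy)
  exact hle hx

end Cfsg.Agent.S0433
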