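import Cfsg.Statements.S0436
import Cfsg.Agent.Lib.Helper11.ThreeTransp

set_option autoImplicit false
open Cfsg

namespace Cfsg.Agent.S0436

open Cfsg.Agent.Lib.Helper11

/-- For distinct commuting members a, b of a set of 3-transpositions E, a member e of E centralises the product a * b if and only if it centralises both a and b. -/
theorem result {G : Type*} [Group G] {E : Set G} (hE : Cfsg.IsThreeTranspositionSet E) {a b e : G} (ha : a ∈ E) (hb : b ∈ E) (he : e ∈ E) (hab : a ≠ b) (hcomm : Commute a b) : Commute e (a * b) ↔ (Commute e a ∧ Commute e b) := by
  have ha2 := tt_mul_self hE ha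
  have hb2 := tt_mul_self hE hb
  have he2 := tt_mul_self hE he
  have hainv := tt_inv hE ha
  have hbinv := tt_inv hE hb
  constructor
  · intro h
    rcases tt_commute_or_braid hE he ha with h1 | h1
    · refine ⟨h1, ?_⟩
      have : b = a⁻¹ * (a * b) := by group
      rw [this]
      exact (h1.inv_right).mul_right h
    rcases tt_commute_or_braid hE he hb with h2 | h2
    · refine ⟨?_, h2⟩
      have : a = (a * b) * b⁻¹ := by group
      rw [this]
      exact h.mul_right h2.inv_right
    exfalso
    apply hab
    -- a e a = b e b
    have h' : e * (a * b) = (a * b) * e := h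
    have hc : a * b = b * a := hcomm
    have key : a * e * a = b * e * b := by
      calc a * e * a = a * (e * (a * b)) * b := by simp [mul_assoc, hb2]
        _ = a * ((a * b) * e) * b := by rw [h']
        _ = (a * a) * b * e * b := by simp [mul_assoc]
        _ = b * e * b := by rw [ha2, one_mul]
    -- e a e = e b e
    have key2 : e * a * e = e * b * e := by rw [h1, h2, key]
    have := mul_right_cancel (mul_left_cancel (by simpa [mul_assoc] using key2 : e * (a * e) = e * (b * e)))
    exact this
  · rintro ⟨h1, h2⟩
    exact h1.mul_right h2

end Cfsg.Agent.S0436
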