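import Cfsg.Statements.S0437
import Cfsg.Agent.Lib.Helper11.ThreeTransp
import Cfsg.Agent.S0436

set_option autoImplicit false
open Cfsg

namespace Cfsg.Agent.S0437

open Cfsg.Agent.Lib.Helper11

/-- For three distinct, pairwise commuting members a, b, c of a set of 3-transpositions E, a member e of E centralises a * b * c if and only if it centralises each of a, b and c. -/
theorem result {G : Type*} [Group G] {E : Set G} (hE : Cfsg.IsThreeTranspositionSet E) {a b c e : G} (ha : a ∈ E) (hb : b ∈ E) (hc : c ∈ E) (he : e ∈ E) (hab : a ≠ b) (hac : a ≠ c) (hbc : b ≠ c) (h₁ : Commute a b) (h₂ : Commute a c) (h₃ : Commute b c) : Commute e (a * b * c) ↔ (Commute e a ∧ Commute e b ∧ Commute e c) := by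
  have ha2 := tt_mul_self hE ha
  have hb2 := tt_mul_self hE hb
  have hc2 := tt_mul_self hE hc
  have he2 := tt_mul_self hE he
  have ha2' : ∀ x, a * (a * x) = x := fun x => by rw [← mul_assoc, ha2, one_mul]
  have hb2' : ∀ x, b * (b * x) = x := fun x => by rw [← mul_assoc, hb2, one_mul]
  have hc2' : ∀ x, c * (c * x) = x := fun x => by rw [← mul_assoc, hc2, one_mul]
  have he2' : ∀ x, e * (e * x) = x := fun x => by rw [← mul_assoc, he2, one_mul]
  have hainv := tt_inv hE ha
  have hbinv := tt_inv hE hb
  have hcinv := tt_inv hE hc
  constructor
  · intro h
    rcases tt_commute_or_braid hE he ha with h1 | h1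
    · -- e commutes with a, hence with b * c
      have hbc' : Commute e (b * c) := by
        have : b * c = a⁻¹ * (a * b * c) := by group
        rw [this]
        exact (h1.inv_right).mul_right h
      have := (Cfsg.Agent.S0436.result hE hb hc he hbc h₃).1 hbc'
      exact ⟨h1, this.1, this.2⟩
    rcases tt_commute_or_braid hE he hb with h2 | h2
    · have hac' : Commute e (a * c) := by
        have : a * c = (a * b * c) * b⁻¹ := by
          rw [mul_assoc a b c, h₃.eq]; group
        rw [this]
        exact h.mul_right h2.inv_right
      have := (Cfsg.Agent.S0436.result hE ha hc he hac h₂).1 hac'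
      exact ⟨this.1, h2, this.2⟩
    rcases tt_commute_or_braid hE he hc with h3 | h3
    · have hab' : Commute e (a * b) := by
        have : a * b = (a * b * c) * c⁻¹ := by group
        rw [this]
        exact h.mul_right h3.inv_right
      have := (Cfsg.Agent.S0436.result hE ha hb he hab h₁).1 hab'
      exact ⟨this.1, this.2, h3⟩
    exfalso
    have hz : e * (a * b * c) = (a * b * c) * e := h
    have hcb : c * b = b * c := h₃.eq.symm
    have hba : b * a = a * b := h₁.eq.symm
    -- step 2
    have key2 : a * e * a = b * c * e * c * b := by
      calc a * e * a = a * (e * (a * b * c)) * (c * b) := by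
            simp only [mul_assoc, hc2', hb2, mul_one]
        _ = a * ((a * b * c) * e) * (c * b) := by rw [hz]
        _ = b * c * e * c * b := by simp only [mul_assoc, ha2']
    -- step 3
    have key3 : e * a * e = b * (e * c * e) * b := by
      rw [h1, key2, h3]; simp only [mul_assoc]
    -- step 4
    have key4 : a = b * (e * c * e) * b := by
      have : a = e * (e * a * e) * e := by
        simp only [mul_assoc, he2', he2, mul_one]
      rw [this, key3]
      calc e * (b * (e * c * e) * b) * e = (e * b * e) * c * (e * b * e) := by
            simp only [mul_assoc]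
        _ = (b * e * b) * c * (b * e * b) := by rw [h2]
        _ = b * e * (b * c * b) * e * b := by simp only [mul_assoc]
        _ = b * (e * c * e) * b := by
            have : b * c * b = c := by rw [← hcb, mul_assoc, hb2, mul_one]
            rw [this]; simp only [mul_assoc]
    -- step 5
    have key5 : a = e * c * e := by
      have h5 : b * a * b = e * c * e := by
        rw [key4]; simp only [mul_assoc, hb2', hb2, mul_one]
      have h6 : b * a * b = a := by rw [hba, mul_assoc, hb2, mul_one]
      rw [← h6, h5]
    -- step 6
    have key6 : a = c * e * c := by rw [key5, h3]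
    have hca : a * c = c * a := h₂.eq
    rw [key6] at hca
    have : c * e = e * c := by
      have := hca
      simp only [mul_assoc, hc2, mul_one, hc2'] at this
      exact this
    -- now e commutes with c; braid gives contradiction
    have hcomm : Commute e c := this.symm
    apply hac
    rw [key5, hcomm.eq, mul_assoc, he2, mul_one]
  · rintro ⟨h1, h2, h3⟩
    exact (h1.mul_right h2).mul_right h3

end Cfsg.Agent.S0437
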