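import Cfsg.Statements.S0438

set_option autoImplicit false
open Cfsg

namespace Cfsg.Agent.S0438

/-- Let E be a set of 3-transpositions closed under conjugation, and x an involutory automorphism of the group mapping E to itself. If some a in E fails to commute with its image x a, then x fixes an element of E. -/
theorem result {G : Type*} [Group G] {E : Set G} (hE : Cfsg.IsThreeTranspositionSet E) (hconj : ∀ g : G, ∀ d ∈ E, g * d * g⁻¹ ∈ E) (x : G ≃* G) (hx : ∀ g : G, x (x g) = g) (hxE : ∀ d ∈ E, x d ∈ E) {a : G} (ha : a ∈ E) (h : ¬ Commute a (x a)) : ∃ d ∈ E, x d = d := by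
  obtain ⟨hord, hprod⟩ := hE
  have hb : x a ∈ E := hxE a ha
  set b := x a with hbdef
  have ha2 : a * a = 1 := by
    have := hord a ha
    rw [← pow_two, ← this, pow_orderOf_eq_one]
  have hb2 : b * b = 1 := by
    have := hord b hb
    rw [← pow_two, ← this, pow_orderOf_eq_one]
  have hainv : a⁻¹ = a := inv_eq_of_mul_eq_one_right ha2
  have hbinv : b⁻¹ = b := inv_eq_of_mul_eq_one_right hb2
  have h3 : (a * b) ^ 3 = 1 := by
    rcases hprod a ha b hb with h2 | h3
    · exfalso
      apply h
      -- a b a b = 1 → a b = b⁻¹ a⁻¹ = b a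
      have : a * b * (a * b) = 1 := by rw [← pow_two]; exact h2
      have h' : a * b = (a * b)⁻¹ := eq_inv_of_mul_eq_one_left this
      rw [mul_inv_rev, hainv, hbinv] at h'
      exact h'
    · exact h3
  -- braid: a b a = b a b
  have hbraid : a * b * a = b * a * b := by
    have h3' : a * b * (a * b) * (a * b) = 1 := by
      rw [← h3, pow_succ, pow_two]
    have : a * b * a = (b * a * b)⁻¹ := by
      apply eq_inv_of_mul_eq_one_left
      rw [← h3']; group
    rw [this, mul_inv_rev, mul_inv_rev, hainv, hbinv, mul_assoc]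
  refine ⟨a * b * a⁻¹, hconj a b hb, ?_⟩
  rw [hainv, map_mul, map_mul, hx a]
  exact hbraid.symm

end Cfsg.Agent.S0438
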