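import Cfsg.Statements.S0439

set_option autoImplicit false
open Cfsg

namespace Cfsg.Agent.S0439

open Equiv Equiv.Perm

theorem swap_mul_swap_pow {α : Type*} [DecidableEq α] [Fintype α] {a b c d : α}
    (hab : a ≠ b) (hcd : c ≠ d) :
    (swap a b * swap c d) ^ 2 = 1 ∨ (swap a b * swap c d) ^ 3 = 1 := by
  have three : ∀ {x y z : α}, x ≠ y → x ≠ z → y ≠ z → (swap x y * swap x z) ^ 3 = 1 := by
    intro x y z hxy hxz hyz
    have := (isThreeCycle_swap_mul_swap_same hxy hxz hyz).orderOf
    rw [← this, pow_orderOf_eq_one]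
  by_cases hac : a = c
  · subst hac
    by_cases hbd : b = d
    · subst hbd
      left; simp
    · right; exact three hab hcd hbd
  by_cases had : a = d
  · subst had
    rw [swap_comm c a]
    by_cases hbc : b = c
    · subst hbc
      left; simp
    · right; exact three hab (Ne.symm hcd) hbc
  by_cases hbc : b = c
  · subst hbc
    rw [swap_comm a b]
    right; exact three (Ne.symm hab) hcd had
  by_cases hbd : b = d
  · subst hbd
    rw [swap_comm a b, swap_comm c b]
    right; exact three (Ne.symm hab) (Ne.symm hcd) hac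
  left
  have hdisj : Perm.Disjoint (swap a b) (swap c d) := by
    apply disjoint_swap_swap
    simp [hab, hac, had, hbc, hbd, hcd]
  rw [hdisj.commute.mul_pow]
  simp [pow_two]

/-- In the symmetric group of degree n ≥ 2, the set of transpositions is a conjugacy class of 3-transpositions which generates the group. -/
theorem result (n : ℕ) (hn : 2 ≤ n) : Cfsg.IsThreeTranspositionClass {σ : Equiv.Perm (Fin n) | σ.IsSwap} := by
  refine ⟨⟨?_, ?_⟩, ?_, ?_⟩
  · intro d hd
    exact IsSwap.orderOf hd
  · rintro d ⟨a, b, hab, rfl⟩ e ⟨c, d', hcd, rfl⟩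
    exact swap_mul_swap_pow hab hcd
  · have h01 : (⟨0, by omega⟩ : Fin n) ≠ ⟨1, by omega⟩ := by
      intro h; simp [Fin.ext_iff] at h
    refine ⟨swap ⟨0, by omega⟩ ⟨1, by omega⟩, ⟨_, _, h01, rfl⟩, ?_⟩
    ext σ
    show σ.IsSwap ↔ IsConj _ σ
    rw [isConj_iff_cycleType_eq, isSwap_iff_cycleType,
      isSwap_iff_cycleType.mp ⟨_, _, h01, rfl⟩]
    exact eq_comm
  · exact closure_isSwap

end Cfsg.Agent.S0439
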