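import Cfsg.Statements.S0440
import Cfsg.Agent.Lib.Helper11.Sp2

set_option autoImplicit false
open Cfsg

namespace Cfsg.Agent.S0440

open Cfsg.Agent.Lib.Helper11.Sp2 in
/-- In the symplectic group in dimension 2n ≥ 2 over the field with two elements, the elements g for which g - 1 has rank one (the symplectic transvections) form a conjugacy class of 3-transpositions generating the group. -/
theorem result (n : ℕ) (hn : 1 ≤ n) : Cfsg.IsThreeTranspositionClass {g : Matrix.symplecticGroup (Fin n) (ZMod 2) | ((g : Matrix (Fin n ⊕ Fin n) (Fin n ⊕ Fin n) (ZMod 2)) - 1).rank = 1} := by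
  have he : (Pi.single (Sum.inl (⟨0, hn⟩ : Fin n)) 1 : Fin n ⊕ Fin n → ZMod 2) ≠ 0 := by
    intro h
    have := congrFun h (Sum.inl ⟨0, hn⟩)
    simp at this
  refine ⟨⟨?_, ?_⟩, ⟨tv (Pi.single (Sum.inl (⟨0, hn⟩ : Fin n)) 1), ?_, D_eq_conj he⟩,
    closure_D_eq_top⟩
  · intro d hd
    obtain ⟨w, hw, rfl⟩ := (rank_iff d).mp hd
    exact orderOf_tv hw
  · intro d hd e he'
    obtain ⟨w, -, rfl⟩ := (rank_iff d).mp hd
    obtain ⟨v, -, rfl⟩ := (rank_iff e).mp he'
    exact tv_three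
  · exact (rank_iff _).mpr ⟨_, he, rfl⟩

end Cfsg.Agent.S0440
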