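import Cfsg.Statements.S0441
import Cfsg.Agent.Lib.Helper36.Fischer6
import Cfsg.Agent.Lib.Helper36.Fischer7
import Cfsg.Agent.Lib.Helper36.Fischer9
import Cfsg.Agent.S5354

set_option autoImplicit false
open Cfsg

namespace Cfsg.Agent.S0441

open Cfsg.Agent.Lib.Helper36.Fischer Cfsg.Agent.Lib.Helper91

/-- Fischer's rank three theorem. -/
theorem result {G : Type*} [Group G] [Finite G] {D : Set G} (hD : Cfsg.IsThreeTranspositionClass D) (hsimple : IsSimpleGroup (commutator G)) (hnonab : ∃ x y : commutator G, x * y ≠ y * x) {a : G} (ha : a ∈ D) : (∃ b ∈ D, b ≠ a ∧ Commute a b) ∧ (∃ c ∈ D, ¬ Commute a c) ∧ (∀ b ∈ D, ∀ b' ∈ D, b ≠ a → b' ≠ a → Commute a b → Commute a b' → ∃ g : G, Commute g a ∧ g * b * g⁻¹ = b') ∧ (∀ c ∈ D, ∀ c' ∈ D, ¬ Commute a c → ¬ Commute a c' → ∃ g : G, Commute g a ∧ g * c * g⁻¹ = c') := by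
  have hprim := primitive_of_simple_derived hsimple hnonab hD
  have hw := exists_commuting_pair hsimple hnonab hD
  have hcl := class_conj_mem hD
  have hG : Cfsg.IsThreeTranspositionGroup D := ⟨hD.1, hcl, hD.2.2⟩
  obtain ⟨-, hconn, h3⟩ := Cfsg.Agent.S5354.result hG hprim hw
  have hmax : MaxHyp D := fun d hd H hH hle => (h3 d hd).2 H hH hle
  have hZ := not_mem_center_of_simple_derived hnonab hD
  have h2 := eq_of_mul_mem_pCore_two hsimple hnonab hD
  refine ⟨?_, ?_, ?_, ?_⟩
  · obtain ⟨x, hx, y, hy, hxy, hc⟩ := hw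
    obtain ⟨g, hg⟩ := class_exists_conj hD hx ha
    refine ⟨g * y * g⁻¹, hcl g y hy, ?_, ?_⟩
    · intro h
      apply hxy
      rw [← hg] at h
      have : y = g⁻¹ * (g * y * g⁻¹) * g := by group
      rw [this, h]; group
    · rw [← hg]
      exact (Commute.conj_iff g).mpr hc
  · by_contra hcon
    push Not at hcon
    apply hZ a ha
    have htop : (⊤ : Subgroup G) ≤ Subgroup.centralizer {a} := by
      rw [← hD.2.2, Subgroup.closure_le]
      intro e he
      rw [SetLike.mem_coe, Subgroup.mem_centralizer_iff]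
      intro z hz
      rw [Set.mem_singleton_iff] at hz
      rw [hz]
      exact (hcon e he).eq
    rw [Subgroup.mem_center_iff]
    intro g
    have h1 := htop (Subgroup.mem_top g)
    rw [Subgroup.mem_centralizer_iff] at h1
    exact (h1 a rfl).symm
  · intro b hb b' hb' hba hb'a hab hab'
    obtain ⟨g, hg, e⟩ := single_class' hD hZ h2 hmax ha b ⟨hb, hba, hab⟩ b' ⟨hb', hb'a, hab'⟩
    exact ⟨g, Hx_commute hg, e⟩
  · intro c hc c' hc' hac hac'
    exact trans_noncommuting hD hZ hmax hconn ha c hc c' hc' hac hac'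

end Cfsg.Agent.S0441
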