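import Cfsg.Statements.S0442
import Mathlib.Tactic.Group

set_option autoImplicit false
open Cfsg

namespace Cfsg.Agent.S0442

/-- conjugating a product of two involutions by the first inverts it -/
theorem inv_pow_conj {G : Type*} [Group G] {a b : G} (ha : a * a = 1) (hb : b * b = 1) (m : ℕ) :
    a * (a * b) ^ m * a = ((a * b) ^ m)⁻¹ := by
  have hainv : a⁻¹ = a := inv_eq_of_mul_eq_one_right ha
  have hbinv : b⁻¹ = b := inv_eq_of_mul_eq_one_right hb
  have h1 : a * (a * b) * a = (a * b)⁻¹ := by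
    rw [mul_inv_rev, hainv, hbinv, ← mul_assoc, ha, one_mul]
  have : a * (a * b) ^ m * a = (a * (a * b) * a⁻¹) ^ m := by
    rw [conj_pow, hainv]
  rw [this, hainv, h1, inv_pow]

/-- A standard trick for producing elements of an involution centraliser: for an involution a and an element g, let b be the conjugate g⁻¹ * a * g. If a * b has odd order 2m + 1 then g * (a * b) ^ m commutes with a; if a * b has even order 2m then (a * b) ^ m and (a * (g * a * g⁻¹)) ^ m commute with a. -/
theorem result {G : Type*} [Group G] (a g : G) (ha : orderOf a = 2) : (∀ m : ℕ, orderOf (a * (g⁻¹ * a * g)) = 2 * m + 1 → Commute (g * (a * (g⁻¹ * a * g)) ^ m) a) ∧ (∀ m : ℕ, orderOf (a * (g⁻¹ * a * g)) = 2 * m → Commute ((a * (g⁻¹ * a * g)) ^ m) a ∧ Commute ((a * (g * a * g⁻¹)) ^ m) a) := by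
  have ha2 : a * a = 1 := by
    rw [← pow_two, ← ha, pow_orderOf_eq_one]
  have hainv : a⁻¹ = a := inv_eq_of_mul_eq_one_right ha2
  have hb2 : (g⁻¹ * a * g) * (g⁻¹ * a * g) = 1 := by
    have : (g⁻¹ * a * g) * (g⁻¹ * a * g) = g⁻¹ * (a * a) * g := by group
    rw [this, ha2]; group
  have hb2' : (g * a * g⁻¹) * (g * a * g⁻¹) = 1 := by
    have : (g * a * g⁻¹) * (g * a * g⁻¹) = g * (a * a) * g⁻¹ := by group
    rw [this, ha2]; group
  -- general fact: if r ^ (2m) = 1 and a r^m a = r^-m then r^m commutes with a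
  have even_case : ∀ (b : G), b * b = 1 → ∀ m : ℕ, (a * b) ^ (2 * m) = 1 →
      Commute ((a * b) ^ m) a := by
    intro b hb m hm
    have h1 := inv_pow_conj ha2 hb m
    have h2 : ((a * b) ^ m)⁻¹ = (a * b) ^ m := by
      apply inv_eq_of_mul_eq_one_right
      rw [← pow_add, ← two_mul, hm]
    rw [h2] at h1
    -- a r a = r → r a = a r
    show (a * b) ^ m * a = a * (a * b) ^ m
    calc (a * b) ^ m * a = (a * (a * b) ^ m * a) * a := by rw [h1]
      _ = a * (a * b) ^ m := by rw [mul_assoc, ha2, mul_one]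
  constructor
  · intro m hm
    set b := g⁻¹ * a * g with hb
    set r := a * b with hr
    have hrpow : r ^ (2 * m + 1) = 1 := by rw [← hm, pow_orderOf_eq_one]
    have h1 : a * r ^ m * a = (r ^ m)⁻¹ := inv_pow_conj ha2 hb2 m
    show g * r ^ m * a = a * (g * r ^ m)
    -- r^m a = a r^-m ; so g r^m a = g a r^{-m}; a g r^m = g b r^m ... use b = a r
    have h2 : r ^ m * a = a * (r ^ m)⁻¹ := by
      rw [← h1]; simp only [← mul_assoc, ha2, one_mul]
    have h3 : a * g = g * b := by rw [hb]; group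
    have h4 : b = a * r := by rw [hr, ← mul_assoc, ha2, one_mul]
    have h5 : (r ^ m)⁻¹ = r * r ^ m := by
      apply inv_eq_of_mul_eq_one_left
      rw [← pow_succ', ← pow_add]
      have : m + 1 + m = 2 * m + 1 := by ring
      rw [this, hrpow]
    calc g * r ^ m * a = g * (r ^ m * a) := by rw [mul_assoc]
      _ = g * (a * (r ^ m)⁻¹) := by rw [h2]
      _ = g * (a * (r * r ^ m)) := by rw [h5]
      _ = g * b * r ^ m := by rw [h4]; simp only [mul_assoc]
      _ = a * (g * r ^ m) := by rw [← h3]; simp only [mul_assoc]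
  · intro m hm
    constructor
    · apply even_case _ hb2
      rw [← hm, pow_orderOf_eq_one]
    · apply even_case _ hb2'
      -- a * (g a g⁻¹) = g * (g⁻¹ a g * a) * g⁻¹ = g * (a * b)⁻¹ * g⁻¹
      have : a * (g * a * g⁻¹) = g * (a * (g⁻¹ * a * g))⁻¹ * g⁻¹ := by
        rw [mul_inv_rev, mul_inv_rev, mul_inv_rev, hainv]; group
      rw [this, conj_pow, inv_pow, ← hm, pow_orderOf_eq_one]
      group

end Cfsg.Agent.S0442
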