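import Cfsg.Statements.S0447
import Cfsg.Agent.S0891
import Cfsg.Agent.Lib.Helper18.SignSplit
import Mathlib
-- import your own Cfsg.Agent.* helpers here

set_option autoImplicit false
open Cfsg

namespace Cfsg.Agent.S0447

open Equiv

/-! ### Involutions of small alternating groups -/

theorem swap_mul_comm {α : Type*} [DecidableEq α] (t : Perm α) (ht : ∀ x, t (t x) = x) (a : α) :
    swap a (t a) * t = t * swap a (t a) := by
  ext x
  simp only [Perm.mul_apply]
  by_cases hxa : x = a
  · subst hxa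
    rw [swap_apply_right, swap_apply_left, ht]
  · by_cases hxb : x = t a
    · subst hxb
      rw [swap_apply_right, ht, swap_apply_left]
    · have h1 : t x ≠ a := fun h => hxb (by rw [← h, ht])
      have h2 : t x ≠ t a := fun h => hxa (t.injective h)
      rw [swap_apply_of_ne_of_ne h1 h2, swap_apply_of_ne_of_ne hxa hxb]

theorem cycleType_invol {n : ℕ} (hn : n ≤ 7) (t : Perm (Fin n)) (hta : Perm.sign t = 1)
    (ht : orderOf t = 2) : t.cycleType = {2, 2} := by
  obtain ⟨k, hk⟩ := Perm.cycleType_prime_order (σ := t) (by rw [ht]; exact Nat.prime_two)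
  rw [ht] at hk
  have hle := Perm.sum_cycleType_le t
  rw [hk, Fintype.card_fin] at hle
  simp only [Multiset.sum_replicate, smul_eq_mul] at hle
  have hs := Perm.sign_of_cycleType t
  rw [hta, hk] at hs
  simp only [Multiset.sum_replicate, smul_eq_mul, Multiset.card_replicate] at hs
  have hev : Even ((k + 1) * 2 + (k + 1)) :=
    (neg_one_pow_eq_one_iff_even (R := ℤˣ) (by decide)).mp hs.symm
  have hk1 : k = 1 := by
    rcases hev with ⟨r, hr⟩
    omega
  rw [hk, hk1]
  rfl

theorem invol_conj {n : ℕ} (hn : n ≤ 7) (s t : Perm (Fin n)) (hsa : Perm.sign s = 1)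
    (hta : Perm.sign t = 1) (hs : orderOf s = 2) (ht : orderOf t = 2) :
    ∃ c : Perm (Fin n), Perm.sign c = 1 ∧ c * t * c⁻¹ = s := by
  have hc : IsConj t s := by
    rw [Perm.isConj_iff_cycleType_eq, cycleType_invol hn s hsa hs, cycleType_invol hn t hta ht]
  obtain ⟨g, hg⟩ := isConj_iff.mp hc
  rcases Int.units_eq_one_or (Perm.sign g) with h | h
  · exact ⟨g, h, hg⟩
  · have ht2 : ∀ x, t (t x) = x := by
      intro x
      have : t ^ 2 = 1 := by rw [← ht]; exact pow_orderOf_eq_one t
      have h2 := congrArg (fun f : Perm (Fin n) => f x) this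
      simpa [pow_two, Perm.mul_apply] using h2
    have ht1 : t ≠ 1 := by
      intro h1
      rw [h1, orderOf_one] at ht
      omega
    obtain ⟨a, ha⟩ : ∃ a, t a ≠ a := by
      by_contra hcon
      exact ht1 (Perm.ext fun x => not_not.mp fun h => hcon ⟨x, h⟩)
    refine ⟨g * swap a (t a), ?_, ?_⟩
    · rw [map_mul, h, Perm.sign_swap (Ne.symm ha)]
      decide
    · have hcomm := swap_mul_comm t ht2 a
      have : swap a (t a) * t * (swap a (t a))⁻¹ = t := by
        rw [hcomm, mul_assoc, mul_inv_cancel, mul_one]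
      calc g * swap a (t a) * t * (g * swap a (t a))⁻¹
          = g * (swap a (t a) * t * (swap a (t a))⁻¹) * g⁻¹ := by group
        _ = s := by rw [this, hg]

/-! ### A dihedral subgroup of the cover -/

/-- the explicit dihedral map into the symmetric group -/
def phi {n : ℕ} (m : ℕ) (a b : Perm (Fin n)) : DihedralGroup m → Perm (Fin n)
  | DihedralGroup.r i => (a * b) ^ i.val
  | DihedralGroup.sr i => a * (a * b) ^ i.val

section Dihedral

variable {H : Type*} [Group H] {m : ℕ} [NeZero m] (s c : H)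

/-- powers indexed by `ZMod m` -/
def zp (i : ZMod m) : H := c ^ i.val

theorem zp_add (hc : c ^ m = 1) (i j : ZMod m) : zp c (i + j) = zp c i * zp c j := by
  unfold zp
  rw [ZMod.val_add, ← pow_add]
  conv_rhs => rw [← Nat.div_add_mod (i.val + j.val) m, pow_add, pow_mul, hc, one_pow, one_mul]

omit [NeZero m] in
theorem zp_zero : zp c (0 : ZMod m) = 1 := by
  unfold zp
  rw [ZMod.val_zero, pow_zero]

theorem zp_sub (hc : c ^ m = 1) (i j : ZMod m) : zp c (j - i) = (zp c i)⁻¹ * zp c j := by
  have h := zp_add c hc i (j - i)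
  rw [add_sub_cancel] at h
  rw [h, inv_mul_cancel_left]

omit [NeZero m] in
theorem conj_zp (hs : s * s = 1) (hsc : s * c * s = c⁻¹) (i : ZMod m) :
    s * zp c i * s = (zp c i)⁻¹ := by
  unfold zp
  have hsinv : s⁻¹ = s := inv_eq_of_mul_eq_one_right hs
  have h1 : s * c ^ i.val * s⁻¹ = (s * c * s⁻¹) ^ i.val := (conj_pow (a := s) (b := c)).symm
  rw [hsinv, hsc, inv_pow] at h1
  exact h1

/-- the dihedral homomorphism -/
noncomputable def psi (hs : s * s = 1) (hc : c ^ m = 1) (hsc : s * c * s = c⁻¹) :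
    DihedralGroup m →* H :=
  MonoidHom.mk' (fun d => match d with
    | DihedralGroup.r i => zp c i
    | DihedralGroup.sr i => s * zp c i) (by
    intro d d'
    rcases d with i | i <;> rcases d' with j | j
    · simp only [DihedralGroup.r_mul_r]
      exact zp_add c hc i j
    · simp only [DihedralGroup.r_mul_sr]
      have h := conj_zp s c hs hsc i
      rw [zp_sub c hc i j, ← h]
      simp only [mul_assoc]
      rw [← mul_assoc s s, hs, one_mul]
    · simp only [DihedralGroup.sr_mul_r]
      rw [zp_add c hc i j, mul_assoc]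
    · simp only [DihedralGroup.sr_mul_sr]
      have h := conj_zp s c hs hsc i
      rw [zp_sub c hc i j, ← h]
      simp only [mul_assoc])

theorem psi_r (hs : s * s = 1) (hc : c ^ m = 1) (hsc : s * c * s = c⁻¹) (i : ZMod m) :
    psi s c hs hc hsc (DihedralGroup.r i) = c ^ i.val := rfl

theorem psi_sr (hs : s * s = 1) (hc : c ^ m = 1) (hsc : s * c * s = c⁻¹) (i : ZMod m) :
    psi s c hs hc hsc (DihedralGroup.sr i) = s * c ^ i.val := rfl

end Dihedral

/-! ### The core argument -/

section Core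

variable {n : ℕ} {H : Type} [Group H] [Finite H]

theorem core (π : H →* Perm (Fin n)) (z : H) (hzc : z ∈ Subgroup.center H) (hz2 : z ^ 2 = 1)
    (hz1 : z ≠ 1) (hπz : π z = 1)
    (hstar : ∀ g, (π g) ^ 2 = 1 → π g ≠ 1 → g ^ 2 = 1)
    (m : ℕ) [NeZero m] (a b : Perm (Fin n)) (a' b' : H) (ha' : π a' = a) (hb' : π b' = b)
    (ha2 : a ^ 2 = 1) (ha1 : a ≠ 1) (hb2 : b ^ 2 = 1) (hb1 : b ≠ 1)
    (k : ℕ) (hm : m = 2 * k) (hab2 : ((a * b) ^ k) ^ 2 = 1) (hab1 : (a * b) ^ k ≠ 1)
    (hinj : Function.Injective (phi m a b))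
    (hcard : Nat.card H = 2 * m * (Nat.card H / (2 * m))) (hmod : (Nat.card H / (2 * m)) % 4 = 2) :
    ∃ L : Subgroup H, z ∉ L ∧ L.index = 2 := by
  have hs : a' * a' = 1 := by
    rw [← pow_two]; exact hstar a' (by rw [ha']; exact ha2) (by rw [ha']; exact ha1)
  have hb : b' * b' = 1 := by
    rw [← pow_two]; exact hstar b' (by rw [hb']; exact hb2) (by rw [hb']; exact hb1)
  set c : H := a' * b' with hc
  have hπc : π c = a * b := by rw [hc, map_mul, ha', hb']
  have hcm : c ^ m = 1 := by
    rw [hm, mul_comm, pow_mul]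
    exact hstar (c ^ k) (by rw [map_pow, hπc]; exact hab2) (by rw [map_pow, hπc]; exact hab1)
  have hsc : a' * c * a' = c⁻¹ := by
    rw [hc]
    have : (a' * b')⁻¹ = b' * a' := by
      rw [mul_inv_rev, inv_eq_of_mul_eq_one_right hs, inv_eq_of_mul_eq_one_right hb]
    rw [this, ← mul_assoc, hs, one_mul]
  let ψ := psi a' c hs hcm hsc
  have hπψ : ∀ d, π (ψ d) = phi m a b d := by
    intro d
    rcases d with i | i
    · show π (c ^ i.val) = (a * b) ^ i.val
      rw [map_pow, hπc]
    · show π (a' * c ^ i.val) = a * (a * b) ^ i.val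
      rw [map_mul, map_pow, hπc, ha']
  have hψinj : Function.Injective ψ := by
    intro d d' h
    apply hinj
    rw [← hπψ, ← hπψ, h]
  have hzK : z ∉ ψ.range := by
    rintro ⟨d, hd⟩
    have h1 : phi m a b d = phi m a b 1 := by
      rw [← hπψ, ← hπψ, hd, map_one, map_one, hπz]
    have : d = 1 := hinj h1
    rw [this, map_one] at hd
    exact hz1 hd.symm
  have hK : Nat.card ψ.range = 2 * m := by
    rw [Nat.card_congr (MonoidHom.ofInjective hψinj).toEquiv.symm, DihedralGroup.nat_card]
  have hidx : ψ.range.index = Nat.card H / (2 * m) := by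
    have h := Subgroup.card_mul_index ψ.range
    rw [hK] at h
    have hpos : 0 < 2 * m := by have := NeZero.ne m; omega
    rw [hcard] at h
    have := Nat.eq_of_mul_eq_mul_left hpos h
    rw [this]
  exact Cfsg.Agent.Lib.Helper18.SignSplit.exists_index_two z hzc hz2 ψ.range hzK (by rw [hidx]; exact hmod)

end Core

/-! ### Part 1 -/

theorem center_sq {H : Type*} [Group H] [Finite H] (hc2 : Nat.card (Subgroup.center H) = 2)
    (w : H) (hw : w ∈ Subgroup.center H) : w ^ 2 = 1 := by
  have h := pow_card_eq_one' (G := Subgroup.center H) (x := ⟨w, hw⟩)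
  rw [hc2] at h
  exact congrArg Subtype.val h

theorem part1_aux (n : ℕ) (H : Type) [Group H] [Finite H] (hn : n ≤ 7)
    (hcov : Cfsg.IsNonsplitDoubleCover H (alternatingGroup (Fin n))) (x : H) (hx : orderOf x = 2)
    (hxc : x ∉ Subgroup.center H)
    (m : ℕ) [NeZero m] (a b : Perm (Fin n)) (hsa : Perm.sign a = 1) (hsb : Perm.sign b = 1)
    (ha2 : a ^ 2 = 1) (ha1 : a ≠ 1) (hb2 : b ^ 2 = 1) (hb1 : b ≠ 1)
    (k : ℕ) (hm : m = 2 * k) (hab2 : ((a * b) ^ k) ^ 2 = 1) (hab1 : (a * b) ^ k ≠ 1)
    (hinj : Function.Injective (phi m a b))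
    (hcard : n.factorial = 2 * m * (n.factorial / (2 * m)))
    (hmod : (n.factorial / (2 * m)) % 4 = 2) : False := by
  obtain ⟨hc2, ⟨e⟩, hnc⟩ := hcov
  obtain ⟨z0, hz0ne, -⟩ := (Nat.card_eq_two_iff' (1 : Subgroup.center H)).mp hc2
  have hzc : (z0 : H) ∈ Subgroup.center H := z0.2
  have hz1 : (z0 : H) ≠ 1 := fun h => hz0ne (Subtype.ext h)
  have hz2 : (z0 : H) ^ 2 = 1 := center_sq hc2 _ hzc
  let π : H →* Perm (Fin n) :=
    (alternatingGroup (Fin n)).subtype.comp (e.toMonoidHom.comp (QuotientGroup.mk' (Subgroup.center H)))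
  have hπdef : ∀ g, π g = ((e (QuotientGroup.mk g) : alternatingGroup (Fin n)) : Perm (Fin n)) :=
    fun g => rfl
  have hπ1 : ∀ g, π g = 1 ↔ g ∈ Subgroup.center H := by
    intro g
    rw [hπdef, ← Subgroup.coe_one, Subtype.coe_inj, MulEquiv.map_eq_one_iff, QuotientGroup.eq_one_iff]
  have hπalt : ∀ g, Perm.sign (π g) = 1 := by
    intro g
    rw [hπdef]
    exact Perm.mem_alternatingGroup.mp (e (QuotientGroup.mk g)).2
  have hπsurj : ∀ σ : Perm (Fin n), Perm.sign σ = 1 → ∃ g, π g = σ := by
    intro σ hσ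
    obtain ⟨g, hg⟩ := QuotientGroup.mk_surjective (s := Subgroup.center H)
      (e.symm ⟨σ, Perm.mem_alternatingGroup.mpr hσ⟩)
    refine ⟨g, ?_⟩
    rw [hπdef, hg, MulEquiv.apply_symm_apply]
  have hx2 : x ^ 2 = 1 := by rw [← hx]; exact pow_orderOf_eq_one x
  have htx2 : (π x) ^ 2 = 1 := by rw [← map_pow, hx2, map_one]
  have htx1 : π x ≠ 1 := fun h => hxc ((hπ1 x).mp h)
  have hox : orderOf (π x) = 2 := orderOf_eq_prime htx2 htx1
  have hstar : ∀ g, (π g) ^ 2 = 1 → π g ≠ 1 → g ^ 2 = 1 := by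
    intro g hg2 hg1
    have hog : orderOf (π g) = 2 := orderOf_eq_prime hg2 hg1
    obtain ⟨c, hcs, hc⟩ := invol_conj hn (π g) (π x) (hπalt g) (hπalt x) hog hox
    obtain ⟨c', hc'⟩ := hπsurj c hcs
    have h1 : π (g⁻¹ * (c' * x * c'⁻¹)) = 1 := by
      rw [map_mul, map_inv, map_mul, map_mul, map_inv, hc', hc, inv_mul_cancel]
    have hw := (hπ1 _).mp h1
    have hg : g = c' * x * c'⁻¹ * (g⁻¹ * (c' * x * c'⁻¹))⁻¹ := by group
    have hy2 : (c' * x * c'⁻¹) ^ 2 = 1 := by rw [conj_pow, hx2, mul_one, mul_inv_cancel]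
    have hw2 : ((g⁻¹ * (c' * x * c'⁻¹))⁻¹) ^ 2 = 1 := by
      rw [inv_pow, center_sq hc2 _ hw, inv_one]
    have hcomm : Commute (c' * x * c'⁻¹) (g⁻¹ * (c' * x * c'⁻¹))⁻¹ :=
      Subgroup.mem_center_iff.mp (Subgroup.inv_mem _ hw) _
    rw [hg, hcomm.mul_pow, hy2, hw2, one_mul]
  have h4 : 4 ≤ n := by
    have h := Perm.sum_cycleType_le (π x)
    rw [cycleType_invol hn (π x) (hπalt x) hox, Fintype.card_fin] at h
    simpa using h
  have hcardH : Nat.card H = n.factorial := by
    have : Nontrivial (Fin n) := Fin.nontrivial_iff_two_le.mpr (by omega)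
    rw [Subgroup.card_eq_card_quotient_mul_card_subgroup (Subgroup.center H), hc2,
      Nat.card_congr e.toEquiv, mul_comm, two_mul_nat_card_alternatingGroup, Nat.card_perm,
      Nat.card_eq_fintype_card, Fintype.card_fin]
  obtain ⟨a', ha'⟩ := hπsurj a hsa
  obtain ⟨b', hb'⟩ := hπsurj b hsb
  obtain ⟨L, hzL, hL⟩ := core π (z0 : H) hzc hz2 hz1 ((hπ1 _).mpr hzc) hstar m a b a' b' ha' hb'
    ha2 ha1 hb2 hb1 k hm hab2 hab1 hinj (by rw [hcardH]; exact hcard) (by rw [hcardH]; exact hmod)
  exact hnc L (Cfsg.Agent.Lib.Helper18.SignSplit.isComplement'_center hc2 _ hzc L hzL hL)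

theorem part1 (n : ℕ) (H : Type) [Group H] [Finite H] (hn : n ≤ 7)
    (hcov : Cfsg.IsNonsplitDoubleCover H (alternatingGroup (Fin n))) (x : H) (hx : orderOf x = 2) :
    x ∈ Subgroup.center H := by
  by_contra hxc
  -- the degree is at least four, since `A_n` has an involution
  have h4 : 4 ≤ n := by
    by_contra hlt
    have hn3 : n ≤ 3 := by omega
    obtain ⟨hc2, ⟨e⟩, -⟩ := hcov
    -- the image of `x` has order two in a group of odd order
    have hx2 : x ^ 2 = 1 := by rw [← hx]; exact pow_orderOf_eq_one x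
    let t : alternatingGroup (Fin n) := e (QuotientGroup.mk x)
    have ht2 : t ^ 2 = 1 := by
      show (e (QuotientGroup.mk x)) ^ 2 = 1
      rw [← map_pow, ← QuotientGroup.mk_pow, hx2, QuotientGroup.mk_one, map_one]
    have ht1 : t ≠ 1 := by
      intro h
      have : (QuotientGroup.mk x : H ⧸ Subgroup.center H) = 1 := (MulEquiv.map_eq_one_iff e).mp h
      exact hxc ((QuotientGroup.eq_one_iff x).mp this)
    have hot : orderOf (t : Perm (Fin n)) = 2 := by
      rw [Subgroup.orderOf_coe]; exact orderOf_eq_prime ht2 ht1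
    have h := Perm.sum_cycleType_le (t : Perm (Fin n))
    rw [cycleType_invol hn (t : Perm (Fin n)) (Perm.mem_alternatingGroup.mp t.2) hot,
      Fintype.card_fin] at h
    have : (4 : ℕ) ≤ n := by simpa using h
    omega
  obtain rfl | rfl | rfl | rfl : n = 4 ∨ n = 5 ∨ n = 6 ∨ n = 7 := by omega
  · exact part1_aux 4 H hn hcov x hx hxc 2 (swap 0 1 * swap 2 3) (swap 0 2 * swap 1 3)
      (by decide) (by decide) (by decide) (by decide) (by decide) (by decide) 1 rfl
      (by decide) (by decide) (by intro d d' h; revert d d'; decide) (by decide) (by decide)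
  · exact part1_aux 5 H hn hcov x hx hxc 2 (swap 0 1 * swap 2 3) (swap 0 2 * swap 1 3)
      (by decide) (by decide) (by decide) (by decide) (by decide) (by decide) 1 rfl
      (by decide) (by decide) (by intro d d' h; revert d d'; decide) (by decide) (by decide)
  · exact part1_aux 6 H hn hcov x hx hxc 4 (swap 0 2 * swap 4 5) (swap 0 1 * swap 2 3)
      (by decide) (by decide) (by decide) (by decide) (by decide) (by decide) 2 rfl
      (by decide) (by decide) (by intro d d' h; revert d d'; decide) (by decide) (by decide)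
  · exact part1_aux 7 H hn hcov x hx hxc 4 (swap 0 2 * swap 4 5) (swap 0 1 * swap 2 3)
      (by decide) (by decide) (by decide) (by decide) (by decide) (by decide) 2 rfl
      (by decide) (by decide) (by intro d d' h; revert d d'; decide) (by decide) (by decide)

/-! ### Part 2 -/

theorem anti {G : Type*} [Group G] (z x y : G) (hz : ∀ g, g * z = z * g) (hz2 : z * z = 1)
    (hx : x * x = z) (hy : y * y = z) (hxy : (x * y) * (x * y) = z) : y * x = x * y * z := by
  apply mul_left_cancel (a := x)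
  apply mul_right_cancel (b := y)
  calc x * (y * x) * y = (x * y) * (x * y) := by group
    _ = z := hxy
    _ = z * (z * z) := by rw [hz2, mul_one]
    _ = (x * x) * z * (y * y) := by rw [hx, hy, mul_assoc]
    _ = x * (x * z) * (y * y) := by rw [mul_assoc x x z]
    _ = x * (x * (y * z)) * y := by
        rw [hz y]
        group
    _ = x * (x * y * z) * y := by rw [mul_assoc x y z]

theorem triple_sq {G : Type*} [Group G] (z x y w : G) (hz : ∀ g, g * z = z * g) (hz2 : z * z = 1)
    (hx : x * x = z) (hy : y * y = z) (hw : w * w = z) (hxy : (x * y) * (x * y) = z)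
    (hxw : (x * w) * (x * w) = z) (hyw : (y * w) * (y * w) = z) :
    (x * y * w) * (x * y * w) = 1 := by
  have h1 := anti z x y hz hz2 hx hy hxy
  have h2 := anti z x w hz hz2 hx hw hxw
  calc (x * y * w) * (x * y * w) = x * y * (w * x) * y * w := by group
    _ = x * y * (x * w * z) * y * w := by rw [h2]
    _ = x * (y * x) * w * z * y * w := by group
    _ = x * (x * y * z) * w * z * y * w := by rw [h1]
    _ = (x * x) * y * z * w * z * y * w := by group
    _ = z * y * z * w * z * y * w := by rw [hx]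
    _ = z * (y * z) * (w * z) * y * w := by group
    _ = z * (z * y) * (z * w) * y * w := by rw [hz y, hz w]
    _ = z * z * (y * z) * w * y * w := by group
    _ = z * z * (z * y) * w * y * w := by rw [hz y]
    _ = (z * z) * z * ((y * w) * (y * w)) := by group
    _ = 1 := by rw [hyw, hz2, one_mul, hz2]

theorem part2 : ∃ (H : Type) (_ : Group H) (_ : Finite H),
    Cfsg.IsNonsplitDoubleCover H (alternatingGroup (Fin 8)) ∧
      ∃ x y : H, x ≠ y ∧ orderOf x = 2 ∧ orderOf y = 2 := by
  obtain ⟨Γ, _instG, _instF, z, hzc, hz2, hzcomm, _instN, ⟨e⟩⟩ :=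
    Cfsg.Agent.S0891.result 8 (by norm_num)
  have hz1 : z ≠ 1 := by
    intro h
    rw [h, orderOf_one] at hz2
    omega
  have hzsq : z ^ 2 = 1 := by rw [← hz2]; exact pow_orderOf_eq_one z
  have hzz : z * z = 1 := by rw [← pow_two]; exact hzsq
  have hmemZ : ∀ g ∈ Subgroup.zpowers z, g = 1 ∨ g = z := by
    rintro g ⟨k, rfl⟩
    rcases Int.even_or_odd k with ⟨r, rfl⟩ | ⟨r, rfl⟩
    · left
      show z ^ (r + r) = 1
      rw [← two_mul, zpow_mul, zpow_ofNat, hzsq, one_zpow]
    · right
      show z ^ (2 * r + 1) = z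
      rw [zpow_add, zpow_mul, zpow_ofNat, hzsq, one_zpow, one_mul, zpow_one]
  let π : Γ →* Perm (Fin 8) :=
    (alternatingGroup (Fin 8)).subtype.comp (e.toMonoidHom.comp (QuotientGroup.mk' (Subgroup.zpowers z)))
  have hπdef : ∀ g, π g = ((e (QuotientGroup.mk g) : alternatingGroup (Fin 8)) : Perm (Fin 8)) :=
    fun g => rfl
  have hπ1 : ∀ g, π g = 1 ↔ g ∈ Subgroup.zpowers z := by
    intro g
    rw [hπdef, ← Subgroup.coe_one, Subtype.coe_inj, MulEquiv.map_eq_one_iff, QuotientGroup.eq_one_iff]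
  have hπsurj : ∀ σ : Perm (Fin 8), Perm.sign σ = 1 → ∃ g, π g = σ := by
    intro σ hσ
    obtain ⟨g, hg⟩ := QuotientGroup.mk_surjective (s := Subgroup.zpowers z)
      (e.symm ⟨σ, Perm.mem_alternatingGroup.mpr hσ⟩)
    refine ⟨g, ?_⟩
    rw [hπdef, hg, MulEquiv.apply_symm_apply]
  -- the centre
  have hcenter : Subgroup.center Γ = Subgroup.zpowers z := by
    apply le_antisymm
    · intro g hg
      rw [← QuotientGroup.eq_one_iff, ← MulEquiv.map_eq_one_iff e, ← Subgroup.mem_bot,
        ← alternatingGroup.center_eq_bot (α := Fin 8) (by simp), Subgroup.mem_center_iff]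
      intro σ
      obtain ⟨h, rfl⟩ := e.surjective σ
      obtain ⟨h, rfl⟩ := QuotientGroup.mk_surjective h
      rw [← map_mul, ← map_mul, ← QuotientGroup.mk_mul, ← QuotientGroup.mk_mul,
        Subgroup.mem_center_iff.mp hg h]
    · exact (Subgroup.zpowers_le).mpr hzc
  have hcard : Nat.card (Subgroup.center Γ) = 2 := by
    rw [hcenter, Nat.card_zpowers, hz2]
  refine ⟨Γ, _instG, _instF, ⟨hcard, ⟨(QuotientGroup.quotientMulEquivOfEq hcenter).trans e⟩, ?_⟩, ?_⟩
  · -- no complement
    intro L hL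
    have hzL : z ∉ L := by
      intro h
      have := (Subgroup.disjoint_def.mp hL.disjoint) hzc h
      exact hz1 this
    have hidx : L.index = 2 := by
      have h1 := hL.card_mul_card
      have h2 := Subgroup.card_mul_index L
      rw [hcard, ← h2, mul_comm] at h1
      have hpos : 0 < Nat.card L := Nat.card_pos
      exact (Nat.eq_of_mul_eq_mul_left hpos h1).symm
    obtain ⟨χ, hχ⟩ := Cfsg.Agent.Lib.Helper18.SignSplit.exists_hom z hzc hzsq L hzL
      (by rw [hidx])
    have := Abelianization.commutator_subset_ker χ hzcomm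
    rw [MonoidHom.mem_ker, hχ] at this
    exact absurd this (by decide)
  · -- two involutions
    have hzcen : ∀ g, g * z = z * g := Subgroup.mem_center_iff.mp hzc
    have hsq : ∀ g, (π g) ^ 2 = 1 → g * g = 1 ∨ g * g = z := by
      intro g hg
      apply hmemZ
      rw [← hπ1, map_mul, ← pow_two, hg]
    have hclaim : ∃ g : Γ, g ∉ Subgroup.zpowers z ∧ g * g = 1 := by
      by_contra hno
      have hno' : ∀ g, π g ≠ 1 → (π g) ^ 2 = 1 → g * g = z := by
        intro g h1 h2
        rcases hsq g h2 with h | h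
        · exact absurd ⟨g, fun hm => h1 ((hπ1 g).mpr hm), h⟩ hno
        · exact h
      obtain ⟨x, hx⟩ := hπsurj (swap 0 1 * swap 2 3) (by decide)
      obtain ⟨y, hy⟩ := hπsurj (swap 0 2 * swap 1 3) (by decide)
      obtain ⟨w, hw⟩ := hπsurj (swap 4 5 * swap 6 7) (by decide)
      have e1 := hno' x (by rw [hx]; decide) (by rw [hx]; decide)
      have e2 := hno' y (by rw [hy]; decide) (by rw [hy]; decide)
      have e3 := hno' w (by rw [hw]; decide) (by rw [hw]; decide)
      have e4 := hno' (x * y) (by rw [map_mul, hx, hy]; decide) (by rw [map_mul, hx, hy]; decide)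
      have e5 := hno' (x * w) (by rw [map_mul, hx, hw]; decide) (by rw [map_mul, hx, hw]; decide)
      have e6 := hno' (y * w) (by rw [map_mul, hy, hw]; decide) (by rw [map_mul, hy, hw]; decide)
      have e7 := hno' (x * y * w) (by rw [map_mul, map_mul, hx, hy, hw]; decide)
        (by rw [map_mul, map_mul, hx, hy, hw]; decide)
      rw [triple_sq z x y w hzcen hzz e1 e2 e3 e4 e5 e6] at e7
      exact hz1 e7.symm
    obtain ⟨g, hgZ, hg2⟩ := hclaim
    have hg1 : g ≠ 1 := fun h => hgZ (h ▸ Subgroup.one_mem _)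
    refine ⟨z, g, ?_, hz2, ?_⟩
    · intro h
      exact hgZ (h ▸ Subgroup.mem_zpowers z)
    · exact orderOf_eq_prime (by rw [pow_two]; exact hg2) hg1

/-- Involutions in double covers of alternating groups: for n ≤ 7, a finite non-split double cover of the alternating group of degree n has exactly one element of order 2 (the central one); for degree 8 there is a non-split double cover with two distinct involutions. -/
theorem result : (∀ (n : ℕ) (H : Type) (_ : Group H) (_ : Finite H), n ≤ 7 → Cfsg.IsNonsplitDoubleCover H (alternatingGroup (Fin n)) → ∀ x y : H, orderOf x = 2 → orderOf y = 2 → x = y) ∧ ∃ (H : Type) (_ : Group H) (_ : Finite H), Cfsg.IsNonsplitDoubleCover H (alternatingGroup (Fin 8)) ∧ ∃ x y : H, x ≠ y ∧ orderOf x = 2 ∧ orderOf y = 2 := by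
  refine ⟨?_, part2⟩
  intro n H _ _ hn hcov x y hx hy
  have hxc := part1 n H hn hcov x hx
  have hyc := part1 n H hn hcov y hy
  obtain ⟨hc2, -, -⟩ := hcov
  obtain ⟨z0, -, hz0⟩ := (Nat.card_eq_two_iff' (1 : Subgroup.center H)).mp hc2
  have hx1 : x ≠ 1 := by
    intro h
    rw [h, orderOf_one] at hx
    omega
  have hy1 : y ≠ 1 := by
    intro h
    rw [h, orderOf_one] at hy
    omega
  have e1 : (⟨x, hxc⟩ : Subgroup.center H) = z0 := hz0 _ (fun h => hx1 (congrArg Subtype.val h))
  have e2 : (⟨y, hyc⟩ : Subgroup.center H) = z0 := hz0 _ (fun h => hy1 (congrArg Subtype.val h))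
  exact congrArg Subtype.val (e1.trans e2.symm)

end Cfsg.Agent.S0447
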