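import Cfsg.Statements.S1625
import Cfsg.Agent.Lib.Helper77.J3WordData
import Cfsg.Agent.Lib.Helper77.J3TransFin

set_option autoImplicit false
open scoped MatrixGroups
open Cfsg

namespace Cfsg.Agent.S1625

open Cfsg.Agent.Lib.Helper77.J3

theorem ginv_exists : ∀ j < 45, validJ j → ∃ N : M9, (gM j).mul N = M9.one ∧ N.mul (gM j) = M9.one :=
  fun j hj hv => ⟨_, ginv_ok j hj hv⟩

theorem tab1 : OrbTab tr1 rows1 gensLitP 1 where
  rows_ok := fun r hr => by
    have := chk_rows1 r hr
    unfold rowBP1 at this
    rw [Bool.and_eq_true] at this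
    exact this.1
  toList := tr1_toList
  gens_ok := gens_ok
  gens_valid := gens_valid
  ginv := ginv_exists

theorem clos1 : ClosTab rows1 bm1 gensListP where
  clos := fun r hr => by
    have := chk_rows1 r hr
    unfold rowBP1 at this
    rw [Bool.and_eq_true] at this
    exact this.2
  bm_eq := bm1_eq
  gl_ok := gensList_ok

theorem ktab : KTab kT krows [kB, kC, kE] where
  rows_ok := fun r hr => by
    have := chk_krows r hr
    rwa [hsK_eq] at this
  toList := kT_toList
  root := kT_root

theorem utab : UTab uT kI urows sP1 sP2 sP3 krows where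
  rows_ok := chk_urows
  toList := uT_toList
  root := uT_root
  kI_ok := kI_ok

theorem ordData {F : Type} [Field F] [Finite F] {ω : F} (h : IsF4 F ω) :
    OrdData F ω kT krows uT kI urows sP1 sP2 sP3 genWords where
  horb := orbit_ncard h tab1 clos1 tr1_root rows1_incr 23256 rows1_length
  gv := gens_valid
  ginv := ginv_exists
  KT := ktab
  kincr := krows_incr
  klen := krows_length
  hfix := hfix_ok
  UT := utab
  hP := sP_eq
  ulen := urows_length
  hwords := genWords_ok

theorem subTab : SubTab tS srows hlP subRoots subCnt rows1 where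
  rows_ok := chk_srows
  toList := tS_toList
  keys_eq := srows_keys
  hl_eq := hlP_eq
  cnt_ok := subCnt_ok

theorem maxData : MaxData tr1 rows1 gensLitP bm1 gensListP tS srows hlP subRoots subCnt subB0 uWord where
  T1 := tab1
  C1 := clos1
  root1 := tr1_root
  incr1 := rows1_incr
  ST := subTab
  orb1 := orb1_ok
  B0_eq := subB0_eq
  chkB0 := chkB0_ok
  chkB1 := chkB1_ok
  cnt0 := cnt_ok3.1
  cnt12 := cnt_ok3.2.1
  cnt2 := cnt_ok3.2.2
  ex1 := ex1_ok
  ex2 := ex2_ok
  ex3 := ex3_ok
  ex4 := ex4_ok

theorem iwaData : IwaData tr1 certD certB certC where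
  kA_cube := kA_cube_ok
  norm_b := norm_b_ok
  norm_c := norm_c_ok
  norm_e := norm_e_ok
  certD := certD_ok
  certB := certB_ok
  certC := certC_ok
  coord := coord_ok
  full := full_ok

/-- The matrix group over the field with 4 elements generated by the 9×9 matrices of the definitions (ω a root of ω² + ω + 1) has order 150698880 and centre of order 3; its central quotient is simple of order 50232960 = 2^7·3^5·5·17·19. -/
theorem result (F : Type) [Field F] [Fintype F] (hF : Fintype.card F = 4) (ω : F) (hω : ω ^ 2 + ω + 1 = 0) : Nat.card ↥(Subgroup.center ↥(Cfsg.Spor.threeJ3 F ω)) = 3 ∧ Nat.card ↥(Cfsg.Spor.threeJ3 F ω) = 150698880 ∧ Nat.card (Cfsg.Spor.J3 F ω) = 50232960 ∧ IsSimpleGroup (Cfsg.Spor.J3 F ω) := by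
  have h := isF4_of hF ω hω
  have hfin : Finite F := Finite.of_fintype F
  have D := ordData (ω := ω) h
  have hgs : ∀ x ∈ [kD, kB, kC], Rep (Cfsg.Spor.threeJ3 F ω) ω x := by
    intro x hx
    simp only [List.mem_cons, List.not_mem_nil, or_false] at hx
    rcases hx with rfl | rfl | rfl
    · exact rep_gens h D 21 (by decide)
    · exact rep_gens h D 31 (by decide)
    · exact rep_gens h D 39 (by decide)
  have hw : Rep (Cfsg.Spor.threeJ3 F ω) ω wK := by
    rw [← wWord_ok]
    exact rep_word h hgs wWord
  have hcen := card_center h gens_valid ginv_exists hF hw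
  have hcard := card_threeJ3 h D
  obtain ⟨a', ha⟩ := elt_of_rep (rep_gens h D 9 (by decide))
  obtain ⟨b', hb⟩ := elt_of_rep (rep_gens h D 31 (by decide))
  obtain ⟨c', hc⟩ := elt_of_rep (rep_gens h D 39 (by decide))
  obtain ⟨d', hd⟩ := elt_of_rep (rep_gens h D 21 (by decide))
  obtain ⟨e', he⟩ := elt_of_rep (rep_gens h D 12 (by decide))
  refine ⟨hcen, hcard, ?_, isSimpleGroup_quotient h D maxData iwaData a' b' c' d' e' ha hb hc hd he hcen⟩
  have := Subgroup.card_eq_card_quotient_mul_card_subgroup
    (Subgroup.center (Cfsg.Spor.threeJ3 F ω))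
  rw [hcard, hcen] at this
  show Nat.card (Cfsg.Spor.threeJ3 F ω ⧸ Subgroup.center (Cfsg.Spor.threeJ3 F ω)) = 50232960
  omega

end Cfsg.Agent.S1625
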