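import Cfsg.Statements.S0478
import Cfsg.Agent.S1625
import Cfsg.Agent.Lib.Helper77.J3Unitary

set_option autoImplicit false
set_option linter.style.haveILetI false
open Cfsg

namespace Cfsg.Agent.S0478

open Cfsg.Agent.Lib.Helper77.J3

theorem exists_omega {F : Type} [Field F] [Fintype F] (hF : Fintype.card F = 4) :
    ∃ ω : F, ω ^ 2 + ω + 1 = 0 := by
  classical
  have hex : ∃ x : F, x ≠ 0 ∧ x ≠ 1 := by
    by_contra hne
    push Not at hne
    have hsub : (Finset.univ : Finset F) ⊆ {0, 1} := by
      intro x _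
      by_cases hx : x = 0
      · simp [hx]
      · simp [hne x hx]
    have hle : Fintype.card F ≤ 2 :=
      calc Fintype.card F = (Finset.univ : Finset F).card := rfl
        _ ≤ ({0, 1} : Finset F).card := Finset.card_le_card hsub
        _ ≤ 2 := Finset.card_le_two
    omega
  obtain ⟨x, hx0, hx1⟩ := hex
  refine ⟨x, ?_⟩
  have h3 : x ^ 3 = 1 := by
    have := FiniteField.pow_card_sub_one_eq_one x hx0
    rwa [hF] at this
  have hmul : (x - 1) * (x ^ 2 + x + 1) = 0 := by
    have : (x - 1) * (x ^ 2 + x + 1) = x ^ 3 - 1 := by ring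
    rw [this, h3, sub_self]
  rcases mul_eq_zero.mp hmul with h | h
  · exact absurd (sub_eq_zero.mp h) hx1
  · exact h

/-- A triple cover of Janko's third group inside a unitary group: for a field F with four elements, the special unitary group of dimension 9 (with respect to the form with q = 2) has a subgroup whose centre has order 3 and whose quotient by its centre is simple of order 50232960. -/
theorem result : ∃ (F : Type) (_ : Field F) (_ : Fintype F), Fintype.card F = 4 ∧ ∃ H : Subgroup (Cfsg.SU 9 F 2), Nat.card (Subgroup.center H) = 3 ∧ Cfsg.IsJ3 (H ⧸ Subgroup.center H) := by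
  haveI : Fact (Nat.Prime 2) := ⟨Nat.prime_two⟩
  letI : Fintype (GaloisField 2 2) := Fintype.ofFinite (GaloisField 2 2)
  have hF : Fintype.card (GaloisField 2 2) = 4 := by
    rw [← Nat.card_eq_fintype_card, GaloisField.card 2 2 (by norm_num)]
    norm_num
  refine ⟨GaloisField 2 2, inferInstance, inferInstance, hF, ?_⟩
  obtain ⟨ω, hω⟩ := exists_omega hF
  have h := isF4_of hF ω hω
  obtain ⟨hcen, -, hcardJ, hsimple⟩ := Cfsg.Agent.S1625.result (GaloisField 2 2) hF ω hω
  have D := Cfsg.Agent.S1625.ordData (ω := ω) h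
  obtain ⟨a', ha⟩ := elt_of_rep (rep_gens h D 9 (by decide))
  obtain ⟨b', hb⟩ := elt_of_rep (rep_gens h D 31 (by decide))
  obtain ⟨c', hc⟩ := elt_of_rep (rep_gens h D 39 (by decide))
  obtain ⟨d', hd⟩ := elt_of_rep (rep_gens h D 21 (by decide))
  obtain ⟨e', he⟩ := elt_of_rep (rep_gens h D 12 (by decide))
  have hperf := commutator_eq_top h D Cfsg.Agent.S1625.maxData Cfsg.Agent.S1625.iwaData
    a' b' c' d' e' ha hb hc hd he
  obtain ⟨H, ⟨e⟩⟩ := exists_SU h hperf
  obtain ⟨t1, t2, t3⟩ := center_transport e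
  refine ⟨H, ?_, ?_, ?_⟩
  · rw [t1, hcen]
  · exact t3 hsimple
  · rw [t2]
    exact hcardJ

end Cfsg.Agent.S0478
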