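import Cfsg.Statements.S0481

set_option autoImplicit false
open Cfsg

namespace Cfsg.Agent.S0481

theorem key {G : Type*} [Group G] [Finite G] (z : G) (hz : orderOf z = 2) (Q : Subgroup G)
    (hQC : Q ≤ Subgroup.centralizer ({z} : Set G))
    (hZ : Nat.card (Subgroup.center Q) = 2)
    (hlarge : Subgroup.centralizer (Q : Set G) ≤ Q)
    (c : G) (hc : c ∈ Subgroup.centralizer (Q : Set G)) (hc1 : c ≠ 1) : c = z := by
  have hzQ : z ∈ Q := by
    apply hlarge
    rw [Subgroup.mem_centralizer_iff]
    intro q hq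
    have := hQC hq
    rw [Subgroup.mem_centralizer_iff] at this
    exact (this z rfl).symm
  have hz1 : z ≠ 1 := by
    intro h
    rw [h, orderOf_one] at hz
    omega
  have hcQ : c ∈ Q := hlarge hc
  have hcen : ∀ x : G, x ∈ Subgroup.centralizer (Q : Set G) → ∀ hx : x ∈ Q,
      (⟨x, hx⟩ : Q) ∈ Subgroup.center Q := by
    intro x hx hxQ
    rw [Subgroup.mem_center_iff]
    intro q
    rw [Subgroup.mem_centralizer_iff] at hx
    apply Subtype.ext
    simp only [Subgroup.coe_mul]
    exact hx q q.2
  have hzc : z ∈ Subgroup.centralizer (Q : Set G) := by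
    rw [Subgroup.mem_centralizer_iff]
    intro q hq
    have := hQC hq
    rw [Subgroup.mem_centralizer_iff] at this
    exact (this z rfl).symm
  have h1 := hcen c hc hcQ
  have h2 := hcen z hzc hzQ
  rw [Nat.card_eq_two_iff] at hZ
  obtain ⟨a, b, hab, huniv⟩ := hZ
  have hone : (1 : Subgroup.center Q) ∈ ({a, b} : Set _) := by rw [huniv]; trivial
  have hc' : (⟨⟨c, hcQ⟩, h1⟩ : Subgroup.center Q) ∈ ({a, b} : Set _) := by rw [huniv]; trivial
  have hz' : (⟨⟨z, hzQ⟩, h2⟩ : Subgroup.center Q) ∈ ({a, b} : Set _) := by rw [huniv]; trivial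
  have hc1' : (⟨⟨c, hcQ⟩, h1⟩ : Subgroup.center Q) ≠ 1 := by
    intro h
    apply hc1
    have := congrArg (fun x : Subgroup.center Q => ((x : Q) : G)) h
    simpa using this
  have hz1' : (⟨⟨z, hzQ⟩, h2⟩ : Subgroup.center Q) ≠ 1 := by
    intro h
    apply hz1
    have := congrArg (fun x : Subgroup.center Q => ((x : Q) : G)) h
    simpa using this
  have heq : (⟨⟨c, hcQ⟩, h1⟩ : Subgroup.center Q) = ⟨⟨z, hzQ⟩, h2⟩ := by
    simp only [Set.mem_insert_iff, Set.mem_singleton_iff] at hone hc' hz'
    rcases hone with h | h <;> rcases hc' with h' | h' <;> rcases hz' with h'' | h'' <;>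
      simp_all
  have := congrArg (fun x : Subgroup.center Q => ((x : Q) : G)) heq
  simpa using this

theorem result {G : Type*} [Group G] [Finite G] (z : G) (hz : orderOf z = 2) (Q : Subgroup G) (hQC : Q ≤ Subgroup.centralizer ({z} : Set G)) (hQn : ∀ g ∈ Subgroup.centralizer ({z} : Set G), ∀ q ∈ Q, g * q * g⁻¹ ∈ Q) (hQ2 : IsPGroup 2 Q) (hZ : Nat.card (Subgroup.center Q) = 2) (hsq : ∀ x : Q, x ^ 2 ∈ Subgroup.center Q) (hlarge : Subgroup.centralizer (Q : Set G) ≤ Q) : (∃ P : Sylow 2 G, (P : Subgroup G) ≤ Subgroup.centralizer ({z} : Set G)) ∧ ∀ u : G, orderOf u = 2 → (∃ P : Sylow 2 G, (P : Subgroup G) ≤ Subgroup.centralizer ({u} : Set G)) → IsConj z u := by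
  have : Fact (Nat.Prime 2) := ⟨Nat.prime_two⟩
  have hkey := key z hz Q hQC hZ hlarge
  have hz1 : z ≠ 1 := by
    intro h
    rw [h, orderOf_one] at hz
    omega
  have hzQ : z ∈ Q := by
    apply hlarge
    rw [Subgroup.mem_centralizer_iff]
    intro q hq
    have := hQC hq
    rw [Subgroup.mem_centralizer_iff] at this
    exact (this z rfl).symm
  obtain ⟨T, hQT⟩ := IsPGroup.exists_le_sylow hQ2
  -- centre of T is nontrivial
  have : Nontrivial (T : Subgroup G) := ⟨⟨⟨z, hQT hzQ⟩, 1, by
    intro h
    apply hz1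
    simpa using congrArg Subtype.val h⟩⟩
  have := IsPGroup.center_nontrivial T.isPGroup'
  obtain ⟨c, hc⟩ := exists_ne (1 : Subgroup.center (T : Subgroup G))
  have hcT : ∀ t ∈ (T : Subgroup G), t * ((c : T) : G) = ((c : T) : G) * t := by
    intro t ht
    have := (Subgroup.mem_center_iff.mp c.2) ⟨t, ht⟩
    simpa using congrArg Subtype.val this
  have hcz : ((c : T) : G) = z := by
    apply hkey
    · rw [Subgroup.mem_centralizer_iff]
      intro q hq
      exact hcT q (hQT hq)
    · intro h
      apply hc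
      apply Subtype.ext
      apply Subtype.ext
      simpa using h
  have hTz : ∀ t ∈ (T : Subgroup G), t * z = z * t := by
    intro t ht
    rw [← hcz]
    exact hcT t ht
  refine ⟨⟨T, ?_⟩, ?_⟩
  · intro t ht
    rw [Subgroup.mem_centralizer_iff]
    intro y hy
    rw [Set.mem_singleton_iff] at hy
    subst hy
    exact (hTz t ht).symm
  · intro u hu ⟨P, hP⟩
    have hu1 : u ≠ 1 := by
      intro h
      rw [h, orderOf_one] at hu
      omega
    have hPu : ∀ x ∈ (P : Subgroup G), x * u = u * x := by
      intro x hx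
      have := hP hx
      rw [Subgroup.mem_centralizer_iff] at this
      exact (this u rfl).symm
    -- u ∈ P
    have huP : u ∈ (P : Subgroup G) := by
      have hzp : IsPGroup 2 (Subgroup.zpowers u) := by
        rw [IsPGroup.iff_card, Nat.card_zpowers, hu]
        exact ⟨1, by norm_num⟩
      have hnorm : Subgroup.zpowers u ≤ Subgroup.normalizer ((P : Subgroup G) : Set G) := by
        rw [Subgroup.zpowers_le]
        apply Subgroup.centralizer_le_normalizer
        rw [Subgroup.mem_centralizer_iff]
        intro x hx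
        exact hPu x hx
      have hsup : IsPGroup 2 (Subgroup.zpowers u ⊔ (P : Subgroup G) : Subgroup G) :=
        IsPGroup.to_sup_of_normal_right' hzp P.isPGroup' hnorm
      have := P.is_maximal' hsup le_sup_right
      have h3 : Subgroup.zpowers u ≤ (P : Subgroup G) := by
        rw [← this]; exact le_sup_left
      exact h3 (Subgroup.mem_zpowers u)
    obtain ⟨g, hg⟩ := MulAction.exists_smul_eq G T P
    -- P = g • T
    have hmem : ∀ x : G, x ∈ (P : Subgroup G) ↔ g⁻¹ * x * g ∈ (T : Subgroup G) := by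
      intro x
      rw [← hg, Sylow.coe_subgroup_smul, Subgroup.mem_pointwise_smul_iff_inv_smul_mem]
      simp [MulAut.smul_def, mul_assoc]
    have hw : g⁻¹ * u * g = z := by
      apply hkey
      · rw [Subgroup.mem_centralizer_iff]
        intro q hq
        have hqT : q ∈ (T : Subgroup G) := hQT hq
        have : g * q * g⁻¹ ∈ (P : Subgroup G) := by
          rw [hmem]
          have : g⁻¹ * (g * q * g⁻¹) * g = q := by group
          rw [this]; exact hqT
        have h4 := hPu _ this
        calc q * (g⁻¹ * u * g) = g⁻¹ * ((g * q * g⁻¹) * u) * g := by group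
          _ = g⁻¹ * (u * (g * q * g⁻¹)) * g := by rw [h4]
          _ = g⁻¹ * u * g * q := by group
      · intro h
        apply hu1
        have : u = g * (g⁻¹ * u * g) * g⁻¹ := by group
        rw [this, h]; group
    rw [isConj_iff]
    refine ⟨g, ?_⟩
    rw [← hw]; group

end Cfsg.Agent.S0481
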