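-- Statement S0502.
import Cfsg.Statements.S0502
import Cfsg.Agent.Lib.Helper12.FourGroup

set_option autoImplicit false
open Cfsg

namespace Cfsg.Agent.S0502

open Cfsg.Agent.Lib.Helper12 Subgroup

variable {P : Type*} [Group P]

/-- Fixed points of an involution on an elementary abelian 2-group: `|E₀| ≤ |C_{E₀}(u)|²`. -/
theorem card_le_card_fixed_sq [Finite P] (E₀ : Subgroup P)
    (hcomm : ∀ x ∈ E₀, ∀ y ∈ E₀, x * y = y * x) (hexp : ∀ x ∈ E₀, x * x = 1) (u : P)
    (hu : u * u = 1) (hinv : ∀ x ∈ E₀, u * x * u⁻¹ ∈ E₀) :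
    Nat.card E₀ ≤ Nat.card (E₀ ⊓ centralizer ({u} : Set P) : Subgroup P) ^ 2 := by
  have hui : u⁻¹ = u := inv_eq_of_mul_eq_one_right hu
  let φ : E₀ →* E₀ :=
    { toFun := fun x => ⟨x * (u * x * u⁻¹), E₀.mul_mem x.2 (hinv x x.2)⟩
      map_one' := by apply Subtype.ext; simp
      map_mul' := by
        intro x y
        apply Subtype.ext
        simp only [Subgroup.coe_mul]
        have h1 := hcomm y y.2 (u * x * u⁻¹) (hinv x x.2)
        calc (x : P) * y * (u * (x * y) * u⁻¹)
            = x * (y * (u * x * u⁻¹)) * (u * y * u⁻¹) := by group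
          _ = x * ((u * x * u⁻¹) * y) * (u * y * u⁻¹) := by rw [h1]
          _ = x * (u * x * u⁻¹) * (y * (u * y * u⁻¹)) := by group }
  set C : Subgroup E₀ := (E₀ ⊓ centralizer ({u} : Set P)).subgroupOf E₀ with hC
  have hCcard : Nat.card C = Nat.card (E₀ ⊓ centralizer ({u} : Set P) : Subgroup P) :=
    Nat.card_congr (Subgroup.subgroupOfEquivOfLe inf_le_left).toEquiv
  have hker : φ.ker ≤ C := by
    intro x hx
    rw [MonoidHom.mem_ker] at hx
    have hx' : (x : P) * (u * x * u⁻¹) = 1 := congrArg Subtype.val hx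
    rw [hC, Subgroup.mem_subgroupOf, Subgroup.mem_inf]
    refine ⟨x.2, ?_⟩
    rw [Subgroup.mem_centralizer_iff]
    intro h hh
    rw [Set.mem_singleton_iff] at hh
    subst hh
    have hxx := hexp x x.2
    have h2 : h * x * h⁻¹ = x := by
      have : (x : P) * (h * x * h⁻¹) = x * x := by rw [hx', hxx]
      exact mul_left_cancel this
    calc h * (x : P) = (h * x * h⁻¹) * h := by group
      _ = x * h := by rw [h2]
  have hrange : φ.range ≤ C := by
    rintro _ ⟨x, rfl⟩
    rw [hC, Subgroup.mem_subgroupOf, Subgroup.mem_inf]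
    refine ⟨(φ x).2, ?_⟩
    rw [Subgroup.mem_centralizer_iff]
    intro h hh
    rw [Set.mem_singleton_iff] at hh
    subst hh
    show h * ((x : P) * (h * x * h⁻¹)) = (x : P) * (h * x * h⁻¹) * h
    have h1 := hcomm x x.2 (h * x * h⁻¹) (hinv x x.2)
    rw [hui] at h1 ⊢
    calc h * ((x : P) * (h * x * h)) = (h * x * h) * ((h * h) * x) * (h * h) * h := by
          rw [hu]; group
      _ = (h * x * h) * x * h := by rw [hu]; group
      _ = (x : P) * (h * x * h) * h := by rw [h1]
  have h1 : Nat.card φ.ker * Nat.card φ.range = Nat.card E₀ := by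
    rw [← Subgroup.index_ker]; exact Subgroup.card_mul_index _
  calc Nat.card E₀ = Nat.card φ.ker * Nat.card φ.range := h1.symm
    _ ≤ Nat.card C * Nat.card C :=
        Nat.mul_le_mul (Nat.le_of_dvd Nat.card_pos (Subgroup.card_dvd_of_le hker))
          (Nat.le_of_dvd Nat.card_pos (Subgroup.card_dvd_of_le hrange))
    _ = _ := by rw [hCcard, pow_two]

/-- A finite subgroup with at least 3 elements has a non-identity element different from `e`. -/
theorem exists_ne_of_three_le [Finite P] (C : Subgroup P) (h : 3 ≤ Nat.card C) (e : P) :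
    ∃ f ∈ C, f ≠ 1 ∧ f ≠ e := by
  by_contra hcon
  push Not at hcon
  have hsub : (C : Set P) ⊆ {1, e} := by
    intro x hx
    by_cases hx1 : x = 1
    · left; exact hx1
    · right; exact hcon x hx hx1
  have h1 : (C : Set P).ncard ≤ ({1, e} : Set P).ncard := Set.ncard_le_ncard hsub (Set.toFinite _)
  have h2 : ({1, e} : Set P).ncard ≤ 2 :=
    (Set.ncard_insert_le _ _).trans (by rw [Set.ncard_singleton])
  have h3 : (C : Set P).ncard = Nat.card C := by
    rw [← Nat.card_coe_set_eq]; rfl
  omega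

/-- The commuting relation on Klein four-subgroups. -/
def Rel (A B : Subgroup P) : Prop :=
  IsKleinFour A ∧ IsKleinFour B ∧ ∀ a ∈ A, ∀ b ∈ B, a * b = b * a

theorem rel_symm {A B : Subgroup P} (h : Rel A B) : Rel B A :=
  ⟨h.2.1, h.1, fun b hb a ha => (h.2.2 a ha b hb).symm⟩

theorem reach_symm {A B : Subgroup P} (h : Relation.ReflTransGen Rel A B) :
    Relation.ReflTransGen Rel B A := by
  induction h with
  | refl => exact Relation.ReflTransGen.refl
  | tail _ hbc ih => exact Relation.ReflTransGen.head (rel_symm hbc) ih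

theorem comm_fourSub {a b c d : P} {ha : a * a = 1} {hb : b * b = 1} {hab : a * b = b * a}
    {hc : c * c = 1} {hd : d * d = 1} {hcd : c * d = d * c}
    (hac : a * c = c * a) (had : a * d = d * a) (hbc : b * c = c * b) (hbd : b * d = d * b) :
    ∀ x ∈ fourSub a b ha hb hab, ∀ y ∈ fourSub c d hc hd hcd, x * y = y * x := by
  have key : ∀ y ∈ fourSub c d hc hd hcd, Commute a y ∧ Commute b y := by
    intro y hy
    rw [mem_fourSub] at hy
    rcases hy with rfl | rfl | rfl | rfl
    · exact ⟨Commute.one_right a, Commute.one_right b⟩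
    · exact ⟨hac, hbc⟩
    · exact ⟨had, hbd⟩
    · exact ⟨Commute.mul_right hac had, Commute.mul_right hbc hbd⟩
  intro x hx y hy
  rw [mem_fourSub] at hx
  rcases hx with rfl | rfl | rfl | rfl
  · simp
  · exact (key y hy).1
  · exact (key y hy).2
  · exact Commute.mul_left (key y hy).1 (key y hy).2

/-- Every Klein four-subgroup is joined to one inside `E`. -/
theorem reach [Finite P] (E : Subgroup P) [hEn : E.Normal]
    (hE : ∀ x ∈ E, ∀ y ∈ E, x * y = y * x) (hE2 : ∀ e ∈ E, e * e = 1) (hE8 : 8 ≤ Nat.card E)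
    (U : Subgroup P) (hU : IsKleinFour U) :
    ∃ U' : Subgroup P, IsKleinFour U' ∧ U' ≤ E ∧ Relation.ReflTransGen Rel U U' := by
  -- centralizers of involutions in E are big
  have hbig : ∀ u : P, u * u = 1 → 3 ≤ Nat.card (E ⊓ centralizer ({u} : Set P) : Subgroup P) := by
    intro u hu
    have := card_le_card_fixed_sq E hE hE2 u hu (fun x hx => hEn.conj_mem x hx u)
    by_contra hlt
    push Not at hlt
    have : Nat.card (E ⊓ centralizer ({u} : Set P) : Subgroup P) ^ 2 ≤ 2 ^ 2 :=
      Nat.pow_le_pow_left (by omega) 2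
    omega
  obtain ⟨a, haU, ha1⟩ := exists_ne_one_of_kleinFour U
  obtain ⟨b, hbU, hb1, hab, hmem⟩ := exists_second_gen_of_kleinFour U haU ha1
  have haa := mul_self_of_mem_kleinFour U haU
  have hbb := mul_self_of_mem_kleinFour U hbU
  have habc := comm_of_mem_kleinFour U haU hbU
  -- C_E(U) is nontrivial
  have hCU : ∃ e ∈ E, e ≠ 1 ∧ a * e = e * a ∧ b * e = e * b := by
    have h3 := hbig a haa
    have hinv : ∀ x ∈ (E ⊓ centralizer ({a} : Set P) : Subgroup P),
        b * x * b⁻¹ ∈ (E ⊓ centralizer ({a} : Set P) : Subgroup P) := by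
      intro x hx
      rw [Subgroup.mem_inf] at hx ⊢
      refine ⟨hEn.conj_mem x hx.1 b, ?_⟩
      rw [Subgroup.mem_centralizer_iff] at hx ⊢
      intro h hh
      rw [Set.mem_singleton_iff] at hh
      subst hh
      have h1 : Commute h x := hx.2 h rfl
      have h2 : Commute h b := habc
      exact (h2.mul_right h1).mul_right h2.inv_right
    have h4 := card_le_card_fixed_sq (E ⊓ centralizer ({a} : Set P))
      (fun x hx y hy => hE x hx.1 y hy.1) (fun x hx => hE2 x hx.1) b hbb hinv
    have h5 : 2 ≤ Nat.card ((E ⊓ centralizer ({a} : Set P)) ⊓ centralizer ({b} : Set P) :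
        Subgroup P) := by
      by_contra hlt
      push Not at hlt
      have : Nat.card ((E ⊓ centralizer ({a} : Set P)) ⊓ centralizer ({b} : Set P) :
          Subgroup P) ^ 2 ≤ 1 ^ 2 := Nat.pow_le_pow_left (by omega) 2
      omega
    have hnt : Nontrivial ((E ⊓ centralizer ({a} : Set P)) ⊓ centralizer ({b} : Set P) :
        Subgroup P) := Finite.one_lt_card_iff_nontrivial.mp (by omega)
    obtain ⟨⟨e, he⟩, hne⟩ := exists_ne (1 : ((E ⊓ centralizer ({a} : Set P)) ⊓
      centralizer ({b} : Set P) : Subgroup P))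
    rw [Subgroup.mem_inf, Subgroup.mem_inf, Subgroup.mem_centralizer_iff,
      Subgroup.mem_centralizer_iff] at he
    exact ⟨e, he.1.1, fun h => hne (Subtype.ext h), he.1.2 a rfl, he.2 b rfl⟩
  by_cases hex : ∃ e ∈ E, e ≠ 1 ∧ a * e = e * a ∧ b * e = e * b ∧ e ∉ U
  · -- Case A
    obtain ⟨e, heE, he1, hae, hbe, heU⟩ := hex
    have hee := hE2 e heE
    have hane : a ≠ e := fun h => heU (h ▸ haU)
    obtain ⟨f, hf, hf1, hfe⟩ := exists_ne_of_three_le _ (hbig a haa) e
    rw [Subgroup.mem_inf, Subgroup.mem_centralizer_iff] at hf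
    have hfE := hf.1
    have haf : a * f = f * a := hf.2 a rfl
    have hff := hE2 f hfE
    have hef : e * f = f * e := hE e heE f hfE
    have hUeq : U = fourSub a b haa hbb habc := by
      ext x; rw [hmem, mem_fourSub]
    have hW1 : IsKleinFour (fourSub a e haa hee hae) := isKleinFour_fourSub _ _ _ ha1 he1 hane
    have hW2 : IsKleinFour (fourSub e f hee hff hef) :=
      isKleinFour_fourSub _ _ _ he1 hf1 (Ne.symm hfe)
    refine ⟨fourSub e f hee hff hef, hW2, ?_, ?_⟩
    · intro x hx
      rw [mem_fourSub] at hx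
      rcases hx with rfl | rfl | rfl | rfl
      · exact E.one_mem
      · exact heE
      · exact hfE
      · exact E.mul_mem heE hfE
    · have hstep1 : Rel U (fourSub a e haa hee hae) := by
        refine ⟨hU, hW1, ?_⟩
        rw [hUeq]
        exact comm_fourSub rfl hae habc.symm hbe
      have hstep2 : Rel (fourSub a e haa hee hae) (fourSub e f hee hff hef) :=
        ⟨hW1, hW2, comm_fourSub hae haf rfl hef⟩
      exact (Relation.ReflTransGen.single hstep1).trans (Relation.ReflTransGen.single hstep2)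
  · -- Case B
    push Not at hex
    obtain ⟨e, heE, he1, hae, hbe⟩ := hCU
    have heU : e ∈ U := hex e heE he1 hae hbe
    obtain ⟨c, hcU, hc1, hec, hmem'⟩ := exists_second_gen_of_kleinFour U heU he1
    have hcc := mul_self_of_mem_kleinFour U hcU
    -- E ⊓ C(c) ≤ U
    have hle : (E ⊓ centralizer ({c} : Set P) : Subgroup P) ≤ U := by
      intro x hx
      rw [Subgroup.mem_inf, Subgroup.mem_centralizer_iff] at hx
      by_cases hx1 : x = 1
      · rw [hx1]; exact U.one_mem
      · have hxc : c * x = x * c := hx.2 c rfl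
        have hxe : e * x = x * e := hE e heE x hx.1
        have hall : ∀ y ∈ U, y * x = x * y := by
          intro y hy
          rw [hmem'] at hy
          rcases hy with rfl | rfl | rfl | rfl
          · simp
          · exact hxe
          · exact hxc
          · exact Commute.mul_left hxe hxc
        exact hex x hx.1 hx1 (hall a haU) (hall b hbU)
    have h3 := hbig c hcc
    have hfin : Finite U := IsKleinFour.instFinite
    have hdvd := Subgroup.card_dvd_of_le hle
    rw [hU.card_four] at hdvd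
    have h4 : Nat.card (E ⊓ centralizer ({c} : Set P) : Subgroup P) = 4 := by
      have hle4 := Nat.le_of_dvd (by norm_num) hdvd
      generalize Nat.card (E ⊓ centralizer ({c} : Set P) : Subgroup P) = k at *
      interval_cases k
      · norm_num at hdvd
      · rfl
    have heq : (E ⊓ centralizer ({c} : Set P) : Subgroup P) = U :=
      Subgroup.eq_of_le_of_card_ge hle (by rw [h4, hU.card_four])
    exact ⟨U, hU, heq ▸ inf_le_left, Relation.ReflTransGen.refl⟩

theorem result {P : Type*} [Group P] [Finite P] (hP : IsPGroup 2 P)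
    (E : Subgroup P) [E.Normal] (hE : IsMulCommutative E) (hE2 : ∀ e ∈ E, e ^ 2 = 1) (hE8 : 8 ≤ Nat.card E) :
    Cfsg.IsFourConnected P := by
  intro U V hU hV
  have hEc : ∀ x ∈ E, ∀ y ∈ E, x * y = y * x := fun x hx y hy =>
    congrArg Subtype.val (hE.is_comm.comm ⟨x, hx⟩ ⟨y, hy⟩)
  have hE2' : ∀ e ∈ E, e * e = 1 := fun e he => by rw [← pow_two]; exact hE2 e he
  obtain ⟨U', hU', hU'E, hUU'⟩ := reach E hEc hE2' hE8 U hU
  obtain ⟨V', hV', hV'E, hVV'⟩ := reach E hEc hE2' hE8 V hV
  have hmid : Rel U' V' := ⟨hU', hV', fun a ha b hb => hEc a (hU'E ha) b (hV'E hb)⟩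
  have hVV'' : Relation.ReflTransGen Rel V' V := reach_symm hVV'
  exact (hUU'.trans (Relation.ReflTransGen.single hmid)).trans hVV''

end Cfsg.Agent.S0502
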