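-- Statement S0505.
import Cfsg.Statements.S0505
import Cfsg.Agent.Lib.Helper61.SolvableCore
import Cfsg.Agent.Lib.Helper28.AxB

set_option autoImplicit false
open Cfsg

namespace Cfsg.Agent.S0505

open Cfsg.Agent.Lib Subgroup
open scoped commutatorElement

variable {K : Type*} [Group K]

/-- The series `dser C` is the image of the derived series of `↥C`. -/
theorem dser_eq_map (C : Subgroup K) :
    ∀ n, Helper61.dser C n = (derivedSeries ↥C n).map C.subtype
  | 0 => by
    unfold Helper61.dser
    rw [derivedSeries_zero, ← MonoidHom.range_eq_map, Subgroup.range_subtype]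
  | n + 1 => by
    unfold Helper61.dser
    rw [dser_eq_map C n, derivedSeries_succ, Subgroup.map_commutator]

/-- Hall–Higman 1.2.3 assuming only that `C_K(O_p(K))` is solvable. -/
theorem centralizer_pCore_le_of_solvable [Finite K] (p : ℕ) [hp : Fact p.Prime]
    (h : pPrimeCore p K = ⊥)
    (hs : Group.IsSolvable ↥(centralizer (pCore p K : Set K))) :
    centralizer (pCore p K : Set K) ≤ pCore p K := by
  set R := pCore p K with hR
  set C := centralizer (R : Set K) with hC
  have hRn : R.Normal := pCore_normal p K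
  have hCn : C.Normal := Subgroup.normal_centralizer
  obtain ⟨N, hN⟩ := hs.solvable
  have hbot : Helper61.dser C N = ⊥ := by
    rw [dser_eq_map, hN, Subgroup.map_bot]
  have hcomm : ⁅R, C⁆ = ⊥ := by
    rw [Subgroup.commutator_comm, Subgroup.commutator_eq_bot_iff_le_centralizer]
  have key : ∀ k, k ≤ N → Helper61.dser C (N - k) ≤ R := by
    intro k
    induction k with
    | zero => intro _; rw [Nat.sub_zero, hbot]; exact bot_le
    | succ k ih =>
      intro hk
      have ih' := ih (by omega)
      have e : N - k = (N - (k + 1)) + 1 := by omega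
      rw [e] at ih'
      set D := Helper61.dser C (N - (k + 1)) with hD
      have hDn : D.Normal := Helper61.dser_normal C _
      have hDC : D ≤ C := Helper61.dser_le C _
      have hDD : ⁅D, D⁆ ≤ R := ih'
      have hnil : Group.IsNilpotent ↥D := by
        rw [Subgroup.isNilpotent_iff_lowerCentralSeries]
        refine ⟨2, ?_⟩
        rw [Subgroup.lowerCentralSeries_succ, Subgroup.lowerCentralSeries_succ,
          Subgroup.lowerCentralSeries_zero, eq_bot_iff, ← hcomm]
        exact Subgroup.commutator_mono hDD hDC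
      have hDp : IsPGroup p ↥D := Helper61.isPGroup_of_normal_nilpotent p h D hnil
      exact Helper61.le_pCore hDn hDp
  have := key N le_rfl
  rwa [Nat.sub_self] at this

/-- An element of a `p`-group whose order is coprime to `p` is trivial. -/
theorem eq_one_of_isPGroup_of_coprime {p : ℕ} [Fact p.Prime] {Q : Subgroup K} (hQ : IsPGroup p Q)
    {x : K} (hx : x ∈ Q) (hc : (orderOf x).Coprime p) : x = 1 := by
  obtain ⟨k, hk⟩ := hQ ⟨x, hx⟩
  have h1 : x ^ p ^ k = 1 := by simpa using congrArg Subtype.val hk
  have h2 : orderOf x ∣ p ^ k := orderOf_dvd_of_pow_eq_one h1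
  have h3 : orderOf x = 1 := Nat.eq_one_of_dvd_coprimes (Nat.Coprime.pow_right k hc) dvd_rfl h2
  exact orderOf_eq_one_iff.mp h3

variable {G : Type*} [Group G]

/-- The key application of the `A × B` lemma. -/
theorem eq_bot_of_axb [Finite G] (p : ℕ) [Fact p.Prime] (H : Subgroup G)
    (hsol : Group.IsSolvable ↥H) (hO : pPrimeCore p ↥H = ⊥) (T A : Subgroup G)
    (hT : IsPGroup p T) (hTH : T ≤ H) (hAH : A ≤ H) (hA : (Nat.card A).Coprime p)
    (hAT : ∀ a ∈ A, ∀ x ∈ T, a * x = x * a)
    (hN : normalizer (T : Set G) ≤ normalizer (A : Set G)) : A = ⊥ := by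
  set T' : Subgroup ↥H := T.subgroupOf H with hT'
  set A' : Subgroup ↥H := A.subgroupOf H with hA'
  set Q : Subgroup ↥H := pCore p ↥H with hQ
  have hQn : Q.Normal := pCore_normal p ↥H
  have hQp : IsPGroup p Q := Helper61.pCore_isPGroup p ↥H
  have hT'p : IsPGroup p T' := hT.comap_subtype
  have hordA : ∀ x ∈ A', (orderOf x).Coprime p := by
    intro x hx
    have h1 : orderOf (x : G) ∣ Nat.card A := Subgroup.orderOf_dvd_natCard A hx
    rw [Subgroup.orderOf_coe] at h1
    exact Nat.Coprime.coprime_dvd_left h1 hA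
  have hL : Helper28.PClosing p A' := Helper28.pClosing_of_coprime p hordA
  have hLP : ⁅A', T'⁆ = ⊥ := by
    rw [Subgroup.commutator_eq_bot_iff_le_centralizer]
    intro a ha
    rw [Subgroup.mem_centralizer_iff]
    intro x hx
    apply Subtype.ext
    exact (hAT a ha x hx).symm
  have hLR : ⁅A', Q ⊓ normalizer (T' : Set ↥H)⁆ = ⊥ := by
    rw [Subgroup.commutator_eq_bot_iff_le_centralizer]
    intro a ha
    rw [Subgroup.mem_centralizer_iff]
    intro d hd
    have hdQ : d ∈ Q := hd.1
    have hdN : d ∈ normalizer (T' : Set ↥H) := hd.2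
    -- (d : G) normalizes T, hence A
    have hdG : (d : G) ∈ normalizer (T : Set G) := by
      rw [Subgroup.mem_normalizer_iff] at hdN ⊢
      intro x
      constructor
      · intro hx
        have := (hdN ⟨x, hTH hx⟩).mp hx
        exact this
      · intro hx
        have hxH : x ∈ H := by
          have h1 : (d : G)⁻¹ * ((d : G) * x * (d : G)⁻¹) * (d : G) ∈ H :=
            H.mul_mem (H.mul_mem (H.inv_mem d.2) (hTH hx)) d.2
          have h2 : (d : G)⁻¹ * ((d : G) * x * (d : G)⁻¹) * (d : G) = x := by group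
          rwa [h2] at h1
        exact (hdN ⟨x, hxH⟩).mpr hx
    have hdA : (d : G) ∈ normalizer (A : Set G) := hN hdG
    -- the commutator c = a d a⁻¹ d⁻¹
    set c : ↥H := a * d * a⁻¹ * d⁻¹ with hc
    have hcA : c ∈ A' := by
      have h1 : (d : G) * (a : G)⁻¹ * (d : G)⁻¹ ∈ A :=
        (Subgroup.mem_normalizer_iff.mp hdA _).mp (A.inv_mem ha)
      have h2 : (c : G) = (a : G) * ((d : G) * (a : G)⁻¹ * (d : G)⁻¹) := by
        simp only [hc, Subgroup.coe_mul, Subgroup.coe_inv]; group
      show (c : G) ∈ A
      rw [h2]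
      exact A.mul_mem ha h1
    have hcQ : c ∈ Q := by
      have h1 : a * d * a⁻¹ ∈ Q := hQn.conj_mem d hdQ a
      exact Q.mul_mem h1 (Q.inv_mem hdQ)
    have hc1 : c = 1 := eq_one_of_isPGroup_of_coprime hQp hcQ (hordA c hcA)
    have : a * d = d * a := by
      have h3 : a * d * a⁻¹ * d⁻¹ = 1 := hc1
      calc a * d = (a * d * a⁻¹ * d⁻¹) * d * a := by group
        _ = d * a := by rw [h3, one_mul]
    exact this.symm
  have key := Helper28.pClosing_centralizes_pCore T' hT'p A' hL hLP hLR
  rw [Subgroup.commutator_eq_bot_iff_le_centralizer] at key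
  have hHH := Helper61.centralizer_pCore_le p hsol hO
  rw [eq_bot_iff]
  intro a ha
  have haH : a ∈ H := hAH ha
  have ha' : (⟨a, haH⟩ : ↥H) ∈ A' := ha
  have h1 : (⟨a, haH⟩ : ↥H) ∈ Q := hHH (key ha')
  have h2 := eq_one_of_isPGroup_of_coprime hQp h1 (hordA _ ha')
  rw [Subgroup.mem_bot]
  exact congrArg Subtype.val h2

/-- In a finite group, `O_p` and `O_{p'}` commute elementwise. -/
theorem commute_pPrimeCore_pCore [Finite K] (p : ℕ) [Fact p.Prime] {x y : K}
    (hx : x ∈ pPrimeCore p K) (hy : y ∈ pCore p K) : x * y = y * x := by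
  have hdis : Disjoint (pPrimeCore p K) (pCore p K) := by
    rw [Subgroup.disjoint_def]
    intro z hz1 hz2
    apply eq_one_of_isPGroup_of_coprime (Helper61.pCore_isPGroup p K) hz2
    exact Nat.Coprime.coprime_dvd_left (Subgroup.orderOf_dvd_natCard _ hz1)
      (Helper61.card_pPrimeCore_coprime p K)
  exact Subgroup.commute_of_normal_of_disjoint _ _ (pPrimeCore_normal p K) (pCore_normal p K)
    hdis x y hx hy

theorem result {G : Type*} [Group G] [Finite G]
    (h2 : Even (Nat.card G))
    (hs : ∀ t : G, orderOf t = 2 → Group.IsSolvable (Subgroup.centralizer ({t} : Set G)))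
    (hc : ∀ t : G, orderOf t = 2 → Cfsg.oddCore (Subgroup.centralizer ({t} : Set G)) = ⊥) :
    Cfsg.IsCharacteristicTwoType G := by
  have : Fact (Nat.Prime 2) := ⟨Nat.prime_two⟩
  refine ⟨h2, fun T hT hT1 => ?_⟩
  unfold IsOfCharacteristicTwo
  set N : Subgroup G := normalizer (T : Set G) with hN
  set R : Subgroup ↥N := pCore 2 ↥N with hR
  have hRp : IsPGroup 2 R := Helper61.pCore_isPGroup 2 ↥N
  have hRn : R.Normal := pCore_normal 2 ↥N
  -- T' ≤ R
  have hTN : T ≤ N := Subgroup.le_normalizer
  have hT'R : T.subgroupOf N ≤ R :=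
    Helper61.le_pCore (Subgroup.normal_in_normalizer) hT.comap_subtype
  -- R is nontrivial
  have hRnt : Nontrivial R := by
    obtain ⟨⟨x, hx⟩, hx1'⟩ := Subgroup.ne_bot_iff_exists_ne_one.mp hT1
    have hx1 : x ≠ 1 := fun h => hx1' (Subtype.ext h)
    refine ⟨⟨⟨⟨x, hTN hx⟩, hT'R hx⟩, 1, ?_⟩⟩
    intro h
    apply hx1
    have := congrArg (fun r : R => ((r : ↥N) : G)) h
    simpa using this
  have hZnt : Nontrivial (Subgroup.center R) := hRp.center_nontrivial
  have hZp : IsPGroup 2 (Subgroup.center R) := hRp.to_subgroup _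
  have hdvd : 2 ∣ Nat.card (Subgroup.center R) := by
    rcases hZp.card_eq_or_dvd with h | h
    · exact absurd h (Finite.one_lt_card_iff_nontrivial.mpr hZnt).ne'
    · exact h
  obtain ⟨t₀, ht₀⟩ := exists_prime_orderOf_dvd_card' 2 hdvd
  -- the involution t in G
  set tK : ↥N := ((t₀ : R) : ↥N) with htK
  set t : G := (tK : G) with ht
  have htord : orderOf t = 2 := by
    rw [ht, Subgroup.orderOf_coe, htK, Subgroup.orderOf_coe, Subgroup.orderOf_coe, ht₀]
  have htKR : tK ∈ R := (t₀ : R).2
  have htKc : ∀ r ∈ R, r * tK = tK * r := by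
    intro r hr
    have := Subgroup.mem_center_iff.mp t₀.2 ⟨r, hr⟩
    exact congrArg Subtype.val this
  set H : Subgroup G := centralizer ({t} : Set G) with hH
  have memH : ∀ x : ↥N, x * tK = tK * x → (x : G) ∈ H := by
    intro x hx
    rw [hH, Subgroup.mem_centralizer_iff]
    intro y hy
    rw [Set.mem_singleton_iff] at hy
    subst hy
    have := congrArg Subtype.val hx
    simpa using this.symm
  apply centralizer_pCore_le_of_solvable 2
  · -- the odd core of N is trivial
    set A : Subgroup G := (pPrimeCore 2 ↥N).map N.subtype with hA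
    have hAbot : A = ⊥ := by
      apply eq_bot_of_axb 2 H (hs t htord) (hc t htord) T A hT
      · intro x hx
        exact memH ⟨x, hTN hx⟩ (htKc _ (hT'R hx))
      · rintro _ ⟨a, ha, rfl⟩
        exact memH a (commute_pPrimeCore_pCore 2 ha htKR)
      · rw [hA, Subgroup.card_map_of_injective N.subtype_injective]
        exact Helper61.card_pPrimeCore_coprime 2 ↥N
      · rintro _ ⟨a, ha, rfl⟩ x hx
        have := commute_pPrimeCore_pCore 2 ha (hT'R (show (⟨x, hTN hx⟩ : ↥N) ∈ T.subgroupOf N from hx))
        exact congrArg Subtype.val this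
      · have h1 := Subgroup.le_normalizer_map (H := pPrimeCore 2 ↥N) N.subtype
        have h2 : normalizer ((pPrimeCore 2 ↥N : Subgroup ↥N) : Set ↥N) = ⊤ :=
          Subgroup.normalizer_eq_top_iff.mpr (pPrimeCore_normal 2 ↥N)
        rw [h2, ← MonoidHom.range_eq_map, Subgroup.range_subtype] at h1
        exact h1
    exact (Subgroup.map_eq_bot_iff_of_injective _ N.subtype_injective).mp hAbot
  · -- the centralizer of R is solvable
    have hsolH : Group.IsSolvable ↥H := hs t htord
    let ψ : ↥(centralizer (R : Set ↥N)) →* ↥H :=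
      MonoidHom.codRestrict (N.subtype.comp (centralizer (R : Set ↥N)).subtype) H (by
        intro c
        apply memH
        have := Subgroup.mem_centralizer_iff.mp c.2 tK htKR
        exact this.symm)
    have hψ : Function.Injective ψ := by
      intro c₁ c₂ h
      have := congrArg Subtype.val h
      apply Subtype.ext
      apply Subtype.ext
      exact this
    exact Group.isSolvable_of_isSolvable_injective hψ

end Cfsg.Agent.S0505
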