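import Cfsg.Statements.S0514
import Cfsg.Agent.Lib.Helper41.Frobenius
import Cfsg.Agent.Lib.Helper70.Dihedral
import Cfsg.Agent.Lib.Helper12.DihedralLike

set_option autoImplicit false
open Cfsg

namespace Cfsg.Agent.S0514

open Cfsg.Agent.Lib.Helper12 Cfsg.Agent.Lib.Helper70

/-- Key step: in a group with dihedral Sylow 2-subgroups, an element of odd order centralizing the
involution `t` and normalizing a `2`-subgroup `Q'` of `C(t)` centralizes `Q'`. -/
theorem centralizes_of_dihedral_sylow {X : Type*} [Group X] [Finite X]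
    (S : Sylow 2 X) (n : ℕ) (ψ₀ : (S : Subgroup X) ≃* DihedralGroup n) (t : X)
    (ht : orderOf t = 2) (Q' : Subgroup X) (hQ' : IsPGroup 2 Q')
    (hQt : ∀ x ∈ Q', x * t = t * x) (g : X) (hgt : g * t = t * g)
    (hgQ : g ∈ Subgroup.normalizer (Q' : Set X)) (hgo : Odd (orderOf g)) :
    ∀ x ∈ Q', g * x = x * g := by
  have ht1 : t ≠ 1 := by
    intro h; rw [h, orderOf_one] at ht; omega
  set Z := Subgroup.zpowers t with hZ
  have hZ2 : IsPGroup 2 Z := by
    apply IsPGroup.of_card (n := 1)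
    rw [Nat.card_zpowers, ht, pow_one]
  have hZQ : Z ≤ Subgroup.normalizer (Q' : Set X) := by
    refine le_trans ?_ (Subgroup.centralizer_le_normalizer _)
    rw [hZ, Subgroup.zpowers_le, Subgroup.mem_centralizer_iff]
    exact fun x hx => hQt x hx
  set H := Q' ⊔ Z with hH
  have hH2 : IsPGroup 2 H := IsPGroup.to_sup_of_normal_left' hQ' hZ2 hZQ
  have htH : t ∈ H := Subgroup.mem_sup_right (Subgroup.mem_zpowers t)
  have hgZ : g ∈ Subgroup.normalizer (Z : Set X) := by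
    apply Subgroup.centralizer_le_normalizer
    rw [Subgroup.mem_centralizer_iff]
    intro z hz
    obtain ⟨k, rfl⟩ := Subgroup.mem_zpowers_iff.mp hz
    exact ((show Commute g t from hgt).zpow_right k).eq.symm
  have hgH : g ∈ Subgroup.normalizer (H : Set X) := by
    rw [Subgroup.mem_normalizer_iff_map_conj_eq, hH, Subgroup.map_sup,
      Subgroup.mem_normalizer_iff_map_conj_eq.mp hgQ, Subgroup.mem_normalizer_iff_map_conj_eq.mp hgZ]
  obtain ⟨S', hHS'⟩ := hH2.exists_le_sylow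
  obtain ⟨x₀, rfl⟩ := MulAction.exists_smul_eq X S S'
  set ψ : ((x₀ • S : Sylow 2 X) : Subgroup X) ≃* DihedralGroup n :=
    (Sylow.equivSMul S x₀).symm.trans ψ₀ with hψ
  set T : Subgroup X := ((x₀ • S : Sylow 2 X) : Subgroup X) with hT
  set R₀' : Subgroup T :=
    H.subgroupOf T ⊓ (Subgroup.zpowers (DihedralGroup.r (1 : ZMod n))).comap ψ.toMonoidHom with hR₀'
  set R₀ : Subgroup X := R₀'.map T.subtype with hR₀
  have hmemR₀ : ∀ x (hx : x ∈ T), x ∈ R₀ ↔ x ∈ H ∧ ψ ⟨x, hx⟩ ∈ Subgroup.zpowers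
      (DihedralGroup.r (1 : ZMod n)) := by
    intro x hx
    constructor
    · rintro ⟨y, hy, rfl⟩
      exact ⟨Subgroup.mem_subgroupOf.mp hy.1, hy.2⟩
    · rintro ⟨h1, h2⟩
      exact ⟨⟨x, hx⟩, ⟨Subgroup.mem_subgroupOf.mpr h1, h2⟩, rfl⟩
  have hR₀H : R₀ ≤ H := by
    rintro _ ⟨y, hy, rfl⟩
    exact Subgroup.mem_subgroupOf.mp hy.1
  have hcyc : IsCyclic R₀ := by
    have h1 : R₀'.map ψ.toMonoidHom ≤ Subgroup.zpowers (DihedralGroup.r (1 : ZMod n)) := by
      rintro _ ⟨y, hy, rfl⟩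
      exact hy.2
    have h2 : IsCyclic (R₀'.map ψ.toMonoidHom) := Subgroup.isCyclic_of_le h1
    have h3 : IsCyclic R₀' :=
      isCyclic_of_injective (R₀'.equivMapOfInjective ψ.toMonoidHom ψ.injective).toMonoidHom
        (R₀'.equivMapOfInjective ψ.toMonoidHom ψ.injective).injective
    exact isCyclic_of_surjective (R₀'.equivMapOfInjective T.subtype T.subtype_injective).toMonoidHom
      (R₀'.equivMapOfInjective T.subtype T.subtype_injective).surjective
  have hrefl : ∀ x (hx : x ∈ T), x ∈ H → x ∉ R₀ → ∃ i : ZMod n, ψ ⟨x, hx⟩ = DihedralGroup.sr i := by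
    intro x hx hxH hxR
    rcases hd : ψ ⟨x, hx⟩ with i | i
    · exfalso
      apply hxR
      rw [hmemR₀ x hx]
      refine ⟨hxH, ?_⟩
      rw [hd, dih_mem_zpowers_r_one]
      exact ⟨i, rfl⟩
    · exact ⟨i, rfl⟩
  have h2 : ∀ x ∈ H, x ∉ R₀ → x * x = 1 := by
    intro x hxH hxR
    have hx : x ∈ T := hHS' hxH
    obtain ⟨i, hi⟩ := hrefl x hx hxH hxR
    have h1 : ψ (⟨x, hx⟩ * ⟨x, hx⟩) = 1 := by
      rw [map_mul, hi, DihedralGroup.sr_mul_sr, sub_self]; rfl
    have h2 : (⟨x, hx⟩ * ⟨x, hx⟩ : T) = 1 := ψ.injective (by rw [h1, map_one])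
    exact congrArg Subtype.val h2
  have h3 : ∀ x ∈ H, x ∉ R₀ → ∀ y ∈ H, y ∉ R₀ → x * y ∈ R₀ := by
    intro x hxH hxR y hyH hyR
    have hx : x ∈ T := hHS' hxH
    have hy : y ∈ T := hHS' hyH
    obtain ⟨i, hi⟩ := hrefl x hx hxH hxR
    obtain ⟨j, hj⟩ := hrefl y hy hyH hyR
    rw [hmemR₀ (x * y) (T.mul_mem hx hy)]
    refine ⟨H.mul_mem hxH hyH, ?_⟩
    have : (⟨x * y, T.mul_mem hx hy⟩ : T) = ⟨x, hx⟩ * ⟨y, hy⟩ := rfl
    rw [this, map_mul, hi, hj, DihedralGroup.sr_mul_sr, dih_mem_zpowers_r_one]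
    exact ⟨_, rfl⟩
  have hcen := centralizes_of_dihedral_like H R₀ g t hR₀H hcyc hH2 h2 h3 hgH hgo htH ht1 hgt
  rw [Subgroup.mem_centralizer_iff] at hcen
  intro x hx
  exact (hcen x (Subgroup.mem_sup_left hx)).symm

/-- In a finite group whose Sylow 2-subgroups are dihedral of order at least 4, the centralizer of any involution has a
normal subgroup of odd order whose index in the centralizer is a power of 2. -/
theorem result {X : Type*} [Group X] [Finite X]
    (S : Sylow 2 X) (n : ℕ) (hn : 2 ≤ n) (hS : Nonempty ((S : Subgroup X) ≃* DihedralGroup n)) (t : X)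
    (ht : orderOf t = 2) :
    ∃ N : Subgroup (Subgroup.centralizer ({t} : Set X)), N.Normal ∧ Odd (Nat.card N) ∧ ∃ k : ℕ, N.index = 2 ^ k := by
  obtain ⟨ψ₀⟩ := hS
  set C := Subgroup.centralizer ({t} : Set X) with hC
  have hfrob : Cfsg.Agent.Lib.Helper41.FrobCond 2 C := by
    intro Q hQ g hgN hcop
    have hgo : Odd (orderOf (g : X)) := by
      rw [Subgroup.orderOf_coe]; exact Nat.coprime_two_right.mp hcop
    have hQ' : IsPGroup 2 (Q.map C.subtype) := hQ.map _
    have hQt : ∀ x ∈ Q.map C.subtype, x * t = t * x := by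
      rintro _ ⟨y, -, rfl⟩
      exact Subgroup.mem_centralizer_singleton_iff.mp y.2
    have hgt : (g : X) * t = t * g := Subgroup.mem_centralizer_singleton_iff.mp g.2
    have hgQ : (g : X) ∈ Subgroup.normalizer ((Q.map C.subtype : Subgroup X) : Set X) := by
      rw [Subgroup.mem_normalizer_iff]
      intro x
      constructor
      · rintro ⟨y, hy, rfl⟩
        refine ⟨g * y * g⁻¹, (Subgroup.mem_normalizer_iff.mp hgN y).mp hy, rfl⟩
      · rintro ⟨y, hy, hyx⟩
        have hxC : x ∈ C := by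
          have h1 : x = (g : X)⁻¹ * (y : X) * g := by
            have : (y : X) = g * x * (g : X)⁻¹ := hyx
            rw [this]; group
          rw [h1]
          exact C.mul_mem (C.mul_mem (C.inv_mem g.2) y.2) g.2
        refine ⟨⟨x, hxC⟩, ?_, rfl⟩
        show (⟨x, hxC⟩ : C) ∈ Q
        rw [Subgroup.mem_normalizer_iff.mp hgN ⟨x, hxC⟩]
        have : g * ⟨x, hxC⟩ * g⁻¹ = y := Subtype.ext hyx.symm
        rw [this]; exact hy
    have key := centralizes_of_dihedral_sylow S n ψ₀ t ht (Q.map C.subtype) hQ' hQt g hgt hgQ hgo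
    rw [Subgroup.mem_centralizer_iff]
    intro y hy
    apply Subtype.ext
    exact (key y ⟨y, hy, rfl⟩).symm
  obtain ⟨P, N, hNn, hc⟩ := Cfsg.Agent.Lib.Helper41.hasNormalPComplement_of_frobCond hfrob
  refine ⟨N, hNn, ?_, ?_⟩
  · have h1 : (P : Subgroup C).index = Nat.card N := hc.index_eq_card
    rw [← h1]
    exact Nat.odd_iff.mpr (Nat.two_dvd_ne_zero.mp P.not_dvd_index)
  · obtain ⟨k, hk⟩ := IsPGroup.iff_card.mp P.2
    exact ⟨k, by rw [hc.symm.index_eq_card, hk]⟩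

end Cfsg.Agent.S0514
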