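-- Statement S0520.
import Cfsg.Statements.S0520
import Cfsg.Agent.Lib.Helper12.FourConn

set_option autoImplicit false
open Cfsg

namespace Cfsg.Agent.S0520

open Cfsg.Agent.Lib.Helper12 Subgroup
open scoped Pointwise

variable {G : Type*} [Group G]

/-- The 2-generated core with respect to `S`. -/
def core (S : Subgroup G) : Subgroup G :=
  ⨆ Q : {Q : Subgroup G // Q ≤ S ∧ ¬ Cfsg.PRankLE 2 1 Q}, Subgroup.normalizer ((Q : Subgroup G) : Set G)

theorem normalizer_le_core (S : Subgroup G) {Q V : Subgroup G} (hQS : Q ≤ S) (hVQ : V ≤ Q)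
    (hV : IsKleinFour V) : normalizer (Q : Set G) ≤ core S :=
  le_iSup (fun Q : {Q : Subgroup G // Q ≤ S ∧ ¬ Cfsg.PRankLE 2 1 Q} =>
    Subgroup.normalizer ((Q : Subgroup G) : Set G))
    ⟨Q, hQS, (not_pRankLE_subgroup_iff Q).mpr ⟨V, hVQ, hV⟩⟩

theorem mem_conj_smul_iff {g x : G} {V : Subgroup G} :
    x ∈ MulAut.conj g • V ↔ g⁻¹ * x * g ∈ V := by
  rw [Subgroup.mem_pointwise_smul_iff_inv_smul_mem]
  simp [MulAut.smul_def, mul_assoc]

theorem conj_mul_smul (g h : G) (V : Subgroup G) :
    MulAut.conj (g * h) • V = MulAut.conj g • MulAut.conj h • V := by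
  rw [map_mul, mul_smul]

theorem conj_inv_smul_smul (g : G) (V : Subgroup G) :
    MulAut.conj g⁻¹ • MulAut.conj g • V = V := by
  rw [map_inv, inv_smul_smul]

theorem conj_smul_inv_smul (g : G) (V : Subgroup G) :
    MulAut.conj g • MulAut.conj g⁻¹ • V = V := by
  rw [map_inv, smul_inv_smul]

theorem conj_one_smul (V : Subgroup G) : MulAut.conj (1 : G) • V = V := by
  rw [map_one, one_smul]

/-- The stabilizer of the component of `U₀`. -/
def stab (U₀ : Subgroup G) : Subgroup G where
  carrier := {g | Relation.ReflTransGen FRel (MulAut.conj g • U₀) U₀}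
  one_mem' := by
    show Relation.ReflTransGen FRel (MulAut.conj (1 : G) • U₀) U₀
    rw [conj_one_smul]
  mul_mem' := by
    intro g h hg hh
    show Relation.ReflTransGen FRel (MulAut.conj (g * h) • U₀) U₀
    rw [conj_mul_smul]
    exact (freach_smul g hh).trans hg
  inv_mem' := by
    intro g hg
    show Relation.ReflTransGen FRel (MulAut.conj g⁻¹ • U₀) U₀
    have := freach_smul g⁻¹ hg
    rw [conj_inv_smul_smul] at this
    exact freach_symm this

theorem mem_stab {U₀ : Subgroup G} {g : G} :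
    g ∈ stab U₀ ↔ Relation.ReflTransGen FRel (MulAut.conj g • U₀) U₀ := Iff.rfl

theorem isPGroup_of_kleinFour {V : Subgroup G} (hV : IsKleinFour V) : IsPGroup 2 V :=
  IsPGroup.of_card (n := 2) (by rw [hV.card_four]; norm_num)

/-- Every 2-subgroup is conjugate into the Sylow 2-subgroup `S`. -/
theorem exists_conj_le_sylow [Finite G] (S : Sylow 2 G) {X : Subgroup G} (hX : IsPGroup 2 X) :
    ∃ g : G, MulAut.conj g • X ≤ (S : Subgroup G) := by
  have : Fact (Nat.Prime 2) := ⟨Nat.prime_two⟩
  obtain ⟨P, hP⟩ := hX.exists_le_sylow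
  obtain ⟨g, hg⟩ := MulAction.exists_smul_eq G P S
  refine ⟨g, ?_⟩
  have h1 : MulAut.conj g • X ≤ MulAut.conj g • (P : Subgroup G) :=
    Subgroup.pointwise_smul_le_pointwise_smul_iff.mpr hP
  rw [← hg]
  exact h1

/-- Direction 1: if the core is everything then `G` is four-connected. -/
theorem connected_of_core_top [Finite G] (S : Sylow 2 G)
    (hS : Cfsg.IsFourConnected (S : Subgroup G)) {U₀ : Subgroup G} (hU₀S : U₀ ≤ (S : Subgroup G))
    (hU₀ : IsKleinFour U₀) (htop : core (S : Subgroup G) = ⊤) : Cfsg.IsFourConnected G := by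
  have hle : core (S : Subgroup G) ≤ stab U₀ := by
    apply iSup_le
    rintro ⟨Q, hQS, hQr⟩
    obtain ⟨V, hVQ, hV⟩ := (not_pRankLE_subgroup_iff Q).mp hQr
    intro g hg
    rw [mem_stab]
    have hVg : MulAut.conj g • V ≤ (S : Subgroup G) := by
      intro x hx
      rw [mem_conj_smul_iff] at hx
      have h1 := (Subgroup.mem_normalizer_iff.mp hg _).mp (hVQ hx)
      have h2 : g * (g⁻¹ * x * g) * g⁻¹ = x := by group
      rw [h2] at h1
      exact hQS h1
    have h1 := freach_of_le_of_connected (S : Subgroup G) hS hU₀S (hVQ.trans hQS) hU₀ hV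
    have h2 := freach_of_le_of_connected (S : Subgroup G) hS hVg hU₀S (isKleinFour_smul g hV) hU₀
    exact (freach_smul g h1).trans h2
  have hall : ∀ g : G, g ∈ stab U₀ := by
    intro g
    apply hle
    rw [htop]; trivial
  have key : ∀ U : Subgroup G, IsKleinFour U → Relation.ReflTransGen FRel U U₀ := by
    intro U hU
    obtain ⟨g, hg⟩ := exists_conj_le_sylow S (isPGroup_of_kleinFour hU)
    have h1 := freach_of_le_of_connected (S : Subgroup G) hS hg hU₀S (isKleinFour_smul g hU) hU₀
    have h2 := freach_smul g⁻¹ h1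
    rw [conj_inv_smul_smul] at h2
    exact h2.trans (mem_stab.mp (hall g⁻¹))
  intro U V hU hV
  exact (key U hU).trans (freach_symm (key V hV))

/-- Conjugating back: `D ≤ S^y` iff `D^{y⁻¹} ≤ S`. -/
theorem conj_inv_smul_le {y : G} {D S : Subgroup G} (h : D ≤ MulAut.conj y • S) :
    MulAut.conj y⁻¹ • D ≤ S := by
  rw [map_inv]
  exact Subgroup.subset_pointwise_smul_iff.mp h

/-- (b): normalizers of rank-2 subgroups of `S^y`, `y` in the core, lie in the core. -/
theorem normalizer_le_core_of_conj (S : Subgroup G) {y : G} (hy : y ∈ core S) {D V : Subgroup G}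
    (hD : D ≤ MulAut.conj y • S) (hVD : V ≤ D) (hV : IsKleinFour V) :
    normalizer (D : Set G) ≤ core S := by
  have hD' : MulAut.conj y⁻¹ • D ≤ S := conj_inv_smul_le hD
  have hV' : MulAut.conj y⁻¹ • V ≤ MulAut.conj y⁻¹ • D :=
    Subgroup.pointwise_smul_le_pointwise_smul_iff.mpr hVD
  have hN := normalizer_le_core S hD' hV' (isKleinFour_smul y⁻¹ hV)
  intro n hn
  have hm : y⁻¹ * n * y ∈ normalizer ((MulAut.conj y⁻¹ • D : Subgroup G) : Set G) := by
    rw [Subgroup.mem_normalizer_iff]
    intro h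
    rw [mem_conj_smul_iff, mem_conj_smul_iff]
    have h1 := Subgroup.mem_normalizer_iff.mp hn (y * h * y⁻¹)
    have e1 : y⁻¹⁻¹ * h * y⁻¹ = y * h * y⁻¹ := by group
    have e2 : y⁻¹⁻¹ * (y⁻¹ * n * y * h * (y⁻¹ * n * y)⁻¹) * y⁻¹ = n * (y * h * y⁻¹) * n⁻¹ := by
      group
    rw [e1, e2]
    exact h1
  have h2 := hN hm
  have h3 : n = y * (y⁻¹ * n * y) * y⁻¹ := by group
  rw [h3]
  exact (core S).mul_mem ((core S).mul_mem hy h2) ((core S).inv_mem hy)

/-- (c): Sylow's theorem inside the core. -/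
theorem exists_conj_in_core [Finite G] (S : Sylow 2 G) (hSΓ : (S : Subgroup G) ≤ core (S : Subgroup G))
    {X : Subgroup G} (hX : IsPGroup 2 X) (hXΓ : X ≤ core (S : Subgroup G)) :
    ∃ z ∈ core (S : Subgroup G), X ≤ MulAut.conj z • (S : Subgroup G) := by
  have : Fact (Nat.Prime 2) := ⟨Nat.prime_two⟩
  set Γ := core (S : Subgroup G) with hΓ
  have hX' : IsPGroup 2 (X.subgroupOf Γ) := hX.comap_subtype
  obtain ⟨Q, hQ⟩ := hX'.exists_le_sylow
  obtain ⟨z, hz⟩ := MulAction.exists_smul_eq ↥Γ (S.subtype hSΓ) Q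
  refine ⟨(z : G), z.2, ?_⟩
  intro x hx
  have hxΓ : x ∈ Γ := hXΓ hx
  have h1 : (⟨x, hxΓ⟩ : ↥Γ) ∈ (Q : Subgroup ↥Γ) := hQ hx
  rw [← hz, Sylow.coe_subgroup_smul, mem_conj_smul_iff, Sylow.coe_subtype,
    Subgroup.mem_subgroupOf] at h1
  rw [mem_conj_smul_iff]
  simpa using h1

/-- (e): everything joined to `U₀ ≤ S` lies in a core-conjugate of `S`. -/
theorem exists_conj_of_reach [Finite G] (S : Sylow 2 G)
    (hSΓ : (S : Subgroup G) ≤ core (S : Subgroup G)) {U₀ : Subgroup G}
    (hU₀S : U₀ ≤ (S : Subgroup G)) {V : Subgroup G} (h : Relation.ReflTransGen FRel U₀ V) :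
    ∃ z ∈ core (S : Subgroup G), V ≤ MulAut.conj z • (S : Subgroup G) := by
  induction h with
  | refl => exact ⟨1, Subgroup.one_mem _, by rw [conj_one_smul]; exact hU₀S⟩
  | @tail B C _ hBC ih =>
    obtain ⟨y, hy, hBy⟩ := ih
    have hN := normalizer_le_core_of_conj (S : Subgroup G) hy hBy le_rfl hBC.1
    have hCB : C ≤ normalizer (B : Set G) := by
      refine le_trans ?_ (Subgroup.centralizer_le_normalizer _)
      intro c hc
      rw [Subgroup.mem_centralizer_iff]
      intro b hb
      exact hBC.2.2 b hb c hc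
    exact exists_conj_in_core S hSΓ (isPGroup_of_kleinFour hBC.2.1) (hCB.trans hN)

theorem card_conj_smul [Finite G] (g : G) (S : Subgroup G) :
    Nat.card (MulAut.conj g • S : Subgroup G) = Nat.card S :=
  (Nat.card_congr (Subgroup.equivSMul (MulAut.conj g) S).toEquiv).symm

/-- (f): the Alperin-type induction. -/
theorem mem_core_of_common_four [Finite G] (S : Sylow 2 G)
    (hSΓ : (S : Subgroup G) ≤ core (S : Subgroup G))
    (hNS : normalizer ((S : Subgroup G) : Set G) ≤ core (S : Subgroup G)) :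
    ∀ (n : ℕ) (y : G), y ∈ core (S : Subgroup G) → ∀ (g : G) (W : Subgroup G), IsKleinFour W →
      W ≤ MulAut.conj y • (S : Subgroup G) → W ≤ MulAut.conj g • (S : Subgroup G) →
      Nat.card (S : Subgroup G) -
        Nat.card (MulAut.conj y • (S : Subgroup G) ⊓ MulAut.conj g • (S : Subgroup G) : Subgroup G)
          = n → g ∈ core (S : Subgroup G) := by
  have : Fact (Nat.Prime 2) := ⟨Nat.prime_two⟩
  intro n
  induction n using Nat.strong_induction_on with
  | _ n ih =>
    intro y hy g W hW hWy hWg hn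
    set Γ := core (S : Subgroup G) with hΓ
    set Sy : Subgroup G := MulAut.conj y • (S : Subgroup G) with hSy
    set Sg : Subgroup G := MulAut.conj g • (S : Subgroup G) with hSg
    set D : Subgroup G := Sy ⊓ Sg with hD
    have hcy : Nat.card Sy = Nat.card (S : Subgroup G) := card_conj_smul y _
    have hcg : Nat.card Sg = Nat.card (S : Subgroup G) := card_conj_smul g _
    by_cases hDS : D = Sy
    · -- then Sy = Sg
      have hle : Sy ≤ Sg := by rw [← hDS]; exact inf_le_right
      have heq : Sy = Sg := Subgroup.eq_of_le_of_card_ge hle (by rw [hcy, hcg])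
      have h1 : (y • S : Sylow 2 G) = g • S := by
        apply Sylow.ext
        rw [Sylow.coe_subgroup_smul, Sylow.coe_subgroup_smul]
        exact heq
      have h2 : (y⁻¹ * g) • S = S := by
        rw [mul_smul, ← h1, inv_smul_smul]
      have h3 : y⁻¹ * g ∈ normalizer ((S : Subgroup G) : Set G) :=
        Sylow.smul_eq_iff_mem_normalizer.mp h2
      have h4 : g = y * (y⁻¹ * g) := by group
      rw [h4]
      exact Γ.mul_mem hy (hNS h3)
    · -- D < Sg, use the normalizer condition in Sg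
      have hDlt : D.subgroupOf Sg < ⊤ := by
        rw [lt_top_iff_ne_top, Ne, Subgroup.subgroupOf_eq_top]
        intro hle
        apply hDS
        have hSgSy : Sg ≤ Sy := fun x hx => (hle hx).1
        have heq : Sg = Sy := Subgroup.eq_of_le_of_card_ge hSgSy (by rw [hcy, hcg])
        rw [hD, heq, inf_idem]
      have hSgp : IsPGroup 2 Sg := by
        have := (g • S : Sylow 2 G).isPGroup'
        rwa [Sylow.coe_subgroup_smul] at this
      have hnil : Group.IsNilpotent ↥Sg := hSgp.isNilpotent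
      have hnc := Group.normalizerCondition_of_isNilpotent (G := ↥Sg) _ hDlt
      set X : Subgroup G := (normalizer ((D.subgroupOf Sg : Subgroup ↥Sg) : Set ↥Sg)).map Sg.subtype
        with hX
      have hXSg : X ≤ Sg := by
        rintro _ ⟨x, _, rfl⟩; exact x.2
      have hDX : D ≤ X := by
        intro d hd
        have hdSg : d ∈ Sg := hd.2
        exact ⟨⟨d, hdSg⟩, Subgroup.le_normalizer (show (⟨d, hdSg⟩ : ↥Sg) ∈ D.subgroupOf Sg from hd),
          rfl⟩
      have hXD : Nat.card D < Nat.card X := by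
        have h1 : Nat.card (D.subgroupOf Sg) <
            Nat.card (normalizer ((D.subgroupOf Sg : Subgroup ↥Sg) : Set ↥Sg)) := by
          apply Nat.lt_of_le_of_ne (Nat.le_of_dvd Nat.card_pos (Subgroup.card_dvd_of_le hnc.le))
          intro heq
          exact hnc.ne (Subgroup.eq_of_le_of_card_ge hnc.le heq.ge)
        rw [hX, Subgroup.card_map_of_injective Sg.subtype_injective]
        have h2 : Nat.card (D.subgroupOf Sg) = Nat.card D :=
          Nat.card_congr (Subgroup.subgroupOfEquivOfLe (inf_le_right : D ≤ Sg)).toEquiv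
        rw [← h2]
        exact h1
      have hXN : X ≤ normalizer (D : Set G) := by
        have h1 := Subgroup.le_normalizer_map (H := D.subgroupOf Sg) Sg.subtype
        rw [Subgroup.map_subgroupOf_eq_of_le (inf_le_right : D ≤ Sg)] at h1
        exact h1
      have hWD : W ≤ D := le_inf hWy hWg
      have hNΓ : normalizer (D : Set G) ≤ Γ :=
        normalizer_le_core_of_conj (S : Subgroup G) hy (inf_le_left : D ≤ Sy) hWD hW
      have hXp : IsPGroup 2 X := hSgp.to_le hXSg
      obtain ⟨z, hz, hXz⟩ := exists_conj_in_core S hSΓ hXp (hXN.trans hNΓ)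
      have hXle : X ≤ MulAut.conj z • (S : Subgroup G) ⊓ Sg := le_inf hXz hXSg
      have hcard1 : Nat.card X ≤
          Nat.card (MulAut.conj z • (S : Subgroup G) ⊓ Sg : Subgroup G) :=
        Nat.le_of_dvd Nat.card_pos (Subgroup.card_dvd_of_le hXle)
      have hcard2 : Nat.card (MulAut.conj z • (S : Subgroup G) ⊓ Sg : Subgroup G) ≤
          Nat.card (S : Subgroup G) := by
        rw [← hcg]
        exact Nat.le_of_dvd Nat.card_pos (Subgroup.card_dvd_of_le inf_le_right)
      refine ih (Nat.card (S : Subgroup G) -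
        Nat.card (MulAut.conj z • (S : Subgroup G) ⊓ Sg : Subgroup G)) ?_ z hz g W hW
        ((hWD.trans hDX).trans hXz) hWg rfl
      omega

/-- Direction 2: if `G` is four-connected then the core is everything. -/
theorem core_top_of_connected [Finite G] (S : Sylow 2 G) {U₀ : Subgroup G}
    (hU₀S : U₀ ≤ (S : Subgroup G)) (hU₀ : IsKleinFour U₀) (hG : Cfsg.IsFourConnected G) :
    core (S : Subgroup G) = ⊤ := by
  have hNS : normalizer ((S : Subgroup G) : Set G) ≤ core (S : Subgroup G) :=
    normalizer_le_core (S : Subgroup G) le_rfl hU₀S hU₀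
  have hSΓ : (S : Subgroup G) ≤ core (S : Subgroup G) := Subgroup.le_normalizer.trans hNS
  rw [eq_top_iff]
  intro g _
  have hW : IsKleinFour (MulAut.conj g • U₀ : Subgroup G) := isKleinFour_smul g hU₀
  have hreach := hG U₀ (MulAut.conj g • U₀) hU₀ hW
  obtain ⟨z, hz, hWz⟩ := exists_conj_of_reach S hSΓ hU₀S hreach
  have hWg : MulAut.conj g • U₀ ≤ MulAut.conj g • (S : Subgroup G) :=
    Subgroup.pointwise_smul_le_pointwise_smul_iff.mpr hU₀S
  exact mem_core_of_common_four S hSΓ hNS _ z hz g _ hW hWz hWg rfl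

theorem result {G : Type*} [Group G] [Finite G] (h2 : ¬ Cfsg.PRankLE 2 1 G)
    (S : Sylow 2 G) (hS : Cfsg.IsFourConnected (S : Subgroup G)) :
    ¬ Cfsg.IsFourConnected G ↔
      (⨆ Q : {Q : Subgroup G // Q ≤ (S : Subgroup G) ∧ ¬ Cfsg.PRankLE 2 1 Q},
          Subgroup.normalizer ((Q : Subgroup G) : Set G)) ≠ ⊤ := by
  obtain ⟨V, hV⟩ := (not_pRankLE_iff G).mp h2
  obtain ⟨g, hg⟩ := exists_conj_le_sylow S (isPGroup_of_kleinFour hV)
  have hU₀ := isKleinFour_smul g hV
  show ¬ _ ↔ core (S : Subgroup G) ≠ ⊤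
  rw [Ne, not_iff_not]
  exact ⟨core_top_of_connected S hg hU₀, connected_of_core_top S hS hg hU₀⟩

end Cfsg.Agent.S0520
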