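import Cfsg.Statements.S0521
import Cfsg.Agent.Lib.Helper31.QuadFrattini
import Cfsg.Agent.Lib.Helper01.HallHigman
import Cfsg.Agent.Lib.Helper01.PCore
import Cfsg.Agent.Lib.Helper01.PPrimeCore
import Cfsg.Agent.Lib.Helper29.PCore
import Cfsg.Agent.Lib.Helper31.SemiPQ

set_option autoImplicit false
open Cfsg

namespace Cfsg.Agent.S0521

open Cfsg.Agent.Lib.Helper31
open scoped commutatorElement

/-- Let X be a finite solvable group of odd order, p a prime and S a Sylow p-subgroup of X whose commutator subgroup is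
cyclic. Then the product of the largest normal subgroup of X of order prime to p with S is a normal subgroup of X. -/
theorem result {X : Type*} [Group X] [Finite X] [Group.IsSolvable X]
    (hX : Odd (Nat.card X)) (p : ℕ) [Fact p.Prime] (S : Sylow p X) (hS : IsCyclic (commutator (S : Subgroup X))) :
    (Cfsg.pPrimeCore p X ⊔ (S : Subgroup X)).Normal := by
  classical
  have hpP : p.Prime := Fact.out
  set K := Cfsg.pPrimeCore p X with hK
  haveI hKn : K.Normal := Cfsg.Agent.Lib.Helper01.pPrimeCore_normal p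
  by_cases hp2 : p = 2
  · -- `S` is trivial
    have hS1 : (S : Subgroup X) = ⊥ := by
      rw [← Subgroup.card_eq_one]
      obtain ⟨k, hk⟩ := S.isPGroup'.exists_card_eq
      rcases Nat.eq_zero_or_pos k with h0 | h0
      · rw [hk, h0, pow_zero]
      · exfalso
        have h2 : 2 ∣ Nat.card (S : Subgroup X) := by
          rw [hk, hp2]; exact dvd_pow_self 2 h0.ne'
        have h3 : 2 ∣ Nat.card X := h2.trans (Subgroup.card_subgroup_dvd_card _)
        exact (Nat.not_even_iff_odd.mpr hX) (even_iff_two_dvd.mpr h3)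
    rw [hS1, sup_bot_eq]
    exact hKn
  -- main case: `p` odd
  set π : X →* X ⧸ K := QuotientGroup.mk' K with hπ
  set V : Subgroup (X ⧸ K) := Cfsg.pCore p (X ⧸ K) with hV
  haveI hVn : V.Normal := Cfsg.Agent.Lib.Helper01.pCore_normal p
  have hVp : IsPGroup p V := Cfsg.Agent.Lib.Helper01.pCore_isPGroup p
  have hO : Cfsg.pPrimeCore p (X ⧸ K) = ⊥ := Cfsg.Agent.Lib.Helper29.pPrimeCore_quotient_eq_bot p
  have hcent : Subgroup.centralizer (V : Set (X ⧸ K)) ≤ V :=
    Cfsg.Agent.Lib.Helper01.centralizer_pCore_le p hO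
  set Sb : Subgroup (X ⧸ K) := (S : Subgroup X).map π with hSb
  have hSbp : IsPGroup p Sb := S.isPGroup'.map π
  have hVS : V ≤ Sb :=
    Cfsg.Agent.Lib.Helper01.pCore_le_sylow (S.mapSurjective (QuotientGroup.mk'_surjective K))
  -- the derived subgroup of `Sb` is cyclic
  have hD : ⁅Sb, Sb⁆ = (commutator (S : Subgroup X)).map (π.comp (S : Subgroup X).subtype) := by
    rw [← Subgroup.map_map, Subgroup.map_subtype_commutator, Subgroup.map_commutator]
  haveI hcyc : IsCyclic (⁅Sb, Sb⁆ : Subgroup (X ⧸ K)) := by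
    rw [hD]
    haveI := hS
    exact isCyclic_of_surjective
      ((π.comp (S : Subgroup X).subtype).subgroupMap (commutator (S : Subgroup X)))
      (MonoidHom.subgroupMap_surjective _ _)
  have hSbN : Sb ≤ Subgroup.normalizer ((⁅Sb, Sb⁆ : Subgroup (X ⧸ K)) : Set (X ⧸ K)) :=
    le_normalizer_commutator'' Subgroup.le_normalizer Subgroup.le_normalizer
  -- odd order
  have hoddQ : Odd (Nat.card (X ⧸ K)) := by
    have h1 : Nat.card (X ⧸ K) ∣ Nat.card X := by
      rw [← Subgroup.index_eq_card]
      exact Subgroup.index_dvd_card _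
    obtain ⟨k, hk⟩ := h1
    rw [hk] at hX
    exact (Nat.odd_mul.mp hX).1
  have hT : ∀ T : Sylow 2 (X ⧸ K), IsMulCommutative T := by
    intro T
    have h1 : Nat.card T = 1 := by
      obtain ⟨k, hk⟩ := T.isPGroup'.exists_card_eq
      rcases Nat.eq_zero_or_pos k with h0 | h0
      · rw [hk, h0, pow_zero]
      · exfalso
        have h2 : 2 ∣ Nat.card T := by rw [hk]; exact dvd_pow_self 2 h0.ne'
        have h3 : 2 ∣ Nat.card (X ⧸ K) := h2.trans (Subgroup.card_subgroup_dvd_card _)
        exact (Nat.not_even_iff_odd.mpr hoddQ) (even_iff_two_dvd.mpr h3)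
    have hsub : Subsingleton T := (Nat.card_eq_one_iff_unique.mp h1).1
    exact ⟨⟨fun a b => Subsingleton.elim _ _⟩⟩
  -- the conjugation action on `V`
  let conjN : (X ⧸ K) →* MulAut V := MulAut.conjNormal
  have hker : IsPGroup p conjN.ker := by
    apply hVp.to_le
    intro h hh
    apply hcent
    rw [MonoidHom.mem_ker] at hh
    rw [Subgroup.mem_centralizer_iff]
    intro y hy
    have h1 : conjN h ⟨y, hy⟩ = ⟨y, hy⟩ := by rw [hh]; rfl
    have h2 := congrArg Subtype.val h1
    simp only [conjN, MulAut.conjNormal_apply] at h2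
    calc y * h = (h * y * h⁻¹) * h := by rw [h2]
      _ = h * y := by group
  -- main claim
  have main : Sb ≤ V := by
    intro a haS
    obtain ⟨e, he⟩ := hSbp ⟨a, haS⟩
    have hae : a ^ (p ^ e) = 1 := congrArg Subtype.val he
    have hq : ∀ x : V, conjN a (conjN a x * x⁻¹) * (conjN a x * x⁻¹)⁻¹ ∈ frattini V := by
      intro x
      set c : V := conjN a x * x⁻¹ with hc
      have hcv : (c : X ⧸ K) = a * x.1 * a⁻¹ * x.1⁻¹ := by
        rw [hc, Subgroup.coe_mul, Subgroup.coe_inv]
        simp only [conjN, MulAut.conjNormal_apply]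
      have hcD : (c : X ⧸ K) ∈ ⁅Sb, Sb⁆ := by
        rw [hcv]
        exact Subgroup.commutator_mem_commutator haS (hVS x.2)
      obtain ⟨j, hj⟩ := hVp c
      have hcj : (c : X ⧸ K) ^ (p ^ j) = 1 := by
        have := congrArg Subtype.val hj
        simpa using this
      obtain ⟨m, hm⟩ := conj_mul_inv_eq_pow_p (p := p) ⁅Sb, Sb⁆ a (hSbN haS) e hae
        (c : X ⧸ K) hcD j hcj
      have h1 : conjN a c * c⁻¹ = (c ^ m) ^ p := by
        apply Subtype.ext
        rw [Subgroup.coe_mul, Subgroup.coe_inv, Subgroup.coe_pow, Subgroup.coe_zpow, ← hm]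
        simp only [conjN, MulAut.conjNormal_apply]
      rw [h1, ← QuotientGroup.eq_one_iff, QuotientGroup.mk_pow]
      exact Cfsg.Agent.Lib.Helper75.frattini_quotient_pow hVp _
    obtain ⟨N, hNn, hNp, haN⟩ :=
      exists_normal_pGroup_of_quad_mod_frattini hp2 hVp conjN hker a hq hT
    exact Cfsg.Agent.Lib.Helper01.le_pCore hNn hNp haN
  have hEq : Sb = V := le_antisymm main hVS
  have hfin : K ⊔ (S : Subgroup X) = V.comap π := by
    rw [← hEq, hSb, Subgroup.comap_map_eq, hπ, QuotientGroup.ker_mk', sup_comm]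
  rw [hfin]
  exact hVn.comap π

end Cfsg.Agent.S0521
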