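import Cfsg.Statements.S1480
import Cfsg.Agent.Lib.Helper31.PConTrans

set_option autoImplicit false
open Cfsg

namespace Cfsg.Agent.S1480

open Cfsg.Agent.Lib.Helper31
open scoped Pointwise

/-- Let G be a finite group and p a prime such that the normalizer of every nontrivial p-subgroup of G is p-constrained; if p = 2 assume also that the Sylow 2-subgroups of G have nilpotency class at most 2. Let E be an abelian p-subgroup containing an elementary abelian subgroup of order p ^ 3 and containing every element of p-power order of C_G(E). Then for every prime q ≠ p, any two maximal E-invariant q-subgroups of G are conjugate by an element of O_{p'}(C_G(E)). -/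
theorem result {G : Type*} [Group G] [Finite G] (p : ℕ) [Fact p.Prime]
    (hloc : ∀ T : Subgroup G, IsPGroup p T → T ≠ ⊥ → Cfsg.IsPConstrained p ↥(Subgroup.normalizer (T : Set G)))
    (h2 : p = 2 → ∀ S : Sylow p G, Group.IsNilpotent (S : Subgroup G) ∧ Group.nilpotencyClass (S : Subgroup G) ≤ 2)
    (E : Subgroup G) (hEp : IsPGroup p E) (hEc : IsMulCommutative E) (hE3 : ¬ Cfsg.PRankLE p 2 E)
    (hEfull : ∀ x ∈ Subgroup.centralizer (E : Set G), IsPGroup p (Subgroup.zpowers x) → x ∈ E)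
    (q : ℕ) [Fact q.Prime] (hqp : q ≠ p) :
    ∀ Q₁ ∈ Cfsg.maxInvSubgroups ⊤ E {q}, ∀ Q₂ ∈ Cfsg.maxInvSubgroups ⊤ E {q},
        ∃ k ∈ Cfsg.piCoreOf (Cfsg.primesNotDvd p) (Subgroup.centralizer (E : Set G)), Q₂ = Q₁.map (MulAut.conj k).toMonoidHom := by
  have hEcc : E ≤ Subgroup.centralizer (E : Set G) := by
    intro x hx
    rw [Subgroup.mem_centralizer_iff]
    intro y hy
    have h1 := mul_comm' (⟨y, hy⟩ : E) ⟨x, hx⟩
    exact congrArg Subtype.val h1
  -- the elementary abelian subgroup of order `> p²`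
  obtain ⟨E₀, hE₀E, hE₀el, hE₀card⟩ : ∃ E₀ : Subgroup G, E₀ ≤ E ∧ IsElementaryAbelian p E₀ ∧
      p ^ 2 < Nat.card E₀ := by
    unfold PRankLE at hE3
    push Not at hE3
    obtain ⟨A, hcomm, hexp, hcard⟩ := hE3
    refine ⟨A.map E.subtype, Subgroup.map_subtype_le _, ⟨?_, ?_⟩, ?_⟩
    · refine ⟨⟨?_⟩⟩
      rintro ⟨x, hx⟩ ⟨y, hy⟩
      obtain ⟨x', hx', rfl⟩ := hx
      obtain ⟨y', hy', rfl⟩ := hy
      apply Subtype.ext
      have h1 := mul_comm' (⟨x', hx'⟩ : A) ⟨y', hy'⟩
      have h2 := congrArg (fun z : A => ((z : E) : G)) h1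
      simpa using h2
    · rintro a ⟨a', ha', rfl⟩
      have h1 := hexp a' ha'
      have h2 := congrArg (fun z : E => (z : G)) h1
      simpa using h2
    · rwa [Subgroup.card_map_of_injective E.subtype_injective]
  have hΘ := fun a ha ha1 => exists_theta p hloc h2 E hEp hEcc hEfull a ha ha1
  intro Q₁ h₁ Q₂ h₂
  exact pcon_conj p E hEp hEcc hEfull hΘ E₀ hE₀E hE₀el hE₀card q hqp _ Q₁ Q₂ h₁ h₂ rfl

end Cfsg.Agent.S1480
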