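import Cfsg.Statements.S0522
import Cfsg.Agent.S1480
import Cfsg.Agent.Lib.Helper31.SolvPCon

set_option autoImplicit false
open Cfsg

namespace Cfsg.Agent.S0522

open Cfsg.Agent.Lib.Helper31

/-- Transitivity Theorem (odd-order setting). Let X be a finite group of odd order in which the normalizer of every
nontrivial p-subgroup is solvable, P a Sylow p-subgroup, and B an abelian subgroup of P, normalized by P, with
C_P(B) = B and containing an elementary abelian subgroup of order p^3. Then for every prime q ≠ p, any two q-subgroups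
that are maximal among the q-subgroups normalized by B are conjugate by an element of the centralizer of B. -/
theorem result {X : Type*} [Group X] [Finite X] (hX : Odd (Nat.card X)) (p : ℕ)
    [Fact p.Prime] (hloc : ∀ T : Subgroup X, IsPGroup p T → T ≠ ⊥ → Group.IsSolvable (Subgroup.normalizer (T : Set X)))
    (P : Sylow p X) (B : Subgroup X) (hBP : B ≤ (P : Subgroup X))
    (hBn : ∀ x ∈ (P : Subgroup X), ∀ b ∈ B, x * b * x⁻¹ ∈ B) (hBa : IsMulCommutative B)
    (hBc : (P : Subgroup X) ⊓ Subgroup.centralizer (B : Set X) = B)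
    (hB3 : ∃ E : Subgroup X, E ≤ B ∧ (∀ e ∈ E, e ^ p = 1) ∧ p ^ 3 ≤ Nat.card E)
    (q : ℕ) [Fact q.Prime] (hqp : q ≠ p) (Q₁ Q₂ : Subgroup X)
    (h₁ : IsPGroup q Q₁ ∧ B ≤ Subgroup.normalizer (Q₁ : Set X) ∧
      ∀ R : Subgroup X, IsPGroup q R → B ≤ Subgroup.normalizer (R : Set X) → Q₁ ≤ R → R = Q₁)
    (h₂ : IsPGroup q Q₂ ∧ B ≤ Subgroup.normalizer (Q₂ : Set X) ∧
      ∀ R : Subgroup X, IsPGroup q R → B ≤ Subgroup.normalizer (R : Set X) → Q₂ ≤ R → R = Q₂) :
    ∃ c ∈ Subgroup.centralizer (B : Set X), Q₂ = Q₁.map (MulAut.conj c).toMonoidHom := by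
  have hpp : p.Prime := Fact.out
  obtain ⟨E₀, hE₀B, hE₀exp, hE₀card⟩ := hB3
  have hBp : IsPGroup p B := P.isPGroup'.to_le hBP
  -- `p` is odd
  have hp2 : p ≠ 2 := by
    intro h
    have hE₀p : IsPGroup p E₀ := hBp.to_le hE₀B
    obtain ⟨k, hk⟩ := IsPGroup.iff_card.1 hE₀p
    have hk0 : k ≠ 0 := by
      rintro rfl
      rw [hk, pow_zero] at hE₀card
      have : 1 < p ^ 3 := Nat.one_lt_pow (by norm_num) hpp.one_lt
      omega
    have h1 : p ∣ Nat.card X :=
      (hk ▸ dvd_pow_self p hk0 : p ∣ Nat.card E₀).trans (Subgroup.card_subgroup_dvd_card E₀)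
    rw [h] at h1
    exact (Nat.not_even_iff_odd.2 hX) (even_iff_two_dvd.2 h1)
  have hPB : (P : Subgroup X) ≤ Subgroup.normalizer (B : Set X) := by
    intro x hx
    rw [Subgroup.mem_normalizer_iff]
    intro b
    refine ⟨fun hb => hBn x hx b hb, fun hb => ?_⟩
    have := hBn x⁻¹ (Subgroup.inv_mem _ hx) _ hb
    simpa [mul_assoc] using this
  have hfull := mem_of_scn_of_isPGroup p P B hPB hBc
  have hloc' : ∀ T : Subgroup X, IsPGroup p T → T ≠ ⊥ →
      Cfsg.IsPConstrained p ↥(Subgroup.normalizer (T : Set X)) :=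
    fun T hT hne => isPConstrained_of_solvable p (hloc T hT hne)
  have hE3 : ¬ Cfsg.PRankLE p 2 ↥B := by
    unfold PRankLE
    push Not
    refine ⟨E₀.subgroupOf B, ⟨⟨?_⟩⟩, ?_, ?_⟩
    · rintro ⟨x, hx⟩ ⟨y, hy⟩
      apply Subtype.ext
      exact mul_comm' x y
    · intro a _
      apply Subtype.ext
      simpa using hE₀exp (a : X) (by assumption)
    · have h1 : Nat.card (E₀.subgroupOf B) = Nat.card E₀ :=
        Nat.card_congr (Subgroup.subgroupOfEquivOfLe hE₀B).toEquiv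
      rw [h1]
      have : p ^ 2 < p ^ 3 := Nat.pow_lt_pow_right hpp.one_lt (by norm_num)
      omega
  have hQ : ∀ Q : Subgroup X, (IsPGroup q Q ∧ B ≤ Subgroup.normalizer (Q : Set X) ∧
      ∀ R : Subgroup X, IsPGroup q R → B ≤ Subgroup.normalizer (R : Set X) → Q ≤ R → R = Q) →
      Q ∈ Cfsg.maxInvSubgroups ⊤ B {q} := by
    rintro Q ⟨hq, hBQ, hmax⟩
    refine ⟨mem_invSubgroups_of_isPGroup q B Q hq hBQ, ?_⟩
    intro R hR hle
    exact hmax R (isPGroup_of_forall_prime q R hR.2.1) hR.2.2 hle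
  obtain ⟨k, hk, hconj⟩ := Cfsg.Agent.S1480.result p hloc' (fun h => absurd h hp2) B hBp hBa hE3
    hfull q hqp Q₁ (hQ Q₁ h₁) Q₂ (hQ Q₂ h₂)
  exact ⟨k, piCoreOf_le _ _ hk, hconj⟩

end Cfsg.Agent.S0522
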