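import Cfsg.Statements.S0531
import Cfsg.Agent.Lib.Helper13.Supersolvable

set_option autoImplicit false
open Cfsg

namespace Cfsg.Agent.S0531

open Cfsg.Agent.Lib.Helper13

universe u

lemma card_comap_mk' {G : Type u} [Group G] [Finite G] (Z : Subgroup G) [Z.Normal]
    (K' : Subgroup (G ⧸ Z)) :
    Nat.card (K'.comap (QuotientGroup.mk' Z)) = Nat.card K' * Nat.card Z := by
  have h1 : (K'.comap (QuotientGroup.mk' Z)).index = K'.index :=
    Subgroup.index_comap_of_surjective K' (QuotientGroup.mk'_surjective Z)
  have h2 := (K'.comap (QuotientGroup.mk' Z)).card_mul_index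
  have h3 := K'.card_mul_index
  have h4 : Nat.card G = Nat.card (G ⧸ Z) * Nat.card Z := Subgroup.card_eq_card_quotient_mul_card_subgroup Z
  have h5 : K'.index ≠ 0 := Subgroup.index_ne_zero_of_finite
  rw [h1, h4, ← h3] at h2
  have : Nat.card (K'.comap (QuotientGroup.mk' Z)) * K'.index = (Nat.card K' * Nat.card Z) * K'.index := by
    rw [h2]; ring
  exact Nat.eq_of_mul_eq_mul_right (Nat.pos_of_ne_zero h5) this

theorem aux (n : ℕ) : ∀ (G : Type u) [Group G] [Finite G], Nat.card G = n →
    Cfsg.IsSupersolvable G → Cfsg.HasSubgroupOfEveryOrder G := by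
  induction n using Nat.strong_induction_on with
  | _ n ih =>
    intro G _ _ hn hG d hd
    rcases subsingleton_or_nontrivial G with hsub | hnon
    · have h1 : Nat.card G = 1 := Nat.card_eq_one_iff_unique.mpr ⟨hsub, ⟨1⟩⟩
      rw [h1, Nat.dvd_one] at hd
      exact ⟨⊥, by rw [hd]; exact Subgroup.card_bot⟩
    · obtain ⟨Z, p, hp, hZn, hZc⟩ := exists_normal_prime_of_isSupersolvable hG
      have hQ : Cfsg.IsSupersolvable (G ⧸ Z) := isSupersolvable_quotient hG Z
      have hGc : Nat.card G = Nat.card (G ⧸ Z) * p := by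
        rw [← hZc]; exact Subgroup.card_eq_card_quotient_mul_card_subgroup Z
      have hQlt : Nat.card (G ⧸ Z) < n := by
        rw [← hn, hGc]
        exact lt_mul_of_one_lt_right Nat.card_pos hp.one_lt
      have ihQ := ih _ hQlt (G ⧸ Z) rfl hQ
      by_cases hpd : p ∣ d
      · obtain ⟨e, rfl⟩ := hpd
        have he : e ∣ Nat.card (G ⧸ Z) := by
          rw [hGc, mul_comm p e] at hd
          exact Nat.dvd_of_mul_dvd_mul_right hp.pos hd
        obtain ⟨K', hK'⟩ := ihQ e he
        refine ⟨K'.comap (QuotientGroup.mk' Z), ?_⟩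
        rw [card_comap_mk', hK', hZc, mul_comm]
      · have hcop : Nat.Coprime d p := (Nat.Prime.coprime_iff_not_dvd hp).mpr hpd |>.symm
        have hdQ : d ∣ Nat.card (G ⧸ Z) := by
          rw [hGc] at hd
          exact hcop.dvd_of_dvd_mul_right hd
        obtain ⟨K', hK'⟩ := ihQ d hdQ
        set L := K'.comap (QuotientGroup.mk' Z) with hL
        have hLc : Nat.card L = d * p := by rw [card_comap_mk', hK', hZc]
        have hZL : Z ≤ L := by
          intro z hz
          show QuotientGroup.mk' Z z ∈ K'
          have : QuotientGroup.mk' Z z = 1 := (QuotientGroup.eq_one_iff z).mpr hz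
          rw [this]; exact K'.one_mem
        have hZ'n : (Z.subgroupOf L).Normal := hZn.subgroupOf L
        have hZ'c : Nat.card (Z.subgroupOf L) = p := by
          rw [← hZc]
          exact Nat.card_congr (Subgroup.subgroupOfEquivOfLe hZL).toEquiv
        have hidx : (Z.subgroupOf L).index = d := by
          have h1 := (Z.subgroupOf L).card_mul_index
          rw [hZ'c, hLc, mul_comm] at h1
          exact Nat.eq_of_mul_eq_mul_right hp.pos h1
        have hcop' : Nat.Coprime (Nat.card (Z.subgroupOf L)) (Z.subgroupOf L).index := by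
          rw [hZ'c, hidx]; exact hcop.symm
        obtain ⟨H', hH'⟩ := Subgroup.exists_right_complement'_of_coprime hcop'
        have h2 := hH'.card_mul_card
        rw [hZ'c, hLc, mul_comm] at h2
        have h3 : Nat.card H' = d := Nat.eq_of_mul_eq_mul_right hp.pos h2
        exact ⟨H'.map L.subtype, by rw [Subgroup.card_subtype, h3]⟩

/-- A finite supersolvable group has a subgroup of each order dividing its order. -/
theorem result {G : Type*} [Group G] [Finite G] (hG : Cfsg.IsSupersolvable G) : Cfsg.HasSubgroupOfEveryOrder G :=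
  aux (Nat.card G) G rfl hG

end Cfsg.Agent.S0531
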