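import Cfsg.Statements.S0534
import Cfsg.Agent.Lib.Helper32.AbelianCLT
import Cfsg.Agent.Lib.Helper32.PiNumber

set_option autoImplicit false
open Cfsg

namespace Cfsg.Agent.S0534

/-- Let G be a finite solvable group and A a finite abelian group such that every prime dividing the order of A divides the order of G and, for each prime p dividing the order of G, the exponent of p in the order of A is one less than its exponent in the order of G. Then G × A has a subgroup of every order dividing its order. -/
theorem result {G A : Type*} [Group G] [CommGroup A] [Finite G] [Finite A] [Group.IsSolvable G] (hA : ∀ p : ℕ, p.Prime → p ∣ Nat.card A → p ∣ Nat.card G) (hexp : ∀ p : ℕ, p.Prime → p ∣ Nat.card G → (Nat.card A).factorization p + 1 = (Nat.card G).factorization p) : Cfsg.HasSubgroupOfEveryOrder (G × A) := by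
  intro d hd
  rw [Nat.card_prod] at hd
  set g := Nat.card G with hg
  set a := Nat.card A with ha
  have hg0 : g ≠ 0 := (Nat.card_pos (α := G)).ne'
  have ha0 : a ≠ 0 := (Nat.card_pos (α := A)).ne'
  have hga0 : g * a ≠ 0 := Nat.mul_ne_zero hg0 ha0
  have hd0 : d ≠ 0 := fun h => hga0 (Nat.eq_zero_of_zero_dvd (h ▸ hd))
  obtain ⟨m, k, hmk, hcop, hm, hk⟩ := Cfsg.Agent.Lib.Helper32.exists_pi_decomp
    {p : ℕ | p ^ (g.factorization p) ∣ d} g (Nat.pos_of_ne_zero hg0)
  have hm0 : m ≠ 0 := fun h => hg0 (by rw [hmk, h, zero_mul])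
  have hk0 : k ≠ 0 := fun h => hg0 (by rw [hmk, h, mul_zero])
  -- `v_p(m) = v_p(g)` for primes dividing `m`
  have hvm : ∀ p : ℕ, p.Prime → p ∣ m → m.factorization p = g.factorization p := by
    intro p hp hpm
    have hpk : ¬ p ∣ k := fun h => hk p hp h (hm p hp hpm)
    rw [hmk, Nat.factorization_mul hm0 hk0, Finsupp.add_apply,
      Nat.factorization_eq_zero_of_not_dvd hpk, add_zero]
  -- `m ∣ d`
  have hmd : m ∣ d := by
    rw [← Nat.factorization_le_iff_dvd hm0 hd0]
    intro p
    by_cases hp : p.Prime
    · by_cases hpm : p ∣ m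
      · rw [hvm p hp hpm]
        exact (Nat.Prime.pow_dvd_iff_le_factorization hp hd0).mp (hm p hp hpm)
      · rw [Nat.factorization_eq_zero_of_not_dvd hpm]; exact Nat.zero_le _
    · rw [Nat.factorization_eq_zero_of_not_prime _ hp]; exact Nat.zero_le _
  obtain ⟨d', hd'⟩ := hmd
  have hd'0 : d' ≠ 0 := fun h => hd0 (by rw [hd', h, mul_zero])
  -- `d' ∣ a`
  have hd'a : d' ∣ a := by
    rw [← Nat.factorization_le_iff_dvd hd'0 ha0]
    intro p
    by_cases hp : p.Prime
    swap
    · rw [Nat.factorization_eq_zero_of_not_prime _ hp]; exact Nat.zero_le _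
    have hvd : d.factorization p = m.factorization p + d'.factorization p := by
      rw [hd', Nat.factorization_mul hm0 hd'0, Finsupp.add_apply]
    have hvle : d.factorization p ≤ g.factorization p + a.factorization p := by
      have := (Nat.factorization_le_iff_dvd hd0 hga0).mpr hd p
      rwa [Nat.factorization_mul hg0 ha0, Finsupp.add_apply] at this
    by_cases hpg : p ∣ g
    · have he := hexp p hp hpg
      by_cases hpm : p ∣ m
      · rw [hvm p hp hpm] at hvd
        omega
      · have hpk : p ∣ k := by
          rw [hmk] at hpg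
          exact ((Nat.Prime.dvd_mul hp).mp hpg).resolve_left hpm
        have hnot : ¬ p ^ (g.factorization p) ∣ d := hk p hp hpk
        rw [Nat.Prime.pow_dvd_iff_le_factorization hp hd0] at hnot
        omega
    · have hpa : ¬ p ∣ a := fun h => hpg (hA p hp h)
      have h1 : g.factorization p = 0 := Nat.factorization_eq_zero_of_not_dvd hpg
      have h2 : a.factorization p = 0 := Nat.factorization_eq_zero_of_not_dvd hpa
      omega
  obtain ⟨⟨H, hH⟩, -, -⟩ := Cfsg.Agent.Lib.Helper01.hallProp (G := G) m k hmk hcop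
  obtain ⟨B, hB⟩ := Cfsg.Agent.Lib.Helper32.exists_subgroup_card_of_dvd_comm hd'a
  refine ⟨H.prod B, ?_⟩
  rw [Nat.card_congr (Subgroup.prodEquiv H B).toEquiv, Nat.card_prod, hH, hB, hd']

end Cfsg.Agent.S0534
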