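import Cfsg.Statements.S0535
import Cfsg.Agent.S0006
import Cfsg.Agent.S0003
import Mathlib

set_option autoImplicit false
open Cfsg

namespace Cfsg.Agent.S0535

theorem main {G : Type*} [Group G] [Finite G]
    (h : ∀ H : Subgroup G, H ≠ ⊥ → ∀ p : ℕ, p.Prime → p ∣ Nat.card H →
      ∃ K : Subgroup H, K ≠ ⊤ ∧ ∃ k : ℕ, K.index = p ^ k) :
    ∀ (n : ℕ) (H : Subgroup G), Nat.card H = n → Group.IsSolvable H := by
  intro n
  induction n using Nat.strong_induction_on with
  | _ n ih =>
    intro H hn
    apply Cfsg.Agent.S0006.result
    intro p hp
    by_cases hpd : p ∣ Nat.card H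
    · have hHne : H ≠ ⊥ := by
        intro hbot
        rw [hbot, Subgroup.card_bot] at hpd
        exact hp.one_lt.ne' (Nat.dvd_one.mp hpd)
      obtain ⟨K, hKtop, k, hk⟩ := h H hHne p hp hpd
      -- K is solvable by induction
      have hKcard : Nat.card K * p ^ k = Nat.card H := by
        rw [← hk]; exact Subgroup.card_mul_index K
      have hk1 : 1 < K.index := by
        have h1 : K.index ≠ 1 := fun h1 => hKtop (Subgroup.index_eq_one.mp h1)
        have h0 : K.index ≠ 0 := Subgroup.index_ne_zero_of_finite
        omega
      have hlt : Nat.card (K.map H.subtype) < n := by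
        rw [← hn, Subgroup.card_map_of_injective H.subtype_injective]
        have h1 : Nat.card K * K.index = Nat.card H := Subgroup.card_mul_index K
        have h2 : 0 < Nat.card K := Nat.card_pos
        nlinarith
      have hMsol : Group.IsSolvable (K.map H.subtype) := ih _ hlt _ rfl
      have hKsol : Group.IsSolvable K :=
        Group.isSolvable_of_isSolvable_injective
          (f := (K.equivMapOfInjective H.subtype H.subtype_injective).toMonoidHom)
          (K.equivMapOfInjective H.subtype H.subtype_injective).injective
      -- Hall p'-subgroup of K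
      have hKne : Nat.card K ≠ 0 := Nat.card_pos.ne'
      have hsplit : Nat.card K = (Nat.card K / p ^ (Nat.card K).factorization p) *
          p ^ (Nat.card K).factorization p :=
        (Nat.div_mul_cancel (Nat.ordProj_dvd _ _)).symm
      have hcop : Nat.Coprime (Nat.card K / p ^ (Nat.card K).factorization p)
          (p ^ (Nat.card K).factorization p) :=
        (Nat.Coprime.pow_left _ (Nat.coprime_ordCompl hp hKne)).symm
      obtain ⟨L, hL⟩ := Cfsg.Agent.S0003.result (G := K) _ _ hsplit hcop
      refine ⟨L.map K.subtype, ?_⟩
      set m := Nat.card K / p ^ (Nat.card K).factorization p with hm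
      set e := (Nat.card K).factorization p with he
      have hLcard : Nat.card (L.map K.subtype) = m := by
        rw [Subgroup.card_map_of_injective K.subtype_injective, hL]
      have hidx : Nat.card (L.map K.subtype) * (L.map K.subtype).index = Nat.card H :=
        Subgroup.card_mul_index _
      rw [hLcard] at hidx
      have hHcard : Nat.card H = m * p ^ (e + k) := by
        rw [← hKcard, hsplit, pow_add]; ring
      have hmpos : 0 < m := by
        rcases Nat.eq_zero_or_pos m with h0 | h0
        · rw [h0, zero_mul] at hsplit; exact absurd hsplit hKne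
        · exact h0
      have hidx2 : (L.map K.subtype).index = p ^ (e + k) := by
        rw [hHcard] at hidx
        exact Nat.eq_of_mul_eq_mul_left hmpos hidx
      have hmcop : Nat.Coprime p m := Nat.coprime_ordCompl hp hKne
      have hfac : (Nat.card H).factorization p = e + k := by
        rw [hHcard, Nat.factorization_mul hmpos.ne' (pow_ne_zero _ hp.ne_zero),
          hp.factorization_pow]
        have h0 : m.factorization p = 0 := by
          apply Nat.factorization_eq_zero_of_not_dvd
          intro hdvd
          exact hp.one_lt.ne' (Nat.Coprime.eq_one_of_dvd hmcop hdvd)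
        simp [h0]
      rw [hfac]
      exact hidx2
    · refine ⟨⊤, ?_⟩
      rw [Nat.factorization_eq_zero_of_not_dvd hpd, pow_zero, Subgroup.index_top]

theorem result {G : Type*} [Group G] [Finite G] (h : ∀ H : Subgroup G, H ≠ ⊥ → ∀ p : ℕ, p.Prime → p ∣ Nat.card H → ∃ K : Subgroup H, K ≠ ⊤ ∧ ∃ k : ℕ, K.index = p ^ k) : Group.IsSolvable G := by
  have := main h _ ⊤ rfl
  exact Group.isSolvable_of_surjective (f := (⊤ : Subgroup G).subtype)
    (fun g => ⟨⟨g, Subgroup.mem_top g⟩, rfl⟩)

end Cfsg.Agent.S0535
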