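import Cfsg.Statements.S0537
import Cfsg.Agent.Lib.Helper12.Schmidt

set_option autoImplicit false
open Cfsg

namespace Cfsg.Agent.S0537

section aux

variable {G : Type*} [Group G]

theorem isNilpotent_of_isMulCommutative {H : Type*} [Group H] (h : IsMulCommutative H) :
    Group.IsNilpotent H :=
  ⟨⟨1, Subgroup.upperCentralSeries_one_eq_top_iff.mpr h⟩⟩

/-- A `p`-element normalizing an abelian subgroup `Q` and centralizing its elements of order
dividing `q` (coprime to `p`) centralizes every `q`-element of `Q`. -/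
theorem commute_of_commute_omega {x : G} {Q : Subgroup G}
    (hQc : ∀ a ∈ Q, ∀ b ∈ Q, a * b = b * a) (hxQ : ∀ y ∈ Q, x * y * x⁻¹ ∈ Q) {p q : ℕ}
    (hpq : Nat.Coprime p q) {k : ℕ} (hx : x ^ (p ^ k) = 1)
    (hΩ : ∀ y ∈ Q, y ^ q = 1 → x * y = y * x) :
    ∀ n : ℕ, ∀ y ∈ Q, y ^ (q ^ n) = 1 → x * y = y * x := by
  intro n
  induction n with
  | zero =>
    intro y _ hy
    rw [pow_zero, pow_one] at hy
    rw [hy, mul_one, one_mul]
  | succ n ih =>
    intro y hy hyn
    have hyq : x * y ^ q = y ^ q * x := by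
      apply ih _ (Q.pow_mem hy q)
      rw [← pow_mul, ← pow_succ']; exact hyn
    set z := y⁻¹ * (x * y * x⁻¹) with hz
    have hzQ : z ∈ Q := Q.mul_mem (Q.inv_mem hy) (hxQ y hy)
    have hcomm : Commute y⁻¹ (x * y * x⁻¹) := hQc _ (Q.inv_mem hy) _ (hxQ y hy)
    have hzq : z ^ q = 1 := by
      rw [hz, hcomm.mul_pow, inv_pow, conj_pow, hyq]
      group
    have hxz : x * z = z * x := hΩ z hzQ hzq
    have hconj : x * y * x⁻¹ = y * z := by rw [hz]; group
    have hpow : ∀ m : ℕ, x ^ m * y * (x ^ m)⁻¹ = y * z ^ m := by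
      intro m
      induction m with
      | zero => simp
      | succ m ihm =>
        have hxzm : x * z ^ m = z ^ m * x := ((Commute.pow_right (show Commute x z from hxz)) m).eq
        calc x ^ (m + 1) * y * (x ^ (m + 1))⁻¹
            = x * (x ^ m * y * (x ^ m)⁻¹) * x⁻¹ := by rw [pow_succ']; group
          _ = x * (y * z ^ m) * x⁻¹ := by rw [ihm]
          _ = (x * y * x⁻¹) * (x * z ^ m * x⁻¹) := by group
          _ = (y * z) * (z ^ m) := by rw [hconj, hxzm]; group
          _ = y * z ^ (m + 1) := by rw [pow_succ']; group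
    have h1 := hpow (p ^ k)
    rw [hx] at h1
    have hzp : z ^ (p ^ k) = 1 := by
      have : y * z ^ (p ^ k) = y := by rw [← h1]; group
      exact mul_left_cancel (this.trans (mul_one y).symm)
    have hz1 : z = 1 := by
      have h2 : orderOf z ∣ p ^ k := orderOf_dvd_of_pow_eq_one hzp
      have h3 : orderOf z ∣ q := orderOf_dvd_of_pow_eq_one hzq
      have h4 : orderOf z ∣ Nat.gcd (p ^ k) q := Nat.dvd_gcd h2 h3
      rw [Nat.Coprime.pow_left k hpq] at h4
      exact orderOf_eq_one_iff.mp (Nat.dvd_one.mp h4)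
    rw [hz1, mul_one] at hconj
    calc x * y = (x * y * x⁻¹) * x := by group
      _ = y * x := by rw [hconj]

end aux

/-- A finite non-abelian group in which every proper subgroup is abelian is either of prime-power order, or is generated by a cyclic Sylow p-subgroup and a normal Sylow q-subgroup that is elementary abelian, for distinct primes p and q. -/
theorem result {G : Type*} [Group G] [Finite G] (hna : ¬ IsMulCommutative G) (h : ∀ H : Subgroup G, H ≠ ⊤ → IsMulCommutative H) : (∃ p : ℕ, p.Prime ∧ IsPGroup p G) ∨ ∃ p q : ℕ, p.Prime ∧ q.Prime ∧ p ≠ q ∧ ∃ (P : Sylow p G) (Q : Sylow q G), IsCyclic P ∧ (Q : Subgroup G).Normal ∧ Cfsg.IsElementaryAbelian q (Q : Subgroup G) ∧ (P : Subgroup G) ⊔ Q = ⊤ := by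
  classical
  have hsub : ∀ H : Subgroup G, H ≠ ⊤ → Group.IsNilpotent H := fun H hH =>
    isNilpotent_of_isMulCommutative (h H hH)
  by_cases hnil : Group.IsNilpotent G
  · left
    by_contra hcon
    push Not at hcon
    apply hna
    have hne : ∀ (p : ℕ) [Fact p.Prime] (P : Sylow p G), (P : Subgroup G) ≠ ⊤ := by
      intro p hp P hP
      apply hcon p hp.out
      intro g
      obtain ⟨k, hk⟩ := P.2 ⟨g, hP ▸ Subgroup.mem_top g⟩
      exact ⟨k, by simpa using congrArg Subtype.val hk⟩
    have h04 := (Group.isNilpotent_of_finite_tfae (G := G)).out 0 4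
    obtain ⟨e⟩ := h04.mp hnil
    refine ⟨⟨fun a b => ?_⟩⟩
    have hab : e.symm a * e.symm b = e.symm b * e.symm a := by
      funext r R
      have : Fact (r : ℕ).Prime := ⟨Nat.prime_of_mem_primeFactors r.2⟩
      exact (h R (hne r R)).is_comm.comm _ _
    have := congrArg e hab
    simpa using this
  · right
    obtain ⟨p, q, hp, hq, hpq, P, Q, hcyc, hQn, hPQ⟩ :=
      Cfsg.Agent.Lib.Helper12.schmidt_structure hnil hsub
    have : Fact p.Prime := ⟨hp⟩
    have : Fact q.Prime := ⟨hq⟩
    have hdisj : (P : Subgroup G) ⊓ Q = ⊥ :=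
      disjoint_iff.mp (IsPGroup.disjoint_of_ne p q hpq _ _ P.2 Q.2)
    have hQtop : (Q : Subgroup G) ≠ ⊤ := by
      intro hQ
      apply hnil
      have : IsPGroup q G := by
        intro g
        obtain ⟨k, hk⟩ := Q.2 ⟨g, hQ ▸ Subgroup.mem_top g⟩
        exact ⟨k, by simpa using congrArg Subtype.val hk⟩
      exact this.isNilpotent
    have hQc := h Q hQtop
    have hQcomm : ∀ a ∈ (Q : Subgroup G), ∀ b ∈ (Q : Subgroup G), a * b = b * a := by
      intro a ha b hb
      exact congrArg Subtype.val (hQc.is_comm.comm ⟨a, ha⟩ ⟨b, hb⟩)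
    refine ⟨p, q, hp, hq, hpq, P, Q, hcyc, hQn, ⟨hQc, ?_⟩, hPQ⟩
    -- the subgroup of elements of order dividing q
    let Q₁ : Subgroup G :=
      { carrier := {x | x ∈ (Q : Subgroup G) ∧ x ^ q = 1}
        one_mem' := ⟨Subgroup.one_mem _, one_pow _⟩
        mul_mem' := by
          rintro a b ⟨ha, ha1⟩ ⟨hb, hb1⟩
          refine ⟨Subgroup.mul_mem _ ha hb, ?_⟩
          rw [(show Commute a b from hQcomm a ha b hb).mul_pow, ha1, hb1, one_mul]
        inv_mem' := by
          rintro a ⟨ha, ha1⟩
          exact ⟨Subgroup.inv_mem _ ha, by rw [inv_pow, ha1, inv_one]⟩ }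
    have hQ₁n : Q₁.Normal := by
      refine ⟨fun x hx g => ⟨hQn.conj_mem x hx.1 g, ?_⟩⟩
      rw [conj_pow, hx.2]; group
    have hQ₁Q : Q₁ ≤ (Q : Subgroup G) := fun x hx => hx.1
    by_cases htop : (P : Subgroup G) ⊔ Q₁ = ⊤
    · intro y hy
      have hy' : y ∈ (P : Subgroup G) ⊔ Q₁ := htop ▸ Subgroup.mem_top y
      rw [← SetLike.mem_coe, Subgroup.mul_normal] at hy'
      obtain ⟨a, ha, u, hu, hau'⟩ := hy'
      have hau : a * u = y := hau'
      have haQ : a ∈ (Q : Subgroup G) := by
        have : a = y * u⁻¹ := by rw [← hau]; group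
        rw [this]
        exact Subgroup.mul_mem _ hy (Subgroup.inv_mem _ (hQ₁Q hu))
      have ha1 : a = 1 := by
        have : a ∈ (P : Subgroup G) ⊓ Q := ⟨ha, haQ⟩
        rw [hdisj] at this
        exact Subgroup.mem_bot.mp this
      rw [ha1, one_mul] at hau
      rw [← hau]
      exact hu.2
    · exfalso
      have hc := h _ htop
      -- P centralizes Q₁, hence Q
      have hPQ₁ : ∀ x ∈ (P : Subgroup G), ∀ y ∈ (Q : Subgroup G), y ^ q = 1 → x * y = y * x := by
        intro x hx y hy hyq
        have hx' : x ∈ (P : Subgroup G) ⊔ Q₁ := (le_sup_left : (P : Subgroup G) ≤ _) hx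
        have hy' : y ∈ (P : Subgroup G) ⊔ Q₁ := (le_sup_right : Q₁ ≤ _) ⟨hy, hyq⟩
        exact congrArg Subtype.val (hc.is_comm.comm ⟨x, hx'⟩ ⟨y, hy'⟩)
      have hPQc : ∀ x ∈ (P : Subgroup G), ∀ y ∈ (Q : Subgroup G), x * y = y * x := by
        intro x hx y hy
        obtain ⟨k, hk⟩ := P.2 ⟨x, hx⟩
        have hxk : x ^ (p ^ k) = 1 := by simpa using congrArg Subtype.val hk
        obtain ⟨n, hn⟩ := Q.2 ⟨y, hy⟩
        have hyn : y ^ (q ^ n) = 1 := by simpa using congrArg Subtype.val hn
        exact commute_of_commute_omega hQcomm (fun y hy => hQn.conj_mem y hy x)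
          ((Nat.coprime_primes hp hq).mpr hpq) hxk (fun y hy hyq => hPQ₁ x hx y hy hyq) n y hy hyn
      have hPc : ∀ a ∈ (P : Subgroup G), ∀ b ∈ (P : Subgroup G), a * b = b * a := by
        intro a ha b hb
        obtain ⟨g, hg⟩ := hcyc
        obtain ⟨i, hi⟩ := Subgroup.mem_zpowers_iff.mp (hg ⟨a, ha⟩)
        obtain ⟨j, hj⟩ := Subgroup.mem_zpowers_iff.mp (hg ⟨b, hb⟩)
        have := ((Commute.refl g).zpow_zpow i j).eq
        rw [hi, hj] at this
        exact congrArg Subtype.val this
      apply hna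
      rw [← Subgroup.center_eq_top_iff, eq_top_iff, ← hPQ]
      refine sup_le ?_ ?_
      · intro x hx
        rw [Subgroup.mem_center_iff]
        intro g
        have hg : g ∈ (P : Subgroup G) ⊔ Q := hPQ ▸ Subgroup.mem_top g
        have hcen : (P : Subgroup G) ⊔ Q ≤ Subgroup.centralizer {x} := by
          refine sup_le ?_ ?_
          · intro a ha
            rw [Subgroup.mem_centralizer_singleton_iff]
            exact hPc a ha x hx
          · intro b hb
            rw [Subgroup.mem_centralizer_singleton_iff]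
            exact (hPQc x hx b hb).symm
        have := hcen hg
        rw [Subgroup.mem_centralizer_singleton_iff] at this
        exact this
      · intro y hy
        rw [Subgroup.mem_center_iff]
        intro g
        have hg : g ∈ (P : Subgroup G) ⊔ Q := hPQ ▸ Subgroup.mem_top g
        have hcen : (P : Subgroup G) ⊔ Q ≤ Subgroup.centralizer {y} := by
          refine sup_le ?_ ?_
          · intro a ha
            rw [Subgroup.mem_centralizer_singleton_iff]
            exact hPQc a ha y hy
          · intro b hb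
            rw [Subgroup.mem_centralizer_singleton_iff]
            exact hQcomm b hb y hy
        have := hcen hg
        rw [Subgroup.mem_centralizer_singleton_iff] at this
        exact this

end Cfsg.Agent.S0537
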