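import Cfsg.Statements.S0540
import Cfsg.Agent.Lib.Helper13.Basic
import Cfsg.Agent.Lib.Helper13.RelSubnormal

set_option autoImplicit false
open Pointwise
open Cfsg

namespace Cfsg.Agent.S0540

open Cfsg.Agent.Lib.Helper13

section
variable {G : Type*} [Group G] (A : Subgroup G) (U : Set (Subgroup G))
  (S : Subgroup G → Set (Subgroup G))
  (hS : ∀ V B : Subgroup G, B ∈ S V ↔ (∃ g : G, B = MulAut.conj g • A) ∧ B ≤ V ∧ (B.subgroupOf V).IsSubnormal)
  (h2 : ∀ V ∈ U, ∀ W ∈ U, ∀ B ∈ S W, B ≤ V → B ∈ S V)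

include hS in
lemma conj_mem_S (V B : Subgroup G) (hB : B ∈ S V) (v : G) (hv : v ∈ V) :
    MulAut.conj v • B ∈ S V := by
  obtain ⟨⟨g, rfl⟩, hle, hsn⟩ := (hS V _).mp hB
  refine (hS V _).mpr ⟨⟨v * g, by rw [map_mul, mul_smul]⟩, ?_, ?_⟩
  · exact Subgroup.conj_smul_le_of_le hle ⟨v, hv⟩
  · rw [← Subgroup.conj_smul_subgroupOf hle ⟨v, hv⟩]
    exact hsn.smul _

include hS in
lemma sSup_S_le (V W : Subgroup G) : sSup (S V ∩ S W) ≤ W :=
  sSup_le fun B hB => ((hS W B).mp hB.2).2.1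

include hS h2 in
lemma key [Finite G] (V W : Subgroup G)
    (hV : Maximal (· ∈ U) V) (hW : Maximal (· ∈ U) W)
    (hmax : ∀ q : Subgroup G × Subgroup G, Maximal (· ∈ U) q.1 → Maximal (· ∈ U) q.2 → q.1 ≠ q.2 →
      Nat.card (sSup (S q.1 ∩ S q.2) : Subgroup G) ≤ Nat.card (sSup (S V ∩ S W) : Subgroup G))
    (X' : Subgroup G) (hX' : Maximal (· ∈ U) X')
    (hN : Subgroup.normalizer ((sSup (S V ∩ S W) : Subgroup G) : Set G) ≤ X') : V = X' := by
  set T := sSup (S V ∩ S W) with hT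
  by_cases hsub : S V ⊆ S W
  · have hinter : S V ∩ S W = S V := Set.inter_eq_left.mpr hsub
    have hVN : V ≤ Subgroup.normalizer (T : Set G) := by
      intro v hv
      rw [mem_normalizer_iff_conj_smul]
      apply conj_smul_eq_of_le
      rw [hT, hinter]
      apply sSup_le
      intro B hB
      rw [Subgroup.subset_pointwise_smul_iff, ← map_inv]
      exact le_sSup (conj_mem_S A S hS V B hB v⁻¹ (V.inv_mem hv))
    exact le_antisymm (hVN.trans hN) (hV.2 hX'.1 (hVN.trans hN))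
  · have hss : S V ∩ S W ⊂ S V := by
      refine ⟨Set.inter_subset_left, fun h => hsub (fun B hB => (h hB).2)⟩
    obtain ⟨B, hBV, hBnot, hBN⟩ := exists_normalizing_member V (S V) (S V ∩ S W)
      (fun B hB => ((hS V B).mp hB).2.1) (fun B hB => ((hS V B).mp hB).2.2)
      (fun B hB v hv => conj_mem_S A S hS V B hB v hv) hss
    have hBW : B ∉ S W := fun h => hBnot ⟨hBV, h⟩
    have hBX' : B ≤ X' := hBN.trans hN
    by_contra hne
    have hle := hmax (V, X') hV hX' hne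
    simp only at hle
    have hTle : T ≤ sSup (S V ∩ S X') := by
      apply sSup_le
      intro B' hB'
      have h1 : B' ≤ X' := (le_sSup hB').trans (Subgroup.le_normalizer.trans hN)
      exact le_sSup ⟨hB'.1, h2 X' hX'.1 V hV.1 B' hB'.1 h1⟩
    have hBle : B ≤ sSup (S V ∩ S X') := le_sSup ⟨hBV, h2 X' hX'.1 V hV.1 B hBV hBX'⟩
    have heq : T = sSup (S V ∩ S X') := Subgroup.eq_of_le_of_card_ge hTle hle
    apply hBW
    apply h2 W hW.1 V hV.1 B hBV
    rw [← heq] at hBle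
    exact hBle.trans (sSup_S_le A S hS V W)

end

/-- A uniqueness lemma of zipper type. Let A be a subgroup of a finite group G and U a nonempty family of subgroups. For V in U write S(V) for the set of conjugates of A that lie in V and are subnormal in V. Assume: A belongs to S(V) for every V in U; a member of some S(W) that lies in V belongs to S(V); and for all V, W in U the normalizer of the join of S(V) ∩ S(W) lies in some member of U. Then U has a greatest element. -/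
theorem result {G : Type*} [Group G] [Finite G] (A : Subgroup G) (U : Set (Subgroup G)) (hU : U.Nonempty) (S : Subgroup G → Set (Subgroup G)) (hS : ∀ V B : Subgroup G, B ∈ S V ↔ (∃ g : G, B = MulAut.conj g • A) ∧ B ≤ V ∧ (B.subgroupOf V).IsSubnormal) (h1 : ∀ V ∈ U, A ∈ S V) (h2 : ∀ V ∈ U, ∀ W ∈ U, ∀ B ∈ S W, B ≤ V → B ∈ S V) (h3 : ∀ V ∈ U, ∀ W ∈ U, ∃ X ∈ U, Subgroup.normalizer ((sSup (S V ∩ S W) : Subgroup G) : Set G) ≤ X) : ∃ M ∈ U, ∀ V ∈ U, V ≤ M := by
  have hexmax : ∀ V ∈ U, ∃ M, V ≤ M ∧ Maximal (· ∈ U) M := fun V hV =>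
    exists_maximal_ge_of_wellFoundedGT (· ∈ U) V hV
  by_contra hno
  push Not at hno
  -- the set of pairs of distinct maximal members
  set P : Set (Subgroup G × Subgroup G) :=
    {q | Maximal (· ∈ U) q.1 ∧ Maximal (· ∈ U) q.2 ∧ q.1 ≠ q.2} with hP
  have hPne : P.Nonempty := by
    obtain ⟨V0, hV0⟩ := hU
    obtain ⟨M0, _, hM0⟩ := hexmax V0 hV0
    obtain ⟨V1, hV1, hV1M0⟩ := hno M0 hM0.1
    obtain ⟨M1, hV1M1, hM1⟩ := hexmax V1 hV1
    refine ⟨(M0, M1), hM0, hM1, ?_⟩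
    intro h
    apply hV1M0
    have h' : M0 = M1 := h
    rw [h']; exact hV1M1
  obtain ⟨⟨V, W⟩, ⟨hV, hW, hVW⟩, hmax⟩ := Set.exists_max_image P
    (fun q => Nat.card (sSup (S q.1 ∩ S q.2) : Subgroup G)) (Set.toFinite P) hPne
  simp only at hV hW hVW hmax
  obtain ⟨X, hXU, hXN⟩ := h3 V hV.1 W hW.1
  obtain ⟨X', hXX', hX'⟩ := hexmax X hXU
  have e1 : V = X' := key A U S hS h2 V W hV hW
    (fun q hq1 hq2 hq3 => hmax q ⟨hq1, hq2, hq3⟩) X' hX' (hXN.trans hXX')
  have hcomm : S W ∩ S V = S V ∩ S W := Set.inter_comm _ _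
  have e2 : W = X' := key A U S hS h2 W V hW hV
    (fun q hq1 hq2 hq3 => by rw [hcomm]; exact hmax q ⟨hq1, hq2, hq3⟩) X' hX'
    (by rw [hcomm]; exact hXN.trans hXX')
  exact hVW (e1.trans e2.symm)

end Cfsg.Agent.S0540
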