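import Cfsg.Statements.S0541
import Mathlib
-- import your own Cfsg.Agent.* helpers here

set_option autoImplicit false
open Pointwise
open Cfsg

namespace Cfsg.Agent.S0541

theorem mem_conj_smul {G : Type*} [Group G] (b y : G) (X : Subgroup G) :
    y ∈ (MulAut.conj b • X : Subgroup G) ↔ b⁻¹ * y * b ∈ X := by
  rw [Subgroup.mem_pointwise_smul_iff_inv_smul_mem, MulAut.smul_def, ← map_inv, MulAut.conj_apply,
    inv_inv]

theorem mem_normalizer_of_conj_smul_le {G : Type*} [Group G] [Finite G] (y : G) (X : Subgroup G)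
    (h : (MulAut.conj y • X : Subgroup G) ≤ X) : y ∈ Subgroup.normalizer (X : Set G) := by
  apply Subgroup.mem_normalizer_fintype
  intro n hn
  apply h
  rw [mem_conj_smul]
  have : y⁻¹ * (y * n * y⁻¹) * y = n := by group
  rw [this]; exact hn

theorem conj_smul_le_of_mem_normalizer {G : Type*} [Group G] (y : G) (X : Subgroup G)
    (h : y ∈ Subgroup.normalizer (X : Set G)) : (MulAut.conj y • X : Subgroup G) ≤ X := by
  intro z hz
  rw [mem_conj_smul] at hz
  have := (Subgroup.mem_normalizer_iff.mp h (y⁻¹ * z * y)).mp hz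
  have e : y * (y⁻¹ * z * y) * y⁻¹ = z := by group
  rwa [e] at this

theorem conj_conj_smul {G : Type*} [Group G] (a b : G) (X : Subgroup G) :
    (MulAut.conj a • (MulAut.conj b • X : Subgroup G) : Subgroup G) = MulAut.conj (a * b) • X := by
  rw [← mul_smul, ← map_mul]

theorem exists_mem_normalizer_not_mem_of_lt {G : Type*} [Group G] [Finite G] {p : ℕ}
    [Fact p.Prime] {P Q : Subgroup G} (hQ : IsPGroup p Q) (hPQ : P < Q) :
    ∃ y ∈ Q, y ∉ P ∧ y ∈ Subgroup.normalizer (P : Set G) := by
  have : Group.IsNilpotent Q := hQ.isNilpotent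
  have hnc : NormalizerCondition Q := Group.normalizerCondition_of_isNilpotent
  have hlt : P.subgroupOf Q < ⊤ := by
    rw [lt_top_iff_ne_top, Ne, Subgroup.subgroupOf_eq_top]
    exact not_le_of_gt hPQ
  obtain ⟨hle, hnle⟩ := hnc _ hlt
  obtain ⟨y, hy1, hy2⟩ := SetLike.not_le_iff_exists.1 hnle
  refine ⟨y, y.2, ?_, ?_⟩
  · intro hyP
    exact hy2 (Subgroup.mem_subgroupOf.2 hyP)
  · apply Subgroup.mem_normalizer_fintype
    intro t ht
    have ht' : (⟨t, hPQ.le ht⟩ : Q) ∈ P.subgroupOf Q := Subgroup.mem_subgroupOf.2 ht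
    have := (Subgroup.mem_normalizer_iff.1 hy1 _).1 ht'
    rw [Subgroup.mem_subgroupOf] at this
    simpa using this

/-- Join of the conjugates of `Z` by the elements of `I`. -/
def J {G : Type*} [Group G] (Z : Subgroup G) (I : Set G) : Subgroup G :=
  ⨆ g ∈ I, MulAut.conj g • Z

/-- The conjugators carrying `Z` into `R`. -/
def cI {G : Type*} [Group G] (Z R : Subgroup G) : Set G := {g : G | MulAut.conj g • Z ≤ R}

section
variable {G : Type*} [Group G] (Z : Subgroup G)

theorem J_le {I : Set G} {R : Subgroup G} (h : ∀ g ∈ I, (MulAut.conj g • Z : Subgroup G) ≤ R) :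
    J Z I ≤ R := iSup₂_le h

theorem le_J {I : Set G} {g : G} (hg : g ∈ I) : (MulAut.conj g • Z : Subgroup G) ≤ J Z I :=
  le_iSup₂ (f := fun g _ => (MulAut.conj g • Z : Subgroup G)) g hg

theorem J_cI_le (R : Subgroup G) : J Z (cI Z R) ≤ R := J_le Z (fun _ hg => hg)

theorem J_union (I I' : Set G) : J Z (I ∪ I') = J Z I ⊔ J Z I' := iSup_union

theorem J_mono {I I' : Set G} (h : I ⊆ I') : J Z I ≤ J Z I' :=
  J_le Z (fun _ hg => le_J Z (h hg))

theorem conj_J_le (I : Set G) (y : G) (hI : ∀ g ∈ I, y * g ∈ I) :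
    (MulAut.conj y • J Z I : Subgroup G) ≤ J Z I := by
  rw [Subgroup.pointwise_smul_subset_iff]
  apply J_le
  intro g hg
  rw [Subgroup.subset_pointwise_smul_iff, inv_inv, conj_conj_smul]
  exact le_J Z (hI g hg)

end


/-- Let Z and Y be subgroups of a finite group G and p a prime. Suppose that for every g in G the subgroup generated by the conjugates of g Z g⁻¹ under Y is a p-group. Then there is a Sylow p-subgroup P of G such that Y normalizes the subgroup generated by all conjugates of Z contained in P. -/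
theorem result {G : Type*} [Group G] [Finite G] (p : ℕ) [Fact p.Prime] (Z Y : Subgroup G) (h : ∀ g : G, IsPGroup p ↥(⨆ y ∈ Y, MulAut.conj (y * g) • Z)) : ∃ P : Sylow p G, Y ≤ Subgroup.normalizer ((⨆ g ∈ {g : G | MulAut.conj g • Z ≤ (P : Subgroup G)}, MulAut.conj g • Z : Subgroup G) : Set G) := by
  classical
  let 𝒯 : Set (Subgroup G) := {T | IsPGroup p ↥T ∧ Y ≤ Subgroup.normalizer (T : Set G) ∧ J Z (cI Z T) = T}
  have hbot : (⊥ : Subgroup G) ∈ 𝒯 := by
    refine ⟨IsPGroup.of_bot, ?_, ?_⟩
    · intro y _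
      apply Subgroup.mem_normalizer_fintype
      intro n hn
      have : n = 1 := hn
      subst this
      simp
    · exact le_bot_iff.mp (J_cI_le Z ⊥)
  have hfin : 𝒯.Finite := Set.toFinite _
  obtain ⟨T, ⟨hT1, hT2, hT3⟩, hmax⟩ := hfin.exists_maximal ⟨⊥, hbot⟩
  -- (∗)
  have star : ∀ g : G, (MulAut.conj g • Z : Subgroup G) ≤ Subgroup.normalizer (T : Set G) →
      (MulAut.conj g • Z : Subgroup G) ≤ T := by
    intro g hg
    set IE : Set G := {x | ∃ y ∈ Y, x = y * g} with hIE
    have hEeq : J Z IE = ⨆ y ∈ Y, MulAut.conj (y * g) • Z := by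
      apply le_antisymm
      · apply J_le
        rintro x ⟨y, hy, rfl⟩
        exact le_iSup₂ (f := fun y _ => (MulAut.conj (y * g) • Z : Subgroup G)) y hy
      · apply iSup₂_le
        intro y hy
        exact le_J Z ⟨y, hy, rfl⟩
    have hE : IsPGroup p ↥(J Z IE) := by rw [hEeq]; exact h g
    have hEN : J Z IE ≤ Subgroup.normalizer (T : Set G) := by
      apply J_le
      rintro x ⟨y, hy, rfl⟩
      rw [← conj_conj_smul]
      intro z hz
      rw [mem_conj_smul] at hz
      have h1 := hg hz
      have h2 := (Subgroup.normalizer (T : Set G)).mul_mem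
        ((Subgroup.normalizer (T : Set G)).mul_mem (hT2 hy) h1)
        ((Subgroup.normalizer (T : Set G)).inv_mem (hT2 hy))
      have e : y * (y⁻¹ * z * y) * y⁻¹ = z := by group
      rwa [e] at h2
    set Tstar := J Z (cI Z T ∪ IE) with hTstar
    have hTs : Tstar = T ⊔ J Z IE := by rw [hTstar, J_union, hT3]
    have hmem : Tstar ∈ 𝒯 := by
      refine ⟨?_, ?_, ?_⟩
      · rw [hTs]; exact IsPGroup.to_sup_of_normal_left' hT1 hE hEN
      · intro y hy
        apply mem_normalizer_of_conj_smul_le
        apply conj_J_le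
        rintro g' (hg' | ⟨y', hy', rfl⟩)
        · left
          show (MulAut.conj (y * g') • Z : Subgroup G) ≤ T
          rw [← conj_conj_smul]
          refine le_trans ?_ (conj_smul_le_of_mem_normalizer y T (hT2 hy))
          exact Subgroup.pointwise_smul_le_pointwise_smul_iff.mpr hg'
        · right
          exact ⟨y * y', Y.mul_mem hy hy', by rw [mul_assoc]⟩
      · apply le_antisymm (J_cI_le Z _)
        rw [hTstar]
        apply J_mono
        intro g' hg'
        exact le_J Z hg'
    have hle : T ≤ Tstar := by rw [hTs]; exact le_sup_left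
    have hge : Tstar ≤ T := hmax hmem hle
    refine le_trans ?_ hge
    rw [hTs]
    refine le_trans ?_ le_sup_right
    apply le_J
    exact ⟨1, Y.one_mem, by rw [one_mul]⟩
  -- Sylow containing T
  obtain ⟨P, hTP⟩ := hT1.exists_le_sylow
  have step4 : ∀ g : G, (MulAut.conj g • Z : Subgroup G) ≤ (P : Subgroup G) →
      (MulAut.conj g • Z : Subgroup G) ≤ T := by
    intro g hgP
    set D : Subgroup G := MulAut.conj g • Z with hD
    set R := T ⊔ D with hR
    have hRP : R ≤ (P : Subgroup G) := sup_le hTP hgP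
    have hRp : IsPGroup p ↥R := P.2.to_le hRP
    have hRN : R ≤ Subgroup.normalizer (T : Set G) := by
      by_contra hcon
      set N₁ := R ⊓ Subgroup.normalizer (T : Set G) with hN₁
      have hlt : N₁ < R := by
        refine lt_of_le_of_ne inf_le_left ?_
        intro heq
        apply hcon
        rw [← heq]; exact inf_le_right
      obtain ⟨r, hrR, hrN₁, hrn⟩ := exists_mem_normalizer_not_mem_of_lt hRp hlt
      have hTN₁ : T ≤ N₁ := le_inf le_sup_left Subgroup.le_normalizer
      have h1 : (MulAut.conj r • T : Subgroup G) ≤ N₁ :=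
        le_trans (Subgroup.pointwise_smul_le_pointwise_smul_iff.mpr hTN₁)
          (conj_smul_le_of_mem_normalizer r N₁ hrn)
      have h2 : (MulAut.conj r • T : Subgroup G) ≤ T := by
        rw [Subgroup.pointwise_smul_subset_iff]
        nth_rewrite 1 [← hT3]
        apply J_le
        intro g' hg'
        rw [Subgroup.subset_pointwise_smul_iff, inv_inv, conj_conj_smul]
        apply star
        rw [← conj_conj_smul]
        refine le_trans ?_ (h1.trans inf_le_right)
        exact Subgroup.pointwise_smul_le_pointwise_smul_iff.mpr hg'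
      exact hrN₁ ⟨hrR, mem_normalizer_of_conj_smul_le r T h2⟩
    exact star g (le_trans le_sup_right hRN)
  refine ⟨P, ?_⟩
  have hW : (⨆ g ∈ {g : G | MulAut.conj g • Z ≤ (P : Subgroup G)}, MulAut.conj g • Z : Subgroup G) = T := by
    apply le_antisymm
    · exact iSup₂_le (fun g hg => step4 g hg)
    · nth_rewrite 1 [← hT3]
      apply J_le
      intro g hg
      have hg' : (MulAut.conj g • Z : Subgroup G) ≤ (P : Subgroup G) :=
        le_trans (show (MulAut.conj g • Z : Subgroup G) ≤ T from hg) hTP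
      exact le_iSup₂ (f := fun g (_ : g ∈ {g : G | MulAut.conj g • Z ≤ (P : Subgroup G)}) =>
        (MulAut.conj g • Z : Subgroup G)) g hg'
  rw [hW]
  exact hT2

end Cfsg.Agent.S0541
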