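import Cfsg.Statements.S0547
import Cfsg.Agent.Lib.Helper13.MinNormalSolvable

set_option autoImplicit false
open Cfsg

namespace Cfsg.Agent.S0547

open Cfsg.Agent.Lib.Helper13

/-- A nontrivial normal subgroup of a faithful preprimitive group is transitive. -/
lemma isPretransitive_of_normal {G : Type*} [Group G] {Ω : Type*} [MulAction G Ω]
    [FaithfulSMul G Ω] (hprim : MulAction.IsPreprimitive G Ω) (M : Subgroup G) [M.Normal]
    (hM : M ≠ ⊥) : MulAction.IsPretransitive M Ω := by
  apply MulAction.IsQuasiPreprimitive.isPretransitive_of_normal (G := G)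
  intro h
  apply hM
  rw [eq_bot_iff]
  intro m hm
  rw [Subgroup.mem_bot]
  apply FaithfulSMul.eq_of_smul_eq_smul (α := Ω)
  intro ω
  have : ω ∈ MulAction.fixedPoints M Ω := h ▸ Set.mem_univ ω
  rw [one_smul]
  exact this ⟨m, hm⟩

/-- An element commuting with a transitive subgroup and fixing a point is trivial. -/
lemma eq_one_of_commute_of_fixed {G : Type*} [Group G] {Ω : Type*} [MulAction G Ω]
    [FaithfulSMul G Ω] (M : Subgroup G) [MulAction.IsPretransitive M Ω] (ω : Ω) (h : G)
    (hfix : h • ω = ω) (hcomm : ∀ m ∈ M, m * h = h * m) : h = 1 := by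
  apply FaithfulSMul.eq_of_smul_eq_smul (α := Ω)
  intro ω'
  obtain ⟨m, rfl⟩ := MulAction.exists_smul_eq M ω ω'
  rw [one_smul]
  show h • ((m : G) • ω) = (m : G) • ω
  rw [← mul_smul, ← hcomm m m.2, mul_smul, hfix]

/-- Let a finite solvable group G act faithfully and primitively on a set, and let M be a minimal normal subgroup of G. Then M is transitive with trivial point stabilizers, and the number of points equals the order of M, which is a prime power p ^ d with d ≥ 1. -/
theorem result {G : Type*} [Group G] [Finite G] [Group.IsSolvable G] {Ω : Type*} [Nonempty Ω] [MulAction G Ω] [FaithfulSMul G Ω] (hprim : MulAction.IsPreprimitive G Ω) (M : Subgroup G) [M.Normal] (hM : M ≠ ⊥) (hmin : ∀ K : Subgroup G, K.Normal → K ≤ M → K = ⊥ ∨ K = M) : MulAction.IsPretransitive M Ω ∧ (∀ ω : Ω, MulAction.stabilizer M ω = ⊥) ∧ ∃ p d : ℕ, p.Prime ∧ 0 < d ∧ Nat.card Ω = p ^ d ∧ Nat.card M = p ^ d := by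
  have hMmin : IsMinNormal M := ⟨inferInstance, hM, hmin⟩
  have htrans : MulAction.IsPretransitive M Ω := isPretransitive_of_normal hprim M hM
  have hstab : ∀ ω : Ω, MulAction.stabilizer M ω = ⊥ := by
    intro ω
    rw [eq_bot_iff]
    intro m hm
    rw [Subgroup.mem_bot]
    have h1 : (m : G) • ω = ω := hm
    have h2 : (m : G) = 1 := eq_one_of_commute_of_fixed M ω (m : G) h1
      (fun n hn => hMmin.mul_comm_of_mem hn m.2)
    exact Subtype.ext h2
  refine ⟨htrans, hstab, ?_⟩
  obtain ⟨p, hp, hpd, _, hMp⟩ := hMmin.exists_prime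
  have hpF : Fact p.Prime := ⟨hp⟩
  obtain ⟨d, hd⟩ := hMp.exists_card_eq
  obtain ⟨ω⟩ : Nonempty Ω := inferInstance
  have hcard : Nat.card Ω = Nat.card M := by
    have := MulAction.index_stabilizer_of_transitive M ω
    rw [hstab ω, Subgroup.index_bot] at this
    exact this.symm
  refine ⟨p, d, hp, ?_, by rw [hcard, hd], hd⟩
  rcases Nat.eq_zero_or_pos d with h0 | h0
  · exfalso
    rw [h0, pow_zero] at hd
    exact hM (Subgroup.card_eq_one.mp hd)
  · exact h0

end Cfsg.Agent.S0547
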