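import Cfsg.Statements.S0548
import Cfsg.Agent.S0547

set_option autoImplicit false
open Cfsg

namespace Cfsg.Agent.S0548

open Cfsg.Agent.Lib.Helper13
open Pointwise

/-- Let a finite solvable group G act faithfully and primitively on a set, let M be a minimal normal subgroup and H the stabilizer of a point. Then H is a complement to M, no non-identity element of H centralizes M, and the only subgroups of M normalized by H are the trivial subgroup and M. -/
theorem result {G : Type*} [Group G] [Finite G] [Group.IsSolvable G] {Ω : Type*} [MulAction G Ω] [FaithfulSMul G Ω] (hprim : MulAction.IsPreprimitive G Ω) (M : Subgroup G) [M.Normal] (hM : M ≠ ⊥) (hmin : ∀ K : Subgroup G, K.Normal → K ≤ M → K = ⊥ ∨ K = M) (ω : Ω) : Subgroup.IsComplement' M (MulAction.stabilizer G ω) ∧ MulAction.stabilizer G ω ⊓ Subgroup.centralizer (M : Set G) = ⊥ ∧ ∀ K : Subgroup G, K ≤ M → MulAction.stabilizer G ω ≤ Subgroup.normalizer (K : Set G) → K = ⊥ ∨ K = M := by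
  have hne : Nonempty Ω := ⟨ω⟩
  have hMmin : IsMinNormal M := ⟨inferInstance, hM, hmin⟩
  obtain ⟨htrans, hstab, -⟩ := Cfsg.Agent.S0547.result hprim M hM hmin
  have hdisj : Disjoint M (MulAction.stabilizer G ω) := by
    rw [Subgroup.disjoint_def]
    intro x hxM hxH
    have h1 : (⟨x, hxM⟩ : M) ∈ MulAction.stabilizer M ω := hxH
    rw [hstab ω, Subgroup.mem_bot] at h1
    exact congrArg Subtype.val h1
  have hfact : ∀ g : G, ∃ m ∈ M, ∃ h ∈ MulAction.stabilizer G ω, g = m * h := by
    intro g
    obtain ⟨m, hm⟩ := MulAction.exists_smul_eq M ω (g • ω)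
    refine ⟨m, m.2, (m : G)⁻¹ * g, ?_, by group⟩
    rw [MulAction.mem_stabilizer_iff, mul_smul, ← hm]
    show (m : G)⁻¹ • ((m : G) • ω) = ω
    rw [inv_smul_smul]
  have hsup : M ⊔ MulAction.stabilizer G ω = ⊤ := by
    rw [eq_top_iff]
    intro g _
    obtain ⟨m, hm, h, hh, rfl⟩ := hfact g
    exact Subgroup.mul_mem_sup hm hh
  refine ⟨?_, ?_, ?_⟩
  · apply Subgroup.isComplement'_of_disjoint_and_mul_eq_univ hdisj
    rw [← Subgroup.normal_mul, hsup, Subgroup.coe_top]
  · rw [eq_bot_iff]
    intro h hh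
    rw [Subgroup.mem_bot]
    apply Cfsg.Agent.S0547.eq_one_of_commute_of_fixed M ω h hh.1
    intro m hm
    exact hh.2 m hm
  · intro K hKM hKH
    have hKn : K.Normal := by
      rw [← Subgroup.normalizer_eq_top_iff, eq_top_iff, ← hsup]
      apply sup_le _ hKH
      rw [Subgroup.le_normalizer_iff]
      intro m hm k hk
      have : m * k * m⁻¹ = k := by
        rw [hMmin.mul_comm_of_mem hm (hKM hk), mul_inv_cancel_right]
      rw [this]; exact hk
    exact hmin K hKn hKM

end Cfsg.Agent.S0548
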