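import Cfsg.Statements.S0550
import Cfsg.Agent.S0549
import Cfsg.Agent.Lib.Helper13.Complements

set_option autoImplicit false
open Cfsg

namespace Cfsg.Agent.S0550

open Cfsg.Agent.Lib.Helper13

/-- one half of the statement, to be used twice by symmetry -/
lemma half {G : Type*} [Group G] [Finite G] (U : Subgroup G) (hU : IsCoatom U)
    (hcore : U.normalCore = ⊥) (A B : Subgroup G) [hAn : A.Normal] [hBn : B.Normal] (hA : A ≠ ⊥)
    (hB : B ≠ ⊥)
    (hAmin : ∀ K : Subgroup G, K.Normal → K ≤ A → K = ⊥ ∨ K = A)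
    (hBmin : ∀ K : Subgroup G, K.Normal → K ≤ B → K = ⊥ ∨ K = B) (hAB : A ≠ B) :
    A ⊓ B = ⊥ ∧ Subgroup.centralizer (B : Set G) = A ∧ Subgroup.IsComplement' A U ∧
      Nonempty (A ≃* ↥((A ⊔ B) ⊓ U)) := by
  have hinf : A ⊓ B = ⊥ := by
    have hn : (A ⊓ B).Normal := inferInstance
    rcases hAmin _ hn inf_le_left with h | h
    · exact h
    · rcases hBmin _ hn inf_le_right with h' | h'
      · exact h'
      · exact absurd (h.symm.trans h') hAB
  have hcomm : ⁅A, B⁆ = ⊥ := Subgroup.commutator_eq_bot_of_disjoint (disjoint_iff.mpr hinf)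
  have hAC : A ≤ Subgroup.centralizer (B : Set G) :=
    Subgroup.commutator_eq_bot_iff_le_centralizer.mp hcomm
  obtain ⟨hCU, hC⟩ := Cfsg.Agent.S0549.result U hU hcore B hB
  have hCne : Subgroup.centralizer (B : Set G) ≠ ⊥ := by
    intro h; rw [h, le_bot_iff] at hAC; exact hA hAC
  have hCA : Subgroup.centralizer (B : Set G) = A := by
    rcases hC with h | ⟨_, hmin⟩
    · exact absurd h hCne
    · exact ((hmin A hAn hAC).resolve_left hA).symm
  have hAU : A ⊓ U = ⊥ := by rw [← hCA]; exact hCU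
  have hAsup : A ⊔ U = ⊤ := Cfsg.Agent.S0549.sup_eq_top_of_normal U hU hcore A hA
  have hBsup : B ⊔ U = ⊤ := Cfsg.Agent.S0549.sup_eq_top_of_normal U hU hcore B hB
  refine ⟨hinf, hCA, isComplement'_of_normal_sup_inf A U hAsup hAU, ?_⟩
  -- B ⊓ U = ⊥ as well, by the symmetric argument
  have hBA : B ≤ Subgroup.centralizer (A : Set G) := by
    rw [Subgroup.commutator_comm] at hcomm
    exact Subgroup.commutator_eq_bot_iff_le_centralizer.mp hcomm
  obtain ⟨hCU', hC'⟩ := Cfsg.Agent.S0549.result U hU hcore A hA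
  have hBU : B ⊓ U = ⊥ := by
    apply le_bot_iff.mp
    rw [← hCU']
    exact inf_le_inf_right U hBA
  apply nonempty_mulEquiv_of_sup_eq A ((A ⊔ B) ⊓ U) B hinf
  · apply le_bot_iff.mp
    rw [← hBU]
    exact le_inf inf_le_right (inf_le_left.trans inf_le_right)
  · apply le_antisymm
    · apply sup_le _ le_sup_right
      intro a ha
      have hmem : a ∈ B ⊔ U := hBsup ▸ Subgroup.mem_top a
      obtain ⟨b, hb, u, hu, rfl⟩ := Subgroup.mem_sup_of_normal_left.mp hmem
      have hu' : u ∈ (A ⊔ B) ⊓ U := by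
        refine ⟨?_, hu⟩
        have : u = b⁻¹ * (b * u) := by group
        rw [this]
        exact Subgroup.mul_mem _ (Subgroup.mem_sup_right (B.inv_mem hb)) (Subgroup.mem_sup_left ha)
      rw [sup_comm]
      exact Subgroup.mul_mem_sup hb hu'
    · exact sup_le (inf_le_left) le_sup_right

/-- Let U be a maximal subgroup with trivial normal core in a finite group G, and A ≠ B two minimal normal subgroups. Then A is the centralizer of B and B that of A, U complements each of them, A and B are non-abelian, and A, B and (A ⊔ B) ∩ U are pairwise isomorphic. -/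
theorem result {G : Type*} [Group G] [Finite G] (U : Subgroup G) (hU : IsCoatom U) (hcore : U.normalCore = ⊥) (A B : Subgroup G) [A.Normal] [B.Normal] (hA : A ≠ ⊥) (hB : B ≠ ⊥) (hAmin : ∀ K : Subgroup G, K.Normal → K ≤ A → K = ⊥ ∨ K = A) (hBmin : ∀ K : Subgroup G, K.Normal → K ≤ B → K = ⊥ ∨ K = B) (hAB : A ≠ B) : Subgroup.centralizer (B : Set G) = A ∧ Subgroup.centralizer (A : Set G) = B ∧ Subgroup.IsComplement' A U ∧ Subgroup.IsComplement' B U ∧ ¬ IsMulCommutative A ∧ Nonempty (A ≃* B) ∧ Nonempty (A ≃* ↥((A ⊔ B) ⊓ U)) := by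
  obtain ⟨hinf, hCB, hcA, ⟨eA⟩⟩ := half U hU hcore A B hA hB hAmin hBmin hAB
  obtain ⟨_, hCA, hcB, ⟨eB⟩⟩ := half U hU hcore B A hB hA hBmin hAmin hAB.symm
  refine ⟨hCB, hCA, hcA, hcB, ?_, ?_, ⟨eA⟩⟩
  · intro hcomm
    apply hA
    have h1 : A ≤ Subgroup.centralizer (A : Set G) := by
      intro a ha b hb
      have := hcomm.is_comm.comm ⟨a, ha⟩ ⟨b, hb⟩
      exact (congrArg Subtype.val this).symm
    rw [hCA] at h1
    have h2 : A ≤ A ⊓ B := le_inf le_rfl h1
    rw [hinf] at h2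
    exact le_bot_iff.mp h2
  · have e : ↥((B ⊔ A) ⊓ U) ≃* ↥((A ⊔ B) ⊓ U) := MulEquiv.subgroupCongr (by rw [sup_comm])
    exact ⟨eA.trans (e.symm.trans eB.symm)⟩

end Cfsg.Agent.S0550
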