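import Cfsg.Statements.S0552
import Cfsg.Agent.Lib.Helper13.Fitting

set_option autoImplicit false
open Cfsg

namespace Cfsg.Agent.S0552

open Cfsg.Agent.Lib.Helper13

/-- Let σ be an automorphism of a finite solvable group G fixing every element of the Fitting subgroup. If σ is not the identity then the order of σ and the order of G have a common prime factor. -/
theorem result {G : Type*} [Group G] [Finite G] [Group.IsSolvable G] (σ : G ≃* G) (hσ : ∀ x ∈ Cfsg.fittingSubgroup G, σ x = x) (hne : σ ≠ MulEquiv.refl G) : ¬ (orderOf σ).Coprime (Nat.card G) := by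
  intro hcop
  apply hne
  ext g
  show σ g = g
  have hFn : (Cfsg.fittingSubgroup G).Normal := fittingSubgroup_normal
  set n := g⁻¹ * σ g with hn
  have hnC : n ∈ Subgroup.centralizer ((Cfsg.fittingSubgroup G : Subgroup G) : Set G) := by
    rw [Subgroup.mem_centralizer_iff]
    intro f hf
    have h1 : σ (g * f * g⁻¹) = g * f * g⁻¹ := hσ _ (hFn.conj_mem f hf g)
    rw [map_mul, map_mul, map_inv, hσ f hf] at h1
    -- h1 : σ g * f * (σ g)⁻¹ = g * f * g⁻¹
    have h2 : σ g * f = g * f * g⁻¹ * σ g := by
      rw [← h1]; group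
    calc f * n = g⁻¹ * (g * f * g⁻¹ * σ g) := by rw [hn]; group
      _ = g⁻¹ * (σ g * f) := by rw [h2]
      _ = n * f := by rw [hn]; group
  have hnF : n ∈ Cfsg.fittingSubgroup G := centralizer_fittingSubgroup_le hnC
  have hσn : σ n = n := hσ n hnF
  have hσg : σ g = g * n := by rw [hn]; group
  have hpow : ∀ k : ℕ, (σ ^ k) g = g * n ^ k := by
    intro k
    induction k with
    | zero => simp
    | succ k ih =>
      rw [pow_succ', MulAut.mul_apply, ih, map_mul, map_pow, hσn, hσg, pow_succ', mul_assoc]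
  have h1 : n ^ orderOf σ = 1 := by
    have := hpow (orderOf σ)
    rw [pow_orderOf_eq_one, MulAut.one_apply] at this
    exact mul_left_cancel (a := g) (by rw [← this, mul_one])
  have h2 : n ^ Nat.card G = 1 := pow_card_eq_one'
  have h3 : orderOf n ∣ Nat.gcd (orderOf σ) (Nat.card G) :=
    Nat.dvd_gcd (orderOf_dvd_of_pow_eq_one h1) (orderOf_dvd_of_pow_eq_one h2)
  rw [hcop, Nat.dvd_one, orderOf_eq_one_iff] at h3
  rw [hσg, h3, mul_one]

end Cfsg.Agent.S0552
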