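import Cfsg.Statements.S0553
import Cfsg.Agent.Lib.Helper13.Basic
import Cfsg.Agent.Lib.Helper13.ProdCard
import Cfsg.Agent.Lib.Helper13.MinNormalSolvable
import Cfsg.Agent.Lib.Helper13.QuotientLemmas

set_option autoImplicit false
open Cfsg

namespace Cfsg.Agent.S0553

open Cfsg.Agent.Lib.Helper13

universe u

theorem aux (n : ℕ) : ∀ (G : Type u) [Group G] [Finite G] [Group.IsSolvable G] [Nontrivial G],
    Nat.card G = n → (∀ M : Subgroup G, IsCoatom M → (Nat.card M).Coprime M.index) →
    ∃ p : ℕ, ∃ _ : Fact p.Prime, p ∣ Nat.card G ∧ ∃ P : Sylow p G, (P : Subgroup G).Normal := by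
  induction n using Nat.strong_induction_on with
  | _ n ih =>
    intro G _ _ _ _ hn h
    obtain ⟨N, hN⟩ := exists_isMinNormal (G := G)
    have hNn : N.Normal := hN.1
    obtain ⟨p, hp, hpd, hpow, hNp⟩ := hN.exists_prime
    have hpF : Fact p.Prime := ⟨hp⟩
    by_cases hNtop : N = ⊤
    · -- G is a p-group
      obtain ⟨P⟩ : Nonempty (Sylow p G) := inferInstance
      have htop : IsPGroup p (⊤ : Subgroup G) := hNtop ▸ hNp
      have hP : (⊤ : Subgroup G) = P := P.is_maximal' htop le_top
      refine ⟨p, hpF, ?_, P, hP ▸ Subgroup.normal_top⟩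
      exact dvd_trans hpd (Subgroup.card_subgroup_dvd_card N)
    · -- pass to the quotient
      have hQnon : Nontrivial (G ⧸ N) := by
        rw [← not_subsingleton_iff_nontrivial]
        intro hsub
        exact hNtop (QuotientGroup.subgroup_eq_top_of_subsingleton N hsub)
      have hGc : Nat.card G = Nat.card (G ⧸ N) * Nat.card N :=
        Subgroup.card_eq_card_quotient_mul_card_subgroup N
      have hN1 : 1 < Nat.card N := (Subgroup.one_lt_card_iff_ne_bot N).mpr hN.2.1
      have hQlt : Nat.card (G ⧸ N) < n := by
        rw [← hn, hGc]; exact lt_mul_of_one_lt_right Nat.card_pos hN1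
      have hQ : ∀ M' : Subgroup (G ⧸ N), IsCoatom M' → (Nat.card M').Coprime M'.index := by
        intro M' hM'
        have h1 := h _ (isCoatom_comap_mk' N M' hM')
        rw [card_comap_mk',
          Subgroup.index_comap_of_surjective M' (QuotientGroup.mk'_surjective N)] at h1
        exact Nat.Coprime.coprime_dvd_left (dvd_mul_right _ _) h1
      obtain ⟨q, hqF, hqd, P', hP'⟩ := ih _ hQlt (G ⧸ N) rfl hQ
      have hq : q.Prime := hqF.out
      have hqG : q ∣ Nat.card G := hGc ▸ dvd_mul_of_dvd_left hqd _
      obtain ⟨Q0⟩ : Nonempty (Sylow q G) := inferInstance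
      have hQ0map : ((Q0 : Subgroup G).map (QuotientGroup.mk' N)).Normal := by
        have := sylow_normal_of_normal P' hP' (Q0.mapSurjective (QuotientGroup.mk'_surjective N))
        rwa [Sylow.coe_mapSurjective] at this
      have hQn : ((Q0 : Subgroup G) ⊔ N).Normal := by
        rw [← comap_map_mk']
        exact hQ0map.comap _
      by_cases hqp : q = p
      · subst hqp
        have hNQ0 : N ≤ Q0 := hNp.le_sylow_of_normal Q0
        rw [sup_eq_left.mpr hNQ0] at hQn
        exact ⟨q, hqF, hqG, Q0, hQn⟩
      · have hfr : Subgroup.normalizer ((Q0 : Subgroup G) : Set G) ⊔ ((Q0 : Subgroup G) ⊔ N) = ⊤ :=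
          Sylow.normalizer_sup_eq_top' Q0 le_sup_left
        have hfr' : Subgroup.normalizer ((Q0 : Subgroup G) : Set G) ⊔ N = ⊤ := by
          rw [← sup_assoc, sup_eq_left.mpr Subgroup.le_normalizer] at hfr; exact hfr
        by_cases hnt : Subgroup.normalizer ((Q0 : Subgroup G) : Set G) = ⊤
        · exact ⟨q, hqF, hqG, Q0, Subgroup.normalizer_eq_top_iff.mp hnt⟩
        · obtain ⟨M, hMco, hMle⟩ := (eq_top_or_exists_le_coatom _).resolve_left hnt
          have hMN : M ⊔ N = ⊤ := top_le_iff.mp (hfr' ▸ sup_le_sup_right hMle N)
          have hinfn : (N ⊓ M).Normal := by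
            have hle : M ⊔ N ≤ Subgroup.normalizer ((N ⊓ M : Subgroup G) : Set G) := by
              apply sup_le
              · rw [Subgroup.le_normalizer_iff]
                intro m hm x hx
                exact ⟨hNn.conj_mem x hx.1 m, M.mul_mem (M.mul_mem hm hx.2) (M.inv_mem hm)⟩
              · rw [Subgroup.le_normalizer_iff]
                intro y hy x hx
                have : y * x * y⁻¹ = x := by
                  rw [hN.mul_comm_of_mem hy hx.1, mul_inv_cancel_right]
                rw [this]; exact hx
            rw [hMN, top_le_iff] at hle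
            exact Subgroup.normalizer_eq_top_iff.mp hle
          have hinf : N ⊓ M = ⊥ := by
            rcases hN.2.2 _ hinfn inf_le_left with h1 | h1
            · exact h1
            · exfalso
              have : N ≤ M := inf_eq_left.mp h1
              rw [sup_eq_left.mpr this] at hMN
              exact hMco.1 hMN
          have hprod : Nat.card G * Nat.card (M ⊓ N : Subgroup G) = Nat.card M * Nat.card N := by
            apply card_mul_card_inf_of_factorization
            intro g
            have : g ∈ M ⊔ N := hMN ▸ Subgroup.mem_top g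
            obtain ⟨m, hm, k, hk, rfl⟩ := Subgroup.mem_sup_of_normal_right.mp this
            exact ⟨m, hm, k, hk, rfl⟩
          rw [inf_comm, hinf, Subgroup.card_bot, mul_one] at hprod
          have hidx : M.index = Nat.card N := by
            have := M.card_mul_index
            rw [hprod] at this
            exact Nat.eq_of_mul_eq_mul_left Nat.card_pos this
          have hcop := h M hMco
          rw [hidx] at hcop
          obtain ⟨k, hk⟩ := hNp.exists_card_eq
          have hpM : ¬ p ∣ Nat.card M := by
            intro hdv
            have h1 : p ∣ Nat.gcd (Nat.card M) (Nat.card N) := Nat.dvd_gcd hdv hpd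
            rw [Nat.Coprime] at hcop
            rw [hcop] at h1
            exact hp.one_lt.ne' (Nat.dvd_one.mp h1)
          have hNsyl : Nat.card N = p ^ (Nat.card G).factorization p := by
            rw [hprod, Nat.factorization_mul Nat.card_pos.ne' Nat.card_pos.ne', hk]
            simp [hp.factorization_pow, Nat.factorization_eq_zero_of_not_dvd hpM]
          exact ⟨p, hpF, dvd_trans hpd (Subgroup.card_subgroup_dvd_card N), Sylow.ofCard N hNsyl,
            by rw [Sylow.coe_ofCard]; exact hNn⟩

/-- Let G be a nontrivial finite solvable group in which every maximal subgroup has order coprime to its index. Then for some prime p dividing the order of G the Sylow p-subgroups of G are normal. -/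
theorem result {G : Type*} [Group G] [Finite G] [Group.IsSolvable G] [Nontrivial G] (h : ∀ M : Subgroup G, IsCoatom M → (Nat.card M).Coprime M.index) : ∃ p : ℕ, p.Prime ∧ p ∣ Nat.card G ∧ ∀ P : Sylow p G, (P : Subgroup G).Normal := by
  obtain ⟨p, hpF, hpd, P, hP⟩ := aux (Nat.card G) G rfl h
  exact ⟨p, hpF.out, hpd, fun Q => sylow_normal_of_normal P hP Q⟩

end Cfsg.Agent.S0553
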