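import Cfsg.Statements.S0554
import Cfsg.Agent.Lib.Helper13.MinNormalSolvable

set_option autoImplicit false
open Cfsg

namespace Cfsg.Agent.S0554

open Cfsg.Agent.Lib.Helper13

universe u

/-- An element of a normal subgroup `N` contained in one of the factors can be absorbed into an
ordered product. -/
lemma absorb {G : Type u} [Group G] (N : Subgroup G) [hN : N.Normal] (t : ℕ) :
    ∀ (H : Fin t → Subgroup G) (j : Fin t), N ≤ H j → ∀ (s0 : Fin t → G),
    (∀ i, s0 i ∈ H i) → ∀ n ∈ N, ∃ s : Fin t → G, (∀ i, s i ∈ H i) ∧
      (List.ofFn s).prod = (List.ofFn s0).prod * n := by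
  induction t with
  | zero => intro H j; exact j.elim0
  | succ t ih =>
    intro H j hj s0 hs0 n hn
    induction j using Fin.cases with
    | zero =>
      set T := (List.ofFn fun i : Fin t => s0 i.succ).prod with hT
      refine ⟨Fin.cons (s0 0 * (T * n * T⁻¹)) (fun i => s0 i.succ), ?_, ?_⟩
      · intro i
        induction i using Fin.cases with
        | zero =>
          rw [Fin.cons_zero]
          exact (H 0).mul_mem (hs0 0) (hj (hN.conj_mem n hn T))
        | succ i =>
          rw [Fin.cons_succ]; exact hs0 i.succ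
      · rw [List.ofFn_succ, List.ofFn_succ, List.prod_cons, List.prod_cons]
        simp only [Fin.cons_zero, Fin.cons_succ]
        rw [← hT]; group
    | succ j' =>
      obtain ⟨s', hs', hprod⟩ := ih (fun i => H i.succ) j' hj (fun i => s0 i.succ)
        (fun i => hs0 i.succ) n hn
      refine ⟨Fin.cons (s0 0) s', ?_, ?_⟩
      · intro i
        induction i using Fin.cases with
        | zero => rw [Fin.cons_zero]; exact hs0 0
        | succ i => rw [Fin.cons_succ]; exact hs' i
      · rw [List.ofFn_succ, List.ofFn_succ, List.prod_cons, List.prod_cons]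
        simp only [Fin.cons_zero, Fin.cons_succ]
        rw [hprod, mul_assoc]

theorem aux (t : ℕ) (p : Fin t → ℕ) (hp : ∀ i, (p i).Prime) (n : ℕ) :
    ∀ (G : Type u) [Group G] [Finite G] [Group.IsSolvable G], Nat.card G = n →
    (∀ q : ℕ, q.Prime → q ∣ Nat.card G → ∃ i, p i = q) →
    ∀ (S : (i : Fin t) → Sylow (p i) G) (g : G), ∃ s : (i : Fin t) → G,
      (∀ i, s i ∈ (S i : Subgroup G)) ∧ g = (List.ofFn s).prod := by
  induction n using Nat.strong_induction_on with
  | _ n ih =>
    intro G _ _ _ hn hall S g
    rcases subsingleton_or_nontrivial G with hsub | hnon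
    · refine ⟨fun _ => 1, fun i => Subgroup.one_mem _, ?_⟩
      exact Subsingleton.elim _ _
    · obtain ⟨N, hN⟩ := exists_isMinNormal (G := G)
      have hNn : N.Normal := hN.1
      obtain ⟨r, hr, hrd, -, hNr⟩ := hN.exists_prime
      obtain ⟨j, hj⟩ := hall r hr (dvd_trans hrd (Subgroup.card_subgroup_dvd_card N))
      subst hj
      have hNj : N ≤ (S j : Subgroup G) := hNr.le_sylow_of_normal (S j)
      have hGc : Nat.card G = Nat.card (G ⧸ N) * Nat.card N :=
        Subgroup.card_eq_card_quotient_mul_card_subgroup N
      have hN1 : 1 < Nat.card N := (Subgroup.one_lt_card_iff_ne_bot N).mpr hN.2.1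
      have hQlt : Nat.card (G ⧸ N) < n := by
        rw [← hn, hGc]; exact lt_mul_of_one_lt_right Nat.card_pos hN1
      have hallQ : ∀ q : ℕ, q.Prime → q ∣ Nat.card (G ⧸ N) → ∃ i, p i = q := by
        intro q hq hqd
        exact hall q hq (hGc ▸ dvd_mul_of_dvd_left hqd _)
      let S' : (i : Fin t) → Sylow (p i) (G ⧸ N) := fun i =>
        haveI : Fact (p i).Prime := ⟨hp i⟩
        (S i).mapSurjective (QuotientGroup.mk'_surjective N)
      have hS' : ∀ i, ((S' i : Sylow (p i) (G ⧸ N)) : Subgroup (G ⧸ N))
          = (S i : Subgroup G).map (QuotientGroup.mk' N) := by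
        intro i
        have : Fact (p i).Prime := ⟨hp i⟩
        exact Sylow.coe_mapSurjective _ _
      obtain ⟨s', hs', hg'⟩ := ih _ hQlt (G ⧸ N) rfl hallQ S' (QuotientGroup.mk' N g)
      have hlift : ∀ i, ∃ x ∈ (S i : Subgroup G), QuotientGroup.mk' N x = s' i := by
        intro i
        have := hs' i
        rw [hS' i] at this
        exact this
      choose s0 hs0 hs0' using hlift
      have hprod : QuotientGroup.mk' N (List.ofFn s0).prod = QuotientGroup.mk' N g := by
        rw [hg', map_list_prod, List.map_ofFn]
        congr 2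
        funext i
        exact hs0' i
      have hmem : (List.ofFn s0).prod⁻¹ * g ∈ N := by
        rw [← QuotientGroup.eq]
        exact hprod
      obtain ⟨s, hs, hsprod⟩ := absorb N t (fun i => (S i : Subgroup G)) j hNj s0 hs0 _ hmem
      refine ⟨s, hs, ?_⟩
      rw [hsprod]; group

/-- Let G be a finite solvable group and let S assign to each of t distinct primes, including every prime divisor of the order of G, a Sylow subgroup of G. Then every element of G is a product s_0 s_1 ⋯ s_(t-1) with s_i in S i, the factors taken in the given order. -/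
theorem result {G : Type*} [Group G] [Finite G] [Group.IsSolvable G] (t : ℕ) (p : Fin t → ℕ) (hp : ∀ i, (p i).Prime) (hinj : Function.Injective p) (hall : ∀ q : ℕ, q.Prime → q ∣ Nat.card G → ∃ i, p i = q) (S : (i : Fin t) → Sylow (p i) G) : ∀ g : G, ∃ s : (i : Fin t) → G, (∀ i, s i ∈ (S i : Subgroup G)) ∧ g = (List.ofFn s).prod :=
  aux t p hp (Nat.card G) G rfl hall S

end Cfsg.Agent.S0554
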