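import Cfsg.Statements.S0555

set_option autoImplicit false
open Cfsg

namespace Cfsg.Agent.S0555

/-- The derived subgroup centralizes every cyclic normal subgroup. -/
theorem commutator_le_centralizer_of_normal_cyclic {Γ : Type*} [Group Γ] (N : Subgroup Γ) [hn : N.Normal]
    [hN : IsCyclic N] : commutator Γ ≤ Subgroup.centralizer (N : Set Γ) := by
  let _ := (hN.mulAutMulEquiv _).toMonoidHom.commGroupOfInjective (hN.mulAutMulEquiv _).injective
  have h := Abelianization.commutator_subset_ker (MulAut.conjNormal (H := N))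
  intro x hx
  have hx' := h hx
  rw [MonoidHom.mem_ker] at hx'
  rw [Subgroup.mem_centralizer_iff]
  intro n hn'
  have h1 := congrArg (fun φ : MulAut N => ((φ ⟨n, hn'⟩ : N) : Γ)) hx'
  simp only [MulAut.conjNormal_apply, MulAut.one_apply] at h1
  calc n * x = (x * n * x⁻¹) * x := by rw [h1]
    _ = x * n := by group

/-- Let i ≥ 1. If in the derived series of a group the quotient of the i-th term by the (i+1)-st and the quotient of the (i+1)-st by the (i+2)-nd are both cyclic, then the (i+1)-st and (i+2)-nd terms coincide. -/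
theorem result {G : Type*} [Group G] (i : ℕ) (hi : 1 ≤ i) (h₁ : IsCyclic (↥(derivedSeries G i) ⧸ (derivedSeries G (i + 1)).subgroupOf (derivedSeries G i))) (h₂ : IsCyclic (↥(derivedSeries G (i + 1)) ⧸ (derivedSeries G (i + 2)).subgroupOf (derivedSeries G (i + 1)))) : derivedSeries G (i + 1) = derivedSeries G (i + 2) := by
  have hCn : (derivedSeries G (i + 2)).Normal := derivedSeries_normal G (i + 2)
  have hBn : (derivedSeries G (i + 1)).Normal := derivedSeries_normal G (i + 1)
  have hBA : derivedSeries G (i + 1) ≤ derivedSeries G i := derivedSeries_antitone G (Nat.le_succ i)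
  have hCB : derivedSeries G (i + 2) ≤ derivedSeries G (i + 1) :=
    derivedSeries_antitone G (Nat.le_succ (i + 1))
  have hAG' : derivedSeries G i ≤ commutator G := by
    rw [← derivedSeries_one]; exact derivedSeries_antitone G hi
  have hBdef : derivedSeries G (i + 1) = ⁅derivedSeries G i, derivedSeries G i⁆ := derivedSeries_succ G i
  refine le_antisymm ?_ hCB
  -- the derived subgroup of `G` centralizes `B` modulo `C`
  have claim1 : ∀ x ∈ commutator G, ∀ b ∈ derivedSeries G (i + 1),
      x * b * x⁻¹ * b⁻¹ ∈ derivedSeries G (i + 2) := by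
    intro x hx b hb
    have hcyc : IsCyclic ↥((derivedSeries G (i + 1)).map (QuotientGroup.mk' (derivedSeries G (i + 2)))) := by
      let f : (↥(derivedSeries G (i + 1)) ⧸ (derivedSeries G (i + 2)).subgroupOf (derivedSeries G (i + 1))) →*
          ↥((derivedSeries G (i + 1)).map (QuotientGroup.mk' (derivedSeries G (i + 2)))) :=
        QuotientGroup.lift _
          ((QuotientGroup.mk' (derivedSeries G (i + 2))).subgroupMap (derivedSeries G (i + 1))) (by
            intro c hc
            rw [Subgroup.mem_subgroupOf] at hc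
            rw [MonoidHom.mem_ker]
            apply Subtype.ext
            simp only [MonoidHom.subgroupMap_apply_coe, QuotientGroup.mk'_apply, Subgroup.coe_one]
            exact (QuotientGroup.eq_one_iff _).mpr hc)
      refine isCyclic_of_surjective f ?_
      intro y
      obtain ⟨z, rfl⟩ := MonoidHom.subgroupMap_surjective
        (QuotientGroup.mk' (derivedSeries G (i + 2))) (derivedSeries G (i + 1)) y
      exact ⟨QuotientGroup.mk z, rfl⟩
    have hnorm : ((derivedSeries G (i + 1)).map (QuotientGroup.mk' (derivedSeries G (i + 2)))).Normal :=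
      Subgroup.Normal.map hBn _ (QuotientGroup.mk'_surjective _)
    have hX := commutator_le_centralizer_of_normal_cyclic
      ((derivedSeries G (i + 1)).map (QuotientGroup.mk' (derivedSeries G (i + 2))))
    have hπx : (QuotientGroup.mk' (derivedSeries G (i + 2))) x ∈ commutator (G ⧸ derivedSeries G (i + 2)) := by
      have := Subgroup.mem_map_of_mem (QuotientGroup.mk' (derivedSeries G (i + 2))) hx
      rw [commutator_def, Subgroup.map_commutator] at this
      rw [commutator_def]
      exact Subgroup.commutator_mono le_top le_top this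
    have hcomm := Subgroup.mem_centralizer_iff.mp (hX hπx)
      ((QuotientGroup.mk' (derivedSeries G (i + 2))) b) (Subgroup.mem_map_of_mem _ hb)
    rw [← QuotientGroup.eq_one_iff]
    simp only [QuotientGroup.mk'_apply] at hcomm
    simp only [QuotientGroup.mk_mul, QuotientGroup.mk_inv]
    rw [← hcomm]
    group
  -- `A / C` is commutative
  have hcommA : IsMulCommutative (↥(derivedSeries G i) ⧸ (derivedSeries G (i + 2)).subgroupOf (derivedSeries G i)) := by
    let f : (↥(derivedSeries G i) ⧸ (derivedSeries G (i + 2)).subgroupOf (derivedSeries G i)) →*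
        (↥(derivedSeries G i) ⧸ (derivedSeries G (i + 1)).subgroupOf (derivedSeries G i)) :=
      QuotientGroup.map _ _ (MonoidHom.id _) (by
        intro c hc
        rw [Subgroup.mem_subgroupOf] at hc
        simp only [Subgroup.mem_comap, MonoidHom.id_apply, Subgroup.mem_subgroupOf]
        exact hCB hc)
    refine f.isMulCommutative_of_isCyclic_of_ker_le_center ?_
    intro q hq
    obtain ⟨a, rfl⟩ := QuotientGroup.mk_surjective q
    rw [MonoidHom.mem_ker] at hq
    have ha : (a : G) ∈ derivedSeries G (i + 1) := by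
      have : f (QuotientGroup.mk a) = QuotientGroup.mk a := rfl
      rw [this, QuotientGroup.eq_one_iff, Subgroup.mem_subgroupOf] at hq
      exact hq
    rw [Subgroup.mem_center_iff]
    intro q'
    obtain ⟨a', rfl⟩ := QuotientGroup.mk_surjective q'
    rw [← QuotientGroup.mk_mul, ← QuotientGroup.mk_mul, QuotientGroup.eq, Subgroup.mem_subgroupOf]
    have h3 := claim1 (a' : G) (hAG' a'.2) (a : G) ha
    have h4 : (((a' * a)⁻¹ * (a * a') : ↥(derivedSeries G i)) : G) =
        ((a' : G) * a)⁻¹ * ((a' : G) * a * (a' : G)⁻¹ * (a : G)⁻¹)⁻¹ * ((a' : G) * a) := by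
      simp only [Subgroup.coe_mul, Subgroup.coe_inv]
      group
    rw [h4]
    exact hCn.conj_mem' _ (inv_mem h3) _
  rw [hBdef, Subgroup.commutator_le]
  intro a₁ ha₁ a₂ ha₂
  have h5 := mul_comm' (QuotientGroup.mk (s := (derivedSeries G (i + 2)).subgroupOf (derivedSeries G i)) ⟨a₁, ha₁⟩)
    (QuotientGroup.mk ⟨a₂, ha₂⟩)
  rw [← QuotientGroup.mk_mul, ← QuotientGroup.mk_mul, QuotientGroup.eq, Subgroup.mem_subgroupOf] at h5
  have h6 : a₁ * a₂ * a₁⁻¹ * a₂⁻¹ = (a₂ * a₁)⁻¹⁻¹ * ((((⟨a₁, ha₁⟩ * ⟨a₂, ha₂⟩ : ↥(derivedSeries G i))⁻¹ *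
      (⟨a₂, ha₂⟩ * ⟨a₁, ha₁⟩) : ↥(derivedSeries G i)) : G))⁻¹ * (a₂ * a₁)⁻¹ := by
    simp only [Subgroup.coe_mul, Subgroup.coe_inv]
    group
  rw [commutatorElement_def, h6]
  exact hCn.conj_mem' _ (inv_mem h5) _

end Cfsg.Agent.S0555
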