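import Cfsg.Statements.S0556
import Cfsg.Agent.S0034
import Cfsg.Agent.S0023
import Cfsg.Agent.S0079
import Cfsg.Agent.S3766
import Cfsg.Agent.Lib.Helper32.OddFix
import Cfsg.Agent.Lib.Helper01.Basic

set_option autoImplicit false
open Cfsg

namespace Cfsg.Agent.S0556

open scoped Pointwise

theorem commutator_self_eq_bot_of_comm {G : Type*} [Group G] (B : Subgroup G)
    (hB : ∀ x ∈ B, ∀ y ∈ B, x * y = y * x) : ⁅B, B⁆ = ⊥ := by
  rw [Subgroup.commutator_eq_bot_iff_le_centralizer]
  intro x hx
  rw [Subgroup.mem_centralizer_iff]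
  intro y hy
  exact hB y hy x hx

theorem nilpotent_of_comm {G : Type*} [Group G] (B : Subgroup G)
    (hB : ∀ x ∈ B, ∀ y ∈ B, x * y = y * x) : Group.IsNilpotent B :=
  (Subgroup.isNilpotent_iff_lowerCentralSeries B).2
    ⟨1, by rw [Subgroup.lowerCentralSeries_succ]; exact commutator_self_eq_bot_of_comm B hB⟩

theorem solvable_of_comm {G : Type*} [Group G] (B : Subgroup G)
    (hB : ∀ x ∈ B, ∀ y ∈ B, x * y = y * x) : Group.IsSolvable B :=
  Group.isSolvable_of_comm (fun a b => Subtype.ext (hB a a.2 b b.2))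

/-- If `N ⊔ B = ⊤` with `N` normal and `B` abelian then `G'' ≤ [N, N]`. -/
theorem derived_two_le {G : Type*} [Group G] (N B : Subgroup G) [N.Normal]
    (hB : ∀ x ∈ B, ∀ y ∈ B, x * y = y * x) (htop : N ⊔ B = ⊤) :
    derivedSeries G 2 ≤ ⁅N, N⁆ := by
  have h1 : derivedSeries G 1 ≤ N := by
    rw [derivedSeries_succ, derivedSeries_zero, ← htop]
    refine (Cfsg.Agent.S3766.commutator_sup_sup_le N B).trans ?_
    rw [commutator_self_eq_bot_of_comm B hB, sup_bot_eq]
  rw [derivedSeries_succ]
  exact Subgroup.commutator_mono h1 h1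

/-- A finite group with an abelian maximal subgroup that is a Frobenius complement is
metabelian. -/
theorem frobenius_case {Q : Type*} [Group Q] [Finite Q] (B : Subgroup Q)
    (hF : Cfsg.IsFrobeniusComplement B) (hB : ∀ x ∈ B, ∀ y ∈ B, x * y = y * x)
    (hco : IsCoatom B) : derivedSeries Q 2 = ⊥ := by
  have hmod := (Cfsg.Agent.S0034.result B hF).2
  have hcop : Nat.Coprime (Nat.card B) B.index := by
    rw [Nat.Coprime, Nat.gcd_rec, hmod, ← Nat.gcd_rec, Nat.gcd_one_right]
  -- normal complement
  have hfus : ∀ x ∈ B, ∀ y ∈ B, (∃ g : Q, g * x * g⁻¹ = y) → ∃ h ∈ B, h * x * h⁻¹ = y := by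
    intro x hx y hy ⟨g, hg⟩
    by_cases hgB : g ∈ B
    · exact ⟨g, hgB, hg⟩
    · have hti := hF.2.2 g hgB
      have hy' : y ∈ B ⊓ MulAut.conj g • B := by
        refine ⟨hy, ?_⟩
        rw [← hg]
        exact ⟨x, hx, rfl⟩
      rw [hti, Subgroup.mem_bot] at hy'
      subst hy'
      have hx1 : x = 1 := by
        have : g⁻¹ * (g * x * g⁻¹) * g = x := by group
        rw [← this, hg]; group
      exact ⟨1, B.one_mem, by rw [hx1]; group⟩
  obtain ⟨N, hNn, hNc⟩ := (Cfsg.Agent.S0079.result B (nilpotent_of_comm B hB) hcop).2 hfus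
  have hNB : N ⊓ B = ⊥ := hNc.disjoint.eq_bot
  have htop : N ⊔ B = ⊤ := hNc.sup_eq_top
  have hcardN : Nat.card N = B.index := hNc.index_eq_card.symm
  -- key: a `B`-invariant subgroup `X ≤ N`, `X ≠ ⊥`, is all of `N`
  have key : ∀ X : Subgroup Q, X ≤ N → X ≠ ⊥ → B ≤ Subgroup.normalizer (X : Set Q) → N ≤ X := by
    intro X hXN hXne hBX
    have hlt : B < X ⊔ B := by
      refine lt_of_le_of_ne le_sup_right ?_
      intro heq
      apply hXne
      have hXB : X ≤ B := by rw [heq]; exact le_sup_left
      exact le_bot_iff.1 (hNB ▸ le_inf hXN hXB)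
    have hXtop : X ⊔ B = ⊤ := hco.2 _ hlt
    intro n hn
    have hn' : n ∈ ((X ⊔ B : Subgroup Q) : Set Q) := by rw [hXtop]; trivial
    rw [Subgroup.coe_mul_of_right_le_normalizer_left X B hBX] at hn'
    obtain ⟨a, ha, b, hb, hab⟩ := hn'
    simp only at hab
    subst hab
    have hbN : b ∈ N := by
      have := N.mul_mem (N.inv_mem (hXN ha)) hn
      simpa using this
    have hb1 : b = 1 := by
      have : b ∈ N ⊓ B := ⟨hbN, hb⟩
      rwa [hNB, Subgroup.mem_bot] at this
    rw [hb1, mul_one]
    exact ha
  -- `N ≠ ⊥`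
  have hNne : N ≠ ⊥ := by
    intro h
    rw [h, bot_sup_eq] at htop
    exact hco.1 htop
  have hcard1 : Nat.card N ≠ 1 := fun h => hNne (Subgroup.card_eq_one.1 h)
  -- `N` is a `p`-group
  obtain ⟨p, hp, hpdvd⟩ := Nat.exists_prime_and_dvd hcard1
  haveI : Fact p.Prime := ⟨hp⟩
  have hcopBN : (Nat.card B).Coprime (Nat.card N) := by rw [hcardN]; exact hcop
  obtain ⟨P, hP⟩ := Cfsg.Agent.S0023.result B N
    (by rw [Subgroup.normalizer_eq_top_iff.2 hNn]; exact le_top) hcopBN
    (Or.inl (solvable_of_comm B hB)) p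
  have hPne : (P : Subgroup N) ≠ ⊥ := P.ne_bot_of_dvd_card hpdvd
  have hP'ne : (P : Subgroup N).map N.subtype ≠ ⊥ := by
    intro h
    exact hPne ((Subgroup.map_eq_bot_iff_of_injective _ N.subtype_injective).1 h)
  have hNP : N ≤ (P : Subgroup N).map N.subtype :=
    key _ (Subgroup.map_subtype_le _) hP'ne hP
  have hNp : IsPGroup p N := (P.isPGroup'.map N.subtype).to_le hNP
  -- `N` is abelian
  have hN' : ⁅N, N⁆ = ⊥ := by
    by_contra hne
    have hcn : (⁅N, N⁆ : Subgroup Q).Normal := inferInstance
    have h1 := key ⁅N, N⁆ (Subgroup.commutator_le_left N N) hne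
      (by rw [Subgroup.normalizer_eq_top_iff.2 hcn]; exact le_top)
    exact Cfsg.Agent.Lib.Helper32.commutator_self_ne_of_isPGroup p N hNp hNne
      (le_antisymm (Subgroup.commutator_le_left N N) h1)
  have h2 := derived_two_le N B hB htop
  rw [hN'] at h2
  exact le_bot_iff.1 h2

theorem conj_coatom' {G : Type*} [Group G] (M : Subgroup G) (hM : IsCoatom M) (g : G) :
    IsCoatom (MulAut.conj g • M) :=
  (OrderIso.isCoatom_iff (MulEquiv.mapSubgroup (MulAut.conj g)) M).2 hM

theorem mem_normalizer_iff_conj_smul' {G : Type*} [Group G] {g : G} {H : Subgroup G} :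
    g ∈ Subgroup.normalizer (H : Set G) ↔ MulAut.conj g • H = H := by
  rw [Subgroup.mem_normalizer_iff_map_conj_eq]
  rfl

theorem map_coatom {G : Type*} [Group G] (Z A : Subgroup G) [Z.Normal] (hZA : Z ≤ A)
    (hA : IsCoatom A) : IsCoatom (A.map (QuotientGroup.mk' Z)) := by
  have hsurj := QuotientGroup.mk'_surjective Z
  have hker : (QuotientGroup.mk' Z).ker ≤ A := by rw [QuotientGroup.ker_mk']; exact hZA
  have hcomap : (A.map (QuotientGroup.mk' Z)).comap (QuotientGroup.mk' Z) = A :=
    Subgroup.comap_map_eq_self hker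
  constructor
  · intro h
    apply hA.1
    rw [← hcomap, h, Subgroup.comap_top]
  · intro X hX
    have h1 : A < X.comap (QuotientGroup.mk' Z) := by
      refine lt_of_le_of_ne ?_ ?_
      · rw [← hcomap]; exact Subgroup.comap_mono hX.le
      · intro heq
        have h2 : X = A.map (QuotientGroup.mk' Z) := by
          rw [heq, Subgroup.map_comap_eq_self_of_surjective hsurj]
        exact hX.ne' h2
    have h3 := hA.2 _ h1
    rw [← Subgroup.map_comap_eq_self_of_surjective hsurj X, h3,
      Subgroup.map_top_of_surjective _ hsurj]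

/-- If a finite group has a maximal subgroup that is abelian, then the third term of its derived series is trivial (so the group is solvable of derived length at most three). -/
theorem result {G : Type*} [Group G] [Finite G] (A : Subgroup G) (hA : IsCoatom A) [IsMulCommutative A] : derivedSeries G 3 = ⊥ := by
  have hAc : ∀ x ∈ A, ∀ y ∈ A, x * y = y * x := by
    intro x hx y hy
    have := mul_comm' (⟨x, hx⟩ : A) ⟨y, hy⟩
    exact congrArg Subtype.val this
  by_cases hAn : A.Normal
  · obtain ⟨x, hx⟩ : ∃ x, x ∉ A := by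
      by_contra h
      push Not at h
      exact hA.1 (eq_top_iff.2 fun y _ => h y)
    have htop : A ⊔ Subgroup.zpowers x = ⊤ := by
      apply hA.2
      refine lt_of_le_of_ne le_sup_left (fun heq => hx ?_)
      rw [heq]
      exact (le_sup_right : Subgroup.zpowers x ≤ _) (Subgroup.mem_zpowers x)
    have hZ : ∀ a ∈ Subgroup.zpowers x, ∀ b ∈ Subgroup.zpowers x, a * b = b * a := by
      intro a ha b hb
      obtain ⟨i, rfl⟩ := Subgroup.mem_zpowers_iff.1 ha
      obtain ⟨j, rfl⟩ := Subgroup.mem_zpowers_iff.1 hb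
      exact zpow_mul_comm x i j
    have h2 := derived_two_le A (Subgroup.zpowers x) hZ htop
    rw [commutator_self_eq_bot_of_comm A hAc] at h2
    rw [derivedSeries_succ, le_bot_iff.1 h2]
    exact Subgroup.commutator_bot_left _
  · have hnorm : Subgroup.normalizer (A : Set G) = A := by
      have hne : Subgroup.normalizer (A : Set G) ≠ ⊤ :=
        fun h => hAn (Subgroup.normalizer_eq_top_iff.1 h)
      exact (hA.le_iff_eq hne).1 Subgroup.le_normalizer
    have hZA : Subgroup.center G ≤ A := by
      by_contra hnot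
      have hlt : A < A ⊔ Subgroup.center G :=
        lt_of_le_of_ne le_sup_left (fun heq => hnot (by rw [heq]; exact le_sup_right))
      have htop := hA.2 _ hlt
      have hle : A ⊔ Subgroup.center G ≤ Subgroup.normalizer (A : Set G) :=
        sup_le Subgroup.le_normalizer (Subgroup.center_le_normalizer _)
      rw [htop, hnorm] at hle
      exact hA.1 (top_le_iff.1 hle)
    have hTI : ∀ g : G, g ∉ A → A ⊓ MulAut.conj g • A ≤ Subgroup.center G := by
      intro g hg y hy
      have hyA : y ∈ A := hy.1
      have hyAg : y ∈ MulAut.conj g • A := hy.2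
      have hne : MulAut.conj g • A ≠ A := fun h => hg (by
        rw [← hnorm]; exact mem_normalizer_iff_conj_smul'.2 h)
      have hcoat := conj_coatom' A hA g
      have hnle : ¬ MulAut.conj g • A ≤ A := fun hle => hne ((hcoat.le_iff_eq hA.1).1 hle).symm
      have htop : A ⊔ MulAut.conj g • A = ⊤ := by
        apply hA.2
        refine lt_of_le_of_ne le_sup_left (fun heq => hnle ?_)
        have h0 : MulAut.conj g • A ≤ A ⊔ MulAut.conj g • A := le_sup_right
        rwa [← heq] at h0
      have hc : (⊤ : Subgroup G) ≤ Subgroup.centralizer {y} := by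
        rw [← htop]
        apply sup_le
        · intro a ha
          rw [Subgroup.mem_centralizer_iff]
          intro z hz
          rw [Set.mem_singleton_iff] at hz
          subst hz
          exact hAc _ hyA _ ha
        · intro a ha
          rw [Cfsg.Agent.S0034.mem_conj_smul_iff'] at ha hyAg
          rw [Subgroup.mem_centralizer_iff]
          intro z hz
          rw [Set.mem_singleton_iff] at hz
          subst hz
          have h := hAc _ hyAg _ ha
          have e1 : z * a = g * (g⁻¹ * z * g * (g⁻¹ * a * g)) * g⁻¹ := by group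
          have e2 : a * z = g * (g⁻¹ * a * g * (g⁻¹ * z * g)) * g⁻¹ := by group
          rw [e1, e2, h]
      rw [Subgroup.mem_center_iff]
      intro z
      have h1 := hc (Subgroup.mem_top z)
      rw [Subgroup.mem_centralizer_iff] at h1
      exact (h1 y rfl).symm
    -- the quotient by the centre
    have hcoB := map_coatom (Subgroup.center G) A hZA hA
    have hBc : ∀ x ∈ A.map (QuotientGroup.mk' (Subgroup.center G)),
        ∀ y ∈ A.map (QuotientGroup.mk' (Subgroup.center G)), x * y = y * x := by
      rintro _ ⟨a, ha, rfl⟩ _ ⟨b, hb, rfl⟩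
      rw [← map_mul, ← map_mul, hAc a ha b hb]
    have hF : Cfsg.IsFrobeniusComplement (A.map (QuotientGroup.mk' (Subgroup.center G))) := by
      refine ⟨?_, hcoB.1, ?_⟩
      · intro h
        rw [Subgroup.map_eq_bot_iff, QuotientGroup.ker_mk'] at h
        apply hAn
        have : A = Subgroup.center G := le_antisymm h hZA
        rw [this]
        infer_instance
      · intro q hq
        obtain ⟨g, rfl⟩ := QuotientGroup.mk'_surjective (Subgroup.center G) q
        have hg : g ∉ A := fun h => hq ⟨g, h, rfl⟩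
        rw [eq_bot_iff]
        rintro y ⟨hy1, hy2⟩
        rw [← Cfsg.Agent.Lib.Helper01.map_conj_smul] at hy2
        obtain ⟨a, ha, rfl⟩ := hy1
        obtain ⟨c, hc, hca⟩ := hy2
        have hz : a⁻¹ * c ∈ Subgroup.center G := by
          have := QuotientGroup.eq.1 hca.symm
          exact this
        have hcA : c ∈ A := by
          have := A.mul_mem ha (hZA hz)
          simpa using this
        have hcZ : c ∈ Subgroup.center G := hTI g hg ⟨hcA, hc⟩
        rw [Subgroup.mem_bot, ← hca]
        exact (QuotientGroup.eq_one_iff c).2 hcZ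
    have hQ := frobenius_case _ hF hBc hcoB
    have hmap := map_derivedSeries_eq (QuotientGroup.mk'_surjective (Subgroup.center G)) 2
    rw [hQ, Subgroup.map_eq_bot_iff, QuotientGroup.ker_mk'] at hmap
    rw [derivedSeries_succ]
    have h3 := Subgroup.commutator_mono hmap hmap
    rw [commutator_self_eq_bot_of_comm (Subgroup.center G)
      (fun x _ y hy => (Subgroup.mem_center_iff.1 hy x))] at h3
    exact le_bot_iff.1 h3

end Cfsg.Agent.S0556
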