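import Cfsg.Statements.S0567
import Mathlib

set_option autoImplicit false
open Cfsg

namespace Cfsg.Agent.S0567

open scoped commutatorElement

variable {G : Type*} [Group G]

lemma iter_mono (H K : Subgroup G) (hHK : H ≤ K) (m : ℕ) :
    (fun L : Subgroup G => ⁅L, H⁆)^[m] ⊤ ≤ (fun L : Subgroup G => ⁅L, K⁆)^[m] ⊤ := by
  induction m with
  | zero => simp
  | succ m ih =>
    rw [Function.iterate_succ_apply', Function.iterate_succ_apply']
    exact Subgroup.commutator_mono ih hHK

lemma iter_normalized (H : Subgroup G) (m : ℕ) :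
    H ≤ Subgroup.normalizer (((fun L : Subgroup G => ⁅L, H⁆)^[m] ⊤ : Subgroup G) : Set G) := by
  cases m with
  | zero =>
    simp only [Function.iterate_zero, id_eq]
    intro x _
    rw [Subgroup.mem_normalizer_iff]
    intro h; simp
  | succ m =>
    rw [Function.iterate_succ_apply']
    exact Subgroup.normalizer_commutator_ge_right _ _

lemma iter_succ_le (H : Subgroup G) (m : ℕ) :
    (fun L : Subgroup G => ⁅L, H⁆)^[m + 1] ⊤ ≤ (fun L : Subgroup G => ⁅L, H⁆)^[m] ⊤ := by
  rw [Function.iterate_succ_apply']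
  exact Subgroup.le_normalizer_iff_commutator_le_left.mp (iter_normalized H m)

lemma iter_sup_subnormal (H : Subgroup G) (m : ℕ) :
    ((fun L : Subgroup G => ⁅L, H⁆)^[m] ⊤ ⊔ H).IsSubnormal := by
  induction m with
  | zero => simp
  | succ m ih =>
    have hle : (fun L : Subgroup G => ⁅L, H⁆)^[m + 1] ⊤ ⊔ H ≤ (fun L : Subgroup G => ⁅L, H⁆)^[m] ⊤ ⊔ H :=
      sup_le_sup_right (iter_succ_le H m) H
    refine Subgroup.IsSubnormal.step _ _ hle ih ?_
    rw [Subgroup.normal_subgroupOf_iff_le_normalizer hle]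
    apply sup_le
    · -- K_m normalizes K_{m+1} ⊔ H
      set K := (fun L : Subgroup G => ⁅L, H⁆)^[m] ⊤ with hK
      have hK1 : (fun L : Subgroup G => ⁅L, H⁆)^[m + 1] ⊤ = ⁅K, H⁆ := by
        rw [Function.iterate_succ_apply']
      rw [hK1]
      rw [Subgroup.le_normalizer_iff]
      intro k hk x hx
      have h1 : ∀ y ∈ ⁅K, H⁆, k * y * k⁻¹ ∈ ⁅K, H⁆ ⊔ H := by
        intro y hy
        exact Subgroup.mem_sup_left
          ((Subgroup.le_normalizer_iff.mp (Subgroup.normalizer_commutator_ge_left K H)) k hk y hy)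
      have h2 : ∀ y ∈ H, k * y * k⁻¹ ∈ ⁅K, H⁆ ⊔ H := by
        intro y hy
        have : k * y * k⁻¹ = ⁅k, y⁆ * y := by
          rw [commutatorElement_def]; group
        rw [this]
        exact Subgroup.mul_mem_sup (Subgroup.commutator_mem_commutator hk hy) hy
      have h3 : (⁅K, H⁆ ⊔ H).map (MulAut.conj k).toMonoidHom ≤ ⁅K, H⁆ ⊔ H := by
        rw [Subgroup.map_sup]
        apply sup_le
        · rintro _ ⟨y, hy, rfl⟩
          exact h1 y hy
        · rintro _ ⟨y, hy, rfl⟩
          exact h2 y hy
      exact h3 ⟨x, hx, rfl⟩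
    · refine le_trans ?_ (Subgroup.normalizer_inf_normalizer_le_normalizer_sup _ _)
      exact le_inf (iter_normalized H (m + 1)) Subgroup.le_normalizer

/-- A subgroup H of a group G is subnormal exactly when, for some m, the subgroup obtained from G by taking the commutator with H m times in succession is contained in H. -/
theorem result {G : Type*} [Group G] (H : Subgroup G) : H.IsSubnormal ↔ ∃ m : ℕ, (fun K : Subgroup G => ⁅K, H⁆)^[m] ⊤ ≤ H := by
  constructor
  · intro h
    induction h with
    | top => exact ⟨0, le_rfl⟩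
    | step H K hle hK hN ih =>
      obtain ⟨m, hm⟩ := ih
      refine ⟨m + 1, ?_⟩
      rw [Function.iterate_succ_apply']
      have h1 : (fun L : Subgroup G => ⁅L, H⁆)^[m] ⊤ ≤ K := le_trans (iter_mono H K hle m) hm
      refine le_trans (Subgroup.commutator_mono h1 le_rfl) ?_
      rw [← Subgroup.le_normalizer_iff_commutator_le_right]
      exact (Subgroup.normal_subgroupOf_iff_le_normalizer hle).mp hN
  · rintro ⟨m, hm⟩
    have := iter_sup_subnormal H m
    rwa [sup_eq_right.mpr hm] at this

end Cfsg.Agent.S0567
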