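import Cfsg.Statements.S0576

set_option autoImplicit false
open Cfsg

namespace Cfsg.Agent.S0576

/-- Let H be a normal subgroup of a finite group G with H contained in the Frattini subgroup of G. Then the group of inner automorphisms of H is contained in the Frattini subgroup of the automorphism group of H. -/
theorem result {G : Type*} [Group G] [Finite G] (H : Subgroup G) [H.Normal] (hH : H ≤ frattini G) : (MulAut.conj : ↥H →* MulAut ↥H).range ≤ frattini (MulAut ↥H) := by
  classical
  unfold frattini Order.radical
  refine le_iInf₂ fun M hM => ?_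
  -- θ : G →* MulAut H
  let θ : G →* MulAut ↥H := MulAut.conjNormal
  -- the inner automorphism group is the image of H under θ
  have hθ : ∀ h : ↥H, θ (h : G) = MulAut.conj h := by
    intro h
    ext x
    simp [θ, MulAut.conjNormal_apply]
  by_contra hnot
  -- I ⊔ M = ⊤
  have hsup : (MulAut.conj : ↥H →* MulAut ↥H).range ⊔ M = ⊤ := by
    by_contra hne
    have hlt : M < (MulAut.conj : ↥H →* MulAut ↥H).range ⊔ M := by
      refine lt_of_le_of_ne le_sup_right ?_
      intro heq
      apply hnot
      rw [heq]
      exact le_sup_left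
    exact hne (hM.2 _ hlt)
  -- inner automorphisms are normal
  have hnormal : (MulAut.conj : ↥H →* MulAut ↥H).range.Normal := by
    constructor
    intro n hn g
    obtain ⟨h, rfl⟩ := hn
    refine ⟨g h, ?_⟩
    ext x
    simp
  let K : Subgroup G := M.comap θ
  have hK : K ⊔ frattini G = ⊤ := by
    rw [eq_top_iff]
    intro g _
    have hg : θ g ∈ (MulAut.conj : ↥H →* MulAut ↥H).range ⊔ M := by rw [hsup]; trivial
    rw [← SetLike.mem_coe, Subgroup.normal_mul] at hg
    obtain ⟨i, hi, m, hm, him⟩ := hg
    obtain ⟨h, rfl⟩ := hi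
    have hm' : (h : G)⁻¹ * g ∈ K := by
      show θ ((h : G)⁻¹ * g) ∈ M
      rw [map_mul, map_inv, hθ, ← him]
      simpa using hm
    have : g = ((h : G)⁻¹ * g) * (((h : G)⁻¹ * g)⁻¹ * (h : G) * ((h : G)⁻¹ * g)) := by group
    rw [this]
    refine Subgroup.mul_mem_sup hm' ?_
    apply hH
    have hn : H.Normal := inferInstance
    have := hn.conj_mem (h : G) h.2 (((h : G)⁻¹ * g)⁻¹)
    simpa using this
  have hKtop : K = ⊤ := frattini_nongenerating hK
  apply hnot
  rintro _ ⟨h, rfl⟩
  rw [← hθ]
  have : (h : G) ∈ K := by rw [hKtop]; trivial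
  exact this

end Cfsg.Agent.S0576
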