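import Cfsg.Statements.S0577
import Cfsg.Agent.S0575
import Cfsg.Agent.Lib.Helper14.MinNonNilp

set_option autoImplicit false
open Cfsg

namespace Cfsg.Agent.S0577

open Cfsg.Agent.Lib.Helper14
open scoped commutatorElement

/-- Let G be a finite minimal non-nilpotent group and Q a normal Sylow q-subgroup of G, and let D be the commutator subgroup of Q regarded in G (a normal subgroup). Then G modulo D is non-abelian and all its proper subgroups are abelian. -/
theorem result {G : Type*} [Group G] [Finite G] (hG : Cfsg.IsMinimalNonNilpotent G) (q : ℕ) [Fact q.Prime] (hq : q ∣ Nat.card G) (Q : Sylow q G) (hQ : (Q : Subgroup G).Normal) (D : Subgroup G) [D.Normal] (hD : D = (commutator ↥(Q : Subgroup G)).map (Q : Subgroup G).subtype) : ¬ IsMulCommutative (G ⧸ D) ∧ ∀ K : Subgroup (G ⧸ D), K ≠ ⊤ → IsMulCommutative K := by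
  classical
  obtain ⟨hnil, hsub⟩ := hG
  obtain ⟨H, hH, hHc, r, hrp, hrq, hrH⟩ := minNonNilp_structure hnil hsub hq Q hQ
  have hQn : (Q : Subgroup G).Normal := hQ
  have hfr : Fact r.Prime := ⟨hrp⟩
  have hqp : q.Prime := Fact.out
  have htop : (Q : Subgroup G) ⊔ H = ⊤ := hH.sup_eq_top
  have hDeq : D = ⁅(Q : Subgroup G), (Q : Subgroup G)⁆ := by
    rw [hD, _root_.commutator_def, Subgroup.map_commutator, ← MonoidHom.range_eq_map,
      Subgroup.range_subtype]
  -- G / Q is abelian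
  have hGQ : commutator G ≤ (Q : Subgroup G) := by
    rw [← Subgroup.Normal.quotient_commutative_iff_commutator_le]
    refine ⟨⟨fun x y => ?_⟩⟩
    obtain ⟨x, rfl⟩ := QuotientGroup.mk_surjective x
    obtain ⟨y, rfl⟩ := QuotientGroup.mk_surjective y
    have hx : x ∈ (Q : Subgroup G) ⊔ H := by rw [htop]; trivial
    have hy : y ∈ (Q : Subgroup G) ⊔ H := by rw [htop]; trivial
    rw [← SetLike.mem_coe, Subgroup.normal_mul] at hx hy
    obtain ⟨a, ha, h, hh, rfl⟩ := hx
    obtain ⟨a', ha', h', hh', rfl⟩ := hy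
    have e1 : ((a * h : G) : G ⧸ (Q : Subgroup G)) = ((h : G) : G ⧸ (Q : Subgroup G)) := by
      rw [QuotientGroup.mk_mul, (QuotientGroup.eq_one_iff a).mpr ha, one_mul]
    have e2 : ((a' * h' : G) : G ⧸ (Q : Subgroup G)) = ((h' : G) : G ⧸ (Q : Subgroup G)) := by
      rw [QuotientGroup.mk_mul, (QuotientGroup.eq_one_iff a').mpr ha', one_mul]
    show ((a * h : G) : G ⧸ (Q : Subgroup G)) * ((a' * h' : G) : G ⧸ (Q : Subgroup G)) =
      ((a' * h' : G) : G ⧸ (Q : Subgroup G)) * ((a * h : G) : G ⧸ (Q : Subgroup G))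
    rw [e1, e2, ← QuotientGroup.mk_mul, ← QuotientGroup.mk_mul]
    have : h * h' = h' * h := congrArg Subtype.val (mul_comm' (⟨h, hh⟩ : H) ⟨h', hh'⟩)
    rw [this]
  constructor
  · intro hcomm
    apply hnil
    have hle : commutator G ≤ D := Subgroup.Normal.quotient_commutative_iff_commutator_le.mp hcomm
    have hDΦ : D ≤ frattini G := by
      rw [hD]
      have h1 : commutator ↥(Q : Subgroup G) ≤ frattini ↥(Q : Subgroup G) :=
        commutator_le_frattini_of_nilpotent Q.2.isNilpotent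
      exact (Subgroup.map_mono h1).trans (Cfsg.Agent.S0575.result (Q : Subgroup G))
    have hco := (Group.isNilpotent_of_finite_tfae (G := G)).out 0 2
    rw [hco]
    intro M hM
    have hMc : commutator G ≤ M := hle.trans (hDΦ.trans (frattini_le_coatom hM))
    constructor
    intro m hm g
    have : g * m * g⁻¹ = ⁅g, m⁆ * m := by rw [commutatorElement_def]; group
    rw [this]
    refine M.mul_mem (hMc ?_) hm
    rw [_root_.commutator_def]
    exact Subgroup.commutator_mem_commutator (Subgroup.mem_top g) (Subgroup.mem_top m)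
  · intro K hK
    set π := QuotientGroup.mk' D with hπ
    have hπs : Function.Surjective π := QuotientGroup.mk'_surjective D
    set K' := K.comap π with hK'def
    have hK' : K' ≠ ⊤ := by
      intro h
      apply hK
      rw [eq_top_iff]
      intro x _
      obtain ⟨g, rfl⟩ := hπs x
      have : g ∈ K' := by rw [h]; trivial
      exact this
    have hK'nil : Group.IsNilpotent K' := hsub K' hK'
    -- commutators of K' lie in D
    have hclaim : ∀ k₁ ∈ K', ∀ k₂ ∈ K', ⁅k₁, k₂⁆ ∈ D := by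
      set N : Subgroup K' := (Q : Subgroup G).subgroupOf K' with hN
      have hNn : N.Normal := Subgroup.normal_subgroupOf
      have hNq : IsPGroup q N := Q.2.comap_subtype
      obtain ⟨a, ha⟩ := IsPGroup.iff_card.mp hNq
      obtain ⟨b, hb⟩ := IsPGroup.iff_card.mp hrH
      have hQidx : (Q : Subgroup G).index = r ^ b := by
        rw [← hb]; exact hH.symm.index_eq_card
      have hNidx : N.index ∣ r ^ b := by
        rw [← hQidx]
        exact Subgroup.relIndex_dvd_index_of_normal (Q : Subgroup G) K'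
      have hcop : (Nat.card N).Coprime N.index := by
        rw [ha]
        apply Nat.Coprime.coprime_dvd_right hNidx
        exact Nat.Coprime.pow a b ((Nat.coprime_primes hqp hrp).mpr (Ne.symm hrq))
      obtain ⟨HK, hHK⟩ := Subgroup.exists_right_complement'_of_coprime hcop
      have hHKcard : Nat.card HK ∣ r ^ b := by
        rw [← hHK.symm.index_eq_card]; exact hNidx
      obtain ⟨c, -, hc⟩ := (Nat.dvd_prime_pow hrp).mp hHKcard
      have hHKr : IsPGroup r HK := IsPGroup.of_card hc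
      set R₀ : Subgroup G := HK.map K'.subtype with hR₀
      have hR₀r : IsPGroup r R₀ := hHKr.map _
      have hR₀K : R₀ ≤ K' := Subgroup.map_subtype_le _
      set Q₀ : Subgroup G := K' ⊓ (Q : Subgroup G) with hQ₀
      have hQ₀q : IsPGroup q Q₀ := Q.2.to_le inf_le_right
      have hcent : R₀ ≤ Subgroup.centralizer (Q₀ : Set G) :=
        le_centralizer_of_nilpotent_of_pgroups (Ne.symm hrq) hK'nil inf_le_left hR₀K hQ₀q hR₀r
      have hR₀comm : ∀ u ∈ R₀, ∀ v ∈ R₀, u * v = v * u := by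
        intro u hu v hv
        have h1 : ⁅u, v⁆ ∈ (Q : Subgroup G) := by
          apply hGQ
          rw [_root_.commutator_def]
          exact Subgroup.commutator_mem_commutator (Subgroup.mem_top u) (Subgroup.mem_top v)
        have h2 : ⁅u, v⁆ ∈ R₀ := by
          rw [commutatorElement_def]
          exact R₀.mul_mem (R₀.mul_mem (R₀.mul_mem hu hv) (R₀.inv_mem hu)) (R₀.inv_mem hv)
        have hdisj : Disjoint (Q : Subgroup G) R₀ :=
          IsPGroup.disjoint_of_ne q r (Ne.symm hrq) _ _ Q.2 hR₀r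
        have h3 : ⁅u, v⁆ ∈ (Q : Subgroup G) ⊓ R₀ := ⟨h1, h2⟩
        rw [disjoint_iff.mp hdisj, Subgroup.mem_bot, commutatorElement_eq_one_iff_commute] at h3
        exact h3.eq
      -- decomposition of elements of K'
      have hdecomp : ∀ k ∈ K', ∃ a ∈ Q₀, ∃ u ∈ R₀, k = a * u := by
        intro k hk
        have hmem : (⟨k, hk⟩ : K') ∈ N ⊔ HK := by rw [hHK.sup_eq_top]; trivial
        rw [← SetLike.mem_coe, Subgroup.normal_mul] at hmem
        obtain ⟨a, ha, u, hu, hau⟩ := hmem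
        refine ⟨(a : G), ⟨a.2, ?_⟩, (u : G), ⟨u, hu, rfl⟩, ?_⟩
        · rw [hN] at ha
          exact Subgroup.mem_subgroupOf.mp ha
        · have := congrArg Subtype.val hau
          simpa using this.symm
      intro k₁ hk₁ k₂ hk₂
      obtain ⟨a₁, ha₁, u₁, hu₁, rfl⟩ := hdecomp k₁ hk₁
      obtain ⟨a₂, ha₂, u₂, hu₂, rfl⟩ := hdecomp k₂ hk₂
      have c12 : u₁ * a₂ = a₂ * u₁ := ((Subgroup.mem_centralizer_iff.mp (hcent hu₁)) a₂ ha₂).symm
      have c21 : u₂ * a₁ = a₁ * u₂ := ((Subgroup.mem_centralizer_iff.mp (hcent hu₂)) a₁ ha₁).symm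
      have cuu : u₁ * u₂ = u₂ * u₁ := hR₀comm u₁ hu₁ u₂ hu₂
      have e1 : (a₁ * u₁) * (a₂ * u₂) = (a₁ * a₂) * (u₁ * u₂) := by
        calc (a₁ * u₁) * (a₂ * u₂) = a₁ * (u₁ * a₂) * u₂ := by group
          _ = a₁ * (a₂ * u₁) * u₂ := by rw [c12]
          _ = (a₁ * a₂) * (u₁ * u₂) := by group
      have e2 : (a₂ * u₂) * (a₁ * u₁) = (a₂ * a₁) * (u₁ * u₂) := by
        calc (a₂ * u₂) * (a₁ * u₁) = a₂ * (u₂ * a₁) * u₁ := by group
          _ = a₂ * (a₁ * u₂) * u₁ := by rw [c21]
          _ = (a₂ * a₁) * (u₂ * u₁) := by group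
          _ = (a₂ * a₁) * (u₁ * u₂) := by rw [cuu]
      have e3 : ⁅a₁ * u₁, a₂ * u₂⁆ = ⁅a₁, a₂⁆ := by
        calc ⁅a₁ * u₁, a₂ * u₂⁆ = ((a₁ * u₁) * (a₂ * u₂)) * ((a₂ * u₂) * (a₁ * u₁))⁻¹ := by
              rw [commutatorElement_def]; group
          _ = ((a₁ * a₂) * (u₁ * u₂)) * ((a₂ * a₁) * (u₁ * u₂))⁻¹ := by rw [e1, e2]
          _ = ⁅a₁, a₂⁆ := by rw [commutatorElement_def]; group
      rw [e3, hDeq]
      exact Subgroup.commutator_mem_commutator ha₁.2 ha₂.2
    refine ⟨⟨fun x y => ?_⟩⟩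
    obtain ⟨g₁, hg₁⟩ := hπs x.1
    obtain ⟨g₂, hg₂⟩ := hπs y.1
    have hg₁K : g₁ ∈ K' := by
      show π g₁ ∈ K
      rw [hg₁]; exact x.2
    have hg₂K : g₂ ∈ K' := by
      show π g₂ ∈ K
      rw [hg₂]; exact y.2
    apply Subtype.ext
    show x.1 * y.1 = y.1 * x.1
    rw [← hg₁, ← hg₂, ← map_mul, ← map_mul]
    have hc := hclaim g₁ hg₁K g₂ hg₂K
    have : g₁ * g₂ = ⁅g₁, g₂⁆ * (g₂ * g₁) := by rw [commutatorElement_def]; group
    rw [this, map_mul]
    have h1 : π ⁅g₁, g₂⁆ = 1 := by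
      rw [hπ, QuotientGroup.mk'_apply, QuotientGroup.eq_one_iff]
      exact hc
    rw [h1, one_mul]

end Cfsg.Agent.S0577
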