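import Cfsg.Statements.S0578
import Mathlib.GroupTheory.Transfer
import Mathlib.GroupTheory.Nilpotent
import Mathlib.GroupTheory.Sylow

set_option autoImplicit false
open Cfsg

namespace Cfsg.Agent.S0578

open Subgroup
open scoped commutatorElement

/-- Under the hypothesis, every subgroup which is nilpotent (as a group) is abelian. -/
theorem abelian_of_nilpotent {G : Type*} [Group G] [Finite G]
    (h : ∀ A : Subgroup G, IsMulCommutative A → Subgroup.normalizer (A : Set G) = Subgroup.centralizer (A : Set G))
    (P : Subgroup G) (hP : Group.IsNilpotent P) : IsMulCommutative P := by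
  classical
  -- a maximal abelian subgroup of G inside P
  obtain ⟨A, hA⟩ := Set.Finite.exists_maximal
    (s := {A : Subgroup G | A ≤ P ∧ IsMulCommutative A}) (Set.toFinite _)
    ⟨⊥, bot_le, inferInstance⟩
  obtain ⟨⟨hAP, hAc⟩, hAmax⟩ := hA
  by_cases hAeq : A = P
  · rw [← hAeq]; exact hAc
  exfalso
  have hlt : A.subgroupOf P < ⊤ := by
    rw [lt_top_iff_ne_top, Ne, Subgroup.subgroupOf_eq_top]
    intro hPA
    exact hAeq (le_antisymm hAP hPA)
  have hnc : NormalizerCondition P := Group.normalizerCondition_of_isNilpotent
  have hlt2 := hnc _ hlt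
  rw [← subgroupOf_normalizer_eq hAP] at hlt2
  obtain ⟨g, hg1, hg2⟩ := SetLike.exists_of_lt hlt2
  rw [Subgroup.mem_subgroupOf] at hg1 hg2
  rw [h A hAc] at hg1
  -- A ⊔ zpowers g is abelian, inside P, and bigger than A
  set B := Subgroup.closure ((A : Set G) ∪ {(g : G)}) with hB
  have hAB : A ≤ B := by
    intro a ha
    exact Subgroup.subset_closure (Or.inl ha)
  have hgB : (g : G) ∈ B := Subgroup.subset_closure (Or.inr rfl)
  have hBP : B ≤ P := by
    rw [hB, Subgroup.closure_le]
    rintro x (hx | hx)
    · exact hAP hx
    · rw [Set.mem_singleton_iff] at hx; rw [hx]; exact g.2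
  have hBc : IsMulCommutative B := by
    apply Subgroup.isMulCommutative_closure
    rintro x (hx | hx) y (hy | hy)
    · have := mul_comm' (⟨x, hx⟩ : A) ⟨y, hy⟩
      exact congrArg Subtype.val this
    · rw [Set.mem_singleton_iff] at hy; rw [hy]
      exact (Subgroup.mem_centralizer_iff.mp hg1 x hx)
    · rw [Set.mem_singleton_iff] at hx; rw [hx]
      exact (Subgroup.mem_centralizer_iff.mp hg1 y hy).symm
    · rw [Set.mem_singleton_iff] at hx hy; rw [hx, hy]
  have := hAmax ⟨hBP, hBc⟩ hAB
  exact hg2 (this hgB)

/-- If in a finite group the normalizer of each abelian subgroup coincides with its centralizer, then the group is abelian. -/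
theorem result {G : Type*} [Group G] [Finite G] (h : ∀ A : Subgroup G, IsMulCommutative A → Subgroup.normalizer (A : Set G) = Subgroup.centralizer (A : Set G)) : IsMulCommutative G := by
  classical
  -- the commutator subgroup has order not divisible by any prime
  have hprime : ∀ p : ℕ, p.Prime → ¬ p ∣ Nat.card (commutator G) := by
    intro p hp hdvd
    have : Fact p.Prime := ⟨hp⟩
    obtain ⟨P⟩ : Nonempty (Sylow p G) := inferInstance
    have hPc : IsMulCommutative (P : Subgroup G) :=
      abelian_of_nilpotent h P P.2.isNilpotent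
    have hP : normalizer ((P : Subgroup G) : Set G) ≤ centralizer ((P : Subgroup G) : Set G) := (h P hPc).le
    have hker : commutator G ≤ (MonoidHom.transferSylow P hP).ker := by
      rw [_root_.commutator_def, Subgroup.commutator_le]
      intro a _ b _
      rw [MonoidHom.mem_ker, map_commutatorElement, commutatorElement_eq_one_iff_commute]
      exact mul_comm' _ _
    have h1 := MonoidHom.not_dvd_card_ker_transferSylow P hP
    exact h1 (hdvd.trans (Subgroup.card_dvd_of_le hker))
  have hcard : Nat.card (commutator G) = 1 := Nat.eq_one_iff_not_exists_prime_dvd.mpr hprime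
  have hbot : commutator G = ⊥ := Subgroup.card_eq_one.mp hcard
  refine ⟨⟨fun (a b : G) => ?_⟩⟩
  have : ⁅a, b⁆ ∈ commutator G := by
    rw [_root_.commutator_def]
    exact Subgroup.commutator_mem_commutator (Subgroup.mem_top a) (Subgroup.mem_top b)
  rw [hbot, Subgroup.mem_bot, commutatorElement_eq_one_iff_commute] at this
  exact this

end Cfsg.Agent.S0578
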