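import Cfsg.Statements.S0579
import Cfsg.Agent.Lib.Helper14.Huppert
import Cfsg.Agent.Lib.Helper12.Supersolvable

set_option autoImplicit false
open Cfsg

namespace Cfsg.Agent.S0579

open Cfsg.Agent.Lib.Helper14 Cfsg.Agent.Lib.Helper12

theorem huppert_aux (n : ℕ) :
    ∀ (G : Type*) [Group G] [Finite G], Nat.card G = n →
      (∀ M : Subgroup G, IsCoatom M → M.index.Prime) → Cfsg.IsSupersolvable G := by
  induction n using Nat.strong_induction_on with
  | _ n ih =>
    intro G _ _ hn h
    rcases subsingleton_or_nontrivial G with hs | hnt
    · exact isSupersolvable_of_subsingleton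
    · obtain ⟨Z, hZn, hZp⟩ := exists_normal_prime_card_of_coatoms_prime_index h
      have : Fact (Nat.card Z).Prime := ⟨hZp⟩
      have hcyc : IsCyclic Z := isCyclic_of_prime_card rfl
      have hquot : Nat.card (G ⧸ Z) < n := by
        have := Subgroup.card_eq_card_quotient_mul_card_subgroup Z
        rw [← hn, this]
        have hpos : 0 < Nat.card (G ⧸ Z) := Nat.card_pos
        have := hZp.one_lt
        nlinarith
      have hq : Cfsg.IsSupersolvable (G ⧸ Z) := by
        refine ih _ hquot (G ⧸ Z) rfl ?_
        intro M hM
        have hco := Subgroup.isCoatom_comap_of_surjective (QuotientGroup.mk'_surjective Z) hM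
        have := h _ hco
        rwa [Subgroup.index_comap_of_surjective _ (QuotientGroup.mk'_surjective Z)] at this
      exact isSupersolvable_of_cyclic_normal Z hq

/-- Huppert's supersolvability criterion: if every maximal subgroup of a finite group has prime index, then the group is supersolvable. -/
theorem result {G : Type*} [Group G] [Finite G] (h : ∀ M : Subgroup G, IsCoatom M → M.index.Prime) : Cfsg.IsSupersolvable G := by
  exact huppert_aux _ G rfl h

end Cfsg.Agent.S0579
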