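import Cfsg.Statements.S0581
import Cfsg.Agent.Lib.Helper41.Frobenius
import Cfsg.Agent.Lib.Helper14.NilpHall
import Cfsg.Agent.Lib.Helper14.PAction

set_option autoImplicit false
open Pointwise
open Cfsg

namespace Cfsg.Agent.S0581

open Cfsg.Agent.Lib.Helper14

section aux

variable {G : Type*} [Group G] [Finite G]

/-- The image in `G` of a Sylow `p`-subgroup of a Hall subgroup `H` has index prime to `p`. -/
theorem not_dvd_index_map_sylow (H : Subgroup G) (hHall : (Nat.card H).Coprime H.index)
    {p : ℕ} [Fact p.Prime] (hpH : p ∣ Nat.card H) (P : Sylow p H) :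
    ¬ p ∣ ((P : Subgroup H).map H.subtype).index := by
  rw [Subgroup.index_map_subtype]
  intro h
  rcases (Nat.Prime.dvd_mul Fact.out).mp h with h | h
  · exact P.not_dvd_index h
  · have := Nat.Coprime.eq_one_of_dvd (hHall.coprime_dvd_left hpH) h
    exact (Fact.out : p.Prime).one_lt.ne' this

/-- Key lemma: in a group with a nilpotent Hall subgroup `H`, an element normalizing a
`p`-subgroup `R` all of whose order's prime divisors are primes `≠ p` dividing `|H|`
centralizes `R`. -/
theorem mem_centralizer_of_nilpotent_hall (H : Subgroup G) (hH : Group.IsNilpotent H)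
    (hHall : (Nat.card H).Coprime H.index) {p : ℕ} [Fact p.Prime] (hpH : p ∣ Nat.card H)
    (R : Subgroup G) (hR : IsPGroup p R) (g : G) (hg : g ∈ Subgroup.normalizer (R : Set G))
    (hgo : ∀ q : ℕ, q.Prime → q ∣ orderOf g → q ≠ p ∧ q ∣ Nat.card H) :
    g ∈ Subgroup.centralizer (R : Set G) := by
  set N := Subgroup.normalizer (R : Set G) with hN
  set C := Subgroup.centralizer (R : Set G) with hC
  have hCN : C ≤ N := Subgroup.centralizer_le_normalizer _
  have hCnorm : (C.subgroupOf N).Normal := by
    rw [Subgroup.normal_subgroupOf_iff_le_normalizer hCN]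
    apply le_normalizer_of_forall_conj_mem
    intro k hk n hn
    exact conj_mem_centralizer_of_mem_normalizer hk hn
  have hcop : (orderOf g).Coprime (C.relIndex N) := by
    apply Nat.coprime_of_dvd
    intro q hq hq1 hq2
    obtain ⟨hqp, hqH⟩ := hgo q hq hq1
    have : Fact q.Prime := ⟨hq⟩
    obtain ⟨PH⟩ : Nonempty (Sylow p H) := inferInstance
    obtain ⟨QH⟩ : Nonempty (Sylow q H) := inferInstance
    set P : Subgroup G := (PH : Subgroup H).map H.subtype with hPdef
    set Q : Subgroup G := (QH : Subgroup H).map H.subtype with hQdef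
    have hPp : IsPGroup p P := PH.2.map _
    have hPidx : ¬ p ∣ P.index := not_dvd_index_map_sylow H hHall hpH PH
    have hQidx : ¬ q ∣ Q.index := not_dvd_index_map_sylow H hHall hqH QH
    obtain ⟨x, -, hx⟩ := exists_conj_le_of_not_dvd_relIndex (L := ⊤) (P := P) (R := R) le_top hPp hR
      (by rwa [Subgroup.relIndex_top_right])
    -- the conjugate of Q centralizes R
    have hQC : MulAut.conj x • Q ≤ C := by
      intro y hy
      rw [Subgroup.mem_pointwise_smul_iff_inv_smul_mem] at hy
      rw [hC, Subgroup.mem_centralizer_iff]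
      intro r hr
      have hr' := hx hr
      rw [Subgroup.mem_pointwise_smul_iff_inv_smul_mem] at hr'
      obtain ⟨y0, hy0, hy0e⟩ := hy
      obtain ⟨r0, hr0, hr0e⟩ := hr'
      have hoy : ∃ k, orderOf (y0 : G) = q ^ k := by
        obtain ⟨k, hk⟩ := (IsPGroup.iff_orderOf.mp QH.2) ⟨y0, hy0⟩
        exact ⟨k, by rw [← hk, Subgroup.orderOf_mk, Subgroup.orderOf_coe]⟩
      have hor : ∃ k, orderOf (r0 : G) = p ^ k := by
        obtain ⟨k, hk⟩ := (IsPGroup.iff_orderOf.mp PH.2) ⟨r0, hr0⟩
        exact ⟨k, by rw [← hk, Subgroup.orderOf_mk, Subgroup.orderOf_coe]⟩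
      obtain ⟨k1, hk1⟩ := hoy
      obtain ⟨k2, hk2⟩ := hor
      have hcomm : (r0 : G) * (y0 : G) = (y0 : G) * (r0 : G) := by
        apply commute_of_mem_nilpotent hH r0.2 y0.2
        rw [hk1, hk2]
        exact Nat.Coprime.pow _ _ ((Nat.coprime_primes Fact.out hq).mpr (Ne.symm hqp))
      have e1 : (H.subtype y0 : G) = (y0 : G) := rfl
      have e2 : (H.subtype r0 : G) = (r0 : G) := rfl
      rw [e1] at hy0e
      rw [e2] at hr0e
      rw [MulAut.smul_def, MulAut.conj_inv_apply] at hy0e hr0e
      have ey : y = x * (y0 : G) * x⁻¹ := by rw [hy0e]; group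
      have er : r = x * (r0 : G) * x⁻¹ := by rw [hr0e]; group
      rw [ey, er]
      calc x * ↑r0 * x⁻¹ * (x * ↑y0 * x⁻¹) = x * ((r0 : G) * (y0 : G)) * x⁻¹ := by group
        _ = x * ((y0 : G) * (r0 : G)) * x⁻¹ := by rw [hcomm]
        _ = x * ↑y0 * x⁻¹ * (x * ↑r0 * x⁻¹) := by group
    have hQ1idx : ¬ q ∣ (MulAut.conj x • Q).index := by
      rw [index_conj_smul]
      exact hQidx
    apply hQ1idx
    have h1 : C.relIndex N ∣ (MulAut.conj x • Q).relIndex N := Subgroup.relIndex_dvd_of_le_left N hQC
    have h2 : (MulAut.conj x • Q).relIndex N ∣ (MulAut.conj x • Q).index :=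
      Subgroup.relIndex_dvd_index_of_le (hQC.trans hCN)
    exact hq2.trans (h1.trans h2)
  have hpow : g ^ C.relIndex N ∈ C := by
    have := Subgroup.pow_index_mem (C.subgroupOf N) ⟨g, hg⟩
    exact this
  exact mem_of_pow_mem_of_coprime hcop hpow

/-- Frobenius' condition holds in every subgroup whose primes divide `|H|`. -/
theorem frobCond_of_nilpotent_hall (H K : Subgroup G) (hH : Group.IsNilpotent H)
    (hHall : (Nat.card H).Coprime H.index)
    (hK : ∀ p : ℕ, p.Prime → p ∣ Nat.card K → p ∣ Nat.card H) (p : ℕ) [Fact p.Prime] :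
    Cfsg.Agent.Lib.Helper41.FrobCond p K := by
  intro Q' hQ' g' hg' hcop
  by_cases hpH : p ∣ Nat.card H
  · set R : Subgroup G := Q'.map K.subtype with hRdef
    have hR : IsPGroup p R := hQ'.map _
    have hgN : (g' : G) ∈ Subgroup.normalizer (R : Set G) := by
      have : (Subgroup.zpowers g').map K.subtype ≤ Subgroup.normalizer (R : Set G) := by
        apply le_normalizer_of_forall_conj_mem
        rintro _ ⟨k, hk, rfl⟩ _ ⟨n, hn, rfl⟩
        have hkN : k ∈ Subgroup.normalizer ((Q' : Subgroup K) : Set K) :=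
          (Subgroup.zpowers_le.mpr hg') hk
        have := (Subgroup.mem_normalizer_iff.mp hkN n).mp hn
        exact ⟨k * n * k⁻¹, this, by simp⟩
      exact this ⟨g', Subgroup.mem_zpowers g', rfl⟩
    have hgo : ∀ q : ℕ, q.Prime → q ∣ orderOf (g' : G) → q ≠ p ∧ q ∣ Nat.card H := by
      intro q hq hqd
      rw [Subgroup.orderOf_coe] at hqd
      refine ⟨?_, hK q hq (hqd.trans (orderOf_dvd_natCard g'))⟩
      rintro rfl
      have := Nat.Coprime.eq_one_of_dvd hcop.symm hqd
      exact hq.one_lt.ne' this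
    have hc := mem_centralizer_of_nilpotent_hall H hH hHall hpH R hR (g' : G) hgN hgo
    rw [Subgroup.mem_centralizer_iff] at hc ⊢
    intro h hh
    have := hc (h : G) ⟨h, hh, rfl⟩
    exact Subtype.ext this
  · have hpK : ¬ p ∣ Nat.card K := fun h => hpH (hK p Fact.out h)
    have hQbot : Q' = ⊥ := by
      obtain ⟨n, hn⟩ := IsPGroup.iff_card.mp hQ'
      rcases Nat.eq_zero_or_pos n with rfl | hpos
      · rw [pow_zero] at hn
        exact Subgroup.card_eq_one.mp hn
      · exfalso
        apply hpK
        have h1 : p ∣ Nat.card Q' := by rw [hn]; exact dvd_pow_self p hpos.ne'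
        exact h1.trans (Subgroup.card_subgroup_dvd_card Q')
    rw [hQbot, Subgroup.mem_centralizer_iff]
    intro h hh
    have : h = 1 := Subgroup.mem_bot.mp hh
    rw [this, one_mul, mul_one]

theorem wielandt_aux :
    ∀ n : ℕ, ∀ (H K : Subgroup G), Group.IsNilpotent H → (Nat.card H).Coprime H.index →
      (∀ p : ℕ, p.Prime → p ∣ Nat.card K → p ∣ Nat.card H) → Nat.card K = n →
      ∃ x : G, K ≤ MulAut.conj x • H := by
  intro n
  induction n using Nat.strong_induction_on with
  | _ n ih =>
    intro H K hH hHall hK hn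
    by_cases hK1 : Nat.card K = 1
    · exact ⟨1, by rw [Subgroup.card_eq_one.mp hK1]; exact bot_le⟩
    obtain ⟨p, hp, hpK⟩ := Nat.exists_prime_and_dvd hK1
    have : Fact p.Prime := ⟨hp⟩
    have hfrob := frobCond_of_nilpotent_hall H K hH hHall hK p
    obtain ⟨P', N', hN'n, hcompl⟩ :=
      Cfsg.Agent.Lib.Helper41.hasNormalPComplement_of_frobCond hfrob
    set N : Subgroup G := N'.map K.subtype with hNdef
    set P : Subgroup G := (P' : Subgroup K).map K.subtype with hPdef
    have hNK : N ≤ K := Subgroup.map_subtype_le _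
    have hPK : P ≤ K := Subgroup.map_subtype_le _
    have hcardN : Nat.card N = Nat.card N' :=
      (Nat.card_congr (Subgroup.equivMapOfInjective N' K.subtype K.subtype_injective).toEquiv).symm
    have hmul : Nat.card N' * Nat.card (P' : Subgroup K) = Nat.card K := hcompl.card_mul_card
    have hP'1 : 1 < Nat.card (P' : Subgroup K) :=
      (Subgroup.one_lt_card_iff_ne_bot (H := (P' : Subgroup K))).mpr (P'.ne_bot_of_dvd_card hpK)
    have hNlt : Nat.card N < n := by
      rw [hcardN, ← hn, ← hmul]
      have : 0 < Nat.card N' := Nat.card_pos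
      nlinarith
    have hNdvd : Nat.card N ∣ Nat.card K := by
      rw [hcardN, ← hmul]; exact dvd_mul_right _ _
    have hNprimes : ∀ q : ℕ, q.Prime → q ∣ Nat.card N → q ∣ Nat.card H :=
      fun q hq h => hK q hq (h.trans hNdvd)
    obtain ⟨x, hx⟩ := ih (Nat.card N) hNlt H N hH hHall hNprimes rfl
    set H₁ : Subgroup G := MulAut.conj x • H with hH₁def
    have hH₁ : Group.IsNilpotent H₁ :=
      Group.nilpotent_of_mulEquiv (Subgroup.equivSMul (MulAut.conj x) H)
    have hHall₁ : (Nat.card H₁).Coprime H₁.index := by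
      rw [hH₁def, card_conj_smul, index_conj_smul]; exact hHall
    have hpH₁ : p ∣ Nat.card H₁ := by
      rw [hH₁def, card_conj_smul]; exact hK p hp hpK
    obtain ⟨PH⟩ : Nonempty (Sylow p H₁) := inferInstance
    set P₁ : Subgroup G := (PH : Subgroup H₁).map H₁.subtype with hP₁def
    have hP₁idx : ¬ p ∣ P₁.index := not_dvd_index_map_sylow H₁ hHall₁ hpH₁ PH
    have hP₁H₁ : P₁ ≤ H₁ := Subgroup.map_subtype_le _
    have hNcop : (Nat.card N).Coprime p := by
      rw [hcardN, ← hcompl.index_eq_card]
      exact ((Nat.Prime.coprime_iff_not_dvd hp).mpr P'.not_dvd_index).symm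
    have hP₁C : P₁ ≤ Subgroup.centralizer (N : Set G) := by
      rintro _ ⟨y0, hy0, rfl⟩
      rw [Subgroup.mem_centralizer_iff]
      intro m hm
      obtain ⟨k, hk⟩ := (IsPGroup.iff_orderOf.mp PH.2) ⟨y0, hy0⟩
      have hk' : orderOf (y0 : G) = p ^ k := by
        rw [← hk, Subgroup.orderOf_mk, Subgroup.orderOf_coe]
      apply commute_of_mem_nilpotent hH₁ (hx hm) y0.2
      rw [hk']
      apply Nat.Coprime.pow_right
      have h1 : orderOf m ∣ Nat.card N := by
        have := orderOf_dvd_natCard (⟨m, hm⟩ : N)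
        rwa [Subgroup.orderOf_mk] at this
      exact Nat.Coprime.coprime_dvd_left h1 hNcop
    set L : Subgroup G := Subgroup.normalizer (N : Set G) with hLdef
    have hKL : K ≤ L := by
      apply le_normalizer_of_forall_conj_mem
      rintro k hk _ ⟨n', hn', rfl⟩
      exact ⟨⟨k, hk⟩ * n' * ⟨k, hk⟩⁻¹, hN'n.conj_mem n' hn' ⟨k, hk⟩, by simp⟩
    have hP₁L : P₁ ≤ L := hP₁C.trans (Subgroup.centralizer_le_normalizer _)
    obtain ⟨c, hcL, hc⟩ := exists_conj_le_of_not_dvd_relIndex (L := L) (P := P₁) (R := P)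
      (hPK.trans hKL) (PH.2.map _) (P'.2.map _)
      (fun h => hP₁idx (h.trans (Subgroup.relIndex_dvd_index_of_le hP₁L)))
    have hKsup : K = N ⊔ P := by
      have := congrArg (Subgroup.map K.subtype) hcompl.sup_eq_top
      rw [Subgroup.map_sup, ← MonoidHom.range_eq_map, Subgroup.range_subtype] at this
      exact this.symm
    refine ⟨c * x, ?_⟩
    rw [map_mul, mul_smul, ← hH₁def, hKsup]
    apply sup_le
    · intro m hm
      rw [Subgroup.mem_pointwise_smul_iff_inv_smul_mem, MulAut.smul_def, MulAut.conj_inv_apply]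
      have := (Subgroup.mem_normalizer_iff.mp (inv_mem hcL) m).mp hm
      rw [inv_inv] at this
      exact hx this
    · refine hc.trans ?_
      intro m hm
      rw [Subgroup.mem_pointwise_smul_iff_inv_smul_mem] at hm ⊢
      exact hP₁H₁ hm

end aux

/-- Let H be a nilpotent subgroup of a finite group G whose order is coprime to its index, and K a subgroup every prime divisor of whose order divides the order of H. Then K lies in some conjugate of H. -/
theorem result {G : Type*} [Group G] [Finite G] (H K : Subgroup G) (hH : Group.IsNilpotent H) (hHall : (Nat.card H).Coprime H.index) (hK : ∀ p : ℕ, p.Prime → p ∣ Nat.card K → p ∣ Nat.card H) : ∃ x : G, K ≤ MulAut.conj x • H := by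
  exact wielandt_aux (Nat.card K) H K hH hHall hK rfl

end Cfsg.Agent.S0581
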