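import Cfsg.Statements.S0582
import Cfsg.Agent.Lib.Helper12.SupersolvablePrime
import Cfsg.Agent.Lib.Helper14.MaxPrimeIndex
import Cfsg.Agent.Lib.Helper14.NilpHall

set_option autoImplicit false
open Pointwise
open Cfsg

namespace Cfsg.Agent.S0582

open Cfsg.Agent.Lib.Helper14 Cfsg.Agent.Lib.Helper12

section aux

theorem exists_max_prime_dvd' (n : ℕ) (hn0 : n ≠ 0) (hn1 : n ≠ 1) :
    ∃ p : ℕ, p.Prime ∧ p ∣ n ∧ ∀ q : ℕ, q.Prime → q ∣ n → q ≤ p := by
  have hne : n.primeFactors.Nonempty := by
    obtain ⟨q, hq, hqn⟩ := Nat.exists_prime_and_dvd hn1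
    exact ⟨q, Nat.mem_primeFactors.mpr ⟨hq, hqn, hn0⟩⟩
  obtain ⟨p, hp, hmax⟩ := Finset.exists_max_image n.primeFactors id hne
  refine ⟨p, (Nat.mem_primeFactors.mp hp).1, (Nat.mem_primeFactors.mp hp).2.1, fun q hq hqn => ?_⟩
  exact hmax q (Nat.mem_primeFactors.mpr ⟨hq, hqn, hn0⟩)

variable {G : Type*} [Group G] [Finite G]

/-- Structure of a supersolvable subgroup at its largest prime. -/
theorem sylow_data (H : Subgroup G) (hS : Cfsg.IsSupersolvable H) (p : ℕ) [Fact p.Prime]
    (hmax : ∀ q : ℕ, q.Prime → q ∣ Nat.card H → q ≤ p) :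
    ∃ P H₁ : Subgroup G, P ≤ H ∧ H₁ ≤ H ∧ IsPGroup p P ∧ H ≤ Subgroup.normalizer (P : Set G) ∧
      P ⊔ H₁ = H ∧ Nat.card P = p ^ (Nat.card H).factorization p ∧
      Nat.card P * Nat.card H₁ = Nat.card H ∧ (Nat.card H₁).Coprime p ∧
      Cfsg.IsSupersolvable H₁ := by
  obtain ⟨PH⟩ : Nonempty (Sylow p H) := inferInstance
  have hPHn : (PH : Subgroup H).Normal :=
    sylow_normal_of_coatoms_prime_index (fun M hM => index_prime_of_isCoatom hS M hM) hmax PH
  have hcop : (Nat.card (PH : Subgroup H)).Coprime (PH : Subgroup H).index := by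
    obtain ⟨k, hk⟩ := IsPGroup.iff_card.mp PH.2
    rw [hk]
    exact Nat.Coprime.pow_left _ ((Nat.Prime.coprime_iff_not_dvd Fact.out).mpr PH.not_dvd_index)
  obtain ⟨CH, hCH⟩ := Subgroup.exists_right_complement'_of_coprime hcop
  refine ⟨(PH : Subgroup H).map H.subtype, CH.map H.subtype, Subgroup.map_subtype_le _,
    Subgroup.map_subtype_le _, PH.2.map _, ?_, ?_, ?_, ?_, ?_, ?_⟩
  · apply le_normalizer_of_forall_conj_mem
    rintro h hh _ ⟨x, hx, rfl⟩
    exact ⟨⟨h, hh⟩ * x * ⟨h, hh⟩⁻¹, hPHn.conj_mem x hx ⟨h, hh⟩, by simp⟩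
  · have := congrArg (Subgroup.map H.subtype) hCH.sup_eq_top
    rw [Subgroup.map_sup, ← MonoidHom.range_eq_map, Subgroup.range_subtype] at this
    exact this
  · rw [← PH.card_eq_multiplicity]
    exact (Nat.card_congr (Subgroup.equivMapOfInjective _ H.subtype H.subtype_injective).toEquiv).symm
  · have h1 : Nat.card ((PH : Subgroup H).map H.subtype) = Nat.card (PH : Subgroup H) :=
      (Nat.card_congr (Subgroup.equivMapOfInjective _ H.subtype H.subtype_injective).toEquiv).symm
    have h2 : Nat.card (CH.map H.subtype) = Nat.card CH :=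
      (Nat.card_congr (Subgroup.equivMapOfInjective _ H.subtype H.subtype_injective).toEquiv).symm
    rw [h1, h2]
    exact hCH.card_mul_card
  · have h2 : Nat.card (CH.map H.subtype) = Nat.card CH :=
      (Nat.card_congr (Subgroup.equivMapOfInjective _ H.subtype H.subtype_injective).toEquiv).symm
    rw [h2, ← hCH.symm.index_eq_card]
    exact ((Nat.Prime.coprime_iff_not_dvd Fact.out).mpr PH.not_dvd_index).symm
  · exact isSupersolvable_of_mulEquiv
      (Subgroup.equivMapOfInjective CH H.subtype H.subtype_injective)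
      (isSupersolvable_subgroup CH hS)

theorem conj_aux : ∀ n : ℕ, ∀ (L H K : Subgroup G), H ≤ L → K ≤ L →
    Cfsg.IsSupersolvable H → Cfsg.IsSupersolvable K → Nat.card H = Nat.card K →
    (Nat.card H).Coprime (H.relIndex L) → Nat.card H = n →
    ∃ x ∈ L, MulAut.conj x • H = K := by
  intro n
  induction n using Nat.strong_induction_on with
  | _ n ih =>
    intro L H K hHL hKL hSH hSK hcard hHall hn
    by_cases h1 : Nat.card H = 1
    · refine ⟨1, one_mem _, ?_⟩
      have hHb : H = ⊥ := Subgroup.card_eq_one.mp h1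
      have hKb : K = ⊥ := Subgroup.card_eq_one.mp (hcard ▸ h1)
      rw [hHb, hKb, Subgroup.smul_bot]
    obtain ⟨p, hp, hpH, hmax⟩ := exists_max_prime_dvd' (Nat.card H) Nat.card_pos.ne' h1
    have : Fact p.Prime := ⟨hp⟩
    obtain ⟨P, H₁, hPH, hH₁H, hPp, hHNP, hPH₁, hPcard, hPH₁card, hH₁cop, hSH₁⟩ :=
      sylow_data H hSH p hmax
    obtain ⟨Q, K₁, hQK, hK₁K, hQp, hKNQ, hQK₁, hQcard, hQK₁card, hK₁cop, hSK₁⟩ :=
      sylow_data K hSK p (by rw [← hcard]; exact hmax)
    have hPQcard : Nat.card P = Nat.card Q := by rw [hPcard, hQcard, hcard]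
    have hH₁K₁card : Nat.card H₁ = Nat.card K₁ := by
      have h := hPH₁card
      rw [hcard, ← hQK₁card, hPQcard] at h
      exact Nat.eq_of_mul_eq_mul_left Nat.card_pos h
    have hP1 : 1 < Nat.card P := by
      rw [hPcard]
      apply Nat.one_lt_pow _ hp.one_lt
      have := (Nat.Prime.factorization_pos_of_dvd hp Nat.card_pos.ne' hpH)
      exact this.ne'
    -- p does not divide the index of P in L
    have hPidx : ¬ p ∣ P.relIndex L := by
      rw [← Subgroup.relIndex_mul_relIndex P H L hPH hHL]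
      intro h
      rcases (Nat.Prime.dvd_mul hp).mp h with h | h
      · have e := card_mul_relIndex_of_le hPH
        rw [← hPH₁card] at e
        have e' : P.relIndex H = Nat.card H₁ := Nat.eq_of_mul_eq_mul_left Nat.card_pos e
        rw [e'] at h
        have := Nat.Coprime.eq_one_of_dvd hH₁cop.symm h
        exact hp.one_lt.ne' this
      · have := Nat.Coprime.eq_one_of_dvd (hHall.coprime_dvd_left hpH) h
        exact hp.one_lt.ne' this
    obtain ⟨g, hgL, hg⟩ := exists_conj_le_of_not_dvd_relIndex (L := L) (P := P) (R := Q)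
      (hQK.trans hKL) hPp hQp hPidx
    have hgPQ : MulAut.conj g • P = Q := by
      symm
      apply Subgroup.eq_of_le_of_card_ge hg
      rw [card_conj_smul, hPQcard]
    set H₀ : Subgroup G := MulAut.conj g • H₁ with hH₀def
    have hSH₀ : Cfsg.IsSupersolvable H₀ :=
      isSupersolvable_of_mulEquiv (Subgroup.equivSMul (MulAut.conj g) H₁) hSH₁
    have hH₀card : Nat.card H₀ = Nat.card H₁ := card_conj_smul g H₁
    have hgH : MulAut.conj g • H = Q ⊔ H₀ := by
      rw [← hPH₁, Subgroup.smul_sup, hgPQ]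
    have hgHL : MulAut.conj g • H ≤ L := by
      have := Subgroup.pointwise_smul_le_pointwise_smul_iff (a := MulAut.conj g) |>.mpr hHL
      rwa [Subgroup.conj_smul_eq_self_of_mem hgL] at this
    have hH₀L : H₀ ≤ L := by
      have : H₀ ≤ MulAut.conj g • H := by rw [hgH]; exact le_sup_right
      exact this.trans hgHL
    have hH₀NQ : H₀ ≤ Subgroup.normalizer (Q : Set G) := by
      apply le_normalizer_of_forall_conj_mem
      intro y hy q hq
      rw [hH₀def, Subgroup.mem_pointwise_smul_iff_inv_smul_mem] at hy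
      rw [← hgPQ, Subgroup.mem_pointwise_smul_iff_inv_smul_mem] at hq ⊢
      rw [MulAut.smul_def, MulAut.conj_inv_apply] at hy hq ⊢
      have hyN := hHNP (hH₁H hy)
      have := (Subgroup.mem_normalizer_iff.mp hyN _).mp hq
      have e : g⁻¹ * (y * q * y⁻¹) * g = g⁻¹ * y * g * (g⁻¹ * q * g) * (g⁻¹ * y * g)⁻¹ := by group
      rw [e]
      exact this
    set N : Subgroup G := Subgroup.normalizer (Q : Set G) ⊓ L with hNdef
    have hH₀N : H₀ ≤ N := le_inf hH₀NQ hH₀L
    have hK₁N : K₁ ≤ N := le_inf (hK₁K.trans hKNQ) (hK₁K.trans hKL)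
    have hNL : N ≤ L := inf_le_right
    -- Hall condition for H₀ in N
    have hHall₀ : (Nat.card H₀).Coprime (H₀.relIndex N) := by
      have hd1 : H₀.relIndex N ∣ H₀.relIndex L := by
        rw [← Subgroup.relIndex_mul_relIndex H₀ N L hH₀N hNL]
        exact dvd_mul_right _ _
      have hH₀gH : H₀ ≤ MulAut.conj g • H := by rw [hgH]; exact le_sup_right
      have e1 : H₀.relIndex L = H₀.relIndex (MulAut.conj g • H) * (MulAut.conj g • H).relIndex L :=
        (Subgroup.relIndex_mul_relIndex H₀ _ L hH₀gH hgHL).symm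
      have e2 : (MulAut.conj g • H).relIndex L = H.relIndex L := by
        have := Subgroup.relIndex_pointwise_smul (h := MulAut.conj g) H L
        rwa [Subgroup.conj_smul_eq_self_of_mem hgL] at this
      have e3 : H₀.relIndex (MulAut.conj g • H) = Nat.card P := by
        have := card_mul_relIndex_of_le hH₀gH
        rw [card_conj_smul g H, hH₀card, ← hPH₁card, mul_comm] at this
        exact Nat.eq_of_mul_eq_mul_right Nat.card_pos this
      apply Nat.Coprime.coprime_dvd_right hd1
      rw [e1, e2, e3]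
      apply Nat.Coprime.mul_right
      · rw [hH₀card, hPcard]
        exact Nat.Coprime.pow_right _ hH₁cop
      · rw [hH₀card]
        apply Nat.Coprime.coprime_dvd_left _ hHall
        rw [← hPH₁card]; exact dvd_mul_left _ _
    have hlt : Nat.card H₀ < n := by
      rw [hH₀card, ← hn, ← hPH₁card]
      have : 0 < Nat.card H₁ := Nat.card_pos
      nlinarith
    obtain ⟨x, hxN, hx⟩ := ih (Nat.card H₀) hlt N H₀ K₁ hH₀N hK₁N hSH₀ hSK₁
      (by rw [hH₀card, hH₁K₁card]) hHall₀ rfl
    refine ⟨x * g, mul_mem (hNL hxN) hgL, ?_⟩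
    rw [map_mul, mul_smul, hgH, Subgroup.smul_sup, hx]
    have hxQ : MulAut.conj x • Q = Q := by
      have := Subgroup.mem_normalizer_iff_map_conj_eq.mp hxN.1
      exact this
    rw [hxQ, hQK₁]

end aux

/-- Let H and K be supersolvable subgroups of a finite group G of the same order, that order being coprime to their index. Then H and K are conjugate in G. -/
theorem result {G : Type*} [Group G] [Finite G] (H K : Subgroup G) (hH : Cfsg.IsSupersolvable H) (hK : Cfsg.IsSupersolvable K) (hcard : Nat.card H = Nat.card K) (hHall : (Nat.card H).Coprime H.index) : ∃ x : G, MulAut.conj x • H = K := by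
  obtain ⟨x, -, hx⟩ := conj_aux (Nat.card H) ⊤ H K le_top le_top hH hK hcard
    (by rwa [Subgroup.relIndex_top_right]) rfl
  exact ⟨x, hx⟩

end Cfsg.Agent.S0582
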