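import Cfsg.Statements.S0584

set_option autoImplicit false
open Cfsg

namespace Cfsg.Agent.S0584

/-- Let B ≤ A be normal subgroups of a finite group G with B contained in the Frattini subgroup of G. If A modulo B is nilpotent then A is nilpotent. -/
theorem result {G : Type*} [Group G] [Finite G] (A B : Subgroup G) [A.Normal] [B.Normal] (hBA : B ≤ A) (hB : B ≤ frattini G) (h : Group.IsNilpotent (↥A ⧸ B.subgroupOf A)) : Group.IsNilpotent A := by
  classical
  have q := (Group.isNilpotent_of_finite_tfae (G := A)).out 0 3
  rw [q]; clear q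
  intro p hp P
  have q' := (Group.isNilpotent_of_finite_tfae (G := ↥A ⧸ B.subgroupOf A)).out 0 3
  rw [q'] at h; clear q'
  set π := QuotientGroup.mk' (B.subgroupOf A) with hπdef
  have hπ : Function.Surjective π := QuotientGroup.mk'_surjective _
  -- the image of P is normal in A/B
  have hPn : ((P : Subgroup A).map π).Normal := by
    have := h p hp (P.mapSurjective hπ)
    rwa [Sylow.coe_mapSurjective] at this
  -- Q_A = preimage
  set Q : Subgroup A := ((P : Subgroup A).map π).comap π with hQ
  have hQn : Q.Normal := hPn.comap π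
  have hPQ : (P : Subgroup A) ≤ Q := Subgroup.le_comap_map π _
  have hQeq : Q = (P : Subgroup A) ⊔ B.subgroupOf A := by
    rw [hQ, Subgroup.comap_map_eq, QuotientGroup.ker_mk']
  -- Frattini argument in A
  have h1 : Subgroup.normalizer ((P : Subgroup A) : Set A) ⊔ Q = ⊤ :=
    Sylow.normalizer_sup_eq_top' P hPQ
  -- Frattini argument in G
  have h2 : Subgroup.normalizer (((P : Subgroup A).map A.subtype : Subgroup G) : Set G) ⊔ A = ⊤ :=
    Sylow.normalizer_sup_eq_top P
  set P' : Subgroup G := (P : Subgroup A).map A.subtype with hP'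
  -- A ≤ N_G(P') ⊔ B
  have h3 : A ≤ Subgroup.normalizer (P' : Set G) ⊔ B := by
    have := congrArg (Subgroup.map A.subtype) h1
    rw [Subgroup.map_sup, ← MonoidHom.range_eq_map, Subgroup.range_subtype] at this
    rw [← this]
    refine sup_le ?_ ?_
    · exact (Subgroup.le_normalizer_map A.subtype).trans le_sup_left
    · rw [hQeq, Subgroup.map_sup]
      refine sup_le ?_ ?_
      · exact (Subgroup.le_normalizer (H := P')).trans le_sup_left
      · rw [Subgroup.subgroupOf_map_subtype]
        exact inf_le_left.trans le_sup_right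
  have h4 : Subgroup.normalizer (P' : Set G) ⊔ frattini G = ⊤ := by
    rw [eq_top_iff, ← h2]
    refine sup_le le_sup_left ?_
    exact h3.trans (sup_le_sup_left hB _)
  have h5 : Subgroup.normalizer (P' : Set G) = ⊤ := frattini_nongenerating h4
  have h6 : P'.Normal := Subgroup.normalizer_eq_top_iff.mp h5
  exact h6.of_map_subtype

end Cfsg.Agent.S0584
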