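import Cfsg.Statements.S0585
import Cfsg.Agent.Lib.Helper14.Frattini

set_option autoImplicit false
open Cfsg

namespace Cfsg.Agent.S0585

/-- If the Frattini subgroup of a finite group G is trivial, then every abelian normal subgroup of G has a complement in G. -/
theorem result {G : Type*} [Group G] [Finite G] (hΦ : frattini G = ⊥) (A : Subgroup G) [A.Normal] [IsMulCommutative A] : ∃ H : Subgroup G, Subgroup.IsComplement' A H := by
  classical
  -- minimal H with A ⊔ H = ⊤
  obtain ⟨H, hH⟩ := Set.Finite.exists_minimal (s := {H : Subgroup G | A ⊔ H = ⊤}) (Set.toFinite _)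
    ⟨⊤, by simp⟩
  have hAH : A ⊔ H = ⊤ := hH.1
  have hmin : ∀ K : Subgroup G, A ⊔ K = ⊤ → K ≤ H → H ≤ K := fun K hK hKH => hH.2 hK hKH
  refine ⟨H, ?_⟩
  have hcommA : ∀ x ∈ A, ∀ y ∈ A, x * y = y * x := by
    intro x hx y hy
    have := mul_comm' (⟨x, hx⟩ : A) ⟨y, hy⟩
    exact congrArg Subtype.val this
  have hAn : A.Normal := inferInstance
  -- N = A ⊓ H is normal in G
  have hNn : (A ⊓ H).Normal := by
    constructor
    intro n hn g
    have hg : g ∈ A ⊔ H := by rw [hAH]; trivial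
    rw [← SetLike.mem_coe, Subgroup.normal_mul] at hg
    obtain ⟨a, ha, h, hh, rfl⟩ := hg
    have h1 : h * n * h⁻¹ ∈ A := hAn.conj_mem n hn.1 h
    have h2 : h * n * h⁻¹ ∈ H := H.mul_mem (H.mul_mem hh hn.2) (H.inv_mem hh)
    have h3 : a * h * n * (a * h)⁻¹ = h * n * h⁻¹ := by
      have := hcommA a ha _ h1
      calc a * h * n * (a * h)⁻¹ = (a * (h * n * h⁻¹)) * a⁻¹ := by group
        _ = ((h * n * h⁻¹) * a) * a⁻¹ := by rw [this]
        _ = h * n * h⁻¹ := by group
    rw [h3]
    exact ⟨h1, h2⟩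
  -- N ≤ Φ(H)
  have hNΦ' : (A ⊓ H).subgroupOf H ≤ frattini ↥H := by
    unfold frattini Order.radical
    refine le_iInf₂ fun M' hM' => ?_
    by_contra hnot
    -- (A ⊓ H).subgroupOf H ⊔ M' = ⊤
    have hsup : (A ⊓ H).subgroupOf H ⊔ M' = ⊤ := by
      by_contra hne
      have hlt : M' < (A ⊓ H).subgroupOf H ⊔ M' := by
        refine lt_of_le_of_ne le_sup_right ?_
        intro heq
        apply hnot
        rw [heq]
        exact le_sup_left
      exact hne (hM'.2 _ hlt)
    -- M = image of M' in G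
    have hsup' : (A ⊓ H) ⊔ M'.map H.subtype = H := by
      have := congrArg (Subgroup.map H.subtype) hsup
      rw [Subgroup.map_sup, Subgroup.subgroupOf_map_subtype, ← MonoidHom.range_eq_map,
        Subgroup.range_subtype] at this
      rwa [inf_assoc, inf_idem] at this
    have hM : A ⊔ M'.map H.subtype = ⊤ := by
      rw [eq_top_iff, ← hAH]
      refine sup_le le_sup_left ?_
      calc H = (A ⊓ H) ⊔ M'.map H.subtype := hsup'.symm
        _ ≤ A ⊔ M'.map H.subtype := sup_le_sup_right inf_le_left _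
    have hle := hmin _ hM (Subgroup.map_subtype_le M')
    -- then M' = ⊤
    apply hM'.1
    rw [eq_top_iff]
    intro x _
    obtain ⟨y, hy, hxy⟩ := hle x.2
    have : y = x := Subtype.ext hxy
    rwa [← this]
  have hNΦ : A ⊓ H ≤ (frattini ↥H).map H.subtype := by
    intro n hn
    refine ⟨⟨n, hn.2⟩, hNΦ' ?_, rfl⟩
    rw [Subgroup.mem_subgroupOf]
    exact hn
  have hN : A ⊓ H ≤ frattini G :=
    Cfsg.Agent.Lib.Helper14.le_frattini_of_normal_of_le_map_frattini H (A ⊓ H) hNΦ
  rw [hΦ, le_bot_iff] at hN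
  apply Subgroup.isComplement'_of_disjoint_and_mul_eq_univ
  · rw [disjoint_iff]; exact hN
  · rw [← Subgroup.normal_mul, hAH]; rfl

end Cfsg.Agent.S0585
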