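import Cfsg.Statements.S0586
import Cfsg.Agent.S0583
import Cfsg.Agent.S0585

set_option autoImplicit false
open Cfsg

namespace Cfsg.Agent.S0586

theorem isNilpotent_of_isMulCommutative {G : Type*} [Group G] (N : Subgroup G)
    (h : IsMulCommutative N) : Group.IsNilpotent N := by
  let _ : CommGroup N := { (inferInstance : Group N) with mul_comm := fun a b => mul_comm' a b }
  exact CommGroup.isNilpotent

/-- If the Frattini subgroup of a finite group G is trivial, then the Fitting subgroup of G equals the join of all abelian minimal normal subgroups of G. -/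
theorem result {G : Type*} [Group G] [Finite G] (hΦ : frattini G = ⊥) : Cfsg.fittingSubgroup G = sSup {N : Subgroup G | N.Normal ∧ N ≠ ⊥ ∧ IsMulCommutative N ∧ ∀ K : Subgroup G, K.Normal → K ≤ N → K = ⊥ ∨ K = N} := by
  classical
  set 𝓜 : Set (Subgroup G) := {N : Subgroup G | N.Normal ∧ N ≠ ⊥ ∧ IsMulCommutative N ∧ ∀ K : Subgroup G, K.Normal → K ≤ N → K = ⊥ ∨ K = N} with h𝓜
  set L := sSup 𝓜 with hL
  set F := Cfsg.fittingSubgroup G with hF
  -- L ≤ F
  have hLF : L ≤ F := by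
    refine sSup_le ?_
    rintro N ⟨hN1, -, hN3, -⟩
    exact le_sSup ⟨hN1, isNilpotent_of_isMulCommutative N hN3⟩
  -- F centralizes every member of 𝓜
  have hFM : ∀ M ∈ 𝓜, F ≤ Subgroup.centralizer (M : Set G) := by
    rintro M ⟨hM1, hM2, -, hM4⟩
    have := hM1
    exact Cfsg.Agent.S0583.result M hM2 hM4
  have hFL : F ≤ Subgroup.centralizer (L : Set G) := by
    rw [Subgroup.le_centralizer_iff]
    refine sSup_le ?_
    intro M hM
    rw [Subgroup.le_centralizer_iff]
    exact hFM M hM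
  have hLn : L.Normal := Subgroup.sSup_normal _ (fun _ h => h.1)
  have hLc : IsMulCommutative L :=
    Subgroup.le_centralizer_iff_isMulCommutative.mp (hLF.trans hFL)
  obtain ⟨H, hH⟩ := Cfsg.Agent.S0585.result hΦ L
  have hdisj : L ⊓ H = ⊥ := disjoint_iff.mp hH.disjoint
  have htop : L ⊔ H = ⊤ := hH.sup_eq_top
  apply le_antisymm _ hLF
  refine sSup_le ?_
  rintro N ⟨hNn, hNnil⟩
  have hNF : N ≤ F := le_sSup ⟨hNn, hNnil⟩
  set X := N ⊔ L with hX
  have hXn : X.Normal := inferInstance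
  have hXF : X ≤ F := sup_le hNF hLF
  have hXL : X ≤ Subgroup.centralizer (L : Set G) := hXF.trans hFL
  -- D = X ⊓ H is normal in G
  have hDn : (X ⊓ H).Normal := by
    constructor
    intro d hd g
    have hg : g ∈ L ⊔ H := by rw [htop]; trivial
    rw [← SetLike.mem_coe, Subgroup.normal_mul] at hg
    obtain ⟨l, hl, h, hh, rfl⟩ := hg
    have h1 : h * d * h⁻¹ ∈ X := hXn.conj_mem d hd.1 h
    have h2 : h * d * h⁻¹ ∈ H := H.mul_mem (H.mul_mem hh hd.2) (H.inv_mem hh)
    have h3 : l * h * d * (l * h)⁻¹ = h * d * h⁻¹ := by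
      have := (Subgroup.mem_centralizer_iff.mp (hXL h1)) l hl
      calc l * h * d * (l * h)⁻¹ = (l * (h * d * h⁻¹)) * l⁻¹ := by group
        _ = ((h * d * h⁻¹) * l) * l⁻¹ := by rw [this]
        _ = h * d * h⁻¹ := by group
    rw [h3]
    exact ⟨h1, h2⟩
  -- D = ⊥
  have hD : X ⊓ H = ⊥ := by
    by_contra hne
    obtain ⟨M₀, hM₀⟩ := Set.Finite.exists_minimal
      (s := {K : Subgroup G | K.Normal ∧ K ≠ ⊥ ∧ K ≤ X ⊓ H}) (Set.toFinite _)
      ⟨X ⊓ H, hDn, hne, le_rfl⟩
    obtain ⟨⟨hM1, hM2, hM3⟩, hMmin⟩ := hM₀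
    have hmin : ∀ K : Subgroup G, K.Normal → K ≤ M₀ → K = ⊥ ∨ K = M₀ := by
      intro K hKn hK
      by_cases hKb : K = ⊥
      · exact Or.inl hKb
      · right
        exact le_antisymm hK (hMmin ⟨hKn, hKb, hK.trans hM3⟩ hK)
    have := hM1
    have hFM₀ : F ≤ Subgroup.centralizer (M₀ : Set G) := Cfsg.Agent.S0583.result M₀ hM2 hmin
    have hM₀c : IsMulCommutative M₀ :=
      Subgroup.le_centralizer_iff_isMulCommutative.mp ((hM3.trans inf_le_left).trans (hXF.trans hFM₀))
    have hM₀L : M₀ ≤ L := le_sSup ⟨hM1, hM2, hM₀c, hmin⟩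
    have : M₀ ≤ L ⊓ H := le_inf hM₀L (hM3.trans inf_le_right)
    rw [hdisj, le_bot_iff] at this
    exact hM2 this
  -- X ≤ L
  have hXleL : X ≤ L := by
    intro x hx
    have hg : x ∈ L ⊔ H := by rw [htop]; trivial
    rw [← SetLike.mem_coe, Subgroup.normal_mul] at hg
    obtain ⟨l, hl, h, hh, rfl⟩ := hg
    have hhX : h ∈ X := by
      have : h = l⁻¹ * (l * h) := by group
      rw [this]
      exact X.mul_mem (X.inv_mem (le_sup_right (a := N) hl)) hx
    have : h ∈ X ⊓ H := ⟨hhX, hh⟩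
    rw [hD, Subgroup.mem_bot] at this
    subst this
    simpa using hl
  exact le_sup_left.trans hXleL

end Cfsg.Agent.S0586
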