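import Cfsg.Statements.S0587
import Cfsg.Agent.Lib.Helper14.PLocal
import Mathlib.GroupTheory.Sylow
import Mathlib.GroupTheory.Perm.Cycle.Type
import Mathlib.GroupTheory.GroupAction.ConjAct
import Mathlib.Tactic.Group

set_option autoImplicit false
open Cfsg

namespace Cfsg.Agent.S0587

open Cfsg.Agent.Lib.Helper14

/-- the `p`-core of a finite group is a `p`-group -/
theorem isPGroup_pCore {G : Type*} [Group G] [Finite G] (p : ℕ) [Fact p.Prime] :
    IsPGroup p (Cfsg.pCore p G) := by
  obtain ⟨S⟩ : Nonempty (Sylow p G) := inferInstance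
  have : Cfsg.pCore p G ≤ (S : Subgroup G) := by
    unfold Cfsg.pCore
    refine sSup_le ?_
    rintro N ⟨hNn, hN⟩
    have := hNn
    exact normal_pgroup_le_sylow N hN S
  exact S.2.to_le this

theorem pCore_normal' {G : Type*} [Group G] (p : ℕ) : (Cfsg.pCore p G).Normal :=
  Subgroup.sSup_normal _ (fun _ h => h.1)

/-- Lemma A: a nontrivial abelian normal subgroup is complemented by a corefree maximal subgroup
and is self-centralizing. -/
theorem lemmaA {G : Type*} [Group G] [Finite G] (M : Subgroup G) (hM : IsCoatom M)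
    (hcore : M.normalCore = ⊥) (K : Subgroup G) (hKn : K.Normal) (hKc : IsMulCommutative K)
    (hK : K ≠ ⊥) : K ⊓ M = ⊥ ∧ K ⊔ M = ⊤ ∧ Subgroup.centralizer (K : Set G) = K := by
  have hcomm : ∀ x ∈ K, ∀ y ∈ K, x * y = y * x := by
    intro x hx y hy
    exact congrArg Subtype.val (mul_comm' (⟨x, hx⟩ : K) ⟨y, hy⟩)
  have hcoreless : ∀ N : Subgroup G, N.Normal → N ≤ M → N = ⊥ := by
    intro N hN hNM
    have := hN
    have h1 : N ≤ M.normalCore := Subgroup.normal_le_normalCore.mpr hNM
    rw [hcore] at h1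
    exact le_bot_iff.mp h1
  have hsup : K ⊔ M = ⊤ := by
    by_contra hne
    have hlt : M < K ⊔ M := by
      refine lt_of_le_of_ne le_sup_right ?_
      intro heq
      apply hK
      apply hcoreless K hKn
      rw [heq]
      exact le_sup_left
    exact hne (hM.2 _ hlt)
  have hmul : ∀ g : G, ∃ k ∈ K, ∃ m ∈ M, g = k * m := by
    intro g
    have hg : g ∈ K ⊔ M := by rw [hsup]; trivial
    rw [← SetLike.mem_coe, Subgroup.normal_mul] at hg
    obtain ⟨k, hk, m, hm, rfl⟩ := hg
    exact ⟨k, hk, m, hm, rfl⟩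
  -- a subgroup X normalized by M and centralized by K, with X ≤ M, is trivial
  have hkey : ∀ X : Subgroup G, X ≤ M → (∀ m ∈ M, ∀ x ∈ X, m * x * m⁻¹ ∈ X) →
      X ≤ Subgroup.centralizer (K : Set G) → X = ⊥ := by
    intro X hXM hXn hXc
    apply hcoreless X _ hXM
    constructor
    intro x hx g
    obtain ⟨k, hk, m, hm, rfl⟩ := hmul g
    have h1 := hXn m hm x hx
    have h2 := (Subgroup.mem_centralizer_iff.mp (hXc h1)) k hk
    have : k * m * x * (k * m)⁻¹ = m * x * m⁻¹ := by
      calc k * m * x * (k * m)⁻¹ = (k * (m * x * m⁻¹)) * k⁻¹ := by group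
        _ = ((m * x * m⁻¹) * k) * k⁻¹ := by rw [h2]
        _ = m * x * m⁻¹ := by group
    rw [this]
    exact h1
  have hinf : K ⊓ M = ⊥ := by
    apply hkey (K ⊓ M) inf_le_right
    · intro m hm x hx
      exact ⟨hKn.conj_mem x hx.1 m, M.mul_mem (M.mul_mem hm hx.2) (M.inv_mem hm)⟩
    · intro x hx
      rw [Subgroup.mem_centralizer_iff]
      intro k hk
      exact hcomm k hk x hx.1
  have hCn : (Subgroup.centralizer (K : Set G)).Normal := Subgroup.normal_centralizer
  have hCM : Subgroup.centralizer (K : Set G) ⊓ M = ⊥ := by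
    apply hkey _ inf_le_right
    · intro m hm x hx
      exact ⟨hCn.conj_mem x hx.1 m, M.mul_mem (M.mul_mem hm hx.2) (M.inv_mem hm)⟩
    · exact inf_le_left
  refine ⟨hinf, hsup, ?_⟩
  apply le_antisymm
  · intro c hc
    obtain ⟨k, hk, m, hm, rfl⟩ := hmul c
    have hkC : k ∈ Subgroup.centralizer (K : Set G) := by
      rw [Subgroup.mem_centralizer_iff]
      intro y hy
      exact hcomm y hy k hk
    have hmC : m ∈ Subgroup.centralizer (K : Set G) := by
      have : m = k⁻¹ * (k * m) := by group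
      rw [this]
      exact Subgroup.mul_mem _ (Subgroup.inv_mem _ hkC) hc
    have : m ∈ Subgroup.centralizer (K : Set G) ⊓ M := ⟨hmC, hm⟩
    rw [hCM, Subgroup.mem_bot] at this
    rw [this, mul_one]
    exact hk
  · exact Subgroup.le_centralizer_iff_isMulCommutative.mpr hKc


/-- Lemma B: a nontrivial normal `p`-subgroup `L` contains a nontrivial elementary abelian
subgroup of its centre which is normal in `G`. -/
theorem lemmaB {G : Type*} [Group G] [Finite G] (p : ℕ) [Fact p.Prime] (L : Subgroup G)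
    (hLn : L.Normal) (hLp : IsPGroup p L) (hL : L ≠ ⊥) :
    ∃ E : Subgroup G, E ≤ L ⊓ Subgroup.centralizer (L : Set G) ∧ E.Normal ∧ E ≠ ⊥ ∧
      Cfsg.IsElementaryAbelian p E := by
  classical
  set Z := L ⊓ Subgroup.centralizer (L : Set G) with hZ
  have hZn : Z.Normal := by
    have : (Subgroup.centralizer (L : Set G)).Normal := Subgroup.normal_centralizer
    exact Subgroup.normal_inf_normal _ _
  set gens : Set G := {g | g ∈ Z ∧ g ^ p = 1} with hgens
  refine ⟨Subgroup.closure gens, ?_, ?_, ?_, ?_⟩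
  · rw [Subgroup.closure_le]
    intro g hg
    exact hg.1
  · constructor
    intro n hn g
    have hle : (Subgroup.closure gens).map (MulAut.conj g).toMonoidHom ≤ Subgroup.closure gens := by
      rw [MonoidHom.map_closure]
      apply Subgroup.closure_mono
      rintro _ ⟨x, ⟨hx1, hx2⟩, rfl⟩
      refine ⟨?_, ?_⟩
      · have := hZn.conj_mem x hx1 g
        simpa [MulAut.conj_apply] using this
      · show (MulAut.conj g x) ^ p = 1
        rw [← map_pow, hx2, map_one]
    have := hle (Subgroup.mem_map_of_mem (MulAut.conj g).toMonoidHom hn)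
    simpa [MulAut.conj_apply] using this
  · -- nontrivial
    have hnt : Nontrivial L := by
      rw [Subgroup.nontrivial_iff_ne_bot]; exact hL
    have hcn : Nontrivial (Subgroup.center L) := IsPGroup.center_nontrivial hLp
    have hcp : IsPGroup p (Subgroup.center L) := hLp.to_subgroup _
    have hdvd : p ∣ Nat.card (Subgroup.center L) := by
      rcases hcp.card_eq_or_dvd with h | h
      · exfalso
        have := Finite.one_lt_card (α := Subgroup.center L)
        omega
      · exact h
    obtain ⟨x, hx⟩ := exists_prime_orderOf_dvd_card' (G := Subgroup.center L) p hdvd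
    have hx1 : orderOf (((x : L) : G)) = p := by
      rw [Subgroup.orderOf_coe, Subgroup.orderOf_coe]; exact hx
    have hxg : (((x : L) : G)) ∈ gens := by
      refine ⟨Subgroup.mem_inf.mpr ⟨(x : L).2, ?_⟩, ?_⟩
      · rw [Subgroup.mem_centralizer_iff]
        intro h hh
        have := Subgroup.mem_center_iff.mp x.2 ⟨h, hh⟩
        exact congrArg Subtype.val this
      · rw [← hx1]; exact pow_orderOf_eq_one _
    intro hbot
    have : (((x : L) : G)) ∈ Subgroup.closure gens := Subgroup.subset_closure hxg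
    rw [hbot, Subgroup.mem_bot] at this
    rw [this, orderOf_one] at hx1
    exact (Fact.out : p.Prime).one_lt.ne hx1
  · apply isElementaryAbelian_closure
    · intro x hx y hy
      exact (Subgroup.mem_centralizer_iff.mp hy.1.2) x hx.1.1
    · intro x hx
      exact hx.2


/-- Let G be a finite group whose largest normal p-subgroup L is nontrivial, and M a maximal subgroup of G with trivial normal core. Then L is elementary abelian, M is a complement to L, L is a minimal normal subgroup of G, the centralizer of L is L, and for every prime q such that the largest normal q-subgroup of M is nontrivial, the order of L is congruent to 1 modulo q and q ≠ p. -/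
theorem result {G : Type*} [Group G] [Finite G] (p : ℕ) [Fact p.Prime] (hL : Cfsg.pCore p G ≠ ⊥) (M : Subgroup G) (hM : IsCoatom M) (hcore : M.normalCore = ⊥) : Cfsg.IsElementaryAbelian p (Cfsg.pCore p G) ∧ Subgroup.IsComplement' (Cfsg.pCore p G) M ∧ (∀ K : Subgroup G, K.Normal → K ≤ Cfsg.pCore p G → K = ⊥ ∨ K = Cfsg.pCore p G) ∧ Subgroup.centralizer ((Cfsg.pCore p G : Subgroup G) : Set G) = Cfsg.pCore p G ∧ ∀ (q : ℕ) [Fact q.Prime], Cfsg.pCore q ↥M ≠ ⊥ → Nat.card (Cfsg.pCore p G) % q = 1 % q ∧ q ≠ p := by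
  classical
  have hLn : (Cfsg.pCore p G).Normal := pCore_normal' p
  have hLp : IsPGroup p (Cfsg.pCore p G) := isPGroup_pCore p
  obtain ⟨E, hEZ, hEn, hEne, hEe⟩ := lemmaB p (Cfsg.pCore p G) hLn hLp hL
  obtain ⟨hE1, hE2, hE3⟩ := lemmaA M hM hcore E hEn hEe.1 hEne
  have hLE : Cfsg.pCore p G ≤ E := by
    rw [← hE3, Subgroup.le_centralizer_iff]
    exact hEZ.trans inf_le_right
  have hEL : E = Cfsg.pCore p G := le_antisymm (hEZ.trans inf_le_left) hLE
  rw [← hEL] at hL hLp ⊢
  have hLc : IsMulCommutative E := hEe.1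
  have hcomm : ∀ x ∈ E, ∀ y ∈ E, x * y = y * x := by
    intro x hx y hy
    exact congrArg Subtype.val (mul_comm' (⟨x, hx⟩ : E) ⟨y, hy⟩)
  have hmul : ∀ g : G, ∃ l ∈ E, ∃ m ∈ M, g = l * m := by
    intro g
    have hg : g ∈ E ⊔ M := by rw [hE2]; trivial
    rw [← SetLike.mem_coe, Subgroup.normal_mul] at hg
    obtain ⟨k, hk, m, hm, rfl⟩ := hg
    exact ⟨k, hk, m, hm, rfl⟩
  have hminimal : ∀ K : Subgroup G, K.Normal → K ≤ E → K = ⊥ ∨ K = E := by
    intro K hKn hKL
    by_cases hK : K = ⊥
    · exact Or.inl hK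
    · right
      have hKc : IsMulCommutative K :=
        ⟨⟨fun a b => Subtype.ext (hcomm a.1 (hKL a.2) b.1 (hKL b.2))⟩⟩
      obtain ⟨-, hK2, -⟩ := lemmaA M hM hcore K hKn hKc hK
      apply le_antisymm hKL
      intro l hl
      have hg : l ∈ K ⊔ M := by rw [hK2]; trivial
      rw [← SetLike.mem_coe, Subgroup.normal_mul] at hg
      obtain ⟨k, hk, m, hm, hkm⟩ := hg
      have hmL : m ∈ E := by
        have : m = k⁻¹ * l := by rw [← hkm]; simp
        rw [this]
        exact E.mul_mem (E.inv_mem (hKL hk)) hl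
      have : m ∈ E ⊓ M := ⟨hmL, hm⟩
      rw [hE1, Subgroup.mem_bot] at this
      rw [← hkm, this]
      simpa using hk
  refine ⟨hEe, ?_, hminimal, hE3, ?_⟩
  · apply Subgroup.isComplement'_of_disjoint_and_mul_eq_univ (disjoint_iff.mpr hE1)
    rw [← Subgroup.normal_mul, hE2]; rfl
  · intro q hq hO
    have hOq : IsPGroup q (Cfsg.pCore q ↥M) := isPGroup_pCore q
    have hOn : (Cfsg.pCore q ↥M).Normal := pCore_normal' q
    set O := Cfsg.pCore q ↥M with hOdef
    set O' : Subgroup G := O.map M.subtype with hO'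
    have hO'M : O' ≤ M := Subgroup.map_subtype_le _
    -- X = C_L(O') is normal in G
    have hXn : (E ⊓ Subgroup.centralizer (O' : Set G)).Normal := by
      constructor
      intro x hx g
      obtain ⟨l, hl, m, hm, rfl⟩ := hmul g
      have h1 : m * x * m⁻¹ ∈ E := hEn.conj_mem x hx.1 m
      have h2 : m * x * m⁻¹ ∈ Subgroup.centralizer (O' : Set G) := by
        rw [Subgroup.mem_centralizer_iff]
        rintro o ⟨o₀, ho₀, rfl⟩
        have hconj : (⟨m, hm⟩ : M)⁻¹ * o₀ * (⟨m, hm⟩ : M) ∈ O := by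
          have := hOn.conj_mem o₀ ho₀ (⟨m, hm⟩ : M)⁻¹
          simpa using this
        have hmem : m⁻¹ * (o₀ : G) * m ∈ O' := ⟨_, hconj, by simp⟩
        have hc := (Subgroup.mem_centralizer_iff.mp hx.2) _ hmem
        show (o₀ : G) * (m * x * m⁻¹) = (m * x * m⁻¹) * (o₀ : G)
        calc (o₀ : G) * (m * x * m⁻¹) = m * ((m⁻¹ * (o₀ : G) * m) * x) * m⁻¹ := by group
          _ = m * (x * (m⁻¹ * (o₀ : G) * m)) * m⁻¹ := by rw [hc]
          _ = (m * x * m⁻¹) * (o₀ : G) := by group
      have h3 : l * m * x * (l * m)⁻¹ = m * x * m⁻¹ := by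
        have := hcomm l hl _ h1
        calc l * m * x * (l * m)⁻¹ = (l * (m * x * m⁻¹)) * l⁻¹ := by group
          _ = ((m * x * m⁻¹) * l) * l⁻¹ := by rw [this]
          _ = m * x * m⁻¹ := by group
      rw [h3]
      exact ⟨h1, h2⟩
    have hX : E ⊓ Subgroup.centralizer (O' : Set G) = ⊥ := by
      rcases hminimal _ hXn inf_le_left with h | h
      · exact h
      · exfalso
        have h1 : E ≤ Subgroup.centralizer (O' : Set G) := by rw [← h]; exact inf_le_right
        have h2 : O' ≤ Subgroup.centralizer (E : Set G) := Subgroup.le_centralizer_iff.mp h1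
        rw [hE3] at h2
        have h3 : O' ≤ E ⊓ M := le_inf h2 hO'M
        rw [hE1, le_bot_iff] at h3
        apply hO
        rw [hO', Subgroup.map_eq_bot_iff_of_injective _ (Subgroup.subtype_injective M)] at h3
        exact h3
    -- the action of O on L
    let f : ↥O →* MulAut ↥E := (MulAut.conjNormal (H := E)).comp (M.subtype.comp O.subtype)
    let _ : MulAction ↥O ↥E := MulAction.compHom ↥E f
    have hsmul : ∀ (o : ↥O) (x : ↥E), ((o • x : ↥E) : G) = ((o : M) : G) * x * ((o : M) : G)⁻¹ := by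
      intro o x
      show ((f o x : ↥E) : G) = _
      simp [f, MulAut.conjNormal_apply]
    have hfix : ∀ x ∈ MulAction.fixedPoints ↥O ↥E, x = 1 := by
      intro x hx
      rw [MulAction.mem_fixedPoints] at hx
      have hxX : (x : G) ∈ E ⊓ Subgroup.centralizer (O' : Set G) := by
        refine Subgroup.mem_inf.mpr ⟨x.2, ?_⟩
        rw [Subgroup.mem_centralizer_iff]
        rintro o ⟨o₀, ho₀, rfl⟩
        have := hx ⟨o₀, ho₀⟩
        have h2 := congrArg Subtype.val this
        rw [hsmul] at h2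
        show (o₀ : G) * (x : G) = (x : G) * (o₀ : G)
        calc (o₀ : G) * (x : G) = ((o₀ : G) * x * (o₀ : G)⁻¹) * (o₀ : G) := by group
          _ = (x : G) * (o₀ : G) := by rw [h2]
      rw [hX, Subgroup.mem_bot] at hxX
      exact Subtype.ext hxX
    have hone : (1 : ↥E) ∈ MulAction.fixedPoints ↥O ↥E := by
      rw [MulAction.mem_fixedPoints]
      intro o
      apply Subtype.ext
      rw [hsmul]
      simp
    have hcardfix : Nat.card (MulAction.fixedPoints ↥O ↥E) = 1 := by
      rw [Nat.card_eq_one_iff_unique]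
      refine ⟨⟨fun a b => ?_⟩, ⟨⟨1, hone⟩⟩⟩
      apply Subtype.ext
      rw [hfix a.1 a.2, hfix b.1 b.2]
    have hmod := hOq.card_modEq_card_fixedPoints ↥E
    rw [hcardfix] at hmod
    refine ⟨hmod, ?_⟩
    intro hqp
    subst hqp
    obtain ⟨n, hn⟩ := IsPGroup.iff_card.mp hLp
    have hn0 : n ≠ 0 := by
      intro h0
      rw [h0, pow_zero] at hn
      exact hL (Subgroup.card_eq_one.mp hn)
    have hq2 : 2 ≤ q := (Fact.out : q.Prime).two_le
    have : Nat.card ↥E % q = 1 % q := hmod
    rw [hn, Nat.mod_eq_of_lt (show 1 < q by omega)] at this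
    have h0 : q ^ n % q = 0 := Nat.mod_eq_zero_of_dvd (dvd_pow_self q hn0)
    omega

end Cfsg.Agent.S0587
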