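import Cfsg.Statements.S0588
import Mathlib.GroupTheory.Sylow
import Mathlib.GroupTheory.Perm.Cycle.Type

set_option autoImplicit false
open Cfsg

namespace Cfsg.Agent.S0588

/-- If a subgroup H of a finite group G contains the centralizer of every non-identity element of H, then the order of H is coprime to its index. -/
theorem result {G : Type*} [Group G] [Finite G] (H : Subgroup G) (h : ∀ x ∈ H, x ≠ 1 → Subgroup.centralizer ({x} : Set G) ≤ H) : (Nat.card H).Coprime H.index := by
  classical
  apply Nat.coprime_of_dvd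
  intro p hp hpH hpI
  have : Fact p.Prime := ⟨hp⟩
  obtain ⟨x, hx⟩ := exists_prime_orderOf_dvd_card' (G := H) p hpH
  have hx0 : orderOf (x : G) = p := by rw [Subgroup.orderOf_coe]; exact hx
  have hx1 : (x : G) ≠ 1 := by
    intro h1
    rw [h1, orderOf_one] at hx0
    exact hp.one_lt.ne hx0
  -- zpowers x is a p-group
  have hPg : IsPGroup p (Subgroup.zpowers (x : G)) := by
    apply IsPGroup.of_card (n := 1)
    rw [Nat.card_zpowers, hx0, pow_one]
  obtain ⟨S, hS⟩ := hPg.exists_le_sylow
  have hxS : (x : G) ∈ (S : Subgroup G) := hS (Subgroup.mem_zpowers _)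
  have : Nontrivial (S : Subgroup G) := by
    refine ⟨⟨⟨(x : G), hxS⟩, 1, ?_⟩⟩
    intro heq
    exact hx1 (congrArg Subtype.val heq)
  have := IsPGroup.center_nontrivial S.2
  obtain ⟨z, hz⟩ := exists_ne (1 : Subgroup.center (S : Subgroup G))
  have hz1 : ((z : (S : Subgroup G)) : G) ≠ 1 := by
    intro h1
    apply hz
    apply Subtype.ext
    apply Subtype.ext
    exact h1
  have hzc : ∀ s : (S : Subgroup G), s * (z : (S : Subgroup G)) = (z : (S : Subgroup G)) * s := by
    intro s
    exact (Subgroup.mem_center_iff.mp z.2 s)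
  -- z ∈ H
  have hzH : ((z : (S : Subgroup G)) : G) ∈ H := by
    apply h (x : G) x.2 hx1
    rw [Subgroup.mem_centralizer_singleton_iff]
    have := hzc ⟨(x : G), hxS⟩
    have := congrArg Subtype.val this
    simpa using this.symm
  -- S ≤ H
  have hSH : (S : Subgroup G) ≤ H := by
    intro s hs
    apply h _ hzH hz1
    rw [Subgroup.mem_centralizer_singleton_iff]
    have := hzc ⟨s, hs⟩
    have := congrArg Subtype.val this
    simpa using this
  have hdvd : H.index ∣ (S : Subgroup G).index := Subgroup.index_dvd_of_le hSH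
  exact S.not_dvd_index (hpI.trans hdvd)

end Cfsg.Agent.S0588
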