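import Cfsg.Statements.S0590

set_option autoImplicit false
open Cfsg

namespace Cfsg.Agent.S0590

/-- Quadratic action on an elementary abelian p-group forces the acting group modulo the kernel of the action to be elementary abelian. -/
theorem result {G : Type*} [Group G] [Finite G] {p : ℕ} [Fact p.Prime] (V H : Subgroup G) (hV : Cfsg.IsElementaryAbelian p V) (hHV : H ≤ Subgroup.normalizer (V : Set G)) (hq : ⁅⁅V, H⁆, H⁆ = ⊥) : ⁅H, H⁆ ≤ Subgroup.centralizer (V : Set G) ∧ ∀ a ∈ H, a ^ p ∈ Subgroup.centralizer (V : Set G) := by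
  obtain ⟨hVc, hVp⟩ := hV
  -- commutativity inside V
  have hcomm : ∀ x ∈ V, ∀ y ∈ V, x * y = y * x := by
    intro x hx y hy
    have := hVc.is_comm.comm (⟨x, hx⟩ : V) ⟨y, hy⟩
    exact congrArg Subtype.val this
  -- conjugation stays in V
  have hconj : ∀ a ∈ H, ∀ v ∈ V, a * v * a⁻¹ ∈ V := by
    intro a ha v hv
    exact ((Subgroup.mem_normalizer_iff.mp (hHV ha)) v).mp hv
  -- the commutator ⁅a, v⁆ lies in V and commutes with H
  have hcV : ∀ a ∈ H, ∀ v ∈ V, a * v * a⁻¹ * v⁻¹ ∈ V := by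
    intro a ha v hv
    exact V.mul_mem (hconj a ha v hv) (V.inv_mem hv)
  have hcent : ⁅V, H⁆ ≤ Subgroup.centralizer (H : Set G) :=
    Subgroup.commutator_eq_bot_iff_le_centralizer.mp hq
  have hcH : ∀ a ∈ H, ∀ v ∈ V, ∀ b ∈ H, b * (a * v * a⁻¹ * v⁻¹) = (a * v * a⁻¹ * v⁻¹) * b := by
    intro a ha v hv b hb
    have hmem : a * v * a⁻¹ * v⁻¹ ∈ ⁅V, H⁆ := by
      rw [Subgroup.commutator_comm]
      exact Subgroup.commutator_mem_commutator ha hv
    exact (Subgroup.mem_centralizer_iff.mp (hcent hmem)) b hb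
  -- key: conjugation by a*b and b*a agree on V
  have key : ∀ a ∈ H, ∀ b ∈ H, ∀ v ∈ V, a * b * v * (a * b)⁻¹ = b * a * v * (b * a)⁻¹ := by
    intro a ha b hb v hv
    set ca := a * v * a⁻¹ * v⁻¹ with hca
    set cb := b * v * b⁻¹ * v⁻¹ with hcb
    have eca : a * v * a⁻¹ = ca * v := by rw [hca]; group
    have ecb : b * v * b⁻¹ = cb * v := by rw [hcb]; group
    have h1 : a * cb = cb * a := hcH b hb v hv a ha
    have h2 : b * ca = ca * b := hcH a ha v hv b hb
    have h3 : ca * cb = cb * ca := hcomm _ (hcV a ha v hv) _ (hcV b hb v hv)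
    calc a * b * v * (a * b)⁻¹ = a * (b * v * b⁻¹) * a⁻¹ := by group
      _ = a * (cb * v) * a⁻¹ := by rw [ecb]
      _ = (a * cb) * (v * a⁻¹) := by group
      _ = (cb * a) * (v * a⁻¹) := by rw [h1]
      _ = cb * (a * v * a⁻¹) := by group
      _ = cb * (ca * v) := by rw [eca]
      _ = (cb * ca) * v := by group
      _ = (ca * cb) * v := by rw [h3]
      _ = ca * (cb * v) := by group
      _ = ca * (b * v * b⁻¹) := by rw [ecb]
      _ = (ca * b) * (v * b⁻¹) := by group
      _ = (b * ca) * (v * b⁻¹) := by rw [h2]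
      _ = b * (ca * v) * b⁻¹ := by group
      _ = b * (a * v * a⁻¹) * b⁻¹ := by rw [eca]
      _ = b * a * v * (b * a)⁻¹ := by group
  refine ⟨?_, ?_⟩
  · rw [Subgroup.commutator_le]
    intro a ha b hb
    rw [Subgroup.mem_centralizer_iff]
    intro v hv
    -- v' = (b*a)⁻¹ * v * (b*a)
    have hba : b * a ∈ H := H.mul_mem hb ha
    have hv' : (b * a)⁻¹ * v * (b * a) ∈ V := by
      have := hconj (b * a)⁻¹ (H.inv_mem hba) v hv
      simpa using this
    have hk := key a ha b hb _ hv'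
    have e1 : b * a * ((b * a)⁻¹ * v * (b * a)) * (b * a)⁻¹ = v := by group
    rw [e1] at hk
    -- hk : a * b * v' * (a*b)⁻¹ = v
    rw [commutatorElement_def]
    calc v * (a * b * a⁻¹ * b⁻¹) = (a * b * ((b * a)⁻¹ * v * (b * a)) * (a * b)⁻¹) * (a * b * a⁻¹ * b⁻¹) := by rw [hk]
      _ = a * b * a⁻¹ * b⁻¹ * v := by group
  · intro a ha
    rw [Subgroup.mem_centralizer_iff]
    intro v hv
    set ca := a * v * a⁻¹ * v⁻¹ with hca
    have eca : a * v * a⁻¹ = ca * v := by rw [hca]; group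
    have h1 : a * ca = ca * a := hcH a ha v hv a ha
    have hpow : ∀ k : ℕ, a ^ k * v * (a ^ k)⁻¹ = ca ^ k * v := by
      intro k
      induction k with
      | zero => simp
      | succ k ih =>
        have hc : a * ca ^ k = ca ^ k * a := by
          have : Commute a ca := h1
          exact (this.pow_right k).eq
        calc a ^ (k + 1) * v * (a ^ (k + 1))⁻¹ = a * (a ^ k * v * (a ^ k)⁻¹) * a⁻¹ := by
              rw [pow_succ']; group
          _ = a * (ca ^ k * v) * a⁻¹ := by rw [ih]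
          _ = (a * ca ^ k) * (v * a⁻¹) := by group
          _ = (ca ^ k * a) * (v * a⁻¹) := by rw [hc]
          _ = ca ^ k * (a * v * a⁻¹) := by group
          _ = ca ^ k * (ca * v) := by rw [eca]
          _ = ca ^ (k + 1) * v := by rw [pow_succ]; group
    have hcap : ca ^ p = 1 := hVp ca (hcV a ha v hv)
    have := hpow p
    rw [hcap, one_mul] at this
    calc v * a ^ p = (a ^ p * v * (a ^ p)⁻¹) * a ^ p := by rw [this]
      _ = a ^ p * v := by group

end Cfsg.Agent.S0590
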