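import Cfsg.Statements.S0591

set_option autoImplicit false
open Cfsg

namespace Cfsg.Agent.S0591

/-- For a quadratically acting element a on an elementary abelian p-group V, the fixed points C_V(a) have order at least the square root of the order of V. -/
theorem result {G : Type*} [Group G] [Finite G] {p : ℕ} [Fact p.Prime] (V : Subgroup G) (hV : Cfsg.IsElementaryAbelian p V) (a : G) (ha : a ∈ Subgroup.normalizer (V : Set G)) (hq : ⁅⁅V, Subgroup.zpowers a⁆, Subgroup.zpowers a⁆ = ⊥) : Nat.card V ≤ Nat.card ↥(V ⊓ Subgroup.centralizer (Subgroup.zpowers a : Set G)) ^ 2 := by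
  obtain ⟨hVc, -⟩ := hV
  have hcomm : ∀ x ∈ V, ∀ y ∈ V, x * y = y * x := by
    intro x hx y hy
    have := hVc.is_comm.comm (⟨x, hx⟩ : V) ⟨y, hy⟩
    exact congrArg Subtype.val this
  have hconj : ∀ v ∈ V, a * v * a⁻¹ ∈ V := by
    intro v hv
    exact ((Subgroup.mem_normalizer_iff.mp ha) v).mp hv
  have hcV : ∀ v ∈ V, a * v * a⁻¹ * v⁻¹ ∈ V := by
    intro v hv
    exact V.mul_mem (hconj v hv) (V.inv_mem hv)
  have hcent : ⁅V, Subgroup.zpowers a⁆ ≤ Subgroup.centralizer (Subgroup.zpowers a : Set G) :=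
    Subgroup.commutator_eq_bot_iff_le_centralizer.mp hq
  have hcC : ∀ v ∈ V, a * v * a⁻¹ * v⁻¹ ∈ Subgroup.centralizer (Subgroup.zpowers a : Set G) := by
    intro v hv
    apply hcent
    rw [Subgroup.commutator_comm]
    exact Subgroup.commutator_mem_commutator (Subgroup.mem_zpowers a) hv
  -- an element of V commuting with a lies in the centralizer of zpowers a
  have hmemC : ∀ v : G, a * v = v * a → v ∈ Subgroup.centralizer (Subgroup.zpowers a : Set G) := by
    intro v hva
    rw [Subgroup.mem_centralizer_iff]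
    intro h hh
    have hle : Subgroup.zpowers a ≤ Subgroup.centralizer ({v} : Set G) := by
      rw [Subgroup.zpowers_le, Subgroup.mem_centralizer_singleton_iff]
      exact hva
    exact ((Subgroup.mem_centralizer_singleton_iff).mp (hle hh))
  -- the homomorphism v ↦ ⁅a, v⁆
  let φ : V →* V := MonoidHom.mk' (fun v => ⟨a * v * a⁻¹ * (v : G)⁻¹, hcV v v.2⟩) (by
    intro v w
    apply Subtype.ext
    simp only [Subgroup.coe_mul]
    have h1 : (a * w * a⁻¹ * (w : G)⁻¹) * (v : G)⁻¹ = (v : G)⁻¹ * (a * w * a⁻¹ * (w : G)⁻¹) :=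
      hcomm _ (hcV w w.2) _ (V.inv_mem v.2)
    calc a * ((v : G) * w) * a⁻¹ * ((v : G) * w)⁻¹
        = (a * v * a⁻¹) * ((a * w * a⁻¹ * (w : G)⁻¹) * (v : G)⁻¹) := by group
      _ = (a * v * a⁻¹) * ((v : G)⁻¹ * (a * w * a⁻¹ * (w : G)⁻¹)) := by rw [h1]
      _ = a * v * a⁻¹ * (v : G)⁻¹ * (a * w * a⁻¹ * (w : G)⁻¹) := by group)
  have hφ : ∀ v : V, ((φ v : V) : G) = a * v * a⁻¹ * (v : G)⁻¹ := fun v => rfl
  set C := V ⊓ Subgroup.centralizer (Subgroup.zpowers a : Set G) with hC
  have hker : Nat.card φ.ker ≤ Nat.card C := by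
    refine Nat.card_le_card_of_injective (fun v => ⟨(v : V), ⟨(v : V).2, ?_⟩⟩) ?_
    · apply hmemC
      have hv := v.2
      rw [MonoidHom.mem_ker] at hv
      have := congrArg Subtype.val hv
      rw [hφ] at this
      simp only [Subgroup.coe_one] at this
      calc a * ((v : V) : G) = (a * ((v : V) : G) * a⁻¹ * (((v : V) : G))⁻¹) * ((v : V) : G) * a := by group
        _ = ((v : V) : G) * a := by rw [this, one_mul]
    · intro v w hvw
      apply Subtype.ext
      apply Subtype.ext
      exact congrArg (fun x : C => (x : G)) hvw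
  have hrange : Nat.card φ.range ≤ Nat.card C := by
    refine Nat.card_le_card_of_injective (fun v => ⟨(v : V), ⟨(v : V).2, ?_⟩⟩) ?_
    · obtain ⟨w, hw⟩ := v.2
      rw [← hw, hφ]
      exact hcC w w.2
    · intro v w hvw
      apply Subtype.ext
      apply Subtype.ext
      exact congrArg (fun x : C => (x : G)) hvw
  have hcard : Nat.card φ.ker * Nat.card φ.range = Nat.card V := by
    rw [← Subgroup.index_ker]
    exact Subgroup.card_mul_index _
  calc Nat.card V = Nat.card φ.ker * Nat.card φ.range := hcard.symm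
    _ ≤ Nat.card C * Nat.card C := Nat.mul_le_mul hker hrange
    _ = Nat.card C ^ 2 := by ring

end Cfsg.Agent.S0591
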