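import Cfsg.Statements.S0592
import Cfsg.Agent.Lib.Helper57.QuadPair

set_option autoImplicit false
open Cfsg

namespace Cfsg.Agent.S0592

open Cfsg.Agent.Lib.Helper57.QuadPair

/-- Two quadratically acting generators of a linear group that is not a p-group, with the p'-part of the order of their product dividing q - 1, give a homomorphism onto a subgroup of SL(2, q) that is not a p-group. -/
theorem result {K : Type*} [Field K] [Fintype K] {p : ℕ} [Fact p.Prime] [CharP K p] {W : Type*} [AddCommGroup W] [Module K W] [FiniteDimensional K W] [Finite W] [Nontrivial W] (H : Subgroup (W ≃ₗ[K] W)) (a b : W ≃ₗ[K] W) (hH : H = Subgroup.closure {a, b}) (ha : ∀ w : W, a (a w - w) = a w - w) (hb : ∀ w : W, b (b w - w) = b w - w) (hnp : ¬ IsPGroup p H) (hk : ∃ e k : ℕ, orderOf (a * b) = p ^ e * k ∧ k ∣ Fintype.card K - 1) : ∃ φ : H →* Matrix.SpecialLinearGroup (Fin 2) K, ¬ IsPGroup p φ.range := by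
  subst hH
  set H := Subgroup.closure {a, b} with hH
  have haH : a ∈ H := Subgroup.subset_closure (by simp)
  have hbH : b ∈ H := Subgroup.subset_closure (by simp)
  have hgen : Subgroup.closure {(⟨a, haH⟩ : H), ⟨b, hbH⟩} = ⊤ := by
    apply Subgroup.map_injective H.subtype_injective
    rw [MonoidHom.map_closure, ← MonoidHom.range_eq_map, Subgroup.range_subtype]
    have : (H.subtype '' {(⟨a, haH⟩ : H), ⟨b, hbH⟩}) = {a, b} := by
      rw [Set.image_pair]; rfl
    rw [this]
  obtain ⟨e, k, hord, hkq⟩ := hk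
  have hnp' : ∃ γ : H, ∀ m : ℕ, (H.subtype γ) ^ (p ^ m) ≠ 1 := by
    by_contra hcon
    push Not at hcon
    apply hnp
    intro γ
    obtain ⟨m, hm⟩ := hcon γ
    refine ⟨m, ?_⟩
    apply Subtype.ext
    rw [Subgroup.coe_pow]
    exact hm
  exact main (K := K) (p := p) (⟨a, haH⟩ : H) ⟨b, hbH⟩ hgen _ W H.subtype rfl ha hb
    ⟨e, k, by
      show (a * b) ^ (p ^ e * k) = 1
      rw [← hord]; exact pow_orderOf_eq_one _, hkq⟩ hnp'

end Cfsg.Agent.S0592
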