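import Cfsg.Statements.S0594
import Cfsg.Agent.Lib.Helper02.QuadCore

set_option autoImplicit false
open Cfsg

namespace Cfsg.Agent.S0594

open scoped commutatorElement
open Cfsg.Agent.Lib.Helper02

/-- For odd p, two quadratic generators of a faithful group that is not a p-group, one of which acts nontrivially on a normal subgroup of order prime to p, force p = 3 and a section isomorphic to SL(2,3). -/
theorem result {G : Type*} [Group G] [Finite G] {p : ℕ} [Fact p.Prime] (hp : p ≠ 2) (V H : Subgroup G) (hV : Cfsg.IsElementaryAbelian p V) (hHV : H ≤ Subgroup.normalizer (V : Set G)) (hf : H ⊓ Subgroup.centralizer (V : Set G) = ⊥) (a b : G) (hab : H = Subgroup.closure {a, b}) (ha : ⁅⁅V, Subgroup.zpowers a⁆, Subgroup.zpowers a⁆ = ⊥) (hb : ⁅⁅V, Subgroup.zpowers b⁆, Subgroup.zpowers b⁆ = ⊥) (hnp : ¬ IsPGroup p H) (Q : Subgroup G) (hQH : Q ≤ H) (hQn : H ≤ Subgroup.normalizer (Q : Set G)) (hQ : (Nat.card Q).Coprime p)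 (hQa : ⁅Q, Subgroup.zpowers a⁆ ≠ ⊥) : p = 3 ∧ ∃ (K L : Subgroup G) (hL : (L.subgroupOf K).Normal), K ≤ H ∧ Nonempty ((K ⧸ L.subgroupOf K) ≃* Matrix.SpecialLinearGroup (Fin 2) (ZMod 3)) := by
  classical
  have haH : a ∈ H := by rw [hab]; exact Subgroup.subset_closure (by simp)
  obtain ⟨x, hxQ, hxa⟩ : ∃ x ∈ Q, x * a ≠ a * x := by
    by_contra hcon
    push Not at hcon
    apply hQa
    rw [Subgroup.commutator_eq_bot_iff_le_centralizer]
    intro x hx
    rw [Subgroup.mem_centralizer_iff]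
    intro y hy
    obtain ⟨i, rfl⟩ := Subgroup.mem_zpowers_iff.mp hy
    have hc : Commute x a := hcon x hx
    exact (hc.zpow_right i).eq.symm
  set b' := x * a * x⁻¹ with hb'
  set c := x * a * x⁻¹ * a⁻¹ with hc
  have hxH : x ∈ H := hQH hxQ
  have hb'H : b' ∈ H := H.mul_mem (H.mul_mem hxH haH) (H.inv_mem hxH)
  have hcQ : c ∈ Q := by
    have haN := hQn haH
    have h1 : a * x⁻¹ * a⁻¹ ∈ Q := (Subgroup.mem_normalizer_iff.mp haN x⁻¹).mp (Q.inv_mem hxQ)
    have h2 : c = x * (a * x⁻¹ * a⁻¹) := by rw [hc]; group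
    rw [h2]; exact Q.mul_mem hxQ h1
  have hc1 : c ≠ 1 := by
    intro h
    apply hxa
    have h2 := congrArg (fun g => g * a * x) h
    simp only [hc, one_mul] at h2
    rw [← h2]; group
  set H₂ := Subgroup.closure {a, b'} with hH₂
  have hH₂H : H₂ ≤ H := by
    rw [hH₂, Subgroup.closure_le]
    intro s hs
    rcases hs with rfl | hs
    · exact haH
    · rw [Set.mem_singleton_iff] at hs
      rw [hs]; exact hb'H
  have haH₂ : a ∈ H₂ := Subgroup.subset_closure (by simp)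
  have hb'H₂ : b' ∈ H₂ := Subgroup.subset_closure (by simp)
  have hcb : c = b' * a⁻¹ := rfl
  have hcH₂ : c ∈ H₂ := by
    rw [hcb]; exact H₂.mul_mem hb'H₂ (H₂.inv_mem haH₂)
  have hcard : c ^ Nat.card Q = 1 := by
    have h3 : (⟨c, hcQ⟩ : Q) ^ Nat.card Q = 1 := pow_card_eq_one'
    have h5 := congrArg Subtype.val h3
    simp only [Subgroup.coe_pow, Subgroup.coe_one] at h5
    exact h5
  have hnp₂ : ¬ IsPGroup p H₂ := by
    intro hpg
    obtain ⟨k, hk⟩ := hpg ⟨c, hcH₂⟩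
    have hk' : c ^ p ^ k = 1 := by
      have h5 := congrArg Subtype.val hk
      simp only [Subgroup.coe_pow, Subgroup.coe_one] at h5
      exact h5
    have hcop : (Nat.card Q).Coprime (p ^ k) := Nat.Coprime.pow_right k hQ
    exact hc1 (QuadCore.eq_one_of_pow_of_coprime c hk' hcard hcop)
  have hHV₂ : H₂ ≤ Subgroup.normalizer (V : Set G) := hH₂H.trans hHV
  have hf₂ : H₂ ⊓ Subgroup.centralizer (V : Set G) = ⊥ := by
    rw [eq_bot_iff, ← hf]; exact inf_le_inf_right _ hH₂H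
  have hqb' : ⁅⁅V, Subgroup.zpowers b'⁆, Subgroup.zpowers b'⁆ = ⊥ :=
    Cfsg.Agent.Lib.Helper52.quadratic_conj V a x (hHV hxH) ha
  obtain ⟨E, _, _, _, ψ, hψ⟩ :=
    QuadInternal.exists_hom_SL2 V H₂ hV hHV₂ hf₂ a b' rfl ha hqb' hnp₂
  have hap : a ^ p = 1 :=
    Cfsg.Agent.Lib.Helper52.pow_p_eq_one_of_quadratic V H hV hf a haH (hHV haH) ha
  have hb'p : b' ^ p = 1 := by
    rw [hb', conj_pow, hap]; group
  have hca : c * a = b' := by rw [hcb]; group
  have hgen : Subgroup.closure {(⟨a, haH₂⟩ : H₂), (⟨c, hcH₂⟩ : H₂) * ⟨a, haH₂⟩} = ⊤ := by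
    have h1 := Cfsg.Agent.Lib.Helper52.closure_pair_subtype_eq_top a b' H₂ rfl haH₂ hb'H₂
    have h2 : (⟨c, hcH₂⟩ : H₂) * ⟨a, haH₂⟩ = ⟨b', hb'H₂⟩ := Subtype.ext hca
    rw [h2]; exact h1
  have hαp : (⟨a, haH₂⟩ : H₂) ^ p = 1 := Subtype.ext (by simpa using hap)
  have hcαp : ((⟨c, hcH₂⟩ : H₂) * ⟨a, haH₂⟩) ^ p = 1 := by
    apply Subtype.ext
    simp only [Subgroup.coe_pow, Subgroup.coe_mul, Subgroup.coe_one]
    rw [hca, hb'p]
  haveI hQ₂n : (Q.subgroupOf H₂).Normal :=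
    Subgroup.normal_subgroupOf_of_le_normalizer (hH₂H.trans hQn)
  have hQ₂cop : (Nat.card (Q.subgroupOf H₂)).Coprime p := by
    let f : Q.subgroupOf H₂ →* Q :=
      { toFun := fun g => ⟨g.1.1, g.2⟩
        map_one' := rfl
        map_mul' := fun _ _ => rfl }
    have hfi : Function.Injective f := by
      intro g h hgh
      have h1 : g.1.1 = h.1.1 := congrArg (fun q : Q => (q : G)) hgh
      exact Subtype.ext (Subtype.ext h1)
    exact Nat.Coprime.coprime_dvd_left (Subgroup.card_dvd_of_injective f hfi) hQ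
  haveI : Finite E := Finite.of_fintype E
  obtain ⟨h3, T, hT, ⟨e⟩⟩ := QuadCore.core_pprime hp (⟨a, haH₂⟩ : H₂) ⟨c, hcH₂⟩ hgen hαp hcαp
    (Q.subgroupOf H₂) hQ₂cop (Subgroup.mem_subgroupOf.mpr hcQ) ψ hψ
  refine ⟨h3, ?_⟩
  obtain ⟨K, L, hL, hK, hiso⟩ := QuadSection.section_of_hom H₂ ψ T hT e
  exact ⟨K, L, hL, hK.trans hH₂H, hiso⟩

end Cfsg.Agent.S0594
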