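import Cfsg.Statements.S0597
import Cfsg.Agent.Lib.Helper13.Wielandt
import Cfsg.Agent.Lib.Helper54.Subnormal
import Cfsg.Agent.Lib.Helper14.PAction
import Mathlib.Tactic.Group

set_option autoImplicit false
open Pointwise
open Cfsg

namespace Cfsg.Agent.S0597

open scoped commutatorElement

section aux

variable {G : Type*} [Group G]

/-- elements normalizing `V` and `W` and acting trivially on `V / W` -/
def quotCentralizer (V W : Subgroup G) : Subgroup G where
  carrier := {g | g ∈ Subgroup.normalizer (V : Set G) ∧ g ∈ Subgroup.normalizer (W : Set G) ∧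
    ∀ v ∈ V, ⁅g, v⁆ ∈ W}
  one_mem' := ⟨one_mem _, one_mem _, fun v _ => by
    rw [commutatorElement_one_left]; exact one_mem _⟩
  mul_mem' := by
    rintro g h ⟨hg1, hg2, hg3⟩ ⟨hh1, hh2, hh3⟩
    refine ⟨mul_mem hg1 hh1, mul_mem hg2 hh2, fun v hv => ?_⟩
    have : ⁅g * h, v⁆ = g * ⁅h, v⁆ * g⁻¹ * ⁅g, v⁆ := by
      simp only [commutatorElement_def]; group
    rw [this]
    exact mul_mem ((Subgroup.mem_normalizer_iff.mp hg2 _).mp (hh3 v hv)) (hg3 v hv)
  inv_mem' := by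
    rintro g ⟨hg1, hg2, hg3⟩
    refine ⟨inv_mem hg1, inv_mem hg2, fun v hv => ?_⟩
    have : ⁅g⁻¹, v⁆ = g⁻¹ * ⁅g, v⁆⁻¹ * g⁻¹⁻¹ := by
      simp only [commutatorElement_def]; group
    rw [this]
    exact (Subgroup.mem_normalizer_iff.mp (inv_mem hg2) _).mp (inv_mem (hg3 v hv))

theorem conj_mem_quotCentralizer {V W : Subgroup G} {n g : G}
    (hn1 : n ∈ Subgroup.normalizer (V : Set G)) (hn2 : n ∈ Subgroup.normalizer (W : Set G))
    (hg : g ∈ quotCentralizer V W) : n * g * n⁻¹ ∈ quotCentralizer V W := by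
  obtain ⟨hg1, hg2, hg3⟩ := hg
  refine ⟨mul_mem (mul_mem hn1 hg1) (inv_mem hn1), mul_mem (mul_mem hn2 hg2) (inv_mem hn2),
    fun v hv => ?_⟩
  have hv' : n⁻¹ * v * n⁻¹⁻¹ ∈ V := (Subgroup.mem_normalizer_iff.mp (inv_mem hn1) _).mp hv
  have : ⁅n * g * n⁻¹, v⁆ = n * ⁅g, n⁻¹ * v * n⁻¹⁻¹⁆ * n⁻¹ := by
    simp only [commutatorElement_def]; group
  rw [this]
  exact (Subgroup.mem_normalizer_iff.mp hn2 _).mp (hg3 _ hv')

theorem pow_conj_eq {V W : Subgroup G} {y : G} (hy : y ∈ quotCentralizer V W)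
    (hyc : y ∈ Subgroup.centralizer (W : Set G)) {v : G} (hv : v ∈ V) (k : ℕ) :
    y ^ k * v * (y ^ k)⁻¹ = ⁅y, v⁆ ^ k * v := by
  induction k with
  | zero => simp
  | succ k ih =>
    have hw : ⁅y, v⁆ ∈ W := hy.2.2 v hv
    have hc : ⁅y, v⁆ ^ k * y = y * ⁅y, v⁆ ^ k :=
      (Subgroup.mem_centralizer_iff.mp hyc _ (pow_mem hw k))
    calc y ^ (k + 1) * v * (y ^ (k + 1))⁻¹ = y * (y ^ k * v * (y ^ k)⁻¹) * y⁻¹ := by
          rw [pow_succ']; group
      _ = y * (⁅y, v⁆ ^ k * v) * y⁻¹ := by rw [ih]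
      _ = (y * ⁅y, v⁆ ^ k) * v * y⁻¹ := by group
      _ = (⁅y, v⁆ ^ k * y) * v * y⁻¹ := by rw [hc]
      _ = ⁅y, v⁆ ^ k * ⁅y, v⁆ * v := by simp only [commutatorElement_def]; group
      _ = ⁅y, v⁆ ^ (k + 1) * v := by rw [pow_succ]

end aux

/-- If two subnormal subgroups of a faithful group on an elementary abelian p-group satisfy [V, E₁, E₂] = 1, then their commutator lies in the largest normal p-subgroup. -/
theorem result {G : Type*} [Group G] [Finite G] {p : ℕ} [Fact p.Prime] (V H : Subgroup G) (hV : Cfsg.IsElementaryAbelian p V) (hHV : H ≤ Subgroup.normalizer (V : Set G)) (hf : H ⊓ Subgroup.centralizer (V : Set G) = ⊥) (E₁ E₂ : Subgroup G) (h₁ : E₁ ≤ H) (h₂ : E₂ ≤ H) (hs₁ : (E₁.subgroupOf H).IsSubnormal) (hs₂ : (E₂.subgroupOf H).IsSubnormal) (hc : ⁅⁅V, E₁⁆, E₂⁆ = ⊥) : ⁅E₁, E₂⁆ ≤ (Cfsg.pCore p H).map H.subtype := by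
  set W : Subgroup G := ⁅V, E₁⁆ with hW
  set Y : Subgroup G := ⁅E₁, E₂⁆ with hY
  have hYH : Y ≤ H := Subgroup.commutator_le.mpr fun a ha b hb =>
    H.mul_mem (H.mul_mem (H.mul_mem (h₁ ha) (h₂ hb)) (H.inv_mem (h₁ ha))) (H.inv_mem (h₂ hb))
  have hWV : W ≤ V := by
    rw [hW, Subgroup.commutator_le]
    intro v hv e he
    have := (Subgroup.mem_normalizer_iff.mp (hHV (h₁ he)) _).mp (inv_mem hv)
    rw [commutatorElement_def, mul_assoc, mul_assoc]
    rw [← mul_assoc e] 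
    exact V.mul_mem hv this
  -- E₂ centralizes W
  have hE₂W : E₂ ≤ Subgroup.centralizer (W : Set G) :=
    Subgroup.commutator_eq_bot_iff_le_centralizer.mp (by rw [Subgroup.commutator_comm]; exact hc)
  have hE₂NW : E₂ ≤ Subgroup.normalizer (W : Set G) :=
    hE₂W.trans (Subgroup.centralizer_le_normalizer _)
  have hE₁NW : E₁ ≤ Subgroup.normalizer (W : Set G) := by
    intro e he
    rw [Subgroup.mem_normalizer_iff_map_conj_eq, hW, Subgroup.map_commutator]
    have e1 : V.map (MulAut.conj e : G →* G) = V :=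
      Subgroup.mem_normalizer_iff_map_conj_eq.mp (hHV (h₁ he))
    have e2 : E₁.map (MulAut.conj e : G →* G) = E₁ :=
      Subgroup.mem_normalizer_iff_map_conj_eq.mp (Subgroup.le_normalizer he)
    rw [e1, e2]
  have hE₁D : E₁ ≤ quotCentralizer V W := by
    intro e he
    refine ⟨hHV (h₁ he), hE₁NW he, fun v hv => ?_⟩
    rw [hW, Subgroup.commutator_comm]
    exact Subgroup.commutator_mem_commutator he hv
  -- Y lies in the stability group
  have hYD : Y ≤ quotCentralizer V W ⊓ Subgroup.centralizer (W : Set G) := by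
    rw [hY, Subgroup.commutator_le]
    intro a ha b hb
    constructor
    · have h1 : b * a⁻¹ * b⁻¹ ∈ quotCentralizer V W :=
        conj_mem_quotCentralizer (hHV (h₂ hb)) (hE₂NW hb) (hE₁D (inv_mem ha))
      have : ⁅a, b⁆ = a * (b * a⁻¹ * b⁻¹) := by rw [commutatorElement_def]; group
      rw [this]
      exact mul_mem (hE₁D ha) h1
    · have h1 : a * b * a⁻¹ ∈ Subgroup.centralizer (W : Set G) :=
        Cfsg.Agent.Lib.Helper14.conj_mem_centralizer_of_mem_normalizer (hE₁NW ha) (hE₂W hb)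
      rw [commutatorElement_def]
      exact Subgroup.mul_mem _ h1 (Subgroup.inv_mem _ (hE₂W hb))
  -- every element of Y has order dividing p
  have hYp : ∀ y ∈ Y, y ^ p = 1 := by
    intro y hy
    have hyH : y ^ p ∈ H := pow_mem (hYH hy) p
    have hyC : y ^ p ∈ Subgroup.centralizer (V : Set G) := by
      rw [Subgroup.mem_centralizer_iff]
      intro v hv
      have h1 := pow_conj_eq (hYD hy).1 (hYD hy).2 hv p
      have h2 : ⁅y, v⁆ ^ p = 1 := hV.2 _ (hWV ((hYD hy).1.2.2 v hv))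
      rw [h2, one_mul] at h1
      calc v * y ^ p = (y ^ p * v * (y ^ p)⁻¹) * y ^ p := by rw [h1]
        _ = y ^ p * v := by group
    have : y ^ p ∈ H ⊓ Subgroup.centralizer (V : Set G) := ⟨hyH, hyC⟩
    rw [hf] at this
    exact Subgroup.mem_bot.mp this
  -- Y is normalized by E₁ and E₂
  have hconj₁ : ∀ e ∈ E₁, ∀ y ∈ Y, e * y * e⁻¹ ∈ Y := by
    intro e he
    have : Y ≤ Y.comap (MulAut.conj e : G →* G) := by
      rw [hY, Subgroup.commutator_le]
      intro a ha b hb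
      rw [Subgroup.mem_comap]
      have : (MulAut.conj e : G →* G) ⁅a, b⁆ = ⁅e * a, b⁆ * ⁅e, b⁆⁻¹ := by
        simp only [MonoidHom.coe_coe, MulAut.conj_apply, commutatorElement_def]; group
      rw [this]
      exact mul_mem (Subgroup.commutator_mem_commutator (mul_mem he ha) hb)
        (inv_mem (Subgroup.commutator_mem_commutator he hb))
    intro y hy
    exact this hy
  have hconj₂ : ∀ e ∈ E₂, ∀ y ∈ Y, e * y * e⁻¹ ∈ Y := by
    intro e he
    have : Y ≤ Y.comap (MulAut.conj e : G →* G) := by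
      rw [hY, Subgroup.commutator_le]
      intro a ha b hb
      rw [Subgroup.mem_comap]
      have : (MulAut.conj e : G →* G) ⁅a, b⁆ = ⁅a, e⁆⁻¹ * ⁅a, e * b⁆ := by
        simp only [MonoidHom.coe_coe, MulAut.conj_apply, commutatorElement_def]; group
      rw [this]
      exact mul_mem (inv_mem (Subgroup.commutator_mem_commutator ha he))
        (Subgroup.commutator_mem_commutator ha (mul_mem he hb))
    intro y hy
    exact this hy
  have hnorm : ∀ K : Subgroup G, (∀ e ∈ K, ∀ y ∈ Y, e * y * e⁻¹ ∈ Y) →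
      K ≤ Subgroup.normalizer (Y : Set G) := by
    intro K hK e he
    rw [Subgroup.mem_normalizer_iff]
    intro y
    refine ⟨hK e he y, fun h => ?_⟩
    have := hK e⁻¹ (inv_mem he) _ h
    have e1 : e⁻¹ * (e * y * e⁻¹) * e⁻¹⁻¹ = y := by group
    rwa [e1] at this
  have hJN : E₁ ⊔ E₂ ≤ Subgroup.normalizer (Y : Set G) :=
    sup_le (hnorm E₁ hconj₁) (hnorm E₂ hconj₂)
  have hYJ : Y ≤ E₁ ⊔ E₂ := by
    rw [hY, Subgroup.commutator_le]
    intro a ha b hb
    have ha' : a ∈ E₁ ⊔ E₂ := (le_sup_left : E₁ ≤ E₁ ⊔ E₂) ha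
    have hb' : b ∈ E₁ ⊔ E₂ := (le_sup_right : E₂ ≤ E₁ ⊔ E₂) hb
    rw [commutatorElement_def]
    exact mul_mem (mul_mem (mul_mem ha' hb') (inv_mem ha')) (inv_mem hb')
  -- subnormality
  have hJsub : ((E₁ ⊔ E₂).subgroupOf H).IsSubnormal := by
    rw [Subgroup.subgroupOf_sup h₁ h₂]
    exact Cfsg.Agent.Lib.Helper13.isSubnormal_sup _ _ hs₁ hs₂
  have hle : Y.subgroupOf H ≤ (E₁ ⊔ E₂).subgroupOf H := fun x hx => hYJ hx
  have hYsub : (Y.subgroupOf H).IsSubnormal := by
    refine Subgroup.IsSubnormal.step _ _ hle hJsub ?_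
    rw [Subgroup.normal_subgroupOf_iff_le_normalizer hle]
    intro j hj
    rw [Subgroup.mem_normalizer_iff]
    intro y
    have := Subgroup.mem_normalizer_iff.mp (hJN hj) (y : G)
    exact this
  have hYpg : IsPGroup p ↥(Y.subgroupOf H) := by
    intro g
    refine ⟨1, ?_⟩
    rw [pow_one]
    apply Subtype.ext
    apply Subtype.ext
    have := hYp (g : H) g.2
    simpa using this
  have hfin := Cfsg.Agent.Lib.Helper54.le_pCore_of_isSubnormal_of_isPGroup hYsub hYpg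
  intro y hy
  exact ⟨⟨y, hYH hy⟩, hfin hy, rfl⟩

end Cfsg.Agent.S0597
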