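import Cfsg.Statements.S0599
import Cfsg.Agent.Lib.Helper14.Timmesfeld
import Cfsg.Agent.Lib.Helper14.PAction

set_option autoImplicit false
open Cfsg

namespace Cfsg.Agent.S0599

open Cfsg.Agent.Lib.Helper14

/-- The Timmesfeld replacement Theorem: replacing a best offender A by C_A([U, A]) gives a best offender with fixed points [U, A]C_V(A), still nontrivial on V if A was. -/
theorem result {G : Type*} [Group G] [Finite G] {p : ℕ} [Fact p.Prime] (V A : Subgroup G) (hV : Cfsg.IsElementaryAbelian p V) (hAV : A ≤ Subgroup.normalizer (V : Set G)) (hA : Cfsg.IsBestOffenderOn p V A) (U : Subgroup G) (hU : U ≤ V) : Cfsg.IsBestOffenderOn p V (A ⊓ Subgroup.centralizer ((⁅U, A⁆ : Subgroup G) : Set G)) ∧ V ⊓ Subgroup.centralizer ((A ⊓ Subgroup.centralizer ((⁅U, A⁆ : Subgroup G) : Set G) : Subgroup G) : Set G) = ⁅U, A⁆ ⊔ (V ⊓ Subgroup.centralizer (A : Set G)) ∧ (⁅V, A⁆ ≠ ⊥ → ⁅V, A ⊓ Subgroup.centralizer ((⁅U, A⁆ : Subgroup G) : Set G)⁆ ≠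 ⊥) := by
  obtain ⟨hmax, hab, hpow⟩ := hA
  have hmax' : ∀ Z : Subgroup G, Z ≤ A → offF V Z ≤ offF V A := hmax
  obtain ⟨h1, h2⟩ := timmesfeld_main hV.1 hAV hab hmax' hU
  set B := A ⊓ Subgroup.centralizer ((⁅U, A⁆ : Subgroup G) : Set G) with hB
  have hBA : B ≤ A := inf_le_left
  refine ⟨⟨?_, ?_, ?_⟩, h2, ?_⟩
  · intro X hX
    have := hmax' X (hX.trans hBA)
    rw [← h1] at this
    exact this
  · exact (Subgroup.commutator_mono hBA hBA).trans hab
  · intro b hb
    exact hpow b (hBA hb)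
  · intro hne hbot
    apply hne
    have hVB : V ≤ Subgroup.centralizer (B : Set G) :=
      Subgroup.commutator_eq_bot_iff_le_centralizer.mp hbot
    have hVeq : V ⊓ Subgroup.centralizer (B : Set G) = V := inf_eq_left.mpr hVB
    rw [hVeq] at h2
    apply commutator_eq_bot_of_le_commutator_sup_fixed hV.1 hV.2 hAV hpow
    calc V = ⁅U, A⁆ ⊔ (V ⊓ Subgroup.centralizer (A : Set G)) := h2
      _ ≤ ⁅V, A⁆ ⊔ (V ⊓ Subgroup.centralizer (A : Set G)) :=
          sup_le_sup_right (Subgroup.commutator_mono hU le_rfl) _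

end Cfsg.Agent.S0599
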