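import Mathlib
import Cfsg.Statements.S0604
import Cfsg.Agent.Lib.Helper99.Thompson

set_option autoImplicit false
open Cfsg

namespace Cfsg.Agent.S0604

open Cfsg.Agent.Lib.Helper99

/-- The Thompson subgroup of G is the join of the Thompson subgroups of its Sylow p-subgroups. -/
theorem result {G : Type*} [Group G] [Finite G] {p : ℕ} [Fact p.Prime] : Cfsg.thompsonSubgroup p G = ⨆ S : Sylow p G, Cfsg.thompsonSubgroupOf p (S : Subgroup G) := by
  obtain ⟨A₀, hA₀⟩ := maxEA_nonempty (G := G) (p := p)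
  obtain ⟨S₀, hS₀⟩ := (isEA_isPGroup hA₀.1).exists_le_sylow
  -- every Sylow subgroup contains a maximal elementary abelian subgroup
  have hS : ∀ S : Sylow p G, ∃ A ∈ maxElementaryAbelianSubgroups p G, A ≤ (S : Subgroup G) := by
    intro S
    obtain ⟨g, hg⟩ := MulAction.exists_smul_eq G S₀ S
    refine ⟨A₀.map (MulAut.conj g).toMonoidHom, maxEA_map_equiv (MulAut.conj g) hA₀, ?_⟩
    rw [← hg, Sylow.coe_subgroup_smul, Subgroup.pointwise_smul_def]
    exact Subgroup.map_mono hS₀
  apply le_antisymm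
  · unfold thompsonSubgroup
    apply sSup_le
    intro A hA
    obtain ⟨S, hAS⟩ := (isEA_isPGroup hA.1).exists_le_sylow
    refine le_trans ?_ (le_iSup _ S)
    rw [thompsonSubgroupOf_eq _ (hS S)]
    exact le_sSup ⟨hA, hAS⟩
  · apply iSup_le
    intro S
    rw [thompsonSubgroupOf_eq _ (hS S)]
    apply sSup_le
    rintro B ⟨hB, _⟩
    exact le_thompson hB

end Cfsg.Agent.S0604
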