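import Cfsg.Statements.S0609
import Cfsg.Agent.Lib.Helper15.TransportInj
import Cfsg.Agent.Lib.Helper15.Cores

set_option autoImplicit false
open Cfsg
open Cfsg.Agent.Lib.Helper15

namespace Cfsg.Agent.S0609

/-- Thompson factorizability passes to and from the quotient by the largest normal subgroup of order prime to p. -/
theorem result {G : Type*} [Group G] [Finite G] {p : ℕ} [Fact p.Prime] : Cfsg.IsThompsonFactorizable p G ↔ Cfsg.IsThompsonFactorizable p (G ⧸ Cfsg.pPrimeCore p G) := by
  have hbot : pPrimeCore p (G ⧸ pPrimeCore p G) = ⊥ :=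
    Cfsg.Agent.Lib.Helper81.pPrimeCore_quotient_eq_bot p
  have hNc : (Nat.card (pPrimeCore p G)).Coprime p :=
    Cfsg.Agent.Lib.Helper81.card_pPrimeCore_coprime p
  have hsurj : Function.Surjective (QuotientGroup.mk' (pPrimeCore p G)) :=
    QuotientGroup.mk'_surjective _
  -- key transport facts for a Sylow subgroup S
  have hdisj : ∀ S : Sylow p G, (S : Subgroup G) ⊓ (QuotientGroup.mk' (pPrimeCore p G)).ker = ⊥ := by
    intro S
    rw [QuotientGroup.ker_mk']
    exact isPGroup_inf_coprime_eq_bot S.isPGroup' hNc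
  have hZ : ∀ S : Sylow p G,
      Subgroup.centralizer ((Cfsg.omegaOne p (((S : Subgroup G).map (QuotientGroup.mk' (pPrimeCore p G))) ⊓
        Subgroup.centralizer (((S : Subgroup G).map (QuotientGroup.mk' (pPrimeCore p G)) :
          Subgroup (G ⧸ pPrimeCore p G)) : Set (G ⧸ pPrimeCore p G))) : Subgroup (G ⧸ pPrimeCore p G)) :
            Set (G ⧸ pPrimeCore p G)) =
      (Subgroup.centralizer ((Cfsg.omegaOne p ((S : Subgroup G) ⊓
        Subgroup.centralizer ((S : Subgroup G) : Set G)) : Subgroup G) : Set G)).map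
          (QuotientGroup.mk' (pPrimeCore p G)) := by
    intro S
    have hle : (S : Subgroup G) ⊓ Subgroup.centralizer ((S : Subgroup G) : Set G) ≤ S := inf_le_left
    have hd2 : ((S : Subgroup G) ⊓ Subgroup.centralizer ((S : Subgroup G) : Set G)) ⊓
        (QuotientGroup.mk' (pPrimeCore p G)).ker = ⊥ := by
      rw [eq_bot_iff, ← hdisj S]
      exact inf_le_inf_right _ hle
    have hZp : IsPGroup p (Cfsg.omegaOne p ((S : Subgroup G) ⊓
        Subgroup.centralizer ((S : Subgroup G) : Set G))) :=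
      S.isPGroup'.to_le ((omegaOne_le p _).trans hle)
    rw [← map_inf_centralizer_of_disjoint _ _ (hdisj S), ← omegaOne_map_of_disjoint p _ _ hd2,
      centralizer_map_mk_of_coprime _ hNc _ hZp]
  have hJ : ∀ S : Sylow p G,
      Subgroup.normalizer ((Cfsg.thompsonSubgroupOf p ((S : Subgroup G).map
        (QuotientGroup.mk' (pPrimeCore p G))) : Subgroup (G ⧸ pPrimeCore p G)) :
          Set (G ⧸ pPrimeCore p G)) =
      (Subgroup.normalizer ((Cfsg.thompsonSubgroupOf p (S : Subgroup G) : Subgroup G) : Set G)).map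
        (QuotientGroup.mk' (pPrimeCore p G)) := by
    intro S
    have hJp : IsPGroup p (Cfsg.thompsonSubgroupOf p (S : Subgroup G)) :=
      S.isPGroup'.to_le (thompsonSubgroupOf_le p _)
    rw [← thompsonSubgroupOf_map_of_disjoint p _ _ (hdisj S),
      normalizer_map_mk_of_coprime _ hNc _ hJp]
  constructor
  · intro hF Sb gb
    obtain ⟨S, rfl⟩ := Sylow.mapSurjective_surjective hsurj p Sb
    obtain ⟨g, rfl⟩ := hsurj gb
    obtain ⟨x, hx, c, hc, n, hn, rfl⟩ := hF S g
    refine ⟨1, Subgroup.one_mem _, QuotientGroup.mk' _ c, ?_, QuotientGroup.mk' _ n, ?_, ?_⟩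
    · rw [Sylow.coe_mapSurjective, hZ S]
      exact Subgroup.mem_map_of_mem _ hc
    · rw [Sylow.coe_mapSurjective, hJ S]
      exact Subgroup.mem_map_of_mem _ hn
    · have h1 : QuotientGroup.mk' (pPrimeCore p G) x = 1 := (QuotientGroup.eq_one_iff x).mpr hx
      simp only [map_mul, h1]
  · intro hF S g
    obtain ⟨xb, hxb, cb, hcb, nb, hnb, hfac⟩ := hF (S.mapSurjective hsurj) (QuotientGroup.mk' _ g)
    rw [hbot, Subgroup.mem_bot] at hxb
    subst hxb
    rw [Sylow.coe_mapSurjective, hZ S] at hcb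
    rw [Sylow.coe_mapSurjective, hJ S] at hnb
    obtain ⟨c, hc, rfl⟩ := hcb
    obtain ⟨n, hn, rfl⟩ := hnb
    refine ⟨g * (c * n)⁻¹, ?_, c, hc, n, hn, by group⟩
    rw [← QuotientGroup.eq_one_iff]
    have : ((g * (c * n)⁻¹ : G) : G ⧸ pPrimeCore p G) =
        QuotientGroup.mk' (pPrimeCore p G) g * (QuotientGroup.mk' (pPrimeCore p G) c *
          QuotientGroup.mk' (pPrimeCore p G) n)⁻¹ := by simp
    rw [this, hfac]; group

end Cfsg.Agent.S0609
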