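import Cfsg.Statements.S0611
import Cfsg.Agent.Lib.Helper52.FFBridge
import Cfsg.Agent.Lib.Helper52.CommHom

set_option autoImplicit false
open Cfsg

namespace Cfsg.Agent.S0611

/-- Minimal nontrivially-acting best offenders in such a faithful group have order p, commutator [V, B] of order p and fixed points of index p. -/
theorem result {G : Type*} [Group G] [Finite G] {p : ℕ} [Fact p.Prime] (V H : Subgroup G) (hV : Cfsg.IsElementaryAbelian p V) (hHV : H ≤ Subgroup.normalizer (V : Set G)) (hf : H ⊓ Subgroup.centralizer (V : Set G) = ⊥) (hS1 : Subgroup.centralizer (Cfsg.pPrimeCore p ↥H : Set ↥H) ≤ Cfsg.pPrimeCore p ↥H) (hS3 : H = ⨆ A : {A : Subgroup G // A ≤ H ∧ Cfsg.IsBestOffenderOn p V A}, (A : Subgroup G)) (hH1 : H ≠ ⊥) (A : Subgroup G) (hAH : A ≤ H) (hA : Cfsg.IsBestOffenderOn p V A) (hAV : ⁅V, A⁆ ≠ ⊥) (hmin : ∀ B : Subgroup G, B ≤ A → Cfsg.IsBestOffenderOn p V B → ⁅V, B⁆ ≠ ⊥ → B = A) : Nat.card A = p ∧ Nat.card ↥(⁅V,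 A⁆) = p ∧ ((V ⊓ Subgroup.centralizer (A : Set G))).relIndex V = p := by
  have hS := Cfsg.Agent.Lib.Helper52.ff_setup hV hHV hf
  have hAct := Cfsg.Agent.Lib.Helper52.ff_acts_of_best hHV hf hS1 hAH hA
  have htight := Cfsg.Agent.Lib.Helper52.ff_best_tight hV hHV hf hS1 hAH hA
  have hp := (Fact.out : p.Prime)
  obtain ⟨k, B, hcard, hB, -, hsup⟩ := Cfsg.Agent.Lib.Helper52.ff_decomp hS hAct htight
  have hA1 : A ≠ ⊥ := by
    rintro rfl
    apply hAV
    rw [eq_bot_iff, Subgroup.commutator_le]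
    intro v _ c hc
    rw [Subgroup.mem_bot] at hc
    subst hc
    simp
  have hk : 0 < k := by
    rcases Nat.eq_zero_or_pos k with h | h
    · exfalso
      subst h
      rw [pow_zero] at hcard
      exact hA1 ((Subgroup.card_eq_one).mp hcard)
    · exact h
  obtain ⟨hBA, hBp, hBt⟩ := hB ⟨0, hk⟩
  have hne : ⁅V, B ⟨0, hk⟩⁆ ≠ ⊥ := by
    intro h
    rw [Subgroup.commutator_eq_bot_iff_le_centralizer] at h
    have h1 : B ⟨0, hk⟩ ≤ Subgroup.centralizer (V : Set G) := Subgroup.le_centralizer_iff.mp h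
    have h2 : B ⟨0, hk⟩ ≤ H ⊓ Subgroup.centralizer (V : Set G) := le_inf (hBA.trans hAH) h1
    rw [hf, le_bot_iff] at h2
    rw [h2, Subgroup.card_bot] at hBp
    exact hp.one_lt.ne hBp
  have hBA' : B ⟨0, hk⟩ = A :=
    hmin _ hBA (Cfsg.Agent.Lib.Helper52.ff_best_of_tight hV hHV hf (hAct.mono hBA) hBt) hne
  rw [hBA'] at hBp
  have hVc : ∀ x ∈ V, ∀ y ∈ V, x * y = y * x := by
    intro x hx y hy
    have := hV.1.is_comm.comm ⟨x, hx⟩ ⟨y, hy⟩
    exact congrArg Subtype.val this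
  -- `A` is cyclic, generated by some `a`
  obtain ⟨a, haA, ha⟩ : ∃ a ∈ A, Subgroup.zpowers a = A := by
    haveI : Fact (Nat.card A).Prime := ⟨hBp ▸ hp⟩
    obtain ⟨g, hg⟩ := (isCyclic_of_prime_card (α := A) rfl).exists_generator
    refine ⟨(g : G), g.2, ?_⟩
    apply le_antisymm
    · exact Subgroup.zpowers_le.mpr g.2
    · intro x hx
      obtain ⟨n, hn⟩ := Subgroup.mem_zpowers_iff.mp (hg ⟨x, hx⟩)
      rw [Subgroup.mem_zpowers_iff]
      exact ⟨n, by simpa using congrArg Subtype.val hn⟩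
  have hcm := Cfsg.Agent.Lib.Helper52.card_commutator_zpowers_mul V hVc a (hHV (hAH haA))
  rw [ha] at hcm
  rw [hBp] at htight
  have hCpos : 0 < Nat.card ↥(V ⊓ Subgroup.centralizer (A : Set G)) := Nat.card_pos
  have h1 : Nat.card ↥⁅V, A⁆ = p := by
    have : Nat.card ↥⁅V, A⁆ * Nat.card ↥(V ⊓ Subgroup.centralizer (A : Set G)) =
        p * Nat.card ↥(V ⊓ Subgroup.centralizer (A : Set G)) := by rw [hcm, htight]
    exact Nat.eq_of_mul_eq_mul_right hCpos this
  refine ⟨hBp, h1, ?_⟩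
  have h2 : Nat.card ↥(V ⊓ Subgroup.centralizer (A : Set G)) *
      (V ⊓ Subgroup.centralizer (A : Set G)).relIndex V = Nat.card V := by
    rw [← Subgroup.relIndex_bot_left, ← Subgroup.relIndex_bot_left]
    exact Subgroup.relIndex_mul_relIndex _ _ _ bot_le inf_le_left
  rw [← htight, mul_comm] at h2
  exact Nat.eq_of_mul_eq_mul_right hCpos (by rw [mul_comm] at h2; rw [mul_comm]; exact h2)

end Cfsg.Agent.S0611
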