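import Cfsg.Statements.S0612
import Cfsg.Agent.Lib.Helper52.FFBridge

set_option autoImplicit false
open Cfsg

namespace Cfsg.Agent.S0612

/-- In such a faithful group every nontrivial best offender decomposes as a direct product of minimal nontrivially-acting best offenders. -/
theorem result {G : Type*} [Group G] [Finite G] {p : ℕ} [Fact p.Prime] (V H : Subgroup G) (hV : Cfsg.IsElementaryAbelian p V) (hHV : H ≤ Subgroup.normalizer (V : Set G)) (hf : H ⊓ Subgroup.centralizer (V : Set G) = ⊥) (hS1 : Subgroup.centralizer (Cfsg.pPrimeCore p ↥H : Set ↥H) ≤ Cfsg.pPrimeCore p ↥H) (hS3 : H = ⨆ A : {A : Subgroup G // A ≤ H ∧ Cfsg.IsBestOffenderOn p V A}, (A : Subgroup G)) (hH1 : H ≠ ⊥) (A : Subgroup G) (hAH : A ≤ H) (hA : Cfsg.IsBestOffenderOn p V A) (hA1 : A ≠ ⊥) : ∃ (k : ℕ) (B : Fin k → Subgroup G), (∀ i, B i ≤ A ∧ Cfsg.IsBestOffenderOn p V (B i) ∧ ⁅V, B i⁆ ≠ ⊥ ∧ ∀ C : Subgroup G, C ≤ B i → Cfsg.IsBestOffenderOn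 p V C → ⁅V, C⁆ ≠ ⊥ → C = B i) ∧ iSupIndep B ∧ ⨆ i, B i = A := by
  have hS := Cfsg.Agent.Lib.Helper52.ff_setup hV hHV hf
  have hAct := Cfsg.Agent.Lib.Helper52.ff_acts_of_best hHV hf hS1 hAH hA
  have htight := Cfsg.Agent.Lib.Helper52.ff_best_tight hV hHV hf hS1 hAH hA
  obtain ⟨k, B, -, hB, hind, hsup⟩ := Cfsg.Agent.Lib.Helper52.ff_decomp hS hAct htight
  refine ⟨k, B, fun i => ?_, hind, hsup⟩
  obtain ⟨hBA, hBp, hBt⟩ := hB i
  have hne : ⁅V, B i⁆ ≠ ⊥ := by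
    intro h
    rw [Subgroup.commutator_eq_bot_iff_le_centralizer] at h
    have h1 : B i ≤ Subgroup.centralizer (V : Set G) := Subgroup.le_centralizer_iff.mp h
    have h2 : B i ≤ H ⊓ Subgroup.centralizer (V : Set G) := le_inf (hBA.trans hAH) h1
    rw [hf, le_bot_iff] at h2
    rw [h2, Subgroup.card_bot] at hBp
    exact (Fact.out : p.Prime).one_lt.ne hBp
  refine ⟨hBA, Cfsg.Agent.Lib.Helper52.ff_best_of_tight hV hHV hf (hAct.mono hBA) hBt, hne, ?_⟩
  intro C hCB _ hC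
  have hC1 : C ≠ ⊥ := by
    rintro rfl
    apply hC
    rw [eq_bot_iff, Subgroup.commutator_le]
    intro v _ c hc
    rw [Subgroup.mem_bot] at hc
    subst hc
    simp
  have hdvd : Nat.card C ∣ p := hBp ▸ Subgroup.card_dvd_of_le hCB
  rcases (Nat.dvd_prime (Fact.out : p.Prime)).mp hdvd with h | h
  · exact absurd ((Subgroup.card_eq_one).mp h) hC1
  · exact Subgroup.eq_of_le_of_card_ge hCB (by rw [h, hBp])

end Cfsg.Agent.S0612
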