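import Cfsg.Statements.S0614
import Cfsg.Agent.Lib.Helper52.FFE
import Cfsg.Agent.Lib.Helper52.FFMinimal

set_option autoImplicit false
open Cfsg

namespace Cfsg.Agent.S0614

/-- The commutator of the p'-core with a minimal nontrivially-acting best offender is a 3-group (when p = 2) or a non-abelian 2-group (when p = 3). -/
theorem result {G : Type*} [Group G] [Finite G] {p : ℕ} [Fact p.Prime] (V H : Subgroup G) (hV : Cfsg.IsElementaryAbelian p V) (hHV : H ≤ Subgroup.normalizer (V : Set G)) (hf : H ⊓ Subgroup.centralizer (V : Set G) = ⊥) (hS1 : Subgroup.centralizer (Cfsg.pPrimeCore p ↥H : Set ↥H) ≤ Cfsg.pPrimeCore p ↥H) (hS3 : H = ⨆ A : {A : Subgroup G // A ≤ H ∧ Cfsg.IsBestOffenderOn p V A}, (A : Subgroup G)) (hH1 : H ≠ ⊥) (A : Subgroup G) (hAH : A ≤ H) (hA : Cfsg.IsBestOffenderOn p V A) (hAV : ⁅V, A⁆ ≠ ⊥) (hmin : ∀ B : Subgroup G, B ≤ A → Cfsg.IsBestOffenderOn p V B → ⁅V, B⁆ ≠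 ⊥ → B = A) : (p = 2 ∧ IsPGroup 3 ↥(⁅((Cfsg.pPrimeCore p ↥H).map H.subtype), A⁆)) ∨ (p = 3 ∧ IsPGroup 2 ↥(⁅((Cfsg.pPrimeCore p ↥H).map H.subtype), A⁆) ∧ ¬ IsMulCommutative ↥(⁅((Cfsg.pPrimeCore p ↥H).map H.subtype), A⁆)) := by
  have h : Cfsg.Agent.Lib.Helper52.FFHyp p V H := ⟨hV, hHV, hf, hS1⟩
  have hAm := Cfsg.Agent.Lib.Helper52.ffmin_of_minimal h hAH hA hAV hmin
  have hcard : Nat.card ↥⁅Cfsg.Agent.Lib.Helper52.ffK p H, A⁆ = p ^ 2 - 1 :=
    Cfsg.Agent.Lib.Helper52.card_commutator_K' h hAm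
  change (p = 2 ∧ IsPGroup 3 ↥(⁅Cfsg.Agent.Lib.Helper52.ffK p H, A⁆)) ∨
    (p = 3 ∧ IsPGroup 2 ↥(⁅Cfsg.Agent.Lib.Helper52.ffK p H, A⁆) ∧
      ¬ IsMulCommutative ↥(⁅Cfsg.Agent.Lib.Helper52.ffK p H, A⁆))
  rcases Cfsg.Agent.Lib.Helper52.ffE_prime h hAm with hp2 | hp3
  · left
    subst hp2
    refine ⟨rfl, ?_⟩
    exact IsPGroup.of_card (n := 1) (by rw [hcard]; norm_num)
  · right
    subst hp3
    refine ⟨rfl, IsPGroup.of_card (n := 3) (by rw [hcard]; norm_num), ?_⟩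
    intro hcomm
    obtain ⟨e⟩ := Cfsg.Agent.Lib.Helper52.ffE_equiv h hAm
    set E := Cfsg.Agent.Lib.Helper52.ffE 3 H A with hE
    set Q := ⁅Cfsg.Agent.Lib.Helper52.ffK 3 H, A⁆ with hQ
    have hQE : Q ≤ E := le_sup_left
    have hEQ : E ≤ Subgroup.normalizer (Q : Set G) := by
      intro g hg
      rw [hQ, ← Cfsg.Agent.Lib.Helper52.ffE_inf_K hAm]
      exact Cfsg.Agent.Lib.Helper52.mem_normalizer_inf (Subgroup.le_normalizer hg)
        (Cfsg.Agent.Lib.Helper52.ffK_normal H (Cfsg.Agent.Lib.Helper52.ffE_le hAm hg))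
    haveI hn : (Q.subgroupOf E).Normal :=
      (Subgroup.normal_subgroupOf_iff_le_normalizer hQE).mpr hEQ
    haveI hn2 : ((Q.subgroupOf E).map e.toMonoidHom).Normal :=
      hn.map e.toMonoidHom e.surjective
    have hc8 : Nat.card ↥((Q.subgroupOf E).map e.toMonoidHom) = 8 := by
      have h1 : Nat.card ↥((Q.subgroupOf E).map e.toMonoidHom) = Nat.card ↥(Q.subgroupOf E) :=
        Nat.card_congr ((Q.subgroupOf E).equivMapOfInjective e.toMonoidHom e.injective).symm.toEquiv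
      have h2 : Nat.card ↥(Q.subgroupOf E) = Nat.card Q :=
        Nat.card_congr (Subgroup.subgroupOfEquivOfLe hQE).toEquiv
      rw [h1, h2, hcard]; norm_num
    obtain ⟨x, ⟨x', hx', rfl⟩, y, ⟨y', hy', rfl⟩, hxy⟩ :=
      Cfsg.Agent.Lib.Helper52.exists_not_comm_of_normal_card_eight _ hc8
    apply hxy
    have h3 : (⟨(x' : G), hx'⟩ : Q) * ⟨(y' : G), hy'⟩ = ⟨(y' : G), hy'⟩ * ⟨(x' : G), hx'⟩ :=
      hcomm.is_comm.comm _ _
    have h4 : (x' : G) * (y' : G) = (y' : G) * (x' : G) := congrArg Subtype.val h3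
    have h5 : x' * y' = y' * x' := Subtype.ext h4
    show e x' * e y' = e y' * e x'
    rw [← map_mul, ← map_mul, h5]

end Cfsg.Agent.S0614
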