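import Cfsg.Statements.S0615
import Cfsg.Agent.Lib.Helper52.SubnPair3

set_option autoImplicit false
open Cfsg

namespace Cfsg.Agent.S0615

/-- Two subnormal subgroups acting irreducibly on their incomparable commutator modules, in a faithful group with trivial largest normal p-subgroup, generate their direct product, and the commutator module splits accordingly. -/
theorem result {G : Type*} [Group G] [Finite G] {p : ℕ} [Fact p.Prime] (V E E₁ E₂ : Subgroup G) (hV : Cfsg.IsElementaryAbelian p V) (hEV : E ≤ Subgroup.normalizer (V : Set G)) (hf : E ⊓ Subgroup.centralizer (V : Set G) = ⊥) (hgen : E = E₁ ⊔ E₂) (hs₁ : (E₁.subgroupOf E).IsSubnormal) (hs₂ : (E₂.subgroupOf E).IsSubnormal) (hOp : Cfsg.pCore p ↥E = ⊥) (hirr₁ : (∀ U : Subgroup G, U ≤ ⁅V, E₁⁆ → E₁ ≤ Subgroup.normalizer (U : Set G) → U = ⊥ ∨ U = ⁅V, E₁⁆)) (hirr₂ : (∀ U : Subgroup G, U ≤ ⁅V, E₂⁆ → E₂ ≤ Subgroup.normalizer (U : Set G) → U = ⊥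 ∨ U = ⁅V, E₂⁆)) (h12 : ¬ ⁅V, E₁⁆ ≤ ⁅V, E₂⁆) (h21 : ¬ ⁅V, E₂⁆ ≤ ⁅V, E₁⁆) (hc₁ : 2 < Nat.card E₁) (hc₂ : 2 < Nat.card E₂) : ⁅E₁, E₂⁆ = ⊥ ∧ E₁ ⊓ E₂ = ⊥ ∧ ⁅V, E₁⁆ ⊓ ⁅V, E₂⁆ = ⊥ ∧ ⁅V, E⁆ = ⁅V, E₁⁆ ⊔ ⁅V, E₂⁆ := by
  have hE₁E : E₁ ≤ E := by rw [hgen]; exact le_sup_left
  have hE₂E : E₂ ≤ E := by rw [hgen]; exact le_sup_right
  have hcomm : ∀ a ∈ V, ∀ b ∈ V, a * b = b * a := by
    intro a ha b hb
    have := hV.1.is_comm.comm ⟨a, ha⟩ ⟨b, hb⟩
    exact congrArg Subtype.val this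
  have hbase : Cfsg.Agent.Lib.Helper52.SPHyp p V E :=
    { comm := hcomm
      exp := hV.2
      hEV := hEV
      hf := hf
      hOp := by
        intro S hS hexp
        have hp : IsPGroup p (S.subgroupOf E) := by
          intro s
          refine ⟨1, ?_⟩
          apply Subtype.ext
          apply Subtype.ext
          have := hexp ((s : E) : G) (Subgroup.mem_subgroupOf.mp s.2)
          simpa using this
        have h1 := Cfsg.Agent.Lib.Helper53.le_pCore_of_subnormal (p := p)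
          hS.isSubnormal_subgroupOf (S.subgroupOf E) le_rfl Subgroup.le_normalizer hp
        rw [hOp, le_bot_iff, Subgroup.subgroupOf_eq_bot] at h1
        exact h1.eq_bot_of_le hS.le }
  exact Cfsg.Agent.Lib.Helper52.pair_concl
    { base := hbase
      gen := hgen
      sn₁ := Cfsg.Agent.Lib.Helper02.RSn.of_isSubnormal_subgroupOf hE₁E hs₁
      sn₂ := Cfsg.Agent.Lib.Helper02.RSn.of_isSubnormal_subgroupOf hE₂E hs₂
      irr₁ := hirr₁
      irr₂ := hirr₂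
      h12 := h12
      h21 := h21
      c₁ := hc₁
      c₂ := hc₂ }

end Cfsg.Agent.S0615
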