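import Cfsg.Statements.S0617
import Cfsg.Agent.Lib.Helper52.FFGlobal6

set_option autoImplicit false
open Cfsg

namespace Cfsg.Agent.S0617

/-- Structure Theorem for failure of factorization: a faithful group generated by best offenders, with self-centralizing p'-core, is a direct product of copies of SL(2, p) (p = 2 or 3), each acting on its own plane in V, which is the direct product of these planes and C_V(H). -/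
theorem result {G : Type*} [Group G] [Finite G] {p : ℕ} [Fact p.Prime] (V H : Subgroup G) (hV : Cfsg.IsElementaryAbelian p V) (hHV : H ≤ Subgroup.normalizer (V : Set G)) (hf : H ⊓ Subgroup.centralizer (V : Set G) = ⊥) (hS1 : Subgroup.centralizer (Cfsg.pPrimeCore p ↥H : Set ↥H) ≤ Cfsg.pPrimeCore p ↥H) (hS3 : H = ⨆ A : {A : Subgroup G // A ≤ H ∧ Cfsg.IsBestOffenderOn p V A}, (A : Subgroup G)) (hH1 : H ≠ ⊥) : (p = 2 ∨ p = 3) ∧ (∀ E : {E : Subgroup G // ∃ A : Subgroup G, A ≤ H ∧ Cfsg.IsBestOffenderOn p V A ∧ ⁅V, A⁆ ≠ ⊥ ∧ (∀ B : Subgroup G, B ≤ A → Cfsg.IsBestOffenderOn p V B → ⁅V, B⁆ ≠ ⊥ → B = A) ∧ E = ⁅((Cfsg.pPrimeCore p ↥H).map H.subtype), A⁆ ⊔ A}, H ≤ Subgroup.normalizer ((E : Subgroup G) : Set G) ∧ Nonempty (↥(E : Subgroup G) ≃* Matrix.SpecialLinearGroup (Fin 2) (ZMod p)) ∧ Nat.card ↥(⁅V, (E : Subgroup G)⁆) = p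 ^ 2) ∧ iSupIndep (fun E : {E : Subgroup G // ∃ A : Subgroup G, A ≤ H ∧ Cfsg.IsBestOffenderOn p V A ∧ ⁅V, A⁆ ≠ ⊥ ∧ (∀ B : Subgroup G, B ≤ A → Cfsg.IsBestOffenderOn p V B → ⁅V, B⁆ ≠ ⊥ → B = A) ∧ E = ⁅((Cfsg.pPrimeCore p ↥H).map H.subtype), A⁆ ⊔ A} => (E : Subgroup G)) ∧ (⨆ E : {E : Subgroup G // ∃ A : Subgroup G, A ≤ H ∧ Cfsg.IsBestOffenderOn p V A ∧ ⁅V, A⁆ ≠ ⊥ ∧ (∀ B : Subgroup G, B ≤ A → Cfsg.IsBestOffenderOn p V B → ⁅V, B⁆ ≠ ⊥ → B = A) ∧ E = ⁅((Cfsg.pPrimeCore p ↥H).map H.subtype), A⁆ ⊔ A}, (E : Subgroup G)) = H ∧ iSupIndep (fun o : Option {E : Subgroup G // ∃ A : Subgroup G, A ≤ H ∧ Cfsg.IsBestOffenderOn p V A ∧ ⁅V, A⁆ ≠ ⊥ ∧ (∀ B : Subgroup G, B ≤ A → Cfsg.IsBestOffenderOn p V B → ⁅V, B⁆ ≠ ⊥ → B = A) ∧ E = ⁅((Cfsg.pPrimeCore p ↥H).map H.subtype), A⁆ ⊔ A} => o.elim (V ⊓ Subgroup.centralizer (H : Set G)) (fun E =>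 ⁅V, (E : Subgroup G)⁆)) ∧ (V ⊓ Subgroup.centralizer (H : Set G)) ⊔ (⨆ E : {E : Subgroup G // ∃ A : Subgroup G, A ≤ H ∧ Cfsg.IsBestOffenderOn p V A ∧ ⁅V, A⁆ ≠ ⊥ ∧ (∀ B : Subgroup G, B ≤ A → Cfsg.IsBestOffenderOn p V B → ⁅V, B⁆ ≠ ⊥ → B = A) ∧ E = ⁅((Cfsg.pPrimeCore p ↥H).map H.subtype), A⁆ ⊔ A}, ⁅V, (E : Subgroup G)⁆) = V := by
  have h : Cfsg.Agent.Lib.Helper52.FFHyp p V H := ⟨hV, hHV, hf, hS1⟩
  have hgen := Cfsg.Agent.Lib.Helper52.ffgen_of_best h hS3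
  have hf1 : ∀ E : {E : Subgroup G // ∃ A : Subgroup G, A ≤ H ∧ Cfsg.IsBestOffenderOn p V A ∧ ⁅V, A⁆ ≠ ⊥ ∧ (∀ B : Subgroup G, B ≤ A → Cfsg.IsBestOffenderOn p V B → ⁅V, B⁆ ≠ ⊥ → B = A) ∧ E = ⁅((Cfsg.pPrimeCore p ↥H).map H.subtype), A⁆ ⊔ A},
      ∃ A, Cfsg.Agent.Lib.Helper52.FFMin p V H A ∧
        (E : Subgroup G) = Cfsg.Agent.Lib.Helper52.ffE p H A := by
    rintro ⟨E, A, hAH, hA, hAV, hmin, hE⟩
    exact ⟨A, Cfsg.Agent.Lib.Helper52.ffmin_of_minimal h hAH hA hAV hmin, hE⟩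
  have hf2 : ∀ A, Cfsg.Agent.Lib.Helper52.FFMin p V H A →
      ∃ E : {E : Subgroup G // ∃ A : Subgroup G, A ≤ H ∧ Cfsg.IsBestOffenderOn p V A ∧ ⁅V, A⁆ ≠ ⊥ ∧ (∀ B : Subgroup G, B ≤ A → Cfsg.IsBestOffenderOn p V B → ⁅V, B⁆ ≠ ⊥ → B = A) ∧ E = ⁅((Cfsg.pPrimeCore p ↥H).map H.subtype), A⁆ ⊔ A},
        (E : Subgroup G) = Cfsg.Agent.Lib.Helper52.ffE p H A := by
    intro A hA
    refine ⟨⟨Cfsg.Agent.Lib.Helper52.ffE p H A, A, hA.le, hA.best h, hA.commutator_ne_bot h, ?_, rfl⟩, rfl⟩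
    intro B hBA _ hBV
    apply Cfsg.Agent.Lib.Helper52.eq_of_le_of_card_prime (Fact.out : p.Prime) hA.card hBA
    rintro rfl
    exact hBV (Cfsg.Agent.Lib.Helper52.commutator_bot_right' V)
  obtain ⟨A₀, hA₀⟩ := Cfsg.Agent.Lib.Helper52.exists_ffmin h hgen hH1
  refine ⟨Cfsg.Agent.Lib.Helper52.ffE_prime h hA₀, ?_, ?_, ?_, ?_, ?_⟩
  · intro E
    exact Cfsg.Agent.Lib.Helper52.ff_structure_each h hgen Subtype.val hf1 E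
  · exact Cfsg.Agent.Lib.Helper52.ff_structure_indep h Subtype.val
      Subtype.val_injective hf1
  · exact Cfsg.Agent.Lib.Helper52.ff_structure_sup hgen Subtype.val hf1 hf2
  · exact Cfsg.Agent.Lib.Helper52.ff_structure_indep_V h Subtype.val
      Subtype.val_injective hf1
  · exact Cfsg.Agent.Lib.Helper52.ff_structure_sup_V h hgen Subtype.val hf1 hf2

end Cfsg.Agent.S0617
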