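import Cfsg.Statements.S0620
import Cfsg.Agent.Lib.Helper52.CopGen
import Cfsg.Agent.Lib.Helper15.SylowNormal
import Cfsg.Agent.Lib.Helper15.ThompsonOf

set_option autoImplicit false
open Cfsg
open Cfsg.Agent.Lib.Helper15

namespace Cfsg.Agent.S0620

/-- Under coprime action of an elementary abelian q-group X on a p-separable group K with trivial p'-core, K is generated by the normalizer of J(S), the centralizer of Ω₁(Z(S)) and the fixed points of X. -/
theorem result {G : Type*} [Group G] [Finite G] {p : ℕ} [Fact p.Prime] {q : ℕ} [Fact q.Prime] (K X : Subgroup G) (hXK : X ≤ Subgroup.normalizer (K : Set G)) (hX : Cfsg.IsElementaryAbelian q X) (hq : ¬ q ∣ Nat.card K) (hsep : Cfsg.IsPSolvable p ↥K) (hO : Cfsg.pPrimeCore p ↥K = ⊥) (S : Sylow p ↥K) : (Subgroup.normalizer (Cfsg.thompsonSubgroupOf p (S : Subgroup ↥K) : Set ↥K) ⊔ Subgroup.centralizer (Cfsg.omegaOne p ((S : Subgroup ↥K) ⊓ Subgroup.centralizer ((S : Subgroup ↥K) : Set ↥K)) : Set ↥K) ⊔ (Subgroup.centralizer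 (X : Set G)).subgroupOf K) = ⊤ := by
  obtain ⟨Q, hQ⟩ : ∃ Q : Subgroup ↥K, Q = Subgroup.normalizer (Cfsg.thompsonSubgroupOf p
      (S : Subgroup ↥K) : Set ↥K) ⊔ Subgroup.centralizer (Cfsg.omegaOne p ((S : Subgroup ↥K) ⊓
      Subgroup.centralizer ((S : Subgroup ↥K) : Set ↥K)) : Set ↥K) ⊔
      (Subgroup.centralizer (X : Set G)).subgroupOf K := ⟨_, rfl⟩
  rw [← hQ]
  have hNQ : Subgroup.normalizer (Cfsg.thompsonSubgroupOf p (S : Subgroup ↥K) : Set ↥K) ≤ Q := by
    rw [hQ]; exact le_sup_left.trans le_sup_left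
  have hCZQ : Subgroup.centralizer (Cfsg.omegaOne p ((S : Subgroup ↥K) ⊓
      Subgroup.centralizer ((S : Subgroup ↥K) : Set ↥K)) : Set ↥K) ≤ Q := by
    rw [hQ]; exact le_sup_right.trans le_sup_left
  have hCXQ : (Subgroup.centralizer (X : Set G)).subgroupOf K ≤ Q := by
    rw [hQ]; exact le_sup_right
  by_cases hnf : Cfsg.IsThompsonFactorizable p ↥K
  · rw [eq_top_iff]
    intro g _
    obtain ⟨x, hx, c, hc, n, hn, rfl⟩ := hnf S g
    rw [hO, Subgroup.mem_bot] at hx
    subst hx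
    rw [one_mul]
    exact mul_mem (hCZQ hc) (hNQ hn)
  · obtain ⟨Nk, hNk⟩ : ∃ Nk : Subgroup G, Nk = Subgroup.normalizer (K : Set G) := ⟨_, rfl⟩
    have hKN : K ≤ Nk := by rw [hNk]; exact Subgroup.le_normalizer
    have hXN : X ≤ Nk := by rw [hNk]; exact hXK
    obtain ⟨j, hjdef⟩ : ∃ j : ↥K →* ↥Nk, j = Subgroup.inclusion hKN := ⟨_, rfl⟩
    have hja : ∀ k : ↥K, ((j k : ↥Nk) : G) = (k : G) := by
      intro k; rw [hjdef]; rfl
    have hj : Function.Injective j := by rw [hjdef]; exact Subgroup.inclusion_injective hKN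
    have hrange : j.range = K.subgroupOf Nk := by
      ext x
      rw [Subgroup.mem_subgroupOf]
      constructor
      · rintro ⟨k, rfl⟩
        rw [hja]; exact k.2
      · intro hx
        exact ⟨⟨x, hx⟩, Subtype.ext (hja _)⟩
    have hn : j.range.Normal := by
      rw [hrange]
      exact (Subgroup.normal_subgroupOf_iff_le_normalizer hKN).mpr hNk.le
    have hXq : IsPGroup q ↥(X.subgroupOf Nk) :=
      (Cfsg.Agent.Lib.Helper99.isEA_isPGroup hX).comap_subtype
    have hSQ : (S : Subgroup ↥K) ≤ Q :=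
      (Subgroup.le_normalizer.trans
        (normalizer_le_normalizer_thompsonSubgroupOf p (S : Subgroup ↥K))).trans hNQ
    have hCQ : Subgroup.centralizer ((⨆ S : Sylow p ↥K, Cfsg.omegaOne p ((S : Subgroup ↥K) ⊓
        Subgroup.centralizer ((S : Subgroup ↥K) : Set ↥K)) : Subgroup ↥K) : Set ↥K) ≤ Q := by
      refine le_trans (Subgroup.centralizer_le ?_) hCZQ
      have := le_iSup (fun S : Sylow p ↥K => Cfsg.omegaOne p ((S : Subgroup ↥K) ⊓
        Subgroup.centralizer ((S : Subgroup ↥K) : Set ↥K))) S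
      exact_mod_cast this
    have hXQ : (Subgroup.centralizer ((X.subgroupOf Nk : Subgroup ↥Nk) : Set ↥Nk)).comap j ≤ Q := by
      refine le_trans ?_ hCXQ
      intro k hk
      rw [Subgroup.mem_subgroupOf, Subgroup.mem_centralizer_iff]
      intro x hx
      have hx' : (⟨x, hXN hx⟩ : ↥Nk) ∈ X.subgroupOf Nk := Subgroup.mem_subgroupOf.mpr hx
      have h2 := (Subgroup.mem_centralizer_iff.mp (Subgroup.mem_comap.mp hk)) ⟨x, hXN hx⟩ hx'
      have h3 := congrArg Subtype.val h2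
      simp only [Subgroup.coe_mul, hja] at h3
      exact h3
    have hJQ : Cfsg.thompsonSubgroup p ↥K ≤ Q :=
      Cfsg.Agent.Lib.Helper52.cop_gen j hj (X.subgroupOf Nk) hXq hq hsep hO hnf S Q hSQ hCQ hXQ
    -- Frattini
    haveI hJc : (Cfsg.thompsonSubgroup p ↥K).Characteristic :=
      (Cfsg.Agent.S0602.result (G := ↥K) (p := p)).1
    haveI hJn : (Cfsg.thompsonSubgroup p ↥K).Normal := inferInstance
    have hJS : Cfsg.thompsonSubgroupOf p (S : Subgroup ↥K) ≤ Cfsg.thompsonSubgroup p ↥K :=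
      thompsonSubgroupOf_sylow_le S
    obtain ⟨P, hP⟩ := sylow_inf_normal S (Cfsg.thompsonSubgroup p ↥K)
    have hfr := Sylow.normalizer_sup_eq_top P
    rw [hP] at hfr
    rw [eq_top_iff, ← hfr]
    apply sup_le
    · intro n hn'
      have h1 := normalizer_le_normalizer_thompsonSubgroupOf p
        ((S : Subgroup ↥K) ⊓ Cfsg.thompsonSubgroup p ↥K) hn'
      rw [thompsonSubgroupOf_eq_of_le p inf_le_left
        (le_inf (thompsonSubgroupOf_le p _) hJS)] at h1
      exact hNQ h1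
    · exact hJQ

end Cfsg.Agent.S0620
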