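import Cfsg.Statements.S0621
import Cfsg.Agent.Lib.Helper52.CopFinal
import Cfsg.Agent.S0618

set_option autoImplicit false
open Cfsg

namespace Cfsg.Agent.S0621

/-- Let K be p-separable with O_p'(K) = 1, normalized by an elementary abelian q-group X for a prime q not dividing the order of K. If the Thompson factorization fails in K, then p is 2 or 3 and the fixed points of X contain a plane W of order p² and a subgroup inducing SL(2, p) on it. -/
theorem result {G : Type*} [Group G] [Finite G] {p : ℕ} [Fact p.Prime] {q : ℕ} [Fact q.Prime] (K X : Subgroup G) (hXK : X ≤ Subgroup.normalizer (K : Set G)) (hX : Cfsg.IsElementaryAbelian q X) (hq : ¬ q ∣ Nat.card K) (hsep : Cfsg.IsPSolvable p ↥K) (hO : Cfsg.pPrimeCore p ↥K = ⊥) (hnf : ¬ Cfsg.IsThompsonFactorizable p ↥K) : (p = 2 ∨ p = 3) ∧ ∃ W D : Subgroup G, W ≤ K ⊓ Subgroup.centralizer (X : Set G) ∧ D ≤ K ⊓ Subgroup.centralizer (X : Set G) ∧ Cfsg.IsElementaryAbelian p W ∧ Nat.card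 W = p ^ 2 ∧ D ≤ Subgroup.normalizer (W : Set G) ∧ ∃ hn : ((Subgroup.centralizer (W : Set G)).subgroupOf D).Normal, Nonempty ((↥D ⧸ (Subgroup.centralizer (W : Set G)).subgroupOf D) ≃* Matrix.SpecialLinearGroup (Fin 2) (ZMod p)) := by
  have hp23 : p = 2 ∨ p = 3 := (Cfsg.Agent.S0618.result hsep hO hnf).1
  refine ⟨hp23, ?_⟩
  obtain ⟨Nk, hNk⟩ : ∃ Nk : Subgroup G, Nk = Subgroup.normalizer (K : Set G) := ⟨_, rfl⟩
  have hKN : K ≤ Nk := by rw [hNk]; exact Subgroup.le_normalizer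
  have hXN : X ≤ Nk := by rw [hNk]; exact hXK
  obtain ⟨j, hjdef⟩ : ∃ j : ↥K →* ↥Nk, j = Subgroup.inclusion hKN := ⟨_, rfl⟩
  have hja : ∀ k : ↥K, ((j k : ↥Nk) : G) = (k : G) := by
    intro k; rw [hjdef]; rfl
  have hj : Function.Injective j := by rw [hjdef]; exact Subgroup.inclusion_injective hKN
  have hrange : j.range = K.subgroupOf Nk := by
    ext x
    rw [Subgroup.mem_subgroupOf]
    constructor
    · rintro ⟨k, rfl⟩
      rw [hja]; exact k.2
    · intro hx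
      exact ⟨⟨x, hx⟩, Subtype.ext (hja _)⟩
  have hn : j.range.Normal := by
    rw [hrange]
    exact (Subgroup.normal_subgroupOf_iff_le_normalizer hKN).mpr hNk.le
  have hXq : IsPGroup q ↥(X.subgroupOf Nk) :=
    (Cfsg.Agent.Lib.Helper99.isEA_isPGroup hX).comap_subtype
  have d := Cfsg.Agent.Lib.Helper52.copData_of j hj (X.subgroupOf Nk) hXq hq hsep hO hnf
  obtain ⟨W', D', hW', hD', hcard, hnorm, φ, hφ, hker⟩ := Cfsg.Agent.Lib.Helper52.cop_main_L d
  obtain ⟨h1, hn', e⟩ := Cfsg.Agent.Lib.Helper52.cop_transport Nk.subtype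
    Nk.subtype_injective W' D' hnorm φ hφ hker
  have key : ∀ Y : Subgroup ↥Nk, Y ≤ j.range ⊓ Subgroup.centralizer ((X.subgroupOf Nk :
      Subgroup ↥Nk) : Set ↥Nk) → Y.map Nk.subtype ≤ K ⊓ Subgroup.centralizer (X : Set G) := by
    rintro Y hY _ ⟨y, hy, rfl⟩
    obtain ⟨⟨k, rfl⟩, hc⟩ := hY hy
    refine Subgroup.mem_inf.mpr ⟨?_, ?_⟩
    · show ((j k : ↥Nk) : G) ∈ K
      rw [hja]; exact k.2
    · rw [Subgroup.mem_centralizer_iff]
      intro x hx
      have hx' : (⟨x, hXN hx⟩ : ↥Nk) ∈ X.subgroupOf Nk := Subgroup.mem_subgroupOf.mpr hx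
      have h2 := (Subgroup.mem_centralizer_iff.mp hc) ⟨x, hXN hx⟩ hx'
      exact congrArg Subtype.val h2
  refine ⟨W'.map Nk.subtype, D'.map Nk.subtype, ?_, key D' hD', ?_, ?_, h1, hn', e⟩
  · apply key
    exact le_inf ((hW'.trans inf_le_left).trans (Subgroup.map_le_range _ _)) (hW'.trans inf_le_right)
  · exact Cfsg.Agent.Lib.Helper99.isEA_map _ _
      (Cfsg.Agent.Lib.Helper99.isEA_mono (hW'.trans inf_le_left) d.hV)
  · rw [Subgroup.card_map_of_injective Nk.subtype_injective, hcard]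

end Cfsg.Agent.S0621
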