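import Cfsg.Statements.S0625
import Cfsg.Agent.Lib.Helper02.PStab3
import Cfsg.Agent.Lib.Helper54.PReduced
import Cfsg.Agent.Lib.Helper75.PGroupFrattini

set_option autoImplicit false
open Cfsg

namespace Cfsg.Agent.S0625

open scoped commutatorElement
open Cfsg.Agent.Lib.Helper02

/-- A p-separable group with p at least 5 is p-stable in the action sense. -/
theorem result {G : Type*} [Group G] [Finite G] {p : ℕ} [Fact p.Prime] (hp : 5 ≤ p) (hsep : Cfsg.IsPSolvable p G) : Cfsg.IsActionPStable p G := by
  have hpr : p.Prime := Fact.out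
  have hp2 : p ≠ 2 := by omega
  have hp3 : p ≠ 3 := by omega
  refine ⟨?_, ?_, ?_⟩
  · intro V _ hV
    exact PStab3.isPStableOn_of_psolv hp2 hp3 hsep V hV
  · have hP : IsPGroup p (pCore p G) := Cfsg.Agent.Lib.Helper01.pCore_isPGroup p
    apply PStab3.isPStableOnSection_of_psolv hp2 hp3 hsep
    · intro x hx y hy
      have h1 : ⁅(⟨x, hx⟩ : pCore p G), ⟨y, hy⟩⁆ ∈ frattini (pCore p G) :=
        Cfsg.Agent.Lib.Helper75.commutator_le_frattini_of_isPGroup' hP
          (Subgroup.commutator_mem_commutator (Subgroup.mem_top _) (Subgroup.mem_top _))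
      refine Subgroup.mem_map.mpr ⟨_, h1, ?_⟩
      rw [commutatorElement_def]
      rfl
    · intro x hx
      have h1 : (⟨x, hx⟩ : pCore p G) ^ p ∈ frattini (pCore p G) :=
        Cfsg.Agent.Lib.Helper75.pow_mem_frattini_of_isPGroup' hP _
      exact Subgroup.mem_map.mpr ⟨_, h1, rfl⟩
  · intro S V _ hle
    have hΩ : IsElementaryAbelian p (omegaCenterThompson p ↥(S : Subgroup G)) :=
      Cfsg.Agent.Lib.Helper54.isElementaryAbelian_omegaOne_center p _
    have hsolN : IsPSolvable p
        ↥(Subgroup.normalizer (thompsonSubgroupOf p (S : Subgroup G) : Set G)) :=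
      Cfsg.Agent.Lib.Helper40.isPSolvable_subgroup hpr hsep _
    have hlift : ∀ v ∈ V, ∃ s ∈ omegaCenterThompson p ↥(S : Subgroup G),
        ((s : (S : Subgroup G)) : G) = ((v : ↥(Subgroup.normalizer
          (thompsonSubgroupOf p (S : Subgroup G) : Set G))) : G) := by
      intro v hv
      have h1 : ((v : ↥(Subgroup.normalizer
          (thompsonSubgroupOf p (S : Subgroup G) : Set G))) : G) ∈
          V.map (Subgroup.normalizer (thompsonSubgroupOf p (S : Subgroup G) : Set G)).subtype :=
        Subgroup.mem_map.mpr ⟨v, hv, rfl⟩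
      obtain ⟨s, hs, hsv⟩ := Subgroup.mem_map.mp (hle h1)
      exact ⟨s, hs, hsv⟩
    have hVea : IsElementaryAbelian p V := by
      refine ⟨⟨⟨?_⟩⟩, ?_⟩
      · rintro ⟨v, hv⟩ ⟨w, hw⟩
        obtain ⟨s, hs, hsv⟩ := hlift v hv
        obtain ⟨t, ht, htw⟩ := hlift w hw
        haveI := hΩ.1
        have h1 : (⟨s, hs⟩ : omegaCenterThompson p ↥(S : Subgroup G)) * ⟨t, ht⟩ = ⟨t, ht⟩ * ⟨s, hs⟩ :=
          mul_comm' _ _
        have h2 : (s : G) * (t : G) = (t : G) * (s : G) := by
          have := congrArg (fun z : omegaCenterThompson p ↥(S : Subgroup G) =>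
            (((z : (S : Subgroup G))) : G)) h1
          simpa using this
        apply Subtype.ext
        apply Subtype.ext
        simp only [Subgroup.coe_mul]
        rw [← hsv, ← htw]
        exact h2
      · intro v hv
        obtain ⟨s, hs, hsv⟩ := hlift v hv
        have h1 : s ^ p = 1 := hΩ.2 s hs
        have h2 : (s : G) ^ p = 1 := by
          have := congrArg (fun z : (S : Subgroup G) => (z : G)) h1
          simpa using this
        apply Subtype.ext
        simp only [Subgroup.coe_pow, Subgroup.coe_one]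
        rw [← hsv]
        exact h2
    exact PStab3.isPStableOn_of_psolv hp2 hp3 hsolN V hVea

end Cfsg.Agent.S0625
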