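import Cfsg.Statements.S0629
import Cfsg.Agent.Lib.Helper15.PSolv
import Cfsg.Agent.S0630

set_option autoImplicit false
open Cfsg
open Cfsg.Agent.Lib.Helper15

namespace Cfsg.Agent.S0629

/-- A group in which the centralizer of a Sylow p-subgroup of O_{p',p}(G) is p-solvable is p-constrained. -/
theorem result {G : Type*} [Group G] [Finite G] {p : ℕ} [Fact p.Prime] (P : Sylow p ↥(Cfsg.pPrimePCore p G)) (hsol : Cfsg.IsPSolvable p ↥(Subgroup.centralizer (((P : Subgroup ↥(Cfsg.pPrimePCore p G)).map (Cfsg.pPrimePCore p G).subtype : Subgroup G) : Set G))) : Cfsg.IsPConstrained p G := by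
  have hbot : pPrimeCore p (G ⧸ pPrimeCore p G) = ⊥ :=
    Cfsg.Agent.Lib.Helper81.pPrimeCore_quotient_eq_bot p
  have hNc : (Nat.card (pPrimeCore p G)).Coprime p :=
    Cfsg.Agent.Lib.Helper81.card_pPrimeCore_coprime p
  rw [Cfsg.Agent.S0630.result, Cfsg.Agent.S0630.isPConstrained_iff_of_pPrimeCore_eq_bot hbot]
  have hPp : IsPGroup p ((P : Subgroup ↥(pPrimePCore p G)).map (pPrimePCore p G).subtype) :=
    P.isPGroup'.map _
  -- the centralizer of O_p(G/N) is the image of C_G(P)
  have hD : Subgroup.centralizer ((pCore p (G ⧸ pPrimeCore p G) : Subgroup (G ⧸ pPrimeCore p G)) :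
      Set (G ⧸ pPrimeCore p G)) =
      (Subgroup.centralizer (((P : Subgroup ↥(pPrimePCore p G)).map
        (pPrimePCore p G).subtype : Subgroup G) : Set G)).map (QuotientGroup.mk' (pPrimeCore p G)) := by
    rw [← centralizer_map_mk_of_coprime _ hNc _ hPp, sylow_pPrimePCore_map P]
  have hsolmap : IsPSolvable p ↥((Subgroup.centralizer (((P : Subgroup ↥(pPrimePCore p G)).map
        (pPrimePCore p G).subtype : Subgroup G) : Set G)).map (QuotientGroup.mk' (pPrimeCore p G))) :=
    IsPSolvable.of_surjective (Fact.out : p.Prime) hsol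
      ((QuotientGroup.mk' (pPrimeCore p G)).subgroupMap _)
      (MonoidHom.subgroupMap_surjective _ _)
  rw [← hD] at hsolmap
  haveI : (Subgroup.centralizer ((pCore p (G ⧸ pPrimeCore p G) : Subgroup (G ⧸ pPrimeCore p G)) :
      Set (G ⧸ pPrimeCore p G))).Normal := Subgroup.normal_centralizer
  have hHH := Cfsg.Agent.Lib.Helper81.centralizer_pCore_le hsolmap
    (pPrimeCore_eq_bot_of_normal p _ hbot)
  intro y hy
  have hd : (⟨y, hy⟩ : ↥(Subgroup.centralizer ((pCore p (G ⧸ pPrimeCore p G) :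
      Subgroup (G ⧸ pPrimeCore p G)) : Set (G ⧸ pPrimeCore p G)))) ∈
      Subgroup.centralizer ((pCore p ↥(Subgroup.centralizer ((pCore p (G ⧸ pPrimeCore p G) :
      Subgroup (G ⧸ pPrimeCore p G)) : Set (G ⧸ pPrimeCore p G))) : Subgroup _) : Set _) := by
    rw [Subgroup.mem_centralizer_iff]
    intro z hz
    apply Subtype.ext
    have hzK : (z : G ⧸ pPrimeCore p G) ∈ pCore p (G ⧸ pPrimeCore p G) :=
      map_pCore_le_of_normal p _ (Subgroup.mem_map_of_mem _ hz)
    exact Subgroup.mem_centralizer_iff.mp hy _ hzK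
  have := hHH hd
  exact map_pCore_le_of_normal p _ (Subgroup.mem_map_of_mem _ this)

end Cfsg.Agent.S0629
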