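import Cfsg.Statements.S0632
import Cfsg.Agent.Lib.Helper16.ZJ4

set_option autoImplicit false
open Cfsg

namespace Cfsg.Agent.S0632

open Cfsg.Agent.Lib.Helper16

theorem pCore_map_equiv_le' {X Y : Type*} [Group X] [Group Y] (p : ℕ) (e : X ≃* Y) :
    (Cfsg.pCore p X).map e.toMonoidHom ≤ Cfsg.pCore p Y :=
  ZJ.le_pCore ((ZJ.pCore_normal p).map e.toMonoidHom e.surjective) ((ZJ.pCore_isPGroup p).map _)

theorem pPrimePCore_eq_pCore {X : Type*} [Group X] (p : ℕ)
    (h : Cfsg.pPrimeCore p X = ⊥) : Cfsg.pPrimePCore p X = Cfsg.pCore p X := by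
  unfold Cfsg.pPrimePCore
  have hinj : Function.Injective (QuotientGroup.mk' (Cfsg.pPrimeCore p X)) := by
    rw [← MonoidHom.ker_eq_bot_iff, QuotientGroup.ker_mk', h]
  have hbij : Function.Bijective (QuotientGroup.mk' (Cfsg.pPrimeCore p X)) :=
    ⟨hinj, QuotientGroup.mk'_surjective _⟩
  apply le_antisymm
  · intro x hx
    rw [Subgroup.mem_comap] at hx
    have h1 := pCore_map_equiv_le' p
      (MulEquiv.ofBijective (QuotientGroup.mk' (Cfsg.pPrimeCore p X)) hbij).symm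
      (Subgroup.mem_map_of_mem _ hx)
    have h2 : (MulEquiv.ofBijective (QuotientGroup.mk' (Cfsg.pPrimeCore p X)) hbij).symm
        (QuotientGroup.mk' (Cfsg.pPrimeCore p X) x) = x :=
      (MulEquiv.ofBijective (QuotientGroup.mk' (Cfsg.pPrimeCore p X)) hbij).symm_apply_apply x
    change (MulEquiv.ofBijective (QuotientGroup.mk' (Cfsg.pPrimeCore p X)) hbij).symm
        (QuotientGroup.mk' (Cfsg.pPrimeCore p X) x) ∈ _ at h1
    rwa [h2] at h1
  · intro x hx
    rw [Subgroup.mem_comap]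
    exact pCore_map_equiv_le' p
      (MulEquiv.ofBijective (QuotientGroup.mk' (Cfsg.pPrimeCore p X)) hbij)
      (Subgroup.mem_map_of_mem _ hx)

/-- the direction `G` stable ⟹ `G / O_{p'}(G)` stable -/
theorem stable_quot {G : Type*} [Group G] [Finite G] {p : ℕ} [Fact p.Prime]
    (hO : Cfsg.pCore p G ≠ ⊥) (hs : Cfsg.IsPStable p G) :
    Cfsg.IsPStable p (G ⧸ Cfsg.pPrimeCore p G) := by
  obtain ⟨hodd, -, hmain⟩ := hs
  have hKb : Cfsg.pPrimeCore p (G ⧸ Cfsg.pPrimeCore p G) = ⊥ :=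
    Cfsg.Agent.Lib.Helper61.pPrimeCore_quotient_eq_bot p G
  have hLb := pPrimePCore_eq_pCore p hKb
  refine ⟨hodd, ?_, ?_⟩
  · intro hbot
    have h1 : (Cfsg.pCore p G).map (QuotientGroup.mk' (Cfsg.pPrimeCore p G)) ≤
        Cfsg.pCore p (G ⧸ Cfsg.pPrimeCore p G) :=
      ZJ.le_pCore ((ZJ.pCore_normal p).map _ (QuotientGroup.mk'_surjective _))
        ((ZJ.pCore_isPGroup p).map _)
    rw [hbot, le_bot_iff, Subgroup.map_eq_bot_iff, QuotientGroup.ker_mk'] at h1
    have h2 : Cfsg.pCore p G ≤ Cfsg.pCore p G ⊓ Cfsg.pPrimeCore p G := le_inf le_rfl h1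
    rw [ZJ.pgroup_inf_pPrimeCore (ZJ.pCore_isPGroup p), le_bot_iff] at h2
    exact hO h2
  · intro Ab Pb hAb hPb hnormb hleb hnormalb hquadb
    rw [hKb, bot_sup_eq] at hnormalb
    have hAPb : IsPGroup p ↥(Ab ⊔ Pb) := hAb.to_sup_of_normal_right hPb
    obtain ⟨Sb, hSb⟩ := hAPb.exists_le_sylow
    obtain ⟨S, rfl⟩ := Sylow.mapSurjective_surjective
      (QuotientGroup.mk'_surjective (Cfsg.pPrimeCore p G)) p Sb
    rw [Sylow.coe_mapSurjective] at hSb
    have hSK : (S : Subgroup G) ⊓ Cfsg.pPrimeCore p G = ⊥ := ZJ.pgroup_inf_pPrimeCore S.2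
    have hMn : (Pb.comap (QuotientGroup.mk' (Cfsg.pPrimeCore p G))).Normal := hnormalb.comap _
    -- the lifted subgroups
    have hPV : ((S : Subgroup G) ⊓ Pb.comap (QuotientGroup.mk' (Cfsg.pPrimeCore p G))).map
        (QuotientGroup.mk' (Cfsg.pPrimeCore p G)) = Pb := by
      apply le_antisymm
      · rintro _ ⟨x, hx, rfl⟩
        exact hx.2
      · intro y hy
        obtain ⟨s, hs, rfl⟩ := hSb (Subgroup.mem_sup_right hy)
        exact ⟨s, ⟨hs, hy⟩, rfl⟩
    have hAV : ((S : Subgroup G) ⊓ Ab.comap (QuotientGroup.mk' (Cfsg.pPrimeCore p G))).map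
        (QuotientGroup.mk' (Cfsg.pPrimeCore p G)) = Ab := by
      apply le_antisymm
      · rintro _ ⟨x, hx, rfl⟩
        exact hx.2
      · intro y hy
        obtain ⟨s, hs, rfl⟩ := hSb (Subgroup.mem_sup_left hy)
        exact ⟨s, ⟨hs, hy⟩, rfl⟩
    have hA : IsPGroup p ↥((S : Subgroup G) ⊓
        Ab.comap (QuotientGroup.mk' (Cfsg.pPrimeCore p G))) := S.2.to_le inf_le_left
    have hP₁ : IsPGroup p ↥((S : Subgroup G) ⊓
        Pb.comap (QuotientGroup.mk' (Cfsg.pPrimeCore p G))) := S.2.to_le inf_le_left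
    have hnorm : ∀ a ∈ (S : Subgroup G) ⊓ Ab.comap (QuotientGroup.mk' (Cfsg.pPrimeCore p G)),
        ∀ x ∈ (S : Subgroup G) ⊓ Pb.comap (QuotientGroup.mk' (Cfsg.pPrimeCore p G)),
        a * x * a⁻¹ ∈ (S : Subgroup G) ⊓ Pb.comap (QuotientGroup.mk' (Cfsg.pPrimeCore p G)) := by
      intro a ha x hx
      exact ⟨Subgroup.mul_mem _ (Subgroup.mul_mem _ ha.1 hx.1) (Subgroup.inv_mem _ ha.1),
        hMn.conj_mem x hx.2 a⟩
    have hle : (S : Subgroup G) ⊓ Pb.comap (QuotientGroup.mk' (Cfsg.pPrimeCore p G)) ≤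
        Cfsg.pPrimePCore p G := by
      intro x hx
      have := hleb hx.2
      rw [hLb] at this
      exact this
    have hsup : Cfsg.pPrimeCore p G ⊔
        ((S : Subgroup G) ⊓ Pb.comap (QuotientGroup.mk' (Cfsg.pPrimeCore p G))) =
        Pb.comap (QuotientGroup.mk' (Cfsg.pPrimeCore p G)) := by
      apply le_antisymm
      · apply sup_le
        · intro k hk
          change (QuotientGroup.mk' (Cfsg.pPrimeCore p G) k) ∈ Pb
          have hkk : (QuotientGroup.mk' (Cfsg.pPrimeCore p G) k) = 1 :=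
            (QuotientGroup.eq_one_iff k).mpr hk
          rw [hkk]
          exact Pb.one_mem
        · exact inf_le_right
      · intro m hm
        obtain ⟨y, hy, c, hc, rfl⟩ :=
          ZJ.exists_mul_of_mem_comap S (Cfsg.pPrimeCore p G) Pb hPb hm
        exact Subgroup.mul_mem _ (Subgroup.mem_sup_right hy) (Subgroup.mem_sup_left hc)
    have hnormal : (Cfsg.pPrimeCore p G ⊔
        ((S : Subgroup G) ⊓ Pb.comap (QuotientGroup.mk' (Cfsg.pPrimeCore p G)))).Normal := by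
      rw [hsup]; exact hMn
    have hquad : ⁅⁅(S : Subgroup G) ⊓ Pb.comap (QuotientGroup.mk' (Cfsg.pPrimeCore p G)),
        (S : Subgroup G) ⊓ Ab.comap (QuotientGroup.mk' (Cfsg.pPrimeCore p G))⁆,
        (S : Subgroup G) ⊓ Ab.comap (QuotientGroup.mk' (Cfsg.pPrimeCore p G))⁆ = ⊥ := by
      rw [eq_bot_iff, ← hSK]
      apply le_inf
      · exact ZJ.commutator_le_of_le (ZJ.commutator_le_of_le inf_le_left inf_le_left) inf_le_left
      · have h1 : (⁅⁅(S : Subgroup G) ⊓ Pb.comap (QuotientGroup.mk' (Cfsg.pPrimeCore p G)),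
            (S : Subgroup G) ⊓ Ab.comap (QuotientGroup.mk' (Cfsg.pPrimeCore p G))⁆,
            (S : Subgroup G) ⊓ Ab.comap (QuotientGroup.mk' (Cfsg.pPrimeCore p G))⁆).map
            (QuotientGroup.mk' (Cfsg.pPrimeCore p G)) = ⊥ := by
          rw [Subgroup.map_commutator, Subgroup.map_commutator, hPV, hAV]
          exact hquadb
        rw [Subgroup.map_eq_bot_iff, QuotientGroup.ker_mk'] at h1
        exact h1
    have hconc := hmain _ _ hA hP₁ hnorm hle hnormal hquad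
    refine ZJ.map_le_pCore_of_surj (QuotientGroup.mk' (Cfsg.pPrimeCore p G)) _ Pb hPV ?_ _ Ab ?_
      hconc
    · intro y _
      obtain ⟨g₀, rfl⟩ := QuotientGroup.mk'_surjective (Cfsg.pPrimeCore p G) y
      obtain ⟨n, hn, c, hc, rfl⟩ := ZJ.factor_of_normal_pgroup S (Cfsg.pPrimeCore p G) Pb hPb g₀
      refine ⟨n, hn, ?_⟩
      have hcc : (QuotientGroup.mk' (Cfsg.pPrimeCore p G) c) = 1 :=
        (QuotientGroup.eq_one_iff c).mpr hc
      rw [map_mul, hcc, mul_one]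
    · intro y hy _
      rw [← hAV] at hy
      obtain ⟨a, ha, rfl⟩ := hy
      refine ⟨a, ha, ?_, rfl⟩
      rw [Subgroup.mem_normalizer_iff]
      intro x
      constructor
      · intro hx
        exact hnorm a ha x hx
      · intro hx
        have := hnorm a⁻¹ (Subgroup.inv_mem _ ha) _ hx
        have e : a⁻¹ * (a * x * a⁻¹) * a⁻¹⁻¹ = x := by group
        rwa [e] at this

/-- the direction `G / O_{p'}(G)` stable ⟹ `G` stable -/
theorem stable_of_quot {G : Type*} [Group G] [Finite G] {p : ℕ} [Fact p.Prime]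
    (hO : Cfsg.pCore p G ≠ ⊥) (hs : Cfsg.IsPStable p (G ⧸ Cfsg.pPrimeCore p G)) :
    Cfsg.IsPStable p G := by
  obtain ⟨hodd, -, hmain⟩ := hs
  have hKb : Cfsg.pPrimeCore p (G ⧸ Cfsg.pPrimeCore p G) = ⊥ :=
    Cfsg.Agent.Lib.Helper61.pPrimeCore_quotient_eq_bot p G
  have hLb := pPrimePCore_eq_pCore p hKb
  refine ⟨hodd, hO, ?_⟩
  intro A P hA hP hnorm hle hnormal hquad
  have hPK : P ⊓ Cfsg.pPrimeCore p G = ⊥ := ZJ.pgroup_inf_pPrimeCore hP
  have hnormb : ∀ a ∈ A.map (QuotientGroup.mk' (Cfsg.pPrimeCore p G)),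
      ∀ x ∈ P.map (QuotientGroup.mk' (Cfsg.pPrimeCore p G)),
      a * x * a⁻¹ ∈ P.map (QuotientGroup.mk' (Cfsg.pPrimeCore p G)) := by
    rintro _ ⟨a, ha, rfl⟩ _ ⟨x, hx, rfl⟩
    exact ⟨a * x * a⁻¹, hnorm a ha x hx, by simp⟩
  have hleb : P.map (QuotientGroup.mk' (Cfsg.pPrimeCore p G)) ≤
      Cfsg.pPrimePCore p (G ⧸ Cfsg.pPrimeCore p G) := by
    rw [hLb]
    rintro _ ⟨x, hx, rfl⟩
    exact hle hx
  have hnormalb : (Cfsg.pPrimeCore p (G ⧸ Cfsg.pPrimeCore p G) ⊔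
      P.map (QuotientGroup.mk' (Cfsg.pPrimeCore p G))).Normal := by
    rw [hKb, bot_sup_eq]
    have h1 : (Cfsg.pPrimeCore p G ⊔ P).map (QuotientGroup.mk' (Cfsg.pPrimeCore p G)) =
        P.map (QuotientGroup.mk' (Cfsg.pPrimeCore p G)) := by
      rw [Subgroup.map_sup]
      have : (Cfsg.pPrimeCore p G).map (QuotientGroup.mk' (Cfsg.pPrimeCore p G)) = ⊥ := by
        rw [Subgroup.map_eq_bot_iff, QuotientGroup.ker_mk']
      rw [this, bot_sup_eq]
    rw [← h1]
    exact hnormal.map _ (QuotientGroup.mk'_surjective _)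
  have hquadb : ⁅⁅P.map (QuotientGroup.mk' (Cfsg.pPrimeCore p G)),
      A.map (QuotientGroup.mk' (Cfsg.pPrimeCore p G))⁆,
      A.map (QuotientGroup.mk' (Cfsg.pPrimeCore p G))⁆ = ⊥ := by
    rw [← Subgroup.map_commutator, ← Subgroup.map_commutator, hquad, Subgroup.map_bot]
  have hconc := hmain _ _ (hA.map _) (hP.map _) hnormb hleb hnormalb hquadb
  rintro _ ⟨a, ha, rfl⟩
  apply ZJ.mem_pCore_of_inj (QuotientGroup.mk' (Cfsg.pPrimeCore p G)) P
  · intro x hx hxc
    rw [Subgroup.mem_centralizer_iff]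
    intro y hy
    have h0 : x * y * x⁻¹ * y⁻¹ ∈ Cfsg.pPrimeCore p G := by
      rw [← QuotientGroup.eq_one_iff]
      change (QuotientGroup.mk' (Cfsg.pPrimeCore p G)) (x * y * x⁻¹ * y⁻¹) = 1
      have := Subgroup.mem_centralizer_iff.mp hxc _ (Subgroup.mem_map_of_mem _ hy)
      rw [map_mul, map_mul, map_mul, map_inv, map_inv, ← this]
      group
    have h1 : x * y * x⁻¹ * y⁻¹ ∈ P ⊓ Cfsg.pPrimeCore p G :=
      ⟨P.mul_mem ((Subgroup.mem_normalizer_iff.mp hx y).mp hy) (P.inv_mem hy), h0⟩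
    rw [hPK, Subgroup.mem_bot] at h1
    have h3 := mul_inv_eq_one.mp h1
    calc y * x = (x * y * x⁻¹) * x := by rw [h3]
      _ = x * y := by group
  · apply hconc
    refine ⟨ZJ.normHom (QuotientGroup.mk' (Cfsg.pPrimeCore p G)) P a, ?_, rfl⟩
    rw [SetLike.mem_coe, Subgroup.mem_subgroupOf, ZJ.normHom_coe]
    exact Subgroup.mem_map_of_mem _ (Subgroup.mem_subgroupOf.mp ha)

/-- For a group with a nontrivial normal p-subgroup, p-stability passes to and from the quotient by the largest normal subgroup of order prime to p. -/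
theorem result {G : Type*} [Group G] [Finite G] {p : ℕ} [Fact p.Prime] (hO : Cfsg.pCore p G ≠ ⊥) : Cfsg.IsPStable p G ↔ Cfsg.IsPStable p (G ⧸ Cfsg.pPrimeCore p G) := by
  exact ⟨stable_quot hO, stable_of_quot hO⟩

end Cfsg.Agent.S0632
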