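import Cfsg.Statements.S0633
import Cfsg.Agent.Lib.Helper56.HHBReduce
import Cfsg.Agent.Lib.Helper56.HHBBase
import Cfsg.Agent.Lib.Helper67.ExpPLen2

set_option autoImplicit false
set_option linter.style.haveILetI false
open Cfsg

namespace Cfsg.Agent.S0633

open Cfsg.Agent.Lib.Helper56.HHB

/-- all Sylow subgroups are nonabelian if some `q`-subgroup is -/
theorem sylow_not_comm {Γ : Type*} [Group Γ] [Finite Γ] {q : ℕ} [Fact q.Prime]
    (Q : Subgroup Γ) (hQ : IsPGroup q Q) (hnab : ∃ e ∈ Q, ∃ f ∈ Q, e * f ≠ f * e) :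
    ∀ S : Sylow q Γ, ¬ IsMulCommutative S := by
  intro S hS
  obtain ⟨P₀, hQP⟩ := hQ.exists_le_sylow
  obtain ⟨g, hg⟩ := MulAction.exists_smul_eq Γ P₀ S
  obtain ⟨e, he, f, hf, hef⟩ := hnab
  have hmem : ∀ a ∈ Q, g * a * g⁻¹ ∈ (S : Subgroup Γ) := by
    intro a ha
    rw [← hg, Sylow.coe_subgroup_smul, Subgroup.mem_pointwise_smul_iff_inv_smul_mem]
    have : (MulAut.conj g)⁻¹ • (g * a * g⁻¹) = a := by
      rw [← map_inv, MulAut.smul_def, MulAut.conj_apply]
      group
    rw [this]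
    exact hQP ha
  have h1 := hS.is_comm.comm (⟨g * e * g⁻¹, hmem e he⟩ : S) ⟨g * f * g⁻¹, hmem f hf⟩
  have h2 := congrArg Subtype.val h1
  apply hef
  have h3 : g * e * g⁻¹ * (g * f * g⁻¹) = g * f * g⁻¹ * (g * e * g⁻¹) := h2
  have h4 : e * f = g⁻¹ * (g * e * g⁻¹ * (g * f * g⁻¹)) * g := by group
  rw [h4, h3]
  group

/-- Theorem B of Hall and Higman on the minimal polynomial of a p-element of order p^n in a p-solvable linear group on a nonzero vector space in characteristic p with no nontrivial normal p-subgroup: its degree is p^n, except when some p^n₀ - 1 (n₀ ≤ n) is a power of a prime q for which the Sylow q-subgroups are non-abelian, in which case the degree is at least p^(n-n₀)(p^n₀ - 1). -/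
theorem result {F : Type*} [Field F] {p : ℕ} [Fact p.Prime] [CharP F p] {V : Type*} [AddCommGroup V] [Module F V] [FiniteDimensional F V] [Nontrivial V] (H : Subgroup (V ≃ₗ[F] V)) [Finite H] (hsol : Cfsg.IsPSolvable p H) (hOp : Cfsg.pCore p H = ⊥) (x : V ≃ₗ[F] V) (hx : x ∈ H) (n : ℕ) (hn : orderOf x = p ^ n) (r : ℕ) (hr : minpoly F (x : Module.End F V) = (Polynomial.X - 1) ^ r) : r = p ^ n ∨ ∃ n₀ q m : ℕ, 1 ≤ n₀ ∧ n₀ ≤ n ∧ q.Prime ∧ 1 ≤ m ∧ p ^ n₀ - 1 = q ^ m ∧ (∀ Q : Sylow q H, ¬ IsMulCommutative Q) ∧ p ^ (n - n₀) * (p ^ n₀ - 1) ≤ r := by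
  classical
  have hp : p.Prime := Fact.out
  set u : Module.End F V := (x : Module.End F V) - 1 with hu
  -- the minimal polynomial
  have hur : u ^ r = 0 := by
    have h1 := minpoly.aeval F (x : Module.End F V)
    rw [hr] at h1
    simpa using h1
  have hmin : ∀ k : ℕ, u ^ k = 0 → r ≤ k := by
    intro k hk
    have h1 : minpoly F (x : Module.End F V) ∣ (Polynomial.X - 1) ^ k := by
      apply minpoly.dvd
      simpa using hk
    rw [hr] at h1
    have hne : (Polynomial.X - 1 : Polynomial F) ≠ 0 := by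
      have := Polynomial.X_sub_C_ne_zero (1 : F)
      simpa using this
    have hnu : ¬ IsUnit (Polynomial.X - 1 : Polynomial F) := by
      have := Polynomial.not_isUnit_X_sub_C (1 : F)
      simpa using this
    exact (pow_dvd_pow_iff hne hnu).1 h1
  have hne_of : ∀ k : ℕ, u ^ k ≠ 0 → k < r := by
    intro k hk
    by_contra hle
    push Not at hle
    apply hk
    have : k = r + (k - r) := by omega
    rw [this, pow_add, hur, zero_mul]
  have hxpow : (x : Module.End F V) ^ (p ^ n) = 1 := by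
    rw [← coe_pow_linearEquiv, ← hn, pow_orderOf_eq_one]
    rfl
  have hupn : u ^ (p ^ n) = 0 := by
    rw [hu, Cfsg.Agent.Lib.Helper13.hh_sub_one_pow (K := F) p _ n, hxpow, sub_self]
  have hrle : r ≤ p ^ n := hmin _ hupn
  rcases Nat.eq_zero_or_pos n with hn0 | hnpos
  · -- trivial case
    left
    subst hn0
    rw [pow_zero] at hrle ⊢
    have : r ≠ 0 := by
      intro h0
      rw [h0, pow_zero] at hur
      exact one_ne_zero hur
    omega
  -- main case
  let xH : H := ⟨x, hx⟩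
  have hordx : orderOf xH = p ^ n := by
    rw [← hn]
    exact Subgroup.orderOf_mk x hx
  set y : H := xH ^ (p ^ (n - 1)) with hy
  have hy1 : y ≠ 1 := by
    apply pow_ne_one_of_lt_orderOf (pow_ne_zero _ hp.ne_zero)
    rw [hordx]
    exact Nat.pow_lt_pow_right hp.one_lt (by omega)
  have hxp : IsPGroup p (Subgroup.zpowers xH) :=
    Cfsg.Agent.Lib.Helper67.isPGroup_zpowers_of_pow_eq_one xH n (by
      rw [← hordx]; exact pow_orderOf_eq_one xH)
  obtain ⟨q, hqF, hqp, Q, hQ, hxN, t, htQ, ht⟩ :=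
    Cfsg.Agent.Lib.Helper67.exists_q_sub hsol hOp xH y hxp (Subgroup.npow_mem_zpowers xH _) hy1
  haveI := hqF
  -- base change
  let K := AlgebraicClosure F
  obtain ⟨d, Φ, hΦ⟩ := exists_base_change F V K
  let Ψ : H →* (Module.End K (Fin d → K))ˣ := (glHom Φ).comp H.subtype
  have hΨinj : Function.Injective Ψ := by
    intro a b hab
    exact Subtype.ext (glHom_injective Φ hΦ hab)
  have hΨval : ∀ g : H, ((Ψ g : (Module.End K (Fin d → K))ˣ) : Module.End K (Fin d → K)) =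
      Φ ((g : V ≃ₗ[F] V) : Module.End F V) := fun g => rfl
  set Q' := Q.map Ψ with hQ'
  haveI : Finite Q' := by
    rw [hQ']
    exact Finite.of_surjective (fun a : Q => (⟨Ψ a, Subgroup.mem_map_of_mem Ψ a.2⟩ : Q.map Ψ))
      (by rintro ⟨_, a, ha, rfl⟩; exact ⟨⟨a, ha⟩, rfl⟩)
  have hQ'q : IsPGroup q Q' := hQ.map Ψ
  set X' := Ψ xH with hX'
  have hX'Q : ∀ e ∈ Q', X' * e * X'⁻¹ ∈ Q' := by
    rintro _ ⟨e, he, rfl⟩
    refine ⟨xH * e * xH⁻¹, (Subgroup.mem_normalizer_iff.1 hxN e).1 he, ?_⟩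
    rw [map_mul, map_mul, map_inv]
  have hX'n : X' ^ (p ^ n) = 1 := by
    rw [hX', ← map_pow, ← hordx, pow_orderOf_eq_one, map_one]
  have hY' : ∃ t' ∈ Q', X' ^ (p ^ (n - 1)) * t' ≠ t' * X' ^ (p ^ (n - 1)) := by
    refine ⟨Ψ t, Subgroup.mem_map_of_mem Ψ htQ, ?_⟩
    intro h
    apply ht
    apply hΨinj
    rw [map_mul, map_mul, hy, map_pow]
    exact h
  have hres := thmR (K := K) p q hqp.symm (Nat.card Q') Q' hQ'q rfl X' hX'Q n hnpos hX'n hY'
  -- transfer
  have hΦu : ∀ k : ℕ, ((X' : Module.End K (Fin d → K)) - 1) ^ k = Φ (u ^ k) := by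
    intro k
    rw [map_pow, hu, map_sub, map_one, hX', hΨval]
  have hdown : ∀ k : ℕ, ((X' : Module.End K (Fin d → K)) - 1) ^ k ≠ 0 → k < r := by
    intro k hk
    apply hne_of
    intro h0
    apply hk
    rw [hΦu, h0, map_zero]
  rcases hres with h | ⟨n₀, b, h1, h2, h3, h4, ⟨e, he, f, hf, hef⟩, h6⟩
  · left
    have := hdown _ h
    omega
  · right
    refine ⟨n₀, q, b, h1, h2, hqF.out, h3, h4, ?_, ?_⟩
    · apply sylow_not_comm Q hQ
      obtain ⟨e', he', rfl⟩ := he
      obtain ⟨f', hf', rfl⟩ := hf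
      refine ⟨e', he', f', hf', ?_⟩
      intro h
      apply hef
      rw [← map_mul, ← map_mul, h]
    · have := hdown _ h6
      have hpos : 1 ≤ p ^ (n - n₀) * (p ^ n₀ - 1) := by
        rw [h4]
        exact Nat.mul_pos (pos_of_ne_zero (pow_ne_zero _ hp.ne_zero))
          (pos_of_ne_zero (pow_ne_zero _ hqF.out.ne_zero))
      omega

end Cfsg.Agent.S0633
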