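import Cfsg.Statements.S0635
import Cfsg.Agent.Lib.Helper15.UpperSeries
import Cfsg.Agent.S0634

set_option autoImplicit false
open Cfsg
open Cfsg.Agent.Lib.Helper15

namespace Cfsg.Agent.S0635

universe u

theorem pLength_zero {G : Type u} [Group G] [Finite G] (p : ℕ) [hp : Fact p.Prime]
    (S : Sylow p G) (hS : (S : Subgroup G) = ⊥) : PLengthLE p 0 G := by
  unfold PLengthLE
  have hnd : ¬ p ∣ Nat.card G := by
    have := S.not_dvd_index
    rwa [hS, Subgroup.index_bot] at this
  have hcop : (Nat.card G).Coprime p :=
    Nat.Coprime.symm ((Nat.Prime.coprime_iff_not_dvd hp.out).mpr hnd)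
  rw [show 2 * 0 + 1 = 0 + 1 from rfl, upperPSeries_succ_even p 0 (by simp)]
  have htop : pPrimeCore p (G ⧸ (upperPSeries p G 0).1) = ⊤ := by
    rw [eq_top_iff]
    apply Cfsg.Agent.Lib.Helper81.le_pPrimeCore (inferInstance : (⊤ : Subgroup _).Normal)
    rw [Subgroup.card_top]
    exact Nat.Coprime.coprime_dvd_left (Subgroup.card_quotient_dvd_card _) hcop
  rw [htop, Subgroup.comap_top]

theorem aux (p : ℕ) [hp : Fact p.Prime] : ∀ (c : ℕ) (G : Type u) [Group G] [Finite G],
    IsPSolvable p G → ∀ S : Sylow p G, Group.nilpotencyClass ↥(S : Subgroup G) ≤ c →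
    PLengthLE p c G := by
  intro c
  induction c with
  | zero =>
    intro G _ _ _ S hc
    haveI : Group.IsNilpotent ↥(S : Subgroup G) := S.isPGroup'.isNilpotent
    have h0 : Group.nilpotencyClass ↥(S : Subgroup G) = 0 := Nat.le_zero.mp hc
    have hsub : Subsingleton ↥(S : Subgroup G) := Group.nilpotencyClass_zero_iff_subsingleton.mp h0
    exact pLength_zero p S (Subgroup.eq_bot_of_subsingleton _)
  | succ c ih =>
    intro G _ _ hsol S hc
    haveI hnil : Group.IsNilpotent ↥(S : Subgroup G) := S.isPGroup'.isNilpotent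
    -- notation
    have h1 : (upperPSeries p G 1).1 =
        (pPrimeCore p (G ⧸ (upperPSeries p G 0).1)).comap (QuotientGroup.mk' _) :=
      upperPSeries_succ_even p 0 (by simp)
    have h2 : (upperPSeries p G 2).1 =
        (pCore p (G ⧸ (upperPSeries p G 1).1)).comap (QuotientGroup.mk' _) :=
      upperPSeries_succ_odd p 1 (by decide)
    have hbot : pPrimeCore p (G ⧸ (upperPSeries p G 1).1) = ⊥ :=
      Cfsg.Agent.S0634.pPrimeCore_quotient_comap_eq_bot p (upperPSeries p G 0).1 _ h1
    have hsol1 : IsPSolvable p (G ⧸ (upperPSeries p G 1).1) :=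
      Cfsg.Agent.Lib.Helper81.IsPSolvable.quotient hp.out hsol _
    have hHH := Cfsg.Agent.Lib.Helper81.centralizer_pCore_le hsol1 hbot
    have hsurj1 : Function.Surjective (QuotientGroup.mk' (upperPSeries p G 1).1) :=
      QuotientGroup.mk'_surjective _
    -- Z(S) ≤ U_2
    have hZK : ∀ z : G, z ∈ (S : Subgroup G) → (∀ s ∈ (S : Subgroup G), s * z = z * s) →
        z ∈ (upperPSeries p G 2).1 := by
      intro z hz hzc
      rw [h2, Subgroup.mem_comap]
      apply hHH
      have hle : pCore p (G ⧸ (upperPSeries p G 1).1) ≤ (S.mapSurjective hsurj1 : Subgroup _) :=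
        IsPGroup.le_sylow_of_normal (Cfsg.Agent.Lib.Helper81.isPGroup_pCore p) _
      rw [Subgroup.mem_centralizer_iff]
      intro y hy
      have hy' := hle hy
      rw [Sylow.coe_mapSurjective] at hy'
      obtain ⟨s, hs, rfl⟩ := hy'
      rw [← map_mul, ← map_mul, hzc s hs]
    -- the quotient X = G / U_2
    have hsolX : IsPSolvable p (G ⧸ (upperPSeries p G 2).1) :=
      Cfsg.Agent.Lib.Helper81.IsPSolvable.quotient hp.out hsol _
    have hsurj2 : Function.Surjective (QuotientGroup.mk' (upperPSeries p G 2).1) :=
      QuotientGroup.mk'_surjective _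
    have hclass : Group.nilpotencyClass
        ↥((S.mapSurjective hsurj2 : Sylow p (G ⧸ (upperPSeries p G 2).1)) :
          Subgroup (G ⧸ (upperPSeries p G 2).1)) ≤ c := by
      rw [Sylow.coe_mapSurjective]
      -- surjection from S / Z(S)
      set f : ↥(S : Subgroup G) →* ↥((S : Subgroup G).map (QuotientGroup.mk' (upperPSeries p G 2).1)) :=
        (QuotientGroup.mk' (upperPSeries p G 2).1).subgroupMap (S : Subgroup G) with hf
      have hfs : Function.Surjective f := MonoidHom.subgroupMap_surjective _ _
      have hker : Subgroup.center ↥(S : Subgroup G) ≤ f.ker := by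
        intro z hz
        rw [MonoidHom.mem_ker]
        apply Subtype.ext
        have hzK : (z : G) ∈ (upperPSeries p G 2).1 := by
          apply hZK _ z.2
          intro s hs
          have := Subgroup.mem_center_iff.mp hz ⟨s, hs⟩
          exact congrArg Subtype.val this
        exact (QuotientGroup.eq_one_iff (z : G)).mpr hzK
      have hls : Function.Surjective (QuotientGroup.lift (Subgroup.center ↥(S : Subgroup G)) f hker) := by
        intro y
        obtain ⟨x, rfl⟩ := hfs y
        exact ⟨QuotientGroup.mk x, by simp⟩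
      have h3 := Group.nilpotencyClass_le_of_surjective
        (QuotientGroup.lift (Subgroup.center ↥(S : Subgroup G)) f hker) hls
      rw [Group.nilpotencyClass_quotient_center] at h3
      omega
    have hX := ih (G ⧸ (upperPSeries p G 2).1) hsolX (S.mapSurjective hsurj2) hclass
    have := pLengthLE_of_quotient p 1 c (by simpa using hX)
    exact this

/-- The p-length of a p-soluble group is at most the nilpotency class of its Sylow p-subgroups. -/
theorem result {G : Type*} [Group G] [Finite G] {p : ℕ} [Fact p.Prime] (hsol : Cfsg.IsPSolvable p G) (S : Sylow p G) : Cfsg.PLengthLE p (Group.nilpotencyClass ↥(S : Subgroup G)) G := by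
  exact aux p _ G hsol S le_rfl

end Cfsg.Agent.S0635
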