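import Cfsg.Statements.S0642

set_option autoImplicit false
open Cfsg
open scoped commutatorElement

namespace Cfsg.Agent.S0642

theorem pow_closure_ne_top {P : Type*} [Group P] [Finite P] [Nontrivial P] {p : ℕ} [Fact p.Prime]
    (hP : IsPGroup p P) : Subgroup.closure {y : P | ∃ x : P, y = x ^ p} ≠ ⊤ := by
  have hnil : Group.IsNilpotent P := hP.isNilpotent
  have hlt : commutator P < ⊤ := Group.IsSolvable.commutator_lt_top_of_nontrivial P
  have hAnt : Nontrivial (Abelianization P) := by
    unfold Abelianization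
    rw [QuotientGroup.nontrivial_iff]
    exact hlt.ne
  have hA : IsPGroup p (Abelianization P) := hP.to_quotient _
  obtain ⟨n, hn, hcard⟩ := hA.nontrivial_iff_card.mp hAnt
  have hdvd : p ∣ Nat.card (Abelianization P) := by
    rw [hcard]; exact dvd_pow_self p hn.ne'
  obtain ⟨g, hg⟩ := exists_prime_orderOf_dvd_card' p hdvd
  set φ : Abelianization P →* Abelianization P := powMonoidHom p with hφ
  have hninj : ¬ Function.Injective φ := by
    intro hinj
    have h1 : φ g = φ 1 := by
      simp only [hφ, powMonoidHom_apply, one_pow]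
      rw [← hg]; exact pow_orderOf_eq_one g
    have h2 := hinj h1
    rw [h2, orderOf_one] at hg
    exact (Fact.out : p.Prime).one_lt.ne hg
  have hnsurj : ¬ Function.Surjective φ := fun h => hninj (Finite.injective_iff_surjective.mpr h)
  rw [Function.Surjective] at hnsurj
  push Not at hnsurj
  obtain ⟨z, hz⟩ := hnsurj
  obtain ⟨w, rfl⟩ := QuotientGroup.mk_surjective z
  intro htop
  have hle : Subgroup.closure {y : P | ∃ x : P, y = x ^ p} ≤ φ.range.comap (QuotientGroup.mk' (commutator P)) := by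
    rw [Subgroup.closure_le]
    rintro _ ⟨x, rfl⟩
    refine ⟨QuotientGroup.mk' (commutator P) x, ?_⟩
    rfl
  have hw : w ∈ Subgroup.closure {y : P | ∃ x : P, y = x ^ p} := by rw [htop]; trivial
  obtain ⟨v, hv⟩ := hle hw
  exact hz v hv

theorem powerClosure_ne_self {G : Type*} [Group G] [Finite G] {p : ℕ} [Fact p.Prime]
    (D : Subgroup G) (hD : IsPGroup p D) (hne : D ≠ ⊥) : Cfsg.powerClosure p 1 D ≠ D := by
  have hnt : Nontrivial D := (Subgroup.nontrivial_iff_ne_bot D).mpr hne
  have h1 := pow_closure_ne_top hD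
  intro h
  apply h1
  have hmap : (Subgroup.closure {y : D | ∃ x : D, y = x ^ p}).map D.subtype = Cfsg.powerClosure p 1 D := by
    unfold Cfsg.powerClosure
    rw [MonoidHom.map_closure]
    congr 1
    ext y
    constructor
    · rintro ⟨_, ⟨x, rfl⟩, rfl⟩
      exact ⟨x, x.2, by simp⟩
    · rintro ⟨x, hx, rfl⟩
      exact ⟨⟨x, hx⟩ ^ p, ⟨⟨x, hx⟩, rfl⟩, by simp⟩
  rw [h] at hmap
  apply Subgroup.map_injective D.subtype_injective
  rw [hmap, ← MonoidHom.range_eq_map, Subgroup.range_subtype]

theorem conj_mem_powerClosure {G : Type*} [Group G] (p n : ℕ) (D : Subgroup G) (h : G)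
    (hD : ∀ x ∈ D, h * x * h⁻¹ ∈ D) :
    ∀ m ∈ Cfsg.powerClosure p n D, h * m * h⁻¹ ∈ Cfsg.powerClosure p n D := by
  intro m hm
  unfold Cfsg.powerClosure at hm ⊢
  induction hm using Subgroup.closure_induction with
  | mem y hy =>
    obtain ⟨x, hx, rfl⟩ := hy
    apply Subgroup.subset_closure
    exact ⟨h * x * h⁻¹, hD x hx, by rw [conj_pow]⟩
  | one => simp
  | mul x y _ _ hx hy =>
    have : h * (x * y) * h⁻¹ = (h * x * h⁻¹) * (h * y * h⁻¹) := by group
    rw [this]
    exact Subgroup.mul_mem _ hx hy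
  | inv x _ hx =>
    have : h * x⁻¹ * h⁻¹ = (h * x * h⁻¹)⁻¹ := by group
    rw [this]
    exact Subgroup.inv_mem _ hx

theorem commutator_closure_pair_le {G : Type*} [Group G] (a b : G) (M : Subgroup G)
    (hM : ∀ h ∈ Subgroup.closure ({a, b} : Set G), ∀ m ∈ M, h * m * h⁻¹ ∈ M) (hab : ⁅a, b⁆ ∈ M) :
    ⁅Subgroup.closure ({a, b} : Set G), Subgroup.closure ({a, b} : Set G)⁆ ≤ M := by
  have hba : ⁅b, a⁆ ∈ M := by
    rw [← commutatorElement_inv]; exact M.inv_mem hab
  have stepA : ∀ x ∈ ({a, b} : Set G), ∀ y ∈ ({a, b} : Set G), ⁅x, y⁆ ∈ M := by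
    rintro x (rfl | rfl) y (rfl | rfl)
    · rw [commutatorElement_self]; exact M.one_mem
    · exact hab
    · exact hba
    · rw [commutatorElement_self]; exact M.one_mem
  have stepB : ∀ x ∈ ({a, b} : Set G), ∀ g ∈ Subgroup.closure ({a, b} : Set G), ⁅x, g⁆ ∈ M := by
    intro x hx g hg
    induction hg using Subgroup.closure_induction with
    | mem y hy => exact stepA x hx y hy
    | one => rw [commutatorElement_one_right]; exact M.one_mem
    | mul g h hg hh ihg ihh =>
      rw [commutatorElement_mul_right_eq_mul_conj]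
      have := hM g hg _ ihh
      have h2 : ⁅x, g⁆ * g * ⁅x, h⁆ * g⁻¹ = ⁅x, g⁆ * (g * ⁅x, h⁆ * g⁻¹) := by group
      rw [h2]
      exact M.mul_mem ihg this
    | inv g hg ihg =>
      rw [commutatorElement_inv_right]
      have h1 : ⁅g, x⁆ ∈ M := by rw [← commutatorElement_inv]; exact M.inv_mem ihg
      have := hM g⁻¹ (Subgroup.inv_mem _ hg) _ h1
      simpa using this
  rw [Subgroup.commutator_le]
  intro h hh g hg
  induction hh using Subgroup.closure_induction with
  | mem y hy => exact stepB y hy g hg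
  | one => rw [commutatorElement_one_left]; exact M.one_mem
  | mul x y hx hy ihx ihy =>
    rw [commutatorElement_mul_left_eq_conj_mul]
    exact M.mul_mem (hM x hx _ ihy) ihx
  | inv x hx ihx =>
    rw [commutatorElement_inv_left]
    have h1 : ⁅g, x⁆ ∈ M := by rw [← commutatorElement_inv]; exact M.inv_mem ihx
    have := hM x⁻¹ (Subgroup.inv_mem _ hx) _ h1
    simpa using this

/-- Among finite 2-groups the regular ones are exactly the abelian ones. -/
theorem result {G : Type*} [Group G] [Finite G] (hG : IsPGroup 2 G) : Cfsg.IsRegularPGroup 2 G ↔ ∀ a b : G, a * b = b * a := by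
  haveI : Fact (Nat.Prime 2) := ⟨Nat.prime_two⟩
  constructor
  · intro hreg a b
    set H : Subgroup G := Subgroup.closure ({a, b} : Set G) with hH
    set D : Subgroup G := ⁅H, H⁆ with hD
    set M : Subgroup G := Cfsg.powerClosure 2 1 D with hMdef
    obtain ⟨c, hc, hcc⟩ := hreg.2 a b 1
    have haH : a ∈ H := Subgroup.subset_closure (by simp)
    have hbH : b ∈ H := Subgroup.subset_closure (by simp)
    have hHD : ∀ h ∈ H, ∀ x ∈ D, h * x * h⁻¹ ∈ D := by
      intro h hh x hx
      have := (Subgroup.normalizer_commutator_ge_left (H₁ := H) (H₂ := H)) hh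
      exact (Subgroup.mem_normalizer_iff.mp this x).mp hx
    have hHM : ∀ h ∈ H, ∀ m ∈ M, h * m * h⁻¹ ∈ M := by
      intro h hh m hm
      exact conj_mem_powerClosure 2 1 D h (hHD h hh) m hm
    have hceq : c = b⁻¹ * b⁻¹ * a⁻¹ * b * a * b := by
      simp only [pow_one, pow_two] at hcc
      have h1 : c = (a * a * (b * b))⁻¹ * (a * b * (a * b)) := by
        rw [hcc]; group
      rw [h1]; group
    have hcomm : ⁅a, b⁆ ∈ M := by
      have h1 : ⁅a, b⁆ = (b * a * b) * c⁻¹ * (b * a * b)⁻¹ := by
        rw [hceq, commutatorElement_def]; group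
      rw [h1]
      exact hHM _ (H.mul_mem (H.mul_mem hbH haH) hbH) _ (M.inv_mem hc)
    have hDM : D ≤ M := commutator_closure_pair_le a b M hHM hcomm
    have hMD : M ≤ D := by
      rw [hMdef]; unfold Cfsg.powerClosure
      rw [Subgroup.closure_le]
      rintro _ ⟨x, hx, rfl⟩
      exact D.pow_mem hx _
    have hMeq : M = D := le_antisymm hMD hDM
    have hDbot : D = ⊥ := by
      by_contra hne
      exact powerClosure_ne_self D (hG.to_subgroup D) hne hMeq
    have : ⁅a, b⁆ ∈ D := Subgroup.commutator_mem_commutator haH hbH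
    rw [hDbot, Subgroup.mem_bot] at this
    exact commutatorElement_eq_one_iff_mul_comm.mp this
  · intro hab
    refine ⟨hG, ?_⟩
    intro a b n
    refine ⟨1, Subgroup.one_mem _, ?_⟩
    rw [mul_one]
    exact (show Commute a b from hab a b).mul_pow _

end Cfsg.Agent.S0642
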