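import Cfsg.Statements.S0643
import Cfsg.Agent.Lib.Helper75.RegularLevel

set_option autoImplicit false
open Cfsg

namespace Cfsg.Agent.S0643

open Cfsg.Agent.Lib.Helper75
open scoped commutatorElement

theorem powerClosure_mono' {G : Type*} [Group G] (p n : ℕ) {K L : Subgroup G} (h : K ≤ L) :
    Cfsg.powerClosure p n K ≤ Cfsg.powerClosure p n L := by
  unfold Cfsg.powerClosure
  apply Subgroup.closure_mono
  rintro _ ⟨x, hx, rfl⟩
  exact ⟨x, h hx, rfl⟩

theorem pow_mem_powerClosure {G : Type*} [Group G] (p n : ℕ) {K : Subgroup G} {x : G} (hx : x ∈ K) :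
    x ^ p ^ n ∈ Cfsg.powerClosure p n K :=
  Subgroup.subset_closure ⟨x, hx, rfl⟩

/-- `℧_1(℧_k(M)) ≤ ℧_{k+1}(M)` when the elements of `℧_k(M)` are `p^k`-th powers. -/
theorem powerClosure_one_powerClosure_le {G : Type*} [Group G] {p k : ℕ}
    (hPM : PowMulPowAt p k G) (M : Subgroup G) :
    Cfsg.powerClosure p 1 (Cfsg.powerClosure p k M) ≤ Cfsg.powerClosure p (k + 1) M := by
  unfold Cfsg.powerClosure
  rw [Subgroup.closure_le]
  rintro _ ⟨w, hw, rfl⟩
  have hw' : w ∈ Cfsg.powerClosure p k M := hw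
  rw [hPM.mem_powerClosure] at hw'
  obtain ⟨m, hm, rfl⟩ := hw'
  apply Subgroup.subset_closure
  refine ⟨m, hm, ?_⟩
  rw [pow_one, ← pow_mul, ← pow_succ]

theorem regAt_succ {G : Type*} [Group G] [Finite G] {p k : ℕ} [Fact p.Prime]
    (h1 : RegAt p 1 G) (hk : RegAt p k G) : RegAt p (k + 1) G := by
  refine ⟨h1.1, ?_⟩
  intro a b
  have hPM := powMulPowAt_of_regAt hk
  set H := Subgroup.closure ({a, b} : Set G) with hH
  have haH : a ∈ H := Subgroup.subset_closure (by simp)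
  have hbH : b ∈ H := Subgroup.subset_closure (by simp)
  obtain ⟨c, hc, hcab⟩ := hk.2 a b
  rw [hPM.mem_powerClosure] at hc
  obtain ⟨d, hd, rfl⟩ := hc
  have hdH : d ∈ H := Subgroup.commutator_le_self H hd
  obtain ⟨e₁, he₁, h1xyz⟩ := h1.2 (a ^ p ^ k * b ^ p ^ k) (d ^ p ^ k)
  obtain ⟨e₂, he₂, h1xy⟩ := h1.2 (a ^ p ^ k) (b ^ p ^ k)
  have hxP : a ^ p ^ k ∈ Cfsg.powerClosure p k H := pow_mem_powerClosure p k haH
  have hyP : b ^ p ^ k ∈ Cfsg.powerClosure p k H := pow_mem_powerClosure p k hbH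
  have hzP : d ^ p ^ k ∈ Cfsg.powerClosure p k H := pow_mem_powerClosure p k hdH
  have hcomm := commutator_powerClosure_le_at hk H
  have hK₁ : Subgroup.closure ({a ^ p ^ k * b ^ p ^ k, d ^ p ^ k} : Set G) ≤ Cfsg.powerClosure p k H := by
    rw [Subgroup.closure_le]
    rintro w (rfl | rfl)
    · exact mul_mem hxP hyP
    · exact hzP
  have hK₂ : Subgroup.closure ({a ^ p ^ k, b ^ p ^ k} : Set G) ≤ Cfsg.powerClosure p k H := by
    rw [Subgroup.closure_le]
    rintro w (rfl | rfl)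
    · exact hxP
    · exact hyP
  have he₁' : e₁ ∈ Cfsg.powerClosure p (k + 1) ⁅H, H⁆ := by
    apply powerClosure_one_powerClosure_le hPM
    refine powerClosure_mono' p 1 ?_ he₁
    exact le_trans (Subgroup.commutator_mono hK₁ hK₁) hcomm
  have he₂' : e₂ ∈ Cfsg.powerClosure p (k + 1) ⁅H, H⁆ := by
    apply powerClosure_one_powerClosure_le hPM
    refine powerClosure_mono' p 1 ?_ he₂
    exact le_trans (Subgroup.commutator_mono hK₂ hK₂) hcomm
  have hd' : d ^ p ^ (k + 1) ∈ Cfsg.powerClosure p (k + 1) ⁅H, H⁆ := pow_mem_powerClosure p (k + 1) hd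
  refine ⟨e₂ * d ^ p ^ (k + 1) * e₁, mul_mem (mul_mem he₂' hd') he₁', ?_⟩
  have e : ∀ g : G, g ^ p ^ (k + 1) = (g ^ p ^ k) ^ p ^ 1 := by
    intro g
    rw [pow_one, ← pow_mul, ← pow_succ]
  rw [e (a * b), hcab, h1xyz, h1xy, e a, e b, e d]
  simp only [mul_assoc]

theorem regAt_of_kemhadze {G : Type*} [Group G] [Finite G] {p : ℕ} [Fact p.Prime] (hG : IsPGroup p G)
    (h : ∀ a b : G, ∃ c ∈ ⁅Subgroup.closure ({a, b} : Set G), Subgroup.closure ({a, b} : Set G)⁆,
      (a * b) ^ p = a ^ p * b ^ p * c ^ p) : ∀ k, RegAt p k G := by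
  have h1 : RegAt p 1 G := by
    refine ⟨hG, ?_⟩
    intro a b
    obtain ⟨c, hc, hcab⟩ := h a b
    refine ⟨c ^ p ^ 1, pow_mem_powerClosure p 1 hc, ?_⟩
    simpa using hcab
  intro k
  induction k with
  | zero =>
    refine ⟨hG, ?_⟩
    intro a b
    exact ⟨1, Subgroup.one_mem _, by simp⟩
  | succ k ih => exact regAt_succ h1 ih

/-- Kemhadze's criterion: a finite p-group is regular exactly when (ab)^p = a^p b^p c^p always holds for some c in the derived subgroup of the subgroup generated by a and b. -/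
theorem result {G : Type*} [Group G] [Finite G] {p : ℕ} [Fact p.Prime] (hG : IsPGroup p G) : Cfsg.IsRegularPGroup p G ↔ ∀ a b : G, ∃ c ∈ ⁅Subgroup.closure ({a, b} : Set G), Subgroup.closure ({a, b} : Set G)⁆, (a * b) ^ p = a ^ p * b ^ p * c ^ p := by
  constructor
  · intro hreg a b
    obtain ⟨c', hc', hcab⟩ := hreg.2 a b 1
    rw [(powMulPow_of_regular hreg).mem_powerClosure] at hc'
    obtain ⟨c, hc, rfl⟩ := hc'
    refine ⟨c, hc, ?_⟩
    simpa using hcab
  · intro h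
    rw [isRegularPGroup_iff_regAt]
    exact regAt_of_kemhadze hG h

end Cfsg.Agent.S0643
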