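import Cfsg.Statements.S0644
import Cfsg.Agent.Lib.Helper75.RegularPower

set_option autoImplicit false
open Cfsg

namespace Cfsg.Agent.S0644

open Cfsg.Agent.Lib.Helper75
open scoped commutatorElement

/-- In a regular p-group the p^n-th powers of the elements of any subgroup H form a subgroup, whose derived subgroup is contained in the subgroup generated by the p^n-th powers of elements of the derived subgroup of H. -/
theorem result {G : Type*} [Group G] [Finite G] {p : ℕ} [Fact p.Prime] (hG : Cfsg.IsRegularPGroup p G) (H : Subgroup G) (n : ℕ) : {y : G | ∃ x ∈ H, y = x ^ (p ^ n)} = (Cfsg.powerClosure p n H : Set G) ∧ ⁅Cfsg.powerClosure p n H, Cfsg.powerClosure p n H⁆ ≤ Cfsg.powerClosure p n ⁅H, H⁆ := by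
  have hPM := powMulPow_of_regular hG
  have hmem := hPM.mem_powerClosure n H
  refine ⟨?_, ?_⟩
  · ext y
    rw [SetLike.mem_coe, hmem]
    rfl
  · rw [Subgroup.commutator_le]
    intro g₁ hg₁ g₂ hg₂
    rw [hmem] at hg₁ hg₂
    obtain ⟨x, hx, rfl⟩ := hg₁
    obtain ⟨y, hy, rfl⟩ := hg₂
    have hH : Cfsg.IsRegularPGroup p H := isRegularPGroup_subgroup hG H
    have h1 := commutator_pow_pow_mem hH ⟨x, hx⟩ ⟨y, hy⟩ n
    have h2 : H.subtype ⁅(⟨x, hx⟩ : H) ^ p ^ n, (⟨y, hy⟩ : H) ^ p ^ n⁆ ∈
        (Cfsg.powerClosure p n (commutator H)).map H.subtype := Subgroup.mem_map_of_mem _ h1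
    rw [powerClosure_map, Subgroup.map_subtype_commutator] at h2
    simpa using h2

end Cfsg.Agent.S0644
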