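import Cfsg.Statements.S0645
import Cfsg.Agent.S0636
import Cfsg.Agent.Lib.Helper15.CycNT
-- import your own Cfsg.Agent.* helpers here

set_option autoImplicit false
open Cfsg

namespace Cfsg.Agent.S0645

theorem conj_pow_iter {G : Type*} [Group G] (a b : G) (r : ℕ) (h : b * a * b⁻¹ = a ^ r) (j : ℕ) :
    b ^ j * a * (b ^ j)⁻¹ = a ^ (r ^ j) := by
  induction j with
  | zero => simp
  | succ j ih =>
    have e : b ^ (j + 1) * a * (b ^ (j + 1))⁻¹ = b * (b ^ j * a * (b ^ j)⁻¹) * b⁻¹ := by
      rw [pow_succ']; group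
    rw [e, ih, ← conj_pow, h, ← pow_mul, pow_succ']

/-- a subgroup of prime index together with an element outside it generates everything -/
theorem sup_zpowers_eq_top {G : Type*} [Group G] {p : ℕ} [hp : Fact p.Prime] (C : Subgroup G)
    (hCi : C.index = p) (b : G) (hb : b ∉ C) : C ⊔ Subgroup.zpowers b = ⊤ := by
  have hle : C ≤ C ⊔ Subgroup.zpowers b := le_sup_left
  have h1 := Subgroup.relIndex_mul_index hle
  rw [hCi] at h1
  have hdvd : (C ⊔ Subgroup.zpowers b).index ∣ p := Dvd.intro_left _ h1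
  rcases (Nat.dvd_prime hp.out).mp hdvd with h2 | h2
  · exact Subgroup.index_eq_one.mp h2
  · exfalso
    rw [h2] at h1
    have h3 : C.relIndex (C ⊔ Subgroup.zpowers b) = 1 := by
      have hp0 := hp.out.pos
      exact Nat.eq_of_mul_eq_mul_right hp0 (by rw [h1, one_mul])
    have h4 := Subgroup.relIndex_eq_one.mp h3
    exact hb (h4 (Subgroup.mem_sup_right (Subgroup.mem_zpowers b)))

/-- Classification of p-groups with a cyclic maximal subgroup, odd p: a non-abelian one of order p^n has generators a of order p^(n-1) and b of order p, b outside the cyclic subgroup generated by a, with b a b⁻¹ = a^(1 + p^(n-2)). -/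
theorem result {G : Type*} [Group G] [Finite G] {p : ℕ} [Fact p.Prime] (hp : p ≠ 2) (n : ℕ) (hn : 3 ≤ n) (hG : Nat.card G = p ^ n) (C : Subgroup G) (hC : IsCyclic C) (hCi : C.index = p) (hna : ∃ x y : G, x * y ≠ y * x) : ∃ a b : G, orderOf a = p ^ (n - 1) ∧ orderOf b = p ∧ b ∉ Subgroup.zpowers a ∧ b * a * b⁻¹ = a ^ (1 + p ^ (n - 2)) := by
  have hpp : p.Prime := Fact.out
  have hp2 : 2 ≤ p := hpp.two_le
  have hPG : IsPGroup p G := IsPGroup.of_card hG
  obtain ⟨x0, y0, hxy⟩ := hna
  -- G is not cyclic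
  have hncyc : ¬ IsCyclic (⊤ : Subgroup G) := by
    intro hcyc
    have : IsCyclic G := isCyclic_of_surjective (⊤ : Subgroup G).subtype (by
      intro g; exact ⟨⟨g, Subgroup.mem_top g⟩, rfl⟩)
    obtain ⟨g, hg⟩ := this.exists_generator
    obtain ⟨i, rfl⟩ := hg x0
    obtain ⟨j, rfl⟩ := hg y0
    exact hxy ((Commute.refl g).zpow_zpow i j).eq
  obtain ⟨A, -, hAn, ⟨hAcomm, hAexp⟩, hAcard⟩ := Cfsg.Agent.S0636.result hp hPG ⊤ hncyc
  -- generator of C
  obtain ⟨g, hg⟩ := hC.exists_generator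
  have hCz : Subgroup.zpowers (g : G) = C := by
    apply le_antisymm
    · rw [Subgroup.zpowers_le]; exact g.2
    · intro x hx
      obtain ⟨i, hi⟩ := hg ⟨x, hx⟩
      refine ⟨i, ?_⟩
      have := congrArg (Subtype.val) hi
      simpa using this
  have hcardC : Nat.card C = p ^ (n - 1) := by
    have h1 := C.card_mul_index
    rw [hCi, hG] at h1
    have : p ^ n = p ^ (n - 1) * p := by rw [← pow_succ]; congr 1; omega
    rw [this] at h1
    exact Nat.eq_of_mul_eq_mul_right hpp.pos h1
  have hoa : orderOf (g : G) = p ^ (n - 1) := by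
    rw [← Nat.card_zpowers, hCz, hcardC]
  -- C normal
  have hCn : C.Normal := by
    apply Subgroup.normal_of_index_eq_minFac_card
    rw [hCi, hG, Nat.Prime.pow_minFac hpp (by omega)]
  -- A is not contained in C
  have hAC : ¬ A ≤ C := by
    intro hle
    -- every element of A is a power of g, of order dividing p, hence in the subgroup of order p
    have hsub : ∀ x ∈ A, x ∈ Subgroup.zpowers ((g : G) ^ (p ^ (n - 2))) := by
      intro x hx
      have hxC : x ∈ Subgroup.zpowers (g : G) := by rw [hCz]; exact hle hx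
      obtain ⟨i, rfl⟩ := hxC
      have hxp := hAexp _ hx
      rw [← zpow_natCast, ← zpow_mul] at hxp
      have hdvd := orderOf_dvd_iff_zpow_eq_one.mpr hxp
      rw [hoa] at hdvd
      have hnn : p ^ (n - 1) = p ^ (n - 2) * p := by rw [← pow_succ]; congr 1; omega
      rw [hnn] at hdvd
      push_cast at hdvd
      have hp0 : (p : ℤ) ≠ 0 := by exact_mod_cast hpp.ne_zero
      have hdvd2 : ((p : ℤ) ^ (n - 2)) ∣ i := (mul_dvd_mul_iff_right hp0).mp hdvd
      obtain ⟨c, rfl⟩ := hdvd2
      refine ⟨c, ?_⟩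
      show ((g : G) ^ (p ^ (n - 2))) ^ c = (g : G) ^ ((p : ℤ) ^ (n - 2) * c)
      rw [← zpow_natCast, ← zpow_mul]
      push_cast
      rfl
    have hle2 : A ≤ Subgroup.zpowers ((g : G) ^ (p ^ (n - 2))) := hsub
    have hcard2 : Nat.card (Subgroup.zpowers ((g : G) ^ (p ^ (n - 2)))) = p := by
      rw [Nat.card_zpowers, orderOf_pow' _ (by positivity : p ^ (n - 2) ≠ 0), hoa]
      have hnn : p ^ (n - 1) = p ^ (n - 2) * p := by rw [← pow_succ]; congr 1; omega
      rw [hnn, Nat.gcd_eq_right (Dvd.intro _ rfl)]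
      exact Nat.mul_div_cancel_left p (by positivity)
    have := Subgroup.card_le_of_le hle2
    rw [hAcard, hcard2] at this
    nlinarith
  obtain ⟨b0, hb0A, hb0C⟩ := SetLike.not_le_iff_exists.mp hAC
  have hb0p : b0 ^ p = 1 := hAexp b0 hb0A
  set a : G := (g : G) with ha
  -- conjugation
  have hconj : b0 * a * b0⁻¹ ∈ Subgroup.zpowers a := by
    rw [hCz]; exact hCn.conj_mem a g.2 b0
  have hfin : IsOfFinOrder a := isOfFinOrder_of_finite a
  obtain ⟨r, hr⟩ := (hfin.mem_powers_iff_mem_zpowers).mpr hconj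
  have hr' : b0 * a * b0⁻¹ = a ^ r := hr.symm
  have hiter := conj_pow_iter a b0 r hr' p
  rw [hb0p] at hiter
  simp only [one_mul, inv_one, mul_one] at hiter
  have hmod : r ^ p ≡ 1 [MOD p ^ (n - 1)] := by
    rw [← hoa]
    apply (pow_eq_pow_iff_modEq).mp
    rw [pow_one]; exact hiter.symm
  have hne : ¬ r ≡ 1 [MOD p ^ (n - 1)] := by
    intro h1
    rw [← hoa] at h1
    have h2 : a ^ r = a ^ 1 := pow_eq_pow_iff_modEq.mpr h1
    rw [pow_one] at h2
    rw [h2] at hr'
    have hcomm : Commute b0 a := by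
      show b0 * a = a * b0
      have := congrArg (· * b0) hr'
      simpa using this
    have htop := sup_zpowers_eq_top C hCi b0 hb0C
    rw [← hCz] at htop
    -- closure {a, b0} is abelian
    have hcl : Subgroup.zpowers a ⊔ Subgroup.zpowers b0 = Subgroup.closure {a, b0} := by
      rw [Subgroup.zpowers_eq_closure, Subgroup.zpowers_eq_closure, ← Subgroup.closure_union]
      rfl
    rw [hcl] at htop
    have hcc : ∀ x ∈ ({a, b0} : Set G), ∀ y ∈ ({a, b0} : Set G), x * y = y * x := by
      intro x hx y hy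
      simp only [Set.mem_insert_iff, Set.mem_singleton_iff] at hx hy
      rcases hx with rfl | rfl <;> rcases hy with rfl | rfl
      · rfl
      · exact hcomm.eq.symm
      · exact hcomm.eq
      · rfl
    have hmc := Subgroup.isMulCommutative_closure hcc
    have hx0 : x0 ∈ Subgroup.closure ({a, b0} : Set G) := htop ▸ Subgroup.mem_top x0
    have hy0 : y0 ∈ Subgroup.closure ({a, b0} : Set G) := htop ▸ Subgroup.mem_top y0
    have := hmc.is_comm.comm (⟨x0, hx0⟩ : Subgroup.closure ({a, b0} : Set G)) ⟨y0, hy0⟩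
    exact hxy (congrArg Subtype.val this)
  obtain ⟨s, hps, hs⟩ := Cfsg.Agent.Lib.Helper15.exists_pow_modEq_one_add hp (by omega : 2 ≤ n - 1) hmod hne
  have hnn : n - 1 - 1 = n - 2 := by omega
  rw [hnn] at hs
  have hbC : b0 ^ s ∉ C := by
    intro hmem
    have hcop : Nat.Coprime s p := ((Nat.Prime.coprime_iff_not_dvd hpp).mpr hps).symm
    obtain ⟨m, -, hm⟩ := Nat.exists_mul_mod_eq_one_of_coprime hcop (by omega : 1 < p)
    have hdm := Nat.div_add_mod (s * m) p
    rw [hm] at hdm
    have : (b0 ^ s) ^ m = b0 := by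
      rw [← pow_mul, ← hdm, pow_add, pow_mul, hb0p, one_pow, one_mul, pow_one]
    apply hb0C
    rw [← this]
    exact C.pow_mem hmem m
  refine ⟨a, b0 ^ s, hoa, ?_, ?_, ?_⟩
  · -- order of b
    apply orderOf_eq_prime
    · rw [← pow_mul, mul_comm, pow_mul, hb0p, one_pow]
    · intro h1
      apply hbC
      rw [h1]; exact C.one_mem
  · rw [hCz]; exact hbC
  · rw [conj_pow_iter a b0 r hr' s]
    apply pow_eq_pow_iff_modEq.mpr
    rw [hoa]; exact hs

end Cfsg.Agent.S0645
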