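import Cfsg.Statements.S0646
-- import your own Cfsg.Agent.* helpers here

import Cfsg.Agent.Lib.Helper15.Cyc2NT
import Cfsg.Agent.Lib.Helper15.CycMax

set_option autoImplicit false
open Cfsg

namespace Cfsg.Agent.S0646

theorem sq_mul_pow {G : Type*} [Group G] (a b : G) (r s j : ℕ) (h : b * a * b⁻¹ = a ^ r)
    (hs : b ^ 2 = a ^ s) : (b * a ^ j) ^ 2 = a ^ (r * j + s + j) := by
  have h1 : b * a ^ j * b⁻¹ = a ^ (r * j) := by rw [← conj_pow, h, ← pow_mul]
  calc (b * a ^ j) ^ 2 = (b * a ^ j * b⁻¹) * b ^ 2 * a ^ j := by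
        rw [pow_two, pow_two]; group
    _ = a ^ (r * j + s + j) := by rw [h1, hs, ← pow_add, ← pow_add]

theorem conj_mul_pow {G : Type*} [Group G] (a b : G) (r j : ℕ) (h : b * a * b⁻¹ = a ^ r) :
    (b * a ^ j) * a * (b * a ^ j)⁻¹ = a ^ r := by
  rw [← h]; group

open Cfsg.Agent.Lib.Helper15 in
/-- Classification of non-abelian 2-groups with a cyclic maximal subgroup: dihedral, generalized quaternion, and for order at least 16 the modular group and the semidihedral group, each given by generators a (of index 2) and b with the stated relations. -/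
theorem result {G : Type*} [Group G] [Finite G] (n : ℕ) (hn : 3 ≤ n) (hG : Nat.card G = 2 ^ n) (C : Subgroup G) (hC : IsCyclic C) (hCi : C.index = 2) (hna : ∃ x y : G, x * y ≠ y * x) : ∃ a b : G, orderOf a = 2 ^ (n - 1) ∧ b ∉ Subgroup.zpowers a ∧ ((b ^ 2 = 1 ∧ b * a * b⁻¹ = a⁻¹) ∨ (b ^ 2 = a ^ (2 ^ (n - 2)) ∧ b * a * b⁻¹ = a⁻¹) ∨ (4 ≤ n ∧ b ^ 2 = 1 ∧ b * a * b⁻¹ = a ^ (1 + 2 ^ (n - 2))) ∨ (4 ≤ n ∧ b ^ 2 = 1 ∧ b * a * b⁻¹ = a ^ (2 ^ (n - 2) - 1))) := by
  obtain ⟨j, rfl⟩ : ∃ j, n = j + 3 := ⟨n - 3, by omega⟩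
  have e1 : j + 3 - 1 = j + 2 := by omega
  have e2 : j + 3 - 2 = j + 1 := by omega
  rw [e1, e2]
  obtain ⟨x0, y0, hxy⟩ := hna
  have hpos : 0 < 2 ^ j := by positivity
  have hN : 2 ^ (j + 2) = 4 * 2 ^ j := by ring
  have h2M : 2 ^ (j + 1) = 2 * 2 ^ j := by ring
  have : Fact (Nat.Prime 2) := ⟨Nat.prime_two⟩
  obtain ⟨g, hg⟩ := hC.exists_generator
  obtain ⟨a, ha⟩ : ∃ a : G, a = (g : G) := ⟨_, rfl⟩
  have haC : a ∈ C := by rw [ha]; exact g.2
  have hCz : Subgroup.zpowers a = C := by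
    apply le_antisymm
    · rw [Subgroup.zpowers_le]; exact haC
    · intro x hx
      obtain ⟨i, hi⟩ := hg ⟨x, hx⟩
      refine ⟨i, ?_⟩
      have := congrArg (Subtype.val) hi
      rw [ha]
      simpa using this
  have hcardC : Nat.card C = 2 ^ (j + 2) := by
    have h1 := C.card_mul_index
    rw [hCi, hG] at h1
    have : 2 ^ (j + 3) = 2 ^ (j + 2) * 2 := pow_succ 2 (j + 2)
    omega
  have hoa : orderOf a = 4 * 2 ^ j := by rw [← Nat.card_zpowers, hCz, hcardC, hN]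
  have hoa' : orderOf a = 2 ^ (j + 2) := by rw [hoa, hN]
  have hCn : C.Normal := Subgroup.normal_of_index_eq_two hCi
  obtain ⟨b0, hb0⟩ : ∃ b0, b0 ∉ C := by
    by_contra hcon
    push Not at hcon
    have : C = ⊤ := eq_top_iff.mpr (fun x _ => hcon x)
    rw [this, Subgroup.index_top] at hCi
    omega
  have hfin : IsOfFinOrder a := isOfFinOrder_of_finite a
  obtain ⟨r, hrlt, hr⟩ : ∃ r, r < 4 * 2 ^ j ∧ b0 * a * b0⁻¹ = a ^ r := by
    have hmem : b0 * a * b0⁻¹ ∈ Subgroup.zpowers a := by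
      rw [hCz]; exact hCn.conj_mem a haC b0
    obtain ⟨r0, hr0⟩ := (hfin.mem_powers_iff_mem_zpowers).mpr hmem
    refine ⟨r0 % (4 * 2 ^ j), Nat.mod_lt _ (by omega), ?_⟩
    rw [← hoa, pow_mod_orderOf]; exact hr0.symm
  obtain ⟨s, hslt, hs⟩ : ∃ s, s < 4 * 2 ^ j ∧ b0 ^ 2 = a ^ s := by
    have hmem : b0 ^ 2 ∈ Subgroup.zpowers a := by
      rw [hCz, ← hCi]; exact Subgroup.pow_index_mem C b0
    obtain ⟨s0, hs0⟩ := (hfin.mem_powers_iff_mem_zpowers).mpr hmem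
    refine ⟨s0 % (4 * 2 ^ j), Nat.mod_lt _ (by omega), ?_⟩
    rw [← hoa, pow_mod_orderOf]; exact hs0.symm
  have hmod : r * r ≡ 1 [MOD 4 * 2 ^ j] := by
    have hiter := conj_pow_iter' a b0 r hr 2
    rw [hs] at hiter
    have hc : a ^ s * a * (a ^ s)⁻¹ = a := by group
    rw [hc] at hiter
    rw [← hoa, ← pow_two]
    apply pow_eq_pow_iff_modEq.mp
    rw [pow_one]; exact hiter.symm
  have hr1 : r ≠ 1 := by
    intro h1
    rw [h1, pow_one] at hr
    have hcomm : Commute b0 a := by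
      show b0 * a = a * b0
      have := congrArg (· * b0) hr
      simpa using this
    have htop := sup_zpowers_eq_top' C hCi b0 hb0
    rw [← hCz] at htop
    have hcl : Subgroup.zpowers a ⊔ Subgroup.zpowers b0 = Subgroup.closure {a, b0} := by
      rw [Subgroup.zpowers_eq_closure, Subgroup.zpowers_eq_closure, ← Subgroup.closure_union]
      rfl
    rw [hcl] at htop
    have hcc : ∀ x ∈ ({a, b0} : Set G), ∀ y ∈ ({a, b0} : Set G), x * y = y * x := by
      intro x hx y hy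
      simp only [Set.mem_insert_iff, Set.mem_singleton_iff] at hx hy
      rcases hx with rfl | rfl <;> rcases hy with rfl | rfl
      · rfl
      · exact hcomm.eq.symm
      · exact hcomm.eq
      · rfl
    have hmc := Subgroup.isMulCommutative_closure hcc
    have hx0 : x0 ∈ Subgroup.closure ({a, b0} : Set G) := htop ▸ Subgroup.mem_top x0
    have hy0 : y0 ∈ Subgroup.closure ({a, b0} : Set G) := htop ▸ Subgroup.mem_top y0
    have := hmc.is_comm.comm (⟨x0, hx0⟩ : Subgroup.closure ({a, b0} : Set G)) ⟨y0, hy0⟩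
    exact hxy (congrArg Subtype.val this)
  have h3 : r * s ≡ s [MOD 4 * 2 ^ j] := by
    rw [← hoa]
    apply pow_eq_pow_iff_modEq.mp
    have h4 : b0 * a ^ s * b0⁻¹ = a ^ (r * s) := by rw [← conj_pow, hr, ← pow_mul]
    rw [← h4, ← hs]; group
  have hbmem : ∀ i : ℕ, b0 * a ^ i ∉ Subgroup.zpowers a := by
    intro i hmem
    rw [hCz] at hmem
    apply hb0
    have : b0 = (b0 * a ^ i) * (a ^ i)⁻¹ := by group
    rw [this]
    exact C.mul_mem hmem (C.inv_mem (C.pow_mem haC i))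
  have hb0' : b0 ∉ Subgroup.zpowers a := by rw [hCz]; exact hb0
  have hpowN : a ^ (4 * 2 ^ j) = 1 := by rw [← hoa, pow_orderOf_eq_one]
  rcases sq_modEq_one_cases j r hrlt hmod hr1 with hrA | ⟨hj, hrB | hrC⟩
  · -- inversion
    have hinv : a ^ (4 * 2 ^ j - 1) = a⁻¹ := by
      apply eq_inv_of_mul_eq_one_left
      rw [← pow_succ, show 4 * 2 ^ j - 1 + 1 = 4 * 2 ^ j by omega, hpowN]
    rw [hrA] at h3 hr
    rw [hinv] at hr
    rcases neg_one_mul_modEq_cases (2 ^ j) s hpos hslt h3 with h0 | h0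
    · exact ⟨a, b0, hoa', hb0', Or.inl ⟨by rw [hs, h0, pow_zero], hr⟩⟩
    · exact ⟨a, b0, hoa', hb0', Or.inr (Or.inl ⟨by rw [hs, h0, h2M], hr⟩)⟩
  · -- modular
    rw [hrB] at h3
    obtain ⟨u, hu⟩ := modular_mul_modEq_even (2 ^ j) s hpos h3
    obtain ⟨i, rfl⟩ : ∃ i, j = i + 1 := ⟨j - 1, by omega⟩
    obtain ⟨K, hK⟩ : ∃ K, K = 2 ^ i := ⟨_, rfl⟩
    have hKK : 2 ^ (i + 1) = 2 * K := by rw [hK, pow_succ]; ring
    obtain ⟨c, hc⟩ : ∃ c, 2 * K = c + 1 := ⟨2 * K - 1, by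
      have : 0 < K := by rw [hK]; positivity
      omega⟩
    refine ⟨a, b0 * a ^ (u * c), hoa', hbmem _, Or.inr (Or.inr (Or.inl ⟨by omega, ?_, ?_⟩))⟩
    · rw [sq_mul_pow a b0 r s (u * c) hr hs, hrB, hu, hKK, hc]
      have hE : (2 * (c + 1) + 1) * (u * c) + 2 * u + u * c = 4 * (c + 1) * (u * K) := by
        have h5 : (c + 1) * (c + 1) = (c + 1) * (2 * K) := by rw [← hc]
        calc (2 * (c + 1) + 1) * (u * c) + 2 * u + u * c = 2 * u * ((c + 1) * (c + 1)) := by ring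
          _ = 2 * u * ((c + 1) * (2 * K)) := by rw [h5]
          _ = 4 * (c + 1) * (u * K) := by ring
      rw [hE, pow_mul]
      rw [hKK, hc] at hpowN
      rw [hpowN, one_pow]
    · rw [conj_mul_pow a b0 r (u * c) hr, hrB, h2M]
      congr 1; ring
  · -- semidihedral
    rw [hrC] at h3
    rcases semidihedral_mul_modEq_cases j s hj hslt h3 with h0 | h0
    · refine ⟨a, b0, hoa', hb0', Or.inr (Or.inr (Or.inr ⟨by omega, ?_, ?_⟩))⟩
      · rw [hs, h0, pow_zero]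
      · rw [hr, hrC, h2M]
    · refine ⟨a, b0 * a ^ 1, hoa', hbmem 1, Or.inr (Or.inr (Or.inr ⟨by omega, ?_, ?_⟩))⟩
      · rw [sq_mul_pow a b0 r s 1 hr hs, hrC, h0]
        have hE : (2 * 2 ^ j - 1) * 1 + 2 * 2 ^ j + 1 = 4 * 2 ^ j := by omega
        rw [hE, hpowN]
      · rw [conj_mul_pow a b0 r 1 hr, hrC, h2M]

end Cfsg.Agent.S0646
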