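import Cfsg.Statements.S0647

set_option autoImplicit false
open Cfsg

namespace Cfsg.Agent.S0647

theorem cent_eq_self {S : Type*} [Group S] (A : Subgroup S) (hab : IsMulCommutative A)
    (hmax : ∀ B : Subgroup S, IsMulCommutative B → A ≤ B → B = A) :
    Subgroup.centralizer (A : Set S) = A := by
  apply le_antisymm
  · intro x hx
    -- B = closure (A ∪ {x}) is commutative
    set B : Subgroup S := Subgroup.closure ((A : Set S) ∪ {x}) with hB
    have hAB : A ≤ B := by
      intro a ha
      exact Subgroup.subset_closure (Or.inl ha)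
    have hxB : x ∈ B := Subgroup.subset_closure (Or.inr rfl)
    have hcomm : ∀ a ∈ ((A : Set S) ∪ {x}), ∀ b ∈ ((A : Set S) ∪ {x}), a * b = b * a := by
      rintro a (ha | ha) b (hb | hb)
      · have := hab.is_comm.comm (⟨a, ha⟩ : A) ⟨b, hb⟩
        exact congrArg Subtype.val this
      · rw [Set.mem_singleton_iff] at hb
        subst hb
        exact (Subgroup.mem_centralizer_iff.mp hx a ha)
      · rw [Set.mem_singleton_iff] at ha
        subst ha
        exact (Subgroup.mem_centralizer_iff.mp hx b hb).symm
      · rw [Set.mem_singleton_iff] at ha hb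
        subst ha; subst hb; rfl
    have hBc : IsMulCommutative B := Subgroup.isMulCommutative_closure hcomm
    have := hmax B hBc hAB
    rw [← this]
    exact hxB
  · intro a ha
    rw [Subgroup.mem_centralizer_iff]
    intro b hb
    have := hab.is_comm.comm (⟨b, hb⟩ : A) ⟨a, ha⟩
    exact congrArg Subtype.val this

/-- For a nonempty family of maximal abelian subgroups of a finite group, the intersection of the family is the centre of the subgroup it generates, which is also the full centralizer of that subgroup. -/
theorem result {S : Type*} [Group S] [Finite S] (𝒜 : Set (Subgroup S)) (hne : 𝒜.Nonempty) (hab : ∀ A ∈ 𝒜, IsMulCommutative A) (hmax : ∀ A ∈ 𝒜, ∀ B : Subgroup S, IsMulCommutative B → A ≤ B → B = A) : sInf 𝒜 = sSup 𝒜 ⊓ Subgroup.centralizer ((sSup 𝒜 : Subgroup S) : Set S) ∧ sInf 𝒜 = Subgroup.centralizer ((sSup 𝒜 : Subgroup S) : Set S) := by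
  have h2 : sInf 𝒜 = Subgroup.centralizer ((sSup 𝒜 : Subgroup S) : Set S) := by
    apply le_antisymm
    · intro x hx
      rw [Subgroup.mem_sInf] at hx
      -- sSup 𝒜 ≤ centralizer {x}
      have : sSup 𝒜 ≤ Subgroup.centralizer ({x} : Set S) := by
        apply sSup_le
        intro A hA
        intro a ha
        rw [Subgroup.mem_centralizer_iff]
        intro y hy
        rw [Set.mem_singleton_iff] at hy
        subst hy
        have hxA : y ∈ Subgroup.centralizer (A : Set S) := by
          rw [cent_eq_self A (hab A hA) (hmax A hA)]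
          exact hx A hA
        exact (Subgroup.mem_centralizer_iff.mp hxA a ha).symm
      rw [Subgroup.mem_centralizer_iff]
      intro y hy
      have := Subgroup.mem_centralizer_iff.mp (this hy) x rfl
      exact this.symm
    · apply le_sInf
      intro A hA
      have : Subgroup.centralizer ((sSup 𝒜 : Subgroup S) : Set S) ≤ Subgroup.centralizer (A : Set S) :=
        Subgroup.centralizer_le (le_sSup hA)
      rwa [cent_eq_self A (hab A hA) (hmax A hA)] at this
  refine ⟨?_, h2⟩
  rw [← h2]
  obtain ⟨A, hA⟩ := hne
  exact (inf_eq_right.mpr ((sInf_le hA).trans (le_sSup hA))).symm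

end Cfsg.Agent.S0647
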