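import Cfsg.Statements.S0648
import Cfsg.Agent.Lib.Helper15.CommClosure

set_option autoImplicit false
open Cfsg
open Cfsg.Agent.Lib.Helper15
open scoped commutatorElement

namespace Cfsg.Agent.S0648

variable {G : Type*} [Group G]

theorem conj_eq_of_comm {x z : G} (h : x * z = z * x) : x * z * x⁻¹ = z := by
  rw [h]; group

theorem part1 (A B : Subgroup G) (hAB : A ≤ Subgroup.normalizer (B : Set G))
    (hc : ⁅⁅B, B⁆, A⁆ = ⊥) :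
    ⁅B, A⁆ ≤ B ∧ ⁅B, A⁆ ≤ Subgroup.centralizer ((⁅B, B⁆ : Subgroup G) : Set G) ∧
      ⁅⁅B, A⁆, ⁅B, A⁆⁆ ≤ Subgroup.centralizer (B : Set G) := by
  have hDB : ⁅B, A⁆ ≤ B := Subgroup.le_normalizer_iff_commutator_le_left.mp hAB
  have hAK : A ≤ Subgroup.centralizer ((⁅B, B⁆ : Subgroup G) : Set G) := by
    rw [Subgroup.le_centralizer_iff]
    exact Subgroup.commutator_eq_bot_iff_le_centralizer.mp hc
  have hBN : B ≤ Subgroup.normalizer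
      ((Subgroup.centralizer ((⁅B, B⁆ : Subgroup G) : Set G) : Subgroup G) : Set G) :=
    (Subgroup.normalizer_commutator_ge_left B B).trans (normalizer_le_normalizer_centralizer _)
  have hDK : ⁅B, A⁆ ≤ Subgroup.centralizer ((⁅B, B⁆ : Subgroup G) : Set G) :=
    (Subgroup.commutator_mono le_rfl hAK).trans
      (Subgroup.le_normalizer_iff_commutator_le_right.mp hBN)
  refine ⟨hDB, hDK, ?_⟩
  have hB'D : ⁅⁅B, B⁆, ⁅B, A⁆⁆ = ⊥ := by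
    rw [Subgroup.commutator_eq_bot_iff_le_centralizer, Subgroup.le_centralizer_iff]
    exact hDK
  have h1 : ⁅⁅⁅B, A⁆, B⁆, ⁅B, A⁆⁆ = ⊥ := by
    rw [eq_bot_iff, ← hB'D]
    exact Subgroup.commutator_mono (Subgroup.commutator_mono hDB le_rfl) le_rfl
  have h2 : ⁅⁅B, ⁅B, A⁆⁆, ⁅B, A⁆⁆ = ⊥ := by
    rw [eq_bot_iff, ← hB'D]
    exact Subgroup.commutator_mono (Subgroup.commutator_mono le_rfl hDB) le_rfl
  have h3 := Subgroup.commutator_commutator_eq_bot_of_rotate h1 h2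
  exact Subgroup.commutator_eq_bot_iff_le_centralizer.mp h3

section part2

variable (A B : Subgroup G) (b : G)

/-- the generators `u a = b⁻¹ a b a⁻¹` -/
def u (b a : G) : G := b⁻¹ * a * b * a⁻¹

/-- the subgroup `[b, A]` -/
def E (A : Subgroup G) (b : G) : Subgroup G :=
  Subgroup.closure {g : G | ∃ a ∈ A, g = b⁻¹ * a * b * a⁻¹}

theorem u_mem_E {a : G} (ha : a ∈ A) : u b a ∈ E A b :=
  Subgroup.subset_closure ⟨a, ha, rfl⟩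

theorem E_le_D (hb : b ∈ B) : E A b ≤ ⁅B, A⁆ := by
  unfold E
  rw [Subgroup.closure_le]
  rintro _ ⟨a, ha, rfl⟩
  have : b⁻¹ * a * b * a⁻¹ = ⁅b⁻¹, a⁆ := by simp [commutatorElement_def]
  rw [this]
  exact Subgroup.commutator_mem_commutator (B.inv_mem hb) ha

/-- `A` normalizes `[b, A]` -/
theorem conj_mem_E {a : G} (ha : a ∈ A) {e : G} (he : e ∈ E A b) : a * e * a⁻¹ ∈ E A b := by
  unfold E at he
  induction he using Subgroup.closure_induction with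
  | mem y hy =>
    obtain ⟨a', ha', rfl⟩ := hy
    have : a * (b⁻¹ * a' * b * a'⁻¹) * a⁻¹ = (u b a)⁻¹ * u b (a * a') := by
      unfold u; group
    rw [this]
    exact Subgroup.mul_mem _ (Subgroup.inv_mem _ (u_mem_E A b ha)) (u_mem_E A b (A.mul_mem ha ha'))
  | one => simp
  | mul x y _ _ hx hy =>
    have : a * (x * y) * a⁻¹ = (a * x * a⁻¹) * (a * y * a⁻¹) := by group
    rw [this]; exact Subgroup.mul_mem _ hx hy
  | inv x _ hx =>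
    have : a * x⁻¹ * a⁻¹ = (a * x * a⁻¹)⁻¹ := by group
    rw [this]; exact Subgroup.inv_mem _ hx

variable (hb : b ∈ B)
  (hDB : ⁅B, A⁆ ≤ B)
  (hK1 : ∀ z ∈ ⁅B, B⁆, ∀ a ∈ A, a * z = z * a)
  (hK2 : ∀ d ∈ ⁅B, A⁆, ∀ z ∈ ⁅B, B⁆, d * z = z * d)
  (hK3 : ∀ w ∈ ⁅⁅B, A⁆, ⁅B, A⁆⁆, ∀ x ∈ B, x * w = w * x)
  (hK4 : ∀ f ∈ ⁅E A b, A⁆, ∀ a ∈ A, a * f = f * a)

include hb hDB hK1 hK2 hK3 in
theorem lemmaA {y a : G} (hy : y ∈ E A b) (ha : a ∈ A) :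
    ⁅u b a, y⁆ * ⁅u b a, y⁻¹ * (a * y * a⁻¹)⁆ * ⁅b, y⁻¹ * (a * y * a⁻¹)⁆ = 1 := by
  set t := y⁻¹ * (a * y * a⁻¹) with ht
  have hED := E_le_D A B b hb
  have huE : u b a ∈ E A b := u_mem_E A b ha
  have hytE : a * y * a⁻¹ ∈ E A b := conj_mem_E A b ha hy
  have htE : t ∈ E A b := Subgroup.mul_mem _ (Subgroup.inv_mem _ hy) hytE
  have hyB : y ∈ B := hDB (hED hy)
  have htB : t ∈ B := hDB (hED htE)
  have huB : u b a ∈ B := hDB (hED huE)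
  have hyt : y * t = a * y * a⁻¹ := by rw [ht]; group
  -- pure group identity
  have key : a * ⁅b, y⁆ * a⁻¹ =
      (b * ⁅u b a, y * t⁆ * b⁻¹) * (⁅b, y⁆ * (y * ⁅b, t⁆ * y⁻¹)) := by
    rw [ht]
    simp only [commutatorElement_def, u]
    group
  have key2 : ⁅u b a, y * t⁆ = ⁅u b a, y⁆ * (y * ⁅u b a, t⁆ * y⁻¹) := by
    simp only [commutatorElement_def]
    group
  have hby : ⁅b, y⁆ ∈ ⁅B, B⁆ := Subgroup.commutator_mem_commutator hb hyB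
  have hbt : ⁅b, t⁆ ∈ ⁅B, B⁆ := Subgroup.commutator_mem_commutator hb htB
  have hw1 : ⁅u b a, y * t⁆ ∈ ⁅⁅B, A⁆, ⁅B, A⁆⁆ :=
    Subgroup.commutator_mem_commutator (hED huE) (hED (by rw [hyt]; exact hytE))
  have hut : ⁅u b a, t⁆ ∈ ⁅⁅B, A⁆, ⁅B, A⁆⁆ :=
    Subgroup.commutator_mem_commutator (hED huE) (hED htE)
  have huy : ⁅u b a, y⁆ ∈ ⁅⁅B, A⁆, ⁅B, A⁆⁆ :=
    Subgroup.commutator_mem_commutator (hED huE) (hED hy)
  have e1 : a * ⁅b, y⁆ * a⁻¹ = ⁅b, y⁆ := conj_eq_of_comm (hK1 _ hby a ha)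
  have e2 : b * ⁅u b a, y * t⁆ * b⁻¹ = ⁅u b a, y * t⁆ := conj_eq_of_comm (hK3 _ hw1 b hb)
  have e3 : y * ⁅b, t⁆ * y⁻¹ = ⁅b, t⁆ := conj_eq_of_comm (hK2 y (hED hy) _ hbt)
  have e4 : y * ⁅u b a, t⁆ * y⁻¹ = ⁅u b a, t⁆ := conj_eq_of_comm (hK3 _ hut y hyB)
  rw [e1, e2, e3, key2, e4] at key
  -- key : ⁅b,y⁆ = ⁅u,y⁆ * ⁅u,t⁆ * (⁅b,y⁆ * ⁅b,t⁆)
  have hw : ⁅u b a, y⁆ * ⁅u b a, t⁆ ∈ ⁅⁅B, A⁆, ⁅B, A⁆⁆ := Subgroup.mul_mem _ huy hut
  have hcomm : ⁅b, y⁆ * (⁅u b a, y⁆ * ⁅u b a, t⁆) = (⁅u b a, y⁆ * ⁅u b a, t⁆) * ⁅b, y⁆ :=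
    hK3 _ hw _ ((Subgroup.commutator_le_self B) hby)
  have h5 : ⁅b, y⁆ * (⁅u b a, y⁆ * ⁅u b a, t⁆ * ⁅b, t⁆) = ⁅b, y⁆ * 1 := by
    rw [mul_one]
    conv_rhs => rw [key]
    rw [← mul_assoc, hcomm]
    group
  exact mul_left_cancel h5

include hb hDB hK1 hK2 hK3 hK4 in
theorem lemmaB {y a a' : G} (hy : y ∈ E A b) (ha : a ∈ A) (ha' : a' ∈ A) :
    ⁅u b a, y⁻¹ * (a' * y * a'⁻¹)⁆ = 1 := by
  set s := y⁻¹ * (a' * y * a'⁻¹) with hs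
  have hsE : s ∈ E A b :=
    Subgroup.mul_mem _ (Subgroup.inv_mem _ hy) (conj_mem_E A b ha' hy)
  have hsF : s ∈ ⁅E A b, A⁆ := by
    have : s = ⁅y⁻¹, a'⁆ := by rw [hs, commutatorElement_def]; group
    rw [this]
    exact Subgroup.commutator_mem_commutator (Subgroup.inv_mem _ hy) ha'
  have hsa : a * s * a⁻¹ = s := conj_eq_of_comm (hK4 s hsF a ha)
  have h := lemmaA A B b hb hDB hK1 hK2 hK3 hsE ha
  rw [hsa] at h
  simpa using h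

include hb hDB hK1 hK2 hK3 hK4 in
theorem lemmaC {y a : G} (hy : y ∈ E A b) (ha : a ∈ A) :
    ⁅u b a, y⁆ * ⁅b, y⁻¹ * (a * y * a⁻¹)⁆ = 1 := by
  have h := lemmaA A B b hb hDB hK1 hK2 hK3 hy ha
  rw [lemmaB A B b hb hDB hK1 hK2 hK3 hK4 hy ha ha, mul_one] at h
  exact h

include hb hDB hK1 hK2 hK3 hK4 in
theorem comm_sq (hA : ∀ x ∈ A, ∀ y ∈ A, x * y = y * x) {a a' : G} (ha : a ∈ A) (ha' : a' ∈ A) :
    ⁅u b a, u b a'⁆ ^ 2 = 1 := by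
  have hED := E_le_D A B b hb
  have hua : u b a ∈ E A b := u_mem_E A b ha
  have hua' : u b a' ∈ E A b := u_mem_E A b ha'
  set t₁ := (u b a')⁻¹ * (a * u b a' * a⁻¹) with ht₁
  set t₂ := (u b a)⁻¹ * (a' * u b a * a'⁻¹) with ht₂
  have h1 : ⁅u b a, u b a'⁆ * ⁅b, t₁⁆ = 1 := lemmaC A B b hb hDB hK1 hK2 hK3 hK4 hua' ha
  have h2 : ⁅u b a', u b a⁆ * ⁅b, t₂⁆ = 1 := lemmaC A B b hb hDB hK1 hK2 hK3 hK4 hua ha'
  -- t₂ = c' * t₁ with c' central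
  set c' := (u b a)⁻¹ * (u b a')⁻¹ * u b a * u b a' with hc'
  have hc'mem : c' ∈ ⁅⁅B, A⁆, ⁅B, A⁆⁆ := by
    have : c' = ⁅(u b a)⁻¹, (u b a')⁻¹⁆ := by rw [hc', commutatorElement_def]; group
    rw [this]
    exact Subgroup.commutator_mem_commutator (Subgroup.inv_mem _ (hED hua))
      (Subgroup.inv_mem _ (hED hua'))
  have ht : t₂ = c' * t₁ := by
    have e1 : u b a * (a * u b a' * a⁻¹) = u b (a * a') := by unfold u; group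
    have e2 : u b a' * (a' * u b a * a'⁻¹) = u b (a' * a) := by unfold u; group
    have e3 : u b a * (a * u b a' * a⁻¹) = u b a' * (a' * u b a * a'⁻¹) := by
      rw [e1, e2, hA a ha a' ha']
    have e4 : a' * u b a * a'⁻¹ = (u b a')⁻¹ * (u b a * (a * u b a' * a⁻¹)) := by
      rw [e3]; group
    rw [ht₂, e4, hc', ht₁]; group
  have ht₁E : t₁ ∈ E A b :=
    Subgroup.mul_mem _ (Subgroup.inv_mem _ hua') (conj_mem_E A b ha hua')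
  have ht₁B : t₁ ∈ B := hDB (hED ht₁E)
  have hbt : ⁅b, t₂⁆ = ⁅b, t₁⁆ := by
    rw [ht]
    have hbc : b * c' = c' * b := hK3 c' hc'mem b hb
    have hbt₁ : ⁅b, t₁⁆ ∈ B :=
      (Subgroup.commutator_le_self B) (Subgroup.commutator_mem_commutator hb ht₁B)
    have hcc : ⁅b, t₁⁆ * c' = c' * ⁅b, t₁⁆ := hK3 c' hc'mem _ hbt₁
    have e5 : ⁅b, c' * t₁⁆ = ⁅b, c'⁆ * (c' * ⁅b, t₁⁆ * c'⁻¹) := by
      simp only [commutatorElement_def]; group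
    have e6 : ⁅b, c'⁆ = 1 := commutatorElement_eq_one_iff_mul_comm.mpr hbc
    have e7 : c' * ⁅b, t₁⁆ * c'⁻¹ = ⁅b, t₁⁆ := conj_eq_of_comm hcc.symm
    rw [e5, e6, e7, one_mul]
  rw [hbt] at h2
  have h3 : ⁅u b a', u b a⁆ = ⁅u b a, u b a'⁆ := by
    have := h2.trans h1.symm
    exact mul_right_cancel this
  rw [← commutatorElement_inv] at h3
  -- c⁻¹ = c
  rw [pow_two]
  calc ⁅u b a, u b a'⁆ * ⁅u b a, u b a'⁆ = ⁅u b a, u b a'⁆⁻¹ * ⁅u b a, u b a'⁆ := by rw [h3]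
    _ = 1 := inv_mul_cancel _

end part2

/-- the elements of order dividing two in `B ∩ C(B)` -/
def T (B : Subgroup G) : Subgroup G where
  carrier := {w | w ∈ B ∧ w ∈ Subgroup.centralizer (B : Set G) ∧ w ^ 2 = 1}
  one_mem' := ⟨B.one_mem, Subgroup.one_mem _, one_pow _⟩
  mul_mem' := by
    rintro x y ⟨hxB, hxC, hx2⟩ ⟨hyB, hyC, hy2⟩
    refine ⟨B.mul_mem hxB hyB, Subgroup.mul_mem _ hxC hyC, ?_⟩
    have hcomm : Commute x y := (Subgroup.mem_centralizer_iff.mp hyC x hxB)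
    rw [hcomm.mul_pow, hx2, hy2, one_mul]
  inv_mem' := by
    rintro x ⟨hxB, hxC, hx2⟩
    exact ⟨B.inv_mem hxB, Subgroup.inv_mem _ hxC, by rw [inv_pow, hx2, inv_one]⟩

/-- If A acts on B centralizing [B, B], then [B, A] has derived subgroup central in B, and for abelian A and b ∈ B with [[b, A], A, A] = 1 the derived subgroup of the subgroup [b, A] generated by the commutators of b with A has exponent dividing 2. -/
theorem result {G : Type*} [Group G] [Finite G] (A B : Subgroup G) (hAB : A ≤ Subgroup.normalizer (B : Set G)) (hc : ⁅⁅B, B⁆, A⁆ = ⊥) : ⁅⁅B, A⁆, ⁅B, A⁆⁆ ≤ B ⊓ Subgroup.centralizer (B : Set G) ∧ (IsMulCommutative A → ∀ b ∈ B, ⁅⁅(Subgroup.closure {g : G | ∃ a ∈ A, g = b⁻¹ * a * b * a⁻¹}), A⁆, A⁆ = ⊥ → ∀ w ∈ ⁅(Subgroup.closure {g : G | ∃ a ∈ A, g = b⁻¹ * a * b * a⁻¹}), (Subgroup.closure {g : G | ∃ a ∈ A, g = b⁻¹ * a * b * a⁻¹})⁆, w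 ^ 2 = 1) := by
  obtain ⟨hDB, hDK, hDD⟩ := part1 A B hAB hc
  have hDDB : ⁅⁅B, A⁆, ⁅B, A⁆⁆ ≤ B := (Subgroup.commutator_le_self _).trans hDB
  refine ⟨le_inf hDDB hDD, ?_⟩
  intro hAc b hb hquad
  change ∀ w ∈ ⁅E A b, E A b⁆, w ^ 2 = 1
  change ⁅⁅E A b, A⁆, A⁆ = ⊥ at hquad
  have hA : ∀ x ∈ A, ∀ y ∈ A, x * y = y * x := by
    intro x hx y hy
    have := hAc.is_comm.comm (⟨x, hx⟩ : A) ⟨y, hy⟩
    exact congrArg Subtype.val this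
  have hK1 : ∀ z ∈ ⁅B, B⁆, ∀ a ∈ A, a * z = z * a := by
    intro z hz a ha
    have h1 : ⁅B, B⁆ ≤ Subgroup.centralizer (A : Set G) :=
      Subgroup.commutator_eq_bot_iff_le_centralizer.mp hc
    exact Subgroup.mem_centralizer_iff.mp (h1 hz) a ha
  have hK2 : ∀ d ∈ ⁅B, A⁆, ∀ z ∈ ⁅B, B⁆, d * z = z * d := by
    intro d hd z hz
    exact (Subgroup.mem_centralizer_iff.mp (hDK hd) z hz).symm
  have hK3 : ∀ w ∈ ⁅⁅B, A⁆, ⁅B, A⁆⁆, ∀ x ∈ B, x * w = w * x := by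
    intro w hw x hx
    exact Subgroup.mem_centralizer_iff.mp (hDD hw) x hx
  have hK4 : ∀ f ∈ ⁅E A b, A⁆, ∀ a ∈ A, a * f = f * a := by
    intro f hf a ha
    have h1 : ⁅E A b, A⁆ ≤ Subgroup.centralizer (A : Set G) :=
      Subgroup.commutator_eq_bot_iff_le_centralizer.mp hquad
    exact Subgroup.mem_centralizer_iff.mp (h1 hf) a ha
  have hED := E_le_D A B b hb
  have hle : ⁅E A b, E A b⁆ ≤ T B := by
    unfold E
    apply commutator_closure_le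
    · intro h hh m hm
      obtain ⟨hmB, hmC, hm2⟩ := hm
      have hhB : h ∈ B := hDB (hED hh)
      have : h * m * h⁻¹ = m := conj_eq_of_comm (Subgroup.mem_centralizer_iff.mp hmC h hhB)
      rw [this]
      exact ⟨hmB, hmC, hm2⟩
    · rintro _ ⟨a, ha, rfl⟩ _ ⟨a', ha', rfl⟩
      have hmem : ⁅u b a, u b a'⁆ ∈ ⁅⁅B, A⁆, ⁅B, A⁆⁆ :=
        Subgroup.commutator_mem_commutator (hED (u_mem_E A b ha)) (hED (u_mem_E A b ha'))
      exact ⟨hDDB hmem, hDD hmem, comm_sq A B b hb hDB hK1 hK2 hK3 hK4 hA ha ha'⟩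
  intro w hw
  exact (hle hw).2.2

end Cfsg.Agent.S0648
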