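import Cfsg.Statements.S0649

set_option autoImplicit false
open Cfsg

namespace Cfsg.Agent.S0649

/-- In the Glauberman replacement situation, if B does not normalize A then some element of B normalizes N_S(A) without normalizing A. -/
theorem result {S : Type*} [Group S] [Finite S] {p : ℕ} [Fact p.Prime] (hS : IsPGroup p S) (B : Subgroup S) [B.Normal] (hB2 : p = 2 → IsMulCommutative B) (A : Subgroup S) (hA : IsMulCommutative A) (hBA : ⁅B, B⁆ ≤ A) (hnot : ¬ B ≤ Subgroup.normalizer (A : Set S)) : ∃ b ∈ B, b ∈ Subgroup.normalizer ((Subgroup.normalizer (A : Set S)) : Set S) ∧ b ∉ Subgroup.normalizer (A : Set S) := by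
  classical
  set N : Subgroup S := Subgroup.normalizer (A : Set S) with hN
  set K : Subgroup S := N ⊔ B with hK
  have hNK : N ≤ K := le_sup_left
  have hBK : B ≤ K := le_sup_right
  haveI : Group.IsNilpotent S := hS.isNilpotent
  haveI : Group.IsNilpotent K := inferInstance
  have hnc : NormalizerCondition K := Group.normalizerCondition_of_isNilpotent
  have hlt : N.subgroupOf K < ⊤ := by
    rw [lt_top_iff_ne_top]
    intro h
    rw [Subgroup.subgroupOf_eq_top] at h
    exact hnot (hBK.trans h)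
  obtain ⟨g, hg, hgN⟩ := SetLike.exists_of_lt (hnc _ hlt)
  obtain ⟨k, hk⟩ := g
  rw [Subgroup.mem_subgroupOf] at hgN
  simp only at hgN
  have hk' := hk
  rw [hK, Subgroup.mem_sup_of_normal_right] at hk'
  obtain ⟨n, hn, b, hb, rfl⟩ := hk'
  have key : ∀ x : S, x ∈ K → (x ∈ N ↔ (n * b) * x * (n * b)⁻¹ ∈ N) := by
    intro x hx
    have := (Subgroup.mem_normalizer_iff.mp hg) ⟨x, hx⟩
    simpa [Subgroup.mem_subgroupOf] using this
  refine ⟨b, hb, ?_, ?_⟩
  · rw [Subgroup.mem_normalizer_iff]
    intro x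
    constructor
    · intro hx
      have h1 := (key x (hNK hx)).mp hx
      have h2 : n⁻¹ * ((n * b) * x * (n * b)⁻¹) * n ∈ N :=
        N.mul_mem (N.mul_mem (N.inv_mem hn) h1) hn
      have : n⁻¹ * ((n * b) * x * (n * b)⁻¹) * n = b * x * b⁻¹ := by group
      rwa [this] at h2
    · intro hx
      have hxK : x ∈ K := by
        have : x = b⁻¹ * (b * x * b⁻¹) * b := by group
        rw [this]
        exact K.mul_mem (K.mul_mem (K.inv_mem (hBK hb)) (hNK hx)) (hBK hb)
      rw [key x hxK]
      have h2 : n * (b * x * b⁻¹) * n⁻¹ ∈ N := N.mul_mem (N.mul_mem hn hx) (N.inv_mem hn)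
      have : n * (b * x * b⁻¹) * n⁻¹ = (n * b) * x * (n * b)⁻¹ := by group
      rwa [this] at h2
  · intro hbN
    exact hgN (N.mul_mem hn hbN)

end Cfsg.Agent.S0649
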