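import Cfsg.Statements.S0651
import Cfsg.Agent.Lib.Helper16.ReplProp

set_option autoImplicit false
open Cfsg

namespace Cfsg.Agent.S0651

open Cfsg.Agent.Lib.Helper16

theorem fam_iff {S : Type*} [Group S] (D : Subgroup S) (U : Subgroup S) :
    U ∈ (Set.image (fun A : Subgroup ↥D => A.map D.subtype) (Cfsg.maxAbelianSubgroups ↥D)) ↔
    U ≤ D ∧ IsMulCommutative ↥U ∧
      ∀ V : Subgroup S, V ≤ D → IsMulCommutative ↥V → Nat.card V ≤ Nat.card U :=
  GR.mem_image_max_iff D (fun A' => IsMulCommutative ↥A') (fun U => IsMulCommutative ↥U)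
    (GR.isMulCommutative_map_subtype_iff D) U

/-- For odd p and D normal in the p-group S, the abelian subgroups of D of largest order satisfy the replacement property: a class-2 normal subgroup B of S with a member containing [B, B] but not B normalizes some such member. -/
theorem result {S : Type*} [Group S] [Finite S] {p : ℕ} [Fact p.Prime] (hS : IsPGroup p S) (hp : p ≠ 2) (D : Subgroup S) [D.Normal] : ∀ (B : Subgroup S) [B.Normal], ⁅⁅B, B⁆, B⁆ = ⊥ → (∃ U ∈ (Set.image (fun A : Subgroup ↥D => A.map D.subtype) (Cfsg.maxAbelianSubgroups ↥D)), ⁅B, B⁆ ≤ U ∧ ¬ B ≤ U) → ∃ A ∈ (Set.image (fun A : Subgroup ↥D => A.map D.subtype) (Cfsg.maxAbelianSubgroups ↥D)), ⁅B, B⁆ ≤ A ∧ ¬ B ≤ A ∧ B ≤ Subgroup.normalizer (A : Set S) := by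
  intro B _ _ hU
  refine GR.replacement_property hS hp _ ?_ ?_ B hU
  · intro A hA
    exact ((fam_iff D A).mp hA).2.1
  · intro A hA b hcomm hcard _
    obtain ⟨hAD, _, hmax⟩ := (fam_iff D A).mp hA
    rw [fam_iff]
    refine ⟨GR.Astar_le hAD b, hcomm, fun V hV hVc => ?_⟩
    rw [hcard]
    exact hmax V hV hVc

end Cfsg.Agent.S0651
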