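import Cfsg.Statements.S0652
import Cfsg.Agent.Lib.Helper16.ReplProp

set_option autoImplicit false
open Cfsg

namespace Cfsg.Agent.S0652

open Cfsg.Agent.Lib.Helper16

theorem elem_iff {S : Type*} [Group S] (p : ℕ) (D : Subgroup S) (A' : Subgroup ↥D) :
    Cfsg.IsElementaryAbelian p A' ↔ Cfsg.IsElementaryAbelian p (A'.map D.subtype) := by
  unfold Cfsg.IsElementaryAbelian
  rw [GR.isMulCommutative_map_subtype_iff D A']
  constructor
  · rintro ⟨h1, h2⟩
    refine ⟨h1, ?_⟩
    rintro _ ⟨a, ha, rfl⟩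
    rw [← map_pow, h2 a ha, map_one]
  · rintro ⟨h1, h2⟩
    refine ⟨h1, fun a ha => ?_⟩
    have := h2 (D.subtype a) (Subgroup.mem_map_of_mem _ ha)
    apply Subtype.ext
    rw [Subgroup.coe_pow]
    exact this

theorem fam_iff {S : Type*} [Group S] (p : ℕ) (D : Subgroup S) (U : Subgroup S) :
    U ∈ (Set.image (fun A : Subgroup ↥D => A.map D.subtype)
      (Cfsg.maxElementaryAbelianSubgroups p ↥D)) ↔
    U ≤ D ∧ Cfsg.IsElementaryAbelian p U ∧
      ∀ V : Subgroup S, V ≤ D → Cfsg.IsElementaryAbelian p V → Nat.card V ≤ Nat.card U :=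
  GR.mem_image_max_iff D (fun A' => Cfsg.IsElementaryAbelian p A')
    (fun U => Cfsg.IsElementaryAbelian p U) (elem_iff p D) U

/-- For odd p and D normal in the p-group S, the elementary abelian subgroups of D of largest order satisfy the replacement property for class-2 normal subgroups of S. -/
theorem result {S : Type*} [Group S] [Finite S] {p : ℕ} [Fact p.Prime] (hS : IsPGroup p S) (hp : p ≠ 2) (D : Subgroup S) [D.Normal] : ∀ (B : Subgroup S) [B.Normal], ⁅⁅B, B⁆, B⁆ = ⊥ → (∃ U ∈ (Set.image (fun A : Subgroup ↥D => A.map D.subtype) (Cfsg.maxElementaryAbelianSubgroups p ↥D)), ⁅B, B⁆ ≤ U ∧ ¬ B ≤ U) → ∃ A ∈ (Set.image (fun A : Subgroup ↥D => A.map D.subtype) (Cfsg.maxElementaryAbelianSubgroups p ↥D)), ⁅B, B⁆ ≤ A ∧ ¬ B ≤ A ∧ B ≤ Subgroup.normalizer (A : Set S) := by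
  intro B _ _ hU
  refine GR.replacement_property hS hp _ ?_ ?_ B hU
  · intro A hA
    exact ((fam_iff p D A).mp hA).2.1.1
  · intro A hA b hcomm hcard hexp
    obtain ⟨hAD, ⟨_, hAp⟩, hmax⟩ := (fam_iff p D A).mp hA
    rw [fam_iff]
    refine ⟨GR.Astar_le hAD b, ⟨hcomm, ?_⟩, fun V hV hVc => ?_⟩
    · intro x hx
      have h1 : Monoid.exponent ↥A ∣ p := by
        apply Monoid.exponent_dvd_of_forall_pow_eq_one
        intro a
        apply Subtype.ext
        rw [Subgroup.coe_pow]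
        exact hAp a a.2
      obtain ⟨k, hk⟩ := hexp.trans h1
      have h2 := Monoid.pow_exponent_eq_one (⟨x, hx⟩ : ↥(GR.Astar A b))
      have h3 : x ^ Monoid.exponent ↥(GR.Astar A b) = 1 := congrArg Subtype.val h2
      rw [hk, pow_mul, h3, one_pow]
    · rw [hcard]
      exact hmax V hV hVc

end Cfsg.Agent.S0652
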