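import Cfsg.Statements.S0656
import Cfsg.Agent.Lib.Helper16.QuadSL2
import Cfsg.Agent.Lib.Helper16.ZJ

set_option autoImplicit false
open Cfsg

namespace Cfsg.Agent.S0656

/-- For odd p, a faithful group on an elementary abelian p-group with no nontrivial normal p-subgroup in which some nontrivial p-element acts quadratically has a section isomorphic to SL(2, p). -/
theorem result {G : Type*} [Group G] [Finite G] {p : ℕ} [Fact p.Prime] (hp : p ≠ 2) (V H : Subgroup G) (hV : Cfsg.IsElementaryAbelian p V) (hHV : H ≤ Subgroup.normalizer (V : Set G)) (hf : H ⊓ Subgroup.centralizer (V : Set G) = ⊥) (hO : Cfsg.pCore p ↥H = ⊥) (x : G) (hxH : x ∈ H) (hx1 : x ≠ 1) (hxp : ∃ k : ℕ, orderOf x = p ^ k) (hq : ⁅⁅V, Subgroup.zpowers x⁆, Subgroup.zpowers x⁆ = ⊥) : ∃ (K L : Subgroup G) (hL : (L.subgroupOf K).Normal), K ≤ H ∧ Nonempty ((K ⧸ L.subgroupOf K) ≃* Matrix.SpecialLinearGroup (Fin 2) (ZMod p)) := by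
  classical
  -- Baer–Suzuki inside `H`
  obtain ⟨k, hk⟩ := hxp
  have hxpow : x ^ p ^ k = 1 := by rw [← hk]; exact pow_orderOf_eq_one x
  have hX : IsPGroup p (Subgroup.zpowers (⟨x, hxH⟩ : H)) := by
    rintro ⟨y, hy⟩
    refine ⟨k, ?_⟩
    obtain ⟨j, rfl⟩ := Subgroup.mem_zpowers_iff.mp hy
    apply Subtype.ext
    simp only [Subgroup.coe_pow, Subgroup.coe_one]
    have hx' : (⟨x, hxH⟩ : H) ^ p ^ k = 1 := Subtype.ext (by simpa using hxpow)
    rw [← zpow_natCast, ← zpow_mul, mul_comm, zpow_mul, zpow_natCast, hx', one_zpow]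
  have hBS : ∃ g : H, ¬ IsPGroup p ↥(Subgroup.zpowers (⟨x, hxH⟩ : H) ⊔
      (Subgroup.zpowers (⟨x, hxH⟩ : H)).map (MulAut.conj g).toMonoidHom) := by
    by_contra hcon
    push Not at hcon
    obtain ⟨N, hNn, hNp, hXN⟩ := Cfsg.Agent.S0199.result (Subgroup.zpowers (⟨x, hxH⟩ : H)) hX hcon
    have h1 : N ≤ Cfsg.pCore p ↥H := Cfsg.Agent.Lib.Helper16.ZJ.le_pCore hNn hNp
    rw [hO] at h1
    have h2 : (⟨x, hxH⟩ : H) ∈ (⊥ : Subgroup H) := h1 (hXN (Subgroup.mem_zpowers _))
    rw [Subgroup.mem_bot] at h2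
    exact hx1 (congrArg Subtype.val h2)
  obtain ⟨g, hg⟩ := hBS
  obtain ⟨b, hbdef⟩ : ∃ b : G, b = (g : G) * x * (g : G)⁻¹ := ⟨_, rfl⟩
  have hbH : b ∈ H := by
    rw [hbdef]; exact H.mul_mem (H.mul_mem g.2 hxH) (H.inv_mem g.2)
  have hH₀H : Subgroup.closure {x, b} ≤ H := by
    rw [Subgroup.closure_le]
    intro y hy
    rcases hy with rfl | rfl
    · exact hxH
    · exact hbH
  -- the conjugate acts quadratically
  have hgV : (g : G) ∈ Subgroup.normalizer (V : Set G) := hHV g.2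
  have hVmap : V.map (MulAut.conj (g : G)).toMonoidHom = V := by
    ext v
    rw [Subgroup.mem_map]
    constructor
    · rintro ⟨w, hw, rfl⟩
      exact (Subgroup.mem_normalizer_iff.mp hgV w).mp hw
    · intro hv
      refine ⟨(g : G)⁻¹ * v * (g : G), ?_, ?_⟩
      · have := (Subgroup.mem_normalizer_iff.mp hgV ((g : G)⁻¹ * v * (g : G))).mpr
          (by
            have e : (g : G) * ((g : G)⁻¹ * v * (g : G)) * (g : G)⁻¹ = v := by group
            rw [e]; exact hv)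
        exact this
      · simp [MulAut.conj_apply, mul_assoc]
  have hzmap : (Subgroup.zpowers x).map (MulAut.conj (g : G)).toMonoidHom = Subgroup.zpowers b := by
    rw [MonoidHom.map_zpowers, hbdef]
    rfl
  have hb : ⁅⁅V, Subgroup.zpowers b⁆, Subgroup.zpowers b⁆ = ⊥ := by
    rw [← hzmap]
    nth_rewrite 1 [← hVmap]
    rw [← Subgroup.map_commutator, ← Subgroup.map_commutator, hq, Subgroup.map_bot]
  have hbpow : b ^ p ^ k = 1 := by
    rw [hbdef, conj_pow, hxpow]; group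
  -- the pair generates a non-`p`-group
  have hYmap : (Subgroup.zpowers (⟨x, hxH⟩ : H) ⊔
      (Subgroup.zpowers (⟨x, hxH⟩ : H)).map (MulAut.conj g).toMonoidHom).map H.subtype =
      Subgroup.closure {x, b} := by
    rw [Subgroup.map_sup, MonoidHom.map_zpowers, MonoidHom.map_zpowers, MonoidHom.map_zpowers]
    have h1 : ({x, b} : Set G) = {x} ∪ {b} := Set.insert_eq x {b}
    rw [h1, Subgroup.closure_union, ← Subgroup.zpowers_eq_closure, ← Subgroup.zpowers_eq_closure,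
      hbdef]
    rfl
  have hnp : ¬ IsPGroup p ↥(Subgroup.closure {x, b}) := by
    intro hP
    apply hg
    rw [← hYmap] at hP
    exact hP.of_equiv (Subgroup.equivMapOfInjective _ H.subtype H.subtype_injective).symm
  obtain ⟨K, L, hL, hKH, he⟩ := Cfsg.Agent.Lib.Helper16.QuadSL2.section_of_quadratic_pair hp V
    (Subgroup.closure {x, b}) hV (hH₀H.trans hHV)
    (by
      rw [eq_bot_iff, ← hf]
      exact inf_le_inf_right _ hH₀H)
    x b rfl hq hb ⟨k, hxpow⟩ ⟨k, hbpow⟩ hnp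
  exact ⟨K, L, hL, hKH.trans hH₀H, he⟩

end Cfsg.Agent.S0656
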