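import Cfsg.Statements.S2004
import Cfsg.Agent.Lib.Helper02.NPStab
import Cfsg.Agent.Lib.Helper02.QuadInternal
import Cfsg.Agent.Lib.Helper16.ZJ

set_option autoImplicit false
open Cfsg

namespace Cfsg.Agent.S2004

/-- failure of normalizer-`p`-stability in a homomorphic image `X` of `K` gives a nonidentity
`p`-subgroup of `K` whose normalizer involves `SL₂(p)`. -/
theorem exists_local_involving {K : Type*} [Group K] [Finite K] {X : Type*} [Group X]
    (f : K →* X) (hf : Function.Surjective f) {p : ℕ} [Fact p.Prime] (hp : p ≠ 2)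
    (hX : ¬ Cfsg.IsNormalizerPStable p X) :
    ∃ P : Subgroup K, IsPGroup p P ∧ P ≠ ⊥ ∧
      Cfsg.Involves (Matrix.SpecialLinearGroup (Fin 2) (ZMod p))
        ↥(Subgroup.normalizer (P : Set K)) := by
  classical
  haveI : Finite X := Finite.of_surjective f hf
  unfold Cfsg.IsNormalizerPStable at hX
  push Not at hX
  obtain ⟨Q, hQ, g, hg, hquad, hcon⟩ := hX
  set N : Subgroup X := Subgroup.normalizer (Q : Set X) with hN
  set C : Subgroup N := (Subgroup.centralizer (Q : Set X)).subgroupOf N with hC
  have hker : (Subgroup.normalizerMonoidHom Q).ker = C := Subgroup.normalizerMonoidHom_ker Q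
  -- `Q ≠ ⊥`
  have hQne : Q ≠ ⊥ := by
    intro hQb
    apply hcon
    have h1 : (QuotientGroup.mk (⟨g, hg⟩ : N) : N ⧸ C) = 1 := by
      rw [QuotientGroup.eq_one_iff, hC, Subgroup.mem_subgroupOf, Subgroup.mem_centralizer_iff]
      intro h hh
      rw [SetLike.mem_coe, hQb, Subgroup.mem_bot] at hh
      rw [hh, one_mul, mul_one]
    rw [h1]
    exact Subgroup.one_mem _
  -- the faithful action of `N / C` on `Q`
  let φ : N ⧸ C →* MulAut Q := QuotientGroup.lift C (Subgroup.normalizerMonoidHom Q)
    (by intro x hx; rw [← hker] at hx; exact hx)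
  have hφmk : ∀ n : N, φ (QuotientGroup.mk n) = Subgroup.normalizerMonoidHom Q n := fun n => rfl
  have hφinj : Function.Injective φ := by
    rw [injective_iff_map_eq_one]
    intro y hy
    obtain ⟨n, rfl⟩ := QuotientGroup.mk_surjective y
    rw [hφmk] at hy
    rw [QuotientGroup.eq_one_iff, ← hker, MonoidHom.mem_ker]
    exact hy
  have hq : Cfsg.Agent.Lib.Helper02.PStab.QuadG φ (QuotientGroup.mk (⟨g, hg⟩ : N)) := by
    intro x
    rw [hφmk]
    apply Subtype.ext
    have := Cfsg.Agent.Lib.Helper02.QuadInternal.quadratic_elem Q g hquad (x : X) x.2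
    simp only [Subgroup.normalizerMonoidHom_apply_apply_coe, Subgroup.coe_mul, Subgroup.coe_inv]
    exact this
  have ha : ∀ N' : Subgroup (N ⧸ C), N'.Normal → IsPGroup p N' →
      (QuotientGroup.mk (⟨g, hg⟩ : N) : N ⧸ C) ∉ N' := by
    intro N' hN'n hN'p hmem
    exact hcon (Cfsg.Agent.Lib.Helper16.ZJ.le_pCore hN'n hN'p hmem)
  have hA := Cfsg.Agent.Lib.Helper02.NPStab.involves_SL2_of_quadG hp hQ φ hφinj _ hq ha
  -- Frattini lifting
  set K₁ : Subgroup K := N.comap f with hK₁
  let f₁ : K₁ →* N := f.subgroupComap N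
  have hf₁ : Function.Surjective f₁ := f.subgroupComap_surjective_of_surjective N hf
  set Q₁ : Subgroup N := Q.subgroupOf N with hQ₁
  haveI : Q₁.Normal := Subgroup.normal_in_normalizer
  have hQ₁p : IsPGroup p Q₁ := hQ.comap_subtype
  obtain ⟨P₁, hP₁p, hmap, hsurj⟩ :=
    Cfsg.Agent.Lib.Helper02.NPStab.exists_lift_of_normal f₁ hf₁ Q₁ hQ₁p
  refine ⟨P₁.map K₁.subtype, hP₁p.map _, ?_, ?_⟩
  · intro hb
    rw [Subgroup.map_eq_bot_iff_of_injective _ (Subgroup.subtype_injective _)] at hb
    rw [hb, Subgroup.map_bot] at hmap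
    apply hQne
    rw [eq_bot_iff]
    intro x hx
    have : (⟨x, Subgroup.le_normalizer hx⟩ : N) ∈ Q₁ := by
      rw [hQ₁, Subgroup.mem_subgroupOf]; exact hx
    rw [← hmap, Subgroup.mem_bot] at this
    rw [Subgroup.mem_bot]
    exact congrArg Subtype.val this
  · set M : Subgroup K₁ := Subgroup.normalizer (P₁ : Set K₁) with hM
    let i : M →* ↥(Subgroup.normalizer ((P₁.map K₁.subtype : Subgroup K) : Set K)) :=
      (K₁.subtype.comp M.subtype).codRestrict _
        (fun m => Subgroup.le_normalizer_map K₁.subtype ⟨m, m.2, rfl⟩)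
    have hi : Function.Injective i := by
      intro a b hab
      have h1 : ((a : K₁) : K) = ((b : K₁) : K) := by
        have h0 := congrArg Subtype.val hab
        exact h0
      exact Subtype.ext (Subtype.ext h1)
    let ξ : M →* (N ⧸ C) := (QuotientGroup.mk' C).comp (f₁.comp M.subtype)
    have hξ : Function.Surjective ξ := by
      intro y
      obtain ⟨x, rfl⟩ := QuotientGroup.mk_surjective y
      obtain ⟨n, hn, rfl⟩ := hsurj x
      exact ⟨⟨n, hn⟩, rfl⟩
    exact Cfsg.Agent.Lib.Helper90.Involves.of_injective_right i hi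
      (Cfsg.Agent.Lib.Helper02.NPStab.involves_of_surjective ξ hξ hA)

/-- Let p be an odd prime and G a finite group such that SL₂(p) is not involved in N_G(P) for any nonidentity p-subgroup P of G. Then every section of G is p-stable in the normalizer form: in each section, whenever an element of the normalizer of a p-subgroup Q acts quadratically on Q, its image in N(Q)/C(Q) lies in O_p(N(Q)/C(Q)). -/
theorem result {G : Type*} [Group G] [Finite G] {p : ℕ} [Fact p.Prime] (hp : p ≠ 2) (h : ∀ P : Subgroup G, IsPGroup p ↥P → P ≠ ⊥ → ¬ Cfsg.Involves (Matrix.SpecialLinearGroup (Fin 2) (ZMod p)) ↥(Subgroup.normalizer ((P : Subgroup G) : Set G))) : ∀ (K R : Subgroup G) [hR : (R.subgroupOf K).Normal], Cfsg.IsNormalizerPStable p (↥K ⧸ R.subgroupOf K) := by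
  intro K R hR
  by_contra hX
  obtain ⟨P, hPp, hPne, hinv⟩ := exists_local_involving (QuotientGroup.mk' (R.subgroupOf K))
    (QuotientGroup.mk'_surjective _) hp hX
  apply h (P.map K.subtype) (hPp.map _)
  · intro hb
    rw [Subgroup.map_eq_bot_iff_of_injective _ (Subgroup.subtype_injective _)] at hb
    exact hPne hb
  · let i : ↥(Subgroup.normalizer (P : Set K)) →*
        ↥(Subgroup.normalizer ((P.map K.subtype : Subgroup G) : Set G)) :=
      (K.subtype.comp (Subgroup.normalizer (P : Set K)).subtype).codRestrict _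
        (fun m => Subgroup.le_normalizer_map K.subtype ⟨m, m.2, rfl⟩)
    have hi : Function.Injective i := by
      intro a b hab
      have h1 : ((a : K) : G) = ((b : K) : G) := by
        have h0 := congrArg Subtype.val hab
        exact h0
      exact Subtype.ext (Subtype.ext h1)
    exact Cfsg.Agent.Lib.Helper90.Involves.of_injective_right i hi hinv

end Cfsg.Agent.S2004
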