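import Cfsg.Statements.S0657
import Cfsg.Agent.S2004

set_option autoImplicit false
open Cfsg

namespace Cfsg.Agent.S0657

/-- the normalizer form of `p`-stability implies the acting-subgroup form -/
theorem isPStable_of_isNormalizerPStable {X : Type*} [Group X] {p : ℕ} [Fact p.Prime] (hp : p ≠ 2)
    (hO : Cfsg.pCore p X ≠ ⊥) (h : Cfsg.IsNormalizerPStable p X) : Cfsg.IsPStable p X := by
  refine ⟨(Fact.out : p.Prime).odd_of_ne_two hp, hO, ?_⟩
  intro A P hA hP hAP hPle hn hquad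
  rintro _ ⟨⟨a, haN⟩, ha, rfl⟩
  have haA : a ∈ A := Subgroup.mem_subgroupOf.mp ha
  have hz : Subgroup.zpowers a ≤ A := (Subgroup.zpowers_le).2 haA
  have hq : ⁅⁅P, Subgroup.zpowers a⁆, Subgroup.zpowers a⁆ = ⊥ := by
    rw [eq_bot_iff, ← hquad]
    exact Subgroup.commutator_mono (Subgroup.commutator_mono le_rfl hz) hz
  exact h P hP a haN hq

/-- For odd p, a group that fails to be p-stable modulo its largest normal subgroup of order prime to p, and whose upper p-series does not stop there, has a section isomorphic to SL(2, p). -/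
theorem result {G : Type*} [Group G] [Finite G] {p : ℕ} [Fact p.Prime] (hp : p ≠ 2) (hO : Cfsg.pPrimeCore p G < Cfsg.pPrimePCore p G) (hns : ¬ Cfsg.IsPStable p (G ⧸ Cfsg.pPrimeCore p G)) : ∃ (K L : Subgroup G) (hL : (L.subgroupOf K).Normal), K ≤ ⊤ ∧ Nonempty ((K ⧸ L.subgroupOf K) ≃* Matrix.SpecialLinearGroup (Fin 2) (ZMod p)) := by
  -- `O_p(G / O_{p'}(G)) ≠ 1`
  have hcore : Cfsg.pCore p (G ⧸ Cfsg.pPrimeCore p G) ≠ ⊥ := by
    intro hb
    obtain ⟨g, hg1, hg2⟩ := SetLike.exists_of_lt hO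
    have h1 : (QuotientGroup.mk' (Cfsg.pPrimeCore p G)) g ∈
        Cfsg.pCore p (G ⧸ Cfsg.pPrimeCore p G) := hg1
    rw [hb, Subgroup.mem_bot] at h1
    exact hg2 ((QuotientGroup.eq_one_iff g).mp h1)
  have hnn : ¬ Cfsg.IsNormalizerPStable p (G ⧸ Cfsg.pPrimeCore p G) := fun h =>
    hns (isPStable_of_isNormalizerPStable hp hcore h)
  obtain ⟨P, _, _, hinv⟩ := Cfsg.Agent.S2004.exists_local_involving
    (QuotientGroup.mk' (Cfsg.pPrimeCore p G)) (QuotientGroup.mk'_surjective _) hp hnn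
  obtain ⟨K, L, hL, he⟩ := Cfsg.Agent.Lib.Helper90.Involves.of_injective_right
    (Subgroup.normalizer (P : Set G)).subtype (Subgroup.subtype_injective _) hinv
  exact ⟨K, L, hL, le_top, he⟩

end Cfsg.Agent.S0657
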