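import Cfsg.Statements.S0658
import Cfsg.Agent.Lib.Helper16.ZJ3

set_option autoImplicit false
open Cfsg

namespace Cfsg.Agent.S0658

open Cfsg.Agent.Lib.Helper16

open scoped Pointwise

/-- `Z(J(R))` as an intersection -/
abbrev Zf {G : Type*} [Group G] (R : Subgroup G) : Subgroup G :=
  ZJ.WW (fun V : Subgroup G => IsMulCommutative ↥V) R

/-- the local ZJ-theorem: `N_G(Q)` normalizes `Z(J(S))` for a Sylow `p`-subgroup `S` of `N_G(Q)` -/
theorem local_zj {G : Type*} [Group G] [Finite G] {p : ℕ} [Fact p.Prime] (hp : p ≠ 2)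
    (hloc : ∀ Q : Subgroup G, IsPGroup p Q → Q ≠ ⊥ →
      Cfsg.pPrimeCore p ↥(Subgroup.normalizer (Q : Set G)) = ⊥ ∧
      Cfsg.IsPConstrained p ↥(Subgroup.normalizer (Q : Set G)) ∧
      Cfsg.IsPStable p ↥(Subgroup.normalizer (Q : Set G)))
    (Q : Subgroup G) (hQp : IsPGroup p ↥Q) (hQ1 : Q ≠ ⊥)
    (S' : Sylow p ↥(Subgroup.normalizer (Q : Set G))) :
    Subgroup.normalizer (Q : Set G) ≤ Subgroup.normalizer
      (Zf ((S' : Subgroup ↥(Subgroup.normalizer (Q : Set G))).map
        (Subgroup.normalizer (Q : Set G)).subtype) : Set G) := by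
  obtain ⟨h1, h2, h3⟩ := hloc Q hQp hQ1
  have hfac := ZJ.zj_factorization hp h2 h3 S'
  rw [h1, bot_sup_eq] at hfac
  have hinj : (S' : Subgroup ↥(Subgroup.normalizer (Q : Set G))) ⊓
      (Subgroup.normalizer (Q : Set G)).subtype.ker = ⊥ := by
    rw [Subgroup.ker_subtype, inf_bot_eq]
  unfold Zf
  rw [← ZJ.WW_comm_map (Subgroup.normalizer (Q : Set G)).subtype hinj]
  have := Subgroup.le_normalizer_map (H := ZJ.WW (fun V : Subgroup
    ↥(Subgroup.normalizer (Q : Set G)) => IsMulCommutative ↥V)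
    (S' : Subgroup ↥(Subgroup.normalizer (Q : Set G)))) (Subgroup.normalizer (Q : Set G)).subtype
  rw [hfac] at this
  intro h hh
  exact this ⟨⟨h, hh⟩, trivial, rfl⟩

theorem Zf_ne_bot {G : Type*} [Group G] [Finite G] {p : ℕ} [Fact p.Prime] {R : Subgroup G}
    (hR : IsPGroup p ↥R) (hR1 : R ≠ ⊥) : Zf R ≠ ⊥ := by
  have : Nontrivial ↥R := (Subgroup.nontrivial_iff_ne_bot R).mpr hR1
  have hc := hR.center_nontrivial
  obtain ⟨z, hz⟩ := exists_ne (1 : Subgroup.center ↥R)
  have hzW : ((z : ↥R) : G) ∈ Zf R := by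
    change _ ∈ (sInf (ZJ.Fam (fun V : Subgroup G => IsMulCommutative ↥V) R) : Subgroup G)
    rw [Subgroup.mem_sInf]
    intro A hA
    apply ZJ.mem_of_max_comm hA (z : ↥R).2
    intro a ha
    have := Subgroup.mem_center_iff.mp z.2 ⟨a, hA.1 ha⟩
    exact congrArg Subtype.val this
  intro hbot
  rw [hbot, Subgroup.mem_bot] at hzW
  apply hz
  apply Subtype.ext
  apply Subtype.ext
  exact hzW

theorem exists_normalizer_not_mem {G : Type*} [Group G] [Finite G] {p : ℕ} [Fact p.Prime]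
    {R S : Subgroup G} (hS : IsPGroup p ↥S) (hRS : R ≤ S) (hne : R ≠ S) :
    ∃ x ∈ S, x ∈ Subgroup.normalizer (R : Set G) ∧ x ∉ R := by
  have : Group.IsNilpotent ↥S := hS.isNilpotent
  have hnc := Group.normalizerCondition_of_isNilpotent (G := ↥S)
  have hlt : R.subgroupOf S < ⊤ := by
    rw [lt_top_iff_ne_top]
    intro htop
    rw [Subgroup.subgroupOf_eq_top] at htop
    exact hne (le_antisymm hRS htop)
  obtain ⟨x, hxn, hxR⟩ := SetLike.exists_of_lt (hnc _ hlt)
  refine ⟨x, x.2, ?_, fun h => hxR (Subgroup.mem_subgroupOf.mpr h)⟩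
  rw [Subgroup.mem_normalizer_iff]
  intro y
  constructor
  · intro hy
    have hyS : y ∈ S := hRS hy
    have := (Subgroup.mem_normalizer_iff.mp hxn ⟨y, hyS⟩).mp (Subgroup.mem_subgroupOf.mpr hy)
    exact Subgroup.mem_subgroupOf.mp this
  · intro hy
    have hyS : y ∈ S := by
      have e : y = (x : G)⁻¹ * ((x : G) * y * (x : G)⁻¹) * (x : G) := by group
      rw [e]
      exact S.mul_mem (S.mul_mem (S.inv_mem x.2) (hRS hy)) x.2
    have := (Subgroup.mem_normalizer_iff.mp hxn ⟨y, hyS⟩).mpr (Subgroup.mem_subgroupOf.mpr hy)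
    exact Subgroup.mem_subgroupOf.mp this

theorem exists_conj_le_sylow {G : Type*} [Group G] [Finite G] {p : ℕ} [Fact p.Prime]
    (P : Sylow p G) {N T : Subgroup G} (hPN : (P : Subgroup G) ≤ N) (hTN : T ≤ N)
    (hT : IsPGroup p ↥T) : ∃ n ∈ N, ∀ t ∈ T, n * t * n⁻¹ ∈ (P : Subgroup G) := by
  have hT' : IsPGroup p ↥(T.subgroupOf N) := hT.comap_subtype
  obtain ⟨Q', hQ'⟩ := hT'.exists_le_sylow
  obtain ⟨m, hm⟩ := MulAction.exists_smul_eq ↥N Q' (P.subtype hPN)
  refine ⟨m, m.2, fun t ht => ?_⟩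
  have h1 : (⟨t, hTN ht⟩ : ↥N) ∈ (Q' : Subgroup ↥N) := hQ' (Subgroup.mem_subgroupOf.mpr ht)
  have h2 : MulAut.conj m • (⟨t, hTN ht⟩ : ↥N) ∈ MulAut.conj m • (Q' : Subgroup ↥N) :=
    Subgroup.smul_mem_pointwise_smul _ _ _ h1
  rw [← Sylow.coe_subgroup_smul, hm, Sylow.coe_subtype, Subgroup.mem_subgroupOf] at h2
  simpa [MulAut.smul_def] using h2

theorem card_lt_of_le_of_mem {G : Type*} [Group G] [Finite G] {H K : Subgroup G} (hle : H ≤ K)
    {x : G} (hxK : x ∈ K) (hxH : x ∉ H) : Nat.card ↥H < Nat.card ↥K := by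
  by_contra hcon
  push Not at hcon
  have := Subgroup.eq_of_le_of_card_ge hle hcon
  exact hxH (this ▸ hxK)

theorem case_normal {G : Type*} [Group G] [Finite G] {p : ℕ} [Fact p.Prime] (hp : p ≠ 2)
    (hloc : ∀ Q : Subgroup G, IsPGroup p Q → Q ≠ ⊥ →
      Cfsg.pPrimeCore p ↥(Subgroup.normalizer (Q : Set G)) = ⊥ ∧
      Cfsg.IsPConstrained p ↥(Subgroup.normalizer (Q : Set G)) ∧
      Cfsg.IsPStable p ↥(Subgroup.normalizer (Q : Set G)))
    (P : Sylow p G) (Q : Subgroup G) (hQP : Q ≤ (P : Subgroup G)) (hQ1 : Q ≠ ⊥)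
    (hPH : (P : Subgroup G) ≤ Subgroup.normalizer (Q : Set G)) :
    Subgroup.normalizer (Q : Set G) ≤ Subgroup.normalizer (Zf (P : Subgroup G) : Set G) := by
  have := local_zj hp hloc Q (P.2.to_le hQP) hQ1 (P.subtype hPH)
  rwa [Sylow.coe_subtype, Subgroup.map_subgroupOf_eq_of_le hPH] at this

theorem main {G : Type*} [Group G] [Finite G] {p : ℕ} [Fact p.Prime] (hp : p ≠ 2)
    (hloc : ∀ Q : Subgroup G, IsPGroup p Q → Q ≠ ⊥ →
      Cfsg.pPrimeCore p ↥(Subgroup.normalizer (Q : Set G)) = ⊥ ∧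
      Cfsg.IsPConstrained p ↥(Subgroup.normalizer (Q : Set G)) ∧
      Cfsg.IsPStable p ↥(Subgroup.normalizer (Q : Set G)))
    (P : Sylow p G) :
    ∀ (d : ℕ) (Q : Subgroup G), Q ≤ (P : Subgroup G) → Q ≠ ⊥ →
      Nat.card ↥(P : Subgroup G) ≤
        Nat.card ↥((P : Subgroup G) ⊓ Subgroup.normalizer (Q : Set G)) + d →
      Subgroup.normalizer (Q : Set G) ≤ Subgroup.normalizer (Zf (P : Subgroup G) : Set G) := by
  intro d
  induction d with
  | zero =>
    intro Q hQP hQ1 hcard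
    have h1 : (P : Subgroup G) ⊓ Subgroup.normalizer (Q : Set G) = P :=
      Subgroup.eq_of_le_of_card_ge inf_le_left (by omega)
    exact case_normal hp hloc P Q hQP hQ1 (by rw [← h1]; exact inf_le_right)
  | succ d ih =>
    intro Q hQP hQ1 hcard
    by_cases hPH : (P : Subgroup G) ≤ Subgroup.normalizer (Q : Set G)
    · exact case_normal hp hloc P Q hQP hQ1 hPH
    have hRleP : (P : Subgroup G) ⊓ Subgroup.normalizer (Q : Set G) ≤ P := inf_le_left
    have hRneP : (P : Subgroup G) ⊓ Subgroup.normalizer (Q : Set G) ≠ P :=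
      fun h => hPH (by rw [← h]; exact inf_le_right)
    have hQR : Q ≤ (P : Subgroup G) ⊓ Subgroup.normalizer (Q : Set G) :=
      le_inf hQP Subgroup.le_normalizer
    have hR1 : (P : Subgroup G) ⊓ Subgroup.normalizer (Q : Set G) ≠ ⊥ :=
      fun h => hQ1 (le_bot_iff.mp (h ▸ hQR))
    have hRH : (P : Subgroup G) ⊓ Subgroup.normalizer (Q : Set G) ≤
        Subgroup.normalizer (Q : Set G) := inf_le_right
    generalize hR : (P : Subgroup G) ⊓ Subgroup.normalizer (Q : Set G) = R at *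
    have hRp : IsPGroup p ↥R := P.2.to_le hRleP
    obtain ⟨x, hxP, hxN, hxR⟩ := exists_normalizer_not_mem P.2 hRleP hRneP
    have hR₁ : Nat.card ↥R < Nat.card ↥((P : Subgroup G) ⊓ Subgroup.normalizer (R : Set G)) :=
      card_lt_of_le_of_mem (le_inf hRleP Subgroup.le_normalizer) ⟨hxP, hxN⟩ hxR
    have ihR : Subgroup.normalizer (R : Set G) ≤
        Subgroup.normalizer (Zf (P : Subgroup G) : Set G) := ih R hRleP hR1 (by omega)
    obtain ⟨S', hS'⟩ := (hRp.comap_subtype (K := Subgroup.normalizer (Q : Set G))).exists_le_sylow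
    have hlz := local_zj hp hloc Q (P.2.to_le hQP) hQ1 S'
    have hRS : R ≤ (S' : Subgroup ↥(Subgroup.normalizer (Q : Set G))).map
        (Subgroup.normalizer (Q : Set G)).subtype := by
      intro r hr
      exact ⟨⟨r, hRH hr⟩, hS' (Subgroup.mem_subgroupOf.mpr hr), rfl⟩
    have hSH : (S' : Subgroup ↥(Subgroup.normalizer (Q : Set G))).map
        (Subgroup.normalizer (Q : Set G)).subtype ≤ Subgroup.normalizer (Q : Set G) :=
      Subgroup.map_subtype_le _
    have hSp : IsPGroup p ↥((S' : Subgroup ↥(Subgroup.normalizer (Q : Set G))).map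
        (Subgroup.normalizer (Q : Set G)).subtype) := S'.2.map _
    generalize (S' : Subgroup ↥(Subgroup.normalizer (Q : Set G))).map
        (Subgroup.normalizer (Q : Set G)).subtype = S at hlz hRS hSH hSp
    by_cases hRS' : R = S
    · rw [← hRS'] at hlz
      have hQ₁P : Zf R ≤ (P : Subgroup G) :=
        (ZJ.WW_le (ZJ.goodPred_comm (G := G)).bot R).trans hRleP
      have hQ₁1 := Zf_ne_bot hRp hR1
      have hNRle : Subgroup.normalizer (R : Set G) ≤ Subgroup.normalizer (Zf R : Set G) :=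
        ZJ.normalizer_le_normalizer_WW ZJ.goodPred_comm R
      have hcard' : Nat.card ↥((P : Subgroup G) ⊓ Subgroup.normalizer (R : Set G)) ≤
          Nat.card ↥((P : Subgroup G) ⊓ Subgroup.normalizer (Zf R : Set G)) :=
        Subgroup.card_le_of_le (inf_le_inf_left _ hNRle)
      have := ih (Zf R) hQ₁P hQ₁1 (by omega)
      exact hlz.trans this
    · obtain ⟨y, hyS, hyN, hyR⟩ := exists_normalizer_not_mem hSp hRS hRS'
      have hR₂N : S ⊓ Subgroup.normalizer (R : Set G) ≤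
          Subgroup.normalizer (Zf (P : Subgroup G) : Set G) := inf_le_right.trans ihR
      have hR₂p : IsPGroup p ↥(S ⊓ Subgroup.normalizer (R : Set G)) := hSp.to_le inf_le_left
      have hPN : (P : Subgroup G) ≤ Subgroup.normalizer (Zf (P : Subgroup G) : Set G) :=
        Subgroup.le_normalizer.trans (ZJ.normalizer_le_normalizer_WW ZJ.goodPred_comm _)
      obtain ⟨n, hnN, hn⟩ := exists_conj_le_sylow P hPN hR₂N hR₂p
      have hQnP : Q.map (MulAut.conj n).toMonoidHom ≤ (P : Subgroup G) := by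
        rintro _ ⟨q, hq, rfl⟩
        exact hn q ⟨hRS (hQR hq), Subgroup.le_normalizer (hQR hq)⟩
      have hQn1 : Q.map (MulAut.conj n).toMonoidHom ≠ ⊥ := by
        intro h
        rw [Subgroup.map_eq_bot_iff_of_injective _ (MulAut.conj n).injective] at h
        exact hQ1 h
      have hle : (S ⊓ Subgroup.normalizer (R : Set G)).map (MulAut.conj n).toMonoidHom ≤
          (P : Subgroup G) ⊓
            Subgroup.normalizer ((Q.map (MulAut.conj n).toMonoidHom : Subgroup G) : Set G) := by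
        rintro _ ⟨t, ht, rfl⟩
        exact ⟨hn t ht, Subgroup.le_normalizer_map _ ⟨t, hSH ht.1, rfl⟩⟩
      have hcard₂ : Nat.card ↥R < Nat.card ↥(S ⊓ Subgroup.normalizer (R : Set G)) :=
        card_lt_of_le_of_mem (le_inf hRS Subgroup.le_normalizer) ⟨hyS, hyN⟩ hyR
      have hcard₃ : Nat.card ↥(S ⊓ Subgroup.normalizer (R : Set G)) ≤
          Nat.card ↥((P : Subgroup G) ⊓
            Subgroup.normalizer ((Q.map (MulAut.conj n).toMonoidHom : Subgroup G) : Set G)) := by
        have h0 : Nat.card ↥((S ⊓ Subgroup.normalizer (R : Set G)).map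
            (MulAut.conj n).toMonoidHom) = Nat.card ↥(S ⊓ Subgroup.normalizer (R : Set G)) :=
          Subgroup.card_map_of_injective (MulAut.conj n).injective
        rw [← h0]
        exact Subgroup.card_le_of_le hle
      have hfin := ih (Q.map (MulAut.conj n).toMonoidHom) hQnP hQn1 (by omega)
      intro h hh
      have h1 : n * h * n⁻¹ ∈
          Subgroup.normalizer ((Q.map (MulAut.conj n).toMonoidHom : Subgroup G) : Set G) :=
        Subgroup.le_normalizer_map _ ⟨h, hh, rfl⟩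
      have h2 := hfin h1
      have e : h = n⁻¹ * (n * h * n⁻¹) * n := by group
      rw [e]
      exact Subgroup.mul_mem _ (Subgroup.mul_mem _ (Subgroup.inv_mem _ hnN) h2) hnN

/-- In a group of characteristic p type all of whose p-locals are p-stable (p odd), the normalizer of Z(J(P)) contains the normalizer of every nontrivial subgroup of the Sylow p-subgroup P. -/
theorem result {G : Type*} [Group G] [Finite G] {p : ℕ} [Fact p.Prime] (hp : p ≠ 2) (hloc : ∀ Q : Subgroup G, IsPGroup p Q → Q ≠ ⊥ → Cfsg.pPrimeCore p ↥(Subgroup.normalizer (Q : Set G)) = ⊥ ∧ Cfsg.IsPConstrained p ↥(Subgroup.normalizer (Q : Set G)) ∧ Cfsg.IsPStable p ↥(Subgroup.normalizer (Q : Set G))) (P : Sylow p G) (Q : Subgroup G) (hQP : Q ≤ (P : Subgroup G)) (hQ1 : Q ≠ ⊥) : Subgroup.normalizer (Q : Set G) ≤ Subgroup.normalizer (Cfsg.centerThompsonAOf ((P : Subgroup G)) : Set G) := by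
  rw [Cfsg.Agent.Lib.Helper16.ZJ.centerThompsonAOf_eq_WW]
  exact main hp hloc P (Nat.card ↥(P : Subgroup G)) Q hQP hQ1 (by omega)

end Cfsg.Agent.S0658
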