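import Cfsg.Statements.S0660
import Cfsg.Agent.Lib.Helper16.Maschke

set_option autoImplicit false
open Cfsg

namespace Cfsg.Agent.S0660

open Cfsg.Agent.Lib.Helper16

/-- projection onto `U` along `W` in a commutative group -/
theorem exists_retraction {V : Type*} [CommGroup V] (U W : Subgroup V) (h1 : U ⊓ W = ⊥)
    (h2 : U ⊔ W = ⊤) : ∃ π : V →* V, (∀ v, π v ∈ U) ∧ (∀ u ∈ U, π u = u) := by
  let f : ↥U × ↥W →* V := U.subtype.coprod W.subtype
  have hf : ∀ p : ↥U × ↥W, f p = (p.1 : V) * (p.2 : V) := fun p => rfl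
  have hinj : Function.Injective f := by
    rw [injective_iff_map_eq_one]
    rintro ⟨u, w⟩ h
    rw [hf] at h
    have hu : (u : V) = (w : V)⁻¹ := eq_inv_of_mul_eq_one_left h
    have hmem : (u : V) ∈ U ⊓ W := ⟨u.2, by rw [hu]; exact W.inv_mem w.2⟩
    rw [h1, Subgroup.mem_bot] at hmem
    have hw : (w : V) = 1 := by rw [hmem, one_mul] at h; exact h
    exact Prod.ext (Subtype.ext hmem) (Subtype.ext hw)
  have hsurj : Function.Surjective f := by
    intro v
    have hv : v ∈ U ⊔ W := by rw [h2]; exact Subgroup.mem_top v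
    rw [Subgroup.mem_sup] at hv
    obtain ⟨u, hu, w, hw, rfl⟩ := hv
    exact ⟨(⟨u, hu⟩, ⟨w, hw⟩), rfl⟩
  let e : ↥U × ↥W ≃* V := MulEquiv.ofBijective f ⟨hinj, hsurj⟩
  refine ⟨U.subtype.comp ((MonoidHom.fst ↥U ↥W).comp e.symm.toMonoidHom), ?_, ?_⟩
  · intro v
    exact Subtype.property _
  · intro u hu
    have : e.symm u = (⟨u, hu⟩, 1) := by
      rw [MulEquiv.symm_apply_eq]
      change u = f (⟨u, hu⟩, 1)
      rw [hf]
      simp
    simp [this]

theorem result {G : Type*} [Group G] [Finite G] (V A U : Subgroup G) (hVab : IsMulCommutative V) (hAV : A ≤ Subgroup.normalizer (V : Set G)) (hcop : (Nat.card A).Coprime (Nat.card V)) (hUV : U ≤ V) (hAU : A ≤ Subgroup.normalizer (U : Set G)) (W : Subgroup G) (hWV : W ≤ V) (hUW : U ⊓ W = ⊥) (hUWV : U ⊔ W = V) : ∃ W' : Subgroup G, W' ≤ V ∧ A ≤ Subgroup.normalizer (W' : Set G) ∧ U ⊓ W' = ⊥ ∧ U ⊔ W' = V := by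
  classical
  haveI := hVab
  letI : CommGroup ↥V :=
    { (inferInstance : Group ↥V) with mul_comm := fun a b => mul_comm' a b }
  haveI : Fintype ↥A := Fintype.ofFinite A
  letI act : MulDistribMulAction ↥A ↥V :=
    { smul := fun a v => ⟨a * v * (a : G)⁻¹, ((Subgroup.mem_normalizer_iff.mp (hAV a.2)) v).mp v.2⟩
      one_smul := fun v => Subtype.ext (by
        change ((1 : ↥A) : G) * v * ((1 : ↥A) : G)⁻¹ = v
        simp)
      mul_smul := fun a b v => Subtype.ext (by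
        change ((a * b : ↥A) : G) * v * ((a * b : ↥A) : G)⁻¹ = a * (b * v * (b : G)⁻¹) * (a : G)⁻¹
        simp [mul_assoc])
      smul_mul := fun a v w => Subtype.ext (by
        change (a : G) * ((v * w : ↥V) : G) * (a : G)⁻¹ = (a * v * (a : G)⁻¹) * (a * w * (a : G)⁻¹)
        simp [mul_assoc])
      smul_one := fun a => Subtype.ext (by
        change (a : G) * ((1 : ↥V) : G) * (a : G)⁻¹ = 1
        simp) }
  have hsmul : ∀ (a : ↥A) (v : ↥V), ((a • v : ↥V) : G) = a * v * (a : G)⁻¹ := fun a v => rfl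
  have hcop' : (Fintype.card ↥A).Coprime (Nat.card ↥V) := by
    rw [← Nat.card_eq_fintype_card]; exact hcop
  have hU' : ∀ a : ↥A, ∀ u ∈ U.subgroupOf V, a • u ∈ U.subgroupOf V := by
    intro a u hu
    rw [Subgroup.mem_subgroupOf] at hu ⊢
    rw [hsmul]
    exact ((Subgroup.mem_normalizer_iff.mp (hAU a.2)) u).mp hu
  have h1 : U.subgroupOf V ⊓ W.subgroupOf V = ⊥ := by
    rw [eq_bot_iff]
    intro x hx
    rw [Subgroup.mem_inf, Subgroup.mem_subgroupOf, Subgroup.mem_subgroupOf] at hx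
    have : (x : G) ∈ U ⊓ W := hx
    rw [hUW, Subgroup.mem_bot] at this
    rw [Subgroup.mem_bot]
    exact Subtype.ext this
  have h2 : U.subgroupOf V ⊔ W.subgroupOf V = ⊤ := by
    rw [← Subgroup.subgroupOf_sup hUV hWV, hUWV, Subgroup.subgroupOf_self]
  obtain ⟨π, hπU, hπid⟩ := exists_retraction (U.subgroupOf V) (W.subgroupOf V) h1 h2
  obtain ⟨θ, hθU, hθid, hθeq⟩ :=
    exists_equivariant_retraction hcop' (U.subgroupOf V) hU' π hπU hπid
  have hmemW : ∀ x : G, x ∈ θ.ker.map V.subtype ↔ ∃ hx : x ∈ V, θ ⟨x, hx⟩ = 1 := by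
    intro x
    rw [Subgroup.mem_map]
    constructor
    · rintro ⟨v, hv, rfl⟩
      exact ⟨v.2, MonoidHom.mem_ker.mp hv⟩
    · rintro ⟨hx, h⟩
      exact ⟨⟨x, hx⟩, MonoidHom.mem_ker.mpr h, rfl⟩
  have hconj : ∀ b ∈ A, ∀ x ∈ θ.ker.map V.subtype, b * x * b⁻¹ ∈ θ.ker.map V.subtype := by
    intro b hb x hx
    rw [hmemW] at hx ⊢
    obtain ⟨hxV, hθx⟩ := hx
    have hmem : b * x * b⁻¹ ∈ V := ((Subgroup.mem_normalizer_iff.mp (hAV hb)) x).mp hxV
    refine ⟨hmem, ?_⟩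
    have : (⟨b * x * b⁻¹, hmem⟩ : ↥V) = (⟨b, hb⟩ : ↥A) • (⟨x, hxV⟩ : ↥V) := Subtype.ext rfl
    rw [this, hθeq, hθx, smul_one]
  refine ⟨θ.ker.map V.subtype, Subgroup.map_subtype_le _, ?_, ?_, ?_⟩
  · intro b hb
    rw [Subgroup.mem_normalizer_iff]
    intro x
    constructor
    · exact hconj b hb x
    · intro hx
      have := hconj b⁻¹ (A.inv_mem hb) _ hx
      simpa [mul_assoc] using this
  · rw [eq_bot_iff]
    intro x hx
    obtain ⟨hxU, hxW⟩ := hx
    have hxW : x ∈ θ.ker.map V.subtype := hxW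
    rw [hmemW] at hxW
    obtain ⟨hxV, hθx⟩ := hxW
    have : θ ⟨x, hxV⟩ = ⟨x, hxV⟩ := hθid _ (Subgroup.mem_subgroupOf.mpr hxU)
    rw [hθx] at this
    rw [Subgroup.mem_bot]
    exact (congrArg Subtype.val this).symm
  · apply le_antisymm
    · exact sup_le hUV (Subgroup.map_subtype_le _)
    · intro x hxV
      set v : ↥V := ⟨x, hxV⟩ with hv
      have hx : x = ((θ v : ↥V) : G) * (((θ v)⁻¹ * v : ↥V) : G) := by
        rw [← Subgroup.coe_mul, mul_inv_cancel_left]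
      rw [hx]
      apply Subgroup.mul_mem_sup
      · exact Subgroup.mem_subgroupOf.mp (hθU v)
      · rw [hmemW]
        refine ⟨Subtype.property _, ?_⟩
        change θ ((θ v)⁻¹ * v) = 1
        rw [map_mul, map_inv, hθid _ (hθU v), inv_mul_cancel]

end Cfsg.Agent.S0660
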