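import Cfsg.Statements.S0662
import Cfsg.Agent.Lib.Helper23.PGroupLCS
import Cfsg.Agent.Lib.Helper68.CountIndexP

set_option autoImplicit false
open Cfsg

namespace Cfsg.Agent.S0662

open Cfsg.Agent.Lib.Helper23.PGroupLCS

/-- In a p-group of maximal class of order at least p³ the normal subgroups of index at least p² are exactly the terms of the lower central series, and there are exactly p + 1 normal subgroups of index p. -/
theorem result {G : Type*} [Group G] [Finite G] {p : ℕ} [Fact p.Prime] (n : ℕ) (hG : Nat.card G = p ^ n) (hcl : Group.nilpotencyClass G = n - 1) (hn : 3 ≤ n) : (∀ (N : Subgroup G) [N.Normal] (r : ℕ), 2 ≤ r → N.index = p ^ r → N = (⊤ : Subgroup G).lowerCentralSeries (r - 1)) ∧ Nat.card {N : Subgroup G // N.Normal ∧ N.index = p} = p + 1 := by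
  classical
  have hp : p.Prime := Fact.out
  have hQ : IsPGroup p G := IsPGroup.of_card hG
  have hnil : Group.IsNilpotent G := hQ.isNilpotent
  -- `M (n - 2) ≠ ⊥`
  have hmax : M G (n - 2) ≠ ⊥ := by
    intro hbot
    have := (Subgroup.lowerCentralSeries_eq_bot_iff_nilpotencyClass_le (G := G) (n := n - 2)).mp hbot
    omega
  have hcardM := card_M_of_maximal_class hQ n hn hG hmax
  constructor
  · intro N hN r hr hidx
    -- `r ≤ n`
    have hrn : r ≤ n := by
      have hd : N.index ∣ Nat.card G := Subgroup.index_dvd_card N
      rw [hidx, hG] at hd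
      exact (Nat.pow_dvd_pow_iff_le_right hp.one_lt).mp hd
    -- `M (r - 1) ≤ N` via the quotient
    have hQN : IsPGroup p (G ⧸ N) := hQ.to_quotient N
    have hcardQ : Nat.card (G ⧸ N) = p ^ r := by rw [← Subgroup.index_eq_card]; exact hidx
    have hbot := M_eq_bot_of_card hQN r hr hcardQ
    have hmap : (M G (r - 1)).map (QuotientGroup.mk' N) = M (G ⧸ N) (r - 1) := by
      show ((⊤ : Subgroup G).lowerCentralSeries (r - 1)).map (QuotientGroup.mk' N) = _
      rw [Subgroup.map_lowerCentralSeries,
        Subgroup.map_top_of_surjective _ (QuotientGroup.mk'_surjective N)]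
    have hle : M G (r - 1) ≤ N := by
      have h1 : (M G (r - 1)).map (QuotientGroup.mk' N) = ⊥ := by rw [hmap, hbot]
      rw [Subgroup.map_eq_bot_iff, QuotientGroup.ker_mk'] at h1
      exact h1
    symm
    apply Subgroup.eq_of_le_of_card_ge hle
    have hNc : Nat.card N * p ^ r = p ^ n := by
      rw [← hidx, ← hG]; exact Subgroup.card_mul_index N
    have hMc := hcardM (r - 1) (by omega) (by omega)
    have e : n - 1 - (r - 1) = n - r := by omega
    rw [e] at hMc
    have hM : Nat.card (M G (r - 1)) * p ^ r = p ^ n := by
      rw [hMc, ← pow_add]; congr 1; omega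
    have hpos : 0 < p ^ r := pow_pos hp.pos r
    have : Nat.card N = Nat.card (M G (r - 1)) :=
      Nat.eq_of_mul_eq_mul_right hpos (by rw [hNc, hM])
    exact this.le
  · -- the `p + 1` maximal subgroups
    have hcomm_idx : (commutator G).index = p ^ 2 := by
      have h1 := hcardM 1 le_rfl (by omega)
      have h2 : M G 1 = commutator G := rfl
      rw [h2] at h1
      have h3 := Subgroup.card_mul_index (commutator G)
      rw [h1, hG] at h3
      have h4 : p ^ (n - 1 - 1) * p ^ 2 = p ^ n := by rw [← pow_add]; congr 1; omega
      have hpos : 0 < p ^ (n - 1 - 1) := pow_pos hp.pos _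
      exact Nat.eq_of_mul_eq_mul_left hpos (by rw [h3, h4])
    have hnc : ¬ IsCyclic (G ⧸ commutator G) := by
      intro hc
      have hbot := commutator_eq_bot_of_isCyclic hc
      rw [hbot, Subgroup.index_bot, hG] at hcomm_idx
      have := Nat.pow_right_injective hp.two_le hcomm_idx
      omega
    have hcardq : Nat.card (G ⧸ commutator G) = p ^ 2 := by
      rw [← Subgroup.index_eq_card]; exact hcomm_idx
    have key := Cfsg.Agent.Lib.Helper68.card_family_index_p hp (commutator G) hcomm_idx
      {N : Subgroup G | N.Normal ∧ N.index = p} (by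
        intro B hB
        obtain ⟨hBn, hBi⟩ := hB
        refine ⟨?_, hBi⟩
        have hcq : Nat.card (G ⧸ B) = p := by rw [← Subgroup.index_eq_card]; exact hBi
        have hcyc : IsCyclic (G ⧸ B) := isCyclic_of_prime_card hcq
        rw [← Subgroup.Normal.quotient_commutative_iff_commutator_le]
        exact ⟨⟨fun a b => hcyc.commGroup.mul_comm a b⟩⟩) (by
        intro x hx
        -- the image of `x` in the abelianization has order `p`
        set xb : G ⧸ commutator G := QuotientGroup.mk' (commutator G) x with hxb
        have hxb1 : xb ≠ 1 := by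
          intro h1
          exact hx ((QuotientGroup.eq_one_iff x).mp h1)
        have hord : orderOf xb = p := by
          have hd : orderOf xb ∣ p ^ 2 := hcardq ▸ orderOf_dvd_natCard xb
          obtain ⟨k, hk, hk'⟩ := (Nat.dvd_prime_pow hp).mp hd
          have hk0 : k ≠ 0 := by
            intro h0
            rw [h0, pow_zero, orderOf_eq_one_iff] at hk'
            exact hxb1 hk'
          have hk2 : k ≠ 2 := by
            intro h2
            apply hnc
            rw [h2, ← hcardq] at hk'
            exact isCyclic_of_orderOf_eq_card xb hk'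
          have : k = 1 := by omega
          rw [hk', this, pow_one]
        refine ⟨(Subgroup.zpowers xb).comap (QuotientGroup.mk' (commutator G)), ⟨?_, ?_⟩, ?_⟩
        · have hcq : IsMulCommutative (G ⧸ commutator G) :=
            Subgroup.Normal.quotient_commutative_iff_commutator_le.mpr le_rfl
          have : (Subgroup.zpowers xb).Normal :=
            ⟨fun n hn g => by
              have : g * n * g⁻¹ = n := by
                rw [hcq.is_comm.comm g n]; group
              rw [this]; exact hn⟩
          exact Subgroup.Normal.comap this _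
        · rw [Subgroup.index_comap_of_surjective _ (QuotientGroup.mk'_surjective _)]
          have h1 := Subgroup.card_mul_index (Subgroup.zpowers xb)
          rw [Nat.card_zpowers, hord, hcardq] at h1
          have : p * (Subgroup.zpowers xb).index = p * p := by rw [h1]; ring
          exact Nat.eq_of_mul_eq_mul_left hp.pos this
        · rw [Subgroup.mem_comap]
          exact Subgroup.mem_zpowers xb)
    rw [← key]
    rfl

end Cfsg.Agent.S0662
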