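import Mathlib
import Cfsg.Statements.S0663

set_option autoImplicit false
open Cfsg

namespace Cfsg.Agent.S0663

open Subgroup
open scoped commutatorElement

variable {L : Type*} [Group L]

/-- If `G` normalizes `H` then `⁅H, G⁆ ≤ H`. -/
theorem comm_le_of_le_normalizer {H G : Subgroup L} (h : G ≤ normalizer (H : Set L)) :
    ⁅H, G⁆ ≤ H := by
  rw [Subgroup.commutator_le]
  intro a ha g hg
  have h1 : g * a⁻¹ * g⁻¹ ∈ H := (Subgroup.mem_normalizer_iff.mp (h hg) a⁻¹).mp (inv_mem ha)
  have : ⁅a, g⁆ = a * (g * a⁻¹ * g⁻¹) := by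
    rw [commutatorElement_def]; group
  rw [this]
  exact mul_mem ha h1

/-- If `X` normalizes `A` and `B` then it normalizes `⁅A, B⁆`. -/
theorem le_normalizer_commutator {A B X : Subgroup L} (hA : X ≤ normalizer (A : Set L))
    (hB : X ≤ normalizer (B : Set L)) : X ≤ normalizer ((⁅A, B⁆ : Subgroup L) : Set L) := by
  intro x hx
  have h1 := hA hx
  have h2 := hB hx
  rw [Subgroup.mem_normalizer_iff_map_conj_eq] at h1 h2 ⊢
  rw [Subgroup.map_commutator, h1, h2]

/-- In a nilpotent subgroup `Y`, a subgroup `H ≤ Y` with `H ≤ ⁅H, Y⁆` is trivial. -/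
theorem eq_bot_of_le_commutator {H Y : Subgroup L} (hY : Group.IsNilpotent Y) (hHY : H ≤ Y)
    (h : H ≤ ⁅H, Y⁆) : H = ⊥ := by
  obtain ⟨c, hc⟩ := (Subgroup.isNilpotent_iff_lowerCentralSeries Y).mp hY
  have key : ∀ k, H ≤ Y.lowerCentralSeries k := by
    intro k
    induction k with
    | zero => simpa using hHY
    | succ k ih =>
      rw [Subgroup.lowerCentralSeries_succ]
      exact h.trans (Subgroup.commutator_mono ih le_rfl)
  have := key c
  rw [hc] at this
  exact le_bot_iff.mp this

/-- A nontrivial `p`-group `H` normalized by a `p`-group `G` is not contained in `⁅H, G⁆`. -/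
theorem eq_bot_of_le_commutator_pgroup [Finite L] {p : ℕ} [Fact p.Prime] {H G : Subgroup L}
    (hH : IsPGroup p H) (hG : IsPGroup p G) (hGH : G ≤ normalizer (H : Set L))
    (h : H ≤ ⁅H, G⁆) : H = ⊥ := by
  have hY : IsPGroup p (H ⊔ G : Subgroup L) := IsPGroup.to_sup_of_normal_left' hH hG hGH
  have hnil : Group.IsNilpotent (H ⊔ G : Subgroup L) := hY.isNilpotent
  exact eq_bot_of_le_commutator hnil le_sup_left
    (h.trans (Subgroup.commutator_mono le_rfl le_sup_right))


theorem card_mul_relIndex {H K : Subgroup L} (h : H ≤ K) :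
    Nat.card H * H.relIndex K = Nat.card K := by
  rw [Subgroup.relIndex, ← Nat.card_congr (Subgroup.subgroupOfEquivOfLe h).toEquiv]
  exact Subgroup.card_mul_index _

section chain

variable (N G : Subgroup L)

theorem iter_basic (hGN : G ≤ normalizer (N : Set L)) : ∀ i,
    Cfsg.iterCommutator N G i ≤ N ∧
      G ≤ normalizer ((Cfsg.iterCommutator N G i : Subgroup L) : Set L)
  | 0 => ⟨le_rfl, hGN⟩
  | i + 1 => by
    obtain ⟨h1, h2⟩ := iter_basic hGN i
    exact ⟨(comm_le_of_le_normalizer h2).trans h1, le_normalizer_commutator h2 le_normalizer⟩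

theorem iter_succ_le (hGN : G ≤ normalizer (N : Set L)) (i : ℕ) :
    Cfsg.iterCommutator N G (i + 1) ≤ Cfsg.iterCommutator N G i :=
  comm_le_of_le_normalizer (iter_basic N G hGN i).2

theorem iter_antitone (hGN : G ≤ normalizer (N : Set L)) {i j : ℕ} (h : i ≤ j) :
    Cfsg.iterCommutator N G j ≤ Cfsg.iterCommutator N G i := by
  induction j, h using Nat.le_induction with
  | base => exact le_rfl
  | succ j _ ih => exact (iter_succ_le N G hGN j).trans ih

variable {p : ℕ} [Fact p.Prime]

/-- Under the uniserial hypothesis the chain drops by exactly `p` at each step. -/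
theorem card_of_uniserial (hGN : G ≤ normalizer (N : Set L)) (n : ℕ) (hn : Nat.card N = p ^ n)
    (hU : ∀ H : Subgroup L, H ≤ N → G ≤ Subgroup.normalizer (H : Set L) → H ≠ ⊥ →
      (⁅H, G⁆).relIndex H = p) :
    ∀ i ≤ n, Nat.card (Cfsg.iterCommutator N G i) = p ^ (n - i) := by
  have hp : p.Prime := Fact.out
  intro i
  induction i with
  | zero => intro _; exact hn
  | succ i ih =>
    intro hi
    have h1 := ih (by omega)
    obtain ⟨hb1, hb2⟩ := iter_basic N G hGN i
    have hne : Cfsg.iterCommutator N G i ≠ ⊥ := by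
      intro h
      rw [h, Subgroup.card_bot] at h1
      have : 1 < p ^ (n - i) := Nat.one_lt_pow (by omega) hp.one_lt
      omega
    have h2 := hU _ hb1 hb2 hne
    have h3 := card_mul_relIndex (iter_succ_le N G hGN i)
    change Nat.card (Cfsg.iterCommutator N G (i + 1)) *
      (⁅Cfsg.iterCommutator N G i, G⁆).relIndex (Cfsg.iterCommutator N G i) = _ at h3
    rw [h2, h1] at h3
    have h4 : p ^ (n - i) = p ^ (n - (i + 1)) * p := by
      rw [← pow_succ]; congr 1; omega
    rw [h4] at h3
    exact Nat.eq_of_mul_eq_mul_right hp.pos h3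


omit [Fact p.Prime] in
theorem isPGroup_iter (hN : IsPGroup p N) (hGN : G ≤ normalizer (N : Set L)) (i : ℕ) :
    IsPGroup p (Cfsg.iterCommutator N G i) :=
  hN.to_le (iter_basic N G hGN i).1

variable [Finite L]

/-- A nontrivial term of the chain strictly contains the next one, with index divisible by `p`. -/
theorem step_facts (hN : IsPGroup p N) (hG : IsPGroup p G) (hGN : G ≤ normalizer (N : Set L))
    (i : ℕ) (hne : Cfsg.iterCommutator N G i ≠ ⊥) :
    ∃ r, p ∣ r ∧ Nat.card (Cfsg.iterCommutator N G i) =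
      Nat.card (Cfsg.iterCommutator N G (i + 1)) * r := by
  have hp : p.Prime := Fact.out
  refine ⟨(Cfsg.iterCommutator N G (i + 1)).relIndex (Cfsg.iterCommutator N G i), ?_,
    (card_mul_relIndex (iter_succ_le N G hGN i)).symm⟩
  have hPi := isPGroup_iter N G hN hGN i
  obtain ⟨k, hk⟩ := IsPGroup.iff_card.mp hPi
  have h1 : (Cfsg.iterCommutator N G (i + 1)).relIndex (Cfsg.iterCommutator N G i) ∣ p ^ k := by
    rw [← hk]; exact Subgroup.relIndex_dvd_card _ _
  obtain ⟨m, -, hm⟩ := (Nat.dvd_prime_pow hp).mp h1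
  rcases Nat.eq_zero_or_pos m with h0 | h0
  · exfalso
    rw [h0, pow_zero, Subgroup.relIndex_eq_one] at hm
    exact hne (eq_bot_of_le_commutator_pgroup hPi hG (iter_basic N G hGN i).2 hm)
  · rw [hm]; exact dvd_pow_self p (by omega)

omit [Finite L] [Fact p.Prime] in
theorem iter_ne_bot_of_le (hGN : G ≤ normalizer (N : Set L)) (n : ℕ)
    (hC : Cfsg.iterCommutator N G (n - 1) ≠ ⊥) {i : ℕ} (hi : i ≤ n - 1) :
    Cfsg.iterCommutator N G i ≠ ⊥ := by
  intro h
  apply hC
  have := iter_antitone N G hGN hi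
  rw [h] at this
  exact le_bot_iff.mp this

/-- If the chain is still nontrivial at step `n - 1`, the orders are forced. -/
theorem card_of_chain (hN : IsPGroup p N) (hG : IsPGroup p G) (hGN : G ≤ normalizer (N : Set L))
    (n : ℕ) (hn : Nat.card N = p ^ n) (hn1 : 1 ≤ n)
    (hC : Cfsg.iterCommutator N G (n - 1) ≠ ⊥) :
    ∀ i ≤ n, Nat.card (Cfsg.iterCommutator N G i) = p ^ (n - i) := by
  have hp : p.Prime := Fact.out
  -- upper bound
  have upper : ∀ i ≤ n, Nat.card (Cfsg.iterCommutator N G i) ∣ p ^ (n - i) := by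
    intro i
    induction i with
    | zero => intro _; exact dvd_of_eq hn
    | succ i ih =>
      intro hi
      have h1 := ih (by omega)
      obtain ⟨r, hr, hcard⟩ := step_facts N G hN hG hGN i
        (iter_ne_bot_of_le N G hGN n hC (by omega))
      rw [hcard] at h1
      obtain ⟨r', rfl⟩ := hr
      have h4 : p ^ (n - i) = p ^ (n - (i + 1)) * p := by
        rw [← pow_succ]; congr 1; omega
      rw [h4] at h1
      have h5 : Nat.card (Cfsg.iterCommutator N G (i + 1)) * p ∣ p ^ (n - (i + 1)) * p :=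
        (Dvd.intro r' (by ring)).trans h1
      exact (Nat.mul_dvd_mul_iff_right hp.pos).mp h5
  -- lower bound
  have lower : ∀ j, j ≤ n - 1 →
      p ^ (j + 1) ∣ Nat.card (Cfsg.iterCommutator N G (n - 1 - j)) := by
    intro j
    induction j with
    | zero =>
      intro _
      obtain ⟨k, hk⟩ := IsPGroup.iff_card.mp (isPGroup_iter N G hN hGN (n - 1))
      simp only [Nat.sub_zero, zero_add, pow_one]
      rw [hk]
      rcases Nat.eq_zero_or_pos k with h0 | h0
      · exfalso
        rw [h0, pow_zero] at hk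
        exact hC ((Subgroup.card_eq_one).mp hk)
      · exact dvd_pow_self p (by omega)
    | succ j ih =>
      intro hj
      have h1 := ih (by omega)
      obtain ⟨r, hr, hcard⟩ := step_facts N G hN hG hGN (n - 1 - (j + 1))
        (iter_ne_bot_of_le N G hGN n hC (by omega))
      have e : n - 1 - (j + 1) + 1 = n - 1 - j := by omega
      rw [e] at hcard
      rw [hcard, pow_succ]
      exact Nat.mul_dvd_mul h1 hr
  intro i hi
  apply Nat.dvd_antisymm (upper i hi)
  rcases Nat.lt_or_ge i n with h | h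
  · have := lower (n - 1 - i) (by omega)
    have e1 : n - 1 - (n - 1 - i) = i := by omega
    have e2 : n - 1 - i + 1 = n - i := by omega
    rwa [e1, e2] at this
  · have : n - i = 0 := by omega
    rw [this, pow_zero]; exact one_dvd _


omit [Finite L] [Fact p.Prime] in
/-- Commutators of a product `H ⊔ M` with `G`, when everything is suitably normalized. -/
theorem commutator_sup_le {H M M' X : Subgroup L} (hHX : H ≤ X)
    (hGH : G ≤ normalizer (H : Set L)) (hXM : X ≤ normalizer (M : Set L))
    (hXM' : X ≤ normalizer (M' : Set L)) (hMM' : ⁅M, G⁆ ≤ M') : ⁅H ⊔ M, G⁆ ≤ H ⊔ M' := by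
  rw [Subgroup.commutator_le]
  intro a ha g hg
  have ha' : a ∈ ((H ⊔ M : Subgroup L) : Set L) := ha
  rw [Subgroup.coe_mul_of_left_le_normalizer_right H M (hHX.trans hXM)] at ha'
  obtain ⟨h, hh, m, hm, rfl⟩ := Set.mem_mul.mp ha'
  have e : ⁅h * m, g⁆ = (h * ⁅m, g⁆ * h⁻¹) * ⁅h, g⁆ := by
    simp only [commutatorElement_def]; group
  rw [e]
  have h1 : ⁅m, g⁆ ∈ M' := hMM' (Subgroup.commutator_mem_commutator hm hg)
  have h2 : h * ⁅m, g⁆ * h⁻¹ ∈ M' :=
    (Subgroup.mem_normalizer_iff.mp (hXM' (hHX hh)) _).mp h1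
  have h3 : ⁅h, g⁆ ∈ H :=
    comm_le_of_le_normalizer hGH (Subgroup.commutator_mem_commutator hh hg)
  exact mul_mem ((le_sup_right : M' ≤ H ⊔ M') h2) ((le_sup_left : H ≤ H ⊔ M') h3)

/-- Under the chain hypothesis, `N ⊔ G` normalizes every term of the chain. -/
theorem sup_le_normalizer_iter (hN : IsPGroup p N) (hG : IsPGroup p G)
    (hGN : G ≤ normalizer (N : Set L))
    (n : ℕ) (hn : Nat.card N = p ^ n) (hn1 : 1 ≤ n)
    (hC : Cfsg.iterCommutator N G (n - 1) ≠ ⊥) :
    ∀ i, N ⊔ G ≤ normalizer ((Cfsg.iterCommutator N G i : Subgroup L) : Set L) := by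
  have hp : p.Prime := Fact.out
  have hcard := card_of_chain N G hN hG hGN n hn hn1 hC
  have hX : IsPGroup p (N ⊔ G : Subgroup L) := IsPGroup.to_sup_of_normal_left' hN hG hGN
  have hXnil : Group.IsNilpotent (N ⊔ G : Subgroup L) := hX.isNilpotent
  intro i
  induction i with
  | zero => exact sup_le le_normalizer hGN
  | succ i ih =>
    rcases Nat.lt_or_ge i n with hi | hi
    · -- `Ni (i+1) = ⁅Ni i, X⁆`
      have hKle : ⁅Cfsg.iterCommutator N G i, N ⊔ G⁆ ≤ Cfsg.iterCommutator N G i :=
        comm_le_of_le_normalizer ih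
      have hleK : Cfsg.iterCommutator N G (i + 1) ≤ ⁅Cfsg.iterCommutator N G i, N ⊔ G⁆ :=
        Subgroup.commutator_mono le_rfl le_sup_right
      have hne : Cfsg.iterCommutator N G i ≠ ⊥ :=
        iter_ne_bot_of_le N G hGN n hC (by omega)
      have hKne : ⁅Cfsg.iterCommutator N G i, N ⊔ G⁆ ≠ Cfsg.iterCommutator N G i := by
        intro h
        exact hne (eq_bot_of_le_commutator hXnil
          ((iter_basic N G hGN i).1.trans le_sup_left) (le_of_eq h.symm))
      have c1 := hcard i (by omega)
      have c2 := hcard (i + 1) (by omega)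
      have d1 := Subgroup.card_dvd_of_le hKle
      have d2 := Subgroup.card_dvd_of_le hleK
      rw [c1] at d1
      rw [c2] at d2
      obtain ⟨m, hm, hKm⟩ := (Nat.dvd_prime_pow hp).mp d1
      rw [hKm] at d2
      have hm2 : n - (i + 1) ≤ m := (Nat.pow_dvd_pow_iff_le_right hp.one_lt).mp d2
      have hm3 : m ≠ n - i := by
        intro h
        apply hKne
        apply Subgroup.eq_of_le_of_card_ge hKle
        rw [c1, hKm, h]
      have hm4 : m = n - (i + 1) := by omega
      have hKeq : Cfsg.iterCommutator N G (i + 1) = ⁅Cfsg.iterCommutator N G i, N ⊔ G⁆ := by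
        apply Subgroup.eq_of_le_of_card_ge hleK
        rw [c2, hKm, hm4]
      rw [hKeq]
      exact le_normalizer_commutator ih le_normalizer
    · have hbot : Cfsg.iterCommutator N G (i + 1) = ⊥ := by
        have h1 : Cfsg.iterCommutator N G (i + 1) ≤ Cfsg.iterCommutator N G n :=
          iter_antitone N G hGN (by omega)
        have h2 : Cfsg.iterCommutator N G n = ⊥ := by
          have := hcard n le_rfl
          rw [Nat.sub_self, pow_zero] at this
          exact Subgroup.card_eq_one.mp this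
        rw [h2] at h1
        exact le_bot_iff.mp h1
      rw [hbot]
      intro x _
      rw [Subgroup.mem_normalizer_iff]
      intro h
      simp


/-- Under the chain hypothesis, an invariant subgroup inside `Ni i` but not inside `Ni (i+1)`
equals `Ni i`. -/
theorem eq_of_not_le_succ (hN : IsPGroup p N) (hG : IsPGroup p G)
    (hGN : G ≤ normalizer (N : Set L))
    (n : ℕ) (hn : Nat.card N = p ^ n) (hn1 : 1 ≤ n)
    (hC : Cfsg.iterCommutator N G (n - 1) ≠ ⊥)
    (H : Subgroup L) (hHN : H ≤ N) (hGH : G ≤ normalizer (H : Set L))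
    (i : ℕ) (hi : i < n) (hH1 : H ≤ Cfsg.iterCommutator N G i)
    (hH2 : ¬ H ≤ Cfsg.iterCommutator N G (i + 1)) : H = Cfsg.iterCommutator N G i := by
  have hp : p.Prime := Fact.out
  have hcard := card_of_chain N G hN hG hGN n hn hn1 hC
  have hXn := sup_le_normalizer_iter N G hN hG hGN n hn hn1 hC
  -- step 1
  have s1 : Cfsg.iterCommutator N G i ≤ H ⊔ Cfsg.iterCommutator N G (i + 1) := by
    have hT : H ⊔ Cfsg.iterCommutator N G (i + 1) ≤ Cfsg.iterCommutator N G i :=
      sup_le hH1 (iter_succ_le N G hGN i)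
    have c1 := hcard i (by omega)
    have c2 := hcard (i + 1) (by omega)
    have d1 := Subgroup.card_dvd_of_le hT
    have d2 := Subgroup.card_dvd_of_le
      (le_sup_right : Cfsg.iterCommutator N G (i + 1) ≤ H ⊔ Cfsg.iterCommutator N G (i + 1))
    rw [c1] at d1
    rw [c2] at d2
    obtain ⟨m, hm, hKm⟩ := (Nat.dvd_prime_pow hp).mp d1
    rw [hKm] at d2
    have hm2 : n - (i + 1) ≤ m := (Nat.pow_dvd_pow_iff_le_right hp.one_lt).mp d2
    have hm3 : m ≠ n - (i + 1) := by
      intro h
      apply hH2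
      have : Cfsg.iterCommutator N G (i + 1) = H ⊔ Cfsg.iterCommutator N G (i + 1) := by
        apply Subgroup.eq_of_le_of_card_ge le_sup_right
        rw [c2, hKm, h]
      rw [this]
      exact le_sup_left
    have hm4 : m = n - i := by omega
    have : H ⊔ Cfsg.iterCommutator N G (i + 1) = Cfsg.iterCommutator N G i := by
      apply Subgroup.eq_of_le_of_card_ge hT
      rw [c1, hKm, hm4]
    rw [this]
  -- step 2
  have s2 : ∀ k, i + 1 ≤ k → Cfsg.iterCommutator N G i ≤ H ⊔ Cfsg.iterCommutator N G k := by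
    intro k hk
    induction k, hk using Nat.le_induction with
    | base => exact s1
    | succ k _ ih =>
      have h1 : Cfsg.iterCommutator N G (i + 1) ≤ H ⊔ Cfsg.iterCommutator N G (k + 1) := by
        calc Cfsg.iterCommutator N G (i + 1)
            = ⁅Cfsg.iterCommutator N G i, G⁆ := rfl
          _ ≤ ⁅H ⊔ Cfsg.iterCommutator N G k, G⁆ := Subgroup.commutator_mono ih le_rfl
          _ ≤ H ⊔ Cfsg.iterCommutator N G (k + 1) :=
            commutator_sup_le G (hHN.trans (le_sup_left : N ≤ N ⊔ G)) hGH (hXn k)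
              (hXn (k + 1)) le_rfl
      exact s1.trans (sup_le le_sup_left h1)
  -- step 3
  have hbot : Cfsg.iterCommutator N G n = ⊥ := by
    have := hcard n le_rfl
    rw [Nat.sub_self, pow_zero] at this
    exact Subgroup.card_eq_one.mp this
  have s3 := s2 n (by omega)
  rw [hbot, sup_bot_eq] at s3
  exact le_antisymm hH1 s3

/-- Under the chain hypothesis, the invariant subgroups are exactly the terms of the chain. -/
theorem invariant_eq_iter (hN : IsPGroup p N) (hG : IsPGroup p G)
    (hGN : G ≤ normalizer (N : Set L))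
    (n : ℕ) (hn : Nat.card N = p ^ n) (hn1 : 1 ≤ n)
    (hC : Cfsg.iterCommutator N G (n - 1) ≠ ⊥)
    (H : Subgroup L) (hHN : H ≤ N) (hGH : G ≤ normalizer (H : Set L)) :
    ∃ i ≤ n, H = Cfsg.iterCommutator N G i := by
  have hcard := card_of_chain N G hN hG hGN n hn hn1 hC
  have hbot : Cfsg.iterCommutator N G n = ⊥ := by
    have := hcard n le_rfl
    rw [Nat.sub_self, pow_zero] at this
    exact Subgroup.card_eq_one.mp this
  have key : ∀ d i, n - i = d → i ≤ n → H ≤ Cfsg.iterCommutator N G i →
      ∃ j ≤ n, H = Cfsg.iterCommutator N G j := by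
    intro d
    induction d with
    | zero =>
      intro i hd hi hH
      have : i = n := by omega
      subst this
      refine ⟨i, le_rfl, ?_⟩
      rw [hbot] at hH ⊢
      exact le_bot_iff.mp hH
    | succ d ih =>
      intro i hd hi hH
      by_cases h : H ≤ Cfsg.iterCommutator N G (i + 1)
      · exact ih (i + 1) (by omega) (by omega) h
      · exact ⟨i, hi, eq_of_not_le_succ N G hN hG hGN n hn hn1 hC H hHN hGH i (by omega) hH h⟩
  exact key n 0 (by omega) (by omega) hHN

end chain


/-- A p-group acts uniserially on a p-group N of order p^n exactly when the iterated commutator chain from N has length n; in that case the chain terms are all the invariant subgroups of N and they are normal in N. -/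
theorem result {L : Type*} [Group L] [Finite L] {p : ℕ} [Fact p.Prime] (N G : Subgroup L) (hN : IsPGroup p N) (hG : IsPGroup p G) (hGN : G ≤ Subgroup.normalizer (N : Set L)) (n : ℕ) (hn : Nat.card N = p ^ n) : ((∀ H : Subgroup L, H ≤ N → G ≤ Subgroup.normalizer (H : Set L) → H ≠ ⊥ → (⁅H, G⁆).relIndex H = p) ↔ Cfsg.iterCommutator N G (n - 1) ≠ ⊥ ∨ n = 0) ∧ ((∀ H : Subgroup L, H ≤ N → G ≤ Subgroup.normalizer (H : Set L) → H ≠ ⊥ → (⁅H, G⁆).relIndex H = p) → ∀ H : Subgroup L, H ≤ N → G ≤ Subgroup.normalizer (H : Set L) → (∃ i ≤ n, H = Cfsg.iterCommutator N G i) ∧ N ≤ Subgroup.normalizer (H : Set L)) := by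
  have hp : p.Prime := Fact.out
  have hn0 : n = 0 → N = ⊥ := by
    intro h
    rw [h, pow_zero] at hn
    exact Subgroup.card_eq_one.mp hn
  have hn1 : Cfsg.iterCommutator N G (n - 1) ≠ ⊥ → 1 ≤ n := by
    intro hC
    by_contra hlt
    have h0 : n = 0 := by omega
    apply hC
    rw [h0]
    exact hn0 h0
  have dir1 : (∀ H : Subgroup L, H ≤ N → G ≤ Subgroup.normalizer (H : Set L) → H ≠ ⊥ →
      (⁅H, G⁆).relIndex H = p) → Cfsg.iterCommutator N G (n - 1) ≠ ⊥ ∨ n = 0 := by
    intro hU
    rcases Nat.eq_zero_or_pos n with h0 | h0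
    · right; exact h0
    · left
      have h1 := card_of_uniserial N G hGN n hn hU (n - 1) (by omega)
      intro h
      rw [h, Subgroup.card_bot] at h1
      have e : n - (n - 1) = 1 := by omega
      rw [e, pow_one] at h1
      exact hp.one_lt.ne h1
  have dir2 : (Cfsg.iterCommutator N G (n - 1) ≠ ⊥ ∨ n = 0) →
      (∀ H : Subgroup L, H ≤ N → G ≤ Subgroup.normalizer (H : Set L) → H ≠ ⊥ →
      (⁅H, G⁆).relIndex H = p) := by
    rintro (hC | h0) H hHN hGH hne
    · have h1 := hn1 hC
      have hcard := card_of_chain N G hN hG hGN n hn h1 hC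
      obtain ⟨i, hi, rfl⟩ := invariant_eq_iter N G hN hG hGN n hn h1 hC H hHN hGH
      have hi' : i < n := by
        rcases Nat.lt_or_ge i n with h | h
        · exact h
        · exfalso
          have : i = n := by omega
          subst this
          have := hcard i le_rfl
          rw [Nat.sub_self, pow_zero] at this
          exact hne (Subgroup.card_eq_one.mp this)
      have c1 := hcard i hi
      have c2 := hcard (i + 1) (by omega)
      have h3 := card_mul_relIndex (iter_succ_le N G hGN i)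
      rw [c1, c2] at h3
      have h4 : p ^ (n - i) = p ^ (n - (i + 1)) * p := by
        rw [← pow_succ]; congr 1; omega
      rw [h4] at h3
      exact Nat.eq_of_mul_eq_mul_left (pow_pos hp.pos _) h3
    · exfalso
      apply hne
      have := hn0 h0
      rw [this] at hHN
      exact le_bot_iff.mp hHN
  refine ⟨⟨dir1, dir2⟩, ?_⟩
  intro hU H hHN hGH
  rcases dir1 hU with hC | h0
  · have h1 := hn1 hC
    obtain ⟨i, hi, hH⟩ := invariant_eq_iter N G hN hG hGN n hn h1 hC H hHN hGH
    refine ⟨⟨i, hi, hH⟩, ?_⟩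
    rw [hH]
    exact le_sup_left.trans (sup_le_normalizer_iter N G hN hG hGN n hn h1 hC i)
  · have hNb := hn0 h0
    have hHb : H = ⊥ := by
      rw [hNb] at hHN
      exact le_bot_iff.mp hHN
    refine ⟨⟨0, by omega, ?_⟩, ?_⟩
    · rw [hHb]; exact hNb.symm
    · rw [hNb]; exact bot_le

end Cfsg.Agent.S0663
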