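import Mathlib
import Cfsg.Statements.S0666
import Cfsg.Agent.S0035

set_option autoImplicit false
open Cfsg
open scoped Pointwise IsMulCommutative

namespace Cfsg.Agent.S0666

section
variable {G : Type*} [Group G]

/-- conjugation action of `F ≤ N_G(V)` on `V`. -/
def act (V F : Subgroup G) (hFV : F ≤ Subgroup.normalizer (V : Set G)) : F →* MulAut V where
  toFun x :=
    { toFun := fun v => ⟨x * v * (x : G)⁻¹, ((Subgroup.mem_set_normalizer_iff.mp (hFV x.2)) v).mp v.2⟩
      invFun := fun v => ⟨(x : G)⁻¹ * v * x, by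
        have := ((Subgroup.mem_set_normalizer_iff.mp (hFV (F.inv_mem x.2))) v).mp v.2
        simpa using this⟩
      left_inv := fun v => by ext; simp [mul_assoc]
      right_inv := fun v => by ext; simp [mul_assoc]
      map_mul' := fun v w => by ext; simp [mul_assoc] }
  map_one' := by ext v; simp
  map_mul' := fun x y => by ext v; simp [mul_assoc]

theorem act_coe (V F : Subgroup G) (hFV : F ≤ Subgroup.normalizer (V : Set G)) (x : F) (v : V) :
    ((act V F hFV x v : V) : G) = x * v * (x : G)⁻¹ := rfl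

theorem comm_of_fixed (V F : Subgroup G) (hFV : F ≤ Subgroup.normalizer (V : Set G)) (x : F) (w : V)
    (h : act V F hFV x w = w) : (x : G) * w = w * x := by
  have := congrArg Subtype.val h
  rw [act_coe] at this
  calc (x : G) * w = (x * w * (x : G)⁻¹) * x := by group
    _ = w * x := by rw [this]

theorem prod_fixed (V F : Subgroup G) [IsMulCommutative V] (hFV : F ≤ Subgroup.normalizer (V : Set G))
    (D : Subgroup F) [Fintype D] (v : V) (d : D) :
    act V F hFV d (∏ x : D, act V F hFV x v) = ∏ x : D, act V F hFV x v := by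
  rw [map_prod]
  apply Fintype.prod_equiv (Equiv.mulLeft d)
  intro x
  simp [map_mul]

theorem prod_ne_one {H : Type*} [Group H] [Fintype H] {M : Type*} [CommGroup M] (f : H → M)
    [Fintype {h : H // h ≠ 1}] : ∏ h : {h : H // h ≠ 1}, f h = (∏ h : H, f h) * (f 1)⁻¹ := by
  classical
  rw [eq_mul_inv_iff_mul_eq]
  rw [← Finset.prod_subtype (Finset.univ.erase (1 : H)) (fun x => by simp) f]
  exact Finset.prod_erase_mul _ _ (Finset.mem_univ _)

end

/-- Let a Frobenius group F with complement H and kernel K act on a nontrivial abelian group V with gcd(card V, card K) = 1 and C_V(K) = 1. Then C_V(H) ≠ 1. -/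
theorem result {G : Type*} [Group G] [Finite G] (V F : Subgroup G) (hVab : IsMulCommutative V) (hV1 : V ≠ ⊥) (hFV : F ≤ Subgroup.normalizer (V : Set G)) (H : Subgroup ↥F) (hH : Cfsg.IsFrobeniusComplement H) (hcop : (Nat.card V).Coprime (Nat.card (Cfsg.frobeniusKernel H))) (hCK : V ⊓ Subgroup.centralizer (Subtype.val '' Cfsg.frobeniusKernel H : Set G) = ⊥) : V ⊓ Subgroup.centralizer ((H.map F.subtype : Subgroup G) : Set G) ≠ ⊥ := by
  classical
  intro hCH
  obtain ⟨N, hNK, hNn, hNc⟩ := Cfsg.Agent.S0035.result H hH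
  letI : Fintype F := Fintype.ofFinite F
  have hdisj : ∀ x : F, x ∈ N → x ∈ H → x = 1 := by
    intro x hxN hxH
    have := hNc.disjoint
    rw [Subgroup.disjoint_def] at this
    exact this hxN hxH
  set a := act V F hFV with ha
  -- (A) fixed by N implies trivial
  have hfixN : ∀ w : V, (∀ k : N, a k w = w) → w = 1 := by
    intro w hw
    have hmem : (w : G) ∈ V ⊓ Subgroup.centralizer (Subtype.val '' Cfsg.frobeniusKernel H : Set G) := by
      refine Subgroup.mem_inf.mpr ⟨w.2, ?_⟩
      rw [Subgroup.mem_centralizer_iff]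
      rintro _ ⟨k, hk, rfl⟩
      have hkN : k ∈ N := by rw [← SetLike.mem_coe, hNK]; exact hk
      exact comm_of_fixed V F hFV k w (hw ⟨k, hkN⟩)
    rw [hCK, Subgroup.mem_bot] at hmem
    exact Subtype.ext hmem
  -- (B0) fixed by H implies trivial
  have hfixH : ∀ w : V, (∀ h : H, a h w = w) → w = 1 := by
    intro w hw
    have hmem : (w : G) ∈ V ⊓ Subgroup.centralizer ((H.map F.subtype : Subgroup G) : Set G) := by
      refine Subgroup.mem_inf.mpr ⟨w.2, ?_⟩
      rw [Subgroup.mem_centralizer_iff]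
      rintro _ ⟨h, hh, rfl⟩
      exact comm_of_fixed V F hFV h w (hw ⟨h, hh⟩)
    rw [hCH, Subgroup.mem_bot] at hmem
    exact Subtype.ext hmem
  -- (B) fixed by a conjugate of H implies trivial
  have hfixHk : ∀ (k : F) (w : V), (∀ h : H, a (k * h * k⁻¹) w = w) → w = 1 := by
    intro k w hw
    have h1 : a k⁻¹ w = 1 := by
      apply hfixH
      intro h
      have h2 := hw h
      have h3 : a (h : F) (a k⁻¹ w) = a k⁻¹ (a (k * h * k⁻¹) w) := by
        rw [← MulAut.mul_apply, ← MulAut.mul_apply, ← map_mul, ← map_mul]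
        congr 2
        group
      rw [h3, h2]
    have h4 : a k (a k⁻¹ w) = w := by
      rw [← MulAut.mul_apply, ← map_mul]
      simp
    rw [h1] at h4
    rw [← h4]
    simp
  -- products
  have hPN : ∀ v : V, ∏ k : N, a k v = 1 := by
    intro v
    apply hfixN
    intro k
    exact prod_fixed V F hFV N v k
  have hPF : ∀ v : V, ∏ x : F, a x v = 1 := by
    intro v
    apply hfixN
    intro k
    rw [map_prod]
    apply Fintype.prod_equiv (Equiv.mulLeft (k : F))
    intro x
    simp [map_mul]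
  have hPH : ∀ (k : F) (v : V), ∏ h : H, a (k * h * k⁻¹) v = 1 := by
    intro k v
    apply hfixHk k
    intro h'
    rw [map_prod]
    apply Fintype.prod_equiv (Equiv.mulLeft h')
    intro h
    rw [← MulAut.mul_apply, ← map_mul]
    congr 2
    simp only [Equiv.coe_mulLeft, Subgroup.coe_mul]
    group
  -- the bijection
  have hnotN : ∀ (k : N) (h : {h : H // h ≠ 1}), (k : F) * (h.1 : F) * (k : F)⁻¹ ∉ N := by
    intro k h hmem
    have h1 : ((h.1 : H) : F) ∈ N := by
      have := hNn.conj_mem _ hmem (k : F)⁻¹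
      simpa [mul_assoc] using this
    have := hdisj _ h1 h.1.2
    exact h.2 (Subtype.ext this)
  let φ : N × {h : H // h ≠ 1} → {x : F // x ∉ N} := fun q => ⟨(q.1 : F) * (q.2.1 : F) * (q.1 : F)⁻¹, hnotN q.1 q.2⟩
  have hφinj : Function.Injective φ := by
    rintro ⟨k, h⟩ ⟨k', h'⟩ heq
    have heq' : (k : F) * (h.1 : F) * (k : F)⁻¹ = (k' : F) * (h'.1 : F) * (k' : F)⁻¹ := congrArg Subtype.val heq
    set g : F := (k : F)⁻¹ * k' with hg
    have hgh : ((h.1 : H) : F) = g * (h'.1 : F) * g⁻¹ := by
      rw [hg]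
      calc ((h.1 : H) : F) = (k : F)⁻¹ * ((k : F) * (h.1 : F) * (k : F)⁻¹) * k := by group
        _ = (k : F)⁻¹ * ((k' : F) * (h'.1 : F) * (k' : F)⁻¹) * k := by rw [heq']
        _ = _ := by group
    have hgH : g ∈ H := by
      by_contra hgH
      have h1 : ((h.1 : H) : F) ∈ H ⊓ (MulAut.conj g • H) := by
        refine Subgroup.mem_inf.mpr ⟨h.1.2, ?_⟩
        rw [Cfsg.Agent.S0034.mem_conj_smul_iff']
        rw [hgh]
        have : g⁻¹ * (g * (h'.1 : F) * g⁻¹) * g = (h'.1 : F) := by group
        rw [this]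
        exact h'.1.2
      rw [hH.2.2 g hgH, Subgroup.mem_bot] at h1
      exact h.2 (Subtype.ext h1)
    have hgN : g ∈ N := N.mul_mem (N.inv_mem k.2) k'.2
    have hg1 : g = 1 := hdisj g hgN hgH
    have hkk : (k : F) = k' := by
      have : (k : F)⁻¹ * k' = 1 := hg1
      exact (inv_mul_eq_one.mp this)
    have hhh : ((h.1 : H) : F) = (h'.1 : F) := by
      rw [hgh, hg1]; simp
    have e1 : k = k' := Subtype.ext hkk
    have e2 : h = h' := Subtype.ext (Subtype.ext hhh)
    rw [e1, e2]
  have hcard : Fintype.card (N × {h : H // h ≠ 1}) = Fintype.card {x : F // x ∉ N} := by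
    have h1 : Fintype.card {x : F // x ∉ N} = Fintype.card F - Fintype.card N := by
      rw [Fintype.card_subtype_compl]
    have h2 : Fintype.card {h : H // h ≠ 1} = Fintype.card H - 1 := by
      rw [Fintype.card_subtype_compl]
      simp
    have h3 : Fintype.card N * Fintype.card H = Fintype.card F := by
      have := hNc.card_mul_card
      simpa [Nat.card_eq_fintype_card] using this
    rw [Fintype.card_prod, h1, h2, ← h3, Nat.mul_sub, mul_one]
  have hφbij : Function.Bijective φ := (Fintype.bijective_iff_injective_and_card φ).mpr ⟨hφinj, hcard⟩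
  -- final computation
  have hkey : ∀ v : V, v ^ Fintype.card N = 1 := by
    intro v
    have h1 := hPF v
    rw [← Fintype.prod_subtype_mul_prod_subtype (fun x : F => x ∈ N) (fun x => a x v)] at h1
    have h2 : ∏ x : {x : F // x ∈ N}, a (x : F) v = 1 := hPN v
    rw [h2, one_mul] at h1
    have h3 : ∏ x : {x : F // x ∉ N}, a (x : F) v = ∏ q : N × {h : H // h ≠ 1}, a ((φ q : {x : F // x ∉ N}) : F) v :=
      (Fintype.prod_bijective φ hφbij _ _ (fun q => rfl)).symm
    rw [h3, Fintype.prod_prod_type] at h1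
    have h4 : ∀ k : N, ∏ h : {h : H // h ≠ 1}, a ((φ (k, h) : {x : F // x ∉ N}) : F) v = v⁻¹ := by
      intro k
      have h5 := prod_ne_one (fun h : H => a ((k : F) * (h : F) * (k : F)⁻¹) v)
      rw [hPH (k : F) v] at h5
      simp only [OneMemClass.coe_one, mul_one, mul_inv_cancel, map_one, MulAut.one_apply, one_mul] at h5
      exact h5
    rw [Fintype.prod_congr _ _ h4, Finset.prod_const, Finset.card_univ] at h1
    rw [inv_pow, inv_eq_one] at h1
    exact h1
  apply hV1
  rw [Subgroup.eq_bot_iff_forall]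
  intro x hx
  have h1 : (⟨x, hx⟩ : V) ^ Fintype.card N = 1 := hkey ⟨x, hx⟩
  have h2 : (⟨x, hx⟩ : V) ^ Nat.card V = 1 := pow_card_eq_one'
  have h3 : orderOf (⟨x, hx⟩ : V) ∣ Fintype.card N := orderOf_dvd_of_pow_eq_one h1
  have h4 : orderOf (⟨x, hx⟩ : V) ∣ Nat.card V := orderOf_dvd_of_pow_eq_one h2
  have h5 : Fintype.card N = Nat.card (Cfsg.frobeniusKernel H) := by
    rw [← Nat.card_eq_fintype_card, ← hNK]
    rfl
  rw [h5] at h3
  have h6 : orderOf (⟨x, hx⟩ : V) ∣ 1 := by
    have := Nat.dvd_gcd h4 h3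
    rwa [hcop] at this
  have h7 : (⟨x, hx⟩ : V) = 1 := by
    rw [← orderOf_eq_one_iff]
    exact Nat.dvd_one.mp h6
  exact congrArg Subtype.val h7

end Cfsg.Agent.S0666
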