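import Cfsg.Statements.S0668
import Mathlib.LinearAlgebra.Dimension.Constructions
import Mathlib.LinearAlgebra.Dimension.Free
import Mathlib.Tactic

set_option autoImplicit false
open Cfsg

namespace Cfsg.Agent.S0668

variable {G : Type*} [Group G] {K : Type*} [Field K] {Ω₁ Ω₂ : Type*} [Fintype Ω₁] [Fintype Ω₂]
  [MulAction G Ω₁] [MulAction G Ω₂]

theorem permRep_apply {Ω : Type*} [MulAction G Ω] (g : G) (v : Ω → K) (x : Ω) :
    Cfsg.permRep K G Ω g v x = v (g⁻¹ • x) := rfl

theorem permRep_single [DecidableEq Ω₁] (g : G) (x : Ω₁) :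
    Cfsg.permRep K G Ω₁ g (Pi.single x (1 : K)) = Pi.single (g • x) 1 := by
  funext z
  rw [permRep_apply]
  by_cases h : z = g • x
  · subst h
    simp
  · rw [Pi.single_eq_of_ne h, Pi.single_eq_of_ne]
    intro h'
    apply h
    rw [← h', smul_inv_smul]

/-- matrix entries of an invariant map are constant on orbits -/
theorem inv_entry [DecidableEq Ω₁]
    (f : (Ω₁ → K) →ₗ[K] (Ω₂ → K))
    (hf : f ∈ ((Cfsg.permRep K G Ω₁).linHom (Cfsg.permRep K G Ω₂)).invariants)
    (g : G) (x : Ω₁) (y : Ω₂) :
    f (Pi.single (g • x) 1) (g • y) = f (Pi.single x 1) y := by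
  have h := hf g
  rw [Representation.linHom_apply] at h
  have h2 := congrFun (LinearMap.congr_fun h (Pi.single (g • x) 1)) (g • y)
  rw [← h2]
  simp only [LinearMap.comp_apply]
  rw [permRep_apply, permRep_single, inv_smul_smul, inv_smul_smul]

theorem result {G : Type*} [Group G] {K : Type*} [Field K] {Ω₁ Ω₂ : Type*} [Fintype Ω₁] [Fintype Ω₂] [MulAction G Ω₁] [MulAction G Ω₂] : Module.finrank K ((Cfsg.permRep K G Ω₁).linHom (Cfsg.permRep K G Ω₂)).invariants = Nat.card (MulAction.orbitRel.Quotient G (Ω₁ × Ω₂)) := by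
  classical
  let Q := MulAction.orbitRel.Quotient G (Ω₁ × Ω₂)
  haveI : Finite Q := Quotient.finite _
  haveI : Fintype Q := Fintype.ofFinite Q
  let toF : ((Cfsg.permRep K G Ω₁).linHom (Cfsg.permRep K G Ω₂)).invariants → (Q → K) :=
    fun f q => Quotient.liftOn' q (fun xy => f.1 (Pi.single xy.1 1) xy.2) (by
      rintro ⟨x', y'⟩ ⟨x, y⟩ h
      change (x', y') ∈ MulAction.orbit G (x, y) at h
      obtain ⟨g, hg⟩ := h
      have hg' : (g • x, g • y) = (x', y') := hg
      rw [Prod.mk.injEq] at hg'
      change f.1 (Pi.single x' 1) y' = f.1 (Pi.single x 1) y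
      rw [← hg'.1, ← hg'.2]
      exact inv_entry f.1 f.2 g x y)
  have htoF : ∀ f x y, toF f (Quotient.mk'' (x, y)) = f.1 (Pi.single x 1) y := fun f x y => rfl
  let invF : (Q → K) → ((Ω₁ → K) →ₗ[K] (Ω₂ → K)) := fun φ =>
    { toFun := fun v y => ∑ x, v x * φ (Quotient.mk'' (x, y))
      map_add' := fun v w => by
        funext y
        simp only [Pi.add_apply, add_mul, Finset.sum_add_distrib]
      map_smul' := fun c v => by
        funext y
        simp only [Pi.smul_apply, smul_eq_mul, RingHom.id_apply, Finset.mul_sum, mul_assoc] }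
  have hinvF : ∀ φ v y, invF φ v y = ∑ x, v x * φ (Quotient.mk'' (x, y)) := fun φ v y => rfl
  have hmem : ∀ φ, invF φ ∈ ((Cfsg.permRep K G Ω₁).linHom (Cfsg.permRep K G Ω₂)).invariants := by
    intro φ g
    rw [Representation.linHom_apply]
    apply LinearMap.ext
    intro v
    funext y
    simp only [LinearMap.comp_apply]
    rw [permRep_apply, hinvF, hinvF]
    refine Fintype.sum_equiv (MulAction.toPerm g) _ _ (fun x => ?_)
    rw [permRep_apply, inv_inv]
    have hq : (Quotient.mk'' (x, g⁻¹ • y) : Q) = Quotient.mk'' (g • x, y) := by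
      apply Quotient.sound'
      change (x, g⁻¹ • y) ∈ MulAction.orbit G (g • x, y)
      refine ⟨g⁻¹, ?_⟩
      change (g⁻¹ • (g • x), g⁻¹ • y) = _
      rw [inv_smul_smul]
    rw [hq]
    rfl
  let e : ((Cfsg.permRep K G Ω₁).linHom (Cfsg.permRep K G Ω₂)).invariants ≃ₗ[K] (Q → K) :=
    { toFun := toF
      map_add' := fun f₁ f₂ => by
        funext q
        induction q using Quotient.inductionOn' with | _ xy => ?_
        obtain ⟨x, y⟩ := xy
        rw [Pi.add_apply, htoF, htoF, htoF]
        rfl
      map_smul' := fun c f => by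
        funext q
        induction q using Quotient.inductionOn' with | _ xy => ?_
        obtain ⟨x, y⟩ := xy
        rw [Pi.smul_apply, htoF, htoF]
        rfl
      invFun := fun φ => ⟨invF φ, hmem φ⟩
      left_inv := fun f => by
        apply Subtype.ext
        apply LinearMap.ext
        intro v
        funext y
        change invF (toF f) v y = f.1 v y
        rw [hinvF]
        have hv : v = ∑ x, v x • (Pi.single x (1 : K) : Ω₁ → K) := by
          funext z
          simp [Finset.sum_apply, Pi.single_apply]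
        conv_rhs => rw [hv]
        rw [map_sum, Finset.sum_apply]
        refine Finset.sum_congr rfl (fun x _ => ?_)
        rw [htoF, map_smul, Pi.smul_apply, smul_eq_mul]
      right_inv := fun φ => by
        funext q
        induction q using Quotient.inductionOn' with | _ xy => ?_
        obtain ⟨x, y⟩ := xy
        rw [htoF]
        change invF φ (Pi.single x 1) y = _
        rw [hinvF]
        simp [Pi.single_apply] }
  rw [LinearEquiv.finrank_eq e, Module.finrank_fintype_fun_eq_card, Nat.card_eq_fintype_card]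

end Cfsg.Agent.S0668
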