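import Cfsg.Statements.S0670
import Cfsg.Agent.Lib.Helper16.FixedVector
import Mathlib.GroupTheory.Sylow
import Mathlib.GroupTheory.Index

set_option autoImplicit false
open Cfsg

namespace Cfsg.Agent.S0670

open Cfsg.Agent.Lib.Helper16

/-- a Sylow `p`-subgroup is transitive on a transitive `G`-set of `p`-power size -/
theorem sylow_orbit_eq_univ {G : Type*} [Group G] [Finite G] {p f : ℕ} [Fact p.Prime]
    {Ω : Type*} [Finite Ω] [MulAction G Ω] [MulAction.IsPretransitive G Ω]
    (hcard : Nat.card Ω = p ^ f) (P : Sylow p G) (a : Ω) :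
    MulAction.orbit (P : Subgroup G) a = Set.univ := by
  classical
  set H := MulAction.stabilizer G a with hH
  have hHidx : H.index = p ^ f := by
    rw [hH, MulAction.index_stabilizer_of_transitive, hcard]
  have hstab : MulAction.stabilizer (P : Subgroup G) a = H.subgroupOf (P : Subgroup G) := by
    ext g
    rw [MulAction.mem_stabilizer_iff, Subgroup.mem_subgroupOf, hH, MulAction.mem_stabilizer_iff]
    rfl
  have horb : (MulAction.orbit (P : Subgroup G) a).ncard = H.relIndex (P : Subgroup G) := by
    rw [← MulAction.index_stabilizer, hstab]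
    rfl
  have h1 : (H ⊓ (P : Subgroup G)).relIndex (P : Subgroup G) * (P : Subgroup G).index =
      (H ⊓ (P : Subgroup G)).index := Subgroup.relIndex_mul_index inf_le_right
  have h2 : (H ⊓ (P : Subgroup G)).relIndex H * H.index = (H ⊓ (P : Subgroup G)).index :=
    Subgroup.relIndex_mul_index inf_le_left
  rw [Subgroup.inf_relIndex_right] at h1
  have hdvd : p ^ f ∣ H.relIndex (P : Subgroup G) * (P : Subgroup G).index := by
    rw [h1, ← h2, hHidx]
    exact dvd_mul_left _ _
  have hcop : Nat.Coprime (p ^ f) (P : Subgroup G).index := by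
    apply Nat.Coprime.pow_left
    rw [Nat.Prime.coprime_iff_not_dvd (Fact.out : p.Prime)]
    exact P.not_dvd_index
  have hdvd' : p ^ f ∣ H.relIndex (P : Subgroup G) := hcop.dvd_of_dvd_mul_right hdvd
  have hpos : 0 < H.relIndex (P : Subgroup G) := by
    rw [← horb]
    rw [Set.ncard_pos (Set.toFinite _)]
    exact MulAction.nonempty_orbit a
  have hle : p ^ f ≤ (MulAction.orbit (P : Subgroup G) a).ncard := by
    rw [horb]; exact Nat.le_of_dvd hpos hdvd'
  apply Set.eq_univ_of_forall
  by_contra hcon
  push Not at hcon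
  obtain ⟨x, hx⟩ := hcon
  have hlt : (MulAction.orbit (P : Subgroup G) a).ncard < (Set.univ : Set Ω).ncard := by
    apply Set.ncard_lt_ncard _ (Set.toFinite _)
    exact ⟨Set.subset_univ _, fun h => hx (h (Set.mem_univ x))⟩
  rw [Set.ncard_univ, hcard] at hlt
  omega

theorem result {G : Type*} [Group G] [Finite G] {K : Type*} [Field K] {p f : ℕ} [Fact p.Prime] [CharP K p] {Ω : Type*} [Fintype Ω] [MulAction G Ω] [MulAction.IsPretransitive G Ω] (hf : 1 ≤ f) (hcard : Fintype.card Ω = p ^ f) (W : Subrepresentation (Cfsg.permRep K G Ω)) (hW : W.toSubmodule ≠ ⊥) : (Cfsg.permConstants K G Ω).toSubmodule ≤ W.toSubmodule := by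
  classical
  obtain ⟨P⟩ : Nonempty (Sylow p G) := inferInstance
  have hcard' : Nat.card Ω = p ^ f := by rw [Nat.card_eq_fintype_card, hcard]
  let ρP : Representation K ↥(P : Subgroup G) (Ω → K) :=
    (Cfsg.permRep K G Ω).comp (P : Subgroup G).subtype
  obtain ⟨v, hvW, hv0, hvfix⟩ := exists_fixed_vector P.isPGroup' ρP W.toSubmodule
    (fun g w hw => W.apply_mem_toSubmodule (g : G) hw) hW
  -- v is constant
  have hconst : ∀ x y : Ω, v x = v y := by
    intro x y
    have hy : y ∈ MulAction.orbit (P : Subgroup G) x := by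
      rw [sylow_orbit_eq_univ hcard' P x]; exact Set.mem_univ y
    obtain ⟨g, rfl⟩ := hy
    have := congrFun (hvfix g⁻¹) x
    change v (((g⁻¹ : ↥(P : Subgroup G)) : G)⁻¹ • x) = v x at this
    rw [← this]
    simp
    rfl
  obtain ⟨a⟩ : Nonempty Ω := by
    rw [← Fintype.card_pos_iff, hcard]
    exact pow_pos (Fact.out : p.Prime).pos f
  have hva : v a ≠ 0 := by
    intro h
    apply hv0
    funext x
    rw [hconst x a, h]
    rfl
  have hone : (fun _ : Ω => (1 : K)) = (v a)⁻¹ • v := by
    funext x
    rw [Pi.smul_apply, smul_eq_mul, hconst x a, inv_mul_cancel₀ hva]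
  change Submodule.span K {fun _ => 1} ≤ W.toSubmodule
  rw [Submodule.span_le, Set.singleton_subset_iff, hone]
  exact W.toSubmodule.smul_mem _ hvW

end Cfsg.Agent.S0670
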