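-- Statement S0671: heart without trivial composition factor forces 2-transitivity.
import Mathlib
import Cfsg.Statements.S0671
import Cfsg.Agent.S0670

set_option autoImplicit false
open Cfsg

namespace Cfsg.Agent.S0671

section
variable {G : Type*} [Group G] {Ω : Type*} [MulAction G Ω]

/-- the orbital of the pair `(u, v)`. -/
def orb (G : Type*) [Group G] {Ω : Type*} [MulAction G Ω] (u v x y : Ω) : Prop :=
  ∃ g : G, g • u = x ∧ g • v = y

lemma orb_self (u v : Ω) : orb G u v u v := ⟨1, one_smul _ _, one_smul _ _⟩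

lemma orb_smul {u v x y : Ω} (h : G) : orb G u v (h • x) (h • y) ↔ orb G u v x y := by
  constructor
  · rintro ⟨g, h1, h2⟩
    refine ⟨h⁻¹ * g, ?_, ?_⟩
    · rw [mul_smul, h1, inv_smul_smul]
    · rw [mul_smul, h2, inv_smul_smul]
  · rintro ⟨g, h1, h2⟩
    exact ⟨h * g, by rw [mul_smul, h1], by rw [mul_smul, h2]⟩

lemma orb_ne {u v x y : Ω} (huv : u ≠ v) (h : orb G u v x y) : x ≠ y := by
  obtain ⟨g, rfl, rfl⟩ := h
  exact fun h => huv (MulAction.injective g h)

variable [Fintype Ω]

open Classical in
/-- out-degree of the orbital graph. -/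
noncomputable def deg (G : Type*) [Group G] {Ω : Type*} [MulAction G Ω] [Fintype Ω] (u v x : Ω) : ℕ :=
  (Finset.univ.filter (fun y => orb G u v x y)).card

lemma deg_smul (u v x : Ω) (h : G) : deg G u v (h • x) = deg G u v x := by
  classical
  unfold deg
  symm
  apply Finset.card_bij (fun y _ => h • y)
  · intro y hy
    simp only [Finset.mem_filter, Finset.mem_univ, true_and] at hy ⊢
    exact (orb_smul h).2 hy
  · intro y _ z _ hyz
    exact MulAction.injective h hyz
  · intro z hz
    simp only [Finset.mem_filter, Finset.mem_univ, true_and] at hz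
    refine ⟨h⁻¹ • z, ?_, by simp⟩
    simp only [Finset.mem_filter, Finset.mem_univ, true_and]
    rw [← orb_smul h]
    simpa using hz

lemma deg_const [MulAction.IsPretransitive G Ω] (u v x : Ω) : deg G u v x = deg G u v u := by
  obtain ⟨g, hg⟩ := MulAction.exists_smul_eq G u x
  rw [← hg, deg_smul]

end

section
variable {Ω : Type*} [Fintype Ω] {K : Type*} [Field K]

/-- the operator with kernel `k`. -/
noncomputable def opA (k : Ω → Ω → K) : Module.End K (Ω → K) where
  toFun f := fun x => ∑ y, k x y * f y
  map_add' := by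
    intro f g; ext x
    simp [mul_add, Finset.sum_add_distrib]
  map_smul' := by
    intro c f; ext x
    simp only [Pi.smul_apply, smul_eq_mul, RingHom.id_apply, Finset.mul_sum]
    apply Finset.sum_congr rfl
    intro y _; ring

lemma opA_apply (k : Ω → Ω → K) (f : Ω → K) (x : Ω) : opA k f x = ∑ y, k x y * f y := rfl

lemma opA_perm {G : Type*} [Group G] [MulAction G Ω] (k : Ω → Ω → K)
    (hk : ∀ (g : G) x y, k (g • x) (g • y) = k x y) (g : G) (f : Ω → K) :
    opA k (Cfsg.permRep K G Ω g f) = Cfsg.permRep K G Ω g (opA k f) := by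
  ext x
  show ∑ y, k x y * f (g⁻¹ • y) = ∑ y, k (g⁻¹ • x) y * f y
  rw [← Equiv.sum_comp (MulAction.toPerm g) (fun z => k x z * f (g⁻¹ • z))]
  apply Finset.sum_congr rfl
  intro y _
  simp only [MulAction.toPerm_apply, inv_smul_smul]
  rw [← hk g (g⁻¹ • x) y, smul_inv_smul]

end

/-- If the heart of the permutation module in characteristic `p` of a transitive action of degree `p ^ f` has no trivial composition factor, the action is doubly transitive. The hypothesis is phrased without composition series: no invariant subspaces `W < W'` between the constants and the sum-zero functions with trivial action on the quotient. -/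
theorem result {G : Type*} [Group G] [Finite G] {K : Type*} [Field K] {p f : ℕ} [Fact p.Prime] [CharP K p] {Ω : Type*} [Fintype Ω] [MulAction G Ω] [MulAction.IsPretransitive G Ω] (hf : 1 ≤ f) (hcard : Fintype.card Ω = p ^ f) (h : ∀ W W' : Subrepresentation (Cfsg.permRep K G Ω), (Cfsg.permConstants K G Ω).toSubmodule ≤ W.toSubmodule → W.toSubmodule < W'.toSubmodule → W'.toSubmodule ≤ (Cfsg.permSumZero K G Ω).toSubmodule → ∃ g : G, ∃ v ∈ W'.toSubmodule, Cfsg.permRep K G Ω g v - v ∉ W.toSubmodule) : MulAction.IsMultiplyPretransitive G Ω 2 := by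
  classical
  rw [MulAction.is_two_pretransitive_iff]
  by_contra hnot
  push Not at hnot
  obtain ⟨a, b, c, d, hab, hcd, hno⟩ := hnot
  have hcardK : (Fintype.card Ω : K) = 0 := by
    rw [hcard]
    push_cast
    rw [CharP.cast_eq_zero K p, zero_pow (by omega)]
  -- (c, d) is not in the orbital of (a, b)
  have hdisj : ¬ orb G a b c d := by
    rintro ⟨g, h1, h2⟩
    exact hno g h1 h2
  set D := deg G a b a with hD
  let k : Ω → Ω → K := fun x y => (if orb G a b x y then 1 else 0) - (D : K) * (if x = y then 1 else 0)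
  have hk_inv : ∀ (g : G) x y, k (g • x) (g • y) = k x y := by
    intro g x y
    simp only [k, orb_smul g, (MulAction.injective g).eq_iff]
  have hk_row : ∀ x, ∑ y, k x y = 0 := by
    intro x
    have e1 : (Finset.univ.filter (fun y => orb G a b x y)).card = D := deg_const a b x
    have e2 : ∑ y, (if orb G a b x y then (1 : K) else 0) = (D : K) := by
      rw [Finset.sum_boole, e1]
    have e3 : ∑ y, (if x = y then (1 : K) else 0) = 1 := by
      rw [Finset.sum_ite_eq]; simp
    simp only [k, Finset.sum_sub_distrib, ← Finset.mul_sum]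
    rw [e2, e3]; ring
  let A : Module.End K (Ω → K) := opA k
  have hA_perm : ∀ (g : G) (f : Ω → K), A (Cfsg.permRep K G Ω g f) = Cfsg.permRep K G Ω g (A f) :=
    fun g f => opA_perm k hk_inv g f
  have hA1 : A (fun _ => (1 : K)) = 0 := by
    ext x
    simp only [A, opA_apply, mul_one, Pi.zero_apply]
    exact hk_row x
  -- the image of the sum-zero functions
  let S : Subrepresentation (Cfsg.permRep K G Ω) := Cfsg.permSumZero K G Ω
  let C : Subrepresentation (Cfsg.permRep K G Ω) := Cfsg.permConstants K G Ω
  let AS : Subrepresentation (Cfsg.permRep K G Ω) :=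
    { toSubmodule := S.toSubmodule.map A
      apply_mem_toSubmodule := by
        rintro g _ ⟨u, hu, rfl⟩
        exact ⟨Cfsg.permRep K G Ω g u, S.apply_mem_toSubmodule g hu, hA_perm g u⟩ }
  have hmemS : ∀ u : Ω → K, u ∈ S.toSubmodule ↔ ∑ x, u x = 0 := fun u => Iff.rfl
  have h1S : (fun _ => (1 : K)) ∈ S.toSubmodule := by
    rw [hmemS]
    simp [hcardK]
  have hCS : C.toSubmodule ≤ S.toSubmodule := by
    show Submodule.span K {fun _ => (1 : K)} ≤ S.toSubmodule
    rw [Submodule.span_le]
    intro u hu
    rw [Set.mem_singleton_iff] at hu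
    subst hu
    exact h1S
  -- A does not vanish on the sum-zero functions
  have hASne : AS.toSubmodule ≠ ⊥ := by
    intro hbot
    obtain ⟨g, hg⟩ := MulAction.exists_smul_eq G c a
    have hnd : ¬ orb G a b a (g • d) := by
      intro hh
      have hh' : orb G a b (g • c) (g • d) := by rw [hg]; exact hh
      exact hdisj ((orb_smul g).1 hh')
    have hne : g • d ≠ a := by
      rw [← hg]; exact fun h => hcd (MulAction.injective g h).symm
    have hne2 : a ≠ b := hab
    have hmem : (Pi.single b (1 : K) - Pi.single (g • d) 1 : Ω → K) ∈ S.toSubmodule := by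
      rw [hmemS]
      simp [Finset.sum_sub_distrib]
    have h0 : A (Pi.single b (1 : K) - Pi.single (g • d) 1) = 0 := by
      have : A (Pi.single b (1 : K) - Pi.single (g • d) 1) ∈ AS.toSubmodule := ⟨_, hmem, rfl⟩
      rw [hbot] at this
      exact (Submodule.mem_bot K).1 this
    have h1 := congrFun h0 a
    simp only [A, opA_apply, Pi.sub_apply, mul_sub, Finset.sum_sub_distrib, Pi.zero_apply] at h1
    rw [Finset.sum_eq_single b, Finset.sum_eq_single (g • d)] at h1
    · simp only [Pi.single_eq_same, mul_one, k] at h1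
      rw [if_pos (orb_self a b), if_neg hne2, if_neg hnd, if_neg hne.symm] at h1
      simp at h1
    · intro y _ hy; simp [hy]
    · intro hh; exact absurd (Finset.mem_univ _) hh
    · intro y _ hy; simp [hy]
    · intro hh; exact absurd (Finset.mem_univ _) hh
  have hC_AS : C.toSubmodule ≤ AS.toSubmodule :=
    Cfsg.Agent.S0670.result hf hcard AS hASne
  obtain ⟨v₀, hv₀S, hv₀⟩ : ∃ v₀ ∈ S.toSubmodule, A v₀ = fun _ => (1 : K) := by
    have : (fun _ => (1 : K)) ∈ AS.toSubmodule := hC_AS (Submodule.subset_span rfl)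
    obtain ⟨v₀, h1, h2⟩ := this
    exact ⟨v₀, h1, h2⟩
  -- the two subrepresentations
  let W : Subrepresentation (Cfsg.permRep K G Ω) :=
    { toSubmodule := LinearMap.ker A ⊓ S.toSubmodule
      apply_mem_toSubmodule := by
        rintro g u ⟨hu1, hu2⟩
        refine ⟨?_, S.apply_mem_toSubmodule g hu2⟩
        have hu1' : A u = 0 := hu1
        show A (Cfsg.permRep K G Ω g u) = 0
        rw [hA_perm, hu1', map_zero] }
  let W' : Subrepresentation (Cfsg.permRep K G Ω) :=
    { toSubmodule := C.toSubmodule.comap A ⊓ S.toSubmodule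
      apply_mem_toSubmodule := by
        rintro g u ⟨hu1, hu2⟩
        refine ⟨?_, S.apply_mem_toSubmodule g hu2⟩
        show A (Cfsg.permRep K G Ω g u) ∈ C.toSubmodule
        rw [hA_perm]
        exact C.apply_mem_toSubmodule g hu1 }
  have hCW : C.toSubmodule ≤ W.toSubmodule := by
    intro u hu
    refine ⟨?_, hCS hu⟩
    have hu' : u ∈ Submodule.span K {fun _ => (1 : K)} := hu
    rw [Submodule.mem_span_singleton] at hu'
    obtain ⟨t, rfl⟩ := hu'
    show A (t • fun _ => (1 : K)) = 0
    rw [map_smul, hA1, smul_zero]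
  have hWW' : W.toSubmodule < W'.toSubmodule := by
    refine lt_of_le_of_ne ?_ ?_
    · rintro u ⟨hu1, hu2⟩
      refine ⟨?_, hu2⟩
      show A u ∈ C.toSubmodule
      have hu1' : A u = 0 := hu1
      rw [hu1']
      exact C.toSubmodule.zero_mem
    · intro heq
      have h1 : v₀ ∈ W'.toSubmodule := by
        refine ⟨?_, hv₀S⟩
        show A v₀ ∈ C.toSubmodule
        rw [hv₀]
        exact Submodule.subset_span rfl
      rw [← heq] at h1
      have h2 : A v₀ = 0 := h1.1
      rw [hv₀] at h2
      have h3 := congrFun h2 a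
      simp at h3
  have hW'S : W'.toSubmodule ≤ S.toSubmodule := inf_le_right
  obtain ⟨g, v, hv, hgv⟩ := h W W' hCW hWW' hW'S
  apply hgv
  refine ⟨?_, S.toSubmodule.sub_mem (S.apply_mem_toSubmodule g hv.2) hv.2⟩
  show A (Cfsg.permRep K G Ω g v - v) = 0
  rw [map_sub, hA_perm]
  have hAv : A v ∈ Submodule.span K {fun _ => (1 : K)} := hv.1
  rw [Submodule.mem_span_singleton] at hAv
  obtain ⟨t, ht⟩ := hAv
  rw [← ht]
  ext x
  simp [Cfsg.permRep]

end Cfsg.Agent.S0671
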