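import Mathlib
import Cfsg.Statements.S0672
-- import your own Cfsg.Agent.* helpers here

set_option autoImplicit false
open Cfsg
open scoped Pointwise

namespace Cfsg.Agent.S0672

theorem exists_coeffs {K : Type*} [Field K] (m : K) :
    ∃ α β : K, α * m + β * 2 = 0 ∧ ¬(α = 0 ∧ β = 0) := by
  by_cases h : (2 : K) = 0 ∧ m = 0
  · exact ⟨1, 0, by simp [h.2], by simp⟩
  · refine ⟨2, -m, by ring, ?_⟩
    rintro ⟨h1, h2⟩
    exact h ⟨h1, by simpa using h2⟩

theorem three_of_triples {G : Type*} [Group G] {Ω : Type*} [MulAction G Ω]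
    (H : ∀ a b c a' b' c' : Ω, a ≠ b → a ≠ c → b ≠ c → a' ≠ b' → a' ≠ c' → b' ≠ c' →
      ∃ g : G, g • a = a' ∧ g • b = b' ∧ g • c = c') :
    MulAction.IsMultiplyPretransitive G Ω 3 := by
  rw [MulAction.isMultiplyPretransitive_iff]
  intro x y
  obtain ⟨g, h0, h1, h2⟩ := H (x 0) (x 1) (x 2) (y 0) (y 1) (y 2)
    (by simp [x.injective.ne_iff]) (by simp [x.injective.ne_iff]) (by simp [x.injective.ne_iff])
    (by simp [y.injective.ne_iff]) (by simp [y.injective.ne_iff]) (by simp [y.injective.ne_iff])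
  refine ⟨g, ?_⟩
  ext i
  fin_cases i
  · simpa using h0
  · simpa using h1
  · simpa using h2

theorem pair_stab_trans {G : Type*} [Group G] [Finite G] {K : Type*} [Field K] {p : ℕ}
    [Fact p.Prime] [CharP K p] {Ω : Type*} [Fintype Ω] [DecidableEq Ω] [MulAction G Ω]
    (h2 : MulAction.IsMultiplyPretransitive G Ω 2) (_hp : p ∣ Fintype.card Ω)
    (h : ∀ f : Representation.IntertwiningMap (Cfsg.permSumZero K G Ω).toRepresentation
        (Cfsg.permRep K G (Set.powersetCard Ω 2)),
      (∀ v : (Cfsg.permSumZero K G Ω).toSubmodule,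
        (v : Ω → K) ∈ (Cfsg.permConstants K G Ω).toSubmodule → f v = 0) → f = 0)
    (P₀ : Set.powersetCard Ω 2) (x₀ y₀ : Ω) (hx : x₀ ∉ (P₀ : Finset Ω))
    (hy : y₀ ∉ (P₀ : Finset Ω)) :
    ∃ g : G, g • x₀ = y₀ ∧ g • P₀ = P₀ := by
  classical
  by_contra hno
  set R : Ω → Set.powersetCard Ω 2 → Prop := fun x P => ∃ g : G, g • x₀ = x ∧ g • P₀ = P with hR
  have hRinv : ∀ (g : G) x P, R (g • x) (g • P) ↔ R x P := by
    intro g x P
    constructor
    · rintro ⟨k, hk1, hk2⟩
      exact ⟨g⁻¹ * k, by rw [mul_smul, hk1, inv_smul_smul], by rw [mul_smul, hk2, inv_smul_smul]⟩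
    · rintro ⟨k, hk1, hk2⟩
      exact ⟨g * k, by rw [mul_smul, hk1], by rw [mul_smul, hk2]⟩
  obtain ⟨α, β, hαβ, hne⟩ :=
    exists_coeffs (((Finset.univ.filter (fun x => R x P₀)).card : K))
  set c : Ω → Set.powersetCard Ω 2 → K := fun x P =>
    (if R x P then α else 0) + (if x ∈ (P : Finset Ω) then β else 0) with hc
  have hcinv : ∀ (g : G) x P, c (g • x) (g • P) = c x P := by
    intro g x P
    simp only [hc]
    congr 1
    · simp only [hRinv]
    · simp only [Set.powersetCard.coe_smul, Finset.smul_mem_smul_finset_iff]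
  have hsum0 : ∑ x, c x P₀ = 0 := by
    simp only [hc, Finset.sum_add_distrib]
    rw [← Finset.sum_filter, ← Finset.sum_filter]
    simp only [Finset.sum_const, nsmul_eq_mul]
    have h2c : (Finset.univ.filter (fun x => x ∈ (P₀ : Finset Ω))).card = 2 := by
      rw [Finset.filter_mem_eq_inter, Finset.univ_inter]
      exact P₀.prop
    rw [h2c]
    push_cast
    linear_combination hαβ
  have hsum : ∀ P, ∑ x, c x P = 0 := by
    intro P
    have : MulAction.IsPretransitive G (Set.powersetCard Ω 2) :=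
      Set.powersetCard.isPretransitive_of_isMultiplyPretransitive G h2
    obtain ⟨k, rfl⟩ := MulAction.exists_smul_eq G P₀ P
    rw [← hsum0]
    exact Fintype.sum_equiv (MulAction.toPerm k⁻¹) _ _ (fun x => by
      show c x (k • P₀) = c (k⁻¹ • x) P₀
      rw [← hcinv k (k⁻¹ • x) P₀, smul_inv_smul])
  let Φ : (Ω → K) →ₗ[K] (Set.powersetCard Ω 2 → K) :=
    { toFun := fun f P => ∑ x, c x P * f x
      map_add' := by intro f₁ f₂; funext P; simp [mul_add, Finset.sum_add_distrib]
      map_smul' := by intro a f; funext P; simp [Finset.mul_sum, mul_left_comm] }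
  let F := LinearMap.intertwiningMap_of_isIntertwiningMap
    (Cfsg.permSumZero K G Ω).toRepresentation (Cfsg.permRep K G (Set.powersetCard Ω 2))
    (Φ ∘ₗ (Cfsg.permSumZero K G Ω).toSubmodule.subtype) (by
      intro g v
      funext P
      show ∑ x, c x P * (v : Ω → K) (g⁻¹ • x) = ∑ x, c x (g⁻¹ • P) * (v : Ω → K) x
      exact Fintype.sum_equiv (MulAction.toPerm g⁻¹) _ _ (fun x => by
        show c x P * _ = c (g⁻¹ • x) (g⁻¹ • P) * _
        rw [hcinv]
        rfl))
  have hF0 : F = 0 := h F (by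
    intro v hv
    have hv' : (v : Ω → K) ∈ Submodule.span K {fun _ => (1 : K)} := hv
    rw [Submodule.mem_span_singleton] at hv'
    obtain ⟨a, ha⟩ := hv'
    funext P
    show ∑ x, c x P * (v : Ω → K) x = 0
    rw [← ha]
    simp [← Finset.sum_mul, hsum])
  have hFv : ∀ (u w : Ω), c u P₀ - c w P₀ = 0 := by
    intro u w
    have hmem : (Pi.single u 1 - Pi.single w 1 : Ω → K) ∈ (Cfsg.permSumZero K G Ω).toSubmodule := by
      show ∑ z, (Pi.single u 1 - Pi.single w 1 : Ω → K) z = 0
      simp [Finset.sum_sub_distrib]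
    have := congrArg (fun f => f ⟨_, hmem⟩ P₀) hF0
    simp only [Representation.IntertwiningMap.coe_zero, Pi.zero_apply] at this
    rw [← this]
    show _ = ∑ x, c x P₀ * (Pi.single u 1 - Pi.single w 1 : Ω → K) x
    simp [mul_sub, Finset.sum_sub_distrib, Pi.single_apply]
  have hRx : R x₀ P₀ := ⟨1, one_smul _ _, one_smul _ _⟩
  have hRy : ¬ R y₀ P₀ := hno
  have hcx : c x₀ P₀ = α := by simp only [hc, if_pos hRx, if_neg hx, add_zero]
  have hcy : c y₀ P₀ = 0 := by simp only [hc, if_neg hRy, if_neg hy, add_zero]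
  have hα : α = 0 := by
    have := hFv x₀ y₀
    rw [hcx, hcy, sub_zero] at this
    exact this
  obtain ⟨a, ha⟩ : (P₀ : Finset Ω).Nonempty := by
    rw [← Finset.card_pos, P₀.prop]; norm_num
  have hca : c a P₀ = β := by simp only [hc, hα, if_pos ha, ite_self, zero_add]
  have hβ : β = 0 := by
    have := hFv a y₀
    rw [hca, hcy, sub_zero] at this
    exact this
  exact hne ⟨hα, hβ⟩

/-- Let a finite group act faithfully and doubly transitively with point stabilisers of even order, and let `K` have characteristic `p` dividing the degree. If the heart of the permutation module admits no non-zero equivariant map to the permutation module on unordered pairs (phrased: every intertwining map from the sum-zero functions vanishing on the constants is zero), the action is triply transitive. -/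
theorem result {G : Type*} [Group G] [Finite G] {K : Type*} [Field K] {p : ℕ} [Fact p.Prime] [CharP K p] {Ω : Type*} [Fintype Ω] [DecidableEq Ω] [MulAction G Ω] [FaithfulSMul G Ω] (h2 : MulAction.IsMultiplyPretransitive G Ω 2) (hp : p ∣ Fintype.card Ω) (heven : ∀ a : Ω, Even (Nat.card (MulAction.stabilizer G a))) (h : ∀ f : Representation.IntertwiningMap (Cfsg.permSumZero K G Ω).toRepresentation (Cfsg.permRep K G (Set.powersetCard Ω 2)), (∀ v : (Cfsg.permSumZero K G Ω).toSubmodule, (v : Ω → K) ∈ (Cfsg.permConstants K G Ω).toSubmodule → f v = 0) → f = 0) : MulAction.IsMultiplyPretransitive G Ω 3 := by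
  classical
  have h2' : ∀ {a b c d : Ω}, a ≠ b → c ≠ d → ∃ g : G, g • a = c ∧ g • b = d :=
    fun hab hcd => MulAction.is_two_pretransitive_iff.mp h2 hab hcd
  -- setwise pair stabilizers are transitive on the remaining points
  have key : ∀ a b x y : Ω, a ≠ b → x ≠ a → x ≠ b → y ≠ a → y ≠ b →
      ∃ g : G, g • x = y ∧ ((g • a = a ∧ g • b = b) ∨ (g • a = b ∧ g • b = a)) := by
    intro a b x y hab hxa hxb hya hyb
    have hcard : ({a, b} : Finset Ω).card = 2 := Finset.card_pair hab
    obtain ⟨g, hg1, hg2⟩ := pair_stab_trans h2 hp h (Set.powersetCard.ofCard hcard) x y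
      (by simp [Set.powersetCard.val_ofCard, hxa, hxb]) (by simp [Set.powersetCard.val_ofCard, hya, hyb])
    refine ⟨g, hg1, ?_⟩
    have hg3 : g • ({a, b} : Finset Ω) = {a, b} := by
      have := congrArg (fun P : Set.powersetCard Ω 2 => (P : Finset Ω)) hg2
      simpa [Set.powersetCard.coe_smul, Set.powersetCard.val_ofCard] using this
    have ha : g • a ∈ ({a, b} : Finset Ω) := by
      rw [← hg3]; exact Finset.smul_mem_smul_finset (by simp)
    have hb : g • b ∈ ({a, b} : Finset Ω) := by
      rw [← hg3]; exact Finset.smul_mem_smul_finset (by simp)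
    have hne : g • a ≠ g • b := fun e => hab (MulAction.injective g e)
    simp only [Finset.mem_insert, Finset.mem_singleton] at ha hb
    rcases ha with ha | ha <;> rcases hb with hb | hb
    · exact absurd (ha.trans hb.symm) hne
    · exact Or.inl ⟨ha, hb⟩
    · exact Or.inr ⟨ha, hb⟩
    · exact absurd (ha.trans hb.symm) hne
  -- an element swapping a, b and fixing c
  have swap : ∀ a b c : Ω, a ≠ b → c ≠ a → c ≠ b → ∃ s : G, s • a = b ∧ s • b = a ∧ s • c = c := by
    intro a b c hab hca hcb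
    obtain ⟨t, ht⟩ := exists_prime_orderOf_dvd_card' (G := MulAction.stabilizer G c) 2
      (even_iff_two_dvd.mp (heven c))
    have htc : (t : G) • c = c := t.2
    have ht2 : (t : G) * (t : G) = 1 := by
      have : t ^ 2 = 1 := by rw [← ht]; exact pow_orderOf_eq_one t
      have := congrArg (fun z : MulAction.stabilizer G c => (z : G)) this
      simpa [pow_two] using this
    have ht1 : (t : G) ≠ 1 := by
      intro e
      have : t = 1 := Subtype.ext e
      rw [this, orderOf_one] at ht
      norm_num at ht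
    obtain ⟨u, hu⟩ : ∃ u : Ω, (t : G) • u ≠ u := by
      by_contra hcon
      push Not at hcon
      exact ht1 (FaithfulSMul.eq_of_smul_eq_smul (α := Ω) (fun u => by rw [hcon u, one_smul]))
    have hcu : c ≠ u := by
      intro e; apply hu; rw [← e]; exact htc
    set v := (t : G) • u with hv
    have htv : (t : G) • v = u := by rw [hv, ← mul_smul, ht2, one_smul]
    have hcv : c ≠ v := by
      intro e
      apply hcu
      have : (t : G) • c = (t : G) • v := by rw [← e]
      rw [htc, htv] at this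
      exact this
    obtain ⟨k, hk1, hk2⟩ := h2' (Ne.symm hu) hab
    -- k • u = a, k • v = b
    set s₀ := k * (t : G) * k⁻¹ with hs₀
    have hs₀a : s₀ • a = b := by
      rw [hs₀, ← hk1, mul_smul, mul_smul, inv_smul_smul, ← hv, hk2]
    have hs₀b : s₀ • b = a := by
      rw [hs₀, ← hk2, mul_smul, mul_smul, inv_smul_smul, htv, hk1]
    have hs₀w : s₀ • (k • c) = k • c := by
      rw [hs₀, mul_smul, mul_smul, inv_smul_smul, htc]
    have hwa : k • c ≠ a := by
      rw [← hk1]; exact fun e => hcu (MulAction.injective k e)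
    have hwb : k • c ≠ b := by
      rw [← hk2]; exact fun e => hcv (MulAction.injective k e)
    obtain ⟨h', hh'1, hh'2⟩ := key a b (k • c) c hab hwa hwb hca hcb
    refine ⟨h' * s₀ * h'⁻¹, ?_, ?_, ?_⟩
    · rcases hh'2 with ⟨e1, e2⟩ | ⟨e1, e2⟩
      · have : h'⁻¹ • a = a := by rw [inv_smul_eq_iff, e1]
        rw [mul_smul, mul_smul, this, hs₀a, e2]
      · have : h'⁻¹ • a = b := by rw [inv_smul_eq_iff, e2]
        rw [mul_smul, mul_smul, this, hs₀b, e1]
    · rcases hh'2 with ⟨e1, e2⟩ | ⟨e1, e2⟩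
      · have : h'⁻¹ • b = b := by rw [inv_smul_eq_iff, e2]
        rw [mul_smul, mul_smul, this, hs₀b, e1]
      · have : h'⁻¹ • b = a := by rw [inv_smul_eq_iff, e1]
        rw [mul_smul, mul_smul, this, hs₀a, e2]
    · have : h'⁻¹ • c = k • c := by rw [inv_smul_eq_iff, hh'1]
      rw [mul_smul, mul_smul, this, hs₀w, hh'1]
  apply three_of_triples
  intro a b c a' b' c' hab hac hbc hab' hac' hbc'
  obtain ⟨g₁, hg1, hg2⟩ := h2' hab hab'
  have hza : g₁ • c ≠ a' := by
    rw [← hg1]; exact fun e => hac (MulAction.injective g₁ e).symm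
  have hzb : g₁ • c ≠ b' := by
    rw [← hg2]; exact fun e => hbc (MulAction.injective g₁ e).symm
  obtain ⟨h₁, hh1, hh2⟩ := key a' b' (g₁ • c) c' hab' hza hzb (Ne.symm hac') (Ne.symm hbc')
  rcases hh2 with ⟨e1, e2⟩ | ⟨e1, e2⟩
  · refine ⟨h₁ * g₁, ?_, ?_, ?_⟩
    · rw [mul_smul, hg1, e1]
    · rw [mul_smul, hg2, e2]
    · rw [mul_smul, hh1]
  · obtain ⟨s, hs1, hs2, hs3⟩ := swap a' b' c' hab' (Ne.symm hac') (Ne.symm hbc')
    refine ⟨s * h₁ * g₁, ?_, ?_, ?_⟩
    · rw [mul_smul, mul_smul, hg1, e1, hs2]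
    · rw [mul_smul, mul_smul, hg2, e2, hs1]
    · rw [mul_smul, mul_smul, hh1, hs3]

end Cfsg.Agent.S0672
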