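-- Statement S0674: the heart of the permutation module of an insoluble group of prime degree.
import Mathlib
import Cfsg.Statements.S0674
import Cfsg.Agent.Lib.Helper18.PrimeDegree

set_option autoImplicit false
open Cfsg

namespace Cfsg.Agent.S0674

open Module

/-- Let `G` be a non-solvable transitive permutation group of prime degree `p` and `K` a field of characteristic `p`. Then the heart of the permutation module is irreducible: an invariant subspace containing the constants and contained in the sum-zero functions is one or the other. -/
theorem result {α : Type*} [Fintype α] [DecidableEq α] {p : ℕ} [Fact p.Prime] (hα : Fintype.card α = p) (G : Subgroup (Equiv.Perm α)) [MulAction.IsPretransitive G α] (hG : ¬ Group.IsSolvable G) {K : Type*} [Field K] [CharP K p] (W : Subrepresentation (Cfsg.permRep K G α)) (h₁ : (Cfsg.permConstants K G α).toSubmodule ≤ W.toSubmodule) (h₂ : W.toSubmodule ≤ (Cfsg.permSumZero K G α).toSubmodule) : W = Cfsg.permConstants K G α ∨ W = Cfsg.permSumZero K G α := by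
  have hp : p.Prime := Fact.out
  have hinv : ∀ g ∈ G, ∀ f ∈ W.toSubmodule, f ∘ g ∈ W.toSubmodule := by
    intro g hg f hf
    have := W.apply_mem_toSubmodule (⟨g, hg⟩ : G)⁻¹ hf
    have h2 : Cfsg.permRep K G α (⟨g, hg⟩ : G)⁻¹ f = f ∘ g := by
      ext x
      simp [Cfsg.permRep]
    rwa [h2] at this
  have hnot : ¬ (2 ≤ finrank K W.toSubmodule ∧ finrank K W.toSubmodule + 2 ≤ p) := by
    rintro ⟨h2, hp2⟩
    exact hG (Cfsg.Agent.Lib.Helper18.PrimeDegree.solvable_of_invariant (K := K) hα G W.toSubmodule
      hinv h2 hp2)
  -- dimension of constants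
  have hc1 : finrank K (Cfsg.permConstants K G α).toSubmodule = 1 := by
    show finrank K (Submodule.span K {(fun _ => (1 : K) : α → K)}) = 1
    apply finrank_span_singleton
    intro h
    have hne : Nonempty α := by
      rw [← Fintype.card_pos_iff, hα]; exact hp.pos
    obtain ⟨a⟩ := hne
    have := congrFun h a
    simp at this
  -- dimension of sum-zero functions
  have hs1 : finrank K (Cfsg.permSumZero K G α).toSubmodule < p := by
    have hlt : (Cfsg.permSumZero K G α).toSubmodule ≠ ⊤ := by
      intro h
      have hne : Nonempty α := by
        rw [← Fintype.card_pos_iff, hα]; exact hp.pos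
      obtain ⟨a⟩ := hne
      have hmem : (Pi.single a (1 : K) : α → K) ∈ (Cfsg.permSumZero K G α).toSubmodule := by
        rw [h]; trivial
      have h3 : ∑ x, (Pi.single a (1 : K) : α → K) x = 0 := hmem
      rw [Finset.sum_pi_single'] at h3
      simp at h3
    have := Submodule.finrank_lt hlt
    rwa [Module.finrank_fintype_fun_eq_card K, hα] at this
  have hr1 : 1 ≤ finrank K W.toSubmodule := by
    rw [← hc1]; exact Submodule.finrank_mono h₁
  have hr2 : finrank K W.toSubmodule ≤ finrank K (Cfsg.permSumZero K G α).toSubmodule :=
    Submodule.finrank_mono h₂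
  by_cases hcase : finrank K W.toSubmodule = 1
  · left
    apply Subrepresentation.toSubmodule_injective
    symm
    apply Submodule.eq_of_le_of_finrank_le h₁
    rw [hcase, hc1]
  · right
    apply Subrepresentation.toSubmodule_injective
    apply Submodule.eq_of_le_of_finrank_le h₂
    have : ¬ (finrank K W.toSubmodule + 2 ≤ p) := fun h => hnot ⟨by omega, h⟩
    omega

end Cfsg.Agent.S0674
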