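-- Statement S0675: Burnside's theorem on transitive groups of prime degree.
import Mathlib
import Cfsg.Statements.S0675
import Cfsg.Agent.Lib.Helper18.PrimeDegree
import Cfsg.Agent.Lib.Helper77.PermSmall

set_option autoImplicit false
open Cfsg

namespace Cfsg.Agent.S0675

open Module Cfsg.Agent.Lib.Helper18.PrimeDegree

section
variable {α : Type*} [Fintype α] [DecidableEq α] (G : Subgroup (Equiv.Perm α))

omit [Fintype α] [DecidableEq α] in
lemma inv_app (f : Equiv.Perm α) (x : α) : f⁻¹ (f x) = x := by simp

/-- the orbital of the pair `(u, v)`. -/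
def orb (u v x y : α) : Prop := ∃ g ∈ G, g u = x ∧ g v = y

omit [Fintype α] [DecidableEq α] in
lemma orb_self (u v : α) : orb G u v u v := ⟨1, G.one_mem, rfl, rfl⟩

lemma orb_smul {u v x y : α} (h : Equiv.Perm α) (hh : h ∈ G) :
    orb G u v (h x) (h y) ↔ orb G u v x y := by
  constructor
  · rintro ⟨g, hg, h1, h2⟩
    refine ⟨h⁻¹ * g, G.mul_mem (G.inv_mem hh) hg, ?_, ?_⟩
    · rw [Equiv.Perm.mul_apply, h1, inv_app]
    · rw [Equiv.Perm.mul_apply, h2, inv_app]
  · rintro ⟨g, hg, h1, h2⟩
    exact ⟨h * g, G.mul_mem hh hg, by rw [Equiv.Perm.mul_apply, h1],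
      by rw [Equiv.Perm.mul_apply, h2]⟩

omit [Fintype α] [DecidableEq α] in
lemma orb_ne {u v x y : α} (huv : u ≠ v) (h : orb G u v x y) : x ≠ y := by
  obtain ⟨g, -, rfl, rfl⟩ := h
  exact fun h => huv (g.injective h)

open Classical in
/-- out-degree of the orbital graph. -/
noncomputable def deg (u v x : α) : ℕ := (Finset.univ.filter (fun y => orb G u v x y)).card

lemma deg_smul (u v x : α) (h : Equiv.Perm α) (hh : h ∈ G) : deg G u v (h x) = deg G u v x := by
  classical
  unfold deg
  symm
  apply Finset.card_bij (fun y _ => h y)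
  · intro y hy
    simp only [Finset.mem_filter, Finset.mem_univ, true_and] at hy ⊢
    exact (orb_smul G h hh).2 hy
  · intro y _ z _ hyz
    exact h.injective hyz
  · intro z hz
    simp only [Finset.mem_filter, Finset.mem_univ, true_and] at hz
    refine ⟨h⁻¹ z, ?_, by simp⟩
    simp only [Finset.mem_filter, Finset.mem_univ, true_and]
    rw [← orb_smul G h hh]
    simpa using hz

lemma deg_const [MulAction.IsPretransitive G α] (u v x : α) : deg G u v x = deg G u v u := by
  obtain ⟨g, hg⟩ := MulAction.exists_smul_eq G u x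
  have : (g : Equiv.Perm α) u = x := hg
  rw [← this, deg_smul G u v u g.1 g.2]

lemma deg_pos (u v : α) : 1 ≤ deg G u v u := by
  classical
  unfold deg
  rw [Nat.one_le_iff_ne_zero, Finset.card_ne_zero]
  exact ⟨v, by simp [orb_self]⟩

lemma deg_lt {u v : α} (huv : u ≠ v) : deg G u v u < Fintype.card α := by
  classical
  unfold deg
  apply Finset.card_lt_univ_of_notMem (x := u)
  simp only [Finset.mem_filter, Finset.mem_univ, true_and]
  intro h
  exact orb_ne G huv h rfl

end

section
variable {α : Type*} [Fintype α] {K : Type*} [Field K]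

/-- the operator with kernel `k`. -/
noncomputable def opA (k : α → α → K) : Module.End K (α → K) where
  toFun f := fun x => ∑ y, k x y * f y
  map_add' := by
    intro f g; ext x
    simp [mul_add, Finset.sum_add_distrib]
  map_smul' := by
    intro c f; ext x
    simp only [Pi.smul_apply, smul_eq_mul, RingHom.id_apply, Finset.mul_sum]
    apply Finset.sum_congr rfl
    intro y _; ring

lemma opA_apply (k : α → α → K) (f : α → K) (x : α) : opA k f x = ∑ y, k x y * f y := rfl

lemma opA_comp (k : α → α → K) (h : Equiv.Perm α) (hk : ∀ x y, k (h x) (h y) = k x y) (f : α → K) :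
    opA k (f ∘ h) = (opA k f) ∘ h := by
  ext x
  simp only [opA_apply, Function.comp_apply]
  rw [← Equiv.sum_comp h (fun z => k (h x) z * f z)]
  apply Finset.sum_congr rfl
  intro y _
  rw [hk]

end

/-- Burnside's Theorem on permutation groups of prime degree: a transitive permutation group of prime degree that is not solvable is doubly transitive. -/
theorem result {α : Type*} [Fintype α] [DecidableEq α] (hα : (Fintype.card α).Prime) (G : Subgroup (Equiv.Perm α)) [MulAction.IsPretransitive G α] : Group.IsSolvable G ∨ MulAction.IsMultiplyPretransitive G α 2 := by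
  classical
  by_cases hsol : Group.IsSolvable G
  · left; exact hsol
  right
  obtain ⟨p, hp_def⟩ : ∃ p, Fintype.card α = p := ⟨_, rfl⟩
  rw [hp_def] at hα
  have : Fact p.Prime := ⟨hα⟩
  have hp5 : 5 ≤ p := by
    by_contra hlt
    push Not at hlt
    apply hsol
    have : Group.IsSolvable (Equiv.Perm α) :=
      Cfsg.Agent.Lib.Helper77.solvable_perm_of_card_le_four (by
        rw [Nat.card_eq_fintype_card, hp_def]; omega)
    infer_instance
  rw [MulAction.is_two_pretransitive_iff]
  by_contra hnot
  push Not at hnot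
  obtain ⟨a, b, c, d, hab, hcd, hno⟩ := hnot
  -- the two orbitals are disjoint
  have hdisj : ¬ orb G c d a b := by
    rintro ⟨g, hg, h1, h2⟩
    refine hno (⟨g, hg⟩ : G)⁻¹ ?_ ?_
    · show (g⁻¹ : Equiv.Perm α) a = c
      rw [← h1, inv_app]
    · show (g⁻¹ : Equiv.Perm α) b = d
      rw [← h2, inv_app]
  set D₁ := deg G a b a with hD₁
  set D₂ := deg G c d c with hD₂
  have hD₂pos : 1 ≤ D₂ := deg_pos G c d
  have hD₂lt : D₂ < p := by rw [← hp_def]; exact deg_lt G hcd
  have hD₂ne : (D₂ : ZMod p) ≠ 0 := by
    intro h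
    rw [ZMod.natCast_eq_zero_iff] at h
    have := Nat.le_of_dvd (by omega) h
    omega
  -- the kernel
  let k : α → α → ZMod p := fun x y =>
    (D₂ : ZMod p) * (if orb G a b x y then 1 else 0) - (D₁ : ZMod p) * (if orb G c d x y then 1 else 0)
  have hk_inv : ∀ h ∈ G, ∀ x y, k (h x) (h y) = k x y := by
    intro h hh x y
    simp only [k, orb_smul G h hh]
  have hk_diag : ∀ x, k x x = 0 := by
    intro x
    have h1 : ¬ orb G a b x x := fun h => orb_ne G hab h rfl
    have h2 : ¬ orb G c d x x := fun h => orb_ne G hcd h rfl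
    simp [k, h1, h2]
  have hk_ab : k a b = (D₂ : ZMod p) := by
    simp [k, orb_self, hdisj]
  have hk_row : ∀ x, ∑ y, k x y = 0 := by
    intro x
    simp only [k, Finset.sum_sub_distrib, ← Finset.mul_sum, Finset.sum_boole]
    have e1 : (Finset.univ.filter (fun y => orb G a b x y)).card = D₁ := deg_const G a b x
    have e2 : (Finset.univ.filter (fun y => orb G c d x y)).card = D₂ := deg_const G c d x
    rw [e1, e2]
    ring
  let A : Module.End (ZMod p) (α → ZMod p) := opA k
  have hA_comp : ∀ h ∈ G, ∀ f : α → ZMod p, A (f ∘ h) = (A f) ∘ h := fun h hh f =>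
    opA_comp k h (hk_inv h hh) f
  let C : Submodule (ZMod p) (α → ZMod p) := Submodule.span (ZMod p) {fun _ => (1 : ZMod p)}
  have hne : Nonempty α := by
    rw [← Fintype.card_pos_iff, hp_def]; exact hα.pos
  have hC1 : finrank (ZMod p) C = 1 := by
    apply finrank_span_singleton
    intro h
    have := congrFun h a
    simp at this
  have hCinv : ∀ g ∈ G, ∀ f ∈ C, f ∘ g ∈ C := by
    intro g _ f hf
    rw [Submodule.mem_span_singleton] at hf ⊢
    obtain ⟨c', rfl⟩ := hf
    exact ⟨c', by ext x; simp⟩
  have hA1 : A (fun _ => (1 : ZMod p)) = 0 := by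
    ext x
    simp only [A, opA_apply, mul_one, Pi.zero_apply]
    exact hk_row x
  have hCker : C ≤ LinearMap.ker A := by
    rw [Submodule.span_le]
    intro f hf
    rw [Set.mem_singleton_iff] at hf
    subst hf
    exact hA1
  have hkerinv : ∀ g ∈ G, ∀ f ∈ LinearMap.ker A, f ∘ g ∈ LinearMap.ker A := by
    intro g hg f hf
    rw [LinearMap.mem_ker] at hf ⊢
    rw [hA_comp g hg, hf]
    rfl
  have hraninv : ∀ g ∈ G, ∀ f ∈ LinearMap.range A, f ∘ g ∈ LinearMap.range A := by
    rintro g hg _ ⟨f, rfl⟩
    exact ⟨f ∘ g, hA_comp g hg f⟩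
  have hAsingle : A (Pi.single b 1) a = (D₂ : ZMod p) := by
    simp only [A, opA_apply]
    rw [Finset.sum_eq_single b]
    · simp [hk_ab]
    · intro y _ hy
      simp [hy]
    · intro h; exact absurd (Finset.mem_univ b) h
  have hkerne : LinearMap.ker A ≠ ⊤ := by
    intro h
    have : (Pi.single b (1 : ZMod p) : α → ZMod p) ∈ LinearMap.ker A := by rw [h]; trivial
    rw [LinearMap.mem_ker] at this
    have h2 := congrFun this a
    rw [hAsingle] at h2
    exact hD₂ne h2
  have hcardV : finrank (ZMod p) (α → ZMod p) = p := by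
    rw [Module.finrank_fintype_fun_eq_card (ZMod p), hp_def]
  have hd_lt : finrank (ZMod p) (LinearMap.ker A) < p := by
    have := Submodule.finrank_lt hkerne
    rwa [hcardV] at this
  have hd_pos : 1 ≤ finrank (ZMod p) (LinearMap.ker A) := by
    rw [← hC1]; exact Submodule.finrank_mono hCker
  have hrn := LinearMap.finrank_range_add_finrank_ker A
  rw [hcardV] at hrn
  have hnotsol : ∀ W : Submodule (ZMod p) (α → ZMod p), (∀ g ∈ G, ∀ f ∈ W, f ∘ g ∈ W) →
      ¬ (2 ≤ finrank (ZMod p) W ∧ finrank (ZMod p) W + 2 ≤ p) := by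
    intro W hW ⟨h2, hp2⟩
    exact hsol (solvable_of_invariant (K := ZMod p) hp_def G W hW h2 hp2)
  have hd := hnotsol _ hkerinv
  by_cases hcase : finrank (ZMod p) (LinearMap.ker A) = 1
  · -- kernel is the constants; then the preimage of the constants has dimension 2
    have hCran : C ≤ LinearMap.range A := by
      apply invariant_le_of_finrank_le (p := p) (K := ZMod p) hp_def G C _ hCinv hraninv
      rw [hC1]; omega
    have h1mem : (fun _ => (1 : ZMod p)) ∈ LinearMap.range A :=
      hCran (Submodule.subset_span rfl)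
    obtain ⟨f₀, hf₀⟩ := h1mem
    let W₂ : Submodule (ZMod p) (α → ZMod p) := C.comap A
    have hW₂inv : ∀ g ∈ G, ∀ f ∈ W₂, f ∘ g ∈ W₂ := by
      intro g hg f hf
      show A (f ∘ g) ∈ C
      rw [hA_comp g hg]
      exact hCinv g hg _ hf
    have hle : finrank (ZMod p) W₂ ≤ 2 := by
      have := finrank_comap_le A C
      rw [hC1, hcase] at this
      exact this
    have hlt : LinearMap.ker A < W₂ := by
      refine lt_of_le_of_ne ?_ ?_
      · intro f hf
        show A f ∈ C
        rw [LinearMap.mem_ker.1 hf]
        exact C.zero_mem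
      · intro h
        have h1 : f₀ ∈ W₂ := by
          show A f₀ ∈ C
          rw [hf₀]; exact Submodule.subset_span rfl
        rw [← h, LinearMap.mem_ker, hf₀] at h1
        have := congrFun h1 a
        simp at this
    have hgt := Submodule.finrank_lt_finrank_of_lt hlt
    exact hnotsol W₂ hW₂inv ⟨by omega, by omega⟩
  · -- kernel has dimension p - 1, the range is the constants
    have hdp : finrank (ZMod p) (LinearMap.ker A) + 2 > p := by
      by_contra h
      exact hd ⟨by omega, by omega⟩
    have hran1 : finrank (ZMod p) (LinearMap.range A) ≤ 1 := by omega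
    have hranC : LinearMap.range A ≤ C := by
      apply invariant_le_of_finrank_le (p := p) (K := ZMod p) hp_def G _ C hraninv hCinv
      rw [hC1]; exact hran1
    have hmem : A (Pi.single b 1) ∈ C := hranC ⟨_, rfl⟩
    rw [Submodule.mem_span_singleton] at hmem
    obtain ⟨c', hc'⟩ := hmem
    have h1 := congrFun hc' a
    have h2 := congrFun hc' b
    have hAbb : A (Pi.single b 1) b = 0 := by
      simp only [A, opA_apply]
      rw [Finset.sum_eq_single b]
      · simp [hk_diag]
      · intro y _ hy
        simp [hy]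
      · intro h; exact absurd (Finset.mem_univ b) h
    rw [hAsingle] at h1
    rw [hAbb] at h2
    simp only [Pi.smul_apply, smul_eq_mul, mul_one] at h1 h2
    rw [h2] at h1
    exact hD₂ne h1.symm

end Cfsg.Agent.S0675
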