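import Mathlib
import Cfsg.Statements.S0676
import Cfsg.Agent.S0672
import Cfsg.Agent.S0674
import Cfsg.Agent.S0675
import Cfsg.Agent.S0677
-- import your own Cfsg.Agent.* helpers here

set_option autoImplicit false
open Cfsg
open scoped Pointwise

namespace Cfsg.Agent.S0676

open Cfsg.Agent.S0677 (RegPt)

section coords

variable {G : Type*} [Group G]

/-- coordinate function `x ^ i • c₀ ↦ i` -/
noncomputable def coord {x t : G} {γ : Type*} [MulAction G γ] {c₀ : γ} (hr : RegPt x t γ c₀)
    (p : ℕ) (a : γ) : ZMod p :=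
  ((Classical.choose (hr.surj a) : ℤ) : ZMod p)

lemma coord_zpow {x t : G} {p : ℕ} (hx : orderOf x = p) {γ : Type*} [MulAction G γ] {c₀ : γ}
    (hr : RegPt x t γ c₀) (i : ℤ) : coord hr p (x ^ i • c₀) = (i : ZMod p) := by
  unfold coord
  have h := Classical.choose_spec (hr.surj (x ^ i • c₀))
  have h2 := hr.inj h
  rw [zpow_eq_zpow_iff_modEq, hx] at h2
  exact ((ZMod.intCast_eq_intCast_iff _ _ _).2 h2).symm

lemma coord_x_inv {x t : G} {p : ℕ} (hx : orderOf x = p) {γ : Type*} [MulAction G γ] {c₀ : γ}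
    (hr : RegPt x t γ c₀) (a : γ) : coord hr p (x⁻¹ • a) = coord hr p a - 1 := by
  obtain ⟨i, rfl⟩ := hr.surj a
  have : x⁻¹ • x ^ i • c₀ = x ^ (i - 1) • c₀ := by
    rw [← mul_smul]; congr 1
    rw [← zpow_neg_one, ← zpow_add]; congr 1; ring
  rw [this, coord_zpow hx, coord_zpow hx]
  push_cast; ring

lemma coord_t {x t : G} {p : ℕ} (hx : orderOf x = p) (htx : t * x * t⁻¹ = x⁻¹)
    {γ : Type*} [MulAction G γ] {c₀ : γ}
    (hr : RegPt x t γ c₀) (a : γ) : coord hr p (t • a) = - coord hr p a := by
  obtain ⟨i, rfl⟩ := hr.surj a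
  rw [S0677.t_smul_zpow htx hr, coord_zpow hx, coord_zpow hx]
  push_cast; ring

end coords

theorem hom_zero {G : Type*} [Group G] {α : Type*} [Fintype α] [DecidableEq α] [MulAction G α]
    {p : ℕ} [Fact p.Prime] (hp2 : p ≠ 2) (hα : Fintype.card α = p) {x t : G} {o : α}
    (ho : RegPt x t α o) (hx : orderOf x = p) (htt : t * t = 1) (htx : t * x * t⁻¹ = x⁻¹)
    (hirr : ∀ W : Subrepresentation (Cfsg.permRep (ZMod p) G α),
      (Cfsg.permConstants (ZMod p) G α).toSubmodule ≤ W.toSubmodule →
      W.toSubmodule ≤ (Cfsg.permSumZero (ZMod p) G α).toSubmodule →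
      W = Cfsg.permConstants (ZMod p) G α ∨ W = Cfsg.permSumZero (ZMod p) G α)
    (f : Representation.IntertwiningMap (Cfsg.permSumZero (ZMod p) G α).toRepresentation
      (Cfsg.permRep (ZMod p) G (Set.powersetCard α 2)))
    (hf : ∀ v : (Cfsg.permSumZero (ZMod p) G α).toSubmodule,
      (v : α → ZMod p) ∈ (Cfsg.permConstants (ZMod p) G α).toSubmodule → f v = 0) : f = 0 := by
  classical
  have hp : p.Prime := Fact.out
  have h2ne : (2 : ZMod p) ≠ 0 := by
    intro h0
    have : ((2 : ℕ) : ZMod p) = 0 := by exact_mod_cast h0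
    rw [ZMod.natCast_eq_zero_iff] at this
    have := (Nat.prime_dvd_prime_iff_eq hp Nat.prime_two).1 this
    exact hp2 this
  have htinv : t⁻¹ = t := inv_eq_of_mul_eq_one_right htt
  let W : Subrepresentation (Cfsg.permRep (ZMod p) G α) :=
    { toSubmodule := Submodule.map (Cfsg.permSumZero (ZMod p) G α).toSubmodule.subtype (LinearMap.ker f.toLinearMap)
      apply_mem_toSubmodule := by
        intro g v hv
        rw [Submodule.mem_map] at hv ⊢
        obtain ⟨w, hw, rfl⟩ := hv
        refine ⟨(Cfsg.permSumZero (ZMod p) G α).toRepresentation g w, ?_, rfl⟩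
        rw [LinearMap.mem_ker] at hw ⊢
        show f ((Cfsg.permSumZero (ZMod p) G α).toRepresentation g w) = 0
        rw [f.isIntertwining, show f w = 0 from hw, map_zero] }
  have hWmem : ∀ v : α → ZMod p, v ∈ W.toSubmodule ↔ ∃ hv : v ∈ (Cfsg.permSumZero (ZMod p) G α).toSubmodule, f ⟨v, hv⟩ = 0 := by
    intro v
    show v ∈ Submodule.map (Cfsg.permSumZero (ZMod p) G α).toSubmodule.subtype (LinearMap.ker f.toLinearMap) ↔ _
    rw [Submodule.mem_map]
    constructor
    · rintro ⟨w, hw, rfl⟩
      exact ⟨w.2, hw⟩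
    · rintro ⟨hv, hfv⟩
      exact ⟨⟨v, hv⟩, hfv, rfl⟩
  have hCS : ∀ v : α → ZMod p, v ∈ (Cfsg.permConstants (ZMod p) G α).toSubmodule →
      v ∈ (Cfsg.permSumZero (ZMod p) G α).toSubmodule := by
    intro v hv
    have hv' : v ∈ Submodule.span (ZMod p) {fun _ => (1 : ZMod p)} := hv
    rw [Submodule.mem_span_singleton] at hv'
    obtain ⟨a, rfl⟩ := hv'
    show ∑ z, (a • fun _ => (1 : ZMod p)) z = 0
    simp [hα]
  have h₁ : (Cfsg.permConstants (ZMod p) G α).toSubmodule ≤ W.toSubmodule := by
    intro v hv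
    rw [hWmem]
    exact ⟨hCS v hv, hf ⟨v, hCS v hv⟩ hv⟩
  have h₂ : W.toSubmodule ≤ (Cfsg.permSumZero (ZMod p) G α).toSubmodule := by
    intro v hv
    rw [hWmem] at hv
    exact hv.1
  -- the coordinate function
  set u : α → ZMod p := coord ho p with hu
  have hux : ∀ a, u (x⁻¹ • a) = u a - 1 := coord_x_inv hx ho
  have hut : ∀ a, u (t • a) = - u a := coord_t hx htx ho
  have huS : u ∈ (Cfsg.permSumZero (ZMod p) G α).toSubmodule := by
    show ∑ z, u z = 0
    have h1 : ∑ z, u z = ∑ z, u (t • z) :=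
      (Fintype.sum_equiv (MulAction.toPerm t) _ _ (fun z => rfl)).symm
    simp only [hut, Finset.sum_neg_distrib] at h1
    have h3 : (2 : ZMod p) * ∑ z, u z = 0 := by linear_combination h1
    exact (mul_eq_zero.1 h3).resolve_left h2ne
  have huC : u ∉ (Cfsg.permConstants (ZMod p) G α).toSubmodule := by
    intro hv
    have hv' : u ∈ Submodule.span (ZMod p) {fun _ => (1 : ZMod p)} := hv
    rw [Submodule.mem_span_singleton] at hv'
    obtain ⟨a, ha⟩ := hv'
    have e1 := congrFun ha o
    have e2 := congrFun ha (x⁻¹ • o)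
    rw [hux] at e2
    simp only [Pi.smul_apply, smul_eq_mul, mul_one] at e1 e2
    have h10 : (1 : ZMod p) = 0 := by linear_combination e2 - e1
    have : Fact (1 < p) := ⟨hp.one_lt⟩
    exact one_ne_zero h10
  have huW : u ∈ W.toSubmodule := by
    rw [hWmem]
    refine ⟨huS, ?_⟩
    set F := f ⟨u, huS⟩ with hF
    -- invariance under x
    have hFx : Cfsg.permRep (ZMod p) G (Set.powersetCard α 2) x F = F := by
      have hint := f.isIntertwining _ _ x ⟨u, huS⟩
      rw [hF, ← hint]
      have hone : (fun _ => (1 : ZMod p)) ∈ (Cfsg.permSumZero (ZMod p) G α).toSubmodule :=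
        hCS _ (Submodule.subset_span rfl)
      have : (Cfsg.permSumZero (ZMod p) G α).toRepresentation x ⟨u, huS⟩ = ⟨u, huS⟩ - ⟨fun _ => 1, hone⟩ := by
        apply Subtype.ext
        funext a
        show u (x⁻¹ • a) = u a - 1
        exact hux a
      rw [this, map_sub, hf ⟨fun _ => 1, hone⟩ (Submodule.subset_span rfl), sub_zero]
    have hFt : Cfsg.permRep (ZMod p) G (Set.powersetCard α 2) t F = - F := by
      have hint := f.isIntertwining _ _ t ⟨u, huS⟩
      rw [hF, ← hint]
      have : (Cfsg.permSumZero (ZMod p) G α).toRepresentation t ⟨u, huS⟩ = - ⟨u, huS⟩ := by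
        apply Subtype.ext
        funext a
        show u (t⁻¹ • a) = - u a
        rw [htinv]
        exact hut a
      rw [this, map_neg]
    -- stabilizer subgroup of F
    let St : Subgroup G :=
      { carrier := {g | Cfsg.permRep (ZMod p) G (Set.powersetCard α 2) g F = F}
        one_mem' := by simp
        mul_mem' := by
          intro a b ha hb
          simp only [Set.mem_ofPred_eq] at ha hb ⊢
          rw [map_mul, Module.End.mul_apply, hb, ha]
        inv_mem' := by
          intro a ha
          simp only [Set.mem_ofPred_eq] at ha ⊢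
          nth_rewrite 1 [← ha]
          rw [← Module.End.mul_apply, ← map_mul, inv_mul_cancel, map_one, Module.End.one_apply] }
    have hFxi : ∀ (i : ℤ) (Q : Set.powersetCard α 2), F (x ^ i • Q) = F Q := by
      intro i Q
      have hmem : (x ^ i)⁻¹ ∈ St := St.inv_mem (St.zpow_mem hFx i)
      have := congrFun (show Cfsg.permRep (ZMod p) G (Set.powersetCard α 2) (x ^ i)⁻¹ F = F from hmem) Q
      rw [← this]
      show F (x ^ i • Q) = F ((x ^ i)⁻¹⁻¹ • Q)
      rw [inv_inv]
    have hFtQ : ∀ Q : Set.powersetCard α 2, F (t • Q) = - F Q := by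
      intro Q
      have := congrFun hFt Q
      rw [Pi.neg_apply] at this
      rw [← this]
      show F (t • Q) = F (t⁻¹ • Q)
      rw [htinv]
    -- t • Q is an x-translate of Q
    have htQ : ∀ Q : Set.powersetCard α 2, ∃ i : ℤ, t • Q = x ^ i • Q := by
      intro Q
      obtain ⟨a, b, hab, hQ⟩ := Finset.card_eq_two.mp Q.prop
      obtain ⟨i, rfl⟩ := ho.surj a
      obtain ⟨j, rfl⟩ := ho.surj b
      refine ⟨-i - j, ?_⟩
      apply Subtype.ext
      rw [Set.powersetCard.coe_smul, Set.powersetCard.coe_smul, hQ]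
      simp only [Finset.smul_finset_insert, Finset.smul_finset_singleton]
      rw [S0677.t_smul_zpow htx ho, S0677.t_smul_zpow htx ho, ← mul_smul, ← mul_smul,
        ← zpow_add, ← zpow_add, Finset.pair_comm]
      congr 3 <;> ring
    funext Q
    obtain ⟨i, hi⟩ := htQ Q
    have e1 := hFtQ Q
    rw [hi, hFxi] at e1
    have h3 : (2 : ZMod p) * F Q = 0 := by linear_combination e1
    exact (mul_eq_zero.1 h3).resolve_left h2ne
  rcases hirr W h₁ h₂ with hW | hW
  · exfalso
    apply huC
    rw [← hW]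
    exact huW
  · refine DFunLike.ext _ _ (fun v => ?_)
    have hv : (v : α → ZMod p) ∈ W.toSubmodule := by
      rw [hW]; exact v.2
    rw [hWmem] at hv
    obtain ⟨_, hv2⟩ := hv
    exact hv2


/-- A non-solvable transitive permutation group of prime degree `p` whose Sylow `p`-normaliser has even order is triply transitive. -/
theorem result {α : Type*} [Fintype α] [DecidableEq α] {p : ℕ} [Fact p.Prime] (hα : Fintype.card α = p) (G : Subgroup (Equiv.Perm α)) [MulAction.IsPretransitive G α] (hG : ¬ Group.IsSolvable G) (P : Sylow p G) (heven : Even (Nat.card (Subgroup.normalizer ((P : Subgroup G) : Set G)))) : MulAction.IsMultiplyPretransitive G α 3 := by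
  classical
  have hp : p.Prime := Fact.out
  by_cases hp2 : p = 2
  · rw [MulAction.isMultiplyPretransitive_iff]
    intro e
    exfalso
    have := Fintype.card_le_of_embedding e
    simp [hα, hp2] at this
  have hcα : Nat.card α = p := by rw [Nat.card_eq_fintype_card, hα]
  have hpG := S0677.not_sq_dvd_card hp hα G
  obtain ⟨x, t, hx, htt, htx⟩ := S0677.exists_inverting hp2 hα G P heven
  obtain ⟨o, ho⟩ := S0677.exists_regPt (γ := α) hx hp hp2 htx hcα hpG
  have h2 : MulAction.IsMultiplyPretransitive G α 2 :=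
    (S0675.result (by rw [hα]; exact hp) G).resolve_left hG
  have h2ne : (2 : ZMod p) ≠ 0 := by
    intro h0
    have : ((2 : ℕ) : ZMod p) = 0 := by exact_mod_cast h0
    rw [ZMod.natCast_eq_zero_iff] at this
    have := (Nat.prime_dvd_prime_iff_eq hp Nat.prime_two).1 this
    exact hp2 this
  have ht1 : t ≠ 1 := by
    intro e
    rw [e, one_mul, inv_one, mul_one] at htx
    have hx2 : x ^ 2 = 1 := by
      rw [pow_two]; nth_rewrite 1 [htx]; exact inv_mul_cancel x
    have := orderOf_dvd_of_pow_eq_one hx2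
    rw [hx] at this
    exact hp2 ((Nat.prime_dvd_prime_iff_eq hp Nat.prime_two).1 this)
  have htinv : t⁻¹ = t := inv_eq_of_mul_eq_one_right htt
  refine S0672.result (K := ZMod p) (p := p) h2 (by rw [hα]) ?_ ?_
  · -- stabilizers have even order
    intro a
    obtain ⟨g, rfl⟩ := MulAction.exists_smul_eq G o a
    have hmem : g * t * g⁻¹ ∈ MulAction.stabilizer G (g • o) := by
      rw [MulAction.mem_stabilizer_iff, mul_smul, mul_smul, inv_smul_smul, ho.fix]
    have hord : orderOf (⟨g * t * g⁻¹, hmem⟩ : MulAction.stabilizer G (g • o)) = 2 := by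
      apply orderOf_eq_prime
      · apply Subtype.ext
        show (g * t * g⁻¹) ^ 2 = 1
        rw [pow_two]
        calc g * t * g⁻¹ * (g * t * g⁻¹) = g * (t * t) * g⁻¹ := by group
          _ = 1 := by rw [htt]; group
      · intro e
        apply ht1
        have e' : g * t * g⁻¹ = 1 := congrArg Subtype.val e
        calc t = g⁻¹ * (g * t * g⁻¹) * g := by group
          _ = 1 := by rw [e']; group
    rw [even_iff_two_dvd, ← hord]
    exact orderOf_dvd_natCard _
  · exact hom_zero hp2 hα ho hx htt htx (fun W h₁ h₂ => S0674.result hα G hG W h₁ h₂)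

end Cfsg.Agent.S0676
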