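import Mathlib
import Cfsg.Statements.S0680
import Cfsg.Agent.S0035

set_option autoImplicit false
set_option linter.unusedSectionVars false
open Cfsg
open scoped Pointwise

namespace Cfsg.Agent.S0680

section
variable {α : Type*} [Fintype α] [DecidableEq α] (G : Subgroup (Equiv.Perm α))

/-- the embedding `Fin 2 ↪ α` with values `a`, `b`. -/
def emb2 {a b : α} (hab : a ≠ b) : Fin 2 ↪ α :=
  ⟨![a, b], by
    intro i j hij
    fin_cases i <;> fin_cases j
    · rfl
    · exact absurd hij hab
    · exact absurd hij.symm hab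
    · rfl⟩

@[simp] theorem emb2_zero {a b : α} (hab : a ≠ b) : emb2 hab 0 = a := rfl
@[simp] theorem emb2_one {a b : α} (hab : a ≠ b) : emb2 hab 1 = b := rfl

theorem sharp_aux (hsharp : ∀ x : Fin 2 ↪ α, MulAction.stabilizer G x = ⊥) {a b : α} (hab : a ≠ b)
    {g : G} (ha : g • a = a) (hb : g • b = b) : g = 1 := by
  have hg : g ∈ MulAction.stabilizer G (emb2 hab) := by
    rw [MulAction.mem_stabilizer_iff]
    ext i
    fin_cases i
    · show g • (emb2 hab 0) = emb2 hab 0
      exact ha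
    · show g • (emb2 hab 1) = emb2 hab 1
      exact hb
  rw [hsharp (emb2 hab)] at hg
  exact Subgroup.mem_bot.mp hg

theorem two_trans [MulAction.IsMultiplyPretransitive G α 2] {a b c d : α} (hab : a ≠ b)
    (hcd : c ≠ d) : ∃ g : G, g • a = c ∧ g • b = d := by
  obtain ⟨g, hg⟩ := MulAction.exists_smul_eq G (emb2 hab) (emb2 hcd)
  refine ⟨g, ?_, ?_⟩
  · have := DFunLike.congr_fun hg 0
    simpa using this
  · have := DFunLike.congr_fun hg 1
    simpa using this

theorem one_trans [MulAction.IsMultiplyPretransitive G α 2] (h2 : 2 ≤ Fintype.card α) (a c : α) :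
    ∃ g : G, g • a = c := by
  obtain ⟨b, hb⟩ := Fintype.exists_ne_of_one_lt_card (by omega) a
  obtain ⟨d, hd⟩ := Fintype.exists_ne_of_one_lt_card (by omega) c
  obtain ⟨g, hg, -⟩ := two_trans G hb.symm hd.symm
  exact ⟨g, hg⟩

theorem mem_conj_stab (g x : G) (a : α) :
    x ∈ MulAut.conj g • MulAction.stabilizer G a ↔ x • g • a = g • a := by
  rw [Cfsg.Agent.S0034.mem_conj_smul_iff', MulAction.mem_stabilizer_iff, mul_smul, mul_smul,
    inv_smul_eq_iff]

/-- an element of `p`-power order fixing a point fixes a second one, when `p ∣ card α`. -/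
theorem exists_second_fixed {p : ℕ} [Fact p.Prime] (hp : p ∣ Fintype.card α) (g : G) {k : ℕ}
    (hg : g ^ p ^ k = 1) {a : α} (ha : g • a = a) : ∃ b, b ≠ a ∧ g • b = b := by
  have h1 : (MulAction.toEndHom (M := G) (α := α) g) ^ p ^ k = 1 := by
    rw [← map_pow, hg, map_one]
  have h2 := Equiv.Perm.card_fixedPoints_modEq (p := p) h1
  simp only [Fintype.card_eq_nat_card] at h2 hp
  have h3 : p ∣ Nat.card (Function.fixedPoints (MulAction.toEndHom (M := G) (α := α) g)) :=
    Nat.modEq_zero_iff_dvd.mp ((h2.symm).trans (Nat.modEq_zero_iff_dvd.mpr hp))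
  have h4 : a ∈ Function.fixedPoints (MulAction.toEndHom (M := G) (α := α) g) := ha
  have h5 : 1 < Nat.card (Function.fixedPoints (MulAction.toEndHom (M := G) (α := α) g)) := by
    have : Nonempty (Function.fixedPoints (MulAction.toEndHom (M := G) (α := α) g)) := ⟨⟨a, h4⟩⟩
    have h6 : 0 < Nat.card (Function.fixedPoints (MulAction.toEndHom (M := G) (α := α) g)) :=
      Nat.card_pos
    have h7 := Nat.le_of_dvd h6 h3
    have h8 := (Fact.out : p.Prime).two_le
    omega
  rw [Finite.one_lt_card_iff_nontrivial] at h5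
  obtain ⟨⟨b, hb⟩, hne⟩ := exists_ne (⟨a, h4⟩ : Function.fixedPoints (MulAction.toEndHom (M := G) (α := α) g))
  exact ⟨b, fun h => hne (Subtype.ext h), hb⟩

/-- The regular normal subgroup. -/
theorem exists_kernel [MulAction.IsMultiplyPretransitive G α 2]
    (hsharp : ∀ x : Fin 2 ↪ α, MulAction.stabilizer G x = ⊥) (h2 : 2 ≤ Fintype.card α) (a₀ : α) :
    ∃ N : Subgroup G, N.Normal ∧ (∀ g : G, g ∈ N ↔ g = 1 ∨ ∀ a : α, g • a ≠ a) ∧
      N.IsComplement' (MulAction.stabilizer G a₀) := by
  by_cases hH : MulAction.stabilizer G a₀ = ⊥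
  · refine ⟨⊤, inferInstance, ?_, ?_⟩
    · intro g
      simp only [Subgroup.mem_top, true_iff]
      by_cases hg : g = 1
      · exact Or.inl hg
      · right
        intro a ha
        obtain ⟨k, hk⟩ := one_trans G h2 a₀ a
        have : k⁻¹ * g * k ∈ MulAction.stabilizer G a₀ := by
          rw [MulAction.mem_stabilizer_iff, mul_smul, mul_smul, hk, ha, ← hk, inv_smul_smul]
        rw [hH, Subgroup.mem_bot] at this
        apply hg
        have h3 : g = k * (k⁻¹ * g * k) * k⁻¹ := by group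
        rw [h3, this]; group
    · rw [hH]; exact Subgroup.isComplement'_top_bot
  · have hFrob : IsFrobeniusComplement (MulAction.stabilizer G a₀) := by
      refine ⟨hH, ?_, ?_⟩
      · intro htop
        obtain ⟨b, hb⟩ := Fintype.exists_ne_of_one_lt_card (by omega) a₀
        obtain ⟨g, hg⟩ := one_trans G h2 a₀ b
        have : g ∈ MulAction.stabilizer G a₀ := by rw [htop]; trivial
        rw [MulAction.mem_stabilizer_iff] at this
        exact hb (hg.symm.trans this)
      · intro g hg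
        rw [eq_bot_iff]
        intro x hx
        obtain ⟨hx1, hx2⟩ := Subgroup.mem_inf.mp hx
        rw [mem_conj_stab] at hx2
        rw [MulAction.mem_stabilizer_iff] at hx1
        rw [MulAction.mem_stabilizer_iff] at hg
        rw [Subgroup.mem_bot]
        exact sharp_aux G hsharp (Ne.symm hg) hx1 hx2
    obtain ⟨N, hN1, hN2, hN3⟩ := Cfsg.Agent.S0035.result _ hFrob
    refine ⟨N, hN2, ?_, hN3⟩
    intro g
    rw [← SetLike.mem_coe, hN1]
    unfold frobeniusKernel
    simp only [Set.mem_ofPred_eq]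
    constructor
    · rintro (h | h)
      · exact Or.inl h
      · right
        intro a ha
        obtain ⟨k, hk⟩ := one_trans G h2 a₀ a
        apply h k
        rw [mem_conj_stab, hk, ha]
    · rintro (h | h)
      · exact Or.inl h
      · right
        intro k hk
        rw [mem_conj_stab] at hk
        exact h _ hk

end

/-- A finite sharply doubly transitive permutation group has degree a prime power `p ^ j`; a Sylow `p`-subgroup is normal, elementary abelian and regular, and consists of the identity together with the elements without fixed points. (Frobenius' Theorem is not needed.) -/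
theorem result {α : Type*} [Fintype α] [DecidableEq α] (G : Subgroup (Equiv.Perm α)) [MulAction.IsMultiplyPretransitive G α 2] (hsharp : ∀ x : Fin 2 ↪ α, MulAction.stabilizer G x = ⊥) (h2 : 2 ≤ Fintype.card α) : ∃ p j : ℕ, p.Prime ∧ 1 ≤ j ∧ Fintype.card α = p ^ j ∧ ∀ (hp : Fact p.Prime) (P : Sylow p G), (P : Subgroup G).Normal ∧ IsMulCommutative (P : Subgroup G) ∧ (∀ x ∈ (P : Subgroup G), x ^ p = 1) ∧ MulAction.IsPretransitive (P : Subgroup G) α ∧ (∀ a : α, MulAction.stabilizer (P : Subgroup G) a = ⊥) ∧ ∀ g : G, g ∈ (P : Subgroup G) ↔ g = 1 ∨ ∀ a : α, g • a ≠ a := by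
  classical
  have hne : Nonempty α := by
    rw [← Fintype.card_pos_iff]; omega
  obtain ⟨a₀⟩ := hne
  obtain ⟨N, hNn, hNK, hNc⟩ := exists_kernel G hsharp h2 a₀
  have : MulAction.IsPretransitive G α := ⟨fun a c => one_trans G h2 a c⟩
  have hcardN : Nat.card N = Fintype.card α := by
    have h1 := hNc.card_mul_card
    have h2' := Subgroup.card_mul_index (MulAction.stabilizer G a₀)
    have h3 := MulAction.index_stabilizer_of_transitive G a₀
    rw [h3, ← h1, mul_comm] at h2'
    have h4 := Nat.eq_of_mul_eq_mul_right Nat.card_pos h2'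
    rw [← h4, Nat.card_eq_fintype_card]
  have hfree : ∀ x ∈ N, ∀ a : α, x • a = a → x = 1 := by
    intro x hx a ha
    rcases (hNK x).mp hx with h | h
    · exact h
    · exact absurd ha (h a)
  have hsurj : ∀ a : α, ∃ x : N, (x : G) • a₀ = a := by
    have hinj : Function.Injective (fun x : N => (x : G) • a₀) := by
      intro x y hxy
      have h1 : ((y : G)⁻¹ * x) • a₀ = a₀ := by
        rw [mul_smul]; simp only at hxy; rw [hxy, inv_smul_smul]
      have h3 := hfree _ (N.mul_mem (N.inv_mem y.2) x.2) a₀ h1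
      rw [inv_mul_eq_one] at h3
      exact Subtype.ext h3.symm
    have hbij : Function.Bijective (fun x : N => (x : G) • a₀) :=
      hinj.bijective_of_nat_card_le (by rw [hcardN, Nat.card_eq_fintype_card])
    exact hbij.2
  have hconj : ∀ x ∈ N, ∀ y ∈ N, x ≠ 1 → y ≠ 1 → ∃ h : G, h * x * h⁻¹ = y := by
    intro x hx y hy hx1 hy1
    have hxa : x • a₀ ≠ a₀ := fun h => hx1 (hfree x hx a₀ h)
    have hya : y • a₀ ≠ a₀ := fun h => hy1 (hfree y hy a₀ h)
    obtain ⟨h, hh1, hh2⟩ := two_trans G (Ne.symm hxa) (Ne.symm hya)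
    refine ⟨h, ?_⟩
    have hmem : y⁻¹ * (h * x * h⁻¹) ∈ N := N.mul_mem (N.inv_mem hy) (hNn.conj_mem x hx h)
    have hfix : (y⁻¹ * (h * x * h⁻¹)) • a₀ = a₀ := by
      rw [mul_smul, mul_smul, mul_smul, inv_smul_eq_iff.mpr hh1.symm, hh2, inv_smul_smul]
    have h3 := hfree _ hmem a₀ hfix
    rw [inv_mul_eq_one] at h3
    exact h3.symm
  have hpp : (Nat.minFac (Fintype.card α)).Prime := Nat.minFac_prime (by omega)
  obtain ⟨p, hpdef⟩ : ∃ p, p = Nat.minFac (Fintype.card α) := ⟨_, rfl⟩
  rw [← hpdef] at hpp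
  have : Fact p.Prime := ⟨hpp⟩
  have hpα : p ∣ Fintype.card α := hpdef ▸ Nat.minFac_dvd _
  have hpn : p ∣ Nat.card N := hcardN ▸ hpα
  obtain ⟨x0, hx0⟩ := exists_prime_orderOf_dvd_card' p hpn
  have hx01 : (x0 : G) ≠ 1 := by
    intro h
    have : x0 = 1 := Subtype.ext h
    rw [this, orderOf_one] at hx0
    exact hpp.one_lt.ne hx0
  have hx0p : (x0 : G) ^ p = 1 := by
    have h1 := pow_orderOf_eq_one x0
    rw [hx0] at h1
    have h3 := congrArg Subtype.val h1
    simpa using h3
  have hexp : ∀ y ∈ N, y ^ p = 1 := by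
    intro y hy
    by_cases hy1 : y = 1
    · rw [hy1, one_pow]
    · obtain ⟨h, rfl⟩ := hconj x0 x0.2 y hy hx01 hy1
      rw [conj_pow, hx0p]; group
  have hNp : IsPGroup p N := fun y => ⟨1, by rw [pow_one]; exact Subtype.ext (hexp y y.2)⟩
  obtain ⟨j, hj⟩ := IsPGroup.iff_card.mp hNp
  have hj1 : 1 ≤ j := by
    by_contra hcon
    have hj0 : j = 0 := by omega
    subst hj0
    rw [pow_zero, hcardN] at hj
    omega
  have hcomm : ∀ y ∈ N, ∀ m ∈ N, y * m = m * y := by
    have : Nontrivial N := by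
      rw [← Finite.one_lt_card_iff_nontrivial, hcardN]; omega
    have := hNp.center_nontrivial
    obtain ⟨z, hz⟩ := exists_ne (1 : Subgroup.center N)
    have hzc : ∀ m : N, m * z = z * m := fun m => (Subgroup.mem_center_iff.mp z.2 m)
    have hz1 : ((z : N) : G) ≠ 1 := by
      intro h
      apply hz
      exact Subtype.ext (Subtype.ext h)
    intro y hy m hm
    by_cases hy1 : y = 1
    · rw [hy1]; group
    · obtain ⟨h, rfl⟩ := hconj (z : N) (z : N).2 y hy hz1 hy1
      have hmem : h⁻¹ * m * h ∈ N := by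
        have := hNn.conj_mem m hm h⁻¹
        simpa using this
      have key := hzc ⟨h⁻¹ * m * h, hmem⟩
      have key' : h⁻¹ * m * h * ((z : N) : G) = ((z : N) : G) * (h⁻¹ * m * h) :=
        congrArg Subtype.val key
      calc h * ((z : N) : G) * h⁻¹ * m = h * (((z : N) : G) * (h⁻¹ * m * h)) * h⁻¹ := by group
        _ = h * (h⁻¹ * m * h * ((z : N) : G)) * h⁻¹ := by rw [key']
        _ = m * (h * ((z : N) : G) * h⁻¹) := by group
  refine ⟨p, j, hpp, hj1, by rw [← hcardN, hj], ?_⟩
  intro hp P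
  have hPN : (P : Subgroup G) = N := by
    have hle : (P : Subgroup G) ≤ N := by
      intro g hg
      obtain ⟨k, hk⟩ := P.isPGroup' ⟨g, hg⟩
      have hk' : g ^ p ^ k = 1 := by
        have h3 := congrArg Subtype.val hk
        simpa using h3
      rw [hNK]
      by_contra hcon
      push Not at hcon
      obtain ⟨hg1, a, ha⟩ := hcon
      obtain ⟨b, hba, hb⟩ := exists_second_fixed G (p := p) hpα g hk' ha
      exact hg1 (sharp_aux G hsharp hba.symm ha hb)
    exact (P.is_maximal' hNp hle).symm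
  suffices h : ∀ Q : Subgroup G, Q = N → (Q.Normal ∧ IsMulCommutative Q ∧ (∀ x ∈ Q, x ^ p = 1) ∧
      MulAction.IsPretransitive Q α ∧ (∀ a : α, MulAction.stabilizer Q a = ⊥) ∧
      ∀ g : G, g ∈ Q ↔ g = 1 ∨ ∀ a : α, g • a ≠ a) from h _ hPN
  rintro Q rfl
  refine ⟨hNn, ⟨⟨fun a b => Subtype.ext (hcomm a a.2 b b.2)⟩⟩, hexp, ⟨fun a b => ?_⟩, fun a => ?_, hNK⟩
  · obtain ⟨x, hx⟩ := hsurj a
    obtain ⟨y, hy⟩ := hsurj b
    refine ⟨y * x⁻¹, ?_⟩
    rw [← hx, ← hy]
    show ((y * x⁻¹ : Q) : G) • ((x : G) • a₀) = (y : G) • a₀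
    rw [Subgroup.coe_mul, Subgroup.coe_inv, mul_smul, inv_smul_smul]
  · rw [eq_bot_iff]
    intro x hx
    rw [MulAction.mem_stabilizer_iff] at hx
    rw [Subgroup.mem_bot]
    exact Subtype.ext (hfree x x.2 a hx)

end Cfsg.Agent.S0680
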