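import Cfsg.Statements.S0681
import Cfsg.Agent.Lib.Helper16.NearField

set_option autoImplicit false
open Cfsg

namespace Cfsg.Agent.S0681

open Cfsg.Agent.Lib.Helper16

variable {F : Type*} [Cfsg.NearField F]

/-- the affine maps as a subgroup -/
def affH : Subgroup (Equiv.Perm F) where
  carrier := {σ | ∃ a b : F, a ≠ 0 ∧ ∀ x : F, σ x = x * a + b}
  one_mem' := ⟨1, 0, (Cfsg.NearField.zero_ne_one (F := F)).symm, fun x => by simp⟩
  mul_mem' := by
    rintro σ τ ⟨a, b, ha, hσ⟩ ⟨c, d, hc, hτ⟩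
    refine ⟨c * a, d * a + b, NF.mul_ne_zero' hc ha, fun x => ?_⟩
    rw [Equiv.Perm.coe_mul, Function.comp_apply, hτ, hσ, Cfsg.NearField.right_distrib,
      mul_assoc, add_assoc]
  inv_mem' := by
    rintro σ ⟨a, b, ha, hσ⟩
    obtain ⟨a', h1, h2⟩ := Cfsg.NearField.exists_inv a ha
    refine ⟨a', -(b * a'), NF.inv_ne_zero' h1, fun x => ?_⟩
    apply σ.injective
    rw [Equiv.Perm.inv_def, Equiv.apply_symm_apply, hσ, Cfsg.NearField.right_distrib,
      mul_assoc, h2, mul_one, NF.neg_mul', mul_assoc, h2, mul_one, neg_add_cancel_right]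

theorem mem_affH (σ : Equiv.Perm F) :
    σ ∈ (affH : Subgroup (Equiv.Perm F)) ↔ ∃ a b : F, a ≠ 0 ∧ ∀ x : F, σ x = x * a + b :=
  Iff.rfl

/-- the affine permutation -/
def affPerm (a a' b : F) (h1 : a * a' = 1) (h2 : a' * a = 1) : Equiv.Perm F where
  toFun x := x * a + b
  invFun y := (y - b) * a'
  left_inv x := by
    simp only [add_sub_cancel_right]
    rw [mul_assoc, h1, mul_one]
  right_inv y := by
    simp only
    rw [mul_assoc, h2, mul_one, sub_add_cancel]

theorem result {F : Type*} [Cfsg.NearField F] : ∃ H : Subgroup (Equiv.Perm F), (∀ σ : Equiv.Perm F, σ ∈ H ↔ ∃ a b : F, a ≠ 0 ∧ ∀ x : F, σ x = x * a + b) ∧ MulAction.IsMultiplyPretransitive H F 2 ∧ ∀ x : Fin 2 ↪ F, MulAction.stabilizer H x = ⊥ := by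
  refine ⟨affH, mem_affH, ?_, ?_⟩
  · rw [MulAction.is_two_pretransitive_iff]
    intro x₁ x₂ y₁ y₂ hx hy
    have hx' : x₁ - x₂ ≠ 0 := sub_ne_zero.mpr hx
    have hy' : y₁ - y₂ ≠ 0 := sub_ne_zero.mpr hy
    obtain ⟨u, hu1, hu2⟩ := Cfsg.NearField.exists_inv (x₁ - x₂) hx'
    have hu0 : u ≠ 0 := NF.inv_ne_zero' hu1
    set a : F := u * (y₁ - y₂) with ha
    have ha0 : a ≠ 0 := NF.mul_ne_zero' hu0 hy'
    obtain ⟨a', ha1, ha2⟩ := Cfsg.NearField.exists_inv a ha0
    have hkey : x₁ * a - x₂ * a = y₁ - y₂ := by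
      rw [← NF.sub_mul', ha, ← mul_assoc, hu1, one_mul]
    set b : F := -(x₂ * a) + y₂ with hb
    refine ⟨⟨affPerm a a' b ha1 ha2, ⟨a, b, ha0, fun x => rfl⟩⟩, ?_, ?_⟩
    · change x₁ * a + b = y₁
      have : x₁ * a = y₁ - y₂ + x₂ * a := by rw [← hkey, sub_add_cancel]
      rw [this, hb, add_assoc, ← add_assoc (x₂ * a), add_neg_cancel, zero_add, sub_add_cancel]
    · change x₂ * a + b = y₂
      rw [hb, ← add_assoc, add_neg_cancel, zero_add]
  · intro x
    rw [eq_bot_iff]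
    rintro ⟨σ, a, b, ha, hσ⟩ hstab
    rw [MulAction.mem_stabilizer_iff] at hstab
    have h0 : σ (x 0) = x 0 := by
      have := congrArg (fun e : Fin 2 ↪ F => e 0) hstab
      exact this
    have h1 : σ (x 1) = x 1 := by
      have := congrArg (fun e : Fin 2 ↪ F => e 1) hstab
      exact this
    rw [hσ] at h0 h1
    have hne : x 0 - x 1 ≠ 0 := sub_ne_zero.mpr (x.injective.ne (by decide))
    have hsub : (x 0 - x 1) * a = (x 0 - x 1) * 1 := by
      rw [NF.sub_mul', mul_one]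
      have e0 : x 0 * a = x 0 - b := eq_sub_of_add_eq h0
      have e1 : x 1 * a = x 1 - b := eq_sub_of_add_eq h1
      rw [e0, e1, sub_sub_sub_cancel_right]
    have ha1 : a = 1 := by
      obtain ⟨u, hu1, hu2⟩ := Cfsg.NearField.exists_inv (x 0 - x 1) hne
      have := congrArg (fun t => u * t) hsub
      simp only [← mul_assoc, hu2, one_mul] at this
      exact this
    have hb0 : b = 0 := by
      rw [ha1, mul_one] at h0
      exact add_eq_left.mp h0
    rw [Subgroup.mem_bot]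
    apply Subtype.ext
    ext y
    change σ y = y
    rw [hσ, ha1, hb0, mul_one, add_zero]

end Cfsg.Agent.S0681
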