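import Cfsg.Statements.S0682
import Cfsg.Agent.Lib.Helper16.NearField
import Mathlib.GroupTheory.PGroup
import Mathlib.GroupTheory.Perm.Cycle.Type

set_option autoImplicit false
open Cfsg

namespace Cfsg.Agent.S0682

open Cfsg.Agent.Lib.Helper16

theorem nsmul_mul {F : Type*} [Cfsg.NearField F] (n : ℕ) (a c : F) : (n • a) * c = n • (a * c) := by
  induction n with
  | zero => simp [NF.zero_mul']
  | succ k ih => rw [succ_nsmul, succ_nsmul, Cfsg.NearField.right_distrib, ih]

theorem result {F : Type*} [Cfsg.NearField F] [Finite F] : ∃ p j : ℕ, p.Prime ∧ 1 ≤ j ∧ Nat.card F = p ^ j ∧ (∀ x y : F, x + y = y + x) ∧ ∀ x : F, p • x = 0 := by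
  classical
  haveI : Nontrivial F := ⟨⟨0, 1, Cfsg.NearField.zero_ne_one⟩⟩
  haveI : Fintype F := Fintype.ofFinite F
  -- a prime dividing the order
  have hcard : 1 < Nat.card F := Finite.one_lt_card
  obtain ⟨p, hp, hpd⟩ := Nat.exists_prime_and_dvd (Nat.ne_of_gt hcard)
  haveI : Fact p.Prime := ⟨hp⟩
  rw [Nat.card_eq_fintype_card] at hpd
  obtain ⟨e, he⟩ := exists_prime_addOrderOf_dvd_card p hpd
  have he0 : e ≠ 0 := by
    intro h
    rw [h, addOrderOf_zero] at he
    exact hp.one_lt.ne he
  have hpe : p • e = 0 := by rw [← he]; exact addOrderOf_nsmul_eq_zero e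
  obtain ⟨e', he1, he2⟩ := Cfsg.NearField.exists_inv e he0
  have hall : ∀ x : F, p • x = 0 := by
    intro x
    have : x = e * (e' * x) := by rw [← mul_assoc, he1, one_mul]
    rw [this, ← nsmul_mul, hpe, NF.zero_mul']
  -- p-group
  have hpg : IsPGroup p (Multiplicative F) := by
    intro g
    refine ⟨1, ?_⟩
    rw [pow_one]
    exact congrArg Multiplicative.ofAdd (hall g.toAdd)
  obtain ⟨j, hj⟩ := IsPGroup.iff_card.mp hpg
  have hj' : Nat.card F = p ^ j := by
    rw [← hj]; exact (Nat.card_congr Multiplicative.ofAdd.symm).symm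
  have hj1 : 1 ≤ j := by
    by_contra h
    have : j = 0 := by omega
    rw [this, pow_zero] at hj'
    omega
  -- centre
  haveI : Nontrivial (Multiplicative F) := Multiplicative.ofAdd.symm.nontrivial
  haveI : Finite (Multiplicative F) := Finite.of_equiv F Multiplicative.ofAdd
  haveI hcn : Nontrivial (Subgroup.center (Multiplicative F)) := hpg.center_nontrivial
  obtain ⟨⟨z, hz⟩, hz1⟩ := exists_ne (1 : Subgroup.center (Multiplicative F))
  have hz0 : z.toAdd ≠ 0 := by
    intro h
    apply hz1
    apply Subtype.ext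
    exact congrArg Multiplicative.ofAdd h
  have hzc : ∀ y : F, z.toAdd + y = y + z.toAdd := by
    intro y
    rw [Subgroup.mem_center_iff] at hz
    have := hz (Multiplicative.ofAdd y)
    exact (congrArg Multiplicative.toAdd this).symm
  obtain ⟨z', hz1', hz2'⟩ := Cfsg.NearField.exists_inv z.toAdd hz0
  have hcomm : ∀ x y : F, x + y = y + x := by
    intro x y
    by_cases hx : x = 0
    · rw [hx, zero_add, add_zero]
    · have hc0 : z' * x ≠ 0 := NF.mul_ne_zero' (NF.inv_ne_zero' hz1') hx
      obtain ⟨c', hc1, hc2⟩ := Cfsg.NearField.exists_inv (z' * x) hc0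
      have hxz : x = z.toAdd * (z' * x) := by rw [← mul_assoc, hz1', one_mul]
      have hy : y = (y * c') * (z' * x) := by rw [mul_assoc, hc2, mul_one]
      rw [hxz]
      conv_lhs => rw [hy]
      conv_rhs => rw [hy]
      rw [← Cfsg.NearField.right_distrib, ← Cfsg.NearField.right_distrib, hzc]
  exact ⟨p, j, hp, hj1, hj', hcomm, hall⟩

end Cfsg.Agent.S0682
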