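import Mathlib
import Cfsg.Statements.S0683
import Cfsg.Agent.S0680

set_option autoImplicit false
set_option linter.unusedSectionVars false
open Cfsg

namespace Cfsg.Agent.S0683

section
variable {α : Type*} [Fintype α] [DecidableEq α]

/-- The data extracted from a sharply 2-transitive group. -/
structure Data (H : Subgroup (Equiv.Perm α)) where
  N : Subgroup H
  normal : N.Normal
  o : α
  e : α
  hoe : o ≠ e
  free : ∀ n ∈ N, ∀ a : α, n • a = a → n = 1
  trans : ∀ a : α, ∃ n ∈ N, n • o = a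
  sharp : ∀ g : H, g • o = o → g • e = e → g = 1
  trans2 : ∀ a : α, a ≠ o → ∃ h : H, h • o = o ∧ h • e = a

namespace Data
variable {H : Subgroup (Equiv.Perm α)} (D : Data H)

noncomputable def nOf (x : α) : H := Classical.choose (D.trans x)

theorem nOf_mem (x : α) : D.nOf x ∈ D.N := (Classical.choose_spec (D.trans x)).1

theorem nOf_smul (x : α) : D.nOf x • D.o = x := (Classical.choose_spec (D.trans x)).2

theorem nOf_unique {n : H} (hn : n ∈ D.N) {x : α} (h : n • D.o = x) : n = D.nOf x := by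
  have h1 : ((D.nOf x)⁻¹ * n) • D.o = D.o := by
    rw [mul_smul, h, inv_smul_eq_iff, D.nOf_smul]
  have h2 := D.free _ (D.N.mul_mem (D.N.inv_mem (D.nOf_mem x)) hn) _ h1
  rw [inv_mul_eq_one] at h2
  exact h2.symm

theorem nOf_o : D.nOf D.o = 1 := (D.nOf_unique D.N.one_mem (one_smul _ _)).symm

noncomputable def hOf (a : α) : H :=
  if ha : a ≠ D.o then Classical.choose (D.trans2 a ha) else 1

theorem hOf_o (a : α) : D.hOf a • D.o = D.o := by
  unfold hOf
  split_ifs with ha
  · exact (Classical.choose_spec (D.trans2 a ha)).1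
  · exact one_smul _ _

theorem hOf_e {a : α} (ha : a ≠ D.o) : D.hOf a • D.e = a := by
  unfold hOf
  rw [dif_pos ha]
  exact (Classical.choose_spec (D.trans2 a ha)).2

theorem hOf_unique {h : H} (h1 : h • D.o = D.o) {a : α} (ha : a ≠ D.o) (h2 : h • D.e = a) :
    h = D.hOf a := by
  have h3 : ((D.hOf a)⁻¹ * h) • D.o = D.o := by
    rw [mul_smul, h1, inv_smul_eq_iff, D.hOf_o]
  have h4 : ((D.hOf a)⁻¹ * h) • D.e = D.e := by
    rw [mul_smul, h2, inv_smul_eq_iff, D.hOf_e ha]
  have h5 := D.sharp _ h3 h4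
  rw [inv_mul_eq_one] at h5
  exact h5.symm

theorem hOf_one : D.hOf D.e = 1 :=
  (D.hOf_unique (one_smul _ _) (Ne.symm D.hoe) (one_smul _ _)).symm

theorem smul_ne_o {h : H} (h1 : h • D.o = D.o) {x : α} (hx : x ≠ D.o) : h • x ≠ D.o := by
  intro h2
  apply hx
  have : h • x = h • D.o := by rw [h2, h1]
  exact MulAction.injective h this

theorem hOf_mul {a b : α} (ha : a ≠ D.o) (hb : b ≠ D.o) :
    D.hOf (D.hOf b • a) = D.hOf b * D.hOf a := by
  symm
  apply D.hOf_unique
  · rw [mul_smul, D.hOf_o, D.hOf_o]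
  · exact D.smul_ne_o (D.hOf_o b) ha
  · rw [mul_smul, D.hOf_e ha]

theorem nOf_add (y z : α) : D.nOf (D.nOf z • y) = D.nOf z * D.nOf y := by
  symm
  apply D.nOf_unique (D.N.mul_mem (D.nOf_mem z) (D.nOf_mem y))
  rw [mul_smul, D.nOf_smul]

theorem nOf_conj (h : H) (h1 : h • D.o = D.o) (y : α) :
    D.nOf (h • y) = h * D.nOf y * h⁻¹ := by
  symm
  apply D.nOf_unique (D.normal.conj_mem _ (D.nOf_mem y) h)
  rw [mul_smul, mul_smul, inv_smul_eq_iff.mpr h1.symm, D.nOf_smul]

/-- the additive group structure. -/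
noncomputable def addGroup : AddGroup α :=
  letI : Add α := ⟨fun x y => D.nOf y • x⟩
  letI : Zero α := ⟨D.o⟩
  letI : Neg α := ⟨fun x => (D.nOf x)⁻¹ • D.o⟩
  AddGroup.ofLeftAxioms
    (fun x y z => by
      show D.nOf z • (D.nOf y • x) = D.nOf (D.nOf z • y) • x
      rw [D.nOf_add, mul_smul])
    (fun y => D.nOf_smul y)
    (fun x => by
      show D.nOf x • ((D.nOf x)⁻¹ • D.o) = D.o
      rw [smul_inv_smul])

/-- the multiplicative monoid structure. -/
noncomputable def monoid : Monoid α where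
  mul x a := if a = D.o then D.o else D.hOf a • x
  one := D.e
  one_mul a := by
    show (if a = D.o then D.o else D.hOf a • D.e) = a
    split_ifs with ha
    · exact ha.symm
    · exact D.hOf_e ha
  mul_one x := by
    show (if D.e = D.o then D.o else D.hOf D.e • x) = x
    rw [if_neg (Ne.symm D.hoe), D.hOf_one, one_smul]
  mul_assoc x a b := by
    show (if b = D.o then D.o else D.hOf b • (if a = D.o then D.o else D.hOf a • x)) =
      (if (if b = D.o then D.o else D.hOf b • a) = D.o then D.o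
        else D.hOf (if b = D.o then D.o else D.hOf b • a) • x)
    by_cases hb : b = D.o
    · simp only [if_pos hb, if_true]
    · by_cases ha : a = D.o
      · rw [ha]
        simp only [if_neg hb, if_true, D.hOf_o]
      · simp only [if_neg hb, if_neg ha, if_neg (D.smul_ne_o (D.hOf_o b) ha)]
        rw [D.hOf_mul ha hb, mul_smul]

theorem add_def (x y : α) : @HAdd.hAdd α α α (@instHAdd α D.addGroup.toAdd) x y = D.nOf y • x := rfl

theorem zero_def : @OfNat.ofNat α 0 (@Zero.toOfNat0 α D.addGroup.toZero) = D.o := rfl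

theorem mul_def (x a : α) : @HMul.hMul α α α (@instHMul α D.monoid.toMul) x a =
    if a = D.o then D.o else D.hOf a • x := rfl

theorem one_def : @OfNat.ofNat α 1 (@One.toOfNat1 α D.monoid.toOne) = D.e := rfl

/-- the near-field structure. -/
noncomputable def nearField : Cfsg.NearField α :=
  { D.addGroup, D.monoid with
    right_distrib := fun x y c => by
      rw [D.add_def, D.mul_def, D.mul_def, D.mul_def, D.add_def]
      by_cases hc : c = D.o
      · simp only [if_pos hc, D.nOf_o, one_smul]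
      · simp only [if_neg hc]
        rw [D.nOf_conj _ (D.hOf_o c), mul_smul, mul_smul, inv_smul_smul]
    mul_zero := fun a => by
      rw [D.zero_def, D.mul_def, if_pos rfl]
    zero_ne_one := by
      rw [D.zero_def, D.one_def]; exact D.hoe
    exists_inv := fun a ha => by
      rw [D.zero_def] at ha
      have hb : (D.hOf a)⁻¹ • D.e ≠ D.o :=
        D.smul_ne_o (inv_smul_eq_iff.mpr (D.hOf_o a).symm) (Ne.symm D.hoe)
      have hhb : D.hOf ((D.hOf a)⁻¹ • D.e) = (D.hOf a)⁻¹ :=
        (D.hOf_unique (inv_smul_eq_iff.mpr (D.hOf_o a).symm) hb rfl).symm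
      refine ⟨(D.hOf a)⁻¹ • D.e, ?_, ?_⟩
      · rw [D.mul_def, D.one_def, if_neg hb, hhb, inv_smul_eq_iff, D.hOf_e ha]
      · rw [D.mul_def, D.one_def, if_neg ha, smul_inv_smul] }

theorem nf_add (x y : α) : letI := D.nearField; x + y = D.nOf y • x := rfl

theorem nf_mul (x a : α) :
    letI := D.nearField; x * a = if a = D.o then D.o else D.hOf a • x := rfl

theorem nf_zero : letI := D.nearField; (0 : α) = D.o := rfl

theorem main (D : Data H) : ∃ _ : Cfsg.NearField α, ∀ σ : Equiv.Perm α,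
    σ ∈ H ↔ ∃ a b : α, a ≠ 0 ∧ ∀ x : α, σ x = x * a + b := by
  refine ⟨D.nearField, fun σ => ?_⟩
  constructor
  · intro hσ
    obtain ⟨g, hg⟩ : ∃ g : H, (g : Equiv.Perm α) = σ := ⟨⟨σ, hσ⟩, rfl⟩
    obtain ⟨b, hb⟩ : ∃ b : α, b = σ D.o := ⟨_, rfl⟩
    obtain ⟨h, hh⟩ : ∃ h : H, h = (D.nOf b)⁻¹ * g := ⟨_, rfl⟩
    have h1 : h • D.o = D.o := by
      rw [hh, mul_smul, inv_smul_eq_iff, D.nOf_smul, hb, ← hg]; rfl
    obtain ⟨a, ha0⟩ : ∃ a : α, a = h • D.e := ⟨_, rfl⟩
    have ha : a ≠ D.o := ha0 ▸ D.smul_ne_o h1 (Ne.symm D.hoe)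
    have hh' : h = D.hOf a := D.hOf_unique h1 ha ha0.symm
    refine ⟨a, b, ha, fun x => ?_⟩
    rw [D.nf_add, D.nf_mul, if_neg ha, ← hh', hh, mul_smul, smul_inv_smul, ← hg]
    rfl
  · rintro ⟨a, b, ha, hσ⟩
    have ha' : a ≠ D.o := ha
    have h3 : σ = ((D.nOf b * D.hOf a : H) : Equiv.Perm α) := by
      ext x
      rw [hσ x, D.nf_add, D.nf_mul, if_neg ha', ← mul_smul]; rfl
    rw [h3]; exact (D.nOf b * D.hOf a).2

end Data
theorem exists_data (H : Subgroup (Equiv.Perm α)) [MulAction.IsMultiplyPretransitive H α 2]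
    (hsharp : ∀ x : Fin 2 ↪ α, MulAction.stabilizer H x = ⊥) (h2 : 2 ≤ Fintype.card α) :
    Nonempty (Data H) := by
  have hne : Nonempty α := by
    rw [← Fintype.card_pos_iff]; omega
  obtain ⟨o⟩ := hne
  obtain ⟨e, he⟩ := Fintype.exists_ne_of_one_lt_card (by omega) o
  obtain ⟨p, j, hp, -, -, hP⟩ := Cfsg.Agent.S0680.result H hsharp h2
  have : Fact p.Prime := ⟨hp⟩
  obtain ⟨P⟩ : Nonempty (Sylow p H) := inferInstance
  obtain ⟨hPn, -, -, hPt, hPs, -⟩ := hP ⟨hp⟩ P
  refine ⟨⟨(P : Subgroup H), hPn, o, e, he.symm, ?_, ?_, ?_, ?_⟩⟩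
  · intro n hn a ha
    have h1 : (⟨n, hn⟩ : (P : Subgroup H)) ∈ MulAction.stabilizer (P : Subgroup H) a := by
      rw [MulAction.mem_stabilizer_iff]; exact ha
    rw [hPs a, Subgroup.mem_bot] at h1
    exact congrArg Subtype.val h1
  · intro a
    obtain ⟨n, hn⟩ := MulAction.exists_smul_eq (P : Subgroup H) o a
    exact ⟨n, n.2, hn⟩
  · intro g h1 h3
    exact Cfsg.Agent.S0680.sharp_aux H hsharp he.symm h1 h3
  · intro a ha
    exact Cfsg.Agent.S0680.two_trans H he.symm (Ne.symm ha)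

end

/-- A finite sharply doubly transitive permutation group is the affine group of a near-field: the permuted set carries a near-field structure for which the group consists exactly of the maps `x ↦ x * a + b` with `a ≠ 0`. -/
theorem result {α : Type*} [Fintype α] [DecidableEq α] (H : Subgroup (Equiv.Perm α)) [MulAction.IsMultiplyPretransitive H α 2] (hsharp : ∀ x : Fin 2 ↪ α, MulAction.stabilizer H x = ⊥) (h2 : 2 ≤ Fintype.card α) : ∃ _ : Cfsg.NearField α, ∀ σ : Equiv.Perm α, σ ∈ H ↔ ∃ a b : α, a ≠ 0 ∧ ∀ x : α, σ x = x * a + b := by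
  obtain ⟨D⟩ := exists_data H hsharp h2
  exact D.main

end Cfsg.Agent.S0683
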