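import Cfsg.Statements.S0684
import Cfsg.Agent.Lib.Helper63.NearField

set_option autoImplicit false
open Cfsg

namespace Cfsg.Agent.S0684

/-- Point stabiliser of a sharply doubly transitive group not of semilinear type: a maximal normal abelian subgroup `A` of a linear group `H` that is regular on non-zero vectors and has no irreducible cyclic normal subgroup is cyclic and reducible, and the order of `A` divides `p ^ k - 1` for `k` the dimension of a minimal `A`-invariant subspace. -/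
theorem result {p : ℕ} [Fact p.Prime] {V : Type*} [AddCommGroup V] [Module (ZMod p) V] [Finite V] (H : Subgroup (V ≃ₗ[ZMod p] V)) (hreg : ∀ v w : V, v ≠ 0 → w ≠ 0 → ∃! h : H, (h : V ≃ₗ[ZMod p] V) v = w) (hI : ∀ A : Subgroup H, A.Normal → IsCyclic A → ∃ W : Submodule (ZMod p) V, W ≠ ⊥ ∧ W ≠ ⊤ ∧ ∀ a ∈ A, ∀ v ∈ W, ((a : H) : V ≃ₗ[ZMod p] V) v ∈ W) (A : Subgroup H) (hAn : A.Normal) (hAc : IsMulCommutative A) (hAmax : ∀ B : Subgroup H, B.Normal → IsMulCommutative B → A ≤ B → B = A) : IsCyclic A ∧ ∃ W : Submodule (ZMod p) V, W ≠ ⊥ ∧ W ≠ ⊤ ∧ (∀ a ∈ A, ∀ v ∈ W, ((a : H) : V ≃ₗ[ZMod p] V) v ∈ W) ∧ (∀ W' : Submodule (ZMod p) V, W' ≤ W → (∀ a ∈ A, ∀ v ∈ W', ((a : H) : V ≃ₗ[ZMod p] V) v ∈ W') → W' = ⊥ ∨ W' = W) ∧ Nat.card A ∣ p ^ Module.finrank (ZMod p) W - 1 := by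
  classical
  have hAc' : ∀ a ∈ A, ∀ b ∈ A, a * b = b * a := fun a ha b hb =>
    congrArg Subtype.val (hAc.is_comm.comm ⟨a, ha⟩ ⟨b, hb⟩)
  obtain ⟨W₁, hW₁bot, _, _⟩ := hI ⊥ inferInstance inferInstance
  obtain ⟨x₁, _, hx₁⟩ := Submodule.exists_mem_ne_zero_of_ne_bot hW₁bot
  obtain ⟨_, _, _, _, _, hcyc, _⟩ :=
    Cfsg.Agent.Lib.Helper63.nf_structure H hreg A hAn hAc' x₁ hx₁
  refine ⟨hcyc, ?_⟩
  obtain ⟨W₀, hW₀bot, hW₀top, hW₀inv⟩ := hI A hAn hcyc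
  obtain ⟨x, hxW₀, hx⟩ := Submodule.exists_mem_ne_zero_of_ne_bot hW₀bot
  obtain ⟨W, hxW, hWinv, hWgen, hWmin, _, hdvd, _, _⟩ :=
    Cfsg.Agent.Lib.Helper63.nf_structure H hreg A hAn hAc' x hx
  refine ⟨W, ?_, ?_, hWinv, hWmin, hdvd⟩
  · intro h
    rw [h] at hxW
    exact hx ((Submodule.mem_bot _).mp hxW)
  · intro h
    have := hWgen W₀ hxW₀ hW₀inv
    rw [h] at this
    exact hW₀top (eq_top_iff.mpr this)

end Cfsg.Agent.S0684
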