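import Cfsg.Statements.S0685
import Cfsg.Agent.Lib.Helper63.NearField

set_option autoImplicit false
open Cfsg

namespace Cfsg.Agent.S0685

/-- In a linear group over the prime field that is regular on non-zero vectors and has no irreducible cyclic normal subgroup, a maximal normal abelian subgroup is properly contained in its centraliser, which is non-abelian. -/
theorem result {p : ℕ} [Fact p.Prime] {V : Type*} [AddCommGroup V] [Module (ZMod p) V] [Finite V] (H : Subgroup (V ≃ₗ[ZMod p] V)) (hreg : ∀ v w : V, v ≠ 0 → w ≠ 0 → ∃! h : H, (h : V ≃ₗ[ZMod p] V) v = w) (hI : ∀ A : Subgroup H, A.Normal → IsCyclic A → ∃ W : Submodule (ZMod p) V, W ≠ ⊥ ∧ W ≠ ⊤ ∧ ∀ a ∈ A, ∀ v ∈ W, ((a : H) : V ≃ₗ[ZMod p] V) v ∈ W) (A : Subgroup H) (hAn : A.Normal) (hAc : IsMulCommutative A) (hAmax : ∀ B : Subgroup H, B.Normal → IsMulCommutative B → A ≤ B → B = A) : A < Subgroup.centralizer (A : Set H) ∧ ¬ IsMulCommutative (Subgroup.centralizer (A : Set H)) := by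
  classical
  have hAc' : ∀ a ∈ A, ∀ b ∈ A, a * b = b * a := fun a ha b hb =>
    congrArg Subtype.val (hAc.is_comm.comm ⟨a, ha⟩ ⟨b, hb⟩)
  have hAC : A ≤ Subgroup.centralizer (A : Set H) := by
    intro a ha
    rw [Subgroup.mem_centralizer_iff]
    intro b hb
    exact hAc' b hb a ha
  haveI := hAn
  have hCn : (Subgroup.centralizer (A : Set H)).Normal := inferInstance
  have hne : Subgroup.centralizer (A : Set H) ≠ A := by
    intro hCA
    obtain ⟨W₁, hW₁bot, _, _⟩ := hI ⊥ inferInstance inferInstance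
    obtain ⟨x₁, _, hx₁⟩ := Submodule.exists_mem_ne_zero_of_ne_bot hW₁bot
    obtain ⟨_, _, _, _, _, hcyc, _⟩ :=
      Cfsg.Agent.Lib.Helper63.nf_structure H hreg A hAn hAc' x₁ hx₁
    obtain ⟨W₀, hW₀bot, hW₀top, hW₀inv⟩ := hI A hAn hcyc
    obtain ⟨x, hxW₀, hx⟩ := Submodule.exists_mem_ne_zero_of_ne_bot hW₀bot
    obtain ⟨W, hxW, hWinv, hWgen, hWmin, _, hdvd, hact, hbound⟩ :=
      Cfsg.Agent.Lib.Helper63.nf_structure H hreg A hAn hAc' x hx
    have hWtop : W ≠ ⊤ := by
      intro h
      have := hWgen W₀ hxW₀ hW₀inv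
      rw [h] at this
      exact hW₀top (eq_top_iff.mpr this)
    have hb := hbound hWtop
    obtain ⟨d, hd⟩ : ∃ d, d = Module.finrank (ZMod p) W := ⟨_, rfl⟩
    rw [← hd] at hb hdvd hact
    have hfinGL : Finite (V ≃ₗ[ZMod p] V) :=
      Finite.of_injective (fun g : V ≃ₗ[ZMod p] V => (g : V → V)) DFunLike.coe_injective
    have hfinH : Finite H := inferInstance
    have hfinA : Finite A := inferInstance
    -- the order of `H`
    have hHcard : Nat.card H + 1 = Nat.card V := by
      have e : H ≃ {v : V // v ≠ 0} := by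
        refine Equiv.ofBijective (fun h => ⟨(h : V ≃ₗ[ZMod p] V) x, ?_⟩) ⟨?_, ?_⟩
        · intro h0
          apply hx
          have := (h : V ≃ₗ[ZMod p] V).map_eq_zero_iff.mp h0
          exact this
        · intro h h' hh
          have h1 : (h : V ≃ₗ[ZMod p] V) x = (h' : V ≃ₗ[ZMod p] V) x := congrArg Subtype.val hh
          have hne0 : (h' : V ≃ₗ[ZMod p] V) x ≠ 0 := by
            intro h0
            exact hx ((h' : V ≃ₗ[ZMod p] V).map_eq_zero_iff.mp h0)
          obtain ⟨g, _, hg⟩ := hreg x ((h' : V ≃ₗ[ZMod p] V) x) hx hne0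
          rw [hg h h1, hg h' rfl]
        · rintro ⟨w, hw⟩
          obtain ⟨h, hh, _⟩ := hreg x w hx hw
          exact ⟨h, Subtype.ext hh⟩
      letI : Fintype V := Fintype.ofFinite V
      rw [Nat.card_congr e, Nat.card_eq_fintype_card, Fintype.card_subtype_compl,
        Fintype.card_subtype_eq, Nat.card_eq_fintype_card]
      have : 0 < Fintype.card V := Fintype.card_pos_iff.mpr ⟨0⟩
      omega
    -- the action on `A`
    choose J hJd hJ using hact
    have hsame : ∀ h h' : H, J h = J h' → h'⁻¹ * h ∈ A := by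
      intro h h' hjj
      rw [← hCA, Subgroup.mem_centralizer_iff]
      intro a ha
      have h1 := hJ h a ha
      have h2 := hJ h' a ha
      rw [hjj] at h1
      have h3 : h * a * h⁻¹ = h' * a * h'⁻¹ := h1.trans h2.symm
      calc a * (h'⁻¹ * h) = h'⁻¹ * (h' * a * h'⁻¹) * h := by group
        _ = h'⁻¹ * (h * a * h⁻¹) * h := by rw [h3]
        _ = h'⁻¹ * h * a := by group
    let rep : ℕ → H := fun j => if hne : ∃ h : H, J h = j then hne.choose else 1
    have hrep : ∀ h : H, J (rep (J h)) = J h := by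
      intro h
      have hne : ∃ h' : H, J h' = J h := ⟨h, rfl⟩
      simp only [rep, dif_pos hne]
      exact hne.choose_spec
    let F : H → Fin d × A := fun h =>
      (⟨J h, hJd h⟩, ⟨(rep (J h))⁻¹ * h, hsame h (rep (J h)) (hrep h).symm⟩)
    have hF : Function.Injective F := by
      intro h h' hFF
      have h1 : J h = J h' := congrArg (fun z => (z.1 : ℕ)) hFF
      have h2 : (rep (J h))⁻¹ * h = (rep (J h'))⁻¹ * h' := congrArg (fun z => (z.2 : H)) hFF
      rw [h1] at h2
      exact mul_left_cancel h2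
    have hHle : Nat.card H ≤ d * Nat.card A := by
      have := Nat.card_le_card_of_injective F hF
      rw [Nat.card_prod, Nat.card_fin] at this
      exact this
    have hd0 : 0 < d := lt_of_le_of_lt (Nat.zero_le _) (hJd 1)
    have hp2 : 2 ≤ p := (Fact.out : p.Prime).two_le
    have hP2 : 2 ≤ p ^ d := by
      calc 2 ≤ p := hp2
        _ = p ^ 1 := (pow_one p).symm
        _ ≤ p ^ d := Nat.pow_le_pow_right (by omega) hd0
    have hdP : d < p ^ d := Nat.lt_pow_self (by omega)
    have hAle : Nat.card A ≤ p ^ d - 1 := Nat.le_of_dvd (by omega) hdvd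
    have hsq : p ^ (2 * d) = p ^ d * p ^ d := by rw [two_mul, pow_add]
    rw [hsq] at hb
    obtain ⟨Q, hQ⟩ : ∃ Q, p ^ d = Q + 1 := ⟨p ^ d - 1, by omega⟩
    rw [hQ] at hb hdP hAle
    have h1 : d * Nat.card A ≤ Q * Q := Nat.mul_le_mul (by omega) (by omega)
    nlinarith
  refine ⟨lt_of_le_of_ne hAC (Ne.symm hne), ?_⟩
  intro hcomm
  exact hne (hAmax _ hCn hcomm hAC)

end Cfsg.Agent.S0685
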