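import Cfsg.Statements.S0688
import Cfsg.Agent.Lib.Helper06.NFCore

set_option autoImplicit false
open Cfsg

namespace Cfsg.Agent.S0688

/-- Degrees of the soluble exceptional sharply doubly transitive groups: if a solvable linear group over the prime field is regular on the non-zero vectors of `V` and has no irreducible cyclic normal subgroup, then `V` has 25, 49, 121 or 529 elements. -/
theorem result {p : ℕ} [Fact p.Prime] {V : Type*} [AddCommGroup V] [Module (ZMod p) V] [Finite V] (H : Subgroup (V ≃ₗ[ZMod p] V)) (hreg : ∀ v w : V, v ≠ 0 → w ≠ 0 → ∃! h : H, (h : V ≃ₗ[ZMod p] V) v = w) (hI : ∀ A : Subgroup H, A.Normal → IsCyclic A → ∃ W : Submodule (ZMod p) V, W ≠ ⊥ ∧ W ≠ ⊤ ∧ ∀ a ∈ A, ∀ v ∈ W, ((a : H) : V ≃ₗ[ZMod p] V) v ∈ W) (hsolv : Group.IsSolvable H) : Nat.card V = 25 ∨ Nat.card V = 49 ∨ Nat.card V = 121 ∨ Nat.card V = 529 := by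
  classical
  have hVnt : Nontrivial V := by
    by_contra hnt
    rw [not_nontrivial_iff_subsingleton] at hnt
    obtain ⟨W, hW0, _, _⟩ := hI ⊥ inferInstance inferInstance
    exact hW0 (Subsingleton.elim _ _)
  have hfpf := Cfsg.Agent.Lib.Helper06.NF.fpf_of_reg H hreg
  have hcard := Cfsg.Agent.Lib.Helper06.NF.card_of_reg H hreg
  obtain ⟨A, hAn, hAc, hAcyc, hAmax, hcase⟩ :=
    Cfsg.Agent.Lib.Helper06.NF.structure_thm H hreg hsolv
  rcases hcase with ⟨_, hirr⟩ | ⟨hV, hp, _, _, _, Q, hQn, hQ8, hQna, _⟩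
  · exfalso
    obtain ⟨W, hW0, hW1, hW⟩ := hI A hAn hAcyc
    rcases hirr W hW with h | h
    · exact hW0 h
    · exact hW1 h
  · rcases hp with h3 | h5 | h7 | h11 | h23
    · exfalso
      have hV9 : Nat.card V = 9 := by rw [hV, h3]; norm_num
      have hH8 : Nat.card H = 8 := by omega
      have hna : ∃ u v : H, u * v ≠ v * u := by
        obtain ⟨u, _, v, _, huv⟩ := hQna
        exact ⟨u, v, huv⟩
      obtain ⟨A', hA'n, hA'c, hA'irr⟩ :=
        Cfsg.Agent.Lib.Helper06.NF.exists_irreducible_cyclic_of_nine h3 H hfpf hV9 hH8 hna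
      obtain ⟨W, hW0, hW1, hW⟩ := hI A' hA'n hA'c
      rcases hA'irr W hW with h | h
      · exact hW0 h
      · exact hW1 h
    · left; rw [hV, h5]; norm_num
    · right; left; rw [hV, h7]; norm_num
    · right; right; left; rw [hV, h11]; norm_num
    · right; right; right; rw [hV, h23]; norm_num

end Cfsg.Agent.S0688
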