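import Cfsg.Statements.S0691
import Cfsg.Agent.Lib.Helper16.Regular2
import Mathlib.Tactic.NormNum.Prime

set_option autoImplicit false
open Cfsg

namespace Cfsg.Agent.S0691

open Cfsg.Agent.Lib.Helper16

abbrev K := ZMod 5
abbrev T := K × K × K × K

def mulT (x y : T) : T :=
  (x.1 * y.1 + x.2.1 * y.2.2.1, x.1 * y.2.1 + x.2.1 * y.2.2.2,
   x.2.2.1 * y.1 + x.2.2.2 * y.2.2.1, x.2.2.1 * y.2.1 + x.2.2.2 * y.2.2.2)

def toM (x : T) : Matrix (Fin 2) (Fin 2) K := !![x.1, x.2.1; x.2.2.1, x.2.2.2]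

theorem toM_mul (x y : T) : toM (mulT x y) = toM x * toM y := by
  simp [toM, mulT]

theorem toM_inj : Function.Injective toM := by
  rintro ⟨a, b, c, d⟩ ⟨a', b', c', d'⟩ h
  have h00 := congrFun (congrFun h 0) 0
  have h01 := congrFun (congrFun h 0) 1
  have h10 := congrFun (congrFun h 1) 0
  have h11 := congrFun (congrFun h 1) 1
  simp [toM] at h00 h01 h10 h11
  rw [h00, h01, h10, h11]

def detm1 (x : T) : K := (x.1 - 1) * (x.2.2.2 - 1) - x.2.1 * x.2.2.1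

theorem det_toM_sub_one (x : T) : (toM x - 1).det = detm1 x := by
  simp [Matrix.det_fin_two, toM, detm1]

theorem toM_one : toM (1, 0, 0, 1) = 1 := by
  simp [toM, Matrix.one_fin_two]

def tbl : List T :=
  [(1,0,0,1), (2,0,0,3), (0,4,1,0), (1,2,1,3), (4,0,0,4), (0,2,2,0), (2,1,2,4), (0,3,3,0),
   (2,4,3,4), (4,2,1,2), (3,3,4,1), (3,0,0,2), (0,1,4,0), (4,3,4,2), (3,1,2,1), (1,4,3,3),
   (1,3,4,3), (3,2,1,1), (3,4,3,1), (1,1,2,3), (2,2,1,4), (2,3,4,4), (4,4,3,2), (4,1,2,2)]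

def F (n : ℕ) : T := tbl.getD n (0, 0, 0, 0)

def tA : T := (2, 0, 0, -2)

def sAl : List ℕ :=
  [1, 4, 7, 8, 11, 2, 9, 12, 13, 18, 19, 0, 5, 14, 3, 21, 6, 15, 16, 20,
   22, 23, 10, 17]

def sA (n : ℕ) : ℕ := sAl.getD n 0

theorem closedA : ∀ n < 24, mulT tA (F n) = F (sA n) ∧ sA n < 24 := by
  decide +kernel

def tB : T := (0, -1, 1, 0)

def sBl : List ℕ :=
  [2, 5, 4, 9, 12, 11, 14, 1, 6, 13, 15, 7, 0, 16, 18, 20, 3, 22, 8, 17,
   23, 19, 21, 10]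

def sB (n : ℕ) : ℕ := sBl.getD n 0

theorem closedB : ∀ n < 24, mulT tB (F n) = F (sB n) ∧ sB n < 24 := by
  decide +kernel

def tC : T := (1, 2, 1, -2)

def sCl : List ℕ :=
  [3, 6, 8, 10, 13, 9, 15, 16, 17, 19, 0, 18, 14, 20, 21, 1, 22, 2, 23, 5,
   4, 12, 7, 11]

def sC (n : ℕ) : ℕ := sCl.getD n 0

theorem closedC : ∀ n < 24, mulT tC (F n) = F (sC n) ∧ sC n < 24 := by
  decide +kernel

theorem F_inj : ∀ i < 24, ∀ j < 24, F i = F j → i = j := by
  decide +kernel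

theorem F_free : ∀ n < 24, n ≠ 0 → detm1 (F n) ≠ 0 := by
  decide +kernel

theorem schreier : ∀ n < 24, n = 0 ∨ ∃ m < n, sA m = n ∨ sB m = n ∨ sC m = n := by
  decide +kernel

theorem result (A : Matrix.GeneralLinearGroup (Fin 2) (ZMod 5)) (B : Matrix.GeneralLinearGroup (Fin 2) (ZMod 5)) (C : Matrix.GeneralLinearGroup (Fin 2) (ZMod 5)) (hA : (A : Matrix (Fin 2) (Fin 2) (ZMod 5)) = !![2, 0; 0, -2]) (hB : (B : Matrix (Fin 2) (Fin 2) (ZMod 5)) = !![0, -1; 1, 0]) (hC : (C : Matrix (Fin 2) (Fin 2) (ZMod 5)) = !![1, 2; 1, -2]) : Nat.card (Subgroup.closure ({A, B, C} : Set (Matrix.GeneralLinearGroup (Fin 2) (ZMod 5)))) = 24 ∧ ∀ v w : Fin 2 → ZMod 5, v ≠ 0 → w ≠ 0 → ∃! h : Subgroup.closure ({A, B, C} : Set (Matrix.GeneralLinearGroup (Fin 2) (ZMod 5))), Matrix.mulVec ((h : Matrix.GeneralLinearGroup (Fin 2) (ZMod 5)) : Matrix (Fin 2) (Fin 2) (ZMod 5)) v = w := by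
  haveI : Fact (Nat.Prime 5) := ⟨by norm_num⟩
  have hA' : (A : Matrix (Fin 2) (Fin 2) (ZMod 5)) = toM tA := by rw [hA]; rfl
  have hB' : (B : Matrix (Fin 2) (Fin 2) (ZMod 5)) = toM tB := by rw [hB]; rfl
  have hC' : (C : Matrix (Fin 2) (Fin 2) (ZMod 5)) = toM tC := by rw [hC]; rfl
  have hclosed : ∀ g ∈ ({A, B, C} : Set (Matrix.GeneralLinearGroup (Fin 2) (ZMod 5))),
      ∀ i : Fin 24, ∃ j : Fin 24,
        (g : Matrix (Fin 2) (Fin 2) (ZMod 5)) * toM (F i) = toM (F j) := by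
    intro g hg i
    rw [Set.mem_insert_iff, Set.mem_insert_iff, Set.mem_singleton_iff] at hg
    rcases hg with rfl | rfl | rfl
    · obtain ⟨h1, h2⟩ := closedA i.1 i.2
      exact ⟨⟨sA i, h2⟩, by rw [hA', ← toM_mul, h1]⟩
    · obtain ⟨h1, h2⟩ := closedB i.1 i.2
      exact ⟨⟨sB i, h2⟩, by rw [hB', ← toM_mul, h1]⟩
    · obtain ⟨h1, h2⟩ := closedC i.1 i.2
      exact ⟨⟨sC i, h2⟩, by rw [hC', ← toM_mul, h1]⟩
  have hmem' : ∀ n, n < 24 → ∃ h ∈ Subgroup.closure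
      ({A, B, C} : Set (Matrix.GeneralLinearGroup (Fin 2) (ZMod 5))),
      (h : Matrix (Fin 2) (Fin 2) (ZMod 5)) = toM (F n) := by
    intro n
    induction n using Nat.strong_induction_on with
    | _ n ih =>
      intro hn
      rcases schreier n hn with rfl | ⟨m, hm, hs⟩
      · exact ⟨1, one_mem _, by rw [Units.val_one]; exact toM_one.symm⟩
      · obtain ⟨h, hh, hm'⟩ := ih m hm (hm.trans hn)
        rcases hs with hs | hs | hs
        · refine ⟨A * h, mul_mem (Subgroup.subset_closure (by simp)) hh, ?_⟩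
          rw [Units.val_mul, hA', hm', ← toM_mul, (closedA m (hm.trans hn)).1, hs]
        · refine ⟨B * h, mul_mem (Subgroup.subset_closure (by simp)) hh, ?_⟩
          rw [Units.val_mul, hB', hm', ← toM_mul, (closedB m (hm.trans hn)).1, hs]
        · refine ⟨C * h, mul_mem (Subgroup.subset_closure (by simp)) hh, ?_⟩
          rw [Units.val_mul, hC', hm', ← toM_mul, (closedC m (hm.trans hn)).1, hs]
  have key := closure_card_and_regular (q := 5)
    ({A, B, C} : Set (Matrix.GeneralLinearGroup (Fin 2) (ZMod 5)))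
    (fun i : Fin 24 => toM (F i)) 0 toM_one hclosed (fun i => hmem' i.1 i.2)
    (fun i j h => Fin.ext (F_inj i i.2 j j.2 (toM_inj h)))
    (fun i hi => by
      rw [det_toM_sub_one]
      exact F_free i i.2 (fun h => hi (Fin.ext h)))
    (by simp)
  have e : 5 ^ 2 - 1 = 24 := by norm_num
  rw [e] at key
  exact key

end Cfsg.Agent.S0691
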