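import Cfsg.Statements.S0692
import Cfsg.Agent.Lib.Helper16.Regular2
import Mathlib.Tactic.NormNum.Prime

set_option autoImplicit false
open Cfsg

namespace Cfsg.Agent.S0692

open Cfsg.Agent.Lib.Helper16

abbrev K := ZMod 11
abbrev T := K × K × K × K

def mulT (x y : T) : T :=
  (x.1 * y.1 + x.2.1 * y.2.2.1, x.1 * y.2.1 + x.2.1 * y.2.2.2,
   x.2.2.1 * y.1 + x.2.2.2 * y.2.2.1, x.2.2.1 * y.2.1 + x.2.2.2 * y.2.2.2)

def toM (x : T) : Matrix (Fin 2) (Fin 2) K := !![x.1, x.2.1; x.2.2.1, x.2.2.2]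

theorem toM_mul (x y : T) : toM (mulT x y) = toM x * toM y := by
  simp [toM, mulT]

theorem toM_inj : Function.Injective toM := by
  rintro ⟨a, b, c, d⟩ ⟨a', b', c', d'⟩ h
  have h00 := congrFun (congrFun h 0) 0
  have h01 := congrFun (congrFun h 0) 1
  have h10 := congrFun (congrFun h 1) 0
  have h11 := congrFun (congrFun h 1) 1
  simp [toM] at h00 h01 h10 h11
  rw [h00, h01, h10, h11]

def detm1 (x : T) : K := (x.1 - 1) * (x.2.2.2 - 1) - x.2.1 * x.2.2.1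

theorem det_toM_sub_one (x : T) : (toM x - 1).det = detm1 x := by
  simp [Matrix.det_fin_two, toM, detm1]

theorem toM_one : toM (1, 0, 0, 1) = 1 := by
  simp [toM, Matrix.one_fin_two]

def tbl : List T :=
  [(1,0,0,1), (0,10,1,0), (2,4,1,8), (10,0,0,10), (4,9,8,10), (10,3,2,4), (8,7,10,2), (0,1,10,0),
   (9,7,10,3), (3,1,4,9), (7,3,2,1), (6,0,4,2), (1,9,8,7), (7,2,3,1), (1,8,9,7), (3,4,1,9),
   (0,5,2,7), (9,10,7,3), (7,9,6,0), (6,8,5,5), (1,2,10,10), (8,10,7,2), (4,8,9,10), (5,0,7,9),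
   (10,2,3,4), (9,4,0,5), (8,5,5,6), (2,10,10,1), (5,7,0,9), (6,6,6,8), (1,1,1,2), (9,0,4,5),
   (0,6,9,4), (2,1,4,8), (4,2,5,0), (5,3,6,6), (10,9,1,1), (7,6,9,0), (6,5,8,5), (1,10,2,10),
   (0,2,5,7), (10,6,5,2), (3,0,10,4), (6,10,9,6), (2,7,0,6), (3,6,6,5), (9,1,1,10), (6,4,0,2),
   (5,5,5,3), (10,10,10,9), (2,0,7,6), (6,1,2,6), (0,8,4,1), (10,5,6,2), (6,9,10,6), (1,7,3,0),
   (2,5,6,10), (4,0,1,3), (4,5,2,0), (5,6,3,6), (10,1,9,1), (0,9,6,4), (1,5,6,9), (8,0,1,7),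
   (5,1,2,5), (9,5,6,1), (7,10,0,8), (5,9,10,5), (0,7,3,10), (8,9,9,2), (3,3,3,7), (10,8,4,0),
   (5,10,9,5), (0,3,7,10), (1,6,5,9), (5,2,1,5), (10,4,8,0), (9,6,5,1), (7,0,10,8), (9,3,2,2),
   (3,8,7,8), (8,1,0,7), (2,9,8,9), (8,4,3,3), (7,1,5,4), (3,5,9,8), (2,6,5,10), (4,1,0,3),
   (6,2,1,6), (0,4,8,1), (3,2,2,9), (8,8,8,4), (1,3,7,0), (9,9,9,3), (4,3,3,8), (1,4,4,6),
   (5,8,8,2), (3,10,0,4), (6,7,7,1), (2,3,3,5), (2,8,9,9), (8,3,4,3), (9,2,3,2), (3,7,8,8),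
   (4,10,6,7), (8,6,2,3), (7,5,1,4), (3,9,5,8), (6,3,3,9), (7,7,7,4), (5,4,4,10), (2,2,2,8),
   (7,8,8,3), (10,7,7,5), (9,8,8,6), (7,4,4,4), (4,6,10,7), (8,2,6,3), (4,7,7,7), (4,4,4,7)]

def F (n : ℕ) : T := tbl.getD n (0, 0, 0, 0)

def tA : T := (0, -1, 1, 0)

def sAl : List ℕ :=
  [1, 3, 5, 7, 9, 8, 12, 0, 14, 13, 17, 18, 15, 21, 2, 24, 25, 22, 23, 29,
   30, 4, 33, 34, 6, 32, 38, 39, 40, 35, 36, 37, 44, 10, 11, 48, 49, 50, 45, 46,
   47, 54, 55, 56, 16, 59, 60, 61, 19, 20, 58, 65, 66, 67, 62, 63, 64, 71, 31, 26,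
   27, 28, 75, 76, 77, 72, 73, 74, 81, 82, 83, 78, 86, 87, 88, 41, 42, 43, 92, 93,
   94, 89, 90, 91, 98, 99, 51, 52, 53, 97, 102, 103, 57, 100, 101, 106, 107, 68, 104, 105,
   111, 112, 69, 70, 110, 114, 113, 108, 117, 118, 84, 79, 80, 116, 85, 109, 95, 96, 119, 115]

def sA (n : ℕ) : ℕ := sAl.getD n 0

theorem closedA : ∀ n < 120, mulT tA (F n) = F (sA n) ∧ sA n < 120 := by
  decide +kernel

def tB : T := (2, 4, 1, -3)

def sBl : List ℕ :=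
  [2, 4, 6, 8, 10, 11, 0, 13, 15, 16, 1, 19, 20, 22, 23, 3, 26, 27, 28, 5,
   31, 32, 7, 35, 36, 37, 9, 40, 41, 42, 43, 12, 45, 46, 47, 14, 50, 51, 52, 53,
   17, 18, 56, 57, 58, 21, 61, 62, 63, 64, 24, 25, 67, 68, 69, 70, 29, 30, 72, 73,
   74, 33, 34, 77, 78, 79, 80, 38, 39, 83, 84, 85, 44, 88, 89, 90, 91, 48, 49, 94,
   95, 96, 97, 54, 55, 93, 100, 101, 59, 60, 103, 104, 105, 71, 65, 66, 102, 108, 109, 110,
   112, 113, 81, 75, 76, 111, 115, 116, 82, 114, 119, 92, 86, 87, 98, 117, 118, 106, 107, 99]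

def sB (n : ℕ) : ℕ := sBl.getD n 0

theorem closedB : ∀ n < 120, mulT tB (F n) = F (sB n) ∧ sB n < 120 := by
  decide +kernel

theorem F_inj : ∀ i < 120, ∀ j < 120, F i = F j → i = j := by
  decide +kernel

theorem F_free : ∀ n < 120, n ≠ 0 → detm1 (F n) ≠ 0 := by
  decide +kernel

theorem schreier : ∀ n < 120, n = 0 ∨ ∃ m < n, sA m = n ∨ sB m = n := by
  decide +kernel

theorem result (A : Matrix.GeneralLinearGroup (Fin 2) (ZMod 11)) (B : Matrix.GeneralLinearGroup (Fin 2) (ZMod 11)) (hA : (A : Matrix (Fin 2) (Fin 2) (ZMod 11)) = !![0, -1; 1, 0]) (hB : (B : Matrix (Fin 2) (Fin 2) (ZMod 11)) = !![2, 4; 1, -3]) : Nat.card (Subgroup.closure ({A, B} : Set (Matrix.GeneralLinearGroup (Fin 2) (ZMod 11)))) = 120 ∧ ∀ v w : Fin 2 → ZMod 11, v ≠ 0 → w ≠ 0 → ∃! h : Subgroup.closure ({A, B} : Set (Matrix.GeneralLinearGroup (Fin 2) (ZMod 11))), Matrix.mulVec ((h : Matrix.GeneralLinearGroup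 (Fin 2) (ZMod 11)) : Matrix (Fin 2) (Fin 2) (ZMod 11)) v = w := by
  haveI : Fact (Nat.Prime 11) := ⟨by norm_num⟩
  have hA' : (A : Matrix (Fin 2) (Fin 2) (ZMod 11)) = toM tA := by rw [hA]; rfl
  have hB' : (B : Matrix (Fin 2) (Fin 2) (ZMod 11)) = toM tB := by rw [hB]; rfl
  have hclosed : ∀ g ∈ ({A, B} : Set (Matrix.GeneralLinearGroup (Fin 2) (ZMod 11))),
      ∀ i : Fin 120, ∃ j : Fin 120,
        (g : Matrix (Fin 2) (Fin 2) (ZMod 11)) * toM (F i) = toM (F j) := by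
    intro g hg i
    rw [Set.mem_insert_iff, Set.mem_singleton_iff] at hg
    rcases hg with rfl | rfl
    · obtain ⟨h1, h2⟩ := closedA i.1 i.2
      exact ⟨⟨sA i, h2⟩, by rw [hA', ← toM_mul, h1]⟩
    · obtain ⟨h1, h2⟩ := closedB i.1 i.2
      exact ⟨⟨sB i, h2⟩, by rw [hB', ← toM_mul, h1]⟩
  have hmem' : ∀ n, n < 120 → ∃ h ∈ Subgroup.closure
      ({A, B} : Set (Matrix.GeneralLinearGroup (Fin 2) (ZMod 11))),
      (h : Matrix (Fin 2) (Fin 2) (ZMod 11)) = toM (F n) := by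
    intro n
    induction n using Nat.strong_induction_on with
    | _ n ih =>
      intro hn
      rcases schreier n hn with rfl | ⟨m, hm, hs⟩
      · exact ⟨1, one_mem _, by rw [Units.val_one]; exact toM_one.symm⟩
      · obtain ⟨h, hh, hm'⟩ := ih m hm (hm.trans hn)
        rcases hs with hs | hs
        · refine ⟨A * h, mul_mem (Subgroup.subset_closure (by simp)) hh, ?_⟩
          rw [Units.val_mul, hA', hm', ← toM_mul, (closedA m (hm.trans hn)).1, hs]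
        · refine ⟨B * h, mul_mem (Subgroup.subset_closure (by simp)) hh, ?_⟩
          rw [Units.val_mul, hB', hm', ← toM_mul, (closedB m (hm.trans hn)).1, hs]
  have key := closure_card_and_regular (q := 11)
    ({A, B} : Set (Matrix.GeneralLinearGroup (Fin 2) (ZMod 11)))
    (fun i : Fin 120 => toM (F i)) 0 toM_one hclosed (fun i => hmem' i.1 i.2)
    (fun i j h => Fin.ext (F_inj i i.2 j j.2 (toM_inj h)))
    (fun i hi => by
      rw [det_toM_sub_one]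
      exact F_free i i.2 (fun h => hi (Fin.ext h)))
    (by simp)
  have e : 11 ^ 2 - 1 = 120 := by norm_num
  rw [e] at key
  exact key

end Cfsg.Agent.S0692
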