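import Cfsg.Statements.S0693
import Cfsg.Agent.Lib.Helper16.Regular2
import Mathlib.Tactic.NormNum.Prime

set_option autoImplicit false
open Cfsg

namespace Cfsg.Agent.S0693

open Cfsg.Agent.Lib.Helper16

abbrev K := ZMod 59
abbrev T := K × K × K × K

def mulT (x y : T) : T :=
  (x.1 * y.1 + x.2.1 * y.2.2.1, x.1 * y.2.1 + x.2.1 * y.2.2.2,
   x.2.2.1 * y.1 + x.2.2.2 * y.2.2.1, x.2.2.1 * y.2.1 + x.2.2.2 * y.2.2.2)

def toM (x : T) : Matrix (Fin 2) (Fin 2) K := !![x.1, x.2.1; x.2.2.1, x.2.2.2]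

theorem toM_mul (x y : T) : toM (mulT x y) = toM x * toM y := by
  simp [toM, mulT]

theorem toM_inj : Function.Injective toM := by
  rintro ⟨a, b, c, d⟩ ⟨a', b', c', d'⟩ h
  have h00 := congrFun (congrFun h 0) 0
  have h01 := congrFun (congrFun h 0) 1
  have h10 := congrFun (congrFun h 1) 0
  have h11 := congrFun (congrFun h 1) 1
  simp [toM] at h00 h01 h10 h11
  rw [h00, h01, h10, h11]

def detm1 (x : T) : K := (x.1 - 1) * (x.2.2.2 - 1) - x.2.1 * x.2.2.1

theorem det_toM_sub_one (x : T) : (toM x - 1).det = detm1 x := by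
  simp [Matrix.det_fin_two, toM, detm1]

theorem toM_one : toM (1, 0, 0, 1) = 1 := by
  simp [toM, Matrix.one_fin_two]

def tbl : List T :=
  [(1,0,0,1), (0,58,1,0), (9,15,49,49), (58,0,0,58), (15,50,49,10), (10,10,9,15), (49,44,10,9), (0,1,58,0),
   (50,44,10,10), (10,49,15,50), (44,10,9,49), (48,20,46,45), (49,50,49,44), (44,9,10,49), (49,49,50,44), (10,15,49,50),
   (20,11,45,13), (50,10,44,10), (13,14,48,20), (1,29,4,58), (55,48,23,4), (49,10,44,9), (15,49,50,10), (11,39,13,14),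
   (10,9,10,15), (14,46,20,11), (29,58,58,55), (48,4,4,36), (11,13,39,14), (55,1,1,29), (36,55,55,48), (14,20,46,11),
   (39,48,14,46), (9,49,15,49), (46,45,11,39), (58,30,55,1), (4,11,36,55), (13,48,14,20), (1,4,29,58), (55,23,48,4),
   (20,45,11,13), (35,32,31,25), (38,31,30,54), (28,35,34,32), (45,13,39,48), (30,1,1,4), (11,55,55,23), (48,46,20,45),
   (4,58,58,30), (23,4,4,11), (45,39,13,48), (32,24,25,28), (31,21,54,29), (35,31,32,25), (28,34,35,32), (29,5,38,31),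
   (25,27,28,35), (54,28,29,38), (46,11,45,39), (58,55,30,1), (4,36,11,55), (39,14,48,46), (24,27,28,34), (21,28,29,5),
   (31,24,25,27), (34,31,32,24), (5,30,31,21), (27,34,35,31), (28,5,38,30), (10,19,19,48), (5,38,38,53), (30,21,54,28),
   (27,35,34,31), (28,38,5,30), (24,28,27,34), (31,25,24,27), (30,54,21,28), (34,32,31,24), (5,31,30,21), (19,49,48,40),
   (38,54,53,21), (21,29,28,5), (40,11,10,19), (21,6,5,38), (25,16,42,34), (18,19,45,41), (25,28,27,35), (54,29,28,38),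
   (32,25,24,28), (31,54,21,29), (49,40,40,11), (54,21,21,6), (29,38,5,31), (11,19,19,49), (6,38,38,54), (16,34,34,17),
   (19,41,41,14), (38,30,31,54), (17,25,25,16), (14,18,18,19), (40,10,11,19), (21,5,6,38), (19,48,49,40), (38,53,54,21),
   (34,43,17,25), (41,40,14,18), (25,42,16,34), (18,45,19,41), (40,18,18,45), (56,52,52,3), (42,34,34,43), (48,40,40,10),
   (53,21,21,5), (43,25,25,42), (45,41,41,40), (52,3,3,7), (34,17,43,25), (41,14,40,18), (7,56,56,52), (3,7,7,56)]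

def F (n : ℕ) : T := tbl.getD n (0, 0, 0, 0)

def tA : T := (0, -1, 1, 0)

def sAl : List ℕ :=
  [1, 3, 5, 7, 9, 8, 12, 0, 14, 13, 17, 18, 15, 21, 2, 24, 25, 22, 23, 29,
   30, 4, 33, 34, 6, 32, 38, 39, 40, 35, 36, 37, 44, 10, 11, 48, 49, 50, 45, 46,
   47, 54, 55, 56, 16, 59, 60, 61, 19, 20, 58, 65, 66, 67, 62, 63, 64, 71, 31, 26,
   27, 28, 75, 76, 77, 72, 73, 74, 81, 82, 83, 78, 86, 87, 88, 41, 42, 43, 92, 93,
   94, 89, 90, 91, 98, 99, 51, 52, 53, 97, 102, 103, 57, 100, 101, 106, 107, 68, 104, 105,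
   111, 112, 69, 70, 110, 114, 113, 108, 117, 118, 84, 79, 80, 116, 85, 109, 95, 96, 119, 115]

def sA (n : ℕ) : ℕ := sAl.getD n 0

theorem closedA : ∀ n < 120, mulT tA (F n) = F (sA n) ∧ sA n < 120 := by
  decide +kernel

def tB : T := (9, 15, -10, -10)

def sBl : List ℕ :=
  [2, 4, 6, 8, 10, 11, 0, 13, 15, 16, 1, 19, 20, 22, 23, 3, 26, 27, 28, 5,
   31, 32, 7, 35, 36, 37, 9, 40, 41, 42, 43, 12, 45, 46, 47, 14, 50, 51, 52, 53,
   17, 18, 56, 57, 58, 21, 61, 62, 63, 64, 24, 25, 67, 68, 69, 70, 29, 30, 72, 73,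
   74, 33, 34, 77, 78, 79, 80, 38, 39, 83, 84, 85, 44, 88, 89, 90, 91, 48, 49, 94,
   95, 96, 97, 54, 55, 93, 100, 101, 59, 60, 103, 104, 105, 71, 65, 66, 102, 108, 109, 110,
   112, 113, 81, 75, 76, 111, 115, 116, 82, 114, 119, 92, 86, 87, 98, 117, 118, 106, 107, 99]

def sB (n : ℕ) : ℕ := sBl.getD n 0

theorem closedB : ∀ n < 120, mulT tB (F n) = F (sB n) ∧ sB n < 120 := by
  decide +kernel

theorem F_inj : ∀ i < 120, ∀ j < 120, F i = F j → i = j := by
  decide +kernel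

theorem F_free : ∀ n < 120, n ≠ 0 → detm1 (F n) ≠ 0 := by
  decide +kernel

theorem schreier : ∀ n < 120, n = 0 ∨ ∃ m < n, sA m = n ∨ sB m = n := by
  decide +kernel

def scalT (c : K) (x : T) : T := (c * x.1, c * x.2.1, c * x.2.2.1, c * x.2.2.2)

theorem toM_scalT (c : K) (x : T) : toM (scalT c x) = c • toM x := by
  ext i j
  fin_cases i <;> fin_cases j <;> simp [toM, scalT]

def detT (x : T) : K := x.1 * x.2.2.2 - x.2.1 * x.2.2.1

theorem det_toM (x : T) : (toM x).det = detT x := by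
  simp [Matrix.det_fin_two, toM, detT]

def pw (k : ℕ) : K := 4 ^ k

theorem F_det : ∀ n < 120, detT (F n) = 1 := by
  decide +kernel

theorem pw_inj : ∀ k < 29, ∀ l < 29, pw k ^ 2 = pw l ^ 2 → k = l := by
  decide +kernel

theorem pw_ne : ∀ k < 29, pw k ≠ 0 := by
  decide +kernel

theorem pw_29 : pw 29 = 1 := by
  decide +kernel

theorem F2_free : ∀ n < 120, ∀ k < 29, ¬ (n = 0 ∧ k = 0) → detm1 (scalT (pw k) (F n)) ≠ 0 := by
  decide +kernel

theorem result (A : Matrix.GeneralLinearGroup (Fin 2) (ZMod 59)) (B : Matrix.GeneralLinearGroup (Fin 2) (ZMod 59)) (C : Matrix.GeneralLinearGroup (Fin 2) (ZMod 59)) (hA : (A : Matrix (Fin 2) (Fin 2) (ZMod 59)) = !![0, -1; 1, 0]) (hB : (B : Matrix (Fin 2) (Fin 2) (ZMod 59)) = !![9, 15; -10, -10]) (hC : (C : Matrix (Fin 2) (Fin 2) (ZMod 59)) = !![4, 0; 0, 4]) : Nat.card (Subgroup.closure ({A, B, C} : Set (Matrix.GeneralLinearGroup (Fin 2) (ZMod 59)))) = 3480 ∧ ∀ v w : Fin 2 → ZMod 59,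 v ≠ 0 → w ≠ 0 → ∃! h : Subgroup.closure ({A, B, C} : Set (Matrix.GeneralLinearGroup (Fin 2) (ZMod 59))), Matrix.mulVec ((h : Matrix.GeneralLinearGroup (Fin 2) (ZMod 59)) : Matrix (Fin 2) (Fin 2) (ZMod 59)) v = w := by
  haveI : Fact (Nat.Prime 59) := ⟨by norm_num⟩
  have hA' : (A : Matrix (Fin 2) (Fin 2) (ZMod 59)) = toM tA := by rw [hA]; rfl
  have hB' : (B : Matrix (Fin 2) (Fin 2) (ZMod 59)) = toM tB := by rw [hB]; rfl
  have hC' : (C : Matrix (Fin 2) (Fin 2) (ZMod 59)) = (4 : ZMod 59) • (1 : Matrix (Fin 2) (Fin 2) (ZMod 59)) := by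
    rw [hC]
    ext i j
    fin_cases i <;> fin_cases j <;> simp
  let f : Fin 120 × Fin 29 → Matrix (Fin 2) (Fin 2) (ZMod 59) := fun p => toM (scalT (pw p.2) (F p.1))
  have hf : ∀ p, f p = pw p.2 • toM (F p.1) := fun p => toM_scalT _ _
  have hf0 : f (0, 0) = 1 := by
    rw [hf]
    change pw 0 • toM (F 0) = 1
    rw [show pw 0 = 1 from pow_zero _, one_smul]
    exact toM_one
  have hclosed : ∀ g ∈ ({A, B, C} : Set (Matrix.GeneralLinearGroup (Fin 2) (ZMod 59))),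
      ∀ p : Fin 120 × Fin 29, ∃ p' : Fin 120 × Fin 29,
        (g : Matrix (Fin 2) (Fin 2) (ZMod 59)) * f p = f p' := by
    intro g hg p
    obtain ⟨i, k⟩ := p
    rw [Set.mem_insert_iff, Set.mem_insert_iff, Set.mem_singleton_iff] at hg
    rcases hg with rfl | rfl | rfl
    · obtain ⟨h1, h2⟩ := closedA i.1 i.2
      refine ⟨(⟨sA i, h2⟩, k), ?_⟩
      rw [hf, hf, Matrix.mul_smul, hA', ← toM_mul, h1]
    · obtain ⟨h1, h2⟩ := closedB i.1 i.2
      refine ⟨(⟨sB i, h2⟩, k), ?_⟩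
      rw [hf, hf, Matrix.mul_smul, hB', ← toM_mul, h1]
    · by_cases hk : k.1 + 1 < 29
      · refine ⟨(i, ⟨k.1 + 1, hk⟩), ?_⟩
        rw [hf, hf, hC', Matrix.smul_mul, Matrix.one_mul, smul_smul]
        congr 1
        change (4 : ZMod 59) * 4 ^ k.1 = 4 ^ (k.1 + 1)
        rw [pow_succ, mul_comm]
      · refine ⟨(i, ⟨0, by norm_num⟩), ?_⟩
        rw [hf, hf, hC', Matrix.smul_mul, Matrix.one_mul, smul_smul]
        congr 1
        have hk' : k.1 = 28 := by have := k.2; omega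
        change (4 : ZMod 59) * 4 ^ k.1 = 4 ^ 0
        rw [hk', pow_zero, mul_comm, ← pow_succ]
        exact pw_29
  have hmem' : ∀ n, n < 120 → ∃ h ∈ Subgroup.closure
      ({A, B, C} : Set (Matrix.GeneralLinearGroup (Fin 2) (ZMod 59))),
      (h : Matrix (Fin 2) (Fin 2) (ZMod 59)) = toM (F n) := by
    intro n
    induction n using Nat.strong_induction_on with
    | _ n ih =>
      intro hn
      rcases schreier n hn with rfl | ⟨m, hm, hs⟩
      · exact ⟨1, one_mem _, by rw [Units.val_one]; exact toM_one.symm⟩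
      · obtain ⟨h, hh, hm'⟩ := ih m hm (hm.trans hn)
        rcases hs with hs | hs
        · refine ⟨A * h, mul_mem (Subgroup.subset_closure (by simp)) hh, ?_⟩
          rw [Units.val_mul, hA', hm', ← toM_mul, (closedA m (hm.trans hn)).1, hs]
        · refine ⟨B * h, mul_mem (Subgroup.subset_closure (by simp)) hh, ?_⟩
          rw [Units.val_mul, hB', hm', ← toM_mul, (closedB m (hm.trans hn)).1, hs]
  have hmem : ∀ p : Fin 120 × Fin 29, ∃ h ∈ Subgroup.closure
      ({A, B, C} : Set (Matrix.GeneralLinearGroup (Fin 2) (ZMod 59))), (h : Matrix (Fin 2) (Fin 2) (ZMod 59)) = f p := by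
    rintro ⟨i, k⟩
    obtain ⟨h, hh, hi⟩ := hmem' i.1 i.2
    refine ⟨C ^ k.1 * h, mul_mem (pow_mem (Subgroup.subset_closure (by simp)) _) hh, ?_⟩
    rw [hf, Units.val_mul, Units.val_pow_eq_pow_val, hC', smul_pow, one_pow, Matrix.smul_mul,
      Matrix.one_mul, hi]
    rfl
  have hinj : Function.Injective f := by
    rintro ⟨i, k⟩ ⟨j, l⟩ h
    have hdet := congrArg Matrix.det h
    rw [hf, hf, Matrix.det_smul, Matrix.det_smul, det_toM, det_toM, F_det i.1 i.2,
      F_det j.1 j.2, Fintype.card_fin, mul_one, mul_one] at hdet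
    have hkl : k.1 = l.1 := pw_inj k.1 k.2 l.1 l.2 hdet
    have hkl' : k = l := Fin.ext hkl
    subst hkl'
    rw [hf, hf] at h
    have h' : toM (F i.1) = toM (F j.1) := by
      have hne : pw k.1 ≠ 0 := pw_ne k.1 k.2
      have := congrArg (fun M => (pw k.1)⁻¹ • M) h
      simpa [smul_smul, inv_mul_cancel₀ hne] using this
    have hij : i = j := Fin.ext (F_inj i.1 i.2 j.1 j.2 (toM_inj h'))
    rw [hij]
  have hfree : ∀ p : Fin 120 × Fin 29, p ≠ (0, 0) → (f p - 1).det ≠ 0 := by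
    rintro ⟨i, k⟩ hp
    change (toM (scalT (pw k.1) (F i.1)) - 1).det ≠ 0
    rw [det_toM_sub_one]
    apply F2_free i.1 i.2 k.1 k.2
    rintro ⟨h1, h2⟩
    apply hp
    exact Prod.ext (Fin.ext h1) (Fin.ext h2)
  have key := closure_card_and_regular (q := 59)
    ({A, B, C} : Set (Matrix.GeneralLinearGroup (Fin 2) (ZMod 59))) f (0, 0) hf0 hclosed hmem hinj hfree (by simp)
  have e : 59 ^ 2 - 1 = 3480 := by norm_num
  rw [e] at key
  exact key

end Cfsg.Agent.S0693
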