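-- Statement S0694: the arithmetic condition for Dickson pairs.
import Mathlib
import Cfsg.Statements.S0694

set_option autoImplicit false
open Cfsg

namespace Cfsg.Agent.S0694

lemma modEq_iff_int (q N i : ℕ) : q ^ i ≡ 1 [MOD N] ↔ (N : ℤ) ∣ (q : ℤ) ^ i - 1 := by
  rw [Nat.ModEq.comm, Nat.modEq_iff_dvd]
  push_cast
  rfl

lemma modEq_iff_zmod (q N i : ℕ) : q ^ i ≡ 1 [MOD N] ↔ ((q : ZMod N)) ^ i = 1 := by
  rw [← ZMod.natCast_eq_natCast_iff]
  push_cast
  rfl

/-- the geometric sum of powers of `x ≡ 1 (mod r)` with `r` terms is divisible by `r`. -/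
lemma dvd_geom_sum (x : ℤ) (r : ℕ) (h : (r : ℤ) ∣ x - 1) :
    (r : ℤ) ∣ ∑ j ∈ Finset.range r, x ^ j := by
  rw [← ZMod.intCast_zmod_eq_zero_iff_dvd] at h ⊢
  push_cast at h ⊢
  have hx : (x : ZMod r) = 1 := sub_eq_zero.1 h
  rw [hx]
  simp

/-- Lemma A: if every prime factor of `n` divides `q - 1` then `n (q - 1)` divides `q ^ n - 1`. -/
lemma dvdA (q : ℤ) : ∀ n : ℕ, 0 < n → (∀ r : ℕ, r.Prime → r ∣ n → (r : ℤ) ∣ q - 1) →
    (n : ℤ) * (q - 1) ∣ q ^ n - 1 := by
  intro n
  induction n using Nat.strong_induction_on with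
  | _ n ih =>
    intro hn hpr
    by_cases h1 : n = 1
    · subst h1; simp
    have hr : (n.minFac).Prime := Nat.minFac_prime h1
    obtain ⟨n₁, hn₁⟩ := Nat.minFac_dvd n
    have hn₁pos : 0 < n₁ := by
      rcases Nat.eq_zero_or_pos n₁ with h | h
      · rw [h, mul_zero] at hn₁; omega
      · exact h
    have hn₁lt : n₁ < n := by
      have := hr.two_le
      nlinarith
    have ih1 := ih n₁ hn₁lt hn₁pos (fun r hr' hrd => hpr r hr' (by rw [hn₁]; exact Dvd.dvd.mul_left hrd _))
    have hrq : ((n.minFac : ℕ) : ℤ) ∣ q - 1 := hpr _ hr (Nat.minFac_dvd n)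
    have hx : ((n.minFac : ℕ) : ℤ) ∣ q ^ n₁ - 1 := by
      have := sub_dvd_pow_sub_pow q 1 n₁
      rw [one_pow] at this
      exact dvd_trans hrq this
    have hsum := dvd_geom_sum (q ^ n₁) n.minFac hx
    have hfac : q ^ n - 1 = (∑ j ∈ Finset.range n.minFac, (q ^ n₁) ^ j) * (q ^ n₁ - 1) := by
      rw [geom_sum_mul, ← pow_mul, mul_comm n₁, ← hn₁]
    rw [hfac]
    have : (n : ℤ) * (q - 1) = (n.minFac : ℤ) * ((n₁ : ℤ) * (q - 1)) := by
      conv_lhs => rw [hn₁]
      push_cast
      ring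
    rw [this]
    exact mul_dvd_mul hsum ih1

/-- splitting `n` into the part supported on the primes of `Q` and a part prime to `Q`. -/
lemma split (Q : ℕ) : ∀ n : ℕ, 0 < n → ∃ n' m : ℕ, n = n' * m ∧
    (∀ r : ℕ, r.Prime → r ∣ n' → r ∣ Q) ∧ Nat.Coprime m Q := by
  intro n
  induction n using Nat.strong_induction_on with
  | _ n ih =>
    intro hn
    by_cases hc : Nat.Coprime n Q
    · exact ⟨1, n, by simp, fun r hr h => absurd (Nat.dvd_one.1 h) hr.ne_one, hc⟩
    · obtain ⟨r, hr, hrn, hrQ⟩ := Nat.Prime.not_coprime_iff_dvd.1 hc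
      obtain ⟨n₁, hn₁⟩ := hrn
      have hn₁pos : 0 < n₁ := by
        rcases Nat.eq_zero_or_pos n₁ with h | h
        · rw [h, mul_zero] at hn₁; omega
        · exact h
      have hn₁lt : n₁ < n := by
        have := hr.two_le
        nlinarith
      obtain ⟨n', m, h1, h2, h3⟩ := ih n₁ hn₁lt hn₁pos
      refine ⟨r * n', m, by rw [hn₁, h1]; ring, ?_, h3⟩
      intro s hs hsd
      rcases (Nat.Prime.dvd_mul hs).1 hsd with h | h
      · rw [(Nat.prime_dvd_prime_iff_eq hs hr).1 h]; exact hrQ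
      · exact h2 s hs h

/-- Lemma C: for `q ≡ 3 (mod 4)` and even `k` with all prime factors dividing `q - 1`,
`2 k (q - 1)` divides `q ^ k - 1`. -/
lemma dvdC (q : ℤ) (hq4 : (4 : ℤ) ∣ q + 1) : ∀ k : ℕ, 0 < k → 2 ∣ k →
    (∀ r : ℕ, r.Prime → r ∣ k → (r : ℤ) ∣ q - 1) → 2 * (k : ℤ) * (q - 1) ∣ q ^ k - 1 := by
  intro k
  induction k using Nat.strong_induction_on with
  | _ k ih =>
    intro hk h2 hpr
    obtain ⟨h, rfl⟩ := h2
    have hhpos : 0 < h := by omega
    have hprh : ∀ r : ℕ, r.Prime → r ∣ h → (r : ℤ) ∣ q - 1 :=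
      fun r hr hrd => hpr r hr (Dvd.dvd.mul_left hrd 2)
    have hfac : q ^ (2 * h) - 1 = (q ^ h - 1) * (q ^ h + 1) := by ring
    rw [hfac]
    have hqodd : (2 : ℤ) ∣ q - 1 := by
      obtain ⟨c, hc⟩ := hq4
      exact ⟨2 * c - 1, by linarith⟩
    by_cases hodd : 2 ∣ h
    · -- `h` even: induction
      have ih1 := ih h (by omega) hhpos hodd hprh
      have h2' : (2 : ℤ) ∣ q ^ h + 1 := by
        have := sub_dvd_pow_sub_pow q 1 h
        rw [one_pow] at this
        have h3 : (2 : ℤ) ∣ q ^ h - 1 := dvd_trans hqodd this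
        obtain ⟨c, hc⟩ := h3
        exact ⟨c + 1, by linarith⟩
      have : 2 * ((2 * h : ℕ) : ℤ) * (q - 1) = (2 * (h : ℤ) * (q - 1)) * 2 := by
        push_cast; ring
      rw [this]
      exact mul_dvd_mul ih1 h2'
    · -- `h` odd: `4 ∣ q ^ h + 1`
      have hA := dvdA q h hhpos hprh
      have h4 : (4 : ℤ) ∣ q ^ h + 1 := by
        have hoddh : Odd h := by
          rw [← Nat.not_even_iff_odd, even_iff_two_dvd]; exact hodd
        have := Odd.add_dvd_pow_add_pow q 1 hoddh
        rw [one_pow] at this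
        exact dvd_trans hq4 this
      have : 2 * ((2 * h : ℕ) : ℤ) * (q - 1) = ((h : ℤ) * (q - 1)) * 4 := by
        push_cast; ring
      rw [this]
      exact mul_dvd_mul hA h4

/-- if `g ∣ j` and `q ^ g ≡ 1` then `q ^ j ≡ 1`. -/
lemma E_of_dvd (q N g j : ℕ) (h : q ^ g ≡ 1 [MOD N]) (hgj : g ∣ j) : q ^ j ≡ 1 [MOD N] := by
  rw [modEq_iff_zmod] at h ⊢
  obtain ⟨t, rfl⟩ := hgj
  rw [pow_mul, h, one_pow]

lemma E_gcd (q N i j : ℕ) (hi : q ^ i ≡ 1 [MOD N]) (hj : q ^ j ≡ 1 [MOD N]) :
    q ^ (Nat.gcd i j) ≡ 1 [MOD N] := by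
  rw [modEq_iff_zmod] at hi hj ⊢
  exact pow_gcd_eq_one.2 ⟨hi, hj⟩

/-- The Dickson pair condition: for a prime power `q` and `n > 1`, (every prime factor of `n` divides `q - 1`, and `4 ∣ n → 4 ∣ q - 1`) holds exactly when `q ^ n ≡ 1` modulo `n * (q - 1)` but `q ^ i` is not, for `0 < i < n`. -/
theorem result (q n : ℕ) (hq : IsPrimePow q) (hn : 1 < n) : ((∀ r : ℕ, r.Prime → r ∣ n → r ∣ q - 1) ∧ (4 ∣ n → 4 ∣ q - 1)) ↔ (q ^ n ≡ 1 [MOD n * (q - 1)] ∧ ∀ i : ℕ, 0 < i → i < n → ¬ q ^ i ≡ 1 [MOD n * (q - 1)]) := by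
  have hq2 : 2 ≤ q := hq.two_le
  have hcast : ((q - 1 : ℕ) : ℤ) = (q : ℤ) - 1 := by
    rw [Nat.cast_sub (by omega)]; simp
  have hprZ : ∀ m : ℕ, (∀ r : ℕ, r.Prime → r ∣ m → r ∣ q - 1) →
      ∀ r : ℕ, r.Prime → r ∣ m → (r : ℤ) ∣ (q : ℤ) - 1 := by
    intro m hm r hr hrm
    rw [← hcast]
    exact Int.natCast_dvd_natCast.2 (hm r hr hrm)
  constructor
  · rintro ⟨H1, H2⟩
    have hEn : q ^ n ≡ 1 [MOD n * (q - 1)] := by
      rw [modEq_iff_int]
      push_cast
      rw [hcast]
      exact dvdA q n (by omega) (hprZ n H1)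
    refine ⟨hEn, ?_⟩
    intro i hi hin hEi
    -- reduce to `n = r * k` with `E k`
    have hEg := E_gcd q _ i n hEi hEn
    set g := Nat.gcd i n with hg
    have hgn : g ∣ n := Nat.gcd_dvd_right i n
    have hgpos : 0 < g := Nat.gcd_pos_of_pos_left n hi
    have hglt : g < n := lt_of_le_of_lt (Nat.le_of_dvd hi (Nat.gcd_dvd_left i n)) hin
    obtain ⟨t, ht⟩ := hgn
    have ht1 : t ≠ 1 := by
      intro h; rw [h, mul_one] at ht; omega
    set r := t.minFac with hr_def
    have hr : r.Prime := Nat.minFac_prime ht1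
    obtain ⟨t', ht'⟩ := Nat.minFac_dvd t
    have hnrk : n = r * (g * t') := by rw [ht, ht']; ring
    set k := g * t' with hk
    have hkpos : 0 < k := by
      rcases Nat.eq_zero_or_pos k with h | h
      · rw [h, mul_zero] at hnrk; omega
      · exact h
    have hEk : q ^ k ≡ 1 [MOD n * (q - 1)] := E_of_dvd q _ g k hEg (Dvd.intro t' rfl)
    have hrn : r ∣ n := ⟨k, hnrk⟩
    have hrq : r ∣ q - 1 := H1 r hr hrn
    have : Fact r.Prime := ⟨hr⟩
    -- divisibility in ℕ
    have hdvd : n * (q - 1) ∣ q ^ k - 1 := by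
      have := (Nat.modEq_iff_dvd' (Nat.one_le_pow k q (by omega))).1 hEk.symm
      exact this
    have hne : q ^ k - 1 ≠ 0 := by
      have : 2 ^ k ≤ q ^ k := Nat.pow_le_pow_left hq2 k
      have h2k : 2 ≤ 2 ^ k := by
        calc 2 = 2 ^ 1 := by norm_num
          _ ≤ 2 ^ k := Nat.pow_le_pow_right (by norm_num) hkpos
      omega
    have hq1ne : q - 1 ≠ 0 := by omega
    have hval : padicValNat r (n * (q - 1)) ≤ padicValNat r (q ^ k - 1) := by
      rw [← padicValNat_dvd_iff_le hne]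
      exact dvd_trans pow_padicValNat_dvd hdvd
    have hvalN : padicValNat r (n * (q - 1)) = 1 + padicValNat r k + padicValNat r (q - 1) := by
      rw [padicValNat.mul (by omega) hq1ne, hnrk, padicValNat.mul hr.ne_zero (by omega),
        padicValNat_self]
    have hnrq : ¬ r ∣ q := by
      intro h
      have : r ∣ q - (q - 1) := Nat.dvd_sub h hrq
      rw [show q - (q - 1) = 1 by omega] at this
      exact hr.one_lt.ne' (Nat.dvd_one.1 this)
    rcases hr.eq_two_or_odd' with h2 | hodd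
    · -- r = 2
      have hqodd : ¬ 2 ∣ q := by rw [← h2]; exact hnrq
      by_cases hkev : Even k
      · have h4n : 4 ∣ n := by
          obtain ⟨c, hc⟩ := hkev
          exact ⟨c, by rw [hnrk, h2, hc]; ring⟩
        have h4q := H2 h4n
        have hlte := padicValNat.pow_two_sub_one (by omega : 1 < q) hqodd (by omega : k ≠ 0) hkev
        have hq1 : padicValNat 2 (q + 1) = 1 := by
          have h2q : 2 ∣ q + 1 := by omega
          have h4q' : ¬ 4 ∣ q + 1 := by omega
          have hle : 1 ≤ padicValNat 2 (q + 1) := by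
            rw [← padicValNat_dvd_iff_le (by omega)]; simpa using h2q
          have hlt : ¬ 2 ≤ padicValNat 2 (q + 1) := by
            rw [← padicValNat_dvd_iff_le (by omega)]; simpa using h4q'
          omega
        rw [h2] at hval hvalN
        omega
      · -- k odd: the geometric sum is odd
        have hkodd : Odd k := Nat.not_even_iff_odd.1 hkev
        have hfac : q ^ k - 1 = (q - 1) * ∑ j ∈ Finset.range k, q ^ j := by
          have := Nat.geomSum_eq hq2 k
          rw [this]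
          have hd : q - 1 ∣ q ^ k - 1 := Nat.sub_one_dvd_pow_sub_one q k
          rw [Nat.mul_div_cancel' hd]
        rw [hfac, mul_comm n] at hdvd
        have h2S : n ∣ ∑ j ∈ Finset.range k, q ^ j :=
          Nat.dvd_of_mul_dvd_mul_left (by omega) hdvd
        have hSodd : Odd (∑ j ∈ Finset.range k, q ^ j) := by
          rw [Finset.odd_sum_iff_odd_card_odd]
          have hqo : Odd q := by
            rw [← Nat.not_even_iff_odd, even_iff_two_dvd]; exact hqodd
          have : (Finset.range k).filter (fun j => Odd (q ^ j)) = Finset.range k := by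
            apply Finset.filter_true_of_mem
            intro j _
            exact hqo.pow
          rw [this, Finset.card_range]
          exact hkodd
        have : 2 ∣ ∑ j ∈ Finset.range k, q ^ j := dvd_trans (h2 ▸ hrn) h2S
        rw [← even_iff_two_dvd] at this
        exact (Nat.not_even_iff_odd.2 hSodd) this
    · -- r odd
      have hlte := padicValNat.pow_sub_pow (p := r) hodd (by omega : 1 < q)
        (by simpa using hrq) hnrq (by omega : k ≠ 0)
      rw [one_pow] at hlte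
      omega
  · rintro ⟨hEn, hmin⟩
    set N := n * (q - 1) with hN
    have hcop : Nat.Coprime q N := by
      have h1 : Nat.gcd (q ^ n) N = Nat.gcd 1 N := Nat.ModEq.gcd_eq hEn
      rw [Nat.gcd_one_left] at h1
      exact Nat.Coprime.coprime_dvd_left (dvd_pow_self q (by omega)) h1
    -- H1
    obtain ⟨n', m, hnm, hn', hm⟩ := split (q - 1) n (by omega)
    have hn'pos : 0 < n' := by
      rcases Nat.eq_zero_or_pos n' with h | h
      · rw [h, zero_mul] at hnm; omega
      · exact h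
    have hmpos : 0 < m := by
      rcases Nat.eq_zero_or_pos m with h | h
      · rw [h, mul_zero] at hnm; omega
      · exact h
    have hm1 : m = 1 := by
      by_contra hm1
      have hm2 : 1 < m := by omega
      -- E (n' * φ m)
      have hcopm : Nat.Coprime q m :=
        Nat.Coprime.coprime_dvd_right (Dvd.intro (n' * (q - 1)) (by rw [hN, hnm]; ring)) hcop
      have hE1 : q ^ (n' * Nat.totient m) ≡ 1 [MOD n' * (q - 1)] := by
        apply E_of_dvd q _ n' _ _ (Dvd.intro _ rfl)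
        rw [modEq_iff_int]
        push_cast
        rw [hcast]
        exact dvdA q n' hn'pos (hprZ n' hn')
      have hE2 : q ^ (n' * Nat.totient m) ≡ 1 [MOD m] :=
        E_of_dvd q _ (Nat.totient m) _ (Nat.ModEq.pow_totient hcopm) (Dvd.intro_left _ rfl)
      have hcop2 : Nat.Coprime (n' * (q - 1)) m := by
        apply Nat.Coprime.mul_left _ hm.symm
        apply Nat.Coprime.symm
        rw [Nat.coprime_iff_gcd_eq_one] -- placeholder
        by_contra hc
        obtain ⟨r, hr, hrm, hrn'⟩ := Nat.Prime.not_coprime_iff_dvd.1 hc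
        have := hn' r hr hrn'
        exact (Nat.Prime.not_coprime_iff_dvd.2 ⟨r, hr, hrm, this⟩) hm
      have hE3 : q ^ (n' * Nat.totient m) ≡ 1 [MOD N] := by
        have : N = n' * (q - 1) * m := by rw [hN, hnm]; ring
        rw [this]
        exact (Nat.modEq_and_modEq_iff_modEq_mul hcop2).1 ⟨hE1, hE2⟩
      have hEg := E_gcd q N _ _ hEn hE3
      set g := Nat.gcd n (n' * Nat.totient m) with hg
      have hgpos : 0 < g := Nat.gcd_pos_of_pos_left _ (by omega)
      have hgle : g ≤ n := Nat.le_of_dvd (by omega) (Nat.gcd_dvd_left _ _)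
      have hgne : g ≠ n := by
        intro h
        have h1 : n ∣ n' * Nat.totient m := h ▸ Nat.gcd_dvd_right n (n' * Nat.totient m)
        rw [hnm] at h1
        have h2 : m ∣ Nat.totient m := Nat.dvd_of_mul_dvd_mul_left hn'pos h1
        have h3 := Nat.le_of_dvd (Nat.totient_pos.2 hmpos) h2
        have h4 := Nat.totient_lt m hm2
        omega
      exact hmin g hgpos (by omega) hEg
    have H1 : ∀ r : ℕ, r.Prime → r ∣ n → r ∣ q - 1 := by
      intro r hr hrn
      apply hn' r hr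
      rw [hnm, hm1, mul_one] at hrn
      exact hrn
    refine ⟨H1, ?_⟩
    intro h4n
    by_contra h4q
    have h2n : 2 ∣ n := dvd_trans (by norm_num) h4n
    have h2q : 2 ∣ q - 1 := H1 2 Nat.prime_two h2n
    obtain ⟨k, hk⟩ := h4n
    have hE : q ^ (2 * k) ≡ 1 [MOD N] := by
      rw [modEq_iff_int, hN]
      push_cast
      rw [hcast]
      have hq4 : (4 : ℤ) ∣ (q : ℤ) + 1 := by
        have : 4 ∣ q + 1 := by omega
        exact_mod_cast Int.natCast_dvd_natCast.2 this
      have := dvdC q hq4 (2 * k) (by omega) (Dvd.intro _ rfl) (hprZ (2 * k) (fun r hr hrd =>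
        H1 r hr (dvd_trans hrd ⟨2, by rw [hk]; ring⟩)))
      have h2 : (n : ℤ) * ((q : ℤ) - 1) = 2 * ((2 * k : ℕ) : ℤ) * ((q : ℤ) - 1) := by
        rw [hk]; push_cast; ring
      rw [h2]
      exact this
    exact hmin (2 * k) (by omega) (by omega) hE

end Cfsg.Agent.S0694
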