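import Cfsg.Statements.S0696
import Cfsg.Agent.Lib.Helper17.RegularNormal
import Cfsg.Agent.S0695

set_option autoImplicit false
open Cfsg

namespace Cfsg.Agent.S0696

open MulAction SubMulAction Cfsg.Agent.Lib.Helper17
open scoped Pointwise

/-- A triply primitive group of degree at least 3 having a regular normal subgroup has degree 3 or 4. -/
theorem result {G : Type*} [Group G] {X : Type*} [Fintype X] [MulAction G X] (hX : 3 ≤ Fintype.card X) (h3 : MulAction.IsMultiplyPreprimitive G X 3) (N : Subgroup G) [N.Normal] (htrans : MulAction.IsPretransitive N X) (hreg : ∀ x : X, MulAction.stabilizer N x = ⊥) : Fintype.card X = 3 ∨ Fintype.card X = 4 := by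
  classical
  have h2 : IsMultiplyPreprimitive G X 2 := by
    apply isMultiplyPreprimitive_of_le G X h3 (by norm_num)
    rw [ENat.card_eq_coe_fintype_card]
    exact_mod_cast hX
  rcases Cfsg.Agent.S0695.result (by omega) h2 N htrans hreg with h | ⟨_, hexp, _⟩
  · exact Or.inl h
  · have hne : Nonempty X := by
      rw [← Fintype.card_pos_iff]; omega
    obtain ⟨x₀⟩ := hne
    -- a second point
    obtain ⟨y₀, hy₀⟩ : ∃ y₀ : X, y₀ ≠ x₀ := by
      by_contra hcon
      push Not at hcon
      have : (Finset.univ : Finset X) ⊆ {x₀} := fun y _ => by simp [hcon y]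
      have := Finset.card_le_card this
      rw [Finset.card_univ, Finset.card_singleton] at this
      omega
    obtain ⟨n₁', hn₁'⟩ := exists_smul_eq N x₀ y₀
    set n₁ : G := (n₁' : G) with hn₁def
    have hn₁ : n₁ ∈ N := n₁'.2
    have hy : n₁ • x₀ = y₀ := hn₁'
    have h1 : n₁ * n₁ = 1 := by
      have := hexp n₁ hn₁
      rwa [pow_two] at this
    -- a third point
    obtain ⟨z, hzx, hzy⟩ : ∃ z : X, z ≠ x₀ ∧ z ≠ y₀ := by
      by_contra hcon
      push Not at hcon
      have : (Finset.univ : Finset X) ⊆ {x₀, y₀} := fun y _ => by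
        by_cases h : y = x₀
        · simp [h]
        · simp [hcon y h]
      have := Finset.card_le_card this
      have h2 : ({x₀, y₀} : Finset X).card ≤ 2 := Finset.card_le_two
      rw [Finset.card_univ] at this
      omega
    obtain ⟨n', hn'⟩ := exists_smul_eq N x₀ z
    set n : G := (n' : G) with hndef
    have hn : n ∈ N := n'.2
    have hz : n • x₀ = z := hn'
    have hinj := fun {a b : G} (ha : a ∈ N) (hb : b ∈ N) (h : a • x₀ = b • x₀) =>
      smul_inj_of_stabilizer_eq_bot N x₀ (hreg x₀) ha hb h
    have hn₁_ne : n₁ ≠ 1 := by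
      intro h
      apply hy₀
      rw [← hy, h, one_smul]
    -- the four inequalities
    have e1 : n • x₀ ≠ x₀ := by rw [hz]; exact hzx
    have e2 : n • x₀ ≠ n₁ • x₀ := by rw [hz, hy]; exact hzy
    have e3 : (n * n₁) • x₀ ≠ x₀ := by
      intro h
      have h' := hinj (N.mul_mem hn hn₁) N.one_mem (by rw [h, one_smul])
      apply e2
      have : n = n₁ := by
        have h5 : n * n₁ * n₁ = 1 * n₁ := by rw [h']
        rw [mul_assoc, h1, mul_one, one_mul] at h5
        exact h5
      rw [this]
    have e4 : (n * n₁) • x₀ ≠ n₁ • x₀ := by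
      intro h
      have h' := hinj (N.mul_mem hn hn₁) hn₁ h
      apply e1
      have : n = 1 := by
        have h5 : n * n₁ * n₁ = n₁ * n₁ := by rw [h']
        rw [mul_assoc, h1, mul_one] at h5
        exact h5
      rw [this, one_smul]
    have e5 : n • x₀ ≠ (n * n₁) • x₀ := by
      intro h
      have h' := hinj hn (N.mul_mem hn hn₁) h
      apply hn₁_ne
      have : n * 1 = n * n₁ := by rw [mul_one]; exact h'
      exact (mul_left_cancel this).symm
    -- primitivity of the two-point stabiliser
    have hpre : IsPreprimitive (fixingSubgroup G ({x₀, n₁ • x₀} : Set X))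
        (ofFixingSubgroup G ({x₀, n₁ • x₀} : Set X)) := by
      apply h3.isPreprimitive_ofFixingSubgroup
      rw [Set.encard_pair]
      · rfl
      · rw [hy]; exact hy₀.symm
    have hblockX := isBlock_mulPair N x₀ (hreg x₀) hn₁ h1 hn
    let B : Set (ofFixingSubgroup G ({x₀, n₁ • x₀} : Set X)) := Subtype.val ⁻¹' (mulPair x₀ n₁ n)
    have hmemO : ∀ y : X, y ≠ x₀ → y ≠ n₁ • x₀ → y ∈ ofFixingSubgroup G ({x₀, n₁ • x₀} : Set X) := by
      intro y h1 h2
      rw [mem_ofFixingSubgroup_iff]
      simp only [Set.mem_insert_iff, Set.mem_singleton_iff, not_or]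
      exact ⟨h1, h2⟩
    have himg : Subtype.val '' B = mulPair x₀ n₁ n := by
      change Subtype.val '' (Subtype.val ⁻¹' (mulPair x₀ n₁ n)) = mulPair x₀ n₁ n
      rw [Set.image_preimage_eq_inter_range, Set.inter_eq_left, Subtype.range_coe_subtype]
      intro y hy
      change y ∈ ofFixingSubgroup G ({x₀, n₁ • x₀} : Set X)
      rcases hy with rfl | rfl
      · exact hmemO _ e1 e2
      · exact hmemO _ e3 e4
    have hblock : IsBlock (fixingSubgroup G ({x₀, n₁ • x₀} : Set X)) B := by
      rw [← isBlock_subtypeVal, himg]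
      exact hblockX
    rcases hpre.isTrivialBlock_of_isBlock hblock with hs | hu
    · exfalso
      have h1' : (⟨n • x₀, hmemO _ e1 e2⟩ : ofFixingSubgroup G ({x₀, n₁ • x₀} : Set X)) ∈ B := by
        change n • x₀ ∈ mulPair x₀ n₁ n
        exact Or.inl rfl
      have h2' : (⟨(n * n₁) • x₀, hmemO _ e3 e4⟩ :
          ofFixingSubgroup G ({x₀, n₁ • x₀} : Set X)) ∈ B := by
        change (n * n₁) • x₀ ∈ mulPair x₀ n₁ n
        exact Or.inr rfl
      have h3' := hs h1' h2'
      exact e5 (congrArg Subtype.val h3')
    · have hsub : (Finset.univ : Finset X) ⊆ {x₀, n₁ • x₀, n • x₀, (n * n₁) • x₀} := by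
        intro y _
        by_cases hy1 : y = x₀
        · simp [hy1]
        · by_cases hy2 : y = n₁ • x₀
          · simp [hy2]
          · have : (⟨y, hmemO y hy1 hy2⟩ : ofFixingSubgroup G ({x₀, n₁ • x₀} : Set X)) ∈ B := by
              rw [hu]; trivial
            have h' : y ∈ mulPair x₀ n₁ n := this
            rcases h' with rfl | rfl
            · simp
            · simp
      have := Finset.card_le_card hsub
      have h4 : ({x₀, n₁ • x₀, n • x₀, (n * n₁) • x₀} : Finset X).card ≤ 4 := Finset.card_le_four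
      rw [Finset.card_univ] at this
      omega

end Cfsg.Agent.S0696
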