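import Cfsg.Statements.S0697
import Cfsg.Agent.Lib.Helper17.NormalSub

set_option autoImplicit false
open Cfsg

namespace Cfsg.Agent.S0697

open MulAction SubMulAction Subgroup Cfsg.Agent.Lib.Helper17

variable {α : Type*} [Fintype α] [DecidableEq α]

theorem exists_moved (G : Subgroup (Equiv.Perm α)) (n : G) (hn : n ≠ 1) :
    ∃ x : α, n • x ≠ x := by
  by_contra h
  push Not at h
  apply hn
  apply Subtype.ext
  ext x
  exact h x

theorem key (G : Subgroup (Equiv.Perm α)) {k : ℕ} (hkn : k ≤ Fintype.card α)
    (hG : IsMultiplyPreprimitive G α k) (htop : G ≠ ⊤) (H : Subgroup G) [H.Normal]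
    (hH : H ≠ ⊥) (hnr : ∃ a : α, stabilizer H a ≠ ⊥) :
    ∀ j, j < k → ∀ s : Set α, s.ncard = j → ∃ n ∈ H, (∀ z ∈ s, n • z = z) ∧ n ≠ 1 := by
  have hkn' : k ≤ Nat.card α := by rw [Nat.card_eq_fintype_card]; exact hkn
  have hkα : (k : ENat) ≤ ENat.card α := by
    rw [ENat.card_eq_coe_fintype_card]
    exact_mod_cast hkn
  have hmtk : IsMultiplyPretransitive G α k := hG.isMultiplyPretransitive
  have hmt : ∀ m ≤ k, IsMultiplyPretransitive G α m := fun m hm =>
    isMultiplyPretransitive_of_le hm hkn'
  have hprim : ∀ S : Set α, S.ncard < k →
      IsPreprimitive (fixingSubgroup G S) (ofFixingSubgroup G S) := by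
    intro S hS
    have h1 : IsMultiplyPreprimitive G α (S.ncard + 1) :=
      isMultiplyPreprimitive_of_le (M := G) (α := α) hG (by omega) hkα
    apply h1.isPreprimitive_ofFixingSubgroup
    rw [← Set.Finite.cast_ncard_eq (Set.toFinite S)]
    norm_cast
  intro j
  induction j with
  | zero =>
    intro _ s hs
    obtain ⟨⟨n, hn⟩, hn1⟩ := Subgroup.ne_bot_iff_exists_ne_one.mp hH
    have hse : s = ∅ := (Set.ncard_eq_zero (Set.toFinite s)).mp hs
    refine ⟨n, hn, ?_, fun h => hn1 (Subtype.ext h)⟩
    rw [hse]
    intro z hz
    exact absurd hz (Set.notMem_empty z)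
  | succ j ih =>
    intro hj s hs
    obtain ⟨a, s', has', rfl, hs'⟩ := Set.eq_insert_of_ncard_eq_succ hs
    by_contra hcon
    push Not at hcon
    have ihj := ih (by omega)
    have htr : TransOff H s' := by
      apply transOff_of_isPreprimitive H s' (hprim s' (by omega))
      obtain ⟨n, hn, hfix, hn1⟩ := ihj s' hs'
      exact ⟨n, hn, hfix, exists_moved G n hn1⟩
    -- regularity
    have hreg : ∀ n ∈ H, (∀ z ∈ s', n • z = z) → ∀ x : α, x ∉ s' → n • x = x → n = 1 := by
      intro n hn hfix x hx hnx
      obtain ⟨g, hg, hgfix, hga⟩ := htr a x has' hx
      have h1 : g⁻¹ * n * g = 1 := by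
        apply hcon (g⁻¹ * n * g) (H.mul_mem (H.mul_mem (H.inv_mem hg) hn) hg)
        intro z hz
        rcases Set.mem_insert_iff.mp hz with rfl | hz
        · rw [mul_smul, mul_smul, hga, hnx, ← hga, inv_smul_smul]
        · rw [mul_smul, mul_smul, hgfix z hz, hfix z hz, inv_smul_eq_iff, hgfix z hz]
      have h2 : n = g * (g⁻¹ * n * g) * g⁻¹ := by group
      rw [h2, h1]
      group
    rcases Nat.eq_zero_or_pos j with hj0 | hjpos
    · -- j = 0 : H would be regular
      subst hj0
      have hs'e : s' = ∅ := (Set.ncard_eq_zero (Set.toFinite s')).mp hs'
      obtain ⟨a₀, ha₀⟩ := hnr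
      apply ha₀
      rw [eq_bot_iff]
      intro n hn
      rw [Subgroup.mem_bot]
      have h1 := hreg n.1 n.2 (by rw [hs'e]; intro z hz; exact absurd hz (Set.notMem_empty z)) a₀
        (by rw [hs'e]; exact Set.notMem_empty a₀) (mem_stabilizer_iff.mp hn)
      exact Subtype.ext h1
    · -- j ≥ 1
      have h2 : IsMultiplyPreprimitive (fixingSubgroup G s') (ofFixingSubgroup G s') 2 := by
        haveI : IsMultiplyPreprimitive G α (j + 2) :=
          isMultiplyPreprimitive_of_le (M := G) (α := α) hG (by omega) hkα
        exact ofFixingSubgroup.isMultiplyPreprimitive (M := G) (α := α) (m := 2) (n := j + 2)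
          (s := s') (by rw [hs'])
      have hcard : s'.ncard + 2 ≤ Nat.card α := by rw [hs']; omega
      rcases regular_cases H s' h2 hcard htr hreg with h3 | ⟨hsq, m, hm⟩
      · -- card = j + 3
        apply htop
        apply Equiv.Perm.eq_top_of_isMultiplyPretransitive
        have h4 : Nat.card α - 1 = j + 2 := by omega
        rw [h4]
        exact hmt (j + 2) (by omega)
      · rcases m with _ | _ | m
        · -- card = j + 1
          simp only [pow_zero] at hm
          omega
        · -- card = j + 2
          apply htop
          apply Equiv.Perm.eq_top_of_isMultiplyPretransitive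
          have h4 : Nat.card α - 1 = j + 1 := by
            simp only [zero_add, pow_one] at hm
            omega
          rw [h4]
          exact hmt (j + 1) (by omega)
        · -- card ≥ j + 4
          have h4 : j + 4 ≤ Nat.card α := by
            have : 4 ≤ 2 ^ (m + 1 + 1) := by
              have : 2 ^ (m + 1 + 1) = 4 * 2 ^ m := by ring
              have : 1 ≤ 2 ^ m := Nat.one_le_two_pow
              omega
            omega
          obtain ⟨a', s'', ha's'', rfl, hs''⟩ := Set.eq_insert_of_ncard_eq_succ (n := j - 1)
            (s := s') (by rw [hs']; omega)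
          obtain ⟨t, htH, htfix, ht1⟩ := ihj _ hs'
          have ht2 := hsq t htH htfix
          obtain ⟨x, hx⟩ := exists_moved G t ht1
          have hxs' : x ∉ insert a' s'' := fun h => hx (htfix x h)
          have hty : t • t • x = x := by
            rw [← mul_smul, ← pow_two, ht2, one_smul]
          have hys' : t • x ∉ insert a' s'' := by
            intro h
            have := htfix _ h
            rw [hty] at this
            exact hx this.symm
          have hxs'' : x ∉ s'' := fun h => hxs' (Set.mem_insert_of_mem _ h)
          have hys'' : t • x ∉ s'' := fun h => hys' (Set.mem_insert_of_mem _ h)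
          have hxa' : x ≠ a' := fun h => hxs' (by rw [h]; exact Set.mem_insert _ _)
          have hya' : t • x ≠ a' := fun h => hys' (by rw [h]; exact Set.mem_insert _ _)
          -- a further point z
          obtain ⟨z, hz⟩ : ∃ z, z ∉ insert x (insert (t • x) (insert a' s'')) := by
            by_contra hall
            push Not at hall
            have h5 : (insert x (insert (t • x) (insert a' s''))) = Set.univ :=
              Set.eq_univ_of_forall hall
            have h6 : (insert x (insert (t • x) (insert a' s''))).ncard ≤ j + 2 := by
              calc (insert x (insert (t • x) (insert a' s''))).ncard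
                  ≤ (insert (t • x) (insert a' s'')).ncard + 1 := Set.ncard_insert_le _ _
                _ ≤ (insert a' s'').ncard + 1 + 1 := by
                    have := Set.ncard_insert_le (t • x) (insert a' s'')
                    omega
                _ = j + 2 := by rw [hs']
            rw [h5, Set.ncard_univ] at h6
            omega
          have hzx : z ≠ x := fun h => hz (by rw [h]; exact Set.mem_insert _ _)
          have hzy : z ≠ t • x := fun h =>
            hz (by rw [h]; exact Set.mem_insert_of_mem _ (Set.mem_insert _ _))
          have hzs' : z ∉ insert a' s'' := fun h =>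
            hz (Set.mem_insert_of_mem _ (Set.mem_insert_of_mem _ h))
          -- trivial stabiliser of s'' ∪ {x, y}
          have htriv : ∀ n ∈ H, (∀ w ∈ s'', n • w = w) → n • x = x → n • (t • x) = t • x →
              n = 1 := by
            intro n hn hfix hnx hny
            obtain ⟨g₁, -, hg₁fix, hg₁a⟩ := transOff_top_of_isMultiplyPretransitive hmtk hkn' s''
              (by omega) a' x ha's'' hxs''
            have hn' : g₁⁻¹ * n * g₁ ∈ H := by
              have := (inferInstance : H.Normal).conj_mem n hn g₁⁻¹
              rwa [inv_inv] at this
            have h7 : g₁⁻¹ * n * g₁ = 1 := by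
              apply hreg _ hn' _ (g₁⁻¹ • t • x)
              · intro hmem
                rcases Set.mem_insert_iff.mp hmem with h | h
                · rw [inv_smul_eq_iff, hg₁a] at h
                  exact hx h
                · have := hg₁fix _ h
                  rw [smul_inv_smul] at this
                  rw [← this] at h
                  exact hys'' h
              · rw [mul_smul, mul_smul, smul_inv_smul, hny]
              · intro w hw
                rcases Set.mem_insert_iff.mp hw with rfl | hw
                · rw [mul_smul, mul_smul, hg₁a, hnx, ← hg₁a, inv_smul_smul]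
                · rw [mul_smul, mul_smul, hg₁fix w hw, hfix w hw, inv_smul_eq_iff, hg₁fix w hw]
            have h8 : n = g₁ * (g₁⁻¹ * n * g₁) * g₁⁻¹ := by group
            rw [h8, h7]
            group
          -- the conjugating element
          obtain ⟨g, -, hgfix, hga⟩ := transOff_top_of_isMultiplyPretransitive hmtk hkn'
            (insert x (insert (t • x) s''))
            (by
              have h9 : (insert x (insert (t • x) s'')).ncard ≤ s''.ncard + 1 + 1 := by
                have := Set.ncard_insert_le x (insert (t • x) s'')
                have := Set.ncard_insert_le (t • x) s''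
                omega
              omega) a' z
            (by
              intro h
              rcases Set.mem_insert_iff.mp h with h | h
              · exact hxa' h.symm
              · rcases Set.mem_insert_iff.mp h with h | h
                · exact hya' h.symm
                · exact ha's'' h)
            (by
              intro h
              rcases Set.mem_insert_iff.mp h with h | h
              · exact hzx h
              · rcases Set.mem_insert_iff.mp h with h | h
                · exact hzy h
                · exact hzs' (Set.mem_insert_of_mem _ h))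
          have hgx : g • x = x := hgfix x (Set.mem_insert _ _)
          have hgy : g • t • x = t • x :=
            hgfix _ (Set.mem_insert_of_mem _ (Set.mem_insert _ _))
          have hgs'' : ∀ w ∈ s'', g • w = w := fun w hw =>
            hgfix w (Set.mem_insert_of_mem _ (Set.mem_insert_of_mem _ hw))
          have hginv : ∀ w : α, g • w = w → g⁻¹ • w = w := fun w hw => by
            rw [inv_smul_eq_iff, hw]
          have ht'H : g * t * g⁻¹ ∈ H := (inferInstance : H.Normal).conj_mem t htH g
          have hprod : t * (g * t * g⁻¹) = 1 := by
            apply htriv _ (H.mul_mem htH ht'H)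
            · intro w hw
              rw [mul_smul, mul_smul, mul_smul, hginv w (hgs'' w hw),
                htfix w (Set.mem_insert_of_mem _ hw), hgs'' w hw,
                htfix w (Set.mem_insert_of_mem _ hw)]
            · rw [mul_smul, mul_smul, mul_smul, hginv x hgx, hgy, hty]
            · rw [mul_smul, mul_smul, mul_smul, hginv _ hgy, hty, hgx]
          have htz : t • z = z := by
            have h10 : (t * (g * t * g⁻¹)) • z = z := by rw [hprod, one_smul]
            have h11 : g⁻¹ • z = a' := by rw [inv_smul_eq_iff, hga]
            rw [mul_smul, mul_smul, mul_smul, h11, htfix a' (Set.mem_insert _ _), hga] at h10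
            exact h10
          exact ht1 (hreg t htH htfix z hzs' htz)

theorem result {α : Type*} [Fintype α] [DecidableEq α] (G : Subgroup (Equiv.Perm α)) {k : ℕ} (hk : 1 ≤ k) (hkn : k ≤ Fintype.card α) (hG : MulAction.IsMultiplyPreprimitive G α k) (htop : G ≠ ⊤) (H : Subgroup G) [H.Normal] (hH : H ≠ ⊥) (hnr : ∃ a : α, MulAction.stabilizer H a ≠ ⊥) : MulAction.IsMultiplyPretransitive H α k := by
  have hkey := key G hkn hG htop H hH hnr
  have hkn' : k ≤ Nat.card α := by rw [Nat.card_eq_fintype_card]; exact hkn
  have hkα : (k : ENat) ≤ ENat.card α := by
    rw [ENat.card_eq_coe_fintype_card]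
    exact_mod_cast hkn
  apply isMultiplyPretransitive_of_transOff H k
  intro s hs
  have h1 : IsMultiplyPreprimitive G α (s.ncard + 1) :=
    isMultiplyPreprimitive_of_le (M := G) (α := α) hG (by omega) hkα
  have hprim : IsPreprimitive (fixingSubgroup G s) (ofFixingSubgroup G s) := by
    apply h1.isPreprimitive_ofFixingSubgroup
    rw [← Set.Finite.cast_ncard_eq (Set.toFinite s)]
    norm_cast
  apply transOff_of_isPreprimitive H s hprim
  obtain ⟨n, hn, hfix, hn1⟩ := hkey s.ncard hs s rfl
  exact ⟨n, hn, hfix, exists_moved G n hn1⟩

end Cfsg.Agent.S0697
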