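import Cfsg.Statements.S0698
import Cfsg.Agent.Lib.Helper63.JordanNormal

set_option autoImplicit false
open Cfsg

namespace Cfsg.Agent.S0698

/-- Jordan's Theorem on normal subgroups of multiply transitive groups: if `G` is `k`-transitive (`k > 1`) of degree greater than `k`, a non-trivial normal subgroup is `(k-1)`-transitive, except possibly for `k = 3` when it may be an elementary abelian 2-group. -/
theorem result {α : Type*} [Fintype α] [DecidableEq α] (G : Subgroup (Equiv.Perm α)) {k : ℕ} (hk : 1 < k) (hdeg : k < Fintype.card α) (hG : MulAction.IsMultiplyPretransitive G α k) (N : Subgroup G) [N.Normal] (hN : N ≠ ⊥) : MulAction.IsMultiplyPretransitive N α (k - 1) ∨ (k = 3 ∧ IsMulCommutative N ∧ ∀ n ∈ N, n ^ 2 = 1) := by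
  have hcard : k < Nat.card α := by rw [Nat.card_eq_fintype_card]; exact hdeg
  rcases Cfsg.Agent.Lib.Helper63.jordan_normal_subgroup k hk G α hcard hG N inferInstance hN with
    h | ⟨h3, hsq⟩
  · exact Or.inl h
  · refine Or.inr ⟨h3, ?_, hsq⟩
    rw [isMulCommutative_iff]
    intro x y
    have e1 : x ^ 2 = 1 := Subtype.ext (hsq x.1 x.2)
    have e2 : y ^ 2 = 1 := Subtype.ext (hsq y.1 y.2)
    have e3 : (x * y) ^ 2 = 1 := Subtype.ext (hsq (x * y).1 (x * y).2)
    have hx : x⁻¹ = x := by rw [pow_two] at e1; exact inv_eq_of_mul_eq_one_right e1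
    have hy : y⁻¹ = y := by rw [pow_two] at e2; exact inv_eq_of_mul_eq_one_right e2
    have hxy : (x * y)⁻¹ = x * y := by rw [pow_two] at e3; exact inv_eq_of_mul_eq_one_right e3
    rw [mul_inv_rev, hx, hy] at hxy
    exact hxy.symm

end Cfsg.Agent.S0698
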