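import Cfsg.Statements.S0699
import Cfsg.Agent.Lib.Helper63.JordanNormal
import Cfsg.Agent.Lib.Helper63.WagnerEven

set_option autoImplicit false
open Cfsg

namespace Cfsg.Agent.S0699

open Cfsg.Agent.Lib.Helper63 Cfsg.Agent.Lib.Helper63.Wagner MulAction Equiv

/-- Wagner's Theorem: a non-trivial normal subgroup of a triply transitive permutation group of odd degree at least 5 is triply transitive. -/
theorem result {α : Type*} [Fintype α] [DecidableEq α] (G : Subgroup (Equiv.Perm α)) (hodd : Odd (Fintype.card α)) (h5 : 5 ≤ Fintype.card α) (hG : MulAction.IsMultiplyPretransitive G α 3) (N : Subgroup G) [N.Normal] (hN : N ≠ ⊥) : MulAction.IsMultiplyPretransitive N α 3 := by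
  have hcard3 : 3 < Nat.card α := by rw [Nat.card_eq_fintype_card]; omega
  have hJ := jordan_normal_subgroup 3 (by norm_num) ↥G α hcard3 hG N inferInstance hN
  have hN2 : IsMultiplyPretransitive N α 2 := by
    rcases hJ with h | ⟨-, h⟩
    · exact h
    · exfalso
      have hG2 : IsMultiplyPretransitive G α 2 :=
        isMultiplyPretransitive_of_le (n := 3) (by norm_num) (by omega)
      have hprim := isPreprimitive_of_is_two_pretransitive hG2
      have := pretransitive_of_normal_ne_bot hprim N hN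
      have hp : IsPGroup 2 N := by
        intro n
        refine ⟨1, ?_⟩
        rw [pow_one]
        apply Subtype.ext
        exact h n n.2
      have : Fact (Nat.Prime 2) := ⟨Nat.prime_two⟩
      obtain ⟨a⟩ : Nonempty α := by
        rw [← Fintype.card_pos_iff]; omega
      obtain ⟨k, hk⟩ := hp.card_orbit a
      rw [orbit_eq_univ, Nat.card_coe_set_eq, Set.ncard_univ, Nat.card_eq_fintype_card] at hk
      rw [hk] at hodd h5
      rcases Nat.eq_zero_or_pos k with h0 | h0
      · rw [h0] at h5; norm_num at h5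
      · rw [Nat.odd_pow_iff h0.ne'] at hodd
        exact (by decide : ¬ Odd 2) hodd
  -- elementary forms
  obtain ⟨N', hN'⟩ : ∃ N' : Subgroup (Perm α), N' = N.map G.subtype := ⟨_, rfl⟩
  have hT3G : T3 G := by
    intro a b c a' b' c' h1 h2 h3 h1' h2' h3'
    obtain ⟨g, hga, hgb, hgc⟩ := exists_smul_triple hG h1 h2 h3 h1' h2' h3'
    exact ⟨g, g.2, hga, hgb, hgc⟩
  have hT2N : T2 N' := by
    intro a b c d hab hcd
    obtain ⟨n, hna, hnb⟩ := exists_smul_pair hN2 hab hcd
    refine ⟨((n : G) : Perm α), ?_, hna, hnb⟩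
    rw [hN']
    exact ⟨(n : G), n.2, rfl⟩
  have hNG : N' ≤ G := by
    rw [hN']
    rintro _ ⟨g, -, rfl⟩
    exact g.2
  have hnorm : ∀ g ∈ G, ∀ x ∈ N', g * x * g⁻¹ ∈ N' := by
    rw [hN']
    rintro g hg _ ⟨x, hx, rfl⟩
    exact ⟨⟨g, hg⟩ * x * ⟨g, hg⟩⁻¹, Subgroup.Normal.conj_mem inferInstance x hx _, rfl⟩
  have hTab := wagner_aux (Nat.card α) α rfl (by rwa [Nat.card_eq_fintype_card]) G N' hNG hnorm
    hT3G hT2N
  have hT3N := T3_of_T2_Tab hT2N hTab
  rw [isMultiplyPretransitive_iff]
  intro x y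
  obtain ⟨n', hn', h0, h1, h2⟩ := hT3N (x 0) (x 1) (x 2) (y 0) (y 1) (y 2)
    (x.injective.ne (by decide)) (x.injective.ne (by decide)) (x.injective.ne (by decide))
    (y.injective.ne (by decide)) (y.injective.ne (by decide)) (y.injective.ne (by decide))
  rw [hN'] at hn'
  obtain ⟨n, hn, rfl⟩ := hn'
  refine ⟨⟨n, hn⟩, ?_⟩
  ext i
  fin_cases i
  · exact h0
  · exact h1
  · exact h2

end Cfsg.Agent.S0699
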