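import Cfsg.Statements.S0700
import Cfsg.Agent.Lib.Helper63.TwoTransPrimitive
import Cfsg.Agent.Lib.Helper63.TwoTransSimple
import Cfsg.Agent.Lib.Helper63.TwoTransRegular

set_option autoImplicit false
open Cfsg

namespace Cfsg.Agent.S0700

/-- Burnside's Theorem on doubly transitive groups: a minimal normal subgroup of a finite doubly transitive permutation group is elementary abelian and regular, or simple and primitive. -/
theorem result {α : Type*} [Fintype α] [DecidableEq α] (G : Subgroup (Equiv.Perm α)) (hG : MulAction.IsMultiplyPretransitive G α 2) (N : Subgroup G) [N.Normal] (hN : N ≠ ⊥) (hmin : ∀ M : Subgroup G, M.Normal → M ≤ N → M = ⊥ ∨ M = N) : (IsMulCommutative N ∧ (∃ p : ℕ, p.Prime ∧ ∀ n ∈ N, n ^ p = 1) ∧ ∀ a : α, MulAction.stabilizer N a = ⊥) ∨ (IsSimpleGroup N ∧ MulAction.IsPreprimitive N α) := by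
  classical
  by_cases hreg : ∀ a : α, ∀ n ∈ N, n • a = a → n = 1
  · left
    have hne : Nonempty α := by
      by_contra hcon
      rw [not_nonempty_iff] at hcon
      apply hN
      rw [eq_bot_iff]
      intro n _
      rw [Subgroup.mem_bot]
      apply Subtype.ext
      ext c
      exact (hcon.false c).elim
    obtain ⟨a⟩ := hne
    obtain ⟨hcomm, p, hp, hpow⟩ :=
      Cfsg.Agent.Lib.Helper63.elementary_abelian_of_semiregular_normal hG N hN a hreg
    refine ⟨?_, ⟨p, hp, hpow⟩, ?_⟩
    · rw [isMulCommutative_iff]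
      intro x y
      exact Subtype.ext (hcomm x.1 x.2 y.1 y.2)
    · intro b
      rw [eq_bot_iff]
      intro n hn
      rw [Subgroup.mem_bot]
      exact Subtype.ext (hreg b n.1 n.2 hn)
  · right
    push Not at hreg
    obtain ⟨a, n, hn, hna, hn1⟩ := hreg
    have hprim := Cfsg.Agent.Lib.Helper63.isPreprimitive_of_minimal_normal hG N hmin
      ⟨a, n, hn, hn1, hna⟩
    exact ⟨Cfsg.Agent.Lib.Helper63.isSimpleGroup_of_minimal_normal hG N hN hmin hprim, hprim⟩

end Cfsg.Agent.S0700
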