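import Cfsg.Statements.S0701
import Mathlib

set_option autoImplicit false
open Cfsg

namespace Cfsg.Agent.S0701

theorem semireg {α : Type*} (G : Subgroup (Equiv.Perm α)) [MulAction.IsPretransitive G α]
    (c : Equiv.Perm α) (hc : c ∈ Subgroup.centralizer (G : Set (Equiv.Perm α))) (a : α)
    (hca : c a = a) : c = 1 := by
  ext b
  obtain ⟨g, rfl⟩ := MulAction.exists_smul_eq G a b
  have h := hc (g : Equiv.Perm α) g.2
  have h2 : c (g • a) = ((c * (g : Equiv.Perm α)) a) := rfl
  rw [h2, ← h]
  simp only [Equiv.Perm.coe_mul, Function.comp_apply, hca, Equiv.Perm.coe_one, id_eq]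
  rfl

theorem bij {α : Type*} (G : Subgroup (Equiv.Perm α)) [MulAction.IsPretransitive G α]
    (hreg : ∀ a : α, MulAction.stabilizer G a = ⊥) (a : α) :
    Function.Bijective (fun g : G => g • a) := by
  constructor
  · intro g h hgh
    have : h⁻¹ * g ∈ MulAction.stabilizer G a := by
      rw [MulAction.mem_stabilizer_iff, mul_smul]
      simp only at hgh
      rw [hgh, inv_smul_smul]
    rw [hreg a, Subgroup.mem_bot] at this
    exact (inv_mul_eq_one.mp this).symm
  · intro b
    exact MulAction.exists_smul_eq G a b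

/-- The centraliser in the full symmetric group of a transitive permutation group `G` is semiregular, and it is transitive if and only if `G` is regular. -/
theorem result {α : Type*} (G : Subgroup (Equiv.Perm α)) [MulAction.IsPretransitive G α] : (∀ c ∈ Subgroup.centralizer (G : Set (Equiv.Perm α)), ∀ a : α, c a = a → c = 1) ∧ (MulAction.IsPretransitive (Subgroup.centralizer (G : Set (Equiv.Perm α))) α ↔ ∀ a : α, MulAction.stabilizer G a = ⊥) := by
  refine ⟨fun c hc a hca => semireg G c hc a hca, ⟨fun hC a => ?_, fun hreg => ?_⟩⟩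
  · rw [Subgroup.eq_bot_iff_forall]
    intro g hg
    apply Subtype.ext
    ext b
    obtain ⟨c, rfl⟩ := MulAction.exists_smul_eq (Subgroup.centralizer (G : Set (Equiv.Perm α))) a b
    have h := c.2 (g : Equiv.Perm α) g.2
    have h1 : (g : Equiv.Perm α) (c • a) = (((g : Equiv.Perm α) * (c : Equiv.Perm α)) a) := rfl
    have h2 : (g : Equiv.Perm α) a = a := hg
    rw [h1, h]
    simp only [Equiv.Perm.coe_mul, Function.comp_apply, h2]
    rfl
  · refine ⟨fun a b => ?_⟩
    let ea : G ≃ α := Equiv.ofBijective _ (bij G hreg a)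
    let eb : G ≃ α := Equiv.ofBijective _ (bij G hreg b)
    let c : Equiv.Perm α := ea.symm.trans eb
    have hea : ∀ g : G, ea g = g • a := fun g => rfl
    have heb : ∀ g : G, eb g = g • b := fun g => rfl
    have hcx : ∀ g : G, c (g • a) = g • b := by
      intro g
      change eb (ea.symm (g • a)) = g • b
      rw [← hea g, Equiv.symm_apply_apply, heb]
    have hc : c ∈ Subgroup.centralizer (G : Set (Equiv.Perm α)) := by
      intro h hh
      ext x
      obtain ⟨g, rfl⟩ := MulAction.exists_smul_eq G a x
      change h (c (g • a)) = c (h (g • a))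
      have e1 : h (g • a) = ((⟨h, hh⟩ : G) * g) • a := by
        rw [mul_smul]; rfl
      rw [e1, hcx, hcx, mul_smul]
      rfl
    refine ⟨⟨c, hc⟩, ?_⟩
    change c a = b
    have := hcx 1
    simpa using this

end Cfsg.Agent.S0701
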