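import Cfsg.Statements.S0702
import Cfsg.Agent.Lib.Helper17.Centralizer

set_option autoImplicit false
open Cfsg

namespace Cfsg.Agent.S0702

open MulAction Subgroup Cfsg.Agent.Lib.Helper17

variable {α : Type*} (G : Subgroup (Equiv.Perm α)) [IsPretransitive G α] (a : α)

/-- a chosen group element moving `a` to `x` -/
noncomputable def rep (x : α) : G := (exists_smul_eq G a x).choose

theorem rep_spec (x : α) : rep G a x • a = x := (exists_smul_eq G a x).choose_spec

/-- the underlying function of the centralising permutation attached to `n` -/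
noncomputable def cfun (n : G) (x : α) : α := rep G a x • n⁻¹ • a

theorem cfun_smul {n : G} (hn : n ∈ normalizer ((stabilizer G a : Subgroup G) : Set G)) (g : G) :
    cfun G a n (g • a) = g • n⁻¹ • a := by
  unfold cfun
  have h1 : (rep G a (g • a))⁻¹ * g ∈ stabilizer G a := by
    rw [mem_stabilizer_iff, mul_smul, inv_smul_eq_iff, rep_spec]
  have h2 := (mem_normalizer_iff.mp hn _).mp h1
  rw [mem_stabilizer_iff] at h2
  have h3 : ((rep G a (g • a))⁻¹ * g) • n⁻¹ • a = n⁻¹ • a := by
    have := congrArg (fun y => n⁻¹ • y) h2
    simp only [mul_smul, inv_smul_smul] at this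
    simpa only [mul_smul] using this
  rw [mul_smul, inv_smul_eq_iff] at h3
  exact h3.symm

theorem cfun_cfun {n m : G} (hn : n ∈ normalizer ((stabilizer G a : Subgroup G) : Set G)) (x : α) :
    cfun G a n (cfun G a m x) = cfun G a (n * m) x := by
  have h1 : cfun G a m x = (rep G a x * m⁻¹) • a := by
    unfold cfun; rw [mul_smul]
  rw [h1, cfun_smul G a hn]
  unfold cfun
  rw [mul_inv_rev, mul_smul, mul_smul]

theorem cfun_one (x : α) : cfun G a 1 x = x := by
  unfold cfun
  rw [inv_one, one_smul, rep_spec]

/-- the centralising permutation attached to `n ∈ N_G(G_a)` -/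
noncomputable def cperm (n : normalizer ((stabilizer G a : Subgroup G) : Set G)) :
    Equiv.Perm α where
  toFun := cfun G a n
  invFun := cfun G a (n⁻¹ : normalizer ((stabilizer G a : Subgroup G) : Set G))
  left_inv x := by
    rw [cfun_cfun G a (n⁻¹).2]
    simp only [Subgroup.coe_inv, inv_mul_cancel]
    exact cfun_one G a x
  right_inv x := by
    rw [cfun_cfun G a n.2]
    simp only [Subgroup.coe_inv, mul_inv_cancel]
    exact cfun_one G a x

theorem cperm_apply (n : normalizer ((stabilizer G a : Subgroup G) : Set G)) (x : α) :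
    cperm G a n x = cfun G a n x := rfl

theorem cperm_mem (n : normalizer ((stabilizer G a : Subgroup G) : Set G)) :
    cperm G a n ∈ centralizer (G : Set (Equiv.Perm α)) := by
  intro h hh
  ext x
  obtain ⟨g, rfl⟩ := exists_smul_eq G a x
  change h (cperm G a n (g • a)) = cperm G a n (h (g • a))
  have e1 : h (g • a) = ((⟨h, hh⟩ : G) * g) • a := by
    rw [mul_smul]; rfl
  rw [e1, cperm_apply, cperm_apply, cfun_smul G a n.2, cfun_smul G a n.2, mul_smul]
  rfl

/-- the homomorphism `N_G(G_a) → C_Sym(G)` -/
noncomputable def chom : normalizer ((stabilizer G a : Subgroup G) : Set G) →*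
    centralizer (G : Set (Equiv.Perm α)) :=
  MonoidHom.mk' (fun n => ⟨cperm G a n, cperm_mem G a n⟩) (by
    intro n m
    apply Subtype.ext
    ext x
    change cfun G a ((n * m : normalizer ((stabilizer G a : Subgroup G) : Set G)) : G) x =
      cfun G a n (cfun G a m x)
    rw [cfun_cfun G a n.2]
    rfl)

theorem chom_apply_a (n : normalizer ((stabilizer G a : Subgroup G) : Set G)) :
    ((chom G a n : centralizer (G : Set (Equiv.Perm α))) : Equiv.Perm α) a = (n : G)⁻¹ • a := by
  change cfun G a n a = _
  have := cfun_smul G a n.2 1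
  rwa [one_smul, one_smul] at this

theorem chom_ker : (chom G a).ker =
    (stabilizer G a).subgroupOf (normalizer ((stabilizer G a : Subgroup G) : Set G)) := by
  ext n
  rw [MonoidHom.mem_ker, mem_subgroupOf, mem_stabilizer_iff]
  constructor
  · intro h
    have h1 := chom_apply_a G a n
    rw [h] at h1
    have h2 : a = (n : G)⁻¹ • a := h1
    rw [eq_inv_smul_iff] at h2
    exact h2
  · intro h
    apply Subtype.ext
    apply eq_one_of_mem_centralizer_of_apply_eq G (chom G a n).2 (a := a)
    rw [chom_apply_a, inv_smul_eq_iff, h]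

omit [IsPretransitive G α] in
/-- if the stabiliser of `a` fixes `g • a`, then `g` normalises it (finite case) -/
theorem mem_normalizer_of_fixed [Finite α] (g : G)
    (hfix : ∀ k ∈ stabilizer G a, k • g • a = g • a) :
    g ∈ normalizer ((stabilizer G a : Subgroup G) : Set G) := by
  rw [mem_normalizer_iff_map_conj_eq]
  have hle : stabilizer G a ≤ stabilizer G (g • a) := fun k hk => hfix k hk
  have hconj := stabilizer_smul_eq_stabilizer_map_conj g a
  have hcard : Nat.card (stabilizer G (g • a)) = Nat.card (stabilizer G a) := by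
    rw [hconj]
    exact Subgroup.card_map_of_injective (MulAut.conj g).injective
  have := Subgroup.eq_of_le_of_card_ge hle hcard.le
  rw [hconj] at this
  exact this.symm

theorem chom_surj [Finite α] : Function.Surjective (chom G a) := by
  intro c
  obtain ⟨g, hg⟩ := exists_smul_eq G a ((c : Equiv.Perm α) a)
  have hgN : g ∈ normalizer ((stabilizer G a : Subgroup G) : Set G) := by
    apply mem_normalizer_of_fixed
    intro k hk
    rw [hg]
    have h1 := c.2 (k : Equiv.Perm α) k.2
    have h2 := congrArg (fun f : Equiv.Perm α => f a) h1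
    simp only [Equiv.Perm.coe_mul, Function.comp_apply] at h2
    have h3 : (k : Equiv.Perm α) a = a := hk
    rw [h3] at h2
    exact h2
  refine ⟨(⟨g, hgN⟩ : normalizer ((stabilizer G a : Subgroup G) : Set G))⁻¹, ?_⟩
  apply Subtype.ext
  have hmem : ((chom G a (⟨g, hgN⟩ : normalizer ((stabilizer G a : Subgroup G) : Set G))⁻¹ :
      centralizer (G : Set (Equiv.Perm α))) : Equiv.Perm α)⁻¹ * (c : Equiv.Perm α) ∈
      centralizer (G : Set (Equiv.Perm α)) := mul_mem (inv_mem (chom G a _).2) c.2
  have hfix : (((chom G a (⟨g, hgN⟩ : normalizer ((stabilizer G a : Subgroup G) : Set G))⁻¹ :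
      centralizer (G : Set (Equiv.Perm α))) : Equiv.Perm α)⁻¹ * (c : Equiv.Perm α)) a = a := by
    rw [Equiv.Perm.coe_mul, Function.comp_apply, Equiv.Perm.inv_def, Equiv.symm_apply_eq,
      chom_apply_a]
    simp only [Subgroup.coe_inv, inv_inv]
    exact hg.symm
  have := eq_one_of_mem_centralizer_of_apply_eq G hmem hfix
  rw [inv_mul_eq_one] at this
  exact this

/-- For a transitive permutation group `G` on a finite set, the centraliser of `G` in the symmetric group is isomorphic to `N_G(G_ω)/G_ω`, and its orbit of `ω` is the set of fixed points of `G_ω`. -/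
theorem result {α : Type*} [Finite α] (G : Subgroup (Equiv.Perm α)) [MulAction.IsPretransitive G α] (a : α) : Nonempty (Subgroup.centralizer (G : Set (Equiv.Perm α)) ≃* Subgroup.normalizer ((MulAction.stabilizer G a : Subgroup G) : Set G) ⧸ (MulAction.stabilizer G a).subgroupOf (Subgroup.normalizer ((MulAction.stabilizer G a : Subgroup G) : Set G))) ∧ MulAction.orbit (Subgroup.centralizer (G : Set (Equiv.Perm α))) a = MulAction.fixedPoints (MulAction.stabilizer G a) α := by
  constructor
  · have e1 := QuotientGroup.quotientKerEquivOfSurjective (chom G a) (chom_surj G a)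
    have e2 := QuotientGroup.quotientMulEquivOfEq (chom_ker G a)
    exact ⟨(e2.symm.trans e1).symm⟩
  · ext x
    constructor
    · rintro ⟨c, rfl⟩ k
      have h1 := c.2 ((k : G) : Equiv.Perm α) (k : G).2
      have h2 := congrArg (fun f : Equiv.Perm α => f a) h1
      simp only [Equiv.Perm.coe_mul, Function.comp_apply] at h2
      have h3 : ((k : G) : Equiv.Perm α) a = a := k.2
      rw [h3] at h2
      exact h2
    · intro hx
      obtain ⟨g, rfl⟩ := exists_smul_eq G a x
      have hgN : g ∈ normalizer ((stabilizer G a : Subgroup G) : Set G) := by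
        apply mem_normalizer_of_fixed
        intro k hk
        exact hx ⟨k, hk⟩
      refine ⟨chom G a (⟨g, hgN⟩ : normalizer ((stabilizer G a : Subgroup G) : Set G))⁻¹, ?_⟩
      change ((chom G a _ : centralizer (G : Set (Equiv.Perm α))) : Equiv.Perm α) a = _
      rw [chom_apply_a]
      simp only [Subgroup.coe_inv, inv_inv]

end Cfsg.Agent.S0702
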