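import Cfsg.Statements.S0703
import Cfsg.Agent.Lib.Helper17.Centralizer

set_option autoImplicit false
open Cfsg

namespace Cfsg.Agent.S0703

open MulAction Subgroup Cfsg.Agent.Lib.Helper17

/-- the elements of `M` killed by `p`, for abelian `M` -/
def torsionSub {G : Type*} [Group G] (M : Subgroup G) (hab : IsMulCommutative M) (p : ℕ) :
    Subgroup G where
  carrier := {g | g ∈ M ∧ g ^ p = 1}
  one_mem' := ⟨M.one_mem, one_pow p⟩
  mul_mem' := by
    rintro a b ⟨ha, hap⟩ ⟨hb, hbp⟩
    refine ⟨M.mul_mem ha hb, ?_⟩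
    have hc : Commute a b := by
      have := mul_comm' (⟨a, ha⟩ : M) ⟨b, hb⟩
      exact congrArg Subtype.val this
    rw [hc.mul_pow, hap, hbp, one_mul]
  inv_mem' := by
    rintro a ⟨ha, hap⟩
    exact ⟨M.inv_mem ha, by rw [inv_pow, hap, inv_one]⟩

theorem torsionSub_normal {G : Type*} [Group G] (M : Subgroup G) [hn : M.Normal]
    (hab : IsMulCommutative M) (p : ℕ) : (torsionSub M hab p).Normal := by
  constructor
  rintro a ⟨ha, hap⟩ g
  refine ⟨hn.conj_mem a ha g, ?_⟩
  rw [conj_pow, hap, mul_one, mul_inv_cancel]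

theorem elementary {G : Type*} [Group G] [Finite G] (M : Subgroup G) [M.Normal] (hM : M ≠ ⊥)
    (hmin : ∀ L : Subgroup G, L.Normal → L ≤ M → L = ⊥ ∨ L = M) (hab : IsMulCommutative M) :
    ∃ p : ℕ, p.Prime ∧ ∀ m ∈ M, m ^ p = 1 := by
  have hcard : Nat.card M ≠ 1 := by
    intro h
    exact hM (Subgroup.card_eq_one.mp h)
  obtain ⟨p, hp, hdvd⟩ := Nat.exists_prime_and_dvd hcard
  refine ⟨p, hp, ?_⟩
  have : Fact p.Prime := ⟨hp⟩
  obtain ⟨x, hx⟩ := exists_prime_orderOf_dvd_card' (G := M) p hdvd
  have hle : torsionSub M hab p ≤ M := fun g hg => hg.1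
  rcases hmin _ (torsionSub_normal M hab p) hle with h | h
  · exfalso
    have hxmem : (x : G) ∈ torsionSub M hab p := by
      refine ⟨x.2, ?_⟩
      have : x ^ p = 1 := by rw [← hx]; exact pow_orderOf_eq_one x
      exact_mod_cast congrArg Subtype.val this
    rw [h, Subgroup.mem_bot] at hxmem
    have hx1 : x = 1 := Subtype.ext hxmem
    rw [hx1, orderOf_one] at hx
    exact hp.one_lt.ne hx
  · intro m hm
    have : m ∈ torsionSub M hab p := by rw [h]; exact hm
    exact this.2

/-- An abelian transitive minimal normal subgroup `M` of a permutation group on a finite set is self-centralising in the symmetric group, regular, elementary abelian, and is the unique minimal normal subgroup. -/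
theorem result {α : Type*} [Finite α] (G : Subgroup (Equiv.Perm α)) (M : Subgroup G) [M.Normal] (hM : M ≠ ⊥) (hmin : ∀ L : Subgroup G, L.Normal → L ≤ M → L = ⊥ ∨ L = M) (hab : IsMulCommutative M) (htrans : MulAction.IsPretransitive M α) : Subgroup.centralizer ((M.map G.subtype : Subgroup (Equiv.Perm α)) : Set (Equiv.Perm α)) = M.map G.subtype ∧ (∀ a : α, MulAction.stabilizer M a = ⊥) ∧ (∃ p : ℕ, p.Prime ∧ ∀ m ∈ M, m ^ p = 1) ∧ ∀ L : Subgroup G, L.Normal → L ≠ ⊥ → (∀ L' : Subgroup G, L'.Normal → L' ≤ L → L' = ⊥ ∨ L' = L) → L = M := by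
  have hT : IsPretransitive (M.map G.subtype) α := isPretransitive_map_subtype G M
  have hcomm : M.map G.subtype ≤
      centralizer ((M.map G.subtype : Subgroup (Equiv.Perm α)) : Set (Equiv.Perm α)) := by
    rintro _ ⟨l, hl, rfl⟩ _ ⟨m, hm, rfl⟩
    have := mul_comm' (⟨m, hm⟩ : M) ⟨l, hl⟩
    exact congrArg (fun x : M => ((x : G) : Equiv.Perm α)) this
  have hcent := centralizer_eq_of_le_of_isPretransitive (M.map G.subtype) (M.map G.subtype) hcomm
  refine ⟨hcent, ?_, ?_, ?_⟩
  · intro a
    exact stabilizer_eq_bot_of_map_le_centralizer G (M.map G.subtype) M hcomm a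
  · exact elementary M hM hmin hab
  · intro L hLn hL hLmin
    by_contra hne
    have hdis := inf_eq_bot_of_minimal L M hL hLmin hmin hne
    have h1 := map_le_centralizer_map_of_disjoint G M L hdis
    rw [hcent, map_subtype_le_map_subtype_iff] at h1
    rcases hmin L hLn h1 with h | h
    · exact hL h
    · exact hne h

end Cfsg.Agent.S0703
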