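import Cfsg.Statements.S0704
import Cfsg.Agent.Lib.Helper17.Centralizer

set_option autoImplicit false
open Cfsg

namespace Cfsg.Agent.S0704

open MulAction Subgroup Cfsg.Agent.Lib.Helper17

/-- two regular subgroups centralising each other are isomorphic -/
theorem iso_of_regular_commuting {α : Type*} (G : Subgroup (Equiv.Perm α)) (M N : Subgroup G)
    [hMt : IsPretransitive M α] [hNt : IsPretransitive N α]
    (hMreg : ∀ a : α, stabilizer M a = ⊥) (hNreg : ∀ a : α, stabilizer N a = ⊥)
    (hcomm : ∀ m ∈ M, ∀ n ∈ N, m * n = n * m) (a : α) : Nonempty (M ≃* N) := by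
  have huniq : ∀ n₁ n₂ : N, n₁ • a = n₂ • a → n₁ = n₂ := by
    intro n₁ n₂ h
    have : n₂⁻¹ * n₁ ∈ stabilizer N a := by
      rw [mem_stabilizer_iff, mul_smul, h, inv_smul_smul]
    rw [hNreg a, Subgroup.mem_bot] at this
    exact (inv_mul_eq_one.mp this).symm
  have huniqM : ∀ m₁ m₂ : M, m₁ • a = m₂ • a → m₁ = m₂ := by
    intro m₁ m₂ h
    have : m₂⁻¹ * m₁ ∈ stabilizer M a := by
      rw [mem_stabilizer_iff, mul_smul, h, inv_smul_smul]
    rw [hMreg a, Subgroup.mem_bot] at this
    exact (inv_mul_eq_one.mp this).symm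
  have hex : ∀ m : M, ∃ n : N, n • a = m⁻¹ • a := fun m => exists_smul_eq N a (m⁻¹ • a)
  choose ψ hψ using hex
  have hcomm' : ∀ (m : M) (n : N) (x : α), m • n • x = n • m • x := by
    intro m n x
    have h := hcomm m m.2 n n.2
    have h2 := congrArg (fun g : G => g • x) h
    simp only [mul_smul] at h2
    exact h2
  have hmul : ∀ m₁ m₂ : M, ψ (m₁ * m₂) = ψ m₁ * ψ m₂ := by
    intro m₁ m₂
    apply huniq
    rw [hψ, mul_inv_rev, mul_smul, mul_smul, hψ m₂, ← hψ m₁, hcomm']
  let f : M →* N := MonoidHom.mk' ψ hmul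
  refine ⟨MulEquiv.ofBijective f ⟨?_, ?_⟩⟩
  · rw [injective_iff_map_eq_one]
    intro m hm
    have h1 : ψ m = 1 := hm
    have h2 := hψ m
    rw [h1, one_smul] at h2
    have h3 : m⁻¹ = 1 := huniqM _ _ (by rw [one_smul]; exact h2.symm)
    exact inv_eq_one.mp h3
  · intro n
    obtain ⟨m, hm⟩ := exists_smul_eq M a (n • a)
    refine ⟨m⁻¹, ?_⟩
    apply huniq
    change ψ m⁻¹ • a = n • a
    rw [hψ, inv_inv, hm]

/-- Two distinct transitive minimal normal subgroups `M`, `N` of a permutation group are regular, non-abelian, isomorphic, each other's centraliser in the symmetric group, and the only minimal normal subgroups. -/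
theorem result {α : Type*} (G : Subgroup (Equiv.Perm α)) (M N : Subgroup G) [M.Normal] [N.Normal] (hM : M ≠ ⊥) (hN : N ≠ ⊥) (hMmin : ∀ L : Subgroup G, L.Normal → L ≤ M → L = ⊥ ∨ L = M) (hNmin : ∀ L : Subgroup G, L.Normal → L ≤ N → L = ⊥ ∨ L = N) (hMN : M ≠ N) (hMt : MulAction.IsPretransitive M α) (hNt : MulAction.IsPretransitive N α) : (∀ a : α, MulAction.stabilizer M a = ⊥) ∧ (∀ a : α, MulAction.stabilizer N a = ⊥) ∧ ¬ IsMulCommutative M ∧ Nonempty (M ≃* N) ∧ Subgroup.centralizer ((M.map G.subtype : Subgroup (Equiv.Perm α)) : Set (Equiv.Perm α)) = N.map G.subtype ∧ Subgroup.centralizer ((N.map G.subtype : Subgroup (Equiv.Perm α)) : Set (Equiv.Perm α)) = M.map G.subtype ∧ ∀ L : Subgroup G, L.Normal → L ≠ ⊥ → (∀ L' : Subgroup G, L'.Normal → L' ≤ L → L' = ⊥ ∨ L' = L) → L = M ∨ L = N := by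
  have hMT : IsPretransitive (M.map G.subtype) α := isPretransitive_map_subtype G M
  have hNT : IsPretransitive (N.map G.subtype) α := isPretransitive_map_subtype G N
  have hdisNM : N ⊓ M = ⊥ := inf_eq_bot_of_minimal M N hM hMmin hNmin hMN
  have hdisMN : M ⊓ N = ⊥ := by rw [inf_comm]; exact hdisNM
  have hNC := map_le_centralizer_map_of_disjoint G M N hdisMN
  have hMC := map_le_centralizer_map_of_disjoint G N M hdisNM
  have hCM := centralizer_eq_of_le_of_isPretransitive (M.map G.subtype) (N.map G.subtype) hNC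
  have hCN := centralizer_eq_of_le_of_isPretransitive (N.map G.subtype) (M.map G.subtype) hMC
  have hMreg : ∀ a : α, stabilizer M a = ⊥ :=
    fun a => stabilizer_eq_bot_of_map_le_centralizer G (N.map G.subtype) M hMC a
  have hNreg : ∀ a : α, stabilizer N a = ⊥ :=
    fun a => stabilizer_eq_bot_of_map_le_centralizer G (M.map G.subtype) N hNC a
  refine ⟨hMreg, hNreg, ?_, ?_, hCM, hCN, ?_⟩
  · intro hab
    have hcomm : M.map G.subtype ≤
        centralizer ((M.map G.subtype : Subgroup (Equiv.Perm α)) : Set (Equiv.Perm α)) := by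
      rintro _ ⟨l, hl, rfl⟩ _ ⟨m, hm, rfl⟩
      have := mul_comm' (⟨m, hm⟩ : M) ⟨l, hl⟩
      exact congrArg (fun x : M => ((x : G) : Equiv.Perm α)) this
    rw [hCM, map_subtype_le_map_subtype_iff] at hcomm
    rcases hNmin M inferInstance hcomm with h | h
    · exact hM h
    · exact hMN h
  · rcases isEmpty_or_nonempty α with hα | ⟨⟨a⟩⟩
    · exfalso
      apply hM
      rw [Subgroup.eq_bot_iff_forall]
      intro m _
      apply Subtype.ext
      ext x
      exact (hα.false x).elim
    · apply iso_of_regular_commuting G M N hMreg hNreg _ a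
      intro m hm n hn
      exact commute_of_normal_of_disjoint M N inferInstance inferInstance
        (disjoint_iff.mpr hdisMN) m n hm hn
  · intro L hLn hL hLmin
    by_cases hne : L = M
    · exact Or.inl hne
    · right
      have hdis := inf_eq_bot_of_minimal L M hL hLmin hMmin hne
      have h1 := map_le_centralizer_map_of_disjoint G M L hdis
      rw [hCM, map_subtype_le_map_subtype_iff] at h1
      rcases hNmin L hLn h1 with h | h
      · exact absurd h hL
      · exact h

end Cfsg.Agent.S0704
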