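import Cfsg.Statements.S0705
import Cfsg.Agent.Lib.Helper17.Generous

set_option autoImplicit false
open scoped Pointwise
open Cfsg

namespace Cfsg.Agent.S0705

open MulAction Cfsg.Agent.Lib.Helper17

theorem genProp_of_hgen {α : Type*} [Fintype α] [DecidableEq α] (G : Subgroup (Equiv.Perm α))
    {k : ℕ}
    (hgen : ∀ s : Finset α, s.card = k + 1 → ∀ σ : Equiv.Perm ↥s, ∃ g ∈ G,
      ∀ x : ↥s, g (x : α) = σ x) : GenProp G α k := by
  intro s hs σ hσ
  have hmaps : ∀ x, σ x ∈ s ↔ x ∈ s := by
    intro x
    constructor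
    · intro h
      by_contra hx
      rw [hσ x hx] at h
      exact hx h
    · intro h
      by_contra hx
      have h1 := hσ (σ x) hx
      have h2 := σ.injective h1
      rw [h2] at hx
      exact hx h
  obtain ⟨g, hg, hgx⟩ := hgen s hs (σ.subtypePerm hmaps)
  refine ⟨⟨g, hg⟩, fun x hx => ?_⟩
  have := hgx ⟨x, hx⟩
  rw [Equiv.Perm.subtypePerm_apply] at this
  exact this

/-- A generously `k`-transitive permutation group (every `(k+1)`-subset has its full symmetric group induced by the setwise stabiliser) of degree greater than `k` is `k`-transitive, and for a `k`-subset the setwise and pointwise stabilisers have the same orbits outside it. -/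
theorem result {α : Type*} [Fintype α] [DecidableEq α] (G : Subgroup (Equiv.Perm α)) {k : ℕ} (hk : k < Fintype.card α) (hgen : ∀ s : Finset α, s.card = k + 1 → ∀ σ : Equiv.Perm ↥s, ∃ g ∈ G, ∀ x : ↥s, g (x : α) = σ x) : MulAction.IsMultiplyPretransitive G α k ∧ ∀ s : Finset α, s.card = k → ∀ a b : α, a ∉ s → b ∉ s → (∃ g ∈ G, g • s = s ∧ g a = b) → ∃ g ∈ G, (∀ x ∈ s, g x = x) ∧ g a = b := by
  have hP := genProp_of_hgen G hgen
  constructor
  · apply isMultiplyPretransitive_of_genProp k _ hP
    rw [Nat.card_eq_fintype_card]; exact hk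
  · rintro s hs a b _ hb ⟨g, hg, hgs, hga⟩
    have hmaps : ∀ x, g⁻¹ x ∈ s ↔ x ∈ s := by
      intro x
      have := Finset.inv_smul_mem_iff (a := g) (b := x) (s := s)
      rw [hgs] at this
      exact this
    let σ' : Equiv.Perm α := Equiv.Perm.ofSubtype ((g⁻¹).subtypePerm hmaps)
    have hσ' : ∀ x, x ∉ insert b s → σ' x = x := by
      intro x hx
      apply Equiv.Perm.ofSubtype_apply_of_not_mem
      intro hxs
      exact hx (Finset.mem_insert_of_mem hxs)
    have hcard : (insert b s).card = k + 1 := by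
      rw [Finset.card_insert_of_notMem hb, hs]
    obtain ⟨h₁, hh₁⟩ := hP (insert b s) hcard σ' hσ'
    refine ⟨(h₁ : Equiv.Perm α) * g, G.mul_mem h₁.2 hg, ?_, ?_⟩
    · intro x hx
      have hgx : g x ∈ s := by
        have := Finset.smul_mem_smul_finset (a := g) hx
        rw [hgs] at this
        exact this
      rw [Equiv.Perm.coe_mul, Function.comp_apply]
      have h2 := hh₁ (g x) (Finset.mem_insert_of_mem hgx)
      have h3 : (h₁ : Equiv.Perm α) (g x) = σ' (g x) := h2
      rw [h3]
      change Equiv.Perm.ofSubtype ((g⁻¹).subtypePerm hmaps) (g x) = x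
      rw [Equiv.Perm.ofSubtype_subtypePerm_of_mem hmaps hgx]
      simp
    · rw [Equiv.Perm.coe_mul, Function.comp_apply, hga]
      have h2 := hh₁ b (Finset.mem_insert_self b s)
      have h3 : (h₁ : Equiv.Perm α) b = σ' b := h2
      rw [h3]
      exact Equiv.Perm.ofSubtype_apply_of_not_mem _ hb

end Cfsg.Agent.S0705
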