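import Cfsg.Statements.S0706
import Cfsg.Agent.S0705
import Cfsg.Agent.Lib.Helper17.SylowTransfer

set_option autoImplicit false
open Cfsg

namespace Cfsg.Agent.S0706

open MulAction Subgroup Cfsg.Agent.Lib.Helper17
open scoped Pointwise

variable {α : Type*} [Fintype α] [DecidableEq α]

/-- Construction of the `p`-element `x`. -/
theorem exists_pElement (G : Subgroup (Equiv.Perm α)) {k : ℕ} (hP : GenProp G α k)
    {p : ℕ} [hp : Fact p.Prime] (hpk : p ≤ k) (Γ : Finset α) (hΓ : Γ.card = k)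
    (w : α) (hw : w ∉ Γ) (P : Sylow p (fixingSubgroup G (Γ : Set α))) :
    ∃ (T : Finset α) (x : G) (a : ℕ), T ⊆ Γ ∧ T.card = p ∧ x ^ p ^ a = 1 ∧
      x ∈ normalizer (((P : Subgroup (fixingSubgroup G (Γ : Set α))).map
        (fixingSubgroup G (Γ : Set α)).subtype : Subgroup G) : Set G) ∧
      (∀ y ∈ Γ, x • y ∈ Γ) ∧ (∀ y ∈ Γ, y ∉ T → x • y = y) ∧ (∀ y ∈ T, x • y ≠ y) := by
  obtain ⟨T, hTsub, hTcard⟩ := Finset.exists_subset_card_eq (hpk.trans_eq hΓ.symm)
  obtain ⟨σ, hσcyc, hσsupp⟩ := Finset.exists_cycleOn T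
  have hσfix : ∀ y, y ∉ T → σ y = y := by
    intro y hy
    by_contra h
    exact hy (hσsupp (Equiv.Perm.mem_support.mpr h))
  have hσT : ∀ y ∈ T, σ y ∈ T := fun y hy => hσcyc.1.mapsTo hy
  have hσΓ : ∀ y ∈ Γ, σ y ∈ Γ := by
    intro y hy
    by_cases hyT : y ∈ T
    · exact hTsub (hσT y hyT)
    · rw [hσfix y hyT]; exact hy
  have hσinvΓ : ∀ y ∈ Γ, σ⁻¹ y ∈ Γ := by
    intro y hy
    by_cases hyT : y ∈ T
    · obtain ⟨z, hz, hzy⟩ := hσcyc.1.surjOn hyT
      have : σ⁻¹ y = z := by rw [Equiv.Perm.inv_eq_iff_eq, hzy]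
      rw [this]; exact hTsub hz
    · have : σ⁻¹ y = y := by rw [Equiv.Perm.inv_eq_iff_eq, hσfix y hyT]
      rw [this]; exact hy
  have hs : (insert w Γ).card = k + 1 := by rw [Finset.card_insert_of_notMem hw, hΓ]
  have hσ_out : ∀ y, y ∉ insert w Γ → σ y = y := by
    intro y hy
    apply hσfix
    intro hyT
    exact hy (Finset.mem_insert_of_mem (hTsub hyT))
  obtain ⟨g₀, hg₀⟩ := hP (insert w Γ) hs σ hσ_out
  have hg₀Γ : ∀ y ∈ Γ, g₀ • y = σ y := fun y hy => hg₀ y (Finset.mem_insert_of_mem hy)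
  have hg₀inv : ∀ y ∈ Γ, g₀⁻¹ • y = σ⁻¹ y := by
    intro y hy
    rw [inv_smul_eq_iff, hg₀Γ _ (hσinvΓ y hy)]
    simp
  have hg₀K : ∀ h ∈ fixingSubgroup G (Γ : Set α), g₀ * h * g₀⁻¹ ∈ fixingSubgroup G (Γ : Set α) := by
    intro h hh
    rw [mem_fixingSubgroup_iff] at hh ⊢
    intro y hy
    have hy' : y ∈ Γ := hy
    rw [mul_smul, mul_smul, hg₀inv y hy', hh _ (hσinvΓ y hy'), ← hg₀inv y hy', smul_inv_smul]
  obtain ⟨h, hhK, hn⟩ := exists_mul_mem_normalizer_sylow (fixingSubgroup G (Γ : Set α)) P g₀ hg₀K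
  have hhfix : ∀ y ∈ Γ, h • y = y := by
    intro y hy
    exact (mem_fixingSubgroup_iff G).mp hhK y hy
  set n : G := h * g₀ with hn_def
  have hnΓ : ∀ y ∈ Γ, n • y = σ y := by
    intro y hy
    rw [hn_def, mul_smul, hg₀Γ y hy, hhfix _ (hσΓ y hy)]
  have hσpowΓ : ∀ (j : ℕ), ∀ y ∈ Γ, (σ ^ j) y ∈ Γ := by
    intro j
    induction j with
    | zero => intro y hy; simpa using hy
    | succ j ih =>
      intro y hy
      rw [pow_succ', Equiv.Perm.mul_apply]
      exact hσΓ _ (ih y hy)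
  have hnpow : ∀ (j : ℕ), ∀ y ∈ Γ, (n ^ j) • y = (σ ^ j) y := by
    intro j
    induction j with
    | zero => intro y _; simp
    | succ j ih =>
      intro y hy
      rw [pow_succ', mul_smul, ih y hy, hnΓ _ (hσpowΓ j y hy), pow_succ', Equiv.Perm.mul_apply]
  have hord : orderOf n ≠ 0 := (orderOf_pos n).ne'
  obtain ⟨a, r, hr, hor⟩ := Nat.exists_eq_pow_mul_and_not_dvd hord p hp.out.ne_one
  refine ⟨T, n ^ r, a, hTsub, hTcard, ?_, ?_, ?_, ?_, ?_⟩
  · rw [← pow_mul, mul_comm, ← hor, pow_orderOf_eq_one]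
  · exact pow_mem hn r
  · intro y hy
    rw [hnpow r y hy]
    exact hσpowΓ r y hy
  · intro y hy hyT
    rw [hnpow r y hy]
    exact Equiv.Perm.pow_apply_eq_self_of_apply_eq_self (hσfix y hyT) r
  · intro y hy
    rw [hnpow r y (hTsub hy)]
    intro hfix
    rw [hσcyc.pow_apply_eq hy, hTcard] at hfix
    exact hr hfix

theorem isPGroup_zpowers_of_pow_eq_one {H : Type*} [Group H] {p : ℕ} (x : H) {a : ℕ}
    (hxp : x ^ p ^ a = 1) : IsPGroup p (zpowers x) := by
  rintro ⟨g, hg⟩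
  obtain ⟨j, rfl⟩ := mem_zpowers_iff.mp hg
  refine ⟨a, ?_⟩
  apply Subtype.ext
  simp only [SubgroupClass.coe_pow, OneMemClass.coe_one]
  rw [← zpow_natCast, ← zpow_mul, mul_comm, zpow_mul, zpow_natCast, hxp, one_zpow]

theorem core (G : Subgroup (Equiv.Perm α)) {k : ℕ} (hk : k < Fintype.card α)
    (h1 : IsMultiplyPretransitive G α k)
    (h2 : ∀ s : Finset α, s.card = k → ∀ a b : α, a ∉ s → b ∉ s →
      (∃ g ∈ G, g • s = s ∧ g a = b) → ∃ g ∈ G, (∀ x ∈ s, g x = x) ∧ g a = b)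
    {p : ℕ} [hp : Fact p.Prime] (Γ : Finset α) (hΓ : Γ.card = k) (K : Subgroup G)
    (hK : K = fixingSubgroup G (Γ : Set α)) (P : Sylow p K) (T : Finset α) (x : G) (a : ℕ)
    (hTsub : T ⊆ Γ) (hTcard : T.card = p) (hxp : x ^ p ^ a = 1)
    (hxn : x ∈ normalizer (((P : Subgroup K).map K.subtype : Subgroup G) : Set G))
    (hxΓ : ∀ y ∈ Γ, x • y ∈ Γ) (hxfix : ∀ y ∈ Γ, y ∉ T → x • y = y)
    (hxmove : ∀ y ∈ T, x • y ≠ y) (f : Fin p → α) (hf : ∀ i, f i ∉ Γ)
    (hdist : ∀ i j, i ≠ j → f j ∉ orbit K (f i))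
    (hcon : ∀ i, ¬ p ∣ Nat.card (orbit K (f i))) : False := by
  have hKmem : ∀ g : G, g ∈ K ↔ ∀ y ∈ Γ, g • y = y := by
    intro g
    rw [hK, mem_fixingSubgroup_iff]
    simp only [Finset.mem_coe]
  set P' : Subgroup G := (P : Subgroup K).map K.subtype with hP'
  have hP'K : P' ≤ K := by
    rintro _ ⟨q, _, rfl⟩
    exact q.2
  have hP'pg : IsPGroup p P' := P.2.map K.subtype
  -- orbit points are outside Γ
  have horbΓ : ∀ i, ∀ y ∈ orbit K (f i), y ∉ Γ := by
    intro i y hy hyΓ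
    obtain ⟨h, rfl⟩ := hy
    have h3 : ((h⁻¹ : K) : G) • (h • f i) = h • f i := (hKmem _).mp (h⁻¹).2 _ hyΓ
    have h4 : ((h⁻¹ : K) : G) • (h • f i) = f i := by
      change (h⁻¹ : K) • (h • f i) = f i
      rw [inv_smul_smul]
    rw [h4] at h3
    exact hf i (h3 ▸ hyΓ)
  have hxsmulΓ : (x : Equiv.Perm α) • Γ = Γ := by
    apply Finset.eq_of_subset_of_card_le
    · intro y hy
      obtain ⟨z, hz, rfl⟩ := Finset.mem_smul_finset.mp hy
      exact hxΓ z hz
    · rw [Finset.card_smul_finset]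
  have hxout : ∀ y, y ∉ Γ → x • y ∉ Γ := by
    intro y hy hxy
    apply hy
    have : (x : Equiv.Perm α) • y ∈ (x : Equiv.Perm α) • Γ := by rw [hxsmulΓ]; exact hxy
    exact Finset.smul_mem_smul_finset_iff _ |>.mp this
  have hxorb : ∀ i, ∀ y ∈ orbit K (f i), x • y ∈ orbit K (f i) := by
    intro i y hy
    have hyΓ := horbΓ i y hy
    obtain ⟨g, hg, hgfix, hgy⟩ := h2 Γ hΓ y (x • y) hyΓ (hxout y hyΓ) ⟨x.1, x.2, hxsmulΓ, rfl⟩
    have hgK : (⟨g, hg⟩ : G) ∈ K := (hKmem _).mpr (fun z hz => hgfix z hz)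
    have : x • y = (⟨⟨g, hg⟩, hgK⟩ : K) • y := hgy.symm
    rw [this]
    exact mem_orbit_of_mem_orbit _ hy
  have hxpg : IsPGroup p (zpowers x) := isPGroup_zpowers_of_pow_eq_one x hxp
  have hR : IsPGroup p (zpowers x ⊔ P' : Subgroup G) :=
    IsPGroup.to_sup_of_normal_right' hxpg hP'pg (zpowers_le.mpr hxn)
  have hRstab : ∀ i, (zpowers x ⊔ P' : Subgroup G) ≤ stabilizer G (orbit K (f i)) := by
    intro i
    apply sup_le
    · rw [zpowers_le, mem_stabilizer_set' (Set.toFinite _)]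
      exact fun y hy => hxorb i y hy
    · intro q hq
      rw [mem_stabilizer_set' (Set.toFinite _)]
      intro y hy
      have : q • y = (⟨q, hP'K hq⟩ : K) • y := rfl
      rw [this]
      exact mem_orbit_of_mem_orbit _ hy
  have hfixpt : ∀ i, ∃ z ∈ orbit K (f i), ∀ c ∈ (zpowers x ⊔ P' : Subgroup G), c • z = z := by
    intro i
    let S : SubMulAction (zpowers x ⊔ P' : Subgroup G) α :=
      { carrier := orbit K (f i)
        smul_mem' := fun c y hy => by
          have := hRstab i c.2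
          rw [mem_stabilizer_set' (Set.toFinite _)] at this
          exact this hy }
    obtain ⟨⟨z, hz⟩, hzfix⟩ := hR.nonempty_fixed_point_of_prime_not_dvd_card S (hcon i)
    refine ⟨z, hz, fun c hc => ?_⟩
    have := hzfix ⟨c, hc⟩
    exact congrArg Subtype.val this
  choose z hz hzfix using hfixpt
  have hzinj : Function.Injective z := by
    intro i j hij
    by_contra hne
    apply hdist i j hne
    have e1 : orbit K (z i) = orbit K (f i) := orbit_eq_iff.mpr (hz i)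
    have e2 : orbit K (z j) = orbit K (f j) := orbit_eq_iff.mpr (hz j)
    rw [← e1, hij, e2]
    exact mem_orbit_self _
  have hzΓ : ∀ i, z i ∉ Γ := fun i => horbΓ i _ (hz i)
  have hpk : p ≤ k := by
    rw [← hTcard, ← hΓ]; exact Finset.card_le_card hTsub
  have hΓ''card : ((Γ \ T) ∪ Finset.univ.image z).card = k := by
    rw [Finset.card_union_of_disjoint, Finset.card_sdiff_of_subset hTsub,
      Finset.card_image_of_injective _ hzinj, Finset.card_univ, Fintype.card_fin, hΓ, hTcard]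
    · omega
    · rw [Finset.disjoint_left]
      intro y hy1 hy2
      obtain ⟨i, _, rfl⟩ := Finset.mem_image.mp hy2
      exact hzΓ i (Finset.mem_sdiff.mp hy1).1
  have hK''mem : ∀ g : G, g ∈ fixingSubgroup G (((Γ \ T) ∪ Finset.univ.image z : Finset α) : Set α)
      ↔ ∀ y ∈ (Γ \ T) ∪ Finset.univ.image z, g • y = y := by
    intro g
    rw [mem_fixingSubgroup_iff]
    simp only [Finset.mem_coe]
  have hP'K'' : P' ≤ fixingSubgroup G (((Γ \ T) ∪ Finset.univ.image z : Finset α) : Set α) := by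
    intro q hq
    rw [hK''mem]
    intro y hy
    rcases Finset.mem_union.mp hy with h | h
    · exact (hKmem q).mp (hP'K hq) y (Finset.mem_sdiff.mp h).1
    · obtain ⟨i, _, rfl⟩ := Finset.mem_image.mp h
      exact hzfix i q (le_sup_right (a := zpowers x) hq)
  have hxK'' : x ∈ fixingSubgroup G (((Γ \ T) ∪ Finset.univ.image z : Finset α) : Set α) := by
    rw [hK''mem]
    intro y hy
    rcases Finset.mem_union.mp hy with h | h
    · exact hxfix y (Finset.mem_sdiff.mp h).1 (Finset.mem_sdiff.mp h).2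
    · obtain ⟨i, _, rfl⟩ := Finset.mem_image.mp h
      exact hzfix i x (le_sup_left (b := P') (mem_zpowers x))
  have hidx : ∀ s : Finset α, s.card = k → (fixingSubgroup G (s : Set α)).index =
      Nat.choose (Nat.card α) k * k.factorial := by
    intro s hs
    have := IsMultiplyPretransitive.index_of_fixingSubgroup_eq (G := G) (s : Set α)
      (by rw [Set.ncard_coe_finset, hs]; exact h1)
    rwa [Set.ncard_coe_finset, hs] at this
  have hcardK : Nat.card (fixingSubgroup G (((Γ \ T) ∪ Finset.univ.image z : Finset α) : Set α))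
      = Nat.card K := by
    have e1 := Subgroup.card_mul_index K
    have e2 := Subgroup.card_mul_index
      (fixingSubgroup G (((Γ \ T) ∪ Finset.univ.image z : Finset α) : Set α))
    have hKidx : K.index = Nat.choose (Nat.card α) k * k.factorial := by
      rw [hK]; exact hidx Γ hΓ
    rw [hKidx] at e1
    rw [hidx _ hΓ''card] at e2
    have hc : 0 < Nat.choose (Nat.card α) k * k.factorial :=
      Nat.mul_pos (Nat.choose_pos (by rw [Nat.card_eq_fintype_card]; exact hk.le))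
        (Nat.factorial_pos _)
    exact Nat.eq_of_mul_eq_mul_right hc (e2.trans e1.symm)
  have hcardP' : Nat.card P' = p ^ (Nat.card (fixingSubgroup G
      (((Γ \ T) ∪ Finset.univ.image z : Finset α) : Set α))).factorization p := by
    rw [hcardK, hP', Subgroup.card_map_of_injective K.subtype_injective]
    exact P.card_eq_multiplicity
  have hxP' := mem_of_mem_normalizer_of_card _ P' hP'K'' hcardP' x hxK'' hxp hxn
  have hxK : x ∈ K := hP'K hxP'
  obtain ⟨y, hy⟩ : T.Nonempty := by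
    rw [← Finset.card_pos, hTcard]; exact hp.out.pos
  exact hxmove y hy ((hKmem x).mp hxK y (hTsub hy))

theorem result {α : Type*} [Fintype α] [DecidableEq α] (G : Subgroup (Equiv.Perm α)) {k : ℕ} (hk : k < Fintype.card α) (hgen : ∀ s : Finset α, s.card = k + 1 → ∀ σ : Equiv.Perm ↥s, ∃ g ∈ G, ∀ x : ↥s, g (x : α) = σ x) {p : ℕ} (hp : p.Prime) (hpk : p ≤ k) (Γ : Finset α) (hΓ : Γ.card = k) (f : Fin p → α) (hf : ∀ i, f i ∉ Γ) (hdist : ∀ i j, i ≠ j → f j ∉ MulAction.orbit (fixingSubgroup G (Γ : Set α)) (f i)) : ∃ i, p ∣ Nat.card (MulAction.orbit (fixingSubgroup G (Γ : Set α)) (f i)) := by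
  by_contra hcon
  push Not at hcon
  haveI : Fact p.Prime := ⟨hp⟩
  have hP := Cfsg.Agent.S0705.genProp_of_hgen G hgen
  have h705 := Cfsg.Agent.S0705.result G hk hgen
  obtain ⟨P⟩ : Nonempty (Sylow p (fixingSubgroup G (Γ : Set α))) := inferInstance
  obtain ⟨T, x, a, hTsub, hTcard, hxp, hxn, hxΓ, hxfix, hxmove⟩ :=
    exists_pElement G hP hpk Γ hΓ (f ⟨0, hp.pos⟩) (hf _) P
  exact core G hk h705.1 h705.2 Γ hΓ _ rfl P T x a hTsub hTcard hxp hxn hxΓ hxfix hxmove f hf
    hdist hcon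

end Cfsg.Agent.S0706
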