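import Cfsg.Statements.S0707
import Mathlib

set_option autoImplicit false
open Cfsg

namespace Cfsg.Agent.S0707

theorem stab_bot {α : Type*} (G : Subgroup (Equiv.Perm α)) [MulAction.IsPreprimitive G α]
    {a b : α} (hab : a ≠ b) (heq : MulAction.stabilizer G a = MulAction.stabilizer G b) :
    MulAction.stabilizer G a = ⊥ := by
  have : Nontrivial α := ⟨⟨a, b, hab⟩⟩
  have hco := MulAction.IsPreprimitive.isCoatom_stabilizer_of_isPreprimitive (G := G) a
  have hle : MulAction.stabilizer G a ≤ Subgroup.normalizer (MulAction.stabilizer G a : Set G) :=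
    Subgroup.le_normalizer
  obtain ⟨g, hg⟩ := MulAction.exists_smul_eq G a b
  have hconj : ∀ g : G, MulAction.stabilizer G (g • a) = MulAction.stabilizer G a →
      g ∈ Subgroup.normalizer (MulAction.stabilizer G a : Set G) := by
    intro g hga
    rw [Subgroup.mem_normalizer_iff]
    intro h
    nth_rewrite 2 [← hga]
    rw [MulAction.mem_stabilizer_iff, MulAction.mem_stabilizer_iff, mul_smul, mul_smul,
      inv_smul_smul]
    exact ⟨fun h1 => by rw [h1], fun h1 => smul_left_cancel g h1⟩
  rcases eq_or_lt_of_le hle with h1 | h1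
  · exfalso
    have hgn := hconj g (by rw [hg, heq])
    rw [← h1] at hgn
    exact hab (hgn.symm.trans hg)
  · have htop := hco.2 _ h1
    rw [Subgroup.eq_bot_iff_forall]
    intro x hx
    apply Subtype.ext
    ext c
    obtain ⟨k, rfl⟩ := MulAction.exists_smul_eq G a c
    have hk : k⁻¹ ∈ Subgroup.normalizer (MulAction.stabilizer G a : Set G) := by
      rw [htop]; trivial
    rw [Subgroup.mem_normalizer_iff] at hk
    have := (hk x).1 hx
    rw [MulAction.mem_stabilizer_iff, mul_smul, mul_smul, inv_inv] at this
    have h2 : x • k • a = k • a := by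
      have h3 := congrArg (fun y => k • y) this
      simpa only [smul_inv_smul] using h3
    exact h2

/-- In a primitive permutation group, distinct points have distinct stabilisers unless the group is regular of prime degree. -/
theorem result {α : Type*} (G : Subgroup (Equiv.Perm α)) [MulAction.IsPreprimitive G α] (h : ¬ (Nat.card α).Prime ∨ ∃ a : α, MulAction.stabilizer G a ≠ ⊥) {a b : α} (hab : a ≠ b) : MulAction.stabilizer G a ≠ MulAction.stabilizer G b := by
  intro heq
  have hbot := stab_bot G hab heq
  have : Nontrivial α := ⟨⟨a, b, hab⟩⟩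
  have hall : ∀ c : α, MulAction.stabilizer G c = ⊥ := by
    intro c
    obtain ⟨k, rfl⟩ := MulAction.exists_smul_eq G a c
    rw [MulAction.stabilizer_smul_eq_stabilizer_map_conj, hbot, Subgroup.map_bot]
  rcases h with h | ⟨c, hc⟩
  · apply h
    have hco := MulAction.IsPreprimitive.isCoatom_stabilizer_of_isPreprimitive (G := G) a
    rw [hbot] at hco
    have hso : IsSimpleOrder (Subgroup G) := isSimpleOrder_iff_isCoatom_bot.mpr hco
    have hnt : Nontrivial G := by
      rw [← Subgroup.nontrivial_iff]
      exact hso.toNontrivial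
    have hcyc : IsCyclic G := by
      obtain ⟨g, hg⟩ := exists_ne (1 : G)
      have : Subgroup.zpowers g = ⊤ :=
        (eq_bot_or_eq_top (Subgroup.zpowers g)).resolve_left (Subgroup.zpowers_ne_bot.2 hg)
      exact ⟨⟨g, (Subgroup.eq_top_iff' _).1 this⟩⟩
    have hsimp : IsSimpleGroup G := ⟨fun H _ => eq_bot_or_eq_top H⟩
    have hp : (Nat.card G).Prime := Group.is_simple_iff_prime_card.mp hsimp
    have hidx := MulAction.index_stabilizer_of_transitive G a
    rw [hbot, Subgroup.index_bot] at hidx
    rw [← hidx]
    exact hp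
  · exact hc (hall c)

end Cfsg.Agent.S0707
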