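import Cfsg.Statements.S0708
import Mathlib

set_option autoImplicit false
open Cfsg

namespace Cfsg.Agent.S0708

open MulAction Subgroup

variable {G : Type*} [Group G] {Ω : Type*} [MulAction G Ω]

/-- The embedding `Fin 4 ↪ Ω` given by four distinct points. -/
def emb4 (a b c d : Ω) (hab : a ≠ b) (hac : a ≠ c) (had : a ≠ d) (hbc : b ≠ c) (hbd : b ≠ d)
    (hcd : c ≠ d) : Fin 4 ↪ Ω :=
  ⟨![a, b, c, d], by
    intro i j hij
    fin_cases i <;> fin_cases j <;> simp_all⟩

theorem trans4 (h4 : IsMultiplyPretransitive G Ω 4) {a b c d a' b' c' d' : Ω}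
    (hab : a ≠ b) (hac : a ≠ c) (had : a ≠ d) (hbc : b ≠ c) (hbd : b ≠ d) (hcd : c ≠ d)
    (hab' : a' ≠ b') (hac' : a' ≠ c') (had' : a' ≠ d') (hbc' : b' ≠ c') (hbd' : b' ≠ d')
    (hcd' : c' ≠ d') : ∃ g : G, g • a = a' ∧ g • b = b' ∧ g • c = c' ∧ g • d = d' := by
  obtain ⟨g, hg⟩ := h4.exists_smul_eq (emb4 a b c d hab hac had hbc hbd hcd)
    (emb4 a' b' c' d' hab' hac' had' hbc' hbd' hcd')
  exact ⟨g, DFunLike.congr_fun hg 0, DFunLike.congr_fun hg 1, DFunLike.congr_fun hg 2,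
    DFunLike.congr_fun hg 3⟩

theorem sharp4 (hsharp : ∀ x : Fin 4 ↪ Ω, stabilizer G x = ⊥) (g : G) {a b c d : Ω}
    (hab : a ≠ b) (hac : a ≠ c) (had : a ≠ d) (hbc : b ≠ c) (hbd : b ≠ d) (hcd : c ≠ d)
    (ha : g • a = a) (hb : g • b = b) (hc : g • c = c) (hd : g • d = d) : g = 1 := by
  have : g ∈ stabilizer G (emb4 a b c d hab hac had hbc hbd hcd) := by
    rw [mem_stabilizer_iff]
    ext i
    fin_cases i
    · exact ha
    · exact hb
    · exact hc
    · exact hd
  rw [hsharp] at this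
  exact this

theorem agree4 (hsharp : ∀ x : Fin 4 ↪ Ω, stabilizer G x = ⊥) (g₁ g₂ : G) {a b c d : Ω}
    (hab : a ≠ b) (hac : a ≠ c) (had : a ≠ d) (hbc : b ≠ c) (hbd : b ≠ d) (hcd : c ≠ d)
    (ha : g₁ • a = g₂ • a) (hb : g₁ • b = g₂ • b) (hc : g₁ • c = g₂ • c)
    (hd : g₁ • d = g₂ • d) : g₁ = g₂ := by
  have h1 : g₂⁻¹ * g₁ = 1 := by
    apply sharp4 hsharp _ hab hac had hbc hbd hcd
    · rw [mul_smul, ha, inv_smul_smul]
    · rw [mul_smul, hb, inv_smul_smul]
    · rw [mul_smul, hc, inv_smul_smul]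
    · rw [mul_smul, hd, inv_smul_smul]
  exact (inv_mul_eq_one.mp h1).symm

omit [MulAction G Ω] in
theorem finite_ncard_le_three (S : Set Ω) (h : ∀ x : Fin 4 ↪ Ω, ¬ ∀ i, x i ∈ S) :
    S.Finite ∧ S.ncard ≤ 3 := by
  classical
  have key : ∀ s : Finset Ω, (↑s ⊆ S) → s.card ≠ 4 := by
    intro s hs hc
    let e := (s.equivFinOfCardEq hc).symm
    exact h (e.toEmbedding.trans (Function.Embedding.subtype _)) (fun i => hs (e i).2)
  by_cases hfin : S.Finite
  · refine ⟨hfin, ?_⟩
    by_contra hcon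
    push Not at hcon
    obtain ⟨t, hts, htc⟩ := Set.exists_subset_card_eq (s := S) (n := 4) (by omega)
    have htfin : t.Finite := hfin.subset hts
    refine key htfin.toFinset ?_ ?_
    · intro z hz
      exact hts (htfin.mem_toFinset.mp hz)
    · rw [← Set.ncard_eq_toFinset_card t htfin]
      exact htc
  · exfalso
    obtain ⟨s, hs, hc⟩ := (Set.not_finite.mp hfin).exists_subset_card_eq 4
    exact key s hs hc

omit [MulAction G Ω] in
theorem isPGroup_zpowers_two (t : G) (ht : t * t = 1) : IsPGroup 2 (zpowers t) := by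
  rintro ⟨g, hg⟩
  obtain ⟨j, rfl⟩ := mem_zpowers_iff.mp hg
  refine ⟨1, ?_⟩
  apply Subtype.ext
  simp only [pow_one, SubgroupClass.coe_pow, OneMemClass.coe_one]
  rw [← zpow_natCast, ← zpow_mul, mul_comm, zpow_mul, zpow_natCast, pow_two, ht, one_zpow]

theorem result {G : Type*} [Group G] {Ω : Type*} [MulAction G Ω] (h4 : MulAction.IsMultiplyPretransitive G Ω 4) (hsharp : ∀ x : Fin 4 ↪ Ω, MulAction.stabilizer G x = ⊥) (hne : Nonempty (Fin 4 ↪ Ω)) : Finite Ω ∧ Nat.card Ω ≤ 11 ∧ (Even (Nat.card Ω) → Nat.card Ω ≤ 6) := by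
  classical
  obtain ⟨x⟩ := hne
  have h12 : x 0 ≠ x 1 := x.injective.ne (by decide)
  have h13 : x 0 ≠ x 2 := x.injective.ne (by decide)
  have h14 : x 0 ≠ x 3 := x.injective.ne (by decide)
  have h23 : x 1 ≠ x 2 := x.injective.ne (by decide)
  have h24 : x 1 ≠ x 3 := x.injective.ne (by decide)
  have h34 : x 2 ≠ x 3 := x.injective.ne (by decide)
  obtain ⟨t, ht1, ht2, ht3, ht4⟩ := trans4 h4 h12 h13 h14 h23 h24 h34 h12.symm h23 h24 h13 h14 h34
  have htt : t * t = 1 := by
    apply sharp4 hsharp _ h12 h13 h14 h23 h24 h34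
    · rw [mul_smul, ht1, ht2]
    · rw [mul_smul, ht2, ht1]
    · rw [mul_smul, ht3, ht3]
    · rw [mul_smul, ht4, ht4]
  have hsq : ∀ z : Ω, t • t • z = z := fun z => by rw [← mul_smul, htt, one_smul]
  -- the fixed points of t
  have hF := finite_ncard_le_three {z : Ω | t • z = z} (by
    intro y hy
    have h1 : t ∈ stabilizer G y := by
      rw [mem_stabilizer_iff]
      ext i
      exact hy i
    rw [hsharp] at h1
    rw [Subgroup.mem_bot] at h1
    rw [h1, one_smul] at ht1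
    exact h12 ht1)
  obtain ⟨hFfin, hF3⟩ := hF
  -- bound on the remaining moved points
  have hM : {y : Ω | t • y ≠ y ∧ y ≠ x 0 ∧ y ≠ x 1}.Finite ∧
      {y : Ω | t • y ≠ y ∧ y ≠ x 0 ∧ y ≠ x 1}.ncard ≤
        {z : Ω | t • z = z}.ncard * {z : Ω | t • z = z}.ncard - {z : Ω | t • z = z}.ncard := by
    by_cases hMne : {y : Ω | t • y ≠ y ∧ y ≠ x 0 ∧ y ≠ x 1}.Nonempty
    · obtain ⟨u, hu1, hu2, hu3⟩ := hMne
      have hex : ∀ y : Ω, (t • y ≠ y ∧ y ≠ x 0 ∧ y ≠ x 1) →
          ∃ h : G, h • x 0 = x 0 ∧ h • x 1 = x 1 ∧ h • u = y ∧ h • (t • u) = t • y := by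
        rintro y ⟨hy1, hy2, hy3⟩
        have hty0 : ∀ w : Ω, w ≠ x 1 → t • w ≠ x 0 := by
          intro w hw h
          apply hw
          rw [← hsq w, h, ht1]
        have hty1 : ∀ w : Ω, w ≠ x 0 → t • w ≠ x 1 := by
          intro w hw h
          apply hw
          rw [← hsq w, h, ht2]
        exact trans4 h4 h12 hu2.symm (hty0 u hu3).symm hu3.symm (hty1 u hu2).symm hu1.symm
          h12 hy2.symm (hty0 y hy3).symm hy3.symm (hty1 y hy2).symm hy1.symm
      choose! h hh using hex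
      -- h y commutes with t, hence preserves the fixed points
      have hcomm : ∀ y : Ω, (t • y ≠ y ∧ y ≠ x 0 ∧ y ≠ x 1) → h y * t = t * h y := by
        intro y hy
        obtain ⟨hh0, hh1, hhu, hhtu⟩ := hh y hy
        have hty0 : t • u ≠ x 0 := by
          intro h'
          apply hu3
          rw [← hsq u, h', ht1]
        have hty1 : t • u ≠ x 1 := by
          intro h'
          apply hu2
          rw [← hsq u, h', ht2]
        apply agree4 hsharp _ _ h12 hu2.symm hty0.symm hu3.symm hty1.symm hu1.symm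
        · rw [mul_smul, mul_smul, ht1, hh1, hh0, ht1]
        · rw [mul_smul, mul_smul, ht2, hh0, hh1, ht2]
        · rw [mul_smul, mul_smul, hhtu, hhu]
        · rw [mul_smul, mul_smul, hsq, hhu, hhtu, hsq]
      have hpres : ∀ y : Ω, (t • y ≠ y ∧ y ≠ x 0 ∧ y ≠ x 1) → ∀ z : Ω, t • z = z →
          t • (h y • z) = h y • z := by
        intro y hy z hz
        rw [← mul_smul, ← hcomm y hy, mul_smul, hz]
      let Ff : Finset Ω := hFfin.toFinset
      have hmaps : ∀ y ∈ {y : Ω | t • y ≠ y ∧ y ≠ x 0 ∧ y ≠ x 1},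
          (fun y => (h y • x 2, h y • x 3)) y ∈ (Ff.offDiag : Set (Ω × Ω)) := by
        intro y hy
        rw [Finset.mem_coe, Finset.mem_offDiag]
        refine ⟨hFfin.mem_toFinset.mpr (hpres y hy _ ht3), hFfin.mem_toFinset.mpr (hpres y hy _ ht4),
          ?_⟩
        intro heq
        exact h34 (smul_left_cancel _ heq)
      have hinj : Set.InjOn (fun y => (h y • x 2, h y • x 3))
          {y : Ω | t • y ≠ y ∧ y ≠ x 0 ∧ y ≠ x 1} := by
        intro y hy y' hy' heq
        obtain ⟨hh0, hh1, hhu, -⟩ := hh y hy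
        obtain ⟨hh0', hh1', hhu', -⟩ := hh y' hy'
        have h3 : h y • x 2 = h y' • x 2 := congrArg Prod.fst heq
        have h4' : h y • x 3 = h y' • x 3 := congrArg Prod.snd heq
        have heq' : h y = h y' := agree4 hsharp _ _ h12 h13 h14 h23 h24 h34
          (by rw [hh0, hh0']) (by rw [hh1, hh1']) h3 h4'
        rw [← hhu, ← hhu', heq']
      refine ⟨Set.Finite.of_injOn hmaps hinj (Finset.finite_toSet _), ?_⟩
      have h5 := Set.ncard_le_ncard_of_injOn _ hmaps hinj (Finset.finite_toSet _)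
      rw [Set.ncard_coe_finset, Finset.offDiag_card] at h5
      rw [Set.ncard_eq_toFinset_card _ hFfin]
      exact h5
    · rw [Set.not_nonempty_iff_eq_empty] at hMne
      rw [hMne]
      exact ⟨Set.finite_empty, by simp⟩
  obtain ⟨hMfin, hMcard⟩ := hM
  -- Ω is the union of the three finite sets
  have hcover : (Set.univ : Set Ω) = {z : Ω | t • z = z} ∪ {x 0, x 1} ∪
      {y : Ω | t • y ≠ y ∧ y ≠ x 0 ∧ y ≠ x 1} := by
    ext z
    simp only [Set.mem_univ, Set.mem_union, Set.mem_ofPred_eq, Set.mem_insert_iff,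
      Set.mem_singleton_iff, true_iff]
    tauto
  have hfinU : (Set.univ : Set Ω).Finite := by
    rw [hcover]
    exact (hFfin.union (Set.toFinite _)).union hMfin
  have hfin : Finite Ω := Set.finite_univ_iff.mp hfinU
  have hcard : Nat.card Ω ≤ {z : Ω | t • z = z}.ncard + 2 +
      {y : Ω | t • y ≠ y ∧ y ≠ x 0 ∧ y ≠ x 1}.ncard := by
    rw [← Set.ncard_univ, hcover]
    calc _ ≤ ({z : Ω | t • z = z} ∪ {x 0, x 1}).ncard + _ := Set.ncard_union_le _ _
      _ ≤ {z : Ω | t • z = z}.ncard + ({x 0, x 1} : Set Ω).ncard + _ :=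
          Nat.add_le_add_right (Set.ncard_union_le _ _) _
      _ = _ := by rw [Set.ncard_pair h12]
  -- parity
  have hpar : Nat.card Ω ≡ {z : Ω | t • z = z}.ncard [MOD 2] := by
    haveI : Fact (Nat.Prime 2) := ⟨Nat.prime_two⟩
    have h1 := (isPGroup_zpowers_two t htt).card_modEq_card_fixedPoints Ω
    have h2 : fixedPoints (zpowers t) Ω = {z : Ω | t • z = z} := by
      ext z
      constructor
      · intro hz
        exact hz ⟨t, mem_zpowers t⟩
      · intro hz g
        have hle : zpowers t ≤ stabilizer G z := zpowers_le.mpr (mem_stabilizer_iff.mpr hz)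
        exact mem_stabilizer_iff.mp (hle g.2)
    rw [h2] at h1
    exact h1
  refine ⟨hfin, ?_, ?_⟩
  · have h6 : {z : Ω | t • z = z}.ncard * {z : Ω | t • z = z}.ncard ≤ 9 := by nlinarith
    generalize {z : Ω | t • z = z}.ncard = f at *
    interval_cases f <;> omega
  · intro heven
    have h7 : {z : Ω | t • z = z}.ncard % 2 = 0 := by
      have := hpar
      unfold Nat.ModEq at this
      rw [← this]
      exact Nat.even_iff.mp heven
    generalize {z : Ω | t • z = z}.ncard = f at *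
    interval_cases f <;> omega

end Cfsg.Agent.S0708
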