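import Cfsg.Statements.S0709
import Cfsg.Agent.Lib.Helper17.WittExt
import Cfsg.Agent.Lib.Helper17.MultTrans

set_option autoImplicit false
open Cfsg

namespace Cfsg.Agent.S0709

open MulAction SubMulAction Subgroup Equiv Cfsg.Agent.Lib.Helper17

/-- `(m+1)`-transitivity from `m`-transitivity and transitivity of one pointwise stabiliser. -/
theorem succ_of_transOff {G α : Type*} [Group G] [MulAction G α] [Finite α] (m : ℕ) (S : Set α)
    (hS : S.ncard = m) (hm : IsMultiplyPretransitive G α m)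
    (h : ∀ x y : α, x ∉ S → y ∉ S → ∃ g : G, (∀ z ∈ S, g • z = z) ∧ g • x = y) :
    IsMultiplyPretransitive G α (m + 1) := by
  apply isMultiplyPretransitive_add_of_fixingSubgroup m 1 S hS hm
  rw [is_one_pretransitive_iff]
  constructor
  intro x y
  obtain ⟨g, hfix, hxy⟩ := h x.1 y.1 (not_mem_of_mem_ofFixingSubgroup x)
    (not_mem_of_mem_ofFixingSubgroup y)
  refine ⟨⟨g, ?_⟩, ?_⟩
  · rw [mem_fixingSubgroup_iff]
    exact hfix
  · apply Subtype.ext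
    exact hxy

variable {α : Type*} [Fintype α] [DecidableEq α]

/-- The hypotheses of Witt's lemma. -/
structure WD (t : ℕ) (q : ℕ → α) (G : Subgroup (Perm α)) (s : ℕ → Perm α)
    (H : Subgroup (Perm α)) : Prop where
  ht : 2 ≤ t
  hq : ∀ i j : ℕ, 1 ≤ i → i ≤ t → 1 ≤ j → j ≤ t → q i = q j → i = j
  hfix : ∀ g ∈ G, ∀ i : ℕ, 3 ≤ i → i ≤ t → g (q i) = q i
  h2 : ∀ a b c d : α, (∀ i, 3 ≤ i → i ≤ t → a ≠ q i ∧ b ≠ q i ∧ c ≠ q i ∧ d ≠ q i) → a ≠ b →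
    c ≠ d → ∃ g ∈ G, g a = c ∧ g b = d
  hs1 : s 1 ∈ G
  hs1q : s 1 (q 1) = q 2 ∧ s 1 (q 2) = q 1
  hsq : ∀ i : ℕ, 2 ≤ i → i + 1 ≤ t → s i (q i) = q (i + 1) ∧ s i (q (i + 1)) = q i ∧
    ∀ j : ℕ, 1 ≤ j → j ≤ t → j ≠ i → j ≠ i + 1 → s i (q j) = q j
  hH : H = G ⊓ MulAction.stabilizer (Perm α) (q 1) ⊓ MulAction.stabilizer (Perm α) (q 2)
  hsq2 : ∀ i : ℕ, 1 ≤ i → i + 1 ≤ t → s i ^ 2 ∈ H
  hbraid : ∀ i : ℕ, 1 ≤ i → i + 2 ≤ t → (s i * s (i + 1)) ^ 3 ∈ H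
  hcomm : ∀ i j : ℕ, 1 ≤ i → i + 2 ≤ j → j + 1 ≤ t → (s i * s j) ^ 2 ∈ H ∧ (s j * s i) ^ 2 ∈ H
  hnorm : ∀ i : ℕ, 2 ≤ i → i + 1 ≤ t → ∀ g ∈ G ⊓ MulAction.stabilizer (Perm α) (q 2),
    s i * g * (s i)⁻¹ ∈ G ⊓ MulAction.stabilizer (Perm α) (q 2)

/-- `Gi i = ⟨G, s_2, …, s_{i-1}⟩`. -/
def Gi (G : Subgroup (Perm α)) (s : ℕ → Perm α) (i : ℕ) : Subgroup (Perm α) :=
  closure ((G : Set (Perm α)) ∪ {x | ∃ j : ℕ, 2 ≤ j ∧ j + 1 ≤ i ∧ x = s j})

omit [Fintype α] [DecidableEq α] in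
theorem G_le_Gi (G : Subgroup (Perm α)) (s : ℕ → Perm α) (i : ℕ) : G ≤ Gi G s i :=
  fun _ hx => subset_closure (Or.inl hx)

omit [Fintype α] [DecidableEq α] in
theorem s_mem_Gi (G : Subgroup (Perm α)) (s : ℕ → Perm α) {i j : ℕ} (hj : 2 ≤ j)
    (hji : j + 1 ≤ i) : s j ∈ Gi G s i :=
  subset_closure (Or.inr ⟨j, hj, hji, rfl⟩)

omit [Fintype α] [DecidableEq α] in
theorem Gi_mono (G : Subgroup (Perm α)) (s : ℕ → Perm α) {i i' : ℕ} (h : i ≤ i') :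
    Gi G s i ≤ Gi G s i' := by
  apply Subgroup.closure_mono
  rintro x (hx | ⟨j, hj, hji, rfl⟩)
  · exact Or.inl hx
  · exact Or.inr ⟨j, hj, by omega, rfl⟩

omit [Fintype α] [DecidableEq α] in
theorem Gi_two (G : Subgroup (Perm α)) (s : ℕ → Perm α) : Gi G s 2 = G := by
  apply le_antisymm
  · rw [Gi, Subgroup.closure_le]
    rintro x (hx | ⟨j, hj, hji, rfl⟩)
    · exact hx
    · omega
  · exact G_le_Gi G s 2

section
variable {t : ℕ} {q : ℕ → α} {G : Subgroup (Perm α)} {s : ℕ → Perm α} {H : Subgroup (Perm α)}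

omit [Fintype α] [DecidableEq α] in
theorem mem_H (D : WD t q G s H) (x : Perm α) :
    x ∈ H ↔ x ∈ G ∧ x (q 1) = q 1 ∧ x (q 2) = q 2 := by
  rw [D.hH]
  simp only [Subgroup.mem_inf, mem_stabilizer_iff, Perm.smul_def]
  tauto

omit [Fintype α] [DecidableEq α] in
theorem H_le_G (D : WD t q G s H) : H ≤ G := fun x hx => ((mem_H D x).mp hx).1

omit [Fintype α] [DecidableEq α] in
theorem q_ne (D : WD t q G s H) {i j : ℕ} (hi : 1 ≤ i) (hit : i ≤ t) (hj : 1 ≤ j) (hjt : j ≤ t)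
    (hij : i ≠ j) : q i ≠ q j := fun h => hij (D.hq i j hi hit hj hjt h)

omit [Fintype α] [DecidableEq α] in
/-- F1: `Gi i` fixes `q m` for `m > i`. -/
theorem Gi_fix (D : WD t q G s H) {i : ℕ} (hi : 2 ≤ i) {m : ℕ} (him : i + 1 ≤ m) (hmt : m ≤ t) :
    ∀ x ∈ Gi G s i, x (q m) = q m := by
  have hle : Gi G s i ≤ MulAction.stabilizer (Perm α) (q m) := by
    rw [Gi, Subgroup.closure_le]
    rintro x (hx | ⟨j, hj, hji, rfl⟩)
    · exact D.hfix x hx m (by omega) hmt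
    · exact (D.hsq j hj (by omega)).2.2 m (by omega) hmt (by omega) (by omega)
  intro x hx
  exact hle hx

omit [Fintype α] [DecidableEq α] in
/-- F2: `G = G_{q2} ∪ G_{q2} s₁ G_{q2}`. -/
theorem G_decomp (D : WD t q G s H) : ∀ x ∈ G,
    x ∈ G ⊓ MulAction.stabilizer (Perm α) (q 2) ∨
      ∃ a ∈ G ⊓ MulAction.stabilizer (Perm α) (q 2),
        ∃ b ∈ G ⊓ MulAction.stabilizer (Perm α) (q 2), x = a * s 1 * b := by
  intro x hx
  have ht := D.ht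
  by_cases hx2 : x (q 2) = q 2
  · left
    exact ⟨hx, hx2⟩
  · right
    have hq12 : q 1 ≠ q 2 := q_ne D le_rfl (by omega) (by omega) ht (by omega)
    have hq1 : ∀ i, 3 ≤ i → i ≤ t → q 1 ≠ q i := fun i hi hit =>
      q_ne D le_rfl (by omega) (by omega) hit (by omega)
    have hq2 : ∀ i, 3 ≤ i → i ≤ t → q 2 ≠ q i := fun i hi hit =>
      q_ne D (by omega) ht (by omega) hit (by omega)
    have hxq : ∀ i, 3 ≤ i → i ≤ t → x (q 2) ≠ q i := by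
      intro i hi hit h
      rw [← D.hfix x hx i hi hit] at h
      exact hq2 i hi hit (x.injective h)
    obtain ⟨a, haG, ha2, ha1⟩ := D.h2 (q 2) (q 1) (q 2) (x (q 2))
      (fun i hi hit => ⟨hq2 i hi hit, hq1 i hi hit, hq2 i hi hit, hxq i hi hit⟩)
      hq12.symm (fun h => hx2 h.symm)
    have haK : a ∈ G ⊓ MulAction.stabilizer (Perm α) (q 2) := ⟨haG, ha2⟩
    refine ⟨a, haK, (a * s 1)⁻¹ * x, ⟨?_, ?_⟩, by group⟩
    · exact G.mul_mem (G.inv_mem (G.mul_mem haG D.hs1)) hx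
    · change ((a * s 1)⁻¹ * x) (q 2) = q 2
      rw [Perm.mul_apply, Perm.inv_eq_iff_eq, Perm.mul_apply, D.hs1q.2, ha1]

omit [Fintype α] [DecidableEq α] in
/-- conjugation by an element whose square lies in `K`. -/
theorem conj_of_mul_sq {K : Subgroup (Perm α)} {h y : Perm α} (hh2 : h ^ 2 ∈ K) (hy : y ∈ K)
    (hc : (h * y) ^ 2 ∈ K) : h * y * h⁻¹ ∈ K := by
  have h1 : h * y * h⁻¹ = (h * y) ^ 2 * y⁻¹ * (h ^ 2)⁻¹ := by
    rw [pow_two, pow_two]; group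
  rw [h1]
  exact K.mul_mem (K.mul_mem hc (K.inv_mem hy)) (K.inv_mem hh2)

omit [Fintype α] [DecidableEq α] in
/-- F4: `s (i+1)` normalises `Gi i`. -/
theorem s_normalizes (D : WD t q G s H) {i : ℕ} (hi : 2 ≤ i) (hit : i + 2 ≤ t) :
    ∀ x ∈ Gi G s i, s (i + 1) * x * (s (i + 1))⁻¹ ∈ Gi G s i := by
  have hHG := H_le_G D
  have hsq2 : s (i + 1) ^ 2 ∈ G := hHG (D.hsq2 (i + 1) (by omega) (by omega))
  -- conjugation maps G into G
  have hG : ∀ x ∈ G, s (i + 1) * x * (s (i + 1))⁻¹ ∈ G := by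
    intro x hx
    have hK : ∀ y ∈ G ⊓ MulAction.stabilizer (Perm α) (q 2),
        s (i + 1) * y * (s (i + 1))⁻¹ ∈ G :=
      fun y hy => (D.hnorm (i + 1) (by omega) (by omega) y hy).1
    have hs1 : s (i + 1) * s 1 * (s (i + 1))⁻¹ ∈ G :=
      conj_of_mul_sq hsq2 D.hs1 (hHG (D.hcomm 1 (i + 1) le_rfl (by omega) (by omega)).2)
    rcases G_decomp D x hx with hx0 | ⟨a, ha, b, hb, rfl⟩
    · exact hK x hx0
    · have h1 : s (i + 1) * (a * s 1 * b) * (s (i + 1))⁻¹ =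
          (s (i + 1) * a * (s (i + 1))⁻¹) * (s (i + 1) * s 1 * (s (i + 1))⁻¹) *
            (s (i + 1) * b * (s (i + 1))⁻¹) := by group
      rw [h1]
      exact G.mul_mem (G.mul_mem (hK a ha) hs1) (hK b hb)
  have hle : Gi G s i ≤ (Gi G s i).comap (MulAut.conj (s (i + 1))).toMonoidHom := by
    change closure ((G : Set (Perm α)) ∪ {x | ∃ j : ℕ, 2 ≤ j ∧ j + 1 ≤ i ∧ x = s j}) ≤ _
    rw [Subgroup.closure_le]
    rintro x (hx | ⟨j, hj, hji, rfl⟩)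
    · show s (i + 1) * x * (s (i + 1))⁻¹ ∈ Gi G s i
      exact G_le_Gi G s i (hG x hx)
    · show s (i + 1) * s j * (s (i + 1))⁻¹ ∈ Gi G s i
      exact conj_of_mul_sq (G_le_Gi G s i hsq2) (s_mem_Gi G s hj hji)
        (G_le_Gi G s i (hHG (D.hcomm j (i + 1) (by omega) (by omega) (by omega)).2))
  intro x hx
  exact hle hx

omit [Fintype α] [DecidableEq α] in
/-- F3: Witt's lemma, `Gi (i+1) = Gi i ∪ Gi i · s i · Gi i`. -/
theorem Gi_succ_decomp (D : WD t q G s H) : ∀ i, 2 ≤ i → i + 1 ≤ t →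
    ∀ x ∈ Gi G s (i + 1), x ∈ Gi G s i ∨ ∃ a ∈ Gi G s i, ∃ b ∈ Gi G s i, x = a * s i * b := by
  have hHG := H_le_G D
  have hgen : ∀ i, 2 ≤ i → Gi G s (i + 1) ≤ closure ((Gi G s i : Set (Perm α)) ∪ {s i}) := by
    intro i hi
    rw [Gi, Subgroup.closure_le]
    rintro x (hx | ⟨j, hj, hji, rfl⟩)
    · exact subset_closure (Or.inl (G_le_Gi G s i hx))
    · by_cases hjlt : j + 1 ≤ i
      · exact subset_closure (Or.inl (s_mem_Gi G s hj hjlt))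
      · have : j = i := by omega
        subst this
        exact subset_closure (Or.inr rfl)
  intro i hi
  induction i, hi using Nat.le_induction with
  | base =>
    intro hit x hx
    have hK₀ : G ⊓ MulAction.stabilizer (Perm α) (q 2) ≤ Gi G s 2 := by
      rw [Gi_two]; exact inf_le_left
    have hdec : ∀ x ∈ Gi G s 2, x ∈ G ⊓ MulAction.stabilizer (Perm α) (q 2) ∨
        ∃ a ∈ G ⊓ MulAction.stabilizer (Perm α) (q 2),
          ∃ b ∈ G ⊓ MulAction.stabilizer (Perm α) (q 2), x = a * s 1 * b := by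
      intro x hx
      rw [Gi_two] at hx
      exact G_decomp D x hx
    have hh2 : s 2 ^ 2 ∈ G ⊓ MulAction.stabilizer (Perm α) (q 2) := by
      have := (mem_H D _).mp (D.hsq2 2 (by omega) hit)
      exact ⟨this.1, this.2.2⟩
    exact closure_eq_union_doubleCoset (Gi G s 2) _ hK₀ (s 1) (s 2)
      (G_le_Gi G s 2 D.hs1) hdec hh2 (D.hnorm 2 le_rfl hit)
      (G_le_Gi G s 2 (hHG (D.hbraid 1 le_rfl (by omega)))) x (hgen 2 le_rfl hx)
  | succ i hi ih =>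
    intro hit x hx
    have hdec := ih (by omega)
    exact closure_eq_union_doubleCoset (Gi G s (i + 1)) (Gi G s i) (Gi_mono G s (by omega))
      (s i) (s (i + 1)) (s_mem_Gi G s hi le_rfl) hdec
      (G_le_Gi G s i (hHG (D.hsq2 (i + 1) (by omega) hit)))
      (s_normalizes D hi (by omega))
      (G_le_Gi G s (i + 1) (hHG (D.hbraid i (by omega) (by omega)))) x
      (hgen (i + 1) (by omega) hx)

omit [Fintype α] [DecidableEq α] in
/-- F5: the stabiliser of `q (i+1)` in `Gi (i+1)` is `Gi i`. -/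
theorem Gi_stab (D : WD t q G s H) {i : ℕ} (hi : 2 ≤ i) (hit : i + 1 ≤ t) :
    ∀ x ∈ Gi G s (i + 1), x (q (i + 1)) = q (i + 1) → x ∈ Gi G s i := by
  intro x hx hxq
  rcases Gi_succ_decomp D i hi hit x hx with h | ⟨a, ha, b, hb, rfl⟩
  · exact h
  · exfalso
    rw [Perm.mul_apply, Perm.mul_apply, Gi_fix D hi le_rfl hit b hb, (D.hsq i hi hit).2.1] at hxq
    have h1 := Gi_fix D hi le_rfl hit a ha
    rw [← h1] at hxq
    exact q_ne D (by omega) (by omega) (by omega) hit (by omega) (a.injective hxq)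

omit [Fintype α] [DecidableEq α] in
/-- F6. -/
theorem mem_H_of_fix (D : WD t q G s H) (x : Perm α) (hx : x ∈ Gi G s t)
    (hfix : ∀ m, 1 ≤ m → m ≤ t → x (q m) = q m) : x ∈ H := by
  have h1 : ∀ d i, i + d = t → 2 ≤ i → x ∈ Gi G s i := by
    intro d
    induction d with
    | zero =>
      intro i hi _
      rw [Nat.add_zero] at hi
      rw [hi]; exact hx
    | succ d ih =>
      intro i hi hi2
      exact Gi_stab D hi2 (by omega) x (ih (i + 1) (by omega) (by omega))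
        (hfix (i + 1) (by omega) (by omega))
  have h2 := h1 (t - 2) 2 (by have := D.ht; omega) le_rfl
  rw [Gi_two] at h2
  exact (mem_H D x).mpr ⟨h2, hfix 1 le_rfl (by have := D.ht; omega), hfix 2 (by omega) D.ht⟩

omit [Fintype α] [DecidableEq α] in
/-- T: `q 1` can be moved to `q m` inside `Gi i`, `m ≤ i`. -/
theorem exists_map_q (D : WD t q G s H) {i : ℕ} (hi : 2 ≤ i) (hit : i ≤ t) :
    ∀ m, 1 ≤ m → m ≤ i → ∃ g ∈ Gi G s i, g (q 1) = q m := by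
  intro m hm
  induction m, hm using Nat.le_induction with
  | base => exact fun _ => ⟨1, one_mem _, rfl⟩
  | succ m hm ih =>
    intro hmi
    obtain ⟨g, hg, hgq⟩ := ih (by omega)
    rcases Nat.eq_or_lt_of_le hm with h1 | h1
    · subst h1
      exact ⟨s 1 * g, (Gi G s i).mul_mem (G_le_Gi G s i D.hs1) hg, by
        rw [Perm.mul_apply, hgq, D.hs1q.1]⟩
    · exact ⟨s m * g, (Gi G s i).mul_mem (s_mem_Gi G s (by omega) hmi) hg, by
        rw [Perm.mul_apply, hgq, (D.hsq m (by omega) (by omega)).1]⟩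

omit [Fintype α] [DecidableEq α] in
/-- T': `Gi i` is transitive off `{q (i+1), …, q t}`. -/
theorem exists_map_point (D : WD t q G s H) {i : ℕ} (hi : 2 ≤ i) (hit : i ≤ t) (x : α)
    (hx : ∀ m, i + 1 ≤ m → m ≤ t → x ≠ q m) : ∃ g ∈ Gi G s i, g (q 1) = x := by
  have ht := D.ht
  by_cases hex : ∃ m, 3 ≤ m ∧ m ≤ t ∧ x = q m
  · obtain ⟨m, hm3, hmt, rfl⟩ := hex
    have hmi : m ≤ i := by
      by_contra hcon
      exact hx m (by omega) hmt rfl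
    exact exists_map_q D hi hit m (by omega) hmi
  · push Not at hex
    by_cases hx1 : x = q 1
    · exact ⟨1, one_mem _, hx1.symm⟩
    · have hq12 : q 1 ≠ q 2 := q_ne D le_rfl (by omega) (by omega) ht (by omega)
      have hq1 : ∀ i, 3 ≤ i → i ≤ t → q 1 ≠ q i := fun i hi hit =>
        q_ne D le_rfl (by omega) (by omega) hit (by omega)
      have hq2 : ∀ i, 3 ≤ i → i ≤ t → q 2 ≠ q i := fun i hi hit =>
        q_ne D (by omega) ht (by omega) hit (by omega)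
      obtain ⟨g, hg, hg1, -⟩ := D.h2 (q 1) (q 2) x (q 1)
        (fun i hi hit => ⟨hq1 i hi hit, hq2 i hi hit, hex i hi hit, hq1 i hi hit⟩) hq12 hx1
      exact ⟨g, G_le_Gi G s i hg, hg1⟩

/-- The set `{q (i+1), …, q t}`. -/
def Top (t : ℕ) (q : ℕ → α) (i : ℕ) : Set α := {x | ∃ m, i + 1 ≤ m ∧ m ≤ t ∧ x = q m}

omit [Fintype α] [DecidableEq α] in
theorem ncard_Top (D : WD t q G s H) {i d : ℕ} (hid : i + d = t) : (Top t q i).ncard = d := by
  have h1 : Top t q i = q '' (Finset.Icc (i + 1) t : Set ℕ) := by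
    ext x
    simp only [Top, Set.mem_ofPred_eq, Set.mem_image, Finset.coe_Icc, Set.mem_Icc]
    constructor
    · rintro ⟨m, h1, h2, rfl⟩
      exact ⟨m, ⟨h1, h2⟩, rfl⟩
    · rintro ⟨m, ⟨h1, h2⟩, rfl⟩
      exact ⟨m, h1, h2, rfl⟩
  rw [h1, Set.InjOn.ncard_image, Set.ncard_coe_finset, Nat.card_Icc]
  · omega
  · intro a ha b hb hab
    simp only [Finset.coe_Icc, Set.mem_Icc] at ha hb
    exact D.hq a b (by omega) ha.2 (by omega) hb.2 hab

/-- Part 1: `t`-transitivity. -/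
theorem multTrans (D : WD t q G s H) : IsMultiplyPretransitive ↥(Gi G s t) α t := by
  have ht := D.ht
  have key : ∀ d i, i + d = t → 1 ≤ i → IsMultiplyPretransitive ↥(Gi G s t) α d →
      IsMultiplyPretransitive ↥(Gi G s t) α (d + 1) := by
    intro d i hid hi hd
    apply succ_of_transOff d (Top t q i) (ncard_Top D hid) hd
    intro x y hx hy
    have hx' : ∀ m, i + 1 ≤ m → m ≤ t → x ≠ q m := fun m h1 h2 h => hx ⟨m, h1, h2, h⟩
    have hy' : ∀ m, i + 1 ≤ m → m ≤ t → y ≠ q m := fun m h1 h2 h => hy ⟨m, h1, h2, h⟩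
    rcases Nat.eq_or_lt_of_le hi with h1 | h1
    · -- i = 1 : use G_{q 2}
      subst h1
      have hq2 : ∀ i, 3 ≤ i → i ≤ t → q 2 ≠ q i := fun i hi hit =>
        q_ne D (by omega) ht (by omega) hit (by omega)
      obtain ⟨g, hg, hg2, hgx⟩ := D.h2 (q 2) x (q 2) y
        (fun i hi hit => ⟨hq2 i hi hit, hx' i (by omega) hit, hq2 i hi hit, hy' i (by omega) hit⟩)
        (fun h => hx' 2 le_rfl ht h.symm) (fun h => hy' 2 le_rfl ht h.symm)
      refine ⟨⟨g, G_le_Gi G s t hg⟩, ?_, hgx⟩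
      rintro z ⟨m, hm1, hm2, rfl⟩
      rcases Nat.eq_or_lt_of_le hm1 with h2 | h2
      · rw [← h2]; exact hg2
      · exact D.hfix g hg m (by omega) hm2
    · -- i ≥ 2 : use Gi i
      obtain ⟨gx, hgx, hgx1⟩ := exists_map_point D (i := i) (by omega) (by omega) x hx'
      obtain ⟨gy, hgy, hgy1⟩ := exists_map_point D (i := i) (by omega) (by omega) y hy'
      have hmem : gy * gx⁻¹ ∈ Gi G s i := (Gi G s i).mul_mem hgy ((Gi G s i).inv_mem hgx)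
      refine ⟨⟨gy * gx⁻¹, Gi_mono G s (by omega) hmem⟩, ?_, ?_⟩
      · rintro z ⟨m, hm1, hm2, rfl⟩
        exact Gi_fix D (i := i) (by omega) hm1 hm2 _ hmem
      · change (gy * gx⁻¹) x = y
        rw [Perm.mul_apply, Perm.inv_eq_iff_eq.mpr hgx1.symm, hgy1]
  have main : ∀ d i, i + d = t → 1 ≤ i → IsMultiplyPretransitive ↥(Gi G s t) α (d + 1) := by
    intro d
    induction d with
    | zero =>
      intro i hid hi
      exact key 0 i hid hi is_zero_pretransitive'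
    | succ d ih =>
      intro i hid hi
      exact key (d + 1) i hid hi (ih (i + 1) (by omega) (by omega))
  have := main (t - 1) 1 (by omega) le_rfl
  rwa [show t - 1 + 1 = t by omega] at this

end

theorem result {α : Type*} [Fintype α] [DecidableEq α] (t : ℕ) (ht : 2 ≤ t) (q : ℕ → α) (hq : ∀ i j : ℕ, 1 ≤ i → i ≤ t → 1 ≤ j → j ≤ t → q i = q j → i = j) (G : Subgroup (Equiv.Perm α)) (hfix : ∀ g ∈ G, ∀ i : ℕ, 3 ≤ i → i ≤ t → g (q i) = q i) (h2 : ∀ a b c d : α, (∀ i, 3 ≤ i → i ≤ t → a ≠ q i ∧ b ≠ q i ∧ c ≠ q i ∧ d ≠ q i) → a ≠ b → c ≠ d → ∃ g ∈ G, g a = c ∧ g b = d) (s : ℕ → Equiv.Perm α) (hs1 : s 1 ∈ G) (hs1q : s 1 (q 1) = q 2 ∧ s 1 (q 2) = q 1) (hsq : ∀ i : ℕ, 2 ≤ i → i + 1 ≤ t → s i (q i) = q (i + 1) ∧ s i (q (i + 1)) = q i ∧ ∀ j : ℕ, 1 ≤ j → j ≤ t → j ≠ i → j ≠ i + 1 → s i (q j) = q j) (H : Subgroup (Equiv.Perm α)) (hH : H = G ⊓ MulAction.stabilizer (Equiv.Perm α) (q 1) ⊓ MulAction.stabilizer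 (Equiv.Perm α) (q 2)) (hsq2 : ∀ i : ℕ, 1 ≤ i → i + 1 ≤ t → s i ^ 2 ∈ H) (hbraid : ∀ i : ℕ, 1 ≤ i → i + 2 ≤ t → (s i * s (i + 1)) ^ 3 ∈ H) (hcomm : ∀ i j : ℕ, 1 ≤ i → i + 2 ≤ j → j + 1 ≤ t → (s i * s j) ^ 2 ∈ H ∧ (s j * s i) ^ 2 ∈ H) (hnorm : ∀ i : ℕ, 2 ≤ i → i + 1 ≤ t → ∀ g ∈ G ⊓ MulAction.stabilizer (Equiv.Perm α) (q 2), s i * g * (s i)⁻¹ ∈ G ⊓ MulAction.stabilizer (Equiv.Perm α) (q 2)) : MulAction.IsMultiplyPretransitive ↥(Subgroup.closure ((G : Set (Equiv.Perm α)) ∪ {x | ∃ i : ℕ, 2 ≤ i ∧ i + 1 ≤ t ∧ x = s i})) α t ∧ Subgroup.closure ((G : Set (Equiv.Perm α)) ∪ {x | ∃ i : ℕ, 2 ≤ i ∧ i + 1 ≤ t ∧ x = s i}) ⊓ fixingSubgroup (Equiv.Perm α) {x | ∃ i : ℕ, 1 ≤ i ∧ i ≤ t ∧ x = q i} = H := by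
  have D : WD t q G s H := ⟨ht, hq, hfix, h2, hs1, hs1q, hsq, hH, hsq2, hbraid, hcomm, hnorm⟩
  refine ⟨multTrans D, ?_⟩
  apply le_antisymm
  · rintro x ⟨hx1, hx2⟩
    apply mem_H_of_fix D x hx1
    intro m hm1 hm2
    exact (mem_fixingSubgroup_iff (Perm α)).mp hx2 (q m) ⟨m, hm1, hm2, rfl⟩
  · intro x hx
    obtain ⟨hxG, hx1, hx2⟩ := (mem_H D x).mp hx
    refine ⟨G_le_Gi G s t hxG, ?_⟩
    apply (mem_fixingSubgroup_iff (Perm α)).mpr
    rintro y ⟨m, hm1, hm2, rfl⟩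
    rcases (by omega : m = 1 ∨ m = 2 ∨ 3 ≤ m) with rfl | rfl | hm3
    · exact hx1
    · exact hx2
    · exact hfix x hxG m hm3 hm2

end Cfsg.Agent.S0709
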