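import Cfsg.Statements.S0710
import Mathlib

set_option autoImplicit false
open Cfsg

namespace Cfsg.Agent.S0710

open MulAction Subgroup

/-- A subgroup of prime order `p` of a permutation group on `p` points is transitive. -/
theorem trans_of_card {α : Type*} [Fintype α] [DecidableEq α] {p : ℕ} (hp : p.Prime)
    (hα : Fintype.card α = p)
    (G : Subgroup (Equiv.Perm α)) (P : Subgroup G) (hP : Nat.card P = p) :
    IsPretransitive P α := by
  have hfin : Finite P := Nat.finite_of_card_ne_zero (by rw [hP]; exact hp.ne_zero)
  have hnt : Nontrivial P := by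
    rw [← Finite.one_lt_card_iff_nontrivial, hP]; exact hp.one_lt
  obtain ⟨g, hg⟩ := exists_ne (1 : P)
  have hg' : ((g : G) : Equiv.Perm α) ≠ 1 := by
    intro h
    apply hg
    apply Subtype.ext
    apply Subtype.ext
    exact h
  obtain ⟨x, hx⟩ : ∃ x, ((g : G) : Equiv.Perm α) x ≠ x := by
    by_contra hcon
    push Not at hcon
    exact hg' (Equiv.ext hcon)
  have hdvd : (orbit P x).ncard ∣ Nat.card P := by
    rw [← index_stabilizer]
    exact Subgroup.index_dvd_card _
  rw [hP] at hdvd
  have hne1 : (orbit P x).ncard ≠ 1 := by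
    intro h1
    rw [Set.ncard_eq_one] at h1
    obtain ⟨y, hy⟩ := h1
    have h2 : g • x ∈ orbit P x := mem_orbit x g
    have h3 : x ∈ orbit P x := mem_orbit_self x
    rw [hy, Set.mem_singleton_iff] at h2 h3
    exact hx (h2.trans h3.symm)
  have hcard : (orbit P x).ncard = p := by
    rcases (Nat.dvd_prime hp).mp hdvd with h | h
    · exact absurd h hne1
    · exact h
  have huniv : orbit P x = Set.univ := by
    rw [Set.eq_univ_iff_ncard, Nat.card_eq_fintype_card, hα, hcard]
  exact ⟨fun a b => by
    have ha : a ∈ orbit P x := by rw [huniv]; trivial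
    have hb : b ∈ orbit P x := by rw [huniv]; trivial
    obtain ⟨ga, rfl⟩ := ha
    obtain ⟨gb, rfl⟩ := hb
    exact ⟨gb * ga⁻¹, by simp [mul_smul]⟩⟩

/-- The centraliser of a transitive subgroup has at most `|α|` elements. -/
theorem card_centralizer_le {α : Type*} [Fintype α] [DecidableEq α]
    (G : Subgroup (Equiv.Perm α)) (P : Subgroup G) [IsPretransitive P α] [Nonempty α] :
    Nat.card (centralizer (P : Set G)) ≤ Fintype.card α := by
  obtain ⟨a⟩ := ‹Nonempty α›
  rw [← Nat.card_eq_fintype_card]
  apply Nat.card_le_card_of_injective (fun c : centralizer (P : Set G) => ((c : G) : Equiv.Perm α) a)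
  intro c d hcd
  simp only at hcd
  apply Subtype.ext
  apply Subtype.ext
  ext b
  obtain ⟨g, rfl⟩ := exists_smul_eq P a b
  have hc := c.2 (g : G) g.2
  have hd := d.2 (g : G) g.2
  have hc' : ((c : G) : Equiv.Perm α) (((g : G) : Equiv.Perm α) a) =
      ((g : G) : Equiv.Perm α) (((c : G) : Equiv.Perm α) a) := by
    have := congrArg (fun k : G => (k : Equiv.Perm α) a) hc
    simpa using this.symm
  have hd' : ((d : G) : Equiv.Perm α) (((g : G) : Equiv.Perm α) a) =
      ((g : G) : Equiv.Perm α) (((d : G) : Equiv.Perm α) a) := by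
    have := congrArg (fun k : G => (k : Equiv.Perm α) a) hd
    simpa using this.symm
  change ((c : G) : Equiv.Perm α) (((g : G) : Equiv.Perm α) a) =
    ((d : G) : Equiv.Perm α) (((g : G) : Equiv.Perm α) a)
  rw [hc', hd', hcd]

/-- No transitive permutation group on 13 points has order `13 * 12 * 11 * 10 * 9 * 8`. -/
theorem result {α : Type*} [Fintype α] [DecidableEq α] (hα : Fintype.card α = 13) (G : Subgroup (Equiv.Perm α)) [MulAction.IsPretransitive G α] : Nat.card G ≠ 13 * 12 * 11 * 10 * 9 * 8 := by
  intro hG
  have hp : Nat.Prime 13 := by norm_num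
  have : Fact (Nat.Prime 13) := ⟨hp⟩
  have hne : Nonempty α := by
    rw [← Fintype.card_pos_iff, hα]; norm_num
  let P : Sylow 13 G := default
  have hfac : (Nat.card G).factorization 13 = 1 := by
    rw [hG]
    have : 13 * 12 * 11 * 10 * 9 * 8 = 13 ^ 1 * 95040 := by norm_num
    rw [this, Nat.factorization_mul (by norm_num) (by norm_num), Nat.Prime.factorization_pow hp]
    simp only [Finsupp.coe_add, Pi.add_apply, Finsupp.single_eq_same]
    have : Nat.factorization 95040 13 = 0 := by
      apply Nat.factorization_eq_zero_of_not_dvd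
      norm_num
    rw [this]
  have hPcard : Nat.card P = 13 := by
    rw [Sylow.card_eq_multiplicity, hfac, pow_one]
  have hcyc : IsCyclic P := isCyclic_of_prime_card hPcard
  have htrans : IsPretransitive (P : Subgroup G) α := trans_of_card hp hα G P hPcard
  have key := card_dvd_of_injective _
    (QuotientGroup.kerLift_injective (P : Subgroup G).normalizerMonoidHom)
  rw [normalizerMonoidHom_ker, ← index, ← relIndex] at key
  have haut : Nat.card (MulAut (P : Subgroup G)) = 12 := by
    rw [IsCyclic.card_mulAut, hPcard]
    exact Nat.totient_prime hp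
  rw [haut] at key
  -- the centralizer has order 13
  have hPC : (P : Subgroup G) ≤ centralizer ((P : Subgroup G) : Set G) := by
    have : IsMulCommutative (P : Subgroup G) := inferInstance
    exact le_centralizer _
  have hC13 : Nat.card (centralizer ((P : Subgroup G) : Set G)) = 13 := by
    apply le_antisymm
    · have := card_centralizer_le G (P : Subgroup G)
      rwa [hα] at this
    · have h := Subgroup.card_le_of_le hPC
      rw [hPcard] at h
      exact h
  have hCN : centralizer ((P : Subgroup G) : Set G) ≤ normalizer ((P : Subgroup G) : Set G) :=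
    centralizer_le_normalizer _
  have h1 := Subgroup.card_mul_index (centralizer ((P : Subgroup G) : Set G))
  have h2 := Subgroup.relIndex_mul_index hCN
  have h3 := card_sylow_modEq_one 13 G
  rw [Sylow.card_eq_index_normalizer P] at h3
  rw [hC13, hG, ← h2] at h1
  set r := (centralizer ((P : Subgroup G) : Set G)).relIndex (normalizer ((P : Subgroup G) : Set G))
  set n := (normalizer ((P : Subgroup G) : Set G)).index
  have hr : r ∈ Nat.divisors 12 := by
    rw [Nat.mem_divisors]; exact ⟨key, by norm_num⟩
  have hdiv : Nat.divisors 12 = {1, 2, 3, 4, 6, 12} := by decide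
  rw [hdiv] at hr
  simp only [Finset.mem_insert, Finset.mem_singleton] at hr
  unfold Nat.ModEq at h3
  have h3' : n % 13 = 1 % 13 := h3
  rcases hr with h | h | h | h | h | h <;> rw [h] at h1 <;> omega

end Cfsg.Agent.S0710
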