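import Cfsg.Statements.S0711
import Cfsg.Agent.Lib.Helper17.MultTrans

set_option autoImplicit false
open Cfsg

namespace Cfsg.Agent.S0711

open Equiv Equiv.Perm MulAction Cfsg.Agent.Lib.Helper17

variable {α : Type*} [Fintype α] [DecidableEq α]

theorem p_apply_inv (σ : Perm α) (x : α) : σ (σ⁻¹ x) = x := by
  rw [Equiv.Perm.inv_def, Equiv.apply_symm_apply]

theorem p_inv_apply (σ : Perm α) (x : α) : σ⁻¹ (σ x) = x := by
  rw [Equiv.Perm.inv_def, Equiv.symm_apply_apply]

theorem comm_apply (g x : Perm α) (y : α) :
    (g⁻¹ * x * g * x⁻¹) y = g⁻¹ (x (g (x⁻¹ y))) := rfl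

/-- Lemma K: the support of `g⁻¹ x g x⁻¹` when `x` fixes `F` pointwise. -/
theorem support_comm_subset (g x : Perm α) (F : Finset α) (hF : ∀ y ∈ F, x y = y) :
    (g⁻¹ * x * g * x⁻¹).support ⊆
      (g.support ∪ (g.support \ F).image x) \ (F.filter (fun y => g y ∈ F)) := by
  intro y hy
  rw [mem_support] at hy
  rw [Finset.mem_sdiff]
  constructor
  · by_contra hcon
    rw [Finset.mem_union, not_or] at hcon
    obtain ⟨hyS, hyX⟩ := hcon
    apply hy
    have hw : x⁻¹ y ∉ g.support := by
      intro hw
      by_cases hwF : x⁻¹ y ∈ F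
      · have h1 := hF _ hwF
        rw [p_apply_inv] at h1
        rw [← h1] at hw
        exact hyS hw
      · apply hyX
        rw [Finset.mem_image]
        exact ⟨x⁻¹ y, Finset.mem_sdiff.mpr ⟨hw, hwF⟩, p_apply_inv x y⟩
    rw [notMem_support] at hw hyS
    rw [comm_apply, hw, p_apply_inv, Equiv.Perm.inv_eq_iff_eq, hyS]
  · intro hmem
    rw [Finset.mem_filter] at hmem
    apply hy
    have h1 : x⁻¹ y = y := by rw [Equiv.Perm.inv_eq_iff_eq, hF y hmem.1]
    rw [comm_apply, h1, hF _ hmem.2, p_inv_apply]

/-- Subsets of the support with at most one exit. -/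
theorem exists_few_exits (g : Perm α) (j : ℕ) (hj : j ≤ g.support.card) :
    ∃ F ⊆ g.support, F.card = j ∧ ∀ y ∈ F, ∀ y' ∈ F, g y ∉ F → g y' ∉ F → y = y' := by
  induction j with
  | zero => exact ⟨∅, Finset.empty_subset _, rfl, fun y hy => absurd hy (Finset.notMem_empty y)⟩
  | succ j ih =>
    obtain ⟨F, hFS, hFc, hF⟩ := ih (by omega)
    by_cases hex : ∃ y ∈ F, g y ∉ F
    · obtain ⟨y, hy, hgy⟩ := hex
      refine ⟨insert (g y) F, ?_, ?_, ?_⟩
      · intro z hz
        rcases Finset.mem_insert.mp hz with rfl | hz
        · exact apply_mem_support.mpr (hFS hy)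
        · exact hFS hz
      · rw [Finset.card_insert_of_notMem hgy, hFc]
      · have key : ∀ z ∈ insert (g y) F, g z ∉ insert (g y) F → z = g y := by
          intro z hz hgz
          rcases Finset.mem_insert.mp hz with rfl | hz
          · rfl
          · exfalso
            have h1 : g z ∉ F := fun h => hgz (Finset.mem_insert_of_mem h)
            have h2 := hF z hz y hy h1 hgy
            rw [h2] at hgz
            exact hgz (Finset.mem_insert_self _ _)
        intro z hz z' hz' hgz hgz'
        rw [key z hz hgz, key z' hz' hgz']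
    · push Not at hex
      obtain ⟨z, hzS, hzF⟩ : ∃ z ∈ g.support, z ∉ F :=
        Finset.exists_mem_notMem_of_card_lt_card (by omega)
      refine ⟨insert z F, ?_, ?_, ?_⟩
      · intro w hw
        rcases Finset.mem_insert.mp hw with rfl | hw
        · exact hzS
        · exact hFS hw
      · rw [Finset.card_insert_of_notMem hzF, hFc]
      · have key : ∀ w ∈ insert z F, g w ∉ insert z F → w = z := by
          intro w hw hgw
          rcases Finset.mem_insert.mp hw with rfl | hw
          · rfl
          · exact absurd (Finset.mem_insert_of_mem (hex w hw)) hgw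
        intro w hw w' hw' hgw hgw'
        rw [key w hw hgw, key w' hw' hgw']

theorem exists_agree (G : Subgroup (Perm α)) {k : ℕ} (hkn : k ≤ Fintype.card α)
    (hG : IsMultiplyPretransitive G α k) (s : Finset α) (hs : s.card ≤ k) (σ : Perm α) :
    ∃ x ∈ G, ∀ y ∈ s, x y = σ y := by
  have hkα : k ≤ Nat.card α := by rw [Nat.card_eq_fintype_card]; exact hkn
  obtain ⟨⟨x, hx⟩, h⟩ := exists_smul_eq_of_card_le hG hkα s hs σ
  exact ⟨x, hx, fun y hy => h y hy⟩

theorem comm_mem (G : Subgroup (Perm α)) {g x : Perm α} (hg : g ∈ G) (hx : x ∈ G) :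
    g⁻¹ * x * g * x⁻¹ ∈ G :=
  G.mul_mem (G.mul_mem (G.mul_mem (G.inv_mem hg) hx) hg) (G.inv_mem hx)

theorem caseB (G : Subgroup (Perm α)) {k : ℕ} (hkn : k ≤ Fintype.card α)
    (hG : IsMultiplyPretransitive G α k) (g : Perm α) (hg : g ∈ G) (hg1 : g ≠ 1)
    (hmk : g.support.card ≤ k) (c : α) (hc : c ∉ g.support) :
    ∃ h ∈ G, h ≠ 1 ∧ h.support.card ≤ 3 := by
  obtain ⟨a, ha⟩ : g.support.Nonempty := by
    rw [Finset.nonempty_iff_ne_empty, Ne, support_eq_empty_iff]
    exact hg1
  obtain ⟨x, hxG, hx⟩ := exists_agree G hkn hG g.support hmk (swap a c)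
  have hxa : x a = c := by rw [hx a ha, swap_apply_left]
  have hxF : ∀ y ∈ g.support.erase a, x y = y := by
    intro y hy
    obtain ⟨hya, hyS⟩ := Finset.mem_erase.mp hy
    rw [hx y hyS, swap_apply_of_ne_of_ne hya (by rintro rfl; exact hc hyS)]
  have hK := support_comm_subset g x (g.support.erase a) hxF
  refine ⟨g⁻¹ * x * g * x⁻¹, comm_mem G hg hxG, ?_, ?_⟩
  · intro h1
    have h2 : (g⁻¹ * x * g * x⁻¹) c = c := by rw [h1]; rfl
    have hxinv : x⁻¹ c = a := by rw [Equiv.Perm.inv_eq_iff_eq, hxa]
    have hga : g a ∈ g.support.erase a :=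
      Finset.mem_erase.mpr ⟨mem_support.mp ha, apply_mem_support.mpr ha⟩
    rw [comm_apply, hxinv, hxF _ hga, p_inv_apply] at h2
    exact hc (h2 ▸ ha)
  · have hsub : (g.support ∪ (g.support \ g.support.erase a).image x) \
        ((g.support.erase a).filter (fun y => g y ∈ g.support.erase a)) ⊆
        ({a, g⁻¹ a, c} : Finset α) := by
      intro y hy
      obtain ⟨hy1, hy2⟩ := Finset.mem_sdiff.mp hy
      rcases Finset.mem_union.mp hy1 with hyS | hyX
      · by_cases hya : y = a
        · simp [hya]
        · have hyF : y ∈ g.support.erase a := Finset.mem_erase.mpr ⟨hya, hyS⟩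
          have hgy : g y ∉ g.support.erase a := fun h => hy2 (Finset.mem_filter.mpr ⟨hyF, h⟩)
          have h3 : g y = a := by
            by_contra hne
            exact hgy (Finset.mem_erase.mpr ⟨hne, apply_mem_support.mpr hyS⟩)
          have h4 : y = g⁻¹ a := by rw [← h3, p_inv_apply]
          simp [h4]
      · obtain ⟨w, hw, rfl⟩ := Finset.mem_image.mp hyX
        obtain ⟨hwS, hwF⟩ := Finset.mem_sdiff.mp hw
        have h3 : w = a := by
          by_contra hne
          exact hwF (Finset.mem_erase.mpr ⟨hne, hwS⟩)
        rw [h3, hxa]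
        simp
    calc (g⁻¹ * x * g * x⁻¹).support.card ≤ ({a, g⁻¹ a, c} : Finset α).card :=
          Finset.card_le_card (hK.trans hsub)
      _ ≤ 3 := Finset.card_le_three

theorem caseC (G : Subgroup (Perm α)) {k : ℕ} (hkn : k ≤ Fintype.card α)
    (hG : IsMultiplyPretransitive G α k) (g : Perm α) (hg : g ∈ G)
    (hkm : k < g.support.card) (hmk : g.support.card < 2 * k - 2) :
    ∃ h ∈ G, h ≠ 1 ∧ h.support.card < g.support.card := by
  obtain ⟨F, hFS, hFc, hF⟩ := exists_few_exits g (k - 1) (by omega)
  have hR : (g.support \ F).card = g.support.card - (k - 1) := by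
    rw [Finset.card_sdiff_of_subset hFS, hFc]
  have hF1 : k - 2 ≤ (F.filter (fun y => g y ∈ F)).card := by
    have h1 := Finset.card_filter_add_card_filter_not (s := F) (fun y => g y ∈ F)
    have h2 : (F.filter (fun y => ¬ g y ∈ F)).card ≤ 1 := by
      rw [Finset.card_le_one]
      intro y hy y' hy'
      rw [Finset.mem_filter] at hy hy'
      exact hF y hy.1 y' hy'.1 hy.2 hy'.2
    omega
  by_cases hex : ∃ y₀ ∈ F, g y₀ ∉ F
  · -- C1
    obtain ⟨y₀, hy₀, hgy₀⟩ := hex
    have hbR : g y₀ ∈ g.support \ F :=
      Finset.mem_sdiff.mpr ⟨apply_mem_support.mpr (hFS hy₀), hgy₀⟩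
    obtain ⟨c, hcR, hcb⟩ := Finset.exists_mem_ne (s := g.support \ F) (by rw [hR]; omega) (g y₀)
    obtain ⟨hcS, hcF⟩ := Finset.mem_sdiff.mp hcR
    obtain ⟨x, hxG, hx⟩ := exists_agree G hkn hG (insert (g y₀) F)
      (by rw [Finset.card_insert_of_notMem hgy₀, hFc]; omega) (swap (g y₀) c)
    have hxb : x (g y₀) = c := by rw [hx _ (Finset.mem_insert_self _ _), swap_apply_left]
    have hxF : ∀ y ∈ F, x y = y := by
      intro y hy
      rw [hx y (Finset.mem_insert_of_mem hy),
        swap_apply_of_ne_of_ne (by rintro rfl; exact hgy₀ hy) (by rintro rfl; exact hcF hy)]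
    have hK := support_comm_subset g x F hxF
    refine ⟨g⁻¹ * x * g * x⁻¹, comm_mem G hg hxG, ?_, ?_⟩
    · intro h1
      have h2 : (g⁻¹ * x * g * x⁻¹) y₀ = y₀ := by rw [h1]; rfl
      have hxinv : x⁻¹ y₀ = y₀ := by rw [Equiv.Perm.inv_eq_iff_eq, hxF y₀ hy₀]
      rw [comm_apply, hxinv, hxb, Equiv.Perm.inv_eq_iff_eq] at h2
      exact hcb h2
    · have hsub : g.support ∪ (g.support \ F).image x ⊆
          g.support ∪ ((g.support \ F).erase (g y₀)).image x := by
        intro y hy
        rcases Finset.mem_union.mp hy with h | h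
        · exact Finset.mem_union_left _ h
        · obtain ⟨w, hw, rfl⟩ := Finset.mem_image.mp h
          by_cases hwb : w = g y₀
          · rw [hwb, hxb]; exact Finset.mem_union_left _ hcS
          · exact Finset.mem_union_right _
              (Finset.mem_image_of_mem _ (Finset.mem_erase.mpr ⟨hwb, hw⟩))
      have hc1 : (g.support ∪ (g.support \ F).image x).card ≤
          g.support.card + (g.support.card - (k - 1) - 1) := by
        calc (g.support ∪ (g.support \ F).image x).card
            ≤ (g.support ∪ ((g.support \ F).erase (g y₀)).image x).card :=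
              Finset.card_le_card hsub
          _ ≤ g.support.card + (((g.support \ F).erase (g y₀)).image x).card :=
              Finset.card_union_le _ _
          _ ≤ g.support.card + ((g.support \ F).erase (g y₀)).card :=
              Nat.add_le_add_left Finset.card_image_le _
          _ = g.support.card + (g.support.card - (k - 1) - 1) := by
              rw [Finset.card_erase_of_mem hbR, hR]
      have hF1sub : F.filter (fun y => g y ∈ F) ⊆ g.support ∪ (g.support \ F).image x :=
        fun y hy => Finset.mem_union_left _ (hFS (Finset.mem_filter.mp hy).1)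
      have h3 := Finset.card_le_card hK
      rw [Finset.card_sdiff_of_subset hF1sub] at h3
      omega
  · push Not at hex
    have hfilter : F.filter (fun y => g y ∈ F) = F := Finset.filter_true_of_mem hex
    obtain ⟨b, hbR⟩ : (g.support \ F).Nonempty := by
      rw [← Finset.card_pos, hR]; omega
    obtain ⟨hbS, hbF⟩ := Finset.mem_sdiff.mp hbR
    by_cases hc : ∃ c, c ∉ g.support
    · -- C0a
      obtain ⟨c, hcS⟩ := hc
      obtain ⟨x, hxG, hx⟩ := exists_agree G hkn hG (insert b F)
        (by rw [Finset.card_insert_of_notMem hbF, hFc]; omega) (swap b c)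
      have hxb : x b = c := by rw [hx _ (Finset.mem_insert_self _ _), swap_apply_left]
      have hxF : ∀ y ∈ F, x y = y := by
        intro y hy
        rw [hx y (Finset.mem_insert_of_mem hy),
          swap_apply_of_ne_of_ne (by rintro rfl; exact hbF hy) (by rintro rfl; exact hcS (hFS hy))]
      have hK := support_comm_subset g x F hxF
      rw [hfilter] at hK
      refine ⟨g⁻¹ * x * g * x⁻¹, comm_mem G hg hxG, ?_, ?_⟩
      · intro h1
        have h2 : (g⁻¹ * x * g * x⁻¹) c = c := by rw [h1]; rfl
        have hxinv : x⁻¹ c = b := by rw [Equiv.Perm.inv_eq_iff_eq, hxb]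
        rw [comm_apply, hxinv, Equiv.Perm.inv_eq_iff_eq, notMem_support.mp hcS] at h2
        have h3 : g b = b := x.injective (h2.trans hxb.symm)
        exact (mem_support.mp hbS) h3
      · have hc1 : (g.support ∪ (g.support \ F).image x).card ≤
            g.support.card + (g.support.card - (k - 1)) := by
          calc (g.support ∪ (g.support \ F).image x).card
              ≤ g.support.card + ((g.support \ F).image x).card := Finset.card_union_le _ _
            _ ≤ g.support.card + (g.support \ F).card :=
                Nat.add_le_add_left Finset.card_image_le _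
            _ = g.support.card + (g.support.card - (k - 1)) := by rw [hR]
        have hFsub : F ⊆ g.support ∪ (g.support \ F).image x :=
          fun y hy => Finset.mem_union_left _ (hFS hy)
        have h3 := Finset.card_le_card hK
        rw [Finset.card_sdiff_of_subset hFsub, hFc] at h3
        omega
    · -- C0b
      push Not at hc
      obtain ⟨u, huF⟩ : F.Nonempty := by
        rw [← Finset.card_pos, hFc]; omega
      have hgbF : g b ∉ F := by
        intro hgb
        have himg : F.image g = F := by
          apply Finset.eq_of_subset_of_card_le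
          · intro z hz
            obtain ⟨w, hw, rfl⟩ := Finset.mem_image.mp hz
            exact hex w hw
          · rw [Finset.card_image_of_injective _ g.injective]
        rw [← himg] at hgb
        obtain ⟨w, hw, hwb⟩ := Finset.mem_image.mp hgb
        exact hbF (g.injective hwb ▸ hw)
      have hgbb : g b ≠ b := mem_support.mp hbS
      have hF2c : (insert b (F.erase u)).card = k - 1 := by
        rw [Finset.card_insert_of_notMem (fun h => hbF (Finset.mem_of_mem_erase h)),
          Finset.card_erase_of_mem huF, hFc]
        omega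
      have hgbF2 : g b ∉ insert b (F.erase u) := by
        intro h
        rcases Finset.mem_insert.mp h with h | h
        · exact hgbb h
        · exact hgbF (Finset.mem_of_mem_erase h)
      have huF2 : u ∉ insert b (F.erase u) := by
        intro h
        rcases Finset.mem_insert.mp h with h | h
        · exact hbF (h ▸ huF)
        · exact (Finset.notMem_erase u F) h
      obtain ⟨x, hxG, hx⟩ := exists_agree G hkn hG (insert (g b) (insert b (F.erase u)))
        (by rw [Finset.card_insert_of_notMem hgbF2, hF2c]; omega) (swap (g b) u)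
      have hxgb : x (g b) = u := by rw [hx _ (Finset.mem_insert_self _ _), swap_apply_left]
      have hxF2 : ∀ y ∈ insert b (F.erase u), x y = y := by
        intro y hy
        rw [hx y (Finset.mem_insert_of_mem hy),
          swap_apply_of_ne_of_ne (by rintro rfl; exact hgbF2 hy) (by rintro rfl; exact huF2 hy)]
      have hK := support_comm_subset g x (insert b (F.erase u)) hxF2
      refine ⟨g⁻¹ * x * g * x⁻¹, comm_mem G hg hxG, ?_, ?_⟩
      · intro h1
        have h2 : (g⁻¹ * x * g * x⁻¹) b = b := by rw [h1]; rfl
        have hxinv : x⁻¹ b = b := by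
          rw [Equiv.Perm.inv_eq_iff_eq, hxF2 b (Finset.mem_insert_self _ _)]
        rw [comm_apply, hxinv, hxgb, Equiv.Perm.inv_eq_iff_eq] at h2
        exact hgbF (h2 ▸ huF)
      · have hsub : (F.erase u).erase (g⁻¹ u) ⊆
            (insert b (F.erase u)).filter (fun y => g y ∈ insert b (F.erase u)) := by
          intro y hy
          obtain ⟨hy1, hy2⟩ := Finset.mem_erase.mp hy
          obtain ⟨hy3, hy4⟩ := Finset.mem_erase.mp hy2
          rw [Finset.mem_filter]
          refine ⟨Finset.mem_insert_of_mem hy2,
            Finset.mem_insert_of_mem (Finset.mem_erase.mpr ⟨?_, hex y hy4⟩)⟩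
          intro hgy
          apply hy1
          rw [← hgy, p_inv_apply]
        have hB : k - 3 ≤
            ((insert b (F.erase u)).filter (fun y => g y ∈ insert b (F.erase u))).card := by
          calc k - 3 ≤ ((F.erase u).erase (g⁻¹ u)).card := by
                have h5 := Finset.pred_card_le_card_erase (s := F.erase u) (a := g⁻¹ u)
                rw [Finset.card_erase_of_mem huF, hFc] at h5
                omega
            _ ≤ _ := Finset.card_le_card hsub
        have hA : ((g.support ∪ (g.support \ insert b (F.erase u)).image x) \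
            (insert b (F.erase u)).filter (fun y => g y ∈ insert b (F.erase u))).card ≤
            Fintype.card α -
            ((insert b (F.erase u)).filter (fun y => g y ∈ insert b (F.erase u))).card := by
          calc _ ≤ (Finset.univ \
                (insert b (F.erase u)).filter (fun y => g y ∈ insert b (F.erase u))).card :=
                Finset.card_le_card (Finset.sdiff_subset_sdiff (Finset.subset_univ _) le_rfl)
            _ = _ := by rw [Finset.card_sdiff_of_subset (Finset.subset_univ _), Finset.card_univ]
        have hmn : g.support.card = Fintype.card α := by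
          rw [← Finset.card_univ]
          congr 1
          exact Finset.eq_univ_of_forall hc
        have h3 := Finset.card_le_card hK
        omega

theorem main (G : Subgroup (Perm α)) {k : ℕ} (hk : 3 ≤ k) (hkn : k ≤ Fintype.card α)
    (hG : IsMultiplyPretransitive G α k) :
    ∀ m, ∀ g ∈ G, g ≠ 1 → g.support.card = m → m < 2 * k - 2 →
      ∃ h ∈ G, h ≠ 1 ∧ h.support.card ≤ 3 := by
  intro m
  induction m using Nat.strong_induction_on with
  | _ m ih =>
    intro g hg hg1 hm hmk
    by_cases hm3 : m ≤ 3
    · exact ⟨g, hg, hg1, hm ▸ hm3⟩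
    suffices hs : ∃ h ∈ G, h ≠ 1 ∧ h.support.card < m by
      obtain ⟨h, hh, hh1, hlt⟩ := hs
      exact ih _ hlt h hh hh1 rfl (by omega)
    by_cases hmk' : m ≤ k
    · by_cases hc : ∃ c, c ∉ g.support
      · obtain ⟨c, hc⟩ := hc
        obtain ⟨h, hh, hh1, hh3⟩ := caseB G hkn hG g hg hg1 (by omega) c hc
        exact ⟨h, hh, hh1, by omega⟩
      · push Not at hc
        have hmn : g.support.card = Fintype.card α := by
          rw [← Finset.card_univ]
          congr 1
          exact Finset.eq_univ_of_forall hc
        have hkα : k ≤ Nat.card α := by rw [Nat.card_eq_fintype_card]; exact hkn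
        have hGtop : G = ⊤ := by
          apply Equiv.Perm.eq_top_of_isMultiplyPretransitive
          exact isMultiplyPretransitive_of_le (n := k)
            (by rw [Nat.card_eq_fintype_card]; omega) hkα
        obtain ⟨a, ha, b, hb, c, hc', hab, hac, hbc⟩ :=
          Finset.two_lt_card.mp (by omega : 2 < g.support.card)
        have h3 := isThreeCycle_swap_mul_swap_same hab hac hbc
        refine ⟨swap a b * swap a c, by rw [hGtop]; trivial, ?_, ?_⟩
        · intro h1
          have h4 := h3.card_support
          rw [h1, support_one] at h4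
          simp at h4
        · rw [h3.card_support]; omega
    · push Not at hmk'
      subst hm
      exact caseC G hkn hG g hg hmk' hmk

theorem result {α : Type*} [Fintype α] [DecidableEq α] (G : Subgroup (Equiv.Perm α)) {k : ℕ} (hk : 3 ≤ k) (hkn : k ≤ Fintype.card α) (hG : MulAction.IsMultiplyPretransitive G α k) (g : Equiv.Perm α) (hg : g ∈ G) (hg1 : g ≠ 1) (hsupp : g.support.card < 2 * k - 2) : (∃ h : Equiv.Perm α, h ∈ G ∧ h ≠ 1 ∧ h.support.card ≤ 3) ∧ alternatingGroup α ≤ G := by
  obtain ⟨h, hh, hh1, hh3⟩ := main G hk hkn hG _ g hg hg1 rfl hsupp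
  refine ⟨⟨h, hh, hh1, hh3⟩, ?_⟩
  have hkα : k ≤ Nat.card α := by rw [Nat.card_eq_fintype_card]; exact hkn
  have hprim : IsPreprimitive G α :=
    isPreprimitive_of_is_two_pretransitive
      (isMultiplyPretransitive_of_le (n := k) (by omega) hkα)
  have hc0 : h.support.card ≠ 0 := fun h0 => hh1 (card_support_eq_zero.mp h0)
  have hc1 := card_support_ne_one h
  rcases (by omega : h.support.card = 2 ∨ h.support.card = 3) with h2 | h3
  · have := subgroup_eq_top_of_isPreprimitive_of_isSwap_mem hprim h (card_support_eq_two.mp h2) hh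
    rw [this]
    exact le_top
  · exact alternatingGroup_le_of_isPreprimitive_of_isThreeCycle_mem hprim
      (card_support_eq_three_iff.mp h3) hh

end Cfsg.Agent.S0711
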