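import Cfsg.Statements.S0714
import Mathlib

set_option autoImplicit false
open Cfsg

namespace Cfsg.Agent.S0714

open MulAction

variable {α : Type*} [Fintype α] [DecidableEq α] {K : Type*} [Field K]

theorem permRep_apply (g : alternatingGroup α) (f : α → K) (x : α) :
    Cfsg.permRep K (alternatingGroup α) α g f x = f ((g : Equiv.Perm α)⁻¹ x) := rfl

/-- `e_x - e_y` -/
def bd (K : Type*) [Field K] {α : Type*} [DecidableEq α] (x y : α) : α → K :=
  Pi.single x 1 - Pi.single y 1

theorem permRep_bd (g : alternatingGroup α) (x y : α) :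
    Cfsg.permRep K (alternatingGroup α) α g (bd K x y) =
      bd K ((g : Equiv.Perm α) x) ((g : Equiv.Perm α) y) := by
  ext z
  rw [permRep_apply]
  unfold bd
  simp only [Pi.sub_apply, Pi.single_apply]
  have h1 : ((g : Equiv.Perm α)⁻¹ z = x) ↔ (z = (g : Equiv.Perm α) x) := by
    rw [Equiv.Perm.inv_eq_iff_eq]
  have h2 : ((g : Equiv.Perm α)⁻¹ z = y) ↔ (z = (g : Equiv.Perm α) y) := by
    rw [Equiv.Perm.inv_eq_iff_eq]
  simp only [h1, h2]

theorem threeCycle_mem {a b c : α} (hab : a ≠ b) (hbc : b ≠ c) :
    Equiv.swap a b * Equiv.swap b c ∈ alternatingGroup α := by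
  rw [Equiv.Perm.mem_alternatingGroup, Equiv.Perm.sign_mul, Equiv.Perm.sign_swap hab,
    Equiv.Perm.sign_swap hbc]
  rfl

theorem two_trans (hα : 5 ≤ Fintype.card α) {a b c d : α} (hab : a ≠ b) (hcd : c ≠ d) :
    ∃ g : alternatingGroup α, (g : Equiv.Perm α) a = c ∧ (g : Equiv.Perm α) b = d := by
  have h := alternatingGroup.isMultiplyPretransitive α
  have h2 : IsMultiplyPretransitive (alternatingGroup α) α 2 := by
    apply isMultiplyPretransitive_of_le (n := Nat.card α - 2)
    · rw [Nat.card_eq_fintype_card]; omega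
    · exact Nat.sub_le _ _
  rw [is_two_pretransitive_iff] at h2
  obtain ⟨g, h1, h2⟩ := h2 hab hcd
  exact ⟨g, h1, h2⟩

/-- step 1: from a non-constant vector, get some `e_d - e_b` -/
theorem exists_bd_mem (hα : 5 ≤ Fintype.card α)
    (W : Subrepresentation (Cfsg.permRep K (alternatingGroup α) α))
    {f : α → K} (hf : f ∈ W.toSubmodule) {a b : α} (hfab : f a ≠ f b) :
    ∃ d : α, d ≠ b ∧ bd K d b ∈ W.toSubmodule := by
  have hab : a ≠ b := fun h => hfab (by rw [h])
  -- three more points
  have hex : ∀ s : Finset α, s.card ≤ 4 → ∃ x, x ∉ s := by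
    intro s hs
    by_contra hcon
    push Not at hcon
    have : Finset.univ ⊆ s := fun x _ => hcon x
    have := Finset.card_le_card this
    rw [Finset.card_univ] at this
    omega
  obtain ⟨c, hc⟩ := hex {a, b} (Finset.card_le_two.trans (by norm_num))
  obtain ⟨d, hd⟩ := hex {a, b, c} (Finset.card_le_three.trans (by norm_num))
  obtain ⟨e, he⟩ := hex {a, b, c, d} Finset.card_le_four
  simp only [Finset.mem_insert, Finset.mem_singleton, not_or] at hc hd he
  obtain ⟨hca, hcb⟩ := hc
  obtain ⟨hda, hdb, hdc⟩ := hd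
  obtain ⟨hea, heb, hec, hed⟩ := he
  -- first three-cycle
  let g : alternatingGroup α := ⟨Equiv.swap a b * Equiv.swap b c, threeCycle_mem hab (Ne.symm hcb)⟩
  let v : α → K := Cfsg.permRep K (alternatingGroup α) α g f - f
  have hv : v ∈ W.toSubmodule :=
    W.toSubmodule.sub_mem (W.apply_mem_toSubmodule g hf) hf
  have hginv : ((g : Equiv.Perm α)⁻¹) = Equiv.swap b c * Equiv.swap a b := by
    change (Equiv.swap a b * Equiv.swap b c)⁻¹ = _
    rw [mul_inv_rev, Equiv.swap_inv, Equiv.swap_inv]
  have hvx : ∀ x, v x = f ((Equiv.swap b c * Equiv.swap a b) x) - f x := by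
    intro x
    change Cfsg.permRep K (alternatingGroup α) α g f x - f x = _
    rw [permRep_apply, hginv]
  have hvb : v b = f a - f b := by
    rw [hvx]
    simp [Equiv.swap_apply_of_ne_of_ne hab (Ne.symm hca)]
  have hvout : ∀ x, x ≠ a → x ≠ b → x ≠ c → v x = 0 := by
    intro x hxa hxb hxc
    rw [hvx]
    simp [Equiv.swap_apply_of_ne_of_ne hxa hxb, Equiv.swap_apply_of_ne_of_ne hxb hxc]
  have hvb0 : v b ≠ 0 := by
    rw [hvb]; exact sub_ne_zero.mpr hfab
  -- second three-cycle
  let h : alternatingGroup α := ⟨Equiv.swap b d * Equiv.swap d e, threeCycle_mem (Ne.symm hdb) (Ne.symm hed)⟩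
  let w : α → K := Cfsg.permRep K (alternatingGroup α) α h v - v
  have hw : w ∈ W.toSubmodule :=
    W.toSubmodule.sub_mem (W.apply_mem_toSubmodule h hv) hv
  have hhinv : ((h : Equiv.Perm α)⁻¹) = Equiv.swap d e * Equiv.swap b d := by
    change (Equiv.swap b d * Equiv.swap d e)⁻¹ = _
    rw [mul_inv_rev, Equiv.swap_inv, Equiv.swap_inv]
  have hwx : ∀ x, w x = v ((Equiv.swap d e * Equiv.swap b d) x) - v x := by
    intro x
    change Cfsg.permRep K (alternatingGroup α) α h v x - v x = _
    rw [permRep_apply, hhinv]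
  have hve : v e = 0 := hvout e hea heb hec
  have hvd : v d = 0 := hvout d hda hdb hdc
  have hweq : w = v b • bd K d b := by
    ext x
    rw [hwx]
    unfold bd
    simp only [Pi.smul_apply, Pi.sub_apply, Pi.single_apply, smul_eq_mul, Equiv.Perm.coe_mul,
      Function.comp_apply]
    by_cases hxb : x = b
    · subst hxb
      rw [Equiv.swap_apply_left, Equiv.swap_apply_left, hve]
      simp [Ne.symm hdb]
    · by_cases hxd : x = d
      · subst hxd
        rw [Equiv.swap_apply_right, Equiv.swap_apply_of_ne_of_ne (Ne.symm hxb) (Ne.symm heb), hvd]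
        simp [hxb]
      · by_cases hxe : x = e
        · subst hxe
          rw [Equiv.swap_apply_of_ne_of_ne hxb hxd, Equiv.swap_apply_right, hvd, hve]
          simp [hxb, hxd]
        · rw [Equiv.swap_apply_of_ne_of_ne hxb hxd, Equiv.swap_apply_of_ne_of_ne hxd hxe]
          simp [hxb, hxd]
  refine ⟨d, hdb, ?_⟩
  have : bd K d b = (v b)⁻¹ • w := by
    rw [hweq, smul_smul, inv_mul_cancel₀ hvb0, one_smul]
  rw [this]
  exact W.toSubmodule.smul_mem _ hw

theorem bd_mem_all (hα : 5 ≤ Fintype.card α)
    (W : Subrepresentation (Cfsg.permRep K (alternatingGroup α) α))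
    {d b : α} (hdb : d ≠ b) (h : bd K d b ∈ W.toSubmodule) (x y : α) (hxy : x ≠ y) :
    bd K x y ∈ W.toSubmodule := by
  obtain ⟨g, h1, h2⟩ := two_trans hα hdb hxy
  have := W.apply_mem_toSubmodule g h
  rw [permRep_bd, h1, h2] at this
  exact this

omit [Fintype α] in
theorem bd_self (x : α) : bd K x x = 0 := by
  unfold bd; exact sub_self _

theorem sumZero_le (W : Subrepresentation (Cfsg.permRep K (alternatingGroup α) α))
    (hall : ∀ x y : α, x ≠ y → bd K x y ∈ W.toSubmodule) :
    (Cfsg.permSumZero K (alternatingGroup α) α).toSubmodule ≤ W.toSubmodule := by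
  intro f hf
  have hf0 : ∑ x, f x = 0 := hf
  rcases isEmpty_or_nonempty α with hemp | ⟨⟨x₀⟩⟩
  · have : f = 0 := by ext x; exact (hemp.false x).elim
    rw [this]; exact W.toSubmodule.zero_mem
  · have hrep : f = ∑ x, f x • bd K x x₀ := by
      ext y
      simp only [Finset.sum_apply, Pi.smul_apply, bd, Pi.sub_apply, Pi.single_apply,
        smul_eq_mul, mul_sub, Finset.sum_sub_distrib, mul_ite, mul_one, mul_zero]
      rw [Finset.sum_ite_eq Finset.univ y f]
      simp only [Finset.mem_univ, if_true]
      by_cases hy : y = x₀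
      · subst hy
        simp [hf0]
      · simp [hy]
    rw [hrep]
    apply W.toSubmodule.sum_mem
    intro x _
    apply W.toSubmodule.smul_mem
    by_cases hx : x = x₀
    · rw [hx, bd_self]; exact W.toSubmodule.zero_mem
    · exact hall x x₀ hx

/-- Over any field, the permutation module of the alternating group of degree at least 5 has exactly four invariant subspaces: zero, the constant functions, the functions with coordinate sum zero, and everything. -/
theorem result {α : Type*} [Fintype α] [DecidableEq α] (hα : 5 ≤ Fintype.card α) {K : Type*} [Field K] (W : Subrepresentation (Cfsg.permRep K (alternatingGroup α) α)) : W.toSubmodule = ⊥ ∨ W = Cfsg.permConstants K (alternatingGroup α) α ∨ W = Cfsg.permSumZero K (alternatingGroup α) α ∨ W.toSubmodule = ⊤ := by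
  have hne : Nonempty α := by
    rw [← Fintype.card_pos_iff]; omega
  obtain ⟨x₀⟩ := hne
  by_cases hconst : ∀ f ∈ W.toSubmodule, ∀ a b : α, f a = f b
  · by_cases hbot : W.toSubmodule = ⊥
    · exact Or.inl hbot
    · right; left
      apply Subrepresentation.toSubmodule_injective
      change W.toSubmodule = Submodule.span K {fun _ => 1}
      apply le_antisymm
      · intro f hf
        rw [Submodule.mem_span_singleton]
        refine ⟨f x₀, funext fun x => ?_⟩
        simp only [Pi.smul_apply, smul_eq_mul, mul_one]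
        exact hconst f hf x₀ x
      · rw [Submodule.span_singleton_le_iff_mem]
        obtain ⟨f, hf, hf0⟩ := (Submodule.ne_bot_iff _).mp hbot
        have hc : f x₀ ≠ 0 := by
          intro h0
          apply hf0
          ext x
          rw [← hconst f hf x₀ x, h0]; rfl
        have : (fun _ => 1 : α → K) = (f x₀)⁻¹ • f := by
          ext x
          simp only [Pi.smul_apply, smul_eq_mul]
          rw [← hconst f hf x₀ x, inv_mul_cancel₀ hc]
        rw [this]
        exact W.toSubmodule.smul_mem _ hf
  · push Not at hconst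
    obtain ⟨f, hf, a, b, hab⟩ := hconst
    right; right
    obtain ⟨d, hdb, hbd⟩ := exists_bd_mem hα W hf hab
    have hall := bd_mem_all hα W hdb hbd
    have hsz := sumZero_le W hall
    by_cases hs : ∀ f ∈ W.toSubmodule, ∑ x, f x = 0
    · left
      apply Subrepresentation.toSubmodule_injective
      exact le_antisymm (fun f hf => hs f hf) hsz
    · right
      push Not at hs
      obtain ⟨f₀, hf₀, hsum⟩ := hs
      rw [eq_top_iff]
      intro v _
      have hdecomp : v = (v - ((∑ x, v x) / (∑ x, f₀ x)) • f₀) + ((∑ x, v x) / (∑ x, f₀ x)) • f₀ := by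
        rw [sub_add_cancel]
      rw [hdecomp]
      apply W.toSubmodule.add_mem _ (W.toSubmodule.smul_mem _ hf₀)
      apply hsz
      change ∑ x, (v - ((∑ x, v x) / (∑ x, f₀ x)) • f₀) x = 0
      simp only [Pi.sub_apply, Pi.smul_apply, smul_eq_mul, Finset.sum_sub_distrib, ← Finset.mul_sum]
      rw [div_mul_cancel₀ _ hsum, sub_self]

end Cfsg.Agent.S0714
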