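import Mathlib
import Cfsg.Statements.S0715
import Cfsg.Agent.Lib.Helper17.PermTau

set_option autoImplicit false
open Cfsg

namespace Cfsg.Agent.S0715

open MulAction Cfsg.Agent.Lib.Helper17 Cfsg.Agent.Lib.Helper83

/-- The (integer) adjacency matrix of the orbital of `(a, b)`. -/
noncomputable def orbMat (G : Type*) [Group G] {Ω : Type*} [MulAction G Ω] (a b : Ω) :
    Matrix Ω Ω ℤ :=
  fun y w => by
    classical
    exact if ∃ g : G, g • a = y ∧ g • b = w then 1 else 0

theorem orbMat_smul {G : Type*} [Group G] {Ω : Type*} [MulAction G Ω] (a b : Ω) (g : G)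
    (y w : Ω) : orbMat G a b (g • y) (g • w) = orbMat G a b y w := by
  classical
  unfold orbMat
  have h : (∃ k : G, k • a = g • y ∧ k • b = g • w) ↔ (∃ k : G, k • a = y ∧ k • b = w) := by
    constructor
    · rintro ⟨k, h1, h2⟩
      refine ⟨g⁻¹ * k, ?_, ?_⟩
      · rw [mul_smul, h1, inv_smul_smul]
      · rw [mul_smul, h2, inv_smul_smul]
    · rintro ⟨k, h1, h2⟩
      refine ⟨g * k, ?_, ?_⟩
      · rw [mul_smul, h1]
      · rw [mul_smul, h2]
  simp only [h]

theorem orbMat_self {G : Type*} [Group G] {Ω : Type*} [MulAction G Ω] (a b : Ω) (hab : b ≠ a) :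
    orbMat G a b a a = 0 := by
  classical
  unfold orbMat
  rw [if_neg]
  rintro ⟨g, h1, h2⟩
  apply hab
  rw [← h1] at h2
  exact smul_left_cancel g h2

theorem orbMat_row_sum {G : Type*} [Group G] {Ω : Type*} [Fintype Ω] [MulAction G Ω] (a b : Ω) :
    ∑ w, (orbMat G a b a w : ℂ) = (Nat.card (orbit (stabilizer G a) b) : ℂ) := by
  classical
  unfold orbMat
  simp only [Int.cast_ite, Int.cast_one, Int.cast_zero]
  rw [Finset.sum_boole, Nat.card_eq_fintype_card, Fintype.card_subtype]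
  congr 2
  ext w
  simp only [Finset.mem_filter, Finset.mem_univ, true_and, mem_orbit_iff]
  constructor
  · rintro ⟨g, h1, h2⟩
    exact ⟨⟨g, h1⟩, h2⟩
  · rintro ⟨⟨g, h1⟩, h2⟩
    exact ⟨g, h1, h2⟩

theorem result {G : Type*} [Group G] [Fintype G] {Ω : Type*} [Fintype Ω] [MulAction G Ω] [MulAction.IsPretransitive G Ω] (f : ℕ) (hf : ∀ χ : G → ℂ, Cfsg.IsIrrCharacter G χ → χ ≠ (fun _ => 1) → Cfsg.classInner (fun g : G => (Nat.card (MulAction.fixedBy Ω g) : ℂ)) χ ≠ 0 → ∃ m : ℕ, χ 1 = (f : ℂ) * m) (a b : Ω) (hab : b ≠ a) : f ∣ Nat.card (MulAction.orbit (MulAction.stabilizer G a) b) := by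
  classical
  have : Fintype (IrrCharacter G) := Fintype.ofFinite _
  have hA := orbMat_smul (G := G) a b
  have key : ∀ χ : IrrCharacter G, χ ≠ trivChar G →
      ∃ c : ℂ, IsIntegral ℤ c ∧ (χ : G → ℂ) 1 * tau a (orbMat G a b) (χ : G → ℂ) = (f : ℂ) * c := by
    intro χ hχ
    by_cases h0 : Cfsg.classInner (fun g : G => (Nat.card (MulAction.fixedBy Ω g) : ℂ))
        (χ : G → ℂ) = 0
    · refine ⟨0, isIntegral_zero, ?_⟩
      rw [tau_eq_zero_of_classInner a _ hA χ.2 h0, mul_zero, mul_zero]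
    · have hne : (χ : G → ℂ) ≠ (fun _ => 1) := by
        intro h
        apply hχ
        exact Subtype.ext h
      obtain ⟨m, hm⟩ := hf χ.1 χ.2 hne h0
      refine ⟨(m : ℂ) * tau a (orbMat G a b) (χ : G → ℂ), ?_, ?_⟩
      · exact IsIntegral.mul (isIntegral_natCast m)
          (isIntegral_tau_char a _ hA (IrrCharacter_isCharacter χ))
      · rw [hm, mul_assoc]
  choose! c hc1 hc2 using key
  have hsum := sum_degree_mul_tau (G := G) a (orbMat G a b)
  rw [orbMat_self a b hab, Int.cast_zero, mul_zero,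
    ← Finset.add_sum_erase _ _ (Finset.mem_univ (trivChar G))] at hsum
  have h1 : ((trivChar G : IrrCharacter G) : G → ℂ) 1 *
      tau a (orbMat G a b) ((trivChar G : IrrCharacter G) : G → ℂ) =
      (Nat.card (orbit (stabilizer G a) b) : ℂ) := by
    rw [trivChar_apply, one_mul]
    have : ((trivChar G : IrrCharacter G) : G → ℂ) = fun _ => 1 := rfl
    rw [this, tau_one, orbMat_row_sum]
  rw [h1] at hsum
  have h2 : ∑ χ ∈ Finset.univ.erase (trivChar G),
      (χ : G → ℂ) 1 * tau a (orbMat G a b) (χ : G → ℂ) =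
      (f : ℂ) * ∑ χ ∈ Finset.univ.erase (trivChar G), c χ := by
    rw [Finset.mul_sum]
    apply Finset.sum_congr rfl
    intro χ hχ
    exact hc2 χ (Finset.ne_of_mem_erase hχ)
  rw [h2] at hsum
  apply nat_dvd_of_eq_mul_isIntegral (z := -∑ χ ∈ Finset.univ.erase (trivChar G), c χ)
  · apply IsIntegral.neg
    apply IsIntegral.sum
    intro χ hχ
    exact hc1 χ (Finset.ne_of_mem_erase hχ)
  · linear_combination hsum

end Cfsg.Agent.S0715
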