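import Mathlib
import Cfsg.Statements.S0716
import Cfsg.Agent.S0715
import Cfsg.Agent.Lib.Helper17.PermMult
import Cfsg.Agent.Lib.Helper83.Linear

set_option autoImplicit false
open Cfsg

namespace Cfsg.Agent.S0716

open MulAction Cfsg.Agent.Lib.Helper17 Cfsg.Agent.Lib.Helper83

theorem nat_le_one_of_eq_sq {m : ℕ} (h : m = m ^ 2) : m ≤ 1 := by
  by_contra hcon
  push Not at hcon
  nlinarith

theorem partA {G : Type*} [Group G] [Fintype G] {Ω : Type*} [Fintype Ω] [MulAction G Ω]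
    [MulAction.IsPretransitive G Ω] (a : Ω) (f : ℕ)
    (hf : ∀ χ : G → ℂ, Cfsg.IsIrrCharacter G χ → χ ≠ (fun _ => 1) →
      Cfsg.classInner (fun g : G => (Nat.card (MulAction.fixedBy Ω g) : ℂ)) χ ≠ 0 → χ 1 = f) :
    (∀ χ : G → ℂ, Cfsg.IsIrrCharacter G χ →
      Cfsg.classInner (fun g : G => (Nat.card (MulAction.fixedBy Ω g) : ℂ)) χ = 0 ∨
      Cfsg.classInner (fun g : G => (Nat.card (MulAction.fixedBy Ω g) : ℂ)) χ = 1) ∧
    ∀ b : Ω, b ≠ a → Nat.card (MulAction.orbit (MulAction.stabilizer G a) b) = f := by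
  classical
  have : Fintype (IrrCharacter G) := Fintype.ofFinite _
  obtain ⟨m, hm0, hm1, hm2, hm3⟩ := perm_mult_facts (G := G) a
  have hdiv : ∀ b : Ω, b ≠ a → f ∣ Nat.card (orbit (stabilizer G a) b) := by
    intro b hb
    apply Cfsg.Agent.S0715.result f _ a b hb
    intro χ hχ hne h0
    exact ⟨1, by rw [hf χ hχ hne h0]; simp⟩
  obtain ⟨hle, heq⟩ := orbit_count (H := stabilizer G a) a (fun h => h.2) f hdiv
  have hne_triv : ∀ ψ ∈ Finset.univ.erase (trivChar G), (ψ : G → ℂ) ≠ (fun _ => 1) := by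
    intro ψ hψ h
    exact (Finset.ne_of_mem_erase hψ) (Subtype.ext h)
  have hdeg : ∀ ψ ∈ Finset.univ.erase (trivChar G),
      (m ψ : ℂ) * (ψ : G → ℂ) 1 = ((m ψ * f : ℕ) : ℂ) := by
    intro ψ hψ
    by_cases h0 : m ψ = 0
    · rw [h0]; simp
    · have h1 : Cfsg.classInner (fun g : G => (Nat.card (MulAction.fixedBy Ω g) : ℂ))
          (ψ : G → ℂ) ≠ 0 := by
        rw [← hm0]
        exact_mod_cast h0
      rw [hf ψ.1 ψ.2 (hne_triv ψ hψ) h1, Nat.cast_mul]
  have hΩ : Nat.card Ω = 1 + (∑ ψ ∈ Finset.univ.erase (trivChar G), m ψ) * f := by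
    rw [← Finset.add_sum_erase _ _ (Finset.mem_univ (trivChar G)), hm1, trivChar_apply,
      Finset.sum_congr rfl hdeg, ← Nat.cast_sum, ← Finset.sum_mul] at hm3
    have : (Nat.card Ω : ℂ) = ((1 + (∑ ψ ∈ Finset.univ.erase (trivChar G), m ψ) * f : ℕ) : ℂ) := by
      rw [hm3]; push_cast; ring
    exact_mod_cast this
  have hr : Nat.card (orbitRel.Quotient (stabilizer G a) Ω) =
      1 + ∑ ψ ∈ Finset.univ.erase (trivChar G), (m ψ) ^ 2 := by
    rw [← hm2, ← Finset.add_sum_erase _ _ (Finset.mem_univ (trivChar G)), hm1, one_pow]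
  have h12 : ∀ ψ ∈ Finset.univ.erase (trivChar G), m ψ ≤ (m ψ) ^ 2 :=
    fun ψ _ => Nat.le_self_pow two_ne_zero _
  rw [hr, hΩ, Nat.add_sub_cancel_left] at hle
  rw [hr, hΩ, Nat.add_sub_cancel_left] at heq
  rcases Nat.eq_zero_or_pos f with hf0 | hfpos
  · subst hf0
    constructor
    · intro χ hχ
      by_cases hχ1 : χ = (fun _ => 1)
      · right
        have := hm0 (trivChar G)
        rw [hm1] at this
        rw [hχ1]
        exact this.symm.trans Nat.cast_one
      · left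
        by_contra h0
        have h1 := hf χ hχ hχ1 h0
        exact irr_degree_ne_zero ⟨χ, hχ⟩ (show χ 1 = 0 by rw [h1]; simp)
    · intro b hb
      exact Nat.eq_zero_of_zero_dvd (hdiv b hb)
  · have hS : ∑ ψ ∈ Finset.univ.erase (trivChar G), (m ψ) ^ 2 ≤
        ∑ ψ ∈ Finset.univ.erase (trivChar G), m ψ := by
      have := Nat.add_le_add_iff_left.mp hle
      exact Nat.le_of_mul_le_mul_right this hfpos
    have hS' : ∑ ψ ∈ Finset.univ.erase (trivChar G), m ψ =
        ∑ ψ ∈ Finset.univ.erase (trivChar G), (m ψ) ^ 2 :=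
      le_antisymm (Finset.sum_le_sum h12) hS
    have hterm := (Finset.sum_eq_sum_iff_of_le h12).mp hS'
    constructor
    · intro χ hχ
      by_cases hχ1 : χ = (fun _ => 1)
      · right
        have := hm0 (trivChar G)
        rw [hm1] at this
        rw [hχ1]
        exact this.symm.trans Nat.cast_one
      · have hmem : (⟨χ, hχ⟩ : IrrCharacter G) ∈ Finset.univ.erase (trivChar G) := by
          refine Finset.mem_erase.mpr ⟨?_, Finset.mem_univ _⟩
          intro h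
          apply hχ1
          have := congrArg Subtype.val h
          exact this
        have h1 := nat_le_one_of_eq_sq (hterm _ hmem)
        have h2 := hm0 ⟨χ, hχ⟩
        rw [← h2]
        interval_cases (m ⟨χ, hχ⟩)
        · left; simp
        · right; simp
    · apply heq
      rw [hS']

theorem partB {G : Type*} [Group G] [Fintype G] {Ω : Type*} [Fintype Ω] [MulAction G Ω]
    [MulAction.IsPretransitive G Ω] (a : Ω)
    (h5 : Nat.card (MulAction.orbitRel.Quotient (MulAction.stabilizer G a) Ω) ≤ 5) :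
    ∀ χ : G → ℂ, Cfsg.IsIrrCharacter G χ →
      Cfsg.classInner (fun g : G => (Nat.card (MulAction.fixedBy Ω g) : ℂ)) χ = 0 ∨
      Cfsg.classInner (fun g : G => (Nat.card (MulAction.fixedBy Ω g) : ℂ)) χ = 1 := by
  classical
  have : Fintype (IrrCharacter G) := Fintype.ofFinite _
  obtain ⟨m, hm0, hm1, hm2, hm3⟩ := perm_mult_facts (G := G) a
  suffices hall : ∀ ψ, m ψ ≤ 1 by
    intro χ hχ
    have h2 := hm0 ⟨χ, hχ⟩
    have h1 := hall ⟨χ, hχ⟩
    rw [← h2]
    interval_cases (m ⟨χ, hχ⟩)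
    · left; simp
    · right; simp
  by_contra hcon
  push Not at hcon
  obtain ⟨ψ₀, hψ₀⟩ := hcon
  have hne0 : trivChar G ≠ ψ₀ := by
    rintro rfl
    rw [hm1] at hψ₀
    exact lt_irrefl _ hψ₀
  have hothers : ∀ ψ, ψ ≠ trivChar G → ψ ≠ ψ₀ → m ψ = 0 := by
    intro ψ h1 h2
    have hsub : ({trivChar G, ψ₀, ψ} : Finset (IrrCharacter G)) ⊆ Finset.univ :=
      Finset.subset_univ _
    have := Finset.sum_le_sum_of_subset (f := fun ψ => (m ψ) ^ 2) hsub
    rw [Finset.sum_insert (by simp [hne0, Ne.symm h1]),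
      Finset.sum_insert (by simp [Ne.symm h2]), Finset.sum_singleton, hm2, hm1] at this
    have h4 : 4 ≤ (m ψ₀) ^ 2 := by nlinarith
    have h0 : (m ψ) ^ 2 = 0 := by omega
    exact pow_eq_zero_iff (two_ne_zero) |>.mp h0
  have hd := charDegree_cast (IrrCharacter_isCharacter ψ₀)
  have hA := partA a (charDegree (ψ₀ : G → ℂ)) (fun χ hχ hne h0 => by
    have h1 : m ⟨χ, hχ⟩ ≠ 0 := by
      intro h
      apply h0
      rw [← hm0 ⟨χ, hχ⟩, h, Nat.cast_zero]
    have h2 : (⟨χ, hχ⟩ : IrrCharacter G) = ψ₀ := by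
      by_contra h
      apply h1
      apply hothers _ _ h
      intro h'
      apply hne
      exact congrArg Subtype.val h'
    have h3 : χ = (ψ₀ : G → ℂ) := congrArg Subtype.val h2
    rw [h3, hd])
  have h6 := hA.1 ψ₀.1 ψ₀.2
  rw [← hm0 ψ₀] at h6
  rcases h6 with h6 | h6
  · have : m ψ₀ = 0 := by exact_mod_cast h6
    omega
  · have : m ψ₀ = 1 := by exact_mod_cast h6
    omega

theorem result {G : Type*} [Group G] [Fintype G] {Ω : Type*} [Fintype Ω] [MulAction G Ω] [MulAction.IsPretransitive G Ω] (a : Ω) : ((f : ℕ) → (∀ χ : G → ℂ, Cfsg.IsIrrCharacter G χ → χ ≠ (fun _ => 1) → Cfsg.classInner (fun g : G => (Nat.card (MulAction.fixedBy Ω g) : ℂ)) χ ≠ 0 → χ 1 = f) → (∀ χ : G → ℂ, Cfsg.IsIrrCharacter G χ → Cfsg.classInner (fun g : G => (Nat.card (MulAction.fixedBy Ω g) : ℂ)) χ = 0 ∨ Cfsg.classInner (fun g : G => (Nat.card (MulAction.fixedBy Ω g) : ℂ)) χ = 1) ∧ ∀ b : Ω, b ≠ a → Nat.card (MulAction.orbit (MulAction.stabilizer G a) b)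 = f) ∧ (Nat.card (MulAction.orbitRel.Quotient (MulAction.stabilizer G a) Ω) ≤ 5 → ∀ χ : G → ℂ, Cfsg.IsIrrCharacter G χ → Cfsg.classInner (fun g : G => (Nat.card (MulAction.fixedBy Ω g) : ℂ)) χ = 0 ∨ Cfsg.classInner (fun g : G => (Nat.card (MulAction.fixedBy Ω g) : ℂ)) χ = 1) :=
  ⟨fun f hf => partA a f hf, fun h5 => partB a h5⟩

end Cfsg.Agent.S0716
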