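import Mathlib
import Cfsg.Statements.S0717
import Cfsg.Agent.S0715
import Cfsg.Agent.Lib.Helper17.PermSigma
import Cfsg.Agent.Lib.Helper17.PermMult
import Cfsg.Agent.Lib.Helper79.FrobSchurCount
import Cfsg.Agent.Lib.Helper64.SquareCount

set_option autoImplicit false
open Cfsg

namespace Cfsg.Agent.S0717

open MulAction Cfsg.Agent.Lib.Helper17 Cfsg.Agent.Lib.Helper83
open scoped ComplexConjugate

section Count

variable {G X : Type*} [Group G] [MulAction G X]

theorem card_swap_eq [Fintype G] [DecidableEq X] (x y : X)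
    (h : ∃ g : G, g • x = y ∧ g • y = x) :
    (Finset.univ.filter (fun g : G => g • x = y ∧ g • y = x)).card
      = (Finset.univ.filter (fun g : G => g • x = x ∧ g • y = y)).card := by
  classical
  apply le_antisymm (Cfsg.Agent.Lib.Helper64.card_swap_le x y)
  obtain ⟨g₀, h1, h2⟩ := h
  apply Finset.card_le_card_of_injOn (fun g => g₀ * g)
  · intro g hg
    rw [Finset.mem_coe, Finset.mem_filter] at hg
    obtain ⟨-, h3, h4⟩ := hg
    rw [Finset.mem_coe, Finset.mem_filter]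
    refine ⟨Finset.mem_univ _, ?_, ?_⟩
    · rw [mul_smul, h3, h1]
    · rw [mul_smul, h4, h2]
  · intro a _ b _ hab
    exact mul_left_cancel hab

theorem sum_fix_sq_eq [Fintype G] [Finite X] (hsw : ∀ x y : X, ∃ g : G, g • x = y ∧ g • y = x) :
    (∑ g : G, Nat.card (fixedBy X (g * g))) = ∑ g : G, Nat.card (fixedBy X g) ^ 2 := by
  classical
  have := Fintype.ofFinite X
  have hL : (∑ g : G, Nat.card (fixedBy X (g * g)))
      = ∑ x : X, ∑ y : X, (Finset.univ.filter (fun g : G => g • x = y ∧ g • y = x)).card := by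
    simp_rw [Cfsg.Agent.Lib.Helper64.card_fixedBy_eq_sum, Finset.card_filter]
    rw [Finset.sum_comm]
    refine Finset.sum_congr rfl fun x _ => ?_
    rw [Finset.sum_comm]
    refine Finset.sum_congr rfl fun g _ => ?_
    rw [mul_smul]
    have : ∀ y : X, (if g • x = y ∧ g • y = x then 1 else 0)
        = if g • x = y then (if g • g • x = x then 1 else 0) else 0 := by
      intro y
      by_cases h : g • x = y
      · subst h; simp
      · simp [h]
    simp_rw [this]
    rw [Finset.sum_ite_eq]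
    simp
  have hR : (∑ g : G, Nat.card (fixedBy X g) ^ 2)
      = ∑ x : X, ∑ y : X, (Finset.univ.filter (fun g : G => g • x = x ∧ g • y = y)).card := by
    simp_rw [Cfsg.Agent.Lib.Helper64.card_fixedBy_eq_sum, Finset.card_filter, sq,
      Finset.sum_mul_sum]
    rw [Finset.sum_comm]
    refine Finset.sum_congr rfl fun x _ => ?_
    rw [Finset.sum_comm]
    refine Finset.sum_congr rfl fun y _ => ?_
    refine Finset.sum_congr rfl fun g _ => ?_
    by_cases h1 : g • x = x <;> by_cases h2 : g • y = y <;> simp [h1, h2]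
  rw [hL, hR]
  exact Finset.sum_congr rfl fun x _ => Finset.sum_congr rfl fun y _ => card_swap_eq x y (hsw x y)

end Count

theorem backward {G : Type*} [Group G] [Fintype G] {Ω : Type*} [Fintype Ω] [MulAction G Ω]
    [MulAction.IsPretransitive G Ω]
    (h : ∀ χ : G → ℂ, Cfsg.IsIrrCharacter G χ →
      Cfsg.classInner (fun g : G => (Nat.card (MulAction.fixedBy Ω g) : ℂ)) χ ≠ 0 →
      Cfsg.classInner (fun g : G => (Nat.card (MulAction.fixedBy Ω g) : ℂ)) χ = 1 ∧
        ∀ g : G, (starRingEnd ℂ) (χ g) = χ g) (a b : Ω) :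
    ∃ g : G, g • a = b ∧ g • b = a := by
  classical
  have : Fintype (IrrCharacter G) := Fintype.ofFinite _
  by_cases hab : b = a
  · subst hab
    exact ⟨1, one_smul _ _, one_smul _ _⟩
  obtain ⟨k, hk⟩ := exists_smul_eq G b a
  have hkb : k⁻¹ • a = b := by rw [inv_smul_eq_iff, hk]
  have hA := Cfsg.Agent.S0715.orbMat_smul (G := G) a b
  have h1 := sum_degree_mul_sigma a (Cfsg.Agent.S0715.orbMat G a b) k
  have h2 := sum_degree_mul_sigma a (Cfsg.Agent.S0715.orbMat G a b).transpose k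
  have h3 : ∀ χ : IrrCharacter G,
      sigma a (Cfsg.Agent.S0715.orbMat G a b).transpose (χ : G → ℂ) k =
        sigma a (Cfsg.Agent.S0715.orbMat G a b) (χ : G → ℂ) k := by
    intro χ
    apply sigma_transpose_eq a _ hA χ.2
    · by_cases h0 : Cfsg.classInner (fun g : G => (Nat.card (MulAction.fixedBy Ω g) : ℂ))
          (χ : G → ℂ) = 0
      · left; exact h0
      · right; exact (h χ.1 χ.2 h0).1
    · intro h0
      exact (h χ.1 χ.2 h0).2
  simp only [h3] at h2
  rw [h1, hkb, Matrix.transpose_apply] at h2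
  have hΩ : (Nat.card Ω : ℂ) ≠ 0 := by
    have : Nonempty Ω := ⟨a⟩
    exact_mod_cast Nat.card_pos.ne'
  have h4 := mul_left_cancel₀ hΩ h2
  have h5 : Cfsg.Agent.S0715.orbMat G a b a b = Cfsg.Agent.S0715.orbMat G a b b a := by
    exact_mod_cast h4
  unfold Cfsg.Agent.S0715.orbMat at h5
  rw [if_pos ⟨1, one_smul _ _, one_smul _ _⟩] at h5
  by_contra hcon
  rw [if_neg hcon] at h5
  exact one_ne_zero h5

theorem forward {G : Type*} [Group G] [Fintype G] {Ω : Type*} [Fintype Ω] [MulAction G Ω]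
    [MulAction.IsPretransitive G Ω] (hsw : ∀ a b : Ω, ∃ g : G, g • a = b ∧ g • b = a)
    (χ : G → ℂ) (hχ : Cfsg.IsIrrCharacter G χ)
    (h0 : Cfsg.classInner (fun g : G => (Nat.card (MulAction.fixedBy Ω g) : ℂ)) χ ≠ 0) :
    Cfsg.classInner (fun g : G => (Nat.card (MulAction.fixedBy Ω g) : ℂ)) χ = 1 ∧
      ∀ g : G, (starRingEnd ℂ) (χ g) = χ g := by
  classical
  have : Fintype (IrrCharacter G) := Fintype.ofFinite _
  by_cases hne : Nonempty Ω
  swap
  · exfalso
    apply h0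
    unfold Cfsg.classInner
    have : ∀ g : G, (Nat.card (MulAction.fixedBy Ω g) : ℂ) = 0 := by
      intro g
      have : IsEmpty (MulAction.fixedBy Ω g) := ⟨fun x => hne ⟨x.1⟩⟩
      rw [Nat.card_of_isEmpty, Nat.cast_zero]
    simp only [this, zero_mul, Finset.sum_const_zero, mul_zero]
  obtain ⟨a⟩ := hne
  have hπ := isCharacter_perm (G := G) a
  have hdec := char_eq_sum_irrMult hπ
  set π : G → ℂ := fun g : G => (Nat.card (MulAction.fixedBy Ω g) : ℂ) with hπdef
  set m : IrrCharacter G → ℕ := irrMult π with hmdef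
  have hm0 : ∀ ψ : IrrCharacter G, (m ψ : ℂ) = Cfsg.classInner π (ψ : G → ℂ) :=
    fun ψ => irrMult_cast hπ ψ
  have hGne : (Nat.card G : ℂ) ≠ 0 := by exact_mod_cast Nat.card_pos.ne'
  -- F1
  have hF1 : ∑ g : G, π (g * g) =
      (Nat.card G : ℂ) * ∑ ψ : IrrCharacter G, (m ψ : ℂ) *
        Cfsg.Agent.Lib.Helper79.fsInd (ψ : G → ℂ) := by
    have h1 : ∀ g : G, π (g * g) = ∑ ψ : IrrCharacter G, (m ψ : ℂ) * (ψ : G → ℂ) (g * g) := by
      intro g
      have := congrFun hdec (g * g)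
      simp only [Finset.sum_apply, Pi.smul_apply, smul_eq_mul] at this
      exact this
    simp only [h1]
    rw [Finset.sum_comm, Finset.mul_sum]
    apply Finset.sum_congr rfl
    intro ψ _
    unfold Cfsg.Agent.Lib.Helper79.fsInd
    rw [← Finset.mul_sum]
    field_simp
  -- F2
  have hF2 : ∑ g : G, π g ^ 2 = (Nat.card G : ℂ) * ∑ ψ : IrrCharacter G, ((m ψ : ℂ)) ^ 2 := by
    have h1 : Cfsg.classInner π π = ∑ ψ : IrrCharacter G, (m ψ : ℂ) * conj (m ψ : ℂ) := by
      conv_lhs => rw [hdec]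
      exact classInner_sum_irr_self _
    have h2 : Cfsg.classInner π π = (Nat.card G : ℂ)⁻¹ * ∑ g : G, π g ^ 2 := by
      unfold Cfsg.classInner
      congr 1
      apply Finset.sum_congr rfl
      intro g _
      rw [hπdef]
      simp only [Complex.conj_natCast, pow_two]
    rw [h2] at h1
    have h3 : ∀ ψ : IrrCharacter G, (m ψ : ℂ) * conj (m ψ : ℂ) = (m ψ : ℂ) ^ 2 := by
      intro ψ
      rw [Complex.conj_natCast, pow_two]
    simp only [h3] at h1
    rw [← h1]
    field_simp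
  -- F3
  have hF3 : ∑ g : G, π (g * g) = ∑ g : G, π g ^ 2 := by
    have := sum_fix_sq_eq (G := G) (X := Ω) hsw
    have h' := congrArg (Nat.cast : ℕ → ℂ) this
    push_cast at h'
    exact h'
  rw [hF1, hF2] at hF3
  have hF4 := mul_left_cancel₀ hGne hF3
  -- integer indicators
  have hν := fun ψ : IrrCharacter G => Cfsg.Agent.Lib.Helper79.exists_int_fsInd ψ
  choose ν hν1 hν2 hν3 using hν
  have hF5 : ∑ ψ : IrrCharacter G, (m ψ : ℤ) * ν ψ = ∑ ψ : IrrCharacter G, (m ψ : ℤ) ^ 2 := by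
    have h1 : ((∑ ψ : IrrCharacter G, (m ψ : ℤ) * ν ψ : ℤ) : ℂ) =
        ((∑ ψ : IrrCharacter G, (m ψ : ℤ) ^ 2 : ℤ) : ℂ) := by
      push_cast
      simp only [hν2]
      exact hF4
    exact_mod_cast h1
  have hle : ∀ ψ ∈ (Finset.univ : Finset (IrrCharacter G)), (m ψ : ℤ) * ν ψ ≤ (m ψ : ℤ) ^ 2 := by
    intro ψ _
    have h1 : (0 : ℤ) ≤ m ψ := Int.natCast_nonneg _
    rcases hν1 ψ with h | h | h <;> rw [h] <;> nlinarith
  have hterm := (Finset.sum_eq_sum_iff_of_le hle).mp hF5 ⟨χ, hχ⟩ (Finset.mem_univ _)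
  have hmne : m ⟨χ, hχ⟩ ≠ 0 := by
    intro h
    apply h0
    have := hm0 ⟨χ, hχ⟩
    rw [h, Nat.cast_zero] at this
    exact this.symm
  have hmpos : (1 : ℤ) ≤ m ⟨χ, hχ⟩ := by
    have : 1 ≤ m ⟨χ, hχ⟩ := Nat.one_le_iff_ne_zero.mpr hmne
    exact_mod_cast this
  have hνm : ν ⟨χ, hχ⟩ = 1 ∧ (m ⟨χ, hχ⟩ : ℤ) = 1 := by
    rcases hν1 ⟨χ, hχ⟩ with h | h | h <;> rw [h] at hterm
    · nlinarith
    · constructor
      · exact h
      · nlinarith
    · nlinarith
  constructor
  · have := hm0 ⟨χ, hχ⟩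
    rw [← this]
    have h1 : m ⟨χ, hχ⟩ = 1 := by exact_mod_cast hνm.2
    rw [h1, Nat.cast_one]
  · intro g
    have := hν3 ⟨χ, hχ⟩ (by rw [hνm.1]; exact one_ne_zero) g
    exact Complex.conj_eq_iff_im.mpr this

theorem result {G : Type*} [Group G] [Fintype G] {Ω : Type*} [Fintype Ω] [MulAction G Ω] [MulAction.IsPretransitive G Ω] : (∀ a b : Ω, ∃ g : G, g • a = b ∧ g • b = a) ↔ ∀ χ : G → ℂ, Cfsg.IsIrrCharacter G χ → Cfsg.classInner (fun g : G => (Nat.card (MulAction.fixedBy Ω g) : ℂ)) χ ≠ 0 → Cfsg.classInner (fun g : G => (Nat.card (MulAction.fixedBy Ω g) : ℂ)) χ = 1 ∧ ∀ g : G, (starRingEnd ℂ) (χ g) = χ g :=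
  ⟨fun hsw χ hχ h0 => forward hsw χ hχ h0, fun h a b => backward h a b⟩

end Cfsg.Agent.S0717
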