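import Cfsg.Statements.S0718
import Cfsg.Agent.Lib.Helper05.MultFree

set_option autoImplicit false
open Cfsg

namespace Cfsg.Agent.S0718

open Cfsg.Agent.Lib.Helper05 Representation

theorem permRep_character {G : Type*} [Group G] {Ω : Type*} [Fintype Ω] [MulAction G Ω] (g : G) :
    (Cfsg.permRep ℂ G Ω).character g = (Nat.card (MulAction.fixedBy Ω g) : ℂ) := by
  classical
  rw [Representation.character, LinearMap.trace_eq_matrix_trace ℂ (Pi.basisFun ℂ Ω), Matrix.trace]
  simp only [Matrix.diag_apply, LinearMap.toMatrix_apply, Pi.basisFun_apply, Pi.basisFun_repr]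
  have h1 : ∀ x : Ω, (Cfsg.permRep ℂ G Ω) g (Pi.single (M := fun _ : Ω => ℂ) x (1 : ℂ)) x
      = if g • x = x then 1 else 0 := by
    intro x
    change (Pi.single (M := fun _ : Ω => ℂ) x (1 : ℂ)) (g⁻¹ • x) = _
    rw [Pi.single_apply]
    by_cases h : g • x = x
    · have : g⁻¹ • x = x := by rw [inv_smul_eq_iff, h]
      rw [if_pos this, if_pos h]
    · have : ¬ g⁻¹ • x = x := by
        intro h2; apply h; rw [inv_smul_eq_iff] at h2; exact h2.symm
      rw [if_neg this, if_neg h]
  simp only [h1]
  rw [Finset.sum_boole]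
  rw [Nat.card_eq_fintype_card, Fintype.card_subtype]
  simp [MulAction.mem_fixedBy]

theorem mem_invariants_linHom_iff {G : Type*} [Group G] {V : Type*} [AddCommGroup V] [Module ℂ V]
    (ρ : Representation ℂ G V) (S : V →ₗ[ℂ] V) :
    S ∈ (ρ.linHom ρ).invariants ↔ ∀ g, S ∘ₗ ρ g = ρ g ∘ₗ S := by
  rw [Representation.mem_invariants]
  constructor
  · intro h g
    have h1 := h g
    rw [Representation.linHom_apply] at h1
    conv_lhs => rw [← h1]
    ext v
    simp
  · intro h g
    rw [Representation.linHom_apply, ← LinearMap.comp_assoc, ← h g]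
    ext v
    simp

/-- The permutation character of a finite group action is multiplicity-free if and only if the algebra of equivariant endomorphisms of the complex permutation module (the centraliser ring) is commutative. -/
theorem result {G : Type*} [Group G] [Fintype G] {Ω : Type*} [Fintype Ω] [MulAction G Ω] : (∀ χ : G → ℂ, Cfsg.IsIrrCharacter G χ → Cfsg.classInner (fun g : G => (Nat.card (MulAction.fixedBy Ω g) : ℂ)) χ = 0 ∨ Cfsg.classInner (fun g : G => (Nat.card (MulAction.fixedBy Ω g) : ℂ)) χ = 1) ↔ ∀ S T : (Ω → ℂ) →ₗ[ℂ] (Ω → ℂ), S ∈ ((Cfsg.permRep ℂ G Ω).linHom (Cfsg.permRep ℂ G Ω)).invariants → T ∈ ((Cfsg.permRep ℂ G Ω).linHom (Cfsg.permRep ℂ G Ω)).invariants → S ∘ₗ T = T ∘ₗ S := by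
  have hchar : (Cfsg.permRep ℂ G Ω).character
      = fun g : G => (Nat.card (MulAction.fixedBy Ω g) : ℂ) := funext permRep_character
  have h := multFree_iff_commEnd (G := G) (Ω → ℂ) (Cfsg.permRep ℂ G Ω)
  unfold MultFree CommEnd at h
  rw [hchar] at h
  rw [h]
  constructor
  · intro hc S T hS hT
    exact hc S T ((mem_invariants_linHom_iff _ S).mp hS) ((mem_invariants_linHom_iff _ T).mp hT)
  · intro hc S T hS hT
    exact hc S T ((mem_invariants_linHom_iff _ S).mpr hS) ((mem_invariants_linHom_iff _ T).mpr hT)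

end Cfsg.Agent.S0718
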