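import Mathlib
import Cfsg.Statements.S0719
import Cfsg.Agent.S0715
import Cfsg.Agent.S0717
import Cfsg.Agent.Lib.Helper17.PermTau2
import Cfsg.Agent.Lib.Helper17.PermMult
import Cfsg.Agent.Lib.Helper05.CharOrtho
import Cfsg.Agent.Lib.Helper80.GaloisChar

set_option autoImplicit false
open Cfsg

namespace Cfsg.Agent.S0719

open MulAction Cfsg.Agent.Lib.Helper17 Cfsg.Agent.Lib.Helper83
open scoped ComplexConjugate

/-- The integer arithmetic at the heart of Wielandt's rank 3 computation. -/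
theorem arith (m k : ℕ) (u v : ℤ) (hm : 2 ≤ m) (hk : 2 ≤ k) (hk' : k + 3 ≤ 2 * m)
    (h1 : (k : ℤ) + ((m : ℤ) - 1) * u + m * v = 0)
    (h2 : (k : ℤ) ^ 2 + ((m : ℤ) - 1) * u ^ 2 + m * v ^ 2 = 2 * m * k) :
    ∃ a : ℕ, 0 < a ∧ m = 2 * a ^ 2 + 2 * a + 1 ∧
      (k = a * (2 * a + 1) ∨ k = (a + 1) * (2 * a + 1)) := by
  obtain ⟨w, hw⟩ : ∃ w : ℤ, w = u + v := ⟨_, rfl⟩
  have hu : u = k + m * w := by rw [hw]; linear_combination -h1
  have hv : v = -k - (m - 1) * w := by rw [hw]; linear_combination h1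
  have hmZ : (2 : ℤ) ≤ m := by exact_mod_cast hm
  have hkZ : (2 : ℤ) ≤ k := by exact_mod_cast hk
  have hkZ' : (k : ℤ) + 3 ≤ 2 * m := by exact_mod_cast hk'
  have hstar : 2 * (k : ℤ) * (k - 1) + 4 * k * (m - 1) * w + (m - 1) * (2 * m - 1) * w ^ 2 = 0 := by
    have h3 : (m : ℤ) * (2 * (k : ℤ) * (k - 1) + 4 * k * (m - 1) * w +
        (m - 1) * (2 * m - 1) * w ^ 2) = 0 := by
      rw [hu, hv] at h2
      linear_combination h2
    rcases mul_eq_zero.mp h3 with h | h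
    · omega
    · exact h
  have hwneg : w < 0 := by
    by_contra hcon
    push Not at hcon
    have e0 : (0 : ℤ) ≤ (k : ℤ) * (m - 1) := mul_nonneg (by linarith) (by linarith)
    have e1 : 0 ≤ (k : ℤ) * (m - 1) * w := mul_nonneg e0 hcon
    have e2 : (0 : ℤ) ≤ ((m : ℤ) - 1) * (2 * m - 1) := mul_nonneg (by linarith) (by linarith)
    have e3 : 0 ≤ ((m : ℤ) - 1) * (2 * m - 1) * w ^ 2 := mul_nonneg e2 (sq_nonneg w)
    have e4 : (0 : ℤ) < 2 * (k : ℤ) * (k - 1) := by nlinarith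
    linarith
  have hwge : -2 ≤ w := by
    by_contra hcon
    push Not at hcon
    have hsq : (4 * (k : ℤ) - 2 + 4 * (m - 1) * w) ^ 2 = 4 - 8 * (m - 1) * (w * (w + 2)) := by
      linear_combination 8 * hstar
    have e1 : 3 ≤ w * (w + 2) := by nlinarith
    have e2 : 3 ≤ ((m : ℤ) - 1) * (w * (w + 2)) := by nlinarith
    nlinarith [sq_nonneg (4 * (k : ℤ) - 2 + 4 * (m - 1) * w)]
  have hw12 : w = -2 ∨ w = -1 := by omega
  rcases hw12 with rfl | rfl
  · exfalso
    have e1 : 2 * ((2 * (m : ℤ) - 1 - k) * (2 * m - 2 - k)) = 0 := by linear_combination hstar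
    have e2 : (0 : ℤ) < (2 * (m : ℤ) - 1 - k) * (2 * m - 2 - k) :=
      mul_pos (by linarith) (by linarith)
    linarith
  · have hd : (2 * (k : ℤ) - (2 * m - 1)) ^ 2 = 2 * m - 1 := by linear_combination 2 * hstar
    obtain ⟨d, hdef⟩ : ∃ d : ℕ, d = (2 * (k : ℤ) - (2 * m - 1)).natAbs := ⟨_, rfl⟩
    have hd2 : ((d : ℤ)) ^ 2 = 2 * m - 1 := by
      rw [hdef, Int.natCast_natAbs, sq_abs, hd]
    rcases Nat.even_or_odd' d with ⟨a, rfl | rfl⟩
    · exfalso
      push_cast at hd2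
      omega
    · refine ⟨a, ?_, ?_, ?_⟩
      · rcases Nat.eq_zero_or_pos a with rfl | h
        · exfalso
          push_cast at hd2
          omega
        · exact h
      · push_cast at hd2
        have : (m : ℤ) = 2 * (a : ℤ) ^ 2 + 2 * a + 1 := by linarith
        exact_mod_cast this
      · push_cast at hd2
        have hm' : (m : ℤ) = 2 * (a : ℤ) ^ 2 + 2 * a + 1 := by linarith
        rcases Int.natAbs_eq (2 * (k : ℤ) - (2 * m - 1)) with h | h
        · right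
          rw [← hdef] at h
          push_cast at h
          have : (k : ℤ) = ((a : ℤ) + 1) * (2 * a + 1) := by nlinarith
          exact_mod_cast this
        · left
          rw [← hdef] at h
          push_cast at h
          have : (k : ℤ) = (a : ℤ) * (2 * a + 1) := by nlinarith
          exact_mod_cast this

section Action

variable {G : Type*} [Group G] {Ω : Type*} [MulAction G Ω]

/-- In a primitive group, if the stabiliser of `a₀` fixes another point then it fixes all. -/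
theorem fixes_all_of_fixes (hprim : IsPreprimitive G Ω) (a₀ b : Ω) (hb : b ≠ a₀)
    (hfix : ∀ h ∈ stabilizer G a₀, h • b = b) : ∀ x : Ω, ∀ h ∈ stabilizer G a₀, h • x = x := by
  haveI := hprim
  haveI : Nontrivial Ω := ⟨⟨b, a₀, hb⟩⟩
  have hco : IsCoatom (stabilizer G a₀) :=
    IsPreprimitive.isCoatom_stabilizer_of_isPreprimitive (G := G) a₀
  have hle : stabilizer G a₀ ≤ stabilizer G b := fun h hh => hfix h hh
  have hne : stabilizer G b ≠ ⊤ := by
    intro htop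
    obtain ⟨g, hg⟩ := exists_smul_eq G b a₀
    have : g ∈ stabilizer G b := by rw [htop]; exact Subgroup.mem_top g
    rw [mem_stabilizer_iff, hg] at this
    exact hb this.symm
  have heq : stabilizer G b = stabilizer G a₀ := by
    rcases hco.le_iff.mp hle with h | h
    · exact absurd h hne
    · exact h
  obtain ⟨g, hg⟩ := exists_smul_eq G a₀ b
  have hgN : g ∈ Subgroup.normalizer (stabilizer G a₀ : Set G) := by
    rw [Subgroup.mem_normalizer_iff]
    intro h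
    constructor
    · intro hh
      rw [mem_stabilizer_iff] at hh
      have : g * h * g⁻¹ ∈ stabilizer G b := by
        rw [mem_stabilizer_iff, ← hg, mul_smul, mul_smul, inv_smul_smul, hh]
      rwa [heq] at this
    · intro hh
      rw [← heq, mem_stabilizer_iff, ← hg, mul_smul, mul_smul, inv_smul_smul] at hh
      rw [mem_stabilizer_iff]
      exact smul_left_cancel g hh
  have hgH : g ∉ stabilizer G a₀ := by
    intro h
    rw [mem_stabilizer_iff, hg] at h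
    exact hb h
  have hlt : stabilizer G a₀ < Subgroup.normalizer (stabilizer G a₀ : Set G) := by
    refine lt_of_le_of_ne Subgroup.le_normalizer ?_
    intro h
    apply hgH
    rw [h]
    exact hgN
  have htop : Subgroup.normalizer (stabilizer G a₀ : Set G) = ⊤ := hco.2 _ hlt
  have hnormal : (stabilizer G a₀).Normal := Subgroup.normalizer_eq_top_iff.mp htop
  intro x h hh
  obtain ⟨g', rfl⟩ := exists_smul_eq G a₀ x
  have h1 : g'⁻¹ * h * g' ∈ stabilizer G a₀ := hnormal.conj_mem' h hh g'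
  rw [mem_stabilizer_iff, mul_smul, mul_smul, inv_smul_eq_iff] at h1
  exact h1

/-- If a group acts trivially, the orbits are the points. -/
theorem card_quotient_of_trivial {H : Type*} [Group H] [MulAction H Ω]
    (htriv : ∀ (x : Ω) (h : H), h • x = x) :
    Nat.card (orbitRel.Quotient H Ω) = Nat.card Ω := by
  symm
  apply Nat.card_eq_of_bijective (fun x : Ω => (Quotient.mk'' x : orbitRel.Quotient H Ω))
  constructor
  · intro x y hxy
    rw [Quotient.eq''] at hxy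
    obtain ⟨h, hh⟩ := hxy
    rw [← hh]
    exact htriv y h
  · intro q
    induction q using Quotient.inductionOn' with
    | h x => exact ⟨x, rfl⟩

end Action

section Bounds

variable {G : Type*} [Group G] {Ω : Type*} [Fintype Ω] [MulAction G Ω]

theorem orbit_stab_self (a₀ : Ω) : orbit (stabilizer G a₀) a₀ = {a₀} := by
  ext x
  simp only [mem_orbit_iff, Set.mem_singleton_iff]
  constructor
  · rintro ⟨h, rfl⟩
    exact h.2
  · rintro rfl
    exact ⟨1, one_smul _ _⟩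

theorem subdegree_bounds (hprim : IsPreprimitive G Ω) {m : ℕ} (hm : Fintype.card Ω = 2 * m)
    (a₀ : Ω) (hrank : Nat.card (orbitRel.Quotient (stabilizer G a₀) Ω) = 3) (b : Ω)
    (hb : b ≠ a₀) :
    2 ≤ Nat.card (orbit (stabilizer G a₀) b) ∧
      Nat.card (orbit (stabilizer G a₀) b) + 3 ≤ 2 * m := by
  classical
  have hmove : ∀ c : Ω, c ≠ a₀ → ∃ h : stabilizer G a₀, h • c ≠ c := by
    intro c hc
    by_contra hcon
    push Not at hcon
    have hall := fixes_all_of_fixes hprim a₀ c hc (fun h hh => hcon ⟨h, hh⟩)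
    have := card_quotient_of_trivial (Ω := Ω) (H := stabilizer G a₀)
      (fun x h => hall x h.1 h.2)
    rw [hrank, Nat.card_eq_fintype_card, hm] at this
    omega
  have htwo : ∀ c : Ω, c ≠ a₀ → 2 ≤ Nat.card (orbit (stabilizer G a₀) c) := by
    intro c hc
    obtain ⟨h, hh⟩ := hmove c hc
    have : Nontrivial (orbit (stabilizer G a₀) c) :=
      ⟨⟨⟨h • c, mem_orbit c h⟩, ⟨c, mem_orbit_self c⟩, fun heq => hh (congrArg Subtype.val heq)⟩⟩
    exact Finite.one_lt_card_iff_nontrivial.mpr this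
  refine ⟨htwo b hb, ?_⟩
  have : Fintype (orbitRel.Quotient (stabilizer G a₀) Ω) := Fintype.ofFinite _
  set qa : orbitRel.Quotient (stabilizer G a₀) Ω := Quotient.mk'' a₀ with hqa
  set qb : orbitRel.Quotient (stabilizer G a₀) Ω := Quotient.mk'' b with hqb
  have hne : ∀ c : Ω, c ≠ a₀ →
      (Quotient.mk'' c : orbitRel.Quotient (stabilizer G a₀) Ω) ≠ qa := by
    intro c hc h
    rw [hqa, Quotient.eq''] at h
    have : c ∈ orbit (stabilizer G a₀) a₀ := h
    rw [orbit_stab_self] at this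
    exact hc this
  have hqab : qb ≠ qa := hne b hb
  obtain ⟨q3, h3a, h3b⟩ : ∃ q3 : orbitRel.Quotient (stabilizer G a₀) Ω, q3 ≠ qa ∧ q3 ≠ qb := by
    by_contra hcon
    push Not at hcon
    have hsub : (Finset.univ : Finset (orbitRel.Quotient (stabilizer G a₀) Ω)) ⊆ {qa, qb} := by
      intro q _
      by_cases h : q = qa
      · simp [h]
      · simp [hcon q h]
    have h1 := Finset.card_le_card hsub
    have h2 : ({qa, qb} : Finset (orbitRel.Quotient (stabilizer G a₀) Ω)).card ≤ 2 :=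
      Finset.card_le_two
    rw [Finset.card_univ, ← Nat.card_eq_fintype_card, hrank] at h1
    omega
  induction q3 using Quotient.inductionOn' with
  | h c =>
    have hc : c ≠ a₀ := by
      rintro rfl
      exact h3a rfl
    have hsum := sum_orbSize (H := stabilizer G a₀) (Ω := Ω)
    have hsub : ({qa, qb, Quotient.mk'' c} :
        Finset (orbitRel.Quotient (stabilizer G a₀) Ω)) ⊆ Finset.univ := Finset.subset_univ _
    have hle := Finset.sum_le_sum_of_subset (f := fun q => orbSize q) hsub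
    rw [Finset.sum_insert (by simp [Ne.symm hqab, Ne.symm h3a]),
      Finset.sum_insert (by simp [Ne.symm h3b]), Finset.sum_singleton, hsum, hm,
      hqa, hqb, orbSize_mk, orbSize_mk, orbSize_mk, orbit_stab_self] at hle
    have h2 := htwo c hc
    simp only [Nat.card_eq_fintype_card, Fintype.card_unique] at hle h2 ⊢
    omega

end Bounds

section Main

variable {G : Type*} [Group G] [Fintype G] {Ω : Type*} [Fintype Ω] [MulAction G Ω]

open Classical in
theorem inner_cases (χ₁ χ₂ : G → ℂ) (h₁ : IsIrrCharacter G χ₁) (h₂ : IsIrrCharacter G χ₂)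
    (hπ : (fun g : G => (Nat.card (fixedBy Ω g) : ℂ)) = fun g => 1 + χ₁ g + χ₂ g)
    (ψ : G → ℂ) (hψ : IsIrrCharacter G ψ) :
    classInner (fun g : G => (Nat.card (fixedBy Ω g) : ℂ)) ψ =
      (if (fun _ : G => (1 : ℂ)) = ψ then 1 else 0) + (if χ₁ = ψ then 1 else 0) +
        (if χ₂ = ψ then 1 else 0) := by
  have hπ' : (fun g : G => (Nat.card (fixedBy Ω g) : ℂ)) = (fun _ : G => (1 : ℂ)) + χ₁ + χ₂ := by
    rw [hπ]
    rfl
  rw [hπ', Cfsg.Agent.Lib.Helper05.classInner_add_left,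
    Cfsg.Agent.Lib.Helper05.classInner_add_left,
    Cfsg.Agent.Lib.Helper05.classInner_irr isIrrCharacter_one hψ,
    Cfsg.Agent.Lib.Helper05.classInner_irr h₁ hψ,
    Cfsg.Agent.Lib.Helper05.classInner_irr h₂ hψ]

theorem facts [IsPretransitive G Ω] (a₀ : Ω) {m : ℕ} (χ₁ χ₂ : G → ℂ)
    (h₁ : IsIrrCharacter G χ₁) (h₂ : IsIrrCharacter G χ₂)
    (hπ : (fun g : G => (Nat.card (fixedBy Ω g) : ℂ)) = fun g => 1 + χ₁ g + χ₂ g)
    (hd₁ : χ₁ 1 = (m : ℂ) - 1) (hd₂ : χ₂ 1 = m) :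
    χ₁ ≠ χ₂ ∧ (fun _ : G => (1 : ℂ)) ≠ χ₁ ∧ (fun _ : G => (1 : ℂ)) ≠ χ₂ ∧
    classInner (fun g : G => (Nat.card (fixedBy Ω g) : ℂ)) χ₁ = 1 ∧
    classInner (fun g : G => (Nat.card (fixedBy Ω g) : ℂ)) χ₂ = 1 ∧
    ∀ ψ : G → ℂ, IsIrrCharacter G ψ → (fun _ : G => (1 : ℂ)) ≠ ψ → χ₁ ≠ ψ → χ₂ ≠ ψ →
      classInner (fun g : G => (Nat.card (fixedBy Ω g) : ℂ)) ψ = 0 := by
  classical
  have : Fintype (IrrCharacter G) := Fintype.ofFinite _
  have h12 : χ₁ ≠ χ₂ := by
    intro h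
    rw [h, hd₂] at hd₁
    have : (0 : ℂ) = -1 := by linear_combination hd₁
    norm_num at this
  obtain ⟨mm, hm0, hm1, -, -⟩ := perm_mult_facts (G := G) a₀
  have ht : classInner (fun g : G => (Nat.card (fixedBy Ω g) : ℂ)) (fun _ : G => (1 : ℂ)) = 1 := by
    have := hm0 (trivChar G)
    rw [hm1, Nat.cast_one] at this
    exact this.symm
  have hc := inner_cases χ₁ χ₂ h₁ h₂ hπ _ (isIrrCharacter_one (G := G))
  rw [ht, if_pos rfl] at hc
  have ht1 : (fun _ : G => (1 : ℂ)) ≠ χ₁ := by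
    intro h
    rw [if_pos h.symm] at hc
    split_ifs at hc <;> norm_num at hc
  have ht2 : (fun _ : G => (1 : ℂ)) ≠ χ₂ := by
    intro h
    rw [if_pos h.symm] at hc
    split_ifs at hc <;> norm_num at hc
  refine ⟨h12, ht1, ht2, ?_, ?_, ?_⟩
  · rw [inner_cases χ₁ χ₂ h₁ h₂ hπ _ h₁, if_neg ht1, if_pos rfl, if_neg (Ne.symm h12)]
    norm_num
  · rw [inner_cases χ₁ χ₂ h₁ h₂ hπ _ h₂, if_neg ht2, if_neg h12, if_pos rfl]
    norm_num
  · intro ψ hψ e0 e1 e2
    rw [inner_cases χ₁ χ₂ h₁ h₂ hπ _ hψ, if_neg e0, if_neg e1, if_neg e2]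
    norm_num

/-- A constituent which is determined by its degree among the constituents is rational. -/
theorem rat_valued (χ : G → ℂ) (hχ : IsIrrCharacter G χ)
    (hone : (fun _ : G => (1 : ℂ)) ≠ χ)
    (h1 : classInner (fun g : G => (Nat.card (fixedBy Ω g) : ℂ)) χ ≠ 0)
    (huniq : ∀ ψ : G → ℂ, IsIrrCharacter G ψ →
      classInner (fun g : G => (Nat.card (fixedBy Ω g) : ℂ)) ψ ≠ 0 → ψ 1 = χ 1 →
        ψ = χ ∨ ψ = (fun _ : G => (1 : ℂ))) :
    ∀ g : G, ∃ q : ℚ, χ g = (q : ℂ) := by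
  intro g
  apply char_rat_of_pow_invariant (isCharacter_of_irr hχ) g
  intro k hk
  have hirr := Cfsg.Agent.Lib.Helper80.isIrrCharacter_pow_coprime hχ k hk
  have hin := classInner_perm_pow (Ω := Ω) χ k hk
  have h2 : (fun g => χ (g ^ k)) = χ ∨ (fun g => χ (g ^ k)) = (fun _ : G => (1 : ℂ)) := by
    apply huniq _ hirr
    · rw [hin]; exact h1
    · simp only [one_pow]
  rcases h2 with h2 | h2
  · exact congrFun h2 g
  · exfalso
    apply hone
    funext x
    have := congrFun h2 ((powCoprime hk.symm).symm x)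
    have hx : ((powCoprime hk.symm).symm x) ^ k = x := (powCoprime hk.symm).apply_symm_apply x
    rw [hx] at this
    exact this.symm

omit [Fintype G] in
theorem mul_invariant (A B : Matrix Ω Ω ℤ)
    (hA : ∀ (g : G) (y w : Ω), A (g • y) (g • w) = A y w)
    (hB : ∀ (g : G) (y w : Ω), B (g • y) (g • w) = B y w) :
    ∀ (g : G) (y w : Ω), (A * B) (g • y) (g • w) = (A * B) y w := by
  intro g y w
  simp only [Matrix.mul_apply]
  rw [← Equiv.sum_comp (MulAction.toPerm g)]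
  apply Finset.sum_congr rfl
  intro z _
  simp only [MulAction.toPerm_apply]
  rw [hA, hB]

theorem sum_three [IsPretransitive G Ω] (a₀ : Ω) {m : ℕ} (hm : Fintype.card Ω = 2 * m)
    (χ₁ χ₂ : G → ℂ) (h₁ : IsIrrCharacter G χ₁) (h₂ : IsIrrCharacter G χ₂)
    (h12 : χ₁ ≠ χ₂) (ht1 : (fun _ : G => (1 : ℂ)) ≠ χ₁) (ht2 : (fun _ : G => (1 : ℂ)) ≠ χ₂)
    (hother : ∀ ψ : G → ℂ, IsIrrCharacter G ψ → (fun _ : G => (1 : ℂ)) ≠ ψ → χ₁ ≠ ψ → χ₂ ≠ ψ →
      classInner (fun g : G => (Nat.card (fixedBy Ω g) : ℂ)) ψ = 0)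
    (hd₁ : χ₁ 1 = (m : ℂ) - 1) (hd₂ : χ₂ 1 = m) (B : Matrix Ω Ω ℤ)
    (hB : ∀ (g : G) (y w : Ω), B (g • y) (g • w) = B y w) :
    (2 * (m : ℂ)) * (B a₀ a₀ : ℂ) =
      (∑ w, (B a₀ w : ℂ)) + ((m : ℂ) - 1) * tau a₀ B χ₁ + (m : ℂ) * tau a₀ B χ₂ := by
  classical
  have : Fintype (IrrCharacter G) := Fintype.ofFinite _
  have hs := sum_degree_mul_tau (G := G) a₀ B
  have hsub : ∑ χ ∈ ({trivChar G, ⟨χ₁, h₁⟩, ⟨χ₂, h₂⟩} : Finset (IrrCharacter G)),
      (χ : G → ℂ) 1 * tau a₀ B (χ : G → ℂ) =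
      ∑ χ : IrrCharacter G, (χ : G → ℂ) 1 * tau a₀ B (χ : G → ℂ) := by
    apply Finset.sum_subset (Finset.subset_univ _)
    intro χ _ hχ
    simp only [Finset.mem_insert, Finset.mem_singleton, not_or] at hχ
    obtain ⟨e0, e1, e2⟩ := hχ
    have h0 := hother χ.1 χ.2 (fun h => e0 (Subtype.ext h.symm)) (fun h => e1 (Subtype.ext h.symm))
      (fun h => e2 (Subtype.ext h.symm))
    rw [tau_eq_zero_of_classInner a₀ B hB χ.2 h0, mul_zero]
  rw [← hsub, Finset.sum_insert, Finset.sum_insert, Finset.sum_singleton] at hs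
  · simp only [trivChar_apply] at hs
    have htriv : ((trivChar G : IrrCharacter G) : G → ℂ) = fun _ => 1 := rfl
    rw [htriv, tau_one, hd₁, hd₂, Nat.card_eq_fintype_card, hm] at hs
    push_cast at hs
    linear_combination -hs
  · simp only [Finset.mem_singleton]
    intro h
    exact h12 (congrArg Subtype.val h)
  · simp only [Finset.mem_insert, Finset.mem_singleton, not_or]
    constructor
    · intro h
      exact ht1 (congrArg Subtype.val h)
    · intro h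
      exact ht2 (congrArg Subtype.val h)

theorem key [IsPretransitive G Ω] (hprim : MulAction.IsPreprimitive G Ω) {m : ℕ}
    (hm : Fintype.card Ω = 2 * m) (a₀ : Ω)
    (hrank : Nat.card (MulAction.orbitRel.Quotient (MulAction.stabilizer G a₀) Ω) = 3)
    (χ₁ χ₂ : G → ℂ) (h₁ : Cfsg.IsIrrCharacter G χ₁) (h₂ : Cfsg.IsIrrCharacter G χ₂)
    (hπ : (fun g : G => (Nat.card (MulAction.fixedBy Ω g) : ℂ)) = fun g => 1 + χ₁ g + χ₂ g)
    (hd₁ : χ₁ 1 = (m : ℂ) - 1) (hd₂ : χ₂ 1 = m) (b : Ω) (hb : b ≠ a₀) :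
    ∃ a : ℕ, 0 < a ∧ m = 2 * a ^ 2 + 2 * a + 1 ∧
      (Nat.card (MulAction.orbit (MulAction.stabilizer G a₀) b) = a * (2 * a + 1) ∨
        Nat.card (MulAction.orbit (MulAction.stabilizer G a₀) b) = (a + 1) * (2 * a + 1)) := by
  classical
  obtain ⟨h12, ht1, ht2, hin1, hin2, hother⟩ := facts a₀ χ₁ χ₂ h₁ h₂ hπ hd₁ hd₂
  have hm2 : 2 ≤ m := by
    have := Nat.card_le_card_of_surjective
      (Quotient.mk'' : Ω → orbitRel.Quotient (stabilizer G a₀) Ω) Quotient.mk''_surjective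
    rw [hrank, Nat.card_eq_fintype_card, hm] at this
    omega
  have hcons : ∀ ψ : G → ℂ, IsIrrCharacter G ψ →
      classInner (fun g : G => (Nat.card (fixedBy Ω g) : ℂ)) ψ ≠ 0 →
      ((fun _ : G => (1 : ℂ)) = ψ ∨ χ₁ = ψ ∨ χ₂ = ψ) := by
    intro ψ hψ h0
    by_contra hcon
    push Not at hcon
    exact h0 (hother ψ hψ hcon.1 hcon.2.1 hcon.2.2)
  have hr1 : ∀ g : G, ∃ q : ℚ, χ₁ g = (q : ℂ) := by
    apply rat_valued (Ω := Ω) χ₁ h₁ ht1 (by rw [hin1]; exact one_ne_zero)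
    intro ψ hψ h0 hdeg
    rcases hcons ψ hψ h0 with h | h | h
    · right; exact h.symm
    · left; exact h.symm
    · exfalso
      rw [← h, hd₂, hd₁] at hdeg
      have : (0 : ℂ) = -1 := by linear_combination hdeg
      norm_num at this
  have hr2 : ∀ g : G, ∃ q : ℚ, χ₂ g = (q : ℂ) := by
    apply rat_valued (Ω := Ω) χ₂ h₂ ht2 (by rw [hin2]; exact one_ne_zero)
    intro ψ hψ h0 hdeg
    rcases hcons ψ hψ h0 with h | h | h
    · right; exact h.symm
    · exfalso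
      rw [← h, hd₂, hd₁] at hdeg
      have : (0 : ℂ) = 1 := by linear_combination hdeg
      norm_num at this
    · left; exact h.symm
  have hreal : ∀ χ : G → ℂ, (∀ g : G, ∃ q : ℚ, χ g = (q : ℂ)) →
      ∀ g : G, (starRingEnd ℂ) (χ g) = χ g := by
    intro χ h g
    obtain ⟨q, hq⟩ := h g
    rw [hq]
    exact map_ratCast (starRingEnd ℂ) q
  have htin : classInner (fun g : G => (Nat.card (fixedBy Ω g) : ℂ)) (fun _ : G => (1 : ℂ)) = 1 := by
    rw [inner_cases χ₁ χ₂ h₁ h₂ hπ _ (isIrrCharacter_one (G := G)), if_pos rfl,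
      if_neg (Ne.symm ht1), if_neg (Ne.symm ht2)]
    norm_num
  have hswap : ∀ x y : Ω, ∃ g : G, g • x = y ∧ g • y = x := by
    intro x y
    apply Cfsg.Agent.S0717.backward _ x y
    intro χ hχ h0
    rcases hcons χ hχ h0 with h | h | h
    · subst h
      exact ⟨htin, fun g => by simp⟩
    · subst h
      exact ⟨hin1, hreal _ hr1⟩
    · subst h
      exact ⟨hin2, hreal _ hr2⟩
  obtain ⟨hk2, hk3⟩ := subdegree_bounds hprim hm a₀ hrank b hb
  have hA := Cfsg.Agent.S0715.orbMat_smul (G := G) a₀ b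
  have hsymm : ∀ y w : Ω, Cfsg.Agent.S0715.orbMat G a₀ b y w =
      Cfsg.Agent.S0715.orbMat G a₀ b w y := by
    intro y w
    obtain ⟨s, hs1, hs2⟩ := hswap a₀ b
    have hiff : (∃ g : G, g • a₀ = y ∧ g • b = w) ↔ (∃ g : G, g • a₀ = w ∧ g • b = y) := by
      constructor
      · rintro ⟨g, e1, e2⟩
        exact ⟨g * s, by rw [mul_smul, hs1, e2], by rw [mul_smul, hs2, e1]⟩
      · rintro ⟨g, e1, e2⟩
        exact ⟨g * s, by rw [mul_smul, hs1, e2], by rw [mul_smul, hs2, e1]⟩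
    unfold Cfsg.Agent.S0715.orbMat
    by_cases h : ∃ g : G, g • a₀ = y ∧ g • b = w
    · rw [if_pos h, if_pos (hiff.mp h)]
    · rw [if_neg h, if_neg (fun h' => h (hiff.mpr h'))]
  have h01 : ∀ y w : Ω, Cfsg.Agent.S0715.orbMat G a₀ b y w *
      Cfsg.Agent.S0715.orbMat G a₀ b y w = Cfsg.Agent.S0715.orbMat G a₀ b y w := by
    intro y w
    unfold Cfsg.Agent.S0715.orbMat
    split_ifs <;> simp
  have hrowC := Cfsg.Agent.S0715.orbMat_row_sum (G := G) a₀ b
  have hrow : ∑ w, Cfsg.Agent.S0715.orbMat G a₀ b a₀ w =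
      ((Nat.card (orbit (stabilizer G a₀) b) : ℕ) : ℤ) := by
    exact_mod_cast hrowC
  obtain ⟨zu, hzu⟩ := tau_int a₀ _ hA (isCharacter_of_irr h₁) hr1
  obtain ⟨zv, hzv⟩ := tau_int a₀ _ hA (isCharacter_of_irr h₂) hr2
  have e1 := sum_three a₀ hm χ₁ χ₂ h₁ h₂ h12 ht1 ht2 hother hd₁ hd₂ _ hA
  have e2 := sum_three a₀ hm χ₁ χ₂ h₁ h₂ h12 ht1 ht2 hother hd₁ hd₂ _
    (mul_invariant _ _ hA hA)
  rw [tau_mul a₀ _ _ hA hA h₁ hin1, tau_mul a₀ _ _ hA hA h₂ hin2, hzu, hzv] at e2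
  rw [hzu, hzv, Cfsg.Agent.S0715.orbMat_self a₀ b hb, hrowC] at e1
  have hdiag : (Cfsg.Agent.S0715.orbMat G a₀ b * Cfsg.Agent.S0715.orbMat G a₀ b) a₀ a₀ =
      ((Nat.card (orbit (stabilizer G a₀) b) : ℕ) : ℤ) := by
    rw [Matrix.mul_apply, ← hrow]
    apply Finset.sum_congr rfl
    intro w _
    rw [hsymm w a₀, h01]
  have hrow2 : ∑ w, (Cfsg.Agent.S0715.orbMat G a₀ b * Cfsg.Agent.S0715.orbMat G a₀ b) a₀ w =
      ((Nat.card (orbit (stabilizer G a₀) b) : ℕ) : ℤ) *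
        ((Nat.card (orbit (stabilizer G a₀) b) : ℕ) : ℤ) := by
    rw [row_sum_mul a₀ _ _ hA, hrow]
  have hrow2C : ∑ w, ((Cfsg.Agent.S0715.orbMat G a₀ b * Cfsg.Agent.S0715.orbMat G a₀ b) a₀ w : ℂ)
      = (Nat.card (orbit (stabilizer G a₀) b) : ℂ) * (Nat.card (orbit (stabilizer G a₀) b) : ℂ) := by
    exact_mod_cast hrow2
  rw [hdiag, hrow2C] at e2
  apply arith m _ zu zv hm2 hk2 hk3
  · have : ((Nat.card (orbit (stabilizer G a₀) b) : ℤ) : ℂ) + (((m : ℤ) : ℂ) - 1) * zu +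
        ((m : ℤ) : ℂ) * zv = 0 := by
      push_cast
      linear_combination -e1
    exact_mod_cast this
  · have : ((Nat.card (orbit (stabilizer G a₀) b) : ℤ) : ℂ) ^ 2 + (((m : ℤ) : ℂ) - 1) * (zu : ℂ) ^ 2 +
        ((m : ℤ) : ℂ) * (zv : ℂ) ^ 2 = 2 * ((m : ℤ) : ℂ) *
          ((Nat.card (orbit (stabilizer G a₀) b) : ℤ) : ℂ) := by
      push_cast
      push_cast at e2
      linear_combination -e2
    exact_mod_cast this

theorem result {G : Type*} [Group G] [Fintype G] {Ω : Type*} [Fintype Ω] [MulAction G Ω] (hprim : MulAction.IsPreprimitive G Ω) {m : ℕ} (hm : Fintype.card Ω = 2 * m) (a₀ : Ω) (hrank : Nat.card (MulAction.orbitRel.Quotient (MulAction.stabilizer G a₀) Ω) = 3) (χ₁ χ₂ : G → ℂ) (h₁ : Cfsg.IsIrrCharacter G χ₁) (h₂ : Cfsg.IsIrrCharacter G χ₂) (hπ : (fun g : G => (Nat.card (MulAction.fixedBy Ω g) : ℂ)) = fun g => 1 + χ₁ g + χ₂ g) (hd₁ : χ₁ 1 = (m : ℂ) - 1) (hd₂ : χ₂ 1 = m) : ∃ a : ℕ, 0 < a ∧ m = 2 * a ^ 2 + 2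 * a + 1 ∧ ∀ b : Ω, b ≠ a₀ → Nat.card (MulAction.orbit (MulAction.stabilizer G a₀) b) = a * (2 * a + 1) ∨ Nat.card (MulAction.orbit (MulAction.stabilizer G a₀) b) = (a + 1) * (2 * a + 1) := by
  classical
  haveI : IsPretransitive G Ω := hprim.toIsPretransitive
  have hm2 : 2 ≤ m := by
    have := Nat.card_le_card_of_surjective
      (Quotient.mk'' : Ω → orbitRel.Quotient (stabilizer G a₀) Ω) Quotient.mk''_surjective
    rw [hrank, Nat.card_eq_fintype_card, hm] at this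
    omega
  obtain ⟨b₀, hb₀⟩ : ∃ b₀ : Ω, b₀ ≠ a₀ := by
    apply Fintype.exists_ne_of_one_lt_card
    rw [hm]
    omega
  obtain ⟨a, ha0, ham, -⟩ := key hprim hm a₀ hrank χ₁ χ₂ h₁ h₂ hπ hd₁ hd₂ b₀ hb₀
  refine ⟨a, ha0, ham, ?_⟩
  intro b hb
  obtain ⟨a', ha'0, ha'm, hk⟩ := key hprim hm a₀ hrank χ₁ χ₂ h₁ h₂ hπ hd₁ hd₂ b hb
  have : a' = a := by
    rw [ham] at ha'm
    by_contra hne
    rcases Nat.lt_or_gt_of_ne hne with h | h <;> nlinarith
  subst this
  exact hk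

end Main

end Cfsg.Agent.S0719
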