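import Cfsg.Statements.S0722
import Mathlib

set_option autoImplicit false
open Cfsg

namespace Cfsg.Agent.S0722

open scoped Pointwise

/-- In a primitive group `H`, with `N` a minimal normal subgroup and `K` a point stabiliser, `K ⊓ N` is maximal among proper `K`-invariant subgroups of `N`. -/
theorem result {α : Type*} [Finite α] (H : Subgroup (Equiv.Perm α)) [MulAction.IsPreprimitive H α] (N : Subgroup H) [N.Normal] (hN : N ≠ ⊥) (hmin : ∀ M : Subgroup H, M.Normal → M ≤ N → M = ⊥ ∨ M = N) (a : α) (X : Subgroup H) (hX : X ≤ N) (hKX : MulAction.stabilizer H a ⊓ N ≤ X) (hinv : MulAction.stabilizer H a ≤ Subgroup.normalizer (X : Set H)) : X = MulAction.stabilizer H a ⊓ N ∨ X = N := by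
  rcases subsingleton_or_nontrivial α with hα | hα
  · right
    have : Subsingleton H := by
      constructor
      intro x y
      apply Subtype.ext
      exact Subsingleton.elim _ _
    exact Subsingleton.elim _ _
  · have hco := MulAction.IsPreprimitive.isCoatom_stabilizer_of_isPreprimitive (G := H) a
    have hle : MulAction.stabilizer H a ≤ MulAction.stabilizer H a ⊔ X := le_sup_left
    rcases eq_or_lt_of_le hle with h1 | h1
    · left
      apply le_antisymm _ hKX
      apply le_inf _ hX
      rw [h1]
      exact le_sup_right
    · right
      have htop := hco.2 _ h1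
      apply le_antisymm hX
      intro n hn
      have hmem : n ∈ ((MulAction.stabilizer H a ⊔ X : Subgroup H) : Set H) := by
        rw [htop]; trivial
      rw [Subgroup.coe_mul_of_left_le_normalizer_right _ _ hinv] at hmem
      obtain ⟨k, hk, x, hx, rfl⟩ := hmem
      have hkN : k ∈ N := by
        have : k = (k * x) * x⁻¹ := by group
        rw [this]
        exact N.mul_mem hn (N.inv_mem (hX hx))
      exact X.mul_mem (hKX ⟨hk, hkN⟩) hx

end Cfsg.Agent.S0722
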