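import Cfsg.Statements.S0724
import Mathlib

set_option autoImplicit false
open Cfsg

namespace Cfsg.Agent.S0724

open MulAction

/-- fixed points of `g` on tuples are tuples of fixed points -/
def fixEquiv {G : Type*} [Group G] {α : Type*} [MulAction G α] (k : ℕ) (g : G) :
    fixedBy (Fin k → α) g ≃ (Fin k → fixedBy α g) where
  toFun f i := ⟨f.1 i, congrFun f.2 i⟩
  invFun f := ⟨fun i => (f i).1, funext fun i => (f i).2⟩
  left_inv _ := rfl
  right_inv _ := rfl

theorem burnside_pow {G : Type*} [Group G] [Fintype G] {α : Type*} [Fintype α]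
    [MulAction G α] (k : ℕ) :
    ((Nat.card G : ℕ) : ℤ) ∣ ∑ g : G, ((Nat.card (fixedBy α g) : ℕ) : ℤ) ^ k := by
  classical
  have h := sum_card_fixedBy_eq_card_orbits_mul_card_group G (Fin k → α)
  have hcard : ∀ g : G, Fintype.card (fixedBy (Fin k → α) g) = (Nat.card (fixedBy α g)) ^ k := by
    intro g
    rw [← Nat.card_eq_fintype_card, Nat.card_congr (fixEquiv k g), Nat.card_fun, Nat.card_fin]
  simp_rw [hcard] at h
  have h2 : (∑ g : G, ((Nat.card (fixedBy α g) : ℕ) : ℤ) ^ k) =
      ((∑ g : G, (Nat.card (fixedBy α g)) ^ k : ℕ) : ℤ) := by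
    push_cast
    rfl
  rw [h2, h, Nat.card_eq_fintype_card]
  push_cast
  exact Dvd.intro_left _ rfl

theorem burnside_poly {G : Type*} [Group G] [Fintype G] {α : Type*} [Fintype α]
    [MulAction G α] (p : Polynomial ℤ) :
    ((Nat.card G : ℕ) : ℤ) ∣ ∑ g : G, p.eval ((Nat.card (fixedBy α g) : ℕ) : ℤ) := by
  simp_rw [Polynomial.eval_eq_sum_range]
  rw [Finset.sum_comm]
  apply Finset.dvd_sum
  intro i _
  rw [← Finset.mul_sum]
  exact Dvd.dvd.mul_left (burnside_pow i) _

/-- Blichfeldt's Theorem: if a finite set `L` of natural numbers contains the number of fixed points of every non-identity element of a permutation group `G` of degree `n`, then the order of `G` divides `∏ (n - l)` over `l ∈ L`. -/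
theorem result {α : Type*} [Fintype α] [DecidableEq α] (G : Subgroup (Equiv.Perm α)) (L : Finset ℕ) (hL : ∀ g ∈ G, g ≠ 1 → Nat.card (MulAction.fixedBy α g) ∈ L) : Nat.card G ∣ ∏ l ∈ L, (Fintype.card α - l) := by
  classical
  by_cases hbig : ∃ l ∈ L, Fintype.card α ≤ l
  · obtain ⟨l, hl, hle⟩ := hbig
    rw [Finset.prod_eq_zero hl (Nat.sub_eq_zero_of_le hle)]
    exact dvd_zero _
  · push Not at hbig
    have key := burnside_poly (G := G) (α := α) (∏ l ∈ L, (Polynomial.X - Polynomial.C (l : ℤ)))
    have hsum : ∑ g : G, (∏ l ∈ L, (Polynomial.X - Polynomial.C (l : ℤ))).eval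
        ((Nat.card (fixedBy α g) : ℕ) : ℤ) = ((∏ l ∈ L, (Fintype.card α - l) : ℕ) : ℤ) := by
      rw [Finset.sum_eq_single (1 : G)]
      · rw [Polynomial.eval_prod]
        push_cast
        apply Finset.prod_congr rfl
        intro l hl
        rw [Nat.cast_sub (hbig l hl).le]
        simp only [Polynomial.eval_sub, Polynomial.eval_X, Polynomial.eval_C]
        congr 1
        rw [fixedBy_one_eq_univ, Nat.card_coe_set_eq, Set.ncard_univ, Nat.card_eq_fintype_card]
      · intro g _ hg
        rw [Polynomial.eval_prod]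
        have hg' : (g : Equiv.Perm α) ≠ 1 := fun h => hg (Subtype.ext h)
        have hmem := hL g g.2 hg'
        apply Finset.prod_eq_zero hmem
        simp only [Polynomial.eval_sub, Polynomial.eval_X, Polynomial.eval_C]
        exact sub_self _
      · intro h; exact absurd (Finset.mem_univ _) h
    rw [hsum] at key
    exact Int.natCast_dvd_natCast.mp key

end Cfsg.Agent.S0724
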