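import Cfsg.Statements.S0727
import Cfsg.Agent.Lib.Helper28.Sharp3Conv

set_option autoImplicit false
open Cfsg

namespace Cfsg.Agent.S0727

open Cfsg.Agent.Lib.Helper28

/-- A sharply triply transitive permutation group of degree `2^f + 1` is isomorphic to the projective general linear group of degree 2 over the field with `2^f` elements. -/
theorem result {α : Type*} [Fintype α] [DecidableEq α] {f : ℕ} (hf : 1 ≤ f) (hα : Fintype.card α = 2 ^ f + 1) (G : Subgroup (Equiv.Perm α)) (h3 : MulAction.IsMultiplyPretransitive G α 3) (hsharp : ∀ x : Fin 3 ↪ α, MulAction.stabilizer G x = ⊥) : ∃ (F : Type) (_ : Field F) (_ : Fintype F), Fintype.card F = 2 ^ f ∧ Nonempty (G ≃* Matrix.ProjGenLinGroup (Fin 2) F) := by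
  have hS : Sharp3 G α := by
    apply sharp3_of_pretransitive h3
    intro g a b c hab hac hbc ha hb hc
    have hmem : g ∈ MulAction.stabilizer G (emb3 a b c hab hac hbc) := by
      rw [MulAction.mem_stabilizer_iff]
      exact (smul_emb3_eq_iff g a b c a b c hab hac hbc hab hac hbc).2 ⟨ha, hb, hc⟩
    rw [hsharp] at hmem
    exact Subgroup.mem_bot.1 hmem
  have hcard : Nat.card α = 2 ^ f + 1 := by rw [Nat.card_eq_fintype_card, hα]
  have hpow : 2 ≤ 2 ^ f := by
    calc 2 = 2 ^ 1 := (pow_one 2).symm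
      _ ≤ 2 ^ f := Nat.pow_le_pow_right (by norm_num) hf
  have hodd : Odd (Nat.card α) := by
    rw [hcard]
    obtain ⟨m, rfl⟩ : ∃ m, f = m + 1 := ⟨f - 1, by omega⟩
    exact ⟨2 ^ m, by ring⟩
  have h3' : 3 ≤ Nat.card α := by rw [hcard]; omega
  obtain ⟨k, hk0, hk, ⟨E⟩⟩ := hS.main hodd h3'
  have hkf : k = f := by
    rw [hcard] at hk
    have : 2 ^ f = 2 ^ k := by omega
    exact (Nat.pow_right_injective (le_refl 2) this).symm
  subst hkf
  let _ : Fintype (GaloisField 2 k) := Fintype.ofFinite _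
  refine ⟨GaloisField 2 k, inferInstance, inferInstance, ?_, ⟨E⟩⟩
  rw [← Nat.card_eq_fintype_card, GaloisField.card 2 k hk0]

end Cfsg.Agent.S0727
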