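import Cfsg.Statements.S0728

set_option autoImplicit false
open Cfsg

namespace Cfsg.Agent.S0728

open MulAction Subgroup

variable {α : Type*} [Fintype α] [DecidableEq α]

/-- The embedding `Fin 3 ↪ α` given by three distinct points. -/
def emb3 (x y z : α) (hxy : x ≠ y) (hxz : x ≠ z) (hyz : y ≠ z) : Fin 3 ↪ α :=
  ⟨![x, y, z], by
    intro i j hij
    fin_cases i <;> fin_cases j <;> simp_all⟩

theorem sharp3 (G : Subgroup (Equiv.Perm α))
    (hsharp : ∀ x : Fin 3 ↪ α, MulAction.stabilizer G x = ⊥) (g : G) (x y z : α)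
    (hxy : x ≠ y) (hxz : x ≠ z) (hyz : y ≠ z) (hx : g • x = x) (hy : g • y = y)
    (hz : g • z = z) : g = 1 := by
  have : g ∈ stabilizer G (emb3 x y z hxy hxz hyz) := by
    rw [mem_stabilizer_iff]
    ext i
    fin_cases i
    · exact hx
    · exact hy
    · exact hz
  rw [hsharp] at this
  exact this

theorem trans3 (G : Subgroup (Equiv.Perm α))
    (h3 : MulAction.IsMultiplyPretransitive G α 3) (x y z x' y' z' : α)
    (hxy : x ≠ y) (hxz : x ≠ z) (hyz : y ≠ z) (hxy' : x' ≠ y') (hxz' : x' ≠ z')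
    (hyz' : y' ≠ z') : ∃ g : G, g • x = x' ∧ g • y = y' ∧ g • z = z' := by
  obtain ⟨g, hg⟩ := h3.exists_smul_eq (emb3 x y z hxy hxz hyz) (emb3 x' y' z' hxy' hxz' hyz')
  refine ⟨g, ?_, ?_, ?_⟩
  · exact DFunLike.congr_fun hg 0
  · exact DFunLike.congr_fun hg 1
  · exact DFunLike.congr_fun hg 2

/-- Key lemma. -/
theorem key (G : Subgroup (Equiv.Perm α))
    (h3 : MulAction.IsMultiplyPretransitive G α 3)
    (hsharp : ∀ x : Fin 3 ↪ α, MulAction.stabilizer G x = ⊥) {a b c : α} (hab : a ≠ b)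
    (hca : c ≠ a) (hcb : c ≠ b) (u v : G) (hua : u • a = a) (hub : u • b = b)
    (hva : v • a = a) (hvb : v • b = b) (hu1 : u ≠ 1) (hv1 : v ≠ 1) (hu3 : u ^ 3 = 1)
    (hv3 : v ^ 3 = 1) :
    v = u ∨ ∃ w : G, w • a = b ∧ w • b = a ∧ w • c = c ∧ v = w * u * w⁻¹ := by
  -- nonidentity elements fixing a, b move every other point
  have hmove : ∀ t : G, t • a = a → t • b = b → t ≠ 1 → ∀ x, t • x = x → x = a ∨ x = b := by
    intro t hta htb ht1 x hx
    by_contra hcon
    push Not at hcon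
    exact ht1 (sharp3 G hsharp t a b x hab (Ne.symm hcon.1) (Ne.symm hcon.2) hta htb hx)
  have hsq : ∀ t : G, t ≠ 1 → t ^ 3 = 1 → t ^ 2 ≠ 1 := by
    intro t ht1 ht3 ht2
    apply ht1
    have : t ^ 3 = t ^ 2 * t := pow_succ t 2
    rw [ht3, ht2, one_mul] at this
    exact this.symm
  have hdist : ∀ t : G, t • a = a → t • b = b → t ≠ 1 → t ^ 3 = 1 →
      c ≠ t • c ∧ c ≠ t • t • c ∧ t • c ≠ t • t • c := by
    intro t hta htb ht1 ht3
    have h1 : t • c ≠ c := by
      intro h
      rcases hmove t hta htb ht1 c h with h | h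
      · exact hca h
      · exact hcb h
    have h2 : (t ^ 2) • c ≠ c := by
      intro h
      have hta2 : (t ^ 2) • a = a := by rw [pow_two, mul_smul, hta, hta]
      have htb2 : (t ^ 2) • b = b := by rw [pow_two, mul_smul, htb, htb]
      rcases hmove (t ^ 2) hta2 htb2 (hsq t ht1 ht3) c h with h | h
      · exact hca h
      · exact hcb h
    refine ⟨fun h => h1 h.symm, ?_, ?_⟩
    · intro h
      apply h2
      rw [pow_two, mul_smul]
      exact h.symm
    · intro h
      apply h1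
      exact (smul_left_cancel t h).symm
  obtain ⟨hu_1, hu_2, hu_3⟩ := hdist u hua hub hu1 hu3
  obtain ⟨hv_1, hv_2, hv_3⟩ := hdist v hva hvb hv1 hv3
  obtain ⟨w, hwc, hwuc, hwuuc⟩ := trans3 G h3 c (u • c) (u • u • c) c (v • c) (v • v • c)
    hu_1 hu_2 hu_3 hv_1 hv_2 hv_3
  have hwinvc : w⁻¹ • c = c := by rw [inv_smul_eq_iff, hwc]
  have hwinv1 : w⁻¹ • v • c = u • c := by rw [inv_smul_eq_iff, hwuc]
  have hwinv2 : w⁻¹ • v • v • c = u • u • c := by rw [inv_smul_eq_iff, hwuuc]
  have hu3c : u • u • u • c = c := by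
    rw [← mul_smul, ← mul_smul, ← pow_two, ← pow_succ, hu3, one_smul]
  have hv3c : v • v • v • c = c := by
    rw [← mul_smul, ← mul_smul, ← pow_two, ← pow_succ, hv3, one_smul]
  have hveq : v = w * u * w⁻¹ := by
    have ht : v⁻¹ * (w * u * w⁻¹) = 1 := by
      apply sharp3 G hsharp _ c (v • c) (v • v • c) hv_1 hv_2 hv_3
      · rw [mul_smul, mul_smul, mul_smul, hwinvc, hwuc, inv_smul_smul]
      · rw [mul_smul, mul_smul, mul_smul, hwinv1, hwuuc, inv_smul_smul]
      · rw [mul_smul, mul_smul, mul_smul, hwinv2, hu3c, hwc, inv_smul_eq_iff, hv3c]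
    exact (inv_mul_eq_one.mp ht)
  -- w maps {a,b} to {a,b}
  have hwa_fix : v • (w • a) = w • a := by
    rw [hveq, mul_smul, mul_smul, inv_smul_smul, hua]
  have hwb_fix : v • (w • b) = w • b := by
    rw [hveq, mul_smul, mul_smul, inv_smul_smul, hub]
  have hwab : w • a ≠ w • b := fun h => hab (smul_left_cancel w h)
  rcases hmove v hva hvb hv1 _ hwa_fix with hwa | hwa
  · -- w a = a, so w b = b and w = 1
    have hwb : w • b = b := by
      rcases hmove v hva hvb hv1 _ hwb_fix with hwb | hwb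
      · exact absurd (hwa.trans hwb.symm) hwab
      · exact hwb
    left
    have hw1 : w = 1 := sharp3 G hsharp w a b c hab (Ne.symm hca) (Ne.symm hcb) hwa hwb hwc
    rw [hveq, hw1]; simp
  · have hwb : w • b = a := by
      rcases hmove v hva hvb hv1 _ hwb_fix with hwb | hwb
      · exact hwb
      · exact absurd (hwa.trans hwb.symm) hwab
    right
    exact ⟨w, hwa, hwb, hwc, hveq⟩

theorem result {α : Type*} [Fintype α] [DecidableEq α] (heven : Even (Fintype.card α)) (h6 : 6 ≤ Fintype.card α) (G : Subgroup (Equiv.Perm α)) (h3 : MulAction.IsMultiplyPretransitive G α 3) (hsharp : ∀ x : Fin 3 ↪ α, MulAction.stabilizer G x = ⊥) {a b : α} (hab : a ≠ b) (A B : Subgroup G) (hA : A ≤ MulAction.stabilizer G a ⊓ MulAction.stabilizer G b) (hB : B ≤ MulAction.stabilizer G a ⊓ MulAction.stabilizer G b) (hA3 : Nat.card A = 3) (hB3 : Nat.card B = 3) : A = B := by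
  obtain ⟨c, hc⟩ : ∃ c, c ∉ ({a, b} : Finset α) := by
    by_contra h
    push Not at h
    have h1 : Fintype.card α ≤ ({a, b} : Finset α).card := by
      rw [← Finset.card_univ]; exact Finset.card_le_card (fun x _ => h x)
    have h2 : ({a, b} : Finset α).card ≤ 2 := Finset.card_le_two
    omega
  have hca : c ≠ a := fun h => hc (by rw [h]; simp)
  have hcb : c ≠ b := fun h => hc (by rw [h]; simp)
  have hAne : A ≠ ⊥ := by
    intro h
    rw [h, Subgroup.card_bot] at hA3
    omega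
  obtain ⟨⟨u, huA⟩, hu1'⟩ := (Subgroup.ne_bot_iff_exists_ne_one.mp hAne)
  have hu1 : u ≠ 1 := fun h => hu1' (Subtype.ext h)
  have hmem : ∀ t : G, t ∈ MulAction.stabilizer G a ⊓ MulAction.stabilizer G b →
      t • a = a ∧ t • b = b := fun t ht => ⟨ht.1, ht.2⟩
  have hcube : ∀ (C : Subgroup G), Nat.card C = 3 → ∀ t ∈ C, t ^ 3 = 1 := by
    intro C hC t ht
    have h := pow_card_eq_one' (G := C) (x := ⟨t, ht⟩)
    rw [hC] at h
    exact congrArg Subtype.val h
  have hu3 := hcube A hA3 u huA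
  obtain ⟨hua, hub⟩ := hmem u (hA huA)
  -- u² is also such an element
  have hu2A : u ^ 2 ∈ A := pow_mem huA 2
  have hu21 : u ^ 2 ≠ 1 := by
    intro h2
    apply hu1
    have : u ^ 3 = u ^ 2 * u := pow_succ u 2
    rw [hu3, h2, one_mul] at this
    exact this.symm
  obtain ⟨hu2a, hu2b⟩ := hmem (u ^ 2) (hA hu2A)
  have hu23 := hcube A hA3 (u ^ 2) hu2A
  rcases key G h3 hsharp hab hca hcb u (u ^ 2) hua hub hu2a hu2b hu1 hu21 hu3 hu23 with h | h
  · exfalso
    apply hu1
    rw [pow_two] at h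
    exact (mul_eq_left.mp h)
  obtain ⟨w, hwa, hwb, hwc, hw⟩ := h
  have hBA : B ≤ A := by
    intro v hvB
    by_cases hv1 : v = 1
    · rw [hv1]; exact one_mem A
    obtain ⟨hva, hvb⟩ := hmem v (hB hvB)
    have hv3 := hcube B hB3 v hvB
    rcases key G h3 hsharp hab hca hcb u v hua hub hva hvb hu1 hv1 hu3 hv3 with h | h
    · rw [h]; exact huA
    · obtain ⟨w', hwa', hwb', hwc', hw'⟩ := h
      have : w' = w := by
        have h1 : w⁻¹ * w' = 1 := by
          apply sharp3 G hsharp _ a b c hab (Ne.symm hca) (Ne.symm hcb)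
          · rw [mul_smul, hwa', inv_smul_eq_iff, hwa]
          · rw [mul_smul, hwb', inv_smul_eq_iff, hwb]
          · rw [mul_smul, hwc', inv_smul_eq_iff, hwc]
        exact (inv_mul_eq_one.mp h1).symm
      rw [hw', this, ← hw]
      exact hu2A
  have hfinA : Finite A := Nat.finite_of_card_ne_zero (by rw [hA3]; norm_num)
  exact (Subgroup.eq_of_le_of_card_ge hBA (by rw [hA3, hB3])).symm

end Cfsg.Agent.S0728
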