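import Cfsg.Statements.S0729
-- import your own Cfsg.Agent.* helpers here
import Cfsg.Agent.Lib.Helper28.S3Conv
import Cfsg.Agent.Lib.Helper28.S3Main

set_option autoImplicit false
open Cfsg

namespace Cfsg.Agent.S0729

open Cfsg.Agent.Lib.Helper28

/-- In a sharply triply transitive group of even degree at least 6, the two-point stabiliser `H = G_{a,b}` has a normal subgroup of index 2 that is normalised by the element `s` interchanging `a, b` and fixing a third point `c`. -/
theorem result {α : Type*} [Fintype α] [DecidableEq α] (heven : Even (Fintype.card α)) (h6 : 6 ≤ Fintype.card α) (G : Subgroup (Equiv.Perm α)) (h3 : MulAction.IsMultiplyPretransitive G α 3) (hsharp : ∀ x : Fin 3 ↪ α, MulAction.stabilizer G x = ⊥) {a b c : α} (hab : a ≠ b) (hac : a ≠ c) (hbc : b ≠ c) (s : G) (hsa : s • a = b) (hsb : s • b = a) (hsc : s • c = c) : ∃ N : Subgroup G, N ≤ MulAction.stabilizer G a ⊓ MulAction.stabilizer G b ∧ (N.subgroupOf (MulAction.stabilizer G a ⊓ MulAction.stabilizer G b)).Normal ∧ N.relIndex (MulAction.stabilizer G a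 ⊓ MulAction.stabilizer G b) = 2 ∧ ∀ n ∈ N, s * n * s⁻¹ ∈ N := by
  have hS : Sharp3 G α := by
    apply sharp3_of_pretransitive h3
    intro g a b c hab hac hbc ha hb hc
    have hmem : g ∈ MulAction.stabilizer G (emb3 a b c hab hac hbc) := by
      rw [MulAction.mem_stabilizer_iff]
      exact (smul_emb3_eq_iff g a b c a b c hab hac hbc hab hac hbc).2 ⟨ha, hb, hc⟩
    rw [hsharp] at hmem
    exact Subgroup.mem_bot.1 hmem
  have h6' : 6 ≤ Nat.card α := by rw [Nat.card_eq_fintype_card]; exact h6
  have hev' : Even (Nat.card α) := by rw [Nat.card_eq_fintype_card]; exact heven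
  have hsetup : S3Setup G α a b c s :=
    hS.s3setup (by omega) hab (Ne.symm hac) (Ne.symm hbc) hsa hsb hsc
  exact (hsetup.exists_index_two hev' h6').2

end Cfsg.Agent.S0729
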