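import Cfsg.Statements.S0730
-- import your own Cfsg.Agent.* helpers here
import Cfsg.Agent.Lib.Helper28.S3Conv
import Cfsg.Agent.Lib.Helper28.S3Odd4

set_option autoImplicit false
open Cfsg

namespace Cfsg.Agent.S0730

open Cfsg.Agent.Lib.Helper28

/-- A sharply triply transitive group of degree `p^f + 1`, `p` an odd prime and `f` odd, is isomorphic to the projective general linear group of degree 2 over the field with `p^f` elements (for even `f` there is a second, twisted, group). -/
theorem result {α : Type*} [Fintype α] [DecidableEq α] {p f : ℕ} (hp : p.Prime) (hp2 : p ≠ 2) (hfo : Odd f) (hα : Fintype.card α = p ^ f + 1) (G : Subgroup (Equiv.Perm α)) (h3 : MulAction.IsMultiplyPretransitive G α 3) (hsharp : ∀ x : Fin 3 ↪ α, MulAction.stabilizer G x = ⊥) : ∃ (F : Type) (_ : Field F) (_ : Fintype F), Fintype.card F = p ^ f ∧ Nonempty (G ≃* Matrix.ProjGenLinGroup (Fin 2) F) := by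
  classical
  have hS : Sharp3 G α := by
    apply sharp3_of_pretransitive h3
    intro g a b c hab hac hbc ha hb hc
    have hmem : g ∈ MulAction.stabilizer G (emb3 a b c hab hac hbc) := by
      rw [MulAction.mem_stabilizer_iff]
      exact (smul_emb3_eq_iff g a b c a b c hab hac hbc hab hac hbc).2 ⟨ha, hb, hc⟩
    rw [hsharp] at hmem
    exact Subgroup.mem_bot.1 hmem
  have hf1 : 1 ≤ f := by
    rcases hfo with ⟨k, rfl⟩
    omega
  have hp3 : 3 ≤ p := by
    have := hp.two_le
    omega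
  have hpow : 3 ≤ p ^ f := by
    calc 3 ≤ p := hp3
      _ = p ^ 1 := (pow_one p).symm
      _ ≤ p ^ f := Nat.pow_le_pow_right (by omega) hf1
  have hpodd : Odd (p ^ f) := (hp.odd_of_ne_two hp2).pow
  have hev : Even (Fintype.card α) := by
    rw [hα]
    exact hpodd.add_one
  have h4 : 4 ≤ Nat.card α := by
    rw [Nat.card_eq_fintype_card, hα]
    omega
  obtain ⟨a, b, c, hab, hac, hbc⟩ : ∃ a b c : α, a ≠ b ∧ a ≠ c ∧ b ≠ c := by
    have : 2 < Set.ncard (Set.univ : Set α) := by
      rw [Set.ncard_univ]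
      omega
    obtain ⟨a, b, c, -, -, -, hab, hac, hbc⟩ := (Set.two_lt_ncard_iff (Set.toFinite _)).1 this
    exact ⟨a, b, c, hab, hac, hbc⟩
  obtain ⟨s, hsa, hsb, hsc⟩ := hS.trans a b c b a c hab hac hbc (Ne.symm hab) hbc hac
  have hsetup : S3Setup G α a b c s :=
    hS.s3setup h4 hab (Ne.symm hac) (Ne.symm hbc) hsa hsb hsc
  obtain ⟨F, hF⟩ := hsetup.pre.exists_isKer a
  have hboth : (∀ x ∈ MulAction.stabilizer G a ⊓ MulAction.stabilizer G b,
      ∀ y ∈ MulAction.stabilizer G a ⊓ MulAction.stabilizer G b, x * y = y * x) ∧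
      ∀ d ∈ MulAction.stabilizer G a ⊓ MulAction.stabilizer G b, s * d * s⁻¹ = d⁻¹ := by
    by_cases h6 : 6 ≤ Fintype.card α
    · exact hsetup.H_comm_and_inverts hF hp hp2 hfo hα h6
    · apply hsetup.H_comm_and_inverts_four hF
      rw [Nat.card_eq_fintype_card] at h4
      rcases hev with ⟨k, hk⟩
      omega
  obtain ⟨p', n', hp', hcard, ⟨E⟩⟩ := hsetup.nonempty_pgl hF hS hev hboth.1 hboth.2
  let _ : Fintype (GaloisField p' n') := Fintype.ofFinite _
  refine ⟨GaloisField p' n', inferInstance, inferInstance, ?_, ⟨E⟩⟩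
  rw [← Nat.card_eq_fintype_card]
  omega

end Cfsg.Agent.S0730
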