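import Cfsg.Statements.S0733
import Mathlib

set_option autoImplicit false
open Cfsg

namespace Cfsg.Agent.S0733

open MulAction
open scoped Pointwise

variable {p : ℕ} [Fact p.Prime] {V : Type*} [AddCommGroup V] [Module (ZMod p) V]

/-- translation by `b` as a permutation -/
def trans (b : V) : Equiv.Perm V := Equiv.addRight b

theorem trans_mem (G₀ : Subgroup (V ≃ₗ[ZMod p] V)) (G : Subgroup (Equiv.Perm V))
    (hG : ∀ σ : Equiv.Perm V, σ ∈ G ↔ ∃ g ∈ G₀, ∃ b : V, ∀ x : V,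
      σ x = (g : V ≃ₗ[ZMod p] V) x + b) (b : V) : trans b ∈ G := by
  rw [hG]
  exact ⟨1, G₀.one_mem, b, fun x => rfl⟩

theorem lin_mem (G₀ : Subgroup (V ≃ₗ[ZMod p] V)) (G : Subgroup (Equiv.Perm V))
    (hG : ∀ σ : Equiv.Perm V, σ ∈ G ↔ ∃ g ∈ G₀, ∃ b : V, ∀ x : V,
      σ x = (g : V ≃ₗ[ZMod p] V) x + b) (g : V ≃ₗ[ZMod p] V) (hg : g ∈ G₀) :
    g.toEquiv ∈ G := by
  rw [hG]
  exact ⟨g, hg, 0, fun x => by simp⟩

theorem forward (G₀ : Subgroup (V ≃ₗ[ZMod p] V)) (G : Subgroup (Equiv.Perm V))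
    (hG : ∀ σ : Equiv.Perm V, σ ∈ G ↔ ∃ g ∈ G₀, ∃ b : V, ∀ x : V,
      σ x = (g : V ≃ₗ[ZMod p] V) x + b) (hprim : IsPreprimitive G V)
    (W : Submodule (ZMod p) V)
    (hW : ∀ g ∈ G₀, ∀ v ∈ W, (g : V ≃ₗ[ZMod p] V) v ∈ W) : W = ⊥ ∨ W = ⊤ := by
  have himg : ∀ σ : G, ∃ b : V, σ • (W : Set V) = {x | x - b ∈ W} := by
    intro σ
    obtain ⟨g, hg, b, hσ⟩ := (hG σ).mp σ.2
    refine ⟨b, ?_⟩
    ext x
    simp only [Set.mem_smul_set, Set.mem_ofPred_eq, SetLike.mem_coe]
    constructor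
    · rintro ⟨w, hw, rfl⟩
      have : σ • w = g w + b := hσ w
      rw [this, add_sub_cancel_right]
      exact hW g hg w hw
    · intro hx
      refine ⟨g.symm (x - b), ?_, ?_⟩
      · have := hW g⁻¹ (G₀.inv_mem hg) (x - b) hx
        exact this
      · have : σ • (g.symm (x - b)) = g (g.symm (x - b)) + b := hσ _
        rw [this, LinearEquiv.apply_symm_apply, sub_add_cancel]
  have hB : IsBlock G (W : Set V) := by
    rw [isBlock_iff_smul_eq_smul_of_nonempty]
    intro σ τ hne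
    obtain ⟨b, hb⟩ := himg σ
    obtain ⟨c, hc⟩ := himg τ
    rw [hb, hc] at hne ⊢
    obtain ⟨x, hx1, hx2⟩ := hne
    simp only [Set.mem_ofPred_eq] at hx1 hx2
    ext y
    simp only [Set.mem_ofPred_eq]
    have hbc : c - b ∈ W := by
      have := W.sub_mem hx1 hx2
      simpa using this
    constructor
    · intro hy
      have := W.sub_mem hy hbc
      simpa using this
    · intro hy
      have := W.add_mem hy hbc
      simpa using this
  rcases hprim.isTrivialBlock_of_isBlock hB with h | h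
  · left
    rw [Submodule.eq_bot_iff]
    intro x hx
    exact h hx W.zero_mem
  · right
    rw [Submodule.eq_top_iff']
    intro x
    have : x ∈ (W : Set V) := by rw [h]; trivial
    exact this

theorem backward [Finite V] [Nontrivial V] (G₀ : Subgroup (V ≃ₗ[ZMod p] V))
    (G : Subgroup (Equiv.Perm V))
    (hG : ∀ σ : Equiv.Perm V, σ ∈ G ↔ ∃ g ∈ G₀, ∃ b : V, ∀ x : V,
      σ x = (g : V ≃ₗ[ZMod p] V) x + b)
    (hirr : ∀ W : Submodule (ZMod p) V, (∀ g ∈ G₀, ∀ v ∈ W, (g : V ≃ₗ[ZMod p] V) v ∈ W) →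
      W = ⊥ ∨ W = ⊤) : IsPreprimitive G V := by
  have hT : IsPretransitive G V := by
    refine ⟨fun a b => ⟨⟨trans (b - a), trans_mem G₀ G hG _⟩, ?_⟩⟩
    change a + (b - a) = b
    abel
  apply IsPreprimitive.of_isTrivialBlock_base (0 : V)
  intro B h0 hB
  rw [isBlock_iff_smul_eq_of_mem] at hB
  have htr : ∀ u ∈ B, ∀ v ∈ B, v + u ∈ B := by
    intro u hu v hv
    have h1 : (⟨trans u, trans_mem G₀ G hG u⟩ : G) • (0 : V) ∈ B := by
      change (0 : V) + u ∈ B
      rwa [zero_add]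
    have h2 := hB h0 h1
    rw [← h2]
    exact ⟨v, hv, rfl⟩
  have hnsmul : ∀ (n : ℕ), ∀ v ∈ B, n • v ∈ B := by
    intro n v hv
    induction n with
    | zero => rwa [zero_smul]
    | succ n ih => rw [succ_nsmul]; exact htr v hv _ ih
  let W : Submodule (ZMod p) V :=
    { carrier := B
      add_mem' := fun {a b} ha hb => htr b hb a ha
      zero_mem' := h0
      smul_mem' := by
        intro c v hv
        have : c • v = c.val • v := by
          rw [← Nat.cast_smul_eq_nsmul (ZMod p), ZMod.natCast_zmod_val]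
        rw [this]
        exact hnsmul _ v hv }
  have hWinv : ∀ g ∈ G₀, ∀ v ∈ W, (g : V ≃ₗ[ZMod p] V) v ∈ W := by
    intro g hg v hv
    have h1 : (⟨g.toEquiv, lin_mem G₀ G hG g hg⟩ : G) • (0 : V) ∈ B := by
      change g 0 ∈ B
      rwa [map_zero]
    have h2 := hB h0 h1
    change g v ∈ B
    rw [← h2]
    exact ⟨v, hv, rfl⟩
  rcases hirr W hWinv with h | h
  · left
    intro x hx y hy
    have hx' : x ∈ W := hx
    have hy' : y ∈ W := hy
    rw [h, Submodule.mem_bot] at hx' hy'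
    rw [hx', hy']
  · right
    rw [Set.eq_univ_iff_forall]
    intro x
    have : x ∈ W := by rw [h]; trivial
    exact this

/-- A permutation group of affine type — generated by the translations of a finite vector space `V` over `ZMod p` together with a group `G₀` of linear automorphisms — is primitive on `V` if and only if `G₀` is irreducible on `V`. -/
theorem result {p : ℕ} [Fact p.Prime] {V : Type*} [AddCommGroup V] [Module (ZMod p) V] [Finite V] [Nontrivial V] (G₀ : Subgroup (V ≃ₗ[ZMod p] V)) (G : Subgroup (Equiv.Perm V)) (hG : ∀ σ : Equiv.Perm V, σ ∈ G ↔ ∃ g ∈ G₀, ∃ b : V, ∀ x : V, σ x = (g : V ≃ₗ[ZMod p] V) x + b) : MulAction.IsPreprimitive G V ↔ ∀ W : Submodule (ZMod p) V, (∀ g ∈ G₀, ∀ v ∈ W, (g : V ≃ₗ[ZMod p] V) v ∈ W) → W = ⊥ ∨ W = ⊤ := by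
  constructor
  · intro h W hW
    exact forward G₀ G hG h W hW
  · intro h
    exact backward G₀ G hG h

end Cfsg.Agent.S0733
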