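import Cfsg.Statements.S0734
import Mathlib

set_option autoImplicit false
open Cfsg

namespace Cfsg.Agent.S0734

open MulAction
open scoped Pointwise

variable {G : Type*} [Group G] {Ω : Type*} [MulAction G Ω]

/-- the orbital graph -/
abbrev orb (G : Type*) [Group G] {Ω : Type*} [MulAction G Ω] (a b : Ω) : SimpleGraph Ω :=
  SimpleGraph.fromRel fun x y : Ω => ∃ g : G, g • a = x ∧ g • b = y

theorem adj_smul (a b : Ω) (h : G) {x y : Ω} (hxy : (orb G a b).Adj x y) :
    (orb G a b).Adj (h • x) (h • y) := by
  rw [SimpleGraph.fromRel_adj] at hxy ⊢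
  refine ⟨fun e => hxy.1 (smul_left_cancel h e), ?_⟩
  rcases hxy.2 with ⟨g, rfl, rfl⟩ | ⟨g, rfl, rfl⟩
  · exact Or.inl ⟨h * g, mul_smul _ _ _, mul_smul _ _ _⟩
  · exact Or.inr ⟨h * g, mul_smul _ _ _, mul_smul _ _ _⟩

theorem reach_smul (a b : Ω) (h : G) {x y : Ω} (hxy : (orb G a b).Reachable x y) :
    (orb G a b).Reachable (h • x) (h • y) := by
  let f : orb G a b →g orb G a b := ⟨fun x => h • x, fun hxy => adj_smul a b h hxy⟩
  exact hxy.map f

theorem forward [IsPreprimitive G Ω] (a b : Ω) (hab : a ≠ b) : (orb G a b).Connected := by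
  have hB : IsBlock G {x | (orb G a b).Reachable a x} := by
    rw [isBlock_iff_smul_eq_of_mem]
    intro g x hx hgx
    simp only [Set.mem_ofPred_eq] at hx hgx
    have h1 : (orb G a b).Reachable a (g • a) := hgx.trans (reach_smul a b g hx).symm
    ext z
    simp only [Set.mem_smul_set, Set.mem_ofPred_eq]
    constructor
    · rintro ⟨y, hy, rfl⟩
      exact h1.trans (reach_smul a b g hy)
    · intro hz
      refine ⟨g⁻¹ • z, ?_, smul_inv_smul g z⟩
      have h2 := reach_smul a b g⁻¹ h1
      rw [inv_smul_smul] at h2
      exact h2.symm.trans (reach_smul a b g⁻¹ hz)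
  have hadj : (orb G a b).Adj a b := by
    rw [SimpleGraph.fromRel_adj]
    exact ⟨hab, Or.inl ⟨1, one_smul _ _, one_smul _ _⟩⟩
  rcases hB.subsingleton_or_eq_univ with h | h
  · exfalso
    apply hab
    apply h
    · exact SimpleGraph.Reachable.refl a
    · exact hadj.reachable
  · have hall : ∀ x, (orb G a b).Reachable a x := by
      intro x
      have : x ∈ {x | (orb G a b).Reachable a x} := by rw [h]; trivial
      exact this
    have : Nonempty Ω := ⟨a⟩
    exact ⟨fun x y => (hall x).symm.trans (hall y)⟩

theorem backward [IsPretransitive G Ω]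
    (hconn : ∀ a b : Ω, a ≠ b → (orb G a b).Connected) : IsPreprimitive G Ω := by
  refine ⟨fun {B} hB => ?_⟩
  rcases B.subsingleton_or_nontrivial with h | h
  · exact Or.inl h
  · right
    obtain ⟨a, ha, b, hb, hab⟩ := h
    have hstep : ∀ x y, (orb G a b).Adj x y → x ∈ B → y ∈ B := by
      intro x y hxy hx
      rw [SimpleGraph.fromRel_adj] at hxy
      rw [isBlock_iff_smul_eq_of_mem] at hB
      rcases hxy.2 with ⟨g, rfl, rfl⟩ | ⟨g, rfl, rfl⟩
      · have := hB ha hx
        rw [← this]
        exact Set.smul_mem_smul_set hb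
      · have := hB hb hx
        rw [← this]
        exact Set.smul_mem_smul_set ha
    have hwalk : ∀ (u v : Ω) (p : (orb G a b).Walk u v), u ∈ B → v ∈ B := by
      intro u v p
      induction p with
      | nil => exact id
      | cons hadj _ ih => exact fun hu => ih (hstep _ _ hadj hu)
    rw [Set.eq_univ_iff_forall]
    intro x
    obtain ⟨p⟩ := (hconn a b hab).preconnected a x
    exact hwalk a x p ha

/-- Higman's criterion for primitivity: a transitive action on a finite set is primitive if and only if every non-trivial orbital graph (edges = images of a fixed pair of distinct points) is connected. -/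
theorem result {G : Type*} [Group G] {Ω : Type*} [Finite Ω] [MulAction G Ω] [MulAction.IsPretransitive G Ω] [Nontrivial Ω] : MulAction.IsPreprimitive G Ω ↔ ∀ a b : Ω, a ≠ b → (SimpleGraph.fromRel fun x y : Ω => ∃ g : G, g • a = x ∧ g • b = y).Connected := by
  constructor
  · intro h a b hab
    exact forward a b hab
  · intro h
    exact backward h

end Cfsg.Agent.S0734
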