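import Mathlib
import Cfsg.Statements.S0735

set_option autoImplicit false
open Cfsg

namespace Cfsg.Agent.S0735

open MulAction
open scoped Pointwise

section aux
variable {α : Type*} [Fintype α] [DecidableEq α] (G : Subgroup (Equiv.Perm α))

/-- a pair as a 2-combination -/
def pr (a b : α) (h : a ≠ b) : Set.powersetCard α 2 :=
  ⟨{a, b}, by rw [Set.powersetCard.mem_iff]; exact Finset.card_pair h⟩

lemma key (h2 : MulAction.IsPretransitive G (Set.powersetCard α 2)) {a b x y : α}
    (hab : a ≠ b) (hxy : x ≠ y) :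
    ∃ g : G, (g • a = x ∧ g • b = y) ∨ (g • a = y ∧ g • b = x) := by
  obtain ⟨g, hg⟩ := MulAction.exists_smul_eq G (pr a b hab) (pr x y hxy)
  have hg' : g • ({a, b} : Finset α) = {x, y} := by
    have h1 : ((g • pr a b hab : Set.powersetCard α 2) : Finset α) = ((pr x y hxy : Set.powersetCard α 2) : Finset α) := by
      rw [hg]
    have h3 := Set.powersetCard.coe_smul (g := g) (s := pr a b hab)
    exact h3.symm.trans h1
  have ha : g • a ∈ ({x, y} : Finset α) := by
    rw [← hg']; exact Finset.smul_mem_smul_finset (by simp)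
  have hb : g • b ∈ ({x, y} : Finset α) := by
    rw [← hg']; exact Finset.smul_mem_smul_finset (by simp)
  have hne : g • a ≠ g • b := fun h => hab (smul_left_cancel g h)
  simp only [Finset.mem_insert, Finset.mem_singleton] at ha hb
  refine ⟨g, ?_⟩
  rcases ha with ha | ha <;> rcases hb with hb | hb
  · exact absurd (ha.trans hb.symm) hne
  · exact Or.inl ⟨ha, hb⟩
  · exact Or.inr ⟨ha, hb⟩
  · exact absurd (ha.trans hb.symm) hne

end aux

/-- A permutation group transitive on unordered pairs (2-homogeneous) is doubly transitive if its order is even, and is primitive if it is non-trivial. -/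
theorem result {α : Type*} [Fintype α] [DecidableEq α] (G : Subgroup (Equiv.Perm α)) (h2 : MulAction.IsPretransitive G (Set.powersetCard α 2)) (hα : 3 ≤ Fintype.card α) : (Even (Nat.card G) → MulAction.IsMultiplyPretransitive G α 2) ∧ (G ≠ ⊥ → MulAction.IsPreprimitive G α) := by
  constructor
  · intro heven
    rw [MulAction.is_two_pretransitive_iff]
    intro x y c d hxy hcd
    -- an involution t in G
    have : Fact (Nat.Prime 2) := ⟨Nat.prime_two⟩
    obtain ⟨t, ht⟩ := exists_prime_orderOf_dvd_card' (G := G) 2 heven.two_dvd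
    have ht1 : t ≠ 1 := by
      rintro rfl
      rw [orderOf_one] at ht
      exact absurd ht (by norm_num)
    have ht2 : t * t = 1 := by
      rw [← pow_two, ← ht]; exact pow_orderOf_eq_one t
    -- t moves some point
    have : ∃ a : α, t • a ≠ a := by
      by_contra hcon
      push Not at hcon
      apply ht1
      apply Subtype.ext
      ext a
      exact hcon a
    obtain ⟨a, ha⟩ := this
    have htb : t • (t • a) = a := by
      rw [smul_smul, ht2, one_smul]
    obtain ⟨g1, hg1⟩ := key G h2 (Ne.symm ha) hxy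
    obtain ⟨g2, hg2⟩ := key G h2 (Ne.symm ha) hcd
    -- an element s with s a = x, s (t a) = y
    have h1 : ∃ s : G, s • a = x ∧ s • (t • a) = y := by
      rcases hg1 with ⟨e1, e2⟩ | ⟨e1, e2⟩
      · exact ⟨g1, e1, e2⟩
      · refine ⟨g1 * t, ?_, ?_⟩
        · rw [mul_smul, e2]
        · rw [mul_smul, htb, e1]
    have h2' : ∃ s : G, s • a = c ∧ s • (t • a) = d := by
      rcases hg2 with ⟨e1, e2⟩ | ⟨e1, e2⟩
      · exact ⟨g2, e1, e2⟩
      · refine ⟨g2 * t, ?_, ?_⟩
        · rw [mul_smul, e2]
        · rw [mul_smul, htb, e1]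
    obtain ⟨s1, hs1a, hs1b⟩ := h1
    obtain ⟨s2, hs2a, hs2b⟩ := h2'
    refine ⟨s2 * s1⁻¹, ?_, ?_⟩
    · rw [← hs1a, mul_smul, inv_smul_smul, hs2a]
    · rw [← hs1b, mul_smul, inv_smul_smul, hs2b]
  · intro _
    -- transitivity
    have htrans : MulAction.IsPretransitive G α := by
      constructor
      intro x y
      by_cases hxy : x = y
      · exact ⟨1, by rw [one_smul, hxy]⟩
      -- a third point z
      have : ∃ z : α, z ≠ x ∧ z ≠ y := by
        by_contra hcon
        push Not at hcon
        have : (Finset.univ : Finset α) ⊆ {x, y} := by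
          intro z _
          by_cases hz : z = x
          · simp [hz]
          · simp [hcon z hz]
        have := Finset.card_le_card this
        rw [Finset.card_univ, Finset.card_pair hxy] at this
        omega
      obtain ⟨z, hzx, hzy⟩ := this
      by_contra hno
      push Not at hno
      -- move {x,y} to {x,z} and {y,z}
      obtain ⟨g1, hg1⟩ := key G h2 hxy (Ne.symm hzx)
      obtain ⟨g2, hg2⟩ := key G h2 hxy (Ne.symm hzy)
      -- from g1: either y ↦ z or (x ↦ z and y ↦ x)
      rcases hg1 with ⟨e1, e2⟩ | ⟨e1, e2⟩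
      · -- y ~ z
        rcases hg2 with ⟨f1, f2⟩ | ⟨f1, f2⟩
        · exact hno g2 f1
        · -- x ↦ z by g2, y ↦ z by g1: so x ~ y
          apply hno (g1⁻¹ * g2)
          rw [mul_smul, f1, ← e2, inv_smul_smul]
      · exact hno (g1⁻¹) (by rw [← e2, inv_smul_smul])
    refine { toIsPretransitive := htrans, isTrivialBlock_of_isBlock := ?_ }
    intro B hB
    by_contra hnt
    unfold MulAction.IsTrivialBlock at hnt
    push Not at hnt
    obtain ⟨hns, hnu⟩ := hnt
    obtain ⟨a, ha, b, hb, hab⟩ := hns
    obtain ⟨c, hc⟩ : ∃ c, c ∉ B := by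
      by_contra hcon
      push Not at hcon
      exact hnu (Set.eq_univ_of_forall hcon)
    have hac : a ≠ c := fun h => hc (h ▸ ha)
    rw [MulAction.isBlock_iff_smul_eq_of_mem] at hB
    obtain ⟨g, hg⟩ := key G h2 hab hac
    rcases hg with ⟨e1, e2⟩ | ⟨e1, e2⟩
    · have hgB : g • B = B := hB ha (by rw [e1]; exact ha)
      apply hc
      rw [← hgB, ← e2]
      exact Set.smul_mem_smul_set hb
    · have hgB : g • B = B := hB hb (by rw [e2]; exact ha)
      apply hc
      rw [← hgB, ← e1]
      exact Set.smul_mem_smul_set ha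

end Cfsg.Agent.S0735
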