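import Cfsg.Statements.S0736
import Mathlib

set_option autoImplicit false
open Cfsg

namespace Cfsg.Agent.S0736

open Finset
open scoped Pointwise

/-- Lucas: `C(k + p^a - 1, p^a - 1) ≡ 1 mod p` when `p^a ∣ k` -/
theorem choose_modEq_one (p : ℕ) [hp : Fact p.Prime] :
    ∀ a k : ℕ, p ^ a ∣ k → Nat.choose (k + p ^ a - 1) (p ^ a - 1) ≡ 1 [MOD p] := by
  intro a
  induction a with
  | zero =>
    intro k _
    simp [Nat.ModEq]
  | succ a ih =>
    intro k hk
    obtain ⟨k₂, rfl⟩ := hk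
    have hp2 : 2 ≤ p := hp.out.two_le
    have hP : 1 ≤ p ^ a := Nat.one_le_pow _ _ (by omega)
    have ih' := ih (p ^ a * k₂) (dvd_mul_right _ _)
    have e1 : p ^ (a + 1) * k₂ + p ^ (a + 1) - 1 =
        p * (p ^ a * k₂ + p ^ a - 1) + (p - 1) := by
      have h1 : p ^ (a + 1) * k₂ = p * (p ^ a * k₂) := by ring
      have h2 : p ^ (a + 1) = p * p ^ a := by ring
      obtain ⟨P', hP'⟩ : ∃ P', p ^ a = P' + 1 := ⟨p ^ a - 1, by omega⟩
      rw [h1, h2, hP']
      have h3 : p * ((P' + 1) * k₂ + (P' + 1) - 1) = p * ((P' + 1) * k₂) + p * P' := by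
        have : (P' + 1) * k₂ + (P' + 1) - 1 = (P' + 1) * k₂ + P' := by omega
        rw [this, mul_add]
      have h4 : p * (P' + 1) = p * P' + p := by ring
      rw [h3, h4]
      omega
    have e2 : p ^ (a + 1) - 1 = p * (p ^ a - 1) + (p - 1) := by
      have h2 : p ^ (a + 1) = p * p ^ a := by ring
      obtain ⟨P', hP'⟩ : ∃ P', p ^ a = P' + 1 := ⟨p ^ a - 1, by omega⟩
      rw [h2, hP']
      have h4 : p * (P' + 1) = p * P' + p := by ring
      have h5 : P' + 1 - 1 = P' := by omega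
      rw [h4, h5]
      omega
    have hlt : p - 1 < p := by omega
    have m1 : (p * (p ^ a * k₂ + p ^ a - 1) + (p - 1)) % p = p - 1 := by
      rw [Nat.mul_add_mod, Nat.mod_eq_of_lt hlt]
    have d1 : (p * (p ^ a * k₂ + p ^ a - 1) + (p - 1)) / p = p ^ a * k₂ + p ^ a - 1 := by
      rw [Nat.mul_add_div (by omega), Nat.div_eq_of_lt hlt, add_zero]
    have m2 : (p * (p ^ a - 1) + (p - 1)) % p = p - 1 := by
      rw [Nat.mul_add_mod, Nat.mod_eq_of_lt hlt]
    have d2 : (p * (p ^ a - 1) + (p - 1)) / p = p ^ a - 1 := by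
      rw [Nat.mul_add_div (by omega), Nat.div_eq_of_lt hlt, add_zero]
    have hL := @Choose.choose_modEq_choose_mod_mul_choose_div_nat
      (p ^ (a + 1) * k₂ + p ^ (a + 1) - 1) (p ^ (a + 1) - 1) p hp
    rw [e1, e2, m1, d1, m2, d2, Nat.choose_self, one_mul] at hL
    rw [e1, e2]
    exact hL.trans ih'

theorem coprime_choose (p a k : ℕ) (hp : p.Prime) (h : p ^ a ∣ k) :
    Nat.Coprime (Nat.choose (k + p ^ a - 1) k) (p ^ a) := by
  haveI : Fact p.Prime := ⟨hp⟩
  apply Nat.Coprime.pow_right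
  rw [Nat.coprime_comm, Nat.Prime.coprime_iff_not_dvd hp]
  intro hdvd
  have hP : 1 ≤ p ^ a := Nat.one_le_pow _ _ hp.pos
  have e : k + p ^ a - 1 = k + (p ^ a - 1) := by omega
  have h1 := choose_modEq_one p a k h
  rw [e, ← Nat.choose_symm_add] at h1
  rw [e] at hdvd
  have h2 : Nat.choose (k + (p ^ a - 1)) k ≡ 0 [MOD p] := (Nat.modEq_zero_iff_dvd).mpr hdvd
  have h3 : (1 : ℕ) ≡ 0 [MOD p] := h1.symm.trans h2
  have h4 := (Nat.modEq_zero_iff_dvd).mp h3
  have := Nat.le_of_dvd (by omega) h4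
  have := hp.two_le
  omega

section count
variable {α : Type*} [DecidableEq α]

/-- the number of `(j+1)`-subsets of `S` containing a given `j`-subset -/
theorem card_supersets (S Γ : Finset α) (j : ℕ) (hΓ : Γ ⊆ S) (hj : Γ.card = j) :
    ((S.powersetCard (j + 1)).filter (fun Δ => Γ ⊆ Δ)).card = S.card - j := by
  have e : (S.powersetCard (j + 1)).filter (fun Δ => Γ ⊆ Δ) =
      (S \ Γ).image (fun x => insert x Γ) := by
    ext Δ
    simp only [mem_filter, mem_powersetCard, mem_image, mem_sdiff]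
    constructor
    · rintro ⟨⟨hΔS, hΔc⟩, hΓΔ⟩
      have h1 : (Δ \ Γ).card = 1 := by
        rw [card_sdiff_of_subset hΓΔ, hΔc, hj]
        omega
      obtain ⟨x, hx⟩ := card_eq_one.mp h1
      have hxm : x ∈ Δ \ Γ := by rw [hx]; exact mem_singleton_self x
      rw [mem_sdiff] at hxm
      refine ⟨x, ⟨hΔS hxm.1, hxm.2⟩, ?_⟩
      rw [insert_eq, ← hx, sdiff_union_of_subset hΓΔ]
    · rintro ⟨x, ⟨hxS, hxΓ⟩, rfl⟩
      refine ⟨⟨insert_subset hxS hΓ, ?_⟩, subset_insert x Γ⟩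
      rw [card_insert_of_notMem hxΓ, hj]
  rw [e, card_image_of_injOn, card_sdiff_of_subset hΓ, hj]
  intro x hx y hy hxy
  simp only [coe_sdiff, Set.mem_diff, mem_coe] at hx hy
  simp only at hxy
  have : x ∈ insert y Γ := by rw [← hxy]; exact mem_insert_self x Γ
  rcases mem_insert.mp this with h | h
  · exact h
  · exact absurd h hx.2

/-- double counting of flags `Γ ⊂ Δ ⊆ S` with `Γ` satisfying `O` -/
theorem double_count (O : Finset α → Prop) [DecidablePred O] (S : Finset α) (j c : ℕ)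
    (hc : ∀ Δ : Finset α, Δ.card = j + 1 → ((Δ.powersetCard j).filter O).card = c) :
    Nat.choose S.card (j + 1) * c = ((S.powersetCard j).filter O).card * (S.card - j) := by
  have h := @sum_card_bipartiteAbove_eq_sum_card_bipartiteBelow (Finset α) (Finset α)
    (fun Δ Γ => Γ ⊆ Δ) (S.powersetCard (j + 1)) ((S.powersetCard j).filter O) _
  have hL : ∀ Δ ∈ S.powersetCard (j + 1),
      (bipartiteAbove (fun Δ Γ => Γ ⊆ Δ) ((S.powersetCard j).filter O) Δ).card = c := by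
    intro Δ hΔ
    rw [mem_powersetCard] at hΔ
    rw [← hc Δ hΔ.2]
    congr 1
    ext Γ
    simp only [bipartiteAbove, mem_filter, mem_powersetCard]
    constructor
    · rintro ⟨⟨⟨_, h2⟩, h3⟩, h4⟩
      exact ⟨⟨h4, h2⟩, h3⟩
    · rintro ⟨⟨h4, h2⟩, h3⟩
      exact ⟨⟨⟨h4.trans hΔ.1, h2⟩, h3⟩, h4⟩
  have hR : ∀ Γ ∈ (S.powersetCard j).filter O,
      (bipartiteBelow (fun Δ Γ => Γ ⊆ Δ) (S.powersetCard (j + 1)) Γ).card = S.card - j := by
    intro Γ hΓ
    rw [mem_filter, mem_powersetCard] at hΓ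
    exact card_supersets S Γ j hΓ.1.1 hΓ.1.2
  rw [sum_congr rfl hL, sum_congr rfl hR, sum_const, sum_const, card_powersetCard, smul_eq_mul,
    smul_eq_mul] at h
  exact h

end count

/-- A `k`-homogeneous permutation group of degree `n`, `k ≥ 2`, with `k + q - 1 ≤ n` for every prime power `q` dividing `k`, is `(k-1)`-homogeneous. -/
theorem result {α : Type*} [Fintype α] [DecidableEq α] (G : Subgroup (Equiv.Perm α)) {k : ℕ} (hk : 2 ≤ k) (hG : MulAction.IsPretransitive G (Set.powersetCard α k)) (hq : ∀ q : ℕ, IsPrimePow q → q ∣ k → k + q - 1 ≤ Fintype.card α) : MulAction.IsPretransitive G (Set.powersetCard α (k - 1)) := by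
  classical
  obtain ⟨j, rfl⟩ : ∃ j, k = j + 1 := ⟨k - 1, by omega⟩
  show MulAction.IsPretransitive G (Set.powersetCard α j)
  have hj : 1 ≤ j := by omega
  -- k ≤ n
  have hkn : j + 1 ≤ Fintype.card α := by
    obtain ⟨p, hp, hpk⟩ := Nat.exists_prime_and_dvd (show j + 1 ≠ 1 by omega)
    have := hq p hp.isPrimePow hpk
    have := hp.two_le
    omega
  constructor
  intro Γ₁ Γ₂
  have hΓ₁ : (Γ₁ : Finset α).card = j := Γ₁.2
  have hΓ₂ : (Γ₂ : Finset α).card = j := Γ₂.2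
  -- the orbit predicate
  set O : Finset α → Prop := fun Γ => ∃ g : G, g • (Γ₁ : Finset α) = Γ with hO
  have hOinv : ∀ (g : G) (Γ : Finset α), O Γ → O (g • Γ) := by
    rintro g Γ ⟨h, rfl⟩
    exact ⟨g * h, mul_smul g h _⟩
  -- the count is constant on (j+1)-sets
  have hle : ∀ Δ Δ' : Finset α, Δ.card = j + 1 → Δ'.card = j + 1 →
      ((Δ.powersetCard j).filter O).card ≤ ((Δ'.powersetCard j).filter O).card := by
    intro Δ Δ' hΔ hΔ'
    obtain ⟨g, hg⟩ := MulAction.exists_smul_eq G (⟨Δ, hΔ⟩ : Set.powersetCard α (j + 1)) ⟨Δ', hΔ'⟩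
    have hg' : g • Δ = Δ' := by
      have := congrArg (fun x : Set.powersetCard α (j + 1) => (x : Finset α)) hg
      exact this
    apply card_le_card_of_injOn (fun Γ => g • Γ)
    · intro Γ hΓ
      simp only [coe_filter, mem_powersetCard, Set.mem_ofPred_eq] at hΓ ⊢
      refine ⟨⟨?_, ?_⟩, hOinv g Γ hΓ.2⟩
      · rw [← hg']
        exact smul_finset_subset_smul_finset hΓ.1.1
      · rw [card_smul_finset, hΓ.1.2]
    · intro Γ _ Γ' _ h
      exact smul_left_cancel g h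
  obtain ⟨Δ₁, hΓ₁Δ₁, -, hΔ₁⟩ := exists_subsuperset_card_eq (subset_univ (Γ₁ : Finset α))
    (show (Γ₁ : Finset α).card ≤ j + 1 by rw [hΓ₁]; omega) (by rw [card_univ]; exact hkn)
  obtain ⟨Δ₂, hΓ₂Δ₂, -, hΔ₂⟩ := exists_subsuperset_card_eq (subset_univ (Γ₂ : Finset α))
    (show (Γ₂ : Finset α).card ≤ j + 1 by rw [hΓ₂]; omega) (by rw [card_univ]; exact hkn)
  set c := ((Δ₁.powersetCard j).filter O).card with hcdef
  have hc : ∀ Δ : Finset α, Δ.card = j + 1 → ((Δ.powersetCard j).filter O).card = c :=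
    fun Δ hΔ => le_antisymm (hle Δ Δ₁ hΔ hΔ₁) (hle Δ₁ Δ hΔ₁ hΔ)
  have hc1 : 1 ≤ c := by
    rw [hcdef, Nat.one_le_iff_ne_zero, Ne, card_eq_zero, ← Ne, ← nonempty_iff_ne_empty]
    refine ⟨(Γ₁ : Finset α), ?_⟩
    rw [mem_filter, mem_powersetCard]
    exact ⟨⟨hΓ₁Δ₁, hΓ₁⟩, ⟨1, one_smul _ _⟩⟩
  have hc2 : c ≤ j + 1 := by
    rw [hcdef]
    refine (card_filter_le _ _).trans ?_
    rw [card_powersetCard, hΔ₁, Nat.choose_succ_self_right]
  have hdvd : j + 1 ∣ c := by
    rw [Nat.dvd_iff_prime_pow_dvd_dvd]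
    intro p a hp hpa
    by_cases ha : a = 0
    · subst ha
      simp
    have hpp : IsPrimePow (p ^ a) := hp.isPrimePow.pow ha
    have hn := hq (p ^ a) hpp hpa
    obtain ⟨S, -, hS⟩ := exists_subset_card_eq (s := (univ : Finset α))
      (n := j + 1 + p ^ a - 1) (by rw [card_univ]; exact hn)
    have hdc := double_count O S j c hc
    have hP : 1 ≤ p ^ a := Nat.one_le_pow _ _ hp.pos
    have e1 : S.card - j = p ^ a := by rw [hS]; omega
    rw [e1, hS] at hdc
    have hcop := coprime_choose p a (j + 1) hp hpa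
    have h1 : p ^ a ∣ c * Nat.choose (j + 1 + p ^ a - 1) (j + 1) := by
      rw [mul_comm, hdc]
      exact dvd_mul_left _ _
    exact (Nat.Coprime.symm hcop).dvd_of_dvd_mul_right h1
  have hceq : c = j + 1 := le_antisymm hc2 (Nat.le_of_dvd (by omega) hdvd)
  have hall := hc Δ₂ hΔ₂
  have hcard : (Δ₂.powersetCard j).card = j + 1 := by
    rw [card_powersetCard, hΔ₂, Nat.choose_succ_self_right]
  rw [hceq, ← hcard, card_filter_eq_iff] at hall
  obtain ⟨g, hg⟩ := hall (Γ₂ : Finset α) (by rw [mem_powersetCard]; exact ⟨hΓ₂Δ₂, hΓ₂⟩)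
  refine ⟨g, Subtype.ext ?_⟩
  exact hg

end Cfsg.Agent.S0736
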