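import Mathlib
import Cfsg.Statements.S0743
import Cfsg.Agent.Lib.Helper99.PGroupCount

set_option autoImplicit false
open Cfsg

namespace Cfsg.Agent.S0743

open MulAction Cfsg.Agent.Lib.Helper99

section aux
variable {α : Type*} [Fintype α] [DecidableEq α] (G : Subgroup (Equiv.Perm α)) {p k : ℕ}

/-- the pointwise stabiliser of a `(k-1)`-set is transitive on the complement -/
lemma claim (hp : p.Prime)
    (h : ∀ s : Finset α, s.card = k → ∃ P : Subgroup G, IsPGroup p P ∧ MulAction.fixedPoints P α = (s : Set α))
    (t : Finset α) (ht : t.card + 1 = k) (x y : α) (hx : x ∉ t) (hy : y ∉ t) :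
    ∃ g : G, (∀ a ∈ t, g • a = a) ∧ g • x = y := by
  classical
  have : Fact p.Prime := ⟨hp⟩
  by_contra hcon
  push Not at hcon
  -- the orbit of x under the pointwise stabiliser of t
  let O : Finset α := Finset.univ.filter (fun o => ∃ g : G, (∀ a ∈ t, g • a = a) ∧ g • x = o)
  have hxO : x ∈ O := by
    simp only [O, Finset.mem_filter, Finset.mem_univ, true_and]
    exact ⟨1, fun a _ => one_smul _ a, one_smul _ x⟩
  have hyO : y ∉ O := by
    simp only [O, Finset.mem_filter, Finset.mem_univ, true_and]
    rintro ⟨g, hg1, hg2⟩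
    exact hcon g hg1 hg2
  have hOt : ∀ o ∈ O, o ∉ t := by
    intro o ho hmem
    simp only [O, Finset.mem_filter, Finset.mem_univ, true_and] at ho
    obtain ⟨g, hg1, rfl⟩ := ho
    have h1 : g • (g • x) = g • x := hg1 _ hmem
    have h2 : g • x = x := smul_left_cancel g h1
    exact hx (h2 ▸ hmem)
  obtain ⟨Px, hPx, hfx⟩ := h (insert x t) (by rw [Finset.card_insert_of_notMem hx, ht])
  obtain ⟨Py, hPy, hfy⟩ := h (insert y t) (by rw [Finset.card_insert_of_notMem hy, ht])
  have inv : ∀ (P : Subgroup G) (s : Finset α), MulAction.fixedPoints P α = (s : Set α) → t ⊆ s →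
      ∀ g : P, ∀ a ∈ O, g • a ∈ O := by
    intro P s hs hts g a ha
    simp only [O, Finset.mem_filter, Finset.mem_univ, true_and] at ha ⊢
    obtain ⟨g0, hg0, rfl⟩ := ha
    refine ⟨g.1 * g0, fun b hb => ?_, ?_⟩
    · rw [mul_smul, hg0 b hb]
      have : b ∈ MulAction.fixedPoints P α := by rw [hs]; exact hts hb
      exact this g
    · rw [mul_smul]; rfl
  have h1 := card_invariant_modEq hPx O (inv Px _ hfx (Finset.subset_insert _ _))
  have h2 := card_invariant_modEq hPy O (inv Py _ hfy (Finset.subset_insert _ _))
  have e1 : {a : α | a ∈ O ∧ ∀ g : Px, g • a = a} = {x} := by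
    ext a
    simp only [Set.mem_ofPred_eq, Set.mem_singleton_iff]
    constructor
    · rintro ⟨haO, hfix⟩
      have : a ∈ MulAction.fixedPoints Px α := hfix
      rw [hfx] at this
      simp only [Finset.coe_insert, Set.mem_insert_iff, Finset.mem_coe] at this
      rcases this with h | h
      · exact h
      · exact absurd h (hOt a haO)
    · rintro rfl
      refine ⟨hxO, ?_⟩
      have : a ∈ MulAction.fixedPoints Px α := by rw [hfx]; simp
      exact this
  have e2 : {a : α | a ∈ O ∧ ∀ g : Py, g • a = a} = ∅ := by
    ext a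
    simp only [Set.mem_ofPred_eq, Set.mem_empty_iff_false, iff_false]
    rintro ⟨haO, hfix⟩
    have : a ∈ MulAction.fixedPoints Py α := hfix
    rw [hfy] at this
    simp only [Finset.coe_insert, Set.mem_insert_iff, Finset.mem_coe] at this
    rcases this with h | h
    · exact hyO (h ▸ haO)
    · exact absurd h (hOt a haO)
  rw [e1, Set.ncard_singleton] at h1
  rw [e2, Set.ncard_empty] at h2
  have h3 : 1 ≡ 0 [MOD p] := h1.symm.trans h2
  have := (Nat.modEq_zero_iff_dvd.mp h3)
  exact hp.one_lt.ne' (Nat.dvd_one.mp this)

lemma main (hp : p.Prime) (hkn : k < Fintype.card α)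
    (h : ∀ s : Finset α, s.card = k → ∃ P : Subgroup G, IsPGroup p P ∧ MulAction.fixedPoints P α = (s : Set α)) :
    ∀ j : ℕ, j ≤ k → ∀ a b : Fin j ↪ α, ∃ g : G, ∀ i, g • a i = b i := by
  classical
  intro j
  induction j with
  | zero => intro _ a b; exact ⟨1, fun i => i.elim0⟩
  | succ j ih =>
    intro hj a b
    let a' : Fin j ↪ α := Fin.castSuccEmb.trans a
    let b' : Fin j ↪ α := Fin.castSuccEmb.trans b
    obtain ⟨g, hg⟩ := ih (by omega) a' b'
    let t' : Finset α := Finset.univ.image b'
    have ht'card : t'.card = j := by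
      rw [Finset.card_image_of_injective _ b'.injective, Finset.card_univ, Fintype.card_fin]
    set x := g • a (Fin.last j) with hxdef
    set y := b (Fin.last j) with hydef
    have hxt' : x ∉ t' := by
      simp only [t', Finset.mem_image, Finset.mem_univ, true_and, not_exists]
      intro i hi
      have h1 : g • a (Fin.castSucc i) = b' i := hg i
      rw [hi, hxdef] at h1
      have h2 := a.injective (smul_left_cancel g h1)
      exact (Fin.castSucc_lt_last i).ne h2
    have hyt' : y ∉ t' := by
      simp only [t', Finset.mem_image, Finset.mem_univ, true_and, not_exists]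
      intro i hi
      have h2 : Fin.castSucc i = Fin.last j := b.injective hi
      exact (Fin.castSucc_lt_last i).ne h2
    -- extend t' to a set t of size k-1 avoiding x, y
    have hsub : t' ⊆ (Finset.univ \ {x, y} : Finset α) := by
      intro z hz
      simp only [Finset.mem_sdiff, Finset.mem_univ, true_and, Finset.mem_insert,
        Finset.mem_singleton, not_or]
      exact ⟨fun h => hxt' (h ▸ hz), fun h => hyt' (h ▸ hz)⟩
    have hbig : k - 1 ≤ (Finset.univ \ {x, y} : Finset α).card := by
      have h1 : (Finset.univ \ {x, y} : Finset α).card = Fintype.card α - ({x, y} : Finset α).card := by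
        rw [Finset.card_sdiff_of_subset (Finset.subset_univ _), Finset.card_univ]
      have h2 : ({x, y} : Finset α).card ≤ 2 := Finset.card_le_two
      omega
    obtain ⟨t, ht't, htsub, htcard⟩ := Finset.exists_subsuperset_card_eq hsub
      (by rw [ht'card]; omega) hbig
    have hxt : x ∉ t := by
      intro hmem
      have := htsub hmem
      simp at this
    have hyt : y ∉ t := by
      intro hmem
      have := htsub hmem
      simp at this
    obtain ⟨g2, hg2t, hg2x⟩ := claim G hp h t (by rw [htcard]; omega) x y hxt hyt
    refine ⟨g2 * g, fun i => ?_⟩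
    rw [mul_smul]
    refine Fin.lastCases ?_ (fun i => ?_) i
    · exact hg2x
    · have h1 : g • a (Fin.castSucc i) = b' i := hg i
      rw [h1]
      apply hg2t
      apply ht't
      simp only [t', Finset.mem_image, Finset.mem_univ, true_and]
      exact ⟨i, rfl⟩

end aux

/-- Gleason's lemma: if for every k distinct points (1 ≤ k < n) some p-subgroup of the permutation group has exactly those points as its fixed points, then the group is k-transitive. -/
theorem result {α : Type*} [Fintype α] [DecidableEq α] (G : Subgroup (Equiv.Perm α)) {p k : ℕ} (hp : p.Prime) (hk : 1 ≤ k) (hkn : k < Fintype.card α) (h : ∀ s : Finset α, s.card = k → ∃ P : Subgroup G, IsPGroup p P ∧ MulAction.fixedPoints P α = (s : Set α)) : MulAction.IsMultiplyPretransitive G α k := by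
  constructor
  intro a b
  obtain ⟨g, hg⟩ := main G hp hkn h k le_rfl a b
  exact ⟨g, by ext i; exact hg i⟩

end Cfsg.Agent.S0743
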