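import Mathlib
import Cfsg.Statements.S0744
import Cfsg.Agent.Lib.Helper99.PGroupCount

set_option autoImplicit false
open Cfsg

namespace Cfsg.Agent.S0744

open MulAction Cfsg.Agent.Lib.Helper99

section aux
variable {α : Type*} [Fintype α] [DecidableEq α] (G : Subgroup (Equiv.Perm α)) {k : ℕ}

/-- the stabiliser of a point in a pointwise stabiliser is again a pointwise stabiliser -/
lemma card_stab (s : Finset α) (a : α) :
    Nat.card (stabilizer (fixingSubgroup G (s : Set α)) a) =
      Nat.card (fixingSubgroup G ((insert a s : Finset α) : Set α)) := by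
  have h : (stabilizer (fixingSubgroup G (s : Set α)) a).map (fixingSubgroup G (s : Set α)).subtype =
      fixingSubgroup G ((insert a s : Finset α) : Set α) := by
    ext g
    simp only [Subgroup.mem_map, mem_stabilizer_iff, Subgroup.subtype_apply, Subtype.exists,
      exists_and_right, exists_eq_right, mem_fixingSubgroup_iff, Finset.coe_insert,
      Set.mem_insert_iff, Finset.mem_coe]
    constructor
    · rintro ⟨hg, hga⟩ y (rfl | hy)
      · exact hga
      · exact hg y hy
    · intro hg
      exact ⟨fun y hy => hg y (Or.inr hy), hg a (Or.inl rfl)⟩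
  rw [← h, Subgroup.card_map_of_injective (Subgroup.subtype_injective _)]

lemma idx (l m : ℕ)
    (hkm1 : ∀ s : Finset α, s.card = k - 1 → Nat.card (fixingSubgroup G (s : Set α)) = l)
    (hkm : ∀ s : Finset α, s.card = k → Nat.card (fixingSubgroup G (s : Set α)) = m)
    (s : Finset α) (hs : s.card + 1 = k) (a : α) (ha : a ∉ s) :
    (stabilizer (fixingSubgroup G (s : Set α)) a).index = l / m := by
  have h1 := (stabilizer (fixingSubgroup G (s : Set α)) a).index_mul_card
  rw [card_stab, hkm _ (by rw [Finset.card_insert_of_notMem ha, hs]),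
    hkm1 s (by omega)] at h1
  have hm : 0 < m := by
    rw [← hkm (insert a s) (by rw [Finset.card_insert_of_notMem ha, hs])]
    exact Nat.card_pos
  exact (Nat.div_eq_of_eq_mul_left hm h1.symm).symm

/-- the pointwise stabiliser of a `(k-2)`-set is transitive on the complement -/
lemma claim (l m : ℕ) (hl : 1 < l)
    (hkm1 : ∀ s : Finset α, s.card = k - 1 → Nat.card (fixingSubgroup G (s : Set α)) = l)
    (hkm : ∀ s : Finset α, s.card = k → Nat.card (fixingSubgroup G (s : Set α)) = m)
    (t : Finset α) (ht : t.card + 2 = k) (x y : α) (hx : x ∉ t) (hy : y ∉ t) :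
    ∃ g : G, (∀ a ∈ t, g • a = a) ∧ g • x = y := by
  classical
  by_contra hcon
  push Not at hcon
  let O : Finset α := Finset.univ.filter (fun o => ∃ g : G, (∀ a ∈ t, g • a = a) ∧ g • x = o)
  have hxO : x ∈ O := by
    simp only [O, Finset.mem_filter, Finset.mem_univ, true_and]
    exact ⟨1, fun a _ => one_smul _ a, one_smul _ x⟩
  have hyO : y ∉ O := by
    simp only [O, Finset.mem_filter, Finset.mem_univ, true_and]
    rintro ⟨g, hg1, hg2⟩
    exact hcon g hg1 hg2
  have hOt : ∀ o ∈ O, o ∉ t := by
    intro o ho hmem
    simp only [O, Finset.mem_filter, Finset.mem_univ, true_and] at ho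
    obtain ⟨g, hg1, rfl⟩ := ho
    have h1 : g • (g • x) = g • x := hg1 _ hmem
    have h2 : g • x = x := smul_left_cancel g h1
    exact hx (h2 ▸ hmem)
  have hsx : (insert x t).card + 1 = k := by rw [Finset.card_insert_of_notMem hx]; omega
  have hsy : (insert y t).card + 1 = k := by rw [Finset.card_insert_of_notMem hy]; omega
  -- invariance of O under pointwise stabilisers of supersets of t
  have inv : ∀ (s : Finset α), t ⊆ s →
      ∀ g : fixingSubgroup G (s : Set α), ∀ a ∈ O, g • a ∈ O := by
    intro s hts g a ha
    simp only [O, Finset.mem_filter, Finset.mem_univ, true_and] at ha ⊢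
    obtain ⟨g0, hg0, rfl⟩ := ha
    refine ⟨g.1 * g0, fun b hb => ?_, ?_⟩
    · rw [mul_smul, hg0 b hb]
      exact (mem_fixingSubgroup_iff G).mp g.2 b (hts hb)
    · rw [mul_smul]; rfl
  -- d divides |O|
  have hd1 : (l / m) ∣ O.card := by
    apply card_invariant_dvd (K := fixingSubgroup G ((insert y t : Finset α) : Set α)) O
      (inv _ (Finset.subset_insert _ _))
    intro a ha
    apply idx G l m hkm1 hkm _ hsy
    simp only [Finset.mem_insert, not_or]
    exact ⟨fun h => hyO (h ▸ ha), hOt a ha⟩
  -- d divides |O| - 1
  have hd2 : (l / m) ∣ (O.erase x).card := by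
    apply card_invariant_dvd (K := fixingSubgroup G ((insert x t : Finset α) : Set α)) (O.erase x)
    · intro g a ha
      rw [Finset.mem_erase] at ha ⊢
      refine ⟨?_, inv _ (Finset.subset_insert _ _) g a ha.2⟩
      intro h
      have hgx : g • x = x := (mem_fixingSubgroup_iff G).mp g.2 x (by simp)
      exact ha.1 (smul_left_cancel g (h.trans hgx.symm))
    · intro a ha
      rw [Finset.mem_erase] at ha
      apply idx G l m hkm1 hkm _ hsx
      simp only [Finset.mem_insert, not_or]
      exact ⟨ha.1, hOt a ha.2⟩
  rw [Finset.card_erase_of_mem hxO] at hd2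
  have hpos : 0 < O.card := Finset.card_pos.mpr ⟨x, hxO⟩
  have hd3 : (l / m) ∣ 1 := by
    have := (Nat.dvd_sub hd1 hd2)
    rwa [show O.card - (O.card - 1) = 1 by omega] at this
  have hd4 : l / m = 1 := Nat.dvd_one.mp hd3
  -- but the pointwise stabiliser of insert x t is nontrivial
  have hcard : Nat.card (fixingSubgroup G ((insert x t : Finset α) : Set α)) = l := hkm1 _ (by omega)
  have hnt : Nontrivial (fixingSubgroup G ((insert x t : Finset α) : Set α)) := by
    rw [← Finite.one_lt_card_iff_nontrivial, hcard]; exact hl
  obtain ⟨g, hg⟩ := exists_ne (1 : fixingSubgroup G ((insert x t : Finset α) : Set α))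
  have : ∃ z : α, g • z ≠ z := by
    by_contra hno
    push Not at hno
    apply hg
    apply Subtype.ext
    apply Subtype.ext
    ext z
    exact hno z
  obtain ⟨z, hz⟩ := this
  have hzs : z ∉ insert x t := by
    intro hmem
    exact hz ((mem_fixingSubgroup_iff G).mp g.2 z (by exact_mod_cast hmem))
  have h5 := idx G l m hkm1 hkm _ hsx z hzs
  rw [hd4, Subgroup.index_eq_one] at h5
  have : g ∈ stabilizer (fixingSubgroup G ((insert x t : Finset α) : Set α)) z := by
    rw [h5]; trivial
  exact hz this

lemma main (hkn : k ≤ Fintype.card α) (l m : ℕ) (hl : 1 < l)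
    (hkm1 : ∀ s : Finset α, s.card = k - 1 → Nat.card (fixingSubgroup G (s : Set α)) = l)
    (hkm : ∀ s : Finset α, s.card = k → Nat.card (fixingSubgroup G (s : Set α)) = m) :
    ∀ j : ℕ, j + 1 ≤ k → ∀ a b : Fin j ↪ α, ∃ g : G, ∀ i, g • a i = b i := by
  classical
  intro j
  induction j with
  | zero => intro _ a b; exact ⟨1, fun i => i.elim0⟩
  | succ j ih =>
    intro hj a b
    let a' : Fin j ↪ α := Fin.castSuccEmb.trans a
    let b' : Fin j ↪ α := Fin.castSuccEmb.trans b
    obtain ⟨g, hg⟩ := ih (by omega) a' b'
    let t' : Finset α := Finset.univ.image b'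
    have ht'card : t'.card = j := by
      rw [Finset.card_image_of_injective _ b'.injective, Finset.card_univ, Fintype.card_fin]
    set x := g • a (Fin.last j) with hxdef
    set y := b (Fin.last j) with hydef
    have hxt' : x ∉ t' := by
      simp only [t', Finset.mem_image, Finset.mem_univ, true_and, not_exists]
      intro i hi
      have h1 : g • a (Fin.castSucc i) = b' i := hg i
      rw [hi, hxdef] at h1
      have h2 := a.injective (smul_left_cancel g h1)
      exact (Fin.castSucc_lt_last i).ne h2
    have hyt' : y ∉ t' := by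
      simp only [t', Finset.mem_image, Finset.mem_univ, true_and, not_exists]
      intro i hi
      have h2 : Fin.castSucc i = Fin.last j := b.injective hi
      exact (Fin.castSucc_lt_last i).ne h2
    have hsub : t' ⊆ (Finset.univ \ {x, y} : Finset α) := by
      intro z hz
      simp only [Finset.mem_sdiff, Finset.mem_univ, true_and, Finset.mem_insert,
        Finset.mem_singleton, not_or]
      exact ⟨fun h => hxt' (h ▸ hz), fun h => hyt' (h ▸ hz)⟩
    have hbig : k - 2 ≤ (Finset.univ \ {x, y} : Finset α).card := by
      have h1 : (Finset.univ \ {x, y} : Finset α).card = Fintype.card α - ({x, y} : Finset α).card := by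
        rw [Finset.card_sdiff_of_subset (Finset.subset_univ _), Finset.card_univ]
      have h2 : ({x, y} : Finset α).card ≤ 2 := Finset.card_le_two
      omega
    obtain ⟨t, ht't, htsub, htcard⟩ := Finset.exists_subsuperset_card_eq hsub
      (by rw [ht'card]; omega) hbig
    have hxt : x ∉ t := by
      intro hmem
      have := htsub hmem
      simp at this
    have hyt : y ∉ t := by
      intro hmem
      have := htsub hmem
      simp at this
    obtain ⟨g2, hg2t, hg2x⟩ := claim G l m hl hkm1 hkm t (by rw [htcard]; omega) x y hxt hyt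
    refine ⟨g2 * g, fun i => ?_⟩
    rw [mul_smul]
    refine Fin.lastCases ?_ (fun i => ?_) i
    · exact hg2x
    · have h1 : g • a (Fin.castSucc i) = b' i := hg i
      rw [h1]
      apply hg2t
      apply ht't
      simp only [t', Finset.mem_image, Finset.mem_univ, true_and]
      exact ⟨i, rfl⟩

end aux

/-- If all pointwise stabilisers of (k−1)-subsets of points have one common order greater than 1, and all pointwise stabilisers of k-subsets have one common order (k > 1), then the group is (k−1)-transitive. -/
theorem result {α : Type*} [Fintype α] [DecidableEq α] (G : Subgroup (Equiv.Perm α)) {k : ℕ} (hk : 1 < k) (hkn : k ≤ Fintype.card α) (l m : ℕ) (hl : 1 < l) (hkm1 : ∀ s : Finset α, s.card = k - 1 → Nat.card (fixingSubgroup G (s : Set α)) = l) (hkm : ∀ s : Finset α, s.card = k → Nat.card (fixingSubgroup G (s : Set α)) = m) : MulAction.IsMultiplyPretransitive G α (k - 1) := by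
  constructor
  intro a b
  obtain ⟨g, hg⟩ := main G hkn l m hl hkm1 hkm (k - 1) (by omega) a b
  exact ⟨g, by ext i; exact hg i⟩

end Cfsg.Agent.S0744
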