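import Cfsg.Statements.S0750
import Cfsg.Agent.S0749
import Cfsg.Agent.S0756

set_option autoImplicit false
open Cfsg

namespace Cfsg.Agent.S0750

open Module LinearMap.BilinForm

section basics
variable {F V : Type*} [Field F] [AddCommGroup V] [Module F V] (Q : QuadraticForm F V)

theorem pb_apply (x y : V) : QuadraticMap.polarBilin Q x y = Q (x + y) - Q x - Q y := rfl

theorem Q_add (x y : V) : Q (x + y) = Q x + Q y + QuadraticMap.polarBilin Q x y := by
  rw [pb_apply]; ring

theorem Q_smul (c : F) (x : V) : Q (c • x) = c * c * Q x := by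
  rw [QuadraticMap.map_smul]; rfl

theorem pb_self (x : V) : QuadraticMap.polarBilin Q x x = 2 * Q x := by
  rw [QuadraticMap.polarBilin_apply_apply, QuadraticMap.polar_self]
  simp

theorem pb_comm (x y : V) : QuadraticMap.polarBilin Q x y = QuadraticMap.polarBilin Q y x := by
  rw [QuadraticMap.polarBilin_apply_apply, QuadraticMap.polarBilin_apply_apply,
    QuadraticMap.polar_comm]

theorem pb_isSymm : (QuadraticMap.polarBilin Q).IsSymm := ⟨fun x y => pb_comm Q x y⟩

theorem pb_isSymm' : LinearMap.BilinForm.IsSymm (QuadraticMap.polarBilin Q) :=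
  ⟨fun x y => pb_comm Q x y⟩

theorem pb_isRefl : (QuadraticMap.polarBilin Q).IsRefl := (pb_isSymm Q).isRefl

theorem Q_add_smul (x v : V) (c : F) :
    Q (x + c • v) = Q x + c * c * Q v + c * QuadraticMap.polarBilin Q x v := by
  rw [Q_add, Q_smul, map_smul, smul_eq_mul]

/-- isometry on a subspace preserves the polar form there -/
theorem pb_of_iso (X : Submodule F V) (f : V →ₗ[F] V) (hiso : ∀ x ∈ X, Q (f x) = Q x)
    (x x' : V) (hx : x ∈ X) (hx' : x' ∈ X) :
    QuadraticMap.polarBilin Q (f x) (f x') = QuadraticMap.polarBilin Q x x' := by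
  rw [pb_apply, pb_apply, ← map_add, hiso _ (X.add_mem hx hx'), hiso x hx, hiso x' hx']

end basics

section main
variable {F V : Type*} [Field F] [Finite F] [AddCommGroup V] [Module F V] [FiniteDimensional F V]
  (Q : QuadraticForm F V) (hQ : (QuadraticMap.polarBilin Q).Nondegenerate)

/-- the statement of the one-step extension -/
def StepProp : Prop :=
  ∀ (X : Submodule F V), X ≠ ⊤ → ∀ f : V →ₗ[F] V, (∀ x ∈ X, Q (f x) = Q x) →
    (∀ x ∈ X, f x = 0 → x = 0) →
    ∃ v w : V, v ∉ X ∧ (∀ x ∈ X, QuadraticMap.polarBilin Q w (f x) = QuadraticMap.polarBilin Q v x) ∧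
      Q w = Q v ∧ w ∉ X.map f

theorem witt_aux (hstep : StepProp Q) :
    ∀ n : ℕ, ∀ X : Submodule F V, finrank F V - finrank F X = n → ∀ f : V →ₗ[F] V,
      (∀ x ∈ X, Q (f x) = Q x) → (∀ x ∈ X, f x = 0 → x = 0) →
      ∃ g : V ≃ₗ[F] V, (∀ v : V, Q (g v) = Q v) ∧ ∀ x ∈ X, g x = f x := by
  intro n
  induction n using Nat.strong_induction_on with
  | _ n ih =>
  intro X hn f hiso hinj
  by_cases hX : X = ⊤
  · subst hX
    have hinj' : Function.Injective f := by
      rw [← LinearMap.ker_eq_bot, LinearMap.ker_eq_bot']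
      intro x hx
      exact hinj x Submodule.mem_top hx
    refine ⟨LinearEquiv.ofInjectiveEndo f hinj', ?_, ?_⟩
    · intro v
      simp only [LinearEquiv.coe_ofInjectiveEndo]
      exact hiso v Submodule.mem_top
    · intro x _
      simp
  · obtain ⟨v, w, hv, hwprop, hww, hwY⟩ := hstep X hX f hiso hinj
    obtain ⟨π0, hπ0v, hπ0X⟩ := Submodule.exists_dual_map_eq_bot_of_notMem hv inferInstance
    set π : Module.Dual F V := (π0 v)⁻¹ • π0 with hπ
    have hπv : π v = 1 := by
      simp [hπ, inv_mul_cancel₀ hπ0v]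
    have hπX : ∀ x ∈ X, π x = 0 := by
      intro x hx
      have : π0 x ∈ X.map π0 := Submodule.mem_map_of_mem hx
      rw [hπ0X, Submodule.mem_bot] at this
      simp [hπ, this]
    set f' : V →ₗ[F] V := f + (LinearMap.toSpanSingleton F V (w - f v)).comp π with hf'
    have hf'X : ∀ x ∈ X, f' x = f x := by
      intro x hx
      simp [hf', hπX x hx]
    have hf'v : f' v = w := by
      simp [hf', hπv]
    set X' := X ⊔ Submodule.span F {v} with hX'
    have hXlt : X < X' := by
      apply lt_of_le_of_ne le_sup_left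
      intro heq
      apply hv
      rw [heq]
      exact Submodule.mem_sup_right (Submodule.mem_span_singleton_self v)
    have hdecomp : ∀ y ∈ X', ∃ x ∈ X, ∃ c : F, y = x + c • v := by
      intro y hy
      obtain ⟨x, hx, z, hz, rfl⟩ := Submodule.mem_sup.mp hy
      obtain ⟨c, rfl⟩ := Submodule.mem_span_singleton.mp hz
      exact ⟨x, hx, c, rfl⟩
    have hf'val : ∀ x ∈ X, ∀ c : F, f' (x + c • v) = f x + c • w := by
      intro x hx c
      rw [map_add, map_smul, hf'X x hx, hf'v]
    have hiso' : ∀ y ∈ X', Q (f' y) = Q y := by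
      intro y hy
      obtain ⟨x, hx, c, rfl⟩ := hdecomp y hy
      rw [hf'val x hx c, Q_add_smul, Q_add_smul, hiso x hx, hww, pb_comm Q (f x) w, hwprop x hx,
        pb_comm Q v x]
    have hinj' : ∀ y ∈ X', f' y = 0 → y = 0 := by
      intro y hy hy0
      obtain ⟨x, hx, c, rfl⟩ := hdecomp y hy
      rw [hf'val x hx c] at hy0
      have hc : c = 0 := by
        by_contra hc
        apply hwY
        have hw : w = f (-(c⁻¹ • x)) := by
          have : c • w = -(f x) := eq_neg_of_add_eq_zero_right hy0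
          rw [map_neg, map_smul, ← smul_neg, ← this, smul_smul, inv_mul_cancel₀ hc, one_smul]
        rw [hw]
        exact Submodule.mem_map_of_mem (X.neg_mem (X.smul_mem _ hx))
      subst hc
      simp only [zero_smul, add_zero] at hy0 ⊢
      exact hinj x hx hy0
    have hlt : finrank F V - finrank F X' < n := by
      have h1 := Submodule.finrank_lt_finrank_of_lt hXlt
      have h2 : finrank F X' ≤ finrank F V := Submodule.finrank_le X'
      omega
    obtain ⟨g, hg1, hg2⟩ := ih _ hlt X' rfl f' hiso' hinj'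
    refine ⟨g, hg1, ?_⟩
    intro x hx
    rw [hg2 x (le_sup_left (a := X) hx), hf'X x hx]

include hQ in
theorem riesz_X (X : Submodule F V) (f : V →ₗ[F] V) (hinj : ∀ x ∈ X, f x = 0 → x = 0) (v : V) :
    ∃ w0 : V, ∀ x ∈ X, QuadraticMap.polarBilin Q w0 (f x) = QuadraticMap.polarBilin Q v x := by
  set h : X →ₗ[F] V := f.domRestrict X with hh
  have hhinj : Function.Injective h := by
    rw [← LinearMap.ker_eq_bot, LinearMap.ker_eq_bot']
    intro x hx
    have : f x = 0 := hx
    exact Subtype.ext (hinj x x.2 this)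
  obtain ⟨ψ, hψ⟩ := LinearMap.dualMap_surjective_of_injective hhinj
    ((QuadraticMap.polarBilin Q v).domRestrict X)
  refine ⟨(LinearMap.BilinForm.toDual (QuadraticMap.polarBilin Q) hQ).symm ψ, ?_⟩
  intro x hx
  rw [apply_toDual_symm_apply]
  have := congrArg (fun l => l ⟨x, hx⟩) hψ
  simpa [hh] using this

omit [Finite F] [FiniteDimensional F V] in
theorem notin_of_rad (X : Submodule F V) (f : V →ₗ[F] V) (hiso : ∀ x ∈ X, Q (f x) = Q x)
    (v w : V)
    (hwprop : ∀ x ∈ X, QuadraticMap.polarBilin Q w (f x) = QuadraticMap.polarBilin Q v x)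
    (x0 : V) (hx0X : x0 ∈ X) (hx0 : ∀ x ∈ X, QuadraticMap.polarBilin Q x0 x = 0)
    (hvx0 : QuadraticMap.polarBilin Q v x0 ≠ 0) : w ∉ X.map f := by
  intro hmem
  obtain ⟨x1, hx1X, hx1⟩ := Submodule.mem_map.mp hmem
  have h1 := hwprop x0 hx0X
  rw [← hx1, pb_of_iso Q X f hiso x1 x0 hx1X hx0X, pb_comm, hx0 x1 hx1X] at h1
  exact hvx0 h1.symm

include hQ in
/-- Case A: a singular vector in the radical -/
theorem step_A (X : Submodule F V) (f : V →ₗ[F] V) (hiso : ∀ x ∈ X, Q (f x) = Q x)
    (hinj : ∀ x ∈ X, f x = 0 → x = 0) (x0 : V) (hx0X : x0 ∈ X) (hx00 : x0 ≠ 0)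
    (hx0 : ∀ x ∈ X, QuadraticMap.polarBilin Q x0 x = 0) (hQx0 : Q x0 = 0) :
    ∃ v w : V, v ∉ X ∧
      (∀ x ∈ X, QuadraticMap.polarBilin Q w (f x) = QuadraticMap.polarBilin Q v x) ∧
      Q w = Q v ∧ w ∉ X.map f := by
  obtain ⟨v, hv⟩ : ∃ v : V, QuadraticMap.polarBilin Q x0 v ≠ 0 := by
    by_contra hcon
    push Not at hcon
    exact hx00 (hQ.1 x0 hcon)
  have hvX : v ∉ X := fun h => hv (hx0 v h)
  have hvx0 : QuadraticMap.polarBilin Q v x0 ≠ 0 := by rwa [pb_comm]
  obtain ⟨w0, hw0⟩ := riesz_X Q hQ X f hinj v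
  have hy0 : ∀ x ∈ X, QuadraticMap.polarBilin Q (f x0) (f x) = 0 := fun x hx => by
    rw [pb_of_iso Q X f hiso x0 x hx0X hx, hx0 x hx]
  have hwprop : ∀ x ∈ X, QuadraticMap.polarBilin Q
      (w0 + ((Q v - Q w0) / QuadraticMap.polarBilin Q v x0) • f x0) (f x) =
      QuadraticMap.polarBilin Q v x := by
    intro x hx
    rw [map_add, LinearMap.add_apply, map_smul, LinearMap.smul_apply, hy0 x hx, smul_zero,
      add_zero, hw0 x hx]
  refine ⟨v, w0 + ((Q v - Q w0) / QuadraticMap.polarBilin Q v x0) • f x0, hvX, hwprop, ?_,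
    notin_of_rad Q X f hiso v _ hwprop x0 hx0X hx0 hvx0⟩
  rw [Q_add_smul, hiso x0 hx0X, hQx0, mul_zero, add_zero, hw0 x0 hx0X, div_mul_cancel₀ _ hvx0]
  ring

omit [Finite F] [FiniteDimensional F V] in
/-- Case B reduction: vectors in the orthogonal complements -/
theorem step_B_of (X : Submodule F V) (f : V →ₗ[F] V) (v w : V)
    (hv : v ∈ orthogonal (QuadraticMap.polarBilin Q) X) (hvX : v ∉ X)
    (hw : w ∈ orthogonal (QuadraticMap.polarBilin Q) (X.map f)) (hwY : w ∉ X.map f)
    (hQvw : Q w = Q v) :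
    ∃ v w : V, v ∉ X ∧
      (∀ x ∈ X, QuadraticMap.polarBilin Q w (f x) = QuadraticMap.polarBilin Q v x) ∧
      Q w = Q v ∧ w ∉ X.map f := by
  refine ⟨v, w, hvX, ?_, hQvw, hwY⟩
  intro x hx
  rw [pb_comm Q w, pb_comm Q v, mem_orthogonal_iff.mp hw (f x) (Submodule.mem_map_of_mem hx),
    mem_orthogonal_iff.mp hv x hx]

omit [AddCommGroup V] [Module F V] [FiniteDimensional F V] in
theorem ringChar_two (h2 : (2 : F) = 0) : ringChar F = 2 := by
  have h : ringChar F ∣ 2 := by
    apply ringChar.dvd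
    exact_mod_cast h2
  rcases (Nat.dvd_prime Nat.prime_two).mp h with h1 | h1
  · exact absurd h1 (CharP.ringChar_ne_one)
  · exact h1

omit [AddCommGroup V] [Module F V] [FiniteDimensional F V] in
theorem exists_sq (h2 : (2 : F) = 0) (y : F) : ∃ s : F, s * s = y := by
  obtain ⟨r, hr⟩ := FiniteField.isSquare_of_char_two (ringChar_two h2) y
  exact ⟨r, hr.symm⟩

include hQ in
theorem char2_aniso (X : Submodule F V)
    (hnle : ¬ orthogonal (QuadraticMap.polarBilin Q) X ≤ X)
    (hrad : ∀ x ∈ X, x ∈ orthogonal (QuadraticMap.polarBilin Q) X → x ≠ 0 → Q x ≠ 0) :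
    ∃ z ∈ orthogonal (QuadraticMap.polarBilin Q) X, z ∉ X ∧ Q z ≠ 0 := by
  by_contra hcon
  push Not at hcon
  obtain ⟨z0, hz0, hz0X⟩ := SetLike.not_le_iff_exists.mp hnle
  have hR : ∀ r ∈ X, r ∈ orthogonal (QuadraticMap.polarBilin Q) X → r = 0 := by
    intro r hrX hrO
    by_contra hr0
    have h1 : z0 + r ∈ orthogonal (QuadraticMap.polarBilin Q) X := add_mem hz0 hrO
    have h2' : z0 + r ∉ X := fun h => hz0X (by
      have := X.sub_mem h hrX
      simpa using this)
    have h3 := hcon _ h1 h2'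
    have h4 : QuadraticMap.polarBilin Q z0 r = 0 := by
      rw [pb_comm]; exact mem_orthogonal_iff.mp hz0 r hrX
    rw [Q_add, hcon z0 hz0 hz0X, zero_add, h4, add_zero] at h3
    exact hrad r hrX hrO hr0 h3
  have hQ0 : ∀ u ∈ orthogonal (QuadraticMap.polarBilin Q) X, Q u = 0 := by
    intro u hu
    by_cases huX : u ∈ X
    · rw [hR u huX hu, map_zero]
    · exact hcon u hu huX
  have : z0 ∈ orthogonal (QuadraticMap.polarBilin Q) (orthogonal (QuadraticMap.polarBilin Q) X) := by
    rw [mem_orthogonal_iff]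
    intro n hn
    rw [pb_apply, hQ0 _ (add_mem hn hz0), hQ0 n hn, hQ0 z0 hz0]
    ring
  rw [orthogonal_orthogonal hQ (pb_isRefl Q)] at this
  exact hz0X this

include hQ in
/-- Case B in characteristic two -/
theorem step_B_char2 (h2 : (2 : F) = 0) (X : Submodule F V) (f : V →ₗ[F] V)
    (hiso : ∀ x ∈ X, Q (f x) = Q x) (hinj : ∀ x ∈ X, f x = 0 → x = 0)
    (hnle : ¬ orthogonal (QuadraticMap.polarBilin Q) X ≤ X)
    (hrad : ∀ x ∈ X, x ∈ orthogonal (QuadraticMap.polarBilin Q) X → x ≠ 0 → Q x ≠ 0) :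
    ∃ v w : V, v ∉ X ∧
      (∀ x ∈ X, QuadraticMap.polarBilin Q w (f x) = QuadraticMap.polarBilin Q v x) ∧
      Q w = Q v ∧ w ∉ X.map f := by
  have hnleY : ¬ orthogonal (QuadraticMap.polarBilin Q) (X.map f) ≤ X.map f := by
    intro hle
    exact hnle (Cfsg.Agent.S0749.orth_le_of_map_orth_le _ hQ X f
      (fun x hx x' hx' => pb_of_iso Q X f hiso x x' hx hx') hle)
  have hradY : ∀ y ∈ X.map f, y ∈ orthogonal (QuadraticMap.polarBilin Q) (X.map f) → y ≠ 0 →
      Q y ≠ 0 := by
    intro y hy hyO hy0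
    obtain ⟨x, hxX, rfl⟩ := Submodule.mem_map.mp hy
    rw [hiso x hxX]
    apply hrad x hxX
    · rw [mem_orthogonal_iff]
      intro n hn
      rw [← pb_of_iso Q X f hiso n x hn hxX]
      exact mem_orthogonal_iff.mp hyO (f n) (Submodule.mem_map_of_mem hn)
    · intro hx0
      apply hy0
      rw [hx0, map_zero]
  obtain ⟨z, hzO, hzX, hQz⟩ := char2_aniso Q hQ X hnle hrad
  obtain ⟨z', hz'O, hz'Y, hQz'⟩ := char2_aniso Q hQ (X.map f) hnleY hradY
  obtain ⟨s, hs⟩ := exists_sq h2 (Q z / Q z')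
  have hs0 : s ≠ 0 := by
    rintro rfl
    rw [mul_zero] at hs
    exact (div_ne_zero hQz hQz') hs.symm
  apply step_B_of Q X f z (s • z') hzO hzX (Submodule.smul_mem _ _ hz'O)
  · intro hmem
    apply hz'Y
    have := (X.map f).smul_mem s⁻¹ hmem
    rwa [smul_smul, inv_mul_cancel₀ hs0, one_smul] at this
  · rw [Q_smul, hs, div_mul_cancel₀ _ hQz']

omit [Finite F] [AddCommGroup V] [Module F V] [FiniteDimensional F V] in
theorem det_bordered {d : ℕ} (A : Matrix (Fin (d + 1)) (Fin (d + 1)) F)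
    (h0 : ∀ j : Fin d, A 0 j.succ = 0) :
    A.det = A 0 0 * (A.submatrix Fin.succ Fin.succ).det := by
  rw [Matrix.det_succ_row_zero, Fin.sum_univ_succ]
  simp [h0]

include hQ in
/-- the discriminant comparison when the complement is a line -/
theorem disc_lemma (X : Submodule F V) (f : V →ₗ[F] V) (hiso : ∀ x ∈ X, Q (f x) = Q x)
    (v : V) (hvO : v ∈ orthogonal (QuadraticMap.polarBilin Q) X)
    (hvv : QuadraticMap.polarBilin Q v v ≠ 0)
    (hsp : ∀ z : V, ∃ c : F, z + c • v ∈ X) (w1 : V)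
    (hw1 : w1 ∈ orthogonal (QuadraticMap.polarBilin Q) (X.map f)) :
    ∃ e : F, QuadraticMap.polarBilin Q w1 w1 = e * e * QuadraticMap.polarBilin Q v v := by
  classical
  have hvX : v ∉ X := by
    intro h
    exact hvv (mem_orthogonal_iff.mp hvO v h)
  have hli : ∀ (c : F), ∀ x ∈ X, c • v + x = 0 → c = 0 := by
    intro c x hx hc
    have := congrArg (QuadraticMap.polarBilin Q v) hc
    rw [map_add, map_smul, smul_eq_mul, map_zero, pb_comm Q v x, mem_orthogonal_iff.mp hvO x hx,
      add_zero] at this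
    exact (mul_eq_zero.mp this).resolve_right hvv
  let bX := Module.finBasis F X
  let b := Basis.mkFinCons v bX hli hsp
  have hb0 : b 0 = v := by
    simp [b, Basis.coe_mkFinCons]
  have hbs : ∀ i, b (Fin.succ i) = (bX i : V) := by
    intro i
    simp [b, Basis.coe_mkFinCons]
  obtain ⟨π0, hπ0v, hπ0X⟩ := Submodule.exists_dual_map_eq_bot_of_notMem hvX inferInstance
  set π : Module.Dual F V := (π0 v)⁻¹ • π0 with hπ
  have hπv : π v = 1 := by
    simp [hπ, inv_mul_cancel₀ hπ0v]
  have hπX : ∀ x ∈ X, π x = 0 := by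
    intro x hx
    have : π0 x ∈ X.map π0 := Submodule.mem_map_of_mem hx
    rw [hπ0X, Submodule.mem_bot] at this
    simp [hπ, this]
  set h : V →ₗ[F] V := f + (LinearMap.toSpanSingleton F V (w1 - f v)).comp π with hh
  have hhX : ∀ x ∈ X, h x = f x := by
    intro x hx
    simp [hh, hπX x hx]
  have hhv : h v = w1 := by
    simp [hh, hπv]
  set M := LinearMap.BilinForm.toMatrix b (QuadraticMap.polarBilin Q) with hM
  set M' := LinearMap.BilinForm.toMatrix b (LinearMap.BilinForm.comp (QuadraticMap.polarBilin Q) h h) with hM'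
  have hcomp : M' = Matrix.transpose (LinearMap.toMatrix b b h) * M * LinearMap.toMatrix b b h :=
    LinearMap.BilinForm.toMatrix_comp b b _ h h
  have hdet : M'.det = (LinearMap.toMatrix b b h).det * M.det * (LinearMap.toMatrix b b h).det := by
    rw [hcomp, Matrix.det_mul, Matrix.det_mul, Matrix.det_transpose]
  have hM0 : ∀ j : Fin (finrank F X), M 0 j.succ = 0 := by
    intro j
    rw [hM, LinearMap.BilinForm.toMatrix_apply, hb0, hbs, pb_comm]
    exact mem_orthogonal_iff.mp hvO _ (bX j).2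
  have hM'0 : ∀ j : Fin (finrank F X), M' 0 j.succ = 0 := by
    intro j
    rw [hM', LinearMap.BilinForm.toMatrix_apply, LinearMap.BilinForm.comp_apply, hb0, hbs, hhv,
      hhX _ (bX j).2, pb_comm]
    exact mem_orthogonal_iff.mp hw1 _ (Submodule.mem_map_of_mem (bX j).2)
  have hsub : M'.submatrix Fin.succ Fin.succ = M.submatrix Fin.succ Fin.succ := by
    ext i j
    simp only [Matrix.submatrix_apply]
    rw [hM', hM, LinearMap.BilinForm.toMatrix_apply, LinearMap.BilinForm.toMatrix_apply,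
      LinearMap.BilinForm.comp_apply, hbs, hbs, hhX _ (bX i).2, hhX _ (bX j).2,
      pb_of_iso Q X f hiso _ _ (bX i).2 (bX j).2]
  have hM00 : M 0 0 = QuadraticMap.polarBilin Q v v := by
    rw [hM, LinearMap.BilinForm.toMatrix_apply, hb0]
  have hM'00 : M' 0 0 = QuadraticMap.polarBilin Q w1 w1 := by
    rw [hM', LinearMap.BilinForm.toMatrix_apply, LinearMap.BilinForm.comp_apply, hb0, hhv]
  have hdM : M.det ≠ 0 := (LinearMap.BilinForm.nondegenerate_iff_det_ne_zero b).mp hQ
  rw [det_bordered M hM0] at hdM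
  rw [det_bordered M' hM'0, det_bordered M hM0, hsub, hM00, hM'00] at hdet
  have hD : (M.submatrix Fin.succ Fin.succ).det ≠ 0 := right_ne_zero_of_mul hdM
  refine ⟨(LinearMap.toMatrix b b h).det, ?_⟩
  apply mul_right_cancel₀ hD
  rw [hdet]
  ring

include hQ in
theorem odd_aniso (X : Submodule F V) (hX : X ≠ ⊤)
    (hrad0 : ∀ x ∈ X, x ∈ orthogonal (QuadraticMap.polarBilin Q) X → x = 0) :
    ∃ v ∈ orthogonal (QuadraticMap.polarBilin Q) X, Q v ≠ 0 := by
  by_contra hcon
  push Not at hcon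
  have hle : orthogonal (QuadraticMap.polarBilin Q) X ≤ X := by
    intro z hz
    have : z ∈ orthogonal (QuadraticMap.polarBilin Q)
        (orthogonal (QuadraticMap.polarBilin Q) X) := by
      rw [mem_orthogonal_iff]
      intro n hn
      rw [pb_apply, hcon _ (add_mem hn hz), hcon n hn, hcon z hz]
      ring
    rwa [orthogonal_orthogonal hQ (pb_isRefl Q)] at this
  have hbot : orthogonal (QuadraticMap.polarBilin Q) X = ⊥ := by
    rw [eq_bot_iff]
    intro z hz
    exact (Submodule.mem_bot F).mpr (hrad0 z (hle hz) hz)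
  apply hX
  rw [← orthogonal_orthogonal hQ (pb_isRefl Q) X, hbot, orthogonal_bot]

omit [Finite F] in
theorem finrank_map_eq (X : Submodule F V) (f : V →ₗ[F] V) (hinj : ∀ x ∈ X, f x = 0 → x = 0) :
    finrank F (X.map f) = finrank F X := by
  have hinj' : Function.Injective (f.domRestrict X) := by
    rw [← LinearMap.ker_eq_bot, LinearMap.ker_eq_bot']
    intro x hx
    have : f x = 0 := hx
    exact Subtype.ext (hinj x x.2 this)
  rw [← LinearMap.range_domRestrict]
  exact LinearMap.finrank_range_of_inj hinj'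

include hQ in
/-- Case B in odd characteristic -/
theorem step_B_odd (h2 : (2 : F) ≠ 0) (X : Submodule F V) (hX : X ≠ ⊤) (f : V →ₗ[F] V)
    (hiso : ∀ x ∈ X, Q (f x) = Q x) (hinj : ∀ x ∈ X, f x = 0 → x = 0)
    (hrad0 : ∀ x ∈ X, x ∈ orthogonal (QuadraticMap.polarBilin Q) X → x = 0) :
    ∃ v w : V, v ∉ X ∧
      (∀ x ∈ X, QuadraticMap.polarBilin Q w (f x) = QuadraticMap.polarBilin Q v x) ∧
      Q w = Q v ∧ w ∉ X.map f := by
  have hfr := finrank_map_eq X f hinj
  have hXlt : finrank F X < finrank F V := Submodule.finrank_lt hX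
  have hY : X.map f ≠ ⊤ := by
    intro htop
    rw [htop, finrank_top] at hfr
    omega
  have hrad0Y : ∀ y ∈ X.map f, y ∈ orthogonal (QuadraticMap.polarBilin Q) (X.map f) → y = 0 := by
    intro y hy hyO
    obtain ⟨x, hxX, rfl⟩ := Submodule.mem_map.mp hy
    have : x = 0 := by
      apply hrad0 x hxX
      rw [mem_orthogonal_iff]
      intro n hn
      rw [← pb_of_iso Q X f hiso n x hn hxX]
      exact mem_orthogonal_iff.mp hyO (f n) (Submodule.mem_map_of_mem hn)
    rw [this, map_zero]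
  have hfO := finrank_orthogonal hQ X
  have hfO' := finrank_orthogonal hQ (X.map f)
  have hdisj : ∀ (Z : Submodule F V),
      (∀ x ∈ Z, x ∈ orthogonal (QuadraticMap.polarBilin Q) Z → x = 0) →
      (LinearMap.BilinForm.restrict (QuadraticMap.polarBilin Q)
        (orthogonal (QuadraticMap.polarBilin Q) Z)).Nondegenerate := by
    intro Z hZ
    apply nondegenerate_restrict_of_disjoint_orthogonal _ (pb_isRefl Q)
    rw [orthogonal_orthogonal hQ (pb_isRefl Q), Submodule.disjoint_def]
    intro x hxO hxZ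
    exact hZ x hxZ hxO
  by_cases hr : 2 ≤ finrank F (orthogonal (QuadraticMap.polarBilin Q) X)
  · obtain ⟨v, hv⟩ := Cfsg.Agent.S0756.exists_unit_vector h2
      (LinearMap.BilinForm.restrict (QuadraticMap.polarBilin Q)
        (orthogonal (QuadraticMap.polarBilin Q) X))
      (LinearMap.BilinForm.IsSymm.restrict (pb_isSymm' Q) _) (hdisj X hrad0) hr
    obtain ⟨w, hw⟩ := Cfsg.Agent.S0756.exists_unit_vector h2
      (LinearMap.BilinForm.restrict (QuadraticMap.polarBilin Q)
        (orthogonal (QuadraticMap.polarBilin Q) (X.map f)))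
      (LinearMap.BilinForm.IsSymm.restrict (pb_isSymm' Q) _) (hdisj (X.map f) hrad0Y) (by omega)
    have hv' : QuadraticMap.polarBilin Q (v : V) (v : V) = 1 := hv
    have hw' : QuadraticMap.polarBilin Q (w : V) (w : V) = 1 := hw
    apply step_B_of Q X f v.1 w.1 v.2 ?_ w.2 ?_ ?_
    · intro hvX
      rw [hrad0 v.1 hvX v.2, map_zero] at hv'
      exact zero_ne_one hv'
    · intro hwY
      rw [hrad0Y w.1 hwY w.2, map_zero] at hw'
      exact zero_ne_one hw'
    · rw [pb_self] at hv' hw'
      exact mul_left_cancel₀ h2 (hw'.trans hv'.symm)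
  · have hr1 : finrank F (orthogonal (QuadraticMap.polarBilin Q) X) = 1 := by omega
    obtain ⟨v, hvO, hQv⟩ := odd_aniso Q hQ X hX hrad0
    obtain ⟨w1, hw1O, hQw1⟩ := odd_aniso Q hQ (X.map f) hY hrad0Y
    have hvv : QuadraticMap.polarBilin Q v v ≠ 0 := by
      rw [pb_self]; exact mul_ne_zero h2 hQv
    have hv0 : (⟨v, hvO⟩ : orthogonal (QuadraticMap.polarBilin Q) X) ≠ 0 := by
      intro h
      have : v = 0 := congrArg Subtype.val h
      rw [this, map_zero] at hQv
      exact hQv rfl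
    have hspan := (finrank_eq_one_iff_of_nonzero' _ hv0).mp hr1
    have hsp : ∀ z : V, ∃ c : F, z + c • v ∈ X := by
      intro z
      refine ⟨-(QuadraticMap.polarBilin Q v z) / QuadraticMap.polarBilin Q v v, ?_⟩
      rw [← orthogonal_orthogonal hQ (pb_isRefl Q) X, mem_orthogonal_iff]
      intro n hn
      obtain ⟨c', hc'⟩ := hspan ⟨n, hn⟩
      have hn' : n = c' • v := (congrArg Subtype.val hc').symm
      rw [hn', map_smul, LinearMap.smul_apply, map_add, map_smul, smul_eq_mul, smul_eq_mul,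
        div_mul_cancel₀ _ hvv]
      ring
    obtain ⟨e, he⟩ := disc_lemma Q hQ X f hiso v hvO hvv hsp w1 hw1O
    have hw1w1 : QuadraticMap.polarBilin Q w1 w1 ≠ 0 := by
      rw [pb_self]; exact mul_ne_zero h2 hQw1
    have he0 : e ≠ 0 := by
      rintro rfl
      rw [zero_mul, zero_mul] at he
      exact hw1w1 he
    have hQw : Q (e⁻¹ • w1) = Q v := by
      rw [Q_smul]
      rw [pb_self, pb_self] at he
      have : Q w1 = e * e * Q v := by
        apply mul_left_cancel₀ h2
        rw [he]; ring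
      rw [this]
      field_simp
    apply step_B_of Q X f v (e⁻¹ • w1) hvO ?_ (Submodule.smul_mem _ _ hw1O) ?_ hQw
    · intro hvX
      rw [hrad0 v hvX hvO, map_zero] at hQv
      exact hQv rfl
    · intro hwY
      have := hrad0Y _ hwY (Submodule.smul_mem _ _ hw1O)
      rw [this, map_zero] at hQw
      exact hQv hQw.symm

end main

section char2
variable {F : Type*} [Field F] [Finite F] (h2 : (2 : F) = 0)

/-- the Artin–Schreier map -/
def asHom : F →+ F where
  toFun s := s * s + s
  map_zero' := by simp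
  map_add' a b := by linear_combination (a * b) * h2

theorem asHom_apply (s : F) : asHom h2 s = s * s + s := rfl

theorem asHom_index : (asHom h2).range.index = 2 := by
  classical
  have hker : Nat.card (asHom h2).ker = 2 := by
    rw [Nat.card_eq_two_iff]
    refine ⟨⟨0, by simp [AddMonoidHom.mem_ker]⟩, ⟨1, by
      rw [AddMonoidHom.mem_ker, asHom_apply]
      linear_combination h2⟩, ?_, ?_⟩
    · intro h
      have := congrArg Subtype.val h
      simp at this
    · rw [Set.eq_univ_iff_forall]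
      rintro ⟨s, hs⟩
      rw [AddMonoidHom.mem_ker, asHom_apply] at hs
      have hs' : s * (s + 1) = 0 := by linear_combination hs
      rcases mul_eq_zero.mp hs' with h | h
      · left
        exact Subtype.ext h
      · right
        apply Subtype.ext
        show s = 1
        linear_combination h - h2
  have h1 := AddSubgroup.card_mul_index (asHom h2).ker
  have h3 := AddSubgroup.card_mul_index (asHom h2).range
  rw [AddSubgroup.index_ker, hker] at h1
  have hpos : 0 < Nat.card (asHom h2).range := Nat.card_pos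
  have : Nat.card (asHom h2).range * (asHom h2).range.index = Nat.card (asHom h2).range * 2 := by
    rw [h3, ← h1]; ring
  exact Nat.eq_of_mul_eq_mul_left hpos this

open Classical in
/-- the quadratic additive character with kernel the Artin–Schreier subgroup -/
noncomputable def psi (y : F) : ℤ := if y ∈ (asHom h2).range then 1 else -1

theorem psi_add (x y : F) : psi h2 (x + y) = psi h2 x * psi h2 y := by
  unfold psi
  have := AddSubgroup.add_mem_iff_of_index_two (asHom_index h2) (a := x) (b := y)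
  by_cases hx : x ∈ (asHom h2).range <;> by_cases hy : y ∈ (asHom h2).range <;>
    simp [hx, hy, this]

theorem psi_as (s : F) : psi h2 (s * s + s) = 1 := by
  unfold psi
  rw [if_pos]
  exact ⟨s, rfl⟩

theorem psi_zero : psi h2 0 = 1 := by
  have := psi_as h2 0
  simpa using this

theorem psi_sq (y : F) : psi h2 y * psi h2 y = 1 := by
  unfold psi
  split_ifs <;> simp

theorem psi_nontriv : ∃ y : F, psi h2 y = -1 := by
  have hne : (asHom h2).range ≠ ⊤ := by
    intro h
    have := asHom_index h2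
    rw [h, AddSubgroup.index_top] at this
    omega
  obtain ⟨y, hy⟩ : ∃ y, y ∉ (asHom h2).range := by
    by_contra hcon
    push Not at hcon
    exact hne (eq_top_iff.mpr fun y _ => hcon y)
  exact ⟨y, by unfold psi; rw [if_neg hy]⟩

theorem psi_eq_one_iff (y : F) : psi h2 y = 1 ↔ ∃ s : F, s * s + s = y := by
  unfold psi
  constructor
  · intro h
    by_cases hy : y ∈ (asHom h2).range
    · obtain ⟨s, hs⟩ := hy
      exact ⟨s, hs⟩
    · rw [if_neg hy] at h
      omega
  · rintro ⟨s, rfl⟩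
    rw [if_pos]
    exact ⟨s, rfl⟩

/-- a non-trivial multiplicative-valued function on a finite additive group sums to zero -/
theorem sum_eq_zero_of_nontriv {G : Type*} [AddCommGroup G] [Fintype G] (χ : G → ℤ)
    (hadd : ∀ x y, χ (x + y) = χ x * χ y) (g0 : G) (hg0 : χ g0 = -1) : ∑ g, χ g = 0 := by
  have h1 : ∑ g, χ g = ∑ g, χ (g + g0) :=
    (Equiv.sum_comp (Equiv.addRight g0) χ).symm
  have h2' : ∑ g, χ (g + g0) = - ∑ g, χ g := by
    rw [← Finset.sum_neg_distrib]
    apply Finset.sum_congr rfl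
    intro g _
    rw [hadd, hg0]
    ring
  rw [h2'] at h1
  omega

/-- scaling the argument by anything but 0 and 1 breaks invariance -/
theorem psi_rho (ρ : F) (hρ0 : ρ ≠ 0) (hρ1 : ρ ≠ 1) : ∃ s : F, psi h2 (ρ * (s * s + s)) = -1 := by
  obtain ⟨σ, hσ⟩ : ∃ σ : F, σ * σ = ρ := by
    have hF : ringChar F = 2 := by
      have h : ringChar F ∣ 2 := by
        apply ringChar.dvd
        exact_mod_cast h2
      rcases (Nat.dvd_prime Nat.prime_two).mp h with h1 | h1
      · exact absurd h1 (CharP.ringChar_ne_one)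
      · exact h1
    obtain ⟨r, hr⟩ := FiniteField.isSquare_of_char_two hF ρ
    exact ⟨r, hr.symm⟩
  have hne : ρ + σ ≠ 0 := by
    intro h
    have h1 : ρ = σ := by linear_combination h - σ * h2
    rw [← h1] at hσ
    have h3 : ρ * (ρ - 1) = 0 := by linear_combination hσ
    rcases mul_eq_zero.mp h3 with h4 | h4
    · exact hρ0 h4
    · exact hρ1 (sub_eq_zero.mp h4)
  obtain ⟨y1, hy1⟩ := psi_nontriv h2
  refine ⟨y1 / (ρ + σ), ?_⟩
  have : ρ * ((y1 / (ρ + σ)) * (y1 / (ρ + σ)) + y1 / (ρ + σ)) =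
      ((σ * (y1 / (ρ + σ))) * (σ * (y1 / (ρ + σ))) + σ * (y1 / (ρ + σ))) + y1 := by
    have e1 : (ρ + σ) * (y1 / (ρ + σ)) = y1 := mul_div_cancel₀ _ hne
    linear_combination (-((y1 / (ρ + σ)) * (y1 / (ρ + σ)))) * hσ + e1 - (σ * (y1 / (ρ + σ))) * h2
  rw [this, psi_add, psi_as, hy1]
  ring

end char2

section arf
variable {F V : Type*} [Field F] [Finite F] [AddCommGroup V] [Module F V] [FiniteDimensional F V]
  (Q : QuadraticForm F V) (hQ : (QuadraticMap.polarBilin Q).Nondegenerate) (h2 : (2 : F) = 0)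

include hQ in
theorem gauss_sq [Fintype V] (μ : F) (hμ : μ ≠ 0) :
    (∑ u : V, psi h2 (μ * Q u)) * (∑ u : V, psi h2 (μ * Q u)) = (Fintype.card V : ℤ) := by
  classical
  rw [Finset.sum_mul_sum, Finset.sum_comm]
  have step1 : ∀ u' : V, ∑ u : V, psi h2 (μ * Q u) * psi h2 (μ * Q u') =
      ∑ z : V, psi h2 (μ * Q z) * psi h2 (μ * QuadraticMap.polarBilin Q z u') := by
    intro u'
    rw [← Equiv.sum_comp (Equiv.addRight u')]
    apply Finset.sum_congr rfl
    intro z _
    simp only [Equiv.coe_addRight]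
    rw [Q_add, mul_add, mul_add, psi_add, psi_add]
    have := psi_sq h2 (μ * Q u')
    linear_combination (psi h2 (μ * Q z) * psi h2 (μ * QuadraticMap.polarBilin Q z u')) * this
  rw [Finset.sum_congr rfl (fun u' _ => step1 u'), Finset.sum_comm]
  have step2 : ∀ z : V, ∑ u' : V, psi h2 (μ * Q z) * psi h2 (μ * QuadraticMap.polarBilin Q z u') =
      if z = 0 then (Fintype.card V : ℤ) else 0 := by
    intro z
    rw [← Finset.mul_sum]
    split_ifs with hz
    · subst hz
      simp [psi_zero]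
    · have hinner : ∑ u' : V, psi h2 (μ * QuadraticMap.polarBilin Q z u') = 0 := by
        obtain ⟨u0, hu0⟩ : ∃ u0 : V, QuadraticMap.polarBilin Q z u0 ≠ 0 := by
          by_contra hcon
          push Not at hcon
          exact hz (hQ.1 z hcon)
        obtain ⟨y1, hy1⟩ := psi_nontriv h2
        apply sum_eq_zero_of_nontriv (fun u' : V => psi h2 (μ * QuadraticMap.polarBilin Q z u'))
          (fun x y => by
            show psi h2 (μ * QuadraticMap.polarBilin Q z (x + y)) = _
            rw [map_add, mul_add, psi_add])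
          ((y1 / (μ * QuadraticMap.polarBilin Q z u0)) • u0)
        show psi h2 (μ * QuadraticMap.polarBilin Q z
          ((y1 / (μ * QuadraticMap.polarBilin Q z u0)) • u0)) = -1
        rw [map_smul, smul_eq_mul]
        have : μ * (y1 / (μ * QuadraticMap.polarBilin Q z u0) * QuadraticMap.polarBilin Q z u0) = y1 := by
          field_simp
        rw [this, hy1]
      rw [hinner, mul_zero]
  rw [Finset.sum_congr rfl (fun z _ => step2 z)]
  simp

omit [AddCommGroup V] [Module F V] [FiniteDimensional F V] in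
theorem exists_r (a b : F) (ha : a ≠ 0) (hb : b ≠ 0) (p : F) (hp : p ≠ 1) :
    ∃ r : F, psi h2 (a / (b * b) * (r * r * a + r * (p * b))) = -1 := by
  by_cases hp0 : p = 0
  · subst hp0
    obtain ⟨y1, hy1⟩ := psi_nontriv h2
    obtain ⟨σ, hσ⟩ := exists_sq h2 y1
    refine ⟨σ * b / a, ?_⟩
    have : a / (b * b) * (σ * b / a * (σ * b / a) * a + σ * b / a * (0 * b)) = y1 := by
      rw [← hσ]
      field_simp
      ring
    rw [this, hy1]
  · have hρ0 : p * p ≠ 0 := mul_ne_zero hp0 hp0
    have hρ1 : p * p ≠ 1 := by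
      intro h
      apply hp
      have h3 : (p - 1) * (p - 1) = 0 := by linear_combination h + (1 - p) * h2
      rcases mul_eq_zero.mp h3 with h4 | h4 <;> exact sub_eq_zero.mp h4
    obtain ⟨s, hs⟩ := psi_rho h2 (p * p) hρ0 hρ1
    refine ⟨b / a * p * s, ?_⟩
    have : a / (b * b) * (b / a * p * s * (b / a * p * s) * a + b / a * p * s * (p * b)) =
        p * p * (s * s + s) := by
      field_simp
    rw [this, hs]

include hQ in
theorem arf_solvable (h2 : (2 : F) = 0) (X : Submodule F V) (f : V →ₗ[F] V)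
    (hiso : ∀ x ∈ X, Q (f x) = Q x)
    (hinj : ∀ x ∈ X, f x = 0 → x = 0) (x0 : V) (hx0X : x0 ∈ X)
    (hx0 : ∀ x ∈ X, QuadraticMap.polarBilin Q x0 x = 0)
    (hx0' : ∀ u : V, QuadraticMap.polarBilin Q x0 u = 0 → u ∈ X)
    (hQx0 : Q x0 ≠ 0) (v : V) (hvX : v ∉ X) (w0 : V)
    (hw0 : ∀ x ∈ X, QuadraticMap.polarBilin Q w0 (f x) = QuadraticMap.polarBilin Q v x) :
    ∃ t : F, Q (w0 + t • f x0) = Q v := by
  classical
  haveI : Finite V := Module.finite_of_finite F
  letI : Fintype V := Fintype.ofFinite V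
  letI : Fintype F := Fintype.ofFinite F
  letI : Fintype X := Fintype.ofFinite X
  have hb0 : QuadraticMap.polarBilin Q v x0 ≠ 0 := by
    intro h
    apply hvX
    apply hx0'
    rw [pb_comm]; exact h
  have hbx0v : QuadraticMap.polarBilin Q x0 v = QuadraticMap.polarBilin Q v x0 := pb_comm Q x0 v
  generalize hbdef : QuadraticMap.polarBilin Q v x0 = b at hb0 hbx0v
  generalize hadef : Q x0 = a at hQx0
  have hμ0 : a / (b * b) ≠ 0 := div_ne_zero hQx0 (mul_ne_zero hb0 hb0)
  generalize hμdef : a / (b * b) = μ at hμ0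
  -- the partial sums
  have hS0 : ∀ p : F, p ≠ 1 → ∑ x : X, psi h2 (μ * Q (p • v + (x : V))) = 0 := by
    intro p hp
    obtain ⟨r, hr⟩ := exists_r h2 a b hQx0 hb0 p hp
    rw [hμdef] at hr
    have hmem : r • x0 ∈ X := X.smul_mem r hx0X
    have h1 : ∑ x : X, psi h2 (μ * Q (p • v + (x : V))) =
        ∑ x : X, psi h2 (μ * Q (p • v + ((x + ⟨r • x0, hmem⟩ : X) : V))) :=
      (Equiv.sum_comp (Equiv.addRight (⟨r • x0, hmem⟩ : X))
        (fun x : X => psi h2 (μ * Q (p • v + (x : V))))).symm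
    have h3 : ∀ x : X, psi h2 (μ * Q (p • v + ((x + ⟨r • x0, hmem⟩ : X) : V))) =
        - psi h2 (μ * Q (p • v + (x : V))) := by
      intro x
      have e : Q (p • v + ((x + ⟨r • x0, hmem⟩ : X) : V)) =
          Q (p • v + (x : V)) + (r * r * a + r * (p * b)) := by
        have e1 : (p • v + ((x + ⟨r • x0, hmem⟩ : X) : V)) = (p • v + (x : V)) + r • x0 := by
          simp [add_assoc]
        rw [e1, Q_add_smul, LinearMap.map_add₂, LinearMap.map_smul₂,
          smul_eq_mul, pb_comm Q (x : V) x0, hx0 x x.2, hbdef, hadef]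
        ring
      rw [e, mul_add, psi_add, hr]
      ring
    rw [Finset.sum_congr rfl (fun x _ => h3 x), Finset.sum_neg_distrib] at h1
    omega
  have hbij1 : Function.Bijective (fun px : F × X => px.1 • v + (px.2 : V)) := by
    constructor
    · rintro ⟨p, x⟩ ⟨p', x'⟩ h
      simp only at h
      have h4 := congrArg (fun u => QuadraticMap.polarBilin Q x0 u) h
      simp only [map_add, map_smul, smul_eq_mul, hx0 x x.2, hx0 x' x'.2, hbx0v, add_zero] at h4
      have hp : p = p' := mul_right_cancel₀ hb0 h4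
      subst hp
      have : (x : V) = x' := add_left_cancel h
      rw [Subtype.ext this]
    · intro u
      have hmem : u - (QuadraticMap.polarBilin Q x0 u / b) • v ∈ X := by
        apply hx0'
        rw [map_sub, map_smul, smul_eq_mul, hbx0v, div_mul_cancel₀ _ hb0, sub_self]
      refine ⟨(QuadraticMap.polarBilin Q x0 u / b, ⟨_, hmem⟩), ?_⟩
      simp
  have hbij2 : Function.Bijective (fun px : F × X => px.1 • w0 + f (px.2 : V)) := by
    rw [Fintype.bijective_iff_injective_and_card]
    refine ⟨?_, Fintype.card_of_bijective hbij1⟩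
    rintro ⟨p, x⟩ ⟨p', x'⟩ h
    simp only at h
    have h4 := congrArg (fun u => QuadraticMap.polarBilin Q u (f x0)) h
    simp only [map_add, map_smul, LinearMap.add_apply, LinearMap.smul_apply, smul_eq_mul,
      hw0 x0 hx0X, hbdef, pb_of_iso Q X f hiso _ _ x.2 hx0X, pb_of_iso Q X f hiso _ _ x'.2 hx0X,
      pb_comm Q (x : V) x0, pb_comm Q (x' : V) x0, hx0 x x.2, hx0 x' x'.2, add_zero] at h4
    have hp : p = p' := mul_right_cancel₀ hb0 h4
    subst hp
    have h5 : f (x : V) = f (x' : V) := add_left_cancel h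
    have h6 : f ((x : V) - x') = 0 := by rw [map_sub, h5, sub_self]
    have h7 := hinj _ (X.sub_mem x.2 x'.2) h6
    rw [Subtype.ext (sub_eq_zero.mp h7)]
  have hT1 : ∑ u : V, psi h2 (μ * Q u) = ∑ x : X, psi h2 (μ * Q ((1 : F) • v + (x : V))) := by
    rw [← hbij1.sum_comp (fun u => psi h2 (μ * Q u)), Fintype.sum_prod_type]
    exact Fintype.sum_eq_single 1 (fun p hp => hS0 p hp)
  have hT2 : ∑ u : V, psi h2 (μ * Q u) =
      psi h2 (μ * (Q w0 - Q v)) * ∑ x : X, psi h2 (μ * Q ((1 : F) • v + (x : V))) := by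
    rw [← hbij2.sum_comp (fun u => psi h2 (μ * Q u)), Fintype.sum_prod_type]
    have hterm : ∀ p : F, ∑ x : X, psi h2 (μ * Q (p • w0 + f (x : V))) =
        psi h2 (μ * (p * p * (Q w0 - Q v))) * ∑ x : X, psi h2 (μ * Q (p • v + (x : V))) := by
      intro p
      rw [Finset.mul_sum]
      apply Finset.sum_congr rfl
      intro x _
      have e : Q (p • w0 + f (x : V)) = p * p * (Q w0 - Q v) + Q (p • v + (x : V)) := by
        rw [add_comm (p • w0), add_comm (p • v), Q_add_smul, Q_add_smul, hiso x x.2,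
          pb_comm Q (f x) w0, hw0 x x.2, pb_comm Q (x : V) v]
        ring
      rw [e, mul_add, psi_add]
    rw [Finset.sum_congr rfl (fun p _ => hterm p),
      Fintype.sum_eq_single 1 (fun p hp => by rw [hS0 p hp, mul_zero])]
    simp
  have hTne : ∑ u : V, psi h2 (μ * Q u) ≠ 0 := by
    intro h
    have h8 := gauss_sq Q hQ h2 μ hμ0
    rw [h, mul_zero] at h8
    have h9 : (Fintype.card V : ℤ) ≠ 0 := by exact_mod_cast Fintype.card_ne_zero
    exact h9 h8.symm
  have hpsi : psi h2 (μ * (Q w0 - Q v)) = 1 := by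
    rw [hT1] at hT2 hTne
    have h8 : (psi h2 (μ * (Q w0 - Q v)) - 1) *
        ∑ x : X, psi h2 (μ * Q ((1 : F) • v + (x : V))) = 0 := by
      linear_combination -hT2
    rcases mul_eq_zero.mp h8 with h | h
    · linarith
    · exact absurd h hTne
  obtain ⟨s, hs⟩ := (psi_eq_one_iff h2 _).mp hpsi
  refine ⟨b / a * s, ?_⟩
  rw [Q_add_smul, hiso x0 hx0X, hw0 x0 hx0X, hbdef, hadef]
  have key : b / a * s * (b / a * s) * a + b / a * s * b = (b * b / a) * (s * s + s) := by
    field_simp
  have key2 : (b * b / a) * (μ * (Q w0 - Q v)) = Q w0 - Q v := by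
    rw [← hμdef]
    field_simp
  have : Q w0 + b / a * s * (b / a * s) * a + b / a * s * b = Q w0 + (Q w0 - Q v) := by
    rw [add_assoc, key, hs, key2]
  rw [this]
  linear_combination (Q w0 - Q v) * h2

include hQ in
/-- Case C: totally isotropic-looking radical spanned by a nonsingular vector (characteristic 2) -/
theorem step_C (X : Submodule F V) (hX : X ≠ ⊤) (f : V →ₗ[F] V)
    (hiso : ∀ x ∈ X, Q (f x) = Q x) (hinj : ∀ x ∈ X, f x = 0 → x = 0)
    (hle : orthogonal (QuadraticMap.polarBilin Q) X ≤ X)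
    (hrad : ∀ x ∈ X, x ∈ orthogonal (QuadraticMap.polarBilin Q) X → x ≠ 0 → Q x ≠ 0) :
    ∃ v w : V, v ∉ X ∧
      (∀ x ∈ X, QuadraticMap.polarBilin Q w (f x) = QuadraticMap.polarBilin Q v x) ∧
      Q w = Q v ∧ w ∉ X.map f := by
  have hne : orthogonal (QuadraticMap.polarBilin Q) X ≠ ⊥ := by
    intro hbot
    apply hX
    rw [← orthogonal_orthogonal hQ (pb_isRefl Q) X, hbot, orthogonal_bot]
  obtain ⟨x0, hx0O, hx00⟩ := Submodule.exists_mem_ne_zero_of_ne_bot hne
  have hx0X : x0 ∈ X := hle hx0O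
  have hQx0 : Q x0 ≠ 0 := hrad x0 hx0X hx0O hx00
  have hx0 : ∀ x ∈ X, QuadraticMap.polarBilin Q x0 x = 0 := by
    intro x hx
    rw [pb_comm]
    exact mem_orthogonal_iff.mp hx0O x hx
  have h2 : (2 : F) = 0 := by
    have h1 := hx0 x0 hx0X
    rw [pb_self] at h1
    rcases mul_eq_zero.mp h1 with h | h
    · exact h
    · exact absurd h hQx0
  have hspan : ∀ n ∈ orthogonal (QuadraticMap.polarBilin Q) X, ∃ s : F, n = s • x0 := by
    intro n hn
    obtain ⟨s, hs⟩ := exists_sq h2 (Q n / Q x0)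
    have hnX : n ∈ X := hle hn
    have h1 : n + s • x0 ∈ X := X.add_mem hnX (X.smul_mem s hx0X)
    have h3 : n + s • x0 ∈ orthogonal (QuadraticMap.polarBilin Q) X :=
      add_mem hn (Submodule.smul_mem _ s hx0O)
    have h4 : Q (n + s • x0) = 0 := by
      rw [Q_add_smul, pb_comm, hx0 n hnX, hs, div_mul_cancel₀ _ hQx0]
      linear_combination Q n * h2
    have h5 : n + s • x0 = 0 := by
      by_contra h6
      exact hrad _ h1 h3 h6 h4
    refine ⟨s, ?_⟩
    have h7 : n = -(s • x0) := eq_neg_of_add_eq_zero_left h5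
    have h8 : -(s • x0) = s • x0 := by
      rw [neg_eq_iff_add_eq_zero, ← two_smul F (s • x0), h2, zero_smul]
    rw [h7, h8]
  have hx0' : ∀ u : V, QuadraticMap.polarBilin Q x0 u = 0 → u ∈ X := by
    intro u hu
    rw [← orthogonal_orthogonal hQ (pb_isRefl Q) X, mem_orthogonal_iff]
    intro n hn
    obtain ⟨s, rfl⟩ := hspan n hn
    show QuadraticMap.polarBilin Q (s • x0) u = 0
    rw [LinearMap.map_smul₂, hu, smul_zero]
  obtain ⟨v, hvX⟩ : ∃ v : V, v ∉ X := by
    by_contra hcon
    push Not at hcon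
    exact hX (eq_top_iff.mpr fun u _ => hcon u)
  have hvx0 : QuadraticMap.polarBilin Q v x0 ≠ 0 := by
    intro h
    apply hvX
    apply hx0'
    rw [pb_comm]; exact h
  obtain ⟨w0, hw0⟩ := riesz_X Q hQ X f hinj v
  obtain ⟨t, ht⟩ := arf_solvable Q hQ h2 X f hiso hinj x0 hx0X hx0 hx0' hQx0 v hvX w0 hw0
  have hwprop : ∀ x ∈ X, QuadraticMap.polarBilin Q (w0 + t • f x0) (f x) =
      QuadraticMap.polarBilin Q v x := by
    intro x hx
    rw [LinearMap.map_add₂, LinearMap.map_smul₂, pb_of_iso Q X f hiso x0 x hx0X hx, hx0 x hx,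
      smul_zero, add_zero, hw0 x hx]
  exact ⟨v, w0 + t • f x0, hvX, hwprop, ht,
    notin_of_rad Q X f hiso v _ hwprop x0 hx0X hx0 hvx0⟩

include hQ in
theorem stepProp_holds : StepProp Q := by
  intro X hX f hiso hinj
  by_cases hA : ∃ x0 ∈ X, x0 ≠ 0 ∧ (∀ x ∈ X, QuadraticMap.polarBilin Q x0 x = 0) ∧ Q x0 = 0
  · obtain ⟨x0, hx0X, hx00, hx0, hQx0⟩ := hA
    exact step_A Q hQ X f hiso hinj x0 hx0X hx00 hx0 hQx0
  · have hrad : ∀ x ∈ X, x ∈ orthogonal (QuadraticMap.polarBilin Q) X → x ≠ 0 → Q x ≠ 0 := by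
      intro x hxX hxO hx0 hQx
      exact hA ⟨x, hxX, hx0, fun y hy => by
        rw [pb_comm]; exact mem_orthogonal_iff.mp hxO y hy, hQx⟩
    by_cases h2 : (2 : F) = 0
    · by_cases hle : orthogonal (QuadraticMap.polarBilin Q) X ≤ X
      · exact step_C Q hQ X hX f hiso hinj hle hrad
      · exact step_B_char2 Q hQ h2 X f hiso hinj hle hrad
    · apply step_B_odd Q hQ h2 X hX f hiso hinj
      intro x hxX hxO
      by_contra hx0
      apply hrad x hxX hxO hx0
      have h1 : QuadraticMap.polarBilin Q x x = 0 := mem_orthogonal_iff.mp hxO x hxX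
      rw [pb_self] at h1
      rcases mul_eq_zero.mp h1 with h | h
      · exact absurd h h2
      · exact h

end arf

/-- Witt's Lemma for quadratic forms over a finite field, in any characteristic: if Q is a quadratic form on a finite-dimensional space V whose polar bilinear form is non-degenerate, then every linear equivalence between subspaces X, Y of V that preserves Q extends to a Q-preserving linear automorphism of V. (In odd characteristic this is the symmetric-bilinear case; in characteristic two it is the statement for non-degenerate quadratic forms.) -/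
theorem result {F V : Type*} [Field F] [Finite F] [AddCommGroup V] [Module F V] [FiniteDimensional F V] (Q : QuadraticForm F V) (hQ : (QuadraticMap.polarBilin Q).Nondegenerate) (X Y : Submodule F V) (φ : X ≃ₗ[F] Y) (hφ : ∀ x : X, Q (φ x : V) = Q (x : V)) : ∃ g : V ≃ₗ[F] V, (∀ v : V, Q (g v) = Q v) ∧ ∀ x : X, g (x : V) = (φ x : V) := by
  obtain ⟨f, hf⟩ := LinearMap.exists_extend (Y.subtype.comp (φ : X →ₗ[F] Y))
  have hfX : ∀ x : X, f x = (φ x : V) := by
    intro x
    have := congrArg (fun l => l x) hf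
    simpa using this
  obtain ⟨g, hg1, hg2⟩ := witt_aux Q (stepProp_holds Q hQ) _ X rfl f
    (by
      intro x hx
      have h1 := hfX ⟨x, hx⟩
      simp only at h1
      rw [h1]
      exact hφ ⟨x, hx⟩)
    (by
      intro x hx h0
      have h1 := hfX ⟨x, hx⟩
      simp only at h1
      rw [h1] at h0
      have : φ ⟨x, hx⟩ = 0 := Subtype.ext h0
      have := φ.map_eq_zero_iff.mp this
      exact congrArg Subtype.val this)
  refine ⟨g, hg1, ?_⟩
  intro x
  rw [hg2 x x.2, hfX x]

end Cfsg.Agent.S0750
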