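import Cfsg.Statements.S0757

set_option autoImplicit false
open Cfsg

namespace Cfsg.Agent.S0757

open QuadraticMap in
theorem toMatrix'_wss {F : Type*} [Field F] [Invertible (2 : F)] {ι : Type*} [Fintype ι] [DecidableEq ι] (w : ι → F) :
    QuadraticForm.toMatrix' (QuadraticMap.weightedSumSquares F w) = Matrix.diagonal w := by
  ext i j
  rw [QuadraticForm.toMatrix', LinearMap.toMatrix₂'_apply, QuadraticMap.associated_apply]
  simp only [weightedSumSquares_apply, Pi.add_apply, smul_eq_mul]
  have h2 : (2 : F) ≠ 0 := Invertible.ne_zero 2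
  rw [Matrix.diagonal_apply]
  have : (∑ x, w x * (((Pi.single i (1:F) : ι → F) x + (Pi.single j (1:F) : ι → F) x) * ((Pi.single i (1:F) : ι → F) x + (Pi.single j (1:F) : ι → F) x)) -
          ∑ x, w x * ((Pi.single i (1:F) : ι → F) x * (Pi.single i (1:F) : ι → F) x) -
        ∑ x, w x * ((Pi.single j (1:F) : ι → F) x * (Pi.single j (1:F) : ι → F) x)) = 2 * (if i = j then w i else 0) := by
    rw [← Finset.sum_sub_distrib, ← Finset.sum_sub_distrib]
    have : ∀ x, w x * (((Pi.single i (1:F) : ι → F) x + (Pi.single j (1:F) : ι → F) x) * ((Pi.single i (1:F) : ι → F) x + (Pi.single j (1:F) : ι → F) x)) -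
          w x * ((Pi.single i (1:F) : ι → F) x * (Pi.single i (1:F) : ι → F) x) -
        w x * ((Pi.single j (1:F) : ι → F) x * (Pi.single j (1:F) : ι → F) x) = 2 * (if x = i then (if i = j then w i else 0) else 0) := by
      intro x
      simp only [Pi.single_apply]
      split_ifs <;> simp_all <;> ring
    simp only [this]
    rw [← Finset.mul_sum]
    simp
  rw [this]
  simp
  split_ifs
  · field_simp
  · rfl

/-- The two diagonal forms Σ x_i^2 and Σ_(i<n) x_i^2 + α x_n^2 on F^(n+1), with α a non-square and 2 ≠ 0 in F, are inequivalent quadratic forms (so over a finite field of odd order there are exactly two classes of non-singular symmetric bilinear forms in each dimension). -/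
theorem result {F : Type*} [Field F] (h2 : (2 : F) ≠ 0) (n : ℕ) (α : F) (hα : ¬ IsSquare α) : ¬ (QuadraticMap.weightedSumSquares F (fun _ : Fin (n + 1) => (1 : F))).Equivalent (QuadraticMap.weightedSumSquares F (fun i : Fin (n + 1) => if i = Fin.last n then α else (1 : F))) := by
  rintro ⟨e⟩
  have : Invertible (2 : F) := invertibleOfNonzero h2
  set Q₁ := QuadraticMap.weightedSumSquares F (fun _ : Fin (n + 1) => (1 : F)) with hQ₁
  set Q₂ := QuadraticMap.weightedSumSquares F (fun i : Fin (n + 1) => if i = Fin.last n then α else (1 : F)) with hQ₂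
  have hcomp : Q₁ = Q₂.comp (e.toLinearEquiv : (Fin (n+1) → F) →ₗ[F] (Fin (n+1) → F)) := by
    ext v
    simp [QuadraticMap.comp_apply]
  have hd := congrArg QuadraticForm.discr' hcomp
  rw [QuadraticForm.discr'_comp] at hd
  have hd1 : QuadraticForm.discr' Q₁ = 1 := by
    rw [QuadraticForm.discr', hQ₁, toMatrix'_wss, Matrix.det_diagonal]
    simp
  have hd2 : QuadraticForm.discr' Q₂ = α := by
    rw [QuadraticForm.discr', hQ₂, toMatrix'_wss, Matrix.det_diagonal]
    rw [Finset.prod_ite_eq']
    simp
  rw [hd1, hd2] at hd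
  set d := (LinearMap.toMatrix' (e.toLinearEquiv : (Fin (n+1) → F) →ₗ[F] (Fin (n+1) → F))).det with hdd
  have hd0 : d ≠ 0 := by
    rintro h
    rw [h] at hd
    simp at hd
  apply hα
  refine ⟨d⁻¹, ?_⟩
  have : α * (d * d) = 1 := by linear_combination -hd
  have h3 : d * d ≠ 0 := mul_ne_zero hd0 hd0
  rw [← mul_inv]
  exact eq_inv_of_mul_eq_one_left this

end Cfsg.Agent.S0757
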