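import Cfsg.Statements.S0758

set_option autoImplicit false
open Cfsg

namespace Cfsg.Agent.S0758

/-- For a finite field F of odd order q and a non-square α: the form x² + y² is isotropic iff q ≡ 1 mod 4, and the form x² + α y² is isotropic iff q ≡ 3 mod 4. -/
theorem result {F : Type*} [Field F] [Fintype F] (h2 : (2 : F) ≠ 0) (α : F) (hα : ¬ IsSquare α) : ((∃ x y : F, (x ≠ 0 ∨ y ≠ 0) ∧ x ^ 2 + y ^ 2 = 0) ↔ Fintype.card F % 4 = 1) ∧ ((∃ x y : F, (x ≠ 0 ∨ y ≠ 0) ∧ x ^ 2 + α * y ^ 2 = 0) ↔ Fintype.card F % 4 = 3) := by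
  classical
  have hF : ringChar F ≠ 2 := by
    intro h
    apply h2
    have : ((2 : ℕ) : F) = 0 := by
      rw [← h]; exact ringChar.Nat.cast_ringChar
    exact_mod_cast this
  have hodd : Fintype.card F % 2 = 1 := FiniteField.odd_card_of_char_ne_two hF
  have hneg1 := FiniteField.isSquare_neg_one_iff (F := F)
  have hα0 : α ≠ 0 := by
    rintro rfl
    exact hα ⟨0, by simp⟩
  have hqα : quadraticChar F α = -1 := quadraticChar_neg_one_iff_not_isSquare.mpr hα
  -- general fact: x^2 + c y^2 = 0 nontrivially iff -c is a square (c ≠ 0)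
  have key : ∀ c : F, c ≠ 0 → ((∃ x y : F, (x ≠ 0 ∨ y ≠ 0) ∧ x ^ 2 + c * y ^ 2 = 0) ↔ IsSquare (-c)) := by
    intro c hc
    constructor
    · rintro ⟨x, y, hxy, h⟩
      have hy : y ≠ 0 := by
        intro hy
        rw [hy] at h
        simp at h
        rcases hxy with hx | hy'
        · exact hx h
        · exact hy' hy
      refine ⟨x / y, ?_⟩
      field_simp
      linear_combination -h
    · rintro ⟨r, hr⟩
      refine ⟨r, 1, Or.inr one_ne_zero, ?_⟩
      rw [one_pow, mul_one, sq, ← hr]
      ring
  constructor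
  · have := key 1 one_ne_zero
    simp only [one_mul] at this
    rw [this, hneg1]
    omega
  · rw [key α hα0]
    have hnα : (-α) ≠ 0 := neg_ne_zero.mpr hα0
    rw [← quadraticChar_one_iff_isSquare hnα]
    have : quadraticChar F (-α) = quadraticChar F (-1) * quadraticChar F α := by
      rw [← map_mul]; simp
    rw [this, hqα]
    have hd := quadraticChar_dichotomy (F := F) (a := -1) (neg_ne_zero.mpr one_ne_zero)
    have h1 : quadraticChar F (-1) = 1 ↔ IsSquare (-1 : F) :=
      quadraticChar_one_iff_isSquare (neg_ne_zero.mpr one_ne_zero)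
    constructor
    · intro h
      have hm : quadraticChar F (-1) = -1 := by
        rcases hd with hd | hd
        · rw [hd] at h; norm_num at h
        · exact hd
      have : ¬ IsSquare (-1 : F) := by
        rw [← h1, hm]; norm_num
      rw [hneg1] at this
      omega
    · intro h
      have : ¬ IsSquare (-1 : F) := by
        rw [hneg1]; omega
      have hm : quadraticChar F (-1) = -1 := quadraticChar_neg_one_iff_not_isSquare.mpr this
      rw [hm]; norm_num

end Cfsg.Agent.S0758
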