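import Cfsg.Statements.S0759
import Cfsg.Agent.S0756

set_option autoImplicit false
open Cfsg

namespace Cfsg.Agent.S0759

open Module Matrix

theorem neg_one_pow_isSquare {F : Type*} [Field F] (h2 : (2 : F) ≠ 0) (m : ℕ)
    (W : Submodule F (Fin (2 * m) → F)) (hW : finrank F W = m)
    (hQ : ∀ w ∈ W, ∑ i, w i ^ 2 = 0) : IsSquare ((-1 : F) ^ m) := by
  classical
  -- step 1: dot product vanishes on W
  have hdot : ∀ x ∈ W, ∀ y ∈ W, x ⬝ᵥ y = 0 := by
    intro x hx y hy
    have h1 := hQ (x + y) (W.add_mem hx hy)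
    have h2' := hQ x hx
    have h3 := hQ y hy
    have : ∑ i, (x + y) i ^ 2 = ∑ i, x i ^ 2 + ∑ i, y i ^ 2 + 2 * (x ⬝ᵥ y) := by
      simp only [dotProduct, Finset.mul_sum, ← Finset.sum_add_distrib, Pi.add_apply]
      apply Finset.sum_congr rfl
      intro i _
      ring
    rw [this, h2', h3] at h1
    simp only [zero_add] at h1
    exact (mul_eq_zero.mp h1).resolve_left h2
  -- step 2: basis
  obtain ⟨W', hcompl⟩ := Submodule.exists_isCompl W
  have hW' : finrank F W' = m := by
    have := Submodule.finrank_add_eq_of_isCompl hcompl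
    rw [hW, Module.finrank_fin_fun] at this
    omega
  let bW : Basis (Fin m) F W := finBasisOfFinrankEq F W hW
  let bW' : Basis (Fin m) F W' := finBasisOfFinrankEq F W' hW'
  let b : Basis (Fin m ⊕ Fin m) F (Fin (2 * m) → F) :=
    (bW.prod bW').map (Submodule.prodEquivOfIsCompl W W' hcompl)
  have hbl : ∀ i, b (Sum.inl i) ∈ W := by
    intro i
    simp [b]
  -- step 3: matrices
  let e : Fin m ⊕ Fin m ≃ Fin (2 * m) := finSumFinEquiv.trans (finCongr (two_mul m).symm)
  let S : Matrix (Fin m ⊕ Fin m) (Fin m ⊕ Fin m) F := fun k k' => b k (e k')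
  have hG : ∀ k l, (S * Sᵀ) k l = b k ⬝ᵥ b l := by
    intro k l
    rw [Matrix.mul_apply, dotProduct]
    simp only [S, Matrix.transpose_apply]
    exact Equiv.sum_comp e (fun x => b k x * b l x)
  have hSdet : IsUnit S.det := by
    let std : Basis (Fin m ⊕ Fin m) F (Fin (2 * m) → F) := (Pi.basisFun F (Fin (2 * m))).reindex e.symm
    have hS : S = (std.toMatrix b)ᵀ := by
      ext k k'
      simp [S, std, Basis.toMatrix_apply]
    rw [hS, Matrix.det_transpose, ← Basis.det_apply]
    exact std.isUnit_det b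
  -- step 4: block structure
  set G := S * Sᵀ with hGdef
  set P := G.toBlocks₁₂ with hP
  set R := G.toBlocks₂₂ with hR
  have h11 : G.toBlocks₁₁ = 0 := by
    ext i j
    simp only [Matrix.toBlocks₁₁, Matrix.of_apply, Matrix.zero_apply]
    rw [hG]
    exact hdot _ (hbl i) _ (hbl j)
  have hsymm : Gᵀ = G := by
    rw [hGdef, Matrix.transpose_mul, Matrix.transpose_transpose]
  have h21 : G.toBlocks₂₁ = Pᵀ := by
    ext i j
    simp only [Matrix.toBlocks₂₁, Matrix.of_apply, Matrix.transpose_apply, hP, Matrix.toBlocks₁₂]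
    conv_lhs => rw [← hsymm]
    rfl
  have hGblocks : G = Matrix.fromBlocks 0 P Pᵀ R := by
    rw [← h11, ← h21, hP, hR]
    exact (Matrix.fromBlocks_toBlocks G).symm
  have hGJ : G * Matrix.J (Fin m) F = Matrix.fromBlocks P 0 R (-Pᵀ) := by
    rw [hGblocks, Matrix.J, Matrix.fromBlocks_multiply]
    simp
  have hdetJ : (Matrix.J (Fin m) F).det = 1 :=
    SymplecticGroup.det_eq_one (SymplecticGroup.J_mem (Fin m) F)
  have hdet : S.det * S.det = (-1) ^ m * (P.det * P.det) := by
    have h1 : (G * Matrix.J (Fin m) F).det = S.det * S.det := by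
      rw [Matrix.det_mul, hdetJ, mul_one, hGdef, Matrix.det_mul, Matrix.det_transpose]
    rw [← h1, hGJ, Matrix.det_fromBlocks_zero₁₂, Matrix.det_neg, Matrix.det_transpose]
    simp only [Fintype.card_fin]
    ring
  have hS0 : S.det ≠ 0 := hSdet.ne_zero
  have hP0 : P.det ≠ 0 := by
    intro h0
    rw [h0] at hdet
    simp at hdet
    exact hS0 hdet
  refine ⟨S.det / P.det, ?_⟩
  field_simp
  linear_combination -hdet

theorem exists_W_of_T {F : Type*} [Field F] (m : ℕ) (T : (Fin m → F) →ₗ[F] (Fin m → F))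
    (hT : ∀ c, ∑ j, (T c j) ^ 2 = - ∑ j, (c j) ^ 2) :
    ∃ W : Submodule F (Fin (2 * m) → F), finrank F W = m ∧ ∀ w ∈ W, ∑ i, w i ^ 2 = 0 := by
  classical
  let e : Fin m ⊕ Fin m ≃ Fin (2 * m) := finSumFinEquiv.trans (finCongr (two_mul m).symm)
  let ψ : (Fin m → F) →ₗ[F] (Fin (2 * m) → F) :=
    { toFun := fun c k => Sum.elim c (T c) (e.symm k)
      map_add' := by
        intro c c'
        funext k
        show Sum.elim (c + c') (T (c + c')) (e.symm k) =
          Sum.elim c (T c) (e.symm k) + Sum.elim c' (T c') (e.symm k)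
        generalize e.symm k = s
        rcases s with j | j <;> simp
      map_smul' := by
        intro a c
        funext k
        show Sum.elim (a • c) (T (a • c)) (e.symm k) = a • Sum.elim c (T c) (e.symm k)
        generalize e.symm k = s
        rcases s with j | j <;> simp }
  have hψ : ∀ c k, ψ c k = Sum.elim c (T c) (e.symm k) := fun c k => rfl
  have hinj : Function.Injective ψ := by
    intro c c' h
    funext j
    have := congrFun h (e (Sum.inl j))
    simpa [hψ] using this
  refine ⟨LinearMap.range ψ, ?_, ?_⟩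
  · rw [LinearMap.finrank_range_of_inj hinj, Module.finrank_fin_fun]
  · rintro _ ⟨c, rfl⟩
    simp only [hψ]
    rw [Equiv.sum_comp e.symm (fun s => (Sum.elim c (T c) s) ^ 2), Fintype.sum_sum_type]
    simp only [Sum.elim_inl, Sum.elim_inr]
    rw [hT]; ring

theorem exists_T_of_sq {F : Type*} [Field F] (m : ℕ) (i : F) (hi : i * i = -1) :
    ∃ T : (Fin m → F) →ₗ[F] (Fin m → F), ∀ c, ∑ j, (T c j) ^ 2 = - ∑ j, (c j) ^ 2 := by
  refine ⟨i • LinearMap.id, ?_⟩
  intro c
  simp only [LinearMap.smul_apply, LinearMap.id_coe, id_eq, Pi.smul_apply, smul_eq_mul]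
  rw [← Finset.sum_neg_distrib]
  apply Finset.sum_congr rfl
  intro j _
  linear_combination (c j) ^ 2 * hi

theorem exists_T_of_even {F : Type*} [Field F] (r : ℕ) (a b : F) (hab : a ^ 2 + b ^ 2 = -1) :
    ∃ T : (Fin (r + r) → F) →ₗ[F] (Fin (r + r) → F), ∀ c, ∑ j, (T c j) ^ 2 = - ∑ j, (c j) ^ 2 := by
  classical
  let e2 : Fin r ⊕ Fin r ≃ Fin (r + r) := finSumFinEquiv
  let T : (Fin (r + r) → F) →ₗ[F] (Fin (r + r) → F) :=
    { toFun := fun c k => Sum.elim (fun j => a * c (e2 (Sum.inl j)) - b * c (e2 (Sum.inr j)))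
        (fun j => b * c (e2 (Sum.inl j)) + a * c (e2 (Sum.inr j))) (e2.symm k)
      map_add' := by
        intro c c'
        funext k
        simp only [Pi.add_apply]
        generalize e2.symm k = s
        rcases s with j | j <;> simp <;> ring
      map_smul' := by
        intro x c
        funext k
        simp only [Pi.smul_apply, smul_eq_mul, RingHom.id_apply]
        generalize e2.symm k = s
        rcases s with j | j <;> simp <;> ring }
  have hTdef : ∀ c k, T c k = Sum.elim (fun j => a * c (e2 (Sum.inl j)) - b * c (e2 (Sum.inr j)))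
        (fun j => b * c (e2 (Sum.inl j)) + a * c (e2 (Sum.inr j))) (e2.symm k) := fun c k => rfl
  refine ⟨T, ?_⟩
  intro c
  simp only [hTdef]
  rw [Equiv.sum_comp e2.symm (fun s => (Sum.elim (fun j => a * c (e2 (Sum.inl j)) - b * c (e2 (Sum.inr j)))
        (fun j => b * c (e2 (Sum.inl j)) + a * c (e2 (Sum.inr j))) s) ^ 2), Fintype.sum_sum_type]
  simp only [Sum.elim_inl, Sum.elim_inr]
  rw [← Equiv.sum_comp e2 (fun k => c k ^ 2), Fintype.sum_sum_type, ← Finset.sum_add_distrib,
    ← Finset.sum_add_distrib, ← Finset.sum_neg_distrib]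
  apply Finset.sum_congr rfl
  intro j _
  linear_combination (c (e2 (Sum.inl j)) ^ 2 + c (e2 (Sum.inr j)) ^ 2) * hab

/-- Type of the orthonormal form: over a finite field of odd order q and for m ≥ 1, the quadratic form Σ_(i<2m) x_i² on F^(2m) admits an m-dimensional subspace on which it vanishes identically if and only if it is not the case that q ≡ 3 (mod 4) and m is odd. -/
theorem result {F : Type*} [Field F] [Fintype F] (h2 : (2 : F) ≠ 0) (m : ℕ) (hm : 1 ≤ m) : (∃ W : Submodule F (Fin (2 * m) → F), Module.finrank F W = m ∧ ∀ w ∈ W, ∑ i, w i ^ 2 = 0) ↔ ¬ (Fintype.card F % 4 = 3 ∧ Odd m) := by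
  constructor
  · rintro ⟨W, hW, hQ⟩ ⟨hcard, hodd⟩
    have hsq := neg_one_pow_isSquare h2 m W hW hQ
    rw [hodd.neg_one_pow, FiniteField.isSquare_neg_one_iff] at hsq
    exact hsq hcard
  · intro hnot
    by_cases hcard : Fintype.card F % 4 = 3
    · have heven : Even m := by
        by_contra hne
        exact hnot ⟨hcard, Nat.not_even_iff_odd.mp hne⟩
      obtain ⟨r, rfl⟩ := heven
      obtain ⟨x, y, hxy⟩ := Cfsg.Agent.S0756.exists_sq_add_sq_eq_one h2 (-1 : F) (-1 : F)
        (neg_ne_zero.mpr one_ne_zero) (neg_ne_zero.mpr one_ne_zero)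
      have hab : x ^ 2 + y ^ 2 = -1 := by linear_combination -hxy
      obtain ⟨T, hT⟩ := exists_T_of_even r x y hab
      exact exists_W_of_T (r + r) T hT
    · have hsq : IsSquare (-1 : F) := FiniteField.isSquare_neg_one_iff.mpr hcard
      obtain ⟨i, hi⟩ := hsq
      obtain ⟨T, hT⟩ := exists_T_of_sq m i hi.symm
      exact exists_W_of_T m T hT

end Cfsg.Agent.S0759
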