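import Cfsg.Statements.S0760

set_option autoImplicit false
open Cfsg

namespace Cfsg.Agent.S0760

open Module LinearMap.BilinForm

section
variable {F V : Type*} [Field F] [AddCommGroup V] [Module F V]
  (Q : QuadraticForm F V)

theorem polar_symm_apply (x y : V) : QuadraticMap.polarBilin Q x y = QuadraticMap.polarBilin Q y x := by
  simp [QuadraticMap.polar_comm]

theorem polar_isRefl : (QuadraticMap.polarBilin Q).IsRefl := by
  intro x y h
  rw [polar_symm_apply]; exact h

theorem le_orthogonal_of_singular (W : Submodule F V) (h : ∀ w ∈ W, Q w = 0) :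
    W ≤ orthogonal (QuadraticMap.polarBilin Q) W := by
  intro x hx
  rw [mem_orthogonal_iff]
  intro n hn
  simp only [QuadraticMap.polarBilin_apply_apply, QuadraticMap.polar]
  rw [h _ (W.add_mem hn hx), h _ hn, h _ hx]
  simp

theorem inf_orthogonal_le (U W : Submodule F V) (hU : ∀ w ∈ U, Q w = 0) (hW : ∀ w ∈ W, Q w = 0)
    (hmax : ∀ W' : Submodule F V, W ≤ W' → (∀ w ∈ W', Q w = 0) → W' = W) :
    U ⊓ orthogonal (QuadraticMap.polarBilin Q) W ≤ W := by
  have key : (U ⊓ orthogonal (QuadraticMap.polarBilin Q) W) ⊔ W = W := by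
    apply hmax _ le_sup_right
    intro x hx
    obtain ⟨u, hu, w, hw, rfl⟩ := Submodule.mem_sup.mp hx
    rw [QuadraticMap.map_add (⇑Q), hU u hu.1, hW w hw]
    have := (mem_orthogonal_iff.mp hu.2) w hw
    simp only [QuadraticMap.polarBilin_apply_apply] at this
    rw [QuadraticMap.polar_comm, this]
    simp
  calc U ⊓ orthogonal (QuadraticMap.polarBilin Q) W ≤ (U ⊓ orthogonal (QuadraticMap.polarBilin Q) W) ⊔ W := le_sup_left
    _ = W := key

theorem finrank_le_of_max [FiniteDimensional F V] (hQ : (QuadraticMap.polarBilin Q).Nondegenerate) (U W : Submodule F V)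
    (hU : ∀ w ∈ U, Q w = 0) (hW : ∀ w ∈ W, Q w = 0)
    (hmaxU : ∀ W' : Submodule F V, U ≤ W' → (∀ w ∈ W', Q w = 0) → W' = U)
    (hmaxW : ∀ W' : Submodule F V, W ≤ W' → (∀ w ∈ W', Q w = 0) → W' = W) :
    finrank F U ≤ finrank F W := by
  set B : LinearMap.BilinForm F V := QuadraticMap.polarBilin Q with hB
  have hrefl : B.IsRefl := polar_isRefl Q
  -- b := dim (U ⊓ W^⊥) ≤ dim (U ⊓ W)
  have h1 : U ⊓ orthogonal B W ≤ U ⊓ W := le_inf inf_le_left (inf_orthogonal_le Q U W hU hW hmaxW)
  have h2 : U ⊓ W ≤ orthogonal B U ⊓ W := le_inf (inf_le_left.trans (le_orthogonal_of_singular Q U hU)) inf_le_right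
  have d1 := Submodule.finrank_mono h1
  have d2 := Submodule.finrank_mono h2
  have d3 := Submodule.finrank_sup_add_finrank_inf_eq U (orthogonal B W)
  have d4 := finrank_orthogonal hQ W
  have d5 : U ⊔ orthogonal B W ≤ orthogonal B (orthogonal B U ⊓ W) := by
    apply sup_le
    · intro x hx
      rw [mem_orthogonal_iff]
      intro n hn
      have := (mem_orthogonal_iff.mp hn.1) x hx
      exact hrefl _ _ this
    · exact orthogonal_le inf_le_right
  have d6 := Submodule.finrank_mono d5
  have d7 := finrank_orthogonal hQ (orthogonal B U ⊓ W)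
  have d8 : finrank F W ≤ finrank F V := Submodule.finrank_le W
  have d9 : finrank F (↥(orthogonal B U ⊓ W)) ≤ finrank F W := Submodule.finrank_mono inf_le_right
  omega

end

/-- Witt index is well defined: if Q is a quadratic form on a finite-dimensional space V over a finite field with non-degenerate polar form, and W₁, W₂ are subspaces on which Q vanishes that are maximal with this property, then W₁ and W₂ have the same dimension, and twice this dimension is at most dim V. -/
theorem result {F V : Type*} [Field F] [Finite F] [AddCommGroup V] [Module F V] [FiniteDimensional F V] (Q : QuadraticForm F V) (hQ : (QuadraticMap.polarBilin Q).Nondegenerate) (W₁ W₂ : Submodule F V) (h₁ : ∀ w ∈ W₁, Q w = 0) (h₂ : ∀ w ∈ W₂, Q w = 0) (hmax₁ : ∀ W : Submodule F V, W₁ ≤ W → (∀ w ∈ W, Q w = 0) → W = W₁) (hmax₂ : ∀ W : Submodule F V, W₂ ≤ W → (∀ w ∈ W, Q w = 0) → W = W₂) : Module.finrank F W₁ = Module.finrank F W₂ ∧ 2 * Module.finrank F W₁ ≤ Module.finrank F V := by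
  refine ⟨le_antisymm (finrank_le_of_max Q hQ W₁ W₂ h₁ h₂ hmax₁ hmax₂)
    (finrank_le_of_max Q hQ W₂ W₁ h₂ h₁ hmax₂ hmax₁), ?_⟩
  have h := Submodule.finrank_mono (le_orthogonal_of_singular Q W₁ h₁)
  have h' := finrank_orthogonal hQ W₁
  have h'' : finrank F W₁ ≤ finrank F V := Submodule.finrank_le W₁
  omega

end Cfsg.Agent.S0760
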