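import Cfsg.Statements.S0761

set_option autoImplicit false
open Cfsg

namespace Cfsg.Agent.S0761

open LinearMap.BilinForm

/-- Hyperbolic partners: let B be a non-degenerate bilinear form on a finite-dimensional space, either alternating, or symmetric with 2 ≠ 0. If Z is a subspace on which B vanishes, x ∉ Z is isotropic and orthogonal to Z, then there is an isotropic y with B x y = 1 which is orthogonal to Z. -/
theorem result {F V : Type*} [Field F] [AddCommGroup V] [Module F V] [FiniteDimensional F V] (B : LinearMap.BilinForm F V) (hB : B.Nondegenerate) (hform : B.IsAlt ∨ (B.IsSymm ∧ (2 : F) ≠ 0)) (x : V) (Z : Submodule F V) (hxZ : x ∉ Z) (hx : B x x = 0) (hxz : ∀ z ∈ Z, B x z = 0) (hZ : ∀ z ∈ Z, ∀ z' ∈ Z, B z z' = 0) : ∃ y : V, B y y = 0 ∧ B x y = 1 ∧ ∀ z ∈ Z, B z y = 0 := by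
  classical
  have hrefl : B.IsRefl := by
    rcases hform with h | h
    · exact h.isRefl
    · exact h.1.isRefl
  -- step 1
  have h1 : ∃ y1 ∈ orthogonal B Z, B x y1 ≠ 0 := by
    by_contra hcon
    push Not at hcon
    apply hxZ
    rw [← orthogonal_orthogonal hB hrefl Z, mem_orthogonal_iff]
    intro n hn
    exact hrefl _ _ (hcon n hn)
  obtain ⟨y1, hy1, hxy1⟩ := h1
  set y0 := (B x y1)⁻¹ • y1 with hy0
  have hy0Z : y0 ∈ orthogonal B Z := Submodule.smul_mem _ _ hy1
  have hxy0 : B x y0 = 1 := by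
    rw [hy0, map_smul, smul_eq_mul, inv_mul_cancel₀ hxy1]
  rcases hform with hA | ⟨hS, h2⟩
  · exact ⟨y0, hA.self_eq_zero y0, hxy0, fun z hz => (mem_orthogonal_iff.mp hy0Z) z hz⟩
  · have hy0x : B y0 x = 1 := by rw [hS.eq]; exact hxy0
    refine ⟨y0 - (B y0 y0 / 2) • x, ?_, ?_, ?_⟩
    · simp only [map_sub, map_smul, LinearMap.sub_apply, LinearMap.smul_apply, smul_eq_mul, hx,
        hxy0, hy0x]
      field_simp
      ring
    · simp only [map_sub, map_smul, smul_eq_mul, hx, hxy0]
      ring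
    · intro z hz
      have hzy0 : B z y0 = 0 := (mem_orthogonal_iff.mp hy0Z) z hz
      have hzx : B z x = 0 := by rw [hS.eq]; exact hxz z hz
      simp only [map_sub, map_smul, smul_eq_mul, hzy0, hzx]
      ring

end Cfsg.Agent.S0761
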