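import Cfsg.Statements.S0762

set_option autoImplicit false
open Cfsg

namespace Cfsg.Agent.S0762

/-- In characteristic two over a finite field, a quadratic form on a space of dimension at least 3 vanishes on some non-zero vector. -/
theorem result {F V : Type*} [Field F] [Finite F] [CharP F 2] [AddCommGroup V] [Module F V] [FiniteDimensional F V] (Q : QuadraticForm F V) (h3 : 3 ≤ Module.finrank F V) : ∃ v : V, v ≠ 0 ∧ Q v = 0 := by
  classical
  have hpos : 0 < Module.finrank F V := by omega
  obtain ⟨u, hu⟩ : ∃ u : V, u ≠ 0 := by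
    have := Module.nontrivial_of_finrank_pos (R := F) hpos
    exact exists_ne 0
  by_cases hQu : Q u = 0
  · exact ⟨u, hu, hQu⟩
  -- functional
  set φ : V →ₗ[F] F := QuadraticMap.polarBilin Q u with hφ
  have hker : Module.finrank F V ≤ Module.finrank F (LinearMap.ker φ) + 1 := by
    have h := LinearMap.finrank_range_add_finrank_ker φ
    have hr : Module.finrank F (LinearMap.range φ) ≤ 1 := by
      calc Module.finrank F (LinearMap.range φ) ≤ Module.finrank F F := Submodule.finrank_le _
        _ = 1 := Module.finrank_self F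
    omega
  have hspan : Module.finrank F (Submodule.span F {u}) ≤ 1 := by
    rw [finrank_span_singleton hu]
  have hnle : ¬ (LinearMap.ker φ ≤ Submodule.span F {u}) := by
    intro hle
    have := Submodule.finrank_mono hle
    omega
  obtain ⟨v, hvker, hvspan⟩ := Set.not_subset.mp hnle
  have hpol : QuadraticMap.polar Q u v = 0 := by
    have : φ v = 0 := hvker
    simpa [hφ] using this
  have hsq : ∀ a : F, IsSquare a := fun a => isSquare_of_charTwo' a
  obtain ⟨c, hc⟩ := hsq (Q u)
  obtain ⟨d, hd⟩ := hsq (Q v)
  have hc0 : c ≠ 0 := by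
    rintro rfl
    apply hQu
    rw [hc]; ring
  refine ⟨d • u + c • v, ?_, ?_⟩
  · intro h0
    apply hvspan
    rw [SetLike.mem_coe, Submodule.mem_span_singleton]
    refine ⟨-(d / c), ?_⟩
    have : c • v = -(d • u) := eq_neg_of_add_eq_zero_right h0
    have h2 : v = c⁻¹ • (c • v) := by rw [smul_smul, inv_mul_cancel₀ hc0, one_smul]
    rw [h2, this, smul_neg, smul_smul, neg_smul]
    congr 2
    field_simp
  · rw [QuadraticMap.map_add (⇑Q), QuadraticMap.map_smul, QuadraticMap.map_smul,
      QuadraticMap.polar_smul_left, QuadraticMap.polar_smul_right, hpol, hc, hd]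
    simp only [smul_eq_mul, mul_zero, add_zero]
    have h2 : (2 : F) = 0 := CharTwo.two_eq_zero
    linear_combination (c * c * d * d) * h2

end Cfsg.Agent.S0762
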