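import Cfsg.Statements.S0763

set_option autoImplicit false
open Cfsg

namespace Cfsg.Agent.S0763

theorem li_of_polar_eq_one {F V : Type*} [Field F] [CharP F 2] [AddCommGroup V] [Module F V]
    (Q : QuadraticForm F V) (v w : V) (h : QuadraticMap.polar Q v w = 1) :
    LinearIndependent F ![v, w] := by
  have h2 : (2 : F) = 0 := CharTwo.two_eq_zero
  have hself : ∀ x : V, QuadraticMap.polar Q x x = 0 := by
    intro x
    rw [QuadraticMap.polar_self]
    simp [h2]
  rw [LinearIndependent.pair_iff]
  intro s t hst
  have h1 : QuadraticMap.polar Q v (s • v + t • w) = t := by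
    rw [QuadraticMap.polar_add_right, QuadraticMap.polar_smul_right, QuadraticMap.polar_smul_right,
      hself, h]
    simp
  have h3 : QuadraticMap.polar Q (s • v + t • w) w = s := by
    rw [QuadraticMap.polar_add_left, QuadraticMap.polar_smul_left, QuadraticMap.polar_smul_left,
      hself, h]
    simp
  rw [hst] at h1 h3
  simp at h1 h3
  exact ⟨h3.symm, h1.symm⟩

/-- Binary quadratic forms in characteristic two over a finite field: if Q is a quadratic form on a 2-dimensional space whose polar form is non-degenerate, then either there are vectors v, w with Q v = Q w = 0 and polar value 1 (Q is xy in these coordinates), or there are v, w and μ with Q v = 1, Q w = μ, polar value 1 and x² + x + μ without roots in F (Q is x² + xy + μy²). -/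
theorem result {F V : Type*} [Field F] [Finite F] [CharP F 2] [AddCommGroup V] [Module F V] (Q : QuadraticForm F V) (h2 : Module.finrank F V = 2) (hQ : (QuadraticMap.polarBilin Q).Nondegenerate) : (∃ v w : V, LinearIndependent F ![v, w] ∧ Q v = 0 ∧ Q w = 0 ∧ QuadraticMap.polar Q v w = 1) ∨ (∃ (v w : V) (μ : F), LinearIndependent F ![v, w] ∧ (∀ x : F, x ^ 2 + x + μ ≠ 0) ∧ Q v = 1 ∧ Q w = μ ∧ QuadraticMap.polar Q v w = 1) := by
  classical
  have h20 : (2 : F) = 0 := CharTwo.two_eq_zero
  have hself : ∀ x : V, QuadraticMap.polar Q x x = 0 := by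
    intro x
    rw [QuadraticMap.polar_self]
    simp [h20]
  have hpos : 0 < Module.finrank F V := by omega
  have hnt : Nontrivial V := Module.nontrivial_of_finrank_pos (R := F) hpos
  -- partner with polar value one
  have hpartner : ∀ v : V, v ≠ 0 → ∃ w : V, QuadraticMap.polar Q v w = 1 := by
    intro v hv
    have : ∃ w' : V, QuadraticMap.polar Q v w' ≠ 0 := by
      by_contra hcon
      push Not at hcon
      exact hv (hQ.1 v (fun y => by simpa using hcon y))
    obtain ⟨w', hw'⟩ := this
    refine ⟨(QuadraticMap.polar Q v w')⁻¹ • w', ?_⟩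
    rw [QuadraticMap.polar_smul_right, smul_eq_mul, inv_mul_cancel₀ hw']
  by_cases hsing : ∃ v : V, v ≠ 0 ∧ Q v = 0
  · left
    obtain ⟨v, hv, hQv⟩ := hsing
    obtain ⟨w', hw'⟩ := hpartner v hv
    have hpol : QuadraticMap.polar Q v (w' + Q w' • v) = 1 := by
      rw [QuadraticMap.polar_add_right, QuadraticMap.polar_smul_right, hself, hw']
      simp
    refine ⟨v, w' + Q w' • v, li_of_polar_eq_one Q _ _ hpol, hQv, ?_, hpol⟩
    rw [QuadraticMap.map_add (⇑Q), QuadraticMap.map_smul, QuadraticMap.polar_smul_right,
      QuadraticMap.polar_comm, hw', hQv]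
    simp only [smul_eq_mul, mul_zero, add_zero, mul_one]
    linear_combination (Q w') * h20
  · right
    push Not at hsing
    obtain ⟨v0, hv0⟩ := exists_ne (0 : V)
    obtain ⟨c, hc⟩ : IsSquare (Q v0) := isSquare_of_charTwo' _
    have hQv0 : Q v0 ≠ 0 := hsing v0 hv0
    have hc0 : c ≠ 0 := by
      rintro rfl
      apply hQv0
      rw [hc]; ring
    have hv : c⁻¹ • v0 ≠ 0 := smul_ne_zero (inv_ne_zero hc0) hv0
    have hQv : Q (c⁻¹ • v0) = 1 := by
      rw [QuadraticMap.map_smul, hc, smul_eq_mul]
      field_simp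
    obtain ⟨w, hw⟩ := hpartner _ hv
    have hli := li_of_polar_eq_one Q _ _ hw
    refine ⟨c⁻¹ • v0, w, Q w, hli, ?_, hQv, rfl, hw⟩
    intro x hx
    have hne : x • (c⁻¹ • v0) + w ≠ 0 := by
      intro h0
      rw [LinearIndependent.pair_iff] at hli
      have := hli x 1 (by rw [one_smul]; exact h0)
      exact one_ne_zero this.2
    apply hsing _ hne
    rw [QuadraticMap.map_add (⇑Q), QuadraticMap.map_smul, QuadraticMap.polar_smul_left, hw, hQv]
    simp only [smul_eq_mul, mul_one]
    linear_combination hx

end Cfsg.Agent.S0763
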