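import Cfsg.Statements.S0769

set_option autoImplicit false
open Cfsg

namespace Cfsg.Agent.S0769

open Matrix

section
variable {F : Type*} [Field F] {n : ℕ}

theorem det_lower (M : Matrix (Fin n) (Fin n) F) (h : ∀ i j : Fin n, i < j → M i j = 0) :
    M.det = ∏ i, M i i := by
  apply Matrix.det_of_isLowerTriangular
  intro i j hij
  exact h i j hij

/-- the cell sets -/
def cell (i j : Fin n) : Set F := if i < j then {0} else if i = j then {x | x ≠ 0} else Set.univ

theorem mem_cells_iff (M : Fin n → Fin n → F) :
    (∀ i j, M i j ∈ cell i j) ↔ (∀ i j : Fin n, i < j → M i j = 0) ∧ ∀ i, M i i ≠ 0 := by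
  constructor
  · intro h
    constructor
    · intro i j hij
      have := h i j
      simp only [cell, if_pos hij, Set.mem_singleton_iff] at this
      exact this
    · intro i
      have := h i i
      simp only [cell, lt_irrefl, if_false, if_true, Set.mem_ofPred_eq] at this
      exact this
  · rintro ⟨h1, h2⟩ i j
    unfold cell
    split_ifs with hij hij'
    · exact h1 i j hij
    · subst hij'; exact h2 i
    · exact Set.mem_univ _

/-- The main equivalence. -/
noncomputable def equivCells :
    {g : Matrix.GeneralLinearGroup (Fin n) F // ∀ i j : Fin n, i < j → (g : Matrix (Fin n) (Fin n) F) i j = 0} ≃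
    {M : Fin n → Fin n → F // ∀ i j, M i j ∈ cell i j} where
  toFun g := ⟨fun i j => (g.1 : Matrix (Fin n) (Fin n) F) i j, by
    rw [mem_cells_iff]
    refine ⟨g.2, ?_⟩
    have hdet : (g.1 : Matrix (Fin n) (Fin n) F).det ≠ 0 := g.1.det_ne_zero
    rw [det_lower _ g.2] at hdet
    intro i hi
    exact hdet (Finset.prod_eq_zero (Finset.mem_univ i) hi)⟩
  invFun M := ⟨Matrix.GeneralLinearGroup.mkOfDetNeZero (Matrix.of M.1) (by
      have h := (mem_cells_iff M.1).mp M.2
      rw [det_lower (Matrix.of M.1) h.1]
      exact Finset.prod_ne_zero_iff.mpr (fun i _ => h.2 i)), by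
    have h := (mem_cells_iff M.1).mp M.2
    exact h.1⟩
  left_inv g := by
    apply Subtype.ext
    apply Units.ext
    rfl
  right_inv M := by
    apply Subtype.ext
    rfl

end

/-- Order of the Borel subgroup of GL_n(q): the invertible lower-triangular n × n matrices over a field with q elements number q^(n(n-1)/2) (q-1)^n (unitriangular part times the diagonal torus). -/
theorem result {F : Type*} [Field F] [Fintype F] {q : ℕ} (hF : Fintype.card F = q) (n : ℕ) : Nat.card {g : Matrix.GeneralLinearGroup (Fin n) F // ∀ i j : Fin n, i < j → (g : Matrix (Fin n) (Fin n) F) i j = 0} = q ^ (n * (n - 1) / 2) * (q - 1) ^ n := by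
  classical
  rw [Nat.card_congr equivCells]
  rw [Nat.card_congr (Equiv.subtypePiEquivPi (β := fun _ : Fin n => Fin n → F)
    (p := fun i row => ∀ j, row j ∈ cell i j))]
  rw [Nat.card_pi]
  have hrow : ∀ i : Fin n, Nat.card {row : Fin n → F // ∀ j, row j ∈ cell i j} = q ^ (i : ℕ) * (q - 1) := by
    intro i
    rw [Nat.card_congr (Equiv.subtypePiEquivPi (β := fun _ : Fin n => F)
      (p := fun j x => x ∈ cell i j))]
    rw [Nat.card_pi]
    have hcell : ∀ j : Fin n, Nat.card {x : F // x ∈ cell i j} =
        (if j = i then (q - 1) else 1) * (if j < i then q else 1) := by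
      intro j
      unfold cell
      rcases lt_trichotomy i j with h | h | h
      · rw [if_pos h, if_neg (ne_of_gt h), if_neg (not_lt.mpr h.le)]
        simp
      · subst h
        simp only [lt_irrefl, if_false, if_true, mul_one]
        rw [Nat.card_eq_fintype_card]
        have : Fintype.card {x : F // x ≠ 0} = Fintype.card Fˣ := Fintype.card_congr (unitsEquivNeZero).symm
        simp only [Set.mem_ofPred_eq]
        rw [this, Fintype.card_units, hF]
      · rw [if_neg (not_lt.mpr h.le), if_neg (ne_of_gt h), if_neg (ne_of_lt h), if_pos h]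
        simp [hF]
    simp only [hcell]
    rw [Finset.prod_mul_distrib, Finset.prod_ite_eq' Finset.univ i, if_pos (Finset.mem_univ i),
      Finset.prod_ite, Finset.prod_const, Finset.prod_const_one, mul_one]
    have : (Finset.univ.filter (fun j : Fin n => j < i)).card = (i : ℕ) := by
      have : Finset.univ.filter (fun j : Fin n => j < i) = Finset.Iio i := by
        ext j; simp
      rw [this, Fin.card_Iio]
    rw [this, mul_comm]
  simp only [hrow]
  rw [Finset.prod_mul_distrib, Finset.prod_pow_eq_pow_sum, Finset.prod_const, Finset.card_univ,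
    Fintype.card_fin]
  congr 2
  rw [Fin.sum_univ_eq_sum_range (fun i => i) n, Finset.sum_range_id]

end Cfsg.Agent.S0769
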