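import Cfsg.Statements.S0770

set_option autoImplicit false
open Cfsg

namespace Cfsg.Agent.S0770

open Matrix

section
variable {F : Type*} [Field F] {n : ℕ}

theorem mem_torus_iff (h : Matrix.GeneralLinearGroup (Fin n) F) :
    h ∈ ((Units.map (Matrix.diagonalRingHom (Fin n) F).toMonoidHom).range :
      Subgroup (Matrix.GeneralLinearGroup (Fin n) F)) ↔
    ∀ i j : Fin n, i ≠ j → (h : Matrix (Fin n) (Fin n) F) i j = 0 := by
  constructor
  · rintro ⟨u, rfl⟩ i j hij
    simp [Matrix.diagonal_apply_ne _ hij]
  · intro hd
    have hmul : ∀ i, (h : Matrix (Fin n) (Fin n) F) i i * ((h⁻¹ : Matrix.GeneralLinearGroup (Fin n) F) : Matrix (Fin n) (Fin n) F) i i = 1 := by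
      intro i
      have h1 : ((h * h⁻¹ : Matrix.GeneralLinearGroup (Fin n) F) : Matrix (Fin n) (Fin n) F) i i = 1 := by
        rw [mul_inv_cancel]; simp
      rw [Matrix.GeneralLinearGroup.coe_mul, Matrix.mul_apply, Finset.sum_eq_single i] at h1
      · exact h1
      · intro l _ hl
        rw [hd i l (Ne.symm hl), zero_mul]
      · intro hi
        exact absurd (Finset.mem_univ i) hi
    let u : (Fin n → F)ˣ := ⟨fun i => (h : Matrix (Fin n) (Fin n) F) i i,
      fun i => ((h⁻¹ : Matrix.GeneralLinearGroup (Fin n) F) : Matrix (Fin n) (Fin n) F) i i,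
      by ext i; exact hmul i, by ext i; rw [Pi.mul_apply, mul_comm]; exact hmul i⟩
    refine ⟨u, ?_⟩
    apply Units.ext
    ext i j
    simp only [Units.coe_map, RingHom.toMonoidHom_eq_coe, MonoidHom.coe_coe,
      Matrix.diagonalRingHom_apply, u]
    by_cases hij : i = j
    · subst hij
      simp
    · rw [Matrix.diagonal_apply_ne _ hij, hd i j hij]

end

/-- For a field with at least 3 elements, an invertible matrix normalises the subgroup of invertible diagonal matrices of GL_n if and only if it is monomial (exactly one non-zero entry in each row). -/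
theorem result {F : Type*} [Field F] (hF : ∃ a : F, a ≠ 0 ∧ a ≠ 1) (n : ℕ) (g : Matrix.GeneralLinearGroup (Fin n) F) : g ∈ Subgroup.normalizer ((Units.map (Matrix.diagonalRingHom (Fin n) F).toMonoidHom).range : Subgroup (Matrix.GeneralLinearGroup (Fin n) F)) ↔ ∀ i : Fin n, ∃! j : Fin n, (g : Matrix (Fin n) (Fin n) F) i j ≠ 0 := by
  classical
  rw [Subgroup.mem_normalizer_iff]
  simp only [mem_torus_iff]
  constructor
  · intro hnorm i
    -- existence
    have hex : ∃ j, (g : Matrix (Fin n) (Fin n) F) i j ≠ 0 := by
      by_contra hcon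
      push Not at hcon
      have h1 : ((g * g⁻¹ : Matrix.GeneralLinearGroup (Fin n) F) : Matrix (Fin n) (Fin n) F) i i = 1 := by
        rw [mul_inv_cancel]; simp
      rw [Matrix.GeneralLinearGroup.coe_mul, Matrix.mul_apply] at h1
      simp only [hcon, zero_mul, Finset.sum_const_zero] at h1
      exact zero_ne_one h1
    obtain ⟨j, hj⟩ := hex
    refine ⟨j, hj, ?_⟩
    intro k hk
    by_contra hkj
    obtain ⟨a, ha0, ha1⟩ := hF
    -- the diagonal element
    let dv : Fin n → F := fun l => if l = j then a else 1
    let u : (Fin n → F)ˣ := ⟨dv, fun l => if l = j then a⁻¹ else 1,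
      by ext l; by_cases hl : l = j <;> simp [dv, hl, ha0],
      by ext l; by_cases hl : l = j <;> simp [dv, hl, ha0]⟩
    let h : Matrix.GeneralLinearGroup (Fin n) F := Units.map (Matrix.diagonalRingHom (Fin n) F).toMonoidHom u
    have hh : (h : Matrix (Fin n) (Fin n) F) = Matrix.diagonal dv := rfl
    have hdiag : ∀ i j : Fin n, i ≠ j → (h : Matrix (Fin n) (Fin n) F) i j = 0 := by
      intro i j hij
      rw [hh, Matrix.diagonal_apply_ne _ hij]
    have hconj := (hnorm h).mp hdiag
    -- h' * g = g * h
    set h' := g * h * g⁻¹ with hh'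
    have heq : h' * g = g * h := by rw [hh']; group
    have heqM : (h' : Matrix (Fin n) (Fin n) F) * (g : Matrix (Fin n) (Fin n) F) =
        (g : Matrix (Fin n) (Fin n) F) * (h : Matrix (Fin n) (Fin n) F) := by
      rw [← Matrix.GeneralLinearGroup.coe_mul, ← Matrix.GeneralLinearGroup.coe_mul, heq]
    have hentry : ∀ l : Fin n, (h' : Matrix (Fin n) (Fin n) F) i i * (g : Matrix (Fin n) (Fin n) F) i l =
        (g : Matrix (Fin n) (Fin n) F) i l * dv l := by
      intro l
      have := congrFun (congrFun heqM i) l
      rw [Matrix.mul_apply, Matrix.mul_apply, Finset.sum_eq_single i, Finset.sum_eq_single l, hh,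
        Matrix.diagonal_apply_eq] at this
      · exact this
      · intro m _ hm
        rw [hh, Matrix.diagonal_apply_ne _ hm, mul_zero]
      · intro hl; exact absurd (Finset.mem_univ l) hl
      · intro m _ hm
        rw [hconj i m (Ne.symm hm), zero_mul]
      · intro hi; exact absurd (Finset.mem_univ i) hi
    have e1 := hentry j
    have e2 := hentry k
    simp only [dv, if_true, if_neg hkj, mul_one] at e1 e2
    have h1 : (h' : Matrix (Fin n) (Fin n) F) i i = 1 := by
      have : ((h' : Matrix (Fin n) (Fin n) F) i i - 1) * (g : Matrix (Fin n) (Fin n) F) i k = 0 := by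
        linear_combination e2
      rcases mul_eq_zero.mp this with h | h
      · exact sub_eq_zero.mp h
      · exact absurd h hk
    rw [h1, one_mul] at e1
    have : (g : Matrix (Fin n) (Fin n) F) i j * (a - 1) = 0 := by linear_combination -e1
    rcases mul_eq_zero.mp this with h | h
    · exact hj h
    · exact ha1 (sub_eq_zero.mp h)
  · intro hmono
    choose σ hσ hσuniq using hmono
    have hσ' : ∀ i j, (g : Matrix (Fin n) (Fin n) F) i j ≠ 0 → j = σ i := fun i j h => hσuniq i j h
    have hzero : ∀ i j, j ≠ σ i → (g : Matrix (Fin n) (Fin n) F) i j = 0 := by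
      intro i j hj
      by_contra h
      exact hj (hσ' i j h)
    have hσinj : Function.Injective σ := by
      intro i i' hii
      by_contra hne
      have h1 : ((g * g⁻¹ : Matrix.GeneralLinearGroup (Fin n) F) : Matrix (Fin n) (Fin n) F) i i' = 0 := by
        rw [mul_inv_cancel]; simp [hne]
      have h2 : ((g * g⁻¹ : Matrix.GeneralLinearGroup (Fin n) F) : Matrix (Fin n) (Fin n) F) i' i' = 1 := by
        rw [mul_inv_cancel]; simp
      rw [Matrix.GeneralLinearGroup.coe_mul, Matrix.mul_apply, Finset.sum_eq_single (σ i)] at h1
      rw [Matrix.GeneralLinearGroup.coe_mul, Matrix.mul_apply, Finset.sum_eq_single (σ i')] at h2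
      · rcases mul_eq_zero.mp h1 with h | h
        · exact hσ i h
        · rw [← hii, h, mul_zero] at h2
          exact zero_ne_one h2
      · intro l _ hl; rw [hzero i' l hl, zero_mul]
      · intro h; exact absurd (Finset.mem_univ _) h
      · intro l _ hl; rw [hzero i l hl, zero_mul]
      · intro h; exact absurd (Finset.mem_univ _) h
    have hσsurj : Function.Surjective σ := Finite.injective_iff_surjective.mp hσinj
    -- column characterisation
    have hcol : ∀ l i, l ≠ i → (g : Matrix (Fin n) (Fin n) F) l (σ i) = 0 := by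
      intro l i hl
      apply hzero
      intro h
      exact hl (hσinj h).symm
    intro h
    set h' := g * h * g⁻¹ with hh'
    have heq : h' * g = g * h := by rw [hh']; group
    have heqM : (h' : Matrix (Fin n) (Fin n) F) * (g : Matrix (Fin n) (Fin n) F) =
        (g : Matrix (Fin n) (Fin n) F) * (h : Matrix (Fin n) (Fin n) F) := by
      rw [← Matrix.GeneralLinearGroup.coe_mul, ← Matrix.GeneralLinearGroup.coe_mul, heq]
    constructor
    · intro hdiag i' i hi
      have := congrFun (congrFun heqM i') (σ i)
      rw [Matrix.mul_apply, Matrix.mul_apply, Finset.sum_eq_single i, Finset.sum_eq_single (σ i)] at this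
      · rw [hcol i' i hi, zero_mul] at this
        rcases mul_eq_zero.mp this with h | h
        · exact h
        · exact absurd h (hσ i)
      · intro m _ hm
        rw [hdiag m (σ i) hm, mul_zero]
      · intro h; exact absurd (Finset.mem_univ _) h
      · intro m _ hm
        rw [hcol m i hm, mul_zero]
      · intro h; exact absurd (Finset.mem_univ _) h
    · intro hdiag j k hjk
      obtain ⟨i, rfl⟩ := hσsurj j
      have := congrFun (congrFun heqM i) k
      rw [Matrix.mul_apply, Matrix.mul_apply, Finset.sum_eq_single i, Finset.sum_eq_single (σ i)] at this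
      · rw [hzero i k (Ne.symm hjk), mul_zero] at this
        rcases mul_eq_zero.mp this.symm with h | h
        · exact absurd h (hσ i)
        · exact h
      · intro m _ hm
        rw [hzero i m hm, zero_mul]
      · intro h; exact absurd (Finset.mem_univ _) h
      · intro m _ hm
        rw [hdiag i m (Ne.symm hm), zero_mul]
      · intro h; exact absurd (Finset.mem_univ _) h

end Cfsg.Agent.S0770
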