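import Cfsg.Statements.S0771

set_option autoImplicit false
open Cfsg

namespace Cfsg.Agent.S0771

open Matrix


section
variable {F : Type*} [Field F] (k l : ℕ)

/-- block index -/
def blk (i : Fin (k + l)) : ℕ := if k ≤ (i : ℕ) then 1 else 0

theorem blk_lt_iff (i j : Fin (k + l)) : blk k l j < blk k l i ↔ (j : ℕ) < k ∧ k ≤ (i : ℕ) := by
  unfold blk
  split_ifs <;> omega

def Uset : Set (Fin (k + l) → F) := {v | ∀ i : Fin (k + l), k ≤ (i : ℕ) → v i = 0}

theorem mulVec_mem_U (M : Matrix (Fin (k + l)) (Fin (k + l)) F) (hM : M.BlockTriangular (blk k l))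
    (v : Fin (k + l) → F) (hv : v ∈ Uset k l) : M *ᵥ v ∈ Uset k l := by
  intro i hi
  rw [Matrix.mulVec, dotProduct]
  apply Finset.sum_eq_zero
  intro j _
  by_cases hj : k ≤ (j : ℕ)
  · rw [hv j hj, mul_zero]
  · rw [hM ((blk_lt_iff k l i j).mpr ⟨not_le.mp hj, hi⟩), zero_mul]

theorem mem_stab_iff (g : Matrix.GeneralLinearGroup (Fin (k + l)) F) :
    g ∈ Cfsg.stabilizing (Cfsg.glToMat (Fin (k + l)) F) (Uset k l) ↔
      (g : Matrix (Fin (k + l)) (Fin (k + l)) F).BlockTriangular (blk k l) := by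
  constructor
  · intro hg i j hij
    obtain ⟨hj, hi⟩ := (blk_lt_iff k l i j).mp hij
    have hmem : (Pi.single j 1 : Fin (k + l) → F) ∈ Uset k l := by
      intro i' hi'
      have : i' ≠ j := by
        intro h; rw [h] at hi'; omega
      simp [this]
    have := (hg (Pi.single j 1)).mp hmem i hi
    simpa using this
  · intro hM v
    constructor
    · intro hv
      exact mulVec_mem_U k l _ hM v hv
    · intro hv
      have : Invertible (g : Matrix (Fin (k + l)) (Fin (k + l)) F) := Units.invertible g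
      have hinv := Matrix.blockTriangular_inv_of_blockTriangular hM
      have h2 := mulVec_mem_U k l _ hinv _ hv
      have h3 : (g : Matrix (Fin (k + l)) (Fin (k + l)) F)⁻¹ *ᵥ ((Cfsg.glToMat (Fin (k + l)) F) g *ᵥ v) = v := by
        simp [Matrix.mulVec_mulVec]
      rw [h3] at h2
      exact h2

end
section
variable {F : Type*} [Field F] (k l : ℕ)

theorem blockTriangular_iff (M : Matrix (Fin (k + l)) (Fin (k + l)) F) :
    M.BlockTriangular (blk k l) ↔
      (M.submatrix (finSumFinEquiv : Fin k ⊕ Fin l ≃ Fin (k + l)) finSumFinEquiv).toBlocks₂₁ = 0 := by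
  constructor
  · intro hM
    ext i j
    simp only [Matrix.toBlocks₂₁, Matrix.of_apply, Matrix.submatrix_apply, Matrix.zero_apply,
      finSumFinEquiv_apply_left, finSumFinEquiv_apply_right]
    apply hM
    rw [blk_lt_iff]
    simp
  · intro h i j hij
    obtain ⟨hj, hi⟩ := (blk_lt_iff k l i j).mp hij
    have := congrFun (congrFun h ⟨(i : ℕ) - k, by omega⟩) ⟨(j : ℕ), hj⟩
    simp only [Matrix.toBlocks₂₁, Matrix.of_apply, Matrix.submatrix_apply, Matrix.zero_apply,
      finSumFinEquiv_apply_left, finSumFinEquiv_apply_right] at this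
    convert this using 2
    · ext; simp; omega
    · ext; simp

/-- to block form -/
def toB (M : Matrix (Fin (k + l)) (Fin (k + l)) F) : Matrix (Fin k ⊕ Fin l) (Fin k ⊕ Fin l) F :=
  M.submatrix (finSumFinEquiv : Fin k ⊕ Fin l ≃ Fin (k + l)) finSumFinEquiv

/-- from block form -/
def ofB (N : Matrix (Fin k ⊕ Fin l) (Fin k ⊕ Fin l) F) : Matrix (Fin (k + l)) (Fin (k + l)) F :=
  N.submatrix (finSumFinEquiv : Fin k ⊕ Fin l ≃ Fin (k + l)).symm
    (finSumFinEquiv : Fin k ⊕ Fin l ≃ Fin (k + l)).symm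

theorem toB_ofB (N : Matrix (Fin k ⊕ Fin l) (Fin k ⊕ Fin l) F) : toB k l (ofB k l N) = N := by
  unfold toB ofB
  rw [Matrix.submatrix_submatrix]
  simp

theorem ofB_toB (M : Matrix (Fin (k + l)) (Fin (k + l)) F) : ofB k l (toB k l M) = M := by
  unfold toB ofB
  rw [Matrix.submatrix_submatrix]
  simp

theorem det_toB (M : Matrix (Fin (k + l)) (Fin (k + l)) F) : (toB k l M).det = M.det := by
  unfold toB
  exact Matrix.det_submatrix_equiv_self _ _

theorem det_ofB (N : Matrix (Fin k ⊕ Fin l) (Fin k ⊕ Fin l) F) : (ofB k l N).det = N.det := by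
  unfold ofB
  exact Matrix.det_submatrix_equiv_self _ _

theorem toB_eq_fromBlocks (M : Matrix (Fin (k + l)) (Fin (k + l)) F)
    (h : (toB k l M).toBlocks₂₁ = 0) :
    toB k l M = Matrix.fromBlocks (toB k l M).toBlocks₁₁ (toB k l M).toBlocks₁₂ 0 (toB k l M).toBlocks₂₂ := by
  conv_lhs => rw [← Matrix.fromBlocks_toBlocks (toB k l M)]
  rw [h]

theorem det_blocks_ne_zero (g : Matrix.GeneralLinearGroup (Fin (k + l)) F)
    (h : (toB k l (g : Matrix (Fin (k + l)) (Fin (k + l)) F)).toBlocks₂₁ = 0) :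
    (toB k l (g : Matrix (Fin (k + l)) (Fin (k + l)) F)).toBlocks₁₁.det *
      (toB k l (g : Matrix (Fin (k + l)) (Fin (k + l)) F)).toBlocks₂₂.det ≠ 0 := by
  rw [← Matrix.det_fromBlocks_zero₂₁ _ (toB k l (g : Matrix (Fin (k + l)) (Fin (k + l)) F)).toBlocks₁₂,
    ← toB_eq_fromBlocks k l _ h, det_toB]
  exact g.det_ne_zero

/-- the equivalence with triples -/
noncomputable def equivTriples :
    {g : Matrix.GeneralLinearGroup (Fin (k + l)) F //
      (toB k l (g : Matrix (Fin (k + l)) (Fin (k + l)) F)).toBlocks₂₁ = 0} ≃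
    Matrix.GeneralLinearGroup (Fin k) F × Matrix.GeneralLinearGroup (Fin l) F ×
      Matrix (Fin k) (Fin l) F where
  toFun g :=
    (Matrix.GeneralLinearGroup.mkOfDetNeZero _ (left_ne_zero_of_mul (det_blocks_ne_zero k l g.1 g.2)),
     Matrix.GeneralLinearGroup.mkOfDetNeZero _ (right_ne_zero_of_mul (det_blocks_ne_zero k l g.1 g.2)),
     (toB k l (g.1 : Matrix (Fin (k + l)) (Fin (k + l)) F)).toBlocks₁₂)
  invFun t :=
    ⟨Matrix.GeneralLinearGroup.mkOfDetNeZero
      (ofB k l (Matrix.fromBlocks (t.1 : Matrix (Fin k) (Fin k) F) t.2.2 0 (t.2.1 : Matrix (Fin l) (Fin l) F)))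
      (by
        rw [det_ofB, Matrix.det_fromBlocks_zero₂₁]
        exact mul_ne_zero t.1.det_ne_zero t.2.1.det_ne_zero), by
      have : ((Matrix.GeneralLinearGroup.mkOfDetNeZero
        (ofB k l (Matrix.fromBlocks (t.1 : Matrix (Fin k) (Fin k) F) t.2.2 0 (t.2.1 : Matrix (Fin l) (Fin l) F)))
        (by
          rw [det_ofB, Matrix.det_fromBlocks_zero₂₁]
          exact mul_ne_zero t.1.det_ne_zero t.2.1.det_ne_zero) : Matrix.GeneralLinearGroup (Fin (k + l)) F) :
          Matrix (Fin (k + l)) (Fin (k + l)) F) =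
        ofB k l (Matrix.fromBlocks (t.1 : Matrix (Fin k) (Fin k) F) t.2.2 0 (t.2.1 : Matrix (Fin l) (Fin l) F)) := rfl
      rw [this, toB_ofB, Matrix.toBlocks_fromBlocks₂₁]⟩
  left_inv g := by
    apply Subtype.ext
    apply Units.ext
    show ofB k l (Matrix.fromBlocks _ _ 0 _) = (g.1 : Matrix (Fin (k + l)) (Fin (k + l)) F)
    have h1 := toB_eq_fromBlocks k l _ g.2
    have h2 := ofB_toB k l (g.1 : Matrix (Fin (k + l)) (Fin (k + l)) F)
    rw [h1] at h2
    exact h2
  right_inv t := by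
    obtain ⟨a, d, B⟩ := t
    have hM : ∀ (h : (ofB k l (Matrix.fromBlocks (a : Matrix (Fin k) (Fin k) F) B 0 (d : Matrix (Fin l) (Fin l) F))).det ≠ 0),
        toB k l ((Matrix.GeneralLinearGroup.mkOfDetNeZero _ h : Matrix.GeneralLinearGroup (Fin (k + l)) F) :
          Matrix (Fin (k + l)) (Fin (k + l)) F) =
        Matrix.fromBlocks (a : Matrix (Fin k) (Fin k) F) B 0 (d : Matrix (Fin l) (Fin l) F) := by
      intro h
      exact toB_ofB k l _
    refine Prod.ext ?_ (Prod.ext ?_ ?_)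
    · apply Units.ext
      show (toB k l _).toBlocks₁₁ = _
      rw [hM, Matrix.toBlocks_fromBlocks₁₁]
    · apply Units.ext
      show (toB k l _).toBlocks₂₂ = _
      rw [hM, Matrix.toBlocks_fromBlocks₂₂]
    · show (toB k l _).toBlocks₁₂ = _
      rw [hM, Matrix.toBlocks_fromBlocks₁₂]

end

section
variable {F : Type*} [Field F] [Fintype F] (k l : ℕ)

theorem card_parabolic :
    Nat.card ↥(Cfsg.stabilizing (Cfsg.glToMat (Fin (k + l)) F) (Uset k l)) =
      Fintype.card F ^ (k * l) * (∏ i : Fin k, (Fintype.card F ^ k - Fintype.card F ^ (i : ℕ))) *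
        ∏ i : Fin l, (Fintype.card F ^ l - Fintype.card F ^ (i : ℕ)) := by
  classical
  have e1 : ↥(Cfsg.stabilizing (Cfsg.glToMat (Fin (k + l)) F) (Uset k l)) ≃
      {g : Matrix.GeneralLinearGroup (Fin (k + l)) F //
        (toB k l (g : Matrix (Fin (k + l)) (Fin (k + l)) F)).toBlocks₂₁ = 0} :=
    Equiv.subtypeEquivRight (fun g => (mem_stab_iff k l g).trans (blockTriangular_iff k l _))
  rw [Nat.card_congr (e1.trans (equivTriples k l)), Nat.card_prod, Nat.card_prod,
    Matrix.card_GL_field, Matrix.card_GL_field]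
  have hM : Nat.card (Matrix (Fin k) (Fin l) F) = Fintype.card F ^ (k * l) := by
    rw [Nat.card_eq_fintype_card]
    show Fintype.card (Fin k → Fin l → F) = _
    simp [pow_mul]
    ring
  rw [hM]
  ring

end

/-- Maximal parabolic of GL_n(q): the stabiliser of the coordinate subspace spanned by the first k basis vectors has order q^(k(n-k)) · |GL_k(q)| · |GL_(n-k)(q)| (unipotent radical of order q^(k(n-k)) and Levi complement GL_k × GL_(n-k)). -/
theorem result {F : Type*} [Field F] [Fintype F] {q : ℕ} (hF : Fintype.card F = q) (n k : ℕ) (hk : k ≤ n) : Nat.card ↥(Cfsg.stabilizing (Cfsg.glToMat (Fin n) F) {v : Fin n → F | ∀ i : Fin n, k ≤ (i : ℕ) → v i = 0}) = q ^ (k * (n - k)) * (∏ i : Fin k, (q ^ k - q ^ (i : ℕ))) * ∏ i : Fin (n - k), (q ^ (n - k) - q ^ (i : ℕ)) := by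
  obtain ⟨l, rfl⟩ := Nat.exists_eq_add_of_le hk
  rw [Nat.add_sub_cancel_left]
  subst hF
  exact card_parabolic k l

end Cfsg.Agent.S0771
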