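import Cfsg.Statements.S0773
import Cfsg.Agent.Lib.Helper18.Stab

set_option autoImplicit false
open Cfsg

namespace Cfsg.Agent.S0773

open Matrix Cfsg.Agent.Lib.Helper18

section
variable {F : Type*} [Field F] (n : ℕ)

/-- the parabolic fixing the first `a` coordinates' span -/
abbrev P (a : ℕ) : Subgroup (Matrix.GeneralLinearGroup (Fin n) F) :=
  Cfsg.stabilizing (Cfsg.glToMat (Fin n) F) {v : Fin n → F | ∀ i : Fin n, a ≤ (i : ℕ) → v i = 0}

theorem mem_P_iff (a : ℕ) (g : Matrix.GeneralLinearGroup (Fin n) F) :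
    g ∈ P (F := F) n a ↔ ∀ i j : Fin n, a ≤ (i : ℕ) → (j : ℕ) < a → g.1 i j = 0 := by
  have := mem_stabilizing_coord_iff (Cfsg.glToMat (Fin n) F) (fun i : Fin n => a ≤ (i : ℕ)) g
  simpa [not_le] using this

/-- inverse transpose, reversed -/
def phi (g : Matrix.GeneralLinearGroup (Fin n) F) : Matrix.GeneralLinearGroup (Fin n) F :=
  ⟨((g⁻¹ : Matrix.GeneralLinearGroup (Fin n) F).1)ᵀ.submatrix (Fin.revPerm : Fin n ≃ Fin n) (Fin.revPerm : Fin n ≃ Fin n),
   (g.1)ᵀ.submatrix (Fin.revPerm : Fin n ≃ Fin n) (Fin.revPerm : Fin n ≃ Fin n), by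
    rw [Matrix.submatrix_mul_equiv, ← Matrix.transpose_mul, Units.mul_inv, Matrix.transpose_one,
      Matrix.submatrix_one_equiv], by
    rw [Matrix.submatrix_mul_equiv, ← Matrix.transpose_mul, Units.inv_mul, Matrix.transpose_one,
      Matrix.submatrix_one_equiv]⟩

theorem phi_val (g : Matrix.GeneralLinearGroup (Fin n) F) :
    (phi n g).1 = ((g⁻¹ : Matrix.GeneralLinearGroup (Fin n) F).1)ᵀ.submatrix
      (Fin.revPerm : Fin n ≃ Fin n) (Fin.revPerm : Fin n ≃ Fin n) := rfl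

theorem phi_inv_val (g : Matrix.GeneralLinearGroup (Fin n) F) :
    ((phi n g)⁻¹ : Matrix.GeneralLinearGroup (Fin n) F).1 = (g.1)ᵀ.submatrix
      (Fin.revPerm : Fin n ≃ Fin n) (Fin.revPerm : Fin n ≃ Fin n) := rfl

theorem phi_mul (g h : Matrix.GeneralLinearGroup (Fin n) F) :
    phi n (g * h) = phi n g * phi n h := by
  apply Units.ext
  rw [Units.val_mul, phi_val, phi_val, phi_val, _root_.mul_inv_rev, Units.val_mul, Matrix.transpose_mul,
    Matrix.submatrix_mul_equiv]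

theorem phi_phi (g : Matrix.GeneralLinearGroup (Fin n) F) : phi n (phi n g) = g := by
  apply Units.ext
  rw [phi_val, phi_inv_val]
  ext i j
  simp

theorem phi_mem (a : ℕ) (g : Matrix.GeneralLinearGroup (Fin n) F) (hg : g ∈ P (F := F) n a) :
    phi n g ∈ P (F := F) n (n - a) := by
  rw [mem_P_iff]
  intro i j hi hj
  rw [phi_val]
  simp only [Matrix.submatrix_apply, Matrix.transpose_apply, Fin.revPerm_apply]
  apply (mem_P_iff n a _).mp (inv_mem hg)
  · rw [Fin.val_rev]; omega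
  · rw [Fin.val_rev]; omega

/-- the isomorphism -/
def iso (k : ℕ) (hk : k ≤ n) : ↥(P (F := F) n k) ≃* ↥(P (F := F) n (n - k)) where
  toFun x := ⟨phi n x.1, phi_mem n k x.1 x.2⟩
  invFun y := ⟨phi n y.1, by
    have := phi_mem n (n - k) y.1 y.2
    rwa [Nat.sub_sub_self hk] at this⟩
  left_inv x := Subtype.ext (phi_phi n x.1)
  right_inv y := Subtype.ext (phi_phi n y.1)
  map_mul' x y := Subtype.ext (phi_mul n x.1 y.1)

end

section
variable {F : Type*} [Field F] (n : ℕ)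

/-- elementary transvection in GL -/
noncomputable def E (i a : Fin n) (h : i ≠ a) (c : F) : Matrix.GeneralLinearGroup (Fin n) F :=
  Matrix.GeneralLinearGroup.mkOfDetNeZero (Matrix.transvection i a c)
    (by rw [Matrix.det_transvection_of_ne _ _ h]; exact one_ne_zero)

theorem E_val (i a : Fin n) (h : i ≠ a) (c : F) :
    (E n i a h c).1 = Matrix.transvection i a c := rfl

theorem E_mem (l : ℕ) (i a : Fin n) (h : i ≠ a) (c : F) (hia : ¬ (l ≤ (i : ℕ) ∧ (a : ℕ) < l)) :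
    E n i a h c ∈ P (F := F) n l := by
  rw [mem_P_iff]
  intro x y hx hy
  have hxy : x ≠ y := by
    intro hxy; rw [hxy] at hx; omega
  rw [E_val, Matrix.transvection, Matrix.add_apply, Matrix.one_apply_ne hxy, zero_add,
    Matrix.single_apply, if_neg]
  rintro ⟨rfl, rfl⟩
  exact hia ⟨hx, hy⟩

theorem E_mulVec (i a : Fin n) (h : i ≠ a) (c : F) (w : Fin n → F) :
    (E n i a h c).1 *ᵥ w = w + (c * w a) • Pi.single i (1 : F) := by
  rw [E_val, Matrix.transvection, Matrix.add_mulVec, Matrix.one_mulVec, Matrix.single_mulVec_eq]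

variable (l : ℕ) (W : Submodule F (Fin n → F))

theorem single_mem_of (hW : ∀ h ∈ P (F := F) n l, ∀ w ∈ W, h.1 *ᵥ w ∈ W)
    (w : Fin n → F) (hw : w ∈ W) (a : Fin n) (hwa : w a ≠ 0) (i : Fin n) (hi : i ≠ a)
    (hia : ¬ (l ≤ (i : ℕ) ∧ (a : ℕ) < l)) : Pi.single i (1 : F) ∈ W := by
  have := hW (E n i a hi (w a)⁻¹) (E_mem n l i a hi _ hia) w hw
  rw [E_mulVec, inv_mul_cancel₀ hwa, one_smul] at this
  exact (W.add_mem_iff_right hw).mp this

theorem single_self_mem_of (w : Fin n → F) (hw : w ∈ W) (a : Fin n) (hwa : w a ≠ 0)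
    (hothers : ∀ i, i ≠ a → w i ≠ 0 → Pi.single i (1 : F) ∈ W) : Pi.single a (1 : F) ∈ W := by
  classical
  obtain ⟨S, hSdef⟩ : ∃ S : Fin n → F, S = ∑ i ∈ Finset.univ.erase a, w i • Pi.single i (1 : F) :=
    ⟨_, rfl⟩
  have hsum : w a • Pi.single a (1 : F) + S = w := by
    rw [hSdef]
    have h0 := Finset.add_sum_erase Finset.univ (fun i => w i • (Pi.single i (1 : F) : Fin n → F))
      (Finset.mem_univ a)
    rw [h0]
    exact (pi_eq_sum_univ' w).symm
  have hS : S ∈ W := by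
    rw [hSdef]
    apply Submodule.sum_mem
    intro i hi
    by_cases hwi : w i = 0
    · rw [hwi, zero_smul]; exact W.zero_mem
    · exact W.smul_mem _ (hothers i (Finset.ne_of_mem_erase hi) hwi)
  have h1 : w a • Pi.single a (1 : F) ∈ W := by
    have h2 : w a • Pi.single a (1 : F) = w - S := eq_sub_of_add_eq hsum
    rw [h2]
    exact W.sub_mem hw hS
  have := W.smul_mem (w a)⁻¹ h1
  rwa [smul_smul, inv_mul_cancel₀ hwa, one_smul] at this

theorem eq_top_of (hW : ∀ h ∈ P (F := F) n l, ∀ w ∈ W, h.1 *ᵥ w ∈ W)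
    (w : Fin n → F) (hw : w ∈ W) (a : Fin n) (hla : l ≤ (a : ℕ)) (hwa : w a ≠ 0) : W = ⊤ := by
  classical
  have h1 : ∀ i, i ≠ a → Pi.single i (1 : F) ∈ W := fun i hi =>
    single_mem_of n l W hW w hw a hwa i hi (by omega)
  have h2 : Pi.single a (1 : F) ∈ W := single_self_mem_of n W w hw a hwa (fun i hi _ => h1 i hi)
  have h3 : ∀ i, Pi.single i (1 : F) ∈ W := by
    intro i
    by_cases hi : i = a
    · rw [hi]; exact h2
    · exact h1 i hi
  rw [eq_top_iff]
  intro v _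
  rw [pi_eq_sum_univ' v]
  exact Submodule.sum_mem _ (fun i _ => W.smul_mem _ (h3 i))

theorem le_of (hW : ∀ h ∈ P (F := F) n l, ∀ w ∈ W, h.1 *ᵥ w ∈ W)
    (hWle : ∀ w ∈ W, ∀ a : Fin n, l ≤ (a : ℕ) → w a = 0)
    (w : Fin n → F) (hw : w ∈ W) (hw0 : w ≠ 0) (v : Fin n → F)
    (hv : ∀ i : Fin n, l ≤ (i : ℕ) → v i = 0) : v ∈ W := by
  classical
  obtain ⟨a, hwa⟩ := Function.ne_iff.mp hw0
  have hwa : w a ≠ 0 := hwa
  have hal : (a : ℕ) < l := by
    by_contra h
    exact hwa (hWle w hw a (not_lt.mp h))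
  have h1 : ∀ i : Fin n, i ≠ a → (i : ℕ) < l → Pi.single i (1 : F) ∈ W := fun i hi hil =>
    single_mem_of n l W hW w hw a hwa i hi (by omega)
  have h2 : Pi.single a (1 : F) ∈ W := by
    apply single_self_mem_of n W w hw a hwa
    intro i hi hwi
    apply h1 i hi
    by_contra h
    exact hwi (hWle w hw i (not_lt.mp h))
  have h3 : ∀ i : Fin n, (i : ℕ) < l → Pi.single i (1 : F) ∈ W := by
    intro i hil
    by_cases hi : i = a
    · rw [hi]; exact h2
    · exact h1 i hi hil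
  rw [pi_eq_sum_univ' v]
  apply Submodule.sum_mem
  intro i _
  by_cases hil : (i : ℕ) < l
  · exact W.smul_mem _ (h3 i hil)
  · rw [hv i (not_lt.mp hil), zero_smul]; exact W.zero_mem

end

section
variable {F : Type*} [Field F] [Finite F] (n : ℕ)

theorem card_U (a : ℕ) (ha : a ≤ n) :
    Nat.card {v : Fin n → F // ∀ i : Fin n, a ≤ (i : ℕ) → v i = 0} = Nat.card F ^ a := by
  classical
  have e : {v : Fin n → F // ∀ i : Fin n, a ≤ (i : ℕ) → v i = 0} ≃ (Fin a → F) :=
    { toFun := fun v j => v.1 ⟨j, by omega⟩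
      invFun := fun w => ⟨fun i => if h : (i : ℕ) < a then w ⟨i, h⟩ else 0, fun i hi => by
        simp [not_lt.mpr hi]⟩
      left_inv := fun v => by
        apply Subtype.ext
        funext i
        by_cases h : (i : ℕ) < a
        · simp [h]
        · simp only [h, dite_false]
          exact (v.2 i (not_lt.mp h)).symm
      right_inv := fun w => by
        funext j
        simp [j.2] }
  rw [Nat.card_congr e, Nat.card_fun, Nat.card_eq_fintype_card (α := Fin a), Fintype.card_fin]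

omit [Finite F] in
theorem gl_mulVec_inj (g : Matrix.GeneralLinearGroup (Fin n) F) {v v' : Fin n → F}
    (h : g.1 *ᵥ v = g.1 *ᵥ v') : v = v' := by
  have := congrArg (fun x => (g⁻¹ : Matrix.GeneralLinearGroup (Fin n) F).1 *ᵥ x) h
  simpa [Matrix.mulVec_mulVec, ← Units.val_mul] using this

theorem nonconj (k : ℕ) (hk0 : 0 < k) (hkn : k < n) (h2 : 2 * k ≠ n)
    (g : Matrix.GeneralLinearGroup (Fin n) F) :
    (P (F := F) n k).map (MulAut.conj g).toMonoidHom ≠ P (F := F) n (n - k) := by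
  classical
  intro heq
  obtain ⟨l, hl⟩ : ∃ l, l = n - k := ⟨_, rfl⟩
  rw [← hl] at heq
  let W : Submodule F (Fin n → F) :=
    { carrier := {w | ∀ i : Fin n, k ≤ (i : ℕ) →
        ((g⁻¹ : Matrix.GeneralLinearGroup (Fin n) F).1 *ᵥ w) i = 0}
      add_mem' := by
        intro x y hx hy i hi
        rw [Matrix.mulVec_add, Pi.add_apply, hx i hi, hy i hi, add_zero]
      zero_mem' := by
        intro i hi
        rw [Matrix.mulVec_zero]; rfl
      smul_mem' := by
        intro c x hx i hi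
        rw [Matrix.mulVec_smul, Pi.smul_apply, hx i hi, smul_zero] }
  have hWmem : ∀ w, w ∈ W ↔ ∀ i : Fin n, k ≤ (i : ℕ) →
      ((g⁻¹ : Matrix.GeneralLinearGroup (Fin n) F).1 *ᵥ w) i = 0 := fun w => Iff.rfl
  have hW : ∀ h ∈ P (F := F) n l, ∀ w ∈ W, h.1 *ᵥ w ∈ W := by
    intro h' hh' w hw
    rw [← heq] at hh'
    obtain ⟨h, hh, rfl⟩ := Subgroup.mem_map.mp hh'
    rw [hWmem]
    have : (g⁻¹ : Matrix.GeneralLinearGroup (Fin n) F).1 *ᵥ
        (((MulAut.conj g).toMonoidHom h).1 *ᵥ w) =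
        h.1 *ᵥ ((g⁻¹ : Matrix.GeneralLinearGroup (Fin n) F).1 *ᵥ w) := by
      rw [Matrix.mulVec_mulVec, Matrix.mulVec_mulVec, ← Units.val_mul, ← Units.val_mul]
      congr 2
      simp [MulAut.conj_apply, mul_assoc]
    rw [this]
    exact (hh _).mp ((hWmem w).mp hw)
  have hWtop : W ≠ ⊤ := by
    intro htop
    have hx : g.1 *ᵥ Pi.single (⟨n - 1, by omega⟩ : Fin n) (1 : F) ∈ W := by rw [htop]; trivial
    have := (hWmem _).mp hx ⟨n - 1, by omega⟩ (by simp only; omega)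
    rw [Matrix.mulVec_mulVec, ← Units.val_mul, inv_mul_cancel, Units.val_one, Matrix.one_mulVec,
      Pi.single_eq_same] at this
    exact one_ne_zero this
  have hWle : ∀ w ∈ W, ∀ a : Fin n, l ≤ (a : ℕ) → w a = 0 := by
    intro w hw a hla
    by_contra hwa
    exact hWtop (eq_top_of n l W hW w hw a hla hwa)
  have hgU : ∀ v : Fin n → F, (∀ i : Fin n, k ≤ (i : ℕ) → v i = 0) → g.1 *ᵥ v ∈ W := by
    intro v hv
    rw [hWmem, Matrix.mulVec_mulVec, ← Units.val_mul, inv_mul_cancel, Units.val_one,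
      Matrix.one_mulVec]
    exact hv
  have hw0 : g.1 *ᵥ Pi.single (⟨0, by omega⟩ : Fin n) (1 : F) ∈ W := by
    apply hgU
    intro i hi
    rw [Pi.single_apply, if_neg]
    intro h
    rw [h] at hi
    simp only at hi
    omega
  have hw0ne : g.1 *ᵥ Pi.single (⟨0, by omega⟩ : Fin n) (1 : F) ≠ 0 := by
    intro h0
    rw [← Matrix.mulVec_zero g.1] at h0
    have := congrFun (gl_mulVec_inj n g h0) ⟨0, by omega⟩
    simp at this
  have hUW := le_of n l W hW hWle _ hw0 hw0ne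
  have hc1 : Nat.card {v : Fin n → F // ∀ i : Fin n, k ≤ (i : ℕ) → v i = 0} ≤
      Nat.card {v : Fin n → F // ∀ i : Fin n, l ≤ (i : ℕ) → v i = 0} :=
    Nat.card_le_card_of_injective (fun v => ⟨g.1 *ᵥ v.1, hWle _ (hgU v.1 v.2)⟩) (by
      intro v v' hvv'
      have := congrArg Subtype.val hvv'
      exact Subtype.ext (gl_mulVec_inj n g this))
  have hc2 : Nat.card {v : Fin n → F // ∀ i : Fin n, l ≤ (i : ℕ) → v i = 0} ≤
      Nat.card {v : Fin n → F // ∀ i : Fin n, k ≤ (i : ℕ) → v i = 0} :=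
    Nat.card_le_card_of_injective
      (fun v => ⟨(g⁻¹ : Matrix.GeneralLinearGroup (Fin n) F).1 *ᵥ v.1,
        (hWmem _).mp (hUW v.1 v.2)⟩) (by
      intro v v' hvv'
      have := congrArg Subtype.val hvv'
      exact Subtype.ext (gl_mulVec_inj n g⁻¹ this))
  rw [card_U n k (by omega), card_U n l (by omega)] at hc1 hc2
  have hq : 1 < Nat.card F := Finite.one_lt_card
  have : k = l := Nat.pow_right_injective hq (le_antisymm hc1 hc2)
  omega

end

/-- The stabilisers in GL_n(F), F finite, of the coordinate subspaces of dimensions k and n − k are isomorphic groups, but when 2k ≠ n (and 0 < k < n) no element of GL_n conjugates one onto the other. -/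
theorem result {F : Type*} [Field F] [Finite F] (n k : ℕ) (hk0 : 0 < k) (hkn : k < n) (h2 : 2 * k ≠ n) : Nonempty (↥(Cfsg.stabilizing (Cfsg.glToMat (Fin n) F) {v : Fin n → F | ∀ i : Fin n, k ≤ (i : ℕ) → v i = 0}) ≃* ↥(Cfsg.stabilizing (Cfsg.glToMat (Fin n) F) {v : Fin n → F | ∀ i : Fin n, n - k ≤ (i : ℕ) → v i = 0})) ∧ ∀ g : Matrix.GeneralLinearGroup (Fin n) F, (Cfsg.stabilizing (Cfsg.glToMat (Fin n) F) {v : Fin n → F | ∀ i : Fin n, k ≤ (i : ℕ) → v i = 0}).map (MulAut.conj g).toMonoidHom ≠ Cfsg.stabilizing (Cfsg.glToMat (Fin n) F) {v : Fin n → F | ∀ i : Fin n, n - k ≤ (i : ℕ) → v i = 0} :=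
  ⟨⟨iso n k hkn.le⟩, fun g => nonconj n k hk0 hkn h2 g⟩

end Cfsg.Agent.S0773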