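import Cfsg.Statements.S0772
import Cfsg.Agent.S0773

set_option autoImplicit false
open Cfsg

namespace Cfsg.Agent.S0772

open Matrix Cfsg.Agent.Lib.Helper18 Cfsg.Agent.S0773

section
variable {F : Type*} [Field F] (n : ℕ)

/-- general transvection `1 + x yᵀ` -/
def Tv (x y : Fin n → F) (h : y ⬝ᵥ x = 0) : Matrix.GeneralLinearGroup (Fin n) F :=
  ⟨1 + vecMulVec x y, 1 - vecMulVec x y, by
    have hA : vecMulVec x y * vecMulVec x y = 0 := by
      rw [vecMulVec_mul_vecMulVec, h, zero_smul, vecMulVec_zero]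
    rw [add_mul, one_mul, mul_sub, mul_one, hA]
    abel, by
    have hA : vecMulVec x y * vecMulVec x y = 0 := by
      rw [vecMulVec_mul_vecMulVec, h, zero_smul, vecMulVec_zero]
    rw [sub_mul, one_mul, mul_add, mul_one, hA]
    abel⟩

theorem Tv_val (x y : Fin n → F) (h : y ⬝ᵥ x = 0) :
    (Tv n x y h).1 = 1 + vecMulVec x y := rfl

theorem Tv_inv_val (x y : Fin n → F) (h : y ⬝ᵥ x = 0) :
    ((Tv n x y h)⁻¹ : Matrix.GeneralLinearGroup (Fin n) F).1 = 1 - vecMulVec x y := rfl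

theorem Tv_mulVec (x y : Fin n → F) (h : y ⬝ᵥ x = 0) (w : Fin n → F) :
    (Tv n x y h).1 *ᵥ w = w + (y ⬝ᵥ w) • x := by
  rw [Tv_val, Matrix.add_mulVec, Matrix.one_mulVec, Matrix.vecMulVec_mulVec]
  congr 1
  ext i
  simp [mul_comm]

theorem vecMul_Tv_inv (x y : Fin n → F) (h : y ⬝ᵥ x = 0) (w : Fin n → F) :
    w ᵥ* ((Tv n x y h)⁻¹ : Matrix.GeneralLinearGroup (Fin n) F).1 = w - (w ⬝ᵥ x) • y := by
  rw [Tv_inv_val, Matrix.vecMul_sub, Matrix.vecMul_one, Matrix.vecMul_vecMulVec]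

theorem Tv_mem_P (k : ℕ) (x y : Fin n → F) (h : y ⬝ᵥ x = 0)
    (hxy : ∀ r s : Fin n, k ≤ (r : ℕ) → (s : ℕ) < k → x r * y s = 0) :
    Tv n x y h ∈ P (F := F) n k := by
  rw [mem_P_iff]
  intro r s hr hs
  have hrs : r ≠ s := by
    intro hrs; rw [hrs] at hr; omega
  rw [Tv_val, Matrix.add_apply, Matrix.one_apply_ne hrs, zero_add, Matrix.vecMulVec_apply]
  exact hxy r s hr hs

variable (Hs : Subgroup (Matrix.GeneralLinearGroup (Fin n) F))

/-- the one-parameter family of transvections lies in `Hs` -/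
def Good (x y : Fin n → F) : Prop :=
  y ⬝ᵥ x = 0 ∧ ∀ c : F, ∃ g ∈ Hs, (g : Matrix (Fin n) (Fin n) F) = 1 + c • vecMulVec x y

theorem Good.conj {x y : Fin n → F} (hG : Good n Hs x y)
    (p : Matrix.GeneralLinearGroup (Fin n) F) (hp : p ∈ Hs) :
    Good n Hs (p.1 *ᵥ x) (y ᵥ* (p⁻¹ : Matrix.GeneralLinearGroup (Fin n) F).1) := by
  refine ⟨?_, ?_⟩
  · rw [← Matrix.dotProduct_mulVec, Matrix.mulVec_mulVec, ← Units.val_mul, inv_mul_cancel,
      Units.val_one, Matrix.one_mulVec]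
    exact hG.1
  · intro c
    obtain ⟨g, hg, hgv⟩ := hG.2 c
    refine ⟨p * g * p⁻¹, Hs.mul_mem (Hs.mul_mem hp hg) (Hs.inv_mem hp), ?_⟩
    rw [Units.val_mul, Units.val_mul, hgv, mul_add, add_mul, mul_one, ← Units.val_mul,
      mul_inv_cancel, Units.val_one, Matrix.mul_smul, Matrix.smul_mul, Matrix.mul_vecMulVec,
      Matrix.vecMulVec_mul]

theorem Good.smul_left {x y : Fin n → F} (hG : Good n Hs x y) (s : F) : Good n Hs (s • x) y := by
  refine ⟨by rw [dotProduct_smul, hG.1, smul_zero], ?_⟩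
  intro c
  obtain ⟨g, hg, hgv⟩ := hG.2 (c * s)
  refine ⟨g, hg, ?_⟩
  rw [hgv, Matrix.smul_vecMulVec, smul_smul]

theorem Good.smul_right {x y : Fin n → F} (hG : Good n Hs x y) (s : F) : Good n Hs x (s • y) := by
  refine ⟨by rw [smul_dotProduct, hG.1, smul_zero], ?_⟩
  intro c
  obtain ⟨g, hg, hgv⟩ := hG.2 (c * s)
  refine ⟨g, hg, ?_⟩
  rw [hgv, Matrix.vecMulVec_smul, smul_smul]

theorem Good.sub_left {x1 x2 y : Fin n → F} (h1 : Good n Hs x1 y) (h2 : Good n Hs x2 y) :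
    Good n Hs (x1 - x2) y := by
  refine ⟨by rw [dotProduct_sub, h1.1, h2.1, sub_zero], ?_⟩
  intro c
  obtain ⟨g1, hg1, hgv1⟩ := h1.2 c
  obtain ⟨g2, hg2, hgv2⟩ := h2.2 (-c)
  refine ⟨g1 * g2, Hs.mul_mem hg1 hg2, ?_⟩
  have hz : vecMulVec x1 y * vecMulVec x2 y = 0 := by
    rw [vecMulVec_mul_vecMulVec, h2.1, zero_smul, vecMulVec_zero]
  rw [Units.val_mul, hgv1, hgv2, add_mul, one_mul, mul_add, mul_one, Matrix.smul_mul,
    Matrix.mul_smul, hz, smul_zero, smul_zero, add_zero, Matrix.sub_vecMulVec, smul_sub, neg_smul]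
  abel

theorem Good.sub_right {x y1 y2 : Fin n → F} (h1 : Good n Hs x y1) (h2 : Good n Hs x y2) :
    Good n Hs x (y1 - y2) := by
  refine ⟨by rw [sub_dotProduct, h1.1, h2.1, sub_zero], ?_⟩
  intro c
  obtain ⟨g1, hg1, hgv1⟩ := h1.2 c
  obtain ⟨g2, hg2, hgv2⟩ := h2.2 (-c)
  refine ⟨g1 * g2, Hs.mul_mem hg1 hg2, ?_⟩
  have hz : vecMulVec x y1 * vecMulVec x y2 = 0 := by
    rw [vecMulVec_mul_vecMulVec, h1.1, zero_smul, vecMulVec_zero]
  rw [Units.val_mul, hgv1, hgv2, add_mul, one_mul, mul_add, mul_one, Matrix.smul_mul,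
    Matrix.mul_smul, hz, smul_zero, smul_zero, add_zero, Matrix.vecMulVec_sub, smul_sub, neg_smul]
  abel

end

section
variable {F : Type*} [Field F] (n : ℕ)

theorem Tv_inv_mulVec (x y : Fin n → F) (h : y ⬝ᵥ x = 0) (w : Fin n → F) :
    ((Tv n x y h)⁻¹ : Matrix.GeneralLinearGroup (Fin n) F).1 *ᵥ w = w - (y ⬝ᵥ w) • x := by
  rw [Tv_inv_val, Matrix.sub_mulVec, Matrix.one_mulVec, Matrix.vecMulVec_mulVec]
  congr 1
  ext i
  simp [mul_comm]

theorem vecMul_Tv (x y : Fin n → F) (h : y ⬝ᵥ x = 0) (w : Fin n → F) :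
    w ᵥ* (Tv n x y h).1 = w + (w ⬝ᵥ x) • y := by
  rw [Tv_val, Matrix.vecMul_add, Matrix.vecMul_one, Matrix.vecMul_vecMulVec]

theorem single_dot_single (i j : Fin n) (hij : i ≠ j) :
    (Pi.single i (1 : F) : Fin n → F) ⬝ᵥ Pi.single j 1 = 0 := by
  rw [single_one_dotProduct, Pi.single_apply, if_neg hij]

theorem single_dot_self (i : Fin n) :
    (Pi.single i (1 : F) : Fin n → F) ⬝ᵥ Pi.single i 1 = 1 := by
  rw [single_one_dotProduct, Pi.single_eq_same]

variable (k : ℕ) (Hs : Subgroup (Matrix.GeneralLinearGroup (Fin n) F))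
  (hPH : P (F := F) n k ≤ Hs)

include hPH in
/-- elementary pairs outside the lower-left block are good -/
theorem good_of_P (i j : Fin n) (hij : i ≠ j) (hb : ¬ (k ≤ (i : ℕ) ∧ (j : ℕ) < k)) :
    Good n Hs (Pi.single i 1) (Pi.single j 1) := by
  refine ⟨single_dot_single n j i hij.symm, ?_⟩
  intro c
  have h0 : (Pi.single j (1 : F) : Fin n → F) ⬝ᵥ (c • Pi.single i 1) = 0 := by
    rw [dotProduct_smul, single_dot_single n j i hij.symm, smul_zero]
  refine ⟨Tv n (c • Pi.single i 1) (Pi.single j 1) h0, hPH (Tv_mem_P n k _ _ h0 ?_), ?_⟩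
  · intro r s hr hs
    by_cases hri : r = i
    · have hsj : s ≠ j := by
        intro hsj
        apply hb
        rw [← hri, ← hsj]
        exact ⟨hr, hs⟩
      rw [Pi.single_apply, if_neg hsj, mul_zero]
    · rw [Pi.smul_apply, Pi.single_apply, if_neg hri, smul_zero, zero_mul]
  · rw [Tv_val, Matrix.smul_vecMulVec]

include hPH in
/-- the key step: an element outside `P` yields a good lower-left elementary pair -/
theorem good_lower (g : Matrix.GeneralLinearGroup (Fin n) F) (hg : g ∈ Hs)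
    (hgP : g ∉ P (F := F) n k) :
    ∃ i0 b0 : Fin n, k ≤ (i0 : ℕ) ∧ (b0 : ℕ) < k ∧ Good n Hs (Pi.single i0 1) (Pi.single b0 1) := by
  classical
  have hgP' : g⁻¹ ∉ P (F := F) n k := fun h => hgP (by simpa using (P (F := F) n k).inv_mem h)
  rw [mem_P_iff] at hgP hgP'
  push Not at hgP hgP'
  obtain ⟨i0, j0, hi0, hj0, hgij⟩ := hgP
  obtain ⟨a0, b0, ha0, hb0, hgab⟩ := hgP'
  refine ⟨i0, b0, hi0, hb0, ?_⟩
  have hj0a0 : j0 ≠ a0 := by
    intro h; rw [h] at hj0; omega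
  have hb0i0 : b0 ≠ i0 := by
    intro h; rw [h] at hb0; omega
  have G0 : Good n Hs (Pi.single j0 1) (Pi.single a0 1) :=
    good_of_P n k Hs hPH j0 a0 hj0a0 (by omega)
  have G1 := G0.conj n Hs g hg
  obtain ⟨u, hu⟩ : ∃ u : Fin n → F, u = g.1 *ᵥ Pi.single j0 1 := ⟨_, rfl⟩
  obtain ⟨φ, hφ⟩ : ∃ φ : Fin n → F,
      φ = Pi.single a0 1 ᵥ* (g⁻¹ : Matrix.GeneralLinearGroup (Fin n) F).1 := ⟨_, rfl⟩
  rw [← hu, ← hφ] at G1
  have hui0 : u i0 ≠ 0 := by
    rw [hu, Matrix.mulVec_single_one]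
    exact hgij
  have hφb0 : φ b0 ≠ 0 := by
    rw [hφ, Matrix.single_one_vecMul]
    exact hgab
  -- first normalisation
  obtain ⟨w, hw⟩ : ∃ w : Fin n → F, w = -(u i0)⁻¹ • (u - u i0 • Pi.single i0 1) := ⟨_, rfl⟩
  have hwi0 : (Pi.single i0 (1 : F) : Fin n → F) ⬝ᵥ w = 0 := by
    rw [single_one_dotProduct, hw]
    simp
  have hp1 : Tv n w (Pi.single i0 1) hwi0 ∈ P (F := F) n k := by
    apply Tv_mem_P
    intro r s hr hs
    have : s ≠ i0 := by
      intro h; rw [h] at hs; omega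
    rw [Pi.single_apply, if_neg this, mul_zero]
  have G2 := G1.conj n Hs _ (hPH hp1)
  have e1 : (Tv n w (Pi.single i0 1) hwi0).1 *ᵥ u = u i0 • Pi.single i0 1 := by
    rw [Tv_mulVec, single_one_dotProduct, hw, smul_smul, mul_neg, mul_inv_cancel₀ hui0]
    simp
  rw [e1, vecMul_Tv_inv] at G2
  obtain ⟨ψ, hψ⟩ : ∃ ψ : Fin n → F, ψ = φ - (φ ⬝ᵥ w) • Pi.single i0 1 := ⟨_, rfl⟩
  rw [← hψ] at G2
  have G2' : Good n Hs (Pi.single i0 1) ψ := by
    have := G2.smul_left n Hs (u i0)⁻¹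
    rwa [smul_smul, inv_mul_cancel₀ hui0, one_smul] at this
  have hψb0 : ψ b0 ≠ 0 := by
    rw [hψ, Pi.sub_apply, Pi.smul_apply, Pi.single_apply, if_neg hb0i0, smul_zero, sub_zero]
    exact hφb0
  have hψi0 : ψ i0 = 0 := by
    have := G2'.1
    rwa [dotProduct_single_one] at this
  -- second normalisation
  obtain ⟨z, hz⟩ : ∃ z : Fin n → F, z = -(ψ b0)⁻¹ • (ψ - ψ b0 • Pi.single b0 1) := ⟨_, rfl⟩
  have hzb0 : z ⬝ᵥ (Pi.single b0 (1 : F) : Fin n → F) = 0 := by
    rw [dotProduct_single_one, hz]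
    simp
  have hzi0 : z i0 = 0 := by
    rw [hz]
    simp [hψi0, Pi.single_apply, hb0i0.symm]
  have hq : Tv n (Pi.single b0 1) z hzb0 ∈ P (F := F) n k := by
    apply Tv_mem_P
    intro r s hr hs
    have : r ≠ b0 := by
      intro h; rw [h] at hr; omega
    rw [Pi.single_apply, if_neg this, zero_mul]
  have G3 := G2'.conj n Hs _ (hPH ((P (F := F) n k).inv_mem hq))
  rw [inv_inv, Tv_inv_mulVec, vecMul_Tv, dotProduct_single_one, hzi0, zero_smul, sub_zero,
    dotProduct_single_one] at G3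
  have e2 : ψ + ψ b0 • z = ψ b0 • Pi.single b0 1 := by
    rw [hz, smul_smul, mul_neg, mul_inv_cancel₀ hψb0]
    simp
  rw [e2] at G3
  have := G3.smul_right n Hs (ψ b0)⁻¹
  rwa [smul_smul, inv_mul_cancel₀ hψb0, one_smul] at this

include hPH in
/-- spreading a good lower-left pair to every lower-left pair -/
theorem good_spread (i0 b0 : Fin n) (hi0 : k ≤ (i0 : ℕ)) (hb0 : (b0 : ℕ) < k)
    (hG : Good n Hs (Pi.single i0 1) (Pi.single b0 1)) (i b : Fin n) (hi : k ≤ (i : ℕ))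
    (hb : (b : ℕ) < k) : Good n Hs (Pi.single i 1) (Pi.single b 1) := by
  classical
  -- rows
  have hrow : Good n Hs (Pi.single i 1) (Pi.single b0 1) := by
    by_cases hii0 : i = i0
    · rw [hii0]; exact hG
    · have h0 : (Pi.single i0 (1 : F) : Fin n → F) ⬝ᵥ Pi.single i 1 = 0 :=
        single_dot_single n i0 i (Ne.symm hii0)
      have hp : Tv n (Pi.single i 1) (Pi.single i0 1) h0 ∈ P (F := F) n k := by
        apply Tv_mem_P
        intro r s hr hs
        have : s ≠ i0 := by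
          intro h; rw [h] at hs; omega
        rw [Pi.single_eq_of_ne this, mul_zero]
      have G1 := hG.conj n Hs _ (hPH hp)
      have hb0i : b0 ≠ i := by
        intro h; rw [h] at hb0; omega
      rw [Tv_mulVec, vecMul_Tv_inv, single_dot_self, one_smul, single_dot_single n b0 i hb0i,
        zero_smul, sub_zero] at G1
      have := G1.sub_left n Hs hG
      rwa [add_sub_cancel_left] at this
  -- columns
  by_cases hbb0 : b = b0
  · rw [hbb0]; exact hrow
  · have h0 : (Pi.single b (1 : F) : Fin n → F) ⬝ᵥ Pi.single b0 1 = 0 :=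
      single_dot_single n b b0 hbb0
    have hp : Tv n (Pi.single b0 1) (Pi.single b 1) h0 ∈ P (F := F) n k := by
      apply Tv_mem_P
      intro r s hr hs
      have : r ≠ b0 := by
        intro h; rw [h] at hr; omega
      rw [Pi.single_eq_of_ne this, zero_mul]
    have G1 := hrow.conj n Hs _ (hPH hp)
    have hbi : b ≠ i := by
      intro h; rw [h] at hb; omega
    rw [Tv_mulVec, vecMul_Tv_inv, single_dot_self, one_smul, single_dot_single n b i hbi,
      zero_smul, add_zero] at G1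
    have := hrow.sub_right n Hs G1
    rwa [sub_sub_cancel] at this

include hPH in
theorem eq_top_of_lt (hlt : P (F := F) n k < Hs) : Hs = ⊤ := by
  classical
  obtain ⟨g, hgH, hgP⟩ := SetLike.exists_of_lt hlt
  obtain ⟨i0, b0, hi0, hb0, hG0⟩ := good_lower n k Hs hPH g hgH hgP
  have hall : ∀ i j : Fin n, i ≠ j → Good n Hs (Pi.single i 1) (Pi.single j 1) := by
    intro i j hij
    by_cases hb : k ≤ (i : ℕ) ∧ (j : ℕ) < k
    · exact good_spread n k Hs hPH i0 b0 hi0 hb0 hG0 i j hb.1 hb.2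
    · exact good_of_P n k Hs hPH i j hij hb
  rw [eq_top_iff]
  intro x _
  have key : ∃ g' ∈ Hs, (g' : Matrix (Fin n) (Fin n) F) = x.1 := by
    apply Matrix.diagonal_transvection_induction_of_det_ne_zero
      (fun M => ∃ g' ∈ Hs, (g' : Matrix (Fin n) (Fin n) F) = M) x.1 x.det_ne_zero
    · intro D hD
      refine ⟨Matrix.GeneralLinearGroup.mkOfDetNeZero (Matrix.diagonal D) hD, hPH ?_, rfl⟩
      rw [mem_P_iff]
      intro r s hr hs
      have hrs : r ≠ s := by
        intro h; rw [h] at hr; omega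
      exact Matrix.diagonal_apply_ne _ hrs
    · intro t
      obtain ⟨g', hg', hgv⟩ := (hall t.i t.j t.hij).2 t.c
      refine ⟨g', hg', ?_⟩
      rw [hgv, Matrix.TransvectionStruct.toMatrix, Matrix.transvection,
        ← Matrix.single_eq_single_vecMulVec_single, Matrix.smul_single, smul_eq_mul, mul_one]
    · rintro A B - - ⟨gA, hgA, rfl⟩ ⟨gB, hgB, rfl⟩
      exact ⟨gA * gB, Hs.mul_mem hgA hgB, rfl⟩
  obtain ⟨g', hg', hgv⟩ := key
  have : g' = x := Units.ext hgv
  rw [← this]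
  exact hg'

end

/-- Maximal parabolics are maximal: over a finite field, for 0 < k < n the stabiliser in GL_n of the span of the first k coordinate vectors is a maximal proper subgroup. -/
theorem result {F : Type*} [Field F] [Finite F] (n k : ℕ) (hk0 : 0 < k) (hkn : k < n) : IsCoatom (Cfsg.stabilizing (Cfsg.glToMat (Fin n) F) {v : Fin n → F | ∀ i : Fin n, k ≤ (i : ℕ) → v i = 0}) := by
  classical
  refine ⟨?_, ?_⟩
  · intro htop
    have h0 : (Pi.single (⟨0, by omega⟩ : Fin n) (1 : F) : Fin n → F) ⬝ᵥ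
        Pi.single (⟨k, hkn⟩ : Fin n) 1 = 0 := by
      apply single_dot_single
      intro h
      have := congrArg Fin.val h
      simp only at this
      omega
    have hmem : Tv n (Pi.single (⟨k, hkn⟩ : Fin n) 1) (Pi.single (⟨0, by omega⟩ : Fin n) 1) h0 ∈
        P (F := F) n k := by
      show _ ∈ Cfsg.stabilizing (Cfsg.glToMat (Fin n) F) _
      rw [htop]; trivial
    rw [mem_P_iff] at hmem
    have := hmem ⟨k, hkn⟩ ⟨0, by omega⟩ (le_refl _) hk0
    rw [Tv_val, Matrix.add_apply, Matrix.vecMulVec_apply, Pi.single_eq_same, Pi.single_eq_same,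
      Matrix.one_apply_ne] at this
    · simp at this
    · intro h
      have := congrArg Fin.val h
      simp only at this
      omega
  · intro Hs hlt
    exact eq_top_of_lt n k Hs hlt.le hlt

end Cfsg.Agent.S0772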