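import Cfsg.Statements.S0774
import Cfsg.Agent.Lib.Helper18.Stab

set_option autoImplicit false
open Cfsg

namespace Cfsg.Agent.S0774

open Matrix Cfsg.Agent.Lib.Helper18

section
variable {F : Type*} [Field F] (m : ℕ)

/-- coordinates that must vanish on the k-th flag member -/
def pk (k : Fin m) : Fin m ⊕ Fin m → Prop
  | Sum.inl i => (k : ℕ) < (i : ℕ)
  | Sum.inr _ => True

theorem W_eq (k : Fin m) :
    {v : Fin m ⊕ Fin m → F | (∀ i : Fin m, (k : ℕ) < (i : ℕ) → v (Sum.inl i) = 0) ∧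
      ∀ i : Fin m, v (Sum.inr i) = 0} = {v | ∀ x, pk m k x → v x = 0} := by
  ext v
  simp only [Set.mem_ofPred_eq, Sum.forall, pk]
  simp

theorem mem_borel_iff (g : Matrix.symplecticGroup (Fin m) F) :
    g ∈ (⨅ k : Fin m, Cfsg.stabilizing (Cfsg.spToMat m F)
      {v : Fin m ⊕ Fin m → F | (∀ i : Fin m, (k : ℕ) < (i : ℕ) → v (Sum.inl i) = 0) ∧
        ∀ i : Fin m, v (Sum.inr i) = 0}) ↔
    (∀ i j : Fin m, j < i → g.1 (Sum.inl i) (Sum.inl j) = 0) ∧
      ∀ i j : Fin m, g.1 (Sum.inr i) (Sum.inl j) = 0 := by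
  rw [Subgroup.mem_iInf]
  simp only [W_eq, mem_stabilizing_coord_iff]
  constructor
  · intro h
    refine ⟨fun i j hij => ?_, fun i j => ?_⟩
    · exact h j (Sum.inl i) (Sum.inl j) (by simpa [pk] using hij) (by simp [pk])
    · exact h j (Sum.inr i) (Sum.inl j) trivial (by simp [pk])
  · rintro ⟨h1, h2⟩ k x y hx hy
    rcases y with j | j
    · rcases x with i | i
      · apply h1
        simp only [pk, not_lt] at hx hy
        exact Fin.lt_def.mpr (by omega)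
      · apply h2
    · exact absurd trivial hy

theorem symp_iff (A B D : Matrix (Fin m) (Fin m) F) :
    Matrix.fromBlocks A B 0 D ∈ Matrix.symplecticGroup (Fin m) F ↔
      A * Dᵀ = 1 ∧ B * Aᵀ = A * Bᵀ := by
  rw [SymplecticGroup.mem_iff, Matrix.J, Matrix.fromBlocks_transpose, Matrix.fromBlocks_multiply,
    Matrix.fromBlocks_multiply, Matrix.fromBlocks_inj]
  simp only [Matrix.mul_zero, Matrix.mul_one, Matrix.zero_mul, zero_add, add_zero, Matrix.mul_neg,
    Matrix.neg_mul, Matrix.transpose_zero, neg_inj, neg_zero]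
  constructor
  · rintro ⟨h1, h2, h3, -⟩
    refine ⟨h2, ?_⟩
    exact eq_of_sub_eq_zero (by rw [sub_eq_add_neg]; exact h1)
  · rintro ⟨h1, h2⟩
    refine ⟨by rw [h2]; exact add_neg_cancel _, h1, ?_, trivial⟩
    have := congrArg Matrix.transpose h1
    rw [Matrix.transpose_mul, Matrix.transpose_transpose, Matrix.transpose_one] at this
    exact this

theorem det_ne_zero_of_ut (A : Matrix (Fin m) (Fin m) F) (h1 : ∀ i j : Fin m, j < i → A i j = 0)
    (h2 : ∀ i, A i i ≠ 0) : A.det ≠ 0 := by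
  have hU : A.IsUpperTriangular := fun i j hij => h1 i j hij
  rw [Matrix.det_of_isUpperTriangular hU]
  exact Finset.prod_ne_zero_iff.mpr (fun i _ => h2 i)

theorem diag_ne_zero_of_det (A : Matrix (Fin m) (Fin m) F) (h1 : ∀ i j : Fin m, j < i → A i j = 0)
    (hdet : A.det ≠ 0) : ∀ i, A i i ≠ 0 := by
  have hU : A.IsUpperTriangular := fun i j hij => h1 i j hij
  rw [Matrix.det_of_isUpperTriangular hU] at hdet
  exact fun i => Finset.prod_ne_zero_iff.mp hdet i (Finset.mem_univ i)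

theorem src_blocks (g : Matrix.symplecticGroup (Fin m) F)
    (h2 : ∀ i j : Fin m, g.1 (Sum.inr i) (Sum.inl j) = 0) :
    g.1 = Matrix.fromBlocks g.1.toBlocks₁₁ g.1.toBlocks₁₂ 0 g.1.toBlocks₂₂ := by
  conv_lhs => rw [← Matrix.fromBlocks_toBlocks g.1]
  congr 1
  ext i j
  exact h2 i j

theorem src_rel (g : Matrix.symplecticGroup (Fin m) F)
    (h2 : ∀ i j : Fin m, g.1 (Sum.inr i) (Sum.inl j) = 0) :
    g.1.toBlocks₁₁ * (g.1.toBlocks₂₂)ᵀ = 1 ∧
      g.1.toBlocks₁₂ * (g.1.toBlocks₁₁)ᵀ = g.1.toBlocks₁₁ * (g.1.toBlocks₁₂)ᵀ := by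
  apply (symp_iff m _ _ _).mp
  rw [← src_blocks m g h2]
  exact g.2

theorem src_det (g : Matrix.symplecticGroup (Fin m) F)
    (h2 : ∀ i j : Fin m, g.1 (Sum.inr i) (Sum.inl j) = 0) :
    (g.1.toBlocks₁₁).det ≠ 0 := by
  have := congrArg Matrix.det (src_rel m g h2).1
  rw [Matrix.det_mul, Matrix.det_one] at this
  exact left_ne_zero_of_mul_eq_one this

theorem sym_of_rel (A B : Matrix (Fin m) (Fin m) F) (hA : A.det ≠ 0) (h : B * Aᵀ = A * Bᵀ) :
    (A⁻¹ * B)ᵀ = A⁻¹ * B := by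
  have hA' : IsUnit A.det := isUnit_iff_ne_zero.mpr hA
  calc (A⁻¹ * B)ᵀ = Bᵀ * (A⁻¹)ᵀ := Matrix.transpose_mul _ _
    _ = A⁻¹ * (A * Bᵀ) * (A⁻¹)ᵀ := by
        rw [← Matrix.mul_assoc A⁻¹ A, Matrix.nonsing_inv_mul _ hA', Matrix.one_mul]
    _ = A⁻¹ * (B * Aᵀ) * (A⁻¹)ᵀ := by rw [h]
    _ = A⁻¹ * B * (Aᵀ * (A⁻¹)ᵀ) := by simp only [Matrix.mul_assoc]
    _ = A⁻¹ * B := by
        rw [← Matrix.transpose_mul, Matrix.nonsing_inv_mul _ hA', Matrix.transpose_one,
          Matrix.mul_one]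

theorem mk_mem (A S : Matrix (Fin m) (Fin m) F) (hA : A.det ≠ 0) (hS : Sᵀ = S) :
    Matrix.fromBlocks A (A * S) 0 (A⁻¹)ᵀ ∈ Matrix.symplecticGroup (Fin m) F := by
  have hA' : IsUnit A.det := isUnit_iff_ne_zero.mpr hA
  rw [symp_iff]
  refine ⟨?_, ?_⟩
  · rw [Matrix.transpose_transpose, Matrix.mul_nonsing_inv _ hA']
  · rw [Matrix.transpose_mul, hS, Matrix.mul_assoc]

/-- the first equivalence: Borel elements as pairs -/
noncomputable def equiv1 :
    {g : Matrix.symplecticGroup (Fin m) F //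
      (∀ i j : Fin m, j < i → g.1 (Sum.inl i) (Sum.inl j) = 0) ∧
        ∀ i j : Fin m, g.1 (Sum.inr i) (Sum.inl j) = 0} ≃
    {A : Matrix (Fin m) (Fin m) F // (∀ i j : Fin m, j < i → A i j = 0) ∧ ∀ i, A i i ≠ 0} ×
      {S : Matrix (Fin m) (Fin m) F // Sᵀ = S} where
  toFun g :=
    (⟨g.1.1.toBlocks₁₁, g.2.1, diag_ne_zero_of_det m _ g.2.1 (src_det m g.1 g.2.2)⟩,
     ⟨(g.1.1.toBlocks₁₁)⁻¹ * g.1.1.toBlocks₁₂,
      sym_of_rel m _ _ (src_det m g.1 g.2.2) (src_rel m g.1 g.2.2).2⟩)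
  invFun t :=
    ⟨⟨Matrix.fromBlocks t.1.1 (t.1.1 * t.2.1) 0 (t.1.1⁻¹)ᵀ,
      mk_mem m _ _ (det_ne_zero_of_ut m _ t.1.2.1 t.1.2.2) t.2.2⟩,
     fun i j hij => t.1.2.1 i j hij, fun i j => rfl⟩
  left_inv g := by
    apply Subtype.ext
    apply Subtype.ext
    show Matrix.fromBlocks g.1.1.toBlocks₁₁ (g.1.1.toBlocks₁₁ * ((g.1.1.toBlocks₁₁)⁻¹ * g.1.1.toBlocks₁₂)) 0
      ((g.1.1.toBlocks₁₁)⁻¹)ᵀ = g.1.1
    have hA' : IsUnit (g.1.1.toBlocks₁₁).det := isUnit_iff_ne_zero.mpr (src_det m g.1 g.2.2)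
    conv_rhs => rw [src_blocks m g.1 g.2.2]
    have h1 : g.1.1.toBlocks₁₁ * ((g.1.1.toBlocks₁₁)⁻¹ * g.1.1.toBlocks₁₂) = g.1.1.toBlocks₁₂ := by
      rw [← Matrix.mul_assoc, Matrix.mul_nonsing_inv _ hA', Matrix.one_mul]
    have h2 : ((g.1.1.toBlocks₁₁)⁻¹)ᵀ = g.1.1.toBlocks₂₂ := by
      rw [Matrix.inv_eq_right_inv (src_rel m g.1 g.2.2).1, Matrix.transpose_transpose]
    rw [h1, h2]
  right_inv t := by
    obtain ⟨⟨A, hA1, hA2⟩, ⟨S, hS⟩⟩ := t
    have hA' : IsUnit A.det := isUnit_iff_ne_zero.mpr (det_ne_zero_of_ut m _ hA1 hA2)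
    refine Prod.ext (Subtype.ext ?_) (Subtype.ext ?_)
    · show (Matrix.fromBlocks A (A * S) 0 (A⁻¹)ᵀ).toBlocks₁₁ = A
      rw [Matrix.toBlocks_fromBlocks₁₁]
    · show ((Matrix.fromBlocks A (A * S) 0 (A⁻¹)ᵀ).toBlocks₁₁)⁻¹ *
        (Matrix.fromBlocks A (A * S) 0 (A⁻¹)ᵀ).toBlocks₁₂ = S
      rw [Matrix.toBlocks_fromBlocks₁₁, Matrix.toBlocks_fromBlocks₁₂, ← Matrix.mul_assoc,
        Matrix.nonsing_inv_mul _ hA', Matrix.one_mul]

/-- the second equivalence: pairs as a diagonal of units and a full square of scalars -/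
def equiv2 :
    {A : Matrix (Fin m) (Fin m) F // (∀ i j : Fin m, j < i → A i j = 0) ∧ ∀ i, A i i ≠ 0} ×
      {S : Matrix (Fin m) (Fin m) F // Sᵀ = S} ≃
    (Fin m → Fˣ) × (Fin m → Fin m → F) where
  toFun t := (fun i => Units.mk0 (t.1.1 i i) (t.1.2.2 i),
    fun i j => if i < j then t.1.1 i j else t.2.1 i j)
  invFun p :=
    (⟨Matrix.of fun i j => if i = j then (p.1 i : F) else if i < j then p.2 i j else 0, by
        intro i j hij
        have h1 : i ≠ j := ne_of_gt hij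
        have h2 : ¬ i < j := lt_asymm hij
        simp [h1, h2], by
        intro i
        simp⟩,
     ⟨Matrix.of fun i j => if j ≤ i then p.2 i j else p.2 j i, by
        ext i j
        simp only [Matrix.transpose_apply, Matrix.of_apply]
        rcases lt_trichotomy i j with h | h | h
        · simp [h, not_le.mpr h, le_of_lt h]
        · simp [h]
        · simp [h, not_le.mpr h, le_of_lt h]⟩)
  left_inv t := by
    obtain ⟨⟨A, hA1, hA2⟩, ⟨S, hS⟩⟩ := t
    refine Prod.ext (Subtype.ext ?_) (Subtype.ext ?_)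
    · ext i j
      simp only [Matrix.of_apply, Units.val_mk0]
      rcases lt_trichotomy i j with h | h | h
      · simp [h, ne_of_lt h]
      · simp [h]
      · simp [ne_of_gt h, lt_asymm h, hA1 i j h]
    · ext i j
      simp only [Matrix.of_apply]
      have hS' : S j i = S i j := congrFun (congrFun hS i) j
      rcases lt_trichotomy i j with h | h | h
      · simp [h, not_le.mpr h, lt_asymm h, hS']
      · simp [h]
      · simp [le_of_lt h, lt_asymm h]
  right_inv p := by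
    obtain ⟨d, M⟩ := p
    refine Prod.ext ?_ ?_
    · funext i
      apply Units.ext
      simp
    · funext i j
      simp only [Matrix.of_apply]
      rcases lt_trichotomy i j with h | h | h
      · simp [h, ne_of_lt h]
      · simp [h]
      · simp [le_of_lt h, lt_asymm h]

end

/-- Borel subgroup of the symplectic group: the elements of Sp_2m(q) stabilising each of the totally isotropic coordinate subspaces ⟨e_0, ..., e_k⟩ (k < m) form a subgroup of order q^(m²) (q − 1)^m. -/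
theorem result {F : Type*} [Field F] [Fintype F] {q : ℕ} (hF : Fintype.card F = q) (m : ℕ) : Nat.card ↥(⨅ k : Fin m, Cfsg.stabilizing (Cfsg.spToMat m F) {v : Fin m ⊕ Fin m → F | (∀ i : Fin m, (k : ℕ) < (i : ℕ) → v (Sum.inl i) = 0) ∧ ∀ i : Fin m, v (Sum.inr i) = 0}) = q ^ (m ^ 2) * (q - 1) ^ m := by
  classical
  have e0 : ↥(⨅ k : Fin m, Cfsg.stabilizing (Cfsg.spToMat m F) {v : Fin m ⊕ Fin m → F | (∀ i : Fin m, (k : ℕ) < (i : ℕ) → v (Sum.inl i) = 0) ∧ ∀ i : Fin m, v (Sum.inr i) = 0}) ≃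
      {g : Matrix.symplecticGroup (Fin m) F //
        (∀ i j : Fin m, j < i → g.1 (Sum.inl i) (Sum.inl j) = 0) ∧
          ∀ i j : Fin m, g.1 (Sum.inr i) (Sum.inl j) = 0} :=
    Equiv.subtypeEquivRight (fun g => mem_borel_iff m g)
  rw [Nat.card_congr ((e0.trans (equiv1 m)).trans (equiv2 m)), Nat.card_prod,
    Nat.card_eq_fintype_card, Nat.card_eq_fintype_card]
  subst hF
  simp only [Fintype.card_pi, Finset.prod_const, Finset.card_univ, Fintype.card_fin,
    Fintype.card_units]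
  rw [← pow_mul, sq, mul_comm]

end Cfsg.Agent.S0774
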