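import Cfsg.Statements.S0775
import Cfsg.Agent.Lib.Helper18.SympWitt
import Cfsg.Agent.S0245

set_option autoImplicit false
open Cfsg

namespace Cfsg.Agent.S0775

open Matrix Module Cfsg.Agent.Lib.Helper18

section frames
variable {F : Type*} [Field F] (m : ℕ)

local notation "V" => (Fin m ⊕ Fin m → F)
local notation "f" => Cfsg.sympForm m F
local notation "G" => Matrix.symplecticGroup (Fin m) F

/-- linearly independent tuples of pairwise orthogonal vectors -/
def IsoFrame {k : ℕ} (s : Fin k → V) : Prop :=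
  LinearIndependent F s ∧ ∀ i j, f (s i) (s j) = 0

theorem isoFrame_cons_iff {k : ℕ} (v : V) (s : Fin k → V) :
    IsoFrame m (Fin.cons v s : Fin (k + 1) → V) ↔
      IsoFrame m s ∧ ((∀ i, f (s i) v = 0) ∧ v ∉ Submodule.span F (Set.range s)) := by
  unfold IsoFrame
  rw [linearIndependent_fin_cons]
  constructor
  · rintro ⟨⟨h1, h2⟩, h3⟩
    refine ⟨⟨h1, fun i j => ?_⟩, fun i => ?_, h2⟩
    · have := h3 i.succ j.succ
      simpa using this
    · have := h3 i.succ 0
      simpa using this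
  · rintro ⟨⟨h1, h3⟩, h4, h2⟩
    refine ⟨⟨h1, h2⟩, ?_⟩
    intro i j
    refine Fin.cases ?_ (fun i' => ?_) i <;> refine Fin.cases ?_ (fun j' => ?_) j
    · simp only [Fin.cons_zero]
      exact sf_self m v
    · simp only [Fin.cons_zero, Fin.cons_succ]
      rw [sf_swap, h4 j', neg_zero]
    · simp only [Fin.cons_zero, Fin.cons_succ]
      exact h4 i'
    · simp only [Fin.cons_succ]
      exact h3 i' j'

theorem sigma_ext' {k : ℕ} (p p' : Σ s : {s : Fin k → V // IsoFrame m s},
      {v : V // (∀ i, f (s.1 i) v = 0) ∧ v ∉ Submodule.span F (Set.range s.1)})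
    (h1 : p.1.1 = p'.1.1) (h2 : p.2.1 = p'.2.1) : p = p' := by
  rcases p with ⟨⟨s, hs⟩, ⟨v, hv⟩⟩
  rcases p' with ⟨⟨s', hs'⟩, ⟨v', hv'⟩⟩
  simp only at h1 h2
  subst h1
  subst h2
  rfl

/-- peeling off the first vector of a frame -/
noncomputable def frameEquiv (k : ℕ) :
    {s : Fin (k + 1) → V // IsoFrame m s} ≃
      Σ s : {s : Fin k → V // IsoFrame m s},
        {v : V // (∀ i, f (s.1 i) v = 0) ∧ v ∉ Submodule.span F (Set.range s.1)} where
  toFun s := ⟨⟨Fin.tail s.1, ((isoFrame_cons_iff m (s.1 0) (Fin.tail s.1)).mp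
      (by rw [Fin.cons_self_tail]; exact s.2)).1⟩,
    ⟨s.1 0, ((isoFrame_cons_iff m (s.1 0) (Fin.tail s.1)).mp
      (by rw [Fin.cons_self_tail]; exact s.2)).2⟩⟩
  invFun p := ⟨Fin.cons p.2.1 p.1.1, (isoFrame_cons_iff m _ _).mpr ⟨p.1.2, p.2.2⟩⟩
  left_inv s := by simp only [Fin.cons_self_tail, Subtype.coe_eta]
  right_inv p := by
    apply sigma_ext' m
    · show Fin.tail (Fin.cons (α := fun _ => V) p.2.1 p.1.1) = p.1.1
      exact Fin.tail_cons _ _
    · show (Fin.cons (α := fun _ => V) p.2.1 p.1.1 : Fin (k + 1) → V) 0 = p.2.1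
      exact Fin.cons_zero _ _

theorem mem_orth_iff {k : ℕ} (s : Fin k → V) (v : V) :
    v ∈ (sB m F).orthogonal (Submodule.span F (Set.range s)) ↔ ∀ i, f (s i) v = 0 := by
  rw [LinearMap.BilinForm.mem_orthogonal_iff]
  constructor
  · intro h i
    have := h (s i) (Submodule.subset_span ⟨i, rfl⟩)
    rw [sB_apply] at this
    exact this
  · intro h n hn
    rw [sB_apply]
    induction hn using Submodule.span_induction with
    | mem x hx =>
      obtain ⟨i, rfl⟩ := hx
      exact h i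
    | zero => exact sf_zero_left m v
    | add x y _ _ hx hy => rw [sf_add_left, hx, hy, add_zero]
    | smul a x _ hx => rw [sf_smul_left, hx, mul_zero]

theorem span_le_orth {k : ℕ} (s : Fin k → V) (hs : IsoFrame m s) :
    Submodule.span F (Set.range s) ≤ (sB m F).orthogonal (Submodule.span F (Set.range s)) := by
  rw [Submodule.span_le]
  rintro x ⟨j, rfl⟩
  show s j ∈ (sB m F).orthogonal (Submodule.span F (Set.range s))
  rw [mem_orth_iff]
  intro i
  exact hs.2 i j

theorem card_perp [Fintype F] {k : ℕ} (s : Fin k → V) (hs : IsoFrame m s) :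
    Nat.card {v : V // (∀ i, f (s i) v = 0) ∧ v ∉ Submodule.span F (Set.range s)} =
      Fintype.card F ^ (2 * m - k) - Fintype.card F ^ k := by
  classical
  set S := Submodule.span F (Set.range s) with hS
  set O := (sB m F).orthogonal S with hO
  have e : {v : V // (∀ i, f (s i) v = 0) ∧ v ∉ S} ≃ ↥((O : Set V) \ (S : Set V)) :=
    Equiv.subtypeEquivRight (fun v => by
      rw [Set.mem_sdiff, SetLike.mem_coe, SetLike.mem_coe, hO, hS, mem_orth_iff])
  rw [Nat.card_congr e, Nat.card_coe_set_eq, Set.ncard_diff (span_le_orth m s hs),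
    ← Nat.card_coe_set_eq, ← Nat.card_coe_set_eq]
  have h1 : Nat.card ↥(O : Set V) = Fintype.card F ^ (2 * m - k) := by
    show Nat.card O = _
    rw [Module.natCard_eq_pow_finrank (K := F), Nat.card_eq_fintype_card, hO,
      LinearMap.BilinForm.finrank_orthogonal sB_nondegenerate, hS, finrank_span_eq_card hs.1,
      Module.finrank_fintype_fun_eq_card, Fintype.card_sum, Fintype.card_fin, Fintype.card_fin]
    congr 1
    omega
  have h2 : Nat.card ↥(S : Set V) = Fintype.card F ^ k := by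
    show Nat.card S = _
    rw [Module.natCard_eq_pow_finrank (K := F), Nat.card_eq_fintype_card, hS,
      finrank_span_eq_card hs.1, Fintype.card_fin]
  rw [h1, h2]

theorem card_isoFrame [Fintype F] (k : ℕ) :
    Nat.card {s : Fin k → V // IsoFrame m s} =
      ∏ i ∈ Finset.range k, (Fintype.card F ^ (2 * m - i) - Fintype.card F ^ i) := by
  classical
  induction k with
  | zero =>
    have : Unique {s : Fin 0 → V // IsoFrame m s} :=
      { default := ⟨fun i => i.elim0, linearIndependent_empty_type, fun i => i.elim0⟩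
        uniq := fun s => Subtype.ext (funext fun i => i.elim0) }
    rw [Nat.card_unique, Finset.range_zero, Finset.prod_empty]
  | succ k ih =>
    haveI : Fintype {s : Fin k → V // IsoFrame m s} := Fintype.ofFinite _
    rw [Nat.card_congr (frameEquiv m k), Nat.card_sigma,
      Finset.sum_congr rfl (fun s _ => card_perp m s.1 s.2), Finset.sum_const, Finset.card_univ,
      smul_eq_mul, ← Nat.card_eq_fintype_card, ih, Finset.prod_range_succ]

theorem smul_apply {k : ℕ} (g : G) (s : Fin k → V) (i : Fin k) : (g • s) i = g.1 *ᵥ s i := rfl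

theorem li_smul {k : ℕ} (g : G) (s : Fin k → V) (hs : LinearIndependent F s) :
    LinearIndependent F (g • s) := by
  have hker : LinearMap.ker (Matrix.mulVecLin g.1) = ⊥ := by
    rw [LinearMap.ker_eq_bot']
    intro x hx
    rw [Matrix.mulVecLin_apply] at hx
    have := inv_mulVec_mulVec m g x
    rw [hx, Matrix.mulVec_zero] at this
    exact this.symm
  exact hs.map' (Matrix.mulVecLin g.1) hker

theorem isoFrame_smul {k : ℕ} (g : G) (s : Fin k → V) (hs : IsoFrame m s) :
    IsoFrame m (g • s) := by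
  refine ⟨li_smul m g s hs.1, fun i j => ?_⟩
  rw [smul_apply, smul_apply, sf_mulVec_of_mem m g.1 g.2]
  exact hs.2 i j

theorem orbit_eq [Finite F] {k : ℕ} (s0 : Fin k → V) (hs0 : IsoFrame m s0) :
    MulAction.orbit G s0 = {s | IsoFrame m s} := by
  ext s
  constructor
  · rintro ⟨g, rfl⟩
    exact isoFrame_smul m g s0 hs0
  · intro hs
    obtain ⟨A, hA⟩ := exists_symp_map_frame s0 s hs0.1 hs.1 (fun i j => by
      rw [hs0.2 i j, hs.2 i j])
    exact ⟨A, funext hA⟩

theorem span_eq_of_li {k : ℕ} (W : Submodule F V) (hWk : Module.finrank F W = k)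
    (s : Fin k → V) (hs : LinearIndependent F s) (hsW : ∀ i, s i ∈ W) :
    Submodule.span F (Set.range s) = W := by
  apply Submodule.eq_of_le_of_finrank_eq
  · rw [Submodule.span_le]
    rintro x ⟨i, rfl⟩
    exact hsW i
  · rw [finrank_span_eq_card hs, Fintype.card_fin, hWk]

theorem maps_span {k : ℕ} (W : Submodule F V) (A : Matrix (Fin m ⊕ Fin m) (Fin m ⊕ Fin m) F)
    (s : Fin k → V) (h : ∀ i, A *ᵥ s i ∈ W) :
    ∀ v ∈ Submodule.span F (Set.range s), A *ᵥ v ∈ W := by
  intro v hv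
  induction hv using Submodule.span_induction with
  | mem x hx =>
    obtain ⟨i, rfl⟩ := hx
    exact h i
  | zero => rw [Matrix.mulVec_zero]; exact W.zero_mem
  | add x y _ _ hx hy => rw [Matrix.mulVec_add]; exact W.add_mem hx hy
  | smul a x _ hx => rw [Matrix.mulVec_smul]; exact W.smul_mem a hx

/-- moving a basis of `W` to a basis of `W` stabilises `W` -/
theorem mem_stab {k : ℕ} (W : Submodule F V) (hWk : Module.finrank F W = k)
    (s0 s : Fin k → V) (hs0 : LinearIndependent F s0) (hs0W : ∀ i, s0 i ∈ W)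
    (hs : LinearIndependent F s) (hsW : ∀ i, s i ∈ W) (g : G) (hg : g • s0 = s) :
    g ∈ Cfsg.stabilizing (Cfsg.spToMat m F) (W : Set V) := by
  have h1 : ∀ v ∈ W, g.1 *ᵥ v ∈ W := by
    intro v hv
    rw [← span_eq_of_li m W hWk s0 hs0 hs0W] at hv
    apply maps_span m W g.1 s0 _ v hv
    intro i
    rw [← smul_apply, hg]
    exact hsW i
  have h2 : ∀ v ∈ W, (g⁻¹).1 *ᵥ v ∈ W := by
    intro v hv
    rw [← span_eq_of_li m W hWk s hs hsW] at hv
    apply maps_span m W (g⁻¹).1 s _ v hv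
    intro i
    rw [← hg, smul_apply, inv_mulVec_mulVec]
    exact hs0W i
  intro v
  constructor
  · intro hv
    exact h1 v hv
  · intro hv
    have := h2 _ hv
    rwa [show (Cfsg.spToMat m F) g = g.1 from rfl, inv_mulVec_mulVec] at this

theorem orbit_stab_eq [Finite F] {k : ℕ} (W : Submodule F V) (hWk : Module.finrank F W = k)
    (hW : ∀ u ∈ W, ∀ v ∈ W, f u v = 0)
    (s0 : Fin k → V) (hs0 : LinearIndependent F s0) (hs0W : ∀ i, s0 i ∈ W) :
    MulAction.orbit ↥(Cfsg.stabilizing (Cfsg.spToMat m F) (W : Set V)) s0 =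
      {s | LinearIndependent F s ∧ ∀ i, s i ∈ W} := by
  ext s
  constructor
  · rintro ⟨h, rfl⟩
    refine ⟨li_smul m h.1 s0 hs0, fun i => ?_⟩
    exact (h.2 (s0 i)).mp (hs0W i)
  · rintro ⟨hs, hsW⟩
    obtain ⟨A, hA⟩ := exists_symp_map_frame s0 s hs0 hs (fun i j => by
      rw [hW _ (hs0W i) _ (hs0W j), hW _ (hsW i) _ (hsW j)])
    have hAs : A • s0 = s := funext hA
    exact ⟨⟨A, mem_stab m W hWk s0 s hs0 hs0W hs hsW A hAs⟩, hAs⟩

/-- the frame stabilisers in `G` and in the stabiliser of `W` agree -/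
noncomputable def stabEquiv {k : ℕ} (W : Submodule F V) (hWk : Module.finrank F W = k)
    (s0 : Fin k → V) (hs0 : LinearIndependent F s0) (hs0W : ∀ i, s0 i ∈ W) :
    MulAction.stabilizer ↥(Cfsg.stabilizing (Cfsg.spToMat m F) (W : Set V)) s0 ≃
      MulAction.stabilizer G s0 where
  toFun h := ⟨h.1.1, h.2⟩
  invFun g := ⟨⟨g.1, mem_stab m W hWk s0 s0 hs0 hs0W hs0 hs0W g.1 g.2⟩, g.2⟩
  left_inv h := rfl
  right_inv g := rfl

theorem card_bases [Fintype F] {k : ℕ} (W : Submodule F V) (hWk : Module.finrank F W = k) :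
    Nat.card {s : Fin k → V // LinearIndependent F s ∧ ∀ i, s i ∈ W} =
      ∏ i : Fin k, (Fintype.card F ^ k - Fintype.card F ^ (i : ℕ)) := by
  have e : {s : Fin k → V // LinearIndependent F s ∧ ∀ i, s i ∈ W} ≃
      {s : Fin k → W // LinearIndependent F s} :=
    { toFun := fun s => ⟨fun i => ⟨s.1 i, s.2.2 i⟩,
        LinearIndependent.of_comp W.subtype (by
          have : (W.subtype ∘ fun i => (⟨s.1 i, s.2.2 i⟩ : W)) = s.1 := rfl
          rw [this]; exact s.2.1)⟩
      invFun := fun s => ⟨fun i => (s.1 i : V),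
        ⟨s.2.map' W.subtype (Submodule.ker_subtype W), fun i => (s.1 i).2⟩⟩
      left_inv := fun s => rfl
      right_inv := fun s => rfl }
  rw [Nat.card_congr e, card_linearIndependent (K := F) (le_of_eq hWk.symm), hWk]

end frames

theorem arith (q : ℕ) (hq : 0 < q) : ∀ k d : ℕ,
    q ^ ((k + d) ^ 2) * ∏ i ∈ Finset.range (k + d), (q ^ (2 * (i + 1)) - 1) =
      q ^ (k * (k + 1) / 2 + 2 * k * d) *
        (q ^ (d ^ 2) * ∏ i ∈ Finset.range d, (q ^ (2 * (i + 1)) - 1)) *
        ∏ i ∈ Finset.range k, (q ^ (2 * (k + d) - i) - q ^ i) := by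
  intro k
  induction k with
  | zero =>
    intro d
    simp
  | succ k ih =>
    intro d
    have h := ih (d + 1)
    have e1 : k + 1 + d = k + (d + 1) := by omega
    rw [e1, h, Finset.prod_range_succ (fun i => q ^ (2 * (i + 1)) - 1) d,
      Finset.prod_range_succ (fun i => q ^ (2 * (k + (d + 1)) - i) - q ^ i) k]
    have e2 : q ^ (2 * (k + (d + 1)) - k) - q ^ k = q ^ k * (q ^ (2 * (d + 1)) - 1) := by
      have : 2 * (k + (d + 1)) - k = k + 2 * (d + 1) := by omega
      rw [this, pow_add, Nat.mul_sub, mul_one]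
    rw [e2]
    have e3 : (k + 1) * (k + 1 + 1) / 2 = k * (k + 1) / 2 + (k + 1) := by
      have : (k + 1) * (k + 1 + 1) = k * (k + 1) + 2 * (k + 1) := by ring
      rw [this]
      omega
    rw [e3]
    generalize k * (k + 1) / 2 = T
    generalize ∏ i ∈ Finset.range d, (q ^ (2 * (i + 1)) - 1) = P1
    generalize ∏ i ∈ Finset.range k, (q ^ (2 * (k + (d + 1)) - i) - q ^ i) = P2
    generalize q ^ (2 * (d + 1)) - 1 = R
    have e4 : q ^ (T + 2 * k * (d + 1)) * q ^ ((d + 1) ^ 2) =
        q ^ (T + (k + 1) + 2 * (k + 1) * d) * q ^ (d ^ 2) * q ^ k := by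
      rw [← pow_add, ← pow_add, ← pow_add]
      congr 1
      ring
    calc q ^ (T + 2 * k * (d + 1)) * (q ^ ((d + 1) ^ 2) * (P1 * R)) * P2
        = (q ^ (T + 2 * k * (d + 1)) * q ^ ((d + 1) ^ 2)) * (P1 * R * P2) := by ring
      _ = (q ^ (T + (k + 1) + 2 * (k + 1) * d) * q ^ (d ^ 2) * q ^ k) * (P1 * R * P2) := by rw [e4]
      _ = q ^ (T + (k + 1) + 2 * (k + 1) * d) * (q ^ (d ^ 2) * P1) * (P2 * (q ^ k * R)) := by ring

theorem prod_pos' (q : ℕ) (hq : 1 < q) (m k : ℕ) (hk : k ≤ m) :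
    0 < ∏ i ∈ Finset.range k, (q ^ (2 * m - i) - q ^ i) := by
  apply Finset.prod_pos
  intro i hi
  rw [Finset.mem_range] at hi
  have : q ^ i < q ^ (2 * m - i) := Nat.pow_lt_pow_right hq (by omega)
  omega

/-- Maximal parabolics of the symplectic group: if W is a k-dimensional subspace of F^(2m) on which the symplectic form vanishes identically, its stabiliser in Sp_2m(q) has order q^(k(k+1)/2 + 2k(m−k)) · |Sp_(2m−2k)(q)| · |GL_k(q)|. -/
theorem result {F : Type*} [Field F] [Fintype F] {q : ℕ} (hF : Fintype.card F = q) (m k : ℕ) (hk : k ≤ m) (W : Submodule F (Fin m ⊕ Fin m → F)) (hWk : Module.finrank F W = k) (hW : ∀ u ∈ W, ∀ v ∈ W, Cfsg.sympForm m F u v = 0) : Nat.card ↥(Cfsg.stabilizing (Cfsg.spToMat m F) (W : Set (Fin m ⊕ Fin m → F))) = q ^ (k * (k + 1) / 2 + 2 * k * (m - k)) * (q ^ ((m - k) ^ 2) * ∏ i ∈ Finset.range (m - k), (q ^ (2 * (i + 1)) - 1)) * ∏ i : Fin k, (q ^ k - q ^ (i : ℕ)) := by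
  classical
  -- a basis of W
  obtain ⟨s0, hs0, hs0W⟩ : ∃ s0 : Fin k → (Fin m ⊕ Fin m → F),
      LinearIndependent F s0 ∧ ∀ i, s0 i ∈ W := by
    let b := Module.finBasisOfFinrankEq F W hWk
    refine ⟨fun i => (b i : Fin m ⊕ Fin m → F), ?_, fun i => (b i).2⟩
    exact b.linearIndependent.map' W.subtype (Submodule.ker_subtype W)
  have hiso : IsoFrame m s0 := ⟨hs0, fun i j => hW _ (hs0W i) _ (hs0W j)⟩
  -- orbit-stabiliser twice
  have hG := Nat.card_congr (MulAction.orbitProdStabilizerEquivGroup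
    (Matrix.symplecticGroup (Fin m) F) s0)
  have hH := Nat.card_congr (MulAction.orbitProdStabilizerEquivGroup
    ↥(Cfsg.stabilizing (Cfsg.spToMat m F) (W : Set (Fin m ⊕ Fin m → F))) s0)
  rw [Nat.card_prod] at hG hH
  rw [orbit_eq m s0 hiso] at hG
  rw [orbit_stab_eq m W hWk hW s0 hs0 hs0W, Nat.card_congr (stabEquiv m W hWk s0 hs0 hs0W)] at hH
  have hG1 : Nat.card ↥{s : Fin k → (Fin m ⊕ Fin m → F) | IsoFrame m s} =
      ∏ i ∈ Finset.range k, (q ^ (2 * m - i) - q ^ i) := by
    rw [← hF]; exact card_isoFrame m k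
  have hH1 : Nat.card ↥{s : Fin k → (Fin m ⊕ Fin m → F) | LinearIndependent F s ∧ ∀ i, s i ∈ W} =
      ∏ i : Fin k, (q ^ k - q ^ (i : ℕ)) := by
    rw [← hF]; exact card_bases m W hWk
  rw [hG1] at hG
  rw [hH1] at hH
  rw [Cfsg.Agent.S0245.result hF m] at hG
  have hq : 1 < q := by rw [← hF]; exact Fintype.one_lt_card
  have hP := prod_pos' q hq m k hk
  have hA := arith q (by omega) k (m - k)
  have hkm : k + (m - k) = m := by omega
  rw [hkm] at hA
  rw [hA] at hG
  apply Nat.eq_of_mul_eq_mul_right hP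
  rw [← hH]
  generalize Nat.card ↥(MulAction.stabilizer (↥(Matrix.symplecticGroup (Fin m) F)) s0) = c at hG ⊢
  generalize ∏ i ∈ Finset.range k, (q ^ (2 * m - i) - q ^ i) = P at hG hP ⊢
  calc (∏ i : Fin k, (q ^ k - q ^ (i : ℕ))) * c * P
      = (∏ i : Fin k, (q ^ k - q ^ (i : ℕ))) * (P * c) := by ring
    _ = _ := by rw [hG]; ring

end Cfsg.Agent.S0775
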