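import Cfsg.Statements.S0777
import Cfsg.Agent.Lib.Helper18.SympTrans

set_option autoImplicit false
open Cfsg

namespace Cfsg.Agent.S0777

open Matrix Cfsg.Agent.Lib.Helper18

section
variable {F : Type*} [Field F] (m : ℕ)

local notation "ι" => (Fin m ⊕ Fin m)
local notation "V" => (Fin m ⊕ Fin m → F)
local notation "f" => Cfsg.sympForm m F
local notation "G" => Matrix.symplecticGroup (Fin m) F

/-- basis vectors -/
def e (j : ι) : V := Pi.single j 1

/-- the partner index -/
def tau : ι → ι := Sum.swap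

theorem tau_tau (x : ι) : tau m (tau m x) = x := Sum.swap_swap x

theorem tau_ne (x : ι) : tau m x ≠ x := by
  rcases x with i | i <;> simp [tau]

theorem tau_inj {x y : ι} (h : tau m x = tau m y) : x = y := by
  have := congrArg (tau m) h
  rwa [tau_tau, tau_tau] at this

/-- the sign of an index -/
def sgn : ι → F := Sum.elim (fun _ => 1) (fun _ => -1)

theorem sgn_mul_self (x : ι) : sgn (F := F) m x * sgn m x = 1 := by
  rcases x with i | i <;> simp [sgn]

theorem sgn_tau (x : ι) : sgn (F := F) m (tau m x) = - sgn m x := by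
  rcases x with i | i <;> simp [sgn, tau]

theorem sgn_ne_zero (x : ι) : sgn (F := F) m x ≠ 0 := by
  rcases x with i | i <;> simp [sgn]

/-- Gram matrix of the standard basis -/
theorem f_e_e (x y : ι) : f (e m x) (e m y) = if y = tau m x then - sgn m x else 0 := by
  classical
  rcases x with i | i <;> rcases y with j | j
  · rw [e, e, sf_single_inl]
    simp [tau, Pi.single_apply]
  · rw [e, e, sf_single_inr]
    simp only [tau, sgn, Pi.single_apply, Sum.swap_inl, Sum.inr.injEq, Sum.inl.injEq,
      Sum.elim_inl]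
    split_ifs <;> simp
  · rw [e, e, sf_single_inl]
    simp only [tau, sgn, Pi.single_apply, Sum.swap_inr, Sum.inr.injEq, Sum.inl.injEq,
      Sum.elim_inr]
    split_ifs <;> simp
  · rw [e, e, sf_single_inr]
    simp [tau, Pi.single_apply]

theorem e_ne_zero (j : ι) : e (F := F) m j ≠ 0 := by
  classical
  intro h
  have := congrFun h j
  simp [e] at this

theorem smul_e_inj {a b : F} {x y : ι} (ha : a ≠ 0) (h : a • e (F := F) m x = b • e m y) :
    x = y ∧ a = b := by
  classical
  have h1 := congrFun h x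
  simp only [e, Pi.smul_apply, Pi.single_eq_same, smul_eq_mul, mul_one, Pi.single_apply] at h1
  by_cases hxy : x = y
  · subst hxy
    simp at h1
    exact ⟨rfl, h1⟩
  · rw [if_neg hxy, mul_zero] at h1
    exact absurd h1 ha

/-- a matrix is determined by its action on basis vectors -/
theorem mat_ext (A B : Matrix ι ι F) (h : ∀ j, A *ᵥ e m j = B *ᵥ e m j) : A = B := by
  classical
  ext i j
  have := congrFun (h j) i
  simpa [e, Matrix.mulVec_single_one] using this

theorem mem_symp_of_basis (A : Matrix ι ι F)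
    (h : ∀ x y : ι, f (A *ᵥ e m x) (A *ᵥ e m y) = f (e m x) (e m y)) : A ∈ G := by
  classical
  rw [SymplecticGroup.mem_iff']
  ext i j
  have := h i j
  unfold Cfsg.sympForm e at this
  rw [← vecMul_transpose, ← dotProduct_mulVec, mulVec_mulVec, mulVec_mulVec,
    mulVec_single_one, mulVec_single_one, single_one_dotProduct, single_one_dotProduct] at this
  exact this

/-- monomial matrices -/
def mono (σ : ι → ι) (c : ι → F) : Matrix ι ι F :=
  Matrix.of fun x y => if x = σ y then c y else 0

theorem mono_mulVec (σ : ι → ι) (c : ι → F) (y : ι) :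
    mono m σ c *ᵥ e m y = c y • e m (σ y) := by
  classical
  ext x
  simp [e, mono, Matrix.mulVec_single_one, Pi.single_apply]

theorem mono_mem (σ : ι → ι) (c : ι → F) (hσ : ∀ x, σ (tau m x) = tau m (σ x))
    (hinj : Function.Injective σ)
    (hc : ∀ x, c x * c (tau m x) * sgn m (σ x) = sgn m x) : mono m σ c ∈ G := by
  apply mem_symp_of_basis
  intro x y
  rw [mono_mulVec, mono_mulVec, sf_smul_left, sf_smul_right, f_e_e, f_e_e]
  by_cases hy : y = tau m x
  · subst hy
    rw [if_pos (hσ x), if_pos rfl]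
    have := hc x
    linear_combination (-1 : F) * this
  · rw [if_neg hy, if_neg]
    · ring
    · intro h
      rw [← hσ] at h
      exact hy (hinj h)

/-- the torus of the statement -/
def T : Subgroup G :=
  ⨅ i : Fin m ⊕ Fin m, Cfsg.stabilizing (Cfsg.spToMat m F)
    ((Submodule.span F {(Pi.single i (1 : F) : Fin m ⊕ Fin m → F)} :
      Submodule F (Fin m ⊕ Fin m → F)) : Set (Fin m ⊕ Fin m → F))

theorem mulVec_ne_zero (g : G) (v : V) (hv : v ≠ 0) : g.1 *ᵥ v ≠ 0 := by
  intro h
  have := inv_mulVec_mulVec m g v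
  rw [h, Matrix.mulVec_zero] at this
  exact hv this.symm

theorem coef_ne_zero (g : G) (j k : ι) (c : F) (h : g.1 *ᵥ e m j = c • e m k) : c ≠ 0 := by
  rintro rfl
  rw [zero_smul] at h
  exact mulVec_ne_zero m g _ (e_ne_zero m j) h

/-- the inverse of a monomial element on basis vectors -/
theorem inv_mulVec_e (g : G) (j k : ι) (c : F) (h : g.1 *ᵥ e m j = c • e m k) :
    (g⁻¹).1 *ᵥ e m k = c⁻¹ • e m j := by
  have hc := coef_ne_zero m g j k c h
  have h1 := inv_mulVec_mulVec m g (e m j)
  rw [h, Matrix.mulVec_smul] at h1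
  rw [← h1, smul_smul, inv_mul_cancel₀ hc, one_smul]

theorem mem_T_iff (t : G) : t ∈ T (F := F) m ↔ ∀ j, ∃ c : F, t.1 *ᵥ e m j = c • e m j := by
  unfold T
  rw [Subgroup.mem_iInf]
  constructor
  · intro h j
    have h1 := (h j (e m j)).mp (Submodule.mem_span_singleton_self _)
    obtain ⟨c, hc⟩ := Submodule.mem_span_singleton.mp h1
    exact ⟨c, hc.symm⟩
  · intro h j v
    obtain ⟨c, hc⟩ := h j
    have hinv := inv_mulVec_e m t j j c hc
    constructor
    · intro hv
      obtain ⟨a, rfl⟩ := Submodule.mem_span_singleton.mp hv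
      show t.1 *ᵥ (a • e m j) ∈ _
      rw [Matrix.mulVec_smul, hc, smul_smul]
      exact Submodule.mem_span_singleton.mpr ⟨a * c, rfl⟩
    · intro hv
      obtain ⟨b, hb⟩ := Submodule.mem_span_singleton.mp hv
      have h1 := inv_mulVec_mulVec m t v
      have hb' : t.1 *ᵥ v = b • e m j := hb.symm
      rw [hb', Matrix.mulVec_smul, hinv, smul_smul] at h1
      rw [← h1]
      exact Submodule.mem_span_singleton.mpr ⟨b * c⁻¹, rfl⟩

/-- conjugating the torus by a monomial element -/
theorem conj_mem_T (g : G) (σ : Equiv.Perm ι) (c : ι → F)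
    (hg : ∀ j, g.1 *ᵥ e m j = c j • e m (σ j)) (t : G) (ht : t ∈ T (F := F) m) :
    g * t * g⁻¹ ∈ T (F := F) m := by
  rw [mem_T_iff] at ht ⊢
  intro k
  obtain ⟨a, ha⟩ := ht (σ.symm k)
  have h1 := inv_mulVec_e m g (σ.symm k) k (c (σ.symm k)) (by
    have := hg (σ.symm k)
    rwa [Equiv.apply_symm_apply] at this)
  refine ⟨a, ?_⟩
  have hcne := coef_ne_zero m g (σ.symm k) (σ (σ.symm k)) (c (σ.symm k)) (hg (σ.symm k))
  rw [val_mul, val_mul, ← Matrix.mulVec_mulVec, ← Matrix.mulVec_mulVec, h1, Matrix.mulVec_smul,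
    ha, Matrix.mulVec_smul, Matrix.mulVec_smul, hg, Equiv.apply_symm_apply, smul_smul, smul_smul]
  congr 1
  field_simp

theorem mono_mem_normalizer (g : G) (σ : Equiv.Perm ι) (c : ι → F)
    (hg : ∀ j, g.1 *ᵥ e m j = c j • e m (σ j)) :
    g ∈ Subgroup.normalizer (T (F := F) m : Set G) := by
  rw [Subgroup.mem_normalizer_iff]
  intro t
  constructor
  · exact conj_mem_T m g σ c hg t
  · intro h
    have hinv : ∀ k, (g⁻¹).1 *ᵥ e m k = (c (σ.symm k))⁻¹ • e m (σ.symm k) := by
      intro k
      apply inv_mulVec_e m g (σ.symm k) k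
      have := hg (σ.symm k)
      rwa [Equiv.apply_symm_apply] at this
    have := conj_mem_T m g⁻¹ σ.symm (fun k => (c (σ.symm k))⁻¹) hinv _ h
    have e1 : g⁻¹ * (g * t * g⁻¹) * g⁻¹⁻¹ = t := by group
    rwa [e1] at this

/-- torus coefficients `a` at `k`, `a⁻¹` at the partner of `k` -/
def delta (k : ι) (a : F) : ι → F := fun x => if x = k then a else if x = tau m k then a⁻¹ else 1

theorem delta_mul (k : ι) (a : F) (ha : a ≠ 0) (x : ι) :
    delta m k a x * delta m k a (tau m x) = 1 := by
  unfold delta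
  by_cases h1 : x = k
  · subst h1
    rw [if_pos rfl, if_neg (tau_ne m x), if_pos rfl, mul_inv_cancel₀ ha]
  · by_cases h2 : x = tau m k
    · subst h2
      rw [if_neg h1, if_pos rfl, tau_tau, if_pos rfl, inv_mul_cancel₀ ha]
    · have h3 : tau m x ≠ k := fun h => h2 (by rw [← h, tau_tau])
      have h4 : tau m x ≠ tau m k := fun h => h1 (tau_inj m h)
      rw [if_neg h1, if_neg h2, if_neg h3, if_neg h4, mul_one]

/-- special torus elements -/
def tor (k : ι) (a : F) (ha : a ≠ 0) : G :=
  ⟨mono m id (delta m k a), mono_mem m id (delta m k a) (fun _ => rfl) Function.injective_id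
    (fun x => by
      show delta m k a x * delta m k a (tau m x) * sgn m x = sgn m x
      rw [delta_mul m k a ha, one_mul])⟩

theorem tor_mulVec_e (k : ι) (a : F) (ha : a ≠ 0) (j : ι) :
    (tor m k a ha).1 *ᵥ e m j = delta m k a j • e m j := mono_mulVec m id _ j

theorem tor_mem_T (k : ι) (a : F) (ha : a ≠ 0) : tor m k a ha ∈ T (F := F) m := by
  rw [mem_T_iff]
  intro j
  exact ⟨_, tor_mulVec_e m k a ha j⟩

theorem tor_mulVec (k : ι) (a : F) (ha : a ≠ 0) (v : V) (x : ι) :
    ((tor m k a ha).1 *ᵥ v) x = delta m k a x * v x := by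
  classical
  have : (tor m k a ha).1 = Matrix.diagonal (delta m k a) := by
    ext i j
    show mono m id (delta m k a) i j = _
    unfold mono
    simp only [Matrix.of_apply, id, Matrix.diagonal_apply]
    by_cases hij : i = j
    · subst hij; simp
    · simp [hij]
  rw [this, Matrix.mulVec_diagonal]

/-- a joint eigenvector of the torus lies on a coordinate axis -/
theorem single_axis (a₀ : F) (h0 : a₀ ≠ 0) (h1 : a₀ * a₀ ≠ 1) (v : V) (hv : v ≠ 0)
    (heig : ∀ t ∈ T (F := F) m, ∃ a : F, t.1 *ᵥ v = a • v) :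
    ∃ (k : ι) (c : F), v = c • e m k := by
  classical
  obtain ⟨k, hk⟩ : ∃ k, v k ≠ 0 := by
    by_contra hcon
    push Not at hcon
    exact hv (funext hcon)
  obtain ⟨a, ha⟩ := heig _ (tor_mem_T m k a₀ h0)
  have hak : a = a₀ := by
    have := congrFun ha k
    rw [tor_mulVec, Pi.smul_apply, smul_eq_mul] at this
    have hd : delta m k a₀ k = a₀ := by unfold delta; rw [if_pos rfl]
    rw [hd] at this
    exact (mul_right_cancel₀ hk this).symm
  subst hak
  have hzero : ∀ l, l ≠ k → v l = 0 := by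
    intro l hl
    by_contra hvl
    have := congrFun ha l
    rw [tor_mulVec, Pi.smul_apply, smul_eq_mul] at this
    have h2 := mul_right_cancel₀ hvl this
    unfold delta at h2
    rw [if_neg hl] at h2
    by_cases hl2 : l = tau m k
    · rw [if_pos hl2] at h2
      apply h1
      calc a * a = a * a⁻¹ := by rw [h2]
        _ = 1 := mul_inv_cancel₀ h0
    · rw [if_neg hl2] at h2
      apply h1
      rw [← h2, mul_one]
  refine ⟨k, v k, ?_⟩
  ext x
  by_cases hx : x = k
  · subst hx
    simp [e]
  · rw [hzero x hx]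
    simp [e, hx]

theorem exists_a0 [Fintype F] (hq : 4 ≤ Fintype.card F) : ∃ a₀ : F, a₀ ≠ 0 ∧ a₀ * a₀ ≠ 1 := by
  classical
  by_contra hcon
  push Not at hcon
  have hsub : (Finset.univ : Finset F) ⊆ {0, 1, -1} := by
    intro a _
    by_cases ha : a = 0
    · simp [ha]
    · have h1 := hcon a ha
      have h2 : (a - 1) * (a + 1) = 0 := by linear_combination h1
      rcases mul_eq_zero.mp h2 with h | h
      · have : a = 1 := sub_eq_zero.mp h
        simp [this]
      · have : a = -1 := eq_neg_of_add_eq_zero_left h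
        simp [this]
  have := Finset.card_le_card hsub
  have h3 : ({0, 1, -1} : Finset F).card ≤ 3 := Finset.card_le_three
  rw [Finset.card_univ] at this
  omega

theorem normalizer_mono [Fintype F] (hq : 4 ≤ Fintype.card F) (g : G)
    (hg : g ∈ Subgroup.normalizer (T (F := F) m : Set G)) :
    ∃ (σ : ι → ι) (c : ι → F), ∀ j, g.1 *ᵥ e m j = c j • e m (σ j) := by
  obtain ⟨a₀, h0, h1⟩ := exists_a0 hq
  have key : ∀ j, ∃ (k : ι) (c : F), g.1 *ᵥ e m j = c • e m k := by
    intro j
    apply single_axis m a₀ h0 h1 _ (mulVec_ne_zero m g _ (e_ne_zero m j))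
    intro t ht
    rw [Subgroup.mem_normalizer_iff''] at hg
    have h2 := (hg t).mp ht
    rw [mem_T_iff] at h2
    obtain ⟨a, ha⟩ := h2 j
    refine ⟨a, ?_⟩
    rw [val_mul, val_mul, ← Matrix.mulVec_mulVec, ← Matrix.mulVec_mulVec] at ha
    have h3 := congrArg (fun w => g.1 *ᵥ w) ha
    rw [mulVec_inv_mulVec, Matrix.mulVec_smul] at h3
    exact h3
  choose σ c h using key
  exact ⟨σ, c, h⟩

theorem mono_props (g : G) (σ : ι → ι) (c : ι → F)
    (h : ∀ j, g.1 *ᵥ e m j = c j • e m (σ j)) :
    (∀ x, σ (tau m x) = tau m (σ x)) ∧ Function.Injective σ ∧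
      (∀ x, c x * c (tau m x) * sgn m (σ x) = sgn m x) := by
  have gram : ∀ x y, c x * c y * (if σ y = tau m (σ x) then - sgn (F := F) m (σ x) else 0) =
      if y = tau m x then - sgn m x else 0 := by
    intro x y
    have := sf_mulVec_of_mem m g.1 g.2 (e m x) (e m y)
    rw [h, h, sf_smul_left, sf_smul_right, f_e_e, f_e_e] at this
    rw [← this]
    ring
  have hcne : ∀ j, c j ≠ 0 := fun j => coef_ne_zero m g j (σ j) (c j) (h j)
  have hcomm : ∀ x, σ (tau m x) = tau m (σ x) := by
    intro x
    have := gram x (tau m x)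
    rw [if_pos rfl] at this
    by_contra hne
    rw [if_neg hne, mul_zero] at this
    exact (neg_ne_zero.mpr (sgn_ne_zero m x)) this.symm
  refine ⟨hcomm, ?_, ?_⟩
  · intro x y hxy
    have := gram y (tau m x)
    rw [hcomm, hxy, if_pos rfl] at this
    by_contra hne
    rw [if_neg (fun h' => hne (tau_inj m h'))] at this
    have h2 : c y * c (tau m x) * -sgn (F := F) m (σ y) ≠ 0 :=
      mul_ne_zero (mul_ne_zero (hcne y) (hcne _)) (neg_ne_zero.mpr (sgn_ne_zero m _))
    exact h2 this
  · intro x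
    have := gram x (tau m x)
    rw [if_pos rfl, if_pos (hcomm x)] at this
    linear_combination (-1 : F) * this

/-- the swap permutation -/
def taup : Equiv.Perm ι := Equiv.sumComm (Fin m) (Fin m)

theorem taup_apply (x : ι) : taup m x = tau m x := rfl

theorem mem_centralizer_iff' (σ : Equiv.Perm ι) :
    σ ∈ Subgroup.centralizer {taup m} ↔ ∀ x, σ (tau m x) = tau m (σ x) := by
  rw [Subgroup.mem_centralizer_iff]
  constructor
  · intro h x
    have := h (taup m) rfl
    have h2 := congrArg (fun p : Equiv.Perm ι => p x) this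
    simp only [Equiv.Perm.mul_apply, taup_apply] at h2
    exact h2.symm
  · intro h p hp
    rw [Set.mem_singleton_iff] at hp
    subst hp
    ext x
    simp only [Equiv.Perm.mul_apply, taup_apply]
    rw [h x]

/-- coefficients of the monomial matrix attached to `σ` and `d` -/
def coefOf (σ : ι → ι) (d : Fin m → Fˣ) : ι → F :=
  Sum.elim (fun i => (d i : F)) (fun i => sgn m (σ (Sum.inl i)) * ((d i : F))⁻¹)

theorem coefOf_prop (σ : ι → ι) (d : Fin m → Fˣ) (hσ : ∀ x, σ (tau m x) = tau m (σ x)) (x : ι) :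
    coefOf m σ d x * coefOf m σ d (tau m x) * sgn m (σ x) = sgn m x := by
  rcases x with i | i
  · show (d i : F) * (sgn m (σ (Sum.inl i)) * ((d i : F))⁻¹) * sgn m (σ (Sum.inl i)) = 1
    have h1 := sgn_mul_self (F := F) m (σ (Sum.inl i))
    have h2 : (d i : F) * ((d i : F))⁻¹ = 1 := mul_inv_cancel₀ (d i).ne_zero
    linear_combination h1 + (sgn m (σ (Sum.inl i)) * sgn m (σ (Sum.inl i))) * h2
  · show (sgn m (σ (Sum.inl i)) * ((d i : F))⁻¹) * (d i : F) * sgn m (σ (Sum.inr i)) = -1
    have h0 : σ (Sum.inr i) = tau m (σ (Sum.inl i)) := hσ (Sum.inl i)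
    rw [h0, sgn_tau]
    have h1 := sgn_mul_self (F := F) m (σ (Sum.inl i))
    have h2 : ((d i : F))⁻¹ * (d i : F) = 1 := inv_mul_cancel₀ (d i).ne_zero
    linear_combination (-1 : F) * h1 - (sgn m (σ (Sum.inl i)) * sgn m (σ (Sum.inl i))) * h2

/-- the parametrisation of the normaliser -/
def Phi (p : Subgroup.centralizer {taup m} × (Fin m → Fˣ)) :
    Subgroup.normalizer (T (F := F) m : Set G) :=
  ⟨⟨mono m p.1.1 (coefOf m p.1.1 p.2), mono_mem m _ _ ((mem_centralizer_iff' m p.1.1).mp p.1.2)
      p.1.1.injective (coefOf_prop m _ p.2 ((mem_centralizer_iff' m p.1.1).mp p.1.2))⟩,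
    mono_mem_normalizer m _ p.1.1 (coefOf m p.1.1 p.2) (fun j => mono_mulVec m _ _ j)⟩

theorem Phi_injective : Function.Injective (Phi (F := F) m) := by
  rintro ⟨⟨σ, hσ⟩, d⟩ ⟨⟨σ', hσ'⟩, d'⟩ h
  have h1 : mono m σ (coefOf m σ d) = mono m σ' (coefOf m σ' d') := by
    have := congrArg (fun g : Subgroup.normalizer (T (F := F) m : Set G) => (g.1.1 : Matrix ι ι F)) h
    exact this
  have h2 : ∀ y, σ y = σ' y ∧ coefOf m σ d y = coefOf m σ' d' y := by
    intro y
    have := congrArg (fun M : Matrix ι ι F => M *ᵥ e m y) h1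
    simp only [mono_mulVec] at this
    apply smul_e_inj m _ this
    have hg : (⟨mono m σ (coefOf m σ d), mono_mem m _ _ ((mem_centralizer_iff' m σ).mp hσ)
      σ.injective (coefOf_prop m _ d ((mem_centralizer_iff' m σ).mp hσ))⟩ : G).1 *ᵥ e m y =
        coefOf m σ d y • e m (σ y) := mono_mulVec m _ _ y
    exact coef_ne_zero m _ y (σ y) _ hg
  have hσσ' : σ = σ' := Equiv.ext fun y => (h2 y).1
  subst hσσ'
  have hdd' : d = d' := by
    funext i
    apply Units.ext
    exact (h2 (Sum.inl i)).2
  subst hdd'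
  rfl

theorem Phi_surjective [Fintype F] (hq : 4 ≤ Fintype.card F) :
    Function.Surjective (Phi (F := F) m) := by
  rintro ⟨g, hg⟩
  obtain ⟨σf, c, h⟩ := normalizer_mono m hq g hg
  obtain ⟨hcomm, hinj, hc⟩ := mono_props m g σf c h
  have hcne : ∀ j, c j ≠ 0 := fun j => coef_ne_zero m g j (σf j) (c j) (h j)
  set σ : Equiv.Perm ι := Equiv.ofBijective σf (Finite.injective_iff_bijective.mp hinj) with hσ
  have hσmem : σ ∈ Subgroup.centralizer {taup m} := by
    rw [mem_centralizer_iff']
    intro x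
    exact hcomm x
  refine ⟨(⟨σ, hσmem⟩, fun i => Units.mk0 (c (Sum.inl i)) (hcne _)), ?_⟩
  apply Subtype.ext
  apply Subtype.ext
  show mono m σ (coefOf m σ fun i => Units.mk0 (c (Sum.inl i)) (hcne _)) = g.1
  apply mat_ext m
  intro y
  rw [mono_mulVec, h]
  have hσy : σ y = σf y := rfl
  rw [hσy]
  congr 1
  rcases y with i | i
  · rfl
  · show sgn m (σ (Sum.inl i)) * ((Units.mk0 (c (Sum.inl i)) (hcne _) : Fˣ) : F)⁻¹ = c (Sum.inr i)
    rw [Units.val_mk0]
    have h1 := hc (Sum.inl i)
    have h2 := sgn_mul_self (F := F) m (σf (Sum.inl i))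
    have h3 : tau m (Sum.inl i) = Sum.inr i := rfl
    rw [h3] at h1
    have h4 : sgn (F := F) m (Sum.inl i) = 1 := rfl
    rw [h4] at h1
    have hσi : σ (Sum.inl i) = σf (Sum.inl i) := rfl
    rw [hσi]
    apply mul_left_cancel₀ (hcne (Sum.inl i))
    rw [← mul_assoc, mul_comm (c (Sum.inl i)), mul_assoc, mul_inv_cancel₀ (hcne _), mul_one]
    linear_combination (-sgn m (σf (Sum.inl i))) * h1 + (c (Sum.inl i) * c (Sum.inr i)) * h2

theorem cycleType_taup : (taup m).cycleType = Multiset.replicate m 2 := by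
  classical
  rcases Nat.eq_zero_or_pos m with hm | hm
  · subst hm
    have : taup 0 = 1 := by
      ext x
      rcases x with i | i <;> exact i.elim0
    rw [this]
    simp
  have hsupp : (taup m).support = Finset.univ := by
    ext x
    simp only [Equiv.Perm.mem_support, Finset.mem_univ, iff_true]
    exact tau_ne m x
  have hne : taup m ≠ 1 := by
    intro h
    have := congrArg (fun p : Equiv.Perm ι => p (Sum.inl ⟨0, hm⟩)) h
    simp [taup] at this
  have hsq : taup m ^ 2 = 1 := by
    ext x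
    simp only [pow_two, Equiv.Perm.mul_apply, taup_apply, tau_tau, Equiv.Perm.one_apply]
  have hord : orderOf (taup m) = 2 := orderOf_eq_prime hsq hne
  obtain ⟨n, hn⟩ := Equiv.Perm.cycleType_prime_order (σ := taup m) (by rw [hord]; exact Nat.prime_two)
  rw [hord] at hn
  have hsum := Equiv.Perm.sum_cycleType (taup m)
  rw [hn, hsupp, Finset.card_univ, Multiset.sum_replicate, Fintype.card_sum, Fintype.card_fin,
    smul_eq_mul] at hsum
  have : n + 1 = m := by omega
  rw [hn, this]

theorem card_centralizer_taup : Nat.card (Subgroup.centralizer {taup m}) = 2 ^ m * Nat.factorial m := by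
  classical
  rw [Equiv.Perm.nat_card_centralizer, cycleType_taup, Multiset.sum_replicate, Multiset.prod_replicate,
    Fintype.card_sum, Fintype.card_fin, smul_eq_mul]
  have h1 : m + m - m * 2 = 0 := by omega
  rw [h1, Nat.factorial_zero, one_mul]
  rcases Nat.eq_zero_or_pos m with hm | hm
  · subst hm
    simp
  · have h2 : (Multiset.replicate m 2).toFinset = {2} := by
      ext x
      simp only [Multiset.mem_toFinset, Multiset.mem_replicate, Finset.mem_singleton]
      constructor
      · exact fun h => h.2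
      · exact fun h => ⟨by omega, h⟩
    rw [h2, Finset.prod_singleton, Multiset.count_replicate_self]

end

/-- Weyl group of type C_m: for q ≥ 4 the diagonal matrices of Sp_2m(q) form a torus T ≅ (C_(q−1))^m (the elements stabilising every coordinate axis), and the normaliser of T in Sp_2m(q) has order 2^m · m! · (q − 1)^m. -/
theorem result {F : Type*} [Field F] [Fintype F] {q : ℕ} (hF : Fintype.card F = q) (hq : 4 ≤ q) (m : ℕ) : Nat.card ↥(Subgroup.normalizer (⨅ i : Fin m ⊕ Fin m, Cfsg.stabilizing (Cfsg.spToMat m F) ((Submodule.span F {(Pi.single i (1 : F) : Fin m ⊕ Fin m → F)} : Submodule F (Fin m ⊕ Fin m → F)) : Set (Fin m ⊕ Fin m → F)) : Set (Matrix.symplecticGroup (Fin m) F))) = 2 ^ m * Nat.factorial m * (q - 1) ^ m := by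
  classical
  have hset : (⨅ i : Fin m ⊕ Fin m, Cfsg.stabilizing (Cfsg.spToMat m F) ((Submodule.span F {(Pi.single i (1 : F) : Fin m ⊕ Fin m → F)} : Submodule F (Fin m ⊕ Fin m → F)) : Set (Fin m ⊕ Fin m → F)) : Set (Matrix.symplecticGroup (Fin m) F)) = (T (F := F) m : Set (Matrix.symplecticGroup (Fin m) F)) := by
    unfold T
    rw [Subgroup.coe_iInf, Set.iInf_eq_iInter]
  rw [hset]
  have hbij : Function.Bijective (Phi (F := F) m) :=
    ⟨Phi_injective m, Phi_surjective m (by rw [hF]; exact hq)⟩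
  rw [← Nat.card_congr (Equiv.ofBijective _ hbij), Nat.card_prod, card_centralizer_taup,
    Nat.card_fun, Nat.card_eq_fintype_card (α := Fˣ), Fintype.card_units, hF,
    Nat.card_eq_fintype_card, Fintype.card_fin]

end Cfsg.Agent.S0777
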