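import Cfsg.Statements.S0778

set_option autoImplicit false
open Cfsg

namespace Cfsg.Agent.S0778

open Matrix

variable {F : Type*} [Field F] (m : ℕ)

/-- block diagonal symplectic matrix attached to an invertible matrix -/
noncomputable def psiMat (X : Matrix.GeneralLinearGroup (Fin m) F) :
    Matrix (Fin m ⊕ Fin m) (Fin m ⊕ Fin m) F :=
  Matrix.fromBlocks (X : Matrix (Fin m) (Fin m) F) 0 0
    ((X⁻¹ : Matrix.GeneralLinearGroup (Fin m) F) : Matrix (Fin m) (Fin m) F)ᵀ

theorem psiMat_mem (X : Matrix.GeneralLinearGroup (Fin m) F) :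
    psiMat m X ∈ Matrix.symplecticGroup (Fin m) F := by
  unfold psiMat
  rw [SymplecticGroup.fromBlocks_mem_iff]
  refine ⟨by simp, by simp, ?_⟩
  rw [← Matrix.transpose_mul]
  simp

noncomputable def psi : Matrix.GeneralLinearGroup (Fin m) F →* Matrix.symplecticGroup (Fin m) F where
  toFun X := ⟨psiMat m X, psiMat_mem m X⟩
  map_one' := by
    apply Subtype.ext
    simp [psiMat, Matrix.fromBlocks_one]
  map_mul' X Y := by
    apply Subtype.ext
    simp only [psiMat, Submonoid.coe_mul, Matrix.fromBlocks_multiply, _root_.mul_inv_rev]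
    simp [Matrix.transpose_mul]

theorem psi_injective : Function.Injective (psi (F := F) m) := by
  intro X Y h
  have h1 := congrArg (fun A : Matrix.symplecticGroup (Fin m) F =>
    (A : Matrix (Fin m ⊕ Fin m) (Fin m ⊕ Fin m) F).toBlocks₁₁) h
  simp only [psi, psiMat, MonoidHom.coe_mk, OneHom.coe_mk, Matrix.toBlocks_fromBlocks₁₁] at h1
  exact Units.ext h1

theorem mulVec_eq_zero_of_left_inv {A B : Matrix (Fin m) (Fin m) F} (h : B * A = 1)
    (w : Fin m → F) : A *ᵥ w = 0 ↔ w = 0 := by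
  constructor
  · intro hw
    have := congrArg (fun u => B *ᵥ u) hw
    simpa [Matrix.mulVec_mulVec, h] using this
  · rintro rfl; simp

theorem psi_range : (psi (F := F) m).range =
    Cfsg.stabilizing (Cfsg.spToMat m F) {v : Fin m ⊕ Fin m → F | ∀ i : Fin m, v (Sum.inr i) = 0} ⊓
      Cfsg.stabilizing (Cfsg.spToMat m F) {v : Fin m ⊕ Fin m → F | ∀ i : Fin m, v (Sum.inl i) = 0} := by
  apply le_antisymm
  · rintro _ ⟨X, rfl⟩
    have hX1 : (X : Matrix (Fin m) (Fin m) F)ᵀ *
        ((X⁻¹ : Matrix.GeneralLinearGroup (Fin m) F) : Matrix (Fin m) (Fin m) F)ᵀ = 1 := by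
      rw [← Matrix.transpose_mul]; simp
    have hX2 : ((X⁻¹ : Matrix.GeneralLinearGroup (Fin m) F) : Matrix (Fin m) (Fin m) F) *
        (X : Matrix (Fin m) (Fin m) F) = 1 := by simp
    constructor
    · intro v
      change (∀ i, v (Sum.inr i) = 0) ↔ ∀ i, (psiMat m X *ᵥ v) (Sum.inr i) = 0
      have key : (∀ i, (psiMat m X *ᵥ v) (Sum.inr i) = 0) ↔
          ((X⁻¹ : Matrix.GeneralLinearGroup (Fin m) F) : Matrix (Fin m) (Fin m) F)ᵀ *ᵥ (v ∘ Sum.inr) = 0 := by
        rw [funext_iff]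
        apply forall_congr'
        intro i
        simp [psiMat, Matrix.fromBlocks_mulVec]
      rw [key, mulVec_eq_zero_of_left_inv m hX1, funext_iff]
      rfl
    · intro v
      change (∀ i, v (Sum.inl i) = 0) ↔ ∀ i, (psiMat m X *ᵥ v) (Sum.inl i) = 0
      have key : (∀ i, (psiMat m X *ᵥ v) (Sum.inl i) = 0) ↔
          (X : Matrix (Fin m) (Fin m) F) *ᵥ (v ∘ Sum.inl) = 0 := by
        rw [funext_iff]
        apply forall_congr'
        intro i
        simp [psiMat, Matrix.fromBlocks_mulVec]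
      rw [key, mulVec_eq_zero_of_left_inv m hX2, funext_iff]
      rfl
  · rintro ⟨A, hA⟩ ⟨hW, hU⟩
    -- lower-left block vanishes
    have h21 : A.toBlocks₂₁ = 0 := by
      ext i j
      have h1 := (hW (Pi.single (Sum.inl j) 1)).mp (by intro k; simp)
      have h2 := h1 i
      simpa [Matrix.toBlocks₂₁] using h2
    have h12 : A.toBlocks₁₂ = 0 := by
      ext i j
      have h1 := (hU (Pi.single (Sum.inr j) 1)).mp (by intro k; simp)
      have h2 := h1 i
      simpa [Matrix.toBlocks₁₂] using h2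
    have hAeq : A = Matrix.fromBlocks A.toBlocks₁₁ 0 0 A.toBlocks₂₂ := by
      conv_lhs => rw [← Matrix.fromBlocks_toBlocks A, h21, h12]
    have hsp := hA
    rw [hAeq, SymplecticGroup.fromBlocks_mem_iff] at hsp
    have h3 : A.toBlocks₁₁ᵀ * A.toBlocks₂₂ = 1 := by simpa using hsp.2.2
    have h4 : A.toBlocks₂₂ᵀ * A.toBlocks₁₁ = 1 := by
      have := congrArg Matrix.transpose h3
      simpa [Matrix.transpose_mul] using this
    have h5 : A.toBlocks₁₁ * A.toBlocks₂₂ᵀ = 1 := mul_eq_one_comm.mp h4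
    refine ⟨⟨A.toBlocks₁₁, A.toBlocks₂₂ᵀ, h5, h4⟩, ?_⟩
    apply Subtype.ext
    change psiMat m _ = A
    conv_rhs => rw [hAeq]
    unfold psiMat
    rfl

theorem result {F : Type*} [Field F] (m : ℕ) : Nonempty (↥(Cfsg.stabilizing (Cfsg.spToMat m F) {v : Fin m ⊕ Fin m → F | ∀ i : Fin m, v (Sum.inr i) = 0} ⊓ Cfsg.stabilizing (Cfsg.spToMat m F) {v : Fin m ⊕ Fin m → F | ∀ i : Fin m, v (Sum.inl i) = 0}) ≃* Matrix.GeneralLinearGroup (Fin m) F) := by
  refine ⟨(MulEquiv.subgroupCongr (psi_range m).symm).trans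
    (MonoidHom.ofInjective (psi_injective m)).symm⟩

end Cfsg.Agent.S0778
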