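import Cfsg.Statements.S0779
import Cfsg.Agent.Lib.Helper19.Unitary

set_option autoImplicit false
open Cfsg

namespace Cfsg.Agent.S0779

open Cfsg.Agent.Lib.Helper19 Matrix

theorem result {F : Type*} [Field F] [Fintype F] {q : ℕ} (hF : Fintype.card F = q ^ 2) (n : ℕ) (v : Fin n → F) (hv : v ≠ 0) (hv0 : Cfsg.hermForm n F q v v = 0) (c : F) : (∀ x y : Fin n → F, Cfsg.hermForm n F q ((Cfsg.unitaryTransvection n q v c).mulVec x) ((Cfsg.unitaryTransvection n q v c).mulVec y) = Cfsg.hermForm n F q x y) ↔ (c = 0 ∨ c ^ (q - 1) = -1) := by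
  have hq : 0 < q := q_pos hF
  have hcq : c ^ q = c * c ^ (q - 1) := by
    rw [← pow_succ']; congr 1; omega
  -- find a coordinate with v i ≠ 0
  obtain ⟨i, hi⟩ : ∃ i, v i ≠ 0 := by
    by_contra h
    push Not at h
    exact hv (funext h)
  have hx : Cfsg.hermForm n F q (Pi.single i 1) v = v i ^ q := by
    simp [Cfsg.hermForm, Pi.single_apply]
  have hy : Cfsg.hermForm n F q v (Pi.single i 1) = v i := by
    simp [Cfsg.hermForm, Pi.single_apply, hq.ne']
  have key : (c + c ^ q = 0) ↔ (c = 0 ∨ c ^ (q - 1) = -1) := by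
    rw [hcq]
    constructor
    · intro h
      have : c * (1 + c ^ (q - 1)) = 0 := by linear_combination h
      rcases mul_eq_zero.mp this with h | h
      · exact Or.inl h
      · right; linear_combination h
    · rintro (h | h)
      · rw [h]; simp
      · rw [h]; ring
  rw [← key]
  constructor
  · intro h
    have h1 := h (Pi.single i 1) (Pi.single i 1)
    rw [hermForm_unitaryTransvection hF v c hv0, hx, hy] at h1
    have h2 : (c + c ^ q) * (v i ^ q * v i) = 0 := by linear_combination h1
    rcases mul_eq_zero.mp h2 with h3 | h3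
    · exact h3
    · exact absurd h3 (mul_ne_zero (pow_ne_zero _ hi) hi)
  · intro h x y
    rw [hermForm_unitaryTransvection hF v c hv0, h]; ring

end Cfsg.Agent.S0779
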