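import Cfsg.Statements.S0781
import Cfsg.Agent.Lib.Helper51.SUGen7

set_option autoImplicit false
open Cfsg

namespace Cfsg.Agent.S0781

open Cfsg.Agent.Lib.Helper51 Cfsg.Agent.Lib.Helper08 Matrix

theorem mem_commSet_of_mats {F : Type*} [Field F] [Fintype F] {q : ℕ} (n : ℕ)
    (A : ↥(Cfsg.SU n F q)) (B C : Matrix (Fin n) (Fin n) F) (hB : IsIsoMat q B) (hBd : B.det = 1)
    (hC : IsIsoMat q C) (hCd : C.det = 1)
    (h : B * C = ((A : Matrix.SpecialLinearGroup (Fin n) F) : Matrix (Fin n) (Fin n) F) * C * B) :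
    A ∈ commutatorSet ↥(Cfsg.SU n F q) := by
  let Bs : ↥(Cfsg.SU n F q) := ⟨⟨B, hBd⟩, fun u v => hB u v⟩
  let Cs : ↥(Cfsg.SU n F q) := ⟨⟨C, hCd⟩, fun u v => hC u v⟩
  have hBC : Bs * Cs = A * Cs * Bs := by
    apply Subtype.ext
    apply Subtype.ext
    exact h
  refine ⟨Bs, Cs, ?_⟩
  rw [commutatorElement_def, hBC]
  group

theorem one_mem_commSet (G : Type*) [Group G] : (1 : G) ∈ commutatorSet G :=
  ⟨1, 1, by simp⟩

/-- In SU_n(q) with n ≥ 4, or n = 3 and q > 2, every element whose matrix is a unitary transvection x ↦ x + c h(x, v) v (v isotropic) is a commutator ⁅B, C⁆ of two elements of SU_n(q). -/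
theorem result {F : Type*} [Field F] [Fintype F] {q : ℕ} (hF : Fintype.card F = q ^ 2) (n : ℕ) (hn : 4 ≤ n ∨ (n = 3 ∧ 3 ≤ q)) (A : ↥(Cfsg.SU n F q)) (v : Fin n → F) (c : F) (hv0 : Cfsg.hermForm n F q v v = 0) (hA : ((A : Matrix.SpecialLinearGroup (Fin n) F) : Matrix (Fin n) (Fin n) F) = Cfsg.unitaryTransvection n q v c) : A ∈ commutatorSet ↥(Cfsg.SU n F q) := by
  have hAm : ((A : Matrix.SpecialLinearGroup (Fin n) F) : Matrix (Fin n) (Fin n) F) =
      qrefl q v c := hA
  have hone : ((A : Matrix.SpecialLinearGroup (Fin n) F) : Matrix (Fin n) (Fin n) F) = 1 →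
      A ∈ commutatorSet ↥(Cfsg.SU n F q) := by
    intro h1
    have : A = 1 := by
      apply Subtype.ext
      apply Subtype.ext
      exact h1
    rw [this]
    exact one_mem_commSet _
  by_cases hv : v = 0
  · apply hone
    rw [hAm, hv]
    apply mat_ext_mulVec
    intro x
    rw [qrefl_mulVec, smul_zero, add_zero, Matrix.one_mulVec]
  by_cases hc : c = 0
  · apply hone
    rw [hAm, hc, qrefl_zero]
  have hiso : IsIsoMat q (qrefl q v c) := by
    intro x y
    rw [← hAm]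
    exact A.2 x y
  have hskew := skew_of_qrefl_iso hF v hv hv0 c hiso
  rcases hn with h4 | ⟨h3, hq3⟩
  · obtain ⟨B, C, hB, hC, hBC⟩ := exists_comm_siegel hF h4 v hv hv0 c hskew
    apply mem_commSet_of_mats n A B C (TT_iso hF hB) (TT_det hB) (TT_iso hF hC) (TT_det hC)
    rw [hAm]
    exact hBC
  · obtain ⟨B, C, hB, hBd, hC, hCd, hBC⟩ := exists_comm_torus hF (by omega) hq3 v hv hv0 c hskew
    apply mem_commSet_of_mats n A B C hB hBd hC hCd
    rw [hAm]
    exact hBC

end Cfsg.Agent.S0781
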