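import Cfsg.Statements.S0783
import Cfsg.Agent.Lib.Helper19.UnitaryDet

set_option autoImplicit false
open Cfsg

namespace Cfsg.Agent.S0783

open Cfsg.Agent.Lib.Helper19 Matrix

theorem result {F : Type*} [Field F] [Fintype F] {q : ℕ} (hF : Fintype.card F = q ^ 2) (n : ℕ) (hn : 2 ≤ n) : ∃ φ : ↥(Cfsg.GU n F q) →* Multiplicative (ZMod (Nat.gcd n (q + 1))), Function.Surjective φ ∧ φ.ker = (Matrix.GeneralLinearGroup.det : Matrix.GeneralLinearGroup (Fin n) F →* Fˣ).ker.subgroupOf (Cfsg.GU n F q) ⊔ Subgroup.center ↥(Cfsg.GU n F q) := by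
  classical
  obtain ⟨θ, hθsurj, hθker⟩ := exists_theta hF n
  let δ : Cfsg.GU n F q →* normOne F q :=
    ((Matrix.GeneralLinearGroup.det : Matrix.GeneralLinearGroup (Fin n) F →* Fˣ).comp
      (Cfsg.GU n F q).subtype).codRestrict (normOne F q) (fun g => det_mem_normOne hF g.1 g.2)
  have hδval : ∀ g : Cfsg.GU n F q, ((δ g : normOne F q) : Fˣ) =
      Matrix.GeneralLinearGroup.det (g : Matrix.GeneralLinearGroup (Fin n) F) := fun g => rfl
  have hn0 : 0 < n := by omega
  have hδsurj : Function.Surjective δ := by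
    intro u
    let d : Fin n → Fˣ := Function.update (fun _ => 1) ⟨0, hn0⟩ (u : Fˣ)
    have hd : ∀ i, d i ∈ normOne F q := by
      intro i
      by_cases hi : i = ⟨0, hn0⟩
      · subst hi; simp only [d, Function.update_self]; exact u.2
      · simp only [d, Function.update_of_ne hi]; exact Subgroup.one_mem _
    refine ⟨⟨diagGL d, diagGL_mem_GU d hd⟩, ?_⟩
    apply Subtype.ext
    rw [hδval, det_diagGL]
    simp only [d]
    rw [Finset.prod_update_of_mem (Finset.mem_univ _)]
    simp
  refine ⟨θ.comp δ, hθsurj.comp hδsurj, ?_⟩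
  apply le_antisymm
  · intro g hg
    rw [MonoidHom.mem_ker, MonoidHom.comp_apply, hθker] at hg
    obtain ⟨w, hw⟩ := hg
    let s : Cfsg.GU n F q := ⟨diagGL (fun _ => (w : Fˣ)), diagGL_mem_GU _ (fun _ => w.2)⟩
    have hs : s ∈ Subgroup.center (Cfsg.GU n F q) := by
      rw [Subgroup.mem_center_iff]
      intro h
      apply Subtype.ext
      apply Units.ext
      simp only [s, Subgroup.coe_mul, Matrix.GeneralLinearGroup.coe_mul, diagGL_val]
      ext i j
      rw [Matrix.mul_diagonal, Matrix.diagonal_mul, mul_comm]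
    have hdet : s⁻¹ * g ∈ (Matrix.GeneralLinearGroup.det :
        Matrix.GeneralLinearGroup (Fin n) F →* Fˣ).ker.subgroupOf (Cfsg.GU n F q) := by
      rw [Subgroup.mem_subgroupOf, MonoidHom.mem_ker, Subgroup.coe_mul, map_mul, Subgroup.coe_inv,
        map_inv, ← hδval g, ← hw]
      simp only [s, det_diagGL, Finset.prod_const, Finset.card_univ, Fintype.card_fin,
        Subgroup.coe_pow]
      exact inv_mul_cancel _
    have : g = (s⁻¹ * g) * s := by
      rw [mul_assoc, (Subgroup.mem_center_iff.mp hs) g, ← mul_assoc, inv_mul_cancel, one_mul]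
    rw [this]
    exact Subgroup.mul_mem_sup hdet hs
  · apply sup_le
    · intro g hg
      rw [Subgroup.mem_subgroupOf, MonoidHom.mem_ker] at hg
      rw [MonoidHom.mem_ker, MonoidHom.comp_apply]
      have : δ g = 1 := Subtype.ext hg
      rw [this, map_one]
    · intro z hz
      rw [Subgroup.mem_center_iff] at hz
      obtain ⟨u, hu, hzu⟩ := central_GU_scalar hF hn0 z.1 z.2
        (fun g hg => congrArg Subtype.val (hz ⟨g, hg⟩))
      rw [MonoidHom.mem_ker, MonoidHom.comp_apply, hθker]
      refine ⟨⟨u, hu⟩, ?_⟩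
      apply Subtype.ext
      rw [hδval, hzu, det_diagGL]
      simp

end Cfsg.Agent.S0783
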