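import Cfsg.Statements.S0787
import Cfsg.Agent.Lib.Helper43.Dickson
import Cfsg.Agent.Lib.Helper43.IndexTwo
import Cfsg.Agent.S0788

set_option autoImplicit false
open Cfsg

namespace Cfsg.Agent.S0787

open Matrix Cfsg.Agent.Lib.Helper43 Cfsg.Agent.Lib.Helper19

section aux

variable {F : Type*} [Field F] {ι : Type} [Fintype ι] [DecidableEq ι]
variable (Q : QuadraticForm F (ι → F))

theorem mem_SO_iff (g : ↥(Cfsg.isometryGroup F ⇑Q)) :
    g ∈ Cfsg.specialIsometryGroup F ⇑Q ↔ ((g : GL ι F) : Matrix ι ι F).det = 1 := by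
  unfold Cfsg.specialIsometryGroup
  rw [MonoidHom.mem_ker, MonoidHom.comp_apply, Subgroup.coe_subtype, Units.ext_iff,
    Matrix.GeneralLinearGroup.val_det_apply, Units.val_one]

theorem det_reflO (u : ι → F) (hu : Q u ≠ 0) :
    ((reflO Q u : GL ι F) : Matrix ι ι F).det = -1 := by
  rw [reflO_val Q u hu, reflectionMatrix_det Q u hu]

theorem det_mul' (g h : ↥(Cfsg.isometryGroup F ⇑Q)) :
    (((g * h : ↥(Cfsg.isometryGroup F ⇑Q)) : GL ι F) : Matrix ι ι F).det =
      ((g : GL ι F) : Matrix ι ι F).det * ((h : GL ι F) : Matrix ι ι F).det := by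
  rw [Subgroup.coe_mul, Units.val_mul, Matrix.det_mul]

theorem det_sq (hQ : (QuadraticMap.polarBilin Q).Nondegenerate) (g : ↥(Cfsg.isometryGroup F ⇑Q)) :
    ((g : GL ι F) : Matrix ι ι F).det = 1 ∨ ((g : GL ι F) : Matrix ι ι F).det = -1 := by
  have hg := (mem_isometryGroup_iff (⇑Q) g.1).mp g.2
  have h := det_mul_self_of_isometry Q hQ _ hg
  exact mul_self_eq_one_iff.mp h

theorem commutator_le_SO : Cfsg.Omega F ⇑Q ≤ Cfsg.specialIsometryGroup F ⇑Q := by
  unfold Cfsg.specialIsometryGroup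
  exact Abelianization.commutator_subset_ker _

instance SO_normal : (Cfsg.specialIsometryGroup F ⇑Q).Normal := by
  unfold Cfsg.specialIsometryGroup
  exact MonoidHom.normal_ker _

theorem closure_reflO (hgen : ReflGenerated Q) :
    Subgroup.closure {g : ↥(Cfsg.isometryGroup F ⇑Q) | ∃ u, Q u ≠ 0 ∧ g = reflO Q u} = ⊤ := by
  rw [eq_top_iff]
  intro g _
  obtain ⟨l, hl, rfl⟩ := exists_list_reflO Q hgen g
  apply Subgroup.list_prod_mem
  intro x hx
  obtain ⟨u, hu, rfl⟩ := List.mem_map.1 hx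
  exact Subgroup.subset_closure ⟨u, hl u hu, rfl⟩

/-- `Ω` lies in the normal closure of the squares of `SO` -/
theorem Omega_le_squares (hgen : ReflGenerated Q) :
    Cfsg.Omega F ⇑Q ≤ Subgroup.normalClosure
      {y : ↥(Cfsg.isometryGroup F ⇑Q) | ∃ x ∈ Cfsg.specialIsometryGroup F ⇑Q, y = x * x} := by
  apply commutator_le_of_gens_commute _ _ (closure_reflO Q hgen)
  rintro a ⟨u, hu, rfl⟩ b ⟨v, hv, rfl⟩
  apply Subgroup.subset_normalClosure
  refine ⟨reflO Q u * reflO Q v, ?_, ?_⟩
  · rw [mem_SO_iff, det_mul', det_reflO Q u hu, det_reflO Q v hv]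
    ring
  · have h1 : (reflO Q u)⁻¹ = reflO Q u := inv_eq_of_mul_eq_one_right (reflO_mul_self Q u hu)
    have h2 : (reflO Q v)⁻¹ = reflO Q v := inv_eq_of_mul_eq_one_right (reflO_mul_self Q v hv)
    rw [h1, h2]
    group

theorem key (hgen : ReflGenerated Q)
    (hrel : (Cfsg.Omega F ⇑Q).relIndex (Cfsg.specialIsometryGroup F ⇑Q) = 2) :
    ∃! H : Subgroup ↥(Cfsg.specialIsometryGroup F ⇑Q), H.index = 2 := by
  apply existsUnique_index_two _ _ (commutator_le_SO Q) hrel
  intro H hH k hk
  rw [Subgroup.mem_subgroupOf] at hk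
  have h1 := Omega_le_squares Q hgen hk
  have h2 := normalClosure_squares_le (Cfsg.specialIsometryGroup F ⇑Q) H hH h1
  obtain ⟨h, hh, hhk⟩ := h2
  have : h = k := Subtype.ext hhk
  rw [← this]
  exact hh

end aux

/-- Existence and uniqueness of Ω: if F is finite, n ≥ 2, Q is a quadratic form on F^n with non-degenerate polar form and (|F|, n) ≠ (2, 4), then the group of isometries of determinant one has a unique subgroup of index 2. -/
theorem result {F : Type*} [Field F] [Fintype F] {n : ℕ} (hn : 2 ≤ n) (Q : QuadraticForm F (Fin n → F)) (hQ : (QuadraticMap.polarBilin Q).Nondegenerate) (h : Fintype.card F ≠ 2 ∨ n ≠ 4) : ∃! H : Subgroup ↥(Cfsg.specialIsometryGroup F ⇑Q), H.index = 2 := by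
  have hgen : ReflGenerated Q := reflGenerated_finite Q hQ (by rwa [Fintype.card_fin])
  have : Nonempty (Fin n) := ⟨⟨0, by omega⟩⟩
  apply key Q hgen
  have hmul := Subgroup.relIndex_mul_index (commutator_le_SO Q)
  by_cases h2 : (2 : F) = 0
  · have hc : CharP F 2 := CharTwo.of_one_ne_zero_of_two_eq_zero one_ne_zero h2
    have hidx := index_Omega_char_two Q hQ (by rwa [Fintype.card_fin])
    have htop : Cfsg.specialIsometryGroup F ⇑Q = ⊤ := by
      rw [eq_top_iff]
      intro g _
      rw [mem_SO_iff]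
      rcases det_sq Q hQ g with h | h
      · exact h
      · rw [h]
        have : (1 : F) + 1 = 0 := by rw [one_add_one_eq_two]; exact h2
        linear_combination -this
    rw [htop, Subgroup.index_top, mul_one] at hmul
    rw [htop, hmul, hidx]
  · have hidx := Cfsg.Agent.S0788.result h2 hn Q hQ
    obtain ⟨u, hu⟩ := exists_nonsingular Q hQ
    have hne : (-1 : F) ≠ 1 := by
      intro h
      apply h2
      linear_combination -h
    have hSO : (Cfsg.specialIsometryGroup F ⇑Q).index = 2 := by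
      rw [Subgroup.index_eq_two_iff]
      refine ⟨reflO Q u, fun b => ?_⟩
      rw [mem_SO_iff, mem_SO_iff, det_mul', det_reflO Q u hu]
      rcases det_sq Q hQ b with h | h
      · rw [h]
        refine Or.inr ⟨rfl, ?_⟩
        rw [one_mul]
        exact hne
      · rw [h]
        refine Or.inl ⟨by ring, hne⟩
    rw [hSO, hidx] at hmul
    omega

end Cfsg.Agent.S0787
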