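import Cfsg.Statements.S0792
import Cfsg.Agent.Lib.Helper19.CartanDieudonne

set_option autoImplicit false
open Cfsg

namespace Cfsg.Agent.S0792

open Cfsg.Agent.Lib.Helper19 Matrix
open scoped Classical

variable {F : Type*} [Field F] {n : ℕ}

/-- the reflection in `u` as an element of the isometry group (identity if `Q u = 0`) -/
noncomputable def rho (Q : QuadraticForm F (Fin n → F)) (u : Fin n → F) :
    ↥(Cfsg.isometryGroup F ⇑Q) :=
  if h : Q u ≠ 0 then
    ⟨Matrix.GeneralLinearGroup.mkOfDetNeZero (Cfsg.reflectionMatrix (⇑Q) u)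
      (by rw [reflectionMatrix_det Q u h]; exact neg_ne_zero.mpr one_ne_zero),
      (mem_isometryGroup_iff (⇑Q) _).mpr (fun x => reflectionMatrix_isometry Q u h x)⟩
  else 1

theorem rho_coe (Q : QuadraticForm F (Fin n → F)) (u : Fin n → F) (h : Q u ≠ 0) :
    ((rho Q u : Matrix.GeneralLinearGroup (Fin n) F) : Matrix (Fin n) (Fin n) F) =
      Cfsg.reflectionMatrix (⇑Q) u := by
  unfold rho
  rw [dif_pos h]
  rfl

/-- coercion to matrices as a monoid hom -/
def coeHom (Q : QuadraticForm F (Fin n → F)) :
    ↥(Cfsg.isometryGroup F ⇑Q) →* Matrix (Fin n) (Fin n) F :=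
  (Units.coeHom _).comp (Cfsg.isometryGroup F ⇑Q).subtype

theorem coeHom_apply (Q : QuadraticForm F (Fin n → F)) (g : ↥(Cfsg.isometryGroup F ⇑Q)) :
    coeHom Q g = ((g : Matrix.GeneralLinearGroup (Fin n) F) : Matrix (Fin n) (Fin n) F) := rfl

theorem coeHom_injective (Q : QuadraticForm F (Fin n → F)) : Function.Injective (coeHom Q) := by
  intro g h hgh
  apply Subtype.ext
  apply Units.ext
  exact hgh

theorem prod_rho_coe (Q : QuadraticForm F (Fin n → F)) (l : List (Fin n → F))
    (hl : ∀ u ∈ l, Q u ≠ 0) :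
    coeHom Q (l.map (rho Q)).prod = (l.map (Cfsg.reflectionMatrix (⇑Q))).prod := by
  rw [map_list_prod, List.map_map]
  congr 1
  apply List.map_congr_left
  intro u hu
  exact rho_coe Q u (hl u hu)

theorem result {F : Type*} [Field F] [Fintype F] (h2 : (2 : F) ≠ 0) {n : ℕ} (Q : QuadraticForm F (Fin n → F)) (hQ : (QuadraticMap.polarBilin Q).Nondegenerate) : Cfsg.specialIsometryGroup F ⇑Q = Subgroup.closure {g : ↥(Cfsg.isometryGroup F ⇑Q) | ∃ u v : Fin n → F, Q u ≠ 0 ∧ Q v ≠ 0 ∧ ((g : Matrix.GeneralLinearGroup (Fin n) F) : Matrix (Fin n) (Fin n) F) = Cfsg.reflectionMatrix ⇑Q u * Cfsg.reflectionMatrix ⇑Q v} := by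
  set R : Set ↥(Cfsg.isometryGroup F ⇑Q) := {g | ∃ u v : Fin n → F, Q u ≠ 0 ∧ Q v ≠ 0 ∧
    ((g : Matrix.GeneralLinearGroup (Fin n) F) : Matrix (Fin n) (Fin n) F) =
      Cfsg.reflectionMatrix ⇑Q u * Cfsg.reflectionMatrix ⇑Q v} with hR
  have hmemSO : ∀ g : ↥(Cfsg.isometryGroup F ⇑Q), g ∈ Cfsg.specialIsometryGroup F ⇑Q ↔
      ((g : Matrix.GeneralLinearGroup (Fin n) F) : Matrix (Fin n) (Fin n) F).det = 1 := by
    intro g
    unfold Cfsg.specialIsometryGroup
    rw [MonoidHom.mem_ker]
    constructor
    · intro h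
      have := congrArg Units.val h
      simpa using this
    · intro h
      apply Units.ext
      simpa using h
  apply le_antisymm
  · intro g hg
    rw [hmemSO] at hg
    have hiso := (mem_isometryGroup_iff (⇑Q) g.1).mp g.2
    obtain ⟨l, hl, hA⟩ := isometry_eq_prod_reflectionMatrix h2 Q hQ _ hiso
    -- parity of the length
    have hdetl : ∀ l : List (Fin n → F), (∀ u ∈ l, Q u ≠ 0) →
        ((l.map (Cfsg.reflectionMatrix (⇑Q))).prod).det = (-1) ^ l.length := by
      intro l
      induction l with
      | nil => intro _; simp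
      | cons a t ih =>
        intro hl
        rw [List.map_cons, List.prod_cons, Matrix.det_mul,
          reflectionMatrix_det Q a (hl a List.mem_cons_self),
          ih (fun u hu => hl u (List.mem_cons_of_mem _ hu)), List.length_cons, pow_succ]
        ring
    have heven : Even l.length := by
      by_contra hodd
      rw [Nat.not_even_iff_odd] at hodd
      rw [hA, hdetl l hl, hodd.neg_one_pow] at hg
      apply h2
      linear_combination -hg
    -- g is the product of the rho's
    have hgprod : g = (l.map (rho Q)).prod := by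
      apply coeHom_injective Q
      rw [prod_rho_coe Q l hl, coeHom_apply, hA]
    rw [hgprod]
    obtain ⟨k, hk⟩ := heven
    clear hgprod hA hg hiso
    induction k generalizing l with
    | zero =>
      have : l = [] := List.length_eq_zero_iff.mp (by omega)
      rw [this]; simp
    | succ k ih =>
      match l, hl, hk with
      | a :: b :: t, hl, hk =>
        have ha : Q a ≠ 0 := hl a (by simp)
        have hb : Q b ≠ 0 := hl b (by simp)
        have ht : ∀ u ∈ t, Q u ≠ 0 := fun u hu => hl u (by simp [hu])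
        rw [List.map_cons, List.map_cons, List.prod_cons, List.prod_cons, ← mul_assoc]
        apply Subgroup.mul_mem
        · apply Subgroup.subset_closure
          refine ⟨a, b, ha, hb, ?_⟩
          rw [Subgroup.coe_mul, Matrix.GeneralLinearGroup.coe_mul, rho_coe Q a ha, rho_coe Q b hb]
        · apply ih t ht
          simp only [List.length_cons] at hk
          omega
      | [], _, hk => simp at hk
      | [a], _, hk => simp at hk; omega
  · rw [Subgroup.closure_le]
    rintro g ⟨u, v, hu, hv, hguv⟩
    rw [SetLike.mem_coe, hmemSO, hguv, Matrix.det_mul, reflectionMatrix_det Q u hu,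
      reflectionMatrix_det Q v hv]
    ring

end Cfsg.Agent.S0792
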