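import Cfsg.Statements.S0793
import Cfsg.Agent.Lib.Helper19.QuadMat

set_option autoImplicit false
open Cfsg

namespace Cfsg.Agent.S0793

open Cfsg.Agent.Lib.Helper19 Matrix

theorem result {F : Type*} [Field F] {n : ℕ} (Q : QuadraticForm F (Fin n → F)) (u v : Fin n → F) (hu : Q u = 0) (hv : Q v = 0) (huv : QuadraticMap.polar ⇑Q u v = 0) : (∀ c x, Q ((Cfsg.siegelMatrix ⇑Q u v c).mulVec x) = Q x) ∧ (∀ c, (Cfsg.siegelMatrix ⇑Q u v c).mulVec u = u ∧ (Cfsg.siegelMatrix ⇑Q u v c).mulVec v = v) ∧ ∀ c d, Cfsg.siegelMatrix ⇑Q u v c * Cfsg.siegelMatrix ⇑Q u v d = Cfsg.siegelMatrix ⇑Q u v (c + d) := by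
  have hvu : QuadraticMap.polar (⇑Q) v u = 0 := by rw [QuadraticMap.polar_comm]; exact huv
  have huu : QuadraticMap.polar (⇑Q) u u = 0 := by rw [QuadraticMap.polar_self, hu]; simp
  have hvv : QuadraticMap.polar (⇑Q) v v = 0 := by rw [QuadraticMap.polar_self, hv]; simp
  -- polar values of the image
  have hpu : ∀ d x, QuadraticMap.polar (⇑Q) u (Cfsg.siegelMatrix (⇑Q) u v d *ᵥ x) =
      QuadraticMap.polar (⇑Q) u x := by
    intro d x
    rw [siegelMatrix_mulVec, QuadraticMap.polar_add_right, QuadraticMap.polar_smul_right,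
      sub_eq_add_neg, ← neg_smul, QuadraticMap.polar_add_right, QuadraticMap.polar_smul_right,
      QuadraticMap.polar_smul_right, huv, huu]
    simp
  have hpv : ∀ d x, QuadraticMap.polar (⇑Q) v (Cfsg.siegelMatrix (⇑Q) u v d *ᵥ x) =
      QuadraticMap.polar (⇑Q) v x := by
    intro d x
    rw [siegelMatrix_mulVec, QuadraticMap.polar_add_right, QuadraticMap.polar_smul_right,
      sub_eq_add_neg, ← neg_smul, QuadraticMap.polar_add_right, QuadraticMap.polar_smul_right,
      QuadraticMap.polar_smul_right, hvu, hvv]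
    simp
  refine ⟨?_, ?_, ?_⟩
  · intro c x
    rw [siegelMatrix_mulVec]
    set a := QuadraticMap.polar (⇑Q) u x with ha
    set b := QuadraticMap.polar (⇑Q) v x with hb
    have h1 : ∀ y : Fin n → F, Q (x + y) = Q x + Q y + QuadraticMap.polar (⇑Q) x y := by
      intro y; simp only [QuadraticMap.polar]; ring
    have h2 : Q (a • v - b • u) = 0 := by
      have : Q (a • v + (-b) • u) = Q (a • v) + Q ((-b) • u) +
          QuadraticMap.polar (⇑Q) (a • v) ((-b) • u) := by
        simp only [QuadraticMap.polar]; ring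
      rw [sub_eq_add_neg, ← neg_smul, this, QuadraticMap.map_smul, QuadraticMap.map_smul,
        QuadraticMap.polar_smul_left, QuadraticMap.polar_smul_right, hu, hv, hvu]
      simp
    rw [h1, QuadraticMap.map_smul, h2, QuadraticMap.polar_smul_right, sub_eq_add_neg, ← neg_smul,
      QuadraticMap.polar_add_right, QuadraticMap.polar_smul_right, QuadraticMap.polar_smul_right,
      QuadraticMap.polar_comm (⇑Q) x v, QuadraticMap.polar_comm (⇑Q) x u, ← ha, ← hb]
    simp only [smul_eq_mul]
    ring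
  · intro c
    constructor
    · rw [siegelMatrix_mulVec, huu, hvu]; simp
    · rw [siegelMatrix_mulVec, huv, hvv]; simp
  · intro c d
    apply Matrix.toLin'.injective
    apply LinearMap.ext
    intro x
    rw [Matrix.toLin'_mul, LinearMap.comp_apply, Matrix.toLin'_apply, Matrix.toLin'_apply,
      Matrix.toLin'_apply]
    rw [siegelMatrix_mulVec Q u v _ c, hpu, hpv, siegelMatrix_mulVec, siegelMatrix_mulVec]
    rw [add_smul]; abel

end Cfsg.Agent.S0793
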