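import Cfsg.Statements.S0794
import Cfsg.Agent.Lib.Helper19.QuadMat
import Cfsg.Agent.S0793

set_option autoImplicit false
open Cfsg

namespace Cfsg.Agent.S0794

open Cfsg.Agent.Lib.Helper19 Matrix

variable {F : Type*} [Field F] {n : ℕ}

/-- the matrix of `x ↦ x - 2 B(x,u') u - 2 B(x,u) u'` -/
def hMat (Q : QuadraticForm F (Fin n → F)) (u u' : Fin n → F) : Matrix (Fin n) (Fin n) F :=
  1 - (2 : F) • (Matrix.vecMulVec u (Cfsg.polarVec (⇑Q) u') + Matrix.vecMulVec u' (Cfsg.polarVec (⇑Q) u))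

theorem hMat_mulVec (Q : QuadraticForm F (Fin n → F)) (u u' x : Fin n → F) :
    hMat Q u u' *ᵥ x = x - (2 : F) • (QuadraticMap.polar (⇑Q) u' x • u +
      QuadraticMap.polar (⇑Q) u x • u') := by
  unfold hMat
  rw [Matrix.sub_mulVec, Matrix.one_mulVec, Matrix.smul_mulVec, Matrix.add_mulVec,
    vecMulVec_mulVec_comm, vecMulVec_mulVec_comm, polarVec_dotProduct, polarVec_dotProduct]

section hyp

variable (Q : QuadraticForm F (Fin n → F)) (u u' v : Fin n → F)
  (hu : Q u = 0) (hu' : Q u' = 0) (huu' : QuadraticMap.polar (⇑Q) u u' = 1)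
  (hvu : QuadraticMap.polar (⇑Q) v u = 0) (hvu' : QuadraticMap.polar (⇑Q) v u' = 0)

include hu hu' huu' in
theorem hMat_isometry (x : Fin n → F) : Q (hMat Q u u' *ᵥ x) = Q x := by
  rw [hMat_mulVec]
  set a := QuadraticMap.polar (⇑Q) u' x with ha
  set b := QuadraticMap.polar (⇑Q) u x with hb
  have e1 : ∀ y z : Fin n → F, Q (y + z) = Q y + Q z + QuadraticMap.polar (⇑Q) y z := by
    intro y z; simp only [QuadraticMap.polar]; ring
  have e2 : x - (2 : F) • (a • u + b • u') = x + ((-2 * a) • u + (-2 * b) • u') := by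
    rw [smul_add, smul_smul, smul_smul, sub_eq_add_neg, neg_add, ← neg_smul, ← neg_smul]
    congr 3 <;> ring
  rw [e2, e1, e1, QuadraticMap.map_smul, QuadraticMap.map_smul, hu, hu',
    QuadraticMap.polar_smul_left, QuadraticMap.polar_smul_right, huu',
    QuadraticMap.polar_add_right, QuadraticMap.polar_smul_right, QuadraticMap.polar_smul_right,
    QuadraticMap.polar_comm (⇑Q) x u, QuadraticMap.polar_comm (⇑Q) x u', ← ha, ← hb]
  simp only [smul_eq_mul]
  ring

include hu hu' huu' in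
theorem hMat_mul_self : hMat Q u u' * hMat Q u u' = 1 := by
  apply Matrix.toLin'.injective
  apply LinearMap.ext
  intro x
  rw [Matrix.toLin'_mul, LinearMap.comp_apply, Matrix.toLin'_apply, Matrix.toLin'_apply,
    Matrix.toLin'_one, LinearMap.id_apply, hMat_mulVec Q u u' (hMat Q u u' *ᵥ x), hMat_mulVec]
  have huu : QuadraticMap.polar (⇑Q) u u = 0 := by rw [QuadraticMap.polar_self, hu]; simp
  have hu'u' : QuadraticMap.polar (⇑Q) u' u' = 0 := by rw [QuadraticMap.polar_self, hu']; simp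
  have hu'u : QuadraticMap.polar (⇑Q) u' u = 1 := by rw [QuadraticMap.polar_comm]; exact huu'
  simp only [QuadraticMap.polar_sub_right, QuadraticMap.polar_smul_right,
    QuadraticMap.polar_add_right, huu, hu'u', hu'u, huu', smul_eq_mul, mul_zero, mul_one,
    add_zero, zero_add]
  set a := QuadraticMap.polar (⇑Q) u' x
  set b := QuadraticMap.polar (⇑Q) u x
  module

include hu huu' hvu hvu' in
/-- conjugating the Siegel matrix by `hMat` negates the parameter. -/
theorem hMat_mul_siegel (c : F) :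
    hMat Q u u' * Cfsg.siegelMatrix (⇑Q) u v c = Cfsg.siegelMatrix (⇑Q) u v (-c) * hMat Q u u' := by
  apply Matrix.toLin'.injective
  apply LinearMap.ext
  intro x
  rw [Matrix.toLin'_mul, Matrix.toLin'_mul, LinearMap.comp_apply, LinearMap.comp_apply,
    Matrix.toLin'_apply, Matrix.toLin'_apply, Matrix.toLin'_apply, Matrix.toLin'_apply,
    siegelMatrix_mulVec, siegelMatrix_mulVec, hMat_mulVec, hMat_mulVec]
  have huu : QuadraticMap.polar (⇑Q) u u = 0 := by rw [QuadraticMap.polar_self, hu]; simp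
  have hu'u : QuadraticMap.polar (⇑Q) u' u = 1 := by rw [QuadraticMap.polar_comm]; exact huu'
  have huv : QuadraticMap.polar (⇑Q) u v = 0 := by rw [QuadraticMap.polar_comm]; exact hvu
  have hu'v : QuadraticMap.polar (⇑Q) u' v = 0 := by rw [QuadraticMap.polar_comm]; exact hvu'
  simp only [QuadraticMap.polar_sub_right, QuadraticMap.polar_smul_right,
    QuadraticMap.polar_add_right, huu, hu'u, huu', huv, hu'v, hvu, hvu', smul_eq_mul, mul_zero,
    mul_one, add_zero, zero_add, sub_zero, zero_sub]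
  set a := QuadraticMap.polar (⇑Q) u' x
  set b := QuadraticMap.polar (⇑Q) u x
  set d := QuadraticMap.polar (⇑Q) v x
  module

end hyp

theorem exists_partner (Q : QuadraticForm F (Fin n → F))
    (hQ : (QuadraticMap.polarBilin Q).Nondegenerate) (u v : Fin n → F) (hu : Q u = 0)
    (huv : QuadraticMap.polar (⇑Q) u v = 0) (hv0 : v ≠ 0) (hind : ∀ a : F, u ≠ a • v) :
    ∃ u', Q u' = 0 ∧ QuadraticMap.polar (⇑Q) u u' = 1 ∧ QuadraticMap.polar (⇑Q) v u' = 0 := by
  have hnd : ∀ x, (∀ y, QuadraticMap.polar (⇑Q) x y = 0) → x = 0 := by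
    intro x hx
    apply hQ.1 x
    intro y
    rw [QuadraticMap.polarBilin_apply_apply]
    exact hx y
  have hvu : QuadraticMap.polar (⇑Q) v u = 0 := by rw [QuadraticMap.polar_comm]; exact huv
  have huu : QuadraticMap.polar (⇑Q) u u = 0 := by rw [QuadraticMap.polar_self, hu]; simp
  -- y₀ with B(v, y₀) = 1
  obtain ⟨y₀, hy₀⟩ : ∃ y₀, QuadraticMap.polar (⇑Q) v y₀ = 1 := by
    by_contra h
    push Not at h
    apply hv0
    apply hnd
    intro y
    by_contra hy
    apply h ((QuadraticMap.polar (⇑Q) v y)⁻¹ • y)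
    rw [QuadraticMap.polar_smul_right, smul_eq_mul, inv_mul_cancel₀ hy]
  obtain ⟨y, hvy, huy⟩ : ∃ y, QuadraticMap.polar (⇑Q) v y = 0 ∧ QuadraticMap.polar (⇑Q) u y ≠ 0 := by
    by_contra h
    push Not at h
    apply hind (QuadraticMap.polar (⇑Q) u y₀)
    rw [← sub_eq_zero]
    apply hnd
    intro y
    have h1 := h (y - (QuadraticMap.polar (⇑Q) v y) • y₀) (by
      rw [QuadraticMap.polar_sub_right, QuadraticMap.polar_smul_right, hy₀, smul_eq_mul, mul_one,
        sub_self])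
    rw [QuadraticMap.polar_sub_right, QuadraticMap.polar_smul_right, smul_eq_mul] at h1
    rw [QuadraticMap.polar_sub_left, QuadraticMap.polar_smul_left, smul_eq_mul]
    linear_combination h1
  obtain ⟨y₁, huy₁, hvy₁⟩ : ∃ y₁, QuadraticMap.polar (⇑Q) u y₁ = 1 ∧
      QuadraticMap.polar (⇑Q) v y₁ = 0 := by
    refine ⟨(QuadraticMap.polar (⇑Q) u y)⁻¹ • y, ?_, ?_⟩
    · rw [QuadraticMap.polar_smul_right, smul_eq_mul, inv_mul_cancel₀ huy]
    · rw [QuadraticMap.polar_smul_right, hvy, smul_zero]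
  refine ⟨y₁ - Q y₁ • u, ?_, ?_, ?_⟩
  · have e1 : Q (y₁ - Q y₁ • u) = Q (y₁ + (-Q y₁) • u) := by rw [neg_smul, sub_eq_add_neg]
    have e2 : ∀ a b : Fin n → F, Q (a + b) = Q a + Q b + QuadraticMap.polar (⇑Q) a b := by
      intro a b; simp only [QuadraticMap.polar]; ring
    rw [e1, e2, QuadraticMap.map_smul, hu, QuadraticMap.polar_smul_right,
      QuadraticMap.polar_comm (⇑Q) y₁ u, huy₁]
    simp only [smul_eq_mul]
    ring
  · rw [QuadraticMap.polar_sub_right, QuadraticMap.polar_smul_right, huy₁, huu, smul_zero, sub_zero]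
  · rw [QuadraticMap.polar_sub_right, QuadraticMap.polar_smul_right, hvy₁, hvu, smul_zero, sub_zero]

theorem siegel_eq_one_of_dep (Q : QuadraticForm F (Fin n → F)) (u v : Fin n → F) (c : F)
    (h : v = 0 ∨ ∃ a : F, u = a • v) : Cfsg.siegelMatrix (⇑Q) u v c = 1 := by
  apply Matrix.toLin'.injective
  apply LinearMap.ext
  intro x
  rw [Matrix.toLin'_apply, siegelMatrix_mulVec, Matrix.toLin'_one, LinearMap.id_apply]
  rcases h with rfl | ⟨a, rfl⟩
  · simp [QuadraticMap.polar]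
  · rw [QuadraticMap.polar_smul_left, smul_eq_mul, smul_smul, mul_smul, smul_smul, mul_comm,
      sub_self, smul_zero, add_zero]

theorem siegel_zero (Q : QuadraticForm F (Fin n → F)) (u v : Fin n → F) :
    Cfsg.siegelMatrix (⇑Q) u v 0 = 1 := by
  unfold Cfsg.siegelMatrix; simp

theorem result {F : Type*} [Field F] [Fintype F] (h2 : (2 : F) ≠ 0) {n : ℕ} (hn : 5 ≤ n) (Q : QuadraticForm F (Fin n → F)) (hQ : (QuadraticMap.polarBilin Q).Nondegenerate) (u v : Fin n → F) (hu : Q u = 0) (hv : Q v = 0) (huv : QuadraticMap.polar ⇑Q u v = 0) (c : F) (g : ↥(Cfsg.isometryGroup F ⇑Q)) (hg : ((g : Matrix.GeneralLinearGroup (Fin n) F) : Matrix (Fin n) (Fin n) F) = Cfsg.siegelMatrix ⇑Q u v c) : g ∈ commutatorSet ↥(Cfsg.isometryGroup F ⇑Q) ∧ g ∈ Cfsg.Omega F ⇑Q := by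
  suffices hcomm : g ∈ commutatorSet ↥(Cfsg.isometryGroup F ⇑Q) by
    refine ⟨hcomm, ?_⟩
    unfold Cfsg.Omega
    rw [commutator_eq_closure]
    exact Subgroup.subset_closure hcomm
  by_cases hdep : v = 0 ∨ ∃ a : F, u = a • v
  · have hg1 : g = 1 := by
      apply Subtype.ext; apply Units.ext
      rw [hg, siegel_eq_one_of_dep Q u v c hdep]; rfl
    rw [hg1]
    exact ⟨1, 1, by simp⟩
  · push Not at hdep
    obtain ⟨hv0, hind⟩ := hdep
    obtain ⟨u', hu', huu', hvu'⟩ := exists_partner Q hQ u v hu huv hv0 hind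
    have hvu : QuadraticMap.polar (⇑Q) v u = 0 := by rw [QuadraticMap.polar_comm]; exact huv
    obtain ⟨hTiso, -, hTmul⟩ := Cfsg.Agent.S0793.result Q u v hu hv huv
    have hHH := hMat_mul_self Q u u' hu hu' huu'
    -- the group elements
    let hG : ↥(Cfsg.isometryGroup F ⇑Q) :=
      ⟨⟨hMat Q u u', hMat Q u u', hHH, hHH⟩,
        (mem_isometryGroup_iff (⇑Q) _).mpr (fun x => hMat_isometry Q u u' hu hu' huu' x)⟩
    have hTT : ∀ d : F, Cfsg.siegelMatrix (⇑Q) u v d * Cfsg.siegelMatrix (⇑Q) u v (-d) = 1 := by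
      intro d; rw [hTmul, add_neg_cancel, siegel_zero]
    have hTT' : ∀ d : F, Cfsg.siegelMatrix (⇑Q) u v (-d) * Cfsg.siegelMatrix (⇑Q) u v d = 1 := by
      intro d; rw [hTmul, neg_add_cancel, siegel_zero]
    set c' : F := -c / 2 with hc'
    let tG : ↥(Cfsg.isometryGroup F ⇑Q) :=
      ⟨⟨Cfsg.siegelMatrix (⇑Q) u v c', Cfsg.siegelMatrix (⇑Q) u v (-c'), hTT c', hTT' c'⟩,
        (mem_isometryGroup_iff (⇑Q) _).mpr (fun x => hTiso c' x)⟩
    refine ⟨hG, tG, ?_⟩
    apply Subtype.ext; apply Units.ext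
    rw [hg, commutatorElement_def]
    change hMat Q u u' * Cfsg.siegelMatrix (⇑Q) u v c' * hMat Q u u' *
      Cfsg.siegelMatrix (⇑Q) u v (-c') = _
    rw [hMat_mul_siegel Q u u' v hu huu' hvu hvu', Matrix.mul_assoc (Cfsg.siegelMatrix (⇑Q) u v (-c')),
      hHH, Matrix.mul_one, hTmul]
    congr 1
    rw [hc']
    field_simp
    ring

end Cfsg.Agent.S0794
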