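import Cfsg.Statements.S0796

set_option autoImplicit false
open Cfsg

namespace Cfsg.Agent.S0796

theorem result {G X : Type*} [Group G] [Finite G] [MulAction G X] [FaithfulSMul G X] (hprim : MulAction.IsPreprimitive G X) (x : X) (A : Subgroup G) (hA : A ≤ MulAction.stabilizer G x) (hAn : (A.subgroupOf (MulAction.stabilizer G x)).Normal) (hgen : Subgroup.normalClosure (A : Set G) = ⊤) (K : Subgroup G) [K.Normal] (hK : K ≠ ⊥) : ∃ (B : Subgroup A) (_ : B.Normal), Nonempty (G ⧸ K ≃* A ⧸ B) := by
  classical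
  -- K acts nontrivially
  have hNX : MulAction.fixedPoints K X ≠ Set.univ := by
    intro h
    apply hK
    rw [Subgroup.eq_bot_iff_forall]
    intro k hk
    apply FaithfulSMul.eq_of_smul_eq_smul (α := X)
    intro y
    rw [one_smul]
    have : y ∈ MulAction.fixedPoints K X := by rw [h]; trivial
    exact this ⟨k, hk⟩
  have hq : MulAction.IsQuasiPreprimitive G X := inferInstance
  have htrans : MulAction.IsPretransitive K X :=
    MulAction.IsQuasiPreprimitive.isPretransitive_of_normal hNX
  -- conjugation by stabilizer elements preserves K ⊔ A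
  have hstab : ∀ h ∈ MulAction.stabilizer G x, ∀ n ∈ K ⊔ A, h * n * h⁻¹ ∈ K ⊔ A := by
    intro h hh
    have : K ⊔ A ≤ (K ⊔ A).comap (MulAut.conj h).toMonoidHom := by
      apply sup_le
      · intro k hk
        rw [Subgroup.mem_comap]
        exact Subgroup.mem_sup_left (‹K.Normal›.conj_mem k hk h)
      · intro a ha
        rw [Subgroup.mem_comap]
        apply Subgroup.mem_sup_right
        have := hAn.conj_mem ⟨a, hA ha⟩ (by simpa [Subgroup.mem_subgroupOf] using ha) ⟨h, hh⟩
        simpa [Subgroup.mem_subgroupOf] using this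
    intro n hn
    exact this hn
  have hnormal : (K ⊔ A).Normal := by
    constructor
    intro n hn g
    obtain ⟨k, hk⟩ := htrans.exists_smul_eq (g • x) x
    -- k • g • x = x, so k * g ∈ stabilizer
    have hkg : (k : G) * g ∈ MulAction.stabilizer G x := by
      rw [MulAction.mem_stabilizer_iff, mul_smul]
      exact hk
    have h1 := hstab _ hkg n hn
    have hk' : (k : G) ∈ K ⊔ A := Subgroup.mem_sup_left k.2
    have h2 := (K ⊔ A).mul_mem ((K ⊔ A).mul_mem ((K ⊔ A).inv_mem hk') h1) hk'
    convert h2 using 1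
    group
  have hsup : K ⊔ A = ⊤ := by
    rw [eq_top_iff, ← hgen]
    exact Subgroup.normalClosure_le_normal (N := K ⊔ A) (SetLike.coe_subset_coe.mpr le_sup_right)
  -- the composite A → G → G ⧸ K is surjective
  let φ : A →* G ⧸ K := (QuotientGroup.mk' K).comp A.subtype
  have hφ : Function.Surjective φ := by
    intro y
    obtain ⟨g, rfl⟩ := QuotientGroup.mk_surjective y
    have hg : g ∈ K ⊔ A := by rw [hsup]; trivial
    rw [Subgroup.mem_sup_of_normal_left] at hg
    obtain ⟨k, hk, a, ha, rfl⟩ := hg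
    refine ⟨⟨a, ha⟩, ?_⟩
    change (QuotientGroup.mk a : G ⧸ K) = QuotientGroup.mk (k * a)
    rw [QuotientGroup.eq]
    have : a⁻¹ * (k * a) = a⁻¹ * k * a⁻¹⁻¹ := by group
    rw [this]
    exact ‹K.Normal›.conj_mem k hk a⁻¹
  exact ⟨φ.ker, inferInstance, ⟨(QuotientGroup.quotientKerEquivOfSurjective φ hφ).symm⟩⟩

end Cfsg.Agent.S0796
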