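import Cfsg.Statements.S0800

set_option autoImplicit false
open Cfsg

namespace Cfsg.Agent.S0800

open Polynomial

/-- If `(G - a)(G - b) = 0` with `a ≠ b` and `a^e = b^e = 1`, then `G^e = 1`. -/
theorem pow_eq_one_of_split {K R : Type*} [Field K] [Ring R] [Algebra K R] (G : R) (a b : K)
    (hab : a ≠ b) (e : ℕ) (ha : a ^ e = 1) (hb : b ^ e = 1)
    (hG : (G - algebraMap K R a) * (G - algebraMap K R b) = 0) : G ^ e = 1 := by
  have h1 : (X - C a) ∣ (X ^ e - 1 : K[X]) := by
    rw [Polynomial.dvd_iff_isRoot]; simp [ha]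
  have h2 : (X - C b) ∣ (X ^ e - 1 : K[X]) := by
    rw [Polynomial.dvd_iff_isRoot]; simp [hb]
  have hcop : IsCoprime (X - C a) (X - C b : K[X]) :=
    Polynomial.isCoprime_X_sub_C_of_isUnit_sub (sub_ne_zero.mpr hab).isUnit
  obtain ⟨r, hr⟩ := hcop.mul_dvd h1 h2
  have h3 := congrArg (Polynomial.aeval G) hr
  simp only [map_sub, map_mul, Polynomial.aeval_X_pow, map_one, Polynomial.aeval_X,
    Polynomial.aeval_C] at h3
  rw [hG, zero_mul] at h3
  exact sub_eq_zero.mp h3

/-- If `(G - a)^2 = 0` with `a^2 = 1` in characteristic `p`, then `G^(2p) = 1`. -/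
theorem pow_eq_one_of_double {K R : Type*} [Field K] [Ring R] [Algebra K R] (p : ℕ)
    [Fact p.Prime] [CharP R p] (G : R) (a : K) (ha : a ^ 2 = 1)
    (hG : (G - algebraMap K R a) * (G - algebraMap K R a) = 0) : G ^ (2 * p) = 1 := by
  set N := G - algebraMap K R a with hN
  have hGN : G = algebraMap K R a + N := by rw [hN]; abel
  have hcomm : Commute (algebraMap K R a) N := Algebra.commutes a N
  have hp2 : 2 ≤ p := (Fact.out : p.Prime).two_le
  have hNp : N ^ p = 0 := by
    have : p = 2 + (p - 2) := by omega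
    rw [this, pow_add, pow_two, hG, zero_mul]
  have h1 : G ^ p = (algebraMap K R a) ^ p := by
    rw [hGN, add_pow_char_of_commute p hcomm, hNp, add_zero]
  rw [mul_comm, pow_mul, h1, ← pow_mul, mul_comm, pow_mul, ← map_pow, ha, map_one, one_pow]

theorem result {F : Type*} [Field F] [Fintype F] {q : ℕ} (hF : Fintype.card F = q) (p : ℕ) [Fact p.Prime] [CharP F p] (g : Matrix.SpecialLinearGroup (Fin 2) F) (hg : Nat.Coprime (orderOf g) p) : orderOf g ∣ q - 1 ∨ orderOf g ∣ q + 1 := by
  classical
  let K := AlgebraicClosure F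
  let φ : Matrix (Fin 2) (Fin 2) F →+* Matrix (Fin 2) (Fin 2) K := (algebraMap F K).mapMatrix
  have hφinj : Function.Injective φ := Matrix.map_injective (algebraMap F K).injective
  set M : Matrix (Fin 2) (Fin 2) F := (g : Matrix (Fin 2) (Fin 2) F) with hM
  set t : F := M 0 0 + M 1 1 with htdef
  have hdet : M 0 0 * M 1 1 - M 0 1 * M 1 0 = 1 := by
    have := g.det_coe; rwa [Matrix.det_fin_two] at this
  have hCH : M * M - t • M + 1 = 0 := by
    ext i j
    fin_cases i <;> fin_cases j <;>
      simp [Matrix.mul_apply, Fin.sum_univ_two, htdef] <;>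
      first | ring1 | linear_combination hdet | linear_combination (-1 : F) * hdet
  -- a root of the characteristic polynomial in the algebraic closure
  set tK : K := algebraMap F K t with htK
  obtain ⟨lam, hlam⟩ : ∃ lam : K, lam ^ 2 - tK * lam + 1 = 0 := by
    have hdeg : (X ^ 2 - C tK * X + 1 : K[X]).degree ≠ 0 := by
      have : (X ^ 2 - C tK * X + 1 : K[X]) = X ^ 2 + (- C tK * X + 1) := by ring
      rw [this, Polynomial.degree_add_eq_left_of_degree_lt]
      · simp
      · rw [Polynomial.degree_X_pow]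
        refine lt_of_le_of_lt (Polynomial.degree_add_le _ _) ?_
        refine max_lt ?_ ?_
        · rw [← map_neg]
          exact lt_of_le_of_lt (Polynomial.degree_C_mul_X_le _) (by norm_num)
        · simp
    obtain ⟨x, hx⟩ := IsAlgClosed.exists_root _ hdeg
    refine ⟨x, ?_⟩
    simpa [Polynomial.IsRoot] using hx
  have hlam0 : lam ≠ 0 := by
    rintro rfl
    simp at hlam
  have ht : tK = lam + lam⁻¹ := by
    have h1 : lam * lam⁻¹ = 1 := mul_inv_cancel₀ hlam0
    have h2 : lam * (tK - (lam + lam⁻¹)) = 0 := by linear_combination (-1 : K) * hlam - h1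
    rcases mul_eq_zero.mp h2 with h | h
    · exact absurd h hlam0
    · exact sub_eq_zero.mp h
  -- q is a power of p
  obtain ⟨k, -, hk⟩ := FiniteField.card F p
  rw [hF] at hk
  have hq1 : 1 ≤ q := by rw [hk]; exact Nat.one_le_pow _ _ (Fact.out : p.Prime).pos
  -- the frobenius image of lam is again a root
  have hfrob : (lam ^ q) ^ 2 - tK * lam ^ q + 1 = 0 := by
    have h1 : tK ^ q = tK := by
      rw [htK, ← map_pow, ← hF, FiniteField.pow_card]
    have h2 := congrArg (iterateFrobenius K p k) hlam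
    simp only [map_add, map_sub, map_mul, map_pow, map_one, map_zero, iterateFrobenius_def,
      ← hk, h1] at h2
    exact h2
  have hcase : lam ^ q = lam ∨ lam ^ q = lam⁻¹ := by
    have h1 : lam * lam⁻¹ = 1 := mul_inv_cancel₀ hlam0
    have : (lam ^ q - lam) * (lam ^ q - lam⁻¹) = 0 := by
      rw [ht] at hfrob
      linear_combination hfrob + h1
    rcases mul_eq_zero.mp this with h | h
    · exact Or.inl (sub_eq_zero.mp h)
    · exact Or.inr (sub_eq_zero.mp h)
  obtain ⟨e, he, hlame⟩ : ∃ e, (e = q - 1 ∨ e = q + 1) ∧ lam ^ e = 1 := by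
    rcases hcase with h | h
    · refine ⟨q - 1, Or.inl rfl, ?_⟩
      have h2 : lam ^ (q - 1) * lam = lam := by
        rw [← pow_succ, Nat.sub_add_cancel hq1, h]
      exact mul_right_cancel₀ hlam0 (by rw [h2, one_mul])
    · refine ⟨q + 1, Or.inr rfl, ?_⟩
      rw [pow_succ, h, inv_mul_cancel₀ hlam0]
  -- the matrix over K
  set G : Matrix (Fin 2) (Fin 2) K := φ M with hG
  have hCH' : G * G - tK • G + 1 = 0 := by
    have h1 := congrArg φ hCH
    rw [map_add, map_sub, map_mul, map_one, map_zero] at h1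
    have h2 : φ (t • M) = tK • G := by
      simp only [φ, hG, RingHom.mapMatrix_apply]
      rw [Matrix.map_smul' _ _ _ (map_mul (algebraMap F K))]
    rw [h2] at h1
    exact h1
  have hGsplit : (G - algebraMap K _ lam) * (G - algebraMap K _ lam⁻¹) = 0 := by
    have h1 : G * algebraMap K (Matrix (Fin 2) (Fin 2) K) lam⁻¹ =
        algebraMap K (Matrix (Fin 2) (Fin 2) K) lam⁻¹ * G := (Algebra.commutes _ _).symm
    have h2 : algebraMap K (Matrix (Fin 2) (Fin 2) K) lam *
        algebraMap K (Matrix (Fin 2) (Fin 2) K) lam⁻¹ = 1 := by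
      rw [← map_mul, mul_inv_cancel₀ hlam0, map_one]
    have h3 : tK • G = algebraMap K (Matrix (Fin 2) (Fin 2) K) lam * G +
        algebraMap K (Matrix (Fin 2) (Fin 2) K) lam⁻¹ * G := by
      rw [Algebra.smul_def, ht, map_add, add_mul]
    rw [sub_mul, mul_sub, mul_sub, h1, h2]
    rw [h3] at hCH'
    rw [← hCH']
    abel
  -- conclude
  have key : ∀ n : ℕ, G ^ n = 1 → orderOf g ∣ n := by
    intro n hn
    have h1 : M ^ n = 1 := hφinj (by rw [map_pow, map_one]; exact hn)
    apply orderOf_dvd_of_pow_eq_one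
    apply Subtype.ext
    rw [Matrix.SpecialLinearGroup.coe_pow]
    exact h1
  by_cases hl : lam ^ 2 = 1
  · have hinv : lam⁻¹ = lam := by
      apply inv_eq_of_mul_eq_one_left
      rw [← pow_two, hl]
    rw [hinv] at hGsplit
    have hdvd : orderOf g ∣ 2 * p := key _ (pow_eq_one_of_double p G lam hl hGsplit)
    have hdvd2 : orderOf g ∣ 2 := hg.dvd_of_dvd_mul_right hdvd
    left
    by_cases hp2 : p = 2
    · subst hp2
      have : orderOf g = 1 := Nat.Coprime.eq_one_of_dvd hg hdvd2
      rw [this]; exact one_dvd _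
    · have hpodd : Odd p := (Fact.out : p.Prime).odd_of_ne_two hp2
      have hqodd : Odd q := by rw [hk]; exact hpodd.pow
      have : 2 ∣ q - 1 := by
        obtain ⟨r, hr⟩ := hqodd
        exact ⟨r, by omega⟩
      exact hdvd2.trans this
  · have hne : lam ≠ lam⁻¹ := by
      intro h
      apply hl
      rw [pow_two]
      nth_rewrite 2 [h]
      exact mul_inv_cancel₀ hlam0
    have hGe := pow_eq_one_of_split G lam lam⁻¹ hne e hlame
      (by rw [inv_pow, hlame, inv_one]) hGsplit
    have := key e hGe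
    rcases he with rfl | rfl
    · exact Or.inl this
    · exact Or.inr this

end Cfsg.Agent.S0800
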