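import Cfsg.Statements.S0818
import Cfsg.Agent.Lib.Helper19.MinusAutCard

set_option autoImplicit false
open Cfsg

namespace Cfsg.Agent.S0818

/-- |Aut(PΩ⁻_2m(q))| for q = p^f, m ≥ 4 (form quadFormMinus (m−1) with anisotropic binary part): |PΩ⁻_2m(q)| times f, times 2 if p = 2, and times 4 or 8 if p is odd according as m(q−1)/2 is even or odd. -/
theorem result {F : Type*} [Field F] [Fintype F] (p f : ℕ) [Fact p.Prime] (hf : 1 ≤ f) (hF : Fintype.card F = p ^ f) (m : ℕ) (hm : 4 ≤ m) (a b : F) (hab : ∀ z₁ z₂ : F, z₁ ^ 2 + a * z₁ * z₂ + b * z₂ ^ 2 = 0 → z₁ = 0 ∧ z₂ = 0) : Nat.card (MulAut (Cfsg.POmega F (Cfsg.quadFormMinus (m - 1) F a b))) = (if p = 2 then 2 else (if Even (m * (p ^ f - 1) / 2) then 4 else 8)) * f * Nat.card (Cfsg.POmega F (Cfsg.quadFormMinus (m - 1) F a b)) := by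
  have h := Cfsg.Agent.Lib.Helper19.MinusAutCard.card_mulAut_minus (n := m - 1) (by omega) a b hab p f hF
  rw [h]
  congr 2
  by_cases hp : p = 2
  · rw [if_pos hp, if_pos hp]
  · rw [if_neg hp, if_neg hp]
    have hodd : Odd (p ^ f) := Odd.pow ((Fact.out : p.Prime).odd_of_ne_two hp)
    obtain ⟨k, hk⟩ := hodd
    have e1 : m * (p ^ f - 1) / 2 = m * k := by
      rw [hk, Nat.add_sub_cancel, show m * (2 * k) = 2 * (m * k) by ring,
        Nat.mul_div_cancel_left _ (by norm_num : 0 < 2)]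
    rw [e1, hF, hk]
    have hm1 : Even (m - 1) ↔ ¬ Even m := by
      rw [Nat.even_sub (by omega : 1 ≤ m)]
      simp
    have hk4 : (2 * k + 1) % 4 = 3 ↔ ¬ Even k := by
      rw [Nat.even_iff]
      omega
    by_cases h1 : Even m
    · have h5 : Even (m * k) := h1.mul_right k
      have h6 : ¬ (Even (m - 1) ∧ (2 * k + 1) % 4 = 3) := fun h7 => hm1.1 h7.1 h1
      rw [if_neg h6, if_pos h5]
    · by_cases h3 : Even k
      · have h5 : Even (m * k) := h3.mul_left m
        have h6 : ¬ (Even (m - 1) ∧ (2 * k + 1) % 4 = 3) := fun h7 => hk4.1 h7.2 h3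
        rw [if_neg h6, if_pos h5]
      · have h5 : ¬ Even (m * k) := by
          rw [Nat.even_mul]
          tauto
        have h6 : Even (m - 1) ∧ (2 * k + 1) % 4 = 3 := ⟨hm1.2 h1, hk4.2 h3⟩
        rw [if_pos h6, if_neg h5]

end Cfsg.Agent.S0818
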