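import Cfsg.Statements.S0819
import Cfsg.Agent.Lib.Helper19.F4Certs

set_option autoImplicit false
set_option linter.unusedTactic false
set_option linter.unreachableTactic false
open Cfsg

namespace Cfsg.Agent.S0819

open Polynomial Cfsg.Agent.Lib.Helper19.F4Certs

variable {F : Type*} [Field F]

theorem aeval_eq_zero_of_cert (M : Matrix (Fin 3) (Fin 3) F) (P U V χ' : F[X])
    (hid : P = U * χ' + V * (X ^ 45 - 1)) (hχ' : aeval M χ' = 0) (h45 : M ^ 45 = 1) :
    aeval M P = 0 := by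
  rw [hid, map_add, map_mul, map_mul, hχ', map_sub, map_pow, aeval_X, h45, map_one, sub_self,
    mul_zero, mul_zero, add_zero]

theorem two_eq_zero [Fintype F] (hF : Fintype.card F = 4) : (2 : F) = 0 := by
  have h := Nat.cast_card_eq_zero F
  rw [hF] at h
  have h4 : (2 : F) * 2 = 0 := by
    have : ((4 : ℕ) : F) = 2 * 2 := by norm_num
    rw [← this]; exact h
  exact mul_self_eq_zero.mp h4

theorem exists_omega [Fintype F] (hF : Fintype.card F = 4) :
    ∃ w : F, w ^ 2 + w + 1 = 0 ∧ ∀ x : F, x = 0 ∨ x = 1 ∨ x = w ∨ x = w + 1 := by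
  classical
  have h2 := two_eq_zero hF
  have hneg : ∀ x : F, -x = x := by
    intro x
    have : x + x = 0 := by rw [← two_mul, h2, zero_mul]
    exact neg_eq_of_add_eq_zero_left this
  obtain ⟨w, -, hw⟩ : ∃ e ∈ (Finset.univ : Finset F), e ∉ ({0, 1} : Finset F) := by
    apply Finset.exists_mem_notMem_of_card_lt_card
    calc ({0, 1} : Finset F).card ≤ 2 := Finset.card_le_two
      _ < 4 := by norm_num
      _ = (Finset.univ : Finset F).card := by rw [Finset.card_univ, hF]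
  simp only [Finset.mem_insert, Finset.mem_singleton, not_or] at hw
  obtain ⟨hw0, hw1⟩ := hw
  have hw3 : w ^ 3 = 1 := by
    have := FiniteField.pow_card_sub_one_eq_one w hw0
    rwa [hF] at this
  have hw2 : w ^ 2 + w + 1 = 0 := by
    have h : (w - 1) * (w ^ 2 + w + 1) = 0 := by linear_combination hw3
    rcases mul_eq_zero.mp h with h | h
    · exact absurd (sub_eq_zero.mp h) hw1
    · exact h
  refine ⟨w, hw2, ?_⟩
  have hinj : Function.Injective (![0, 1, w, w + 1] : Fin 4 → F) := by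
    intro i j hij
    have hw11 : w + 1 ≠ 0 := by
      intro h; apply hw1
      have : w = -1 := eq_neg_of_add_eq_zero_left h
      rw [this, hneg]
    fin_cases i <;> fin_cases j <;> simp at hij <;> first | rfl | (exfalso; first
      | exact hw0 hij | exact hw0 hij.symm | exact hw1 hij | exact hw1 hij.symm
      | exact hw11 hij | exact hw11 hij.symm | exact one_ne_zero hij | exact one_ne_zero hij.symm)
  have hbij : Function.Bijective (![0, 1, w, w + 1] : Fin 4 → F) := by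
    rw [Fintype.bijective_iff_injective_and_card]
    exact ⟨hinj, by rw [Fintype.card_fin, hF]⟩
  intro x
  obtain ⟨i, rfl⟩ := hbij.2 x
  fin_cases i <;> simp

theorem charpoly_form (M : Matrix (Fin 3) (Fin 3) F) (h2 : (2 : F) = 0) (hdet : M.det = 1) :
    ∃ a b : F, M.charpoly = X ^ 3 + C a * X ^ 2 + C b * X + 1 := by
  refine ⟨M.charpoly.coeff 2, M.charpoly.coeff 1, ?_⟩
  have hmonic := Matrix.charpoly_monic M
  have hdeg : M.charpoly.natDegree = 3 := by
    rw [Matrix.charpoly_natDegree_eq_dim, Fintype.card_fin]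
  have h0 : M.charpoly.coeff 0 = 1 := by
    have := Matrix.det_eq_sign_charpoly_coeff M
    rw [hdet, Fintype.card_fin] at this
    have hneg : (-1 : F) = 1 := by
      have : (1 : F) + 1 = 0 := by rw [one_add_one_eq_two, h2]
      exact neg_eq_of_add_eq_zero_left this
    rw [hneg, one_pow, one_mul] at this
    exact this.symm
  have h3 : M.charpoly.coeff 3 = 1 := by
    have := hmonic.coeff_natDegree
    rwa [hdeg] at this
  conv_lhs => rw [M.charpoly.as_sum_range_C_mul_X_pow, hdeg]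
  simp only [Finset.sum_range_succ, Finset.sum_range_zero, zero_add, h0, h3, pow_zero, pow_one,
    map_one, mul_one, one_mul]
  ring

theorem main_alg (w : F) (hw : w ^ 2 + w + 1 = 0) (h2 : (2 : F) = 0)
    (hall : ∀ x : F, x = 0 ∨ x = 1 ∨ x = w ∨ x = w + 1)
    (M : Matrix (Fin 3) (Fin 3) F) (a b : F)
    (hχ : M.charpoly = X ^ 3 + C a * X ^ 2 + C b * X + 1) (h45 : M ^ 45 = 1) :
    ∃ (e : ℕ) (c : F), (e = 3 ∨ e = 5) ∧ M ^ e = algebraMap F (Matrix (Fin 3) (Fin 3) F) c := by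
  have hw' : (C w : F[X]) ^ 2 + C w + 1 = 0 := by
    rw [← map_pow, ← map_add, ← map_one (C : F →+* F[X]), ← map_add, hw, map_zero]
  have h2' : (2 : F[X]) = 0 := by
    have : (2 : F[X]) = C (2 : F) := (map_ofNat C 2).symm
    rw [this, h2, map_zero]
  rcases hall a with ha | ha | ha | ha <;> rcases hall b with hb | hb | hb | hb
  · -- a = 0, b = 0
    rw [ha, hb] at hχ
    refine ⟨3, 1, by norm_num, ?_⟩
    have hχ' : aeval M (X ^ 3 + 0 * X ^ 2 + 0 * X + 1 : F[X]) = 0 := by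
      have : (X ^ 3 + 0 * X ^ 2 + 0 * X + 1 : F[X]) = M.charpoly := by rw [hχ]; try simp
      rw [this]; exact Matrix.aeval_self_charpoly M
    have h0 := aeval_eq_zero_of_cert M _ _ _ _ (cert_0_0 (X : F[X]) (C w) hw' h2') hχ' h45
    simpa [sub_eq_zero] using h0
  · -- a = 0, b = 1
    rw [ha, hb] at hχ
    refine ⟨3, 1, by norm_num, ?_⟩
    have hχ' : aeval M (X ^ 3 + 0 * X ^ 2 + 1 * X + 1 : F[X]) = 0 := by
      have : (X ^ 3 + 0 * X ^ 2 + 1 * X + 1 : F[X]) = M.charpoly := by rw [hχ]; try simp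
      rw [this]; exact Matrix.aeval_self_charpoly M
    have h0 := aeval_eq_zero_of_cert M _ _ _ _ (cert_0_1 (X : F[X]) (C w) hw' h2') hχ' h45
    simpa [sub_eq_zero] using h0
  · -- a = 0, b = w
    rw [ha, hb] at hχ
    refine ⟨3, 1, by norm_num, ?_⟩
    have hχ' : aeval M (X ^ 3 + 0 * X ^ 2 + C w * X + 1 : F[X]) = 0 := by
      have : (X ^ 3 + 0 * X ^ 2 + C w * X + 1 : F[X]) = M.charpoly := by rw [hχ]; try simp
      rw [this]; exact Matrix.aeval_self_charpoly M
    have h0 := aeval_eq_zero_of_cert M _ _ _ _ (cert_0_w (X : F[X]) (C w) hw' h2') hχ' h45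
    simpa [sub_eq_zero] using h0
  · -- a = 0, b = (w + 1)
    rw [ha, hb] at hχ
    refine ⟨3, 1, by norm_num, ?_⟩
    have hχ' : aeval M (X ^ 3 + 0 * X ^ 2 + (C w + 1) * X + 1 : F[X]) = 0 := by
      have : (X ^ 3 + 0 * X ^ 2 + (C w + 1) * X + 1 : F[X]) = M.charpoly := by rw [hχ]; try simp
      rw [this]; exact Matrix.aeval_self_charpoly M
    have h0 := aeval_eq_zero_of_cert M _ _ _ _ (cert_0_w1 (X : F[X]) (C w) hw' h2') hχ' h45
    simpa [sub_eq_zero] using h0
  · -- a = 1, b = 0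
    rw [ha, hb] at hχ
    refine ⟨3, 1, by norm_num, ?_⟩
    have hχ' : aeval M (X ^ 3 + 1 * X ^ 2 + 0 * X + 1 : F[X]) = 0 := by
      have : (X ^ 3 + 1 * X ^ 2 + 0 * X + 1 : F[X]) = M.charpoly := by rw [hχ]; try simp
      rw [this]; exact Matrix.aeval_self_charpoly M
    have h0 := aeval_eq_zero_of_cert M _ _ _ _ (cert_1_0 (X : F[X]) (C w) hw' h2') hχ' h45
    simpa [sub_eq_zero] using h0
  · -- a = 1, b = 1
    rw [ha, hb] at hχ
    refine ⟨3, 1, by norm_num, ?_⟩
    have hχ' : aeval M (X ^ 3 + 1 * X ^ 2 + 1 * X + 1 : F[X]) = 0 := by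
      have : (X ^ 3 + 1 * X ^ 2 + 1 * X + 1 : F[X]) = M.charpoly := by rw [hχ]; try simp
      rw [this]; exact Matrix.aeval_self_charpoly M
    have h0 := aeval_eq_zero_of_cert M _ _ _ _ (cert_1_1 (X : F[X]) (C w) hw' h2') hχ' h45
    simpa [sub_eq_zero] using h0
  · -- a = 1, b = w
    rw [ha, hb] at hχ
    refine ⟨5, (w + 1), by norm_num, ?_⟩
    have hχ' : aeval M (X ^ 3 + 1 * X ^ 2 + C w * X + 1 : F[X]) = 0 := by
      have : (X ^ 3 + 1 * X ^ 2 + C w * X + 1 : F[X]) = M.charpoly := by rw [hχ]; try simp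
      rw [this]; exact Matrix.aeval_self_charpoly M
    have h0 := aeval_eq_zero_of_cert M _ _ _ _ (cert_1_w (X : F[X]) (C w) hw' h2') hχ' h45
    simpa [sub_eq_zero] using h0
  · -- a = 1, b = (w + 1)
    rw [ha, hb] at hχ
    refine ⟨5, w, by norm_num, ?_⟩
    have hχ' : aeval M (X ^ 3 + 1 * X ^ 2 + (C w + 1) * X + 1 : F[X]) = 0 := by
      have : (X ^ 3 + 1 * X ^ 2 + (C w + 1) * X + 1 : F[X]) = M.charpoly := by rw [hχ]; try simp
      rw [this]; exact Matrix.aeval_self_charpoly M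
    have h0 := aeval_eq_zero_of_cert M _ _ _ _ (cert_1_w1 (X : F[X]) (C w) hw' h2') hχ' h45
    simpa [sub_eq_zero] using h0
  · -- a = w, b = 0
    rw [ha, hb] at hχ
    refine ⟨3, 1, by norm_num, ?_⟩
    have hχ' : aeval M (X ^ 3 + C w * X ^ 2 + 0 * X + 1 : F[X]) = 0 := by
      have : (X ^ 3 + C w * X ^ 2 + 0 * X + 1 : F[X]) = M.charpoly := by rw [hχ]; try simp
      rw [this]; exact Matrix.aeval_self_charpoly M
    have h0 := aeval_eq_zero_of_cert M _ _ _ _ (cert_w_0 (X : F[X]) (C w) hw' h2') hχ' h45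
    simpa [sub_eq_zero] using h0
  · -- a = w, b = 1
    rw [ha, hb] at hχ
    refine ⟨5, w, by norm_num, ?_⟩
    have hχ' : aeval M (X ^ 3 + C w * X ^ 2 + 1 * X + 1 : F[X]) = 0 := by
      have : (X ^ 3 + C w * X ^ 2 + 1 * X + 1 : F[X]) = M.charpoly := by rw [hχ]; try simp
      rw [this]; exact Matrix.aeval_self_charpoly M
    have h0 := aeval_eq_zero_of_cert M _ _ _ _ (cert_w_1 (X : F[X]) (C w) hw' h2') hχ' h45
    simpa [sub_eq_zero] using h0
  · -- a = w, b = w
    rw [ha, hb] at hχ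
    refine ⟨5, 1, by norm_num, ?_⟩
    have hχ' : aeval M (X ^ 3 + C w * X ^ 2 + C w * X + 1 : F[X]) = 0 := by
      have : (X ^ 3 + C w * X ^ 2 + C w * X + 1 : F[X]) = M.charpoly := by rw [hχ]; try simp
      rw [this]; exact Matrix.aeval_self_charpoly M
    have h0 := aeval_eq_zero_of_cert M _ _ _ _ (cert_w_w (X : F[X]) (C w) hw' h2') hχ' h45
    simpa [sub_eq_zero] using h0
  · -- a = w, b = (w + 1)
    rw [ha, hb] at hχ
    refine ⟨3, 1, by norm_num, ?_⟩
    have hχ' : aeval M (X ^ 3 + C w * X ^ 2 + (C w + 1) * X + 1 : F[X]) = 0 := by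
      have : (X ^ 3 + C w * X ^ 2 + (C w + 1) * X + 1 : F[X]) = M.charpoly := by rw [hχ]; try simp
      rw [this]; exact Matrix.aeval_self_charpoly M
    have h0 := aeval_eq_zero_of_cert M _ _ _ _ (cert_w_w1 (X : F[X]) (C w) hw' h2') hχ' h45
    simpa [sub_eq_zero] using h0
  · -- a = (w + 1), b = 0
    rw [ha, hb] at hχ
    refine ⟨3, 1, by norm_num, ?_⟩
    have hχ' : aeval M (X ^ 3 + (C w + 1) * X ^ 2 + 0 * X + 1 : F[X]) = 0 := by
      have : (X ^ 3 + (C w + 1) * X ^ 2 + 0 * X + 1 : F[X]) = M.charpoly := by rw [hχ]; try simp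
      rw [this]; exact Matrix.aeval_self_charpoly M
    have h0 := aeval_eq_zero_of_cert M _ _ _ _ (cert_w1_0 (X : F[X]) (C w) hw' h2') hχ' h45
    simpa [sub_eq_zero] using h0
  · -- a = (w + 1), b = 1
    rw [ha, hb] at hχ
    refine ⟨5, (w + 1), by norm_num, ?_⟩
    have hχ' : aeval M (X ^ 3 + (C w + 1) * X ^ 2 + 1 * X + 1 : F[X]) = 0 := by
      have : (X ^ 3 + (C w + 1) * X ^ 2 + 1 * X + 1 : F[X]) = M.charpoly := by rw [hχ]; try simp
      rw [this]; exact Matrix.aeval_self_charpoly M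
    have h0 := aeval_eq_zero_of_cert M _ _ _ _ (cert_w1_1 (X : F[X]) (C w) hw' h2') hχ' h45
    simpa [sub_eq_zero] using h0
  · -- a = (w + 1), b = w
    rw [ha, hb] at hχ
    refine ⟨3, 1, by norm_num, ?_⟩
    have hχ' : aeval M (X ^ 3 + (C w + 1) * X ^ 2 + C w * X + 1 : F[X]) = 0 := by
      have : (X ^ 3 + (C w + 1) * X ^ 2 + C w * X + 1 : F[X]) = M.charpoly := by rw [hχ]; try simp
      rw [this]; exact Matrix.aeval_self_charpoly M
    have h0 := aeval_eq_zero_of_cert M _ _ _ _ (cert_w1_w (X : F[X]) (C w) hw' h2') hχ' h45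
    simpa [sub_eq_zero] using h0
  · -- a = (w + 1), b = (w + 1)
    rw [ha, hb] at hχ
    refine ⟨5, 1, by norm_num, ?_⟩
    have hχ' : aeval M (X ^ 3 + (C w + 1) * X ^ 2 + (C w + 1) * X + 1 : F[X]) = 0 := by
      have : (X ^ 3 + (C w + 1) * X ^ 2 + (C w + 1) * X + 1 : F[X]) = M.charpoly := by rw [hχ]; try simp
      rw [this]; exact Matrix.aeval_self_charpoly M
    have h0 := aeval_eq_zero_of_cert M _ _ _ _ (cert_w1_w1 (X : F[X]) (C w) hw' h2') hχ' h45
    simpa [sub_eq_zero] using h0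

theorem result {F : Type*} [Field F] [Fintype F] (hF : Fintype.card F = 4) (g : Matrix.ProjectiveSpecialLinearGroup (Fin 3) F) : orderOf g ≠ 15 := by
  intro hord
  have h2 := two_eq_zero hF
  obtain ⟨w, hw, hall⟩ := exists_omega hF
  obtain ⟨g', rfl⟩ := QuotientGroup.mk_surjective g
  have h15 : (QuotientGroup.mk g' : Matrix.ProjectiveSpecialLinearGroup (Fin 3) F) ^ 15 = 1 := by
    rw [← hord]; exact pow_orderOf_eq_one _
  rw [← QuotientGroup.mk_pow, QuotientGroup.eq_one_iff,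
    Matrix.SpecialLinearGroup.mem_center_iff] at h15
  obtain ⟨r, hr, hscal⟩ := h15
  rw [Fintype.card_fin] at hr
  set M : Matrix (Fin 3) (Fin 3) F := (g' : Matrix (Fin 3) (Fin 3) F) with hM
  have hM15 : M ^ 15 = Matrix.scalar (Fin 3) r := by
    rw [hscal, Matrix.SpecialLinearGroup.coe_pow]
  have h45 : M ^ 45 = 1 := by
    have : M ^ 45 = (M ^ 15) ^ 3 := by rw [← pow_mul]
    rw [this, hM15, ← map_pow, hr, map_one]
  obtain ⟨a, b, hχ⟩ := charpoly_form M h2 g'.det_coe
  obtain ⟨e, c, he, hMe⟩ := main_alg w hw h2 hall M a b hχ h45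
  have hcen : g' ^ e ∈ Subgroup.center (Matrix.SpecialLinearGroup (Fin 3) F) := by
    rw [Subgroup.mem_center_iff]
    intro h
    apply Subtype.ext
    simp only [Matrix.SpecialLinearGroup.coe_mul, Matrix.SpecialLinearGroup.coe_pow]
    rw [← hM, hMe]
    exact (Algebra.commutes c (h : Matrix (Fin 3) (Fin 3) F)).symm
  have hpow : (QuotientGroup.mk g' : Matrix.ProjectiveSpecialLinearGroup (Fin 3) F) ^ e = 1 := by
    rw [← QuotientGroup.mk_pow, QuotientGroup.eq_one_iff]; exact hcen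
  have hdvd := orderOf_dvd_of_pow_eq_one hpow
  rw [hord] at hdvd
  rcases he with rfl | rfl <;> omega

end Cfsg.Agent.S0819
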