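import Cfsg.Statements.S0820

set_option autoImplicit false
open Cfsg

namespace Cfsg.Agent.S0820

open Matrix

variable {F : Type*} [Field F]

/-- the standard square-zero matrix -/
def E01 (F : Type*) [Field F] : Matrix (Fin 3) (Fin 3) F := !![0, 1, 0; 0, 0, 0; 0, 0, 0]

/-- the matrix with columns `u v z` -/
def colMat (u v z : Fin 3 → F) : Matrix (Fin 3) (Fin 3) F :=
  Matrix.of fun i j => (![u, v, z] : Fin 3 → Fin 3 → F) j i

theorem colMat_mulVec (u v z c : Fin 3 → F) :
    colMat u v z *ᵥ c = c 0 • u + c 1 • v + c 2 • z := by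
  ext i
  simp [colMat, Matrix.mulVec, dotProduct, Fin.sum_univ_three]
  ring

theorem mul_colMat (N : Matrix (Fin 3) (Fin 3) F) (u v z : Fin 3 → F) :
    N * colMat u v z = colMat (N *ᵥ u) (N *ᵥ v) (N *ᵥ z) := by
  ext i j
  fin_cases j <;> simp [colMat, Matrix.mul_apply, Matrix.mulVec, dotProduct]

theorem colMat_mul_E01 (u v z : Fin 3 → F) :
    colMat u v z * E01 F = colMat 0 u 0 := by
  ext i j
  fin_cases j <;> simp [colMat, E01, Matrix.mul_apply, Fin.sum_univ_three]

/-- A nonzero square-zero `3 × 3` matrix is conjugate under `SL₃` to `E01`. -/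
theorem exists_conj (N : Matrix (Fin 3) (Fin 3) F) (hN0 : N ≠ 0) (hN2 : N * N = 0) :
    ∃ P : Matrix.SpecialLinearGroup (Fin 3) F,
      N * (P : Matrix (Fin 3) (Fin 3) F) = (P : Matrix (Fin 3) (Fin 3) F) * E01 F := by
  classical
  -- a vector not killed by N
  obtain ⟨v, hv⟩ : ∃ v : Fin 3 → F, N *ᵥ v ≠ 0 := by
    by_contra h
    push Not at h
    apply hN0
    ext i j
    have := congrFun (h (Pi.single j 1)) i
    simpa using this
  set u := N *ᵥ v with hu
  have hNu : N *ᵥ u = 0 := by rw [hu, Matrix.mulVec_mulVec, hN2, Matrix.zero_mulVec]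
  -- the kernel has dimension at least two
  set f := Matrix.mulVecLin N with hf
  have hrk : f.range ≤ f.ker := by
    rintro _ ⟨x, rfl⟩
    rw [LinearMap.mem_ker]
    simp only [hf, Matrix.mulVecLin_apply, Matrix.mulVec_mulVec, hN2, Matrix.zero_mulVec]
  have hdim : 2 ≤ Module.finrank F f.ker := by
    have h1 := LinearMap.finrank_range_add_finrank_ker f
    have h2 := Submodule.finrank_mono hrk
    rw [Module.finrank_fintype_fun_eq_card, Fintype.card_fin] at h1
    omega
  have huker : u ∈ f.ker := by rw [LinearMap.mem_ker]; exact hNu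
  obtain ⟨z, hzker, hzspan⟩ : ∃ z ∈ f.ker, z ∉ Submodule.span F {u} := by
    by_contra h
    push Not at h
    have hle : f.ker ≤ Submodule.span F {u} := fun z hz => h z hz
    have := Submodule.finrank_mono hle
    rw [finrank_span_singleton hv] at this
    omega
  have hNz : N *ᵥ z = 0 := by rw [LinearMap.mem_ker] at hzker; exact hzker
  -- the matrix of columns is invertible
  set P₀ := colMat u v z with hP₀
  have hinj : Function.Injective P₀.mulVec := by
    change Function.Injective (Matrix.mulVecLin P₀)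
    rw [← LinearMap.ker_eq_bot, Matrix.ker_mulVecLin_eq_bot_iff]
    intro c hc
    rw [hP₀, colMat_mulVec] at hc
    have h1 : c 1 = 0 := by
      have := congrArg (fun x => N *ᵥ x) hc
      simp only [Matrix.mulVec_add, Matrix.mulVec_smul, hNu, hNz, smul_zero, zero_add, add_zero,
        Matrix.mulVec_zero] at this
      rw [← hu] at this
      rcases smul_eq_zero.mp this with h | h
      · exact h
      · exact absurd h hv
    rw [h1, zero_smul, add_zero] at hc
    have h2 : c 2 = 0 := by
      by_contra h2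
      apply hzspan
      rw [Submodule.mem_span_singleton]
      refine ⟨-(c 2)⁻¹ * c 0, ?_⟩
      have : c 2 • z = -(c 0 • u) := eq_neg_of_add_eq_zero_right hc
      calc (-(c 2)⁻¹ * c 0) • u = (c 2)⁻¹ • (-(c 0 • u)) := by
            rw [smul_neg, neg_mul, neg_smul, mul_smul]
        _ = (c 2)⁻¹ • (c 2 • z) := by rw [this]
        _ = z := by rw [smul_smul, inv_mul_cancel₀ h2, one_smul]
    rw [h2, zero_smul, add_zero] at hc
    have h0 : c 0 = 0 := by
      rcases smul_eq_zero.mp hc with h | h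
      · exact h
      · exact absurd h hv
    ext i
    fin_cases i
    · exact h0
    · exact h1
    · exact h2
  have hdet : P₀.det ≠ 0 := by
    have := (Matrix.isUnit_iff_isUnit_det P₀).mp (Matrix.mulVec_injective_iff_isUnit.mp hinj)
    exact this.ne_zero
  -- rescale the last column
  set d := P₀.det with hd
  set P := colMat u v (d⁻¹ • z) with hP
  have hPdet : P.det = 1 := by
    have hPP : P = P₀ * Matrix.diagonal ![1, 1, d⁻¹] := by
      ext i j
      fin_cases j <;> simp [hP, hP₀, colMat, Matrix.mul_apply,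
        Matrix.diagonal_apply, mul_comm]
    rw [hPP, Matrix.det_mul, Matrix.det_diagonal, Fin.prod_univ_three]
    simp only [Matrix.cons_val_zero, Matrix.cons_val_one, Matrix.cons_val_two, Matrix.head_cons,
      Matrix.tail_cons, one_mul]
    exact mul_inv_cancel₀ hdet
  refine ⟨⟨P, hPdet⟩, ?_⟩
  change N * P = P * E01 F
  rw [hP, mul_colMat, colMat_mul_E01, hNu, Matrix.mulVec_smul, hNz, smul_zero, ← hu]

theorem two_eq_zero [Fintype F] (hF : Fintype.card F = 4) : (2 : F) = 0 := by
  have h := Nat.cast_card_eq_zero F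
  rw [hF] at h
  have h4 : (2 : F) * 2 = 0 := by
    have : ((4 : ℕ) : F) = 2 * 2 := by norm_num
    rw [← this]; exact h
  exact mul_self_eq_zero.mp h4

/-- an element of order two of `PSL₃` over a field of characteristic two lifts to a unipotent
element of `SL₃`. -/
theorem lift_involution (h2 : (2 : F) = 0)
    (x : Matrix.ProjectiveSpecialLinearGroup (Fin 3) F) (hx : orderOf x = 2) :
    ∃ t : Matrix.SpecialLinearGroup (Fin 3) F,
      (QuotientGroup.mk t : Matrix.ProjectiveSpecialLinearGroup (Fin 3) F) = x ∧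
      (t : Matrix (Fin 3) (Fin 3) F) - 1 ≠ 0 ∧
      ((t : Matrix (Fin 3) (Fin 3) F) - 1) * ((t : Matrix (Fin 3) (Fin 3) F) - 1) = 0 := by
  obtain ⟨g, rfl⟩ := QuotientGroup.mk_surjective x
  have hx2 : (QuotientGroup.mk g : Matrix.ProjectiveSpecialLinearGroup (Fin 3) F) ^ 2 = 1 := by
    rw [← hx]; exact pow_orderOf_eq_one _
  rw [← QuotientGroup.mk_pow, QuotientGroup.eq_one_iff] at hx2
  have hcen := hx2
  rw [Matrix.SpecialLinearGroup.mem_center_iff] at hx2
  obtain ⟨r, hr, hscal⟩ := hx2
  rw [Fintype.card_fin] at hr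
  -- the scalar r as an element of SL
  have hsdet : (Matrix.scalar (Fin 3) r).det = 1 := by
    rw [hscal]; exact (g ^ 2).det_coe
  set s : Matrix.SpecialLinearGroup (Fin 3) F := ⟨Matrix.scalar (Fin 3) r, hsdet⟩ with hs
  have hsg : s = g ^ 2 := Subtype.ext hscal
  have hscen : s ∈ Subgroup.center (Matrix.SpecialLinearGroup (Fin 3) F) := by rw [hsg]; exact hcen
  have hcomm : g * s = s * g := (Subgroup.mem_center_iff.mp hscen) g
  have hs3 : s ^ 3 = 1 := by
    apply Subtype.ext
    rw [Matrix.SpecialLinearGroup.coe_pow]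
    change (Matrix.scalar (Fin 3) r) ^ 3 = 1
    rw [← map_pow, hr, map_one]
  refine ⟨g * s, ?_, ?_, ?_⟩
  · rw [QuotientGroup.mk_mul, (QuotientGroup.eq_one_iff s).mpr hscen, mul_one]
  · intro h
    have h1 : g * s = 1 := Subtype.ext (by simpa using sub_eq_zero.mp h)
    have h2' : (QuotientGroup.mk g : Matrix.ProjectiveSpecialLinearGroup (Fin 3) F) = 1 := by
      have := congrArg (QuotientGroup.mk (s := Subgroup.center _)) h1
      rw [QuotientGroup.mk_mul, (QuotientGroup.eq_one_iff s).mpr hscen, mul_one] at this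
      exact this
    rw [h2', orderOf_one] at hx
    omega
  · have hsq : (g * s) * (g * s) = 1 := by
      calc (g * s) * (g * s) = g * (s * g) * s := by simp only [mul_assoc]
        _ = g * (g * s) * s := by rw [hcomm]
        _ = g ^ 2 * s ^ 2 := by rw [pow_two, pow_two]; simp only [mul_assoc]
        _ = s ^ 3 := by rw [← hsg, ← pow_succ']
        _ = 1 := hs3
    have hsqM : ((g * s : Matrix.SpecialLinearGroup (Fin 3) F) : Matrix (Fin 3) (Fin 3) F) *
        ((g * s : Matrix.SpecialLinearGroup (Fin 3) F) : Matrix (Fin 3) (Fin 3) F) = 1 := by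
      rw [← Matrix.SpecialLinearGroup.coe_mul, hsq]; rfl
    set T := ((g * s : Matrix.SpecialLinearGroup (Fin 3) F) : Matrix (Fin 3) (Fin 3) F) with hT
    have h2M : (2 : Matrix (Fin 3) (Fin 3) F) = 0 := by
      have : (2 : Matrix (Fin 3) (Fin 3) F) = algebraMap F _ (2 : F) := (map_ofNat _ 2).symm
      rw [this, h2, map_zero]
    calc (T - 1) * (T - 1) = T * T - 2 * T + 1 := by noncomm_ring
      _ = 0 := by rw [hsqM, h2M, zero_mul, sub_zero, one_add_one_eq_two, h2M]

theorem result {F : Type*} [Field F] [Fintype F] (hF : Fintype.card F = 4) (x y : Matrix.ProjectiveSpecialLinearGroup (Fin 3) F) (hx : orderOf x = 2) (hy : orderOf y = 2) : IsConj x y := by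
  have h2 := two_eq_zero hF
  obtain ⟨t₁, rfl, hN1, hN1sq⟩ := lift_involution h2 x hx
  obtain ⟨t₂, rfl, hN2, hN2sq⟩ := lift_involution h2 y hy
  obtain ⟨P₁, hP₁⟩ := exists_conj _ hN1 hN1sq
  obtain ⟨P₂, hP₂⟩ := exists_conj _ hN2 hN2sq
  have hUdet : (1 + E01 F).det = 1 := by
    rw [Matrix.det_fin_three]
    simp [E01]
  set U : Matrix.SpecialLinearGroup (Fin 3) F := ⟨1 + E01 F, hUdet⟩ with hU
  have h1M : (t₁ : Matrix (Fin 3) (Fin 3) F) * (P₁ : Matrix (Fin 3) (Fin 3) F) =
      (P₁ : Matrix (Fin 3) (Fin 3) F) * (1 + E01 F) := by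
    rw [Matrix.mul_add, Matrix.mul_one, ← hP₁, Matrix.sub_mul, Matrix.one_mul]
    abel
  have h2M : (t₂ : Matrix (Fin 3) (Fin 3) F) * (P₂ : Matrix (Fin 3) (Fin 3) F) =
      (P₂ : Matrix (Fin 3) (Fin 3) F) * (1 + E01 F) := by
    rw [Matrix.mul_add, Matrix.mul_one, ← hP₂, Matrix.sub_mul, Matrix.one_mul]
    abel
  have h1 : t₁ * P₁ = P₁ * U := by
    apply Subtype.ext
    rw [Matrix.SpecialLinearGroup.coe_mul, Matrix.SpecialLinearGroup.coe_mul]
    exact h1M
  have h2' : t₂ * P₂ = P₂ * U := by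
    apply Subtype.ext
    rw [Matrix.SpecialLinearGroup.coe_mul, Matrix.SpecialLinearGroup.coe_mul]
    exact h2M
  have hconj : IsConj t₁ t₂ := by
    rw [isConj_iff]
    refine ⟨P₂ * P₁⁻¹, ?_⟩
    have e1 : t₁ = P₁ * U * P₁⁻¹ := by rw [← h1]; group
    have e2 : t₂ = P₂ * U * P₂⁻¹ := by rw [← h2']; group
    rw [e1, e2]; group
  exact (QuotientGroup.mk' (Subgroup.center (Matrix.SpecialLinearGroup (Fin 3) F))).map_isConj hconj

end Cfsg.Agent.S0820
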