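import Cfsg.Statements.S0821
import Cfsg.Agent.S0269
import Cfsg.Agent.Lib.Helper46.WeilPSp
import Cfsg.Agent.Lib.Helper46.OmegaDegOdd

set_option autoImplicit false
open Cfsg

namespace Cfsg.Agent.S0821

open Cfsg.Agent.Lib.Helper46 Cfsg.Agent.Lib.Helper46.Weil Cfsg.Agent.Lib.Helper46.OmegaDeg

/-- transport of an irreducible representation along a group isomorphism -/
theorem isIrreducible_comp_equiv {G H : Type*} [Group G] [Group H] (e : H ≃* G) {d : ℕ}
    (σ : Representation ℂ G (Fin d → ℂ)) (hσ : σ.IsIrreducible) :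
    Representation.IsIrreducible (σ.comp e.toMonoidHom : Representation ℂ H (Fin d → ℂ)) := by
  rw [Cfsg.Agent.Lib.Helper05.isIrreducible_iff] at hσ ⊢
  refine ⟨hσ.1, ?_⟩
  intro U hU
  apply hσ.2 U
  intro g v hv
  have := hU (e.symm g) v hv
  simpa using this

/-- PSp_2m(q) ≇ PΩ_(2m+1)(q) for q odd and m ≥ 3 (they have the same order). -/
theorem result {F : Type*} [Field F] [Fintype F] (hodd : Odd (Fintype.card F)) (m : ℕ) (hm : 3 ≤ m) : IsEmpty (Cfsg.PSp m F ≃* Cfsg.POmega F (Cfsg.quadFormOdd m F)) := by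
  constructor
  intro e
  have h2 : (2 : F) ≠ 0 := Cfsg.Agent.Lib.Helper43.two_ne_zero_of_odd_card43 hodd
  have hperf : commutator (Matrix.symplecticGroup (Fin m) F) = ⊤ :=
    Cfsg.Agent.S0269.result m (Or.inl hm)
  obtain ⟨d, hd2, hdle, σ, hσ⟩ := exists_irreducible_PSp h2 m (by omega) hperf
  have hirr := isIrreducible_comp_equiv e.symm σ hσ
  have hge := POmega_odd_degree_ge hodd m hm _ hirr hd2
  have hq : 3 ≤ Fintype.card F := by
    have h1 : 1 < Fintype.card F := Fintype.one_lt_card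
    rcases hodd with ⟨k, hk⟩
    omega
  have hpow : Fintype.card F ^ m ≤ Fintype.card F ^ (2 * m - 3) :=
    Nat.pow_le_pow_right (by omega) (by omega)
  have h3 : 3 ≤ Fintype.card F ^ m := by
    calc 3 ≤ Fintype.card F := hq
      _ = Fintype.card F ^ 1 := (pow_one _).symm
      _ ≤ Fintype.card F ^ m := Nat.pow_le_pow_right (by omega) (by omega)
  omega

end Cfsg.Agent.S0821
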