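import Cfsg.Statements.S0822
import Cfsg.Agent.Lib.Helper62.U42Final
import Cfsg.Agent.Lib.Helper62.ClassicalCongr

set_option autoImplicit false
open Cfsg

namespace Cfsg.Agent.S0822

/-- PSU_4(2) ≅ PSp_4(3): with |F| = 4 and |K| = 3, the projective special unitary group of the standard Hermitian form on F^4 is isomorphic to PSp_4(K). -/
theorem result {F K : Type*} [Field F] [Fintype F] [Field K] [Fintype K] (hF : Fintype.card F = 4) (hK : Fintype.card K = 3) : Nonempty (Cfsg.PSU 4 F 2 ≃* Cfsg.PSp 2 K) := by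
  have hF' : Fintype.card F = Fintype.card Cfsg.Agent.Lib.Helper36.F4 := by
    rw [hF, Cfsg.Agent.Lib.Helper36.F4.card_eq]
  have hK' : Fintype.card K = Fintype.card (ZMod 3) := by
    rw [hK, ZMod.card 3]
  have σ : F ≃+* Cfsg.Agent.Lib.Helper36.F4 := FiniteField.ringEquivOfCardEq hF'
  have τ : K ≃+* ZMod 3 := FiniteField.ringEquivOfCardEq hK'
  obtain ⟨e⟩ := Cfsg.Agent.Lib.Helper62.U42.exists_iso_concrete
  exact ⟨((Cfsg.Agent.Lib.Helper62.ClassicalCongr.psuCongr σ 4 2).trans e).trans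
    (Cfsg.Agent.Lib.Helper62.ClassicalCongr.pspCongr 2 τ).symm⟩

end Cfsg.Agent.S0822
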