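import Cfsg.Statements.S0823

set_option autoImplicit false
set_option linter.unusedTactic false
set_option linter.unreachableTactic false
open Cfsg

namespace Cfsg.Agent.S0823

open Matrix

abbrev I3 := Unit ⊕ (Fin 1 ⊕ Fin 1)
abbrev i0 : I3 := Sum.inl ()
abbrev i1 : I3 := Sum.inr (Sum.inl 0)
abbrev i2 : I3 := Sum.inr (Sum.inr 0)

variable {F : Type*} [Field F]

theorem sum_I3 {M : Type*} [AddCommMonoid M] (f : I3 → M) : ∑ i, f i = f i0 + (f i1 + f i2) := by
  rw [Fintype.sum_sum_type, Fintype.sum_sum_type]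
  simp

theorem forall_I3 (p : I3 → Prop) : (∀ i, p i) ↔ p i0 ∧ p i1 ∧ p i2 := by
  constructor
  · intro h; exact ⟨h _, h _, h _⟩
  · rintro ⟨h0, h1, h2⟩ i
    rcases i with ⟨⟩ | i | i
    · exact h0
    · have : i = 0 := Subsingleton.elim _ _
      subst this; exact h1
    · have : i = 0 := Subsingleton.elim _ _
      subst this; exact h2

theorem quadFormOdd_one (v : I3 → F) : Cfsg.quadFormOdd 1 F v = v i0 ^ 2 + v i1 * v i2 := by
  unfold Cfsg.quadFormOdd
  simp

def Lmat (F : Type*) [Field F] : Matrix I3 (Fin 4) F :=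
  Matrix.of fun i => Sum.elim (fun _ => ![0, 2, 1, 0])
    (Sum.elim (fun _ => ![0, 2, 2, 2]) (fun _ => ![1, 1, 1, 0])) i

def Rmat (F : Type*) [Field F] : Matrix (Fin 4) I3 F :=
  Matrix.of fun k i => (Sum.elim (fun _ => ![0, 1, 2, 0])
    (Sum.elim (fun _ => ![1, 1, 1, 0]) (fun _ => ![0, 2, 2, 2])) i : Fin 4 → F) k

def jvec (F : Type*) [Field F] : Fin 4 → F := fun _ => 1

theorem L_mul_R (h3 : (3 : F) = 0) : Lmat F * Rmat F = 1 := by
  ext i k
  rw [Matrix.mul_apply, Fin.sum_univ_four]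
  revert i k
  simp only [forall_I3]
  simp [Lmat, Rmat]
  refine ⟨⟨?_, ?_, ?_⟩, ⟨?_, ?_, ?_⟩, ?_, ?_, ?_⟩ <;>
  first
    | linear_combination (0 : F) * h3 | linear_combination (1 : F) * h3
    | linear_combination (2 : F) * h3 | linear_combination (3 : F) * h3
    | linear_combination (4 : F) * h3 | linear_combination (-1 : F) * h3

theorem R_mul_L (h3 : (3 : F) = 0) :
    Rmat F * Lmat F = 1 - Matrix.vecMulVec (jvec F) (jvec F) := by
  ext i k
  rw [Matrix.mul_apply, sum_I3]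
  fin_cases i <;> fin_cases k <;> simp [Lmat, Rmat, jvec, Matrix.vecMulVec_apply] <;>
  first
    | linear_combination (0 : F) * h3 | linear_combination (1 : F) * h3
    | linear_combination (2 : F) * h3 | linear_combination (3 : F) * h3
    | linear_combination (4 : F) * h3 | linear_combination (-1 : F) * h3

theorem L_mulVec_j (h3 : (3 : F) = 0) : Lmat F *ᵥ jvec F = 0 := by
  ext i
  rw [Matrix.mulVec, dotProduct, Fin.sum_univ_four]
  revert i
  simp only [forall_I3]
  simp [Lmat, jvec]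
  refine ⟨?_, ?_, ?_⟩ <;>
  first
    | linear_combination (0 : F) * h3 | linear_combination (1 : F) * h3
    | linear_combination (2 : F) * h3 | linear_combination (3 : F) * h3
    | linear_combination (4 : F) * h3 | linear_combination (-1 : F) * h3

theorem j_vecMul_R (h3 : (3 : F) = 0) : jvec F ᵥ* Rmat F = 0 := by
  ext i
  rw [Matrix.vecMul, dotProduct, Fin.sum_univ_four]
  revert i
  simp only [forall_I3]
  simp [Rmat, jvec]
  refine ⟨?_, ?_, ?_⟩ <;>
  first
    | linear_combination (0 : F) * h3 | linear_combination (1 : F) * h3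
    | linear_combination (2 : F) * h3 | linear_combination (3 : F) * h3
    | linear_combination (4 : F) * h3 | linear_combination (-1 : F) * h3

/-- `Q v = - N (R v)` where `N` is the sum of squares on `F^4`. -/
theorem Q_eq_neg_N (h3 : (3 : F) = 0) (v : I3 → F) :
    Cfsg.quadFormOdd 1 F v = -((Rmat F *ᵥ v) ⬝ᵥ (Rmat F *ᵥ v)) := by
  rw [quadFormOdd_one]
  simp only [dotProduct, Matrix.mulVec, Fin.sum_univ_four, sum_I3]
  simp [Rmat]
  linear_combination (2 * v i0 ^ 2 + v i1 ^ 2 + 4 * v i2 ^ 2 + 2 * v i0 * v i1 + 4 * v i0 * v i2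
    + 3 * v i1 * v i2) * h3


/-- permutation matrices, as a homomorphism -/
def Pm (F : Type*) [Field F] (σ : Equiv.Perm (Fin 4)) : Matrix (Fin 4) (Fin 4) F :=
  (σ⁻¹).permMatrix F

theorem Pm_mul (σ τ : Equiv.Perm (Fin 4)) : Pm F (σ * τ) = Pm F σ * Pm F τ := by
  unfold Pm
  rw [_root_.mul_inv_rev, Matrix.permMatrix_mul]

theorem Pm_one : Pm F 1 = 1 := by
  unfold Pm
  rw [inv_one, Matrix.permMatrix_one]

theorem Pm_mulVec_j (σ : Equiv.Perm (Fin 4)) : Pm F σ *ᵥ jvec F = jvec F := by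
  unfold Pm
  rw [Matrix.permMatrix_mulVec]
  rfl

theorem j_vecMul_Pm (σ : Equiv.Perm (Fin 4)) : jvec F ᵥ* Pm F σ = jvec F := by
  unfold Pm
  rw [Matrix.vecMul_permMatrix]
  rfl

theorem Pm_dot (σ : Equiv.Perm (Fin 4)) (w : Fin 4 → F) :
    (Pm F σ *ᵥ w) ⬝ᵥ (Pm F σ *ᵥ w) = w ⬝ᵥ w := by
  unfold Pm
  rw [Matrix.permMatrix_mulVec]
  simp only [dotProduct, Function.comp_apply]
  exact Equiv.sum_comp (σ⁻¹) (fun k => w k * w k)

/-- the 3-dimensional representation of `S_4` (up to sign) -/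
def Am (F : Type*) [Field F] (σ : Equiv.Perm (Fin 4)) : Matrix I3 I3 F :=
  Lmat F * Pm F σ * Rmat F

theorem L_Pm_J (h3 : (3 : F) = 0) (σ : Equiv.Perm (Fin 4)) :
    Lmat F * Pm F σ * Matrix.vecMulVec (jvec F) (jvec F) = 0 := by
  rw [Matrix.mul_assoc, Matrix.mul_vecMulVec, Pm_mulVec_j, Matrix.mul_vecMulVec, L_mulVec_j h3,
    Matrix.zero_vecMulVec]

theorem Am_mul_L (h3 : (3 : F) = 0) (σ : Equiv.Perm (Fin 4)) :
    Am F σ * Lmat F = Lmat F * Pm F σ := by
  unfold Am
  rw [Matrix.mul_assoc, R_mul_L h3, Matrix.mul_sub, Matrix.mul_one, L_Pm_J h3, sub_zero]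

theorem Am_mul (h3 : (3 : F) = 0) (σ τ : Equiv.Perm (Fin 4)) :
    Am F (σ * τ) = Am F σ * Am F τ := by
  have h : Am F σ * Am F τ = Am F σ * Lmat F * Pm F τ * Rmat F := by
    unfold Am
    simp only [Matrix.mul_assoc]
  rw [h, Am_mul_L h3]
  unfold Am
  rw [Pm_mul]
  simp only [Matrix.mul_assoc]

theorem Am_one (h3 : (3 : F) = 0) : Am F 1 = 1 := by
  unfold Am
  rw [Pm_one, Matrix.mul_one, L_mul_R h3]

theorem Am_isometry (h3 : (3 : F) = 0) (σ : Equiv.Perm (Fin 4)) (v : I3 → F) :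
    Cfsg.quadFormOdd 1 F (Am F σ *ᵥ v) = Cfsg.quadFormOdd 1 F v := by
  rw [Q_eq_neg_N h3, Q_eq_neg_N h3 v]
  congr 1
  have h1 : Rmat F *ᵥ (Am F σ *ᵥ v) = Pm F σ *ᵥ (Rmat F *ᵥ v) := by
    unfold Am
    rw [Matrix.mulVec_mulVec, ← Matrix.mul_assoc, ← Matrix.mul_assoc, R_mul_L h3, Matrix.sub_mul,
      Matrix.one_mul, Matrix.sub_mul, Matrix.vecMulVec_mul, j_vecMul_Pm, Matrix.vecMulVec_mul,
      j_vecMul_R h3]
    have hz : Matrix.vecMulVec (jvec F) (0 : I3 → F) = 0 := by
      ext a b; simp [Matrix.vecMulVec_apply]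
    rw [hz, sub_zero, ← Matrix.mulVec_mulVec]
  rw [h1, Pm_dot]


/-- the twisted representation, landing in determinant one -/
noncomputable def psi0 (h3 : (3 : F) = 0) : Equiv.Perm (Fin 4) →* Matrix I3 I3 F where
  toFun σ := (Am F σ).det • Am F σ
  map_one' := by rw [Am_one h3]; simp
  map_mul' σ τ := by
    rw [Am_mul h3, Matrix.det_mul, Matrix.smul_mul, Matrix.mul_smul, smul_smul, mul_comm]

theorem psi0_apply (h3 : (3 : F) = 0) (σ : Equiv.Perm (Fin 4)) :
    psi0 h3 σ = (Am F σ).det • Am F σ := rfl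

theorem det_Am_ne_zero (h3 : (3 : F) = 0) (σ : Equiv.Perm (Fin 4)) : (Am F σ).det ≠ 0 := by
  intro h
  have h1 : Am F σ * Am F σ⁻¹ = 1 := by rw [← Am_mul h3, mul_inv_cancel, Am_one h3]
  have h2 := congrArg Matrix.det h1
  rw [Matrix.det_mul, h, zero_mul, Matrix.det_one] at h2
  exact zero_ne_one h2

theorem sq_eq_one_of_card [Fintype F] (hF : Fintype.card F = 3) (x : F) (hx : x ≠ 0) :
    x ^ 2 = 1 := by
  have := FiniteField.pow_card_sub_one_eq_one x hx
  rwa [hF] at this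

theorem three_eq_zero [Fintype F] (hF : Fintype.card F = 3) : (3 : F) = 0 := by
  have := Nat.cast_card_eq_zero F
  rw [hF] at this
  exact_mod_cast this

theorem quadFormOdd_smul (c : F) (v : I3 → F) :
    Cfsg.quadFormOdd 1 F (c • v) = c ^ 2 * Cfsg.quadFormOdd 1 F v := by
  rw [quadFormOdd_one, quadFormOdd_one]
  simp only [Pi.smul_apply, smul_eq_mul]
  ring

theorem psi0_isometry [Fintype F] (hF : Fintype.card F = 3) (σ : Equiv.Perm (Fin 4))
    (v : I3 → F) :
    Cfsg.quadFormOdd 1 F (psi0 (three_eq_zero hF) σ *ᵥ v) = Cfsg.quadFormOdd 1 F v := by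
  rw [psi0_apply, Matrix.smul_mulVec, quadFormOdd_smul,
    sq_eq_one_of_card hF _ (det_Am_ne_zero (three_eq_zero hF) σ), one_mul,
    Am_isometry (three_eq_zero hF)]

theorem psi0_det [Fintype F] (hF : Fintype.card F = 3) (σ : Equiv.Perm (Fin 4)) :
    (psi0 (three_eq_zero hF) σ).det = 1 := by
  rw [psi0_apply, Matrix.det_smul]
  have hc : Fintype.card I3 = 3 := by simp
  rw [hc, ← pow_succ]
  have h2 := sq_eq_one_of_card hF _ (det_Am_ne_zero (three_eq_zero hF) σ)
  calc (Am F σ).det ^ (3 + 1) = ((Am F σ).det ^ 2) ^ 2 := by ring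
    _ = 1 := by rw [h2, one_pow]

theorem psi0_eq_one [Fintype F] (hF : Fintype.card F = 3) (σ : Equiv.Perm (Fin 4))
    (h : psi0 (three_eq_zero hF) σ = 1) : σ = 1 := by
  have h3 := three_eq_zero hF
  rw [psi0_apply] at h
  set d := (Am F σ).det with hd
  have hd0 : d ≠ 0 := det_Am_ne_zero h3 σ
  -- d • (L * P) = L
  have h1 : d • (Lmat F * Pm F σ) = Lmat F := by
    have := congrArg (fun M => M * Lmat F) h
    simp only [Matrix.smul_mul, Am_mul_L h3, Matrix.one_mul] at this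
    exact this
  -- d • (P - J) = 1 - J
  have h2 : d • (Pm F σ - Matrix.vecMulVec (jvec F) (jvec F)) =
      1 - Matrix.vecMulVec (jvec F) (jvec F) := by
    have := congrArg (fun M => Rmat F * M) h1
    simp only [Matrix.mul_smul, ← Matrix.mul_assoc, R_mul_L h3, Matrix.sub_mul, Matrix.one_mul,
      Matrix.vecMulVec_mul, j_vecMul_Pm] at this
    exact this
  have hfix : ∀ i, σ⁻¹ i = i := by
    intro i
    by_contra hne
    have h4 := congrFun (congrFun h2 i) (σ⁻¹ i)
    have h5 : Pm F σ i (σ⁻¹ i) = 1 := by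
      unfold Pm Equiv.Perm.permMatrix
      rw [PEquiv.toMatrix_toPEquiv_apply, Pi.single_eq_same]
    simp only [Matrix.smul_apply, Matrix.sub_apply, Matrix.vecMulVec_apply, jvec, h5,
      Matrix.one_apply, smul_eq_mul, mul_one, sub_self, mul_zero] at h4
    rw [if_neg (Ne.symm hne)] at h4
    have : (1 : F) = 0 := by linear_combination h4
    exact one_ne_zero this
  have : σ⁻¹ = 1 := Equiv.ext hfix
  exact inv_eq_one.mp this


/-- an isometry of determinant one fixing `e₁` and `f₁` is the identity -/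
theorem eq_one_of_fix (M : Matrix I3 I3 F)
    (hQ : ∀ v, Cfsg.quadFormOdd 1 F (M *ᵥ v) = Cfsg.quadFormOdd 1 F v) (hdet : M.det = 1)
    (h1 : M *ᵥ Pi.single i1 1 = Pi.single i1 1) (h2 : M *ᵥ Pi.single i2 1 = Pi.single i2 1) :
    M = 1 := by
  rw [Matrix.mulVec_single_one] at h1 h2
  have c1 : ∀ i, M i i1 = (Pi.single i1 1 : I3 → F) i := fun i => congrFun h1 i
  have c2 : ∀ i, M i i2 = (Pi.single i2 1 : I3 → F) i := fun i => congrFun h2 i
  have e01 : M i0 i1 = 0 := by rw [c1]; simp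
  have e11 : M i1 i1 = 1 := by rw [c1]; simp
  have e21 : M i2 i1 = 0 := by rw [c1]; simp
  have e02 : M i0 i2 = 0 := by rw [c2]; simp
  have e12 : M i1 i2 = 0 := by rw [c2]; simp
  have e22 : M i2 i2 = 1 := by rw [c2]; simp
  -- the first column
  have q0 := hQ (Pi.single i0 1)
  have q1 := hQ (Pi.single i0 1 + Pi.single i1 1)
  have q2 := hQ (Pi.single i0 1 + Pi.single i2 1)
  rw [Matrix.mulVec_add, Matrix.mulVec_single_one, Matrix.mulVec_single_one] at q1 q2
  rw [Matrix.mulVec_single_one] at q0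
  simp only [quadFormOdd_one, Matrix.col_apply, Pi.add_apply, e01, e11, e21, e02, e12, e22] at q0 q1 q2
  simp at q0 q1 q2
  have hc : M i2 i0 = 0 := by linear_combination q1 - q0
  have hb : M i1 i0 = 0 := by linear_combination q2 - q0
  have hdiag : M = Matrix.diagonal (Sum.elim (fun _ => M i0 i0) (fun _ => 1)) := by
    ext i k
    revert i k
    simp only [forall_I3]
    simp [e01, e11, e21, e02, e12, e22, hc, hb]
  have ha : M i0 i0 = 1 := by
    rw [hdiag, Matrix.det_diagonal, Fintype.prod_sum_type] at hdet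
    simpa using hdet
  rw [hdiag, ha]
  ext i k
  revert i k
  simp only [forall_I3]
  simp


abbrev K3 := ZMod 3

def Tset : Finset ((K3 × K3 × K3) × (K3 × K3 × K3)) :=
  Finset.univ.filter (fun p => p.1.1 ^ 2 + p.1.2.1 * p.1.2.2 = 0 ∧
    p.2.1 ^ 2 + p.2.2.1 * p.2.2.2 = 0 ∧
    (p.1.1 + p.2.1) ^ 2 + (p.1.2.1 + p.2.2.1) * (p.1.2.2 + p.2.2.2) = 1)

set_option maxRecDepth 100000 in
theorem Tset_card : Tset.card = 24 := by decide

theorem card_special_le [Fintype F] (hF : Fintype.card F = 3) :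
    Nat.card ↥(Cfsg.specialIsometryGroup F (Cfsg.quadFormOdd 1 F)) ≤ 24 := by
  classical
  let e : F ≃+* K3 := (ZMod.ringEquivOfPrime F Nat.prime_three hF).symm
  let mat : ↥(Cfsg.specialIsometryGroup F (Cfsg.quadFormOdd 1 F)) → Matrix I3 I3 F :=
    fun g => ((g : ↥(Cfsg.isometryGroup F (Cfsg.quadFormOdd 1 F))) :
      Matrix.GeneralLinearGroup I3 F).val
  have hmat_mul : ∀ g h, mat (g * h) = mat g * mat h := fun g h => rfl
  have hmat_one : mat 1 = 1 := rfl
  have hiso : ∀ g v, Cfsg.quadFormOdd 1 F (mat g *ᵥ v) = Cfsg.quadFormOdd 1 F v :=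
    fun g v => g.1.2 v v
  have hdet : ∀ g, (mat g).det = 1 := by
    intro g
    have h := g.2
    unfold Cfsg.specialIsometryGroup at h
    rw [MonoidHom.mem_ker] at h
    have h' := congrArg Units.val h
    simpa using h'
  have hmat_inj : Function.Injective mat := by
    intro g h hgh
    apply Subtype.ext; apply Subtype.ext; apply Units.ext
    exact hgh
  let Θ : ↥(Cfsg.specialIsometryGroup F (Cfsg.quadFormOdd 1 F)) →
      (K3 × K3 × K3) × (K3 × K3 × K3) := fun g =>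
    ((e (mat g i0 i1), e (mat g i1 i1), e (mat g i2 i1)),
     (e (mat g i0 i2), e (mat g i1 i2), e (mat g i2 i2)))
  have hΘmem : ∀ g, Θ g ∈ Tset := by
    intro g
    have q1 := hiso g (Pi.single i1 1)
    have q2 := hiso g (Pi.single i2 1)
    have q3 := hiso g (Pi.single i1 1 + Pi.single i2 1)
    rw [Matrix.mulVec_add] at q3
    simp only [Matrix.mulVec_single_one, quadFormOdd_one, Matrix.col_apply, Pi.add_apply] at q1 q2 q3
    simp at q1 q2 q3
    simp only [Tset, Finset.mem_filter, Finset.mem_univ, true_and, Θ]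
    refine ⟨?_, ?_, ?_⟩
    · rw [← map_pow, ← map_mul, ← map_add, q1, map_zero]
    · rw [← map_pow, ← map_mul, ← map_add, q2, map_zero]
    · rw [← map_add, ← map_add, ← map_add, ← map_pow, ← map_mul, ← map_add, q3, map_one]
  have hΘinj : Function.Injective Θ := by
    intro g h hgh
    simp only [Θ, Prod.mk.injEq, EmbeddingLike.apply_eq_iff_eq] at hgh
    obtain ⟨⟨a1, a2, a3⟩, b1, b2, b3⟩ := hgh
    have hc1 : mat g *ᵥ Pi.single i1 1 = mat h *ᵥ Pi.single i1 1 := by
      rw [Matrix.mulVec_single_one, Matrix.mulVec_single_one]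
      ext i; revert i; simp only [forall_I3]; exact ⟨a1, a2, a3⟩
    have hc2 : mat g *ᵥ Pi.single i2 1 = mat h *ᵥ Pi.single i2 1 := by
      rw [Matrix.mulVec_single_one, Matrix.mulVec_single_one]
      ext i; revert i; simp only [forall_I3]; exact ⟨b1, b2, b3⟩
    have hinv : mat h⁻¹ * mat h = 1 := by rw [← hmat_mul, inv_mul_cancel, hmat_one]
    have hk : mat (h⁻¹ * g) = 1 := by
      apply eq_one_of_fix _ (hiso _) (hdet _)
      · rw [hmat_mul, ← Matrix.mulVec_mulVec, hc1, Matrix.mulVec_mulVec, hinv, Matrix.one_mulVec]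
      · rw [hmat_mul, ← Matrix.mulVec_mulVec, hc2, Matrix.mulVec_mulVec, hinv, Matrix.one_mulVec]
    have : h⁻¹ * g = 1 := hmat_inj (by rw [hk, hmat_one])
    exact (inv_mul_eq_one.mp this).symm
  let Θ' : ↥(Cfsg.specialIsometryGroup F (Cfsg.quadFormOdd 1 F)) → ↥Tset :=
    fun g => ⟨Θ g, hΘmem g⟩
  have hΘ'inj : Function.Injective Θ' := fun g h hgh => hΘinj (congrArg Subtype.val hgh)
  have := Nat.card_le_card_of_injective Θ' hΘ'inj
  rw [Nat.card_eq_fintype_card (α := ↥Tset), Fintype.card_coe, Tset_card] at this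
  exact this

theorem result {F : Type*} [Field F] [Fintype F] (hF : Fintype.card F = 3) : Nonempty (↥(Cfsg.specialIsometryGroup F (Cfsg.quadFormOdd 1 F)) ≃* Equiv.Perm (Fin 4)) := by
  classical
  have h3 := three_eq_zero hF
  let ψ1 : Equiv.Perm (Fin 4) →* Matrix.GeneralLinearGroup I3 F := (psi0 h3).toHomUnits
  have hψ1 : ∀ σ, ((ψ1 σ : Matrix.GeneralLinearGroup I3 F) : Matrix I3 I3 F) = psi0 h3 σ :=
    fun σ => rfl
  have hmem : ∀ σ, ψ1 σ ∈ Cfsg.isometryGroup F (Cfsg.quadFormOdd 1 F) :=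
    fun σ u _ => psi0_isometry hF σ u
  let ψ2 : Equiv.Perm (Fin 4) →* ↥(Cfsg.isometryGroup F (Cfsg.quadFormOdd 1 F)) :=
    ψ1.codRestrict _ hmem
  have hmem2 : ∀ σ, ψ2 σ ∈ Cfsg.specialIsometryGroup F (Cfsg.quadFormOdd 1 F) := by
    intro σ
    unfold Cfsg.specialIsometryGroup
    rw [MonoidHom.mem_ker]
    apply Units.ext
    simp only [MonoidHom.coe_comp, Subgroup.coe_subtype, Function.comp_apply,
      Matrix.GeneralLinearGroup.val_det_apply, Units.val_one]
    exact psi0_det hF σ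
  let ψ3 : Equiv.Perm (Fin 4) →* ↥(Cfsg.specialIsometryGroup F (Cfsg.quadFormOdd 1 F)) :=
    ψ2.codRestrict _ hmem2
  have hinj : Function.Injective ψ3 := by
    rw [injective_iff_map_eq_one]
    intro σ hσ
    apply psi0_eq_one hF
    have := congrArg (fun g : ↥(Cfsg.specialIsometryGroup F (Cfsg.quadFormOdd 1 F)) =>
      (((g : ↥(Cfsg.isometryGroup F (Cfsg.quadFormOdd 1 F))) :
        Matrix.GeneralLinearGroup I3 F) : Matrix I3 I3 F)) hσ
    exact this
  have hbij := hinj.bijective_of_nat_card_le (by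
    rw [Nat.card_eq_fintype_card (α := Equiv.Perm (Fin 4)), Fintype.card_perm, Fintype.card_fin]
    exact card_special_le hF)
  exact ⟨(MulEquiv.ofBijective ψ3 hbij).symm⟩

end Cfsg.Agent.S0823
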