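import Cfsg.Statements.S0825
import Mathlib
import Cfsg.Agent.S0287
import Cfsg.Agent.Lib.Helper51.O6c

set_option autoImplicit false
open Cfsg

namespace Cfsg.Agent.S0825

open Cfsg.Agent.Lib.Helper51

/-- O⁺_6(2) ≅ S_8: the isometry group of the hyperbolic form x_1y_1 + x_2y_2 + x_3y_3 over the field with 2 elements is isomorphic to the symmetric group on 8 letters. -/
theorem result {F : Type*} [Field F] [Fintype F] (hF : Fintype.card F = 2) : Nonempty (↥(Cfsg.isometryGroup F (Cfsg.quadFormPlus 3 F)) ≃* Equiv.Perm (Fin 8)) := by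
  classical
  have h2 : (2 : F) = 0 := two_eq_zero_of_card hF
  have hinj := rhoG_injective (F := F) h2
  have hcardG : Nat.card ↥(Cfsg.isometryGroup F (Cfsg.quadFormPlus 3 F)) = 40320 := by
    rw [Cfsg.Agent.S0287.result hF 3 (by norm_num)]
    norm_num [Finset.prod_range_succ]
  have hcardP : Nat.card (Equiv.Perm (Fin 8)) = 40320 := by
    rw [Nat.card_eq_fintype_card, Fintype.card_perm, Fintype.card_fin]
    rfl
  haveI : Finite ↥(Cfsg.isometryGroup F (Cfsg.quadFormPlus 3 F)) :=
    Nat.finite_of_card_ne_zero (by rw [hcardG]; norm_num)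
  have hbij : Function.Bijective (rhoG (F := F) h2) :=
    hinj.bijective_of_nat_card_le (by rw [hcardG, hcardP])
  exact ⟨(MulEquiv.ofBijective (rhoG (F := F) h2) hbij).symm⟩

end Cfsg.Agent.S0825
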