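import Mathlib
import Cfsg.Statements.S0826
import Cfsg.Agent.Lib.Helper20.SympEmbed

set_option autoImplicit false
open Cfsg

namespace Cfsg.Agent.S0826

open Cfsg.Agent.Lib.Helper20

/-- The coordinate-sum functional. -/
def sumL (N : ℕ) : (Fin N → ZMod 2) →ₗ[ZMod 2] ZMod 2 :=
  ∑ i, (LinearMap.proj i : (Fin N → ZMod 2) →ₗ[ZMod 2] ZMod 2)

theorem sumL_apply (N : ℕ) (v : Fin N → ZMod 2) : sumL N v = ∑ i, v i := by
  simp [sumL, LinearMap.sum_apply]

/-- The even-weight subspace. -/
def evenSub (N : ℕ) : Submodule (ZMod 2) (Fin N → ZMod 2) := LinearMap.ker (sumL N)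

theorem mem_evenSub (N : ℕ) (v : Fin N → ZMod 2) : v ∈ evenSub N ↔ ∑ i, v i = 0 := by
  rw [evenSub, LinearMap.mem_ker, sumL_apply]

/-- The permutation action on coordinates. -/
def permL (N : ℕ) : Equiv.Perm (Fin N) →* ((Fin N → ZMod 2) →ₗ[ZMod 2] (Fin N → ZMod 2)) where
  toFun σ := LinearMap.funLeft (ZMod 2) (ZMod 2) (σ⁻¹ : Equiv.Perm (Fin N))
  map_one' := by
    ext v i
    simp [LinearMap.funLeft_apply]
  map_mul' σ τ := by
    ext v i
    simp [LinearMap.funLeft_apply, Module.End.mul_apply]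

theorem permL_apply (N : ℕ) (σ : Equiv.Perm (Fin N)) (v : Fin N → ZMod 2) (i : Fin N) :
    permL N σ v i = v (σ⁻¹ i) := rfl

theorem permL_mem (N : ℕ) (σ : Equiv.Perm (Fin N)) (v : Fin N → ZMod 2) (hv : v ∈ evenSub N) :
    permL N σ v ∈ evenSub N := by
  rw [mem_evenSub] at hv ⊢
  simp only [permL_apply]
  rw [Equiv.sum_comp (σ⁻¹ : Equiv.Perm (Fin N)) v]
  exact hv

/-- The action on the even-weight subspace. -/
def permE (N : ℕ) : Equiv.Perm (Fin N) →* (evenSub N →ₗ[ZMod 2] evenSub N) where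
  toFun σ := (permL N σ).restrict (permL_mem N σ)
  map_one' := by
    ext v i
    simp
  map_mul' σ τ := by
    ext v i
    simp [Module.End.mul_apply]

theorem permE_apply (N : ℕ) (σ : Equiv.Perm (Fin N)) (v : evenSub N) (i : Fin N) :
    (permE N σ v : Fin N → ZMod 2) i = (v : Fin N → ZMod 2) (σ⁻¹ i) := rfl

/-- The dot product form on the even-weight subspace. -/
def dotE (N : ℕ) : LinearMap.BilinForm (ZMod 2) (evenSub N) :=
  (dotProductBilin (ZMod 2) (ZMod 2) : (Fin N → ZMod 2) →ₗ[ZMod 2] (Fin N → ZMod 2) →ₗ[ZMod 2] ZMod 2).domRestrict₁₂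
    (evenSub N) (evenSub N)

theorem dotE_apply (N : ℕ) (u v : evenSub N) :
    dotE N u v = ∑ i, (u : Fin N → ZMod 2) i * (v : Fin N → ZMod 2) i := rfl

theorem dotE_isAlt (N : ℕ) : (dotE N).IsAlt := by
  intro v
  rw [dotE_apply]
  have h : ∀ x : ZMod 2, x * x = x := by decide
  simp only [h]
  exact (mem_evenSub N v).1 v.2

theorem dotE_pres (N : ℕ) (σ : Equiv.Perm (Fin N)) (u v : evenSub N) :
    dotE N (permE N σ u) (permE N σ v) = dotE N u v := by
  rw [dotE_apply, dotE_apply]
  simp only [permE_apply]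
  exact Equiv.sum_comp (σ⁻¹ : Equiv.Perm (Fin N))
    (fun i => (u : Fin N → ZMod 2) i * (v : Fin N → ZMod 2) i)

/-- The vector `ε_i + ε_j` lies in the even-weight subspace. -/
theorem pair_mem (N : ℕ) (i j : Fin N) :
    (Pi.single i 1 + Pi.single j 1 : Fin N → ZMod 2) ∈ evenSub N := by
  rw [mem_evenSub]
  simp only [Pi.add_apply, Finset.sum_add_distrib, Finset.sum_pi_single', Finset.mem_univ, if_true]
  decide

/-- Elements of the radical are constant vectors. -/
theorem const_of_mem_ker (N : ℕ) (u : evenSub N) (hu : u ∈ LinearMap.ker (dotE N)) (a b : Fin N) :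
    (u : Fin N → ZMod 2) a = (u : Fin N → ZMod 2) b := by
  rw [LinearMap.mem_ker] at hu
  have h1 := congrArg (fun f => f ⟨_, pair_mem N a b⟩) hu
  simp only [LinearMap.zero_apply, dotE_apply, Pi.add_apply, mul_add, Finset.sum_add_distrib,
    Pi.single_apply, mul_ite, mul_one, mul_zero, Finset.sum_ite_eq', Finset.mem_univ, if_true] at h1
  have h : ∀ x y : ZMod 2, x + y = 0 → x = y := by decide
  exact h _ _ h1

/-- The all-ones vector. -/
def onesE (n : ℕ) : evenSub (2 * n) :=
  ⟨fun _ => 1, by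
    rw [mem_evenSub]
    simp only [Finset.sum_const, Finset.card_univ, Fintype.card_fin, nsmul_eq_mul, mul_one]
    push_cast
    have : (2 : ZMod 2) = 0 := by decide
    rw [this, zero_mul]⟩

theorem onesE_ne_zero (n : ℕ) (hn : 1 ≤ n) : onesE n ≠ 0 := by
  intro h
  have h1 := congrArg (fun v : evenSub (2 * n) => (v : Fin (2 * n) → ZMod 2) ⟨0, by omega⟩) h
  simp [onesE] at h1

theorem ker_dotE (n : ℕ) : LinearMap.ker (dotE (2 * n)) = Submodule.span (ZMod 2) {onesE n} := by
  apply le_antisymm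
  · intro u hu
    rw [Submodule.mem_span_singleton]
    by_cases hn : n = 0
    · subst hn
      refine ⟨0, ?_⟩
      ext i
      exact i.elim0
    · have h0 : 0 < 2 * n := by omega
      refine ⟨(u : Fin (2 * n) → ZMod 2) ⟨0, h0⟩, ?_⟩
      ext i
      simp only [onesE, Submodule.coe_smul, Pi.smul_apply, smul_eq_mul, mul_one]
      exact const_of_mem_ker _ u hu _ _
  · rw [Submodule.span_singleton_le_iff_mem, LinearMap.mem_ker]
    ext v
    rw [dotE_apply]
    simp only [onesE, one_mul, LinearMap.zero_apply]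
    exact (mem_evenSub (2 * n) (v : Fin (2 * n) → ZMod 2)).1 v.2

theorem finrank_ker_dotE (n : ℕ) (hn : 1 ≤ n) :
    Module.finrank (ZMod 2) (LinearMap.ker (dotE (2 * n))) = 1 := by
  rw [ker_dotE]
  exact finrank_span_singleton (onesE_ne_zero n hn)

theorem finrank_evenSub (N : ℕ) (hN : 1 ≤ N) :
    Module.finrank (ZMod 2) (evenSub N) = N - 1 := by
  have h1 := LinearMap.finrank_range_add_finrank_ker (sumL N)
  have h2 : LinearMap.range (sumL N) = ⊤ := by
    rw [LinearMap.range_eq_top]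
    intro c
    refine ⟨Pi.single ⟨0, hN⟩ c, ?_⟩
    rw [sumL_apply]
    simp
  rw [h2, finrank_top, Module.finrank_self, Module.finrank_fin_fun] at h1
  rw [evenSub]
  omega

theorem faithful (n : ℕ) (hn : 3 ≤ n) (σ : Equiv.Perm (Fin (2 * n)))
    (h : ∀ v : evenSub (2 * n), permE (2 * n) σ v - v ∈ LinearMap.ker (dotE (2 * n))) : σ = 1 := by
  classical
  ext i
  by_contra hne0
  have hne : σ⁻¹ i ≠ i := by
    intro h1
    apply hne0
    have : σ (σ⁻¹ i) = σ i := by rw [h1]
    simp at this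
    simp [← this]
  set j := σ⁻¹ i with hj
  have hσj : σ j = i := by simp [hj]
  have hcard : Fintype.card (Fin (2 * n)) = 2 * n := Fintype.card_fin _
  obtain ⟨k, -, hk⟩ := Finset.exists_mem_notMem_of_card_lt_card
    (s := ({i, j} : Finset (Fin (2 * n)))) (t := Finset.univ)
    (by
      have := Finset.card_le_two (a := i) (b := j)
      rw [Finset.card_univ, hcard]
      omega)
  obtain ⟨b, -, hb⟩ := Finset.exists_mem_notMem_of_card_lt_card
    (s := ({i, j, k, σ k} : Finset (Fin (2 * n)))) (t := Finset.univ)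
    (by
      have := Finset.card_le_four (a := i) (b := j) (c := k) (d := σ k)
      rw [Finset.card_univ, hcard]
      omega)
  simp only [Finset.mem_insert, Finset.mem_singleton, not_or] at hk hb
  obtain ⟨hki, hkj⟩ := hk
  obtain ⟨hbi, hbj, hbk, hbσk⟩ := hb
  have hconst := const_of_mem_ker _ _ (h ⟨_, pair_mem (2 * n) j k⟩) i b
  simp only [Submodule.coe_sub, Pi.sub_apply, permE_apply, Pi.add_apply, Pi.single_apply] at hconst
  have e1 : σ⁻¹ i = j := rfl
  have e2 : ¬ (j = k) := fun h => hkj h.symm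
  have e3 : ¬ (i = j) := fun h => hne h.symm
  have e4 : ¬ (i = k) := fun h => hki h.symm
  have e5 : ¬ (σ⁻¹ b = j) := by
    intro h5
    apply hbi
    rw [← hσj, ← h5]
    simp
  have e6 : ¬ (σ⁻¹ b = k) := by
    intro h6
    apply hbσk
    rw [← h6]
    simp
  rw [e1] at hconst
  simp only [e2, e3, e4, e5, e6, hbj, hbk, if_true, if_false] at hconst
  simp at hconst

/-- S_2n ≤ Sp_(2n−2)(2) for n ≥ 3: there is an injective homomorphism from the symmetric group on 2n letters into the symplectic group of degree 2n − 2 over the field with two elements. -/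
theorem result (n : ℕ) (hn : 3 ≤ n) : ∃ f : Equiv.Perm (Fin (2 * n)) →* Matrix.symplecticGroup (Fin (n - 1)) (ZMod 2), Function.Injective f := by
  refine embed_symplectic_mod_radical (dotE (2 * n)) (dotE_isAlt _) (n - 1) ?_ (permE (2 * n))
    (dotE_pres _) (faithful n hn)
  rw [finrank_ker_dotE n (by omega), finrank_evenSub (2 * n) (by omega)]
  omega

end Cfsg.Agent.S0826
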