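import Mathlib
import Cfsg.Statements.S0827
import Cfsg.Agent.Lib.Helper48.U32.SU3F4
import Cfsg.Agent.S0282
import Cfsg.Agent.Lib.Helper48.U32.Abstract

set_option autoImplicit false
open Cfsg

namespace Cfsg.Agent.S0827

open Cfsg.Agent.Lib.Helper48.U32F4 Cfsg.Agent.Lib.Helper48.U32F4.F4

/-- the 3-cycle permutation matrix -/
def xm : Matrix (Fin 3) (Fin 3) F4 := !![0, 0, 1; 1, 0, 0; 0, 1, 0]
/-- the Frobenius twist of `m0` -/
def m1 : Matrix (Fin 3) (Fin 3) F4 := !![1, 1, w; 1, v, v; v, 1, v]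

theorem xm_unitary : xm.transpose * xm.map frob = 1 := by decide
theorem m1_unitary : m1.transpose * m1.map frob = 1 := by decide
theorem xm_det : xm.det = 1 := by rw [Matrix.det_fin_three]; decide
theorem m1_det : m1.det = 1 := by rw [Matrix.det_fin_three]; decide

section

variable {F : Type*} [Field F] (σ : F ≃+* F4)

theorem ofF4_pow_three (A : Matrix (Fin 3) (Fin 3) F4) (h1 : A.transpose * A.map frob = 1)
    (h2 : A.det = 1) (hA : A ^ 3 = 1) : (ofF4 σ A h1 h2) ^ 3 = 1 := by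
  apply Subtype.ext
  apply Subtype.ext
  rw [Subgroup.coe_pow, Matrix.SpecialLinearGroup.coe_pow]
  show (A.map (σ.symm : F4 →+* F)) ^ 3 = 1
  have : A.map (σ.symm : F4 →+* F) = (σ.symm : F4 →+* F).mapMatrix A := rfl
  rw [this, ← map_pow, hA, map_one]

theorem mat_mul3 (A B C : Matrix (Fin 3) (Fin 3) F4) (hA1 hA2 hB1 hB2 hC1 hC2) (j k : Fin 3) :
    mat (ofF4 σ A hA1 hA2 * ofF4 σ B hB1 hB2 * ofF4 σ C hC1 hC2) j k = σ.symm ((A * B * C) j k) := by
  rw [mat_mul, mat_mul]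
  have h : ∀ (D : Matrix (Fin 3) (Fin 3) F4) hD1 hD2, mat (ofF4 σ D hD1 hD2) =
      (σ.symm : F4 →+* F).mapMatrix D := fun D hD1 hD2 => rfl
  rw [h, h, h, ← map_mul, ← map_mul]
  rfl

theorem mat_mul2 (A B : Matrix (Fin 3) (Fin 3) F4) (hA1 hA2 hB1 hB2) (j k : Fin 3) :
    mat (ofF4 σ A hA1 hA2 * ofF4 σ B hB1 hB2) j k = σ.symm ((A * B) j k) := by
  rw [mat_mul]
  have h : ∀ (D : Matrix (Fin 3) (Fin 3) F4) hD1 hD2, mat (ofF4 σ D hD1 hD2) =
      (σ.symm : F4 →+* F).mapMatrix D := fun D hD1 hD2 => rfl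
  rw [h, h, ← map_mul]
  rfl

theorem not_central_of_offdiag (s : Cfsg.SU 3 F 2) (j k : Fin 3) (hjk : j ≠ k) (t : F4)
    (ht : t ≠ 0) (hs : mat s j k = σ.symm t) : s ∉ Subgroup.center (Cfsg.SU 3 F 2) := by
  intro hc
  have h0 := central_offdiag σ s hc j k hjk
  rw [hs] at h0
  exact ht (σ.symm.injective (h0.trans (map_zero _).symm))

theorem chi_ofF4 (A : Matrix (Fin 3) (Fin 3) F4) (h1 h2) :
    chi (ofF4 σ A h1 h2) = σ.symm (A 0 0 * A 1 0 * A 2 0) := by
  unfold chi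
  rw [mat_ofF4, mat_ofF4, mat_ofF4, map_mul, map_mul]

end

/-- U_3(2) ≅ 3².Q_8: PSU_3(2) (form over the field with 4 elements) has a normal subgroup N which is elementary abelian of order 9 such that the quotient by N is isomorphic to the quaternion group of order 8. -/
theorem result {F : Type*} [Field F] [Fintype F] (hF : Fintype.card F = 4) : ∃ (N : Subgroup (Cfsg.PSU 3 F 2)) (_ : N.Normal), Nat.card N = 9 ∧ (∀ x ∈ N, x ^ 3 = 1) ∧ Nonempty (Cfsg.PSU 3 F 2 ⧸ N ≃* QuaternionGroup 2) := by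
  have σ : F ≃+* F4 := FiniteField.ringEquivOfCardEq (hF.trans F4.card_F4.symm)
  obtain ⟨hcard, -⟩ := Cfsg.Agent.S0282.result hF
  have : Finite (Cfsg.PSU 3 F 2) := Nat.finite_of_card_ne_zero (by rw [hcard]; norm_num)
  let χb : Cfsg.PSU 3 F 2 →* Multiplicative F :=
    QuotientGroup.lift _ (chiHom σ) (center_le_ker σ)
  have hχb : ∀ s : Cfsg.SU 3 F 2, χb (QuotientGroup.mk s) = Multiplicative.ofAdd (chi s) :=
    fun s => rfl
  have hinv : ∀ x : Cfsg.PSU 3 F 2, x * x = 1 → χb x = 1 := by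
    intro x hx
    induction x using QuotientGroup.induction_on with
    | H s =>
      rw [← QuotientGroup.mk_mul, QuotientGroup.eq_one_iff] at hx
      rw [hχb, chi_eq_zero_of_sq_central σ s hx]
      rfl
  have hA2 : ∀ y : Multiplicative F, y * y = 1 := by
    intro y
    have : Multiplicative.toAdd y + Multiplicative.toAdd y = 0 := add_self σ _
    exact this
  have hA : Nat.card (Multiplicative F) = 4 := by
    rw [Nat.card_eq_fintype_card, Fintype.card_multiplicative, hF]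
  -- surjectivity
  let g0 : Cfsg.PSU 3 F 2 := QuotientGroup.mk (ofF4 σ m0 m0_unitary m0_det)
  let g1 : Cfsg.PSU 3 F 2 := QuotientGroup.mk (ofF4 σ m1 m1_unitary m1_det)
  have hg0 : χb g0 = Multiplicative.ofAdd (σ.symm w) := by
    show χb (QuotientGroup.mk _) = _
    rw [hχb, chi_ofF4]
    rfl
  have hg1 : χb g1 = Multiplicative.ofAdd (σ.symm v) := by
    show χb (QuotientGroup.mk _) = _
    rw [hχb, chi_ofF4]
    rfl
  have key : ∀ t : F4, ∃ g, χb g = Multiplicative.ofAdd (σ.symm t) := by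
    intro t
    cases t
    · refine ⟨1, ?_⟩
      rw [map_one]
      show (1 : Multiplicative F) = Multiplicative.ofAdd (σ.symm 0)
      rw [map_zero]
      rfl
    · refine ⟨g0 * g1, ?_⟩
      rw [map_mul, hg0, hg1, ← ofAdd_add, ← map_add]
      rfl
    · exact ⟨g0, hg0⟩
    · exact ⟨g1, hg1⟩
  have hsurj : Function.Surjective χb := by
    intro y
    obtain ⟨g, hg⟩ := key (σ (Multiplicative.toAdd y))
    refine ⟨g, ?_⟩
    rw [hg, σ.symm_apply_apply]
    rfl
  -- the two elements of order 3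
  let X : Cfsg.SU 3 F 2 := ofF4 σ xm xm_unitary xm_det
  let Z : Cfsg.SU 3 F 2 := ofF4 σ d0 d0_unitary d0_det
  have hX3 : X ^ 3 = 1 := ofF4_pow_three σ xm _ _ (by decide)
  have hZ3 : Z ^ 3 = 1 := ofF4_pow_three σ d0 _ _ (by decide)
  let a : Cfsg.PSU 3 F 2 := QuotientGroup.mk X
  let b : Cfsg.PSU 3 F 2 := QuotientGroup.mk Z
  have ha3 : a ^ 3 = 1 := by
    show (QuotientGroup.mk X : Cfsg.PSU 3 F 2) ^ 3 = 1
    rw [← QuotientGroup.mk_pow, hX3]; rfl
  have hb3 : b ^ 3 = 1 := by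
    show (QuotientGroup.mk Z : Cfsg.PSU 3 F 2) ^ 3 = 1
    rw [← QuotientGroup.mk_pow, hZ3]; rfl
  have ha1 : a ≠ 1 := by
    intro h
    have h' : X ∈ Subgroup.center (Cfsg.SU 3 F 2) := (QuotientGroup.eq_one_iff X).mp h
    exact not_central_of_offdiag σ X 1 0 (by decide) 1 (by decide) (mat_ofF4 σ xm _ _ 1 0) h'
  have hb1 : b ≠ 1 := by
    intro h
    have h' : Z ∈ Subgroup.center (Cfsg.SU 3 F 2) := (QuotientGroup.eq_one_iff Z).mp h
    rw [Subgroup.mem_center_iff] at h'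
    have h2 := congrArg (fun s => mat s 1 0) (h' X)
    simp only [X, Z] at h2
    rw [mat_mul2, mat_mul2] at h2
    have h3 := σ.symm.injective h2
    revert h3
    decide
  have hba : b ≠ a := by
    intro h
    have h1 : b * a * a = 1 := by
      rw [h, ← pow_two, ← pow_succ]; exact ha3
    have h' : Z * X * X ∈ Subgroup.center (Cfsg.SU 3 F 2) := (QuotientGroup.eq_one_iff _).mp h1
    refine not_central_of_offdiag σ _ 2 0 (by decide) ((d0 * xm * xm) 2 0) (by decide) ?_ h'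
    exact mat_mul3 σ d0 xm xm _ _ _ _ _ _ 2 0
  have hba2 : b ≠ a ^ 2 := by
    intro h
    have h1 : b * a = 1 := by
      rw [h, ← pow_succ]; exact ha3
    have h' : Z * X ∈ Subgroup.center (Cfsg.SU 3 F 2) := (QuotientGroup.eq_one_iff _).mp h1
    refine not_central_of_offdiag σ _ 1 0 (by decide) ((d0 * xm) 1 0) (by decide) ?_ h'
    exact mat_mul2 σ d0 xm _ _ _ _ 1 0
  exact Cfsg.Agent.Lib.Helper48.U32.main_abstract hA hA2 χb hsurj hcard hinv a b ha3 hb3 ha1 hb1
    hba hba2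

end Cfsg.Agent.S0827
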