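import Cfsg.Statements.S0828
import Cfsg.Agent.Lib.Helper51.Lines3
import Cfsg.Agent.Lib.Helper51.Lines4

set_option autoImplicit false
open Cfsg

namespace Cfsg.Agent.S0828

theorem second_count {F : Type*} [Field F] [Fintype F] {q : ℕ} (hF : Fintype.card F = q)
    (v : Fin 2 ⊕ Fin 2 → F) (hv : v ≠ 0) :
    Nat.card {w : Fin 2 ⊕ Fin 2 → F // w ∉ Submodule.span F {v} ∧
      (∀ u ∈ Submodule.span F {v, w}, ∀ u' ∈ Submodule.span F {v, w},
        Cfsg.sympForm 2 F u u' = 0)} = q ^ 3 - q := by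
  rw [← Cfsg.Agent.Lib.Helper51.card_symp_perp_diff (m := 2) hF v hv]
  apply Nat.card_congr
  apply Equiv.subtypeEquivRight
  intro w
  rw [Cfsg.Agent.Lib.Helper51.sympForm_span_pair]

theorem arith1 (q N : ℕ) (hq : 2 ≤ q)
    (h : (q ^ 4 - 1) * (q ^ 3 - q) = N * ((q ^ 2 - 1) * (q ^ 2 - q))) :
    N = (q + 1) * (q ^ 2 + 1) := by
  have h1 : 1 ≤ q ^ 4 := Nat.one_le_pow _ _ (by omega)
  have h2 : q ≤ q ^ 3 := by nlinarith [Nat.one_le_pow 2 q (by omega)]
  have h3 : 1 ≤ q ^ 2 := Nat.one_le_pow _ _ (by omega)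
  have h4 : q ≤ q ^ 2 := by nlinarith
  have hpos : 0 < (q ^ 2 - 1) * (q ^ 2 - q) := by
    apply Nat.mul_pos
    · have : 4 ≤ q ^ 2 := by nlinarith
      omega
    · have : q < q ^ 2 := by nlinarith
      omega
  apply Nat.eq_of_mul_eq_mul_right hpos
  rw [← h]
  zify [h1, h2, h3, h4]
  ring

theorem arith2 (q N : ℕ) (hq : 2 ≤ q) (h : q ^ 3 - q = N * (q ^ 2 - q)) : N = q + 1 := by
  have h2 : q ≤ q ^ 3 := by nlinarith [Nat.one_le_pow 2 q (by omega)]
  have h4 : q ≤ q ^ 2 := by nlinarith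
  have hpos : 0 < q ^ 2 - q := by
    have : q < q ^ 2 := by nlinarith
    omega
  apply Nat.eq_of_mul_eq_mul_right hpos
  rw [← h]
  zify [h2, h4]
  ring

/-- The symplectic generalised quadrangle over a field with q elements: the number of 2-dimensional subspaces of F^4 on which the symplectic form vanishes is (q + 1)(q² + 1), and every non-zero vector lies in exactly q + 1 of them. -/
theorem result {F : Type*} [Field F] [Fintype F] {q : ℕ} (hF : Fintype.card F = q) : Nat.card {W : Submodule F (Fin 2 ⊕ Fin 2 → F) // Module.finrank F W = 2 ∧ ∀ u ∈ W, ∀ v ∈ W, Cfsg.sympForm 2 F u v = 0} = (q + 1) * (q ^ 2 + 1) ∧ ∀ v : Fin 2 ⊕ Fin 2 → F, v ≠ 0 → Nat.card {W : Submodule F (Fin 2 ⊕ Fin 2 → F) // Module.finrank F W = 2 ∧ v ∈ W ∧ ∀ u ∈ W, ∀ w ∈ W, Cfsg.sympForm 2 F u w = 0} = q + 1 := by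
  classical
  have hq : 2 ≤ q := by rw [← hF]; exact Fintype.one_lt_card
  constructor
  · have h1 := Cfsg.Agent.Lib.Helper51.card_pairs_eq_card_lines (K := F) (V := Fin 2 ⊕ Fin 2 → F)
      (fun W => ∀ u ∈ W, ∀ v ∈ W, Cfsg.sympForm 2 F u v = 0)
    have h2 := Cfsg.Agent.Lib.Helper51.card_pairs_eq_card_sigma (K := F) (V := Fin 2 ⊕ Fin 2 → F)
      (fun W => ∀ u ∈ W, ∀ v ∈ W, Cfsg.sympForm 2 F u v = 0)
    rw [h2, Nat.card_sigma] at h1
    have h3 : ∀ v : {v : Fin 2 ⊕ Fin 2 → F // v ≠ 0},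
        Nat.card {w : Fin 2 ⊕ Fin 2 → F // w ∉ Submodule.span F {v.1} ∧
          (∀ u ∈ Submodule.span F {v.1, w}, ∀ u' ∈ Submodule.span F {v.1, w},
            Cfsg.sympForm 2 F u u' = 0)} = q ^ 3 - q := fun v => second_count hF v.1 v.2
    rw [Finset.sum_congr rfl (fun v _ => h3 v), Finset.sum_const, Finset.card_univ, smul_eq_mul] at h1
    have h4 : Fintype.card {v : Fin 2 ⊕ Fin 2 → F // v ≠ 0} = q ^ 4 - 1 := by
      rw [Fintype.card_subtype_compl, Fintype.card_fun, hF, Fintype.card_sum, Fintype.card_fin]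
      simp
    rw [h4, hF] at h1
    exact arith1 q _ hq h1
  · intro v hv
    have h1 := Cfsg.Agent.Lib.Helper51.card_second_eq_card_lines_through (K := F)
      (V := Fin 2 ⊕ Fin 2 → F) (fun W => ∀ u ∈ W, ∀ v ∈ W, Cfsg.sympForm 2 F u v = 0) v hv
    rw [second_count hF v hv, hF] at h1
    exact arith2 q _ hq h1

end Cfsg.Agent.S0828
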