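import Cfsg.Statements.S0829
import Cfsg.Agent.Lib.Helper51.Herm4

set_option autoImplicit false
open Cfsg

namespace Cfsg.Agent.S0829



/-- The unitary quadrangle of PSU_4(q): with |F| = q², the number of 2-dimensional subspaces of F^4 on which the Hermitian form Σ x_i y_i^q vanishes is (q + 1)(q³ + 1). -/
theorem result {F : Type*} [Field F] [Fintype F] {q : ℕ} (hF : Fintype.card F = q ^ 2) : Nat.card {W : Submodule F (Fin 4 → F) // Module.finrank F W = 2 ∧ ∀ u ∈ W, ∀ v ∈ W, Cfsg.hermForm 4 F q u v = 0} = (q + 1) * (q ^ 3 + 1) := by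
  have hq : 2 ≤ q := Cfsg.Agent.Lib.Helper99.herm_q_ge_two hF
  have hq0 : (q : ℤ) ≠ 0 := by
    have : (0 : ℤ) < q := by exact_mod_cast (by omega : 0 < q)
    exact this.ne'
  have h2q : (2 : ℤ) ≤ q := by exact_mod_cast hq
  obtain ⟨A4, hA4, hI4⟩ := Cfsg.Agent.Lib.Helper51.card_isotropic_int hF 4
  obtain ⟨A2, hA2, hI2⟩ := Cfsg.Agent.Lib.Helper51.card_isotropic_int hF 2
  have hZ := Cfsg.Agent.Lib.Helper51.card_ti_lines_int hF 2
    (Nat.card {W : Submodule F (Fin 4 → F) // Module.finrank F W = 2 ∧ ∀ u ∈ W, ∀ v ∈ W, Cfsg.hermForm 4 F q u v = 0})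
    (Nat.card {u : Fin 2 → F // Cfsg.Agent.Lib.Helper08.hform (Fin 2) F q u u = 0})
    (Nat.card {v : Fin 4 → F // Cfsg.Agent.Lib.Helper08.hform (Fin 4) F q v v = 0}) rfl rfl rfl
  have hA4' : A4 = (q : ℤ) ^ 3 * ((q : ℤ) ^ 4 - 1) := by
    apply mul_left_cancel₀ hq0
    rw [hA4]; ring
  have hA2' : A2 = (q : ℤ) * ((q : ℤ) ^ 2 - 1) := by
    apply mul_left_cancel₀ hq0
    rw [hA2]; ring
  rw [hI4, hI2, hA4', hA2'] at hZ
  have hfin := Cfsg.Agent.Lib.Helper51.arith_lines_aux (q : ℤ) _ (((q : ℤ) ^ 3 + 1) * ((q : ℤ) + 1))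
    ((q : ℤ) ^ 3 + 1) ((q : ℤ) + 1) h2q (by rw [hZ]; ring) rfl
  have : ((Nat.card {W : Submodule F (Fin 4 → F) // Module.finrank F W = 2 ∧ ∀ u ∈ W, ∀ v ∈ W, Cfsg.hermForm 4 F q u v = 0} : ℕ) : ℤ) = (((q + 1) * (q ^ 3 + 1) : ℕ) : ℤ) := by
    rw [hfin]; push_cast; ring
  exact_mod_cast this

end Cfsg.Agent.S0829
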