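import Cfsg.Statements.S0831
import Cfsg.Agent.Lib.Helper50.MaxSingular
import Cfsg.Agent.Lib.Helper50.TwoFamilies

set_option autoImplicit false
open Cfsg

namespace Cfsg.Agent.S0831

/-- The two families of maximal totally singular subspaces of the hyperbolic quadric: for the form Σ x_i y_i on F^(2m), m ≥ 1, and m-dimensional subspaces U, W, X on which it vanishes, the parities of m − dim(U ∩ W), m − dim(W ∩ X) and m − dim(U ∩ X) sum to an even number (so 'even codimension of the intersection' is an equivalence relation), and there exist two such subspaces meeting in codimension 1 (so there are exactly two classes). -/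
theorem result {F : Type*} [Field F] (m : ℕ) (hm : 1 ≤ m) : (∀ U W X : Submodule F (Fin m ⊕ Fin m → F), (Module.finrank F U = m ∧ ∀ w ∈ U, Cfsg.quadFormPlus m F w = 0) → (Module.finrank F W = m ∧ ∀ w ∈ W, Cfsg.quadFormPlus m F w = 0) → (Module.finrank F X = m ∧ ∀ w ∈ X, Cfsg.quadFormPlus m F w = 0) → Even ((m - Module.finrank F ↥(U ⊓ W)) + (m - Module.finrank F ↥(W ⊓ X)) + (m - Module.finrank F ↥(U ⊓ X)))) ∧ ∃ U W : Submodule F (Fin m ⊕ Fin m → F), (Module.finrank F U = m ∧ ∀ w ∈ U, Cfsg.quadFormPlus m F w = 0) ∧ (Module.finrank F W = m ∧ ∀ w ∈ W, Cfsg.quadFormPlus m F w = 0) ∧ Module.finrank F ↥(U ⊓ W) + 1 = m := by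
  have hdet : (Matrix.fromBlocks (0 : Matrix (Fin m) (Fin m) F) (1 : Matrix (Fin m) (Fin m) F)
        (1 : Matrix (Fin m) (Fin m) F) (0 : Matrix (Fin m) (Fin m) F)).det ≠ 0 := by
    rw [Cfsg.Agent.Lib.Helper50.det_hyp, Fintype.card_fin]
    exact pow_ne_zero _ (neg_ne_zero.mpr one_ne_zero)
  have hnd := Cfsg.Agent.Lib.Helper50.qfOfPolar_nondegenerate (Cfsg.quadFormPlus m F) _
    (Cfsg.Agent.Lib.Helper50.quadFormPlus_smul m)
    (Cfsg.Agent.Lib.Helper50.polar_quadFormPlus m) hdet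
  have hV : Module.finrank F (Fin m ⊕ Fin m → F) = 2 * m := by
    rw [Module.finrank_fintype_fun_eq_card, Fintype.card_sum, Fintype.card_fin]; ring
  constructor
  · intro U W X hU hW hX
    exact Cfsg.Agent.Lib.Helper50.TF.even_triple
      (Cfsg.Agent.Lib.Helper50.qfOfPolar (Cfsg.quadFormPlus m F) _
        (Cfsg.Agent.Lib.Helper50.quadFormPlus_smul m)
        (Cfsg.Agent.Lib.Helper50.polar_quadFormPlus m)) hnd m hV
      hU.2 hU.1 hW.2 hW.1 hX.2 hX.1
  · obtain ⟨k, rfl⟩ : ∃ k, m = k + 1 := ⟨m - 1, by omega⟩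
    refine ⟨Cfsg.Agent.Lib.Helper50.coordSub (Cfsg.Agent.Lib.Helper50.setY k),
      Cfsg.Agent.Lib.Helper50.coordSub (Cfsg.Agent.Lib.Helper50.setZ k),
      ⟨Cfsg.Agent.Lib.Helper50.finrank_Y k, Cfsg.Agent.Lib.Helper50.Y_singular k⟩,
      ⟨Cfsg.Agent.Lib.Helper50.finrank_Z k, Cfsg.Agent.Lib.Helper50.Z_singular k⟩, ?_⟩
    have : Cfsg.Agent.Lib.Helper50.coordSub (F := F) (Cfsg.Agent.Lib.Helper50.setY k) ⊓
        Cfsg.Agent.Lib.Helper50.coordSub (Cfsg.Agent.Lib.Helper50.setZ k) =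
        Cfsg.Agent.Lib.Helper50.coordSub (Cfsg.Agent.Lib.Helper50.setU k) := by
      apply le_antisymm
      · intro v hv i hi
        rcases hi with hi | hi
        · exact hv.1 i hi
        · exact hv.2 i (Or.inl hi)
      · exact le_inf (Cfsg.Agent.Lib.Helper50.U_le_Y k) (Cfsg.Agent.Lib.Helper50.U_le_Z k)
    rw [this, Cfsg.Agent.Lib.Helper50.finrank_U]

end Cfsg.Agent.S0831
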