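import Cfsg.Statements.S0832
import Cfsg.Agent.Lib.Helper50.MaxSingular

set_option autoImplicit false
open Cfsg

namespace Cfsg.Agent.S0832

/-- For the form Σ x_i y_i on F^(2m) over a finite field, m ≥ 1: an (m−1)-dimensional subspace on which the form vanishes is contained in exactly two m-dimensional subspaces on which it vanishes. -/
theorem result {F : Type*} [Field F] [Finite F] (m : ℕ) (hm : 1 ≤ m) (U : Submodule F (Fin m ⊕ Fin m → F)) (hU : Module.finrank F U + 1 = m ∧ ∀ u ∈ U, Cfsg.quadFormPlus m F u = 0) : Nat.card {W : Submodule F (Fin m ⊕ Fin m → F) // Module.finrank F W = m ∧ (∀ w ∈ W, Cfsg.quadFormPlus m F w = 0) ∧ U ≤ W} = 2 := by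
  obtain ⟨k, rfl⟩ : ∃ k, m = k + 1 := ⟨m - 1, by omega⟩
  obtain ⟨hUd, hUs⟩ := hU
  have hUd' : Module.finrank F U = k := by omega
  have hdet : (Matrix.fromBlocks (0 : Matrix (Fin (k + 1)) (Fin (k + 1)) F) (1 : Matrix (Fin (k + 1)) (Fin (k + 1)) F)
        (1 : Matrix (Fin (k + 1)) (Fin (k + 1)) F) (0 : Matrix (Fin (k + 1)) (Fin (k + 1)) F)).det ≠ 0 := by
    rw [Cfsg.Agent.Lib.Helper50.det_hyp, Fintype.card_fin]
    exact pow_ne_zero _ (neg_ne_zero.mpr one_ne_zero)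
  have hnd := Cfsg.Agent.Lib.Helper50.qfOfPolar_nondegenerate (Cfsg.quadFormPlus (k + 1) F) _
    (Cfsg.Agent.Lib.Helper50.quadFormPlus_smul (k + 1))
    (Cfsg.Agent.Lib.Helper50.polar_quadFormPlus (k + 1)) hdet
  let φ : ↥(Cfsg.Agent.Lib.Helper50.coordSub (F := F) (Cfsg.Agent.Lib.Helper50.setU k)) ≃ₗ[F] ↥U :=
    LinearEquiv.ofFinrankEq _ _ (by rw [Cfsg.Agent.Lib.Helper50.finrank_U, hUd'])
  obtain ⟨g, hg, hgφ⟩ := Cfsg.Agent.S0750.result
    (Cfsg.Agent.Lib.Helper50.qfOfPolar (Cfsg.quadFormPlus (k + 1) F) _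
      (Cfsg.Agent.Lib.Helper50.quadFormPlus_smul (k + 1))
      (Cfsg.Agent.Lib.Helper50.polar_quadFormPlus (k + 1))) hnd _ U φ (by
      intro x
      change Cfsg.quadFormPlus (k + 1) F _ = Cfsg.quadFormPlus (k + 1) F _
      rw [hUs _ (φ x).2, Cfsg.Agent.Lib.Helper50.Y_singular k _
        (Cfsg.Agent.Lib.Helper50.U_le_Y k x.2)])
  have hUmap : U = (Cfsg.Agent.Lib.Helper50.coordSub (F := F)
      (Cfsg.Agent.Lib.Helper50.setU k)).map (g : _ →ₗ[F] _) := by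
    ext u
    rw [Submodule.mem_map]
    constructor
    · intro hu
      refine ⟨(φ.symm ⟨u, hu⟩ : _), (φ.symm ⟨u, hu⟩).2, ?_⟩
      rw [LinearEquiv.coe_coe, hgφ, LinearEquiv.apply_symm_apply]
    · rintro ⟨x, hx, rfl⟩
      rw [LinearEquiv.coe_coe]
      have := hgφ ⟨x, hx⟩
      rw [this]
      exact (φ ⟨x, hx⟩).2
  rw [hUmap]
  rw [Cfsg.Agent.Lib.Helper50.card_ts_map (Cfsg.quadFormPlus (k + 1) F) g hg]
  exact Cfsg.Agent.Lib.Helper50.card_ts_standard k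

end Cfsg.Agent.S0832
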