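import Cfsg.Statements.S0833
import Mathlib
import Cfsg.Agent.Lib.Helper20.Lagrangian

set_option autoImplicit false
open Cfsg
open Cfsg.Agent.Lib.Helper20

namespace Cfsg.Agent.S0833

open Module TensorProduct
open scoped Kronecker

theorem tmul_apply_tmul {F U W : Type*} [Field F] [AddCommGroup U] [Module F U]
    [AddCommGroup W] [Module F W] (B₁ : LinearMap.BilinForm F U) (B₂ : LinearMap.BilinForm F W)
    (u u' : U) (w w' : W) :
    (B₁.tmul B₂) (u ⊗ₜ[F] w) (u' ⊗ₜ[F] w') = B₁ u u' * B₂ w w' := by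
  rw [LinearMap.BilinForm.tmul, LinearMap.BilinForm.tensorDistrib_tmul, smul_eq_mul, mul_comm]

/-- symmetry of the tensor product of two alternating forms -/
theorem tmul_isSymm_of_isAlt {F U W : Type*} [Field F] [AddCommGroup U] [Module F U]
    [AddCommGroup W] [Module F W] (B₁ : LinearMap.BilinForm F U) (B₂ : LinearMap.BilinForm F W)
    (hA₁ : B₁.IsAlt) (hA₂ : B₂.IsAlt) : (B₁.tmul B₂).IsSymm := by
  rw [LinearMap.isSymm_iff_eq_flip]
  apply TensorProduct.ext'
  intro u w
  apply TensorProduct.ext'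
  intro u' w'
  rw [LinearMap.flip_apply, tmul_apply_tmul, tmul_apply_tmul, ← hA₁.neg_eq u u', ← hA₂.neg_eq w w']
  ring

/-- nondegeneracy of the tensor product of nondegenerate forms -/
theorem tmul_nondegenerate {F U W : Type*} [Field F] [AddCommGroup U] [Module F U]
    [FiniteDimensional F U] [AddCommGroup W] [Module F W] [FiniteDimensional F W]
    (B₁ : LinearMap.BilinForm F U) (B₂ : LinearMap.BilinForm F W)
    (h₁ : B₁.Nondegenerate) (h₂ : B₂.Nondegenerate) : (B₁.tmul B₂).Nondegenerate := by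
  classical
  let bU := Module.finBasis F U
  let bW := Module.finBasis F W
  let b := bU.tensorProduct bW
  apply (LinearMap.BilinForm.nondegenerate_iff_det_ne_zero b).mpr
  have hmat : LinearMap.BilinForm.toMatrix b (B₁.tmul B₂) =
      (LinearMap.BilinForm.toMatrix bU B₁) ⊗ₖ (LinearMap.BilinForm.toMatrix bW B₂) := by
    ext ⟨i, j⟩ ⟨i', j'⟩
    rw [LinearMap.BilinForm.toMatrix_apply, Matrix.kroneckerMap_apply,
      LinearMap.BilinForm.toMatrix_apply, LinearMap.BilinForm.toMatrix_apply]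
    show (B₁.tmul B₂) (bU.tensorProduct bW (i, j)) (bU.tensorProduct bW (i', j')) = _
    rw [Basis.tensorProduct_apply, Basis.tensorProduct_apply, tmul_apply_tmul]
  rw [hmat]
  have := Matrix.det_kronecker (LinearMap.BilinForm.toMatrix bU B₁)
    (LinearMap.BilinForm.toMatrix bW B₂)
  rw [this]
  apply mul_ne_zero
  · exact pow_ne_zero _ ((LinearMap.BilinForm.nondegenerate_iff_det_ne_zero bU).mp h₁)
  · exact pow_ne_zero _ ((LinearMap.BilinForm.nondegenerate_iff_det_ne_zero bW).mp h₂)

/-- from a totally isotropic subspace `L` of `U`, the image of `L ⊗ W` is totally isotropic -/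
theorem exists_isotropic_tensor {F U W : Type*} [Field F] [AddCommGroup U] [Module F U]
    [FiniteDimensional F U] [AddCommGroup W] [Module F W] [FiniteDimensional F W]
    (B₁ : LinearMap.BilinForm F U) (B₂ : LinearMap.BilinForm F W) (L : Submodule F U)
    (hL : ∀ x ∈ L, ∀ y ∈ L, B₁ x y = 0) :
    ∃ X : Submodule F (U ⊗[F] W), finrank F X = finrank F L * finrank F W ∧
      ∀ x ∈ X, ∀ y ∈ X, (B₁.tmul B₂) x y = 0 := by
  have hinj : Function.Injective (LinearMap.rTensor W L.subtype) :=
    Module.Flat.rTensor_preserves_injective_linearMap L.subtype L.injective_subtype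
  refine ⟨LinearMap.range (LinearMap.rTensor W L.subtype), ?_, ?_⟩
  · rw [LinearMap.finrank_range_of_inj hinj, Module.finrank_tensorProduct]
  · rintro _ ⟨x, rfl⟩ _ ⟨y, rfl⟩
    induction x using TensorProduct.induction_on with
    | zero => simp
    | tmul u w =>
      induction y using TensorProduct.induction_on with
      | zero => simp
      | tmul u' w' =>
        rw [LinearMap.rTensor_tmul, LinearMap.rTensor_tmul, tmul_apply_tmul]
        have : B₁ (L.subtype u) (L.subtype u') = 0 := hL _ u.2 _ u'.2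
        rw [this, zero_mul]
      | add y₁ y₂ h₁ h₂ => rw [map_add, map_add, h₁, h₂, add_zero]
    | add x₁ x₂ h₁ h₂ => rw [map_add, map_add, LinearMap.add_apply, h₁, h₂, add_zero]

/-- If B₁, B₂ are non-degenerate alternating forms on U (dim 2k) and W (dim 2l), then B₁ ⊗ B₂ on U ⊗ W is symmetric, non-degenerate, and vanishes identically on some subspace of dimension 2kl (half of dim U ⊗ W). -/
theorem result {F U W : Type*} [Field F] [Fintype F] [AddCommGroup U] [Module F U] [FiniteDimensional F U] [AddCommGroup W] [Module F W] [FiniteDimensional F W] (B₁ : LinearMap.BilinForm F U) (B₂ : LinearMap.BilinForm F W) (h₁ : B₁.Nondegenerate) (h₂ : B₂.Nondegenerate) (hA₁ : B₁.IsAlt) (hA₂ : B₂.IsAlt) (k l : ℕ) (hU : Module.finrank F U = 2 * k) (hW : Module.finrank F W = 2 * l) : (B₁.tmul B₂).IsSymm ∧ (B₁.tmul B₂).Nondegenerate ∧ (∃ X : Submodule F (TensorProduct F U W), Module.finrank F X = 2 * k * l ∧ ∀ x ∈ X, ∀ y ∈ X, (B₁.tmul B₂) x y = 0) := by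
  refine ⟨tmul_isSymm_of_isAlt B₁ B₂ hA₁ hA₂, tmul_nondegenerate B₁ B₂ h₁ h₂, ?_⟩
  obtain ⟨L, hLk, hLiso⟩ := exists_lagrangian B₁ h₁ hA₁ k hU
  obtain ⟨X, hX, hXiso⟩ := exists_isotropic_tensor B₁ B₂ L hLiso
  refine ⟨X, ?_, hXiso⟩
  rw [hX, hLk, hW]
  ring

end Cfsg.Agent.S0833
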