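import Cfsg.Statements.S0834
import Cfsg.Agent.Lib.Helper50.TensorForm

set_option autoImplicit false
open Cfsg

namespace Cfsg.Agent.S0834

open Cfsg.Agent.Lib.Helper50 QuadraticMap Module
open scoped TensorProduct

/-- Over a finite field with 2 ≠ 0: if B₁ on U (dim 2k, k ≥ 1) and B₂ on W (dim 2l, l ≥ 1) are non-degenerate symmetric forms admitting no totally isotropic subspaces of dimensions k, resp. l (minus type), then B₁ ⊗ B₂ admits a totally isotropic subspace of dimension 2kl (plus type). -/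
theorem result {F U W : Type*} [Field F] [Fintype F] [AddCommGroup U] [Module F U] [FiniteDimensional F U] [AddCommGroup W] [Module F W] [FiniteDimensional F W] (h2 : (2 : F) ≠ 0) (B₁ : LinearMap.BilinForm F U) (B₂ : LinearMap.BilinForm F W) (h₁ : B₁.Nondegenerate) (h₂ : B₂.Nondegenerate) (hS₁ : B₁.IsSymm) (hS₂ : B₂.IsSymm) (k l : ℕ) (hk : 1 ≤ k) (hl : 1 ≤ l) (hU : Module.finrank F U = 2 * k) (hW : Module.finrank F W = 2 * l) (hm₁ : ¬ (∃ X : Submodule F (U), Module.finrank F X = k ∧ ∀ x ∈ X, ∀ y ∈ X, (B₁) x y = 0)) (hm₂ : ¬ (∃ X : Submodule F (W), Module.finrank F X = l ∧ ∀ x ∈ X, ∀ y ∈ X, (B₂) x y = 0)) : (∃ X : Submodule F (TensorProduct F U W), Module.finrank F X = 2 * k * l ∧ ∀ x ∈ X, ∀ y ∈ X, (B₁.tmul B₂) x y = 0) := by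
  classical
  have hS : LinearMap.BilinForm.IsSymm (B₁.tmul B₂) :=
    LinearMap.BilinForm.isSymm_iff.mpr (LinearMap.IsSymm.tmul
      (LinearMap.BilinForm.isSymm_iff.mp hS₁) (LinearMap.BilinForm.isSymm_iff.mp hS₂))
  have hN : (B₁.tmul B₂).Nondegenerate := nondegenerate_tmul B₁ B₂ h₁ h₂
  have hQ : QND (symQ (B₁.tmul B₂)) := QND_symQ h2 _ hS hN
  have hdim : Module.finrank F (U ⊗[F] W) = 2 * (2 * k * l) := by
    rw [Module.finrank_tensorProduct, hU, hW]; ring
  let b₁ : Basis (Fin (2 * k)) F U := Module.finBasisOfFinrankEq F U hU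
  let b₂ : Basis (Fin (2 * l)) F W := Module.finBasisOfFinrankEq F W hW
  have hdet : IsSquare (Matrix.of fun i j => polar (symQ (B₁.tmul B₂))
      ((b₁.tensorProduct b₂) i) ((b₁.tensorProduct b₂) j)).det := by
    rw [gram_symQ _ hS, det_toMatrix_tmul]
    simp only [Fintype.card_prod, Fintype.card_fin]
    refine ⟨2 ^ (2 * k * l) * (LinearMap.BilinForm.toMatrix b₁ B₁).det ^ l *
      (LinearMap.BilinForm.toMatrix b₂ B₂).det ^ k, ?_⟩
    ring
  rcases witt_type (2 * (2 * k * l)) (symQ (B₁.tmul B₂)) hdim hQ with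
    ⟨m, hm, hp⟩ | ⟨m, ζ, hm, hζ, hp⟩ | ⟨m, c, hm, hc, hp⟩
  · obtain rfl : m = 2 * k * l := by omega
    obtain ⟨X, hX, hX0⟩ := exists_totally_singular_of_plusType _ _ hp
    exact ⟨X, hX, symQ_isotropic h2 _ hS X hX0⟩
  · exfalso
    have h1 := (gram_isSquare_minus h2 _ m ζ hζ hp (b₁.tensorProduct b₂)).mp hdet
    apply h1
    have e : 2 * k * l = 2 * (k * l) := by ring
    rw [e] at hm
    have : m + 1 = 2 * (k * l) := by omega
    rw [this, pow_mul]
    exact ⟨1, by simp⟩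
  · omega

end Cfsg.Agent.S0834
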