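import Cfsg.Statements.S0835
import Cfsg.Agent.Lib.Helper50.TensorForm

set_option autoImplicit false
open Cfsg

namespace Cfsg.Agent.S0835

open Cfsg.Agent.Lib.Helper50 QuadraticMap Module
open scoped TensorProduct

/-- Over a finite field with 2 ≠ 0: if B₁ on U (dim 2k, k ≥ 1) is non-degenerate symmetric of minus type (no totally isotropic k-subspace) and B₂ on W (dim 2l + 1) is non-degenerate symmetric, then B₁ ⊗ B₂ (dimension 2k(2l+1)) admits no totally isotropic subspace of dimension k(2l+1) (minus type). -/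
theorem result {F U W : Type*} [Field F] [Fintype F] [AddCommGroup U] [Module F U] [FiniteDimensional F U] [AddCommGroup W] [Module F W] [FiniteDimensional F W] (h2 : (2 : F) ≠ 0) (B₁ : LinearMap.BilinForm F U) (B₂ : LinearMap.BilinForm F W) (h₁ : B₁.Nondegenerate) (h₂ : B₂.Nondegenerate) (hS₁ : B₁.IsSymm) (hS₂ : B₂.IsSymm) (k l : ℕ) (hk : 1 ≤ k) (hU : Module.finrank F U = 2 * k) (hW : Module.finrank F W = 2 * l + 1) (hm₁ : ¬ (∃ X : Submodule F (U), Module.finrank F X = k ∧ ∀ x ∈ X, ∀ y ∈ X, (B₁) x y = 0)) : ¬ (∃ X : Submodule F (TensorProduct F U W), Module.finrank F X = k * (2 * l + 1) ∧ ∀ x ∈ X, ∀ y ∈ X, (B₁.tmul B₂) x y = 0) := by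
  classical
  rintro ⟨X, hXdim, hX⟩
  have hS : LinearMap.BilinForm.IsSymm (B₁.tmul B₂) :=
    LinearMap.BilinForm.isSymm_iff.mpr (LinearMap.IsSymm.tmul
      (LinearMap.BilinForm.isSymm_iff.mp hS₁) (LinearMap.BilinForm.isSymm_iff.mp hS₂))
  have hN : (B₁.tmul B₂).Nondegenerate := nondegenerate_tmul B₁ B₂ h₁ h₂
  have hQ : QND (symQ (B₁.tmul B₂)) := QND_symQ h2 _ hS hN
  have hQ₁ : QND (symQ B₁) := QND_symQ h2 _ hS₁ h₁
  have hdim : Module.finrank F (U ⊗[F] W) = 2 * (k * (2 * l + 1)) := by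
    rw [Module.finrank_tensorProduct, hU, hW]; ring
  let b₁ : Basis (Fin (2 * k)) F U := Module.finBasisOfFinrankEq F U hU
  let b₂ : Basis (Fin (2 * l + 1)) F W := Module.finBasisOfFinrankEq F W hW
  have hd₁ : (LinearMap.BilinForm.toMatrix b₁ B₁).det ≠ 0 :=
    (LinearMap.BilinForm.nondegenerate_iff_det_ne_zero b₁).mp h₁
  have hd₂ : (LinearMap.BilinForm.toMatrix b₂ B₂).det ≠ 0 :=
    (LinearMap.BilinForm.nondegenerate_iff_det_ne_zero b₂).mp h₂
  -- the tensor product is of plus type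
  have hplus : IsPlusType (symQ (B₁.tmul B₂)) (k * (2 * l + 1)) :=
    plusType_of_totally_singular _ _ hQ hdim X (le_of_eq hXdim.symm)
      (fun x hx => by rw [symQ_apply]; exact hX x hx x hx)
  have hsq₁ := gram_isSquare_plus _ _ hplus (b₁.tensorProduct b₂)
  rw [gram_symQ _ hS, det_toMatrix_tmul] at hsq₁
  simp only [Fintype.card_prod, Fintype.card_fin] at hsq₁
  have e1 : (2 : F) ^ (2 * k * (2 * l + 1)) *
      ((LinearMap.BilinForm.toMatrix b₁ B₁).det ^ (2 * l + 1) *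
        (LinearMap.BilinForm.toMatrix b₂ B₂).det ^ (2 * k)) =
      (2 ^ (k * (2 * l + 1)) * (LinearMap.BilinForm.toMatrix b₁ B₁).det ^ l *
        (LinearMap.BilinForm.toMatrix b₂ B₂).det ^ k) ^ 2 *
        (LinearMap.BilinForm.toMatrix b₁ B₁).det := by ring
  rw [e1, isSquare_sq_mul_iff (mul_ne_zero (mul_ne_zero (pow_ne_zero _ h2) (pow_ne_zero _ hd₁))
    (pow_ne_zero _ hd₂))] at hsq₁
  have e2 : ((-1 : F) ^ (k * (2 * l + 1))) = (-1) ^ k := by
    rw [pow_mul, pow_succ, pow_mul]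
    rcases Nat.even_or_odd k with hk' | hk'
    · simp [hk'.neg_one_pow]
    · simp [hk'.neg_one_pow]
  rw [e2] at hsq₁
  -- the type of U
  rcases witt_type (2 * k) (symQ B₁) hU hQ₁ with
    ⟨m, hm, hp⟩ | ⟨m, ζ, hm, hζ, hp⟩ | ⟨m, c, hm, hc, hp⟩
  · obtain rfl : m = k := by omega
    obtain ⟨X₁, hX₁, hX₁0⟩ := exists_totally_singular_of_plusType _ _ hp
    exact hm₁ ⟨X₁, hX₁, symQ_isotropic h2 _ hS₁ X₁ hX₁0⟩
  · have hsq₂ := gram_isSquare_minus h2 _ m ζ hζ hp b₁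
    rw [gram_symQ _ hS₁] at hsq₂
    simp only [Fintype.card_fin] at hsq₂
    have e3 : (2 : F) ^ (2 * k) * (LinearMap.BilinForm.toMatrix b₁ B₁).det =
        (2 ^ k) ^ 2 * (LinearMap.BilinForm.toMatrix b₁ B₁).det := by ring
    rw [e3, isSquare_sq_mul_iff (pow_ne_zero _ h2)] at hsq₂
    have hmk : m + 1 = k := by omega
    rw [hmk] at hsq₂
    tauto
  · omega

end Cfsg.Agent.S0835
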