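import Cfsg.Statements.S0836
import Mathlib

set_option autoImplicit false
open Cfsg
open scoped commutatorElement

namespace Cfsg.Agent.S0836

theorem mem_commSet_of_mul_eq {G : Type*} [Group G] (t g₁ g₂ : G) (h : g₁ * g₂ = t * g₂ * g₁) :
    t ∈ commutatorSet G := by
  refine ⟨g₁, g₂, ?_⟩
  rw [commutatorElement_def, h]
  group

theorem mem_commSet_of_mat {F : Type*} [Field F] {n : ℕ}
    (t : Matrix.SpecialLinearGroup (Fin n) F) (A B : Matrix (Fin n) (Fin n) F)
    (hA : A.det = 1) (hB : B.det = 1)
    (h : A * B = (t : Matrix (Fin n) (Fin n) F) * B * A) :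
    t ∈ commutatorSet (Matrix.SpecialLinearGroup (Fin n) F) := by
  let a : Matrix.SpecialLinearGroup (Fin n) F := ⟨A, hA⟩
  let b : Matrix.SpecialLinearGroup (Fin n) F := ⟨B, hB⟩
  refine mem_commSet_of_mul_eq t a b ?_
  apply Subtype.ext
  rw [Matrix.SpecialLinearGroup.coe_mul, Matrix.SpecialLinearGroup.coe_mul,
    Matrix.SpecialLinearGroup.coe_mul]
  exact h

theorem exists_third {n : ℕ} (hn : 3 ≤ n) (i j : Fin n) : ∃ k : Fin n, k ≠ i ∧ k ≠ j := by
  by_contra hcon
  push Not at hcon
  have h : (Finset.univ : Finset (Fin n)) ⊆ {i, j} := by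
    intro k _
    by_cases hk : k = i
    · simp [hk]
    · simp [hcon k hk]
  have := Finset.card_le_card h
  have h2 : ({i, j} : Finset (Fin n)).card ≤ 2 := Finset.card_le_two
  simp at this
  omega

theorem mat_id_three {F : Type*} [Field F] {n : ℕ} (i j k : Fin n) (hij : i ≠ j) (_hki : k ≠ i)
    (hkj : k ≠ j) (c : F) :
    Matrix.transvection i k c * Matrix.transvection k j (1 : F) =
      Matrix.transvection i j c * Matrix.transvection k j 1 * Matrix.transvection i k c := by
  simp only [Matrix.transvection, Matrix.add_mul, Matrix.mul_add, Matrix.one_mul, Matrix.mul_one]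
  simp [Matrix.single_mul_single_of_ne, hij.symm, hkj.symm]
  abel

/-- For i ≠ j and any scalar c, the elementary transvection 1 + c E_ij is a commutator ⁅g, h⁆ of two elements of SL_n(F) provided n ≥ 3, or n = 2 and F contains x ≠ 0 with x² ≠ 1. -/
theorem result {F : Type*} [Field F] (n : ℕ) (hn : 3 ≤ n ∨ (n = 2 ∧ ∃ x : F, x ≠ 0 ∧ x ^ 2 ≠ 1)) (i j : Fin n) (hij : i ≠ j) (c : F) (t : Matrix.SpecialLinearGroup (Fin n) F) (ht : (t : Matrix (Fin n) (Fin n) F) = Matrix.transvection i j c) : t ∈ commutatorSet (Matrix.SpecialLinearGroup (Fin n) F) := by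
  rcases hn with hn | ⟨rfl, x, hx0, hx1⟩
  · obtain ⟨k, hki, hkj⟩ := exists_third hn i j
    refine mem_commSet_of_mat t (Matrix.transvection i k c) (Matrix.transvection k j 1)
      (Matrix.det_transvection_of_ne _ _ hki.symm c) (Matrix.det_transvection_of_ne _ _ hkj 1) ?_
    rw [ht]
    exact mat_id_three i j k hij hki hkj c
  · have hx2 : x ^ 2 - 1 ≠ 0 := sub_ne_zero.mpr hx1
    set b : F := c / (x ^ 2 - 1) with hb
    have hbc : b * x ^ 2 = c + b := by
      rw [hb]; field_simp; ring
    have hD1 : Matrix.det (!![x, 0; 0, x⁻¹] : Matrix (Fin 2) (Fin 2) F) = 1 := by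
      simp [Matrix.det_fin_two, hx0]
    have hD2 : Matrix.det (!![x⁻¹, 0; 0, x] : Matrix (Fin 2) (Fin 2) F) = 1 := by
      simp [Matrix.det_fin_two, hx0]
    fin_cases i <;> fin_cases j
    · exact absurd rfl hij
    · refine mem_commSet_of_mat t !![x, 0; 0, x⁻¹] (Matrix.transvection 0 1 b) hD1
        (Matrix.det_transvection_of_ne _ _ (by decide) b) ?_
      rw [ht]
      ext a d
      fin_cases a <;> fin_cases d <;>
        simp [Matrix.transvection, Matrix.mul_apply, Fin.sum_univ_two, Matrix.single_apply] <;>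
        field_simp <;> linear_combination hbc
    · refine mem_commSet_of_mat t !![x⁻¹, 0; 0, x] (Matrix.transvection 1 0 b) hD2
        (Matrix.det_transvection_of_ne _ _ (by decide) b) ?_
      rw [ht]
      ext a d
      fin_cases a <;> fin_cases d <;>
        simp [Matrix.transvection, Matrix.mul_apply, Fin.sum_univ_two, Matrix.single_apply] <;>
        field_simp <;> linear_combination hbc
    · exact absurd rfl hij

end Cfsg.Agent.S0836
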