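import Cfsg.Statements.S0837
import Mathlib
import Cfsg.Agent.Lib.Helper51.UStab5

set_option autoImplicit false
open Cfsg

namespace Cfsg.Agent.S0837

open Cfsg.Agent.Lib.Helper51 Cfsg.Agent.Lib.Helper08 Matrix

/-- If W ≤ F^n (|F| = q²) is a k-dimensional subspace on which the Hermitian form Σ x_i y_i^q is non-degenerate, then the stabiliser of W in GU_n(q) is isomorphic to GU_k(q) × GU_(n−k)(q). -/
theorem result {F : Type*} [Field F] [Fintype F] {q : ℕ} (hF : Fintype.card F = q ^ 2) (n k : ℕ) (hk : k ≤ n) (W : Submodule F (Fin n → F)) (hWk : Module.finrank F W = k) (hW : ∀ u ∈ W, (∀ v ∈ W, Cfsg.hermForm n F q u v = 0) → u = 0) : Nonempty (↥((Cfsg.stabilizing (Cfsg.glToMat (Fin n) F) (W : Set (Fin n → F))).subgroupOf (Cfsg.GU n F q)) ≃* ↥(Cfsg.GU k F q) × ↥(Cfsg.GU (n - k) F q)) := by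
  classical
  have hW' : ∀ u ∈ W, (∀ v ∈ W, hform (Fin n) F q u v = 0) → u = 0 := hW
  obtain ⟨P, hP⟩ := exists_uP hF hk W hWk hW'
  let Φ : ↥(Cfsg.GU k F q) × ↥(Cfsg.GU (n - k) F q) →* ↥(Cfsg.GU n F q) :=
    (MulAut.conj P).toMonoidHom.comp (uPsi hk)
  have hinj : Function.Injective Φ := (MulAut.conj P).injective.comp (uPsi_injective hk)
  have hsub : ∀ g : ↥(Cfsg.GU n F q),
      g ∈ (Cfsg.stabilizing (Cfsg.glToMat (Fin n) F) (W : Set (Fin n → F))).subgroupOf (Cfsg.GU n F q) ↔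
      g ∈ Cfsg.stabilizing (guToMat n F q) (W : Set (Fin n → F)) := fun g => Iff.rfl
  have hPP : ∀ u : Fin n → F, Matrix.mulVec (guToMat n F q P⁻¹) (Matrix.mulVec (guToMat n F q P) u) = u := by
    intro u
    rw [Matrix.mulVec_mulVec, ← map_mul, inv_mul_cancel, map_one, Matrix.one_mulVec]
  have hPP' : ∀ u : Fin n → F, Matrix.mulVec (guToMat n F q P) (Matrix.mulVec (guToMat n F q P⁻¹) u) = u := by
    intro u
    rw [Matrix.mulVec_mulVec, ← map_mul, mul_inv_cancel, map_one, Matrix.one_mulVec]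
  have transport : ∀ g : ↥(Cfsg.GU n F q),
      g ∈ Cfsg.stabilizing (guToMat n F q) (W : Set (Fin n → F)) ↔
      P⁻¹ * g * P ∈ Cfsg.stabilizing (guToMat n F q)
        {v : Fin n → F | ∀ x, upOut hk x → v x = 0} := by
    intro g
    have hmul : ∀ u : Fin n → F, Matrix.mulVec (guToMat n F q (P⁻¹ * g * P)) u =
        Matrix.mulVec (guToMat n F q P⁻¹) (Matrix.mulVec (guToMat n F q g) (Matrix.mulVec (guToMat n F q P) u)) := by
      intro u
      rw [Matrix.mulVec_mulVec, Matrix.mulVec_mulVec, map_mul, map_mul]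
    constructor
    · intro hg u
      show (∀ x, upOut hk x → u x = 0) ↔
        ∀ x, upOut hk x → (Matrix.mulVec (guToMat n F q (P⁻¹ * g * P)) u) x = 0
      rw [hmul]
      have h1 := hP (Matrix.mulVec (guToMat n F q P) u)
      rw [hPP] at h1
      rw [← h1, ← hP]
      exact hg (Matrix.mulVec (guToMat n F q P) u)
    · intro hg v
      show v ∈ W ↔ Matrix.mulVec (guToMat n F q g) v ∈ W
      have h1 := hg (Matrix.mulVec (guToMat n F q P⁻¹) v)
      have h2 : (∀ x, upOut hk x → (Matrix.mulVec (guToMat n F q P⁻¹) v) x = 0) ↔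
          ∀ x, upOut hk x → (Matrix.mulVec (guToMat n F q (P⁻¹ * g * P))
            (Matrix.mulVec (guToMat n F q P⁻¹) v)) x = 0 := h1
      rw [hmul, hPP'] at h2
      rw [hP v, hP (Matrix.mulVec (guToMat n F q g) v)]
      exact h2
  have hrange : Φ.range =
      (Cfsg.stabilizing (Cfsg.glToMat (Fin n) F) (W : Set (Fin n → F))).subgroupOf (Cfsg.GU n F q) := by
    ext g
    rw [hsub, transport g, ustab_W0 hF hk]
    constructor
    · rintro ⟨p, rfl⟩
      refine ⟨p, ?_⟩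
      show uPsi hk p = P⁻¹ * (P * uPsi hk p * P⁻¹) * P
      group
    · rintro ⟨p, hp⟩
      refine ⟨p, ?_⟩
      show P * uPsi hk p * P⁻¹ = g
      rw [hp]; group
  exact ⟨(MulEquiv.subgroupCongr hrange.symm).trans (MonoidHom.ofInjective hinj).symm⟩

end Cfsg.Agent.S0837
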