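import Cfsg.Statements.S0838
import Cfsg.Agent.Lib.Helper50.IsometryClass

set_option autoImplicit false
open Cfsg

namespace Cfsg.Agent.S0838

open Cfsg.Agent.Lib.Helper50 QuadraticMap

/-- scale the first half of the hyperbolic coordinates of the odd model -/
def simOdd {F : Type*} [Field F] (k : ℕ) (c : F) :
    (Unit ⊕ (Fin k ⊕ Fin k) → F) →ₗ[F] (Unit ⊕ (Fin k ⊕ Fin k) → F) where
  toFun v := Sum.elim (fun j => v (Sum.inl j))
    (Sum.elim (fun i => c * v (Sum.inr (Sum.inl i))) (fun i => v (Sum.inr (Sum.inr i))))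
  map_add' u v := by
    ext (i | (i | i)) <;> simp [mul_add]
  map_smul' a v := by
    ext (i | (i | i)) <;> simp [mul_left_comm]

theorem oddForm_simOdd {F : Type*} [Field F] (k : ℕ) (c c₁ c₂ : F) (hc : c₂ = c * c₁)
    (v : Unit ⊕ (Fin k ⊕ Fin k) → F) :
    oddForm k c₂ (simOdd k c v) = c * oddForm k c₁ v := by
  simp only [oddForm, simOdd, LinearMap.coe_mk, AddHom.coe_mk, Sum.elim_inl, Sum.elim_inr, mul_add,
    Finset.mul_sum, mul_assoc, hc]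

/-- Over a finite field with 2 ≠ 0 and n odd: two quadratic forms Q₁, Q₂ on F^n with non-degenerate polar forms are similar — there are an invertible linear map g and a scalar c ≠ 0 with Q₂ (g v) = c · Q₁ v for all v. -/
theorem result {F : Type*} [Field F] [Fintype F] (h2 : (2 : F) ≠ 0) {n : ℕ} (hn : Odd n) (Q₁ Q₂ : QuadraticForm F (Fin n → F)) (h₁ : (QuadraticMap.polarBilin Q₁).Nondegenerate) (h₂ : (QuadraticMap.polarBilin Q₂).Nondegenerate) : ∃ (g : (Fin n → F) ≃ₗ[F] (Fin n → F)) (c : F), c ≠ 0 ∧ ∀ v, Q₂ (g v) = c * Q₁ v := by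
  classical
  have hQ₁ := QND_of_nondegenerate Q₁ h₁
  have hQ₂ := QND_of_nondegenerate Q₂ h₂
  have hfr : Module.finrank F (Fin n → F) = n := Module.finrank_fin_fun F
  obtain ⟨k, hk⟩ := hn
  rcases witt_type n Q₁ hfr hQ₁ with
    ⟨m₁, hm₁, _⟩ | ⟨m₁, ζ₁, hm₁, _⟩ | ⟨m₁, c₁, hm₁, hc₁, φ₁, hφ₁⟩
  · omega
  · omega
  rcases witt_type n Q₂ hfr hQ₂ with
    ⟨m₂, hm₂, _⟩ | ⟨m₂, ζ₂, hm₂, _⟩ | ⟨m₂, c₂, hm₂, hc₂, φ₂, hφ₂⟩
  · omega
  · omega
  obtain rfl : m₁ = m₂ := by omega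
  have hc : c₂ / c₁ ≠ 0 := div_ne_zero hc₂ hc₁
  have hcc : c₂ = c₂ / c₁ * c₁ := by field_simp
  let g₀ : (Fin n → F) →ₗ[F] (Fin n → F) :=
    (φ₂.symm : (Unit ⊕ (Fin m₁ ⊕ Fin m₁) → F) →ₗ[F] (Fin n → F)) ∘ₗ simOdd m₁ (c₂ / c₁) ∘ₗ
      (φ₁ : (Fin n → F) →ₗ[F] (Unit ⊕ (Fin m₁ ⊕ Fin m₁) → F))
  have hg₀ : ∀ v, Q₂ (g₀ v) = c₂ / c₁ * Q₁ v := by
    intro v
    rw [← hφ₂, ← hφ₁ v]
    simp only [g₀, LinearMap.coe_comp, LinearEquiv.coe_coe, Function.comp_apply,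
      LinearEquiv.apply_symm_apply]
    exact oddForm_simOdd m₁ _ c₁ c₂ hcc _
  have hinj : Function.Injective g₀ := by
    rw [← LinearMap.ker_eq_bot, LinearMap.ker_eq_bot']
    intro v hv
    apply hQ₁
    intro u
    have h1 : polar Q₂ (g₀ v) (g₀ u) = c₂ / c₁ * polar Q₁ v u := by
      simp only [polar, ← map_add, hg₀]
      ring
    rw [hv, polar_zero_left] at h1
    exact (mul_eq_zero.mp h1.symm).resolve_left hc
  exact ⟨LinearEquiv.ofInjectiveEndo g₀ hinj, c₂ / c₁, hc, fun v => by simpa using hg₀ v⟩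

end Cfsg.Agent.S0838
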