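import Mathlib
import Cfsg.Statements.S0839

set_option autoImplicit false
open Cfsg

namespace Cfsg.Agent.S0839

open Matrix

lemma rank_one_decomp {F : Type*} [Field F] {ι : Type*} [Fintype ι] [DecidableEq ι]
    (N : Matrix ι ι F) (h : N.rank = 1) : ∃ a b : ι → F, N = vecMulVec a b := by
  unfold Matrix.rank at h
  obtain ⟨⟨a, ha⟩, _, hspan⟩ := finrank_eq_one_iff'.mp h
  choose c hc using fun j : ι => hspan ⟨N *ᵥ Pi.single j 1, ⟨Pi.single j 1, rfl⟩⟩
  refine ⟨a, c, ?_⟩
  ext i j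
  have := congrArg (fun w : LinearMap.range N.mulVecLin => (w : ι → F) i) (hc j)
  simp only [SetLike.val_smul, Pi.smul_apply, smul_eq_mul, Matrix.mulVec_single_one] at this
  rw [vecMulVec_apply, mul_comm]
  exact this.symm

/-- Every transvection t ∈ SL_(n+2)(F) (rank(t − 1) = 1, (t − 1)² = 0) is conjugate in SL_(n+2)(F) to 1 + v·e_0ᵀ for some column vector v with v_0 = 0 (the group A of matrices that are the identity except in the first column below the diagonal); the dimension is written n + 2 ≥ 2. -/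
theorem result {F : Type*} [Field F] (n : ℕ) (t : Matrix.SpecialLinearGroup (Fin (n + 2)) F) (ht : Cfsg.IsTransvection (t : Matrix (Fin (n + 2)) (Fin (n + 2)) F)) : ∃ (g : Matrix.SpecialLinearGroup (Fin (n + 2)) F) (v : Fin (n + 2) → F), v 0 = 0 ∧ ((g⁻¹ * t * g : Matrix.SpecialLinearGroup (Fin (n + 2)) F) : Matrix (Fin (n + 2)) (Fin (n + 2)) F) = 1 + Matrix.vecMulVec v (Pi.single 0 1) := by
  obtain ⟨hrank, hsq⟩ := ht
  obtain ⟨a, b, hN⟩ := rank_one_decomp _ hrank
  have hN0 : vecMulVec a b ≠ 0 := by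
    intro h0
    rw [hN, h0, Matrix.rank_zero] at hrank
    exact zero_ne_one hrank
  have hb0 : b ≠ 0 := fun h => hN0 (vecMulVec_eq_zero.mpr (Or.inr h))
  have hba : b ⬝ᵥ a = 0 := by
    rw [hN, vecMulVec_mul_vecMulVec, Matrix.vecMulVec_smul] at hsq
    by_contra hne
    apply hN0
    have := congrArg (fun M => (b ⬝ᵥ a)⁻¹ • M) hsq
    simpa [smul_smul, inv_mul_cancel₀ hne] using this
  -- a special linear matrix whose first column is proportional to b
  have he0 : (Pi.single 0 1 : Fin (n + 2) → F) ≠ 0 := by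
    intro h
    have := congrFun h 0
    simp at this
  have : MulAction.IsPretransitive (Matrix.SpecialLinearGroup (Fin (n + 2)) F)
      (Projectivization F (Fin (n + 2) → F)) :=
    MulAction.isPretransitive_of_is_two_pretransitive
  obtain ⟨g0, hg0⟩ := MulAction.exists_smul_eq (Matrix.SpecialLinearGroup (Fin (n + 2)) F)
    (Projectivization.mk F _ he0) (Projectivization.mk F b hb0)
  rw [Projectivization.smul_mk, Projectivization.mk_eq_mk_iff] at hg0
  obtain ⟨μ, hμ⟩ := hg0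
  have hcol : (g0 : Matrix (Fin (n + 2)) (Fin (n + 2)) F) *ᵥ Pi.single 0 1 = (μ : F) • b := by
    rw [← Units.smul_def, hμ, Matrix.SpecialLinearGroup.smul_def]
    rfl
  set h : Matrix.SpecialLinearGroup (Fin (n + 2)) F := g0.transpose with hh
  set H : Matrix (Fin (n + 2)) (Fin (n + 2)) F := (h : Matrix (Fin (n + 2)) (Fin (n + 2)) F) with hH
  set Hi : Matrix (Fin (n + 2)) (Fin (n + 2)) F :=
    ((h⁻¹ : Matrix.SpecialLinearGroup (Fin (n + 2)) F) : Matrix (Fin (n + 2)) (Fin (n + 2)) F) with hHi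
  have hHHi : H * Hi = 1 := by
    rw [hH, hHi, ← Matrix.SpecialLinearGroup.coe_mul, mul_inv_cancel, Matrix.SpecialLinearGroup.coe_one]
  have hrow : Pi.single 0 1 ᵥ* H = (μ : F) • b := by
    rw [hH, hh, Matrix.SpecialLinearGroup.coe_transpose, Matrix.vecMul_transpose, hcol]
  have hbHi : b ᵥ* Hi = (μ : F)⁻¹ • Pi.single 0 1 := by
    have h1 : b = (μ : F)⁻¹ • (Pi.single 0 1 ᵥ* H) := by
      rw [hrow, smul_smul, inv_mul_cancel₀ μ.ne_zero, one_smul]
    conv_lhs => rw [h1]
    rw [Matrix.smul_vecMul, Matrix.vecMul_vecMul, hHHi, Matrix.vecMul_one]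
  refine ⟨h⁻¹, (μ : F)⁻¹ • (H *ᵥ a), ?_, ?_⟩
  · rw [Pi.smul_apply, smul_eq_mul]
    have : (H *ᵥ a) 0 = (Pi.single 0 1 ᵥ* H) ⬝ᵥ a := by
      rw [← Matrix.dotProduct_mulVec, single_one_dotProduct]
    rw [this, hrow, smul_dotProduct, hba, smul_zero, mul_zero]
  · rw [inv_inv, Matrix.SpecialLinearGroup.coe_mul, Matrix.SpecialLinearGroup.coe_mul]
    show H * (t : Matrix (Fin (n + 2)) (Fin (n + 2)) F) * Hi = _
    have ht' : (t : Matrix (Fin (n + 2)) (Fin (n + 2)) F) = 1 + vecMulVec a b := by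
      rw [← hN]; abel
    rw [ht', Matrix.mul_add, Matrix.mul_one, Matrix.add_mul, hHHi, Matrix.mul_vecMulVec,
      Matrix.vecMulVec_mul, hbHi, Matrix.vecMulVec_smul, ← Matrix.smul_vecMulVec]

end Cfsg.Agent.S0839
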