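import Cfsg.Statements.S0845
import Cfsg.Agent.S0844
import Cfsg.Agent.Lib.Helper20.BSKernel
import Cfsg.Agent.Lib.Helper83.Quotient
import Cfsg.Agent.Lib.Helper83.LinearCount

set_option autoImplicit false
open Cfsg

namespace Cfsg.Agent.S0845

open Cfsg.Agent.Lib.Helper83 in
/-- Suppose a Sylow 2-subgroup S of the finite group G is generalized quaternion of order at least 16. Then G has a normal subgroup M of even order such that G / M is non-abelian, that is, M does not contain the commutator subgroup of G. -/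
theorem result {G : Type*} [Group G] [Finite G] (S : Sylow 2 G) (n : ℕ) (e : (S : Subgroup G) ≃* QuaternionGroup (2 ^ (n + 2))) : ∃ M : Subgroup G, M.Normal ∧ Even (Nat.card M) ∧ ¬ commutator G ≤ M := by
  classical
  have : Fintype G := Fintype.ofFinite G
  have : Fact (Nat.Prime 2) := ⟨Nat.prime_two⟩
  have hne : NeZero (2 ^ (n + 2)) := ⟨by positivity⟩
  obtain ⟨χ₁, χ₂, h₁, h₂, -, -, hdeg, hval⟩ := Cfsg.Agent.S0844.result S n e
  have h2dvd : 2 ∣ Nat.card G := by
    have h1 : Nat.card (S : Subgroup G) = 4 * 2 ^ (n + 2) := by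
      rw [Nat.card_congr e.toEquiv, Nat.card_eq_fintype_card, QuaternionGroup.card]
    have h2 := Subgroup.card_subgroup_dvd_card (S : Subgroup G)
    rw [h1] at h2
    exact dvd_trans ⟨2 * 2 ^ (n + 2), by ring⟩ h2
  obtain ⟨z, hz⟩ := exists_prime_orderOf_dvd_card' 2 h2dvd
  obtain ⟨hz₁, hz₂⟩ := Cfsg.Agent.Lib.Helper20.involution_mem_kernels S _ e h₁ h₂ hdeg hval z hz
  have hc₁ := isCharacter_of_irr h₁
  refine ⟨charKer hc₁, inferInstance, ?_, ?_⟩
  · have hzM : z ∈ charKer hc₁ := (mem_charKer hc₁ z).mpr hz₁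
    have := orderOf_dvd_natCard (⟨z, hzM⟩ : charKer hc₁)
    rw [Subgroup.orderOf_mk, hz] at this
    exact even_iff_two_dvd.mpr this
  · intro hle
    have hlin : χ₁ 1 = 1 := (irr_linear_iff_commutator_le ⟨χ₁, h₁⟩).mpr
      (fun x hx => (mem_charKer hc₁ x).mp (hle hx))
    have h0 : χ₂ 1 = 0 := by
      rw [hlin] at hdeg
      linear_combination -hdeg
    exact irr_degree_ne_zero ⟨χ₂, h₂⟩ h0

end Cfsg.Agent.S0845
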