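import Cfsg.Statements.S0846
import Cfsg.Agent.Lib.Helper20.BSCore

set_option autoImplicit false
open Cfsg

namespace Cfsg.Agent.S0846

open Cfsg.Agent.Lib.Helper20 in
theorem aux {G : Type*} [Group G] [Finite G] (S : Sylow 2 G) (n : ℕ)
    (e : (S : Subgroup G) ≃* QuaternionGroup (2 ^ (n + 2))) (J : Subgroup G)
    (hJ : J = Subgroup.closure {g : G | orderOf g = 2}) (Q : Subgroup J) (hQ : IsPGroup 2 Q) :
    IsCyclic Q := by
  obtain ⟨M₀, hM₀n, hinv, hle⟩ := exists_kernel_subgroup S n e
  have hJM : J ≤ M₀ := by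
    rw [hJ]
    exact (Subgroup.closure_le M₀).mpr (fun g hg => hinv g hg)
  set Q' : Subgroup G := Q.map J.subtype with hQ'
  have hQ'p : IsPGroup 2 Q' := hQ.map J.subtype
  obtain ⟨g, hg⟩ := sylow_le_conj S Q' hQ'p
  let f : Q →* G := (MulAut.conj g⁻¹).toMonoidHom.comp (J.subtype.comp Q.subtype)
  have hfq : ∀ q : Q, f q = g⁻¹ * ((q : J) : G) * g := by
    intro q
    simp [f]
  have hf : ∀ q, f q ∈ Subgroup.zpowers (bsA (S : Subgroup G) e) := by
    intro q
    apply hle
    have hqQ' : ((q : J) : G) ∈ Q' := ⟨(q : J), q.2, rfl⟩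
    rw [hfq]
    refine ⟨hg _ hqQ', ?_⟩
    have hqM : ((q : J) : G) ∈ M₀ := hJM (q : J).2
    have := hM₀n.conj_mem _ hqM g⁻¹
    rwa [inv_inv] at this
  have hinj : Function.Injective (f.codRestrict _ hf) := by
    rw [MonoidHom.injective_codRestrict]
    exact (MulAut.conj g⁻¹).injective.comp (Subtype.val_injective.comp Subtype.val_injective)
  exact isCyclic_of_injective (f.codRestrict _ hf) hinj

/-- Suppose a Sylow 2-subgroup S of the finite group G is generalized quaternion of order at least 16. Then every Sylow 2-subgroup of the subgroup generated by the involutions of G is cyclic. -/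
theorem result {G : Type*} [Group G] [Finite G] (S : Sylow 2 G) (n : ℕ) (e : (S : Subgroup G) ≃* QuaternionGroup (2 ^ (n + 2))) (Q : Sylow 2 ↥(Subgroup.closure {g : G | orderOf g = 2})) : IsCyclic Q := by
  exact aux S n e _ rfl Q.toSubgroup Q.isPGroup'

end Cfsg.Agent.S0846
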