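import Cfsg.Statements.S0848
-- import your own Cfsg.Agent.* helpers here
import Cfsg.Agent.Lib.Helper20.D8Main
import Cfsg.Agent.Lib.Helper20.D8Pairs

set_option autoImplicit false
open Cfsg

namespace Cfsg.Agent.S0848

open Cfsg.Agent.Lib.Helper20

/-- If a finite group equals its own commutator subgroup and contains an involution whose centralizer is isomorphic to the dihedral group of order 8, then the group has order 168 or 360. -/
theorem result {G : Type*} [Group G] [Finite G] (hperf : commutator G = ⊤) (t : G) (ht : orderOf t = 2) (e : Subgroup.centralizer ({t} : Set G) ≃* DihedralGroup 4) : Nat.card G = 168 ∨ Nat.card G = 360 := by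
  classical
  have : Fintype G := Fintype.ofFinite G
  let cfg : D8Config G :=
    { a := d8A _ e
      w := d8B _ e
      ha4 := orderOf_d8A _ e
      hwa := d8B_conj' _ e
      hw := d8B_not_mem _ e
      hTI := fun x y hy hy1 hxy => d8_mem_cases _ e (d8g_TI t e ht x y hy hy1 hxy) }
  have hAt : cfg.a ^ 2 = t := (d8g_t_eq t e ht).symm
  apply cfg.order
  · rw [hAt]; exact d8_card _ e
  · rw [hAt]; exact d8g_isConj_of_orderOf_two t e ht hperf
  · exact d8g_card_pairs_a t e ht
  · exact d8g_card_pairs_t t e ht
  · exact d8g_card_mod t e ht

end Cfsg.Agent.S0848
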