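import Cfsg.Statements.S0849
import Mathlib
import Cfsg.Agent.Lib.Helper20.IndFun

set_option autoImplicit false
open Cfsg
open Cfsg.Agent.Lib.Helper20

namespace Cfsg.Agent.S0849

theorem isConj_conj_iff {G : Type*} [Group G] (u a x : G) :
    IsConj u (x⁻¹ * a * x) ↔ IsConj u a := by
  constructor
  · intro h
    refine h.trans ?_
    exact isConj_iff.mpr ⟨x, by group⟩
  · intro h
    refine h.trans ?_
    exact isConj_iff.mpr ⟨x⁻¹, by group⟩

theorem sq_eq_one_of_isConj {G : Type*} [Group G] {u a : G} (hu : orderOf u = 2)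
    (h : IsConj u a) : a * a = 1 := by
  obtain ⟨c, hc⟩ := isConj_iff.mp h
  have hu2 : u * u = 1 := by
    have := pow_orderOf_eq_one u
    rw [hu, pow_two] at this
    exact this
  rw [← hc]
  calc c * u * c⁻¹ * (c * u * c⁻¹) = c * (u * u) * c⁻¹ := by group
    _ = 1 := by rw [hu2]; group

/-- Let H be a subgroup of a finite group G and S a subset of H that is mapped to itself under conjugation by H, is disjoint from its conjugate by any element outside H, and is closed under inverses. Let φ be a class function of H vanishing on H away from S, and let u, v be involutions of G. Then the sum of the induced function of φ over all products a * b with a conjugate to u and b conjugate to v equals the index of H times the sum of φ (a * b) over such pairs with a and b in H. -/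
theorem result {G : Type*} [Group G] [Fintype G] (H : Subgroup G) (S : Set G) (hSH : S ⊆ H) (hHS : ∀ h ∈ H, ∀ s ∈ S, h * s * h⁻¹ ∈ S) (hTI : ∀ g : G, g ∉ H → ∀ s ∈ S, g * s * g⁻¹ ∉ S) (hinv : ∀ s ∈ S, s⁻¹ ∈ S) (φ : H → ℂ) (hφ : Cfsg.IsClassFunction H φ) (hφS : ∀ x : H, (x : G) ∉ S → φ x = 0) (u v : G) (hu : orderOf u = 2) (hv : orderOf v = 2) : ∑ᶠ p ∈ {p : G × G | IsConj u p.1 ∧ IsConj v p.2}, Cfsg.indFun H φ (p.1 * p.2) = (H.index : ℂ) * ∑ᶠ p ∈ {p : H × H | IsConj u (p.1 : G) ∧ IsConj v (p.2 : G)}, φ (p.1 * p.2) := by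
  classical
  set P : Set (G × G) := {p : G × G | IsConj u p.1 ∧ IsConj v p.2} with hP
  set PH : Set (H × H) := {p : H × H | IsConj u (p.1 : G) ∧ IsConj v (p.2 : G)} with hPH
  set ψ : G → ℂ := Cfsg.extendByZero H φ with hψ
  -- conjugation invariance of the sum over P
  have hA : ∀ x : G, ∑ᶠ p ∈ P, ψ (x⁻¹ * (p.1 * p.2) * x) = ∑ᶠ p ∈ P, ψ (p.1 * p.2) := by
    intro x
    refine finsum_mem_eq_of_bijOn (fun p : G × G => (x⁻¹ * p.1 * x, x⁻¹ * p.2 * x)) ?_ ?_
    · refine ⟨?_, ?_, ?_⟩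
      · intro p hp
        exact ⟨(isConj_conj_iff u p.1 x).mpr hp.1, (isConj_conj_iff v p.2 x).mpr hp.2⟩
      · intro p _ q _ hpq
        simp only [Prod.mk.injEq, mul_left_inj, mul_right_inj] at hpq
        exact Prod.ext hpq.1 hpq.2
      · intro q hq
        refine ⟨(x * q.1 * x⁻¹, x * q.2 * x⁻¹), ?_, ?_⟩
        · constructor
          · have := (isConj_conj_iff u q.1 x⁻¹).mpr hq.1
            simpa using this
          · have := (isConj_conj_iff v q.2 x⁻¹).mpr hq.2
            simpa using this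
        · ext <;> simp [mul_assoc]
    · intro p _
      congr 1
      group
  -- key vanishing
  have hkey : ∀ p ∈ P, ψ (p.1 * p.2) ≠ 0 → p.1 ∈ H ∧ p.2 ∈ H := by
    intro p hp hne
    have h1 : p.1 * p.1 = 1 := sq_eq_one_of_isConj hu hp.1
    have h2 : p.2 * p.2 = 1 := sq_eq_one_of_isConj hv hp.2
    have hmem : p.1 * p.2 ∈ H := by
      by_contra hcon
      exact hne (extendByZero_not_mem H φ hcon)
    have hS : p.1 * p.2 ∈ S := by
      by_contra hcon
      apply hne
      rw [hψ, extendByZero_mem H φ hmem]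
      exact hφS ⟨_, hmem⟩ hcon
    have hinvS : (p.1 * p.2)⁻¹ ∈ S := hinv _ hS
    have e1 : p.1⁻¹ = p.1 := inv_eq_of_mul_eq_one_left h1
    have e2 : p.2⁻¹ = p.2 := inv_eq_of_mul_eq_one_left h2
    constructor
    · by_contra hcon
      apply hTI p.1 hcon _ hS
      have : p.1 * (p.1 * p.2) * p.1⁻¹ = (p.1 * p.2)⁻¹ := by
        rw [mul_inv_rev, e1, e2, ← mul_assoc, h1, one_mul]
      rw [this]
      exact hinvS
    · by_contra hcon
      apply hTI p.2 hcon _ hS
      have : p.2 * (p.1 * p.2) * p.2⁻¹ = (p.1 * p.2)⁻¹ := by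
        rw [mul_inv_rev, e1, e2, mul_assoc, mul_assoc, h2, mul_one]
      rw [this]
      exact hinvS
  -- restrict to pairs in H
  have hB : ∑ᶠ p ∈ P, ψ (p.1 * p.2) = ∑ᶠ q ∈ PH, φ (q.1 * q.2) := by
    set P' : Set (G × G) := P ∩ {p | p.1 ∈ H ∧ p.2 ∈ H} with hP'
    have h1 : ∑ᶠ p ∈ P, ψ (p.1 * p.2) = ∑ᶠ p ∈ P', ψ (p.1 * p.2) := by
      apply finsum_mem_inter_support_eq
      ext p
      constructor
      · rintro ⟨hp, hs⟩
        exact ⟨⟨hp, hkey p hp hs⟩, hs⟩
      · rintro ⟨hp, hs⟩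
        exact ⟨hp.1, hs⟩
    rw [h1]
    symm
    refine finsum_mem_eq_of_bijOn (fun q : H × H => ((q.1 : G), (q.2 : G))) ?_ ?_
    · refine ⟨?_, ?_, ?_⟩
      · intro q hq
        exact ⟨hq, q.1.2, q.2.2⟩
      · intro p _ q _ hpq
        simp only [Prod.mk.injEq] at hpq
        exact Prod.ext (Subtype.ext hpq.1) (Subtype.ext hpq.2)
      · intro p hp
        exact ⟨(⟨p.1, hp.2.1⟩, ⟨p.2, hp.2.2⟩), hp.1, rfl⟩
    · intro q _
      have : ((q.1 : G) * (q.2 : G)) = ((q.1 * q.2 : H) : G) := by simp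
      rw [hψ]
      simp only
      rw [this, extendByZero_coe]
  -- main computation
  rw [← hB]
  have hfin : P.Finite := Set.toFinite P
  rw [finsum_mem_eq_finite_toFinset_sum _ hfin, finsum_mem_eq_finite_toFinset_sum _ hfin]
  simp only [indFun_apply]
  rw [← Finset.mul_sum, Finset.sum_comm]
  have hC : ∀ x : G, ∑ p ∈ hfin.toFinset, Cfsg.extendByZero H φ (x⁻¹ * (p.1 * p.2) * x)
      = ∑ p ∈ hfin.toFinset, ψ (p.1 * p.2) := by
    intro x
    have := hA x
    rw [finsum_mem_eq_finite_toFinset_sum _ hfin, finsum_mem_eq_finite_toFinset_sum _ hfin] at this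
    exact this
  rw [Finset.sum_congr rfl (fun x _ => hC x)]
  rw [Finset.sum_const, Finset.card_univ, nsmul_eq_mul, ← mul_assoc]
  rw [← Nat.card_eq_fintype_card, card_inv_mul_card_eq_index]

end Cfsg.Agent.S0849
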