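import Cfsg.Statements.S0853
-- import your own Cfsg.Agent.* helpers here
import Cfsg.Agent.Lib.Helper34.FrobTI
import Cfsg.Agent.Lib.Helper04.IndFun
import Cfsg.Agent.S0852

set_option autoImplicit false
open Cfsg

namespace Cfsg.Agent.S0853

open Cfsg.Agent.Lib.Helper34
open scoped ComplexConjugate

section

variable {G : Type*} [Group G] [Fintype G] (N : Subgroup G) [Fintype N] (KN : Subgroup N)
  [hKN : KN.Normal]
  (hC : ∀ k ∈ KN, k ≠ 1 → Subgroup.centralizer ({k} : Set N) ≤ KN)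
  (S : Set (N → ℂ)) (hS : S = {χ : N → ℂ | FrobRel KN χ})
  (star : (N → ℂ) → (G → ℂ)) (hstar : Cfsg.IsLinearIsometryOn (Cfsg.zspan S) star)
  (hext : ∀ α ∈ Cfsg.zspanOn S ({1}ᶜ : Set N), star α = Cfsg.indFun N α)
  (hind : ∀ α : N → ℂ, Cfsg.IsClassFunction N α → (∀ x : N, x ∉ KN → α x = 0) →
    ∀ k ∈ KN, k ≠ 1 → Cfsg.indFun N α k = α k)

include hC hS hstar hext in
/-- the difference `star χ - χ` on `N` is constant on `K∖{1}`, an integer -/
theorem diff_const {χ : N → ℂ} (hχ : χ ∈ S) [Nontrivial KN] :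
    ∃ c : ℤ, ∀ k ∈ KN, k ≠ 1 → star χ k - χ k = c := by
  classical
  have hχirr := Cfsg.Agent.S0852.mem_S_irr N KN S hS hχ
  have hstarχ := LIO.isGenChar hstar (mem_zspan_of_mem hχ)
  have hstarcf := isGeneralizedCharacter_isClassFunction hstarχ
  set D : N → ℂ := (fun x : N => star χ x) - χ with hD
  have hDgen : Cfsg.IsGeneralizedCharacter N D :=
    isGeneralizedCharacter_sub (isGeneralizedCharacter_restrict N hstarχ)
      (isGeneralizedCharacter_of_irr hχirr)
  have hDcf := isGeneralizedCharacter_isClassFunction hDgen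
  -- orthogonal to the combinations vanishing at 1
  have hD0 : ∀ α ∈ Cfsg.zspanOn S ({1}ᶜ : Set N), Cfsg.classInner D α = 0 := by
    intro α hα
    rw [hD, classInner_sub_left, star_restrict_inner N hext hstarcf hα,
      LIO.inner_eq hstar (mem_zspan_of_mem hχ) hα.1, sub_self]
  have hcross : ∀ ξ η, FrobRel KN ξ → FrobRel KN η →
      Cfsg.classInner D ξ * η 1 = Cfsg.classInner D η * ξ 1 := by
    intro ξ η hξ' hη'
    have hξ : ξ ∈ S := by rw [hS]; exact hξ'
    have hη : η ∈ S := by rw [hS]; exact hη'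
    obtain ⟨dξ, hdξ0, hdξ⟩ := Cfsg.Agent.S0852.mem_S_deg N KN S hS hξ
    obtain ⟨dη, hdη0, hdη⟩ := Cfsg.Agent.S0852.mem_S_deg N KN S hS hη
    have hα : ((dη : ℤ) • ξ - (dξ : ℤ) • η) ∈ Cfsg.zspanOn S ({1}ᶜ : Set N) := by
      apply cross_mem_zspanOn N hξ hη
      rw [hdξ, hdη]; push_cast; ring
    have h0 := hD0 _ hα
    rw [classInner_sub_right, classInner_zsmul_right, classInner_zsmul_right] at h0
    rw [hdξ, hdη]
    push_cast at h0
    linear_combination h0
  obtain ⟨u, hu⟩ : ∃ u : ℂ, ∀ ξ, FrobRel KN ξ → Cfsg.classInner D ξ = u * ξ 1 := by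
    have hχ₀ := Cfsg.Agent.S0852.mem_S_rel N KN S hS hχ
    obtain ⟨d₀, hd₀0, hd₀⟩ := Cfsg.Agent.S0852.mem_S_deg N KN S hS hχ
    have hd₀ne : χ 1 ≠ 0 := by rw [hd₀]; exact_mod_cast hd₀0.ne'
    refine ⟨Cfsg.classInner D χ / χ 1, fun ξ hξ => ?_⟩
    have := hcross ξ χ hξ hχ₀
    field_simp
    linear_combination this
  obtain ⟨W, hW, hWint⟩ := frob_const KN hC D hDcf u hu
  have hint : ∀ ξ, Cfsg.IsIrrCharacter N ξ → ∃ n : ℤ, Cfsg.classInner D ξ = n := fun ξ hξ =>
    classInner_genChar_int hDgen (isGeneralizedCharacter_of_irr hξ)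
  obtain ⟨nW, hnW⟩ := hWint hint
  -- u e is an integer
  obtain ⟨nu, hnu⟩ : ∃ n : ℤ, u * (KN.index : ℂ) = n := by
    apply int_of_mul_irr_degree (H := ↥KN)
    intro φ hφ hne
    have hrel := ind_frobRel KN hC hφ hne
    obtain ⟨n, hn⟩ := hint _ hrel.1
    refine ⟨n, ?_⟩
    rw [← hn, hu _ hrel, Cfsg.Agent.Lib.Helper83.indFun_one_eq]
    ring
  refine ⟨nW - nu, fun k hk hk1 => ?_⟩
  have := hW k hk hk1
  simp only [hD, Pi.sub_apply] at this
  rw [this, hnW, hnu]
  push_cast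
  ring

include hC hS hstar hext hind in
theorem aux (htwo : ∃ χ ∈ S, ∃ ξ ∈ S, χ ≠ ξ) :
    ∃ m : ℤ, ∀ χ ∈ S, ∀ k ∈ KN, k ≠ 1 → star χ k - χ k = (m : ℂ) * χ 1 / (KN.index : ℂ) := by
  classical
  obtain ⟨χ₀, hχ₀, -⟩ := htwo
  have hrel₀ := Cfsg.Agent.S0852.mem_S_rel N KN S hS hχ₀
  obtain ⟨k₀, hk₀, hk₀ne⟩ := hrel₀.2
  have hk₀1 : k₀ ≠ 1 := by
    intro h
    apply hk₀ne
    rw [h]
  haveI : Nontrivial KN := ⟨⟨⟨k₀, hk₀⟩, 1, fun h => hk₀1 (congrArg Subtype.val h)⟩⟩
  have hconst : ∀ χ ∈ S, ∃ c : ℤ, ∀ k ∈ KN, k ≠ 1 → star χ k - χ k = c := fun χ hχ =>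
    diff_const N KN hC S hS star hstar hext hχ
  choose! c hc using hconst
  have he0 : (KN.index : ℂ) ≠ 0 := by
    have : KN.index ≠ 0 := Subgroup.index_ne_zero_of_finite
    exact_mod_cast this
  -- cross relation between the constants
  have hcc : ∀ χ ∈ S, ∀ ξ ∈ S, (c χ : ℂ) * ξ 1 = (c ξ : ℂ) * χ 1 := by
    intro χ hχ ξ hξ
    obtain ⟨dχ, hdχ0, hdχ⟩ := Cfsg.Agent.S0852.mem_S_deg N KN S hS hχ
    obtain ⟨dξ, hdξ0, hdξ⟩ := Cfsg.Agent.S0852.mem_S_deg N KN S hS hξ
    have hα : ((dξ : ℤ) • χ - (dχ : ℤ) • ξ) ∈ Cfsg.zspanOn S ({1}ᶜ : Set N) := by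
      apply cross_mem_zspanOn N hχ hξ
      rw [hdχ, hdξ]; push_cast; ring
    have hχrel := Cfsg.Agent.S0852.mem_S_rel N KN S hS hχ
    have hξrel := Cfsg.Agent.S0852.mem_S_rel N KN S hS hξ
    have hχcf := Cfsg.Agent.Lib.Helper83.char_isClassFunction
      (Cfsg.Agent.Lib.Helper83.isCharacter_of_irr hχrel.1)
    have hξcf := Cfsg.Agent.Lib.Helper83.char_isClassFunction
      (Cfsg.Agent.Lib.Helper83.isCharacter_of_irr hξrel.1)
    have hαcf : Cfsg.IsClassFunction N ((dξ : ℤ) • χ - (dχ : ℤ) • ξ) := by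
      intro g h
      simp only [Pi.sub_apply, Pi.smul_apply]
      rw [hχcf g h, hξcf g h]
    have hαoff : ∀ x : N, x ∉ KN → ((dξ : ℤ) • χ - (dχ : ℤ) • ξ) x = 0 := by
      intro x hx
      simp only [Pi.sub_apply, Pi.smul_apply]
      rw [hχrel.vanish KN hC hx, hξrel.vanish KN hC hx]
      simp
    have h1 := hind _ hαcf hαoff k₀ hk₀ hk₀1
    rw [← hext _ hα, star_cross N hstar hχ hξ] at h1
    simp only [Pi.sub_apply, Pi.smul_apply] at h1
    simp only [zsmul_eq_mul, Int.cast_natCast] at h1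
    have h2 := hc χ hχ k₀ hk₀ hk₀1
    have h3 := hc ξ hξ k₀ hk₀ hk₀1
    rw [hdχ, hdξ]
    linear_combination h1 - (dξ : ℂ) * h2 + (dχ : ℂ) * h3
  obtain ⟨d₀, hd₀0, hd₀⟩ := Cfsg.Agent.S0852.mem_S_deg N KN S hS hχ₀
  have hd₀ne : (d₀ : ℂ) ≠ 0 := by exact_mod_cast hd₀0.ne'
  -- the candidate
  set m' : ℂ := (c χ₀ : ℂ) * (KN.index : ℂ) / (d₀ : ℂ) with hm'
  have hform : ∀ ξ ∈ S, (c ξ : ℂ) = m' * ξ 1 / (KN.index : ℂ) := by
    intro ξ hξ
    have := hcc χ₀ hχ₀ ξ hξ
    rw [hd₀] at this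
    rw [hm']
    field_simp
    linear_combination (-1 : ℂ) * this
  obtain ⟨m, hm⟩ : ∃ m : ℤ, m' = m := by
    apply int_of_mul_irr_degree (H := ↥KN)
    intro φ hφ hne
    have hrel := ind_frobRel KN hC hφ hne
    have hmem : Cfsg.indFun KN φ ∈ S := by rw [hS]; exact hrel
    refine ⟨c (Cfsg.indFun KN φ), ?_⟩
    rw [hform _ hmem, Cfsg.Agent.Lib.Helper83.indFun_one_eq]
    field_simp
  refine ⟨m, fun χ hχ k hk hk1 => ?_⟩
  rw [hc χ hχ k hk hk1, hform χ hχ, hm]

end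

/-- Let K be a subgroup of the finite group G that meets each conjugate by an element outside its normalizer N trivially, is properly contained in N, and contains the centralizer of each of its non-identity elements (a T.I. subgroup with Frobenius normalizer). Let S be the set of irreducible characters of N taking at some element of K a value different from their degree, suppose S has at least two members, and let star be a linear isometry on the integer span of S into the generalized characters of G that agrees with induction on the members vanishing at the identity (so S is coherent, with star as the extending isometry). Then there is a single integer m such that star χ k - χ k = m * χ 1 / e for every χ in S and every non-identity element k of K, where e is the index of K in N. -/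
theorem result {G : Type*} [Group G] [Fintype G] (K : Subgroup G) (hTI : ∀ g : G, g ∉ Subgroup.normalizer (K : Set G) → ∀ k ∈ K, g * k * g⁻¹ ∈ K → k = 1) (hlt : K < Subgroup.normalizer (K : Set G)) (hC : ∀ k ∈ K, k ≠ 1 → Subgroup.centralizer ({k} : Set G) ≤ K) [Fintype ↥(Subgroup.normalizer (K : Set G))] (S : Set (↥(Subgroup.normalizer (K : Set G)) → ℂ)) (hS : S = {χ : ↥(Subgroup.normalizer (K : Set G)) → ℂ | Cfsg.IsIrrCharacter ↥(Subgroup.normalizer (K : Set G)) χ ∧ ∃ k : ↥(Subgroup.normalizer (K : Set G)), (k : G) ∈ K ∧ χ k ≠ χ 1}) (htwo : ∃ χ ∈ S, ∃ ξ ∈ S, χ ≠ ξ) (star : (↥(Subgroup.normalizer (K : Set G)) → ℂ) → (G → ℂ)) (hstar : Cfsg.IsLinearIsometryOn (Cfsg.zspan S) star) (hext : ∀ α ∈ Cfsg.zspanOn S ({1}ᶜ : Set ↥(Subgroup.normalizer (K : Set G))), star α = Cfsg.indFun (Subgroup.normalizer (K : Set G)) α) : ∃ m : ℤ, ∀ χ ∈ S, ∀ k : ↥(Subgroup.normalizer (K : Set G)), (k : G) ∈ K → k ≠ 1 → star χ k - χ k = (m : ℂ) * χ 1 / ((K.subgroupOf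 (Subgroup.normalizer (K : Set G))).index : ℂ) := by
  classical
  haveI : (K.subgroupOf (Subgroup.normalizer (K : Set G))).Normal := Subgroup.normal_in_normalizer
  have hC' := frobTI_hC K hC
  have hS' : S = {χ : ↥(Subgroup.normalizer (K : Set G)) → ℂ |
      FrobRel (K.subgroupOf (Subgroup.normalizer (K : Set G))) χ} := by
    rw [hS]
    rfl
  have hind : ∀ α : ↥(Subgroup.normalizer (K : Set G)) → ℂ,
      Cfsg.IsClassFunction ↥(Subgroup.normalizer (K : Set G)) α →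
      (∀ x : ↥(Subgroup.normalizer (K : Set G)),
        x ∉ K.subgroupOf (Subgroup.normalizer (K : Set G)) → α x = 0) →
      ∀ k ∈ K.subgroupOf (Subgroup.normalizer (K : Set G)), k ≠ 1 →
        Cfsg.indFun (Subgroup.normalizer (K : Set G)) α k = α k := by
    intro α hα hoff k hk hk1
    exact Cfsg.Agent.Lib.Helper04.indFun_eq_on_ti (K : Set G) hTI
      (fun x hx => Subgroup.le_normalizer hx) α hα (fun x hx => hoff x hx) k hk hk1
  obtain ⟨m, hm⟩ := aux (Subgroup.normalizer (K : Set G))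
    (K.subgroupOf (Subgroup.normalizer (K : Set G))) hC' S hS' star hstar hext hind htwo
  exact ⟨m, fun χ hχ k hk hk1 => hm χ hχ k hk hk1⟩

end Cfsg.Agent.S0853
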