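import Cfsg.Statements.S0854
import Cfsg.Agent.Lib.Helper84.Clifford

set_option autoImplicit false
open Cfsg

namespace Cfsg.Agent.S0854

open Cfsg.Agent.Lib.Helper84

/-- Let H be a normal subgroup of the finite group G, ϑ an irreducible character of H, and T the inertia group of ϑ (the elements g with ϑ(g n g⁻¹) = ϑ(n) for all n in H). If χ is an irreducible character of G whose restriction to H has nonzero inner product with ϑ, then χ is induced from some irreducible character ψ of T, and the restrictions of ψ and of χ to H have the same inner product with ϑ. -/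
theorem result {G : Type*} [Group G] [Fintype G] (H : Subgroup G) [hN : H.Normal] [Fintype H] (ϑ : H → ℂ) (hϑ : Cfsg.IsIrrCharacter H ϑ) (T : Subgroup G) [Fintype T] (hT : ∀ g : G, g ∈ T ↔ ∀ n : H, ϑ ⟨g * n * g⁻¹, hN.conj_mem (n : G) n.2 g⟩ = ϑ n) (hHT : H ≤ T) (χ : G → ℂ) (hχ : Cfsg.IsIrrCharacter G χ) (hcon : Cfsg.classInner (fun n : H => χ n) ϑ ≠ 0) : ∃ ψ : T → ℂ, Cfsg.IsIrrCharacter T ψ ∧ Cfsg.indFun T ψ = χ ∧ Cfsg.classInner (fun n : H => ψ ⟨(n : G), hHT n.2⟩) ϑ = Cfsg.classInner (fun n : H => χ n) ϑ := by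
  classical
  have : Fintype (IrrCharacter T) := Fintype.ofFinite _
  have hχc : IsCharacter G χ := Cfsg.Agent.Lib.Helper83.isCharacter_of_irr hχ
  have hχT : IsCharacter T (fun t : T => χ t) := Cfsg.Agent.Lib.Helper83.isCharacter_restrict T hχc
  have hdec := Cfsg.Agent.Lib.Helper83.char_eq_sum_irrMult hχT
  have hres : (fun n : H => χ n) = ∑ ψ' : IrrCharacter T,
      (Cfsg.Agent.Lib.Helper83.irrMult (fun t : T => χ t) ψ' : ℂ) • resFun H T hHT (ψ' : T → ℂ) := by
    have h1 : (fun n : H => χ n) = resFun H T hHT (fun t : T => χ t) := rfl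
    rw [h1]
    conv_lhs => rw [hdec]
    funext n
    simp [resFun_apply, Finset.sum_apply]
  rw [hres, Cfsg.Agent.Lib.Helper83.classInner_sum_left] at hcon
  obtain ⟨ψ', -, hψ'⟩ := Finset.exists_ne_zero_of_sum_ne_zero hcon
  rw [Cfsg.Agent.Lib.Helper83.classInner_smul_left] at hψ'
  have hb : (Cfsg.Agent.Lib.Helper83.irrMult (fun t : T => χ t) ψ' : ℂ) ≠ 0 := left_ne_zero_of_mul hψ'
  have hf : classInner (resFun H T hHT (ψ' : T → ℂ)) ϑ ≠ 0 := right_ne_zero_of_mul hψ'
  have hirr := isIrrCharacter_indFun_inertia H T hHT hϑ hT ψ'.2 hf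
  have heq : indFun T (ψ' : T → ℂ) = χ := by
    apply irr_eq_of_classInner_ne_zero hirr hχ
    rw [Cfsg.Agent.Lib.Helper34.classInner_indFun_left T _ χ
      (Cfsg.Agent.Lib.Helper83.char_isClassFunction hχc),
      ← Cfsg.Agent.Lib.Helper83.classInner_conj_symm,
      ← Cfsg.Agent.Lib.Helper83.irrMult_cast hχT]
    simpa using hb
  refine ⟨ψ', ψ'.2, heq, ?_⟩
  have hM := classInner_indFun_inertia H T hHT hϑ hT ψ'.2 hf
  rw [heq] at hM
  exact hM.symm

end Cfsg.Agent.S0854
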