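import Cfsg.Statements.S0855
import Cfsg.Agent.S0169
import Cfsg.Agent.Lib.Helper79.ItoSolvable
import Cfsg.Agent.Lib.Helper83.LinearCount
import Cfsg.Agent.Lib.Helper83.Quotient
import Cfsg.Agent.Lib.Helper20.LinExt

set_option autoImplicit false
set_option linter.style.haveILetI false
open Cfsg

namespace Cfsg.Agent.S0855

open Cfsg.Agent.Lib.Helper20

universe u

/-- The number of homomorphisms to `ℂˣ` is the index of the commutator subgroup. -/
theorem card_hom_eq {G : Type u} [Group G] [Finite G] :
    Nat.card (G →* ℂˣ) = (commutator G).index := by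
  rw [← Cfsg.Agent.Lib.Helper83.card_linear_eq_index_commutator]
  apply Nat.card_congr
  refine Equiv.ofBijective
    (fun φ => ⟨⟨homFun φ, Cfsg.Agent.Lib.Helper83.isIrrCharacter_of_hom φ⟩,
      by simp [homFun_apply]⟩) ⟨?_, ?_⟩
  · intro φ ψ h
    apply homFun_injective
    have h1 := congrArg (fun x : {χ : IrrCharacter G // (χ : G → ℂ) 1 = 1} => (x.1.1 : G → ℂ)) h
    exact h1
  · rintro ⟨χ, h1⟩
    obtain ⟨φ, hφ⟩ :=
      exists_hom_of_linear (Cfsg.Agent.Lib.Helper83.IrrCharacter_isCharacter χ) h1
    exact ⟨φ, Subtype.ext (Subtype.ext hφ)⟩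

/-- If `p` divides the index of the commutator subgroup there is a normal subgroup of index
`p`. -/
theorem exists_normal_index_prime {G : Type u} [Group G] [Finite G] (p : ℕ) (hp : p.Prime)
    (h : p ∣ (commutator G).index) : ∃ K : Subgroup G, K.Normal ∧ K.index = p := by
  haveI : Fact p.Prime := ⟨hp⟩
  haveI : NeZero p := ⟨hp.ne_zero⟩
  have hfin : Finite (G →* ℂˣ) := by
    apply Nat.finite_of_card_ne_zero
    rw [card_hom_eq]
    exact Subgroup.index_ne_zero_of_finite
  rw [← card_hom_eq] at h
  obtain ⟨lam, hlam⟩ := exists_prime_orderOf_dvd_card' p h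
  refine ⟨lam.ker, inferInstance, ?_⟩
  rw [Subgroup.index_ker]
  have hle : lam.range ≤ rootsOfUnity p ℂ := by
    rintro z ⟨g, rfl⟩
    rw [mem_rootsOfUnity]
    have h1 : lam ^ p = 1 := by rw [← hlam]; exact pow_orderOf_eq_one lam
    have h2 := DFunLike.congr_fun h1 g
    rw [MonoidHom.pow_apply] at h2
    simpa using h2
  have hdvd : Nat.card lam.range ∣ p := by
    have := Subgroup.card_dvd_of_le hle
    rwa [Complex.card_rootsOfUnity] at this
  rcases (Nat.dvd_prime hp).mp hdvd with h1 | h1
  · exfalso
    rw [Subgroup.card_eq_one] at h1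
    have h2 : lam = 1 := by
      ext g
      have : lam g ∈ lam.range := ⟨g, rfl⟩
      rw [h1, Subgroup.mem_bot] at this
      rw [this]; rfl
    rw [h2, orderOf_one] at hlam
    exact hp.one_lt.ne hlam
  · exact h1

theorem forward_aux (p : ℕ) (hp : p.Prime) : ∀ n : ℕ, ∀ (G : Type u) [Group G] [Finite G],
    Nat.card G = n →
    (∀ χ : IrrCharacter G, ∃ k : ℕ, (χ : G → ℂ) 1 = (p : ℂ) ^ k) →
    ∃ A : Subgroup G, A.Normal ∧ (∀ a ∈ A, ∀ b ∈ A, a * b = b * a) ∧
      Nat.Coprime (Nat.card A) p ∧ ∃ k : ℕ, A.index = p ^ k := by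
  intro n
  induction n using Nat.strong_induction_on with
  | _ n ih =>
    intro G _ _ hn hdeg
    classical
    haveI : Fintype G := Fintype.ofFinite G
    haveI : Fintype (IrrCharacter G) := Fintype.ofFinite _
    -- natural-number version of the hypothesis
    have hdegN : ∀ χ : IrrCharacter G, ∃ k : ℕ, charDegree (χ : G → ℂ) = p ^ k := by
      intro χ
      obtain ⟨k, hk⟩ := hdeg χ
      refine ⟨k, ?_⟩
      have h1 := Cfsg.Agent.Lib.Helper83.charDegree_cast
        (Cfsg.Agent.Lib.Helper83.IrrCharacter_isCharacter χ)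
      rw [hk] at h1
      exact_mod_cast h1
    by_cases hpG : p ∣ Nat.card G
    · -- a normal subgroup of index `p`
      have hL : p ∣ (commutator G).index := by
        rw [← Cfsg.Agent.Lib.Helper83.card_linear_eq_index_commutator]
        have hsum := Cfsg.Agent.Lib.Helper83.sum_charDegree_sq (G := G)
        rw [← Finset.sum_filter_add_sum_filter_not Finset.univ
          (fun χ : IrrCharacter G => (χ : G → ℂ) 1 = 1)] at hsum
        have h1 : ∑ χ ∈ Finset.univ.filter (fun χ : IrrCharacter G => (χ : G → ℂ) 1 = 1),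
            (charDegree (χ : G → ℂ)) ^ 2 =
            Nat.card {χ : IrrCharacter G // (χ : G → ℂ) 1 = 1} := by
          rw [Nat.card_eq_fintype_card, Fintype.card_subtype, Finset.card_eq_sum_ones]
          apply Finset.sum_congr rfl
          intro χ hχ
          rw [Finset.mem_filter] at hχ
          have h2 := Cfsg.Agent.Lib.Helper83.charDegree_cast
            (Cfsg.Agent.Lib.Helper83.IrrCharacter_isCharacter χ)
          rw [hχ.2] at h2
          have h3 : charDegree (χ : G → ℂ) = 1 := by exact_mod_cast h2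
          rw [h3, one_pow]
        have h2 : p ∣ ∑ χ ∈ Finset.univ.filter (fun χ : IrrCharacter G => ¬ (χ : G → ℂ) 1 = 1),
            (charDegree (χ : G → ℂ)) ^ 2 := by
          apply Finset.dvd_sum
          intro χ hχ
          rw [Finset.mem_filter] at hχ
          obtain ⟨k, hk⟩ := hdegN χ
          have hk0 : k ≠ 0 := by
            rintro rfl
            apply hχ.2
            have h2 := Cfsg.Agent.Lib.Helper83.charDegree_cast
              (Cfsg.Agent.Lib.Helper83.IrrCharacter_isCharacter χ)
            rw [hk] at h2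
            rw [← h2]; simp
          rw [hk]
          exact dvd_pow (dvd_pow_self p hk0) two_ne_zero
        rw [h1] at hsum
        have h3 : p ∣ Nat.card {χ : IrrCharacter G // (χ : G → ℂ) 1 = 1} +
            ∑ χ ∈ Finset.univ.filter (fun χ : IrrCharacter G => ¬ (χ : G → ℂ) 1 = 1),
            (charDegree (χ : G → ℂ)) ^ 2 := by rw [hsum]; exact hpG
        exact (Nat.dvd_add_left h2).mp h3
      obtain ⟨K, hKn, hKi⟩ := exists_normal_index_prime p hp hL
      have hKcard : Nat.card K < n := by
        have := Subgroup.card_mul_index K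
        rw [hKi, hn] at this
        have hK0 : 0 < Nat.card K := Nat.card_pos
        have := hp.one_lt
        nlinarith
      have hKdeg : ∀ θ : IrrCharacter K, ∃ k : ℕ, (θ : K → ℂ) 1 = (p : ℂ) ^ k := by
        intro θ
        obtain ⟨χ, e, he⟩ := Cfsg.Agent.Lib.Helper79.exists_irr_over K hKn θ
        obtain ⟨k, hk⟩ := hdegN χ
        have hdvd : charDegree (θ : K → ℂ) ∣ p ^ k := by
          rw [← hk, he]
          exact dvd_mul_left _ _
        obtain ⟨j, -, hj⟩ := (Nat.dvd_prime_pow hp).mp hdvd
        refine ⟨j, ?_⟩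
        rw [← Cfsg.Agent.Lib.Helper83.charDegree_cast
          (Cfsg.Agent.Lib.Helper83.IrrCharacter_isCharacter θ), hj]
        push_cast
        rfl
      obtain ⟨A, hAn, hAab, hAcop, j, hAj⟩ := ih (Nat.card K) hKcard K rfl hKdeg
      refine ⟨A.map K.subtype, ?_, ?_, ?_, j + 1, ?_⟩
      · constructor
        rintro _ ⟨a, ha, rfl⟩ g
        have hcK : g * (a : G) * g⁻¹ ∈ K := hKn.conj_mem _ a.2 g
        refine ⟨⟨g * (a : G) * g⁻¹, hcK⟩, ?_, rfl⟩
        set c : K := ⟨g * (a : G) * g⁻¹, hcK⟩ with hc
        have hpowa : a ^ Nat.card A = 1 := by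
          have h0 : (⟨a, ha⟩ : A) ^ Nat.card A = 1 := pow_card_eq_one'
          have h1 := congrArg (Subtype.val : A → K) h0
          rw [Subgroup.coe_pow, Subgroup.coe_one] at h1
          exact h1
        have hpowc : c ^ Nat.card A = 1 := by
          apply Subtype.ext
          rw [hc]
          simp only [Subgroup.coe_pow, Subgroup.coe_one]
          rw [conj_pow]
          have := congrArg (Subtype.val : K → G) hpowa
          simp only [Subgroup.coe_pow, Subgroup.coe_one] at this
          rw [this]
          group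
        rw [SetLike.mem_coe, ← QuotientGroup.eq_one_iff]
        have h1 : (QuotientGroup.mk c : K ⧸ A) ^ Nat.card A = 1 := by
          rw [← QuotientGroup.mk_pow, hpowc, QuotientGroup.mk_one]
        have h2 : (QuotientGroup.mk c : K ⧸ A) ^ (p ^ j) = 1 := by
          rw [← hAj, Subgroup.index_eq_card]
          exact pow_card_eq_one'
        have h3 := orderOf_dvd_of_pow_eq_one h1
        have h4 := orderOf_dvd_of_pow_eq_one h2
        have h5 : Nat.Coprime (Nat.card A) (p ^ j) := Nat.Coprime.pow_right j hAcop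
        exact orderOf_eq_one_iff.mp (Nat.eq_one_of_dvd_coprimes h5 h3 h4)
      · rintro _ ⟨a, ha, rfl⟩ _ ⟨b, hb, rfl⟩
        have := hAab a ha b hb
        have := congrArg (Subtype.val : K → G) this
        simpa using this
      · rw [Subgroup.card_map_of_injective K.subtype_injective]
        exact hAcop
      · rw [Subgroup.index_map_subtype, hAj, hKi, pow_succ]
    · -- `G` is abelian
      have hlin : ∀ θ : IrrCharacter G, charDegree (θ : G → ℂ) = 1 := by
        intro θ
        obtain ⟨k, hk⟩ := hdegN θ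
        have h1 := Cfsg.Agent.Lib.Helper83.irr_charDegree_dvd_card θ
        rw [hk] at h1 ⊢
        rcases Nat.eq_zero_or_pos k with rfl | hk0
        · simp
        · exact absurd ((dvd_pow_self p hk0.ne').trans h1) hpG
      have hcomm := Cfsg.Agent.Lib.Helper79.comm_of_all_linear hlin
      refine ⟨⊤, inferInstance, fun a _ b _ => hcomm a b, ?_, 0, ?_⟩
      · rw [Subgroup.card_top]
        exact Nat.Coprime.symm ((Nat.Prime.coprime_iff_not_dvd hp).mpr hpG)
      · simp

/-- For a finite group G and a prime p: every irreducible character of G has degree a power of p if and only if G has an abelian normal subgroup whose order is prime to p and whose index is a power of p. -/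
theorem result {G : Type*} [Group G] [Finite G] (p : ℕ) (hp : p.Prime) : (∀ χ : Cfsg.IrrCharacter G, ∃ k : ℕ, (χ : G → ℂ) 1 = (p : ℂ) ^ k) ↔ ∃ A : Subgroup G, A.Normal ∧ (∀ a ∈ A, ∀ b ∈ A, a * b = b * a) ∧ Nat.Coprime (Nat.card A) p ∧ ∃ k : ℕ, A.index = p ^ k := by
  constructor
  · intro h
    exact forward_aux p hp (Nat.card G) G rfl h
  · rintro ⟨A, hAn, hAab, -, k, hk⟩ χ
    obtain ⟨n, ρ, hirr, hχ⟩ := χ.2
    haveI := hirr
    haveI := hAn
    have h1 := Cfsg.Agent.S0169.result ρ A hAab
    rw [hk] at h1
    have h2 : Module.finrank ℂ (Fin n → ℂ) = n := by simp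
    rw [h2] at h1
    obtain ⟨j, -, hj⟩ := (Nat.dvd_prime_pow hp).mp h1
    refine ⟨j, ?_⟩
    rw [← hχ, Cfsg.Agent.Lib.Helper83.rep_char_one, hj]
    push_cast
    rfl

end Cfsg.Agent.S0855
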