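import Mathlib
import Cfsg.Statements.S4956
import Cfsg.Agent.Lib.Helper85.CoprimeMul

set_option autoImplicit false

namespace Cfsg.Agent.S4956

open Cfsg.Agent.Lib.Helper85

section
variable {X : Type*} [Group X]

theorem comm_iff (V G : Subgroup X) [hn : V.Normal] (hGV : V.IsComplement' G) (u w : V) (g h : G) :
    ((u : X) * g) * (w * h) = (w * h) * (u * g) ↔
      (g : X) * h = h * g ∧ (u : X) * (g * w * (g : X)⁻¹) = w * (h * u * (h : X)⁻¹) := by
  have e1 : ((u : X) * g) * (w * h) = ((u : X) * (g * w * (g : X)⁻¹)) * (g * h) := by group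
  have e2 : ((w : X) * h) * (u * g) = ((w : X) * (h * u * (h : X)⁻¹)) * (h * g) := by group
  constructor
  · intro hh
    rw [e1, e2] at hh
    have m1 : (u : X) * (g * w * (g : X)⁻¹) ∈ V := V.mul_mem u.2 (hn.conj_mem w w.2 g)
    have m2 : (w : X) * (h * u * (h : X)⁻¹) ∈ V := V.mul_mem w.2 (hn.conj_mem u u.2 h)
    have m3 : (g : X) * h ∈ G := G.mul_mem g.2 h.2
    have m4 : (h : X) * g ∈ G := G.mul_mem h.2 g.2
    have := @hGV.1 ⟨⟨_, m1⟩, ⟨_, m3⟩⟩ ⟨⟨_, m2⟩, ⟨_, m4⟩⟩ hh
    simp only [Prod.mk.injEq, Subtype.mk.injEq] at this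
    exact ⟨this.2, this.1⟩
  · rintro ⟨h1, h2⟩
    rw [e1, e2, h1, h2]

/-- fiber count -/
theorem fiber_count (V : Subgroup X) [hn : V.Normal] [Finite V]
    (hab : ∀ a ∈ V, ∀ b ∈ V, a * b = b * a) (g h : X) (n : ℕ) (hg : g ^ n = 1) (hh : h ^ n = 1)
    (hgh : g * h = h * g) (hcop : (Nat.card V).Coprime n) :
    Nat.card {p : ↥V × ↥V // (p.1 : X) * (g * p.2 * g⁻¹) = p.2 * (h * p.1 * h⁻¹)} =
      Nat.card V * Nat.card {v : ↥V // g * v * g⁻¹ = v ∧ h * v * h⁻¹ = v} := by
  let _ : CommGroup ↥V :=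
    { (inferInstance : Group ↥V) with mul_comm := fun a b => Subtype.ext (hab a a.2 b b.2) }
  have key := card_solutions_mul (A := ↥V) (MulAut.conjNormal g) (MulAut.conjNormal h) n n
    (by
      show MulAut.conjNormal g * MulAut.conjNormal h = MulAut.conjNormal h * MulAut.conjNormal g
      rw [← map_mul, ← map_mul, hgh])
    (by rw [← map_pow, hg, map_one]) (by rw [← map_pow, hh, map_one])
    (Nat.Coprime.mul_right hcop hcop)
  have e1 : {p : ↥V × ↥V // (p.1 : X) * (g * p.2 * g⁻¹) = p.2 * (h * p.1 * h⁻¹)} ≃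
      {p : ↥V × ↥V // p.1 * (MulAut.conjNormal g) p.2 = p.2 * (MulAut.conjNormal h) p.1} := by
    refine Equiv.subtypeEquivRight fun p => ?_
    rw [Subtype.ext_iff]
    simp only [Subgroup.coe_mul, MulAut.conjNormal_apply]
  have e2 : {v : ↥V // g * v * g⁻¹ = v ∧ h * v * h⁻¹ = v} ≃
      {v : ↥V // (MulAut.conjNormal g) v = v ∧ (MulAut.conjNormal h) v = v} := by
    refine Equiv.subtypeEquivRight fun p => ?_
    rw [Subtype.ext_iff, Subtype.ext_iff]
    simp only [MulAut.conjNormal_apply]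
  rw [Nat.card_congr e1, Nat.card_congr e2]
  exact key

end

section
variable {X : Type*} [Group X]

/-- Conjugacy classes of isomorphic groups. -/
def conjClassesEquiv {H K : Type*} [Group H] [Group K] (e : H ≃* K) :
    ConjClasses H ≃ ConjClasses K where
  toFun := ConjClasses.map e.toMonoidHom
  invFun := ConjClasses.map e.symm.toMonoidHom
  left_inv := by
    intro c
    obtain ⟨a, rfl⟩ := ConjClasses.exists_rep c
    show ConjClasses.mk (e.symm (e a)) = ConjClasses.mk a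
    rw [e.symm_apply_apply]
  right_inv := by
    intro c
    obtain ⟨a, rfl⟩ := ConjClasses.exists_rep c
    show ConjClasses.mk (e (e.symm a)) = ConjClasses.mk a
    rw [e.apply_symm_apply]

theorem mem_inf_cent {G : Subgroup X} {x c : X} :
    c ∈ G ⊓ Subgroup.centralizer ({x} : Set X) ↔ c ∈ G ∧ c * x = x * c := by
  rw [Subgroup.mem_inf, Subgroup.mem_centralizer_singleton_iff]

/-- Conjugating a centralizer inside `G`. -/
def conjEquiv (G : Subgroup X) (g : X) (hg : g ∈ G) (x : X) :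
    ↥(G ⊓ Subgroup.centralizer ({x} : Set X)) ≃*
      ↥(G ⊓ Subgroup.centralizer ({g * x * g⁻¹} : Set X)) where
  toFun c := ⟨g * c * g⁻¹, by
    obtain ⟨hc1, hc2⟩ := mem_inf_cent.mp c.2
    refine mem_inf_cent.mpr ⟨G.mul_mem (G.mul_mem hg hc1) (G.inv_mem hg), ?_⟩
    calc g * c * g⁻¹ * (g * x * g⁻¹) = g * (c * x) * g⁻¹ := by group
      _ = g * (x * c) * g⁻¹ := by rw [hc2]
      _ = g * x * g⁻¹ * (g * c * g⁻¹) := by group⟩
  invFun d := ⟨g⁻¹ * d * g, by
    obtain ⟨hd1, hd2⟩ := mem_inf_cent.mp d.2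
    refine mem_inf_cent.mpr ⟨G.mul_mem (G.mul_mem (G.inv_mem hg) hd1) hg, ?_⟩
    calc g⁻¹ * d * g * x = g⁻¹ * (d * (g * x * g⁻¹)) * g := by group
      _ = g⁻¹ * (g * x * g⁻¹ * d) * g := by rw [hd2]
      _ = x * (g⁻¹ * d * g) := by group⟩
  left_inv c := by
    apply Subtype.ext
    simp only
    group
  right_inv d := by
    apply Subtype.ext
    simp only
    group
  map_mul' a b := by
    apply Subtype.ext
    simp only [Subgroup.coe_mul]
    group

theorem card_conjClasses_conj (G : Subgroup X) (g : X) (hg : g ∈ G) (x : X) :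
    Nat.card (ConjClasses ↥(G ⊓ Subgroup.centralizer ({g * x * g⁻¹} : Set X))) =
      Nat.card (ConjClasses ↥(G ⊓ Subgroup.centralizer ({x} : Set X))) :=
  (Nat.card_congr (conjClassesEquiv (conjEquiv G g hg x))).symm

/-- The coset bijection. -/
def cosetEquiv (G : Subgroup X) (v s₀ : X) (g₀ : X) (hg₀ : g₀ ∈ G) (h0 : g₀ * v * g₀⁻¹ = s₀) :
    {g : ↥G // (g : X) * v * (g : X)⁻¹ = s₀} ≃ ↥(G ⊓ Subgroup.centralizer ({v} : Set X)) where
  toFun g := ⟨g₀⁻¹ * g, by
    have hgs := g.2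
    refine mem_inf_cent.mpr ⟨G.mul_mem (G.inv_mem hg₀) g.1.2, ?_⟩
    have : (g : X) * v * (g : X)⁻¹ = g₀ * v * g₀⁻¹ := by rw [hgs, h0]
    calc g₀⁻¹ * (g : X) * v = g₀⁻¹ * ((g : X) * v * (g : X)⁻¹) * g := by group
      _ = g₀⁻¹ * (g₀ * v * g₀⁻¹) * g := by rw [this]
      _ = v * (g₀⁻¹ * g) := by group⟩
  invFun c := ⟨⟨g₀ * c, G.mul_mem hg₀ (mem_inf_cent.mp c.2).1⟩, by
    obtain ⟨hc1, hc2⟩ := mem_inf_cent.mp c.2
    simp only
    calc g₀ * (c : X) * v * (g₀ * (c : X))⁻¹ = g₀ * ((c : X) * v) * (c : X)⁻¹ * g₀⁻¹ := by group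
      _ = g₀ * (v * c) * (c : X)⁻¹ * g₀⁻¹ := by rw [hc2]
      _ = g₀ * v * g₀⁻¹ := by group
      _ = s₀ := h0⟩
  left_inv g := by
    apply Subtype.ext
    apply Subtype.ext
    simp
  right_inv c := by
    apply Subtype.ext
    simp

end

theorem card_subtype_prod {α β : Type*} [Fintype α] [Finite β] (p : α → β → Prop) :
    Nat.card {x : α × β // p x.1 x.2} = ∑ a, Nat.card {b // p a b} := by
  rw [Nat.card_congr (Equiv.subtypeProdEquivSigmaSubtype p), Nat.card_sigma]

theorem sum_card_swap {α β : Type*} [Fintype α] [Fintype β] (p : α → β → Prop) :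
    ∑ a, Nat.card {b // p a b} = ∑ b, Nat.card {a // p a b} := by
  rw [← card_subtype_prod p, ← card_subtype_prod (fun b a => p a b)]
  exact Nat.card_congr
    (Equiv.subtypeEquiv (Equiv.prodComm α β) (fun _ => Iff.rfl))

section main
variable {X : Type*} [Group X] [Finite X]

/-- Steps A and B. -/
theorem card_CP (V : Subgroup X) [hn : V.Normal] (hab : ∀ a ∈ V, ∀ b ∈ V, a * b = b * a)
    (G : Subgroup X) (hGV : Subgroup.IsComplement' V G)
    (hcop : (Nat.card V).Coprime (Nat.card G)) [Fintype ↥V] [Fintype ↥G] :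
    Nat.card {p : X × X // Commute p.1 p.2} =
      Nat.card V * ∑ v : ↥V, Nat.card {p : ↥(G ⊓ Subgroup.centralizer ({(v : X)} : Set X)) ×
        ↥(G ⊓ Subgroup.centralizer ({(v : X)} : Set X)) // Commute p.1 p.2} := by
  classical
  -- the equivalence X ≃ V × G
  let e : ↥V × ↥G ≃ X := Equiv.ofBijective (fun p => (p.1 : X) * p.2) hGV
  let E' : (↥G × ↥G) × (↥V × ↥V) ≃ X × X :=
    (Equiv.prodComm _ _).trans ((Equiv.prodProdProdComm ↥V ↥V ↥G ↥G).trans (e.prodCongr e))
  let P : ↥G × ↥G → ↥V × ↥V → Prop := fun gh uw =>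
    ((uw.1 : X) * gh.1) * (uw.2 * gh.2) = (uw.2 * gh.2) * (uw.1 * gh.1)
  let Q : ↥G × ↥G → ↥V → Prop := fun gh v =>
    (gh.1 : X) * gh.2 = gh.2 * gh.1 ∧ (gh.1 : X) * v * (gh.1 : X)⁻¹ = v ∧
      (gh.2 : X) * v * (gh.2 : X)⁻¹ = v
  have h1 : Nat.card {p : X × X // Commute p.1 p.2} =
      Nat.card {q : (↥G × ↥G) × (↥V × ↥V) // P q.1 q.2} :=
    (Nat.card_congr (Equiv.subtypeEquiv E' (fun _ => Iff.rfl))).symm
  rw [h1, card_subtype_prod P]
  have h2 : ∀ gh : ↥G × ↥G, Nat.card {uw // P gh uw} = Nat.card V * Nat.card {v // Q gh v} := by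
    rintro ⟨g, h⟩
    by_cases hc : (g : X) * h = h * g
    · have hg : (g : X) ^ Nat.card G = 1 := by
        rw [← Subgroup.coe_pow, pow_card_eq_one', Subgroup.coe_one]
      have hh : (h : X) ^ Nat.card G = 1 := by
        rw [← Subgroup.coe_pow, pow_card_eq_one', Subgroup.coe_one]
      have key := fiber_count V hab (g : X) (h : X) (Nat.card G) hg hh hc hcop
      have e1 : {uw // P (g, h) uw} ≃
          {p : ↥V × ↥V // (p.1 : X) * (g * p.2 * (g : X)⁻¹) = p.2 * (h * p.1 * (h : X)⁻¹)} := by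
        refine Equiv.subtypeEquivRight fun p => ?_
        show ((p.1 : X) * g) * (p.2 * h) = (p.2 * h) * (p.1 * g) ↔ _
        rw [comm_iff V G hGV]
        exact ⟨fun hh => hh.2, fun hh => ⟨hc, hh⟩⟩
      have e2 : {v // Q (g, h) v} ≃
          {v : ↥V // (g : X) * v * (g : X)⁻¹ = v ∧ (h : X) * v * (h : X)⁻¹ = v} := by
        refine Equiv.subtypeEquivRight fun v => ?_
        exact ⟨fun hh => hh.2, fun hh => ⟨hc, hh⟩⟩
      rw [Nat.card_congr e1, Nat.card_congr e2, key]
    · have i1 : IsEmpty {uw // P (g, h) uw} := by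
        constructor
        rintro ⟨p, hp⟩
        have hp' : ((p.1 : X) * g) * (p.2 * h) = (p.2 * h) * (p.1 * g) := hp
        rw [comm_iff V G hGV] at hp'
        exact hc hp'.1
      have i2 : IsEmpty {v // Q (g, h) v} := by
        constructor
        rintro ⟨v, hv⟩
        exact hc hv.1
      rw [@Nat.card_of_isEmpty _ i1, @Nat.card_of_isEmpty _ i2, mul_zero]
  simp_rw [h2]
  rw [← Finset.mul_sum, sum_card_swap Q]
  congr 1
  apply Finset.sum_congr rfl
  intro v _
  apply Nat.card_congr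
  exact
    { toFun := fun t => ⟨(⟨t.1.1, mem_inf_cent.mpr ⟨t.1.1.2, mul_inv_eq_iff_eq_mul.mp t.2.2.1⟩⟩,
          ⟨t.1.2, mem_inf_cent.mpr ⟨t.1.2.2, mul_inv_eq_iff_eq_mul.mp t.2.2.2⟩⟩), by
          show _ * _ = _ * _
          apply Subtype.ext
          exact t.2.1⟩
      invFun := fun t => ⟨(⟨t.1.1, (mem_inf_cent.mp t.1.1.2).1⟩, ⟨t.1.2, (mem_inf_cent.mp t.1.2.2).1⟩),
        ⟨congrArg Subtype.val t.2.eq, mul_inv_eq_iff_eq_mul.mpr (mem_inf_cent.mp t.1.1.2).2,
          mul_inv_eq_iff_eq_mul.mpr (mem_inf_cent.mp t.1.2.2).2⟩⟩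
      left_inv := fun t => rfl
      right_inv := fun t => rfl }

end main

section final
variable {X : Type*} [Group X]

theorem stepC [Finite X] (V G : Subgroup X) [hn : V.Normal] (S : Finset X) (hSV : ∀ s ∈ S, s ∈ V)
    (hrep : ∀ v ∈ V, ∃! s, s ∈ S ∧ ∃ g ∈ G, g * v * g⁻¹ = s) [Fintype ↥V] [Fintype ↥G]
    (F : X → ℕ) (hF : ∀ g ∈ G, ∀ x, F (g * x * g⁻¹) = F x) :
    ∑ v : ↥V, F v * Nat.card ↥(G ⊓ Subgroup.centralizer ({(v : X)} : Set X)) =
      Nat.card G * ∑ s ∈ S, F s := by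
  classical
  -- per-v: the stabilizer count equals the number of g with g v g⁻¹ ∈ S
  have h1 : ∀ v : ↥V, Nat.card ↥(G ⊓ Subgroup.centralizer ({(v : X)} : Set X)) =
      ∑ g : ↥G, if (g : X) * v * (g : X)⁻¹ ∈ S then 1 else 0 := by
    intro v
    obtain ⟨s₀, ⟨hs₀, g₀, hg₀, h0⟩, huniq⟩ := hrep v v.2
    rw [← Nat.card_congr (cosetEquiv G v s₀ g₀ hg₀ h0), Nat.card_eq_fintype_card,
      Fintype.card_subtype, Finset.card_filter]
    apply Finset.sum_congr rfl
    intro g _
    have : (g : X) * v * (g : X)⁻¹ = s₀ ↔ (g : X) * v * (g : X)⁻¹ ∈ S := by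
      constructor
      · intro h; rw [h]; exact hs₀
      · intro h
        exact huniq _ ⟨h, g, g.2, rfl⟩
    simp only [this]
  -- per (s, g): F s as a sum over v
  have h2 : ∀ s ∈ S, ∀ g : ↥G, F s = ∑ v : ↥V, if (g : X) * v * (g : X)⁻¹ = s then F v else 0 := by
    intro s hs g
    have hmem : (g : X)⁻¹ * s * g ∈ V := by
      have := hn.conj_mem s (hSV s hs) (g : X)⁻¹
      simpa using this
    rw [Finset.sum_eq_single (⟨(g : X)⁻¹ * s * g, hmem⟩ : ↥V)]
    · have e : (g : X) * ((g : X)⁻¹ * s * g) * (g : X)⁻¹ = s := by group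
      simp only [e, if_true]
      have := hF (g : X)⁻¹ (G.inv_mem g.2) s
      rw [inv_inv] at this
      exact this.symm
    · intro v _ hv
      rw [if_neg]
      intro h
      apply hv
      apply Subtype.ext
      simp only
      rw [← h]
      group
    · intro h
      exact absurd (Finset.mem_univ _) h
  calc ∑ v : ↥V, F v * Nat.card ↥(G ⊓ Subgroup.centralizer ({(v : X)} : Set X))
      = ∑ v : ↥V, ∑ g : ↥G, ∑ s ∈ S, if (g : X) * v * (g : X)⁻¹ = s then F v else 0 := by
        apply Finset.sum_congr rfl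
        intro v _
        rw [h1 v, Finset.mul_sum]
        apply Finset.sum_congr rfl
        intro g _
        rw [Finset.sum_ite_eq]
        split_ifs <;> simp
    _ = ∑ v : ↥V, ∑ s ∈ S, ∑ g : ↥G, if (g : X) * v * (g : X)⁻¹ = s then F v else 0 := by
        apply Finset.sum_congr rfl
        intro v _
        exact Finset.sum_comm
    _ = ∑ s ∈ S, ∑ v : ↥V, ∑ g : ↥G, if (g : X) * v * (g : X)⁻¹ = s then F v else 0 :=
        Finset.sum_comm
    _ = ∑ s ∈ S, ∑ g : ↥G, ∑ v : ↥V, if (g : X) * v * (g : X)⁻¹ = s then F v else 0 := by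
        apply Finset.sum_congr rfl
        intro s _
        exact Finset.sum_comm
    _ = ∑ s ∈ S, ∑ g : ↥G, F s := by
        apply Finset.sum_congr rfl
        intro s hs
        apply Finset.sum_congr rfl
        intro g _
        exact (h2 s hs g).symm
    _ = Nat.card G * ∑ s ∈ S, F s := by
        rw [Finset.mul_sum]
        apply Finset.sum_congr rfl
        intro s _
        rw [Finset.sum_const, smul_eq_mul, Finset.card_univ, Nat.card_eq_fintype_card]


end final

/-- Let X be a finite group, V an abelian normal subgroup of X (any two elements of V commute) and G a complement to V in X whose order is coprime to that of V. Let S be a set of representatives of the orbits of G on V under conjugation: S lies in V and every element of V is conjugate under G to exactly one member of S. Then the number of conjugacy classes of X equals the sum, over s in S, of the number of conjugacy classes of the centralizer of s in G. -/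
theorem result {X : Type*} [Group X] [Finite X] (V : Subgroup X) [V.Normal] (hab : ∀ a ∈ V, ∀ b ∈ V, a * b = b * a) (G : Subgroup X) (hGV : Subgroup.IsComplement' V G) (hcop : (Nat.card V).Coprime (Nat.card G)) (S : Finset X) (hSV : ∀ s ∈ S, s ∈ V) (hrep : ∀ v ∈ V, ∃! s, s ∈ S ∧ ∃ g ∈ G, g * v * g⁻¹ = s) : Nat.card (ConjClasses X) = ∑ s ∈ S, Nat.card (ConjClasses ↥(G ⊓ Subgroup.centralizer ({s} : Set X))) := by
  classical
  haveI : Fintype ↥V := Fintype.ofFinite _
  haveI : Fintype ↥G := Fintype.ofFinite _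
  have hA := card_CP V hab G hGV hcop
  have hC := stepC V G S hSV hrep
    (fun x => Nat.card (ConjClasses ↥(G ⊓ Subgroup.centralizer ({x} : Set X))))
    (fun g hg x => card_conjClasses_conj G g hg x)
  simp_rw [card_comm_eq_card_conjClasses_mul_card] at hA
  rw [hC, ← mul_assoc, hGV.card_mul_card] at hA
  have hpos : 0 < Nat.card X := Nat.card_pos
  apply Nat.eq_of_mul_eq_mul_right hpos
  rw [hA, mul_comm]

end Cfsg.Agent.S4956
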