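import Cfsg.Statements.S4955
import Mathlib
import Cfsg.Agent.Lib.Helper83.SecondOrth
import Cfsg.Agent.Lib.Helper83.Quotient
import Cfsg.Agent.Lib.Helper85.CharAMGM
import Cfsg.Agent.Lib.Helper85.CliffordAbelian
import Cfsg.Agent.S4956

set_option autoImplicit false
open Cfsg

namespace Cfsg.Agent.S4955

open Cfsg.Agent.Lib.Helper83 Cfsg.Agent.Lib.Helper85
open scoped ComplexConjugate
open Finset

theorem centralizer_pow_eq {X : Type*} [Group X] [Finite X] (v : X) (k : ℕ)
    (hk : (Nat.card X).Coprime k) :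
    Subgroup.centralizer ({v ^ k} : Set X) = Subgroup.centralizer ({v} : Set X) := by
  apply le_antisymm
  · intro x hx
    rw [Subgroup.mem_centralizer_singleton_iff] at hx ⊢
    have h := (powCoprime hk).symm_apply_apply v
    rw [powCoprime_symm_apply, powCoprime_apply] at h
    have hc : Commute (v ^ k) x := hx.symm
    have hc2 := hc.zpow_left ((Nat.card X).gcdB k)
    rw [h] at hc2
    exact hc2.symm
  · intro x hx
    rw [Subgroup.mem_centralizer_singleton_iff] at hx ⊢
    have hc : Commute v x := hx.symm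
    exact (hc.pow_left k).symm

theorem card_centralizer_eq {X : Type*} [Group X] [Finite X] (V : Subgroup X)
    (hab : ∀ a ∈ V, ∀ b ∈ V, a * b = b * a) (G : Subgroup X)
    (hGV : Subgroup.IsComplement' V G) (v : X) (hv : v ∈ V) :
    Nat.card (Subgroup.centralizer ({v} : Set X)) =
      Nat.card V * Nat.card ↥(G ⊓ Subgroup.centralizer ({v} : Set X)) := by
  classical
  set C := Subgroup.centralizer ({v} : Set X) with hC
  have hVC : ∀ u ∈ V, u ∈ C := by
    intro u hu
    rw [hC, Subgroup.mem_centralizer_singleton_iff]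
    exact hab u hu v hv
  let e : ↥V × ↥G ≃ X := Equiv.ofBijective _ hGV
  have he : ∀ q : ↥V × ↥G, e q = (q.1 : X) * (q.2 : X) := fun q => rfl
  have h1 : Nat.card C = Nat.card {q : ↥V × ↥G // (q.2 : X) ∈ C} := by
    apply Nat.card_congr
    refine (Equiv.subtypeEquiv e ?_).symm
    intro q
    rw [he]
    exact (Subgroup.mul_mem_cancel_left C (hVC _ q.1.2)).symm
  have h2 : Nat.card {q : ↥V × ↥G // (q.2 : X) ∈ C} = Nat.card (↥V × {g : ↥G // (g : X) ∈ C}) := by
    apply Nat.card_congr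
    exact
      { toFun := fun q => (q.1.1, ⟨q.1.2, q.2⟩)
        invFun := fun q => ⟨(q.1, q.2.1), q.2.2⟩
        left_inv := fun q => rfl
        right_inv := fun q => rfl }
  have h3 : Nat.card {g : ↥G // (g : X) ∈ C} = Nat.card ↥(G ⊓ C) := by
    apply Nat.card_congr
    exact
      { toFun := fun g => ⟨g.1.1, Subgroup.mem_inf.mpr ⟨g.1.2, g.2⟩⟩
        invFun := fun c => ⟨⟨c.1, (Subgroup.mem_inf.mp c.2).1⟩, (Subgroup.mem_inf.mp c.2).2⟩
        left_inv := fun g => rfl
        right_inv := fun c => rfl }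
  rw [h1, h2, Nat.card_prod, h3]

theorem card_inflated {X : Type*} [Group X] [Finite X] (V : Subgroup X) [V.Normal]
    (G : Subgroup X) (hGV : Subgroup.IsComplement' V G) :
    Nat.card {χ : IrrCharacter X // ∀ n ∈ V, (χ : X → ℂ) n = (χ : X → ℂ) 1} =
      Nat.card (ConjClasses G) := by
  rw [← Nat.card_congr (irrQuotientEquiv V)]
  have : Fintype (X ⧸ V) := Fintype.ofFinite _
  have : Fintype (IrrCharacter (X ⧸ V)) := Fintype.ofFinite _
  rw [card_irr_eq_card_conjClasses]
  exact Nat.card_congr (Cfsg.Agent.S4956.conjClassesEquiv hGV.symm.QuotientMulEquiv)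

theorem sum_sq_inflated {X : Type*} [Group X] [Finite X] (V : Subgroup X) [V.Normal]
    (G : Subgroup X) (hGV : Subgroup.IsComplement' V G)
    [Fintype {χ : IrrCharacter X // ∀ n ∈ V, (χ : X → ℂ) n = (χ : X → ℂ) 1}] :
    ∑ χ : {χ : IrrCharacter X // ∀ n ∈ V, (χ : X → ℂ) n = (χ : X → ℂ) 1},
      ((χ.1 : X → ℂ) 1) ^ 2 = (Nat.card G : ℂ) := by
  have : Fintype (X ⧸ V) := Fintype.ofFinite _
  have : Fintype (IrrCharacter (X ⧸ V)) := Fintype.ofFinite _
  rw [← Equiv.sum_comp (irrQuotientEquiv V)]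
  have h : ∀ ψ : IrrCharacter (X ⧸ V),
      ((irrQuotientEquiv V ψ).1 : X → ℂ) 1 = (ψ : X ⧸ V → ℂ) 1 :=
    fun ψ => irrQuotientEquiv_apply V ψ 1
  simp only [h]
  rw [sum_irr_degree_sq]
  congr 1
  exact Nat.card_congr hGV.symm.QuotientMulEquiv.toEquiv

/-- Let X be a finite group with an abelian normal Sylow p-subgroup V (a normal p-subgroup of index prime to p in which any two elements commute), and let G be a complement to V in X. Then for every v in V, writing C for the centralizer of v in G, the number k(X) of conjugacy classes of X satisfies k(X) ≤ (order of C)·(order of V) − ((order of G) − k(G)); the statement is written with the subtracted term moved to the left. In particular, if some v in V is centralized by no nonidentity element of G, then k(X) is at most the order of V. -/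
theorem result {X : Type*} [Group X] [Finite X] (p : ℕ) [Fact p.Prime] (V : Subgroup X) [V.Normal] (hVp : IsPGroup p V) (hidx : ¬ p ∣ V.index) (hab : ∀ a ∈ V, ∀ b ∈ V, a * b = b * a) (G : Subgroup X) (hGV : Subgroup.IsComplement' V G) (v : X) (hv : v ∈ V) : Nat.card (ConjClasses X) + Nat.card G ≤ Nat.card ↥(G ⊓ Subgroup.centralizer ({v} : Set X)) * Nat.card V + Nat.card (ConjClasses G) := by
  classical
  have : Fintype X := Fintype.ofFinite X
  have : Fintype (IrrCharacter X) := Fintype.ofFinite _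
  set M := Nat.card X with hMdef
  have hM : 0 < M := Nat.card_pos
  have hpowM : ∀ g : X, g ^ M = 1 := fun g => pow_card_eq_one'
  set U := (range M).filter (Nat.Coprime M) with hU
  have hUcard : (U.card : ℝ) = (M.totient : ℝ) := by
    rw [hU, Nat.totient_eq_card_coprime]
  have hφpos : (0 : ℝ) < (M.totient : ℝ) := by
    exact_mod_cast Nat.totient_pos.mpr hM
  set C := Subgroup.centralizer ({v} : Set X) with hC
  set T : IrrCharacter X → ℝ := fun χ => ∑ k ∈ U, ‖(χ : X → ℂ) (v ^ k)‖ ^ 2 with hT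
  -- (A) second orthogonality
  have hA : ∑ χ : IrrCharacter X, T χ = (M.totient : ℝ) * (Nat.card C : ℝ) := by
    simp only [hT]
    rw [Finset.sum_comm]
    have hk : ∀ k ∈ U, ∑ χ : IrrCharacter X, ‖(χ : X → ℂ) (v ^ k)‖ ^ 2 = (Nat.card C : ℝ) := by
      intro k hk
      have hcop : (Nat.card X).Coprime k := (Finset.mem_filter.mp hk).2
      have h := second_orthogonality (G := X) (v ^ k) (v ^ k)
      rw [if_pos (IsConj.refl _), centralizer_pow_eq v k hcop] at h
      have h' : ∀ χ : IrrCharacter X, (χ : X → ℂ) (v ^ k) * conj ((χ : X → ℂ) (v ^ k)) =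
          ((‖(χ : X → ℂ) (v ^ k)‖ ^ 2 : ℝ) : ℂ) := by
        intro χ
        rw [Complex.mul_conj, Complex.normSq_eq_norm_sq]
      simp only [h'] at h
      rw [← Complex.ofReal_sum] at h
      have h2 : ((∑ χ : IrrCharacter X, ‖(χ : X → ℂ) (v ^ k)‖ ^ 2 : ℝ) : ℂ) =
          ((Nat.card C : ℝ) : ℂ) := by
        rw [h]; push_cast; rfl
      exact Complex.ofReal_injective h2
    rw [Finset.sum_congr rfl hk, Finset.sum_const, nsmul_eq_mul, hUcard]
  set P : IrrCharacter X → Prop := fun χ => ∀ n ∈ V, (χ : X → ℂ) n = (χ : X → ℂ) 1 with hP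
  have hTP : ∀ χ, P χ → T χ = (M.totient : ℝ) * ‖(χ : X → ℂ) 1‖ ^ 2 := by
    intro χ hχ
    simp only [hT]
    rw [← hUcard, ← nsmul_eq_mul, ← Finset.sum_const]
    apply Finset.sum_congr rfl
    intro k _
    rw [hχ (v ^ k) (V.pow_mem hv k)]
  have hTN : ∀ χ : IrrCharacter X, (M.totient : ℝ) ≤ T χ := by
    intro χ
    exact char_sum_normSq_ge' (IrrCharacter_isCharacter χ) v M hM (hpowM v)
      (irr_apply_ne_zero_of_abelian_normal_sylow p inferInstance hVp hidx hab χ.2 v hv)
  have hsumP : ∑ χ ∈ univ.filter P, ‖(χ : X → ℂ) 1‖ ^ 2 = (Nat.card G : ℝ) := by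
    rw [Finset.sum_subtype (univ.filter P) (p := P) (by simp)]
    have h := sum_sq_inflated V G hGV
    have h' : ∀ χ : {χ // P χ}, ((χ.1 : X → ℂ) 1) ^ 2 = ((‖(χ.1 : X → ℂ) 1‖ ^ 2 : ℝ) : ℂ) := by
      intro χ
      obtain ⟨n, hn⟩ := char_one_eq_nat (IrrCharacter_isCharacter χ.1)
      rw [hn]
      simp
    simp only [h'] at h
    rw [← Complex.ofReal_sum] at h
    have h2 : ((∑ χ : {χ // P χ}, ‖(χ.1 : X → ℂ) 1‖ ^ 2 : ℝ) : ℂ) = ((Nat.card G : ℝ) : ℂ) := by
      rw [h]; push_cast; rfl
    exact Complex.ofReal_injective h2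
  have hcardP : ((univ.filter P).card : ℝ) = (Nat.card (ConjClasses G) : ℝ) := by
    rw [← card_inflated V G hGV, Nat.card_eq_fintype_card, Fintype.card_subtype]
  have hcardX : (Nat.card (ConjClasses X) : ℝ) =
      ((univ.filter P).card : ℝ) + ((univ.filter (fun χ => ¬ P χ)).card : ℝ) := by
    rw [← card_irr_eq_card_conjClasses, Nat.card_eq_fintype_card, ← Finset.card_univ,
      ← Finset.card_filter_add_card_filter_not (s := univ) P]
    push_cast
    rfl
  have hsplit : ∑ χ : IrrCharacter X, T χ =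
      ∑ χ ∈ univ.filter P, T χ + ∑ χ ∈ univ.filter (fun χ => ¬ P χ), T χ :=
    (Finset.sum_filter_add_sum_filter_not univ P T).symm
  have h1 : ∑ χ ∈ univ.filter P, T χ = (M.totient : ℝ) * (Nat.card G : ℝ) := by
    rw [← hsumP, Finset.mul_sum]
    apply Finset.sum_congr rfl
    intro χ hχ
    exact hTP χ (Finset.mem_filter.mp hχ).2
  have h2 : (M.totient : ℝ) * ((univ.filter (fun χ => ¬ P χ)).card : ℝ) ≤
      ∑ χ ∈ univ.filter (fun χ => ¬ P χ), T χ := by
    rw [mul_comm, ← nsmul_eq_mul, ← Finset.sum_const]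
    exact Finset.sum_le_sum (fun χ _ => hTN χ)
  have hcardC := card_centralizer_eq V hab G hGV v hv
  have hcardC' : (Nat.card C : ℝ) = (Nat.card V : ℝ) * (Nat.card ↥(G ⊓ C) : ℝ) := by
    exact_mod_cast hcardC
  have hfinal : (M.totient : ℝ) * ((Nat.card (ConjClasses X) : ℝ) + (Nat.card G : ℝ)) ≤
      (M.totient : ℝ) * ((Nat.card ↥(G ⊓ C) : ℝ) * (Nat.card V : ℝ) +
        (Nat.card (ConjClasses G) : ℝ)) := by
    calc (M.totient : ℝ) * ((Nat.card (ConjClasses X) : ℝ) + (Nat.card G : ℝ))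
        = (M.totient : ℝ) * (Nat.card (ConjClasses G) : ℝ) +
          (M.totient : ℝ) * ((univ.filter (fun χ => ¬ P χ)).card : ℝ) +
          (M.totient : ℝ) * (Nat.card G : ℝ) := by
          rw [hcardX, hcardP]; ring
      _ ≤ (M.totient : ℝ) * (Nat.card (ConjClasses G) : ℝ) +
          ∑ χ ∈ univ.filter (fun χ => ¬ P χ), T χ +
          (M.totient : ℝ) * (Nat.card G : ℝ) := by linarith [h2]
      _ = (M.totient : ℝ) * (Nat.card (ConjClasses G) : ℝ) + ∑ χ : IrrCharacter X, T χ := by
          rw [hsplit, h1]; ring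
      _ = (M.totient : ℝ) * (Nat.card (ConjClasses G) : ℝ) +
          (M.totient : ℝ) * (Nat.card C : ℝ) := by rw [hA]
      _ = _ := by rw [hcardC']; ring
  have hle := le_of_mul_le_mul_left hfinal hφpos
  exact_mod_cast hle

end Cfsg.Agent.S4955
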