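import Cfsg.Statements.S0861
import Mathlib
import Cfsg.Agent.S4955
import Cfsg.Agent.Lib.Helper83.SecondOrth

set_option autoImplicit false
open Cfsg

namespace Cfsg.Agent.S0861

/-- Let P be a normal abelian Sylow p-subgroup of the finite group G and suppose some element g of P has centralizer exactly P. Then the number of irreducible characters of G is at most the order of P, and if equality holds then G / P is abelian (the commutator subgroup lies in P). -/
theorem result {G : Type*} [Group G] [Finite G] (p : ℕ) [Fact p.Prime] (P : Sylow p G) [(P : Subgroup G).Normal] (hab : ∀ a ∈ P, ∀ b ∈ P, a * b = b * a) (g : G) (hg : g ∈ P) (hC : Subgroup.centralizer ({g} : Set G) = P) : Nat.card (Cfsg.IrrCharacter G) ≤ Nat.card P ∧ (Nat.card (Cfsg.IrrCharacter G) = Nat.card P → commutator G ≤ P) := by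
  classical
  have : Fintype G := Fintype.ofFinite G
  have : Fintype (IrrCharacter G) := Fintype.ofFinite _
  have hVp : IsPGroup p (P : Subgroup G) := P.isPGroup'
  have hidx : ¬ p ∣ (P : Subgroup G).index := P.not_dvd_index
  have hcop : Nat.Coprime (Nat.card (P : Subgroup G)) (P : Subgroup G).index := by
    obtain ⟨n, hn⟩ := hVp.exists_card_eq
    rw [hn]
    exact Nat.Coprime.pow_left n ((Nat.Prime.coprime_iff_not_dvd Fact.out).mpr hidx)
  obtain ⟨K, hK⟩ := Subgroup.exists_right_complement'_of_coprime hcop
  have hmain := Cfsg.Agent.S4955.result p (P : Subgroup G) hVp hidx hab K hK g hg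
  have hbot : K ⊓ Subgroup.centralizer ({g} : Set G) = ⊥ := by
    rw [hC, inf_comm]
    exact hK.isCompl.inf_eq_bot
  rw [hbot, Subgroup.card_bot, one_mul] at hmain
  have hle : Nat.card (ConjClasses K) ≤ Nat.card K :=
    Nat.card_le_card_of_surjective ConjClasses.mk ConjClasses.mk_surjective
  rw [Cfsg.Agent.Lib.Helper83.card_irr_eq_card_conjClasses]
  refine ⟨by omega, ?_⟩
  intro heq
  have hKeq : Nat.card (ConjClasses K) = Nat.card K := by omega
  have hcomm : IsMulCommutative K := by
    rw [← commProb_eq_one_iff, commProb_def', hKeq]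
    have : (Nat.card K : ℚ) ≠ 0 := by exact_mod_cast Nat.card_pos.ne'
    exact div_self this
  let _ : CommGroup K :=
    { (inferInstance : Group K) with mul_comm := fun a b => hcomm.is_comm.comm a b }
  let f : G →* K := (hK.symm.QuotientMulEquiv).toMonoidHom.comp (QuotientGroup.mk' (P : Subgroup G))
  have hker : f.ker = (P : Subgroup G) := by
    ext x
    simp only [f, MonoidHom.mem_ker, MonoidHom.coe_comp, Function.comp_apply,
      MulEquiv.toMonoidHom_eq_coe, MonoidHom.coe_coe, EmbeddingLike.map_eq_one_iff,
      QuotientGroup.mk'_apply, QuotientGroup.eq_one_iff]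
  rw [← hker]
  exact Abelianization.commutator_subset_ker f

end Cfsg.Agent.S0861
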