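import Mathlib
import Cfsg.Statements.S0864
import Cfsg.Agent.Lib.Helper20.LinExt

set_option autoImplicit false
open Cfsg

namespace Cfsg.Agent.S0864

open Cfsg.Agent.Lib.Helper20

/-- Let N be a normal subgroup of the finite group G and λ a character of N of degree 1 invariant under conjugation by G. Suppose that for every prime p dividing the order of λ (in the group of functions under pointwise multiplication) there is a subgroup H containing N, of index prime to p and with the index of N in H a power of p, together with a character of H of degree 1 restricting to λ. Then λ is the restriction of a character of G of degree 1. -/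
theorem result {G : Type*} [Group G] [Finite G] (N : Subgroup G) [hN : N.Normal] (lam : N → ℂ) (hlam : Cfsg.IsCharacter N lam ∧ lam 1 = 1) (hinv : ∀ (g : G) (n : N), lam ⟨g * n * g⁻¹, hN.conj_mem (n : G) n.2 g⟩ = lam n) (hsyl : ∀ p : ℕ, p.Prime → p ∣ orderOf lam → ∃ (H : Subgroup G) (hNH : N ≤ H) (ν : H → ℂ), Nat.Coprime H.index p ∧ (∃ k : ℕ, N.relIndex H = p ^ k) ∧ Cfsg.IsCharacter H ν ∧ ν 1 = 1 ∧ ∀ n : N, ν ⟨(n : G), hNH n.2⟩ = lam n) : ∃ μ : G → ℂ, Cfsg.IsCharacter G μ ∧ μ 1 = 1 ∧ ∀ n : N, μ n = lam n := by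
  obtain ⟨φ, rfl⟩ := exists_hom_of_linear hlam.1 hlam.2
  rw [orderOf_homFun] at hsyl
  have hinv' : ∀ (g : G) (x y : N), (y : G) = g⁻¹ * x * g → φ y = φ x := by
    intro g x y hy
    have h1 := hinv g⁻¹ x
    have h2 : (⟨g⁻¹ * x * g⁻¹⁻¹, hN.conj_mem (x : G) x.2 g⁻¹⟩ : N) = y := by
      apply Subtype.ext
      simp [hy]
    rw [h2] at h1
    apply Units.ext
    exact h1
  obtain ⟨μ, hμ⟩ := exists_extension_of_local N φ hinv' (by
    intro p hp hpd
    obtain ⟨H, hNH, ν, hcop, -, hν, hν1, hres⟩ := hsyl p hp hpd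
    obtain ⟨ψ, rfl⟩ := exists_hom_of_linear hν hν1
    refine ⟨H, hNH, ψ, ?_, ?_⟩
    · intro hdvd
      have := Nat.Coprime.eq_one_of_dvd hcop.symm hdvd
      exact hp.one_lt.ne' this
    · intro n
      apply Units.ext
      exact hres n)
  refine ⟨homFun μ, (isCharacter_homFun μ).1, (isCharacter_homFun μ).2, ?_⟩
  intro n
  rw [homFun_apply, hμ n]; rfl

end Cfsg.Agent.S0864
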