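import Mathlib
import Cfsg.Statements.S0865
import Cfsg.Agent.Lib.Helper20.LinExt

set_option autoImplicit false
open Cfsg

namespace Cfsg.Agent.S0865

open Cfsg.Agent.Lib.Helper20

/-- Let N be a normal subgroup of the finite group G and λ a character of N of degree 1, invariant under conjugation by G, whose order (under pointwise multiplication) is coprime to the index of N. Then there is a character μ of G of degree 1 restricting to λ with the same order as λ, and μ is the only degree-1 character of G restricting to λ whose order is coprime to the index of N. -/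
theorem result {G : Type*} [Group G] [Finite G] (N : Subgroup G) [hN : N.Normal] (lam : N → ℂ) (hlam : Cfsg.IsCharacter N lam ∧ lam 1 = 1) (hinv : ∀ (g : G) (n : N), lam ⟨g * n * g⁻¹, hN.conj_mem (n : G) n.2 g⟩ = lam n) (hcop : Nat.Coprime N.index (orderOf lam)) : ∃ μ : G → ℂ, (Cfsg.IsCharacter G μ ∧ μ 1 = 1 ∧ (∀ n : N, μ n = lam n) ∧ orderOf μ = orderOf lam) ∧ ∀ μ' : G → ℂ, Cfsg.IsCharacter G μ' ∧ μ' 1 = 1 → (∀ n : N, μ' n = lam n) → Nat.Coprime N.index (orderOf μ') → μ' = μ := by
  obtain ⟨φ, rfl⟩ := exists_hom_of_linear hlam.1 hlam.2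
  rw [orderOf_homFun] at hcop
  have hinv' : ∀ (g : G) (x y : N), (y : G) = g⁻¹ * x * g → φ y = φ x := by
    intro g x y hy
    have h1 := hinv g⁻¹ x
    have h2 : (⟨g⁻¹ * x * g⁻¹⁻¹, hN.conj_mem (x : G) x.2 g⁻¹⟩ : N) = y := by
      apply Subtype.ext
      simp [hy]
    rw [h2] at h1
    apply Units.ext
    exact h1
  obtain ⟨μ, hres, hord⟩ := exists_extension_of_coprime N φ hinv' hcop
  refine ⟨homFun μ, ⟨(isCharacter_homFun μ).1, (isCharacter_homFun μ).2, ?_, ?_⟩, ?_⟩
  · intro n
    rw [homFun_apply, hres n]; rfl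
  · rw [orderOf_homFun, orderOf_homFun, hord]
  · intro μ' hμ' hres' hcop'
    obtain ⟨ψ, rfl⟩ := exists_hom_of_linear hμ'.1 hμ'.2
    rw [orderOf_homFun] at hcop'
    congr 1
    apply extension_unique_of_coprime N μ ψ _ (hord ▸ hcop) hcop'
    intro n
    apply Units.ext
    have := hres' n
    rw [homFun_apply, homFun_apply] at this
    rw [this, hres n]

end Cfsg.Agent.S0865
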