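import Cfsg.Statements.S0869
import Mathlib

set_option autoImplicit false
open Cfsg

namespace Cfsg.Agent.S0869

/-- Let S be a nonempty finite type and R an additive subgroup of the integer-valued functions on S that is closed under pointwise multiplication. If the constant function 1 is not in R, then there exist a point x of S and a prime p such that p divides f x for every f in R. -/
theorem result {S : Type*} [Finite S] [Nonempty S] (R : AddSubgroup (S → ℤ)) (hmul : ∀ f ∈ R, ∀ g ∈ R, f * g ∈ R) (h1 : (1 : S → ℤ) ∉ R) : ∃ (x : S) (p : ℕ), p.Prime ∧ ∀ f ∈ R, (p : ℤ) ∣ f x := by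
  classical
  by_contra hcon
  push Not at hcon
  -- for each x there is f ∈ R with f x = 1
  have hone : ∀ x : S, ∃ f ∈ R, f x = 1 := by
    intro x
    let H : AddSubgroup ℤ := R.map (Pi.evalAddMonoidHom (fun _ : S => ℤ) x)
    obtain ⟨a, ha⟩ := Int.subgroup_cyclic H
    have hmemH : ∀ f ∈ R, f x ∈ H := by
      intro f hf
      exact ⟨f, hf, rfl⟩
    have hdiv : ∀ f ∈ R, a ∣ f x := by
      intro f hf
      have := hmemH f hf
      rw [ha] at this
      obtain ⟨k, hk⟩ := AddSubgroup.mem_closure_singleton.mp this
      exact ⟨k, by rw [← hk]; simp [mul_comm]⟩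
    have hnat : a.natAbs = 1 := by
      by_contra hne
      obtain ⟨p, hp, hpa⟩ := Nat.exists_prime_and_dvd hne
      obtain ⟨f, hf, hnd⟩ := hcon x p hp
      apply hnd
      have h2 : (p : ℤ) ∣ a := by
        rw [Int.natCast_dvd]
        exact hpa
      exact h2.trans (hdiv f hf)
    have haH : a ∈ H := by
      rw [ha]; exact AddSubgroup.mem_closure_singleton_self a
    have h1H : (1 : ℤ) ∈ H := by
      rcases Int.natAbs_eq a with h | h
      · rw [hnat] at h; simpa [h] using haH
      · rw [hnat] at h
        have : -a ∈ H := H.neg_mem haH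
        simpa [h] using this
    obtain ⟨f, hf, hfx⟩ := h1H
    exact ⟨f, hf, hfx⟩
  have : Fintype S := Fintype.ofFinite S
  have key : ∀ T : Finset S, ∃ g ∈ R, ∀ x ∈ T, g x = 1 := by
    intro T
    induction T using Finset.induction_on with
    | empty => exact ⟨0, R.zero_mem, by simp⟩
    | insert a T' _ ih =>
      obtain ⟨g', hg', hg'1⟩ := ih
      obtain ⟨f, hf, hfa⟩ := hone a
      refine ⟨g' + f - g' * f, R.sub_mem (R.add_mem hg' hf) (hmul g' hg' f hf), ?_⟩
      intro x hx
      rw [Finset.mem_insert] at hx
      rcases hx with rfl | hx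
      · simp [hfa]
      · simp [hg'1 x hx]
  obtain ⟨g, hg, hg1⟩ := key Finset.univ
  apply h1
  have : g = 1 := by
    funext x
    simpa using hg1 x (Finset.mem_univ x)
  rwa [this] at hg

end Cfsg.Agent.S0869
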