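import Cfsg.Statements.S0870
import Mathlib
import Cfsg.Agent.Lib.Helper20.PermChar

set_option autoImplicit false
open Cfsg
open Cfsg.Agent.Lib.Helper20

namespace Cfsg.Agent.S0870

/-- For subgroups H and K of a finite group G, the pointwise product of the functions induced from the constant function 1 on H and on K is a sum, over subgroups U of H with natural-number coefficients, of the functions induced from the constant function 1 on U. -/
theorem result {G : Type*} [Group G] [Fintype G] (H K : Subgroup G) : ∃ a : Subgroup G → ℕ, (∀ U, a U ≠ 0 → U ≤ H) ∧ Cfsg.indFun H (fun _ => 1) * Cfsg.indFun K (fun _ => 1) = ∑ U : Subgroup G, (a U : ℂ) • Cfsg.indFun U (fun _ => 1) := by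
  classical
  let rep : MulAction.orbitRel.Quotient G ((G ⧸ H) × (G ⧸ K)) → (G ⧸ H) × (G ⧸ K) :=
    fun O => (Quotient.out (Quotient.out O).1)⁻¹ • (Quotient.out O)
  have hrep : ∀ O, (Quotient.mk'' (rep O) : MulAction.orbitRel.Quotient G ((G ⧸ H) × (G ⧸ K))) = O := by
    intro O
    have h1 : (Quotient.mk'' (Quotient.out O) : MulAction.orbitRel.Quotient G ((G ⧸ H) × (G ⧸ K))) = O :=
      Quotient.out_eq' O
    conv_rhs => rw [← h1]
    apply Quotient.sound'
    rw [MulAction.orbitRel_apply]
    exact ⟨_, rfl⟩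
  have hrep1 : ∀ O, (rep O).1 = ((1 : G) : G ⧸ H) := by
    intro O
    show (Quotient.out (Quotient.out O).1)⁻¹ • (Quotient.out O).1 = _
    generalize (Quotient.out O).1 = c
    have h := MulAction.Quotient.smul_coe (H := H) (Quotient.out c)⁻¹ (Quotient.out c)
    rw [QuotientGroup.out_eq'] at h
    rw [h, smul_eq_mul, inv_mul_cancel]
  let S : MulAction.orbitRel.Quotient G ((G ⧸ H) × (G ⧸ K)) → Subgroup G :=
    fun O => MulAction.stabilizer G (rep O)
  have hS : ∀ O, S O ≤ H := by
    intro O x hx
    have hx' : x • rep O = rep O := MulAction.mem_stabilizer_iff.mp hx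
    have h2 : x • (rep O).1 = (rep O).1 := congrArg Prod.fst hx'
    rw [hrep1 O] at h2
    have : x ∈ MulAction.stabilizer G ((1 : G) : G ⧸ H) := MulAction.mem_stabilizer_iff.mpr h2
    rwa [MulAction.stabilizer_quotient] at this
  refine ⟨fun U => (Finset.univ.filter (fun O => S O = U)).card, ?_, ?_⟩
  · intro U hU
    obtain ⟨O, hO⟩ := Finset.card_pos.mp (Nat.pos_of_ne_zero hU)
    rw [Finset.mem_filter] at hO
    rw [← hO.2]
    exact hS O
  · funext g
    rw [Pi.mul_apply, indFun_one_eq_fixed_cosets H g, indFun_one_eq_fixed_cosets K g,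
      Finset.sum_mul_sum, ← Finset.sum_product']
    have hprod : ∀ p : (G ⧸ H) × (G ⧸ K),
        (if g • p.1 = p.1 then (1 : ℂ) else 0) * (if g • p.2 = p.2 then (1 : ℂ) else 0) =
          if g • p = p then (1 : ℂ) else 0 := by
      intro p
      have : g • p = p ↔ g • p.1 = p.1 ∧ g • p.2 = p.2 := by
        rw [Prod.ext_iff]; rfl
      by_cases h1 : g • p.1 = p.1 <;> by_cases h2 : g • p.2 = p.2 <;> simp [this, h1, h2]
    rw [Finset.univ_product_univ, Finset.sum_congr rfl (fun p _ => hprod p)]
    rw [fixed_count_eq_sum_orbits rep hrep g]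
    rw [Finset.sum_apply]
    simp only [Pi.smul_apply, smul_eq_mul]
    rw [← Finset.sum_fiberwise (s := Finset.univ) (g := S)
      (f := fun O => Cfsg.indFun (S O) (fun _ => (1 : ℂ)) g)]
    refine Finset.sum_congr rfl (fun U _ => ?_)
    rw [Finset.sum_congr rfl (g := fun _ => Cfsg.indFun U (fun _ => (1 : ℂ)) g)]
    · rw [Finset.sum_const, nsmul_eq_mul]
    · intro O hO
      rw [(Finset.mem_filter.mp hO).2]

end Cfsg.Agent.S0870
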