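import Cfsg.Statements.S0871
import Mathlib
import Cfsg.Agent.Lib.Helper20.PermChar

set_option autoImplicit false
open Cfsg
open Cfsg.Agent.Lib.Helper20

namespace Cfsg.Agent.S0871

theorem exists_H {G : Type*} [Group G] [Fintype G] (x : G) (p : ℕ) [hp : Fact p.Prime] :
    ∃ (C H : Subgroup G) (a : ℕ),
      C ≤ H ∧ H ≤ Subgroup.normalizer (C : Set G) ∧ IsCyclic C ∧ Nat.Coprime (Nat.card C) p ∧
      (∃ k : ℕ, C.relIndex H = p ^ k) ∧ x ∈ H ∧ C = Subgroup.zpowers (x ^ (p ^ a)) ∧
      (∀ h ∈ H, Nat.Coprime (orderOf h) p → h ∈ C) ∧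
      ¬ p ∣ H.relIndex (Subgroup.normalizer (C : Set G)) := by
  classical
  have ho : orderOf x ≠ 0 := (orderOf_pos x).ne'
  obtain ⟨a, m, hm, hom⟩ := Nat.exists_eq_pow_mul_and_not_dvd ho p hp.out.ne_one
  set z : G := x ^ (p ^ a) with hz
  set C : Subgroup G := Subgroup.zpowers z with hC
  have hoz : orderOf z = m := by
    rw [hz, orderOf_pow' x (pow_ne_zero a hp.out.ne_zero), hom, Nat.gcd_mul_right_left,
      Nat.mul_div_cancel_left _ (pow_pos hp.out.pos a)]
  have hcardC : Nat.card C = m := by rw [hC, Nat.card_zpowers, hoz]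
  have hcop : Nat.Coprime (Nat.card C) p := by
    rw [hcardC]
    exact ((Nat.Prime.coprime_iff_not_dvd hp.out).mpr hm).symm
  set N : Subgroup G := Subgroup.normalizer (C : Set G) with hN
  have hxN : x ∈ N := by
    rw [hN, Subgroup.mem_set_normalizer_iff]
    intro h
    have hcomm : ∀ h ∈ C, x * h * x⁻¹ = h := by
      intro h hh
      obtain ⟨k, rfl⟩ := Subgroup.mem_zpowers_iff.mp hh
      have : Commute x (z ^ k) := ((Commute.refl x).pow_right _).zpow_right k
      rw [this.eq, mul_inv_cancel_right]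
    constructor
    · intro hh
      rw [SetLike.mem_coe] at hh ⊢
      rw [hcomm h hh]; exact hh
    · intro hh
      rw [SetLike.mem_coe] at hh ⊢
      have := hcomm _ hh
      have h2 : x * h * x⁻¹ = h := by
        have h3 : x⁻¹ * (x * (x * h * x⁻¹) * x⁻¹) * x = x⁻¹ * (x * h * x⁻¹) * x := by rw [this]
        simpa [mul_assoc] using h3
      rw [← h2]; exact hh
  have hCN : C ≤ N := Subgroup.le_normalizer
  -- the quotient N / C
  let π : N →* N ⧸ C.subgroupOf N := QuotientGroup.mk' (C.subgroupOf N)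
  have hπsurj : Function.Surjective π := QuotientGroup.mk'_surjective _
  have hπker : π.ker = C.subgroupOf N := QuotientGroup.ker_mk' _
  let xN : N := ⟨x, hxN⟩
  have hxbar : (π xN) ^ (p ^ a) = 1 := by
    rw [← map_pow, ← MonoidHom.mem_ker, hπker, Subgroup.mem_subgroupOf]
    show x ^ (p ^ a) ∈ C
    exact Subgroup.mem_zpowers z
  have hPg : IsPGroup p (Subgroup.zpowers (π xN)) := by
    intro g
    obtain ⟨g, hg⟩ := g
    obtain ⟨k, rfl⟩ := Subgroup.mem_zpowers_iff.mp hg
    refine ⟨a, ?_⟩
    apply Subtype.ext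
    show ((π xN) ^ k) ^ (p ^ a) = 1
    rw [← zpow_natCast, ← zpow_mul, mul_comm, zpow_mul, zpow_natCast, hxbar, one_zpow]
  obtain ⟨S, hS⟩ := hPg.exists_le_sylow
  set H' : Subgroup N := (S : Subgroup (N ⧸ C.subgroupOf N)).comap π with hH'
  set H : Subgroup G := H'.map N.subtype with hH
  have hHN : H ≤ N := Subgroup.map_subtype_le H'
  have hCH : C ≤ H := by
    intro c hc
    refine ⟨⟨c, hCN hc⟩, ?_, rfl⟩
    show π ⟨c, hCN hc⟩ ∈ (S : Subgroup _)
    have : (⟨c, hCN hc⟩ : N) ∈ π.ker := by
      rw [hπker, Subgroup.mem_subgroupOf]; exact hc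
    rw [MonoidHom.mem_ker] at this
    rw [this]; exact Subgroup.one_mem _
  have hxH : x ∈ H := by
    refine ⟨xN, ?_, rfl⟩
    show π xN ∈ (S : Subgroup _)
    exact hS (Subgroup.mem_zpowers _)
  have hmapH' : H'.map π = (S : Subgroup _) := Subgroup.map_comap_eq_self_of_surjective hπsurj _
  have hrel : ∃ k : ℕ, C.relIndex H = p ^ k := by
    obtain ⟨k, hk⟩ := S.isPGroup'.exists_card_eq
    refine ⟨k, ?_⟩
    have h1 : C = (C.subgroupOf N).map N.subtype := by
      rw [Subgroup.map_subgroupOf_eq_of_le hCN]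
    rw [h1, hH, Subgroup.relIndex_map_map_of_injective _ _ N.subtype_injective, ← hπker,
      Subgroup.relIndex_ker, hmapH', hk]
  have hp'elem : ∀ h ∈ H, Nat.Coprime (orderOf h) p → h ∈ C := by
    rintro h ⟨h', hh', rfl⟩ hcoph
    have h1 : π h' ∈ (S : Subgroup _) := hh'
    obtain ⟨j, hj⟩ := S.isPGroup' ⟨π h', h1⟩
    have hj' : (π h') ^ (p ^ j) = 1 := congrArg Subtype.val hj
    have h2 : orderOf (π h') ∣ p ^ j := orderOf_dvd_of_pow_eq_one hj'
    have h3 : orderOf (π h') ∣ orderOf h' := orderOf_map_dvd π h'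
    have h4 : orderOf h' = orderOf (N.subtype h') := (orderOf_injective N.subtype N.subtype_injective h').symm
    have h5 : Nat.Coprime (orderOf (π h')) (p ^ j) := by
      apply Nat.Coprime.pow_right
      rw [h4] at h3
      exact Nat.Coprime.coprime_dvd_left h3 hcoph
    have h6 : orderOf (π h') = 1 := h5.eq_one_of_dvd h2
    have h7 : h' ∈ π.ker := by
      rw [MonoidHom.mem_ker]; exact orderOf_eq_one_iff.mp h6
    rw [hπker, Subgroup.mem_subgroupOf] at h7
    exact h7
  have hidx : ¬ p ∣ H.relIndex N := by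
    have h1 : H.relIndex N = H'.index := by
      rw [Subgroup.relIndex, hH]
      congr 1
      exact Subgroup.comap_map_eq_self_of_injective N.subtype_injective H'
    rw [h1, hH', Subgroup.index_comap_of_surjective _ hπsurj]
    exact S.not_dvd_index
  exact ⟨C, H, a, hCH, hHN, inferInstance, hcop, hrel, hxH, rfl, hp'elem, hidx⟩

theorem mem_normalizer_of_conj_le {G : Type*} [Group G] [Finite G] (C : Subgroup G) (g : G)
    (h : ∀ c ∈ C, g⁻¹ * c * g ∈ C) : g ∈ Subgroup.normalizer (C : Set G) := by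
  let φ : C → C := fun c => ⟨g⁻¹ * c * g, h c c.2⟩
  have hinj : Function.Injective φ := by
    intro c d hcd
    have : g⁻¹ * (c : G) * g = g⁻¹ * (d : G) * g := congrArg Subtype.val hcd
    apply Subtype.ext
    simpa using this
  have hsurj : Function.Surjective φ := Finite.injective_iff_surjective.mp hinj
  rw [Subgroup.mem_set_normalizer_iff]
  intro k
  constructor
  · intro hk
    obtain ⟨c, hc⟩ := hsurj ⟨k, hk⟩
    have : g⁻¹ * (c : G) * g = k := congrArg Subtype.val hc
    rw [← this]
    have h2 : g * (g⁻¹ * (c : G) * g) * g⁻¹ = c := by group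
    rw [SetLike.mem_coe, h2]
    exact c.2
  · intro hk
    have := h _ hk
    have h2 : g⁻¹ * (g * k * g⁻¹) * g = k := by group
    rwa [h2] at this

theorem not_dvd_fixed {G : Type*} [Group G] [Fintype G] (x : G) (p : ℕ) [hp : Fact p.Prime]
    (C H : Subgroup G) (a : ℕ) (hCH : C ≤ H) (hHN : H ≤ Subgroup.normalizer (C : Set G))
    (hxH : x ∈ H) (hCz : C = Subgroup.zpowers (x ^ (p ^ a)))
    (hcop : Nat.Coprime (Nat.card C) p)
    (hp' : ∀ h ∈ H, Nat.Coprime (orderOf h) p → h ∈ C)
    (hidx : ¬ p ∣ H.relIndex (Subgroup.normalizer (C : Set G)))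
    [DecidableEq (G ⧸ H)] [Fintype (G ⧸ H)] :
    ¬ p ∣ (Finset.univ.filter (fun c : G ⧸ H => x • c = c)).card := by
  classical
  set N : Subgroup G := Subgroup.normalizer (C : Set G) with hN
  set z : G := x ^ (p ^ a) with hz
  have hzC : z ∈ C := by rw [hCz]; exact Subgroup.mem_zpowers z
  let ω : G ⧸ H := ((1 : G) : G ⧸ H)
  have hxN : x ∈ N := hHN hxH
  let xN : N := ⟨x, hxN⟩
  -- Step A
  have stepA : ∀ c : G ⧸ H, x • c = c → c ∈ MulAction.orbit N ω := by
    intro c hc
    induction c using QuotientGroup.induction_on with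
    | H g =>
      rw [MulAction.Quotient.smul_coe, smul_eq_mul] at hc
      have h1 : g⁻¹ * (x * g) ∈ H := by
        have := QuotientGroup.eq.mp hc.symm
        exact this
      have h2 : g⁻¹ * z * g ∈ H := by
        have : g⁻¹ * z * g = (g⁻¹ * (x * g)) ^ (p ^ a) := by
          have h := conj_pow (a := g⁻¹) (b := x) (i := p ^ a)
          rw [inv_inv] at h
          rw [hz, ← h, mul_assoc]
        rw [this]
        exact H.pow_mem h1 _
      have h3 : orderOf (g⁻¹ * z * g) = orderOf z := by
        have := (MulAut.conj g⁻¹).orderOf_eq z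
        simpa [MulAut.conj_apply] using this
      have h4 : g⁻¹ * z * g ∈ C := by
        apply hp' _ h2
        rw [h3]
        have : orderOf z ∣ Nat.card C := by
          rw [hCz, Nat.card_zpowers]
        exact Nat.Coprime.coprime_dvd_left this hcop
      have hgN : g ∈ N := by
        apply mem_normalizer_of_conj_le
        intro c hc
        rw [hCz] at hc
        obtain ⟨k, rfl⟩ := Subgroup.mem_zpowers_iff.mp hc
        have : g⁻¹ * z ^ k * g = (g⁻¹ * z * g) ^ k := by
          have h := conj_zpow (a := g⁻¹) (b := z) (i := k)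
          rw [inv_inv] at h
          rw [h]
        rw [this]
        exact C.zpow_mem h4 k
      refine ⟨⟨g, hgN⟩, ?_⟩
      show (g • ω : G ⧸ H) = _
      rw [MulAction.Quotient.smul_coe, smul_eq_mul, mul_one]
  -- Step B
  have hstab : MulAction.stabilizer N ω = H.subgroupOf N := by
    ext n
    rw [MulAction.mem_stabilizer_iff, Subgroup.mem_subgroupOf]
    show ((n : G) • ω : G ⧸ H) = ω ↔ _
    rw [MulAction.Quotient.smul_coe, smul_eq_mul, mul_one]
    show ((n : G) : G ⧸ H) = ((1 : G) : G ⧸ H) ↔ _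
    rw [QuotientGroup.eq]
    constructor
    · intro h
      have := H.inv_mem h
      simpa using this
    · intro h
      have := H.inv_mem h
      simpa using this
  have stepB : Fintype.card (MulAction.orbit N ω) = H.relIndex N := by
    rw [← Nat.card_eq_fintype_card, Nat.card_congr (MulAction.orbitEquivQuotientStabilizer N ω),
      ← Subgroup.index_eq_card, hstab]
    rfl
  -- Step C
  let f : Function.End (MulAction.orbit N ω) := fun c => xN • c
  have hfpow : ∀ (k : ℕ) (c : MulAction.orbit N ω), (f ^ k) c = (xN ^ k) • c := by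
    intro k
    induction k with
    | zero => intro c; rw [pow_zero, pow_zero, one_smul]; rfl
    | succ k ih =>
      intro c
      rw [pow_succ' f k, pow_succ' xN k, mul_smul, ← ih c]
      rfl
  have hf : f ^ p ^ a = 1 := by
    funext c
    rw [hfpow]
    show _ = c
    obtain ⟨c, n, rfl⟩ := c
    apply Subtype.ext
    rw [MulAction.orbit.coe_smul]
    show (xN ^ p ^ a) • (n • ω) = n • ω
    rw [← mul_smul]
    show (((xN ^ p ^ a * n : N) : G) • ω : G ⧸ H) = ((n : G) • ω : G ⧸ H)
    rw [MulAction.Quotient.smul_coe, MulAction.Quotient.smul_coe, smul_eq_mul, smul_eq_mul,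
      mul_one, mul_one, QuotientGroup.eq]
    have hn := (Subgroup.mem_set_normalizer_iff''.mp n.2 z).mp hzC
    have : (((xN ^ p ^ a * n : N) : G))⁻¹ * (n : G) = ((n : G)⁻¹ * z * n)⁻¹ := by
      show (x ^ p ^ a * (n : G))⁻¹ * (n : G) = _
      rw [← hz]; group
    rw [this]
    exact H.inv_mem (hCH hn)
  have hmod := Equiv.Perm.card_fixedPoints_modEq (f := f) (p := p) (n := a) hf
  -- Step E
  have stepE : Fintype.card (Function.fixedPoints f) =
      (Finset.univ.filter (fun c : G ⧸ H => x • c = c)).card := by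
    rw [← Fintype.card_subtype]
    refine Fintype.card_congr
      { toFun := fun c => ⟨c.1.1, ?_⟩
        invFun := fun c => ⟨⟨c.1, stepA c.1 c.2⟩, ?_⟩
        left_inv := ?_
        right_inv := ?_ }
    · have h1 : f c.1 = c.1 := c.2
      have h2 : ((f c.1 : MulAction.orbit N ω) : G ⧸ H) = c.1.1 := congrArg Subtype.val h1
      exact h2
    · show f _ = _
      apply Subtype.ext
      exact c.2
    · intro c; rfl
    · intro c; rfl
  rw [← stepE]
  intro hdvd
  apply hidx
  rw [← stepB]
  exact (Nat.modEq_zero_iff_dvd.mp (hmod.trans (Nat.modEq_zero_iff_dvd.mpr hdvd)))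

/-- Let x be an element of the finite group G and p a prime. Then there is a subgroup H having a cyclic normal subgroup C of order prime to p and p-power index in H, such that the value at x of the function induced from the constant function 1 on H is a natural number not divisible by p. -/
theorem result {G : Type*} [Group G] [Fintype G] (x : G) (p : ℕ) (hp : p.Prime) : ∃ H : Subgroup G, (∃ C : Subgroup G, C ≤ H ∧ H ≤ Subgroup.normalizer (C : Set G) ∧ IsCyclic C ∧ Nat.Coprime (Nat.card C) p ∧ ∃ k : ℕ, C.relIndex H = p ^ k) ∧ ∃ n : ℕ, Cfsg.indFun H (fun _ => 1) x = (n : ℂ) ∧ ¬ p ∣ n := by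
  classical
  have : Fact p.Prime := ⟨hp⟩
  obtain ⟨C, H, a, hCH, hHN, hcyc, hcop, hrel, hxH, hCz, hp', hidx⟩ := exists_H x p
  refine ⟨H, ⟨C, hCH, hHN, hcyc, hcop, hrel⟩,
    (Finset.univ.filter (fun c : G ⧸ H => x • c = c)).card, ?_, ?_⟩
  · rw [indFun_one_eq_fixed_cosets H x, Finset.sum_boole]
  · exact not_dvd_fixed x p C H a hCH hHN hxH hCz hcop hp' hidx

end Cfsg.Agent.S0871
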