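import Cfsg.Statements.S0873
import Cfsg.Agent.Lib.Helper21.LinearChar

set_option autoImplicit false
open Cfsg

namespace Cfsg.Agent.S0873

open Cfsg.Agent.Lib.Helper21

section
variable {G : Type*} [Group G] (C P : Subgroup G) [hC : C.Normal] (lam : C → ℂ) (z : ℂ)

/-- Conjugation action of `P` on a fibre of an invariant function on the normal subgroup `C`. -/
@[instance_reducible]
def fibreAction
    (hinv : ∀ (g : G) (c : C), lam ⟨g * c * g⁻¹, hC.conj_mem (c : G) c.2 g⟩ = lam c) :
    MulAction P {x : C // lam x = z} where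
  smul t x := ⟨⟨(t : G) * x.1 * (t : G)⁻¹, hC.conj_mem _ x.1.2 _⟩, by rw [hinv]; exact x.2⟩
  one_smul x := by
    apply Subtype.ext; apply Subtype.ext
    show ((1 : P) : G) * x.1 * ((1 : P) : G)⁻¹ = x.1
    simp
  mul_smul s t x := by
    apply Subtype.ext; apply Subtype.ext
    show ((s * t : P) : G) * x.1 * ((s * t : P) : G)⁻¹ = (s : G) * ((t : G) * x.1 * (t : G)⁻¹) * (s : G)⁻¹
    simp [mul_assoc]

end

theorem result {G : Type*} [Group G] [Finite G] (p : ℕ) [Fact p.Prime] (C P : Subgroup G) [hC : C.Normal] (hP : IsPGroup p P) (hcop : Nat.Coprime (Nat.card C) p) (hCP : C ⊔ P = ⊤) (lam : C → ℂ) (hlam : Cfsg.IsCharacter C lam ∧ lam 1 = 1) (hinv : ∀ (g : G) (c : C), lam ⟨g * c * g⁻¹, hC.conj_mem (c : G) c.2 g⟩ = lam c) (hker : ∀ c : C, (c : G) ∈ Subgroup.centralizer (P : Set G) → lam c = 1) : lam = fun _ => 1 := by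
  obtain ⟨hchar, h1⟩ := hlam
  funext c
  let φ : C →* ℂ := linearCharHom hchar h1
  -- the fibre over `lam c` is in bijection with the kernel of `φ`
  have e : φ.ker ≃ {x : C // lam x = lam c} :=
    { toFun := fun k => ⟨c * k.1, by
        rw [linear_char_mul hchar h1]
        have hk : φ k.1 = 1 := k.2
        rw [linearCharHom_apply] at hk
        rw [hk, mul_one]⟩
      invFun := fun x => ⟨c⁻¹ * x.1, by
        show φ (c⁻¹ * x.1) = 1
        rw [linearCharHom_apply, linear_char_mul hchar h1, linear_char_inv hchar h1, x.2]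
        exact inv_mul_cancel₀ (linear_char_ne_zero hchar h1 c)⟩
      left_inv := fun k => by simp
      right_inv := fun x => by simp }
  have hcard : Nat.card {x : C // lam x = lam c} = Nat.card φ.ker := (Nat.card_congr e).symm
  have hdvd : Nat.card φ.ker ∣ Nat.card C := Subgroup.card_subgroup_dvd_card _
  have hnd : ¬ p ∣ Nat.card {x : C // lam x = lam c} := by
    rw [hcard]
    intro hp
    have := hp.trans hdvd
    have hp1 : p ∣ Nat.gcd (Nat.card C) p := Nat.dvd_gcd this dvd_rfl
    rw [Nat.Coprime] at hcop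
    rw [hcop] at hp1
    exact (Fact.out : p.Prime).one_lt.ne' (Nat.dvd_one.1 hp1)
  let _ := fibreAction C P lam (lam c) hinv
  obtain ⟨x, hx⟩ := hP.nonempty_fixed_point_of_prime_not_dvd_card {x : C // lam x = lam c} hnd
  rw [← x.2]
  apply hker
  rw [Subgroup.mem_centralizer_iff]
  intro t ht
  have h2 := congrArg (fun y : {x : C // lam x = lam c} => ((y : C) : G)) (hx ⟨t, ht⟩)
  have h3 : t * (x.1 : G) * t⁻¹ = (x.1 : G) := h2
  exact mul_inv_eq_iff_eq_mul.1 h3

end Cfsg.Agent.S0873
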