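import Cfsg.Statements.S0876
import Cfsg.Agent.Lib.Helper05.PiSection
import Cfsg.Agent.Lib.Helper22.DefectClass
import Cfsg.Agent.Lib.Helper82.LocalRing

set_option autoImplicit false
open Cfsg

namespace Cfsg.Agent.S0876

open Cfsg.Agent.Lib.Helper05

/-- Let G be a finite group, p a prime and M a maximal ideal of the ring of algebraic integers containing p. Let x, y be elements with p-parts a and b (so a⁻¹ * x and b⁻¹ * y are their p-regular parts). Then a⁻¹ * x and b⁻¹ * y are conjugate in G if and only if, for every irreducible character χ, the difference χ x - χ y lies in the local ideal at M. -/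
theorem result {G : Type*} [Group G] [Finite G] (p : ℕ) (M : Ideal Cfsg.AlgInt) (hM : Cfsg.IsPModular p M) (x y a b : G) (ha : Cfsg.IsPPart p x a) (hb : Cfsg.IsPPart p y b) : IsConj (a⁻¹ * x) (b⁻¹ * y) ↔ ∀ χ : Cfsg.IrrCharacter G, Cfsg.MemLocalIdeal M ((χ : G → ℂ) x - (χ : G → ℂ) y) := by
  classical
  haveI : Fintype G := Fintype.ofFinite G
  haveI := finite_irrCharacter (G := G)
  haveI : Fintype (IrrCharacter G) := Fintype.ofFinite _
  have hMp : M.IsPrime := hM.2.1.isPrime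
  have hp := hM.1
  obtain ⟨x', hx1, hx2, ⟨kx, hx3⟩, hx4⟩ := ha
  obtain ⟨y', hy1, hy2, ⟨ky, hy3⟩, hy4⟩ := hb
  have hax : a⁻¹ * x = x' := by rw [← hx1]; group
  have hby : b⁻¹ * y = y' := by rw [← hy1]; group
  rw [hax, hby]
  have hcx : ∀ χ : IrrCharacter G, MemLocalIdeal M ((χ : G → ℂ) x - (χ : G → ℂ) x') := fun χ => by
    rw [← hx1]
    exact Cfsg.Agent.Lib.Helper22.char_mul_sub_memLocalIdeal hM
      (IsIrrCharacter.isCharacter χ.2) a x' hx2.eq kx hx3
  have hcy : ∀ χ : IrrCharacter G, MemLocalIdeal M ((χ : G → ℂ) y - (χ : G → ℂ) y') := fun χ => by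
    rw [← hy1]
    exact Cfsg.Agent.Lib.Helper22.char_mul_sub_memLocalIdeal hM
      (IsIrrCharacter.isCharacter χ.2) b y' hy2.eq ky hy3
  constructor
  · intro hconj χ
    have h1 : (χ : G → ℂ) x' = (χ : G → ℂ) y' := by
      obtain ⟨c, hc⟩ := isConj_iff.mp hconj
      rw [← hc]
      exact (Cfsg.Agent.Lib.Helper83.isClassFunction_irr χ x' c).symm
    have h2 : (χ : G → ℂ) x - (χ : G → ℂ) y
        = ((χ : G → ℂ) x - (χ : G → ℂ) x') - ((χ : G → ℂ) y - (χ : G → ℂ) y') := by
      rw [h1]; ring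
    rw [h2]
    exact Cfsg.Agent.Lib.Helper82.memLocalIdeal_sub hMp (hcx χ) (hcy χ)
  · intro h
    by_contra hnc
    obtain ⟨ν, hν⟩ : ∃ ν, ν = (Nat.card G).factorization p := ⟨_, rfl⟩
    obtain ⟨n, hn⟩ : p ^ ν ∣ Nat.card G := hν ▸ Nat.ordProj_dvd _ _
    have hG0 : Nat.card G ≠ 0 := Nat.card_pos.ne'
    have hpn : ¬ p ∣ n := by
      intro hd
      have h1 : p ^ (ν + 1) ∣ Nat.card G := by
        rw [hn, pow_succ]; exact Nat.mul_dvd_mul_left _ hd
      rw [hν] at h1
      exact Nat.pow_succ_factorization_not_dvd hG0 hp h1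
    have hcop : (p ^ ν).Coprime n :=
      Nat.Coprime.pow_left _ ((Nat.Prime.coprime_iff_not_dvd hp).mpr hpn)
    obtain ⟨t, ht0, ht1⟩ := exists_crt_exp hcop
    obtain ⟨f, hf⟩ : ∃ f : G → ℂ, f = fun z => if IsConj (z ^ t) x' then (n : ℂ) else 0 :=
      ⟨_, rfl⟩
    have hf1 : ∀ z, IsConj (z ^ t) x' → f z = n := fun z hz => by rw [hf]; exact if_pos hz
    have hf0 : ∀ z, ¬ IsConj (z ^ t) x' → f z = 0 := fun z hz => by rw [hf]; exact if_neg hz
    obtain ⟨h1, h2⟩ := piSection_eq_sum_irr hn hcop ht0 ht1 x' f hf1 hf0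
    have hxt : x ^ t = x' := by
      rw [← hx1]
      apply pow_crt_eq_of_decomp hn ht0 ht1 hx2
      · rw [hx3]
        exact Nat.Coprime.pow_left _ ((Nat.Prime.coprime_iff_not_dvd hp).mpr hpn)
      · exact Nat.Coprime.pow_right _ (((Nat.Prime.coprime_iff_not_dvd hp).mpr hx4).symm)
    have hyt : y ^ t = y' := by
      rw [← hy1]
      apply pow_crt_eq_of_decomp hn ht0 ht1 hy2
      · rw [hy3]
        exact Nat.Coprime.pow_left _ ((Nat.Prime.coprime_iff_not_dvd hp).mpr hpn)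
      · exact Nat.Coprime.pow_right _ (((Nat.Prime.coprime_iff_not_dvd hp).mpr hy4).symm)
    have hfx : f x = n := hf1 x (by rw [hxt])
    have hfy : f y = 0 := hf0 y (by rw [hyt]; exact fun hc => hnc hc.symm)
    have e1 := congrFun h2 x
    have e2 := congrFun h2 y
    have h3 : MemLocalIdeal M (f x - f y) := by
      rw [e1, e2]
      simp only [Finset.sum_apply, Pi.smul_apply, smul_eq_mul]
      rw [← Finset.sum_sub_distrib]
      apply Cfsg.Agent.Lib.Helper82.memLocalIdeal_sum hMp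
      intro χ _
      rw [← mul_sub]
      exact Cfsg.Agent.Lib.Helper82.memLocalIdeal_mul_left hMp
        (Cfsg.Agent.Lib.Helper82.memLocalRing_of_isIntegral hMp (h1 χ)) (h χ)
    rw [hfx, hfy, sub_zero] at h3
    exact hpn ((Cfsg.Agent.Lib.Helper82.memLocalIdeal_natCast_iff hM n).mp h3)

end Cfsg.Agent.S0876
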