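import Cfsg.Statements.S0877
import Cfsg.Agent.S0164
import Cfsg.Agent.Lib.Helper05.ElemGroups
import Cfsg.Agent.Lib.Helper34.GenChar
import Cfsg.Agent.Lib.Helper82.CharSchur
import Cfsg.Agent.Lib.Helper82.CharBasic
import Cfsg.Agent.Lib.Helper83.SecondOrth
import Cfsg.Agent.Lib.Helper83.CharMisc
import Cfsg.Agent.Lib.Helper83.Completeness
import Cfsg.Agent.Lib.Helper83.Quotient
import Cfsg.Agent.Lib.Helper20.PiPart

set_option autoImplicit false
set_option linter.style.haveILetI false
set_option linter.unusedSectionVars false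
open Cfsg

namespace Cfsg.Agent.S0877

open scoped ComplexConjugate
open Cfsg.Agent.Lib.Helper20 Cfsg.Agent.Lib.Helper83

universe u

section Tilde

variable {G : Type u} [Group G] (H : Subgroup G) (u : ℕ) (c : G → G)
  (hc : ∀ g : G, c g * g ^ u * (c g)⁻¹ ∈ H)

/-- the chosen representative in `H` of the class of `g ^ u`. -/
def rep (g : G) : H := ⟨c g * g ^ u * (c g)⁻¹, hc g⟩

/-- the class function on `G` built from a function on `H`. -/
def tilde (θ : H → ℂ) : G → ℂ := fun g => θ (rep H u c hc g)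

variable (hfus : ∀ x ∈ H, ∀ y ∈ H, IsConj x y → ∃ h ∈ H, h * x * h⁻¹ = y)
  (hu1 : ∀ h ∈ H, h ^ u = h)

include hfus in
theorem tilde_eq {θ : H → ℂ} (hθ : IsClassFunction H θ) (g : G) (h : H)
    (hconj : IsConj (g ^ u) (h : G)) : tilde H u c hc θ g = θ h := by
  have h1 : IsConj ((rep H u c hc g : H) : G) (g ^ u) := by
    rw [isConj_comm, isConj_iff]
    exact ⟨c g, rfl⟩
  obtain ⟨k, hk, hkh⟩ := hfus _ (rep H u c hc g).2 _ h.2 (h1.trans hconj)
  have h2 : h = (⟨k, hk⟩ : H) * rep H u c hc g * (⟨k, hk⟩ : H)⁻¹ := by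
    apply Subtype.ext
    simp only [Subgroup.coe_mul, Subgroup.coe_inv]
    exact hkh.symm
  rw [h2, hθ]
  rfl

include hfus in
theorem tilde_isClassFunction {θ : H → ℂ} (hθ : IsClassFunction H θ) :
    IsClassFunction G (tilde H u c hc θ) := by
  intro g x
  apply tilde_eq H u c hc hfus hθ
  rw [conj_pow]
  have h1 : IsConj (x * g ^ u * x⁻¹) (g ^ u) := by
    rw [isConj_comm, isConj_iff]
    exact ⟨x, rfl⟩
  have h2 : IsConj (g ^ u) ((rep H u c hc g : H) : G) := by
    rw [isConj_iff]
    exact ⟨c g, rfl⟩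
  exact h1.trans h2

include hfus hu1 in
theorem tilde_coe {θ : H → ℂ} (hθ : IsClassFunction H θ) (h : H) :
    tilde H u c hc θ (h : G) = θ h := by
  apply tilde_eq H u c hc hfus hθ
  rw [hu1 _ h.2]

include hfus hu1 in
theorem tilde_one {θ : H → ℂ} (hθ : IsClassFunction H θ) :
    tilde H u c hc θ 1 = θ 1 :=
  tilde_coe H u c hc hfus hu1 hθ 1

theorem rep_eq_one_iff (g : G) : rep H u c hc g = 1 ↔ g ^ u = 1 := by
  constructor
  · intro h
    have h1 := congrArg (Subtype.val : H → G) h
    simp only [rep, Subgroup.coe_one] at h1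
    have : g ^ u = (c g)⁻¹ * (c g * g ^ u * (c g)⁻¹) * c g := by group
    rw [this, h1]
    group
  · intro h
    apply Subtype.ext
    simp only [rep, Subgroup.coe_one, h]
    group

end Tilde

section Elem

variable {G : Type u} [Group G] [Finite G] (H : Subgroup G) (u : ℕ) (c : G → G)
  (hc : ∀ g : G, c g * g ^ u * (c g)⁻¹ ∈ H)
  (hfus : ∀ x ∈ H, ∀ y ∈ H, IsConj x y → ∃ h ∈ H, h * x * h⁻¹ = y)
  (hHall : Nat.Coprime (Nat.card H) H.index)
  (helem : ∀ (E : Subgroup G) (p : ℕ), p.Prime → Cfsg.IsElementary p E →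
    Nat.card E ∣ Nat.card H → ∃ g : G, E.map (MulAut.conj g).toMonoidHom ≤ H)
  (hmod1 : u ≡ 1 [MOD Nat.card H]) (hmod0 : u ≡ 0 [MOD H.index])

include hfus hHall helem hmod1 hmod0 in
theorem tilde_isGeneralizedCharacter {θ : H → ℂ} (hθ : IsCharacter H θ) :
    IsGeneralizedCharacter G (tilde H u c hc θ) := by
  have hθc : IsClassFunction H θ := char_isClassFunction hθ
  apply Cfsg.Agent.S0164.result _ (tilde_isClassFunction H u c hc hfus hθc)
  intro E p hp hE
  have hnil := Cfsg.Agent.Lib.Helper05.isNilpotent_of_isElementary hp hE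
  have hcardE : Nat.card E ∣ Nat.card H * H.index := by
    rw [Subgroup.card_mul_index]
    exact Subgroup.card_subgroup_dvd_card E
  obtain ⟨f, hf⟩ := exists_pow_hom hnil (Nat.card H) H.index u hHall hcardE hmod1 hmod0
  set φ : E →* G := E.subtype.comp f with hφ
  have hφe : ∀ e : E, φ e = (e : G) ^ u := by
    intro e
    simp [hφ, hf]
  have hEπ : Cfsg.IsElementary p φ.range :=
    isElementary_of_surjective hp hE φ.rangeRestrict φ.rangeRestrict_surjective
  have hpown : ∀ y ∈ φ.range, y ^ Nat.card H = 1 := by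
    rintro _ ⟨e, rfl⟩
    rw [hφe, ← pow_mul]
    obtain ⟨t, ht⟩ := (Nat.modEq_zero_iff_dvd.mp hmod0)
    rw [ht, mul_comm H.index t, mul_assoc, mul_comm H.index, Subgroup.card_mul_index, mul_comm,
      pow_mul, pow_card_eq_one', one_pow]
  have hdvd : Nat.card φ.range ∣ Nat.card H := by
    have h1 : Nat.card φ.range ∣ Nat.card H * H.index := by
      rw [Subgroup.card_mul_index]
      exact Subgroup.card_subgroup_dvd_card _
    have h2 : Nat.Coprime (Nat.card φ.range) H.index := by
      apply Nat.coprime_of_dvd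
      intro q hq hq1 hq2
      haveI : Fact q.Prime := ⟨hq⟩
      obtain ⟨y, hy⟩ := exists_prime_orderOf_dvd_card' q hq1
      have h3 : (y : G) ^ Nat.card H = 1 := hpown _ y.2
      have h4 : orderOf (y : G) ∣ Nat.card H := orderOf_dvd_of_pow_eq_one h3
      rw [Subgroup.orderOf_coe, hy] at h4
      have := Nat.eq_one_of_dvd_coprimes hHall h4 hq2
      exact hq.one_lt.ne' this
    exact h2.dvd_of_dvd_mul_right h1
  obtain ⟨x, hx⟩ := helem φ.range p hp hEπ hdvd
  have hxH : ∀ e : E, ((MulAut.conj x).toMonoidHom.comp φ) e ∈ H := by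
    intro e
    apply hx
    exact ⟨φ e, ⟨e, rfl⟩, rfl⟩
  set ψ : E →* H := ((MulAut.conj x).toMonoidHom.comp φ).codRestrict H hxH with hψ
  have hrest : (fun e : E => tilde H u c hc θ (e : G)) = fun e : E => θ (ψ e) := by
    funext e
    apply tilde_eq H u c hc hfus hθc
    rw [isConj_iff]
    refine ⟨x, ?_⟩
    simp [hψ, hφe]
  rw [hrest]
  exact Cfsg.Agent.Lib.Helper34.IsCharacter.isGeneralizedCharacter (isCharacter_comp_hom ψ hθ)

end Elem

section Count

variable {G : Type u} [Group G] [Fintype G] (H : Subgroup G) [Fintype H]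
  [Fintype (IrrCharacter H)] (u : ℕ) (c : G → G)
  (hc : ∀ g : G, c g * g ^ u * (c g)⁻¹ ∈ H)

/-- the average of `θ̃` over `G`. -/
noncomputable def zCoef (θ : IrrCharacter H) : ℂ :=
  (Nat.card G : ℂ)⁻¹ * ∑ g : G, (θ : H → ℂ) (rep H u c hc g)

/-- the weights. -/
noncomputable def aCoef (h : H) : ℂ :=
  ∑ θ : IrrCharacter H, conj ((θ : H → ℂ) h) * zCoef H u c hc θ

theorem avg_tilde {F : H → ℂ} (hF : IsClassFunction H F) :
    (Nat.card G : ℂ)⁻¹ * ∑ g : G, F (rep H u c hc g) =
      (Nat.card H : ℂ)⁻¹ * ∑ h : H, aCoef H u c hc h * F h := by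
  obtain ⟨cF, hcF1, hcF2⟩ : ∃ cF : IrrCharacter H → ℂ,
      (∀ h, F h = ∑ θ : IrrCharacter H, cF θ * (θ : H → ℂ) h) ∧
      (∀ θ : IrrCharacter H, cF θ =
        (Nat.card H : ℂ)⁻¹ * ∑ h : H, F h * conj ((θ : H → ℂ) h)) := by
    refine ⟨fun θ => classInner F (θ : H → ℂ), ?_, fun θ => rfl⟩
    intro h
    have hexp := classFunction_eq_sum_irr hF
    conv_lhs => rw [hexp]
    simp [Finset.sum_apply]
  have hL : (Nat.card G : ℂ)⁻¹ * ∑ g : G, F (rep H u c hc g) =
      ∑ θ : IrrCharacter H, cF θ * zCoef H u c hc θ := by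
    simp only [hcF1]
    rw [Finset.sum_comm, Finset.mul_sum]
    apply Finset.sum_congr rfl
    intro θ _
    unfold zCoef
    rw [← Finset.mul_sum]
    ring
  have hR : (Nat.card H : ℂ)⁻¹ * ∑ h : H, aCoef H u c hc h * F h =
      ∑ θ : IrrCharacter H, cF θ * zCoef H u c hc θ := by
    unfold aCoef
    simp only [Finset.sum_mul]
    rw [Finset.sum_comm, Finset.mul_sum]
    apply Finset.sum_congr rfl
    intro θ _
    rw [hcF2 θ, Finset.mul_sum, Finset.mul_sum, Finset.sum_mul]
    apply Finset.sum_congr rfl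
    intro h _
    ring
  rw [hL, hR]

variable (hfus : ∀ x ∈ H, ∀ y ∈ H, IsConj x y → ∃ h ∈ H, h * x * h⁻¹ = y)
  (hu1 : ∀ h ∈ H, h ^ u = h)

include hfus hu1 in
theorem isConj_rep_coe (h : H) : IsConj (rep H u c hc (h : G)) h := by
  have h1 : IsConj ((rep H u c hc (h : G) : H) : G) (h : G) := by
    rw [isConj_comm, isConj_iff]
    refine ⟨c (h : G), ?_⟩
    simp only [rep]
    rw [hu1 _ h.2]
  obtain ⟨k, hk, hkh⟩ := hfus _ (rep H u c hc (h : G)).2 _ h.2 h1
  rw [isConj_iff]
  exact ⟨⟨k, hk⟩, Subtype.ext hkh⟩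

include hfus hu1 in
theorem aCoef_nat (hgen : ∀ θ : IrrCharacter H,
      IsGeneralizedCharacter G (tilde H u c hc (θ : H → ℂ))) (h : H) :
    ∃ k : ℕ, 1 ≤ k ∧ aCoef H u c hc h = k := by
  classical
  haveI : Finite H := Finite.of_fintype H
  -- integrality
  have hz : ∀ θ : IrrCharacter H, ∃ n : ℤ, zCoef H u c hc θ = n := by
    intro θ
    obtain ⟨n, hn⟩ := Cfsg.Agent.Lib.Helper34.classInner_genChar_int (hgen θ)
      (Cfsg.Agent.Lib.Helper34.IsCharacter.isGeneralizedCharacter
        (isCharacter_one (G := G)))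
    refine ⟨n, ?_⟩
    rw [← hn]
    unfold zCoef
    rw [classInner_def]
    simp [tilde]
  have hint : IsIntegral ℤ (aCoef H u c hc h) := by
    unfold aCoef
    apply IsIntegral.sum
    intro θ _
    apply IsIntegral.mul
    · exact map_isIntegral_int (starRingEnd ℂ)
        (Cfsg.Agent.Lib.Helper82.IsCharacter.isIntegral (IrrCharacter_isCharacter θ) h)
    · obtain ⟨n, hn⟩ := hz θ
      rw [hn]
      exact isIntegral_algebraMap (R := ℤ) (A := ℂ) (x := n)
  -- explicit value
  set N : ℕ := ∑ g : G, if IsConj (rep H u c hc g) h then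
      Nat.card (Subgroup.centralizer ({h} : Set H)) else 0 with hN
  have hval : aCoef H u c hc h = (Nat.card G : ℂ)⁻¹ * (N : ℂ) := by
    unfold aCoef zCoef
    simp only [Finset.mul_sum]
    rw [Finset.sum_comm]
    rw [hN]
    push_cast
    rw [Finset.mul_sum]
    apply Finset.sum_congr rfl
    intro g _
    have h2 := second_orthogonality (G := H) (rep H u c hc g) h
    have h3 : ∑ θ : IrrCharacter H, conj ((θ : H → ℂ) h) *
        ((Nat.card G : ℂ)⁻¹ * (θ : H → ℂ) (rep H u c hc g)) =
        (Nat.card G : ℂ)⁻¹ * ∑ θ : IrrCharacter H,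
          (θ : H → ℂ) (rep H u c hc g) * conj ((θ : H → ℂ) h) := by
      rw [Finset.mul_sum]
      apply Finset.sum_congr rfl
      intro θ _
      ring
    rw [h3, h2]
    split_ifs <;> simp
  have hNpos : 1 ≤ N := by
    have h1 : (if IsConj (rep H u c hc (h : G)) h then
        Nat.card (Subgroup.centralizer ({h} : Set H)) else 0) ≤ N := by
      rw [hN]
      exact Finset.single_le_sum (f := fun g : G => if IsConj (rep H u c hc g) h then
        Nat.card (Subgroup.centralizer ({h} : Set H)) else 0)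
        (fun _ _ => Nat.zero_le _) (Finset.mem_univ (h : G))
    rw [if_pos (isConj_rep_coe H u c hc hfus hu1 h)] at h1
    have h2 : 0 < Nat.card (Subgroup.centralizer ({h} : Set H)) := Nat.card_pos
    omega
  have hq : aCoef H u c hc h = (((N : ℚ) / (Nat.card G : ℚ) : ℚ) : ℂ) := by
    rw [hval]
    push_cast
    rw [div_eq_inv_mul]
  rw [hq] at hint
  obtain ⟨k, hk⟩ := Cfsg.Agent.Lib.Helper82.exists_int_of_isIntegral_ratCast hint
  have hGpos : (0 : ℚ) < (Nat.card G : ℚ) := by
    have : 0 < Nat.card G := Nat.card_pos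
    exact_mod_cast this
  have hkpos : (0 : ℚ) < (k : ℚ) := by
    rw [← hk]
    apply div_pos _ hGpos
    exact_mod_cast hNpos
  have hkpos' : 0 < k := by exact_mod_cast hkpos
  obtain ⟨k', rfl⟩ := Int.eq_ofNat_of_zero_le hkpos'.le
  refine ⟨k', by omega, ?_⟩
  rw [hq, hk]
  push_cast
  rfl

include hfus hu1 in
theorem aCoef_eq_one (hgen : ∀ θ : IrrCharacter H,
      IsGeneralizedCharacter G (tilde H u c hc (θ : H → ℂ))) (h : H) :
    aCoef H u c hc h = 1 := by
  classical
  choose k hk1 hk2 using aCoef_nat H u c hc hfus hu1 hgen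
  have hGne : (Nat.card G : ℂ) ≠ 0 := by
    have : Nat.card G ≠ 0 := Nat.card_pos.ne'
    exact_mod_cast this
  have hHne : (Nat.card H : ℂ) ≠ 0 := by
    have : Nat.card H ≠ 0 := Nat.card_pos.ne'
    exact_mod_cast this
  have h1 := avg_tilde H u c hc (F := fun _ => (1 : ℂ)) (fun _ _ => rfl)
  simp only [Finset.sum_const, Finset.card_univ, nsmul_eq_mul, mul_one] at h1
  rw [← Nat.card_eq_fintype_card, inv_mul_cancel₀ hGne] at h1
  have h2 : ∑ h : H, (k h : ℂ) = (Nat.card H : ℂ) := by
    have h3 : ∑ h : H, aCoef H u c hc h = ∑ h : H, (k h : ℂ) :=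
      Finset.sum_congr rfl (fun h _ => hk2 h)
    rw [← h3]
    field_simp at h1
    exact h1.symm
  have h3 : ∑ h : H, k h = Fintype.card H := by
    rw [Nat.card_eq_fintype_card] at h2
    exact_mod_cast h2
  have h4 : ∀ h : H, k h = 1 := by
    by_contra hcon
    push Not at hcon
    obtain ⟨h0, hh0⟩ := hcon
    have h5 : ∑ h : H, 1 < ∑ h : H, k h := by
      apply Finset.sum_lt_sum
      · intro i _
        exact hk1 i
      · refine ⟨h0, Finset.mem_univ _, ?_⟩
        have := hk1 h0
        omega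
    simp only [Finset.sum_const, Finset.card_univ, smul_eq_mul, mul_one] at h5
    omega
  rw [hk2 h, h4 h]
  simp

include hfus hu1 in
theorem avg_tilde' (hgen : ∀ θ : IrrCharacter H,
      IsGeneralizedCharacter G (tilde H u c hc (θ : H → ℂ))) {F : H → ℂ}
    (hF : IsClassFunction H F) :
    (Nat.card G : ℂ)⁻¹ * ∑ g : G, F (rep H u c hc g) =
      (Nat.card H : ℂ)⁻¹ * ∑ h : H, F h := by
  rw [avg_tilde H u c hc hF]
  congr 1
  apply Finset.sum_congr rfl
  intro h _
  rw [aCoef_eq_one H u c hc hfus hu1 hgen h, one_mul]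

end Count

/-- Let H be a subgroup of the finite group G whose order is coprime to its index. Suppose that elements of H conjugate in G are conjugate in H, and that every subgroup E of G that is elementary for some prime (in the sense used for Brauer's characterisation of characters) and whose order divides the order of H is conjugate to a subgroup of H. Then there is a normal subgroup K with K ⊔ H = ⊤ and K ⊓ H trivial. -/
theorem result {G : Type*} [Group G] [Finite G] (H : Subgroup G) (hHall : Nat.Coprime (Nat.card H) H.index) (hfus : ∀ x ∈ H, ∀ y ∈ H, IsConj x y → ∃ h ∈ H, h * x * h⁻¹ = y) (helem : ∀ (E : Subgroup G) (p : ℕ), p.Prime → Cfsg.IsElementary p E → Nat.card E ∣ Nat.card H → ∃ g : G, E.map (MulAut.conj g).toMonoidHom ≤ H) : ∃ K : Subgroup G, K.Normal ∧ K ⊔ H = ⊤ ∧ K ⊓ H = ⊥ := by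
  classical
  haveI := Fintype.ofFinite G
  haveI : Fintype H := Fintype.ofFinite H
  haveI : Fintype (IrrCharacter H) := Fintype.ofFinite _
  obtain ⟨u, hmod1, hmod0⟩ := Nat.chineseRemainder hHall 1 0
  have hu1 : ∀ h ∈ H, h ^ u = h := by
    intro h hh
    have h1 : orderOf h ∣ Nat.card H := by
      have := orderOf_dvd_natCard (⟨h, hh⟩ : H)
      rwa [← Subgroup.orderOf_coe] at this
    have h2 : u ≡ 1 [MOD orderOf h] := hmod1.of_dvd h1
    have := (pow_eq_pow_iff_modEq (x := h)).mpr h2
    rw [this, pow_one]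
  have hpowcard : ∀ g : G, (g ^ u) ^ Nat.card H = 1 := by
    intro g
    rw [← pow_mul]
    obtain ⟨t, ht⟩ := (Nat.modEq_zero_iff_dvd.mp hmod0)
    rw [ht, mul_comm H.index t, mul_assoc, mul_comm H.index, Subgroup.card_mul_index, mul_comm,
      pow_mul, pow_card_eq_one', one_pow]
  have hex : ∀ g : G, ∃ x : G, x * g ^ u * x⁻¹ ∈ H := by
    intro g
    obtain ⟨p, hp, hE⟩ := Cfsg.Agent.Lib.Helper20.exists_isElementary_zpowers (g ^ u)
    have hdvd : Nat.card (Subgroup.zpowers (g ^ u)) ∣ Nat.card H := by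
      rw [Nat.card_zpowers]
      exact orderOf_dvd_of_pow_eq_one (hpowcard g)
    obtain ⟨x, hx⟩ := helem _ p hp hE hdvd
    refine ⟨x, hx ⟨g ^ u, Subgroup.mem_zpowers _, ?_⟩⟩
    simp [MulAut.conj_apply]
  choose c hc using hex
  have hgen : ∀ θ : IrrCharacter H,
      IsGeneralizedCharacter G (tilde H u c hc (θ : H → ℂ)) := fun θ =>
    tilde_isGeneralizedCharacter H u c hc hfus hHall helem hmod1 hmod0
      (Cfsg.Agent.Lib.Helper83.IrrCharacter_isCharacter θ)
  have hirr : ∀ θ : IrrCharacter H, IsIrrCharacter G (tilde H u c hc (θ : H → ℂ)) := by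
    intro θ
    have hθc : IsClassFunction H (θ : H → ℂ) :=
      char_isClassFunction (IrrCharacter_isCharacter θ)
    have hF : IsClassFunction H (fun h => (θ : H → ℂ) h * conj ((θ : H → ℂ) h)) := by
      intro g x
      show (θ : H → ℂ) (x * g * x⁻¹) * conj ((θ : H → ℂ) (x * g * x⁻¹)) = _
      rw [hθc g x]
    have h1 := avg_tilde' H u c hc hfus hu1 hgen hF
    have hnorm : classInner (tilde H u c hc (θ : H → ℂ)) (tilde H u c hc (θ : H → ℂ)) = 1 := by
      have h2 := irr_orthonormal θ θ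
      rw [if_pos rfl, classInner_def] at h2
      rw [classInner_def]
      rw [← h2, ← h1]
      rfl
    rcases Cfsg.Agent.Lib.Helper34.irr_or_neg_irr_of_norm_one (hgen θ) hnorm with h3 | h3
    · exact h3
    · exfalso
      obtain ⟨n, hn⟩ := char_one_eq_nat (isCharacter_of_irr h3)
      obtain ⟨m, hm⟩ := char_one_eq_nat (IrrCharacter_isCharacter θ)
      have h4 := irr_degree_ne_zero θ
      have h5 : tilde H u c hc (θ : H → ℂ) 1 = (θ : H → ℂ) 1 :=
        tilde_one H u c hc hfus hu1 hθc
      rw [Pi.neg_apply, h5, hm] at hn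
      have h6 : ((m + n : ℕ) : ℂ) = 0 := by
        push_cast
        rw [← hn]
        ring
      have h7 : m + n = 0 := by exact_mod_cast h6
      apply h4
      rw [hm]
      have : m = 0 := by omega
      rw [this]
      simp
  set K : Subgroup G := ⨅ θ : IrrCharacter H, charKer (isCharacter_of_irr (hirr θ)) with hK
  have hKmem : ∀ g : G, g ∈ K ↔ g ^ u = 1 := by
    intro g
    rw [hK, Subgroup.mem_iInf, ← rep_eq_one_iff H u c hc g]
    constructor
    · intro h
      by_contra hne
      obtain ⟨ψ, hψ⟩ := exists_irr_ne_of_ne_one hne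
      apply hψ
      have h1 := (mem_charKer _ g).mp (h ψ)
      rw [tilde_one H u c hc hfus hu1
        (char_isClassFunction (IrrCharacter_isCharacter ψ))] at h1
      exact h1
    · intro h θ
      rw [mem_charKer, tilde_one H u c hc hfus hu1
        (char_isClassFunction (IrrCharacter_isCharacter θ))]
      show (θ : H → ℂ) (rep H u c hc g) = _
      rw [h]
  have hKn : K.Normal := by
    rw [hK]
    exact Subgroup.normal_iInf_normal (fun θ => inferInstance)
  have hKH : K ⊓ H = ⊥ := by
    rw [eq_bot_iff]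
    rintro g ⟨hg1, hg2⟩
    rw [Subgroup.mem_bot]
    have h1 := (hKmem g).mp hg1
    rw [hu1 g hg2] at h1
    exact h1
  have hcard : Nat.card K * Nat.card H = Nat.card G := by
    have hF : IsClassFunction H (fun h : H => if h = 1 then (1 : ℂ) else 0) := by
      intro g x
      show (if x * g * x⁻¹ = 1 then (1 : ℂ) else 0) = if g = 1 then (1 : ℂ) else 0
      have : x * g * x⁻¹ = 1 ↔ g = 1 := by
        constructor
        · intro h
          have : g = x⁻¹ * (x * g * x⁻¹) * x := by group
          rw [this, h]; group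
        · rintro rfl; group
      simp only [this]
    have h1 := avg_tilde' H u c hc hfus hu1 hgen hF
    simp only [rep_eq_one_iff, Finset.sum_ite_eq', Finset.mem_univ, if_true] at h1
    have h2 : ∑ g : G, (if g ^ u = 1 then (1 : ℂ) else 0) = (Nat.card K : ℂ) := by
      rw [Finset.sum_boole]
      congr 1
      rw [Nat.card_eq_fintype_card, Fintype.card_subtype]
      congr 1
      ext g
      simp only [Finset.mem_filter, Finset.mem_univ, true_and]
      exact (hKmem g).symm
    rw [h2] at h1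
    have hGne : (Nat.card G : ℂ) ≠ 0 := by
      have : Nat.card G ≠ 0 := Nat.card_pos.ne'
      exact_mod_cast this
    have hHne : (Nat.card H : ℂ) ≠ 0 := by
      have : Nat.card H ≠ 0 := Nat.card_pos.ne'
      exact_mod_cast this
    have h3 : (Nat.card K : ℂ) * (Nat.card H : ℂ) = (Nat.card G : ℂ) := by
      field_simp at h1
      linear_combination h1
    exact_mod_cast h3
  refine ⟨K, hKn, ?_, hKH⟩
  have hidx : Nat.card K = H.index := by
    have h1 := Subgroup.card_mul_index H
    rw [← hcard, mul_comm] at h1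
    exact (Nat.eq_of_mul_eq_mul_right Nat.card_pos h1).symm
  have hcop : Nat.Coprime (Nat.card K) (Nat.card H) := by
    rw [hidx]
    exact hHall.symm
  exact (Subgroup.isComplement'_of_coprime hcard hcop).sup_eq_top

end Cfsg.Agent.S0877
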