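import Cfsg.Statements.S0879
import Cfsg.Agent.Lib.Helper21.Zassenhaus

set_option autoImplicit false
open Cfsg

namespace Cfsg.Agent.S0879

open Cfsg.Agent.Lib.Helper21

section
variable {G Ω : Type*} [Group G] [Finite G] [MulAction G Ω]

theorem mem_E {a b : Ω} {x : G} :
    x ∈ (MulAction.stabilizer G a ⊓ MulAction.stabilizer G b : Subgroup G) ↔ x • a = a ∧ x • b = b := by
  simp [Subgroup.mem_inf, MulAction.mem_stabilizer_iff]

/-- Elements preserving `{a, b}` normalize the two-point stabilizer. -/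
theorem mem_normalizer_of_preserve {a b : Ω} {g : G}
    (h : (g • a = a ∧ g • b = b) ∨ (g • a = b ∧ g • b = a)) :
    g ∈ Subgroup.normalizer ((MulAction.stabilizer G a ⊓ MulAction.stabilizer G b : Subgroup G) : Set G) := by
  apply Subgroup.mem_normalizer_fintype
  intro y hy
  rw [SetLike.mem_coe, mem_E] at hy ⊢
  have h1 := conj_smul_smul g y a hy.1
  have h2 := conj_smul_smul g y b hy.2
  rcases h with ⟨ha, hb⟩ | ⟨ha, hb⟩
  · rw [ha] at h1; rw [hb] at h2; exact ⟨h1, h2⟩
  · rw [ha] at h1; rw [hb] at h2; exact ⟨h2, h1⟩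

/-- If conjugation by `g` moves a non-identity element of the two-point stabilizer into it,
then `g` preserves `{a, b}`. -/
theorem preserve_of_conj_mem (hZ : IsZassenhausGroup G Ω) {a b : Ω} (hab : a ≠ b) {g x : G}
    (hx : x ≠ 1) (hxE : x • a = a ∧ x • b = b)
    (hgx : (g * x * g⁻¹) • a = a ∧ (g * x * g⁻¹) • b = b) :
    (g • a = a ∧ g • b = b) ∨ (g • a = b ∧ g • b = a) := by
  have hne := conj_ne_one (g := g) hx
  have h1 := conj_smul_smul g x a hxE.1
  have h2 := conj_smul_smul g x b hxE.2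
  have hga := zass_fixed_eq hZ hab hne hgx.1 hgx.2 h1
  have hgb := zass_fixed_eq hZ hab hne hgx.1 hgx.2 h2
  have hinj : g • a ≠ g • b := fun h => hab ((MulAction.injective g) h)
  rcases hga with hga | hga <;> rcases hgb with hgb | hgb
  · exact absurd (hga.trans hgb.symm) hinj
  · exact Or.inl ⟨hga, hgb⟩
  · exact Or.inr ⟨hga, hgb⟩
  · exact absurd (hga.trans hgb.symm) hinj

end

theorem result {G Ω : Type*} [Group G] [Finite G] [MulAction G Ω] [Fintype Ω] (hZ : Cfsg.IsZassenhausGroup G Ω) {a b : Ω} (hab : a ≠ b) : (∀ g : G, g ∉ Subgroup.normalizer ((MulAction.stabilizer G a ⊓ MulAction.stabilizer G b : Subgroup G) : Set G) → ∀ x ∈ (MulAction.stabilizer G a ⊓ MulAction.stabilizer G b : Subgroup G), g * x * g⁻¹ ∈ (MulAction.stabilizer G a ⊓ MulAction.stabilizer G b : Subgroup G) → x = 1) ∧ ((MulAction.stabilizer G a ⊓ MulAction.stabilizer G b : Subgroup G).subgroupOf (Subgroup.normalizer ((MulAction.stabilizer G a ⊓ MulAction.stabilizer G b : Subgroup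 G) : Set G))).index = 2 := by
  refine ⟨?_, ?_⟩
  · intro g hg x hx hgx
    by_contra hx1
    rw [mem_E] at hx hgx
    exact hg (mem_normalizer_of_preserve (preserve_of_conj_mem hZ hab hx1 hx hgx))
  · rw [Subgroup.index_eq_two_iff_exists_notMem_and]
    obtain ⟨w, hwa, hwb⟩ := zass_two_trans hZ hab hab.symm
    obtain ⟨x₀, hx₀, hx₀a, hx₀b⟩ := zass_exists_ne_one hZ hab
    have hwN := mem_normalizer_of_preserve (G := G) (a := a) (b := b) (g := w) (Or.inr ⟨hwa, hwb⟩)
    refine ⟨⟨w, hwN⟩, ?_, ?_⟩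
    · rw [Subgroup.mem_subgroupOf, mem_E]
      rintro ⟨h1, _⟩
      exact hab (h1.symm.trans hwa)
    · rintro ⟨n, hn⟩
      rw [Subgroup.mem_subgroupOf, Subgroup.mem_subgroupOf, mem_E, mem_E]
      have hx₀E : x₀ ∈ (MulAction.stabilizer G a ⊓ MulAction.stabilizer G b : Subgroup G) :=
        mem_E.2 ⟨hx₀a, hx₀b⟩
      have hconj := (Subgroup.mem_normalizer_iff.1 hn x₀).1 hx₀E
      rw [mem_E] at hconj
      rcases preserve_of_conj_mem hZ hab hx₀ ⟨hx₀a, hx₀b⟩ hconj with ⟨ha, hb⟩ | ⟨ha, hb⟩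
      · right; exact ⟨ha, hb⟩
      · left
        show (n * w) • a = a ∧ (n * w) • b = b
        rw [mul_smul, mul_smul, hwa, hwb]
        exact ⟨hb, ha⟩

end Cfsg.Agent.S0879
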