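import Mathlib
import Cfsg.Statements.S0880
import Cfsg.Agent.Lib.Helper17.ZassCount
import Cfsg.Agent.Lib.Helper21.Zassenhaus

set_option autoImplicit false
set_option linter.style.haveILetI false
open Cfsg

namespace Cfsg.Agent.S0880

open MulAction Subgroup Cfsg.Agent.Lib.Helper17.ZassCount Cfsg.Agent.Lib.Helper21

/-- Let G be a finite simple Zassenhaus group on Ω with n points whose two-point stabilizer E has odd order less than n - 2. Then there are two elements of G, each fixing no point of Ω, that are not conjugate. -/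
theorem result {G Ω : Type*} [Group G] [Finite G] [MulAction G Ω] [Fintype Ω] (hZ : Cfsg.IsZassenhausGroup G Ω) {a b : Ω} (hab : a ≠ b) [IsSimpleGroup G] (hodd : Odd (Nat.card ↥(MulAction.stabilizer G a ⊓ MulAction.stabilizer G b : Subgroup G))) (hlt : Nat.card ↥(MulAction.stabilizer G a ⊓ MulAction.stabilizer G b : Subgroup G) < Fintype.card Ω - 2) : ∃ x y : G, (∀ c : Ω, x • c ≠ c) ∧ (∀ c : Ω, y • c ≠ c) ∧ ¬ IsConj x y := by
  classical
  letI : Fintype G := Fintype.ofFinite G
  by_contra hcon
  push Not at hcon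
  set e := Nat.card ↥(MulAction.stabilizer G a ⊓ MulAction.stabilizer G b : Subgroup G) with he
  set n := Fintype.card Ω with hn
  have hcard : Fintype.card G = n * (n - 1) * e := by
    rw [← Nat.card_eq_fintype_card]; exact card_eq hZ hab
  have hcount := two_mul_card_fpf hZ hab
  rw [← hn, hcard] at hcount
  set S := Finset.univ.filter (fun g : G => ∀ c : Ω, g • c ≠ c) with hS
  have hn3 : 3 ≤ n := by omega
  -- e ≥ 3
  have he1 : e ≠ 1 := by
    intro h1
    obtain ⟨x, hx1, hxa, hxb⟩ := zass_exists_ne_one hZ hab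
    have hxE : x ∈ (MulAction.stabilizer G a ⊓ MulAction.stabilizer G b : Subgroup G) :=
      ⟨hxa, hxb⟩
    have hbot := Subgroup.card_eq_one.mp (he ▸ h1)
    rw [hbot, Subgroup.mem_bot] at hxE
    exact hx1 hxE
  have he3 : 3 ≤ e := by
    obtain ⟨k, hk⟩ := hodd
    omega
  -- S is nonempty
  have hne3 : n * 3 ≤ n * e := Nat.mul_le_mul_left n he3
  have hSpos : 0 < S.card := by
    by_contra h0
    have h0' : S.card = 0 := by omega
    rw [h0', mul_zero, zero_add] at hcount
    -- (n-1)(n-2) = n(n-1)e impossible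
    have h1 : (n - 1) * (n - 2) < n * (n - 1) * e := by
      calc (n - 1) * (n - 2) < (n - 1) * n := by
            apply Nat.mul_lt_mul_of_pos_left <;> omega
        _ = n * (n - 1) * 1 := by ring
        _ ≤ n * (n - 1) * e := Nat.mul_le_mul_left _ (by omega)
    omega
  obtain ⟨x, hxS⟩ := Finset.card_pos.mp hSpos
  have hx : ∀ c : Ω, x • c ≠ c := (Finset.mem_filter.mp hxS).2
  -- S is the conjugacy class of x
  have hSorb : ∀ g : G, g ∈ S ↔ g ∈ MulAction.orbit (ConjAct G) x := by
    intro g
    rw [ConjAct.mem_orbit_conjAct]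
    constructor
    · intro hg
      exact (hcon g x (Finset.mem_filter.mp hg).2 hx)
    · intro hg
      rw [isConj_comm, isConj_iff] at hg
      obtain ⟨c, hc⟩ := hg
      rw [hS, Finset.mem_filter]
      refine ⟨Finset.mem_univ _, fun d hd => ?_⟩
      apply hx (c⁻¹ • d)
      rw [← hc] at hd
      have h1 : x • (c⁻¹ • d) = c⁻¹ • ((c * x * c⁻¹) • d) := by simp [mul_smul]
      rw [h1, hd]
  have hdvd : S.card ∣ Fintype.card G := by
    have h1 : S.card = (MulAction.orbit (ConjAct G) x).ncard := by
      rw [Set.ncard_eq_toFinset_card']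
      congr 1
      ext g
      rw [Set.mem_toFinset]
      exact hSorb g
    rw [h1, ← MulAction.index_stabilizer, ← Nat.card_eq_fintype_card]
    exact Subgroup.index_dvd_card (MulAction.stabilizer (ConjAct G) x)
  obtain ⟨m, hm⟩ := hdvd
  rw [hcard] at hm
  have hA1 : (n - 1) * (n - 2) < (n - 1) * n := by
    apply Nat.mul_lt_mul_of_pos_left <;> omega
  have hA2 : n * (n - 1) * 3 ≤ n * (n - 1) * e := Nat.mul_le_mul_left _ he3
  have hA3 : (n - 1) * n = n * (n - 1) := mul_comm _ _
  have hApos : 0 < (n - 1) * (n - 2) := by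
    apply Nat.mul_pos <;> omega
  rcases Nat.lt_or_ge m 3 with hm3 | hm3
  · have : S.card * m ≤ S.card * 2 := Nat.mul_le_mul_left _ (by omega)
    omega
  · have : S.card * 3 ≤ S.card * m := Nat.mul_le_mul_left _ hm3
    omega

end Cfsg.Agent.S0880
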