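import Cfsg.Statements.S0885
-- import your own Cfsg.Agent.* helpers here
import Cfsg.Agent.Lib.Helper28.FeitZass
import Cfsg.Agent.Lib.Helper17.FeitZass
import Cfsg.Agent.Lib.Helper34.SibleySub
import Cfsg.Agent.S0339

set_option autoImplicit false
open Cfsg

namespace Cfsg.Agent.S0885
set_option linter.style.haveILetI false


open MulAction Cfsg.Agent.Lib Cfsg.Agent.Lib.Helper34 Cfsg.Agent.Lib.Helper28 Cfsg.Agent.Lib.Helper28.FeitZass

/-- the derived subgroup of `A`, as a subgroup of `A` -/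
theorem subgroupOf_commutator_self {Q : Type*} [Group Q] (A : Subgroup Q) :
    ⁅A, A⁆.subgroupOf A = commutator A := by
  rw [← Subgroup.map_subtype_commutator, Subgroup.subgroupOf,
    Subgroup.comap_map_eq_self_of_injective A.subtype_injective]

section Simple

variable {G Ω : Type*} [Group G] [Fintype G] [MulAction G Ω] [Fintype Ω]

/-- **Feit's theorem, simple case with `2e < h - 1`**: the kernel is a non-abelian `2`-group with
small commutator quotient.  (Adapted from `Helper28.FeitZass.odd_case`, with Sibley's theorem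
`sibley_sub` excluding the odd primes.) -/
theorem simple_case (hZ : Cfsg.IsZassenhausGroup G Ω) [IsSimpleGroup G] {a b : Ω} (hab : a ≠ b)
    (h e : ℕ) (hh : Fintype.card Ω = h + 1)
    (he : Nat.card ↥(stabilizer G a ⊓ stabilizer G b : Subgroup G) = e) (hodd : Odd e)
    (hlt : 2 * e < h - 1) (H₀ : Subgroup G) (hH₀a : H₀ ≤ stabilizer G a)
    (hH₀card : Nat.card H₀ + 1 = Fintype.card Ω)
    (hH₀fix : ∀ u ∈ H₀, u ≠ 1 → ∀ c : Ω, u • c = c → c = a) :
    IsPGroup 2 H₀ ∧ (∃ u v : H₀, u * v ≠ v * u) ∧ (commutator H₀).index ≤ 4 * e ^ 2 + 1 := by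
  classical
  have hpre := zpre_of_isZassenhausGroup hZ
  obtain ⟨H, hHa, hHmem, hHtr, -⟩ := hpre.exists_kernel a
  have hHreg : ∀ y z : Ω, y ≠ a → z ≠ a → ∃! u : H, (u : G) • y = z := by
    intro y z hy hz
    obtain ⟨k, hk, hkyz⟩ := hHtr y z hy hz
    refine ⟨⟨k, hk⟩, hkyz, ?_⟩
    intro u hu
    have h1 : ((u : G)⁻¹ * k) ∈ H := H.mul_mem (H.inv_mem u.2) hk
    have h2 : ((u : G)⁻¹ * k) • y = y := by
      have hu' : (u : G) • y = z := hu
      rw [mul_smul, hkyz, ← hu', inv_smul_smul]
    rcases (hHmem _ (hHa h1)).mp h1 with h3 | h3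
    · apply Subtype.ext
      exact inv_mul_eq_one.mp h3
    · exact absurd h2 (h3 y hy)
  obtain ⟨hHcard, hGcard⟩ := hpre.card_of_regular_kernel hab H hHa hHreg
  have hHh : Nat.card H = h := by rw [hHcard, hh]; omega
  -- the given subgroup is the kernel
  have hHH : H₀ = H := by
    apply Subgroup.eq_of_le_of_card_ge
    · intro u hu
      rw [hHmem u (hH₀a hu)]
      by_cases hu1 : u = 1
      · exact Or.inl hu1
      · exact Or.inr (fun c hca hc => hca (hH₀fix u hu hu1 c hc))
    · rw [hHh]; omega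
  subst hHH
  have hHcard' : Nat.card H₀ + 1 = Fintype.card Ω := by rw [hHh, hh]
  have hHfix : ∀ u ∈ H₀, u ≠ 1 → ∀ c : Ω, u • c = c → c = a := hH₀fix
  have hG : Nat.card G = (h + 1) * h * e := by
    rw [hGcard, hh, hHh, he, mul_assoc]
  -- e ≥ 3
  have he1 : e ≠ 1 := by
    intro he1
    obtain ⟨x, hx1, hxa, hxb⟩ := hpre.two_stab_ne hab
    rw [he1] at he
    have hsub : Subsingleton ↥(stabilizer G a ⊓ stabilizer G b : Subgroup G) :=
      (Nat.card_eq_one_iff_unique.mp he).1
    have hxm : x ∈ (stabilizer G a ⊓ stabilizer G b : Subgroup G) :=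
      ⟨mem_stabilizer_iff.mpr hxa, mem_stabilizer_iff.mpr hxb⟩
    have := Subsingleton.elim (⟨x, hxm⟩ : ↥(stabilizer G a ⊓ stabilizer G b : Subgroup G)) 1
    exact hx1 (congrArg Subtype.val this)
  have he3 : 3 ≤ e := by
    obtain ⟨k, hk⟩ := hodd
    omega
  have hh2 : 2 ≤ h := by omega
  -- the group-theoretic hypotheses
  letI : Fintype ↥(stabilizer G a) := Fintype.ofFinite _
  haveI hKn : (H₀.subgroupOf (stabilizer G a)).Normal := ker_normal a H₀ hHa hHmem
  have hC := ker_hC hpre a H₀ hHa hHmem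
  have hTI : ∀ g : G, g ∉ stabilizer G a → ∀ k ∈ H₀, g * k * g⁻¹ ∈ H₀ → k = 1 :=
    fun g hg k hk hgk => ker_ti a H₀ hHa hHmem hg hk hgk
  have hcardK : Nat.card ↥(H₀.subgroupOf (stabilizer G a)) = h := by
    rw [Nat.card_congr (Subgroup.subgroupOfEquivOfLe hHa).toEquiv, hHh]
  haveI : IsPretransitive G Ω := Helper17.ZassCount.isPretransitive_of_two hZ.2.1 hab
  have hNidx : (stabilizer G a).index = h + 1 := by
    rw [MulAction.index_stabilizer_of_transitive, Nat.card_eq_fintype_card, hh]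
  have hNcard : Nat.card ↥(stabilizer G a) = h * e := by
    have h1 := Subgroup.card_mul_index (stabilizer G a)
    rw [hNidx, hG] at h1
    have : Nat.card ↥(stabilizer G a) * (h + 1) = (h * e) * (h + 1) := by rw [h1]; ring
    exact Nat.eq_of_mul_eq_mul_right (by omega) this
  have hidx : (H₀.subgroupOf (stabilizer G a)).index = e := by
    have h1 := Subgroup.card_mul_index (H₀.subgroupOf (stabilizer G a))
    rw [hcardK, hNcard] at h1
    exact Nat.eq_of_mul_eq_mul_left (by omega) h1
  -- the two-point stabilizer is commutative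
  have hodd' : Odd (Nat.card ↥(stabilizer G a ⊓ stabilizer G b : Subgroup G)) := by
    rw [he]; exact hodd
  have h2G : 2 ∣ Nat.card G := by
    rw [hG]
    exact Dvd.dvd.mul_right (even_iff_two_dvd.mp (Nat.even_mul_succ_self h |> fun hh' => by
      rw [mul_comm]; exact hh')) _
  have hnil : ∀ q : ℕ, q.Prime →
      q ∣ Nat.card ↥(stabilizer G a ⊓ stabilizer G b : Subgroup G) →
      ¬ ∃ M : Subgroup G, M.Normal ∧ M.index = q ^ (Nat.card G).factorization q := by
    rintro q hq hqe ⟨M, hMn, hMidx⟩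
    have hqG : q ∣ Nat.card G := dvd_trans hqe (Subgroup.card_subgroup_dvd_card _)
    rcases hMn.eq_bot_or_eq_top with rfl | rfl
    · rw [Subgroup.index_bot] at hMidx
      rw [hMidx] at h2G
      have h3 : 2 ∣ q := Nat.Prime.dvd_of_dvd_pow Nat.prime_two h2G
      have h4 : q = 2 := ((Nat.prime_dvd_prime_iff_eq Nat.prime_two hq).mp h3).symm
      rw [h4] at hqe
      exact (Nat.not_even_iff_odd.2 hodd') (even_iff_two_dvd.2 hqe)
    · rw [Subgroup.index_top] at hMidx
      have hk : (Nat.card G).factorization q = 0 := by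
        by_contra hk
        have : 1 < q ^ (Nat.card G).factorization q := Nat.one_lt_pow hk hq.one_lt
        omega
      rcases (Nat.factorization_eq_zero_iff _ _).mp hk with h1 | h1 | h1
      · exact h1 hq
      · exact h1 hqG
      · exact (Nat.card_pos (α := G)).ne' h1
  obtain ⟨hcyc, -, -⟩ := hpre.twoStab_main hab hodd' hnil
  have hE : ∀ d ∈ stabilizer G a ⊓ stabilizer G b, ∀ d' ∈ stabilizer G a ⊓ stabilizer G b,
      d * d' = d' * d := by
    intro d hd d' hd'
    letI := IsCyclic.commGroup (α := ↥(stabilizer G a ⊓ stabilizer G b : Subgroup G))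
    have := mul_comm (⟨d, hd⟩ : ↥(stabilizer G a ⊓ stabilizer G b : Subgroup G)) ⟨d', hd'⟩
    exact congrArg Subtype.val this
  have hqcomm := quot_comm a H₀ hHa hHtr hab hE
  have hcomm : ∀ x y : ↥(stabilizer G a),
      x * y * x⁻¹ * y⁻¹ ∈ H₀.subgroupOf (stabilizer G a) := by
    intro x y
    rw [← QuotientGroup.eq_one_iff]
    simp only [QuotientGroup.mk_mul, QuotientGroup.mk_inv]
    rw [hqcomm (QuotientGroup.mk x) (QuotientGroup.mk y)]
    group
  -- linear characters
  have hlin : ∀ ν : ↥(stabilizer G a) → ℂ, IsIrrCharacter ↥(stabilizer G a) ν →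
      (∀ k ∈ H₀.subgroupOf (stabilizer G a), ν k = ν 1) → ν ≠ (fun _ => 1) →
      IsIrrCharacter G (indFun (stabilizer G a) ν) := by
    intro ν hν hker hν1
    have hdeg : ν 1 = 1 := by
      set ν' : {χ : IrrCharacter ↥(stabilizer G a) //
          ∀ n ∈ H₀.subgroupOf (stabilizer G a), (χ : ↥(stabilizer G a) → ℂ) n =
            (χ : ↥(stabilizer G a) → ℂ) 1} := ⟨⟨ν, hν⟩, hker⟩ with hν'
      have h1 := Helper83.irrQuotientEquiv_symm_apply (H₀.subgroupOf (stabilizer G a)) ν' 1
      have h2 := Helper83.irr_degree_one_of_comm hqcomm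
        ((Helper83.irrQuotientEquiv (H₀.subgroupOf (stabilizer G a))).symm ν')
      rw [QuotientGroup.mk_one, h2] at h1
      exact h1.symm
    have hlt' : Nat.card ↥(stabilizer G a ⊓ stabilizer G b : Subgroup G) <
        Fintype.card Ω - 2 := by rw [he, hh]; omega
    exact (Cfsg.Agent.S0881.result hZ hab hodd' hlt' H₀ hHa hHcard' hHfix ν
      ⟨Helper83.isCharacter_of_irr hν, hdeg⟩
      (fun u hu => by rw [hker u (Subgroup.mem_subgroupOf.mpr hu), hdeg]) hν1).1
  -- the permutation character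
  have hperm : ∃ θ : G → ℂ, IsIrrCharacter G θ ∧
      indFun (stabilizer G a) (fun _ : ↥(stabilizer G a) => (1 : ℂ)) = (fun _ => 1) + θ := by
    refine ⟨fun g => (Nat.card (fixedBy Ω g) : ℂ) - 1, ?_, ?_⟩
    · apply (Cfsg.Agent.S0157.result Ω ?_).mpr hZ.2.1
      rw [Nat.card_eq_fintype_card, hh]; omega
    · rw [← Cfsg.Agent.S0190.result Ω a]
      funext g
      simp
  -- class counting
  have havoid := Cfsg.Agent.S0884.result hZ hab h e hh he hodd hlt H₀ hHa hHcard' hHfix
  have hk := FeitCount.class_count (stabilizer G a) H₀ hC hTI hqcomm e havoid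
  -- coherence
  have hH1 : H₀.subgroupOf (stabilizer G a) ≠ ⊥ := by
    intro hh'
    rw [hh', Subgroup.card_bot] at hcardK
    omega
  have hH2 : H₀.subgroupOf (stabilizer G a) ≠ ⊤ := by
    intro hh'
    rw [hh', Subgroup.index_top] at hidx
    omega
  have hne : Nat.card ↥(H₀.subgroupOf (stabilizer G a)) ≠
      (H₀.subgroupOf (stabilizer G a)).index + 1 := by
    rw [hcardK, hidx]; omega
  have hLIO := FeitTI.ind_isLIO (stabilizer G a) H₀ hC hTI
  have hτ1 : ∀ α ∈ zspanOn {χ : ↥(stabilizer G a) → ℂ |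
      FrobRel (H₀.subgroupOf (stabilizer G a)) χ}
      ({1}ᶜ : Set ↥(stabilizer G a)), indFun (stabilizer G a) α 1 = 0 :=
    fun α hα => FeitTI.ind_apply_one _ (mem_zspanOn_compl_one_iff.mp hα).2
  have hcohfalse : IsCoherent {χ : ↥(stabilizer G a) → ℂ |
      IsIrrCharacter ↥(stabilizer G a) χ ∧ ∃ k ∈ H₀.subgroupOf (stabilizer G a), χ k ≠ χ 1}
      {1}ᶜ (indFun (stabilizer G a)) → False := by
    intro hcoh
    obtain ⟨⟨α, hα, hα0⟩, star, hstar, hext⟩ := hcoh
    have htwo := two_of_ne_zero (fun χ hχ => hχ.1) hα hα0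
    exact FeitCore.core_false (stabilizer G a) (H₀.subgroupOf (stabilizer G a)) hC _ rfl star
      hstar hext htwo h e hcardK hidx hG hcomm hlin hperm hk (by omega) hlt
  rcases Cfsg.Agent.S1535.result (H₀.subgroupOf (stabilizer G a)) hH1 hH2 hC hne
    (indFun (stabilizer G a)) hLIO hτ1 with hcoh | ⟨p, hp, ⟨m, hm⟩, hnc, hidx'⟩
  · exact absurd hcoh hcohfalse
  · haveI : Fact p.Prime := ⟨hp⟩
    have hH01 : H₀ ≠ ⊥ := by
      intro h0
      rw [h0, Subgroup.card_bot] at hHh
      omega
    have hKp : IsPGroup p H₀ := IsPGroup.of_card (n := m) (by rw [← hm, hcardK, hHh])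
    rcases sibley_sub (stabilizer G a) H₀ hHa hKn hH01 hH2 hKp.isNilpotent hC hTI with
      h1 | ⟨h2, -⟩ | hcoh
    · exfalso
      rw [hHh, hidx] at h1
      omega
    · refine ⟨IsPGroup.of_card h2, ?_, ?_⟩
      · by_contra hcon
        push Not at hcon
        apply hnc
        refine ⟨⟨fun x y => Subtype.ext (Subtype.ext ?_)⟩⟩
        have := hcon ⟨((x : ↥(stabilizer G a)) : G), x.2⟩ ⟨((y : ↥(stabilizer G a)) : G), y.2⟩
        have h3 := congrArg Subtype.val this
        exact h3
      · rw [Cfsg.Agent.S1534.index_commutator_subgroupOf hHa, subgroupOf_commutator_self,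
          hidx] at hidx'
        exact hidx'
    · exact absurd hcoh hcohfalse

end Simple

section General

universe u v

/-- restriction of the data to a nontrivial normal subgroup -/
theorem restrict_data {G : Type u} {Ω : Type v} [Group G] [Finite G] [MulAction G Ω] [Fintype Ω]
    (hZ : Cfsg.IsZassenhausGroup G Ω) {a : Ω} (b : Ω) (H : Subgroup G)
    (hHa : H ≤ stabilizer G a) (hHfix : ∀ u ∈ H, u ≠ 1 → ∀ c : Ω, u • c = c → c = a)
    (M : Subgroup G) [hMn : M.Normal] (hMbot : M ≠ ⊥) :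
    Cfsg.IsZassenhausGroup ↥M Ω ∧ H ≤ M ∧ H.subgroupOf M ≤ stabilizer ↥M a ∧
      (∀ u ∈ H.subgroupOf M, u ≠ 1 → ∀ c : Ω, u • c = c → c = a) ∧
      Nat.card ↥(stabilizer ↥M a ⊓ stabilizer ↥M b : Subgroup ↥M) ∣
        Nat.card ↥(stabilizer G a ⊓ stabilizer G b : Subgroup G) := by
  have hpre := zpre_of_isZassenhausGroup hZ
  have hzreg := zreg_of_isZassenhausGroup hZ
  have hZM : Cfsg.IsZassenhausGroup ↥M Ω := Cfsg.Agent.S0339.result hZ M hMbot
  have hFx : ∀ u ∈ H, u • a = a := fun u hu => mem_stabilizer_iff.mp (hHa hu)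
  have hFM : H ≤ M := by
    intro u hu
    by_cases hu1 : u = 1
    · rw [hu1]; exact M.one_mem
    · exact hpre.fpf_mem_normal hzreg M hMbot (hFx u hu)
        (fun d hd h => hd (hHfix u hu hu1 d h))
  have hsmul : ∀ (m : ↥M) (c : Ω), m • c = (m : G) • c := fun m c => rfl
  have hF'le : H.subgroupOf M ≤ stabilizer ↥M a := by
    intro u hu
    rw [mem_stabilizer_iff, hsmul]
    exact hFx _ (Subgroup.mem_subgroupOf.mp hu)
  have hfix' : ∀ u ∈ H.subgroupOf M, u ≠ 1 → ∀ c : Ω, u • c = c → c = a := by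
    intro u hu hu1 c hc
    rw [hsmul] at hc
    exact hHfix (u : G) (Subgroup.mem_subgroupOf.mp hu) (fun h => hu1 (Subtype.ext h)) c hc
  have hmem : ∀ m : ↥(stabilizer ↥M a ⊓ stabilizer ↥M b : Subgroup ↥M),
      (((m : ↥M)) : G) ∈ (stabilizer G a ⊓ stabilizer G b : Subgroup G) := by
    intro m
    obtain ⟨h1, h2⟩ := Subgroup.mem_inf.mp m.2
    rw [Subgroup.mem_inf, mem_stabilizer_iff, mem_stabilizer_iff, ← hsmul, ← hsmul]
    exact ⟨mem_stabilizer_iff.mp h1, mem_stabilizer_iff.mp h2⟩
  let φ : ↥(stabilizer ↥M a ⊓ stabilizer ↥M b : Subgroup ↥M) →*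
      ↥(stabilizer G a ⊓ stabilizer G b : Subgroup G) :=
    { toFun := fun m => ⟨((m : ↥M) : G), hmem m⟩
      map_one' := rfl
      map_mul' := fun _ _ => rfl }
  have hφ : Function.Injective φ := by
    intro m m' h
    have h3 := congrArg Subtype.val h
    have h4 : (((m : ↥M)) : G) = (((m' : ↥M)) : G) := h3
    exact Subtype.ext (Subtype.ext h4)
  exact ⟨hZM, hFM, hF'le, hfix', Subgroup.card_dvd_of_injective φ hφ⟩

/-- the induction for Feit's theorem -/
theorem feit_aux {Ω : Type v} [Fintype Ω] {a b : Ω} (hab : a ≠ b) (n : ℕ) :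
    ∀ (G : Type u) [Group G] [Finite G] [MulAction G Ω], Nat.card G = n →
      Cfsg.IsZassenhausGroup G Ω →
      Odd (Nat.card ↥(stabilizer G a ⊓ stabilizer G b : Subgroup G)) →
      ∀ H : Subgroup G, H ≤ stabilizer G a → Nat.card H + 1 = Fintype.card Ω →
      (∀ u ∈ H, u ≠ 1 → ∀ c : Ω, u • c = c → c = a) →
      Fintype.card Ω - 2 ≤ 2 * Nat.card ↥(stabilizer G a ⊓ stabilizer G b : Subgroup G) ∨
      (IsPGroup 2 H ∧ (∃ u v : H, u * v ≠ v * u) ∧ (commutator H).index ≤
        4 * (Nat.card ↥(stabilizer G a ⊓ stabilizer G b : Subgroup G)) ^ 2 + 1) := by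
  induction n using Nat.strong_induction_on with
  | _ n ih =>
    intro G _ _ _ hn hZ hodd H hHa hHcard hHfix
    by_cases hle : Fintype.card Ω - 2 ≤
        2 * Nat.card ↥(stabilizer G a ⊓ stabilizer G b : Subgroup G)
    · exact Or.inl hle
    by_cases hs : IsSimpleGroup G
    · right
      letI : Fintype G := Fintype.ofFinite G
      have hpos : 0 < Fintype.card Ω := Fintype.card_pos_iff.mpr ⟨a⟩
      exact simple_case hZ hab (Fintype.card Ω - 1) _ (by omega) rfl hodd (by omega) H hHa hHcard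
        hHfix
    have hpre := zpre_of_isZassenhausGroup hZ
    have hnt : Nontrivial G := by
      obtain ⟨g, hg1, -⟩ := hpre.two
      exact ⟨⟨g, 1, hg1⟩⟩
    obtain ⟨M, hMn, hMbot, hMtop⟩ : ∃ M : Subgroup G, M.Normal ∧ M ≠ ⊥ ∧ M ≠ ⊤ := by
      by_contra hcon
      push Not at hcon
      apply hs
      refine ⟨fun K hK => ?_⟩
      by_cases hb : K = ⊥
      · exact Or.inl hb
      · exact Or.inr (hcon K hK hb)
    haveI := hMn
    obtain ⟨hZM, hHM, hH'le, hfix', hdvd⟩ := restrict_data hZ b H hHa hHfix M hMbot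
    have hlt : Nat.card ↥M < n := by
      rw [← hn]
      by_contra hge
      push Not at hge
      exact hMtop (Subgroup.eq_top_of_le_card M hge)
    have hodd' : Odd (Nat.card ↥(stabilizer ↥M a ⊓ stabilizer ↥M b : Subgroup ↥M)) :=
      Odd.of_dvd_nat hodd hdvd
    have hle' : Nat.card ↥(stabilizer ↥M a ⊓ stabilizer ↥M b : Subgroup ↥M) ≤
        Nat.card ↥(stabilizer G a ⊓ stabilizer G b : Subgroup G) :=
      Nat.le_of_dvd Nat.card_pos hdvd
    have hcard' : Nat.card ↥(H.subgroupOf M) + 1 = Fintype.card Ω := by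
      rw [Nat.card_congr (Subgroup.subgroupOfEquivOfLe hHM).toEquiv]
      exact hHcard
    rcases ih (Nat.card ↥M) hlt ↥M rfl hZM hodd' (H.subgroupOf M) hH'le hcard' hfix' with
      h1 | ⟨hp2, ⟨u, v, huv⟩, hidx⟩
    · left
      omega
    · right
      refine ⟨hp2.of_equiv (Subgroup.subgroupOfEquivOfLe hHM), ?_, ?_⟩
      · refine ⟨Subgroup.subgroupOfEquivOfLe hHM u, Subgroup.subgroupOfEquivOfLe hHM v, ?_⟩
        intro h
        apply huv
        apply (Subgroup.subgroupOfEquivOfLe hHM).injective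
        rw [map_mul, map_mul]
        exact h
      · have h1 : (commutator ↥H).index = (commutator ↥(H.subgroupOf M)).index := by
          rw [Subgroup.index_eq_card, Subgroup.index_eq_card]
          exact Nat.card_congr
            (Subgroup.subgroupOfEquivOfLe hHM).symm.abelianizationCongr.toEquiv
        rw [h1]
        refine hidx.trans ?_
        have := Nat.pow_le_pow_left hle' 2
        omega

end General


/-- Let G be a finite Zassenhaus group on Ω with h + 1 points whose two-point stabilizer E has odd order e, and let H be the subgroup of the stabilizer of a consisting of the identity and the elements fixing no point other than a (given here as a subgroup of the stabilizer of order one less than the number of points whose non-identity elements fix only a; it is the Frobenius kernel of the stabilizer). Then either h - 1 ≤ 2 * e, or H is a non-abelian 2-group whose commutator subgroup has index at most 4 * e ^ 2 + 1 in H. -/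
theorem result {G Ω : Type*} [Group G] [Finite G] [MulAction G Ω] [Fintype Ω] (hZ : Cfsg.IsZassenhausGroup G Ω) {a b : Ω} (hab : a ≠ b) (h e : ℕ) (hh : Fintype.card Ω = h + 1) (he : Nat.card ↥(MulAction.stabilizer G a ⊓ MulAction.stabilizer G b : Subgroup G) = e) (hodd : Odd e) (H : Subgroup G) (hHa : H ≤ MulAction.stabilizer G a) (hHcard : Nat.card H + 1 = Fintype.card Ω) (hHfix : ∀ u ∈ H, u ≠ 1 → ∀ c : Ω, u • c = c → c = a) : h - 1 ≤ 2 * e ∨ (IsPGroup 2 H ∧ (∃ u v : H, u * v ≠ v * u) ∧ (commutator H).index ≤ 4 * e ^ 2 + 1) := by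
  subst he
  rcases feit_aux hab (Nat.card G) G rfl hZ hodd H hHa hHcard hHfix with h1 | h1
  · left
    rw [hh] at h1
    omega
  · exact Or.inr h1

end Cfsg.Agent.S0885
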