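import Cfsg.Statements.S0889
import Mathlib
import Cfsg.Agent.Lib.Helper83.Berger6

set_option autoImplicit false
open Cfsg

namespace Cfsg.Agent.S0889

open scoped ComplexConjugate
open Cfsg.Agent.Lib.Helper83 Cfsg.Agent.Lib.Helper85

universe u

/-- Quasi-primitivity: homogeneous restriction to every normal subgroup. -/
def QP (G : Type u) [Group G] (χ : G → ℂ) : Prop :=
  ∀ (N : Subgroup G), N.Normal → ∃ (ϑ : N → ℂ) (e : ℕ), Cfsg.IsIrrCharacter N ϑ ∧
    (fun n : N => χ n) = (e : ℂ) • ϑ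

/-- Primitivity: not induced from a character of a proper subgroup. -/
def Prim (G : Type u) [Group G] [Fintype G] (χ : G → ℂ) : Prop :=
  ∀ (K : Subgroup G), K ≠ ⊤ → ∀ ψ : K → ℂ, Cfsg.IsCharacter K ψ → Cfsg.indFun K ψ ≠ χ

/-- The induction hypothesis: Berger's theorem for characters of degree less than `n`. -/
def IHT (n : ℕ) : Prop :=
  ∀ m < n, ∀ (G : Type u) [Group G] [Fintype G] [Group.IsSolvable G] (χ : G → ℂ),
    Cfsg.IsIrrCharacter G χ → QP G χ → χ 1 = (m : ℂ) → Prim G χ

/-- Reduction to a linear constituent on the core. -/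
theorem step2 (n : ℕ) (IH : IHT.{u} n) {G : Type u} [Group G] [Fintype G] [Group.IsSolvable G]
    {χ : G → ℂ} (hχ : Cfsg.IsIrrCharacter G χ) (hqp : QP G χ) (hn : χ 1 = (n : ℂ))
    (H : Subgroup G) (hH : H ≠ ⊤) (L : Subgroup G) [hLn : L.Normal] (hLH : L ≤ H)
    (ψ : H → ℂ) (hψ : Cfsg.IsIrrCharacter H ψ) (hind : Cfsg.indFun H ψ = χ)
    (φ : L → ℂ) (hφ : Cfsg.IsIrrCharacter L φ) (eL : ℕ)
    (hφe : (fun x : L => χ x) = (eL : ℂ) • φ) (b : ℕ)
    (hψL : (fun x : L => ψ ⟨x, hLH x.2⟩) = (b : ℂ) • φ) : φ 1 = 1 := by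
  classical
  by_contra hne
  obtain ⟨d, Θ, hΘirr, rfl⟩ := hφ
  have := hΘirr
  have : Fintype L := Fintype.ofFinite _
  have hd1 : d ≠ 1 := by
    rintro rfl
    apply hne
    rw [Representation.char_one, Module.finrank_fin_fun]
    simp
  have hχ1 : χ 1 ≠ 0 := irr_degree_ne_zero (⟨χ, hχ⟩ : Cfsg.IrrCharacter G)
  have hdeg : χ 1 = (eL : ℂ) * (d : ℂ) := by
    have := congrFun hφe 1
    simp only [Pi.smul_apply, smul_eq_mul] at this
    rw [Representation.char_one, Module.finrank_fin_fun] at this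
    exact this
  have hnat : eL * d = n := by
    rw [hn] at hdeg
    exact_mod_cast hdeg.symm
  have hn0 : n ≠ 0 := by
    rintro rfl
    rw [Nat.cast_zero] at hn
    exact hχ1 hn
  have hlt : eL < n := by
    have hd0 : d ≠ 0 := by
      rintro rfl
      rw [mul_zero] at hnat
      exact hn0 hnat.symm
    have he0 : eL ≠ 0 := by
      rintro rfl
      rw [zero_mul] at hnat
      exact hn0 hnat.symm
    have hd2 : 2 ≤ d := by omega
    calc eL < eL * 2 := by omega
      _ ≤ eL * d := Nat.mul_le_mul_left _ hd2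
      _ = n := hnat
  obtain ⟨β, hβ1, hβ⟩ := exists_lift_factor L hχ Θ eL hφe
  have hinv := character_invariant_of_restrict L hχ Θ eL hφe
  have hfin : Finite (liftGroup L Θ) := liftGroup_finite L Θ hinv
  have : Fintype (liftGroup L Θ) := Fintype.ofFinite _
  have hsurj := liftProj_surjective L Θ hinv
  have : Group.IsSolvable (liftGroup L Θ) :=
    isSolvable_of_ker_le_center (liftProj L Θ) (liftProj_ker_le_center L Θ)
  have hqpβ := qp_lift L Θ hχ hqp hinv β hβ
  obtain ⟨ψ₁, hψ₁, hindψ₁⟩ := induced_lift L Θ hinv β hβ H hLH ψ hψ hind (b : ℂ)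
    (fun n => congrFun hψL n)
  have hβirr : Cfsg.IsIrrCharacter (liftGroup L Θ)
      (fun γ => (β : liftGroup L Θ ⧸ liftN L Θ → ℂ) (QuotientGroup.mk γ)) :=
    isIrrCharacter_inflate (liftN L Θ) β.2
  have hne' : H.comap (liftProj L Θ) ≠ ⊤ := by
    intro h
    apply hH
    apply Subgroup.comap_injective hsurj
    rw [h, Subgroup.comap_top]
  exact IH eL hlt (liftGroup L Θ) _ hβirr hqpβ hβ1 (H.comap (liftProj L Θ)) hne' ψ₁ hψ₁ hindψ₁

/-- The induced character vanishes on `K` off the core. -/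
theorem vanish_off_core {G : Type u} [Group G] [Fintype G] (H K : Subgroup G) [K.Normal]
    (ϑ : H → ℂ) (hKHinf : K ⊓ H ≤ H.normalCore) (x : G) (hxK : x ∈ K) (hx : x ∉ H.normalCore) :
    Cfsg.indFun H ϑ x = 0 := by
  rw [Cfsg.Agent.Lib.Helper04.indFun_apply]
  have h0 : ∀ g : G, Cfsg.extendByZero H ϑ (g⁻¹ * x * g) = 0 := by
    intro g
    apply Cfsg.Agent.Lib.Helper04.extendByZero_apply_not_mem
    intro hc
    apply hx
    have h1 : g⁻¹ * x * g ∈ K := by
      have := Subgroup.Normal.conj_mem (inferInstance : K.Normal) x hxK g⁻¹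
      rwa [inv_inv] at this
    have h2 : g⁻¹ * x * g ∈ H.normalCore := hKHinf ⟨h1, hc⟩
    have h3 := Subgroup.Normal.conj_mem (inferInstance : (H.normalCore).Normal) _ h2 g
    have : g * (g⁻¹ * x * g) * g⁻¹ = x := by group
    rwa [this] at h3
  simp only [h0, Finset.sum_const_zero, mul_zero]

/-- The norm computation on `K`. -/
theorem norm_K {G : Type u} [Group G] [Fintype G] (K L : Subgroup G) (hLK : L ≤ K) (χ : G → ℂ)
    (hvan : ∀ x ∈ K, x ∉ L → χ x = 0)
    (φ : L → ℂ) (hφ : Cfsg.IsIrrCharacter L φ) (r : ℕ)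
    (hval : ∀ (x : G) (hx : x ∈ L), χ x = (r : ℂ) * φ ⟨x, hx⟩)
    (θ : K → ℂ) (a : ℕ) (hθ : Cfsg.IsIrrCharacter K θ)
    (hθa : (fun k : K => χ k) = (a : ℂ) • θ) :
    a ^ 2 * Nat.card K = r ^ 2 * Nat.card L := by
  classical
  have : Fintype K := Fintype.ofFinite _
  have : Fintype L := Fintype.ofFinite _
  have hn1 : Cfsg.classInner (fun k : K => χ k) (fun k : K => χ k) = (a : ℂ) ^ 2 := by
    rw [hθa, classInner_smul_left, classInner_smul_right,
      irr_inner_self (⟨θ, hθ⟩ : Cfsg.IrrCharacter K)]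
    simp
    ring
  have hφn : ∑ z : L, φ z * conj (φ z) = (Nat.card L : ℂ) := by
    have h1 := irr_inner_self (⟨φ, hφ⟩ : Cfsg.IrrCharacter L)
    rw [classInner_def] at h1
    have hc : (Nat.card L : ℂ) ≠ 0 := card_ne_zero_complex
    field_simp at h1
    exact h1
  have hn2 : Cfsg.classInner (fun k : K => χ k) (fun k : K => χ k) =
      (Nat.card K : ℂ)⁻¹ * ((r : ℂ) ^ 2 * (Nat.card L : ℂ)) := by
    rw [classInner_def]
    congr 1
    rw [sum_subgroup_of_support hLK (fun s : K => χ s * conj (χ s))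
      (fun s hs => by
        change χ s * conj (χ s) = 0
        have h0 : χ s = 0 := hvan s s.2 hs
        rw [h0, zero_mul])]
    rw [← hφn, Finset.mul_sum]
    apply Finset.sum_congr rfl
    intro z _
    simp only
    rw [hval z z.2, map_mul, Complex.conj_natCast]
    ring
  rw [hn1] at hn2
  have hc : (Nat.card K : ℂ) ≠ 0 := card_ne_zero_complex
  have h3 : (a : ℂ) ^ 2 * (Nat.card K : ℂ) = (r : ℂ) ^ 2 * (Nat.card L : ℂ) := by
    rw [hn2]
    field_simp
  exact_mod_cast h3

/-- The case of a linear constituent on the core. -/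
theorem step3 (n : ℕ) (IH : IHT.{u} n) {G : Type u} [Group G] [Fintype G] [Group.IsSolvable G]
    {χ : G → ℂ} (hχ : Cfsg.IsIrrCharacter G χ) (hqp : QP G χ) (hn : χ 1 = (n : ℂ))
    (H : Subgroup G) (hmax : IsCoatom H)
    (ψ : H → ℂ) (hψ : Cfsg.IsIrrCharacter H ψ) (hind : Cfsg.indFun H ψ = χ)
    (φ : H.normalCore → ℂ) (hφ : Cfsg.IsIrrCharacter H.normalCore φ) (hφ1 : φ 1 = 1) (eL : ℕ)
    (hφe : (fun x : H.normalCore => χ x) = (eL : ℂ) • φ) (b : ℕ)
    (hψL : (fun x : H.normalCore => ψ ⟨x, H.normalCore_le x.2⟩) = (b : ℂ) • φ) : False := by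
  classical
  have hLH : H.normalCore ≤ H := H.normalCore_le
  have hLn : (H.normalCore).Normal := inferInstance
  have : Fintype H := Fintype.ofFinite _
  have hχc := isCharacter_of_irr hχ
  have hχ1 : χ 1 ≠ 0 := irr_degree_ne_zero (⟨χ, hχ⟩ : Cfsg.IrrCharacter G)
  have hψ1 : ψ 1 ≠ 0 := irr_degree_ne_zero (⟨ψ, hψ⟩ : Cfsg.IrrCharacter H)
  have hψb : ψ 1 = (b : ℂ) := by
    have := congrFun hψL 1
    simp only [Pi.smul_apply, smul_eq_mul, hφ1, mul_one] at this
    exact this
  have hb0 : b ≠ 0 := by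
    rintro rfl
    rw [Nat.cast_zero] at hψb
    exact hψ1 hψb
  have hb0' : (b : ℂ) ≠ 0 := by exact_mod_cast hb0
  have hχidx : χ 1 = (H.index : ℂ) * (b : ℂ) := by
    rw [← hind, Cfsg.Agent.Lib.Helper85.indFun_apply_one H ψ, hψb]
  have heL : (eL : ℂ) = (H.index : ℂ) * (b : ℂ) := by
    have := congrFun hφe 1
    simp only [Pi.smul_apply, smul_eq_mul, hφ1, mul_one] at this
    rw [← this]
    exact hχidx
  have hval : ∀ (x : G) (hx : x ∈ H.normalCore),
      χ x = ((H.index * b : ℕ) : ℂ) * φ ⟨x, hx⟩ := by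
    intro x hx
    have := congrFun hφe ⟨x, hx⟩
    simp only [Pi.smul_apply, smul_eq_mul] at this
    rw [this, heL]
    push_cast
    ring
  have hψval : ∀ (x : G) (hx : x ∈ H.normalCore), ψ ⟨x, hLH hx⟩ = (b : ℂ) * φ ⟨x, hx⟩ := by
    intro x hx
    exact congrFun hψL ⟨x, hx⟩
  by_cases hHL : H ≤ H.normalCore
  · -- `H` is normal: impossible
    have hfrob := Cfsg.Agent.Lib.Helper04.frobenius_reciprocity H ψ χ (char_isClassFunction hχc)
    rw [hind, irr_inner_self (⟨χ, hχ⟩ : Cfsg.IrrCharacter G)] at hfrob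
    have hχH : (fun h : H => χ h) = (H.index : ℂ) • ψ := by
      funext h
      simp only [Pi.smul_apply, smul_eq_mul]
      rw [hval h (hHL h.2)]
      have := hψval h (hHL h.2)
      rw [show (⟨(h : G), hLH (hHL h.2)⟩ : H) = h from rfl] at this
      rw [this]
      push_cast
      ring
    rw [hχH, classInner_smul_right, irr_inner_self (⟨ψ, hψ⟩ : Cfsg.IrrCharacter H), mul_one,
      Complex.conj_natCast] at hfrob
    have h1 : H.index = 1 := by exact_mod_cast hfrob.symm
    exact hmax.1 (Subgroup.index_eq_one.1 h1)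
  · -- the main case
    have hsolv' : Group.IsSolvable (G ⧸ H.normalCore) := inferInstance
    obtain ⟨p, q, m, j, K, N, hp, hq, hpq, hKn, hLK, hKH, hKcomm, hKcard, hLN, hNH, hNL, hNnorm,
      hNcard⟩ := exists_chief_setup hmax hsolv' hHL
    haveI := hKn
    have hKHinf := inf_le_normalCore_of_comm hmax K hKH hKcomm
    have htop := sup_eq_top_of_isCoatom hmax K hKH
    obtain ⟨θ, a, hθ, hθa⟩ := hqp K hKn
    have hvan : ∀ x ∈ K, x ∉ H.normalCore → χ x = 0 := by
      intro x hxK hx
      rw [← hind]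
      exact vanish_off_core H K ψ hKHinf x hxK hx
    have hnorm := norm_K K H.normalCore hLK χ hvan φ hφ (H.index * b) hval θ a hθ hθa
    have hL₀pos : 0 < Nat.card H.normalCore := Nat.card_pos
    have hHpos : 0 < Nat.card H := Nat.card_pos
    have hidx : H.index * Nat.card H.normalCore = Nat.card K := by
      have h1 := card_sup_mul_card_inf_of_le_normalizer K H Subgroup.le_normalizer_of_normal
      have h2 : K ⊓ H = H.normalCore := le_antisymm hKHinf (le_inf hLK hLH)
      rw [sup_comm, htop, h2, Subgroup.card_top, ← Subgroup.card_mul_index H] at h1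
      have h3 : Nat.card H * (H.index * Nat.card H.normalCore) = Nat.card H * Nat.card K := by
        rw [← mul_assoc, h1, mul_comm]
      exact Nat.eq_of_mul_eq_mul_left hHpos h3
    have hidxpos : 0 < H.index := by
      rcases Nat.eq_zero_or_pos H.index with h | h
      · rw [h, zero_mul] at hidx
        have : 0 < Nat.card K := Nat.card_pos
        omega
      · exact h
    have ha2 : a ^ 2 = H.index * b ^ 2 := by
      rw [← hidx] at hnorm
      have h1 : (a ^ 2) * (H.index * Nat.card H.normalCore) =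
          (H.index * b ^ 2) * (H.index * Nat.card H.normalCore) := by
        rw [hnorm]; ring
      exact Nat.eq_of_mul_eq_mul_right (Nat.mul_pos hidxpos hL₀pos) h1
    have hidxp : H.index = p ^ m := by
      rw [hKcard, mul_comm] at hidx
      exact Nat.eq_of_mul_eq_mul_left hL₀pos hidx
    -- `a = b e` with `e² = |G : H|`
    have hba : b ∣ a := by
      have : b ^ 2 ∣ a ^ 2 := ⟨H.index, by rw [ha2]; ring⟩
      exact (Nat.pow_dvd_pow_iff two_ne_zero).1 this
    obtain ⟨e, rfl⟩ := hba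
    have he2 : e ^ 2 = H.index := by
      have h1 : b ^ 2 * e ^ 2 = b ^ 2 * H.index := by
        rw [← mul_pow, ha2]; ring
      exact Nat.eq_of_mul_eq_mul_left (by positivity) h1
    have hidx1 : H.index ≠ 1 := fun h => hmax.1 (Subgroup.index_eq_one.1 h)
    have he0 : e ≠ 0 := by
      rintro rfl
      rw [← he2] at hidxpos
      simp at hidxpos
    have he1 : e ≠ 1 := by
      rintro rfl
      exact hidx1 (by rw [← he2]; rfl)
    have he2' : 2 ≤ e := by omega
    have hnat : n = e ^ 2 * b := by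
      have : (n : ℂ) = ((e ^ 2 * b : ℕ) : ℂ) := by
        rw [← hn, hχidx, ← he2]
        push_cast
        ring
      exact_mod_cast this
    have hlt : b * e < n := by
      rw [hnat]
      have h1 : b * e * 2 ≤ b * e * e := Nat.mul_le_mul_left _ he2'
      have h2 : 0 < b * e := Nat.mul_pos (Nat.pos_of_ne_zero hb0) (Nat.pos_of_ne_zero he0)
      have h3 : e ^ 2 * b = b * e * e := by ring
      omega
    have he0' : (e : ℂ) ≠ 0 := by exact_mod_cast he0
    have hidxe : (H.index : ℂ) = (e : ℂ) * (e : ℂ) := by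
      rw [← he2]
      push_cast
      ring
    -- values of `θ`
    have hθval : ∀ k : K, χ k = ((b * e : ℕ) : ℂ) * θ k := by
      intro k
      exact congrFun hθa k
    have hθL : ∀ (x : G) (hx : x ∈ H.normalCore), θ ⟨x, hLK hx⟩ = (e : ℂ) * φ ⟨x, hx⟩ := by
      intro x hx
      have h1 := hθval ⟨x, hLK hx⟩
      rw [hval x hx] at h1
      push_cast at h1
      rw [hidxe] at h1
      have h2 : (b : ℂ) * (e : ℂ) * ((e : ℂ) * φ ⟨x, hx⟩) = (b : ℂ) * (e : ℂ) * θ ⟨x, hLK hx⟩ := by
        rw [← h1]; ring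
      exact (mul_left_cancel₀ (mul_ne_zero hb0' he0') h2).symm
    have hθ1 : θ 1 = (e : ℂ) := by
      have := hθL 1 (Subgroup.one_mem _)
      rw [show (⟨(1 : G), Subgroup.one_mem _⟩ : H.normalCore) = 1 from rfl, hφ1, mul_one] at this
      exact this
    have hθvan : ∀ k : K, (k : G) ∉ H.normalCore → θ k = 0 := by
      intro k hk
      have h1 := hθval k
      rw [hvan k k.2 hk] at h1
      rcases mul_eq_zero.1 h1.symm with h | h
      · exfalso
        have : (b * e : ℕ) ≠ 0 := Nat.mul_ne_zero hb0 he0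
        exact this (by exact_mod_cast h)
      · exact h
    -- the lifting group of `(G, K, θ)`
    obtain ⟨d, Θ, hΘirr, rfl⟩ := hθ
    have := hΘirr
    have : Fintype K := Fintype.ofFinite _
    have hde : d = e := by
      rw [Representation.char_one, Module.finrank_fin_fun] at hθ1
      exact_mod_cast hθ1
    subst hde
    have hsup : ∀ g : G, ∃ k ∈ K, ∃ h ∈ H, k * h = g := exists_mul_of_sup_eq_top K H htop
    obtain ⟨β, hβ1, hβ⟩ := exists_lift_factor K hχ Θ (b * d) hθa
    have hinv := character_invariant_of_restrict K hχ Θ (b * d) hθa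
    have hfin : Finite (liftGroup K Θ) := liftGroup_finite K Θ hinv
    have : Fintype (liftGroup K Θ) := Fintype.ofFinite _
    have hsurj := liftProj_surjective K Θ hinv
    have : Group.IsSolvable (liftGroup K Θ) :=
      isSolvable_of_ker_le_center (liftProj K Θ) (liftProj_ker_le_center K Θ)
    have hqpβ := qp_lift K Θ hχ hqp hinv β hβ
    have hdec := exists_mul_liftN_of_supplement K Θ H hsup
    have hqpH := qp_restrict_supplement K Θ (H.comap (liftProj K Θ)) hdec β hqpβ
    have hξ := lift_restrict_irr K Θ H hsup β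
    have : Fintype (H.comap (liftProj K Θ)) := Fintype.ofFinite _
    have hprim : Prim (H.comap (liftProj K Θ))
        (fun y : H.comap (liftProj K Θ) => (β : liftGroup K Θ ⧸ liftN K Θ → ℂ)
          (QuotientGroup.mk (y : liftGroup K Θ))) :=
      IH (b * d) hlt _ _ hξ hqpH hβ1
    have hdeg : (β : liftGroup K Θ ⧸ liftN K Θ → ℂ) 1 = (d : ℂ) * ψ 1 := by
      rw [hβ1, hψb]
      push_cast
      ring
    have htensor := lift_restrict_eq_tensor K Θ H hinv hsup hχ β hβ ψ hψ hind hdeg
    have hω : Cfsg.IsIrrCharacter (liftGroup K Θ) (liftRep K Θ).character :=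
      isIrrCharacter_of_rep (liftRep K Θ) (liftRep_irreducible K Θ)
    have hωc : Cfsg.IsCharacter (H.comap (liftProj K Θ))
        (fun y : H.comap (liftProj K Θ) => (liftRep K Θ).character (y : liftGroup K Θ)) :=
      isCharacter_restrict _ (isCharacter_of_irr hω)
    have hψ'c : Cfsg.IsCharacter (H.comap (liftProj K Θ))
        (fun y : H.comap (liftProj K Θ) => ψ ⟨liftProj K Θ y, y.2⟩) :=
      isCharacter_comp_hom
        (((liftProj K Θ).comp (H.comap (liftProj K Θ)).subtype).codRestrict H (fun y => y.2))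
        (isCharacter_of_irr hψ)
    have hωirr := isIrr_of_tensor_isIrr hξ hωc hψ'c htensor
    -- the preimage of `N`
    have hNH' : N.comap (liftProj K Θ) ≤ H.comap (liftProj K Θ) := Subgroup.comap_mono hNH
    have hN'n : ((N.comap (liftProj K Θ)).subgroupOf (H.comap (liftProj K Θ))).Normal := by
      constructor
      intro x hx y
      rw [Subgroup.mem_subgroupOf] at hx ⊢
      have h1 : liftProj K Θ ((y * x * y⁻¹ : H.comap (liftProj K Θ)) : liftGroup K Θ) =
          liftProj K Θ y * liftProj K Θ x * (liftProj K Θ y)⁻¹ := by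
        simp
      rw [Subgroup.mem_comap, h1]
      exact hNnorm _ y.2 _ hx
    obtain ⟨ν₀, c, hν₀, hν₀c⟩ := homog_of_primitive_tensor hprim hωirr hψ'c htensor _ hN'n
    have hν := Cfsg.Agent.Lib.Helper84.isIrrCharacter_comp_mulEquiv
      (Subgroup.subgroupOfEquivOfLe hNH').symm hν₀
    have hc : (fun n : N.comap (liftProj K Θ) => (liftRep K Θ).character (n : liftGroup K Θ)) =
        (c : ℂ) • (fun x => ν₀ ((Subgroup.subgroupOfEquivOfLe hNH').symm x)) := by
      funext x
      exact congrFun hν₀c ((Subgroup.subgroupOfEquivOfLe hNH').symm x)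
    -- the core acts by scalars
    have hLs : ∀ (l : G) (hl : l ∈ H.normalCore), ∃ c : ℂ,
        Θ ⟨l, hLK hl⟩ = c • (LinearMap.id : (Fin d → ℂ) →ₗ[ℂ] (Fin d → ℂ)) := by
      intro l hl
      apply (Cfsg.Agent.Lib.Helper04.norm_char_eq_iff Θ ⟨l, hLK hl⟩).1
      rw [hθL l hl, norm_mul, norm_eq_one_of_linear hφ hφ1, mul_one, Module.finrank_fin_fun]
      simp
    have hrel : (H.normalCore).relIndex N = q ^ j := by
      have h3 := Cfsg.Agent.Lib.Helper20.relIndex_mul_card_of_le hLN
      rw [hNcard] at h3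
      have h4 : (H.normalCore).relIndex N * Nat.card H.normalCore =
          q ^ j * Nat.card H.normalCore := by rw [h3]; ring
      exact Nat.eq_of_mul_eq_mul_right hL₀pos h4
    have hcop : ∀ s : ℕ, s ∣ d → s ∣ (H.normalCore).relIndex N → s = 1 := by
      intro s h1 h2
      have h3 : s ∣ p ^ m := by
        rw [← hidxp, ← he2]
        exact h1.trans (dvd_pow_self d two_ne_zero)
      rw [hrel] at h2
      have hcop' : Nat.Coprime (p ^ m) (q ^ j) :=
        Nat.Coprime.pow _ _ ((Nat.coprime_primes hp hq).2 hpq)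
      exact Nat.eq_one_of_dvd_coprimes hcop' h3 h2
    have hconj := lift_conj_eq K Θ hinv N H.normalCore hLK hLs hν c hc hcop
    -- conclusion: `N` centralizes `K` modulo the core
    have key : ∀ (x : G), x ∈ N → ∀ k' : K,
        (x * (k' : G) * x⁻¹ * (k' : G)⁻¹ : G) ∈ H.normalCore := by
      intro x hx k'
      by_contra hnot
      have h1 : Θ (MulAut.conjNormal x k' * k'⁻¹) = LinearMap.id := by
        rw [map_mul, hconj x hx k', ← map_mul, mul_inv_cancel, map_one]
        rfl
      have h2 : Θ.character (MulAut.conjNormal x k' * k'⁻¹) = (d : ℂ) := by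
        change LinearMap.trace ℂ _ (Θ (MulAut.conjNormal x k' * k'⁻¹)) = (d : ℂ)
        rw [h1]
        simp
      have h3 := hθvan (MulAut.conjNormal x k' * k'⁻¹) (by
        have : ((MulAut.conjNormal x k' * k'⁻¹ : K) : G) = x * (k' : G) * x⁻¹ * (k' : G)⁻¹ := by
          simp [MulAut.conjNormal_apply]
        rw [this]
        exact hnot)
      rw [h2] at h3
      exact he0' h3
    apply hNL
    intro x hx
    apply mem_normalCore_of_centralizes hmax K hKH (hNH hx)
    intro k hk
    have h1 := key x hx ⟨k⁻¹, K.inv_mem hk⟩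
    have h2 := hLn.conj_mem _ h1 k
    have h3 : k * (x * ((⟨k⁻¹, K.inv_mem hk⟩ : K) : G) * x⁻¹ * ((⟨k⁻¹, K.inv_mem hk⟩ : K) : G)⁻¹) * k⁻¹
        = k * x * k⁻¹ * x⁻¹ := by
      simp only
      group
    rw [h3] at h2
    exact h2

/-- Berger's theorem, by induction on the degree. -/
theorem berger_aux : ∀ n : ℕ, ∀ (G : Type u) [Group G] [Fintype G] [Group.IsSolvable G]
    (χ : G → ℂ), Cfsg.IsIrrCharacter G χ → QP G χ → χ 1 = (n : ℂ) → Prim G χ := by
  intro n
  induction n using Nat.strong_induction_on with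
  | _ n IH =>
    intro G _ _ _ χ hχ hqp hn K₀ hK₀ ψ₀ hψ₀ hind₀
    classical
    have IH' : IHT.{u} n := fun m hm G _ _ _ χ hχ hqp hdeg => IH m hm G χ hχ hqp hdeg
    obtain ⟨H, hmax, hK₀H⟩ := (eq_top_or_exists_le_coatom K₀).resolve_left hK₀
    have : Fintype H := Fintype.ofFinite _
    set ψ : H → ℂ := Cfsg.indFun (K₀.subgroupOf H)
      (fun x => ψ₀ ⟨(x : H), Subgroup.mem_subgroupOf.mp x.2⟩) with hψdef
    have hindψ : Cfsg.indFun H ψ = χ := by
      rw [hψdef, Cfsg.Agent.Lib.Helper04.indFun_trans K₀ H hK₀H ψ₀]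
      exact hind₀
    have hψc : Cfsg.IsCharacter H ψ :=
      Cfsg.Agent.Lib.Helper34.isCharacter_indFun _
        (isCharacter_comp_hom (Subgroup.subgroupOfEquivOfLe hK₀H).toMonoidHom hψ₀)
    have hψ : Cfsg.IsIrrCharacter H ψ :=
      isIrr_of_indFun_isIrr H hψc (by rw [hindψ]; exact hχ)
    have hLH : H.normalCore ≤ H := H.normalCore_le
    obtain ⟨φ, eL, hφ, hφe⟩ := hqp H.normalCore inferInstance
    have hχc := isCharacter_of_irr hχ
    have hχH : Cfsg.IsCharacter H (fun h : H => χ h) := isCharacter_restrict H hχc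
    have hfrob := Cfsg.Agent.Lib.Helper04.frobenius_reciprocity H ψ χ (char_isClassFunction hχc)
    rw [hindψ, irr_inner_self (⟨χ, hχ⟩ : Cfsg.IrrCharacter G)] at hfrob
    have hin1 : Cfsg.classInner (fun h : H => χ h) ψ = 1 := by
      rw [← classInner_conj_symm, ← hfrob]
      simp
    have hg₂ : Cfsg.IsCharacter H ((fun h : H => χ h) - ψ) :=
      isCharacter_sub_irr hχH hψ (by rw [hin1]; exact one_ne_zero)
    have hξ : Cfsg.IsCharacter H.normalCore (fun x : H.normalCore => ψ ⟨x, hLH x.2⟩) :=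
      isCharacter_comp_hom (Subgroup.inclusion hLH) (isCharacter_of_irr hψ)
    have hξ' : Cfsg.IsCharacter H.normalCore
        (fun x : H.normalCore => ((fun h : H => χ h) - ψ) (Subgroup.inclusion hLH x)) :=
      isCharacter_comp_hom (Subgroup.inclusion hLH) hg₂
    have hsum : (fun x : H.normalCore => ψ ⟨x, hLH x.2⟩) +
        (fun x : H.normalCore => ((fun h : H => χ h) - ψ) (Subgroup.inclusion hLH x)) =
        (eL : ℂ) • φ := by
      rw [← hφe]
      funext x
      simp only [Pi.add_apply, Pi.sub_apply]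
      change ψ ⟨x, _⟩ + (χ x - ψ ⟨x, _⟩) = χ x
      ring
    obtain ⟨b, hb⟩ := exists_eq_smul_of_add_eq_smul (eL : ℂ) hξ hξ' hφ hsum
    have hφ1 := step2 n IH' hχ hqp hn H hmax.1 H.normalCore hLH ψ hψ hindψ φ hφ eL hφe b hb
    exact step3 n IH' hχ hqp hn H hmax ψ hψ hindψ φ hφ hφ1 eL hφe b hb

/-- Let G be a finite solvable group and χ an irreducible character of G such that for every normal subgroup N the restriction of χ to N is a natural-number multiple of one irreducible character of N. Then χ is not induced from a character of any proper subgroup. -/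
theorem result {G : Type*} [Group G] [Fintype G] [Group.IsSolvable G] (χ : G → ℂ) (hχ : Cfsg.IsIrrCharacter G χ) (hqp : ∀ (N : Subgroup G), N.Normal → ∃ (ϑ : N → ℂ) (e : ℕ), Cfsg.IsIrrCharacter N ϑ ∧ (fun n : N => χ n) = (e : ℂ) • ϑ) (K : Subgroup G) (hK : K ≠ ⊤) (ψ : K → ℂ) (hψ : Cfsg.IsCharacter K ψ) : Cfsg.indFun K ψ ≠ χ := by
  classical
  have h1 : ∃ n : ℕ, χ 1 = (n : ℂ) := by
    obtain ⟨d, ρ, -, hρ⟩ := hχ
    exact ⟨Module.finrank ℂ (Fin d → ℂ), by rw [← hρ, Representation.char_one]⟩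
  obtain ⟨n, hn⟩ := h1
  exact berger_aux n G χ hχ hqp hn K hK ψ hψ

end Cfsg.Agent.S0889
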