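import Cfsg.Statements.S0890
import Mathlib
import Cfsg.Agent.Lib.Helper83.IndRestrict
import Cfsg.Agent.Lib.Helper83.MaxCore
import Cfsg.Agent.Lib.Helper85.Ramification
import Cfsg.Agent.Lib.Helper20.SylowNormal

set_option autoImplicit false
open Cfsg

namespace Cfsg.Agent.S0890

open scoped ComplexConjugate
open Cfsg.Agent.Lib.Helper83

/-- Values of the induced character on the core. -/
theorem step_core {G : Type*} [Group G] [Fintype G] (L H : Subgroup G) [L.Normal] (hLH : L ≤ H)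
    (ϑ : H → ℂ) (hϑ : Cfsg.IsIrrCharacter H ϑ)
    (hϑL : Cfsg.IsIrrCharacter L (fun x : L => ϑ ⟨(x : G), hLH x.2⟩))
    (hind : Cfsg.IsIrrCharacter G (Cfsg.indFun H ϑ))
    (hcon : ∃ (φ : H.normalCore → ℂ) (e : ℕ), Cfsg.IsIrrCharacter H.normalCore φ ∧
      (fun m : H.normalCore => Cfsg.indFun H ϑ m) = (e : ℂ) • φ) :
    Cfsg.IsIrrCharacter H.normalCore (fun x : H.normalCore => ϑ ⟨(x : G), H.normalCore_le x.2⟩) ∧
    ∀ (x : G) (hx : x ∈ H.normalCore),
      Cfsg.indFun H ϑ x = (H.index : ℂ) * ϑ ⟨x, H.normalCore_le hx⟩ := by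
  classical
  set χ := Cfsg.indFun H ϑ with hχ
  set L₀ := H.normalCore with hL₀
  have hL₀H : L₀ ≤ H := H.normalCore_le
  have hLL₀ : L ≤ L₀ := Subgroup.normal_le_normalCore.2 hLH
  have : Fintype H := Fintype.ofFinite _
  have : Fintype L₀ := Fintype.ofFinite _
  have : Fintype (L.subgroupOf L₀) := Fintype.ofFinite _
  have hϑc := isCharacter_of_irr hϑ
  have hχc := isCharacter_of_irr hind
  set φ₀ : L₀ → ℂ := fun x => ϑ ⟨(x : G), hL₀H x.2⟩ with hφ₀def
  have hφ₀ : Cfsg.IsIrrCharacter L₀ φ₀ :=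
    isIrr_comp_of_sub (Subgroup.inclusion hL₀H) hϑc (L.subgroupOf L₀)
      (Subgroup.subgroupOfEquivOfLe hLL₀) (fun x : L => (⟨(x : G), hLH x.2⟩ : H)) hϑL
      (fun a => rfl)
  refine ⟨hφ₀, ?_⟩
  obtain ⟨φ', e₀, hφ', he₀⟩ := hcon
  -- `ϑ` is a constituent of `χ_H`
  have hχH : Cfsg.IsCharacter H (fun h : H => χ h) := isCharacter_restrict H hχc
  have hfrob := Cfsg.Agent.Lib.Helper04.frobenius_reciprocity H ϑ χ (char_isClassFunction hχc)
  rw [irr_inner_self (⟨χ, hind⟩ : Cfsg.IrrCharacter G)] at hfrob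
  have hin1 : Cfsg.classInner (fun h : H => χ h) ϑ = 1 := by
    rw [← classInner_conj_symm, ← hfrob]
    simp
  have hg₂ : Cfsg.IsCharacter H ((fun h : H => χ h) - ϑ) :=
    Cfsg.Agent.Lib.Helper85.isCharacter_sub_irr hχH hϑ (by rw [hin1]; exact one_ne_zero)
  have hg₂L : Cfsg.IsCharacter L₀ (fun x : L₀ => ((fun h : H => χ h) - ϑ) (Subgroup.inclusion hL₀H x)) :=
    isCharacter_comp_hom (Subgroup.inclusion hL₀H) hg₂
  obtain ⟨n₂, hn₂⟩ := classInner_char_nat hg₂L (isCharacter_of_irr hφ₀)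
  have hsum : (fun x : L₀ => χ x) =
      φ₀ + (fun x : L₀ => ((fun h : H => χ h) - ϑ) (Subgroup.inclusion hL₀H x)) := by
    funext x
    simp only [Pi.add_apply, Pi.sub_apply, hφ₀def]
    change χ x = ϑ ⟨x, _⟩ + (χ x - ϑ ⟨x, _⟩)
    ring
  have hin2 : Cfsg.classInner (fun x : L₀ => χ x) φ₀ = 1 + (n₂ : ℂ) := by
    rw [hsum, classInner_add_left, irr_inner_self (⟨φ₀, hφ₀⟩ : Cfsg.IrrCharacter L₀), hn₂]
  have hφeq : φ' = φ₀ := by
    by_contra hne
    have h0 : Cfsg.classInner φ' φ₀ = 0 :=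
      irr_inner_ne (χ := (⟨φ', hφ'⟩ : Cfsg.IrrCharacter L₀)) (ψ := ⟨φ₀, hφ₀⟩)
        (fun h => hne (congrArg Subtype.val h))
    rw [he₀, classInner_smul_left, h0, mul_zero] at hin2
    have : (1 : ℂ) + (n₂ : ℂ) = ((1 + n₂ : ℕ) : ℂ) := by push_cast; ring
    rw [this] at hin2
    have : (1 + n₂ : ℕ) = 0 := by exact_mod_cast hin2.symm
    omega
  rw [hφeq] at he₀
  -- the multiplicity
  have hϑ1 : ϑ 1 ≠ 0 := irr_degree_ne_zero (⟨ϑ, hϑ⟩ : Cfsg.IrrCharacter H)
  have h1 : χ 1 = (H.index : ℂ) * ϑ 1 := Cfsg.Agent.Lib.Helper85.indFun_apply_one H ϑ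
  have h2 := congrFun he₀ 1
  simp only [Pi.smul_apply, smul_eq_mul, hφ₀def] at h2
  have h3 : χ 1 = (e₀ : ℂ) * ϑ 1 := h2
  have he₀idx : (e₀ : ℂ) = (H.index : ℂ) := by
    rw [h1] at h3
    exact (mul_right_cancel₀ hϑ1 h3).symm
  intro x hx
  have h4 := congrFun he₀ ⟨x, hx⟩
  simp only [Pi.smul_apply, smul_eq_mul, hφ₀def] at h4
  rw [← he₀idx]
  exact h4

/-- The induced character vanishes on `K` off the core. -/
theorem step_vanish {G : Type*} [Group G] [Fintype G] (H K : Subgroup G) [K.Normal]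
    (ϑ : H → ℂ) (hKHinf : K ⊓ H ≤ H.normalCore) (x : G) (hxK : x ∈ K) (hx : x ∉ H.normalCore) :
    Cfsg.indFun H ϑ x = 0 := by
  rw [Cfsg.Agent.Lib.Helper04.indFun_apply]
  have h0 : ∀ g : G, Cfsg.extendByZero H ϑ (g⁻¹ * x * g) = 0 := by
    intro g
    apply Cfsg.Agent.Lib.Helper04.extendByZero_apply_not_mem
    intro hc
    apply hx
    have h1 : g⁻¹ * x * g ∈ K := by
      have := Subgroup.Normal.conj_mem (inferInstance : K.Normal) x hxK g⁻¹
      rwa [inv_inv] at this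
    have h2 : g⁻¹ * x * g ∈ H.normalCore := hKHinf ⟨h1, hc⟩
    have h3 := Subgroup.Normal.conj_mem (inferInstance : (H.normalCore).Normal) _ h2 g
    have : g * (g⁻¹ * x * g) * g⁻¹ = x := by group
    rwa [this] at h3
  simp only [h0, Finset.sum_const_zero, mul_zero]

/-- The norm computation on `K`. -/
theorem step_K {G : Type*} [Group G] [Fintype G] (H K : Subgroup G) [K.Normal]
    (ϑ : H → ℂ) (hKHinf : K ⊓ H ≤ H.normalCore) (hLK : H.normalCore ≤ K)
    (hφ₀ : Cfsg.IsIrrCharacter H.normalCore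
      (fun x : H.normalCore => ϑ ⟨(x : G), H.normalCore_le x.2⟩))
    (hval : ∀ (x : G) (hx : x ∈ H.normalCore),
      Cfsg.indFun H ϑ x = (H.index : ℂ) * ϑ ⟨x, H.normalCore_le hx⟩)
    (θ : K → ℂ) (a : ℕ) (hθ : Cfsg.IsIrrCharacter K θ)
    (hθa : (fun k : K => Cfsg.indFun H ϑ k) = (a : ℂ) • θ) :
    a ^ 2 * Nat.card K = H.index ^ 2 * Nat.card H.normalCore := by
  classical
  set χ := Cfsg.indFun H ϑ with hχ
  set L₀ := H.normalCore with hL₀
  have : Fintype K := Fintype.ofFinite _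
  have : Fintype L₀ := Fintype.ofFinite _
  set φ₀ : L₀ → ℂ := fun x => ϑ ⟨(x : G), H.normalCore_le x.2⟩ with hφ₀def
  have hn1 : Cfsg.classInner (fun k : K => χ k) (fun k : K => χ k) = (a : ℂ) ^ 2 := by
    rw [hθa, classInner_smul_left, classInner_smul_right,
      irr_inner_self (⟨θ, hθ⟩ : Cfsg.IrrCharacter K)]
    simp
    ring
  have hφn : ∑ z : L₀, φ₀ z * conj (φ₀ z) = (Nat.card L₀ : ℂ) := by
    have h1 := irr_inner_self (⟨φ₀, hφ₀⟩ : Cfsg.IrrCharacter L₀)
    rw [classInner_def] at h1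
    have hc : (Nat.card L₀ : ℂ) ≠ 0 := card_ne_zero_complex
    field_simp at h1
    exact h1
  have hn2 : Cfsg.classInner (fun k : K => χ k) (fun k : K => χ k) =
      (Nat.card K : ℂ)⁻¹ * ((H.index : ℂ) ^ 2 * (Nat.card L₀ : ℂ)) := by
    rw [classInner_def]
    congr 1
    rw [sum_subgroup_of_support hLK (fun s : K => χ s * conj (χ s))
      (fun s hs => by
        change χ s * conj (χ s) = 0
        have h0 : χ s = 0 := step_vanish H K ϑ hKHinf s s.2 hs
        rw [h0, zero_mul])]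
    rw [← hφn, Finset.mul_sum]
    apply Finset.sum_congr rfl
    intro z _
    simp only
    rw [hval z z.2, map_mul, Complex.conj_natCast]
    simp only [hφ₀def]
    ring
  rw [hn1] at hn2
  have hc : (Nat.card K : ℂ) ≠ 0 := card_ne_zero_complex
  have h3 : (a : ℂ) ^ 2 * (Nat.card K : ℂ) = (H.index : ℂ) ^ 2 * (Nat.card L₀ : ℂ) := by
    rw [hn2]
    field_simp
  exact_mod_cast h3

/-- The analysis of the homogeneous restriction to `M ≥ K`. -/
theorem step_M {G : Type*} [Group G] [Fintype G] (H K M : Subgroup G) [hKn : K.Normal]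
    (hKM : K ≤ M) (hLK : H.normalCore ≤ K)
    (hsup : ∀ g : G, ∃ m ∈ M, ∃ h ∈ H, m * h = g)
    (ϑ : H → ℂ) (hϑ : Cfsg.IsIrrCharacter H ϑ)
    (hφ₀ : Cfsg.IsIrrCharacter H.normalCore
      (fun x : H.normalCore => ϑ ⟨(x : G), H.normalCore_le x.2⟩))
    (hind : Cfsg.IsIrrCharacter G (Cfsg.indFun H ϑ))
    (θ : K → ℂ) (a : ℕ) (hθ : Cfsg.IsIrrCharacter K θ)
    (hθa : (fun k : K => Cfsg.indFun H ϑ k) = (a : ℂ) • θ)
    (hcardK : Nat.card K = a ^ 2 * Nat.card H.normalCore) (hθ1 : θ 1 = (a : ℂ) * ϑ 1)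
    (η : M → ℂ) (a' : ℕ) (hη : Cfsg.IsIrrCharacter M η)
    (hηa : (fun m : M => Cfsg.indFun H ϑ m) = (a' : ℂ) • η)
    (hs : ∀ s : ℕ, s ∣ a → s ∣ K.relIndex M → s = 1) :
    ∀ x ∈ H, x ∈ M → ∃ l ∈ H.normalCore, ∀ k ∈ K,
      k * (l * x) * k⁻¹ * (l * x)⁻¹ ∈ H.normalCore := by
  classical
  set χ := Cfsg.indFun H ϑ with hχ
  set L₀ := H.normalCore with hL₀
  have hL₀H : L₀ ≤ H := H.normalCore_le
  have hL₀M : L₀ ≤ M := hLK.trans hKM
  have hL₀n : L₀.Normal := inferInstance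
  have : Fintype H := Fintype.ofFinite _
  have : Fintype M := Fintype.ofFinite _
  have : Fintype K := Fintype.ofFinite _
  have hϑc := isCharacter_of_irr hϑ
  have hχc := isCharacter_of_irr hind
  have hηc := isCharacter_of_irr hη
  have hχ1 : χ 1 ≠ 0 := irr_degree_ne_zero (⟨χ, hind⟩ : Cfsg.IrrCharacter G)
  have hϑ1 : ϑ 1 ≠ 0 := irr_degree_ne_zero (⟨ϑ, hϑ⟩ : Cfsg.IrrCharacter H)
  -- `a' ≠ 0`
  have ha'0 : (a' : ℂ) ≠ 0 := by
    intro h0
    have := congrFun hηa 1
    simp only [Pi.smul_apply, smul_eq_mul, h0, zero_mul] at this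
    exact hχ1 this
  -- subgroups of `M`
  set K' : Subgroup M := K.subgroupOf M with hK'
  set N' : Subgroup M := H.subgroupOf M with hN'
  set L' : Subgroup M := L₀.subgroupOf M with hL'
  have hK'n : K'.Normal := hKn.subgroupOf M
  have hL'n : L'.Normal := hL₀n.subgroupOf M
  have : Fintype K' := Fintype.ofFinite _
  have : Fintype N' := Fintype.ofFinite _
  have : Fintype L' := Fintype.ofFinite _
  have : Fintype (L'.subgroupOf N') := Fintype.ofFinite _
  have hL'K' : L' ≤ K' := Subgroup.subgroupOf_mono M hLK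
  have hL'N' : L' ≤ N' := Subgroup.subgroupOf_mono M hL₀H
  -- `θ` on `K'`
  set θ' : K' → ℂ := fun x => θ (Subgroup.subgroupOfEquivOfLe hKM x) with hθ'def
  have hθ' : Cfsg.IsIrrCharacter K' θ' :=
    Cfsg.Agent.Lib.Helper84.isIrrCharacter_comp_mulEquiv (Subgroup.subgroupOfEquivOfLe hKM) hθ
  have hηK'c : Cfsg.IsCharacter K' (fun x : K' => η x) := isCharacter_restrict K' hηc
  obtain ⟨s, hs'⟩ := classInner_char_nat hηK'c (isCharacter_of_irr hθ')
  have hrel : ∀ x : K', (a' : ℂ) * η x = (a : ℂ) * θ' x := by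
    intro x
    have h1 := congrFun hηa (x : M)
    have h2 := congrFun hθa (Subgroup.subgroupOfEquivOfLe hKM x)
    simp only [Pi.smul_apply, smul_eq_mul] at h1 h2
    rw [← h1, ← h2]
    rfl
  have hηK'eq : (fun x : K' => η x) = ((a : ℂ) / (a' : ℂ)) • θ' := by
    funext x
    simp only [Pi.smul_apply, smul_eq_mul]
    have := hrel x
    field_simp
    linear_combination this
  have hsa : (s : ℂ) = (a : ℂ) / (a' : ℂ) := by
    rw [← hs', hηK'eq, classInner_smul_left, irr_inner_self (⟨θ', hθ'⟩ : Cfsg.IrrCharacter K'),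
      mul_one]
  have hsa' : a' * s = a := by
    have : (a' : ℂ) * (s : ℂ) = (a : ℂ) := by
      rw [hsa]; field_simp
    exact_mod_cast this
  have hres : (fun x : K' => η x) = (s : ℂ) • θ' := by rw [hsa, hηK'eq]
  have hsdvd : s ∣ K'.index := Cfsg.Agent.Lib.Helper85.ramification_dvd_index K' hη hθ' s hres
  have hs1 : s = 1 := hs s ⟨a', by rw [← hsa', mul_comm]⟩ hsdvd
  rw [hs1, mul_one] at hsa'
  subst hsa'
  rw [hs1, Nat.cast_one, one_smul] at hres
  -- `ν'`
  set f : N' →* H := MonoidHom.codRestrict (M.subtype.comp N'.subtype) H (fun x => x.2) with hf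
  set ν' : N' → ℂ := fun x => ϑ (f x) with hν'def
  have hν' : Cfsg.IsIrrCharacter N' ν' :=
    isIrr_comp_of_sub f hϑc (L'.subgroupOf N')
      ((Subgroup.subgroupOfEquivOfLe hL'N').trans (Subgroup.subgroupOfEquivOfLe hL₀M))
      (fun x : L₀ => (⟨(x : G), hL₀H x.2⟩ : H)) hφ₀ (fun a => rfl)
  have hνL : Cfsg.IsIrrCharacter (L'.subgroupOf N') (fun l : L'.subgroupOf N' => ν' l) :=
    Cfsg.Agent.Lib.Helper84.isIrrCharacter_comp_mulEquiv
      ((Subgroup.subgroupOfEquivOfLe hL'N').trans (Subgroup.subgroupOfEquivOfLe hL₀M)) hφ₀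
  -- Mackey
  have hmackey : (fun g : M => χ g) = Cfsg.indFun N' ν' := by
    funext g
    exact indFun_restrict_of_supplement M H hsup ϑ (char_isClassFunction hϑc) g
  have hfrob := Cfsg.Agent.Lib.Helper04.frobenius_reciprocity N' ν' η (char_isClassFunction hηc)
  rw [← hmackey, hηa, classInner_smul_left, irr_inner_self (⟨η, hη⟩ : Cfsg.IrrCharacter M),
    mul_one] at hfrob
  have hin : Cfsg.classInner (fun x : N' => η x) ν' = (a' : ℂ) := by
    rw [← classInner_conj_symm, ← hfrob]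
    simp
  have hη1 : η 1 = (a' : ℂ) * ν' 1 := by
    have h1 := congrFun hres 1
    simp only [hθ'def] at h1
    have h2 : θ (Subgroup.subgroupOfEquivOfLe hKM (1 : K')) = θ 1 := by rw [map_one]
    rw [h2, hθ1] at h1
    have h3 : ν' 1 = ϑ 1 := by simp only [hν'def, map_one]
    rw [h3]
    exact h1
  have hηN : (fun x : N' => η x) = (a' : ℂ) • ν' :=
    eq_smul_of_inner_of_degree a' (isCharacter_restrict N' hηc) hν' hin hη1
  -- the endgame
  have hηK'irr : Cfsg.IsIrrCharacter K' (fun k : K' => η k) := by rw [hres]; exact hθ'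
  have hcard' : Nat.card K' = a' ^ 2 * Nat.card L' := by
    rw [Nat.card_congr (Subgroup.subgroupOfEquivOfLe hKM).toEquiv,
      Nat.card_congr (Subgroup.subgroupOfEquivOfLe hL₀M).toEquiv]
    exact hcardK
  haveI : (L'.subgroupOf N').Normal := hL'n.subgroupOf N'
  intro x hxH hxM
  obtain ⟨l, hl, hlk⟩ := exists_centralizing_of_restrict_smul K' N' L' hL'K' hL'N' hη hηK'irr hν'
    hνL a' (fun n => congrFun hηN n) hcard' ⟨⟨x, hxM⟩, hxH⟩
  refine ⟨(l : G), hl, ?_⟩
  intro k hk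
  have := hlk ⟨k, hKM hk⟩ hk
  exact this

/-- Let L ≤ H < G with L normal in G, H a maximal subgroup and G / L solvable. Let ϑ be an irreducible character of H whose restriction to L is irreducible and whose induction χ to G is irreducible. Then there is a normal subgroup M of G containing L such that the restriction of χ to M is not a natural-number multiple of a single irreducible character of M. -/
theorem result {G : Type*} [Group G] [Fintype G] (L H : Subgroup G) [L.Normal] (hLH : L ≤ H) (hmax : IsCoatom H) (hsolv : Group.IsSolvable (G ⧸ L)) (ϑ : H → ℂ) (hϑ : Cfsg.IsIrrCharacter H ϑ) (hϑL : Cfsg.IsIrrCharacter L (fun x : L => ϑ ⟨(x : G), hLH x.2⟩)) (hind : Cfsg.IsIrrCharacter G (Cfsg.indFun H ϑ)) : ∃ M : Subgroup G, M.Normal ∧ L ≤ M ∧ ¬ ∃ (φ : M → ℂ) (e : ℕ), Cfsg.IsIrrCharacter M φ ∧ (fun m : M => Cfsg.indFun H ϑ m) = (e : ℂ) • φ := by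
  classical
  by_contra hcon
  push Not at hcon
  have hcon' : ∀ M : Subgroup G, M.Normal → L ≤ M → ∃ (φ : M → ℂ) (e : ℕ),
      Cfsg.IsIrrCharacter M φ ∧ (fun m : M => Cfsg.indFun H ϑ m) = (e : ℂ) • φ := hcon
  set χ := Cfsg.indFun H ϑ with hχ
  have hLL₀ : L ≤ H.normalCore := Subgroup.normal_le_normalCore.2 hLH
  have hL₀n : (H.normalCore).Normal := inferInstance
  have hL₀H : H.normalCore ≤ H := H.normalCore_le
  have : Fintype H := Fintype.ofFinite _
  obtain ⟨hφ₀, hval⟩ := step_core L H hLH ϑ hϑ hϑL hind (hcon' H.normalCore hL₀n hLL₀)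
  have hχc := isCharacter_of_irr hind
  have hϑ1 : ϑ 1 ≠ 0 := irr_degree_ne_zero (⟨ϑ, hϑ⟩ : Cfsg.IrrCharacter H)
  by_cases hHL₀ : H ≤ H.normalCore
  · -- `H` is normal: impossible
    have hfrob := Cfsg.Agent.Lib.Helper04.frobenius_reciprocity H ϑ χ (char_isClassFunction hχc)
    rw [irr_inner_self (⟨χ, hind⟩ : Cfsg.IrrCharacter G)] at hfrob
    have hχH : (fun h : H => χ h) = (H.index : ℂ) • ϑ := by
      funext h
      exact hval h (hHL₀ h.2)
    rw [hχH, classInner_smul_right, irr_inner_self (⟨ϑ, hϑ⟩ : Cfsg.IrrCharacter H), mul_one,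
      Complex.conj_natCast] at hfrob
    have h1 : H.index = 1 := by exact_mod_cast hfrob.symm
    exact hmax.1 (Subgroup.index_eq_one.1 h1)
  · -- the main case
    have hsolv' : Group.IsSolvable (G ⧸ H.normalCore) := by
      have hle : L ≤ (H.normalCore).comap (MonoidHom.id G) := hLL₀
      apply Group.isSolvable_of_surjective (f := QuotientGroup.map L H.normalCore (MonoidHom.id G) hle)
      intro y
      obtain ⟨g, rfl⟩ := QuotientGroup.mk_surjective y
      exact ⟨(g : G ⧸ L), rfl⟩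
    obtain ⟨p, q, m, j, K, N, hp, hq, hpq, hKn, hLK, hKH, hKcomm, hKcard, hLN, hNH, hNL, hNnorm,
      hNcard⟩ := exists_chief_setup hmax hsolv' hHL₀
    haveI := hKn
    have hKHinf := inf_le_normalCore_of_comm hmax K hKH hKcomm
    have htop := sup_eq_top_of_isCoatom hmax K hKH
    obtain ⟨θ, a, hθ, hθa⟩ := hcon' K hKn (hLL₀.trans hLK)
    have hnorm := step_K H K ϑ hKHinf hLK hφ₀ hval θ a hθ hθa
    have hL₀pos : 0 < Nat.card H.normalCore := Nat.card_pos
    have hHpos : 0 < Nat.card H := Nat.card_pos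
    -- the index of `H`
    have hidx : H.index * Nat.card H.normalCore = Nat.card K := by
      have h1 := card_sup_mul_card_inf_of_le_normalizer K H Subgroup.le_normalizer_of_normal
      have h2 : K ⊓ H = H.normalCore := le_antisymm hKHinf (le_inf hLK hL₀H)
      rw [sup_comm, htop, h2, Subgroup.card_top, ← Subgroup.card_mul_index H] at h1
      have h3 : Nat.card H * (H.index * Nat.card H.normalCore) = Nat.card H * Nat.card K := by
        rw [← mul_assoc, h1, mul_comm]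
      exact Nat.eq_of_mul_eq_mul_left hHpos h3
    have hidxpos : 0 < H.index := by
      rcases Nat.eq_zero_or_pos H.index with h | h
      · rw [h, zero_mul] at hidx
        have : 0 < Nat.card K := Nat.card_pos
        omega
      · exact h
    have ha2 : a ^ 2 = H.index := by
      rw [← hidx] at hnorm
      have h1 : (a ^ 2) * (H.index * Nat.card H.normalCore) =
          H.index * (H.index * Nat.card H.normalCore) := by
        rw [hnorm]; ring
      exact Nat.eq_of_mul_eq_mul_right (Nat.mul_pos hidxpos hL₀pos) h1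
    have hcardK : Nat.card K = a ^ 2 * Nat.card H.normalCore := by rw [ha2, hidx]
    have hidxp : H.index = p ^ m := by
      rw [hKcard, mul_comm] at hidx
      exact Nat.eq_of_mul_eq_mul_left hL₀pos hidx
    have ha0 : (a : ℂ) ≠ 0 := by
      have : a ≠ 0 := by
        rintro rfl
        rw [← ha2] at hidxpos
        simp at hidxpos
      exact_mod_cast this
    have hθ1 : θ 1 = (a : ℂ) * ϑ 1 := by
      have h1 := congrFun hθa 1
      simp only [Pi.smul_apply, smul_eq_mul] at h1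
      have h2 : χ 1 = (H.index : ℂ) * ϑ 1 := Cfsg.Agent.Lib.Helper85.indFun_apply_one H ϑ
      have h3 : χ ((1 : K) : G) = χ 1 := rfl
      rw [h3, h2, ← ha2] at h1
      push_cast at h1
      have h4 : (a : ℂ) * ((a : ℂ) * ϑ 1) = (a : ℂ) * θ 1 := by rw [← h1]; ring
      exact (mul_left_cancel₀ ha0 h4).symm
    -- the subgroup `M`
    have hMn : (K ⊔ N).Normal := by
      constructor
      intro x hx g
      obtain ⟨k, hk, h, hh, rfl⟩ := exists_mul_of_sup_eq_top K H htop g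
      have hx' : x ∈ ((K ⊔ N : Subgroup G) : Set G) := hx
      rw [Subgroup.normal_mul] at hx'
      obtain ⟨k₁, hk₁, n₁, hn₁, rfl⟩ := Set.mem_mul.1 hx'
      have e1 : k * h * (k₁ * n₁) * (k * h)⁻¹ =
          k * (h * k₁ * h⁻¹) * (h * n₁ * h⁻¹) * k⁻¹ := by group
      rw [e1]
      have hkM : k ∈ K ⊔ N := Subgroup.mem_sup_left hk
      exact Subgroup.mul_mem _ (Subgroup.mul_mem _ (Subgroup.mul_mem _ hkM
        (Subgroup.mem_sup_left (hKn.conj_mem k₁ hk₁ h)))
        (Subgroup.mem_sup_right (hNnorm h hh n₁ hn₁))) (Subgroup.inv_mem _ hkM)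
    obtain ⟨η, a', hη, hηa⟩ := hcon' (K ⊔ N) hMn (hLL₀.trans (hLK.trans le_sup_left))
    have hrel : K.relIndex (K ⊔ N) = q ^ j := by
      have h1 := card_sup_mul_card_inf_of_le_normalizer K N Subgroup.le_normalizer_of_normal
      have h2 : K ⊓ N = H.normalCore :=
        le_antisymm ((inf_le_inf_left K hNH).trans hKHinf) (le_inf hLK hLN)
      rw [sup_comm, h2, hNcard] at h1
      have h3 := Cfsg.Agent.Lib.Helper20.relIndex_mul_card_of_le (le_sup_left : K ≤ K ⊔ N)
      have hKpos : 0 < Nat.card K := Nat.card_pos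
      have h4 : (K.relIndex (K ⊔ N)) * (Nat.card K * Nat.card H.normalCore) =
          q ^ j * (Nat.card K * Nat.card H.normalCore) := by
        rw [← mul_assoc, h3, h1]; ring
      exact Nat.eq_of_mul_eq_mul_right (Nat.mul_pos hKpos hL₀pos) h4
    have hs : ∀ s : ℕ, s ∣ a → s ∣ K.relIndex (K ⊔ N) → s = 1 := by
      intro s h1 h2
      have h3 : s ∣ p ^ m := by
        rw [← hidxp, ← ha2]
        exact h1.trans (dvd_pow_self a two_ne_zero)
      rw [hrel] at h2
      have hcop : Nat.Coprime (p ^ m) (q ^ j) :=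
        Nat.Coprime.pow _ _ ((Nat.coprime_primes hp hq).2 hpq)
      exact Nat.eq_one_of_dvd_coprimes hcop h3 h2
    have hsup : ∀ g : G, ∃ m ∈ K ⊔ N, ∃ h ∈ H, m * h = g := by
      intro g
      obtain ⟨k, hk, h, hh, hkh⟩ := exists_mul_of_sup_eq_top K H htop g
      exact ⟨k, Subgroup.mem_sup_left hk, h, hh, hkh⟩
    have key := step_M H K (K ⊔ N) le_sup_left hLK hsup ϑ hϑ hφ₀ hind θ a hθ hθa hcardK hθ1 η a'
      hη hηa hs
    apply hNL
    intro x hx
    obtain ⟨l, hl, hlk⟩ := key x (hNH hx) (Subgroup.mem_sup_right hx)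
    have hy : l * x ∈ H.normalCore :=
      mem_normalCore_of_centralizes hmax K hKH (H.mul_mem (hL₀H hl) (hNH hx)) hlk
    have : x = l⁻¹ * (l * x) := by group
    rw [this]
    exact Subgroup.mul_mem _ (Subgroup.inv_mem _ hl) hy

end Cfsg.Agent.S0890
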