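import Cfsg.Statements.S0893
import Cfsg.Agent.Lib.Helper83.Extraspecial
import Cfsg.Agent.Lib.Helper83.Constituent

set_option autoImplicit false
open Cfsg

namespace Cfsg.Agent.S0893

/-- Let P be an extraspecial p-group of order p ^ (2 * n + 1), A an abelian subgroup of order p ^ (n + 1), and λ a character of A of degree 1 that is not identically 1 on the elements of A lying in the centre of P. Then the function induced from λ to P is an irreducible character of P and vanishes at every element outside the centre. -/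
theorem result {P : Type*} [Group P] [Fintype P] (p n : ℕ) [Fact p.Prime] (hP : Cfsg.IsExtraspecial p P) (hcard : Nat.card P = p ^ (2 * n + 1)) (A : Subgroup P) (hab : ∀ a ∈ A, ∀ b ∈ A, a * b = b * a) (hA : Nat.card A = p ^ (n + 1)) (lam : A → ℂ) (hlam : Cfsg.IsCharacter A lam ∧ lam 1 = 1) (hZ : ∃ a : A, (a : P) ∈ Subgroup.center P ∧ lam a ≠ 1) : Cfsg.IsIrrCharacter P (Cfsg.indFun A lam) ∧ ∀ x : P, x ∉ Subgroup.center P → Cfsg.indFun A lam x = 0 := by
  classical
  have hpp : p.Prime := Fact.out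
  obtain ⟨hlamc, hlam1⟩ := hlam
  obtain ⟨a, haZ, hlama⟩ := hZ
  set ψ := Cfsg.indFun A lam with hψ
  have hψc : Cfsg.IsCharacter P ψ := Cfsg.Agent.Lib.Helper34.isCharacter_indFun A hlamc
  -- degree of ψ
  have hidx : A.index = p ^ n := by
    have h := Subgroup.card_mul_index A
    rw [hA, hcard] at h
    have h2 : p ^ (2 * n + 1) = p ^ (n + 1) * p ^ n := by rw [← pow_add]; congr 1; omega
    rw [h2] at h
    exact Nat.eq_of_mul_eq_mul_left (pow_pos hpp.pos _) h
  have hψ1 : ψ 1 = ((p ^ n : ℕ) : ℂ) := by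
    rw [hψ, Cfsg.Agent.Lib.Helper83.indFun_one_eq, hidx, hlam1, mul_one]
  have hψdeg : Cfsg.charDegree ψ = p ^ n := by
    have := Cfsg.Agent.Lib.Helper83.charDegree_cast hψc
    rw [hψ1] at this
    exact_mod_cast this
  have hψ0 : ψ 1 ≠ 0 := by
    rw [hψ1]
    exact_mod_cast (pow_pos hpp.pos n).ne'
  obtain ⟨χ, hχ⟩ := Cfsg.Agent.Lib.Helper83.exists_constituent hψc hψ0
  have hχc := Cfsg.Agent.Lib.Helper83.IrrCharacter_isCharacter χ
  -- χ is nonlinear
  have hχnl : (χ : P → ℂ) 1 ≠ 1 := by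
    intro h1
    have hrec := Cfsg.Agent.Lib.Helper34.classInner_indFun_left A lam (χ : P → ℂ)
      (Cfsg.Agent.Lib.Helper83.isClassFunction_irr χ)
    rw [← hψ] at hrec
    rw [hrec] at hχ
    have hresc : Cfsg.IsCharacter A (fun h : A => (χ : P → ℂ) h) :=
      Cfsg.Agent.Lib.Helper83.isCharacter_restrict A hχc
    have hresirr : Cfsg.IsIrrCharacter A (fun h : A => (χ : P → ℂ) h) :=
      Cfsg.Agent.Lib.Helper83.isIrrCharacter_of_deg_one hresc h1
    have hlamirr : Cfsg.IsIrrCharacter A lam :=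
      Cfsg.Agent.Lib.Helper83.isIrrCharacter_of_deg_one hlamc hlam1
    have heq := Cfsg.Agent.Lib.Helper83.irr_eq_of_classInner_ne_zero
      (χ := (⟨lam, hlamirr⟩ : Cfsg.IrrCharacter A))
      (ψ := (⟨fun h : A => (χ : P → ℂ) h, hresirr⟩ : Cfsg.IrrCharacter A)) hχ
    have heq2 : lam a = (χ : P → ℂ) a := congrFun (congrArg Subtype.val heq) a
    apply hlama
    rw [heq2]
    apply Cfsg.Agent.Lib.Helper83.char_deg_one_commutator hχc h1
    rw [hP.1.2.2]
    exact haZ
  have hχdeg := Cfsg.Agent.Lib.Helper83.extraspecial_charDegree p hP n hcard χ hχnl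
  have heq : ψ = (χ : P → ℂ) :=
    Cfsg.Agent.Lib.Helper83.eq_of_constituent_of_degree_le hψc χ hχ (by rw [hψdeg, hχdeg])
  refine ⟨?_, ?_⟩
  · rw [heq]; exact χ.2
  · intro x hx
    rw [heq]
    exact Cfsg.Agent.Lib.Helper83.extraspecial_vanish_off_center p hP χ hχnl hx

end Cfsg.Agent.S0893
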