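import Cfsg.Statements.S0896
import Cfsg.Agent.S0874
import Cfsg.Agent.Lib.Helper85.Dade

set_option autoImplicit false
open scoped ComplexConjugate
open Cfsg

namespace Cfsg.Agent.S0896

open Cfsg.Agent.Lib.Helper83 Cfsg.Agent.Lib.Helper85

/-- Let N be a normal subgroup of the finite group G with the index of N a power of the prime p, and ϑ an irreducible character of N invariant under conjugation by G. Then there are a p-elementary subgroup E of G with E ⊔ N = ⊤ and an irreducible character φ of the subgroup E ⊓ N, invariant under conjugation by E, such that the inner product of the restriction of ϑ to E ⊓ N with φ is an integer not divisible by p. -/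
theorem result {G : Type*} [Group G] [Fintype G] (p : ℕ) (hp : p.Prime) (N : Subgroup G) [hN : N.Normal] (hind : ∃ k : ℕ, N.index = p ^ k) (ϑ : N → ℂ) (hϑ : Cfsg.IsIrrCharacter N ϑ) (hinv : ∀ (g : G) (n : N), ϑ ⟨g * n * g⁻¹, hN.conj_mem (n : G) n.2 g⟩ = ϑ n) : ∃ (E : Subgroup G) (φ : ↥(E ⊓ N) → ℂ), Cfsg.IsElementary p E ∧ E ⊔ N = ⊤ ∧ Cfsg.IsIrrCharacter ↥(E ⊓ N) φ ∧ (∀ (g : G) (hg : g ∈ E) (x : ↥(E ⊓ N)), φ ⟨g * x * g⁻¹, ⟨(E.mul_mem (E.mul_mem hg x.2.1) (E.inv_mem hg)), hN.conj_mem (x : G) x.2.2 g⟩⟩ = φ x) ∧ ∃ m : ℕ, ¬ p ∣ m ∧ (Nat.card ↥(E ⊓ N) : ℂ)⁻¹ * ∑ᶠ x : ↥(E ⊓ N), ϑ ⟨(x : G), x.2.2⟩ * conj (φ x) = (m : ℂ) := by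
  classical
  have : Fintype N := Fintype.ofFinite N
  obtain ⟨k, hk⟩ := hind
  obtain ⟨m, l, hpm, hl, hsum⟩ := Cfsg.Agent.S0874.result (G := G) p hp
  set B := sqExt N ϑ with hBdef
  have hidx0 : N.index ≠ 0 := by rw [hk]; exact pow_ne_zero _ hp.ne_zero
  have hidxC : (N.index : ℂ) ≠ 0 := by exact_mod_cast hidx0
  -- the restricted characters
  let rfun : (E : Subgroup G) → (N.subgroupOf E → ℂ) := fun E d =>
    ϑ ⟨((d : E) : G), Subgroup.mem_subgroupOf.mp d.2⟩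
  let z : ((E : Subgroup G) × ((E → ℂ) × ℤ)) → ℂ := fun t =>
    haveI : Fintype (N.subgroupOf t.1) := Fintype.ofFinite _
    classInner (fun d : N.subgroupOf t.1 => t.2.1 d * rfun t.1 d) (rfun t.1)
  have hrchar : ∀ E : Subgroup G, IsCharacter (N.subgroupOf E) (rfun E) := by
    intro E
    exact isCharacter_comp_hom
      (MonoidHom.codRestrict ((Subgroup.subtype E).comp (Subgroup.subtype (N.subgroupOf E))) N
        (fun d => Subgroup.mem_subgroupOf.mp d.2)) (isCharacter_of_irr hϑ)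
  have hznat : ∀ t ∈ l, ∃ n : ℕ, z t = n := by
    intro t ht
    letI : Fintype (N.subgroupOf t.1) := Fintype.ofFinite _
    exact classInner_char_nat
      (isCharacter_mul (isCharacter_restrict (N.subgroupOf t.1) (hl t ht).2) (hrchar t.1))
      (hrchar t.1)
  let Ifun : ((E : Subgroup G) × ((E → ℂ) × ℤ)) → ℕ := fun t => ⌊(z t).re⌋₊
  have hIcast : ∀ t ∈ l, (Ifun t : ℂ) = z t := by
    intro t ht
    obtain ⟨n, hn⟩ := hznat t ht
    change ((⌊(z t).re⌋₊ : ℕ) : ℂ) = z t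
    rw [hn]
    simp
  let qfun : ((E : Subgroup G) × ((E → ℂ) × ℤ)) → ℕ := fun t => N.index / N.relIndex t.1
  have hq : ∀ t : ((E : Subgroup G) × ((E → ℂ) × ℤ)), qfun t * N.relIndex t.1 = N.index :=
    fun t => Nat.div_mul_cancel (Subgroup.relIndex_dvd_index_of_normal N t.1)
  let Ψ : ((E : Subgroup G) × ((E → ℂ) × ℤ)) → ℤ := fun t => t.2.2 * qfun t * Ifun t
  have h1 : classInner (fun _ : G => (m : ℂ)) B = (m : ℂ) * (N.index : ℂ)⁻¹ :=
    classInner_const_sqExt N ϑ hϑ _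
  have h2 : classInner (fun _ : G => (m : ℂ)) B =
      (l.map (fun t => classInner ((t.2.2 : ℂ) • Cfsg.indFun t.1 t.2.1) B)).sum := by
    rw [hsum]
    exact classInner_list_sum l _ B
  have h3 : ∀ t ∈ l, classInner ((t.2.2 : ℂ) • Cfsg.indFun t.1 t.2.1) B =
      (Ψ t : ℂ) * (N.index : ℂ)⁻¹ := by
    intro t ht
    letI : Fintype t.1 := Fintype.ofFinite _
    letI : Fintype (N.subgroupOf t.1) := Fintype.ofFinite _
    rw [classInner_smul_left, hBdef, classInner_indFun_sqExt N ϑ hinv t.1 t.2.1]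
    have hz : classInner (fun d : N.subgroupOf t.1 => t.2.1 d *
        ϑ ⟨((d : t.1) : G), Subgroup.mem_subgroupOf.mp d.2⟩)
        (fun d : N.subgroupOf t.1 => ϑ ⟨((d : t.1) : G), Subgroup.mem_subgroupOf.mp d.2⟩) =
        z t := rfl
    rw [hz, ← hIcast t ht]
    have hqC : ((qfun t : ℕ) : ℂ) * ((N.relIndex t.1 : ℕ) : ℂ) = (N.index : ℂ) := by
      exact_mod_cast hq t
    have hrel0 : ((N.relIndex t.1 : ℕ) : ℂ) ≠ 0 := by
      intro h
      rw [h, mul_zero] at hqC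
      exact hidxC hqC.symm
    have hq0 : ((qfun t : ℕ) : ℂ) ≠ 0 := by
      intro h
      rw [h, zero_mul] at hqC
      exact hidxC hqC.symm
    change _ = ((t.2.2 * (qfun t : ℤ) * (Ifun t : ℤ) : ℤ) : ℂ) * _
    push_cast
    rw [← hqC]
    field_simp
  have h4 : (m : ℂ) = (((l.map Ψ).sum : ℤ) : ℂ) := by
    have h5 : (m : ℂ) * (N.index : ℂ)⁻¹ =
        (l.map (fun t => (Ψ t : ℂ) * (N.index : ℂ)⁻¹)).sum := by
      rw [← h1, h2]
      congr 1
      exact List.map_congr_left h3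
    rw [List.sum_map_mul_right] at h5
    have h6 := mul_right_cancel₀ (inv_ne_zero hidxC) h5
    rw [h6]
    push_cast
    rw [List.map_map]
    rfl
  have h4' : m = (l.map Ψ).sum := by exact_mod_cast h4
  obtain ⟨t, ht, htp⟩ : ∃ t ∈ l, ¬ (p : ℤ) ∣ Ψ t := by
    by_contra hcon
    push Not at hcon
    apply hpm
    rw [h4']
    apply List.dvd_sum
    intro x hx
    rw [List.mem_map] at hx
    obtain ⟨t, ht, rfl⟩ := hx
    exact hcon t ht
  obtain ⟨E, φ, c⟩ := t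
  have hnq : ¬ p ∣ qfun ⟨E, φ, c⟩ := by
    intro h
    apply htp
    change (p : ℤ) ∣ c * (qfun ⟨E, φ, c⟩ : ℤ) * (Ifun ⟨E, φ, c⟩ : ℤ)
    exact Dvd.dvd.mul_right (Dvd.dvd.mul_left (Int.natCast_dvd_natCast.mpr h) _) _
  have hnI : ¬ p ∣ Ifun ⟨E, φ, c⟩ := by
    intro h
    apply htp
    change (p : ℤ) ∣ c * (qfun ⟨E, φ, c⟩ : ℤ) * (Ifun ⟨E, φ, c⟩ : ℤ)
    exact Dvd.dvd.mul_left (Int.natCast_dvd_natCast.mpr h) _
  have hqdvd : qfun ⟨E, φ, c⟩ ∣ p ^ k := by
    rw [← hk]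
    exact Dvd.intro _ (hq ⟨E, φ, c⟩)
  have hq1 : qfun ⟨E, φ, c⟩ = 1 := by
    obtain ⟨j, -, hj⟩ := (Nat.dvd_prime_pow hp).mp hqdvd
    rcases Nat.eq_zero_or_pos j with h0 | hpos
    · rw [hj, h0, pow_zero]
    · exfalso
      apply hnq
      rw [hj]
      exact dvd_pow_self p hpos.ne'
  have hrel : N.relIndex E = N.index := by
    have := hq ⟨E, φ, c⟩
    rw [hq1, one_mul] at this
    exact this
  have hsup : E ⊔ N = ⊤ := by
    have h7 : N.relIndex (E ⊔ N) = N.relIndex E := Subgroup.relIndex_sup_right E N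
    have h8 := Subgroup.relIndex_mul_index (le_sup_right : N ≤ E ⊔ N)
    rw [h7, hrel] at h8
    have h9 : (E ⊔ N).index = 1 := by
      have : N.index * (E ⊔ N).index = N.index * 1 := by rw [h8, mul_one]
      exact Nat.eq_of_mul_eq_mul_left (Nat.pos_of_ne_zero hidx0) this
    exact Subgroup.index_eq_one.mp h9
  -- Step B
  letI : Fintype E := Fintype.ofFinite _
  letI : Fintype (N.subgroupOf E) := Fintype.ofFinite _
  have hDind : ∃ k : ℕ, (N.subgroupOf E).index = p ^ k := ⟨k, by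
    have : (N.subgroupOf E).index = N.relIndex E := rfl
    rw [this, hrel, hk]⟩
  have hφchar : IsCharacter E φ := (hl ⟨E, φ, c⟩ ht).2
  have hrinv : ∀ (g : E) (x : N.subgroupOf E),
      rfun E ⟨g * x * g⁻¹, (inferInstance : (N.subgroupOf E).Normal).conj_mem x x.2 g⟩ =
        rfun E x := by
    intro g x
    exact hinv (g : G) ⟨((x : E) : G), Subgroup.mem_subgroupOf.mp x.2⟩
  have hfinv : ∀ (g : E) (x : N.subgroupOf E),
      (fun d : N.subgroupOf E => φ d)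
        ⟨g * x * g⁻¹, (inferInstance : (N.subgroupOf E).Normal).conj_mem x x.2 g⟩ =
        (fun d : N.subgroupOf E => φ d) x := by
    intro g x
    exact char_isClassFunction hφchar x g
  have hI : classInner ((fun d : N.subgroupOf E => φ d) * rfun E) (rfun E) =
      (Ifun ⟨E, φ, c⟩ : ℂ) := by
    rw [hIcast ⟨E, φ, c⟩ ht]
    rfl
  obtain ⟨ξ, hξirr, hξinv, m', hm'p, hm'⟩ := exists_invariant_constituent p hp (N.subgroupOf E)
    hDind (rfun E) (fun d : N.subgroupOf E => φ d) (hrchar E)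
    (isCharacter_restrict (N.subgroupOf E) hφchar) hrinv hfinv (Ifun ⟨E, φ, c⟩) hI hnI
  -- transport to E ⊓ N
  let ι : N.subgroupOf E ≃* ↥(E ⊓ N) :=
    { toFun := fun d => ⟨((d : E) : G), ⟨(d : E).2, Subgroup.mem_subgroupOf.mp d.2⟩⟩
      invFun := fun y => ⟨⟨(y : G), y.2.1⟩, Subgroup.mem_subgroupOf.mpr y.2.2⟩
      left_inv := fun d => rfl
      right_inv := fun y => rfl
      map_mul' := fun a b => rfl }
  refine ⟨E, fun y => ξ (ι.symm y), (hl ⟨E, φ, c⟩ ht).1, hsup,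
    Cfsg.Agent.Lib.Helper84.isIrrCharacter_comp_mulEquiv ι.symm hξirr, ?_, m', hm'p, ?_⟩
  · intro g hg x
    exact hξinv ⟨g, hg⟩ (ι.symm x)
  · letI : Fintype ↥(E ⊓ N) := Fintype.ofFinite _
    rw [finsum_eq_sum_of_fintype]
    have h10 := classInner_comp_mulEquiv ι (fun y : ↥(E ⊓ N) => ϑ ⟨(y : G), y.2.2⟩)
      (fun y => ξ (ι.symm y))
    change classInner (fun y : ↥(E ⊓ N) => ϑ ⟨(y : G), y.2.2⟩) (fun y => ξ (ι.symm y)) = (m' : ℂ)
    rw [← h10, ← hm']
    congr 1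

end Cfsg.Agent.S0896
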