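import Cfsg.Statements.S0897
import Cfsg.Agent.S0896
import Cfsg.Agent.Lib.Helper85.DadeExt
import Cfsg.Agent.Lib.Helper85.Ramification

set_option autoImplicit false
open Cfsg

namespace Cfsg.Agent.S0897

open Cfsg.Agent.Lib.Helper83 Cfsg.Agent.Lib.Helper85
open scoped commutatorElement Pointwise

/-- Under the hypotheses, `P' ∩ N = 1`. -/
theorem comm_inf_eq_one {G : Type*} [Group G] [Finite G] (p : ℕ) [Fact p.Prime] (N : Subgroup G)
    (P : Sylow p G)
    (hcent : ∀ x ∈ (P : Subgroup G) ⊓ N, ∀ y ∈ (P : Subgroup G), x * y = y * x)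
    (hlin : ∀ lam : ↥((P : Subgroup G) ⊓ N) → ℂ, Cfsg.IsCharacter ↥((P : Subgroup G) ⊓ N) lam →
      lam 1 = 1 → ∃ μ : ↥(P : Subgroup G) → ℂ, Cfsg.IsCharacter ↥(P : Subgroup G) μ ∧ μ 1 = 1 ∧
        ∀ x : ↥((P : Subgroup G) ⊓ N), μ ⟨(x : G), x.2.1⟩ = lam x) :
    ∀ y ∈ ⁅(P : Subgroup G), (P : Subgroup G)⁆, y ∈ N → y = 1 := by
  classical
  intro y hy hyN
  by_contra hne
  have hyP : y ∈ (P : Subgroup G) := by
    have hle : ⁅(P : Subgroup G), (P : Subgroup G)⁆ ≤ (P : Subgroup G) := by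
      rw [Subgroup.commutator_le]
      intro g₁ h₁ g₂ h₂
      rw [commutatorElement_def]
      exact Subgroup.mul_mem _ (Subgroup.mul_mem _ (Subgroup.mul_mem _ h₁ h₂)
        (Subgroup.inv_mem _ h₁)) (Subgroup.inv_mem _ h₂)
    exact hle hy
  letI : CommGroup ↥((P : Subgroup G) ⊓ N) :=
    { (inferInstance : Group ↥((P : Subgroup G) ⊓ N)) with
      mul_comm := fun a b => Subtype.ext (hcent a a.2 b b.2.1) }
  have hne' : (⟨y, ⟨hyP, hyN⟩⟩ : ↥((P : Subgroup G) ⊓ N)) ≠ 1 := by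
    intro h
    exact hne (congrArg Subtype.val h)
  haveI : NeZero ((Monoid.exponent ↥((P : Subgroup G) ⊓ N) : ℕ) : ℂ) :=
    ⟨by exact_mod_cast Monoid.exponent_ne_zero_of_finite⟩
  obtain ⟨χ, hχ⟩ := CommGroup.exists_apply_ne_one_of_hasEnoughRootsOfUnity
    ↥((P : Subgroup G) ⊓ N) ℂ hne'
  obtain ⟨μ, hμc, hμ1, hμres⟩ := hlin (fun a => ((χ a : ℂˣ) : ℂ)) (isCharacter_of_hom χ) (by simp)
  have h1 : μ ⟨y, hyP⟩ = 1 := by
    apply char_deg_one_commutator hμc hμ1
    rw [← Subgroup.map_subtype_commutator] at hy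
    obtain ⟨z, hz, hzy⟩ := hy
    have : z = ⟨y, hyP⟩ := Subtype.ext hzy
    rw [← this]
    exact hz
  have h2 := hμres ⟨y, ⟨hyP, hyN⟩⟩
  change μ ⟨y, hyP⟩ = ((χ ⟨y, ⟨hyP, hyN⟩⟩ : ℂˣ) : ℂ) at h2
  rw [h1] at h2
  apply hχ
  apply Units.ext
  rw [← h2]
  rfl

theorem commutatorElement_central_mul_left {E : Type*} [Group E] {z : E}
    (hz : z ∈ Subgroup.center E) (a b : E) : ⁅z * a, b⁆ = ⁅a, b⁆ := by
  rw [Subgroup.mem_center_iff] at hz
  rw [commutatorElement_def, commutatorElement_def, mul_inv_rev]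
  calc z * a * b * (a⁻¹ * z⁻¹) * b⁻¹ = z * (a * b * a⁻¹) * z⁻¹ * b⁻¹ := by group
    _ = (a * b * a⁻¹) * z * z⁻¹ * b⁻¹ := by rw [hz (a * b * a⁻¹)]
    _ = a * b * a⁻¹ * b⁻¹ := by group

theorem commutatorElement_central_mul_right {E : Type*} [Group E] {z : E}
    (hz : z ∈ Subgroup.center E) (a b : E) : ⁅a, z * b⁆ = ⁅a, b⁆ := by
  rw [Subgroup.mem_center_iff] at hz
  rw [commutatorElement_def, commutatorElement_def, mul_inv_rev]
  calc a * (z * b) * a⁻¹ * (b⁻¹ * z⁻¹) = a * z * (b * a⁻¹ * b⁻¹) * z⁻¹ := by group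
    _ = z * a * (b * a⁻¹ * b⁻¹) * z⁻¹ := by rw [hz a]
    _ = z * (a * b * a⁻¹ * b⁻¹) * z⁻¹ := by group
    _ = (a * b * a⁻¹ * b⁻¹) * z * z⁻¹ := by rw [hz (a * b * a⁻¹ * b⁻¹)]
    _ = a * b * a⁻¹ * b⁻¹ := by group

/-- For a `p`-elementary subgroup `E`, `E' ∩ N = 1` when `P' ∩ N = 1`. -/
theorem elementary_commutator_inf {G : Type*} [Group G] [Finite G] (p : ℕ) [hp : Fact p.Prime]
    (N : Subgroup G) [hN : N.Normal] (P : Sylow p G)
    (hP' : ∀ y ∈ ⁅(P : Subgroup G), (P : Subgroup G)⁆, y ∈ N → y = 1)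
    (E : Subgroup G) (hE : Cfsg.IsElementary p E) :
    ∀ y ∈ ⁅E, E⁆, y ∈ N → y = 1 := by
  classical
  obtain ⟨x, hxc, hxcop, j, hj⟩ := hE
  obtain ⟨Q⟩ : Nonempty (Sylow p E) := inferInstance
  have hZn : (Subgroup.zpowers x).Normal := by
    constructor
    intro n hn g
    have hnc : n ∈ Subgroup.center E := by
      obtain ⟨i, rfl⟩ := Subgroup.mem_zpowers_iff.mp hn
      exact Subgroup.zpow_mem _ hxc i
    rw [Subgroup.mem_center_iff] at hnc
    rw [hnc g, mul_inv_cancel_right]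
    exact hn
  have hsup : Subgroup.zpowers x ⊔ (Q : Subgroup E) = ⊤ := by
    rw [← Subgroup.index_eq_one]
    have h1 : (Subgroup.zpowers x ⊔ (Q : Subgroup E)).index ∣ p ^ j := by
      rw [← hj]
      exact Subgroup.index_dvd_of_le le_sup_left
    have h2 : (Subgroup.zpowers x ⊔ (Q : Subgroup E)).index ∣ (Q : Subgroup E).index :=
      Subgroup.index_dvd_of_le le_sup_right
    obtain ⟨i, -, hi⟩ := (Nat.dvd_prime_pow hp.out).mp h1
    rcases Nat.eq_zero_or_pos i with h0 | hpos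
    · rw [hi, h0, pow_zero]
    · exfalso
      have h3 : p ∣ (Q : Subgroup E).index := by
        apply Dvd.dvd.trans _ h2
        rw [hi]
        exact dvd_pow_self p hpos.ne'
      exact Q.not_dvd_index h3
  have hdecomp : ∀ e : E, ∃ c ∈ Subgroup.zpowers x, ∃ q ∈ (Q : Subgroup E), e = c * q := by
    intro e
    have he : e ∈ ((Subgroup.zpowers x ⊔ (Q : Subgroup E) : Subgroup E) : Set E) := by
      rw [hsup]
      exact Subgroup.mem_top e
    rw [Subgroup.normal_mul] at he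
    obtain ⟨c, hc, q, hq, hcq⟩ := Set.mem_mul.mp he
    exact ⟨c, hc, q, hq, hcq.symm⟩
  have hzc : ∀ c ∈ Subgroup.zpowers x, c ∈ Subgroup.center E := by
    intro c hc
    obtain ⟨i, rfl⟩ := Subgroup.mem_zpowers_iff.mp hc
    exact Subgroup.zpow_mem _ hxc i
  have hcomm : commutator E ≤ ⁅(Q : Subgroup E), (Q : Subgroup E)⁆ := by
    rw [commutator_def, Subgroup.commutator_le]
    intro e₁ _ e₂ _
    obtain ⟨c₁, hc₁, q₁, hq₁, rfl⟩ := hdecomp e₁
    obtain ⟨c₂, hc₂, q₂, hq₂, rfl⟩ := hdecomp e₂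
    rw [commutatorElement_central_mul_left (hzc c₁ hc₁),
      commutatorElement_central_mul_right (hzc c₂ hc₂)]
    exact Subgroup.commutator_mem_commutator hq₁ hq₂
  set QG : Subgroup G := (Q : Subgroup E).map E.subtype with hQG
  have hQGp : IsPGroup p QG := Q.isPGroup'.map E.subtype
  obtain ⟨P', hP'le⟩ := hQGp.exists_le_sylow
  obtain ⟨g, hg⟩ := MulAction.exists_smul_eq G P P'
  have hEE : ⁅E, E⁆ ≤ ⁅(P' : Subgroup G), (P' : Subgroup G)⁆ := by
    rw [← Subgroup.map_subtype_commutator]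
    calc (commutator E).map E.subtype ≤ (⁅(Q : Subgroup E), (Q : Subgroup E)⁆).map E.subtype :=
          Subgroup.map_mono hcomm
      _ = ⁅QG, QG⁆ := Subgroup.map_commutator _ _ _
      _ ≤ ⁅(P' : Subgroup G), (P' : Subgroup G)⁆ := Subgroup.commutator_mono hP'le hP'le
  intro y hy hyN
  have hy' := hEE hy
  have hmap : (MulAut.conj g • (P : Subgroup G)) =
      (P : Subgroup G).map (MulAut.conj g).toMonoidHom := rfl
  rw [← hg, Sylow.coe_subgroup_smul, hmap, ← Subgroup.map_commutator] at hy'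
  obtain ⟨y₀, hy₀, rfl⟩ := hy'
  have hy₀N : y₀ ∈ N := by
    have h1 : g⁻¹ * (g * y₀ * g⁻¹) * g⁻¹⁻¹ ∈ N := hN.conj_mem _ hyN g⁻¹
    have h2 : g⁻¹ * (g * y₀ * g⁻¹) * g⁻¹⁻¹ = y₀ := by group
    rwa [h2] at h1
  have := hP' y₀ hy₀ hy₀N
  rw [this]
  simp


/-- Let N be a normal subgroup of the finite group G with the index of N a power of the prime p, and P a Sylow p-subgroup of G such that P ⊓ N lies in the centre of P and every character of degree 1 of P ⊓ N is the restriction of a character of degree 1 of P. Then every irreducible character of N invariant under conjugation by G is the restriction of an irreducible character of G. -/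
theorem result {G : Type*} [Group G] [Fintype G] (p : ℕ) [Fact p.Prime] (N : Subgroup G) [hN : N.Normal] (hind : ∃ k : ℕ, N.index = p ^ k) (P : Sylow p G) (hcent : ∀ x ∈ (P : Subgroup G) ⊓ N, ∀ y ∈ (P : Subgroup G), x * y = y * x) (hlin : ∀ lam : ↥((P : Subgroup G) ⊓ N) → ℂ, Cfsg.IsCharacter ↥((P : Subgroup G) ⊓ N) lam → lam 1 = 1 → ∃ μ : ↥(P : Subgroup G) → ℂ, Cfsg.IsCharacter ↥(P : Subgroup G) μ ∧ μ 1 = 1 ∧ ∀ x : ↥((P : Subgroup G) ⊓ N), μ ⟨(x : G), x.2.1⟩ = lam x) (ϑ : N → ℂ) (hϑ : Cfsg.IsIrrCharacter N ϑ) (hinv : ∀ (g : G) (n : N), ϑ ⟨g * n * g⁻¹, hN.conj_mem (n : G) n.2 g⟩ = ϑ n) : ∃ χ : G → ℂ, Cfsg.IsIrrCharacter G χ ∧ ∀ n : N, χ n = ϑ n := by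
  classical
  have hp : p.Prime := Fact.out
  have : Fintype N := Fintype.ofFinite N
  have hP' := comm_inf_eq_one p N P hcent hlin
  obtain ⟨k, hk⟩ := hind
  obtain ⟨E, φ, hEel, hsup, hφirr, -, m, hpm, hm⟩ :=
    Cfsg.Agent.S0896.result p hp N ⟨k, hk⟩ ϑ hϑ hinv
  have hEcomm := elementary_commutator_inf p N P hP' E hEel
  letI : Fintype E := Fintype.ofFinite _
  letI : Fintype (N.subgroupOf E) := Fintype.ofFinite _
  letI : Fintype ↥(E ⊓ N) := Fintype.ofFinite _
  have hidx0 : N.index ≠ 0 := by rw [hk]; exact pow_ne_zero _ hp.ne_zero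
  -- relIndex = index
  have hrel : N.relIndex E = N.index := by
    have h7 : N.relIndex (E ⊔ N) = N.relIndex E := Subgroup.relIndex_sup_right E N
    rw [← h7, hsup, Subgroup.relIndex_top_right]
  -- D' and the isomorphism
  let ι : N.subgroupOf E ≃* ↥(E ⊓ N) :=
    { toFun := fun d => ⟨((d : E) : G), ⟨(d : E).2, Subgroup.mem_subgroupOf.mp d.2⟩⟩
      invFun := fun y => ⟨⟨(y : G), y.2.1⟩, Subgroup.mem_subgroupOf.mpr y.2.2⟩
      left_inv := fun d => rfl
      right_inv := fun y => rfl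
      map_mul' := fun a b => rfl }
  have hDcomm : N.subgroupOf E ⊓ commutator E = ⊥ := by
    rw [eq_bot_iff]
    intro z hz
    rw [Subgroup.mem_bot]
    have hz1 : (z : G) ∈ N := Subgroup.mem_subgroupOf.mp hz.1
    have hz2 : (z : G) ∈ ⁅E, E⁆ := by
      rw [← Subgroup.map_subtype_commutator]
      exact ⟨z, hz.2, rfl⟩
    exact Subtype.ext (hEcomm _ hz2 hz1)
  have hDab : ∀ a b : N.subgroupOf E, a * b = b * a := by
    intro a b
    have h1 : ⁅(a : E), (b : E)⁆ ∈ N.subgroupOf E ⊓ commutator E := by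
      refine ⟨?_, ?_⟩
      · rw [commutatorElement_def]
        exact Subgroup.mul_mem _ (Subgroup.mul_mem _ (Subgroup.mul_mem _ a.2 b.2)
          (Subgroup.inv_mem _ a.2)) (Subgroup.inv_mem _ b.2)
      · rw [commutator_def]
        exact Subgroup.commutator_mem_commutator (Subgroup.mem_top _) (Subgroup.mem_top _)
    rw [hDcomm, Subgroup.mem_bot, commutatorElement_eq_one_iff_mul_comm] at h1
    exact Subtype.ext h1
  have hφ'irr : IsIrrCharacter (N.subgroupOf E) (fun d => φ (ι d)) :=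
    Cfsg.Agent.Lib.Helper84.isIrrCharacter_comp_mulEquiv ι hφirr
  have hφ'1 : (fun d : N.subgroupOf E => φ (ι d)) 1 = 1 := irr_apply_one_of_comm hDab hφ'irr
  let φh : N.subgroupOf E →* ℂˣ :=
    (linCharHom (isCharacter_of_irr hφ'irr) hφ'1).toHomUnits
  obtain ⟨ψ, hψ⟩ := exists_hom_extension_of_inf_commutator (N.subgroupOf E) hDcomm φh
  set Φ : E → ℂ := fun e => ((ψ e : ℂˣ) : ℂ) with hΦ
  have hΦc : IsCharacter E Φ := isCharacter_of_hom ψ
  have hΦres : ∀ d : N.subgroupOf E, Φ d = φ (ι d) := by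
    intro d
    change ((ψ d : ℂˣ) : ℂ) = _
    rw [hψ d]
    rfl
  -- the counting
  have : Fintype (IrrCharacter G) := Fintype.ofFinite _
  have hindc : IsCharacter G (Cfsg.indFun N ϑ) :=
    Cfsg.Agent.Lib.Helper34.isCharacter_indFun N (isCharacter_of_irr hϑ)
  set a : IrrCharacter G → ℕ := fun χ => irrMult (Cfsg.indFun N ϑ) χ with ha
  have hacast : ∀ χ : IrrCharacter G, (a χ : ℂ) = classInner (Cfsg.indFun N ϑ) (χ : G → ℂ) :=
    fun χ => irrMult_cast hindc χ
  have hbex : ∀ χ : IrrCharacter G, ∃ n : ℕ,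
      classInner (fun e : E => (χ : G → ℂ) e) Φ = n := fun χ =>
    classInner_char_nat (isCharacter_restrict E (IrrCharacter_isCharacter χ)) hΦc
  choose b hb using hbex
  have hdecomp : Cfsg.indFun N ϑ = ∑ χ : IrrCharacter G, (a χ : ℂ) • (χ : G → ℂ) :=
    char_eq_sum_irrMult hindc
  have hres : (fun e : E => Cfsg.indFun N ϑ e) =
      ∑ χ : IrrCharacter G, (a χ : ℂ) • (fun e : E => (χ : G → ℂ) e) := by
    funext e
    have := congrFun hdecomp (e : G)
    simp only [Finset.sum_apply, Pi.smul_apply, smul_eq_mul] at this ⊢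
    exact this
  have hsum : (m : ℂ) = ((∑ χ : IrrCharacter G, a χ * b χ : ℕ) : ℂ) := by
    have h1 := classInner_restrict_indFun_invariant N ϑ hinv E Φ
    rw [hrel, div_self (by exact_mod_cast hidx0), one_mul] at h1
    have h2 : classInner (fun d : N.subgroupOf E =>
        ϑ ⟨((d : E) : G), Subgroup.mem_subgroupOf.mp d.2⟩) (fun d : N.subgroupOf E => Φ d) =
        (m : ℂ) := by
      rw [← hm, finsum_eq_sum_of_fintype]
      have h3 := classInner_comp_mulEquiv ι (fun y : ↥(E ⊓ N) => ϑ ⟨(y : G), y.2.2⟩) φ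
      change _ = classInner (fun y : ↥(E ⊓ N) => ϑ ⟨(y : G), y.2.2⟩) φ
      rw [← h3]
      congr 1
      funext d
      exact hΦres d
    rw [h2] at h1
    rw [← h1, hres, classInner_sum_left]
    push_cast
    apply Finset.sum_congr rfl
    intro χ _
    rw [classInner_smul_left, hb]
  have hsum' : m = ∑ χ : IrrCharacter G, a χ * b χ := by exact_mod_cast hsum
  obtain ⟨χ, hχp⟩ : ∃ χ : IrrCharacter G, ¬ p ∣ a χ * b χ := by
    by_contra hcon
    push Not at hcon
    apply hpm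
    rw [hsum']
    exact Finset.dvd_sum (fun χ _ => hcon χ)
  have hap : ¬ p ∣ a χ := fun h => hχp (Dvd.dvd.mul_right h _)
  have ha0 : a χ ≠ 0 := by
    intro h0
    apply hap
    rw [h0]
    exact dvd_zero p
  have hχcl : IsClassFunction G (χ : G → ℂ) := char_isClassFunction (IrrCharacter_isCharacter χ)
  have hconstval : classInner (fun n : N => (χ : G → ℂ) n) ϑ = (a χ : ℂ) := by
    have h1 := Cfsg.Agent.Lib.Helper04.frobenius_reciprocity N ϑ (χ : G → ℂ) hχcl
    rw [← hacast] at h1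
    rw [← classInner_conj_symm, ← h1, Complex.conj_natCast]
  have hconst : classInner (fun n : N => (χ : G → ℂ) n) ϑ ≠ 0 := by
    rw [hconstval]
    exact_mod_cast ha0
  have hcl := clifford_finset hN χ.2 hϑ hconst
  have himage : Finset.univ.image (fun g : G => conjFun hN ϑ g) = {ϑ} := by
    have hconj : ∀ g : G, conjFun hN ϑ g = ϑ := by
      intro g
      funext n
      exact hinv g n
    ext f
    simp only [Finset.mem_image, Finset.mem_univ, true_and, Finset.mem_singleton, hconj]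
    constructor
    · rintro ⟨_, rfl⟩; rfl
    · rintro rfl; exact ⟨1, rfl⟩
  rw [himage, Finset.sum_singleton, hconstval] at hcl
  have hdvd : a χ ∣ N.index := ramification_dvd_index N χ.2 hϑ (a χ) hcl
  rw [hk] at hdvd
  obtain ⟨i, -, hi⟩ := (Nat.dvd_prime_pow hp).mp hdvd
  have ha1 : a χ = 1 := by
    rcases Nat.eq_zero_or_pos i with h0 | hpos
    · rw [hi, h0, pow_zero]
    · exfalso
      apply hap
      rw [hi]
      exact dvd_pow_self p hpos.ne'
  refine ⟨χ.1, χ.2, fun n => ?_⟩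
  have := congrFun hcl n
  rw [ha1] at this
  simpa using this

end Cfsg.Agent.S0897
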