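import Cfsg.Statements.S0900
import Cfsg.Agent.Lib.Helper84.Ramified

set_option autoImplicit false
open Cfsg

namespace Cfsg.Agent.S0900

open Cfsg.Agent.Lib.Helper84
open scoped ComplexConjugate

section

universe u

variable {G : Type u} [Group G] [Fintype G] (N : Subgroup G) [hN : N.Normal] [Fintype N]

omit hN in
/-- The sum of `|χ g|²` over the group splits into the part over `N` and the part outside `N`. -/
theorem normSq_split (χ : G → ℂ) (hχ : Cfsg.IsIrrCharacter G χ) :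
    ∃ Sout : ℝ, 0 ≤ Sout ∧ (Sout = 0 ↔ ∀ g : G, g ∉ N → χ g = 0) ∧
      (Nat.card G : ℂ) = (Nat.card N : ℂ) * classInner (fun n : N => χ n) (fun n : N => χ n) +
        (Sout : ℂ) := by
  classical
  refine ⟨∑ g ∈ Finset.univ.filter (fun g : G => g ∉ N), Complex.normSq (χ g), ?_, ?_, ?_⟩
  · exact Finset.sum_nonneg fun g _ => Complex.normSq_nonneg _
  · rw [Finset.sum_eq_zero_iff_of_nonneg (fun g _ => Complex.normSq_nonneg _)]
    constructor
    · intro h g hg
      exact Complex.normSq_eq_zero.mp (h g (Finset.mem_filter.mpr ⟨Finset.mem_univ _, hg⟩))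
    · intro h g hg
      rw [h g (Finset.mem_filter.mp hg).2, map_zero]
  · have h1 := Cfsg.Agent.Lib.Helper83.irr_inner_self ⟨χ, hχ⟩
    rw [Cfsg.Agent.Lib.Helper83.classInner_def] at h1
    have hG : (Nat.card G : ℂ) ≠ 0 := Cfsg.Agent.Lib.Helper83.card_ne_zero_complex
    have hNc : (Nat.card N : ℂ) ≠ 0 := Cfsg.Agent.Lib.Helper83.card_ne_zero_complex
    have h2 : ∑ g : G, χ g * conj (χ g) = (Nat.card G : ℂ) := by
      rw [inv_mul_eq_iff_eq_mul₀ hG, mul_one] at h1
      exact h1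
    rw [Cfsg.Agent.Lib.Helper83.classInner_def, ← mul_assoc, mul_inv_cancel₀ hNc, one_mul, ← h2,
      ← Finset.sum_filter_add_sum_filter_not Finset.univ (fun g : G => g ∈ N)]
    congr 1
    · rw [Finset.sum_subtype (Finset.univ.filter (fun g : G => g ∈ N)) (p := fun g => g ∈ N)
        (by simp) (fun g => χ g * conj (χ g))]
    · rw [Complex.ofReal_sum]
      refine Finset.sum_congr rfl fun g _ => ?_
      rw [Complex.mul_conj]

end

/-- Let N be a normal subgroup of the finite group G, χ an irreducible character of G and ϑ an irreducible character of N having nonzero inner product with the restriction of χ. Consider: (a) the restriction of χ to N is e • ϑ for a natural number e with e ^ 2 equal to the index of N; (b) χ vanishes outside N and ϑ is invariant under conjugation by G; (c) ϑ is invariant and every irreducible character of G having nonzero inner product with the function induced from ϑ equals χ. Then (a) ↔ (b) and (a) ↔ (c).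 -/
theorem result {G : Type*} [Group G] [Fintype G] (N : Subgroup G) [hN : N.Normal] [Fintype N] (χ : G → ℂ) (hχ : Cfsg.IsIrrCharacter G χ) (ϑ : N → ℂ) (hϑ : Cfsg.IsIrrCharacter N ϑ) (hcon : Cfsg.classInner (fun n : N => χ n) ϑ ≠ 0) : ((∃ e : ℕ, (fun n : N => χ n) = (e : ℂ) • ϑ ∧ e ^ 2 = N.index) ↔ ((∀ g : G, g ∉ N → χ g = 0) ∧ ∀ (g : G) (n : N), ϑ ⟨g * n * g⁻¹, hN.conj_mem (n : G) n.2 g⟩ = ϑ n)) ∧ ((∃ e : ℕ, (fun n : N => χ n) = (e : ℂ) • ϑ ∧ e ^ 2 = N.index) ↔ (∀ (g : G) (n : N), ϑ ⟨g * n * g⁻¹, hN.conj_mem (n : G) n.2 g⟩ = ϑ n ∧ ∀ ψ : G → ℂ, Cfsg.IsIrrCharacter G ψ → Cfsg.classInner (Cfsg.indFun N ϑ) ψ ≠ 0 → ψ = χ)) := by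
  classical
  have hχc : IsCharacter G χ := Cfsg.Agent.Lib.Helper83.isCharacter_of_irr hχ
  have hχcl : IsClassFunction G χ := Cfsg.Agent.Lib.Helper83.char_isClassFunction hχc
  have hG : (Nat.card G : ℂ) ≠ 0 := Cfsg.Agent.Lib.Helper83.card_ne_zero_complex
  have hNc : (Nat.card N : ℂ) ≠ 0 := Cfsg.Agent.Lib.Helper83.card_ne_zero_complex
  have hcard : (Nat.card G : ℂ) = (Nat.card N : ℂ) * (N.index : ℂ) := by
    rw [← N.card_mul_index]; push_cast; rfl
  obtain ⟨Sout, hS0, hSiff, hSeq⟩ := normSq_split N χ hχ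
  -- norm of a multiple of ϑ
  have hnorm : ∀ e : ℕ, (fun n : N => χ n) = (e : ℂ) • ϑ →
      classInner (fun n : N => χ n) (fun n : N => χ n) = ((e ^ 2 : ℕ) : ℂ) := by
    intro e he
    rw [he, Cfsg.Agent.Lib.Helper83.classInner_smul_left,
      Cfsg.Agent.Lib.Helper83.classInner_smul_right,
      Cfsg.Agent.Lib.Helper83.irr_inner_self ⟨ϑ, hϑ⟩, Complex.conj_natCast]
    push_cast; ring
  -- (a) gives invariance
  have ha_inv : (∃ e : ℕ, (fun n : N => χ n) = (e : ℂ) • ϑ ∧ e ^ 2 = N.index) →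
      ∀ g : G, conjFun N g ϑ = ϑ := by
    rintro ⟨e, he, he2⟩ g
    have he0 : (e : ℂ) ≠ 0 := by
      intro h0
      apply hcon
      rw [he, h0, zero_smul]
      exact Cfsg.Agent.Lib.Helper83.classInner_zero_left _
    have h1 := conjFun_restrict N hχcl g
    rw [he] at h1
    have h2 : conjFun N g ((e : ℂ) • ϑ) = (e : ℂ) • conjFun N g ϑ := rfl
    rw [h2] at h1
    funext n
    have := congrFun h1 n
    simp only [Pi.smul_apply, smul_eq_mul] at this
    exact mul_left_cancel₀ he0 this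
  -- the decomposition of the induced character in the invariant case
  have hΘ : IsCharacter G (indFun N ϑ) :=
    Cfsg.Agent.Lib.Helper34.isCharacter_indFun N (Cfsg.Agent.Lib.Helper83.isCharacter_of_irr hϑ)
  have : Fintype (IrrCharacter G) := Fintype.ofFinite _
  have hdec := Cfsg.Agent.Lib.Helper83.char_eq_sum_irrMult hΘ
  have hnormΘ : (∀ g : G, conjFun N g ϑ = ϑ) →
      ∑ φ : IrrCharacter G, Cfsg.Agent.Lib.Helper83.irrMult (indFun N ϑ) φ *
        Cfsg.Agent.Lib.Helper83.irrMult (indFun N ϑ) φ = N.index := by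
    intro hinv
    have h1 := classInner_indFun_self_of_invariant N hϑ hinv
    conv_lhs at h1 => rw [hdec]
    rw [Cfsg.Agent.Lib.Helper83.classInner_sum_irr_self] at h1
    have : ((∑ φ : IrrCharacter G, Cfsg.Agent.Lib.Helper83.irrMult (indFun N ϑ) φ *
        Cfsg.Agent.Lib.Helper83.irrMult (indFun N ϑ) φ : ℕ) : ℂ) = (N.index : ℂ) := by
      rw [← h1]
      push_cast
      exact Finset.sum_congr rfl fun φ _ => by rw [Complex.conj_natCast]
    exact_mod_cast this
  have hmχ : ∀ e : ℕ, (fun n : N => χ n) = (e : ℂ) • ϑ →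
      Cfsg.Agent.Lib.Helper83.irrMult (indFun N ϑ) ⟨χ, hχ⟩ = e := by
    intro e he
    have h1 := Cfsg.Agent.Lib.Helper83.irrMult_cast hΘ ⟨χ, hχ⟩
    rw [Cfsg.Agent.Lib.Helper34.classInner_indFun_left N ϑ χ hχcl] at h1
    change (_ : ℂ) = classInner ϑ (fun n : N => χ n) at h1
    rw [he, Cfsg.Agent.Lib.Helper83.classInner_smul_right,
      Cfsg.Agent.Lib.Helper83.irr_inner_self ⟨ϑ, hϑ⟩, Complex.conj_natCast, mul_one] at h1
    exact_mod_cast h1
  refine ⟨⟨?_, ?_⟩, ⟨?_, ?_⟩⟩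
  · -- (a) → (b)
    intro ha
    have hinv := ha_inv ha
    obtain ⟨e, he, he2⟩ := ha
    refine ⟨?_, fun g n => congrFun (hinv g) n⟩
    rw [← hSiff]
    rw [hnorm e he, he2, ← hcard] at hSeq
    have : (Sout : ℂ) = 0 := by
      have := hSeq
      linear_combination -this
    exact_mod_cast this
  · -- (b) → (a)
    rintro ⟨hvan, hinv⟩
    have hinv' : ∀ g : G, conjFun N g ϑ = ϑ := fun g => funext (hinv g)
    obtain ⟨e, -, he⟩ := restrict_eq_smul_of_invariant N hχ hϑ hinv' hcon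
    refine ⟨e, he, ?_⟩
    rw [hSiff.mpr hvan, hnorm e he, hcard] at hSeq
    simp only [Complex.ofReal_zero, add_zero] at hSeq
    have := mul_left_cancel₀ hNc hSeq
    exact_mod_cast this.symm
  · -- (a) → (c)
    intro ha g n
    have hinv := ha_inv ha
    refine ⟨congrFun (hinv g) n, ?_⟩
    obtain ⟨e, he, he2⟩ := ha
    intro ψ hψ hne
    by_contra hψχ
    have hsum := hnormΘ hinv
    have hmψ : Cfsg.Agent.Lib.Helper83.irrMult (indFun N ϑ) ⟨ψ, hψ⟩ ≠ 0 := by
      intro h0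
      apply hne
      rw [← Cfsg.Agent.Lib.Helper83.irrMult_cast hΘ ⟨ψ, hψ⟩, h0, Nat.cast_zero]
    have hne' : (⟨ψ, hψ⟩ : IrrCharacter G) ≠ ⟨χ, hχ⟩ := fun h => hψχ (congrArg Subtype.val h)
    have hle : Cfsg.Agent.Lib.Helper83.irrMult (indFun N ϑ) ⟨χ, hχ⟩ *
          Cfsg.Agent.Lib.Helper83.irrMult (indFun N ϑ) ⟨χ, hχ⟩ +
        Cfsg.Agent.Lib.Helper83.irrMult (indFun N ϑ) ⟨ψ, hψ⟩ *
          Cfsg.Agent.Lib.Helper83.irrMult (indFun N ϑ) ⟨ψ, hψ⟩ ≤ N.index := by
      have hsub := Finset.sum_le_sum_of_subset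
        (f := fun φ : IrrCharacter G => Cfsg.Agent.Lib.Helper83.irrMult (indFun N ϑ) φ *
          Cfsg.Agent.Lib.Helper83.irrMult (indFun N ϑ) φ)
        (Finset.subset_univ ({⟨χ, hχ⟩, ⟨ψ, hψ⟩} : Finset (IrrCharacter G)))
      rw [Finset.sum_pair hne'.symm] at hsub
      rw [← hsum]
      exact hsub
    rw [hmχ e he, ← he2] at hle
    have : 1 ≤ Cfsg.Agent.Lib.Helper83.irrMult (indFun N ϑ) ⟨ψ, hψ⟩ *
        Cfsg.Agent.Lib.Helper83.irrMult (indFun N ϑ) ⟨ψ, hψ⟩ :=
      Nat.mul_pos (Nat.pos_of_ne_zero hmψ) (Nat.pos_of_ne_zero hmψ)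
    nlinarith
  · -- (c) → (a)
    intro hc
    have hinv' : ∀ g : G, conjFun N g ϑ = ϑ := fun g => funext fun n => (hc g n).1
    have huniq := (hc 1 1).2
    obtain ⟨e, -, he⟩ := restrict_eq_smul_of_invariant N hχ hϑ hinv' hcon
    refine ⟨e, he, ?_⟩
    have hsum := hnormΘ hinv'
    have hother : ∀ φ : IrrCharacter G, φ ≠ ⟨χ, hχ⟩ →
        Cfsg.Agent.Lib.Helper83.irrMult (indFun N ϑ) φ = 0 := by
      intro φ hφ
      by_contra h0
      apply hφ
      apply Subtype.ext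
      apply huniq φ.1 φ.2
      rw [← Cfsg.Agent.Lib.Helper83.irrMult_cast hΘ φ]
      exact_mod_cast h0
    rw [Finset.sum_eq_single (⟨χ, hχ⟩ : IrrCharacter G)
      (fun φ _ hφ => by rw [hother φ hφ, mul_zero])
      (fun h => absurd (Finset.mem_univ _) h), hmχ e he] at hsum
    rw [← hsum]; ring

end Cfsg.Agent.S0900
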