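import Cfsg.Statements.S0901
import Cfsg.Agent.Lib.Helper21.RootsMod

set_option autoImplicit false
open Cfsg

namespace Cfsg.Agent.S0901

/-- Let M be a maximal ideal of the ring of algebraic integers containing the prime p, and let U be the set of complex roots of unity of order prime to p. Then reduction modulo M is injective on U, and every algebraic integer not in M is congruent modulo M to an element of U (so U maps bijectively onto the nonzero residues). -/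
theorem result (p : ℕ) [Fact p.Prime] (M : Ideal Cfsg.AlgInt) (hM : Cfsg.IsPModular p M) : (∀ ε₁ ε₂ : Cfsg.AlgInt, (∃ m : ℕ, ¬ p ∣ m ∧ (ε₁ : ℂ) ^ m = 1) → (∃ m : ℕ, ¬ p ∣ m ∧ (ε₂ : ℂ) ^ m = 1) → ε₁ - ε₂ ∈ M → ε₁ = ε₂) ∧ (∀ a : Cfsg.AlgInt, a ∉ M → ∃ ε : Cfsg.AlgInt, (∃ m : ℕ, ¬ p ∣ m ∧ (ε : ℂ) ^ m = 1) ∧ a - ε ∈ M) := by
  obtain ⟨hp, hMax, hpM⟩ := hM
  haveI := hMax
  refine ⟨?_, ?_⟩
  · rintro ε₁ ε₂ ⟨m₁, h1, e1⟩ ⟨m₂, h2, e2⟩ hmem
    have e1' : ε₁ ^ m₁ = 1 := by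
      apply Subtype.ext; simpa using e1
    have e2' : ε₂ ^ m₂ = 1 := by
      apply Subtype.ext; simpa using e2
    exact Cfsg.Agent.Lib.Helper21.root_of_unity_inj hp hMax.ne_top hpM h1 h2 e1' e2' hmem
  · intro a ha
    letI : Field (Cfsg.AlgInt ⧸ M) := Ideal.Quotient.field M
    haveI : CharP (Cfsg.AlgInt ⧸ M) p := by
      rw [CharP.charP_iff_prime_eq_zero hp]
      have := (Ideal.Quotient.eq_zero_iff_mem (I := M)).2 hpM
      rwa [map_natCast] at this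
    have hx0 : Ideal.Quotient.mk M a ≠ 0 := by
      intro h
      exact ha ((Ideal.Quotient.eq_zero_iff_mem (I := M)).1 h)
    have haint : IsIntegral ℤ a := IsIntegralClosure.isIntegral ℤ ℂ a
    have hxint : IsIntegral ℤ (Ideal.Quotient.mk M a) := haint.map (Ideal.Quotient.mkₐ ℤ M)
    obtain ⟨n, hn, hxn⟩ :=
      Cfsg.Agent.Lib.Helper21.exists_pow_eq_one_of_isIntegral p _ hxint hx0
    obtain ⟨ε, hε, hεx⟩ := Cfsg.Agent.Lib.Helper21.exists_root_of_unity_lift hp hpM hn _ hxn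
    refine ⟨ε, ⟨n, hn, ?_⟩, ?_⟩
    · have := congrArg (fun w : Cfsg.AlgInt => (w : ℂ)) hε
      simpa using this
    · rw [← Ideal.Quotient.eq_zero_iff_mem, map_sub, hεx, sub_self]

end Cfsg.Agent.S0901
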