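import Cfsg.Statements.S0904
import Cfsg.Agent.Lib.Helper65.PaQbR

set_option autoImplicit false
open Cfsg

namespace Cfsg.Agent.S0904

theorem factorization_r (p q r a b : ℕ) (hp : p.Prime) (hq : q.Prime) (hr : r.Prime)
    (hpr : p ≠ r) (hqr : q ≠ r) : (p ^ a * q ^ b * r).factorization r = 1 := by
  have h1 : p ^ a ≠ 0 := pow_ne_zero _ hp.ne_zero
  have h2 : q ^ b ≠ 0 := pow_ne_zero _ hq.ne_zero
  rw [Nat.factorization_mul (mul_ne_zero h1 h2) hr.ne_zero, Nat.factorization_mul h1 h2]
  simp only [Finsupp.add_apply, Nat.factorization_pow, Finsupp.smul_apply, smul_eq_mul]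
  rw [hp.factorization, hq.factorization, hr.factorization]
  simp [Finsupp.single_apply, hpr, hqr]

/-- an element of prime order `l ∈ {p, q}` commuting with an element of order `r` is impossible -/
theorem no_commuting {G : Type*} [Group G] [Finite G] [IsSimpleGroup G]
    (hna : ∃ a b : G, a * b ≠ b * a)
    (p q r a b : ℕ) (hp : p.Prime) (hq : q.Prime) (hr : r.Prime)
    (hpr : p ≠ r) (hqr : q ≠ r)
    (hcard : Nat.card G = p ^ a * q ^ b * r) (x y : G) (hx : orderOf x = p) (hy : orderOf y = r)
    (hc : Commute x y) : False := by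
  have hcop : (orderOf x).Coprime (orderOf y) := by
    rw [hx, hy]; exact (Nat.coprime_primes hp hr).mpr hpr
  have hord : orderOf (x * y) = p * r := by
    rw [hc.orderOf_mul_eq_mul_orderOf_of_coprime hcop, hx, hy]
  exact Cfsg.Agent.Lib.Helper65.no_pr_element hna p q r a b hp hq hr hpr hqr hcard (x * y)
    (by rw [hord]; exact dvd_mul_right _ _) (by rw [hord]; exact dvd_mul_left _ _)

/-- Let G be a finite simple group of order p ^ a * q ^ b * r with p, q, r distinct primes. Then every Sylow r-subgroup S of G satisfies C_G(S) = S. -/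
theorem result {G : Type*} [Group G] [Finite G] [IsSimpleGroup G] (p q r a b : ℕ) (hp : p.Prime) (hq : q.Prime) [Fact r.Prime] (hpq : p ≠ q) (hpr : p ≠ r) (hqr : q ≠ r) (hcard : Nat.card G = p ^ a * q ^ b * r) (S : Sylow r G) : Subgroup.centralizer (S : Set G) = (S : Subgroup G) := by
  have hr : r.Prime := Fact.out
  have hScard : Nat.card (S : Subgroup G) = r := by
    rw [Sylow.card_eq_multiplicity, hcard, factorization_r p q r a b hp hq hr hpr hqr, pow_one]
  -- `S` is cyclic of prime order, hence commutative
  have hScomm : ∀ x ∈ (S : Subgroup G), ∀ y ∈ (S : Subgroup G), x * y = y * x := by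
    haveI : Fact (Nat.card (S : Subgroup G)).Prime := ⟨by rw [hScard]; exact hr⟩
    haveI : IsCyclic (S : Subgroup G) := isCyclic_of_prime_card rfl
    intro x hx y hy
    have := IsCyclic.commGroup.mul_comm (⟨x, hx⟩ : (S : Subgroup G)) ⟨y, hy⟩
    exact congrArg Subtype.val this
  have hle : (S : Subgroup G) ≤ Subgroup.centralizer (S : Set G) := by
    intro x hx
    rw [Subgroup.mem_centralizer_iff]
    intro y hy
    exact hScomm y hy x hx
  by_cases hna : ∃ a b : G, a * b ≠ b * a
  · -- non-abelian case
    symm
    by_contra hne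
    have hlt : (S : Subgroup G) < Subgroup.centralizer (S : Set G) := lt_of_le_of_ne hle hne
    have hcardlt : Nat.card (S : Subgroup G) <
        Nat.card (Subgroup.centralizer (S : Set G)) := by
      have := Subgroup.card_dvd_of_le hle
      rcases Nat.lt_or_ge (Nat.card (S : Subgroup G))
        (Nat.card (Subgroup.centralizer (S : Set G))) with h | h
      · exact h
      · exfalso
        have heq : Nat.card (S : Subgroup G) =
            Nat.card (Subgroup.centralizer (S : Set G)) :=
          le_antisymm (Nat.le_of_dvd Nat.card_pos this) h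
        exact hne (Subgroup.eq_of_le_of_card_ge hle heq.ge)
    obtain ⟨m, hm⟩ := Subgroup.card_dvd_of_le hle
    rw [hScard] at hm hcardlt
    have hm1 : 1 < m := by
      by_contra h
      have h1 : m ≤ 1 := not_lt.mp h
      have h2 : r * m ≤ r := by nlinarith
      rw [hm] at hcardlt
      omega
    obtain ⟨l, hl, hlm⟩ := Nat.exists_prime_and_dvd (by omega : m ≠ 1)
    have hCG : Nat.card (Subgroup.centralizer (S : Set G)) ∣ Nat.card G :=
      Subgroup.card_subgroup_dvd_card _
    have hmdiv : m ∣ p ^ a * q ^ b := by
      rw [hm, hcard, mul_comm r m] at hCG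
      exact (Nat.mul_dvd_mul_iff_right hr.pos).mp hCG
    have hl' : l = p ∨ l = q := by
      have := hlm.trans hmdiv
      rcases (Nat.Prime.dvd_mul hl).mp this with h | h
      · left; exact (Nat.prime_dvd_prime_iff_eq hl hp).mp (hl.dvd_of_dvd_pow h)
      · right; exact (Nat.prime_dvd_prime_iff_eq hl hq).mp (hl.dvd_of_dvd_pow h)
    haveI : Fact l.Prime := ⟨hl⟩
    have hlC : l ∣ Nat.card (Subgroup.centralizer (S : Set G)) := by
      rw [hm]; exact Dvd.dvd.mul_left hlm r
    obtain ⟨x, hx⟩ := exists_prime_orderOf_dvd_card' l hlC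
    have hrS : r ∣ Nat.card (S : Subgroup G) := by rw [hScard]
    obtain ⟨y, hy⟩ := exists_prime_orderOf_dvd_card' r hrS
    have hxo : orderOf (x : G) = l := by rw [Subgroup.orderOf_coe]; exact hx
    have hyo : orderOf (y : G) = r := by rw [Subgroup.orderOf_coe]; exact hy
    have hcomm : Commute (x : G) (y : G) := by
      have := x.2
      rw [Subgroup.mem_centralizer_iff] at this
      exact (this (y : G) y.2).symm
    rcases hl' with h | h
    · rw [h] at hxo
      exact no_commuting hna p q r a b hp hq hr hpr hqr hcard _ _ hxo hyo hcomm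
    · rw [h] at hxo
      have hcard' : Nat.card G = q ^ b * p ^ a * r := by rw [hcard]; ring
      exact no_commuting hna q p r b a hq hp hr hqr hpr hcard' _ _ hxo hyo hcomm
  · -- abelian case: every subgroup is normal, so `S = ⊤`
    push_neg at hna
    haveI : (S : Subgroup G).Normal := ⟨fun n hn g => by
      have : g * n * g⁻¹ = n := by rw [hna g n, mul_inv_cancel_right]
      rw [this]; exact hn⟩
    rcases Subgroup.Normal.eq_bot_or_eq_top (inferInstance : (S : Subgroup G).Normal) with h | h
    · exfalso
      rw [h, Subgroup.card_bot] at hScard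
      exact hr.one_lt.ne hScard
    · rw [h]
      apply le_antisymm le_top
      intro x _
      rw [Subgroup.mem_centralizer_iff]
      intro y _
      exact hna y x

end Cfsg.Agent.S0904
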