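import Cfsg.Statements.S0915
import Cfsg.Agent.Lib.Helper81.BlockNilp
import Cfsg.Agent.Lib.Helper81.PSolvable
import Cfsg.Agent.Lib.Helper83.Decompose

set_option autoImplicit false
open Cfsg

namespace Cfsg.Agent.S0915

open Cfsg.Agent.Lib.Helper81 Cfsg.Agent.Lib.Helper82

/-- Let G be a finite p-solvable group with trivial largest normal subgroup of order prime to p. Then any two irreducible characters of G lie in the same block relative to every maximal ideal M of the algebraic integers containing p: G has a single p-block. -/
theorem result {G : Type*} [Group G] [Finite G] (p : ℕ) [Fact p.Prime] (M : Ideal Cfsg.AlgInt) (hM : Cfsg.IsPModular p M) (hsolv : Cfsg.IsPSolvable p G) (hcore : Cfsg.pPrimeCore p G = ⊥) (χ ψ : Cfsg.IrrCharacter G) : Cfsg.SameBlock M (χ : G → ℂ) (ψ : G → ℂ) := by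
  classical
  haveI : Fintype G := Fintype.ofFinite G
  haveI : Finite (IrrCharacter G) := Cfsg.Agent.Lib.Helper83.irr_finite
  haveI : Fintype (IrrCharacter G) := Fintype.ofFinite _
  have hprime : M.IsPrime := hM.2.1.isPrime
  haveI hPn : (pCore p G).Normal := Cfsg.Agent.Lib.Helper81.pCore_normal p
  have hPp : IsPGroup p (pCore p G) := isPGroup_pCore p
  have hC := centralizer_pCore_le hsolv hcore
  intro g
  by_cases hg : g ∈ Subgroup.centralizer (pCore p G : Set G)
  · have h1 := memLocalIdeal_centralChar_sub_of_mem hM (pCore p G) hPp g (hC hg) χ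
    have h2 := memLocalIdeal_centralChar_sub_of_mem hM (pCore p G) hPp g (hC hg) ψ
    have := memLocalIdeal_sub hprime h1 h2
    simpa using this
  · have h1 := memLocalIdeal_centralChar_of_not_mem_centralizer hM (pCore p G) hPp g hg χ
    have h2 := memLocalIdeal_centralChar_of_not_mem_centralizer hM (pCore p G) hPp g hg ψ
    exact memLocalIdeal_sub hprime h1 h2

end Cfsg.Agent.S0915
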