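import Cfsg.Statements.S0916
import Cfsg.Agent.Lib.Helper21.SylowAux

set_option autoImplicit false
open Cfsg

namespace Cfsg.Agent.S0916

open Cfsg.Agent.Lib.Helper21

/-- Key step for part (i): a conjugate of `g` centralizing `P` is conjugate to `g` by an element
of the normalizer of `P`. -/
theorem conj_by_normalizer {G : Type*} [Group G] [Finite G] (p : ℕ) [Fact p.Prime]
    (P : Subgroup G) (hP : IsPGroup p P) (g : G)
    (S : Sylow p (Subgroup.centralizer ({g} : Set G)))
    (hS : (S : Subgroup (Subgroup.centralizer ({g} : Set G))).map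
      (Subgroup.centralizer ({g} : Set G)).subtype = P)
    (c : G) (hgc : IsConj g c) (hc : c ∈ Subgroup.centralizer (P : Set G)) :
    ∃ n ∈ Subgroup.normalizer (P : Set G), n * g * n⁻¹ = c := by
  obtain ⟨x, hx⟩ := isConj_iff.1 hgc
  -- `Q = x⁻¹ P x` is a `p`-subgroup of `C(g)`
  let Q : Subgroup G := P.map (MulAut.conj x⁻¹).toMonoidHom
  have hQ : IsPGroup p Q := hP.map _
  have hQH : Q ≤ Subgroup.centralizer ({g} : Set G) := by
    rintro _ ⟨t, ht, rfl⟩
    rw [Subgroup.mem_centralizer_iff]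
    intro y hy
    rw [Set.mem_singleton_iff] at hy
    subst hy
    have h1 := (Subgroup.mem_centralizer_iff.1 hc) t ht
    rw [← hx] at h1
    simp only [MulEquiv.coe_toMonoidHom, MulAut.conj_apply, inv_inv]
    have h2 : y = x⁻¹ * (x * y * x⁻¹) * x := by group
    calc y * (x⁻¹ * t * x) = x⁻¹ * ((x * y * x⁻¹) * t) * x := by group
      _ = x⁻¹ * (t * (x * y * x⁻¹)) * x := by rw [h1]
      _ = x⁻¹ * t * x * y := by group
  obtain ⟨h, hh, hconj⟩ := exists_conj_mem_of_sylow_subgroup S hS hQ hQH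
  refine ⟨x * h, ?_, ?_⟩
  · have : (x * h)⁻¹ ∈ Subgroup.normalizer (P : Set G) := by
      apply Subgroup.mem_normalizer_fintype
      intro t ht
      have := hconj (x⁻¹ * t * x) ⟨t, ht, by simp⟩
      have e : (x * h)⁻¹ * t * (x * h)⁻¹⁻¹ = h⁻¹ * (x⁻¹ * t * x) * h := by group
      rw [e]; exact this
    simpa using (Subgroup.normalizer (P : Set G)).inv_mem this
  · have hg : h * g = g * h := by
      have := (Subgroup.mem_centralizer_iff.1 hh) g (Set.mem_singleton g)
      exact this.symm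
    rw [← hx]
    calc x * h * g * (x * h)⁻¹ = x * (h * g) * h⁻¹ * x⁻¹ := by group
      _ = x * (g * h) * h⁻¹ * x⁻¹ := by rw [hg]
      _ = x * g * x⁻¹ := by group

theorem result {G : Type*} [Group G] [Finite G] (p : ℕ) [Fact p.Prime] (P : Subgroup G) (hP : IsPGroup p P) : (∀ g : G, (∃ S : Sylow p (Subgroup.centralizer ({g} : Set G)), (S : Subgroup (Subgroup.centralizer ({g} : Set G))).map (Subgroup.centralizer ({g} : Set G)).subtype = P) → (∃ c : G, IsConj g c ∧ c ∈ Subgroup.centralizer (P : Set G)) ∧ (∀ c₁ c₂ : G, IsConj g c₁ → IsConj g c₂ → c₁ ∈ Subgroup.centralizer (P : Set G) → c₂ ∈ Subgroup.centralizer (P : Set G) → ∃ n ∈ Subgroup.normalizer (P : Set G), n * c₁ * n⁻¹ = c₂)) ∧ (∀ c : G, c ∈ Subgroup.centralizer (P : Set G) → (∃ S : Sylow p (Subgroup.centralizer ({c} : Set G) ⊓ Subgroup.normalizer (P : Set G) : Subgroup G), (S : Subgroup ↥(Subgroup.centralizer ({c} : Set G) ⊓ Subgroup.normalizer (P : Set G))).map (Subgroup.centralizer ({c} : Set G) ⊓ Subgroup.normalizer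 (P : Set G)).subtype = P) → ∃ S : Sylow p (Subgroup.centralizer ({c} : Set G)), (S : Subgroup (Subgroup.centralizer ({c} : Set G))).map (Subgroup.centralizer ({c} : Set G)).subtype = P) := by
  refine ⟨?_, ?_⟩
  · rintro g ⟨S, hS⟩
    refine ⟨⟨g, IsConj.refl g, ?_⟩, ?_⟩
    · rw [Subgroup.mem_centralizer_iff]
      intro t ht
      rw [← hS] at ht
      obtain ⟨s, _, rfl⟩ := ht
      have := (Subgroup.mem_centralizer_iff.1 s.2) g (Set.mem_singleton g)
      exact this.symm
    · intro c₁ c₂ h1 h2 hc1 hc2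
      obtain ⟨n₁, hn₁, e₁⟩ := conj_by_normalizer p P hP g S hS c₁ h1 hc1
      obtain ⟨n₂, hn₂, e₂⟩ := conj_by_normalizer p P hP g S hS c₂ h2 hc2
      refine ⟨n₂ * n₁⁻¹, Subgroup.mul_mem _ hn₂ (Subgroup.inv_mem _ hn₁), ?_⟩
      rw [← e₁, ← e₂]
      group
  · rintro c hc ⟨S, hS⟩
    -- `P ≤ C(c)`
    have hPH : P ≤ Subgroup.centralizer ({c} : Set G) := by
      intro t ht
      rw [Subgroup.mem_centralizer_iff]
      intro y hy
      rw [Set.mem_singleton_iff] at hy
      subst hy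
      exact ((Subgroup.mem_centralizer_iff.1 hc) t ht).symm
    have hP1 : IsPGroup p (P.subgroupOf (Subgroup.centralizer ({c} : Set G))) := hP.comap_subtype
    obtain ⟨Q, hQ⟩ := hP1.exists_le_sylow
    set QG : Subgroup G := (Q : Subgroup (Subgroup.centralizer ({c} : Set G))).map
      (Subgroup.centralizer ({c} : Set G)).subtype with hQG
    have hQGp : IsPGroup p QG := Q.isPGroup'.map _
    have hQGH : QG ≤ Subgroup.centralizer ({c} : Set G) := by
      rintro _ ⟨t, _, rfl⟩
      exact t.2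
    have hPQ : P ≤ QG := by
      intro t ht
      refine ⟨⟨t, hPH ht⟩, hQ (Subgroup.mem_subgroupOf.2 ht), rfl⟩
    by_cases hEq : P = QG
    · exact ⟨Q, hEq.symm⟩
    · exfalso
      have hlt : P < QG := lt_of_le_of_ne hPQ hEq
      obtain ⟨y, hyQ, hyP, hyN⟩ := exists_mem_normalizer_not_mem_of_lt hQGp hlt
      -- `R = QG ⊓ N(P)` is a `p`-subgroup of `K = C(c) ⊓ N(P)` containing `P`
      let R : Subgroup G := QG ⊓ Subgroup.normalizer (P : Set G)
      have hRp : IsPGroup p R := hQGp.to_le inf_le_left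
      have hRK : R ≤ Subgroup.centralizer ({c} : Set G) ⊓ Subgroup.normalizer (P : Set G) :=
        inf_le_inf_right _ hQGH
      have hR1 : IsPGroup p (R.subgroupOf
        (Subgroup.centralizer ({c} : Set G) ⊓ Subgroup.normalizer (P : Set G))) := hRp.comap_subtype
      have hSR : (S : Subgroup ↥(Subgroup.centralizer ({c} : Set G) ⊓ Subgroup.normalizer (P : Set G)))
          ≤ R.subgroupOf (Subgroup.centralizer ({c} : Set G) ⊓ Subgroup.normalizer (P : Set G)) := by
        intro s hs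
        rw [Subgroup.mem_subgroupOf]
        have hsP : (s : G) ∈ P := hS.le ⟨s, hs, rfl⟩
        exact ⟨hPQ hsP, s.2.2⟩
      have hmax := S.is_maximal' hR1 hSR
      have hyR : (⟨y, hRK ⟨hyQ, hyN⟩⟩ :
          ↥(Subgroup.centralizer ({c} : Set G) ⊓ Subgroup.normalizer (P : Set G))) ∈ R.subgroupOf
          (Subgroup.centralizer ({c} : Set G) ⊓ Subgroup.normalizer (P : Set G)) := by
        rw [Subgroup.mem_subgroupOf]; exact ⟨hyQ, hyN⟩
      rw [hmax] at hyR
      exact hyP (hS.le ⟨_, hyR, rfl⟩)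

end Cfsg.Agent.S0916
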