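-- Statement S0921
import Cfsg.Statements.S0921
import Cfsg.Agent.S0964
import Cfsg.Agent.Lib.Helper22.BlockRegular
import Cfsg.Agent.Lib.Helper42.PPrimeCore

set_option autoImplicit false
open Cfsg

namespace Cfsg.Agent.S0921

open Cfsg.Agent.Lib.Helper22 Cfsg.Agent.Lib.Helper82 Cfsg.Agent.Lib.Helper83
open Cfsg.Agent.Lib.Helper85

/-- One direction, for an arbitrary normal `p'`-subgroup. -/
theorem aux {G : Type*} [Group G] [Fintype G] (p : ℕ) [Fact p.Prime] (M : Ideal Cfsg.AlgInt)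
    (hM : Cfsg.IsPModular p M) (N : Subgroup G) [hNn : N.Normal] [Fintype N]
    (hN : ¬ p ∣ Nat.card N) (χ ψ : Cfsg.IrrCharacter G)
    (h : Cfsg.SameBlock M (χ : G → ℂ) (ψ : G → ℂ)) (θ : Cfsg.IrrCharacter N)
    (hθ : Cfsg.classInner (fun n : N => (χ : G → ℂ) n) (θ : N → ℂ) ≠ 0) :
    Cfsg.classInner (fun n : N => (ψ : G → ℂ) n) (θ : N → ℂ) ≠ 0 := by
  have hprime : M.IsPrime := hM.2.1.isPrime
  obtain ⟨θ', hθ'⟩ := exists_constituent
    (isCharacter_restrict N (isCharacter_of_irr ψ.2)) (irr_degree_ne_zero ψ)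
  obtain ⟨g, θ'', hθ''mem, hθ''⟩ := Cfsg.Agent.S0964.result p M hM N
    (Cfsg.blockOf M (χ : G → ℂ)) (isPBlock_blockOf χ)
    (Cfsg.blockOf M (θ : N → ℂ)) (isPBlock_blockOf θ) χ (mem_blockOf_self hprime χ)
    θ (mem_blockOf_self hprime θ) hθ ψ h θ' hθ'
  have heq : θ = θ'' := eq_of_sameBlock_of_pprime hM hN θ θ'' hθ''mem
  subst heq
  have h2 := classInner_restrict_conjFun hNn (char_isClassFunction (isCharacter_of_irr ψ.2))
    (θ : N → ℂ) g
  rw [← h2]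
  have : (θ' : N → ℂ) = conjFun hNn (θ : N → ℂ) g := by
    funext n
    exact hθ'' n
  rw [← this]
  exact hθ'

theorem result {G : Type*} [Group G] [Finite G] (p : ℕ) [Fact p.Prime] (M : Ideal Cfsg.AlgInt) (hM : Cfsg.IsPModular p M) [Fintype G] (χ ψ : Cfsg.IrrCharacter G) (h : Cfsg.SameBlock M (χ : G → ℂ) (ψ : G → ℂ)) (θ : Cfsg.IrrCharacter (Cfsg.pPrimeCore p G)) [Fintype (Cfsg.pPrimeCore p G)] : Cfsg.classInner (fun n : Cfsg.pPrimeCore p G => (χ : G → ℂ) n) (θ : Cfsg.pPrimeCore p G → ℂ) ≠ 0 ↔ Cfsg.classInner (fun n : Cfsg.pPrimeCore p G => (ψ : G → ℂ) n) (θ : Cfsg.pPrimeCore p G → ℂ) ≠ 0 := by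
  have hp : p.Prime := Fact.out
  have hnorm : (Cfsg.pPrimeCore p G).Normal := Cfsg.Agent.Lib.Helper42.pPrimeCore_normal p G
  have hcop : ¬ p ∣ Nat.card (Cfsg.pPrimeCore p G) := by
    have h := Cfsg.Agent.Lib.Helper42.pPrimeCore_card_coprime p G
    intro hdvd
    exact hp.one_lt.ne' (Nat.eq_one_of_dvd_coprimes h hdvd (dvd_refl p))
  constructor
  · exact aux p M hM _ hcop χ ψ h θ
  · exact aux p M hM _ hcop ψ χ (sameBlock_symm h) θ

end Cfsg.Agent.S0921
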