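import Cfsg.Statements.S0926
import Cfsg.Agent.Lib.Helper22.DefectConj
import Cfsg.Agent.S0924
import Cfsg.Agent.S0927

set_option autoImplicit false
open Cfsg

namespace Cfsg.Agent.S0926

open Cfsg.Agent.Lib.Helper21 Cfsg.Agent.Lib.Helper82 Cfsg.Agent.Lib.Helper22

/-- Let B be a block of the finite group G with defect group D (relative to a maximal ideal M of the algebraic integers containing p), let χ ∈ B have height zero, and let x be a p-element. Then some conjugate of x lies in D if and only if χ does not vanish on the whole p-section of x (the elements whose p-part is conjugate to x). -/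
theorem result {G : Type*} [Group G] [Finite G] (p : ℕ) [Fact p.Prime] (M : Ideal Cfsg.AlgInt) (hM : Cfsg.IsPModular p M) (B : Set (Cfsg.IrrCharacter G)) (hB : Cfsg.IsPBlock M B) (D : Subgroup G) (hD : Cfsg.IsDefectGroup p M B D) (χ : Cfsg.IrrCharacter G) (hχ : χ ∈ B) (h0 : Cfsg.blockHeight p B (χ : G → ℂ) = 0) (x : G) (hx : ∃ k : ℕ, orderOf x = p ^ k) : (∃ g : G, g * x * g⁻¹ ∈ D) ↔ ∃ u : G, (∃ z : G, Cfsg.IsPPart p u z ∧ IsConj x z) ∧ (χ : G → ℂ) u ≠ 0 := by
  classical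
  have hp : p.Prime := hM.1
  have hMp : M.IsPrime := hM.2.1.isPrime
  constructor
  · rintro ⟨g, hg⟩
    obtain ⟨g₀, hg₀, P, rfl⟩ := hD
    obtain ⟨v, hv, hve⟩ := hg
    rw [Subgroup.coe_subtype] at hve
    have h1 := (Cfsg.Agent.S0927.result p M hM B hB g₀ hg₀ P v hv).1 χ hχ h0
    refine ⟨(v : G) * g₀, ⟨(v : G), ⟨g₀, rfl, ?_, ?_, ?_⟩, ?_⟩, ?_⟩
    · exact ((Subgroup.mem_centralizer_iff.1 v.2) g₀ rfl).symm
    · obtain ⟨k, hk⟩ := hx
      refine ⟨k, ?_⟩
      rw [hve, ← hk]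
      exact (MulAut.conj g).orderOf_eq x
    · exact IsDefectClass.not_dvd_orderOf hM hB hg₀
    · exact isConj_iff.2 ⟨g, hve.symm⟩
    · intro h0'
      apply h1
      rw [h0']
      exact Cfsg.Agent.Lib.Helper82.memLocalIdeal_zero hMp
  · rintro ⟨u, ⟨z, hz, hxz⟩, hu⟩
    have hBeq : B = blockOf M (χ : G → ℂ) := IsPBlock.eq_blockOf hMp hB hχ
    have hex : ∃ D' : Subgroup G, IsDefectGroup p M (blockOf M (χ : G → ℂ)) D' ∧ z ∈ D' := by
      by_contra hcon
      push Not at hcon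
      exact hu (Cfsg.Agent.S0924.result p M hM χ u z hz hcon)
    obtain ⟨D', hD', hzD'⟩ := hex
    rw [← hBeq] at hD'
    obtain ⟨t, ht⟩ := IsDefectGroup.exists_conj hM hB hD hD'
    rw [ht] at hzD'
    obtain ⟨d, hd, hde⟩ := hzD'
    obtain ⟨c, hc⟩ := isConj_iff.1 hxz
    refine ⟨t⁻¹ * c, ?_⟩
    have : t⁻¹ * c * x * (t⁻¹ * c)⁻¹ = d := by
      have h1 : t * d * t⁻¹ = z := by simpa using hde
      rw [← hc] at h1
      rw [mul_inv_rev, inv_inv]
      calc t⁻¹ * c * x * (c⁻¹ * t) = t⁻¹ * (c * x * c⁻¹) * t := by group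
        _ = t⁻¹ * (t * d * t⁻¹) * t := by rw [h1]
        _ = d := by group
    rw [this]
    exact hd

end Cfsg.Agent.S0926
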