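import Cfsg.Statements.S0929
import Cfsg.Agent.Lib.Helper22.DefectConj
import Cfsg.Agent.S0924
import Cfsg.Agent.S0918
import Cfsg.Agent.S0920

set_option autoImplicit false
open Cfsg

namespace Cfsg.Agent.S0929

open Cfsg.Agent.Lib.Helper21 Cfsg.Agent.Lib.Helper82 Cfsg.Agent.Lib.Helper22

/-- Let B be a block of the finite group G with defect group P (relative to a maximal ideal M of the algebraic integers containing p), and let g be an element at which the central character of some member of B is not in the local ideal at M. Then some conjugate x of g centralizes P and has its p-part in the centre of P. -/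
theorem result {G : Type*} [Group G] [Finite G] (p : ℕ) [Fact p.Prime] (M : Ideal Cfsg.AlgInt) (hM : Cfsg.IsPModular p M) (B : Set (Cfsg.IrrCharacter G)) (hB : Cfsg.IsPBlock M B) (P : Subgroup G) (hP : Cfsg.IsDefectGroup p M B P) (g : G) (hg : ∃ χ ∈ B, ¬ Cfsg.MemLocalIdeal M (Cfsg.centralChar (χ : G → ℂ) g)) : ∃ x : G, IsConj g x ∧ x ∈ Subgroup.centralizer (P : Set G) ∧ ∀ z : G, Cfsg.IsPPart p x z → z ∈ P ∧ ∀ w ∈ P, z * w = w * z := by
  classical
  have hp : p.Prime := hM.1
  have hMp : M.IsPrime := hM.2.1.isPrime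
  have hPp : IsPGroup p P := by
    obtain ⟨g₀, _, Q, rfl⟩ := hP
    exact Q.isPGroup'.map _
  obtain ⟨b, ⟨hb, hbD, hind⟩, -⟩ := (Cfsg.Agent.S0920.result p M hM P hPp).2 B hB hP
  have hbr := (Cfsg.Agent.S0918.result p M hM P (Subgroup.normalizer (P : Set G)) hPp
    Subgroup.le_normalizer (Subgroup.centralizer_le_normalizer _) le_rfl b hb B hB).1 hind
  obtain ⟨χ, hχ, hχg⟩ := hg
  obtain ⟨ξ, hξ⟩ := IsPBlock.nonempty hMp hb
  have h1 := hbr ξ hξ χ hχ g
  have hne : brauerCentralChar P (Subgroup.normalizer (P : Set G)) (ξ : _ → ℂ) g ≠ 0 := by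
    intro h0
    rw [h0, zero_sub] at h1
    apply hχg
    have := Cfsg.Agent.Lib.Helper82.memLocalIdeal_neg h1
    rwa [neg_neg] at this
  have hex : ∃ h : Subgroup.normalizer (P : Set G),
      (IsConj g (h : G) ∧ (h : G) ∈ Subgroup.centralizer (P : Set G)) ∧
        (ξ : _ → ℂ) h ≠ 0 := by
    by_contra hall
    push Not at hall
    apply hne
    rw [brauerCentralChar]
    apply finsum_mem_eq_zero_of_forall_eq_zero
    intro h hh
    rw [hall h hh, zero_div]
  obtain ⟨h, ⟨hconj, hcent⟩, hξh⟩ := hex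
  refine ⟨(h : G), hconj, hcent, ?_⟩
  intro z hz
  have hcomm : ∀ w ∈ P, z * w = w * z := by
    intro w hw
    apply IsPPart.commute_of_commute hp hz
    exact ((Subgroup.mem_centralizer_iff.1 hcent) w hw).symm
  refine ⟨?_, hcomm⟩
  -- transfer the `p`-part to the normalizer
  have hzN : z ∈ Subgroup.normalizer (P : Set G) :=
    (Subgroup.zpowers_le.2 h.2) (IsPPart.mem_zpowers hp hz)
  obtain ⟨y, hzy, hc, ⟨k, hk⟩, hy⟩ := hz
  have hyN : y ∈ Subgroup.normalizer (P : Set G) := by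
    have : y = z⁻¹ * (h : G) := by rw [← hzy]; group
    rw [this]
    exact Subgroup.mul_mem _ (Subgroup.inv_mem _ hzN) h.2
  have hz' : IsPPart p h (⟨z, hzN⟩ : Subgroup.normalizer (P : Set G)) := by
    refine ⟨⟨y, hyN⟩, Subtype.ext hzy, Subtype.ext hc.eq, ⟨k, ?_⟩, ?_⟩
    · rw [Subgroup.orderOf_mk]; exact hk
    · rw [Subgroup.orderOf_mk]; exact hy
  have hbeq : b = blockOf M (ξ : _ → ℂ) := IsPBlock.eq_blockOf hMp hb hξ
  have hex2 : ∃ D' : Subgroup (Subgroup.normalizer (P : Set G)),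
      IsDefectGroup p M (blockOf M (ξ : _ → ℂ)) D' ∧
        (⟨z, hzN⟩ : Subgroup.normalizer (P : Set G)) ∈ D' := by
    by_contra hcon
    push Not at hcon
    exact hξh (Cfsg.Agent.S0924.result p M hM ξ h _ hz' hcon)
  obtain ⟨D', hD', hzD'⟩ := hex2
  rw [← hbeq] at hD'
  obtain ⟨t, ht⟩ := IsDefectGroup.exists_conj hM hb hbD hD'
  rw [ht] at hzD'
  obtain ⟨d, hd, hde⟩ := hzD'
  have hnorm : (P.subgroupOf (Subgroup.normalizer (P : Set G))).Normal :=
    Subgroup.normal_in_normalizer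
  have h2 := hnorm.conj_mem d hd t
  have h3 : t * d * t⁻¹ = (⟨z, hzN⟩ : Subgroup.normalizer (P : Set G)) := by
    simpa using hde
  rw [h3] at h2
  exact Subgroup.mem_subgroupOf.1 h2

end Cfsg.Agent.S0929
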