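import Cfsg.Statements.S0930
import Cfsg.Agent.Lib.Helper22.DefectConj
import Cfsg.Agent.Lib.Helper21.InducedBlock
import Cfsg.Agent.S0927
import Cfsg.Agent.S0929

set_option autoImplicit false
open Cfsg

namespace Cfsg.Agent.S0930

open Cfsg.Agent.Lib.Helper21 Cfsg.Agent.Lib.Helper82 Cfsg.Agent.Lib.Helper22

/-- Let H be a subgroup of the finite group G and fix a maximal ideal M of the algebraic integers containing the prime p. If the block b of H with defect group D induces the block B of G with defect group P, then every element of the centre of P is conjugate in G to an element of the centre of D. -/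
theorem result {G : Type*} [Group G] [Finite G] (p : ℕ) [Fact p.Prime] (M : Ideal Cfsg.AlgInt) (hM : Cfsg.IsPModular p M) (H : Subgroup G) (b : Set (Cfsg.IrrCharacter H)) (B : Set (Cfsg.IrrCharacter G)) (hind : Cfsg.IsInducedBlock M H b B) (D : Subgroup H) (hD : Cfsg.IsDefectGroup p M b D) (P : Subgroup G) (hP : Cfsg.IsDefectGroup p M B P) (x : G) (hx : x ∈ P) (hxc : ∀ w ∈ P, x * w = w * x) : ∃ g : G, g * x * g⁻¹ ∈ D.map H.subtype ∧ ∀ w ∈ D.map H.subtype, (g * x * g⁻¹) * w = w * (g * x * g⁻¹) := by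
  classical
  have hp : p.Prime := hM.1
  have hMp : M.IsPrime := hM.2.1.isPrime
  let _ : Fintype G := Fintype.ofFinite G
  let _ : Fintype H := Fintype.ofFinite H
  let _ : Fintype (ConjClasses H) := Fintype.ofFinite _
  obtain ⟨hb, hB, hcong⟩ := hind
  obtain ⟨y, hy, Q, rfl⟩ := hP
  obtain ⟨v, hv, rfl⟩ := hx
  rw [Subgroup.coe_subtype] at hxc ⊢
  have hvc : ∀ w ∈ (Q : Subgroup (Subgroup.centralizer ({y} : Set G))), v * w = w * v := by
    intro w hw
    apply Subtype.ext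
    exact hxc (w : G) ⟨w, hw, rfl⟩
  have h927 := (Cfsg.Agent.S0927.result p M hM B hB y hy Q v hv).2 hvc
  obtain ⟨χ, hχ⟩ := IsPBlock.nonempty hMp hB
  obtain ⟨ξ, hξ⟩ := IsPBlock.nonempty hMp hb
  have h1 := hcong ξ hξ χ hχ ((v : G) * y)
  have hnot : ¬ MemLocalIdeal M (inducedCentralChar H (ξ : H → ℂ) ((v : G) * y)) := by
    intro hcon
    apply h927 χ hχ
    have := memLocalIdeal_sub hMp hcon h1
    rwa [sub_sub_cancel] at this
  rw [inducedCentralChar_eq_sum_classes] at hnot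
  -- some `H`-class inside the `G`-class carries a nonzero central character value
  have hex : ∃ L : ConjClasses H, IsConj ((v : G) * y) ((Quotient.out L : H) : G) ∧
      ¬ MemLocalIdeal M (centralChar (ξ : H → ℂ) (Quotient.out L)) := by
    by_contra hall
    push Not at hall
    apply hnot
    apply memLocalIdeal_sum hMp
    intro L _
    rw [classInd_apply]
    split_ifs with hc
    · rw [one_mul]; exact hall L hc
    · rw [zero_mul]; exact Cfsg.Agent.Lib.Helper82.memLocalIdeal_zero hMp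
  obtain ⟨L, hLconj, hLω⟩ := hex
  obtain ⟨x', hx'conj, hx'cent, hx'part⟩ :=
    Cfsg.Agent.S0929.result p M hM b hb D hD (Quotient.out L) ⟨ξ, hξ, hLω⟩
  -- conjugating element in `G`
  obtain ⟨c₁, hc₁⟩ := isConj_iff.1 hLconj
  obtain ⟨c₂, hc₂⟩ := isConj_iff.1 hx'conj
  have hc : ((c₂ : G) * c₁) * ((v : G) * y) * ((c₂ : G) * c₁)⁻¹ = (x' : G) := by
    have h2 : (c₂ : G) * ((Quotient.out L : H) : G) * (c₂ : G)⁻¹ = (x' : G) := by
      have := congrArg (fun t : H => (t : G)) hc₂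
      simpa using this
    rw [← h2, ← hc₁]
    group
  -- the `p`-part of `x'`
  have hvy : (v : G) * y = y * (v : G) := ((Subgroup.mem_centralizer_iff.1 v.2) y rfl).symm
  obtain ⟨k, hk⟩ := (IsPGroup.iff_orderOf.1 Q.isPGroup') ⟨v, hv⟩
  have hk' : orderOf (v : G) = p ^ k := by
    rw [← hk, Subgroup.orderOf_mk, Subgroup.orderOf_coe]
  have hreg : ¬ p ∣ orderOf y := IsDefectClass.not_dvd_orderOf hM hB hy
  set g : G := (c₂ : G) * c₁ with hgdef
  have hpartG : IsPPart p (x' : G) (g * (v : G) * g⁻¹) := by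
    refine ⟨g * y * g⁻¹, ?_, ?_, ⟨k, ?_⟩, ?_⟩
    · rw [← hc]; group
    · change g * (v : G) * g⁻¹ * (g * y * g⁻¹) = g * y * g⁻¹ * (g * (v : G) * g⁻¹)
      calc g * (v : G) * g⁻¹ * (g * y * g⁻¹) = g * ((v : G) * y) * g⁻¹ := by group
        _ = g * (y * (v : G)) * g⁻¹ := by rw [hvy]
        _ = g * y * g⁻¹ * (g * (v : G) * g⁻¹) := by group
    · rw [← hk']; exact (MulAut.conj g).orderOf_eq _
    · have : orderOf (g * y * g⁻¹) = orderOf y := (MulAut.conj g).orderOf_eq _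
      rw [this]; exact hreg
  have hzH : g * (v : G) * g⁻¹ ∈ H :=
    (Subgroup.zpowers_le.2 x'.2) (IsPPart.mem_zpowers hp hpartG)
  have hyH : g * y * g⁻¹ ∈ H := by
    have : g * y * g⁻¹ = (g * (v : G) * g⁻¹)⁻¹ * (x' : G) := by rw [← hc]; group
    rw [this]
    exact H.mul_mem (H.inv_mem hzH) x'.2
  have hpartH : IsPPart p x' (⟨g * (v : G) * g⁻¹, hzH⟩ : H) := by
    obtain ⟨y₀, hzy, hcm, ⟨k₀, hk₀⟩, hy₀⟩ := hpartG
    have hy₀H : y₀ ∈ H := by
      have : y₀ = (g * (v : G) * g⁻¹)⁻¹ * (x' : G) := by rw [← hzy]; group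
      rw [this]
      exact H.mul_mem (H.inv_mem hzH) x'.2
    refine ⟨⟨y₀, hy₀H⟩, Subtype.ext hzy, Subtype.ext hcm.eq, ⟨k₀, ?_⟩, ?_⟩
    · rw [Subgroup.orderOf_mk]; exact hk₀
    · rw [Subgroup.orderOf_mk]; exact hy₀
  obtain ⟨hzD, hzcomm⟩ := hx'part _ hpartH
  refine ⟨g, ⟨⟨g * (v : G) * g⁻¹, hzH⟩, hzD, rfl⟩, ?_⟩
  rintro _ ⟨w, hw, rfl⟩
  have := congrArg (fun t : H => (t : G)) (hzcomm w hw)
  simpa using this

end Cfsg.Agent.S0930
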