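import Cfsg.Statements.S0931
import Cfsg.Agent.Lib.Helper22.DefectClass
import Cfsg.Agent.Lib.Helper82.DefectRank
import Cfsg.Agent.Lib.Helper21.OsimaApps
import Cfsg.Agent.S0917
import Cfsg.Agent.S0927

set_option autoImplicit false
open Cfsg

namespace Cfsg.Agent.S0931

open Cfsg.Agent.Lib.Helper21 Cfsg.Agent.Lib.Helper82 Cfsg.Agent.Lib.Helper22

theorem exists_defectClass {G : Type*} [Group G] [Finite G] {M : Ideal AlgInt} (hMp : M.IsPrime)
    {B : Set (IrrCharacter G)} (hB : IsPBlock M B) : ∃ g : G, IsDefectClass M B g := by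
  let _ : Fintype G := Fintype.ofFinite G
  let _ : Fintype (IrrCharacter G) := Fintype.ofFinite _
  obtain ⟨χ₀, rfl⟩ := hB
  exact exists_isDefectClass hMp χ₀

/-- A character in a block of defect zero vanishes on `p`-singular elements. -/
theorem eq_zero_of_blockDefect_eq_zero {G : Type*} [Group G] [Finite G] {p : ℕ} [Fact p.Prime]
    {M : Ideal AlgInt} (hM : IsPModular p M) {b : Set (IrrCharacter G)}
    (h0 : blockDefect p b = 0) (ξ : IrrCharacter G) (hξ : ξ ∈ b) (h : G) (hh : p ∣ orderOf h) :
    (ξ : G → ℂ) h = 0 := by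
  let _ : Fintype G := Fintype.ofFinite G
  have hMp : M.IsPrime := hM.2.1.isPrime
  have h1 := (blockDefect_eq_zero_iff (p := p) ⟨ξ, hξ⟩).1 h0 ξ hξ
  have h2 := (factorization_le_iff_not_dvd hM.1 ξ).1 h1
  have h3 := blockOf_eq_singleton_of_not_dvd hM ξ h2
  exact eq_zero_of_blockOf_eq_singleton hM ξ h3 h hh

/-- Let H be a subgroup of the finite group G and fix a maximal ideal M of the algebraic integers containing the prime p. If the block b of H induces the block B of G, then b has defect 0 if and only if B has defect 0. -/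
theorem result {G : Type*} [Group G] [Finite G] (p : ℕ) [Fact p.Prime] (M : Ideal Cfsg.AlgInt) (hM : Cfsg.IsPModular p M) (H : Subgroup G) (b : Set (Cfsg.IrrCharacter H)) (B : Set (Cfsg.IrrCharacter G)) (hind : Cfsg.IsInducedBlock M H b B) : Cfsg.blockDefect p b = 0 ↔ Cfsg.blockDefect p B = 0 := by
  classical
  have hp : p.Prime := hM.1
  have hMp : M.IsPrime := hM.2.1.isPrime
  obtain ⟨hb, hB, hcong⟩ := hind
  constructor
  · intro h0
    by_contra hne
    obtain ⟨y, hy⟩ := exists_defectClass hMp hB
    have hδ := blockDefect_eq_of_isDefectClass hM hB hy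
    obtain ⟨P⟩ : Nonempty (Sylow p (Subgroup.centralizer ({y} : Set G))) := inferInstance
    have hPcard : Nat.card P = p ^ blockDefect p B := by rw [P.card_eq_multiplicity, hδ]
    have hPnt : Nontrivial P := by
      rw [← Finite.one_lt_card_iff_nontrivial, hPcard]
      exact Nat.one_lt_pow hne hp.one_lt
    have hcnt := IsPGroup.center_nontrivial P.isPGroup'
    obtain ⟨z, hz⟩ := exists_ne (1 : Subgroup.center P)
    have hz1 : ((z : P) : Subgroup.centralizer ({y} : Set G)) ≠ 1 := by
      intro h
      apply hz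
      apply Subtype.ext
      apply Subtype.ext
      exact h
    have hzc : ∀ w ∈ (P : Subgroup (Subgroup.centralizer ({y} : Set G))),
        ((z : P) : Subgroup.centralizer ({y} : Set G)) * w =
          w * ((z : P) : Subgroup.centralizer ({y} : Set G)) := by
      intro w hw
      have := (Subgroup.mem_center_iff.1 z.2) ⟨w, hw⟩
      have h2 := congrArg (fun t : P => (t : Subgroup.centralizer ({y} : Set G))) this
      exact h2.symm
    set x : Subgroup.centralizer ({y} : Set G) := ((z : P) : Subgroup.centralizer ({y} : Set G))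
      with hxdef
    have hx : x ∈ (P : Subgroup (Subgroup.centralizer ({y} : Set G))) := (z : P).2
    have h927 := (Cfsg.Agent.S0927.result p M hM B hB y hy P x hx).2 hzc
    obtain ⟨χ, hχ⟩ := IsPBlock.nonempty hMp hB
    obtain ⟨ξ, hξ⟩ := IsPBlock.nonempty hMp hb
    apply h927 χ hχ
    have h1 := hcong ξ hξ χ hχ ((x : G) * y)
    -- `x * y` is `p`-singular
    have hreg : ¬ p ∣ orderOf y := by
      intro hdiv
      obtain ⟨χ₀, rfl⟩ := hB
      let _ : Fintype G := Fintype.ofFinite G
      apply hy.2.1
      rw [blockCoeff_eq_zero_of_singular hM χ₀ y hdiv]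
      exact memLocalIdeal_zero hMp
    have hxy : (x : G) * y = y * (x : G) := ((Subgroup.mem_centralizer_iff.1 x.2) y rfl).symm
    obtain ⟨k, hk⟩ := (IsPGroup.iff_orderOf.1 P.isPGroup') ⟨x, hx⟩
    have hk' : orderOf (x : G) = p ^ k := by
      rw [← hk, Subgroup.orderOf_mk, Subgroup.orderOf_coe]
    have hk0 : k ≠ 0 := by
      rintro rfl
      rw [pow_zero, orderOf_eq_one_iff] at hk'
      exact hz1 (Subtype.ext hk')
    have hsing : p ∣ orderOf ((x : G) * y) := by
      have hco : (orderOf (x : G)).Coprime (orderOf y) := by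
        rw [hk']
        exact Nat.Coprime.pow_left k ((Nat.Prime.coprime_iff_not_dvd hp).2 hreg)
      rw [Commute.orderOf_mul_eq_mul_orderOf_of_coprime hxy hco, hk']
      exact dvd_mul_of_dvd_left (dvd_pow_self p hk0) _
    have hzero : inducedCentralChar H (ξ : H → ℂ) ((x : G) * y) = 0 := by
      rw [inducedCentralChar]
      apply finsum_mem_eq_zero_of_forall_eq_zero
      intro h hh
      have hh' : IsConj ((x : G) * y) (h : G) := hh
      obtain ⟨c, hc⟩ := isConj_iff.1 hh'
      have hord : orderOf h = orderOf ((x : G) * y) := by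
        rw [← Subgroup.orderOf_coe, ← hc]
        exact (MulAut.conj c).orderOf_eq _
      rw [eq_zero_of_blockDefect_eq_zero hM h0 ξ hξ h (hord ▸ hsing), zero_div]
    rw [hzero, zero_sub] at h1
    have := Cfsg.Agent.Lib.Helper82.memLocalIdeal_neg h1
    rwa [neg_neg] at this
  · intro h0
    obtain ⟨h, hh⟩ := exists_defectClass hMp hb
    obtain ⟨Q⟩ : Nonempty (Sylow p (Subgroup.centralizer ({h} : Set H))) := inferInstance
    have hD : IsDefectGroup p M b ((Q : Subgroup (Subgroup.centralizer ({h} : Set H))).map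
        (Subgroup.centralizer ({h} : Set H)).subtype) := ⟨h, hh, Q, rfl⟩
    obtain ⟨E, hE, hle⟩ := Cfsg.Agent.S0917.result p M hM H b hb B hB ⟨hb, hB, hcong⟩ _ hD
    have hEcard := Cfsg.Agent.S0908.result p M hM B hB E hE
    rw [h0, pow_zero] at hEcard
    have hDcard := Cfsg.Agent.S0908.result p M hM b hb _ hD
    have h1 := Subgroup.card_dvd_of_le hle
    rw [hEcard, Subgroup.card_map_of_injective H.subtype_injective, hDcard, Nat.dvd_one] at h1
    by_contra hne
    exact absurd h1 (Nat.one_lt_pow hne hp.one_lt).ne'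

end Cfsg.Agent.S0931
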