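import Cfsg.Statements.S0934
import Cfsg.Agent.Lib.Helper21.InducedSum

set_option autoImplicit false
open Cfsg

namespace Cfsg.Agent.S0934

open Cfsg.Agent.Lib.Helper21 Cfsg.Agent.Lib.Helper82 Cfsg.Agent.Lib.Helper83
open scoped ComplexConjugate

/-- Let H be a subgroup of the finite group G and fix a maximal ideal M of the algebraic integers containing the prime p. If the block b of H induces the block B of G and ξ ∈ b, then there is χ ∈ B whose restriction to H has nonzero inner product with ξ. -/
theorem result {G : Type*} [Group G] [Fintype G] (p : ℕ) [Fact p.Prime] (M : Ideal Cfsg.AlgInt) (hM : Cfsg.IsPModular p M) (H : Subgroup G) [Fintype H] (b : Set (Cfsg.IrrCharacter H)) (B : Set (Cfsg.IrrCharacter G)) (hind : Cfsg.IsInducedBlock M H b B) (ξ : Cfsg.IrrCharacter H) (hξ : ξ ∈ b) : ∃ χ ∈ B, Cfsg.classInner (fun h : H => (χ : G → ℂ) h) (ξ : H → ℂ) ≠ 0 := by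
  classical
  have := Fintype.ofFinite (Cfsg.IrrCharacter G)
  have := Fintype.ofFinite (Cfsg.IrrCharacter H)
  have hprime : M.IsPrime := hM.2.1.isPrime
  by_contra hcon
  push Not at hcon
  have h1 := omega_restrict_blockCoeff_sub_one H hprime hind hξ
  have hconjB : ∀ g : G, conj (blockCoeff B g) = (Nat.card G : ℂ)⁻¹ *
      ∑ χ : Cfsg.IrrCharacter G, if χ ∈ B then (χ : G → ℂ) 1 * (χ : G → ℂ) g else 0 := by
    intro g
    rw [blockCoeff_eq_sum B, map_mul, map_inv₀, Complex.conj_natCast, map_sum]
    congr 1
    apply Finset.sum_congr rfl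
    intro χ _
    split_ifs
    · rw [map_mul, Complex.conj_conj, char_one_conj (IsIrrCharacter.isCharacter χ.2)]
    · rw [map_zero]
  have hsum : ∑ h : H, blockCoeff B (h : G) * (ξ : H → ℂ) h = 0 := by
    have hc : conj (∑ h : H, blockCoeff B (h : G) * (ξ : H → ℂ) h) = 0 := by
      rw [map_sum]
      simp_rw [map_mul, hconjB, mul_assoc, Finset.sum_mul]
      rw [← Finset.mul_sum, Finset.sum_comm]
      have hz : ∀ χ : Cfsg.IrrCharacter G, ∑ h : H,
          (if χ ∈ B then (χ : G → ℂ) 1 * (χ : G → ℂ) (h : G) else 0) * conj ((ξ : H → ℂ) h) = 0 := by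
        intro χ
        by_cases hχ : χ ∈ B
        · simp only [if_pos hχ, mul_assoc]
          rw [← Finset.mul_sum]
          have h2 := hcon χ hχ
          rw [classInner] at h2
          have hne : (Nat.card H : ℂ)⁻¹ ≠ 0 := by
            apply inv_ne_zero
            have : Nat.card H ≠ 0 := Nat.card_pos.ne'
            exact_mod_cast this
          rw [(mul_eq_zero.1 h2).resolve_left hne, mul_zero]
        · simp only [if_neg hχ, zero_mul, Finset.sum_const_zero]
      rw [Finset.sum_congr rfl (fun χ _ => hz χ), Finset.sum_const_zero, mul_zero]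
    have := congrArg conj hc
    rwa [Complex.conj_conj, map_zero] at this
  rw [omega, hsum, zero_div, zero_sub] at h1
  have := memLocalIdeal_neg h1
  rw [neg_neg] at this
  exact not_memLocalIdeal_one hprime this

end Cfsg.Agent.S0934
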