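import Cfsg.Statements.S0937
import Cfsg.Agent.Lib.Helper21.RegularPart
import Cfsg.Agent.Lib.Helper21.NilpBridge
import Cfsg.Agent.Lib.Helper22.DefectClass

set_option autoImplicit false
open Cfsg

namespace Cfsg.Agent.S0937

open Cfsg.Agent.Lib.Helper21 Cfsg.Agent.Lib.Helper82 Cfsg.Agent.Lib.Helper83
open Cfsg.Agent.Lib.Helper22
open scoped ComplexConjugate

/-- Symmetry of the `p`-regular inner product sums. -/
theorem sum_regConj_mul_symm {G : Type*} [Group G] [Fintype G] (p : ℕ) {ξ ψ : G → ℂ}
    (hξ : IsCharacter G ξ) (hψ : IsCharacter G ψ) :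
    ∑ g : G, regConj p ξ g * ψ g = ∑ g : G, regConj p ψ g * ξ g := by
  refine Fintype.sum_equiv (Equiv.inv G) _ _ fun g => ?_
  simp only [Equiv.inv_apply, regConj_apply, orderOf_inv]
  split_ifs
  · simp
  · rw [char_inv hψ, char_inv hξ, Complex.conj_conj, mul_comm]

/-- The restriction to a subgroup of the truncated conjugate of a character, expanded along the
irreducible constituents of the restriction. -/
theorem omega_restrict_regConj {G : Type*} [Group G] [Fintype G] (p : ℕ) (H : Subgroup G)
    [Fintype H] [Fintype (IrrCharacter H)] {χ : G → ℂ} (hχ : IsCharacter G χ) (ψ : H → ℂ) :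
    omega (fun h : H => regConj p χ (h : G)) ψ =
      ∑ ξ : IrrCharacter H, (irrMult (fun h : H => χ (h : G)) ξ : ℂ) *
        omega (regConj p (ξ : H → ℂ)) ψ := by
  have hχH : IsCharacter H (fun h : H => χ (h : G)) := isCharacter_restrict H hχ
  have hdecomp := char_eq_sum_irrMult hχH
  have hpt : ∀ h : H, regConj p χ (h : G) =
      ∑ ξ : IrrCharacter H, (irrMult (fun h : H => χ (h : G)) ξ : ℂ) *
        regConj p (ξ : H → ℂ) h := by
    intro h
    have h1 := congrFun hdecomp h
    simp only [Finset.sum_apply, Pi.smul_apply, smul_eq_mul] at h1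
    simp only [regConj_apply, Subgroup.orderOf_coe]
    split_ifs
    · simp
    · rw [h1, map_sum]
      refine Finset.sum_congr rfl fun ξ _ => ?_
      rw [map_mul, Complex.conj_natCast]
  simp only [omega, hpt, Finset.sum_mul, Finset.sum_div]
  rw [Finset.sum_comm]
  refine Finset.sum_congr rfl fun ξ _ => ?_
  rw [Finset.mul_sum]
  refine Finset.sum_congr rfl fun h _ => ?_
  ring

/-- Let H be a subgroup of the finite group G and fix a maximal ideal M of the algebraic integers containing the prime p. If the block b of H induces the block B of G and χ ∈ B has height zero, then there is ξ ∈ b of height zero whose multiplicity in the restriction of χ to H is a natural number not divisible by p. -/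
theorem result {G : Type*} [Group G] [Fintype G] (p : ℕ) [Fact p.Prime] (M : Ideal Cfsg.AlgInt) (hM : Cfsg.IsPModular p M) (H : Subgroup G) [Fintype H] (b : Set (Cfsg.IrrCharacter H)) (B : Set (Cfsg.IrrCharacter G)) (hind : Cfsg.IsInducedBlock M H b B) (χ : Cfsg.IrrCharacter G) (hχ : χ ∈ B) (h0 : Cfsg.blockHeight p B (χ : G → ℂ) = 0) : ∃ ξ ∈ b, Cfsg.blockHeight p b (ξ : H → ℂ) = 0 ∧ ∃ n : ℕ, Cfsg.classInner (fun h : H => (χ : G → ℂ) h) (ξ : H → ℂ) = (n : ℂ) ∧ ¬ p ∣ n := by
  classical
  have hp : p.Prime := hM.1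
  have hMp : M.IsPrime := hM.2.1.isPrime
  let _ : Fintype (IrrCharacter G) := Fintype.ofFinite _
  let _ : Fintype (IrrCharacter H) := Fintype.ofFinite _
  have hb : IsPBlock M b := hind.1
  have hB : IsPBlock M B := hind.2.1
  have hχc : IsCharacter G (χ : G → ℂ) := IrrCharacter_isCharacter χ
  have hfc : IsClassFunction G (regConj p (χ : G → ℂ)) :=
    regConj_isClassFunction p (isClassFunction_irr χ)
  have hfR := regConj_memLocalRing p hMp χ
  -- `χ` has minimal `p`-part of degree in its block
  have hmin : ∀ χ' : IrrCharacter G, SameBlock M (χ : G → ℂ) (χ' : G → ℂ) →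
      (charDegree (χ : G → ℂ)).factorization p ≤ (charDegree (χ' : G → ℂ)).factorization p := by
    intro χ' hs
    have hχ' : χ' ∈ B := IsPBlock.mem_of_sameBlock hMp hB hχ hs
    have h1 : sInf ((fun χ : IrrCharacter G => (charDegree (χ : G → ℂ)).factorization p) '' B) ≤
        (charDegree (χ' : G → ℂ)).factorization p := Nat.sInf_le (Set.mem_image_of_mem _ hχ')
    rw [blockHeight] at h0
    omega
  have hunit := omega_regConj_not_memLocalIdeal hM χ hmin
  obtain ⟨ψ₀, hψ₀, hψ₀0⟩ := exists_height_zero (p := p) hMp hb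
  have hcongr := omega_restrict_sub_memLocalIdeal H hMp hind hψ₀ hχ hfc hfR
  have hnot : ¬ MemLocalIdeal M
      (omega (fun h : H => regConj p (χ : G → ℂ) (h : G)) (ψ₀ : H → ℂ)) := by
    intro h
    apply hunit
    have := memLocalIdeal_sub hMp h hcongr
    rwa [sub_sub_cancel] at this
  rw [omega_restrict_regConj p H hχc] at hnot
  by_contra hcon
  push Not at hcon
  apply hnot
  refine memLocalIdeal_sum hMp _ _ fun ξ _ => ?_
  have hξc : IsCharacter H (ξ : H → ℂ) := IrrCharacter_isCharacter ξ
  have hψ₀c : IsCharacter H (ψ₀ : H → ℂ) := IrrCharacter_isCharacter ψ₀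
  have hRξ : MemLocalRing M (omega (regConj p (ξ : H → ℂ)) (ψ₀ : H → ℂ)) :=
    memLocalRing_omega hMp (regConj_isClassFunction p (isClassFunction_irr ξ))
      (regConj_memLocalRing p hMp ξ) ψ₀
  by_cases hξb : ξ ∈ b
  · by_cases hξ0 : blockHeight p b (ξ : H → ℂ) = 0
    · -- height zero: the multiplicity is divisible by `p`
      have hm := hcon ξ hξb hξ0 (irrMult (fun h : H => (χ : G → ℂ) (h : G)) ξ)
        (irrMult_cast (isCharacter_restrict H hχc) ξ).symm
      exact memLocalIdeal_mul_right hMp ((memLocalIdeal_natCast_iff hM _).2 hm) hRξ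
    · -- positive height: the contribution lies in the local ideal
      apply memLocalIdeal_mul_left hMp (memLocalRing_natCast hMp _)
      have hd1 := IsIrrCharacter.charDegree_pos ξ.2
      have hd2 := IsIrrCharacter.charDegree_pos ψ₀.2
      have hrew : omega (regConj p (ξ : H → ℂ)) (ψ₀ : H → ℂ) =
          omega (regConj p (ψ₀ : H → ℂ)) (ξ : H → ℂ) *
            ((charDegree (ξ : H → ℂ) : ℂ) / (charDegree (ψ₀ : H → ℂ) : ℂ)) := by
        simp only [omega]
        rw [sum_regConj_mul_symm p hξc hψ₀c, IsCharacter.charDegree_cast hξc,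
          IsCharacter.charDegree_cast hψ₀c]
        have h1 := IsIrrCharacter.apply_one_ne_zero ξ.2
        have h2 := IsIrrCharacter.apply_one_ne_zero ψ₀.2
        field_simp
      rw [hrew]
      refine memLocalIdeal_mul_left hMp
        (memLocalRing_omega hMp (regConj_isClassFunction p (isClassFunction_irr ψ₀))
          (regConj_memLocalRing p hMp ψ₀) ξ) ?_
      apply Cfsg.Agent.S0908.memLocalIdeal_div_of_factorization_lt hM _ _ hd2.ne'
      have h1 : sInf ((fun χ : IrrCharacter H => (charDegree (χ : H → ℂ)).factorization p) '' b) ≤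
          (charDegree (ξ : H → ℂ)).factorization p := Nat.sInf_le (Set.mem_image_of_mem _ hξb)
      have h2 : sInf ((fun χ : IrrCharacter H => (charDegree (χ : H → ℂ)).factorization p) '' b) ≤
          (charDegree (ψ₀ : H → ℂ)).factorization p := Nat.sInf_le (Set.mem_image_of_mem _ hψ₀)
      rw [blockHeight] at hξ0 hψ₀0
      omega
  · -- different blocks: the contribution vanishes
    have hns : ¬ SameBlock M (ψ₀ : H → ℂ) (ξ : H → ℂ) := fun hs =>
      hξb (IsPBlock.mem_of_sameBlock hMp hb hψ₀ hs)
    have hz : omega (regConj p (ξ : H → ℂ)) (ψ₀ : H → ℂ) = 0 := by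
      rw [omega, omega_regConj_eq_zero hM ξ ψ₀ hns, zero_div]
    rw [hz, mul_zero]
    exact Cfsg.Agent.Lib.Helper82.memLocalIdeal_zero hMp

end Cfsg.Agent.S0937
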