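import Cfsg.Statements.S0935
import Cfsg.Agent.S0937
import Cfsg.Agent.Lib.Helper05.CharOrtho

set_option autoImplicit false
open Cfsg

namespace Cfsg.Agent.S0935

open Cfsg.Agent.Lib.Helper21 Cfsg.Agent.Lib.Helper82 Cfsg.Agent.Lib.Helper83
open Cfsg.Agent.Lib.Helper22
open scoped ComplexConjugate

/-- Let H be a subgroup of the finite group G and χ an irreducible character of G whose restriction to H is irreducible; fix a maximal ideal M of the algebraic integers containing the prime p and suppose χ and its restriction have height zero in their blocks B and b. If e is a block of H whose induced block is defined, then e induces B if and only if e = b. -/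
theorem result {G : Type*} [Group G] [Finite G] (p : ℕ) [Fact p.Prime] (M : Ideal Cfsg.AlgInt) (hM : Cfsg.IsPModular p M) (H : Subgroup G) (χ : Cfsg.IrrCharacter G) (hres : Cfsg.IsIrrCharacter H (fun h : H => (χ : G → ℂ) h)) (hχ0 : Cfsg.blockHeight p (Cfsg.blockOf M (χ : G → ℂ)) (χ : G → ℂ) = 0) (hψ0 : Cfsg.blockHeight p (Cfsg.blockOf M (fun h : H => (χ : G → ℂ) h)) (fun h : H => (χ : G → ℂ) h) = 0) (e : Set (Cfsg.IrrCharacter H)) (he : Cfsg.InducedBlockDefined M H e) : Cfsg.IsInducedBlock M H e (Cfsg.blockOf M (χ : G → ℂ)) ↔ e = Cfsg.blockOf M (fun h : H => (χ : G → ℂ) h) := by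
  classical
  have hp : p.Prime := hM.1
  have hMp : M.IsPrime := hM.2.1.isPrime
  let _ : Fintype G := Fintype.ofFinite G
  let _ : Fintype H := Fintype.ofFinite H
  let _ : Fintype (IrrCharacter G) := Fintype.ofFinite _
  let _ : Fintype (IrrCharacter H) := Fintype.ofFinite _
  set ψ : IrrCharacter H := ⟨fun h : H => (χ : G → ℂ) h, hres⟩ with hψdef
  constructor
  · intro hind
    obtain ⟨ξ, hξe, _, n, hn, hpn⟩ := Cfsg.Agent.S0937.result p M hM H e _ hind χ
      (mem_blockOf_self hMp χ) hχ0
    have hne : classInner (fun h : H => (χ : G → ℂ) h) (ξ : H → ℂ) ≠ 0 := by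
      rw [hn]
      intro h0
      have : n = 0 := by exact_mod_cast h0
      exact hpn (this ▸ dvd_zero p)
    have heq : (fun h : H => (χ : G → ℂ) h) = (ξ : H → ℂ) := by
      by_contra hne'
      exact hne (Cfsg.Agent.Lib.Helper05.classInner_irr_ne hres ξ.2 hne')
    have hξψ : ξ = ψ := Subtype.ext heq.symm
    rw [IsPBlock.eq_blockOf hMp hind.1 hξe, hξψ]
  · intro hee
    obtain ⟨B', hind'⟩ := he
    have hB' : IsPBlock M B' := hind'.2.1
    suffices hχB' : χ ∈ B' by
      rw [← IsPBlock.eq_blockOf hMp hB' hχB']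
      exact hind'
    by_contra hχB'
    have hψe : ψ ∈ e := by
      rw [hee]
      exact mem_blockOf_self hMp ψ
    obtain ⟨χ₀, hχ₀⟩ := IsPBlock.nonempty hMp hB'
    have hfc : IsClassFunction G (regConj p (χ : G → ℂ)) :=
      regConj_isClassFunction p (isClassFunction_irr χ)
    have hfR := regConj_memLocalRing p hMp χ
    have hcongr := omega_restrict_sub_memLocalIdeal H hMp hind' hψe hχ₀ hfc hfR
    have hns : ¬ SameBlock M (χ₀ : G → ℂ) (χ : G → ℂ) := fun hs =>
      hχB' (IsPBlock.mem_of_sameBlock hMp hB' hχ₀ hs)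
    have hz : omega (regConj p (χ : G → ℂ)) (χ₀ : G → ℂ) = 0 := by
      rw [omega, omega_regConj_eq_zero hM χ χ₀ hns, zero_div]
    rw [hz, sub_zero] at hcongr
    -- but the restriction is the truncated conjugate of `ψ`, of height zero
    have hfH : (fun h : H => regConj p (χ : G → ℂ) (h : G)) = regConj p (ψ : H → ℂ) := by
      funext h
      simp only [regConj_apply, Subgroup.orderOf_coe]
      rfl
    rw [hfH] at hcongr
    have hmin : ∀ ψ' : IrrCharacter H, SameBlock M (ψ : H → ℂ) (ψ' : H → ℂ) →
        (charDegree (ψ : H → ℂ)).factorization p ≤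
          (charDegree (ψ' : H → ℂ)).factorization p := by
      intro ψ' hs
      have h1 : sInf ((fun ξ : IrrCharacter H => (charDegree (ξ : H → ℂ)).factorization p) ''
          blockOf M (ψ : H → ℂ)) ≤ (charDegree (ψ' : H → ℂ)).factorization p :=
        Nat.sInf_le (Set.mem_image_of_mem _ hs)
      have h2 : blockHeight p (blockOf M (ψ : H → ℂ)) (ψ : H → ℂ) = 0 := hψ0
      rw [blockHeight] at h2
      omega
    exact omega_regConj_not_memLocalIdeal hM ψ hmin hcongr

end Cfsg.Agent.S0935
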