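-- Statement S0946
import Cfsg.Statements.S0946
import Cfsg.Agent.S0945

set_option autoImplicit false
open Cfsg

namespace Cfsg.Agent.S0946

open Cfsg.Agent.Lib.Helper22 Cfsg.Agent.S0945

variable {G : Type*} [Group G]

/-- Every involution is conjugate into a given Sylow 2-subgroup. -/
theorem exists_conj_mem_sylow [Finite G] (P : Sylow 2 G) (s : G) (hs : orderOf s = 2) :
    ∃ g : G, g * s * g⁻¹ ∈ (P : Subgroup G) := by
  have hpg : IsPGroup 2 (Subgroup.zpowers s) := by
    apply IsPGroup.of_card (n := 1)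
    rw [Nat.card_zpowers, hs, pow_one]
  obtain ⟨Q, hQ⟩ := hpg.exists_le_sylow
  obtain ⟨g, hg⟩ := MulAction.exists_smul_eq G Q P
  refine ⟨g, ?_⟩
  have hsQ : s ∈ (Q : Subgroup G) := hQ (Subgroup.mem_zpowers s)
  have : g * s * g⁻¹ ∈ ((g • Q : Sylow 2 G) : Subgroup G) := by
    rw [Sylow.coe_subgroup_smul]
    have := Subgroup.smul_mem_pointwise_smul s (MulAut.conj g) (Q : Subgroup G) hsQ
    simpa [MulAut.smul_def] using this
  rw [hg] at this
  exact this

/-- If the automizer has order three it is transitive on the involutions of `P`. -/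
theorem exists_aut_of_card_three {P : Type*} [Group P] [Finite P]
    (hcomm : ∀ a b : P, a * b = b * a) (hP : IsPGroup 2 P)
    (hT : Nat.card (Invol P) = 3)
    (A : Subgroup (MulAut P)) (h3 : Nat.card A = 3) (s t : Invol P) :
    ∃ α ∈ A, α s.1 = t.1 := by
  have hinj : Function.Injective (fun β : A => β • s) := by
    intro β γ hβγ
    have h1 : (γ⁻¹ * β) • s = s := by
      rw [mul_smul]
      simp only at hβγ
      rw [hβγ, inv_smul_smul]
    by_contra hne
    have hne' : ((γ⁻¹ * β : A) : MulAut P) ≠ 1 := by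
      intro h
      apply hne
      have : γ⁻¹ * β = 1 := Subtype.ext h
      calc β = γ * (γ⁻¹ * β) := by group
        _ = γ := by rw [this, mul_one]
    have := no_fixed_of_card_three hcomm hP hT A h3 _ (γ⁻¹ * β).2 hne' s.1 s.2.1
    exact this (congrArg Subtype.val h1)
  have hbij : Function.Bijective (fun β : A => β • s) :=
    hinj.bijective_of_nat_card_le (by rw [h3, hT])
  obtain ⟨β, hβ⟩ := hbij.2 t
  exact ⟨β, β.2, congrArg Subtype.val hβ⟩

/-- Let P be a Sylow 2-subgroup of the finite group G isomorphic to Z/2^m × Z/2^m with m ≥ 1. Then either P has a normal complement in G, or all involutions of G are conjugate. -/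
theorem result {G : Type*} [Group G] [Finite G] (P : Sylow 2 G) (m : ℕ) (hm : 1 ≤ m) (e : (P : Subgroup G) ≃* Multiplicative (ZMod (2 ^ m) × ZMod (2 ^ m))) : (∃ N : Subgroup G, N.Normal ∧ Subgroup.IsComplement' N (P : Subgroup G)) ∨ ∀ s t : G, orderOf s = 2 → orderOf t = 2 → IsConj s t := by
  have hcomm : ∀ a b : (P : Subgroup G), a * b = b * a := comm_of_equiv_zmod m e
  have hP2 : IsPGroup 2 (P : Subgroup G) := P.isPGroup'
  have hT : Nat.card (Invol (P : Subgroup G)) = 3 := card_invol_of_equiv_zmod m hm e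
  have hodd := odd_card_autImage P hcomm
  have hcard := card_odd_aut hcomm hP2 hT (autImage (P : Subgroup G)) hodd
  have hrel := relIndex_eq_card_autImage (P : Subgroup G)
  rcases hcard with h1 | h3
  · left
    rw [h1, Subgroup.relIndex_eq_one] at hrel
    have hP : Subgroup.normalizer (P : Set G) ≤ Subgroup.centralizer (P : Set G) := hrel
    exact ⟨(MonoidHom.transferSylow P hP).ker, inferInstance,
      MonoidHom.ker_transferSylow_isComplement' P hP⟩
  · right
    intro s t hs ht
    obtain ⟨g, hg⟩ := exists_conj_mem_sylow P s hs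
    obtain ⟨k, hk⟩ := exists_conj_mem_sylow P t ht
    have hs' : orderOf (g * s * g⁻¹) = 2 := by
      rw [← hs]
      exact orderOf_eq_orderOf_iff.mpr (fun n => by
        rw [conj_pow]
        constructor
        · intro h; rw [← conj_eq_one_iff (a := g)]; exact h
        · intro h; rw [h]; simp)
    have ht' : orderOf (k * t * k⁻¹) = 2 := by
      rw [← ht]
      exact orderOf_eq_orderOf_iff.mpr (fun n => by
        rw [conj_pow]
        constructor
        · intro h; rw [← conj_eq_one_iff (a := k)]; exact h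
        · intro h; rw [h]; simp)
    have mkInvol : ∀ x : G, ∀ hx : x ∈ (P : Subgroup G), orderOf x = 2 →
        (⟨x, hx⟩ : (P : Subgroup G)) ≠ 1 ∧ (⟨x, hx⟩ : (P : Subgroup G)) ^ 2 = 1 := by
      intro x hx hox
      constructor
      · intro h
        have : x = 1 := congrArg Subtype.val h
        rw [this, orderOf_one] at hox
        norm_num at hox
      · apply Subtype.ext
        show x ^ 2 = 1
        rw [← hox, pow_orderOf_eq_one]
    obtain ⟨α, hαA, hα⟩ := exists_aut_of_card_three hcomm hP2 hT _ h3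
      ⟨⟨_, hg⟩, mkInvol _ hg hs'⟩ ⟨⟨_, hk⟩, mkInvol _ hk ht'⟩
    obtain ⟨⟨n, hn⟩, rfl⟩ := hαA
    have hconj : n * (g * s * g⁻¹) * n⁻¹ = k * t * k⁻¹ := congrArg Subtype.val hα
    rw [isConj_iff]
    refine ⟨k⁻¹ * n * g, ?_⟩
    have : k⁻¹ * n * g * s * (k⁻¹ * n * g)⁻¹ = k⁻¹ * (n * (g * s * g⁻¹) * n⁻¹) * k := by group
    rw [this, hconj]
    group

end Cfsg.Agent.S0946
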