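import Cfsg.Statements.S0948
-- import your own Cfsg.Agent.* helpers here
import Cfsg.Agent.Lib.Helper22.KleinFourSylow
import Cfsg.Agent.Lib.Helper22.KleinFourBlock
import Cfsg.Agent.Lib.Helper83.Linear
import Cfsg.Agent.Lib.Helper83.Completeness
import Cfsg.Agent.Lib.Helper82.BlockOrthFull
import Cfsg.Agent.Lib.Helper82.BlockBasic
import Cfsg.Agent.Lib.Helper05.CharBasic
import Cfsg.Agent.S0947

set_option autoImplicit false
set_option maxHeartbeats 1000000
open Cfsg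

namespace Cfsg.Agent.S0948

open Cfsg.Agent.Lib.Helper21 Cfsg.Agent.Lib.Helper82 Cfsg.Agent.Lib.Helper83 Cfsg.Agent.Lib.Helper22

/-- Let the finite group G have a Sylow 2-subgroup P that is a Klein four-group, suppose all involutions of G are conjugate, and fix a maximal ideal M of the algebraic integers containing 2. Then the principal block consists of exactly four irreducible characters, the principal character and ζ₂, ζ₃, ζ₄, and there is a sign ε such that for every involution z: ζ₂ z = 1, ζ₃ z = ε, ζ₄ z = -1; moreover ζ₂ 1 ≡ 1, ζ₃ 1 ≡ ε, ζ₄ 1 ≡ -1 (mod 4), and 1 + ζ₂ y + ε ζ₃ y - ζ₄ y = 0 for every y of odd order. -/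
theorem result {G : Type*} [Group G] [Finite G] (M : Ideal Cfsg.AlgInt) (hM : Cfsg.IsPModular 2 M) (P : Sylow 2 G) (hP : IsKleinFour (P : Subgroup G)) (hone : ∀ s t : G, orderOf s = 2 → orderOf t = 2 → IsConj s t) : ∃ ζ₂ ζ₃ ζ₄ : Cfsg.IrrCharacter G, ∃ ε : ℤ, (ε = 1 ∨ ε = -1) ∧ (ζ₂ : G → ℂ) ≠ (fun _ => 1) ∧ (ζ₃ : G → ℂ) ≠ (fun _ => 1) ∧ ζ₂ ≠ ζ₃ ∧ ζ₂ ≠ ζ₄ ∧ ζ₃ ≠ ζ₄ ∧ Cfsg.principalBlock M G = {χ : Cfsg.IrrCharacter G | (χ : G → ℂ) = (fun _ => 1) ∨ χ = ζ₂ ∨ χ = ζ₃ ∨ χ = ζ₄} ∧ (∀ z : G, orderOf z = 2 → (ζ₂ : G → ℂ) z = 1 ∧ (ζ₃ : G → ℂ) z = (ε : ℂ) ∧ (ζ₄ : G → ℂ) z = -1) ∧ (4 : ℤ) ∣ (Cfsg.charDegree (ζ₂ : G → ℂ) : ℤ) - 1 ∧ (4 : ℤ) ∣ (Cfsg.charDegree (ζ₃ : G → ℂ) : ℤ) - ε ∧ (4 : ℤ) ∣ (Cfsg.charDegree (ζ₄ : G → ℂ) : ℤ) + 1 ∧ ∀ y : G, Odd (orderOf y) → 1 + (ζ₂ : G → ℂ) y + (ε : ℂ) * (ζ₃ : G → ℂ) y - (ζ₄ : G → ℂ) y = 0 := by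
  classical
  have : Fact (Nat.Prime 2) := ⟨Nat.prime_two⟩
  let _ : Fintype G := Fintype.ofFinite G
  let _ : Fintype (IrrCharacter G) := Fintype.ofFinite _
  have hMp : M.IsPrime := hM.2.1.isPrime
  -- Step A: an involution in P
  obtain ⟨z, hzP, hz1⟩ : ∃ z ∈ (P : Subgroup G), z ≠ 1 := by
    have hcard : Nat.card (P : Subgroup G) = 4 := IsKleinFour.card_four
    have : Nontrivial (P : Subgroup G) := by
      rw [← Finite.one_lt_card_iff_nontrivial, hcard]; norm_num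
    obtain ⟨x, hx⟩ := exists_ne (1 : (P : Subgroup G))
    exact ⟨x, x.2, fun h => hx (Subtype.ext h)⟩
  have hsqP : ∀ t ∈ (P : Subgroup G), t * t = 1 := by
    intro t ht
    exact congrArg Subtype.val (IsKleinFour.mul_self (⟨t, ht⟩ : (P : Subgroup G)))
  have hzz : z * z = 1 := hsqP z hzP
  have hz2 : orderOf z = 2 := orderOf_eq_prime (by rw [pow_two]; exact hzz) hz1
  obtain ⟨hle, hidx, hfour⟩ := kleinFour_centralizer_facts P hP z hzP hz1
  have hval : ∀ (χ : IrrCharacter G) (t : G), orderOf t = 2 →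
      (χ : G → ℂ) t = (χ : G → ℂ) z := by
    intro χ t ht
    obtain ⟨g, hg⟩ := isConj_iff.1 (hone z t hz2 ht)
    rw [← hg]; exact isClassFunction_irr χ z g
  have hordP : ∀ t ∈ (P : Subgroup G), t ≠ 1 → orderOf t = 2 := by
    intro t ht ht1
    exact orderOf_eq_prime (by rw [pow_two]; exact hsqP t ht) ht1
  -- Step B: integer values
  have hint : ∀ ζ : IrrCharacter G, ∃ n : ℤ, (ζ : G → ℂ) z = (n : ℂ) := fun ζ =>
    exists_int_char_of_orderOf_two (IrrCharacter_isCharacter ζ) z hz2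
  choose f hf using hint
  -- Step C: the norm sum
  have hsum := (Cfsg.Agent.S0947.result 2 M hM z ⟨1, by rw [hz2, pow_one]⟩ hz1
    (1 : Subgroup.centralizer ({z} : Set G)) (by rw [orderOf_one]; norm_num)).2 hidx
  rw [hfour] at hsum
  simp only [Subgroup.coe_one, mul_one] at hsum
  have hn : ∀ ζ : IrrCharacter G, ‖(ζ : G → ℂ) z‖ ^ 2 = ((f ζ ^ 2 : ℤ) : ℝ) := by
    intro ζ
    rw [hf ζ, Complex.norm_intCast, sq_abs]
    push_cast
    rfl
  rw [finsum_mem_congr rfl (fun ζ _ => hn ζ),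
    finsum_mem_eq_finite_toFinset_sum _ (Set.toFinite (principalBlock M G))] at hsum
  set B₀f := (Set.toFinite (principalBlock M G)).toFinset with hB₀f
  have hmemB : ∀ ζ : IrrCharacter G, ζ ∈ B₀f ↔ ζ ∈ principalBlock M G := by
    intro ζ; rw [hB₀f, Set.Finite.mem_toFinset]
  have hsumZ : ∑ ζ ∈ B₀f, f ζ ^ 2 = 4 := by
    have : ((∑ ζ ∈ B₀f, f ζ ^ 2 : ℤ) : ℝ) = ((4 : ℤ) : ℝ) := by
      rw [Int.cast_sum]; rw [hsum]; norm_num
    exact_mod_cast this
  -- Step D: remove the principal character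
  set e1 : IrrCharacter G := ⟨fun _ => 1, Cfsg.Agent.Lib.Helper05.isIrrCharacter_one⟩ with he1
  have he1mem : e1 ∈ B₀f := (hmemB e1).2 (mem_blockOf_self hMp e1)
  have hfe1 : f e1 = 1 := by
    have := hf e1
    have h1 : (e1 : G → ℂ) z = 1 := rfl
    rw [h1] at this
    exact_mod_cast this.symm
  set S := B₀f.erase e1 with hS
  have hsumS : ∑ ζ ∈ S, f ζ ^ 2 = 3 := by
    have := Finset.add_sum_erase B₀f (fun ζ => f ζ ^ 2) he1mem
    rw [hsumZ, hfe1] at this
    linarith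
  have hodd : ¬ 2 ∣ (Subgroup.centralizer ({z} : Set G)).index := by
    intro h
    exact P.not_dvd_index (h.trans (Subgroup.index_dvd_of_le hle))
  have hne0 : ∀ ζ ∈ S, f ζ ≠ 0 := by
    intro ζ hζ h0
    have hζB : ζ ∈ principalBlock M G := (hmemB ζ).1 (Finset.mem_of_mem_erase hζ)
    have := principal_char_ne_zero hM ζ hζB z hodd
    rw [hf ζ, h0] at this
    exact this (by norm_num)
  -- Step E: block orthogonality
  have horth : ∀ g : G, ¬ 2 ∣ orderOf g →
      1 + ∑ ζ ∈ S, (ζ : G → ℂ) g * (f ζ : ℂ) = 0 := by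
    intro g hg
    have hx : IsPPart 2 g 1 := ⟨g, one_mul g, Commute.one_left g, ⟨0, by simp⟩, hg⟩
    have hy : IsPPart 2 z⁻¹ z :=
      ⟨1, by rw [mul_one]; exact eq_inv_of_mul_eq_one_left hzz, Commute.one_right z,
        ⟨1, by rw [hz2, pow_one]⟩, by rw [orderOf_one]; norm_num⟩
    have hxy : ¬ IsConj (1 : G) z := fun h => hz1 (isConj_one_right.1 h)
    have h0 := sum_block_mul_eq_zero_of_not_isConj hM e1 g z 1 z hx hy hxy
    have h1 : blockOf M (e1 : G → ℂ) = principalBlock M G := rfl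
    rw [h1, finsum_mem_eq_finite_toFinset_sum _ (Set.toFinite (principalBlock M G)),
      ← Finset.add_sum_erase B₀f _ he1mem] at h0
    have h2 : (e1 : G → ℂ) g * (e1 : G → ℂ) z = 1 := by
      change (1 : ℂ) * 1 = 1
      rw [mul_one]
    rw [h2] at h0
    rw [← h0]
    congr 1
    apply Finset.sum_congr rfl
    intro ζ _
    rw [hf ζ]
  -- Step F: the three characters
  have hd : ∀ ζ ∈ S, (1 : ℤ) ≤ (charDegree (ζ : G → ℂ) : ℤ) := by
    intro ζ _
    exact_mod_cast irr_charDegree_pos ζ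
  have h4 : 1 + ∑ ζ ∈ S, (charDegree (ζ : G → ℂ) : ℤ) * f ζ = 0 := by
    have := horth 1 (by rw [orderOf_one]; norm_num)
    have h5 : ((1 + ∑ ζ ∈ S, (charDegree (ζ : G → ℂ) : ℤ) * f ζ : ℤ) : ℂ) = ((0 : ℤ) : ℂ) := by
      push_cast
      rw [← this]
      congr 1
      apply Finset.sum_congr rfl
      intro ζ _
      rw [charDegree_cast (IrrCharacter_isCharacter ζ)]
    exact_mod_cast h5
  obtain ⟨a, b, c, haS, hbS, hcS, hab, hac, hbc, hSeq, hfa, hfc, hfb⟩ :=
    three_signs S f (fun ζ => (charDegree (ζ : G → ℂ) : ℤ)) hsumS hne0 hd h4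
  have hne1 : ∀ ζ ∈ S, (ζ : G → ℂ) ≠ (fun _ => 1) := by
    intro ζ hζ h
    exact (Finset.mem_erase.1 hζ).1 (Subtype.ext h)
  have hsumabc : ∀ F : IrrCharacter G → ℂ, ∑ ζ ∈ S, F ζ = F a + F b + F c := by
    intro F
    rw [hSeq, Finset.sum_insert, Finset.sum_insert, Finset.sum_singleton, add_assoc]
    · simpa using hbc
    · simp only [Finset.mem_insert, Finset.mem_singleton, not_or]
      exact ⟨hab, hac⟩
  refine ⟨a, b, c, f b, hfb, hne1 a haS, hne1 b hbS, hab, hac, hbc, ?_, ?_, ?_, ?_, ?_, ?_⟩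
  · ext χ
    rw [← hmemB χ]
    constructor
    · intro hχ
      by_cases h : χ = e1
      · left; rw [h]
      · right
        have : χ ∈ S := Finset.mem_erase.2 ⟨h, hχ⟩
        rw [hSeq] at this
        simpa using this
    · rintro (h | h)
      · have : χ = e1 := Subtype.ext h
        rw [this]; exact he1mem
      · have : χ ∈ S := by
          rw [hSeq]; simpa using h
        exact Finset.mem_of_mem_erase this
  · intro t ht
    refine ⟨?_, ?_, ?_⟩
    · rw [hval a t ht, hf a, hfa]; norm_num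
    · rw [hval b t ht, hf b]
    · rw [hval c t ht, hf c, hfc]; norm_num
  · have := kleinFour_degree_congr P hP (IrrCharacter_isCharacter a) (f a) (by
      intro t ht ht1
      rw [hval a t (hordP t ht ht1), hf a])
    rwa [hfa] at this
  · exact kleinFour_degree_congr P hP (IrrCharacter_isCharacter b) (f b) (by
      intro t ht ht1
      rw [hval b t (hordP t ht ht1), hf b])
  · have := kleinFour_degree_congr P hP (IrrCharacter_isCharacter c) (f c) (by
      intro t ht ht1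
      rw [hval c t (hordP t ht ht1), hf c])
    rwa [hfc, sub_neg_eq_add] at this
  · intro y hy
    have hy2 : ¬ 2 ∣ orderOf y := by
      rw [← Nat.not_even_iff_odd] at hy
      exact fun h => hy (even_iff_two_dvd.2 h)
    have := horth y hy2
    rw [hsumabc, hfa, hfc] at this
    rw [← this]
    push_cast
    ring

end Cfsg.Agent.S0948
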