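-- Statement S0950
import Cfsg.Statements.S0950
import Cfsg.Agent.Lib.Helper60.ThompsonTransfer
import Cfsg.Agent.Lib.Helper60.Conj
import Cfsg.Agent.Lib.Helper40.Cores

set_option autoImplicit false
open Cfsg

namespace Cfsg.Agent.S0950

open Cfsg.Agent.Lib.Helper60

variable {G : Type*} [Group G]

local notation:max "cj[" g "] " X:max => Subgroup.map (MulEquiv.toMonoidHom (MulAut.conj g)) X


/-- A normal subgroup of a normal subgroup whose order is prime to its index is normal. -/
theorem normal_map_of_coprime [Finite G] (K : Subgroup G) [hK : K.Normal] (M : Subgroup K)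
    [M.Normal] (hcop : (Nat.card M).Coprime M.index) : (M.map K.subtype).Normal := by
  have key : ∀ k : K, k ∈ M ↔ k ^ Nat.card M = 1 := by
    intro k
    constructor
    · intro h
      have := pow_card_eq_one' (G := M) (x := ⟨k, h⟩)
      have := congrArg (Subtype.val : M → K) this
      simpa only [SubmonoidClass.coe_pow, OneMemClass.coe_one] using this
    · intro h
      have h1 : ((k : K ⧸ M)) ^ Nat.card M = 1 := by
        rw [← QuotientGroup.mk_pow, h]; rfl
      have h2 : ((k : K ⧸ M)) ^ M.index = 1 := by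
        rw [Subgroup.index_eq_card]; exact pow_card_eq_one'
      have h3 : orderOf (k : K ⧸ M) ∣ Nat.gcd (Nat.card M) M.index :=
        Nat.dvd_gcd (orderOf_dvd_of_pow_eq_one h1) (orderOf_dvd_of_pow_eq_one h2)
      rw [hcop.gcd_eq_one, Nat.dvd_one, orderOf_eq_one_iff] at h3
      exact (QuotientGroup.eq_one_iff k).mp h3
  constructor
  intro n hn g
  obtain ⟨k, hk, rfl⟩ := hn
  refine ⟨⟨g * k * g⁻¹, hK.conj_mem k k.2 g⟩, ?_, rfl⟩
  rw [SetLike.mem_coe, key]
  have h1 := (key k).mp hk
  apply Subtype.ext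
  have h2 : ((k : G)) ^ Nat.card M = 1 := by
    have := congrArg (Subtype.val : K → G) h1
    simpa using this
  simp only [SubmonoidClass.mk_pow, conj_pow, h2, mul_one, mul_inv_cancel, OneMemClass.coe_one]

theorem exists_normal_complement_of_index_two [Finite G] (S : Sylow 2 G) (hS : Nat.card S = 8)
    (hcyc : ∀ C : Subgroup G, C ≤ S → Nat.card C = 4 → ∃ c ∈ C, orderOf c = 4)
    (K : Subgroup G) [K.Normal] (hK : K.index = 2) :
    ∃ N : Subgroup G, N.Normal ∧ Subgroup.IsComplement' N (S : Subgroup G) := by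
  obtain ⟨P, hP⟩ := Cfsg.Agent.Lib.Helper40.exists_sylow_map_eq_inf S K
  have hcardK : Nat.card K * 2 = Nat.card G := by rw [← hK]; exact K.card_mul_index
  have hPcard : Nat.card P = 4 := by
    have h1 := P.card_eq_multiplicity
    have h2 := S.card_eq_multiplicity
    rw [hS] at h2
    have h3 : (Nat.card G).factorization 2 = (Nat.card K).factorization 2 + 1 := by
      rw [← hcardK, Nat.factorization_mul (Nat.card_pos.ne') (by norm_num)]
      simp [Nat.Prime.factorization_self Nat.prime_two]
    rw [h3, pow_succ] at h2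
    rw [h1]
    omega
  -- P is cyclic
  have hCle : (S : Subgroup G) ⊓ K ≤ S := inf_le_left
  have hCcard : Nat.card ((S : Subgroup G) ⊓ K : Subgroup G) = 4 := by
    rw [← hP, Subgroup.card_map_of_injective K.subtype_injective]
    exact hPcard
  obtain ⟨c, hcC, hc4⟩ := hcyc _ hCle hCcard
  rw [← hP] at hcC
  obtain ⟨k, hkP, rfl⟩ := hcC
  have hPcyc : IsCyclic P := by
    have : IsCyclic (P : Subgroup K) := by
      apply isCyclic_of_orderOf_eq_card (⟨k, hkP⟩ : (P : Subgroup K))
      rw [hPcard, ← hc4]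
      rw [← Subgroup.orderOf_coe (⟨k, hkP⟩ : (P : Subgroup K))]
      exact (Subgroup.orderOf_coe k).symm
    exact this
  -- minFac
  have h2K : 2 ∣ Nat.card K := by
    have : Nat.card P ∣ Nat.card K := Subgroup.card_subgroup_dvd_card _
    rw [hPcard] at this
    exact dvd_trans (by norm_num) this
  have hmin : (Nat.card K).minFac = 2 := (Nat.minFac_eq_two_iff _).mpr h2K
  have hcompl := IsCyclic.isComplement' hmin hPcyc
  set M := (MonoidHom.transferSylow P (hPcyc.normalizer_le_centralizer hmin)).ker with hM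
  have hMP : Nat.card M * Nat.card P = Nat.card K := hcompl.card_mul_card
  have hMidx : M.index = 4 := by
    have := M.card_mul_index
    rw [← hMP, hPcard] at this
    have hpos : 0 < Nat.card M := Nat.card_pos
    exact Nat.eq_of_mul_eq_mul_left hpos this
  have hMcop : (Nat.card M).Coprime 4 := by
    have h1 : Nat.card M = (P : Subgroup K).index := by
      have := (P : Subgroup K).card_mul_index
      rw [← hMP] at this
      have hpos : 0 < Nat.card (P : Subgroup K) := Nat.card_pos
      rw [mul_comm] at this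
      exact (Nat.eq_of_mul_eq_mul_right hpos this).symm
    have h2 : ¬ 2 ∣ (P : Subgroup K).index := P.not_dvd_index
    rw [h1]
    have : (4 : ℕ) = 2 ^ 2 := by norm_num
    rw [this]
    apply Nat.Coprime.pow_right
    rw [Nat.coprime_comm]
    exact (Nat.Prime.coprime_iff_not_dvd Nat.prime_two).mpr h2
  have hMnorm : (M.map K.subtype).Normal := by
    apply normal_map_of_coprime
    rw [hMidx]; exact hMcop
  refine ⟨M.map K.subtype, hMnorm, ?_⟩
  apply Subgroup.isComplement'_of_coprime
  · rw [Subgroup.card_map_of_injective K.subtype_injective]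
    have : Nat.card (S : Subgroup G) = 8 := hS
    rw [this, ← hcardK, ← hMP, hPcard]; ring
  · rw [Subgroup.card_map_of_injective K.subtype_injective]
    have : Nat.card (S : Subgroup G) = 8 := hS
    rw [this]
    have h8 : (8 : ℕ) = 2 ^ 3 := by norm_num
    have h4 : (4 : ℕ) = 2 ^ 2 := by norm_num
    rw [h8]
    rw [h4] at hMcop
    exact Nat.Coprime.pow_right 3 (Nat.Coprime.coprime_dvd_right (dvd_pow_self 2 (by norm_num)) hMcop)




/-- Fusion of normal subgroups of a Sylow subgroup is controlled by its normalizer. -/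
theorem fusion_normal [Finite G] {p : ℕ} [Fact p.Prime] (S : Sylow p G) (A B : Subgroup G)
    (hA : (S : Subgroup G) ≤ Subgroup.normalizer (A : Set G))
    (hB : (S : Subgroup G) ≤ Subgroup.normalizer (B : Set G))
    (g : G) (hg : B = cj[g] A) :
    ∃ n ∈ Subgroup.normalizer ((S : Subgroup G) : Set G), B = cj[n] A := by
  set H := Subgroup.normalizer (B : Set G) with hH
  have h1 : (S : Subgroup G) ≤ H := hB
  have h2 : ((g • S : Sylow p G) : Subgroup G) ≤ H := by
    rw [sylow_smul_eq_cj, hH, hg]
    exact cj_le_normalizer_cj g hA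
  obtain ⟨h, hh⟩ := MulAction.exists_smul_eq H ((g • S).subtype h2) (S.subtype h1)
  rw [Sylow.smul_subtype] at hh
  have h3 : (h : G) • (g • S) = S := Sylow.subtype_injective hh
  rw [← mul_smul, Sylow.smul_eq_iff_mem_normalizer] at h3
  refine ⟨(h : G) * g, h3, ?_⟩
  rw [cj_mul, ← hg]
  exact ((mem_normalizer_iff_cj (h : G) B).mp h.2).symm




theorem q8_sq_eq_one (x : QuaternionGroup 2) (hx : x ^ 2 = 1) :
    x = 1 ∨ x = QuaternionGroup.a 2 := by
  revert x
  decide

theorem q8_pow_four (x : QuaternionGroup 2) : x ^ 4 = 1 := by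
  revert x
  decide

theorem q8_card : Nat.card (QuaternionGroup 2) = 8 := by
  rw [Nat.card_eq_fintype_card, QuaternionGroup.card]

/-- Properties of a group isomorphic to the quaternion group of order eight. -/
structure Q8Like (S : Subgroup G) (z : G) : Prop where
  card : Nat.card S = 8
  z_mem : z ∈ S
  sq : ∀ y ∈ S, y ^ 2 = 1 → y = 1 ∨ y = z
  z_sq : z ^ 2 = 1
  pow_four : ∀ y ∈ S, y ^ 4 = 1

theorem q8Like_of_equiv (S : Subgroup G) (e : S ≃* QuaternionGroup 2) :
    ∃ z : G, Q8Like S z := by
  refine ⟨((e.symm (QuaternionGroup.a 2) : S) : G), ?_, ?_, ?_, ?_, ?_⟩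
  · rw [Nat.card_congr e.toEquiv, q8_card]
  · exact (e.symm (QuaternionGroup.a 2)).2
  · intro y hy hy2
    have h1 : (e ⟨y, hy⟩) ^ 2 = 1 := by
      rw [← map_pow]
      have : (⟨y, hy⟩ : S) ^ 2 = 1 := Subtype.ext hy2
      rw [this, map_one]
    rcases q8_sq_eq_one _ h1 with h | h
    · left
      have : (⟨y, hy⟩ : S) = 1 := by
        apply e.injective; rw [h, map_one]
      exact congrArg Subtype.val this
    · right
      have : (⟨y, hy⟩ : S) = e.symm (QuaternionGroup.a 2) := by
        apply e.injective; rw [h, e.apply_symm_apply]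
      exact congrArg Subtype.val this
  · have : (e.symm (QuaternionGroup.a 2)) ^ 2 = 1 := by
      apply e.injective
      rw [map_pow, e.apply_symm_apply, map_one]
      decide
    exact congrArg Subtype.val this
  · intro y hy
    have : (⟨y, hy⟩ : S) ^ 4 = 1 := by
      apply e.injective
      rw [map_pow, map_one]
      exact q8_pow_four _
    exact congrArg Subtype.val this

section Q8

variable [Finite G] {S : Subgroup G} {z : G}

theorem Q8Like.exists_order_four (h : Q8Like S z) (C : Subgroup G) (hC : C ≤ S)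
    (hC4 : Nat.card C = 4) : ∃ c ∈ C, orderOf c = 4 := by
  by_contra hcon
  push Not at hcon
  have hsub : C ≤ Subgroup.zpowers z := by
    intro c hc
    have h4 : c ^ 4 = 1 := h.pow_four c (hC hc)
    have hd : orderOf c ∣ 4 := orderOf_dvd_of_pow_eq_one h4
    have hne : orderOf c ≠ 4 := hcon c hc
    have hd2 : orderOf c ∣ 2 := by
      have h4' : (4 : ℕ) = 2 ^ 2 := by norm_num
      rw [h4'] at hd
      obtain ⟨j, hj, hj'⟩ := (Nat.dvd_prime_pow Nat.prime_two).mp hd
      interval_cases j
      · rw [hj']; norm_num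
      · rw [hj']; norm_num
      · exfalso; apply hne; rw [hj']; norm_num
    have hc2 : c ^ 2 = 1 := orderOf_dvd_iff_pow_eq_one.mp hd2
    rcases h.sq c (hC hc) hc2 with h1 | h1
    · rw [h1]; exact Subgroup.one_mem _
    · rw [h1]; exact Subgroup.mem_zpowers z
  have hle := Subgroup.card_le_of_le hsub
  rw [hC4, Nat.card_zpowers] at hle
  have : orderOf z ≤ 2 := orderOf_le_of_pow_eq_one (by norm_num) h.z_sq
  omega

theorem Q8Like.mem_of_sq_eq_one (h : Q8Like S z) (C : Subgroup G) (hC : C ≤ S)
    (hC4 : Nat.card C = 4) (y : G) (hy : y ∈ S) (hy2 : y ^ 2 = 1) : y ∈ C := by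
  obtain ⟨c, hc, hc4⟩ := h.exists_order_four C hC hC4
  have hz : z ∈ C := by
    have h1 : (c ^ 2) ^ 2 = 1 := by
      rw [← pow_mul]
      have : c ^ 4 = 1 := by rw [← hc4]; exact pow_orderOf_eq_one c
      exact this
    have h2 : c ^ 2 ≠ 1 := by
      intro h2
      have := orderOf_dvd_of_pow_eq_one h2
      rw [hc4] at this
      norm_num at this
    rcases h.sq (c ^ 2) (S.pow_mem (hC hc) 2) h1 with h3 | h3
    · exact absurd h3 h2
    · rw [← h3]; exact C.pow_mem hc 2
  rcases h.sq y hy hy2 with h1 | h1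
  · rw [h1]; exact C.one_mem
  · rw [h1]; exact hz

theorem Q8Like.relIndex_eq_two (h : Q8Like S z) (C : Subgroup G) (hC : C ≤ S)
    (hC4 : Nat.card C = 4) : C.relIndex S = 2 := by
  have := Subgroup.relIndex_mul_relIndex ⊥ C S bot_le hC
  rw [Subgroup.relIndex_bot_left, Subgroup.relIndex_bot_left, hC4, h.card] at this
  omega

theorem Q8Like.le_normalizer (h : Q8Like S z) (C : Subgroup G) (hC : C ≤ S)
    (hC4 : Nat.card C = 4) : S ≤ Subgroup.normalizer (C : Set G) := by
  have h2 : (C.subgroupOf S).index = 2 := h.relIndex_eq_two C hC hC4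
  have := Subgroup.normal_of_index_eq_two h2
  exact (Subgroup.normal_subgroupOf_iff_le_normalizer hC).mp this


omit [Finite G] in
theorem orderOf_eq_four_of_sq_ne_one (h : Q8Like S z) (y : G) (hy : y ∈ S) (hy2 : y ^ 2 ≠ 1) :
    orderOf y = 4 := by
  have h1 : ¬ y ^ 2 ^ 1 = 1 := by rwa [pow_one]
  have h2 : y ^ 2 ^ (1 + 1) = 1 := by
    have := h.pow_four y hy
    norm_num
    exact this
  have := orderOf_eq_prime_pow h1 h2
  rw [this]; norm_num

end Q8

/-- Let S be a Sylow 2-subgroup of the finite group G that is isomorphic to the quaternion group of order 8, and suppose S has no normal complement in G. Then any two subgroups of order 4 of S are conjugate by an element of the normalizer of S. -/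
theorem result {G : Type*} [Group G] [Finite G] (S : Sylow 2 G) (e : (S : Subgroup G) ≃* QuaternionGroup 2) (hnc : ∀ N : Subgroup G, N.Normal → ¬ Subgroup.IsComplement' N (S : Subgroup G)) (A B : Subgroup G) (hA : A ≤ S) (hB : B ≤ S) (hA4 : Nat.card A = 4) (hB4 : Nat.card B = 4) : ∃ n ∈ Subgroup.normalizer ((S : Subgroup G) : Set G), B = A.map (MulAut.conj n).toMonoidHom := by
  by_contra hcon
  obtain ⟨z, hQ⟩ := q8Like_of_equiv (S : Subgroup G) e
  -- A is not contained in B
  have hAB : ¬ A ≤ B := by
    intro hle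
    have hEq : A = B := Subgroup.eq_of_le_of_card_ge hle (by rw [hA4, hB4])
    apply hcon
    refine ⟨1, Subgroup.one_mem _, ?_⟩
    rw [cj_one, hEq]
  obtain ⟨x, hxA, hxB⟩ := SetLike.not_le_iff_exists.mp hAB
  have hxS : x ∈ (S : Subgroup G) := hA hxA
  have hx2 : x ^ 2 ≠ 1 := fun h2 => hxB (hQ.mem_of_sq_eq_one B hB hB4 x hxS h2)
  have hx4 : orderOf x = 4 := orderOf_eq_four_of_sq_ne_one hQ x hxS hx2
  have hAz : Subgroup.zpowers x = A := by
    apply Subgroup.eq_of_le_of_card_ge (Subgroup.zpowers_le.mpr hxA)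
    rw [Nat.card_zpowers, hx4, hA4]
  -- Thompson transfer
  have hnoconj : ∀ g : G, g * x * g⁻¹ ∉ B := by
    intro g hg
    apply hcon
    have hle : cj[g] A ≤ B := by
      rw [← hAz, MonoidHom.map_zpowers]
      apply Subgroup.zpowers_le.mpr
      simpa using hg
    have hEq : cj[g] A = B := eq_of_le_of_card_eq_cj g A B hle (by rw [hA4, hB4])
    exact fusion_normal S A B (hQ.le_normalizer A hA hA4) (hQ.le_normalizer B hB hB4) g hEq.symm
  obtain ⟨N, hNn, hNidx, _⟩ := thompson_transfer_general S B (hQ.relIndex_eq_two B hB hB4) 2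
    (by norm_num)
    (by
      intro y hy hyB
      have hy2 : y ^ 2 ≠ 1 := fun h2 => hyB (hQ.mem_of_sq_eq_one B hB hB4 y hy h2)
      rw [orderOf_eq_four_of_sq_ne_one hQ y hy hy2]
      norm_num)
    x (by rw [hx4]; norm_num) hnoconj
  obtain ⟨N', hN'n, hN'c⟩ := exists_normal_complement_of_index_two S hQ.card
    (fun C hC hC4 => hQ.exists_order_four C hC hC4) N hNidx
  exact hnc N' hN'n hN'c

end Cfsg.Agent.S0950
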