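import Cfsg.Statements.S4512
-- import your own Cfsg.Agent.* helpers here
import Cfsg.Agent.S0948
import Cfsg.Agent.S4511
import Cfsg.Agent.S0936
import Cfsg.Agent.Lib.Helper22.BlockRankTransport
import Cfsg.Agent.Lib.Helper22.PrincipalSection
import Cfsg.Agent.Lib.Helper22.KleinFourSylow

set_option autoImplicit false
set_option maxHeartbeats 1000000
open Cfsg

namespace Cfsg.Agent.S4512

open Cfsg.Agent.Lib.Helper21 Cfsg.Agent.Lib.Helper82 Cfsg.Agent.Lib.Helper83 Cfsg.Agent.Lib.Helper22
open scoped Pointwise

/-- Only the principal block of the centralizer of a `p`-element induces the principal block. -/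
theorem setOf_induced_principal {G : Type*} [Group G] [Finite G] {p : ℕ} [Fact p.Prime]
    {M : Ideal Cfsg.AlgInt} (hM : Cfsg.IsPModular p M) (x : G) (hx : ∃ k : ℕ, orderOf x = p ^ k) :
    {b : Set (Cfsg.IrrCharacter ↥(Subgroup.centralizer ({x} : Set G))) |
      Cfsg.IsInducedBlock M (Subgroup.centralizer ({x} : Set G)) b (Cfsg.principalBlock M G)} =
    {Cfsg.principalBlock M ↥(Subgroup.centralizer ({x} : Set G))} := by
  ext b
  simp only [Set.mem_ofPred_eq, Set.mem_singleton_iff]
  constructor
  · intro hb
    exact (Cfsg.Agent.S0936.result p M hM _ b ⟨_, hb⟩).1 hb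
  · rintro rfl
    exact isInducedBlock_principal_centralizer hM x hx

/-- In a group with a Sylow `2`-subgroup of exponent two, every `2`-element squares to one. -/
theorem sq_eq_one_of_two_element {G : Type*} [Group G] [Finite G] (P : Sylow 2 G)
    (hexp : ∀ x : P, x * x = 1) (g : G) (hg : ∃ k : ℕ, orderOf g = 2 ^ k) : g * g = 1 := by
  have : Fact (Nat.Prime 2) := ⟨Nat.prime_two⟩
  obtain ⟨k, hk⟩ := hg
  have hgp : IsPGroup 2 (Subgroup.zpowers g) :=
    IsPGroup.of_card (n := k) (by rw [Nat.card_zpowers, hk])
  obtain ⟨Q, hQ⟩ := hgp.exists_le_sylow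
  obtain ⟨c, hc⟩ := MulAction.exists_smul_eq G P Q
  have hgQ : g ∈ (Q : Subgroup G) := hQ (Subgroup.mem_zpowers g)
  have hgQ' : g ∈ MulAut.conj c • (P : Subgroup G) := by
    rw [← Sylow.coe_subgroup_smul, hc]; exact hgQ
  rw [Subgroup.mem_pointwise_smul_iff_inv_smul_mem] at hgQ'
  have h1 := hexp ⟨_, hgQ'⟩
  have h2 : ((MulAut.conj c)⁻¹ • g) * ((MulAut.conj c)⁻¹ • g) = 1 := congrArg Subtype.val h1
  rw [← smul_mul', smul_eq_iff_eq_inv_smul, smul_one] at h2
  exact h2

/-- If G is a finite group with a Sylow 2-subgroup that is a Klein four-group and a single conjugacy class of involutions, then its principal 2-block (relative to a maximal ideal M of the algebraic integers containing 2) has 2-regular rank 3: the restrictions of its irreducible characters to the elements of odd order span a space of dimension 3 (it has three irreducible Brauer characters). -/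
theorem result {G : Type*} [Group G] [Finite G] (M : Ideal Cfsg.AlgInt) (hM : Cfsg.IsPModular 2 M) (P : Sylow 2 G)
    (hP : Nat.card P = 4) (hexp : ∀ x : P, x * x = 1)
    (hone : ∀ s t : G, orderOf s = 2 → orderOf t = 2 → IsConj s t) :
    Cfsg.blockRank 2 (Cfsg.principalBlock M G) = 3 := by
  classical
  have : Fact (Nat.Prime 2) := ⟨Nat.prime_two⟩
  have hMp : M.IsPrime := hM.2.1.isPrime
  -- Klein four
  have hK : IsKleinFour (P : Subgroup G) := by
    refine ⟨hP, ?_⟩
    have hdvd : Monoid.exponent (P : Subgroup G) ∣ 2 :=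
      Monoid.exponent_dvd_of_forall_pow_eq_one (fun x => by rw [pow_two]; exact hexp x)
    rcases (Nat.dvd_prime Nat.prime_two).1 hdvd with h1 | h2
    · exfalso
      rw [Monoid.exp_eq_one_iff] at h1
      have : Nat.card (P : Subgroup G) = 1 := Nat.card_unique
      omega
    · exact h2
  obtain ⟨z, hzP, hz1⟩ : ∃ z ∈ (P : Subgroup G), z ≠ 1 := by
    have : Nontrivial (P : Subgroup G) := by
      rw [← Finite.one_lt_card_iff_nontrivial, hP]; norm_num
    obtain ⟨x, hx⟩ := exists_ne (1 : (P : Subgroup G))
    exact ⟨x, x.2, fun h => hx (Subtype.ext h)⟩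
  have hzz : z * z = 1 := congrArg Subtype.val (hexp ⟨z, hzP⟩)
  have hz2 : orderOf z = 2 := orderOf_eq_prime (by rw [pow_two]; exact hzz) hz1
  obtain ⟨-, hidx, -⟩ := kleinFour_centralizer_facts P hK z hzP hz1
  -- the count
  obtain ⟨ζ₂, ζ₃, ζ₄, ε, -, h2ne, h3ne, h23, h24, h34, hB₀, hvals, -, -, -, -⟩ :=
    Cfsg.Agent.S0948.result M hM P hK hone
  set e1 : IrrCharacter G := ⟨fun _ => 1, Cfsg.Agent.Lib.Helper05.isIrrCharacter_one⟩ with he1
  have h4ne : (ζ₄ : G → ℂ) ≠ (fun _ => 1) := by
    intro h
    have := (hvals z hz2).2.2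
    rw [h] at this
    norm_num at this
  have hcardB : Nat.card (Cfsg.principalBlock M G) = 4 := by
    have hset : Cfsg.principalBlock M G = ↑({e1, ζ₂, ζ₃, ζ₄} : Finset (IrrCharacter G)) := by
      rw [hB₀]
      ext χ
      simp only [Set.mem_ofPred_eq, Finset.coe_insert, Finset.coe_singleton, Set.mem_insert_iff,
        Set.mem_singleton_iff]
      constructor
      · rintro (h | h | h | h)
        · left; exact Subtype.ext h
        · right; left; exact h
        · right; right; left; exact h
        · right; right; right; exact h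
      · rintro (h | h | h | h)
        · left; rw [h]
        · right; left; exact h
        · right; right; left; exact h
        · right; right; right; exact h
    rw [hset, Nat.card_coe_set_eq, Set.ncard_coe_finset]
    have d12 : e1 ≠ ζ₂ := fun h => h2ne (by rw [← h])
    have d13 : e1 ≠ ζ₃ := fun h => h3ne (by rw [← h])
    have d14 : e1 ≠ ζ₄ := fun h => h4ne (by rw [← h])
    rw [Finset.card_insert_of_notMem, Finset.card_insert_of_notMem, Finset.card_insert_of_notMem,
      Finset.card_singleton]
    · simpa using h34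
    · simp only [Finset.mem_insert, Finset.mem_singleton, not_or]
      exact ⟨h23, h24⟩
    · simp only [Finset.mem_insert, Finset.mem_singleton, not_or]
      exact ⟨d12, d13, d14⟩
  have hX : ∀ x ∈ ({1, z} : Finset G), ∃ k : ℕ, orderOf x = 2 ^ k := by
    intro x hx
    simp only [Finset.mem_insert, Finset.mem_singleton] at hx
    rcases hx with rfl | rfl
    · exact ⟨0, by simp⟩
    · exact ⟨1, by rw [hz2, pow_one]⟩
  have hXrep : ∀ g : G, (∃ k : ℕ, orderOf g = 2 ^ k) →
      ∃! x, x ∈ ({1, z} : Finset G) ∧ IsConj g x := by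
    intro g hg
    have hgg := sq_eq_one_of_two_element P hexp g hg
    by_cases hg1 : g = 1
    · refine ⟨1, ⟨by simp, by rw [hg1]⟩, ?_⟩
      rintro y ⟨-, hy⟩
      rw [hg1] at hy
      exact isConj_one_right.1 hy
    · have hg2 : orderOf g = 2 := orderOf_eq_prime (by rw [pow_two]; exact hgg) hg1
      refine ⟨z, ⟨by simp, hone g z hg2 hz2⟩, ?_⟩
      rintro y ⟨hy, hc⟩
      simp only [Finset.mem_insert, Finset.mem_singleton] at hy
      rcases hy with rfl | rfl
      · exact absurd (isConj_one_left.1 hc) hg1
      · rfl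
  have hcount := Cfsg.Agent.S4511.result 2 M hM (Cfsg.principalBlock M G)
    (isPBlock_principalBlock M G) ({1, z} : Finset G) hX hXrep
  rw [hcardB, Finset.sum_pair (Ne.symm hz1), setOf_induced_principal hM 1 ⟨0, by simp⟩,
    setOf_induced_principal hM z ⟨1, by rw [hz2, pow_one]⟩, finsum_mem_singleton,
    finsum_mem_singleton, blockRank_principal_of_index 2 M hM hidx] at hcount
  -- transport for the centralizer of 1
  have htop : Subgroup.centralizer ({1} : Set G) = ⊤ := by
    ext g
    simp [Subgroup.mem_centralizer_iff]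
  have hr : blockRank 2 (Cfsg.principalBlock M ↥(Subgroup.centralizer ({1} : Set G))) =
      blockRank 2 (Cfsg.principalBlock M G) := by
    rw [principalBlock_eq_blockComap M ((MulEquiv.subgroupCongr htop).trans Subgroup.topEquiv),
      blockRank_blockComap]
  rw [hr] at hcount
  omega

end Cfsg.Agent.S4512
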