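import Cfsg.Statements.S0951
-- import your own Cfsg.Agent.* helpers here
import Cfsg.Agent.Lib.Helper20.Q8Central
import Cfsg.Agent.Lib.Helper20.Q8Block
import Cfsg.Agent.S4512
import Cfsg.Agent.S4511
import Cfsg.Agent.S0950
import Cfsg.Agent.S0201

set_option autoImplicit false
open Cfsg

namespace Cfsg.Agent.S0951

open Cfsg.Agent.Lib.Helper20 Cfsg.Agent.Lib.Helper22

theorem q8Trans_of_core_free {G : Type*} [Group G] [Finite G] (S : Sylow 2 G)
    (e : (S : Subgroup G) ≃* QuaternionGroup 2)
    (hO : ∀ N : Subgroup G, N.Normal → Odd (Nat.card N) → N = ⊥)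
    (hG : (S : Subgroup G) ≠ ⊤) : Q8Trans S := by
  have : Fact (Nat.Prime 2) := ⟨Nat.prime_two⟩
  intro A B hA hB hA4 hB4
  refine Cfsg.Agent.S0950.result S e ?_ A B hA hB hA4 hB4
  intro N hN hcomp
  have h1 : (S : Subgroup G).index = Nat.card N := hcomp.index_eq_card
  have hodd : Odd (Nat.card N) := by
    rw [← h1, ← Nat.not_even_iff_odd, even_iff_two_dvd]
    exact S.not_dvd_index
  have hbot := hO N hN hodd
  rw [hbot] at hcomp
  exact hG (Subgroup.isComplement'_bot_left.mp hcomp)

theorem blockRank_centralizer_eq_top {G : Type*} [Group G] [Finite G] (M : Ideal Cfsg.AlgInt)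
    (x : G) (htop : Subgroup.centralizer ({x} : Set G) = ⊤) :
    blockRank 2 (Cfsg.principalBlock M ↥(Subgroup.centralizer ({x} : Set G))) =
      blockRank 2 (Cfsg.principalBlock M G) := by
  rw [principalBlock_eq_blockComap M ((MulEquiv.subgroupCongr htop).trans Subgroup.topEquiv),
    blockRank_blockComap]

theorem core {G : Type*} [Group G] [Finite G] (M : Ideal Cfsg.AlgInt) (hM : Cfsg.IsPModular 2 M)
    (S : Sylow 2 G) (e : (S : Subgroup G) ≃* QuaternionGroup 2)
    (hO : ∀ N : Subgroup G, N.Normal → Odd (Nat.card N) → N = ⊥)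
    (hG : (S : Subgroup G) ≠ ⊤) (hBS : Nat.card (Subgroup.center G) = 2) :
    Nat.card (Cfsg.principalBlock M G) = 7 := by
  classical
  have : Fact (Nat.Prime 2) := ⟨Nat.prime_two⟩
  have htrans := q8Trans_of_core_free S e hO hG
  set z := q8Z (S : Subgroup G) e with hz
  have hz2 : orderOf z = 2 := orderOf_q8Z _ e
  have hcenter := q8_center_iff S e hBS
  set a := bsA (S : Subgroup G) e with ha
  have ha4 : orderOf a = 4 := by rw [ha, orderOf_bsA]
  have hreps := q8_reps S e htrans a ha4
  have hX : ∀ x ∈ ({1, z, a} : Finset G), ∃ k : ℕ, orderOf x = 2 ^ k := by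
    intro x hx
    simp only [Finset.mem_insert, Finset.mem_singleton] at hx
    rcases hx with rfl | rfl | rfl
    · exact ⟨0, by simp⟩
    · exact ⟨1, by rw [hz2, pow_one]⟩
    · exact ⟨2, by rw [ha4]; norm_num⟩
  have hcount := Cfsg.Agent.S4511.result 2 M hM (Cfsg.principalBlock M G)
    (isPBlock_principalBlock M G) ({1, z, a} : Finset G) hX hreps
  have h1z : (1 : G) ≠ z := by
    intro h; rw [← h, orderOf_one] at hz2; omega
  have h1a : (1 : G) ≠ a := by
    intro h; rw [← h, orderOf_one] at ha4; omega
  have hza : z ≠ a := by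
    intro h; rw [← h, hz2] at ha4; omega
  rw [Finset.sum_insert (by simp [h1z, h1a]), Finset.sum_insert (by simp [hza]),
    Finset.sum_singleton,
    Cfsg.Agent.S4512.setOf_induced_principal hM 1 ⟨0, by simp⟩,
    Cfsg.Agent.S4512.setOf_induced_principal hM z ⟨1, by rw [hz2, pow_one]⟩,
    Cfsg.Agent.S4512.setOf_induced_principal hM a ⟨2, by rw [ha4]; norm_num⟩,
    finsum_mem_singleton, finsum_mem_singleton, finsum_mem_singleton,
    blockRank_principal_of_index 2 M hM (q8_pPrimeCore_index S e a ha4)] at hcount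
  have htop1 : Subgroup.centralizer ({1} : Set G) = ⊤ := by
    ext g
    simp [Subgroup.mem_centralizer_iff]
  have htopz : Subgroup.centralizer ({z} : Set G) = ⊤ := by
    ext g
    simp only [Subgroup.mem_centralizer_iff, Set.mem_singleton_iff, forall_eq, Subgroup.mem_top,
      iff_true]
    exact (Subgroup.mem_center_iff.mp ((hcenter z).mpr (Or.inr rfl)) g).symm
  rw [blockRank_centralizer_eq_top M 1 htop1, blockRank_centralizer_eq_top M z htopz,
    blockRank_principal_center_two M hM z hz2 hcenter,
    Cfsg.Agent.S4512.result M hM (q8QuotSylow S) (card_q8QuotSylow S e hBS)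
      (q8QuotSylow_exp S e hBS) (q8_quot_isConj S e htrans hBS)] at hcount
  omega

/-- Let S be a Sylow 2-subgroup of the finite group G isomorphic to the quaternion group of order 8. Suppose G has no nontrivial normal subgroup of odd order and G ≠ S. Then, relative to any maximal ideal M of the algebraic integers containing 2, the principal block of G consists of exactly 7 irreducible characters. -/
theorem result {G : Type*} [Group G] [Finite G] (M : Ideal Cfsg.AlgInt) (hM : Cfsg.IsPModular 2 M) (S : Sylow 2 G) (e : (S : Subgroup G) ≃* QuaternionGroup 2) (hO : ∀ N : Subgroup G, N.Normal → Odd (Nat.card N) → N = ⊥) (hG : (S : Subgroup G) ≠ ⊤) : Nat.card (Cfsg.principalBlock M G) = 7 := by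
  have e' : (S : Subgroup G) ≃* QuaternionGroup (2 ^ (0 + 1)) := e
  exact core M hM S e hO hG (Cfsg.Agent.S0201.result S 0 e' hO)

end Cfsg.Agent.S0951
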