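-- Statement S0954
import Cfsg.Statements.S0954
import Cfsg.Agent.S0964
import Cfsg.Agent.Lib.Helper22.BlockRegular

set_option autoImplicit false
open Cfsg

namespace Cfsg.Agent.S0954

open Cfsg.Agent.Lib.Helper22 Cfsg.Agent.Lib.Helper82 Cfsg.Agent.Lib.Helper83
open Cfsg.Agent.Lib.Helper85

theorem result {G : Type*} [Group G] [Fintype G] (p : ℕ) [Fact p.Prime] (M : Ideal Cfsg.AlgInt) (hM : Cfsg.IsPModular p M) (N : Subgroup G) [N.Normal] [Fintype N] (hN : ¬ p ∣ Nat.card N) (hidx : ∃ k : ℕ, N.index = p ^ k) (χ ψ : Cfsg.IrrCharacter G) : Cfsg.SameBlock M (χ : G → ℂ) (ψ : G → ℂ) ↔ ∃ θ : Cfsg.IrrCharacter N, Cfsg.classInner (fun n : N => (χ : G → ℂ) n) (θ : N → ℂ) ≠ 0 ∧ Cfsg.classInner (fun n : N => (ψ : G → ℂ) n) (θ : N → ℂ) ≠ 0 := by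
  have hNn : N.Normal := inferInstance
  have hprime : M.IsPrime := hM.2.1.isPrime
  obtain ⟨k, hk⟩ := hidx
  constructor
  · intro hsb
    obtain ⟨θ, hθ⟩ := exists_constituent
      (isCharacter_restrict N (isCharacter_of_irr χ.2)) (irr_degree_ne_zero χ)
    obtain ⟨θ', hθ'⟩ := exists_constituent
      (isCharacter_restrict N (isCharacter_of_irr ψ.2)) (irr_degree_ne_zero ψ)
    obtain ⟨g, θ'', hθ''mem, hθ''⟩ := Cfsg.Agent.S0964.result p M hM N
      (Cfsg.blockOf M (χ : G → ℂ)) (isPBlock_blockOf χ)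
      (Cfsg.blockOf M (θ : N → ℂ)) (isPBlock_blockOf θ) χ (mem_blockOf_self hprime χ)
      θ (mem_blockOf_self hprime θ) hθ ψ hsb θ' hθ'
    have heq : θ = θ'' := eq_of_sameBlock_of_pprime hM hN θ θ'' hθ''mem
    subst heq
    refine ⟨θ, hθ, ?_⟩
    have h2 := classInner_restrict_conjFun hNn (char_isClassFunction (isCharacter_of_irr ψ.2))
      (θ : N → ℂ) g
    rw [← h2]
    have : (θ' : N → ℂ) = conjFun hNn (θ : N → ℂ) g := by
      funext n
      exact hθ'' n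
    rw [← this]
    exact hθ'
  · rintro ⟨θ, h1, h2⟩
    have e1 := (Cfsg.Agent.S0963.result N χ θ).1 h1
    have e2 := (Cfsg.Agent.S0963.result N ψ θ).1 h2
    apply sameBlock_of_forall_regular hM
    intro g hg
    have hgN : g ∈ N := mem_of_regular_of_index N hk hg
    have e3 := e1 ⟨g, hgN⟩
    have e4 := e2 ⟨g, hgN⟩
    simp only at e3 e4
    rw [e3, e4, sub_self]
    exact memLocalIdeal_zero hprime

end Cfsg.Agent.S0954
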