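-- Statement S0957
import Cfsg.Statements.S0957

set_option autoImplicit false
open Cfsg

namespace Cfsg.Agent.S0957

open MulAction in
theorem dvd_card_of_dvd_index_stabilizer {α β : Type*} [Group α] [MulAction α β] [Finite β]
    (d : ℕ) (h : ∀ b : β, d ∣ (MulAction.stabilizer α b).index) : d ∣ Nat.card β := by
  classical
  have := Fintype.ofFinite β
  rw [Nat.card_congr (selfEquivSigmaOrbits α β)]
  rw [Nat.card_sigma]
  apply Finset.dvd_sum
  intro ω _
  rw [Nat.card_coe_set_eq, ← index_stabilizer]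
  exact h _

variable {G : Type*} [Group G]

/-- The set of pairs. -/
abbrev XX (P : Subgroup G) (g h : G) : Type _ :=
  {yz : G × G // IsConj g yz.1 ∧ IsConj h yz.2 ∧ yz.2 * yz.1⁻¹ ∈ P}

/-- Simultaneous conjugation. -/
instance pairAction (P : Subgroup G) (g h : G) : MulAction P (XX P g h) where
  smul u yz := ⟨((u : G) * yz.1.1 * (u : G)⁻¹, (u : G) * yz.1.2 * (u : G)⁻¹), by
    obtain ⟨⟨y, z⟩, hy, hz, hyz⟩ := yz
    refine ⟨?_, ?_, ?_⟩
    · exact hy.trans (isConj_iff.mpr ⟨u, rfl⟩)
    · exact hz.trans (isConj_iff.mpr ⟨u, rfl⟩)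
    · have : (u : G) * z * (u : G)⁻¹ * ((u : G) * y * (u : G)⁻¹)⁻¹
          = (u : G) * (z * y⁻¹) * (u : G)⁻¹ := by group
      show (u : G) * z * (u : G)⁻¹ * ((u : G) * y * (u : G)⁻¹)⁻¹ ∈ P
      rw [this]
      exact P.mul_mem (P.mul_mem u.2 hyz) (P.inv_mem u.2)⟩
  one_smul yz := by
    apply Subtype.ext
    show (((1 : P) : G) * yz.1.1 * ((1 : P) : G)⁻¹, ((1 : P) : G) * yz.1.2 * ((1 : P) : G)⁻¹) = yz.1
    simp
  mul_smul u v yz := by
    apply Subtype.ext
    show (((u * v : P) : G) * yz.1.1 * ((u * v : P) : G)⁻¹,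
        ((u * v : P) : G) * yz.1.2 * ((u * v : P) : G)⁻¹) =
      ((u : G) * ((v : G) * yz.1.1 * (v : G)⁻¹) * (u : G)⁻¹,
        (u : G) * ((v : G) * yz.1.2 * (v : G)⁻¹) * (u : G)⁻¹)
    simp [mul_assoc]

theorem smul_fst (P : Subgroup G) (g h : G) (u : P) (yz : XX P g h) :
    (u • yz).1.1 = (u : G) * yz.1.1 * (u : G)⁻¹ := rfl

/-- result -/
theorem result {G : Type*} [Group G] [Finite G] (p : ℕ) [Fact p.Prime] (P : Sylow p G) (g h : G) (S : Sylow p (Subgroup.centralizer ({g} : Set G))) : Nat.card P / Nat.card S ∣ Nat.card {yz : G × G // IsConj g yz.1 ∧ IsConj h yz.2 ∧ yz.2 * yz.1⁻¹ ∈ (P : Subgroup G)} := by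
  classical
  have hp : p.Prime := Fact.out
  apply dvd_card_of_dvd_index_stabilizer (α := (P : Subgroup G)) (β := XX (P : Subgroup G) g h)
  intro yz
  set St := MulAction.stabilizer (P : Subgroup G) yz with hSt
  obtain ⟨⟨y, z⟩, hy, hz, hyz⟩ := yz
  -- cardinalities
  have hPcard : Nat.card P = p ^ (Nat.card G).factorization p := P.card_eq_multiplicity
  have hScard : Nat.card S = p ^ (Nat.card (Subgroup.centralizer ({g} : Set G))).factorization p :=
    S.card_eq_multiplicity
  -- centralizers of conjugate elements have same card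
  obtain ⟨c, hc⟩ := isConj_iff.mp hy
  have hcent : Nat.card (Subgroup.centralizer ({y} : Set G)) =
      Nat.card (Subgroup.centralizer ({g} : Set G)) := by
    refine Nat.card_congr ⟨fun x => ⟨c⁻¹ * x.1 * c, ?_⟩, fun x => ⟨c * x.1 * c⁻¹, ?_⟩, ?_, ?_⟩
    · have hx := x.2
      rw [Subgroup.mem_centralizer_singleton_iff] at hx ⊢
      subst hc
      have : c⁻¹ * (x : G) * c * g = c⁻¹ * ((x : G) * (c * g * c⁻¹)) * c := by group
      rw [this, hx]; group
    · have hx := x.2
      rw [Subgroup.mem_centralizer_singleton_iff] at hx ⊢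
      subst hc
      have : c * (x : G) * c⁻¹ * (c * g * c⁻¹) = c * ((x : G) * g) * c⁻¹ := by group
      rw [this, hx]; group
    · intro x; apply Subtype.ext; simp [mul_assoc]
    · intro x; apply Subtype.ext; simp [mul_assoc]
  -- the stabilizer embeds in centralizer of y
  have hSt_dvd : Nat.card St ∣ Nat.card (Subgroup.centralizer ({y} : Set G)) := by
    let f : St →* Subgroup.centralizer ({y} : Set G) :=
      { toFun := fun u => ⟨((u : (P : Subgroup G)) : G), by
          have hu : (u : (P : Subgroup G)) ∈ MulAction.stabilizer (P : Subgroup G)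
              (⟨(y, z), hy, hz, hyz⟩ : XX (P : Subgroup G) g h) := u.2
          rw [MulAction.mem_stabilizer_iff] at hu
          have h1 := congrArg (fun t => t.1.1) hu
          simp only [smul_fst] at h1
          rw [Subgroup.mem_centralizer_singleton_iff]
          have h2 := congrArg (fun t => t * ((u : (P : Subgroup G)) : G)) h1
          simp only [inv_mul_cancel_right] at h2
          exact h2⟩
        map_one' := rfl
        map_mul' := fun _ _ => rfl }
    have hf : Function.Injective f := by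
      intro a b hab
      apply Subtype.ext; apply Subtype.ext
      have := congrArg (fun t : Subgroup.centralizer ({y} : Set G) => (t : G)) hab
      exact this
    exact Subgroup.card_dvd_of_injective f hf
  -- St is a p-group
  have hStp : IsPGroup p St := (P.isPGroup').to_subgroup St
  obtain ⟨t, ht⟩ := IsPGroup.iff_card.mp hStp
  have htle : p ^ t ∣ Nat.card S := by
    rw [hScard, ← hcent]
    rw [ht] at hSt_dvd
    have hne : Nat.card (Subgroup.centralizer ({y} : Set G)) ≠ 0 := Nat.card_pos.ne'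
    exact (Nat.pow_dvd_pow_iff_le_right hp.one_lt).mpr
      ((hp.pow_dvd_iff_le_factorization hne).mp hSt_dvd)
  have hSP : Nat.card S ∣ Nat.card P := by
    rw [hScard, hPcard]
    apply Nat.pow_dvd_pow
    have h1 : Nat.card (Subgroup.centralizer ({g} : Set G)) ∣ Nat.card G :=
      Subgroup.card_subgroup_dvd_card _
    exact (Nat.factorization_le_iff_dvd Nat.card_pos.ne' Nat.card_pos.ne').mpr h1 p
  -- index of stabilizer
  have hidx : St.index * Nat.card St = Nat.card P := by
    rw [mul_comm]; exact St.card_mul_index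
  obtain ⟨a, ha⟩ := htle
  obtain ⟨b, hb⟩ := hSP
  have hSpos : 0 < Nat.card S := Nat.card_pos
  rw [hb, Nat.mul_div_cancel_left _ hSpos]
  rw [ha, ht] at *
  have hpt : 0 < p ^ t := pow_pos hp.pos t
  refine ⟨a, ?_⟩
  have : St.index * p ^ t = (b * a) * p ^ t := by
    rw [hidx, hb]; ring
  exact Nat.eq_of_mul_eq_mul_right hpt this

end Cfsg.Agent.S0957
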