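import Cfsg.Statements.S0961
import Cfsg.Agent.S0164
import Cfsg.Agent.Lib.Helper05.ElemGroups
import Cfsg.Agent.Lib.Helper05.CharBasic
import Cfsg.Agent.Lib.Helper34.GenChar
import Cfsg.Agent.Lib.Helper04.IndFun
import Cfsg.Agent.Lib.Helper42.PPrimeCore
import Cfsg.Agent.Lib.Helper82.CharBasic

set_option autoImplicit false
open Cfsg

namespace Cfsg.Agent.S0961

open Cfsg.Agent.Lib.Helper42

/-- In a finite nilpotent group the `p`-regular elements form a normal subgroup of `p`-power
index. -/
theorem exists_pRegular_subgroup {E : Type*} [Group E] [Finite E] (hE : Group.IsNilpotent E)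
    (p : ℕ) [Fact p.Prime] :
    ∃ H : Subgroup E, H.Normal ∧ (∀ e : E, e ∈ H ↔ ¬ p ∣ orderOf e) ∧ ∃ k : ℕ, H.index = p ^ k := by
  have hp : p.Prime := Fact.out
  have hHn : (pPrimeCore p E).Normal := pPrimeCore_normal p E
  have hHc : (Nat.card (pPrimeCore p E)).Coprime p := pPrimeCore_card_coprime p E
  have hsyl : ∀ (r : ℕ) (_hr : Fact r.Prime) (R : Sylow r E), (R : Subgroup E).Normal :=
    ((Group.isNilpotent_of_finite_tfae (G := E)).out 0 3).1 hE
  have hidx : ∀ {r : ℕ}, r.Prime → r ∣ (pPrimeCore p E).index → r = p := by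
    intro r hr hdiv
    by_contra hne
    have : Fact r.Prime := ⟨hr⟩
    obtain ⟨R⟩ : Nonempty (Sylow r E) := inferInstance
    have := hsyl r ⟨hr⟩ R
    have hRc : (Nat.card (R : Subgroup E)).Coprime p := by
      rw [R.card_eq_multiplicity]
      exact Nat.Coprime.pow_left _ ((Nat.coprime_primes hr hp).2 hne)
    have hle : (R : Subgroup E) ≤ pPrimeCore p E := le_pPrimeCore _ hRc
    have h1 := Subgroup.card_dvd_of_le hle
    rw [R.card_eq_multiplicity] at h1
    have h2 : r ^ ((Nat.card E).factorization r + 1) ∣ Nat.card E := by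
      have := Nat.mul_dvd_mul h1 hdiv
      rwa [Subgroup.card_mul_index, ← pow_succ] at this
    exact Nat.pow_succ_factorization_not_dvd Nat.card_pos.ne' hr h2
  have hk := Nat.eq_prime_pow_of_unique_prime_dvd
    (Subgroup.index_ne_zero_of_finite (H := pPrimeCore p E)) hidx
  refine ⟨pPrimeCore p E, hHn, ?_, _, hk⟩
  intro e
  constructor
  · intro he hdiv
    have h1 : orderOf (⟨e, he⟩ : pPrimeCore p E) ∣ Nat.card (pPrimeCore p E) :=
      orderOf_dvd_natCard _
    rw [Subgroup.orderOf_mk] at h1
    exact hp.not_dvd_one (hHc ▸ Nat.dvd_gcd (hdiv.trans h1) dvd_rfl)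
  · intro hreg
    have h1 : orderOf (QuotientGroup.mk' (pPrimeCore p E) e) ∣ orderOf e :=
      orderOf_map_dvd _ e
    have h2 : orderOf (QuotientGroup.mk' (pPrimeCore p E) e) ∣
        Nat.card (E ⧸ pPrimeCore p E) := orderOf_dvd_natCard _
    rw [← Subgroup.index_eq_card, hk] at h2
    obtain ⟨j, -, hj⟩ := (Nat.dvd_prime_pow hp).1 h2
    have hj0 : j = 0 := by
      by_contra hj0
      apply hreg
      rw [hj] at h1
      exact (dvd_pow_self p hj0).trans h1
    rw [hj0, pow_zero, orderOf_eq_one_iff] at hj
    exact (QuotientGroup.eq_one_iff e).1 hj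

open Classical in
/-- Induction from a normal subgroup of the restriction of a class function. -/
theorem indFun_restrict_normal {E : Type*} [Group E] [Fintype E] (H : Subgroup E) [H.Normal]
    (ψ : E → ℂ) (hψ : IsClassFunction E ψ) (e : E) :
    indFun H (fun h : H => ψ h) e = if e ∈ H then (H.index : ℂ) * ψ e else 0 := by
  rw [indFun]
  have hcard : (Nat.card H : ℂ) ≠ 0 := Nat.cast_ne_zero.2 Nat.card_pos.ne'
  split_ifs with he
  · have hterm : ∀ x : E, extendByZero H (fun h : H => ψ h) (x⁻¹ * e * x) = ψ e := by
      intro x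
      have hmem : x⁻¹ * e * x ∈ H := by
        have := ‹H.Normal›.conj_mem e he x⁻¹
        simpa using this
      rw [Cfsg.Agent.Lib.Helper04.extendByZero_apply_of_mem H _ _ hmem]
      have := hψ e x⁻¹
      simpa using this
    simp only [hterm]
    rw [Finset.sum_const, Finset.card_univ, nsmul_eq_mul, ← Nat.card_eq_fintype_card,
      ← Subgroup.card_mul_index H]
    push_cast
    field_simp
  · have hterm : ∀ x : E, extendByZero H (fun h : H => ψ h) (x⁻¹ * e * x) = 0 := by
      intro x
      apply Cfsg.Agent.Lib.Helper04.extendByZero_apply_not_mem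
      intro hmem
      apply he
      have := ‹H.Normal›.conj_mem _ hmem x
      simpa [mul_assoc] using this
    simp only [hterm]
    simp

/-- Let χ be an irreducible character of the finite group G and let p ^ a be the largest power of the prime p dividing the order of G. Then the function equal to p ^ a * χ x at elements x of order prime to p and to 0 elsewhere is a generalized character (a difference of characters). -/
theorem result {G : Type*} [Group G] [Finite G] (p : ℕ) [Fact p.Prime] (χ : Cfsg.IrrCharacter G) : Cfsg.IsGeneralizedCharacter G (fun x : G => if p ∣ orderOf x then 0 else ((p ^ (Nat.card G).factorization p : ℕ) : ℂ) * (χ : G → ℂ) x) := by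
  classical
  have hp : p.Prime := Fact.out
  have hχc : IsCharacter G (χ : G → ℂ) := Cfsg.Agent.Lib.Helper82.IsIrrCharacter.isCharacter χ.2
  apply Cfsg.Agent.S0164.result
  · -- class function
    intro g h
    have hord : orderOf (h * g * h⁻¹) = orderOf g := by
      have := (MulAut.conj h).orderOf_eq g
      simpa using this
    have hcl := Cfsg.Agent.Lib.Helper82.IsCharacter.isClassFunction hχc g h
    simp only [hord, hcl]
  · intro E q hq hEl
    let _ : Fintype E := Fintype.ofFinite E
    have hnil := Cfsg.Agent.Lib.Helper05.isNilpotent_of_isElementary hq hEl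
    obtain ⟨H, hHn, hmem, k, hk⟩ := exists_pRegular_subgroup hnil p
    have hψ : IsClassFunction E (fun e : E => (χ : G → ℂ) e) := by
      intro e x
      have := Cfsg.Agent.Lib.Helper82.IsCharacter.isClassFunction hχc (e : G) (x : G)
      simpa using this
    -- `k ≤ a`
    have hka : k ≤ (Nat.card G).factorization p := by
      have h1 : p ^ k ∣ Nat.card G := by
        rw [← hk]
        exact (H.index_dvd_card).trans (Subgroup.card_subgroup_dvd_card E)
      exact (Nat.Prime.pow_dvd_iff_le_factorization hp Nat.card_pos.ne').1 h1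
    have hres : IsCharacter H (fun h : H => (fun e : E => (χ : G → ℂ) e) h) :=
      Cfsg.Agent.Lib.Helper05.isCharacter_restrict H
        (Cfsg.Agent.Lib.Helper05.isCharacter_restrict E hχc)
    have hind := Cfsg.Agent.Lib.Helper34.isCharacter_indFun H hres
    refine ⟨(p ^ ((Nat.card G).factorization p - k)) • indFun H (fun h : H => (fun e : E => (χ : G → ℂ) e) h),
      0, Cfsg.Agent.Lib.Helper05.isCharacter_nsmul _ hind,
      Cfsg.Agent.Lib.Helper05.isCharacter_zero, ?_⟩
    funext e
    rw [sub_zero, Pi.smul_apply, indFun_restrict_normal H _ hψ e, Subgroup.orderOf_coe]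
    by_cases hdiv : p ∣ orderOf e
    · have : e ∉ H := fun he => (hmem e).1 he hdiv
      rw [if_pos hdiv, if_neg this, smul_zero]
    · have : e ∈ H := (hmem e).2 hdiv
      rw [if_neg hdiv, if_pos this, hk, nsmul_eq_mul, ← mul_assoc]
      congr 1
      rw [← Nat.cast_mul, ← pow_add, Nat.sub_add_cancel hka]

end Cfsg.Agent.S0961
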