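-- Statement S0967
import Cfsg.Statements.S0967
import Cfsg.Agent.S0933
import Cfsg.Agent.Lib.Helper83.Quotient
import Cfsg.Agent.Lib.Helper82.LocalRing
import Cfsg.Agent.Lib.Helper82.CharSchur

set_option autoImplicit false
open Cfsg

namespace Cfsg.Agent.S0967

open Cfsg.Agent.Lib.Helper83

/-- Summing the difference of normalised characters in the same block over a conjugation
stable set gives an element of the local ideal. -/
theorem sum_stable_mem {G : Type*} [Group G] [Fintype G] {M : Ideal Cfsg.AlgInt}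
    (hmax : M.IsMaximal) (α β : G → ℂ) (hα : Cfsg.IsCharacter G α) (hβ : Cfsg.IsCharacter G β)
    (hsb : Cfsg.SameBlock M α β) (S : Finset G) (hS : ∀ h ∈ S, ∀ k : G, k * h * k⁻¹ ∈ S) :
    Cfsg.MemLocalIdeal M (∑ h ∈ S, (α h / α 1 - β h / β 1)) := by
  apply Cfsg.Agent.S0933.memLocalIdeal_sum_stable hmax S hS
  · intro h k
    rw [char_conj_eq hα, char_conj_eq hβ]
  · intro h _
    have h1 := hsb h
    unfold Cfsg.centralChar at h1
    convert h1 using 1
    ring

theorem result {G : Type*} [Group G] [Finite G] (p : ℕ) [Fact p.Prime] (M : Ideal Cfsg.AlgInt) (hM : Cfsg.IsPModular p M) (N : Subgroup G) [N.Normal] (hN : ¬ p ∣ Nat.card N) (χ : Cfsg.IrrCharacter (G ⧸ N)) (ψ : Cfsg.IrrCharacter G) (hψ : ψ ∈ Cfsg.blockOf M ((χ : G ⧸ N → ℂ) ∘ QuotientGroup.mk)) : ∃ ψ' : Cfsg.IrrCharacter (G ⧸ N), (ψ : G → ℂ) = (ψ' : G ⧸ N → ℂ) ∘ QuotientGroup.mk ∧ Cfsg.SameBlock M (χ : G ⧸ N → ℂ) (ψ' : G ⧸ N → ℂ) := by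
  classical
  let _ : Fintype G := Fintype.ofFinite G
  let _ : Fintype (G ⧸ N) := Fintype.ofFinite _
  let _ : Fintype N := Fintype.ofFinite _
  have hmax : M.IsMaximal := hM.2.1
  have hprime : M.IsPrime := hmax.isPrime
  have hsb : Cfsg.SameBlock M ((χ : G ⧸ N → ℂ) ∘ QuotientGroup.mk) (ψ : G → ℂ) := hψ
  set χt : G → ℂ := (χ : G ⧸ N → ℂ) ∘ QuotientGroup.mk with hχt
  have hχtirr : Cfsg.IsIrrCharacter G χt := isIrrCharacter_inflate N χ.2
  have hχtchar : Cfsg.IsCharacter G χt := isCharacter_of_irr hχtirr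
  have hψchar : Cfsg.IsCharacter G (ψ : G → ℂ) := isCharacter_of_irr ψ.2
  have hχ1 : (χ : G ⧸ N → ℂ) 1 ≠ 0 := irr_degree_ne_zero χ
  have hψ1 : (ψ : G → ℂ) 1 ≠ 0 := irr_degree_ne_zero ψ
  have hχt1 : χt 1 = (χ : G ⧸ N → ℂ) 1 := by simp [hχt]
  have hcardN : ¬ Cfsg.MemLocalIdeal M ((Nat.card N : ℕ) : ℂ) := by
    rw [Cfsg.Agent.Lib.Helper82.memLocalIdeal_natCast_iff hM]
    exact hN
  -- Step 1: N is in the kernel of ψ
  have hker : ∀ n ∈ N, (ψ : G → ℂ) n = (ψ : G → ℂ) 1 := by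
    by_contra hcon
    push Not at hcon
    have hzero := irr_sum_normal_eq_zero ψ N hcon
    have hmem := sum_stable_mem hmax χt (ψ : G → ℂ) hχtchar hψchar hsb
      (Finset.univ.filter (fun x : G => x ∈ N))
      (by
        intro h hh k
        simp only [Finset.mem_filter, Finset.mem_univ, true_and] at hh ⊢
        exact Subgroup.Normal.conj_mem inferInstance h hh k)
    rw [Finset.sum_filter, ← sum_subgroup_eq_sum_ite N
      (fun h => χt h / χt 1 - (ψ : G → ℂ) h / (ψ : G → ℂ) 1), Finset.sum_sub_distrib] at hmem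
    have hz2 : ∑ x : N, (ψ : G → ℂ) (x : G) / (ψ : G → ℂ) 1 = 0 := by
      rw [← Finset.sum_div, hzero, zero_div]
    rw [hz2, sub_zero] at hmem
    have h1 : ∀ n : N, χt (n : G) / χt 1 = 1 := by
      intro n
      have : χt (n : G) = χt 1 := by
        simp only [hχt, Function.comp]
        rw [QuotientGroup.mk_one, (QuotientGroup.eq_one_iff (n : G)).2 n.2]
      rw [this, div_self (by rw [hχt1]; exact hχ1)]
    rw [Finset.sum_congr rfl (fun n _ => h1 n), Finset.sum_const, Finset.card_univ,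
      nsmul_eq_mul, mul_one, ← Nat.card_eq_fintype_card] at hmem
    exact hcardN hmem
  -- Step 2: deflate ψ
  obtain ⟨ψ', hψ'irr, hψ'eq⟩ := exists_isIrrCharacter_quotient N ψ.2 hker
  refine ⟨⟨ψ', hψ'irr⟩, ?_, ?_⟩
  · funext g
    exact (hψ'eq g).symm
  -- Step 3: same block in the quotient
  intro q
  have hψ'1 : ψ' 1 ≠ 0 := irr_degree_ne_zero ⟨ψ', hψ'irr⟩
  have hψ'one : ψ' 1 = (ψ : G → ℂ) 1 := by
    have := hψ'eq 1
    rwa [QuotientGroup.mk_one] at this
  set F : G ⧸ N → ℂ := fun y => if IsConj q y then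
    ((χ : G ⧸ N → ℂ) y / (χ : G ⧸ N → ℂ) 1 - ψ' y / ψ' 1) else 0 with hF
  have hmem := sum_stable_mem hmax χt (ψ : G → ℂ) hχtchar hψchar hsb
    (Finset.univ.filter (fun x : G => IsConj q (QuotientGroup.mk x : G ⧸ N)))
    (by
      intro h hh k
      simp only [Finset.mem_filter, Finset.mem_univ, true_and] at hh ⊢
      refine hh.trans ?_
      rw [isConj_iff]
      exact ⟨(QuotientGroup.mk k : G ⧸ N), by simp⟩)
  have hsum1 : ∑ h ∈ Finset.univ.filter (fun x : G => IsConj q (QuotientGroup.mk x : G ⧸ N)),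
      (χt h / χt 1 - (ψ : G → ℂ) h / (ψ : G → ℂ) 1) = ∑ g : G, F (QuotientGroup.mk g) := by
    rw [Finset.sum_filter]
    apply Finset.sum_congr rfl
    intro g _
    simp only [hF, hχt, Function.comp, hψ'eq, hψ'one, QuotientGroup.mk_one]
  have hsum2 : ∑ y : G ⧸ N, F y =
      Cfsg.centralChar (χ : G ⧸ N → ℂ) q - Cfsg.centralChar ψ' q := by
    simp only [hF]
    rw [← Finset.sum_filter]
    have hconst : ∀ y ∈ Finset.univ.filter (fun y : G ⧸ N => IsConj q y),
        ((χ : G ⧸ N → ℂ) y / (χ : G ⧸ N → ℂ) 1 - ψ' y / ψ' 1) =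
        ((χ : G ⧸ N → ℂ) q / (χ : G ⧸ N → ℂ) 1 - ψ' q / ψ' 1) := by
      intro y hy
      simp only [Finset.mem_filter, Finset.mem_univ, true_and] at hy
      obtain ⟨k, hk⟩ := isConj_iff.mp hy
      rw [← hk, char_conj_eq (isCharacter_of_irr χ.2), char_conj_eq (isCharacter_of_irr hψ'irr)]
    rw [Finset.sum_congr rfl hconst, Finset.sum_const, nsmul_eq_mul,
      Cfsg.Agent.S0933.card_class_eq_index]
    unfold Cfsg.centralChar
    ring
  rw [hsum1, sum_comp_quotient_mk N F, hsum2] at hmem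
  have hint : Cfsg.MemLocalRing M
      (Cfsg.centralChar (χ : G ⧸ N → ℂ) q - Cfsg.centralChar ψ' q) :=
    Cfsg.Agent.Lib.Helper82.memLocalRing_sub hprime
      (Cfsg.Agent.Lib.Helper82.memLocalRing_of_isIntegral hprime
        (Cfsg.Agent.Lib.Helper82.IsIrrCharacter.isIntegral_centralChar χ.2 q))
      (Cfsg.Agent.Lib.Helper82.memLocalRing_of_isIntegral hprime
        (Cfsg.Agent.Lib.Helper82.IsIrrCharacter.isIntegral_centralChar hψ'irr q))
  rcases Cfsg.Agent.Lib.Helper82.memLocalIdeal_of_mul_memLocalIdeal hprime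
    (Cfsg.Agent.Lib.Helper82.memLocalRing_natCast hprime (Nat.card N)) hint hmem with h | h
  · exact absurd h hcardN
  · exact h

end Cfsg.Agent.S0967
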