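import Cfsg.Statements.S0971
import Cfsg.Agent.S0919
import Cfsg.Agent.S0965
import Cfsg.Agent.S0912

set_option autoImplicit false
open Cfsg

namespace Cfsg.Agent.S0971

open Cfsg.Agent.Lib.Helper21 Cfsg.Agent.Lib.Helper82 Cfsg.Agent.Lib.Helper83

/-- Let Q be a normal p-subgroup of the finite group G, let N = Q ⊔ C_G(Q) (a normal subgroup) and let b be a block of N relative to a maximal ideal M of the algebraic integers containing p. Then b induces some block of G, and every block B of G containing a character whose restriction to N has a constituent in b is induced by b. -/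
theorem result {G : Type*} [Group G] [Fintype G] (p : ℕ) [Fact p.Prime] (M : Ideal Cfsg.AlgInt) (hM : Cfsg.IsPModular p M) (Q : Subgroup G) [Q.Normal] (hQ : IsPGroup p Q) [Fintype ↥(Q ⊔ Subgroup.centralizer (Q : Set G))] (b : Set (Cfsg.IrrCharacter ↥(Q ⊔ Subgroup.centralizer (Q : Set G)))) (hb : Cfsg.IsPBlock M b) : Cfsg.InducedBlockDefined M (Q ⊔ Subgroup.centralizer (Q : Set G)) b ∧ ∀ B : Set (Cfsg.IrrCharacter G), Cfsg.IsPBlock M B → (∃ χ ∈ B, ∃ θ ∈ b, Cfsg.classInner (fun n : ↥(Q ⊔ Subgroup.centralizer (Q : Set G)) => (χ : G → ℂ) n) (θ : ↥(Q ⊔ Subgroup.centralizer (Q : Set G)) → ℂ) ≠ 0) → Cfsg.IsInducedBlock M (Q ⊔ Subgroup.centralizer (Q : Set G)) b B := by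
  classical
  have hprime : M.IsPrime := hM.2.1.isPrime
  have hQN : Q ≤ Q ⊔ Subgroup.centralizer (Q : Set G) := le_sup_left
  have hCN : Subgroup.centralizer (Q : Set G) ≤ Q ⊔ Subgroup.centralizer (Q : Set G) := le_sup_right
  have hnorm : Subgroup.normalizer (Q : Set G) = ⊤ := Subgroup.normalizer_eq_top Q
  have hNN : Q ⊔ Subgroup.centralizer (Q : Set G) ≤ Subgroup.normalizer (Q : Set G) := by
    rw [hnorm]; exact le_top
  have hCnormal : (Subgroup.centralizer (Q : Set G)).Normal := Subgroup.normal_centralizer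
  have hNnormal : (Q ⊔ Subgroup.centralizer (Q : Set G)).Normal := inferInstance
  refine ⟨Cfsg.Agent.S0919.result p M hM Q _ hQ hQN hCN hNN b hb, ?_⟩
  intro B hB hcov
  refine ⟨hb, hB, fun ξ hξ χ hχ g => ?_⟩
  by_cases hg : g ∈ Q ⊔ Subgroup.centralizer (Q : Set G)
  · have h1 := (Cfsg.Agent.S0965.result p M hM (Q ⊔ Subgroup.centralizer (Q : Set G)) B hB b hb).1
      hcov χ hχ ξ hξ ⟨g, hg⟩
    have := memLocalIdeal_neg h1
    rwa [neg_sub] at this
  · have h0 : inducedCentralChar (Q ⊔ Subgroup.centralizer (Q : Set G))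
        (ξ : ↥(Q ⊔ Subgroup.centralizer (Q : Set G)) → ℂ) g = 0 := by
      rw [inducedCentralChar]
      apply finsum_mem_eq_zero_of_forall_eq_zero
      intro h hh
      exfalso
      apply hg
      obtain ⟨c, hc⟩ := isConj_iff.1 (hh : IsConj g (h : G))
      have hgc : g = c⁻¹ * (h : G) * c⁻¹⁻¹ := by rw [← hc]; group
      rw [hgc]
      exact hNnormal.conj_mem _ h.2 c⁻¹
    rw [h0, zero_sub]
    apply memLocalIdeal_neg
    by_contra hcon
    obtain ⟨x, hx, hxc⟩ := Cfsg.Agent.S0912.exists_conj_mem_centralizer_pCore p M hM g χ hcon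
    apply hg
    have hQle : Q ≤ pCore p G := le_sSup ⟨inferInstance, hQ⟩
    have hxQ : x ∈ Subgroup.centralizer (Q : Set G) :=
      Subgroup.centralizer_le (s := (Q : Set G)) (t := (pCore p G : Set G))
        (by exact_mod_cast hQle) hxc
    obtain ⟨c, rfl⟩ := isConj_iff.1 hx
    have := hNnormal.conj_mem _ (hCN hxQ) c⁻¹
    simpa [mul_assoc] using this

end Cfsg.Agent.S0971
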