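import Cfsg.Statements.S0972
-- import your own Cfsg.Agent.* helpers here
import Cfsg.Agent.Lib.Helper22.NormalDefectHeight
import Cfsg.Agent.S0169
import Cfsg.Agent.S0955

set_option autoImplicit false
open Cfsg

namespace Cfsg.Agent.S0972

open Cfsg.Agent.Lib.Helper22 Cfsg.Agent.Lib.Helper82 Cfsg.Agent.Lib.Helper83

/-- Let B be a block of the finite group G (relative to a maximal ideal M of the algebraic integers containing the prime p) with a defect group P that is normal in G. Then P is commutative if and only if every member of B has height zero. -/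
theorem result {G : Type*} [Group G] [Finite G] (p : ℕ) [Fact p.Prime] (M : Ideal Cfsg.AlgInt) (hM : Cfsg.IsPModular p M) (B : Set (Cfsg.IrrCharacter G)) (hB : Cfsg.IsPBlock M B) (P : Subgroup G) [P.Normal] (hP : Cfsg.IsDefectGroup p M B P) : (∀ a ∈ P, ∀ c ∈ P, a * c = c * a) ↔ ∀ χ ∈ B, Cfsg.blockHeight p B (χ : G → ℂ) = 0 := by
  classical
  have hp : p.Prime := Fact.out
  have hprime : M.IsPrime := hM.2.1.isPrime
  let _ : Fintype G := Fintype.ofFinite G
  let _ : Fintype P := Fintype.ofFinite P
  have hsum := sInf_add_factorization_card_defectGroup hM hB hP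
  set m₀ := sInf ((fun ψ : IrrCharacter G => (charDegree (ψ : G → ℂ)).factorization p) '' B)
    with hm₀
  have hPc : Nat.card P ≠ 0 := Nat.card_pos.ne'
  have hPidx : P.index ≠ 0 := Subgroup.index_ne_zero_of_finite
  have hfacG : (Nat.card G).factorization p =
      (Nat.card P).factorization p + P.index.factorization p := by
    rw [← Subgroup.card_mul_index P, Nat.factorization_mul hPc hPidx]
    rfl
  have hidxP : m₀ = P.index.factorization p := by omega
  have hge : ∀ χ ∈ B, m₀ ≤ (charDegree (χ : G → ℂ)).factorization p :=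
    fun χ hχ => Nat.sInf_le ⟨χ, hχ, rfl⟩
  constructor
  · -- abelian implies all heights zero, by Ito's theorem
    intro hab χ hχ
    obtain ⟨n, ρ, hρ, hχρ⟩ := χ.2
    have : ρ.IsIrreducible := hρ
    have hito := Cfsg.Agent.S0169.result ρ P hab
    have hdeg : charDegree (χ : G → ℂ) = n := by
      have h1 : (charDegree (χ : G → ℂ) : ℂ) = (χ : G → ℂ) 1 :=
        charDegree_cast (IrrCharacter_isCharacter χ)
      have h2 : (χ : G → ℂ) 1 = (n : ℂ) := by rw [← hχρ, rep_char_one]
      rw [h2] at h1
      exact_mod_cast h1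
    rw [Module.finrank_fin_fun] at hito
    have hdvd : charDegree (χ : G → ℂ) ∣ P.index := by rw [hdeg]; exact hito
    have hle : (charDegree (χ : G → ℂ)).factorization p ≤ P.index.factorization p :=
      (Nat.factorization_le_iff_dvd (irr_charDegree_pos χ).ne' hPidx).2 hdvd p
    unfold blockHeight
    omega
  · -- all heights zero implies abelian
    intro hht
    by_contra hnab
    have hnc : ¬ ∀ a b : P, a * b = b * a := by
      intro h
      apply hnab
      intro a ha c hc
      exact congrArg Subtype.val (h ⟨a, ha⟩ ⟨c, hc⟩)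
    obtain ⟨lam, hlam⟩ := exists_nonlinear_of_not_comm hnc
    have hPgrp : IsPGroup p P := Cfsg.Agent.S0955.isPGroup_of_isDefectGroup p M B P hP
    have hplam : p ∣ charDegree (lam : P → ℂ) := by
      have hdvd := irr_charDegree_dvd_card lam
      obtain ⟨d, hd⟩ := IsPGroup.iff_card.1 hPgrp
      rw [hd] at hdvd
      obtain ⟨j, _, hj⟩ := (Nat.dvd_prime_pow hp).1 hdvd
      have hj0 : j ≠ 0 := by
        rintro rfl
        apply hlam
        rw [← charDegree_cast (IrrCharacter_isCharacter lam), hj]
        simp
      rw [hj]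
      exact dvd_pow_self p hj0
    obtain ⟨χ, hχB, hχlam⟩ := exists_mem_block_over hM P hPgrp hB lam
    have hm : ∀ μ : IrrCharacter P,
        classInner (fun u : P => (χ : G → ℂ) (u : G)) (μ : P → ℂ) ≠ 0 →
        p ∣ charDegree (μ : P → ℂ) := by
      intro μ hμ
      obtain ⟨x, hx⟩ := Cfsg.Agent.Lib.Helper84.clifford_exists_conj P χ.2 lam.2 μ.2 hχlam hμ
      have h1 : (μ : P → ℂ) 1 = (lam : P → ℂ) 1 := by
        have h0 : (⟨x * ((1 : P) : G) * x⁻¹, ‹P.Normal›.conj_mem _ (1 : P).2 x⟩ : P) = 1 :=
          Subtype.ext (by simp)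
        rw [← hx, Cfsg.Agent.Lib.Helper84.conjFun_apply, h0]
      have h2 : charDegree (μ : P → ℂ) = charDegree (lam : P → ℂ) := by
        simp only [charDegree, h1]
      rw [h2]
      exact hplam
    obtain ⟨g, hg, Q, hQ⟩ := hP
    have hPg : P ≤ Subgroup.centralizer ({g} : Set G) := by
      rw [hQ]
      exact Subgroup.map_subtype_le _
    obtain ⟨z, hz, hχg⟩ := exists_isIntegral_mul_of_constituents_dvd P
      (IrrCharacter_isCharacter χ) g hPg p hm
    have hfac := factorization_index_centralizer_add g Q
    rw [← hQ] at hfac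
    have hidx : (Subgroup.centralizer ({g} : Set G)).index.factorization p = m₀ := by omega
    have hh := hht χ hχB
    unfold blockHeight at hh
    have hdeg : (charDegree (χ : G → ℂ)).factorization p = m₀ := by
      have := hge χ hχB
      omega
    apply hg.2.2 χ hχB
    have hidx0 : (Subgroup.centralizer ({g} : Set G)).index ≠ 0 :=
      Subgroup.index_ne_zero_of_finite
    have hx : MemLocalIdeal M ((((Subgroup.centralizer ({g} : Set G)).index * p : ℕ) : ℂ) /
        (charDegree (χ : G → ℂ) : ℂ)) := by
      apply memLocalIdeal_natCast_div_of_lt hM _ _ (irr_charDegree_pos χ).ne'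
      rw [Nat.factorization_mul hidx0 hp.ne_zero, Finsupp.add_apply, hp.factorization_self]
      omega
    have hzr : MemLocalRing M z := memLocalRing_of_isIntegral hprime hz
    have hfin := memLocalIdeal_mul_right hprime hx hzr
    have heq : centralChar (χ : G → ℂ) g =
        (((Subgroup.centralizer ({g} : Set G)).index * p : ℕ) : ℂ) /
          (charDegree (χ : G → ℂ) : ℂ) * z := by
      rw [centralChar, hχg, charDegree_cast (IrrCharacter_isCharacter χ)]
      push_cast
      ring
    rw [heq]
    exact hfin

end Cfsg.Agent.S0972
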