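import Cfsg.Statements.S0974
import Cfsg.Agent.Lib.Helper23.ExceptionalSimple
import Cfsg.Agent.Lib.Helper23.SylowPerm
import Cfsg.Agent.Lib.Helper23.SylowInter
import Cfsg.Agent.Lib.Helper23.SylowEmbed
import Cfsg.Agent.Lib.Helper23.SylowCount
import Cfsg.Agent.Lib.Helper23.Burnside

set_option autoImplicit false
open Cfsg

namespace Cfsg.Agent.S0974

open Cfsg.Agent.Lib.Helper23 Cfsg.Agent.Lib.Helper23.SylowPerm
  Cfsg.Agent.Lib.Helper23.Exceptional

/-- No finite simple group has order 3648 = 2^6 * 3 * 19. -/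
theorem result {G : Type*} [Group G] [Finite G] [IsSimpleGroup G] : Nat.card G ≠ 3648 := by
  intro h
  have : Fact (Nat.Prime 19) := ⟨by norm_num⟩
  have hnc : ¬ IsMulCommutative G := not_isMulCommutative_of_simple (by rw [h]; norm_num)
  have h' : Nat.card G = 19 ^ 1 * 192 := by rw [h]; norm_num
  have hm : ¬ 19 ∣ 192 := by norm_num
  have hcP : ∀ P : Sylow 19 G, Nat.card ↥(P : Subgroup G) = 19 := fun P => by
    have := sylow_card_of_card_eq 19 1 192 h' hm P
    simpa using this
  have hdvd := card_sylow_dvd_of_card_eq 19 1 192 h' hm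
  have hmod := card_sylow_modEq_one 19 G
  have h19 : 19 ∣ Nat.card G := by rw [h]; norm_num
  obtain ⟨P⟩ : Nonempty (Sylow 19 G) := inferInstance
  have hne1 := card_sylow_ne_one_of_simple 19 P (by rw [hcP]; norm_num) (by rw [hcP, h]; norm_num)
  have hN := card_normalizer_mul_card_sylow 19 P
  rw [h] at hN
  have hrel := relIndex_centralizer_normalizer_dvd_pred 19 (P : Subgroup G) (hcP P)
  have hmul := card_centralizer_mul_relIndex (P : Subgroup G)
  have hd1 : (Subgroup.centralizer ((P : Subgroup G) : Set G)).relIndex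
      (Subgroup.normalizer ((P : Subgroup G) : Set G)) ≠ 1 := by
    intro hd
    rw [Subgroup.relIndex_eq_one] at hd
    exact false_of_normalizer_le_centralizer hnc 19 h19 P hd
  have hd18 := Nat.le_of_dvd (by norm_num) hrel
  set d := (Subgroup.centralizer ((P : Subgroup G) : Set G)).relIndex
      (Subgroup.normalizer ((P : Subgroup G) : Set G)) with hd
  set c := Nat.card ↥(Subgroup.centralizer ((P : Subgroup G) : Set G)) with hc
  have key : ∀ n ∈ Finset.range 193, n ∣ 192 → n % 19 = 1 → n = 1 ∨ n = 96 := by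
    set_option maxRecDepth 100000 in decide
  have hle := Nat.le_of_dvd (by norm_num) hdvd
  have hn96 : Nat.card (Sylow 19 G) = 96 := by
    rcases key _ (Finset.mem_range.mpr (by omega)) hdvd hmod with h1 | h1
    · exact absurd h1 hne1
    · exact h1
  rw [hn96] at hN
  have hNc : Nat.card ↥(Subgroup.normalizer ((P : Subgroup G) : Set G)) = 19 * 2 := by omega
  rw [hNc] at hmul
  have hc19 : c = 19 := by
    norm_num at hrel
    interval_cases d <;> omega
  obtain ⟨δ, ε', dχ, dΛ, hδ, hε', hd1', hddvd, hcong, hΛ0, hΛdvd, heq⟩ :=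
    exceptional_two hnc 19 P (hcP P) hc19 hNc (by norm_num)
  rw [h] at hddvd hΛdvd
  have hcong' : (dχ : ℤ) % 19 = δ % 19 := hcong
  have hmod19 : dχ % 19 = 1 ∨ dχ % 19 = 18 := by
    rcases hδ with rfl | rfl <;> omega
  have hcop : Nat.Coprime dχ 19 := by
    rw [Nat.coprime_comm, Nat.Prime.coprime_iff_not_dvd (by norm_num)]
    omega
  have hd192 : dχ ∣ 192 := by
    have h3648 : dχ ∣ 192 * 19 := by norm_num; exact hddvd
    exact hcop.dvd_of_dvd_mul_right h3648
  have key2 : ∀ n ∈ Finset.range 193, n ∣ 192 → (n % 19 = 1 ∨ n % 19 = 18) → n = 1 ∨ n = 96 := by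
    set_option maxRecDepth 100000 in decide
  have hle2 := Nat.le_of_dvd (by norm_num) hd192
  rcases key2 _ (Finset.mem_range.mpr (by omega)) hd192 hmod19 with h1 | h1
  · omega
  · rw [h1] at heq hcong'
    have hδ1 : δ = 1 := by rcases hδ with rfl | rfl <;> omega
    rw [hδ1] at heq
    have hdΛ : dΛ = 97 := by rcases hε' with rfl | rfl <;> omega
    rw [hdΛ] at hΛdvd
    norm_num at hΛdvd

end Cfsg.Agent.S0974
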