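import Cfsg.Statements.S0976
import Cfsg.Agent.Lib.Helper23.SylowPerm
import Cfsg.Agent.Lib.Helper23.SylowPerm2
import Cfsg.Agent.Lib.Helper23.SylowInter
import Cfsg.Agent.Lib.Helper23.SylowEmbed
import Cfsg.Agent.Lib.Helper23.SylowCount
import Cfsg.Agent.Lib.Helper23.Burnside
import Cfsg.Agent.Lib.Helper23.ExceptionalTwoMain

set_option autoImplicit false
open Cfsg

namespace Cfsg.Agent.S0976

open Cfsg.Agent.Lib.Helper23 Cfsg.Agent.Lib.Helper23.SylowPerm

/-- No finite simple group has order 4032 = 2^6 * 3^2 * 7. -/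
theorem result {G : Type*} [Group G] [Finite G] [IsSimpleGroup G] : Nat.card G ≠ 4032 := by
  intro h
  have : Fact (Nat.Prime 7) := ⟨by norm_num⟩
  have : Fact (Nat.Prime 3) := ⟨by norm_num⟩
  have hnc : ¬ IsMulCommutative G := not_isMulCommutative_of_simple (by rw [h]; norm_num)
  have h' : Nat.card G = 7 ^ 1 * 576 := by rw [h]; norm_num
  have hm : ¬ 7 ∣ 576 := by norm_num
  have hcP : ∀ P : Sylow 7 G, Nat.card ↥(P : Subgroup G) = 7 := fun P => by
    have := sylow_card_of_card_eq 7 1 576 h' hm P
    simpa using this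
  have hdvd := card_sylow_dvd_of_card_eq 7 1 576 h' hm
  have hmod := card_sylow_modEq_one 7 G
  have h7 : 7 ∣ Nat.card G := by rw [h]; norm_num
  have h3 : 3 ∣ Nat.card G := by rw [h]; norm_num
  have hcard2 : 2 < Nat.card G := by rw [h]; norm_num
  obtain ⟨P⟩ : Nonempty (Sylow 7 G) := inferInstance
  have hne1 := card_sylow_ne_one_of_simple 7 P (by rw [hcP]; norm_num) (by rw [hcP, h]; norm_num)
  have hN := card_normalizer_mul_card_sylow 7 P
  rw [h] at hN
  have hrel := relIndex_centralizer_normalizer_dvd_pred 7 (P : Subgroup G) (hcP P)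
  have hmul := card_centralizer_mul_relIndex (P : Subgroup G)
  have hd1 : (Subgroup.centralizer ((P : Subgroup G) : Set G)).relIndex
      (Subgroup.normalizer ((P : Subgroup G) : Set G)) ≠ 1 := by
    intro hd
    rw [Subgroup.relIndex_eq_one] at hd
    exact false_of_normalizer_le_centralizer hnc 7 h7 P hd
  have hd6 := Nat.le_of_dvd (by norm_num) hrel
  set d := (Subgroup.centralizer ((P : Subgroup G) : Set G)).relIndex
      (Subgroup.normalizer ((P : Subgroup G) : Set G)) with hd
  set c := Nat.card ↥(Subgroup.centralizer ((P : Subgroup G) : Set G)) with hc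
  have key : ∀ n ∈ Finset.range 577, n ∣ 576 → n % 7 = 1 →
      n = 1 ∨ n = 8 ∨ n = 36 ∨ n = 64 ∨ n = 288 := by
    set_option maxRecDepth 100000 in decide
  have hle := Nat.le_of_dvd (by norm_num) hdvd
  rcases key _ (Finset.mem_range.mpr (by omega)) hdvd hmod with h1 | h1 | h1 | h1 | h1
  · exact hne1 h1
  · -- eight Sylow 7-subgroups: an element of order 3 centralizing `P` fixes them all
    rw [h1] at hN
    have hNc : Nat.card ↥(Subgroup.normalizer ((P : Subgroup G) : Set G)) = 504 := by omega
    rw [hNc] at hmul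
    have h3c : 3 ∣ c := by
      norm_num at hrel
      interval_cases d <;> omega
    obtain ⟨k, hk⟩ := exists_prime_orderOf_dvd_card' 3 h3c
    have hk3 : orderOf (k : G) = 3 := by rw [Subgroup.orderOf_coe]; exact hk
    have hF1 : Nat.card (MulAction.fixedBy (Sylow 7 G) (k : G)) % 7 = 1 :=
      card_fixedBy_modEq_one 7 P (k : G) k.2
    have hF2 := card_fixedBy_modEq_card 7 3 (k : G) 1 (by rw [hk3]; norm_num)
    rw [h1] at hF2
    have hF2' : 8 % 3 = Nat.card (MulAction.fixedBy (Sylow 7 G) (k : G)) % 3 := hF2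
    have hk1 : (k : G) ≠ 1 := by
      intro hk1
      rw [hk1, orderOf_one] at hk3
      omega
    have hF3 := card_fixedBy_lt 7 hne1 (k : G) hk1
    rw [h1] at hF3
    omega
  · -- thirty-six Sylow 7-subgroups: count involutions against Sylow subgroups
    rw [h1] at hN
    have hNc : Nat.card ↥(Subgroup.normalizer ((P : Subgroup G) : Set G)) = 112 := by omega
    rw [hNc] at hmul
    have hc56 : c = 56 := by
      norm_num at hrel
      interval_cases d <;> omega
    have hodd := odd_card_involutions (Subgroup.centralizer ((P : Subgroup G) : Set G))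
      (by rw [← hc, hc56]; decide)
    have hf : ∀ k : G, k ^ 2 = 1 → k ≠ 1 →
        (∃ R : Sylow 7 G, k ∈ Subgroup.centralizer ((R : Subgroup G) : Set G)) →
        Nat.card {R : Sylow 7 G // k ∈ Subgroup.centralizer ((R : Subgroup G) : Set G)} = 8 := by
      rintro k hk2 hk1 ⟨R, hR⟩
      have hF1 : Nat.card (MulAction.fixedBy (Sylow 7 G) k) % 7 = 1 :=
        card_fixedBy_modEq_one 7 R k hR
      obtain ⟨t, ht⟩ := card_fixedBy_involution 7 hcard2 k hk2
      have hF3 := card_fixedBy_lt 7 hne1 k hk1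
      rw [h1] at ht hF3
      have hF : Nat.card (MulAction.fixedBy (Sylow 7 G) k) = 8 := by omega
      rw [card_centralized_eq_card_fixedBy 7 hcP (by norm_num) k hk2 (by rw [h1, hF]; norm_num),
        hF]
    obtain ⟨b, hb⟩ := dvd_card_sylow_mul_card_involutions 7 P 8 hf
    obtain ⟨j, hj⟩ := hodd
    rw [h1, hj] at hb
    omega
  · -- sixty-four Sylow 7-subgroups
    rw [h1] at hN
    have hNc : Nat.card ↥(Subgroup.normalizer ((P : Subgroup G) : Set G)) = 63 := by omega
    rw [hNc] at hmul
    have hc21 : c = 21 := by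
      norm_num at hrel
      interval_cases d <;> omega
    have h3c : 3 ∣ c := by rw [hc21]; norm_num
    obtain ⟨k, hk⟩ := exists_prime_orderOf_dvd_card' 3 h3c
    have hk3 : orderOf (k : G) = 3 := by rw [Subgroup.orderOf_coe]; exact hk
    have hF1 : Nat.card (MulAction.fixedBy (Sylow 7 G) (k : G)) % 7 = 1 :=
      card_fixedBy_modEq_one 7 P (k : G) k.2
    have hF2 := card_fixedBy_modEq_card 7 3 (k : G) 1 (by rw [hk3]; norm_num)
    rw [h1] at hF2
    have hF2' : 64 % 3 = Nat.card (MulAction.fixedBy (Sylow 7 G) (k : G)) % 3 := hF2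
    have hk1 : (k : G) ≠ 1 := by
      intro hk1
      rw [hk1, orderOf_one] at hk3
      omega
    have hF3 := card_fixedBy_lt 7 hne1 (k : G) hk1
    rw [h1] at hF3
    -- `k` fixes only `P`
    have hfix1 : Nat.card (MulAction.fixedBy (Sylow 7 G) (k : G)) = 1 := by
      by_contra hne
      have hbig : Nat.card (Sylow 7 G) - 1
          < 7 * (Nat.card (MulAction.fixedBy (Sylow 7 G) (k : G)) - 1) := by
        rw [h1]; omega
      have e1 := card_centralized_eq_card_fixedBy_of_lt 7 hcP (k : G) hbig
      have e2 := card_centralized_dvd 7 (k : G) P k.2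
      rw [e1] at e2
      have e3 : Nat.card ↥(Subgroup.centralizer ({(k : G)} : Set G)) ∣ 4032 := by
        rw [← h]; exact Subgroup.card_subgroup_dvd_card _
      have e4 := e2.trans e3
      have e5 : Nat.card (MulAction.fixedBy (Sylow 7 G) (k : G)) = 22 ∨
          Nat.card (MulAction.fixedBy (Sylow 7 G) (k : G)) = 43 := by omega
      rcases e5 with h5 | h5 <;> rw [h5] at e4 <;> norm_num at e4
    have hkP : (k : G) • P = P :=
      Sylow.smul_eq_iff_mem_normalizer.mpr (Subgroup.centralizer_le_normalizer _ k.2)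
    have hfix : ∀ R : Sylow 7 G, (k : G) • R = R → R = P := by
      intro R hR
      have hsub := (Nat.card_eq_one_iff_unique.mp hfix1).1
      have := Subsingleton.elim
        (⟨R, hR⟩ : MulAction.fixedBy (Sylow 7 G) (k : G)) ⟨P, hkP⟩
      exact congrArg Subtype.val this
    -- a Sylow 3-subgroup containing `k`
    have hk3grp : IsPGroup 3 ↥(Subgroup.zpowers (k : G)) := by
      apply IsPGroup.of_card (n := 1)
      rw [Nat.card_zpowers, hk3, pow_one]
    obtain ⟨Q, hQ⟩ := hk3grp.exists_le_sylow
    have hkQ : (k : G) ∈ (Q : Subgroup G) := hQ (Subgroup.mem_zpowers _)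
    have h'' : Nat.card G = 3 ^ 2 * 448 := by rw [h]; norm_num
    have hcQ : Nat.card ↥(Q : Subgroup G) = 9 := by
      have := sylow_card_of_card_eq 3 2 448 h'' (by norm_num) Q
      simpa using this
    have hQab : ∀ x ∈ (Q : Subgroup G), ∀ y ∈ (Q : Subgroup G), x * y = y * x := by
      intro x hx y hy
      have hcm := IsPGroup.isMulCommutative_of_card_eq_prime_sq (p := 3) (G := ↥(Q : Subgroup G))
        (by rw [hcQ]; norm_num)
      have := hcm.is_comm.comm ⟨x, hx⟩ ⟨y, hy⟩
      exact congrArg Subtype.val this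
    have hQC : (Q : Subgroup G) ≤ Subgroup.centralizer ({(k : G)} : Set G) := by
      intro x hx
      rw [Subgroup.mem_centralizer_iff]
      intro y hy
      rw [Set.mem_singleton_iff] at hy
      subst hy
      exact hQab _ hkQ x hx
    have hCN := centralizer_le_normalizer_of_unique_fixed 7 P (k : G) hkP hfix
    have hQN : (Q : Subgroup G) ≤ Subgroup.normalizer ((P : Subgroup G) : Set G) := hQC.trans hCN
    have hNQ := normalizer_le_normalizer_of_unique_fixed 7 P (k : G) hfix (Q : Subgroup G) hkQ hQN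
    have hdv1 : Nat.card ↥(Subgroup.normalizer ((Q : Subgroup G) : Set G)) ∣ 63 := by
      rw [← hNc]; exact Subgroup.card_dvd_of_le hNQ
    have hdv2 : 9 ∣ Nat.card ↥(Subgroup.normalizer ((Q : Subgroup G) : Set G)) := by
      rw [← hcQ]; exact Subgroup.card_dvd_of_le Subgroup.le_normalizer
    have hcases : Nat.card ↥(Subgroup.normalizer ((Q : Subgroup G) : Set G)) = 9 ∨
        Nat.card ↥(Subgroup.normalizer ((Q : Subgroup G) : Set G)) = 63 := by
      have hle63 := Nat.le_of_dvd (by norm_num) hdv1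
      obtain ⟨a, ha⟩ := hdv2
      rw [ha] at hdv1 hle63 ⊢
      have : a ≤ 7 := by omega
      interval_cases a <;> omega
    rcases hcases with h9 | h63
    · -- `N_G(Q) = Q` is abelian
      have hNQeq : Subgroup.normalizer ((Q : Subgroup G) : Set G) = (Q : Subgroup G) :=
        (Subgroup.eq_of_le_of_card_ge Subgroup.le_normalizer (by rw [h9, hcQ])).symm
      apply false_of_normalizer_le_centralizer hnc 3 h3 Q
      rw [hNQeq]
      intro x hx
      rw [Subgroup.mem_centralizer_iff]
      intro y hy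
      exact hQab y hy x hx
    · -- `N_G(Q) = N_G(P)`: `P` and `Q` normalize each other
      have hNeq : Subgroup.normalizer ((Q : Subgroup G) : Set G)
          = Subgroup.normalizer ((P : Subgroup G) : Set G) :=
        Subgroup.eq_of_le_of_card_ge hNQ (by rw [hNc, h63])
      have hbot : (P : Subgroup G) ⊓ (Q : Subgroup G) = ⊥ := by
        apply disjoint_iff.mp
        apply Subgroup.disjoint_of_coprime_natCard
        rw [hcP, hcQ]
        norm_num
      have hQC' : (Q : Subgroup G) ≤ Subgroup.centralizer ((P : Subgroup G) : Set G) := by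
        intro y hy
        rw [Subgroup.mem_centralizer_iff]
        intro x hx
        have hxN : x ∈ Subgroup.normalizer ((Q : Subgroup G) : Set G) := by
          rw [hNeq]; exact Subgroup.le_normalizer hx
        have hyN : y ∈ Subgroup.normalizer ((P : Subgroup G) : Set G) := hQN hy
        have e1 : x * y * x⁻¹ ∈ (Q : Subgroup G) := (Subgroup.mem_normalizer_iff.mp hxN y).mp hy
        have e2 : y * x⁻¹ * y⁻¹ ∈ (P : Subgroup G) :=
          (Subgroup.mem_normalizer_iff.mp hyN x⁻¹).mp (Subgroup.inv_mem _ hx)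
        have hcomm : x * y * x⁻¹ * y⁻¹ ∈ (P : Subgroup G) ⊓ (Q : Subgroup G) := by
          refine ⟨?_, Subgroup.mul_mem _ e1 (Subgroup.inv_mem _ hy)⟩
          have : x * y * x⁻¹ * y⁻¹ = x * (y * x⁻¹ * y⁻¹) := by group
          rw [this]
          exact Subgroup.mul_mem _ hx e2
        rw [hbot, Subgroup.mem_bot] at hcomm
        have : x * y = (x * y * x⁻¹ * y⁻¹) * (y * x) := by group
        rw [this, hcomm, one_mul]
      have := Subgroup.card_dvd_of_le hQC'
      rw [hcQ, ← hc, hc21] at this
      omega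
  · -- 288 Sylow 7-subgroups: exceptional characters
    rw [h1] at hN
    have hNc : Nat.card ↥(Subgroup.normalizer ((P : Subgroup G) : Set G)) = 14 := by omega
    rw [hNc] at hmul
    have hc7 : c = 7 := by
      norm_num at hrel
      interval_cases d <;> omega
    obtain ⟨δ, dd, dΛ, s, hδ, hd1', hddvd, hdcong, hΛ0, hΛdvd, hΛeq, hsq⟩ :=
      Exceptional.exceptional_two_square hnc 7 P (hcP P) hc7 (by rw [hNc]) (by norm_num)
    rw [h] at hddvd hΛdvd hsq
    have hdle := Nat.le_of_dvd (by norm_num) hddvd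
    have hΛle := Nat.le_of_dvd (by norm_num) hΛdvd
    have hfin : ∀ a ∈ Finset.range 4033, a ∣ 4032 → 1 < a →
        (((a + 1) ∣ 4032 ∧ a % 7 = 1) ∨ ((a - 1) ∣ 4032 ∧ a % 7 = 6)) → a = 8 := by
      set_option maxRecDepth 1000000 in decide
    have hd8 : dd = 8 := by
      apply hfin dd (Finset.mem_range.mpr (by omega)) hddvd hd1'
      rcases hδ with hδ1 | hδ1
      · left
        rw [hδ1] at hΛeq hdcong
        have e : (dd : ℤ) % 7 = 1 % 7 := hdcong
        have e2 : dΛ = dd + 1 := by omega
        rw [← e2]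
        exact ⟨hΛdvd, by omega⟩
      · right
        rw [hδ1] at hΛeq hdcong
        have e : (dd : ℤ) % 7 = (-1) % 7 := hdcong
        have e2 : dΛ = dd - 1 := by omega
        rw [← e2]
        exact ⟨hΛdvd, by omega⟩
    have hΛ9 : dΛ = 9 := by
      rcases hδ with hδ1 | hδ1
      · rw [hδ1, hd8] at hΛeq
        omega
      · exfalso
        rw [hδ1, hd8] at hdcong
        have e : ((8 : ℕ) : ℤ) % 7 = (-1) % 7 := hdcong
        omega
    rw [hd8, hΛ9] at hsq
    norm_num at hsq
    have hs1 : s ≤ -1426 ∨ (-1425 ≤ s ∧ s ≤ 1425) ∨ 1426 ≤ s := by omega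
    rcases hs1 with hs1 | hs1 | hs1
    · nlinarith [mul_nonneg (neg_nonneg.mpr (show s + 1426 ≤ 0 by omega))
        (neg_nonneg.mpr (show s - 1426 ≤ 0 by omega))]
    · nlinarith [mul_nonneg (show (0 : ℤ) ≤ 1425 - s by omega) (show (0 : ℤ) ≤ 1425 + s by omega)]
    · nlinarith [mul_nonneg (show (0 : ℤ) ≤ s - 1426 by omega) (show (0 : ℤ) ≤ s + 1426 by omega)]

end Cfsg.Agent.S0976
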