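import Cfsg.Statements.S0979
import Cfsg.Agent.Lib.Helper23.ExceptionalSimple
import Cfsg.Agent.Lib.Helper23.SylowPerm
import Cfsg.Agent.Lib.Helper23.SylowInter
import Cfsg.Agent.Lib.Helper23.SylowEmbed
import Cfsg.Agent.Lib.Helper23.SylowCount
import Cfsg.Agent.Lib.Helper23.Burnside

set_option autoImplicit false
open Cfsg

namespace Cfsg.Agent.S0979

open Cfsg.Agent.Lib.Helper23 Cfsg.Agent.Lib.Helper23.SylowPerm
  Cfsg.Agent.Lib.Helper23.Exceptional

/-- No finite simple group has order 5472 = 2^5 * 3^2 * 19. -/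
theorem result {G : Type*} [Group G] [Finite G] [IsSimpleGroup G] : Nat.card G ≠ 5472 := by
  intro h
  have : Fact (Nat.Prime 19) := ⟨by norm_num⟩
  have hnc : ¬ IsMulCommutative G := not_isMulCommutative_of_simple (by rw [h]; norm_num)
  have h' : Nat.card G = 19 ^ 1 * 288 := by rw [h]; norm_num
  have hm : ¬ 19 ∣ 288 := by norm_num
  have hcP : ∀ P : Sylow 19 G, Nat.card ↥(P : Subgroup G) = 19 := fun P => by
    have := sylow_card_of_card_eq 19 1 288 h' hm P
    simpa using this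
  have hdvd := card_sylow_dvd_of_card_eq 19 1 288 h' hm
  have hmod := card_sylow_modEq_one 19 G
  have h19 : 19 ∣ Nat.card G := by rw [h]; norm_num
  obtain ⟨P⟩ : Nonempty (Sylow 19 G) := inferInstance
  have hne1 := card_sylow_ne_one_of_simple 19 P (by rw [hcP]; norm_num) (by rw [hcP, h]; norm_num)
  have hN := card_normalizer_mul_card_sylow 19 P
  rw [h] at hN
  have hrel := relIndex_centralizer_normalizer_dvd_pred 19 (P : Subgroup G) (hcP P)
  have hmul := card_centralizer_mul_relIndex (P : Subgroup G)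
  have hd1 : (Subgroup.centralizer ((P : Subgroup G) : Set G)).relIndex
      (Subgroup.normalizer ((P : Subgroup G) : Set G)) ≠ 1 := by
    intro hd
    rw [Subgroup.relIndex_eq_one] at hd
    exact false_of_normalizer_le_centralizer hnc 19 h19 P hd
  have hd18 := Nat.le_of_dvd (by norm_num) hrel
  set d := (Subgroup.centralizer ((P : Subgroup G) : Set G)).relIndex
      (Subgroup.normalizer ((P : Subgroup G) : Set G)) with hd
  set c := Nat.card ↥(Subgroup.centralizer ((P : Subgroup G) : Set G)) with hc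
  have key : ∀ n ∈ Finset.range 289, n ∣ 288 → n % 19 = 1 → n = 1 ∨ n = 96 := by
    set_option maxRecDepth 100000 in decide
  have hle := Nat.le_of_dvd (by norm_num) hdvd
  have hn96 : Nat.card (Sylow 19 G) = 96 := by
    rcases key _ (Finset.mem_range.mpr (by omega)) hdvd hmod with h1 | h1
    · exact absurd h1 hne1
    · exact h1
  rw [hn96] at hN
  have hNc : Nat.card ↥(Subgroup.normalizer ((P : Subgroup G) : Set G)) = 19 * 3 := by omega
  rw [hNc] at hmul
  have hc19 : c = 19 := by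
    norm_num at hrel
    interval_cases d <;> omega
  obtain ⟨δ₁, δ₂, ε', d₁, d₂, dΛ, hδ₁, hδ₂, hε', h1d₁, hd₁dvd, hcong₁, h1d₂, hd₂dvd, hcong₂,
    hΛ0, hΛdvd, heq⟩ := exceptional_three hnc 19 P (hcP P) hc19 hNc (by norm_num)
  rw [h] at hd₁dvd hd₂dvd hΛdvd
  have key2 : ∀ n ∈ Finset.range 289, n ∣ 288 → (n % 19 = 1 ∨ n % 19 = 18) →
      n = 1 ∨ n = 96 ∨ n = 18 := by
    set_option maxRecDepth 100000 in decide
  -- the possible values of `δ * d`
  have hval : ∀ (δ : ℤ) (d : ℕ), (δ = 1 ∨ δ = -1) → 1 < d → d ∣ 5472 → (d : ℤ) ≡ δ [ZMOD 19] →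
      δ * (d : ℤ) = 96 ∨ δ * (d : ℤ) = -18 := by
    intro δ d hδ h1d hddvd hcong
    have hcong' : (d : ℤ) % 19 = δ % 19 := hcong
    have hmod19 : d % 19 = 1 ∨ d % 19 = 18 := by
      rcases hδ with rfl | rfl <;> omega
    have hcop : Nat.Coprime d 19 := by
      rw [Nat.coprime_comm, Nat.Prime.coprime_iff_not_dvd (by norm_num)]
      omega
    have hd288 : d ∣ 288 := by
      have h5472 : d ∣ 288 * 19 := by norm_num; exact hddvd
      exact hcop.dvd_of_dvd_mul_right h5472
    have hle2 := Nat.le_of_dvd (by norm_num) hd288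
    rcases key2 _ (Finset.mem_range.mpr (by omega)) hd288 hmod19 with h1 | h1 | h1
    · omega
    · rw [h1] at hcong' ⊢
      have hδ1 : δ = 1 := by rcases hδ with rfl | rfl <;> omega
      left; rw [hδ1]; norm_num
    · rw [h1] at hcong' ⊢
      have hδ1 : δ = -1 := by rcases hδ with rfl | rfl <;> omega
      right; rw [hδ1]; norm_num
  have hv₁ := hval δ₁ d₁ hδ₁ h1d₁ hd₁dvd hcong₁
  have hv₂ := hval δ₂ d₂ hδ₂ h1d₂ hd₂dvd hcong₂
  have hdΛ : dΛ = 193 ∨ dΛ = 79 ∨ dΛ = 35 := by
    rcases hv₁ with h1 | h1 <;> rcases hv₂ with h2 | h2 <;> rw [h1, h2] at heq <;>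
      rcases hε' with rfl | rfl <;> omega
  rcases hdΛ with h1 | h1 | h1 <;> rw [h1] at hΛdvd <;> norm_num at hΛdvd

end Cfsg.Agent.S0979
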