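import Cfsg.Statements.S0981
import Cfsg.Agent.Lib.Helper23.G4080.Local
import Cfsg.Agent.Lib.Helper07.PSL27
import Cfsg.Agent.S1230

set_option autoImplicit false
open Cfsg

namespace Cfsg.Agent.S0981

open Cfsg.Agent.Lib.Helper23 Cfsg.Agent.Lib.Helper23.G4080

/-- A simple group of order 4080 is isomorphic to the projective special linear group of dimension 2 over the field with 16 elements. -/
theorem result {G : Type*} [Group G] [Finite G] [IsSimpleGroup G] (h : Nat.card G = 4080) {F : Type*} [Field F] [Fintype F] (hF : Fintype.card F = 16) : Nonempty (G ≃* Matrix.ProjectiveSpecialLinearGroup (Fin 2) F) := by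
  have : Fact (Nat.Prime 2) := ⟨by norm_num⟩
  obtain ⟨T⟩ : Nonempty (Sylow 2 G) := inferInstance
  have h' : Nat.card G = 2 ^ 4 * 255 := by rw [h]; norm_num
  have hcT : Nat.card ↥(T : Subgroup G) = 16 := by
    have := sylow_card_of_card_eq 2 4 255 h' (by norm_num) T
    simpa using this
  have hnc : ¬ IsCyclic (T : Subgroup G) := by
    intro hcyc
    obtain ⟨g, hg⟩ := IsCyclic.exists_generator (α := ↥(T : Subgroup G))
    have hord : orderOf g = 16 := by
      rw [orderOf_eq_card_of_forall_mem_zpowers hg, hcT]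
    have hord' : orderOf (g : G) = 16 := by rw [Subgroup.orderOf_coe]; exact hord
    have hsq := sq_eq_one_of_two_element h (g : G) (by rw [hord'])
    have := orderOf_dvd_of_pow_eq_one hsq
    rw [hord'] at this
    omega
  have hnn : ¬ (T : Subgroup G).Normal := by
    intro hn
    rcases hn.eq_bot_or_eq_top with hb | ht
    · rw [hb, Subgroup.card_bot] at hcT
      omega
    · rw [ht, Subgroup.card_top, h] at hcT
      omega
  have hC : ∀ t : G, orderOf t = 2 →
      IsMulCommutative (Subgroup.centralizer ({t} : Set G)) ∧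
        ∀ c ∈ Subgroup.centralizer ({t} : Set G), c ^ 2 = 1 := by
    intro t ht
    have heq : Subgroup.centralizer ({t} : Set G)
        = Subgroup.centralizer ((Subgroup.zpowers t : Subgroup G) : Set G) := by
      rw [Subgroup.zpowers_eq_closure, Subgroup.centralizer_closure]
    have hdvd := card_centralizer_dvd_sixteen h (Subgroup.zpowers t) t (Subgroup.mem_zpowers _) ht
    rw [← heq] at hdvd
    have hsq : ∀ c ∈ Subgroup.centralizer ({t} : Set G), c ^ 2 = 1 := by
      intro c hc
      apply sq_eq_one_of_two_element h c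
      have := orderOf_dvd_natCard (⟨c, hc⟩ : Subgroup.centralizer ({t} : Set G))
      rw [Subgroup.orderOf_mk] at this
      exact this.trans hdvd
    refine ⟨⟨⟨fun a b => ?_⟩⟩, hsq⟩
    apply Subtype.ext
    have ha := hsq a a.2
    have hb := hsq b b.2
    have hab := hsq (a * b : G) (Subgroup.mul_mem _ a.2 b.2)
    show (a : G) * (b : G) = (b : G) * (a : G)
    have e1 : (a : G)⁻¹ = a := by
      rw [inv_eq_iff_mul_eq_one, ← pow_two]; exact ha
    have e2 : (b : G)⁻¹ = b := by
      rw [inv_eq_iff_mul_eq_one, ← pow_two]; exact hb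
    have e3 : ((a : G) * (b : G))⁻¹ = (a : G) * (b : G) := by
      rw [inv_eq_iff_mul_eq_one, ← pow_two]; exact hab
    rw [← e3, mul_inv_rev, e1, e2]
  obtain ⟨F', instF, instFin, hF', ⟨e⟩⟩ := Cfsg.Agent.S1230.result T hnc hnn hC
  have hcard : Fintype.card F' = Fintype.card F := by rw [hF', hcT, hF]
  exact ⟨e.trans (Cfsg.Agent.Lib.Helper07.pslCongr (FiniteField.ringEquivOfCardEq hcard))⟩

end Cfsg.Agent.S0981
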