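import Cfsg.Statements.S0986
import Cfsg.Agent.Lib.Helper23.PGroupNorm
import Cfsg.Agent.Lib.Helper23.SylowCount

set_option autoImplicit false
open Cfsg

namespace Cfsg.Agent.S0986

open Cfsg.Agent.Lib.Helper23

/-- Let P and Q be distinct Sylow p-subgroups of a finite group G chosen so that the order of P ∩ Q is as large as possible among intersections of two distinct Sylow p-subgroups, and let N be the normalizer of P ∩ Q. Then N has more than one Sylow p-subgroup, any two distinct Sylow p-subgroups of N intersect exactly in P ∩ Q, and each Sylow p-subgroup of N lies in exactly one Sylow p-subgroup of G. -/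
theorem result {G : Type*} [Group G] [Finite G] (p : ℕ) [Fact p.Prime] (P Q : Sylow p G) (hPQ : P ≠ Q) (hmax : ∀ P' Q' : Sylow p G, P' ≠ Q' → Nat.card ↥((P' : Subgroup G) ⊓ (Q' : Subgroup G)) ≤ Nat.card ↥((P : Subgroup G) ⊓ (Q : Subgroup G))) : 1 < Nat.card (Sylow p ↥(Subgroup.normalizer (((P : Subgroup G) ⊓ (Q : Subgroup G) : Subgroup G) : Set G))) ∧ (∀ S T : Sylow p ↥(Subgroup.normalizer (((P : Subgroup G) ⊓ (Q : Subgroup G) : Subgroup G) : Set G)), S ≠ T → (S : Subgroup _) ⊓ (T : Subgroup _) = ((P : Subgroup G) ⊓ (Q : Subgroup G)).subgroupOf (Subgroup.normalizer (((P : Subgroup G) ⊓ (Q : Subgroup G) : Subgroup G) : Set G))) ∧ ∀ S : Sylow p ↥(Subgroup.normalizer (((P : Subgroup G) ⊓ (Q : Subgroup G) : Subgroup G) : Set G)), ∃! T : Sylow p G, (S : Subgroup _).map (Subgroup.normalizer (((P : Subgroup G) ⊓ (Q : Subgroup G) : Subgroup G) : Set G)).subtype ≤ (T : Subgroup G) := by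
  classical
  set D : Subgroup G := (P : Subgroup G) ⊓ (Q : Subgroup G) with hD
  set N : Subgroup G := Subgroup.normalizer (D : Set G) with hN
  have hDN : D ≤ N := Subgroup.le_normalizer
  have hK : ∀ T₁ T₂ : Sylow p G,
      Nat.card ↥D < Nat.card ↥((T₁ : Subgroup G) ⊓ (T₂ : Subgroup G)) → T₁ = T₂ := by
    intro T₁ T₂ h
    by_contra hne
    exact absurd (hmax T₁ T₂ hne) (not_le.mpr h)
  have hDP : D < (P : Subgroup G) := by
    refine lt_of_le_of_ne inf_le_left (fun h => hPQ ?_)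
    have hle : (P : Subgroup G) ≤ (Q : Subgroup G) := h ▸ inf_le_right
    exact Sylow.ext (P.3 Q.2 hle).symm
  have hDQ : D < (Q : Subgroup G) := by
    refine lt_of_le_of_ne inf_le_right (fun h => hPQ ?_)
    have hle : (Q : Subgroup G) ≤ (P : Subgroup G) := h ▸ inf_le_left
    exact Sylow.ext (Q.3 P.2 hle)
  obtain ⟨x, hxP, hxN, hxD⟩ := exists_mem_normalizer_notMem p P P.2 D hDP
  obtain ⟨y, hyQ, hyN, hyD⟩ := exists_mem_normalizer_notMem p Q Q.2 D hDQ
  have hcP : Nat.card ↥D < Nat.card ↥((P : Subgroup G) ⊓ N) :=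
    card_lt_of_le_of_notMem D _ (le_inf inf_le_left hDN) ⟨hxP, hxN⟩ hxD
  have hcQ : Nat.card ↥D < Nat.card ↥((Q : Subgroup G) ⊓ N) :=
    card_lt_of_le_of_notMem D _ (le_inf inf_le_right hDN) ⟨hyQ, hyN⟩ hyD
  have L1 : ∀ T : Sylow p G, Nat.card ↥D < Nat.card ↥((T : Subgroup G) ⊓ N) →
      ∃ S : Sylow p ↥N, (S : Subgroup ↥N) = (T : Subgroup G).subgroupOf N := by
    intro T hT
    have hpg : IsPGroup p ↥((T : Subgroup G).subgroupOf N) := T.2.comap_subtype
    obtain ⟨S, hS⟩ := hpg.exists_le_sylow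
    have hpg2 : IsPGroup p ↥((S : Subgroup ↥N).map N.subtype) := S.2.map _
    obtain ⟨T', hT'⟩ := hpg2.exists_le_sylow
    have hTT' : T = T' := by
      apply hK
      refine lt_of_lt_of_le hT (Subgroup.card_le_of_le ?_)
      intro z hz
      refine ⟨hz.1, hT' ?_⟩
      exact ⟨⟨z, hz.2⟩, hS (by rw [Subgroup.mem_subgroupOf]; exact hz.1), rfl⟩
    refine ⟨S, le_antisymm ?_ hS⟩
    intro z hz
    rw [Subgroup.mem_subgroupOf, hTT']
    exact hT' ⟨z, hz, rfl⟩
  obtain ⟨SP, hSP⟩ := L1 P hcP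
  obtain ⟨SQ, hSQ⟩ := L1 Q hcQ
  have hcardsub : ∀ T : Subgroup G, Nat.card ↥(T.subgroupOf N) = Nat.card ↥(T ⊓ N) := by
    intro T
    rw [← Subgroup.inf_subgroupOf_right T N]
    exact Nat.card_congr (Subgroup.subgroupOfEquivOfLe inf_le_right).toEquiv
  have L3 : ∀ S : Sylow p ↥N, ∃ T : Sylow p G,
      (S : Subgroup ↥N) = (T : Subgroup G).subgroupOf N ∧
        Nat.card ↥D < Nat.card ↥((T : Subgroup G) ⊓ N) := by
    intro S
    obtain ⟨n, hn⟩ := MulAction.exists_smul_eq ↥N SP S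
    have h1 : (S : Subgroup ↥N) = (((n : G) • P : Sylow p G) : Subgroup G).subgroupOf N := by
      rw [← hn, Sylow.coe_subgroup_smul, hSP]
      ext z
      rw [Subgroup.mem_pointwise_smul_iff_inv_smul_mem, Subgroup.mem_subgroupOf,
        Subgroup.mem_subgroupOf, Sylow.coe_subgroup_smul,
        Subgroup.mem_pointwise_smul_iff_inv_smul_mem]
      rfl
    refine ⟨(n : G) • P, h1, ?_⟩
    rw [← hcardsub, ← h1, sylow_card_eq p S SP, hSP, hcardsub]
    exact hcP
  have hDsub : ∀ S : Sylow p ↥N, D.subgroupOf N ≤ (S : Subgroup ↥N) := by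
    intro S
    have hn : (D.subgroupOf N).Normal := Subgroup.normal_in_normalizer
    have hpg : IsPGroup p ↥(D.subgroupOf N) := (P.2.to_le inf_le_left).comap_subtype
    exact hpg.le_sylow_of_normal S
  refine ⟨?_, ?_, ?_⟩
  · rw [Finite.one_lt_card_iff_nontrivial]
    refine ⟨⟨SP, SQ, fun h => ?_⟩⟩
    have h1 : (P : Subgroup G).subgroupOf N = (Q : Subgroup G).subgroupOf N := by
      rw [← hSP, ← hSQ, h]
    have h2 : (P : Subgroup G) ⊓ N ≤ D := by
      intro z hz
      refine ⟨hz.1, ?_⟩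
      have : (⟨z, hz.2⟩ : ↥N) ∈ (P : Subgroup G).subgroupOf N := by
        rw [Subgroup.mem_subgroupOf]; exact hz.1
      rw [h1, Subgroup.mem_subgroupOf] at this
      exact this
    exact absurd (Subgroup.card_le_of_le h2) (not_le.mpr hcP)
  · intro S T hST
    obtain ⟨T₁, hT₁, _⟩ := L3 S
    obtain ⟨T₂, hT₂, _⟩ := L3 T
    have hne : T₁ ≠ T₂ := by
      rintro rfl
      exact hST (Sylow.ext (hT₁.trans hT₂.symm))
    symm
    apply Subgroup.eq_of_le_of_card_ge (le_inf (hDsub S) (hDsub T))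
    have h1 : ((S : Subgroup ↥N) ⊓ (T : Subgroup ↥N)).map N.subtype ≤
        (T₁ : Subgroup G) ⊓ (T₂ : Subgroup G) := by
      rintro _ ⟨z, hz, rfl⟩
      constructor
      · have h5 : z ∈ (S : Subgroup ↥N) := hz.1
        rw [hT₁, Subgroup.mem_subgroupOf] at h5
        exact h5
      · have h5 : z ∈ (T : Subgroup ↥N) := hz.2
        rw [hT₂, Subgroup.mem_subgroupOf] at h5
        exact h5
    have h2 := Subgroup.card_le_of_le h1
    rw [Subgroup.card_map_of_injective N.subtype_injective] at h2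
    have h3 := hmax T₁ T₂ hne
    have h4 : Nat.card ↥(D.subgroupOf N) = Nat.card ↥D := by
      rw [hcardsub D, inf_of_le_left hDN]
    rw [h4]
    exact h2.trans h3
  · intro S
    obtain ⟨T, hT, hcT⟩ := L3 S
    refine ⟨T, ?_, ?_⟩
    · show (S : Subgroup ↥N).map N.subtype ≤ (T : Subgroup G)
      rw [hT, Subgroup.subgroupOf_map_subtype]
      exact inf_le_left
    · intro T' hT'
      symm
      apply hK
      refine lt_of_lt_of_le hcT (Subgroup.card_le_of_le ?_)
      intro z hz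
      refine ⟨hz.1, hT' ?_⟩
      rw [hT, Subgroup.subgroupOf_map_subtype]
      exact hz

end Cfsg.Agent.S0986
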