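import Cfsg.Statements.S0987
import Cfsg.Agent.Lib.Helper23.SylowEmbed
import Cfsg.Agent.Lib.Helper23.Counting

set_option autoImplicit false
open Cfsg

namespace Cfsg.Agent.S0987

open Cfsg.Agent.Lib.Helper23

theorem arith (p q r np nq : ℕ) (hp : 2 ≤ p) (hpq : p < q) (hqr : q < r) (hnp : q ≤ np)
    (hnq : r ≤ nq)
    (h : 1 + np * (p - 1) + nq * (q - 1) + p * q * (r - 1) ≤ p * q * r) : False := by
  obtain ⟨a, rfl⟩ : ∃ a, p = a + 1 := ⟨p - 1, by omega⟩
  obtain ⟨b, rfl⟩ : ∃ b, q = b + 1 := ⟨q - 1, by omega⟩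
  obtain ⟨c, rfl⟩ : ∃ c, r = c + 1 := ⟨r - 1, by omega⟩
  simp only [Nat.add_sub_cancel] at h
  have hb : 0 < b := by omega
  have hc : 0 < c := by omega
  nlinarith [Nat.mul_le_mul_right a hnp, Nat.mul_le_mul_right b hnq, Nat.mul_pos hc hb]

theorem card_orderOf_one {G : Type*} [Group G] : Nat.card {g : G // orderOf g = 1} = 1 := by
  have : {g : G // orderOf g = 1} ≃ Unit :=
    { toFun := fun _ => ()
      invFun := fun _ => ⟨1, orderOf_one⟩
      left_inv := fun ⟨g, hg⟩ => by
        apply Subtype.ext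
        exact (orderOf_eq_one_iff.mp hg).symm
      right_inv := fun _ => rfl }
  rw [Nat.card_congr this]
  simp

/-- If a finite group has order pqr for primes p < q < r, then its Sylow r-subgroups are normal. -/
theorem result {G : Type*} [Group G] [Finite G] (p q r : ℕ) (hp : p.Prime) (hq : q.Prime) [Fact r.Prime] (hpq : p < q) (hqr : q < r) (hG : Nat.card G = p * q * r) (R : Sylow r G) : (R : Subgroup G).Normal := by
  have hr : r.Prime := Fact.out
  have : Fact p.Prime := ⟨hp⟩
  have : Fact q.Prime := ⟨hq⟩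
  have hpr : p < r := hpq.trans hqr
  -- non-divisibility facts
  have hr_ndvd : ¬ r ∣ p * q := by
    intro h
    rcases (Nat.Prime.dvd_mul hr).mp h with h | h
    · have := (Nat.prime_dvd_prime_iff_eq hr hp).mp h; omega
    · have := (Nat.prime_dvd_prime_iff_eq hr hq).mp h; omega
  have hq_ndvd : ¬ q ∣ p * r := by
    intro h
    rcases (Nat.Prime.dvd_mul hq).mp h with h | h
    · have := (Nat.prime_dvd_prime_iff_eq hq hp).mp h; omega
    · have := (Nat.prime_dvd_prime_iff_eq hq hr).mp h; omega
  have hp_ndvd : ¬ p ∣ q * r := by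
    intro h
    rcases (Nat.Prime.dvd_mul hp).mp h with h | h
    · have := (Nat.prime_dvd_prime_iff_eq hp hq).mp h; omega
    · have := (Nat.prime_dvd_prime_iff_eq hp hr).mp h; omega
  have hGr : Nat.card G = r ^ 1 * (p * q) := by rw [hG]; ring
  have hGq : Nat.card G = q ^ 1 * (p * r) := by rw [hG]; ring
  have hGp : Nat.card G = p ^ 1 * (q * r) := by rw [hG]; ring
  have hcR : ∀ R' : Sylow r G, Nat.card ↥(R' : Subgroup G) = r := fun R' => by
    simpa using sylow_card_of_card_eq r 1 (p * q) hGr hr_ndvd R'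
  have hcQ : ∀ Q' : Sylow q G, Nat.card ↥(Q' : Subgroup G) = q := fun Q' => by
    simpa using sylow_card_of_card_eq q 1 (p * r) hGq hq_ndvd Q'
  have hcP : ∀ P' : Sylow p G, Nat.card ↥(P' : Subgroup G) = p := fun P' => by
    simpa using sylow_card_of_card_eq p 1 (q * r) hGp hp_ndvd P'
  by_contra hnot
  have hnr1 : Nat.card (Sylow r G) ≠ 1 := fun h => hnot (sylow_normal_of_card_eq_one r h R)
  -- n_r = p * q
  have hnr : Nat.card (Sylow r G) = p * q := by
    have hd := card_sylow_dvd_of_card_eq r 1 (p * q) hGr hr_ndvd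
    have hm : Nat.card (Sylow r G) % r = 1 % r := card_sylow_modEq_one r G
    rw [Nat.mod_eq_of_lt hr.one_lt] at hm
    rcases dvd_prime_mul_prime hp hq hd with h | h | h | h
    · exact absurd h hnr1
    · rw [h, Nat.mod_eq_of_lt hpr] at hm; have := hp.one_lt; omega
    · rw [h, Nat.mod_eq_of_lt hqr] at hm; have := hq.one_lt; omega
    · exact h
  -- the normalizer of R has order r
  have hN := card_normalizer_mul_card_sylow r R
  rw [hnr, hG] at hN
  have hNr : Nat.card ↥(Subgroup.normalizer ((R : Subgroup G) : Set G)) = r := by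
    have h1 : 0 < p * q := Nat.mul_pos hp.pos hq.pos
    apply Nat.eq_of_mul_eq_mul_right h1
    rw [hN]; ring
  -- a normal subgroup of prime order q' < r cannot exist
  have hkey : ∀ (Q' : Subgroup G) (q' : ℕ), q'.Prime → q' < r → Nat.card ↥Q' = q' → Q'.Normal →
      False := by
    intro Q' q' hq' hq'r hcard hnorm
    have hfin : Finite ↥Q' := inferInstance
    have hcomm := conj_eq_of_normal_card_lt r Q' (R : Subgroup G) R.2 (by rw [hcard]; exact hq'r)
    have hle : Q' ≤ Subgroup.normalizer ((R : Subgroup G) : Set G) := by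
      intro y hy
      rw [Subgroup.mem_normalizer_iff]
      intro x
      have hxy : ∀ x ∈ (R : Subgroup G), x * y = y * x := by
        intro x hx
        exact mul_inv_eq_iff_eq_mul.mp (hcomm x hx y hy)
      have hc : ∀ x ∈ (R : Subgroup G), y * x * y⁻¹ = x := by
        intro x hx
        rw [← hxy x hx, mul_inv_cancel_right]
      constructor
      · intro hx; rw [hc x hx]; exact hx
      · intro hx
        have hc' : ∀ x ∈ (R : Subgroup G), y⁻¹ * x * y = x := by
          intro x hx
          rw [mul_assoc, hxy x hx, inv_mul_cancel_left]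
        have := hc' _ hx
        have h3 : y⁻¹ * (y * x * y⁻¹) * y = x := by group
        rw [h3] at this
        rw [this]; exact hx
    have h1 := Subgroup.card_dvd_of_le hle
    rw [hcard, hNr] at h1
    have := (Nat.prime_dvd_prime_iff_eq hq' hr).mp h1
    omega
  -- counting
  have hcount := sum_card_orderOf_le (G := G) ({1, p, q, r} : Finset ℕ)
  have h1p : (1 : ℕ) ≠ p := hp.one_lt.ne
  have h1q : (1 : ℕ) ≠ q := hq.one_lt.ne
  have h1r : (1 : ℕ) ≠ r := hr.one_lt.ne
  rw [Finset.sum_insert (by simp [h1p, h1q, h1r]),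
    Finset.sum_insert (by simp [hpq.ne, hpr.ne]),
    Finset.sum_insert (by simp [hqr.ne]), Finset.sum_singleton,
    card_orderOf_one, card_orderOf_eq_prime p hcP, card_orderOf_eq_prime q hcQ,
    card_orderOf_eq_prime r hcR, hnr, hG] at hcount
  -- n_q
  have hnq : Nat.card (Sylow q G) = 1 ∨ r ≤ Nat.card (Sylow q G) := by
    have hd := card_sylow_dvd_of_card_eq q 1 (p * r) hGq hq_ndvd
    have hm : Nat.card (Sylow q G) % q = 1 % q := card_sylow_modEq_one q G
    rw [Nat.mod_eq_of_lt hq.one_lt] at hm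
    rcases dvd_prime_mul_prime hp hr hd with h | h | h | h
    · left; exact h
    · rw [h, Nat.mod_eq_of_lt hpq] at hm; have := hp.one_lt; omega
    · right; rw [h]
    · right; rw [h]; exact Nat.le_mul_of_pos_left r hp.pos
  have hnp : Nat.card (Sylow p G) = 1 ∨ q ≤ Nat.card (Sylow p G) := by
    have hd := card_sylow_dvd_of_card_eq p 1 (q * r) hGp hp_ndvd
    rcases dvd_prime_mul_prime hq hr hd with h | h | h | h
    · left; exact h
    · right; rw [h]
    · right; rw [h]; exact hqr.le
    · right; rw [h]; exact Nat.le_mul_of_pos_right q hr.pos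
  rcases hnq with hnq | hnq
  · obtain ⟨Q'⟩ : Nonempty (Sylow q G) := inferInstance
    exact hkey Q' q hq hqr (hcQ Q') (sylow_normal_of_card_eq_one q hnq Q')
  rcases hnp with hnp | hnp
  · obtain ⟨P'⟩ : Nonempty (Sylow p G) := inferInstance
    exact hkey P' p hp hpr (hcP P') (sylow_normal_of_card_eq_one p hnp P')
  exact arith p q r _ _ hp.two_le hpq hqr hnp hnq (by linarith)

end Cfsg.Agent.S0987
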