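import Cfsg.Statements.S0988
import Cfsg.Agent.Lib.Helper04.BurnsidePQ
import Cfsg.Agent.Lib.Helper23.SylowPrime
import Cfsg.Agent.Lib.Helper23.Burnside

set_option autoImplicit false
open Cfsg

namespace Cfsg.Agent.S0988

open Cfsg.Agent.Lib.Helper23

/-- a simple group whose order involves at most two primes has prime order. -/
theorem false_of_two_primes {G : Type*} [Group G] [Finite G] [IsSimpleGroup G] (a b i j : ℕ)
    (ha : a.Prime) (hb : b.Prime) (h : Nat.card G = a ^ i * b ^ j)
    (hnp : ¬ (Nat.card G).Prime) : False := by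
  have hs := Cfsg.Agent.Lib.Helper04.burnside_paqb a b i j ha hb h
  have hc := IsSimpleGroup.comm_iff_isSolvable.mpr hs
  apply hnp
  let _ : CommGroup G := { (inferInstance : Group G) with mul_comm := hc }
  exact IsSimpleGroup.prime_card

theorem not_prime_card (p q r : ℕ) (hp : p.Prime) (hq : q.Prime) (hr : r.Prime) :
    ¬ (p ^ 2 * q * r).Prime := by
  intro h
  have h1 : p ∣ p ^ 2 * q * r :=
    Dvd.dvd.mul_right (Dvd.dvd.mul_right (dvd_pow_self p two_ne_zero) q) r
  rcases (Nat.dvd_prime h).mp h1 with h2 | h2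
  · exact hp.one_lt.ne' h2
  · have h3 : p * 1 = p * (p * q * r) := by
      rw [mul_one]; nth_rewrite 1 [h2]; ring
    have h4 := Nat.eq_of_mul_eq_mul_left hp.pos h3
    have h5 : 2 * 2 * 2 ≤ p * q * r :=
      Nat.mul_le_mul (Nat.mul_le_mul hp.two_le hq.two_le) hr.two_le
    omega

/-- a simple group of order `12 t`, `t ≥ 5` prime, has order 60. -/
theorem card_eq_sixty_of_twelve_mul {G : Type*} [Group G] [Finite G] [IsSimpleGroup G]
    (hnc : ¬ IsMulCommutative G) (t : ℕ) (ht : t.Prime) (ht5 : 5 ≤ t)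
    (hG : Nat.card G = 12 * t) : Nat.card G = 60 := by
  have : Fact t.Prime := ⟨ht⟩
  have : Fact (Nat.Prime 3) := ⟨by norm_num⟩
  have ht12 : ¬ t ∣ 12 := by
    intro h
    have := Nat.le_of_dvd (by norm_num) h
    interval_cases t <;> first | omega | (exfalso; revert ht; norm_num)
  have hGt : Nat.card G = t ^ 1 * 12 := by rw [hG]; ring
  have hct : ∀ T : Sylow t G, Nat.card ↥(T : Subgroup G) = t := fun T => by
    simpa using sylow_card_of_card_eq t 1 12 hGt ht12 T
  obtain ⟨T⟩ : Nonempty (Sylow t G) := inferInstance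
  have hd := card_sylow_dvd_of_card_eq t 1 12 hGt ht12
  have hmod : Nat.card (Sylow t G) % t = 1 % t := card_sylow_modEq_one t G
  rw [Nat.mod_eq_of_lt ht.one_lt] at hmod
  have hne1 := card_sylow_ne_one_of_simple t T (by rw [hct]; exact ht.one_lt.ne')
    (by rw [hct, hG]; omega)
  have hle := Nat.le_of_dvd (by norm_num) hd
  -- n_t = 1 + k t
  obtain ⟨k, hk⟩ : ∃ k, Nat.card (Sylow t G) = t * k + 1 :=
    ⟨Nat.card (Sylow t G) / t, by
      have := Nat.div_add_mod (Nat.card (Sylow t G)) t
      omega⟩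
  set n := Nat.card (Sylow t G) with hn
  have hk1 : 1 ≤ k := by
    by_contra hk0
    have : k = 0 := by omega
    rw [this] at hk
    omega
  have hk2 : k ≤ 2 := by
    by_contra hk3
    have h3 : 3 ≤ k := by omega
    have : t * 3 ≤ t * k := Nat.mul_le_mul_left t h3
    omega
  interval_cases k
  · -- n = t + 1 ∣ 12, t ≥ 5 → t = 5 or t = 11
    have hn' : n = t + 1 := by omega
    rw [hn'] at hd
    have : t + 1 = 6 ∨ t + 1 = 12 := by
      have h2 : t + 1 ≤ 12 := by omega
      have h3 : 6 ≤ t + 1 := by omega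
      generalize t + 1 = m at *
      interval_cases m <;> omega
    rcases this with h6 | h12
    · have : t = 5 := by omega
      rw [hG, this]
    · exfalso
      have ht11 : t = 11 := by omega
      subst ht11
      have hn12 : n = 12 := by omega
      -- Sylow 3
      have hG3 : Nat.card G = 3 ^ 1 * 44 := by rw [hG]; norm_num
      have h344 : ¬ 3 ∣ 44 := by norm_num
      have hc3 : ∀ Q : Sylow 3 G, Nat.card ↥(Q : Subgroup G) = 3 := fun Q => by
        simpa using sylow_card_of_card_eq 3 1 44 hG3 h344 Q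
      obtain ⟨Q⟩ : Nonempty (Sylow 3 G) := inferInstance
      have hd3 := card_sylow_dvd_of_card_eq 3 1 44 hG3 h344
      have hmod3 : Nat.card (Sylow 3 G) % 3 = 1 := card_sylow_modEq_one 3 G
      have hne3 := card_sylow_ne_one_of_simple 3 Q (by rw [hc3]; norm_num)
        (by rw [hc3, hG]; norm_num)
      have hn3 : Nat.card (Sylow 3 G) = 22 := by
        have key : ∀ m ∈ Finset.range 45, m ∣ 44 → m % 3 = 1 → m = 1 ∨ m = 4 ∨ m = 22 := by
          decide
        have hle3 := Nat.le_of_dvd (by norm_num) hd3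
        rcases key _ (Finset.mem_range.mpr (by omega)) hd3 hmod3 with h1 | h1 | h1
        · exact absurd h1 hne3
        · exfalso
          rw [card_sylow_eq_index_normalizer' 3 Q] at h1
          have htop : Subgroup.normalizer ((Q : Subgroup G) : Set G) ≠ ⊤ := by
            intro htop
            rw [htop, Subgroup.index_top] at h1
            omega
          have := card_dvd_factorial_index hnc _ htop
          rw [h1, hG] at this
          norm_num [Nat.factorial] at this
        · exact h1
      have hcount := sum_card_orderOf_le (G := G) ({3, 11} : Finset ℕ)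
      rw [Finset.sum_insert (by decide), Finset.sum_singleton,
        card_orderOf_eq_prime 3 hc3, card_orderOf_eq_prime 11 hct, hn3, ← hn, hn12, hG] at hcount
      omega
  · -- n = 2 t + 1 ∣ 12 impossible for t ≥ 5
    exfalso
    have hn' : n = 2 * t + 1 := by omega
    have : 2 * t + 1 ≤ 12 := by omega
    have : t = 5 := by omega
    rw [hn', this] at hd
    norm_num at hd

/-- the distinct case -/
theorem card_eq_sixty_of_distinct {G : Type*} [Group G] [Finite G] [IsSimpleGroup G]
    (p q r : ℕ) (hp : p.Prime) (hq : q.Prime) (hr : r.Prime) (hpq : p ≠ q) (hpr : p ≠ r)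
    (hqr : q ≠ r) (hG : Nat.card G = p ^ 2 * q * r) : Nat.card G = 60 := by
  have : Fact p.Prime := ⟨hp⟩
  have : Fact q.Prime := ⟨hq⟩
  have : Fact r.Prime := ⟨hr⟩
  have hnp : ¬ (Nat.card G).Prime := hG ▸ not_prime_card p q r hp hq hr
  have hnc : ¬ IsMulCommutative G := not_isMulCommutative_of_simple hnp
  -- prime divisors
  have hpG : p ∣ Nat.card G := by
    rw [hG]; exact Dvd.dvd.mul_right (Dvd.dvd.mul_right (dvd_pow_self p two_ne_zero) q) r
  have hqG : q ∣ Nat.card G := by
    rw [hG]; exact Dvd.dvd.mul_right (Dvd.intro_left _ rfl) r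
  have hrG : r ∣ Nat.card G := by
    rw [hG]; exact Dvd.intro_left _ rfl
  -- Sylow orders
  have hq_ndvd : ¬ q ∣ p ^ 2 * r := by
    intro h
    rcases (Nat.Prime.dvd_mul hq).mp h with h | h
    · exact hpq ((Nat.prime_dvd_prime_iff_eq hq hp).mp (hq.dvd_of_dvd_pow h)).symm
    · exact hqr ((Nat.prime_dvd_prime_iff_eq hq hr).mp h)
  have hr_ndvd : ¬ r ∣ p ^ 2 * q := by
    intro h
    rcases (Nat.Prime.dvd_mul hr).mp h with h | h
    · exact hpr ((Nat.prime_dvd_prime_iff_eq hr hp).mp (hr.dvd_of_dvd_pow h)).symm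
    · exact hqr ((Nat.prime_dvd_prime_iff_eq hr hq).mp h).symm
  have hp_ndvd : ¬ p ∣ q * r := by
    intro h
    rcases (Nat.Prime.dvd_mul hp).mp h with h | h
    · exact hpq ((Nat.prime_dvd_prime_iff_eq hp hq).mp h)
    · exact hpr ((Nat.prime_dvd_prime_iff_eq hp hr).mp h)
  have hGq : Nat.card G = q ^ 1 * (p ^ 2 * r) := by rw [hG]; ring
  have hGr : Nat.card G = r ^ 1 * (p ^ 2 * q) := by rw [hG]; ring
  have hGp : Nat.card G = p ^ 2 * (q * r) := by rw [hG]; ring
  have hcQ : ∀ Q : Sylow q G, Nat.card ↥(Q : Subgroup G) = q := fun Q => by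
    simpa using sylow_card_of_card_eq q 1 (p ^ 2 * r) hGq hq_ndvd Q
  have hcR : ∀ R : Sylow r G, Nat.card ↥(R : Subgroup G) = r := fun R => by
    simpa using sylow_card_of_card_eq r 1 (p ^ 2 * q) hGr hr_ndvd R
  have hcP : ∀ P : Sylow p G, Nat.card ↥(P : Subgroup G) = p ^ 2 := fun P =>
    sylow_card_of_card_eq p 2 (q * r) hGp hp_ndvd P
  -- the smallest prime divisor is p
  set m := (Nat.card G).minFac with hm
  have hmprime : m.Prime := Nat.minFac_prime (fun h => by
    rw [h] at hpG; exact hp.one_lt.ne' (Nat.dvd_one.mp hpG))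
  have hmdvd : m ∣ p ^ 2 * q * r := hG ▸ Nat.minFac_dvd _
  have hmcases : m = p ∨ m = q ∨ m = r := by
    rcases (Nat.Prime.dvd_mul hmprime).mp hmdvd with h | h
    · rcases (Nat.Prime.dvd_mul hmprime).mp h with h | h
      · left; exact (Nat.prime_dvd_prime_iff_eq hmprime hp).mp (hmprime.dvd_of_dvd_pow h)
      · right; left; exact (Nat.prime_dvd_prime_iff_eq hmprime hq).mp h
    · right; right; exact (Nat.prime_dvd_prime_iff_eq hmprime hr).mp h
  have hcyc : ∀ (s : ℕ) [Fact s.Prime] (S : Sylow s G), m = s → s ∣ Nat.card G →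
      ¬ IsCyclic ↥(S : Subgroup G) := by
    intro s _ S hms hsG hc
    exact false_of_normalizer_le_centralizer hnc s hsG S
      (IsCyclic.normalizer_le_centralizer hms hc)
  have hmp : m = p := by
    rcases hmcases with h | h | h
    · exact h
    · exfalso
      obtain ⟨Q⟩ : Nonempty (Sylow q G) := inferInstance
      exact hcyc q Q h hqG (isCyclic_of_prime_card (p := q) (hcQ Q))
    · exfalso
      obtain ⟨R⟩ : Nonempty (Sylow r G) := inferInstance
      exact hcyc r R h hrG (isCyclic_of_prime_card (p := r) (hcR R))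
  have hplq : p < q := lt_of_le_of_ne (hmp ▸ Nat.minFac_le_of_dvd hq.two_le hqG) hpq
  have hplr : p < r := lt_of_le_of_ne (hmp ▸ Nat.minFac_le_of_dvd hr.two_le hrG) hpr
  obtain ⟨P⟩ : Nonempty (Sylow p G) := inferInstance
  -- the N/C analysis
  have hPcomm : ∀ a b : ↥(P : Subgroup G), a * b = b * a :=
    (IsPGroup.isMulCommutative_of_card_eq_prime_sq (hcP P)).is_comm.comm
  have hPC : (P : Subgroup G) ≤ Subgroup.centralizer ((P : Subgroup G) : Set G) := by
    intro a ha
    rw [Subgroup.mem_centralizer_iff]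
    intro b hb
    exact congrArg Subtype.val (hPcomm ⟨b, hb⟩ ⟨a, ha⟩)
  set N := Subgroup.normalizer ((P : Subgroup G) : Set G) with hN
  set C := Subgroup.centralizer ((P : Subgroup G) : Set G) with hC
  have hCN : C ≤ N := Subgroup.centralizer_le_normalizer _
  have hk1 : C.relIndex N ≠ 1 := by
    intro h1
    exact false_of_normalizer_le_centralizer hnc p hpG P (Subgroup.relIndex_eq_one.mp h1)
  have hkp : ¬ p ∣ C.relIndex N := not_dvd_relIndex_centralizer_normalizer p P hPC
  have hkqr : C.relIndex N ∣ q * r := by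
    have h1 : C.relIndex N ∣ (P : Subgroup G).index :=
      (Subgroup.relIndex_dvd_of_le_left _ hPC).trans
        (Subgroup.relIndex_dvd_index_of_le Subgroup.le_normalizer)
    have h2 := Subgroup.card_mul_index (P : Subgroup G)
    rw [hcP P, hGp] at h2
    have h3 : (P : Subgroup G).index = q * r :=
      Nat.eq_of_mul_eq_mul_left (pow_pos hp.pos 2) h2
    rwa [h3] at h1
  -- a prime s ∈ {q, r} dividing the relative index
  obtain ⟨s, hs, hsk, hsqr⟩ : ∃ s : ℕ, s.Prime ∧ s ∣ C.relIndex N ∧ (s = q ∨ s = r) := by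
    rcases dvd_prime_mul_prime hq hr hkqr with h | h | h | h
    · exact absurd h hk1
    · exact ⟨q, hq, h ▸ dvd_refl _, Or.inl rfl⟩
    · exact ⟨r, hr, h ▸ dvd_refl _, Or.inr rfl⟩
    · exact ⟨q, hq, h ▸ Dvd.intro _ rfl, Or.inl rfl⟩
  have hps : p < s := by rcases hsqr with rfl | rfl <;> assumption
  have hsG : s ∣ Nat.card G := by rcases hsqr with rfl | rfl <;> assumption
  have hs2 : ¬ s ^ 2 ∣ Nat.card G := by
    intro h
    rcases hsqr with rfl | rfl
    · rw [hGq, pow_one, sq] at h
      exact hq_ndvd (Nat.dvd_of_mul_dvd_mul_left hq.pos h)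
    · rw [hGr, pow_one, sq] at h
      exact hr_ndvd (Nat.dvd_of_mul_dvd_mul_left hr.pos h)
  have : Fact s.Prime := ⟨hs⟩
  -- |N| = |C| * k
  have hNcard : Nat.card ↥N = Nat.card ↥C * C.relIndex N := by
    have h1 := Subgroup.card_mul_index (C.subgroupOf N)
    rw [Nat.card_congr (Subgroup.subgroupOfEquivOfLe hCN).toEquiv] at h1
    exact h1.symm
  have hsC : ¬ s ∣ Nat.card ↥C := by
    intro h
    apply hs2
    have h1 : s * s ∣ Nat.card ↥N := hNcard ▸ Nat.mul_dvd_mul h hsk
    rw [sq]
    exact h1.trans (Subgroup.card_subgroup_dvd_card N)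
  have hsN : s ∣ Nat.card ↥N := hNcard ▸ Dvd.dvd.mul_left hsk _
  obtain ⟨x, hx⟩ := exists_prime_orderOf_dvd_card' s hsN
  have hxC : (x : G) ∉ C := by
    intro hxC
    apply hsC
    have : orderOf (x : G) = s := by rw [Subgroup.orderOf_coe]; exact hx
    rw [← this]
    exact Subgroup.orderOf_dvd_natCard _ hxC
  -- action of ⟨x⟩ on P
  have hR : IsPGroup s ↥(Subgroup.zpowers x) :=
    IsPGroup.of_card (n := 1) (by rw [Nat.card_zpowers, hx, pow_one])
  have hmodeq := hR.card_modEq_card_fixedPoints ↥(P : Subgroup G)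
  set F : Subgroup ↥(P : Subgroup G) :=
    FixedPoints.subgroup ↥(Subgroup.zpowers x) ↥(P : Subgroup G) with hF
  have hFcard : Nat.card ↥(MulAction.fixedPoints ↥(Subgroup.zpowers x) ↥(P : Subgroup G)) =
      Nat.card ↥F := rfl
  rw [hFcard, hcP P] at hmodeq
  have hFdvd : Nat.card ↥F ∣ p ^ 2 := hcP P ▸ Subgroup.card_subgroup_dvd_card F
  have hFne : Nat.card ↥F ≠ p ^ 2 := by
    intro h
    apply hxC
    have hFtop : F = ⊤ := Subgroup.eq_top_of_card_eq F (by rw [h, hcP P])
    rw [hC, Subgroup.mem_centralizer_iff]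
    intro y hy
    have hy' : (⟨y, hy⟩ : ↥(P : Subgroup G)) ∈ F := by rw [hFtop]; trivial
    have h1 := hy' ⟨x, Subgroup.mem_zpowers x⟩
    have h2 : (x : G) * y * (x : G)⁻¹ = y := congrArg Subtype.val h1
    exact (mul_inv_eq_iff_eq_mul.mp h2).symm
  obtain ⟨j, hj, hjF⟩ := (Nat.dvd_prime_pow hp).mp hFdvd
  have hp2 : 2 ≤ p := hp.two_le
  have hkey : p = 2 ∧ s = 3 := by
    have hj' : j = 0 ∨ j = 1 := by
      rcases Nat.lt_or_ge j 2 with h | h
      · omega
      · exfalso
        have : j = 2 := by omega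
        rw [this] at hjF
        exact hFne hjF
    rcases hj' with rfl | rfl
    · -- s ∣ p^2 - 1
      rw [hjF, pow_zero] at hmodeq
      have h1 : s ∣ p ^ 2 - 1 :=
        (Nat.modEq_iff_dvd' (Nat.one_le_pow _ _ hp.pos)).mp hmodeq.symm
      have h2 : p ^ 2 - 1 = (p - 1) * (p + 1) := by
        obtain ⟨a, rfl⟩ : ∃ a, p = a + 1 := ⟨p - 1, by omega⟩
        simp only [Nat.add_sub_cancel]
        have : (a + 1) ^ 2 = a * (a + 1 + 1) + 1 := by ring
        omega
      rw [h2] at h1
      rcases (Nat.Prime.dvd_mul hs).mp h1 with h3 | h3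
      · exfalso
        have := Nat.le_of_dvd (by omega) h3
        omega
      · have h4 := Nat.le_of_dvd (by omega) h3
        have hs' : s = p + 1 := by omega
        rcases hp.eq_two_or_odd with h5 | h5
        · exact ⟨h5, by omega⟩
        · exfalso
          have : 2 ∣ s := by omega
          have := (Nat.prime_dvd_prime_iff_eq Nat.prime_two hs).mp this
          omega
    · -- s ∣ p^2 - p impossible
      exfalso
      rw [hjF, pow_one] at hmodeq
      have hle : p ≤ p ^ 2 := by nlinarith
      have h1 : s ∣ p ^ 2 - p := (Nat.modEq_iff_dvd' hle).mp hmodeq.symm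
      have h2 : p ^ 2 - p = p * (p - 1) := by
        obtain ⟨a, rfl⟩ : ∃ a, p = a + 1 := ⟨p - 1, by omega⟩
        simp only [Nat.add_sub_cancel]
        have : (a + 1) ^ 2 = (a + 1) * a + (a + 1) := by ring
        omega
      rw [h2] at h1
      rcases (Nat.Prime.dvd_mul hs).mp h1 with h3 | h3
      · have := Nat.le_of_dvd hp.pos h3
        omega
      · have := Nat.le_of_dvd (by omega) h3
        omega
  obtain ⟨hp2', hs3⟩ := hkey
  subst hp2'
  rcases hsqr with hsq | hsr
  · -- q = 3
    have hq3 : q = 3 := by omega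
    subst hq3
    have hr5 : 5 ≤ r := by
      have := hr.two_le
      rcases Nat.lt_or_ge r 5 with h | h
      · interval_cases r <;> first | omega | (exfalso; revert hr; norm_num)
      · exact h
    exact card_eq_sixty_of_twelve_mul hnc r hr hr5 (by rw [hG]; ring)
  · have hr3 : r = 3 := by omega
    subst hr3
    have hq5 : 5 ≤ q := by
      have := hq.two_le
      rcases Nat.lt_or_ge q 5 with h | h
      · interval_cases q <;> first | omega | (exfalso; revert hq; norm_num)
      · exact h
    exact card_eq_sixty_of_twelve_mul hnc q hq hq5 (by rw [hG]; ring)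

/-- If a finite simple group has order p^2 * q * r with p, q and r prime, then its order is 60. -/
theorem result {G : Type*} [Group G] [Finite G] [IsSimpleGroup G] (p q r : ℕ) (hp : p.Prime) (hq : q.Prime) (hr : r.Prime) (hG : Nat.card G = p ^ 2 * q * r) : Nat.card G = 60 := by
  have hnp : ¬ (Nat.card G).Prime := hG ▸ not_prime_card p q r hp hq hr
  by_cases hqr : q = r
  · exfalso
    subst hqr
    exact false_of_two_primes p q 2 2 hp hq (by rw [hG]; ring) hnp
  by_cases hpq : p = q
  · exfalso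
    subst hpq
    exact false_of_two_primes p r 3 1 hp hr (by rw [hG]; ring) hnp
  by_cases hpr : p = r
  · exfalso
    subst hpr
    exact false_of_two_primes p q 3 1 hp hq (by rw [hG]; ring) hnp
  exact card_eq_sixty_of_distinct p q r hp hq hr hpq hpr hqr hG

end Cfsg.Agent.S0988
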