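import Cfsg.Statements.S0992
import Cfsg.Agent.Lib.Helper23.Burnside

set_option autoImplicit false
open Cfsg

namespace Cfsg.Agent.S0992

open Cfsg.Agent.Lib.Helper23

/-- Let G be a non-abelian finite simple group of even order not divisible by 8, and T a Sylow 2-subgroup. Then T is a Klein four-group and the centralizer of T has index 3 in the normalizer of T. -/
theorem result {G : Type*} [Group G] [Finite G] [IsSimpleGroup G] (hG : ¬ IsMulCommutative G) (h2 : Even (Nat.card G)) (h8 : ¬ 8 ∣ Nat.card G) (T : Sylow 2 G) : IsKleinFour ↥(T : Subgroup G) ∧ (Subgroup.centralizer ((T : Subgroup G) : Set G)).relIndex (Subgroup.normalizer ((T : Subgroup G) : Set G)) = 3 := by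
  have h2d : 2 ∣ Nat.card G := even_iff_two_dvd.mp h2
  obtain ⟨k, hk⟩ := T.2.exists_card_eq
  have hTd : Nat.card ↥(T : Subgroup G) ∣ Nat.card G := Subgroup.card_subgroup_dvd_card _
  have hk2 : k ≤ 2 := by
    by_contra hlt
    push Not at hlt
    apply h8
    have : (8 : ℕ) ∣ 2 ^ k := by
      have : (2 : ℕ) ^ 3 ∣ 2 ^ k := pow_dvd_pow 2 hlt
      simpa using this
    rw [← hk] at this
    exact this.trans hTd
  have hk1 : 1 ≤ k := by
    by_contra hlt
    have hk0 : k = 0 := by omega
    rw [hk0, pow_zero] at hk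
    exact T.ne_bot_of_dvd_card h2d (Subgroup.card_eq_one.mp hk)
  have hncyc : ¬ IsCyclic ↥(T : Subgroup G) := by
    intro hcyc
    have hmin : (Nat.card G).minFac = 2 := (Nat.minFac_eq_two_iff _).mpr h2d
    exact false_of_normalizer_le_centralizer hG 2 h2d T
      (IsCyclic.normalizer_le_centralizer hmin hcyc)
  have hk' : k = 2 := by
    interval_cases k
    · exfalso
      apply hncyc
      exact isCyclic_of_prime_card (p := 2) (by simpa using hk)
    · rfl
  rw [hk'] at hk
  have hK : IsKleinFour ↥(T : Subgroup G) :=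
    ⟨by rw [hk]; norm_num, (not_isCyclic_iff_exponent_eq_prime Nat.prime_two hk).mp hncyc⟩
  refine ⟨hK, ?_⟩
  have hTC : (T : Subgroup G) ≤ Subgroup.centralizer ((T : Subgroup G) : Set G) := by
    intro a ha
    rw [Subgroup.mem_centralizer_iff]
    intro b hb
    have := (IsKleinFour.isMulCommutative (G := ↥(T : Subgroup G))).is_comm.comm ⟨b, hb⟩ ⟨a, ha⟩
    exact congrArg Subtype.val this
  have hodd := not_dvd_relIndex_centralizer_normalizer 2 T hTC
  have hdvd := relIndex_centralizer_normalizer_dvd (T : Subgroup G)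
  rw [hk] at hdvd
  have hne1 : (Subgroup.centralizer ((T : Subgroup G) : Set G)).relIndex
      (Subgroup.normalizer ((T : Subgroup G) : Set G)) ≠ 1 := by
    intro h1
    exact false_of_normalizer_le_centralizer hG 2 h2d T (Subgroup.relIndex_eq_one.mp h1)
  generalize (Subgroup.centralizer ((T : Subgroup G) : Set G)).relIndex
      (Subgroup.normalizer ((T : Subgroup G) : Set G)) = r at hodd hdvd hne1 ⊢
  have key : ∀ n ∈ Finset.range 25, n ∣ 24 → ¬ 2 ∣ n → n ≠ 1 → n = 3 := by decide
  have hle : r ≤ 24 := Nat.le_of_dvd (by norm_num) (by simpa [Nat.factorial] using hdvd)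
  exact key r (Finset.mem_range.mpr (by omega)) (by simpa [Nat.factorial] using hdvd) hodd hne1

end Cfsg.Agent.S0992
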