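import Cfsg.Statements.S0994
import Cfsg.Agent.Lib.Helper23.SylowEmbed

set_option autoImplicit false
open Cfsg

namespace Cfsg.Agent.S0994

open Cfsg.Agent.Lib.Helper23

/-- No finite simple group has order 1188 = 2^2 * 3^3 * 11. -/
theorem result {G : Type*} [Group G] [Finite G] [IsSimpleGroup G] : Nat.card G ≠ 1188 := by
  intro h
  have : Fact (Nat.Prime 11) := ⟨by norm_num⟩
  have hnc : ¬ IsMulCommutative G := not_isMulCommutative_of_simple (by rw [h]; norm_num)
  have h' : Nat.card G = 11 ^ 1 * 108 := by rw [h]; norm_num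
  have hm : ¬ 11 ∣ 108 := by norm_num
  obtain ⟨P⟩ : Nonempty (Sylow 11 G) := inferInstance
  have hP : Nat.card ↥(P : Subgroup G) = 11 := by
    have := sylow_card_of_card_eq 11 1 108 h' hm P
    simpa using this
  have hdvd := card_sylow_dvd_of_card_eq 11 1 108 h' hm
  have hmod := card_sylow_modEq_one 11 G
  have hne1 := card_sylow_ne_one_of_simple 11 P (by rw [hP]; norm_num) (by rw [hP, h]; norm_num)
  have hn : Nat.card (Sylow 11 G) = 12 := by
    have key : ∀ n ∈ Finset.range 109, n ∣ 108 → n % 11 = 1 → n = 1 ∨ n = 12 := by decide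
    have hle := Nat.le_of_dvd (by norm_num) hdvd
    rcases key _ (Finset.mem_range.mpr (by omega)) hdvd hmod with h1 | h1
    · exact absurd h1 hne1
    · exact h1
  have hN := card_normalizer_mul_card_sylow 11 P
  rw [hn, h] at hN
  have hN' : Nat.card ↥(Subgroup.normalizer ((P : Subgroup G) : Set G)) = 99 := by omega
  set H := Subgroup.normalizer ((P : Subgroup G) : Set G) with hH
  have hidx : H.index = 12 := by rw [← hn, Sylow.card_eq_index_normalizer P]; rfl
  have hHtop : H ≠ ⊤ := by
    intro htop
    rw [htop, Subgroup.index_top] at hidx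
    omega
  obtain ⟨f, hf⟩ := Cfsg.Agent.S0991.result hnc H hHtop
  have hα : Fintype.card (Fin H.index) = 11 ∨ Fintype.card (Fin H.index) = 11 + 1 := by
    right; rw [Fintype.card_fin, hidx]
  have := two_mul_card_normalizer_dvd 11 (by norm_num) P hP hα f hf
  rw [hN'] at this
  norm_num at this

end Cfsg.Agent.S0994
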