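import Cfsg.Statements.S0995
import Cfsg.Agent.Lib.Helper23.ConjClass
import Cfsg.Agent.Lib.Helper23.SylowCount

set_option autoImplicit false
open Cfsg

namespace Cfsg.Agent.S0995

open Cfsg.Agent.Lib.Helper23

/-- Let G be a finite perfect group containing an element z of prime order p whose centralizer is the cyclic group it generates. Let t be the number of conjugacy classes of elements of order p. Then t divides p - 1, the number of Sylow p-subgroups has the form 1 + n * p, and |G| * t = (p - 1) * p * (1 + n * p). -/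
theorem result {G : Type*} [Group G] [Finite G] (hperf : commutator G = ⊤) (p : ℕ) [Fact p.Prime] (z : G) (hz : orderOf z = p) (hC : Subgroup.centralizer ({z} : Set G) = Subgroup.zpowers z) : ∃ n t : ℕ, t = Nat.card {c : ConjClasses G // ∃ g : G, ConjClasses.mk g = c ∧ orderOf g = p} ∧ t ∣ p - 1 ∧ Nat.card (Sylow p G) = 1 + n * p ∧ Nat.card G * t = (p - 1) * p * (1 + n * p) := by
  classical
  have hp : p.Prime := Fact.out
  have hz1 : z ≠ 1 := by
    rintro rfl
    rw [orderOf_one] at hz
    exact hp.one_lt.ne hz
  have hcz : Nat.card ↥(Subgroup.zpowers z) = p := by rw [Nat.card_zpowers, hz]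
  have hpg : IsPGroup p ↥(Subgroup.zpowers z) := IsPGroup.of_card (n := 1) (by rw [hcz, pow_one])
  obtain ⟨S, hS⟩ := hpg.exists_le_sylow
  have hzS : z ∈ (S : Subgroup G) := hS (Subgroup.mem_zpowers z)
  have hSz : (S : Subgroup G) ≤ Subgroup.zpowers z := by
    have hnt : Nontrivial ↥(S : Subgroup G) :=
      ⟨⟨⟨z, hzS⟩, 1, fun h => hz1 (congrArg Subtype.val h)⟩⟩
    have hcn := S.2.center_nontrivial
    obtain ⟨⟨c, hc⟩, hc1⟩ := exists_ne (1 : ↥(Subgroup.center ↥(S : Subgroup G)))
    have hcG : (c : G) ≠ 1 := by
      intro h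
      apply hc1
      apply Subtype.ext
      apply Subtype.ext
      exact h
    rw [Subgroup.mem_center_iff] at hc
    have hczm : (c : G) ∈ Subgroup.centralizer ({z} : Set G) := by
      rw [Subgroup.mem_centralizer_iff]
      intro y hy
      rw [Set.mem_singleton_iff] at hy
      subst hy
      exact congrArg Subtype.val (hc ⟨y, hzS⟩)
    rw [hC] at hczm
    have hcent := centralizer_eq_of_mem_zpowers p z (c : G) hz hczm hcG
    intro s hs
    have h1 : s ∈ Subgroup.centralizer ({(c : G)} : Set G) := by
      rw [Subgroup.mem_centralizer_iff]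
      intro y hy
      rw [Set.mem_singleton_iff] at hy
      subst hy
      exact (congrArg Subtype.val (hc ⟨s, hs⟩)).symm
    rw [hcent, hC] at h1
    exact h1
  have hSeq : (S : Subgroup G) = Subgroup.zpowers z := le_antisymm hSz hS
  have hcS : ∀ S' : Sylow p G, Nat.card ↥(S' : Subgroup G) = p := fun S' => by
    rw [sylow_card_eq p S' S, hSeq, hcz]
  have hX := card_orderOf_eq_prime p hcS
  have hN := card_normalizer_mul_card_sylow p S
  have hpN : p ∣ Nat.card ↥(Subgroup.normalizer ((S : Subgroup G) : Set G)) := by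
    have := Subgroup.card_dvd_of_le
      (Subgroup.le_normalizer : (S : Subgroup G) ≤ Subgroup.normalizer ((S : Subgroup G) : Set G))
    rwa [hcS S] at this
  have hfib : Nat.card {g : G // orderOf g = p} * p =
      Nat.card {c : ConjClasses G // ∃ g : G, ConjClasses.mk g = c ∧ orderOf g = p} *
        Nat.card G := by
    let f : {g : G // orderOf g = p} →
        {c : ConjClasses G // ∃ g : G, ConjClasses.mk g = c ∧ orderOf g = p} :=
      fun g => ⟨ConjClasses.mk g.1, g.1, rfl, g.2⟩
    have : Fintype {c : ConjClasses G // ∃ g : G, ConjClasses.mk g = c ∧ orderOf g = p} :=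
      Fintype.ofFinite _
    rw [Nat.card_congr (Equiv.sigmaFiberEquiv f).symm, Nat.card_sigma, Finset.sum_mul]
    have hfiber : ∀ c : {c : ConjClasses G // ∃ g : G, ConjClasses.mk g = c ∧ orderOf g = p},
        Nat.card {x // f x = c} * p = Nat.card G := by
      rintro ⟨_, g, rfl, hgo⟩
      -- find a conjugate of g inside zpowers z
      have hpg' : IsPGroup p ↥(Subgroup.zpowers g) :=
        IsPGroup.of_card (n := 1) (by rw [Nat.card_zpowers, hgo, pow_one])
      obtain ⟨S', hS'⟩ := hpg'.exists_le_sylow
      obtain ⟨x, hx⟩ := MulAction.exists_smul_eq G S S'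
      have hgS' : g ∈ ((x • S : Sylow p G) : Subgroup G) := by
        rw [hx]; exact hS' (Subgroup.mem_zpowers g)
      rw [Sylow.coe_subgroup_smul, Subgroup.mem_pointwise_smul_iff_inv_smul_mem] at hgS'
      simp only [MulAut.smul_def, MulAut.conj_inv_apply] at hgS'
      rw [hSeq] at hgS'
      set g' := x⁻¹ * g * x with hg'
      have hconj : IsConj g g' := by
        rw [isConj_iff]
        exact ⟨x⁻¹, by rw [hg', inv_inv]⟩
      have hg'o : orderOf g' = p := by
        rw [← hgo]
        have : g' = x⁻¹ * g * x⁻¹⁻¹ := by rw [hg', inv_inv]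
        rw [this]
        exact ((SemiconjBy.conj_mk x⁻¹ g).orderOf_eq x⁻¹).symm
      have hg'1 : g' ≠ 1 := by
        intro h
        rw [h, orderOf_one] at hg'o
        exact hp.one_lt.ne hg'o
      have hcent := centralizer_eq_of_mem_zpowers p z g' hz hgS' hg'1
      have hclass := card_isConj_mul_card_centralizer g'
      rw [hcent, hC, hcz] at hclass
      rw [← hclass]
      congr 1
      apply Nat.card_congr
      refine
        { toFun := fun y => ⟨y.1.1, ?_⟩
          invFun := fun h => ⟨⟨h.1, ?_⟩, ?_⟩
          left_inv := fun y => rfl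
          right_inv := fun h => rfl }
      · have h1 : ConjClasses.mk y.1.1 = ConjClasses.mk g := congrArg Subtype.val y.2
        have h2 : IsConj y.1.1 g := ConjClasses.mk_eq_mk_iff_isConj.mp h1
        exact (h2.trans hconj).symm
      · have h2 : IsConj g' h.1 := h.2
        obtain ⟨u, hu⟩ := isConj_iff.mp h2
        rw [← hu, ← hg'o]
        exact ((SemiconjBy.conj_mk u g').orderOf_eq u).symm
      · apply Subtype.ext
        show ConjClasses.mk h.1 = ConjClasses.mk g
        exact ConjClasses.mk_eq_mk_iff_isConj.mpr ((hconj.trans h.2).symm)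
    simp_rw [hfiber]
    rw [Finset.sum_const, Finset.card_univ, smul_eq_mul, ← Nat.card_eq_fintype_card]
  -- arithmetic
  obtain ⟨m, hm⟩ := hpN
  set t := Nat.card {c : ConjClasses G // ∃ g : G, ConjClasses.mk g = c ∧ orderOf g = p} with ht
  set s := Nat.card (Sylow p G) with hs
  have hmod : s % p = 1 := by
    have h1 : s % p = 1 % p := card_sylow_modEq_one p G
    rwa [Nat.mod_eq_of_lt hp.one_lt] at h1
  have hspos : 0 < s := Nat.card_pos
  refine ⟨s / p, t, rfl, ?_, ?_, ?_⟩
  · -- t ∣ p - 1
    refine ⟨m, ?_⟩
    have h1 : s * (p - 1) * p = t * (p * m * s) := by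
      rw [← hX, hfib, ← hN, hm]
    have h2 : s * ((p - 1) * p) = s * (t * m * p) := by
      calc s * ((p - 1) * p) = s * (p - 1) * p := by ring
        _ = t * (p * m * s) := h1
        _ = s * (t * m * p) := by ring
    have h3 := Nat.eq_of_mul_eq_mul_left hspos h2
    exact Nat.eq_of_mul_eq_mul_right hp.pos h3
  · have := Nat.div_add_mod s p
    rw [hmod] at this
    linarith
  · have h4 : 1 + s / p * p = s := by
      have := Nat.div_add_mod s p
      rw [hmod] at this
      linarith
    rw [h4]
    calc Nat.card G * t = t * Nat.card G := by ring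
      _ = s * (p - 1) * p := by rw [← hfib, hX]
      _ = (p - 1) * p * s := by ring

end Cfsg.Agent.S0995
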