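import Cfsg.Statements.S1001
import Cfsg.Agent.S0904
import Cfsg.Agent.S0144

set_option autoImplicit false
open Cfsg

namespace Cfsg.Agent.S1001

theorem centralizer_singleton_eq {G : Type*} [Group G] (x : G) :
    Subgroup.centralizer ({x} : Set G) = Subgroup.centralizer (Subgroup.zpowers x : Set G) := by
  apply le_antisymm
  · intro y hy
    rw [Subgroup.mem_centralizer_iff] at hy ⊢
    intro z hz
    have hxy : Commute x y := hy x rfl
    obtain ⟨k, rfl⟩ := Subgroup.mem_zpowers_iff.mp hz
    exact (hxy.zpow_left k).eq
  · apply Subgroup.centralizer_le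
    intro z hz
    rw [Set.mem_singleton_iff] at hz
    rw [hz]
    exact Subgroup.mem_zpowers x

theorem factorization_p (p a b : ℕ) (hp : p.Prime) (h2 : p ≠ 2) (h3 : p ≠ 3) :
    (3 ^ a * 2 ^ b * p).factorization p = 1 := by
  have h1 : (3 : ℕ) ^ a ≠ 0 := pow_ne_zero _ (by norm_num)
  have h2' : (2 : ℕ) ^ b ≠ 0 := pow_ne_zero _ (by norm_num)
  rw [Nat.factorization_mul (mul_ne_zero h1 h2') hp.ne_zero, Nat.factorization_mul h1 h2']
  simp only [Finsupp.add_apply, Nat.factorization_pow, Finsupp.smul_apply, smul_eq_mul]
  rw [Nat.prime_three.factorization, Nat.prime_two.factorization, hp.factorization]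
  simp [Ne.symm h2, Ne.symm h3]

/-- In a finite simple group whose order has the form p * 3^a * 2^b with p prime, the centralizer of any element of order p is the cyclic group it generates. -/
theorem result {G : Type*} [Group G] [Finite G] [IsSimpleGroup G] (p a b : ℕ) (hp : p.Prime) (hG : Nat.card G = p * 3 ^ a * 2 ^ b) (x : G) (hx : orderOf x = p) : Subgroup.centralizer ({x} : Set G) = Subgroup.zpowers x := by
  by_cases h23 : p = 2 ∨ p = 3
  · have hsolv : Group.IsSolvable G := by
      rcases h23 with h | h
      · exact Cfsg.Agent.S0144.result 3 2 a (b + 1) Nat.prime_three Nat.prime_two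
          (by rw [hG, h]; ring)
      · exact Cfsg.Agent.S0144.result 3 2 (a + 1) b Nat.prime_three Nat.prime_two
          (by rw [hG, h]; ring)
    have hcomm : ∀ a b : G, a * b = b * a := IsSimpleGroup.comm_iff_isSolvable.mpr hsolv
    have hnorm : (Subgroup.zpowers x).Normal := ⟨fun n hn g => by
      have : g * n * g⁻¹ = n := by rw [hcomm g n, mul_inv_cancel_right]
      rw [this]; exact hn⟩
    have htop : Subgroup.zpowers x = ⊤ := by
      rcases hnorm.eq_bot_or_eq_top with h | h
      · exfalso
        rw [Subgroup.zpowers_eq_bot] at h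
        rw [h, orderOf_one] at hx
        exact hp.one_lt.ne hx
      · exact h
    rw [htop]
    apply le_antisymm le_top
    intro y _
    rw [Subgroup.mem_centralizer_iff]
    intro z _
    exact hcomm z y
  · push Not at h23
    obtain ⟨h2, h3⟩ := h23
    haveI : Fact p.Prime := ⟨hp⟩
    have hpg : IsPGroup p (Subgroup.zpowers x) := by
      rw [IsPGroup.iff_card, Nat.card_zpowers, hx]
      exact ⟨1, (pow_one p).symm⟩
    obtain ⟨S, hS⟩ := hpg.exists_le_sylow
    have hcard : Nat.card G = 3 ^ a * 2 ^ b * p := by rw [hG]; ring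
    have hScard : Nat.card (S : Subgroup G) = p := by
      rw [Sylow.card_eq_multiplicity, hcard, factorization_p p a b hp h2 h3, pow_one]
    have hSx : Subgroup.zpowers x = (S : Subgroup G) := by
      apply Subgroup.eq_of_le_of_card_ge hS
      rw [hScard, Nat.card_zpowers, hx]
    have key := Cfsg.Agent.S0904.result 3 2 p a b Nat.prime_three Nat.prime_two (by norm_num)
      (Ne.symm h3) (Ne.symm h2) hcard S
    rw [centralizer_singleton_eq, hSx]
    exact key

end Cfsg.Agent.S1001
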