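import Cfsg.Statements.S1002
import Cfsg.Agent.Lib.Helper23.SylowPrime
import Cfsg.Agent.Lib.Helper23.Burnside

set_option autoImplicit false
open Cfsg

namespace Cfsg.Agent.S1002

open Cfsg.Agent.Lib.Helper23 MulAction

theorem dvd_cases (n q : ℕ) (hq : q.Prime) (h : n ∣ 27 * q * 409) :
    ∃ a b c : ℕ, (a = 1 ∨ a = 3 ∨ a = 9 ∨ a = 27) ∧ (b = 1 ∨ b = q) ∧ (c = 1 ∨ c = 409) ∧
      n = a * b * c := by
  obtain ⟨ab, c, hab, hc, rfl⟩ := (Nat.dvd_mul).mp h
  obtain ⟨a, b, ha, hb, rfl⟩ := (Nat.dvd_mul).mp hab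
  refine ⟨a, b, c, ?_, (Nat.dvd_prime hq).mp hb, (Nat.dvd_prime (by norm_num)).mp hc, rfl⟩
  have : a ≤ 27 := Nat.le_of_dvd (by norm_num) ha
  interval_cases a <;> simp_all

/-- No finite simple group has order 1004913 = 3^3 * 7 * 13 * 409. -/
theorem result {G : Type*} [Group G] [Finite G] [IsSimpleGroup G] : Nat.card G ≠ 1004913 := by
  intro h
  classical
  have : Fact (Nat.Prime 409) := ⟨by norm_num⟩
  have : Fact (Nat.Prime 13) := ⟨by norm_num⟩
  have : Fact (Nat.Prime 7) := ⟨by norm_num⟩
  have hnc : ¬ IsMulCommutative G := not_isMulCommutative_of_simple (by rw [h]; norm_num)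
  have hidx : ∀ H : Subgroup G, H ≠ ⊤ → 409 ≤ H.index := fun H hH =>
    prime_le_index hnc 409 (by norm_num) (by rw [h]; norm_num) H hH
  have hnge : ∀ (p : ℕ) [Fact p.Prime] (P : Sylow p G), Nat.card ↥(P : Subgroup G) ≠ 1 →
      Nat.card ↥(P : Subgroup G) ≠ Nat.card G → 409 ≤ Nat.card (Sylow p G) := by
    intro p _ P h1 h2
    rw [card_sylow_eq_index_normalizer' p P]
    apply hidx
    intro htop
    have hn : (P : Subgroup G).Normal := Subgroup.normalizer_eq_top_iff.mp htop
    rcases hn.eq_bot_or_eq_top with hb | ht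
    · apply h1; rw [hb]; simp
    · apply h2; rw [ht]; simp
  -- the prime 409
  have h409 : Nat.card G = 409 ^ 1 * 2457 := by rw [h]; norm_num
  have hm409 : ¬ 409 ∣ 2457 := by norm_num
  have hc409 : ∀ P : Sylow 409 G, Nat.card ↥(P : Subgroup G) = 409 := fun P => by
    simpa using sylow_card_of_card_eq 409 1 2457 h409 hm409 P
  obtain ⟨P⟩ : Nonempty (Sylow 409 G) := inferInstance
  have hn409 : Nat.card (Sylow 409 G) = 819 := by
    have hd := card_sylow_dvd_of_card_eq 409 1 2457 h409 hm409
    have hmod : Nat.card (Sylow 409 G) % 409 = 1 := card_sylow_modEq_one 409 G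
    have hge := hnge 409 P (by rw [hc409]; norm_num) (by rw [hc409, h]; norm_num)
    have hle := Nat.le_of_dvd (by norm_num) hd
    generalize Nat.card (Sylow 409 G) = n at *
    have : n = 410 ∨ n = 819 ∨ n = 1228 ∨ n = 1637 ∨ n = 2046 ∨ n = 2455 := by omega
    rcases this with rfl | rfl | rfl | rfl | rfl | rfl <;>
      first | rfl | (exfalso; revert hd; norm_num)
  -- the prime 13
  have h13 : Nat.card G = 13 ^ 1 * 77301 := by rw [h]; norm_num
  have hm13 : ¬ 13 ∣ 77301 := by norm_num
  have hc13 : ∀ P : Sylow 13 G, Nat.card ↥(P : Subgroup G) = 13 := fun P => by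
    simpa using sylow_card_of_card_eq 13 1 77301 h13 hm13 P
  have hn13 : Nat.card (Sylow 13 G) = 25767 := by
    have hd := card_sylow_dvd_of_card_eq 13 1 77301 h13 hm13
    have hmod : Nat.card (Sylow 13 G) % 13 = 1 := card_sylow_modEq_one 13 G
    obtain ⟨P13⟩ : Nonempty (Sylow 13 G) := inferInstance
    have hge := hnge 13 P13 (by rw [hc13]; norm_num) (by rw [hc13, h]; norm_num)
    generalize Nat.card (Sylow 13 G) = n at *
    have hd' : n ∣ 27 * 7 * 409 := by norm_num; exact hd
    obtain ⟨a, b, c, ha, hb, hc, rfl⟩ := dvd_cases n 7 (by norm_num) hd'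
    rcases ha with rfl | rfl | rfl | rfl <;> rcases hb with rfl | rfl <;>
      rcases hc with rfl | rfl <;> omega
  -- the prime 7
  have h7 : Nat.card G = 7 ^ 1 * 143559 := by rw [h]; norm_num
  have hm7 : ¬ 7 ∣ 143559 := by norm_num
  have hc7 : ∀ P : Sylow 7 G, Nat.card ↥(P : Subgroup G) = 7 := fun P => by
    simpa using sylow_card_of_card_eq 7 1 143559 h7 hm7 P
  have hn7 : Nat.card (Sylow 7 G) = 47853 := by
    have hd := card_sylow_dvd_of_card_eq 7 1 143559 h7 hm7
    have hmod : Nat.card (Sylow 7 G) % 7 = 1 := card_sylow_modEq_one 7 G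
    obtain ⟨P7⟩ : Nonempty (Sylow 7 G) := inferInstance
    have hge := hnge 7 P7 (by rw [hc7]; norm_num) (by rw [hc7, h]; norm_num)
    generalize Nat.card (Sylow 7 G) = n at *
    have hd' : n ∣ 27 * 13 * 409 := by norm_num; exact hd
    obtain ⟨a, b, c, ha, hb, hc, rfl⟩ := dvd_cases n 13 (by norm_num) hd'
    rcases ha with rfl | rfl | rfl | rfl <;> rcases hb with rfl | rfl <;>
      rcases hc with rfl | rfl <;> omega
  -- normalizers of the Sylow 409-subgroups
  have hN : ∀ P' : Sylow 409 G,
      Nat.card ↥(Subgroup.normalizer ((P' : Subgroup G) : Set G)) = 409 * 3 := by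
    intro P'
    have := card_normalizer_mul_card_sylow 409 P'
    rw [hn409, h] at this
    omega
  have hNC : ∀ P' : Sylow 409 G, ¬ Subgroup.normalizer ((P' : Subgroup G) : Set G) ≤
      Subgroup.centralizer ((P' : Subgroup G) : Set G) := fun P' hle =>
    false_of_normalizer_le_centralizer hnc 409 (by rw [h]; norm_num) P' hle
  have hkey : ∀ (P' : Sylow 409 G) (g : G),
      g ∈ Subgroup.normalizer ((P' : Subgroup G) : Set G) → g ∉ (P' : Subgroup G) →
      orderOf g = 3 ∧ g ∉ Subgroup.centralizer ((P' : Subgroup G) : Set G) := fun P' g h1 h2 =>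
    orderOf_eq_of_mem_normalizer_notMem 409 3 (by norm_num) P' (hc409 P') (hN P') (hNC P') g h1 h2
  -- double counting
  have : Fintype G := Fintype.ofFinite G
  have : Fintype (Sylow 409 G) := Fintype.ofFinite _
  let r : Sylow 409 G → G → Prop := fun P' g =>
    g ∈ Subgroup.normalizer ((P' : Subgroup G) : Set G) ∧ g ∉ (P' : Subgroup G)
  have hdc := Finset.card_mul_le_card_mul (s := (Finset.univ : Finset (Sylow 409 G)))
    (t := Finset.univ.filter (fun g : G => orderOf g = 3)) r (m := 818) (n := 3) ?_ ?_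
  · rw [Finset.card_univ, ← Nat.card_eq_fintype_card, hn409] at hdc
    have hcount := sum_card_orderOf_le (G := G) ({3, 7, 13, 409} : Finset ℕ)
    rw [Finset.sum_insert (by decide), Finset.sum_insert (by decide),
      Finset.sum_insert (by decide), Finset.sum_singleton,
      card_orderOf_eq_prime 7 hc7, card_orderOf_eq_prime 13 hc13,
      card_orderOf_eq_prime 409 hc409, hn7, hn13, hn409, h,
      Nat.card_eq_fintype_card, Fintype.card_subtype] at hcount
    omega
  · -- each Sylow subgroup gives 818 elements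
    intro P' _
    have hsub : (Finset.univ.filter (fun g : G =>
          g ∈ Subgroup.normalizer ((P' : Subgroup G) : Set G))) \
        (Finset.univ.filter (fun g : G => g ∈ (P' : Subgroup G))) ⊆
        Finset.bipartiteAbove r (Finset.univ.filter (fun g : G => orderOf g = 3)) P' := by
      intro g hg
      simp only [Finset.mem_sdiff, Finset.mem_filter, Finset.mem_univ, true_and] at hg
      simp only [Finset.bipartiteAbove, Finset.mem_filter, Finset.mem_univ, true_and]
      exact ⟨(hkey P' g hg.1 hg.2).1, hg.1, hg.2⟩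
    refine le_trans ?_ (Finset.card_le_card hsub)
    rw [Finset.card_sdiff_of_subset]
    · have h1 : (Finset.univ.filter (fun g : G =>
          g ∈ Subgroup.normalizer ((P' : Subgroup G) : Set G))).card = 409 * 3 := by
        rw [← hN P', Nat.card_eq_fintype_card, Fintype.card_subtype]
      have h2 : (Finset.univ.filter (fun g : G => g ∈ (P' : Subgroup G))).card = 409 := by
        have h3 := hc409 P'
        rw [Nat.card_eq_fintype_card, Fintype.card_subtype] at h3
        exact h3
      rw [h1, h2]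
    · intro g hg
      simp only [Finset.mem_filter, Finset.mem_univ, true_and] at hg ⊢
      exact Subgroup.le_normalizer hg
  · -- each element of order 3 normalizes at most 3 Sylow subgroups
    intro g _
    by_cases hemp : Finset.bipartiteBelow r Finset.univ g = ∅
    · rw [hemp]; simp
    obtain ⟨P₀, hP₀⟩ := Finset.nonempty_iff_ne_empty.mpr hemp
    simp only [Finset.bipartiteBelow, Finset.mem_filter, Finset.mem_univ, true_and] at hP₀
    have hnC := (hkey P₀ g hP₀.1 hP₀.2).2
    have h1 := (Cfsg.Agent.S1018.result 409 P₀ (hc409 P₀)).2 g hP₀.1 hnC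
    have h2 := one_add_mul_card_orbits_le 409 P₀ (hc409 P₀)
    rw [hn409] at h2
    have h3 : Nat.card (orbitRel.Quotient ↥(P₀ : Subgroup G)
        (G ⧸ Subgroup.normalizer ((P₀ : Subgroup G) : Set G))) ≤ 3 := by omega
    rw [card_fixedBy_coset_eq P₀ g] at h1
    have h4 : (Finset.bipartiteBelow r Finset.univ g).card ≤
        Nat.card ↥(fixedBy (Sylow 409 G) g) := by
      rw [Nat.card_eq_fintype_card, Fintype.card_subtype]
      apply Finset.card_le_card
      intro P' hP'
      simp only [Finset.bipartiteBelow, Finset.mem_filter, Finset.mem_univ, true_and] at hP' ⊢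
      exact Sylow.smul_eq_iff_mem_normalizer.mpr hP'.1
    omega

end Cfsg.Agent.S1002
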