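import Cfsg.Statements.S4303
import Cfsg.Agent.Lib.Helper77.HallSylow
import Cfsg.Agent.Lib.Helper77.SylowFiber

set_option autoImplicit false
open Cfsg

universe u

namespace Cfsg.Agent.S4303

open Cfsg.Agent.Lib.Helper77

/-- an admissible factor. -/
def Good (p m : ℕ) : Prop :=
  (IsPrimePow m ∧ m % p = 1) ∨
    ∃ (S : Type u) (_ : Group S) (_ : Finite S), IsSimpleGroup S ∧ m = Nat.card (Sylow p S)

/-- a product of admissible factors. -/
def GoodProd (p n : ℕ) : Prop := ∃ l : List ℕ, l.prod = n ∧ ∀ m ∈ l, Good.{u} p m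

theorem goodProd_one (p : ℕ) : GoodProd.{u} p 1 := ⟨[], rfl, by simp⟩

theorem goodProd_mul {p a b : ℕ} (ha : GoodProd.{u} p a) (hb : GoodProd.{u} p b) :
    GoodProd.{u} p (a * b) := by
  obtain ⟨l₁, h₁, g₁⟩ := ha
  obtain ⟨l₂, h₂, g₂⟩ := hb
  refine ⟨l₁ ++ l₂, by rw [List.prod_append, h₁, h₂], ?_⟩
  intro m hm
  rcases List.mem_append.mp hm with h | h
  · exact g₁ m h
  · exact g₂ m h

theorem goodProd_of_good {p m : ℕ} (h : Good.{u} p m) : GoodProd.{u} p m :=
  ⟨[m], by simp, by simpa using h⟩

theorem goodProd_of_qparts {p n : ℕ} (hn : 0 < n)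
    (h : ∀ q : ℕ, q.Prime → q ^ (n.factorization q) % p = 1) : GoodProd.{u} p n := by
  refine ⟨n.primeFactors.toList.map (fun q => q ^ n.factorization q), ?_, ?_⟩
  · rw [Finset.prod_map_toList]
    have := Nat.prod_factorization_pow_eq_self hn.ne'
    rw [Finsupp.prod, Nat.support_factorization] at this
    exact this
  · intro m hm
    obtain ⟨q, hq, rfl⟩ := List.mem_map.mp hm
    rw [Finset.mem_toList] at hq
    have hqp : q.Prime := Nat.prime_of_mem_primeFactors hq
    left
    refine ⟨?_, h q hqp⟩
    have hpos : n.factorization q ≠ 0 := by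
      have := (Nat.Prime.factorization_pos_of_dvd hqp hn.ne' (Nat.dvd_of_mem_primeFactors hq))
      omega
    exact hqp.isPrimePow.pow hpos

theorem main (p : ℕ) [Fact p.Prime] : ∀ (n : ℕ) (G : Type u) [Group G] [Finite G],
    Nat.card G = n → GoodProd.{u} p (Nat.card (Sylow p G)) := by
  intro n
  induction n using Nat.strong_induction_on with
  | _ n ih =>
    intro G _ _ hcard
    let P : Sylow p G := default
    by_cases hsub : Subsingleton G
    · have h1 : Nat.card G = 1 := Nat.card_eq_one_iff_unique.mpr ⟨hsub, ⟨1⟩⟩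
      have h2 : Nat.card (Sylow p G) ∣ 1 := by
        rw [← h1]
        exact (Sylow.card_dvd_index P).trans (Subgroup.index_dvd_card _)
      rw [Nat.dvd_one.mp h2]
      exact goodProd_one p
    haveI : Nontrivial G := not_subsingleton_iff_nontrivial.mp hsub
    by_cases hsimple : IsSimpleGroup G
    · exact goodProd_of_good (Or.inr ⟨G, inferInstance, inferInstance, hsimple, rfl⟩)
    obtain ⟨K, hKn, hKbot, hKtop⟩ : ∃ K : Subgroup G, K.Normal ∧ K ≠ ⊥ ∧ K ≠ ⊤ := by
      by_contra hcon
      push Not at hcon
      apply hsimple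
      refine ⟨fun H hH => ?_⟩
      by_cases hb : H = ⊥
      · exact Or.inl hb
      · exact Or.inr (hcon H hH hb)
    haveI := hKn
    have hlt_sub : ∀ L : Subgroup G, L ≠ ⊤ → Nat.card L < n := by
      intro L hL
      rw [← hcard]
      exact lt_of_le_of_ne (Subgroup.card_le_card_group L) (fun h => hL (L.eq_top_of_card_eq h))
    have hlt_quot : ∀ (R : Subgroup G) [R.Normal], R ≠ ⊥ → Nat.card (G ⧸ R) < n := by
      intro R _ hR
      rw [← hcard, Subgroup.card_eq_card_quotient_mul_card_subgroup R]
      have h1 : 1 < Nat.card R := (Subgroup.one_lt_card_iff_ne_bot R).mpr hR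
      have h2 : 0 < Nat.card (G ⧸ R) := Nat.card_pos
      nlinarith
    have h1 := card_sylow_eq_quotient_mul K P
    have ihQ : GoodProd.{u} p (Nat.card (Sylow p (G ⧸ K))) := ih _ (hlt_quot K hKbot) (G ⧸ K) rfl
    by_cases hPK : (P : Subgroup G) ⊔ K = ⊤
    · have h2 := card_sylow_eq_normal_mul K P
      have ihK : GoodProd.{u} p (Nat.card (Sylow p K)) := ih _ (hlt_sub K hKtop) K rfl
      by_cases hN : Subgroup.normalizer (((P : Subgroup G) ⊓ K : Subgroup G) : Set G) = ⊤
      · by_cases hR : (P : Subgroup G) ⊓ K = ⊥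
        · have hpK : ¬ p ∣ Nat.card K := by
            obtain ⟨S, hS⟩ := exists_sylow_map_eq_inf K P
            rw [hR] at hS
            have hSbot : (S : Subgroup K) = ⊥ := by
              rw [eq_bot_iff]
              intro x hx
              have : K.subtype x ∈ (S : Subgroup K).map K.subtype := Subgroup.mem_map_of_mem _ hx
              rw [hS, Subgroup.mem_bot] at this
              rw [Subgroup.mem_bot]
              exact Subtype.ext this
            have hcS := S.card_eq_multiplicity
            rw [hSbot, Subgroup.card_bot] at hcS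
            intro hdvd
            have hpos : 0 < (Nat.card K).factorization p :=
              Nat.Prime.factorization_pos_of_dvd (Fact.out) Nat.card_pos.ne' hdvd
            have h3 : 1 < p ^ (Nat.card K).factorization p :=
              Nat.one_lt_pow hpos.ne' (Fact.out : p.Prime).one_lt
            omega
          exact goodProd_of_qparts Nat.card_pos
            (fun q hq => qpart_card_sylow_mod K P hPK hpK q hq)
        · haveI hRn : ((P : Subgroup G) ⊓ K).Normal := Subgroup.normalizer_eq_top_iff.mp hN
          rw [← card_sylow_quotient_pgroup ((P : Subgroup G) ⊓ K) (P.isPGroup'.to_le inf_le_left)]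
          exact ih _ (hlt_quot _ hR) (G ⧸ ((P : Subgroup G) ⊓ K)) rfl
      · rw [h2]
        exact goodProd_mul ihK (ih _ (hlt_sub _ hN) _ rfl)
    · rw [h1]
      exact goodProd_mul ihQ (ih _ (hlt_sub _ hPK) _ rfl)

/-- For a finite group `G` and a prime `p`, the number of Sylow `p`-subgroups of `G` is a product of natural numbers each of which is either a prime power congruent to 1 modulo `p` or the number of Sylow `p`-subgroups of some finite simple group. -/
theorem result {G : Type u} [Group G] [Finite G]
    (p : ℕ) [Fact p.Prime] :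
    ∃ l : List ℕ, l.prod = Nat.card (Sylow p G) ∧
      ∀ m ∈ l, (IsPrimePow m ∧ m % p = 1) ∨
        ∃ (S : Type u) (_ : Group S) (_ : Finite S), IsSimpleGroup S ∧ m = Nat.card (Sylow p S) := by
  exact main p (Nat.card G) G rfl

end Cfsg.Agent.S4303
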