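import Cfsg.Statements.S1010
import Cfsg.Agent.S4303
import Cfsg.Agent.Lib.Helper23.N21.Main

set_option autoImplicit false
open Cfsg

namespace Cfsg.Agent.S1010

/-- No finite group has exactly twenty-one Sylow 5-subgroups. -/
theorem result {G : Type*} [Group G] [Finite G] : Nat.card (Sylow 5 G) ≠ 21 := by
  intro h21
  have hf5 : Fact (Nat.Prime 5) := ⟨by norm_num⟩
  obtain ⟨l, hl, hm⟩ := Cfsg.Agent.S4303.result (G := G) 5
  rw [h21] at hl
  -- every member of the list is `1` or `21`
  have hmem : ∀ m ∈ l, m = 1 ∨ m = 21 := by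
    intro m hml
    have hdvd : m ∣ 21 := hl ▸ List.dvd_prod hml
    have hle : m ≤ 21 := Nat.le_of_dvd (by norm_num) hdvd
    have hmod : m % 5 = 1 := by
      rcases hm m hml with ⟨_, h⟩ | ⟨S, _, _, _, rfl⟩
      · exact h
      · exact card_sylow_modEq_one 5 S
    interval_cases m <;> simp_all
  have hex : ∃ m ∈ l, m = 21 := by
    by_contra hno
    push Not at hno
    have hall : ∀ m ∈ l, m = 1 := by
      intro m hml
      rcases hmem m hml with h | h
      · exact h
      · exact absurd h (hno m hml)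
    have : l.prod = 1 := List.prod_eq_one hall
    omega
  obtain ⟨m, hml, rfl⟩ := hex
  rcases hm 21 hml with ⟨hpp, _⟩ | ⟨S, iG, iF, hS, hc⟩
  · have h21pp : ¬ IsPrimePow 21 := by
      rw [isPrimePow_nat_iff_bounded]
      decide
    exact h21pp hpp
  · exact Cfsg.Agent.Lib.Helper23.N21.false_of_card_sylow hc.symm

end Cfsg.Agent.S1010
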