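import Cfsg.Statements.S1011
import Cfsg.Agent.S1230
import Cfsg.Agent.Lib.Helper07.PSL27
import Cfsg.Agent.Lib.Helper23.G504.Count

set_option autoImplicit false
open Cfsg

namespace Cfsg.Agent.S1011

/-- A simple group of order 504 is isomorphic to the projective special linear group of dimension 2 over the field with 8 elements. -/
theorem result {G : Type*} [Group G] [Finite G] [IsSimpleGroup G] (h : Nat.card G = 504) {F : Type*} [Field F] [Fintype F] (hF : Fintype.card F = 8) : Nonempty (G ≃* Matrix.ProjectiveSpecialLinearGroup (Fin 2) F) := by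
  have hfact : Fact (Nat.Prime 2) := ⟨Nat.prime_two⟩
  obtain ⟨T⟩ : Nonempty (Sylow 2 G) := inferInstance
  obtain ⟨F', instField, instFin, hcard, ⟨e⟩⟩ := Cfsg.Agent.S1230.result T
    (Cfsg.Agent.Lib.Helper23.G504.sylow2_not_cyclic h T)
    (Cfsg.Agent.Lib.Helper23.G504.sylow2_not_normal h T)
    (fun t ht => Cfsg.Agent.Lib.Helper23.G504.centralizer_involution h t ht)
  have hc8 : Fintype.card F' = Fintype.card F := by
    rw [hcard, hF]
    exact Cfsg.Agent.Lib.Helper23.G504.card_sylow2 h T
  let σ : F' ≃+* F := FiniteField.ringEquivOfCardEq hc8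
  exact ⟨e.trans (Cfsg.Agent.Lib.Helper07.pslCongr σ)⟩

end Cfsg.Agent.S1011
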