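import Cfsg.Statements.S1014
import Cfsg.Agent.Lib.Helper23.SylowEmbed

set_option autoImplicit false
open Cfsg

namespace Cfsg.Agent.S1014

open Cfsg.Agent.Lib.Helper23

/-- No finite simple group has order 1104 = 2^4 * 3 * 23. -/
theorem result {G : Type*} [Group G] [Finite G] [IsSimpleGroup G] : Nat.card G ≠ 1104 := by
  intro h
  have : Fact (Nat.Prime 23) := ⟨by norm_num⟩
  have hnc : ¬ IsMulCommutative G := not_isMulCommutative_of_simple (by rw [h]; norm_num)
  have h' : Nat.card G = 23 ^ 1 * 48 := by rw [h]; norm_num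
  have hm : ¬ 23 ∣ 48 := by norm_num
  obtain ⟨P⟩ : Nonempty (Sylow 23 G) := inferInstance
  have hP : Nat.card ↥(P : Subgroup G) = 23 := by
    have := sylow_card_of_card_eq 23 1 48 h' hm P
    simpa using this
  have hdvd := card_sylow_dvd_of_card_eq 23 1 48 h' hm
  have hmod := card_sylow_modEq_one 23 G
  have hne1 := card_sylow_ne_one_of_simple 23 P (by rw [hP]; norm_num) (by rw [hP, h]; norm_num)
  have hn : Nat.card (Sylow 23 G) = 24 := by
    have key : ∀ n ∈ Finset.range 49, n ∣ 48 → n % 23 = 1 → n = 1 ∨ n = 24 := by decide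
    have hle := Nat.le_of_dvd (by norm_num) hdvd
    rcases key _ (Finset.mem_range.mpr (by omega)) hdvd hmod with h1 | h1
    · exact absurd h1 hne1
    · exact h1
  have hN := card_normalizer_mul_card_sylow 23 P
  rw [hn, h] at hN
  have hN' : Nat.card ↥(Subgroup.normalizer ((P : Subgroup G) : Set G)) = 46 := by omega
  set H := Subgroup.normalizer ((P : Subgroup G) : Set G) with hH
  have hidx : H.index = 24 := by rw [← hn, Sylow.card_eq_index_normalizer P]; rfl
  have hHtop : H ≠ ⊤ := by
    intro htop
    rw [htop, Subgroup.index_top] at hidx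
    omega
  obtain ⟨f, hf⟩ := Cfsg.Agent.S0991.result hnc H hHtop
  have hα : Fintype.card (Fin H.index) = 23 ∨ Fintype.card (Fin H.index) = 23 + 1 := by
    right; rw [Fintype.card_fin, hidx]
  have := two_mul_card_normalizer_dvd 23 (by norm_num) P hP hα f hf
  rw [hN'] at this
  norm_num at this

end Cfsg.Agent.S1014
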