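import Cfsg.Statements.S1015
import Cfsg.Agent.Lib.Helper23.SylowInter
import Cfsg.Agent.S0985

set_option autoImplicit false
open Cfsg

namespace Cfsg.Agent.S1015

open Cfsg.Agent.Lib.Helper23

/-- No finite simple group has order 1200 = 2^4 * 3 * 5^2. -/
theorem result {G : Type*} [Group G] [Finite G] [IsSimpleGroup G] : Nat.card G ≠ 1200 := by
  intro h
  have : Fact (Nat.Prime 5) := ⟨by norm_num⟩
  have hnc : ¬ IsMulCommutative G := not_isMulCommutative_of_simple (by rw [h]; norm_num)
  have h' : Nat.card G = 5 ^ 2 * 48 := by rw [h]; norm_num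
  have hm : ¬ 5 ∣ 48 := by norm_num
  have hcP : ∀ P : Sylow 5 G, Nat.card ↥(P : Subgroup G) = 5 ^ 2 := fun P =>
    sylow_card_of_card_eq 5 2 48 h' hm P
  have hdvd := card_sylow_dvd_of_card_eq 5 2 48 h' hm
  have hmod := card_sylow_modEq_one 5 G
  -- every proper subgroup has index at least 10
  have hidx : ∀ H : Subgroup G, H ≠ ⊤ → 10 ≤ H.index := by
    intro H hH
    by_contra hlt
    push Not at hlt
    have h1 := card_dvd_factorial_index hnc H hH
    have h2 : (H.index).factorial ∣ (9).factorial := Nat.factorial_dvd_factorial (by omega)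
    have := h1.trans h2
    rw [h] at this
    norm_num [Nat.factorial] at this
  obtain ⟨P0⟩ : Nonempty (Sylow 5 G) := inferInstance
  have hne1 := card_sylow_ne_one_of_simple 5 P0 (by rw [hcP]; norm_num) (by rw [hcP, h]; norm_num)
  have hn : Nat.card (Sylow 5 G) = 16 := by
    have key : ∀ n ∈ Finset.range 49, n ∣ 48 → n % 5 = 1 → n = 1 ∨ n = 6 ∨ n = 16 := by decide
    have hle := Nat.le_of_dvd (by norm_num) hdvd
    rcases key _ (Finset.mem_range.mpr (by omega)) hdvd hmod with h1 | h1 | h1
    · exact absurd h1 hne1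
    · exfalso
      rw [card_sylow_eq_index_normalizer' 5 P0] at h1
      have htop : Subgroup.normalizer ((P0 : Subgroup G) : Set G) ≠ ⊤ := by
        intro htop
        rw [htop, Subgroup.index_top] at h1
        omega
      have := hidx _ htop
      omega
    · exact h1
  have hnot : ¬ Nat.card (Sylow 5 G) ≡ 1 [MOD 5 ^ 2] := by rw [hn]; decide
  obtain ⟨P, R, hPR, hidx'⟩ := Cfsg.Agent.S0985.result 5 2 hnot
  have hD := card_inf_mul_index_subgroupOf (P : Subgroup G) (R : Subgroup G)
  rw [hcP P] at hD
  set D : Subgroup G := (P : Subgroup G) ⊓ (R : Subgroup G) with hDdef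
  have hDcard : 5 ≤ Nat.card ↥D := by
    by_contra hlt
    push Not at hlt
    have : Nat.card ↥D * ((R : Subgroup G).subgroupOf (P : Subgroup G)).index ≤ 4 * 5 :=
      Nat.mul_le_mul (by omega) hidx'
    omega
  have hDle : Nat.card ↥D ≤ 25 := by
    have := Subgroup.card_dvd_of_le (inf_le_left : D ≤ (P : Subgroup G))
    rw [hcP P] at this
    exact Nat.le_of_dvd (by norm_num) this
  have hPN : (P : Subgroup G) ≤ Subgroup.normalizer (D : Set G) :=
    le_normalizer_of_comm _ _ inf_le_left (fun a ha b hb => by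
      have := (IsPGroup.isMulCommutative_of_card_eq_prime_sq (hcP P)).is_comm.comm ⟨a, ha⟩ ⟨b, hb⟩
      exact congrArg Subtype.val this)
  have hRN : (R : Subgroup G) ≤ Subgroup.normalizer (D : Set G) :=
    le_normalizer_of_comm _ _ inf_le_right (fun a ha b hb => by
      have := (IsPGroup.isMulCommutative_of_card_eq_prime_sq (hcP R)).is_comm.comm ⟨a, ha⟩ ⟨b, hb⟩
      exact congrArg Subtype.val this)
  obtain ⟨d, hd1, hd2, hd3⟩ := exists_card_sylow_of_two_le 5 P R hPR _ hPN hRN
  rw [hcP P] at hd3
  have hd6 : 6 ≤ d := by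
    have : d % 5 = 1 := hd1
    omega
  have hNtop : Subgroup.normalizer (D : Set G) ≠ ⊤ := by
    intro htop
    have hnorm : D.Normal := Subgroup.normalizer_eq_top_iff.mp htop
    rcases hnorm.eq_bot_or_eq_top with hb | ht
    · rw [hb] at hDcard
      simp at hDcard
    · rw [ht] at hDle
      simp [h] at hDle
  have h10 := hidx _ hNtop
  have hmul := index_mul_card' (Subgroup.normalizer (D : Set G))
  rw [h] at hmul
  have h150 : 150 ≤ Nat.card ↥(Subgroup.normalizer (D : Set G)) := by
    have hpos : 0 < Nat.card ↥(Subgroup.normalizer (D : Set G)) := Nat.card_pos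
    have := Nat.le_of_dvd hpos hd3
    nlinarith
  nlinarith

end Cfsg.Agent.S1015
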