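import Cfsg.Statements.S1016
import Cfsg.Agent.Lib.Helper23.SylowPerm
import Cfsg.Agent.Lib.Helper23.SylowInter
import Cfsg.Agent.Lib.Helper23.SylowEmbed
import Cfsg.Agent.Lib.Helper23.SylowCount
import Cfsg.Agent.Lib.Helper23.Burnside

set_option autoImplicit false
open Cfsg

namespace Cfsg.Agent.S1016

open Cfsg.Agent.Lib.Helper23 Cfsg.Agent.Lib.Helper23.SylowPerm

/-- No finite simple group has order 1440 = 2^5 * 3^2 * 5. -/
theorem result {G : Type*} [Group G] [Finite G] [IsSimpleGroup G] : Nat.card G ≠ 1440 := by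
  intro h
  have : Fact (Nat.Prime 5) := ⟨by norm_num⟩
  have : Fact (Nat.Prime 3) := ⟨by norm_num⟩
  have hnc : ¬ IsMulCommutative G := not_isMulCommutative_of_simple (by rw [h]; norm_num)
  have h' : Nat.card G = 5 ^ 1 * 288 := by rw [h]; norm_num
  have hm : ¬ 5 ∣ 288 := by norm_num
  have hcP : ∀ P : Sylow 5 G, Nat.card ↥(P : Subgroup G) = 5 := fun P => by
    have := sylow_card_of_card_eq 5 1 288 h' hm P
    simpa using this
  have hdvd := card_sylow_dvd_of_card_eq 5 1 288 h' hm
  have hmod := card_sylow_modEq_one 5 G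
  have h5 : 5 ∣ Nat.card G := by rw [h]; norm_num
  have hcard2 : 2 < Nat.card G := by rw [h]; norm_num
  obtain ⟨P⟩ : Nonempty (Sylow 5 G) := inferInstance
  have hne1 := card_sylow_ne_one_of_simple 5 P (by rw [hcP]; norm_num) (by rw [hcP, h]; norm_num)
  have hN := card_normalizer_mul_card_sylow 5 P
  rw [h] at hN
  have hrel := relIndex_centralizer_normalizer_dvd_pred 5 (P : Subgroup G) (hcP P)
  have hmul := card_centralizer_mul_relIndex (P : Subgroup G)
  have hd1 : (Subgroup.centralizer ((P : Subgroup G) : Set G)).relIndex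
      (Subgroup.normalizer ((P : Subgroup G) : Set G)) ≠ 1 := by
    intro hd
    rw [Subgroup.relIndex_eq_one] at hd
    exact false_of_normalizer_le_centralizer hnc 5 h5 P hd
  have hd4 := Nat.le_of_dvd (by norm_num) hrel
  set d := (Subgroup.centralizer ((P : Subgroup G) : Set G)).relIndex
      (Subgroup.normalizer ((P : Subgroup G) : Set G)) with hd
  set c := Nat.card ↥(Subgroup.centralizer ((P : Subgroup G) : Set G)) with hc
  have key : ∀ n ∈ Finset.range 289, n ∣ 288 → n % 5 = 1 →
      n = 1 ∨ n = 6 ∨ n = 16 ∨ n = 36 ∨ n = 96 := by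
    set_option maxRecDepth 100000 in decide
  have hle := Nat.le_of_dvd (by norm_num) hdvd
  rcases key _ (Finset.mem_range.mpr (by omega)) hdvd hmod with h1 | h1 | h1 | h1 | h1
  · exact hne1 h1
  · -- six Sylow 5-subgroups: `G` would embed in the symmetric group of degree `6`
    rw [card_sylow_eq_index_normalizer' 5 P] at h1
    have htop : Subgroup.normalizer ((P : Subgroup G) : Set G) ≠ ⊤ := by
      intro htop
      rw [htop, Subgroup.index_top] at h1
      omega
    have := card_dvd_factorial_index hnc _ htop
    rw [h1, h] at this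
    norm_num [Nat.factorial] at this
  · -- sixteen Sylow 5-subgroups: a subgroup of order 9 of `C(P)` acts semiregularly off `P`
    rw [h1] at hN
    have hNc : Nat.card ↥(Subgroup.normalizer ((P : Subgroup G) : Set G)) = 90 := by omega
    rw [hNc] at hmul
    have h9 : 3 ^ 2 ∣ c := by
      norm_num at hrel
      interval_cases d <;> omega
    obtain ⟨K', hK'⟩ := Sylow.exists_subgroup_card_pow_prime 3 h9
    set K : Subgroup G :=
      K'.map (Subgroup.centralizer ((P : Subgroup G) : Set G)).subtype with hKdef
    have hKcard : Nat.card ↥K = 3 ^ 2 := by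
      rw [hKdef, Subgroup.card_map_of_injective (Subgroup.subtype_injective _), hK']
    have hKC : K ≤ Subgroup.centralizer ((P : Subgroup G) : Set G) :=
      Subgroup.map_subtype_le _
    have hpg : IsPGroup 3 ↥K := IsPGroup.of_card hKcard
    have hfix : ∀ s ∈ K, orderOf s = 3 → Nat.card (MulAction.fixedBy (Sylow 5 G) s) = 1 := by
      intro s hs hs3
      have hF1 : Nat.card (MulAction.fixedBy (Sylow 5 G) s) % 5 = 1 :=
        card_fixedBy_modEq_one 5 P s (hKC hs)
      have hF2 := card_fixedBy_modEq_card 5 3 s 1 (by rw [hs3]; norm_num)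
      rw [h1] at hF2
      have hF2' : 16 % 3 = Nat.card (MulAction.fixedBy (Sylow 5 G) s) % 3 := hF2
      have hs1 : s ≠ 1 := by
        intro hs1
        rw [hs1, orderOf_one] at hs3
        omega
      have hF3 := card_fixedBy_lt 5 hne1 s hs1
      rw [h1] at hF3
      omega
    have := card_sylow_modEq_one_of_semiregular 5 P 3 K hpg
      (hKC.trans (Subgroup.centralizer_le_normalizer _)) hfix
    rw [h1, hKcard] at this
    exact absurd this (by decide)
  · -- thirty-six Sylow 5-subgroups: count involutions against Sylow subgroups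
    rw [h1] at hN
    have hNc : Nat.card ↥(Subgroup.normalizer ((P : Subgroup G) : Set G)) = 40 := by omega
    rw [hNc] at hmul
    have hceven : Even c := by
      norm_num at hrel
      rw [Nat.even_iff]
      interval_cases d <;> omega
    have hodd := odd_card_involutions (Subgroup.centralizer ((P : Subgroup G) : Set G)) hceven
    have hf : ∀ k : G, k ^ 2 = 1 → k ≠ 1 →
        (∃ R : Sylow 5 G, k ∈ Subgroup.centralizer ((R : Subgroup G) : Set G)) →
        Nat.card {R : Sylow 5 G // k ∈ Subgroup.centralizer ((R : Subgroup G) : Set G)} = 16 := by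
      rintro k hk2 hk1 ⟨R, hR⟩
      have hF1 : Nat.card (MulAction.fixedBy (Sylow 5 G) k) % 5 = 1 :=
        card_fixedBy_modEq_one 5 R k hR
      obtain ⟨t, ht⟩ := card_fixedBy_involution 5 hcard2 k hk2
      have hF3 := card_fixedBy_lt 5 hne1 k hk1
      rw [h1] at ht hF3
      have hF : Nat.card (MulAction.fixedBy (Sylow 5 G) k) = 16 := by omega
      rw [card_centralized_eq_card_fixedBy 5 hcP (by norm_num) k hk2 (by rw [h1, hF]; norm_num),
        hF]
    obtain ⟨b, hb⟩ := dvd_card_sylow_mul_card_involutions 5 P 16 hf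
    obtain ⟨j, hj⟩ := hodd
    rw [h1, hj] at hb
    omega
  · -- the normalizer of `P` would have order `15`
    rw [h1] at hN
    have hNc : Nat.card ↥(Subgroup.normalizer ((P : Subgroup G) : Set G)) = 15 := by omega
    rw [hNc] at hmul
    norm_num at hrel
    interval_cases d <;> omega

end Cfsg.Agent.S1016
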