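import Cfsg.Statements.S1017
import Cfsg.Agent.Lib.Helper23.SylowPerm
import Cfsg.Agent.Lib.Helper23.SylowInter
import Cfsg.Agent.Lib.Helper23.SylowEmbed
import Cfsg.Agent.Lib.Helper23.SylowCount
import Cfsg.Agent.Lib.Helper23.Burnside

set_option autoImplicit false
open Cfsg

namespace Cfsg.Agent.S1017

open Cfsg.Agent.Lib.Helper23 Cfsg.Agent.Lib.Helper23.SylowPerm

/-- No finite simple group has order 2016 = 2^5 * 3^2 * 7. -/
theorem result {G : Type*} [Group G] [Finite G] [IsSimpleGroup G] : Nat.card G ≠ 2016 := by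
  intro h
  have : Fact (Nat.Prime 7) := ⟨by norm_num⟩
  have : Fact (Nat.Prime 3) := ⟨by norm_num⟩
  have hnc : ¬ IsMulCommutative G := not_isMulCommutative_of_simple (by rw [h]; norm_num)
  have h' : Nat.card G = 7 ^ 1 * 288 := by rw [h]; norm_num
  have hm : ¬ 7 ∣ 288 := by norm_num
  have hcP : ∀ P : Sylow 7 G, Nat.card ↥(P : Subgroup G) = 7 := fun P => by
    have := sylow_card_of_card_eq 7 1 288 h' hm P
    simpa using this
  have hdvd := card_sylow_dvd_of_card_eq 7 1 288 h' hm
  have hmod := card_sylow_modEq_one 7 G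
  have h7 : 7 ∣ Nat.card G := by rw [h]; norm_num
  have hcard2 : 2 < Nat.card G := by rw [h]; norm_num
  obtain ⟨P⟩ : Nonempty (Sylow 7 G) := inferInstance
  have hne1 := card_sylow_ne_one_of_simple 7 P (by rw [hcP]; norm_num) (by rw [hcP, h]; norm_num)
  have hN := card_normalizer_mul_card_sylow 7 P
  rw [h] at hN
  have hrel := relIndex_centralizer_normalizer_dvd_pred 7 (P : Subgroup G) (hcP P)
  have hmul := card_centralizer_mul_relIndex (P : Subgroup G)
  have hd1 : (Subgroup.centralizer ((P : Subgroup G) : Set G)).relIndex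
      (Subgroup.normalizer ((P : Subgroup G) : Set G)) ≠ 1 := by
    intro hd
    rw [Subgroup.relIndex_eq_one] at hd
    exact false_of_normalizer_le_centralizer hnc 7 h7 P hd
  have hd6 := Nat.le_of_dvd (by norm_num) hrel
  set d := (Subgroup.centralizer ((P : Subgroup G) : Set G)).relIndex
      (Subgroup.normalizer ((P : Subgroup G) : Set G)) with hd
  set c := Nat.card ↥(Subgroup.centralizer ((P : Subgroup G) : Set G)) with hc
  have key : ∀ n ∈ Finset.range 289, n ∣ 288 → n % 7 = 1 → n = 1 ∨ n = 8 ∨ n = 36 ∨ n = 288 := by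
    set_option maxRecDepth 100000 in decide
  have hle := Nat.le_of_dvd (by norm_num) hdvd
  rcases key _ (Finset.mem_range.mpr (by omega)) hdvd hmod with h1 | h1 | h1 | h1
  · exact hne1 h1
  · -- eight Sylow 7-subgroups: an element of order 3 centralizing `P` fixes them all
    rw [h1] at hN
    have hNc : Nat.card ↥(Subgroup.normalizer ((P : Subgroup G) : Set G)) = 252 := by omega
    rw [hNc] at hmul
    have h3 : 3 ∣ c := by
      norm_num at hrel
      interval_cases d <;> omega
    obtain ⟨k, hk⟩ := exists_prime_orderOf_dvd_card' 3 h3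
    have hk3 : orderOf (k : G) = 3 := by rw [Subgroup.orderOf_coe]; exact hk
    have hF1 : Nat.card (MulAction.fixedBy (Sylow 7 G) (k : G)) % 7 = 1 :=
      card_fixedBy_modEq_one 7 P (k : G) k.2
    have hF2 := card_fixedBy_modEq_card 7 3 (k : G) 1 (by rw [hk3]; norm_num)
    rw [h1] at hF2
    have hF2' : 8 % 3 = Nat.card (MulAction.fixedBy (Sylow 7 G) (k : G)) % 3 := hF2
    have hk1 : (k : G) ≠ 1 := by
      intro hk1
      rw [hk1, orderOf_one] at hk3
      omega
    have hF3 := card_fixedBy_lt 7 hne1 (k : G) hk1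
    rw [h1] at hF3
    omega
  · -- thirty-six Sylow 7-subgroups: count involutions against Sylow subgroups
    rw [h1] at hN
    have hNc : Nat.card ↥(Subgroup.normalizer ((P : Subgroup G) : Set G)) = 56 := by omega
    rw [hNc] at hmul
    have hc28 : c = 28 := by
      norm_num at hrel
      interval_cases d <;> omega
    have hodd := odd_card_involutions (Subgroup.centralizer ((P : Subgroup G) : Set G))
      (by rw [← hc, hc28]; decide)
    have hf : ∀ k : G, k ^ 2 = 1 → k ≠ 1 →
        (∃ R : Sylow 7 G, k ∈ Subgroup.centralizer ((R : Subgroup G) : Set G)) →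
        Nat.card {R : Sylow 7 G // k ∈ Subgroup.centralizer ((R : Subgroup G) : Set G)} = 8 := by
      rintro k hk2 hk1 ⟨R, hR⟩
      have hF1 : Nat.card (MulAction.fixedBy (Sylow 7 G) k) % 7 = 1 :=
        card_fixedBy_modEq_one 7 R k hR
      obtain ⟨t, ht⟩ := card_fixedBy_involution 7 hcard2 k hk2
      have hF3 := card_fixedBy_lt 7 hne1 k hk1
      rw [h1] at ht hF3
      have hF : Nat.card (MulAction.fixedBy (Sylow 7 G) k) = 8 := by omega
      rw [card_centralized_eq_card_fixedBy 7 hcP (by norm_num) k hk2 (by rw [h1, hF]; norm_num),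
        hF]
    obtain ⟨b, hb⟩ := dvd_card_sylow_mul_card_involutions 7 P 8 hf
    obtain ⟨j, hj⟩ := hodd
    rw [h1, hj] at hb
    omega
  · -- the normalizer of `P` would have order `7`
    rw [h1] at hN
    have hNc : Nat.card ↥(Subgroup.normalizer ((P : Subgroup G) : Set G)) = 7 := by omega
    rw [hNc] at hmul
    norm_num at hrel
    interval_cases d <;> omega

end Cfsg.Agent.S1017
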