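import Cfsg.Statements.S1018
import Cfsg.Agent.Lib.Helper23.SylowCoset
import Cfsg.Agent.Lib.Helper23.SylowCount

set_option autoImplicit false
open Cfsg

namespace Cfsg.Agent.S1018

open Cfsg.Agent.Lib.Helper23 MulAction

/-- Let P be a Sylow p-subgroup of order p of a finite group G, and consider the action of G on the left cosets of the normalizer N of P. Then every element of order p fixes exactly one coset, and an element of N that does not centralize P fixes at most as many cosets as there are orbits of P. -/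
theorem result {G : Type*} [Group G] [Finite G] (p : ℕ) [Fact p.Prime] (P : Sylow p G) (hP : Nat.card ↥(P : Subgroup G) = p) : (∀ y : G, orderOf y = p → Nat.card (MulAction.fixedBy (G ⧸ Subgroup.normalizer ((P : Subgroup G) : Set G)) y) = 1) ∧ ∀ x : G, x ∈ Subgroup.normalizer ((P : Subgroup G) : Set G) → x ∉ Subgroup.centralizer ((P : Subgroup G) : Set G) → Nat.card (MulAction.fixedBy (G ⧸ Subgroup.normalizer ((P : Subgroup G) : Set G)) x) ≤ Nat.card (MulAction.orbitRel.Quotient ↥(P : Subgroup G) (G ⧸ Subgroup.normalizer ((P : Subgroup G) : Set G))) := by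
  have hp : p.Prime := Fact.out
  have hcard : ∀ Q : Sylow p G, Nat.card ↥(Q : Subgroup G) = p := fun Q => by
    rw [sylow_card_eq p Q P, hP]
  constructor
  · intro y hy
    rw [card_fixedBy_coset_eq P y, Nat.card_eq_one_iff_unique]
    have hpg : IsPGroup p ↥(Subgroup.zpowers y) :=
      IsPGroup.of_card (n := 1) (by rw [Nat.card_zpowers, hy, pow_one])
    have hy1 : y ≠ 1 := by
      rintro rfl
      rw [orderOf_one] at hy
      exact hp.one_lt.ne hy
    constructor
    · constructor
      rintro ⟨Q, hQ⟩ ⟨Q', hQ'⟩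
      apply Subtype.ext
      show Q = Q'
      have h1 : y ∈ (Q : Subgroup G) :=
        mem_sylow_of_mem_normalizer Q y hpg (Sylow.smul_eq_iff_mem_normalizer.mp hQ)
      have h2 : y ∈ (Q' : Subgroup G) :=
        mem_sylow_of_mem_normalizer Q' y hpg (Sylow.smul_eq_iff_mem_normalizer.mp hQ')
      apply Sylow.ext
      rw [← zpowers_eq_of_mem_of_card_eq_prime p Q (hcard Q) h1 hy1,
        ← zpowers_eq_of_mem_of_card_eq_prime p Q' (hcard Q') h2 hy1]
    · obtain ⟨Q, hQ⟩ := hpg.exists_le_sylow
      refine ⟨⟨Q, ?_⟩⟩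
      show y • Q = Q
      apply Sylow.smul_eq_iff_mem_normalizer.mpr
      exact Subgroup.le_normalizer (hQ (Subgroup.mem_zpowers y))
  · intro x hxN hxC
    -- injection from the fixed cosets to the `P`-orbits
    apply Nat.card_le_card_of_injective
      (fun c : ↥(fixedBy (G ⧸ Subgroup.normalizer ((P : Subgroup G) : Set G)) x) =>
        (Quotient.mk'' c.1 :
          orbitRel.Quotient ↥(P : Subgroup G) (G ⧸ Subgroup.normalizer ((P : Subgroup G) : Set G))))
    rintro ⟨c, hc⟩ ⟨c', hc'⟩ hcc
    apply Subtype.ext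
    show c = c'
    have hrel : c ∈ orbit ↥(P : Subgroup G) c' := Quotient.exact' hcc
    obtain ⟨u, hu⟩ := hrel
    -- translate to Sylow subgroups
    have hu' : (u : G) • cosetToSylow P c' = cosetToSylow P c := by
      rw [← cosetToSylow_smul, ← hu]; rfl
    have hQ' : x • cosetToSylow P c' = cosetToSylow P c' := by
      rw [← cosetToSylow_smul]; exact congrArg _ hc'
    have hQ : x • cosetToSylow P c = cosetToSylow P c := by
      rw [← cosetToSylow_smul]; exact congrArg _ hc
    apply cosetToSylow_injective P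
    set Q' := cosetToSylow P c' with hQ'def
    rw [← hu']
    by_cases hQP : Q' = P
    · rw [hQP]
      exact (Sylow.smul_eq_iff_mem_normalizer.mpr (Subgroup.le_normalizer u.2))
    · -- `w = x⁻¹ u⁻¹ x u` lies in `P ⊓ N(Q') = P ⊓ Q' = ⊥`
      by_cases hu1 : (u : G) = 1
      · rw [hu1, one_smul]
      exfalso
      apply hxC
      have hxQ' : x ∈ Subgroup.normalizer ((Q' : Subgroup G) : Set G) :=
        Sylow.smul_eq_iff_mem_normalizer.mp hQ'
      have hxuQ' : (u : G)⁻¹ * x * (u : G) ∈ Subgroup.normalizer ((Q' : Subgroup G) : Set G) := by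
        apply Sylow.smul_eq_iff_mem_normalizer.mp
        rw [mul_smul, mul_smul, hu', hQ, ← hu', ← mul_smul, inv_mul_cancel, one_smul]
      have hwN : x⁻¹ * ((u : G)⁻¹ * x * (u : G)) ∈
          Subgroup.normalizer ((Q' : Subgroup G) : Set G) :=
        Subgroup.mul_mem _ (Subgroup.inv_mem _ hxQ') hxuQ'
      have hwP : x⁻¹ * ((u : G)⁻¹ * x * (u : G)) ∈ (P : Subgroup G) := by
        have h1 : x⁻¹ * (u : G)⁻¹ * x⁻¹⁻¹ ∈ (P : Subgroup G) := by
          have hx' : x⁻¹ ∈ Subgroup.normalizer ((P : Subgroup G) : Set G) :=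
            Subgroup.inv_mem _ hxN
          rw [Subgroup.mem_normalizer_iff] at hx'
          exact (hx' _).mp (Subgroup.inv_mem _ u.2)
        have h2 : x⁻¹ * ((u : G)⁻¹ * x * (u : G)) = (x⁻¹ * (u : G)⁻¹ * x⁻¹⁻¹) * (u : G) := by group
        rw [h2]
        exact Subgroup.mul_mem _ h1 u.2
      have hw : x⁻¹ * ((u : G)⁻¹ * x * (u : G)) ∈ (P : Subgroup G) ⊓ (Q' : Subgroup G) := by
        have := P.2.inf_normalizer_sylow Q'
        exact this.le ⟨hwP, hwN⟩
      have hw1 : x⁻¹ * ((u : G)⁻¹ * x * (u : G)) = 1 := by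
        by_contra hne
        apply hQP
        apply Sylow.ext
        exact (zpowers_eq_of_mem_of_card_eq_prime p Q' (hcard Q') hw.2 hne).symm.trans
          (zpowers_eq_of_mem_of_card_eq_prime p P hP hw.1 hne)
      have hcomm : x * (u : G) = (u : G) * x := by
        have h3 : (u : G)⁻¹ * x * (u : G) = x := by
          have := mul_eq_one_iff_eq_inv'.mp hw1
          rw [inv_inv] at this
          exact this
        calc x * (u : G) = (u : G) * ((u : G)⁻¹ * x * (u : G)) := by group
          _ = (u : G) * x := by rw [h3]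
      -- `P` is generated by `u`
      have hgen := zpowers_eq_of_mem_of_card_eq_prime p P hP u.2 hu1
      rw [Subgroup.mem_centralizer_iff]
      intro h hh
      have hh' : h ∈ Subgroup.zpowers (u : G) := by rw [hgen]; exact hh
      obtain ⟨k, rfl⟩ := Subgroup.mem_zpowers_iff.mp hh'
      exact ((Commute.zpow_right hcomm k).eq).symm

end Cfsg.Agent.S1018
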