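import Cfsg.Statements.S1019
import Mathlib

set_option autoImplicit false
open Cfsg

namespace Cfsg.Agent.S1019

variable {G : Type*} [Group G]

/-- elements g with g⁻¹ x g ∈ H -/
def S (H : Subgroup G) (x : G) : Set G := {g | g⁻¹ * x * g ∈ H}

noncomputable def conjOf (x : G) (y : G) (h : IsConj x y) : G := Classical.choose (isConj_iff.mp h)

theorem conjOf_spec (x y : G) (h : IsConj x y) : conjOf x y h * x * (conjOf x y h)⁻¹ = y :=
  Classical.choose_spec (isConj_iff.mp h)

theorem key (c z x y : G) (h : c * x * c⁻¹ = y) (hz : z * x = x * z) :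
    ((c * z)⁻¹)⁻¹ * x * (c * z)⁻¹ = y := by
  rw [← h]
  calc ((c * z)⁻¹)⁻¹ * x * (c * z)⁻¹ = c * (z * x) * z⁻¹ * c⁻¹ := by group
    _ = c * x * c⁻¹ := by rw [hz]; group

theorem key2 (c g z : G) (h : c * z * c⁻¹ = g⁻¹ * z * g) : z * (c⁻¹ * g⁻¹) = c⁻¹ * g⁻¹ * z := by
  have : z = c⁻¹ * (g⁻¹ * z * g) * c := by rw [← h]; group
  calc z * (c⁻¹ * g⁻¹) = (c⁻¹ * (g⁻¹ * z * g) * c) * (c⁻¹ * g⁻¹) := by rw [← this]
    _ = c⁻¹ * g⁻¹ * z := by group

noncomputable def equivS (H : Subgroup G) (x : G) :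
    S H x ≃ {g : G // IsConj x g ∧ g ∈ H} × Subgroup.centralizer ({x} : Set G) where
  toFun g :=
    (⟨g.1⁻¹ * x * g.1, ⟨isConj_iff.mpr ⟨g.1⁻¹, by simp⟩, g.2⟩⟩,
      ⟨(conjOf x (g.1⁻¹ * x * g.1) (isConj_iff.mpr ⟨g.1⁻¹, by simp⟩))⁻¹ * g.1⁻¹, by
        rw [Subgroup.mem_centralizer_iff]
        intro z hz
        rw [Set.mem_singleton_iff] at hz
        subst hz
        exact key2 _ _ _ (conjOf_spec z (g.1⁻¹ * z * g.1) (isConj_iff.mpr ⟨g.1⁻¹, by simp⟩))⟩)
  invFun p :=
    ⟨(conjOf x p.1.1 p.1.2.1 * p.2.1)⁻¹, by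
      have h := conjOf_spec x p.1.1 p.1.2.1
      have hz : p.2.1 * x = x * p.2.1 := by
        have := (Subgroup.mem_centralizer_iff.mp p.2.2) x (Set.mem_singleton x)
        exact this.symm
      show ((conjOf x p.1.1 p.1.2.1 * p.2.1)⁻¹)⁻¹ * x * (conjOf x p.1.1 p.1.2.1 * p.2.1)⁻¹ ∈ H
      rw [key _ _ _ _ h hz]; exact p.1.2.2⟩
  left_inv g := by
    apply Subtype.ext
    simp
  right_inv p := by
    have h := conjOf_spec x p.1.1 p.1.2.1
    have hz : p.2.1 * x = x * p.2.1 := by
      have := (Subgroup.mem_centralizer_iff.mp p.2.2) x (Set.mem_singleton x)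
      exact this.symm
    have key' := key _ _ _ _ h hz
    apply Prod.ext
    · apply Subtype.ext
      exact key'
    · apply Subtype.ext
      simp only
      have : ∀ (y y' : G) (hy : IsConj x y) (hy' : IsConj x y'), y = y' → conjOf x y hy = conjOf x y' hy' := by
        intro y y' hy hy' e; subst e; rfl
      rw [this _ _ _ p.1.2.1 key']
      group

theorem card_S_eq_centralizer [Finite G] (H : Subgroup G) (x : G) :
    Nat.card (S H x) = Nat.card {g : G // IsConj x g ∧ g ∈ H} * Nat.card (Subgroup.centralizer ({x} : Set G)) := by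
  rw [Nat.card_congr (equivS H x), Nat.card_prod]

/-- S H x corresponds to fixedBy × H -/
noncomputable def equivS' (H : Subgroup G) (x : G) :
    S H x ≃ MulAction.fixedBy (G ⧸ H) x × H where
  toFun g := (⟨(g.1 : G ⧸ H), by
      rw [MulAction.mem_fixedBy]
      show ((x * g.1 : G) : G ⧸ H) = (g.1 : G ⧸ H)
      rw [QuotientGroup.eq]
      have := H.inv_mem g.2
      convert this using 1
      group⟩,
    ⟨((g.1 : G ⧸ H).out)⁻¹ * g.1, by
      have := QuotientGroup.out_eq' (g.1 : G ⧸ H)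
      exact QuotientGroup.eq.mp this⟩)
  invFun p := ⟨p.1.1.out * p.2.1, by
    show (p.1.1.out * p.2.1)⁻¹ * x * (p.1.1.out * p.2.1) ∈ H
    have h1 : x • p.1.1 = p.1.1 := p.1.2
    have h2 : ((x * p.1.1.out : G) : G ⧸ H) = (p.1.1.out : G ⧸ H) := by
      conv_rhs => rw [QuotientGroup.out_eq', ← h1]
      conv_rhs => rw [← QuotientGroup.out_eq' p.1.1]
      rfl
    have h3 := QuotientGroup.eq.mp h2
    have h4 : (p.1.1.out)⁻¹ * x * p.1.1.out ∈ H := by
      have := H.inv_mem h3
      convert this using 1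
      group
    have : (p.1.1.out * p.2.1)⁻¹ * x * (p.1.1.out * p.2.1) = p.2.1⁻¹ * ((p.1.1.out)⁻¹ * x * p.1.1.out) * p.2.1 := by
      group
    rw [this]
    exact H.mul_mem (H.mul_mem (H.inv_mem p.2.2) h4) p.2.2⟩
  left_inv g := by
    apply Subtype.ext
    simp
  right_inv p := by
    have e : ((p.1.1.out * p.2.1 : G) : G ⧸ H) = p.1.1 := by
      conv_rhs => rw [← QuotientGroup.out_eq' p.1.1]
      rw [QuotientGroup.eq]
      simp
    apply Prod.ext
    · apply Subtype.ext
      exact e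
    · apply Subtype.ext
      simp only
      rw [e]
      group

theorem result {G : Type*} [Group G] [Finite G] (H : Subgroup G) (x : G) (hx : x ∈ H) : Nat.card (MulAction.fixedBy (G ⧸ H) x) * Nat.card {g : G // IsConj x g} = H.index * Nat.card {g : G // IsConj x g ∧ g ∈ H} := by
  have h1 := card_S_eq_centralizer H x
  have h2 : Nat.card (S H x) = Nat.card (MulAction.fixedBy (G ⧸ H) x) * Nat.card H := by
    rw [Nat.card_congr (equivS' H x), Nat.card_prod]
  have h3 := card_S_eq_centralizer (⊤ : Subgroup G) x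
  have h4 : Nat.card (S (⊤ : Subgroup G) x) = Nat.card G := by
    have : S (⊤ : Subgroup G) x = Set.univ := by
      ext g; simp [S]
    rw [this, Nat.card_congr (Equiv.Set.univ G)]
  have h5 : Nat.card {g : G // IsConj x g ∧ g ∈ (⊤ : Subgroup G)} = Nat.card {g : G // IsConj x g} := by
    apply Nat.card_congr
    exact Equiv.subtypeEquivRight (by simp)
  have h6 : Nat.card G = H.index * Nat.card H := (Subgroup.index_mul_card H).symm
  have hH : 0 < Nat.card H := Nat.card_pos
  rw [h5, h4] at h3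
  apply Nat.eq_of_mul_eq_mul_right hH
  calc Nat.card (MulAction.fixedBy (G ⧸ H) x) * Nat.card {g : G // IsConj x g} * Nat.card H
      = (Nat.card (MulAction.fixedBy (G ⧸ H) x) * Nat.card H) * Nat.card {g : G // IsConj x g} := by ring
    _ = Nat.card {g : G // IsConj x g ∧ g ∈ H} * Nat.card (Subgroup.centralizer ({x} : Set G)) * Nat.card {g : G // IsConj x g} := by
        rw [← h2, h1]
    _ = Nat.card {g : G // IsConj x g ∧ g ∈ H} * Nat.card G := by rw [h3]; ring
    _ = H.index * Nat.card {g : G // IsConj x g ∧ g ∈ H} * Nat.card H := by rw [h6]; ring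

end Cfsg.Agent.S1019
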