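import Cfsg.Statements.S1024

set_option autoImplicit false
set_option linter.unusedSimpArgs false
open Cfsg

namespace Cfsg.Agent.S1024

open Cfsg.Lie

theorem chainCoeff_pos (D : ChevalleyDatum) (r s u : ℕ) (km : ℕ × ℤ) (h : km ∈ D.chainCoeff r s u) :
    1 ≤ km.1 := by
  unfold ChevalleyDatum.chainCoeff at h
  simp only [List.mem_flatMap, List.mem_map] at h
  obtain ⟨e, _, q, _, rfl⟩ := h
  simp

theorem xMat_zero {F : Type*} [Field F] (D : ChevalleyDatum) (r : Fin D.nroots) :
    D.xMat F r 0 = 1 := by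
  ext row col
  unfold ChevalleyDatum.xMat
  rcases col with i | s
  · rcases row with i' | u
    · simp [Matrix.one_apply]
    · simp [Matrix.one_apply]
  · by_cases hsr : s = r
    · subst hsr
      rcases row with i' | u
      · simp [Matrix.one_apply]
      · simp [Matrix.one_apply]
    · by_cases hneg : s.val = D.negIdx.getD r.val 0
      · rcases row with i' | u
        · simp [Matrix.one_apply, hsr, hneg]
        · by_cases hus : u = s
          · simp [Matrix.one_apply, hsr, hneg, hus]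
          · simp [Matrix.one_apply, hsr, hneg, hus]
      · rcases row with i' | u
        · simp [Matrix.one_apply, hsr, hneg]
        · have hz : ((D.chainCoeff r.val s.val u.val).map fun km => ((km.2 : ℤ) : F) * (0:F) ^ km.1).sum = 0 := by
            apply List.sum_eq_zero
            intro x hx
            simp only [List.mem_map] at hx
            obtain ⟨km, hkm, rfl⟩ := hx
            have := chainCoeff_pos D _ _ _ km hkm
            have h0 : (0:F) ^ km.1 = 0 := zero_pow (by omega)
            simp [h0]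
          simp only [Matrix.of_apply, hsr, hneg, if_false, hz, add_zero, Matrix.one_apply, Sum.inr.injEq]
          
theorem neg_ok (D : ChevalleyDatum)
    (hD : D ∈ [Cfsg.Lie.chevG2, Cfsg.Lie.chevB2, Cfsg.Lie.chevD4, Cfsg.Lie.chevF4, Cfsg.Lie.chevE6, Cfsg.Lie.chevE7, Cfsg.Lie.chevE8]) :
    ∀ r < D.nroots, D.negIdx.getD r 0 < D.nroots ∧ D.negIdx.getD r 0 ≠ r := by
  simp only [List.mem_cons, List.not_mem_nil, or_false] at hD
  rcases hD with rfl | rfl | rfl | rfl | rfl | rfl | rfl <;> decide +kernel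

theorem result {F : Type*} [Field F] (D : Cfsg.Lie.ChevalleyDatum) (hD : D ∈ [Cfsg.Lie.chevG2, Cfsg.Lie.chevB2, Cfsg.Lie.chevD4, Cfsg.Lie.chevF4, Cfsg.Lie.chevE6, Cfsg.Lie.chevE7, Cfsg.Lie.chevE8]) (r : ℕ) (hr : r < D.nroots) (t : F) :
    D.x F r t = 1 ↔ t = 0 := by
  obtain ⟨hlt, hne⟩ := neg_ok D hD r hr
  unfold ChevalleyDatum.x
  rw [dif_pos hr]
  constructor
  · intro h
    have h1 := congrFun (congrFun h (Sum.inr ⟨r, hr⟩)) (Sum.inr ⟨D.negIdx.getD r 0, hlt⟩)
    have hne' : (⟨D.negIdx.getD r 0, hlt⟩ : Fin D.nroots) ≠ ⟨r, hr⟩ := by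
      intro h; exact hne (Fin.mk.inj_iff.mp h)
    have hne'' : (⟨r, hr⟩ : Fin D.nroots) ≠ ⟨D.negIdx.getD r 0, hlt⟩ := fun h => hne' h.symm
    unfold ChevalleyDatum.xMat at h1
    simp only [Matrix.of_apply, hne', if_false, if_true, Matrix.one_apply, Sum.inr.injEq, hne''] at h1
    simpa using h1
  · rintro rfl
    exact xMat_zero D ⟨r, hr⟩

end Cfsg.Agent.S1024
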