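import Cfsg.Statements.S1039
import Cfsg.Agent.Lib.Helper37.ChevWeyl_G2
import Cfsg.Agent.Lib.Helper37.ChevWeyl_B2
import Cfsg.Agent.Lib.Helper37.ChevWeyl_D4
import Cfsg.Agent.Lib.Helper37.ChevWeyl_F4
import Cfsg.Agent.Lib.Helper37.ChevWeyl_E6
import Cfsg.Agent.Lib.Helper37.ChevWeyl_E7
import Cfsg.Agent.Lib.Helper37.ChevWeyl_E8
import Cfsg.Agent.Lib.Helper37.ChevSylowTab
import Cfsg.Agent.Lib.Helper24.FactsAll
import Cfsg.Agent.Lib.Helper24.UFTab
import Cfsg.Agent.Lib.Helper24.RootTables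
import Cfsg.Agent.Lib.Helper24.CoreTab
import Cfsg.Agent.S1049
import Cfsg.Agent.S1040

set_option autoImplicit false
open Cfsg

namespace Cfsg.Agent.S1039

open Cfsg.Lie Cfsg.Agent.Lib.Helper24 Cfsg.Agent.Lib.Helper37.Weyl Cfsg.Agent.Lib.Helper37.Chev

/-- `N_G(U) = B` and `B ∩ N = H` (rows 1049 and 1040) -/
theorem hyps {F : Type*} [Field F] (D : ChevalleyDatum)
    (hD : D ∈ [chevG2, chevB2, chevD4, chevF4, chevE6, chevE7, chevE8]) :
    (Subgroup.normalizer (D.posUnipotent F : Set (GL D.Idx F)) ⊓ D.group F = D.borelSubgroup F) ∧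
      D.borelSubgroup F ⊓ D.monomialSubgroup F = D.diagonalSubgroup F := by
  refine ⟨?_, (Cfsg.Agent.S1040.result D hD).2⟩
  have h := Cfsg.Agent.S1049.result (F := F) D hD ∅ (fun j hj => absurd hj (Set.notMem_empty j))
  rw [unipotentRadical_empty D (posNotSub_all D hD), parabolic_empty D] at h
  exact h

/-- `N/H ≅ W`: there is a surjective homomorphism from `N` onto the Coxeter group of the type (Mathlib's Coxeter matrix G₂, B₂, F₄, E₆, E₇, E₈, nodes numbered as the fundamental roots) with kernel `H`, mapping each `n_{p_i}` to the `i`-th simple reflection. -/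
theorem result {F : Type*} [Field F]
    (p : Cfsg.Lie.ChevalleyDatum × (Σ n : ℕ, CoxeterMatrix (Fin n)))
    (hp : p ∈ [(Cfsg.Lie.chevG2, ⟨2, CoxeterMatrix.G₂⟩), (Cfsg.Lie.chevB2, ⟨2, CoxeterMatrix.B 2⟩), (Cfsg.Lie.chevD4, ⟨4, Cfsg.Lie.coxeterD4⟩), (Cfsg.Lie.chevF4, ⟨4, CoxeterMatrix.F₄⟩),
      (Cfsg.Lie.chevE6, ⟨6, CoxeterMatrix.E₆⟩), (Cfsg.Lie.chevE7, ⟨7, CoxeterMatrix.E₇⟩), (Cfsg.Lie.chevE8, ⟨8, CoxeterMatrix.E₈⟩)]) :
    ∃ φ : ↥(p.1.monomialSubgroup F) →* p.2.2.Group, Function.Surjective φ ∧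
      φ.ker = (p.1.diagonalSubgroup F).subgroupOf (p.1.monomialSubgroup F) ∧
      ∀ (i : Fin p.2.1) (g : ↥(p.1.monomialSubgroup F)),
        ((g : GL p.1.Idx F) : Matrix p.1.Idx p.1.Idx F) = p.1.nMat F (p.1.simple i) 1 → φ g = p.2.2.simple i := by
  simp only [List.mem_cons, List.not_mem_nil, or_false] at hp
  rcases hp with rfl | rfl | rfl | rfl | rfl | rfl | rfl
  · obtain ⟨h1, h2⟩ := hyps (F := F) chevG2 (by simp)
    exact weyl_G2 (facts_all chevG2 (by simp)) (rootTableOK_all _ (by simp))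
      (negNeOK_all _ (by simp)) (ufacts_all _ (by simp)).unit h1 h2
  · obtain ⟨h1, h2⟩ := hyps (F := F) chevB2 (by simp)
    exact weyl_B2 (facts_all chevB2 (by simp)) (rootTableOK_all _ (by simp))
      (negNeOK_all _ (by simp)) (ufacts_all _ (by simp)).unit h1 h2
  · obtain ⟨h1, h2⟩ := hyps (F := F) chevD4 (by simp)
    exact weyl_D4 (facts_all chevD4 (by simp)) (rootTableOK_all _ (by simp))
      (negNeOK_all _ (by simp)) (ufacts_all _ (by simp)).unit h1 h2
  · obtain ⟨h1, h2⟩ := hyps (F := F) chevF4 (by simp)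
    exact weyl_F4 (facts_all chevF4 (by simp)) (rootTableOK_all _ (by simp))
      (negNeOK_all _ (by simp)) (ufacts_all _ (by simp)).unit h1 h2
  · obtain ⟨h1, h2⟩ := hyps (F := F) chevE6 (by simp)
    exact weyl_E6 (facts_all chevE6 (by simp)) (rootTableOK_all _ (by simp))
      (negNeOK_all _ (by simp)) (ufacts_all _ (by simp)).unit h1 h2
  · obtain ⟨h1, h2⟩ := hyps (F := F) chevE7 (by simp)
    exact weyl_E7 (facts_all chevE7 (by simp)) (rootTableOK_all _ (by simp))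
      (negNeOK_all _ (by simp)) (ufacts_all _ (by simp)).unit h1 h2
  · obtain ⟨h1, h2⟩ := hyps (F := F) chevE8 (by simp)
    exact weyl_E8 (facts_all chevE8 (by simp)) (rootTableOK_all _ (by simp))
      (negNeOK_all _ (by simp)) (ufacts_all _ (by simp)).unit h1 h2

end Cfsg.Agent.S1039
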