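import Cfsg.Statements.S1044
import Cfsg.Agent.Lib.Helper24.FactsAll
import Cfsg.Agent.Lib.Helper24.CommAll
import Cfsg.Agent.Lib.Helper24.UpTab
import Cfsg.Agent.Lib.Helper24.RankTab

set_option autoImplicit false
open Cfsg

namespace Cfsg.Agent.S1044

/-- For a fundamental root `p` the set `B ∪ B n_p B` is (the carrier of) a subgroup of the general linear group. -/
theorem result {F : Type*} [Field F] (D : Cfsg.Lie.ChevalleyDatum) (hD : D ∈ [Cfsg.Lie.chevG2, Cfsg.Lie.chevB2, Cfsg.Lie.chevD4, Cfsg.Lie.chevF4, Cfsg.Lie.chevE6, Cfsg.Lie.chevE7, Cfsg.Lie.chevE8]) (i : ℕ) (hi : i < D.rank) (n : GL D.Idx F)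
    (hn : (n : Matrix D.Idx D.Idx F) = D.nMat F (D.simple i) 1) :
    ∃ P : Subgroup (GL D.Idx F), (P : Set (GL D.Idx F)) =
      (D.borelSubgroup F : Set (GL D.Idx F)) ∪ DoubleCoset.doubleCoset n (D.borelSubgroup F : Set (GL D.Idx F)) (D.borelSubgroup F) := by
  obtain ⟨tab, orb, hN, hH, _, hC⟩ := Cfsg.Agent.Lib.Helper24.cfacts_all D hD
  obtain ⟨T, reps, hall, hreps⟩ := hC.pairs
  have hF := Cfsg.Agent.Lib.Helper24.facts_all D hD
  have hCh : Cfsg.Agent.Lib.Helper24.ChainOK D := ⟨Cfsg.Agent.Lib.Helper24.tableOK_all D hD, hC.chain⟩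
  have hUp := hF.Up_normal (F := F) hCh i
    (fun r hr s hs hrs hneg => hF.QF_of_comm r s
      (fun t u => hF.comm_formula hN hH hCh hC.negRev T reps hall hreps r s hr hs hrs hneg t u))
    (Cfsg.Agent.Lib.Helper24.simpleCommOK_all D hD i hi)
  exact hF.borel_union_doubleCoset hN hH i hi (Cfsg.Agent.Lib.Helper24.reflPosOK_all D hD i hi)
    (le_trans le_sup_left hUp.1) hUp.2 n hn

end Cfsg.Agent.S1044
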