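import Cfsg.Statements.S1046
import Cfsg.Agent.S1042
import Cfsg.Agent.Lib.Helper24.HConj

set_option autoImplicit false
open Cfsg

namespace Cfsg.Agent.S1046

/-- Two elements of `H` conjugate in the Chevalley group are conjugate by an element of `N`. -/
theorem result {F : Type*} [Field F] (D : Cfsg.Lie.ChevalleyDatum) (hD : D ∈ [Cfsg.Lie.chevG2, Cfsg.Lie.chevB2, Cfsg.Lie.chevD4, Cfsg.Lie.chevF4, Cfsg.Lie.chevE6, Cfsg.Lie.chevE7, Cfsg.Lie.chevE8]) (h₁ h₂ g : GL D.Idx F) (h1 : h₁ ∈ D.diagonalSubgroup F) (h2 : h₂ ∈ D.diagonalSubgroup F)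
    (hg : g ∈ D.group F) (hc : g * h₁ * g⁻¹ = h₂) :
    ∃ n ∈ D.monomialSubgroup F, n * h₁ * n⁻¹ = h₂ := by
  obtain ⟨tab, orb, hN, hH, _, hC⟩ := Cfsg.Agent.Lib.Helper24.cfacts_all D hD
  obtain ⟨T, reps, hall, hreps⟩ := hC.pairs
  have hF := Cfsg.Agent.Lib.Helper24.facts_all D hD
  have hCh : Cfsg.Agent.Lib.Helper24.ChainOK D := ⟨Cfsg.Agent.Lib.Helper24.tableOK_all D hD, hC.chain⟩
  have hR := Cfsg.Agent.Lib.Helper24.rootTableOK_all D hD
  have hUF := Cfsg.Agent.Lib.Helper24.ufacts_all D hD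
  have hcomm : ∀ r < D.nroots, ∀ s < D.nroots, s ≠ r → s ≠ D.neg r → hF.QF F r s :=
    fun r hr s hs hrs hneg => hF.QF_of_comm r s
      (fun t u => hF.comm_formula hN hH hCh hC.negRev T reps hall hreps r s hr hs hrs hneg t u)
  obtain ⟨P, hB, hN', _⟩ := Cfsg.Agent.S1042.result (F := F) D hD
  have hBN : D.borelSubgroup F ⊓ D.monomialSubgroup F = D.diagonalSubgroup F := by
    obtain ⟨tab', orb', hN2, hH2, hM⟩ := Cfsg.Agent.Lib.Helper24.mfacts_all D hD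
    exact (hF.pos_inf_monomial hN2 hH2 hM hUF).2
  exact hF.diagonal_conj_in_monomial hN hH hR hCh hUF hC.negRev hcomm P hB hN' hBN h₁ h₂ g h1 h2 hg hc

end Cfsg.Agent.S1046
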