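import Cfsg.Statements.S1057
import Cfsg.Agent.Lib.Helper62.G2U3Final
import Cfsg.Agent.Lib.Helper62.ClassicalCongr
import Cfsg.Agent.Lib.Helper07.ChevB2B

set_option autoImplicit false
open Cfsg

namespace Cfsg.Agent.S1057

/-- G₂(2)′ ≅ PSU₃(3). -/
theorem result {F K : Type*} [Field F] [Fintype F] [Field K] [Fintype K] (hF : Fintype.card F = 2) (hK : Fintype.card K = 9) :
    Nonempty (↥(commutator ↥(Cfsg.Lie.chevG2.group F)) ≃* Cfsg.PSU 3 K 3) := by
  have hF' : Fintype.card F = Fintype.card (ZMod 2) := by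
    rw [hF, ZMod.card 2]
  have hK' : Fintype.card K = Fintype.card Cfsg.Agent.Lib.Helper07.F9 := by
    rw [hK, Cfsg.Agent.Lib.Helper07.f9_card]
  have σ : F ≃+* ZMod 2 := FiniteField.ringEquivOfCardEq hF'
  have τ : K ≃+* Cfsg.Agent.Lib.Helper07.F9 := FiniteField.ringEquivOfCardEq hK'
  obtain ⟨e⟩ := Cfsg.Agent.Lib.Helper62.G2U3.exists_iso_concrete
  exact ⟨((Cfsg.Agent.Lib.Helper62.GraphIso.commutatorCongr
    (Cfsg.Agent.Lib.Helper07.chevGroupCongr Cfsg.Lie.chevG2 σ)).trans e).trans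
    (Cfsg.Agent.Lib.Helper62.ClassicalCongr.psuCongr τ 3 3).symm⟩

end Cfsg.Agent.S1057
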