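import Cfsg.Statements.S1061
import Cfsg.Agent.Lib.Helper08.D4Iso
import Cfsg.Agent.S0293

set_option autoImplicit false
open Cfsg

namespace Cfsg.Agent.S1061

theorem gcd_two (n : ℕ) : Nat.gcd 2 n = if n % 2 = 0 then 2 else 1 := by
  rw [Nat.gcd_rec]
  rcases Nat.mod_two_eq_zero_or_one n with h | h <;> rw [h] <;> simp

theorem gcd_aux (q : ℕ) (hq1 : 1 ≤ q) : Nat.gcd 2 (q - 1) ^ 2 = Nat.gcd 4 (q ^ 4 - 1) := by
  rw [gcd_two]
  rcases Nat.mod_two_eq_zero_or_one q with h | h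
  · have h1 : (q - 1) % 2 ≠ 0 := by omega
    have h2 : (q ^ 4) % 2 = 0 := by rw [Nat.pow_mod, h]
    rw [if_neg h1, Cfsg.Agent.Lib.Helper08.gcd_four_sub_one_of_even h2 (Nat.one_le_pow _ _ (by omega))]
    norm_num
  · have h1 : (q - 1) % 2 = 0 := by omega
    have h2 : (q ^ 4) % 4 = 1 := by
      have h4 : q % 4 = 1 ∨ q % 4 = 3 := by omega
      rw [Nat.pow_mod]
      rcases h4 with h4 | h4 <;> rw [h4]
    rw [if_pos h1, Cfsg.Agent.Lib.Helper08.gcd_four_sub_one_of_mod_one h2]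
    norm_num


/-- `gcd(2, q-1)² · |D₄(q)| = q¹² (q² - 1)(q⁴ - 1)(q⁴ - 1)(q⁶ - 1)`. -/
theorem result {F : Type*} [Field F] [Fintype F] {q : ℕ} (hq : Fintype.card F = q) : Nat.gcd 2 (q - 1) ^ 2 * Nat.card ↥(Cfsg.Lie.chevD4.group F) = q ^ 12 * (q ^ 2 - 1) * (q ^ 4 - 1) * (q ^ 4 - 1) * (q ^ 6 - 1) := by
  obtain ⟨e⟩ := Cfsg.Agent.Lib.Helper08.D4O.d4_equiv_pomega (F := F)
  have hcard : Nat.card ↥(Cfsg.Lie.chevD4.group F) = Nat.card (Cfsg.POmega F (Cfsg.quadFormPlus 4 F)) :=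
    Nat.card_congr e.toEquiv
  have h := Cfsg.Agent.S0293.result hq 4 (le_refl 4)
  have hq1 : 1 ≤ q := by rw [← hq]; exact Fintype.card_pos
  rw [hcard, gcd_aux q hq1, h]
  simp only [Finset.prod_range_succ, Finset.prod_range_zero]
  ring

end Cfsg.Agent.S1061
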