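import Cfsg.Statements.S1070
import Cfsg.Agent.Lib.Helper33.TwSimpleTab
import Cfsg.Agent.S1104

set_option autoImplicit false
open Cfsg

namespace Cfsg.Agent.S1070

/-- ²E₆(q) is simple for every `q`. -/
theorem result {K : Type*} [Field K] [Fintype K] {q : ℕ} (hq : IsPrimePow q) (hK : Fintype.card K = q ^ 2) :
    IsSimpleGroup ↥(Cfsg.Lie.twistedE6 K q) ∧ ¬ IsMulCommutative ↥(Cfsg.Lie.twistedE6 K q) := by
  obtain ⟨f, hf⟩ := Cfsg.Agent.Lib.Helper24.exists_frobQ hq hK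
  have hff : ∀ t : K, (t ^ q) ^ q = t := fun t => by
    rw [← pow_mul, ← pow_two]; exact Cfsg.Agent.Lib.Helper24.pow_card_pow_eq hK t
  have hperf := Cfsg.Agent.S1104.result hq hK
  have key : ∀ X : Subgroup (GL Cfsg.Lie.chevE6.Idx K),
      X = (Cfsg.Agent.Lib.Helper24.twE6 K f).G1 (Cfsg.Agent.Lib.Helper24.fundOf Cfsg.Lie.chevE6
        Cfsg.Agent.Lib.Helper24.twFd_E6) →
      commutator ↥X = ⊤ → IsSimpleGroup ↥X ∧ ¬ IsMulCommutative ↥X := by
    rintro X rfl h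
    exact Cfsg.Agent.Lib.Helper33.TwBN.simple_E6 K f h
  exact key _ (Cfsg.Agent.Lib.Helper24.twisted_eq_E6 q f hf hff) hperf

end Cfsg.Agent.S1070
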