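import Cfsg.Statements.S1071
import Cfsg.Agent.Lib.Helper33.TwSimpleTab
import Cfsg.Agent.S1108

set_option autoImplicit false
open Cfsg

namespace Cfsg.Agent.S1071

/-- ³D₄(q) is simple for every `q`. -/
theorem result {K : Type*} [Field K] [Fintype K] {q : ℕ} (hq : IsPrimePow q) (hK : Fintype.card K = q ^ 3) :
    IsSimpleGroup ↥(Cfsg.Lie.twistedD4 K q) ∧ ¬ IsMulCommutative ↥(Cfsg.Lie.twistedD4 K q) := by
  obtain ⟨f, hf⟩ := Cfsg.Agent.Lib.Helper24.exists_frobQ hq hK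
  have hff : ∀ t : K, ((t ^ q) ^ q) ^ q = t := fun t => by
    rw [← pow_mul, ← pow_mul, show q * (q * q) = q ^ 3 by ring]; exact Cfsg.Agent.Lib.Helper24.pow_card_pow_eq hK t
  have hperf := Cfsg.Agent.S1108.result hq hK
  have key : ∀ X : Subgroup (GL Cfsg.Lie.chevD4.Idx K),
      X = (Cfsg.Agent.Lib.Helper24.twD4 K f).G1 (Cfsg.Agent.Lib.Helper24.fundOf Cfsg.Lie.chevD4
        Cfsg.Agent.Lib.Helper24.twFd_D4) →
      commutator ↥X = ⊤ → IsSimpleGroup ↥X ∧ ¬ IsMulCommutative ↥X := by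
    rintro X rfl h
    exact Cfsg.Agent.Lib.Helper33.TwBN.simple_D4 K f h
  exact key _ (Cfsg.Agent.Lib.Helper24.twisted_eq_D4 q f hf hff) hperf

end Cfsg.Agent.S1071
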