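import Cfsg.Statements.S1075
import Cfsg.Agent.Lib.Helper62.R3L28Final
import Cfsg.Agent.Lib.Helper62.ClassicalCongr

set_option autoImplicit false
open Cfsg

namespace Cfsg.Agent.S1075

/-- The derived subgroup of ²G₂(3) (θ = identity over the field with three elements) has order 504 = 1512/3 and is isomorphic to PSL₂ over the field with eight elements. -/
theorem result {L : Type*} [Field L] [Fintype L] (hL : Fintype.card L = 8) :
    Nat.card ↥(commutator ↥(Cfsg.Lie.twistedG2 (ZMod 3) 1)) = 504 ∧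
      Nonempty (↥(commutator ↥(Cfsg.Lie.twistedG2 (ZMod 3) 1)) ≃* Matrix.ProjectiveSpecialLinearGroup (Fin 2) L) := by
  refine ⟨Cfsg.Agent.Lib.Helper62.R3L28.card_commutator, ?_⟩
  have hL' : Fintype.card L = Fintype.card Cfsg.Agent.Lib.Helper62.F8 := by
    rw [hL, Cfsg.Agent.Lib.Helper62.F8.card_eq]
  have τ : L ≃+* Cfsg.Agent.Lib.Helper62.F8 := FiniteField.ringEquivOfCardEq hL'
  obtain ⟨e⟩ := Cfsg.Agent.Lib.Helper62.R3L28.exists_iso_concrete
  exact ⟨e.trans (Cfsg.Agent.Lib.Helper62.GraphIso.quotCenterCongr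
    (Cfsg.Agent.Lib.Helper62.ClassicalCongr.slCongr 2 τ)).symm⟩

end Cfsg.Agent.S1075
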