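import Cfsg.Statements.S1080

set_option autoImplicit false
open Cfsg

namespace Cfsg.Agent.S1080

open Cfsg.Lie Matrix

section
variable {F : Type*} [Field F] (D : Cfsg.Lie.ChevalleyDatum)

/-- The entrywise image of `x_r(t)` under a ring endomorphism is `x_r(f t)`. -/
theorem xMat_map (f : F →+* F) (r : Fin D.nroots) (t : F) :
    (D.xMat F r t).map f = D.xMat F r (f t) := by
  ext row col
  rcases row with i' | u <;> rcases col with i | s <;>
    simp only [ChevalleyDatum.xMat, Matrix.map_apply, Matrix.of_apply]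
  · split_ifs <;> simp
  · split_ifs <;> simp
  · split_ifs <;> simp
  · split_ifs <;> simp [map_list_sum, List.map_map, Function.comp_def]

theorem x_map (f : F →+* F) (r : ℕ) (t : F) :
    (D.x F r t).map f = D.x F r (f t) := by
  unfold ChevalleyDatum.x
  split_ifs with h
  · exact xMat_map D f ⟨r, h⟩ t
  · simp

/-- The automorphism of `GL` induced entrywise by a field automorphism. -/
noncomputable def glAut (f : F ≃+* F) : GL D.Idx F ≃* GL D.Idx F :=
  Units.mapEquiv (f.mapMatrix (m := D.Idx)).toMulEquiv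

theorem glAut_coe (f : F ≃+* F) (g : GL D.Idx F) :
    ((glAut D f g : GL D.Idx F) : Matrix D.Idx D.Idx F) = (g : Matrix D.Idx D.Idx F).map f := rfl

theorem glAut_symm_coe (f : F ≃+* F) (g : GL D.Idx F) :
    (((glAut D f).symm g : GL D.Idx F) : Matrix D.Idx D.Idx F) =
      (g : Matrix D.Idx D.Idx F).map f.symm := rfl

theorem map_group (f : F ≃+* F) :
    (D.group F).map (glAut D f : GL D.Idx F →* GL D.Idx F) = D.group F := by
  unfold ChevalleyDatum.group
  rw [MonoidHom.map_closure]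
  congr 1
  ext g
  constructor
  · rintro ⟨g', ⟨r, t, hg'⟩, rfl⟩
    refine ⟨r, f t, ?_⟩
    show ((glAut D f g' : GL D.Idx F) : Matrix D.Idx D.Idx F) = _
    rw [glAut_coe, hg']
    exact xMat_map D (f : F →+* F) r t
  · rintro ⟨r, t, hg⟩
    refine ⟨(glAut D f).symm g, ⟨r, f.symm t, ?_⟩, ?_⟩
    · rw [glAut_symm_coe, hg]
      exact xMat_map D (f.symm : F →+* F) r t
    · show glAut D f ((glAut D f).symm g) = g
      exact (glAut D f).apply_symm_apply g

end

theorem result {F : Type*} [Field F] (D : Cfsg.Lie.ChevalleyDatum) (hD : D ∈ [Cfsg.Lie.chevG2, Cfsg.Lie.chevB2, Cfsg.Lie.chevD4, Cfsg.Lie.chevF4, Cfsg.Lie.chevE6, Cfsg.Lie.chevE7, Cfsg.Lie.chevE8]) (f : F ≃+* F) :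
    ∃ α : ↥(D.group F) ≃* ↥(D.group F), ∀ (g : ↥(D.group F)) (r : ℕ) (t : F), r < D.nroots →
      ((g : GL D.Idx F) : Matrix D.Idx D.Idx F) = D.x F r t → ((α g : GL D.Idx F) : Matrix D.Idx D.Idx F) = D.x F r (f t) := by
  refine ⟨((glAut D f).subgroupMap (D.group F)).trans (MulEquiv.subgroupCongr (map_group D f)), ?_⟩
  intro g r t _ hg
  show ((glAut D f (g : GL D.Idx F) : GL D.Idx F) : Matrix D.Idx D.Idx F) = _
  rw [glAut_coe, hg]
  exact x_map D (f : F →+* F) r t

end Cfsg.Agent.S1080
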