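import Cfsg.Statements.S1081
import Cfsg.Agent.Lib.Helper24.FactsAll
import Cfsg.Agent.Lib.Helper24.GraphTab

set_option autoImplicit false
open Cfsg

namespace Cfsg.Agent.S1081

/-- Graph automorphisms: for E₆ with ρ = (p₁ p₆)(p₃ p₅) and for D₄ with ρ the 3-cycle on the outer nodes there is a group automorphism sending `x_p(t) ↦ x_{ρ(p)}(t)` and `x_{-p}(t) ↦ x_{-ρ(p)}(t)` for every fundamental root `p`. -/
theorem result {F : Type*} [Field F] (p : Cfsg.Lie.ChevalleyDatum × List ℕ)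
    (hp : p ∈ [(Cfsg.Lie.chevE6, [5, 1, 4, 3, 2, 0]), (Cfsg.Lie.chevD4, [2, 1, 3, 0]), (Cfsg.Lie.chevD4, [3, 1, 0, 2])]) :
    ∃ α : ↥(p.1.group F) ≃* ↥(p.1.group F), ∀ (g : ↥(p.1.group F)) (i : ℕ) (t : F), i < p.1.rank →
      (((g : GL p.1.Idx F) : Matrix p.1.Idx p.1.Idx F) = p.1.x F (p.1.simple i) t →
        ((α g : GL p.1.Idx F) : Matrix p.1.Idx p.1.Idx F) = p.1.x F (p.1.simple (p.2.getD i 0)) t) ∧
      (((g : GL p.1.Idx F) : Matrix p.1.Idx p.1.Idx F) = p.1.x F (p.1.neg (p.1.simple i)) t →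
        ((α g : GL p.1.Idx F) : Matrix p.1.Idx p.1.Idx F) = p.1.x F (p.1.neg (p.1.simple (p.2.getD i 0))) t) := by
  simp only [List.mem_cons, List.not_mem_nil, or_false] at hp
  rcases hp with rfl | rfl | rfl
  · have hF := Cfsg.Agent.Lib.Helper24.facts_all Cfsg.Lie.chevE6 (by simp)
    have hfix := Cfsg.Agent.Lib.Helper24.graphFix_E6
    simp only [Cfsg.Agent.Lib.Helper24.simpleFixOK, List.all_eq_true, List.mem_range, Bool.and_eq_true,
      decide_eq_true_eq, Cfsg.Agent.Lib.Helper24.nbeq_true] at hfix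
    obtain ⟨α, hα⟩ := hF.exists_graph_aut (F := F) _ _ _ _ Cfsg.Agent.Lib.Helper24.graphInv_E6
      Cfsg.Agent.Lib.Helper24.graphConj_E6
      (fun r hr => by
        have := Cfsg.Agent.Lib.Helper24.allBelow_elim _ _ Cfsg.Agent.Lib.Helper24.graphPerm_E6 r hr
        simp only [Bool.and_eq_true, Nat.blt_eq, Cfsg.Agent.Lib.Helper24.nbeq_true] at this
        exact this)
    refine ⟨α, fun g i t hi => ?_⟩
    obtain ⟨⟨⟨⟨⟨h1, h2⟩, h3⟩, h4⟩, h5⟩, h6⟩ := hfix i hi
    constructor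
    · intro hg
      have := hα g _ t h1 hg
      rw [h3, h5, Int.cast_one, one_mul] at this
      exact this
    · intro hg
      have := hα g _ t h2 hg
      rw [h4, h6, Int.cast_one, one_mul] at this
      exact this
  · have hF := Cfsg.Agent.Lib.Helper24.facts_all Cfsg.Lie.chevD4 (by simp)
    have hfix := Cfsg.Agent.Lib.Helper24.graphFix_D4a
    simp only [Cfsg.Agent.Lib.Helper24.simpleFixOK, List.all_eq_true, List.mem_range, Bool.and_eq_true,
      decide_eq_true_eq, Cfsg.Agent.Lib.Helper24.nbeq_true] at hfix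
    obtain ⟨α, hα⟩ := hF.exists_graph_aut (F := F) _ _ _ _ Cfsg.Agent.Lib.Helper24.graphInv_D4a
      Cfsg.Agent.Lib.Helper24.graphConj_D4a
      (fun r hr => by
        have := Cfsg.Agent.Lib.Helper24.allBelow_elim _ _ Cfsg.Agent.Lib.Helper24.graphPerm_D4a r hr
        simp only [Bool.and_eq_true, Nat.blt_eq, Cfsg.Agent.Lib.Helper24.nbeq_true] at this
        exact this)
    refine ⟨α, fun g i t hi => ?_⟩
    obtain ⟨⟨⟨⟨⟨h1, h2⟩, h3⟩, h4⟩, h5⟩, h6⟩ := hfix i hi
    constructor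
    · intro hg
      have := hα g _ t h1 hg
      rw [h3, h5, Int.cast_one, one_mul] at this
      exact this
    · intro hg
      have := hα g _ t h2 hg
      rw [h4, h6, Int.cast_one, one_mul] at this
      exact this
  · have hF := Cfsg.Agent.Lib.Helper24.facts_all Cfsg.Lie.chevD4 (by simp)
    have hfix := Cfsg.Agent.Lib.Helper24.graphFix_D4b
    simp only [Cfsg.Agent.Lib.Helper24.simpleFixOK, List.all_eq_true, List.mem_range, Bool.and_eq_true,
      decide_eq_true_eq, Cfsg.Agent.Lib.Helper24.nbeq_true] at hfix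
    obtain ⟨α, hα⟩ := hF.exists_graph_aut (F := F) _ _ _ _ Cfsg.Agent.Lib.Helper24.graphInv_D4b
      Cfsg.Agent.Lib.Helper24.graphConj_D4b
      (fun r hr => by
        have := Cfsg.Agent.Lib.Helper24.allBelow_elim _ _ Cfsg.Agent.Lib.Helper24.graphPerm_D4b r hr
        simp only [Bool.and_eq_true, Nat.blt_eq, Cfsg.Agent.Lib.Helper24.nbeq_true] at this
        exact this)
    refine ⟨α, fun g i t hi => ?_⟩
    obtain ⟨⟨⟨⟨⟨h1, h2⟩, h3⟩, h4⟩, h5⟩, h6⟩ := hfix i hi
    constructor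
    · intro hg
      have := hα g _ t h1 hg
      rw [h3, h5, Int.cast_one, one_mul] at this
      exact this
    · intro hg
      have := hα g _ t h2 hg
      rw [h4, h6, Int.cast_one, one_mul] at this
      exact this

end Cfsg.Agent.S1081
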