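import Cfsg.Statements.S1086
import Cfsg.Agent.Lib.Helper24.TwId_E6

set_option autoImplicit false
open Cfsg

namespace Cfsg.Agent.S1086

/-- |U¹| = |G¹ ∩ U| = q ^ 36 for ²E₆(q). -/
theorem result {K : Type*} [Field K] [Fintype K] {q : ℕ} (hq : IsPrimePow q) (hK : Fintype.card K = q ^ 2) :
    Nat.card ↥(Cfsg.Lie.chevE6.posUnipotent K ⊓ Cfsg.Lie.twistedE6 K q) = q ^ 36 := by
  have hq1 : 1 < q := hq.one_lt
  obtain ⟨f, hf⟩ := Cfsg.Agent.Lib.Helper24.exists_frobQ hq hK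
  have hff : ∀ t : K, (t ^ q) ^ q = t := fun t => by
    rw [← pow_mul, ← pow_two]; exact Cfsg.Agent.Lib.Helper24.pow_card_pow_eq hK t
  rw [Cfsg.Agent.Lib.Helper24.twisted_eq_E6 q f hf hff]
  have e : Cfsg.Lie.chevE6.posUnipotent K ⊓
      (Cfsg.Agent.Lib.Helper24.twE6 K f).G1 (Cfsg.Agent.Lib.Helper24.fundOf Cfsg.Lie.chevE6
        Cfsg.Agent.Lib.Helper24.twFd_E6) =
      Cfsg.Lie.chevE6.posUnipotent K ⊓ (Cfsg.Agent.Lib.Helper24.twE6 K f).Fx :=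
    le_antisymm (inf_le_inf_left _ (Cfsg.Agent.Lib.Helper24.twLeFx_E6 K f))
      (le_inf inf_le_left (Cfsg.Agent.Lib.Helper24.twFixLe_E6 K f))
  rw [e, (Cfsg.Agent.Lib.Helper24.twU_E6 K f).card_fix q
    (Cfsg.Agent.Lib.Helper24.twPar_E6 f hq1 hK hf)]
  congr 1
  simp [Cfsg.Agent.Lib.Helper24.twExp, Cfsg.Agent.Lib.Helper24.twHd_E6]

end Cfsg.Agent.S1086
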