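import Cfsg.Statements.S1098
import Cfsg.Agent.Lib.Helper37.GraphAutFinal

set_option autoImplicit false
open Cfsg
set_option linter.unusedSimpArgs false

namespace Cfsg.Agent.S1098

/-- Graph automorphisms in characteristic 2 (K perfect): for B₂ (a short, b long) `x_a(t) ↦ x_b(t²)`, `x_b(t) ↦ x_a(t)`, and for F₄ (p₁, p₂ short, p₃, p₄ long) `x_{p₁}(t) ↦ x_{p₄}(t²)`, `x_{p₂}(t) ↦ x_{p₃}(t²)`, `x_{p₃}(t) ↦ x_{p₂}(t)`, `x_{p₄}(t) ↦ x_{p₁}(t)`, likewise on the negatives, extend to an automorphism of the group. -/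
theorem result {K : Type*} [Field K] [CharP K 2] (hperf : ∀ x : K, ∃ y : K, y ^ 2 = x)
    (p : Cfsg.Lie.ChevalleyDatum × List (ℕ × ℕ))
    (hp : p ∈ [(Cfsg.Lie.chevB2, [(1, 2), (0, 1)]), (Cfsg.Lie.chevF4, [(3, 2), (2, 2), (1, 1), (0, 1)])]) :
    ∃ α : ↥(p.1.group K) ≃* ↥(p.1.group K), ∀ (g : ↥(p.1.group K)) (i : ℕ) (t : K), i < p.1.rank →
      (((g : GL p.1.Idx K) : Matrix p.1.Idx p.1.Idx K) = p.1.x K (p.1.simple i) t →
        ((α g : GL p.1.Idx K) : Matrix p.1.Idx p.1.Idx K) = p.1.x K (p.1.simple (p.2.getD i (0, 1)).1) (t ^ (p.2.getD i (0, 1)).2)) ∧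
      (((g : GL p.1.Idx K) : Matrix p.1.Idx p.1.Idx K) = p.1.x K (p.1.neg (p.1.simple i)) t →
        ((α g : GL p.1.Idx K) : Matrix p.1.Idx p.1.Idx K) = p.1.x K (p.1.neg (p.1.simple (p.2.getD i (0, 1)).1)) (t ^ (p.2.getD i (0, 1)).2)) := by
  simp only [List.mem_cons, List.not_mem_nil, or_false] at hp
  rcases hp with rfl | rfl
  · obtain ⟨α, hα⟩ := Cfsg.Agent.Lib.Helper37.GraphAut.graphB2 (K := K) hperf
    refine ⟨α, ?_⟩
    intro g i t hi
    have hi' : i < 2 := hi
    interval_cases i
    · -- i = 0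
      refine ⟨fun hg => ?_, fun hg => ?_⟩
      · have := hα g ⟨5, by decide⟩ t hg
        have e1 : ((Cfsg.Agent.Lib.Helper37.GraphAut.dataB2).σR ⟨5, by decide⟩).val = Cfsg.Lie.chevB2.simple 1 := by decide
        have e2 : (Cfsg.Agent.Lib.Helper37.GraphAut.dataB2).ex ⟨5, by decide⟩ = true := by decide
        rw [e1, e2] at this
        simp only [if_true, if_false, Bool.false_eq_true] at this
        exact this
      · have := hα g ⟨2, by decide⟩ t hg
        have e1 : ((Cfsg.Agent.Lib.Helper37.GraphAut.dataB2).σR ⟨2, by decide⟩).val = Cfsg.Lie.chevB2.neg (Cfsg.Lie.chevB2.simple 1) := by decide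
        have e2 : (Cfsg.Agent.Lib.Helper37.GraphAut.dataB2).ex ⟨2, by decide⟩ = true := by decide
        rw [e1, e2] at this
        simp only [if_true, if_false, Bool.false_eq_true] at this
        exact this
    · -- i = 1
      refine ⟨fun hg => ?_, fun hg => ?_⟩
      · have := hα g ⟨4, by decide⟩ t hg
        have e1 : ((Cfsg.Agent.Lib.Helper37.GraphAut.dataB2).σR ⟨4, by decide⟩).val = Cfsg.Lie.chevB2.simple 0 := by decide
        have e2 : (Cfsg.Agent.Lib.Helper37.GraphAut.dataB2).ex ⟨4, by decide⟩ = false := by decide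
        rw [e1, e2] at this
        simp only [if_true, if_false, Bool.false_eq_true] at this
        exact this
      · have := hα g ⟨3, by decide⟩ t hg
        have e1 : ((Cfsg.Agent.Lib.Helper37.GraphAut.dataB2).σR ⟨3, by decide⟩).val = Cfsg.Lie.chevB2.neg (Cfsg.Lie.chevB2.simple 0) := by decide
        have e2 : (Cfsg.Agent.Lib.Helper37.GraphAut.dataB2).ex ⟨3, by decide⟩ = false := by decide
        rw [e1, e2] at this
        simp only [if_true, if_false, Bool.false_eq_true] at this
        exact this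
  · obtain ⟨α, hα⟩ := Cfsg.Agent.Lib.Helper37.GraphAut.graphF4 (K := K) hperf
    refine ⟨α, ?_⟩
    intro g i t hi
    have hi' : i < 4 := hi
    interval_cases i
    · -- i = 0
      refine ⟨fun hg => ?_, fun hg => ?_⟩
      · have := hα g ⟨33, by decide⟩ t hg
        have e1 : ((Cfsg.Agent.Lib.Helper37.GraphAut.dataF4).σR ⟨33, by decide⟩).val = Cfsg.Lie.chevF4.simple 3 := by decide
        have e2 : (Cfsg.Agent.Lib.Helper37.GraphAut.dataF4).ex ⟨33, by decide⟩ = true := by decide
        rw [e1, e2] at this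
        simp only [if_true, if_false, Bool.false_eq_true] at this
        exact this
      · have := hα g ⟨14, by decide⟩ t hg
        have e1 : ((Cfsg.Agent.Lib.Helper37.GraphAut.dataF4).σR ⟨14, by decide⟩).val = Cfsg.Lie.chevF4.neg (Cfsg.Lie.chevF4.simple 3) := by decide
        have e2 : (Cfsg.Agent.Lib.Helper37.GraphAut.dataF4).ex ⟨14, by decide⟩ = true := by decide
        rw [e1, e2] at this
        simp only [if_true, if_false, Bool.false_eq_true] at this
        exact this
    · -- i = 1
      refine ⟨fun hg => ?_, fun hg => ?_⟩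
      · have := hα g ⟨27, by decide⟩ t hg
        have e1 : ((Cfsg.Agent.Lib.Helper37.GraphAut.dataF4).σR ⟨27, by decide⟩).val = Cfsg.Lie.chevF4.simple 2 := by decide
        have e2 : (Cfsg.Agent.Lib.Helper37.GraphAut.dataF4).ex ⟨27, by decide⟩ = true := by decide
        rw [e1, e2] at this
        simp only [if_true, if_false, Bool.false_eq_true] at this
        exact this
      · have := hα g ⟨20, by decide⟩ t hg
        have e1 : ((Cfsg.Agent.Lib.Helper37.GraphAut.dataF4).σR ⟨20, by decide⟩).val = Cfsg.Lie.chevF4.neg (Cfsg.Lie.chevF4.simple 2) := by decide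
        have e2 : (Cfsg.Agent.Lib.Helper37.GraphAut.dataF4).ex ⟨20, by decide⟩ = true := by decide
        rw [e1, e2] at this
        simp only [if_true, if_false, Bool.false_eq_true] at this
        exact this
    · -- i = 2
      refine ⟨fun hg => ?_, fun hg => ?_⟩
      · have := hα g ⟨25, by decide⟩ t hg
        have e1 : ((Cfsg.Agent.Lib.Helper37.GraphAut.dataF4).σR ⟨25, by decide⟩).val = Cfsg.Lie.chevF4.simple 1 := by decide
        have e2 : (Cfsg.Agent.Lib.Helper37.GraphAut.dataF4).ex ⟨25, by decide⟩ = false := by decide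
        rw [e1, e2] at this
        simp only [if_true, if_false, Bool.false_eq_true] at this
        exact this
      · have := hα g ⟨22, by decide⟩ t hg
        have e1 : ((Cfsg.Agent.Lib.Helper37.GraphAut.dataF4).σR ⟨22, by decide⟩).val = Cfsg.Lie.chevF4.neg (Cfsg.Lie.chevF4.simple 1) := by decide
        have e2 : (Cfsg.Agent.Lib.Helper37.GraphAut.dataF4).ex ⟨22, by decide⟩ = false := by decide
        rw [e1, e2] at this
        simp only [if_true, if_false, Bool.false_eq_true] at this
        exact this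
    · -- i = 3
      refine ⟨fun hg => ?_, fun hg => ?_⟩
      · have := hα g ⟨24, by decide⟩ t hg
        have e1 : ((Cfsg.Agent.Lib.Helper37.GraphAut.dataF4).σR ⟨24, by decide⟩).val = Cfsg.Lie.chevF4.simple 0 := by decide
        have e2 : (Cfsg.Agent.Lib.Helper37.GraphAut.dataF4).ex ⟨24, by decide⟩ = false := by decide
        rw [e1, e2] at this
        simp only [if_true, if_false, Bool.false_eq_true] at this
        exact this
      · have := hα g ⟨23, by decide⟩ t hg
        have e1 : ((Cfsg.Agent.Lib.Helper37.GraphAut.dataF4).σR ⟨23, by decide⟩).val = Cfsg.Lie.chevF4.neg (Cfsg.Lie.chevF4.simple 0) := by decide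
        have e2 : (Cfsg.Agent.Lib.Helper37.GraphAut.dataF4).ex ⟨23, by decide⟩ = false := by decide
        rw [e1, e2] at this
        simp only [if_true, if_false, Bool.false_eq_true] at this
        exact this

end Cfsg.Agent.S1098
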