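import Cfsg.Statements.S1099
import Cfsg.Agent.Lib.Helper37.GraphAutG2
import Cfsg.Agent.Lib.Helper24.FactsAll
import Cfsg.Agent.S1055

set_option autoImplicit false
open Cfsg
set_option linter.unusedSimpArgs false

namespace Cfsg.Agent.S1099

/-- Graph automorphism of G₂ in characteristic 3 (K perfect): `x_a(t) ↦ x_b(t³)`, `x_b(t) ↦ x_a(t)`, `x_{-a}(t) ↦ x_{-b}(t³)`, `x_{-b}(t) ↦ x_{-a}(t)` extend to an automorphism of the group. -/
theorem result {K : Type*} [Field K] [CharP K 3] (hperf : ∀ x : K, ∃ y : K, y ^ 3 = x) :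
    ∃ α : ↥(Cfsg.Lie.chevG2.group K) ≃* ↥(Cfsg.Lie.chevG2.group K), ∀ (g : ↥(Cfsg.Lie.chevG2.group K)) (t : K),
      (((g : GL Cfsg.Lie.chevG2.Idx K) : Matrix _ _ K) = Cfsg.Lie.chevG2.x K Cfsg.Lie.g2a t →
        ((α g : GL Cfsg.Lie.chevG2.Idx K) : Matrix _ _ K) = Cfsg.Lie.chevG2.x K Cfsg.Lie.g2b (t ^ 3)) ∧
      (((g : GL Cfsg.Lie.chevG2.Idx K) : Matrix _ _ K) = Cfsg.Lie.chevG2.x K Cfsg.Lie.g2b t →
        ((α g : GL Cfsg.Lie.chevG2.Idx K) : Matrix _ _ K) = Cfsg.Lie.chevG2.x K Cfsg.Lie.g2a t) ∧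
      (((g : GL Cfsg.Lie.chevG2.Idx K) : Matrix _ _ K) = Cfsg.Lie.chevG2.x K Cfsg.Lie.g2ma t →
        ((α g : GL Cfsg.Lie.chevG2.Idx K) : Matrix _ _ K) = Cfsg.Lie.chevG2.x K Cfsg.Lie.g2mb (t ^ 3)) ∧
      (((g : GL Cfsg.Lie.chevG2.Idx K) : Matrix _ _ K) = Cfsg.Lie.chevG2.x K Cfsg.Lie.g2mb t →
        ((α g : GL Cfsg.Lie.chevG2.Idx K) : Matrix _ _ K) = Cfsg.Lie.chevG2.x K Cfsg.Lie.g2ma t) := by
  classical
  have hD : Cfsg.Lie.chevG2 ∈ [Cfsg.Lie.chevG2, Cfsg.Lie.chevB2, Cfsg.Lie.chevD4, Cfsg.Lie.chevF4,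
      Cfsg.Lie.chevE6, Cfsg.Lie.chevE7, Cfsg.Lie.chevE8] := by simp
  have hF := Cfsg.Agent.Lib.Helper24.facts_all Cfsg.Lie.chevG2 hD
  have h3 : (3 : K) = 0 := by
    have := CharP.cast_eq_zero K 3
    exact_mod_cast this
  have hK : ∃ a : K, a ≠ 0 ∧ a ≠ 1 := by
    refine ⟨-1, by simp, ?_⟩
    intro h
    have h2 : (2 : K) = 0 := by
      have : (1 : K) + 1 = 0 := by nth_rewrite 1 [← h]; simp
      rw [← this]; norm_num
    have : (1 : K) = 0 := by
      have e : (1 : K) = 3 - 2 := by norm_num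
      rw [e, h3, h2, sub_zero]
    exact one_ne_zero this
  have hsimple : IsSimpleGroup ↥(Cfsg.Lie.chevG2.group K) := (Cfsg.Agent.S1055.result hK).1
  have : CharP K (Cfsg.Agent.Lib.Helper37.GraphAut.dataG2).p := (inferInstance : CharP K 3)
  have hfaith := Cfsg.Agent.Lib.Helper37.GraphAut.faithful_of_simple' (K := K)
    Cfsg.Agent.Lib.Helper37.GraphAut.dataG2 hF Cfsg.Agent.Lib.Helper37.GraphAut.chkAll_G2
    Cfsg.Agent.Lib.Helper37.GraphAut.chkB_G2 hsimple ⟨7, by decide⟩ ⟨4, by decide⟩ (by decide) (by decide)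
    (by decide) (by decide)
  obtain ⟨α, hsurj, hα⟩ := Cfsg.Agent.Lib.Helper37.GraphAut.exists_graph_hom (K := K)
    Cfsg.Agent.Lib.Helper37.GraphAut.dataG2 hF (Or.inr rfl) Cfsg.Agent.Lib.Helper37.GraphAut.chkAll_G2
    Cfsg.Agent.Lib.Helper37.GraphAut.chkB_G2 Cfsg.Agent.Lib.Helper37.GraphAut.chkR_G2 hperf hfaith
  have hinj : Function.Injective α :=
    Cfsg.Agent.Lib.Helper37.GraphAut.injective_of_simple hsimple α hsurj
  refine ⟨MulEquiv.ofBijective α ⟨hinj, hsurj⟩, ?_⟩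
  intro g t
  have key : ∀ (r : Fin Cfsg.Lie.chevG2.nroots) (s : K),
      ((g : GL Cfsg.Lie.chevG2.Idx K) : Matrix _ _ K) = Cfsg.Lie.chevG2.x K r.val s →
      ((α g : GL Cfsg.Lie.chevG2.Idx K) : Matrix _ _ K) =
        Cfsg.Lie.chevG2.x K ((Cfsg.Agent.Lib.Helper37.GraphAut.dataG2).σR r).val
          (s ^ (if (Cfsg.Agent.Lib.Helper37.GraphAut.dataG2).ex r then 3 else 1)) := by
    intro r s hg
    rw [Cfsg.Agent.Lib.Helper37.GraphAut.x_of_fin] at hg ⊢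
    exact hα g r s hg
  refine ⟨fun hg => ?_, fun hg => ?_, fun hg => ?_, fun hg => ?_⟩
  · have := key ⟨7, by decide⟩ t hg
    have e1 : ((Cfsg.Agent.Lib.Helper37.GraphAut.dataG2).σR ⟨7, by decide⟩).val = Cfsg.Lie.g2b := by decide
    have e2 : (Cfsg.Agent.Lib.Helper37.GraphAut.dataG2).ex ⟨7, by decide⟩ = true := by decide
    rw [e1, e2] at this
    simp only [if_true, if_false, Bool.false_eq_true, pow_one] at this
    exact this
  · have := key ⟨6, by decide⟩ t hg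
    have e1 : ((Cfsg.Agent.Lib.Helper37.GraphAut.dataG2).σR ⟨6, by decide⟩).val = Cfsg.Lie.g2a := by decide
    have e2 : (Cfsg.Agent.Lib.Helper37.GraphAut.dataG2).ex ⟨6, by decide⟩ = false := by decide
    rw [e1, e2] at this
    simp only [if_true, if_false, Bool.false_eq_true, pow_one] at this
    exact this
  · have := key ⟨4, by decide⟩ t hg
    have e1 : ((Cfsg.Agent.Lib.Helper37.GraphAut.dataG2).σR ⟨4, by decide⟩).val = Cfsg.Lie.g2mb := by decide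
    have e2 : (Cfsg.Agent.Lib.Helper37.GraphAut.dataG2).ex ⟨4, by decide⟩ = true := by decide
    rw [e1, e2] at this
    simp only [if_true, if_false, Bool.false_eq_true, pow_one] at this
    exact this
  · have := key ⟨5, by decide⟩ t hg
    have e1 : ((Cfsg.Agent.Lib.Helper37.GraphAut.dataG2).σR ⟨5, by decide⟩).val = Cfsg.Lie.g2ma := by decide
    have e2 : (Cfsg.Agent.Lib.Helper37.GraphAut.dataG2).ex ⟨5, by decide⟩ = false := by decide
    rw [e1, e2] at this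
    simp only [if_true, if_false, Bool.false_eq_true, pow_one] at this
    exact this

end Cfsg.Agent.S1099
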