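import Cfsg.Statements.S1118
import Cfsg.Agent.Lib.Helper25.RankOne

set_option autoImplicit false
open Cfsg

namespace Cfsg.Agent.S1118

open Cfsg.Agent.Lib.Helper25 MulAction

theorem result {G Ω : Type*} [Group G] [Finite G] [MulAction G Ω] {a : Ω} {t : G} {Q : Subgroup G}
    (hS : Cfsg.IsRankOneSetup G Ω a t Q) :
    (∀ X : Set G, X ⊆ (Q : Set G) → (∃ x ∈ X, x ≠ 1) → Subgroup.normalizer X ≤ MulAction.stabilizer G a) ∧
      Subgroup.normalizer (Q : Set G) = MulAction.stabilizer G a ∧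
      Subgroup.normalizer (MulAction.stabilizer G a : Set G) = MulAction.stabilizer G a := by
  have h1 : ∀ X : Set G, X ⊆ (Q : Set G) → (∃ x ∈ X, x ≠ 1) →
      Subgroup.normalizer X ≤ MulAction.stabilizer G a := by
    rintro X hXQ ⟨x, hxX, hx1⟩ g hg
    have hg' : ∀ n, n ∈ X ↔ g * n * g⁻¹ ∈ X := hg
    exact ro_conj_mem_stab hS (hXQ hxX) hx1 (hXQ ((hg' x).mp hxX))
  obtain ⟨x₀, hx₀Q, hx₀1⟩ := ro_Q_ne_bot hS
  refine ⟨h1, ?_, ?_⟩
  · apply le_antisymm
    · exact h1 Q (le_refl _) ⟨x₀, hx₀Q, hx₀1⟩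
    · intro h hh
      show ∀ n, n ∈ (Q : Set G) ↔ h * n * h⁻¹ ∈ (Q : Set G)
      intro n
      constructor
      · intro hn
        exact hS.conj_mem h hh n hn
      · intro hn
        have := hS.conj_mem h⁻¹ (Subgroup.inv_mem _ hh) _ hn
        have e : h⁻¹ * (h * n * h⁻¹) * h⁻¹⁻¹ = n := by group
        rwa [e] at this
  · apply le_antisymm
    · intro g hg
      have hg' : ∀ n, n ∈ (stabilizer G a : Set G) ↔ g * n * g⁻¹ ∈ (stabilizer G a : Set G) := hg
      have h2 : g * x₀ * g⁻¹ ∈ stabilizer G a := (hg' x₀).mp (hS.le hx₀Q)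
      rw [mem_stabilizer_iff, mul_smul, mul_smul] at h2
      have h3 : x₀ • g⁻¹ • a = g⁻¹ • a := by
        rw [eq_inv_smul_iff]; exact h2
      have h4 : g⁻¹ • a = a := ro_Q_fix_only hS hx₀Q hx₀1 h3
      rw [mem_stabilizer_iff]
      rw [inv_smul_eq_iff] at h4
      exact h4.symm
    · exact Subgroup.le_normalizer

end Cfsg.Agent.S1118
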