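import Cfsg.Statements.S1120
import Cfsg.Agent.Lib.Helper25.RankOneInvol

set_option autoImplicit false
open Cfsg

namespace Cfsg.Agent.S1120

open Cfsg.Agent.Lib.Helper25 MulAction

section
variable {G Ω : Type*} [Group G] [Finite G] [MulAction G Ω] {a : Ω} {t : G} {Q : Subgroup G}

/-- A normal subgroup of odd order fixes the common fixed point of a Klein four-group. -/
theorem normal_odd_le_stab (hS : Cfsg.IsRankOneSetup G Ω a t Q) {x y : G} (hx1 : x ≠ 1) (hy1 : y ≠ 1)
    (hxy : x ≠ y) (hxx : x * x = 1) (hyy : y * y = 1) (hcomm : x * y = y * x)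
    (N : Subgroup G) [N.Normal] (hN : Odd (Nat.card N)) {c : Ω} (hc : x • c = c) :
    N ≤ stabilizer G c := by
  have hyc : y • c = c := by
    apply ro_invol_unique_fixed hS hx1 hxx _ hc
    rw [← mul_smul, hcomm, mul_smul, hc]
  have hxinv : x⁻¹ = x := inv_of_mul_self hxx
  have hyinv : y⁻¹ = y := inv_of_mul_self hyy
  -- z = x * y is an involution, hence not in N
  have hzz : (x * y) * (x * y) = 1 := by
    calc x * y * (x * y) = x * (y * x) * y := by group
      _ = x * (x * y) * y := by rw [hcomm]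
      _ = (x * x) * (y * y) := by group
      _ = 1 := by rw [hxx, hyy, one_mul]
  have hz1 : x * y ≠ 1 := by
    intro h
    apply hxy
    have : y = x⁻¹ := (inv_eq_of_mul_eq_one_right h).symm
    rw [this, hxinv]
  have hzN : x * y ∉ N := by
    intro h
    have : Fact (Nat.Prime 2) := ⟨Nat.prime_two⟩
    have h2 : orderOf (x * y) = 2 := orderOf_eq_prime (by rw [pow_two]; exact hzz) hz1
    have h3 := Subgroup.orderOf_dvd_natCard N h
    rw [h2] at h3
    rw [Nat.odd_iff] at hN
    omega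
  intro g hg
  rw [mem_stabilizer_iff]
  -- y' = g⁻¹ y g
  have hy'y' : (g⁻¹ * y * g) * (g⁻¹ * y * g) = 1 := by
    have : (g⁻¹ * y * g) * (g⁻¹ * y * g) = g⁻¹ * (y * y) * g := by group
    rw [this, hyy]; group
  have hy'1 : g⁻¹ * y * g ≠ 1 := by
    intro h
    apply hy1
    have : y = g * (g⁻¹ * y * g) * g⁻¹ := by group
    rw [this, h]; group
  have hy'fix : (g⁻¹ * y * g) • (g⁻¹ • c) = g⁻¹ • c := by
    rw [mul_smul, mul_smul, smul_inv_smul, hyc]
  -- the order of x * y' is even
  have heven : Even (orderOf (x * (g⁻¹ * y * g))) := by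
    have h1 : (QuotientGroup.mk' N) (x * (g⁻¹ * y * g)) = (QuotientGroup.mk' N) (x * y) := by
      have hg1 : (QuotientGroup.mk' N) g = 1 := (QuotientGroup.eq_one_iff g).mpr hg
      simp only [map_mul, map_inv, hg1, inv_one, one_mul, mul_one]
    have h2 : orderOf ((QuotientGroup.mk' N) (x * y)) = 2 := by
      have : Fact (Nat.Prime 2) := ⟨Nat.prime_two⟩
      apply orderOf_eq_prime
      · rw [pow_two, ← map_mul, hzz, map_one]
      · intro h
        exact hzN ((QuotientGroup.eq_one_iff _).mp h)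
    have h3 := orderOf_map_dvd (QuotientGroup.mk' N) (x * (g⁻¹ * y * g))
    rw [h1, h2] at h3
    exact even_iff_two_dvd.mpr h3
  obtain ⟨w, hw1, hww, hxw, hyw⟩ := dih_even_central hxx hy'y' (orderOf_pos _) heven
  have hwc : w • c = c := by
    apply ro_invol_unique_fixed hS hx1 hxx _ hc
    rw [← mul_smul, hxw, mul_smul, hc]
  have hwgc : w • (g⁻¹ • c) = g⁻¹ • c := by
    apply ro_invol_unique_fixed hS hy'1 hy'y' _ hy'fix
    rw [← mul_smul, hyw, mul_smul, hy'fix]
  have := ro_invol_unique_fixed hS hw1 hww hwc hwgc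
  rw [eq_inv_smul_iff] at this
  exact this

end

theorem result {G Ω : Type*} [Group G] [Finite G] [MulAction G Ω] {a : Ω} {t : G} {Q : Subgroup G}
    (hS : Cfsg.IsRankOneSetup G Ω a t Q)
    (h2 : ∃ x y : G, x ≠ 1 ∧ y ≠ 1 ∧ x ≠ y ∧ x * x = 1 ∧ y * y = 1 ∧ x * y = y * x) :
    Cfsg.pPrimeCore 2 G = (MulAction.stabilizer G a).normalCore := by
  obtain ⟨x, y, hx1, hy1, hxy, hxx, hyy, hcomm⟩ := h2
  have := ro_pretransitive hS
  apply le_antisymm
  · apply sSup_le
    rintro N ⟨hNn, hNc⟩
    have hNodd : Odd (Nat.card N) := Nat.coprime_two_right.mp hNc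
    rw [Subgroup.normal_le_normalCore]
    obtain ⟨c, hc⟩ := ro_invol_exists_fixed hS hxx
    have h1 := normal_odd_le_stab hS hx1 hy1 hxy hxx hyy hcomm N hNodd hc
    obtain ⟨h, rfl⟩ := exists_smul_eq G c a
    intro n hn
    rw [mem_stabilizer_iff]
    have h3 : h⁻¹ * n * h ∈ N := by
      have := hNn.conj_mem n hn h⁻¹
      rwa [inv_inv] at this
    have h4 := h1 h3
    rw [mem_stabilizer_iff, mul_smul, mul_smul, inv_smul_eq_iff] at h4
    exact h4
  · apply le_sSup
    refine ⟨Subgroup.normalCore_normal _, ?_⟩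
    rw [Nat.coprime_two_right]
    have hle : (stabilizer G a).normalCore ≤ stabilizer G a ⊓ stabilizer G (t • a) := by
      intro n hn
      refine ⟨Subgroup.normalCore_le _ hn, ?_⟩
      show n ∈ stabilizer G (t • a)
      have h1 : t⁻¹ * n * t⁻¹⁻¹ ∈ (stabilizer G a).normalCore :=
        (Subgroup.normalCore_normal _).conj_mem n hn t⁻¹
      have h2 := Subgroup.normalCore_le _ h1
      rw [mem_stabilizer_iff, inv_inv, mul_smul, mul_smul, inv_smul_eq_iff] at h2
      exact mem_stabilizer_iff.mpr h2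
    have hdvd := Subgroup.card_dvd_of_le hle
    exact hS.odd_card.of_dvd_nat hdvd

end Cfsg.Agent.S1120
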