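import Cfsg.Statements.S1122
import Cfsg.Agent.Lib.Helper25.RankOneInvol

set_option autoImplicit false
set_option linter.unusedSimpArgs false
open Cfsg

namespace Cfsg.Agent.S1122

open Cfsg.Agent.Lib.Helper25 MulAction

section
variable {G Ω : Type*} [Group G] [Finite G] [MulAction G Ω] {a : Ω} {t : G} {Q : Subgroup G}

/-- there is an involution in `G_a` -/
theorem exists_invol (hS : Cfsg.IsRankOneSetup G Ω a t Q) :
    ∃ s, s ∈ Cfsg.involutionsIn (stabilizer G a : Set G) := by
  have : Fact (Nat.Prime 2) := ⟨Nat.prime_two⟩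
  obtain ⟨⟨x, hx⟩, hx2⟩ := exists_prime_orderOf_dvd_card' (G := Q) 2 (even_iff_two_dvd.mp hS.even_card)
  have hx2' : orderOf x = 2 := by
    rw [← hx2]
    exact Subgroup.orderOf_coe (⟨x, hx⟩ : Q)
  refine ⟨x, hS.le hx, ?_, ?_⟩
  · intro h
    rw [h, orderOf_one] at hx2'
    omega
  · rw [← pow_two, ← hx2', pow_orderOf_eq_one]

/-- Key lemma: for involutions `s, s'` of `G_a` there is `w` such that the elements `k` of `K` with
`k⁻¹ s k = s'` are exactly `w t`. -/
theorem key (hS : Cfsg.IsRankOneSetup G Ω a t Q) {s s' : G}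
    (hs : s ∈ Cfsg.involutionsIn (stabilizer G a : Set G))
    (hs' : s' ∈ Cfsg.involutionsIn (stabilizer G a : Set G)) :
    ∃ k₀ ∈ Cfsg.invertedBy (stabilizer G a ⊓ stabilizer G (t • a)) t, k₀⁻¹ * s * k₀ = s' ∧
      ∀ k ∈ Cfsg.invertedBy (stabilizer G a ⊓ stabilizer G (t • a)) t, k⁻¹ * s * k = s' → k = k₀ := by
  obtain ⟨hsa, hs1, hss⟩ := hs
  obtain ⟨hs'a, hs'1, hs's'⟩ := hs'
  have hsa' : s • a = a := mem_stabilizer_iff.mp hsa
  have hs'a' : s' • a = a := mem_stabilizer_iff.mp hs'a
  have htt := hS.mul_self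
  have htinv := ro_t_inv hS
  have htt' : ∀ x : G, t * (t * x) = x := fun x => by rw [← mul_assoc, htt, one_mul]
  have htta := ro_tta hS
  -- s'' = t s' t
  have hs''sq : (t * s' * t) * (t * s' * t) = 1 := by
    simp only [mul_assoc, htt']
    rw [← mul_assoc s' s', hs's', one_mul, htt]
  have hs''fix : (t * s' * t) • (t • a) = t • a := by
    simp only [mul_smul]
    rw [htta, hs'a']
  have hs''1 : t * s' * t ≠ 1 := by
    intro h
    apply hs'1
    have : s' = t * (t * s' * t) * t := by simp only [mul_assoc, htt', htt, mul_one]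
    rw [this, h, mul_one, htt]
  have hs''na : t * s' * t ∉ stabilizer G a := by
    intro h
    have := ro_invol_unique_fixed hS hs''1 hs''sq (mem_stabilizer_iff.mp h) hs''fix
    exact ro_ta_ne hS this.symm
  obtain ⟨w, hww, hwsw, hwc⟩ := ro_invol_mid hS hsa hs1 hss hs''na hs''sq
  have hwinv : w⁻¹ = w := inv_of_mul_self hww
  have hww' : ∀ x : G, w * (w * x) = x := fun x => by rw [← mul_assoc, hww, one_mul]
  -- w swaps a and t • a
  have hwa : w • a = t • a := by
    apply ro_invol_unique_fixed hS hs''1 hs''sq _ hs''fix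
    rw [← hwsw]
    simp only [mul_smul]
    rw [← mul_smul w w, hww, one_smul, hsa']
  have hwta : w • t • a = a := by
    rw [← hwa, ← mul_smul, hww, one_smul]
  have hws''w : w * (t * s' * t) * w = s := by
    rw [← hwsw]
    simp only [mul_assoc, hww', hww, mul_one]
  refine ⟨w * t, ⟨⟨?_, ?_⟩, ?_⟩, ?_, ?_⟩
  · show w * t ∈ stabilizer G a
    rw [mem_stabilizer_iff, mul_smul, hwta]
  · show w * t ∈ stabilizer G (t • a)
    rw [mem_stabilizer_iff, mul_smul, htta, hwa]
  · rw [mul_inv_rev, htinv, hwinv]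
    simp only [mul_assoc, htt, mul_one]
  · rw [mul_inv_rev, htinv, hwinv]
    have : t * w * s * (w * t) = t * (w * s * w) * t := by simp only [mul_assoc]
    rw [this, hwsw]
    simp only [mul_assoc, htt', htt, mul_one]
  · rintro k ⟨⟨hka, hkta⟩, hkinv⟩ hk
    have hka' : k • a = a := mem_stabilizer_iff.mp hka
    have hkta' : k • t • a = t • a := mem_stabilizer_iff.mp hkta
    have hkia : k⁻¹ • a = a := by rw [inv_smul_eq_iff]; exact hka'.symm
    have hkita : k⁻¹ • t • a = t • a := by rw [inv_smul_eq_iff]; exact hkta'.symm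
    rw [htinv] at hkinv
    -- u = t k⁻¹
    have hu_inv : t * k⁻¹ * t = k := by
      have : t * k⁻¹ * t = (t * k * t)⁻¹ := by
        rw [mul_inv_rev, mul_inv_rev, htinv, mul_assoc]
      rw [this, hkinv, inv_inv]
    have huu : (t * k⁻¹) * (t * k⁻¹) = 1 := by
      have : (t * k⁻¹) * (t * k⁻¹) = (t * k⁻¹ * t) * k⁻¹ := by simp only [mul_assoc]
      rw [this, hu_inv, mul_inv_cancel]
    have husu : (t * k⁻¹) * s * (k * t) = t * s' * t := by
      rw [← hk]; simp only [mul_assoc]
    have hkt : k * t = t * k⁻¹ := by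
      calc k * t = t * (t * k * t) := by simp only [mul_assoc, htt']
        _ = t * k⁻¹ := by rw [hkinv]
    rw [hkt] at husu
    -- now u := t * k⁻¹ satisfies u*u = 1, u*s*u = s''
    set u := t * k⁻¹ with hu
    have huu' : ∀ x : G, u * (u * x) = x := fun x => by rw [← mul_assoc, huu, one_mul]
    have hus''u : u * (t * s' * t) * u = s := by
      rw [← husu]
      simp only [mul_assoc, huu', huu, mul_one]
    -- c = u * w
    have hcD : u * w ∈ stabilizer G a ⊓ stabilizer G (t • a) := by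
      constructor
      · show u * w ∈ stabilizer G a
        rw [mem_stabilizer_iff, mul_smul, hwa, hu, mul_smul, hkita, htta]
      · show u * w ∈ stabilizer G (t • a)
        rw [mem_stabilizer_iff, mul_smul, hwta, hu, mul_smul, hkia]
    have hcs : (u * w) * s = s * (u * w) := by
      calc u * w * s = u * (w * s * w) * w := by simp only [mul_assoc, hww, mul_one]
        _ = u * (t * s' * t) * w := by rw [hwsw]
        _ = (u * (t * s' * t) * u) * (u * w) := by simp only [mul_assoc, huu']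
        _ = s * (u * w) := by rw [hus''u]
    have hcs'' : (u * w) * (t * s' * t) = (t * s' * t) * (u * w) := by
      calc u * w * (t * s' * t) = u * (w * (t * s' * t) * w) * w := by
            simp only [mul_assoc, hww, mul_one]
        _ = u * s * w := by rw [hws''w]
        _ = (u * s * u) * (u * w) := by simp only [mul_assoc, huu']
        _ = (t * s' * t) * (u * w) := by rw [husu]
    have hcw := hwc (u * w) hcs hcs''
    -- hcw : u * w * w = w * (u * w)
    have hwuw : w * u * w = u := by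
      have : u * w * w = u := by rw [mul_assoc, hww, mul_one]
      rw [← mul_assoc] at hcw
      rw [← hcw, this]
    have hcc : (u * w) * (u * w) = 1 := by
      calc u * w * (u * w) = u * (w * u * w) := by simp only [mul_assoc]
        _ = u * u := by rw [hwuw]
        _ = 1 := huu
    have hc1 := ro_D_sq hS hcD hcc
    have huw : u = w := by
      calc u = u * w * w := by rw [mul_assoc, hww, mul_one]
        _ = w := by rw [hc1, one_mul]
    -- k = w t
    calc k = (t * (t * k⁻¹))⁻¹ := by rw [htt', inv_inv]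
      _ = (t * w)⁻¹ := by rw [← hu, huw]
      _ = w * t := by rw [mul_inv_rev, hwinv, htinv]

end

theorem result {G Ω : Type*} [Group G] [Finite G] [MulAction G Ω] {a : Ω} {t : G} {Q : Subgroup G}
    (hS : Cfsg.IsRankOneSetup G Ω a t Q) :
    Nat.card (Cfsg.invertedBy (MulAction.stabilizer G a ⊓ MulAction.stabilizer G (t • a)) t) = Nat.card (Cfsg.involutionsIn (MulAction.stabilizer G a : Set G)) ∧
      ∀ s ∈ Cfsg.involutionsIn (MulAction.stabilizer G a : Set G), ∀ s' ∈ Cfsg.involutionsIn (MulAction.stabilizer G a : Set G),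
        ∃ k ∈ Cfsg.invertedBy (MulAction.stabilizer G a ⊓ MulAction.stabilizer G (t • a)) t, k⁻¹ * s * k = s' := by
  constructor
  · obtain ⟨s₀, hs₀⟩ := exists_invol hS
    have hmem : ∀ k ∈ Cfsg.invertedBy (stabilizer G a ⊓ stabilizer G (t • a)) t,
        k⁻¹ * s₀ * k ∈ Cfsg.involutionsIn (stabilizer G a : Set G) := by
      rintro k ⟨⟨hka, -⟩, -⟩
      obtain ⟨h1, h2, h3⟩ := hs₀
      refine ⟨Subgroup.mul_mem _ (Subgroup.mul_mem _ (Subgroup.inv_mem _ hka) h1) hka, ?_, ?_⟩
      · intro h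
        apply h2
        have : s₀ = k * (k⁻¹ * s₀ * k) * k⁻¹ := by group
        rw [this, h]; group
      · have : k⁻¹ * s₀ * k * (k⁻¹ * s₀ * k) = k⁻¹ * (s₀ * s₀) * k := by group
        rw [this, h3]; group
    let f : ↥(Cfsg.invertedBy (stabilizer G a ⊓ stabilizer G (t • a)) t) →
        ↥(Cfsg.involutionsIn (stabilizer G a : Set G)) := fun k => ⟨k.1⁻¹ * s₀ * k.1, hmem k.1 k.2⟩
    apply Nat.card_congr
    refine Equiv.ofBijective f ⟨?_, ?_⟩
    · rintro ⟨k, hk⟩ ⟨k', hk'⟩ h
      have h' : k⁻¹ * s₀ * k = k'⁻¹ * s₀ * k' := congrArg Subtype.val h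
      obtain ⟨k₀, -, -, huniq⟩ := key hS hs₀ (hmem k' hk')
      apply Subtype.ext
      show k = k'
      rw [huniq k hk h', huniq k' hk' rfl]
    · rintro ⟨s', hs'⟩
      obtain ⟨k₀, hk₀, hk₀s, -⟩ := key hS hs₀ hs'
      exact ⟨⟨k₀, hk₀⟩, Subtype.ext hk₀s⟩
  · intro s hs s' hs'
    obtain ⟨k₀, hk₀, hk₀s, -⟩ := key hS hs hs'
    exact ⟨k₀, hk₀, hk₀s⟩

end Cfsg.Agent.S1122
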