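import Cfsg.Statements.S1123
import Cfsg.Agent.Lib.Helper25.RankOneInvol

set_option autoImplicit false
set_option linter.unusedSimpArgs false
open Cfsg

namespace Cfsg.Agent.S1123

open Cfsg.Agent.Lib.Helper25 MulAction

theorem result {G Ω : Type*} [Group G] [Finite G] [MulAction G Ω] {a : Ω} {t : G} {Q : Subgroup G}
    (hS : Cfsg.IsRankOneSetup G Ω a t Q) :
    ∃! p : G × G, p.1 ∈ Cfsg.involutionsIn (MulAction.stabilizer G a : Set G) ∧ p.2 ∈ Q ∧
      t * p.1 * t = p.2⁻¹ * t * p.2 := by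
  have htt := hS.mul_self
  have htt' : ∀ x : G, t * (t * x) = x := fun x => by rw [← mul_assoc, htt, one_mul]
  obtain ⟨c, hc⟩ := ro_invol_exists_fixed hS htt
  have hca : c ≠ a := by
    rintro rfl
    exact ro_ta_ne hS hc
  have hcta : c ≠ t • a := by
    rintro rfl
    rw [ro_tta hS] at hc
    exact ro_ta_ne hS hc.symm
  obtain ⟨⟨r, hr⟩, hr1, hr2⟩ := ro_Q_regular hS (ro_ta_ne hS) hca
  have hr1' : r • t • a = c := hr1
  have hrinv : r⁻¹ • c = t • a := by rw [inv_smul_eq_iff]; exact hr1'.symm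
  refine ⟨(t * r⁻¹ * t * r * t, r), ⟨⟨?_, ?_, ?_⟩, hr, ?_⟩, ?_⟩
  · show t * r⁻¹ * t * r * t ∈ stabilizer G a
    rw [mem_stabilizer_iff]
    simp only [mul_smul]
    rw [hr1', hc, hrinv, ro_tta hS]
  · intro h0
    have h : t * r⁻¹ * t * r * t = 1 := h0
    apply hS.ne_one
    have : t = r * (t * (t * r⁻¹ * t * r * t) * t) * r⁻¹ := by
      simp only [mul_assoc, htt', htt, mul_one, mul_inv_cancel_left, mul_inv_cancel]
    rw [this, h]
    simp only [mul_assoc, htt', htt, mul_one, mul_inv_cancel_left, mul_inv_cancel, one_mul]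
  · simp only [mul_assoc, htt', htt, mul_one, mul_inv_cancel_left, mul_inv_cancel, one_mul,
      inv_mul_cancel_left, inv_mul_cancel]
  · simp only [mul_assoc, htt', htt, mul_one, mul_inv_cancel_left, mul_inv_cancel, one_mul,
      inv_mul_cancel_left, inv_mul_cancel]
  · rintro ⟨s', r'⟩ ⟨⟨hs', hs'1, hs's'⟩, hr', heq⟩
    simp only at hs' hs'1 hs's' hr' heq
    have hs'a : s' • a = a := mem_stabilizer_iff.mp hs'
    have h1 : (r'⁻¹ * t * r') • (t • a) = t • a := by
      rw [← heq]
      simp only [mul_smul]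
      rw [ro_tta hS, hs'a]
    have h2 : t • (r' • t • a) = r' • t • a := by
      have := h1
      simp only [mul_smul] at this
      rw [inv_smul_eq_iff] at this
      exact this
    have h3 : r' • t • a = c := ro_invol_unique_fixed hS hS.ne_one htt h2 hc
    have h4 := hr2 ⟨r', hr'⟩ h3
    have h5 : r' = r := congrArg Subtype.val h4
    subst h5
    have h6 : s' = t * (t * s' * t) * t := by
      simp only [mul_assoc, htt', htt, mul_one]
    rw [h6, heq]
    simp only [mul_assoc]

end Cfsg.Agent.S1123
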