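import Cfsg.Statements.S1124

set_option autoImplicit false
open scoped Pointwise
open Cfsg

namespace Cfsg.Agent.S1124

section
variable {M : Type*} [Group M]

theorem decomp (t : M) (ht2 : t * t = 1) (X : Subgroup M) (k : ℕ)
    (hpow : ∀ x ∈ X, x ^ (2 * k + 1) = 1) (hnorm : ∀ x ∈ X, t * x * t⁻¹ ∈ X) (x : M) (hx : x ∈ X) :
    ∃! p : M × M, p.1 ∈ X ⊓ Subgroup.centralizer {t} ∧ p.2 ∈ Cfsg.invertedBy X t ∧ x = p.1 * p.2 := by
  set φ : MulAut M := MulAut.conj t with hφ
  have hφa : ∀ a, φ a = t * a * t⁻¹ := fun a => MulAut.conj_apply t a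
  have hφφ : ∀ a, φ (φ a) = a := by
    intro a
    rw [hφ, ← MulAut.mul_apply, ← map_mul, ht2, map_one, MulAut.one_apply]
  set u : M := (φ x)⁻¹ * x with hu
  have huX : u ∈ X := X.mul_mem (X.inv_mem (by rw [hφa]; exact hnorm x hx)) hx
  have hphiu : φ u = u⁻¹ := by
    rw [hu, map_mul, map_inv, hφφ, mul_inv_rev, inv_inv]
  set z : M := u ^ (k + 1) with hz
  have hzX : z ∈ X := X.pow_mem huX _
  have hzz : z * z = u := by
    rw [hz, ← pow_add, show k + 1 + (k + 1) = (2 * k + 1) + 1 by ring, pow_succ, hpow u huX, one_mul]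
  have hphiz : φ z = z⁻¹ := by
    rw [hz, map_pow, hphiu, inv_pow]
  have hkey : φ x * z = x * z⁻¹ := by
    have : φ x * (z * z) = x := by rw [hzz, hu]; group
    calc φ x * z = φ x * (z * z) * z⁻¹ := by group
      _ = x * z⁻¹ := by rw [this]
  have hcent : ∀ y : M, y ∈ Subgroup.centralizer {t} ↔ φ y = y := by
    intro y
    rw [Subgroup.mem_centralizer_iff]
    constructor
    · intro h
      rw [hφa, h t rfl]; group
    · intro h g hg
      rw [Set.mem_singleton_iff] at hg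
      subst hg
      rw [hφa] at h
      calc g * y = g * y * g⁻¹ * g := by group
        _ = y * g := by rw [h]
  refine ⟨(x * z⁻¹, z), ⟨?_, ⟨hzX, by rw [← hφa]; exact hphiz⟩, by simp⟩, ?_⟩
  · refine ⟨X.mul_mem hx (X.inv_mem hzX), ?_⟩
    show x * z⁻¹ ∈ Subgroup.centralizer {t}
    rw [hcent, map_mul, map_inv, hphiz, inv_inv, hkey]
  · rintro ⟨y', z'⟩ ⟨⟨hy'X, hy'C⟩, ⟨hz'X, hz'inv⟩, hxyz⟩
    simp only at hy'X hz'X hz'inv hxyz
    have hy'C' : y' ∈ Subgroup.centralizer {t} := hy'C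
    rw [hcent] at hy'C'
    rw [← hφa] at hz'inv
    have hux : u = z' * z' := by
      have : φ x = y' * z'⁻¹ := by
        rw [hxyz, map_mul, hy'C', hz'inv]
      rw [hu, this, hxyz]; group
    have hz'z : z' = z := by
      rw [hz, hux, ← pow_two, ← pow_mul, show 2 * (k + 1) = (2 * k + 1) + 1 by ring, pow_succ,
        hpow z' hz'X, one_mul]
    have hy' : y' = x * z⁻¹ := by rw [hxyz, hz'z]; group
    rw [hy', hz'z]

end

theorem result {M : Type*} [Group M] [Finite M]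
    (t : M) (ht : orderOf t = 2) (X : Subgroup M) (hodd : Odd (Nat.card X))
    (hnorm : ∀ x ∈ X, t * x * t⁻¹ ∈ X) :
    (∀ x ∈ X, ∃! p : M × M, p.1 ∈ X ⊓ Subgroup.centralizer {t} ∧ p.2 ∈ Cfsg.invertedBy X t ∧ x = p.1 * p.2) ∧
      Nat.card X = Nat.card ↥(X ⊓ Subgroup.centralizer {t}) * Nat.card (Cfsg.invertedBy X t) ∧
      ∀ x ∈ X, MulAut.conj x • Subgroup.closure (Cfsg.invertedBy X t) = Subgroup.closure (Cfsg.invertedBy X t) := by
  have ht2 : t * t = 1 := by
    have := pow_orderOf_eq_one t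
    rwa [ht, pow_two] at this
  obtain ⟨k, hk⟩ := hodd
  have hpow : ∀ x ∈ X, x ^ (2 * k + 1) = 1 := by
    intro x hx
    have h := pow_card_eq_one' (G := X) (x := ⟨x, hx⟩)
    rw [hk] at h
    have := congrArg Subtype.val h
    simpa using this
  have hdec := decomp t ht2 X k hpow hnorm
  refine ⟨hdec, ?_, ?_⟩
  · -- cardinality
    rw [← Nat.card_prod]
    symm
    let f : ↥(X ⊓ Subgroup.centralizer {t}) × ↥(Cfsg.invertedBy X t) → X :=
      fun p => ⟨p.1.1 * p.2.1, X.mul_mem p.1.2.1 p.2.2.1⟩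
    apply Nat.card_congr
    refine Equiv.ofBijective f ⟨?_, ?_⟩
    · rintro ⟨⟨y, hy⟩, ⟨z, hz⟩⟩ ⟨⟨y', hy'⟩, ⟨z', hz'⟩⟩ h
      have h' : y * z = y' * z' := congrArg Subtype.val h
      obtain ⟨p, -, hp⟩ := hdec (y * z) (X.mul_mem hy.1 hz.1)
      have h1 := hp (y, z) ⟨hy, hz, rfl⟩
      have h2 := hp (y', z') ⟨hy', hz', h'⟩
      have h3 : (y, z) = (y', z') := h1.trans h2.symm
      simp only [Prod.mk.injEq] at h3
      obtain ⟨rfl, rfl⟩ := h3
      rfl
    · rintro ⟨x, hx⟩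
      obtain ⟨⟨y, z⟩, ⟨hy, hz, hxyz⟩, -⟩ := hdec x hx
      exact ⟨(⟨y, hy⟩, ⟨z, hz⟩), Subtype.ext hxyz.symm⟩
  · -- normality of the closure
    have hYZ : ∀ y ∈ X ⊓ Subgroup.centralizer {t}, ∀ z ∈ Cfsg.invertedBy X t,
        y * z * y⁻¹ ∈ Cfsg.invertedBy X t := by
      rintro y ⟨hyX, hyC⟩ z ⟨hzX, hzinv⟩
      have hyC' : y ∈ Subgroup.centralizer {t} := hyC
      rw [Subgroup.mem_centralizer_iff] at hyC'
      have hyt : t * y = y * t := hyC' t rfl
      have hyphi : t * y * t⁻¹ = y := by rw [hyt]; group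
      refine ⟨X.mul_mem (X.mul_mem hyX hzX) (X.inv_mem hyX), ?_⟩
      have : t * (y * z * y⁻¹) * t⁻¹ = (t * y * t⁻¹) * (t * z * t⁻¹) * (t * y * t⁻¹)⁻¹ := by group
      rw [this, hyphi, hzinv]; group
    have hle : ∀ x ∈ X, MulAut.conj x • Subgroup.closure (Cfsg.invertedBy X t) ≤
        Subgroup.closure (Cfsg.invertedBy X t) := by
      intro x hx
      obtain ⟨⟨y, z⟩, ⟨hy, hz, hxyz⟩, -⟩ := hdec x hx
      simp only at hy hz hxyz
      rw [Subgroup.smul_closure, Subgroup.closure_le]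
      rintro _ ⟨w, hw, rfl⟩
      have hzc : z ∈ Subgroup.closure (Cfsg.invertedBy X t) := Subgroup.subset_closure hz
      have hwc : w ∈ Subgroup.closure (Cfsg.invertedBy X t) := Subgroup.subset_closure hw
      have h1 : z * w * z⁻¹ ∈ Subgroup.closure (Cfsg.invertedBy X t) :=
        Subgroup.mul_mem _ (Subgroup.mul_mem _ hzc hwc) (Subgroup.inv_mem _ hzc)
      have h2 : ∀ v ∈ Subgroup.closure (Cfsg.invertedBy X t),
          y * v * y⁻¹ ∈ Subgroup.closure (Cfsg.invertedBy X t) := by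
        intro v hv
        induction hv using Subgroup.closure_induction with
        | mem v hv => exact Subgroup.subset_closure (hYZ y hy v hv)
        | one => simp
        | mul a b _ _ iha ihb =>
          have : y * (a * b) * y⁻¹ = (y * a * y⁻¹) * (y * b * y⁻¹) := by group
          rw [this]; exact Subgroup.mul_mem _ iha ihb
        | inv a _ iha =>
          have : y * a⁻¹ * y⁻¹ = (y * a * y⁻¹)⁻¹ := by group
          rw [this]; exact Subgroup.inv_mem _ iha
      have h3 := h2 _ h1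
      show (MulAut.conj x) w ∈ _
      rw [MulAut.conj_apply, hxyz]
      have : y * z * w * (y * z)⁻¹ = y * (z * w * z⁻¹) * y⁻¹ := by group
      rw [this]; exact h3
    intro x hx
    apply le_antisymm (hle x hx)
    have h := hle x⁻¹ (X.inv_mem hx)
    intro w hw
    rw [Subgroup.mem_pointwise_smul_iff_inv_smul_mem]
    have : (MulAut.conj x)⁻¹ • w = MulAut.conj x⁻¹ • w := by
      rw [map_inv]
    rw [this]
    apply h
    exact Subgroup.smul_mem_pointwise_smul _ _ _ hw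

end Cfsg.Agent.S1124
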