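import Cfsg.Statements.S1125
import Cfsg.Agent.Lib.Helper26.RankOneInv

set_option autoImplicit false
set_option linter.unusedVariables false
open Cfsg
open Cfsg.Agent.Lib.Helper26

namespace Cfsg.Agent.S1125

theorem result {G Ω : Type*} [Group G] [Finite G] [MulAction G Ω] {a : Ω} {t : G} {Q : Subgroup G}
    (hS : Cfsg.IsRankOneSetup G Ω a t Q)
    (X : Set G) (hX : X ⊆ ((MulAction.stabilizer G a ⊓ MulAction.stabilizer G (t • a)) : Set G))
    (h3 : ∃ b c d : Ω, b ≠ c ∧ b ≠ d ∧ c ≠ d ∧ ∀ x ∈ X, x • b = b ∧ x • c = c ∧ x • d = d) :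
    (∀ b₁ b₂ c₁ c₂ : Ω, (∀ x ∈ X, x • b₁ = b₁ ∧ x • b₂ = b₂ ∧ x • c₁ = c₁ ∧ x • c₂ = c₂) →
        b₁ ≠ b₂ → c₁ ≠ c₂ → ∃ g ∈ Subgroup.centralizer X, g • b₁ = c₁ ∧ g • b₂ = c₂) ∧
      Even (Nat.card ↥(Subgroup.centralizer X ⊓ Q)) ∧
      (Subgroup.centralizer X ⊓ Q) ⊔ (Subgroup.centralizer X ⊓ (MulAction.stabilizer G a ⊓ MulAction.stabilizer G (t • a))) = Subgroup.centralizer X ⊓ MulAction.stabilizer G a := by
  obtain ⟨c₀, hca, hcb, hfix₀⟩ := ro_third_point (a := a) (b := t • a) h3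
  obtain ⟨s, hsc, hss, hsa, hsb⟩ := ro_key hS hX hca hcb hfix₀
  have hXa : ∀ x ∈ X, x • a = a := fun x hx => (ro_mem_D_iff.mp (hX hx)).1
  have hXb : ∀ x ∈ X, x • t • a = t • a := fun x hx => (ro_mem_D_iff.mp (hX hx)).2
  have cent_fix : ∀ g ∈ Subgroup.centralizer X, ∀ p : Ω, (∀ x ∈ X, x • p = p) →
      ∀ x ∈ X, x • g • p = g • p := by
    intro g hg p hp x hx
    rw [← mul_smul, (Subgroup.mem_centralizer_iff.mp hg) x hx, mul_smul, hp x hx]
  have alpha : ∀ p : Ω, (∀ x ∈ X, x • p = p) → ∃ g ∈ Subgroup.centralizer X, g • a = p := by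
    intro p hp
    by_cases hpb : p = t • a
    · exact ⟨s, hsc, by rw [hsa, hpb]⟩
    · obtain ⟨q', -, hq'c, hq'a⟩ := ro_fix_trans' hS hX hpb hp
      exact ⟨q', hq'c, hq'a⟩
  have pair : ∀ p p' : Ω, (∀ x ∈ X, x • p = p) → (∀ x ∈ X, x • p' = p') → p ≠ p' →
      ∃ u ∈ Subgroup.centralizer X, u • a = p ∧ u • t • a = p' := by
    intro p p' hp hp' hne
    obtain ⟨g₁, hg₁c, hg₁a⟩ := alpha p hp
    have h1 : ∀ x ∈ X, x • g₁⁻¹ • p' = g₁⁻¹ • p' := cent_fix _ (inv_mem hg₁c) p' hp'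
    have h2 : g₁⁻¹ • p' ≠ a := by
      intro h
      apply hne
      rw [← hg₁a, ← h, smul_inv_smul]
    obtain ⟨q₁, hq₁Q, hq₁c, hq₁b⟩ := ro_fix_trans hS hX h2 h1
    refine ⟨g₁ * q₁, mul_mem hg₁c hq₁c, ?_, ?_⟩
    · rw [mul_smul, MulAction.mem_stabilizer_iff.mp (hS.le hq₁Q), hg₁a]
    · rw [mul_smul, hq₁b, smul_inv_smul]
  refine ⟨?_, ?_, ?_⟩
  · intro b₁ b₂ c₁ c₂ hfix hb hc
    obtain ⟨u, huc, hu1, hu2⟩ := pair b₁ b₂ (fun x hx => (hfix x hx).1) (fun x hx => (hfix x hx).2.1) hb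
    obtain ⟨v, hvc, hv1, hv2⟩ := pair c₁ c₂ (fun x hx => (hfix x hx).2.2.1) (fun x hx => (hfix x hx).2.2.2) hc
    refine ⟨v * u⁻¹, mul_mem hvc (inv_mem huc), ?_, ?_⟩
    · rw [mul_smul, ← hu1, inv_smul_smul, hv1]
    · rw [mul_smul, ← hu2, inv_smul_smul, hv2]
  · -- an involution in `C_Q(X)`
    have hs1 : s ≠ 1 := by
      intro h; rw [h, one_smul] at hsa; exact ro_ta_ne hS hsa.symm
    obtain ⟨p, hsp, hpu⟩ := ro_invol_fix hS hs1 hss
    have hpfix : ∀ x ∈ X, x • p = p := by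
      intro x hx
      apply hpu
      rw [← mul_smul, ← (Subgroup.mem_centralizer_iff.mp hsc) x hx, mul_smul, hsp]
    obtain ⟨g, hgc, hga⟩ := alpha p hpfix
    have hz1 : g⁻¹ * s * g ≠ 1 := by
      intro h
      apply hs1
      have : s = g * (g⁻¹ * s * g) * g⁻¹ := by group
      rw [this, h]; group
    have hzz : (g⁻¹ * s * g) * (g⁻¹ * s * g) = 1 := by
      have : (g⁻¹ * s * g) * (g⁻¹ * s * g) = g⁻¹ * (s * s) * g := by group
      rw [this, hss]; group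
    have hza : (g⁻¹ * s * g) • a = a := by
      rw [mul_smul, mul_smul, hga, hsp, ← hga, inv_smul_smul]
    have hzQ : g⁻¹ * s * g ∈ Q := ro_invol_mem_Q hS (MulAction.mem_stabilizer_iff.mpr hza) hzz
    have hzc : g⁻¹ * s * g ∈ Subgroup.centralizer X := mul_mem (mul_mem (inv_mem hgc) hsc) hgc
    have hord : orderOf (g⁻¹ * s * g) = 2 := by
      apply orderOf_eq_prime
      · rw [pow_two]; exact hzz
      · exact hz1
    rw [even_iff_two_dvd, ← hord]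
    exact Subgroup.orderOf_dvd_natCard _ (Subgroup.mem_inf.mpr ⟨hzc, hzQ⟩)
  · apply le_antisymm
    · apply sup_le
      · exact inf_le_inf_left _ hS.le
      · exact inf_le_inf_left _ inf_le_left
    · intro g hg
      obtain ⟨hgc, hga⟩ := Subgroup.mem_inf.mp hg
      rw [MulAction.mem_stabilizer_iff] at hga
      have h1 : ∀ x ∈ X, x • g • t • a = g • t • a := cent_fix g hgc _ hXb
      have h2 : g • t • a ≠ a := by
        intro h
        have : g • t • a = g • a := by rw [h, hga]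
        exact ro_ta_ne hS (smul_left_cancel g this)
      obtain ⟨q, hqQ, hqc, hqb⟩ := ro_fix_trans hS hX h2 h1
      have hqa : q • a = a := MulAction.mem_stabilizer_iff.mp (hS.le hqQ)
      have hd : q⁻¹ * g ∈ Subgroup.centralizer X ⊓ (MulAction.stabilizer G a ⊓ MulAction.stabilizer G (t • a)) := by
        refine Subgroup.mem_inf.mpr ⟨mul_mem (inv_mem hqc) hgc, ?_⟩
        rw [ro_mem_D_iff, mul_smul, mul_smul, hga, ← hqb, inv_smul_smul]
        exact ⟨by rw [inv_smul_eq_iff, hqa], rfl⟩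
      have : g = q * (q⁻¹ * g) := by group
      rw [this]
      exact Subgroup.mul_mem_sup (Subgroup.mem_inf.mpr ⟨hqc, hqQ⟩) hd

end Cfsg.Agent.S1125
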