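import Cfsg.Statements.S1126
import Cfsg.Agent.Lib.Helper26.RankOneFix

set_option autoImplicit false
open Cfsg
open Cfsg.Agent.Lib.Helper26

namespace Cfsg.Agent.S1126

theorem result {G Ω : Type*} [Group G] [Finite G] [MulAction G Ω] {a : Ω} {t : G} {Q : Subgroup G}
    (hS : Cfsg.IsRankOneSetup G Ω a t Q)
    (X : Set G) (hX : X ⊆ ((MulAction.stabilizer G a ⊓ MulAction.stabilizer G (t • a)) : Set G))
    (h3 : ∃ b c d : Ω, b ≠ c ∧ b ≠ d ∧ c ≠ d ∧ ∀ x ∈ X, x • b = b ∧ x • c = c ∧ x • d = d) :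
    ∃ k ∈ (MulAction.stabilizer G a ⊓ MulAction.stabilizer G (t • a)), ∀ x ∈ X, (k * x * k⁻¹) * t = t * (k * x * k⁻¹) := by
  obtain ⟨c, hca, hcb, hfix⟩ := ro_third_point (a := a) (b := t • a) h3
  obtain ⟨s, hsc, hss, hsa, hsb⟩ := ro_key hS hX hca hcb hfix
  obtain ⟨k, hk, hks⟩ := ro_swap_conj hS hss hsa hsb
  refine ⟨k, hk, fun x hx => ?_⟩
  have hc : x * s = s * x := (Subgroup.mem_centralizer_iff.mp hsc) x hx
  rw [← hks]
  calc k * x * k⁻¹ * (k * s * k⁻¹) = k * (x * s) * k⁻¹ := by group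
    _ = k * (s * x) * k⁻¹ := by rw [hc]
    _ = k * s * k⁻¹ * (k * x * k⁻¹) := by group

end Cfsg.Agent.S1126
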