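import Cfsg.Statements.S1127
import Cfsg.Agent.Lib.Helper26.RankOneCent

set_option autoImplicit false
set_option linter.unusedVariables false
open Cfsg
open Cfsg.Agent.Lib.Helper26

namespace Cfsg.Agent.S1127

theorem result {G Ω : Type*} [Group G] [Finite G] [MulAction G Ω] {a : Ω} {t : G} {Q : Subgroup G}
    (hS : Cfsg.IsRankOneSetup G Ω a t Q) :
    (∀ s r : G, s ∈ Cfsg.involutionsIn (MulAction.stabilizer G a : Set G) → r ∈ Q → t * s * t = r⁻¹ * t * r →
        (MulAction.stabilizer G a ⊓ MulAction.stabilizer G (t • a)) ⊓ Subgroup.centralizer {t} = (MulAction.stabilizer G a ⊓ MulAction.stabilizer G (t • a)) ⊓ Subgroup.centralizer {s}) ∧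
      (MulAction.stabilizer G a ⊓ MulAction.stabilizer G (t • a)) ⊓ Subgroup.centralizer {t} ⊓ Subgroup.centralizer (Cfsg.invertedBy (MulAction.stabilizer G a ⊓ MulAction.stabilizer G (t • a)) t) =
        (MulAction.stabilizer G a ⊓ MulAction.stabilizer G (t • a)) ⊓ Subgroup.centralizer (Cfsg.involutionsIn (MulAction.stabilizer G a : Set G)) := by
  have hti := ro_t_inv hS
  have htt := hS.mul_self
  refine ⟨fun s r hs hr h => ro_part1 hS hs hr h, ?_⟩
  -- `t k` is an involution swapping `a` and `t • a` for `k` inverted by `t`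
  have hK : ∀ k ∈ Cfsg.invertedBy (MulAction.stabilizer G a ⊓ MulAction.stabilizer G (t • a)) t,
      (t * k) * (t * k) = 1 ∧ (t * k) • a = t • a := by
    rintro k ⟨hkD, hkt⟩
    constructor
    · have : t * k * (t * k) = (t * k * t⁻¹) * k := by rw [hti]; simp only [mul_assoc]
      rw [this, hkt, inv_mul_cancel]
    · rw [mul_smul, (ro_mem_D_iff.mp hkD).1]
  apply le_antisymm
  · intro d hd
    obtain ⟨hd1, hdK⟩ := Subgroup.mem_inf.mp hd
    obtain ⟨hdD, hdt⟩ := Subgroup.mem_inf.mp hd1
    have hdt' : t * d = d * t := (Subgroup.mem_centralizer_iff.mp hdt) t rfl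
    refine Subgroup.mem_inf.mpr ⟨hdD, ?_⟩
    rw [Subgroup.mem_centralizer_iff]
    intro s hs
    obtain ⟨t', r', ht't', ht'a, hr', hrel⟩ := ro_phi_surj hS hs
    -- k = t t' is inverted by t
    have hkK : t * t' ∈ Cfsg.invertedBy (MulAction.stabilizer G a ⊓ MulAction.stabilizer G (t • a)) t := by
      have ht'i : t'⁻¹ = t' := inv_eq_of_mul_eq_one_left ht't'
      constructor
      · rw [ro_mem_D_iff, mul_smul, mul_smul, ht'a, ro_t_smul_t_smul hS, ← ht'a, ← mul_smul t' t', ht't', one_smul, ht'a]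
        exact ⟨rfl, rfl⟩
      · rw [mul_inv_rev, hti, ht'i]
        simp only [mul_assoc]
        rw [← mul_assoc t t, htt, one_mul]
    have hdk : (t * t') * d = d * (t * t') := (Subgroup.mem_centralizer_iff.mp hdK) _ hkK
    have hdt'' : t' * d = d * t' := by
      have e : t' = t * (t * t') := by rw [← mul_assoc, htt, one_mul]
      rw [e, mul_assoc, hdk, ← mul_assoc, hdt', mul_assoc]
    have hS' := ro_change_t hS ht't' ht'a
    have h1 := ro_part1 hS' hs hr' hrel
    rw [ht'a] at h1
    have h2 : d ∈ (MulAction.stabilizer G a ⊓ MulAction.stabilizer G (t • a)) ⊓ Subgroup.centralizer {t'} := by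
      refine Subgroup.mem_inf.mpr ⟨hdD, ?_⟩
      rw [Subgroup.mem_centralizer_iff]
      intro y hy
      rw [Set.mem_singleton_iff.mp hy]
      exact hdt''
    rw [h1] at h2
    exact (Subgroup.mem_centralizer_iff.mp (Subgroup.mem_inf.mp h2).2) s rfl
  · intro d hd
    obtain ⟨hdD, hdI⟩ := Subgroup.mem_inf.mp hd
    have hdt : t * d = d * t := ro_Ia_cent_t hS hdD hdI
    refine Subgroup.mem_inf.mpr ⟨Subgroup.mem_inf.mpr ⟨hdD, ?_⟩, ?_⟩
    · rw [Subgroup.mem_centralizer_iff]
      intro y hy
      rw [Set.mem_singleton_iff.mp hy]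
      exact hdt
    · rw [Subgroup.mem_centralizer_iff]
      intro k hk
      obtain ⟨h1, h2⟩ := hK k hk
      have hS' := ro_change_t hS h1 h2
      have hdD' : d ∈ MulAction.stabilizer G a ⊓ MulAction.stabilizer G ((t * k) • a) := by
        rw [h2]; exact hdD
      have hdt' : (t * k) * d = d * (t * k) := ro_Ia_cent_t hS' hdD' hdI
      have e : k = t * (t * k) := by rw [← mul_assoc, htt, one_mul]
      rw [e, mul_assoc, hdt', ← mul_assoc, hdt, mul_assoc]

end Cfsg.Agent.S1127
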