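import Cfsg.Statements.S1128
import Cfsg.Agent.Lib.Helper26.RankOneFix

set_option autoImplicit false
set_option linter.unusedVariables false
open Cfsg
open Cfsg.Agent.Lib.Helper26

namespace Cfsg.Agent.S1128

theorem result {G Ω : Type*} [Group G] [Finite G] [MulAction G Ω] [FaithfulSMul G Ω] {a : Ω} {t : G} {Q : Subgroup G}
    (hS : Cfsg.IsRankOneSetup G Ω a t Q)
    (h2 : ∃ x y : G, x ≠ 1 ∧ y ≠ 1 ∧ x ≠ y ∧ x * x = 1 ∧ y * y = 1 ∧ x * y = y * x)
    (x : G) (hx : x ∈ Cfsg.invertedBy (MulAction.stabilizer G a ⊓ MulAction.stabilizer G (t • a)) t) (hx1 : x ≠ 1) :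
    Q ⊓ Subgroup.centralizer {x} = ⊥ := by
  obtain ⟨hxD, hxt⟩ := hx
  rw [eq_bot_iff]
  intro q hq
  obtain ⟨hqQ, hqc⟩ := Subgroup.mem_inf.mp hq
  rw [Subgroup.mem_bot]
  by_contra hq1
  have hxq : x * q = q * x := (Subgroup.mem_centralizer_iff.mp hqc) x rfl
  have hX : ({x} : Set G) ⊆ ((MulAction.stabilizer G a ⊓ MulAction.stabilizer G (t • a) : Subgroup G) : Set G) := by
    intro y hy; rw [Set.mem_singleton_iff.mp hy]; exact hxD
  have hca : q • t • a ≠ a := ro_smul_ne_a hS hqQ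
  have hcb : q • t • a ≠ t • a := fun h => hq1 (ro_Q_inf_D hS hqQ (MulAction.mem_stabilizer_iff.mpr h))
  have hfix : ∀ y ∈ ({x} : Set G), y • q • t • a = q • t • a := by
    intro y hy
    rw [Set.mem_singleton_iff.mp hy, ← mul_smul, hxq, mul_smul, (ro_mem_D_iff.mp hxD).2]
  obtain ⟨s, hsc, hss, hsa, hsb⟩ := ro_key hS hX hca hcb hfix
  have hxs : x * s = s * x := (Subgroup.mem_centralizer_iff.mp hsc) x rfl
  have hstD : s * t ∈ MulAction.stabilizer G a ⊓ MulAction.stabilizer G (t • a) := by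
    rw [ro_mem_D_iff, mul_smul, mul_smul, hsb, ro_t_smul_t_smul hS, hsa]
    exact ⟨rfl, rfl⟩
  have hodd : Odd (orderOf (s * t)) :=
    hS.odd_card.of_dvd_nat (Subgroup.orderOf_dvd_natCard _ hstD)
  obtain ⟨j, hj⟩ := hodd
  -- r inverts x
  have hsx' : s * x⁻¹ = x⁻¹ * s := by
    have : x⁻¹ * (x * s) * x⁻¹ = x⁻¹ * (s * x) * x⁻¹ := by rw [hxs]
    simpa [mul_assoc] using this
  have hinv : (s * t) * x = x⁻¹ * (s * t) := by
    have h1 : t * x = x⁻¹ * t := by
      rw [← hxt]; group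
    rw [mul_assoc, h1, ← mul_assoc, hsx', mul_assoc]
  have hinv' : (s * t) * x⁻¹ = x * (s * t) := by
    have : x * ((s * t) * x) * x⁻¹ = x * (x⁻¹ * (s * t)) * x⁻¹ := by rw [hinv]
    have h3 : x * (s * t) = (s * t) * x⁻¹ := by
      simpa [mul_assoc] using this
    exact h3.symm
  have hc2 : Commute ((s * t) * (s * t)) x := by
    show (s * t) * (s * t) * x = x * ((s * t) * (s * t))
    rw [mul_assoc, hinv, ← mul_assoc, hinv', mul_assoc]
  have hc3 : Commute (((s * t) * (s * t)) ^ j) x := hc2.pow_left j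
  have hpow : ((s * t) * (s * t)) ^ j = (s * t)⁻¹ := by
    have : ((s * t) * (s * t)) ^ j * (s * t) = 1 := by
      rw [← pow_two, ← pow_mul, ← pow_succ, ← hj, pow_orderOf_eq_one]
    exact eq_inv_of_mul_eq_one_left this
  rw [hpow] at hc3
  have hc4 : Commute (s * t) x := Commute.inv_left_iff.mp hc3
  have hxx : x = x⁻¹ := by
    have h5 : (s * t) * x = (s * t) * x⁻¹ := by
      rw [hinv', hc4.eq]
    exact mul_left_cancel h5
  have hxx1 : x * x = 1 := by
    nth_rewrite 2 [hxx]; exact mul_inv_cancel x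
  have hord2 : orderOf x ∣ 2 := orderOf_dvd_of_pow_eq_one (by rw [pow_two]; exact hxx1)
  have hordodd : Odd (orderOf x) := hS.odd_card.of_dvd_nat (Subgroup.orderOf_dvd_natCard _ hxD)
  have hle : orderOf x ≤ 2 := Nat.le_of_dvd (by norm_num) hord2
  have hpos : 0 < orderOf x := orderOf_pos x
  have h1 : orderOf x = 1 := by
    obtain ⟨k, hk⟩ := hordodd
    omega
  exact hx1 (orderOf_eq_one_iff.mp h1)

end Cfsg.Agent.S1128
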