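import Cfsg.Statements.S1129
import Cfsg.Agent.S0033
import Cfsg.Agent.S1128
import Cfsg.Agent.Lib.Helper26.RankOneNilp

set_option autoImplicit false
open Cfsg
open Cfsg.Agent.Lib.Helper26

namespace Cfsg.Agent.S1129

/-- In the rank-one set-up (`G` finite and doubly transitive on `Ω`, `t` an involution moving `a`, `Q` normal in `G_a` with `G_a = Q D`, `Q ⊓ D = 1` for the two-point stabiliser `D = G_a ⊓ G_{t • a}`, `|Q|` even, `|D|` odd), with the action faithful and `G` containing two distinct commuting involutions: `Q` is nilpotent. -/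
theorem result {G Ω : Type*} [Group G] [Finite G] [MulAction G Ω] [FaithfulSMul G Ω] {a : Ω} {t : G} {Q : Subgroup G}
    (hS : Cfsg.IsRankOneSetup G Ω a t Q)
    (h2 : ∃ x y : G, x ≠ 1 ∧ y ≠ 1 ∧ x ≠ y ∧ x * x = 1 ∧ y * y = 1 ∧ x * y = y * x) :
    Group.IsNilpotent Q := by
  exact ro_Q_nilpotent hS h2 (fun x hx hx1 => Cfsg.Agent.S1128.result hS h2 x hx hx1)
    (fun φ hφ p hp hord => Cfsg.Agent.S0033.result φ hφ p hp hord)

end Cfsg.Agent.S1129
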