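import Cfsg.Statements.S1134
import Cfsg.Agent.S1125
import Cfsg.Agent.Lib.Helper26.RankOneInv
import Cfsg.Agent.Lib.Helper26.Dihedral

set_option autoImplicit false
set_option linter.unusedVariables false
open Cfsg
open Cfsg.Agent.Lib.Helper26

namespace Cfsg.Agent.S1134

/-- In the rank-one set-up (`G` finite and doubly transitive on `Ω`, `t` an involution moving `a`, `Q` normal in `G_a` with `G_a = Q D`, `Q ⊓ D = 1` for the two-point stabiliser `D = G_a ⊓ G_{t • a}`, `|Q|` even, `|D|` odd), with the action faithful and `G` containing two distinct commuting involutions, with `V = C_D(t)`: subsets of `V` conjugate in `G` are conjugate in `V`. -/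
theorem result {G Ω : Type*} [Group G] [Finite G] [MulAction G Ω] [FaithfulSMul G Ω] {a : Ω} {t : G} {Q : Subgroup G}
    (hS : Cfsg.IsRankOneSetup G Ω a t Q)
    (h2 : ∃ x y : G, x ≠ 1 ∧ y ≠ 1 ∧ x ≠ y ∧ x * x = 1 ∧ y * y = 1 ∧ x * y = y * x)
    (X : Set G) (hX : X ⊆ (((MulAction.stabilizer G a ⊓ MulAction.stabilizer G (t • a)) ⊓ Subgroup.centralizer {t} : Subgroup G) : Set G)) (g : G)
    (hY : (fun x => g * x * g⁻¹) '' X ⊆ (((MulAction.stabilizer G a ⊓ MulAction.stabilizer G (t • a)) ⊓ Subgroup.centralizer {t} : Subgroup G) : Set G)) :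
    ∃ v ∈ (MulAction.stabilizer G a ⊓ MulAction.stabilizer G (t • a)) ⊓ Subgroup.centralizer {t}, (fun x => v * x * v⁻¹) '' X = (fun x => g * x * g⁻¹) '' X := by
  have htt := hS.mul_self
  have hti := ro_t_inv hS
  have htta : t • t • a = a := ro_t_smul_t_smul hS a
  have hta : t • a ≠ a := ro_ta_ne hS
  -- basic facts on X
  have hXD : X ⊆ ((MulAction.stabilizer G a ⊓ MulAction.stabilizer G (t • a) : Subgroup G) : Set G) :=
    fun x hx => (Subgroup.mem_inf.mp (hX hx)).1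
  have hXt : ∀ x ∈ X, t * x = x * t := fun x hx =>
    (Subgroup.mem_centralizer_iff.mp (Subgroup.mem_inf.mp (hX hx)).2) t rfl
  have hXa : ∀ x ∈ X, x • a = a := fun x hx => (ro_mem_D_iff.mp (hXD hx)).1
  have hXb : ∀ x ∈ X, x • t • a = t • a := fun x hx => (ro_mem_D_iff.mp (hXD hx)).2
  have hYD : ∀ x ∈ X, g * x * g⁻¹ ∈ MulAction.stabilizer G a ⊓ MulAction.stabilizer G (t • a) :=
    fun x hx => (Subgroup.mem_inf.mp (hY ⟨x, hx, rfl⟩)).1
  have hYt : ∀ x ∈ X, t * (g * x * g⁻¹) = (g * x * g⁻¹) * t := fun x hx =>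
    (Subgroup.mem_centralizer_iff.mp (Subgroup.mem_inf.mp (hY ⟨x, hx, rfl⟩)).2) t rfl
  -- third fixed point
  obtain ⟨c, htc, hcu⟩ := ro_invol_fix hS hS.ne_one htt
  have hca : c ≠ a := by
    rintro rfl; exact hta htc
  have hcb : c ≠ t • a := by
    intro h; rw [h, htta] at htc; exact hta htc.symm
  have hXc : ∀ x ∈ X, x • c = c := by
    intro x hx
    apply hcu
    rw [← mul_smul, hXt x hx, mul_smul, htc]
  have h3 : ∃ b c' d : Ω, b ≠ c' ∧ b ≠ d ∧ c' ≠ d ∧ ∀ x ∈ X, x • b = b ∧ x • c' = c' ∧ x • d = d :=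
    ⟨a, t • a, c, hta.symm, hca.symm, hcb.symm, fun x hx => ⟨hXa x hx, hXb x hx, hXc x hx⟩⟩
  obtain ⟨h2t, -, -⟩ := Cfsg.Agent.S1125.result hS X hXD h3
  -- X fixes g⁻¹ a and g⁻¹ b
  have hfix1 : ∀ x ∈ X, x • g⁻¹ • a = g⁻¹ • a := by
    intro x hx
    have h := (ro_mem_D_iff.mp (hYD x hx)).1
    rw [mul_smul, mul_smul] at h
    exact eq_inv_smul_iff.mpr h
  have hfix2 : ∀ x ∈ X, x • g⁻¹ • t • a = g⁻¹ • t • a := by
    intro x hx
    have h := (ro_mem_D_iff.mp (hYD x hx)).2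
    rw [mul_smul, mul_smul] at h
    exact eq_inv_smul_iff.mpr h
  have hne : g⁻¹ • a ≠ g⁻¹ • t • a := fun h => hta (smul_left_cancel g⁻¹ h).symm
  obtain ⟨h, hhc, hh1, hh2⟩ := h2t (g⁻¹ • a) (g⁻¹ • t • a) a (t • a)
    (fun x hx => ⟨hfix1 x hx, hfix2 x hx, hXa x hx, hXb x hx⟩) hne hta.symm
  -- g' = g h⁻¹ ∈ D
  have hhx : ∀ x ∈ X, h * x = x * h := fun x hx =>
    ((Subgroup.mem_centralizer_iff.mp hhc) x hx).symm
  have hhix : ∀ x ∈ X, h⁻¹ * x = x * h⁻¹ := by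
    intro x hx
    have := hhx x hx
    calc h⁻¹ * x = h⁻¹ * (x * h) * h⁻¹ := by group
      _ = h⁻¹ * (h * x) * h⁻¹ := by rw [this]
      _ = x * h⁻¹ := by group
  have hg'D : g * h⁻¹ ∈ MulAction.stabilizer G a ⊓ MulAction.stabilizer G (t • a) := by
    rw [ro_mem_D_iff]
    constructor
    · rw [mul_smul, inv_smul_eq_iff.mpr hh1.symm, smul_inv_smul]
    · rw [mul_smul, inv_smul_eq_iff.mpr hh2.symm, smul_inv_smul]
  have hg'X : ∀ x ∈ X, (g * h⁻¹) * x * (g * h⁻¹)⁻¹ = g * x * g⁻¹ := by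
    intro x hx
    calc (g * h⁻¹) * x * (g * h⁻¹)⁻¹ = g * (h⁻¹ * x) * h * g⁻¹ := by group
      _ = g * (x * h⁻¹) * h * g⁻¹ := by rw [hhix x hx]
      _ = g * x * g⁻¹ := by group
  -- s = g'⁻¹ t g'
  obtain ⟨g', hg'def⟩ : ∃ g' : G, g' = g * h⁻¹ := ⟨_, rfl⟩
  rw [← hg'def] at hg'D hg'X
  obtain ⟨s, hsdef⟩ : ∃ s : G, s = g'⁻¹ * t * g' := ⟨_, rfl⟩
  have hss : s * s = 1 := by
    rw [hsdef]
    calc g'⁻¹ * t * g' * (g'⁻¹ * t * g') = g'⁻¹ * (t * t) * g' := by group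
      _ = 1 := by rw [htt]; group
  have hg'a : g' • a = a := (ro_mem_D_iff.mp hg'D).1
  have hg'b : g' • t • a = t • a := (ro_mem_D_iff.mp hg'D).2
  have hsa : s • a = t • a := by
    rw [hsdef, mul_smul, mul_smul, hg'a, inv_smul_eq_iff, hg'b]
  have hsb : s • t • a = a := by
    rw [hsdef, mul_smul, mul_smul, hg'b, htta, inv_smul_eq_iff, hg'a]
  have hsx : ∀ x ∈ X, s * x = x * s := by
    intro x hx
    have h1 := hYt x hx
    rw [← hg'X x hx] at h1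
    rw [hsdef]
    calc g'⁻¹ * t * g' * x = g'⁻¹ * (t * (g' * x * g'⁻¹)) * g' := by group
      _ = g'⁻¹ * ((g' * x * g'⁻¹) * t) * g' := by rw [h1]
      _ = x * (g'⁻¹ * t * g') := by group
  have hstD : s * t ∈ MulAction.stabilizer G a ⊓ MulAction.stabilizer G (t • a) := by
    rw [ro_mem_D_iff, mul_smul, mul_smul, hsb, htta, hsa]
    exact ⟨rfl, rfl⟩
  have hodd : Odd (orderOf (s * t)) :=
    hS.odd_card.of_dvd_nat (Subgroup.orderOf_dvd_natCard _ hstD)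
  obtain ⟨j, hj⟩ := hodd
  have hk := dih_odd_conj s t hss htt j hj
  obtain ⟨k, hkdef⟩ : ∃ k : G, k = (s * t) ^ j := ⟨_, rfl⟩
  rw [← hkdef] at hk
  have hkD : k ∈ MulAction.stabilizer G a ⊓ MulAction.stabilizer G (t • a) := by
    rw [hkdef]; exact pow_mem hstD j
  have hkx : ∀ x ∈ X, k * x = x * k := by
    intro x hx
    have h1 : (s * t) * x = x * (s * t) := by
      rw [mul_assoc, hXt x hx, ← mul_assoc, hsx x hx, mul_assoc]
    rw [hkdef]
    exact (Commute.pow_left (show Commute (s * t) x from h1) j)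
  have hkix : ∀ x ∈ X, k⁻¹ * x = x * k⁻¹ := by
    intro x hx
    have := hkx x hx
    calc k⁻¹ * x = k⁻¹ * (x * k) * k⁻¹ := by group
      _ = k⁻¹ * (k * x) * k⁻¹ := by rw [this]
      _ = x * k⁻¹ := by group
  -- v = g' k⁻¹
  refine ⟨g' * k⁻¹, Subgroup.mem_inf.mpr ⟨mul_mem hg'D (inv_mem hkD), ?_⟩, ?_⟩
  · rw [Subgroup.mem_centralizer_iff]
    intro y hy
    rw [Set.mem_singleton_iff.mp hy]
    -- t * (g' k⁻¹) = (g' k⁻¹) * t
    have h1 : k⁻¹ * t * k = s := by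
      rw [← hk]; group
    have h2' : g' * s * g'⁻¹ = t := by
      rw [hsdef]; group
    calc t * (g' * k⁻¹) = (g' * s * g'⁻¹) * (g' * k⁻¹) := by rw [h2']
      _ = g' * s * k⁻¹ := by group
      _ = g' * (k⁻¹ * t * k) * k⁻¹ := by rw [h1]
      _ = g' * k⁻¹ * t := by group
  · apply Set.image_congr
    intro x hx
    calc g' * k⁻¹ * x * (g' * k⁻¹)⁻¹ = g' * (k⁻¹ * x) * k * g'⁻¹ := by group
      _ = g' * (x * k⁻¹) * k * g'⁻¹ := by rw [hkix x hx]
      _ = g' * x * g'⁻¹ := by group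
      _ = g * x * g⁻¹ := hg'X x hx

end Cfsg.Agent.S1134
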