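import Cfsg.Statements.S1139
import Cfsg.Agent.Lib.Helper68.SuzCoord

set_option autoImplicit false
open Cfsg

namespace Cfsg.Agent.S1139

/-- A Suzuki 2-group `P` with `|P| = |Z(P)|²` is of type A: for some finite field `F` with `|F| = |Z(P)|` and some field automorphism `φ ≠ 1` of odd order, `P` is isomorphic to the group of lower unitriangular matrices with rows `(1,0,0)`, `(x,1,0)`, `(y, φ x, 1)`. -/
theorem result {P : Type*} [Group P] (hP : Cfsg.IsSuzukiTwoGroup P)
    (hcard : Nat.card P = Nat.card (Subgroup.center P) ^ 2) :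
    ∃ (F : Type) (_ : Field F) (_ : Fintype F) (φ : F ≃+* F), Fintype.card F = Nat.card (Subgroup.center P) ∧
      φ ≠ RingEquiv.refl F ∧ Odd (orderOf φ) ∧ Nonempty (P ≃* Cfsg.suzukiTypeA F (φ : F →+* F)) := by
  classical
  have hfin : Finite P := hP.1
  obtain ⟨D⟩ := Cfsg.Agent.Lib.Helper68.SuzStruct.nonempty_suzData hP hcard
  have h2Z : IsPGroup 2 (Subgroup.center P) := hP.2.1.to_subgroup _
  obtain ⟨n, hn⟩ := IsPGroup.iff_card.1 h2Z
  have hn0 : n ≠ 0 := by
    rintro rfl
    rw [pow_zero] at hn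
    rw [hn, one_pow] at hcard
    have hsub : Subsingleton P := (Nat.card_eq_one_iff_unique.1 hcard).1
    obtain ⟨g, h, hgh⟩ := D.hnc
    exact hgh (Subsingleton.elim _ _)
  have hFt : Fintype (GaloisField 2 n) := Fintype.ofFinite _
  have hF : Nat.card (GaloisField 2 n) = Nat.card (Subgroup.center P) := by
    rw [GaloisField.card 2 n hn0, hn]
  obtain ⟨φ, S, hSφ, hφ1, hφodd⟩ := Cfsg.Agent.Lib.Helper68.SuzCoord.exists_setup D hcard hF
  have hcard' : Nat.card P = Nat.card (GaloisField 2 n) * Nat.card (GaloisField 2 n) := by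
    rw [hF, hcard, pow_two]
  have hiso := S.nonempty_mulEquiv hcard'
  rw [hSφ] at hiso
  exact ⟨GaloisField 2 n, inferInstance, hFt, φ, by rw [← Nat.card_eq_fintype_card]; exact hF,
    hφ1, hφodd, hiso⟩

end Cfsg.Agent.S1139
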