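import Cfsg.Statements.S1160
import Cfsg.Agent.Lib.Helper26.NormalPP

set_option autoImplicit false
set_option linter.unusedSectionVars false
open Cfsg

namespace Cfsg.Agent.S1160

open Cfsg.Agent.Lib.Helper26

section nop
variable {P E : Type*} [Group P] [AddCommGroup E] [DistribMulAction P E]

/-- The norm operator `1 + u + ... + u^(n-1)` on `E`. -/
noncomputable def nop (n : ℕ) (u : P) : E →+ E :=
  ∑ k ∈ Finset.range n, DistribSMul.toAddMonoidHom E (u ^ k)

theorem nop_apply (n : ℕ) (u : P) (e : E) :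
    nop n u e = ∑ k ∈ Finset.range n, (u ^ k) • e := by
  simp [nop]

theorem smul_nop_self (n : ℕ) (u : P) (hu : u ^ n = 1) (e : E) :
    u • nop n u e = nop n u e := by
  rw [nop_apply, Finset.smul_sum]
  have h : ∀ k, u • (u ^ k) • e = (u ^ (k + 1)) • e := fun k => by rw [smul_smul, ← pow_succ']
  simp only [h]
  cases n with
  | zero => simp
  | succ m =>
    rw [Finset.sum_range_succ, Finset.sum_range_succ' (fun k => u ^ k • e), hu, pow_zero]

theorem smul_nop_of_commute (n : ℕ) (u v : P) (h : Commute v u) (e : E) (hv : v • e = e) :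
    v • nop n u e = nop n u e := by
  rw [nop_apply, Finset.smul_sum]
  refine Finset.sum_congr rfl fun k _ => ?_
  rw [smul_smul, (h.pow_right k).eq, ← smul_smul, hv]

theorem pow_smul_of_fixed (u : P) (e : E) (hu : u • e = e) (k : ℕ) : (u ^ k) • e = e := by
  induction k with
  | zero => simp
  | succ k ih => rw [pow_succ, mul_smul, hu, ih]

theorem nop_of_fixed (n : ℕ) (u : P) (e : E) (hu : u • e = e) : nop n u e = n • e := by
  rw [nop_apply]
  simp [pow_smul_of_fixed u e hu]

theorem smul_nop (n : ℕ) (h u : P) (e : E) :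
    h • nop n u e = nop n (h * u * h⁻¹) (h • e) := by
  rw [nop_apply, nop_apply, Finset.smul_sum]
  refine Finset.sum_congr rfl fun k _ => ?_
  rw [conj_pow, smul_smul, smul_smul]
  congr 1; group

end nop

section main
variable {P E : Type*} [Group P] [Finite P] [AddCommGroup E] [Finite E] [DistribMulAction P E]
  [FaithfulSMul P E] {p : ℕ} [hp : Fact p.Prime]

theorem pcancel (hpinv : ∀ e : E, p • e = 0 → e = 0) {u v : E} (h : p • u = p • v) : u = v := by
  have : p • (u - v) = 0 := by rw [smul_sub, h, sub_self]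
  exact sub_eq_zero.mp (hpinv _ this)

theorem stab_transfer
    (hconst : ∀ a b : E, a ≠ 0 → b ≠ 0 →
      Nat.card (MulAction.stabilizer P a) = Nat.card (MulAction.stabilizer P b))
    (a c : E) (ha : a ≠ 0) (hc : c ≠ 0) (hsub : ∀ h : P, h • c = c → h • a = a)
    (x : P) (hx : x • a = a) : x • c = c := by
  have hle : MulAction.stabilizer P c ≤ MulAction.stabilizer P a := fun h hh => hsub h hh
  have heq := Subgroup.eq_of_le_of_card_ge hle (hconst a c ha hc).le
  have : x ∈ MulAction.stabilizer P a := hx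
  rw [← heq] at this
  exact this

theorem pinv_of_ne {q : ℕ} (hq : q.Prime) (hpq : p ≠ q) (hE : ∀ e : E, q • e = 0) (e : E)
    (h : p • e = 0) : e = 0 := by
  have h1 : addOrderOf e ∣ p := addOrderOf_dvd_of_nsmul_eq_zero h
  have h2 : addOrderOf e ∣ q := addOrderOf_dvd_of_nsmul_eq_zero (hE e)
  have hcop : Nat.Coprime p q := (Nat.coprime_primes hp.out hq).mpr hpq
  have : addOrderOf e = 1 := Nat.eq_one_of_dvd_coprimes hcop h1 h2
  exact AddMonoid.addOrderOf_eq_one_iff.mp this

/-- A central element of order `p` fixes no nonzero vector. -/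
theorem central_fpf (hpinv : ∀ e : E, p • e = 0 → e = 0)
    (hconst : ∀ a b : E, a ≠ 0 → b ≠ 0 →
      Nat.card (MulAction.stabilizer P a) = Nat.card (MulAction.stabilizer P b))
    (z : P) (hzc : z ∈ Subgroup.center P) (hz1 : z ≠ 1) (hzp : z ^ p = 1) (a : E)
    (hza : z • a = a) : a = 0 := by
  by_contra ha
  obtain ⟨e₀, he₀⟩ : ∃ e : E, z • e ≠ e := by
    by_contra hcon
    push Not at hcon
    exact hz1 (FaithfulSMul.eq_of_smul_eq_smul (α := E) fun e => by rw [hcon e, one_smul])
  have hNconj : ∀ (h : P) (e : E), h • nop p z e = nop p z (h • e) := by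
    intro h e
    rw [smul_nop]
    have : h * z * h⁻¹ = z := by rw [(Subgroup.mem_center_iff.mp hzc) h]; group
    rw [this]
  have hNN : nop p z (nop p z e₀) = p • nop p z e₀ :=
    nop_of_fixed p z _ (smul_nop_self p z hzp e₀)
  have hNb : nop p z (p • e₀ - nop p z e₀) = 0 := by
    rw [map_sub, map_nsmul, hNN, sub_self]
  have hb0 : p • e₀ - nop p z e₀ ≠ 0 := by
    intro h0
    have h1 : p • e₀ = nop p z e₀ := sub_eq_zero.mp h0
    have h2 : z • (p • e₀) = p • e₀ := by rw [h1]; exact smul_nop_self p z hzp e₀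
    have h3 : p • (z • e₀) = p • e₀ := by rw [← h2, smul_comm]
    exact he₀ (pcancel hpinv h3)
  have hNab : nop p z (a + (p • e₀ - nop p z e₀)) = p • a := by
    rw [map_add, hNb, add_zero]; exact nop_of_fixed p z a hza
  have hstab : ∀ h : P, h • (a + (p • e₀ - nop p z e₀)) = a + (p • e₀ - nop p z e₀) →
      h • a = a := by
    intro h hh
    have h2 : p • (h • a) = p • a := by
      calc p • (h • a) = h • (p • a) := (smul_comm h p a).symm
        _ = h • nop p z (a + (p • e₀ - nop p z e₀)) := by rw [hNab]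
        _ = nop p z (h • (a + (p • e₀ - nop p z e₀))) := hNconj h _
        _ = p • a := by rw [hh, hNab]
    exact pcancel hpinv h2
  have hab : a + (p • e₀ - nop p z e₀) ≠ 0 := by
    intro h0
    rw [h0, map_zero] at hNab
    exact ha (hpinv a hNab.symm)
  have hzb : z • (a + (p • e₀ - nop p z e₀)) = a + (p • e₀ - nop p z e₀) :=
    stab_transfer hconst a _ ha hab hstab z hza
  have hzb' : z • (p • e₀ - nop p z e₀) = p • e₀ - nop p z e₀ := by
    rw [smul_add, hza] at hzb; exact add_left_cancel hzb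
  have : p • (p • e₀ - nop p z e₀) = 0 := by
    rw [← nop_of_fixed p z _ hzb']; exact hNb
  exact hb0 (hpinv _ this)

theorem fix_of_sq_fix (hp2 : p ≠ 2) (hP : IsPGroup p P) (h : P) (a : E)
    (h2 : (h * h) • a = a) : h • a = a := by
  obtain ⟨k, hk⟩ := (IsPGroup.iff_orderOf.mp hP) h
  have hodd : Odd (p ^ k) := (hp.out.odd_of_ne_two hp2).pow
  obtain ⟨m, hm⟩ := hodd
  have h3 : h ^ (2 * (m + 1)) = h := by
    have : 2 * (m + 1) = p ^ k + 1 := by omega
    rw [this, pow_succ, ← hk, pow_orderOf_eq_one, one_mul]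
  have h4 := pow_smul_of_fixed (h * h) a h2 (m + 1)
  rwa [← pow_two, ← pow_mul, h3] at h4

/-- Two commuting elements of order dividing `p`, one of them fixed-point-free: some `w * z ^ i`
fixes a nonzero vector. -/
theorem exists_fixed_of_pair (hpinv : ∀ e : E, p • e = 0 → e = 0) (w z : P) (hwz : Commute w z)
    (hw : w ^ p = 1) (hz : z ^ p = 1) (hzfpf : ∀ e : E, z • e = e → e = 0) (e : E) (he : e ≠ 0) :
    ∃ i : ℕ, ∃ a : E, a ≠ 0 ∧ (w * z ^ i) • a = a := by
  by_contra hcon
  push Not at hcon
  have hN0 : ∀ i, nop p (w * z ^ i) e = 0 := by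
    intro i
    by_contra h
    refine hcon i _ h (smul_nop_self p _ ?_ e)
    rw [(hwz.pow_right i).mul_pow, hw, ← pow_mul, mul_comm, pow_mul, hz, one_pow, one_mul]
  have hNz : ∀ k, 0 < k → k < p → nop p (z ^ k) e = 0 := by
    intro k hk0 hkp
    apply hzfpf
    have hcop : Nat.Coprime k p :=
      ((Nat.Prime.coprime_iff_not_dvd hp.out).mpr (Nat.not_dvd_of_pos_of_lt hk0 hkp)).symm
    obtain ⟨m, -, hm⟩ := Nat.exists_mul_mod_eq_one_of_coprime (k := p) (n := k) hcop hp.out.one_lt
    have hzk : (z ^ k) ^ m = z := by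
      rw [← pow_mul, pow_eq_pow_mod (k * m) hz, hm, pow_one]
    have h1 : (z ^ k) • nop p (z ^ k) e = nop p (z ^ k) e :=
      smul_nop_self p (z ^ k) (by rw [← pow_mul, mul_comm, pow_mul, hz, one_pow]) e
    have h2 := pow_smul_of_fixed (z ^ k) _ h1 m
    rwa [hzk] at h2
  have hsum : ∑ i ∈ Finset.range p, nop p (w * z ^ i) e = p • e := by
    simp only [nop_apply]
    rw [Finset.sum_comm]
    have hk : ∀ k ∈ Finset.range p, ∑ i ∈ Finset.range p, ((w * z ^ i) ^ k) • e
        = (w ^ k) • nop p (z ^ k) e := by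
      intro k _
      rw [nop_apply, Finset.smul_sum]
      refine Finset.sum_congr rfl fun i _ => ?_
      rw [(hwz.pow_right i).mul_pow, smul_smul, ← pow_mul, ← pow_mul, mul_comm i k]
    rw [Finset.sum_congr rfl hk, Finset.sum_eq_single 0]
    · simp [nop_apply]
    · intro k hk hk0
      rw [hNz k (Nat.pos_of_ne_zero hk0) (Finset.mem_range.mp hk), smul_zero]
    · intro h; exact absurd (Finset.mem_range.mpr hp.out.pos) h
  rw [Finset.sum_eq_zero (fun i _ => hN0 i)] at hsum
  exact he (hpinv e hsum.symm)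

theorem fpf_of_cyclic (hP : IsPGroup p P) (hcyc : IsCyclic P)
    (hcentral : ∀ z ∈ Subgroup.center P, z ≠ 1 → z ^ p = 1 → ∀ a : E, z • a = a → a = 0)
    (g : P) (hg : g ≠ 1) (a : E) (hga : g • a = a) : a = 0 := by
  obtain ⟨k, hk⟩ := (IsPGroup.iff_orderOf.mp hP) g
  have hou := order_p_of_pow g k hg hk
  have hu1 : g ^ (p ^ (k - 1)) ≠ 1 := by
    intro h
    rw [h, orderOf_one] at hou
    exact hp.out.one_lt.ne hou
  have hup : (g ^ (p ^ (k - 1))) ^ p = 1 := by
    have := pow_orderOf_eq_one (g ^ (p ^ (k - 1)))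
    rwa [hou] at this
  have huc : g ^ (p ^ (k - 1)) ∈ Subgroup.center P := by
    rw [Subgroup.mem_center_iff]
    intro w
    exact (IsCyclic.isMulCommutative (α := P)).is_comm.comm w _
  exact hcentral _ huc hu1 hup a (pow_smul_of_fixed g a hga _)

theorem not_noncyclic (hp2 : p ≠ 2) (hP : IsPGroup p P)
    (hpinv : ∀ e : E, p • e = 0 → e = 0)
    (hconst : ∀ a b : E, a ≠ 0 → b ≠ 0 →
      Nat.card (MulAction.stabilizer P a) = Nat.card (MulAction.stabilizer P b))
    (hcentral : ∀ z ∈ Subgroup.center P, z ≠ 1 → z ^ p = 1 → ∀ a : E, z • a = a → a = 0)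
    (hEnt : ∃ e : E, e ≠ 0) (hnc : ¬ IsCyclic P) : False := by
  have hnc' : ¬ IsCyclic (⊤ : Subgroup P) := fun h =>
    hnc (isCyclic_of_surjective (Subgroup.topEquiv (G := P)).toMonoidHom
      (Subgroup.topEquiv (G := P)).surjective)
  obtain ⟨A, -, hAn, hAexp, hAcard⟩ := exists_normal_exp_p_sq hp2 hP ⊤ hnc'
  have hAcomm : ∀ u ∈ A, ∀ v ∈ A, u * v = v * u := by
    intro u hu v hv
    have := (IsPGroup.isMulCommutative_of_card_eq_prime_sq hAcard).is_comm.comm
      (⟨u, hu⟩ : A) ⟨v, hv⟩
    exact congrArg Subtype.val this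
  have h2le := hp.out.two_le
  have hA0 : A ≠ ⊥ := by
    rintro rfl
    rw [Subgroup.card_bot] at hAcard
    nlinarith
  obtain ⟨z, hzA, hzC, hz⟩ := exists_central_order_p hP A hA0
  have hz1 : z ≠ 1 := by
    intro h
    rw [h, orderOf_one] at hz
    exact hp.out.one_lt.ne hz
  have hzp : z ^ p = 1 := by
    have := pow_orderOf_eq_one z
    rwa [hz] at this
  have hzfpf := hcentral z hzC hz1 hzp
  -- two independent elements of `A` have no common nonzero fixed vector
  have hL : ∀ u ∈ A, ∀ v ∈ A, u ≠ 1 → v ∉ Subgroup.zpowers u → ∀ e : E, u • e = e → v • e = e →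
      e = 0 := by
    intro u hu v hv hu1 hvu e hue hve
    apply hzfpf
    have hle : Subgroup.zpowers u ⊔ Subgroup.zpowers v ≤ A :=
      sup_le (Subgroup.zpowers_le.mpr hu) (Subgroup.zpowers_le.mpr hv)
    have hH : Subgroup.zpowers u ⊔ Subgroup.zpowers v = A := by
      by_contra hne
      have hlt : Nat.card ↥(Subgroup.zpowers u ⊔ Subgroup.zpowers v) < Nat.card A := by
        by_contra hge
        exact hne (Subgroup.eq_of_le_of_card_ge hle (not_lt.mp hge))
      have hdvd := Subgroup.card_dvd_of_le hle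
      rw [hAcard] at hdvd hlt
      obtain ⟨i, hi2, hi⟩ := (Nat.dvd_prime_pow hp.out).mp hdvd
      have hi1 : i ≤ 1 := by
        by_contra h
        have h2 : i = 2 := by omega
        rw [hi, h2] at hlt
        exact lt_irrefl _ hlt
      have hcu : Nat.card (Subgroup.zpowers u) = p := by
        rw [Nat.card_zpowers]; exact orderOf_eq_prime (hAexp u hu) hu1
      have hle2 : Nat.card ↥(Subgroup.zpowers u ⊔ Subgroup.zpowers v)
          ≤ Nat.card (Subgroup.zpowers u) := by
        rw [hcu, hi]
        calc p ^ i ≤ p ^ 1 := Nat.pow_le_pow_right hp.out.pos hi1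
          _ = p := pow_one p
      have heq := Subgroup.eq_of_le_of_card_ge
        (le_sup_left : Subgroup.zpowers u ≤ Subgroup.zpowers u ⊔ Subgroup.zpowers v) hle2
      apply hvu
      rw [heq]
      exact (le_sup_right : Subgroup.zpowers v ≤ Subgroup.zpowers u ⊔ Subgroup.zpowers v)
        (Subgroup.mem_zpowers v)
    have hzmem : z ∈ Subgroup.zpowers u ⊔ Subgroup.zpowers v := by rw [hH]; exact hzA
    have hstab : Subgroup.zpowers u ⊔ Subgroup.zpowers v ≤ MulAction.stabilizer P e :=
      sup_le (Subgroup.zpowers_le.mpr hue) (Subgroup.zpowers_le.mpr hve)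
    exact hstab hzmem
  have hLa : ∀ u ∈ A, ∀ v ∈ A, u ≠ 1 → v ∉ Subgroup.zpowers u → ∀ e : E, v • e = e →
      nop p u e = 0 := by
    intro u hu v hv hu1 hvu e hve
    apply hL u hu v hv hu1 hvu
    · exact smul_nop_self p u (hAexp u hu) e
    · exact smul_nop_of_commute p u v (hAcomm v hv u hu) e hve
  have hLb : ∀ u ∈ A, ∀ v ∈ A, u ≠ 1 → v ∉ Subgroup.zpowers u → ∀ e : E, u • e = e →
      nop p v e = 0 := by
    intro u hu v hv hu1 hvu e hue
    apply hL u hu v hv hu1 hvu
    · exact smul_nop_of_commute p v u (hAcomm u hu v hv) e hue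
    · exact smul_nop_self p v (hAexp v hv) e
  -- an element of `A` fixing a nonzero vector
  obtain ⟨w, hwA, hwz⟩ : ∃ w ∈ A, w ∉ Subgroup.zpowers z := by
    by_contra hcon
    push Not at hcon
    have hle : A ≤ Subgroup.zpowers z := hcon
    have := Subgroup.card_le_of_le hle
    rw [hAcard, Nat.card_zpowers, hz] at this
    nlinarith
  obtain ⟨e, he⟩ := hEnt
  obtain ⟨i, a, ha, hxa⟩ := exists_fixed_of_pair hpinv w z (hAcomm w hwA z hzA) (hAexp w hwA) hzp
    hzfpf e he
  have hxA : w * z ^ i ∈ A := A.mul_mem hwA (A.pow_mem hzA i)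
  have hx1 : w * z ^ i ≠ 1 := by
    intro h
    apply hwz
    have : w = (z ^ i)⁻¹ := eq_inv_of_mul_eq_one_left h
    rw [this]; exact Subgroup.inv_mem _ (Subgroup.pow_mem _ (Subgroup.mem_zpowers z) i)
  generalize w * z ^ i = x at hxa hxA hx1
  have hxstab : Subgroup.zpowers x ≤ MulAction.stabilizer P a :=
    Subgroup.zpowers_le.mpr (show x ∈ MulAction.stabilizer P a from hxa)
  obtain ⟨g, hg⟩ : ∃ g : P, g * x * g⁻¹ ∉ Subgroup.zpowers x := by
    by_contra hcon
    push Not at hcon
    have hBn : (Subgroup.zpowers x).Normal := by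
      constructor
      intro n hn g
      obtain ⟨k, rfl⟩ := Subgroup.mem_zpowers_iff.mp hn
      rw [← conj_zpow]
      exact Subgroup.zpow_mem _ (hcon g) k
    have hB0 : Subgroup.zpowers x ≠ ⊥ := by
      rw [Ne, Subgroup.zpowers_eq_bot]; exact hx1
    have hnil := hP.isNilpotent
    obtain ⟨c, hcB, hcZ, hc1⟩ :=
      Cfsg.Agent.Lib.Helper69.exists_mem_center_of_normal (Subgroup.zpowers x) hB0
    have hcA : c ∈ A := (Subgroup.zpowers_le.mpr hxA) hcB
    exact ha (hcentral c hcZ hc1 (hAexp c hcA) a (hxstab hcB))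
  have hyA : g * x * g⁻¹ ∈ A := hAn.conj_mem x hxA g
  have hyb : (g * x * g⁻¹) • (g • a) = g • a := by
    rw [smul_smul, inv_mul_cancel_right, mul_smul, hxa]
  have hb0 : g • a ≠ 0 := fun h => ha ((smul_eq_zero_iff_eq g).mp h)
  have hy1 : g * x * g⁻¹ ≠ 1 := by
    intro h; apply hg; rw [h]; exact one_mem _
  generalize g * x * g⁻¹ = y at hg hyA hyb hy1
  generalize g • a = b at hyb hb0
  have hystab : Subgroup.zpowers y ≤ MulAction.stabilizer P b :=
    Subgroup.zpowers_le.mpr (show y ∈ MulAction.stabilizer P b from hyb)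
  have hNa : nop p x a = p • a := nop_of_fixed p x a hxa
  have hNb : nop p x b = 0 := hLa x hxA y hyA hx1 hg b hyb
  have hNab : nop p x (a + b) = p • a := by rw [map_add, hNa, hNb, add_zero]
  have hstab : ∀ h : P, h • (a + b) = a + b → h • a = a := by
    intro h hh
    have hx'A : h * x * h⁻¹ ∈ A := hAn.conj_mem x hxA h
    have h2 : p • (h • a) = nop p (h * x * h⁻¹) a + nop p (h * x * h⁻¹) b := by
      calc p • (h • a) = h • (p • a) := (smul_comm h p a).symm
        _ = h • nop p x (a + b) := by rw [hNab]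
        _ = nop p (h * x * h⁻¹) (h • (a + b)) := smul_nop p h x _
        _ = nop p (h * x * h⁻¹) a + nop p (h * x * h⁻¹) b := by rw [hh, map_add]
    generalize h * x * h⁻¹ = x' at hx'A h2
    by_cases c1 : x' ∈ Subgroup.zpowers x
    · have hx'a : x' • a = a := hxstab c1
      rw [nop_of_fixed p x' a hx'a] at h2
      by_cases c2 : x' ∈ Subgroup.zpowers y
      · exfalso
        have hx'b : x' • b = b := hystab c2
        rw [nop_of_fixed p x' b hx'b, ← smul_add] at h2
        have h3 : h • a = a + b := pcancel hpinv h2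
        have h4 : h • b = 0 := by
          have h5 := hh
          rw [smul_add, h3] at h5
          exact add_left_cancel (a := a + b) (h5.trans (add_zero _).symm)
        exact hb0 ((smul_eq_zero_iff_eq h).mp h4)
      · rw [hLb y hyA x' hx'A hy1 c2 b hyb, add_zero] at h2
        exact pcancel hpinv h2
    · rw [hLb x hxA x' hx'A hx1 c1 a hxa, zero_add] at h2
      by_cases c2 : x' ∈ Subgroup.zpowers y
      · have hx'b : x' • b = b := hystab c2
        rw [nop_of_fixed p x' b hx'b] at h2
        have h3 : h • a = b := pcancel hpinv h2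
        have h4 : h • b = a := by
          have h5 := hh
          rw [smul_add, h3, add_comm a b] at h5
          exact add_left_cancel h5
        have h5 : (h * h) • a = a := by rw [mul_smul, h3, h4]
        have h6 : h • a = a := fix_of_sq_fix hp2 hP h a h5
        exfalso
        have hab : a = b := h6.symm.trans h3
        exact ha (hL x hxA y hyA hx1 hg a hxa (by rw [hab]; exact hyb))
      · exfalso
        rw [hLb y hyA x' hx'A hy1 c2 b hyb] at h2
        exact ha ((smul_eq_zero_iff_eq h).mp (hpinv _ h2))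
  have hab0 : a + b ≠ 0 := by
    intro h0
    rw [h0, map_zero] at hNab
    exact ha (hpinv a hNab.symm)
  have hxab := stab_transfer hconst a (a + b) ha hab0 hstab x hxa
  have hxb : x • b = b := by
    rw [smul_add, hxa] at hxab; exact add_left_cancel hxab
  exact hb0 (hL x hxA y hyA hx1 hg b hxb hyb)

end main

/-- Let `p ≠ 2` be prime and `P` a finite `p`-group acting faithfully by additive automorphisms on a finite elementary abelian `q`-group `E` (`q` prime), such that `|P_a|` is the same for all `a ≠ 0`. Then `P` is cyclic and every non-identity element of `P` fixes only `0`. -/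
theorem result {P E : Type*} [Group P] [Finite P]
    [AddCommGroup E] [Finite E] [DistribMulAction P E] [FaithfulSMul P E]
    {p q : ℕ} [Fact p.Prime] (hp2 : p ≠ 2) (hP : IsPGroup p P) (hq : q.Prime) (hE : ∀ e : E, q • e = 0)
    (hconst : ∀ a b : E, a ≠ 0 → b ≠ 0 →
      Nat.card (MulAction.stabilizer P a) = Nat.card (MulAction.stabilizer P b)) :
    IsCyclic P ∧ ∀ g : P, g ≠ 1 → ∀ a : E, g • a = a → a = 0 := by
  by_cases hsub : Subsingleton P
  · exact ⟨inferInstance, fun g hg => absurd (Subsingleton.elim g 1) hg⟩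
  have hEnt : ∃ e : E, e ≠ 0 := by
    by_contra hcon
    push Not at hcon
    apply hsub
    constructor
    intro g h
    exact FaithfulSMul.eq_of_smul_eq_smul (α := E) fun e => by
      rw [hcon e, smul_zero, smul_zero]
  have hpq : p ≠ q := by
    intro hpq
    subst hpq
    obtain ⟨e, he⟩ := hEnt
    have hdvd : p ∣ Nat.card E := by
      have h1 : addOrderOf e ∣ p := addOrderOf_dvd_of_nsmul_eq_zero (hE e)
      have h2 : addOrderOf e ≠ 1 := fun h => he (AddMonoid.addOrderOf_eq_one_iff.mp h)
      have h3 : addOrderOf e = p := ((Nat.dvd_prime hq).mp h1).resolve_left h2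
      rw [← h3]; exact addOrderOf_dvd_natCard e
    obtain ⟨b, hbfix, hb0⟩ := hP.exists_fixed_point_of_prime_dvd_card_of_fixed_point E hdvd
      (a := 0) (fun g => smul_zero g)
    have hbtop : MulAction.stabilizer P b = ⊤ := by
      rw [eq_top_iff]; intro g _; exact hbfix g
    apply hsub
    constructor
    intro g h
    refine FaithfulSMul.eq_of_smul_eq_smul (α := E) fun a => ?_
    by_cases ha : a = 0
    · rw [ha, smul_zero, smul_zero]
    · have hc := hconst a b ha (Ne.symm hb0)
      rw [hbtop, Subgroup.card_top] at hc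
      have htop := Subgroup.eq_top_of_card_eq _ hc
      have hg : g ∈ MulAction.stabilizer P a := by rw [htop]; trivial
      have hh : h ∈ MulAction.stabilizer P a := by rw [htop]; trivial
      rw [MulAction.mem_stabilizer_iff] at hg hh
      rw [hg, hh]
  have hpinv : ∀ e : E, p • e = 0 → e = 0 := pinv_of_ne hq hpq hE
  have hcentral : ∀ z ∈ Subgroup.center P, z ≠ 1 → z ^ p = 1 → ∀ a : E, z • a = a → a = 0 :=
    fun z hzc hz1 hzp a hza => central_fpf hpinv hconst z hzc hz1 hzp a hza
  have hcyc : IsCyclic P := by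
    by_contra hnc
    exact not_noncyclic hp2 hP hpinv hconst hcentral hEnt hnc
  exact ⟨hcyc, fun g hg a hga => fpf_of_cyclic hP hcyc hcentral g hg a hga⟩

end Cfsg.Agent.S1160
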