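import Cfsg.Statements.S1165
import Cfsg.Agent.Lib.Helper26.RankOne

set_option autoImplicit false
set_option linter.unusedSimpArgs false
set_option linter.unusedVariables false
open Cfsg
open Cfsg.Agent.Lib.Helper26

namespace Cfsg.Agent.S1165

theorem result {G Ω : Type*} [Group G] [Finite G] [MulAction G Ω] {a : Ω} {t : G} {Q : Subgroup G}
    (hS : Cfsg.IsRankOneSetup G Ω a t Q)
    (x g h f : G) (hx : x ∈ Q) (hx1 : x ≠ 1) (hg : g ∈ Q) (hh : h ∈ (MulAction.stabilizer G a ⊓ MulAction.stabilizer G (t • a))) (hf : f ∈ Q)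
    (heq : t * x * t = g * h * t * f) :
    (∀ g₁ h₁ f₁ : G, g₁ ∈ Q → h₁ ∈ (MulAction.stabilizer G a ⊓ MulAction.stabilizer G (t • a)) → f₁ ∈ Q → t * x⁻¹ * t = g₁ * h₁ * t * f₁ →
        f₁ = g⁻¹ ∧ h₁ = t * h⁻¹ * t) ∧
      (∀ g₂ h₂ f₂ : G, g₂ ∈ Q → h₂ ∈ (MulAction.stabilizer G a ⊓ MulAction.stabilizer G (t • a)) → f₂ ∈ Q → t * f * t = g₂ * h₂ * t * f₂ →
        f₂ = x ∧ h₂ = h⁻¹) ∧
      ∀ c ∈ (MulAction.stabilizer G a ⊓ MulAction.stabilizer G (t • a)), ∀ g₃ h₃ f₃ : G, g₃ ∈ Q → h₃ ∈ (MulAction.stabilizer G a ⊓ MulAction.stabilizer G (t • a)) → f₃ ∈ Q →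
        t * (c⁻¹ * x * c) * t = g₃ * h₃ * t * f₃ →
          f₃ = (t * c * t)⁻¹ * f * (t * c * t) ∧ h₃ = (t * c * t)⁻¹ * h * c := by
  have hti := ro_t_inv hS
  have htt := hS.mul_self
  have htt' : ∀ y : G, t * (t * y) = y := fun y => by rw [← mul_assoc, htt, one_mul]
  have hDa : ∀ d ∈ (MulAction.stabilizer G a ⊓ MulAction.stabilizer G (t • a)), d ∈ MulAction.stabilizer G a :=
    fun d hd => (Subgroup.mem_inf.mp hd).1
  refine ⟨?_, ?_, ?_⟩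
  · intro g₁ h₁ f₁ hg₁ hh₁ hf₁ e
    have e2 : g₁ * h₁ * t * f₁ = f⁻¹ * (t * h⁻¹ * t) * t * g⁻¹ := by
      rw [← e]
      have : t * x⁻¹ * t = (t * x * t)⁻¹ := by
        rw [mul_inv_rev, mul_inv_rev, hti, mul_assoc]
      rw [this, heq]
      simp only [mul_assoc, mul_inv_rev, inv_inv, hti, htt, htt', mul_one, one_mul]
    obtain ⟨-, h2, h3⟩ := ro_uniq hS hg₁ hh₁ hf₁ (inv_mem hf) (ro_conj_t_mem_D hS (inv_mem hh)) (inv_mem hg) e2
    exact ⟨h3, h2⟩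
  · intro g₂ h₂ f₂ hg₂ hh₂ hf₂ e
    have e2 : g₂ * h₂ * t * f₂ = (h⁻¹ * g⁻¹ * h⁻¹⁻¹) * h⁻¹ * t * x := by
      rw [← e]
      have : f = t * h⁻¹ * g⁻¹ * (t * x * t) := by
        rw [heq]
        simp only [mul_assoc, mul_inv_rev, inv_inv, hti, htt, htt', mul_one, one_mul,
          inv_mul_cancel_left, mul_inv_cancel_left]
      rw [this]
      simp only [mul_assoc, mul_inv_rev, inv_inv, hti, htt, htt', mul_one, one_mul,
          inv_mul_cancel_left, mul_inv_cancel_left]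
    obtain ⟨-, h2, h3⟩ := ro_uniq hS hg₂ hh₂ hf₂ (hS.conj_mem _ (hDa _ (inv_mem hh)) _ (inv_mem hg)) (inv_mem hh) hx e2
    exact ⟨h3, h2⟩
  · intro c hc g₃ h₃ f₃ hg₃ hh₃ hf₃ e
    have hd := ro_conj_t_mem_D hS hc
    have e2 : g₃ * h₃ * t * f₃ = ((t * c * t)⁻¹ * g * (t * c * t)⁻¹⁻¹) * ((t * c * t)⁻¹ * h * c) * t *
        ((t * c * t)⁻¹ * f * (t * c * t)⁻¹⁻¹) := by
      rw [← e]
      have h1 : t * (c⁻¹ * x * c) * t = (t * c * t)⁻¹ * (t * x * t) * (t * c * t) := by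
        simp only [mul_assoc, mul_inv_rev, inv_inv, hti, htt, htt', mul_one, one_mul,
          inv_mul_cancel_left, mul_inv_cancel_left]
      rw [h1, heq]
      simp only [mul_assoc, mul_inv_rev, inv_inv, hti, htt, htt', mul_one, one_mul,
          inv_mul_cancel_left, mul_inv_cancel_left]
    obtain ⟨-, h2, h3⟩ := ro_uniq hS hg₃ hh₃ hf₃
      (hS.conj_mem _ (hDa _ (inv_mem hd)) _ hg) (mul_mem (mul_mem (inv_mem hd) hh) hc)
      (hS.conj_mem _ (hDa _ (inv_mem hd)) _ hf) e2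
    rw [inv_inv] at h3
    exact ⟨h3, h2⟩

end Cfsg.Agent.S1165
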