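import Cfsg.Statements.S1166
import Cfsg.Agent.Lib.Helper26.RankOne

set_option autoImplicit false
set_option linter.unusedSimpArgs false
set_option linter.unusedVariables false
open Cfsg
open Cfsg.Agent.Lib.Helper26

namespace Cfsg.Agent.S1166

theorem result {G Ω : Type*} [Group G] [Finite G] [MulAction G Ω] {a : Ω} {t : G} {Q : Subgroup G}
    (hS : Cfsg.IsRankOneSetup G Ω a t Q)
    (x y gx hx fx gy hy fy : G) (hxQ : x ∈ Q) (hx1 : x ≠ 1) (hyQ : y ∈ Q) (hy1 : y ≠ 1) (hxy : x * y ≠ 1)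
    (hgx : gx ∈ Q) (hhx : hx ∈ (MulAction.stabilizer G a ⊓ MulAction.stabilizer G (t • a))) (hfx : fx ∈ Q) (ex : t * x * t = gx * hx * t * fx)
    (hgy : gy ∈ Q) (hhy : hy ∈ (MulAction.stabilizer G a ⊓ MulAction.stabilizer G (t • a))) (hfy : fy ∈ Q) (ey : t * y * t = gy * hy * t * fy) :
    fx * gy ≠ 1 ∧
      ∀ gz hz fz g' h' f' : G, gz ∈ Q → hz ∈ (MulAction.stabilizer G a ⊓ MulAction.stabilizer G (t • a)) → fz ∈ Q → t * (fx * gy) * t = gz * hz * t * fz →
        g' ∈ Q → h' ∈ (MulAction.stabilizer G a ⊓ MulAction.stabilizer G (t • a)) → f' ∈ Q → t * (x * y) * t = g' * h' * t * f' →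
          f' = (t * hy * t)⁻¹ * fz * (t * hy * t) * fy ∧ h' = hx * hz * hy := by
  have hti := ro_t_inv hS
  have htt := hS.mul_self
  have htt' : ∀ y : G, t * (t * y) = y := fun y => by rw [← mul_assoc, htt, one_mul]
  have hDa : ∀ d ∈ (MulAction.stabilizer G a ⊓ MulAction.stabilizer G (t • a)), d ∈ MulAction.stabilizer G a :=
    fun d hd => (Subgroup.mem_inf.mp hd).1
  have hxy' : t * (x * y) * t = (t * x * t) * (t * y * t) := by
    simp only [mul_assoc, htt']
  refine ⟨?_, ?_⟩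
  · intro hz1
    apply hxy
    apply ro_Q_inf_D hS (mul_mem hxQ hyQ)
    -- t (x y) t ∈ G_a
    have h1 : t * (x * y) * t = gx * hx * (t * hy * t) * fy := by
      rw [hxy', ex, ey]
      have : gx * hx * t * fx * (gy * hy * t * fy) = gx * hx * t * (fx * gy) * hy * t * fy := by
        simp only [mul_assoc]
      rw [this, hz1]
      simp only [mul_assoc, mul_one]
    have h2 : t * (x * y) * t ∈ MulAction.stabilizer G a := by
      rw [h1]
      exact mul_mem (mul_mem (mul_mem (hS.le hgx) (hDa _ hhx)) (hDa _ (ro_conj_t_mem_D hS hhy))) (hS.le hfy)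
    rw [MulAction.mem_stabilizer_iff, mul_smul, mul_smul] at h2
    rw [MulAction.mem_stabilizer_iff]
    have := congrArg (fun b => t • b) h2
    simp only [ro_t_smul_t_smul hS] at this
    exact this
  · intro gz hz fz g' h' f' hgz hhz hfz ez hg' hh' hf' e'
    have hd := ro_conj_t_mem_D hS hhy
    have e2 : g' * h' * t * f' = (gx * (hx * gz * hx⁻¹)) * (hx * hz * hy) * t *
        ((t * hy * t)⁻¹ * fz * (t * hy * t)⁻¹⁻¹ * fy) := by
      rw [← e', hxy', ex, ey]
      have h1 : gx * hx * t * fx * (gy * hy * t * fy) = gx * hx * (t * (fx * gy) * t) * t * hy * t * fy := by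
        simp only [mul_assoc, htt']
      rw [h1, ez]
      simp only [mul_assoc, mul_inv_rev, inv_inv, hti, htt, htt', mul_one, one_mul,
          inv_mul_cancel_left, mul_inv_cancel_left]
    obtain ⟨-, h2, h3⟩ := ro_uniq hS hg' hh' hf'
      (mul_mem hgx (hS.conj_mem _ (hDa _ hhx) _ hgz)) (mul_mem (mul_mem hhx hhz) hhy)
      (mul_mem (hS.conj_mem _ (hDa _ (inv_mem hd)) _ hfz) hfy) e2
    rw [inv_inv] at h3
    exact ⟨h3, h2⟩

end Cfsg.Agent.S1166
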