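import Cfsg.Statements.S1168
import Cfsg.Agent.S1140

set_option autoImplicit false
set_option linter.style.haveILetI false
open Cfsg

namespace Cfsg.Agent.S1168

theorem result {F : Type*} [Field F] [Fintype F] [CharP F 2]
    (q : F → F)
    (hq : ∀ x y z : F, q (x + y + z) + q (x + y) + q (x + z) + q (y + z) + q x + q y + q z = 0) :
    ∃ (s : Finset ((F ≃+* F) × (F ≃+* F))) (c : (F ≃+* F) × (F ≃+* F) → F),
      ∀ x : F, q x = ∑ p ∈ s, c p * (p.1 x * p.2 x) := by
  letI := ZMod.algebra F 2
  have h2 : ∀ u : F, u + u = 0 := CharTwo.add_self_eq_zero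
  have eq_of_add : ∀ u v : F, u + v = 0 → u = v := fun u v h => by
    have : u = u + (v + v) := by rw [h2 v, add_zero]
    rw [this, ← add_assoc, h, zero_add]
  have hq0 : q 0 = 0 := by
    have := hq 0 0 0
    simp only [add_zero] at this
    have e : q 0 + q 0 + q 0 + q 0 + q 0 + q 0 + q 0 = q 0 := by
      rw [h2 (q 0), zero_add, h2 (q 0), zero_add, h2 (q 0), zero_add]
    rw [e] at this
    exact this
  -- the polar form
  have hadd_left : ∀ x x' y : F, q (x + x' + y) + q (x + x') + q y
      = (q (x + y) + q x + q y) + (q (x' + y) + q x' + q y) := by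
    intro x x' y
    apply eq_of_add
    have := hq x x' y
    calc q (x + x' + y) + q (x + x') + q y + ((q (x + y) + q x + q y) + (q (x' + y) + q x' + q y))
        = (q (x + x' + y) + q (x + x') + q (x + y) + q (x' + y) + q x + q x' + q y) + (q y + q y) := by
          ring
      _ = 0 := by rw [this, h2, add_zero]
  have hsymm : ∀ x y : F, q (x + y) + q x + q y = q (y + x) + q y + q x := by
    intro x y; rw [add_comm x y]; ring
  let B₀ : F →ₗ[ZMod 2] F →ₗ[ZMod 2] F :=
    LinearMap.mk₂ (ZMod 2) (fun x y => q (x + y) + q x + q y)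
      (fun x x' y => hadd_left x x' y)
      (fun a x y => by
        let g : F →+ F := AddMonoidHom.mk' (fun x => q (x + y) + q x + q y) (fun x x' => hadd_left x x' y)
        exact ZMod.map_smul g a x)
      (fun x y y' => by
        rw [hsymm x (y + y'), hsymm x y, hsymm x y']
        exact hadd_left y y' x)
      (fun a x y => by
        let g : F →+ F := AddMonoidHom.mk' (fun y => q (x + y) + q x + q y) (fun y y' => by
          show q (x + (y + y')) + q x + q (y + y') = _
          rw [hsymm x (y + y'), hsymm x y, hsymm x y']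
          exact hadd_left y y' x)
        exact ZMod.map_smul g a y)
  let Q : QuadraticMap (ZMod 2) F F :=
    { toFun := q
      toFun_smul := fun a x => by
        fin_cases a
        · show q ((0 : ZMod 2) • x) = ((0 : ZMod 2) * 0) • q x
          rw [zero_smul, mul_zero, zero_smul, hq0]
        · show q ((1 : ZMod 2) • x) = ((1 : ZMod 2) * 1) • q x
          rw [one_smul, mul_one, one_smul]
      exists_companion' := ⟨B₀, fun x y => by
        show q (x + y) = q x + q y + (q (x + y) + q x + q y)
        have : q x + q y + (q (x + y) + q x + q y) = q (x + y) + (q x + q x) + (q y + q y) := by ring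
        rw [this, h2, h2, add_zero, add_zero]⟩ }
  let bm := Module.finBasis (ZMod 2) F
  have hC : ∀ x : F, (Q.toBilin bm) x x = q x := by
    intro x
    have := QuadraticMap.toQuadraticMap_toBilin Q bm
    have h3 := DFunLike.congr_fun this x
    rw [LinearMap.BilinMap.toQuadraticMap_apply] at h3
    exact h3
  let Cadd : F →+ F →+ F :=
    { toFun := fun x => ((Q.toBilin bm) x).toAddMonoidHom
      map_zero' := by ext y; simp
      map_add' := fun x x' => by ext y; simp }
  obtain ⟨s, c, hsc⟩ := (Cfsg.Agent.S1140.result (F := F)).2.2 Cadd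
  refine ⟨s, c, fun x => ?_⟩
  rw [← hC x]
  exact hsc x x

end Cfsg.Agent.S1168
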