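import Cfsg.Statements.S1176
import Cfsg.Agent.Lib.Helper26.Dihedral

set_option autoImplicit false
open Cfsg
open Cfsg.Agent.Lib.Helper26
open scoped commutatorElement

namespace Cfsg.Agent.S1176

theorem sq_of_isConj {G : Type*} [Group G] (x₀ x : G) (hx₀ : x₀ * x₀ = 1) (hx : IsConj x₀ x) :
    x * x = 1 := by
  obtain ⟨c, hc⟩ := isConj_iff.mp hx
  rw [← hc]
  have : c * x₀ * c⁻¹ * (c * x₀ * c⁻¹) = c * (x₀ * x₀) * c⁻¹ := by group
  rw [this, hx₀]; group

theorem result {G : Type*} [Group G] [Finite G] (x₀ : G) (hx₀ : orderOf x₀ = 2) (ha : ∀ x : G, IsConj x₀ x → IsPGroup 2 ↥(Subgroup.closure {y : G | IsConj x₀ y ∧ Commute y x}) ∧ ⁅⁅Subgroup.closure {y : G | IsConj x₀ y ∧ Commute y x}, Subgroup.closure {y : G | IsConj x₀ y ∧ Commute y x}⁆, Subgroup.closure {y : G | IsConj x₀ y ∧ Commute y x}⁆ = ⊥) (hb : ∀ x y : G, IsConj x₀ x → IsConj x₀ y → x ≠ y → Commute x y → IsConj x₀ (x * y)) (x y : G) (hx : IsConj x₀ x) (hy : IsConj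 x₀ y) (heven : Even (orderOf (x * y))) (hgt : 2 < orderOf (x * y)) : orderOf (x * y) = 4 := by
  have h00 : x₀ * x₀ = 1 := by rw [← pow_two, ← hx₀, pow_orderOf_eq_one]
  have hxx : x * x = 1 := sq_of_isConj x₀ x h00 hx
  have hyy : y * y = 1 := sq_of_isConj x₀ y h00 hy
  have hxi : x⁻¹ = x := inv_eq_of_mul_eq_one_left hxx
  have hyi : y⁻¹ = y := inv_eq_of_mul_eq_one_left hyy
  obtain ⟨m, hm⟩ := heven
  have hm2 : orderOf (x * y) = 2 * m := by omega
  have hm0 : 0 < m := by omega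
  obtain ⟨hu1, hu2, hux, huy⟩ := dih_even_central x y hxx hyy m hm0 hm2
  -- e = u * x is conjugate to x₀
  have he : IsConj x₀ ((x * y) ^ m * x) := by
    rcases dih_reflection_conj x y hxx hyy m with ⟨k, hk⟩ | ⟨k, hk⟩
    · rw [hk]; exact hx.trans (isConj_iff.mpr ⟨k, rfl⟩)
    · rw [hk]; exact hy.trans (isConj_iff.mpr ⟨k, rfl⟩)
  have hne : x ≠ (x * y) ^ m * x := by
    intro h
    apply hu1
    have : 1 * x = (x * y) ^ m * x := by rw [one_mul]; exact h
    exact (mul_right_cancel this).symm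
  have hcomm : Commute x ((x * y) ^ m * x) := by
    show x * ((x * y) ^ m * x) = (x * y) ^ m * x * x
    rw [← mul_assoc, hux]
  have hu : IsConj x₀ ((x * y) ^ m) := by
    have := hb x _ hx he hne hcomm
    rw [← mul_assoc, hux, mul_assoc, hxx, mul_one] at this
    exact this
  obtain ⟨-, h3⟩ := ha _ hu
  have hxW : x ∈ Subgroup.closure {y' : G | IsConj x₀ y' ∧ Commute y' ((x * y) ^ m)} :=
    Subgroup.subset_closure ⟨hx, hux⟩
  have hyW : y ∈ Subgroup.closure {y' : G | IsConj x₀ y' ∧ Commute y' ((x * y) ^ m)} :=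
    Subgroup.subset_closure ⟨hy, huy⟩
  have h4 : ⁅⁅x, y⁆, x⁆ = 1 := by
    have : ⁅⁅x, y⁆, x⁆ ∈ (⊥ : Subgroup G) := by
      rw [← h3]
      exact Subgroup.commutator_mem_commutator (Subgroup.commutator_mem_commutator hxW hyW) hxW
    exact Subgroup.mem_bot.mp this
  have h5 : ⁅⁅x, y⁆, x⁆ = (x * y) ^ 4 := by
    rw [commutatorElement_def, commutatorElement_def, hxi, hyi]
    have e1 : x * y * x * y = (x * y) ^ 2 := by rw [pow_two]; simp only [mul_assoc]
    rw [e1]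
    have e2 := dih_z_mul_inv_pow x y hxx hyy 2
    rw [mul_assoc ((x * y) ^ 2) x, e2, ← mul_assoc, mul_assoc _ x x, hxx, mul_one, ← pow_add]
  rw [h5] at h4
  have hdvd : orderOf (x * y) ∣ 4 := orderOf_dvd_of_pow_eq_one h4
  have hle : orderOf (x * y) ≤ 4 := Nat.le_of_dvd (by norm_num) hdvd
  interval_cases h : orderOf (x * y) <;> omega

end Cfsg.Agent.S1176
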