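import Cfsg.Statements.S1177

set_option autoImplicit false
open Cfsg

namespace Cfsg.Agent.S1177

theorem mem_map_conj {G : Type*} [Group G] (A : Subgroup G) (c y : G) :
    y ∈ A.map (MulAut.conj c).toMonoidHom ↔ c⁻¹ * y * c ∈ A := by
  rw [Subgroup.mem_map]
  constructor
  · rintro ⟨a, ha, rfl⟩
    have : c⁻¹ * ((MulAut.conj c).toMonoidHom a) * c = a := by
      simp [mul_assoc]
    rw [this]; exact ha
  · intro h
    exact ⟨_, h, by simp [mul_assoc]⟩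

theorem key1 {G : Type*} [Group G] (b x : G) (hbb : b * b = 1) (hxx : x * x = 1)
    (hpx : (b * x * b) * x = x * (b * x * b)) :
    x * b * x⁻¹ = b * (b * x * b * x) ∧ (b * x * b * x) * b = b * (b * x * b * x) := by
  have hxi : x⁻¹ = x := inv_eq_of_mul_eq_one_left hxx
  have e1 : x * b * x⁻¹ = b * (b * x * b * x) := by
    rw [hxi]
    calc x * b * x = (b * b) * (x * b * x) := by rw [hbb, one_mul]
      _ = b * (b * x * b * x) := by simp only [mul_assoc]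
  refine ⟨e1, ?_⟩
  rw [← e1, hxi]
  calc (b * x * b * x) * b = (x * (b * x * b)) * b := by rw [hpx]
    _ = x * b * x * (b * b) := by simp only [mul_assoc]
    _ = x * b * x := by rw [hbb, mul_one]

theorem result {G : Type*} [Group G] [Finite G] (A : Subgroup G) (hA : Cfsg.IsElementaryAbelian 2 A) (hA1 : A ≠ ⊥) (hTI : ∀ g : G, A.map (MulAut.conj g).toMonoidHom ⊓ A = ⊥ ∨ A.map (MulAut.conj g).toMonoidHom = A) (hb : ∀ g : G, (∀ a ∈ A, ∀ b ∈ A.map (MulAut.conj g).toMonoidHom, a * b = b * a) → A.map (MulAut.conj g).toMonoidHom = A) (a : G) (ha : a ∈ A) (ha1 : a ≠ 1) (g : G) (hg : A.map (MulAut.conj g).toMonoidHom ≤ Subgroup.centralizer ({a} : Set G)) : A.map (MulAut.conj g).toMonoidHom = A := by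
  obtain ⟨hAc, hA2⟩ := hA
  have comA : ∀ x ∈ A, ∀ y ∈ A, x * y = y * x := fun x hx y hy => by
    have := hAc.is_comm.comm ⟨x, hx⟩ ⟨y, hy⟩
    exact congrArg Subtype.val this
  have sqA : ∀ x ∈ A, x * x = 1 := fun x hx => by rw [← pow_two]; exact hA2 x hx
  have invA : ∀ x ∈ A, x⁻¹ = x := fun x hx => inv_eq_of_mul_eq_one_left (sqA x hx)
  -- elementwise form of an equality of a conjugate with A
  have eqForm : ∀ c : G, A.map (MulAut.conj c).toMonoidHom = A → ∀ x : G, (x ∈ A ↔ c * x * c⁻¹ ∈ A) := by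
    intro c h x
    constructor
    · intro hx
      rw [← h, mem_map_conj]
      have : c⁻¹ * (c * x * c⁻¹) * c = x := by group
      rw [this]; exact hx
    · intro hx
      rw [← h, mem_map_conj] at hx
      have : c⁻¹ * (c * x * c⁻¹) * c = x := by group
      rw [this] at hx; exact hx
  have TI : ∀ c : G, ∀ a₁ ∈ A, a₁ ≠ 1 → c * a₁ * c⁻¹ ∈ A → ∀ x : G, (x ∈ A ↔ c * x * c⁻¹ ∈ A) := by
    intro c a₁ ha₁ hne hmem
    rcases hTI c with h | h
    · exfalso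
      have h1 : c * a₁ * c⁻¹ ∈ A.map (MulAut.conj c).toMonoidHom ⊓ A := by
        refine ⟨?_, hmem⟩
        show c * a₁ * c⁻¹ ∈ A.map (MulAut.conj c).toMonoidHom
        rw [mem_map_conj]
        have : c⁻¹ * (c * a₁ * c⁻¹) * c = a₁ := by group
        rw [this]; exact ha₁
      rw [h, Subgroup.mem_bot] at h1
      apply hne
      have : a₁ = c⁻¹ * (c * a₁ * c⁻¹) * c := by group
      rw [this, h1]; group
    · exact eqForm c h
  have HB : ∀ c : G, (∀ x ∈ A, ∀ y ∈ A, x * (c * y * c⁻¹) = (c * y * c⁻¹) * x) →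
      ∀ x : G, (x ∈ A ↔ c * x * c⁻¹ ∈ A) := by
    intro c hc
    apply eqForm c
    apply hb c
    intro x hx b hbm
    rw [mem_map_conj] at hbm
    have := hc x hx _ hbm
    have e : c * (c⁻¹ * b * c) * c⁻¹ = b := by group
    rw [e] at this
    exact this
  -- it suffices to prove the elementwise form for g
  suffices hsuff : ∀ x : G, (x ∈ A ↔ g * x * g⁻¹ ∈ A) by
    ext y
    rw [mem_map_conj, hsuff (g⁻¹ * y * g)]
    have : g * (g⁻¹ * y * g) * g⁻¹ = y := by group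
    rw [this]
  -- conjugates of elements of A by g commute with a
  have hga : ∀ y ∈ A, a * (g * y * g⁻¹) = (g * y * g⁻¹) * a := by
    intro y hy
    have hm : g * y * g⁻¹ ∈ A.map (MulAut.conj g).toMonoidHom := by
      rw [mem_map_conj]
      have : g⁻¹ * (g * y * g⁻¹) * g = y := by group
      rw [this]; exact hy
    have := hg hm
    rw [Subgroup.mem_centralizer_iff] at this
    exact this a rfl
  -- Step 1: B normalizes A
  have step1 : ∀ y ∈ A, ∀ x : G, (x ∈ A ↔ (g * y * g⁻¹) * x * (g * y * g⁻¹)⁻¹ ∈ A) := by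
    intro y hy
    apply TI (g * y * g⁻¹) a ha ha1
    have : (g * y * g⁻¹) * a * (g * y * g⁻¹)⁻¹ = a := by
      rw [← hga y hy]; group
    rw [this]; exact ha
  -- B is an elementary abelian 2-group
  have sqB : ∀ y ∈ A, (g * y * g⁻¹) * (g * y * g⁻¹) = 1 := by
    intro y hy
    have : (g * y * g⁻¹) * (g * y * g⁻¹) = g * (y * y) * g⁻¹ := by group
    rw [this, sqA y hy]; group
  have invB : ∀ y ∈ A, (g * y * g⁻¹)⁻¹ = g * y * g⁻¹ := fun y hy =>
    inv_eq_of_mul_eq_one_left (sqB y hy)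
  have comB : ∀ y ∈ A, ∀ y' ∈ A, (g * y * g⁻¹) * (g * y' * g⁻¹) = (g * y' * g⁻¹) * (g * y * g⁻¹) := by
    intro y hy y' hy'
    have e1 : (g * y * g⁻¹) * (g * y' * g⁻¹) = g * (y * y') * g⁻¹ := by group
    have e2 : (g * y' * g⁻¹) * (g * y * g⁻¹) = g * (y' * y) * g⁻¹ := by group
    rw [e1, e2, comA y hy y' hy']
  rcases hTI g with hdis | heq
  swap
  · exact eqForm g heq
  -- Step 2: disjointness
  have disj : ∀ y ∈ A, g * y * g⁻¹ ∈ A → g * y * g⁻¹ = 1 := by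
    intro y hy hm
    have h1 : g * y * g⁻¹ ∈ A.map (MulAut.conj g).toMonoidHom ⊓ A := by
      refine ⟨?_, hm⟩
      show g * y * g⁻¹ ∈ A.map (MulAut.conj g).toMonoidHom
      rw [mem_map_conj]
      have : g⁻¹ * (g * y * g⁻¹) * g = y := by group
      rw [this]; exact hy
    rw [hdis, Subgroup.mem_bot] at h1
    exact h1
  -- Step 3: for x ∈ A, B^x commutes with B
  have step3 : ∀ x ∈ A, ∀ y ∈ A, ∀ y' ∈ A,
      (x * (g * y * g⁻¹) * x⁻¹) * (g * y' * g⁻¹) = (g * y' * g⁻¹) * (x * (g * y * g⁻¹) * x⁻¹) := by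
    intro x hx y hy y' hy'
    by_cases hy1 : y = 1
    · subst hy1; simp
    have hbb := sqB y hy
    have hbi := invB y hy
    have hxi := invA x hx
    have hxx := sqA x hx
    -- p = b x b ∈ A
    have hp : (g * y * g⁻¹) * x * (g * y * g⁻¹) ∈ A := by
      have := (step1 y hy x).mp hx
      rw [hbi] at this; exact this
    -- c = p * x ∈ A
    have hc : (g * y * g⁻¹) * x * (g * y * g⁻¹) * x ∈ A := mul_mem hp hx
    obtain ⟨e1, e2⟩ := key1 (g * y * g⁻¹) x hbb hxx (comA _ hp x hx)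
    have hT := TI (g⁻¹ * ((g * y * g⁻¹) * x * (g * y * g⁻¹) * x) * g) y hy hy1 (by
      have : (g⁻¹ * ((g * y * g⁻¹) * x * (g * y * g⁻¹) * x) * g) * y *
          (g⁻¹ * ((g * y * g⁻¹) * x * (g * y * g⁻¹) * x) * g)⁻¹
          = g⁻¹ * ((((g * y * g⁻¹) * x * (g * y * g⁻¹) * x) * (g * y * g⁻¹)) *
            ((g * y * g⁻¹) * x * (g * y * g⁻¹) * x)⁻¹) * g := by group
      rw [this, e2]
      have : g⁻¹ * ((g * y * g⁻¹) * ((g * y * g⁻¹) * x * (g * y * g⁻¹) * x) *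
          ((g * y * g⁻¹) * x * (g * y * g⁻¹) * x)⁻¹) * g = y := by group
      rw [this]; exact hy)
    have hy'' := (hT y').mp hy'
    -- k ∈ A
    have hkA : ((g * y * g⁻¹) * x * (g * y * g⁻¹) * x) *
        ((g * y' * g⁻¹) * ((g * y * g⁻¹) * x * (g * y * g⁻¹) * x)⁻¹ * (g * y' * g⁻¹)⁻¹) ∈ A :=
      mul_mem hc ((step1 y' hy' _).mp (inv_mem hc))
    have hk1 := disj _ (mul_mem hy'' (inv_mem hy')) (by
      have : g * ((g⁻¹ * ((g * y * g⁻¹) * x * (g * y * g⁻¹) * x) * g) * y' *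
          (g⁻¹ * ((g * y * g⁻¹) * x * (g * y * g⁻¹) * x) * g)⁻¹ * y'⁻¹) * g⁻¹
          = ((g * y * g⁻¹) * x * (g * y * g⁻¹) * x) *
            ((g * y' * g⁻¹) * ((g * y * g⁻¹) * x * (g * y * g⁻¹) * x)⁻¹ * (g * y' * g⁻¹)⁻¹) := by
        group
      rw [this]; exact hkA)
    have hcb' : ((g * y * g⁻¹) * x * (g * y * g⁻¹) * x) * (g * y' * g⁻¹)
        = (g * y' * g⁻¹) * ((g * y * g⁻¹) * x * (g * y * g⁻¹) * x) := by
      have : g * ((g⁻¹ * ((g * y * g⁻¹) * x * (g * y * g⁻¹) * x) * g) * y' *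
          (g⁻¹ * ((g * y * g⁻¹) * x * (g * y * g⁻¹) * x) * g)⁻¹ * y'⁻¹) * g⁻¹
          = ((g * y * g⁻¹) * x * (g * y * g⁻¹) * x) * (g * y' * g⁻¹) *
            ((g * y * g⁻¹) * x * (g * y * g⁻¹) * x)⁻¹ * (g * y' * g⁻¹)⁻¹ := by
        group
      rw [this] at hk1
      have h2 := mul_inv_eq_one.mp hk1
      exact mul_inv_eq_iff_eq_mul.mp h2
    rw [e1, mul_assoc, hcb', ← mul_assoc, comB y hy y' hy', mul_assoc]
  -- Step 3': A normalizes B
  have step3' : ∀ x ∈ A, ∀ z : G, (z ∈ A ↔ (g⁻¹ * x * g) * z * (g⁻¹ * x * g)⁻¹ ∈ A) := by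
    intro x hx
    apply HB
    intro p hp q hq
    have := step3 x hx q hq p hp
    have h1 : p * ((g⁻¹ * x * g) * q * (g⁻¹ * x * g)⁻¹)
        = g⁻¹ * ((g * p * g⁻¹) * (x * (g * q * g⁻¹) * x⁻¹)) * g := by group
    have h2 : ((g⁻¹ * x * g) * q * (g⁻¹ * x * g)⁻¹) * p
        = g⁻¹ * ((x * (g * q * g⁻¹) * x⁻¹) * (g * p * g⁻¹)) * g := by group
    rw [h1, h2, this]
  -- Step 4: A and B commute
  apply HB
  intro x hx y hy
  have hy2 := (step3' x hx y).mp hy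
  have hkA : x * ((g * y * g⁻¹) * x⁻¹ * (g * y * g⁻¹)⁻¹) ∈ A :=
    mul_mem hx ((step1 y hy _).mp (inv_mem hx))
  have hk1 := disj _ (mul_mem hy2 (inv_mem hy)) (by
    have : g * ((g⁻¹ * x * g) * y * (g⁻¹ * x * g)⁻¹ * y⁻¹) * g⁻¹
        = x * ((g * y * g⁻¹) * x⁻¹ * (g * y * g⁻¹)⁻¹) := by group
    rw [this]; exact hkA)
  have : g * ((g⁻¹ * x * g) * y * (g⁻¹ * x * g)⁻¹ * y⁻¹) * g⁻¹
      = x * (g * y * g⁻¹) * x⁻¹ * (g * y * g⁻¹)⁻¹ := by group
  rw [this] at hk1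
  have h2 := mul_inv_eq_one.mp hk1
  exact mul_inv_eq_iff_eq_mul.mp h2

end Cfsg.Agent.S1177
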