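import Cfsg.Statements.S1178

set_option autoImplicit false
open Cfsg

namespace Cfsg.Agent.S1178

theorem map_conj_map_conj {G : Type*} [Group G] (A : Subgroup G) (x y : G) :
    (A.map (MulAut.conj x).toMonoidHom).map (MulAut.conj y).toMonoidHom
      = A.map (MulAut.conj (y * x)).toMonoidHom := by
  rw [Subgroup.map_map]
  congr 1
  ext a
  simp [mul_assoc]

theorem map_conj_one {G : Type*} [Group G] (A : Subgroup G) :
    A.map (MulAut.conj (1:G)).toMonoidHom = A := by
  have : (MulAut.conj (1:G)).toMonoidHom = MonoidHom.id G := by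
    ext a; simp
  rw [this, Subgroup.map_id]

theorem map_conj_inv_map_conj {G : Type*} [Group G] (A : Subgroup G) (x : G) :
    (A.map (MulAut.conj x).toMonoidHom).map (MulAut.conj x⁻¹).toMonoidHom = A := by
  rw [map_conj_map_conj, inv_mul_cancel, map_conj_one]

/-- Let A be a subgroup of a Sylow 2-subgroup S of the finite group G which is weakly closed in S. If a conjugate g A g⁻¹ commutes elementwise with A, then g A g⁻¹ = A. -/
theorem result {G : Type*} [Group G] [Finite G] (S : Sylow 2 G) (A : Subgroup G) (hW : Cfsg.IsWeaklyClosed A (S : Subgroup G)) (g : G) (hc : ∀ a ∈ A, ∀ b ∈ A.map (MulAut.conj g).toMonoidHom, a * b = b * a) : A.map (MulAut.conj g).toMonoidHom = A := by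
  obtain ⟨hAS, hWC⟩ := hW
  have hA2 : IsPGroup 2 A := S.2.to_le hAS
  have hB2 : IsPGroup 2 (A.map (MulAut.conj g).toMonoidHom) := hA2.map _
  have hAN : A ≤ Subgroup.normalizer ((A.map (MulAut.conj g).toMonoidHom : Subgroup G) : Set G) := by
    intro a ha
    rw [Subgroup.mem_normalizer_iff]
    intro b
    constructor
    · intro hb
      have : a * b * a⁻¹ = b := by
        rw [hc a ha b hb]; group
      rw [this]; exact hb
    · intro hb
      have h1 : a⁻¹ * (a * b * a⁻¹) = (a * b * a⁻¹) * a⁻¹ := hc a⁻¹ (inv_mem ha) _ hb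
      have : b = a * b * a⁻¹ := by
        calc b = (a⁻¹ * (a * b * a⁻¹)) * a := by group
          _ = (a * b * a⁻¹) * a⁻¹ * a := by rw [h1]
          _ = a * b * a⁻¹ := by group
      rw [this]; exact hb
  have hAB : IsPGroup 2 (A ⊔ A.map (MulAut.conj g).toMonoidHom : Subgroup G) :=
    IsPGroup.to_sup_of_normal_right' hA2 hB2 hAN
  obtain ⟨Q, hQ⟩ := hAB.exists_le_sylow
  obtain ⟨h, hh⟩ := MulAction.exists_smul_eq G S Q
  have hQS : (Q : Subgroup G) = (S : Subgroup G).map (MulAut.conj h).toMonoidHom := by
    rw [← hh]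
    rfl
  have hA' : A ≤ (S : Subgroup G).map (MulAut.conj h).toMonoidHom := hQS ▸ (le_sup_left.trans hQ)
  have hB' : A.map (MulAut.conj g).toMonoidHom ≤ (S : Subgroup G).map (MulAut.conj h).toMonoidHom :=
    hQS ▸ (le_sup_right.trans hQ)
  -- conjugate back
  have e1 : A.map (MulAut.conj h⁻¹).toMonoidHom = A := by
    apply hWC
    have := Subgroup.map_mono (f := (MulAut.conj h⁻¹).toMonoidHom) hA'
    rw [map_conj_inv_map_conj] at this
    exact this
  have e2 : A.map (MulAut.conj (h⁻¹ * g)).toMonoidHom = A := by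
    apply hWC
    have := Subgroup.map_mono (f := (MulAut.conj h⁻¹).toMonoidHom) hB'
    rw [map_conj_inv_map_conj, map_conj_map_conj] at this
    exact this
  have e3 : A.map (MulAut.conj h).toMonoidHom = A := by
    have := congrArg (fun X => Subgroup.map (MulAut.conj h).toMonoidHom X) e1
    simp only [map_conj_map_conj, mul_inv_cancel, map_conj_one] at this
    exact this.symm
  calc A.map (MulAut.conj g).toMonoidHom
      = (A.map (MulAut.conj (h⁻¹ * g)).toMonoidHom).map (MulAut.conj h).toMonoidHom := by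
        rw [map_conj_map_conj, mul_inv_cancel_left]
    _ = A := by rw [e2, e3]

end Cfsg.Agent.S1178
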