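import Cfsg.Statements.S1180

set_option autoImplicit false
open Cfsg

namespace Cfsg.Agent.S1180

/-- dihedral relation: if `z*z=1`, `w*w=1`, `r = z*w` then `z * r^j * z = (r^j)⁻¹`. -/
theorem conj_pow_eq {G : Type*} [Group G] (z w : G) (hz : z * z = 1) (hw : w * w = 1) (j : ℕ) :
    z * (z * w) ^ j * z = ((z * w) ^ j)⁻¹ := by
  have hzi : z⁻¹ = z := inv_eq_of_mul_eq_one_left hz
  have hwi : w⁻¹ = w := inv_eq_of_mul_eq_one_left hw
  have h1 : z * (z * w) * z⁻¹ = (z * w)⁻¹ := by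
    rw [mul_inv_rev, hzi, hwi, ← mul_assoc z z, hz, one_mul]
  calc z * (z * w) ^ j * z = z * (z * w) ^ j * z⁻¹ := by rw [hzi]
    _ = (z * (z * w) * z⁻¹) ^ j := (conj_pow).symm
    _ = ((z * w) ^ j)⁻¹ := by rw [h1, inv_pow]

theorem z_mul_inv_pow {G : Type*} [Group G] (z w : G) (hz : z * z = 1) (hw : w * w = 1) (j : ℕ) :
    z * ((z * w) ^ j)⁻¹ = (z * w) ^ j * z := by
  rw [← conj_pow_eq z w hz hw j]
  simp only [mul_assoc]
  rw [← mul_assoc z z, hz, one_mul]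

/-- `r^j * z * (r^j)⁻¹ = r^(2j) * z` -/
theorem conj_by_pow {G : Type*} [Group G] (z w : G) (hz : z * z = 1) (hw : w * w = 1) (j : ℕ) :
    (z * w) ^ j * z * ((z * w) ^ j)⁻¹ = (z * w) ^ (2 * j) * z := by
  rw [mul_assoc, z_mul_inv_pow z w hz hw, ← mul_assoc, two_mul, pow_add]

/-- `(r^j z) * w * (r^j z)⁻¹ = r^(2j+1) * z` -/
theorem conj_by_pow_odd {G : Type*} [Group G] (z w : G) (hz : z * z = 1) (hw : w * w = 1) (j : ℕ) :
    ((z * w) ^ j * z) * w * ((z * w) ^ j * z)⁻¹ = (z * w) ^ (2 * j + 1) * z := by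
  have hzi : z⁻¹ = z := inv_eq_of_mul_eq_one_left hz
  calc ((z * w) ^ j * z) * w * ((z * w) ^ j * z)⁻¹
      = (z * w) ^ j * (z * w) * (z * ((z * w) ^ j)⁻¹) := by
        rw [mul_inv_rev, hzi]; simp only [mul_assoc]
    _ = (z * w) ^ (2 * j + 1) * z := by
        rw [z_mul_inv_pow z w hz hw, ← mul_assoc, ← pow_succ, ← pow_add]
        congr 2; omega

theorem result {G : Type*} [Group G] [Finite G] (z : G) (hz : Cfsg.IsIsolatedInvolution z) (H : Subgroup G) (hzH : z ∈ H) (g : G) (hg : g * z * g⁻¹ ∈ H) : ∃ h ∈ H, h * z * h⁻¹ = g * z * g⁻¹ := by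
  obtain ⟨hz2, hiso⟩ := hz
  have hzz : z * z = 1 := by rw [← pow_two, ← hz2, pow_orderOf_eq_one]
  have hzi : z⁻¹ = z := inv_eq_of_mul_eq_one_left hzz
  have hww : (g * z * g⁻¹) * (g * z * g⁻¹) = 1 := by
    have : (g * z * g⁻¹) * (g * z * g⁻¹) = g * (z * z) * g⁻¹ := by group
    rw [this, hzz]; group
  have hwi : (g * z * g⁻¹)⁻¹ = g * z * g⁻¹ := inv_eq_of_mul_eq_one_left hww
  have hrH : z * (g * z * g⁻¹) ∈ H := mul_mem hzH hg
  have hn : 0 < orderOf (z * (g * z * g⁻¹)) := orderOf_pos _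
  rcases Nat.even_or_odd' (orderOf (z * (g * z * g⁻¹))) with ⟨m, hm | hm⟩
  · -- even order: contradiction
    exfalso
    have hm0 : 0 < m := by omega
    have hu1 : (z * (g * z * g⁻¹)) ^ m ≠ 1 :=
      pow_ne_one_of_lt_orderOf (by omega) (by omega)
    have hu2 : (z * (g * z * g⁻¹)) ^ m * (z * (g * z * g⁻¹)) ^ m = 1 := by
      rw [← pow_add, ← two_mul, ← hm, pow_orderOf_eq_one]
    have hui : ((z * (g * z * g⁻¹)) ^ m)⁻¹ = (z * (g * z * g⁻¹)) ^ m := inv_eq_of_mul_eq_one_left hu2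
    have hcomm : z * (z * (g * z * g⁻¹)) ^ m = (z * (g * z * g⁻¹)) ^ m * z := by
      have := z_mul_inv_pow z (g * z * g⁻¹) hzz hww m
      rw [hui] at this
      exact this
    -- e = u * z is conjugate to z
    have hconj : ∃ k : G, (z * (g * z * g⁻¹)) ^ m * z = k * z * k⁻¹ := by
      rcases Nat.even_or_odd' m with ⟨j, hj | hj⟩
      · refine ⟨(z * (g * z * g⁻¹)) ^ j, ?_⟩
        rw [conj_by_pow z _ hzz hww, hj]
      · refine ⟨(z * (g * z * g⁻¹)) ^ j * z * g, ?_⟩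
        rw [hj, ← conj_by_pow_odd z _ hzz hww]
        simp only [mul_inv_rev, mul_assoc]
    obtain ⟨k, hk⟩ := hconj
    have hcm : Commute z (k * z * k⁻¹) := by
      rw [← hk]
      show z * ((z * (g * z * g⁻¹)) ^ m * z) = (z * (g * z * g⁻¹)) ^ m * z * z
      rw [← mul_assoc, hcomm]
    have := hiso k hcm
    rw [← hk] at this
    have : (z * (g * z * g⁻¹)) ^ m = 1 := by
      have h3 : (z * (g * z * g⁻¹)) ^ m * z = 1 * z := by rw [this, one_mul]
      exact mul_right_cancel h3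
    exact hu1 this
  · -- odd order
    refine ⟨(z * (g * z * g⁻¹)) ^ m, pow_mem hrH m, ?_⟩
    rw [conj_by_pow z _ hzz hww]
    have : (z * (g * z * g⁻¹)) ^ (2 * m) * (z * (g * z * g⁻¹)) = 1 := by
      rw [← pow_succ, ← hm, pow_orderOf_eq_one]
    have h2 : (z * (g * z * g⁻¹)) ^ (2 * m) = (z * (g * z * g⁻¹))⁻¹ := eq_inv_of_mul_eq_one_left this
    rw [h2, mul_inv_rev, hwi, hzi, mul_assoc, hzz, mul_one]

end Cfsg.Agent.S1180
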