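import Cfsg.Statements.S1181
import Cfsg.Agent.Lib.Helper27.Isolated

set_option autoImplicit false
open Cfsg

namespace Cfsg.Agent.S1181

open Cfsg.Agent.Lib.Helper27

theorem part1 {G : Type*} [Group G] [Finite G] (z : G) (hz : Cfsg.IsIsolatedInvolution z) (N : Subgroup G) [N.Normal] : Subgroup.centralizer ({(QuotientGroup.mk z : G ⧸ N)} : Set (G ⧸ N)) = (Subgroup.centralizer ({z} : Set G)).map (QuotientGroup.mk' N) := by
  have hzi := iso_inv hz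
  ext q
  constructor
  · intro hq
    obtain ⟨g, rfl⟩ := QuotientGroup.mk_surjective q
    rw [Subgroup.mem_centralizer_singleton_iff] at hq
    -- g z g⁻¹ z ∈ N
    have hu : g * z * g⁻¹ * z ∈ N := by
      rw [← QuotientGroup.eq_one_iff]
      have h1 : ((g * z * g⁻¹ * z : G) : G ⧸ N) = (g : G ⧸ N) * (z : G ⧸ N) * (g : G ⧸ N)⁻¹ * (z : G ⧸ N) := by
        simp
      rw [h1, hq]
      have h2 : (z : G ⧸ N) * (z : G ⧸ N) = 1 := by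
        rw [← QuotientGroup.mk_mul, iso_sq hz]; rfl
      calc (z : G ⧸ N) * (g : G ⧸ N) * (g : G ⧸ N)⁻¹ * (z : G ⧸ N) = (z : G ⧸ N) * (z : G ⧸ N) := by group
        _ = 1 := h2
    obtain ⟨n, h1, h2⟩ := exists_K_pow hz g
    refine ⟨((g * z * g⁻¹ * z) ^ n)⁻¹ * g, ?_, ?_⟩
    · have := (mem_centralizer_iff_conj (z := z) (g := (g * z * g⁻¹ * z) ^ n) (k := g)).mpr h2.symm
      exact this
    · have hk : (g * z * g⁻¹ * z) ^ n ∈ N := N.pow_mem hu n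
      show ((((g * z * g⁻¹ * z) ^ n)⁻¹ * g : G) : G ⧸ N) = (g : G ⧸ N)
      rw [QuotientGroup.mk_mul, QuotientGroup.mk_inv, (QuotientGroup.eq_one_iff _).mpr hk]
      simp
  · rintro ⟨c, hc, rfl⟩
    rw [SetLike.mem_coe, Subgroup.mem_centralizer_singleton_iff] at hc
    rw [Subgroup.mem_centralizer_singleton_iff]
    show ((c : G) : G ⧸ N) * (z : G ⧸ N) = (z : G ⧸ N) * (c : G ⧸ N)
    rw [← QuotientGroup.mk_mul, hc, QuotientGroup.mk_mul]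

theorem part2 {G : Type*} [Group G] [Finite G] (z : G) (hz : Cfsg.IsIsolatedInvolution z) (N : Subgroup G) [N.Normal] (hzN : z ∉ N) : Cfsg.IsIsolatedInvolution (QuotientGroup.mk z : G ⧸ N) := by
  have hzi := iso_inv hz
  have hzz : (z : G ⧸ N) * (z : G ⧸ N) = 1 := by
    rw [← QuotientGroup.mk_mul, iso_sq hz]; rfl
  refine ⟨?_, ?_⟩
  · haveI : Fact (Nat.Prime 2) := ⟨Nat.prime_two⟩
    rw [orderOf_eq_prime_iff]
    refine ⟨by rw [pow_two]; exact hzz, ?_⟩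
    intro h
    exact hzN ((QuotientGroup.eq_one_iff z).mp h)
  · intro q hq
    obtain ⟨g, rfl⟩ := QuotientGroup.mk_surjective q
    have hq' : (z : G ⧸ N) * ((g : G ⧸ N) * (z : G ⧸ N) * (g : G ⧸ N)⁻¹) = ((g : G ⧸ N) * (z : G ⧸ N) * (g : G ⧸ N)⁻¹) * (z : G ⧸ N) := hq
    have hss : ((g : G ⧸ N) * (z : G ⧸ N) * (g : G ⧸ N)⁻¹) * ((g : G ⧸ N) * (z : G ⧸ N) * (g : G ⧸ N)⁻¹) = 1 := by
      calc ((g : G ⧸ N) * (z : G ⧸ N) * (g : G ⧸ N)⁻¹) * ((g : G ⧸ N) * (z : G ⧸ N) * (g : G ⧸ N)⁻¹) = (g : G ⧸ N) * ((z : G ⧸ N) * (z : G ⧸ N)) * (g : G ⧸ N)⁻¹ := by group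
        _ = 1 := by rw [hzz]; group
    -- the element w = s z in the quotient has w^2 = 1 and w^odd = 1
    obtain ⟨c, hc⟩ := odd_orderOf_conj_mul hz g
    have hw2 : ((g : G ⧸ N) * (z : G ⧸ N) * (g : G ⧸ N)⁻¹ * (z : G ⧸ N)) ^ 2 = 1 := by
      rw [pow_two]
      calc ((g : G ⧸ N) * (z : G ⧸ N) * (g : G ⧸ N)⁻¹ * (z : G ⧸ N)) * ((g : G ⧸ N) * (z : G ⧸ N) * (g : G ⧸ N)⁻¹ * (z : G ⧸ N))
          = ((g : G ⧸ N) * (z : G ⧸ N) * (g : G ⧸ N)⁻¹) * ((z : G ⧸ N) * ((g : G ⧸ N) * (z : G ⧸ N) * (g : G ⧸ N)⁻¹)) * (z : G ⧸ N) := by group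
        _ = ((g : G ⧸ N) * (z : G ⧸ N) * (g : G ⧸ N)⁻¹) * (((g : G ⧸ N) * (z : G ⧸ N) * (g : G ⧸ N)⁻¹) * (z : G ⧸ N)) * (z : G ⧸ N) := by rw [hq']
        _ = (((g : G ⧸ N) * (z : G ⧸ N) * (g : G ⧸ N)⁻¹) * ((g : G ⧸ N) * (z : G ⧸ N) * (g : G ⧸ N)⁻¹)) * ((z : G ⧸ N) * (z : G ⧸ N)) := by group
        _ = 1 := by rw [hss, hzz, one_mul]
    have hwm : ((g : G ⧸ N) * (z : G ⧸ N) * (g : G ⧸ N)⁻¹ * (z : G ⧸ N)) ^ (2 * c + 1) = 1 := by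
      have h1 : ((g : G ⧸ N) * (z : G ⧸ N) * (g : G ⧸ N)⁻¹ * (z : G ⧸ N)) = ((g * z * g⁻¹ * z : G) : G ⧸ N) := by simp
      rw [h1, ← QuotientGroup.mk_pow, ← hc, pow_orderOf_eq_one]; rfl
    have hw1 : ((g : G ⧸ N) * (z : G ⧸ N) * (g : G ⧸ N)⁻¹ * (z : G ⧸ N)) = 1 := by
      rw [pow_succ, pow_mul, hw2, one_pow, one_mul] at hwm
      exact hwm
    calc (g : G ⧸ N) * (z : G ⧸ N) * (g : G ⧸ N)⁻¹ = ((g : G ⧸ N) * (z : G ⧸ N) * (g : G ⧸ N)⁻¹ * (z : G ⧸ N)) * (z : G ⧸ N)⁻¹ := by group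
      _ = (z : G ⧸ N)⁻¹ := by rw [hw1, one_mul]
      _ = (z : G ⧸ N) := inv_eq_of_mul_eq_one_left hzz

/-- Let z be an isolated involution of the finite group G and N a normal subgroup with z ∉ N. Then the centralizer of zN in G/N is the image of C_G(z), and zN is an isolated involution of G/N. -/
theorem result {G : Type*} [Group G] [Finite G] (z : G) (hz : Cfsg.IsIsolatedInvolution z) (N : Subgroup G) [N.Normal] (hzN : z ∉ N) : Subgroup.centralizer ({(QuotientGroup.mk z : G ⧸ N)} : Set (G ⧸ N)) = (Subgroup.centralizer ({z} : Set G)).map (QuotientGroup.mk' N) ∧ Cfsg.IsIsolatedInvolution (QuotientGroup.mk z : G ⧸ N) := by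
  exact ⟨part1 z hz N, part2 z hz N hzN⟩

end Cfsg.Agent.S1181
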