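import Cfsg.Statements.S1183
import Cfsg.Agent.Lib.Helper27.IsolatedTransfer

set_option autoImplicit false
open Cfsg

namespace Cfsg.Agent.S1183

open Cfsg.Agent.Lib.Helper27

theorem forward {G : Type*} [Group G] [Finite G] (z : G) (hz : Cfsg.IsIsolatedInvolution z)
    (hG : Cfsg.pResidual 2 G = ⊤) :
    Cfsg.pResidual 2 ↥(Subgroup.centralizer ({z} : Set G)) = ⊤ := by
  by_contra hCne
  haveI : Fact (Nat.Prime 2) := ⟨Nat.prime_two⟩
  haveI hn := pRes_normal 2 ↥(Subgroup.centralizer ({z} : Set G))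
  have hQ : IsPGroup 2 (↥(Subgroup.centralizer ({z} : Set G)) ⧸
      pResidual 2 ↥(Subgroup.centralizer ({z} : Set G))) := isPGroup_quotient_pRes 2 _
  haveI : Nontrivial (↥(Subgroup.centralizer ({z} : Set G)) ⧸
      pResidual 2 ↥(Subgroup.centralizer ({z} : Set G))) := QuotientGroup.nontrivial_iff.mpr hCne
  haveI : Group.IsNilpotent (↥(Subgroup.centralizer ({z} : Set G)) ⧸
      pResidual 2 ↥(Subgroup.centralizer ({z} : Set G))) := hQ.isNilpotent
  have hcomm : commutator (↥(Subgroup.centralizer ({z} : Set G)) ⧸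
      pResidual 2 ↥(Subgroup.centralizer ({z} : Set G))) < ⊤ :=
    Group.IsSolvable.commutator_lt_top_of_nontrivial _
  let ϕ : ↥(Subgroup.centralizer ({z} : Set G)) →* Abelianization (↥(Subgroup.centralizer ({z} : Set G)) ⧸
      pResidual 2 ↥(Subgroup.centralizer ({z} : Set G))) :=
    Abelianization.of.comp (QuotientGroup.mk' _)
  have hϕsurj : Function.Surjective ϕ := by
    intro a
    obtain ⟨q, rfl⟩ := QuotientGroup.mk_surjective a
    obtain ⟨c, rfl⟩ := QuotientGroup.mk_surjective q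
    exact ⟨c, rfl⟩
  haveI : Nontrivial (Abelianization (↥(Subgroup.centralizer ({z} : Set G)) ⧸
      pResidual 2 ↥(Subgroup.centralizer ({z} : Set G)))) :=
    QuotientGroup.nontrivial_iff.mpr hcomm.ne
  have hA : IsPGroup 2 (Abelianization (↥(Subgroup.centralizer ({z} : Set G)) ⧸
      pResidual 2 ↥(Subgroup.centralizer ({z} : Set G)))) := hQ.to_quotient _
  obtain ⟨a, ha⟩ := exists_ne (1 : Abelianization (↥(Subgroup.centralizer ({z} : Set G)) ⧸
      pResidual 2 ↥(Subgroup.centralizer ({z} : Set G))))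
  obtain ⟨c, rfl⟩ := hϕsurj a
  have hT := transfer_eq_pow_isolated hz ϕ c
  obtain ⟨k, hk⟩ := hA (ϕ c)
  have hTne : MonoidHom.transfer ϕ (c : G) ≠ 1 := by
    rw [hT]
    intro h
    have h1 : orderOf (ϕ c) ∣ (Subgroup.centralizer ({z} : Set G)).index := orderOf_dvd_of_pow_eq_one h
    have h2 : orderOf (ϕ c) ∣ 2 ^ k := orderOf_dvd_of_pow_eq_one hk
    have h3 : Nat.Coprime (Subgroup.centralizer ({z} : Set G)).index (2 ^ k) :=
      Nat.Coprime.pow_right k (odd_index_centralizer hz).coprime_two_right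
    have h4 := Nat.dvd_gcd h1 h2
    rw [h3, Nat.dvd_one] at h4
    exact ha (orderOf_eq_one_iff.mp h4)
  have hker : pResidual 2 G ≤ (MonoidHom.transfer ϕ).ker := by
    rw [pResidual, Subgroup.closure_le]
    intro g hg
    rw [SetLike.mem_coe, MonoidHom.mem_ker]
    obtain ⟨j, hj⟩ := hA (MonoidHom.transfer ϕ g)
    have h1 : orderOf (MonoidHom.transfer ϕ g) ∣ orderOf g := orderOf_map_dvd _ g
    have h2 : orderOf (MonoidHom.transfer ϕ g) ∣ 2 ^ j := orderOf_dvd_of_pow_eq_one hj
    have h3 := Nat.dvd_gcd h1 h2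
    have h4 : Nat.gcd (orderOf g) (2 ^ j) = 1 := Nat.Coprime.pow_right j hg
    rw [h4, Nat.dvd_one] at h3
    exact orderOf_eq_one_iff.mp h3
  apply hTne
  have hc : (c : G) ∈ pResidual 2 G := by rw [hG]; trivial
  exact hker hc

theorem backward {G : Type*} [Group G] [Finite G] (z : G) (hz : Cfsg.IsIsolatedInvolution z)
    (hCt : Cfsg.pResidual 2 ↥(Subgroup.centralizer ({z} : Set G)) = ⊤) :
    Cfsg.pResidual 2 G = ⊤ := by
  rw [eq_top_iff]
  intro g _
  obtain ⟨k, hk, hkg⟩ := exists_K hz g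
  have hc : k⁻¹ * g ∈ Subgroup.centralizer ({z} : Set G) := mem_centralizer_iff_conj.mpr hkg.symm
  have hkmem : k ∈ pResidual 2 G := Subgroup.subset_closure hk.1.coprime_two_right
  have hcmem : k⁻¹ * g ∈ pResidual 2 G := by
    have hle : (pResidual 2 ↥(Subgroup.centralizer ({z} : Set G))).map
        (Subgroup.centralizer ({z} : Set G)).subtype ≤ pResidual 2 G := by
      rw [pResidual, MonoidHom.map_closure, Subgroup.closure_le]
      rintro _ ⟨y, hy, rfl⟩
      apply Subgroup.subset_closure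
      show Nat.Coprime (orderOf (y : G)) 2
      rw [Subgroup.orderOf_coe]
      exact hy
    apply hle
    refine ⟨⟨k⁻¹ * g, hc⟩, ?_, rfl⟩
    rw [hCt]
    trivial
  have e : g = k * (k⁻¹ * g) := by group
  rw [e]
  exact Subgroup.mul_mem _ hkmem hcmem

/-- Let z be an isolated involution of the finite group G and C = C_G(z). Then the subgroup of G generated by its elements of odd order is all of G if and only if the subgroup of C generated by its elements of odd order is all of C. -/
theorem result {G : Type*} [Group G] [Finite G] (z : G) (hz : Cfsg.IsIsolatedInvolution z) : Cfsg.pResidual 2 G = ⊤ ↔ Cfsg.pResidual 2 ↥(Subgroup.centralizer ({z} : Set G)) = ⊤ := by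
  exact ⟨forward z hz, backward z hz⟩

end Cfsg.Agent.S1183
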