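import Cfsg.Statements.S1189
import Cfsg.Agent.Lib.Helper59.QDBridge

set_option autoImplicit false
open Cfsg

namespace Cfsg.Agent.S1189

open Cfsg.Agent.Lib.Helper59

theorem card_two_of {α : Type*} (p : α → Prop) (a b : α) (ha : p a) (hb : p b) (hab : a ≠ b)
    (hall : ∀ c, p c → c = a ∨ c = b) : Nat.card {c : α // p c} = 2 := by
  rw [Nat.card_eq_two_iff]
  refine ⟨⟨a, ha⟩, ⟨b, hb⟩, ?_, ?_⟩
  · intro h; exact hab (congrArg Subtype.val h)
  · apply Set.eq_univ_of_forall
    rintro ⟨c, hc⟩
    rcases hall c hc with rfl | rfl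
    · left; rfl
    · right; rfl

/-- A quasi-dihedral 2-group has exactly two conjugacy classes of involutions and exactly two conjugacy classes of elements of order 4. -/
theorem result {S : Type*} [Group S] [Finite S] (hS : Cfsg.IsQuasiDihedral S) : Nat.card {C : ConjClasses S // ∃ t : S, orderOf t = 2 ∧ ConjClasses.mk t = C} = 2 ∧ Nat.card {C : ConjClasses S // ∃ t : S, orderOf t = 4 ∧ ConjClasses.mk t = C} = 2 := by
  obtain ⟨k, x, y, h⟩ := exists_QD_of_isQuasiDihedral hS
  have hw := QD.w_pos k
  have hy0 : y = x ^ (0 : ℤ) * y := by simp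
  constructor
  · -- involutions
    apply card_two_of _ (ConjClasses.mk (x ^ (4 * 2 ^ k : ℤ))) (ConjClasses.mk y)
    · refine ⟨_, ?_, rfl⟩
      apply orderOf_eq_prime
      · rw [sq]; exact h.z_sq
      · exact h.z_ne_one
    · exact ⟨y, h.hy, rfl⟩
    · intro heq
      rw [ConjClasses.mk_eq_mk_iff_isConj] at heq
      rw [hy0] at heq
      exact h.not_isConj_x_xy _ _ heq
    · rintro C ⟨t, ht, rfl⟩
      have h2 : t * t = 1 := by
        have := pow_orderOf_eq_one t
        rw [ht, sq] at this; exact this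
      have h1 : t ≠ 1 := by
        intro h1; rw [h1, orderOf_one] at ht; omega
      rcases h.invol_cases t h2 h1 with rfl | ⟨j, rfl⟩
      · left; rfl
      · right
        rw [ConjClasses.mk_eq_mk_iff_isConj]
        have := h.isConj_xy_add_even 0 j
        rw [← hy0, zero_add] at this
        exact this.symm
  · -- elements of order 4
    apply card_two_of _ (ConjClasses.mk (x ^ (2 * 2 ^ k : ℤ))) (ConjClasses.mk (x ^ (1 : ℤ) * y))
    · refine ⟨_, ?_, rfl⟩
      have := orderOf_eq_prime_pow (x := x ^ (2 * 2 ^ k : ℤ)) (p := 2) (n := 1) ?_ ?_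
      · simpa using this
      · rw [pow_one, sq, ← zpow_add]
        have : (2 * 2 ^ k + 2 * 2 ^ k : ℤ) = 4 * 2 ^ k := by ring
        rw [this]; exact h.z_ne_one
      · have : (2 : ℕ) ^ (1 + 1) = 4 := by norm_num
        rw [this, ← zpow_natCast, ← zpow_mul, h.zpow_eq_one]
        exact ⟨1, by push_cast; ring⟩
    · refine ⟨_, ?_, rfl⟩
      have := orderOf_eq_prime_pow (x := x ^ (1 : ℤ) * y) (p := 2) (n := 1) ?_ ?_
      · simpa using this
      · rw [pow_one, sq, h.sq_xy]
        have : (4 * 2 ^ k * 1 : ℤ) = 4 * 2 ^ k := by ring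
        rw [this]; exact h.z_ne_one
      · have : (2 : ℕ) ^ (1 + 1) = 2 * 2 := by norm_num
        rw [this, pow_mul, sq (x ^ (1 : ℤ) * y), h.sq_xy, ← zpow_natCast, ← zpow_mul, h.zpow_eq_one]
        exact ⟨1, by push_cast; ring⟩
    · intro heq
      rw [ConjClasses.mk_eq_mk_iff_isConj] at heq
      exact h.not_isConj_x_xy _ _ heq
    · rintro C ⟨t, ht, rfl⟩
      have h4 : t * t * (t * t) = 1 := by
        have := pow_orderOf_eq_one t
        rw [ht] at this
        rw [← this]; simp only [pow_succ, pow_zero, one_mul, mul_assoc]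
      have h2 : t * t ≠ 1 := by
        intro h2
        have : t ^ 2 = 1 := by rw [sq]; exact h2
        have := orderOf_dvd_of_pow_eq_one this
        rw [ht] at this
        omega
      rcases h.order4_cases t h4 h2 with rfl | rfl | ⟨j, rfl⟩
      · left; rfl
      · left
        rw [ConjClasses.mk_eq_mk_iff_isConj]
        exact h.isConj_quarter.symm
      · right
        rw [ConjClasses.mk_eq_mk_iff_isConj]
        exact (h.isConj_xy_add_even 1 j).symm

end Cfsg.Agent.S1189
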