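import Cfsg.Statements.S1192
import Cfsg.Agent.Lib.Helper59.QDBridge
import Cfsg.Agent.Lib.Helper59.QDNormal
import Cfsg.Agent.Lib.Helper59.QuaternionIso
import Cfsg.Agent.Lib.Helper66.DihedralIso
import Cfsg.Agent.Lib.Helper03.PGroupFrattini

set_option autoImplicit false
open Cfsg

namespace Cfsg.Agent.S1192

open Cfsg.Agent.Lib.Helper59

variable {S : Type*} [Group S] {k : ℕ} {x y : S}

lemma two_dvd8 (k : ℕ) : (2 : ℤ) ∣ 8 * 2 ^ k := ⟨4 * 2 ^ k, by ring⟩

lemma orderOf_x_sq (h : QD S k x y) : orderOf (x ^ (2 : ℤ)) = 2 ^ (k + 2) := by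
  have := orderOf_eq_prime_pow (x := x ^ (2 : ℤ)) (p := 2) (n := k + 1) ?_ ?_
  · exact this
  · rw [← zpow_natCast, ← zpow_mul, h.zpow_eq_one]
    rintro ⟨c, hc⟩
    push_cast at hc
    have hw0 : (2 : ℤ) ^ k ≠ 0 := by positivity
    have h3 : (2 : ℤ) ^ k * (4 - 8 * c) = 0 := by
      have : (2 : ℤ) ^ (k + 1) = 2 * 2 ^ k := by ring
      rw [this] at hc; linarith
    rcases mul_eq_zero.mp h3 with h4 | h4
    · exact hw0 h4
    · omega
  · rw [← zpow_natCast, ← zpow_mul, h.zpow_eq_one]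
    exact ⟨1, by push_cast; ring⟩

lemma coatom_index (h : QD S k x y) [Finite S] (M : Subgroup S) (hM : IsCoatom M) : M.index = 2 := by
  have : Fact (Nat.Prime 2) := ⟨Nat.prime_two⟩
  exact Cfsg.Agent.Lib.Helper03.index_of_isCoatom_of_isPGroup (IsPGroup.of_card h.card) hM

lemma coatom_card (h : QD S k x y) [Finite S] (M : Subgroup S) (hM : IsCoatom M) :
    Nat.card M = 2 ^ (k + 3) := by
  have h1 := M.card_mul_index
  rw [coatom_index h M hM, h.card] at h1
  have : 2 ^ (k + 4) = 2 ^ (k + 3) * 2 := by ring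
  rw [this] at h1
  exact Nat.eq_of_mul_eq_mul_right (by norm_num) h1

lemma x_sq_mem_coatom (h : QD S k x y) [Finite S] (M : Subgroup S) (hM : IsCoatom M) : x ^ (2 : ℤ) ∈ M := by
  have : Fact (Nat.Prime 2) := ⟨Nat.prime_two⟩
  have h1 := Cfsg.Agent.Lib.Helper03.pow_mem_frattini_of_isPGroup (IsPGroup.of_card h.card) x
  have h2 := frattini_le_coatom hM h1
  have : x ^ (2 : ℤ) = x ^ (2 : ℕ) := by norm_cast
  rw [this]; exact h2

/-- A quasi-dihedral group of order 2^(n+1) has exactly three maximal subgroups: one cyclic, one generalized quaternion and one dihedral, each of order 2^n. -/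
theorem result {S : Type*} [Group S] [Finite S] (hS : Cfsg.IsQuasiDihedral S) (n : ℕ) (hn : Nat.card S = 2 ^ (n + 1)) : ∃ M₁ M₂ M₃ : Subgroup S, IsCoatom M₁ ∧ IsCoatom M₂ ∧ IsCoatom M₃ ∧ M₁ ≠ M₂ ∧ M₁ ≠ M₃ ∧ M₂ ≠ M₃ ∧ (∀ M : Subgroup S, IsCoatom M → M = M₁ ∨ M = M₂ ∨ M = M₃) ∧ IsCyclic M₁ ∧ Nonempty (M₂ ≃* QuaternionGroup (2 ^ (n - 2))) ∧ Nonempty (M₃ ≃* DihedralGroup (2 ^ (n - 1))) := by
  obtain ⟨k, x, y, h⟩ := exists_QD_of_isQuasiDihedral hS
  have hw := QD.w_pos k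
  have hw0 : (2 : ℤ) ^ k ≠ 0 := by positivity
  have hnk : n = k + 3 := by
    have := h.card
    rw [hn] at this
    have := Nat.pow_right_injective (le_refl 2) this
    omega
  subst hnk
  have hdb1 : (2 : ℤ) ∣ 4 * 2 ^ k * 1 := ⟨2 * 2 ^ k, by ring⟩
  have hdb0 : (2 : ℤ) ∣ 4 * 2 ^ k * 0 := ⟨0, by ring⟩
  have hd8 := two_dvd8 k
  set M₁ := Subgroup.zpowers x with hM₁
  set M₂ := h.sub 2 1 hdb1 with hM₂
  set M₃ := h.sub 2 0 hdb0 with hM₃
  have hxM₁ : x ∈ M₁ := Subgroup.mem_zpowers x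
  have hyM₁ : y ∉ M₁ := h.y_notMem
  have hy0 : y = x ^ (0 : ℤ) * y := by simp
  have hx1 : x = x ^ (1 : ℤ) := by simp
  have hxM₂ : x ∉ M₂ := by
    rw [hx1, h.x_mem_sub hd8]; omega
  have hxM₃ : x ∉ M₃ := by
    rw [hx1, h.x_mem_sub hd8]; omega
  have hyM₂ : y ∉ M₂ := by
    rw [hy0, h.xy_mem_sub hd8]; omega
  have hyM₃ : y ∈ M₃ := by
    rw [hy0, h.xy_mem_sub hd8]; omega
  have hx2M₂ : x ^ (2 : ℤ) ∈ M₂ := (h.x_mem_sub hd8 hdb1 2).mpr dvd_rfl
  have hx2M₃ : x ^ (2 : ℤ) ∈ M₃ := (h.x_mem_sub hd8 hdb0 2).mpr dvd_rfl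
  have hxyM₂ : x ^ (1 : ℤ) * y ∈ M₂ := (h.xy_mem_sub hd8 hdb1 1).mpr (by simp)
  have hc1 : IsCoatom M₁ := by
    apply h.isCoatom_of_x_sq_mem M₁ _ (Subgroup.zpow_mem_zpowers x 2) (Or.inl hxM₁)
    intro htop; apply hyM₁; rw [htop]; exact Subgroup.mem_top y
  have hc2 : IsCoatom M₂ := by
    apply h.isCoatom_of_x_sq_mem M₂ _ hx2M₂ (Or.inr ⟨1, hxyM₂⟩)
    intro htop; apply hxM₂; rw [htop]; exact Subgroup.mem_top x
  have hc3 : IsCoatom M₃ := by
    apply h.isCoatom_of_x_sq_mem M₃ _ hx2M₃ (Or.inr ⟨0, by rw [← hy0]; exact hyM₃⟩)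
    intro htop; apply hxM₃; rw [htop]; exact Subgroup.mem_top x
  refine ⟨M₁, M₂, M₃, hc1, hc2, hc3, ?_, ?_, ?_, ?_, ?_, ?_, ?_⟩
  · intro heq; apply hxM₂; rw [← heq]; exact hxM₁
  · intro heq; apply hxM₃; rw [← heq]; exact hxM₁
  · intro heq; apply hyM₂; rw [heq]; exact hyM₃
  · -- classification of coatoms
    intro M hM
    have hx2 := x_sq_mem_coatom h M hM
    obtain ⟨d, hd8', hx, hy⟩ := h.subgroup_desc M
    have hd2 : d ∣ 2 := (hx 2).mp hx2
    rcases hy with hy | ⟨b, hdb, hy⟩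
    · left
      have hle : M ≤ M₁ := by
        intro g hg
        rcases h.cases g with ⟨a, rfl⟩ | ⟨a, rfl⟩
        · exact Subgroup.zpow_mem_zpowers x a
        · exact absurd hg (hy a)
      rcases hM.le_iff.mp hle with h1 | h1
      · exact absurd h1 hc1.1
      · exact h1.symm
    · right
      have hxM : x ∉ M := by
        intro hxM
        apply hM.1
        apply h.eq_top_of_mem M hxM
        have hb : x ^ b * y ∈ M := (hy b).mpr (by simp)
        have : y = x ^ (-b) * (x ^ b * y) := by group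
        rw [this]; exact M.mul_mem (M.zpow_mem hxM _) hb
      have hd1 : ¬ d ∣ 1 := by
        intro hd1; apply hxM
        have := (hx 1).mpr hd1
        simpa using this
      have h2d : (2 : ℤ) ∣ d := by
        have h1 : d.natAbs ∣ 2 := by
          have := Int.natAbs_dvd_natAbs.mpr hd2
          simpa using this
        rcases (Nat.dvd_prime Nat.prime_two).mp h1 with h3 | h3
        · exfalso; apply hd1
          exact Int.natAbs_dvd_natAbs.mp (by rw [h3]; simp)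
        · exact Int.natAbs_dvd_natAbs.mp (by rw [h3]; simp)
      have hx' : ∀ c : ℤ, x ^ c ∈ M ↔ (2 : ℤ) ∣ c := fun c =>
        (hx c).trans ⟨fun hc => dvd_trans h2d hc, fun hc => dvd_trans hd2 hc⟩
      have hy' : ∀ c : ℤ, x ^ c * y ∈ M ↔ (2 : ℤ) ∣ c - b := fun c =>
        (hy c).trans ⟨fun hc => dvd_trans h2d hc, fun hc => dvd_trans hd2 hc⟩
      rcases Int.even_or_odd' b with ⟨f, rfl | rfl⟩
      · right
        ext g
        rcases h.cases g with ⟨a, rfl⟩ | ⟨a, rfl⟩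
        · rw [hx', h.x_mem_sub hd8]
        · rw [hy', h.xy_mem_sub hd8]
          constructor <;> intro hc <;> omega
      · left
        ext g
        rcases h.cases g with ⟨a, rfl⟩ | ⟨a, rfl⟩
        · rw [hx', h.x_mem_sub hd8]
        · rw [hy', h.xy_mem_sub hd8]
          constructor <;> intro hc <;> omega
  · exact Subgroup.isCyclic_zpowers x
  · -- M₂ is generalized quaternion
    have e1 : k + 3 - 2 = k + 1 := by omega
    rw [e1]
    have : NeZero (2 ^ (k + 1)) := ⟨by positivity⟩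
    apply nonempty_mulEquiv_quaternion (2 ^ (k + 1)) (⟨x ^ (2 : ℤ), hx2M₂⟩ : M₂) ⟨x ^ (1 : ℤ) * y, hxyM₂⟩
    · rw [coatom_card h M₂ hc2]; ring
    · rw [Subgroup.orderOf_mk, orderOf_x_sq h]; ring
    · apply Subtype.ext
      simp only [Subgroup.coe_mul, Subgroup.coe_pow]
      rw [h.sq_xy, ← zpow_natCast, ← zpow_mul, h.zpow_eq_zpow]
      exact ⟨0, by push_cast; ring⟩
    · apply Subtype.ext
      simp only [Subgroup.coe_mul, Subgroup.coe_inv]
      rw [h.conj_x_by_xy, ← zpow_neg, h.zpow_eq_zpow]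
      exact ⟨1, by ring⟩
    · intro hmem
      obtain ⟨j, hj⟩ := Subgroup.mem_zpowers_iff.mp hmem
      have := congrArg Subtype.val hj
      simp only [Subgroup.coe_zpow] at this
      rw [← zpow_mul] at this
      exact h.xy_ne_x _ _ this.symm
  · -- M₃ is dihedral
    have e1 : k + 3 - 1 = k + 2 := by omega
    rw [e1]
    have hb2 : orderOf (x ^ (2 : ℤ) * y) = 2 := by
      apply orderOf_eq_prime
      · rw [sq, h.sq_xy, h.zpow_eq_one]; exact ⟨1, by ring⟩
      · intro h1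
        have : x ^ (2 : ℤ) * y = x ^ (0 : ℤ) := by rw [h1]; simp
        exact h.xy_ne_x _ _ this
    obtain ⟨e⟩ := Cfsg.Agent.Lib.Helper66.nonempty_closure_pair_equiv_dihedral hb2 h.hy
    have hprod : x ^ (2 : ℤ) * y * y = x ^ (2 : ℤ) := by rw [mul_assoc, h.y_sq, mul_one]
    rw [hprod, orderOf_x_sq h] at e
    have hcl : Subgroup.closure ({x ^ (2 : ℤ) * y, y} : Set S) = M₃ := by
      apply le_antisymm
      · rw [Subgroup.closure_le]
        intro g hg
        rcases hg with rfl | rfl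
        · exact (h.xy_mem_sub hd8 hdb0 2).mpr (by simp)
        · exact hyM₃
      · have hyc : y ∈ Subgroup.closure ({x ^ (2 : ℤ) * y, y} : Set S) :=
          Subgroup.subset_closure (by simp)
        have hx2c : x ^ (2 : ℤ) ∈ Subgroup.closure ({x ^ (2 : ℤ) * y, y} : Set S) := by
          have h5 : x ^ (2 : ℤ) * y ∈ Subgroup.closure ({x ^ (2 : ℤ) * y, y} : Set S) :=
            Subgroup.subset_closure (by simp)
          have h6 := Subgroup.mul_mem _ h5 hyc
          rwa [hprod] at h6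
        intro g hg
        rcases h.cases g with ⟨a, rfl⟩ | ⟨a, rfl⟩
        · obtain ⟨c, rfl⟩ := (h.x_mem_sub hd8 hdb0 a).mp hg
          rw [zpow_mul]; exact Subgroup.zpow_mem _ hx2c c
        · obtain ⟨c, hc⟩ := (h.xy_mem_sub hd8 hdb0 a).mp hg
          have : a = 2 * c := by linarith
          rw [this, zpow_mul]
          exact Subgroup.mul_mem _ (Subgroup.zpow_mem _ hx2c c) hyc
    exact ⟨(MulEquiv.subgroupCongr hcl.symm).trans e⟩

end Cfsg.Agent.S1192
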