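import Cfsg.Statements.S1193
import Cfsg.Agent.Lib.Helper59.QDBridge
import Cfsg.Agent.Lib.Helper59.QDMax

set_option autoImplicit false
open Cfsg

namespace Cfsg.Agent.S1193

open Cfsg.Agent.Lib.Helper59

/-- In a quasi-dihedral group S of order 2^(n+1): the derived subgroup equals the Frattini subgroup and is cyclic of order 2^(n-1), the centre has order 2, and the involutions generate a dihedral subgroup of order 2^n. -/
theorem result {S : Type*} [Group S] [Finite S] (hS : Cfsg.IsQuasiDihedral S) (n : ℕ) (hn : Nat.card S = 2 ^ (n + 1)) : commutator S = frattini S ∧ IsCyclic (commutator S) ∧ Nat.card (commutator S) = 2 ^ (n - 1) ∧ Nat.card (Subgroup.center S) = 2 ∧ Nonempty (↥(Subgroup.closure {x : S | orderOf x = 2}) ≃* DihedralGroup (2 ^ (n - 1))) := by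
  obtain ⟨k, x, y, h⟩ := exists_QD_of_isQuasiDihedral hS
  have hnk : n = k + 3 := by
    have := h.card
    rw [hn] at this
    have := Nat.pow_right_injective (le_refl 2) this
    omega
  subst hnk
  have e1 : k + 3 - 1 = k + 2 := by omega
  rw [e1]
  obtain ⟨hcomm, hfrat⟩ := h.commutator_eq
  have hdb0 : (2 : ℤ) ∣ 4 * 2 ^ k * 0 := ⟨0, by ring⟩
  refine ⟨by rw [hcomm, hfrat], ?_, ?_, h.card_center, ?_⟩
  · rw [hcomm]; exact Subgroup.isCyclic_zpowers _
  · rw [hcomm, Nat.card_zpowers, h.orderOf_x_sq']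
  · obtain ⟨e⟩ := h.sub_two_zero_dihedral hdb0
    exact ⟨(MulEquiv.subgroupCongr (h.closure_invol hdb0)).trans e⟩

end Cfsg.Agent.S1193
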