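import Cfsg.Statements.S1194
import Cfsg.Agent.Lib.Helper59.QDBridge
import Cfsg.Agent.Lib.Helper59.QDNormal

set_option autoImplicit false
open Cfsg

namespace Cfsg.Agent.S1194

open Cfsg.Agent.Lib.Helper59

/-- A proper normal subgroup of a quasi-dihedral 2-group is either maximal or a cyclic subgroup of the derived subgroup. -/
theorem result {S : Type*} [Group S] [Finite S] (hS : Cfsg.IsQuasiDihedral S) (N : Subgroup S) [N.Normal] (hN : N ≠ ⊤) : IsCoatom N ∨ (IsCyclic N ∧ N ≤ commutator S) := by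
  obtain ⟨k, x, y, h⟩ := exists_QD_of_isQuasiDihedral hS
  have hw := QD.w_pos k
  obtain ⟨d, hd8, hx, hy⟩ := h.subgroup_desc N
  have hnorm : ∀ n ∈ N, ∀ g : S, g * n * g⁻¹ ∈ N := fun n hn g => Subgroup.Normal.conj_mem inferInstance n hn g
  rcases hy with hy | ⟨b, hdb, hy⟩
  · -- N ≤ ⟨x⟩
    have hle : N ≤ Subgroup.zpowers x := by
      intro g hg
      rcases h.cases g with ⟨a, rfl⟩ | ⟨a, rfl⟩
      · exact Subgroup.zpow_mem_zpowers x a
      · exact absurd hg (hy a)
    by_cases hd2 : (2 : ℤ) ∣ d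
    · right
      refine ⟨Subgroup.isCyclic_of_le hle, ?_⟩
      intro g hg
      rcases h.cases g with ⟨a, rfl⟩ | ⟨a, rfl⟩
      · obtain ⟨c, hc⟩ := dvd_trans hd2 ((hx a).mp hg)
        rw [hc]; exact h.even_zpow_mem_commutator c
      · exact absurd hg (hy a)
    · left
      -- d is odd and divides 8w = 2^(k+3), so x ∈ N
      have hxN : x ∈ N := by
        have hcop : IsCoprime d ((2 : ℤ) ^ (k + 3)) := by
          apply IsCoprime.pow_right
          rcases Int.even_or_odd' d with ⟨c, hc | hc⟩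
          · exact absurd ⟨c, hc⟩ hd2
          · exact ⟨1, -c, by rw [hc]; ring⟩
        have h8 : d ∣ (2 : ℤ) ^ (k + 3) * 1 := by
          have : (2 : ℤ) ^ (k + 3) * 1 = 8 * 2 ^ k := by ring
          rw [this]; exact hd8
        have hd1 : d ∣ 1 := hcop.dvd_of_dvd_mul_left h8
        have := (hx 1).mpr hd1
        simpa using this
      apply h.isCoatom_of_x_sq_mem N hN _ (Or.inl hxN)
      exact N.zpow_mem hxN 2
  · left
    have hbN : x ^ b * y ∈ N := (hy b).mpr (by simp)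
    have h1 := hnorm _ hbN (x ^ (1 : ℤ))
    rw [h.conj_xy_by_x, hy] at h1
    -- d ∣ 2 - 4w
    have hd2 : d ∣ 2 := by
      have e : (2 : ℤ) = (b + (2 - 4 * 2 ^ k) * 1 - b) * (2 * 2 ^ k + 1) + (8 * 2 ^ k) * 2 ^ k := by ring
      rw [e]
      exact dvd_add (Dvd.dvd.mul_right h1 _) (Dvd.dvd.mul_right hd8 _)
    apply h.isCoatom_of_x_sq_mem N hN ((hx 2).mpr hd2) (Or.inr ⟨b, hbN⟩)

end Cfsg.Agent.S1194
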