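import Cfsg.Statements.S1195
import Cfsg.Agent.Lib.Helper27.WreathedBasic

set_option autoImplicit false
open Cfsg

namespace Cfsg.Agent.S1195

open Cfsg.Agent.Lib.Helper27

/-- A wreathed 2-group has exactly three conjugacy classes of elements of order 2. -/
theorem result {S : Type*} [Group S] [Finite S] (hS : Cfsg.IsWreathed S) : Nat.card {C : ConjClasses S // ∃ t : S, orderOf t = 2 ∧ ConjClasses.mk t = C} = 3 := by
  obtain ⟨n, x, y, z, h⟩ := exists_isWr hS
  have hn1 := h.one_le_n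
  have hset : {C : ConjClasses S | ∃ t : S, orderOf t = 2 ∧ ConjClasses.mk t = C} =
      {ConjClasses.mk (h.P (hh n) (hh n)), ConjClasses.mk (h.P (hh n) 0),
        ConjClasses.mk (h.Q 0 0)} := by
    ext C
    simp only [Set.mem_ofPred_eq, Set.mem_insert_iff, Set.mem_singleton_iff]
    constructor
    · rintro ⟨t, ht, rfl⟩
      rcases h.cases t with ⟨i, j, rfl⟩ | ⟨i, j, rfl⟩
      · rw [h.orderOf_P_eq_two_iff] at ht
        obtain ⟨hi, hj, hij⟩ := ht
        rcases hi with rfl | rfl <;> rcases hj with rfl | rfl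
        · exact absurd ⟨rfl, rfl⟩ hij
        · right; left
          rw [ConjClasses.mk_eq_mk_iff_isConj, isConj_iff]
          exact ⟨h.Q 0 0, h.Q_conj_P 0 0 0 (hh n)⟩
        · right; left; rfl
        · left; rfl
      · rw [h.orderOf_Q_eq_two_iff] at ht
        right; right
        rw [ConjClasses.mk_eq_mk_iff_isConj, isConj_iff]
        refine ⟨h.P (-i) 0, ?_⟩
        rw [h.P_conj_Q]
        congr 1
        · ring
        · linear_combination ht
    · rintro (rfl | rfl | rfl)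
      · exact ⟨_, (h.orderOf_P_eq_two_iff _ _).mpr
          ⟨Or.inr rfl, Or.inr rfl, fun hc => hh_ne_zero hn1 hc.1⟩, rfl⟩
      · exact ⟨_, (h.orderOf_P_eq_two_iff _ _).mpr
          ⟨Or.inr rfl, Or.inl rfl, fun hc => hh_ne_zero hn1 hc.1⟩, rfl⟩
      · exact ⟨_, (h.orderOf_Q_eq_two_iff _ _).mpr (add_zero 0), rfl⟩
  have conjP : ∀ (c : S) (i j : ZMod (2 ^ n)),
      c * h.P i j * c⁻¹ = h.P i j ∨ c * h.P i j * c⁻¹ = h.P j i := by
    intro c i j
    rcases h.cases c with ⟨a, b, rfl⟩ | ⟨a, b, rfl⟩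
    · left; exact h.P_conj_P a b i j
    · right; exact h.Q_conj_P a b i j
  have d12 : ConjClasses.mk (h.P (hh n) (hh n)) ≠ ConjClasses.mk (h.P (hh n) 0) := by
    rw [Ne, ConjClasses.mk_eq_mk_iff_isConj, isConj_iff]
    rintro ⟨c, hc⟩
    rcases conjP c (hh n) (hh n) with h1 | h1 <;> rw [h1] at hc <;>
      exact hh_ne_zero hn1 (h.P_inj hc).2
  have d13 : ConjClasses.mk (h.P (hh n) (hh n)) ≠ ConjClasses.mk (h.Q 0 0) := by
    rw [Ne, ConjClasses.mk_eq_mk_iff_isConj, isConj_iff]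
    rintro ⟨c, hc⟩
    rcases conjP c (hh n) (hh n) with h1 | h1 <;> rw [h1] at hc <;>
      exact h.P_ne_Q _ _ _ _ hc
  have d23 : ConjClasses.mk (h.P (hh n) 0) ≠ ConjClasses.mk (h.Q 0 0) := by
    rw [Ne, ConjClasses.mk_eq_mk_iff_isConj, isConj_iff]
    rintro ⟨c, hc⟩
    rcases conjP c (hh n) 0 with h1 | h1 <;> rw [h1] at hc <;>
      exact h.P_ne_Q _ _ _ _ hc
  have e1 : Nat.card {C : ConjClasses S // ∃ t : S, orderOf t = 2 ∧ ConjClasses.mk t = C} =
      Set.ncard {C : ConjClasses S | ∃ t : S, orderOf t = 2 ∧ ConjClasses.mk t = C} :=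
    Nat.card_coe_set_eq _
  rw [e1, hset, Set.ncard_eq_three]
  exact ⟨_, _, _, d12, d13, d23, rfl⟩

end Cfsg.Agent.S1195
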