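import Cfsg.Statements.S1196
import Cfsg.Agent.Lib.Helper27.WreathedStruct

set_option autoImplicit false
open Cfsg

namespace Cfsg.Agent.S1196

open Cfsg.Agent.Lib.Helper27

/-- A wreathed 2-group S of order 2^(2n+1) has a unique commutative subgroup of order 2^(2n), and this subgroup is isomorphic to the direct product of two cyclic groups of order 2^n. -/
theorem result {S : Type*} [Group S] [Finite S] (hS : Cfsg.IsWreathed S) (n : ℕ) (hn : Nat.card S = 2 ^ (2 * n + 1)) : (∃! U : Subgroup S, IsMulCommutative U ∧ Nat.card U = 2 ^ (2 * n)) ∧ ∀ U : Subgroup S, IsMulCommutative U → Nat.card U = 2 ^ (2 * n) → Nonempty (U ≃* Multiplicative (ZMod (2 ^ n) × ZMod (2 ^ n))) := by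
  obtain ⟨n', x, y, z, h⟩ := exists_isWr hS
  obtain rfl := h.n_eq hn
  refine ⟨⟨h.U, ⟨h.U_comm, h.card_U⟩, ?_⟩, ?_⟩
  · rintro V ⟨hV, hVc⟩
    exact h.eq_U_of_comm_of_card V hV hVc
  · intro V hV hVc
    have hVU : V = h.U := h.eq_U_of_comm_of_card V hV hVc
    have e1 : Multiplicative (ZMod (2 ^ n) × ZMod (2 ^ n)) ≃* h.pHom.range :=
      MonoidHom.ofInjective h.pHom_injective
    have e2 : h.pHom.range ≃* V := MulEquiv.subgroupCongr (by rw [h.pHom_range, hVU])
    exact ⟨(e1.trans e2).symm⟩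

end Cfsg.Agent.S1196
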