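import Cfsg.Statements.S1199
import Cfsg.Agent.Lib.Helper27.WreathedQuatUniq

set_option autoImplicit false
open Cfsg

namespace Cfsg.Agent.S1199

open Cfsg.Agent.Lib.Helper27

/-- A wreathed 2-group S of order 2^(2n+1) has exactly one subgroup of order 2^(n+1) isomorphic to a generalized quaternion group, and that subgroup is normal in S. -/
theorem result {S : Type*} [Group S] [Finite S] (hS : Cfsg.IsWreathed S) (n : ℕ) (hn : Nat.card S = 2 ^ (2 * n + 1)) : (∃! Y : Subgroup S, Nat.card Y = 2 ^ (n + 1) ∧ Nonempty (Y ≃* QuaternionGroup (2 ^ (n - 1)))) ∧ ∀ Y : Subgroup S, Nat.card Y = 2 ^ (n + 1) → Nonempty (Y ≃* QuaternionGroup (2 ^ (n - 1))) → Y.Normal := by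
  obtain ⟨n', x, y, z, h⟩ := exists_isWr hS
  obtain rfl := h.n_eq hn
  refine ⟨⟨h.Y0, ⟨h.card_Y0, ⟨h.Y0_equiv⟩⟩, ?_⟩, ?_⟩
  · rintro Y ⟨hc, ⟨e⟩⟩
    exact h.eq_Y0_of_equiv Y hc e
  · rintro Y hc ⟨e⟩
    rw [h.eq_Y0_of_equiv Y hc e]
    exact h.Y0_normal

end Cfsg.Agent.S1199
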