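import Cfsg.Statements.S1201
import Cfsg.Agent.Lib.Helper27.WreathedCenter

set_option autoImplicit false
open Cfsg

namespace Cfsg.Agent.S1201

open Cfsg.Agent.Lib.Helper27

/-- If X is a non-commutative subgroup of a wreathed 2-group S, then Z(X) ≤ Z(S). -/
theorem result {S : Type*} [Group S] [Finite S] (hS : Cfsg.IsWreathed S) (X : Subgroup S) (hX : ¬ IsMulCommutative X) : (Subgroup.center X).map X.subtype ≤ Subgroup.center S := by
  obtain ⟨n, x, y, z, h⟩ := exists_isWr hS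
  rintro _ ⟨⟨c, hcX⟩, hc, rfl⟩
  rw [SetLike.mem_coe, Subgroup.mem_center_iff] at hc
  have hc' : ∀ v ∈ X, v * c = c * v := fun v hv => congrArg Subtype.val (hc ⟨v, hv⟩)
  show c ∈ Subgroup.center S
  by_contra hcen
  apply hX
  rw [isMulCommutative_iff]
  rintro ⟨v, hv⟩ ⟨w, hw⟩
  apply Subtype.ext
  show v * w = w * v
  have hcv := hc' v hv
  have hcw := hc' w hw
  rcases h.cases c with ⟨a, b, rfl⟩ | ⟨a, b, rfl⟩
  · have hab : a ≠ b := fun e => hcen ((h.mem_center_iff _).mpr ⟨a, by rw [e]⟩)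
    rcases h.cases v with ⟨i, j, rfl⟩ | ⟨i, j, rfl⟩
    · rcases h.cases w with ⟨k, l, rfl⟩ | ⟨k, l, rfl⟩
      · rw [h.P_mul_P, h.P_mul_P, add_comm i k, add_comm j l]
      · exact absurd ((h.P_comm_Q_iff a b k l).mp hcw.symm) hab
    · exact absurd ((h.P_comm_Q_iff a b i j).mp hcv.symm) hab
  · rcases h.cases v with ⟨i, j, rfl⟩ | ⟨i, j, rfl⟩
    · have hij : i = j := (h.P_comm_Q_iff i j a b).mp hcv
      rcases h.cases w with ⟨k, l, rfl⟩ | ⟨k, l, rfl⟩
      · rw [h.P_mul_P, h.P_mul_P, add_comm i k, add_comm j l]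
      · exact (h.P_comm_Q_iff i j k l).mpr hij
    · have hij : i - j = a - b := (h.Q_comm_Q_iff i j a b).mp hcv
      rcases h.cases w with ⟨k, l, rfl⟩ | ⟨k, l, rfl⟩
      · have hkl : k = l := (h.P_comm_Q_iff k l a b).mp hcw
        exact ((h.P_comm_Q_iff k l i j).mpr hkl).symm
      · have hkl : k - l = a - b := (h.Q_comm_Q_iff k l a b).mp hcw
        exact (h.Q_comm_Q_iff i j k l).mpr (hij.trans hkl.symm)

end Cfsg.Agent.S1201
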