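import Cfsg.Statements.S1202
import Cfsg.Agent.Lib.Helper27.WreathedQ8
import Cfsg.Agent.Lib.Helper27.WreathedStruct

set_option autoImplicit false
open Cfsg

namespace Cfsg.Agent.S1202

open Cfsg.Agent.Lib.Helper27

/-- Let S be a wreathed 2-group of order 2^(2n+1) and X a subgroup with C_S(X) ≤ X such that Aut(X) is not a 2-group. Then |N_S(X) : X| = 2, and either X is the commutative subgroup of order 2^(2n), or X = Q·Z(S) for some subgroup Q ≅ Q₈; in the latter case any two such subgroups are conjugate in S. -/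
theorem result {S : Type*} [Group S] [Finite S] (hS : Cfsg.IsWreathed S) (n : ℕ) (hn : Nat.card S = 2 ^ (2 * n + 1)) (X : Subgroup S) (hC : Subgroup.centralizer (X : Set S) ≤ X) (hA : ¬ IsPGroup 2 (MulAut X)) : X.relIndex (Subgroup.normalizer (X : Set S)) = 2 ∧ ((IsMulCommutative X ∧ Nat.card X = 2 ^ (2 * n)) ∨ ∃ Q : Subgroup S, Nonempty (Q ≃* QuaternionGroup 2) ∧ X = Q ⊔ Subgroup.center S) ∧ ∀ X' : Subgroup S, Subgroup.centralizer (X' : Set S) ≤ X' → ¬ IsPGroup 2 (MulAut X') → ¬ IsMulCommutative X → ¬ IsMulCommutative X' → ∃ s : S, X.map (MulAut.conj s).toMonoidHom = X' := by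
  obtain ⟨m, x, y, z, h⟩ := exists_isWr hS
  have hmn : n = m := h.n_eq hn
  subst hmn
  rcases h.classification X hC hA with hXU | ⟨δ, e, hδ, hX⟩
  · refine ⟨?_, Or.inl ?_, ?_⟩
    · rw [hXU]
      haveI : h.U.Normal := by rw [IsWr.U]; infer_instance
      rw [Subgroup.normalizer_eq_top, Subgroup.relIndex_top_right, h.index_U]
    · rw [hXU]; exact ⟨h.U_comm, h.card_U⟩
    · intro X' _ _ hnc
      exact absurd (hXU ▸ h.U_comm) hnc
  · refine ⟨hX.relIndex_normalizer, Or.inr (hX.exists_Q8 h hδ), ?_⟩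
    intro X' hC' hA' _ hnc'
    rcases h.classification X' hC' hA' with hXU' | ⟨δ', e', hδ', hX'⟩
    · exact absurd (hXU' ▸ h.U_comm) hnc'
    · exact ⟨h.P (e' - e) 0, hX.conj h hX' (by rw [hδ, hδ']; ring)⟩

end Cfsg.Agent.S1202
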