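import Cfsg.Statements.S1209
import Cfsg.Agent.Lib.Helper27.WreathedClasses

set_option autoImplicit false
open Cfsg

namespace Cfsg.Agent.S1209

open Cfsg.Agent.Lib.Helper27

/-- Let G be a finite group whose Sylow 2-subgroup S is wreathed of order 2^(2n+1), U the commutative subgroup of index 2 in S, Q a quaternion subgroup of order 8 of S and V = Q Z(S). If |N_G(U) : C_G(U)| = 6 and |N_G(V) : V C_G(V)| = 6, then G has no subgroup of index 2 and exactly one conjugacy class of involutions. -/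
theorem result {G : Type*} [Group G] [Finite G] (S : Sylow 2 G) (hS : Cfsg.IsWreathed (S : Subgroup G)) (n : ℕ) (hn : Nat.card S = 2 ^ (2 * n + 1)) (U : Subgroup G) (hUS : U ≤ S) (hUab : IsMulCommutative U) (hUcard : Nat.card U = 2 ^ (2 * n)) (Q : Subgroup G) (hQS : Q ≤ S) (eQ : Q ≃* QuaternionGroup 2) (h₁ : (Subgroup.centralizer (U : Set G)).relIndex (Subgroup.normalizer (U : Set G)) = 6) (h₂ : ((Q ⊔ ((Subgroup.center (S : Subgroup G)).map (S : Subgroup G).subtype)) ⊔ Subgroup.centralizer ((Q ⊔ ((Subgroup.center (S : Subgroup G)).map (S : Subgroup G).subtype) : Subgroup G) : Set G)).relIndex (Subgroup.normalizer ((Q ⊔ ((Subgroup.center (S : Subgroup G)).map (S : Subgroup G).subtype) : Subgroup G) : Set G)) = 6) : (∀ H : Subgroup G, H.index ≠ 2) ∧ Nat.card {C : ConjClasses G // ∃ t : G, orderOf t = 2 ∧ ConjClasses.mk t = C} = 1 := by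
  obtain ⟨m, x, y, z, h⟩ := exists_isWr hS
  have hmn : n = m := h.n_eq hn
  subst hmn
  have hU : U = h.UG := h.eq_UG U hUS hUab hUcard
  subst hU
  obtain ⟨g₁, hg₁N, hodd₁, hg₁C, hg₁3⟩ := h.exists_odd_UG h₁
  obtain ⟨g₂, hg₂N, hodd₂, c, d, hg₂⟩ := h.exists_odd_V Q hQS eQ h₂
  have hzu : IsConj h.zG h.uG := h.isConj_zG_uG hg₁N hodd₁ hg₁C
  have hut : IsConj h.uG h.tG := h.isConj_uG_tG hg₂
  have hall : ∀ t : G, orderOf t = 2 → IsConj t h.zG := by
    intro t ht
    rcases h.involution_conj ht with h1 | h1 | h1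
    · exact h1
    · exact h1.trans hzu.symm
    · exact h1.trans (hzu.trans hut).symm
  refine ⟨?_, ?_⟩
  · intro H hH
    haveI : H.Normal := Subgroup.normal_of_index_eq_two hH
    have hUH : h.UG ≤ H := h.UG_le_of_index_two hg₁N hodd₁ hg₁C hg₁3 hH
    have hzH : h.zG ∈ H := hUH (h.PG_mem_UG _ _)
    have htH : h.tG ∈ H := by
      obtain ⟨c, hc⟩ := isConj_iff.mp (hall h.tG h.orderOf_tG).symm
      rw [← hc]
      exact Subgroup.Normal.conj_mem inferInstance _ hzH c
    have hSH : (S : Subgroup G) ≤ H := h.le_of_UG_le_of_tG_mem hUH htH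
    have := Subgroup.index_dvd_of_le hSH
    rw [hH] at this
    exact S.not_dvd_index this
  · exact card_involution_classes (fun _ : Fin 1 => h.zG) (fun _ => h.orderOf_zG)
      (fun i j _ => Subsingleton.elim i j) (fun t ht => ⟨0, hall t ht⟩)

end Cfsg.Agent.S1209
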