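import Cfsg.Statements.S1210
import Cfsg.Agent.Lib.Helper27.WreathedQC4

set_option autoImplicit false
open Cfsg

namespace Cfsg.Agent.S1210

open Cfsg.Agent.Lib.Helper27

/-- Let G be a finite group whose Sylow 2-subgroup S is wreathed of order 2^(2n+1), U the commutative subgroup of index 2 in S, Q a quaternion subgroup of order 8 of S and V = Q Z(S). If |N_G(U) : C_G(U)| = 2 and |N_G(V) : V C_G(V)| = 6, then G has a normal subgroup K of index 2^n whose Sylow 2-subgroups are generalized quaternion and which has no subgroup of index 2; every subgroup of Z(S) is weakly closed in S; and G has exactly two classes of involutions. -/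
theorem result {G : Type*} [Group G] [Finite G] (S : Sylow 2 G) (hS : Cfsg.IsWreathed (S : Subgroup G)) (n : ℕ) (hn : Nat.card S = 2 ^ (2 * n + 1)) (U : Subgroup G) (hUS : U ≤ S) (hUab : IsMulCommutative U) (hUcard : Nat.card U = 2 ^ (2 * n)) (Q : Subgroup G) (hQS : Q ≤ S) (eQ : Q ≃* QuaternionGroup 2) (h₁ : (Subgroup.centralizer (U : Set G)).relIndex (Subgroup.normalizer (U : Set G)) = 2) (h₂ : ((Q ⊔ ((Subgroup.center (S : Subgroup G)).map (S : Subgroup G).subtype)) ⊔ Subgroup.centralizer ((Q ⊔ ((Subgroup.center (S : Subgroup G)).map (S : Subgroup G).subtype) : Subgroup G) : Set G)).relIndex (Subgroup.normalizer ((Q ⊔ ((Subgroup.center (S : Subgroup G)).map (S : Subgroup G).subtype) : Subgroup G) : Set G)) = 6) : (∃ K : Subgroup G, K.Normal ∧ K.index = 2 ^ n ∧ (∀ P : Sylow 2 ↥K, ∃ m : ℕ, 1 ≤ m ∧ Nonempty ((P : Subgroup ↥K) ≃* QuaternionGroup (2 ^ m))) ∧ (∀ H : Subgroup ↥K, H.index ≠ 2)) ∧ (∀ Z₀ : Subgroup G, Z₀ ≤ ((Subgroup.center (S : Subgroup G)).map (S : Subgroup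 G).subtype) → Cfsg.IsWeaklyClosed Z₀ (S : Subgroup G)) ∧ Nat.card {C : ConjClasses G // ∃ t : G, orderOf t = 2 ∧ ConjClasses.mk t = C} = 2 := by
  obtain ⟨m, x, y, z, h⟩ := exists_isWr hS
  have hmn : n = m := h.n_eq hn
  subst hmn
  have hU : U = h.UG := h.eq_UG U hUS hUab hUcard
  subst hU
  refine ⟨h.exists_quaternion_residual Q hQS eQ h₁ h₂, ?_, ?_⟩
  · intro Z₀ hZ₀
    exact h.isWeaklyClosed_of_le_ZG h₁ hZ₀
  · obtain ⟨g₂, hg₂N, hodd₂, c, d, hg₂⟩ := h.exists_odd_V Q hQS eQ h₂
    have hut : IsConj h.uG h.tG := h.isConj_uG_tG hg₂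
    have hzu : ¬ IsConj h.zG h.uG := h.not_isConj_zG_uG h₁
    refine card_involution_classes ![h.zG, h.uG] ?_ ?_ ?_
    · intro i
      fin_cases i
      · exact h.orderOf_zG
      · exact h.orderOf_uG
    · intro i j hij
      fin_cases i <;> fin_cases j
      · rfl
      · exact absurd hij hzu
      · exact absurd hij.symm hzu
      · rfl
    · intro t ht
      rcases h.involution_conj ht with h1 | h1 | h1
      · exact ⟨0, h1⟩
      · exact ⟨1, h1⟩
      · exact ⟨1, h1.trans hut.symm⟩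

end Cfsg.Agent.S1210
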