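import Cfsg.Statements.S1212
import Cfsg.Agent.Lib.Helper27.WreathedNilp

set_option autoImplicit false
open Cfsg

namespace Cfsg.Agent.S1212

open Cfsg.Agent.Lib.Helper27

/-- Let G be a finite group whose Sylow 2-subgroup S is wreathed of order 2^(2n+1), U the commutative subgroup of index 2 in S, Q a quaternion subgroup of order 8 of S and V = Q Z(S). If |N_G(U) : C_G(U)| = 2 and |N_G(V) : V C_G(V)| = 2, then G has a normal 2-complement and exactly three conjugacy classes of involutions. -/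
theorem result {G : Type*} [Group G] [Finite G] (S : Sylow 2 G) (hS : Cfsg.IsWreathed (S : Subgroup G)) (n : ℕ) (hn : Nat.card S = 2 ^ (2 * n + 1)) (U : Subgroup G) (hUS : U ≤ S) (hUab : IsMulCommutative U) (hUcard : Nat.card U = 2 ^ (2 * n)) (Q : Subgroup G) (hQS : Q ≤ S) (eQ : Q ≃* QuaternionGroup 2) (h₁ : (Subgroup.centralizer (U : Set G)).relIndex (Subgroup.normalizer (U : Set G)) = 2) (h₂ : ((Q ⊔ ((Subgroup.center (S : Subgroup G)).map (S : Subgroup G).subtype)) ⊔ Subgroup.centralizer ((Q ⊔ ((Subgroup.center (S : Subgroup G)).map (S : Subgroup G).subtype) : Subgroup G) : Set G)).relIndex (Subgroup.normalizer ((Q ⊔ ((Subgroup.center (S : Subgroup G)).map (S : Subgroup G).subtype) : Subgroup G) : Set G)) = 2) : Cfsg.HasNormalPComplement 2 G ∧ Nat.card {C : ConjClasses G // ∃ t : G, orderOf t = 2 ∧ ConjClasses.mk t = C} = 3 := by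
  obtain ⟨m, x, y, z, h⟩ := exists_isWr hS
  have hmn : n = m := h.n_eq hn
  subst hmn
  have hU : U = h.UG := h.eq_UG U hUS hUab hUcard
  subst hU
  haveI : Fact (Nat.Prime 2) := ⟨Nat.prime_two⟩
  have hnpc : Cfsg.HasNormalPComplement 2 G :=
    Cfsg.Agent.Lib.Helper41.hasNormalPComplement_of_frobCond
      (h.frobCond_of_two_two Q hQS eQ h₁ h₂)
  refine ⟨hnpc, ?_⟩
  obtain ⟨N, hNn, hN⟩ := (Cfsg.Agent.Lib.Helper03.hasNormalPComplement_iff S).mp hnpc
  haveI := hNn
  obtain ⟨hzu, hzt, hut⟩ := h.not_isConj_of_complement hN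
  refine card_involution_classes ![h.zG, h.uG, h.tG] ?_ ?_ ?_
  · intro i
    fin_cases i
    · exact h.orderOf_zG
    · exact h.orderOf_uG
    · exact h.orderOf_tG
  · intro i j hij
    fin_cases i <;> fin_cases j
    · rfl
    · exact absurd hij hzu
    · exact absurd hij hzt
    · exact absurd hij.symm hzu
    · rfl
    · exact absurd hij hut
    · exact absurd hij.symm hzt
    · exact absurd hij.symm hut
    · rfl
  · intro t ht
    rcases h.involution_conj ht with h1 | h1 | h1
    · exact ⟨0, h1⟩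
    · exact ⟨1, h1⟩
    · exact ⟨2, h1⟩

end Cfsg.Agent.S1212
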