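import Mathlib
import Cfsg.Statements.S1217
import Cfsg.Agent.Lib.Helper99.TwoAdic

set_option autoImplicit false
open scoped MatrixGroups
open Cfsg

namespace Cfsg.Agent.S1217

section grp
variable {G : Type*} [Group G]

theorem exists_conj_mem [Finite G] (P : Sylow 2 G) (H : Subgroup G) (hH : IsPGroup 2 H) :
    ∃ g : G, ∀ h ∈ H, g * h * g⁻¹ ∈ (P : Subgroup G) := by
  obtain ⟨Q, hQ⟩ := hH.exists_le_sylow
  obtain ⟨g, hg⟩ := MulAction.exists_smul_eq G Q P
  refine ⟨g, fun h hh => ?_⟩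
  have h1 := Subgroup.smul_mem_pointwise_smul h (MulAut.conj g) (Q : Subgroup G) (hQ hh)
  rw [← Sylow.pointwise_smul_def, ← Sylow.smul_def, hg] at h1
  simpa [MulAut.smul_def, MulAut.conj_apply] using h1

theorem mem_normalizer_of_invol (K : Subgroup G) (g : G) (hg : g * g = 1)
    (h1 : ∀ k ∈ K, g * k * g⁻¹ ∈ K) : g ∈ Subgroup.normalizer (K : Set G) := by
  have hgi : g⁻¹ = g := inv_eq_of_mul_eq_one_left hg
  rw [Subgroup.mem_normalizer_iff]
  intro k
  refine ⟨h1 k, fun hk => ?_⟩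
  have := h1 _ hk
  rw [hgi] at this
  have e : g * (g * k * g) * g = k := by
    calc g * (g * k * g) * g = (g * g) * k * (g * g) := by group
      _ = k := by rw [hg, one_mul, mul_one]
  rwa [e] at this

theorem isPGroup_zpowers (x : G) (n : ℕ) (hx : orderOf x = 2 ^ n) :
    IsPGroup 2 (Subgroup.zpowers x) := by
  apply IsPGroup.of_card (n := n)
  rw [Nat.card_zpowers, hx]

theorem orderOf_conj' (g x : G) : orderOf (g * x * g⁻¹) = orderOf x := by
  have := orderOf_injective (MulAut.conj g).toMonoidHom (MulAut.conj g).injective x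
  simpa [MulAut.conj_apply] using this

theorem exists_orderOf_eq_of_dvd [Finite G] [IsCyclic G] (d : ℕ) (hd : d ∣ Nat.card G) :
    ∃ x : G, orderOf x = d := by
  obtain ⟨g, hg⟩ := IsCyclic.exists_ofOrder_eq_natCard (α := G)
  obtain ⟨e, he⟩ := hd
  have hpos : 0 < Nat.card G := Nat.card_pos
  have hd0 : d ≠ 0 := by rintro rfl; simp at he; omega
  have he0 : e ≠ 0 := by rintro rfl; simp at he; omega
  refine ⟨g ^ e, ?_⟩
  rw [orderOf_pow_of_dvd he0 (by rw [hg, he]; exact dvd_mul_left _ _), hg, he]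
  exact Nat.mul_div_cancel _ (Nat.pos_of_ne_zero he0)

end grp

section arith


theorem v2_two_mul_odd (k : ℕ) (hk : Odd k) : padicValNat 2 (2 * k) = 1 := by
  have hk0 : k ≠ 0 := by rintro rfl; simp at hk
  rw [padicValNat.mul (by norm_num) hk0, padicValNat.self (by norm_num),
    padicValNat.eq_zero_of_not_dvd (by rw [Nat.two_dvd_ne_zero]; exact Nat.odd_iff.mp hk)]

theorem v2_odd (k : ℕ) (hk : Odd k) : padicValNat 2 k = 0 :=
  padicValNat.eq_zero_of_not_dvd (by rw [Nat.two_dvd_ne_zero]; exact Nat.odd_iff.mp hk)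

theorem card_eq (q : ℕ) (hq : 1 ≤ q) : (q ^ 2 - 1) * (q ^ 2 - q) = (q - 1) * (q + 1) * (q * (q - 1)) := by
  obtain ⟨r, rfl⟩ : ∃ r, q = r + 1 := ⟨q - 1, by omega⟩
  have h1 : (r + 1) ^ 2 - 1 = r * (r + 2) := by
    have : (r + 1) ^ 2 = r * (r + 2) + 1 := by ring
    omega
  have h2 : (r + 1) ^ 2 - (r + 1) = (r + 1) * r := by
    have : (r + 1) ^ 2 = (r + 1) * r + (r + 1) := by ring
    omega
  rw [h1, h2]
  simp

theorem v2_case1 (q : ℕ) (h : q % 4 = 1) (hq : 1 < q) :
    padicValNat 2 ((q ^ 2 - 1) * (q ^ 2 - q)) = 2 * padicValNat 2 (q - 1) + 1 ∧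
      2 ≤ padicValNat 2 (q - 1) := by
  have hodd : Odd q := Nat.odd_iff.mpr (by omega)
  have hq1 : q - 1 ≠ 0 := by omega
  constructor
  · have hqq : q * (q - 1) ≠ 0 := Nat.mul_ne_zero (by omega) hq1
    have hqq2 : (q - 1) * (q + 1) ≠ 0 := Nat.mul_ne_zero hq1 (by omega)
    rw [card_eq q (by omega), padicValNat.mul hqq2 hqq,
      padicValNat.mul hq1 (by omega), padicValNat.mul (by omega) hq1, v2_odd q hodd]
    have : q + 1 = 2 * ((q + 1) / 2) := by omega
    rw [this, v2_two_mul_odd _ (Nat.odd_iff.mpr (by omega))]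
    ring
  · have h4 : 2 ^ 2 ∣ q - 1 := by
      norm_num; omega
    exact (padicValNat_dvd_iff_le hq1).mp h4

theorem v2_case3 (q : ℕ) (h : q % 4 = 3) :
    padicValNat 2 ((q ^ 2 - 1) * (q ^ 2 - q)) = padicValNat 2 (q ^ 2 - 1) + 1 ∧
      3 ≤ padicValNat 2 (q ^ 2 - 1) ∧ padicValNat 2 (q ^ 2 - 1) = padicValNat 2 (q + 1) + 1 := by
  have hodd : Odd q := Nat.odd_iff.mpr (by omega)
  have hq1 : q - 1 ≠ 0 := by omega
  have hsq : q ^ 2 - 1 = (q - 1) * (q + 1) := by
    obtain ⟨r, rfl⟩ : ∃ r, q = r + 1 := ⟨q - 1, by omega⟩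
    have : (r + 1) ^ 2 = r * (r + 2) + 1 := by ring
    rw [this]; simp
  have hm1 : padicValNat 2 (q - 1) = 1 := by
    have : q - 1 = 2 * ((q - 1) / 2) := by omega
    rw [this, v2_two_mul_odd _ (Nat.odd_iff.mpr (by omega))]
  have e3 : padicValNat 2 (q ^ 2 - 1) = padicValNat 2 (q + 1) + 1 := by
    rw [hsq, padicValNat.mul hq1 (by omega), hm1]; ring
  refine ⟨?_, ?_, e3⟩
  · have hqq : q * (q - 1) ≠ 0 := Nat.mul_ne_zero (by omega) hq1
    have hqq2 : (q - 1) * (q + 1) ≠ 0 := Nat.mul_ne_zero hq1 (by omega)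
    rw [card_eq q (by omega), padicValNat.mul hqq2 hqq,
      padicValNat.mul hq1 (by omega), padicValNat.mul (by omega) hq1, v2_odd q hodd, e3, hm1]
    ring
  · rw [e3]
    have h4 : 2 ^ 2 ∣ q + 1 := by
      norm_num; omega
    have := (padicValNat_dvd_iff_le (by omega : q + 1 ≠ 0)).mp h4
    omega


end arith

section mats

variable {F : Type*} [Field F]

/-- diagonal element of GL₂ -/
def dg (u v : Fˣ) : GL (Fin 2) F :=
  ⟨!![(u : F), 0; 0, (v : F)], !![((u⁻¹ : Fˣ) : F), 0; 0, ((v⁻¹ : Fˣ) : F)],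
    by ext i j; fin_cases i <;> fin_cases j <;> simp,
    by ext i j; fin_cases i <;> fin_cases j <;> simp⟩

theorem dg_mul (u v u' v' : Fˣ) : dg u v * dg u' v' = dg (u * u') (v * v') := by
  apply Units.ext
  ext i j; fin_cases i <;> fin_cases j <;> simp [dg]

theorem dg_one : dg (1 : Fˣ) 1 = (1 : GL (Fin 2) F) := by
  apply Units.ext
  ext i j; fin_cases i <;> fin_cases j <;> simp [dg]

theorem dg_inj (u v u' v' : Fˣ) (h : dg u v = dg u' v') : u = u' ∧ v = v' := by
  have h1 := congrArg (fun g : GL (Fin 2) F => (g : Matrix (Fin 2) (Fin 2) F)) h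
  simp only [dg] at h1
  have h00 := congrFun (congrFun h1 0) 0
  have h11 := congrFun (congrFun h1 1) 1
  simp at h00 h11
  exact ⟨Units.ext h00, Units.ext h11⟩

def dgHom1 : Fˣ →* GL (Fin 2) F where
  toFun u := dg u 1
  map_one' := dg_one
  map_mul' a b := by rw [dg_mul, one_mul]

def dgHom2 : Fˣ →* GL (Fin 2) F where
  toFun u := dg 1 u
  map_one' := dg_one
  map_mul' a b := by rw [dg_mul, one_mul]

theorem dgHom1_inj : Function.Injective (dgHom1 (F := F)) := by
  intro a b h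
  exact (dg_inj _ _ _ _ h).1

theorem dgHom2_inj : Function.Injective (dgHom2 (F := F)) := by
  intro a b h
  exact (dg_inj _ _ _ _ h).2

def sw : GL (Fin 2) F :=
  ⟨!![0, 1; 1, 0], !![0, 1; 1, 0],
    by ext i j; fin_cases i <;> fin_cases j <;> simp,
    by ext i j; fin_cases i <;> fin_cases j <;> simp⟩

theorem sw_mul_self : (sw : GL (Fin 2) F) * sw = 1 := by
  apply Units.ext
  ext i j; fin_cases i <;> fin_cases j <;> simp [sw]

theorem sw_ne_one : (sw : GL (Fin 2) F) ≠ 1 := by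
  intro h
  have h1 := congrArg (fun g : GL (Fin 2) F => (g : Matrix (Fin 2) (Fin 2) F) 0 0) h
  simp [sw] at h1

theorem sw_conj (u v : Fˣ) : (sw : GL (Fin 2) F) * dg u v * sw⁻¹ = dg v u := by
  have : (sw : GL (Fin 2) F)⁻¹ = sw := inv_eq_of_mul_eq_one_left sw_mul_self
  rw [this]
  apply Units.ext
  ext i j; fin_cases i <;> fin_cases j <;> simp [sw, dg]


end mats

section wreathed
variable {F : Type*} [Field F] [Fintype F]

theorem conj_map_sup {G : Type*} [Group G] (z x y : G) (hx : z * x * z⁻¹ = y)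
    (hy : z * y * z⁻¹ = x) (k : G) (hk : k ∈ Subgroup.zpowers x ⊔ Subgroup.zpowers y) :
    z * k * z⁻¹ ∈ Subgroup.zpowers x ⊔ Subgroup.zpowers y := by
  have h1 : (Subgroup.zpowers x ⊔ Subgroup.zpowers y).map (MulAut.conj z).toMonoidHom =
      Subgroup.zpowers x ⊔ Subgroup.zpowers y := by
    rw [Subgroup.map_sup, MonoidHom.map_zpowers, MonoidHom.map_zpowers]
    simp only [MulEquiv.coe_toMonoidHom, MulAut.conj_apply, hx, hy]
    exact sup_comm _ _
  have h2 : (MulAut.conj z).toMonoidHom k ∈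
      (Subgroup.zpowers x ⊔ Subgroup.zpowers y).map (MulAut.conj z).toMonoidHom :=
    Subgroup.mem_map_of_mem _ hk
  rw [h1] at h2
  simpa [MulAut.conj_apply] using h2

theorem wreathed_case (P : Sylow 2 (GL (Fin 2) F)) (h : Fintype.card F % 4 = 1) :
    Cfsg.IsWreathed (P : Subgroup (GL (Fin 2) F)) := by
  classical
  set q := Fintype.card F with hq
  have hq1 : 1 < q := Fintype.one_lt_card
  obtain ⟨hv, hn2⟩ := v2_case1 q h hq1
  set n := padicValNat 2 (q - 1) with hn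
  -- element of order 2^n in Fˣ
  have hcard : Nat.card Fˣ = q - 1 := by
    rw [Nat.card_eq_fintype_card, Fintype.card_units]
  obtain ⟨a, ha⟩ := exists_orderOf_eq_of_dvd (G := Fˣ) (2 ^ n)
    (by rw [hcard]; exact pow_padicValNat_dvd)
  set x : GL (Fin 2) F := dgHom1 a with hx
  set y : GL (Fin 2) F := dgHom2 a with hy
  set z : GL (Fin 2) F := sw with hz
  have hox : orderOf x = 2 ^ n := by
    rw [hx, orderOf_injective dgHom1 dgHom1_inj, ha]
  have hoy : orderOf y = 2 ^ n := by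
    rw [hy, orderOf_injective dgHom2 dgHom2_inj, ha]
  have hxy : x * y = y * x := by
    simp only [hx, hy, dgHom1, dgHom2, MonoidHom.coe_mk, OneHom.coe_mk, dg_mul, mul_one, one_mul]
  have hzz : z * z = 1 := sw_mul_self
  have hzx : z * x * z⁻¹ = y := sw_conj a 1
  have hzy : z * y * z⁻¹ = x := sw_conj 1 a
  have hoz : orderOf z = 2 := orderOf_eq_prime (by rw [pow_two]; exact hzz) sw_ne_one
  have hdisj : Subgroup.zpowers x ⊓ Subgroup.zpowers y = ⊥ := by
    rw [eq_bot_iff]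
    intro g hg
    obtain ⟨⟨i, hi⟩, ⟨j, hj⟩⟩ := hg
    rw [Subgroup.mem_bot]
    have e : x ^ i = y ^ j := by
      change x ^ i = g at hi; change y ^ j = g at hj; rw [hi, hj]
    rw [hx, hy, ← map_zpow, ← map_zpow] at e
    have e2 := dg_inj _ _ _ _ e
    change x ^ i = g at hi
    rw [← hi, hx, ← map_zpow, e2.1]
    exact dg_one
  -- the 2-group generated
  have hD : IsPGroup 2 (Subgroup.zpowers x ⊔ Subgroup.zpowers y : Subgroup (GL (Fin 2) F)) := by
    apply IsPGroup.to_sup_of_normal_right' (isPGroup_zpowers x n hox) (isPGroup_zpowers y n hoy)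
    refine le_trans ?_ (Subgroup.centralizer_le_normalizer _)
    rw [Subgroup.zpowers_le]
    rw [Subgroup.mem_centralizer_iff]
    intro k hk
    obtain ⟨j, rfl⟩ := hk
    exact ((Commute.zpow_right (show Commute x y from hxy) j).eq).symm
  have hH : IsPGroup 2 (Subgroup.zpowers z ⊔ (Subgroup.zpowers x ⊔ Subgroup.zpowers y) :
      Subgroup (GL (Fin 2) F)) := by
    apply IsPGroup.to_sup_of_normal_right' (isPGroup_zpowers z 1 (by rw [hoz]; rfl)) hD
    rw [Subgroup.zpowers_le]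
    exact mem_normalizer_of_invol _ z hzz (conj_map_sup z x y hzx hzy)
  obtain ⟨g, hg⟩ := exists_conj_mem P _ hH
  have hxH : x ∈ (Subgroup.zpowers z ⊔ (Subgroup.zpowers x ⊔ Subgroup.zpowers y) :
      Subgroup (GL (Fin 2) F)) :=
    le_sup_right (a := Subgroup.zpowers z) (le_sup_left (a := Subgroup.zpowers x) (Subgroup.mem_zpowers x))
  have hyH : y ∈ (Subgroup.zpowers z ⊔ (Subgroup.zpowers x ⊔ Subgroup.zpowers y) :
      Subgroup (GL (Fin 2) F)) :=
    le_sup_right (a := Subgroup.zpowers z) (le_sup_right (a := Subgroup.zpowers x) (Subgroup.mem_zpowers y))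
  have hzH : z ∈ (Subgroup.zpowers z ⊔ (Subgroup.zpowers x ⊔ Subgroup.zpowers y) :
      Subgroup (GL (Fin 2) F)) :=
    le_sup_left (a := Subgroup.zpowers z) (Subgroup.mem_zpowers z)
  refine ⟨n, hn2, ?_, ⟨g * x * g⁻¹, hg x hxH⟩, ⟨g * y * g⁻¹, hg y hyH⟩, ⟨g * z * g⁻¹, hg z hzH⟩,
    ?_, ?_, ?_, ?_, ?_⟩
  · rw [Sylow.card_eq_multiplicity, Nat.factorization_def _ Nat.prime_two,
      Matrix.card_GL_field, Fin.prod_univ_two]
    simp only [Fin.val_zero, pow_zero, Fin.val_one, pow_one]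
    rw [← hq, hv]
  · rw [Subgroup.orderOf_mk, orderOf_conj', hox]
  · apply Subtype.ext
    simp only [Subgroup.coe_mul]
    calc g * x * g⁻¹ * (g * y * g⁻¹) = g * (x * y) * g⁻¹ := by group
      _ = g * (y * x) * g⁻¹ := by rw [hxy]
      _ = g * y * g⁻¹ * (g * x * g⁻¹) := by group
  · rw [eq_bot_iff]
    intro w hw
    obtain ⟨⟨i, hi⟩, ⟨j, hj⟩⟩ := hw
    rw [Subgroup.mem_bot]
    change (⟨g * x * g⁻¹, hg x hxH⟩ : ↥(P : Subgroup (GL (Fin 2) F))) ^ i = w at hi
    change (⟨g * y * g⁻¹, hg y hyH⟩ : ↥(P : Subgroup (GL (Fin 2) F))) ^ j = w at hj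
    have hi' := congrArg Subtype.val hi
    have hj' := congrArg Subtype.val hj
    simp only [Subgroup.coe_zpow] at hi' hj'
    have ci : (g * x * g⁻¹) ^ i = g * x ^ i * g⁻¹ := by
      have := map_zpow (MulAut.conj g).toMonoidHom x i
      simpa [MulAut.conj_apply] using this.symm
    have cj : (g * y * g⁻¹) ^ j = g * y ^ j * g⁻¹ := by
      have := map_zpow (MulAut.conj g).toMonoidHom y j
      simpa [MulAut.conj_apply] using this.symm
    have e : x ^ i = y ^ j := by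
      have : g * x ^ i * g⁻¹ = g * y ^ j * g⁻¹ := by rw [← ci, ← cj, hi', hj']
      simpa using this
    have hmem : x ^ i ∈ Subgroup.zpowers x ⊓ Subgroup.zpowers y :=
      ⟨⟨i, rfl⟩, ⟨j, e.symm⟩⟩
    rw [hdisj, Subgroup.mem_bot] at hmem
    apply Subtype.ext
    rw [← hi', ci, hmem]
    simp
  · rw [Subgroup.orderOf_mk, orderOf_conj', hoz]
  · apply Subtype.ext
    simp only [Subgroup.coe_mul, Subgroup.coe_inv]
    rw [← hzx]
    group

end wreathed

section quasi
variable {F : Type*} [Field F] [Fintype F]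

theorem modEq_of_v2 (q n : ℕ) (hn : 1 ≤ n) (hv : padicValNat 2 (q + 1) = n - 1) :
    q ≡ 2 ^ (n - 1) - 1 [MOD 2 ^ n] := by
  obtain ⟨k, hk, hqk⟩ := Cfsg.Agent.Lib.Helper99.two_adic_decomp (q + 1) (by omega)
  rw [hv] at hqk
  obtain ⟨j, rfl⟩ := hk
  have h2 : 2 ^ n = 2 ^ (n - 1) * 2 := by
    rw [← pow_succ]; congr 1; omega
  have hpos : 1 ≤ 2 ^ (n - 1) := Nat.one_le_two_pow
  have hq : q = 2 ^ n * j + (2 ^ (n - 1) - 1) := by
    have : q + 1 = 2 ^ n * j + 2 ^ (n - 1) := by rw [hqk, h2]; ring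
    omega
  rw [hq]
  unfold Nat.ModEq
  rw [Nat.mul_add_mod]

theorem quasi_case (P : Sylow 2 (GL (Fin 2) F)) (h : Fintype.card F % 4 = 3) :
    Cfsg.IsQuasiDihedral (P : Subgroup (GL (Fin 2) F)) := by
  classical
  set q := Fintype.card F with hq
  obtain ⟨hv, hn3, hvq⟩ := v2_case3 q h
  set n := padicValNat 2 (q ^ 2 - 1) with hn
  obtain ⟨p, hp⟩ := CharP.exists F
  haveI : Fact p.Prime := ⟨CharP.char_is_prime F p⟩
  let K := FiniteField.Extension F p 2
  haveI : Fintype K := Fintype.ofFinite K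
  have hKcard : Fintype.card K = q ^ 2 := by
    have := FiniteField.natCard_extension F p 2
    rw [Nat.card_eq_fintype_card, Nat.card_eq_fintype_card] at this
    exact this
  let b : Module.Basis (Fin 2) F K := Module.finBasisOfFinrankEq F K (FiniteField.finrank_extension F p 2)
  let L : K →ₐ[F] Matrix (Fin 2) (Fin 2) F := Algebra.leftMulMatrix b
  have hLinj : Function.Injective L := Algebra.leftMulMatrix_injective b
  let Lu : Kˣ →* GL (Fin 2) F := Units.map L.toMonoidHom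
  have hLuinj : Function.Injective Lu := Units.map_injective hLinj
  have hcardU : Nat.card Kˣ = q ^ 2 - 1 := by
    rw [Nat.card_eq_fintype_card, Fintype.card_units, hKcard]
  obtain ⟨ξ, hξ⟩ := exists_orderOf_eq_of_dvd (G := Kˣ) (2 ^ n)
    (by rw [hcardU]; exact pow_padicValNat_dvd)
  set x : GL (Fin 2) F := Lu ξ with hx
  have hox : orderOf x = 2 ^ n := by
    rw [hx, orderOf_injective Lu hLuinj, hξ]
  -- Frobenius
  let φ : K →ₐ[F] K := FiniteField.frobeniusAlgHom F K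
  have hφ : ∀ c : K, φ c = c ^ q := fun c => rfl
  let Y : Matrix (Fin 2) (Fin 2) F := LinearMap.toMatrix b b φ.toLinearMap
  have hφφ : φ.toLinearMap ∘ₗ φ.toLinearMap = LinearMap.id := by
    apply LinearMap.ext
    intro c
    simp only [LinearMap.comp_apply, AlgHom.toLinearMap_apply, LinearMap.id_apply, hφ]
    rw [← pow_mul, ← pow_two, ← hKcard, FiniteField.pow_card]
  have hYY : Y * Y = 1 := by
    rw [← LinearMap.toMatrix_comp b b b, hφφ, LinearMap.toMatrix_id]
  let y : GL (Fin 2) F := ⟨Y, Y, hYY, hYY⟩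
  have hyy : y * y = 1 := Units.ext hYY
  have hyi : y⁻¹ = y := inv_eq_of_mul_eq_one_left hyy
  have hrel : ∀ c : K, Y * L c = L (c ^ q) * Y := by
    intro c
    change Y * Algebra.leftMulMatrix b c = Algebra.leftMulMatrix b (c ^ q) * Y
    rw [Algebra.leftMulMatrix_apply, Algebra.leftMulMatrix_apply, ← LinearMap.toMatrix_comp b b b,
      ← LinearMap.toMatrix_comp b b b]
    congr 1
    apply LinearMap.ext
    intro d
    simp only [LinearMap.comp_apply, AlgHom.toLinearMap_apply, Algebra.lmul_algebraMap, hφ,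
      Algebra.coe_lmul_eq_mul, LinearMap.mul_apply']
    rw [mul_pow]
  have hyx : y * x * y⁻¹ = x ^ q := by
    rw [hyi]
    apply Units.ext
    have h1 : ((y * x * y : GL (Fin 2) F) : Matrix (Fin 2) (Fin 2) F) = Y * L (ξ : K) * Y := rfl
    have h2 : ((x ^ q : GL (Fin 2) F) : Matrix (Fin 2) (Fin 2) F) = L ((ξ : K) ^ q) := by
      rw [hx, ← map_pow]
      rfl
    rw [h1, h2, hrel, mul_assoc, hYY, mul_one]
  have hmod : q ≡ 2 ^ (n - 1) - 1 [MOD 2 ^ n] :=
    modEq_of_v2 q n (by omega) (by omega)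
  have hyx' : y * x * y⁻¹ = x ^ (2 ^ (n - 1) - 1) := by
    rw [hyx, pow_eq_pow_iff_modEq, hox]
    exact hmod
  have hy1 : y ≠ 1 := by
    intro h1
    rw [h1] at hyx
    have e : x ^ q = x ^ 1 := by rw [← hyx]; simp
    rw [pow_eq_pow_iff_modEq, hox] at e
    -- q ≡ 1 mod 2^n with n ≥ 3 contradicts q % 4 = 3
    have h4 : (2 : ℕ) ^ 2 ∣ 2 ^ n := pow_dvd_pow 2 (by omega)
    have := (Nat.ModEq.of_dvd h4 e)
    unfold Nat.ModEq at this
    norm_num at this
    omega
  have hoy : orderOf y = 2 := orderOf_eq_prime (by rw [pow_two]; exact hyy) hy1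
  have hH : IsPGroup 2 (Subgroup.zpowers y ⊔ Subgroup.zpowers x : Subgroup (GL (Fin 2) F)) := by
    apply IsPGroup.to_sup_of_normal_right' (isPGroup_zpowers y 1 (by rw [hoy]; rfl))
      (isPGroup_zpowers x n hox)
    rw [Subgroup.zpowers_le]
    apply mem_normalizer_of_invol _ y hyy
    intro k hk
    obtain ⟨i, rfl⟩ := hk
    have ci : y * x ^ i * y⁻¹ = (y * x * y⁻¹) ^ i := by
      have := map_zpow (MulAut.conj y).toMonoidHom x i
      simpa [MulAut.conj_apply] using this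
    change y * x ^ i * y⁻¹ ∈ Subgroup.zpowers x
    rw [ci, hyx]
    exact Subgroup.zpow_mem _ (Subgroup.pow_mem _ (Subgroup.mem_zpowers x) _) _
  obtain ⟨g, hg⟩ := exists_conj_mem P _ hH
  have hxH : x ∈ (Subgroup.zpowers y ⊔ Subgroup.zpowers x : Subgroup (GL (Fin 2) F)) :=
    le_sup_right (a := Subgroup.zpowers y) (Subgroup.mem_zpowers x)
  have hyH : y ∈ (Subgroup.zpowers y ⊔ Subgroup.zpowers x : Subgroup (GL (Fin 2) F)) :=
    le_sup_left (a := Subgroup.zpowers y) (Subgroup.mem_zpowers y)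
  refine ⟨n, hn3, ?_, ⟨g * x * g⁻¹, hg x hxH⟩, ⟨g * y * g⁻¹, hg y hyH⟩, ?_, ?_, ?_⟩
  · rw [Sylow.card_eq_multiplicity, Nat.factorization_def _ Nat.prime_two,
      Matrix.card_GL_field, Fin.prod_univ_two]
    simp only [Fin.val_zero, pow_zero, Fin.val_one, pow_one]
    rw [← hq, hv]
  · rw [Subgroup.orderOf_mk, orderOf_conj', hox]
  · rw [Subgroup.orderOf_mk, orderOf_conj', hoy]
  · apply Subtype.ext
    simp only [Subgroup.coe_mul, Subgroup.coe_inv, Subgroup.coe_pow]
    have cp : (g * x * g⁻¹) ^ (2 ^ (n - 1) - 1) = g * x ^ (2 ^ (n - 1) - 1) * g⁻¹ := by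
      have := map_pow (MulAut.conj g).toMonoidHom x (2 ^ (n - 1) - 1)
      simpa [MulAut.conj_apply] using this.symm
    rw [cp, ← hyx']
    group

end quasi

/-- Let F be a finite field with q elements, q odd, and P a Sylow 2-subgroup of GL(2,F). If q ≡ 3 (mod 4) then P is quasi-dihedral; if q ≡ 1 (mod 4) then P is wreathed. -/
theorem result {F : Type*} [Field F] [Fintype F] (P : Sylow 2 (GL (Fin 2) F)) : (Fintype.card F % 4 = 3 → Cfsg.IsQuasiDihedral (P : Subgroup (GL (Fin 2) F))) ∧ (Fintype.card F % 4 = 1 → Cfsg.IsWreathed (P : Subgroup (GL (Fin 2) F))) :=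
  ⟨quasi_case P, wreathed_case P⟩

end Cfsg.Agent.S1217
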