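import Mathlib
import Cfsg.Statements.S1218
import Cfsg.Agent.S0277
import Cfsg.Agent.Lib.Helper99.SylowTwoType
import Cfsg.Agent.Lib.Helper99.TwoAdic

set_option autoImplicit false
open scoped MatrixGroups
open Cfsg

namespace Cfsg.Agent.S1218

open Cfsg.Agent.Lib.Helper99 Cfsg.Agent.Lib.Helper19 Matrix

section arith

theorem v2_two_mul_odd (k : ℕ) (hk : Odd k) : padicValNat 2 (2 * k) = 1 := by
  have hk0 : k ≠ 0 := by rintro rfl; simp at hk
  rw [padicValNat.mul (by norm_num) hk0, padicValNat.self (by norm_num),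
    padicValNat.eq_zero_of_not_dvd (by rw [Nat.two_dvd_ne_zero]; exact Nat.odd_iff.mp hk)]

theorem v2_odd (k : ℕ) (hk : Odd k) : padicValNat 2 k = 0 :=
  padicValNat.eq_zero_of_not_dvd (by rw [Nat.two_dvd_ne_zero]; exact Nat.odd_iff.mp hk)

theorem sq_sub_one (q : ℕ) (hq : 1 ≤ q) : q ^ 2 - 1 = (q - 1) * (q + 1) := by
  obtain ⟨r, rfl⟩ : ∃ r, q = r + 1 := ⟨q - 1, by omega⟩
  have : (r + 1) ^ 2 = r * (r + 2) + 1 := by ring
  rw [this]; simp

/-- `q ≡ 3 mod 4`: the 2-part of `|GU₂(q)|`. -/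
theorem v2_case3 (q : ℕ) (h : q % 4 = 3) :
    padicValNat 2 (q * ((q + 1) * (q ^ 2 - 1))) = 2 * padicValNat 2 (q + 1) + 1 ∧
      2 ≤ padicValNat 2 (q + 1) := by
  have hodd : Odd q := Nat.odd_iff.mpr (by omega)
  have hq1 : q - 1 ≠ 0 := by omega
  have hm1 : padicValNat 2 (q - 1) = 1 := by
    have : q - 1 = 2 * ((q - 1) / 2) := by omega
    rw [this, v2_two_mul_odd _ (Nat.odd_iff.mpr (by omega))]
  constructor
  · rw [sq_sub_one q (by omega), padicValNat.mul (by omega) (by positivity),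
      padicValNat.mul (by omega) (Nat.mul_ne_zero hq1 (by omega)),
      padicValNat.mul hq1 (by omega), v2_odd q hodd, hm1]
    ring
  · have h4 : 2 ^ 2 ∣ q + 1 := by
      norm_num; omega
    exact (padicValNat_dvd_iff_le (by omega : q + 1 ≠ 0)).mp h4

/-- `q ≡ 1 mod 4`: the 2-part of `|GU₂(q)|`. -/
theorem v2_case1 (q : ℕ) (h : q % 4 = 1) (hq : 1 < q) :
    padicValNat 2 (q * ((q + 1) * (q ^ 2 - 1))) = padicValNat 2 (q - 1) + 1 + 1 ∧
      2 ≤ padicValNat 2 (q - 1) := by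
  have hodd : Odd q := Nat.odd_iff.mpr (by omega)
  have hq1 : q - 1 ≠ 0 := by omega
  have hp1 : padicValNat 2 (q + 1) = 1 := by
    have : q + 1 = 2 * ((q + 1) / 2) := by omega
    rw [this, v2_two_mul_odd _ (Nat.odd_iff.mpr (by omega))]
  constructor
  · rw [sq_sub_one q (by omega), padicValNat.mul (by omega) (by positivity),
      padicValNat.mul (by omega) (Nat.mul_ne_zero hq1 (by omega)),
      padicValNat.mul hq1 (by omega), v2_odd q hodd, hp1]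
    ring
  · have h4 : 2 ^ 2 ∣ q - 1 := by
      norm_num; omega
    exact (padicValNat_dvd_iff_le hq1).mp h4

end arith

section mats

variable {F : Type*} [Field F]

/-- diagonal element of GL₂ -/
def dg (u v : Fˣ) : GL (Fin 2) F :=
  ⟨!![(u : F), 0; 0, (v : F)], !![((u⁻¹ : Fˣ) : F), 0; 0, ((v⁻¹ : Fˣ) : F)],
    by ext i j; fin_cases i <;> fin_cases j <;> simp,
    by ext i j; fin_cases i <;> fin_cases j <;> simp⟩

theorem dg_mul (u v u' v' : Fˣ) : dg u v * dg u' v' = dg (u * u') (v * v') := by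
  apply Units.ext
  ext i j; fin_cases i <;> fin_cases j <;> simp [dg]

theorem dg_one : dg (1 : Fˣ) 1 = (1 : GL (Fin 2) F) := by
  apply Units.ext
  ext i j; fin_cases i <;> fin_cases j <;> simp [dg]

theorem dg_inj (u v u' v' : Fˣ) (h : dg u v = dg u' v') : u = u' ∧ v = v' := by
  have h1 := congrArg (fun g : GL (Fin 2) F => (g : Matrix (Fin 2) (Fin 2) F)) h
  simp only [dg] at h1
  have h00 := congrFun (congrFun h1 0) 0
  have h11 := congrFun (congrFun h1 1) 1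
  simp at h00 h11
  exact ⟨Units.ext h00, Units.ext h11⟩

def dgHom1 : Fˣ →* GL (Fin 2) F where
  toFun u := dg u 1
  map_one' := dg_one
  map_mul' a b := by rw [dg_mul, one_mul]

def dgHom2 : Fˣ →* GL (Fin 2) F where
  toFun u := dg 1 u
  map_one' := dg_one
  map_mul' a b := by rw [dg_mul, one_mul]

theorem dgHom1_inj : Function.Injective (dgHom1 (F := F)) := by
  intro a b h
  exact (dg_inj _ _ _ _ h).1

theorem dgHom2_inj : Function.Injective (dgHom2 (F := F)) := by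
  intro a b h
  exact (dg_inj _ _ _ _ h).2

/-- the twisted diagonal embedding `u ↦ diag(u, u^{-q})` -/
def dgHomq (q : ℕ) : Fˣ →* GL (Fin 2) F where
  toFun u := dg u (u ^ q)⁻¹
  map_one' := by simp [dg_one]
  map_mul' a b := by rw [dg_mul, mul_pow, mul_inv]

theorem dgHomq_inj (q : ℕ) : Function.Injective (dgHomq (F := F) q) := by
  intro a b h
  exact (dg_inj _ _ _ _ h).1

def sw : GL (Fin 2) F :=
  ⟨!![0, 1; 1, 0], !![0, 1; 1, 0],
    by ext i j; fin_cases i <;> fin_cases j <;> simp,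
    by ext i j; fin_cases i <;> fin_cases j <;> simp⟩

theorem sw_mul_self : (sw : GL (Fin 2) F) * sw = 1 := by
  apply Units.ext
  ext i j; fin_cases i <;> fin_cases j <;> simp [sw]

theorem sw_ne_one : (sw : GL (Fin 2) F) ≠ 1 := by
  intro h
  have h1 := congrArg (fun g : GL (Fin 2) F => (g : Matrix (Fin 2) (Fin 2) F) 0 0) h
  simp [sw] at h1

theorem sw_conj (u v : Fˣ) : (sw : GL (Fin 2) F) * dg u v * sw⁻¹ = dg v u := by
  have : (sw : GL (Fin 2) F)⁻¹ = sw := inv_eq_of_mul_eq_one_left sw_mul_self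
  rw [this]
  apply Units.ext
  ext i j; fin_cases i <;> fin_cases j <;> simp [sw, dg]

theorem herm2 (q : ℕ) (u v : Fin 2 → F) :
    Cfsg.hermForm 2 F q u v = u 0 * v 0 ^ q + u 1 * v 1 ^ q := by
  unfold Cfsg.hermForm
  rw [Fin.sum_univ_two]

theorem dg_mulVec (u v : Fˣ) (w : Fin 2 → F) :
    ((dg u v : GL (Fin 2) F) : Matrix (Fin 2) (Fin 2) F) *ᵥ w = ![(u : F) * w 0, (v : F) * w 1] := by
  ext i; fin_cases i <;> simp [dg, Matrix.mulVec, dotProduct, Fin.sum_univ_two]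

theorem sw_mulVec (w : Fin 2 → F) :
    ((sw : GL (Fin 2) F) : Matrix (Fin 2) (Fin 2) F) *ᵥ w = ![w 1, w 0] := by
  ext i; fin_cases i <;> simp [sw, Matrix.mulVec, dotProduct, Fin.sum_univ_two]

theorem dg_mem_GU (q : ℕ) (u v : Fˣ) (hu : (u : F) ^ (q + 1) = 1) (hv : (v : F) ^ (q + 1) = 1) :
    dg u v ∈ Cfsg.GU 2 F q := by
  rw [mem_GU_iff]
  intro x y
  rw [herm2, herm2, dg_mulVec, dg_mulVec]
  simp only [Matrix.cons_val_zero, Matrix.cons_val_one, mul_pow]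
  have h1 : (u : F) * (u : F) ^ q = 1 := by rw [← pow_succ']; exact hu
  have h2 : (v : F) * (v : F) ^ q = 1 := by rw [← pow_succ']; exact hv
  linear_combination (x 0 * y 0 ^ q) * h1 + (x 1 * y 1 ^ q) * h2

theorem sw_mem_GU (q : ℕ) : (sw : GL (Fin 2) F) ∈ Cfsg.GU 2 F q := by
  rw [mem_GU_iff]
  intro x y
  rw [herm2, herm2, sw_mulVec, sw_mulVec]
  simp only [Matrix.cons_val_zero, Matrix.cons_val_one]
  ring

end mats

section main
variable {F : Type*} [Field F] [Fintype F]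

theorem card_GU2 (q : ℕ) (hF : Fintype.card F = q ^ 2) :
    Nat.card (Cfsg.GU 2 F q) = q * ((q + 1) * (q ^ 2 - 1)) := by
  have := Cfsg.Agent.S0277.result hF 2
  rw [this]
  simp [Finset.prod_range_succ]

theorem card_units_F (q : ℕ) (hF : Fintype.card F = q ^ 2) : Nat.card Fˣ = q ^ 2 - 1 := by
  classical
  rw [Nat.card_eq_fintype_card, Fintype.card_units, hF]

theorem wreathed_case (q : ℕ) (hF : Fintype.card F = q ^ 2) (P : Sylow 2 ↥(Cfsg.GU 2 F q))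
    (h : q % 4 = 3) : Cfsg.IsWreathed (P : Subgroup ↥(Cfsg.GU 2 F q)) := by
  classical
  obtain ⟨hv, hn2⟩ := v2_case3 q h
  set n := padicValNat 2 (q + 1) with hn
  have hdvd : 2 ^ n ∣ q + 1 := pow_padicValNat_dvd
  obtain ⟨ζ, hζ⟩ := exists_orderOf_eq_of_dvd_card (G := Fˣ) (2 ^ n)
    (by rw [card_units_F q hF, sq_sub_one q (by omega)]; exact Dvd.dvd.mul_left hdvd _)
  have hζq : (ζ : F) ^ (q + 1) = 1 := by
    have : ζ ^ (q + 1) = 1 := orderOf_dvd_iff_pow_eq_one.mp (by rw [hζ]; exact hdvd)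
    rw [← Units.val_pow_eq_pow_val, this, Units.val_one]
  have h1q : ((1 : Fˣ) : F) ^ (q + 1) = 1 := by simp
  let x : ↥(Cfsg.GU 2 F q) := ⟨dgHom1 ζ, dg_mem_GU q ζ 1 hζq h1q⟩
  let y : ↥(Cfsg.GU 2 F q) := ⟨dgHom2 ζ, dg_mem_GU q 1 ζ h1q hζq⟩
  let z : ↥(Cfsg.GU 2 F q) := ⟨sw, sw_mem_GU q⟩
  have hpow : ∀ i : ℤ, ((x ^ i : ↥(Cfsg.GU 2 F q)) : GL (Fin 2) F) = dgHom1 (ζ ^ i) := by
    intro i
    rw [Subgroup.coe_zpow, map_zpow]
  have hpowy : ∀ i : ℤ, ((y ^ i : ↥(Cfsg.GU 2 F q)) : GL (Fin 2) F) = dgHom2 (ζ ^ i) := by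
    intro i
    rw [Subgroup.coe_zpow, map_zpow]
  apply isWreathed_sylow_of_elements P n hn2 ?_ x y z
  · rw [← Subgroup.orderOf_coe]
    change orderOf (dgHom1 ζ) = _
    rw [orderOf_injective dgHom1 dgHom1_inj, hζ]
  · apply Subtype.ext
    simp only [Subgroup.coe_mul, x, y, dgHom1, dgHom2, MonoidHom.coe_mk, OneHom.coe_mk, dg_mul,
      mul_one, one_mul]
  · rw [eq_bot_iff]
    intro g hg
    obtain ⟨⟨i, hi⟩, ⟨j, hj⟩⟩ := hg
    rw [Subgroup.mem_bot]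
    change x ^ i = g at hi
    change y ^ j = g at hj
    have e : dgHom1 (ζ ^ i) = dgHom2 (ζ ^ j) := by
      rw [← hpow, ← hpowy, hi, hj]
    have e2 := dg_inj _ _ _ _ e
    apply Subtype.ext
    rw [← hi, hpow, e2.1]
    exact dg_one
  · apply Subtype.ext
    exact sw_mul_self
  · intro hz
    exact sw_ne_one (congrArg Subtype.val hz)
  · apply Subtype.ext
    exact sw_conj ζ 1
  · rw [Nat.factorization_def _ Nat.prime_two, card_GU2 q hF, hv]

/-- change of basis to a hyperbolic pair -/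
noncomputable def Bm (ω : F) (h : (-ω - ω : F) ≠ 0) : GL (Fin 2) F :=
  Matrix.GeneralLinearGroup.mkOfDetNeZero !![1, 1; ω, -ω]
    (by rw [Matrix.det_fin_two_of]; simpa using h)

omit [Fintype F] in
theorem Bm_mulVec (ω : F) (h : (-ω - ω : F) ≠ 0) (w : Fin 2 → F) :
    ((Bm ω h : GL (Fin 2) F) : Matrix (Fin 2) (Fin 2) F) *ᵥ w =
      ![w 0 + w 1, ω * w 0 + (-ω) * w 1] := by
  ext i; fin_cases i <;> simp [Bm, Matrix.mulVec, dotProduct, Fin.sum_univ_two]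

theorem herm_Bm (q : ℕ) (hF : Fintype.card F = q ^ 2) (hq : Odd q) (ω : F)
    (hω : ω ^ (q + 1) = -1) (h : (-ω - ω : F) ≠ 0) (u v : Fin 2 → F) :
    Cfsg.hermForm 2 F q (((Bm ω h : GL (Fin 2) F) : Matrix (Fin 2) (Fin 2) F) *ᵥ u)
      (((Bm ω h : GL (Fin 2) F) : Matrix (Fin 2) (Fin 2) F) *ᵥ v) =
      2 * (u 0 * v 1 ^ q + u 1 * v 0 ^ q) := by
  rw [herm2, Bm_mulVec, Bm_mulVec]
  simp only [Matrix.cons_val_zero, Matrix.cons_val_one]
  rw [add_pow_q hF, add_pow_q hF, mul_pow, mul_pow, hq.neg_pow]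
  have hω' : ω * ω ^ q = -1 := by rw [← pow_succ']; exact hω
  linear_combination (u 0 * v 0 ^ q - u 0 * v 1 ^ q - u 1 * v 0 ^ q + u 1 * v 1 ^ q) * hω'

omit [Fintype F] in
theorem conj_mem_GU (q : ℕ) (B D : GL (Fin 2) F) (h' : (Fin 2 → F) → (Fin 2 → F) → F)
    (hB : ∀ u v, Cfsg.hermForm 2 F q ((B : Matrix (Fin 2) (Fin 2) F) *ᵥ u)
      ((B : Matrix (Fin 2) (Fin 2) F) *ᵥ v) = h' u v)
    (hD : ∀ u v, h' ((D : Matrix (Fin 2) (Fin 2) F) *ᵥ u) ((D : Matrix (Fin 2) (Fin 2) F) *ᵥ v) =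
      h' u v) :
    B * D * B⁻¹ ∈ Cfsg.GU 2 F q := by
  rw [mem_GU_iff]
  intro u v
  have e : ∀ w : Fin 2 → F, ((B * D * B⁻¹ : GL (Fin 2) F) : Matrix (Fin 2) (Fin 2) F) *ᵥ w =
      (B : Matrix (Fin 2) (Fin 2) F) *ᵥ ((D : Matrix (Fin 2) (Fin 2) F) *ᵥ
        (((B⁻¹ : GL (Fin 2) F) : Matrix (Fin 2) (Fin 2) F) *ᵥ w)) := by
    intro w
    rw [Matrix.mulVec_mulVec, Matrix.mulVec_mulVec, ← Units.val_mul, ← Units.val_mul, mul_assoc]
  have e2 : ∀ w : Fin 2 → F, (B : Matrix (Fin 2) (Fin 2) F) *ᵥ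
      (((B⁻¹ : GL (Fin 2) F) : Matrix (Fin 2) (Fin 2) F) *ᵥ w) = w := by
    intro w
    rw [Matrix.mulVec_mulVec, ← Units.val_mul, mul_inv_cancel, Units.val_one, Matrix.one_mulVec]
  rw [e, e, hB, hD, ← hB, e2, e2]

theorem exists_omega (q : ℕ) (hF : Fintype.card F = q ^ 2) (hq : Odd q) :
    ∃ ω : F, ω ^ (q + 1) = -1 := by
  classical
  obtain ⟨g, hg⟩ := IsCyclic.exists_generator (α := Fˣ)
  have hodd : Odd (Fintype.card F) := by rw [hF]; exact hq.pow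
  have h1 := generator_pow_half hodd g hg
  refine ⟨((g ^ ((q - 1) / 2) : Fˣ) : F), ?_⟩
  rw [← Units.val_pow_eq_pow_val, ← pow_mul, ← h1, hF]
  congr 2
  have hq1 : 1 ≤ q := by
    rcases hq with ⟨r, rfl⟩; omega
  rw [sq_sub_one q hq1]
  obtain ⟨t, ht⟩ : ∃ t, q - 1 = 2 * t := by
    rcases hq with ⟨r, rfl⟩; exact ⟨r, by omega⟩
  rw [ht, Nat.mul_div_cancel_left _ (by norm_num : 0 < 2), mul_assoc,
    Nat.mul_div_cancel_left _ (by norm_num : 0 < 2)]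

theorem quasi_case (q : ℕ) (hF : Fintype.card F = q ^ 2) (hq : Odd q)
    (P : Sylow 2 ↥(Cfsg.GU 2 F q)) (h : q % 4 = 1) :
    Cfsg.IsQuasiDihedral (P : Subgroup ↥(Cfsg.GU 2 F q)) := by
  classical
  have hq1 : 1 < q := one_lt_q hF
  obtain ⟨hv, ha2⟩ := v2_case1 q h hq1
  set a := padicValNat 2 (q - 1) with ha
  obtain ⟨m, hm, hqm⟩ := two_adic_decomp (q - 1) (by omega)
  rw [← ha] at hqm
  obtain ⟨c, hc⟩ : ∃ c, m + 1 = 2 * c := by
    rcases hm with ⟨r, rfl⟩; exact ⟨r + 1, by ring⟩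
  have hdvd : 2 ^ (a + 1) ∣ q ^ 2 - 1 := by
    rw [sq_sub_one q (by omega), hqm, pow_succ]
    obtain ⟨d, hd⟩ : 2 ∣ q + 1 := by omega
    rw [hd]; exact ⟨m * d, by ring⟩
  obtain ⟨l, hl⟩ := exists_orderOf_eq_of_dvd_card (G := Fˣ) (2 ^ (a + 1))
    (by rw [card_units_F q hF]; exact hdvd)
  obtain ⟨ω, hω⟩ := exists_omega q hF hq
  have hodd : Odd (Fintype.card F) := by rw [hF]; exact hq.pow
  have h2 : (2 : F) ≠ 0 := by
    intro h0
    apply neg_one_ne_one_of_odd_card hodd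
    linear_combination -h0
  have hω0 : ω ≠ 0 := by
    rintro rfl
    rw [zero_pow (by omega)] at hω
    exact one_ne_zero (neg_eq_zero.mp hω.symm)
  have hdet : (-ω - ω : F) ≠ 0 := by
    have : -ω - ω = -(2 * ω) := by ring
    rw [this]; exact neg_ne_zero.mpr (mul_ne_zero h2 hω0)
  set B := Bm ω hdet with hB
  -- relations on l
  have hlqq : l ^ (q * q) = l := by
    apply Units.ext
    rw [Units.val_pow_eq_pow_val, ← pow_two, ← hF, FiniteField.pow_card]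
  set μ : Fˣ := (l ^ q)⁻¹ with hμ
  have hμl : μ * l ^ q = 1 := inv_mul_cancel _
  have hlμ : l * μ ^ q = 1 := by
    rw [hμ, inv_pow, ← pow_mul, hlqq, mul_inv_cancel]
  have hμl' : (μ : F) * (l : F) ^ q = 1 := by
    rw [← Units.val_pow_eq_pow_val, ← Units.val_mul, hμl, Units.val_one]
  have hlμ' : (l : F) * (μ : F) ^ q = 1 := by
    rw [← Units.val_pow_eq_pow_val, ← Units.val_mul, hlμ, Units.val_one]
  have hk : l ^ (2 ^ a - 1) = μ := by
    have hpos : 1 ≤ 2 ^ a := Nat.one_le_two_pow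
    have e : l ^ (2 ^ a - 1 + q) = 1 := by
      apply orderOf_dvd_iff_pow_eq_one.mp
      rw [hl]
      have : 2 ^ a - 1 + q = 2 ^ (a + 1) * c := by
        have : 2 ^ a - 1 + q = 2 ^ a + (q - 1) := by omega
        rw [this, hqm, pow_succ]
        calc 2 ^ a + 2 ^ a * m = 2 ^ a * (m + 1) := by ring
          _ = 2 ^ a * 2 * c := by rw [hc]; ring
      rw [this]; exact dvd_mul_right _ _
    rw [pow_add] at e
    rw [hμ]
    exact eq_inv_of_mul_eq_one_left e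
  have hk2 : ((l ^ (2 ^ a - 1)) ^ q)⁻¹ = l := by
    rw [hk, hμ, inv_pow, inv_inv, ← pow_mul, hlqq]
  let h' : (Fin 2 → F) → (Fin 2 → F) → F := fun u v => 2 * (u 0 * v 1 ^ q + u 1 * v 0 ^ q)
  have hBh : ∀ u v, Cfsg.hermForm 2 F q ((B : Matrix (Fin 2) (Fin 2) F) *ᵥ u)
      ((B : Matrix (Fin 2) (Fin 2) F) *ᵥ v) = h' u v := fun u v => herm_Bm q hF hq ω hω hdet u v
  have hxmem : B * dgHomq q l * B⁻¹ ∈ Cfsg.GU 2 F q := by
    apply conj_mem_GU q B _ h' hBh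
    intro u v
    change 2 * _ = 2 * _
    change 2 * ((((dg l μ : GL (Fin 2) F) : Matrix (Fin 2) (Fin 2) F) *ᵥ u) 0 *
      (((dg l μ : GL (Fin 2) F) : Matrix (Fin 2) (Fin 2) F) *ᵥ v) 1 ^ q +
      (((dg l μ : GL (Fin 2) F) : Matrix (Fin 2) (Fin 2) F) *ᵥ u) 1 *
      (((dg l μ : GL (Fin 2) F) : Matrix (Fin 2) (Fin 2) F) *ᵥ v) 0 ^ q) = _
    rw [dg_mulVec, dg_mulVec]
    simp only [Matrix.cons_val_zero, Matrix.cons_val_one, mul_pow]
    linear_combination (2 * u 0 * v 1 ^ q) * hlμ' + (2 * u 1 * v 0 ^ q) * hμl'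
  have hymem : B * sw * B⁻¹ ∈ Cfsg.GU 2 F q := by
    apply conj_mem_GU q B _ h' hBh
    intro u v
    change 2 * _ = 2 * _
    rw [sw_mulVec, sw_mulVec]
    simp only [Matrix.cons_val_zero, Matrix.cons_val_one]
    ring
  let x : ↥(Cfsg.GU 2 F q) := ⟨B * dgHomq q l * B⁻¹, hxmem⟩
  let y : ↥(Cfsg.GU 2 F q) := ⟨B * sw * B⁻¹, hymem⟩
  apply isQuasiDihedral_sylow_of_elements P (a + 1) (by omega) ?_ x y
  · rw [← Subgroup.orderOf_coe]
    change orderOf (B * dgHomq q l * B⁻¹) = _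
    rw [orderOf_conj_eq, orderOf_injective (dgHomq q) (dgHomq_inj q), hl]
  · apply Subtype.ext
    change B * sw * B⁻¹ * (B * sw * B⁻¹) = 1
    calc B * sw * B⁻¹ * (B * sw * B⁻¹) = B * (sw * sw) * B⁻¹ := by group
      _ = 1 := by rw [sw_mul_self]; group
  · intro hy
    have : B * sw * B⁻¹ = 1 := congrArg Subtype.val hy
    rw [conj_eq_one_iff] at this
    exact sw_ne_one this
  · apply Subtype.ext
    rw [Nat.add_sub_cancel]
    change B * sw * B⁻¹ * (B * dgHomq q l * B⁻¹) * (B * sw * B⁻¹)⁻¹ =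
      (B * dgHomq q l * B⁻¹) ^ (2 ^ a - 1)
    rw [conj_pow, ← map_pow]
    have e1 : B * sw * B⁻¹ * (B * dgHomq q l * B⁻¹) * (B * sw * B⁻¹)⁻¹ =
        B * (sw * dgHomq q l * sw⁻¹) * B⁻¹ := by group
    rw [e1]
    congr 2
    change sw * dg l (l ^ q)⁻¹ * sw⁻¹ = dg (l ^ (2 ^ a - 1)) ((l ^ (2 ^ a - 1)) ^ q)⁻¹
    rw [sw_conj, hk2, hk]
  · rw [Nat.factorization_def _ Nat.prime_two, card_GU2 q hF, hv]

end main

/-- Let F be a finite field with q² elements, q odd, let GU be the subgroup of GL(2,F) preserving the Hermitian form u₁v₁^q + u₂v₂^q, and P a Sylow 2-subgroup of GU. If q ≡ 1 (mod 4) then P is quasi-dihedral; if q ≡ 3 (mod 4) then P is wreathed. -/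
theorem result {F : Type*} [Field F] [Fintype F] (q : ℕ) (hF : Fintype.card F = q ^ 2) (hq : Odd q) (P : Sylow 2 ↥(Cfsg.preserving (Units.coeHom (Matrix (Fin 2) (Fin 2) F)) (Cfsg.hermForm 2 F q))) : (q % 4 = 1 → Cfsg.IsQuasiDihedral (P : Subgroup ↥(Cfsg.preserving (Units.coeHom (Matrix (Fin 2) (Fin 2) F)) (Cfsg.hermForm 2 F q)))) ∧ (q % 4 = 3 → Cfsg.IsWreathed (P : Subgroup ↥(Cfsg.preserving (Units.coeHom (Matrix (Fin 2) (Fin 2) F)) (Cfsg.hermForm 2 F q)))) :=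
  ⟨quasi_case q hF hq P, wreathed_case q hF P⟩

end Cfsg.Agent.S1218
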