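import Mathlib
import Cfsg.Statements.S1219
import Cfsg.Agent.Lib.Helper99.TwoAdic

set_option autoImplicit false
open scoped MatrixGroups
open Cfsg Matrix

namespace Cfsg.Agent.S1219

section generic
variable {G : Type*} [Group G]

/-- centralizers of conjugate elements are isomorphic -/
def centralizerConjEquiv (g a : G) :
    ↥(Subgroup.centralizer ({g * a * g⁻¹} : Set G)) ≃* ↥(Subgroup.centralizer ({a} : Set G)) where
  toFun x := ⟨g⁻¹ * x.1 * g, by
    have hx := Subgroup.mem_centralizer_singleton_iff.mp x.2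
    rw [Subgroup.mem_centralizer_singleton_iff]
    calc g⁻¹ * x.1 * g * a = g⁻¹ * (x.1 * (g * a * g⁻¹)) * g := by group
      _ = g⁻¹ * ((g * a * g⁻¹) * x.1) * g := by rw [hx]
      _ = a * (g⁻¹ * x.1 * g) := by group⟩
  invFun y := ⟨g * y.1 * g⁻¹, by
    have hy := Subgroup.mem_centralizer_singleton_iff.mp y.2
    rw [Subgroup.mem_centralizer_singleton_iff]
    calc g * y.1 * g⁻¹ * (g * a * g⁻¹) = g * (y.1 * a) * g⁻¹ := by group
      _ = g * (a * y.1) * g⁻¹ := by rw [hy]
      _ = g * a * g⁻¹ * (g * y.1 * g⁻¹) := by group⟩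
  left_inv x := by
    apply Subtype.ext
    simp only
    group
  right_inv y := by
    apply Subtype.ext
    simp only
    group
  map_mul' x y := by
    apply Subtype.ext
    simp only [Subgroup.coe_mul]
    group

end generic

section emb
variable {F : Type*} [Field F]

/-- block diagonal `diag(a, Y)` as a 3×3 matrix -/
def embMat (Y : Matrix (Fin 2) (Fin 2) F) (a : F) : Matrix (Fin 3) (Fin 3) F :=
  !![a, 0, 0; 0, Y 0 0, Y 0 1; 0, Y 1 0, Y 1 1]

theorem embMat_det (Y : Matrix (Fin 2) (Fin 2) F) (a : F) : (embMat Y a).det = a * Y.det := by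
  rw [Matrix.det_fin_three, Matrix.det_fin_two]
  simp [embMat]
  ring

theorem embMat_mul (Y Y' : Matrix (Fin 2) (Fin 2) F) (a a' : F) :
    embMat Y a * embMat Y' a' = embMat (Y * Y') (a * a') := by
  ext i j
  fin_cases i <;> fin_cases j <;>
    simp [embMat, Matrix.mul_apply, Fin.sum_univ_three, Fin.sum_univ_two]

theorem embMat_one : embMat (1 : Matrix (Fin 2) (Fin 2) F) 1 = 1 := by
  ext i j
  fin_cases i <;> fin_cases j <;> simp [embMat]

/-- the embedding `Y ↦ diag(det Y⁻¹, Y)` of `GL₂` into `SL₃` -/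
def emb : GL (Fin 2) F →* SL(3, F) where
  toFun Y := ⟨embMat (Y : Matrix (Fin 2) (Fin 2) F)
      (((Matrix.GeneralLinearGroup.det Y)⁻¹ : Fˣ) : F), by
    rw [embMat_det, ← Matrix.GeneralLinearGroup.val_det_apply, ← Units.val_mul, inv_mul_cancel,
      Units.val_one]⟩
  map_one' := by
    apply Subtype.ext
    simp [embMat_one]
  map_mul' Y Y' := by
    apply Subtype.ext
    change embMat ((Y * Y' : GL (Fin 2) F) : Matrix (Fin 2) (Fin 2) F)
      (((Matrix.GeneralLinearGroup.det (Y * Y'))⁻¹ : Fˣ) : F) =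
      embMat (Y : Matrix (Fin 2) (Fin 2) F) (((Matrix.GeneralLinearGroup.det Y)⁻¹ : Fˣ) : F) *
      embMat (Y' : Matrix (Fin 2) (Fin 2) F) (((Matrix.GeneralLinearGroup.det Y')⁻¹ : Fˣ) : F)
    rw [embMat_mul, map_mul, mul_inv, Units.val_mul, Units.val_mul]

theorem emb_val (Y : GL (Fin 2) F) : ((emb Y : SL(3, F)) : Matrix (Fin 3) (Fin 3) F) =
    embMat (Y : Matrix (Fin 2) (Fin 2) F) (((Matrix.GeneralLinearGroup.det Y)⁻¹ : Fˣ) : F) := rfl

/-- the matrix `diag(1, -1, -1)` -/
def Dm : Matrix (Fin 3) (Fin 3) F := !![1, 0, 0; 0, -1, 0; 0, 0, -1]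

theorem Dm_det : (Dm : Matrix (Fin 3) (Fin 3) F).det = 1 := by
  rw [Matrix.det_fin_three]
  simp [Dm]

def D : SL(3, F) := ⟨Dm, Dm_det⟩

theorem emb_comm_D (Y : GL (Fin 2) F) : emb Y * D = D * emb Y := by
  apply Subtype.ext
  rw [Matrix.SpecialLinearGroup.coe_mul, Matrix.SpecialLinearGroup.coe_mul, emb_val]
  ext i j
  fin_cases i <;> fin_cases j <;>
    simp [embMat, D, Dm, Matrix.mul_apply, Fin.sum_univ_three]

end emb

section cent
variable {F : Type*} [Field F]

theorem exists_emb_of_comm (h2 : (2 : F) ≠ 0) (X : SL(3, F))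
    (h : (QuotientGroup.mk X : PSL(3, F)) * QuotientGroup.mk D =
      QuotientGroup.mk D * QuotientGroup.mk X) :
    ∃ Y : GL (Fin 2) F, emb Y = X := by
  rw [← QuotientGroup.mk_mul, ← QuotientGroup.mk_mul, QuotientGroup.eq] at h
  obtain ⟨z, hz, hzdef⟩ : ∃ z : SL(3, F), z ∈ Subgroup.center (SL(3, F)) ∧ D * X = X * D * z :=
    ⟨_, h, by group⟩
  obtain ⟨r, hr, hrz⟩ := Matrix.SpecialLinearGroup.mem_center_iff.mp hz
  have hmat : Dm * (X : Matrix (Fin 3) (Fin 3) F) = r • ((X : Matrix (Fin 3) (Fin 3) F) * Dm) := by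
    have e2 := congrArg (fun A : SL(3, F) => (A : Matrix (Fin 3) (Fin 3) F)) hzdef
    simp only [Matrix.SpecialLinearGroup.coe_mul] at e2
    rw [← hrz, Matrix.scalar_apply, ← Matrix.smul_one_eq_diagonal, Matrix.mul_smul, mul_one] at e2
    exact e2
  have hdet : (X : Matrix (Fin 3) (Fin 3) F).det = 1 := X.2
  rw [Matrix.det_fin_three] at hdet
  have e00 := congrFun (congrFun hmat 0) 0
  have e01 := congrFun (congrFun hmat 0) 1
  have e02 := congrFun (congrFun hmat 0) 2
  have e10 := congrFun (congrFun hmat 1) 0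
  have e11 := congrFun (congrFun hmat 1) 1
  have e12 := congrFun (congrFun hmat 1) 2
  have e20 := congrFun (congrFun hmat 2) 0
  have e21 := congrFun (congrFun hmat 2) 1
  have e22 := congrFun (congrFun hmat 2) 2
  simp [Dm, Matrix.mul_apply, Fin.sum_univ_three] at e00 e01 e02 e10 e11 e12 e20 e21 e22
  have hr1 : r = 1 := by
    by_contra hne
    have hne' : (1 - r) ≠ 0 := sub_ne_zero.mpr (Ne.symm hne)
    have z00 : (X : Matrix (Fin 3) (Fin 3) F) 0 0 = 0 := by
      have : (X : Matrix (Fin 3) (Fin 3) F) 0 0 * (1 - r) = 0 := by linear_combination e00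
      exact (mul_eq_zero.mp this).resolve_right hne'
    have z11 : (X : Matrix (Fin 3) (Fin 3) F) 1 1 = 0 := by
      have : (X : Matrix (Fin 3) (Fin 3) F) 1 1 * (1 - r) = 0 := by linear_combination e11
      exact (mul_eq_zero.mp this).resolve_right hne'
    have z12 : (X : Matrix (Fin 3) (Fin 3) F) 1 2 = 0 := by
      have : (X : Matrix (Fin 3) (Fin 3) F) 1 2 * (1 - r) = 0 := by linear_combination e12
      exact (mul_eq_zero.mp this).resolve_right hne'
    have z21 : (X : Matrix (Fin 3) (Fin 3) F) 2 1 = 0 := by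
      have : (X : Matrix (Fin 3) (Fin 3) F) 2 1 * (1 - r) = 0 := by linear_combination e21
      exact (mul_eq_zero.mp this).resolve_right hne'
    have z22 : (X : Matrix (Fin 3) (Fin 3) F) 2 2 = 0 := by
      have : (X : Matrix (Fin 3) (Fin 3) F) 2 2 * (1 - r) = 0 := by linear_combination e22
      exact (mul_eq_zero.mp this).resolve_right hne'
    rw [z00, z11, z12, z21, z22] at hdet
    simp at hdet
  subst hr1
  have z01 : (X : Matrix (Fin 3) (Fin 3) F) 0 1 = 0 := by
    have : (2 : F) * (X : Matrix (Fin 3) (Fin 3) F) 0 1 = 0 := by linear_combination e01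
    exact (mul_eq_zero.mp this).resolve_left h2
  have z02 : (X : Matrix (Fin 3) (Fin 3) F) 0 2 = 0 := by
    have : (2 : F) * (X : Matrix (Fin 3) (Fin 3) F) 0 2 = 0 := by linear_combination e02
    exact (mul_eq_zero.mp this).resolve_left h2
  have z10 : (X : Matrix (Fin 3) (Fin 3) F) 1 0 = 0 := by
    have : (2 : F) * (X : Matrix (Fin 3) (Fin 3) F) 1 0 = 0 := by linear_combination -e10
    exact (mul_eq_zero.mp this).resolve_left h2
  have z20 : (X : Matrix (Fin 3) (Fin 3) F) 2 0 = 0 := by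
    have : (2 : F) * (X : Matrix (Fin 3) (Fin 3) F) 2 0 = 0 := by linear_combination -e20
    exact (mul_eq_zero.mp this).resolve_left h2
  rw [z01, z02, z10, z20] at hdet
  set Y : Matrix (Fin 2) (Fin 2) F := !![(X : Matrix (Fin 3) (Fin 3) F) 1 1,
    (X : Matrix (Fin 3) (Fin 3) F) 1 2; (X : Matrix (Fin 3) (Fin 3) F) 2 1,
    (X : Matrix (Fin 3) (Fin 3) F) 2 2] with hY
  have hdY : (X : Matrix (Fin 3) (Fin 3) F) 0 0 * Y.det = 1 := by
    rw [Matrix.det_fin_two, hY]
    simp only [Matrix.of_apply, Matrix.cons_val', Matrix.cons_val_zero, Matrix.cons_val_one,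
      Matrix.cons_val_fin_one]
    linear_combination hdet
  have hY0 : Y.det ≠ 0 := by
    intro h0
    rw [h0, mul_zero] at hdY
    exact zero_ne_one hdY
  refine ⟨Matrix.GeneralLinearGroup.mkOfDetNeZero Y hY0, ?_⟩
  apply Subtype.ext
  rw [emb_val]
  have hval : ((Matrix.GeneralLinearGroup.mkOfDetNeZero Y hY0 : GL (Fin 2) F) :
      Matrix (Fin 2) (Fin 2) F) = Y := rfl
  have hdv : (((Matrix.GeneralLinearGroup.det (Matrix.GeneralLinearGroup.mkOfDetNeZero Y hY0))⁻¹ :
      Fˣ) : F) = (X : Matrix (Fin 3) (Fin 3) F) 0 0 := by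
    rw [Units.val_inv_eq_inv_val, Matrix.GeneralLinearGroup.val_det_apply, hval]
    exact (eq_inv_of_mul_eq_one_left hdY).symm
  rw [hval, hdv]
  ext i j
  fin_cases i <;> fin_cases j <;> simp [embMat, hY, z01, z02, z10, z20]

end cent

section diag
variable {F : Type*} [Field F]

theorem det_involution {V : Type*} [AddCommGroup V] [Module F V] [FiniteDimensional F V]
    (f : V →ₗ[F] V) (Vp Vm : Submodule F V) (hc : IsCompl Vp Vm)
    (hp : ∀ v ∈ Vp, f v = v) (hm : ∀ v ∈ Vm, f v = -v) :
    LinearMap.det f = (-1) ^ (Module.finrank F Vm) := by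
  classical
  let bp := Module.finBasis F Vp
  let bm := Module.finBasis F Vm
  let b := (bp.prod bm).map (Submodule.prodEquivOfIsCompl Vp Vm hc)
  have hbl : ∀ i, b (Sum.inl i) = (bp i : V) := by
    intro i
    simp [b, Module.Basis.map_apply, Module.Basis.prod_apply, Submodule.coe_prodEquivOfIsCompl']
  have hbr : ∀ j, b (Sum.inr j) = (bm j : V) := by
    intro j
    simp [b, Module.Basis.map_apply, Module.Basis.prod_apply, Submodule.coe_prodEquivOfIsCompl']
  have hmat : LinearMap.toMatrix b b f =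
      Matrix.diagonal (Sum.elim (fun _ => (1 : F)) (fun _ => (-1 : F))) := by
    ext i j
    rw [LinearMap.toMatrix_apply, Matrix.diagonal_apply]
    rcases j with j | j
    · rw [hbl, hp _ (bp j).2, ← hbl, Module.Basis.repr_self, Finsupp.single_apply]
      by_cases h : i = Sum.inl j
      · subst h; simp
      · rw [if_neg h, if_neg (Ne.symm h)]
    · rw [hbr, hm _ (bm j).2, ← hbr, map_neg, Module.Basis.repr_self, Finsupp.neg_apply,
        Finsupp.single_apply]
      by_cases h : i = Sum.inr j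
      · subst h; simp
      · rw [if_neg h, if_neg (Ne.symm h), neg_zero]
  rw [← LinearMap.det_toMatrix b, hmat, Matrix.det_diagonal, Fintype.prod_sum_type]
  simp

/-- explicit equivalence `Fin 1 ⊕ Fin 2 ≃ Fin 3` -/
def e3 : Fin 1 ⊕ Fin 2 ≃ Fin 3 where
  toFun := Sum.elim (fun _ => 0) (fun j => j.succ)
  invFun := fun i => match i with
    | 0 => Sum.inl 0
    | 1 => Sum.inr 0
    | 2 => Sum.inr 1
  left_inv := by
    rintro (i | j)
    · fin_cases i; rfl
    · fin_cases j <;> rfl
  right_inv := by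
    intro i
    fin_cases i <;> rfl

theorem exists_conj_Dm (h2 : (2 : F) ≠ 0) (M : Matrix (Fin 3) (Fin 3) F) (hMM : M * M = 1)
    (hM1 : M ≠ 1) (hdet : M.det = 1) :
    ∃ P : Matrix (Fin 3) (Fin 3) F, P.det = 1 ∧ M * P = P * Dm := by
  classical
  set f : (Fin 3 → F) →ₗ[F] (Fin 3 → F) := Matrix.toLin' M with hf
  have hff : ∀ v, f (f v) = v := by
    intro v
    rw [hf, Matrix.toLin'_apply, Matrix.toLin'_apply, Matrix.mulVec_mulVec, hMM, Matrix.one_mulVec]
  set Vp : Submodule F (Fin 3 → F) := LinearMap.ker (f - 1) with hVp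
  set Vm : Submodule F (Fin 3 → F) := LinearMap.ker (f + 1) with hVm
  have memp : ∀ v, v ∈ Vp ↔ f v = v := by
    intro v
    rw [hVp, LinearMap.mem_ker, LinearMap.sub_apply, Module.End.one_apply, sub_eq_zero]
  have memm : ∀ v, v ∈ Vm ↔ f v = -v := by
    intro v
    rw [hVm, LinearMap.mem_ker, LinearMap.add_apply, Module.End.one_apply, add_eq_zero_iff_eq_neg]
  have hcompl : IsCompl Vp Vm := by
    constructor
    · rw [Submodule.disjoint_def]
      intro v hp hm
      rw [memp] at hp
      rw [memm] at hm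
      have : (2 : F) • v = 0 := by
        rw [two_smul]
        nth_rewrite 1 [← hp]
        rw [hm]
        simp
      exact (smul_eq_zero.mp this).resolve_left h2
    · rw [codisjoint_iff, eq_top_iff]
      intro v _
      rw [Submodule.mem_sup]
      refine ⟨(2 : F)⁻¹ • (v + f v), ?_, (2 : F)⁻¹ • (v - f v), ?_, ?_⟩
      · rw [memp, map_smul, map_add, hff, add_comm]
      · rw [memm, map_smul, map_sub, hff, ← smul_neg, neg_sub]
      · rw [← smul_add]
        have : v + f v + (v - f v) = (2 : F) • v := by rw [two_smul]; abel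
        rw [this, smul_smul, inv_mul_cancel₀ h2, one_smul]
  have hdetf : LinearMap.det f = (-1) ^ (Module.finrank F Vm) :=
    det_involution f Vp Vm hcompl (fun v hv => (memp v).mp hv) (fun v hv => (memm v).mp hv)
  rw [hf, LinearMap.det_toLin', hdet] at hdetf
  have hneg : (-1 : F) ≠ 1 := by
    intro h
    apply h2
    linear_combination -h
  have heven : Even (Module.finrank F Vm) := (neg_one_pow_eq_one_iff_even hneg).mp hdetf.symm
  have hsum : Module.finrank F Vp + Module.finrank F Vm = 3 := by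
    rw [Submodule.finrank_add_eq_of_isCompl hcompl, Module.finrank_fin_fun]
  have hm0 : Module.finrank F Vm ≠ 0 := by
    intro h0
    have hbot : Vm = ⊥ := Submodule.finrank_eq_zero.mp h0
    have htop : Vp = ⊤ := by
      have := hcompl.sup_eq_top
      rwa [hbot, sup_bot_eq] at this
    apply hM1
    have hf1 : f = LinearMap.id := by
      apply LinearMap.ext
      intro v
      have : v ∈ Vp := by rw [htop]; trivial
      exact (memp v).mp this
    have := congrArg LinearMap.toMatrix' hf1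
    rwa [hf, LinearMap.toMatrix'_toLin', LinearMap.toMatrix'_id] at this
  have hdm : Module.finrank F Vm = 2 := by
    obtain ⟨k, hk⟩ := heven
    omega
  have hdp : Module.finrank F Vp = 1 := by omega
  let bp := Module.finBasisOfFinrankEq F Vp hdp
  let bm := Module.finBasisOfFinrankEq F Vm hdm
  let b := ((bp.prod bm).map (Submodule.prodEquivOfIsCompl Vp Vm hcompl)).reindex e3
  have hb0 : b 0 = (bp 0 : Fin 3 → F) := by
    simp [b, e3, Module.Basis.map_apply, Module.Basis.prod_apply,
      Submodule.coe_prodEquivOfIsCompl']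
  have hb1 : b 1 = (bm 0 : Fin 3 → F) := by
    simp [b, e3, Module.Basis.map_apply, Module.Basis.prod_apply,
      Submodule.coe_prodEquivOfIsCompl']
  have hb2 : b 2 = (bm 1 : Fin 3 → F) := by
    simp [b, e3, Module.Basis.map_apply, Module.Basis.prod_apply,
      Submodule.coe_prodEquivOfIsCompl']
  have hf0 : M *ᵥ b 0 = b 0 := by
    rw [hb0, ← Matrix.toLin'_apply]; exact (memp _).mp (bp 0).2
  have hf1 : M *ᵥ b 1 = - b 1 := by
    rw [hb1, ← Matrix.toLin'_apply]; exact (memm _).mp (bm 0).2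
  have hf2 : M *ᵥ b 2 = - b 2 := by
    rw [hb2, ← Matrix.toLin'_apply]; exact (memm _).mp (bm 1).2
  set P : Matrix (Fin 3) (Fin 3) F := (Pi.basisFun F (Fin 3)).toMatrix b with hP
  have hPij : ∀ i j, P i j = b j i := by
    intro i j
    rw [hP, Module.Basis.toMatrix_apply, Pi.basisFun_repr]
  have hMP : M * P = P * Dm := by
    ext i j
    have e1 : (M * P) i j = (M *ᵥ b j) i := by
      rw [Matrix.mul_apply, Matrix.mulVec, dotProduct]
      apply Finset.sum_congr rfl
      intro k _
      rw [hPij]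
    rw [e1]
    fin_cases j
    · simp [hf0, Matrix.mul_apply, Fin.sum_univ_three, Dm, hPij]
    · simp [hf1, Matrix.mul_apply, Fin.sum_univ_three, Dm, hPij]
    · simp [hf2, Matrix.mul_apply, Fin.sum_univ_three, Dm, hPij]
  have hPdet : P.det ≠ 0 := by
    have h1 : P * b.toMatrix (Pi.basisFun F (Fin 3)) = 1 := by
      rw [hP]; exact Module.Basis.toMatrix_mul_toMatrix_flip _ _
    intro h0
    have := congrArg Matrix.det h1
    rw [Matrix.det_mul, h0, zero_mul, Matrix.det_one] at this
    exact zero_ne_one this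
  set E : Matrix (Fin 3) (Fin 3) F := !![(P.det)⁻¹, 0, 0; 0, 1, 0; 0, 0, 1] with hE
  have hEdet : E.det = (P.det)⁻¹ := by
    rw [Matrix.det_fin_three]; simp [hE]
  have hED : E * Dm = Dm * E := by
    ext i j
    fin_cases i <;> fin_cases j <;> simp [hE, Dm, Matrix.mul_apply, Fin.sum_univ_three]
  refine ⟨P * E, ?_, ?_⟩
  · rw [Matrix.det_mul, hEdet, mul_inv_cancel₀ hPdet]
  · rw [← Matrix.mul_assoc, hMP, Matrix.mul_assoc, ← hED, Matrix.mul_assoc]

end diag

section phi
variable {F : Type*} [Field F]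

/-- the homomorphism `GL₂ → PSL₃` -/
def phi : GL (Fin 2) F →* PSL(3, F) :=
  (QuotientGroup.mk' (Subgroup.center (SL(3, F)))).comp emb

theorem phi_apply (Y : GL (Fin 2) F) : phi Y = (QuotientGroup.mk (emb Y) : PSL(3, F)) := rfl

/-- the standard involution -/
def t0 : PSL(3, F) := QuotientGroup.mk D

theorem range_phi (h2 : (2 : F) ≠ 0) :
    (phi (F := F)).range = Subgroup.centralizer ({t0} : Set (PSL(3, F))) := by
  ext x
  rw [Subgroup.mem_centralizer_singleton_iff]
  constructor
  · rintro ⟨Y, rfl⟩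
    rw [phi_apply, t0, ← QuotientGroup.mk_mul, ← QuotientGroup.mk_mul, emb_comm_D]
  · intro hx
    obtain ⟨X, rfl⟩ := QuotientGroup.mk_surjective x
    obtain ⟨Y, hY⟩ := exists_emb_of_comm h2 X hx
    exact ⟨Y, by rw [phi_apply, hY]⟩

/-- scalar matrices in `GL₂` -/
def sc : Fˣ →* GL (Fin 2) F :=
  Units.map (Matrix.scalar (Fin 2) : F →+* Matrix (Fin 2) (Fin 2) F).toMonoidHom

theorem sc_val (r : Fˣ) : ((sc r : GL (Fin 2) F) : Matrix (Fin 2) (Fin 2) F) =
    Matrix.scalar (Fin 2) (r : F) := rfl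

theorem sc_inj : Function.Injective (sc (F := F)) := by
  intro a b h
  have h1 := congrArg (fun g : GL (Fin 2) F => (g : Matrix (Fin 2) (Fin 2) F) 0 0) h
  simp only [sc_val, Matrix.scalar_apply, Matrix.diagonal_apply_eq] at h1
  exact Units.ext h1

theorem sc_mem_center (r : Fˣ) : sc r ∈ Subgroup.center (GL (Fin 2) F) := by
  rw [Subgroup.mem_center_iff]
  intro g
  apply Units.ext
  rw [Units.val_mul, Units.val_mul, sc_val]
  exact ((Matrix.scalar_commute (r : F) (fun r' => mul_comm _ _)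
    (g : Matrix (Fin 2) (Fin 2) F)).eq).symm

theorem det_sc (r : Fˣ) : Matrix.GeneralLinearGroup.det (sc r) = r ^ 2 := by
  apply Units.ext
  rw [Matrix.GeneralLinearGroup.val_det_apply, sc_val, Matrix.det_fin_two, Units.val_pow_eq_pow_val]
  simp [Matrix.scalar_apply]
  ring

theorem ker_phi : (phi (F := F)).ker = ((powMonoidHom 3 : Fˣ →* Fˣ).ker).map sc := by
  ext Y
  rw [MonoidHom.mem_ker, Subgroup.mem_map]
  constructor
  · intro hY
    have hc : emb Y ∈ Subgroup.center (SL(3, F)) := by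
      rw [phi_apply] at hY
      exact (QuotientGroup.eq_one_iff _).mp hY
    obtain ⟨r, hr, hrz⟩ := Matrix.SpecialLinearGroup.mem_center_iff.mp hc
    rw [emb_val] at hrz
    have e11 := congrFun (congrFun hrz 1) 1
    have e12 := congrFun (congrFun hrz 1) 2
    have e21 := congrFun (congrFun hrz 2) 1
    have e22 := congrFun (congrFun hrz 2) 2
    simp [embMat, Matrix.scalar_apply] at e11 e12 e21 e22
    have hr0 : r ≠ 0 := by
      rintro rfl
      simp at hr
    refine ⟨Units.mk0 r hr0, ?_, ?_⟩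
    · rw [MonoidHom.mem_ker, powMonoidHom_apply]
      apply Units.ext
      rw [Units.val_pow_eq_pow_val, Units.val_mk0, Units.val_one]
      simpa using hr
    · apply Units.ext
      rw [sc_val]
      ext i j
      fin_cases i <;> fin_cases j <;> simp [Matrix.scalar_apply, ← e11, ← e12, ← e21, ← e22]
  · rintro ⟨r, hr, rfl⟩
    rw [MonoidHom.mem_ker, powMonoidHom_apply] at hr
    rw [phi_apply, QuotientGroup.eq_one_iff, Matrix.SpecialLinearGroup.mem_center_iff]
    have hr' : (r : F) ^ 3 = 1 := by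
      rw [← Units.val_pow_eq_pow_val, hr, Units.val_one]
    have hinv : (Matrix.GeneralLinearGroup.det (sc r))⁻¹ = r := by
      rw [det_sc]
      apply inv_eq_of_mul_eq_one_left
      rw [← pow_succ', hr]
    refine ⟨(r : F), ?_, ?_⟩
    · simpa using hr'
    · rw [emb_val, hinv, sc_val]
      ext i j
      fin_cases i <;> fin_cases j <;> simp [embMat, Matrix.scalar_apply]

theorem ker_phi_le_center : (phi (F := F)).ker ≤ Subgroup.center (GL (Fin 2) F) := by
  rw [ker_phi]
  rintro _ ⟨r, _, rfl⟩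
  exact sc_mem_center r

theorem card_ker_phi [Fintype F] :
    Nat.card (phi (F := F)).ker = Nat.gcd (Fintype.card F - 1) 3 := by
  classical
  rw [ker_phi, Subgroup.card_map_of_injective sc_inj, IsCyclic.card_powMonoidHom_ker,
    Nat.card_eq_fintype_card, Fintype.card_units]

end phi

section final
variable {F : Type*} [Field F]

theorem exists_conj_t0 (h2 : (2 : F) ≠ 0) (t : PSL(3, F)) (ht1 : t ≠ 1) (htt : t * t = 1) :
    ∃ g : PSL(3, F), g * t0 * g⁻¹ = t := by
  obtain ⟨A, rfl⟩ := QuotientGroup.mk_surjective t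
  have hAA : A * A ∈ Subgroup.center (SL(3, F)) := by
    rw [← QuotientGroup.mk_mul] at htt
    exact (QuotientGroup.eq_one_iff _).mp htt
  obtain ⟨r, hr, hrz⟩ := Matrix.SpecialLinearGroup.mem_center_iff.mp hAA
  have hr3 : r ^ 3 = 1 := by simpa using hr
  have hSdet : (Matrix.scalar (Fin 3) r).det = 1 := by
    rw [Matrix.scalar_apply, Matrix.det_diagonal]
    simp [hr3]
  let S : SL(3, F) := ⟨Matrix.scalar (Fin 3) r, hSdet⟩
  have hS : S ∈ Subgroup.center (SL(3, F)) :=
    Matrix.SpecialLinearGroup.mem_center_iff.mpr ⟨r, hr, rfl⟩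
  have hmk : (QuotientGroup.mk (S * A) : PSL(3, F)) = QuotientGroup.mk A := by
    rw [QuotientGroup.mk_mul, (QuotientGroup.eq_one_iff S).mpr hS, one_mul]
  have hAAS : A * A = S := Subtype.ext hrz.symm
  have hcomm : A * S = S * A := Subgroup.mem_center_iff.mp hS A
  have hSSS : S * S * S = 1 := by
    apply Subtype.ext
    change Matrix.scalar (Fin 3) r * Matrix.scalar (Fin 3) r * Matrix.scalar (Fin 3) r = 1
    rw [← map_mul, ← map_mul, ← pow_two, ← pow_succ, hr3, map_one]
  have hA'A' : (S * A) * (S * A) = 1 := by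
    calc (S * A) * (S * A) = S * (A * S) * A := by group
      _ = S * (S * A) * A := by rw [hcomm]
      _ = S * S * (A * A) := by group
      _ = S * S * S := by rw [hAAS]
      _ = 1 := hSSS
  have hA'1 : S * A ≠ 1 := by
    intro h
    apply ht1
    rw [← hmk, h]
    rfl
  obtain ⟨P, hPdet, hMP⟩ := exists_conj_Dm h2 ((S * A : SL(3, F)) : Matrix (Fin 3) (Fin 3) F)
    (by
      have := congrArg (fun X : SL(3, F) => (X : Matrix (Fin 3) (Fin 3) F)) hA'A'
      simpa only [Matrix.SpecialLinearGroup.coe_mul, Matrix.SpecialLinearGroup.coe_one] using this)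
    (by
      intro h
      apply hA'1
      apply Subtype.ext
      rw [h]
      rfl)
    (S * A).2
  let Pg : SL(3, F) := ⟨P, hPdet⟩
  refine ⟨QuotientGroup.mk Pg, ?_⟩
  rw [← hmk, t0, ← QuotientGroup.mk_inv, ← QuotientGroup.mk_mul, ← QuotientGroup.mk_mul]
  congr 1
  have hrel : (S * A) * Pg = Pg * D := by
    apply Subtype.ext
    rw [Matrix.SpecialLinearGroup.coe_mul, Matrix.SpecialLinearGroup.coe_mul]
    exact hMP
  rw [← hrel]
  group

end final

/-- Let F be a finite field of odd order q and t an involution of PSL(3,F). Then C(t) is isomorphic to the quotient of GL(2,F) by a central subgroup of order gcd(q−1, 3). -/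
theorem result {F : Type*} [Field F] [Fintype F] (hF : Odd (Fintype.card F)) (t : Matrix.ProjectiveSpecialLinearGroup (Fin 3) F) (ht : orderOf t = 2) : ∃ (Z : Subgroup (GL (Fin 2) F)) (_ : Z.Normal), Z ≤ Subgroup.center (GL (Fin 2) F) ∧ Nat.card Z = Nat.gcd (Fintype.card F - 1) 3 ∧ Nonempty (↥(Subgroup.centralizer ({t} : Set (Matrix.ProjectiveSpecialLinearGroup (Fin 3) F))) ≃* GL (Fin 2) F ⧸ Z) := by
  have h2 : (2 : F) ≠ 0 := by
    intro h0
    apply Cfsg.Agent.Lib.Helper99.neg_one_ne_one_of_odd_card hF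
    linear_combination -h0
  have ht1 : t ≠ 1 := by
    rintro rfl
    rw [orderOf_one] at ht
    omega
  have htt : t * t = 1 := by
    rw [← pow_two, ← ht]
    exact pow_orderOf_eq_one t
  obtain ⟨g, hg⟩ := exists_conj_t0 h2 t ht1 htt
  subst hg
  refine ⟨(phi (F := F)).ker, inferInstance, ker_phi_le_center, card_ker_phi, ⟨?_⟩⟩
  exact ((centralizerConjEquiv g t0).trans (MulEquiv.subgroupCongr (range_phi h2).symm)).trans
    (QuotientGroup.quotientKerEquivRange phi).symm

end Cfsg.Agent.S1219
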