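import Cfsg.Statements.S1228
import Cfsg.Agent.Lib.Helper28.BSW2
import Mathlib

set_option autoImplicit false
open Cfsg

namespace Cfsg.Agent.S1228

open Cfsg.Agent.Lib.Helper28 Cfsg.Agent.Lib.Helper41

/-- Let G be a finite group with a Sylow 2-subgroup T that is neither cyclic nor normal, such that the centralizer of every involution is an elementary abelian 2-group; put H = N_G(T), let u be an involution outside H and D = H ∩ uHu⁻¹. Then N_G(D) = D ⊔ ⟨u⟩, and a coset gH is fixed by every element of D exactly when gH = H or gH = uH. -/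
theorem result {G : Type*} [Group G] [Finite G] (T : Sylow 2 G) (hnc : ¬ IsCyclic (T : Subgroup G)) (hnn : ¬ (T : Subgroup G).Normal) (hC : ∀ t : G, orderOf t = 2 → IsMulCommutative (Subgroup.centralizer ({t} : Set G)) ∧ ∀ c ∈ Subgroup.centralizer ({t} : Set G), c ^ 2 = 1) (u : G) (hu : orderOf u = 2) (huH : u ∉ Subgroup.normalizer ((T : Subgroup G) : Set G)) : Subgroup.normalizer ((Subgroup.normalizer ((T : Subgroup G) : Set G) ⊓ (Subgroup.normalizer ((T : Subgroup G) : Set G)).map (MulAut.conj u).toMonoidHom : Subgroup G) : Set G) = (Subgroup.normalizer ((T : Subgroup G) : Set G) ⊓ (Subgroup.normalizer ((T : Subgroup G) : Set G)).map (MulAut.conj u).toMonoidHom) ⊔ Subgroup.zpowers u ∧ ∀ g : G, ((∀ d ∈ Subgroup.normalizer ((T : Subgroup G) : Set G) ⊓ (Subgroup.normalizer ((T : Subgroup G) : Set G)).map (MulAut.conj u).toMonoidHom, d • (QuotientGroup.mk g : G ⧸ Subgroup.normalizer ((T : Subgroup G) : Set G)) = QuotientGroup.mk g) ↔ (QuotientGroup.mk g : G ⧸ Subgroup.normalizer ((T : Subgroup G) : Set G)) = QuotientGroup.mk 1 ∨ (QuotientGroup.mk g :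 G ⧸ Subgroup.normalizer ((T : Subgroup G) : Set G)) = QuotientGroup.mk u) := by
  have huN := bsw_u_mem_normalizer_D T hnc hnn hC u hu huH
  constructor
  · apply le_antisymm
    · intro g hg
      by_cases hgD : g ∈ Subgroup.normalizer ((T : Subgroup G) : Set G) ⊓
          (Subgroup.normalizer ((T : Subgroup G) : Set G)).map (MulAut.conj u).toMonoidHom
      · exact Subgroup.mem_sup_left hgD
      · have h1 := bsw_normalizer_D_coset T hnc hnn hC u hu huH hg hgD
        have e' : g = u * (u⁻¹ * g) := by group
        rw [e']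
        exact Subgroup.mul_mem _ (Subgroup.mem_sup_right (Subgroup.mem_zpowers u))
          (Subgroup.mem_sup_left h1)
    · apply sup_le Subgroup.le_normalizer
      rw [Subgroup.zpowers_le]
      exact huN
  · intro g
    constructor
    · intro hfix
      by_cases hgH : g ∈ Subgroup.normalizer ((T : Subgroup G) : Set G)
      · left
        rw [QuotientGroup.eq]
        simpa using Subgroup.inv_mem _ hgH
      · right
        have hD : (Subgroup.normalizer ((T : Subgroup G) : Set G) ⊓
            lc u (Subgroup.normalizer ((T : Subgroup G) : Set G)) : Subgroup G) ≤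
            lc g (Subgroup.normalizer ((T : Subgroup G) : Set G)) := by
          intro d hd
          rw [mem_lc]
          exact (smul_mk_self_iff d g).1 (hfix d hd)
        obtain ⟨i, hi, hiH, hiq, hDi⟩ := bsw_D_eq_of_le T hnc hnn hC u hu huH hgH hD
        have hiN : i ∈ Subgroup.normalizer ((Subgroup.normalizer ((T : Subgroup G) : Set G) ⊓
            lc u (Subgroup.normalizer ((T : Subgroup G) : Set G)) : Subgroup G) : Set G) := by
          rw [hDi]
          exact bsw_u_mem_normalizer_D T hnc hnn hC i hi hiH
        have hiD : i ∉ (Subgroup.normalizer ((T : Subgroup G) : Set G) ⊓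
            lc u (Subgroup.normalizer ((T : Subgroup G) : Set G)) : Subgroup G) :=
          fun h => hiH (Subgroup.mem_inf.1 h).1
        have h1 := bsw_normalizer_D_coset T hnc hnn hC u hu huH hiN hiD
        rw [← hiq, eq_comm, QuotientGroup.eq]
        exact (Subgroup.mem_inf.1 h1).1
    · rintro (h | h) d hd
      · rw [h, smul_mk_self_iff]
        simpa using (Subgroup.mem_inf.1 hd).1
      · rw [h, smul_mk_self_iff]
        exact mem_lc.1 (Subgroup.mem_inf.1 hd).2

end Cfsg.Agent.S1228
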