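import Cfsg.Statements.S1229
import Cfsg.Agent.Lib.Helper28.BSW3
import Mathlib

set_option autoImplicit false
open Cfsg

namespace Cfsg.Agent.S1229

open Cfsg.Agent.Lib.Helper28 Cfsg.Agent.Lib.Helper41

/-- the embedding `Fin 3 ↪ X` given by three distinct points -/
def tripleEmb {X : Type*} (a b c : X) (hab : a ≠ b) (hac : a ≠ c) (hbc : b ≠ c) : Fin 3 ↪ X :=
  ⟨![a, b, c], by
    intro i j h
    fin_cases i <;> fin_cases j <;> simp_all⟩

/-- Let G be a finite group with a Sylow 2-subgroup T that is neither cyclic nor normal, such that the centralizer of every involution is an elementary abelian 2-group; put H = N_G(T) and X = G/H. Then G is triply transitive on X, an element fixing three distinct points of X is the identity, and T acts regularly on X minus the point H. -/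
theorem result {G : Type*} [Group G] [Finite G] (T : Sylow 2 G) (hnc : ¬ IsCyclic (T : Subgroup G)) (hnn : ¬ (T : Subgroup G).Normal) (hC : ∀ t : G, orderOf t = 2 → IsMulCommutative (Subgroup.centralizer ({t} : Set G)) ∧ ∀ c ∈ Subgroup.centralizer ({t} : Set G), c ^ 2 = 1) : (∀ x₁ x₂ x₃ y₁ y₂ y₃ : G ⧸ Subgroup.normalizer ((T : Subgroup G) : Set G), x₁ ≠ x₂ → x₁ ≠ x₃ → x₂ ≠ x₃ → y₁ ≠ y₂ → y₁ ≠ y₃ → y₂ ≠ y₃ → ∃ g : G, g • x₁ = y₁ ∧ g • x₂ = y₂ ∧ g • x₃ = y₃) ∧ (∀ g : G, ∀ x₁ x₂ x₃ : G ⧸ Subgroup.normalizer ((T : Subgroup G) : Set G), x₁ ≠ x₂ → x₁ ≠ x₃ → x₂ ≠ x₃ → g • x₁ = x₁ → g • x₂ = x₂ → g • x₃ = x₃ → g = 1) ∧ (∀ x y : G ⧸ Subgroup.normalizer ((T : Subgroup G) : Set G), x ≠ QuotientGroup.mk 1 → y ≠ QuotientGroup.mk 1 → ∃! t : G, t ∈ T ∧ t • x = y) := by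
  classical
  refine ⟨?_, ?_, ?_⟩
  · have := Fintype.ofFinite (G ⧸ Subgroup.normalizer ((T : Subgroup G) : Set G))
    have := Fintype.ofFinite G
    have hq := bsw_four_le_card T hnc hnn
    have hn := bsw_card_quotient T hnc hnn hC
    have hH := bsw_card_H T hnc hnn hC
    have hn' : Fintype.card (G ⧸ Subgroup.normalizer ((T : Subgroup G) : Set G)) = Nat.card T + 1 := by
      rw [← Nat.card_eq_fintype_card]; exact hn
    -- a base triple
    have hb : Nonempty (Fin 3 ↪ G ⧸ Subgroup.normalizer ((T : Subgroup G) : Set G)) := by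
      apply Function.Embedding.nonempty_of_card_le
      rw [hn', Fintype.card_fin]; omega
    obtain ⟨b⟩ := hb
    let Φ : G → (Fin 3 ↪ G ⧸ Subgroup.normalizer ((T : Subgroup G) : Set G)) := fun g =>
      b.trans (MulAction.toPerm g).toEmbedding
    have hΦ : ∀ g k, Φ g k = g • b k := fun g k => rfl
    have hinj : Function.Injective Φ := by
      intro g g' h
      have hk : ∀ k, (g'⁻¹ * g) • b k = b k := by
        intro k
        have := DFunLike.congr_fun h k
        rw [hΦ, hΦ] at this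
        rw [mul_smul, this, inv_smul_smul]
      have h01 : b 0 ≠ b 1 := fun h => by simpa using b.injective h
      have h02 : b 0 ≠ b 2 := fun h => by simpa using b.injective h
      have h12 : b 1 ≠ b 2 := fun h => by simpa using b.injective h
      have := bsw_fix_three T hnc hnn hC h01 h02 h12 (hk 0) (hk 1) (hk 2)
      rw [inv_mul_eq_one] at this
      exact this.symm
    have hcard : Nat.card (Fin 3 ↪ G ⧸ Subgroup.normalizer ((T : Subgroup G) : Set G)) ≤ Nat.card G := by
      rw [Nat.card_eq_fintype_card, Fintype.card_embedding_eq, hn', Fintype.card_fin,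
        Subgroup.card_eq_card_quotient_mul_card_subgroup (Subgroup.normalizer ((T : Subgroup G) : Set G)),
        hn, hH]
      have e : (Nat.card T + 1).descFactorial 3 = (Nat.card T + 1) * (Nat.card T * (Nat.card T - 1)) := by
        obtain ⟨m, hm⟩ : ∃ m, Nat.card T = m + 1 := ⟨Nat.card T - 1, by omega⟩
        rw [hm]
        simp only [Nat.descFactorial_succ, Nat.descFactorial_zero]
        have h1 : m + 1 + 1 - 2 = m := by omega
        have h2 : m + 1 + 1 - 1 = m + 1 := by omega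
        have h3 : m + 1 - 1 = m := by omega
        rw [h1, h2, h3]
        simp only [Nat.sub_zero]
        ring
      rw [e]
    have hbij := hinj.bijective_of_nat_card_le hcard
    intro x₁ x₂ x₃ y₁ y₂ y₃ hx12 hx13 hx23 hy12 hy13 hy23
    obtain ⟨g₁, hg₁⟩ := hbij.2 (tripleEmb x₁ x₂ x₃ hx12 hx13 hx23)
    obtain ⟨g₂, hg₂⟩ := hbij.2 (tripleEmb y₁ y₂ y₃ hy12 hy13 hy23)
    have hx : ∀ k, g₁ • b k = tripleEmb x₁ x₂ x₃ hx12 hx13 hx23 k := fun k => by
      rw [← hg₁]; exact (hΦ g₁ k).symm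
    have hy : ∀ k, g₂ • b k = tripleEmb y₁ y₂ y₃ hy12 hy13 hy23 k := fun k => by
      rw [← hg₂]; exact (hΦ g₂ k).symm
    have key : ∀ k, (g₂ * g₁⁻¹) • (tripleEmb x₁ x₂ x₃ hx12 hx13 hx23 k) =
        tripleEmb y₁ y₂ y₃ hy12 hy13 hy23 k := by
      intro k
      rw [← hx, ← hy, mul_smul, inv_smul_smul]
    refine ⟨g₂ * g₁⁻¹, ?_, ?_, ?_⟩
    · exact key 0
    · exact key 1
    · exact key 2
  · intro g x₁ x₂ x₃ h12 h13 h23 h1 h2 h3
    exact bsw_fix_three T hnc hnn hC h12 h13 h23 h1 h2 h3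
  · intro x y hx hy
    exact bsw_T_regular T hnc hnn hC x y hx hy

end Cfsg.Agent.S1229
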