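import Cfsg.Statements.S1231
import Cfsg.Agent.Lib.Helper41.Conj
import Mathlib

set_option autoImplicit false
open Cfsg

namespace Cfsg.Agent.S1231

open Cfsg.Agent.Lib.Helper41

variable {G : Type*} [Group G]

/-- An elementary abelian `p`-subgroup of order greater than `r`. -/
def Big (p r : ℕ) (A : Subgroup G) : Prop :=
  IsMulCommutative A ∧ (∀ a ∈ A, a ^ p = 1) ∧ r < Nat.card A

theorem big_map_of_injective {G' : Type*} [Group G'] {p r : ℕ} (f : G →* G')
    (hf : Function.Injective f) {A : Subgroup G} (hA : Big p r A) : Big p r (A.map f) := by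
  obtain ⟨h1, h2, h3⟩ := hA
  refine ⟨?_, ?_, ?_⟩
  · refine ⟨⟨?_⟩⟩
    rintro ⟨_, a, ha, rfl⟩ ⟨_, b, hb, rfl⟩
    apply Subtype.ext
    have := h1.is_comm.comm ⟨a, ha⟩ ⟨b, hb⟩
    have h' : a * b = b * a := congrArg Subtype.val this
    change f a * f b = f b * f a
    rw [← map_mul, ← map_mul, h']
  · rintro _ ⟨a, ha, rfl⟩
    rw [← map_pow, h2 a ha, map_one]
  · rw [Nat.card_congr (A.equivMapOfInjective f hf).symm.toEquiv]
    exact h3

theorem big_lc {p r : ℕ} (y : G) {A : Subgroup G} (hA : Big p r A) : Big p r (lc y A) :=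
  big_map_of_injective _ (MulAut.conj y).injective hA

theorem big_isPGroup {p r : ℕ} [Fact p.Prime] {A : Subgroup G} (hA : Big p r A) :
    IsPGroup p A := by
  intro a
  refine ⟨1, ?_⟩
  apply Subtype.ext
  simpa using hA.2.1 a a.2

theorem not_pRankLE_iff {p k : ℕ} (X : Subgroup G) :
    ¬ Cfsg.PRankLE p k ↥X ↔ ∃ A : Subgroup G, A ≤ X ∧ Big p (p ^ k) A := by
  constructor
  · intro h
    unfold Cfsg.PRankLE at h
    simp only [not_forall, not_le] at h
    obtain ⟨A, h1, h2, h3⟩ := h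
    exact ⟨A.map X.subtype, Subgroup.map_subtype_le A,
      big_map_of_injective _ X.subtype_injective ⟨h1, h2, h3⟩⟩
  · rintro ⟨A, hAX, h1, h2, h3⟩ h
    have hc : IsMulCommutative ↥(A.subgroupOf X) := by
      refine ⟨⟨?_⟩⟩
      intro a b
      have ha : ((a : ↥X) : G) ∈ A := Subgroup.mem_subgroupOf.1 a.2
      have hb : ((b : ↥X) : G) ∈ A := Subgroup.mem_subgroupOf.1 b.2
      have h' := h1.is_comm.comm ⟨_, ha⟩ ⟨_, hb⟩
      have h'' : ((a : ↥X) : G) * ((b : ↥X) : G) = ((b : ↥X) : G) * ((a : ↥X) : G) :=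
        congrArg Subtype.val h'
      apply Subtype.ext
      apply Subtype.ext
      exact h''
    have he : ∀ a ∈ A.subgroupOf X, a ^ p = 1 := by
      intro a ha
      rw [Subgroup.mem_subgroupOf] at ha
      apply Subtype.ext
      simpa using h2 a ha
    have := h (A.subgroupOf X) hc he
    rw [Nat.card_congr (Subgroup.subgroupOfEquivOfLe hAX).toEquiv] at this
    omega

/-- Sylow `p`-subgroups of `H`, as subgroups of `G`. -/
def Good (p : ℕ) (H S : Subgroup G) : Prop :=
  S ≤ H ∧ IsPGroup p S ∧ ¬ p ∣ S.relIndex H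

theorem good_sylow {p : ℕ} [Fact p.Prime] (H : Subgroup G) [Finite G] (P : Sylow p ↥H) :
    Good p H ((P : Subgroup ↥H).map H.subtype) := by
  refine ⟨Subgroup.map_subtype_le _, P.2.map _, ?_⟩
  have : ((P : Subgroup H).map H.subtype).subgroupOf H = P :=
    Subgroup.comap_map_eq_self_of_injective H.subtype_injective _
  rw [Subgroup.relIndex, this]
  exact P.not_dvd_index

theorem good_card_le [Finite G] {p : ℕ} [Fact p.Prime] {H S S' : Subgroup G}
    (hS : Good p H S) (hS' : Good p H S') : Nat.card S' ≤ Nat.card S := by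
  obtain ⟨y, _, hy⟩ := exists_lc_le_of_relIndex hS.1 hS.2.1 hS.2.2 hS'.2.1 hS'.1
  rw [← card_lc y S']
  exact Subgroup.card_le_of_le hy

theorem good_card_eq [Finite G] {p : ℕ} [Fact p.Prime] {H S S' : Subgroup G}
    (hS : Good p H S) (hS' : Good p H S') : Nat.card S' = Nat.card S :=
  le_antisymm (good_card_le hS hS') (good_card_le hS' hS)

theorem exists_mem_normalizer_not_mem [Finite G] {p : ℕ} [Fact p.Prime] {Q R : Subgroup G}
    (hQ : IsPGroup p Q) (hRQ : R ≤ Q) (hne : R ≠ Q) :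
    ∃ y ∈ Q, y ∈ Subgroup.normalizer (R : Set G) ∧ y ∉ R := by
  have hlt : R.subgroupOf Q < ⊤ := by
    rw [lt_top_iff_ne_top, Ne, Subgroup.subgroupOf_eq_top]
    intro h; exact hne (le_antisymm hRQ h)
  have : Group.IsNilpotent Q := hQ.isNilpotent
  have hnc := Group.normalizerCondition_of_isNilpotent (G := Q) (R.subgroupOf Q) hlt
  obtain ⟨x, hxN, hxR⟩ := SetLike.exists_of_lt hnc
  refine ⟨x, x.2, ?_, ?_⟩
  · rw [Subgroup.mem_normalizer_iff]
    intro y
    constructor
    · intro hy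
      have := (Subgroup.mem_normalizer_iff.1 hxN ⟨y, hRQ hy⟩).1
        (by rw [Subgroup.mem_subgroupOf]; exact hy)
      rw [Subgroup.mem_subgroupOf] at this
      simpa using this
    · intro hy
      have hyQ : y ∈ Q := by
        have h1 : (x : G) * y * (x : G)⁻¹ ∈ Q := hRQ hy
        have : y = (x : G)⁻¹ * ((x : G) * y * (x : G)⁻¹) * (x : G) := by group
        rw [this]
        exact Q.mul_mem (Q.mul_mem (Q.inv_mem x.2) h1) x.2
      have := (Subgroup.mem_normalizer_iff.1 hxN ⟨y, hyQ⟩).2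
        (by rw [Subgroup.mem_subgroupOf]; simpa using hy)
      rw [Subgroup.mem_subgroupOf] at this
      exact this
  · intro h
    apply hxR
    rw [Subgroup.mem_subgroupOf]; exact h

section main

variable [Finite G] {p : ℕ} [Fact p.Prime] (r : ℕ) (H P' : Subgroup G) (hP' : Good p H P')
  (hstar : ∀ X : Subgroup G, X ≤ P' → (∃ A : Subgroup G, A ≤ X ∧ Big p r A) →
    Subgroup.normalizer (X : Set G) ≤ H)

include hP' hstar in
theorem good_norm {S X : Subgroup G} (hS : Good p H S) (hXS : X ≤ S)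
    (hX : ∃ A : Subgroup G, A ≤ X ∧ Big p r A) : Subgroup.normalizer (X : Set G) ≤ H := by
  obtain ⟨y, hyH, hy⟩ := exists_lc_le_of_relIndex hP'.1 hP'.2.1 hP'.2.2 hS.2.1 hS.1
  obtain ⟨A, hAX, hA⟩ := hX
  have h1 : Subgroup.normalizer ((lc y X : Subgroup G) : Set G) ≤ H :=
    hstar (lc y X) ((lc_mono hXS).trans hy) ⟨lc y A, lc_mono hAX, big_lc y hA⟩
  rw [normalizer_lc] at h1
  intro n hn
  have h2 : y * n * y⁻¹ ∈ H := h1 (conj_mem_lc hn)
  have : n = y⁻¹ * (y * n * y⁻¹) * y := by group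
  rw [this]
  exact H.mul_mem (H.mul_mem (H.inv_mem hyH) h2) hyH

include hP' hstar in
theorem main_aux : ∀ n : ℕ, ∀ S S' : Subgroup G, ∀ x : G, Good p H S → Good p H S' →
    Nat.card S - Nat.card ↥(S ⊓ lc x S') = n →
    (∃ A : Subgroup G, A ≤ S ⊓ lc x S' ∧ Big p r A) → x ∈ H := by
  intro n
  induction n using Nat.strong_induction_on with
  | _ n ih =>
    intro S S' x hS hS' hn hA
    obtain ⟨A, hAR, hA⟩ := hA
    have hcard : Nat.card (lc x S') = Nat.card S := by
      rw [card_lc]; exact good_card_eq hS hS'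
    by_cases hRS : S ⊓ lc x S' = S
    · -- S ≤ lc x S', hence equal
      have hle : S ≤ lc x S' := by rw [← hRS]; exact inf_le_right
      have heq : S = lc x S' := Subgroup.eq_of_le_of_card_ge hle (le_of_eq hcard)
      obtain ⟨y, hyH, hy⟩ := exists_lc_le_of_relIndex hS.1 hS.2.1 hS.2.2 hS'.2.1 hS'.1
      have heq2 : lc y S' = S :=
        Subgroup.eq_of_le_of_card_ge hy (by rw [card_lc]; exact le_of_eq (good_card_eq hS' hS))
      have h3 : lc (y⁻¹ * x) S' = S' := by
        rw [lc_mul, ← heq, ← heq2, lc_inv_lc]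
      have h4 : y⁻¹ * x ∈ Subgroup.normalizer (S' : Set G) := mem_normalizer_iff_lc.2 h3
      have hA' : ∃ B : Subgroup G, B ≤ S' ∧ Big p r B := by
        refine ⟨lc x⁻¹ A, ?_, big_lc _ hA⟩
        have h0 := lc_mono (g := x⁻¹) (hAR.trans inf_le_right)
        rwa [lc_inv_lc] at h0
      have h5 : y⁻¹ * x ∈ H := good_norm r H P' hP' hstar hS' le_rfl hA' h4
      have : x = y * (y⁻¹ * x) := by group
      rw [this]
      exact H.mul_mem hyH h5
    · -- proper intersection
      set R := S ⊓ lc x S' with hR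
      have hRS' : R ≠ lc x S' := by
        intro h
        apply hRS
        have hle : lc x S' ≤ S := by rw [← h]; exact inf_le_left
        have := Subgroup.eq_of_le_of_card_ge hle (le_of_eq hcard.symm)
        rw [h, this]
      obtain ⟨y, hyQ, hyN, hyR⟩ := exists_mem_normalizer_not_mem
        (isPGroup_lc (g := x) hS'.2.1) (inf_le_right : R ≤ lc x S') hRS'
      have hNR : Subgroup.normalizer (R : Set G) ≤ H :=
        good_norm r H P' hP' hstar hS inf_le_left ⟨A, hAR, hA⟩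
      set T₁ := lc x S' ⊓ Subgroup.normalizer (R : Set G) with hT₁
      have hRT₁ : R ≤ T₁ := le_inf inf_le_right Subgroup.le_normalizer
      have hT₁H : T₁ ≤ H := inf_le_right.trans hNR
      have hT₁p : IsPGroup p T₁ := (isPGroup_lc (g := x) hS'.2.1).to_le inf_le_left
      obtain ⟨S'', hT₁S'', hS''H, hS''p, hS''idx⟩ := exists_sylowIn_ge hT₁p hT₁H
      have hS'' : Good p H S'' := ⟨hS''H, hS''p, hS''idx⟩
      have hlt : R < T₁ := lt_of_le_of_ne hRT₁ (by
        intro h
        apply hyR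
        have hy1 : y ∈ T₁ := Subgroup.mem_inf.2 ⟨hyQ, hyN⟩
        have hy2 : y ∈ R := by rw [h]; exact hy1
        exact hy2)
      have hT₁le : T₁ ≤ S'' ⊓ lc x S' := le_inf hT₁S'' inf_le_left
      have hc1 : Nat.card R < Nat.card T₁ := card_lt_card_of_lt' hlt
      have hc2 : Nat.card T₁ ≤ Nat.card ↥(S'' ⊓ lc x S') := Subgroup.card_le_of_le hT₁le
      have hc3 : Nat.card ↥(S'' ⊓ lc x S') ≤ Nat.card S'' := Subgroup.card_le_of_le inf_le_left
      have hc4 : Nat.card S'' = Nat.card S := good_card_eq hS hS''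
      refine ih (Nat.card S'' - Nat.card ↥(S'' ⊓ lc x S')) ?_ S'' S' x hS'' hS' rfl
        ⟨A, (hAR.trans hRT₁).trans hT₁le, hA⟩
      omega

end main

/-- Let H be a subgroup of the finite group G, p a prime, k ≥ 1, and P a Sylow p-subgroup of H whose p-rank is at least k. Then N_G(X) ≤ H for every subgroup X of P of p-rank at least k if and only if H ∩ gHg⁻¹ has p-rank less than k for every g ∉ H. -/
theorem result {G : Type*} [Group G] [Finite G] {p : ℕ} [Fact p.Prime] (k : ℕ) (hk : 1 ≤ k) (H : Subgroup G) (P : Sylow p ↥H) (hP : ¬ Cfsg.PRankLE p (k - 1) ↥(P : Subgroup ↥H)) : (∀ X : Subgroup G, X ≤ (P : Subgroup ↥H).map H.subtype → ¬ Cfsg.PRankLE p (k - 1) ↥X → Subgroup.normalizer (X : Set G) ≤ H) ↔ (∀ g : G, g ∉ H → Cfsg.PRankLE p (k - 1) ↥(H ⊓ H.map (MulAut.conj g).toMonoidHom)) := by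
  constructor
  · intro hstar g hg
    by_contra hrank
    rw [not_pRankLE_iff] at hrank
    obtain ⟨A, hA1, hA⟩ := hrank
    apply hg
    have hstar' : ∀ X : Subgroup G, X ≤ (P : Subgroup ↥H).map H.subtype →
        (∃ A : Subgroup G, A ≤ X ∧ Big p (p ^ (k - 1)) A) →
        Subgroup.normalizer (X : Set G) ≤ H := by
      intro X hX hXA
      exact hstar X hX ((not_pRankLE_iff X).2 hXA)
    have hAp : IsPGroup p A := big_isPGroup hA
    obtain ⟨S₁, hAS₁, hS₁H, hS₁p, hS₁i⟩ := exists_sylowIn_ge hAp (hA1.trans inf_le_left)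
    have hA2 : lc g⁻¹ A ≤ H := by
      have h0 := lc_mono (g := g⁻¹) (hA1.trans inf_le_right)
      rwa [lc_inv_lc] at h0
    obtain ⟨S₂, hAS₂, hS₂H, hS₂p, hS₂i⟩ :=
      exists_sylowIn_ge (isPGroup_lc (g := g⁻¹) hAp) hA2
    have hAS₂' : A ≤ lc g S₂ := by
      have := lc_mono (g := g) hAS₂
      rwa [lc_lc_inv] at this
    exact main_aux (p ^ (k - 1)) H _ (good_sylow H P) hstar' _ S₁ S₂ g ⟨hS₁H, hS₁p, hS₁i⟩
      ⟨hS₂H, hS₂p, hS₂i⟩ rfl ⟨A, le_inf hAS₁ hAS₂', hA⟩
  · intro h X hX hXr n hn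
    by_contra hnH
    apply hXr
    have h1 := h n hnH
    by_contra hXr'
    rw [not_pRankLE_iff] at hXr'
    obtain ⟨A, hAX, hA⟩ := hXr'
    have h2 : ¬ Cfsg.PRankLE p (k - 1) ↥(H ⊓ H.map (MulAut.conj n).toMonoidHom) := by
      rw [not_pRankLE_iff]
      refine ⟨A, ?_, hA⟩
      have hXH : X ≤ H := hX.trans (Subgroup.map_subtype_le _)
      have hXn : lc n X = X := mem_normalizer_iff_lc.1 hn
      refine hAX.trans (le_inf hXH ?_)
      calc X = lc n X := hXn.symm
        _ ≤ lc n H := lc_mono hXH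
    exact h2 h1

end Cfsg.Agent.S1231
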