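import Cfsg.Statements.S1241
import Cfsg.Agent.Lib.Helper61.TransferMod
-- import your own Cfsg.Agent.* helpers here

set_option autoImplicit false
open Cfsg

namespace Cfsg.Agent.S1241

/-- Let G be a finite group, p a prime, H a subgroup of index prime to p, K a subgroup of H normal in H with H/K commutative, and g ∈ H ∖ K an element of p-power order such that for all integers m and all a ∈ G with a g^m a⁻¹ ∈ H one has a g^m a⁻¹ ∈ g^m K. Then g ∉ G'. -/
theorem result {G : Type*} [Group G] [Finite G] {p : ℕ} [Fact p.Prime] (H K : Subgroup G) (hHK : K ≤ H) (hKn : (K.subgroupOf H).Normal) (hab : ∀ x ∈ H, ∀ y ∈ H, x * y * x⁻¹ * y⁻¹ ∈ K) (hidx : Nat.Coprime p H.index) (g : G) (hgH : g ∈ H) (hgK : g ∉ K) (hgp : ∃ k : ℕ, orderOf g = p ^ k) (hctrl : ∀ (m : ℤ) (a : G), a * g ^ m * a⁻¹ ∈ H → (a * g ^ m * a⁻¹) * (g ^ m)⁻¹ ∈ K) : g ∉ commutator G := by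
  intro hgc
  letI : CommGroup (H ⧸ K.subgroupOf H) :=
    { (inferInstance : Group (H ⧸ K.subgroupOf H)) with
      mul_comm := by
        intro a b
        induction a using QuotientGroup.induction_on with
        | H a =>
        induction b using QuotientGroup.induction_on with
        | H b =>
        rw [← QuotientGroup.mk_mul, ← QuotientGroup.mk_mul, QuotientGroup.eq, Subgroup.mem_subgroupOf]
        have := hab (b⁻¹ : H) (b⁻¹ : H).2 (a⁻¹ : H) (a⁻¹ : H).2
        simpa [mul_assoc] using this }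
  set ϕ : H →* (H ⧸ K.subgroupOf H) := QuotientGroup.mk' (K.subgroupOf H) with hϕ
  have key : ∀ (k : ℕ) (g₀ : G) (hk : g₀⁻¹ * g ^ k * g₀ ∈ H),
      ϕ ⟨g₀⁻¹ * g ^ k * g₀, hk⟩ = ϕ ⟨g, hgH⟩ ^ k := by
    intro k g₀ hk
    have h1 := hctrl (k : ℤ) g₀⁻¹ (by simpa using hk)
    rw [← map_pow]
    have h2 : (⟨g₀⁻¹ * g ^ k * g₀, hk⟩ : H) * (⟨g, hgH⟩ ^ k)⁻¹ ∈ K.subgroupOf H := by
      rw [Subgroup.mem_subgroupOf]
      simpa using h1
    have h3 : ϕ ((⟨g₀⁻¹ * g ^ k * g₀, hk⟩ : H) * (⟨g, hgH⟩ ^ k)⁻¹) = 1 := by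
      rw [hϕ, QuotientGroup.mk'_apply, QuotientGroup.eq_one_iff]
      exact h2
    rw [map_mul, map_inv, mul_inv_eq_one] at h3
    exact h3
  have htr := Cfsg.Agent.Lib.Helper61.transfer_eq_pow_of_conj ϕ g hgH key
  have hker : MonoidHom.transfer ϕ g = 1 := by
    have := Abelianization.commutator_subset_ker (MonoidHom.transfer ϕ) hgc
    exact this
  rw [hker, ← map_pow] at htr
  have h4 : (⟨g, hgH⟩ : H) ^ H.index ∈ K.subgroupOf H := by
    have := htr.symm
    rwa [hϕ, QuotientGroup.mk'_apply, QuotientGroup.eq_one_iff] at this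
  rw [Subgroup.mem_subgroupOf] at h4
  have h5 : g ^ H.index ∈ K := by simpa using h4
  obtain ⟨k, hk⟩ := hgp
  apply hgK
  apply Cfsg.Agent.Lib.Helper61.mem_of_pow_mem_of_coprime_orderOf K g H.index _ h5
  rw [hk]
  exact Nat.Coprime.pow_left k hidx

end Cfsg.Agent.S1241
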