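import Cfsg.Statements.S1242
import Cfsg.Agent.Lib.Helper61.TransferMod
-- import your own Cfsg.Agent.* helpers here

set_option autoImplicit false
open Cfsg

namespace Cfsg.Agent.S1242

open scoped commutatorElement

theorem pow_mem_pResidual {H : Type*} [Group H] [Finite H] (p : ℕ) [hp : Fact p.Prime] (x : H) :
    ∃ a : ℕ, x ^ (p ^ a) ∈ Cfsg.pResidual p H := by
  have hn : orderOf x ≠ 0 := (orderOf_pos x).ne'
  obtain ⟨e, m, hm, hnm⟩ := Nat.exists_eq_pow_mul_and_not_dvd hn p hp.out.ne_one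
  refine ⟨e, Subgroup.subset_closure ?_⟩
  show Nat.Coprime (orderOf (x ^ p ^ e)) p
  have h1 : (x ^ p ^ e) ^ m = 1 := by
    rw [← pow_mul, ← hnm, pow_orderOf_eq_one]
  have h2 : orderOf (x ^ p ^ e) ∣ m := orderOf_dvd_of_pow_eq_one h1
  have h3 : Nat.Coprime m p := ((Nat.Prime.coprime_iff_not_dvd hp.out).mpr hm).symm
  exact Nat.Coprime.coprime_dvd_left h2 h3

theorem mem_of_pows_mem {G : Type*} [Group G] (K : Subgroup G) (x : G) (m n : ℕ) (h : Nat.Coprime m n)
    (hm : x ^ m ∈ K) (hn : x ^ n ∈ K) : x ∈ K := by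
  have h1 : (x ^ m) ^ (Nat.gcdA m n) * (x ^ n) ^ (Nat.gcdB m n) = x := by
    rw [← zpow_natCast x m, ← zpow_natCast x n, ← zpow_mul, ← zpow_mul, ← zpow_add,
      ← Nat.gcd_eq_gcd_ab, h]
    simp
  rw [← h1]
  exact K.mul_mem (K.zpow_mem hm _) (K.zpow_mem hn _)


/-- Let G be a finite group, p a prime and H a subgroup of index prime to p such that any two elements of H of p-power order that are conjugate in G are conjugate in H. Then (O^p(G)·G') ∩ H = O^p(H)·H', where O^p denotes the subgroup generated by the elements of order prime to p. -/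
theorem result {G : Type*} [Group G] [Finite G] {p : ℕ} [Fact p.Prime] (H : Subgroup G) (hidx : Nat.Coprime p H.index) (hfus : ∀ g ∈ H, (∃ k : ℕ, orderOf g = p ^ k) → ∀ a : G, a * g * a⁻¹ ∈ H → ∃ h ∈ H, h * g * h⁻¹ = a * g * a⁻¹) : (Cfsg.pResidual p G ⊔ commutator G) ⊓ H = (Cfsg.pResidual p ↥H ⊔ commutator ↥H).map H.subtype := by
  classical
  set M : Subgroup H := Cfsg.pResidual p ↥H ⊔ commutator ↥H with hM
  have hcM : commutator ↥H ≤ M := le_sup_right
  have hMn : M.Normal := Subgroup.Normal.of_commutator_le _ hcM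
  let _inst : CommGroup (↥H ⧸ M) :=
    { (inferInstance : Group (↥H ⧸ M)) with
      mul_comm := by
        intro a b
        induction a using QuotientGroup.induction_on with
        | H a =>
        induction b using QuotientGroup.induction_on with
        | H b =>
        rw [← QuotientGroup.mk_mul, ← QuotientGroup.mk_mul, QuotientGroup.eq]
        apply hcM
        have : (a * b)⁻¹ * (b * a) = ⁅b⁻¹, a⁻¹⁆ := by
          rw [commutatorElement_def]; group
        rw [this]
        exact Subgroup.commutator_mem_commutator (Subgroup.mem_top _) (Subgroup.mem_top _) }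
  set ϕ : ↥H →* (↥H ⧸ M) := QuotientGroup.mk' M with hϕ
  set V : G →* (↥H ⧸ M) := MonoidHom.transfer ϕ with hV
  -- the quotient is a p-group
  have hquot : ∀ y : ↥H ⧸ M, ∃ a : ℕ, y ^ (p ^ a) = 1 := by
    intro y
    induction y using QuotientGroup.induction_on with
    | H y =>
    obtain ⟨a, ha⟩ := pow_mem_pResidual p y
    refine ⟨a, ?_⟩
    rw [← QuotientGroup.mk_pow, QuotientGroup.eq_one_iff]
    exact le_sup_left (a := Cfsg.pResidual p ↥H) ha
  -- p'-elements die under V
  have hV1 : ∀ g : G, Nat.Coprime (orderOf g) p → V g = 1 := by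
    intro g hg
    obtain ⟨a, ha⟩ := hquot (V g)
    have h1 : (V g) ^ (orderOf g) = 1 := by rw [← map_pow, pow_orderOf_eq_one, map_one]
    have h2 : orderOf (V g) ∣ p ^ a := orderOf_dvd_of_pow_eq_one ha
    have h3 : orderOf (V g) ∣ orderOf g := orderOf_dvd_of_pow_eq_one h1
    have h4 : orderOf (V g) ∣ Nat.gcd (orderOf g) (p ^ a) := Nat.dvd_gcd h3 h2
    have h5 : Nat.gcd (orderOf g) (p ^ a) = 1 := Nat.Coprime.pow_right a hg
    rw [h5, Nat.dvd_one, orderOf_eq_one_iff] at h4
    exact h4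
  have hker : Cfsg.pResidual p G ⊔ commutator G ≤ V.ker := by
    apply sup_le
    · rw [Cfsg.pResidual, Subgroup.closure_le]
      intro g hg
      exact hV1 g hg
    · exact Abelianization.commutator_subset_ker V
  -- key: p-elements y of H have V y = ϕ y ^ index
  have hVp : ∀ (y : G) (hy : y ∈ H), (∃ k : ℕ, orderOf y = p ^ k) →
      V y = ϕ ⟨y, hy⟩ ^ H.index := by
    intro y hy hyp
    apply Cfsg.Agent.Lib.Helper61.transfer_eq_pow_of_conj ϕ y hy
    intro k g₀ hk
    have hyk : y ^ k ∈ H := H.pow_mem hy k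
    have hykp : ∃ j : ℕ, orderOf (y ^ k) = p ^ j := by
      obtain ⟨k', hk'⟩ := hyp
      have : orderOf (y ^ k) ∣ p ^ k' := hk' ▸ orderOf_pow_dvd k
      obtain ⟨j, _, hj⟩ := (Nat.dvd_prime_pow (Fact.out : p.Prime)).mp this
      exact ⟨j, hj⟩
    obtain ⟨h, hh, hconj⟩ := hfus (y ^ k) hyk hykp g₀⁻¹ (by simpa using hk)
    have e1 : (⟨g₀⁻¹ * y ^ k * g₀, hk⟩ : ↥H) = ⟨h, hh⟩ * (⟨y, hy⟩ ^ k) * ⟨h, hh⟩⁻¹ := by
      apply Subtype.ext
      simp only [Subgroup.coe_mul, Subgroup.coe_pow, Subgroup.coe_inv]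
      rw [hconj]; simp
    rw [e1, map_mul, map_mul, map_inv, map_pow, mul_comm, inv_mul_cancel_left]
  apply le_antisymm
  · -- hard direction
    intro x hx
    obtain ⟨hx1, hxH⟩ := hx
    have hVx : V x = 1 := hker hx1
    have hn : orderOf x ≠ 0 := (orderOf_pos x).ne'
    obtain ⟨e, m, hm, hnm⟩ := Nat.exists_eq_pow_mul_and_not_dvd hn p (Fact.out : p.Prime).ne_one
    have hcop : Nat.Coprime m p := ((Nat.Prime.coprime_iff_not_dvd (Fact.out : p.Prime)).mpr hm).symm
    -- x^(p^e) is a p'-element of H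
    have hA : x ^ (p ^ e) ∈ M.map H.subtype := by
      refine ⟨⟨x ^ p ^ e, H.pow_mem hxH _⟩, ?_, rfl⟩
      apply le_sup_left (a := Cfsg.pResidual p ↥H)
      apply Subgroup.subset_closure
      show Nat.Coprime (orderOf (⟨x ^ p ^ e, H.pow_mem hxH _⟩ : ↥H)) p
      have h1 : (⟨x ^ p ^ e, H.pow_mem hxH _⟩ : ↥H) ^ m = 1 := by
        apply Subtype.ext
        simp only [Subgroup.coe_pow, Subgroup.coe_one]
        rw [← pow_mul, ← hnm, pow_orderOf_eq_one]
      exact Nat.Coprime.coprime_dvd_left (orderOf_dvd_of_pow_eq_one h1) hcop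
    -- x^m is a p-element of H with trivial transfer
    have hB : x ^ m ∈ M.map H.subtype := by
      have hy : x ^ m ∈ H := H.pow_mem hxH m
      have hyp : ∃ k : ℕ, orderOf (x ^ m) = p ^ k := by
        have h1 : (x ^ m) ^ (p ^ e) = 1 := by
          rw [← pow_mul, mul_comm, ← hnm, pow_orderOf_eq_one]
        obtain ⟨j, _, hj⟩ := (Nat.dvd_prime_pow (Fact.out : p.Prime)).mp (orderOf_dvd_of_pow_eq_one h1)
        exact ⟨j, hj⟩
      have h2 := hVp (x ^ m) hy hyp
      have h3 : V (x ^ m) = 1 := by rw [map_pow, hVx, one_pow]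
      rw [h3, ← map_pow] at h2
      have h4 : (⟨x ^ m, hy⟩ : ↥H) ^ H.index ∈ M := by
        have := h2.symm
        rwa [hϕ, QuotientGroup.mk'_apply, QuotientGroup.eq_one_iff] at this
      have h5 : (x ^ m) ^ H.index ∈ M.map H.subtype := ⟨_, h4, by simp⟩
      obtain ⟨k, hk⟩ := hyp
      apply Cfsg.Agent.Lib.Helper61.mem_of_pow_mem_of_coprime_orderOf _ (x ^ m) H.index _ h5
      rw [hk]
      exact Nat.Coprime.pow_left k hidx
    exact mem_of_pows_mem _ x m (p ^ e) (Nat.Coprime.pow_right e hcop) hB hA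
  · -- easy direction
    rw [Subgroup.map_sup]
    apply sup_le
    · refine le_inf (le_trans ?_ le_sup_left) (Subgroup.map_subtype_le _)
      rw [Cfsg.pResidual, Subgroup.map_le_iff_le_comap, Subgroup.closure_le]
      intro y hy
      apply Subgroup.subset_closure
      show Nat.Coprime (orderOf (H.subtype y)) p
      rw [Subgroup.coe_subtype, Subgroup.orderOf_coe]
      exact hy
    · refine le_inf (le_trans ?_ le_sup_right) (Subgroup.map_subtype_le _)
      rw [commutator_def, commutator_def, Subgroup.map_commutator]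
      exact Subgroup.commutator_mono le_top le_top

end Cfsg.Agent.S1242
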