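import Cfsg.Statements.S1243

set_option autoImplicit false
open Cfsg

namespace Cfsg.Agent.S1243

open scoped Pointwise

/-- Two `p`-subgroups of a subgroup `C` can be conjugated inside `C` into a common Sylow
`p`-subgroup of `G`. -/
theorem common_sylow {G : Type*} [Group G] [Finite G] {p : ℕ} [Fact p.Prime]
    (C U V : Subgroup G) (hU : U ≤ C) (hV : V ≤ C) (hUp : IsPGroup p U) (hVp : IsPGroup p V) :
    ∃ c ∈ C, ∃ Q : Sylow p G, U ≤ Q ∧ ∀ v ∈ V, c * v * c⁻¹ ∈ (Q : Subgroup G) := by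
  have hU' : IsPGroup p (U.subgroupOf C) := hUp.comap_of_injective C.subtype C.subtype_injective
  have hV' : IsPGroup p (V.subgroupOf C) := hVp.comap_of_injective C.subtype C.subtype_injective
  obtain ⟨R, hR⟩ := hU'.exists_le_sylow
  obtain ⟨R', hR'⟩ := hV'.exists_le_sylow
  obtain ⟨c, hc⟩ := MulAction.exists_smul_eq C R' R
  have hRp : IsPGroup p ((R : Subgroup C).map C.subtype) := R.isPGroup'.map _
  obtain ⟨Q, hQ⟩ := hRp.exists_le_sylow
  refine ⟨c, c.2, Q, ?_, ?_⟩
  · intro u hu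
    apply hQ
    exact ⟨⟨u, hU hu⟩, hR (by simpa [Subgroup.mem_subgroupOf] using hu), rfl⟩
  · intro v hv
    apply hQ
    have h1 : (⟨v, hV hv⟩ : C) ∈ (R' : Subgroup C) :=
      hR' (by simpa [Subgroup.mem_subgroupOf] using hv)
    have h2 : c * ⟨v, hV hv⟩ * c⁻¹ ∈ ((c • R' : Sylow p C) : Subgroup C) := by
      rw [Sylow.coe_subgroup_smul, Subgroup.mem_pointwise_smul_iff_inv_smul_mem]
      simpa [MulAut.smul_def, mul_assoc] using h1
    rw [hc] at h2
    exact ⟨_, h2, by simp⟩

/-- Let T be a Sylow p-subgroup of the finite group G and W ≤ T a subgroup weakly closed in T. If d and g d g⁻¹ both centralize W, then g d g⁻¹ = h d h⁻¹ for some h ∈ N_G(W). -/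
theorem result {G : Type*} [Group G] [Finite G] {p : ℕ} [Fact p.Prime] (T : Sylow p G) (W : Subgroup G) (hW : Cfsg.IsWeaklyClosed W (T : Subgroup G)) (d g : G) (hd : d ∈ Subgroup.centralizer (W : Set G)) (hgd : g * d * g⁻¹ ∈ Subgroup.centralizer (W : Set G)) : ∃ h ∈ Subgroup.normalizer (W : Set G), h * d * h⁻¹ = g * d * g⁻¹ := by
  set e := g * d * g⁻¹ with he
  let C : Subgroup G := Subgroup.centralizer ({e} : Set G)
  have hWp : IsPGroup p W := T.isPGroup'.to_le hW.1
  have hWC : W ≤ C := by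
    intro w hw
    rw [Subgroup.mem_centralizer_iff]
    intro x hx
    rw [Set.mem_singleton_iff] at hx
    subst hx
    exact (Subgroup.mem_centralizer_iff.1 hgd w hw).symm
  have hVC : W.map (MulAut.conj g).toMonoidHom ≤ C := by
    rintro _ ⟨w, hw, rfl⟩
    rw [Subgroup.mem_centralizer_iff]
    intro x hx
    rw [Set.mem_singleton_iff] at hx
    subst hx
    have h1 : w * d = d * w := Subgroup.mem_centralizer_iff.1 hd w hw
    simp only [MulEquiv.coe_toMonoidHom, MulAut.conj_apply, he]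
    calc g * d * g⁻¹ * (g * w * g⁻¹) = g * (d * w) * g⁻¹ := by group
      _ = g * (w * d) * g⁻¹ := by rw [h1]
      _ = g * w * g⁻¹ * (g * d * g⁻¹) := by group
  obtain ⟨c, hcC, Q, hWQ, hVQ⟩ := common_sylow (p := p) C W (W.map (MulAut.conj g).toMonoidHom)
    hWC hVC hWp (hWp.map _)
  obtain ⟨k, hk⟩ := MulAction.exists_smul_eq G Q T
  -- k • Q = T
  have hmem : ∀ y : G, y ∈ (Q : Subgroup G) → k * y * k⁻¹ ∈ (T : Subgroup G) := by
    intro y hy
    rw [← hk, Sylow.coe_subgroup_smul, Subgroup.mem_pointwise_smul_iff_inv_smul_mem]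
    simpa [MulAut.smul_def, mul_assoc] using hy
  have hk1 : W.map (MulAut.conj k).toMonoidHom = W := by
    apply hW.2
    rintro _ ⟨w, hw, rfl⟩
    simpa using hmem w (hWQ hw)
  have hk2 : W.map (MulAut.conj (k * c * g)).toMonoidHom = W := by
    apply hW.2
    rintro _ ⟨w, hw, rfl⟩
    have h1 := hmem _ (hVQ (g * w * g⁻¹) ⟨w, hw, by simp⟩)
    have : (MulAut.conj (k * c * g)).toMonoidHom w = k * (c * (g * w * g⁻¹) * c⁻¹) * k⁻¹ := by
      simp only [MulEquiv.coe_toMonoidHom, MulAut.conj_apply]; group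
    rw [this]; exact h1
  have hkN : k ∈ Subgroup.normalizer (W : Set G) :=
    Subgroup.mem_normalizer_iff_map_conj_eq.2 hk1
  have hkcgN : k * c * g ∈ Subgroup.normalizer (W : Set G) :=
    Subgroup.mem_normalizer_iff_map_conj_eq.2 hk2
  refine ⟨c * g, ?_, ?_⟩
  · have : c * g = k⁻¹ * (k * c * g) := by group
    rw [this]
    exact Subgroup.mul_mem _ (Subgroup.inv_mem _ hkN) hkcgN
  · have h1 : e * c = c * e := by
      have := Subgroup.mem_centralizer_iff.1 hcC e (Set.mem_singleton e)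
      exact this
    calc c * g * d * (c * g)⁻¹ = c * e * c⁻¹ := by simp only [he]; group
      _ = e * c * c⁻¹ := by rw [h1]
      _ = e := by group

end Cfsg.Agent.S1243
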