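import Cfsg.Statements.S1244
import Cfsg.Agent.Lib.Helper42.AbelianSylow

set_option autoImplicit false
open Cfsg

namespace Cfsg.Agent.S1244

open Cfsg.Agent.Lib.Helper42
open scoped IsMulCommutative
set_option linter.style.haveILetI false
set_option linter.unusedSectionVars false

section aux
variable {G : Type*} [Group G]

/-- the elements of order dividing `2` of a commutative subgroup -/
def omega2 (S : Subgroup G) [IsMulCommutative S] : Subgroup G where
  carrier := {x | x ∈ S ∧ x ^ 2 = 1}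
  mul_mem' := by
    rintro a b ⟨ha, ha2⟩ ⟨hb, hb2⟩
    refine ⟨S.mul_mem ha hb, ?_⟩
    have hc : a * b = b * a := setLike_mul_comm ha hb
    rw [pow_two] at *
    calc a * b * (a * b) = a * (b * a) * b := by group
      _ = a * (a * b) * b := by rw [hc]
      _ = (a * a) * (b * b) := by group
      _ = 1 := by rw [ha2, hb2, one_mul]
  one_mem' := ⟨S.one_mem, one_pow 2⟩
  inv_mem' := by
    rintro a ⟨ha, ha2⟩
    exact ⟨S.inv_mem ha, by rw [inv_pow, ha2, inv_one]⟩

theorem mem_omega2 (S : Subgroup G) [IsMulCommutative S] (x : G) :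
    x ∈ omega2 S ↔ x ∈ S ∧ x ^ 2 = 1 := Iff.rfl

theorem omega2_le (S : Subgroup G) [IsMulCommutative S] : omega2 S ≤ S := fun _ h => h.1

theorem card_le_of_pRankLE (S : Subgroup G) [IsMulCommutative S] (T : Subgroup G) (hT : T ≤ S)
    (k : ℕ) (h : Cfsg.PRankLE 2 k T) : Nat.card (omega2 S ⊓ T : Subgroup G) ≤ 2 ^ k := by
  have h1 := h ((omega2 S ⊓ T).subgroupOf T) ?_ ?_
  · rwa [Nat.card_congr (Subgroup.subgroupOfEquivOfLe (inf_le_right : omega2 S ⊓ T ≤ T)).toEquiv]
      at h1
  · refine ⟨⟨fun a b => ?_⟩⟩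
    apply Subtype.ext
    apply Subtype.ext
    have ha := a.2
    have hb := b.2
    rw [Subgroup.mem_subgroupOf] at ha hb
    exact setLike_mul_comm (hT ha.2) (hT hb.2)
  · intro a ha
    rw [Subgroup.mem_subgroupOf] at ha
    apply Subtype.ext
    have := ha.1.2
    simpa using this

theorem lt_card_of_not_pRankLE (S : Subgroup G) [Finite S] [IsMulCommutative S] (T : Subgroup G)
    (hT : T ≤ S)
    (k : ℕ) (h : ¬ Cfsg.PRankLE 2 k T) : 2 ^ k < Nat.card (omega2 S ⊓ T : Subgroup G) := by
  unfold Cfsg.PRankLE at h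
  push Not at h
  obtain ⟨A, -, hA2, hAc⟩ := h
  have hle : A.map T.subtype ≤ omega2 S ⊓ T := by
    rintro _ ⟨a, ha, rfl⟩
    refine ⟨⟨hT a.2, ?_⟩, a.2⟩
    have := congrArg Subtype.val (hA2 a ha)
    simpa using this
  have hfin : Finite (omega2 S ⊓ T : Subgroup G) :=
    Finite.of_injective (fun x => (⟨x.1, x.2.1.1⟩ : S)) (fun x y hxy => by
      apply Subtype.ext
      exact congrArg (fun s : S => (s : G)) hxy)
  have h1 : Nat.card (A.map T.subtype) = Nat.card A :=
    Subgroup.card_map_of_injective T.subtype_injective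
  calc 2 ^ k < Nat.card A := hAc
    _ = Nat.card (A.map T.subtype) := h1.symm
    _ ≤ _ := Subgroup.card_le_of_le hle

end aux

/-- Let G be a finite group with no subgroup of index 2 whose Sylow 2-subgroup S is commutative, and let R ≤ S be a subgroup whose 2-rank is exactly one less than the 2-rank r of S. Then every involution of S is conjugate, by an element of N_G(S), to an element of R. -/
theorem result {G : Type*} [Group G] [Finite G] (hG : ∀ H : Subgroup G, H.index ≠ 2) (S : Sylow 2 G) (hS : IsMulCommutative (S : Subgroup G)) (r : ℕ) (hr1 : 1 ≤ r) (hSr : Cfsg.PRankLE 2 r (S : Subgroup G) ∧ ¬ Cfsg.PRankLE 2 (r - 1) (S : Subgroup G)) (R : Subgroup G) (hRS : R ≤ S) (hRr : Cfsg.PRankLE 2 (r - 1) R ∧ (r = 1 ∨ ¬ Cfsg.PRankLE 2 (r - 2) R)) (t : G) (ht : orderOf t = 2) (htS : t ∈ S) : ∃ n ∈ Subgroup.normalizer ((S : Subgroup G) : Set G), n * t * n⁻¹ ∈ R := by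
  classical
  haveI := hS
  by_contra hcon
  push Not at hcon
  have hpS : IsPGroup 2 (S : Subgroup G) := S.2
  -- the subgroups `V = Ω₁(S)` and `W = V ∩ R`
  have hVW : omega2 (S : Subgroup G) ⊓ R ≤ omega2 (S : Subgroup G) := inf_le_left
  have hVS : omega2 (S : Subgroup G) ⊓ (S : Subgroup G) = omega2 (S : Subgroup G) :=
    inf_eq_left.mpr (omega2_le _)
  have hpV : IsPGroup 2 (omega2 (S : Subgroup G)) := hpS.to_le (omega2_le _)
  have hpW : IsPGroup 2 (omega2 (S : Subgroup G) ⊓ R : Subgroup G) := hpV.to_le inf_le_left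
  obtain ⟨a, ha⟩ := IsPGroup.iff_card.mp hpV
  obtain ⟨b, hb⟩ := IsPGroup.iff_card.mp hpW
  have hV1 := card_le_of_pRankLE (S : Subgroup G) (S : Subgroup G) le_rfl r hSr.1
  have hV2 := lt_card_of_not_pRankLE (S : Subgroup G) (S : Subgroup G) le_rfl (r - 1) hSr.2
  rw [hVS, ha] at hV1 hV2
  have ha' : a = r := by
    have h1 : a ≤ r := (Nat.pow_le_pow_iff_right (by norm_num)).mp hV1
    have h2 : r - 1 < a := (Nat.pow_lt_pow_iff_right (by norm_num)).mp hV2
    omega
  have hW1 := card_le_of_pRankLE (S : Subgroup G) R hRS (r - 1) hRr.1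
  rw [hb] at hW1
  have hb1 : b ≤ r - 1 := (Nat.pow_le_pow_iff_right (by norm_num)).mp hW1
  have hb' : b = r - 1 := by
    rcases hRr.2 with h1 | h2
    · omega
    · have hW2 := lt_card_of_not_pRankLE (S : Subgroup G) R hRS (r - 2) h2
      rw [hb] at hW2
      have h3 : r - 2 < b := (Nat.pow_lt_pow_iff_right (by norm_num)).mp hW2
      omega
  -- index two
  have hrel : (omega2 (S : Subgroup G) ⊓ R).relIndex (omega2 (S : Subgroup G)) = 2 := by
    have h1 := Subgroup.relIndex_mul_relIndex ⊥ (omega2 (S : Subgroup G) ⊓ R)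
      (omega2 (S : Subgroup G)) bot_le hVW
    rw [Subgroup.relIndex_bot_left, Subgroup.relIndex_bot_left, ha, hb, ha', hb'] at h1
    have h2 : 2 ^ r = 2 ^ (r - 1) * 2 := by
      rw [← pow_succ]; congr 1; omega
    rw [h2] at h1
    exact Nat.eq_of_mul_eq_mul_left (pow_pos (by norm_num) _) h1
  -- conjugation action of `N_G(S)` on `G`
  letI act : MulAction (Subgroup.normalizer ((S : Subgroup G) : Set G)) G :=
    MulAction.compHom G
      ((MulAut.conj).comp (Subgroup.normalizer ((S : Subgroup G) : Set G)).subtype)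
  have hsmul : ∀ (n : Subgroup.normalizer ((S : Subgroup G) : Set G)) (x : G),
      n • x = (n : G) * x * (n : G)⁻¹ := fun n x => rfl
  have htV : t ∈ omega2 (S : Subgroup G) := ⟨htS, by rw [← ht]; exact pow_orderOf_eq_one t⟩
  have hconjV : ∀ n ∈ Subgroup.normalizer ((S : Subgroup G) : Set G),
      ∀ v ∈ omega2 (S : Subgroup G), n * v * n⁻¹ ∈ omega2 (S : Subgroup G) := by
    intro n hn v hv
    refine ⟨(Subgroup.mem_normalizer_iff.mp hn v).mp hv.1, ?_⟩
    rw [conj_pow, hv.2]; group
  have horbV : ∀ x ∈ MulAction.orbit (Subgroup.normalizer ((S : Subgroup G) : Set G)) t,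
      x ∈ omega2 (S : Subgroup G) := by
    rintro _ ⟨n, rfl⟩
    exact hconjV n n.2 t htV
  have horbR : ∀ x ∈ MulAction.orbit (Subgroup.normalizer ((S : Subgroup G) : Set G)) t,
      x ∉ R := by
    rintro _ ⟨n, rfl⟩
    exact hcon n n.2
  have hodd : Odd (MulAction.orbit (Subgroup.normalizer ((S : Subgroup G) : Set G)) t).ncard := by
    rw [← MulAction.index_stabilizer]
    have hle : (S : Subgroup G).subgroupOf (Subgroup.normalizer ((S : Subgroup G) : Set G)) ≤
        MulAction.stabilizer (Subgroup.normalizer ((S : Subgroup G) : Set G)) t := by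
      intro n hn
      rw [MulAction.mem_stabilizer_iff, hsmul]
      have := setLike_mul_comm (Subgroup.mem_subgroupOf.mp hn) htS
      rw [this]; group
    have h1 := Subgroup.index_dvd_of_le hle
    have h2 : ((S : Subgroup G).subgroupOf
        (Subgroup.normalizer ((S : Subgroup G) : Set G))).index ∣ (S : Subgroup G).index :=
      Subgroup.relIndex_dvd_index_of_le Subgroup.le_normalizer
    have h3 : ¬ 2 ∣ (S : Subgroup G).index := S.not_dvd_index
    rw [← Nat.not_even_iff_odd, even_iff_two_dvd]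
    exact fun h => h3 (h.trans (h1.trans h2))
  let O : Finset G :=
    (Set.toFinite (MulAction.orbit (Subgroup.normalizer ((S : Subgroup G) : Set G)) t)).toFinset
  have hOmem : ∀ x, x ∈ O ↔
      x ∈ MulAction.orbit (Subgroup.normalizer ((S : Subgroup G) : Set G)) t :=
    fun x => Set.Finite.mem_toFinset _
  have hOcard : O.card =
      (MulAction.orbit (Subgroup.normalizer ((S : Subgroup G) : Set G)) t).ncard :=
    (Set.ncard_eq_toFinset_card _ _).symm
  let f : G → omega2 (S : Subgroup G) :=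
    fun x => if h : x ∈ omega2 (S : Subgroup G) then ⟨x, h⟩ else 1
  haveI : IsMulCommutative (omega2 (S : Subgroup G)) :=
    ⟨⟨fun a b => Subtype.ext (setLike_mul_comm a.2.1 b.2.1)⟩⟩
  let z : omega2 (S : Subgroup G) := ∏ x ∈ O, f x
  have hzW : z ∉ (omega2 (S : Subgroup G) ⊓ R).subgroupOf (omega2 (S : Subgroup G)) := by
    rw [prod_mem_iff_even _ hrel O f ?_, hOcard]
    · exact Nat.not_even_iff_odd.mpr hodd
    · intro x hx
      have hxo := (hOmem x).mp hx
      simp only [f, dif_pos (horbV x hxo)]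
      rw [Subgroup.mem_subgroupOf]
      exact fun h => horbR x hxo h.2
  have hzinv : ∀ n ∈ Subgroup.normalizer ((S : Subgroup G) : Set G),
      n * (z : G) = (z : G) * n := by
    intro n hn
    let ψ : omega2 (S : Subgroup G) →* omega2 (S : Subgroup G) :=
      (((MulAut.conj n).toMonoidHom).comp (omega2 (S : Subgroup G)).subtype).codRestrict
        (omega2 (S : Subgroup G)) (fun v => hconjV n hn v v.2)
    have h1 : ψ z = z := by
      show ψ (∏ x ∈ O, f x) = ∏ x ∈ O, f x
      rw [map_prod]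
      apply Finset.prod_equiv (MulAut.conj n).toEquiv
      · intro x
        rw [hOmem, hOmem]
        constructor
        · rintro ⟨m, rfl⟩
          refine ⟨⟨n, hn⟩ * m, ?_⟩
          simp [hsmul, mul_assoc]
        · rintro ⟨m, hm⟩
          refine ⟨⟨n, hn⟩⁻¹ * m, ?_⟩
          have hm' : (m : G) * t * (m : G)⁻¹ = n * x * n⁻¹ := hm
          show ((⟨n, hn⟩⁻¹ * m : Subgroup.normalizer ((S : Subgroup G) : Set G)) : G) * t *
            ((⟨n, hn⟩⁻¹ * m : Subgroup.normalizer ((S : Subgroup G) : Set G)) : G)⁻¹ = x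
          simp only [Subgroup.coe_mul, Subgroup.coe_inv]
          calc n⁻¹ * (m : G) * t * (n⁻¹ * (m : G))⁻¹
              = n⁻¹ * ((m : G) * t * (m : G)⁻¹) * n := by group
            _ = x := by rw [hm']; group
      · intro x hx
        have hxo := (hOmem x).mp hx
        have hxV := horbV x hxo
        have hxV' : n * x * n⁻¹ ∈ omega2 (S : Subgroup G) := hconjV n hn x hxV
        apply Subtype.ext
        simp only [f, dif_pos hxV]
        show n * x * n⁻¹ = ((if h : n * x * n⁻¹ ∈ omega2 (S : Subgroup G) then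
          (⟨n * x * n⁻¹, h⟩ : omega2 (S : Subgroup G)) else 1 : omega2 (S : Subgroup G)) : G)
        rw [dif_pos hxV']
    have h2 : n * (z : G) * n⁻¹ = (z : G) := congrArg Subtype.val h1
    calc n * (z : G) = (n * (z : G) * n⁻¹) * n := by group
      _ = (z : G) * n := by rw [h2]
  have hz1 : (z : G) ≠ 1 := by
    intro h
    apply hzW
    have : z = 1 := Subtype.ext h
    rw [this]; exact Subgroup.one_mem _
  obtain ⟨H, hH⟩ := exists_index_eq_prime_of_central S (z : G) z.2.1 hz1 hzinv
  exact hG H hH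

end Cfsg.Agent.S1244
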