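import Cfsg.Statements.S1249

set_option autoImplicit false
open Cfsg

namespace Cfsg.Agent.S1249

/-- Let P and Q be Sylow p-subgroups of the finite group G both containing the subgroup A. If A is strongly closed in P, then A is strongly closed in Q. -/
theorem result {G : Type*} [Group G] [Finite G] {p : ℕ} [Fact p.Prime] (P Q : Sylow p G) (A : Subgroup G) (hAQ : A ≤ Q) (hA : Cfsg.IsStronglyClosed A (P : Subgroup G)) : Cfsg.IsStronglyClosed A (Q : Subgroup G) := by
  obtain ⟨h, hh⟩ := MulAction.exists_smul_eq G P Q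
  -- Q = h • P
  have hmem : ∀ y : G, y ∈ (Q : Subgroup G) ↔ h⁻¹ * y * h ∈ (P : Subgroup G) := by
    intro y
    rw [← hh, Sylow.coe_subgroup_smul, Subgroup.mem_pointwise_smul_iff_inv_smul_mem]
    simp [MulAut.smul_def, mul_assoc]
  -- h⁻¹ normalizes A
  have hsub : ∀ a ∈ A, h⁻¹ * a * h ∈ A := by
    intro a ha
    have h1 : h⁻¹ * a * h ∈ (P : Subgroup G) := (hmem a).1 (hAQ ha)
    have := hA.2 a ha h⁻¹ (by simpa using h1)
    simpa using this
  -- injective map A → A, hence surjective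
  have hsurj : ∀ a ∈ A, h * a * h⁻¹ ∈ A := by
    intro a ha
    let f : A → A := fun x => ⟨h⁻¹ * x * h, hsub x x.2⟩
    have hf : Function.Injective f := by
      intro x y hxy
      have : h⁻¹ * (x : G) * h = h⁻¹ * (y : G) * h := congrArg Subtype.val hxy
      apply Subtype.ext
      simpa using this
    have hs := Finite.surjective_of_injective hf
    obtain ⟨b, hb⟩ := hs ⟨a, ha⟩
    have hb' : h⁻¹ * (b : G) * h = a := congrArg Subtype.val hb
    have : h * a * h⁻¹ = b := by rw [← hb']; group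
    rw [this]; exact b.2
  refine ⟨hAQ, ?_⟩
  intro x hx g hg
  have h1 : h⁻¹ * (g * x * g⁻¹) * h ∈ (P : Subgroup G) := (hmem _).1 hg
  have h2 : (h⁻¹ * g) * x * (h⁻¹ * g)⁻¹ ∈ A := by
    apply hA.2 x hx
    have : (h⁻¹ * g) * x * (h⁻¹ * g)⁻¹ = h⁻¹ * (g * x * g⁻¹) * h := by group
    rw [this]; exact h1
  have h3 := hsurj _ h2
  have : h * ((h⁻¹ * g) * x * (h⁻¹ * g)⁻¹) * h⁻¹ = g * x * g⁻¹ := by group
  rwa [this] at h3

end Cfsg.Agent.S1249
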