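import Cfsg.Statements.S1250

set_option autoImplicit false
open Cfsg

namespace Cfsg.Agent.S1250

open scoped Pointwise

theorem sylow_conj_in_subgroup {G : Type*} [Group G] [Finite G] {p : ℕ} [Fact p.Prime]
    (S : Sylow p G) (H : Subgroup G) (hS : (S : Subgroup G) ≤ H) (c : G) (hcH : c ∈ H)
    (hc : IsPGroup p (Subgroup.zpowers c)) : ∃ y ∈ H, y * c * y⁻¹ ∈ (S : Subgroup G) := by
  let c' : H := ⟨c, hcH⟩
  have hc' : IsPGroup p (Subgroup.zpowers c') := by
    have : Subgroup.zpowers c' = (Subgroup.zpowers c).comap H.subtype := by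
      ext x
      simp only [Subgroup.mem_zpowers_iff, Subgroup.mem_comap, Subgroup.coe_subtype]
      constructor
      · rintro ⟨k, rfl⟩; exact ⟨k, by simp [c']⟩
      · rintro ⟨k, hk⟩; exact ⟨k, Subtype.ext (by simpa [c'] using hk)⟩
    rw [this]
    exact hc.comap_of_injective H.subtype H.subtype_injective
  obtain ⟨Q, hQ⟩ := hc'.exists_le_sylow
  obtain ⟨y, hy⟩ := MulAction.exists_smul_eq H Q (S.subtype hS)
  refine ⟨y, y.2, ?_⟩
  have h1 : c' ∈ (Q : Subgroup H) := hQ (Subgroup.mem_zpowers c')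
  have h2 : y * c' * y⁻¹ ∈ ((y • Q : Sylow p H) : Subgroup H) := by
    rw [Sylow.coe_subgroup_smul, Subgroup.mem_pointwise_smul_iff_inv_smul_mem]
    simpa [MulAut.smul_def, mul_assoc] using h1
  rw [hy] at h2
  have h3 : ((y * c' * y⁻¹ : H) : G) ∈ (S : Subgroup G) := by
    have := h2
    rw [Sylow.coe_subtype, Subgroup.mem_subgroupOf] at this
    exact this
  simpa [c'] using h3

/-- Let S be a Sylow p-subgroup of the finite group G, A ≤ S strongly closed in S, and N a normal subgroup. Then the image of A in G ⧸ N is strongly closed in the image of S (which is a Sylow p-subgroup of G ⧸ N). -/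
theorem result {G : Type*} [Group G] [Finite G] {p : ℕ} [Fact p.Prime] (S : Sylow p G) (A : Subgroup G) (hA : Cfsg.IsStronglyClosed A (S : Subgroup G)) (N : Subgroup G) [N.Normal] : Cfsg.IsStronglyClosed (A.map (QuotientGroup.mk' N)) ((S : Subgroup G).map (QuotientGroup.mk' N)) := by
  refine ⟨Subgroup.map_mono hA.1, ?_⟩
  rintro _ ⟨a, ha, rfl⟩ gbar hg
  obtain ⟨g, rfl⟩ := QuotientGroup.mk'_surjective N gbar
  obtain ⟨s, hs, hs'⟩ := hg
  set c := g * a * g⁻¹ with hcdef
  have hsc : s⁻¹ * c ∈ N := by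
    have : (QuotientGroup.mk' N) s = (QuotientGroup.mk' N) c := by
      rw [hs']; simp [c]
    exact (QuotientGroup.eq).1 this
  have hcH : c ∈ (S : Subgroup G) ⊔ N := by
    have : c = s * (s⁻¹ * c) := by group
    rw [this]
    exact Subgroup.mul_mem _ (Subgroup.mem_sup_left hs) (Subgroup.mem_sup_right hsc)
  have hcp : IsPGroup p (Subgroup.zpowers c) := by
    have ha' : IsPGroup p (Subgroup.zpowers a) :=
      S.isPGroup'.to_le ((Subgroup.zpowers_le).2 (hA.1 ha))
    have : Subgroup.zpowers c = (Subgroup.zpowers a).map (MulAut.conj g).toMonoidHom := by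
      rw [MonoidHom.map_zpowers]; simp [c]
    rw [this]
    exact ha'.map _
  obtain ⟨y, hyH, hy⟩ := sylow_conj_in_subgroup S _ le_sup_left c hcH hcp
  have hyH' : y ∈ ((S : Subgroup G) : Set G) * (N : Set G) := by
    rw [← Subgroup.mul_normal]; exact hyH
  obtain ⟨s', hs'S, n', hn'N, rfl⟩ := hyH'
  have h4 : n' * c * n'⁻¹ ∈ (S : Subgroup G) := by
    have : n' * c * n'⁻¹ = s'⁻¹ * (s' * n' * c * (s' * n')⁻¹) * s' := by group
    rw [this]
    exact Subgroup.mul_mem _ (Subgroup.mul_mem _ (Subgroup.inv_mem _ hs'S) hy) hs'S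
  have h5 : (n' * g) * a * (n' * g)⁻¹ ∈ A := by
    apply hA.2 a ha
    have : (n' * g) * a * (n' * g)⁻¹ = n' * c * n'⁻¹ := by simp only [c]; group
    rw [this]; exact h4
  refine ⟨(n' * g) * a * (n' * g)⁻¹, h5, ?_⟩
  have hn1 : (QuotientGroup.mk' N) n' = 1 := (QuotientGroup.eq_one_iff n').2 hn'N
  simp only [map_mul, map_inv, hn1, one_mul]

end Cfsg.Agent.S1250
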