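import Cfsg.Statements.S1255
import Cfsg.Agent.Lib.Helper59.DihedralSimple

set_option autoImplicit false
open Cfsg
open Cfsg.Agent.Lib.Helper59

namespace Cfsg.Agent.S1255

/-- Let X be a finite group whose Sylow 2-subgroup S is dihedral of order 2m ≥ 4. Then X has no subgroup of index 2 and no isolated involution if and only if either all involutions of X are conjugate, or for every Klein four-subgroup U ≤ S the index |N_X(U) : C_X(U)| equals 3 when |S| = 4 and equals 6 when |S| > 4. -/
theorem result {X : Type*} [Group X] [Finite X] (S : Sylow 2 X) (m : ℕ) (hm : 2 ≤ m) (eS : (S : Subgroup X) ≃* DihedralGroup m) : ((∀ H : Subgroup X, H.index ≠ 2) ∧ (∀ z : X, ¬ Cfsg.IsIsolatedInvolution z)) ↔ ((∀ a b : X, orderOf a = 2 → orderOf b = 2 → IsConj a b) ∨ (∀ U : Subgroup X, U ≤ S → IsKleinFour U → (Subgroup.centralizer (U : Set X)).relIndex (Subgroup.normalizer (U : Set X)) = (if Nat.card S = 4 then 3 else 6))) := by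
  have hf2 : Fact (Nat.Prime 2) := ⟨Nat.prime_two⟩
  have hcard : Nat.card (S : Subgroup X) = 2 * m := by
    rw [Nat.card_congr eS.toEquiv, DihedralGroup.nat_card]
  obtain ⟨n, hn⟩ := S.2.exists_card_eq
  have hn1 : n ≠ 0 := by
    rintro rfl
    rw [hcard, pow_zero] at hn
    omega
  obtain ⟨n', rfl⟩ : ∃ n', n = n' + 1 := ⟨n - 1, by omega⟩
  have hm' : m = 2 ^ n' := by
    rw [hcard, pow_succ] at hn
    omega
  subst hm'
  rcases n' with _ | _ | k
  · norm_num at hm
  · -- the four-group case
    have h2 : (2 : ℕ) ^ (0 + 1) = 2 := by norm_num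
    rw [h2] at eS hcard
    have hK : IsKleinFour (S : Subgroup X) := Cfsg.Agent.S1203.isKleinFour_of_mulEquiv eS
    have h4 : Nat.card (S : Subgroup X) = 4 := hcard
    rcases klein_sylow_relIndex S hK with h1 | h3
    · obtain ⟨⟨H, hH⟩, hnall⟩ := klein_sylow_one S hK h1
      constructor
      · rintro ⟨hi2, -⟩
        exact absurd hH (hi2 H)
      · rintro (hall | hU)
        · exact absurd hall hnall
        · have := hU S le_rfl hK
          rw [if_pos h4, h1] at this
          norm_num at this
    · obtain ⟨hall, hidx, hiso⟩ := klein_sylow_three S hK h3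
      exact ⟨fun _ => Or.inl hall, fun _ => ⟨hidx, hiso⟩⟩
  · -- the dihedral case
    obtain ⟨j, hj, hr⟩ := exists_dih_embedding S k eS
    have h := qdModel_QD k
    have h8 : Nat.card (S : Subgroup X) ≠ 4 := by
      rw [hcard]
      have : 4 ≤ 2 ^ (k + 1 + 1) := by
        have : 2 ^ (k + 1 + 1) = 4 * 2 ^ k := by ring
        have := Nat.one_le_two_pow (n := k)
        omega
      omega
    have h2X : 2 ∣ Nat.card X := by
      have := (S : Subgroup X).card_subgroup_dvd_card
      rw [hcard] at this
      exact dvd_trans (Dvd.intro _ rfl) this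
    have tri := dihedral_trichotomy S h j hj hr
    constructor
    · rintro ⟨hi2, hiso⟩
      left
      rcases tri with ⟨hc1, -⟩ | ⟨-, ⟨N, hN, hNi⟩, -⟩ | ⟨-, hcomp⟩
      · have hsub := (Nat.card_eq_one_iff_unique.mp hc1).1
        intro a b ha hb
        have := Subsingleton.elim
          (⟨ConjClasses.mk a, a, rfl, ha⟩ :
            {C : ConjClasses X // ∃ g : X, ConjClasses.mk g = C ∧ orderOf g = 2})
          ⟨ConjClasses.mk b, b, rfl, hb⟩
        exact ConjClasses.mk_eq_mk_iff_isConj.mp (congrArg Subtype.val this)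
      · exact absurd hNi (hi2 N)
      · obtain ⟨H, hH⟩ := exists_index_two_of_normalPComplement hcomp h2X
        exact absurd hH (hi2 H)
    · intro hR
      have hall : ∀ a b : X, orderOf a = 2 → orderOf b = 2 → IsConj a b := by
        rcases hR with hall | hU
        · exact hall
        · apply dih_all_conj_of_six S h j hj hr
          intro U hUS hUK
          have := hU U hUS hUK
          rw [if_neg h8] at this
          exact this
      obtain ⟨a, b, hoa, hob, hab, hne⟩ := dih_exists_commuting_invols S h j hj hr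
      refine ⟨?_, not_isolated_of_all_conj hall a b hoa hob hab hne⟩
      have hc1 := card_classes_eq_one' 2 a hoa (fun t ht => hall t a ht hoa)
      rcases tri with ⟨-, hno⟩ | ⟨hc2, -⟩ | ⟨hc3, -⟩
      · intro H hH
        exact hno H (Subgroup.normal_of_index_eq_two hH) hH
      · omega
      · omega

end Cfsg.Agent.S1255
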