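import Cfsg.Statements.S1256
import Cfsg.Agent.Lib.Helper59.DihedralKlein

set_option autoImplicit false
open Cfsg
open Cfsg.Agent.Lib.Helper59

namespace Cfsg.Agent.S1256

/-- Let X be a finite group whose Sylow 2-subgroup S is dihedral of order 2m ≥ 4. If |S| = 4, any two Klein four-subgroups of X are conjugate; if |S| > 4, there are Klein four-subgroups U₁, U₂ of X that are not conjugate, and every Klein four-subgroup of X is conjugate to U₁ or to U₂. -/
theorem result {X : Type*} [Group X] [Finite X] (S : Sylow 2 X) (m : ℕ) (hm : 2 ≤ m) (eS : (S : Subgroup X) ≃* DihedralGroup m) : (Nat.card S = 4 → ∀ U V : Subgroup X, IsKleinFour U → IsKleinFour V → (∃ x : X, U.map (MulAut.conj x).toMonoidHom = V)) ∧ (4 < Nat.card S → ∃ U₁ U₂ : Subgroup X, IsKleinFour U₁ ∧ IsKleinFour U₂ ∧ ¬ (∃ x : X, U₁.map (MulAut.conj x).toMonoidHom = U₂) ∧ ∀ V : Subgroup X, IsKleinFour V → (∃ x : X, V.map (MulAut.conj x).toMonoidHom = U₁) ∨ (∃ x : X, V.map (MulAut.conj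 x).toMonoidHom = U₂)) := by
  have hf2 : Fact (Nat.Prime 2) := ⟨Nat.prime_two⟩
  constructor
  · intro h4 U V hU hV
    exact klein_conj_of_card_four S h4 U V hU hV
  · intro h4
    have hcard : Nat.card (S : Subgroup X) = 2 * m := by
      rw [Nat.card_congr eS.toEquiv, DihedralGroup.nat_card]
    obtain ⟨n, hn⟩ := S.2.exists_card_eq
    have hn1 : n ≠ 0 := by
      rintro rfl
      rw [hcard, pow_zero] at hn
      omega
    obtain ⟨n', rfl⟩ : ∃ n', n = n' + 1 := ⟨n - 1, by omega⟩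
    have hm' : m = 2 ^ n' := by
      rw [hcard, pow_succ] at hn
      omega
    subst hm'
    rcases n' with _ | _ | k
    · norm_num at hm
    · exfalso
      have : Nat.card (S : Subgroup X) = 4 := by rw [hcard]; norm_num
      omega
    · obtain ⟨j, hj, hr⟩ := exists_dih_embedding S k eS
      have h := qdModel_QD k
      have hd8 := QD.two_dvd_8w k
      obtain ⟨zP, hz⟩ := exists_preimage S h j hr _
        ((h.x_mem_sub hd8 _ _).mpr (⟨2 * 2 ^ k, by ring⟩ : (2 : ℤ) ∣ 4 * 2 ^ k))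
      obtain ⟨yP, hy⟩ := exists_preimage S h j hr (_ ^ (0 : ℤ) * _)
        ((h.xy_mem_sub hd8 _ _).mpr (by simp))
      obtain ⟨vP, hv⟩ := exists_preimage S h j hr (_ ^ (2 : ℤ) * _)
        ((h.xy_mem_sub hd8 _ _).mpr (by simp))
      obtain ⟨H₀, hH₀P, hH₀K, hH₀T, -, -⟩ :=
        dih_exists_ktype S h j hj 0 (Or.inl rfl) zP yP hz hy
      obtain ⟨H₂, hH₂P, hH₂K, hH₂T, -, -⟩ :=
        dih_exists_ktype S h j hj 2 (Or.inr rfl) zP vP hz hv
      exact ⟨H₀, H₂, hH₀K, hH₂K,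
        dih_klein_not_conj S h j hj hr H₀ H₂ hH₀P hH₂P hH₀K hH₀T hH₂T,
        fun V hV => dih_klein_cases S h j hj hr H₀ H₂ hH₀P hH₂P hH₀T hH₂T V hV⟩

end Cfsg.Agent.S1256
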