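import Mathlib
import Cfsg.Statements.S1276
import Cfsg.Agent.Lib.Helper29.PComponent

set_option autoImplicit false
open Cfsg

namespace Cfsg.Agent.S1276

open Cfsg.Agent.Lib.Helper29

theorem commutator_map_subtype_eq_bot_iff {X : Type*} [Group X] (K : Subgroup X) (N : Subgroup K) :
    ⁅K, N.map K.subtype⁆ = ⊥ ↔ N ≤ Subgroup.center K := by
  rw [Subgroup.commutator_eq_bot_iff_le_centralizer]
  constructor
  · intro h n hn
    rw [Subgroup.mem_center_iff]
    intro k
    have h1 := h k.2
    rw [Subgroup.mem_centralizer_iff] at h1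
    have h2 := h1 n.1 ⟨n, hn, rfl⟩
    exact Subtype.ext h2.symm
  · intro h k hk
    rw [Subgroup.mem_centralizer_iff]
    rintro _ ⟨n, hn, rfl⟩
    have h1 := h hn
    rw [Subgroup.mem_center_iff] at h1
    have h2 := h1 ⟨k, hk⟩
    exact (congrArg Subtype.val h2).symm

/-- Let K be a 2-component of the finite group X. Then K is quasisimple if and only if ⁅K, O(K)⁆ = 1. -/
theorem result {X : Type*} [Group X] [Finite X] (K : Subgroup X) (hK : Cfsg.IsPComponent 2 K) : Cfsg.IsQuasisimple ↥K ↔ ⁅K, ((Cfsg.oddCore ↥K).map K.subtype)⁆ = ⊥ := by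
  haveI : Fact (Nat.Prime 2) := ⟨Nat.prime_two⟩
  rw [commutator_map_subtype_eq_bot_iff]
  constructor
  · intro hqs
    rcases qs_normal_le_center_or_eq_top hqs (pPrimeCore 2 K) with h | h
    · exact h
    · exfalso
      have h1 : (Nat.card (pPrimeCore 2 K)).Coprime 2 := pPrimeCore_coprime 2
      rw [h, Subgroup.card_top] at h1
      have h2 := pcomp_dvd_card 2 K hK
      rw [Nat.coprime_comm, Nat.Prime.coprime_iff_not_dvd Nat.prime_two] at h1
      exact h1 h2
  · intro h
    have hperf : commutator K = ⊤ := by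
      have := pcomp_perfect 2 K hK
      have h2 : Group.IsPerfect K := Subgroup.isPerfect_iff.mpr this
      exact h2.commutator_eq_top
    exact qs_of_quotient_central hperf (pPrimeCore 2 K) h (pcomp_quotient_core_qs 2 K hK)

end Cfsg.Agent.S1276
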