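import Mathlib
import Cfsg.Statements.S1277
import Cfsg.Agent.Lib.Helper29.PCompNormal

set_option autoImplicit false
open Cfsg

namespace Cfsg.Agent.S1277

open Cfsg.Agent.Lib.Helper29

theorem ker_subgroupMap_mk'_eq {X : Type*} [Group X] (N : Subgroup X) [N.Normal] (L : Subgroup X) :
    ((QuotientGroup.mk' N).subgroupMap L).ker = N.subgroupOf L := by
  ext x
  rw [MonoidHom.mem_ker, Subgroup.mem_subgroupOf]
  constructor
  · intro h
    have := congrArg Subtype.val h
    simp only [MonoidHom.subgroupMap_apply_coe, Subgroup.coe_one] at this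
    rwa [QuotientGroup.mk'_apply, QuotientGroup.eq_one_iff] at this
  · intro h
    apply Subtype.ext
    simp only [MonoidHom.subgroupMap_apply_coe, Subgroup.coe_one]
    rwa [QuotientGroup.mk'_apply, QuotientGroup.eq_one_iff]

/-- The image of a component modulo a normal subgroup is trivial or a component. -/
theorem map_component_le_layer {X : Type*} [Group X] (N : Subgroup X) [N.Normal] (L : Subgroup X)
    (hL : IsComponent L) : L.map (QuotientGroup.mk' N) ≤ layer (X ⧸ N) := by
  rcases qs_normal_le_center_or_eq_top hL.2 (N.subgroupOf L) with h | h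
  · apply le_sSup
    refine ⟨hL.1.map (QuotientGroup.mk'_surjective N), ?_⟩
    have hqs : IsQuasisimple (L ⧸ N.subgroupOf L) := qs_quotient_central hL.2 _ h
    have e1 : (L ⧸ N.subgroupOf L) ≃* (L ⧸ ((QuotientGroup.mk' N).subgroupMap L).ker) :=
      QuotientGroup.quotientMulEquivOfEq (ker_subgroupMap_mk'_eq N L).symm
    have e2 : (L ⧸ ((QuotientGroup.mk' N).subgroupMap L).ker) ≃* L.map (QuotientGroup.mk' N) :=
      QuotientGroup.quotientKerEquivOfSurjective _ ((QuotientGroup.mk' N).subgroupMap_surjective L)
    exact qs_of_mulEquiv (e1.trans e2) hqs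
  · rw [Subgroup.subgroupOf_eq_top] at h
    have : L.map (QuotientGroup.mk' N) = ⊥ := by
      rw [eq_bot_iff]
      rintro _ ⟨x, hx, rfl⟩
      rw [Subgroup.mem_bot, QuotientGroup.mk'_apply, QuotientGroup.eq_one_iff]
      exact h hx
    rw [this]
    exact bot_le

theorem map_layer_le_layer {X : Type*} [Group X] (N : Subgroup X) [N.Normal] :
    (layer X).map (QuotientGroup.mk' N) ≤ layer (X ⧸ N) := by
  rw [Subgroup.map_le_iff_le_comap]
  apply sSup_le
  intro L hL
  rw [← Subgroup.map_le_iff_le_comap]
  exact map_component_le_layer N L hL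

/-- For a finite group X with core O(X): the image of E(X) in X / O(X) is all of E(X / O(X)) if and only if every 2-component of X is a component, i.e. L_{2'}(X) ≤ E(X). -/
theorem result {X : Type*} [Group X] [Finite X] : (Cfsg.layer X).map (QuotientGroup.mk' (Cfsg.oddCore X)) = Cfsg.layer (X ⧸ Cfsg.oddCore X) ↔ Cfsg.pLayer 2 X ≤ Cfsg.layer X := by
  haveI : Fact (Nat.Prime 2) := ⟨Nat.prime_two⟩
  constructor
  · intro h
    apply sSup_le
    intro K hK
    have hK : IsPComponent 2 K := hK
    apply pcomp_le_of_map_le 2 K hK (layer X)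
      (Subgroup.Normal.isSubnormal Cfsg.Agent.Lib.Helper30.layer_normal)
    show K.map (QuotientGroup.mk' (pPrimeCore 2 X)) ≤ (layer X).map (QuotientGroup.mk' (oddCore X))
    rw [h]
    exact le_sSup hK.2.1
  · intro h
    apply le_antisymm (map_layer_le_layer _)
    have := map_pLayer_eq_layer (X := X) 2
    show layer (X ⧸ pPrimeCore 2 X) ≤ _
    rw [← this]
    exact Subgroup.map_mono h

end Cfsg.Agent.S1277
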