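import Mathlib
import Cfsg.Statements.S1278
import Cfsg.Agent.Lib.Helper29.PCompNormal
import Cfsg.Agent.S1276

set_option autoImplicit false
open Cfsg

namespace Cfsg.Agent.S1278

open Cfsg.Agent.Lib.Helper29

theorem commutator_le_left_of_le_normalizer {G : Type*} [Group G] (K L : Subgroup G)
    (h : L ≤ Subgroup.normalizer (K : Set G)) : ⁅K, L⁆ ≤ K := by
  rw [Subgroup.commutator_le]
  intro k hk l hl
  rw [commutatorElement_def]
  have h1 := h hl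
  rw [Subgroup.mem_normalizer_iff] at h1
  have h2 : l * k⁻¹ * l⁻¹ ∈ K := (h1 k⁻¹).mp (K.inv_mem hk)
  have e : k * l * k⁻¹ * l⁻¹ = k * (l * k⁻¹ * l⁻¹) := by group
  rw [e]
  exact K.mul_mem hk h2

theorem commutator_le_right_of_le_normalizer {G : Type*} [Group G] (K L : Subgroup G)
    (h : K ≤ Subgroup.normalizer (L : Set G)) : ⁅K, L⁆ ≤ L := by
  rw [Subgroup.commutator_comm]
  exact commutator_le_left_of_le_normalizer L K h

/-- Let K ≠ L be 2-components of the finite group X. Then ⁅K, L⁆ ≤ O(K) ⊓ O(L), and if K is quasisimple then ⁅K, L⁆ = 1. -/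
theorem result {X : Type*} [Group X] [Finite X] (K L : Subgroup X) (hK : Cfsg.IsPComponent 2 K) (hL : Cfsg.IsPComponent 2 L) (hne : K ≠ L) : ⁅K, L⁆ ≤ ((Cfsg.oddCore ↥K).map K.subtype) ⊓ ((Cfsg.oddCore ↥L).map L.subtype) ∧ (Cfsg.IsQuasisimple ↥K → ⁅K, L⁆ = ⊥) := by
  haveI : Fact (Nat.Prime 2) := ⟨Nat.prime_two⟩
  have hK' : ⁅K, L⁆ ≤ K :=
    commutator_le_left_of_le_normalizer K L (pcomp_le_normalizer 2 K L hK hL)
  have hL' : ⁅K, L⁆ ≤ L :=
    commutator_le_right_of_le_normalizer K L (pcomp_le_normalizer 2 L K hL hK)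
  have hO : ⁅K, L⁆ ≤ pPrimeCore 2 X := by
    apply mem_pPrimeCore_of_map_eq_bot 2
    rw [Subgroup.map_commutator]
    apply Cfsg.Agent.Lib.Helper30.component_commute hK.2.1 hL.2.1
    intro h
    exact hne (pcomp_unique 2 K L hK hL h)
  have hle : ⁅K, L⁆ ≤ ((Cfsg.oddCore ↥K).map K.subtype) ⊓ ((Cfsg.oddCore ↥L).map L.subtype) := by
    show ⁅K, L⁆ ≤ ((pPrimeCore 2 ↥K).map K.subtype) ⊓ ((pPrimeCore 2 ↥L).map L.subtype)
    rw [map_pPrimeCore_subtype_of_subnormal 2 K hK.1, map_pPrimeCore_subtype_of_subnormal 2 L hL.1]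
    exact le_inf (le_inf hK' hO) (le_inf hL' hO)
  refine ⟨hle, ?_⟩
  intro hqs
  have h1 : ⁅K, ((Cfsg.oddCore ↥K).map K.subtype)⁆ = ⊥ := (Cfsg.Agent.S1276.result K hK).mp hqs
  have h2 : ⁅⁅K, L⁆, K⁆ = ⊥ := by
    have h5 : ⁅⁅K, L⁆, K⁆ ≤ ⁅(Cfsg.oddCore ↥K).map K.subtype, K⁆ :=
      Subgroup.commutator_mono (hle.trans inf_le_left) le_rfl
    rw [Subgroup.commutator_comm ((Cfsg.oddCore ↥K).map K.subtype) K, h1] at h5
    exact le_bot_iff.mp h5
  have h3 : ⁅⁅L, K⁆, K⁆ = ⊥ := by rw [Subgroup.commutator_comm L K]; exact h2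
  have h4 : ⁅⁅K, K⁆, L⁆ = ⊥ := Subgroup.commutator_commutator_eq_bot_of_rotate h2 h3
  rwa [pcomp_perfect 2 K hK] at h4

end Cfsg.Agent.S1278
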