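import Mathlib
import Cfsg.Statements.S1279
import Cfsg.Agent.Lib.Helper29.CorePrime
import Cfsg.Agent.Lib.Helper29.Transitivity
-- import your own Cfsg.Agent.* helpers here

set_option autoImplicit false
open Cfsg

namespace Cfsg.Agent.S1279

theorem conj_mem_core {G : Type*} [Group G] (p : ℕ) (a g x : G)
    (hg : g ∈ Subgroup.centralizer ({a} : Set G)) (hx : x ∈ Cfsg.centralizerPPrimeCore p a) :
    g * x * g⁻¹ ∈ Cfsg.centralizerPPrimeCore p a := by
  obtain ⟨x', hx', rfl⟩ := hx
  have hn : (Cfsg.pPrimeCore p ↥(Subgroup.centralizer ({a} : Set G))).Normal := inferInstance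
  exact ⟨⟨g, hg⟩ * x' * ⟨g, hg⟩⁻¹, hn.conj_mem _ hx' _, rfl⟩

theorem core_le_centralizer {G : Type*} [Group G] (p : ℕ) (a : G) :
    Cfsg.centralizerPPrimeCore p a ≤ Subgroup.centralizer ({a} : Set G) :=
  Subgroup.map_subtype_le _

theorem card_core_coprime {G : Type*} [Group G] [Finite G] (p : ℕ) (a : G) :
    (Nat.card ↥(Cfsg.centralizerPPrimeCore p a)).Coprime p := by
  unfold Cfsg.centralizerPPrimeCore
  rw [Subgroup.card_map_of_injective (Subgroup.subtype_injective _)]
  exact Cfsg.Agent.Lib.Helper29.pPrimeCore_coprime p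

/-- Let A be a noncyclic elementary abelian p-subgroup of the finite group G such that C_G(a) is solvable for every non-identity a ∈ A. Then a ↦ O_{p'}(C_G(a)) is a solvable A-signalizer functor on G. -/
theorem result {G : Type*} [Group G] [Finite G] (p : ℕ) [Fact p.Prime] (A : Subgroup G) (hA : Cfsg.IsElementaryAbelian p A) (hA2 : p ^ 2 ≤ Nat.card ↥A) (hsolv : ∀ a ∈ A, a ≠ 1 → Group.IsSolvable ↥(Subgroup.centralizer ({a} : Set G))) : Cfsg.IsSolvableSignalizerFunctor p A (fun a => Cfsg.centralizerPPrimeCore p a) := by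
  have hcomm := Cfsg.Agent.Lib.Helper29.elemAb_comm p A hA
  have hmemC : ∀ a ∈ A, ∀ b ∈ A, b ∈ Subgroup.centralizer ({a} : Set G) := by
    intro a ha b hb
    rw [Subgroup.mem_centralizer_iff]
    intro y hy
    rw [Set.mem_singleton_iff] at hy
    subst hy
    exact hcomm y ha b hb
  refine ⟨⟨?_, ?_, ?_, ?_⟩, ?_⟩
  · intro a _ _
    exact core_le_centralizer p a
  · intro a _ _ hdvd
    have := card_core_coprime (G := G) p a
    rw [Nat.coprime_comm, Nat.Prime.coprime_iff_not_dvd (Fact.out : p.Prime)] at this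
    exact this hdvd
  · intro a ha _ b hb x hx
    exact conj_mem_core p a b x (hmemC a ha b hb) hx
  · intro a ha _ b hb hb1 x hx
    obtain ⟨hxa, hxb⟩ := hx
    have hxb : x ∈ Subgroup.centralizer ({b} : Set G) := hxb
    have hab : a ∈ Subgroup.centralizer ({b} : Set G) := hmemC b hb a ha
    have hsb : Group.IsSolvable ↥(Subgroup.centralizer ({b} : Set G)) := hsolv b hb hb1
    have hap : (⟨a, hab⟩ : ↥(Subgroup.centralizer ({b} : Set G))) ^ p = 1 :=
      Subtype.ext (hA.2 a ha)
    have hD : (Nat.card ↥((Cfsg.centralizerPPrimeCore p a).subgroupOf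
        (Subgroup.centralizer ({b} : Set G)))).Coprime p := by
      have h1 : Nat.card ↥((Cfsg.centralizerPPrimeCore p a).subgroupOf
          (Subgroup.centralizer ({b} : Set G))) =
          Nat.card ↥(Cfsg.centralizerPPrimeCore p a ⊓ Subgroup.centralizer ({b} : Set G)) := by
        rw [← Subgroup.subgroupOf_map_subtype,
          Subgroup.card_map_of_injective (Subgroup.subtype_injective _)]
      rw [h1]
      exact Nat.Coprime.coprime_dvd_left (Subgroup.card_dvd_of_le inf_le_left)
        (card_core_coprime p a)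
    have hDa : (Cfsg.centralizerPPrimeCore p a).subgroupOf (Subgroup.centralizer ({b} : Set G)) ≤
        Subgroup.centralizer ({(⟨a, hab⟩ : ↥(Subgroup.centralizer ({b} : Set G)))} : Set _) := by
      intro d hd
      have hd' : (d : G) ∈ Cfsg.centralizerPPrimeCore p a := hd
      have h2 := core_le_centralizer p a hd'
      rw [Subgroup.mem_centralizer_iff] at h2 ⊢
      intro y hy
      rw [Set.mem_singleton_iff] at hy
      subst hy
      exact Subtype.ext (h2 a rfl)
    have hDn : Subgroup.centralizer ({(⟨a, hab⟩ : ↥(Subgroup.centralizer ({b} : Set G)))} : Set _) ≤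
        Subgroup.normalizer (((Cfsg.centralizerPPrimeCore p a).subgroupOf
          (Subgroup.centralizer ({b} : Set G)) : Subgroup _) : Set _) := by
      intro y hy
      have hya : (y : G) ∈ Subgroup.centralizer ({a} : Set G) := by
        rw [Subgroup.mem_centralizer_iff] at hy ⊢
        intro z hz
        rw [Set.mem_singleton_iff] at hz
        subst hz
        exact congrArg Subtype.val (hy ⟨z, hab⟩ rfl)
      rw [Subgroup.mem_normalizer_iff]
      intro d
      constructor
      · intro hd
        exact conj_mem_core p a (y : G) (d : G) hya hd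
      · intro hd
        have hd' : (y : G) * (d : G) * (y : G)⁻¹ ∈ Cfsg.centralizerPPrimeCore p a := hd
        have := conj_mem_core p a (y : G)⁻¹ _ (Subgroup.inv_mem _ hya) hd'
        have e : (y : G)⁻¹ * ((y : G) * (d : G) * (y : G)⁻¹) * ((y : G)⁻¹)⁻¹ = (d : G) := by group
        rw [e] at this
        exact this
    have hle := Cfsg.Agent.Lib.Helper29.le_pPrimeCore_of_normal_in_centralizer_solvable p hsb
      ⟨a, hab⟩ hap _ hD hDa hDn
    have hxD : (⟨x, hxb⟩ : ↥(Subgroup.centralizer ({b} : Set G))) ∈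
        (Cfsg.centralizerPPrimeCore p a).subgroupOf (Subgroup.centralizer ({b} : Set G)) := hxa
    exact ⟨⟨x, hxb⟩, hle hxD, rfl⟩
  · intro a ha ha1
    have hsa : Group.IsSolvable ↥(Subgroup.centralizer ({a} : Set G)) := hsolv a ha ha1
    have h1 : Group.IsSolvable ↥(Cfsg.pPrimeCore p ↥(Subgroup.centralizer ({a} : Set G))) :=
      Group.isSolvable_of_isSolvable_injective (Subgroup.subtype_injective _)
    exact Group.isSolvable_of_surjective
      (f := (Subgroup.centralizer ({a} : Set G)).subtype.subgroupMap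
        (Cfsg.pPrimeCore p ↥(Subgroup.centralizer ({a} : Set G))))
      (MonoidHom.subgroupMap_surjective _ _)

end Cfsg.Agent.S1279
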