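import Mathlib
import Cfsg.Statements.S1281
import Cfsg.Agent.Lib.Helper29.Coprime

set_option autoImplicit false
open Cfsg

namespace Cfsg.Agent.S1281

open Cfsg.Agent.Lib.Helper29

/-- Let θ be a solvable A-signalizer functor on the finite group G (A a noncyclic elementary abelian p-subgroup) and N a normal subgroup of order prime to p. Then for all non-identity a, b ∈ A, the image of θ a in G / N meets the centralizer of the image of b inside the image of θ b. -/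
theorem result {G : Type*} [Group G] [Finite G] (p : ℕ) [Fact p.Prime] (A : Subgroup G) (hA : Cfsg.IsElementaryAbelian p A) (hA2 : p ^ 2 ≤ Nat.card ↥A) (θ : G → Subgroup G) (hθ : Cfsg.IsSolvableSignalizerFunctor p A θ) (N : Subgroup G) [N.Normal] (hN : ¬ p ∣ Nat.card ↥N) (a b : G) (ha : a ∈ A) (ha1 : a ≠ 1) (hb : b ∈ A) (hb1 : b ≠ 1) : (θ a).map (QuotientGroup.mk' N) ⊓ Subgroup.centralizer {QuotientGroup.mk' N b} ≤ (θ b).map (QuotientGroup.mk' N) := by
  rintro z ⟨hz1, hz2⟩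
  obtain ⟨x, hx, rfl⟩ := hz1
  have hx : x ∈ θ a := hx
  have hcomm : (QuotientGroup.mk' N b) * (QuotientGroup.mk' N x) =
      (QuotientGroup.mk' N x) * (QuotientGroup.mk' N b) :=
    Subgroup.mem_centralizer_iff.mp hz2 _ rfl
  obtain ⟨-, -, hinvθ, hbal⟩ := hθ.1
  have hbx : b * x * b⁻¹ ∈ θ a := hinvθ a ha ha1 b hb x hx
  have hN1 : x⁻¹ * (b * x * b⁻¹) ∈ N := by
    rw [← QuotientGroup.eq_one_iff, ← QuotientGroup.mk'_apply, map_mul, map_mul, map_mul, hcomm,
      map_inv, map_inv]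
    group
  set S : Set G := (fun t => x * t) '' ((θ a ⊓ N : Subgroup G) : Set G) with hS
  have hinv : ∀ s ∈ S, b * s * b⁻¹ ∈ S := by
    rintro s ⟨t, ht, rfl⟩
    have ht1 : t ∈ θ a := ht.1
    have ht2 : t ∈ N := ht.2
    refine ⟨(x⁻¹ * (b * x * b⁻¹)) * (b * t * b⁻¹), ⟨?_, ?_⟩, ?_⟩
    · exact (θ a).mul_mem ((θ a).mul_mem ((θ a).inv_mem hx) hbx) (hinvθ a ha ha1 b hb t ht1)
    · exact N.mul_mem hN1 (‹N.Normal›.conj_mem t ht2 b)
    · show x * ((x⁻¹ * (b * x * b⁻¹)) * (b * t * b⁻¹)) = b * (x * t) * b⁻¹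
      group
  have hcard : ¬ p ∣ Nat.card S := by
    rw [hS, Nat.card_image_of_injective (mul_right_injective x)]
    intro h
    apply hN
    exact h.trans (Subgroup.card_dvd_of_le (inf_le_right : θ a ⊓ N ≤ N))
  obtain ⟨y, ⟨t, ht, rfl⟩, hyb⟩ := exists_conj_fixed_of_pow_eq_one b (hA.2 b hb) S hinv hcard
  have ht1 : t ∈ θ a := ht.1
  have ht2 : t ∈ N := ht.2
  have hyθ : x * t ∈ θ a := (θ a).mul_mem hx ht1
  have hyc : x * t ∈ Subgroup.centralizer ({b} : Set G) := by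
    rw [Subgroup.mem_centralizer_iff]
    intro h hh
    rw [Set.mem_singleton_iff] at hh
    subst hh
    calc h * (x * t) = (h * (x * t) * h⁻¹) * h := by group
      _ = (x * t) * h := by rw [hyb]
  have hyθb : x * t ∈ θ b := hbal a ha ha1 b hb hb1 ⟨hyθ, hyc⟩
  refine ⟨x * t, hyθb, ?_⟩
  rw [map_mul]
  have : (QuotientGroup.mk' N) t = 1 := by
    rw [QuotientGroup.mk'_apply, QuotientGroup.eq_one_iff]; exact ht2
  rw [this, mul_one]

end Cfsg.Agent.S1281
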