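import Mathlib
import Cfsg.Statements.S1284
import Cfsg.Agent.Lib.Helper29.Transitivity2
-- import your own Cfsg.Agent.* helpers here

set_option autoImplicit false
open Cfsg

namespace Cfsg.Agent.S1284

/-- Let θ be a solvable A-signalizer functor on the finite group G, A elementary abelian of rank at least 3, q a prime dividing some |θ a|, and Q maximal among the q-subgroups in the family of θ. Then (a) for every member H of the family, some c in the intersection of the θ a (a ∈ A non-identity) makes c Q c⁻¹ ∩ H a Sylow q-subgroup of H; and (b) for every nontrivial subgroup B ≤ A, C_Q(B) is a Sylow q-subgroup of the intersection of the θ b over the non-identity b ∈ B. -/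
theorem result {G : Type*} [Group G] [Finite G] (p : ℕ) [Fact p.Prime] (A : Subgroup G) (hA : Cfsg.IsElementaryAbelian p A) (hA3 : p ^ 3 ≤ Nat.card ↥A) (θ : G → Subgroup G) (hθ : Cfsg.IsSolvableSignalizerFunctor p A θ) (q : ℕ) [Fact q.Prime] (hq : ∃ a ∈ A, a ≠ 1 ∧ q ∣ Nat.card ↥(θ a)) (Q : Subgroup G) (hQW : Q ∈ Cfsg.signalizerFamily p A θ) (hQq : IsPGroup q ↥Q) (hQmax : ∀ R ∈ Cfsg.signalizerFamily p A θ, IsPGroup q ↥R → Q ≤ R → R = Q) : (∀ H : Subgroup G, H ∈ Cfsg.signalizerFamily p A θ → ∃ c ∈ Cfsg.signalizerInf A θ, ∃ S : Sylow q ↥H, (S : Subgroup ↥H).map H.subtype = Q.map (MulAut.conj c).toMonoidHom ⊓ H) ∧ (∀ B : Subgroup G, B ≤ A → B ≠ ⊥ → ∃ S : Sylow q ↥(Cfsg.signalizerInf B θ), (S : Subgroup ↥(Cfsg.signalizerInf B θ)).map (Cfsg.signalizerInf B θ).subtype = Q ⊓ Subgroup.centralizer (B : Set G)) := by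
  have hqp : q ≠ p := by
    obtain ⟨a, ha, ha1, hdvd⟩ := hq
    intro h
    subst h
    exact hθ.1.2.1 a ha ha1 hdvd
  have hQ : Cfsg.Agent.Lib.Helper29.IsMaxQ p A θ q Q := ⟨hQW, hQq, hQmax⟩
  refine ⟨?_, ?_⟩
  · intro H hH
    obtain ⟨c, hc, hS⟩ := Cfsg.Agent.Lib.Helper29.exists_conj_inf_isSylowIn p A θ q hA hA3 hθ hqp Q hQ H hH
    exact ⟨c, hc, hS.toSylow, hS.toSylow_map⟩
  · intro B hBA hB
    have hH := Cfsg.Agent.Lib.Helper29.signalizerInf_mem_family p A θ hθ B hBA hB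
    obtain ⟨c, hc, hS⟩ := Cfsg.Agent.Lib.Helper29.exists_conj_inf_isSylowIn p A θ q hA hA3 hθ hqp Q hQ _ hH
    have hcH : c ∈ Cfsg.signalizerInf B θ := Cfsg.Agent.Lib.Helper29.signalizerInf_anti A θ B hBA hc
    have hS' : Cfsg.Agent.Lib.Helper01.IsSylowIn q ((Q.map (MulAut.conj c).toMonoidHom ⊓ Cfsg.signalizerInf B θ).map (MulAut.conj c⁻¹).toMonoidHom) (Cfsg.signalizerInf B θ) := hS.conj (a := c⁻¹) (Subgroup.le_normalizer (Subgroup.inv_mem _ hcH))
    have e : (Q.map (MulAut.conj c).toMonoidHom ⊓ Cfsg.signalizerInf B θ).map (MulAut.conj c⁻¹).toMonoidHom = Q ⊓ Subgroup.centralizer (B : Set G) := by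
      rw [← Cfsg.Agent.Lib.Helper29.inf_signalizerInf_eq p A θ hθ.1 Q hQW B hBA]
      ext x
      rw [Cfsg.Agent.Lib.Helper29.mem_map_conj_iff, Subgroup.mem_inf, Subgroup.mem_inf, Cfsg.Agent.Lib.Helper29.mem_map_conj_iff]
      simp only [inv_inv]
      have e1 : c⁻¹ * (c * x * c⁻¹) * c = x := by group
      rw [e1]
      constructor
      · rintro ⟨h1, h2⟩
        refine ⟨h1, ?_⟩
        have := Subgroup.mul_mem _ (Subgroup.mul_mem _ (Subgroup.inv_mem _ hcH) h2) hcH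
        rwa [e1] at this
      · rintro ⟨h1, h2⟩
        exact ⟨h1, Subgroup.mul_mem _ (Subgroup.mul_mem _ hcH h2) (Subgroup.inv_mem _ hcH)⟩
    rw [e] at hS'
    exact ⟨hS'.toSylow, hS'.toSylow_map⟩

end Cfsg.Agent.S1284
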