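import Mathlib
import Cfsg.Statements.S1285
import Cfsg.Agent.Lib.Helper29.Transitivity2
-- import your own Cfsg.Agent.* helpers here

set_option autoImplicit false
open Cfsg

namespace Cfsg.Agent.S1285

/-- Let θ be a solvable A-signalizer functor on the finite group G with A elementary abelian of rank at least 3, and suppose that for some prime q every θ a (a ∈ A non-identity) is a q-group. Then θ is complete. -/
theorem result {G : Type*} [Group G] [Finite G] (p : ℕ) [Fact p.Prime] (A : Subgroup G) (hA : Cfsg.IsElementaryAbelian p A) (hA3 : p ^ 3 ≤ Nat.card ↥A) (θ : G → Subgroup G) (hθ : Cfsg.IsSolvableSignalizerFunctor p A θ) (q : ℕ) [Fact q.Prime] (hq : ∀ a ∈ A, a ≠ 1 → IsPGroup q ↥(θ a)) : Cfsg.IsCompleteSignalizerFunctor p A θ := by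
  refine ⟨hθ.1, ?_⟩
  by_cases hex : ∃ a ∈ A, a ≠ 1 ∧ q ∣ Nat.card ↥(θ a)
  · have hqp : q ≠ p := by
      obtain ⟨a, ha, ha1, hdvd⟩ := hex
      intro h
      subst h
      exact hθ.1.2.1 a ha ha1 hdvd
    obtain ⟨Q, hQ, -⟩ := Cfsg.Agent.Lib.Helper29.exists_isMaxQ_ge p A θ q ⊥
      (Cfsg.Agent.Lib.Helper29.bot_mem_family p A θ) (IsPGroup.of_bot)
    refine ⟨Q, hQ.1.2.2.1, hQ.1.2.1, ?_⟩
    intro a ha ha1
    apply le_antisymm (hQ.1.2.2.2 a ha ha1)
    refine le_inf ?_ (hθ.1.1 a ha ha1)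
    have hfam := Cfsg.Agent.Lib.Helper29.theta_mem_family p A θ hθ a ha ha1
    obtain ⟨R, hR, hle⟩ := Cfsg.Agent.Lib.Helper29.exists_isMaxQ_ge p A θ q (θ a) hfam (hq a ha ha1)
    obtain ⟨c, hc, e⟩ := Cfsg.Agent.Lib.Helper29.transitivity_aux p A θ q hA hA3 hθ hqp
      (Nat.card G - Nat.card ↥(Q ⊓ R) + 1) Q R hQ hR (Nat.lt_succ_self _)
    have hca : c ∈ θ a := Cfsg.Agent.Lib.Helper29.signalizerInf_le A θ a ha ha1 hc
    intro x hx
    have h1 : c * x * c⁻¹ ∈ R := hle (Subgroup.mul_mem _ (Subgroup.mul_mem _ hca hx) (Subgroup.inv_mem _ hca))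
    rw [← e, Cfsg.Agent.Lib.Helper29.mem_map_conj_iff] at h1
    have e1 : c⁻¹ * (c * x * c⁻¹) * c = x := by group
    rwa [e1] at h1
  · refine ⟨⊥, ?_, ?_, ?_⟩
    · intro b _ u hu
      rw [Subgroup.mem_bot] at hu ⊢
      subst hu
      group
    · rw [Subgroup.card_bot]
      exact (Fact.out : p.Prime).not_dvd_one
    · intro a ha ha1
      rw [bot_inf_eq]
      symm
      rw [← Subgroup.card_eq_one]
      obtain ⟨n, hn⟩ := IsPGroup.iff_card.mp (hq a ha ha1)
      rcases Nat.eq_zero_or_pos n with h0 | hpos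
      · rw [hn, h0, pow_zero]
      · exfalso
        apply hex
        refine ⟨a, ha, ha1, ?_⟩
        rw [hn]
        exact dvd_pow_self q hpos.ne'

end Cfsg.Agent.S1285
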