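import Mathlib
import Cfsg.Statements.S1286

set_option autoImplicit false
open Cfsg

namespace Cfsg.Agent.S1286

abbrev X := Equiv.Perm (Fin 5)

def s : X := Equiv.swap 0 1
def t : X := Equiv.swap 2 3
def c1 : X := c[2, 3, 4]
def c2 : X := c[0, 1, 4]

def A : Subgroup X where
  carrier := {g | g = 1 ∨ g = s ∨ g = t ∨ g = s * t}
  mul_mem' := by
    rintro a b (rfl | rfl | rfl | rfl) (rfl | rfl | rfl | rfl) <;> decide
  one_mem' := Or.inl rfl
  inv_mem' := by
    rintro a (rfl | rfl | rfl | rfl) <;> decide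

def T1 : Subgroup X where
  carrier := {g | g = 1 ∨ g = c1 ∨ g = c1⁻¹}
  mul_mem' := by
    rintro a b (rfl | rfl | rfl) (rfl | rfl | rfl) <;> decide
  one_mem' := Or.inl rfl
  inv_mem' := by
    rintro a (rfl | rfl | rfl) <;> decide

def T2 : Subgroup X where
  carrier := {g | g = 1 ∨ g = c2 ∨ g = c2⁻¹}
  mul_mem' := by
    rintro a b (rfl | rfl | rfl) (rfl | rfl | rfl) <;> decide
  one_mem' := Or.inl rfl
  inv_mem' := by
    rintro a (rfl | rfl | rfl) <;> decide

def θ : X → Subgroup X := fun g => if g = s then T1 else if g = t then T2 else ⊥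

theorem θ_s : θ s = T1 := by simp [θ]
theorem θ_t : θ t = T2 := by
  have : t ≠ s := by decide
  simp [θ, this]
theorem θ_st : θ (s * t) = ⊥ := by
  have h1 : s * t ≠ s := by decide
  have h2 : s * t ≠ t := by decide
  simp [θ, h1, h2]

theorem mem_A {g : X} : g ∈ A ↔ g = 1 ∨ g = s ∨ g = t ∨ g = s * t := Iff.rfl
theorem mem_T1 {g : X} : g ∈ T1 ↔ g = 1 ∨ g = c1 ∨ g = c1⁻¹ := Iff.rfl
theorem mem_T2 {g : X} : g ∈ T2 ↔ g = 1 ∨ g = c2 ∨ g = c2⁻¹ := Iff.rfl

theorem mem_cent {a g : X} : g ∈ Subgroup.centralizer ({a} : Set X) ↔ a * g = g * a := by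
  rw [Subgroup.mem_centralizer_iff]
  constructor
  · intro h; exact h a rfl
  · intro h b hb
    rw [Set.mem_singleton_iff] at hb
    subst hb; exact h

theorem card_odd_of_pow_three {H : Subgroup X} (h : ∀ g ∈ H, g ^ 3 = 1) : ¬ 2 ∣ Nat.card H := by
  intro h2
  have : Fact (Nat.Prime 2) := ⟨Nat.prime_two⟩
  obtain ⟨g, hg⟩ := exists_prime_orderOf_dvd_card' 2 h2
  have h3 : g ^ 3 = 1 := Subtype.ext (h g.1 g.2)
  have : orderOf g ∣ 3 := orderOf_dvd_of_pow_eq_one h3
  rw [hg] at this
  omega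

theorem isSolvable_of_comm' {H : Subgroup X} (h : ∀ a ∈ H, ∀ b ∈ H, a * b = b * a) :
    Group.IsSolvable H :=
  Group.isSolvable_of_comm (fun a b => Subtype.ext (h a.1 a.2 b.1 b.2))

theorem isSF : Cfsg.IsSignalizerFunctor 2 A θ := by
  refine ⟨?_, ?_, ?_, ?_⟩
  · rintro a (rfl | rfl | rfl | rfl) ha1
    · exact absurd rfl ha1
    · rw [θ_s]
      rintro g (rfl | rfl | rfl) <;> rw [mem_cent] <;> decide
    · rw [θ_t]
      rintro g (rfl | rfl | rfl) <;> rw [mem_cent] <;> decide
    · rw [θ_st]; exact bot_le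
  · rintro a (rfl | rfl | rfl | rfl) ha1
    · exact absurd rfl ha1
    · rw [θ_s]
      apply card_odd_of_pow_three
      rintro g (rfl | rfl | rfl) <;> decide
    · rw [θ_t]
      apply card_odd_of_pow_three
      rintro g (rfl | rfl | rfl) <;> decide
    · rw [θ_st]
      apply card_odd_of_pow_three
      intro g hg
      rw [Subgroup.mem_bot] at hg
      subst hg; decide
  · rintro a (rfl | rfl | rfl | rfl) ha1
    · exact absurd rfl ha1
    · rw [θ_s]
      rintro b (rfl | rfl | rfl | rfl) g (rfl | rfl | rfl) <;> rw [mem_T1] <;> decide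
    · rw [θ_t]
      rintro b (rfl | rfl | rfl | rfl) g (rfl | rfl | rfl) <;> rw [mem_T2] <;> decide
    · rw [θ_st]
      intro b _ g hg
      rw [Subgroup.mem_bot] at hg
      subst hg
      simp
  · rintro a (rfl | rfl | rfl | rfl) ha1
    · exact absurd rfl ha1
    · rw [θ_s]
      rintro b (rfl | rfl | rfl | rfl) hb1
      · exact absurd rfl hb1
      · rw [θ_s]; exact inf_le_left
      · rw [θ_t]
        rintro g ⟨(rfl | rfl | rfl), hg2⟩
        · exact T2.one_mem
        · exfalso; have hg3 := mem_cent.mp hg2; revert hg3; decide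
        · exfalso; have hg3 := mem_cent.mp hg2; revert hg3; decide
      · rw [θ_st]
        rintro g ⟨(rfl | rfl | rfl), hg2⟩
        · exact Subgroup.one_mem _
        · exfalso; have hg3 := mem_cent.mp hg2; revert hg3; decide
        · exfalso; have hg3 := mem_cent.mp hg2; revert hg3; decide
    · rw [θ_t]
      rintro b (rfl | rfl | rfl | rfl) hb1
      · exact absurd rfl hb1
      · rw [θ_s]
        rintro g ⟨(rfl | rfl | rfl), hg2⟩
        · exact T1.one_mem
        · exfalso; have hg3 := mem_cent.mp hg2; revert hg3; decide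
        · exfalso; have hg3 := mem_cent.mp hg2; revert hg3; decide
      · rw [θ_t]; exact inf_le_left
      · rw [θ_st]
        rintro g ⟨(rfl | rfl | rfl), hg2⟩
        · exact Subgroup.one_mem _
        · exfalso; have hg3 := mem_cent.mp hg2; revert hg3; decide
        · exfalso; have hg3 := mem_cent.mp hg2; revert hg3; decide
    · rw [θ_st]
      intro b _ _
      exact inf_le_left.trans bot_le

theorem isSolvSF : Cfsg.IsSolvableSignalizerFunctor 2 A θ := by
  refine ⟨isSF, ?_⟩
  rintro a (rfl | rfl | rfl | rfl) ha1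
  · exact absurd rfl ha1
  · rw [θ_s]
    apply isSolvable_of_comm'
    rintro a (rfl | rfl | rfl) b (rfl | rfl | rfl) <;> decide
  · rw [θ_t]
    apply isSolvable_of_comm'
    rintro a (rfl | rfl | rfl) b (rfl | rfl | rfl) <;> decide
  · rw [θ_st]
    infer_instance

theorem not_complete : ¬ Cfsg.IsCompleteSignalizerFunctor 2 A θ := by
  rintro ⟨-, K, -, hK2, hKθ⟩
  have hs : s ∈ A := Or.inr (Or.inl rfl)
  have ht : t ∈ A := Or.inr (Or.inr (Or.inl rfl))
  have h1 := hKθ s hs (by decide)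
  have h2 := hKθ t ht (by decide)
  rw [θ_s] at h1
  rw [θ_t] at h2
  have hc1 : c1 ∈ K := by
    have : c1 ∈ T1 := Or.inr (Or.inl rfl)
    rw [← h1] at this
    exact this.1
  have hc2 : c2 ∈ K := by
    have : c2 ∈ T2 := Or.inr (Or.inl rfl)
    rw [← h2] at this
    exact this.1
  have hw : c1 * c2 * c1 * c2⁻¹ ∈ K :=
    K.mul_mem (K.mul_mem (K.mul_mem hc1 hc2) hc1) (K.inv_mem hc2)
  have hord : orderOf (c1 * c2 * c1 * c2⁻¹) = 2 :=
    orderOf_eq_prime (by decide) (by decide)
  apply hK2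
  have : orderOf (⟨c1 * c2 * c1 * c2⁻¹, hw⟩ : K) = 2 := by
    rw [← hord]
    exact Subgroup.orderOf_mk _ hw
  rw [← this]
  exact orderOf_dvd_natCard _

theorem card_A : Nat.card A = 4 := by
  have e : (A : Set X) = (({1, s, t, s * t} : Finset X) : Set X) := by
    ext g
    simp only [SetLike.mem_coe, mem_A, Finset.coe_insert, Finset.coe_singleton,
      Set.mem_insert_iff, Set.mem_singleton_iff]
  have : Nat.card A = Nat.card ((A : Set X)) := rfl
  rw [this, e, Nat.card_coe_set_eq, Set.ncard_coe_finset]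
  decide

theorem elemAb : Cfsg.IsElementaryAbelian 2 A := by
  refine ⟨⟨⟨?_⟩⟩, ?_⟩
  · rintro ⟨a, (rfl | rfl | rfl | rfl)⟩ ⟨b, (rfl | rfl | rfl | rfl)⟩ <;> apply Subtype.ext <;>
      show _ * _ = _ * _ <;> decide
  · rintro a (rfl | rfl | rfl | rfl) <;> decide

/-- There exist a finite group X, an elementary abelian subgroup A of order 4 and a solvable A-signalizer functor θ on X for the prime 2 which is not complete. -/
theorem result : ∃ (X : Type) (_ : Group X) (_ : Finite X) (A : Subgroup X) (θ : X → Subgroup X), Cfsg.IsElementaryAbelian 2 A ∧ Nat.card ↥A = 4 ∧ Cfsg.IsSolvableSignalizerFunctor 2 A θ ∧ ¬ Cfsg.IsCompleteSignalizerFunctor 2 A θ :=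
  ⟨X, inferInstance, inferInstance, A, θ, elemAb, card_A, isSolvSF, not_complete⟩

end Cfsg.Agent.S1286
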