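import Mathlib
import Cfsg.Statements.S1287
import Cfsg.Agent.Lib.Helper29.Wielandt2
import Cfsg.Agent.Lib.Helper29.CorePrime
import Cfsg.Agent.Lib.Helper13.ProdCard
-- import your own Cfsg.Agent.* helpers here

set_option autoImplicit false
open scoped Pointwise
open Cfsg

namespace Cfsg.Agent.S1287

open scoped Pointwise in
theorem card_prod_centralizers {H : Type*} [Group H] [Finite H] (X Y : Subgroup H) (C : Subgroup H) :
    Nat.card ((((X ⊓ C : Subgroup H) : Set H) * ((Y ⊓ C : Subgroup H) : Set H) : Set H)) *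
      Nat.card ↥((X ⊓ Y) ⊓ C) = Nat.card ↥(X ⊓ C) * Nat.card ↥(Y ⊓ C) := by
  have h := Cfsg.Agent.Lib.Helper13.card_mul_card_inf (X ⊓ C) (Y ⊓ C)
  have e : (X ⊓ C) ⊓ (Y ⊓ C) = (X ⊓ Y) ⊓ C := by
    ext z
    simp only [Subgroup.mem_inf]
    tauto
  rwa [e] at h

theorem exists_generator_of_card_prime {H : Type*} [Group H] [Finite H] {p : ℕ} (hp : p.Prime)
    (B : Subgroup H) (hB : Nat.card ↥B = p) : ∃ b ∈ B, b ≠ 1 ∧ Subgroup.zpowers b = B := by
  have hne : B ≠ ⊥ := by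
    intro h
    rw [h, Subgroup.card_bot] at hB
    exact hp.one_lt.ne hB
  obtain ⟨b, hb1⟩ := (Subgroup.ne_bot_iff_exists_ne_one (H := B)).mp hne
  have hb1' : (b : H) ≠ 1 := fun h => hb1 (Subtype.ext h)
  refine ⟨b, b.2, hb1', ?_⟩
  have hle : Subgroup.zpowers (b : H) ≤ B := by rw [Subgroup.zpowers_le]; exact b.2
  apply Subgroup.eq_of_le_of_card_ge hle
  rw [Nat.card_zpowers, hB]
  have hdvd : orderOf (b : H) ∣ p := by
    rw [← hB]; exact Subgroup.orderOf_dvd_natCard B b.2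
  rcases (Nat.dvd_prime hp).mp hdvd with h | h
  · exact absurd (orderOf_eq_one_iff.mp h) hb1'
  · rw [h]

/-- Let A be a noncyclic elementary abelian p-subgroup of a finite group H normalizing a subgroup K of order prime to p, and X, Y ≤ K subgroups normalized by A with C_K(a) = C_X(a) C_Y(a) (as sets) for every non-identity a ∈ A, where X is also normalized by C_K(A). Then K = XY as sets. -/
theorem result {H : Type*} [Group H] [Finite H] (p : ℕ) [Fact p.Prime] (A K X Y : Subgroup H) (hA : Cfsg.IsElementaryAbelian p A) (hA2 : p ^ 2 ≤ Nat.card ↥A) (hK : ¬ p ∣ Nat.card ↥K) (hAK : A ≤ Subgroup.normalizer (K : Set H)) (hX : X ≤ K) (hY : Y ≤ K) (hAX : A ≤ Subgroup.normalizer (X : Set H)) (hAY : A ≤ Subgroup.normalizer (Y : Set H)) (hCX : K ⊓ Subgroup.centralizer (A : Set H) ≤ Subgroup.normalizer (X : Set H)) (hfac : ∀ a ∈ A, a ≠ 1 → ((K ⊓ Subgroup.centralizer {a} : Subgroup H) : Set H) = ((X ⊓ Subgroup.centralizer {a}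 : Subgroup H) : Set H) * ((Y ⊓ Subgroup.centralizer {a} : Subgroup H) : Set H)) : (K : Set H) = (X : Set H) * (Y : Set H) := by
  classical
  have hp := (Fact.out : p.Prime)
  have hAp : IsPGroup p ↥A := Cfsg.Agent.Lib.Helper29.elemAb_isPGroup p A hA
  -- a subgroup A₀ of order p^2
  obtain ⟨n, hn⟩ := IsPGroup.iff_card.mp hAp
  have hn2 : 2 ≤ n := by
    by_contra hlt
    have : n ≤ 1 := by omega
    have h3 : p ^ n ≤ p ^ 1 := Nat.pow_le_pow_right hp.pos this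
    rw [← hn, pow_one] at h3
    have hp2 : p < p ^ 2 := by
      have := hp.one_lt
      nlinarith
    omega
  have hdvd : p ^ 2 ∣ Nat.card ↥A := by rw [hn]; exact pow_dvd_pow p hn2
  obtain ⟨A₁, hA₁⟩ := Sylow.exists_subgroup_card_pow_prime p hdvd
  set A₀ := A₁.map A.subtype with hA₀def
  have hA₀A : A₀ ≤ A := Subgroup.map_subtype_le _
  have hA₀card : Nat.card ↥A₀ = p ^ 2 := by
    rw [hA₀def, Subgroup.card_map_of_injective A.subtype_injective, hA₁]
  have hA₀ : Cfsg.IsElementaryAbelian p A₀ := by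
    refine ⟨⟨⟨fun a b => ?_⟩⟩, fun a ha => hA.2 a (hA₀A ha)⟩
    exact Subtype.ext (Cfsg.Agent.Lib.Helper29.elemAb_comm p A hA a.1 (hA₀A a.2) b.1 (hA₀A b.2))
  have hXp : ¬ p ∣ Nat.card ↥X := fun h => hK (h.trans (Subgroup.card_dvd_of_le hX))
  have hYp : ¬ p ∣ Nat.card ↥Y := fun h => hK (h.trans (Subgroup.card_dvd_of_le hY))
  have hDp : ¬ p ∣ Nat.card ↥(X ⊓ Y) :=
    fun h => hK (h.trans (Subgroup.card_dvd_of_le (inf_le_left.trans hX)))
  have hAD : A₀ ≤ Subgroup.normalizer ((X ⊓ Y : Subgroup H) : Set H) :=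
    (le_inf (hA₀A.trans hAX) (hA₀A.trans hAY)).trans Subgroup.inf_normalizer_le_normalizer_inf
  have WK := Cfsg.Agent.Lib.Helper29.wFormula_of_coprime hA₀ hA₀card K hK (hA₀A.trans hAK)
  have WX := Cfsg.Agent.Lib.Helper29.wFormula_of_coprime hA₀ hA₀card X hXp (hA₀A.trans hAX)
  have WY := Cfsg.Agent.Lib.Helper29.wFormula_of_coprime hA₀ hA₀card Y hYp (hA₀A.trans hAY)
  have WD := Cfsg.Agent.Lib.Helper29.wFormula_of_coprime hA₀ hA₀card (X ⊓ Y) hDp hAD
  unfold Cfsg.Agent.Lib.Helper29.WFormula at WK WX WY WD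
  set 𝓛 := Cfsg.Agent.Lib.Helper29.orderPSubgroups p A₀ with h𝓛
  set e := 𝓛.card - 1 with he
  -- the hyperplane identities
  have hB : ∀ B ∈ 𝓛, Nat.card ↥(K ⊓ Subgroup.centralizer (B : Set H)) *
      Nat.card ↥((X ⊓ Y) ⊓ Subgroup.centralizer (B : Set H)) =
      Nat.card ↥(X ⊓ Subgroup.centralizer (B : Set H)) *
        Nat.card ↥(Y ⊓ Subgroup.centralizer (B : Set H)) := by
    intro B hBmem
    obtain ⟨hBA₀, hBcard⟩ := (Cfsg.Agent.Lib.Helper29.mem_orderPSubgroups p A₀).mp hBmem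
    obtain ⟨b, hb, hb1, hbB⟩ := exists_generator_of_card_prime hp B hBcard
    have hcent : Subgroup.centralizer (B : Set H) = Subgroup.centralizer ({b} : Set H) := by
      rw [← hbB]; exact Cfsg.Agent.Lib.Helper29.centralizer_zpowers_eq b
    rw [hcent]
    have h1 := hfac b (hA₀A (hBA₀ hb)) hb1
    have h2 := card_prod_centralizers X Y (Subgroup.centralizer ({b} : Set H))
    rw [← h1] at h2
    exact h2
  -- the fixed points of A₀
  have hs₀ := card_prod_centralizers X Y (Subgroup.centralizer (A₀ : Set H))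
  set s₀ := Nat.card ((((X ⊓ Subgroup.centralizer (A₀ : Set H) : Subgroup H) : Set H) *
    ((Y ⊓ Subgroup.centralizer (A₀ : Set H) : Subgroup H) : Set H) : Set H)) with hs₀def
  have hs₀le : s₀ ≤ Nat.card ↥(K ⊓ Subgroup.centralizer (A₀ : Set H)) := by
    have hsub : (((X ⊓ Subgroup.centralizer (A₀ : Set H) : Subgroup H) : Set H) *
        ((Y ⊓ Subgroup.centralizer (A₀ : Set H) : Subgroup H) : Set H) : Set H) ⊆
        ((K ⊓ Subgroup.centralizer (A₀ : Set H) : Subgroup H) : Set H) := by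
      rintro _ ⟨u, hu, v, hv, rfl⟩
      exact Subgroup.mul_mem _ ⟨hX hu.1, hu.2⟩ ⟨hY hv.1, hv.2⟩
    rw [hs₀def, Nat.card_coe_set_eq]
    have := Set.ncard_le_ncard hsub (Set.toFinite _)
    rwa [← Nat.card_coe_set_eq ((K ⊓ Subgroup.centralizer (A₀ : Set H) : Subgroup H) : Set H)] at this
  -- the product set XY
  have ht := Cfsg.Agent.Lib.Helper13.card_mul_card_inf X Y
  set t := Nat.card (((X : Set H) * (Y : Set H) : Set H)) with htdef
  -- abbreviations
  set k := Nat.card ↥K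
  set k₀ := Nat.card ↥(K ⊓ Subgroup.centralizer (A₀ : Set H))
  set x := Nat.card ↥X
  set x₀ := Nat.card ↥(X ⊓ Subgroup.centralizer (A₀ : Set H))
  set y := Nat.card ↥Y
  set y₀ := Nat.card ↥(Y ⊓ Subgroup.centralizer (A₀ : Set H))
  set d := Nat.card ↥(X ⊓ Y)
  set d₀ := Nat.card ↥((X ⊓ Y) ⊓ Subgroup.centralizer (A₀ : Set H))
  have hdpos : 0 < d := Nat.card_pos
  have hd₀pos : 0 < d₀ := Nat.card_pos
  have hk₀pos : 0 < k₀ := Nat.card_pos
  have hprod : (∏ B ∈ 𝓛, Nat.card ↥(K ⊓ Subgroup.centralizer (B : Set H))) *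
      (∏ B ∈ 𝓛, Nat.card ↥((X ⊓ Y) ⊓ Subgroup.centralizer (B : Set H))) =
      (∏ B ∈ 𝓛, Nat.card ↥(X ⊓ Subgroup.centralizer (B : Set H))) *
      (∏ B ∈ 𝓛, Nat.card ↥(Y ⊓ Subgroup.centralizer (B : Set H))) := by
    rw [← Finset.prod_mul_distrib, ← Finset.prod_mul_distrib]
    exact Finset.prod_congr rfl hB
  rw [← WK, ← WD, ← WX, ← WY] at hprod
  have hmain : (k * k₀ ^ e) * (d * d₀ ^ e) = (t * s₀ ^ e) * (d * d₀ ^ e) := by
    calc (k * k₀ ^ e) * (d * d₀ ^ e) = (x * x₀ ^ e) * (y * y₀ ^ e) := hprod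
      _ = (x * y) * (x₀ * y₀) ^ e := by ring
      _ = (t * d) * (s₀ * d₀) ^ e := by rw [← ht, ← hs₀]
      _ = (t * s₀ ^ e) * (d * d₀ ^ e) := by ring
  have hmain2 : k * k₀ ^ e = t * s₀ ^ e :=
    Nat.eq_of_mul_eq_mul_right (Nat.mul_pos hdpos (pow_pos hd₀pos _)) hmain
  have hkt : k ≤ t := by
    have h1 : t * s₀ ^ e ≤ t * k₀ ^ e := Nat.mul_le_mul_left _ (Nat.pow_le_pow_left hs₀le _)
    rw [← hmain2] at h1
    exact Nat.le_of_mul_le_mul_right h1 (pow_pos hk₀pos _)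
  -- conclude
  have hsub : ((X : Set H) * (Y : Set H) : Set H) ⊆ (K : Set H) := by
    rintro _ ⟨u, hu, v, hv, rfl⟩
    exact K.mul_mem (hX hu) (hY hv)
  symm
  apply Set.eq_of_subset_of_ncard_le hsub _ (Set.toFinite _)
  rw [← Nat.card_coe_set_eq, ← Nat.card_coe_set_eq]
  exact hkt

end Cfsg.Agent.S1287
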