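import Mathlib
import Cfsg.Statements.S1288
import Cfsg.Agent.Lib.Helper29.QPrimeCore
import Cfsg.Agent.Lib.Helper29.Transitivity
import Cfsg.Agent.S1324
-- import your own Cfsg.Agent.* helpers here

set_option autoImplicit false
open Cfsg

namespace Cfsg.Agent.S1288

theorem card_subgroupOf_of_le {H : Type*} [Group H] (R K : Subgroup H) (h : R ≤ K) :
    Nat.card ↥(R.subgroupOf K) = Nat.card ↥R := by
  have h1 := Subgroup.card_subtype K (R.subgroupOf K)
  rw [Subgroup.subgroupOf_map_subtype, inf_of_le_left h] at h1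
  exact h1.symm

theorem coprime_of_not_dvd {q n : ℕ} (hq : q.Prime) (h : ¬ q ∣ n) : n.Coprime q := by
  rw [Nat.coprime_comm, Nat.Prime.coprime_iff_not_dvd hq]
  exact h

/-- Every subgroup of index at most `p` in a `p`-group of order at least `p^2` contains a subgroup of index `p`. -/
theorem exists_hyperplane_le {H : Type*} [Group H] [Finite H] (p : ℕ) [hp : Fact p.Prime]
    (A : Subgroup H) (hA : IsPGroup p A) (hA2 : p ^ 2 ≤ Nat.card ↥A) (B : Subgroup H) (hBA : B ≤ A)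
    (hB : B.relIndex A ≤ p) : ∃ B' : Subgroup H, B' ≤ B ∧ B' ≤ A ∧ B'.relIndex A = p := by
  obtain ⟨n, hn⟩ := IsPGroup.iff_card.mp hA
  have hdvd : B.relIndex A ∣ Nat.card ↥A := Subgroup.relIndex_dvd_card B A
  rw [hn] at hdvd
  obtain ⟨j, hj, hj2⟩ := (Nat.dvd_prime_pow hp.out).mp hdvd
  have hj1 : j ≤ 1 := by
    by_contra hlt
    have h2 : 2 ≤ j := by omega
    have : p ^ 2 ≤ p ^ j := Nat.pow_le_pow_right hp.out.pos h2
    rw [← hj2] at this
    have hp2 : p < p ^ 2 := by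
      have := hp.out.one_lt
      nlinarith
    omega
  rcases Nat.eq_zero_or_pos j with h0 | hpos
  · -- B = A
    rw [h0, pow_zero] at hj2
    have hAB : A ≤ B := Subgroup.relIndex_eq_one.mp hj2
    have hn2 : 2 ≤ n := by
      by_contra hlt
      have : n ≤ 1 := by omega
      have h3 : p ^ n ≤ p ^ 1 := Nat.pow_le_pow_right hp.out.pos this
      rw [← hn, pow_one] at h3
      have hp2 : p < p ^ 2 := by
        have := hp.out.one_lt
        nlinarith
      omega
    have hdvd2 : p ^ (n - 1) ∣ Nat.card ↥A := by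
      rw [hn]
      exact pow_dvd_pow p (Nat.sub_le n 1)
    obtain ⟨B₀, hB₀⟩ := Sylow.exists_subgroup_card_pow_prime p hdvd2
    refine ⟨B₀.map A.subtype, (Subgroup.map_subtype_le B₀).trans hAB, Subgroup.map_subtype_le B₀, ?_⟩
    have h4 : (B₀.map A.subtype).subgroupOf A = B₀ :=
      Subgroup.comap_map_eq_self_of_injective A.subtype_injective _
    unfold Subgroup.relIndex
    rw [h4]
    have h5 := Subgroup.index_mul_card B₀
    rw [hB₀, hn] at h5
    have h6 : p ^ n = p * p ^ (n - 1) := by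
      rw [← pow_succ']
      congr 1
      omega
    rw [h6] at h5
    exact Nat.eq_of_mul_eq_mul_right (pow_pos hp.out.pos _) h5
  · have : j = 1 := by omega
    rw [this, pow_one] at hj2
    exact ⟨B, le_rfl, hBA, hj2⟩

/-- Let A be a noncyclic elementary abelian p-subgroup of a finite group H normalizing a solvable subgroup K of order prime to p, q a prime dividing |K|, and U ≤ K a subgroup of order prime to q such that ⁅U, C_K(B)⁆ has order prime to q for every subgroup B of index p in A. Then U ≤ O_{q'}(K). -/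
theorem result {H : Type*} [Group H] [Finite H] (p : ℕ) [Fact p.Prime] (A K : Subgroup H) (hA : Cfsg.IsElementaryAbelian p A) (hA2 : p ^ 2 ≤ Nat.card ↥A) (hK : ¬ p ∣ Nat.card ↥K) (hKs : Group.IsSolvable ↥K) (hAK : A ≤ Subgroup.normalizer (K : Set H)) (q : ℕ) [Fact q.Prime] (hqK : q ∣ Nat.card ↥K) (U : Subgroup H) (hU : U ≤ K) (hUq : ¬ q ∣ Nat.card ↥U) (hcomm : ∀ B : Subgroup H, B ≤ A → B.relIndex A = p → ¬ q ∣ Nat.card ↥⁅U, K ⊓ Subgroup.centralizer (B : Set H)⁆) : U ≤ (Cfsg.pPrimeCore q ↥K).map K.subtype := by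
  have hKnorm : K ≤ Subgroup.normalizer (((Cfsg.pPrimePCore q ↥K).map K.subtype : Subgroup H) : Set H) :=
    Subgroup.le_normalizer.trans (Cfsg.Agent.Lib.Helper29.normalizer_le_normalizer_map_pPrimePCore q K)
  have hAX : A ≤ Subgroup.normalizer (((Cfsg.pPrimePCore q ↥K).map K.subtype : Subgroup H) : Set H) :=
    hAK.trans (Cfsg.Agent.Lib.Helper29.normalizer_le_normalizer_map_pPrimePCore q K)
  have hXK : (Cfsg.pPrimePCore q ↥K).map K.subtype ≤ K := Subgroup.map_subtype_le _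
  have hXp : ¬ p ∣ Nat.card ↥((Cfsg.pPrimePCore q ↥K).map K.subtype) :=
    fun h => hK (h.trans (Subgroup.card_dvd_of_le hXK))
  have hgen := Cfsg.Agent.S1324.result p A _ hA hA2 hXp hAX
  have hAp : IsPGroup p ↥A := Cfsg.Agent.Lib.Helper29.elemAb_isPGroup p A hA
  -- the commutators land in O_{q'}
  have hR : ∀ B' : Subgroup H, B' ≤ A → B'.relIndex A = p →
      ∀ u ∈ U, ∀ x ∈ (Cfsg.pPrimePCore q ↥K).map K.subtype ⊓ Subgroup.centralizer (B' : Set H),
        u * x * u⁻¹ * x⁻¹ ∈ (Cfsg.pPrimeCore q ↥K).map K.subtype := by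
    intro B' hB'A hB'p u hu x hx
    set R := ⁅U, (Cfsg.pPrimePCore q ↥K).map K.subtype ⊓ Subgroup.centralizer (B' : Set H)⁆ with hRdef
    have hRX : R ≤ (Cfsg.pPrimePCore q ↥K).map K.subtype := by
      rw [hRdef, Subgroup.commutator_le]
      intro g₁ hg₁ g₂ hg₂
      have h1 := (Subgroup.mem_normalizer_iff.mp (hKnorm (hU hg₁)) g₂).mp hg₂.1
      exact Subgroup.mul_mem _ h1 (Subgroup.inv_mem _ hg₂.1)
    have hRle : R ≤ ⁅U, K ⊓ Subgroup.centralizer (B' : Set H)⁆ :=
      Subgroup.commutator_mono le_rfl (inf_le_inf_right _ hXK)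
    have hRq : (Nat.card ↥R).Coprime q := by
      apply coprime_of_not_dvd (Fact.out : q.Prime)
      intro h
      exact hcomm B' hB'A hB'p (h.trans (Subgroup.card_dvd_of_le hRle))
    have hRK : R ≤ K := hRX.trans hXK
    have hR'1 : R.subgroupOf K ≤ Cfsg.pPrimePCore q ↥K := by
      intro r hr
      obtain ⟨x', hx', hxr⟩ := hRX hr
      have : x' = r := Subtype.ext hxr
      rwa [this] at hx'
    have hR'2 : (Nat.card ↥(R.subgroupOf K)).Coprime q := by
      rw [card_subgroupOf_of_le R K hRK]; exact hRq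
    have hR'3 := Cfsg.Agent.Lib.Helper29.le_pPrimeCore_of_le_pPrimePCore q _ hR'1 hR'2
    have hmem : u * x * u⁻¹ * x⁻¹ ∈ R := Subgroup.commutator_mem_commutator hu hx
    exact ⟨⟨_, hRK hmem⟩, hR'3 hmem, rfl⟩
  -- the subgroup of K acting trivially (with U) modulo O_{q'}(K)
  set π := QuotientGroup.mk' (Cfsg.pPrimeCore q ↥K) with hπ
  set T : Subgroup ↥K :=
    (Subgroup.centralizer (((U.subgroupOf K).map π : Subgroup _) : Set _)).comap π with hT
  have hQT : Cfsg.pPrimePCore q ↥K ≤ T := by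
    rw [← Subgroup.map_le_map_iff_of_injective (Subgroup.subtype_injective K), hgen]
    apply iSup_le
    rintro ⟨B, hBA, hBp⟩
    obtain ⟨B', hB'B, hB'A, hB'p⟩ := exists_hyperplane_le p A hAp hA2 B hBA hBp
    intro x hx
    have hx' : x ∈ (Cfsg.pPrimePCore q ↥K).map K.subtype ⊓ Subgroup.centralizer (B' : Set H) :=
      ⟨hx.1, Subgroup.centralizer_le (by exact_mod_cast hB'B) hx.2⟩
    refine ⟨⟨x, hXK hx.1⟩, ?_, rfl⟩
    show π ⟨x, hXK hx.1⟩ ∈ Subgroup.centralizer _
    rw [Subgroup.mem_centralizer_iff]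
    rintro _ ⟨u, hu, rfl⟩
    have h1 := hR B' hB'A hB'p (u : H) hu x hx'
    obtain ⟨r, hr, hre⟩ := h1
    have h2 : r = u * ⟨x, hXK hx.1⟩ * u⁻¹ * (⟨x, hXK hx.1⟩ : ↥K)⁻¹ := Subtype.ext hre
    rw [h2] at hr
    have h3 : π (u * ⟨x, hXK hx.1⟩ * u⁻¹ * (⟨x, hXK hx.1⟩ : ↥K)⁻¹) = 1 :=
      (QuotientGroup.eq_one_iff _).mpr hr
    rw [map_mul, map_mul, map_mul, map_inv, map_inv] at h3
    set a := π u
    set b := π ⟨x, hXK hx.1⟩
    calc a * b = (a * b * a⁻¹ * b⁻¹) * (b * a) := by group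
      _ = b * a := by rw [h3, one_mul]
  have hUq' : (Nat.card ↥(U.subgroupOf K)).Coprime q := by
    rw [card_subgroupOf_of_le U K hU]
    exact coprime_of_not_dvd (Fact.out : q.Prime) hUq
  have hfin := Cfsg.Agent.Lib.Helper29.le_pPrimeCore_of_centralizes_quotient q hKs (U.subgroupOf K) hUq' ?_
  · intro u hu
    exact ⟨⟨u, hU hu⟩, hfin (show (⟨u, hU hu⟩ : ↥K) ∈ U.subgroupOf K from hu), rfl⟩
  · intro u hu x hx
    have hxT := hQT hx
    have hxT' : π x ∈ Subgroup.centralizer (((U.subgroupOf K).map π : Subgroup _) : Set _) := hxT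
    rw [Subgroup.mem_centralizer_iff] at hxT'
    have h1 := hxT' (π u) (Subgroup.mem_map_of_mem _ hu)
    apply (QuotientGroup.eq_one_iff _).mp
    show π (u * x * u⁻¹ * x⁻¹) = 1
    rw [map_mul, map_mul, map_mul, map_inv, map_inv]
    calc π u * π x * (π u)⁻¹ * (π x)⁻¹ = (π u * π x) * (π u)⁻¹ * (π x)⁻¹ := by group
      _ = (π x * π u) * (π u)⁻¹ * (π x)⁻¹ := by rw [h1]
      _ = 1 := by group

end Cfsg.Agent.S1288
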