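import Mathlib
import Cfsg.Statements.S1297
import Cfsg.Agent.Lib.Helper29.KBalance

set_option autoImplicit false
open Cfsg

namespace Cfsg.Agent.S1297


theorem mem_zpowers_order_two {G : Type*} [Group G] {x a : G} (hx : orderOf x = 2)
    (ha : a ∈ Subgroup.zpowers x) (hne : a ≠ 1) : a = x := by
  obtain ⟨i, rfl⟩ := Subgroup.mem_zpowers_iff.mp ha
  have h1 : x ^ (i % (orderOf x : ℤ)) = x ^ i := zpow_mod_orderOf x i
  rw [hx] at h1
  rcases Int.emod_two_eq_zero_or_one i with h2 | h2
  · rw [show ((2 : ℕ) : ℤ) = 2 from rfl, h2, zpow_zero] at h1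
    exact absurd h1.symm hne
  · rw [show ((2 : ℕ) : ℤ) = 2 from rfl, h2, zpow_one] at h1
    exact h1.symm

theorem key {G : Type*} [Group G] [Finite G] (h : ∀ x : G, orderOf x = 2 → ∀ K : Subgroup (↥(Subgroup.centralizer ({x} : Set G)) ⧸ Cfsg.oddCore ↥(Subgroup.centralizer ({x} : Set G))), Cfsg.IsComponent K → Cfsg.IsLocallyBalanced (↥K ⧸ Subgroup.center ↥K))
    (x y : G) (hx : orderOf x = 2) (hy : orderOf y = 2) (hxy : x * y = y * x) :
    Cfsg.centralizerPPrimeCore 2 x ⊓ Subgroup.centralizer {y} ≤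
      Cfsg.centralizerPPrimeCore 2 y ⊓ Subgroup.centralizer {x} := by
  have : Fact (Nat.Prime 2) := ⟨Nat.prime_two⟩
  refine le_inf ?_ (inf_le_left.trans (Cfsg.Agent.Lib.Helper29.centralizerCore_le_centralizer 2 x))
  have hx2 : x ^ 2 = 1 := by rw [← hx]; exact pow_orderOf_eq_one x
  have hEA : Cfsg.IsElementaryAbelian 2 (Subgroup.zpowers x) := by
    refine ⟨inferInstance, ?_⟩
    intro a ha
    by_cases h1 : a = 1
    · rw [h1]; exact one_pow 2
    · rw [mem_zpowers_order_two hx ha h1]; exact hx2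
  have hcard : Nat.card (Subgroup.zpowers x) = 2 ^ 1 := by
    rw [Nat.card_zpowers, hx, pow_one]
  have hcomm : ∀ a ∈ Subgroup.zpowers x, a * y = y * a := by
    intro a ha
    by_cases h1 : a = 1
    · rw [h1]; simp
    · rw [mem_zpowers_order_two hx ha h1]; exact hxy
  have hmain := Cfsg.Agent.Lib.Helper29.kbalance_of_local (p := 2) 1 le_rfl (Subgroup.zpowers x)
    hEA hcard y hcomm (by
      intro L hL
      exact Cfsg.Agent.Lib.Helper29.localKData_quotCenter L hL
        (Cfsg.Agent.Lib.Helper29.isLocallyKBalanced_of_isLocallyBalanced (h y hy L hL)))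
  refine le_trans ?_ hmain
  refine inf_le_inf_right _ ?_
  unfold Cfsg.signalizerDelta
  apply le_iInf
  rintro ⟨a, ha, hne⟩
  obtain rfl := mem_zpowers_order_two hx ha hne
  exact le_rfl

/-- Let G be finite. Suppose that for every involution x, writing C = C_G(x), every component K of C / O(C) has K / Z(K) locally balanced. Then G is balanced. -/
theorem result {G : Type*} [Group G] [Finite G] (h : ∀ x : G, orderOf x = 2 → ∀ K : Subgroup (↥(Subgroup.centralizer ({x} : Set G)) ⧸ Cfsg.oddCore ↥(Subgroup.centralizer ({x} : Set G))), Cfsg.IsComponent K → Cfsg.IsLocallyBalanced (↥K ⧸ Subgroup.center ↥K)) : Cfsg.IsBalanced G := by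
  intro x y hx hy hxy
  exact le_antisymm (key h x y hx hy hxy) (key h y x hy hx hxy.symm)

end Cfsg.Agent.S1297
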