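import Mathlib
import Cfsg.Statements.S1300

set_option autoImplicit false
open Cfsg

namespace Cfsg.Agent.S1300

theorem core_le_centralizer {G : Type*} [Group G] (p : ℕ) (x : G) :
    Cfsg.centralizerPPrimeCore p x ≤ Subgroup.centralizer ({x} : Set G) := by
  unfold Cfsg.centralizerPPrimeCore
  exact Subgroup.map_subtype_le _

theorem mem_zpowers_of_order_two {G : Type*} [Group G] {x a : G} (hx : orderOf x = 2)
    (ha : a ∈ Subgroup.zpowers x) (ha1 : a ≠ 1) : a = x := by
  rw [Subgroup.mem_zpowers_iff] at ha
  obtain ⟨k, rfl⟩ := ha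
  have h2 : x ^ (2 : ℤ) = 1 := by
    have := pow_orderOf_eq_one x
    rw [hx] at this
    exact_mod_cast this
  rcases Int.emod_two_eq_zero_or_one k with h | h
  · exfalso
    apply ha1
    have hk : k = 2 * (k / 2) := by omega
    rw [hk, zpow_mul, h2, one_zpow]
  · have hk : k = 2 * (k / 2) + 1 := by omega
    rw [hk, zpow_add, zpow_mul, h2, one_zpow, one_mul, zpow_one]

/-- For a finite group G, balance in the sense of commuting involutions is the same as 1-balance for the prime 2. -/
theorem result {G : Type*} [Group G] [Finite G] : Cfsg.IsBalanced G ↔ Cfsg.IsKBalanced 2 1 G := by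
  constructor
  · intro hb A hA hcard b hb2 hcomm
    have hnt : Nontrivial A := by
      rw [← Finite.one_lt_card_iff_nontrivial, hcard]; norm_num
    obtain ⟨⟨a, haA⟩, ha1⟩ := exists_ne (1 : A)
    have ha1' : a ≠ 1 := fun h => ha1 (Subtype.ext h)
    have ha2 : orderOf a = 2 := orderOf_eq_prime (hA.2 a haA) ha1'
    have hle : Cfsg.signalizerDelta 2 A ≤ Cfsg.centralizerPPrimeCore 2 a :=
      iInf_le (fun a : {a : G // a ∈ A ∧ a ≠ 1} => Cfsg.centralizerPPrimeCore 2 (a : G))
        ⟨a, haA, ha1'⟩
    have hEq := hb a b ha2 hb2 (hcomm a haA)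
    intro x hx
    have hx' : x ∈ Cfsg.centralizerPPrimeCore 2 a ⊓ Subgroup.centralizer {b} :=
      ⟨hle hx.1, hx.2⟩
    rw [hEq] at hx'
    exact hx'.1
  · intro hk
    have key : ∀ x y : G, orderOf x = 2 → orderOf y = 2 → x * y = y * x →
        Cfsg.centralizerPPrimeCore 2 x ⊓ Subgroup.centralizer {y} ≤
          Cfsg.centralizerPPrimeCore 2 y ⊓ Subgroup.centralizer {x} := by
      intro x y hx hy hxy
      have hA : Cfsg.IsElementaryAbelian 2 (Subgroup.zpowers x) := by
        refine ⟨inferInstance, ?_⟩
        intro a ha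
        rw [Subgroup.mem_zpowers_iff] at ha
        obtain ⟨k, rfl⟩ := ha
        have h2 : x ^ 2 = 1 := by
          have := pow_orderOf_eq_one x
          rwa [hx] at this
        rw [← zpow_natCast, ← zpow_mul, mul_comm, zpow_mul]
        have : x ^ ((2 : ℕ) : ℤ) = 1 := by exact_mod_cast h2
        rw [this, one_zpow]
      have hcard : Nat.card (Subgroup.zpowers x) = 2 ^ 1 := by
        rw [Nat.card_zpowers, hx]; norm_num
      have hcomm : ∀ a ∈ Subgroup.zpowers x, a * y = y * a := by
        intro a ha
        rw [Subgroup.mem_zpowers_iff] at ha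
        obtain ⟨k, rfl⟩ := ha
        have : Commute x y := hxy
        exact (this.zpow_left k).eq
      have h1 := hk (Subgroup.zpowers x) hA hcard y hy hcomm
      have hle : Cfsg.centralizerPPrimeCore 2 x ≤ Cfsg.signalizerDelta 2 (Subgroup.zpowers x) := by
        unfold Cfsg.signalizerDelta
        apply le_iInf
        rintro ⟨a, ha, ha1⟩
        have : a = x := mem_zpowers_of_order_two hx ha ha1
        subst this
        exact le_rfl
      intro z hz
      refine ⟨h1 ⟨hle hz.1, hz.2⟩, core_le_centralizer 2 x hz.1⟩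
    intro x y hx hy hxy
    exact le_antisymm (key x y hx hy hxy) (key y x hy hx hxy.symm)

end Cfsg.Agent.S1300
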