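import Cfsg.Statements.S1302
import Cfsg.Agent.Lib.Helper56.PPrimeInv
import Cfsg.Agent.Lib.Helper16.ZJ3
import Cfsg.Agent.Lib.Helper81.PSolvable

set_option autoImplicit false
open Cfsg

namespace Cfsg.Agent.S1302

open Cfsg.Agent.Lib

/-- Let X be a finite p-constrained group, p an odd prime, and A an abelian p-subgroup of X containing every element of order p of C_X(A). Then every subgroup of X of order prime to p that is normalized by A lies in O_{p'}(X). -/
theorem result {X : Type*} [Group X] [Finite X] (p : ℕ) [Fact p.Prime] (hp : p ≠ 2) (hX : Cfsg.IsPConstrained p X) (A : Subgroup X) (hA : IsMulCommutative ↥A) (hAp : IsPGroup p ↥A) (hΩ : ∀ x ∈ Subgroup.centralizer (A : Set X), orderOf x = p → x ∈ A) (Q : Subgroup X) (hQ : ¬ p ∣ Nat.card ↥Q) (hAQ : A ≤ Subgroup.normalizer (Q : Set X)) : Q ≤ Cfsg.pPrimeCore p X := by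
  classical
  haveI hNn : (pPrimeCore p X).Normal := Helper81.pPrimeCore_normal p
  have hNc : (Nat.card (pPrimeCore p X)).Coprime p := Helper81.card_pPrimeCore_coprime p
  set N := pPrimeCore p X with hN
  set π := QuotientGroup.mk' N with hπ
  have hCR := Helper16.ZJ.centralizer_pCore_quot_le (p := p) (G := X) hX
  haveI hRn : (pCore p (X ⧸ N)).Normal := Helper81.pCore_normal p
  have hRp : IsPGroup p ↥(pCore p (X ⧸ N)) := Helper61.pCore_isPGroup p _
  have hQc : (Nat.card Q).Coprime p :=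
    ((Nat.Prime.coprime_iff_not_dvd (Fact.out : p.Prime)).2 hQ).symm
  have hQbc : (Nat.card (Q.map π)).Coprime p :=
    Nat.Coprime.coprime_dvd_left (Subgroup.card_map_dvd Q π) hQc
  have hAbp : IsPGroup p ↥(A.map π) := hAp.map π
  have hAQb : A.map π ≤ Subgroup.normalizer ((Q.map π : Subgroup (X ⧸ N)) : Set (X ⧸ N)) :=
    (Subgroup.map_mono hAQ).trans (Subgroup.le_normalizer_map π)
  have hΩb : ∀ x ∈ Subgroup.centralizer ((A.map π : Subgroup (X ⧸ N)) : Set (X ⧸ N)),
      x ^ p = 1 → x ∈ A.map π := by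
    intro xb hxb hxp
    obtain ⟨c, hcA, hcp, hcx⟩ := Helper56.exists_lift_of_commute N hNc A hAp xb hxp (by
      intro a ha
      exact (Subgroup.mem_centralizer_iff.1 hxb) (π a) ⟨a, ha, rfl⟩)
    by_cases hc1 : c = 1
    · rw [← hcx, hc1, map_one]; exact Subgroup.one_mem _
    · have ho : orderOf c = p := orderOf_eq_prime hcp hc1
      exact ⟨c, hΩ c hcA ho, hcx⟩
  have hbot := Helper56.eq_bot_of_invariant hp (pCore p (X ⧸ N)) hRp hCR (A.map π) hAbp hΩb
    (Q.map π) hQbc hAQb
  intro q hq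
  apply (QuotientGroup.eq_one_iff q).1
  have : π q ∈ Q.map π := ⟨q, hq, rfl⟩
  rw [hbot, Subgroup.mem_bot] at this
  exact this

end Cfsg.Agent.S1302
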