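import Mathlib
import Cfsg.Statements.S1303
import Cfsg.Agent.Lib.Helper29.Cores

set_option autoImplicit false
open Cfsg

namespace Cfsg.Agent.S1303

open Cfsg.Agent.Lib.Helper29

abbrev SL := Matrix.SpecialLinearGroup (Fin 2) (ZMod 3)

set_option maxRecDepth 100000 in
theorem L1 : ∀ a b : SL, a ^ 4 = 1 → b ^ 4 = 1 → (a * b) ^ 4 = 1 := by decide

set_option maxRecDepth 100000 in
theorem L2 : ∀ g : SL, (∀ x : SL, x ^ 4 = 1 → g * x = x * g) → g ^ 4 = 1 := by decide

set_option maxRecDepth 100000 in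
theorem L3 : ∀ t : SL, t ^ 2 = 1 → t ≠ 1 → ∀ g : SL, g * t = t * g := by decide

set_option maxRecDepth 100000 in
theorem L4 : ∀ x : SL, x ^ 3 = 1 → x ≠ 1 → ∃ g : SL, (x * (g * x * g⁻¹)) ^ 3 ≠ 1 := by decide

set_option maxRecDepth 100000 in
theorem L5 : ∀ x : SL, x ^ 24 = 1 := by decide

def u : SL := ⟨!![1, 1; 0, 1], by decide⟩

set_option maxRecDepth 100000 in
theorem u_pow : u ^ 3 = 1 := by decide

set_option maxRecDepth 100000 in
theorem u_ne : u ≠ 1 := by decide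

def Q8 : Subgroup SL where
  carrier := {x | x ^ 4 = 1}
  mul_mem' := fun {a b} ha hb => L1 a b ha hb
  one_mem' := one_pow 4
  inv_mem' := fun {a} ha => by
    show (a⁻¹) ^ 4 = 1
    rw [inv_pow, show a ^ 4 = 1 from ha, inv_one]

instance : Q8.Normal := ⟨fun a ha g => by
  show (g * a * g⁻¹) ^ 4 = 1
  rw [conj_pow, show a ^ 4 = 1 from ha]; group⟩

theorem Q8_pgroup : IsPGroup 2 Q8 := by
  rintro ⟨x, hx⟩
  refine ⟨2, Subtype.ext ?_⟩
  show x ^ (2 ^ 2) = 1
  exact hx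

theorem pow_three_of_mem_odd (N : Subgroup SL) (hN : (Nat.card N).Coprime 2) (x : SL) (hx : x ∈ N) :
    x ^ 3 = 1 := by
  have h1 : orderOf x ∣ Nat.card N := by
    have := orderOf_dvd_natCard (⟨x, hx⟩ : N)
    rwa [Subgroup.orderOf_mk] at this
  have h2 : orderOf x ∣ 8 * 3 := orderOf_dvd_of_pow_eq_one (L5 x)
  have h3 : (orderOf x).Coprime 8 := by
    have : (orderOf x).Coprime 2 := Nat.Coprime.coprime_dvd_left h1 hN
    exact Nat.Coprime.pow_right 3 this
  have h4 : orderOf x ∣ 3 := h3.dvd_of_dvd_mul_left h2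
  exact orderOf_dvd_iff_pow_eq_one.mp h4

theorem core_bot : Cfsg.pPrimeCore 2 SL = ⊥ := by
  apply pPrimeCore_eq_bot_of_forall
  intro N hN hc
  rw [eq_bot_iff]
  intro x hx
  rw [Subgroup.mem_bot]
  by_contra hx1
  obtain ⟨g, hg⟩ := L4 x (pow_three_of_mem_odd N hc x hx) hx1
  apply hg
  apply pow_three_of_mem_odd N hc
  exact N.mul_mem hx (hN.conj_mem x hx g)

theorem constrained : Cfsg.IsPConstrained 2 SL := by
  intro P
  have hQM : Q8 ≤ pPrimePCore 2 SL := normal_pgroup_le_pPrimePCore 2 Q8 Q8_pgroup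
  have hnorm : (Q8.subgroupOf (pPrimePCore 2 SL)).Normal := inferInstance
  have hpg : IsPGroup 2 (Q8.subgroupOf (pPrimePCore 2 SL)) :=
    Q8_pgroup.comap_subtype
  have hle : Q8.subgroupOf (pPrimePCore 2 SL) ≤ (P : Subgroup (pPrimePCore 2 SL)) :=
    hpg.le_sylow_of_normal P
  have hle' : Q8 ≤ (P : Subgroup ↥(pPrimePCore 2 SL)).map (pPrimePCore 2 SL).subtype := by
    have := Subgroup.map_mono (f := (pPrimePCore 2 SL).subtype) hle
    rwa [Subgroup.map_subgroupOf_eq_of_le hQM] at this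
  intro g hg
  apply hQM
  show g ^ 4 = 1
  apply L2
  intro x hx
  have hxQ : x ∈ Q8 := hx
  have := Subgroup.mem_centralizer_iff.mp hg x (hle' hxQ)
  exact this.symm

/-- The group X = SL(2, 3): it is 2-constrained, O_{2'}(X) = 1, its centre A = Z(X) contains every involution of X = C_X(A), and X has a subgroup of order 3 (normalized by A) not contained in O_{2'}(X). -/
theorem result : Cfsg.IsPConstrained 2 (Matrix.SpecialLinearGroup (Fin 2) (ZMod 3)) ∧ Cfsg.pPrimeCore 2 (Matrix.SpecialLinearGroup (Fin 2) (ZMod 3)) = ⊥ ∧ (∀ t : Matrix.SpecialLinearGroup (Fin 2) (ZMod 3), orderOf t = 2 → t ∈ Subgroup.center (Matrix.SpecialLinearGroup (Fin 2) (ZMod 3))) ∧ ∃ Q : Subgroup (Matrix.SpecialLinearGroup (Fin 2) (ZMod 3)), Nat.card ↥Q = 3 ∧ ¬ (Q ≤ Cfsg.pPrimeCore 2 (Matrix.SpecialLinearGroup (Fin 2) (ZMod 3))) := by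
  refine ⟨constrained, core_bot, ?_, Subgroup.zpowers u, ?_, ?_⟩
  · intro t ht
    rw [Subgroup.mem_center_iff]
    have h2 : t ^ 2 = 1 := by
      have := pow_orderOf_eq_one t
      rwa [ht] at this
    have h1 : t ≠ 1 := by
      rintro rfl
      rw [orderOf_one] at ht
      omega
    exact L3 t h2 h1
  · rw [Nat.card_zpowers]
    exact orderOf_eq_prime u_pow u_ne
  · rw [core_bot]
    intro h
    have := h (Subgroup.mem_zpowers u)
    rw [Subgroup.mem_bot] at this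
    exact u_ne this

end Cfsg.Agent.S1303
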