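import Mathlib
import Cfsg.Statements.S1304

set_option autoImplicit false
open Cfsg

namespace Cfsg.Agent.S1304

/-- Let X be a perfect group and α an automorphism of X with α(x) x⁻¹ central for every x. Then α is the identity. -/
theorem result {X : Type*} [Group X] (hperf : commutator X = ⊤) (α : X ≃* X) (h : ∀ x : X, α x * x⁻¹ ∈ Subgroup.center X) : ∀ x : X, α x = x := by
  -- the map x ↦ α x * x⁻¹ is a homomorphism into the centre
  let f : X →* Subgroup.center X :=
    { toFun := fun x => ⟨α x * x⁻¹, h x⟩
      map_one' := by
        apply Subtype.ext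
        simp
      map_mul' := by
        intro x y
        apply Subtype.ext
        have hy := h y
        rw [Subgroup.mem_center_iff] at hy
        show α (x * y) * (x * y)⁻¹ = (α x * x⁻¹) * (α y * y⁻¹)
        rw [map_mul, mul_inv_rev]
        calc α x * α y * (y⁻¹ * x⁻¹) = α x * ((α y * y⁻¹) * x⁻¹) := by group
          _ = α x * (x⁻¹ * (α y * y⁻¹)) := by rw [hy x⁻¹]
          _ = (α x * x⁻¹) * (α y * y⁻¹) := by group }
  have hker : commutator X ≤ f.ker := by
    have : commutator X = ⁅(⊤ : Subgroup X), ⊤⁆ := rfl
    rw [this, Subgroup.commutator_le]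
    intro a _ b _
    rw [MonoidHom.mem_ker, commutatorElement_def, map_mul, map_mul, map_mul, map_inv, map_inv]
    have : f a * f b = f b * f a := by
      apply Subtype.ext
      have := (f a).2
      rw [Subgroup.mem_center_iff] at this
      exact (this (f b).1).symm
    rw [this]; group
  intro x
  have hx : x ∈ f.ker := hker (by rw [hperf]; trivial)
  rw [MonoidHom.mem_ker] at hx
  have : α x * x⁻¹ = 1 := congrArg Subtype.val hx
  exact mul_inv_eq_one.mp this

end Cfsg.Agent.S1304
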