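import Cfsg.Statements.S1306
import Cfsg.Agent.Lib.Helper30.CompConj
import Cfsg.Agent.Lib.Helper29.Quasisimple
import Cfsg.Agent.Lib.Helper29.PCompNormal

set_option autoImplicit false
open Cfsg

namespace Cfsg.Agent.S1306

open Cfsg.Agent.Lib.Helper30 in
/-- Let G be finite, x an involution and L ≤ C_G(x) a component of C_G(x). Suppose L is a component of C_G(y) for every involution y ∈ C_G(L), and ⁅L, g L g⁻¹⁆ ≠ 1 whenever g L g⁻¹ ≠ L. Then L is a standard subgroup of G. -/
theorem result {G : Type*} [Group G] [Finite G] (x : G) (hx : orderOf x = 2) (L : Subgroup G) (hLx : L ≤ Subgroup.centralizer ({x} : Set G)) (hL : Cfsg.IsComponent (L.subgroupOf (Subgroup.centralizer ({x} : Set G)))) (hne : ∀ y : G, orderOf y = 2 → y ∈ Subgroup.centralizer (L : Set G) → L ≤ Subgroup.centralizer ({y} : Set G) ∧ Cfsg.IsComponent (L.subgroupOf (Subgroup.centralizer ({y} : Set G)))) (hnc : ∀ g : G, L.map (MulAut.conj g).toMonoidHom ≠ L → ⁅L, L.map (MulAut.conj g).toMonoidHom⁆ ≠ ⊥) : Cfsg.IsStandardSubgroup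 L := by
  set K := Subgroup.centralizer (L : Set G) with hK
  have hxK : x ∈ K := by
    rw [hK, Subgroup.mem_centralizer_iff]
    intro l hl
    exact Subgroup.mem_centralizer_singleton_iff.mp (hLx hl)
  have hqs : Cfsg.IsQuasisimple ↥L :=
    Cfsg.Agent.Lib.Helper29.qs_of_mulEquiv (Subgroup.subgroupOfEquivOfLe hLx) hL.2
  have core : ∀ g y : G, orderOf y = 2 → y ∈ K → y ∈ K.map (MulAut.conj g).toMonoidHom →
      L.map (MulAut.conj g).toMonoidHom = L := by
    intro g y hy hyK hyKg
    obtain ⟨k, hk, hky⟩ := hyKg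
    have hk2 : orderOf k = 2 := by
      rw [← hy, ← hky, MulEquiv.coe_toMonoidHom, MulEquiv.orderOf_eq]
    obtain ⟨h1, h2⟩ := hne y hy hyK
    obtain ⟨h3, h4⟩ := hne k hk2 hk
    obtain ⟨h5, h6⟩ := isComponent_centralizer_conj g k h3 h4
    have hgk : g * k * g⁻¹ = y := by simpa using hky
    rw [hgk] at h5 h6
    rcases relative_components_eq_or_commute h1 h5 h2 h6 with h | h
    · exact h.symm
    · by_contra hne'
      exact hnc g hne' h
  refine ⟨hqs, ⟨?_, ?_⟩, hnc, ?_⟩
  · rw [even_iff_two_dvd, ← hx]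
    have : orderOf (⟨x, hxK⟩ : K) = orderOf x := Subgroup.orderOf_mk _ _
    rw [← this]
    exact orderOf_dvd_natCard _
  · intro g hg
    by_contra hodd
    rw [Nat.not_odd_iff_even, even_iff_two_dvd] at hodd
    have : Fact (Nat.Prime 2) := ⟨Nat.prime_two⟩
    obtain ⟨y, hy⟩ := exists_prime_orderOf_dvd_card'
      (G := ↥(K ⊓ K.map (MulAut.conj g).toMonoidHom)) 2 hodd
    rw [← Subgroup.orderOf_coe] at hy
    have hym := y.2
    rw [Subgroup.mem_inf] at hym
    have h1 := core g y hy hym.1 hym.2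
    apply hg
    apply normalizer_le_normalizer_centralizer'
    exact Cfsg.Agent.Lib.Helper29.mem_normalizer_of_map_conj_eq L g h1
  · apply le_antisymm (normalizer_le_normalizer_centralizer' L)
    intro g hg
    apply Cfsg.Agent.Lib.Helper29.mem_normalizer_of_map_conj_eq L g
    apply core g x hx hxK
    have h1 : g⁻¹ * x * g ∈ K := by
      have := (Subgroup.mem_normalizer_iff.mp (Subgroup.inv_mem _ hg) x).mp hxK
      simpa using this
    exact ⟨g⁻¹ * x * g, h1, by simp [mul_assoc]⟩

end Cfsg.Agent.S1306
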