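import Cfsg.Statements.S1312
import Cfsg.Agent.S3752
import Cfsg.Agent.Lib.Helper56.CharPFStar

set_option autoImplicit false
open Cfsg

namespace Cfsg.Agent.S1312

/-- Let G be a non-abelian finite simple group and M ≠ N maximal subgroups of G with F*(M) ≤ N and F*(N) ≤ M. Then there is a prime p such that F*(M) and F*(N) are both p-groups. -/
theorem result {G : Type*} [Group G] [Finite G] [IsSimpleGroup G] (hna : ¬ IsMulCommutative G) (M N : Subgroup G) (hM : IsCoatom M) (hN : IsCoatom N) (hMN : M ≠ N) (h1 : (Cfsg.generalizedFittingSubgroup ↥M).map M.subtype ≤ N) (h2 : (Cfsg.generalizedFittingSubgroup ↥N).map N.subtype ≤ M) : ∃ p : ℕ, p.Prime ∧ IsPGroup p ↥(Cfsg.generalizedFittingSubgroup ↥M) ∧ IsPGroup p ↥(Cfsg.generalizedFittingSubgroup ↥N) := by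
  classical
  have key : ∀ (X Y : Subgroup G), IsCoatom X → ∀ A : Subgroup G, A ≠ ⊥ → A ≤ X →
      X ≤ Subgroup.normalizer (A : Set G) → Y ⊓ Subgroup.normalizer (A : Set G) = X ⊓ Y := by
    intro X Y hX A hA hAX hn
    rcases eq_or_lt_of_le hn with h | h
    · rw [← h, inf_comm]
    · exfalso
      have htop : Subgroup.normalizer (A : Set G) = ⊤ := hX.2 _ h
      have hAn : A.Normal := Subgroup.normalizer_eq_top_iff.mp htop
      rcases hAn.eq_bot_or_eq_top with h0 | h1
      · exact hA h0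
      · apply hX.1
        rw [eq_top_iff, ← h1]
        exact hAX
  have hP : ∀ A : Subgroup G, A ≠ ⊥ → A ≤ M ⊓ N →
      (M ≤ Subgroup.normalizer (A : Set G) → N ⊓ Subgroup.normalizer (A : Set G) = M ⊓ N) ∧
      (N ≤ Subgroup.normalizer (A : Set G) → M ⊓ Subgroup.normalizer (A : Set G) = M ⊓ N) := by
    intro A hA hle
    refine ⟨key M N hM A hA (hle.trans inf_le_left), fun hn => ?_⟩
    rw [key N M hN A hA (hle.trans inf_le_right) hn, inf_comm]
  obtain ⟨p, hp, hc1, hc2, -⟩ := Cfsg.Agent.S3752.result M N hMN hP h1 h2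
  haveI : Fact p.Prime := ⟨hp⟩
  refine ⟨p, hp, ?_, ?_⟩
  · have h := Cfsg.Agent.Lib.Helper56.genFitting_eq_pCore_iff.mpr hc1
    rw [h]
    exact Cfsg.Agent.Lib.Helper76.pCore_isPGroup p
  · have h := Cfsg.Agent.Lib.Helper56.genFitting_eq_pCore_iff.mpr hc2
    rw [h]
    exact Cfsg.Agent.Lib.Helper76.pCore_isPGroup p

end Cfsg.Agent.S1312
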