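import Mathlib
import Cfsg.Statements.S1313
import Cfsg.Agent.Lib.Helper28.FStar

set_option autoImplicit false
open Cfsg

namespace Cfsg.Agent.S1313

/-- If a normal subgroup `F` contains its centralizer then `|H| ≤ |F|!`. -/
theorem card_le_factorial_of_centralizer_le {H : Type*} [Group H] [Finite H] (F : Subgroup H)
    [hF : F.Normal] (hC : Subgroup.centralizer (F : Set H) ≤ F) :
    Nat.card H ≤ Nat.factorial (Nat.card F) := by
  classical
  let α := {x : F // x ≠ 1}
  letI : MulAction H α :=
    { smul := fun h x => ⟨⟨h * x.1.1 * h⁻¹, hF.conj_mem _ x.1.2 h⟩, by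
        intro hx
        apply x.2
        have h1 : h * x.1.1 * h⁻¹ = 1 := congrArg Subtype.val hx
        apply Subtype.ext
        show x.1.1 = 1
        have : x.1.1 = h⁻¹ * (h * x.1.1 * h⁻¹) * h := by group
        rw [this, h1]; group⟩
      one_smul := fun x => by
        apply Subtype.ext; apply Subtype.ext
        show (1 : H) * x.1.1 * (1 : H)⁻¹ = x.1.1
        group
      mul_smul := fun g h x => by
        apply Subtype.ext; apply Subtype.ext
        show (g * h) * x.1.1 * (g * h)⁻¹ = g * (h * x.1.1 * h⁻¹) * g⁻¹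
        group }
  let ψ : H →* Equiv.Perm α := MulAction.toPermHom H α
  have hker : ψ.ker ≤ Subgroup.centralizer (F : Set H) := by
    intro h hh
    rw [MonoidHom.mem_ker] at hh
    rw [Subgroup.mem_centralizer_iff]
    intro x hx
    by_cases hx1 : (⟨x, hx⟩ : F) = 1
    · have : x = 1 := congrArg Subtype.val hx1
      rw [this]; group
    · have h1 : ψ h ⟨⟨x, hx⟩, hx1⟩ = ⟨⟨x, hx⟩, hx1⟩ := by rw [hh]; rfl
      have h2 : h * x * h⁻¹ = x := congrArg (fun y : α => y.1.1) h1
      calc x * h = (h * x * h⁻¹) * h := by rw [h2]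
        _ = h * x := by group
  have h1 : Nat.card ψ.ker ≤ Nat.card F := Subgroup.card_le_of_le (hker.trans hC)
  have h2 : Nat.card ψ.range ≤ Nat.factorial (Nat.card F - 1) := by
    have h3 : Nat.card ψ.range ≤ Nat.card (Equiv.Perm α) := Subgroup.card_le_card_group _
    have h4 : Nat.card α = Nat.card F - 1 := by
      haveI : Fintype F := Fintype.ofFinite F
      rw [Nat.card_eq_fintype_card, Nat.card_eq_fintype_card]
      have h6 : Fintype.card {x : F // ¬ x = 1} = Fintype.card F - Fintype.card {x : F // x = 1} :=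
        Fintype.card_subtype_compl (fun x : F => x = 1)
      rw [Fintype.card_subtype_eq] at h6
      convert h6
    rw [Nat.card_perm, h4] at h3
    exact h3
  have h5 : Nat.card H = Nat.card ψ.ker * Nat.card ψ.range := by
    rw [← Subgroup.index_ker, Subgroup.card_mul_index]
  rw [h5]
  calc Nat.card ψ.ker * Nat.card ψ.range ≤ Nat.card F * Nat.factorial (Nat.card F - 1) :=
        Nat.mul_le_mul h1 h2
    _ = Nat.factorial (Nat.card F) := Nat.mul_factorial_pred (Nat.card_pos.ne')

/-- For a finite group H, |H| ≤ |F*(H)|!. -/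
theorem result {H : Type*} [Group H] [Finite H] : Nat.card H ≤ Nat.factorial (Nat.card ↥(Cfsg.generalizedFittingSubgroup H)) := by
  haveI : (Cfsg.generalizedFittingSubgroup H).Normal := Cfsg.Agent.Lib.Helper30.genFitting_normal
  exact card_le_factorial_of_centralizer_le _ Cfsg.Agent.Lib.Helper28.centralizer_genFitting_le

end Cfsg.Agent.S1313
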