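import Cfsg.Statements.S1314
-- import your own Cfsg.Agent.* helpers here

set_option autoImplicit false
open Cfsg
open scoped commutatorElement

namespace Cfsg.Agent.S1314

theorem comm_mul_central {M : Type*} [Group M] (a b z w : M)
    (hz : z * (b * w) = (b * w) * z) (hw : a * w = w * a) :
    ⁅a * z, b * w⁆ = ⁅a, b⁆ := by
  have h1 : ⁅z, b * w⁆ = 1 := commutatorElement_eq_one_iff_mul_comm.mpr hz
  have h2 : ⁅a, w⁆ = 1 := commutatorElement_eq_one_iff_mul_comm.mpr hw
  rw [commutatorElement_mul_left_eq_conj_mul, h1, commutatorElement_mul_right_eq_mul_conj, h2]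
  simp

/-- Let x be an involution of a group G and L a perfect subgroup with ⁅L, x L x⁻¹⁆ = 1. Then l ↦ l (x l x⁻¹) is a group homomorphism π from L to G whose kernel is central in L and whose image lies in C_G(x); and the commutator subgroup of C_{L ⊔ xLx⁻¹}(x) equals the image of π. -/
theorem result {G : Type*} [Group G] [Finite G] (x : G) (hx : orderOf x = 2) (L : Subgroup G) (hperf : ⁅L, L⁆ = L) (hcomm : ⁅L, L.map (MulAut.conj x).toMonoidHom⁆ = ⊥) : ∃ π : ↥L →* G, (∀ l : ↥L, π l = (l : G) * (x * (l : G) * x⁻¹)) ∧ π.ker ≤ Subgroup.center ↥L ∧ π.range ≤ Subgroup.centralizer ({x} : Set G) ∧ ⁅(L ⊔ L.map (MulAut.conj x).toMonoidHom) ⊓ Subgroup.centralizer ({x} : Set G), (L ⊔ L.map (MulAut.conj x).toMonoidHom) ⊓ Subgroup.centralizer ({x} : Set G)⁆ = π.range := by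
  have hx2 : x * x = 1 := by
    have := pow_orderOf_eq_one x
    rw [hx, pow_two] at this
    exact this
  have hxinv : x⁻¹ = x := inv_eq_of_mul_eq_one_left hx2
  set Lx := L.map (MulAut.conj x).toMonoidHom with hLx
  have hmemLx : ∀ l ∈ L, x * l * x⁻¹ ∈ Lx := fun l hl => ⟨l, hl, by simp [MulAut.conj_apply]⟩
  have hLxmem : ∀ v ∈ Lx, ∃ w ∈ L, v = x * w * x⁻¹ := by
    rintro v ⟨w, hw, rfl⟩
    exact ⟨w, hw, by simp [MulAut.conj_apply]⟩
  have hcm : ∀ a ∈ L, ∀ b ∈ Lx, a * b = b * a := by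
    intro a ha b hb
    have := Subgroup.commutator_mem_commutator ha hb
    rw [hcomm, Subgroup.mem_bot, commutatorElement_eq_one_iff_mul_comm] at this
    exact this
  let π : ↥L →* G :=
    { toFun := fun l => (l : G) * (x * (l : G) * x⁻¹)
      map_one' := by simp
      map_mul' := by
        intro a b
        have h := hcm b b.2 (x * a * x⁻¹) (hmemLx a a.2)
        simp only [Subgroup.coe_mul]
        calc (a : G) * b * (x * (a * b) * x⁻¹)
            = a * (b * (x * a * x⁻¹)) * (x * b * x⁻¹) := by group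
          _ = a * ((x * a * x⁻¹) * b) * (x * b * x⁻¹) := by rw [h]
          _ = a * (x * a * x⁻¹) * (b * (x * b * x⁻¹)) := by group }
  have hπ : ∀ l : ↥L, π l = (l : G) * (x * (l : G) * x⁻¹) := fun l => rfl
  have part2 : π.range ≤ Subgroup.centralizer ({x} : Set G) := by
    rintro _ ⟨l, rfl⟩
    rw [Subgroup.mem_centralizer_singleton_iff, hπ]
    have h := hcm l l.2 (x * l * x⁻¹) (hmemLx l l.2)
    rw [hxinv] at h ⊢
    calc (l : G) * (x * l * x) * x = (x * l * x * l) * x := by rw [h]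
      _ = x * (l * (x * l * x)) := by simp only [mul_assoc]
  refine ⟨π, hπ, ?_, part2, ?_⟩
  · intro l hl
    rw [MonoidHom.mem_ker, hπ] at hl
    have h1 : (l : G) = (x * l * x⁻¹)⁻¹ := eq_inv_of_mul_eq_one_left hl
    have h2 : (l : G) ∈ Lx := by
      rw [h1]
      exact Lx.inv_mem (hmemLx l l.2)
    rw [Subgroup.mem_center_iff]
    intro g
    exact Subtype.ext (hcm g g.2 l h2)
  · have hLn : L ≤ Subgroup.normalizer (Lx : Set G) :=
      (Subgroup.commutator_eq_bot_iff_le_centralizer.mp hcomm).trans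
        (Subgroup.centralizer_le_normalizer _)
    -- central elements
    have hZ : ∀ z ∈ L ⊓ Lx, ∀ m ∈ L ⊔ Lx, z * m = m * z := by
      intro z hz m hm
      have hzL : z ∈ L := (Subgroup.mem_inf.mp hz).1
      have hzLx : z ∈ Lx := (Subgroup.mem_inf.mp hz).2
      have hle : L ⊔ Lx ≤ Subgroup.centralizer ({z} : Set G) := by
        refine sup_le ?_ ?_
        · intro l hl
          rw [Subgroup.mem_centralizer_singleton_iff]
          exact hcm l hl z hzLx
        · intro v hv
          rw [Subgroup.mem_centralizer_singleton_iff]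
          exact (hcm z hzL v hv).symm
      exact (Subgroup.mem_centralizer_singleton_iff.mp (hle hm)).symm
    have hrangeM : π.range ≤ L ⊔ Lx := by
      rintro _ ⟨l, rfl⟩
      rw [hπ]
      exact Subgroup.mul_mem_sup l.2 (hmemLx l l.2)
    have hrangeC : π.range ≤ (L ⊔ Lx) ⊓ Subgroup.centralizer ({x} : Set G) := le_inf hrangeM part2
    have hperfR : ⁅π.range, π.range⁆ = π.range := by
      rw [MonoidHom.range_eq_map, ← Subgroup.map_commutator]
      congr 1
      have : Group.IsPerfect ↥L := Subgroup.isPerfect_iff.mpr hperf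
      rw [← commutator_def]
      exact this.commutator_eq_top
    -- decomposition of elements of C
    have decomp : ∀ a ∈ (L ⊔ Lx) ⊓ Subgroup.centralizer ({x} : Set G),
        ∃ w : ↥L, ∃ z ∈ L ⊓ Lx, a = π w * z := by
      intro a ha
      obtain ⟨haM, hax⟩ := Subgroup.mem_inf.mp ha
      rw [← SetLike.mem_coe, Subgroup.coe_mul_of_left_le_normalizer_right L Lx hLn, Set.mem_mul] at haM
      obtain ⟨u, hu, v, hv, rfl⟩ := haM
      obtain ⟨w, hw, rfl⟩ := hLxmem v hv
      have hu' : u ∈ L := hu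
      rw [Subgroup.mem_centralizer_singleton_iff] at hax
      have hE : u * (x * w * x⁻¹) = w * (x * u * x⁻¹) := by
        have h1 : x * (u * (x * w * x⁻¹)) * x⁻¹ = u * (x * w * x⁻¹) := by
          rw [← hax]; group
        have h2 : x * (u * (x * w * x⁻¹)) * x⁻¹ = (x * u * x⁻¹) * w := by
          rw [hxinv]
          simp only [mul_assoc]
          rw [hx2, mul_one]
        rw [← h1, h2]
        exact (hcm w hw _ (hmemLx u hu')).symm
      have hz_eq : w⁻¹ * u = x * (u * w⁻¹) * x⁻¹ := by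
        have : w⁻¹ * u = w⁻¹ * (u * (x * w * x⁻¹)) * (x * w * x⁻¹)⁻¹ := by group
        rw [this, hE]; group
      refine ⟨⟨w, hw⟩, w⁻¹ * u, Subgroup.mem_inf.mpr ⟨L.mul_mem (L.inv_mem hw) hu', ?_⟩, ?_⟩
      · rw [hz_eq]
        exact hmemLx _ (L.mul_mem hu' (L.inv_mem hw))
      · rw [hπ]
        have h3 : w⁻¹ * (x * w * x⁻¹) = (x * w * x⁻¹) * w⁻¹ :=
          hcm w⁻¹ (L.inv_mem hw) _ (hmemLx w hw)
        have h4 : u * (x * w * x⁻¹) = (x * w * x⁻¹) * u := hcm u hu' _ (hmemLx w hw)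
        symm
        calc w * (x * w * x⁻¹) * (w⁻¹ * u) = w * ((x * w * x⁻¹) * w⁻¹) * u := by group
          _ = w * (w⁻¹ * (x * w * x⁻¹)) * u := by rw [h3]
          _ = (x * w * x⁻¹) * u := by group
          _ = u * (x * w * x⁻¹) := h4.symm
    apply le_antisymm
    · rw [Subgroup.commutator_le]
      intro a ha b hb
      obtain ⟨w₁, z₁, hz₁, rfl⟩ := decomp a ha
      obtain ⟨w₂, z₂, hz₂, rfl⟩ := decomp b hb
      have hbM : π w₂ * z₂ ∈ L ⊔ Lx := (Subgroup.mem_inf.mp hb).1
      have hπ1M : π w₁ ∈ L ⊔ Lx := hrangeM ⟨w₁, rfl⟩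
      rw [comm_mul_central (π w₁) (π w₂) z₁ z₂ (hZ z₁ hz₁ _ hbM) (hZ z₂ hz₂ _ hπ1M).symm,
        ← map_commutatorElement]
      exact ⟨_, rfl⟩
    · rw [← hperfR]
      exact Subgroup.commutator_mono hrangeC hrangeC

end Cfsg.Agent.S1314
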