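import Cfsg.Statements.S1321
import Cfsg.Agent.Lib.Helper30.Layer

set_option autoImplicit false
open Cfsg

namespace Cfsg.Agent.S1321

open Cfsg.Agent.Lib.Helper30 in
/-- Let X be finite and U ≤ X. Then E(X) is generated by C_{E(X)}(U) together with ⁅E(X), U⁆ (indeed it is their product, ⁅E(X), U⁆ being normal in E(X)). -/
theorem result {X : Type*} [Group X] [Finite X] (U : Subgroup X) : Cfsg.layer X = (Cfsg.layer X ⊓ Subgroup.centralizer (U : Set X)) ⊔ ⁅Cfsg.layer X, U⁆ ∧ ⁅Cfsg.layer X, U⁆ ≤ Cfsg.layer X := by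
  have hle : ⁅Cfsg.layer X, U⁆ ≤ Cfsg.layer X := Subgroup.commutator_le_left _ _
  refine ⟨le_antisymm ?_ (sup_le inf_le_left hle), hle⟩
  have hNn : (⁅Cfsg.layer X, U⁆.subgroupOf (Cfsg.layer X)).Normal :=
    (Subgroup.normal_subgroupOf_iff_le_normalizer hle).mpr (Subgroup.normalizer_commutator_ge_left _ _)
  have hNsn : (⁅Cfsg.layer X, U⁆).IsSubnormal :=
    Subgroup.IsSubnormal.step _ _ hle (layer_normal (G := X)).isSubnormal hNn
  refine layer_le ?_
  intro L hL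
  rcases component_subnormal_dichotomy hL.1 hL.2 hNsn with h | h
  · exact h.trans le_sup_right
  · refine le_trans ?_ le_sup_left
    refine le_inf (component_le_layer hL) ?_
    rw [← Subgroup.commutator_eq_bot_iff_le_centralizer]
    have h0 : ⁅L, U⁆ ≤ ⁅Cfsg.layer X, U⁆ := Subgroup.commutator_mono (component_le_layer hL) le_rfl
    have h1 : ⁅⁅L, U⁆, L⁆ = ⊥ := by
      rw [eq_bot_iff]
      calc ⁅⁅L, U⁆, L⁆ ≤ ⁅⁅Cfsg.layer X, U⁆, L⁆ := Subgroup.commutator_mono h0 le_rfl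
        _ = ⁅L, ⁅Cfsg.layer X, U⁆⁆ := Subgroup.commutator_comm _ _
        _ = ⊥ := h
    have h2 : ⁅⁅U, L⁆, L⁆ = ⊥ := by
      rw [Subgroup.commutator_comm U L]; exact h1
    have h3 := Subgroup.commutator_commutator_eq_bot_of_rotate (H₁ := L) (H₂ := L) (H₃ := U) h1 h2
    rwa [component_perfect hL] at h3

end Cfsg.Agent.S1321
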