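import Cfsg.Statements.S1323
import Cfsg.Agent.Lib.Helper30.AltStd

set_option autoImplicit false
open Cfsg

namespace Cfsg.Agent.S1323

open Cfsg.Agent.Lib.Helper30.AltStd Equiv

/-- For n ≥ 9, the subgroup of the alternating group on Fin n fixing each of the points 0, 1, 2, 3 is a standard subgroup. -/
theorem result (n : ℕ) (h4 : 4 ≤ n) (hn : 9 ≤ n) : Cfsg.IsStandardSubgroup (⨅ i : Fin 4, MulAction.stabilizer ↥(alternatingGroup (Fin n)) (Fin.castLE h4 i : Fin n)) := by
  set D : Finset (Fin n) := Finset.univ.image (Fin.castLE h4) with hD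
  have hDc : D.card = 4 := by
    rw [hD, Finset.card_image_of_injective _ (Fin.castLE_injective h4)]
    simp
  have hDcc : Dᶜ.card = n - 4 := by rw [Finset.card_compl, hDc, Fintype.card_fin]
  have hmemD : ∀ i : Fin 4, Fin.castLE h4 i ∈ D := by
    intro i
    rw [hD, Finset.mem_image]
    exact ⟨i, Finset.mem_univ _, rfl⟩
  have hL : (⨅ i : Fin 4, MulAction.stabilizer ↥(alternatingGroup (Fin n))
      (Fin.castLE h4 i : Fin n)) = fixOut Dᶜ := by
    ext σ
    rw [Subgroup.mem_iInf, mem_fixOut]
    constructor
    · intro h x hx
      rw [Finset.mem_compl, not_not, hD, Finset.mem_image] at hx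
      obtain ⟨i, -, rfl⟩ := hx
      exact MulAction.mem_stabilizer_iff.mp (h i)
    · intro h i
      rw [MulAction.mem_stabilizer_iff]
      apply h
      rw [Finset.mem_compl, not_not]
      exact hmemD i
  rw [hL]
  have hC : Subgroup.centralizer (fixOut Dᶜ : Set (alternatingGroup (Fin n))) = fixOut D := by
    rw [centralizer_fixOut (by omega), compl_compl]
  refine ⟨isQuasisimple_fixOut (by omega), ?_, ?_, ?_⟩
  · rw [hC]
    refine ⟨?_, ?_⟩
    · apply even_card_fixOut (hmemD 0) (hmemD 1) (hmemD 2) (hmemD 3)
      have hinj := Fin.castLE_injective h4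
      simp only [List.nodup_cons, List.mem_cons, List.not_mem_nil, or_false, not_or,
        List.nodup_nil, and_true, not_false_eq_true]
      refine ⟨⟨?_, ?_, ?_⟩, ⟨?_, ?_⟩, ?_⟩ <;> intro h <;> exact absurd (hinj h) (by decide)
    · intro g hg
      rw [map_conj_fixOut, fixOut_inf]
      apply odd_card_fixOut
      by_contra hcard
      push Not at hcard
      apply hg
      apply mem_normalizer_of_image_eq
      have hci : (D.image (g : Perm (Fin n))).card = D.card :=
        Finset.card_image_of_injective _ (g : Perm (Fin n)).injective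
      have h1 : D ∩ D.image (g : Perm (Fin n)) = D :=
        Finset.eq_of_subset_of_card_le Finset.inter_subset_left (by omega)
      have h2 : D ⊆ D.image (g : Perm (Fin n)) := by
        intro x hx
        rw [← h1] at hx
        exact (Finset.mem_inter.mp hx).2
      exact (Finset.eq_of_subset_of_card_le h2 (by omega)).symm
  · intro g _ hcomm
    rw [Subgroup.commutator_comm, Subgroup.commutator_eq_bot_iff_le_centralizer, hC,
      map_conj_fixOut] at hcomm
    have hci : (Dᶜ.image (g : Perm (Fin n))).card = Dᶜ.card :=
      Finset.card_image_of_injective _ (g : Perm (Fin n)).injective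
    have h2 := subset_of_fixOut_le (by omega) hcomm
    have := Finset.card_le_card h2
    omega
  · rw [hC]
    ext g
    constructor
    · intro hg
      have h1 := image_eq_of_mem_normalizer (by omega) hg
      have h2 := image_compl_eq _ h1
      rw [compl_compl] at h2
      exact mem_normalizer_of_image_eq h2
    · intro hg
      have h1 := image_eq_of_mem_normalizer (by omega) hg
      exact mem_normalizer_of_image_eq (image_compl_eq _ h1)

end Cfsg.Agent.S1323
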