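import Cfsg.Statements.S1326
import Cfsg.Agent.Lib.Helper30.FStar
import Cfsg.Agent.S1265

set_option autoImplicit false
open Cfsg

namespace Cfsg.Agent.S1326

open Cfsg.Agent.Lib.Helper30 in
/-- For a finite group X: the Fitting subgroup contains its centralizer if and only if the layer of X is trivial. -/
theorem result {X : Type*} [Group X] [Finite X] : Subgroup.centralizer (Cfsg.fittingSubgroup X : Set X) ≤ Cfsg.fittingSubgroup X ↔ Cfsg.layer X = ⊥ := by
  constructor
  · intro h
    rw [eq_bot_iff]
    refine layer_le fun K hK => ?_
    exfalso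
    have h1 : ⁅K, Cfsg.fittingSubgroup X⁆ = ⊥ :=
      component_commute_solvable hK (fitting_normal (G := X)).isSubnormal fitting_isSolvable
    have h2 : K ≤ Cfsg.fittingSubgroup X :=
      (Subgroup.commutator_eq_bot_iff_le_centralizer.mp h1).trans h
    exact component_not_le_solvable hK fitting_isSolvable h2
  · intro h
    have h1 : Cfsg.generalizedFittingSubgroup X = Cfsg.fittingSubgroup X := by
      unfold Cfsg.generalizedFittingSubgroup
      rw [h, bot_sup_eq]
    have h2 := Cfsg.Agent.S1265.result (G := X)
    rwa [h1] at h2

end Cfsg.Agent.S1326
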