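import Cfsg.Statements.S1331
import Cfsg.Agent.Lib.Helper30.Generation

set_option autoImplicit false
open Cfsg

namespace Cfsg.Agent.S1331

/-- Let θ be a solvable A-signalizer functor on the finite group G for the prime p, A elementary abelian of rank at least 3, X a member of the family of θ, and B ≤ A with |B| ≥ p². Then X is generated by the subgroups X ∩ ⋂_{d ∈ D, d ≠ 1} θ d, D ranging over the subgroups of index p in B. -/
theorem result {G : Type*} [Group G] [Finite G] (p : ℕ) [Fact p.Prime] (A : Subgroup G) (hA : Cfsg.IsElementaryAbelian p A) (hA3 : p ^ 3 ≤ Nat.card ↥A) (θ : G → Subgroup G) (hθ : Cfsg.IsSolvableSignalizerFunctor p A θ) (X : Subgroup G) (hX : X ∈ Cfsg.signalizerFamily p A θ) (B : Subgroup G) (hB : B ≤ A) (hB2 : p ^ 2 ≤ Nat.card ↥B) : X = ⨆ D : {D : Subgroup G // D ≤ B ∧ D.relIndex B = p}, X ⊓ Cfsg.signalizerInf (D : Subgroup G) θ := by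
  have hAc : ∀ x ∈ B, ∀ y ∈ B, x * y = y * x := by
    intro x hx y hy
    haveI := hA.1
    have := mul_comm' (⟨x, hB hx⟩ : ↥A) ⟨y, hB hy⟩
    exact congrArg Subtype.val this
  have hBp : ∀ x ∈ B, x ^ p = 1 := fun x hx => hA.2 x (hB hx)
  obtain ⟨_, hpX, hinv, hfam⟩ := hX
  have hBX : B ≤ Subgroup.normalizer (X : Set G) := by
    intro g hg
    apply Cfsg.Agent.Lib.Helper30.gen_mem_normalizer_of_map_conj_le
    rintro _ ⟨y, hy, rfl⟩
    exact hinv g (hB hg) y hy
  refine le_antisymm ?_ (iSup_le fun D => inf_le_left)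
  refine Cfsg.Agent.Lib.Helper30.coprime_generation p B hAc hBp hB2 X hBX hpX _ ?_
  intro D hDB hrel
  refine le_trans ?_ (le_iSup (fun D : {D : Subgroup G // D ≤ B ∧ D.relIndex B = p} =>
    X ⊓ Cfsg.signalizerInf (D : Subgroup G) θ) ⟨D, hDB, hrel⟩)
  refine le_inf inf_le_left ?_
  unfold Cfsg.signalizerInf
  refine le_iInf fun d => ?_
  refine le_trans ?_ (hfam (d : G) (hB (hDB d.2.1)) d.2.2)
  refine inf_le_inf_left _ (Subgroup.centralizer_le ?_)
  intro z hz
  rw [Set.mem_singleton_iff] at hz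
  rw [hz]
  exact d.2.1

end Cfsg.Agent.S1331
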