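import Cfsg.Statements.S1335
-- import your own Cfsg.Agent.* helpers here

set_option autoImplicit false
open Cfsg

namespace Cfsg.Agent.S1335

theorem pRankLE_of_injective {H K : Type*} [Group H] [Group K] (p k : ℕ) (f : H →* K)
    (hf : Function.Injective f) (h : Cfsg.PRankLE p k K) : Cfsg.PRankLE p k H := by
  intro A hA hexp
  have h1 : IsMulCommutative ↥(A.map f) := Subgroup.map_isMulCommutative A f
  have h2 : ∀ a ∈ A.map f, a ^ p = 1 := by
    rintro _ ⟨x, hx, rfl⟩
    rw [← map_pow, hexp x hx, map_one]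
  have h3 := h (A.map f) h1 h2
  rwa [Subgroup.card_map_of_injective hf] at h3

/-- Let H be a subgroup of the finite group G, p a prime, k ≥ 1, P a Sylow p-subgroup of H of p-rank at least k, and suppose N_G(X) ≤ H for every subgroup X ≤ P of p-rank at least k. Then P is a Sylow p-subgroup of G. -/
theorem result {G : Type*} [Group G] [Finite G] {p : ℕ} [Fact p.Prime] (k : ℕ) (hk : 1 ≤ k) (H : Subgroup G) (P : Sylow p ↥H) (hP : ¬ Cfsg.PRankLE p (k - 1) ↥(P : Subgroup ↥H)) (hΓ : (∀ X : Subgroup G, X ≤ (P : Subgroup ↥H).map H.subtype → ¬ Cfsg.PRankLE p (k - 1) ↥X → Subgroup.normalizer (X : Set G) ≤ H)) : ∃ Q : Sylow p G, (Q : Subgroup G) = (P : Subgroup ↥H).map H.subtype := by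
  set P' : Subgroup G := (P : Subgroup ↥H).map H.subtype with hP'
  have hP'p : IsPGroup p P' := P.isPGroup'.map H.subtype
  have hrank : ¬ Cfsg.PRankLE p (k - 1) ↥P' := by
    intro h
    apply hP
    exact pRankLE_of_injective p (k - 1)
      ((P : Subgroup ↥H).equivMapOfInjective H.subtype H.subtype_injective).toMonoidHom
      ((P : Subgroup ↥H).equivMapOfInjective H.subtype H.subtype_injective).injective h
  have hN : Subgroup.normalizer (P' : Set G) ≤ H := hΓ P' le_rfl hrank
  obtain ⟨n, hn⟩ := IsPGroup.iff_card.mp hP'p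
  have hmod := Sylow.card_quotient_normalizer_modEq_card_quotient hn
  have h1 : ¬ p ∣ P'.relIndex (Subgroup.normalizer (P' : Set G)) := by
    intro hdvd
    have h2 : P'.relIndex (Subgroup.normalizer (P' : Set G)) *
        (Subgroup.normalizer (P' : Set G)).relIndex H = P'.relIndex H :=
      Subgroup.relIndex_mul_relIndex _ _ _ Subgroup.le_normalizer hN
    have h3 : P'.relIndex H = (P : Subgroup H).index := by
      unfold Subgroup.relIndex
      congr 1
      exact Subgroup.comap_map_eq_self_of_injective H.subtype_injective _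
    have h4 : ¬ p ∣ (P : Subgroup H).index := P.not_dvd_index
    apply h4
    rw [← h3, ← h2]
    exact Dvd.dvd.mul_right hdvd _
  have h5 : ¬ p ∣ P'.index := by
    intro hdvd
    apply h1
    have h6 : Nat.card (G ⧸ P') ≡ 0 [MOD p] := Nat.modEq_zero_iff_dvd.mpr hdvd
    exact Nat.modEq_zero_iff_dvd.mp (hmod.trans h6)
  exact ⟨hP'p.toSylow h5, rfl⟩

end Cfsg.Agent.S1335
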