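import Mathlib
import Cfsg.Statements.S1336

set_option autoImplicit false
open Cfsg

namespace Cfsg.Agent.S1336

open scoped Pointwise

section aux

variable {G : Type*} [Group G]

def Vx (p : ℕ) (A : Subgroup G) : Prop := IsElementaryAbelian p A ∧ p ^ 1 ≤ Nat.card ↥A

def ERel (p : ℕ) (A B : Subgroup G) : Prop :=
  IsElementaryAbelian p A ∧ p ^ 1 ≤ Nat.card ↥A ∧ IsElementaryAbelian p B ∧
    p ^ 1 ≤ Nat.card ↥B ∧ ∀ a ∈ A, ∀ b ∈ B, a * b = b * a

theorem isKConnected_iff (p : ℕ) : Cfsg.IsKConnected p 1 G ↔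
    ∀ E E' : Subgroup G, Vx p E → Vx p E' → Relation.ReflTransGen (ERel p) E E' := by
  constructor
  · intro h E E' hE hE'; exact h E E' hE.1 hE.2 hE'.1 hE'.2
  · intro h E E' h1 h2 h3 h4; exact h E E' ⟨h1, h2⟩ ⟨h3, h4⟩

theorem ERel.symm {p : ℕ} {A B : Subgroup G} (h : ERel p A B) : ERel p B A :=
  ⟨h.2.2.1, h.2.2.2.1, h.1, h.2.1, fun b hb a ha => (h.2.2.2.2 a ha b hb).symm⟩

theorem reach_symm {p : ℕ} {A B : Subgroup G} (h : Relation.ReflTransGen (ERel p) A B) :
    Relation.ReflTransGen (ERel p) B A := by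
  induction h with
  | refl => exact Relation.ReflTransGen.refl
  | tail _ hbc ih => exact Relation.ReflTransGen.head hbc.symm ih

theorem Vx.smul {p : ℕ} (g : G) {A : Subgroup G} (h : Vx p A) :
    Vx p (MulAut.conj g • A) := by
  refine ⟨⟨⟨⟨?_⟩⟩, ?_⟩, ?_⟩
  · rintro ⟨a, ha⟩ ⟨b, hb⟩
    rw [Subgroup.mem_pointwise_smul_iff_inv_smul_mem] at ha hb
    have := congrArg Subtype.val (h.1.1.is_comm.comm ⟨_, ha⟩ ⟨_, hb⟩)
    simp only [Subgroup.coe_mul] at this
    rw [← smul_mul', ← smul_mul'] at this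
    exact Subtype.ext (smul_left_cancel _ this)
  · intro a ha
    rw [Subgroup.mem_pointwise_smul_iff_inv_smul_mem] at ha
    have := h.1.2 _ ha
    rw [← smul_pow'] at this
    have h1 : (MulAut.conj g)⁻¹ • (a ^ p) = (MulAut.conj g)⁻¹ • (1 : G) := by rw [this, smul_one]
    exact smul_left_cancel _ h1
  · rw [← Nat.card_congr (Subgroup.equivSMul (MulAut.conj g) A).toEquiv]; exact h.2

theorem ERel.smul {p : ℕ} (g : G) {A B : Subgroup G} (h : ERel p A B) :
    ERel p (MulAut.conj g • A) (MulAut.conj g • B) := by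
  have hA : Vx p A := ⟨h.1, h.2.1⟩
  have hB : Vx p B := ⟨h.2.2.1, h.2.2.2.1⟩
  refine ⟨(hA.smul g).1, (hA.smul g).2, (hB.smul g).1, (hB.smul g).2, ?_⟩
  intro a ha b hb
  rw [Subgroup.mem_pointwise_smul_iff_inv_smul_mem] at ha hb
  have := h.2.2.2.2 _ ha _ hb
  rw [← smul_mul', ← smul_mul'] at this
  exact smul_left_cancel _ this

theorem reach_smul {p : ℕ} (g : G) {A B : Subgroup G}
    (h : Relation.ReflTransGen (ERel p) A B) :
    Relation.ReflTransGen (ERel p) (MulAut.conj g • A) (MulAut.conj g • B) :=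
  Relation.ReflTransGen.lift (r := ERel p) (p := ERel p)
    (fun A : Subgroup G => MulAut.conj g • A) (fun _ _ h => h.smul g) _ _ h

theorem Vx.isPGroup {p : ℕ} {A : Subgroup G} (h : Vx p A) : IsPGroup p A := by
  intro a
  refine ⟨1, ?_⟩
  have := h.1.2 a a.2
  apply Subtype.ext
  simpa using this

theorem Vx.dvd_card {p : ℕ} [Fact p.Prime] [Finite G] {A : Subgroup G} (h : Vx p A) :
    p ∣ Nat.card A := by
  obtain ⟨n, hn⟩ := (IsPGroup.iff_card).mp h.isPGroup
  have hp := (Fact.out : p.Prime)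
  have h2 := h.2
  rw [hn] at h2 ⊢
  rcases n with _ | n
  · simp at h2
    have := hp.two_le
    omega
  · exact Dvd.intro_left _ (pow_succ p n).symm

theorem vx_zpowers {p : ℕ} [Fact p.Prime] {x : G} (hx : orderOf x = p) :
    Vx p (Subgroup.zpowers x) := by
  refine ⟨⟨inferInstance, ?_⟩, ?_⟩
  · intro a ha
    obtain ⟨k, rfl⟩ := Subgroup.mem_zpowers_iff.mp ha
    rw [← zpow_natCast, ← zpow_mul, mul_comm, zpow_mul, zpow_natCast, ← hx, pow_orderOf_eq_one,
      one_zpow]
  · rw [Nat.card_zpowers, hx, pow_one]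

/-- Two vertices inside a common `p`-subgroup are joined (through a central element). -/
theorem reach_of_le_pgroup {p : ℕ} [Fact p.Prime] [Finite G] {P A B : Subgroup G}
    (hP : IsPGroup p P) (hA : Vx p A) (hB : Vx p B) (hAP : A ≤ P) (hBP : B ≤ P) :
    Relation.ReflTransGen (ERel p) A B := by
  have hp := (Fact.out : p.Prime)
  have hPnt : Nontrivial P := by
    have h1 : 1 < Nat.card A := lt_of_lt_of_le hp.one_lt (by simpa using hA.2)
    have h2 : Nat.card A ≤ Nat.card P := Nat.le_of_dvd Nat.card_pos (Subgroup.card_dvd_of_le hAP)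
    exact Finite.one_lt_card_iff_nontrivial.mp (lt_of_lt_of_le h1 h2)
  have := hP.center_nontrivial
  have hZp : IsPGroup p (Subgroup.center P) := hP.to_subgroup _
  have hdvd : p ∣ Nat.card (Subgroup.center P) := by
    obtain ⟨n, hn⟩ := (IsPGroup.iff_card).mp hZp
    rcases n with _ | n
    · have : 1 < Nat.card (Subgroup.center P) := Finite.one_lt_card
      rw [pow_zero] at hn
      omega
    · rw [hn]; exact Dvd.intro_left _ (pow_succ p n).symm
  obtain ⟨z, hz⟩ := exists_prime_orderOf_dvd_card' p hdvd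
  have hz' : orderOf ((z : P) : G) = p := by
    rw [Subgroup.orderOf_coe, Subgroup.orderOf_coe]; exact hz
  have hZ := vx_zpowers hz'
  have hcomm : ∀ a ∈ P, ∀ c ∈ Subgroup.zpowers ((z : P) : G), a * c = c * a := by
    intro a ha c hc
    obtain ⟨k, rfl⟩ := Subgroup.mem_zpowers_iff.mp hc
    have h1 : (⟨a, ha⟩ : P) * (z : P) = (z : P) * ⟨a, ha⟩ :=
      (Subgroup.mem_center_iff.mp z.2 ⟨a, ha⟩)
    have h2 : a * ((z : P) : G) = ((z : P) : G) * a := congrArg Subtype.val h1
    exact ((Commute.zpow_right h2 k : Commute a _)).eq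
  have h1 : ERel p A (Subgroup.zpowers ((z : P) : G)) :=
    ⟨hA.1, hA.2, hZ.1, hZ.2, fun a ha c hc => hcomm a (hAP ha) c hc⟩
  have h2 : ERel p (Subgroup.zpowers ((z : P) : G)) B :=
    ⟨hZ.1, hZ.2, hB.1, hB.2, fun c hc b hb => (hcomm b (hBP hb) c hc).symm⟩
  exact Relation.ReflTransGen.trans (Relation.ReflTransGen.single h1)
    (Relation.ReflTransGen.single h2)

/-- Relative Sylow: two `p`-subgroups of `H` can be put in one `p`-subgroup after `H`-conjugation. -/
theorem exists_conj_le_pgroup {p : ℕ} [Fact p.Prime] [Finite G] (H X E : Subgroup G)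
    (hX : X ≤ H) (hE : E ≤ H) (hXp : IsPGroup p X) (hEp : IsPGroup p E) :
    ∃ h ∈ H, ∃ P : Subgroup G, IsPGroup p P ∧ MulAut.conj h • X ≤ P ∧ E ≤ P := by
  have hX' : IsPGroup p (X.subgroupOf H) :=
    hXp.of_equiv (Subgroup.subgroupOfEquivOfLe hX).symm
  have hE' : IsPGroup p (E.subgroupOf H) :=
    hEp.of_equiv (Subgroup.subgroupOfEquivOfLe hE).symm
  obtain ⟨P, hXP⟩ := hX'.exists_le_sylow
  obtain ⟨Q, hEQ⟩ := hE'.exists_le_sylow
  obtain ⟨h, rfl⟩ := MulAction.exists_smul_eq H P Q
  refine ⟨(h : G), h.2, ((h • P : Sylow p H) : Subgroup H).map H.subtype, ?_, ?_, ?_⟩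
  · exact (h • P).2.map _
  · intro x hx
    rw [Subgroup.mem_pointwise_smul_iff_inv_smul_mem] at hx
    have hxH : (MulAut.conj (h : G))⁻¹ • x ∈ H := hX hx
    have h1 : (⟨_, hxH⟩ : H) ∈ (P : Subgroup H) := hXP (Subgroup.mem_subgroupOf.mpr hx)
    refine ⟨h * ⟨_, hxH⟩ * h⁻¹, ?_, ?_⟩
    · have hc : ((h • P : Sylow p H) : Subgroup H) = MulAut.conj h • (P : Subgroup H) :=
        Sylow.coe_subgroup_smul
      rw [SetLike.mem_coe, hc, Subgroup.mem_pointwise_smul_iff_inv_smul_mem]
      simpa [MulAut.smul_def, mul_assoc] using h1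
    · simp [MulAut.smul_def, mul_assoc]
  · intro e he
    exact ⟨⟨e, hE he⟩, hEQ (Subgroup.mem_subgroupOf.mpr he), rfl⟩

/-- The stabiliser of the connected component of `E`. -/
def stab (p : ℕ) (E : Subgroup G) : Subgroup G where
  carrier := {g | Relation.ReflTransGen (ERel p) (MulAut.conj g • E) E}
  one_mem' := by
    show Relation.ReflTransGen (ERel p) (MulAut.conj (1 : G) • E) E
    rw [map_one, one_smul]
  mul_mem' := by
    intro g h hg hh
    show Relation.ReflTransGen (ERel p) (MulAut.conj (g * h) • E) E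
    rw [map_mul, mul_smul]
    exact Relation.ReflTransGen.trans (reach_smul g hh) hg
  inv_mem' := by
    intro g hg
    show Relation.ReflTransGen (ERel p) (MulAut.conj g⁻¹ • E) E
    have := reach_smul g⁻¹ hg
    rw [← mul_smul, ← map_mul, inv_mul_cancel, map_one, one_smul] at this
    exact reach_symm this

theorem mem_stab {p : ℕ} {E : Subgroup G} {g : G} :
    g ∈ stab p E ↔ Relation.ReflTransGen (ERel p) (MulAut.conj g • E) E := Iff.rfl

theorem le_stab (p : ℕ) (E : Subgroup G) : E ≤ stab p E := by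
  intro e he
  rw [mem_stab, Subgroup.conj_smul_eq_self_of_mem he]

theorem reach_of_le_stab {p : ℕ} [Fact p.Prime] [Finite G] {E X : Subgroup G} (hE : Vx p E)
    (hX : Vx p X) (hXH : X ≤ stab p E) : Relation.ReflTransGen (ERel p) X E := by
  obtain ⟨h, hh, P, hP, hXP, hEP⟩ :=
    exists_conj_le_pgroup (stab p E) X E hXH (le_stab p E) hX.isPGroup hE.isPGroup
  have h1 := reach_of_le_pgroup hP (hX.smul h) hE hXP hEP
  have h2 := reach_smul h⁻¹ h1
  rw [← mul_smul, ← map_mul, inv_mul_cancel, map_one, one_smul] at h2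
  exact h2.trans ((stab p E).inv_mem hh)

end aux

/-- Let G be finite and p prime. Then G has a proper subgroup H with p ∣ |H| and p ∤ |H ∩ gHg⁻¹| for every g ∉ H (a strongly p-embedded subgroup) if and only if G is not 1-connected for p. -/
theorem result {G : Type*} [Group G] [Finite G] (p : ℕ) [Fact p.Prime] : (∃ H : Subgroup G, H ≠ ⊤ ∧ p ∣ Nat.card ↥H ∧ ∀ g : G, g ∉ H → ¬ p ∣ Nat.card ↥(H ⊓ H.map (MulAut.conj g).toMonoidHom)) ↔ ¬ Cfsg.IsKConnected p 1 G := by
  rw [isKConnected_iff]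
  constructor
  · rintro ⟨H, hHtop, hpH, hH⟩ hconn
    obtain ⟨x, hx⟩ := exists_prime_orderOf_dvd_card' p hpH
    have hx' : orderOf (x : G) = p := by rw [Subgroup.orderOf_coe]; exact hx
    have hE := vx_zpowers hx'
    have hEH : Subgroup.zpowers (x : G) ≤ H := by
      rw [Subgroup.zpowers_le]; exact x.2
    obtain ⟨g, hg⟩ : ∃ g, g ∉ H := by
      by_contra hcon
      push Not at hcon
      exact hHtop (eq_top_iff.mpr fun g _ => hcon g)
    have key : ∀ B, Relation.ReflTransGen (ERel p) (Subgroup.zpowers (x : G)) B → B ≤ H := by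
      intro B hB
      induction hB with
      | refl => exact hEH
      | @tail A B _ hbc ih =>
        intro b hb
        by_contra hbH
        apply hH b hbH
        have hA : Vx p A := ⟨hbc.1, hbc.2.1⟩
        refine dvd_trans hA.dvd_card (Subgroup.card_dvd_of_le ?_)
        intro a ha
        refine ⟨ih ha, ?_⟩
        show a ∈ MulAut.conj b • H
        rw [Subgroup.mem_pointwise_smul_iff_inv_smul_mem]
        have hab := hbc.2.2.2.2 a ha b hb
        have : (MulAut.conj b)⁻¹ • a = a := by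
          rw [← map_inv, MulAut.smul_def, MulAut.conj_apply, inv_inv, mul_assoc, hab,
            inv_mul_cancel_left]
        rw [this]; exact ih ha
    have h1 := key _ (hconn _ _ hE (hE.smul g))
    apply hH g hg
    refine dvd_trans (hE.smul g).dvd_card (Subgroup.card_dvd_of_le ?_)
    intro a ha
    refine ⟨h1 ha, ?_⟩
    show a ∈ MulAut.conj g • H
    rw [Subgroup.mem_pointwise_smul_iff_inv_smul_mem] at ha ⊢
    exact hEH ha
  · intro hnc
    push Not at hnc
    obtain ⟨E, E', hE, hE', hnr⟩ := hnc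
    refine ⟨stab p E, ?_, ?_, ?_⟩
    · intro htop
      apply hnr
      apply reach_symm
      apply reach_of_le_stab hE hE'
      rw [htop]; exact le_top
    · exact dvd_trans hE.dvd_card (Subgroup.card_dvd_of_le (le_stab p E))
    · intro g hg hdvd
      apply hg
      obtain ⟨x, hx⟩ := exists_prime_orderOf_dvd_card' p hdvd
      have hx' : orderOf (x : G) = p := by rw [Subgroup.orderOf_coe]; exact hx
      have hX := vx_zpowers hx'
      have hxmem := x.2
      have hx1 : (x : G) ∈ stab p E := hxmem.1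
      have hx2 : (x : G) ∈ MulAut.conj g • stab p E := hxmem.2
      have hXH : Subgroup.zpowers (x : G) ≤ stab p E := by
        rw [Subgroup.zpowers_le]; exact hx1
      have hXH2 : MulAut.conj g⁻¹ • Subgroup.zpowers (x : G) ≤ stab p E := by
        intro a ha
        rw [Subgroup.mem_pointwise_smul_iff_inv_smul_mem, map_inv, inv_inv] at ha
        obtain ⟨k, hk⟩ := Subgroup.mem_zpowers_iff.mp ha
        rw [Subgroup.mem_pointwise_smul_iff_inv_smul_mem] at hx2
        have h3 := (stab p E).zpow_mem hx2 k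
        rw [← smul_zpow', hk, ← mul_smul, inv_mul_cancel, one_smul] at h3
        exact h3
      have r1 := reach_of_le_stab hE hX hXH
      have r2 := reach_of_le_stab hE (hX.smul g⁻¹) hXH2
      have r3 := reach_smul g r2
      rw [← mul_smul, ← map_mul, mul_inv_cancel, map_one, one_smul] at r3
      rw [mem_stab]
      exact (reach_symm r3).trans r1

end Cfsg.Agent.S1336
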