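import Cfsg.Statements.S1337
import Cfsg.Agent.Lib.Helper06.NormalRankTwo
import Cfsg.Agent.Lib.Helper06.ConjCount

set_option autoImplicit false
open Cfsg

namespace Cfsg.Agent.S1337

open Cfsg.Agent.Lib.Helper06 Subgroup

/-- an elementary abelian subgroup of order exceeding `p ^ 2` inside `C_P(X)` witnesses that
`C_P(X)` has `p`-rank at least `3`. -/
theorem not_pRankLE_centralizer_of {P : Type*} [Group P] (p : ℕ) (X Z' : Subgroup P)
    (hZc : IsMulCommutative Z') (hZp : ∀ a ∈ Z', a ^ p = 1)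
    (hZX : Z' ≤ Subgroup.centralizer (X : Set P)) (hcard : p ^ 2 < Nat.card Z') :
    ¬ Cfsg.PRankLE p 2 ↥(Subgroup.centralizer (X : Set P)) := by
  intro h
  have h1 := h (Z'.subgroupOf (Subgroup.centralizer (X : Set P))) inferInstance (by
    intro a ha
    rw [Subgroup.mem_subgroupOf] at ha
    apply Subtype.ext
    have := hZp _ ha
    simpa using this)
  have h2 : Nat.card (Z'.subgroupOf (Subgroup.centralizer (X : Set P))) = Nat.card Z' :=
    Nat.card_congr (Subgroup.subgroupOfEquivOfLe hZX).toEquiv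
  omega

/-- Let P be a finite p-group of p-rank greater than 2. Then P has a normal elementary abelian subgroup U of order p², and for every elementary abelian X ≤ P with |X| ≥ p²: X is joined to U by a chain of pairwise commuting elementary abelian subgroups of order ≥ p² if and only if C_P(X) has p-rank greater than 2. -/
theorem result {P : Type*} [Group P] [Finite P] (p : ℕ) [Fact p.Prime] (hP : IsPGroup p P) (hrk : ¬ Cfsg.PRankLE p 2 P) : ∃ U : Subgroup P, U.Normal ∧ Cfsg.IsElementaryAbelian p U ∧ Nat.card ↥U = p ^ 2 ∧ ∀ X : Subgroup P, Cfsg.IsElementaryAbelian p X → p ^ 2 ≤ Nat.card ↥X → (Relation.ReflTransGen (fun A B : Subgroup P => Cfsg.IsElementaryAbelian p A ∧ p ^ 2 ≤ Nat.card ↥A ∧ Cfsg.IsElementaryAbelian p B ∧ p ^ 2 ≤ Nat.card ↥B ∧ ∀ a ∈ A, ∀ b ∈ B, a * b = b * a) X U ↔ ¬ Cfsg.PRankLE p 2 ↥(Subgroup.centralizer (X : Set P))) := by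
  classical
  have hppos : 0 < p := (Fact.out : p.Prime).pos
  have hp1 : 1 < p := (Fact.out : p.Prime).one_lt
  -- a witness of rank ≥ 3
  unfold Cfsg.PRankLE at hrk
  push Not at hrk
  obtain ⟨A0, hA0c, hA0p, hA0card⟩ := hrk
  obtain ⟨z, u, hz1, hzp, hzc, hup, huz, hconj⟩ := exists_normal_rank_two hP A0 hA0p hA0card
  have hzcomm : ∀ s : P, s * z = z * s := fun s => Subgroup.mem_center_iff.mp hzc s
  have hu1 : u ≠ 1 := fun h => huz (h ▸ one_mem _)
  have hordz : orderOf z = p := orderOf_eq_prime hzp hz1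
  have hordu : orderOf u = p := orderOf_eq_prime hup hu1
  -- elements of ⟨z⟩ are central of exponent p
  have hZcent : ∀ x ∈ zpowers z, ∀ s : P, s * x = x * s := by
    intro x hx s
    obtain ⟨i, rfl⟩ := Subgroup.mem_zpowers_iff.mp hx
    exact ((show Commute s z from hzcomm s).zpow_right i).eq
  have hZp : ∀ x ∈ zpowers z, x ^ p = 1 := by
    intro x hx
    obtain ⟨i, rfl⟩ := Subgroup.mem_zpowers_iff.mp hx
    rw [← zpow_natCast, ← zpow_mul, mul_comm, zpow_mul, zpow_natCast, hzp, one_zpow]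
  have hVp : ∀ x ∈ zpowers u, x ^ p = 1 := by
    intro x hx
    obtain ⟨i, rfl⟩ := Subgroup.mem_zpowers_iff.mp hx
    rw [← zpow_natCast, ← zpow_mul, mul_comm, zpow_mul, zpow_natCast, hup, one_zpow]
  have hZVc : ∀ h ∈ zpowers z, ∀ k ∈ zpowers u, h * k = k * h :=
    fun h hh k _ => (hZcent h hh k).symm
  -- ⟨z⟩ ∩ ⟨u⟩ = 1
  have hdisj : zpowers z ⊓ zpowers u = ⊥ := by
    rw [Subgroup.eq_bot_iff_forall]
    intro x hx
    rw [Subgroup.mem_inf] at hx
    by_contra hx1
    apply huz
    have hcardV : Nat.card (zpowers u) = p := by rw [Nat.card_zpowers, hordu]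
    have hne : (⟨x, hx.2⟩ : zpowers u) ≠ 1 := fun h => hx1 (congrArg Subtype.val h)
    have := mem_zpowers_of_prime_card hcardV hne (g' := ⟨u, mem_zpowers u⟩)
    obtain ⟨k, hk⟩ := Subgroup.mem_zpowers_iff.mp this
    have hk' : x ^ k = u := by
      have := congrArg Subtype.val hk
      simpa using this
    rw [← hk']
    exact (zpowers z).zpow_mem hx.1 k
  obtain ⟨U, hU⟩ : ∃ U : Subgroup P, U = zpowers z ⊔ zpowers u := ⟨_, rfl⟩
  have hUcard : Nat.card U = p ^ 2 := by
    rw [hU, card_sup_of_commute_of_disjoint _ _ hZVc hdisj, Nat.card_zpowers, Nat.card_zpowers,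
      hordz, hordu, pow_two]
  have hUea := elemAb_sup p (zpowers z) (zpowers u) inferInstance inferInstance hZp hVp hZVc
  rw [← hU] at hUea
  have hUmem : ∀ x ∈ U, ∃ h ∈ zpowers z, ∃ k ∈ zpowers u, x = h * k := by
    intro x hx
    rw [hU] at hx
    exact exists_mul_of_mem_sup_of_commute _ _ hZVc hx
  have hzU : z ∈ U := by rw [hU]; exact Subgroup.mem_sup_left (mem_zpowers z)
  have huU : u ∈ U := by rw [hU]; exact Subgroup.mem_sup_right (mem_zpowers u)
  -- conjugates of powers of u
  have hconjpow : ∀ (s : P) (j : ℤ), s * u ^ j * s⁻¹ ∈ U := by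
    intro s j
    have h1 : s * u * s⁻¹ = u * (u⁻¹ * (s * u * s⁻¹)) := by group
    have hc := hconj s
    have hcomm : Commute u (u⁻¹ * (s * u * s⁻¹)) := (hZcent _ hc u)
    rw [← conj_zpow, h1, hcomm.mul_zpow]
    exact U.mul_mem (U.zpow_mem huU j) (U.zpow_mem (by rw [hU]; exact Subgroup.mem_sup_left hc) j)
  have hUn : U.Normal := by
    constructor
    intro x hx s
    obtain ⟨h, hh, k, hk, rfl⟩ := hUmem x hx
    obtain ⟨j, rfl⟩ := Subgroup.mem_zpowers_iff.mp hk
    have : s * (h * u ^ j) * s⁻¹ = h * (s * u ^ j * s⁻¹) := by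
      rw [← mul_assoc, hZcent h hh s]; group
    rw [this]
    exact U.mul_mem (by rw [hU]; exact Subgroup.mem_sup_left hh) (hconjpow s j)
  -- the homomorphism s ↦ u⁻¹ s u s⁻¹ into ⟨z⟩
  let ψ : P →* zpowers z := MonoidHom.mk' (fun s => ⟨u⁻¹ * (s * u * s⁻¹), hconj s⟩) (by
    intro s t
    apply Subtype.ext
    show u⁻¹ * (s * t * u * (s * t)⁻¹) = (u⁻¹ * (s * u * s⁻¹)) * (u⁻¹ * (t * u * t⁻¹))
    obtain ⟨c, hc⟩ : ∃ c : P, c = u⁻¹ * (t * u * t⁻¹) := ⟨_, rfl⟩
    have hcc : ∀ r : P, r * c = c * r := by rw [hc]; exact hZcent _ (hconj t)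
    have e1 : t * u * t⁻¹ = u * c := by rw [hc]; group
    rw [← hc]
    calc u⁻¹ * (s * t * u * (s * t)⁻¹) = u⁻¹ * (s * (t * u * t⁻¹) * s⁻¹) := by group
      _ = u⁻¹ * (s * (u * c) * s⁻¹) := by rw [e1]
      _ = u⁻¹ * (s * u * (c * s⁻¹)) := by group
      _ = u⁻¹ * (s * u * (s⁻¹ * c)) := by rw [hcc s⁻¹]
      _ = (u⁻¹ * (s * u * s⁻¹)) * c := by group)
  have hψker : ∀ s : P, s ∈ ψ.ker ↔ s * u = u * s := by
    intro s
    rw [MonoidHom.mem_ker]
    constructor
    · intro h
      have h1 : u⁻¹ * (s * u * s⁻¹) = 1 := congrArg Subtype.val h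
      calc s * u = u * (u⁻¹ * (s * u * s⁻¹)) * s := by group
        _ = u * s := by rw [h1, mul_one]
    · intro h
      apply Subtype.ext
      show u⁻¹ * (s * u * s⁻¹) = 1
      rw [h]; group
  -- elements of ker ψ commute with U
  have hkerU : ∀ f ∈ ψ.ker, ∀ x ∈ U, f * x = x * f := by
    intro f hf x hx
    obtain ⟨h, hh, k, hk, rfl⟩ := hUmem x hx
    obtain ⟨j, rfl⟩ := Subgroup.mem_zpowers_iff.mp hk
    have h1 : Commute f u := (hψker f).mp hf
    have h2 := (h1.zpow_right j).eq
    rw [← mul_assoc, hZcent h hh f, mul_assoc, h2, mul_assoc]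
  -- large elementary abelian subgroups meet ker ψ in order ≥ p²
  have hbig : ∀ E : Subgroup P, (∀ e ∈ E, e ^ p = 1) → p ^ 2 < Nat.card E →
      p ^ 2 ≤ Nat.card (E ⊓ ψ.ker : Subgroup P) := by
    intro E hEp hEcard
    have hidx : ψ.ker.relIndex E ≤ p := by
      rw [Subgroup.relIndex_ker]
      have h1 : Nat.card (E.map ψ) ≤ Nat.card (zpowers z) := Subgroup.card_le_card_group _
      rwa [Nat.card_zpowers, hordz] at h1
    have hcard : Nat.card (E ⊓ ψ.ker : Subgroup P) * (E ⊓ ψ.ker).relIndex E = Nat.card E := by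
      have := Subgroup.relIndex_mul_relIndex (⊥ : Subgroup P) (E ⊓ ψ.ker) E bot_le inf_le_left
      rwa [Subgroup.relIndex_bot_left, Subgroup.relIndex_bot_left] at this
    rw [Subgroup.inf_relIndex_left] at hcard
    obtain ⟨k, hk⟩ := (hP.to_subgroup (E ⊓ ψ.ker)).exists_card_eq
    rw [hk] at hcard ⊢
    apply Nat.pow_le_pow_right hppos
    by_contra hlt
    push Not at hlt
    have h1 : p ^ k ≤ p ^ 1 := Nat.pow_le_pow_right hppos (by omega)
    have : p ^ k * ψ.ker.relIndex E ≤ p ^ 1 * p := Nat.mul_le_mul h1 hidx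
    rw [hcard, pow_one, ← pow_two] at this
    omega
  refine ⟨U, hUn, hUea, hUcard, ?_⟩
  intro X hXea hXcard
  constructor
  · -- every member of the component of U has centralizer of rank ≥ 3
    intro hpath
    refine Relation.ReflTransGen.head_induction_on
      (motive := fun (X' : Subgroup P) _ => ¬ Cfsg.PRankLE p 2 ↥(Subgroup.centralizer (X' : Set P))) hpath ?_ ?_
    · -- base: C_P(U)
      obtain ⟨F0, hF0⟩ : ∃ F0 : Subgroup P, F0 = A0 ⊓ ψ.ker := ⟨_, rfl⟩
      have hF0card : p ^ 2 ≤ Nat.card F0 := by rw [hF0]; exact hbig A0 hA0p hA0card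
      have hF0c : IsMulCommutative F0 := by
        rw [hF0]
        exact ⟨⟨fun a b => Subtype.ext
          (comm_of_mem_isMulCommutative hA0c (Subgroup.mem_inf.mp a.2).1
            (Subgroup.mem_inf.mp b.2).1)⟩⟩
      have hF0p : ∀ a ∈ F0, a ^ p = 1 := by
        intro a ha; rw [hF0] at ha; exact hA0p a (Subgroup.mem_inf.mp ha).1
      have hF0U : ∀ h ∈ F0, ∀ k ∈ U, h * k = k * h := by
        intro h hh k hk
        rw [hF0] at hh
        exact hkerU h (Subgroup.mem_inf.mp hh).2 k hk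
      have hsup := elemAb_sup p F0 U hF0c hUea.1 hF0p hUea.2 hF0U
      have hsupC : F0 ⊔ U ≤ Subgroup.centralizer (U : Set P) := by
        rw [sup_le_iff]
        constructor
        · intro f hf
          rw [Subgroup.mem_centralizer_iff]
          intro x hx
          exact (hF0U f hf x hx).symm
        · intro y hy
          rw [Subgroup.mem_centralizer_iff]
          intro x hx
          exact comm_of_mem_isMulCommutative hUea.1 hx hy
      by_cases hc : p ^ 2 < Nat.card (F0 ⊔ U : Subgroup P)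
      · exact not_pRankLE_centralizer_of p U (F0 ⊔ U) hsup.1 hsup.2 hsupC hc
      · exfalso
        push Not at hc
        have h1 : F0 ⊔ U = U := (Subgroup.eq_of_le_of_card_ge le_sup_right (by rw [hUcard]; exact hc)).symm
        have h2 : F0 ≤ U := by rw [← h1]; exact le_sup_left
        have h3 : F0 = U := Subgroup.eq_of_le_of_card_ge h2 (by rw [hUcard]; exact hF0card)
        have h4 : u ∈ A0 := by
          have : u ∈ F0 := by rw [h3]; exact huU
          rw [hF0] at this
          exact (Subgroup.mem_inf.mp this).1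
        have h5 : A0 ≤ ψ.ker := by
          intro a ha
          rw [hψker]
          exact comm_of_mem_isMulCommutative hA0c ha h4
        have h6 : F0 = A0 := by rw [hF0]; exact inf_eq_left.mpr h5
        rw [← h6, h3, hUcard] at hA0card
        omega
    · intro X' Y hr _ ih
      obtain ⟨hX'ea, hX'card, hYea, hYcard, hcomm⟩ := hr
      have hsup := elemAb_sup p X' Y hX'ea.1 hYea.1 hX'ea.2 hYea.2 hcomm
      have hsupC : X' ⊔ Y ≤ Subgroup.centralizer (X' : Set P) := by
        rw [sup_le_iff]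
        constructor
        · intro y hy
          rw [Subgroup.mem_centralizer_iff]
          intro x hx
          exact comm_of_mem_isMulCommutative hX'ea.1 hx hy
        · intro y hy
          rw [Subgroup.mem_centralizer_iff]
          intro x hx
          exact hcomm x hx y hy
      by_cases hc : p ^ 2 < Nat.card (X' ⊔ Y : Subgroup P)
      · exact not_pRankLE_centralizer_of p X' (X' ⊔ Y) hsup.1 hsup.2 hsupC hc
      · push Not at hc
        have h1 : X' = X' ⊔ Y := Subgroup.eq_of_le_of_card_ge le_sup_left (hc.trans hX'card)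
        have h2 : Y = X' ⊔ Y := Subgroup.eq_of_le_of_card_ge le_sup_right (hc.trans hYcard)
        have h3 : X' = Y := h1.trans h2.symm
        rw [h3]
        exact ih
  · -- conversely, a path X — E — F — U
    intro hrank
    unfold Cfsg.PRankLE at hrank
    push Not at hrank
    obtain ⟨A, hAc, hAp, hAcard⟩ := hrank
    obtain ⟨E, hE⟩ : ∃ E : Subgroup P, E = A.map (Subgroup.centralizer (X : Set P)).subtype :=
      ⟨_, rfl⟩
    have hEc : IsMulCommutative E := by rw [hE]; infer_instance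
    have hEp : ∀ e ∈ E, e ^ p = 1 := by
      rw [hE]
      rintro _ ⟨a, ha, rfl⟩
      rw [← map_pow, hAp a ha, map_one]
    have hEcard : p ^ 2 < Nat.card E := by
      rw [hE, Subgroup.card_map_of_injective (Subgroup.subtype_injective _)]; exact hAcard
    have hEX : ∀ x ∈ X, ∀ e ∈ E, x * e = e * x := by
      intro x hx e he
      rw [hE] at he
      obtain ⟨a, _, rfl⟩ := he
      have := a.2
      rw [Subgroup.mem_centralizer_iff] at this
      exact this x hx
    obtain ⟨F, hF⟩ : ∃ F : Subgroup P, F = E ⊓ ψ.ker := ⟨_, rfl⟩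
    have hFcard : p ^ 2 ≤ Nat.card F := by rw [hF]; exact hbig E hEp hEcard
    have hFc : IsMulCommutative F := by
      rw [hF]
      exact ⟨⟨fun a b => Subtype.ext
        (comm_of_mem_isMulCommutative hEc (Subgroup.mem_inf.mp a.2).1
          (Subgroup.mem_inf.mp b.2).1)⟩⟩
    have hFp : ∀ a ∈ F, a ^ p = 1 := by
      intro a ha; rw [hF] at ha; exact hEp a (Subgroup.mem_inf.mp ha).1
    have hFea : Cfsg.IsElementaryAbelian p F := ⟨hFc, hFp⟩
    have hEea : Cfsg.IsElementaryAbelian p E := ⟨hEc, hEp⟩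
    refine Relation.ReflTransGen.head ⟨hXea, hXcard, hEea, hEcard.le, hEX⟩ ?_
    refine Relation.ReflTransGen.head ⟨hEea, hEcard.le, hFea, hFcard, ?_⟩ ?_
    · intro a ha b hb
      rw [hF] at hb
      exact comm_of_mem_isMulCommutative hEc ha (Subgroup.mem_inf.mp hb).1
    · refine Relation.ReflTransGen.single ⟨hFea, hFcard, hUea, hUcard.ge, ?_⟩
      intro a ha b hb
      rw [hF] at ha
      exact hkerU a (Subgroup.mem_inf.mp ha).2 b hb

end Cfsg.Agent.S1337
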