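import Cfsg.Statements.S1342
import Cfsg.Agent.Lib.Helper30.PLayer

set_option autoImplicit false
open Cfsg

namespace Cfsg.Agent.S1342

open Cfsg.Agent.Lib.Helper30
open scoped Pointwise

instance pPrimePCore_normal' (p : ℕ) (X : Type*) [Group X] : (Cfsg.pPrimePCore p X).Normal := by
  unfold Cfsg.pPrimePCore
  infer_instance

/-- The conjugate of a Sylow subgroup of a normal subgroup. -/
theorem exists_sylow_conj {X : Type*} [Group X] (N : Subgroup X) [N.Normal] (p : ℕ)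
    (T : Sylow p ↥N) (g : X) :
    ∃ T₂ : Sylow p ↥N, (T₂ : Subgroup ↥N).map N.subtype
      = ((T : Subgroup ↥N).map N.subtype).map (MulAut.conj g).toMonoidHom := by
  refine ⟨(MulAut.conjNormal g : MulAut ↥N) • T, ?_⟩
  rw [Sylow.pointwise_smul_def]
  ext x
  constructor
  · rintro ⟨y, hy, rfl⟩
    obtain ⟨z, hz, rfl⟩ := (Subgroup.mem_smul_pointwise_iff_exists _ _ _).mp hy
    refine ⟨z, ⟨z, hz, rfl⟩, ?_⟩
    simp [MulAut.conjNormal_apply]
  · rintro ⟨_, ⟨z, hz, rfl⟩, rfl⟩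
    refine ⟨(MulAut.conjNormal g : MulAut ↥N) • z, Subgroup.smul_mem_pointwise_smul _ _ _ hz, ?_⟩
    simp [MulAut.conjNormal_apply]

/-- For a finite group X, L*_{2'}(X) is normal in X. -/
theorem result {X : Type*} [Group X] [Finite X] : (Cfsg.extendedTwoLayer X).Normal := by
  unfold Cfsg.extendedTwoLayer
  have hN : (Cfsg.pLayer 2 X ⊔ Cfsg.pPrimePCore 2 X).Normal := inferInstance
  have h3 : (⨆ T : Sylow 2 ↥(Cfsg.pLayer 2 X ⊔ Cfsg.pPrimePCore 2 X),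
      ((Cfsg.oddCore ↥(Subgroup.centralizer (((T : Subgroup ↥(Cfsg.pLayer 2 X ⊔ Cfsg.pPrimePCore 2 X)).map
          (Cfsg.pLayer 2 X ⊔ Cfsg.pPrimePCore 2 X).subtype : Subgroup X) : Set X))).map
        (Subgroup.centralizer (((T : Subgroup ↥(Cfsg.pLayer 2 X ⊔ Cfsg.pPrimePCore 2 X)).map
          (Cfsg.pLayer 2 X ⊔ Cfsg.pPrimePCore 2 X).subtype : Subgroup X) : Set X)).subtype)).Normal := by
    refine ⟨fun n hn g => ?_⟩
    have hmap := Subgroup.mem_map_of_mem (MulAut.conj g).toMonoidHom hn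
    rw [Subgroup.map_iSup] at hmap
    have hle : ∀ T : Sylow 2 ↥(Cfsg.pLayer 2 X ⊔ Cfsg.pPrimePCore 2 X),
        (((Cfsg.oddCore ↥(Subgroup.centralizer (((T : Subgroup ↥(Cfsg.pLayer 2 X ⊔ Cfsg.pPrimePCore 2 X)).map
          (Cfsg.pLayer 2 X ⊔ Cfsg.pPrimePCore 2 X).subtype : Subgroup X) : Set X))).map
        (Subgroup.centralizer (((T : Subgroup ↥(Cfsg.pLayer 2 X ⊔ Cfsg.pPrimePCore 2 X)).map
          (Cfsg.pLayer 2 X ⊔ Cfsg.pPrimePCore 2 X).subtype : Subgroup X) : Set X)).subtype)).map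
          (MulAut.conj g).toMonoidHom ≤ ⨆ T : Sylow 2 ↥(Cfsg.pLayer 2 X ⊔ Cfsg.pPrimePCore 2 X),
      ((Cfsg.oddCore ↥(Subgroup.centralizer (((T : Subgroup ↥(Cfsg.pLayer 2 X ⊔ Cfsg.pPrimePCore 2 X)).map
          (Cfsg.pLayer 2 X ⊔ Cfsg.pPrimePCore 2 X).subtype : Subgroup X) : Set X))).map
        (Subgroup.centralizer (((T : Subgroup ↥(Cfsg.pLayer 2 X ⊔ Cfsg.pPrimePCore 2 X)).map
          (Cfsg.pLayer 2 X ⊔ Cfsg.pPrimePCore 2 X).subtype : Subgroup X) : Set X)).subtype) := by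
      intro T
      obtain ⟨T₂, hT₂⟩ := exists_sylow_conj (Cfsg.pLayer 2 X ⊔ Cfsg.pPrimePCore 2 X) 2 T g
      have hc : Subgroup.centralizer (((T₂ : Subgroup ↥(Cfsg.pLayer 2 X ⊔ Cfsg.pPrimePCore 2 X)).map
          (Cfsg.pLayer 2 X ⊔ Cfsg.pPrimePCore 2 X).subtype : Subgroup X) : Set X)
          = (Subgroup.centralizer (((T : Subgroup ↥(Cfsg.pLayer 2 X ⊔ Cfsg.pPrimePCore 2 X)).map
          (Cfsg.pLayer 2 X ⊔ Cfsg.pPrimePCore 2 X).subtype : Subgroup X) : Set X)).map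
            (MulAut.conj g).toMonoidHom := by
        rw [hT₂, centralizer_map_equiv]
      rw [← core_map_subtype_map_equiv 2 (MulAut.conj g) _ _ hc]
      exact le_iSup (fun T : Sylow 2 ↥(Cfsg.pLayer 2 X ⊔ Cfsg.pPrimePCore 2 X) =>
        ((Cfsg.oddCore ↥(Subgroup.centralizer (((T : Subgroup ↥(Cfsg.pLayer 2 X ⊔ Cfsg.pPrimePCore 2 X)).map
          (Cfsg.pLayer 2 X ⊔ Cfsg.pPrimePCore 2 X).subtype : Subgroup X) : Set X))).map
        (Subgroup.centralizer (((T : Subgroup ↥(Cfsg.pLayer 2 X ⊔ Cfsg.pPrimePCore 2 X)).map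
          (Cfsg.pLayer 2 X ⊔ Cfsg.pPrimePCore 2 X).subtype : Subgroup X) : Set X)).subtype)) T₂
    have := (iSup_le hle) hmap
    simpa using this
  infer_instance

end Cfsg.Agent.S1342
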