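import Cfsg.Statements.S1343
import Cfsg.Agent.Lib.Helper30.ExtLayer
import Cfsg.Agent.Lib.Helper29.PCore

set_option autoImplicit false
open Cfsg

namespace Cfsg.Agent.S1343

open Cfsg.Agent.Lib.Helper30

theorem odd_card_oddCore (Y : Type*) [Group Y] [Finite Y] : Odd (Nat.card ↥(Cfsg.oddCore Y)) := by
  have h := Cfsg.Agent.Lib.Helper29.pPrimeCore_coprime (G := Y) 2
  exact (Nat.coprime_two_right).mp h |> fun h => h

theorem card_sup_dvd_of_normal {G : Type*} [Group G] (O W : Subgroup G) [O.Normal] :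
    Nat.card ↥(O ⊔ W) ∣ Nat.card ↥O * Nat.card ↥W := by
  have h1 : Nat.card ↥O * O.relIndex (O ⊔ W) = Nat.card ↥(O ⊔ W) := by
    rw [← Subgroup.relIndex_bot_left, ← Subgroup.relIndex_bot_left]
    exact Subgroup.relIndex_mul_relIndex _ _ _ bot_le le_sup_left
  rw [← h1, Subgroup.relIndex_sup_left]
  exact Nat.mul_dvd_mul_left _ (Subgroup.relIndex_dvd_card _ _)

/-- Let X be finite. Then L*_{2'}(X) = L_{2'}(X) ⊔ F for some subgroup F of odd order normalized by a Sylow 2-subgroup of X. -/
theorem result {X : Type*} [Group X] [Finite X] : ∃ F : Subgroup X, Odd (Nat.card ↥F) ∧ (∃ S : Sylow 2 X, (S : Subgroup X) ≤ Subgroup.normalizer (F : Set X)) ∧ Cfsg.extendedTwoLayer X = Cfsg.pLayer 2 X ⊔ F := by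
  obtain ⟨T⟩ := (Sylow.nonempty : Nonempty (Sylow 2 ↥(NN X)))
  refine ⟨Cfsg.oddCore X ⊔ WW T, ?_, ?_, ?_⟩
  · have h1 : Odd (Nat.card ↥(Cfsg.oddCore X)) := odd_card_oddCore X
    have h2 : Odd (Nat.card ↥(WW T)) := by
      have : Nat.card ↥(WW T)
          = Nat.card ↥(Cfsg.oddCore ↥(Subgroup.centralizer ((TT T : Subgroup X) : Set X))) :=
        Subgroup.card_map_of_injective (Subgroup.subtype_injective _)
      rw [this]
      exact odd_card_oddCore _
    have h3 := card_sup_dvd_of_normal (Cfsg.oddCore X) (WW T)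
    exact Odd.of_dvd_nat (h1.mul h2) h3
  · have hTp : IsPGroup 2 ↥(TT T) := T.isPGroup'.map _
    obtain ⟨S, hTS⟩ := hTp.exists_le_sylow
    refine ⟨S, ?_⟩
    have hST : (S : Subgroup X) ≤ Subgroup.normalizer ((TT T : Subgroup X) : Set X) := by
      have key : ∀ g ∈ (S : Subgroup X), ∀ h ∈ TT T, g * h * g⁻¹ ∈ TT T := by
        intro g hg h hh
        apply inf_NN_le_TT T S.isPGroup' hTS
        refine Subgroup.mem_inf.mpr ⟨?_, ?_⟩
        · exact (S : Subgroup X).mul_mem ((S : Subgroup X).mul_mem hg (hTS hh))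
            ((S : Subgroup X).inv_mem hg)
        · exact (NN_normal (X := X)).conj_mem h (TT_le T hh) g
      intro g hg
      rw [Subgroup.mem_normalizer_iff]
      intro h
      constructor
      · exact key g hg h
      · intro hh
        have := key g⁻¹ ((S : Subgroup X).inv_mem hg) _ hh
        simpa [mul_assoc] using this
    refine le_trans ?_ (Subgroup.normalizer_inf_normalizer_le_normalizer_sup _ _)
    refine le_inf ?_ (hST.trans (normalizer_TT_le_normalizer_WW T))
    rw [Subgroup.normalizer_eq_top]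
    exact le_top
  · rw [extendedTwoLayer_eq_of_sylow T, sup_assoc]

end Cfsg.Agent.S1343
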