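import Cfsg.Statements.S1344
import Cfsg.Agent.Lib.Helper30.PCompNorm

set_option autoImplicit false
open Cfsg

namespace Cfsg.Agent.S1344

/-- Let K be a 2-component of the finite group X. Then K ≤ L*_{2'}(X) and K is normal in L*_{2'}(X). -/
theorem result {X : Type*} [Group X] [Finite X] (K : Subgroup X) (hK : Cfsg.IsPComponent 2 K) : K ≤ Cfsg.extendedTwoLayer X ∧ (K.subgroupOf (Cfsg.extendedTwoLayer X)).Normal := by
  have hle : K ≤ Cfsg.extendedTwoLayer X := by
    have h1 : K ≤ Cfsg.pLayer 2 X := le_sSup hK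
    rw [Cfsg.Agent.Lib.Helper30.extendedTwoLayer_eq]
    exact h1.trans (le_sup_left.trans le_sup_left)
  refine ⟨hle, ?_⟩
  rw [Subgroup.normal_subgroupOf_iff_le_normalizer hle, Cfsg.Agent.Lib.Helper30.extendedTwoLayer_eq]
  refine sup_le (sup_le ?_ ?_) (iSup_le fun T => ?_)
  · exact sSup_le fun L hL => Cfsg.Agent.Lib.Helper29.pcomp_le_normalizer 2 K L hK hL
  · exact Cfsg.Agent.Lib.Helper30.pPrimeCore_le_normalizer_pcomp 2 K hK
  · exact (Subgroup.map_subtype_le _).trans
      (Cfsg.Agent.Lib.Helper30.centralizer_TT_le_normalizer_pcomp K hK T)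

end Cfsg.Agent.S1344
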