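import Cfsg.Statements.S1348
import Cfsg.Agent.Lib.Helper30.SLBlockMain

set_option autoImplicit false
open Cfsg

namespace Cfsg.Agent.S1348

open Cfsg.Agent.Lib.Helper30.SLBlock in
/-- Let F be a finite field of odd order, n ≥ 7 odd, and t ∈ SL(n, F) the diagonal matrix with entries −1, …, −1, 1. Then E(C(t)) is a standard subgroup of SL(n, F). -/
theorem result {F : Type*} [Field F] [Fintype F] [DecidableEq F] (hF : Odd (Fintype.card F)) (n : ℕ) (hn : 7 ≤ n) (hodd : Odd n) (t : Matrix.SpecialLinearGroup (Fin n) F) (ht : (t : Matrix (Fin n) (Fin n) F) = Matrix.diagonal (fun i : Fin n => if (i : ℕ) + 1 = n then (1 : F) else -1)) : Cfsg.IsStandardSubgroup ((Cfsg.layer ↥(Subgroup.centralizer ({t} : Set (Matrix.SpecialLinearGroup (Fin n) F)))).map (Subgroup.centralizer ({t} : Set (Matrix.SpecialLinearGroup (Fin n) F))).subtype) := by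
  obtain ⟨m, rfl⟩ : ∃ m, n = m + 1 := ⟨n - 1, by omega⟩
  have h2 : (2 : F) ≠ 0 := by
    intro h
    have h1 : (-1 : F) = 1 := by
      have : (1 : F) + 1 = 0 := by rw [one_add_one_eq_two]; exact h
      exact (eq_neg_of_add_eq_zero_left this).symm
    rw [neg_one_eq_one_iff, FiniteField.even_card_iff_char_two] at h1
    obtain ⟨k, hk⟩ := hF
    omega
  have hme : Even m := by
    obtain ⟨k, hk⟩ := hodd
    exact ⟨k, by omega⟩
  apply main h2 (by omega) hme t
  show (t : Matrix (Fin (m + 1)) (Fin (m + 1)) F) = bl (-1) 1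
  rw [ht]
  ext i j
  refine Fin.lastCases ?_ (fun i' => ?_) i <;> refine Fin.lastCases ?_ (fun j' => ?_) j <;>
    simp [Matrix.diagonal_apply, Matrix.one_apply, Fin.castSucc_ne_last,
      (Fin.castSucc_ne_last _).symm]
  have hi : (i' : ℕ) ≠ m := by have := i'.isLt; omega
  by_cases h : i' = j'
  · simp [h, hi]
    intro h'
    exact absurd (h ▸ h') hi
  · simp [h]

end Cfsg.Agent.S1348
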