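import Cfsg.Statements.S1386

set_option autoImplicit false
open Cfsg

namespace Cfsg.Agent.S1386

/-- A subgroup of a finite cyclic group is the set of solutions of `x ^ d = 1`, `d` its order. -/
theorem coe_eq_of_isCyclic {W : Type*} [Group W] [Finite W] [IsCyclic W] (C : Subgroup W) :
    (C : Set W) = {x | x ^ Nat.card C = 1} := by
  classical
  have := Fintype.ofFinite W
  have hd0 : 0 < Nat.card C := Nat.card_pos
  have hle := IsCyclic.card_pow_eq_one_le (α := W) hd0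
  have hsub : (C : Set W).toFinset ⊆ Finset.univ.filter (fun a : W => a ^ Nat.card C = 1) := by
    intro x hx
    simp only [Set.mem_toFinset, SetLike.mem_coe] at hx
    simp only [Finset.mem_filter, Finset.mem_univ, true_and]
    have h1 : (⟨x, hx⟩ : C) ^ Nat.card C = 1 := pow_card_eq_one'
    have h2 : (((⟨x, hx⟩ : C) ^ Nat.card C : C) : W) = ((1 : C) : W) := congrArg Subtype.val h1
    rwa [Subgroup.coe_pow, Subgroup.coe_one] at h2
  have hcard : (C : Set W).toFinset.card = Nat.card C := by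
    rw [Set.toFinset_card, Nat.card_eq_fintype_card]; rfl
  have heq := Finset.eq_of_subset_of_card_le hsub (by rw [hcard]; exact hle)
  ext x
  have := congrArg (fun s => x ∈ s) heq
  simpa using this

/-- In a finite cyclic group two subgroups of the same order are equal. -/
theorem eq_of_card_eq_of_isCyclic {W : Type*} [Group W] [Finite W] [IsCyclic W] (A B : Subgroup W)
    (h : Nat.card A = Nat.card B) : A = B := by
  apply SetLike.coe_injective
  rw [coe_eq_of_isCyclic A, coe_eq_of_isCyclic B, h]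

/-- The order of the join of two elementwise commuting subgroups meeting trivially. -/
theorem card_sup_of_comm {G : Type*} [Group G] (A B : Subgroup G) (hdisj : A ⊓ B = ⊥)
    (hcomm : ∀ a ∈ A, ∀ b ∈ B, a * b = b * a) :
    Nat.card ↥(A ⊔ B) = Nat.card A * Nat.card B := by
  have hLE : A ≤ Subgroup.normalizer (B : Set G) := by
    rw [Subgroup.le_normalizer_iff]
    intro h hh k hk
    rw [hcomm h hh k hk, mul_inv_cancel_right]
    exact hk
  have hcoe := Subgroup.coe_mul_of_left_le_normalizer_right A B hLE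
  rw [← Nat.card_prod]
  symm
  refine Nat.card_congr (Equiv.ofBijective
    (fun p : A × B => (⟨(p.1 : G) * p.2,
      mul_mem (Subgroup.mem_sup_left p.1.2) (Subgroup.mem_sup_right p.2.2)⟩ : ↥(A ⊔ B))) ⟨?_, ?_⟩)
  · intro p q hpq
    have h1 : (p.1 : G) * p.2 = q.1 * q.2 := congrArg Subtype.val hpq
    exact Subgroup.mul_injective_of_disjoint (disjoint_iff.mpr hdisj) h1
  · rintro ⟨g, hg⟩
    have hg' : g ∈ (↑(A ⊔ B) : Set G) := hg
    rw [hcoe] at hg'
    obtain ⟨a, ha, b, hb, rfl⟩ := hg'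
    exact ⟨(⟨a, ha⟩, ⟨b, hb⟩), rfl⟩

theorem result {G : Type*} [Group G] [Finite G] (W₁ W₂ S U W₂' : Subgroup G) (hW : Cfsg.IsSelfNormalizingCyclic W₁ W₂)
    (hSW : Cfsg.IsComplIn ⁅S, S⁆ W₁ S) (hW₂S : W₂ ≤ S) (hP : Cfsg.IsTypePWith S W₁ U W₂') :
    W₂' = W₂ := by
  obtain ⟨hW₁ne, hW₂ne, hdisj, hcomm, hcyc, hnorm⟩ := hW
  obtain ⟨hS'S, hW₁S, hS'W₁, hprod⟩ := hSW
  obtain ⟨_, hW₂'ne, hdisj', hcomm', hcyc', hnorm'⟩ := hP.selfNormalizing
  obtain ⟨⟨x, hxW₁⟩, hx1'⟩ := (Subgroup.ne_bot_iff_exists_ne_one).mp hW₁ne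
  have hx1 : x ≠ 1 := fun h => hx1' (Subtype.ext h)
  obtain ⟨⟨b, hbW₂⟩, hb1'⟩ := (Subgroup.ne_bot_iff_exists_ne_one).mp hW₂ne
  have hb1 : b ≠ 1 := fun h => hb1' (Subtype.ext h)
  -- `W₁` is commutative
  have hW₁comm : ∀ a ∈ W₁, ∀ c ∈ W₁, a * c = c * a := by
    intro a ha c hc
    have := hP.W₁_cyclic
    exact congrArg Subtype.val (mul_comm' (⟨a, ha⟩ : W₁) ⟨c, hc⟩)
  -- `W₂ ≤ W₁ ⊔ W₂'`
  have hW₂le : W₂ ≤ W₁ ⊔ W₂' := by
    intro c hc
    obtain ⟨s, hs, w, hw, rfl⟩ := hprod c (hW₂S hc)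
    have hsx : s ∈ ⁅S, S⁆ ⊓ Subgroup.centralizer ({x} : Set G) := by
      refine Subgroup.mem_inf.mpr ⟨hs, ?_⟩
      rw [Subgroup.mem_centralizer_singleton_iff]
      have h1 : x * (s * w) = (s * w) * x := hcomm x hxW₁ _ hc
      have h2 : x * w = w * x := hW₁comm x hxW₁ w hw
      have h3 : (s * x) * w = (x * s) * w := by
        rw [mul_assoc, h2, ← mul_assoc, ← h1, mul_assoc]
      exact mul_right_cancel h3
    rw [hP.W₂_centralizer x hxW₁ hx1] at hsx
    exact mul_mem (Subgroup.mem_sup_right hsx) (Subgroup.mem_sup_left hw)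
  have hle : W₁ ⊔ W₂ ≤ W₁ ⊔ W₂' := sup_le le_sup_left hW₂le
  -- the element `x * b`
  have hxbW : x * b ∈ W₁ ⊔ W₂ := mul_mem (Subgroup.mem_sup_left hxW₁) (Subgroup.mem_sup_right hbW₂)
  have hxb₁ : x * b ∉ W₁ := by
    intro h
    have hb : b ∈ W₁ := by
      have := mul_mem (inv_mem hxW₁) h
      rwa [inv_mul_cancel_left] at this
    have : b ∈ W₁ ⊓ W₂ := ⟨hb, hbW₂⟩
    rw [hdisj, Subgroup.mem_bot] at this
    exact hb1 this
  have hxb₂ : x * b ∉ W₂ := by
    intro h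
    have hx : x ∈ W₂ := by
      have := mul_mem h (inv_mem hbW₂)
      rwa [mul_inv_cancel_right] at this
    have : x ∈ W₁ ⊓ W₂ := ⟨hxW₁, hx⟩
    rw [hdisj, Subgroup.mem_bot] at this
    exact hx1 this
  have hN : Subgroup.normalizer ({x * b} : Set G) = W₁ ⊔ W₂ := by
    apply hnorm
    · intro y hy
      rw [Set.mem_singleton_iff] at hy
      subst hy
      refine ⟨hxbW, ?_⟩
      rintro (h | h)
      · exact hxb₁ h
      · exact hxb₂ h
    · exact ⟨_, rfl⟩
  have hge : W₁ ⊔ W₂' ≤ W₁ ⊔ W₂ := by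
    intro g hg
    rw [← hN, Subgroup.mem_set_normalizer_iff]
    have hc : g * (x * b) = (x * b) * g := by
      have := hcyc'
      exact congrArg Subtype.val (mul_comm' (⟨g, hg⟩ : ↥(W₁ ⊔ W₂')) ⟨x * b, hle hxbW⟩)
    intro n
    simp only [Set.mem_singleton_iff]
    constructor
    · rintro rfl
      rw [hc, mul_inv_cancel_right]
    · intro h
      have : g * n * g⁻¹ = g * (x * b) * g⁻¹ := by rw [h, hc, mul_inv_cancel_right]
      exact mul_left_cancel (mul_right_cancel this)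
  have heq : W₁ ⊔ W₂ = W₁ ⊔ W₂' := le_antisymm hle hge
  -- cardinalities
  have hc1 := card_sup_of_comm W₁ W₂ hdisj hcomm
  have hc2 := card_sup_of_comm W₁ W₂' hdisj' hcomm'
  have hcard : Nat.card W₂ = Nat.card W₂' := by
    have h3 : Nat.card W₁ * Nat.card W₂ = Nat.card W₁ * Nat.card W₂' := by
      rw [← hc1, ← hc2, heq]
    exact Nat.eq_of_mul_eq_mul_left Nat.card_pos h3
  have hW₂W : W₂ ≤ W₁ ⊔ W₂ := le_sup_right
  have hW₂'W : W₂' ≤ W₁ ⊔ W₂ := heq ▸ le_sup_right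
  have hsub : W₂'.subgroupOf (W₁ ⊔ W₂) = W₂.subgroupOf (W₁ ⊔ W₂) := by
    have := hcyc
    apply eq_of_card_eq_of_isCyclic
    rw [Nat.card_congr (Subgroup.subgroupOfEquivOfLe hW₂'W).toEquiv,
      Nat.card_congr (Subgroup.subgroupOfEquivOfLe hW₂W).toEquiv, hcard]
  rw [Subgroup.subgroupOf_inj, inf_of_le_left hW₂'W, inf_of_le_left hW₂W] at hsub
  exact hsub

end Cfsg.Agent.S1386
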