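import Cfsg.Statements.S1387
import Cfsg.Agent.Lib.Helper31.FittingHall

set_option autoImplicit false
open Cfsg

namespace Cfsg.Agent.S1387

open Cfsg.Agent.Lib.Helper31

/-- Let M be a subgroup of a finite group G with type-P data (W₁, U, W₂) and H = M_F. Then the Fitting subgroup F(M) is generated by H and the centralizer of H in U. -/
theorem result {G : Type*} [Group G] [Finite G] (M W₁ U W₂ : Subgroup G) (hP : Cfsg.IsTypePWith M W₁ U W₂) :
    Cfsg.fittingOf M = Cfsg.fittingHallOf M ⊔ (U ⊓ Subgroup.centralizer (Cfsg.fittingHallOf M : Set G)) := by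
  have hM'M : ⁅M, M⁆ ≤ M := hP.W₁_compl.1
  have hUM' : U ≤ ⁅M, M⁆ := hP.U_compl.2.1
  have hco := coprime_card_of_isComplIn_fittingHallOf hM'M hP.U_compl
  rw [← hP.fitting_eq]
  apply le_antisymm
  · apply sup_le le_sup_left
    intro c hc
    have hcF : c ∈ fittingHallOf M ⊔ (M ⊓ Subgroup.centralizer (fittingHallOf M : Set G)) :=
      Subgroup.mem_sup_right hc
    have hcM' : c ∈ ⁅M, M⁆ := hP.fitting_le (hP.fitting_eq ▸ hcF)
    obtain ⟨h, hh, u, hu, rfl⟩ := hP.U_compl.2.2.2 c hcM'
    have huF : u ∈ fittingHallOf M ⊔ (M ⊓ Subgroup.centralizer (fittingHallOf M : Set G)) := by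
      have := mul_mem (Subgroup.mem_sup_left (inv_mem hh)) hcF
      rwa [inv_mul_cancel_left] at this
    have huc : u ∈ Subgroup.centralizer (fittingHallOf M : Set G) := by
      apply mem_centralizer_of_mem_sup _ _ inf_le_right u huF
      have h1 : orderOf u ∣ Nat.card U := by
        have := orderOf_dvd_natCard (⟨u, hu⟩ : U)
        rwa [Subgroup.orderOf_mk] at this
      exact (Nat.Coprime.coprime_dvd_right h1 hco).symm
    exact mul_mem (Subgroup.mem_sup_left hh) (Subgroup.mem_sup_right ⟨hu, huc⟩)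
  · exact sup_le_sup_left (inf_le_inf_right _ (hUM'.trans hM'M)) _

end Cfsg.Agent.S1387
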