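import Cfsg.Statements.S1388
import Cfsg.Agent.Lib.Helper31.FittingHall

set_option autoImplicit false
open Cfsg

namespace Cfsg.Agent.S1388

open Cfsg.Agent.Lib.Helper31

/-- Let M be a subgroup of a finite group G with type-P data (W₁, U, W₂) and H = M_F. Then the derived subgroup of U centralizes H, and if U ≠ 1 then U does not centralize H. -/
theorem result {G : Type*} [Group G] [Finite G] (M W₁ U W₂ : Subgroup G) (hP : Cfsg.IsTypePWith M W₁ U W₂) :
    ⁅U, U⁆ ≤ Subgroup.centralizer (Cfsg.fittingHallOf M : Set G) ∧ (U ≠ ⊥ → ¬ U ≤ Subgroup.centralizer (Cfsg.fittingHallOf M : Set G)) := by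
  have hM'M : ⁅M, M⁆ ≤ M := hP.W₁_compl.1
  have hW₁M : W₁ ≤ M := hP.W₁_compl.2.1
  have hHM' : fittingHallOf M ≤ ⁅M, M⁆ := hP.U_compl.1
  have hUM' : U ≤ ⁅M, M⁆ := hP.U_compl.2.1
  have hUM : U ≤ M := hUM'.trans hM'M
  have hco := coprime_card_of_isComplIn_fittingHallOf hM'M hP.U_compl
  have hord : ∀ u ∈ U, (orderOf u).Coprime (Nat.card (fittingHallOf M)) := by
    intro u hu
    have h1 : orderOf u ∣ Nat.card U := by
      have := orderOf_dvd_natCard (⟨u, hu⟩ : U)
      rwa [Subgroup.orderOf_mk] at this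
    exact (Nat.Coprime.coprime_dvd_right h1 hco).symm
  constructor
  · intro u hu
    have huU : u ∈ U := Subgroup.commutator_le_self U hu
    have hu2 : u ∈ ⁅⁅M, M⁆, ⁅M, M⁆⁆ := Subgroup.commutator_mono hUM' hUM' hu
    exact mem_centralizer_of_mem_sup _ _ inf_le_right u (hP.derived_two_le hu2) (hord u huU)
  · intro hU1 hUc
    apply hU1
    -- `U` is a normal nilpotent Hall subgroup of `M`, hence lies in `M_F`
    have hHnorm : fittingHallOf M ≤ Subgroup.normalizer (U : Set G) := by
      rw [Subgroup.le_normalizer_iff]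
      intro h hh k hk
      have := (Subgroup.mem_centralizer_iff.mp (hUc hk)) h hh
      rw [this, mul_inv_cancel_right]
      exact hk
    have hMnorm : M ≤ Subgroup.normalizer (U : Set G) := by
      intro m hm
      obtain ⟨a, ha, w, hw, rfl⟩ := hP.W₁_compl.2.2.2 m hm
      obtain ⟨h, hh, u, hu, rfl⟩ := hP.U_compl.2.2.2 a ha
      exact mul_mem (mul_mem (hHnorm hh) (Subgroup.le_normalizer hu)) (hP.U_normal hw)
    have hnormal : (U.subgroupOf M).Normal :=
      (Subgroup.normal_subgroupOf_iff_le_normalizer hUM).mpr hMnorm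
    have hnil : Group.IsNilpotent ↥(U.subgroupOf M) :=
      (Group.isNilpotent_congr (Subgroup.subgroupOfEquivOfLe hUM)).mpr hP.U_nilpotent
    have hcardU : Nat.card ↥(U.subgroupOf M) = Nat.card U :=
      Nat.card_congr (Subgroup.subgroupOfEquivOfLe hUM).toEquiv
    have c1 := IsComplIn.card_mul hP.U_compl
    have c2 := IsComplIn.card_mul hP.W₁_compl
    have hidx : (U.subgroupOf M).index = Nat.card (fittingHallOf M) * Nat.card W₁ := by
      have h1 : Nat.card ↥(U.subgroupOf M) * (U.subgroupOf M).index = Nat.card M :=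
        Subgroup.card_mul_index _
      rw [hcardU, ← c2, ← c1] at h1
      apply Nat.eq_of_mul_eq_mul_left (Nat.card_pos (α := U))
      rw [h1]; ring
    have hW₁rel : W₁.relIndex M = Nat.card ↥⁅M, M⁆ := by
      have h1 : Nat.card ↥(W₁.subgroupOf M) * (W₁.subgroupOf M).index = Nat.card M :=
        Subgroup.card_mul_index _
      rw [Nat.card_congr (Subgroup.subgroupOfEquivOfLe hW₁M).toEquiv, ← c2] at h1
      apply Nat.eq_of_mul_eq_mul_left (Nat.card_pos (α := W₁))
      rw [Subgroup.relIndex, h1, mul_comm]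
    have hcoW : (Nat.card U).Coprime (Nat.card W₁) := by
      have h1 := hP.W₁_hall
      rw [hW₁rel, ← c1] at h1
      exact (Nat.Coprime.coprime_dvd_right (Dvd.intro_left _ rfl) h1).symm
    have hhall : (Nat.card ↥(U.subgroupOf M)).Coprime (U.subgroupOf M).index := by
      rw [hcardU, hidx]
      exact Nat.Coprime.mul_right hco.symm hcoW
    have hle : U.subgroupOf M ≤ fittingHall M := le_sSup ⟨hnormal, hnil, hhall⟩
    have hUH : U ≤ fittingHallOf M := by
      intro u hu
      exact ⟨⟨u, hUM hu⟩, hle (Subgroup.mem_subgroupOf.mpr hu), rfl⟩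
    have hdisj : fittingHallOf M ⊓ U = ⊥ := hP.U_compl.2.2.1
    rw [eq_bot_iff, ← hdisj]
    exact le_inf hUH le_rfl

end Cfsg.Agent.S1388
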