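import Cfsg.Statements.S1397
import Cfsg.Agent.Lib.Helper55.FitUniq

set_option autoImplicit false
open Cfsg
open Cfsg.Agent.Lib.Helper55

namespace Cfsg.Agent.S1397

/-- Let G be a minimal simple group of odd order, M a maximal subgroup, p a prime and A₀ an elementary abelian p-subgroup of F(M) of order at least p ^ 3 that is maximal among elementary abelian p-subgroups of F(M). (a) If F(M) is not a p-group, then F(M) ∩ C_G(A₀) lies in exactly one maximal subgroup of G. (b) If F(M) is a p-group and P is a Sylow p-subgroup of M, then p does not divide the index of P in G, and every normal self-centralizing subgroup A of P containing an elementary abelian subgroup of order p ^ 3 is contained in F(M) and lies in exactly one maximal subgroup of G. -/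
theorem result {G : Type*} [Group G] [Finite G] (hG : Cfsg.IsMinSimpleOddOrder G)
    (M : Subgroup G) (hM : IsCoatom M) (p : ℕ) [Fact p.Prime] (A₀ : Subgroup G)
    (hA₀ : A₀ ≤ Cfsg.fittingOf M) (hA₀e : Cfsg.IsElementaryAbelian p A₀) (hA₀3 : p ^ 3 ≤ Nat.card A₀)
    (hA₀max : ∀ B : Subgroup G, B ≤ Cfsg.fittingOf M → Cfsg.IsElementaryAbelian p B → A₀ ≤ B → B = A₀) :
    (¬ IsPGroup p ↥(Cfsg.fittingOf M) → Cfsg.InUniqueMaximal (Cfsg.fittingOf M ⊓ Subgroup.centralizer (A₀ : Set G))) ∧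
      (IsPGroup p ↥(Cfsg.fittingOf M) → ∀ P : Sylow p M,
        ¬ p ∣ ((P : Subgroup M).map M.subtype).index ∧
        ∀ A : Subgroup G, Cfsg.IsSCN ((P : Subgroup M).map M.subtype) A → ¬ Cfsg.PRankLE p 2 ↥A →
          A ≤ Cfsg.fittingOf M ∧ Cfsg.InUniqueMaximal A) := by
  have hp : p.Prime := Fact.out
  have hFM : Cfsg.fittingOf M ≤ M := Subgroup.map_subtype_le _
  have hA₀1 : A₀ ≠ ⊥ := by
    rintro rfl
    rw [Subgroup.card_bot] at hA₀3
    have := Nat.one_lt_pow (n := 3) (by norm_num) hp.one_lt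
    omega
  have hF1 : Cfsg.fittingOf M ≠ ⊥ := fun h => hA₀1 (eq_bot_iff.mpr (h ▸ hA₀))
  have hA₀p : IsPGroup p A₀ := by
    intro a
    refine ⟨1, ?_⟩
    apply Subtype.ext
    rw [pow_one]
    simpa using hA₀e.2 a a.2
  have hA₀cen : A₀ ≤ Subgroup.centralizer (A₀ : Set G) := by
    intro a ha
    rw [Subgroup.mem_centralizer_iff]
    intro b hb
    exact congrArg Subtype.val (hA₀e.1.is_comm.comm ⟨b, hb⟩ ⟨a, ha⟩)
  constructor
  · intro hnp
    set A := Cfsg.fittingOf M ⊓ Subgroup.centralizer (A₀ : Set G) with hAdef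
    have hAF : A ≤ Cfsg.fittingOf M := inf_le_left
    have hA₀A : A₀ ≤ A := le_inf hA₀ hA₀cen
    have hCA : Cfsg.fittingOf M ⊓ Subgroup.centralizer (A : Set G) ≤ A :=
      inf_le_inf_left _ (Subgroup.centralizer_le hA₀A)
    have hF2 : 2 ≤ (Nat.card (Cfsg.fittingOf M)).primeFactors.card := by
      by_contra hlt
      apply hnp
      have hF0 : Nat.card (Cfsg.fittingOf M) ≠ 0 := Nat.card_pos.ne'
      have hpF : p ∣ Nat.card (Cfsg.fittingOf M) :=
        (ms_prime_dvd_card hG hA₀p hA₀1).trans (Subgroup.card_dvd_of_le hA₀)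
      have hpm : p ∈ (Nat.card (Cfsg.fittingOf M)).primeFactors :=
        Nat.mem_primeFactors.2 ⟨hp, hpF, hF0⟩
      have hle : (Nat.card (Cfsg.fittingOf M)).primeFactors.card ≤ 1 := by omega
      have huniq : ∀ {d : ℕ}, d.Prime → d ∣ Nat.card (Cfsg.fittingOf M) → d = p := by
        intro d hd hdF
        exact Finset.card_le_one.mp hle d (Nat.mem_primeFactors.2 ⟨hd, hdF, hF0⟩) p hpm
      exact IsPGroup.of_card (Nat.eq_prime_pow_of_unique_prime_dvd hF0 huniq)
    have hZ : ¬ Cfsg.RankLE 2 ↥(A ⊓ Subgroup.centralizer (A : Set G)) := by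
      intro h
      have hle : A₀ ≤ A ⊓ Subgroup.centralizer (A : Set G) :=
        le_inf hA₀A (le_centralizer_symm (inf_le_right : A ≤ Subgroup.centralizer (A₀ : Set G)))
      have h1 : Cfsg.PRankLE p 2 ↥A₀ :=
        pRankLE_of_inj (Subgroup.inclusion hle) (Subgroup.inclusion_injective hle) (h p hp)
      have h2 := h1 ⊤ ⟨⟨fun a b => by
          apply Subtype.ext
          exact hA₀e.1.is_comm.comm a.1 b.1⟩⟩ (fun a _ => by
          apply Subtype.ext
          simpa using hA₀e.2 a a.2)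
      rw [Subgroup.card_top] at h2
      have h3 : p ^ 3 ≤ p ^ 2 := hA₀3.trans h2
      have h4 := Nat.pow_lt_pow_right hp.one_lt (by norm_num : 2 < 3)
      omega
    refine ⟨M, ⟨hM, hAF.trans hFM⟩, ?_⟩
    rintro H ⟨hH, hAH⟩
    exact fitting_uniq_two hG hM hF2 hAF hCA hZ H hH hAH
  · intro hFp P
    refine ⟨(sylow_of_isPGroup_fittingOf hG hM hFp hF1 P).2, ?_⟩
    intro A hscn hA3
    obtain ⟨hAF, huniq⟩ := fitting_uniq_pgroup hG hM hFp hF1 P hscn hA3
    refine ⟨hAF, M, ⟨hM, hAF.trans hFM⟩, ?_⟩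
    rintro H ⟨hH, hAH⟩
    exact huniq H hH hAH

end Cfsg.Agent.S1397
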