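import Mathlib
import Cfsg.Statements.S1441

set_option autoImplicit false
open Cfsg
open scoped commutatorElement

namespace Cfsg.Agent.S1441

theorem key {G : Type*} [Group G] [Finite G] (H A : Subgroup G)
    (n : ℕ) (c : Fin (n + 1) → Subgroup G) (hc0 : c 0 = H) (hcn : c (Fin.last n) = ⊥) (hanti : Antitone c)
    (htriv : ∀ i : Fin n, ⁅c i.castSucc, A⁆ ≤ c i.succ)
    (x : G) (hx : x ∈ A) (hcop : (orderOf x).Coprime (Nat.card H)) :
    ∀ i : Fin (n + 1), ∀ h ∈ c i, h * x = x * h := by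
  intro i
  induction i using Fin.reverseInduction with
  | last =>
    intro h hh
    rw [hcn, Subgroup.mem_bot] at hh
    subst hh
    simp
  | cast i ih =>
    intro h hh
    have hz : ⁅h, x⁆ ∈ c i.succ := htriv i (Subgroup.commutator_mem_commutator hh hx)
    have hzx : ⁅h, x⁆ * x = x * ⁅h, x⁆ := ih _ hz
    have hzH : ⁅h, x⁆ ∈ H := by
      rw [← hc0]
      exact hanti (Fin.zero_le _) hz
    have hconj : h * x * h⁻¹ = ⁅h, x⁆ * x := by
      simp [commutatorElement_def]
    have hpow : ∀ k : ℕ, (h * x * h⁻¹) ^ k = ⁅h, x⁆ ^ k * x ^ k := by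
      intro k
      rw [hconj, (show Commute ⁅h, x⁆ x from hzx).mul_pow]
    have h1 : ⁅h, x⁆ ^ orderOf x = 1 := by
      have := hpow (orderOf x)
      rw [pow_orderOf_eq_one, mul_one, conj_pow, pow_orderOf_eq_one] at this
      simpa using this.symm
    have h2 : orderOf ⁅h, x⁆ ∣ Nat.card H := by
      have : orderOf (⟨⁅h, x⁆, hzH⟩ : H) ∣ Nat.card H := orderOf_dvd_natCard _
      rwa [← Subgroup.orderOf_coe] at this
    have h3 : orderOf ⁅h, x⁆ ∣ orderOf x := orderOf_dvd_of_pow_eq_one h1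
    have h4 : orderOf ⁅h, x⁆ = 1 := Nat.eq_one_of_dvd_coprimes hcop h3 h2
    rw [orderOf_eq_one_iff, commutatorElement_eq_one_iff_mul_comm] at h4
    exact h4

/-- Let G be a finite group, H a solvable subgroup and A a subgroup normalizing H. Suppose there is a chain H = H₀ ≥ H₁ ≥ ⋯ ≥ H_n = 1 of subgroups normal in H and normalized by A such that A acts trivially on each factor H_{i-1}/H_i (that is, [H_{i-1}, A] ≤ H_i). Then every prime dividing the index of C_A(H) in A divides the order of H. -/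
theorem result {G : Type*} [Group G] [Finite G] (H A : Subgroup G) (hH : Group.IsSolvable H) (hA : (A ≤ Subgroup.normalizer (H : Set G)))
    (n : ℕ) (c : Fin (n + 1) → Subgroup G) (hc0 : c 0 = H) (hcn : c (Fin.last n) = ⊥) (hanti : Antitone c)
    (hcN : ∀ i, H ≤ Subgroup.normalizer ((c i : Subgroup G) : Set G)) (hcA : ∀ i, A ≤ Subgroup.normalizer ((c i : Subgroup G) : Set G))
    (htriv : ∀ i : Fin n, ⁅c i.castSucc, A⁆ ≤ c i.succ) :
    ∀ p : ℕ, p.Prime → p ∣ (A ⊓ Subgroup.centralizer (H : Set G)).relIndex A → p ∣ Nat.card H := by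
  intro p hp hdvd
  by_contra hpH
  haveI : Fact p.Prime := ⟨hp⟩
  obtain P : Sylow p A := default
  have hP : (P : Subgroup A) ≤ (A ⊓ Subgroup.centralizer (H : Set G)).subgroupOf A := by
    intro x hxP
    rw [Subgroup.mem_subgroupOf, Subgroup.mem_inf]
    refine ⟨x.2, ?_⟩
    have hxo : ∃ k : ℕ, orderOf x = p ^ k := by
      obtain ⟨k, hk⟩ := P.2 ⟨x, hxP⟩
      have : x ^ p ^ k = 1 := by
        have := congrArg Subtype.val hk
        simpa using this
      obtain ⟨j, _, hj⟩ := (Nat.dvd_prime_pow hp).1 (orderOf_dvd_of_pow_eq_one this)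
      exact ⟨j, hj⟩
    obtain ⟨k, hk⟩ := hxo
    have hcop : (orderOf (x : G)).Coprime (Nat.card H) := by
      rw [Subgroup.orderOf_coe, hk]
      exact Nat.Coprime.pow_left _ ((Nat.Prime.coprime_iff_not_dvd hp).2 hpH)
    rw [Subgroup.mem_centralizer_iff]
    intro h hh
    have := key H A n c hc0 hcn hanti htriv (x : G) x.2 hcop 0 h (by rw [hc0]; exact hh)
    exact this
  have h1 := Subgroup.index_dvd_of_le hP
  exact P.not_dvd_index (dvd_trans hdvd h1)

end Cfsg.Agent.S1441
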