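import Mathlib
import Cfsg.Statements.S1458
import Cfsg.Agent.Lib.Helper02.ZJe2
import Cfsg.Agent.Lib.Helper31.SolvPCon
import Cfsg.Agent.Lib.Helper42.PPrimeCore

set_option autoImplicit false
open Cfsg

namespace Cfsg.Agent.S1458

open Cfsg.Agent.Lib.Helper02

/-- in a group of odd order the Sylow 2-subgroups are trivial -/
theorem sylow_two_eq_bot_of_odd {X : Type*} [Group X] [Finite X] (h : Odd (Nat.card X))
    (T : Sylow 2 X) : (T : Subgroup X) = ⊥ := by
  obtain ⟨k, hk⟩ := IsPGroup.iff_card.mp T.2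
  have hdvd : Nat.card (T : Subgroup X) ∣ Nat.card X := Subgroup.card_subgroup_dvd_card _
  have hk0 : k = 0 := by
    by_contra hne
    have h2 : 2 ∣ Nat.card X := dvd_trans (hk ▸ dvd_pow_self 2 hne) hdvd
    exact (Nat.not_even_iff_odd.mpr h) (even_iff_two_dvd.mpr h2)
  rw [hk0, pow_zero] at hk
  exact Subgroup.card_eq_one.mp hk

/-- Let G be a solvable group of odd order, p a prime and S a Sylow p-subgroup of G. Then the subgroup generated by the centre of the Thompson subgroup of S and O_{p'}(G) is normal in G. -/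
theorem result {G : Type*} [Group G] [Finite G] [Group.IsSolvable G] (hodd : Odd (Nat.card G)) (p : ℕ) [Fact p.Prime] (S : Sylow p G) :
    (Cfsg.centerThompsonOf p (S : Subgroup G) ⊔ Cfsg.pPrimeCore p G).Normal := by
  classical
  haveI hNn : (Cfsg.pPrimeCore p G).Normal := Cfsg.Agent.Lib.Helper42.pPrimeCore_normal p G
  by_cases hp : p = 2
  · subst hp
    have hS : (S : Subgroup G) = ⊥ := sylow_two_eq_bot_of_odd hodd S
    have hZ : Cfsg.centerThompsonOf 2 (S : Subgroup G) = ⊥ := by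
      rw [eq_bot_iff, ← hS]; exact ZJe.centerThompsonOf_le 2 _
    rw [hZ, bot_sup_eq]; exact hNn
  · apply ZJe.centerThompsonOf_sup_pPrimeCore_normal hp
      (Cfsg.Agent.Lib.Helper31.isPConstrained_of_solvable p inferInstance) S
    apply Cfsg.Agent.Lib.Helper57.PStableAll.stableFor_of_sylow_two_comm hp
    intro T
    have hoddq : Odd (Nat.card (G ⧸ Cfsg.pPrimeCore p G)) := by
      have hdvd : Nat.card (G ⧸ Cfsg.pPrimeCore p G) ∣ Nat.card G :=
        Subgroup.card_quotient_dvd_card _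
      exact hodd.of_dvd_nat hdvd
    have hT : (T : Subgroup (G ⧸ Cfsg.pPrimeCore p G)) = ⊥ := sylow_two_eq_bot_of_odd hoddq T
    refine ⟨⟨fun a b => ?_⟩⟩
    have ha : a = 1 := by
      apply Subtype.ext
      have h1 : (a : G ⧸ Cfsg.pPrimeCore p G) ∈ (⊥ : Subgroup (G ⧸ Cfsg.pPrimeCore p G)) :=
        hT ▸ a.2
      exact Subgroup.mem_bot.mp h1
    have hb : b = 1 := by
      apply Subtype.ext
      have h1 : (b : G ⧸ Cfsg.pPrimeCore p G) ∈ (⊥ : Subgroup (G ⧸ Cfsg.pPrimeCore p G)) :=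
        hT ▸ b.2
      exact Subgroup.mem_bot.mp h1
    rw [ha, hb]

end Cfsg.Agent.S1458
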