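import Mathlib
import Cfsg.Statements.S1460
import Cfsg.Agent.Lib.Helper32.Supplement
import Cfsg.Agent.Lib.Helper01.SZRel

set_option autoImplicit false
open Cfsg
open scoped commutatorElement Pointwise

namespace Cfsg.Agent.S1460

open Cfsg.Agent.Lib.Helper32

theorem orderOf_dvd_card_of_mem' {G : Type*} [Group G] {H : Subgroup G} {x : G} (hx : x ∈ H) :
    orderOf x ∣ Nat.card H := by
  have : orderOf (⟨x, hx⟩ : H) ∣ Nat.card H := orderOf_dvd_natCard _
  rwa [← Subgroup.orderOf_coe] at this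

/-- Let G be a finite solvable group, K a normal subgroup and U a subgroup with G = KU, and H ≤ U a subgroup whose order is coprime to that of K. Then H ∩ G' = H ∩ U'; N_G(H) is generated by K ∩ C_G(H) and U ∩ N_G(H); and if gHg⁻¹ ≤ U for some g ∈ G then g = u c with u ∈ U and c ∈ K ∩ C_G(H). -/
theorem result {G : Type*} [Group G] [Finite G] [Group.IsSolvable G] (K U H : Subgroup G) [K.Normal] (hKU : K ⊔ U = ⊤) (hH : H ≤ U) (hcop : (Nat.card H).Coprime (Nat.card K)) :
    H ⊓ commutator G = H ⊓ ⁅U, U⁆ ∧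
      Subgroup.normalizer (H : Set G) = (K ⊓ Subgroup.centralizer (H : Set G)) ⊔ (U ⊓ Subgroup.normalizer (H : Set G)) ∧
      ∀ g : G, H.map (MulAut.conj g).toMonoidHom ≤ U → ∃ u ∈ U, ∃ c ∈ K ⊓ Subgroup.centralizer (H : Set G), g = u * c := by
  have hdec : ∀ g : G, ∃ u ∈ U, ∃ k ∈ K, g = u * k :=
    exists_mul_of_sup_eq_top U K (by rw [sup_comm]; exact hKU)
  have hHK : H ⊓ K = ⊥ := (Subgroup.disjoint_of_coprime_natCard hcop).eq_bot
  -- an element of K normalizing H (one inclusion suffices) centralizes H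
  have hcent : ∀ c ∈ K, (∀ h ∈ H, c * h * c⁻¹ ∈ H) → c ∈ Subgroup.centralizer (H : Set G) := by
    intro c hc hn
    rw [Subgroup.mem_centralizer_iff]
    intro h hh
    have h1 : c * h * c⁻¹ * h⁻¹ ∈ H := H.mul_mem (hn h hh) (H.inv_mem hh)
    have h2 : c * h * c⁻¹ * h⁻¹ ∈ K := by
      have : c * h * c⁻¹ * h⁻¹ = c * (h * c⁻¹ * h⁻¹) := by group
      rw [this]
      exact K.mul_mem hc (Subgroup.Normal.conj_mem inferInstance c⁻¹ (K.inv_mem hc) h)
    have h3 : c * h * c⁻¹ * h⁻¹ ∈ H ⊓ K := Subgroup.mem_inf.2 ⟨h1, h2⟩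
    rw [hHK, Subgroup.mem_bot] at h3
    have : c * h * c⁻¹ = h := by
      rw [mul_inv_eq_one] at h3; exact h3
    calc h * c = (c * h * c⁻¹) * c := by rw [this]
      _ = c * h := by group
  have key : ∀ g : G, H.map (MulAut.conj g).toMonoidHom ≤ U →
      ∃ u ∈ U, ∃ c ∈ K ⊓ Subgroup.centralizer (H : Set G), g = u * c := by
    intro g hg
    obtain ⟨u, hu, k, hk, rfl⟩ := hdec g
    -- k h k⁻¹ ∈ U for h ∈ H
    have hkU : ∀ h ∈ H, k * h * k⁻¹ ∈ U := by
      intro h hh
      have h1 : (u * k) * h * (u * k)⁻¹ ∈ U := hg ⟨h, hh, rfl⟩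
      have h2 := U.mul_mem (U.mul_mem (U.inv_mem hu) h1) hu
      have : u⁻¹ * (u * k * h * (u * k)⁻¹) * u = k * h * k⁻¹ := by group
      rwa [this] at h2
    set P := K ⊓ U with hP
    set L := H ⊔ P with hL
    have hLU : L ≤ U := sup_le hH inf_le_right
    have hUn : U ≤ Subgroup.normalizer (P : Set G) := by
      rw [Subgroup.le_normalizer_iff]
      intro x hx y hy
      exact Subgroup.mem_inf.2 ⟨Subgroup.Normal.conj_mem inferInstance y hy.1 x,
        U.mul_mem (U.mul_mem hx hy.2) (U.inv_mem hx)⟩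
    have hPn : L ≤ Subgroup.normalizer (P : Set G) := hLU.trans hUn
    have hPH : P ⊓ H = ⊥ := by
      rw [eq_bot_iff, ← hHK]
      exact le_inf inf_le_right (inf_le_left.trans inf_le_left)
    have hcard : Nat.card L = Nat.card P * Nat.card H :=
      card_sup_of_le_normalizer H P (hH.trans hUn) hPH
    have hcopP : (Nat.card P).Coprime (Nat.card H) :=
      (Nat.Coprime.coprime_dvd_right (Subgroup.card_dvd_of_le inf_le_left) hcop).symm
    set H₁ := MulAut.conj k • H with hH₁
    have hH₁L : H₁ ≤ L := by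
      intro x hx
      rw [hH₁, Subgroup.mem_pointwise_smul_iff_inv_smul_mem] at hx
      -- x = k * h * k⁻¹ with h = k⁻¹ x k
      set h := (MulAut.conj k)⁻¹ • x with hh
      have hx' : x = k * h * k⁻¹ := by
        rw [hh, MulAut.smul_def, ← map_inv, MulAut.conj_apply]; group
      have h1 : k * h * k⁻¹ * h⁻¹ ∈ P := by
        refine Subgroup.mem_inf.2 ⟨?_, U.mul_mem (hkU h hx) (U.inv_mem (hH hx))⟩
        have : k * h * k⁻¹ * h⁻¹ = k * (h * k⁻¹ * h⁻¹) := by group
        rw [this]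
        exact K.mul_mem hk (Subgroup.Normal.conj_mem inferInstance k⁻¹ (K.inv_mem hk) h)
      have : x = (k * h * k⁻¹ * h⁻¹) * h := by rw [hx']; group
      rw [this]
      exact L.mul_mem (Subgroup.mem_sup_right h1) (Subgroup.mem_sup_left hx)
    have hH₁card : Nat.card H₁ = Nat.card H := Cfsg.Agent.Lib.Helper01.card_conj_smul k H
    have hsolvP : Group.IsSolvable P := inferInstance
    obtain ⟨w, hwL, hw⟩ := Cfsg.Agent.Lib.Helper01.sz_conj_in L P H H₁ le_sup_right le_sup_left
      hH₁L hPn hcard hcopP hH₁card (Or.inl hsolvP)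
    -- w = a * h₀
    have hwL' : w ∈ ((P ⊔ H : Subgroup G) : Set G) := by
      rw [sup_comm]; exact hwL
    rw [Subgroup.coe_mul_of_right_le_normalizer_left P H (hH.trans hUn)] at hwL'
    obtain ⟨a, ha, h₀, hh₀, rfl⟩ := Set.mem_mul.1 hwL'
    have ha' : a ∈ P := ha
    have hh₀' : h₀ ∈ H := hh₀
    have hconj : MulAut.conj a • H = MulAut.conj k • H := by
      rw [← hH₁, ← hw, map_mul, mul_smul, Subgroup.conj_smul_eq_self_of_mem hh₀']
    have hcK : a⁻¹ * k ∈ K := K.mul_mem (K.inv_mem ha'.1) hk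
    have hcn : ∀ h ∈ H, (a⁻¹ * k) * h * (a⁻¹ * k)⁻¹ ∈ H := by
      intro h hh
      have h1 : k * h * k⁻¹ ∈ MulAut.conj k • H := by
        have := Subgroup.smul_mem_pointwise_smul h (MulAut.conj k) H hh
        rwa [MulAut.smul_def, MulAut.conj_apply] at this
      rw [← hconj, Subgroup.mem_pointwise_smul_iff_inv_smul_mem, MulAut.smul_def, ← map_inv,
        MulAut.conj_apply] at h1
      have : a⁻¹ * k * h * (a⁻¹ * k)⁻¹ = a⁻¹ * (k * h * k⁻¹) * a⁻¹⁻¹ := by group
      rw [this]
      exact h1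
    refine ⟨u * a, U.mul_mem hu ha'.2, a⁻¹ * k, Subgroup.mem_inf.2 ⟨hcK, hcent _ hcK hcn⟩, ?_⟩
    group
  refine ⟨?_, ?_, key⟩
  · apply le_antisymm
    · intro x hx
      refine Subgroup.mem_inf.2 ⟨hx.1, ?_⟩
      have h1 : x ∈ K ⊔ ⁅U, U⁆ := commutator_le_sup_of_decomp U K hdec hx.2
      rw [← SetLike.mem_coe, Subgroup.normal_mul] at h1
      obtain ⟨k, hk, m, hm, hxkm⟩ := Set.mem_mul.1 h1
      have hk' : k ∈ K := hk
      have hm' : m ∈ ⁅U, U⁆ := hm
      apply mem_commutator_of_coprime_order U x k m (hH hx.1) hm' hxkm.symm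
      exact Nat.Coprime.coprime_dvd_left (orderOf_dvd_card_of_mem' hx.1)
        (Nat.Coprime.coprime_dvd_right (orderOf_dvd_card_of_mem' hk') hcop)
    · refine inf_le_inf_left H ?_
      rw [commutator_def]
      exact Subgroup.commutator_mono le_top le_top
  · apply le_antisymm
    · intro g hg
      have h1 : H.map (MulAut.conj g).toMonoidHom ≤ U := by
        have := Subgroup.mem_normalizer_iff_map_conj_eq.1 hg
        have h2 : H.map (MulAut.conj g).toMonoidHom = H := this
        rw [h2]; exact hH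
      obtain ⟨u, hu, c, hc, rfl⟩ := key g h1
      have hcN : c ∈ Subgroup.normalizer (H : Set G) :=
        Subgroup.centralizer_le_normalizer _ (Subgroup.mem_inf.1 hc).2
      have huN : u ∈ Subgroup.normalizer (H : Set G) := by
        have := (Subgroup.normalizer (H : Set G)).mul_mem hg
          ((Subgroup.normalizer (H : Set G)).inv_mem hcN)
        rwa [mul_inv_cancel_right] at this
      rw [sup_comm]
      exact Subgroup.mul_mem_sup (Subgroup.mem_inf.2 ⟨hu, huN⟩) hc
    · apply sup_le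
      · exact inf_le_right.trans (Subgroup.centralizer_le_normalizer _)
      · exact inf_le_right

end Cfsg.Agent.S1460
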