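import Mathlib
import Cfsg.Statements.S1464
import Cfsg.Agent.Lib.Helper02.PStab2

set_option autoImplicit false
open Cfsg

namespace Cfsg.Agent.S1464

open Cfsg.Agent.Lib.Helper02.PStab
open scoped commutatorElement

/-- the faithful action of `N_G(P)/C_G(P)` on `P` -/
noncomputable def actHom {G : Type*} [Group G] (P : Subgroup G) :
    (↥(Subgroup.normalizer (P : Set G)) ⧸
      (Subgroup.centralizer (P : Set G)).subgroupOf (Subgroup.normalizer (P : Set G))) →* MulAut P :=
  QuotientGroup.lift _ P.normalizerMonoidHom (by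
    intro x hx
    rw [← Subgroup.normalizerMonoidHom_ker] at hx
    exact hx)

theorem actHom_mk {G : Type*} [Group G] (P : Subgroup G) (n : ↥(Subgroup.normalizer (P : Set G)))
    (x : P) : ((actHom P (QuotientGroup.mk n) x : P) : G) = n.1 * x.1 * n.1⁻¹ := rfl

theorem actHom_injective {G : Type*} [Group G] (P : Subgroup G) :
    Function.Injective (actHom P) := by
  rw [injective_iff_map_eq_one]
  intro q hq
  obtain ⟨n, rfl⟩ := QuotientGroup.mk_surjective q
  rw [QuotientGroup.eq_one_iff, ← Subgroup.normalizerMonoidHom_ker, MonoidHom.mem_ker]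
  exact hq

/-- Let p be an odd prime and G a solvable group of odd order, P a p-subgroup with O_{p'}(G)P normal in G, and A a p-subgroup of N_G(P) with [[P, A], A] = 1. Then the image of A in the quotient N_G(P)/C_G(P) is contained in the p-core of that quotient. -/
theorem result {G : Type*} [Group G] [Finite G] [Group.IsSolvable G] (hodd : Odd (Nat.card G)) (p : ℕ) [Fact p.Prime] (hp : p ≠ 2) (P A : Subgroup G) (hP : IsPGroup p P) (hPn : (Cfsg.pPrimeCore p G ⊔ P).Normal)
    (hA : IsPGroup p A) (hAN : A ≤ Subgroup.normalizer (P : Set G)) (hquad : ⁅⁅P, A⁆, A⁆ = ⊥) :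
    (A.subgroupOf (Subgroup.normalizer (P : Set G))).map
        (QuotientGroup.mk' ((Subgroup.centralizer (P : Set G)).subgroupOf (Subgroup.normalizer (P : Set G))))
      ≤ Cfsg.pCore p _ := by
  rintro _ ⟨n, hn, rfl⟩
  rw [SetLike.mem_coe, Subgroup.mem_subgroupOf] at hn
  set X := ↥(Subgroup.normalizer (P : Set G)) ⧸
      (Subgroup.centralizer (P : Set G)).subgroupOf (Subgroup.normalizer (P : Set G)) with hX
  -- odd order ⇒ Sylow 2-subgroups trivial
  have hoddX : Odd (Nat.card X) := by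
    have h1 : Nat.card X ∣ Nat.card ↥(Subgroup.normalizer (P : Set G)) := by
      rw [hX, ← Subgroup.index_eq_card]
      exact Subgroup.index_dvd_card _
    have h2 : Nat.card ↥(Subgroup.normalizer (P : Set G)) ∣ Nat.card G :=
      Subgroup.card_subgroup_dvd_card _
    obtain ⟨k, hk⟩ := h1.trans h2
    rw [hk] at hodd
    exact (Nat.odd_mul.mp hodd).1
  have hT : ∀ T : Sylow 2 X, IsMulCommutative T := by
    intro T
    have h1 : Nat.card T = 1 := by
      obtain ⟨k, hk⟩ := T.isPGroup'.exists_card_eq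
      rcases Nat.eq_zero_or_pos k with h0 | h0
      · rw [hk, h0, pow_zero]
      · exfalso
        have h2 : 2 ∣ Nat.card T := by rw [hk]; exact dvd_pow_self 2 h0.ne'
        have h3 : 2 ∣ Nat.card X := h2.trans (Subgroup.card_subgroup_dvd_card _)
        exact (Nat.not_even_iff_odd.mpr hoddX) (even_iff_two_dvd.mpr h3)
    have hsub : Subsingleton T := (Nat.card_eq_one_iff_unique.mp h1).1
    exact ⟨⟨fun a b => Subsingleton.elim _ _⟩⟩
  -- quadratic action
  have hq : QuadG (actHom P) (QuotientGroup.mk n) := by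
    intro x
    apply Subtype.ext
    rw [actHom_mk]
    have h0 : ((actHom P (QuotientGroup.mk n) x * x⁻¹ : P) : G) = n.1 * x.1 * n.1⁻¹ * x.1⁻¹ := by
      rw [Subgroup.coe_mul, Subgroup.coe_inv, actHom_mk]
    rw [h0]
    have h1 : ⁅(x : G), (n : G)⁆ ∈ ⁅P, A⁆ := Subgroup.commutator_mem_commutator x.2 hn
    have h2 : ⁅(x : G), (n : G)⁆⁻¹ ∈ ⁅P, A⁆ := Subgroup.inv_mem _ h1
    have h3 : ⁅⁅(x : G), (n : G)⁆⁻¹, (n : G)⁆ ∈ ⁅⁅P, A⁆, A⁆ :=
      Subgroup.commutator_mem_commutator h2 hn
    rw [hquad, Subgroup.mem_bot] at h3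
    have h4 : ⁅(x : G), (n : G)⁆⁻¹ = n.1 * x.1 * n.1⁻¹ * x.1⁻¹ := by
      rw [commutatorElement_def]; group
    rw [h4, commutatorElement_def] at h3
    set w := n.1 * x.1 * n.1⁻¹ * x.1⁻¹ with hw
    have h5 : w * n.1 = n.1 * w := by
      have := congrArg (fun y => y * n.1 * w) h3
      simp only [one_mul] at this
      rw [← this]; group
    calc n.1 * w * n.1⁻¹ = w * n.1 * n.1⁻¹ := by rw [h5]
      _ = w := by group
  haveI : Finite P := inferInstance
  obtain ⟨N, hNn, hNp, haN⟩ := exists_normal_pGroup_of_quadG (X := X) (P := P) hp hP (actHom P)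
    (actHom_injective P) (QuotientGroup.mk n) hq hT
  have hle : N ≤ Cfsg.pCore p X := le_sSup ⟨hNn, hNp⟩
  exact hle haN

end Cfsg.Agent.S1464
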