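import Cfsg.Statements.S1470
import Cfsg.Agent.Lib.Helper33.NormPoly

set_option autoImplicit false
open Cfsg

namespace Cfsg.Agent.S1470

open Cfsg.Agent.Lib.Helper33

/-- Let p and q be odd primes with (p^q − 1)/(p − 1) coprime to p − 1, and let E be the set of elements a of the field with p ^ q elements whose norm to the prime field is 1 and for which 2 − a also has norm 1. If a⁻¹ ∈ E for every a ∈ E and E has at least two elements, then p ≤ q. -/
theorem result (p q : ℕ) [Fact p.Prime] [Fact q.Prime] (hp : p ≠ 2) (hq : q ≠ 2) (hA : Nat.Coprime ((p ^ q - 1) / (p - 1)) (p - 1))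
    (hinv : ∀ a ∈ {a : GaloisField p q | Algebra.norm (ZMod p) a = 1 ∧ Algebra.norm (ZMod p) (2 - a) = 1}, a⁻¹ ∈ {a : GaloisField p q | Algebra.norm (ZMod p) a = 1 ∧ Algebra.norm (ZMod p) (2 - a) = 1})
    (h2 : 2 ≤ Set.ncard {a : GaloisField p q | Algebra.norm (ZMod p) a = 1 ∧ Algebra.norm (ZMod p) (2 - a) = 1}) :
    p ≤ q := by
  have hq0 : q ≠ 0 := (Fact.out : q.Prime).ne_zero
  obtain ⟨a, haE, ha1⟩ := Set.exists_ne_of_one_lt_ncard (show 1 < _ from h2) (1 : GaloisField p q)
  set b : GaloisField p q := a - 1 with hbdef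
  have hb : b ≠ 0 := sub_ne_zero.mpr ha1
  have hnz : ∀ x : GaloisField p q, Algebra.norm (ZMod p) x = 1 → x ≠ 0 := by
    intro x hx h0
    rw [h0, Algebra.norm_zero] at hx
    exact zero_ne_one hx
  have key : ∀ k : ℕ, Algebra.norm (ZMod p) (1 + (k : GaloisField p q) * b) = 1 ∧
      (1 + ((k + 1 : ℕ) : GaloisField p q) * b) / (1 + (k : GaloisField p q) * b) ∈
        {a : GaloisField p q | Algebra.norm (ZMod p) a = 1 ∧ Algebra.norm (ZMod p) (2 - a) = 1} := by
    intro k
    induction k with
    | zero =>
      refine ⟨by simp, ?_⟩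
      have : (1 + ((0 + 1 : ℕ) : GaloisField p q) * b) / (1 + ((0 : ℕ) : GaloisField p q) * b) = a := by
        simp [hbdef]
      rw [this]
      exact haE
    | succ k ih =>
      obtain ⟨hN, hE⟩ := ih
      set u : GaloisField p q := 1 + (k : GaloisField p q) * b with hu
      set u' : GaloisField p q := 1 + ((k + 1 : ℕ) : GaloisField p q) * b with hu'
      set u'' : GaloisField p q := 1 + ((k + 1 + 1 : ℕ) : GaloisField p q) * b with hu''
      have hu0 : u ≠ 0 := hnz u hN
      have hN' : Algebra.norm (ZMod p) u' = 1 := by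
        have : u' = u' / u * u := by field_simp
        rw [this, map_mul, hE.1, hN, one_mul]
      have hu'0 : u' ≠ 0 := hnz u' hN'
      have hE' := hinv _ hE
      have e1 : (u' / u)⁻¹ = u / u' := by rw [inv_div]
      rw [e1] at hE'
      have e2 : u'' / u' = 2 - u / u' := by
        field_simp
        rw [hu, hu', hu'']
        push_cast
        ring
      refine ⟨hN', ?_, ?_⟩
      · rw [e2]; exact hE'.2
      · rw [e2]
        have : (2 : GaloisField p q) - (2 - u / u') = u / u' := by ring
        rw [this]; exact hE'.1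
  -- now the norm of `b⁻¹ + k` is constant on the prime field
  have hNb : Algebra.norm (ZMod p) b ≠ 0 := by
    intro h
    exact hb (Algebra.norm_eq_zero_iff.mp h)
  have hconst : ∀ k ∈ (Finset.univ : Finset (ZMod p)),
      Algebra.norm (ZMod p) (b⁻¹ + algebraMap (ZMod p) (GaloisField p q) k) =
        (Algebra.norm (ZMod p) b)⁻¹ := by
    intro k _
    have hk : algebraMap (ZMod p) (GaloisField p q) k = ((k.val : ℕ) : GaloisField p q) := by
      conv_lhs => rw [← ZMod.natCast_zmod_val k]
      rw [map_natCast]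
    have h1 := (key k.val).1
    have : (1 : GaloisField p q) + ((k.val : ℕ) : GaloisField p q) * b =
        b * (b⁻¹ + ((k.val : ℕ) : GaloisField p q)) := by
      field_simp
    rw [this, map_mul] at h1
    rw [hk]
    exact eq_inv_of_mul_eq_one_right h1
  have := card_le_finrank_of_norm_add_const (K := ZMod p) (L := GaloisField p q) b⁻¹ _ Finset.univ hconst
  rw [Finset.card_univ, ZMod.card, GaloisField.finrank p hq0] at this
  exact this

end Cfsg.Agent.S1470
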