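import Cfsg.Statements.S1471
import Cfsg.Agent.Lib.Helper33.NormPairCubic
import Cfsg.Agent.Lib.Helper33.NormPairJacobi
-- import your own Cfsg.Agent.* helpers here

set_option autoImplicit false
open Cfsg

namespace Cfsg.Agent.S1471

/-- Let p and q be odd primes with (p^q − 1)/(p − 1) coprime to p − 1. Then there are at least two elements a of the field with p ^ q elements such that both a and 2 − a have norm 1 to the prime field. -/
theorem result (p q : ℕ) [Fact p.Prime] [Fact q.Prime] (hp : p ≠ 2) (hq : q ≠ 2) (hA : Nat.Coprime ((p ^ q - 1) / (p - 1)) (p - 1)) :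
    2 ≤ Set.ncard {a : GaloisField p q | Algebra.norm (ZMod p) a = 1 ∧ Algebra.norm (ZMod p) (2 - a) = 1} := by
  by_cases hq3 : q = 3
  · subst hq3
    exact Cfsg.Agent.Lib.Helper33.two_le_ncard_three p
  · have hqp : q.Prime := Fact.out
    have hq5 : 4 ≤ q := by
      have h2 := hqp.two_le
      by_contra hlt
      have : q = 2 ∨ q = 3 := by omega
      rcases this with h | h
      · exact hq h
      · exact hq3 h
    letI : Fintype (GaloisField p q) := Fintype.ofFinite _
    apply Cfsg.Agent.Lib.Helper33.two_le_ncard_of_card_ge hp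
    rw [← Nat.card_eq_fintype_card, GaloisField.card p q hqp.ne_zero]
    exact Nat.pow_le_pow_right (Fact.out : p.Prime).pos hq5

end Cfsg.Agent.S1471
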