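import Mathlib
import Cfsg.Statements.S1475
import Cfsg.Agent.Lib.Helper65.Lucido

set_option autoImplicit false
open Cfsg

namespace Cfsg.Agent.S1475

open Cfsg.Agent.Lib.Helper65

/-- Let G be a finite solvable group such that the order of every element is a prime power (1 included). Then at most two distinct primes divide the order of G. -/
theorem result {G : Type*} [Group G] [Finite G] [Group.IsSolvable G] (h : ∀ g : G, IsPrimePow (orderOf g) ∨ g = 1) :
    (Nat.card G).primeFactors.card ≤ 2 := by
  apply solvable_coclique_card_le_two G
  · intro r hr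
    exact ⟨Nat.prime_of_mem_primeFactors hr, Nat.dvd_of_mem_primeFactors hr⟩
  · rintro r hr s hs hrs ⟨x, hx⟩
    have hrp : r.Prime := Nat.prime_of_mem_primeFactors hr
    have hsp : s.Prime := Nat.prime_of_mem_primeFactors hs
    rcases h x with h1 | h1
    · rw [hx, isPrimePow_iff_unique_prime_dvd] at h1
      obtain ⟨q, _, hq⟩ := h1
      have e1 := hq r ⟨hrp, dvd_mul_right r s⟩
      have e2 := hq s ⟨hsp, dvd_mul_left s r⟩
      exact hrs (e1.trans e2.symm)
    · rw [h1, orderOf_one] at hx
      have := hrp.two_le
      have := hsp.two_le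
      nlinarith

end Cfsg.Agent.S1475
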