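import Cfsg.Statements.S1484
import Cfsg.Agent.Lib.Helper12.CNMaxSub

set_option autoImplicit false
open Cfsg
open Cfsg.Agent.Lib.Helper12.CNMaxNilp Cfsg.Agent.Lib.Helper12.FrobGp Cfsg.Agent.Lib.Helper12.CNMaxSub

namespace Cfsg.Agent.S1484

/-- Let G be a minimal simple group of odd order in which every non-identity element has nilpotent centralizer, and M₁, …, M_k maximal subgroups, pairwise non-conjugate, such that every maximal subgroup is conjugate to some M_i. Let H_i be the largest normal nilpotent Hall subgroup of M_i. Then the orders of the H_i are pairwise coprime, their product is the order of G, and every element of G is conjugate to an element of some H_i. -/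
theorem result {G : Type*} [Group G] [Finite G] (hG : Cfsg.IsMinSimpleOddOrder G) (hCN : Cfsg.IsCNGroup G) (k : ℕ) (Mrep : Fin k → Subgroup G) (hmax : ∀ i, IsCoatom (Mrep i))
    (hnc : ∀ i j, i ≠ j → ∀ g : G, Mrep j ≠ (Mrep i).map (MulAut.conj g).toMonoidHom) (hall : ∀ M : Subgroup G, IsCoatom M → ∃ i, ∃ g : G, M = (Mrep i).map (MulAut.conj g).toMonoidHom) :
    (∀ i j, i ≠ j → (Nat.card (Cfsg.fittingHallOf (Mrep i))).Coprime (Nat.card (Cfsg.fittingHallOf (Mrep j)))) ∧
      ∏ i, Nat.card (Cfsg.fittingHallOf (Mrep i)) = Nat.card G ∧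
      ∀ x : G, ∃ i, ∃ g : G, g * x * g⁻¹ ∈ Cfsg.fittingHallOf (Mrep i) := by
  classical
  have hF : ∀ i, ∃ K E : Subgroup G, FrobIn K E (Mrep i) :=
    fun i => exists_frobIn hG hCN _ (hmax i)
  choose K E F using hF
  have hKeq : ∀ i, Cfsg.fittingHallOf (Mrep i) = K i :=
    fun i => fittingHallOf_eq_kernel hG hCN (hmax i) (F i)
  have hKmax : ∀ i, MaxNilp (K i) := fun i => kernel_maxNilp hG hCN (hmax i) (F i)
  have hconj := exists_conj_mem_kernel hG hCN Mrep hmax hall
  have hcop : ∀ i j, i ≠ j → (Nat.card (K i)).Coprime (Nat.card (K j)) := by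
    intro i j hij
    rcases conj_or_coprime hCN (hKmax i) (hKmax j) with ⟨g, hg⟩ | h
    · exfalso
      apply hnc i j hij g
      rw [← normalizer_kernel hG (hmax j) (F j), ← normalizer_kernel hG (hmax i) (F i), hg,
        Subgroup.map_equiv_normalizer_eq]
    · exact h
  refine ⟨?_, ?_, hconj⟩
  · intro i j hij
    rw [hKeq, hKeq]; exact hcop i j hij
  · simp_rw [hKeq]
    have hne : ∀ i, Nat.card (K i) ≠ 0 := fun i => Nat.card_pos.ne'
    have hdvd : ∀ i, Nat.card (K i) ∣ Nat.card G := fun i => Subgroup.card_subgroup_dvd_card _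
    have hHall : ∀ i, (Nat.card (K i)).Coprime (K i).index := fun i => (hKmax i).coprime hCN
    have hprime : ∀ p : ℕ, p.Prime → p ∣ Nat.card G → ∃ i, p ∣ Nat.card (K i) := by
      intro p hp hpd
      have : Fact p.Prime := ⟨hp⟩
      obtain ⟨x, hx⟩ := exists_prime_orderOf_dvd_card' (G := G) p hpd
      obtain ⟨i, g, hg⟩ := hconj x
      rw [hKeq] at hg
      refine ⟨i, ?_⟩
      have h1 : orderOf (g * x * g⁻¹) = p := by
        have := (MulAut.conj g).orderOf_eq x
        rw [MulAut.conj_apply] at this
        rw [this, hx]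
      have h2 := orderOf_dvd_natCard (⟨g * x * g⁻¹, hg⟩ : ↥(K i))
      rw [← Subgroup.orderOf_coe] at h2
      rw [← h1]; exact h2
    apply Nat.eq_of_factorization_eq (Finset.prod_ne_zero_iff.mpr fun i _ => hne i)
      Nat.card_pos.ne'
    intro p
    by_cases hp : p.Prime
    · rw [Nat.factorization_prod (fun i _ => hne i), Finsupp.finsetSum_apply]
      by_cases hpd : p ∣ Nat.card G
      · obtain ⟨i₀, hi₀⟩ := hprime p hp hpd
        rw [Finset.sum_eq_single i₀]
        · have h1 : Nat.card G = Nat.card (K i₀) * (K i₀).index := (Subgroup.card_mul_index _).symm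
          have hidx : (K i₀).index ≠ 0 := Subgroup.index_ne_zero_of_finite
          rw [h1, Nat.factorization_mul (hne i₀) hidx, Finsupp.add_apply]
          have h2 : (K i₀).index.factorization p = 0 := by
            apply Nat.factorization_eq_zero_of_not_dvd
            intro h
            have := Nat.dvd_gcd hi₀ h
            rw [Nat.Coprime.gcd_eq_one (hHall i₀)] at this
            exact hp.one_lt.ne' (Nat.dvd_one.mp this)
          rw [h2, add_zero]
        · intro j _ hj
          apply Nat.factorization_eq_zero_of_not_dvd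
          intro h
          have := Nat.dvd_gcd h hi₀
          rw [Nat.Coprime.gcd_eq_one (hcop j i₀ hj)] at this
          exact hp.one_lt.ne' (Nat.dvd_one.mp this)
        · intro h
          exact absurd (Finset.mem_univ _) h
      · rw [Nat.factorization_eq_zero_of_not_dvd hpd]
        apply Finset.sum_eq_zero
        intro i _
        apply Nat.factorization_eq_zero_of_not_dvd
        intro h
        exact hpd (h.trans (hdvd i))
    · rw [Nat.factorization_eq_zero_of_not_prime _ hp, Nat.factorization_eq_zero_of_not_prime _ hp]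

end Cfsg.Agent.S1484
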