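import Cfsg.Statements.S1488
import Cfsg.Agent.Lib.Helper33.IndFun

set_option autoImplicit false
open Cfsg

namespace Cfsg.Agent.S1488

open Cfsg.Agent.Lib.Helper33

/-- Let A be a normal subgroup of the finite group G contained in the subgroup H, let θ be a function on H and θ₁ a function on the image of H in G ⧸ A whose composite with the projection is θ. Then the function induced from θ₁ to G ⧸ A, composed with the projection G → G ⧸ A, equals the function induced from θ to G. -/
theorem result {G : Type*} [Group G] [Fintype G] (A H : Subgroup G) [A.Normal] (hAH : A ≤ H) [Fintype (G ⧸ A)] [Fintype ↥(H.map (QuotientGroup.mk' A))] (θ : H → ℂ) (θ₁ : ↥(H.map (QuotientGroup.mk' A)) → ℂ) (hθ : ∀ x : H, θ₁ ⟨QuotientGroup.mk' A x, Subgroup.mem_map_of_mem _ x.2⟩ = θ x) (g : G) : Cfsg.indFun (H.map (QuotientGroup.mk' A)) θ₁ (QuotientGroup.mk' A g) = Cfsg.indFun H θ g := by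
  -- membership in `H` is detected in the quotient
  have hmem : ∀ z : G, QuotientGroup.mk' A z ∈ H.map (QuotientGroup.mk' A) ↔ z ∈ H := by
    intro z
    constructor
    · rintro ⟨h, hh, hhz⟩
      have : h⁻¹ * z ∈ A := by
        have := QuotientGroup.eq.mp hhz
        exact this
      have h2 : h * (h⁻¹ * z) ∈ H := H.mul_mem hh (hAH this)
      simpa using h2
    · intro hz
      exact Subgroup.mem_map_of_mem _ hz
  have hext : ∀ z : G, extendByZero (H.map (QuotientGroup.mk' A)) θ₁ (QuotientGroup.mk' A z) =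
      extendByZero H θ z := by
    intro z
    by_cases hz : z ∈ H
    · rw [extendByZero_of_mem H θ hz, extendByZero_of_mem _ θ₁ ((hmem z).mpr hz)]
      exact hθ ⟨z, hz⟩
    · rw [extendByZero_of_not_mem H θ hz, extendByZero_of_not_mem _ θ₁ (fun h => hz ((hmem z).mp h))]
  have hcard : Nat.card H = Nat.card A * Nat.card ↥(H.map (QuotientGroup.mk' A)) := by
    have h1 := QuotientGroup.card_preimage_mk A ((H.map (QuotientGroup.mk' A) : Subgroup (G ⧸ A)) : Set (G ⧸ A))
    have h2 : Nat.card H = Nat.card ↑(QuotientGroup.mk ⁻¹' ((H.map (QuotientGroup.mk' A) : Subgroup (G ⧸ A)) : Set (G ⧸ A))) := by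
      apply Nat.card_congr
      apply Equiv.setCongr
      ext z
      exact (hmem z).symm
    rw [h2, h1]
    rfl
  unfold indFun
  have hsum : ∑ x : G, extendByZero H θ (x⁻¹ * g * x) =
      (Nat.card A : ℂ) * ∑ q : G ⧸ A, extendByZero (H.map (QuotientGroup.mk' A)) θ₁
        (q⁻¹ * QuotientGroup.mk' A g * q) := by
    rw [← sum_comp_mk A (fun q => extendByZero (H.map (QuotientGroup.mk' A)) θ₁
        (q⁻¹ * QuotientGroup.mk' A g * q))]
    apply Finset.sum_congr rfl
    intro x _
    rw [← hext]
    simp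
  rw [hsum, hcard]
  have hA : (Nat.card A : ℂ) ≠ 0 := by
    exact_mod_cast Nat.card_pos.ne'
  push_cast
  field_simp

end Cfsg.Agent.S1488
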