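import Cfsg.Statements.S1489
import Cfsg.Agent.Lib.Helper84.Clifford

set_option autoImplicit false
open Cfsg

namespace Cfsg.Agent.S1489

open Cfsg.Agent.Lib.Helper84
open scoped ComplexConjugate

/-- From the hypothesis on the induced function to the multiplicity of `θ` in the restriction. -/
theorem constituent_of_ind {G : Type*} [Group G] [Fintype G] (H T : Subgroup G) [hN : H.Normal]
    [Fintype H] [Fintype T] (θ : H → ℂ) (hHT : H ≤ T) (ψ : T → ℂ) (hψ : Cfsg.IsIrrCharacter T ψ)
    (hc : Cfsg.classInner (Cfsg.indFun (H.subgroupOf T)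
      (fun x => θ ⟨(x : T), Subgroup.mem_subgroupOf.mp x.2⟩)) ψ ≠ 0) :
    classInner (resFun H T hHT ψ) θ ≠ 0 := by
  classical
  have : Fintype (H.subgroupOf T) := Fintype.ofFinite _
  rw [Cfsg.Agent.Lib.Helper34.classInner_indFun_left (H.subgroupOf T) _ ψ
    (Cfsg.Agent.Lib.Helper83.char_isClassFunction (Cfsg.Agent.Lib.Helper83.isCharacter_of_irr hψ))] at hc
  have h1 : (fun x : H.subgroupOf T => θ ⟨(x : T), Subgroup.mem_subgroupOf.mp x.2⟩) =
      fun x : H.subgroupOf T => θ (Subgroup.subgroupOfEquivOfLe hHT x) := rfl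
  have h2 : (fun h : H.subgroupOf T => ψ h) =
      fun x : H.subgroupOf T => resFun H T hHT ψ (Subgroup.subgroupOfEquivOfLe hHT x) := rfl
  rw [h1, h2, classInner_subgroupOf] at hc
  intro h0
  apply hc
  rw [← Cfsg.Agent.Lib.Helper83.classInner_conj_symm, h0, map_zero]

/-- Let H be a normal subgroup of the finite group G, θ an irreducible character of H, and T the inertia group of θ (the elements g with θ(g h g⁻¹) = θ(h) for all h ∈ H). If ψ and ψ' are irreducible characters of T having nonzero inner product with the function induced from θ to T, then the function induced from ψ to G is an irreducible character of G, and it equals the one induced from ψ' only if ψ = ψ'. -/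
theorem result {G : Type*} [Group G] [Fintype G] (H T : Subgroup G) [hN : H.Normal] [Fintype T] (θ : H → ℂ) (hθ : Cfsg.IsIrrCharacter H θ) (hT : ∀ g : G, g ∈ T ↔ ∀ h : H, θ ⟨g * h * g⁻¹, hN.conj_mem h h.2 g⟩ = θ h) (hHT : H ≤ T) (ψ ψ' : T → ℂ) (hψ : Cfsg.IsIrrCharacter T ψ) (hψ' : Cfsg.IsIrrCharacter T ψ') (hc : Cfsg.classInner (Cfsg.indFun (H.subgroupOf T) (fun x => θ ⟨(x : T), Subgroup.mem_subgroupOf.mp x.2⟩)) ψ ≠ 0) (hc' : Cfsg.classInner (Cfsg.indFun (H.subgroupOf T) (fun x => θ ⟨(x : T), Subgroup.mem_subgroupOf.mp x.2⟩)) ψ' ≠ 0) : Cfsg.IsIrrCharacter G (Cfsg.indFun T ψ) ∧ (Cfsg.indFun T ψ = Cfsg.indFun T ψ' → ψ = ψ') := by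
  classical
  have : Fintype H := Fintype.ofFinite _
  have hf := constituent_of_ind H T θ hHT ψ hψ hc
  have hf' := constituent_of_ind H T θ hHT ψ' hψ' hc'
  have hirr := isIrrCharacter_indFun_inertia H T hHT hθ hT hψ hf
  refine ⟨hirr, fun heq => ?_⟩
  by_contra hne
  set χ := indFun T ψ with hχdef
  have hχc : IsCharacter G χ := Cfsg.Agent.Lib.Helper83.isCharacter_of_irr hirr
  have hχcl : IsClassFunction G χ := Cfsg.Agent.Lib.Helper83.char_isClassFunction hχc
  have hχT : IsCharacter T (fun t : T => χ t) := Cfsg.Agent.Lib.Helper83.isCharacter_restrict T hχc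
  -- multiplicities of ψ and ψ' in χ_T are one
  have hm : classInner (fun t : T => χ t) ψ = 1 := by
    rw [← Cfsg.Agent.Lib.Helper83.classInner_conj_symm,
      ← Cfsg.Agent.Lib.Helper34.classInner_indFun_left T ψ χ hχcl, ← hχdef,
      Cfsg.Agent.Lib.Helper83.irr_inner_self ⟨χ, hirr⟩, map_one]
  have hm' : classInner (fun t : T => χ t) ψ' = 1 := by
    rw [← Cfsg.Agent.Lib.Helper83.classInner_conj_symm,
      ← Cfsg.Agent.Lib.Helper34.classInner_indFun_left T ψ' χ hχcl, ← heq,
      Cfsg.Agent.Lib.Helper83.irr_inner_self ⟨χ, hirr⟩, map_one]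
  obtain ⟨A', hA', hsplit⟩ := exists_char_sub hχT ⟨ψ, hψ⟩
  rw [Cfsg.Agent.Lib.Helper83.irrMult_cast hχT] at hsplit
  change (fun t : T => χ t) = classInner (fun t : T => χ t) ψ • ψ + A' at hsplit
  rw [hm, one_smul] at hsplit
  have hA'ψ' : classInner A' ψ' = 1 := by
    have h1 : A' = (fun t : T => χ t) - ψ := by rw [hsplit]; abel
    rw [h1, Cfsg.Agent.Lib.Helper83.classInner_sub_left, hm',
      classInner_irr_irr hψ hψ', if_neg hne, sub_zero]
  obtain ⟨k, hk⟩ := classInner_resFun_split H T hHT hA' ⟨ψ', hψ'⟩ hθ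
  change classInner (resFun H T hHT A') θ =
    classInner A' ψ' * classInner (resFun H T hHT ψ') θ + k at hk
  rw [hA'ψ', one_mul] at hk
  obtain ⟨f', hf'n⟩ := exists_nat_classInner_resFun H T hHT
    (Cfsg.Agent.Lib.Helper83.isCharacter_of_irr hψ') hθ
  have hM := classInner_indFun_inertia H T hHT hθ hT hψ hf
  have htot : classInner (fun n : H => χ n) θ =
      classInner (resFun H T hHT ψ) θ + classInner (resFun H T hHT A') θ := by
    have h1 : (fun n : H => χ n) = resFun H T hHT (fun t : T => χ t) := rfl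
    rw [h1, hsplit, resFun_add, Cfsg.Agent.Lib.Helper83.classInner_add_left]
  rw [hM, hk, hf'n] at htot
  have : ((f' + k : ℕ) : ℂ) = 0 := by
    push_cast
    have := htot
    linear_combination -this
  have hz : f' + k = 0 := by exact_mod_cast this
  apply hf'
  rw [hf'n]
  have : f' = 0 := by omega
  rw [this, Nat.cast_zero]

end Cfsg.Agent.S1489
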