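import Cfsg.Statements.S1491
import Cfsg.Agent.Lib.Helper84.LinearTwist
import Cfsg.Agent.Lib.Helper85.CliffordCorr
import Cfsg.Agent.Lib.Helper80.DetCoprime

set_option autoImplicit false
set_option linter.style.haveILetI false
open Cfsg

namespace Cfsg.Agent.S1491

/-- Version of the abelian-section Clifford count in which `θ` extends to its inertia group:
the ramification is `1`. -/
theorem aux {G : Type*} [Group G] [Fintype G] (H T : Subgroup G) [hN : H.Normal] (θ : H → ℂ) (hθ : Cfsg.IsIrrCharacter H θ) (hT : ∀ g : G, g ∈ T ↔ ∀ h : H, θ ⟨g * h * g⁻¹, hN.conj_mem h h.2 g⟩ = θ h) (hab : ∀ x ∈ T, ∀ y ∈ T, x * y * x⁻¹ * y⁻¹ ∈ H)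
    (hext : ∀ hHT : H ≤ T, ∃ ψ₀ : T → ℂ, Cfsg.IsIrrCharacter T ψ₀ ∧
      ∀ n : H, ψ₀ ⟨(n : G), hHT n.2⟩ = θ n) :
    ∃ (e : ℕ) (C : Finset (G → ℂ)), e = 1 ∧ (∀ χ ∈ C, Cfsg.IsIrrCharacter G χ) ∧ e ^ 2 * C.card * Nat.card H = Nat.card T ∧ Cfsg.indFun H θ = (e : ℂ) • ∑ χ ∈ C, χ ∧ ∀ χ ∈ C, χ 1 = (T.index : ℂ) * e * θ 1 := by
  classical
  have : Fintype H := Fintype.ofFinite _
  have : Fintype (IrrCharacter G) := Fintype.ofFinite _
  have hTeq : T = Cfsg.Agent.Lib.Helper85.conjStab hN θ := by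
    ext g
    rw [hT, Cfsg.Agent.Lib.Helper85.mem_conjStab]
    exact ⟨fun h => funext h, fun h => congrFun h⟩
  subst hTeq
  set T := Cfsg.Agent.Lib.Helper85.conjStab hN θ with hTdef
  have : Fintype T := Fintype.ofFinite _
  have hθc := Cfsg.Agent.Lib.Helper83.isCharacter_of_irr hθ
  have hHT : H ≤ T :=
    Cfsg.Agent.Lib.Helper85.le_conjStab hN (Cfsg.Agent.Lib.Helper83.char_isClassFunction hθc)
  have hT' : ∀ g : G, g ∈ T ↔ ∀ n : H, Cfsg.Agent.Lib.Helper84.conjFun H g θ n = θ n := hT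
  have hstab : ∀ t ∈ T, Cfsg.Agent.Lib.Helper84.conjFun H t θ = θ :=
    fun t ht => funext ((hT' t).mp ht)
  have hθ1 : θ 1 ≠ 0 := Cfsg.Agent.Lib.Helper83.irr_degree_ne_zero ⟨θ, hθ⟩
  have hΘ : IsCharacter G (indFun H θ) := Cfsg.Agent.Lib.Helper34.isCharacter_indFun H hθc
  have hdec := Cfsg.Agent.Lib.Helper83.char_eq_sum_irrMult hΘ
  set m : IrrCharacter G → ℕ := fun χ => Cfsg.Agent.Lib.Helper83.irrMult (indFun H θ) χ with hm
  -- the Clifford correspondent of each constituent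
  have key : ∀ χ : IrrCharacter G, m χ ≠ 0 → ∃ ψ : T → ℂ, IsIrrCharacter T ψ ∧
      classInner (Cfsg.Agent.Lib.Helper84.resFun H T hHT ψ) θ ≠ 0 ∧
      ψ 1 = (m χ : ℂ) * θ 1 ∧ (χ : G → ℂ) 1 = (T.index : ℂ) * ψ 1 := by
    intro χ hχ
    have hχcl := Cfsg.Agent.Lib.Helper83.isClassFunction_irr χ
    have hmc : (m χ : ℂ) = classInner θ (fun n : H => (χ : G → ℂ) n) := by
      rw [hm, Cfsg.Agent.Lib.Helper83.irrMult_cast hΘ,
        Cfsg.Agent.Lib.Helper34.classInner_indFun_left H θ _ hχcl]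
    have hconst : classInner (fun n : H => (χ : G → ℂ) n) θ ≠ 0 := by
      rw [← Cfsg.Agent.Lib.Helper83.classInner_conj_symm, ← hmc, Complex.conj_natCast]
      exact_mod_cast hχ
    obtain ⟨ψ, hψ, ⟨f, hf0, hf⟩, hind⟩ :=
      Cfsg.Agent.Lib.Helper85.exists_irr_conjStab hN χ.2 hθ hconst
    have hres : Cfsg.Agent.Lib.Helper84.resFun H T hHT ψ = f • θ := hf
    have hne : classInner (Cfsg.Agent.Lib.Helper84.resFun H T hHT ψ) θ ≠ 0 := by
      rw [hres, Cfsg.Agent.Lib.Helper83.classInner_smul_left,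
        Cfsg.Agent.Lib.Helper83.irr_inner_self ⟨θ, hθ⟩, mul_one]
      exact hf0
    have hM := Cfsg.Agent.Lib.Helper84.classInner_indFun_inertia H T hHT hθ hT' hψ hne
    have hfm : f = (m χ : ℂ) := by
      have h1 : classInner (fun n : H => (χ : G → ℂ) n) θ = f := by
        rw [hind, hM, hres, Cfsg.Agent.Lib.Helper83.classInner_smul_left,
          Cfsg.Agent.Lib.Helper83.irr_inner_self ⟨θ, hθ⟩, mul_one]
      rw [← h1, ← Cfsg.Agent.Lib.Helper83.classInner_conj_symm, ← hmc, Complex.conj_natCast]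
    refine ⟨ψ, hψ, hne, ?_, ?_⟩
    · have := congrFun hres 1
      rw [Cfsg.Agent.Lib.Helper84.resFun_apply] at this
      rw [← hfm]
      exact this
    · rw [hind, Cfsg.Agent.Lib.Helper85.indFun_apply_one]
  -- all multiplicities agree
  have hmeq : ∀ χ χ' : IrrCharacter G, m χ ≠ 0 → m χ' ≠ 0 → m χ = m χ' := by
    intro χ χ' hχ hχ'
    obtain ⟨ψ, hψ, hne, hψ1, -⟩ := key χ hχ
    obtain ⟨ψ', hψ', hne', hψ'1, -⟩ := key χ' hχ'
    have := Cfsg.Agent.Lib.Helper84.degree_eq_of_abelian_section H T hHT hab hθ hstab hψ hψ' hne hne'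
    rw [hψ1, hψ'1] at this
    have h2 := mul_right_cancel₀ hθ1 this
    exact_mod_cast h2.symm
  -- there is a constituent
  have hex : ∃ χ0 : IrrCharacter G, m χ0 ≠ 0 := by
    by_contra hno
    push Not at hno
    have h0 : indFun H θ = 0 := by
      rw [hdec]
      refine Finset.sum_eq_zero fun χ _ => ?_
      have h0' : Cfsg.Agent.Lib.Helper83.irrMult (indFun H θ) χ = 0 := hno χ
      rw [h0', Nat.cast_zero, zero_smul]
    have h1 := congrFun h0 1
    rw [Cfsg.Agent.Lib.Helper85.indFun_apply_one] at h1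
    have hidx : (H.index : ℂ) ≠ 0 := by
      exact_mod_cast (Subgroup.index_ne_zero_of_finite (H := H))
    exact mul_ne_zero hidx hθ1 h1
  obtain ⟨χ0, hχ0⟩ := hex
  set S : Finset (IrrCharacter G) := Finset.univ.filter (fun χ => m χ ≠ 0) with hS
  have hone : m χ0 = 1 := by
    obtain ⟨ψ, hψ, hne, hψ1, -⟩ := key χ0 hχ0
    obtain ⟨ψ₀, hψ₀, hres₀⟩ := hext hHT
    have hres₀' : Cfsg.Agent.Lib.Helper84.resFun H T hHT ψ₀ = θ := funext hres₀
    have hne₀ : classInner (Cfsg.Agent.Lib.Helper84.resFun H T hHT ψ₀) θ ≠ 0 := by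
      rw [hres₀', Cfsg.Agent.Lib.Helper83.irr_inner_self ⟨θ, hθ⟩]
      exact one_ne_zero
    have hdeg := Cfsg.Agent.Lib.Helper84.degree_eq_of_abelian_section H T hHT hab hθ hstab
      hψ₀ hψ hne₀ hne
    have hψ₀1 : ψ₀ 1 = θ 1 := hres₀ 1
    rw [hψ1, hψ₀1] at hdeg
    have h2 : (m χ0 : ℂ) * θ 1 = 1 * θ 1 := by rw [one_mul]; exact hdeg
    have h3 := mul_right_cancel₀ hθ1 h2
    exact_mod_cast h3
  refine ⟨m χ0, S.image Subtype.val, hone, ?_, ?_, ?_, ?_⟩
  · intro χ hχ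
    obtain ⟨χ', -, rfl⟩ := Finset.mem_image.mp hχ
    exact χ'.2
  · -- the count
    have hsum1 : indFun H θ 1 = ∑ χ ∈ S, (m χ0 : ℂ) * ((T.index : ℂ) * ((m χ0 : ℂ) * θ 1)) := by
      conv_lhs => rw [hdec]
      rw [Finset.sum_apply, ← Finset.sum_filter_add_sum_filter_not Finset.univ (fun χ => m χ ≠ 0)]
      have hz : ∑ χ ∈ Finset.univ.filter (fun χ => ¬ m χ ≠ 0),
          ((Cfsg.Agent.Lib.Helper83.irrMult (indFun H θ) χ : ℂ) • (χ : G → ℂ)) 1 = 0 := by
        refine Finset.sum_eq_zero fun χ hχ => ?_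
        have : m χ = 0 := not_not.mp (Finset.mem_filter.mp hχ).2
        simp only [hm] at this
        rw [this, Nat.cast_zero, zero_smul, Pi.zero_apply]
      rw [hz, add_zero]
      refine Finset.sum_congr rfl fun χ hχ => ?_
      have hχm : m χ ≠ 0 := (Finset.mem_filter.mp hχ).2
      obtain ⟨ψ, -, -, hψ1, hχ1⟩ := key χ hχm
      rw [Pi.smul_apply, smul_eq_mul, hχ1, hψ1]
      have : Cfsg.Agent.Lib.Helper83.irrMult (indFun H θ) χ = m χ0 := hmeq χ χ0 hχm hχ0
      rw [this, hmeq χ χ0 hχm hχ0]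
    rw [Cfsg.Agent.Lib.Helper85.indFun_apply_one, Finset.sum_const, nsmul_eq_mul] at hsum1
    have hcardS : (S.image Subtype.val).card = S.card :=
      Finset.card_image_of_injective _ Subtype.val_injective
    rw [hcardS]
    have h2 : (H.index : ℂ) = (S.card : ℂ) * ((m χ0 : ℂ) * ((T.index : ℂ) * (m χ0 : ℂ))) := by
      apply mul_right_cancel₀ hθ1
      rw [hsum1]; ring
    have h3 : H.index = S.card * (m χ0 * (T.index * m χ0)) := by exact_mod_cast h2
    have h4 : H.index * Nat.card H = T.index * Nat.card T := by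
      rw [mul_comm, Subgroup.card_mul_index, mul_comm, Subgroup.card_mul_index]
    rw [h3] at h4
    have hTi : T.index ≠ 0 := Subgroup.index_ne_zero_of_finite
    have h5 : T.index * (m χ0 ^ 2 * S.card * Nat.card H) = T.index * Nat.card T := by
      rw [← h4]; ring
    exact Nat.eq_of_mul_eq_mul_left (Nat.pos_of_ne_zero hTi) h5
  · conv_lhs => rw [hdec]
    rw [Finset.sum_image (fun a _ b _ h => Subtype.val_injective h), Finset.smul_sum,
      ← Finset.sum_filter_add_sum_filter_not Finset.univ (fun χ => m χ ≠ 0)]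
    have hz : ∑ χ ∈ Finset.univ.filter (fun χ => ¬ m χ ≠ 0),
        ((Cfsg.Agent.Lib.Helper83.irrMult (indFun H θ) χ : ℂ) • (χ : G → ℂ)) = 0 := by
      refine Finset.sum_eq_zero fun χ hχ => ?_
      have : m χ = 0 := not_not.mp (Finset.mem_filter.mp hχ).2
      simp only [hm] at this
      rw [this, Nat.cast_zero, zero_smul]
    rw [hz, add_zero]
    refine Finset.sum_congr rfl fun χ hχ => ?_
    have hχm : m χ ≠ 0 := (Finset.mem_filter.mp hχ).2
    have : Cfsg.Agent.Lib.Helper83.irrMult (indFun H θ) χ = m χ0 := hmeq χ χ0 hχm hχ0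
    rw [this]
  · intro χ hχ
    obtain ⟨χ', hχ', rfl⟩ := Finset.mem_image.mp hχ
    have hχm : m χ' ≠ 0 := (Finset.mem_filter.mp hχ').2
    obtain ⟨ψ, -, -, hψ1, hχ1⟩ := key χ' hχm
    rw [hχ1, hψ1, hmeq χ' χ0 hχm hχ0]
    ring


/-- Let H be a normal subgroup of the finite group G and θ an irreducible character of H with inertia group T, where T/H is abelian (commutators of T lie in H) and the index of H in T is coprime to the order of H. Then the function induced from θ is the sum of a set of exactly [T:H] irreducible characters of G, each of degree [G:T] * θ(1). -/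
theorem result {G : Type*} [Group G] [Fintype G] (H T : Subgroup G) [hN : H.Normal] (θ : H → ℂ) (hθ : Cfsg.IsIrrCharacter H θ) (hT : ∀ g : G, g ∈ T ↔ ∀ h : H, θ ⟨g * h * g⁻¹, hN.conj_mem h h.2 g⟩ = θ h) (hab : ∀ x ∈ T, ∀ y ∈ T, x * y * x⁻¹ * y⁻¹ ∈ H) (hcop : Nat.Coprime (Nat.card H) (H.relIndex T)) : ∃ C : Finset (G → ℂ), (∀ χ ∈ C, Cfsg.IsIrrCharacter G χ) ∧ C.card = H.relIndex T ∧ Cfsg.indFun H θ = ∑ χ ∈ C, χ ∧ ∀ χ ∈ C, χ 1 = (T.index : ℂ) * θ 1 := by
  classical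
  have hθc := Cfsg.Agent.Lib.Helper83.isCharacter_of_irr hθ
  have hext : ∀ hHT : H ≤ T, ∃ ψ₀ : T → ℂ, Cfsg.IsIrrCharacter T ψ₀ ∧
      ∀ n : H, ψ₀ ⟨(n : G), hHT n.2⟩ = θ n := by
    intro hHT
    exact Cfsg.Agent.Lib.Helper80.exists_ext_subgroup_of_coprime H T hHT θ hθ
      (fun g hg n => (hT g).mp hg n) hcop
  obtain ⟨e, C, he, hC, hcard, hind, hdeg⟩ := aux H T θ hθ hT hab hext
  subst he
  have hHT : H ≤ T := by
    intro h hh
    rw [hT]
    intro n
    exact Cfsg.Agent.Lib.Helper83.char_conj_eq hθc n ⟨h, hh⟩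
  refine ⟨C, hC, ?_, ?_, ?_⟩
  · have h1 : H.relIndex T * Nat.card H = Nat.card T := by
      have h2 := Subgroup.card_mul_index (H.subgroupOf T)
      have h3 : Nat.card (H.subgroupOf T) = Nat.card H :=
        Nat.card_congr (Subgroup.subgroupOfEquivOfLe hHT).toEquiv
      rw [h3] at h2
      rw [mul_comm]
      exact h2
    rw [one_pow, one_mul] at hcard
    have hH0 : 0 < Nat.card H := Nat.card_pos
    exact Nat.eq_of_mul_eq_mul_right hH0 (hcard.trans h1.symm)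
  · rw [hind]; simp
  · intro χ hχ
    rw [hdeg χ hχ]; simp

end Cfsg.Agent.S1491
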