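import Cfsg.Statements.S1493
import Cfsg.Agent.Lib.Helper80.GaloisChar

set_option autoImplicit false
open Cfsg

namespace Cfsg.Agent.S1493

/-- If the order of G is a*b with a and b coprime, and k is coprime to a, then the Galois automorphism raising a-th roots of unity to their k-th powers and fixing b-th roots of unity carries every character χ of G to a character χ', irreducible if χ is, with χ' g = χ (g ^ k) for elements g of order dividing a and χ' g = χ g for elements g of order coprime to a. -/
theorem result {G : Type*} [Group G] [Finite G] (a b k : ℕ) (hab : Nat.card G = a * b) (hcop : Nat.Coprime a b) (hk : Nat.Coprime k a) (χ : G → ℂ) (hχ : Cfsg.IsCharacter G χ) : ∃ χ' : G → ℂ, Cfsg.IsCharacter G χ' ∧ (Cfsg.IsIrrCharacter G χ → Cfsg.IsIrrCharacter G χ') ∧ (∀ g : G, orderOf g ∣ a → χ' g = χ (g ^ k)) ∧ (∀ g : G, Nat.Coprime (orderOf g) a → χ' g = χ g) := by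
  classical
  letI : Fintype G := Fintype.ofFinite G
  obtain ⟨k', hk'a, hk'b⟩ := Nat.chineseRemainder hcop k 1
  have hcopa : k'.Coprime a := by
    have := (Nat.ModEq.gcd_eq hk'a)
    rw [Nat.Coprime, this]; exact hk
  have hcopb : k'.Coprime b := by
    have := (Nat.ModEq.gcd_eq hk'b)
    rw [Nat.Coprime, this]; simp
  have hcopG : k'.Coprime (Nat.card G) := by
    rw [hab]; exact Nat.Coprime.mul_right hcopa hcopb
  refine ⟨fun g => χ (g ^ k'), Cfsg.Agent.Lib.Helper80.isCharacter_pow_coprime hχ k' hcopG,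
    fun hirr => Cfsg.Agent.Lib.Helper80.isIrrCharacter_pow_coprime hirr k' hcopG, ?_, ?_⟩
  · intro g hg
    show χ (g ^ k') = χ (g ^ k)
    congr 1
    rw [pow_eq_pow_iff_modEq]
    exact hk'a.of_dvd hg
  · intro g hg
    show χ (g ^ k') = χ g
    congr 1
    have hdvd : orderOf g ∣ b := by
      have h1 : orderOf g ∣ a * b := hab ▸ orderOf_dvd_natCard g
      exact (Nat.Coprime.dvd_mul_left hg).1 h1
    have : g ^ k' = g ^ 1 := by
      rw [pow_eq_pow_iff_modEq]
      exact hk'b.of_dvd hdvd
    rw [this, pow_one]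

end Cfsg.Agent.S1493
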