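import Cfsg.Statements.S1494
import Cfsg.Agent.Lib.Helper33.TraceCongr

set_option autoImplicit false
open Cfsg

namespace Cfsg.Agent.S1494

open Cfsg.Agent.Lib.Helper33

theorem char_congr {G : Type*} [Group G] [Finite G] (χ : G → ℂ) (hχ : Cfsg.IsCharacter G χ)
    (p : ℕ) (hp : p.Prime) (x y : G) (hx : orderOf x = p) (hxy : x * y = y * x) {ζ : ℂ}
    (hζ : IsPrimitiveRoot ζ p) :
    ∃ ω : ℂ, IsIntegral ℤ ω ∧ χ (x * y) - χ y = (1 - ζ) * ω := by
  obtain ⟨n, ρ, rfl⟩ := hχ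
  have hf : (ρ x) ^ p = 1 := by
    rw [← map_pow, ← hx, pow_orderOf_eq_one, map_one]
  have hh : (ρ y) ^ (Nat.card G) = 1 := by
    rw [← map_pow, pow_card_eq_one', map_one]
  have hcomm : ρ x * ρ y = ρ y * ρ x := by
    rw [← map_mul, ← map_mul, hxy]
  obtain ⟨ω, hω, h⟩ := trace_mul_sub_trace (ρ x) (ρ y) p (Nat.card G) hp.ne_zero
    Nat.card_pos.ne' hf hh hcomm hζ
  refine ⟨ω, hω, ?_⟩
  rw [← h]
  simp only [Representation.character, map_mul]

/-- Let χ be a generalized character of the finite group G, p a prime, x an element of order p and y an element commuting with x. Then χ(x * y) − χ(y) = (1 − ε) * ω for some algebraic integer ω, where ε = exp(2πi/p). -/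
theorem result {G : Type*} [Group G] [Finite G] (χ : G → ℂ) (hχ : Cfsg.IsGeneralizedCharacter G χ) (p : ℕ) (hp : p.Prime) (x y : G) (hx : orderOf x = p) (hxy : x * y = y * x) : ∃ ω : ℂ, IsIntegral ℤ ω ∧ χ (x * y) - χ y = (1 - Complex.exp (2 * Real.pi * Complex.I / p)) * ω := by
  have hζ : IsPrimitiveRoot (Complex.exp (2 * Real.pi * Complex.I / p)) p :=
    Complex.isPrimitiveRoot_exp p hp.ne_zero
  obtain ⟨χ₁, χ₂, h1, h2, rfl⟩ := hχ
  obtain ⟨ω₁, hω₁, e₁⟩ := char_congr χ₁ h1 p hp x y hx hxy hζ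
  obtain ⟨ω₂, hω₂, e₂⟩ := char_congr χ₂ h2 p hp x y hx hxy hζ
  refine ⟨ω₁ - ω₂, hω₁.sub hω₂, ?_⟩
  simp only [Pi.sub_apply]
  rw [mul_sub, ← e₁, ← e₂]
  ring

end Cfsg.Agent.S1494
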