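import Cfsg.Statements.S1495
import Mathlib

set_option autoImplicit false
open Cfsg

namespace Cfsg.Agent.S1495

/-- An integer that becomes divisible by another integer in the ring of algebraic integers was
already divisible. -/
theorem int_dvd_of_dvd_integralClosure {a b : ℤ} (ha : a ≠ 0)
    (h : ((a : ℤ) : integralClosure ℤ ℂ) ∣ ((b : ℤ) : integralClosure ℤ ℂ)) : a ∣ b := by
  obtain ⟨c, hc⟩ := h
  have hc' : (b : ℂ) = (a : ℂ) * (c : ℂ) := by
    have := congrArg (Subtype.val) hc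
    simpa using this
  have haC : (a : ℂ) ≠ 0 := by exact_mod_cast ha
  have hcval : (c : ℂ) = algebraMap ℚ ℂ ((b : ℚ) / (a : ℚ)) := by
    rw [map_div₀]
    simp only [eq_ratCast, Rat.cast_intCast]
    field_simp
    rw [hc']; ring
  have hint : IsIntegral ℤ (algebraMap ℚ ℂ ((b : ℚ) / (a : ℚ))) := hcval ▸ c.2
  have hint' : IsIntegral ℤ ((b : ℚ) / (a : ℚ)) :=
    (isIntegral_algebraMap_iff (algebraMap ℚ ℂ).injective).mp hint
  obtain ⟨k, hk⟩ := IsIntegrallyClosed.isIntegral_iff.mp hint'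
  refine ⟨k, ?_⟩
  have haQ : (a : ℚ) ≠ 0 := by exact_mod_cast ha
  have : (b : ℚ) = (a : ℚ) * (k : ℚ) := by
    have hk' : (k : ℚ) = (b : ℚ) / (a : ℚ) := by simpa using hk
    rw [hk']; field_simp
  exact_mod_cast this

/-- Let p be a prime, ε = exp(2πi/p), and n an integer such that n = (1 − ε) * ω for some algebraic integer ω. Then p divides n. -/
theorem result (p : ℕ) (hp : p.Prime) (n : ℤ) (ω : ℂ) (hω : IsIntegral ℤ ω) (h : (n : ℂ) = (1 - Complex.exp (2 * Real.pi * Complex.I / p)) * ω) : (p : ℤ) ∣ n := by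
  set ε := Complex.exp (2 * Real.pi * Complex.I / p) with hεdef
  have hε : IsPrimitiveRoot ε p := Complex.isPrimitiveRoot_exp p hp.ne_zero
  have hεint : IsIntegral ℤ ε := hε.isIntegral hp.pos
  let ζ : integralClosure ℤ ℂ := ⟨ε, hεint⟩
  let w : integralClosure ℤ ℂ := ⟨ω, hω⟩
  have hζ : IsPrimitiveRoot ζ p := by
    apply IsPrimitiveRoot.of_map_of_injective (f := (integralClosure ℤ ℂ).val)
    · exact hε
    · exact Subtype.val_injective
  obtain ⟨m, rfl⟩ : ∃ m, p = m + 1 := ⟨p - 1, (Nat.succ_pred_eq_of_pos hp.pos).symm⟩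
  have hprod := hζ.prod_one_sub_pow_eq_order
  -- each factor is associated to `ζ - 1`
  have hfac : ∀ k ∈ Finset.range m, Associated (ζ - 1) (1 - ζ ^ (k + 1)) := by
    intro k hk
    have hk' : k + 1 < m + 1 := by
      have := Finset.mem_range.mp hk
      omega
    have hcop : (k + 1).Coprime (m + 1) :=
      (Nat.coprime_of_lt_prime (Nat.succ_ne_zero k) hk' hp).symm
    have h1 := hζ.associated_sub_one_pow_sub_one_of_coprime hcop
    have h2 : Associated (ζ ^ (k + 1) - 1) (1 - ζ ^ (k + 1)) := by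
      rw [← neg_sub]
      exact (Associated.refl _).neg_left
    exact h1.trans h2
  have hassoc : Associated ((ζ - 1) ^ m) (((m + 1 : ℕ) : integralClosure ℤ ℂ)) := by
    have : Associated (∏ k ∈ Finset.range m, (ζ - 1)) (∏ k ∈ Finset.range m, (1 - ζ ^ (k + 1))) :=
      Associated.prod _ _ _ hfac
    rw [Finset.prod_const, Finset.card_range, hprod] at this
    simpa using this
  have hn : ((n : ℤ) : integralClosure ℤ ℂ) = (1 - ζ) * w := by
    apply Subtype.ext
    simpa using h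
  have hdvd1 : (ζ - 1) ^ m ∣ ((n : ℤ) : integralClosure ℤ ℂ) ^ m := by
    apply pow_dvd_pow_of_dvd
    rw [hn]
    exact ⟨-w, by ring⟩
  have hdvd2 : (((m + 1 : ℕ) : ℤ) : integralClosure ℤ ℂ) ∣ ((n ^ m : ℤ) : integralClosure ℤ ℂ) := by
    have := hassoc.dvd_iff_dvd_left.mp hdvd1
    simpa using this
  have hdvd3 : ((m + 1 : ℕ) : ℤ) ∣ n ^ m :=
    int_dvd_of_dvd_integralClosure (by exact_mod_cast hp.ne_zero) hdvd2
  exact (Nat.prime_iff_prime_int.mp hp).dvd_of_dvd_pow hdvd3

end Cfsg.Agent.S1495
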