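import Cfsg.Statements.S1496
import Cfsg.Agent.Lib.Helper01.SZRel

set_option autoImplicit false
open Cfsg

namespace Cfsg.Agent.S1496

open scoped Pointwise

/-- If `t ∈ H g'` with `g'` normalizing `H`, then `t ^ j ∈ H g' ^ j` for every integer `j`. -/
theorem zpow_mul_inv_mem {G : Type*} [Group G] (H : Subgroup G) (g' : G)
    (hg' : g' ∈ Subgroup.normalizer (H : Set G)) (t : G) (ht : t * g'⁻¹ ∈ H) (j : ℤ) :
    t ^ j * (g' ^ j)⁻¹ ∈ H := by
  have hN : ∀ i : ℤ, ∀ u ∈ H, g' ^ i * u * (g' ^ i)⁻¹ ∈ H := by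
    intro i u hu
    have : g' ^ i ∈ Subgroup.normalizer (H : Set G) := Subgroup.zpow_mem _ hg' i
    exact (Subgroup.mem_normalizer_iff.mp this u).mp hu
  induction j using Int.induction_on with
  | zero => simp
  | succ i ih =>
    have e : t ^ ((i : ℤ) + 1) * (g' ^ ((i : ℤ) + 1))⁻¹ =
        (t ^ (i : ℤ) * (g' ^ (i : ℤ))⁻¹) * (g' ^ (i : ℤ) * (t * g'⁻¹) * (g' ^ (i : ℤ))⁻¹) := by
      rw [zpow_add_one, zpow_add_one]; group
    rw [e]
    exact H.mul_mem ih (hN _ _ ht)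
  | pred i ih =>
    have e : t ^ (-(i : ℤ) - 1) * (g' ^ (-(i : ℤ) - 1))⁻¹ =
        (t ^ (-(i : ℤ)) * (g' ^ (-(i : ℤ)))⁻¹) *
          (g' ^ (-(i : ℤ) - 1) * (t * g'⁻¹)⁻¹ * (g' ^ (-(i : ℤ) - 1))⁻¹) := by
      rw [zpow_sub_one, zpow_sub_one]; group
    rw [e]
    exact H.mul_mem ih (hN _ _ (H.inv_mem ht))

theorem pow_card_eq_one_of_mem {G : Type*} [Group G] (H : Subgroup G) {h : G} (hh : h ∈ H) :
    h ^ Nat.card H = 1 := by
  have h2 : (⟨h, hh⟩ : H) ^ Nat.card H = 1 := pow_card_eq_one'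
  have h3 : (((⟨h, hh⟩ : H) ^ Nat.card H : H) : G) = ((1 : H) : G) := congrArg Subtype.val h2
  rwa [Subgroup.coe_pow, Subgroup.coe_one] at h3

/-- Let H be a subgroup of the finite group G and g an element normalising H whose order is coprime to the order of H. Then for every h ∈ H there are x ∈ H and c ∈ H commuting with g such that x * (h * g) * x⁻¹ = c * g. -/
theorem result {G : Type*} [Group G] [Finite G] (H : Subgroup G) (g : G) (hg : g ∈ Subgroup.normalizer (H : Set G)) (hcop : Nat.Coprime (orderOf g) (Nat.card H)) (h : G) (hh : h ∈ H) : ∃ x ∈ H, ∃ c ∈ H, c * g = g * c ∧ x * (h * g) * x⁻¹ = c * g := by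
  set m := orderOf g with hm
  set n := Nat.card H with hn
  have hZN : Subgroup.zpowers g ≤ Subgroup.normalizer (H : Set G) := (Subgroup.zpowers_le).mpr hg
  have hcardZ : Nat.card (Subgroup.zpowers g) = m := Nat.card_zpowers g
  -- `H ∩ Z = 1`
  have hdisj : H ⊓ Subgroup.zpowers g = ⊥ := by
    apply disjoint_iff.mp
    apply Subgroup.disjoint_of_coprime_natCard
    rw [hcardZ]; exact hcop.symm
  have hHZ : ∀ i : ℤ, g ^ i ∈ H → g ^ i = 1 := by
    intro i hi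
    have : g ^ i ∈ H ⊓ Subgroup.zpowers g := Subgroup.mem_inf.mpr ⟨hi, Subgroup.zpow_mem_zpowers g i⟩
    rwa [hdisj, Subgroup.mem_bot] at this
  -- the group `L = H Z`
  have hcoe := Subgroup.coe_mul_of_right_le_normalizer_left H (Subgroup.zpowers g) hZN
  have hLprod : ∀ l ∈ H ⊔ Subgroup.zpowers g, ∃ u ∈ H, ∃ i : ℤ, l = u * g ^ i := by
    intro l hl
    have hl' : l ∈ (↑(H ⊔ Subgroup.zpowers g) : Set G) := hl
    rw [hcoe] at hl'
    obtain ⟨u, hu, z, hz, rfl⟩ := hl'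
    obtain ⟨i, rfl⟩ := Subgroup.mem_zpowers_iff.mp hz
    exact ⟨u, hu, i, rfl⟩
  have hLN : H ⊔ Subgroup.zpowers g ≤ Subgroup.normalizer (H : Set G) :=
    sup_le Subgroup.le_normalizer hZN
  have hcardL : Nat.card ↥(H ⊔ Subgroup.zpowers g) = Nat.card H * Nat.card (Subgroup.zpowers g) := by
    rw [← Nat.card_prod]
    symm
    refine Nat.card_congr (Equiv.ofBijective
      (fun p : H × Subgroup.zpowers g => (⟨(p.1 : G) * p.2,
        mul_mem (Subgroup.mem_sup_left p.1.2) (Subgroup.mem_sup_right p.2.2)⟩ :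
          ↥(H ⊔ Subgroup.zpowers g))) ⟨?_, ?_⟩)
    · intro p q hpq
      have h1 : (p.1 : G) * p.2 = q.1 * q.2 := congrArg Subtype.val hpq
      exact Subgroup.mul_injective_of_disjoint (disjoint_iff.mpr hdisj) h1
    · rintro ⟨l, hl⟩
      have hl' : l ∈ (↑(H ⊔ Subgroup.zpowers g) : Set G) := hl
      rw [hcoe] at hl'
      obtain ⟨a, ha, b, hb, rfl⟩ := hl'
      exact ⟨(⟨a, ha⟩, ⟨b, hb⟩), rfl⟩
  -- the element `y = h g`
  set y := h * g with hy
  have hyg : y * g⁻¹ ∈ H := by rw [hy, mul_inv_cancel_right]; exact hh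
  have hyj : ∀ j : ℤ, y ^ j * (g ^ j)⁻¹ ∈ H := zpow_mul_inv_mem H g hg y hyg
  have hgm : g ^ (m : ℤ) = 1 := by rw [zpow_natCast, hm]; exact pow_orderOf_eq_one g
  have hym : y ^ (m : ℤ) ∈ H := by
    have := hyj m
    rwa [hgm, inv_one, mul_one] at this
  have hymn : y ^ ((m : ℤ) * (n : ℤ)) = 1 := by
    rw [zpow_mul, zpow_natCast (y ^ (m : ℤ)) n]
    exact pow_card_eq_one_of_mem H hym
  -- Bezout
  have hbez : (1 : ℤ) = (n : ℤ) * Nat.gcdA n m + (m : ℤ) * Nat.gcdB n m := by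
    have := Nat.gcd_eq_gcd_ab n m
    rw [Nat.Coprime.gcd_eq_one hcop.symm] at this
    exact_mod_cast this
  set a := Nat.gcdA n m with ha
  set b := Nat.gcdB n m with hb
  set w := y ^ ((n : ℤ) * a) with hw
  set v := y ^ ((m : ℤ) * b) with hv
  have hwv : w * v = y := by
    rw [hw, hv, ← zpow_add, ← hbez, zpow_one]
  have hvw : v * w = y := by
    rw [hw, hv, ← zpow_add, add_comm, ← hbez, zpow_one]
  have hvH : v ∈ H := by
    rw [hv, zpow_mul]; exact H.zpow_mem hym b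
  have hwm : w ^ (m : ℤ) = 1 := by
    rw [hw, ← zpow_mul, mul_comm ((n : ℤ) * a) (m : ℤ), ← mul_assoc, zpow_mul, hymn, one_zpow]
  have hgna : g ^ ((n : ℤ) * a) = g := by
    have : (n : ℤ) * a = 1 - (m : ℤ) * b := by linarith
    rw [this, zpow_sub, zpow_one, zpow_mul, hgm, one_zpow, inv_one, mul_one]
  have hwg : w * g⁻¹ ∈ H := by
    have := hyj ((n : ℤ) * a)
    rwa [hgna] at this
  have hwj : ∀ j : ℤ, w ^ j * (g ^ j)⁻¹ ∈ H := zpow_mul_inv_mem H g hg w hwg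
  -- the order of `w` is `m`
  have how : orderOf w = m := by
    apply Nat.dvd_antisymm
    · apply orderOf_dvd_of_pow_eq_one
      rw [← zpow_natCast]; exact hwm
    · have h1 := hwj (orderOf w : ℤ)
      rw [zpow_natCast, pow_orderOf_eq_one, one_mul] at h1
      have h2 : g ^ (orderOf w : ℤ) ∈ H := by
        have := H.inv_mem h1
        rwa [inv_inv] at this
      have h3 := hHZ _ h2
      rw [zpow_natCast] at h3
      exact orderOf_dvd_of_pow_eq_one h3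
  -- Schur–Zassenhaus conjugacy inside `L`
  have hwL : w ∈ H ⊔ Subgroup.zpowers g := by
    have : w = (w * g⁻¹) * g := by group
    rw [this]
    exact mul_mem (Subgroup.mem_sup_left hwg) (Subgroup.mem_sup_right (Subgroup.mem_zpowers g))
  obtain ⟨z, hzL, hz⟩ := Cfsg.Agent.Lib.Helper01.sz_conj_in (H ⊔ Subgroup.zpowers g) H
    (Subgroup.zpowers g) (Subgroup.zpowers w) le_sup_left le_sup_right
    ((Subgroup.zpowers_le).mpr hwL) hLN hcardL (by rw [hcardZ]; exact hcop.symm)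
    (by rw [Nat.card_zpowers, how, hcardZ])
    (Or.inr (by
      have : IsMulCommutative (Subgroup.zpowers g) := inferInstance
      infer_instance))
  -- `z g z⁻¹` is a power of `w`, in fact `w`
  have hzg : z * g * z⁻¹ ∈ Subgroup.zpowers w := by
    rw [← hz]
    exact ⟨g, Subgroup.mem_zpowers g, rfl⟩
  obtain ⟨j, hj⟩ := Subgroup.mem_zpowers_iff.mp hzg
  have hzgH : z * g * z⁻¹ * g⁻¹ ∈ H := by
    obtain ⟨u, hu, i, rfl⟩ := hLprod z hzL
    have e : u * g ^ i * g * (u * g ^ i)⁻¹ * g⁻¹ = u * (g * u⁻¹ * g⁻¹) := by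
      have c1 : g ^ i * g = g * g ^ i := (Commute.zpow_self g i).eq
      calc u * g ^ i * g * (u * g ^ i)⁻¹ * g⁻¹ = u * (g ^ i * g) * (g ^ i)⁻¹ * u⁻¹ * g⁻¹ := by group
        _ = u * (g * g ^ i) * (g ^ i)⁻¹ * u⁻¹ * g⁻¹ := by rw [c1]
        _ = u * (g * u⁻¹ * g⁻¹) := by group
    rw [e]
    exact H.mul_mem hu ((Subgroup.mem_normalizer_iff.mp hg u⁻¹).mp (H.inv_mem hu))
  have hwjw : w ^ j = w := by
    have h1 : w ^ j * g⁻¹ ∈ H := by rw [hj]; exact hzgH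
    have h2 := hwj j
    have h3 : g ^ (j - 1) ∈ H := by
      have e : g ^ (j - 1) = (w ^ j * (g ^ j)⁻¹)⁻¹ * (w ^ j * g⁻¹) := by
        rw [zpow_sub_one]; group
      rw [e]
      exact H.mul_mem (H.inv_mem h2) h1
    have h4 := hHZ _ h3
    have h5 : (m : ℤ) ∣ j - 1 := by
      rw [hm]; exact orderOf_dvd_iff_zpow_eq_one.mpr h4
    obtain ⟨k, hk⟩ := h5
    have : j = 1 + (m : ℤ) * k := by linarith
    rw [this, zpow_add, zpow_one, zpow_mul, hwm, one_zpow, mul_one]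
  have hzw : z * g * z⁻¹ = w := by rw [← hj, hwjw]
  -- conjugate back
  obtain ⟨u, hu, i, hzi⟩ := hLprod z hzL
  have hcv : Commute w v := by
    rw [hw, hv]; exact Commute.zpow_zpow_self y _ _
  -- `c₀ = z⁻¹ v z ∈ H` commutes with `g = z⁻¹ w z`
  have hgz : g = z⁻¹ * w * z := by rw [← hzw]; group
  have hc₀H : z⁻¹ * v * z ∈ H := by
    have hzN : z⁻¹ ∈ Subgroup.normalizer (H : Set G) := Subgroup.inv_mem _ (hLN hzL)
    have := (Subgroup.mem_normalizer_iff.mp hzN v).mp hvH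
    rwa [inv_inv] at this
  have hc₀g : (z⁻¹ * v * z) * g = g * (z⁻¹ * v * z) := by
    have e1 : (z⁻¹ * v * z) * g = z⁻¹ * (v * w) * z := by rw [hgz]; group
    have e2 : g * (z⁻¹ * v * z) = z⁻¹ * (w * v) * z := by rw [hgz]; group
    rw [e1, e2, hcv.eq]
  have hzy : z⁻¹ * y * z = (z⁻¹ * v * z) * g := by
    rw [← hvw, hgz]; group
  -- now `z⁻¹ = g ^ (-i) * u⁻¹`
  refine ⟨u⁻¹, H.inv_mem hu, g ^ i * (z⁻¹ * v * z) * (g ^ i)⁻¹, ?_, ?_, ?_⟩
  · have hgi : g ^ i ∈ Subgroup.normalizer (H : Set G) := Subgroup.zpow_mem _ hg i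
    exact (Subgroup.mem_normalizer_iff.mp hgi _).mp hc₀H
  · have c1 : g ^ i * g = g * g ^ i := (Commute.zpow_self g i).eq
    have c2 : (g ^ i)⁻¹ * g = g * (g ^ i)⁻¹ := by
      have : g = (g ^ i) * g * (g ^ i)⁻¹ := by rw [c1]; group
      calc (g ^ i)⁻¹ * g = (g ^ i)⁻¹ * ((g ^ i) * g * (g ^ i)⁻¹) := by rw [← this]
        _ = g * (g ^ i)⁻¹ := by group
    calc g ^ i * (z⁻¹ * v * z) * (g ^ i)⁻¹ * g = g ^ i * (z⁻¹ * v * z) * ((g ^ i)⁻¹ * g) := by group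
      _ = g ^ i * (z⁻¹ * v * z) * (g * (g ^ i)⁻¹) := by rw [c2]
      _ = g ^ i * ((z⁻¹ * v * z) * g) * (g ^ i)⁻¹ := by group
      _ = g ^ i * (g * (z⁻¹ * v * z)) * (g ^ i)⁻¹ := by rw [hc₀g]
      _ = (g ^ i * g) * (z⁻¹ * v * z) * (g ^ i)⁻¹ := by group
      _ = (g * g ^ i) * (z⁻¹ * v * z) * (g ^ i)⁻¹ := by rw [c1]
      _ = g * (g ^ i * (z⁻¹ * v * z) * (g ^ i)⁻¹) := by group
  · have c1 : g ^ i * g = g * g ^ i := (Commute.zpow_self g i).eq
    have e1 : u⁻¹ * y * u⁻¹⁻¹ = g ^ i * (z⁻¹ * y * z) * (g ^ i)⁻¹ := by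
      rw [hzi]; group
    rw [e1, hzy]
    calc g ^ i * (z⁻¹ * v * z * g) * (g ^ i)⁻¹ = g ^ i * (z⁻¹ * v * z) * (g * (g ^ i)⁻¹) := by group
      _ = g ^ i * (z⁻¹ * v * z) * ((g ^ i)⁻¹ * g) := by
          have c2 : (g ^ i)⁻¹ * g = g * (g ^ i)⁻¹ := by
            have : g = (g ^ i) * g * (g ^ i)⁻¹ := by rw [c1]; group
            calc (g ^ i)⁻¹ * g = (g ^ i)⁻¹ * ((g ^ i) * g * (g ^ i)⁻¹) := by rw [← this]
              _ = g * (g ^ i)⁻¹ := by group
          rw [c2]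
      _ = g ^ i * (z⁻¹ * v * z) * (g ^ i)⁻¹ * g := by group

end Cfsg.Agent.S1496
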