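import Cfsg.Statements.S1497

set_option autoImplicit false
open Cfsg

namespace Cfsg.Agent.S1497

/-- Let A be a nonempty subset of the finite group G not containing 1 and L a subgroup. Then A is a TI-subset whose normaliser is L if and only if the Dade hypothesis holds for A, L and the constant choice H(a) = ⊥. -/
theorem result {G : Type*} [Group G] [Finite G] (A : Set G) (hA : A.Nonempty) (h1 : (1 : G) ∉ A) (L : Subgroup G) : (Cfsg.IsTISubset A ∧ Subgroup.normalizer A = L) ↔ Cfsg.DadeHypothesis A L (fun _ => ⊥) := by
  constructor
  · rintro ⟨hTI, hN⟩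
    -- every element of `A` normalises `A`
    have key : ∀ a ∈ A, ∀ g : G, g * a * g⁻¹ ∈ A → g ∈ Subgroup.normalizer A := by
      intro a ha g hg
      by_contra hgn
      exact h1 (hTI g hgn a ha hg ▸ ha)
    refine
      { one_not_mem := h1
        subset := ?_
        conj_mem := ?_
        fusion := ?_
        le_centralizer := fun a _ => bot_le
        conj_mem_H := ?_
        inf_eq_bot := fun a _ => bot_inf_eq _
        sup_eq := ?_
        coprime := ?_ }
    · intro a ha
      have : a ∈ Subgroup.normalizer A := key a ha a (by simpa using ha)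
      rw [hN] at this
      exact this
    · intro x hx a ha
      rw [← hN] at hx
      exact (Subgroup.mem_set_normalizer_iff.mp hx a).mp ha
    · intro a ha g hg
      refine ⟨g, ?_, rfl⟩
      rw [← hN]
      exact key a ha g hg
    · intro a _ c _ u hu
      rw [Subgroup.mem_bot] at hu ⊢
      subst hu
      simp
    · intro a ha
      rw [bot_sup_eq]
      apply le_antisymm inf_le_right
      intro c hc
      refine ⟨?_, hc⟩
      rw [← hN]
      apply key a ha c
      rw [Subgroup.mem_centralizer_iff] at hc
      have h2 : c * a = a * c := (hc a rfl).symm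
      have : c * a * c⁻¹ = a := by rw [h2]; simp
      rw [this]; exact ha
    · intro a _ b _
      simp
  · intro hD
    have hcent : ∀ a ∈ A, Subgroup.centralizer ({a} : Set G) ≤ L := by
      intro a ha
      have := hD.sup_eq a ha
      rw [bot_sup_eq] at this
      intro c hc
      rw [← this] at hc
      exact hc.1
    -- if `g a g⁻¹ ∈ A` with `a ∈ A` then `g ∈ L`
    have key : ∀ a ∈ A, ∀ g : G, g * a * g⁻¹ ∈ A → g ∈ L := by
      intro a ha g hg
      obtain ⟨x, hxL, hx⟩ := hD.fusion a ha g hg
      have hc : x⁻¹ * g ∈ Subgroup.centralizer ({a} : Set G) := by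
        rw [Subgroup.mem_centralizer_iff]
        intro y hy
        rw [Set.mem_singleton_iff] at hy
        subst hy
        have : x⁻¹ * (x * y * x⁻¹) * x = x⁻¹ * (g * y * g⁻¹) * x := by rw [hx]
        have h3 : y = x⁻¹ * g * y * g⁻¹ * x := by
          calc y = x⁻¹ * (x * y * x⁻¹) * x := by group
            _ = x⁻¹ * (g * y * g⁻¹) * x := this
            _ = x⁻¹ * g * y * g⁻¹ * x := by group
        calc y * (x⁻¹ * g) = (x⁻¹ * g * y * g⁻¹ * x) * (x⁻¹ * g) := by rw [← h3]
          _ = x⁻¹ * g * y := by group
      have := L.mul_mem hxL (hcent a ha hc)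
      simpa using this
    have hLN : L ≤ Subgroup.normalizer A := by
      intro x hx
      rw [Subgroup.mem_set_normalizer_iff]
      intro a
      constructor
      · intro ha; exact hD.conj_mem x hx a ha
      · intro ha
        have := hD.conj_mem x⁻¹ (L.inv_mem hx) _ ha
        simpa [mul_assoc] using this
    have hNL : Subgroup.normalizer A ≤ L := by
      intro g hg
      obtain ⟨a, ha⟩ := hA
      exact key a ha g ((Subgroup.mem_set_normalizer_iff.mp hg a).mp ha)
    have hN : Subgroup.normalizer A = L := le_antisymm hNL hLN
    refine ⟨?_, hN⟩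
    intro g hg x hx hgx
    exfalso
    apply hg
    rw [hN]
    exact key x hx g hgx

end Cfsg.Agent.S1497
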