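import Cfsg.Statements.S1499
import Cfsg.Agent.Lib.Helper33.Dade

set_option autoImplicit false
open Cfsg

namespace Cfsg.Agent.S1499

open Cfsg.Agent.Lib.Helper33

/-- Under the Dade hypothesis for (A, L, H), let a, b ∈ A. If an element of the coset a·H(a) is conjugate in G to an element of b·H(b), then a and b are conjugate by an element of L. Moreover the set normaliser of the coset a·H(a) is the centraliser of a. -/
theorem result {G : Type*} [Group G] [Finite G] (A : Set G) (L : Subgroup G) (H : G → Subgroup G) (hD : Cfsg.DadeHypothesis A L H) (a b : G) (ha : a ∈ A) (hb : b ∈ A) : ((∃ u ∈ H a, ∃ v ∈ H b, ∃ g : G, g * (a * u) * g⁻¹ = b * v) → ∃ x ∈ L, x * a * x⁻¹ = b) ∧ Subgroup.normalizer ((fun u : G => a * u) '' (H a : Set G)) = Subgroup.centralizer ({a} : Set G) := by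
  constructor
  · rintro ⟨u, hu, v, hv, g, hg⟩
    have h1 : g * a * g⁻¹ = b := dade_conj_eq hD ha hb hu hv hg
    obtain ⟨x, hxL, hx⟩ := hD.fusion a ha g (h1 ▸ hb)
    exact ⟨x, hxL, hx.trans h1⟩
  · -- conjugating the coset by an element of the centraliser
    have hfwd : ∀ c ∈ Subgroup.centralizer ({a} : Set G), ∀ h ∈ (fun u : G => a * u) '' (H a : Set G),
        c * h * c⁻¹ ∈ (fun u : G => a * u) '' (H a : Set G) := by
      rintro c hc _ ⟨u, hu, rfl⟩
      refine ⟨c * u * c⁻¹, hD.conj_mem_H a ha c hc u hu, ?_⟩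
      rw [Subgroup.mem_centralizer_iff] at hc
      have hca : a * c = c * a := hc a rfl
      change a * (c * u * c⁻¹) = c * (a * u) * c⁻¹
      calc a * (c * u * c⁻¹) = (a * c) * u * c⁻¹ := by group
        _ = (c * a) * u * c⁻¹ := by rw [hca]
        _ = c * (a * u) * c⁻¹ := by group
    apply le_antisymm
    · intro g hg
      rw [Subgroup.mem_set_normalizer_iff] at hg
      have h1 : a ∈ (fun u : G => a * u) '' (H a : Set G) := ⟨1, (H a).one_mem, mul_one a⟩
      obtain ⟨u', hu', hu'eq⟩ := (hg a).mp h1
      have h2 : g * (a * 1) * g⁻¹ = a * u' := by rw [mul_one]; exact hu'eq.symm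
      have h3 : g * a * g⁻¹ = a := dade_conj_eq hD ha ha (H a).one_mem hu' h2
      rw [Subgroup.mem_centralizer_iff]
      intro y hy
      rw [Set.mem_singleton_iff] at hy
      subst hy
      calc y * g = (g * y * g⁻¹) * g := by rw [h3]
        _ = g * y := by group
    · intro c hc
      rw [Subgroup.mem_set_normalizer_iff]
      intro h
      constructor
      · exact hfwd c hc h
      · intro hh
        have := hfwd c⁻¹ (Subgroup.inv_mem _ hc) _ hh
        have e : c⁻¹ * (c * h * c⁻¹) * c⁻¹⁻¹ = h := by group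
        rwa [e] at this

end Cfsg.Agent.S1499
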