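import Cfsg.Statements.S1503
import Cfsg.Agent.Lib.Helper33.DualSum
import Cfsg.Agent.Lib.Helper34.Induction

set_option autoImplicit false
open Cfsg

namespace Cfsg.Agent.S1503

open Cfsg.Agent.Lib.Helper33 Cfsg.Agent.Lib.Helper34
open scoped ComplexConjugate

theorem isClassFunction_of_irr {G : Type*} [Group G] (θ : G → ℂ) (hθ : Cfsg.IsIrrCharacter G θ) :
    Cfsg.IsClassFunction G θ := by
  obtain ⟨n, ρ, _, rfl⟩ := hθ
  intro g h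
  exact ρ.char_conj g h

/-- Let W₁, W₂ ≤ G with W = W₁ ⊔ W₂ and let χ an orthonormal family of irreducible characters of G up to sign, indexed by the linear characters ω of W, with χ_1 = 1, χ_ω = ω on W outside W₁ ∪ W₂, and the induction identity for (1 − φ)(1 − ψ). If θ is an irreducible character of G orthogonal to χ ω for every linear character ω of W, then θ vanishes at every element of W lying outside W₁ ∪ W₂. -/
theorem result {G : Type*} [Group G] [Fintype G] (W₁ W₂ : Subgroup G) (hW : Cfsg.IsSelfNormalizingCyclic W₁ W₂) (χ : (↥(W₁ ⊔ W₂) →* ℂˣ) → (G → ℂ)) (hχ : Cfsg.IsCyclicTIFamily W₁ W₂ χ) (θ : G → ℂ) (hθ : Cfsg.IsIrrCharacter G θ) (horth : ∀ ω, Cfsg.classInner θ (χ ω) = 0) (w : ↥(W₁ ⊔ W₂)) (hw₁ : (w : G) ∉ W₁) (hw₂ : (w : G) ∉ W₂) : θ w = 0 := by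
  classical
  obtain ⟨-, -, hinf, -, hcyc, -⟩ := hW
  have hcomm : ∀ a b : ↥(W₁ ⊔ W₂), a * b = b * a := fun a b =>
    (IsCyclic.commGroup (α := ↥(W₁ ⊔ W₂))).mul_comm a b
  haveI : Fintype ↥(W₁ ⊔ W₂) := Fintype.ofFinite _
  set N₁ : Subgroup ↥(W₁ ⊔ W₂) := W₁.subgroupOf (W₁ ⊔ W₂) with hN₁
  set N₂ : Subgroup ↥(W₁ ⊔ W₂) := W₂.subgroupOf (W₁ ⊔ W₂) with hN₂
  haveI : Finite (↥(W₁ ⊔ W₂) →* ℂˣ) := finite_monoidHom_units hcomm
  haveI : Fintype (annihilator N₂) := Fintype.ofFinite _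
  haveI : Fintype (annihilator N₁) := Fintype.ofFinite _
  have hθcf : Cfsg.IsClassFunction G θ := isClassFunction_of_irr θ hθ
  have horth' : ∀ ω, Cfsg.classInner (χ ω) θ = 0 := by
    intro ω
    rw [← classInner_conj_symm, horth ω, map_zero]
  -- the restriction of `θ` to `W`, conjugated
  set c : ↥(W₁ ⊔ W₂) → ℂ := fun v => conj (θ v) with hc
  -- key vanishing
  have key : ∀ (φ : annihilator N₂) (ψ : annihilator N₁),
      ∑ v : ↥(W₁ ⊔ W₂), (1 - ((φ : ↥(W₁ ⊔ W₂) →* ℂˣ) v : ℂ)) *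
        (1 - ((ψ : ↥(W₁ ⊔ W₂) →* ℂˣ) v : ℂ)) * c v = 0 := by
    intro φ ψ
    by_cases hφ1 : (φ : ↥(W₁ ⊔ W₂) →* ℂˣ) = 1
    · simp [hφ1]
    by_cases hψ1 : (ψ : ↥(W₁ ⊔ W₂) →* ℂˣ) = 1
    · simp [hψ1]
    have hind := hχ.induced_eq φ ψ hφ1 hψ1
      (fun v hv => φ.2 v (Subgroup.mem_subgroupOf.mpr hv))
      (fun v hv => ψ.2 v (Subgroup.mem_subgroupOf.mpr hv))
    have h1 := classInner_indFun_left (W₁ ⊔ W₂)
      (fun v => 1 - ((φ : ↥(W₁ ⊔ W₂) →* ℂˣ) v : ℂ) - ((ψ : ↥(W₁ ⊔ W₂) →* ℂˣ) v : ℂ) +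
        ((φ : ↥(W₁ ⊔ W₂) →* ℂˣ) v : ℂ) * ((ψ : ↥(W₁ ⊔ W₂) →* ℂˣ) v : ℂ)) θ hθcf
    rw [hind] at h1
    have h2 : (fun g => 1 - χ (φ : ↥(W₁ ⊔ W₂) →* ℂˣ) g - χ (ψ : ↥(W₁ ⊔ W₂) →* ℂˣ) g +
        χ ((φ : ↥(W₁ ⊔ W₂) →* ℂˣ) * (ψ : ↥(W₁ ⊔ W₂) →* ℂˣ)) g) =
        χ 1 - χ (φ : ↥(W₁ ⊔ W₂) →* ℂˣ) - χ (ψ : ↥(W₁ ⊔ W₂) →* ℂˣ) +
        χ ((φ : ↥(W₁ ⊔ W₂) →* ℂˣ) * (ψ : ↥(W₁ ⊔ W₂) →* ℂˣ)) := by
      funext g
      simp [hχ.map_one]
    rw [h2, classInner_add_left, classInner_sub_left, classInner_sub_left, horth', horth', horth',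
      horth'] at h1
    simp only [sub_self, add_zero] at h1
    have h3 := h1.symm
    rw [classInner_def] at h3
    have hcard : ((Nat.card ↥(W₁ ⊔ W₂) : ℂ))⁻¹ ≠ 0 := by
      apply inv_ne_zero
      exact_mod_cast Nat.card_pos.ne'
    have h4 := (mul_eq_zero.mp h3).resolve_left hcard
    rw [← h4]
    apply Finset.sum_congr rfl
    intro v _
    simp only [hc]
    ring
  -- the two character sums
  set F : ↥(W₁ ⊔ W₂) → ℂ := fun v => ∑ φ : annihilator N₂,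
    ((φ : ↥(W₁ ⊔ W₂) →* ℂˣ) w⁻¹ : ℂ) * (1 - ((φ : ↥(W₁ ⊔ W₂) →* ℂˣ) v : ℂ)) with hF
  set F' : ↥(W₁ ⊔ W₂) → ℂ := fun v => ∑ ψ : annihilator N₁,
    ((ψ : ↥(W₁ ⊔ W₂) →* ℂˣ) w⁻¹ : ℂ) * (1 - ((ψ : ↥(W₁ ⊔ W₂) →* ℂˣ) v : ℂ)) with hF'
  have hwN₂ : w⁻¹ ∉ N₂ := by
    intro h
    apply hw₂
    have := N₂.inv_mem h
    rw [inv_inv] at this
    exact Subgroup.mem_subgroupOf.mp this
  have hwN₁ : w⁻¹ ∉ N₁ := by
    intro h
    apply hw₁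
    have := N₁.inv_mem h
    rw [inv_inv] at this
    exact Subgroup.mem_subgroupOf.mp this
  have hFeq : ∀ v, F v = - ∑ φ : annihilator N₂, ((φ : ↥(W₁ ⊔ W₂) →* ℂˣ) (w⁻¹ * v) : ℂ) := by
    intro v
    simp only [hF]
    have : ∀ φ : annihilator N₂, ((φ : ↥(W₁ ⊔ W₂) →* ℂˣ) w⁻¹ : ℂ) *
        (1 - ((φ : ↥(W₁ ⊔ W₂) →* ℂˣ) v : ℂ)) =
        ((φ : ↥(W₁ ⊔ W₂) →* ℂˣ) w⁻¹ : ℂ) - ((φ : ↥(W₁ ⊔ W₂) →* ℂˣ) (w⁻¹ * v) : ℂ) := by
      intro φ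
      rw [map_mul, Units.val_mul]; ring
    rw [Finset.sum_congr rfl (fun φ _ => this φ), Finset.sum_sub_distrib,
      sum_annihilator_apply_of_not_mem hcomm N₂ hwN₂, zero_sub]
  have hF'eq : ∀ v, F' v = - ∑ ψ : annihilator N₁, ((ψ : ↥(W₁ ⊔ W₂) →* ℂˣ) (w⁻¹ * v) : ℂ) := by
    intro v
    simp only [hF']
    have : ∀ ψ : annihilator N₁, ((ψ : ↥(W₁ ⊔ W₂) →* ℂˣ) w⁻¹ : ℂ) *
        (1 - ((ψ : ↥(W₁ ⊔ W₂) →* ℂˣ) v : ℂ)) =
        ((ψ : ↥(W₁ ⊔ W₂) →* ℂˣ) w⁻¹ : ℂ) - ((ψ : ↥(W₁ ⊔ W₂) →* ℂˣ) (w⁻¹ * v) : ℂ) := by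
      intro ψ
      rw [map_mul, Units.val_mul]; ring
    rw [Finset.sum_congr rfl (fun ψ _ => this ψ), Finset.sum_sub_distrib,
      sum_annihilator_apply_of_not_mem hcomm N₁ hwN₁, zero_sub]
  -- the total sum vanishes
  have hT : ∑ v : ↥(W₁ ⊔ W₂), F v * F' v * c v = 0 := by
    have : ∀ v : ↥(W₁ ⊔ W₂), F v * F' v * c v =
        ∑ φ : annihilator N₂, ∑ ψ : annihilator N₁,
          ((φ : ↥(W₁ ⊔ W₂) →* ℂˣ) w⁻¹ : ℂ) * ((ψ : ↥(W₁ ⊔ W₂) →* ℂˣ) w⁻¹ : ℂ) *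
          ((1 - ((φ : ↥(W₁ ⊔ W₂) →* ℂˣ) v : ℂ)) * (1 - ((ψ : ↥(W₁ ⊔ W₂) →* ℂˣ) v : ℂ)) * c v) := by
      intro v
      simp only [hF, hF']
      rw [Finset.sum_mul_sum, Finset.sum_mul]
      apply Finset.sum_congr rfl
      intro φ _
      rw [Finset.sum_mul]
      apply Finset.sum_congr rfl
      intro ψ _
      ring
    rw [Finset.sum_congr rfl (fun v _ => this v), Finset.sum_comm]
    apply Finset.sum_eq_zero
    intro φ _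
    rw [Finset.sum_comm]
    apply Finset.sum_eq_zero
    intro ψ _
    rw [← Finset.mul_sum, key φ ψ, mul_zero]
  -- only `v = w` contributes
  have hsingle : ∑ v : ↥(W₁ ⊔ W₂), F v * F' v * c v = F w * F' w * c w := by
    apply Finset.sum_eq_single w
    · intro v _ hvw
      have hnot : ¬ (w⁻¹ * v ∈ N₁ ∧ w⁻¹ * v ∈ N₂) := by
        rintro ⟨h1, h2⟩
        have h1' : ((w⁻¹ * v : ↥(W₁ ⊔ W₂)) : G) ∈ W₁ := Subgroup.mem_subgroupOf.mp h1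
        have h2' : ((w⁻¹ * v : ↥(W₁ ⊔ W₂)) : G) ∈ W₂ := Subgroup.mem_subgroupOf.mp h2
        have : ((w⁻¹ * v : ↥(W₁ ⊔ W₂)) : G) ∈ W₁ ⊓ W₂ := ⟨h1', h2'⟩
        rw [hinf, Subgroup.mem_bot] at this
        apply hvw
        have h3 : w⁻¹ * v = 1 := Subtype.ext this
        calc v = w * (w⁻¹ * v) := by group
          _ = w := by rw [h3, mul_one]
      rcases not_and_or.mp hnot with h | h
      · rw [hF'eq, sum_annihilator_apply_of_not_mem hcomm N₁ h]; simp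
      · rw [hFeq, sum_annihilator_apply_of_not_mem hcomm N₂ h]; simp
    · intro h; exact absurd (Finset.mem_univ w) h
  rw [hsingle] at hT
  have hFw : F w = - (Fintype.card (annihilator N₂) : ℂ) := by
    rw [hFeq, inv_mul_cancel, sum_annihilator_apply_of_mem N₂ (Subgroup.one_mem _)]
  have hF'w : F' w = - (Fintype.card (annihilator N₁) : ℂ) := by
    rw [hF'eq, inv_mul_cancel, sum_annihilator_apply_of_mem N₁ (Subgroup.one_mem _)]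
  have hne2 : (Fintype.card (annihilator N₂) : ℂ) ≠ 0 := by
    exact_mod_cast Fintype.card_ne_zero
  have hne1 : (Fintype.card (annihilator N₁) : ℂ) ≠ 0 := by
    exact_mod_cast Fintype.card_ne_zero
  rw [hFw, hF'w] at hT
  have hcw : c w = 0 := by
    rcases mul_eq_zero.mp hT with h | h
    · rcases mul_eq_zero.mp h with h | h
      · exact absurd (neg_eq_zero.mp h) hne2
      · exact absurd (neg_eq_zero.mp h) hne1
    · exact h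
  simpa [hc] using hcw

end Cfsg.Agent.S1503
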