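import Cfsg.Statements.S1504
-- import your own Cfsg.Agent.* helpers here

set_option autoImplicit false
open Cfsg

namespace Cfsg.Agent.S1504

section
variable {G : Type*} [Group G]

theorem hom_ext_sup (W₁ W₂ : Subgroup G) (ω ω' : ↥(W₁ ⊔ W₂) →* ℂˣ)
    (h₁ : ∀ w : ↥(W₁ ⊔ W₂), (w : G) ∈ W₁ → ω w = ω' w)
    (h₂ : ∀ w : ↥(W₁ ⊔ W₂), (w : G) ∈ W₂ → ω w = ω' w) : ω = ω' := by
  let E : Subgroup ↥(W₁ ⊔ W₂) := (MonoidHom.eqLocus ω ω')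
  have hle : W₁ ⊔ W₂ ≤ E.map (W₁ ⊔ W₂).subtype := by
    apply sup_le
    · intro a ha
      have ha' : a ∈ W₁ ⊔ W₂ := (le_sup_left : W₁ ≤ W₁ ⊔ W₂) ha
      exact ⟨⟨a, ha'⟩, h₁ ⟨a, ha'⟩ ha, rfl⟩
    · intro a ha
      have ha' : a ∈ W₁ ⊔ W₂ := (le_sup_right : W₂ ≤ W₁ ⊔ W₂) ha
      exact ⟨⟨a, ha'⟩, h₂ ⟨a, ha'⟩ ha, rfl⟩
  ext w
  obtain ⟨w', hw', hww'⟩ := hle w.2
  have : w' = w := Subtype.ext hww'
  subst this
  exact congrArg Units.val hw'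

/-- the complex-valued monoid hom attached to a unit-valued one -/
noncomputable def hat {W : Type*} [Group W] (φ : W →* ℂˣ) : W →* ℂ := (Units.coeHom ℂ).comp φ

theorem hat_apply {W : Type*} [Group W] (φ : W →* ℂˣ) (w : W) : hat φ w = (φ w : ℂ) := rfl

theorem hat_inj {W : Type*} [Group W] (φ φ' : W →* ℂˣ) (h : hat φ = hat φ') : φ = φ' := by
  ext w
  have := DFunLike.congr_fun h w
  simpa [hat_apply] using this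

end


/-- Let W₁, W₂ be subgroups of a finite group with W₁ ⊓ W₂ = ⊥ whose elements commute, and W = W₁ ⊔ W₂. For linear characters φ, ψ of W with φ trivial on W₂ and ψ trivial on W₁, the function (1 − φ)(1 − ψ) vanishes on W₁ ∪ W₂; and the family of these functions, indexed by pairs (φ, ψ) with φ ≠ 1 ≠ ψ, is linearly independent over ℂ. -/
theorem result {G : Type*} [Group G] [Finite G] (W₁ W₂ : Subgroup G) (hdisj : W₁ ⊓ W₂ = ⊥) (hcomm : ∀ a ∈ W₁, ∀ b ∈ W₂, a * b = b * a) : (∀ φ ψ : ↥(W₁ ⊔ W₂) →* ℂˣ, (∀ w : ↥(W₁ ⊔ W₂), (w : G) ∈ W₂ → φ w = 1) → (∀ w : ↥(W₁ ⊔ W₂), (w : G) ∈ W₁ → ψ w = 1) → ∀ w : ↥(W₁ ⊔ W₂), ((w : G) ∈ W₁ ∨ (w : G) ∈ W₂) → (1 - (φ w : ℂ) - (ψ w : ℂ) + (φ w : ℂ) * (ψ w : ℂ)) = 0) ∧ LinearIndependent ℂ (fun p : {p : (↥(W₁ ⊔ W₂) →* ℂˣ) × (↥(W₁ ⊔ W₂) →* ℂˣ) // p.1 ≠ 1 ∧ p.2 ≠ 1 ∧ (∀ w : ↥(W₁ ⊔ W₂), (w : G) ∈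 W₂ → p.1 w = 1) ∧ (∀ w : ↥(W₁ ⊔ W₂), (w : G) ∈ W₁ → p.2 w = 1)} => fun w : ↥(W₁ ⊔ W₂) => 1 - (p.1.1 w : ℂ) - (p.1.2 w : ℂ) + (p.1.1 w : ℂ) * (p.1.2 w : ℂ)) := by
  classical
  refine ⟨?_, ?_⟩
  · intro φ ψ hφ hψ w hw
    rcases hw with hw | hw
    · rw [hψ w hw]; simp
    · rw [hφ w hw]; simp
  · rw [linearIndependent_iff]
    intro l hl
    -- the combination of monoid homs
    let m : (↥(W₁ ⊔ W₂) →* ℂ) →₀ ℂ :=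
      l.sum (fun p c => Finsupp.single (hat (1 : ↥(W₁ ⊔ W₂) →* ℂˣ)) c - Finsupp.single (hat p.1.1) c
        - Finsupp.single (hat p.1.2) c + Finsupp.single (hat (p.1.1 * p.1.2)) c)
    have hm : Finsupp.linearCombination ℂ (fun f : ↥(W₁ ⊔ W₂) →* ℂ => (f : ↥(W₁ ⊔ W₂) → ℂ)) m = 0 := by
      rw [← hl]
      simp only [m]
      rw [map_finsuppSum, Finsupp.linearCombination_apply]
      apply Finsupp.sum_congr
      intro p _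
      simp only [map_add, map_sub, Finsupp.linearCombination_single]
      funext w
      simp only [Pi.add_apply, Pi.sub_apply, Pi.smul_apply, smul_eq_mul, hat_apply, MonoidHom.one_apply,
        MonoidHom.mul_apply, Units.val_one, Units.val_mul]
      ring
    have hm0 : m = 0 := (linearIndependent_iff.mp (linearIndependent_monoidHom ↥(W₁ ⊔ W₂) ℂ)) m hm
    ext q
    have hq := DFunLike.congr_fun hm0 (hat (q.1.1 * q.1.2))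
    simp only [m, Finsupp.sum_apply, Finsupp.coe_add, Finsupp.coe_sub, Pi.add_apply, Pi.sub_apply,
      Finsupp.single_apply, Finsupp.coe_zero, Pi.zero_apply] at hq
    -- facts
    have key : ∀ p : {p : (↥(W₁ ⊔ W₂) →* ℂˣ) × (↥(W₁ ⊔ W₂) →* ℂˣ) // p.1 ≠ 1 ∧ p.2 ≠ 1 ∧ (∀ w : ↥(W₁ ⊔ W₂), (w : G) ∈ W₂ → p.1 w = 1) ∧ (∀ w : ↥(W₁ ⊔ W₂), (w : G) ∈ W₁ → p.2 w = 1)}, ∀ ω : ↥(W₁ ⊔ W₂) →* ℂˣ, (∀ w : ↥(W₁ ⊔ W₂), (w : G) ∈ W₂ → ω w = 1) →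
        p.1.1 * p.1.2 ≠ ω := by
      intro p ω hω h
      apply p.2.2.1
      apply hom_ext_sup W₁ W₂
      · intro w hw; rw [p.2.2.2.2 w hw]; rfl
      · intro w hw
        have h1 := DFunLike.congr_fun h w
        rw [MonoidHom.mul_apply, p.2.2.2.1 w hw, hω w hw, one_mul] at h1
        rw [h1]; rfl
    have key' : ∀ p : {p : (↥(W₁ ⊔ W₂) →* ℂˣ) × (↥(W₁ ⊔ W₂) →* ℂˣ) // p.1 ≠ 1 ∧ p.2 ≠ 1 ∧ (∀ w : ↥(W₁ ⊔ W₂), (w : G) ∈ W₂ → p.1 w = 1) ∧ (∀ w : ↥(W₁ ⊔ W₂), (w : G) ∈ W₁ → p.2 w = 1)}, ∀ ω : ↥(W₁ ⊔ W₂) →* ℂˣ, (∀ w : ↥(W₁ ⊔ W₂), (w : G) ∈ W₁ → ω w = 1) →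
        p.1.1 * p.1.2 ≠ ω := by
      intro p ω hω h
      apply p.2.1
      apply hom_ext_sup W₁ W₂
      · intro w hw
        have h1 := DFunLike.congr_fun h w
        rw [MonoidHom.mul_apply, p.2.2.2.2 w hw, hω w hw, mul_one] at h1
        rw [h1]; rfl
      · intro w hw; rw [p.2.2.2.1 w hw]; rfl
    have h1 : ¬ hat (1 : ↥(W₁ ⊔ W₂) →* ℂˣ) = hat (q.1.1 * q.1.2) := by
      intro h
      exact key q 1 (fun _ _ => rfl) (hat_inj _ _ h).symm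
    have h2 : ∀ p : {p : (↥(W₁ ⊔ W₂) →* ℂˣ) × (↥(W₁ ⊔ W₂) →* ℂˣ) // p.1 ≠ 1 ∧ p.2 ≠ 1 ∧ (∀ w : ↥(W₁ ⊔ W₂), (w : G) ∈ W₂ → p.1 w = 1) ∧ (∀ w : ↥(W₁ ⊔ W₂), (w : G) ∈ W₁ → p.2 w = 1)}, ¬ hat p.1.1 = hat (q.1.1 * q.1.2) := by
      intro p h
      exact key q p.1.1 p.2.2.2.1 (hat_inj _ _ h).symm
    have h3 : ∀ p : {p : (↥(W₁ ⊔ W₂) →* ℂˣ) × (↥(W₁ ⊔ W₂) →* ℂˣ) // p.1 ≠ 1 ∧ p.2 ≠ 1 ∧ (∀ w : ↥(W₁ ⊔ W₂), (w : G) ∈ W₂ → p.1 w = 1) ∧ (∀ w : ↥(W₁ ⊔ W₂), (w : G) ∈ W₁ → p.2 w = 1)}, ¬ hat p.1.2 = hat (q.1.1 * q.1.2) := by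
      intro p h
      exact key' q p.1.2 p.2.2.2.2 (hat_inj _ _ h).symm
    have h4 : ∀ p : {p : (↥(W₁ ⊔ W₂) →* ℂˣ) × (↥(W₁ ⊔ W₂) →* ℂˣ) // p.1 ≠ 1 ∧ p.2 ≠ 1 ∧ (∀ w : ↥(W₁ ⊔ W₂), (w : G) ∈ W₂ → p.1 w = 1) ∧ (∀ w : ↥(W₁ ⊔ W₂), (w : G) ∈ W₁ → p.2 w = 1)}, hat (p.1.1 * p.1.2) = hat (q.1.1 * q.1.2) ↔ p = q := by
      intro p
      constructor
      · intro h
        have h' := hat_inj _ _ h
        apply Subtype.ext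
        apply Prod.ext
        · apply hom_ext_sup W₁ W₂
          · intro w hw
            have h1 := DFunLike.congr_fun h' w
            rw [MonoidHom.mul_apply, MonoidHom.mul_apply, p.2.2.2.2 w hw, q.2.2.2.2 w hw, mul_one,
              mul_one] at h1
            exact h1
          · intro w hw
            rw [p.2.2.2.1 w hw, q.2.2.2.1 w hw]
        · apply hom_ext_sup W₁ W₂
          · intro w hw
            rw [p.2.2.2.2 w hw, q.2.2.2.2 w hw]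
          · intro w hw
            have h1 := DFunLike.congr_fun h' w
            rw [MonoidHom.mul_apply, MonoidHom.mul_apply, p.2.2.2.1 w hw, q.2.2.2.1 w hw, one_mul,
              one_mul] at h1
            exact h1
      · rintro rfl; rfl
    simp only [h1, h2, h3, h4, if_false, sub_zero, zero_add] at hq
    rw [Finsupp.sum_ite_eq'] at hq
    simp only [Finsupp.mem_support_iff, ne_eq, ite_not] at hq
    rw [Finsupp.coe_zero, Pi.zero_apply]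
    by_cases h0 : l q = 0
    · exact h0
    · rw [if_neg h0] at hq
      exact hq

end Cfsg.Agent.S1504
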