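import Cfsg.Statements.S1507
-- import your own Cfsg.Agent.* helpers here
import Mathlib
import Cfsg.Agent.Lib.Helper34.CyclicTI
import Cfsg.Agent.Lib.Helper34.CyclicDual
import Cfsg.Agent.S1506

set_option autoImplicit false
open Cfsg

namespace Cfsg.Agent.S1507

open Cfsg.Agent.Lib.Helper34

theorem comb {α β : Type*} [Fintype α] [Fintype β] [DecidableEq α] [DecidableEq β]
    (f : α → ℂ) (g : β → ℂ) (h2 : Fintype.card α + 2 ≤ Fintype.card β)
    (hfew : (Finset.univ.filter (fun p : α × β => f p.1 + g p.2 ≠ 0)).card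
      < 2 * Fintype.card α) :
    (∀ x y, f x + g y = 0) ∨ (∃ y₁ a, ∀ x y, f x + g y = if y = y₁ then a else 0) ∨
      (∃ x₁ a, ∀ x y, f x + g y = if x = x₁ then a else 0) := by
  classical
  set NZ := Finset.univ.filter (fun p : α × β => f p.1 + g p.2 ≠ 0) with hNZ
  have hαpos : 0 < Fintype.card α := by
    rcases Nat.eq_zero_or_pos (Fintype.card α) with h | h
    · rw [h] at hfew; omega
    · exact h
  have hβpos : 0 < Fintype.card β := by omega
  obtain ⟨x₀⟩ : Nonempty α := Fintype.card_pos_iff.mp hαpos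
  obtain ⟨y₀⟩ : Nonempty β := Fintype.card_pos_iff.mp hβpos
  by_cases hf : ∀ x x', f x = f x'
  · -- f constant
    set Y := Finset.univ.filter (fun y : β => f x₀ + g y ≠ 0) with hY
    have hprod : NZ = (Finset.univ : Finset α) ×ˢ Y := by
      ext ⟨x, y⟩
      simp only [hNZ, hY, Finset.mem_filter, Finset.mem_univ, true_and, Finset.mem_product]
      rw [hf x x₀]
    have hcard : NZ.card = Fintype.card α * Y.card := by
      rw [hprod, Finset.card_product, Finset.card_univ]
    rw [hcard] at hfew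
    have hY2 : Y.card < 2 := by
      by_contra h
      push Not at h
      have : Fintype.card α * 2 ≤ Fintype.card α * Y.card := Nat.mul_le_mul_left _ h
      omega
    have hY01 : Y.card = 0 ∨ Y.card = 1 := by omega
    rcases hY01 with h0 | h1
    · left
      intro x y
      rw [hf x x₀]
      have hy : y ∉ Y := by rw [Finset.card_eq_zero.mp h0]; exact Finset.notMem_empty y
      simp only [hY, Finset.mem_filter, Finset.mem_univ, true_and, not_not] at hy
      exact hy
    · right; left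
      obtain ⟨y₁, hy₁⟩ := Finset.card_eq_one.mp h1
      refine ⟨y₁, f x₀ + g y₁, ?_⟩
      intro x y
      rw [hf x x₀]
      split_ifs with h
      · rw [h]
      · have hy : y ∉ Y := by rw [hy₁, Finset.mem_singleton]; exact h
        simp only [hY, Finset.mem_filter, Finset.mem_univ, true_and, not_not] at hy
        exact hy
  by_cases hg : ∀ y y', g y = g y'
  · -- g constant
    set X := Finset.univ.filter (fun x : α => f x + g y₀ ≠ 0) with hX
    have hprod : NZ = X ×ˢ (Finset.univ : Finset β) := by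
      ext ⟨x, y⟩
      simp only [hNZ, hX, Finset.mem_filter, Finset.mem_univ, true_and, Finset.mem_product,
        and_true]
      rw [hg y y₀]
    have hcard : NZ.card = X.card * Fintype.card β := by
      rw [hprod, Finset.card_product, Finset.card_univ]
    rw [hcard] at hfew
    have hX2 : X.card < 2 := by
      by_contra h
      push Not at h
      have : 2 * Fintype.card β ≤ X.card * Fintype.card β := Nat.mul_le_mul_right _ h
      omega
    have hX01 : X.card = 0 ∨ X.card = 1 := by omega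
    rcases hX01 with h0 | h1
    · left
      intro x y
      rw [hg y y₀]
      have hx : x ∉ X := by rw [Finset.card_eq_zero.mp h0]; exact Finset.notMem_empty x
      simp only [hX, Finset.mem_filter, Finset.mem_univ, true_and, not_not] at hx
      exact hx
    · right; right
      obtain ⟨x₁, hx₁⟩ := Finset.card_eq_one.mp h1
      refine ⟨x₁, f x₁ + g y₀, ?_⟩
      intro x y
      rw [hg y y₀]
      split_ifs with h
      · rw [h]
      · have hx : x ∉ X := by rw [hx₁, Finset.mem_singleton]; exact h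
        simp only [hX, Finset.mem_filter, Finset.mem_univ, true_and, not_not] at hx
        exact hx
  · -- neither constant: too many nonzero entries
    exfalso
    push Not at hf hg
    obtain ⟨a₀, a₁, ha⟩ := hf
    obtain ⟨b₀, b₁, hb⟩ := hg
    have ha01 : a₀ ≠ a₁ := fun h => ha (by rw [h])
    set A := (Finset.univ.erase a₀).erase a₁ with hA
    have hAcard : A.card = Fintype.card α - 2 := by
      rw [hA, Finset.card_erase_of_mem, Finset.card_erase_of_mem (Finset.mem_univ a₀),
        Finset.card_univ]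
      · omega
      · exact Finset.mem_erase.mpr ⟨ha01.symm, Finset.mem_univ a₁⟩
    let ι₁ : α → α × β := fun x => (x, if f x + g b₀ ≠ 0 then b₀ else b₁)
    let ι₂ : β → α × β := fun y => (if f a₀ + g y ≠ 0 then a₀ else a₁, y)
    have hι₁ : ∀ x, ι₁ x ∈ NZ := by
      intro x
      simp only [hNZ, ι₁, Finset.mem_filter, Finset.mem_univ, true_and]
      split_ifs with h
      · exact h
      · push Not at h
        intro h'
        apply hb
        have : g b₀ = g b₁ := by
          have e1 : g b₀ = -f x := by linear_combination h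
          have e2 : g b₁ = -f x := by linear_combination h'
          rw [e1, e2]
        exact this
    have hι₂ : ∀ y, ι₂ y ∈ NZ := by
      intro y
      simp only [hNZ, ι₂, Finset.mem_filter, Finset.mem_univ, true_and]
      split_ifs with h
      · exact h
      · push Not at h
        intro h'
        apply ha
        have e1 : f a₀ = -g y := by linear_combination h
        have e2 : f a₁ = -g y := by linear_combination h'
        rw [e1, e2]
    have hι₁inj : Function.Injective ι₁ := by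
      intro x x' h
      exact congrArg Prod.fst h
    have hι₂inj : Function.Injective ι₂ := by
      intro y y' h
      exact congrArg Prod.snd h
    set S₁ := A.image ι₁ with hS₁
    set S₂ := (Finset.univ : Finset β).image ι₂ with hS₂
    have hS₁card : S₁.card = Fintype.card α - 2 := by
      rw [hS₁, Finset.card_image_of_injective _ hι₁inj, hAcard]
    have hS₂card : S₂.card = Fintype.card β := by
      rw [hS₂, Finset.card_image_of_injective _ hι₂inj, Finset.card_univ]
    have hdisj : Disjoint S₁ S₂ := by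
      rw [Finset.disjoint_left]
      intro p hp₁ hp₂
      obtain ⟨x, hx, rfl⟩ := Finset.mem_image.mp hp₁
      obtain ⟨y, _, hy⟩ := Finset.mem_image.mp hp₂
      have h1 : (ι₂ y).1 = x := congrArg Prod.fst hy
      simp only [hA, Finset.mem_erase, Finset.mem_univ, and_true] at hx
      simp only [ι₂] at h1
      split_ifs at h1 with h
      · exact hx.2 h1.symm
      · exact hx.1 h1.symm
    have hsub : S₁ ∪ S₂ ⊆ NZ := by
      intro p hp
      rcases Finset.mem_union.mp hp with h | h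
      · obtain ⟨x, _, rfl⟩ := Finset.mem_image.mp h
        exact hι₁ x
      · obtain ⟨y, _, rfl⟩ := Finset.mem_image.mp h
        exact hι₂ y
    have hle := Finset.card_le_card hsub
    rw [Finset.card_union_of_disjoint hdisj, hS₁card, hS₂card] at hle
    have hα2 : 2 ≤ Fintype.card α := by
      have : ({a₀, a₁} : Finset α).card ≤ Fintype.card α := Finset.card_le_univ _
      rw [Finset.card_pair ha01] at this
      exact this
    omega

open Classical in
/-- Let W₁, W₂ ≤ G form a self-normalising cyclic subgroup W = W₁ ⊔ W₂ of odd order with Nat.card W₁ < Nat.card W₂, and χ an orthonormal family of irreducible characters of G up to sign, indexed by the linear characters ω of W, with χ_1 = 1, χ_ω = ω on W outside W₁ ∪ W₂, and the induction identity for (1 − φ)(1 − ψ). Let θ be a class function of G vanishing on W outside W₁ ∪ W₂, and suppose fewer than 2 · Nat.card W₁ linear characters ω of W have ⟨θ, χ ω⟩ ≠ 0. Then one of: all ⟨θ, χ ω⟩ vanish; or there are ψ₀ and a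 with ⟨θ, χ ω⟩ = a when ω ψ₀⁻¹ is trivial on W₂ and 0 otherwise; or there are φ₀ and a with ⟨θ, χ ω⟩ = a when ω φ₀⁻¹ is trivial on W₁ and 0 otherwise. -/
theorem result {G : Type*} [Group G] [Fintype G] (W₁ W₂ : Subgroup G) (hW : Cfsg.IsSelfNormalizingCyclic W₁ W₂) (hodd : Odd (Nat.card ↥(W₁ ⊔ W₂))) (χ : (↥(W₁ ⊔ W₂) →* ℂˣ) → (G → ℂ)) (hχ : Cfsg.IsCyclicTIFamily W₁ W₂ χ) (hlt : Nat.card W₁ < Nat.card W₂) (θ : G → ℂ) (hθ : Cfsg.IsClassFunction G θ) (hθV : ∀ w : ↥(W₁ ⊔ W₂), (w : G) ∉ W₁ → (w : G) ∉ W₂ → θ w = 0) (hfew : Nat.card {ω : ↥(W₁ ⊔ W₂) →* ℂˣ // Cfsg.classInner θ (χ ω) ≠ 0} < 2 * Nat.card W₁) : (∀ ω, Cfsg.classInner θ (χ ω) = 0) ∨ (∃ (ψ₀ : ↥(W₁ ⊔ W₂) →* ℂˣ) (a : ℂ), ∀ ω, Cfsg.classInner θ (χ ω) = if (∀ w : ↥(W₁ ⊔ W₂), (w : G) ∈ W₂ → (ω * ψ₀⁻¹) w = 1) then a else 0) ∨ (∃ (φ₀ : ↥(W₁ ⊔ W₂) →* ℂˣ) (a : ℂ), ∀ ω, Cfsg.classInner θ (χ ω) = if (∀ w : ↥(W₁ ⊔ W₂), (w : G) ∈ W₁ → (ω * φ₀⁻¹) w = 1) then a else 0) := by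
  classical
  obtain ⟨hW₁ne, hW₂ne, hdisj, hcomm, hcyc, hnorm⟩ := hW
  set J := joinEquiv W₁ W₂ hcomm hdisj with hJ
  letI : Fintype (↥W₁ →* ℂˣ) := Fintype.ofFinite _
  letI : Fintype (↥W₂ →* ℂˣ) := Fintype.ofFinite _
  have hJapp : ∀ x y, J (x, y) = joinChar W₁ W₂ hcomm hdisj x y := fun x y => rfl
  -- cardinalities
  have hc₁ : Fintype.card (↥W₁ →* ℂˣ) = Nat.card W₁ := by
    rw [← Nat.card_eq_fintype_card]
    exact card_linChar_of_comm W₁
      (fun a ha b hb => comm_of_isCyclic _ hcyc (Subgroup.mem_sup_left ha) (Subgroup.mem_sup_left hb))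
  have hc₂ : Fintype.card (↥W₂ →* ℂˣ) = Nat.card W₂ := by
    rw [← Nat.card_eq_fintype_card]
    exact card_linChar_of_comm W₂
      (fun a ha b hb => comm_of_isCyclic _ hcyc (Subgroup.mem_sup_right ha)
        (Subgroup.mem_sup_right hb))
  have hodd₁ : Odd (Nat.card W₁) := by
    have hdvd : Nat.card W₁ ∣ Nat.card ↥(W₁ ⊔ W₂) := Subgroup.card_dvd_of_le le_sup_left
    exact Odd.of_dvd_nat hodd hdvd
  have hodd₂ : Odd (Nat.card W₂) := by
    have hdvd : Nat.card W₂ ∣ Nat.card ↥(W₁ ⊔ W₂) := Subgroup.card_dvd_of_le le_sup_right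
    exact Odd.of_dvd_nat hodd hdvd
  have h2 : Nat.card W₁ + 2 ≤ Nat.card W₂ := by
    obtain ⟨k, hk⟩ := hodd₁
    obtain ⟨l, hl⟩ := hodd₂
    omega
  -- f and g
  set a : (↥(W₁ ⊔ W₂) →* ℂˣ) → ℂ := fun ω => Cfsg.classInner θ (χ ω) with ha
  set f : (↥W₁ →* ℂˣ) → ℂ := fun x => a (J (x, 1)) - a 1 with hf
  set g : (↥W₂ →* ℂˣ) → ℂ := fun y => a (J (1, y)) with hg
  have hfg : ∀ x y, a (J (x, y)) = f x + g y := by
    intro x y
    have hkey := Cfsg.Agent.S1506.key W₁ W₂ χ hχ θ hθ hθV (J (x, 1)) (J (1, y))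
      (fun w hw => by rw [hJapp, joinChar_apply_right W₁ W₂ hcomm hdisj x 1 w hw]; rfl)
      (fun w hw => by rw [hJapp, joinChar_apply_left W₁ W₂ hcomm hdisj 1 y w hw]; rfl)
    have hmul : J (x, y) = J (x, 1) * J (1, y) := by
      rw [hJapp, hJapp, hJapp]
      exact joinChar_mul W₁ W₂ hcomm hdisj x y
    simp only [ha, hf, hg]
    rw [hmul, hkey]
    ring
  have hcount : (Finset.univ.filter
      (fun p : (↥W₁ →* ℂˣ) × (↥W₂ →* ℂˣ) => f p.1 + g p.2 ≠ 0)).card =
      Nat.card {ω : ↥(W₁ ⊔ W₂) →* ℂˣ // Cfsg.classInner θ (χ ω) ≠ 0} := by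
    have e : {p : (↥W₁ →* ℂˣ) × (↥W₂ →* ℂˣ) // f p.1 + g p.2 ≠ 0} ≃
        {ω : ↥(W₁ ⊔ W₂) →* ℂˣ // Cfsg.classInner θ (χ ω) ≠ 0} :=
      J.subtypeEquiv (fun p => by
        rw [← hfg p.1 p.2])
    rw [← Nat.card_congr e, Nat.card_eq_fintype_card, Fintype.card_subtype]
  have hcomb := comb f g (by rw [hc₁, hc₂]; exact h2) (by rw [hcount, hc₁]; exact hfew)
  have hω : ∀ ω : ↥(W₁ ⊔ W₂) →* ℂˣ, ω = J ((J.symm ω).1, (J.symm ω).2) := by
    intro ω
    exact (J.apply_symm_apply ω).symm
  rcases hcomb with h | ⟨y₁, c, h⟩ | ⟨x₁, c, h⟩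
  · left
    intro ω
    have := hfg (J.symm ω).1 (J.symm ω).2
    rw [← hω ω] at this
    simp only [ha] at this
    rw [this, h]
  · right; left
    refine ⟨J (1, y₁), c, ?_⟩
    intro ω
    have h3 := hfg (J.symm ω).1 (J.symm ω).2
    rw [← hω ω] at h3
    simp only [ha] at h3
    rw [h3, h]
    have hiff : ((J.symm ω).2 = y₁) ↔
        (∀ w : ↥(W₁ ⊔ W₂), (w : G) ∈ W₂ → (ω * (J (1, y₁))⁻¹) w = 1) := by
      constructor
      · intro hy w hw
        rw [MonoidHom.mul_apply, MonoidHom.inv_apply, hJapp,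
          joinChar_apply_right W₁ W₂ hcomm hdisj 1 y₁ w hw]
        conv_lhs => rw [hω ω]
        rw [hJapp, joinChar_apply_right W₁ W₂ hcomm hdisj _ _ w hw, hy, mul_inv_cancel]
      · intro hall
        ext b
        have hb : ((⟨(b : G), Subgroup.mem_sup_right b.2⟩ : ↥(W₁ ⊔ W₂)) : G) ∈ W₂ := b.2
        have h4 := hall ⟨(b : G), Subgroup.mem_sup_right b.2⟩ hb
        rw [MonoidHom.mul_apply, MonoidHom.inv_apply, hJapp,
          joinChar_apply_right W₁ W₂ hcomm hdisj 1 y₁ _ hb] at h4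
        have h5 : ω ⟨(b : G), Subgroup.mem_sup_right b.2⟩ = (J.symm ω).2 b := by
          conv_lhs => rw [hω ω]
          rw [hJapp, joinChar_apply_right W₁ W₂ hcomm hdisj _ _ _ hb]
        rw [h5] at h4
        have h6 := mul_inv_eq_one.mp h4
        exact congrArg Units.val h6
    by_cases hy : (J.symm ω).2 = y₁
    · rw [if_pos hy, if_pos (hiff.mp hy)]
    · rw [if_neg hy, if_neg (fun hh => hy (hiff.mpr hh))]
  · right; right
    refine ⟨J (x₁, 1), c, ?_⟩
    intro ω
    have h3 := hfg (J.symm ω).1 (J.symm ω).2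
    rw [← hω ω] at h3
    simp only [ha] at h3
    rw [h3, h]
    have hiff : ((J.symm ω).1 = x₁) ↔
        (∀ w : ↥(W₁ ⊔ W₂), (w : G) ∈ W₁ → (ω * (J (x₁, 1))⁻¹) w = 1) := by
      constructor
      · intro hx w hw
        rw [MonoidHom.mul_apply, MonoidHom.inv_apply, hJapp,
          joinChar_apply_left W₁ W₂ hcomm hdisj x₁ 1 w hw]
        conv_lhs => rw [hω ω]
        rw [hJapp, joinChar_apply_left W₁ W₂ hcomm hdisj _ _ w hw, hx, mul_inv_cancel]
      · intro hall
        ext b
        have hb : ((⟨(b : G), Subgroup.mem_sup_left b.2⟩ : ↥(W₁ ⊔ W₂)) : G) ∈ W₁ := b.2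
        have h4 := hall ⟨(b : G), Subgroup.mem_sup_left b.2⟩ hb
        rw [MonoidHom.mul_apply, MonoidHom.inv_apply, hJapp,
          joinChar_apply_left W₁ W₂ hcomm hdisj x₁ 1 _ hb] at h4
        have h5 : ω ⟨(b : G), Subgroup.mem_sup_left b.2⟩ = (J.symm ω).1 b := by
          conv_lhs => rw [hω ω]
          rw [hJapp, joinChar_apply_left W₁ W₂ hcomm hdisj _ _ _ hb]
        rw [h5] at h4
        have h6 := mul_inv_eq_one.mp h4
        exact congrArg Units.val h6
    by_cases hx : (J.symm ω).1 = x₁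
    · rw [if_pos hx, if_pos (hiff.mp hx)]
    · rw [if_neg hx, if_neg (fun hh => hx (hiff.mpr hh))]

end Cfsg.Agent.S1507
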