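import Cfsg.Statements.S1508
-- import your own Cfsg.Agent.* helpers here
import Cfsg.Agent.Lib.Helper34.CyclicTIUnique
import Cfsg.Agent.Lib.Helper34.CyclicTIGalois
import Cfsg.Agent.Lib.Helper05.CharValues
import Cfsg.Agent.Lib.Helper80.GaloisValues
import Cfsg.Agent.Lib.Helper82.CharBasic
import Cfsg.Agent.Lib.Helper82.CharSchur

set_option autoImplicit false
open Cfsg

namespace Cfsg.Agent.S1508
section Aux

open Cfsg.Agent.Lib.Helper34

/-- lifting a residue prescribed modulo two coprime divisors of `N` to a unit modulo `N` -/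
theorem exists_coprime_lift (N a m j : ℕ) (hN : 0 < N) (ha : a ∣ N) (hm : m ∣ N)
    (ham : a.Coprime m) (hj : j.Coprime a) :
    ∃ k : ℕ, k.Coprime N ∧ k ≡ j [MOD a] ∧ k ≡ 1 [MOD m] := by
  haveI : NeZero N := ⟨hN.ne'⟩
  obtain ⟨c, hca, hcm⟩ := Nat.chineseRemainder ham j 1
  have hdvd : a * m ∣ N := ham.mul_dvd_of_dvd_of_dvd ha hm
  have hcop : c.Coprime (a * m) := by
    apply Nat.Coprime.mul_right
    · have h1 : Nat.gcd c a = Nat.gcd j a := hca.gcd_eq
      rw [Nat.Coprime, h1]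
      exact hj
    · have h1 : Nat.gcd c m = Nat.gcd 1 m := hcm.gcd_eq
      rw [Nat.Coprime, h1]
      exact Nat.gcd_one_left m
  obtain ⟨v, hv⟩ := ZMod.unitsMap_surjective hdvd (ZMod.unitOfCoprime c hcop)
  refine ⟨(v : ZMod N).val, ZMod.val_coe_unit_coprime v, ?_, ?_⟩
  all_goals
    have h2 : (((v : ZMod N).val : ℕ) : ZMod (a * m)) = (c : ZMod (a * m)) := by
      have h3 := congrArg (fun u : (ZMod (a * m))ˣ => (u : ZMod (a * m))) hv
      simp only [ZMod.unitsMap, Units.coe_map, MonoidHom.coe_coe, ZMod.coe_unitOfCoprime] at h3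
      rw [← h3]
      conv_rhs => rw [← ZMod.natCast_zmod_val (v : ZMod N)]
      rw [map_natCast]
    have h4 : (v : ZMod N).val ≡ c [MOD a * m] := (ZMod.natCast_eq_natCast_iff _ _ _).1 h2
  · exact (h4.of_dvd (Dvd.intro _ rfl)).trans hca
  · exact (h4.of_dvd (Dvd.intro_left _ rfl)).trans hcm

variable {G : Type*} [Group G] [Fintype G]

/-- Galois stability of the family: `χ_ω (x ^ k) = χ_ω x` for `k` prime to `|G|` and congruent to
`1` modulo the order of `ω`. -/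
theorem apply_pow_eq (W₁ W₂ : Subgroup G) (hW : Cfsg.IsSelfNormalizingCyclic W₁ W₂)
    (hodd : Odd (Nat.card ↥(W₁ ⊔ W₂))) (χ : (↥(W₁ ⊔ W₂) →* ℂˣ) → (G → ℂ))
    (hχ : Cfsg.IsCyclicTIFamily W₁ W₂ χ) (ω : ↥(W₁ ⊔ W₂) →* ℂˣ) (k : ℕ)
    (hk : k.Coprime (Nat.card G)) (hk1 : k ≡ 1 [MOD orderOf ω]) (x : G) :
    χ ω (x ^ k) = χ ω x := by
  classical
  set n := Nat.card ↥(W₁ ⊔ W₂) with hn
  have hnpos : 0 < n := Nat.card_pos
  haveI : NeZero n := ⟨hnpos.ne'⟩
  have hndvd : n ∣ Nat.card G := Subgroup.card_subgroup_dvd_card _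
  have hkn : k.Coprime n := Nat.Coprime.coprime_dvd_right hndvd hk
  -- an inverse of `k` modulo `n`
  obtain ⟨l, hl⟩ : ∃ l : ℕ, k * l ≡ 1 [MOD n] := by
    refine ⟨((ZMod.unitOfCoprime k hkn)⁻¹ : (ZMod n)ˣ).val.val, ?_⟩
    rw [← ZMod.natCast_eq_natCast_iff]
    push_cast
    rw [ZMod.natCast_zmod_val]
    have := (ZMod.unitOfCoprime k hkn).mul_inv
    rw [ZMod.coe_unitOfCoprime] at this
    exact this
  have hfam := twist_isCyclicTIFamily W₁ W₂ χ hχ k l hk hl
  have huniq := cyclicTIFamily_unique W₁ W₂ hW hodd χ _ hχ hfam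
  have h1 : χ (ω ^ l) (x ^ k) = χ ω x := congrFun (congrFun huniq ω) x
  -- `ω ^ l = ω`
  have hωn : ω ^ n = 1 := by
    ext w
    rw [MonoidHom.pow_apply, ← map_pow, pow_card_eq_one', map_one, MonoidHom.one_apply]
  have hdvd : orderOf ω ∣ n := orderOf_dvd_of_pow_eq_one hωn
  have hl1 : l ≡ 1 [MOD orderOf ω] := by
    have h2 : k * l ≡ 1 [MOD orderOf ω] := hl.of_dvd hdvd
    have h3 : k * l ≡ 1 * l [MOD orderOf ω] := Nat.ModEq.mul_right l hk1
    rw [one_mul] at h3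
    exact h3.symm.trans h2
  have hωl : ω ^ l = ω := by
    ext w
    rw [MonoidHom.pow_apply]
    have hw : orderOf (ω w) ∣ orderOf ω := by
      apply orderOf_dvd_of_pow_eq_one
      rw [← MonoidHom.pow_apply, pow_orderOf_eq_one, MonoidHom.one_apply]
    have : (ω w) ^ l = (ω w) ^ 1 := pow_eq_pow_iff_modEq.2 (hl1.of_dvd hw)
    rw [this, pow_one]
  rw [hωl] at h1
  exact h1

/-- a character fixed by enough power maps takes a rational integer value -/
theorem int_of_pow_invariant {ψ : G → ℂ} (hψ : Cfsg.IsCharacter G ψ) (g : G)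
    (hinv : ∀ j : ℕ, j.Coprime (orderOf g) → ψ (g ^ j) = ψ g) : ∃ z : ℤ, ψ g = z := by
  obtain ⟨d, ρ, hρ⟩ := hψ
  have hfin : IsOfFinOrder g := isOfFinOrder_of_finite g
  obtain ⟨b, μ, hμ, -, hpow, -⟩ := Cfsg.Agent.Lib.Helper05.exists_eigenvalues ρ g hfin
  have h1 : ψ g = ∑ i, μ i := by
    have := hpow 1
    rw [pow_one, hρ] at this
    rw [this]
    simp
  obtain ⟨q, hq⟩ := Cfsg.Agent.Lib.Helper80.exists_rat_of_pow_invariant (orderOf g)
    (orderOf_pos g) μ hμ (by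
      intro j hj
      rw [← hpow j, hρ, hinv j hj, h1])
  have hint : IsIntegral ℤ (ψ g) :=
    Cfsg.Agent.Lib.Helper82.IsCharacter.isIntegral ⟨d, ρ, hρ⟩ g
  rw [h1, hq] at hint
  obtain ⟨z, hz⟩ := Cfsg.Agent.Lib.Helper82.exists_int_of_isIntegral_ratCast hint
  refine ⟨z, ?_⟩
  rw [h1, hq, hz]
  simp

end Aux

/-- Let W₁, W₂ ≤ G form a self-normalising cyclic subgroup W = W₁ ⊔ W₂ of odd order and χ an orthonormal family of irreducible characters of G up to sign, indexed by the linear characters ω of W, with χ_1 = 1, χ_ω = ω on W outside W₁ ∪ W₂, and the induction identity for (1 − φ)(1 − ψ). Let ω be a linear character of W and g an element of G whose order is coprime to the order of ω. Then χ ω g is an integer. -/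
theorem result {G : Type*} [Group G] [Fintype G] (W₁ W₂ : Subgroup G) (hW : Cfsg.IsSelfNormalizingCyclic W₁ W₂) (hodd : Odd (Nat.card ↥(W₁ ⊔ W₂))) (χ : (↥(W₁ ⊔ W₂) →* ℂˣ) → (G → ℂ)) (hχ : Cfsg.IsCyclicTIFamily W₁ W₂ χ) (ω : ↥(W₁ ⊔ W₂) →* ℂˣ) (g : G) (hg : Nat.Coprime (orderOf g) (orderOf ω)) : ∃ n : ℤ, χ ω g = n := by
  classical
  -- the power-map invariance of `χ ω` at `g`
  have hinv : ∀ j : ℕ, j.Coprime (orderOf g) → χ ω (g ^ j) = χ ω g := by
    intro j hj
    have hωpos : 0 < orderOf ω := by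
      apply orderOf_pos_iff.2
      exact isOfFinOrder_of_finite ω
    have hωdvd : orderOf ω ∣ Nat.card G := by
      have hωn : ω ^ Nat.card ↥(W₁ ⊔ W₂) = 1 := by
        ext w
        rw [MonoidHom.pow_apply, ← map_pow, pow_card_eq_one', map_one, MonoidHom.one_apply]
      exact (orderOf_dvd_of_pow_eq_one hωn).trans (Subgroup.card_subgroup_dvd_card _)
    obtain ⟨k, hkN, hkj, hk1⟩ := exists_coprime_lift (Nat.card G) (orderOf g) (orderOf ω) j
      Nat.card_pos (orderOf_dvd_natCard g) hωdvd hg hj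
    have h1 := apply_pow_eq W₁ W₂ hW hodd χ hχ ω k hkN hk1 g
    have h2 : g ^ k = g ^ j := by
      rw [pow_eq_pow_iff_modEq]
      exact hkj
    rw [h2] at h1
    exact h1
  rcases hχ.irr_or_neg ω with h | h
  · obtain ⟨n, ρ, -, hρ⟩ := h
    exact int_of_pow_invariant ⟨n, ρ, hρ⟩ g hinv
  · obtain ⟨n, ρ, -, hρ⟩ := h
    obtain ⟨z, hz⟩ := int_of_pow_invariant (ψ := -χ ω) ⟨n, ρ, hρ⟩ g (by
      intro j hj
      simp only [Pi.neg_apply]
      rw [hinv j hj])
    refine ⟨-z, ?_⟩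
    simp only [Pi.neg_apply] at hz
    push_cast
    rw [← hz, neg_neg]

end Cfsg.Agent.S1508
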