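import Cfsg.Statements.S1509
-- import your own Cfsg.Agent.* helpers here
import Cfsg.Agent.Lib.Helper05.CharDecomp
import Cfsg.Agent.Lib.Helper34.Induction

set_option autoImplicit false
open Cfsg

namespace Cfsg.Agent.S1509

open Cfsg.Agent.Lib.Helper34
open Cfsg.Agent.Lib.Helper05 (classInner_irr exists_pos_degree)

theorem arith (u v a b c d da db : ℝ) (hv : v ≠ 0)
    (ha : a = 1 ∨ a = -1) (hb : b = 1 ∨ b = -1) (hd : d = 1 ∨ d = -1)
    (hda : 0 < da)
    (e1 : u * a * c + v * b * d = 0) (e2 : a * da = b * db) (e3 : u * c * da = v * d * db) :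
    False := by
  have ha2 : a * a = 1 := by rcases ha with rfl | rfl <;> norm_num
  have hb2 : b * b = 1 := by rcases hb with rfl | rfl <;> norm_num
  have hd2 : d * d = 1 := by rcases hd with rfl | rfl <;> norm_num
  have h_db : db = a * b * da := by linear_combination (-b) * e2 - db * hb2
  have h4 : da * (u * c - v * a * b * d) = 0 := by
    rw [h_db] at e3
    linear_combination e3
  have h5 : u * c - v * a * b * d = 0 := (mul_eq_zero.mp h4).resolve_left hda.ne'
  have h6 : u * c + v * a * b * d = 0 := by linear_combination a * e1 - u * c * ha2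
  have h7 : v * (a * b * d) = 0 := by linear_combination (h6 - h5) / 2
  have h8 : a * b * d ≠ 0 := by
    intro h0
    have : (a * b * d) * (a * b * d) = 1 := by
      calc (a * b * d) * (a * b * d) = (a * a) * (b * b) * (d * d) := by ring
        _ = 1 := by rw [ha2, hb2, hd2]; norm_num
    rw [h0] at this
    norm_num at this
  rcases mul_eq_zero.mp h7 with h | h
  · exact hv h
  · exact h8 h

theorem signed_decomp {X : Type*} [Group X] (α : X → ℂ)
    (h : Cfsg.IsIrrCharacter X α ∨ Cfsg.IsIrrCharacter X (-α)) :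
    ∃ (χ : X → ℂ) (a : ℝ), Cfsg.IsIrrCharacter X χ ∧ (a = 1 ∨ a = -1) ∧ α = (a : ℂ) • χ := by
  rcases h with h | h
  · exact ⟨α, 1, h, Or.inl rfl, by simp⟩
  · exact ⟨-α, -1, h, Or.inr rfl, by simp⟩

open Classical in
theorem inner_signed {X : Type*} [Group X] [Fintype X] (χ χ' : X → ℂ) (a c : ℝ)
    (hχ : Cfsg.IsIrrCharacter X χ) (hχ' : Cfsg.IsIrrCharacter X χ') :
    Cfsg.classInner ((a : ℂ) • χ) ((c : ℂ) • χ') = ((a * c * (if χ = χ' then 1 else 0) : ℝ) : ℂ) := by
  rw [classInner_smul_left, classInner_smul_right, classInner_irr hχ hχ', Complex.conj_ofReal]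
  split_ifs <;> push_cast <;> ring


theorem mix_expand {X : Type*} [Group X] [Fintype X] (A B C D : X → ℂ) (u v : ℝ) :
    Cfsg.classInner (A - B) ((u : ℂ) • C - (v : ℂ) • D)
      = (u : ℂ) * Cfsg.classInner A C - (v : ℂ) * Cfsg.classInner A D
        - (u : ℂ) * Cfsg.classInner B C + (v : ℂ) * Cfsg.classInner B D := by
  rw [classInner_sub_left, classInner_sub_right, classInner_sub_right, classInner_smul_right,
    classInner_smul_right, classInner_smul_right, classInner_smul_right,
    Complex.conj_ofReal, Complex.conj_ofReal]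
  ring


/-- Let α, β, γ, δ be functions on a finite group X each of which is an irreducible character or the negative of one, and u, v nonzero real numbers. Suppose ⟨α, β⟩ = ⟨γ, δ⟩ = 0, ⟨α − β, uγ − vδ⟩ = 0, α 1 = β 1 and u γ 1 = v δ 1. Then also ⟨α, γ⟩ = ⟨α, δ⟩ = ⟨β, γ⟩ = ⟨β, δ⟩ = 0. -/
theorem result {X : Type*} [Group X] [Fintype X] (α β γ δ : X → ℂ) (hα : Cfsg.IsIrrCharacter X α ∨ Cfsg.IsIrrCharacter X (-α)) (hβ : Cfsg.IsIrrCharacter X β ∨ Cfsg.IsIrrCharacter X (-β)) (hγ : Cfsg.IsIrrCharacter X γ ∨ Cfsg.IsIrrCharacter X (-γ)) (hδ : Cfsg.IsIrrCharacter X δ ∨ Cfsg.IsIrrCharacter X (-δ)) (u v : ℝ) (hu : u ≠ 0) (hv : v ≠ 0) (hab : Cfsg.classInner α β = 0) (hcd : Cfsg.classInner γ δ = 0) (hmix : Cfsg.classInner (α - β) ((u : ℂ) • γ - (v : ℂ) • δ) = 0) (h1 : α 1 = β 1) (h2 : (u : ℂ) * γ 1 = (v : ℂ) * δ 1) : Cfsg.classInner α γ = 0 ∧ Cfsg.classInner α δ = 0 ∧ Cfsg.classInner β γ = 0 ∧ Cfsg.classInner β δ = 0 := by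
  classical
  obtain ⟨χa, a, hχa, ha, rfl⟩ := signed_decomp α hα
  obtain ⟨χb, b, hχb, hb, rfl⟩ := signed_decomp β hβ
  obtain ⟨χc, c, hχc, hc, rfl⟩ := signed_decomp γ hγ
  obtain ⟨χd, d, hχd, hd, rfl⟩ := signed_decomp δ hδ
  obtain ⟨na, hna, hda⟩ := exists_pos_degree hχa
  obtain ⟨nb, hnb, hdb⟩ := exists_pos_degree hχb
  obtain ⟨nc, hnc, hdc⟩ := exists_pos_degree hχc
  obtain ⟨nd, hnd, hdd⟩ := exists_pos_degree hχd
  have ha0 : a ≠ 0 := by rcases ha with rfl | rfl <;> norm_num
  have hb0 : b ≠ 0 := by rcases hb with rfl | rfl <;> norm_num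
  have hc0 : c ≠ 0 := by rcases hc with rfl | rfl <;> norm_num
  have hd0 : d ≠ 0 := by rcases hd with rfl | rfl <;> norm_num
  -- χa ≠ χb, χc ≠ χd
  have hab' : χa ≠ χb := by
    intro h
    rw [inner_signed χa χb a b hχa hχb, if_pos h] at hab
    have : a * b * 1 = 0 := by exact_mod_cast hab
    simp [ha0, hb0] at this
  have hcd' : χc ≠ χd := by
    intro h
    rw [inner_signed χc χd c d hχc hχd, if_pos h] at hcd
    have : c * d * 1 = 0 := by exact_mod_cast hcd
    simp [hc0, hd0] at this
  -- the real equations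
  have h1' : a * (na : ℝ) = b * (nb : ℝ) := by
    simp only [Pi.smul_apply, smul_eq_mul, hda, hdb] at h1
    exact_mod_cast h1
  have h2' : u * c * (nc : ℝ) = v * d * (nd : ℝ) := by
    simp only [Pi.smul_apply, smul_eq_mul, hdc, hdd] at h2
    have : ((u * c * (nc : ℝ) : ℝ) : ℂ) = ((v * d * (nd : ℝ) : ℝ) : ℂ) := by
      push_cast
      linear_combination h2
    exact_mod_cast this
  have hmix' : u * (a * c * (if χa = χc then 1 else 0)) - v * (a * d * (if χa = χd then 1 else 0))
      - u * (b * c * (if χb = χc then 1 else 0)) + v * (b * d * (if χb = χd then 1 else 0)) = 0 := by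
    rw [mix_expand,
      inner_signed χa χc a c hχa hχc, inner_signed χa χd a d hχa hχd,
      inner_signed χb χc b c hχb hχc, inner_signed χb χd b d hχb hχd] at hmix
    exact_mod_cast hmix
  have hna' : (0 : ℝ) < na := by exact_mod_cast hna
  have hnb' : (0 : ℝ) < nb := by exact_mod_cast hnb
  -- main case analysis
  have key : χa ≠ χc ∧ χa ≠ χd ∧ χb ≠ χc ∧ χb ≠ χd := by
    by_cases hac : χa = χc
    · exfalso
      have had : χa ≠ χd := fun h => hcd' (hac ▸ h)
      have hbc : χb ≠ χc := fun h => hab' (hac ▸ h.symm)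
      rw [if_pos hac, if_neg had, if_neg hbc] at hmix'
      by_cases hbd : χb = χd
      · rw [if_pos hbd] at hmix'
        have hnc' : nc = na := by
          have : (nc : ℂ) = na := by rw [← hdc, ← hda, hac]
          exact_mod_cast this
        have hnd' : nd = nb := by
          have : (nd : ℂ) = nb := by rw [← hdd, ← hdb, hbd]
          exact_mod_cast this
        rw [hnc', hnd'] at h2'
        exact arith u v a b c d na nb hv ha hb hd hna' (by linear_combination hmix') h1' h2'
      · rw [if_neg hbd] at hmix'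
        have : u * (a * c) = 0 := by linear_combination hmix'
        simp [hu, ha0, hc0] at this
    · by_cases had : χa = χd
      · exfalso
        have hbd : χb ≠ χd := fun h => hab' (had ▸ h.symm)
        rw [if_neg hac, if_pos had, if_neg hbd] at hmix'
        by_cases hbc : χb = χc
        · rw [if_pos hbc] at hmix'
          have hnd' : nd = na := by
            have : (nd : ℂ) = na := by rw [← hdd, ← hda, had]
            exact_mod_cast this
          have hnc' : nc = nb := by
            have : (nc : ℂ) = nb := by rw [← hdc, ← hdb, hbc]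
            exact_mod_cast this
          rw [hnc', hnd'] at h2'
          exact arith v u a b d c na nb hu ha hb hc hna' (by linear_combination -hmix') h1' h2'.symm
        · rw [if_neg hbc] at hmix'
          have : v * (a * d) = 0 := by linear_combination -hmix'
          simp [hv, ha0, hd0] at this
      · rw [if_neg hac, if_neg had] at hmix'
        by_cases hbc : χb = χc
        · exfalso
          have hbd : χb ≠ χd := fun h => hcd' (hbc ▸ h)
          rw [if_pos hbc, if_neg hbd] at hmix'
          have : u * (b * c) = 0 := by linear_combination -hmix'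
          simp [hu, hb0, hc0] at this
        · by_cases hbd : χb = χd
          · exfalso
            rw [if_neg hbc, if_pos hbd] at hmix'
            have : v * (b * d) = 0 := by linear_combination hmix'
            simp [hv, hb0, hd0] at this
          · exact ⟨hac, had, hbc, hbd⟩
  obtain ⟨k1, k2, k3, k4⟩ := key
  refine ⟨?_, ?_, ?_, ?_⟩
  · rw [inner_signed χa χc a c hχa hχc, if_neg k1]; simp
  · rw [inner_signed χa χd a d hχa hχd, if_neg k2]; simp
  · rw [inner_signed χb χc b c hχb hχc, if_neg k3]; simp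
  · rw [inner_signed χb χd b d hχb hχd, if_neg k4]; simp

end Cfsg.Agent.S1509
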