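import Cfsg.Statements.S1510
import Cfsg.Agent.S1386
import Cfsg.Agent.Lib.Helper31.FittingHall

set_option autoImplicit false
open Cfsg

namespace Cfsg.Agent.S1510

open Cfsg.Agent.Lib.Helper31

/-- Let L be a finite group with a normal subgroup K and a nontrivial cyclic subgroup W₁ of order coprime to its index, K ⊓ W₁ = ⊥ and K ⊔ W₁ = ⊤; let W₂ ≠ ⊥ be a cyclic subgroup of K with K ⊓ C_L(x) = W₂ for every non-identity x ∈ W₁, and suppose W₁ ⊔ W₂ has odd order. Then (W₁, W₂) is a self-normalising cyclic pair in L. -/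
theorem result {L : Type*} [Group L] [Fintype L] (K W₁ W₂ : Subgroup L) [hK : K.Normal] (hKW₁ : K ⊓ W₁ = ⊥) (hKW₁' : K ⊔ W₁ = ⊤) (hW₁ : W₁ ≠ ⊥) (hW₁c : IsCyclic W₁) (hHall : Nat.Coprime (Nat.card W₁) W₁.index) (hW₂ : W₂ ≠ ⊥) (hW₂c : IsCyclic W₂) (hW₂K : W₂ ≤ K) (hC : ∀ x ∈ W₁, x ≠ 1 → K ⊓ Subgroup.centralizer ({x} : Set L) = W₂) (hodd : Odd (Nat.card ↥(W₁ ⊔ W₂))) : Cfsg.IsSelfNormalizingCyclic W₁ W₂ := by
  -- basic facts
  have hdisj : W₁ ⊓ W₂ = ⊥ := by
    rw [eq_bot_iff, ← hKW₁, inf_comm]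
    exact inf_le_inf_right _ hW₂K
  have hcomm : ∀ a ∈ W₁, ∀ b ∈ W₂, a * b = b * a := by
    intro a ha b hb
    by_cases ha1 : a = 1
    · rw [ha1, one_mul, mul_one]
    · have hb' : b ∈ K ⊓ Subgroup.centralizer ({a} : Set L) := by rw [hC a ha ha1]; exact hb
      exact (Subgroup.mem_centralizer_singleton_iff.mp hb'.2).symm
  have hW₁comm : ∀ a ∈ W₁, ∀ c ∈ W₁, a * c = c * a := by
    intro a ha c hc
    exact congrArg Subtype.val (mul_comm' (⟨a, ha⟩ : W₁) ⟨c, hc⟩)
  have hW₂comm : ∀ a ∈ W₂, ∀ c ∈ W₂, a * c = c * a := by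
    intro a ha c hc
    exact congrArg Subtype.val (mul_comm' (⟨a, ha⟩ : W₂) ⟨c, hc⟩)
  -- `L = K W₁`
  have hprod : ∀ g : L, ∃ k ∈ K, ∃ w ∈ W₁, g = k * w := by
    intro g
    have hg : g ∈ (↑(K ⊔ W₁) : Set L) := by rw [hKW₁']; trivial
    rw [Subgroup.normal_mul] at hg
    obtain ⟨k, hk, w, hw, rfl⟩ := hg
    exact ⟨k, hk, w, hw, rfl⟩
  have hcompl : Subgroup.IsComplement' K W₁ := by
    apply Subgroup.isComplement'_of_disjoint_and_mul_eq_univ (disjoint_iff.mpr hKW₁)
    rw [← Subgroup.normal_mul, hKW₁']; rfl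
  have hcardK : W₁.index = Nat.card K := hcompl.index_eq_card
  have hcop : (Nat.card W₁).Coprime (Nat.card W₂) := by
    rw [hcardK] at hHall
    exact Nat.Coprime.coprime_dvd_right (Subgroup.card_dvd_of_le hW₂K) hHall
  have hcardW := Cfsg.Agent.S1386.card_sup_of_comm W₁ W₂ hdisj hcomm
  -- elements of `W₁ ⊔ W₂` are products
  have hWprod : ∀ g ∈ W₁ ⊔ W₂, ∃ a ∈ W₁, ∃ b ∈ W₂, g = a * b := by
    intro g hg
    have hLE : W₁ ≤ Subgroup.normalizer (W₂ : Set L) := by
      rw [Subgroup.le_normalizer_iff]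
      intro h hh k hk
      rw [hcomm h hh k hk, mul_inv_cancel_right]
      exact hk
    have hg' : g ∈ (↑(W₁ ⊔ W₂) : Set L) := hg
    rw [Subgroup.coe_mul_of_left_le_normalizer_right W₁ W₂ hLE] at hg'
    obtain ⟨a, ha, b, hb, rfl⟩ := hg'
    exact ⟨a, ha, b, hb, rfl⟩
  -- `W₁ ⊔ W₂` is commutative
  have hWcomm : ∀ g ∈ W₁ ⊔ W₂, ∀ h ∈ W₁ ⊔ W₂, g * h = h * g := by
    intro g hg h hh
    obtain ⟨a, ha, b, hb, rfl⟩ := hWprod g hg
    obtain ⟨a', ha', b', hb', rfl⟩ := hWprod h hh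
    have c1 : Commute a a' := hW₁comm a ha a' ha'
    have c2 : Commute a b' := hcomm a ha b' hb'
    have c3 : Commute b a' := (hcomm a' ha' b hb).symm
    have c4 : Commute b b' := hW₂comm b hb b' hb'
    exact (c1.mul_right c2).mul_left (c3.mul_right c4)
  -- the centralizer of a non-identity element of `W₁` is `W₁ ⊔ W₂`
  have hcent : ∀ a ∈ W₁, a ≠ 1 → ∀ g : L, g * a = a * g → g ∈ W₁ ⊔ W₂ := by
    intro a ha ha1 g hg
    obtain ⟨k, hk, w, hw, rfl⟩ := hprod g
    have hwa : w * a = a * w := hW₁comm w hw a ha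
    have hka : k * a = a * k := by
      have h1 : k * a * w = a * k * w := by
        calc k * a * w = k * (a * w) := by rw [mul_assoc]
          _ = k * (w * a) := by rw [hwa]
          _ = k * w * a := by rw [mul_assoc]
          _ = a * (k * w) := hg
          _ = a * k * w := by rw [mul_assoc]
      exact mul_right_cancel h1
    have hk' : k ∈ K ⊓ Subgroup.centralizer ({a} : Set L) :=
      Subgroup.mem_inf.mpr ⟨hk, Subgroup.mem_centralizer_singleton_iff.mpr hka⟩
    rw [hC a ha ha1] at hk'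
    exact mul_mem (Subgroup.mem_sup_right hk') (Subgroup.mem_sup_left hw)
  refine ⟨hW₁, hW₂, hdisj, hcomm, ?_, ?_⟩
  · -- cyclic
    obtain ⟨w₁, hw₁⟩ := hW₁c.exists_generator
    obtain ⟨w₂, hw₂⟩ := hW₂c.exists_generator
    have ho₁ : orderOf (w₁ : L) = Nat.card W₁ := by
      rw [Subgroup.orderOf_coe]; exact orderOf_eq_card_of_forall_mem_zpowers hw₁
    have ho₂ : orderOf (w₂ : L) = Nat.card W₂ := by
      rw [Subgroup.orderOf_coe]; exact orderOf_eq_card_of_forall_mem_zpowers hw₂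
    have hc : Commute (w₁ : L) (w₂ : L) := hcomm _ w₁.2 _ w₂.2
    have ho : orderOf ((w₁ : L) * (w₂ : L)) = Nat.card W₁ * Nat.card W₂ := by
      rw [hc.orderOf_mul_eq_mul_orderOf_of_coprime (by rw [ho₁, ho₂]; exact hcop), ho₁, ho₂]
    have hmem : (w₁ : L) * (w₂ : L) ∈ W₁ ⊔ W₂ :=
      mul_mem (Subgroup.mem_sup_left w₁.2) (Subgroup.mem_sup_right w₂.2)
    apply isCyclic_of_orderOf_eq_card (⟨(w₁ : L) * (w₂ : L), hmem⟩ : ↥(W₁ ⊔ W₂))
    rw [Subgroup.orderOf_mk, ho, hcardW]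
  · -- normalizers
    intro X hX hXne
    apply le_antisymm
    · intro g hg
      obtain ⟨x, hx⟩ := hXne
      have hxW : x ∈ W₁ ⊔ W₂ := (hX hx).1
      have hx₂ : x ∉ W₂ := fun h => (hX hx).2 (Or.inr h)
      obtain ⟨a, ha, b, hb, rfl⟩ := hWprod x hxW
      have ha1 : a ≠ 1 := by
        rintro rfl
        rw [one_mul] at hx₂
        exact hx₂ hb
      have hgx : g * (a * b) * g⁻¹ ∈ X := (Subgroup.mem_set_normalizer_iff.mp hg (a * b)).mp hx
      obtain ⟨a', ha', b', hb', hab'⟩ := hWprod _ (hX hgx).1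
      -- `a' = a` by looking modulo `K`
      have haa' : a' = a := by
        have h1 : a' * a⁻¹ ∈ K := by
          have h2 : a' * a⁻¹ = (g * a * g⁻¹ * a⁻¹) * (a * (g * b * g⁻¹ * b'⁻¹) * a⁻¹) := by
            have : a' = g * (a * b) * g⁻¹ * b'⁻¹ := by rw [hab', mul_inv_cancel_right]
            rw [this]; group
          rw [h2]
          apply mul_mem
          · -- commutator lies in `K` since `L/K` is abelian: write `g = k w`
            obtain ⟨k, hk, w, hw, rfl⟩ := hprod g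
            have hwa : w * a = a * w := hW₁comm w hw a ha
            have h3 : k * w * a * (k * w)⁻¹ * a⁻¹ = k * (a * k⁻¹ * a⁻¹) := by
              calc k * w * a * (k * w)⁻¹ * a⁻¹ = k * (w * a) * w⁻¹ * k⁻¹ * a⁻¹ := by group
                _ = k * (a * w) * w⁻¹ * k⁻¹ * a⁻¹ := by rw [hwa]
                _ = k * (a * k⁻¹ * a⁻¹) := by group
            rw [h3]
            exact mul_mem hk (hK.conj_mem _ (inv_mem hk) _)
          · have h5 : g * b * g⁻¹ * b'⁻¹ ∈ K :=
              K.mul_mem (hK.conj_mem _ (hW₂K hb) _) (K.inv_mem (hW₂K hb'))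
            exact hK.conj_mem _ h5 _
        have h4 : a' * a⁻¹ ∈ K ⊓ W₁ := Subgroup.mem_inf.mpr ⟨h1, W₁.mul_mem ha' (W₁.inv_mem ha)⟩
        rw [hKW₁, Subgroup.mem_bot] at h4
        exact mul_inv_eq_one.mp h4
      subst haa'
      -- `g` centralizes `a' ^ n₂`
      have hpow : g * a' ^ Nat.card W₂ * g⁻¹ = a' ^ Nat.card W₂ := by
        have hb1 : b ^ Nat.card W₂ = 1 := by
          have h2 : (⟨b, hb⟩ : W₂) ^ Nat.card W₂ = 1 := pow_card_eq_one'
          have h3 : (((⟨b, hb⟩ : W₂) ^ Nat.card W₂ : W₂) : L) = ((1 : W₂) : L) := congrArg Subtype.val h2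
          rwa [Subgroup.coe_pow, Subgroup.coe_one] at h3
        have hb'1 : b' ^ Nat.card W₂ = 1 := by
          have h2 : (⟨b', hb'⟩ : W₂) ^ Nat.card W₂ = 1 := pow_card_eq_one'
          have h3 : (((⟨b', hb'⟩ : W₂) ^ Nat.card W₂ : W₂) : L) = ((1 : W₂) : L) := congrArg Subtype.val h2
          rwa [Subgroup.coe_pow, Subgroup.coe_one] at h3
        have e1 : (a' * b) ^ Nat.card W₂ = a' ^ Nat.card W₂ := by
          rw [(show Commute a' b from hcomm a' ha b hb).mul_pow, hb1, mul_one]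
        have e2 : (a' * b') ^ Nat.card W₂ = a' ^ Nat.card W₂ := by
          rw [(show Commute a' b' from hcomm a' ha b' hb').mul_pow, hb'1, mul_one]
        calc g * a' ^ Nat.card W₂ * g⁻¹ = g * (a' * b) ^ Nat.card W₂ * g⁻¹ := by rw [e1]
          _ = (g * (a' * b) * g⁻¹) ^ Nat.card W₂ := by rw [conj_pow]
          _ = (a' * b') ^ Nat.card W₂ := by rw [hab']
          _ = a' ^ Nat.card W₂ := e2
      have hga : a' ∈ Subgroup.centralizer ({g} : Set L) := by
        apply mem_of_pow_mem_of_coprime _ _ (Nat.card W₂)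
        · have h1 : orderOf a' ∣ Nat.card W₁ := by
            have := orderOf_dvd_natCard (⟨a', ha⟩ : W₁)
            rwa [Subgroup.orderOf_mk] at this
          exact Nat.Coprime.coprime_dvd_left h1 hcop
        · rw [Subgroup.mem_centralizer_singleton_iff]
          calc a' ^ Nat.card W₂ * g = (g * a' ^ Nat.card W₂ * g⁻¹) * g := by rw [hpow]
            _ = g * a' ^ Nat.card W₂ := by group
      rw [Subgroup.mem_centralizer_singleton_iff] at hga
      exact hcent a' ha ha1 g hga.symm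
    · intro g hg
      rw [Subgroup.mem_set_normalizer_iff]
      intro n
      constructor
      · intro hn
        have : g * n * g⁻¹ = n := by
          rw [hWcomm g hg n (hX hn).1, mul_inv_cancel_right]
        rw [this]; exact hn
      · intro hn
        have h1 : g * n * g⁻¹ ∈ W₁ ⊔ W₂ := (hX hn).1
        have h2 : n ∈ W₁ ⊔ W₂ := by
          have := mul_mem (mul_mem (inv_mem hg) h1) hg
          have e : g⁻¹ * (g * n * g⁻¹) * g = n := by group
          rwa [e] at this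
        have : g * n * g⁻¹ = n := by
          rw [hWcomm g hg n h2, mul_inv_cancel_right]
        rw [this] at hn; exact hn

end Cfsg.Agent.S1510
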