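import Cfsg.Statements.S1511
-- import your own Cfsg.Agent.* helpers here
import Cfsg.Agent.Lib.Helper34.SignFamily
import Cfsg.Agent.Lib.Helper34.CyclicDual
import Cfsg.Agent.Lib.Helper34.LinChar
import Cfsg.Agent.Lib.Helper34.GenChar
import Cfsg.Agent.Lib.Helper33.DualSum
import Cfsg.Agent.Lib.Helper04.IndFun
import Cfsg.Agent.Lib.Helper04.Basis
import Cfsg.Agent.Lib.Helper05.CharDecomp
import Cfsg.Agent.Lib.Helper83.Linear

set_option autoImplicit false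
open Cfsg

namespace Cfsg.Agent.S1511

open Cfsg.Agent.Lib.Helper34
open scoped ComplexConjugate

section Grp

variable {L : Type*} [Group L] (K W₁ W₂ : Subgroup L) [hK : K.Normal]

theorem comm12 (hC : ∀ x ∈ W₁, x ≠ 1 → K ⊓ Subgroup.centralizer ({x} : Set L) = W₂) :
    ∀ a ∈ W₁, ∀ b ∈ W₂, a * b = b * a := by
  intro a ha b hb
  by_cases h1 : a = 1
  · rw [h1, one_mul, mul_one]
  · have hb' : b ∈ K ⊓ Subgroup.centralizer ({a} : Set L) := by rw [hC a ha h1]; exact hb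
    exact (Subgroup.mem_centralizer_iff.mp hb'.2) a rfl

theorem disj12 (hKW₁ : K ⊓ W₁ = ⊥) (hW₂K : W₂ ≤ K) : W₁ ⊓ W₂ = ⊥ := by
  rw [eq_bot_iff, ← hKW₁]
  exact le_inf (inf_le_right.trans hW₂K) inf_le_left

theorem comm_sup (hW₁c : IsCyclic W₁) (hW₂c : IsCyclic W₂)
    (hcomm : ∀ a ∈ W₁, ∀ b ∈ W₂, a * b = b * a) :
    ∀ a ∈ W₁ ⊔ W₂, ∀ b ∈ W₁ ⊔ W₂, a * b = b * a := by
  have h1 : W₁ ≤ Subgroup.centralizer ((W₁ ⊔ W₂ : Subgroup L) : Set L) := by
    rw [Subgroup.le_centralizer_iff]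
    refine sup_le ?_ ?_
    · intro a ha
      rw [Subgroup.mem_centralizer_iff]
      intro b hb
      exact comm_of_isCyclic W₁ hW₁c hb ha
    · intro a ha
      rw [Subgroup.mem_centralizer_iff]
      intro b hb
      exact hcomm b hb a ha
  have h2 : W₂ ≤ Subgroup.centralizer ((W₁ ⊔ W₂ : Subgroup L) : Set L) := by
    rw [Subgroup.le_centralizer_iff]
    refine sup_le ?_ ?_
    · intro a ha
      rw [Subgroup.mem_centralizer_iff]
      intro b hb
      exact (hcomm a ha b hb).symm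
    · intro a ha
      rw [Subgroup.mem_centralizer_iff]
      intro b hb
      exact comm_of_isCyclic W₂ hW₂c hb ha
  intro a ha b hb
  exact ((Subgroup.mem_centralizer_iff.mp ((sup_le h1 h2) hb)) a ha)

theorem exists_decomp (hcomm : ∀ a ∈ W₁, ∀ b ∈ W₂, a * b = b * a) (hdisj : W₁ ⊓ W₂ = ⊥)
    {w : L} (hw : w ∈ W₁ ⊔ W₂) : ∃ a ∈ W₁, ∃ b ∈ W₂, w = a * b := by
  refine ⟨((prodEquiv W₁ W₂ hcomm hdisj).symm ⟨w, hw⟩).1, Subtype.property _,
    ((prodEquiv W₁ W₂ hcomm hdisj).symm ⟨w, hw⟩).2, Subtype.property _, ?_⟩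
  rw [← prodEquiv_coe W₁ W₂ hcomm hdisj, MulEquiv.apply_symm_apply]

theorem coprime12 [Finite L] (hKW₁ : K ⊓ W₁ = ⊥) (hKW₁' : K ⊔ W₁ = ⊤)
    (hHall : Nat.Coprime (Nat.card W₁) W₁.index) (hW₂K : W₂ ≤ K) :
    Nat.Coprime (Nat.card W₁) (Nat.card W₂) := by
  have hcompl : K.IsComplement' W₁ := by
    apply Subgroup.isComplement'_of_disjoint_and_mul_eq_univ
    · rw [disjoint_iff, hKW₁]
    · rw [← Subgroup.normal_mul, hKW₁']
      rfl
  have hidx : W₁.index = Nat.card K := hcompl.index_eq_card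
  rw [hidx] at hHall
  exact Nat.Coprime.coprime_dvd_right (Subgroup.card_dvd_of_le hW₂K) hHall

theorem control [Finite L] (hKW₁ : K ⊓ W₁ = ⊥) (hKW₁' : K ⊔ W₁ = ⊤) (hW₁c : IsCyclic W₁)
    (hW₂K : W₂ ≤ K)
    (hC : ∀ x ∈ W₁, x ≠ 1 → K ⊓ Subgroup.centralizer ({x} : Set L) = W₂)
    (hcop : Nat.Coprime (Nat.card W₁) (Nat.card W₂))
    {a : L} (ha : a ∈ W₁ ⊔ W₂) (ha2 : a ∉ W₂) {g : L} (hg : g * a * g⁻¹ ∈ W₁ ⊔ W₂) :
    g ∈ W₁ ⊔ W₂ := by
  have hcomm := comm12 K W₁ W₂ hC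
  have hdisj := disj12 K W₁ W₂ hKW₁ hW₂K
  obtain ⟨a₁, ha₁, a₂, ha₂, rfl⟩ := exists_decomp W₁ W₂ hcomm hdisj ha
  obtain ⟨b₁, hb₁, b₂, hb₂, hb⟩ := exists_decomp W₁ W₂ hcomm hdisj hg
  have ha₁ne : a₁ ≠ 1 := by
    rintro rfl
    rw [one_mul] at ha2
    exact ha2 ha₂
  set n := Nat.card W₂ with hn
  have hpow2 : ∀ b ∈ W₂, b ^ n = 1 := by
    intro b hb
    have := pow_card_eq_one' (G := W₂) (x := ⟨b, hb⟩)
    have h2 := congrArg (Subtype.val) this
    rw [Subgroup.coe_pow, Subgroup.coe_one] at h2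
    exact h2
  have hapow : (a₁ * a₂) ^ n = a₁ ^ n := by
    rw [(show Commute a₁ a₂ from hcomm a₁ ha₁ a₂ ha₂).mul_pow, hpow2 a₂ ha₂, mul_one]
  have hbpow : (b₁ * b₂) ^ n = b₁ ^ n := by
    rw [(show Commute b₁ b₂ from hcomm b₁ hb₁ b₂ hb₂).mul_pow, hpow2 b₂ hb₂, mul_one]
  have hconj : g * a₁ ^ n * g⁻¹ = b₁ ^ n := by
    rw [← hapow, ← hbpow, ← hb, conj_pow]
  set a' := a₁ ^ n with ha'
  have ha'W : a' ∈ W₁ := Subgroup.pow_mem _ ha₁ n
  have ha'ne : a' ≠ 1 := by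
    intro h
    have h1 : orderOf a₁ ∣ n := orderOf_dvd_of_pow_eq_one h
    have h2 : orderOf a₁ ∣ Nat.card W₁ := by
      have := orderOf_dvd_natCard (⟨a₁, ha₁⟩ : W₁)
      rwa [Subgroup.orderOf_mk] at this
    have h3 : orderOf a₁ = 1 := Nat.eq_one_of_dvd_coprimes hcop h2 h1
    exact ha₁ne (orderOf_eq_one_iff.mp h3)
  have hgW : g * a' * g⁻¹ ∈ W₁ := by rw [hconj]; exact Subgroup.pow_mem _ hb₁ n
  have hgtop : g ∈ K ⊔ W₁ := by rw [hKW₁']; exact Subgroup.mem_top g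
  obtain ⟨k, hk, v, hv, rfl⟩ := Subgroup.mem_sup_of_normal_left.mp hgtop
  have hva : v * a' * v⁻¹ = a' := by
    rw [comm_of_isCyclic W₁ hW₁c hv ha'W, mul_inv_cancel_right]
  have hka : k * a' * k⁻¹ ∈ W₁ := by
    have : k * v * a' * (k * v)⁻¹ = k * (v * a' * v⁻¹) * k⁻¹ := by group
    rw [this, hva] at hgW
    exact hgW
  have hc : k * a' * k⁻¹ * a'⁻¹ ∈ K ⊓ W₁ := by
    refine ⟨?_, Subgroup.mul_mem _ hka (Subgroup.inv_mem _ ha'W)⟩
    have : k * a' * k⁻¹ * a'⁻¹ = k * (a' * k⁻¹ * a'⁻¹) := by group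
    rw [this]
    exact Subgroup.mul_mem _ hk (hK.conj_mem _ (Subgroup.inv_mem _ hk) a')
  rw [hKW₁, Subgroup.mem_bot] at hc
  have hkc : a' * k = k * a' := by
    have h1 : k * a' * k⁻¹ = a' := by
      have := mul_inv_eq_one.mp hc
      exact this
    calc a' * k = (k * a' * k⁻¹) * k := by rw [h1]
      _ = k * a' := by group
  have hkW₂ : k ∈ W₂ := by
    rw [← hC a' ha'W ha'ne]
    refine Subgroup.mem_inf.mpr ⟨hk, ?_⟩
    rw [Subgroup.mem_centralizer_iff]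
    intro h hh
    rw [Set.mem_singleton_iff] at hh
    rw [hh]
    exact hkc
  exact Subgroup.mul_mem _ ((le_sup_right : W₂ ≤ W₁ ⊔ W₂) hkW₂) ((le_sup_left : W₁ ≤ W₁ ⊔ W₂) hv)

end Grp

section Chr

variable {L : Type*} [Group L] [Fintype L] (T N : Subgroup L)

/-- induction from `T` reproduces values off `N` -/
theorem ind_apply_off (hcommT : ∀ a ∈ T, ∀ b ∈ T, a * b = b * a)
    (hctl : ∀ a ∈ T, a ∉ N → ∀ g : L, g * a * g⁻¹ ∈ T → g ∈ T)
    (β : T → ℂ) (w : T) (hw : (w : L) ∉ N) : indFun T β w = β w := by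
  classical
  rw [Cfsg.Agent.Lib.Helper04.indFun_apply]
  have h1 : ∀ x : L, extendByZero T β (x⁻¹ * w * x) = if x ∈ T then β w else 0 := by
    intro x
    by_cases hx : x ∈ T
    · rw [if_pos hx]
      have hc := hcommT w w.2 x hx
      have : x⁻¹ * w * x = w := by rw [mul_assoc, hc, inv_mul_cancel_left]
      rw [this, Cfsg.Agent.Lib.Helper04.extendByZero_apply_mem]
    · rw [if_neg hx]
      apply Cfsg.Agent.Lib.Helper04.extendByZero_apply_not_mem
      intro hm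
      apply hx
      have := hctl w w.2 hw x⁻¹ (by rwa [inv_inv])
      exact (Subgroup.inv_mem_iff _).mp this
  simp only [h1]
  rw [Finset.sum_ite, Finset.sum_const_zero, add_zero, Finset.sum_const, nsmul_eq_mul]
  have hcard : ((Finset.univ.filter (fun x : L => x ∈ T)).card : ℂ) = (Nat.card T : ℂ) := by
    congr 1
    rw [Nat.card_eq_fintype_card, Fintype.card_subtype]
  rw [hcard]
  have hne : (Nat.card T : ℂ) ≠ 0 := by exact_mod_cast Nat.card_pos.ne'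
  field_simp

theorem inner_ind [Fintype T]
    (hoff : ∀ (β : T → ℂ) (w : T), (w : L) ∉ N → indFun T β w = β w)
    (α β : T → ℂ) (hα : ∀ w : T, (w : L) ∈ N → α w = 0) :
    classInner (indFun T α) (indFun T β) = classInner α β := by
  rw [Cfsg.Agent.Lib.Helper04.frobenius_reciprocity T α _
    (Cfsg.Agent.Lib.Helper04.indFun_isClassFunction T β)]
  unfold classInner
  congr 1
  apply Finset.sum_congr rfl
  intro w _
  by_cases hw : (w : L) ∈ N
  · rw [hα w hw, zero_mul, zero_mul]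
  · show α w * conj (indFun T β (w : L)) = α w * conj (β w)
    rw [hoff β w hw]

theorem card_centralizer_eq (hcommT : ∀ a ∈ T, ∀ b ∈ T, a * b = b * a)
    (hctl : ∀ a ∈ T, a ∉ N → ∀ g : L, g * a * g⁻¹ ∈ T → g ∈ T)
    (w : T) (hw : (w : L) ∉ N) :
    Nat.card (Subgroup.centralizer ({(w : L)} : Set L)) = Nat.card T := by
  have : Subgroup.centralizer ({(w : L)} : Set L) = T := by
    ext g
    rw [Subgroup.mem_centralizer_iff]
    constructor
    · intro h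
      have h1 := h (w : L) rfl
      apply hctl w w.2 hw g
      have : g * (w : L) * g⁻¹ = w := by rw [← h1, mul_inv_cancel_right]
      rw [this]
      exact w.2
    · intro hg h hh
      rw [Set.mem_singleton_iff] at hh
      rw [hh]
      exact hcommT w w.2 g hg
  rw [this]

end Chr

section Asm

variable {L : Type*} [Group L] [Fintype L] (T N : Subgroup L)

theorem sum_nonneg_eq_zero {ι κ : Type*} (s : Finset ι) (t : Finset κ) (f : ι → ℝ) (g : κ → ℝ)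
    (hf : ∀ i ∈ s, 0 ≤ f i) (hg : ∀ j ∈ t, 0 ≤ g j)
    (h : ∑ i ∈ s, f i + ∑ j ∈ t, g j = 0) : (∀ i ∈ s, f i = 0) ∧ (∀ j ∈ t, g j = 0) := by
  have h1 : 0 ≤ ∑ i ∈ s, f i := Finset.sum_nonneg hf
  have h2 : 0 ≤ ∑ j ∈ t, g j := Finset.sum_nonneg hg
  have h3 : ∑ i ∈ s, f i = 0 := by linarith
  have h4 : ∑ j ∈ t, g j = 0 := by linarith
  exact ⟨(Finset.sum_eq_zero_iff_of_nonneg hf).mp h3, (Finset.sum_eq_zero_iff_of_nonneg hg).mp h4⟩

theorem assembly (hcomm : ∀ a b : T, a * b = b * a)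
    (hoff : ∀ (β : T → ℂ) (w : T), (w : L) ∉ N → indFun T β w = β w)
    (hcent : ∀ w : T, (w : L) ∉ N →
      Nat.card (Subgroup.centralizer ({(w : L)} : Set L)) = Nat.card T)
    (hne : ∃ w : T, (w : L) ∉ N) :
    ∃ (μ : (T →* ℂˣ) → (L → ℂ)) (δ : (T →* ℂˣ) → ℂ), Function.Injective μ ∧
      (∀ ω, IsIrrCharacter L (μ ω)) ∧ (∀ ω, δ ω = 1 ∨ δ ω = -1) ∧
      (∀ ω ω' : T →* ℂˣ, (∀ w : T, (w : L) ∈ N → ω w = ω' w) →
        δ ω = δ ω' ∧ indFun T (fun w => (ω w : ℂ) - (ω' w : ℂ)) = δ ω • (μ ω - μ ω')) ∧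
      (∀ ω, ∀ w : T, (w : L) ∉ N → μ ω w = δ ω * (ω w : ℂ)) ∧
      (∀ θ : L → ℂ, IsIrrCharacter L θ → (∀ ω, θ ≠ μ ω) → ∀ w : T, (w : L) ∉ N → θ w = 0) := by
  classical
  haveI : Fintype T := Fintype.ofFinite _
  haveI hfinLin : Finite (T →* ℂˣ) := Cfsg.Agent.Lib.Helper33.finite_monoidHom_units hcomm
  haveI : Fintype (T →* ℂˣ) := Fintype.ofFinite _
  haveI : Finite (IrrCharacter L) := Cfsg.Agent.Lib.Helper05.finite_irrCharacter
  haveI : Fintype (IrrCharacter L) := Fintype.ofFinite _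
  -- the relation
  let s : Setoid (T →* ℂˣ) := ⟨fun ω ω' => ∀ w : T, (w : L) ∈ N → ω w = ω' w,
    ⟨fun _ _ _ => rfl, fun h w hw => (h w hw).symm, fun h h' w hw => (h w hw).trans (h' w hw)⟩⟩
  have hsr : ∀ ω ω' : T →* ℂˣ, s.r ω ω' ↔ ∀ w : T, (w : L) ∈ N → ω w = ω' w := fun _ _ => Iff.rfl
  -- a nontrivial character trivial on N
  obtain ⟨w₀, hw₀⟩ := hne
  have hlam : ∀ w : T, (w : L) ∉ N → ∃ lam : T →* ℂˣ, (∀ y : T, (y : L) ∈ N → lam y = 1) ∧
      lam w ≠ 1 := by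
    intro w hw
    obtain ⟨φ, h1, h2⟩ := Cfsg.Agent.Lib.Helper33.exists_hom_ne_one_of_not_mem hcomm
      (N.subgroupOf T) (u := w) (fun h => hw (Subgroup.mem_subgroupOf.mp h))
    exact ⟨φ, fun y hy => h1 y (Subgroup.mem_subgroupOf.mpr hy), h2⟩
  have hother : ∀ ω : T →* ℂˣ, ∃ ω₁ : T →* ℂˣ, ω₁ ≠ ω ∧ s.r ω ω₁ := by
    intro ω
    obtain ⟨lam, hl1, hl2⟩ := hlam w₀ hw₀
    refine ⟨lam * ω, ?_, ?_⟩
    · intro h
      apply hl2
      have := congrArg (fun φ : T →* ℂˣ => φ w₀) h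
      simp only [MonoidHom.mul_apply] at this
      exact mul_eq_right.mp this
    · intro w hw
      rw [MonoidHom.mul_apply, hl1 w hw, one_mul]
  -- inner products
  have hinner : ∀ ω₁ ω₂ ω₃ ω₄ : T →* ℂˣ, s.r ω₁ ω₂ →
      classInner (indFun T (linFun ω₁ - linFun ω₂)) (indFun T (linFun ω₃ - linFun ω₄))
        = (if ω₁ = ω₃ then 1 else 0) - (if ω₁ = ω₄ then 1 else 0) - (if ω₂ = ω₃ then 1 else 0)
          + (if ω₂ = ω₄ then 1 else 0) := by
    intro ω₁ ω₂ ω₃ ω₄ h12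
    rw [inner_ind T N hoff _ _ (fun w hw => by
      rw [Pi.sub_apply, linFun_apply, linFun_apply, h12 w hw, sub_self])]
    rw [classInner_sub_left, classInner_sub_right, classInner_sub_right, classInner_linFun,
      classInner_linFun, classInner_linFun, classInner_linFun]
    ring
  have hlinirr : ∀ ω : T →* ℂˣ, IsIrrCharacter T (linFun ω) := fun ω =>
    Cfsg.Agent.Lib.Helper83.isIrrCharacter_of_hom ω
  -- the family on each class
  have hfam : ∀ q : Quotient s, ∃ (ε : ℂ)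
      (f : {ω : T →* ℂˣ // Quotient.mk s ω = q} → IrrCharacter L),
      (ε = 1 ∨ ε = -1) ∧ Function.Injective f ∧
      ∀ i j, indFun T (linFun i.1 - linFun j.1) = ε • ((f i : L → ℂ) - (f j : L → ℂ)) := by
    intro q
    apply sign_family
      (fun i j : {ω : T →* ℂˣ // Quotient.mk s ω = q} => indFun T (linFun i.1 - linFun j.1))
    · intro i j
      exact isGeneralizedCharacter_indFun T (isGeneralizedCharacter_sub
        (isGeneralizedCharacter_of_irr (hlinirr i.1)) (isGeneralizedCharacter_of_irr (hlinirr j.1)))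
    · intro i j
      rw [Cfsg.Agent.Lib.Helper83.indFun_one_eq, Pi.sub_apply, linFun_apply, linFun_apply,
        map_one, map_one, sub_self, mul_zero]
    · intro i j k
      rw [← indFun_add]
      congr 1
      abel
    · intro i j k l
      have hij : s.r i.1 j.1 := Quotient.exact (i.2.trans j.2.symm)
      rw [hinner _ _ _ _ hij]
      simp only [Subtype.ext_iff]
  choose ε f hε hf hΔ using hfam
  set μ' : (T →* ℂˣ) → IrrCharacter L := fun ω => f (Quotient.mk s ω) ⟨ω, rfl⟩ with hμ'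
  set δ : (T →* ℂˣ) → ℂ := fun ω => ε (Quotient.mk s ω) with hδ
  have hf_eq : ∀ (ω : T →* ℂˣ) (q : Quotient s) (h : Quotient.mk s ω = q),
      f q ⟨ω, h⟩ = μ' ω := by
    intro ω q h; subst h; rfl
  have hδ1 : ∀ ω, δ ω = 1 ∨ δ ω = -1 := fun ω => hε _
  have hδsq : ∀ ω, δ ω * δ ω = 1 := by
    intro ω
    rcases hδ1 ω with h | h <;> rw [h] <;> norm_num
  have hδne : ∀ ω, δ ω ≠ 0 := by
    intro ω h
    have := hδsq ω
    rw [h, mul_zero] at this
    exact zero_ne_one this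
  have hδrel : ∀ ω ω', s.r ω ω' → δ ω = δ ω' := by
    intro ω ω' h
    have : Quotient.mk s ω = Quotient.mk s ω' := Quotient.sound h
    simp only [hδ, this]
  have hdiff : ∀ ω ω', s.r ω ω' →
      indFun T (linFun ω - linFun ω') = δ ω • ((μ' ω : L → ℂ) - (μ' ω' : L → ℂ)) := by
    intro ω ω' h
    have h' : Quotient.mk s ω' = Quotient.mk s ω := (Quotient.sound h).symm
    have := hΔ (Quotient.mk s ω) ⟨ω, rfl⟩ ⟨ω', h'⟩
    rw [hf_eq ω' _ h'] at this
    exact this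
  -- injectivity
  have hinj : Function.Injective μ' := by
    intro ω ω' hμ
    by_cases hrel : s.r ω ω'
    · have h' : Quotient.mk s ω' = Quotient.mk s ω := (Quotient.sound hrel).symm
      have h1 : f (Quotient.mk s ω) ⟨ω, rfl⟩ = f (Quotient.mk s ω) ⟨ω', h'⟩ := by
        rw [hf_eq ω' _ h']; exact hμ
      exact congrArg Subtype.val (hf _ h1)
    · exfalso
      obtain ⟨ω₁, hne₁, hr₁⟩ := hother ω
      obtain ⟨ω₁', hne₁', hr₁'⟩ := hother ω'
      have h0 := hinner ω ω₁ ω' ω₁' hr₁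
      have e1 : ω ≠ ω' := fun h => hrel (h ▸ s.iseqv.refl ω)
      have e2 : ω ≠ ω₁' := fun h => hrel (h ▸ s.iseqv.symm hr₁')
      have e3 : ω₁ ≠ ω' := fun h => hrel (h ▸ hr₁)
      have e4 : ω₁ ≠ ω₁' := fun h => hrel (s.iseqv.trans (h ▸ hr₁) (s.iseqv.symm hr₁'))
      rw [if_neg e1, if_neg e2, if_neg e3, if_neg e4, hdiff ω ω₁ hr₁, hdiff ω' ω₁' hr₁',
        classInner_smul_left, classInner_smul_right] at h0
      have h0' : classInner ((μ' ω : L → ℂ) - (μ' ω₁ : L → ℂ))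
          ((μ' ω' : L → ℂ) - (μ' ω₁' : L → ℂ)) = 0 := by
        have hc : (starRingEnd ℂ) (δ ω') ≠ 0 := by
          rw [Ne, map_eq_zero]; exact hδne ω'
        have h2 : δ ω * ((starRingEnd ℂ) (δ ω') * classInner ((μ' ω : L → ℂ) - (μ' ω₁ : L → ℂ))
          ((μ' ω' : L → ℂ) - (μ' ω₁' : L → ℂ))) = 0 := by
          rw [h0]; norm_num
        rcases mul_eq_zero.mp h2 with h3 | h3
        · exact absurd h3 (hδne ω)
        · rcases mul_eq_zero.mp h3 with h4 | h4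
          · exact absurd h4 hc
          · exact h4
      have hne1 : (μ' ω : L → ℂ) ≠ (μ' ω₁ : L → ℂ) := by
        intro h
        have hr : s.r ω ω₁ := hr₁
        have h' : Quotient.mk s ω₁ = Quotient.mk s ω := (Quotient.sound hr).symm
        have h1 : f (Quotient.mk s ω) ⟨ω, rfl⟩ = f (Quotient.mk s ω) ⟨ω₁, h'⟩ := by
          rw [hf_eq ω₁ _ h']; exact Subtype.ext h
        exact hne₁ (congrArg Subtype.val (hf _ h1)).symm
      have hne2 : (μ' ω' : L → ℂ) ≠ (μ' ω₁' : L → ℂ) := by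
        intro h
        have hr : s.r ω' ω₁' := hr₁'
        have h' : Quotient.mk s ω₁' = Quotient.mk s ω' := (Quotient.sound hr).symm
        have h1 : f (Quotient.mk s ω') ⟨ω', rfl⟩ = f (Quotient.mk s ω') ⟨ω₁', h'⟩ := by
          rw [hf_eq ω₁' _ h']; exact Subtype.ext h
        exact hne₁' (congrArg Subtype.val (hf _ h1)).symm
      exact (irr_ne_of_inner_sub_eq_zero (μ' ω).2 (μ' ω₁).2 (μ' ω').2 (μ' ω₁').2 hne1 hne2 h0').1
        (congrArg Subtype.val hμ)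
  -- the key computation at a point off N
  have hkey : ∀ w : T, (w : L) ∉ N → (∀ ω, δ ω * (μ' ω : L → ℂ) w = (ω w : ℂ)) ∧
      (∀ χ : IrrCharacter L, (∀ ω, χ ≠ μ' ω) → (χ : L → ℂ) w = 0) := by
    intro w hw
    set c : (T →* ℂˣ) → ℂ := fun ω => δ ω * (μ' ω : L → ℂ) w - (ω w : ℂ) with hc
    have hcrel : ∀ ω ω', s.r ω ω' → c ω = c ω' := by
      intro ω ω' h
      have h1 := congrFun (hdiff ω ω' h) (w : L)
      rw [hoff _ w hw, Pi.sub_apply, linFun_apply, linFun_apply, Pi.smul_apply, Pi.sub_apply,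
        smul_eq_mul] at h1
      simp only [hc]
      rw [← hδrel ω ω' h]
      linear_combination -h1
    -- the twisted sum vanishes
    have hS : ∑ ω : T →* ℂˣ, (ω w : ℂ) * conj (c ω) = 0 := by
      obtain ⟨lam, hl1, hl2⟩ := hlam w hw
      have hshift : ∑ ω : T →* ℂˣ, (ω w : ℂ) * conj (c ω)
          = ∑ ω : T →* ℂˣ, (((lam * ω : T →* ℂˣ)) w : ℂ) * conj (c (lam * ω)) :=
        (Equiv.sum_comp (Equiv.mulLeft lam) (fun ω : T →* ℂˣ => (ω w : ℂ) * conj (c ω))).symm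
      have hshift2 : ∑ ω : T →* ℂˣ, (((lam * ω : T →* ℂˣ)) w : ℂ) * conj (c (lam * ω))
          = (lam w : ℂ) * ∑ ω : T →* ℂˣ, (ω w : ℂ) * conj (c ω) := by
        rw [Finset.mul_sum]
        apply Finset.sum_congr rfl
        intro ω _
        have hr : s.r ω (lam * ω) := by
          intro y hy
          rw [MonoidHom.mul_apply, hl1 y hy, one_mul]
        rw [← hcrel ω (lam * ω) hr, MonoidHom.mul_apply, Units.val_mul]
        ring
      have h3 : ((lam w : ℂ) - 1) * ∑ ω : T →* ℂˣ, (ω w : ℂ) * conj (c ω) = 0 := by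
        rw [sub_mul, one_mul, ← hshift2, ← hshift, sub_self]
      rcases mul_eq_zero.mp h3 with h4 | h4
      · exfalso
        apply hl2
        have : (lam w : ℂ) = 1 := by linear_combination h4
        exact Units.ext this
      · exact h4
    -- column orthogonality
    have hcol := (Cfsg.Agent.Lib.Helper04.column_orthogonality (w : L) (w : L)).1 (IsConj.refl _)
    rw [finsum_eq_sum_of_fintype, hcent w hw] at hcol
    have hcolR : ∑ χ : IrrCharacter L, Complex.normSq ((χ : L → ℂ) w) = (Nat.card T : ℝ) := by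
      have : (((∑ χ : IrrCharacter L, Complex.normSq ((χ : L → ℂ) w) : ℝ)) : ℂ)
          = ((Nat.card T : ℝ) : ℂ) := by
        rw [Complex.ofReal_sum]
        simp only [← Complex.mul_conj]
        rw [hcol]
        simp
      exact_mod_cast this
    have hcardLin : Fintype.card (T →* ℂˣ) = Nat.card T := by
      rw [← Nat.card_eq_fintype_card]
      exact card_linChar_of_comm T (fun a ha b hb => by
        have := hcomm ⟨a, ha⟩ ⟨b, hb⟩
        exact congrArg Subtype.val this)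
    have hnsq : ∀ ω : T →* ℂˣ, Complex.normSq ((μ' ω : L → ℂ) w)
        = 1 + Complex.normSq (c ω) + 2 * ((ω w : ℂ) * conj (c ω)).re := by
      intro ω
      have h1 : δ ω * (μ' ω : L → ℂ) w = (ω w : ℂ) + c ω := by simp only [hc]; ring
      have h2 : Complex.normSq (δ ω) = 1 := by
        rcases hδ1 ω with h | h <;> rw [h] <;> simp
      have h3 : Complex.normSq ((μ' ω : L → ℂ) w) = Complex.normSq (δ ω * (μ' ω : L → ℂ) w) := by
        rw [Complex.normSq_mul, h2, one_mul]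
      rw [h3, h1, Complex.normSq_add]
      have h4 : Complex.normSq (ω w : ℂ) = 1 := by
        rw [Complex.normSq_eq_norm_sq, norm_linChar]; norm_num
      rw [h4]
    have hsplit : ∑ χ : IrrCharacter L, Complex.normSq ((χ : L → ℂ) w)
        = ∑ ω : T →* ℂˣ, Complex.normSq ((μ' ω : L → ℂ) w)
          + ∑ χ ∈ Finset.univ.filter (fun χ : IrrCharacter L => χ ∉ Finset.univ.image μ'),
              Complex.normSq ((χ : L → ℂ) w) := by
      rw [← Finset.sum_filter_add_sum_filter_not Finset.univ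
        (fun χ : IrrCharacter L => χ ∈ Finset.univ.image μ')]
      congr 1
      rw [← Finset.sum_image (f := fun χ : IrrCharacter L => Complex.normSq ((χ : L → ℂ) w))
        (fun a _ b _ h => hinj h)]
      apply Finset.sum_congr _ (fun _ _ => rfl)
      ext χ
      simp
    have hsumμ : ∑ ω : T →* ℂˣ, Complex.normSq ((μ' ω : L → ℂ) w)
        = (Nat.card T : ℝ) + ∑ ω : T →* ℂˣ, Complex.normSq (c ω) := by
      simp only [hnsq]
      rw [Finset.sum_add_distrib, Finset.sum_add_distrib, ← Finset.mul_sum, ← Complex.re_sum, hS]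
      simp [hcardLin]
    have hzero : ∑ ω : T →* ℂˣ, Complex.normSq (c ω)
        + ∑ χ ∈ Finset.univ.filter (fun χ : IrrCharacter L => χ ∉ Finset.univ.image μ'),
              Complex.normSq ((χ : L → ℂ) w) = 0 := by
      have := hcolR
      rw [hsplit, hsumμ] at this
      linarith
    obtain ⟨hz1, hz2⟩ := sum_nonneg_eq_zero _ _ _ _ (fun ω _ => Complex.normSq_nonneg _)
      (fun χ _ => Complex.normSq_nonneg _) hzero
    constructor
    · intro ω
      have := Complex.normSq_eq_zero.mp (hz1 ω (Finset.mem_univ _))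
      simp only [hc] at this
      linear_combination this
    · intro χ hχ
      apply Complex.normSq_eq_zero.mp
      apply hz2 χ
      rw [Finset.mem_filter]
      refine ⟨Finset.mem_univ _, ?_⟩
      rw [Finset.mem_image]
      rintro ⟨ω, -, h⟩
      exact hχ ω h.symm
  -- conclusion
  refine ⟨fun ω => (μ' ω : L → ℂ), δ, ?_, fun ω => (μ' ω).2, hδ1, ?_, ?_, ?_⟩
  · intro ω ω' h
    exact hinj (Subtype.ext h)
  · intro ω ω' h
    exact ⟨hδrel ω ω' h, hdiff ω ω' h⟩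
  · intro ω w hw
    have h1 := (hkey w hw).1 ω
    calc (μ' ω : L → ℂ) w = (δ ω * δ ω) * (μ' ω : L → ℂ) w := by rw [hδsq, one_mul]
      _ = δ ω * (δ ω * (μ' ω : L → ℂ) w) := by ring
      _ = δ ω * (ω w : ℂ) := by rw [h1]
  · intro θ hθ hne' w hw
    exact (hkey w hw).2 ⟨θ, hθ⟩ (fun ω h => hne' ω (congrArg Subtype.val h))

end Asm

/-- Let L be a finite group with K normal with complement W₁ ≠ 1 a cyclic Hall subgroup, and W₂ ≠ 1 a cyclic subgroup of K equal to C_K(x) for every non-identity x ∈ W₁, with W₁W₂ of odd order. Then there are a map μ from the linear characters of W = W₁ ⊔ W₂ to irreducible characters of L, injective, and a sign δ(ω) ∈ {1, −1} depending only on the values of ω on W₂, such that: for ω, ω' agreeing on W₂, the function induced to L from ω − ω' equals δ(ω) • (μ ω − μ ω'); μ ω x = δ(ω) ω x for x ∈ W outside W₂; every irreducible character of L not of the form μ ω vanishes on W outside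 W₂; and μ ω 1 − δ(ω) is an integer multiple of Nat.card W₁. -/
theorem result {L : Type*} [Group L] [Fintype L] (K W₁ W₂ : Subgroup L) [hK : K.Normal] (hKW₁ : K ⊓ W₁ = ⊥) (hKW₁' : K ⊔ W₁ = ⊤) (hW₁ : W₁ ≠ ⊥) (hW₁c : IsCyclic W₁) (hHall : Nat.Coprime (Nat.card W₁) W₁.index) (hW₂ : W₂ ≠ ⊥) (hW₂c : IsCyclic W₂) (hW₂K : W₂ ≤ K) (hC : ∀ x ∈ W₁, x ≠ 1 → K ⊓ Subgroup.centralizer ({x} : Set L) = W₂) (hodd : Odd (Nat.card ↥(W₁ ⊔ W₂))) : ∃ (μ : (↥(W₁ ⊔ W₂) →* ℂˣ) → (L → ℂ)) (δ : (↥(W₁ ⊔ W₂) →* ℂˣ) → ℂ), Function.Injective μ ∧ (∀ ω, Cfsg.IsIrrCharacter L (μ ω)) ∧ (∀ ω, δ ω = 1 ∨ δ ω = -1) ∧ (∀ ω ω' : ↥(W₁ ⊔ W₂) →* ℂˣ, (∀ w : ↥(W₁ ⊔ W₂), (w : L) ∈ W₂ → ω w = ω' w) → δ ω = δ ω' ∧ Cfsg.indFun (W₁ ⊔ W₂) (fun w => (ω w : ℂ) - (ω' w : ℂ)) = δ ω • (μ ω - μ ω')) ∧ (∀ ω, ∀ w : ↥(W₁ ⊔ W₂), (w : L) ∉ W₂ → μ ω w = δ ω * (ω w : ℂ)) ∧ (∀ θ : L → ℂ, Cfsg.IsIrrCharacter L θ → (∀ ω, θ ≠ μ ω) → ∀ w : ↥(W₁ ⊔ W₂), (w : L) ∉ W₂ → θ w =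 0) ∧ (∀ ω, ∃ n : ℤ, μ ω 1 - δ ω = n * (Nat.card W₁ : ℂ)) := by
  classical
  have hcomm12 := comm12 K W₁ W₂ hC
  have hdisj := disj12 K W₁ W₂ hKW₁ hW₂K
  have hcop := coprime12 K W₁ W₂ hKW₁ hKW₁' hHall hW₂K
  have hcommT := comm_sup W₁ W₂ hW₁c hW₂c hcomm12
  have hctl : ∀ a ∈ W₁ ⊔ W₂, a ∉ W₂ → ∀ g : L, g * a * g⁻¹ ∈ W₁ ⊔ W₂ → g ∈ W₁ ⊔ W₂ :=
    fun a ha ha2 g hg => control K W₁ W₂ hKW₁ hKW₁' hW₁c hW₂K hC hcop ha ha2 hg
  have hoff := ind_apply_off (W₁ ⊔ W₂) W₂ hcommT hctl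
  have hcent := card_centralizer_eq (W₁ ⊔ W₂) W₂ hcommT hctl
  obtain ⟨x, hx, hx1⟩ : ∃ x ∈ W₁, x ≠ 1 := by
    by_contra hcon
    push Not at hcon
    exact hW₁ ((Subgroup.eq_bot_iff_forall _).mpr hcon)
  have hW1off : ∀ a ∈ W₁, a ≠ 1 → a ∉ W₂ := by
    intro a ha ha1 ha2
    have : a ∈ W₁ ⊓ W₂ := ⟨ha, ha2⟩
    rw [hdisj, Subgroup.mem_bot] at this
    exact ha1 this
  obtain ⟨μ, δ, hinj, hirr, hδ, hdiff, hval, hvan⟩ := assembly (W₁ ⊔ W₂) W₂
    (fun a b => Subtype.ext (hcommT a a.2 b b.2)) hoff hcent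
    ⟨⟨x, (le_sup_left : W₁ ≤ W₁ ⊔ W₂) hx⟩, hW1off x hx hx1⟩
  refine ⟨μ, δ, hinj, hirr, hδ, hdiff, hval, hvan, ?_⟩
  intro ω
  haveI : Fintype W₁ := Fintype.ofFinite _
  set ω₁ : W₁ →* ℂˣ := resLeft W₁ W₂ ω with hω₁
  set φ : W₁ → ℂ := fun a => μ ω a - δ ω * (ω₁ a : ℂ) with hφ
  have hφoff : ∀ a : W₁, a ≠ 1 → φ a = 0 := by
    intro a ha
    have ha' : (a : L) ≠ 1 := fun h => ha (Subtype.ext h)
    have := hval ω ⟨a, (le_sup_left : W₁ ≤ W₁ ⊔ W₂) a.2⟩ (hW1off a a.2 ha')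
    simp only [hφ, hω₁]
    rw [resLeft_apply]
    rw [this]
    ring
  have hgen : IsGeneralizedCharacter W₁ φ := by
    have h1 : IsGeneralizedCharacter W₁ (fun a : W₁ => μ ω a) :=
      isGeneralizedCharacter_restrict W₁ (isGeneralizedCharacter_of_irr (hirr ω))
    have h2 : IsGeneralizedCharacter W₁ (linFun ω₁) :=
      isGeneralizedCharacter_of_irr (Cfsg.Agent.Lib.Helper83.isIrrCharacter_of_hom ω₁)
    rcases hδ ω with h | h
    · have : φ = (fun a : W₁ => μ ω a) - linFun ω₁ := by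
        funext a; simp [hφ, h, linFun_apply]
      rw [this]; exact isGeneralizedCharacter_sub h1 h2
    · have : φ = (fun a : W₁ => μ ω a) + linFun ω₁ := by
        funext a; simp [hφ, h, linFun_apply]
      rw [this]; exact isGeneralizedCharacter_add h1 h2
  obtain ⟨n, hn⟩ := classInner_genChar_int hgen
    (isGeneralizedCharacter_of_irr (Cfsg.Agent.Lib.Helper83.isIrrCharacter_one (G := W₁)))
  have hval1 : classInner φ (fun _ => (1 : ℂ)) = (Nat.card W₁ : ℂ)⁻¹ * φ 1 := by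
    unfold classInner
    congr 1
    rw [Finset.sum_eq_single (1 : W₁)]
    · simp
    · intro a _ ha; rw [hφoff a ha, zero_mul]
    · intro h; exact absurd (Finset.mem_univ _) h
  refine ⟨n, ?_⟩
  have hφ1 : φ 1 = μ ω 1 - δ ω := by simp [hφ]
  rw [← hφ1]
  have hne : (Nat.card W₁ : ℂ) ≠ 0 := by exact_mod_cast Nat.card_pos.ne'
  rw [hval1] at hn
  field_simp at hn
  linear_combination hn

end Cfsg.Agent.S1511
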