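import Cfsg.Statements.S1512
-- import your own Cfsg.Agent.* helpers here
import Mathlib.Tactic

set_option autoImplicit false
open Cfsg

namespace Cfsg.Agent.S1512

theorem card_class_dvd {K : Type*} [Group K] [Finite K] (C : ConjClasses K) :
    Nat.card {k : K // ConjClasses.mk k = C} ∣ Nat.card K := by
  classical
  obtain ⟨k₀, rfl⟩ := ConjClasses.exists_rep C
  have e : {k : K // ConjClasses.mk k = ConjClasses.mk k₀} ≃ ↥(MulAction.orbit (ConjAct K) k₀) := by
    rw [ConjAct.orbit_eq_carrier_conjClasses]
    exact Equiv.subtypeEquivRight (fun k => ConjClasses.mem_carrier_iff_mk_eq.symm)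
  rw [Nat.card_congr e]
  let _ : Fintype K := Fintype.ofFinite K
  let _ : Fintype (ConjAct K) := Fintype.ofFinite _
  let _ : Fintype ↥(MulAction.orbit (ConjAct K) k₀) := Fintype.ofFinite _
  let _ : Fintype ↥(MulAction.stabilizer (ConjAct K) k₀) := Fintype.ofFinite _
  have h := MulAction.card_orbit_mul_card_stabilizer_eq_card_group (ConjAct K) k₀
  have hK : Nat.card K = Fintype.card (ConjAct K) := by
    rw [Nat.card_eq_fintype_card]
    exact Fintype.card_congr ConjAct.toConjAct.toEquiv
  rw [hK, ← h, Nat.card_eq_fintype_card]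
  exact Dvd.intro _ rfl

section
variable {L : Type*} [Group L] (K : Subgroup L) [hK : K.Normal]

theorem map_conjNormal_pow (x : L) (C : ConjClasses K)
    (hC : ConjClasses.map (MulEquiv.toMonoidHom ((MulAut.conjNormal x : MulAut K))) C = C) (m : ℕ) :
    ConjClasses.map (MulEquiv.toMonoidHom ((MulAut.conjNormal (x ^ m) : MulAut K))) C = C := by
  induction m with
  | zero =>
    obtain ⟨k, rfl⟩ := ConjClasses.exists_rep C
    simp only [pow_zero, map_one]
    rfl
  | succ m ih =>
    obtain ⟨k, rfl⟩ := ConjClasses.exists_rep C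
    rw [pow_succ', map_mul]
    calc ConjClasses.map (MulEquiv.toMonoidHom (MulAut.conjNormal x * MulAut.conjNormal (x ^ m) : MulAut K))
          (ConjClasses.mk k)
        = ConjClasses.map (MulEquiv.toMonoidHom (MulAut.conjNormal x : MulAut K))
          (ConjClasses.map (MulEquiv.toMonoidHom (MulAut.conjNormal (x ^ m) : MulAut K))
            (ConjClasses.mk k)) := rfl
      _ = ConjClasses.mk k := by rw [ih, hC]

/-- an element of prime order `p` not dividing `|K|` preserving a class of `K` fixes a point of it -/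
theorem exists_fixed_in_class [Finite L] (y : L) (p : ℕ) [hp : Fact p.Prime] (hy : y ^ p = 1)
    (hpK : ¬ p ∣ Nat.card K) (C : ConjClasses K)
    (hC : ConjClasses.map (MulEquiv.toMonoidHom ((MulAut.conjNormal y : MulAut K))) C = C) :
    ∃ k : K, ConjClasses.mk k = C ∧ y * (k : L) = (k : L) * y := by
  classical
  let S := {k : K // ConjClasses.mk k = C}
  let _ : Fintype S := Fintype.ofFinite S
  let f : S → S := fun s => ⟨(MulAut.conjNormal y : MulAut K) s.1, by
    have h1 : ConjClasses.mk ((MulAut.conjNormal y : MulAut K) s.1)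
        = ConjClasses.map (MulEquiv.toMonoidHom ((MulAut.conjNormal y : MulAut K))) (ConjClasses.mk s.1) := rfl
    rw [h1, s.2, hC]⟩
  have hf : ∀ s : S, (((f s).1 : K) : L) = y * (s.1 : L) * y⁻¹ := fun s => MulAut.conjNormal_apply y s.1
  have hiter : ∀ (j : ℕ) (s : S), (((f^[j] s).1 : K) : L) = y ^ j * (s.1 : L) * (y ^ j)⁻¹ := by
    intro j
    induction j with
    | zero => intro s; simp
    | succ j ih =>
      intro s
      rw [Function.iterate_succ_apply', hf, ih s, pow_succ']
      group
  have hfp : @HPow.hPow (Function.End S) ℕ (Function.End S) _ f (p ^ 1) = 1 := by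
    rw [pow_one]
    funext s
    show f^[p] s = s
    apply Subtype.ext
    apply Subtype.ext
    rw [hiter p s, hy]
    simp
  have hmod := Equiv.Perm.card_fixedPoints_modEq (p := p) (n := 1) hfp
  have hS : ¬ p ∣ Fintype.card S := by
    intro h
    apply hpK
    have := card_class_dvd C
    rw [Nat.card_eq_fintype_card] at this
    exact h.trans this
  have hne : Fintype.card ↥(Function.fixedPoints f) ≠ 0 := by
    intro h0
    rw [h0] at hmod
    exact hS ((Nat.modEq_zero_iff_dvd).mp hmod)
  obtain ⟨⟨s, hs⟩⟩ := Fintype.card_pos_iff.mp (Nat.pos_of_ne_zero hne)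
  refine ⟨s.1, s.2, ?_⟩
  have hs' : f s = s := hs
  have h1 : (((f s).1 : K) : L) = (s.1 : L) := by rw [hs']
  rw [hf s] at h1
  calc y * (s.1 : L) = y * (s.1 : L) * y⁻¹ * y := by group
    _ = (s.1 : L) * y := by rw [h1]

end


/-- Let K be a normal subgroup of the finite group L and x a non-identity element whose order is coprime to the order of K, such that K ⊓ C_L(y) = W₂ for every non-identity element y of the cyclic group generated by x. Then the number of conjugacy classes of K mapped to themselves by conjugation by x is at most Nat.card W₂. -/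
theorem result {L : Type*} [Group L] [Finite L] (K W₂ : Subgroup L) [hK : K.Normal] (x : L) (hx1 : x ≠ 1) (hx : Nat.Coprime (orderOf x) (Nat.card K)) (hC : ∀ y ∈ Subgroup.zpowers x, y ≠ 1 → K ⊓ Subgroup.centralizer ({y} : Set L) = W₂) : Nat.card {C : ConjClasses K // ConjClasses.map (MulEquiv.toMonoidHom ((MulAut.conjNormal x : MulAut K))) C = C} ≤ Nat.card W₂ := by
  classical
  -- a prime p dividing the order of x
  have hn1 : orderOf x ≠ 1 := by
    intro h
    exact hx1 (orderOf_eq_one_iff.mp h)
  obtain ⟨p, hp, hpn⟩ := Nat.exists_prime_and_dvd hn1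
  have : Fact p.Prime := ⟨hp⟩
  have hn0 : 0 < orderOf x := orderOf_pos x
  obtain ⟨m, hm⟩ := hpn
  have hm0 : m ≠ 0 := by
    rintro rfl
    rw [mul_zero] at hm
    omega
  have hmlt : m < orderOf x := by
    rw [hm]
    have := hp.one_lt
    nlinarith [Nat.pos_of_ne_zero hm0]
  set y := x ^ m with hy
  have hy1 : y ≠ 1 := pow_ne_one_of_lt_orderOf hm0 hmlt
  have hyp : y ^ p = 1 := by
    rw [hy, ← pow_mul, mul_comm, ← hm, pow_orderOf_eq_one]
  have hymem : y ∈ Subgroup.zpowers x := Subgroup.pow_mem _ (Subgroup.mem_zpowers x) m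
  have hpK : ¬ p ∣ Nat.card K := by
    intro h
    have h1 : p ∣ orderOf x := ⟨m, hm⟩
    have := Nat.dvd_gcd h1 h
    rw [hx] at this
    exact hp.one_lt.ne' (Nat.dvd_one.mp this)
  have hW : K ⊓ Subgroup.centralizer ({y} : Set L) = W₂ := hC y hymem hy1
  -- choose a fixed representative in each invariant class
  have key : ∀ C : {C : ConjClasses K // ConjClasses.map (MulEquiv.toMonoidHom ((MulAut.conjNormal x : MulAut K))) C = C},
      ∃ k : K, ConjClasses.mk k = C.1 ∧ y * (k : L) = (k : L) * y := by
    intro C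
    exact exists_fixed_in_class K y p hyp hpK C.1 (map_conjNormal_pow K x C.1 C.2 m)
  choose g hg1 hg2 using key
  have hmem : ∀ C, ((g C : K) : L) ∈ W₂ := by
    intro C
    rw [← hW]
    exact ⟨(g C).2, Subgroup.mem_centralizer_singleton_iff.mpr (hg2 C).symm⟩
  apply Nat.card_le_card_of_injective (fun C => (⟨((g C : K) : L), hmem C⟩ : W₂))
  intro C C' h
  apply Subtype.ext
  simp only [Subtype.mk.injEq] at h
  have h1 : ((g C : K) : L) = ((g C' : K) : L) := h
  have h2 : g C = g C' := Subtype.ext h1
  rw [← hg1 C, ← hg1 C', h2]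

end Cfsg.Agent.S1512
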