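import Cfsg.Statements.S1513
import Cfsg.Agent.S0886
import Cfsg.Agent.Lib.Helper84.Brauer
import Cfsg.Agent.Lib.Helper84.Clifford
import Cfsg.Agent.Lib.Helper84.PFixed
import Cfsg.Agent.Lib.Helper01.Basic
import Cfsg.Agent.Lib.Helper84.CyclicQuotInd

set_option autoImplicit false
open Cfsg

namespace Cfsg.Agent.S1513

open Cfsg.Agent.Lib.Helper84

section

variable {L : Type*} [Group L] (K : Subgroup L) [hK : K.Normal]

/-- The permutation of the conjugacy classes of `K` induced by conjugation by `y⁻¹`. -/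
def classConj (y : L) : ConjClasses K ≃ ConjClasses K where
  toFun := ConjClasses.map (MulAut.conjNormal y⁻¹ : MulAut K).toMonoidHom
  invFun := ConjClasses.map (MulAut.conjNormal y : MulAut K).toMonoidHom
  left_inv := by
    intro C
    obtain ⟨k, rfl⟩ := ConjClasses.mk_surjective C
    change ConjClasses.mk ((MulAut.conjNormal y : MulAut K) ((MulAut.conjNormal y⁻¹ : MulAut K) k)) = _
    rw [← MulAut.mul_apply, ← map_mul, mul_inv_cancel, map_one, MulAut.one_apply]
  right_inv := by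
    intro C
    obtain ⟨k, rfl⟩ := ConjClasses.mk_surjective C
    change ConjClasses.mk ((MulAut.conjNormal y⁻¹ : MulAut K) ((MulAut.conjNormal y : MulAut K) k)) = _
    rw [← MulAut.mul_apply, ← map_mul, inv_mul_cancel, map_one, MulAut.one_apply]

theorem classConj_mk (y : L) (k : K) :
    classConj K y (ConjClasses.mk k) = ConjClasses.mk ((MulAut.conjNormal y⁻¹ : MulAut K) k) := rfl

variable [Finite L] (W₁ W₂ : Subgroup L)

theorem class_count (hcop : Nat.Coprime (Nat.card W₁) (Nat.card K)) (hW₂c : IsCyclic W₂)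
    (hW₂K : W₂ ≤ K)
    (hC : ∀ x ∈ W₁, x ≠ 1 → K ⊓ Subgroup.centralizer ({x} : Set L) = W₂)
    (y : L) (hy : y ∈ W₁) (hy1 : y ≠ 1) :
    Nat.card {C : ConjClasses K // classConj K y C = C} = Nat.card W₂ := by
  classical
  have hord : orderOf y ≠ 1 := by rwa [Ne, orderOf_eq_one_iff]
  obtain ⟨p, hp, hpy⟩ := Nat.exists_prime_and_dvd hord
  have : Fact p.Prime := ⟨hp⟩
  have hyW : orderOf y ∣ Nat.card W₁ := Subgroup.orderOf_dvd_natCard W₁ hy
  have hpK : ¬ p ∣ Nat.card K := by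
    intro h
    have h1 : p ∣ Nat.gcd (Nat.card W₁) (Nat.card K) := Nat.dvd_gcd (hpy.trans hyW) h
    rw [hcop] at h1
    exact hp.one_lt.ne' (Nat.dvd_one.mp h1)
  set z := y ^ (orderOf y / p) with hz
  have hzW : z ∈ W₁ := W₁.pow_mem hy _
  have hz1 : z ≠ 1 := by
    intro h
    have h2 : orderOf y ∣ orderOf y / p := orderOf_dvd_of_pow_eq_one h
    have hpos : 0 < orderOf y := orderOf_pos y
    have h3 : orderOf y / p < orderOf y := Nat.div_lt_self hpos hp.one_lt
    have h4 : 0 < orderOf y / p := Nat.div_pos (Nat.le_of_dvd hpos hpy) hp.pos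
    exact absurd (Nat.le_of_dvd h4 h2) (not_le.mpr h3)
  have hCz := hC z hzW hz1
  have hCy := hC y hy hy1
  have key : ∀ S : Set K, (∀ k ∈ S, (MulAut.conjNormal y⁻¹ : MulAut K) k ∈ S) →
      Nat.card S ∣ Nat.card K → ∃ k ∈ S, (k : L) ∈ W₂ := by
    intro S hS hcard
    obtain ⟨k, hkS, hk⟩ := exists_fixed_conj_of_coprime K y⁻¹ p (by rwa [orderOf_inv]) hpK S hS hcard
    refine ⟨k, hkS, ?_⟩
    rw [← hCz]
    refine ⟨k.2, ?_⟩
    change (k : L) ∈ Subgroup.centralizer ({z} : Set L)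
    rw [Subgroup.mem_centralizer_iff]
    intro h hh
    rw [Set.mem_singleton_iff] at hh
    rw [hh]
    rw [orderOf_inv, inv_pow, ← hz] at hk
    calc z * (k : L) = z * (z⁻¹ * (k : L)) * z := by rw [hk]; group
      _ = (k : L) * z := by group
  have hfix : ∀ (w : L) (hw : w ∈ W₂),
      (MulAut.conjNormal y⁻¹ : MulAut K) ⟨w, hW₂K hw⟩ = ⟨w, hW₂K hw⟩ := by
    intro w hw
    apply Subtype.ext
    rw [MulAut.conjNormal_apply]
    have h1 : w ∈ K ⊓ Subgroup.centralizer ({y} : Set L) := by rw [hCy]; exact hw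
    have h2 := (Subgroup.mem_centralizer_iff.mp h1.2) y (Set.mem_singleton y)
    change y⁻¹ * w * y⁻¹⁻¹ = w
    rw [inv_inv, mul_assoc, ← h2, inv_mul_cancel_left]
  have hcomm : ∀ a ∈ W₂, ∀ b ∈ W₂, a * b = b * a := by
    intro a ha b hb
    have := (IsCyclic.isMulCommutative (α := W₂)).is_comm.comm ⟨a, ha⟩ ⟨b, hb⟩
    exact congrArg Subtype.val this
  let f : W₂ → {C : ConjClasses K // classConj K y C = C} := fun w =>
    ⟨ConjClasses.mk ⟨(w : L), hW₂K w.2⟩, by rw [classConj_mk, hfix (w : L) w.2]⟩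
  have hbij : Function.Bijective f := by
    constructor
    · intro w w' hww
      have h1 : ConjClasses.mk (⟨(w : L), hW₂K w.2⟩ : K) = ConjClasses.mk ⟨(w' : L), hW₂K w'.2⟩ :=
        congrArg Subtype.val hww
      rw [ConjClasses.mk_eq_mk_iff_isConj, isConj_iff] at h1
      obtain ⟨c₀, hc₀⟩ := h1
      set wK : K := ⟨(w : L), hW₂K w.2⟩ with hwK
      set wK' : K := ⟨(w' : L), hW₂K w'.2⟩ with hwK'
      let S : Set K := {k | k * wK * k⁻¹ = wK'}
      have hS : ∀ k ∈ S, (MulAut.conjNormal y⁻¹ : MulAut K) k ∈ S := by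
        intro k hk
        change _ * wK * _⁻¹ = wK'
        have e1 : (MulAut.conjNormal y⁻¹ : MulAut K) wK = wK := hfix (w : L) w.2
        have e2 : (MulAut.conjNormal y⁻¹ : MulAut K) wK' = wK' := hfix (w' : L) w'.2
        have hk' : k * wK * k⁻¹ = wK' := hk
        conv_lhs => rw [← e1]
        rw [← map_inv, ← map_mul, ← map_mul, hk', e2]
      have hcard : Nat.card S ∣ Nat.card K := by
        let Z : Subgroup K := Subgroup.centralizer ({wK} : Set K)
        have hZ : ∀ c : K, c ∈ Z ↔ wK * c = c * wK := by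
          intro c
          rw [Subgroup.mem_centralizer_iff]
          constructor
          · intro h; exact h wK (Set.mem_singleton _)
          · intro h x hx
            rw [Set.mem_singleton_iff] at hx
            rw [hx]; exact h
        let e : Z ≃ S :=
          { toFun := fun c => ⟨c₀ * c.1, by
              change c₀ * c.1 * wK * (c₀ * c.1)⁻¹ = wK'
              have := (hZ c.1).mp c.2
              rw [mul_assoc c₀, ← this, ← hc₀]
              group⟩
            invFun := fun k => ⟨c₀⁻¹ * k.1, by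
              rw [hZ]
              have hk : k.1 * wK * k.1⁻¹ = wK' := k.2
              have : k.1 * wK * k.1⁻¹ = c₀ * wK * c₀⁻¹ := by rw [hk, hc₀]
              calc wK * (c₀⁻¹ * k.1) = c₀⁻¹ * (c₀ * wK * c₀⁻¹) * k.1 := by group
                _ = c₀⁻¹ * k.1 * wK := by rw [← this]; group⟩
            left_inv := by intro c; apply Subtype.ext; simp
            right_inv := by intro k; apply Subtype.ext; simp }
        rw [← Nat.card_congr e]
        exact Subgroup.card_subgroup_dvd_card Z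
      obtain ⟨k, hkS, hkW⟩ := key S hS hcard
      have hk' : k * wK * k⁻¹ = wK' := hkS
      have h2 : (k : L) * (w : L) * (k : L)⁻¹ = (w' : L) := by
        have := congrArg (Subtype.val : K → L) hk'
        simpa [hwK, hwK'] using this
      apply Subtype.ext
      rw [← h2, hcomm _ hkW _ w.2, mul_inv_cancel_right]
    · rintro ⟨C, hCfix⟩
      let S : Set K := {c | ConjClasses.mk c = C}
      have hS : ∀ k ∈ S, (MulAut.conjNormal y⁻¹ : MulAut K) k ∈ S := by
        intro k hk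
        change ConjClasses.mk _ = C
        rw [← classConj_mk, (hk : ConjClasses.mk k = C), hCfix]
      have hcard : Nat.card S ∣ Nat.card K := by
        obtain ⟨k₀, rfl⟩ := ConjClasses.mk_surjective C
        have h1 : S = MulAction.orbit (ConjAct K) k₀ := by
          rw [ConjAct.orbit_eq_carrier_conjClasses]
          ext c
          exact ConjClasses.mem_carrier_iff_mk_eq.symm
        rw [h1, Nat.card_coe_set_eq, ← MulAction.index_stabilizer]
        exact Subgroup.index_dvd_card _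
      obtain ⟨k, hkS, hkW⟩ := key S hS hcard
      refine ⟨⟨(k : L), hkW⟩, ?_⟩
      apply Subtype.ext
      exact hkS
  exact (Nat.card_eq_of_bijective f hbij).symm

end

section Chars

universe u

variable {L : Type u} [Group L] [Fintype L] (K : Subgroup L) [hK : K.Normal]

/-- Conjugation by `y` as a map on the irreducible characters of `K`. -/
noncomputable def irrConj (y : L) : IrrCharacter K → IrrCharacter K :=
  fun χ => ⟨Cfsg.Agent.Lib.Helper84.conjFun K y χ.1, isIrrCharacter_conjFun K y χ.2⟩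

theorem irrConj_eq_iff (y : L) (χ : IrrCharacter K) :
    irrConj K y χ = χ ↔ Cfsg.Agent.Lib.Helper84.conjFun K y χ.1 = χ.1 := by
  constructor
  · intro h; exact congrArg Subtype.val h
  · intro h; exact Subtype.ext h

theorem irrConj_compat (y : L) (χ : IrrCharacter K) (g g' : K)
    (h : ConjClasses.mk g' = classConj K y (ConjClasses.mk g)) :
    ((irrConj K y χ : IrrCharacter K) : K → ℂ) g' = (χ : K → ℂ) g := by
  rw [classConj_mk, ConjClasses.mk_eq_mk_iff_isConj, isConj_iff] at h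
  obtain ⟨c, hc⟩ := h
  have hcl := Cfsg.Agent.Lib.Helper83.isClassFunction_irr (irrConj K y χ)
  have h1 := hcl g' c
  rw [hc] at h1
  rw [← h1]
  change Cfsg.Agent.Lib.Helper84.conjFun K y χ.1 _ = _
  rw [Cfsg.Agent.Lib.Helper84.conjFun_apply]
  refine congrArg χ.1 ?_
  apply Subtype.ext
  simp [mul_assoc]

omit [Fintype L] in
theorem conjFun_pow_eq (y : L) (θ : K → ℂ) (h : Cfsg.Agent.Lib.Helper84.conjFun K y θ = θ) (n : ℕ) :
    Cfsg.Agent.Lib.Helper84.conjFun K (y ^ n) θ = θ := by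
  induction n with
  | zero => rw [pow_zero, Cfsg.Agent.Lib.Helper84.conjFun_one]
  | succ n ih => rw [pow_succ, Cfsg.Agent.Lib.Helper84.conjFun_mul, ih, h]

variable (W₁ W₂ : Subgroup L)

theorem irr_fix_count (hcop : Nat.Coprime (Nat.card W₁) (Nat.card K)) (hW₂c : IsCyclic W₂)
    (hW₂K : W₂ ≤ K)
    (hC : ∀ x ∈ W₁, x ≠ 1 → K ⊓ Subgroup.centralizer ({x} : Set L) = W₂)
    (y : L) (hy : y ∈ W₁) (hy1 : y ≠ 1) :
    Nat.card {χ : IrrCharacter K // irrConj K y χ = χ} = Nat.card W₂ :=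
  (brauer_pair (irrConj K y) (classConj K y) (irrConj_compat K y)).trans
    (class_count K W₁ W₂ hcop hW₂c hW₂K hC y hy hy1)

theorem invariant_of_fixed (hcop : Nat.Coprime (Nat.card W₁) (Nat.card K)) (hW₂c : IsCyclic W₂)
    (hW₂K : W₂ ≤ K)
    (hC : ∀ x ∈ W₁, x ≠ 1 → K ⊓ Subgroup.centralizer ({x} : Set L) = W₂)
    (x₁ : L) (hx₁ : x₁ ∈ W₁) (hgen : ∀ y ∈ W₁, ∃ n : ℕ, x₁ ^ n = y) (hx₁1 : x₁ ≠ 1)
    (θ : IrrCharacter K) (y : L) (hy : y ∈ W₁) (hy1 : y ≠ 1) (hθ : Cfsg.Agent.Lib.Helper84.conjFun K y θ.1 = θ.1) :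
    Cfsg.Agent.Lib.Helper84.conjFun K x₁ θ.1 = θ.1 := by
  classical
  have : Fintype (IrrCharacter K) := Fintype.ofFinite _
  set A : Finset (IrrCharacter K) := Finset.univ.filter (fun χ => irrConj K x₁ χ = χ) with hA
  set B : Finset (IrrCharacter K) := Finset.univ.filter (fun χ => irrConj K y χ = χ) with hB
  have hAB : A ⊆ B := by
    intro χ hχ
    rw [hA, Finset.mem_filter] at hχ
    rw [hB, Finset.mem_filter]
    refine ⟨Finset.mem_univ _, ?_⟩
    rw [irrConj_eq_iff] at hχ ⊢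
    obtain ⟨n, rfl⟩ := hgen y hy
    exact conjFun_pow_eq K x₁ χ.1 hχ.2 n
  have hAc : A.card = Nat.card W₂ := by
    rw [← irr_fix_count K W₁ W₂ hcop hW₂c hW₂K hC x₁ hx₁ hx₁1, Nat.card_eq_fintype_card,
      Fintype.card_subtype]
  have hBc : B.card = Nat.card W₂ := by
    rw [← irr_fix_count K W₁ W₂ hcop hW₂c hW₂K hC y hy hy1, Nat.card_eq_fintype_card,
      Fintype.card_subtype]
  have hEq : A = B := Finset.eq_of_subset_of_card_le hAB (by rw [hAc, hBc])
  have hθB : θ ∈ B := by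
    rw [hB, Finset.mem_filter]
    exact ⟨Finset.mem_univ _, (irrConj_eq_iff K y θ).mpr hθ⟩
  rw [← hEq, hA, Finset.mem_filter] at hθB
  exact (irrConj_eq_iff K x₁ θ).mp hθB.2

end Chars

/-- Let L be a finite group with K normal with complement W₁ ≠ 1 a cyclic Hall subgroup, and W₂ ≠ 1 a cyclic subgroup of K equal to C_K(x) for every non-identity x ∈ W₁, with W₁W₂ of odd order. For an irreducible character θ of K: if θ is not fixed under conjugation by some element of W₁, then the function induced from θ to L is an irreducible character of L; and the irreducible characters of K fixed by all of W₁ are exactly Nat.card W₂ in number, each inducing to the sum of Nat.card W₁ pairwise distinct irreducible characters of L. -/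
theorem result {L : Type*} [Group L] [Fintype L] (K W₁ W₂ : Subgroup L) [hK : K.Normal] (hKW₁ : K ⊓ W₁ = ⊥) (hKW₁' : K ⊔ W₁ = ⊤) (hW₁ : W₁ ≠ ⊥) (hW₁c : IsCyclic W₁) (hHall : Nat.Coprime (Nat.card W₁) W₁.index) (hW₂ : W₂ ≠ ⊥) (hW₂c : IsCyclic W₂) (hW₂K : W₂ ≤ K) (hC : ∀ x ∈ W₁, x ≠ 1 → K ⊓ Subgroup.centralizer ({x} : Set L) = W₂) (hodd : Odd (Nat.card ↥(W₁ ⊔ W₂))) : (∀ θ : K → ℂ, Cfsg.IsIrrCharacter K θ → (∃ x ∈ W₁, (fun k : K => θ ⟨x * k * x⁻¹, hK.conj_mem (k : L) k.2 x⟩) ≠ θ) → Cfsg.IsIrrCharacter L (Cfsg.indFun K θ)) ∧ Nat.card {θ : Cfsg.IrrCharacter K // ∀ x ∈ W₁, (fun k : K => (θ : K → ℂ) ⟨x * k * x⁻¹, hK.conj_mem (k : L) k.2 x⟩) = θ} = Nat.card W₂ ∧ (∀ θ : K → ℂ, Cfsg.IsIrrCharacter K θ → (∀ x ∈ W₁, (fun k : K => θ ⟨x * k * x⁻¹, hK.conj_mem (k : L) k.2 x⟩) = θ) → ∃ C : Finset (L → ℂ), C.card = Nat.card W₁ ∧ (∀ μ ∈ C, Cfsg.IsIrrCharacter L μ) ∧ Cfsg.indFun K θ = ∑ μ ∈ C, μ) := by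
  classical
  have hbot : Nat.card (K ⊓ W₁ : Subgroup L) = 1 := by rw [hKW₁]; exact Subgroup.card_bot
  have hidx : K.index = Nat.card W₁ := by
    have := Cfsg.Agent.Lib.Helper01.card_inf_mul_index_of_sup_eq_top K W₁
      (by rw [sup_comm]; exact hKW₁')
    rwa [hbot, one_mul] at this
  have hLcard : Nat.card L = Nat.card K * Nat.card W₁ := by
    have := Cfsg.Agent.Lib.Helper01.card_sup_mul_card_inf K W₁
    rw [hbot, mul_one, sup_comm, hKW₁', Subgroup.card_top] at this
    exact this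
  have hW₁idx : W₁.index = Nat.card K := by
    have := W₁.card_mul_index
    rw [hLcard, mul_comm (Nat.card K)] at this
    exact Nat.eq_of_mul_eq_mul_left Nat.card_pos this
  have hcop : Nat.Coprime (Nat.card W₁) (Nat.card K) := by rwa [hW₁idx] at hHall
  obtain ⟨x₁', hx₁'⟩ := IsCyclic.exists_monoid_generator (α := W₁)
  set x₁ : L := x₁'.1 with hx₁def
  have hx₁ : x₁ ∈ W₁ := x₁'.2
  have hgen : ∀ y ∈ W₁, ∃ n : ℕ, x₁ ^ n = y := by
    intro y hy
    obtain ⟨n, hn⟩ := hx₁' ⟨y, hy⟩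
    refine ⟨n, ?_⟩
    have h2 := congrArg (Subtype.val : W₁ → L) hn
    simpa using h2
  have hx₁1 : x₁ ≠ 1 := by
    intro h
    apply hW₁
    rw [Subgroup.eq_bot_iff_forall]
    intro y hy
    obtain ⟨n, rfl⟩ := hgen y hy
    rw [h, one_pow]
  have hinvW : ∀ θ : K → ℂ, Cfsg.Agent.Lib.Helper84.conjFun K x₁ θ = θ →
      ∀ x ∈ W₁, Cfsg.Agent.Lib.Helper84.conjFun K x θ = θ := by
    intro θ h x hx
    obtain ⟨n, rfl⟩ := hgen x hx
    exact conjFun_pow_eq K x₁ θ h n
  have hKstab : ∀ θ : K → ℂ, Cfsg.IsIrrCharacter K θ → ∀ k ∈ K,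
      Cfsg.Agent.Lib.Helper84.conjFun K k θ = θ := by
    intro θ hθ k hk
    funext n
    rw [Cfsg.Agent.Lib.Helper84.conjFun_apply]
    have h2 : θ (⟨k, hk⟩ * n * ⟨k, hk⟩⁻¹) = θ n :=
      Cfsg.Agent.Lib.Helper83.isClassFunction_irr ⟨θ, hθ⟩ n ⟨k, hk⟩
    rw [← h2]
    rfl
  have hdecomp : ∀ g : L, ∃ k ∈ K, ∃ w ∈ W₁, k * w = g := by
    intro g
    have hmem : g ∈ (↑(K ⊔ W₁) : Set L) := by rw [hKW₁']; exact Set.mem_univ g
    rw [Subgroup.normal_mul] at hmem
    exact Set.mem_mul.mp hmem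
  refine ⟨?_, ?_, ?_⟩
  · intro θ hθ ⟨x, hx, hxθ⟩
    have hxθ' : Cfsg.Agent.Lib.Helper84.conjFun K x θ ≠ θ := hxθ
    have hT : ∀ g : L, g ∈ K ↔ ∀ n : K, Cfsg.Agent.Lib.Helper84.conjFun K g θ n = θ n := by
      intro g
      constructor
      · intro hg n; exact congrFun (hKstab θ hθ g hg) n
      · intro hg
        have hg' : Cfsg.Agent.Lib.Helper84.conjFun K g θ = θ := funext hg
        obtain ⟨k, hk, w, hw, rfl⟩ := hdecomp g
        rw [Cfsg.Agent.Lib.Helper84.conjFun_mul, hKstab θ hθ k hk] at hg'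
        by_cases hw1 : w = 1
        · rw [hw1, mul_one]; exact hk
        · exfalso
          have h1 := invariant_of_fixed K W₁ W₂ hcop hW₂c hW₂K hC x₁ hx₁ hgen hx₁1 ⟨θ, hθ⟩ w hw
            hw1 hg'
          exact hxθ' (hinvW θ h1 x hx)
    have h1 : classInner (resFun K K le_rfl θ) θ ≠ 0 := by
      have : resFun K K le_rfl θ = θ := rfl
      rw [this, Cfsg.Agent.Lib.Helper83.irr_inner_self ⟨θ, hθ⟩]
      exact one_ne_zero
    exact isIrrCharacter_indFun_inertia K K le_rfl hθ hT hθ h1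
  · rw [← irr_fix_count K W₁ W₂ hcop hW₂c hW₂K hC x₁ hx₁ hx₁1]
    apply Nat.card_congr
    apply Equiv.subtypeEquivRight
    intro θ
    rw [irrConj_eq_iff]
    constructor
    · intro h; exact h x₁ hx₁
    · intro h x hx; exact hinvW θ.1 h x hx
  · intro θ hθ hinv
    have hcyc : IsCyclic (L ⧸ K) := by
      have hsurj : Function.Surjective ((QuotientGroup.mk' K).comp W₁.subtype) := by
        intro q
        obtain ⟨g, rfl⟩ := QuotientGroup.mk_surjective q
        obtain ⟨k, hk, w, hw, rfl⟩ := hdecomp g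
        refine ⟨⟨w, hw⟩, ?_⟩
        change (QuotientGroup.mk w : L ⧸ K) = QuotientGroup.mk (k * w)
        rw [QuotientGroup.mk_mul, (QuotientGroup.eq_one_iff k).mpr hk, one_mul]
      exact isCyclic_of_surjective _ hsurj
    have hinv' : ∀ g : L, Cfsg.Agent.Lib.Helper84.conjFun K g θ = θ := by
      intro g
      obtain ⟨k, hk, w, hw, rfl⟩ := hdecomp g
      rw [Cfsg.Agent.Lib.Helper84.conjFun_mul, hKstab θ hθ k hk]
      exact hinv w hw
    obtain ⟨C, hCc, hCirr, hCsum⟩ := indFun_eq_sum_of_cyclic_quotient K hcyc hθ hinv'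
    exact ⟨C, by rw [hCc, hidx], hCirr, hCsum⟩

end Cfsg.Agent.S1513
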