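import Cfsg.Statements.S1518
-- import your own Cfsg.Agent.* helpers here
import Cfsg.Agent.S1501
import Cfsg.Agent.S1500
import Cfsg.Agent.Lib.Helper34.GenChar2
import Cfsg.Agent.Lib.Helper05.CharOrtho
import Cfsg.Agent.Lib.Helper05.CharDecomp
import Cfsg.Agent.Lib.Helper05.CharBasic

set_option autoImplicit false
open Cfsg

namespace Cfsg.Agent.S1518
section Aux

open Cfsg.Agent.Lib.Helper34
open scoped ComplexConjugate

variable {G : Type*} [Group G] [Fintype G] {A : Set G} {L : Subgroup G} [Fintype L]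
  {H : G → Subgroup G}

omit [Fintype G] [Fintype L] in
theorem dade_conjFun (α : L → ℂ) :
    dadeIsometry A L H (conjFun α) = conjFun (dadeIsometry A L H α) := by
  classical
  funext g
  by_cases h : ∃ a : ↥L, (a : G) ∈ A ∧ ∃ x : G, ∃ u ∈ H (a : G), x * g * x⁻¹ = (a : G) * u
  · simp only [dadeIsometry, conjFun, dif_pos h]
  · simp only [dadeIsometry, conjFun, dif_neg h, map_zero]

omit [Fintype G] [Fintype L] in
theorem dade_sub (α β : L → ℂ) :
    dadeIsometry A L H (α - β) = dadeIsometry A L H α - dadeIsometry A L H β := by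
  classical
  funext g
  by_cases h : ∃ a : ↥L, (a : G) ∈ A ∧ ∃ x : G, ∃ u ∈ H (a : G), x * g * x⁻¹ = (a : G) * u
  · simp only [dadeIsometry, Pi.sub_apply, dif_pos h]
  · simp only [dadeIsometry, Pi.sub_apply, dif_neg h, sub_zero]

omit [Fintype L] in
theorem dade_apply_one (hD : DadeHypothesis A L H) (α : L → ℂ) : dadeIsometry A L H α 1 = 0 := by
  apply Cfsg.Agent.S1500.dade_apply_not_mem α 1 _ hD.subset
  rintro ⟨a, ha, u, hu, x, hx⟩
  have h1 : a * u = 1 := by
    rw [← hx]
    group
  have h2 : u = a⁻¹ := by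
    rw [eq_inv_iff_mul_eq_one, mul_eq_one_comm]
    exact h1
  have h3 : u = 1 := dade_H_inf_L hD ha hu (by rw [h2]; exact L.inv_mem (hD.subset ha))
  rw [h3, mul_one] at h1
  rw [h1] at ha
  exact hD.one_not_mem ha

theorem conjFun_sub_apply {X : Type*} (α β : X → ℂ) : conjFun (α - β) = conjFun α - conjFun β := by
  funext x
  simp [conjFun]

theorem conjFun_conjFun {X : Type*} (α : X → ℂ) : conjFun (conjFun α) = α := by
  funext x
  simp [conjFun]

theorem key (hD : DadeHypothesis A L H) (χ : L → ℂ) (hχ : IsIrrCharacter L χ)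
    (hsupp : ∀ x : L, x ≠ 1 → (x : G) ∉ A → χ x = 0) :
    ∃ μ : G → ℂ, IsIrrCharacter G μ ∧
      dadeIsometry A L H (χ - conjFun χ) = μ - conjFun μ := by
  classical
  have hχ' : IsIrrCharacter L (conjFun χ) := Cfsg.Agent.Lib.Helper05.isIrrCharacter_conj hχ
  by_cases hreal : conjFun χ = χ
  · refine ⟨fun _ => 1, Cfsg.Agent.Lib.Helper05.isIrrCharacter_one, ?_⟩
    rw [hreal, sub_self]
    funext g
    have : dadeIsometry A L H (0 : L → ℂ) g = 0 := by
      unfold dadeIsometry
      split_ifs <;> rfl
    rw [this]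
    simp [conjFun]
  · set α := χ - conjFun χ with hα
    have hαg : IsGeneralizedCharacter L α :=
      isGeneralizedCharacter_sub (isGeneralizedCharacter_of_irr hχ) (isGeneralizedCharacter_of_irr hχ')
    have hαc : IsClassFunction L α := isGeneralizedCharacter_isClassFunction hαg
    have hαA : ∀ x : L, (x : G) ∉ A → α x = 0 := by
      intro x hx
      by_cases hx1 : x = 1
      · rw [hα, hx1]
        simp only [Pi.sub_apply, conjFun]
        obtain ⟨n, hn, hd⟩ := Cfsg.Agent.Lib.Helper05.exists_pos_degree hχ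
        rw [hd]
        simp
      · rw [hα]
        simp only [Pi.sub_apply, conjFun]
        rw [hsupp x hx1 hx]
        simp
    have hτg : IsGeneralizedCharacter G (dadeIsometry A L H α) :=
      Cfsg.Agent.S1501.result A L H hD α hαg hαA
    have hnorm : classInner (dadeIsometry A L H α) (dadeIsometry A L H α) = 2 := by
      rw [(Cfsg.Agent.S1500.result A L H hD α hαc hαA).1 α hαc hαA, hα]
      rw [classInner_sub_left, classInner_sub_right, classInner_sub_right,
        Cfsg.Agent.Lib.Helper05.classInner_irr_self hχ, Cfsg.Agent.Lib.Helper05.classInner_irr_self hχ',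
        Cfsg.Agent.Lib.Helper05.classInner_irr_ne hχ hχ' (fun h => hreal h.symm),
        Cfsg.Agent.Lib.Helper05.classInner_irr_ne hχ' hχ hreal]
      norm_num
    obtain ⟨μ₁, μ₂, hμ₁, hμ₂, hne, heq⟩ :=
      exists_sub_irr_of_norm_two hτg hnorm (dade_apply_one hD α)
    -- conjugation
    have hconj : conjFun (dadeIsometry A L H α) = -dadeIsometry A L H α := by
      rw [← dade_conjFun]
      have : conjFun α = conjFun χ - χ := by
        rw [hα, conjFun_sub_apply, conjFun_conjFun]
      rw [this]
      have h2 : conjFun χ - χ = -α := by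
        rw [hα]
        ring
      rw [h2]
      have h3 : -α = (0 : L → ℂ) - α := by ring
      rw [h3, dade_sub]
      have : dadeIsometry A L H (0 : L → ℂ) = 0 := by
        funext g
        unfold dadeIsometry
        split_ifs <;> rfl
      rw [this]
      ring
    have hμ₁' : IsIrrCharacter G (conjFun μ₁) := Cfsg.Agent.Lib.Helper05.isIrrCharacter_conj hμ₁
    have hμ₂' : IsIrrCharacter G (conjFun μ₂) := Cfsg.Agent.Lib.Helper05.isIrrCharacter_conj hμ₂
    rw [heq, conjFun_sub_apply] at hconj
    -- inner product with `μ₁`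
    have h4 : classInner (conjFun μ₁ - conjFun μ₂) μ₁ = classInner (-(μ₁ - μ₂)) μ₁ :=
      congrArg (fun f => classInner f μ₁) hconj
    rw [classInner_sub_left, Cfsg.Agent.Lib.Helper05.classInner_irr hμ₁' hμ₁,
      Cfsg.Agent.Lib.Helper05.classInner_irr hμ₂' hμ₁] at h4
    have h5 : classInner (-(μ₁ - μ₂)) μ₁ = -1 := by
      have : -(μ₁ - μ₂) = μ₂ - μ₁ := by ring
      rw [this, classInner_sub_left, Cfsg.Agent.Lib.Helper05.classInner_irr_self hμ₁,
        Cfsg.Agent.Lib.Helper05.classInner_irr_ne hμ₂ hμ₁ (fun h => hne h.symm)]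
      norm_num
    rw [h5] at h4
    have h6 : conjFun μ₂ = μ₁ := by
      by_contra h
      rw [if_neg h] at h4
      split_ifs at h4 <;> norm_num at h4
    refine ⟨μ₁, hμ₁, ?_⟩
    rw [heq, ← h6, conjFun_conjFun]

end Aux

/-- Under the Dade hypothesis for (A, L, H): if χ is an irreducible character of L vanishing at every non-identity element of L outside A, then the Dade image of χ − conj χ equals μ − conj μ for some irreducible character μ of G. -/
theorem result {G : Type*} [Group G] [Fintype G] (A : Set G) (L : Subgroup G) [Fintype L] (H : G → Subgroup G) (hD : Cfsg.DadeHypothesis A L H) (χ : L → ℂ) (hχ : Cfsg.IsIrrCharacter L χ) (hsupp : ∀ x : L, x ≠ 1 → (x : G) ∉ A → χ x = 0) : ∃ μ : G → ℂ, Cfsg.IsIrrCharacter G μ ∧ Cfsg.dadeIsometry A L H (χ - Cfsg.conjFun χ) = μ - Cfsg.conjFun μ := by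
  exact key hD χ hχ hsupp

end Cfsg.Agent.S1518
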