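import Cfsg.Statements.S1525
-- import your own Cfsg.Agent.* helpers here
import Mathlib
import Cfsg.Agent.Lib.Helper34.DadeCount

set_option autoImplicit false
open Cfsg

namespace Cfsg.Agent.S1525

open Cfsg.Agent.Lib.Helper34

theorem finsum_mem_eq_sum_filter' {α M : Type*} [Fintype α] [AddCommMonoid M] (s : Set α)
    [DecidablePred (· ∈ s)] (f : α → M) :
    ∑ᶠ i ∈ s, f i = ∑ i ∈ Finset.univ.filter (· ∈ s), f i := by
  rw [finsum_mem_eq_finite_toFinset_sum f (Set.toFinite s)]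
  apply Finset.sum_congr _ (fun _ _ => rfl)
  ext x
  simp

/-- Cauchy-Schwarz for an average -/
theorem norm_avg_sq_le {ι : Type*} (s : Finset ι) (z : ι → ℂ) (hs : 0 < s.card) :
    ‖((s.card : ℂ))⁻¹ * ∑ i ∈ s, z i‖ ^ 2 ≤ ((s.card : ℝ))⁻¹ * ∑ i ∈ s, ‖z i‖ ^ 2 := by
  have hn : (0 : ℝ) < s.card := by exact_mod_cast hs
  rw [norm_mul, norm_inv, Complex.norm_natCast, mul_pow]
  have h1 : ‖∑ i ∈ s, z i‖ ≤ ∑ i ∈ s, ‖z i‖ := norm_sum_le s z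
  have h2 : (∑ i ∈ s, ‖z i‖) ^ 2 ≤ s.card * ∑ i ∈ s, ‖z i‖ ^ 2 := sq_sum_le_card_mul_sum_sq
  have h3 : ‖∑ i ∈ s, z i‖ ^ 2 ≤ s.card * ∑ i ∈ s, ‖z i‖ ^ 2 := by
    have h0 : 0 ≤ ‖∑ i ∈ s, z i‖ := norm_nonneg _
    calc ‖∑ i ∈ s, z i‖ ^ 2 ≤ (∑ i ∈ s, ‖z i‖) ^ 2 := by
          apply pow_le_pow_left₀ h0 h1
      _ ≤ s.card * ∑ i ∈ s, ‖z i‖ ^ 2 := h2
  have h4 : ((s.card : ℝ))⁻¹ ^ 2 * ‖∑ i ∈ s, z i‖ ^ 2 ≤
      ((s.card : ℝ))⁻¹ ^ 2 * (s.card * ∑ i ∈ s, ‖z i‖ ^ 2) :=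
    mul_le_mul_of_nonneg_left h3 (by positivity)
  calc ((s.card : ℝ))⁻¹ ^ 2 * ‖∑ i ∈ s, z i‖ ^ 2
      ≤ ((s.card : ℝ))⁻¹ ^ 2 * (s.card * ∑ i ∈ s, ‖z i‖ ^ 2) := h4
    _ = ((s.card : ℝ))⁻¹ * ∑ i ∈ s, ‖z i‖ ^ 2 := by
        field_simp

/-- Under the Dade hypothesis for (A, L, H), let χ be a class function of G and let ψ be a function on L whose value at each a ∈ A is the average of χ over the coset a·H(a). Then (1/|G|) Σ |χ g|² over the elements g of G conjugate into some coset a·H(a) with a ∈ A is at least (1/|L|) Σ_{a ∈ A ∩ L} |ψ a|². -/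
theorem result {G : Type*} [Group G] [Fintype G] (A : Set G) (L : Subgroup G) [Fintype L] (H : G → Subgroup G) (hD : Cfsg.DadeHypothesis A L H) (χ : G → ℂ) (hχ : Cfsg.IsClassFunction G χ) (ψ : L → ℂ) (hψ : ∀ a : L, (a : G) ∈ A → ψ a = (Nat.card (H a) : ℂ)⁻¹ * ∑ᶠ u ∈ (H a : Set G), χ (a * u)) : (Nat.card L : ℝ)⁻¹ * ∑ᶠ a ∈ {a : L | (a : G) ∈ A}, ‖ψ a‖ ^ 2 ≤ (Nat.card G : ℝ)⁻¹ * ∑ᶠ g ∈ {g : G | ∃ a ∈ A, ∃ u ∈ H a, ∃ x : G, x * g * x⁻¹ = a * u}, ‖χ g‖ ^ 2 := by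
  classical
  rw [finsum_mem_eq_sum_filter', finsum_mem_eq_sum_filter']
  have hsum := dade_sum (K := ℝ) hD (fun g => ‖χ g‖ ^ 2) (fun g h => by rw [hχ g h])
  have hL : (0 : ℝ) < Nat.card L := by
    have : 0 < Nat.card L := Nat.card_pos
    exact_mod_cast this
  have hG : (0 : ℝ) < Nat.card G := by
    have : 0 < Nat.card G := Nat.card_pos
    exact_mod_cast this
  -- each term
  have hterm : ∀ a ∈ Finset.univ.filter (fun a : L => (a : G) ∈ A),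
      ‖ψ a‖ ^ 2 ≤ (Nat.card (H a) : ℝ)⁻¹ *
        ∑ u ∈ Finset.univ.filter (fun u : G => u ∈ H a), ‖χ (a * u)‖ ^ 2 := by
    intro a ha
    have haA : (a : G) ∈ A := (Finset.mem_filter.mp ha).2
    rw [hψ a haA, finsum_mem_eq_sum_filter']
    have hcard : (Finset.univ.filter (fun u : G => u ∈ (H a : Set G))).card = Nat.card (H a) := by
      rw [Nat.card_eq_fintype_card, Fintype.card_subtype]
      rfl
    have hpos : 0 < (Finset.univ.filter (fun u : G => u ∈ (H a : Set G))).card := by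
      rw [hcard]; exact Nat.card_pos
    have := norm_avg_sq_le (Finset.univ.filter (fun u : G => u ∈ (H a : Set G)))
      (fun u => χ (a * u)) hpos
    rw [hcard] at this
    exact this
  have hle : ∑ a ∈ Finset.univ.filter (fun a : L => (a : G) ∈ A), ‖ψ a‖ ^ 2 ≤
      ∑ a ∈ Finset.univ.filter (fun a : L => (a : G) ∈ A), (Nat.card (H a) : ℝ)⁻¹ *
        ∑ u ∈ Finset.univ.filter (fun u : G => u ∈ H a), ‖χ (a * u)‖ ^ 2 :=
    Finset.sum_le_sum hterm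
  have h5 : (Nat.card L : ℝ)⁻¹ * ∑ a ∈ Finset.univ.filter (fun a : L => (a : G) ∈ A),
      (Nat.card (H a) : ℝ)⁻¹ * ∑ u ∈ Finset.univ.filter (fun u : G => u ∈ H a), ‖χ (a * u)‖ ^ 2
      = (Nat.card G : ℝ)⁻¹ * ∑ g ∈ Finset.univ.filter
        (fun g : G => ∃ a ∈ A, ∃ u ∈ H a, ∃ x : G, x * g * x⁻¹ = a * u), ‖χ g‖ ^ 2 := by
    have hL' : (Nat.card L : ℝ) ≠ 0 := hL.ne'
    have hG' : (Nat.card G : ℝ) ≠ 0 := hG.ne'
    rw [inv_mul_eq_div, inv_mul_eq_div, div_eq_div_iff hL' hG']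
    linear_combination (-1 : ℝ) * hsum
  calc (Nat.card L : ℝ)⁻¹ * ∑ a ∈ Finset.univ.filter (fun a : L => a ∈ {a : L | (a : G) ∈ A}),
        ‖ψ a‖ ^ 2
      ≤ (Nat.card L : ℝ)⁻¹ * ∑ a ∈ Finset.univ.filter (fun a : L => (a : G) ∈ A),
        (Nat.card (H a) : ℝ)⁻¹ *
          ∑ u ∈ Finset.univ.filter (fun u : G => u ∈ H a), ‖χ (a * u)‖ ^ 2 := by
        apply mul_le_mul_of_nonneg_left _ (by positivity)
        exact hle
    _ = _ := h5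

end Cfsg.Agent.S1525
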