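import Cfsg.Statements.S1527

set_option autoImplicit false
open Cfsg

namespace Cfsg.Agent.S1527

/-- The non-identity elements of `G` conjugate into the subgroup `H`. -/
def conjInto {G : Type*} [Group G] (H : Subgroup G) : Type _ :=
  {g : G // g ≠ 1 ∧ ∃ x : G, x * g * x⁻¹ ∈ H}

theorem pow_card_eq_one_of_mem {G : Type*} [Group G] (H : Subgroup G) {h : G} (hh : h ∈ H) :
    h ^ Nat.card H = 1 := by
  have h2 : (⟨h, hh⟩ : H) ^ Nat.card H = 1 := pow_card_eq_one'
  have h3 : (((⟨h, hh⟩ : H) ^ Nat.card H : H) : G) = ((1 : H) : G) := congrArg Subtype.val h2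
  rwa [Subgroup.coe_pow, Subgroup.coe_one] at h3

/-- Counting the non-identity elements conjugate into a TI-subgroup. -/
theorem card_conjInto {G : Type*} [Group G] [Finite G] (H : Subgroup G) (hTI : Cfsg.IsTISubset (H : Set G)) :
    Nat.card (conjInto H) = (Subgroup.normalizer (H : Set G)).index * (Nat.card H - 1) := by
  classical
  have hcardH : Nat.card {h : H // h ≠ 1} = Nat.card H - 1 := by
    have := Fintype.ofFinite H
    rw [Nat.card_eq_fintype_card, Nat.card_eq_fintype_card, Fintype.card_subtype_compl, Fintype.card_subtype_eq]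
  rw [Subgroup.index, ← hcardH, ← Nat.card_prod]
  symm
  -- the key consequence of the TI property
  have key : ∀ y : G, ∀ h ∈ H, h ≠ 1 → y * h * y⁻¹ ∈ H → y ∈ Subgroup.normalizer (H : Set G) := by
    intro y h hh h1 hy
    by_contra hyN
    exact h1 (hTI y hyN h hh hy)
  let F : (G ⧸ Subgroup.normalizer (H : Set G)) × {h : H // h ≠ 1} → conjInto H := fun p =>
    ⟨p.1.out * (p.2.1 : G) * p.1.out⁻¹, by
      constructor
      · intro h0
        apply p.2.2
        have : (p.2.1 : G) = 1 := by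
          have h1 : p.1.out⁻¹ * (p.1.out * (p.2.1 : G) * p.1.out⁻¹) * p.1.out = (p.2.1 : G) := by group
          rw [← h1, h0]; group
        exact Subtype.ext this
      · refine ⟨p.1.out⁻¹, ?_⟩
        have h1 : p.1.out⁻¹ * (p.1.out * (p.2.1 : G) * p.1.out⁻¹) * p.1.out⁻¹⁻¹ = (p.2.1 : G) := by group
        rw [h1]; exact p.2.1.2⟩
  refine Nat.card_congr (Equiv.ofBijective F ⟨?_, ?_⟩)
  · rintro ⟨q, ⟨h, hh1⟩⟩ ⟨q', ⟨h', hh1'⟩⟩ hpq
    have e : q.out * (h : G) * q.out⁻¹ = q'.out * (h' : G) * q'.out⁻¹ := congrArg Subtype.val hpq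
    -- `y = q'.out⁻¹ * q.out` normalizes `H`
    have hy : (q'.out⁻¹ * q.out) * (h : G) * (q'.out⁻¹ * q.out)⁻¹ ∈ H := by
      have : (q'.out⁻¹ * q.out) * (h : G) * (q'.out⁻¹ * q.out)⁻¹ = (h' : G) := by
        calc (q'.out⁻¹ * q.out) * (h : G) * (q'.out⁻¹ * q.out)⁻¹
            = q'.out⁻¹ * (q.out * (h : G) * q.out⁻¹) * q'.out := by group
          _ = q'.out⁻¹ * (q'.out * (h' : G) * q'.out⁻¹) * q'.out := by rw [e]
          _ = (h' : G) := by group
      rw [this]; exact h'.2
    have hyN := key _ (h : G) h.2 (fun h0 => hh1 (Subtype.ext h0)) hy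
    have hq : q' = q := by
      rw [← q'.out_eq', ← q.out_eq']
      exact QuotientGroup.eq.mpr hyN
    subst hq
    have hh : (h : G) = h' := by
      have := mul_left_cancel (mul_right_cancel e)
      exact this
    have : h = h' := Subtype.ext hh
    subst this
    rfl
  · rintro ⟨g, hg1, x, hx⟩
    -- `g = x⁻¹ h₀ x` with `h₀ = x g x⁻¹`
    obtain ⟨n, hn⟩ : ∃ n : G, n ∈ Subgroup.normalizer (H : Set G) ∧
        (QuotientGroup.mk x⁻¹ : G ⧸ Subgroup.normalizer (H : Set G)).out = x⁻¹ * n := by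
      have h1 : (QuotientGroup.mk ((QuotientGroup.mk x⁻¹ : G ⧸ Subgroup.normalizer (H : Set G)).out) :
          G ⧸ Subgroup.normalizer (H : Set G)) = QuotientGroup.mk x⁻¹ := Quotient.out_eq' _
      have h2 := QuotientGroup.eq.mp h1.symm
      exact ⟨_, h2, by group⟩
    obtain ⟨hnN, hout⟩ := hn
    have hmem : n⁻¹ * (x * g * x⁻¹) * n ∈ H := by
      have := (Subgroup.mem_set_normalizer_iff.mp (inv_mem hnN) (x * g * x⁻¹)).mp hx
      rwa [inv_inv] at this
    have hne : (⟨n⁻¹ * (x * g * x⁻¹) * n, hmem⟩ : H) ≠ 1 := by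
      intro h0
      apply hg1
      have h1 : n⁻¹ * (x * g * x⁻¹) * n = 1 := congrArg Subtype.val h0
      have h2 : g = x⁻¹ * n * (n⁻¹ * (x * g * x⁻¹) * n) * n⁻¹ * x := by group
      rw [h2, h1]; group
    refine ⟨(QuotientGroup.mk x⁻¹, ⟨⟨n⁻¹ * (x * g * x⁻¹) * n, hmem⟩, hne⟩), ?_⟩
    apply Subtype.ext
    show (QuotientGroup.mk x⁻¹ : G ⧸ Subgroup.normalizer (H : Set G)).out * (n⁻¹ * (x * g * x⁻¹) * n) *
      (QuotientGroup.mk x⁻¹ : G ⧸ Subgroup.normalizer (H : Set G)).out⁻¹ = g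
    rw [hout]; group

/-- Let G be a finite group and H i (i in a finite index type) subgroups of pairwise coprime orders, each of whose underlying sets is a TI-subset of G, such that every non-identity element of G is conjugate to an element of some H i. Then Nat.card G − 1 = Σ_i [G : N_G(H i)] · (Nat.card (H i) − 1). -/
theorem result {G : Type*} [Group G] [Finite G] {ι : Type*} [Fintype ι] (H : ι → Subgroup G) (hcop : ∀ i j, i ≠ j → Nat.Coprime (Nat.card (H i)) (Nat.card (H j))) (hTI : ∀ i, Cfsg.IsTISubset (H i : Set G)) (hcover : ∀ g : G, g ≠ 1 → ∃ i, ∃ x : G, x * g * x⁻¹ ∈ H i) : Nat.card G - 1 = ∑ i, (Subgroup.normalizer (H i : Set G)).index * (Nat.card (H i) - 1) := by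
  classical
  have hfin : ∀ i, Finite (conjInto (H i)) := fun i => by unfold conjInto; infer_instance
  have h1 : Nat.card {g : G // g ≠ 1} = Nat.card G - 1 := by
    have := Fintype.ofFinite G
    rw [Nat.card_eq_fintype_card, Nat.card_eq_fintype_card, Fintype.card_subtype_compl, Fintype.card_subtype_eq]
  rw [← h1]
  have h2 : ∀ i, (Subgroup.normalizer (H i : Set G)).index * (Nat.card (H i) - 1) = Nat.card (conjInto (H i)) :=
    fun i => (card_conjInto (H i) (hTI i)).symm
  simp_rw [h2]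
  rw [← Nat.card_sigma]
  symm
  let F : (Σ i, conjInto (H i)) → {g : G // g ≠ 1} := fun p => ⟨p.2.1, p.2.2.1⟩
  refine Nat.card_congr (Equiv.ofBijective F ⟨?_, ?_⟩)
  · rintro ⟨i, ⟨g, hg1, x, hx⟩⟩ ⟨j, ⟨g', hg1', y, hy⟩⟩ hpq
    have e : g = g' := congrArg Subtype.val hpq
    subst e
    have hij : i = j := by
      by_contra hne
      apply hg1
      have p1 : g ^ Nat.card (H i) = 1 := by
        have := pow_card_eq_one_of_mem (H i) hx
        rw [conj_pow] at this
        have h3 : g ^ Nat.card (H i) = x⁻¹ * (x * g ^ Nat.card (H i) * x⁻¹) * x := by group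
        rw [h3, this]; group
      have p2 : g ^ Nat.card (H j) = 1 := by
        have := pow_card_eq_one_of_mem (H j) hy
        rw [conj_pow] at this
        have h3 : g ^ Nat.card (H j) = y⁻¹ * (y * g ^ Nat.card (H j) * y⁻¹) * y := by group
        rw [h3, this]; group
      have := pow_gcd_eq_one.mpr ⟨p1, p2⟩
      rwa [Nat.Coprime.gcd_eq_one (hcop i j hne), pow_one] at this
    subst hij
    rfl
  · rintro ⟨g, hg1⟩
    obtain ⟨i, x, hx⟩ := hcover g hg1
    exact ⟨⟨i, ⟨g, hg1, x, hx⟩⟩, rfl⟩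

end Cfsg.Agent.S1527
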