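import Cfsg.Statements.S1531
-- import your own Cfsg.Agent.* helpers here
import Cfsg.Agent.Lib.Helper05.CharDecomp
import Cfsg.Agent.Lib.Helper34.GenChar
import Cfsg.Agent.Lib.Helper34.Coherence
import Cfsg.Agent.Lib.Helper34.OrthoExt
import Cfsg.Agent.S1529

set_option autoImplicit false
open Cfsg

namespace Cfsg.Agent.S1531

open Cfsg.Agent.Lib.Helper34
open Cfsg.Agent.Lib.Helper05 (classInner_irr classInner_irr_self classInner_irr_ne exists_pos_degree finite_irrCharacter)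

section

variable {G : Type*} [Group G] [Fintype G] {N : Subgroup G} [Fintype N]

/-- the difference `dy • x - dx • y` vanishes at one -/
theorem zeta_mem {Z : Set (N → ℂ)} {x y : N → ℂ} (hx : x ∈ Z) (hy : y ∈ Z) (dx dy : ℤ)
    (hdx : x 1 = dx) (hdy : y 1 = dy) :
    dy • x - dx • y ∈ Cfsg.zspanOn Z ({1}ᶜ : Set N) := by
  rw [mem_zspanOn_compl_one_iff]
  refine ⟨sub_mem_zspan (zsmul_mem_zspan _ (mem_zspan_of_mem hx))
    (zsmul_mem_zspan _ (mem_zspan_of_mem hy)), ?_⟩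
  simp only [Pi.sub_apply, Pi.smul_apply, hdx, hdy]
  simp
  ring

theorem zspanOn_mono {Z Z' : Set (N → ℂ)} (h : Z ⊆ Z') :
    Cfsg.zspanOn Z ({1}ᶜ : Set N) ⊆ Cfsg.zspanOn Z' ({1}ᶜ : Set N) :=
  fun _ hx => ⟨zspan_mono h hx.1, hx.2⟩

theorem part1 (S X Y : Set (N → ℂ)) (hirr : ∀ ξ ∈ S, Cfsg.IsIrrCharacter N ξ) (hXS : X ⊆ S)
    (hYS : Y ⊆ S) (hXY : Disjoint X Y) (hX2 : ∃ a ∈ X, ∃ b ∈ X, a ≠ b)
    (hY2 : ∃ a ∈ Y, ∃ b ∈ Y, a ≠ b) (α : (N → ℂ) → (G → ℂ))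
    (hα : Cfsg.IsLinearIsometryOn (Cfsg.zspanOn S {1}ᶜ) α)
    (hα1 : ∀ θ ∈ Cfsg.zspanOn S {1}ᶜ, α θ 1 = 0) (σ τ : (N → ℂ) → (G → ℂ))
    (hσ : Cfsg.IsLinearIsometryOn (Cfsg.zspan X) σ)
    (hσα : ∀ θ ∈ Cfsg.zspanOn X {1}ᶜ, σ θ = α θ)
    (hτ : Cfsg.IsLinearIsometryOn (Cfsg.zspan Y) τ)
    (hτα : ∀ θ ∈ Cfsg.zspanOn Y {1}ᶜ, τ θ = α θ) :
    ∀ χ ∈ X, ∀ η ∈ Y, Cfsg.classInner (σ χ) (τ η) = 0 := by
  classical
  have hXirr : ∀ χ ∈ X, Cfsg.IsIrrCharacter N χ := fun χ h => hirr χ (hXS h)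
  have hYirr : ∀ χ ∈ Y, Cfsg.IsIrrCharacter N χ := fun χ h => hirr χ (hYS h)
  have mX : ∀ χ ∈ X, χ ∈ Cfsg.zspan X := fun χ h => mem_zspan_of_mem h
  have mY : ∀ χ ∈ Y, χ ∈ Cfsg.zspan Y := fun χ h => mem_zspan_of_mem h
  have h0σ : ∀ θ ∈ Cfsg.zspan X, θ 1 = 0 → σ θ 1 = 0 := by
    intro θ hθ h1
    have hm : θ ∈ Cfsg.zspanOn X ({1}ᶜ : Set N) := mem_zspanOn_compl_one_iff.mpr ⟨hθ, h1⟩
    rw [hσα θ hm]
    exact hα1 θ (zspanOn_mono hXS hm)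
  have h0τ : ∀ θ ∈ Cfsg.zspan Y, θ 1 = 0 → τ θ 1 = 0 := by
    intro θ hθ h1
    have hm : θ ∈ Cfsg.zspanOn Y ({1}ᶜ : Set N) := mem_zspanOn_compl_one_iff.mpr ⟨hθ, h1⟩
    rw [hτα θ hm]
    exact hα1 θ (zspanOn_mono hYS hm)
  obtain ⟨ε, hε, hεirr, hσinj⟩ := Cfsg.Agent.S1529.result N X hXirr hX2 σ hσ h0σ
  obtain ⟨δ, hδ, hδirr, hτinj⟩ := Cfsg.Agent.S1529.result N Y hYirr hY2 τ hτ h0τ
  have hXYne : ∀ x ∈ X, ∀ y ∈ Y, x ≠ y := by
    rintro x hx y hy rfl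
    exact (Set.disjoint_left.mp hXY hx) hy
  have hXY0 : ∀ x ∈ X, ∀ y ∈ Y, Cfsg.classInner x y = 0 :=
    fun x hx y hy => classInner_irr_ne (hXirr x hx) (hYirr y hy) (hXYne x hx y hy)
  -- J
  set s : ℂ := ε * (starRingEnd ℂ) δ with hsdef
  have hs : s ≠ 0 := by
    rcases hε with rfl | rfl <;> rcases hδ with rfl | rfl <;> simp [hsdef]
  have hJ : ∀ x ∈ X, ∀ y ∈ Y, s * Cfsg.classInner (σ x) (τ y) =
      if ε • σ x = δ • τ y then 1 else 0 := by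
    intro x hx y hy
    rw [← classInner_irr (hεirr x hx) (hδirr y hy), classInner_smul_left, classInner_smul_right]
    ring
  have hδinj : ∀ y ∈ Y, ∀ y' ∈ Y, δ • τ y = δ • τ y' → y = y' := by
    intro y hy y' hy' h
    apply hτinj y hy y' hy'
    have hδ0 : δ ≠ 0 := by rcases hδ with rfl | rfl <;> simp
    exact smul_right_injective _ hδ0 h
  have hεinj : ∀ x ∈ X, ∀ x' ∈ X, ε • σ x = ε • σ x' → x = x' := by
    intro x hx x' hx' h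
    apply hσinj x hx x' hx'
    have hε0 : ε ≠ 0 := by rcases hε with rfl | rfl <;> simp
    exact smul_right_injective _ hε0 h
  intro χ hχ η hη
  -- pick partners
  obtain ⟨χ', hχ', hχne⟩ : ∃ χ' ∈ X, χ' ≠ χ := by
    obtain ⟨a, ha, b, hb, hab⟩ := hX2
    by_cases h : a = χ
    · exact ⟨b, hb, fun hbχ => hab (h.trans hbχ.symm)⟩
    · exact ⟨a, ha, h⟩
  obtain ⟨η', hη', hηne⟩ : ∃ η' ∈ Y, η' ≠ η := by
    obtain ⟨a, ha, b, hb, hab⟩ := hY2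
    by_cases h : a = η
    · exact ⟨b, hb, fun hbη => hab (h.trans hbη.symm)⟩
    · exact ⟨a, ha, h⟩
  obtain ⟨c, hcpos, hc⟩ := exists_pos_degree (hXirr χ hχ)
  obtain ⟨c', hc'pos, hc'⟩ := exists_pos_degree (hXirr χ' hχ')
  obtain ⟨e, hepos, he⟩ := exists_pos_degree (hYirr η hη)
  obtain ⟨e', he'pos, he'⟩ := exists_pos_degree (hYirr η' hη')
  have hcZ : χ 1 = ((c : ℤ) : ℂ) := by rw [hc]; simp
  have hc'Z : χ' 1 = ((c' : ℤ) : ℂ) := by rw [hc']; simp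
  have heZ : η 1 = ((e : ℤ) : ℂ) := by rw [he]; simp
  have he'Z : η' 1 = ((e' : ℤ) : ℂ) := by rw [he']; simp
  have mθX := zeta_mem hχ hχ' (c : ℤ) (c' : ℤ) hcZ hc'Z
  have mθY := zeta_mem hη hη' (e : ℤ) (e' : ℤ) heZ he'Z
  have hrel : Cfsg.classInner (σ ((c' : ℤ) • χ - (c : ℤ) • χ')) (τ ((e' : ℤ) • η - (e : ℤ) • η')) = 0 := by
    rw [hσα _ mθX, hτα _ mθY, LIO.inner_eq hα (zspanOn_mono hXS mθX) (zspanOn_mono hYS mθY)]
    rw [classInner_sub_left, classInner_sub_right, classInner_sub_right]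
    simp only [classInner_zsmul_left, classInner_zsmul_right, hXY0 χ hχ η hη, hXY0 χ hχ η' hη',
      hXY0 χ' hχ' η hη, hXY0 χ' hχ' η' hη']
    ring
  rw [LIO.map_sub_zspan hσ (zsmul_mem_zspan _ (mX χ hχ)) (zsmul_mem_zspan _ (mX χ' hχ')),
    LIO.map_zsmul hσ (mX χ hχ), LIO.map_zsmul hσ (mX χ' hχ'),
    LIO.map_sub_zspan hτ (zsmul_mem_zspan _ (mY η hη)) (zsmul_mem_zspan _ (mY η' hη')),
    LIO.map_zsmul hτ (mY η hη), LIO.map_zsmul hτ (mY η' hη')] at hrel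
  rw [classInner_sub_left, classInner_sub_right, classInner_sub_right] at hrel
  simp only [classInner_zsmul_left, classInner_zsmul_right] at hrel
  -- multiply by s
  have hrel2 : (c' : ℂ) * e' * (s * Cfsg.classInner (σ χ) (τ η))
      - (c' : ℂ) * e * (s * Cfsg.classInner (σ χ) (τ η'))
      - (c : ℂ) * e' * (s * Cfsg.classInner (σ χ') (τ η))
      + (c : ℂ) * e * (s * Cfsg.classInner (σ χ') (τ η')) = 0 := by
    push_cast at hrel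
    linear_combination s * hrel
  rw [hJ χ hχ η hη, hJ χ hχ η' hη', hJ χ' hχ' η hη, hJ χ' hχ' η' hη'] at hrel2
  have hgoal : s * Cfsg.classInner (σ χ) (τ η) = 0 := by
    rw [hJ χ hχ η hη]
    by_contra hne
    have h1 : ε • σ χ = δ • τ η := by
      by_contra h
      exact hne (if_neg h)
    have h2 : ¬ ε • σ χ = δ • τ η' := by
      intro h
      exact hηne (hδinj η' hη' η hη (h.symm.trans h1))
    have h3 : ¬ ε • σ χ' = δ • τ η := by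
      intro h
      exact hχne (hεinj χ' hχ' χ hχ (h.trans h1.symm))
    rw [if_pos h1, if_neg h2, if_neg h3] at hrel2
    have hc'e' : 0 < c' * e' := Nat.mul_pos hc'pos he'pos
    split_ifs at hrel2 with h4
    · have : ((c' * e' + c * e : ℕ) : ℂ) = 0 := by
        push_cast
        linear_combination hrel2
      have : c' * e' + c * e = 0 := by exact_mod_cast this
      omega
    · have : ((c' * e' : ℕ) : ℂ) = 0 := by
        push_cast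
        linear_combination hrel2
      have : c' * e' = 0 := by exact_mod_cast this
      omega
  exact (mul_eq_zero.mp hgoal).resolve_left hs


theorem zspan_irr_apply_one_int {Z : Set (N → ℂ)} (hZ : ∀ ξ ∈ Z, Cfsg.IsIrrCharacter N ξ)
    {θ : N → ℂ} (hθ : θ ∈ Cfsg.zspan Z) : ∃ u : ℤ, θ 1 = u := by
  refine zspan_induction (p := fun θ => ∃ u : ℤ, θ 1 = u) hθ ?_ ?_ ?_ ?_
  · intro x hx
    obtain ⟨n, _, hn⟩ := exists_pos_degree (hZ x hx)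
    exact ⟨n, by rw [hn]; simp⟩
  · exact ⟨0, by simp⟩
  · rintro x y ⟨a, ha⟩ ⟨b, hb⟩
    exact ⟨a + b, by rw [Pi.add_apply, ha, hb]; push_cast; ring⟩
  · rintro x ⟨a, ha⟩
    exact ⟨-a, by rw [Pi.neg_apply, ha]; push_cast; ring⟩

theorem part2 (S X Y : Set (N → ℂ)) (hirr : ∀ ξ ∈ S, Cfsg.IsIrrCharacter N ξ) (hXS : X ⊆ S)
    (hYS : Y ⊆ S) (hXY : Disjoint X Y) (hX2 : ∃ a ∈ X, ∃ b ∈ X, a ≠ b)
    (α : (N → ℂ) → (G → ℂ))
    (hα : Cfsg.IsLinearIsometryOn (Cfsg.zspanOn S {1}ᶜ) α)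
    (σ τ : (N → ℂ) → (G → ℂ))
    (hσ : Cfsg.IsLinearIsometryOn (Cfsg.zspan X) σ)
    (hσα : ∀ θ ∈ Cfsg.zspanOn X {1}ᶜ, σ θ = α θ)
    (hτ : Cfsg.IsLinearIsometryOn (Cfsg.zspan Y) τ)
    (hτα : ∀ θ ∈ Cfsg.zspanOn Y {1}ᶜ, τ θ = α θ)
    (h1 : ∀ χ ∈ X, ∀ η ∈ Y, Cfsg.classInner (σ χ) (τ η) = 0)
    (χ₀ : N → ℂ) (hχ₀ : χ₀ ∈ X) (η₀ : N → ℂ) (hη₀ : η₀ ∈ Y)
    (hcoh : α (χ₀ 1 • η₀ - η₀ 1 • χ₀) = χ₀ 1 • τ η₀ - η₀ 1 • σ χ₀) :
    Cfsg.IsCoherent (X ∪ Y) {1}ᶜ α := by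
  classical
  have hXirr : ∀ χ ∈ X, Cfsg.IsIrrCharacter N χ := fun χ h => hirr χ (hXS h)
  have hYirr : ∀ χ ∈ Y, Cfsg.IsIrrCharacter N χ := fun χ h => hirr χ (hYS h)
  have mX : ∀ χ ∈ X, χ ∈ Cfsg.zspan X := fun χ h => mem_zspan_of_mem h
  have mY : ∀ χ ∈ Y, χ ∈ Cfsg.zspan Y := fun χ h => mem_zspan_of_mem h
  have hXYS : X ∪ Y ⊆ S := Set.union_subset hXS hYS
  have hXYne : ∀ x ∈ X, ∀ y ∈ Y, x ≠ y := by
    rintro x hx y hy rfl
    exact (Set.disjoint_left.mp hXY hx) hy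
  have hXY0 : ∀ x ∈ X, ∀ y ∈ Y, Cfsg.classInner x y = 0 :=
    fun x hx y hy => classInner_irr_ne (hXirr x hx) (hYirr y hy) (hXYne x hx y hy)
  have hYX0 : ∀ x ∈ X, ∀ y ∈ Y, Cfsg.classInner y x = 0 :=
    fun x hx y hy => classInner_irr_ne (hYirr y hy) (hXirr x hx) (hXYne x hx y hy).symm
  -- finiteness
  have hfinIrr : {χ : N → ℂ | Cfsg.IsIrrCharacter N χ}.Finite := by
    have hF : Finite (Cfsg.IrrCharacter N) := finite_irrCharacter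
    exact Set.finite_coe_iff.mp hF
  have hfin : (X ∪ Y).Finite := hfinIrr.subset (fun x hx => hirr x (hXYS hx))
  set T : Finset (N → ℂ) := hfin.toFinset with hTdef
  have hT : (↑T : Set (N → ℂ)) = X ∪ Y := hfin.coe_toFinset
  have hmemT : ∀ φ, φ ∈ T ↔ φ ∈ X ∪ Y := fun φ => hfin.mem_toFinset
  have hTirr : ∀ φ ∈ T, Cfsg.IsIrrCharacter N φ := fun φ h => hirr φ (hXYS ((hmemT φ).mp h))
  have horthT : ∀ φ ∈ T, ∀ φ' ∈ T, φ ≠ φ' → Cfsg.classInner φ φ' = 0 :=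
    fun φ hφ φ' hφ' hne => classInner_irr_ne (hTirr φ hφ) (hTirr φ' hφ') hne
  have hnzT : ∀ φ ∈ T, Cfsg.classInner φ φ ≠ 0 := by
    intro φ hφ
    rw [classInner_irr_self (hTirr φ hφ)]
    exact one_ne_zero
  let f : (N → ℂ) → (G → ℂ) := fun ξ => if ξ ∈ X then σ ξ else τ ξ
  have hfX : ∀ ξ ∈ X, f ξ = σ ξ := fun ξ h => if_pos h
  have hfY : ∀ ξ ∈ Y, f ξ = τ ξ := fun ξ h => if_neg (fun hx => (Set.disjoint_left.mp hXY hx) h)
  have hfiso : ∀ φ ∈ T, ∀ φ' ∈ T, Cfsg.classInner (f φ) (f φ') = Cfsg.classInner φ φ' := by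
    intro φ hφ φ' hφ'
    rcases (hmemT φ).mp hφ with h | h
    · rcases (hmemT φ').mp hφ' with h' | h'
      · rw [hfX φ h, hfX φ' h', LIO.inner_eq hσ (mX φ h) (mX φ' h')]
      · rw [hfX φ h, hfY φ' h', h1 φ h φ' h', hXY0 φ h φ' h']
    · rcases (hmemT φ').mp hφ' with h' | h'
      · rw [hfY φ h, hfX φ' h', ← classInner_conj_symm, h1 φ' h' φ h, hYX0 φ' h' φ h, map_zero]
      · rw [hfY φ h, hfY φ' h', LIO.inner_eq hτ (mY φ h) (mY φ' h')]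
  have hfgen : ∀ φ ∈ T, Cfsg.IsGeneralizedCharacter G (f φ) := by
    intro φ hφ
    rcases (hmemT φ).mp hφ with h | h
    · rw [hfX φ h]; exact LIO.isGenChar hσ (mX φ h)
    · rw [hfY φ h]; exact LIO.isGenChar hτ (mY φ h)
  have hτ₁ := orthoExt_isLinearIsometryOn T horthT hnzT f hfiso hfgen
  rw [hT] at hτ₁
  have hXT : X ⊆ (↑T : Set (N → ℂ)) := by rw [hT]; exact Set.subset_union_left
  have hYT : Y ⊆ (↑T : Set (N → ℂ)) := by rw [hT]; exact Set.subset_union_right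
  have agX : ∀ θ ∈ Cfsg.zspan X, orthoExt T f θ = σ θ := fun θ hθ =>
    orthoExt_eq_of_agree T horthT hnzT f X hXT σ hσ hfX hθ
  have agY : ∀ θ ∈ Cfsg.zspan Y, orthoExt T f θ = τ θ := fun θ hθ =>
    orthoExt_eq_of_agree T horthT hnzT f Y hYT τ hτ hfY hθ
  -- degrees
  obtain ⟨c, hcpos, hc⟩ := exists_pos_degree (hXirr χ₀ hχ₀)
  obtain ⟨e, hepos, he⟩ := exists_pos_degree (hYirr η₀ hη₀)
  have hcZ : χ₀ 1 = ((c : ℤ) : ℂ) := by rw [hc]; simp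
  have heZ : η₀ 1 = ((e : ℤ) : ℂ) := by rw [he]; simp
  refine ⟨?_, orthoExt T f, hτ₁, ?_⟩
  · -- a nonzero member
    obtain ⟨a, ha, b, hb, hab⟩ := hX2
    obtain ⟨da, hdapos, hda⟩ := exists_pos_degree (hXirr a ha)
    obtain ⟨db, hdbpos, hdb⟩ := exists_pos_degree (hXirr b hb)
    have hdaZ : a 1 = ((da : ℤ) : ℂ) := by rw [hda]; simp
    have hdbZ : b 1 = ((db : ℤ) : ℂ) := by rw [hdb]; simp
    refine ⟨(db : ℤ) • a - (da : ℤ) • b,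
      zspanOn_mono Set.subset_union_left (zeta_mem ha hb (da : ℤ) (db : ℤ) hdaZ hdbZ), ?_⟩
    intro h0
    have h2 : Cfsg.classInner ((db : ℤ) • a - (da : ℤ) • b) a = (db : ℂ) := by
      rw [classInner_sub_left, classInner_zsmul_left, classInner_zsmul_left,
        classInner_irr_self (hXirr a ha), classInner_irr_ne (hXirr b hb) (hXirr a ha) (Ne.symm hab)]
      simp
    rw [h0, classInner_zero_left] at h2
    have : db = 0 := by exact_mod_cast h2.symm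
    omega
  · intro θ hθ
    have hsup : θ ∈ Submodule.span ℤ X ⊔ Submodule.span ℤ Y := by
      rw [← Submodule.span_union]; exact hθ.1
    obtain ⟨θX, hθX, θY, hθY, hsum⟩ := Submodule.mem_sup.mp hsup
    have hθX' : θX ∈ Cfsg.zspan X := hθX
    have hθY' : θY ∈ Cfsg.zspan Y := hθY
    obtain ⟨u, hu⟩ := zspan_irr_apply_one_int hXirr hθX'
    have hθ1 : θ 1 = 0 := (mem_zspanOn_compl_one_iff.mp hθ).2
    have hθY1 : θY 1 = -(u : ℂ) := by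
      have : θX 1 + θY 1 = 0 := by rw [← Pi.add_apply, hsum, hθ1]
      rw [hu] at this
      linear_combination this
    set A : N → ℂ := (c : ℤ) • θX - u • χ₀ with hAdef
    set B : N → ℂ := (e : ℤ) • θY + u • η₀ with hBdef
    set ζ : N → ℂ := (c : ℤ) • η₀ - (e : ℤ) • χ₀ with hζdef
    have hA : A ∈ Cfsg.zspanOn X ({1}ᶜ : Set N) := by
      rw [mem_zspanOn_compl_one_iff]
      refine ⟨sub_mem_zspan (zsmul_mem_zspan _ hθX') (zsmul_mem_zspan _ (mX χ₀ hχ₀)), ?_⟩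
      simp only [hAdef, Pi.sub_apply, Pi.smul_apply, hu, hcZ]
      simp
      ring
    have hB : B ∈ Cfsg.zspanOn Y ({1}ᶜ : Set N) := by
      rw [mem_zspanOn_compl_one_iff]
      refine ⟨add_mem_zspan (zsmul_mem_zspan _ hθY') (zsmul_mem_zspan _ (mY η₀ hη₀)), ?_⟩
      simp only [hBdef, Pi.add_apply, Pi.smul_apply, hθY1, heZ]
      simp
      ring
    have hζ : ζ ∈ Cfsg.zspanOn (X ∪ Y) ({1}ᶜ : Set N) :=
      zeta_mem (Z := X ∪ Y) (Or.inr hη₀) (Or.inl hχ₀) (e : ℤ) (c : ℤ) heZ hcZ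
    have hident : ((e : ℤ) * (c : ℤ)) • θ = (e : ℤ) • A + (c : ℤ) • B - u • ζ := by
      rw [← hsum, hAdef, hBdef, hζdef]
      module
    have hcohZ : α ζ = (c : ℤ) • τ η₀ - (e : ℤ) • σ χ₀ := by
      rw [hcZ, heZ] at hcoh
      simp only [Int.cast_smul_eq_zsmul] at hcoh
      exact hcoh
    have hAS := zspanOn_mono hXS hA
    have hBS := zspanOn_mono hYS hB
    have hζS := zspanOn_mono hXYS hζ
    have hθS := zspanOn_mono hXYS hθ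
    -- τ₁ side
    have e1 : ((e : ℤ) * (c : ℤ)) • orthoExt T f θ =
        (e : ℤ) • α A + (c : ℤ) • α B - u • α ζ := by
      rw [← orthoExt_zsmul, hident, orthoExt_sub, orthoExt_add, orthoExt_zsmul, orthoExt_zsmul,
        orthoExt_zsmul, agX A hA.1, agY B hB.1, hσα A hA, hτα B hB, hcohZ, hζdef, orthoExt_sub,
        orthoExt_zsmul, orthoExt_zsmul, agX χ₀ (mX χ₀ hχ₀), agY η₀ (mY η₀ hη₀)]
    have e2 : ((e : ℤ) * (c : ℤ)) • α θ = (e : ℤ) • α A + (c : ℤ) • α B - u • α ζ := by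
      rw [← LIO.map_zsmul hα hθS, hident,
        LIO.map_sub_zspanOn hα (add_mem_zspanOn (zsmul_mem_zspanOn _ hAS) (zsmul_mem_zspanOn _ hBS))
          (zsmul_mem_zspanOn _ hζS),
        LIO.map_add hα (zsmul_mem_zspanOn _ hAS) (zsmul_mem_zspanOn _ hBS),
        LIO.map_zsmul hα hAS, LIO.map_zsmul hα hBS, LIO.map_zsmul hα hζS]
    have hne : ((e : ℤ) * (c : ℤ)) ≠ 0 := by
      have : 0 < e * c := Nat.mul_pos hepos hcpos
      exact_mod_cast this.ne'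
    have e3 : ((e : ℤ) * (c : ℤ)) • orthoExt T f θ = ((e : ℤ) * (c : ℤ)) • α θ := by rw [e1, e2]
    exact smul_right_injective _ hne e3

end

/-- Let N be a subgroup of the finite group G, S a set of irreducible characters of N, and α a linear isometry on the integer combinations of S vanishing at 1 with values virtual characters of G vanishing at 1. Let X, Y ⊆ S be disjoint, each with at least two members, and σ, τ linear isometries on ℤ[X], ℤ[Y] into virtual characters agreeing with α on the members vanishing at 1. Then ⟨σ χ, τ η⟩ = 0 for χ ∈ X, η ∈ Y; and if for some χ₀ ∈ X, η₀ ∈ Y with degrees c = χ₀ 1, e = η₀ 1 one has α (c • η₀ − e • χ₀) = c • τ η₀ − e • σ χ₀, then (X ∪ Y, N minus 1, α) is coherent. -/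
theorem result {G : Type*} [Group G] [Fintype G] (N : Subgroup G) [Fintype N] (S X Y : Set (N → ℂ)) (hirr : ∀ ξ ∈ S, Cfsg.IsIrrCharacter N ξ) (hXS : X ⊆ S) (hYS : Y ⊆ S) (hXY : Disjoint X Y) (hX2 : ∃ a ∈ X, ∃ b ∈ X, a ≠ b) (hY2 : ∃ a ∈ Y, ∃ b ∈ Y, a ≠ b) (α : (N → ℂ) → (G → ℂ)) (hα : Cfsg.IsLinearIsometryOn (Cfsg.zspanOn S {1}ᶜ) α) (hα1 : ∀ θ ∈ Cfsg.zspanOn S {1}ᶜ, α θ 1 = 0) (σ τ : (N → ℂ) → (G → ℂ)) (hσ : Cfsg.IsLinearIsometryOn (Cfsg.zspan X) σ) (hσα : ∀ θ ∈ Cfsg.zspanOn X {1}ᶜ, σ θ = α θ) (hτ : Cfsg.IsLinearIsometryOn (Cfsg.zspan Y) τ) (hτα : ∀ θ ∈ Cfsg.zspanOn Y {1}ᶜ, τ θ = α θ) : (∀ χ ∈ X, ∀ η ∈ Y, Cfsg.classInner (σ χ) (τ η) = 0) ∧ ((∃ χ₀ ∈ X, ∃ η₀ ∈ Y, α (χ₀ 1 • η₀ - η₀ 1 • χ₀) = χ₀ 1 • τ η₀ - η₀ 1 • σ χ₀) → Cfsg.IsCoherent (X ∪ Y) {1}ᶜ α) := by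
  have h1 := part1 S X Y hirr hXS hYS hXY hX2 hY2 α hα hα1 σ τ hσ hσα hτ hτα
  refine ⟨h1, ?_⟩
  rintro ⟨χ₀, hχ₀, η₀, hη₀, hcoh⟩
  exact part2 S X Y hirr hXS hYS hXY hX2 α hα σ τ hσ hσα hτ hτα h1 χ₀ hχ₀ η₀ hη₀ hcoh

end Cfsg.Agent.S1531
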