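import Cfsg.Statements.S1538
import Cfsg.Agent.S1351
import Cfsg.Agent.S1352
import Cfsg.Agent.Lib.Helper13.BG16R
import Cfsg.Agent.Lib.Helper71.BG1381Fwd

set_option autoImplicit false
open Cfsg

namespace Cfsg.Agent.S1538

/-- Let G be a minimal simple group of odd order and M a maximal subgroup of Type II. Then each of A₀(M), A(M), A₁(M) is a TI-subset of G whose set normaliser is M. -/
theorem result {G : Type*} [Group G] [Finite G] (hG : Cfsg.IsMinSimpleOddOrder G) (M : Subgroup G) (hM : IsCoatom M) (hII : Cfsg.IsOfTypeII M) : (Cfsg.IsTISubset (Cfsg.typeA0 M) ∧ Subgroup.normalizer (Cfsg.typeA0 M) = M) ∧ (Cfsg.IsTISubset (Cfsg.typeA M) ∧ Subgroup.normalizer (Cfsg.typeA M) = M) ∧ (Cfsg.IsTISubset (Cfsg.typeA1 M) ∧ Subgroup.normalizer (Cfsg.typeA1 M) = M) := by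
  obtain ⟨⟨K, hK⟩, hcyc⟩ := Cfsg.Agent.S1351.result hG M hM
  obtain ⟨⟨U, hKU⟩, -⟩ := Cfsg.Agent.S1352.result hG M hM K (hcyc K hK) hK
  obtain ⟨hK1, hU1⟩ := Cfsg.Agent.Lib.Helper71.BG1381.of_typeII hG hM hKU hII
  exact Cfsg.Agent.Lib.Helper13.BG16.s1538_of_P2 hG hM hKU hK1 hU1

end Cfsg.Agent.S1538
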