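import Cfsg.Statements.S1542
-- import your own Cfsg.Agent.* helpers here
import Cfsg.Agent.S1514
import Cfsg.Agent.S1521
import Cfsg.Agent.S1535
import Cfsg.Agent.Lib.Helper12.K1542A
import Cfsg.Agent.Lib.Helper12.K1542F2
import Cfsg.Agent.Lib.Helper13.K1542B
import Cfsg.Agent.Lib.Helper19.K1542E
import Cfsg.Agent.Lib.Helper12.K1542F1

set_option autoImplicit false
open Cfsg

namespace Cfsg.Agent.S1542

/-- Let G be a minimal simple group of odd order and L a maximal subgroup of Type I in which every non-identity element of H = L_F has its centraliser within L inside H. Let S be the set of functions on L induced from non-principal irreducible characters of H. Then every member of S is an irreducible character of L, and (S, L minus 1, τ) is coherent for τ the Dade map relative to A(L), L and a ↦ R(a). -/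
theorem result {G : Type*} [Group G] [Fintype G] (hG : Cfsg.IsMinSimpleOddOrder G) (L : Subgroup G) [Fintype L] (hL : IsCoatom L) (hI : Cfsg.IsOfTypeI L) (hfrob : ∀ x ∈ Cfsg.fittingHallOf L, x ≠ 1 → L ⊓ Subgroup.centralizer ({x} : Set G) ≤ Cfsg.fittingHallOf L) : (∀ χ ∈ Cfsg.inducedIrrAbove (Cfsg.fittingHall L) ⊥, Cfsg.IsIrrCharacter L χ) ∧ Cfsg.IsCoherent (Cfsg.inducedIrrAbove (Cfsg.fittingHall L) ⊥) {1}ᶜ (Cfsg.dadeIsometry (Cfsg.typeA L) L (Cfsg.supportR L)) := by
  classical
  have hI' := hI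
  obtain ⟨⟨hsolvL, hoddL, hK1, hK2, U, hU1, hcompl, -, -⟩, hcases⟩ := hI
  have hC := Cfsg.Agent.Lib.Helper12.K1542.hC_of_hfrob L hfrob
  refine ⟨Cfsg.Agent.S1535.irrS (Cfsg.fittingHall ↥L) hC, ?_⟩
  rcases hcases with hTI | hbc
  · -- TI case
    obtain ⟨hne, τ₁, hτ₁, hag⟩ := Cfsg.Agent.Lib.Helper12.K1542.coherent_ind_of_TI hG L hL hI'.1 hfrob hTI
    refine ⟨hne, τ₁, hτ₁, fun α hα => ?_⟩
    rw [hag α hα, Cfsg.Agent.Lib.Helper12.K1542.dade_eq_ind_of_TI hG L hL hI' hfrob hTI α hα]
  · -- abelian / exponent cases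
    have hnil : Group.IsNilpotent (Cfsg.fittingHall ↥L) :=
      Cfsg.Agent.S1535.kernel_nilpotent (Cfsg.fittingHall ↥L) hC hK2
    have hnil' := hnil
    have hsolvK : Group.IsSolvable (Cfsg.fittingHall ↥L) := inferInstance
    obtain ⟨hτ, hτ1⟩ := Cfsg.Agent.Lib.Helper13.K1542.dade_lio hG L hL hI'
    obtain ⟨R, hR⟩ := Cfsg.Agent.S1514.result (Cfsg.inducedIrrAbove (Cfsg.fittingHall ↥L) ⊥)
      (Cfsg.Agent.Lib.Helper12.K1542.nonempty_S _ hsolvK hK1) (Cfsg.Agent.S1535.irrS (Cfsg.fittingHall ↥L) hC)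
      (Cfsg.Agent.Lib.Helper12.K1542.conj_S _ hoddL hC) _ hτ hτ1
    have hbotn : ((⊥ : Subgroup ↥L).subgroupOf (Cfsg.fittingHall ↥L)).Normal := by
      rw [Subgroup.bot_subgroupOf]; infer_instance
    have hnt : Nontrivial (Cfsg.fittingHall ↥L) := (Subgroup.nontrivial_iff_ne_bot _).mpr hK1
    have hHd : ⁅Cfsg.fittingHall ↥L, Cfsg.fittingHall ↥L⁆ < Cfsg.fittingHall ↥L := by
      have h1 : commutator (Cfsg.fittingHall ↥L) < ⊤ :=
        Group.IsSolvable.commutator_lt_top_of_nontrivial _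
      rw [← Subgroup.map_subtype_commutator]
      have h2 := (Subgroup.map_lt_map_iff_of_injective
        (Cfsg.fittingHall ↥L).subtype_injective).mpr h1
      rwa [← MonoidHom.range_eq_map, Subgroup.range_subtype] at h2
    have hcn : (⁅Cfsg.fittingHall ↥L, Cfsg.fittingHall ↥L⁆ : Subgroup ↥L).Normal :=
      Subgroup.commutator_normal _ _
    have hH₁ : (⁅Cfsg.fittingHall ↥L, Cfsg.fittingHall ↥L⁆ ⊔ ⊥ : Subgroup ↥L) =
        ⁅Cfsg.fittingHall ↥L, Cfsg.fittingHall ↥L⁆ := sup_bot_eq _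
    refine Cfsg.Agent.S1521.result (Cfsg.fittingHall ↥L) hsolvK _ R hR hoddL ⊥ bot_le
      inferInstance (⁅Cfsg.fittingHall ↥L, Cfsg.fittingHall ↥L⁆ ⊔ ⊥) rfl (by rw [hH₁]; exact hHd)
      (lt_top_iff_ne_top.mpr hK2) ?_ ?_
    · rw [hH₁]
      exact Cfsg.Agent.Lib.Helper12.K1542.frob_quot _ _ hHd.le hC
    · rcases hbc with ⟨hab, -, -⟩ | ⟨hexp, -⟩
      · -- abelian
        right; right; right; left
        rw [Subgroup.commutator_le]
        intro a ha b hb
        rw [Subgroup.mem_bot, commutatorElement_eq_one_iff_commute]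
        have haG : (a : G) ∈ Cfsg.fittingHallOf L := ⟨a, ha, rfl⟩
        have hbG : (b : G) ∈ Cfsg.fittingHallOf L := ⟨b, hb, rfl⟩
        have := hab.is_comm.comm ⟨(a : G), haG⟩ ⟨(b : G), hbG⟩
        have h2 : (a : G) * (b : G) = (b : G) * (a : G) := congrArg Subtype.val this
        exact Subtype.ext h2
      · by_cases hpp : ∃ p m : ℕ, p.Prime ∧
            (⊥ : Subgroup ↥L).relIndex (Cfsg.fittingHall ↥L) = p ^ m
        · right; right; right; right
          obtain ⟨p, m, hp, hm⟩ := hpp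
          refine ⟨p, m, hp, hm, ?_⟩
          rw [Subgroup.relIndex_bot_left] at hm
          have hm0 : m ≠ 0 := by
            rintro rfl
            rw [pow_zero] at hm
            exact hK1 (Subgroup.card_eq_one.mp hm)
          have hpd : p ∣ Nat.card (Cfsg.fittingHallOf L) := by
            have hcard : Nat.card (Cfsg.fittingHallOf L) = Nat.card (Cfsg.fittingHall ↥L) :=
              Subgroup.card_map_of_injective L.subtype_injective
            rw [hcard, hm]
            exact dvd_pow_self p hm0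
          exact (Cfsg.Agent.Lib.Helper19.K1542.index_dvd_exponent _ U hoddL hK1 hcompl hC).trans (hexp p hp hpd)
        · right; right; left
          exact hpp

end Cfsg.Agent.S1542
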