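import Cfsg.Statements.S1546
-- import your own Cfsg.Agent.* helpers here

set_option autoImplicit false
open Cfsg

namespace Cfsg.Agent.S1546

open Finset in
theorem geom_cast (p q : ℕ) (hp : 2 ≤ p) (R : Type) [CommRing R] :
    (((p ^ q - 1) / (p - 1) : ℕ) : R) = ∑ k ∈ range q, (p : R) ^ k := by
  rw [← Nat.geomSum_eq hp q]
  push_cast
  rfl

theorem geom_mul (p q : ℕ) (hp : 2 ≤ p) :
    (p ^ q - 1) / (p - 1) * (p - 1) = p ^ q - 1 := by
  apply Nat.div_mul_cancel
  simpa using Nat.sub_dvd_pow_sub_pow p 1 q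

theorem cast_of_one (p q r : ℕ) (hp : 2 ≤ p) (h1 : ((p : ZMod r)) = 1) :
    (((p ^ q - 1) / (p - 1) : ℕ) : ZMod r) = (q : ZMod r) := by
  rw [geom_cast p q hp, h1]
  simp

theorem prime_dvd_mod (p q : ℕ) (hp : p.Prime) (hq : q.Prime) (hpq : p % q ≠ 1)
    (r : ℕ) (hr : r.Prime) (hrN : r ∣ (p ^ q - 1) / (p - 1)) : r % q = 1 := by
  have hp2 : 2 ≤ p := hp.two_le
  haveI : Fact r.Prime := ⟨hr⟩
  haveI : Fact q.Prime := ⟨hq⟩
  have hN0 : (((p ^ q - 1) / (p - 1) : ℕ) : ZMod r) = 0 := by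
    rwa [ZMod.natCast_eq_zero_iff]
  have hpow : ((p : ZMod r)) ^ q = 1 := by
    have h2 : r ∣ p ^ q - 1 := by
      rw [← geom_mul p q hp2]
      exact Dvd.dvd.mul_right hrN _
    have h3 : ((p ^ q - 1 : ℕ) : ZMod r) = 0 := by rwa [ZMod.natCast_eq_zero_iff]
    have h4 : 1 ≤ p ^ q := Nat.one_le_pow _ _ (by omega)
    rw [Nat.cast_sub h4] at h3
    push_cast at h3
    exact sub_eq_zero.mp h3
  have hne1 : (p : ZMod r) ≠ 1 := by
    intro h1
    have h5 := cast_of_one p q r hp2 h1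
    rw [hN0] at h5
    have h6 : r ∣ q := (ZMod.natCast_eq_zero_iff q r).mp h5.symm
    have h7 : r = q := by
      rcases hq.eq_one_or_self_of_dvd r h6 with h | h
      · exact absurd h hr.one_lt.ne'
      · exact h
    subst h7
    apply hpq
    have h8 := (ZMod.natCast_eq_natCast_iff' p 1 r).mp (by simpa using h1)
    rw [h8]
    exact Nat.mod_eq_of_lt hr.one_lt
  have hord : orderOf (p : ZMod r) = q := orderOf_eq_prime hpow hne1
  have hp0 : (p : ZMod r) ≠ 0 := by
    intro h0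
    rw [h0, zero_pow hq.ne_zero] at hpow
    exact zero_ne_one hpow
  have hdvd : q ∣ r - 1 := by
    rw [← hord]
    exact orderOf_dvd_of_pow_eq_one (ZMod.pow_card_sub_one_eq_one hp0)
  obtain ⟨k, hk⟩ := hdvd
  have hr1 : r = 1 + q * k := by have := hr.one_lt; omega
  rw [hr1, Nat.add_mul_mod_self_left]
  exact Nat.mod_eq_of_lt hq.one_lt


/-- Let p and q be odd primes and N = (p ^ q − 1) / (p − 1) = 1 + p + ⋯ + p^(q−1). Then N is odd; if p ≡ 1 (mod q) then q ∣ N; and if p is not ≡ 1 (mod q) then N is coprime to p − 1 and every divisor of N is ≡ 1 (mod q). -/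
theorem result (p q : ℕ) (hp : p.Prime) (hq : q.Prime) (hp2 : p ≠ 2) (hq2 : q ≠ 2) : Odd ((p ^ q - 1) / (p - 1)) ∧ (p % q = 1 → q ∣ (p ^ q - 1) / (p - 1)) ∧ (p % q ≠ 1 → Nat.Coprime ((p ^ q - 1) / (p - 1)) (p - 1) ∧ ∀ x : ℕ, x ∣ (p ^ q - 1) / (p - 1) → x % q = 1) := by
  have hp2' : 2 ≤ p := hp.two_le
  have hq3 : 1 < q := hq.one_lt
  have hpodd : Odd p := hp.odd_of_ne_two hp2
  have hqodd : Odd q := hq.odd_of_ne_two hq2
  have hNpos : 0 < (p ^ q - 1) / (p - 1) := by
    rw [← Nat.geomSum_eq hp2' q]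
    obtain ⟨m, rfl⟩ : ∃ m, q = m + 1 := ⟨q - 1, by omega⟩
    rw [Finset.sum_range_succ']
    simp
  refine ⟨?_, ?_, ?_⟩
  · rw [← Nat.not_even_iff_odd, ← ZMod.natCast_eq_zero_iff_even]
    have h1 : ((p : ZMod 2)) = 1 := (ZMod.natCast_eq_one_iff_odd).mpr hpodd
    rw [cast_of_one p q 2 hp2' h1]
    rw [(ZMod.natCast_eq_one_iff_odd).mpr hqodd]
    exact one_ne_zero
  · intro hpq
    rw [← ZMod.natCast_eq_zero_iff]
    have h1 : ((p : ZMod q)) = 1 := by
      have := (ZMod.natCast_eq_natCast_iff' p 1 q).mpr (by rw [hpq, Nat.mod_eq_of_lt hq3])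
      simpa using this
    rw [cast_of_one p q q hp2' h1]
    exact ZMod.natCast_self q
  · intro hpq
    refine ⟨?_, ?_⟩
    · apply Nat.Coprime.symm
      apply Nat.coprime_of_dvd
      intro r hr hr1 hrN
      have h1 := prime_dvd_mod p q hp hq hpq r hr hrN
      haveI : Fact r.Prime := ⟨hr⟩
      have hp1 : ((p : ZMod r)) = 1 := by
        have h3 : ((p - 1 : ℕ) : ZMod r) = 0 := by rwa [ZMod.natCast_eq_zero_iff]
        rw [Nat.cast_sub (by omega)] at h3
        push_cast at h3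
        exact sub_eq_zero.mp h3
      have h5 := cast_of_one p q r hp2' hp1
      have hN0 : (((p ^ q - 1) / (p - 1) : ℕ) : ZMod r) = 0 := by
        rwa [ZMod.natCast_eq_zero_iff]
      rw [hN0] at h5
      have h6 : r ∣ q := (ZMod.natCast_eq_zero_iff q r).mp h5.symm
      have h7 : r = q := by
        rcases hq.eq_one_or_self_of_dvd r h6 with h | h
        · exact absurd h hr.one_lt.ne'
        · exact h
      subst h7
      rw [Nat.mod_self] at h1
      exact absurd h1 (by norm_num)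
    · intro x
      induction x using Nat.recOnMul with
      | zero =>
        intro h0
        rw [zero_dvd_iff] at h0
        omega
      | one =>
        intro _
        exact Nat.mod_eq_of_lt hq3
      | prime r hr =>
        intro hrN
        exact prime_dvd_mod p q hp hq hpq r hr hrN
      | mul a b ha hb =>
        intro hab
        have h1 := ha (Dvd.dvd.trans (Dvd.intro _ rfl) hab)
        have h2 := hb (Dvd.dvd.trans (Dvd.intro_left _ rfl) hab)
        rw [Nat.mul_mod, h1, h2]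
        simpa using Nat.mod_eq_of_lt hq3

end Cfsg.Agent.S1546
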