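import Cfsg.Statements.S1551
import Cfsg.Agent.Lib.Helper92.M24Sextet2

set_option autoImplicit false
open Cfsg

namespace Cfsg.Agent.S1551

open Cfsg.Agent.Lib.Helper10 Cfsg.Agent.Lib.Helper95 Cfsg.Agent.Lib.Helper92
open scoped Pointwise
open Classical

variable {S : Finset (Finset GolayPt)} {k : Equiv.Perm GolayPt}

theorem mem_stab_iff (g : ↥M24) :
    g ∈ MulAction.stabilizer M24 S ↔ (g : Equiv.Perm GolayPt) • S = S := by
  rw [MulAction.mem_stabilizer_iff]
  rfl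

theorem smul_eq_of_fix (x : Equiv.Perm GolayPt) (h : ∀ t ∈ S, x • t = t) : x • S = S := by
  apply Finset.eq_of_subset_of_card_le
  · intro t ht
    obtain ⟨t0, ht0, rfl⟩ := Finset.mem_smul_finset.mp ht
    rw [h t0 ht0]
    exact ht0
  · rw [Finset.card_smul_finset]

theorem conj_injective' (k : Equiv.Perm GolayPt) :
    Function.Injective (fun x : Equiv.Perm GolayPt => k * x * k⁻¹) := by
  intro x y h
  simpa using h

/-- transport of the pointwise-on-tetrads stabiliser. -/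
theorem fix_transport (hk : k ∈ M24) (hkS : k • sx0 = S) (x : Equiv.Perm GolayPt) :
    (x ∈ M24 ∧ ∀ t ∈ S, x • t = t) ↔ x ∈ sxK.image (fun y => k * y * k⁻¹) := by
  rw [Finset.mem_image]
  constructor
  · rintro ⟨hx, hfix⟩
    refine ⟨k⁻¹ * x * k, ?_, by group⟩
    rw [mem_sxK]
    refine ⟨M24.mul_mem (M24.mul_mem (M24.inv_mem hk) hx) hk, ?_⟩
    intro t ht
    have h1 : k • t ∈ S := by
      rw [← hkS]
      exact Finset.smul_mem_smul_finset ht
    have h2 := hfix _ h1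
    rw [mul_smul, mul_smul, h2, smul_smul, inv_mul_cancel, one_smul]
  · rintro ⟨y, hy, rfl⟩
    rw [mem_sxK] at hy
    refine ⟨M24.mul_mem (M24.mul_mem hk hy.1) (M24.inv_mem hk), ?_⟩
    intro t ht
    rw [← hkS] at ht
    obtain ⟨t0, ht0, rfl⟩ := Finset.mem_smul_finset.mp ht
    rw [mul_smul, mul_smul, smul_smul k⁻¹, inv_mul_cancel, one_smul, hy.2 t0 ht0]

theorem sq_transport (hk : k ∈ M24) (hkS : k • sx0 = S) (x : Equiv.Perm GolayPt) :
    ((x ∈ M24 ∧ ∀ t ∈ S, x • t = t) ∧ x * x = 1) ↔ x ∈ sxN.image (fun y => k * y * k⁻¹) := by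
  rw [fix_transport hk hkS, Finset.mem_image, Finset.mem_image]
  constructor
  · rintro ⟨⟨y, hy, rfl⟩, hsq⟩
    refine ⟨y, (mem_sxN y).mpr ⟨hy, ?_⟩, rfl⟩
    have h1 : y * y = k⁻¹ * (k * y * k⁻¹ * (k * y * k⁻¹)) * k := by group
    rw [h1, hsq]
    group
  · rintro ⟨y, hy, rfl⟩
    rw [mem_sxN] at hy
    refine ⟨⟨y, hy.1, rfl⟩, ?_⟩
    calc k * y * k⁻¹ * (k * y * k⁻¹) = k * (y * y) * k⁻¹ := by group
      _ = 1 := by rw [hy.2]; group

/-- counting a part of the stabiliser described by a finset of permutations. -/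
theorem card_subtype_eq (P : ↥(MulAction.stabilizer M24 S) → Prop)
    (F : Finset (Equiv.Perm GolayPt))
    (h : ∀ g : ↥(MulAction.stabilizer M24 S), P g ↔ ((g : ↥M24) : Equiv.Perm GolayPt) ∈ F)
    (hF : ∀ x ∈ F, ∃ hM : x ∈ M24, (⟨x, hM⟩ : ↥M24) ∈ MulAction.stabilizer M24 S) :
    Nat.card {g // P g} = F.card := by
  have e : {g // P g} ≃ F :=
    { toFun := fun g => ⟨((g.1 : ↥M24) : Equiv.Perm GolayPt), (h g.1).mp g.2⟩
      invFun := fun x => ⟨⟨⟨x.1, (hF x.1 x.2).1⟩, (hF x.1 x.2).2⟩, (h _).mpr x.2⟩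
      left_inv := fun g => rfl
      right_inv := fun x => rfl }
  rw [Nat.card_congr e, Nat.card_eq_fintype_card, Fintype.card_coe]

theorem stab_of_fix {x : Equiv.Perm GolayPt} (hM : x ∈ M24) (hfix : ∀ t ∈ S, x • t = t) :
    (⟨x, hM⟩ : ↥M24) ∈ MulAction.stabilizer M24 S :=
  (mem_stab_iff _).mpr (smul_eq_of_fix x hfix)


/-! ### every permutation of the tetrads is induced -/

/-- the permutations of the tetrads induced by the stabiliser. -/
def induced (S : Finset (Finset GolayPt)) : Subgroup (Equiv.Perm ↥S) where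
  carrier := {e | ∃ g ∈ MulAction.stabilizer M24 S, ∀ t : ↥S,
    ((g : ↥M24) : Equiv.Perm GolayPt) • (t : Finset GolayPt) = ((e t : ↥S) : Finset GolayPt)}
  one_mem' := ⟨1, Subgroup.one_mem _, fun t => by simp⟩
  mul_mem' := by
    rintro e1 e2 ⟨g1, hg1, h1⟩ ⟨g2, hg2, h2⟩
    refine ⟨g1 * g2, Subgroup.mul_mem _ hg1 hg2, fun t => ?_⟩
    rw [Subgroup.coe_mul, mul_smul, h2 t, h1 (e2 t)]
    rfl
  inv_mem' := by
    rintro e ⟨g, hg, h⟩
    refine ⟨g⁻¹, Subgroup.inv_mem _ hg, fun t => ?_⟩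
    have h1 := h (e⁻¹ t)
    have h2 : e (e⁻¹ t) = t := by simp
    rw [h2] at h1
    rw [Subgroup.coe_inv, ← h1, smul_smul, inv_mul_cancel, one_smul]

theorem tetrad_index (hkS : k • sx0 = S) (t : Finset GolayPt) (ht : t ∈ S) :
    ∃ l : Fin 6, t = k • fs (sxTets.getD l 0) := by
  rw [← hkS] at ht
  obtain ⟨t0, ht0, rfl⟩ := Finset.mem_smul_finset.mp ht
  obtain ⟨a, ha, rfl⟩ := (mem_sx0 t0).mp ht0
  obtain ⟨i, hi, rfl⟩ := List.getElem_of_mem ha
  have hi6 : i < 6 := hi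
  exact ⟨⟨i, hi6⟩, by rw [List.getD_eq_getElem _ _ hi]⟩

theorem sxTets_inj : ∀ i j : Fin 6, sxTets.getD i 0 = sxTets.getD j 0 → i = j := by decide

theorem sxTets_lt : ∀ i : Fin 6, sxTets.getD i 0 < 2 ^ 24 := by decide

theorem tetrad_inj (i j : Fin 6) (h : k • fs (sxTets.getD i 0) = k • fs (sxTets.getD j 0)) :
    i = j := by
  have h1 := smul_left_cancel k h
  exact sxTets_inj i j (fs_injOn (sxTets_lt i) (sxTets_lt j) h1)

theorem swap_mem_induced (hk : k ∈ M24) (hkS : k • sx0 = S) (t1 t2 : ↥S) (hne : t1 ≠ t2) :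
    Equiv.swap t1 t2 ∈ induced S := by
  obtain ⟨i, hi⟩ := tetrad_index hkS t1.1 t1.2
  obtain ⟨j, hj⟩ := tetrad_index hkS t2.1 t2.2
  have hij : i ≠ j := by
    intro h
    apply hne
    apply Subtype.ext
    rw [hi, hj, h]
  obtain ⟨g0, hg0, hsw⟩ := sx_swap i j hij
  have hgM : k * g0 * k⁻¹ ∈ M24 := M24.mul_mem (M24.mul_mem hk hg0) (M24.inv_mem hk)
  have hact : ∀ l : Fin 6, (k * g0 * k⁻¹) • (k • fs (sxTets.getD l 0)) =
      k • fs (sxTets.getD (if l = i then j else if l = j then i else l) 0) := by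
    intro l
    rw [mul_smul, mul_smul, smul_smul k⁻¹, inv_mul_cancel, one_smul, hsw l]
  have hstab : (k * g0 * k⁻¹) • S = S := by
    have hS : S ∈ sextets := hkS ▸ smul_mem_sextets hk sx0_mem
    apply smul_sextet_eq hgM hS hS t1.2
    rw [hi, hact i, if_pos rfl, ← hj]
    exact t2.2
  refine ⟨⟨k * g0 * k⁻¹, hgM⟩, (mem_stab_iff _).mpr hstab, fun t => ?_⟩
  obtain ⟨l, hl⟩ := tetrad_index hkS t.1 t.2
  show (k * g0 * k⁻¹) • (t : Finset GolayPt) = _
  rw [hl, hact l]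
  by_cases h1 : l = i
  · have ht1 : t = t1 := Subtype.ext (by rw [hl, hi, h1])
    rw [if_pos h1, ht1, Equiv.swap_apply_left, hj]
  · by_cases h2 : l = j
    · have ht2 : t = t2 := Subtype.ext (by rw [hl, hj, h2])
      rw [if_neg h1, if_pos h2, ht2, Equiv.swap_apply_right, hi]
    · rw [if_neg h1, if_neg h2]
      have ht1 : t ≠ t1 := by
        intro h
        apply h1
        apply tetrad_inj (k := k)
        rw [← hl, ← hi, h]
      have ht2 : t ≠ t2 := by
        intro h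
        apply h2
        apply tetrad_inj (k := k)
        rw [← hl, ← hj, h]
      rw [Equiv.swap_apply_of_ne_of_ne ht1 ht2, hl]

theorem induced_eq_top (hk : k ∈ M24) (hkS : k • sx0 = S) : induced S = ⊤ := by
  rw [eq_top_iff, ← Equiv.Perm.closure_isSwap, Subgroup.closure_le]
  rintro e ⟨t1, t2, hne, rfl⟩
  exact swap_mem_induced hk hkS t1 t2 hne


/-! ### the normal subgroup of order 64 -/

theorem sxN_one : (1 : Equiv.Perm GolayPt) ∈ sxN := by
  rw [mem_sxN, mem_sxK]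
  exact ⟨⟨M24.one_mem, fun t _ => one_smul _ t⟩, mul_one 1⟩

theorem sxN_mul {x y : Equiv.Perm GolayPt} (hx : x ∈ sxN) (hy : y ∈ sxN) : x * y ∈ sxN := by
  have hc := sxN_comm x y hx hy
  rw [mem_sxN, mem_sxK] at hx hy ⊢
  refine ⟨⟨M24.mul_mem hx.1.1 hy.1.1, fun t ht => ?_⟩, ?_⟩
  · rw [mul_smul, hy.1.2 t ht, hx.1.2 t ht]
  · calc x * y * (x * y) = x * (y * x) * y := by group
      _ = x * (x * y) * y := by rw [hc]
      _ = (x * x) * (y * y) := by group
      _ = 1 := by rw [hx.2, hy.2, mul_one]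

theorem sxN_inv {x : Equiv.Perm GolayPt} (hx : x ∈ sxN) : x⁻¹ ∈ sxN := by
  have h1 : x⁻¹ = x := by
    rw [inv_eq_iff_mul_eq_one]
    exact ((mem_sxN x).mp hx).2
  rw [h1]
  exact hx

/-- the normal subgroup of order 64 of the stabiliser. -/
def nSub (S : Finset (Finset GolayPt)) (k : Equiv.Perm GolayPt) :
    Subgroup ↥(MulAction.stabilizer M24 S) where
  carrier := {g | ((g : ↥M24) : Equiv.Perm GolayPt) ∈ sxN.image (fun y => k * y * k⁻¹)}
  one_mem' := by
    rw [Set.mem_ofPred_eq, Finset.mem_image]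
    exact ⟨1, sxN_one, by simp⟩
  mul_mem' := by
    intro x y hx hy
    rw [Set.mem_ofPred_eq, Finset.mem_image] at hx hy ⊢
    obtain ⟨x0, hx0, ex⟩ := hx
    obtain ⟨y0, hy0, ey⟩ := hy
    refine ⟨x0 * y0, sxN_mul hx0 hy0, ?_⟩
    show k * (x0 * y0) * k⁻¹ = ((x : ↥M24) : Equiv.Perm GolayPt) * ((y : ↥M24) : Equiv.Perm GolayPt)
    rw [← ex, ← ey]
    group
  inv_mem' := by
    intro x hx
    rw [Set.mem_ofPred_eq, Finset.mem_image] at hx ⊢
    obtain ⟨x0, hx0, ex⟩ := hx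
    refine ⟨x0⁻¹, sxN_inv hx0, ?_⟩
    show k * x0⁻¹ * k⁻¹ = (((x : ↥M24) : Equiv.Perm GolayPt))⁻¹
    rw [← ex]
    group

theorem mem_nSub (g : ↥(MulAction.stabilizer M24 S)) :
    g ∈ nSub S k ↔ ((g : ↥M24) : Equiv.Perm GolayPt) ∈ sxN.image (fun y => k * y * k⁻¹) :=
  Iff.rfl

theorem nSub_normal (hk : k ∈ M24) (hkS : k • sx0 = S) : (nSub S k).Normal := by
  constructor
  intro x hx h
  rw [mem_nSub, ← sq_transport hk hkS] at hx ⊢
  obtain ⟨⟨-, hfix⟩, hsq⟩ := hx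
  have hh : ((h : ↥M24) : Equiv.Perm GolayPt) • S = S := (mem_stab_iff _).mp h.2
  refine ⟨⟨(h * x * h⁻¹ : ↥(MulAction.stabilizer M24 S)).1.2, ?_⟩, ?_⟩
  · intro t ht
    show (((h : ↥M24) : Equiv.Perm GolayPt) * ((x : ↥M24) : Equiv.Perm GolayPt) *
      (((h : ↥M24) : Equiv.Perm GolayPt))⁻¹) • t = t
    have h1 : (((h : ↥M24) : Equiv.Perm GolayPt))⁻¹ • t ∈ S := by
      have h2 : (((h : ↥M24) : Equiv.Perm GolayPt))⁻¹ • S = S := by
        rw [inv_smul_eq_iff, hh]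
      have h3 := Finset.smul_mem_smul_finset (a := (((h : ↥M24) : Equiv.Perm GolayPt))⁻¹) ht
      rw [h2] at h3
      exact h3
    rw [mul_smul, mul_smul, hfix _ h1, smul_smul, mul_inv_cancel, one_smul]
  · show (((h : ↥M24) : Equiv.Perm GolayPt) * ((x : ↥M24) : Equiv.Perm GolayPt) *
      (((h : ↥M24) : Equiv.Perm GolayPt))⁻¹) * (((h : ↥M24) : Equiv.Perm GolayPt) *
      ((x : ↥M24) : Equiv.Perm GolayPt) * (((h : ↥M24) : Equiv.Perm GolayPt))⁻¹) = 1
    have e : ∀ a b : Equiv.Perm GolayPt, a * b * a⁻¹ * (a * b * a⁻¹) = a * (b * b) * a⁻¹ := by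
      intro a b; group
    rw [e, hsq]
    group

/-- Structure of a sextet stabiliser: it induces every permutation of the six tetrads, the subgroup fixing each tetrad setwise has order 192, and there is a normal subgroup of order 64 consisting of elements squaring to the identity. -/
theorem result (S : Finset (Finset Cfsg.GolayPt)) (hS : S ∈ Cfsg.sextets) : (∀ e : Equiv.Perm ↥S, ∃ g ∈ MulAction.stabilizer Cfsg.M24 S, ∀ t : ↥S, (g : Equiv.Perm Cfsg.GolayPt) • (t : Finset Cfsg.GolayPt) = ((e t : ↥S) : Finset Cfsg.GolayPt)) ∧ Nat.card {g : ↥(MulAction.stabilizer Cfsg.M24 S) // ∀ t ∈ S, ((g : Cfsg.M24) : Equiv.Perm Cfsg.GolayPt) • t = t} = 192 ∧ ∃ N : Subgroup ↥(MulAction.stabilizer Cfsg.M24 S), N.Normal ∧ Nat.card N = 64 ∧ ∀ x ∈ N, x * x = 1 := by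
  obtain ⟨k, hk, hkS⟩ := exists_smul_sx0 S hS
  refine ⟨?_, ?_, ?_⟩
  · intro e
    have h : e ∈ induced S := by
      rw [induced_eq_top hk hkS]
      exact Subgroup.mem_top e
    exact h
  · rw [card_subtype_eq _ (sxK.image (fun y => k * y * k⁻¹))]
    · rw [Finset.card_image_of_injective _ (conj_injective' k), card_sxK]
    · intro g
      rw [← fix_transport hk hkS]
      constructor
      · intro h
        exact ⟨g.1.2, h⟩
      · intro h
        exact h.2
    · intro x hx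
      rw [← fix_transport hk hkS] at hx
      exact ⟨hx.1, stab_of_fix hx.1 hx.2⟩
  · refine ⟨nSub S k, nSub_normal hk hkS, ?_, ?_⟩
    · have h1 := card_subtype_eq (S := S) (fun g => g ∈ nSub S k)
        (sxN.image (fun y => k * y * k⁻¹)) (fun g => mem_nSub g) (by
          intro x hx
          rw [← sq_transport hk hkS] at hx
          exact ⟨hx.1.1, stab_of_fix hx.1.1 hx.1.2⟩)
      rw [Finset.card_image_of_injective _ (conj_injective' k), card_sxN] at h1
      exact h1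
    · intro x hx
      rw [mem_nSub, ← sq_transport hk hkS] at hx
      apply Subtype.ext
      apply Subtype.ext
      exact hx.2

end Cfsg.Agent.S1551
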