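import Cfsg.Statements.S1552
import Cfsg.Agent.Lib.Helper35.SextetStab

set_option autoImplicit false
open scoped Pointwise
open Cfsg

namespace Cfsg.Agent.S1552

open Cfsg.Agent.Lib.Helper35

set_option maxHeartbeats 4000000

theorem class_smul (g : ↥Cfsg.M24) (y z : Finset (Finset Cfsg.GolayPt)) :
    famClass (g • y) (g • z) = famClass y z := famClass_smul (g : Equiv.Perm Cfsg.GolayPt) y z

theorem smul_sextets (g : ↥Cfsg.M24) {y : Finset (Finset Cfsg.GolayPt)} (hy : y ∈ Cfsg.sextets) :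
    g • y ∈ Cfsg.sextets := smul_mem_sextets g.2 hy

theorem orbit_eq_class {S X : Finset (Finset Cfsg.GolayPt)} (hS : S ∈ Cfsg.sextets)
    (hX : X ∈ Cfsg.sextets) :
    MulAction.orbit ↥(MulAction.stabilizer Cfsg.M24 S) X = sextetClassSet S (famClass S X) := by
  ext Y
  rw [MulAction.mem_orbit_iff]
  constructor
  · rintro ⟨h, rfl⟩
    have hfix : (h : ↥Cfsg.M24) • S = S := MulAction.mem_stabilizer_iff.mp h.2
    refine ⟨smul_sextets (h : ↥Cfsg.M24) hX, ?_⟩
    show famClass S ((h : ↥Cfsg.M24) • X) = famClass S X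
    have := class_smul (h : ↥Cfsg.M24) S X
    rw [hfix] at this
    exact this
  · rintro ⟨hY, hc⟩
    obtain ⟨g, hg, hgS, hgX⟩ := sextet_stab_transitive hS hX hY hc.symm
    exact ⟨⟨⟨g, hg⟩, MulAction.mem_stabilizer_iff.mpr hgS⟩, hgX⟩

theorem ncard_class {a : Equiv.Perm Cfsg.GolayPt} (ha : a ∈ Cfsg.M24) (j : ℕ) :
    (sextetClassSet (a • sx0) j).ncard = (sextetClassSet sx0 j).ncard := by
  unfold sextetClassSet
  rw [ncard_smul_transport a (fun X => X ∈ Cfsg.sextets ∧ famClass (a • sx0) X = j)]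
  congr 1
  ext X
  simp only [Set.mem_ofPred_eq]
  rw [famClass_smul]
  constructor
  · rintro ⟨h1, h2⟩
    refine ⟨?_, h2⟩
    have := smul_mem_sextets (Cfsg.M24.inv_mem ha) h1
    rwa [inv_smul_smul] at this
  · rintro ⟨h1, h2⟩
    exact ⟨smul_mem_sextets ha h1, h2⟩

theorem class_sr48 : famClass sx0 sr48 = 48 := by
  rw [famClass_eq sx0_card sr48_card, fcode_sx0, fcode_sr48]
  decide +kernel

theorem class_sr36 : famClass sx0 sr36 = 36 := by
  rw [famClass_eq sx0_card sr36_card, fcode_sx0, fcode_sr36]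
  decide +kernel

theorem class_sr32 : famClass sx0 sr32 = 32 := by
  rw [famClass_eq sx0_card sr32_card, fcode_sx0, fcode_sr32]
  decide +kernel

theorem connected_at_sx0 {p : Finset (Finset Cfsg.GolayPt)} (hp : p ∈ Cfsg.sextets)
    (hne : p ≠ sx0) :
    ConnectedBy Cfsg.sextets (fun a b => famClass a b = famClass sx0 p) sx0 := by
  obtain ⟨hj, _⟩ := sreach_rep hp
  rcases hj with ⟨_, hj⟩ | ⟨hj, _⟩ | ⟨hj, _⟩ | ⟨hj, _⟩
  · exact absurd hj hne
  · rw [hj]; exact sextets_connected48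
  · rw [hj]; exact sextets_connected36
  · rw [hj]; exact sextets_connected32

theorem coatom (S : Finset (Finset Cfsg.GolayPt)) (hS : S ∈ Cfsg.sextets) :
    IsCoatom (MulAction.stabilizer Cfsg.M24 S) := by
  obtain ⟨a, ha, rfl⟩ := exists_smul_sx0_eq hS
  apply isCoatom_stabilizer_of_connected (G := ↥Cfsg.M24) (a • sx0) Cfsg.sextets
    (fun g => smul_sextets g hS) famClass class_smul
  · intro y z hy hz _ _ hyz
    obtain ⟨g, hg, hgo, hgy⟩ := sextet_stab_transitive hS hy hz hyz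
    exact ⟨⟨g, hg⟩, MulAction.mem_stabilizer_iff.mpr hgo, hgy⟩
  · intro y hy hne
    have hy' : (⟨a, ha⟩ : ↥Cfsg.M24)⁻¹ • y ∈ Cfsg.sextets := smul_sextets _ hy
    have hne' : (⟨a, ha⟩ : ↥Cfsg.M24)⁻¹ • y ≠ sx0 := by
      intro h
      apply hne
      rw [← h]
      exact (smul_inv_smul (⟨a, ha⟩ : ↥Cfsg.M24) y).symm
    have hc := connected_at_sx0 hy' hne'
    have e : famClass sx0 ((⟨a, ha⟩ : ↥Cfsg.M24)⁻¹ • y) = famClass (a • sx0) y := by
      rw [← class_smul ⟨a, ha⟩ sx0, smul_inv_smul]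
      rfl
    rw [e] at hc
    exact hc.smul (G := ↥Cfsg.M24) (fun g y hy => smul_sextets g hy)
      (fun g u v huv => by rw [class_smul]; exact huv) ⟨a, ha⟩
  · exact fun g y hy => smul_sextets g hy
  · obtain ⟨b, hb, hbr⟩ := exists_smul_sx0_eq sr48_mem
    refine ⟨⟨a * b * a⁻¹, Cfsg.M24.mul_mem (Cfsg.M24.mul_mem ha hb) (Cfsg.M24.inv_mem ha)⟩, ?_⟩
    show (a * b * a⁻¹) • a • sx0 ≠ a • sx0
    rw [mul_smul, mul_smul, inv_smul_smul, hbr]
    intro h
    have h1 : sr48 = sx0 := smul_left_cancel a h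
    have h2 : famClass sx0 sr48 = famClass sx0 sx0 := by rw [h1]
    rw [class_sr48, famClass_eq sx0_card sx0_card, fcode_sx0] at h2
    revert h2
    decide +kernel

/-- A sextet stabiliser has four orbits on the 1771 sextets, of sizes 1, 90, 240, 1440; and the stabiliser is a maximal proper subgroup. -/
theorem result (S : Finset (Finset Cfsg.GolayPt)) (hS : S ∈ Cfsg.sextets) : ∃ X₁ ∈ Cfsg.sextets, ∃ X₂ ∈ Cfsg.sextets, ∃ X₃ ∈ Cfsg.sextets, (MulAction.orbit ↥(MulAction.stabilizer Cfsg.M24 S) X₁).ncard = 90 ∧ (MulAction.orbit ↥(MulAction.stabilizer Cfsg.M24 S) X₂).ncard = 240 ∧ (MulAction.orbit ↥(MulAction.stabilizer Cfsg.M24 S) X₃).ncard = 1440 ∧ Cfsg.sextets = {S} ∪ MulAction.orbit ↥(MulAction.stabilizer Cfsg.M24 S) X₁ ∪ MulAction.orbit ↥(MulAction.stabilizer Cfsg.M24 S) X₂ ∪ MulAction.orbit ↥(MulAction.stabilizer Cfsg.M24 S) X₃ ∧ IsCoatom (MulAction.stabilizer Cfsg.M24 S) := by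

  obtain ⟨a, ha, rfl⟩ := exists_smul_sx0_eq hS
  have hX : ∀ {r : Finset (Finset Cfsg.GolayPt)}, r ∈ Cfsg.sextets → a • r ∈ Cfsg.sextets :=
    fun hr => smul_mem_sextets ha hr
  have hcl : ∀ r : Finset (Finset Cfsg.GolayPt), famClass (a • sx0) (a • r) = famClass sx0 r :=
    fun r => famClass_smul a sx0 r
  obtain ⟨n48, n36, n32⟩ := ncard_classes_base
  refine ⟨a • sr48, hX sr48_mem, a • sr36, hX sr36_mem, a • sr32, hX sr32_mem, ?_, ?_, ?_, ?_,
    coatom _ hS⟩
  · rw [orbit_eq_class hS (hX sr48_mem), hcl, class_sr48, ncard_class ha, n48]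
  · rw [orbit_eq_class hS (hX sr36_mem), hcl, class_sr36, ncard_class ha, n36]
  · rw [orbit_eq_class hS (hX sr32_mem), hcl, class_sr32, ncard_class ha, n32]
  · rw [orbit_eq_class hS (hX sr48_mem), hcl, class_sr48, orbit_eq_class hS (hX sr36_mem), hcl,
      class_sr36, orbit_eq_class hS (hX sr32_mem), hcl, class_sr32]
    apply Set.Subset.antisymm
    · intro Y hY
      have hY' : a⁻¹ • Y ∈ Cfsg.sextets := smul_mem_sextets (Cfsg.M24.inv_mem ha) hY
      have e : famClass sx0 (a⁻¹ • Y) = famClass (a • sx0) Y := by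
        rw [← famClass_smul a sx0 (a⁻¹ • Y), smul_inv_smul]
      obtain ⟨h, _⟩ := sreach_rep hY'
      rw [e] at h
      rcases h with ⟨_, h⟩ | ⟨h, _⟩ | ⟨h, _⟩ | ⟨h, _⟩
      · refine Or.inl (Or.inl (Or.inl ?_))
        rw [Set.mem_singleton_iff, ← h, smul_inv_smul]
      · exact Or.inl (Or.inl (Or.inr ⟨hY, h⟩))
      · exact Or.inl (Or.inr ⟨hY, h⟩)
      · exact Or.inr ⟨hY, h⟩
    · intro Y hY
      rcases hY with ((hY | hY) | hY) | hY
      · rw [Set.mem_singleton_iff] at hY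
        rw [hY]; exact hS
      · exact hY.1
      · exact hY.1
      · exact hY.1

end Cfsg.Agent.S1552
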