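import Cfsg.Statements.S1558
import Cfsg.Agent.Lib.Helper35.TrioMain

set_option autoImplicit false
open scoped Pointwise
open Cfsg

namespace Cfsg.Agent.S1558

open Cfsg.Agent.Lib.Helper35 MulAction
open scoped Pointwise

/-- Transport of the structural statement along an isomorphism. -/
theorem transport2 {G H X : Type*} [Group G] [Group H] [Group X] (e : G ≃* H)
    (h : ∃ (N : Subgroup G) (_ : N.Normal), Nat.card N = 64 ∧ (∀ x ∈ N, x * x = 1) ∧
      Nonempty (G ⧸ N ≃* X)) :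
    ∃ (N : Subgroup H) (_ : N.Normal), Nat.card N = 64 ∧ (∀ x ∈ N, x * x = 1) ∧
      Nonempty (H ⧸ N ≃* X) := by
  obtain ⟨N, hN, hc, hx, ⟨f⟩⟩ := h
  have hN' : (N.map e.toMonoidHom).Normal := Subgroup.Normal.map hN e.toMonoidHom e.surjective
  refine ⟨N.map e.toMonoidHom, hN', ?_, ?_, ?_⟩
  · rw [← hc]
    exact Nat.card_congr (e.subgroupMap N).toEquiv.symm
  · rintro x ⟨y, hy, rfl⟩
    have := hx y hy
    rw [MulEquiv.coe_toMonoidHom, ← map_mul, this, map_one]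
  · exact ⟨(QuotientGroup.congr N (N.map e.toMonoidHom) e rfl).symm.trans f⟩

/-- Transport of the first part. -/
theorem transport1 {σ : Equiv.Perm Cfsg.GolayPt} (hσ : σ ∈ Cfsg.M24)
    {T0 T : Finset (Finset Cfsg.GolayPt)} (hT : σ • T0 = T)
    (h0 : ∀ e : Equiv.Perm ↥T0, ∃ g ∈ stabilizer Cfsg.M24 T0, ∀ o : ↥T0,
      (g : Equiv.Perm Cfsg.GolayPt) • (o : Finset Cfsg.GolayPt) = ((e o : ↥T0) : Finset Cfsg.GolayPt)) :
    ∀ e : Equiv.Perm ↥T, ∃ g ∈ stabilizer Cfsg.M24 T, ∀ o : ↥T,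
      (g : Equiv.Perm Cfsg.GolayPt) • (o : Finset Cfsg.GolayPt) = ((e o : ↥T) : Finset Cfsg.GolayPt) := by
  subst hT
  intro e
  let β : ↥T0 ≃ ↥(σ • T0) :=
    { toFun := fun o => ⟨σ • o.1, Finset.smul_mem_smul_finset o.2⟩
      invFun := fun o => ⟨σ⁻¹ • o.1, Finset.inv_smul_mem_iff.mpr o.2⟩
      left_inv := fun o => Subtype.ext (inv_smul_smul _ _)
      right_inv := fun o => Subtype.ext (smul_inv_smul _ _) }
  obtain ⟨g0, hg0, hg0e⟩ := h0 ((β.trans e).trans β.symm)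
  let s : ↥Cfsg.M24 := ⟨σ, hσ⟩
  refine ⟨s * g0 * s⁻¹, ?_, ?_⟩
  · rw [mem_stabilizer_iff] at hg0 ⊢
    have e1 : s • T0 = σ • T0 := rfl
    rw [mul_smul, mul_smul, ← e1, inv_smul_smul, hg0]
  · intro o
    have h1 := hg0e (β.symm o)
    have h2 : (((β.trans e).trans β.symm) (β.symm o) : ↥T0) = β.symm (e o) := by
      simp
    rw [h2] at h1
    have h3 : ((β.symm o : ↥T0) : Finset Cfsg.GolayPt) = σ⁻¹ • (o : Finset Cfsg.GolayPt) := rfl
    have h4 : ((β.symm (e o) : ↥T0) : Finset Cfsg.GolayPt) = σ⁻¹ • ((e o : ↥(σ • T0)) : Finset Cfsg.GolayPt) := rfl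
    rw [h3, h4] at h1
    have h5 : ((s * g0 * s⁻¹ : ↥Cfsg.M24) : Equiv.Perm Cfsg.GolayPt) = σ * (g0 : Equiv.Perm Cfsg.GolayPt) * σ⁻¹ := rfl
    rw [h5, mul_smul, mul_smul, h1, smul_inv_smul]

/-- Structure of a trio stabiliser: every permutation of the three octads is induced, and there is a normal subgroup of order 64 of elements squaring to the identity whose quotient is isomorphic to the product of GL(3, 2) with the symmetric group of degree 3. -/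
theorem result (T : Finset (Finset Cfsg.GolayPt)) (hT : T ∈ Cfsg.trios) : (∀ e : Equiv.Perm ↥T, ∃ g ∈ MulAction.stabilizer Cfsg.M24 T, ∀ o : ↥T, (g : Equiv.Perm Cfsg.GolayPt) • (o : Finset Cfsg.GolayPt) = ((e o : ↥T) : Finset Cfsg.GolayPt)) ∧ ∃ (N : Subgroup ↥(MulAction.stabilizer Cfsg.M24 T)) (_ : N.Normal), Nat.card N = 64 ∧ (∀ x ∈ N, x * x = 1) ∧ Nonempty (↥(MulAction.stabilizer Cfsg.M24 T) ⧸ N ≃* GL (Fin 3) (ZMod 2) × Equiv.Perm (Fin 3)) := by
  obtain ⟨σ, hσ, hσT⟩ := exists_smul_q0_eq hT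
  refine ⟨transport1 hσ hσT base_part1, ?_⟩
  have hg : T = (⟨σ, hσ⟩ : ↥Cfsg.M24) • q0 := hσT.symm
  exact transport2 (MulAction.stabilizerEquivStabilizer hg) base_part2

end Cfsg.Agent.S1558
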