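import Cfsg.Statements.S1559
import Cfsg.Agent.Lib.Helper35.TrioStab

set_option autoImplicit false
open scoped Pointwise
open Cfsg

namespace Cfsg.Agent.S1559

open Cfsg.Agent.Lib.Helper35

set_option maxHeartbeats 4000000

theorem class_smul (g : ↥Cfsg.M24) (y z : Finset (Finset Cfsg.GolayPt)) :
    famClass (g • y) (g • z) = famClass y z := famClass_smul (g : Equiv.Perm Cfsg.GolayPt) y z

theorem smul_trios (g : ↥Cfsg.M24) {y : Finset (Finset Cfsg.GolayPt)} (hy : y ∈ Cfsg.trios) :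
    g • y ∈ Cfsg.trios := smul_mem_trios g.2 hy

theorem orbit_eq_class {S X : Finset (Finset Cfsg.GolayPt)} (hS : S ∈ Cfsg.trios)
    (hX : X ∈ Cfsg.trios) :
    MulAction.orbit ↥(MulAction.stabilizer Cfsg.M24 S) X = trioClassSet S (famClass S X) := by
  ext Y
  rw [MulAction.mem_orbit_iff]
  constructor
  · rintro ⟨h, rfl⟩
    have hfix : (h : ↥Cfsg.M24) • S = S := MulAction.mem_stabilizer_iff.mp h.2
    refine ⟨smul_trios (h : ↥Cfsg.M24) hX, ?_⟩
    show famClass S ((h : ↥Cfsg.M24) • X) = famClass S X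
    have := class_smul (h : ↥Cfsg.M24) S X
    rw [hfix] at this
    exact this
  · rintro ⟨hY, hc⟩
    obtain ⟨g, hg, hgS, hgX⟩ := trio_stab_transitive hS hX hY hc.symm
    exact ⟨⟨⟨g, hg⟩, MulAction.mem_stabilizer_iff.mpr hgS⟩, hgX⟩

theorem ncard_class {a : Equiv.Perm Cfsg.GolayPt} (ha : a ∈ Cfsg.M24) (j : ℕ) :
    (trioClassSet (a • q0) j).ncard = (trioClassSet q0 j).ncard := by
  unfold trioClassSet
  rw [ncard_smul_transport a (fun X => X ∈ Cfsg.trios ∧ famClass (a • q0) X = j)]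
  congr 1
  ext X
  simp only [Set.mem_ofPred_eq]
  rw [famClass_smul]
  constructor
  · rintro ⟨h1, h2⟩
    refine ⟨?_, h2⟩
    have := smul_mem_trios (Cfsg.M24.inv_mem ha) h1
    rwa [inv_smul_smul] at this
  · rintro ⟨h1, h2⟩
    exact ⟨smul_mem_trios ha h1, h2⟩

theorem class_qr128 : famClass q0 qr128 = 128 := by
  rw [famClass_q0 qr128_mem, fcode_qr128]
  decide +kernel

theorem class_qr96 : famClass q0 qr96 = 96 := by
  rw [famClass_q0 qr96_mem, fcode_qr96]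
  decide +kernel

theorem class_qr80 : famClass q0 qr80 = 80 := by
  rw [famClass_q0 qr80_mem, fcode_qr80]
  decide +kernel

theorem class_qr72 : famClass q0 qr72 = 72 := by
  rw [famClass_q0 qr72_mem, fcode_qr72]
  decide +kernel

theorem connected_at_q0 {p : Finset (Finset Cfsg.GolayPt)} (hp : p ∈ Cfsg.trios)
    (hne : p ≠ q0) :
    ConnectedBy Cfsg.trios (fun a b => famClass a b = famClass q0 p) q0 := by
  obtain ⟨hj, _⟩ := qreach_rep hp
  rcases hj with ⟨_, hj⟩ | ⟨hj, _⟩ | ⟨hj, _⟩ | ⟨hj, _⟩ | ⟨hj, _⟩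
  · exact absurd hj hne
  · rw [hj]; exact trios_connected128
  · rw [hj]; exact trios_connected96
  · rw [hj]; exact trios_connected80
  · rw [hj]; exact trios_connected72

theorem coatom (S : Finset (Finset Cfsg.GolayPt)) (hS : S ∈ Cfsg.trios) :
    IsCoatom (MulAction.stabilizer Cfsg.M24 S) := by
  obtain ⟨a, ha, rfl⟩ := exists_smul_q0_eq hS
  apply isCoatom_stabilizer_of_connected (G := ↥Cfsg.M24) (a • q0) Cfsg.trios
    (fun g => smul_trios g hS) famClass class_smul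
  · intro y z hy hz _ _ hyz
    obtain ⟨g, hg, hgo, hgy⟩ := trio_stab_transitive hS hy hz hyz
    exact ⟨⟨g, hg⟩, MulAction.mem_stabilizer_iff.mpr hgo, hgy⟩
  · intro y hy hne
    have hy' : (⟨a, ha⟩ : ↥Cfsg.M24)⁻¹ • y ∈ Cfsg.trios := smul_trios _ hy
    have hne' : (⟨a, ha⟩ : ↥Cfsg.M24)⁻¹ • y ≠ q0 := by
      intro h
      apply hne
      rw [← h]
      exact (smul_inv_smul (⟨a, ha⟩ : ↥Cfsg.M24) y).symm
    have hc := connected_at_q0 hy' hne'
    have e : famClass q0 ((⟨a, ha⟩ : ↥Cfsg.M24)⁻¹ • y) = famClass (a • q0) y := by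
      rw [← class_smul ⟨a, ha⟩ q0, smul_inv_smul]
      rfl
    rw [e] at hc
    exact hc.smul (G := ↥Cfsg.M24) (fun g y hy => smul_trios g hy)
      (fun g u v huv => by rw [class_smul]; exact huv) ⟨a, ha⟩
  · exact fun g y hy => smul_trios g hy
  · refine ⟨⟨a * qb128 * a⁻¹,
      Cfsg.M24.mul_mem (Cfsg.M24.mul_mem ha qb128_mem) (Cfsg.M24.inv_mem ha)⟩, ?_⟩
    show (a * qb128 * a⁻¹) • a • q0 ≠ a • q0
    rw [mul_smul, mul_smul, inv_smul_smul]
    intro h
    have h1 : qr128 = q0 := smul_left_cancel a h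
    have h2 : famClass q0 qr128 = famClass q0 q0 := by rw [h1]
    rw [class_qr128, class_q0] at h2
    exact absurd h2 (by decide)

/-- A trio stabiliser has five orbits on the 3795 trios, of sizes 1, 42, 56, 1008, 2688; and the stabiliser is a maximal proper subgroup. -/
theorem result (T : Finset (Finset Cfsg.GolayPt)) (hT : T ∈ Cfsg.trios) : ∃ X₁ ∈ Cfsg.trios, ∃ X₂ ∈ Cfsg.trios, ∃ X₃ ∈ Cfsg.trios, ∃ X₄ ∈ Cfsg.trios, (MulAction.orbit ↥(MulAction.stabilizer Cfsg.M24 T) X₁).ncard = 42 ∧ (MulAction.orbit ↥(MulAction.stabilizer Cfsg.M24 T) X₂).ncard = 56 ∧ (MulAction.orbit ↥(MulAction.stabilizer Cfsg.M24 T) X₃).ncard = 1008 ∧ (MulAction.orbit ↥(MulAction.stabilizer Cfsg.M24 T) X₄).ncard = 2688 ∧ Cfsg.trios = {T} ∪ MulAction.orbit ↥(MulAction.stabilizer Cfsg.M24 T) X₁ ∪ MulAction.orbit ↥(MulAction.stabilizer Cfsg.M24 T) X₂ ∪ MulAction.orbit ↥(MulAction.stabilizer Cfsg.M24 T) X₃ ∪ MulAction.orbit ↥(MulAction.stabilizer Cfsg.M24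 T) X₄ ∧ IsCoatom (MulAction.stabilizer Cfsg.M24 T) := by

  obtain ⟨a, ha, rfl⟩ := exists_smul_q0_eq hT
  have hX : ∀ {r : Finset (Finset Cfsg.GolayPt)}, r ∈ Cfsg.trios → a • r ∈ Cfsg.trios :=
    fun hr => smul_mem_trios ha hr
  have hcl : ∀ r : Finset (Finset Cfsg.GolayPt), famClass (a • q0) (a • r) = famClass q0 r :=
    fun r => famClass_smul a q0 r
  obtain ⟨n128, n96, n80, n72⟩ := ncard_trioClasses_base
  refine ⟨a • qr128, hX qr128_mem, a • qr96, hX qr96_mem, a • qr80, hX qr80_mem,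
    a • qr72, hX qr72_mem, ?_, ?_, ?_, ?_, ?_, coatom _ hT⟩
  · rw [orbit_eq_class hT (hX qr128_mem), hcl, class_qr128, ncard_class ha, n128]
  · rw [orbit_eq_class hT (hX qr96_mem), hcl, class_qr96, ncard_class ha, n96]
  · rw [orbit_eq_class hT (hX qr80_mem), hcl, class_qr80, ncard_class ha, n80]
  · rw [orbit_eq_class hT (hX qr72_mem), hcl, class_qr72, ncard_class ha, n72]
  · rw [orbit_eq_class hT (hX qr128_mem), hcl, class_qr128, orbit_eq_class hT (hX qr96_mem), hcl,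
      class_qr96, orbit_eq_class hT (hX qr80_mem), hcl, class_qr80,
      orbit_eq_class hT (hX qr72_mem), hcl, class_qr72]
    apply Set.Subset.antisymm
    · intro Y hY
      have hY' : a⁻¹ • Y ∈ Cfsg.trios := smul_mem_trios (Cfsg.M24.inv_mem ha) hY
      have e : famClass q0 (a⁻¹ • Y) = famClass (a • q0) Y := by
        rw [← famClass_smul a q0 (a⁻¹ • Y), smul_inv_smul]
      obtain ⟨h, _⟩ := qreach_rep hY'
      rw [e] at h
      rcases h with ⟨_, h⟩ | ⟨h, _⟩ | ⟨h, _⟩ | ⟨h, _⟩ | ⟨h, _⟩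
      · refine Or.inl (Or.inl (Or.inl (Or.inl ?_)))
        rw [Set.mem_singleton_iff, ← h, smul_inv_smul]
      · exact Or.inl (Or.inl (Or.inl (Or.inr ⟨hY, h⟩)))
      · exact Or.inl (Or.inl (Or.inr ⟨hY, h⟩))
      · exact Or.inl (Or.inr ⟨hY, h⟩)
      · exact Or.inr ⟨hY, h⟩
    · intro Y hY
      rcases hY with (((hY | hY) | hY) | hY) | hY
      · rw [Set.mem_singleton_iff] at hY
        rw [hY]; exact hT
      · exact hY.1
      · exact hY.1
      · exact hY.1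
      · exact hY.1

end Cfsg.Agent.S1559
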