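import Cfsg.Statements.S1560
import Cfsg.Agent.Lib.Helper35.DodecadStab
import Cfsg.Agent.Lib.Helper35.Counting

set_option autoImplicit false
open scoped Pointwise
open Cfsg

namespace Cfsg.Agent.S1560

open Cfsg.Agent.Lib.Helper35
open Cfsg.Agent.Lib.Helper10 (enc)

/-- The mask condition: a dodecad meeting the base dodecad in `j` points. -/
def cond (j : ℕ) (m : ℕ) : Bool := popc 24 m == 12 && popc 24 (d0m &&& m) == j

theorem count4 : ((List.range 4096).filter (fun k => cond 4 (enc k))).length = 495 := by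
  decide +kernel

theorem count6 : ((List.range 4096).filter (fun k => cond 6 (enc k))).length = 1584 := by
  decide +kernel

theorem count8 : ((List.range 4096).filter (fun k => cond 8 (enc k))).length = 495 := by
  decide +kernel

theorem base_set_eq (j : ℕ) :
    {s : Finset Cfsg.GolayPt | s ∈ Cfsg.dodecads ∧ (d0 ∩ s).card = j} =
    {s : Finset Cfsg.GolayPt | s ∈ Cfsg.supports (Cfsg.golayCode : Set (Cfsg.GolayPt → ZMod 2)) ∧
      cond j (gmask s) = true} := by
  ext s
  simp only [Set.mem_ofPred_eq, cond, Bool.and_eq_true, beq_iff_eq]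
  rw [card_inter_eq_popc, gmask_d0]
  constructor
  · rintro ⟨hs, hj⟩
    exact ⟨hs.1, by rw [← card_eq_popc_gmask]; exact hs.2, hj⟩
  · rintro ⟨hs, hw, hj⟩
    exact ⟨⟨hs, by rw [card_eq_popc_gmask]; exact hw⟩, hj⟩

theorem card_inter_smul' (a : Equiv.Perm Cfsg.GolayPt) (y z : Finset Cfsg.GolayPt) :
    ((a • y) ∩ (a • z)).card = (y ∩ z).card := by
  rw [← Finset.smul_finset_inter, Finset.card_smul_finset]

theorem count_transport {a : Equiv.Perm Cfsg.GolayPt} (ha : a ∈ Cfsg.M24) (j : ℕ) :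
    {d' : Finset Cfsg.GolayPt | d' ∈ Cfsg.dodecads ∧ (a • d0 ∩ d').card = j}.ncard =
    {s : Finset Cfsg.GolayPt | s ∈ Cfsg.dodecads ∧ (d0 ∩ s).card = j}.ncard := by
  rw [ncard_smul_transport a (fun d' => d' ∈ Cfsg.dodecads ∧ (a • d0 ∩ d').card = j)]
  congr 1
  ext s
  simp only [Set.mem_ofPred_eq]
  rw [card_inter_smul']
  constructor
  · rintro ⟨h1, h2⟩
    refine ⟨?_, h2⟩
    have := smul_mem_dodecads (Cfsg.M24.inv_mem ha) h1
    rwa [inv_smul_smul] at this
  · rintro ⟨h1, h2⟩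
    exact ⟨smul_mem_dodecads ha h1, h2⟩

theorem eq_of_card_inter_eq_twelve {o y : Finset Cfsg.GolayPt} (ho : o ∈ Cfsg.dodecads)
    (hy : y ∈ Cfsg.dodecads) (h : (o ∩ y).card = 12) : y = o := by
  have h1 : o ∩ y = o := Finset.eq_of_subset_of_card_le Finset.inter_subset_left (by rw [h, ho.2])
  have h2 : o ⊆ y := Finset.inter_eq_left.mp h1
  exact (Finset.eq_of_subset_of_card_le h2 (by rw [hy.2, ho.2])).symm


/-- Intersection numbers of dodecads: a dodecad meets every other dodecad in 0, 4, 6 or 8 points, meeting 495 of them in 4 points, 1584 in 6 points and 495 in 8 points. -/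
theorem result (d : Finset Cfsg.GolayPt) (hd : d ∈ Cfsg.dodecads) : (∀ d' ∈ Cfsg.dodecads, d' ≠ d → (d ∩ d').card = 0 ∨ (d ∩ d').card = 4 ∨ (d ∩ d').card = 6 ∨ (d ∩ d').card = 8) ∧ {d' : Finset Cfsg.GolayPt | d' ∈ Cfsg.dodecads ∧ (d ∩ d').card = 4}.ncard = 495 ∧ {d' : Finset Cfsg.GolayPt | d' ∈ Cfsg.dodecads ∧ (d ∩ d').card = 6}.ncard = 1584 ∧ {d' : Finset Cfsg.GolayPt | d' ∈ Cfsg.dodecads ∧ (d ∩ d').card = 8}.ncard = 495 := by
  obtain ⟨a, ha, rfl⟩ := exists_smul_d0_eq hd
  refine ⟨?_, ?_, ?_, ?_⟩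
  · intro d' hd' hne
    have hd'' : a⁻¹ • d' ∈ Cfsg.dodecads := smul_mem_dodecads (Cfsg.M24.inv_mem ha) hd'
    obtain ⟨hj, _⟩ := dreach_rep hd''
    have e : (d0 ∩ a⁻¹ • d').card = (a • d0 ∩ d').card := by
      rw [← card_inter_smul' a d0, smul_inv_smul]
    rw [e] at hj
    rcases hj with hj | hj | hj | hj | hj
    · exact absurd (eq_of_card_inter_eq_twelve hd hd' hj) hne
    · exact Or.inr (Or.inr (Or.inr hj))
    · exact Or.inr (Or.inr (Or.inl hj))
    · exact Or.inr (Or.inl hj)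
    · exact Or.inl hj
  · rw [count_transport ha, base_set_eq, ncard_supports_filter, count4]
  · rw [count_transport ha, base_set_eq, ncard_supports_filter, count6]
  · rw [count_transport ha, base_set_eq, ncard_supports_filter, count8]

end Cfsg.Agent.S1560
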