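import Cfsg.Statements.S1562
import Cfsg.Agent.Lib.Helper35.TriadStab

set_option autoImplicit false
open scoped Pointwise
open Cfsg

namespace Cfsg.Agent.S1562

open Cfsg.Agent.Lib.Helper35

set_option maxHeartbeats 4000000

open Classical in
theorem triadClass_eq_one_iff (T U : Finset Cfsg.GolayPt) :
    triadClass T U = 1 ↔ Disjoint T U ∧ ∃ o ∈ Cfsg.octads, T ∪ U ⊆ o := by
  unfold triadClass
  rw [Finset.disjoint_iff_inter_eq_empty, ← Finset.card_eq_zero]
  by_cases h0 : (T ∩ U).card = 0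
  · rw [if_pos h0]
    by_cases h1 : ∃ o ∈ Cfsg.octads, T ∪ U ⊆ o
    · rw [if_pos h1]; exact ⟨fun _ => ⟨h0, h1⟩, fun _ => rfl⟩
    · rw [if_neg h1]
      exact ⟨fun h => absurd h (by decide), fun h => absurd h.2 h1⟩
  · rw [if_neg h0]
    exact ⟨fun h => by omega, fun h => absurd h.1 h0⟩

open Classical in
theorem triadClass_eq_zero_iff (T U : Finset Cfsg.GolayPt) :
    triadClass T U = 0 ↔ Disjoint T U ∧ ¬ ∃ o ∈ Cfsg.octads, T ∪ U ⊆ o := by
  unfold triadClass
  rw [Finset.disjoint_iff_inter_eq_empty, ← Finset.card_eq_zero]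
  by_cases h0 : (T ∩ U).card = 0
  · rw [if_pos h0]
    by_cases h1 : ∃ o ∈ Cfsg.octads, T ∪ U ⊆ o
    · rw [if_pos h1]
      exact ⟨fun h => absurd h (by decide), fun h => absurd h1 h.2⟩
    · rw [if_neg h1]; exact ⟨fun _ => ⟨h0, h1⟩, fun _ => rfl⟩
  · rw [if_neg h0]
    exact ⟨fun h => by omega, fun h => absurd h.1 h0⟩

theorem count_class_base (j : ℕ) :
    {U : Finset Cfsg.GolayPt | U.card = 3 ∧ triadClass t0 U = j}.ncard =
      ((subs 24 3).filter (fun m => tcls m == j)).length := by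
  have hset : {U : Finset Cfsg.GolayPt | U.card = 3 ∧ triadClass t0 U = j} =
      {s : Finset Cfsg.GolayPt | s.card = 3 ∧ (fun m => tcls m == j) (gmask s) = true} := by
    ext U
    simp only [Set.mem_ofPred_eq, beq_iff_eq, triadClass_t0]
  rw [hset]
  exact ncard_ksubsets_filter 3 (fun m => tcls m == j)

theorem count_class {T : Finset Cfsg.GolayPt} (hT : T.card = 3) (j : ℕ) :
    {U : Finset Cfsg.GolayPt | U.card = 3 ∧ triadClass T U = j}.ncard =
      ((subs 24 3).filter (fun m => tcls m == j)).length := by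
  obtain ⟨a, ha, rfl⟩ := exists_smul_t0_eq hT
  rw [ncard_smul_transport a (fun U => U.card = 3 ∧ triadClass (a • t0) U = j)]
  have hset : {U : Finset Cfsg.GolayPt | (a • U).card = 3 ∧ triadClass (a • t0) (a • U) = j} =
      {U : Finset Cfsg.GolayPt | U.card = 3 ∧ triadClass t0 U = j} := by
    ext U
    simp only [Set.mem_ofPred_eq]
    rw [triadClass_smul ha, Finset.card_smul_finset]
  rw [hset]
  exact count_class_base j

theorem count1 : ((subs 24 3).filter (fun m => tcls m == 1)).length = 210 := by decide +kernel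

theorem count0 : ((subs 24 3).filter (fun m => tcls m == 0)).length = 1120 := by decide +kernel

/-- Orbits of a triad stabiliser on the triads disjoint from it: the 210 triads inside a common octad with it form one orbit and the remaining 1120 another. -/
theorem result (T : Finset Cfsg.GolayPt) (hT : T.card = 3) : {U : Finset Cfsg.GolayPt | U.card = 3 ∧ Disjoint T U ∧ (∃ o ∈ Cfsg.octads, T ∪ U ⊆ o)}.ncard = 210 ∧ {U : Finset Cfsg.GolayPt | U.card = 3 ∧ Disjoint T U ∧ ¬ (∃ o ∈ Cfsg.octads, T ∪ U ⊆ o)}.ncard = 1120 ∧ ∀ U U' : Finset Cfsg.GolayPt, U.card = 3 → U'.card = 3 → Disjoint T U → Disjoint T U' → ((∃ o ∈ Cfsg.octads, T ∪ U ⊆ o) ↔ (∃ o ∈ Cfsg.octads, T ∪ U' ⊆ o)) → ∃ g : Equiv.Perm Cfsg.GolayPt, g ∈ Cfsg.M24 ∧ g • T = T ∧ g • U = U' := by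

  refine ⟨?_, ?_, ?_⟩
  · have hset : {U : Finset Cfsg.GolayPt | U.card = 3 ∧ Disjoint T U ∧
        (∃ o ∈ Cfsg.octads, T ∪ U ⊆ o)} =
        {U : Finset Cfsg.GolayPt | U.card = 3 ∧ triadClass T U = 1} := by
      ext U
      simp only [Set.mem_ofPred_eq]
      rw [triadClass_eq_one_iff]
    rw [hset, count_class hT 1]
    exact count1
  · have hset : {U : Finset Cfsg.GolayPt | U.card = 3 ∧ Disjoint T U ∧
        ¬ (∃ o ∈ Cfsg.octads, T ∪ U ⊆ o)} =
        {U : Finset Cfsg.GolayPt | U.card = 3 ∧ triadClass T U = 0} := by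
      ext U
      simp only [Set.mem_ofPred_eq]
      rw [triadClass_eq_zero_iff]
    rw [hset, count_class hT 0]
    exact count0
  · intro U U' hU hU' hd hd' hiff
    apply triad_stab_transitive hT hU hU'
    by_cases h : ∃ o ∈ Cfsg.octads, T ∪ U ⊆ o
    · rw [(triadClass_eq_one_iff T U).mpr ⟨hd, h⟩, (triadClass_eq_one_iff T U').mpr ⟨hd', hiff.mp h⟩]
    · rw [(triadClass_eq_zero_iff T U).mpr ⟨hd, h⟩,
        (triadClass_eq_zero_iff T U').mpr ⟨hd', fun h' => h (hiff.mpr h')⟩]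

end Cfsg.Agent.S1562
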