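import Cfsg.Statements.S1563
import Cfsg.Agent.Lib.Helper35.DuadStab

set_option autoImplicit false
open scoped Pointwise
open Cfsg

namespace Cfsg.Agent.S1563

open Cfsg.Agent.Lib.Helper35

theorem class_smul (g : ↥Cfsg.M24) (y z : Finset Cfsg.GolayPt) :
    ((g • y) ∩ (g • z)).card = (y ∩ z).card := card_inter_smul_perm (g : Equiv.Perm Cfsg.GolayPt) y z

theorem card_smul2 (g : ↥Cfsg.M24) {y : Finset Cfsg.GolayPt} (hy : y.card = 2) :
    (g • y).card = 2 := by
  show ((g : Equiv.Perm Cfsg.GolayPt) • y).card = 2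
  rw [Finset.card_smul_finset]; exact hy

theorem connected_at_u0 {p : Finset Cfsg.GolayPt} (hp : p.card = 2) (hne : p ≠ u0) :
    ConnectedBy {s : Finset Cfsg.GolayPt | s.card = 2}
      (fun a b => (a ∩ b).card = (u0 ∩ p).card) u0 := by
  obtain ⟨hj, _⟩ := ureach_rep hp
  rcases hj with ⟨_, hj⟩ | hj | hj
  · exact absurd hj hne
  · rw [hj]; exact duads_connected1
  · rw [hj]; exact duads_connected0

/-- The stabiliser of a pair of points (setwise) is a maximal proper subgroup of the group of the length-24 code. -/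
theorem result (s : Finset Cfsg.GolayPt) (hs : s.card = 2) : IsCoatom (MulAction.stabilizer Cfsg.M24 s) := by

  obtain ⟨a, ha, rfl⟩ := exists_smul_u0_eq hs
  apply isCoatom_stabilizer_of_connected (G := ↥Cfsg.M24) (a • u0)
    {s : Finset Cfsg.GolayPt | s.card = 2}
    (fun g => card_smul2 g hs) (fun y z => (y ∩ z).card) class_smul
  · intro y z hy hz _ _ hyz
    obtain ⟨g, hg, hgo, hgy⟩ := duad_stab_transitive hs hy hz hyz
    exact ⟨⟨g, hg⟩, MulAction.mem_stabilizer_iff.mpr hgo, hgy⟩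
  · intro y hy hne
    have hy' : ((⟨a, ha⟩ : ↥Cfsg.M24)⁻¹ • y).card = 2 := card_smul2 _ hy
    have hne' : (⟨a, ha⟩ : ↥Cfsg.M24)⁻¹ • y ≠ u0 := by
      intro h
      apply hne
      rw [← h]
      exact (smul_inv_smul (⟨a, ha⟩ : ↥Cfsg.M24) y).symm
    have hc := connected_at_u0 hy' hne'
    have e : (u0 ∩ (⟨a, ha⟩ : ↥Cfsg.M24)⁻¹ • y).card = (a • u0 ∩ y).card := by
      rw [← class_smul ⟨a, ha⟩ u0, smul_inv_smul]
      rfl
    rw [e] at hc
    exact hc.smul (G := ↥Cfsg.M24) (fun g y hy => card_smul2 g hy)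
      (fun g u v huv => by rw [class_smul]; exact huv) ⟨a, ha⟩
  · exact fun g y hy => card_smul2 g hy
  · obtain ⟨b, hb, hbr⟩ := exists_smul_u0_eq ur1_card
    refine ⟨⟨a * b * a⁻¹, Cfsg.M24.mul_mem (Cfsg.M24.mul_mem ha hb) (Cfsg.M24.inv_mem ha)⟩, ?_⟩
    show (a * b * a⁻¹) • a • u0 ≠ a • u0
    rw [mul_smul, mul_smul, inv_smul_smul, hbr]
    intro h
    have h1 : ur1 = u0 := smul_left_cancel a h
    have h2 : gmask ur1 = gmask u0 := by rw [h1]
    rw [gmask_ur1, gmask_u0] at h2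
    exact absurd h2 (by decide)

end Cfsg.Agent.S1563
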