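import Cfsg.Statements.S1564
import Cfsg.Agent.Lib.Helper35.TriadStab

set_option autoImplicit false
open scoped Pointwise
open Cfsg

namespace Cfsg.Agent.S1564

open Cfsg.Agent.Lib.Helper35

set_option maxHeartbeats 4000000

theorem class_smul (g : ↥Cfsg.M24) (y z : Finset Cfsg.GolayPt) :
    triadClass (g • y) (g • z) = triadClass y z := triadClass_smul g.2 y z

theorem card_smul3 (g : ↥Cfsg.M24) {y : Finset Cfsg.GolayPt} (hy : y.card = 3) :
    (g • y).card = 3 := by
  show ((g : Equiv.Perm Cfsg.GolayPt) • y).card = 3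
  rw [Finset.card_smul_finset]; exact hy

theorem connected_at_t0 {p : Finset Cfsg.GolayPt} (hp : p.card = 3) (hne : p ≠ t0) :
    ConnectedBy {s : Finset Cfsg.GolayPt | s.card = 3}
      (fun a b => triadClass a b = triadClass t0 p) t0 := by
  obtain ⟨hj, _⟩ := treach_rep hp
  rw [triadClass_t0]
  rcases hj with ⟨_, hj⟩ | hj | hj | hj | hj
  · exact absurd hj hne
  · rw [hj]; exact triads_connected4
  · rw [hj]; exact triads_connected2
  · rw [hj]; exact triads_connected1
  · rw [hj]; exact triads_connected0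

/-- The stabiliser of a set of three points (setwise) is a maximal proper subgroup of the group of the length-24 code. -/
theorem result (s : Finset Cfsg.GolayPt) (hs : s.card = 3) : IsCoatom (MulAction.stabilizer Cfsg.M24 s) := by

  obtain ⟨a, ha, rfl⟩ := exists_smul_t0_eq hs
  apply isCoatom_stabilizer_of_connected (G := ↥Cfsg.M24) (a • t0)
    {s : Finset Cfsg.GolayPt | s.card = 3}
    (fun g => card_smul3 g hs) triadClass class_smul
  · intro y z hy hz _ _ hyz
    obtain ⟨g, hg, hgo, hgy⟩ := triad_stab_transitive hs hy hz hyz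
    exact ⟨⟨g, hg⟩, MulAction.mem_stabilizer_iff.mpr hgo, hgy⟩
  · intro y hy hne
    have hy' : ((⟨a, ha⟩ : ↥Cfsg.M24)⁻¹ • y).card = 3 := card_smul3 _ hy
    have hne' : (⟨a, ha⟩ : ↥Cfsg.M24)⁻¹ • y ≠ t0 := by
      intro h
      apply hne
      rw [← h]
      exact (smul_inv_smul (⟨a, ha⟩ : ↥Cfsg.M24) y).symm
    have hc := connected_at_t0 hy' hne'
    have e : triadClass t0 ((⟨a, ha⟩ : ↥Cfsg.M24)⁻¹ • y) = triadClass (a • t0) y := by
      rw [← class_smul ⟨a, ha⟩ t0, smul_inv_smul]
      rfl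
    rw [e] at hc
    exact hc.smul (G := ↥Cfsg.M24) (fun g y hy => card_smul3 g hy)
      (fun g u v huv => by rw [class_smul]; exact huv) ⟨a, ha⟩
  · exact fun g y hy => card_smul3 g hy
  · obtain ⟨b, hb, hbr⟩ := exists_smul_t0_eq tr4_card
    refine ⟨⟨a * b * a⁻¹, Cfsg.M24.mul_mem (Cfsg.M24.mul_mem ha hb) (Cfsg.M24.inv_mem ha)⟩, ?_⟩
    show (a * b * a⁻¹) • a • t0 ≠ a • t0
    rw [mul_smul, mul_smul, inv_smul_smul, hbr]
    intro h
    have h1 : tr4 = t0 := smul_left_cancel a h
    have h2 : gmask tr4 = gmask t0 := by rw [h1]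
    rw [gmask_tr4, gmask_t0] at h2
    exact absurd h2 (by decide)

end Cfsg.Agent.S1564
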