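import Cfsg.Statements.S1565
import Cfsg.Agent.Lib.Helper35.OctadStab
import Cfsg.Agent.Lib.Helper35.OctadConn

set_option autoImplicit false
open scoped Pointwise
open Cfsg

namespace Cfsg.Agent.S1565

open Cfsg.Agent.Lib.Helper35

theorem card_inter_smul (g : ↥Cfsg.M24) (y z : Finset Cfsg.GolayPt) :
    ((g • y) ∩ (g • z)).card = (y ∩ z).card := by
  rw [← Finset.smul_finset_inter, Finset.card_smul_finset]

theorem smul_octads (g : ↥Cfsg.M24) {y : Finset Cfsg.GolayPt} (hy : y ∈ Cfsg.octads) :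
    g • y ∈ Cfsg.octads := smul_mem_octads g.2 hy

theorem eq_of_card_inter_eq_eight {o y : Finset Cfsg.GolayPt} (ho : o ∈ Cfsg.octads)
    (hy : y ∈ Cfsg.octads) (h : (o ∩ y).card = 8) : y = o := by
  have h1 : o ∩ y = o := Finset.eq_of_subset_of_card_le Finset.inter_subset_left (by rw [h, ho.2])
  have h2 : o ⊆ y := Finset.inter_eq_left.mp h1
  exact (Finset.eq_of_subset_of_card_le h2 (by rw [hy.2, ho.2])).symm

theorem connected_at_x0 {p : Finset Cfsg.GolayPt} (hp : p ∈ Cfsg.octads) (hne : p ≠ x0) :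
    ConnectedBy Cfsg.octads (fun a b => (a ∩ b).card = (x0 ∩ p).card) x0 := by
  obtain ⟨hj, _⟩ := reach_rep hp
  rcases hj with hj | hj | hj | hj
  · exact absurd (eq_of_card_inter_eq_eight x0_mem_octads hp hj) hne
  · rw [hj]; exact octads_connected4
  · rw [hj]; exact octads_connected2
  · rw [hj]; exact octads_connected0


/-- The stabiliser of an octad is a maximal proper subgroup of the group of the length-24 code. -/
theorem result (o : Finset Cfsg.GolayPt) (ho : o ∈ Cfsg.octads) : IsCoatom (MulAction.stabilizer Cfsg.M24 o) := by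
  obtain ⟨a, ha, rfl⟩ := exists_smul_x0_eq ho
  apply isCoatom_stabilizer_of_connected (G := ↥Cfsg.M24) (a • x0) Cfsg.octads
    (fun g => smul_octads g ho) (fun y z => (y ∩ z).card) card_inter_smul
  · intro y z hy hz _ _ hyz
    obtain ⟨g, hg, hgo, hgy⟩ := octad_stab_transitive ho hy hz hyz
    exact ⟨⟨g, hg⟩, MulAction.mem_stabilizer_iff.mpr hgo, hgy⟩
  · intro y hy hne
    have hy' : (⟨a, ha⟩ : ↥Cfsg.M24)⁻¹ • y ∈ Cfsg.octads := smul_octads _ hy
    have hne' : (⟨a, ha⟩ : ↥Cfsg.M24)⁻¹ • y ≠ x0 := by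
      intro h
      apply hne
      rw [← h]
      exact (smul_inv_smul (⟨a, ha⟩ : ↥Cfsg.M24) y).symm
    have hc := connected_at_x0 hy' hne'
    have e : (x0 ∩ (⟨a, ha⟩ : ↥Cfsg.M24)⁻¹ • y).card = (a • x0 ∩ y).card := by
      rw [← card_inter_smul ⟨a, ha⟩ x0, smul_inv_smul]
      rfl
    rw [e] at hc
    exact hc.smul (G := ↥Cfsg.M24) (fun g y hy => smul_octads g hy)
      (fun g u v huv => by rw [card_inter_smul]; exact huv) ⟨a, ha⟩
  · exact fun g y hy => smul_octads g hy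
  · obtain ⟨b, hb, hbr⟩ := exists_smul_x0_eq r4_mem
    refine ⟨⟨a * b * a⁻¹, Cfsg.M24.mul_mem (Cfsg.M24.mul_mem ha hb) (Cfsg.M24.inv_mem ha)⟩, ?_⟩
    show (a * b * a⁻¹) • a • x0 ≠ a • x0
    rw [mul_smul, mul_smul, inv_smul_smul, hbr]
    intro h
    have h1 : r4 = x0 := smul_left_cancel a h
    have h2 : gmask r4 = gmask x0 := by rw [h1]
    rw [gmask_r4, gmask_x0] at h2
    exact absurd h2 (by decide)

end Cfsg.Agent.S1565
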