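import Cfsg.Statements.S1566
import Cfsg.Agent.Lib.Helper35.DodecadStab
import Cfsg.Agent.Lib.Helper35.DodecadConn

set_option autoImplicit false
open scoped Pointwise
open Cfsg

namespace Cfsg.Agent.S1566

open Cfsg.Agent.Lib.Helper35

/-- The pair formed by a set of points and its complement. -/
def pairOf (e : Finset Cfsg.GolayPt) : Finset (Finset Cfsg.GolayPt) := {e, eᶜ}

theorem smul_compl (g : Equiv.Perm Cfsg.GolayPt) (s : Finset Cfsg.GolayPt) :
    g • sᶜ = (g • s)ᶜ := by
  ext x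
  rw [← Finset.inv_smul_mem_iff, Finset.mem_compl, Finset.mem_compl, Finset.inv_smul_mem_iff]

theorem smul_pairOf (g : Equiv.Perm Cfsg.GolayPt) (e : Finset Cfsg.GolayPt) :
    g • pairOf e = pairOf (g • e) := by
  unfold pairOf
  rw [Finset.smul_finset_insert, Finset.smul_finset_singleton, smul_compl]

theorem pairOf_compl (e : Finset Cfsg.GolayPt) : pairOf eᶜ = pairOf e := by
  unfold pairOf
  rw [compl_compl, Finset.pair_comm]

theorem gmask_compl (s : Finset Cfsg.GolayPt) : gmask sᶜ = 16777215 ^^^ gmask s := by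
  have h1 : sᶜ = (Finset.univ : Finset Cfsg.GolayPt) \ s := Finset.compl_eq_univ_sdiff s
  rw [h1, gmask, maskOf_sdiff Cfsg.Agent.Lib.Helper10.idx_injective]
  have h2 : maskOf Cfsg.Agent.Lib.Helper10.idx (Finset.univ : Finset Cfsg.GolayPt) = 16777215 := by
    decide +kernel
  rw [h2]
  have h3 : (16777215 : ℕ) &&& maskOf Cfsg.Agent.Lib.Helper10.idx s =
      maskOf Cfsg.Agent.Lib.Helper10.idx s := by
    apply Nat.eq_of_testBit_eq
    intro i
    rw [Nat.testBit_and]
    by_cases hi : i < 24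
    · have : (16777215 : ℕ).testBit i = true := by
        interval_cases i <;> decide
      rw [this, Bool.true_and]
    · have : (maskOf Cfsg.Agent.Lib.Helper10.idx s).testBit i = false := by
        apply Nat.testBit_lt_two_pow
        exact lt_of_lt_of_le (gmask_lt s) (Nat.pow_le_pow_right (by norm_num) (by omega))
      rw [this, Bool.and_false]
  rw [h3]

theorem dr0_eq : dr0 = d0ᶜ := by
  apply gmask_injective
  rw [gmask_dr0, gmask_compl, gmask_d0]
  decide +kernel

theorem compl_mem_dodecads {e : Finset Cfsg.GolayPt} (he : e ∈ Cfsg.dodecads) :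
    eᶜ ∈ Cfsg.dodecads := by
  obtain ⟨a, ha, rfl⟩ := exists_smul_d0_eq he
  rw [← smul_compl, ← dr0_eq]
  exact smul_mem_dodecads ha dr0_mem

theorem card_golayPt : Fintype.card Cfsg.GolayPt = 24 := by decide

theorem card_inter_compl {d e : Finset Cfsg.GolayPt} (hd : d ∈ Cfsg.dodecads) :
    (d ∩ eᶜ).card = 12 - (d ∩ e).card := by
  have h := Finset.card_sdiff_add_card_inter d e
  rw [Finset.sdiff_eq_inter_compl, hd.2] at h
  omega

theorem card_compl_inter_compl {d e : Finset Cfsg.GolayPt} (hd : d ∈ Cfsg.dodecads)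
    (he : e ∈ Cfsg.dodecads) : (dᶜ ∩ eᶜ).card = (d ∩ e).card := by
  rw [← Finset.compl_union, Finset.card_compl, card_golayPt]
  have h := Finset.card_inter_add_card_union d e
  rw [hd.2, he.2] at h
  omega

/-- The invariant of two families of sets: the largest intersection of a member of the first
with a member of the second. -/
def cInv (P Q : Finset (Finset Cfsg.GolayPt)) : ℕ := (P ×ˢ Q).sup fun pq => (pq.1 ∩ pq.2).card

theorem cInv_pair {d e : Finset Cfsg.GolayPt} (hd : d ∈ Cfsg.dodecads) (he : e ∈ Cfsg.dodecads) :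
    cInv (pairOf d) (pairOf e) = max (d ∩ e).card (12 - (d ∩ e).card) := by
  unfold cInv pairOf
  rw [Finset.sup_product_left]
  simp only [Finset.sup_insert, Finset.sup_singleton]
  rw [card_inter_compl hd, card_compl_inter_compl hd he, Finset.inter_comm dᶜ e,
    card_inter_compl he, Finset.inter_comm e d]
  show max ((d ∩ e).card ⊔ (12 - (d ∩ e).card)) ((12 - (d ∩ e).card) ⊔ (d ∩ e).card) = _
  omega

theorem cInv_smul (g : Equiv.Perm Cfsg.GolayPt) (P Q : Finset (Finset Cfsg.GolayPt)) :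
    cInv (g • P) (g • Q) = cInv P Q := by
  unfold cInv
  have : (g • P) ×ˢ (g • Q) = (P ×ˢ Q).image (fun pq => (g • pq.1, g • pq.2)) := by
    ext ⟨p, q⟩
    simp only [Finset.mem_product, Finset.mem_image, Prod.mk.injEq, Prod.exists]
    constructor
    · rintro ⟨hp, hq⟩
      obtain ⟨p', hp', rfl⟩ := Finset.mem_smul_finset.mp hp
      obtain ⟨q', hq', rfl⟩ := Finset.mem_smul_finset.mp hq
      exact ⟨p', q', ⟨hp', hq'⟩, rfl, rfl⟩
    · rintro ⟨p', q', ⟨hp', hq'⟩, rfl, rfl⟩
      exact ⟨Finset.smul_mem_smul_finset hp', Finset.smul_mem_smul_finset hq'⟩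
  rw [this, Finset.sup_image]
  congr 1
  funext pq
  simp only [Function.comp]
  rw [← Finset.smul_finset_inter, Finset.card_smul_finset]

/-- The family of complementary pairs of dodecads. -/
def Pairs : Set (Finset (Finset Cfsg.GolayPt)) := {Q | ∃ e ∈ Cfsg.dodecads, Q = pairOf e}

theorem pairOf_eq_iff {d e : Finset Cfsg.GolayPt} : pairOf e = pairOf d ↔ e = d ∨ e = dᶜ := by
  unfold pairOf
  constructor
  · intro h
    have : e ∈ ({d, dᶜ} : Finset (Finset Cfsg.GolayPt)) := by
      rw [← h]; exact Finset.mem_insert_self _ _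
    simpa using this
  · rintro (rfl | rfl)
    · rfl
    · rw [compl_compl, Finset.pair_comm]

theorem eq_of_card_inter_eq_twelve {o y : Finset Cfsg.GolayPt} (ho : o ∈ Cfsg.dodecads)
    (hy : y ∈ Cfsg.dodecads) (h : (o ∩ y).card = 12) : y = o := by
  have h1 : o ∩ y = o := Finset.eq_of_subset_of_card_le Finset.inter_subset_left (by rw [h, ho.2])
  have h2 : o ⊆ y := Finset.inter_eq_left.mp h1
  exact (Finset.eq_of_subset_of_card_le h2 (by rw [hy.2, ho.2])).symm

theorem card_inter_smul' (a : Equiv.Perm Cfsg.GolayPt) (y z : Finset Cfsg.GolayPt) :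
    ((a • y) ∩ (a • z)).card = (y ∩ z).card := by
  rw [← Finset.smul_finset_inter, Finset.card_smul_finset]

/-- Possible intersection sizes of two dodecads. -/
theorem card_inter_cases {d e : Finset Cfsg.GolayPt} (hd : d ∈ Cfsg.dodecads)
    (he : e ∈ Cfsg.dodecads) :
    (d ∩ e).card = 12 ∨ (d ∩ e).card = 8 ∨ (d ∩ e).card = 6 ∨ (d ∩ e).card = 4 ∨
      (d ∩ e).card = 0 := by
  obtain ⟨a, ha, rfl⟩ := exists_smul_d0_eq hd
  have he' : a⁻¹ • e ∈ Cfsg.dodecads := smul_mem_dodecads (Cfsg.M24.inv_mem ha) he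
  obtain ⟨hj, _⟩ := dreach_rep he'
  have e1 : (d0 ∩ a⁻¹ • e).card = (a • d0 ∩ e).card := by
    rw [← card_inter_smul' a d0, smul_inv_smul]
  rw [e1] at hj
  exact hj

/-- A representative `e'` of a pair with `|d ∩ e'| ≥ 6`. -/
theorem exists_rep_ge {d e : Finset Cfsg.GolayPt} (hd : d ∈ Cfsg.dodecads)
    (he : e ∈ Cfsg.dodecads) : ∃ e' ∈ Cfsg.dodecads, pairOf e' = pairOf e ∧
      (d ∩ e').card = cInv (pairOf d) (pairOf e) := by
  rw [cInv_pair hd he]
  by_cases h : 6 ≤ (d ∩ e).card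
  · exact ⟨e, he, rfl, by rw [max_eq_left]; omega⟩
  · refine ⟨eᶜ, compl_mem_dodecads he, pairOf_compl e, ?_⟩
    rw [card_inter_compl hd, max_eq_right]
    omega


theorem smul_pairs (g : ↥Cfsg.M24) {Q : Finset (Finset Cfsg.GolayPt)} (hQ : Q ∈ Pairs) :
    g • Q ∈ Pairs := by
  obtain ⟨e, he, rfl⟩ := hQ
  exact ⟨(g : Equiv.Perm Cfsg.GolayPt) • e, smul_mem_dodecads g.2 he, smul_pairOf _ e⟩

theorem card_d0_dr8 : (d0 ∩ dr8).card = 8 := by
  rw [card_inter_eq_popc, gmask_d0, gmask_dr8]
  decide +kernel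

/-- Connectivity of the graph on dodecads at an arbitrary dodecad. -/
theorem dodecads_connected_at {d : Finset Cfsg.GolayPt} (hd : d ∈ Cfsg.dodecads) {j : ℕ}
    (hj : j = 8 ∨ j = 6) : ConnectedBy Cfsg.dodecads (fun a b => (a ∩ b).card = j) d := by
  obtain ⟨a, ha, rfl⟩ := exists_smul_d0_eq hd
  have h0 : ConnectedBy Cfsg.dodecads (fun a b => (a ∩ b).card = j) d0 := by
    rcases hj with rfl | rfl
    · exact dodecads_connected8
    · exact dodecads_connected6
  exact h0.smul (G := ↥Cfsg.M24) (fun g y hy => smul_mem_dodecads g.2 hy)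
    (fun g u v huv => by
      show (((g : Equiv.Perm Cfsg.GolayPt) • u) ∩ ((g : Equiv.Perm Cfsg.GolayPt) • v)).card = j
      rw [card_inter_smul']; exact huv) ⟨a, ha⟩

/-- The setwise stabiliser of a dodecad together with its complement is a maximal proper subgroup of the group of the length-24 code. -/
theorem result (d : Finset Cfsg.GolayPt) (hd : d ∈ Cfsg.dodecads) : IsCoatom (MulAction.stabilizer Cfsg.M24 ({d, dᶜ} : Finset (Finset Cfsg.GolayPt))) := by
  show IsCoatom (MulAction.stabilizer ↥Cfsg.M24 (pairOf d))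
  apply isCoatom_stabilizer_of_connected (G := ↥Cfsg.M24) (pairOf d) Pairs
    (fun g => smul_pairs g ⟨d, hd, rfl⟩) cInv (fun g y z => cInv_smul (g : Equiv.Perm Cfsg.GolayPt) y z)
  · -- transitivity of the stabiliser on the classes
    rintro y z ⟨e₁, he₁, rfl⟩ ⟨e₂, he₂, rfl⟩ _ _ hyz
    obtain ⟨e₁', he₁', hp₁, hc₁⟩ := exists_rep_ge hd he₁
    obtain ⟨e₂', he₂', hp₂, hc₂⟩ := exists_rep_ge hd he₂
    obtain ⟨g, hg, hgd, hge⟩ := dstab_transitive hd he₁' he₂' (by rw [hc₁, hc₂, hyz])
    refine ⟨⟨g, hg⟩, ?_, ?_⟩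
    · rw [MulAction.mem_stabilizer_iff]
      show g • pairOf d = pairOf d
      rw [smul_pairOf, hgd]
    · show g • pairOf e₁ = pairOf e₂
      rw [← hp₁, ← hp₂, smul_pairOf, hge]
  · -- connectivity
    rintro y ⟨e, he, rfl⟩ hne
    have hne' : ¬ (e = d ∨ e = dᶜ) := fun h => hne (pairOf_eq_iff.mpr h)
    have hj : cInv (pairOf d) (pairOf e) = 8 ∨ cInv (pairOf d) (pairOf e) = 6 := by
      rw [cInv_pair hd he]
      rcases card_inter_cases hd he with h | h | h | h | h
      · exact absurd (Or.inl (eq_of_card_inter_eq_twelve hd he h)) hne'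
      · left; rw [h]; rfl
      · right; rw [h]; rfl
      · left; rw [h]; rfl
      · exfalso
        apply hne'
        right
        have h1 : (d ∩ eᶜ).card = 12 := by rw [card_inter_compl hd, h]
        have h2 := eq_of_card_inter_eq_twelve hd (compl_mem_dodecads he) h1
        rw [← h2, compl_compl]
    have hconn := dodecads_connected_at hd hj
    intro P hx hstep Q hQ
    obtain ⟨z, hz, rfl⟩ := hQ
    apply hconn (fun u => P (pairOf u)) hx _ z hz
    intro a b hPa ha hb hab
    apply hstep (pairOf a) (pairOf b) hPa ⟨a, ha, rfl⟩ ⟨b, hb, rfl⟩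
    show cInv (pairOf a) (pairOf b) = cInv (pairOf d) (pairOf e)
    rw [cInv_pair ha hb, hab]
    rcases hj with hj | hj <;> rw [hj] <;> rfl
  · exact fun g y hy => smul_pairs g hy
  · -- the stabiliser is proper
    obtain ⟨a, ha, rfl⟩ := exists_smul_d0_eq hd
    obtain ⟨b, hb, hbr⟩ := exists_smul_d0_eq dr8_mem
    refine ⟨⟨a * b * a⁻¹, Cfsg.M24.mul_mem (Cfsg.M24.mul_mem ha hb) (Cfsg.M24.inv_mem ha)⟩, ?_⟩
    show (a * b * a⁻¹) • pairOf (a • d0) ≠ pairOf (a • d0)
    rw [smul_pairOf, mul_smul, mul_smul, inv_smul_smul, hbr]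
    intro h
    have hcard : (a • d0 ∩ a • dr8).card = 8 := by rw [card_inter_smul', card_d0_dr8]
    rcases pairOf_eq_iff.mp h with h1 | h1
    · rw [h1, Finset.inter_self, hd.2] at hcard
      exact absurd hcard (by decide)
    · rw [h1, Finset.inter_compl, Finset.card_empty] at hcard
      exact absurd hcard (by decide)

end Cfsg.Agent.S1566
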