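import Cfsg.Statements.S1567
import Mathlib
import Cfsg.Agent.S0391
import Cfsg.Agent.S5553
import Cfsg.Agent.Lib.Helper95.GolayConcrete
import Cfsg.Agent.Lib.Helper94.LeechMore
-- import your own Cfsg.Agent.* helpers here

set_option autoImplicit false
open Cfsg

namespace Cfsg.Agent.S1567

open Cfsg.Agent.Lib.Helper95
open Cfsg.Agent.Lib.Helper94
open Cfsg.Agent.S0391 (zmod2_cases val_le_one shape_of_mem shape_normal sum_of_mem sum_val_eq)

/-- The minimal vectors. -/
def Mv : Set (GolayPt → ℤ) := {x | x ∈ leechLattice ∧ sqNorm x = 32}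

/-- The subgroup they generate. -/
def M : AddSubgroup (GolayPt → ℤ) := AddSubgroup.closure Mv

lemma card_univ24 : (Finset.univ : Finset GolayPt).card = 24 := by
  rw [Finset.card_univ]; exact golayPt_card

/-- `4 e_i + s · 4 e_j`. -/
def pairVec (i j : GolayPt) (s : ℤ) : GolayPt → ℤ :=
  fun k => (if k = i then 4 else 0) + s * (if k = j then 4 else 0)

lemma pairVec_mem (i j : GolayPt) (hij : i ≠ j) (s : ℤ) (hs : s = 1 ∨ s = -1) :
    pairVec i j s ∈ Mv := by
  have hsum : ∑ k, pairVec i j s k = 4 + s * 4 := by
    unfold pairVec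
    rw [Finset.sum_add_distrib, ← Finset.mul_sum,
      Finset.sum_ite_eq' Finset.univ i (fun _ => (4 : ℤ)),
      Finset.sum_ite_eq' Finset.univ j (fun _ => (4 : ℤ))]
    simp
  constructor
  · rw [mem_leechLattice_iff]
    refine ⟨0, 0, golayCode.zero_mem, fun k => ?_, ?_⟩
    · unfold pairVec
      simp only [Pi.zero_apply, ZMod.val_zero, Nat.cast_zero, mul_zero, add_zero, Int.ModEq]
      rcases hs with h | h <;> rw [h] <;> split_ifs <;> decide
    · rw [hsum]
      rcases hs with h | h <;> rw [h] <;> decide
  · unfold sqNorm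
    have hterm : ∀ k, pairVec i j s k ^ 2
        = (if k = i then 16 else 0) + (if k = j then 16 else 0) := by
      intro k
      unfold pairVec
      have hs2 : s ^ 2 = 1 := by rcases hs with h | h <;> rw [h] <;> norm_num
      by_cases hki : k = i
      · have hkj : k ≠ j := fun h => hij (hki.symm.trans h)
        rw [if_pos hki, if_neg hkj, if_pos hki, if_neg hkj]; norm_num
      · by_cases hkj : k = j
        · rw [if_neg hki, if_pos hkj, if_neg hki, if_pos hkj]
          linear_combination 16 * hs2
        · rw [if_neg hki, if_neg hkj, if_neg hki, if_neg hkj]; norm_num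
    simp only [hterm]
    rw [Finset.sum_add_distrib, Finset.sum_ite_eq' Finset.univ i (fun _ => (16 : ℤ)),
      Finset.sum_ite_eq' Finset.univ j (fun _ => (16 : ℤ))]
    simp

lemma pairVec_mem_M (i j : GolayPt) (hij : i ≠ j) (s : ℤ) (hs : s = 1 ∨ s = -1) :
    pairVec i j s ∈ M := AddSubgroup.subset_closure (pairVec_mem i j hij s hs)

/-- `8 e_∞ ∈ M`. -/
lemma eight_none_mem : (fun k : GolayPt => if k = none then (8 : ℤ) else 0) ∈ M := by
  have h1 := pairVec_mem_M none (some 0) (by simp) 1 (Or.inl rfl)
  have h2 := pairVec_mem_M none (some 0) (by simp) (-1) (Or.inr rfl)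
  have := M.add_mem h1 h2
  convert this using 1
  ext k
  unfold pairVec
  simp only [Pi.add_apply]
  split_ifs <;> norm_num

/-- Lattice vectors with all coordinates divisible by 4 lie in `M`. -/
lemma four_mem_M (x : GolayPt → ℤ) (hx : x ∈ leechLattice) (h4 : ∀ i, (4 : ℤ) ∣ x i) : x ∈ M := by
  choose z hz using h4
  have hQ := sum_of_mem x hx
  have hsum : ∑ i, x i = 4 * ∑ i, z i := by
    rw [Finset.mul_sum]; exact Finset.sum_congr rfl (fun i _ => hz i)
  rw [hsum, hz none] at hQ
  obtain ⟨q, hq⟩ := hQ
  have ht : ∑ i, z i = 2 * (q + 2 * z none) := by linarith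
  set t := q + 2 * z none with htdef
  -- decomposition
  have hdecomp : x = ∑ i, (z i) • (if i = none then (0 : GolayPt → ℤ) else pairVec i none (-1))
      + t • (fun k : GolayPt => if k = none then (8 : ℤ) else 0) := by
    ext k
    rw [Pi.add_apply, Finset.sum_apply, Pi.smul_apply, smul_eq_mul]
    cases k with
    | none =>
      have h1 : ∀ i, ((z i) • (if i = none then (0 : GolayPt → ℤ) else pairVec i none (-1))) none
          = (if i = none then 0 else -4 * z i) := by
        intro i
        rw [Pi.smul_apply, smul_eq_mul]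
        by_cases hi : i = none
        · rw [if_pos hi, if_pos hi]; simp
        · rw [if_neg hi, if_neg hi]
          unfold pairVec
          rw [if_neg (Ne.symm hi), if_pos rfl]; ring
      simp only [h1]
      have h2 : ∑ i, (if i = none then (0 : ℤ) else -4 * z i)
          = ∑ i, (-4 * z i) + 4 * z none := by
        have : ∀ i : GolayPt, (if i = none then (0 : ℤ) else -4 * z i)
            = -4 * z i + (if i = none then 4 * z none else 0) := by
          intro i
          by_cases hi : i = none
          · rw [if_pos hi, if_pos hi, hi]; ring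
          · rw [if_neg hi, if_neg hi]; ring
        simp only [this]
        rw [Finset.sum_add_distrib,
          Finset.sum_ite_eq' Finset.univ (none : GolayPt) (fun _ => 4 * z none)]
        simp
      rw [h2, ← Finset.mul_sum, ht, hz none]
      simp only [if_true]
      rw [htdef]; ring
    | some j =>
      have h1 : ∀ i, ((z i) • (if i = none then (0 : GolayPt → ℤ) else pairVec i none (-1))) (some j)
          = (if i = some j then 4 * z i else 0) := by
        intro i
        rw [Pi.smul_apply, smul_eq_mul]
        by_cases hi : i = none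
        · rw [if_pos hi, if_neg (by rw [hi]; simp)]; simp
        · rw [if_neg hi]
          unfold pairVec
          by_cases hij : i = some j
          · rw [if_pos hij, if_pos hij.symm, if_neg (by simp)]; ring
          · rw [if_neg hij, if_neg (Ne.symm hij), if_neg (by simp)]; ring
      simp only [h1]
      rw [Finset.sum_ite_eq' Finset.univ (some j) (fun i => 4 * z i)]
      simp [hz (some j)]
  rw [hdecomp]
  apply M.add_mem
  · apply M.sum_mem
    intro i _
    apply M.zsmul_mem
    by_cases hi : i = none
    · rw [if_pos hi]; exact M.zero_mem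
    · rw [if_neg hi]; exact pairVec_mem_M i none hi (-1) (Or.inr rfl)
  · exact M.zsmul_mem eight_none_mem t

/-- The vector `2 ĉ` for a code word of weight 8 is minimal. -/
lemma lift2_oct_mem (o : GolayPt → ZMod 2) (ho : o ∈ golayCode) (h8 : hammingNorm o = 8) :
    (fun i => 2 * ((o i).val : ℤ)) ∈ M := by
  apply AddSubgroup.subset_closure
  refine ⟨AddSubgroup.subset_closure (Cfsg.Agent.S5553.lift2_mem o ho), ?_⟩
  unfold sqNorm
  have : ∀ i, (2 * ((o i).val : ℤ)) ^ 2 = 4 * ((o i).val : ℤ) := by
    intro i
    rcases val_le_one (o i) with h | h <;> rw [h] <;> norm_num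
  simp only [this]
  rw [← Finset.mul_sum, sum_val_eq, h8]
  norm_num

/-- Even lattice vectors lie in `M`. -/
lemma even_mem_M (c : GolayPt → ZMod 2) (hc : c ∈ golayCode) :
    ∀ y ∈ leechLattice, (∀ i, y i ≡ 2 * ((c i).val : ℤ) [ZMOD 4]) → y ∈ M := by
  have hspan := g24_span_octads golayPt_card golayCode golayCode_finrank golayCode_hmin
  have hc' : c ∈ Submodule.span (ZMod 2)
      {w : GolayPt → ZMod 2 | w ∈ golayCode ∧ hammingNorm w = 8} := by rw [hspan]; exact hc
  clear hc
  induction hc' using Submodule.span_induction with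
  | mem o ho =>
    intro y hy h
    have hl := AddSubgroup.subset_closure (Cfsg.Agent.S5553.lift2_mem o ho.1)
    have hsub : y - (fun i => 2 * ((o i).val : ℤ)) ∈ M := by
      apply four_mem_M _ (leechLattice.sub_mem hy hl)
      intro i
      have := (h i).symm.dvd
      simpa using this
    have := M.add_mem hsub (lift2_oct_mem o ho.1 ho.2)
    simpa using this
  | zero =>
    intro y hy h
    apply four_mem_M y hy
    intro i
    have := (h i).symm.dvd
    simpa using this
  | add c₁ c₂ h₁ h₂ ih₁ ih₂ =>
    intro y hy h
    have hc₂ : c₂ ∈ golayCode := by rw [← hspan]; exact h₂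
    have hl := AddSubgroup.subset_closure (Cfsg.Agent.S5553.lift2_mem c₂ hc₂)
    have h2M : (fun i => 2 * ((c₂ i).val : ℤ)) ∈ M := ih₂ _ hl (fun i => Int.ModEq.refl _)
    have hsub : y - (fun i => 2 * ((c₂ i).val : ℤ)) ∈ M := by
      apply ih₁ _ (leechLattice.sub_mem hy hl)
      intro i
      have hi := h i
      simp only [Pi.sub_apply, Pi.add_apply, Int.ModEq] at hi ⊢
      rcases zmod2_cases (c₁ i) with h' | h' <;> rcases zmod2_cases (c₂ i) with h'' | h'' <;>
        rw [h', h''] at hi <;> rw [h'] <;> try rw [h''] <;>
        simp only [ZMod.val_zero, ZMod.val_one, add_zero, zero_add, Nat.cast_zero, Nat.cast_one,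
          show ((1 : ZMod 2) + 1) = 0 from by decide] at hi ⊢ <;> omega
    have := M.add_mem hsub h2M
    simpa using this
  | smul a c h₁ ih =>
    intro y hy h
    rcases zmod2_cases a with ha | ha
    · rw [ha, zero_smul] at h
      apply four_mem_M y hy
      intro i
      have := (h i).symm.dvd
      simpa using this
    · rw [ha, one_smul] at h
      exact ih y hy h

/-- The vector `(-3, 1^23)`. -/
def w0 : GolayPt → ℤ := fun p => if p = none then -3 else 1

lemma w0_mem : w0 ∈ Mv := by
  constructor
  · apply AddSubgroup.subset_closure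
    exact Cfsg.Spor.mem_leechSet_of_const_mod_four w0 1 1 (by decide) (by decide) (by decide)
  · decide

/-- The rank-24 lattice is the additive subgroup generated by its 196560 minimal vectors. -/
theorem result : AddSubgroup.closure {x : Cfsg.GolayPt → ℤ | x ∈ Cfsg.leechLattice ∧ Cfsg.sqNorm x = 32} = Cfsg.leechLattice := by
  apply le_antisymm
  · rw [AddSubgroup.closure_le]
    intro x hx
    exact hx.1
  · intro x hx
    show x ∈ M
    obtain ⟨c, hc, h | h⟩ := shape_normal x (shape_of_mem x hx)
    · exact even_mem_M c hc x hx h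
    · have hw : w0 ∈ leechLattice := w0_mem.1
      have hsub : x - w0 ∈ M := by
        apply even_mem_M c hc _ (leechLattice.sub_mem hx hw)
        intro i
        have hi := h i
        simp only [Pi.sub_apply, Int.ModEq] at hi ⊢
        unfold w0
        split_ifs <;> omega
      have := M.add_mem hsub (AddSubgroup.subset_closure w0_mem)
      simpa using this

end Cfsg.Agent.S1567
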