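import Cfsg.Statements.S1568
import Cfsg.Agent.Lib.Helper94.LeechCount48

set_option autoImplicit false
open Cfsg

namespace Cfsg.Agent.S1568

open Cfsg.Agent.Lib.Helper95
open Cfsg.Agent.Lib.Helper94

lemma even_not_odd (x : GolayPt → ℤ)
    (h : ∀ i, x i = 0 ∨ x i = 2 ∨ x i = -2 ∨ x i = 4 ∨ x i = -4) (j : GolayPt) :
    ¬ (|x j| = 1 ∨ |x j| = 3 ∨ |x j| = 5) := by
  rcases h j with h' | h' | h' | h' | h' <;> rw [h'] <;> norm_num

lemma set1 : {x : Cfsg.GolayPt → ℤ | x ∈ Cfsg.leechLattice ∧ Cfsg.sqNorm x = 48 ∧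
    ∀ i, x i = 0 ∨ x i = 2 ∨ x i = -2} = ↑(evenFam 12 0) := by
  ext x
  simp only [Set.mem_ofPred_eq, Finset.mem_coe]
  constructor
  · rintro ⟨hx, hn, hv⟩
    rcases (norm48_iff x).mp ⟨hx, hn⟩ with h | h | h | h
    · exact h
    · exfalso
      rcases (fam48_2_vals x h).1 none with h' | h' <;> rcases hv none with h'' | h'' | h'' <;>
        rw [h''] at h' <;> norm_num at h'
    · exfalso
      obtain ⟨-, i, hi⟩ := fam48_3_vals x h
      rcases hv i with h'' | h'' | h'' <;> rw [h''] at hi <;> norm_num at hi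
    · exfalso
      rcases (fam48_4_vals x h).1 none with h' | h' <;> rcases hv none with h'' | h'' | h'' <;>
        rw [h''] at h' <;> norm_num at h'
  · intro h
    obtain ⟨h1, h2⟩ := (norm48_iff x).mpr (Or.inl h)
    exact ⟨h1, h2, fam48_1_vals x h⟩

lemma set2 : {x : Cfsg.GolayPt → ℤ | x ∈ Cfsg.leechLattice ∧ Cfsg.sqNorm x = 48 ∧
    ∃ i j k, i ≠ j ∧ j ≠ k ∧ i ≠ k ∧ |x i| = 3 ∧ |x j| = 3 ∧ |x k| = 3}
      = ↑(oddFam (oneVecs 3 (-3))) := by
  ext x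
  simp only [Set.mem_ofPred_eq, Finset.mem_coe]
  constructor
  · rintro ⟨hx, hn, i, j, k, -, -, -, hi, -, -⟩
    rcases (norm48_iff x).mp ⟨hx, hn⟩ with h | h | h | h
    · exfalso
      rcases fam48_1_vals x h i with h'' | h'' | h'' <;> rw [h''] at hi <;> norm_num at hi
    · exact h
    · exfalso
      exact even_not_odd x (fam48_3_vals x h).1 i (Or.inr (Or.inl hi))
    · exfalso
      rcases (fam48_4_vals x h).1 i with h' | h' <;> omega
  · intro h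
    obtain ⟨h1, h2⟩ := (norm48_iff x).mpr (Or.inr (Or.inl h))
    exact ⟨h1, h2, (fam48_2_vals x h).2⟩

lemma set3 : {x : Cfsg.GolayPt → ℤ | x ∈ Cfsg.leechLattice ∧ Cfsg.sqNorm x = 48 ∧
    ∃ i, |x i| = 4} = ↑(evenFam 8 1) := by
  ext x
  simp only [Set.mem_ofPred_eq, Finset.mem_coe]
  constructor
  · rintro ⟨hx, hn, i, hi⟩
    rcases (norm48_iff x).mp ⟨hx, hn⟩ with h | h | h | h
    · exfalso
      rcases fam48_1_vals x h i with h'' | h'' | h'' <;> rw [h''] at hi <;> norm_num at hi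
    · exfalso
      rcases (fam48_2_vals x h).1 i with h' | h' <;> omega
    · exact h
    · exfalso
      rcases (fam48_4_vals x h).1 i with h' | h' <;> omega
  · intro h
    obtain ⟨h1, h2⟩ := (norm48_iff x).mpr (Or.inr (Or.inr (Or.inl h)))
    exact ⟨h1, h2, (fam48_3_vals x h).2⟩

lemma set4 : {x : Cfsg.GolayPt → ℤ | x ∈ Cfsg.leechLattice ∧ Cfsg.sqNorm x = 48 ∧
    ∃ i, |x i| = 5} = ↑(oddFam (oneVecs 1 5)) := by
  ext x
  simp only [Set.mem_ofPred_eq, Finset.mem_coe]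
  constructor
  · rintro ⟨hx, hn, i, hi⟩
    rcases (norm48_iff x).mp ⟨hx, hn⟩ with h | h | h | h
    · exfalso
      rcases fam48_1_vals x h i with h'' | h'' | h'' <;> rw [h''] at hi <;> norm_num at hi
    · exfalso
      rcases (fam48_2_vals x h).1 i with h' | h' <;> omega
    · exfalso
      exact even_not_odd x (fam48_3_vals x h).1 i (Or.inr (Or.inr hi))
    · exact h
  · intro h
    obtain ⟨h1, h2⟩ := (norm48_iff x).mpr (Or.inr (Or.inr (Or.inr h)))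
    exact ⟨h1, h2, (fam48_4_vals x h).2⟩

/-- Shape census of the lattice vectors of sum of squares 48 (customary norm 6): the four families (2^12, 0^12), (±3^3, ±1^21), (±4, ±2^8, 0^15) and (±5, ±1^23) have 5275648, 8290304, 3108864 and 98304 members. -/
theorem result : {x : Cfsg.GolayPt → ℤ | x ∈ Cfsg.leechLattice ∧ Cfsg.sqNorm x = 48 ∧ ∀ i, x i = 0 ∨ x i = 2 ∨ x i = -2}.ncard = 5275648 ∧ {x : Cfsg.GolayPt → ℤ | x ∈ Cfsg.leechLattice ∧ Cfsg.sqNorm x = 48 ∧ ∃ i j k, i ≠ j ∧ j ≠ k ∧ i ≠ k ∧ |x i| = 3 ∧ |x j| = 3 ∧ |x k| = 3}.ncard = 8290304 ∧ {x : Cfsg.GolayPt → ℤ | x ∈ Cfsg.leechLattice ∧ Cfsg.sqNorm x = 48 ∧ ∃ i, |x i| = 4}.ncard = 3108864 ∧ {x : Cfsg.GolayPt → ℤ | x ∈ Cfsg.leechLattice ∧ Cfsg.sqNorm x = 48 ∧ ∃ i, |x i| = 5}.ncard = 98304 := by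
  rw [set1, set2, set3, set4, Set.ncard_coe_finset, Set.ncard_coe_finset, Set.ncard_coe_finset,
    Set.ncard_coe_finset]
  exact ⟨card_fam48_1, card_fam48_2, card_fam48_3, card_fam48_4⟩

end Cfsg.Agent.S1568
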