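import Cfsg.Statements.S1569
import Cfsg.Agent.Lib.Helper94.LeechClasses

set_option autoImplicit false
open scoped Pointwise
open Cfsg

namespace Cfsg.Agent.S1569

/-- The cross through a lattice vector of customary norm 8 has exactly 48 members. -/
theorem result (x : Cfsg.GolayPt → ℤ) (hx : x ∈ Cfsg.leechLattice) (hxn : Cfsg.sqNorm x = 64) : (Cfsg.cross x).ncard = 48 := by
  have hx64 : x ∈ Cfsg.Agent.Lib.Helper94.shortSet 64 := ⟨hx, hxn⟩
  rw [← Cfsg.Agent.Lib.Helper94.classes_main.2 x hx64]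
  congr 1
  ext y
  simp only [Cfsg.cross, Set.mem_ofPred_eq, Cfsg.Agent.Lib.Helper94.shortSet]
  constructor
  · rintro ⟨hy, hn, hc⟩
    refine ⟨⟨hy, by rw [hn, hxn]⟩, ?_⟩
    exact ((Cfsg.Agent.Lib.Helper94.cls_eq_iff hx hy).mpr hc).symm
  · rintro ⟨⟨hy, hn⟩, hc⟩
    exact ⟨hy, by rw [hn, hxn], (Cfsg.Agent.Lib.Helper94.cls_eq_iff hx hy).mp hc.symm⟩

end Cfsg.Agent.S1569
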