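import Cfsg.Statements.S1578
import Mathlib
import Cfsg.Agent.Lib.Helper94.Leech552

set_option autoImplicit false
open Cfsg

namespace Cfsg.Agent.S1578

open Cfsg.Agent.Lib.Helper94

/-- A lattice vector of customary norm 6 is the sum of an unordered pair of minimal vectors in exactly 276 ways (552 ordered summands). -/
theorem result (u : ↥Cfsg.leechLattice) (hu : Cfsg.sqNorm (u : Cfsg.GolayPt → ℤ) = 48) : {v : ↥Cfsg.leechLattice | Cfsg.sqNorm (v : Cfsg.GolayPt → ℤ) = 32 ∧ Cfsg.sqNorm ((u - v) : Cfsg.GolayPt → ℤ) = 32}.ncard = 552 := by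
  obtain ⟨g, hg, huL, h1⟩ := conj_u5 u.1 u.2 hu
  have hgu : ((g u : leechLattice) : GolayPt → ℤ) = u5 := h1
  refine (ncard_transfer g _ (fun y => y ∈ set552) ?_ ?_).trans ncard_set552
  · intro v
    show (sqNorm (v : GolayPt → ℤ) = 32 ∧ sqNorm ((u : GolayPt → ℤ) - (v : GolayPt → ℤ)) = 32) ↔
      ((g v : leechLattice) : GolayPt → ℤ) ∈ set552
    unfold set552
    simp only [Set.mem_ofPred_eq]
    rw [← hgu, co0_dot g hg, hg.2, sqNorm_sub, hu]
    constructor
    · rintro ⟨a, b⟩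
      rw [a] at b
      exact ⟨(g v).2, a, by linarith⟩
    · rintro ⟨-, a, b⟩
      rw [a]
      exact ⟨rfl, by linarith⟩
  · intro y hy
    exact hy.1

end Cfsg.Agent.S1578
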