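import Cfsg.Statements.S1579
import Mathlib
import Cfsg.Agent.Lib.Helper94.LeechPairs2

set_option autoImplicit false
open Cfsg

namespace Cfsg.Agent.S1579

/-- The stabiliser of a vector of customary norm 6 is transitive on the 552 minimal vectors that complete it to a sum of two minimal vectors. -/
theorem result (u v v' : ↥Cfsg.leechLattice) (hu : Cfsg.sqNorm (u : Cfsg.GolayPt → ℤ) = 48) (hv : Cfsg.sqNorm (v : Cfsg.GolayPt → ℤ) = 32 ∧ Cfsg.sqNorm ((u - v) : Cfsg.GolayPt → ℤ) = 32) (hv' : Cfsg.sqNorm (v' : Cfsg.GolayPt → ℤ) = 32 ∧ Cfsg.sqNorm ((u - v') : Cfsg.GolayPt → ℤ) = 32) : ∃ g : ↥Cfsg.Co0, g • u = u ∧ g • v = v' := by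
  have key : ∀ v : ↥Cfsg.leechLattice, Cfsg.sqNorm (v : Cfsg.GolayPt → ℤ) = 32 →
      Cfsg.sqNorm ((u - v) : Cfsg.GolayPt → ℤ) = 32 →
      Cfsg.dotInt (v : Cfsg.GolayPt → ℤ) ((u - v : ↥Cfsg.leechLattice) : Cfsg.GolayPt → ℤ) = -8 := by
    intro v h1 h2
    have h3 := Cfsg.Agent.Lib.Helper94.sqNorm_add (v : Cfsg.GolayPt → ℤ)
      ((u - v : ↥Cfsg.leechLattice) : Cfsg.GolayPt → ℤ)
    have h4 : (v : Cfsg.GolayPt → ℤ) + ((u - v : ↥Cfsg.leechLattice) : Cfsg.GolayPt → ℤ) = u := by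
      show (v : Cfsg.GolayPt → ℤ) + ((u : Cfsg.GolayPt → ℤ) - v) = u
      abel
    have h5 : ((u - v : ↥Cfsg.leechLattice) : Cfsg.GolayPt → ℤ) = (u : Cfsg.GolayPt → ℤ) - v := rfl
    rw [h4, hu, h1, h5, h2] at h3
    rw [h5]
    linarith
  have c1 := Cfsg.Agent.Lib.Helper94.conj2_m8 v.1 (u - v).1 v.2 (u - v).2 hv.1 hv.2 (key v hv.1 hv.2)
  have c2 := Cfsg.Agent.Lib.Helper94.conj2_m8 v'.1 (u - v').1 v'.2 (u - v').2 hv'.1 hv'.2
    (key v' hv'.1 hv'.2)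
  obtain ⟨g, h1, h2⟩ := (Cfsg.Agent.Lib.Helper94.conj2_iff v (u - v) v' (u - v')).mp (c1.trans c2.symm)
  refine ⟨g, ?_, h1⟩
  have h3 : u = v + (u - v) := by abel
  have h4 : g • (v + (u - v)) = g • v + g • (u - v) := g.2.1 v (u - v)
  rw [h3, h4, h1, h2]
  abel

end Cfsg.Agent.S1579
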