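import Cfsg.Statements.S1580
import Cfsg.Statements.S1580
import Mathlib
import Cfsg.Agent.Lib.Helper94.LeechMcL3

set_option autoImplicit false
open Cfsg

namespace Cfsg.Agent.S1580

open Cfsg.Agent.Lib.Helper94

/-- The McLaughlin configuration: for u of customary norm 6 and v minimal with u − v minimal, there are 275 further such summands x of customary inner product 2 with v, permuted transitively by the stabiliser of u and v. -/
theorem result (u v : ↥Cfsg.leechLattice) (hu : Cfsg.sqNorm (u : Cfsg.GolayPt → ℤ) = 48) (hv : Cfsg.sqNorm (v : Cfsg.GolayPt → ℤ) = 32 ∧ Cfsg.sqNorm ((u - v) : Cfsg.GolayPt → ℤ) = 32) : {x : ↥Cfsg.leechLattice | Cfsg.sqNorm (x : Cfsg.GolayPt → ℤ) = 32 ∧ Cfsg.sqNorm ((u - x) : Cfsg.GolayPt → ℤ) = 32 ∧ Cfsg.dotInt (v : Cfsg.GolayPt → ℤ) (x : Cfsg.GolayPt → ℤ) = 16}.ncard = 275 ∧ ∀ x ∈ {x : ↥Cfsg.leechLattice | Cfsg.sqNorm (x : Cfsg.GolayPt → ℤ) = 32 ∧ Cfsg.sqNorm ((u - x)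 : Cfsg.GolayPt → ℤ) = 32 ∧ Cfsg.dotInt (v : Cfsg.GolayPt → ℤ) (x : Cfsg.GolayPt → ℤ) = 16}, ∀ x' ∈ {x : ↥Cfsg.leechLattice | Cfsg.sqNorm (x : Cfsg.GolayPt → ℤ) = 32 ∧ Cfsg.sqNorm ((u - x) : Cfsg.GolayPt → ℤ) = 32 ∧ Cfsg.dotInt (v : Cfsg.GolayPt → ℤ) (x : Cfsg.GolayPt → ℤ) = 16}, ∃ g : ↥Cfsg.Co0, g • u = u ∧ g • v = v ∧ g • x = x' := by
  classical
  have huv : dotInt (u : GolayPt → ℤ) (v : GolayPt → ℤ) = 24 := by
    have := hv.2
    rw [sqNorm_sub, hu, hv.1] at this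
    omega
  obtain ⟨g, hg, huL, hvL, h1, h2⟩ := conj2_mcl u.1 v.1 u.2 v.2 hu hv.1 huv
  have hgu : ((g u : leechLattice) : GolayPt → ℤ) = u5 := h1
  have hgv : ((g v : leechLattice) : GolayPt → ℤ) = oa := h2
  have memX : ∀ x : ↥leechLattice, (sqNorm (x : GolayPt → ℤ) = 32 ∧
      sqNorm ((u : GolayPt → ℤ) - (x : GolayPt → ℤ)) = 32 ∧
      dotInt (v : GolayPt → ℤ) (x : GolayPt → ℤ) = 16) ↔
      ((g x : leechLattice) : GolayPt → ℤ) ∈ mcSet := by
    intro x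
    unfold mcSet
    simp only [Set.mem_ofPred_eq]
    rw [← hgu, ← hgv, co0_dot g hg, co0_dot g hg, hg.2, sqNorm_sub, hu]
    constructor
    · rintro ⟨a, b, c⟩
      exact ⟨(g x).2, a, by rw [a] at b; omega, c⟩
    · rintro ⟨-, a, b, c⟩
      exact ⟨a, by rw [a, b]; norm_num, c⟩
  refine ⟨?_, ?_⟩
  · refine (ncard_transfer g _ (fun y => y ∈ mcSet) memX ?_).trans ncard_mcSet
    intro y hy
    exact hy.1
  · intro x hx x' hx'
    have c1 := conj3_mcSet _ ((memX x).mp hx)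
    have c2 := conj3_mcSet _ ((memX x').mp hx')
    obtain ⟨k, hk, m1, m2, m3, k1, k2, k3⟩ := c1.trans c2.symm
    refine ⟨⟨g⁻¹ * k * g, Co0.mul_mem (Co0.mul_mem (Co0.inv_mem hg) hk) hg⟩, ?_, ?_, ?_⟩
    · show (g⁻¹ * k * g) u = u
      simp only [Equiv.Perm.mul_apply]
      have e : g u = ⟨u5, m1⟩ := Subtype.ext hgu
      have : k (g u) = g u := by
        rw [e]
        exact Subtype.ext k1
      rw [this]; simp
    · show (g⁻¹ * k * g) v = v
      simp only [Equiv.Perm.mul_apply]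
      have e : g v = ⟨oa, m2⟩ := Subtype.ext hgv
      have : k (g v) = g v := by
        rw [e]
        exact Subtype.ext k2
      rw [this]; simp
    · show (g⁻¹ * k * g) x = x'
      simp only [Equiv.Perm.mul_apply]
      have : k (g x) = g x' := Subtype.ext k3
      rw [this]; simp

end Cfsg.Agent.S1580
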