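import Cfsg.Statements.S1581
import Cfsg.Statements.S1581
import Mathlib
import Cfsg.Agent.Lib.Helper94.LeechMcL6
import Cfsg.Agent.Lib.Helper94.LeechTransfer

set_option autoImplicit false
open Cfsg

namespace Cfsg.Agent.S1581

open Cfsg.Agent.Lib.Helper94

/-- The McLaughlin group acts with rank 3 and subdegrees 1, 112, 162 on its 275 points: the point stabiliser has two orbits on the remaining points, distinguished by customary inner product 1 or 2 with the fixed point. -/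
theorem result (u v x : ↥Cfsg.leechLattice) (hu : Cfsg.sqNorm (u : Cfsg.GolayPt → ℤ) = 48) (hv : Cfsg.sqNorm (v : Cfsg.GolayPt → ℤ) = 32 ∧ Cfsg.sqNorm ((u - v) : Cfsg.GolayPt → ℤ) = 32) (hx : x ∈ {x : ↥Cfsg.leechLattice | Cfsg.sqNorm (x : Cfsg.GolayPt → ℤ) = 32 ∧ Cfsg.sqNorm ((u - x) : Cfsg.GolayPt → ℤ) = 32 ∧ Cfsg.dotInt (v : Cfsg.GolayPt → ℤ) (x : Cfsg.GolayPt → ℤ) = 16}) : {y : ↥Cfsg.leechLattice | y ∈ {x : ↥Cfsg.leechLattice | Cfsg.sqNorm (x : Cfsg.GolayPt → ℤ) = 32 ∧ Cfsg.sqNorm ((u - x) : Cfsg.GolayPt → ℤ) = 32 ∧ Cfsg.dotInt (v : Cfsg.GolayPt → ℤ) (x : Cfsg.GolayPt → ℤ) = 16} ∧ Cfsg.dotInt (x : Cfsg.GolayPt → ℤ) (y : Cfsg.GolayPt → ℤ) = 8}.ncard = 112 ∧ {y : ↥Cfsg.leechLattice | y ∈ {x : ↥Cfsg.leechLattice | Cfsg.sqNorm (x : Cfsg.GolayPt → ℤ) = 32 ∧ Cfsg.sqNorm ((u - x) : Cfsg.GolayPt → ℤ) = 32 ∧ Cfsg.dotInt (v : Cfsg.GolayPt → ℤ) (x : Cfsg.GolayPt → ℤ) = 16} ∧ y ≠ x ∧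 Cfsg.dotInt (x : Cfsg.GolayPt → ℤ) (y : Cfsg.GolayPt → ℤ) = 16}.ncard = 162 ∧ ∀ y ∈ {x : ↥Cfsg.leechLattice | Cfsg.sqNorm (x : Cfsg.GolayPt → ℤ) = 32 ∧ Cfsg.sqNorm ((u - x) : Cfsg.GolayPt → ℤ) = 32 ∧ Cfsg.dotInt (v : Cfsg.GolayPt → ℤ) (x : Cfsg.GolayPt → ℤ) = 16}, ∀ y' ∈ {x : ↥Cfsg.leechLattice | Cfsg.sqNorm (x : Cfsg.GolayPt → ℤ) = 32 ∧ Cfsg.sqNorm ((u - x) : Cfsg.GolayPt → ℤ) = 32 ∧ Cfsg.dotInt (v : Cfsg.GolayPt → ℤ) (x : Cfsg.GolayPt → ℤ) = 16}, y ≠ x → y' ≠ x → Cfsg.dotInt (x : Cfsg.GolayPt → ℤ) (y : Cfsg.GolayPt → ℤ) = Cfsg.dotInt (x : Cfsg.GolayPt → ℤ) (y' : Cfsg.GolayPt → ℤ) → ∃ g : ↥Cfsg.Co0, g • u = u ∧ g • v = v ∧ g • x = x ∧ g • y = y' := by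
  have huv : dotInt (u : GolayPt → ℤ) (v : GolayPt → ℤ) = 24 := by
    have := hv.2
    rw [sqNorm_sub, hu, hv.1] at this
    omega
  obtain ⟨hx1, hx2, hx3⟩ := hx
  have hux : dotInt (u : GolayPt → ℤ) (x : GolayPt → ℤ) = 24 := by
    rw [sqNorm_sub, hu, hx1] at hx2
    omega
  obtain ⟨g0, hg0, huL, hvL, h1, h2⟩ := conj2_mcl u.1 v.1 u.2 v.2 hu hv.1 huv
  have hx0 : ((g0 x : leechLattice) : GolayPt → ℤ) ∈ mcSet := by
    refine ⟨(g0 x).2, by rw [hg0.2]; exact hx1, ?_, ?_⟩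
    · rw [← h1]; exact (co0_dot g0 hg0 ⟨u.1, huL⟩ x).trans hux
    · rw [← h2]; exact (co0_dot g0 hg0 ⟨v.1, hvL⟩ x).trans hx3
  obtain ⟨g1, hg1, m1, m2, m3, k1, k2, k3⟩ := conj3_mcSet _ hx0
  set g : Equiv.Perm leechLattice := g1 * g0 with hgdef
  have hg : g ∈ Co0 := Co0.mul_mem hg1 hg0
  have hgu : ((g u : leechLattice) : GolayPt → ℤ) = u5 := by
    rw [hgdef, Equiv.Perm.mul_apply]
    have e : g0 u = ⟨u5, m1⟩ := Subtype.ext h1
    rw [e]; exact k1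
  have hgv : ((g v : leechLattice) : GolayPt → ℤ) = oa := by
    rw [hgdef, Equiv.Perm.mul_apply]
    have e : g0 v = ⟨oa, m2⟩ := Subtype.ext h2
    rw [e]; exact k2
  have hgx : ((g x : leechLattice) : GolayPt → ℤ) = oc := by
    rw [hgdef, Equiv.Perm.mul_apply]
    exact k3
  have memX : ∀ y : ↥leechLattice, (sqNorm (y : GolayPt → ℤ) = 32 ∧
      sqNorm ((u : GolayPt → ℤ) - (y : GolayPt → ℤ)) = 32 ∧
      dotInt (v : GolayPt → ℤ) (y : GolayPt → ℤ) = 16) ↔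
      ((g y : leechLattice) : GolayPt → ℤ) ∈ mcSet := by
    intro y
    unfold mcSet
    simp only [Set.mem_ofPred_eq]
    rw [← hgu, ← hgv, co0_dot g hg, co0_dot g hg, hg.2, sqNorm_sub, hu]
    constructor
    · rintro ⟨a, b, c⟩
      exact ⟨(g y).2, a, by rw [a] at b; omega, c⟩
    · rintro ⟨-, a, b, c⟩
      exact ⟨a, by rw [a, b]; norm_num, c⟩
  have dotX : ∀ y : ↥leechLattice, dotInt oc ((g y : leechLattice) : GolayPt → ℤ) =
      dotInt (x : GolayPt → ℤ) (y : GolayPt → ℤ) := by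
    intro y
    rw [← hgx, co0_dot g hg]
  have neX : ∀ y : ↥leechLattice, ((g y : leechLattice) : GolayPt → ℤ) = oc ↔ y = x := by
    intro y
    rw [← hgx]
    constructor
    · intro h
      exact g.injective (Subtype.ext h)
    · intro h; rw [h]
  refine ⟨?_, ?_, ?_⟩
  · refine (ncard_transfer g _ (fun y => y ∈ mc8) ?_ ?_).trans ncard_mc8
    · intro y
      show (sqNorm (y : GolayPt → ℤ) = 32 ∧ _ ∧ _) ∧ _ ↔ _
      unfold mc8
      simp only [Set.mem_ofPred_eq]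
      rw [memX, dotX]
    · intro y hy
      exact hy.1.1
  · refine (ncard_transfer g _ (fun y => y ∈ mc16) ?_ ?_).trans ncard_mc16
    · intro y
      show (sqNorm (y : GolayPt → ℤ) = 32 ∧ _ ∧ _) ∧ _ ∧ _ ↔ _
      unfold mc16
      simp only [Set.mem_ofPred_eq]
      rw [memX, dotX]
      constructor
      · rintro ⟨a, b, c⟩
        exact ⟨a, fun h => b ((neX y).mp h), c⟩
      · rintro ⟨a, b, c⟩
        exact ⟨a, fun h => b ((neX y).mpr h), c⟩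
    · intro y hy
      exact hy.1.1
  · intro y hy y' hy' hne hne' hdot
    have my := (memX y).mp hy
    have my' := (memX y').mp hy'
    have ny : ((g y : leechLattice) : GolayPt → ℤ) ≠ oc := fun h => hne ((neX y).mp h)
    have ny' : ((g y' : leechLattice) : GolayPt → ℤ) ≠ oc := fun h => hne' ((neX y').mp h)
    rw [← dotX, ← dotX] at hdot
    have key : Conj4 u5 oa oc ((g y : leechLattice) : GolayPt → ℤ) u5 oa oc
        ((g y' : leechLattice) : GolayPt → ℤ) := by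
      rcases dot_oc_vals _ my with h | h | h
      · exact absurd h ny
      · exact conj4_mc8 _ _ ⟨my, h⟩ ⟨my', by rw [← hdot]; exact h⟩
      · exact (conj4_mc16 _ ⟨my, ny, h⟩).trans
          (conj4_mc16 _ ⟨my', ny', by rw [← hdot]; exact h⟩).symm
    obtain ⟨k, hk, n1, n2, n3, n4, e1, e2, e3, e4⟩ := key
    have fix : ∀ (z : ↥leechLattice) (w : GolayPt → ℤ) (hw : w ∈ leechLattice),
        ((g z : leechLattice) : GolayPt → ℤ) = w →
        ((k ⟨w, hw⟩ : leechLattice) : GolayPt → ℤ) = w → (g⁻¹ * k * g) z = z := by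
      intro z w hw hz hkw
      simp only [Equiv.Perm.mul_apply]
      have e : g z = ⟨w, hw⟩ := Subtype.ext hz
      have : k (g z) = g z := by
        rw [e]; exact Subtype.ext hkw
      rw [this]
      simp
    refine ⟨⟨g⁻¹ * k * g, Co0.mul_mem (Co0.mul_mem (Co0.inv_mem hg) hk) hg⟩, ?_, ?_, ?_, ?_⟩
    · exact fix u u5 n1 hgu e1
    · exact fix v oa n2 hgv e2
    · exact fix x oc n3 hgx e3
    · show (g⁻¹ * k * g) y = y'
      simp only [Equiv.Perm.mul_apply]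
      have : k (g y) = g y' := Subtype.ext e4
      rw [this]
      simp

end Cfsg.Agent.S1581
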