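import Cfsg.Statements.S1583
import Mathlib
import Cfsg.Agent.Lib.Helper94.LeechHS2

set_option autoImplicit false
open Cfsg

namespace Cfsg.Agent.S1583

open Cfsg.Agent.Lib.Helper94

/-- The Higman–Sims configuration: for two vectors of customary norm 6 with inner product −4, exactly 100 minimal vectors have customary inner products 3 and −3 with them, and the joint stabiliser permutes these transitively. -/
theorem result (v w : ↥Cfsg.leechLattice) (hv : Cfsg.sqNorm (v : Cfsg.GolayPt → ℤ) = 48) (hw : Cfsg.sqNorm (w : Cfsg.GolayPt → ℤ) = 48) (hvw : Cfsg.dotInt (v : Cfsg.GolayPt → ℤ) (w : Cfsg.GolayPt → ℤ) = -32) : {x : ↥Cfsg.leechLattice | Cfsg.sqNorm (x : Cfsg.GolayPt → ℤ) = 32 ∧ Cfsg.dotInt (v : Cfsg.GolayPt → ℤ) (x : Cfsg.GolayPt → ℤ) = 24 ∧ Cfsg.dotInt (w : Cfsg.GolayPt → ℤ) (x : Cfsg.GolayPt → ℤ) = -24}.ncard = 100 ∧ ∀ x ∈ {x : ↥Cfsg.leechLattice | Cfsg.sqNorm (x : Cfsg.GolayPt → ℤ)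 = 32 ∧ Cfsg.dotInt (v : Cfsg.GolayPt → ℤ) (x : Cfsg.GolayPt → ℤ) = 24 ∧ Cfsg.dotInt (w : Cfsg.GolayPt → ℤ) (x : Cfsg.GolayPt → ℤ) = -24}, ∀ x' ∈ {x : ↥Cfsg.leechLattice | Cfsg.sqNorm (x : Cfsg.GolayPt → ℤ) = 32 ∧ Cfsg.dotInt (v : Cfsg.GolayPt → ℤ) (x : Cfsg.GolayPt → ℤ) = 24 ∧ Cfsg.dotInt (w : Cfsg.GolayPt → ℤ) (x : Cfsg.GolayPt → ℤ) = -24}, ∃ g : ↥Cfsg.Co0, g • v = v ∧ g • w = w ∧ g • x = x' := by
  constructor
  · obtain ⟨g, hg, hvL, hwL, h1, h2⟩ := conj2_hs v.1 w.1 v.2 w.2 hv hw hvw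
    have hgv : ((g v : leechLattice) : GolayPt → ℤ) = u5 := h1
    have hgw : ((g w : leechLattice) : GolayPt → ℤ) = w5 := h2
    have hinj : Function.Injective (fun x : ↥leechLattice => ((g x : leechLattice) : GolayPt → ℤ)) := by
      intro a b h
      exact g.injective (Subtype.ext h)
    rw [← Set.ncard_image_of_injective _ hinj, ← ncard_hsSet]
    congr 1
    ext y
    constructor
    · rintro ⟨x, ⟨hx1, hx2, hx3⟩, rfl⟩
      refine ⟨(g x).2, ?_, ?_, ?_⟩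
      · show sqNorm ((g x : leechLattice) : GolayPt → ℤ) = 32
        rw [hg.2, hx1]
      · show dotInt u5 ((g x : leechLattice) : GolayPt → ℤ) = 24
        rw [← hgv, co0_dot g hg, hx2]
      · show dotInt w5 ((g x : leechLattice) : GolayPt → ℤ) = -24
        rw [← hgw, co0_dot g hg, hx3]
    · rintro ⟨hyL, hy1, hy2, hy3⟩
      refine ⟨g.symm ⟨y, hyL⟩, ⟨?_, ?_, ?_⟩, ?_⟩
      · have := hg.2 (g.symm ⟨y, hyL⟩)
        rw [Equiv.apply_symm_apply] at this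
        rw [← this]; exact hy1
      · have := co0_dot g hg v (g.symm ⟨y, hyL⟩)
        rw [Equiv.apply_symm_apply, hgv] at this
        rw [← this]; exact hy2
      · have := co0_dot g hg w (g.symm ⟨y, hyL⟩)
        rw [Equiv.apply_symm_apply, hgw] at this
        rw [← this]; exact hy3
      · show ((g (g.symm ⟨y, hyL⟩) : leechLattice) : GolayPt → ℤ) = y
        rw [Equiv.apply_symm_apply]
  · rintro x ⟨hx1, hx2, hx3⟩ x' ⟨hx1', hx2', hx3'⟩
    have c1 := conj3_hs v.1 w.1 x.1 v.2 w.2 x.2 hv hw hx1 hvw hx2 hx3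
    have c2 := conj3_hs v.1 w.1 x'.1 v.2 w.2 x'.2 hv hw hx1' hvw hx2' hx3'
    exact (conj3_iff v w x v w x').mp (c1.trans c2.symm)

end Cfsg.Agent.S1583
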