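import Cfsg.Statements.S1584
import Mathlib
import Cfsg.Agent.Lib.Helper94.LeechHS3
import Cfsg.Agent.Lib.Helper94.LeechTransfer

set_option autoImplicit false
open Cfsg

namespace Cfsg.Agent.S1584

open Cfsg.Agent.Lib.Helper94

/-- The Higman–Sims group acts with rank 3 and subdegrees 1, 22, 77 on its 100 points, the orbits of a point stabiliser being distinguished by customary inner product 1 with the fixed point. -/
theorem result (v w x : ↥Cfsg.leechLattice) (hv : Cfsg.sqNorm (v : Cfsg.GolayPt → ℤ) = 48) (hw : Cfsg.sqNorm (w : Cfsg.GolayPt → ℤ) = 48) (hvw : Cfsg.dotInt (v : Cfsg.GolayPt → ℤ) (w : Cfsg.GolayPt → ℤ) = -32) (hx : x ∈ {x : ↥Cfsg.leechLattice | Cfsg.sqNorm (x : Cfsg.GolayPt → ℤ) = 32 ∧ Cfsg.dotInt (v : Cfsg.GolayPt → ℤ) (x : Cfsg.GolayPt → ℤ) = 24 ∧ Cfsg.dotInt (w : Cfsg.GolayPt → ℤ) (x : Cfsg.GolayPt → ℤ) = -24}) : {y : ↥Cfsg.leechLattice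 | y ∈ {x : ↥Cfsg.leechLattice | Cfsg.sqNorm (x : Cfsg.GolayPt → ℤ) = 32 ∧ Cfsg.dotInt (v : Cfsg.GolayPt → ℤ) (x : Cfsg.GolayPt → ℤ) = 24 ∧ Cfsg.dotInt (w : Cfsg.GolayPt → ℤ) (x : Cfsg.GolayPt → ℤ) = -24} ∧ Cfsg.dotInt (x : Cfsg.GolayPt → ℤ) (y : Cfsg.GolayPt → ℤ) = 8}.ncard = 22 ∧ {y : ↥Cfsg.leechLattice | y ∈ {x : ↥Cfsg.leechLattice | Cfsg.sqNorm (x : Cfsg.GolayPt → ℤ) = 32 ∧ Cfsg.dotInt (v : Cfsg.GolayPt → ℤ) (x : Cfsg.GolayPt → ℤ) = 24 ∧ Cfsg.dotInt (w : Cfsg.GolayPt → ℤ) (x : Cfsg.GolayPt → ℤ) = -24} ∧ y ≠ x ∧ Cfsg.dotInt (x : Cfsg.GolayPt → ℤ) (y : Cfsg.GolayPt → ℤ) ≠ 8}.ncard = 77 ∧ ∀ y ∈ {x : ↥Cfsg.leechLattice | Cfsg.sqNorm (x : Cfsg.GolayPt → ℤ) = 32 ∧ Cfsg.dotInt (v : Cfsg.GolayPt → ℤ) (x : Cfsg.GolayPt → ℤ) = 24 ∧ Cfsg.dotInt (w : Cfsg.GolayPt → ℤ) (x : Cfsg.GolayPt → ℤ) = -24}, ∀ y' ∈ {x : ↥Cfsg.leechLattice | Cfsg.sqNorm (x : Cfsg.GolayPt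 → ℤ) = 32 ∧ Cfsg.dotInt (v : Cfsg.GolayPt → ℤ) (x : Cfsg.GolayPt → ℤ) = 24 ∧ Cfsg.dotInt (w : Cfsg.GolayPt → ℤ) (x : Cfsg.GolayPt → ℤ) = -24}, y ≠ x → y' ≠ x → (Cfsg.dotInt (x : Cfsg.GolayPt → ℤ) (y : Cfsg.GolayPt → ℤ) = 8 ↔ Cfsg.dotInt (x : Cfsg.GolayPt → ℤ) (y' : Cfsg.GolayPt → ℤ) = 8) → ∃ g : ↥Cfsg.Co0, g • v = v ∧ g • w = w ∧ g • x = x ∧ g • y = y' := by
  obtain ⟨hx1, hx2, hx3⟩ := hx
  obtain ⟨g, hg, hvL, hwL, hxL, h1, h2, h3⟩ := conj3_hs v.1 w.1 x.1 v.2 w.2 x.2 hv hw hx1 hvw hx2 hx3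
  have hgv : ((g v : leechLattice) : GolayPt → ℤ) = u5 := h1
  have hgw : ((g w : leechLattice) : GolayPt → ℤ) = w5 := h2
  have hgx : ((g x : leechLattice) : GolayPt → ℤ) = oa := h3
  have memX : ∀ y : ↥leechLattice, (sqNorm (y : GolayPt → ℤ) = 32 ∧
      dotInt (v : GolayPt → ℤ) (y : GolayPt → ℤ) = 24 ∧
      dotInt (w : GolayPt → ℤ) (y : GolayPt → ℤ) = -24) ↔
      ((g y : leechLattice) : GolayPt → ℤ) ∈ hsSet := by
    intro y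
    unfold hsSet
    simp only [Set.mem_ofPred_eq]
    rw [← hgv, ← hgw, co0_dot g hg, co0_dot g hg, hg.2]
    exact ⟨fun h => ⟨(g y).2, h⟩, fun h => h.2⟩
  have dotX : ∀ y : ↥leechLattice, dotInt oa ((g y : leechLattice) : GolayPt → ℤ) =
      dotInt (x : GolayPt → ℤ) (y : GolayPt → ℤ) := by
    intro y
    rw [← hgx, co0_dot g hg]
  have neX : ∀ y : ↥leechLattice, ((g y : leechLattice) : GolayPt → ℤ) = oa ↔ y = x := by
    intro y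
    rw [← hgx]
    constructor
    · intro h
      exact g.injective (Subtype.ext h)
    · intro h; rw [h]
  refine ⟨?_, ?_, ?_⟩
  · refine (ncard_transfer g _ _ ?_ ?_).trans ncard_hs_22
    · intro y
      show (sqNorm (y : GolayPt → ℤ) = 32 ∧ _ ∧ _) ∧ _ ↔ _
      rw [memX, dotX]
    · intro y hy
      exact hy.1.1
  · refine (ncard_transfer g _ _ ?_ ?_).trans ncard_hs_77
    · intro y
      show (sqNorm (y : GolayPt → ℤ) = 32 ∧ _ ∧ _) ∧ _ ∧ _ ↔ _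
      rw [memX, dotX]
      constructor
      · rintro ⟨a, b, c⟩
        exact ⟨a, fun h => b ((neX y).mp h), c⟩
      · rintro ⟨a, b, c⟩
        exact ⟨a, fun h => b ((neX y).mpr h), c⟩
    · intro y hy
      exact hy.1.1
  · intro y hy y' hy' hne hne' hiff
    have my := (memX y).mp hy
    have my' := (memX y').mp hy'
    have ny : ((g y : leechLattice) : GolayPt → ℤ) ≠ oa := fun h => hne ((neX y).mp h)
    have ny' : ((g y' : leechLattice) : GolayPt → ℤ) ≠ oa := fun h => hne' ((neX y').mp h)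
    rw [← dotX, ← dotX] at hiff
    obtain ⟨σ, hσ, s1, s2, s3⟩ := hs_rank3 _ _ my my' ny ny' hiff
    obtain ⟨f1, f2, f3⟩ := hs_perm_fix s1 s2
    have fix : ∀ z : ↥leechLattice, permVec σ ((g z : leechLattice) : GolayPt → ℤ) =
        ((g z : leechLattice) : GolayPt → ℤ) → (g⁻¹ * permPerm σ hσ * g) z = z := by
      intro z hz
      simp only [Equiv.Perm.mul_apply]
      have : permPerm σ hσ (g z) = g z := Subtype.ext hz
      rw [this]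
      simp
    refine ⟨⟨g⁻¹ * permPerm σ hσ * g,
      Co0.mul_mem (Co0.mul_mem (Co0.inv_mem hg) (permPerm_mem σ hσ)) hg⟩, ?_, ?_, ?_, ?_⟩
    · exact fix v (by rw [hgv]; exact f1)
    · exact fix w (by rw [hgw]; exact f2)
    · exact fix x (by rw [hgx]; exact f3)
    · show (g⁻¹ * permPerm σ hσ * g) y = y'
      simp only [Equiv.Perm.mul_apply]
      have : permPerm σ hσ (g y) = g y' := Subtype.ext s3
      rw [this]
      simp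

end Cfsg.Agent.S1584
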