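import Cfsg.Statements.S1590
import Cfsg.Agent.Lib.Helper35.TernaryGolay

set_option autoImplicit false
open Cfsg

namespace Cfsg.Agent.S1590

open Cfsg.Agent.Lib.Helper35

theorem card_P6 : Fintype.card P6 = 729 := by
  simp [P6, Fintype.card_prod, ZMod.card]

theorem weights_word : ∀ a0 a1 a2 a3 a4 a5 : ZMod 3,
    (Cfsg.ternarySupport (word a0 a1 a2 a3 a4 a5)).card = 0 ∨
    (Cfsg.ternarySupport (word a0 a1 a2 a3 a4 a5)).card = 6 ∨
    (Cfsg.ternarySupport (word a0 a1 a2 a3 a4 a5)).card = 9 ∨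
    (Cfsg.ternarySupport (word a0 a1 a2 a3 a4 a5)).card = 12 := by
  decide +kernel

theorem count6 : (Finset.univ.filter fun a : P6 => (Cfsg.ternarySupport (wordP a)).card = 6).card = 264 := by
  decide +kernel

theorem count9 : (Finset.univ.filter fun a : P6 => (Cfsg.ternarySupport (wordP a)).card = 9).card = 440 := by
  decide +kernel

theorem count12 : (Finset.univ.filter fun a : P6 => (Cfsg.ternarySupport (wordP a)).card = 12).card = 24 := by
  decide +kernel

theorem eq_zero_of_support_card (x : Cfsg.ArrayPt → ZMod 3) (h : (Cfsg.ternarySupport x).card = 0) :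
    x = 0 := by
  rw [Finset.card_eq_zero] at h
  funext p
  by_contra hp
  have : p ∈ Cfsg.ternarySupport x := by
    simp only [Cfsg.ternarySupport, Finset.mem_filter, Finset.mem_univ, true_and]
    exact hp
  rw [h] at this
  exact absurd this (Finset.notMem_empty p)


/-- The length-12 ternary code has 729 words with weight distribution 0^1 6^264 9^440 12^24. -/
theorem result : Nat.card ↥Cfsg.ternaryGolayCode = 729 ∧ (∀ x ∈ Cfsg.ternaryGolayCode, x ≠ 0 → (Cfsg.ternarySupport x).card = 6 ∨ (Cfsg.ternarySupport x).card = 9 ∨ (Cfsg.ternarySupport x).card = 12) ∧ {x : Cfsg.ArrayPt → ZMod 3 | x ∈ Cfsg.ternaryGolayCode ∧ (Cfsg.ternarySupport x).card = 6}.ncard = 264 ∧ {x : Cfsg.ArrayPt → ZMod 3 | x ∈ Cfsg.ternaryGolayCode ∧ (Cfsg.ternarySupport x).card = 9}.ncard = 440 ∧ {x : Cfsg.ArrayPt → ZMod 3 | x ∈ Cfsg.ternaryGolayCode ∧ (Cfsg.ternarySupport x).card = 12}.ncard = 24 := by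
  refine ⟨?_, ?_, ?_, ?_, ?_⟩
  · rw [Nat.card_congr codeEquiv.symm, Nat.card_eq_fintype_card, card_P6]
  · intro x hx hne
    obtain ⟨a0, a1, a2, a3, a4, a5, rfl⟩ := (mem_code_iff x).mp hx
    rcases weights_word a0 a1 a2 a3 a4 a5 with h | h | h | h
    · exact absurd (eq_zero_of_support_card _ h) hne
    · exact Or.inl h
    · exact Or.inr (Or.inl h)
    · exact Or.inr (Or.inr h)
  · rw [ncard_code_filter (fun x => (Cfsg.ternarySupport x).card = 6), count6]
  · rw [ncard_code_filter (fun x => (Cfsg.ternarySupport x).card = 9), count9]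
  · rw [ncard_code_filter (fun x => (Cfsg.ternarySupport x).card = 12), count12]

end Cfsg.Agent.S1590
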