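import Cfsg.Statements.S1591
import Cfsg.Agent.Lib.Helper35.TernaryGolay

set_option autoImplicit false
open Cfsg

namespace Cfsg.Agent.S1591

open Cfsg.Agent.Lib.Helper35

theorem self_dot_word : ∀ a0 a1 a2 a3 a4 a5 : ZMod 3,
    ∑ p, word a0 a1 a2 a3 a4 a5 p * word a0 a1 a2 a3 a4 a5 p = 0 := by
  decide +kernel

theorem self_dot (z : Cfsg.ArrayPt → ZMod 3) (hz : z ∈ Cfsg.ternaryGolayCode) :
    ∑ p, z p * z p = 0 := by
  obtain ⟨a0, a1, a2, a3, a4, a5, rfl⟩ := (mem_code_iff z).mp hz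
  exact self_dot_word a0 a1 a2 a3 a4 a5


/-- Any two words of the length-12 ternary code have dot product zero. -/
theorem result (x y : Cfsg.ArrayPt → ZMod 3) (hx : x ∈ Cfsg.ternaryGolayCode) (hy : y ∈ Cfsg.ternaryGolayCode) : ∑ p, x p * y p = 0 := by
  have hxy := self_dot (x + y) (Cfsg.ternaryGolayCode.add_mem hx hy)
  have hxx := self_dot x hx
  have hyy := self_dot y hy
  simp only [Pi.add_apply, add_mul, mul_add, Finset.sum_add_distrib] at hxy
  have hcomm : ∑ p, y p * x p = ∑ p, x p * y p := by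
    apply Finset.sum_congr rfl
    intro p _
    exact mul_comm _ _
  rw [hxx, hyy, hcomm] at hxy
  have h3 : (3 : ZMod 3) = 0 := by decide
  linear_combination (-1 : ZMod 3) * hxy + (∑ p, x p * y p) * h3

end Cfsg.Agent.S1591
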