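import Cfsg.Statements.S1592
import Cfsg.Agent.Lib.Helper35.TernaryGolay
import Cfsg.Agent.Lib.Helper35.BitMask

set_option autoImplicit false
open Cfsg

namespace Cfsg.Agent.S1592

open Cfsg.Agent.Lib.Helper35

/-- Bit position of an array point. -/
def idx12 (p : Cfsg.ArrayPt) : ℕ := 3 * p.1.val + p.2.val

theorem idx12_inj : Function.Injective idx12 := by decide

theorem idx12_lt : ∀ p, idx12 p < 12 := by decide

/-- Support mask of the codeword with parameter `a`. -/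
def supMaskP (a : P6) : ℕ := maskOf idx12 (Cfsg.ternarySupport (wordP a))

/-- Block masks with parameters of a codeword having that support. -/
def blockWit : List (ℕ × P6) := [(63, (1, 1, 1, 2, 2, 0)), (222, (0, 1, 2, 1, 2, 2)), (237, (1, 0, 2, 1, 0, 1)), (243, (1, 2, 0, 0, 1, 2)), (347, (1, 2, 0, 1, 2, 1)), (366, (0, 1, 2, 2, 0, 1)), (373, (1, 0, 2, 0, 2, 2)), (413, (1, 0, 2, 2, 1, 0)), (427, (1, 2, 0, 2, 0, 0)), (438, (0, 1, 2, 0, 1, 0)), (455, (1, 1, 1, 0, 0, 2)), (504, (0, 0, 0, 1, 1, 2)), (591, (1, 2, 2, 2, 0, 2)), (630, (0, 1, 1, 0, 1, 2)), (633, (1, 0, 0, 2, 1, 1)), (667, (1, 1, 0, 1, 1, 0)), (679, (1, 1, 2, 0, 0, 0)), (700, (0, 0, 1, 1, 1, 0)), (725, (1, 0, 1, 0, 2, 1)), (746, (0, 1, 0, 2, 0, 2)), (791, (1, 2, 1, 0, 1, 0)), (813, (1, 0, 1, 1, 0, 0)), (826, (0, 1, 0, 1, 2, 0)), (860, (0, 0, 1, 2, 2, 2)), (867, (1, 1, 0, 0, 0, 1)), (910, (0, 1, 1, 2, 0, 0)),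 (945, (1, 0, 0, 0, 2, 0)), (969, (1, 0, 0, 1, 0, 2)), (978, (0, 1, 0, 0, 1, 1)), (996, (0, 0, 1, 0, 0, 1)), (1117, (1, 0, 1, 1, 1, 2)), (1127, (1, 2, 1, 0, 0, 1)), (1146, (0, 1, 0, 1, 1, 1)), (1175, (1, 2, 2, 0, 2, 0)), (1198, (0, 1, 1, 1, 0, 0)), (1209, (1, 0, 0, 1, 2, 0)), (1227, (1, 1, 0, 2, 0, 1)), (1268, (0, 0, 1, 0, 2, 2)), (1295, (1, 1, 2, 1, 0, 0)), (1331, (1, 1, 0, 0, 1, 0)), (1340, (0, 0, 1, 2, 1, 0)), (1366, (0, 1, 1, 0, 2, 1)), (1385, (1, 0, 0, 2, 0, 2)), (1434, (0, 1, 0, 2, 2, 0)), (1445, (1, 0, 1, 0, 0, 0)), (1484, (0, 0, 1, 1, 0, 1)), (1489, (1, 0, 0, 0, 1, 1)), (1506, (0, 1, 0, 0, 0, 2)), (1566, (0, 1, 2, 2, 1, 0)), (1579, (1, 2, 0, 1, 0, 0)), (1589, (1, 0, 2, 0, 1, 0)), (1619, (1, 1, 0, 0, 2, 2)), (1644, (0, 0, 1, 2, 0, 1)), (1677, (1, 0, 1, 2, 0, 0)), (1714, (0, 1, 0, 0, 2, 0)), (1734, (0, 1, 2, 0, 0, 1)), (1752, (0, 0, 0, 1, 2, 1)), (1761, (1,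 0, 0, 0, 0, 2)), (1817, (1, 0, 0, 2, 2, 0)), (1830, (0, 1, 1, 0, 0, 0)), (1861, (1, 0, 2, 0, 0, 1)), (1866, (0, 1, 0, 1, 0, 2)), (1904, (0, 0, 0, 0, 1, 2)), (1923, (1, 2, 0, 0, 0, 0)), (1940, (0, 0, 1, 0, 1, 0)), (1960, (0, 0, 0, 1, 0, 0)), (2135, (1, 1, 2, 0, 1, 1)), (2155, (1, 1, 0, 1, 0, 2)), (2172, (0, 0, 1, 1, 2, 1)), (2191, (1, 2, 1, 1, 0, 0)), (2229, (1, 0, 1, 0, 1, 0)), (2234, (0, 1, 0, 2, 1, 0)), (2265, (1, 0, 0, 2, 2, 2)), (2278, (0, 1, 1, 0, 0, 1)), (2334, (0, 1, 1, 1, 1, 0)), (2343, (1, 2, 2, 0, 0, 0)), (2361, (1, 0, 0, 1, 1, 0)), (2381, (1, 0, 1, 2, 0, 1)), (2418, (0, 1, 0, 0, 2, 2)), (2451, (1, 1, 0, 0, 2, 0)), (2476, (0, 0, 1, 2, 0, 0)), (2506, (0, 1, 0, 1, 0, 1)), (2516, (0, 0, 1, 0, 1, 2)), (2529, (1, 0, 0, 0, 0, 1)), (2589, (1, 0, 2, 1, 2, 0)), (2606, (0, 1, 2, 1, 0, 0)), (2611, (1, 2, 0, 0, 2, 0)), (2650, (0, 1, 0, 2, 2, 1)), (2661, (1, 0, 1, 0,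 0, 2)), (2710, (0, 1, 1, 0, 2, 0)), (2729, (1, 0, 0, 2, 0, 0)), (2755, (1, 2, 0, 0, 0, 1)), (2764, (0, 0, 1, 1, 0, 2)), (2800, (0, 0, 0, 0, 1, 1)), (2827, (1, 1, 0, 2, 0, 0)), (2868, (0, 0, 1, 0, 2, 0)), (2886, (0, 1, 2, 0, 0, 2)), (2897, (1, 0, 0, 0, 1, 2)), (2920, (0, 0, 0, 1, 0, 1)), (2949, (1, 0, 2, 0, 0, 0)), (2968, (0, 0, 0, 1, 2, 0)), (2978, (0, 1, 0, 0, 0, 0)), (3099, (1, 2, 0, 2, 1, 0)), (3117, (1, 0, 2, 2, 0, 0)), (3126, (0, 1, 2, 0, 2, 0)), (3150, (0, 1, 1, 2, 0, 2)), (3185, (1, 0, 0, 0, 2, 1)), (3228, (0, 0, 1, 2, 2, 0)), (3235, (1, 1, 0, 0, 0, 0)), (3269, (1, 0, 2, 0, 0, 2)), (3282, (0, 1, 0, 0, 1, 2)), (3304, (0, 0, 0, 1, 0, 2)), (3349, (1, 0, 1, 0, 2, 0)), (3370, (0, 1, 0, 2, 0, 0)), (3395, (1, 2, 0, 0, 0, 2)), (3416, (0, 0, 0, 1, 2, 2)), (3428, (0, 0, 1, 0, 0, 2)), (3462, (0, 1, 2, 0, 0, 0)), (3465, (1, 0, 0, 1, 0, 0)), (3504, (0, 0, 0, 0, 1, 0)),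 (3591, (1, 1, 1, 0, 0, 0)), (3640, (0, 0, 0, 1, 1, 0)), (3657, (1, 0, 0, 1, 0, 1)), (3668, (0, 0, 1, 0, 1, 1)), (3682, (0, 1, 0, 0, 0, 1)), (3722, (0, 1, 0, 1, 0, 0)), (3729, (1, 0, 0, 0, 1, 0)), (3748, (0, 0, 1, 0, 0, 0)), (3852, (0, 0, 1, 1, 0, 0)), (3858, (0, 1, 0, 0, 1, 0)), (3873, (1, 0, 0, 0, 0, 0)), (4032, (0, 0, 0, 0, 0, 1))]

/-- The 132 block masks. -/
def blockList : List ℕ := blockWit.map Prod.fst

theorem blockWit_ok : ∀ e ∈ blockWit,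
    (Cfsg.ternarySupport (wordP e.2)).card = 6 ∧ supMaskP e.2 = e.1 := by
  decide +kernel

theorem blockList_complete : ∀ a : P6,
    (Cfsg.ternarySupport (wordP a)).card = 6 → supMaskP a ∈ blockList := by
  decide +kernel

theorem blockList_nodup : blockList.Nodup := by decide +kernel

theorem blockList_length : blockList.length = 132 := by decide +kernel

theorem steiner_check' : ∀ i ∈ List.range 64, ∀ j ∈ List.range 64, popc 12 (64 * i + j) = 5 →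
    (blockList.filter (fun b => (64 * i + j) &&& b == (64 * i + j))).length = 1 := by
  decide +kernel

theorem steiner_check : ∀ m ∈ List.range 4096, popc 12 m = 5 →
    (blockList.filter (fun b => m &&& b == m)).length = 1 := by
  intro m hm
  rw [List.mem_range] at hm
  have h := steiner_check' (m / 64) (List.mem_range.mpr (by omega)) (m % 64)
    (List.mem_range.mpr (by omega))
  have e : 64 * (m / 64) + m % 64 = m := Nat.div_add_mod m 64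
  rw [e] at h
  exact h

/-- The family of blocks. -/
def Blocks : Set (Finset Cfsg.ArrayPt) :=
  {h : Finset Cfsg.ArrayPt | ∃ x ∈ Cfsg.ternaryGolayCode, Cfsg.ternarySupport x = h ∧ h.card = 6}

theorem mem_Blocks_of_wit {e : ℕ × P6} (he : e ∈ blockWit) :
    Cfsg.ternarySupport (wordP e.2) ∈ Blocks ∧
      maskOf idx12 (Cfsg.ternarySupport (wordP e.2)) = e.1 := by
  obtain ⟨h1, h2⟩ := blockWit_ok e he
  exact ⟨⟨wordP e.2, wordP_mem _, rfl, h1⟩, h2⟩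

theorem exists_of_mem_blockList {m : ℕ} (hm : m ∈ blockList) :
    ∃ h ∈ Blocks, maskOf idx12 h = m := by
  obtain ⟨e, he, rfl⟩ := List.mem_map.mp hm
  obtain ⟨h1, h2⟩ := mem_Blocks_of_wit he
  exact ⟨_, h1, h2⟩

theorem mask_mem_of_mem_Blocks {h : Finset Cfsg.ArrayPt} (hh : h ∈ Blocks) :
    maskOf idx12 h ∈ blockList := by
  obtain ⟨x, hx, rfl, hc⟩ := hh
  obtain ⟨a, rfl⟩ := (mem_code_iff' x).mp hx
  exact blockList_complete a hc


/-- The supports of the weight-6 words of the length-12 ternary code form a Steiner system S(5, 6, 12) with 132 blocks. -/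
theorem result : Cfsg.IsSteinerSystem 5 6 {h : Finset Cfsg.ArrayPt | ∃ x ∈ Cfsg.ternaryGolayCode, Cfsg.ternarySupport x = h ∧ h.card = 6} ∧ {h : Finset Cfsg.ArrayPt | ∃ x ∈ Cfsg.ternaryGolayCode, Cfsg.ternarySupport x = h ∧ h.card = 6}.ncard = 132 := by
  change Cfsg.IsSteinerSystem 5 6 Blocks ∧ Blocks.ncard = 132
  refine ⟨⟨?_, ?_⟩, ?_⟩
  · rintro b ⟨x, _, _, hc⟩
    exact hc
  · intro s hs
    have hm : maskOf idx12 s ∈ List.range 4096 := by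
      rw [List.mem_range]
      exact maskOf_lt (n := 12) idx12_lt s
    have hp : popc 12 (maskOf idx12 s) = 5 := by
      rw [← card_eq_popc idx12_inj idx12_lt, hs]
    obtain ⟨b0, hb0⟩ := List.length_eq_one_iff.mp (steiner_check _ hm hp)
    have hb0mem : b0 ∈ blockList.filter (fun b => maskOf idx12 s &&& b == maskOf idx12 s) := by
      rw [hb0]; exact List.mem_singleton.mpr rfl
    rw [List.mem_filter] at hb0mem
    obtain ⟨h0, hh0, hmask⟩ := exists_of_mem_blockList hb0mem.1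
    refine ⟨h0, ⟨hh0, ?_⟩, ?_⟩
    · rw [maskOf_subset_iff idx12_inj, hmask]
      exact beq_iff_eq.mp hb0mem.2
    · rintro b ⟨hb, hsb⟩
      have h1 : maskOf idx12 b ∈ blockList := mask_mem_of_mem_Blocks hb
      have h2 : maskOf idx12 s &&& maskOf idx12 b = maskOf idx12 s :=
        (maskOf_subset_iff idx12_inj s b).mp hsb
      have h3 : maskOf idx12 b ∈ blockList.filter (fun b => maskOf idx12 s &&& b == maskOf idx12 s) := by
        rw [List.mem_filter]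
        exact ⟨h1, beq_iff_eq.mpr h2⟩
      rw [hb0, List.mem_singleton] at h3
      exact maskOf_injective idx12_inj (h3.trans hmask.symm)
  · have himg : maskOf idx12 '' Blocks = ((blockList.toFinset : Finset ℕ) : Set ℕ) := by
      ext m
      simp only [Set.mem_image, Finset.mem_coe, List.mem_toFinset]
      constructor
      · rintro ⟨h, hh, rfl⟩
        exact mask_mem_of_mem_Blocks hh
      · intro hm
        exact exists_of_mem_blockList hm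
    rw [← Set.ncard_image_of_injective _ (maskOf_injective idx12_inj), himg, Set.ncard_coe_finset,
      List.toFinset_card_of_nodup blockList_nodup, blockList_length]

end Cfsg.Agent.S1592
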