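import Cfsg.Statements.S1594
import Cfsg.Agent.Lib.Helper36.TernAut

set_option autoImplicit false
open Cfsg

namespace Cfsg.Agent.S1594

open Cfsg.Agent.Lib.Helper36 Cfsg.Agent.Lib.Helper36.Tern

theorem scalar_pres (C : Submodule (ZMod 3) (ArrayPt → ZMod 3)) (u : (ZMod 3)ˣ) :
    Mono.Pres C 1 (fun _ => u) := by
  intro x hx
  have : monomialMap (1 : Equiv.Perm ArrayPt) (fun _ => u) x = (u : ZMod 3) • x := by
    funext i
    simp [monomialMap, Mono.symm_one_apply]
  rw [this]
  exact C.smul_mem _ hx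

theorem card_diag : Nat.card {d : ArrayPt → (ZMod 3)ˣ // Mono.Pres ternaryGolayCode 1 d} = 2 := by
  have eq : {d : ArrayPt → (ZMod 3)ˣ // Mono.Pres ternaryGolayCode 1 d} ≃ (ZMod 3)ˣ :=
    { toFun := fun d => d.1 (0, 0)
      invFun := fun u => ⟨fun _ => u, scalar_pres _ u⟩
      left_inv := by
        rintro ⟨d, hd⟩
        apply Subtype.ext
        funext i
        rcases Cfsg.Agent.S1593.result d hd with h | h
        · show d (0, 0) = d i
          rw [h, h]
        · show d (0, 0) = d i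
          rw [h, h]
      right_inv := fun u => rfl }
  rw [Nat.card_congr eq, Nat.card_eq_fintype_card]
  rfl

/-- The monomial automorphism group of the length-12 ternary code has order 190080 and its permutation parts are exactly the automorphisms of its hexad system. -/
theorem result : Nat.card {f : Equiv.Perm Cfsg.ArrayPt × (Cfsg.ArrayPt → (ZMod 3)ˣ) // (∀ x ∈ Cfsg.ternaryGolayCode, Cfsg.monomialMap f.1 f.2 x ∈ Cfsg.ternaryGolayCode)} = 190080 ∧ {σ : Equiv.Perm Cfsg.ArrayPt | ∃ c : Cfsg.ArrayPt → (ZMod 3)ˣ, (∀ x ∈ Cfsg.ternaryGolayCode, Cfsg.monomialMap σ c x ∈ Cfsg.ternaryGolayCode)} = (Cfsg.setSystemAut {h : Finset Cfsg.ArrayPt | ∃ x ∈ Cfsg.ternaryGolayCode, Cfsg.ternarySupport x = h ∧ h.card = 6} : Set (Equiv.Perm Cfsg.ArrayPt)) := by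
  refine ⟨?_, ?_⟩
  · rw [Mono.card_mono, card_diag]
    have h : Nat.card ↥(Mono.permPart ternaryGolayCode) = 95040 := card_KK
    rw [h]
  · have h := congrArg (fun S : Subgroup (Equiv.Perm ArrayPt) => (S : Set (Equiv.Perm ArrayPt))) KK_eq_AA
    exact h

end Cfsg.Agent.S1594
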