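import Cfsg.Statements.S1598
import Cfsg.Agent.Lib.Helper36.QuartetHom

set_option autoImplicit false
open scoped Pointwise
open Cfsg

namespace Cfsg.Agent.S1598

open Cfsg.Agent.Lib.Helper10 (idx pt idx_pt idx_lt idx_injective pt_idx)
open Cfsg.Agent.Lib.Helper35
open Cfsg.Agent.Lib.Helper36

section Two
variable {A B : Type*} [MulAction (Equiv.Perm GolayPt) A] [MulAction (Equiv.Perm GolayPt) B]

/-- The joint stabiliser inside `↥M24` as a subgroup of the symmetric group. -/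
def stabEquiv (a : A) (b : B) :
    ↥(MulAction.stabilizer ↥M24 a ⊓ MulAction.stabilizer ↥M24 b) ≃*
      ↥(M24 ⊓ MulAction.stabilizer (Equiv.Perm GolayPt) a ⊓
        MulAction.stabilizer (Equiv.Perm GolayPt) b) where
  toFun x := ⟨x.1.1, ⟨⟨x.1.2, x.2.1⟩, x.2.2⟩⟩
  invFun y := ⟨⟨y.1, y.2.1.1⟩, ⟨y.2.1.2, y.2.2⟩⟩
  left_inv _ := rfl
  right_inv _ := rfl
  map_mul' _ _ := rfl

/-- Conjugation by an element of `M24`. -/
def conjEquiv {h : Equiv.Perm GolayPt} (hh : h ∈ M24) (a : A) (b : B) :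
    ↥(M24 ⊓ MulAction.stabilizer (Equiv.Perm GolayPt) a ⊓
        MulAction.stabilizer (Equiv.Perm GolayPt) b) ≃*
      ↥(M24 ⊓ MulAction.stabilizer (Equiv.Perm GolayPt) (h • a) ⊓
        MulAction.stabilizer (Equiv.Perm GolayPt) (h • b)) where
  toFun x := ⟨h * x.1 * h⁻¹, ⟨⟨M24.mul_mem (M24.mul_mem hh x.2.1.1) (M24.inv_mem hh), by
      have hx : x.1 • a = a := x.2.1.2
      show (h * x.1 * h⁻¹) • (h • a) = h • a
      rw [mul_smul, mul_smul, inv_smul_smul, hx]⟩, by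
      have hx : x.1 • b = b := x.2.2
      show (h * x.1 * h⁻¹) • (h • b) = h • b
      rw [mul_smul, mul_smul, inv_smul_smul, hx]⟩⟩
  invFun y := ⟨h⁻¹ * y.1 * h, ⟨⟨M24.mul_mem (M24.mul_mem (M24.inv_mem hh) y.2.1.1) hh, by
      have hy : y.1 • (h • a) = h • a := y.2.1.2
      show (h⁻¹ * y.1 * h) • a = a
      rw [mul_smul, mul_smul, hy, inv_smul_smul]⟩, by
      have hy : y.1 • (h • b) = h • b := y.2.2
      show (h⁻¹ * y.1 * h) • b = b
      rw [mul_smul, mul_smul, hy, inv_smul_smul]⟩⟩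
  left_inv x := Subtype.ext (by show h⁻¹ * (h * x.1 * h⁻¹) * h = x.1; group)
  right_inv y := Subtype.ext (by show h * (h⁻¹ * y.1 * h) * h⁻¹ = y.1; group)
  map_mul' x y := Subtype.ext (by
    show h * (x.1 * y.1) * h⁻¹ = h * x.1 * h⁻¹ * (h * y.1 * h⁻¹)
    group)

end Two

theorem c0_ck : checkDFSG [fun i => c0g1T.getD i 0, fun i => c0g2T.getD i 0] c0Cert [idx (pt 0)] = true := by
  rw [idx_pt (by norm_num)]; decide +kernel

theorem c0_complete : ∀ i : Fin 24, d0m.testBit i = true →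
    i.val ∈ idx (pt 0) :: pushedG 2 c0Cert := by
  rw [idx_pt (by norm_num)]; decide +kernel

theorem base_trans (p : GolayPt) (hp : p ∈ d0) : ∃ g ∈ KQ, g (pt 0) = p := by
  have hbit : d0m.testBit (idx p) = true := by
    have hp' : p ∈ ofMask idx d0m := hp
    rwa [mem_ofMask] at hp'
  obtain ⟨g, hg, hidx⟩ := orbit_of_certG c0_models (pt 0) c0Cert c0_ck _
    (c0_complete ⟨idx p, idx_lt p⟩ hbit)
  exact ⟨g, hg, idx_injective hidx⟩

/-- A quartet stabiliser inside the dodecad stabiliser has order 432, a normal subgroup of order 9 with quotient GL(2, 3), and is transitive on the dodecad. -/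
theorem result (d : Finset Cfsg.GolayPt) (hd : d ∈ Cfsg.dodecads) (Q : Finset (Finset Cfsg.GolayPt)) (hQ : Q ∈ Cfsg.quartets d) : Nat.card ↥(MulAction.stabilizer Cfsg.M24 d ⊓ MulAction.stabilizer Cfsg.M24 Q) = 432 ∧ (∃ (N : Subgroup ↥(MulAction.stabilizer Cfsg.M24 d ⊓ MulAction.stabilizer Cfsg.M24 Q)) (_ : N.Normal), Nat.card N = 9 ∧ Nonempty (↥(MulAction.stabilizer Cfsg.M24 d ⊓ MulAction.stabilizer Cfsg.M24 Q) ⧸ N ≃* GL (Fin 2) (ZMod 3))) ∧ ∀ p ∈ d, ∀ q ∈ d, ∃ g ∈ (MulAction.stabilizer Cfsg.M24 d ⊓ MulAction.stabilizer Cfsg.M24 Q), ((g : ↥Cfsg.M24) : Equiv.Perm Cfsg.GolayPt) p = q := by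
  obtain ⟨h, hh, rfl, rfl⟩ := exists_smul_d0_Q0 hd hQ
  have e : ↥(MulAction.stabilizer Cfsg.M24 (h • d0) ⊓ MulAction.stabilizer Cfsg.M24 (h • Q0)) ≃*
      ↥KQ := (stabEquiv (h • d0) (h • Q0)).trans (conjEquiv hh d0 Q0).symm
  have hcard : Nat.card ↥(MulAction.stabilizer Cfsg.M24 (h • d0) ⊓
      MulAction.stabilizer Cfsg.M24 (h • Q0)) = 432 := by
    rw [Nat.card_congr e.toEquiv]
    exact card_orbit_Q0.2
  refine ⟨hcard, ?_, ?_⟩
  · have hψ : Function.Surjective (homQ.comp e.toMonoidHom) :=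
      homQ_surjective.comp e.surjective
    refine ⟨(homQ.comp e.toMonoidHom).ker, inferInstance, ?_,
      ⟨QuotientGroup.quotientKerEquivOfSurjective _ hψ⟩⟩
    have h1 := Subgroup.card_eq_card_quotient_mul_card_subgroup (homQ.comp e.toMonoidHom).ker
    have h2 : Nat.card (↥(MulAction.stabilizer Cfsg.M24 (h • d0) ⊓
        MulAction.stabilizer Cfsg.M24 (h • Q0)) ⧸ (homQ.comp e.toMonoidHom).ker) = 48 := by
      rw [Nat.card_congr (QuotientGroup.quotientKerEquivOfSurjective _ hψ).toEquiv, card_GL23]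
    rw [hcard, h2] at h1
    omega
  · intro p hp q hq
    have hp' : h⁻¹ p ∈ d0 := Finset.inv_smul_mem_iff.mpr hp
    have hq' : h⁻¹ q ∈ d0 := Finset.inv_smul_mem_iff.mpr hq
    obtain ⟨g1, hg1, e1⟩ := base_trans _ hp'
    obtain ⟨g2, hg2, e2⟩ := base_trans _ hq'
    have hk : g2 * g1⁻¹ ∈ KQ := KQ.mul_mem hg2 (KQ.inv_mem hg1)
    let x := (stabEquiv (h • d0) (h • Q0)).symm (conjEquiv hh d0 Q0 ⟨g2 * g1⁻¹, hk⟩)
    refine ⟨x.1, x.2, ?_⟩
    show (h * (g2 * g1⁻¹) * h⁻¹) p = q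
    show h (g2 (g1⁻¹ (h⁻¹ p))) = q
    rw [← e1]
    simp [e2]

end Cfsg.Agent.S1598
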