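import Cfsg.Statements.S1599
import Cfsg.Agent.Lib.Helper36.Quartet

set_option autoImplicit false
open scoped Pointwise
open Cfsg

namespace Cfsg.Agent.S1599

open Cfsg.Agent.Lib.Helper10 (idx pt idx_pt idx_lt idx_injective enc enc_mod enc_lt pt_idx)
open Cfsg.Agent.Lib.Helper35
open Cfsg.Agent.Lib.Helper36

section Two
variable {A B X : Type*} [MulAction (Equiv.Perm GolayPt) A] [MulAction (Equiv.Perm GolayPt) B]
  [MulAction (Equiv.Perm GolayPt) X]

theorem orbit_stabilizer2_eq_orbK (a : A) (b : B) (x : X) :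
    MulAction.orbit ↥(MulAction.stabilizer ↥M24 a ⊓ MulAction.stabilizer ↥M24 b) x =
      orbK (M24 ⊓ MulAction.stabilizer (Equiv.Perm GolayPt) a ⊓
        MulAction.stabilizer (Equiv.Perm GolayPt) b) x := by
  ext y
  constructor
  · rintro ⟨⟨⟨g, hg⟩, hga, hgb⟩, rfl⟩
    exact ⟨g, ⟨⟨hg, hga⟩, hgb⟩, rfl⟩
  · rintro ⟨g, ⟨⟨hg, hga⟩, hgb⟩, rfl⟩
    exact ⟨⟨⟨g, hg⟩, hga, hgb⟩, rfl⟩

theorem orbK_conj2 {h : Equiv.Perm GolayPt} (hh : h ∈ M24) (a : A) (b : B) (x : X) :
    orbK (M24 ⊓ MulAction.stabilizer (Equiv.Perm GolayPt) (h • a) ⊓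
        MulAction.stabilizer (Equiv.Perm GolayPt) (h • b)) (h • x) =
      (fun y => h • y) '' orbK (M24 ⊓ MulAction.stabilizer (Equiv.Perm GolayPt) a ⊓
        MulAction.stabilizer (Equiv.Perm GolayPt) b) x := by
  ext y
  constructor
  · rintro ⟨g, ⟨⟨hg, hga⟩, hgb⟩, rfl⟩
    have hga' : g • (h • a) = h • a := hga
    have hgb' : g • (h • b) = h • b := hgb
    refine ⟨(h⁻¹ * g * h) • x, ⟨h⁻¹ * g * h,
      ⟨⟨M24.mul_mem (M24.mul_mem (M24.inv_mem hh) hg) hh, ?_⟩, ?_⟩, rfl⟩, ?_⟩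
    · show (h⁻¹ * g * h) • a = a
      rw [mul_smul, mul_smul, hga', inv_smul_smul]
    · show (h⁻¹ * g * h) • b = b
      rw [mul_smul, mul_smul, hgb', inv_smul_smul]
    · show h • (h⁻¹ * g * h) • x = g • h • x
      rw [mul_smul, mul_smul, smul_inv_smul]
  · rintro ⟨_, ⟨g, ⟨⟨hg, hga⟩, hgb⟩, rfl⟩, rfl⟩
    have hga' : g • a = a := hga
    have hgb' : g • b = b := hgb
    refine ⟨h * g * h⁻¹, ⟨⟨M24.mul_mem (M24.mul_mem hh hg) (M24.inv_mem hh), ?_⟩, ?_⟩, ?_⟩
    · show (h * g * h⁻¹) • (h • a) = h • a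
      rw [mul_smul, mul_smul, inv_smul_smul, hga']
    · show (h * g * h⁻¹) • (h • b) = h • b
      rw [mul_smul, mul_smul, inv_smul_smul, hgb']
    · show (h * g * h⁻¹) • h • x = h • g • x
      rw [mul_smul, mul_smul, inv_smul_smul]

theorem ncard_orbK_conj2 {h : Equiv.Perm GolayPt} (hh : h ∈ M24) (a : A) (b : B) (x : X) :
    (orbK (M24 ⊓ MulAction.stabilizer (Equiv.Perm GolayPt) (h • a) ⊓
        MulAction.stabilizer (Equiv.Perm GolayPt) (h • b)) (h • x)).ncard =
      (orbK (M24 ⊓ MulAction.stabilizer (Equiv.Perm GolayPt) a ⊓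
        MulAction.stabilizer (Equiv.Perm GolayPt) b) x).ncard := by
  rw [orbK_conj2 hh]
  exact Set.ncard_image_of_injective _ (MulAction.injective h)

end Two

theorem KQ_models : List.Forall₂ (fun g act => g ∈ KQ ∧ ∀ S : Finset (Finset GolayPt), encSS (g • S) = act (encSS S))
    [c0g1, c0g2] [actSS (applyTbl c0g1T), actSS (applyTbl c0g2T)] :=
  List.Forall₂.cons ⟨c0g1_memK, tblPerm_modelsSS _ _ _⟩ (List.Forall₂.cons ⟨c0g2_memK, tblPerm_modelsSS _ _ _⟩ (List.Forall₂.nil))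

/-- The weight function of the invariant. -/
def w (k : ℕ) : ℕ := 7 ^ k

theorem KQ_fixQ : ∀ g ∈ KQ, g • Q0 = Q0 := fun _ hg => hg.2
theorem KQ_fixd : ∀ g ∈ KQ, g • d0 = d0 := fun _ hg => hg.1.2
theorem orbK_sub {X : Finset (Finset GolayPt)} (hX : X ∈ quartets d0) : orbK KQ X ⊆ quartets d0 := by
  rintro Y ⟨g, hg, rfl⟩
  have := smul_mem_quartets (KQ_le hg) hX
  rwa [KQ_fixd g hg] at this

theorem Q0_J : JJ w Q0 Q0 = 1384 := by
  rw [JJ_eq_jjL, Q0_enc]; decide +kernel

/-- Masks of a representative. -/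
def X1L : List ℕ := [13, 784, 10368, 17472]
/-- Witness octads. -/
def X1W : List ℕ := [2141072, 2147405, 8431757, 8439632, 10486557, 10513600]
/-- A representative. -/
def X1 : Finset (Finset GolayPt) := ofMasks X1L
theorem X1_enc : encSS X1 = X1L := encSS_ofMasks _ (by decide) (by decide)
theorem X1_mem : X1 ∈ quartets d0 := ofMasks_mem_quartets d0m (by decide) X1W _ (by decide) (by decide +kernel)
/-- Orbit certificate. -/
def X1Cert : List (ℕ × List ℕ) := [(0, [448, 2561, 8212, 17416]), (0, [577, 1284, 8328, 18448]), (0, [84, 2184, 9728, 16641]), (0, [13, 3328, 8272, 17024]), (0, [448, 536, 3076, 24577]), (0, [644, 1096, 8449, 18448]), (0, [280, 2113, 9728, 16516]), (1, [448, 1041, 10248, 16900]), (0, [776, 1153, 8260, 18448]), (0, [145, 2308, 9728, 16456]), (0, [13, 1168, 2624, 24832])]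
theorem X1_lb : 12 ≤ (orbK KQ X1).ncard := by
  have h := le_ncard_orbK encSS KQ_models X1 X1Cert (by rw [X1_enc]; decide +kernel)
    (hashL 73) (by rw [X1_enc]; decide +kernel)
  refine le_trans ?_ h
  rw [X1_enc]; decide +kernel
theorem X1_J : JJ w Q0 X1 = 412 := by
  rw [JJ_eq_jjL, Q0_enc, X1_enc]; decide +kernel

/-- Masks of a representative. -/
def X2L : List ℕ := [21, 704, 9472, 18440]
/-- Witness octads. -/
def X2W : List ℕ := [99029, 126216, 304405, 314056, 337856, 346141]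
/-- A representative. -/
def X2 : Finset (Finset GolayPt) := ofMasks X2L
theorem X2_enc : encSS X2 = X2L := encSS_ofMasks _ (by decide) (by decide)
theorem X2_mem : X2 ∈ quartets d0 := ofMasks_mem_quartets d0m (by decide) X2W _ (by decide) (by decide +kernel)
/-- Orbit certificate. -/
def X2Cert : List (ℕ × List ℕ) := [(0, [1408, 2072, 8768, 16389]), (0, [896, 2060, 9280, 16401]), (0, [1664, 2053, 8512, 16408]), (0, [25, 1600, 8576, 18436]), (0, [1216, 2057, 8960, 16404]), (0, [1792, 2065, 8384, 16396]), (0, [832, 2068, 9344, 16393]), (1, [137, 324, 2576, 25600]), (0, [208, 517, 9224, 18688]), (0, [69, 392, 3088, 25088]), (0, [524, 2432, 9217, 16464]), (0, [133, 328, 3584, 24592]), (0, [400, 1540, 8201, 18496]), (0, [196, 265, 10752, 17424]), (0, [1537, 2320, 8204, 16576]), (2, []), (2, []), (1, [1029, 2128, 8712, 16768]), (0, [76, 385, 11264, 16912]), (0, [1544, 2368, 8197, 16528]), (0, [73, 388, 1552, 26624]), (0, [1033, 2240, 8708, 16656]),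 (0, [193, 268, 10256, 17920]), (0, [521, 2192, 9220, 16704]), (0, [200, 261, 9232, 18944]), (1, [28, 1344, 8832, 18433]), (2, []), (2, []), (2, []), (2, []), (2, []), (2, []), (2, []), (2, []), (2, []), (2, []), (2, []), (2, []), (2, []), (1, [336, 1036, 8705, 18560]), (0, [140, 321, 8720, 19456])]
theorem X2_lb : 27 ≤ (orbK KQ X2).ncard := by
  have h := le_ncard_orbK encSS KQ_models X2 X2Cert (by rw [X2_enc]; decide +kernel)
    (hashL 373) (by rw [X2_enc]; decide +kernel)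
  refine le_trans ?_ h
  rw [X2_enc]; decide +kernel
theorem X2_J : JJ w Q0 X2 = 232 := by
  rw [JJ_eq_jjL, Q0_enc, X2_enc]; decide +kernel

/-- Masks of a representative. -/
def X3L : List ℕ := [21, 1160, 10752, 16704]
/-- Witness octads. -/
def X3W : List ℕ := [5279, 31554, 1060490, 1063445, 1065303, 1070536]
/-- A representative. -/
def X3 : Finset (Finset GolayPt) := ofMasks X3L
theorem X3_enc : encSS X3 = X3L := encSS_ofMasks _ (by decide) (by decide)
theorem X3_mem : X3 ∈ quartets d0 := ofMasks_mem_quartets d0m (by decide) X3W _ (by decide) (by decide +kernel)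
/-- Orbit certificate. -/
def X3Cert : List (ℕ × List ℕ) := [(0, [81, 1408, 8204, 18944]), (0, [324, 3200, 8712, 16401]), (0, [76, 1664, 8209, 18688]), (0, [25, 1156, 2368, 25088]), (0, [273, 524, 1216, 26624]), (0, [328, 2065, 8708, 17536]), (0, [268, 529, 9344, 18496]), (2, []), (1, [25, 772, 11264, 16576]), (0, [1216, 2576, 8197, 16648]), (0, [388, 2065, 9224, 16960]), (0, [69, 2568, 9344, 16656]), (0, [21, 2432, 8264, 17920]), (0, [521, 1408, 2116, 24592]), (0, [200, 1540, 10496, 16401]), (0, [265, 1664, 2128, 24580]), (2, []), (1, [28, 3584, 8257, 16768]), (0, [1344, 2180, 8201, 16912]), (0, [196, 1544, 8464, 18433]), (0, [73, 2320, 8832, 17412]), (0, [28, 769, 2240, 25600]), (0, [517, 1344, 10256, 16520]), (0, [392, 592, 9220, 18433]), (0, [261, 3080, 8832, 16464]), (2, []), (2, []), (1, [265, 532, 9280, 18560]), (0, [1288, 2053, 8720, 16576]), (0, [1036, 2576, 8576, 16449]), (0, [321, 2688, 9224, 16404]), (0, [69, 1792, 8216, 18560]),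 (0, [1092, 2432, 8720, 16393]), (0, [704, 1036, 2305, 24592]), (0, [321, 1540, 2072, 24704]), (1, [580, 2057, 9232, 16768]), (0, [1029, 2312, 8384, 16912]), (0, [385, 1544, 2068, 24640]), (0, [73, 2564, 9472, 16528]), (0, [1552, 2240, 8456, 16389]), (0, [896, 1033, 10256, 16452]), (0, [193, 2816, 9220, 16408]), (0, [261, 1600, 2192, 24584]), (2, []), (1, [1552, 2060, 8321, 16704]), (0, [148, 1033, 8512, 18944]), (0, [193, 1296, 8712, 18436]), (0, [76, 2192, 8960, 17409]), (0, [641, 2368, 9232, 16396]), (0, [152, 832, 1029, 26624]), (0, [385, 1104, 8708, 18440]), (0, [268, 3073, 8768, 16528]), (2, []), (2, []), (1, [137, 1044, 8768, 18688]), (0, [208, 1281, 2060, 25088]), (0, [524, 3088, 8512, 16513]), (0, [328, 656, 9217, 18436]), (0, [133, 1048, 8960, 18496]), (0, [400, 1089, 10752, 16396]), (0, [832, 2177, 8204, 17424]), (0, [324, 1537, 8336, 18440]), (2, []), (1, [137, 1792, 10244, 16464]), (0, [208, 3584, 8452, 16393]), (0, [704, 3088,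 8201, 16644]), (0, [196, 2072, 9217, 17152]), (0, [133, 2320, 9280, 16904]), (0, [400, 584, 2053, 25600]), (0, [517, 2120, 8576, 17424]), (0, [392, 1537, 10304, 16404]), (2, []), (2, []), (2, []), (2, []), (2, []), (1, [140, 2128, 9472, 16897]), (0, [336, 648, 11264, 16389]), (0, [88, 896, 8197, 19456]), (0, [388, 3136, 8705, 16408]), (0, [140, 1600, 10241, 16656]), (0, [336, 2057, 8324, 17920]), (0, [276, 521, 8384, 19456]), (0, [200, 2068, 8705, 17664])]
theorem X3_lb : 72 ≤ (orbK KQ X3).ncard := by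
  have h := le_ncard_orbK encSS KQ_models X3 X3Cert (by rw [X3_enc]; decide +kernel)
    (hashL 2594) (by rw [X3_enc]; decide +kernel)
  refine le_trans ?_ h
  rw [X3_enc]; decide +kernel
theorem X3_J : JJ w Q0 X3 = 196 := by
  rw [JJ_eq_jjL, Q0_enc, X3_enc]; decide +kernel

/-- Masks of a representative. -/
def X4L : List ℕ := [21, 776, 3136, 24704]
/-- Witness octads. -/
def X4W : List ℕ := [2101096, 2121909, 8391797, 8414120, 10486557, 10513600]
/-- A representative. -/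
def X4 : Finset (Finset GolayPt) := ofMasks X4L
theorem X4_enc : encSS X4 = X4L := encSS_ofMasks _ (by decide) (by decide)
theorem X4_mem : X4 ∈ quartets d0 := ofMasks_mem_quartets d0m (by decide) X4W _ (by decide) (by decide +kernel)
/-- Orbit certificate. -/
def X4Cert : List (ℕ × List ℕ) := [(0, [532, 1408, 10241, 16456]), (0, [1288, 2624, 8324, 16401]), (0, [276, 1664, 10248, 16449]), (0, [25, 2688, 8260, 17664]), (0, [1216, 2308, 8216, 16897]), (0, [648, 1092, 2065, 24832]), (0, [88, 2305, 9344, 16900]), (1, [324, 1048, 10241, 17024]), (0, [536, 1089, 8324, 18688]), (0, [276, 1096, 2177, 25088]), (0, [524, 2113, 8336, 17664]), (0, [328, 1044, 10368, 16897]), (0, [648, 1281, 8212, 18496]), (0, [88, 1284, 10752, 16513]), (0, [656, 3136, 8204, 16641]), (1, [1156, 2561, 8456, 16464]), (0, [273, 3584, 8328, 16452]), (0, [84, 2816, 8201, 17536]), (0, [196, 529, 3328, 24584]), (0, [580, 1160, 2320, 24577]), (0, [81, 644, 2312, 25600]), (0,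 [280, 517, 3200, 24640]), (0, [392, 2564, 8209, 17472]), (2, []), (1, [584, 1041, 8452, 18560]), (0, [1153, 2120, 8720, 16644]), (0, [145, 1036, 10304, 17152]), (0, [321, 1168, 10244, 16904]), (1, [656, 1284, 2057, 24640]), (0, [1048, 2564, 8384, 16641]), (0, [1089, 2068, 8456, 17024]), (0, [536, 2177, 9472, 16452]), (0, [1096, 2816, 8336, 16389]), (0, [896, 1044, 2113, 24584]), (0, [580, 1281, 10368, 16408]), (0, [1600, 2312, 8212, 16513]), (2, []), (1, [1552, 2305, 8260, 16520]), (0, [592, 1033, 2308, 24704]), (0, [193, 532, 3080, 24832]), (0, [1288, 2192, 8257, 16900]), (0, [776, 2180, 9232, 16449]), (0, [1029, 2688, 8464, 16456]), (0, [385, 2624, 8216, 17412]), (0, [769, 1092, 10248, 16528]), (1, [1540, 2177, 8272, 16648]), (0, [265, 3076, 8336, 16960]), (0, [1044, 2568, 8449, 16576]), (0, [1281, 2576, 8264, 16516]), (0, [784, 2116, 9224, 16513]), (0, [69, 656, 10496, 17416]), (0, [577, 1048, 2432, 24580]), (0, [772, 1089, 2184, 24592]),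 (2, []), (1, [1296, 2184, 8197, 16960]), (0, [388, 2568, 8272, 17409]), (0, [641, 3076, 8264, 16656]), (0, [152, 2116, 8449, 17920]), (0, [521, 1104, 10496, 16516]), (0, [200, 784, 3073, 24580]), (0, [772, 2128, 8321, 17416]), (0, [148, 577, 11264, 16648]), (1, [529, 2184, 8512, 17412]), (0, [769, 1160, 8272, 18436]), (0, [81, 3076, 8960, 16520]), (0, [592, 3200, 8449, 16396]), (0, [832, 3080, 8209, 16516]), (0, [784, 1156, 8257, 18440]), (0, [273, 2180, 8768, 17416]), (0, [577, 2060, 8464, 17536]), (2, []), (2, []), (2, []), (1, [137, 3136, 8464, 16900]), (0, [208, 776, 10241, 17412]), (0, [769, 3088, 8324, 16456]), (0, [276, 2624, 9217, 16520]), (0, [133, 592, 10248, 17664]), (0, [400, 3080, 8260, 16897]), (0, [648, 2308, 8257, 17424]), (0, [88, 1537, 2180, 24832]), (2, []), (1, [148, 1792, 2120, 24577]), (0, [644, 1296, 10304, 16393]), (0, [280, 704, 10244, 17409]), (0, [641, 2072, 8452, 17472]), (0, [152, 2561, 9280, 16644]), (0, [1104,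 2053, 8328, 17152]), (0, [84, 3073, 8576, 16904]), (0, [584, 3328, 8321, 16404]), (2, []), (2, []), (1, [84, 641, 1288, 26624]), (0, [152, 3328, 8708, 16449]), (0, [268, 1104, 2688, 24577]), (0, [644, 3073, 8216, 16704]), (0, [280, 1092, 8321, 18944]), (0, [148, 2305, 8712, 17472]), (0, [76, 1296, 2561, 24704]), (0, [532, 2368, 8328, 17409]), (2, []), (2, []), (2, []), (1, [1041, 2116, 8832, 16648]), (0, [28, 1153, 10496, 16960]), (0, [145, 1344, 2568, 24580]), (0, [772, 1168, 8264, 18433]), (2, []), (2, []), (2, []), (2, []), (2, []), (2, []), (2, []), (2, []), (2, []), (2, []), (2, []), (2, []), (1, [140, 1041, 2816, 24640]), (0, [336, 1153, 2564, 24584]), (0, [145, 580, 8456, 19456]), (0, [1168, 2312, 8705, 16452]), (1, [1284, 2240, 8209, 16904]), (0, [584, 1156, 10256, 16641]), (0, [273, 2120, 9220, 17024]), (0, [261, 536, 10304, 17536]), (0, [529, 1096, 10244, 16768]), (0, [1160, 2113, 8452, 16912]), (0, [81, 1544, 10368, 16644]),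 (0, [73, 3200, 8212, 17152])]
theorem X4_lb : 108 ≤ (orbK KQ X4).ncard := by
  have h := le_ncard_orbK encSS KQ_models X4 X4Cert (by rw [X4_enc]; decide +kernel)
    (hashL 5839) (by rw [X4_enc]; decide +kernel)
  refine le_trans ?_ h
  rw [X4_enc]; decide +kernel
theorem X4_J : JJ w Q0 X4 = 124 := by
  rw [JJ_eq_jjL, Q0_enc, X4_enc]; decide +kernel

theorem base : (orbK KQ X1).ncard = 12 ∧ (orbK KQ X2).ncard = 27 ∧ (orbK KQ X3).ncard = 72 ∧
    (orbK KQ X4).ncard = 108 ∧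
    quartets d0 = {Q0} ∪ orbK KQ X1 ∪ orbK KQ X2 ∪ orbK KQ X3 ∪ orbK KQ X4 := by
  have h := assemble5 (F := quartets d0) (O₁ := {Q0}) (O₂ := orbK KQ X1) (O₃ := orbK KQ X2)
    (O₄ := orbK KQ X3) (O₅ := orbK KQ X4) (n₁ := 1) (n₂ := 12) (n₃ := 27) (n₄ := 72) (n₅ := 108) (JJ w Q0)
    (Set.singleton_subset_iff.mpr Q0_mem) (orbK_sub X1_mem) (orbK_sub X2_mem) (orbK_sub X3_mem) (orbK_sub X4_mem)
    (fun y hy => by rw [Set.mem_singleton_iff.mp hy])
    (JJ_orbK' w Q0 X1 KQ_fixQ) (JJ_orbK' w Q0 X2 KQ_fixQ) (JJ_orbK' w Q0 X3 KQ_fixQ) (JJ_orbK' w Q0 X4 KQ_fixQ)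
    (by rw [Q0_J, X1_J]; decide) (by rw [Q0_J, X2_J]; decide) (by rw [X1_J, X2_J]; decide) (by rw [Q0_J, X3_J]; decide) (by rw [X1_J, X3_J]; decide) (by rw [X2_J, X3_J]; decide) (by rw [Q0_J, X4_J]; decide) (by rw [X1_J, X4_J]; decide) (by rw [X2_J, X4_J]; decide) (by rw [X3_J, X4_J]; decide)
    (by rw [Set.ncard_singleton]) X1_lb X2_lb X3_lb X4_lb (ncard_quartets d0_mem_dodecads)
  exact h.2

/-- A quartet stabiliser has five orbits on the quartets of its dodecad, of sizes 1, 12, 27, 72, 108. -/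
theorem result (d : Finset Cfsg.GolayPt) (hd : d ∈ Cfsg.dodecads) (Q : Finset (Finset Cfsg.GolayPt)) (hQ : Q ∈ Cfsg.quartets d) : ∃ X₁ ∈ Cfsg.quartets d, ∃ X₂ ∈ Cfsg.quartets d, ∃ X₃ ∈ Cfsg.quartets d, ∃ X₄ ∈ Cfsg.quartets d, (MulAction.orbit ↥(MulAction.stabilizer Cfsg.M24 d ⊓ MulAction.stabilizer Cfsg.M24 Q) X₁).ncard = 12 ∧ (MulAction.orbit ↥(MulAction.stabilizer Cfsg.M24 d ⊓ MulAction.stabilizer Cfsg.M24 Q) X₂).ncard = 27 ∧ (MulAction.orbit ↥(MulAction.stabilizer Cfsg.M24 d ⊓ MulAction.stabilizer Cfsg.M24 Q) X₃).ncard = 72 ∧ (MulAction.orbit ↥(MulAction.stabilizer Cfsg.M24 d ⊓ MulAction.stabilizer Cfsg.M24 Q) X₄).ncard = 108 ∧ Cfsg.quartets d = {Q} ∪ MulAction.orbit ↥(MulAction.stabilizer Cfsg.M24 d ⊓ MulAction.stabilizer Cfsg.M24 Q) X₁ ∪ MulAction.orbit ↥(MulAction.stabilizer Cfsg.M24 d ⊓ MulAction.stabilizer Cfsg.M24 Q) X₂ ∪ MulAction.orbit ↥(MulAction.stabilizer Cfsg.M24 d ⊓ MulAction.stabilizer Cfsg.M24 Q) X₃ ∪ MulAction.orbit ↥(MulAction.stabilizer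 Cfsg.M24 d ⊓ MulAction.stabilizer Cfsg.M24 Q) X₄ := by
  obtain ⟨h, hh, rfl, rfl⟩ := exists_smul_d0_Q0 hd hQ
  obtain ⟨b1, b2, b3, b4, b5⟩ := base
  refine ⟨h • X1, smul_mem_quartets hh X1_mem, h • X2, smul_mem_quartets hh X2_mem,
    h • X3, smul_mem_quartets hh X3_mem, h • X4, smul_mem_quartets hh X4_mem, ?_, ?_, ?_, ?_, ?_⟩
  · rw [orbit_stabilizer2_eq_orbK, ncard_orbK_conj2 hh]; exact b1
  · rw [orbit_stabilizer2_eq_orbK, ncard_orbK_conj2 hh]; exact b2
  · rw [orbit_stabilizer2_eq_orbK, ncard_orbK_conj2 hh]; exact b3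
  · rw [orbit_stabilizer2_eq_orbK, ncard_orbK_conj2 hh]; exact b4
  · rw [orbit_stabilizer2_eq_orbK, orbit_stabilizer2_eq_orbK, orbit_stabilizer2_eq_orbK,
      orbit_stabilizer2_eq_orbK, orbK_conj2 hh, orbK_conj2 hh, orbK_conj2 hh, orbK_conj2 hh,
      image_quartets hh, b5, Set.image_union, Set.image_union, Set.image_union, Set.image_union,
      Set.image_singleton]
    rfl

end Cfsg.Agent.S1599
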