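import Cfsg.Statements.S1600
import Cfsg.Agent.Lib.Helper10.M12c
import Cfsg.Agent.Lib.Helper35.M24Base

set_option autoImplicit false
open scoped Pointwise
open Cfsg

namespace Cfsg.Agent.S1600

open MulAction
open Cfsg.Agent.Lib.Helper10
open Cfsg.Agent.Lib.Helper35 (tblPerm TblOK tblPerm_mem_M24 tblPerm_models idx_tblPerm gmask
  gmask_injective applyTbl Models orbit_of_cert checkDFS pushed setOfMask gmask_setOfMask)

/-- The stabiliser of the base dodecad and three of its points. -/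
def T0 : Subgroup (Equiv.Perm GolayPt) :=
  M24 ⊓ stabilizer (Equiv.Perm GolayPt) (fs d0) ⊓ stabilizer (Equiv.Perm GolayPt) (pt 0) ⊓
    stabilizer (Equiv.Perm GolayPt) (pt 1) ⊓ stabilizer (Equiv.Perm GolayPt) (pt 2)

theorem fs_eq_setOfMask (m : ℕ) : fs m = setOfMask m := by
  ext p
  rw [mem_fs]
  simp [setOfMask, Cfsg.Agent.Lib.Helper35.mem_ofMask]

theorem gmask_fs_d0 : gmask (fs d0) = d0 := by
  rw [fs_eq_setOfMask]
  exact gmask_setOfMask d0_lt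

/-- Table of a generator. -/
def t1T : List ℕ := [0, 1, 2, 4, 13, 21, 12, 22, 6, 3, 23, 10, 16, 9, 15, 14, 8, 11, 18, 20, 5, 19, 7, 17]
/-- Inverse table. -/
def t1T' : List ℕ := [0, 1, 2, 9, 3, 20, 8, 22, 16, 13, 11, 17, 6, 4, 15, 14, 12, 23, 18, 21, 19, 5, 7, 10]
theorem t1_ok : TblOK t1T t1T' := by decide +kernel
/-- A generator. -/
def t1 : Equiv.Perm GolayPt := tblPerm t1T t1T' t1_ok
theorem t1_mem : t1 ∈ M24 := tblPerm_mem_M24 _ _ _ (by decide +kernel)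
theorem t1_fixd : t1 • fs d0 = fs d0 := by
  unfold t1
  apply gmask_injective
  rw [tblPerm_models t1T t1T' t1_ok (fs d0), gmask_fs_d0]
  decide +kernel
theorem t1_fixp (i : ℕ) (hi : i < 3) : t1 • pt i = pt i := by
  apply idx_injective
  show idx (tblPerm t1T t1T' t1_ok (pt i)) = idx (pt i)
  rw [idx_tblPerm, idx_pt (by omega)]
  interval_cases i <;> decide +kernel
theorem t1_memT : t1 ∈ T0 :=
  ⟨⟨⟨⟨t1_mem, t1_fixd⟩, t1_fixp 0 (by norm_num)⟩, t1_fixp 1 (by norm_num)⟩, t1_fixp 2 (by norm_num)⟩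

/-- Table of a generator. -/
def t2T : List ℕ := [0, 1, 2, 8, 6, 22, 16, 20, 18, 3, 14, 19, 4, 13, 10, 23, 12, 21, 9, 11, 17, 7, 15, 5]
/-- Inverse table. -/
def t2T' : List ℕ := [0, 1, 2, 9, 12, 23, 4, 21, 3, 18, 14, 19, 16, 13, 10, 22, 6, 20, 8, 11, 7, 17, 5, 15]
theorem t2_ok : TblOK t2T t2T' := by decide +kernel
/-- A generator. -/
def t2 : Equiv.Perm GolayPt := tblPerm t2T t2T' t2_ok
theorem t2_mem : t2 ∈ M24 := tblPerm_mem_M24 _ _ _ (by decide +kernel)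
theorem t2_fixd : t2 • fs d0 = fs d0 := by
  unfold t2
  apply gmask_injective
  rw [tblPerm_models t2T t2T' t2_ok (fs d0), gmask_fs_d0]
  decide +kernel
theorem t2_fixp (i : ℕ) (hi : i < 3) : t2 • pt i = pt i := by
  apply idx_injective
  show idx (tblPerm t2T t2T' t2_ok (pt i)) = idx (pt i)
  rw [idx_tblPerm, idx_pt (by omega)]
  interval_cases i <;> decide +kernel
theorem t2_memT : t2 ∈ T0 :=
  ⟨⟨⟨⟨t2_mem, t2_fixd⟩, t2_fixp 0 (by norm_num)⟩, t2_fixp 1 (by norm_num)⟩, t2_fixp 2 (by norm_num)⟩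

theorem ptModels : List.Forall₂ (fun g act => g ∈ T0 ∧ Models (G := Equiv.Perm GolayPt) idx g act)
    [t1, t2] [fun i => t1T.getD i 0, fun i => t2T.getD i 0] :=
  List.Forall₂.cons ⟨t1_memT, fun x => idx_tblPerm t1T t1T' t1_ok x⟩ (List.Forall₂.cons ⟨t2_memT, fun x => idx_tblPerm t2T t2T' t2_ok x⟩ (List.Forall₂.nil))

/-- The base point outside the base dodecad. -/
def c0 : GolayPt := pt 5
theorem idx_c0 : idx c0 = 5 := idx_pt (by norm_num)
/-- Orbit certificate for the complement of the base dodecad. -/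
def ptCert : List (ℕ × ℕ) := [(0, 21), (0, 19), (0, 20), (1, 17), (0, 11), (0, 10), (0, 23), (2, 0), (1, 14), (0, 15), (2, 0), (2, 0), (2, 0), (2, 0), (2, 0), (2, 0), (2, 0), (1, 7), (0, 22)]
theorem ptCert_ok : checkDFS [fun i => t1T.getD i 0, fun i => t2T.getD i 0] ptCert [idx c0] = true := by
  rw [idx_c0]; decide +kernel
theorem ptCert_complete : ∀ i : Fin 24, d0.testBit i = false → i.val ∈ idx c0 :: pushed 2 ptCert := by
  rw [idx_c0]; decide +kernel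


/-- `T0` is the pointwise stabiliser of three base points in helper10's chain. -/
theorem T0_eq : T0 = fixL K12 (bsL12 3) := rfl

theorem card_T0 : Nat.card T0 = 72 := by
  rw [T0_eq]
  have h3 := chain12_step 3 (by decide)
  have h4 := chain12_step 4 (by decide)
  have h5 : Nat.card (fixL K12 (bsL12 5)) = 1 := by
    rw [fixL12_eq_bot]; exact Subgroup.card_bot
  simp only [Nat.reduceAdd, Nat.reduceSub] at h3 h4
  rw [h3, h4, h5]

/-- Three distinct points as an embedding. -/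
def emb3 (a b c : GolayPt) (hab : a ≠ b) (hac : a ≠ c) (hbc : b ≠ c) : Fin 3 ↪ GolayPt where
  toFun := ![a, b, c]
  inj' := by
    intro i j hij
    fin_cases i <;> fin_cases j <;> simp_all

/-- The code group is transitive on (dodecad, ordered triple of its points). -/
theorem exists_flag3 {d : Finset GolayPt} (hd : d ∈ dodecads) {p q r : GolayPt}
    (hp : p ∈ d) (hq : q ∈ d) (hr : r ∈ d) (hpq : p ≠ q) (hpr : p ≠ r) (hqr : q ≠ r) :
    ∃ h ∈ M24, h • fs d0 = d ∧ h (pt 0) = p ∧ h (pt 1) = q ∧ h (pt 2) = r := by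
  obtain ⟨h', hh', rfl⟩ := exists_smul_d0_eq hd
  have hp' : h'⁻¹ p ∈ fs d0 := Finset.inv_smul_mem_iff.mpr hp
  have hq' : h'⁻¹ q ∈ fs d0 := Finset.inv_smul_mem_iff.mpr hq
  have hr' : h'⁻¹ r ∈ fs d0 := Finset.inv_smul_mem_iff.mpr hr
  have e1 : h'⁻¹ p ≠ h'⁻¹ q := fun e => hpq ((h'⁻¹).injective e)
  have e2 : h'⁻¹ p ≠ h'⁻¹ r := fun e => hpr ((h'⁻¹).injective e)
  have e3 : h'⁻¹ q ≠ h'⁻¹ r := fun e => hqr ((h'⁻¹).injective e)
  have hx : ∀ i, (emb3 _ _ _ e1 e2 e3) i ∈ fs d0 := by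
    intro i
    fin_cases i
    · exact hp'
    · exact hq'
    · exact hr'
  obtain ⟨g, hg, hgx⟩ := multi_trans_generic K12 3 bpt12 (fun c => c ∈ fs d0)
    (fun k hk => level12 k (by omega)) (by
      intro g hg c hc
      have hP := pres_of_mem_K12 (K12.inv_mem hg) c
      rw [mem_fs] at hc ⊢
      rw [hP]; exact hc) (emb3 _ _ _ e1 e2 e3) hx
  refine ⟨h' * g, M24.mul_mem (H_le_M24 hh') ((mem_K12 g).mp hg).1, ?_, ?_, ?_, ?_⟩
  · rw [mul_smul, ((mem_K12 g).mp hg).2]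
  · show h' (g (pt 0)) = p
    have := hgx 0
    have e : g (pt 0) = h'⁻¹ p := this
    rw [e]; simp
  · show h' (g (pt 1)) = q
    have := hgx 1
    have e : g (pt 1) = h'⁻¹ q := this
    rw [e]; simp
  · show h' (g (pt 2)) = r
    have := hgx 2
    have e : g (pt 2) = h'⁻¹ r := this
    rw [e]; simp

/-- Transfer from subgroups of `M24` to subgroups of the ambient symmetric group. -/
theorem map_inf4 {X : Type*} [MulAction (Equiv.Perm GolayPt) X] (K : Subgroup (Equiv.Perm GolayPt))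
    (x : X) (a b c : GolayPt) :
    (stabilizer ↥K x ⊓ stabilizer ↥K a ⊓ stabilizer ↥K b ⊓ stabilizer ↥K c).map K.subtype =
      K ⊓ stabilizer (Equiv.Perm GolayPt) x ⊓ stabilizer (Equiv.Perm GolayPt) a ⊓
        stabilizer (Equiv.Perm GolayPt) b ⊓ stabilizer (Equiv.Perm GolayPt) c := by
  ext g
  simp only [Subgroup.mem_map, Subgroup.mem_inf, mem_stabilizer_iff, Subgroup.coe_subtype]
  constructor
  · rintro ⟨k, ⟨⟨⟨h1, h2⟩, h3⟩, h4⟩, rfl⟩
    exact ⟨⟨⟨⟨k.2, h1⟩, h2⟩, h3⟩, h4⟩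
  · rintro ⟨⟨⟨⟨h0, h1⟩, h2⟩, h3⟩, h4⟩
    exact ⟨⟨g, h0⟩, ⟨⟨⟨h1, h2⟩, h3⟩, h4⟩, rfl⟩

theorem conj_T0 {h : Equiv.Perm GolayPt} (hh : h ∈ M24) :
    M24 ⊓ stabilizer (Equiv.Perm GolayPt) (h • fs d0) ⊓ stabilizer (Equiv.Perm GolayPt) (h (pt 0)) ⊓
        stabilizer (Equiv.Perm GolayPt) (h (pt 1)) ⊓ stabilizer (Equiv.Perm GolayPt) (h (pt 2)) =
      T0.map (MulAut.conj h).toMonoidHom := by
  ext σ
  simp only [Subgroup.mem_map, T0, Subgroup.mem_inf, mem_stabilizer_iff]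
  constructor
  · rintro ⟨⟨⟨⟨h0, h1⟩, h2⟩, h3⟩, h4⟩
    refine ⟨h⁻¹ * σ * h, ⟨⟨⟨⟨M24.mul_mem (M24.mul_mem (M24.inv_mem hh) h0) hh, ?_⟩, ?_⟩, ?_⟩, ?_⟩, ?_⟩
    · rw [mul_smul, mul_smul, h1, inv_smul_smul]
    · show h⁻¹ (σ (h (pt 0))) = pt 0
      have : σ (h (pt 0)) = h (pt 0) := h2
      rw [this]; simp
    · show h⁻¹ (σ (h (pt 1))) = pt 1
      have : σ (h (pt 1)) = h (pt 1) := h3
      rw [this]; simp
    · show h⁻¹ (σ (h (pt 2))) = pt 2
      have : σ (h (pt 2)) = h (pt 2) := h4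
      rw [this]; simp
    · show h * (h⁻¹ * σ * h) * h⁻¹ = σ
      group
  · rintro ⟨k, ⟨⟨⟨⟨h0, h1⟩, h2⟩, h3⟩, h4⟩, rfl⟩
    refine ⟨⟨⟨⟨M24.mul_mem (M24.mul_mem hh h0) (M24.inv_mem hh), ?_⟩, ?_⟩, ?_⟩, ?_⟩
    · show (h * k * h⁻¹) • (h • fs d0) = h • fs d0
      rw [mul_smul, mul_smul, inv_smul_smul, h1]
    · show h (k (h⁻¹ (h (pt 0)))) = h (pt 0)
      have : k (pt 0) = pt 0 := h2
      simp [this]
    · show h (k (h⁻¹ (h (pt 1)))) = h (pt 1)
      have : k (pt 1) = pt 1 := h3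
      simp [this]
    · show h (k (h⁻¹ (h (pt 2)))) = h (pt 2)
      have : k (pt 2) = pt 2 := h4
      simp [this]

/-- Transitivity of `T0` on the complement of the base dodecad. -/
theorem base_trans (x : GolayPt) (hx : x ∉ fs d0) : ∃ t ∈ T0, t c0 = x := by
  have hbit : d0.testBit (idx x) = false := by
    rw [mem_fs] at hx
    simpa using hx
  have hmem := ptCert_complete ⟨idx x, idx_lt _⟩ hbit
  obtain ⟨t, ht, hidx⟩ := orbit_of_cert ptModels c0 ptCert ptCert_ok _ hmem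
  exact ⟨t, ht, idx_injective hidx⟩

/-- The pointwise stabiliser of three points of a dodecad inside the dodecad stabiliser (order 72) is transitive on the complementary dodecad. -/
theorem result (d : Finset Cfsg.GolayPt) (hd : d ∈ Cfsg.dodecads) (p q r : Cfsg.GolayPt) (hp : p ∈ d) (hq : q ∈ d) (hr : r ∈ d) (hpq : p ≠ q) (hpr : p ≠ r) (hqr : q ≠ r) : Nat.card ↥(MulAction.stabilizer Cfsg.M24 d ⊓ MulAction.stabilizer Cfsg.M24 p ⊓ MulAction.stabilizer Cfsg.M24 q ⊓ MulAction.stabilizer Cfsg.M24 r) = 72 ∧ ∀ x ∉ d, ∀ y ∉ d, ∃ g ∈ (MulAction.stabilizer Cfsg.M24 d ⊓ MulAction.stabilizer Cfsg.M24 p ⊓ MulAction.stabilizer Cfsg.M24 q ⊓ MulAction.stabilizer Cfsg.M24 r), ((g : ↥Cfsg.M24) : Equiv.Perm Cfsg.GolayPt) x = y := by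
  obtain ⟨h, hh, rfl, rfl, rfl, rfl⟩ := exists_flag3 hd hp hq hr hpq hpr hqr
  constructor
  · rw [← Subgroup.card_subtype M24, map_inf4]
    have e : ∀ a : GolayPt, stabilizer (Equiv.Perm GolayPt) (h a) =
        stabilizer (Equiv.Perm GolayPt) (h • a) := fun a => rfl
    rw [conj_T0 hh, Subgroup.card_map_of_injective (MulAut.conj h).injective]
    exact card_T0
  · -- every point off the dodecad is the image of `h c0` under the stabiliser
    have key : ∀ x ∉ h • fs d0, ∃ t ∈ T0, (h * t * h⁻¹) (h c0) = x := by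
      intro x hx
      have hx' : h⁻¹ x ∉ fs d0 := fun hmem => hx (Finset.inv_smul_mem_iff.mp hmem)
      obtain ⟨t, ht, htx⟩ := base_trans _ hx'
      refine ⟨t, ht, ?_⟩
      show h (t (h⁻¹ (h c0))) = x
      simp [htx]
    have hmemS : ∀ t ∈ T0, ∃ g ∈ (MulAction.stabilizer Cfsg.M24 (h • fs d0) ⊓
        MulAction.stabilizer Cfsg.M24 (h (pt 0)) ⊓ MulAction.stabilizer Cfsg.M24 (h (pt 1)) ⊓
        MulAction.stabilizer Cfsg.M24 (h (pt 2))),
        ((g : ↥Cfsg.M24) : Equiv.Perm Cfsg.GolayPt) = h * t * h⁻¹ := by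
      intro t ht
      have hmem : h * t * h⁻¹ ∈ T0.map (MulAut.conj h).toMonoidHom := ⟨t, ht, rfl⟩
      rw [← conj_T0 hh] at hmem
      obtain ⟨⟨⟨⟨h0, h1⟩, h2⟩, h3⟩, h4⟩ := hmem
      exact ⟨⟨h * t * h⁻¹, h0⟩, ⟨⟨⟨h1, h2⟩, h3⟩, h4⟩, rfl⟩
    intro x hx y hy
    obtain ⟨t1, ht1, e1⟩ := key x hx
    obtain ⟨t2, ht2, e2⟩ := key y hy
    obtain ⟨g, hg, hge⟩ := hmemS (t2 * t1⁻¹) (T0.mul_mem ht2 (T0.inv_mem ht1))
    refine ⟨g, hg, ?_⟩
    rw [hge, ← e1, ← e2]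
    show h ((t2 * t1⁻¹) (h⁻¹ (h (t1 (h⁻¹ (h c0)))))) = h (t2 (h⁻¹ (h c0)))
    simp

end Cfsg.Agent.S1600
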