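import Cfsg.Statements.S1602
import Cfsg.Agent.Lib.Helper95.ConjIso
import Cfsg.Agent.Lib.Helper95.FixedOctLit

set_option autoImplicit false
open scoped Pointwise
open Cfsg

namespace Cfsg.Agent.S1602

open MulAction Cfsg.Agent.Lib.Helper10 Cfsg.Agent.Lib.Helper35 Cfsg.Agent.Lib.Helper95

/-- the base pair of points off `d0`. -/
def pr0 : Finset GolayPt := {pt 5, pt 7}

/-- the stabiliser of `d0`, `pt 0` and the pair `pr0`. -/
def P5c : Subgroup (Equiv.Perm GolayPt) := K11 ⊓ stabilizer (Equiv.Perm GolayPt) pr0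

theorem mem_P5c (σ : Equiv.Perm GolayPt) : σ ∈ P5c ↔ σ ∈ K11 ∧ σ • pr0 = pr0 := by
  unfold P5c
  rw [Subgroup.mem_inf, mem_stabilizer_iff]

/-! ### The order of `P5c` -/

/-- the pairs of points off `d0`. -/
def pairsOff : Finset (Finset GolayPt) := (Finset.univ \ fs d0).powersetCard 2

theorem card_pairsOff : pairsOff.card = 66 := by
  unfold pairsOff
  rw [Finset.card_powersetCard, Finset.card_sdiff_of_subset (Finset.subset_univ _), card_fs]
  decide +kernel

theorem mem_pairsOff (s : Finset GolayPt) : s ∈ pairsOff ↔ (∀ x ∈ s, x ∉ fs d0) ∧ s.card = 2 := by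
  unfold pairsOff
  rw [Finset.mem_powersetCard]
  constructor
  · rintro ⟨h1, h2⟩
    exact ⟨fun x hx => (Finset.mem_sdiff.mp (h1 hx)).2, h2⟩
  · rintro ⟨h1, h2⟩
    exact ⟨fun x hx => Finset.mem_sdiff.mpr ⟨Finset.mem_univ _, h1 x hx⟩, h2⟩

theorem two_trans11 (x : Fin 2 ↪ GolayPt) (hx : ∀ i, x i ∉ fs d0) :
    ∃ g ∈ K11, ∀ i : Fin 2, g (bpt11 i) = x i := by
  apply multi_trans_generic K11 2 bpt11 (fun c => c ∉ fs d0)
    (fun k hk c hc hne => level11 k (by omega) c hc hne) _ x hx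
  intro g hg c hc
  have hP := pres_of_mem_K12 (K12.inv_mem ((mem_K11 g).mp hg).1) c
  rw [mem_fs] at hc ⊢
  rw [hP]; exact hc

theorem K11_off {σ : Equiv.Perm GolayPt} (hσ : σ ∈ K11) {x : GolayPt} (hx : x ∉ fs d0) :
    σ x ∉ fs d0 := by
  have hP := pres_of_mem_K12 ((mem_K11 σ).mp hσ).1 x
  rw [mem_fs] at hx ⊢
  rw [hP]; exact hx

theorem pr0_mem : pr0 ∈ pairsOff := by
  rw [mem_pairsOff]
  unfold pr0
  constructor
  · intro x hx
    simp only [Finset.mem_insert, Finset.mem_singleton] at hx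
    rcases hx with rfl | rfl
    · rw [mem_fs]; decide
    · rw [mem_fs]; decide
  · decide

theorem card_P5c : Nat.card P5c = 120 := by
  have h := card_eq_orbit_mul' K11 pr0 (↑pairsOff : Set (Finset GolayPt)) (by
    intro σ hσ
    rw [Finset.mem_coe, mem_pairsOff]
    constructor
    · intro x hx
      obtain ⟨y, hy, rfl⟩ := Finset.mem_smul_finset.mp hx
      exact K11_off hσ ((mem_pairsOff _).mp pr0_mem |>.1 y hy)
    · rw [Finset.card_smul_finset]
      exact ((mem_pairsOff _).mp pr0_mem).2) (by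
    intro s hs
    rw [Finset.mem_coe, mem_pairsOff] at hs
    obtain ⟨a, b, hab, rfl⟩ := Finset.card_eq_two.mp hs.2
    let f : Fin 2 → GolayPt := ![a, b]
    have hf : Function.Injective f := by
      intro i j hij
      fin_cases i <;> fin_cases j <;>
        first | rfl | (exfalso; revert hij; simp [f, hab, Ne.symm hab])
    obtain ⟨g, hg, e⟩ := two_trans11 ⟨f, hf⟩ (by
      intro i
      fin_cases i
      · exact hs.1 a (by simp)
      · exact hs.1 b (by simp))
    refine ⟨g, hg, ?_⟩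
    have e0 : g (pt 5) = a := e 0
    have e1 : g (pt 7) = b := e 1
    unfold pr0
    rw [Finset.smul_finset_insert, Finset.smul_finset_singleton]
    show {g (pt 5), g (pt 7)} = ({a, b} : Finset GolayPt)
    rw [e0, e1])
  rw [card_K11, Set.ncard_coe_finset, card_pairsOff] at h
  unfold P5c
  omega

/-! ### The invariant octad and hexad -/

/-- the mask of the octad through `pt 0`, `pt 5`, `pt 7` meeting `d0` in six points. -/
def o0 : ℕ := 262637

/-- the mask of the five further points of `d0` on that octad. -/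
def m5 : ℕ := 262476

set_option maxRecDepth 100000 in
theorem o0_unique : octLit.all (fun m => !(m.testBit 0 && m.testBit 5 && m.testBit 7 &&
    popc 24 (m &&& d0) == 6) || m == o0) = true := by
  decide +kernel

theorem fs_o0_mem : fs o0 ∈ octads :=
  fs_mem_octads (by decide) (by decide +kernel) (by decide +kernel)

theorem pr0_sub : pr0 ⊆ fs o0 := by
  intro x hx
  unfold pr0 at hx
  simp only [Finset.mem_insert, Finset.mem_singleton] at hx
  rcases hx with rfl | rfl
  · rw [mem_fs]; decide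
  · rw [mem_fs]; decide

theorem smul_o0 {σ : Equiv.Perm GolayPt} (hσ : σ ∈ P5c) : σ • fs o0 = fs o0 := by
  obtain ⟨hK, hpr⟩ := (mem_P5c σ).mp hσ
  obtain ⟨hK12, h0⟩ := (mem_K11 σ).mp hK
  obtain ⟨hM, hd⟩ := (mem_K12 σ).mp hK12
  have hoct : σ • fs o0 ∈ octads := Cfsg.Agent.Lib.Helper35.smul_mem_octads hM fs_o0_mem
  have hlit : gmask (σ • fs o0) ∈ octLit := by
    rw [← codeL8_eq]
    exact (mem_wordsOfWeight_gmask 8 _).mp hoct
  have hall := List.all_eq_true.mp o0_unique _ hlit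
  have tb : ∀ i : ℕ, i < 24 → pt i ∈ σ • fs o0 → (gmask (σ • fs o0)).testBit i = true := by
    intro i hi hmem
    have h := testBit_maskOf_idx idx_injective (σ • fs o0) (pt i)
    rw [idx_pt hi] at h
    show (maskOf idx (σ • fs o0)).testBit i = true
    rw [h]
    simpa using hmem
  have b0 : (gmask (σ • fs o0)).testBit 0 = true := by
    apply tb 0 (by omega)
    rw [← h0]
    exact Finset.smul_mem_smul_finset (by rw [mem_fs]; decide)
  have sub : pr0 ⊆ σ • fs o0 := by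
    rw [← hpr]
    exact Finset.smul_finset_subset_smul_finset pr0_sub
  have b5 : (gmask (σ • fs o0)).testBit 5 = true :=
    tb 5 (by omega) (sub (by unfold pr0; simp))
  have b7 : (gmask (σ • fs o0)).testBit 7 = true :=
    tb 7 (by omega) (sub (by unfold pr0; simp))
  have bp : popc 24 (gmask (σ • fs o0) &&& d0) = 6 := by
    have h1 := card_inter_eq_popc (σ • fs o0) (fs d0)
    rw [gmask_fs d0_lt] at h1
    rw [← h1]
    have h2 : σ • fs o0 ∩ fs d0 = σ • (fs o0 ∩ fs d0) := by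
      rw [Finset.smul_finset_inter, hd]
    rw [h2, Finset.card_smul_finset, fs_inter, card_fs]
    decide +kernel
  rw [b0, b5, b7, bp] at hall
  have h3 : gmask (σ • fs o0) = o0 := by simpa using hall
  apply gmask_injective
  rw [h3, gmask_fs (by decide)]

theorem fs_m5_eq : fs m5 = (fs o0 ∩ fs d0) \ fs 1 := by
  have h1 : fs o0 ∩ fs d0 = fs (o0 &&& d0) := fs_inter _ _
  rw [h1]
  ext p
  simp only [Finset.mem_sdiff, mem_fs]
  revert p
  decide +kernel

theorem smul_m5 {σ : Equiv.Perm GolayPt} (hσ : σ ∈ P5c) : σ • fs m5 = fs m5 := by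
  obtain ⟨hK, hpr⟩ := (mem_P5c σ).mp hσ
  obtain ⟨hK12, h0⟩ := (mem_K11 σ).mp hK
  obtain ⟨hM, hd⟩ := (mem_K12 σ).mp hK12
  have h1 : σ • fs 1 = fs 1 := by
    have e : fs 1 = {pt 0} := by
      ext p
      simp only [mem_fs, Finset.mem_singleton]
      revert p
      decide +kernel
    rw [e, Finset.smul_finset_singleton]
    show {σ (pt 0)} = ({pt 0} : Finset GolayPt)
    rw [h0]
  rw [fs_m5_eq, Finset.smul_finset_sdiff, Finset.smul_finset_inter, smul_o0 hσ, hd, h1]

theorem mem_m5_iff {σ : Equiv.Perm GolayPt} (hσ : σ ∈ P5c) (x : GolayPt) :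
    σ x ∈ fs m5 ↔ x ∈ fs m5 := by
  have h := smul_m5 hσ
  constructor
  · intro hx
    have : σ x ∈ σ • fs m5 := by rw [h]; exact hx
    exact Finset.smul_mem_smul_finset_iff σ |>.mp this
  · intro hx
    rw [← h]
    exact Finset.smul_mem_smul_finset hx

/-- the action of `P5c` on the five points. -/
noncomputable def act5 : ↥P5c →* Equiv.Perm {x // x ∈ fs m5} :=
  MonoidHom.mk' (fun σ => Equiv.Perm.subtypePerm σ.1 (mem_m5_iff σ.2)) (by
    intro a b
    rfl)

theorem m5_sub : fs m5 ⊆ fs d0 := by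
  intro p
  simp only [mem_fs]
  revert p
  decide +kernel

theorem card_m5 : (fs m5).card = 5 := by
  rw [card_fs]; decide +kernel

theorem act5_injective : Function.Injective act5 := by
  rw [injective_iff_map_eq_one]
  intro σ hσ
  apply Subtype.ext
  show σ.1 = 1
  obtain ⟨hK, -⟩ := (mem_P5c σ.1).mp σ.2
  have hK12 := ((mem_K11 σ.1).mp hK).1
  have e : Fin 5 ≃ {x // x ∈ fs m5} := (Finset.equivFinOfCardEq card_m5).symm
  let x : Fin 5 ↪ GolayPt := ⟨fun i => (e i).1, fun i j h => e.injective (Subtype.ext h)⟩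
  apply eq_one_of_fixes_five hK12 x (fun i => m5_sub (e i).2)
  intro i
  have h1 : act5 σ (e i) = e i := by rw [hσ]; rfl
  exact congrArg Subtype.val h1

theorem act5_bijective : Function.Bijective act5 := by
  rw [Nat.bijective_iff_injective_and_card]
  refine ⟨act5_injective, ?_⟩
  rw [card_P5c, Nat.card_perm, Nat.card_eq_fintype_card, Fintype.card_coe, card_m5]
  rfl

theorem P5c_le : P5c ≤ M24 := fun σ hσ =>
  ((mem_K12 σ).mp ((mem_K11 σ).mp ((mem_P5c σ).mp hσ).1).1).1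

/-- the base group is the symmetric group of degree five. -/
theorem P5c_iso : Nonempty (↥P5c ≃* Equiv.Perm (Fin 5)) := by
  have e1 : ↥P5c ≃* Equiv.Perm {x // x ∈ fs m5} := MulEquiv.ofBijective act5 act5_bijective
  have e2 : {x // x ∈ fs m5} ≃ Fin 5 := Finset.equivFinOfCardEq card_m5
  exact ⟨e1.trans e2.permCongrHom⟩

/-- For a dodecad d, a point p of d and two points q, q' outside d, the subgroup fixing d, p and the pair {q, q'} is S5. -/
theorem result (d : Finset Cfsg.GolayPt) (hd : d ∈ Cfsg.dodecads) (p q q' : Cfsg.GolayPt) (hp : p ∈ d) (hq : q ∉ d) (hq' : q' ∉ d) (hqq' : q ≠ q') : Nonempty (↥(MulAction.stabilizer Cfsg.M24 d ⊓ MulAction.stabilizer Cfsg.M24 p ⊓ MulAction.stabilizer Cfsg.M24 ({q, q'} : Finset Cfsg.GolayPt)) ≃* Equiv.Perm (Fin 5)) := by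
  obtain ⟨h, hh, rfl, rfl⟩ := exists_base_dp hd hp
  have mem : ∀ z, z ∉ h • fs d0 → h⁻¹ z ∉ fs d0 := fun z hz hz' => by
    apply hz
    have := Finset.smul_mem_smul_finset (a := h) hz'
    simpa using this
  let f : Fin 2 → GolayPt := ![h⁻¹ q, h⁻¹ q']
  have hf : Function.Injective f := by
    intro i j hij
    fin_cases i <;> fin_cases j <;>
      first | rfl | (exfalso; revert hij; simp [f, hqq', Ne.symm hqq'])
  obtain ⟨k, hk, e⟩ := two_trans11 ⟨f, hf⟩ (by
    intro i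
    fin_cases i
    · exact mem q hq
    · exact mem q' hq')
  obtain ⟨hk12, hk0⟩ := (mem_K11 k).mp hk
  obtain ⟨hkM, hkd⟩ := (mem_K12 k).mp hk12
  have e0 : k (pt 5) = h⁻¹ q := e 0
  have e1 : k (pt 7) = h⁻¹ q' := e 1
  set g := h * k with hg
  have hgM : g ∈ M24 := M24.mul_mem hh hkM
  have gd : g • fs d0 = h • fs d0 := by rw [hg, mul_smul, hkd]
  have g0 : g (pt 0) = h (pt 0) := by
    show h (k (pt 0)) = _
    rw [hk0]
  have gpr : g • pr0 = ({q, q'} : Finset GolayPt) := by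
    unfold pr0
    rw [Finset.smul_finset_insert, Finset.smul_finset_singleton]
    show {h (k (pt 5)), h (k (pt 7))} = ({q, q'} : Finset GolayPt)
    rw [e0, e1]
    simp
  rw [← gd, ← g0, ← gpr]
  have hAB : ∀ σ (hσ : σ ∈ M24), (⟨σ, hσ⟩ : ↥M24) ∈
      (MulAction.stabilizer Cfsg.M24 (g • fs d0) ⊓ MulAction.stabilizer Cfsg.M24 (g (pt 0)) ⊓
        MulAction.stabilizer Cfsg.M24 (g • pr0)) ↔ g⁻¹ * σ * g ∈ P5c := by
    intro σ hσ
    have lhs : (⟨σ, hσ⟩ : ↥M24) ∈
      (MulAction.stabilizer Cfsg.M24 (g • fs d0) ⊓ MulAction.stabilizer Cfsg.M24 (g (pt 0)) ⊓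
        MulAction.stabilizer Cfsg.M24 (g • pr0)) ↔
        (σ • (g • fs d0) = g • fs d0 ∧ σ (g (pt 0)) = g (pt 0)) ∧ σ • (g • pr0) = g • pr0 := by
      simp only [Subgroup.mem_inf, MulAction.mem_stabilizer_iff]
      rfl
    rw [lhs, mem_P5c, mem_K11, mem_K12, conj_smul_iff, conj_smul_iff]
    have k2 : (g⁻¹ * σ * g) (pt 0) = pt 0 ↔ σ (g (pt 0)) = g (pt 0) := by
      show g⁻¹ (σ (g (pt 0))) = pt 0 ↔ _
      rw [Equiv.Perm.inv_eq_iff_eq]
    rw [k2]
    constructor
    · rintro ⟨⟨h1, h2⟩, h3⟩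
      exact ⟨⟨⟨M24.mul_mem (M24.mul_mem (M24.inv_mem hgM) hσ) hgM, h1⟩, h2⟩, h3⟩
    · rintro ⟨⟨⟨-, h1⟩, h2⟩, h3⟩
      exact ⟨⟨h1, h2⟩, h3⟩
  obtain ⟨φ0⟩ := P5c_iso
  exact ⟨(conjIso g hgM P5c _ hAB P5c_le).symm.trans φ0⟩

end Cfsg.Agent.S1602
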