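import Cfsg.Statements.S1603
import Cfsg.Agent.Lib.Helper95.M11Cent
import Cfsg.Agent.Lib.Helper95.ConjIso

set_option autoImplicit false
open scoped Pointwise
open Cfsg

namespace Cfsg.Agent.S1603

open MulAction Cfsg.Agent.Lib.Helper10 Cfsg.Agent.Lib.Helper95

/-- every involution of `K11` is conjugate in `K11` to `t0c`. -/
theorem invol_conj_t0 {x0 : Equiv.Perm GolayPt} (hx : x0 ∈ K11) (h2 : x0 * x0 = 1) (h1 : x0 ≠ 1) :
    ∃ g ∈ K11, g * t0c * g⁻¹ = x0 := by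
  obtain ⟨hK12, hx0⟩ := (mem_K11 x0).mp hx
  obtain ⟨hM, hd⟩ := (mem_K12 x0).mp hK12
  have inv2 : ∀ p, x0 (x0 p) = p := fun p => by
    have := DFunLike.congr_fun h2 p
    rwa [Equiv.Perm.mul_apply] at this
  -- a first moved point
  have ex1 : ∃ a ∈ fs d0, x0 a ≠ a := by
    by_contra hcon
    push Not at hcon
    apply h1
    exact eq_one_of_fixes_subset fs_d0_mem hM hd (fs d0) (Finset.Subset.refl _)
      (by rw [card_fs]; decide +kernel) hcon
  obtain ⟨a, ha, hxa⟩ := ex1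
  have hb : x0 a ∈ fs d0 := K12_mem_d0 hK12 ha
  -- a second moved point
  have ex2 : ∃ c ∈ fs d0, c ≠ a ∧ c ≠ x0 a ∧ x0 c ≠ c := by
    by_contra hcon
    push Not at hcon
    apply h1
    apply eq_one_of_fixes_subset fs_d0_mem hM hd ((fs d0).erase a |>.erase (x0 a))
      (fun p hp => Finset.mem_of_mem_erase (Finset.mem_of_mem_erase hp))
    · have c1 : ((fs d0).erase a).card = 11 := by
        rw [Finset.card_erase_of_mem ha, card_fs]; decide +kernel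
      have c2 : (((fs d0).erase a).erase (x0 a)).card = 10 := by
        rw [Finset.card_erase_of_mem (Finset.mem_erase.mpr ⟨hxa, hb⟩), c1]
      omega
    · intro p hp
      have hp1 := Finset.mem_erase.mp hp
      have hp2 := Finset.mem_erase.mp hp1.2
      exact hcon p hp2.2 hp2.1 hp1.1
  obtain ⟨c, hc, hca, hcb, hxc⟩ := ex2
  have he : x0 c ∈ fs d0 := K12_mem_d0 hK12 hc
  have fix0 : ∀ p, x0 p ≠ p → p ≠ pt 0 := fun p hp h => hp (by rw [h, hx0])
  have fix0' : ∀ p, x0 p ≠ p → x0 p ≠ pt 0 := fun p hp h => by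
    apply hp
    have := inv2 p
    rw [h, hx0] at this
    rw [← this, hx0]
  let f : Fin 5 → GolayPt := ![pt 0, a, x0 a, c, x0 c]
  have hf : Function.Injective f := by
    have n1 := fix0 a hxa
    have n2 := fix0' a hxa
    have n3 := fix0 c hxc
    have n4 := fix0' c hxc
    have n5 : x0 c ≠ a := fun h => hcb (by rw [← h, inv2])
    have n6 : x0 c ≠ x0 a := fun h => hca (x0.injective h)
    intro i j hij
    fin_cases i <;> fin_cases j <;> first | rfl | (exfalso; revert hij; simp [f, n1, n2, n3, n4, n5, n6, hxa, hxc, hca, hcb, Ne.symm n1, Ne.symm n2, Ne.symm n3, Ne.symm n4, Ne.symm n5, Ne.symm n6, Ne.symm hxa, Ne.symm hxc, Ne.symm hca, Ne.symm hcb])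
  obtain ⟨g, hg, e⟩ := five_trans12 ⟨f, hf⟩ (by
    intro i
    fin_cases i
    · show pt 0 ∈ fs d0
      rw [mem_fs]; decide
    · exact ha
    · exact hb
    · exact hc
    · exact he)
  have g0 : g (pt 0) = pt 0 := e 0
  have g1 : g (pt 1) = a := e 1
  have g2 : g (pt 2) = x0 a := e 2
  have g3 : g (pt 3) = c := e 3
  have g4 : g (pt 4) = x0 c := e 4
  have hgK11 : g ∈ K11 := (mem_K11 g).mpr ⟨hg, g0⟩
  refine ⟨g, hgK11, ?_⟩
  obtain ⟨t0, t1, t2, t3, t4⟩ := t0c_base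
  have key : g * t0c = x0 * g := by
    apply eq_of_base12 (K12.mul_mem hg t0c_mem) (K12.mul_mem hK12 hg)
    intro i hi
    rw [Equiv.Perm.mul_apply, Equiv.Perm.mul_apply]
    interval_cases i
    · rw [t0, g0, hx0]
    · rw [t1, g2, g1]
    · rw [t2, g1, g2, inv2]
    · rw [t3, g4, g3]
    · rw [t4, g3, g4, inv2]
  rw [key]
  group

theorem conj_comm_iff {G : Type*} [Group G] (γ t ξ σ : G) (h : γ * t * γ⁻¹ = ξ) :
    γ⁻¹ * σ * γ * t = t * (γ⁻¹ * σ * γ) ↔ σ * ξ = ξ * σ := by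
  rw [← h]
  constructor
  · intro hc
    have : σ * (γ * t * γ⁻¹) = γ * (γ⁻¹ * σ * γ * t) * γ⁻¹ := by group
    rw [this, hc]; group
  · intro hc
    have : γ⁻¹ * σ * γ * t = γ⁻¹ * (σ * (γ * t * γ⁻¹)) * γ := by group
    rw [this, hc]; group

/-- moving the base configuration (dodecad, point, involution) to a given one. -/
theorem exists_gamma {d : Finset GolayPt} (hd : d ∈ dodecads) {p : GolayPt} (hp : p ∈ d)
    {ξ : Equiv.Perm GolayPt} (ξM : ξ ∈ M24) (ξd : ξ • d = d) (ξp : ξ p = p) (ξ2 : ξ * ξ = 1)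
    (ξ1 : ξ ≠ 1) :
    ∃ γ ∈ M24, γ • fs d0 = d ∧ γ (pt 0) = p ∧ γ * t0c * γ⁻¹ = ξ := by
  obtain ⟨h, hh, rfl, rfl⟩ := exists_base_dp hd hp
  have x0K : h⁻¹ * ξ * h ∈ K11 := by
    rw [mem_K11, mem_K12]
    refine ⟨⟨M24.mul_mem (M24.mul_mem (M24.inv_mem hh) ξM) hh, ?_⟩, ?_⟩
    · rw [conj_smul_iff]; exact ξd
    · show h⁻¹ (ξ (h (pt 0))) = pt 0
      rw [ξp]; simp
  have x02 : (h⁻¹ * ξ * h) * (h⁻¹ * ξ * h) = 1 := by
    have : (h⁻¹ * ξ * h) * (h⁻¹ * ξ * h) = h⁻¹ * (ξ * ξ) * h := by group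
    rw [this, ξ2]; group
  have x01 : h⁻¹ * ξ * h ≠ 1 := by
    intro h1
    apply ξ1
    have : ξ = h * (h⁻¹ * ξ * h) * h⁻¹ := by group
    rw [this, h1]; group
  obtain ⟨g, hgK, hgx⟩ := invol_conj_t0 x0K x02 x01
  obtain ⟨hg12, hg0⟩ := (mem_K11 g).mp hgK
  obtain ⟨hgM, hgd⟩ := (mem_K12 g).mp hg12
  refine ⟨h * g, M24.mul_mem hh hgM, ?_, ?_, ?_⟩
  · rw [mul_smul, hgd]
  · show h (g (pt 0)) = _
    rw [hg0]
  · have : h * g * t0c * (h * g)⁻¹ = h * (g * t0c * g⁻¹) * h⁻¹ := by group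
    rw [this, hgx]; group

theorem mem_C0c_conj {d : Finset GolayPt} {p : GolayPt} {γ ξ : Equiv.Perm GolayPt}
    (γd : γ • fs d0 = d) (γ0 : γ (pt 0) = p) (γt : γ * t0c * γ⁻¹ = ξ) (σ : Equiv.Perm GolayPt) :
    γ⁻¹ * σ * γ ∈ C0c ↔ (γ⁻¹ * σ * γ ∈ M24 ∧ σ • d = d) ∧ σ p = p ∧ σ * ξ = ξ * σ := by
  rw [mem_C0c, mem_K11, mem_K12, conj_smul_iff, γd, conj_comm_iff γ t0c ξ σ γt]
  have k2 : (γ⁻¹ * σ * γ) (pt 0) = pt 0 ↔ σ p = p := by
    show γ⁻¹ (σ (γ (pt 0))) = pt 0 ↔ _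
    rw [Equiv.Perm.inv_eq_iff_eq, γ0]
  rw [k2, and_assoc]

/-- In the joint stabiliser of a dodecad and one of its points, the centraliser of an involution is GL(2,3). -/
theorem result (d : Finset Cfsg.GolayPt) (hd : d ∈ Cfsg.dodecads) (p : Cfsg.GolayPt) (hp : p ∈ d) (x : ↥(MulAction.stabilizer Cfsg.M24 d ⊓ MulAction.stabilizer Cfsg.M24 p)) (hx : orderOf x = 2) : Nonempty (↥(Subgroup.centralizer ({x} : Set ↥(MulAction.stabilizer Cfsg.M24 d ⊓ MulAction.stabilizer Cfsg.M24 p))) ≃* GL (Fin 2) (ZMod 3)) := by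
  have ξM : x.1.1 ∈ M24 := x.1.2
  have ξmem := x.2
  rw [Subgroup.mem_inf, MulAction.mem_stabilizer_iff, MulAction.mem_stabilizer_iff] at ξmem
  have ξd : x.1.1 • d = d := ξmem.1
  have ξp : x.1.1 p = p := ξmem.2
  have ξ2 : x.1.1 * x.1.1 = 1 := by
    have h1 : x ^ 2 = 1 := by rw [← hx]; exact pow_orderOf_eq_one x
    rw [sq] at h1
    exact congrArg (fun y : ↥(MulAction.stabilizer Cfsg.M24 d ⊓
        MulAction.stabilizer Cfsg.M24 p) => y.1.1) h1
  have ξ1 : x.1.1 ≠ 1 := by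
    intro h1
    have : x = 1 := Subtype.ext (Subtype.ext h1)
    rw [this, orderOf_one] at hx
    omega
  obtain ⟨γ, γM, γd, γ0, γt⟩ := exists_gamma hd hp ξM ξd ξp ξ2 ξ1
  obtain ⟨φ0⟩ := C0c_iso
  -- the embedding of the centraliser in the permutation group
  let ι : ↥(Subgroup.centralizer ({x} : Set ↥(MulAction.stabilizer Cfsg.M24 d ⊓
      MulAction.stabilizer Cfsg.M24 p))) →* Equiv.Perm GolayPt :=
    (M24.subtype.comp (Subgroup.subtype _)).comp (Subgroup.subtype _)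
  have hι : Function.Injective ι := by
    intro a b hab
    exact Subtype.ext (Subtype.ext (Subtype.ext hab))
  have hr : ∀ σ : Equiv.Perm GolayPt, σ ∈ ι.range ↔ γ⁻¹ * σ * γ ∈ C0c := by
    intro σ
    rw [mem_C0c_conj γd γ0 γt σ]
    constructor
    · rintro ⟨y, hy⟩
      have hy' : y.1.1.1 = σ := hy
      have ymem := y.1.2
      rw [Subgroup.mem_inf, MulAction.mem_stabilizer_iff, MulAction.mem_stabilizer_iff] at ymem
      have ycomm := Subgroup.mem_centralizer_iff.mp y.2 x rfl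
      have yM : y.1.1.1 ∈ M24 := y.1.1.2
      have e1 : y.1.1.1 • d = d := ymem.1
      have e2 : y.1.1.1 p = p := ymem.2
      have e3 : x.1.1 * y.1.1.1 = y.1.1.1 * x.1.1 :=
        congrArg (fun z : ↥(MulAction.stabilizer Cfsg.M24 d ⊓
          MulAction.stabilizer Cfsg.M24 p) => z.1.1) ycomm
      rw [← hy']
      exact ⟨⟨M24.mul_mem (M24.mul_mem (M24.inv_mem γM) yM) γM, e1⟩, e2, e3.symm⟩
    · rintro ⟨⟨hm, h1⟩, h2, h3⟩
      have σM : σ ∈ M24 := by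
        have : σ = γ * (γ⁻¹ * σ * γ) * γ⁻¹ := by group
        rw [this]
        exact M24.mul_mem (M24.mul_mem γM hm) (M24.inv_mem γM)
      have σH : (⟨σ, σM⟩ : ↥M24) ∈ (MulAction.stabilizer Cfsg.M24 d ⊓
          MulAction.stabilizer Cfsg.M24 p) := by
        rw [Subgroup.mem_inf, MulAction.mem_stabilizer_iff, MulAction.mem_stabilizer_iff]
        exact ⟨h1, h2⟩
      refine ⟨⟨⟨⟨σ, σM⟩, σH⟩, ?_⟩, rfl⟩
      rw [Subgroup.mem_centralizer_iff]
      intro z hz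
      rw [Set.mem_singleton_iff] at hz
      rw [hz]
      apply Subtype.ext
      apply Subtype.ext
      exact h3.symm
  obtain ⟨φ1⟩ := nonempty_iso_of_range C0c ι hι γ hr
  exact ⟨φ1.symm.trans φ0⟩

end Cfsg.Agent.S1603
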