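import Cfsg.Statements.S1604
import Cfsg.Agent.Lib.Helper35.OctadStab
import Cfsg.Agent.Lib.Helper36.M24Tools

set_option autoImplicit false
open scoped Pointwise
open Cfsg

namespace Cfsg.Agent.S1604

open Cfsg.Agent.Lib.Helper10 (idx pt idx_pt idx_lt idx_injective enc enc_mod enc_lt pt_idx)
open Cfsg.Agent.Lib.Helper35
open Cfsg.Agent.Lib.Helper36

/-- The first base point. -/
def p0 : GolayPt := pt 0
theorem idx_p0 : idx p0 = 0 := idx_pt (by norm_num)
/-- The second base point. -/
def q0 : GolayPt := pt 1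
theorem idx_q0 : idx q0 = 1 := idx_pt (by norm_num)
theorem p0_ne_q0 : p0 ≠ q0 := by
  intro h
  have := congrArg idx h
  rw [idx_p0, idx_q0] at this
  exact absurd this (by decide)

/-- The stabiliser of the two base points. -/
def L0 : Subgroup (Equiv.Perm GolayPt) :=
  M24 ⊓ MulAction.stabilizer (Equiv.Perm GolayPt) p0 ⊓ MulAction.stabilizer (Equiv.Perm GolayPt) q0
theorem L0_le : L0 ≤ M24 := inf_le_left.trans inf_le_left
/-- The stabiliser of the two base points and the base octad. -/
def K0 : Subgroup (Equiv.Perm GolayPt) := L0 ⊓ MulAction.stabilizer (Equiv.Perm GolayPt) x0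
theorem K0_le : K0 ≤ M24 := inf_le_left.trans L0_le

/-- Table of a generator. -/
def l1T : List ℕ := [0, 1, 20, 4, 7, 16, 19, 21, 10, 11, 22, 23, 9, 6, 18, 13, 17, 12, 2, 5, 8, 14, 3, 15]
/-- Inverse table. -/
def l1T' : List ℕ := [0, 1, 18, 22, 3, 19, 13, 4, 20, 12, 8, 9, 17, 15, 21, 23, 5, 16, 14, 6, 2, 7, 10, 11]
theorem l1_ok : TblOK l1T l1T' := by decide +kernel
/-- A generator. -/
def l1 : Equiv.Perm GolayPt := tblPerm l1T l1T' l1_ok
theorem l1_mem : l1 ∈ M24 := tblPerm_mem_M24 _ _ _ (by decide +kernel)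
theorem l1_models : Models gmask l1 (applyTbl l1T) := tblPerm_models _ _ _
theorem l1_fixp : l1 • p0 = p0 := by
  apply idx_injective
  show idx (tblPerm l1T l1T' l1_ok p0) = idx p0
  rw [idx_tblPerm, idx_p0]
  decide +kernel
theorem l1_fixq : l1 • q0 = q0 := by
  apply idx_injective
  show idx (tblPerm l1T l1T' l1_ok q0) = idx q0
  rw [idx_tblPerm, idx_q0]
  decide +kernel
theorem l1_memL : l1 ∈ L0 := ⟨⟨l1_mem, l1_fixp⟩, l1_fixq⟩

/-- Table of a generator. -/
def l2T : List ℕ := [0, 1, 15, 7, 23, 20, 14, 4, 11, 2, 8, 18, 5, 21, 6, 19, 12, 17, 10, 9, 16, 13, 22, 3]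
/-- Inverse table. -/
def l2T' : List ℕ := [0, 1, 9, 23, 7, 12, 14, 3, 10, 19, 18, 8, 16, 21, 6, 2, 20, 17, 11, 15, 5, 13, 22, 4]
theorem l2_ok : TblOK l2T l2T' := by decide +kernel
/-- A generator. -/
def l2 : Equiv.Perm GolayPt := tblPerm l2T l2T' l2_ok
theorem l2_mem : l2 ∈ M24 := tblPerm_mem_M24 _ _ _ (by decide +kernel)
theorem l2_models : Models gmask l2 (applyTbl l2T) := tblPerm_models _ _ _
theorem l2_fixp : l2 • p0 = p0 := by
  apply idx_injective
  show idx (tblPerm l2T l2T' l2_ok p0) = idx p0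
  rw [idx_tblPerm, idx_p0]
  decide +kernel
theorem l2_fixq : l2 • q0 = q0 := by
  apply idx_injective
  show idx (tblPerm l2T l2T' l2_ok q0) = idx q0
  rw [idx_tblPerm, idx_q0]
  decide +kernel
theorem l2_memL : l2 ∈ L0 := ⟨⟨l2_mem, l2_fixp⟩, l2_fixq⟩

/-- Table of a generator. -/
def k1T : List ℕ := [0, 1, 3, 10, 2, 11, 14, 12, 23, 22, 4, 16, 7, 21, 5, 8, 13, 15, 9, 6, 17, 19, 20, 18]
/-- Inverse table. -/
def k1T' : List ℕ := [0, 1, 4, 2, 10, 14, 19, 12, 15, 18, 3, 5, 7, 16, 6, 17, 11, 20, 23, 21, 22, 13, 9, 8]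
theorem k1_ok : TblOK k1T k1T' := by decide +kernel
/-- A generator. -/
def k1 : Equiv.Perm GolayPt := tblPerm k1T k1T' k1_ok
theorem k1_mem : k1 ∈ M24 := tblPerm_mem_M24 _ _ _ (by decide +kernel)
theorem k1_models : Models gmask k1 (applyTbl k1T) := tblPerm_models _ _ _
theorem k1_fixp : k1 • p0 = p0 := by
  apply idx_injective
  show idx (tblPerm k1T k1T' k1_ok p0) = idx p0
  rw [idx_tblPerm, idx_p0]
  decide +kernel
theorem k1_fixq : k1 • q0 = q0 := by
  apply idx_injective
  show idx (tblPerm k1T k1T' k1_ok q0) = idx q0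
  rw [idx_tblPerm, idx_q0]
  decide +kernel
theorem k1_memL : k1 ∈ L0 := ⟨⟨k1_mem, k1_fixp⟩, k1_fixq⟩
theorem k1_fix : k1 • x0 = x0 := by
  apply gmask_injective
  rw [k1_models x0, gmask_x0]
  decide +kernel
theorem k1_memK : k1 ∈ K0 := ⟨k1_memL, k1_fix⟩

/-- Table of a generator. -/
def k2T : List ℕ := [0, 1, 12, 10, 2, 16, 17, 7, 20, 14, 4, 8, 3, 13, 19, 11, 6, 23, 9, 21, 22, 18, 15, 5]
/-- Inverse table. -/
def k2T' : List ℕ := [0, 1, 4, 12, 10, 23, 16, 7, 11, 18, 3, 15, 2, 13, 9, 22, 5, 6, 21, 14, 8, 19, 20, 17]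
theorem k2_ok : TblOK k2T k2T' := by decide +kernel
/-- A generator. -/
def k2 : Equiv.Perm GolayPt := tblPerm k2T k2T' k2_ok
theorem k2_mem : k2 ∈ M24 := tblPerm_mem_M24 _ _ _ (by decide +kernel)
theorem k2_models : Models gmask k2 (applyTbl k2T) := tblPerm_models _ _ _
theorem k2_fixp : k2 • p0 = p0 := by
  apply idx_injective
  show idx (tblPerm k2T k2T' k2_ok p0) = idx p0
  rw [idx_tblPerm, idx_p0]
  decide +kernel
theorem k2_fixq : k2 • q0 = q0 := by
  apply idx_injective
  show idx (tblPerm k2T k2T' k2_ok q0) = idx q0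
  rw [idx_tblPerm, idx_q0]
  decide +kernel
theorem k2_memL : k2 ∈ L0 := ⟨⟨k2_mem, k2_fixp⟩, k2_fixq⟩
theorem k2_fix : k2 • x0 = x0 := by
  apply gmask_injective
  rw [k2_models x0, gmask_x0]
  decide +kernel
theorem k2_memK : k2 ∈ K0 := ⟨k2_memL, k2_fix⟩

/-- The generator actions on masks. -/
def actsL : List (ℕ → ℕ) := [applyTbl l1T, applyTbl l2T]
/-- The generators of `L0`. -/
def gensL : List (Equiv.Perm GolayPt) := [l1, l2]
theorem gensL_models :
    List.Forall₂ (fun g act => g ∈ L0 ∧ Models gmask g act) gensL actsL :=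
  List.Forall₂.cons ⟨l1_memL, l1_models⟩ (List.Forall₂.cons ⟨l2_memL, l2_models⟩ (List.Forall₂.nil))
/-- The generator actions on masks. -/
def actsK : List (ℕ → ℕ) := [applyTbl k1T, applyTbl k2T]
/-- The generators of `K0`. -/
def gensK : List (Equiv.Perm GolayPt) := [k1, k2]
theorem gensK_models :
    List.Forall₂ (fun g act => g ∈ K0 ∧ Models gmask g act) gensK actsK :=
  List.Forall₂.cons ⟨k1_memK, k1_models⟩ (List.Forall₂.cons ⟨k2_memK, k2_models⟩ (List.Forall₂.nil))

/-- Orbit certificate for the octads of the given pattern under `L0`. -/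
def certY : List (ℕ × ℕ) := [(0, 7340691), (0, 2115979), (0, 10765331), (0, 4505735), (0, 3416079), (0, 1065303), (0, 1836419), (0, 6292775), (0, 5325835), (0, 4587803), (1, 12717187), (0, 14716939), (0, 57883), (0, 272595), (0, 11010247), (0, 3719203), (0, 352547), (0, 459847), (0, 5902343), (0, 1053483), (0, 69395), (1, 8657159), (0, 9471495), (0, 5286147), (0, 8398155), (0, 4752467), (0, 4726955), (0, 2162811), (0, 737427), (0, 2494627), (0, 2183687), (0, 1460739), (2, 0), (1, 45159), (0, 1647171), (0, 657763), (0, 8983587), (0, 4424227), (0, 210955), (0, 8524371), (0, 563843), (0, 10496547), (0, 8505411), (0, 9347075), (1, 2754059), (0, 4216883), (0, 8716939), (0, 2263063), (0, 9465987), (0, 2392899), (0, 551943), (0, 13893731), (0, 622863), (0, 1188915), (0, 4264387), (2, 0), (1, 11731203), (0, 185603), (0, 4470275), (0, 4196943), (0, 9963547), (0, 8421811), (0, 2204803), (0, 6447171), (0, 806987), (0, 786999), (0, 1116327), (1, 1413139), (0, 140167), (0, 3152963), (0, 13124355), (0, 298027),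 (0, 12656663), (0, 1212619), (0, 2634003), (0, 18147), (0, 7145475), (0, 8536111)]
/-- Bitmap of the orbit. -/
def bmY : ℕ := 4728825271786158716812514079020801148296350842238020040259595103452163873940421549203401003905338923979625220701100234604512533273923383220340288256030158982449688814514452081507147818499047840081075659995531300369018327418390118412828786951655104428537506533571910811419600220112034118236071873888964606729121982640757952159386411048832070269186995660676615250030906918630664937924167818614846811600414951065652714766676343760984680642263966775357214351170050040188394222908829728352283247495260138389002922712145564149001021287066364764693508407194532940194236919843266268538047230683314050556708658234486098173121624453196961428235518427843111275977338304112427289697097190910077573898184479964527723576572125732181941704622347837465952421349576829520982246419902575133371762461530013131479090289823026578608227701926216244145514351479702509123426136809920779749694304793854841475319749127676790959023160616825613783178263846983398318609161053610477254277077101142411907125986284933633855729656980894852811712728778825741777210874785715355548346646311792894397983067216386103479082397926388747354062470067889525207302728752735491005165243249083594906205194376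
theorem certY_ok : checkDFS actsL certY [o0] = true := by decide +kernel
theorem bmY_ok : idxBitmap (o0 :: pushed 2 certY) = bmY := by decide +kernel
theorem reachY' {p : Finset GolayPt} (hp : p ∈ octads)
    (hbit : bmY.testBit (gmask p % 4096) = true) : ∃ g ∈ L0, g • x0 = p := by
  apply exists_smul_eq_of_cert_bitmap L0_le gensL_models x0 x0_mem_octads.1 certY
  · rw [gmask_x0]; exact certY_ok
  · exact hp.1
  · rw [gmask_x0]
    show (idxBitmap (o0 :: pushed 2 certY)).testBit _ = true
    rw [bmY_ok]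
    exact hbit

/-- Mask of the representative meeting the base octad in 2 points. -/
def r2m : ℕ := 9347075
/-- The representative. -/
def r2 : Finset GolayPt := setOfMask r2m
theorem gmask_r2 : gmask r2 = r2m := gmask_setOfMask (by decide)
theorem r2_mem : r2 ∈ octads := by
  rw [mem_octads_iff, gmask_r2]
  decide +kernel
/-- Orbit certificate. -/
def cert2 : List (ℕ × ℕ) := [(0, 2392899), (0, 13124355), (0, 13893731), (0, 1460739), (0, 4424227), (0, 5286147), (0, 11731203), (2, 0), (2, 0), (1, 8505411), (0, 352547), (0, 10496547), (0, 7145475), (0, 1647171), (0, 6447171), (0, 3719203), (0, 657763)]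
/-- Bitmap of the orbit. -/
def bm2 : ℕ := 14888081863312271169346751535617892102769079835861186268247273953107153765750123453789306123669132681654047688770214857281062523918370334502582613881940283491819178491989218965387087126815903978259141333538223101755758489011658138353024597584591619716635262229667799078470707396957239383377199266015721295630259212199369915406934729768701860870239998921370690933397447949830183212685029021351961001175414520174677181454808648769346352979113816792165148031153106546039777978175246642728612627268095782869549320617394304517360894487144099315509716492921306014191799529402418038395668538310759587668867932474833440288147704997071920333482605560404951640107736629134138035327849488798756310558557057402925633677869263378246959872203450226681833017207778968494378044507210285154230599688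
theorem cert2_ok : checkDFS actsK cert2 [r2m] = true := by decide +kernel
theorem bm2_ok : idxBitmap (r2m :: pushed 2 cert2) = bm2 := by decide +kernel
theorem reach2 {p : Finset GolayPt} (hp : p ∈ octads)
    (hbit : bm2.testBit (gmask p % 4096) = true) : ∃ g ∈ K0, g • r2 = p := by
  apply exists_smul_eq_of_cert_bitmap K0_le gensK_models r2 r2_mem.1 cert2
  · rw [gmask_r2]; exact cert2_ok
  · exact hp.1
  · rw [gmask_r2]
    show (idxBitmap (r2m :: pushed 2 cert2)).testBit _ = true
    rw [bm2_ok]
    exact hbit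

/-- Mask of the representative meeting the base octad in 4 points. -/
def r4m : ℕ := 5902343
/-- The representative. -/
def r4 : Finset GolayPt := setOfMask r4m
theorem gmask_r4 : gmask r4 = r4m := gmask_setOfMask (by decide)
theorem r4_mem : r4 ∈ octads := by
  rw [mem_octads_iff, gmask_r4]
  decide +kernel
/-- Orbit certificate. -/
def cert4 : List (ℕ × ℕ) := [(0, 1212619), (0, 185603), (0, 8421811), (0, 8657159), (0, 8716939), (0, 4470275), (0, 7340691), (1, 4505735), (0, 1053483), (0, 12717187), (0, 1413139), (0, 140167), (0, 14716939), (0, 1836419), (0, 8524371), (1, 8536111), (0, 298027), (0, 69395), (0, 12656663), (0, 3416079), (0, 2754059), (0, 4752467), (0, 1065303), (2, 0), (1, 2263063), (0, 622863), (0, 8398155), (0, 10765331), (0, 786999), (0, 4196943), (0, 5325835), (0, 1188915), (2, 0), (2, 0), (2, 0), (1, 2183687), (0, 4726955), (0, 3152963), (0, 737427), (0, 45159), (0, 2115979), (0, 8983587), (0, 272595), (2, 0), (1, 2162811), (0, 551943), (1, 2634003), (0, 11010247), (0, 806987),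 (0, 18147), (0, 4216883), (0, 1116327), (0, 210955), (0, 2204803), (2, 0), (2, 0), (1, 4264387), (0, 9465987), (0, 2494627), (0, 563843), (2, 0), (2, 0), (2, 0), (2, 0), (2, 0), (2, 0), (2, 0), (2, 0), (2, 0), (2, 0), (2, 0), (1, 459847), (0, 57883), (0, 6292775), (0, 9963547), (2, 0), (2, 0), (2, 0), (2, 0), (2, 0), (2, 0), (2, 0), (2, 0), (2, 0), (1, 4587803), (0, 9471495)]
/-- Bitmap of the orbit. -/
def bm4 : ℕ := 4728825271786158716812514079020801148296350842238020040259595103452163873940421549203401003905338923979625220701100234604512533273923383220340288256030158982449688814514452081507147818499047840081075659995531300369018327418390118412828786951655104428537506533571910811419600220112034118236071873888964606729121982640757952159386411048832070269186995660676615250030906918630664937909279736751534540431068199530034822663907263925123494374016692822250060585419926586399088099239697046698235558725045281107940398793775229646418407405126081272874329915205313974807149793027362290278905897145090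948800950169222827959820097026868605341711600256198175312197506630907155187906319897924894356278267925267765157808169637395963480080834382348916095261487952128879690799033734873553781410761286115492956801908835014377677895301721822480796070807482034394092509271133421890920672534189116787720396651628175470038046534601286153384646184265519765466855681849553752051199457478626159415139464512144537353451024584807617239933592254853751285882056968761046879874620721183062646790844418495306525118666442367147362814587967372232297894421537477551644065991931110995350206754097280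
theorem cert4_ok : checkDFS actsK cert4 [r4m] = true := by decide +kernel
theorem bm4_ok : idxBitmap (r4m :: pushed 2 cert4) = bm4 := by decide +kernel
theorem reach4 {p : Finset GolayPt} (hp : p ∈ octads)
    (hbit : bm4.testBit (gmask p % 4096) = true) : ∃ g ∈ K0, g • r4 = p := by
  apply exists_smul_eq_of_cert_bitmap K0_le gensK_models r4 r4_mem.1 cert4
  · rw [gmask_r4]; exact cert4_ok
  · exact hp.1
  · rw [gmask_r4]
    show (idxBitmap (r4m :: pushed 2 cert4)).testBit _ = true
    rw [bm4_ok]
    exact hbit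

/-- Completeness of the orbit of the base octad under `L0`. -/
def yCheck (m : ℕ) : Bool :=
  (popc 24 m != 8) || !(m.testBit 0) || !(m.testBit 1) || bmY.testBit (m % 4096)
theorem yCheck_all : (List.range 4096).all (fun k => yCheck (enc k)) = true := by
  decide +kernel

/-- Classification of the octads of the pattern by their intersection with the base octad. -/
def classCheck (m : ℕ) : Bool :=
  (popc 24 m != 8) || !(m.testBit 0) || !(m.testBit 1) ||
    ((popc 24 (o0 &&& m) == 8 && m == o0) ||
     (popc 24 (o0 &&& m) == 2 && bm2.testBit (m % 4096)) ||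
     (popc 24 (o0 &&& m) == 4 && bm4.testBit (m % 4096)))
theorem classCheck_all : (List.range 4096).all (fun k => classCheck (enc k)) = true := by
  decide +kernel

theorem bits_of_mem {p : Finset GolayPt} (hp0 : p0 ∈ p) (hq0 : q0 ∈ p) :
    (gmask p).testBit 0 = true ∧ (gmask p).testBit 1 = true := by
  refine ⟨?_, ?_⟩
  · have := (mem_iff_testBit_gmask p0 p).mp hp0
    rwa [idx_p0] at this
  · have := (mem_iff_testBit_gmask q0 p).mp hq0
    rwa [idx_q0] at this

theorem reachY {p : Finset GolayPt} (hp : p ∈ octads) (hp0 : p0 ∈ p) (hq0 : q0 ∈ p) :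
    ∃ g ∈ L0, g • x0 = p := by
  have h := forall_supports_bool yCheck yCheck_all p hp.1
  obtain ⟨hb0, hb1⟩ := bits_of_mem hp0 hq0
  unfold yCheck at h
  simp only [Bool.or_eq_true, Bool.and_eq_true, beq_iff_eq, bne_iff_ne, ne_eq,
    Bool.not_eq_true'] at h
  rcases h with ((h | h) | h) | h
  · rw [← card_eq_popc_gmask, hp.2] at h
    exact absurd rfl h
  · rw [hb0] at h
    exact absurd h (by decide)
  · rw [hb1] at h
    exact absurd h (by decide)
  · exact reachY' hp h

/-- Representative of the class of octads meeting the base octad in `j` points. -/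
def repOf (j : ℕ) : Finset GolayPt := if j = 8 then x0 else if j = 2 then r2 else r4

theorem reach_rep {p : Finset GolayPt} (hp : p ∈ octads) (hp0 : p0 ∈ p) (hq0 : q0 ∈ p) :
    ∃ g ∈ K0, g • repOf (x0 ∩ p).card = p := by
  have h := forall_supports_bool classCheck classCheck_all p hp.1
  have hcard : (x0 ∩ p).card = popc 24 (o0 &&& gmask p) := by
    rw [card_inter_eq_popc, gmask_x0]
  obtain ⟨hb0, hb1⟩ := bits_of_mem hp0 hq0
  unfold classCheck at h
  simp only [Bool.or_eq_true, Bool.and_eq_true, beq_iff_eq, bne_iff_ne, ne_eq,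
    Bool.not_eq_true'] at h
  rcases h with ((h | h) | h) | h
  · rw [← card_eq_popc_gmask, hp.2] at h
    exact absurd rfl h
  · rw [hb0] at h
    exact absurd h (by decide)
  · rw [hb1] at h
    exact absurd h (by decide)
  · rcases h with (⟨hj, hm⟩ | ⟨hj, hb⟩) | ⟨hj, hb⟩
    · rw [← hcard] at hj
      refine ⟨1, K0.one_mem, ?_⟩
      rw [hj, one_smul]
      show x0 = p
      apply gmask_injective
      rw [gmask_x0, hm]
    · rw [← hcard] at hj
      rw [hj]
      exact reach2 hp hb
    · rw [← hcard] at hj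
      rw [hj]
      exact reach4 hp hb

theorem base_trans {p' p'' : Finset GolayPt} (h' : p' ∈ octads) (h'' : p'' ∈ octads)
    (hp' : p0 ∈ p') (hp'' : p0 ∈ p'') (hq' : q0 ∈ p') (hq'' : q0 ∈ p'')
    (h : (x0 ∩ p').card = (x0 ∩ p'').card) : ∃ g ∈ K0, g • p' = p'' := by
  obtain ⟨g₁, hg₁, e₁⟩ := reach_rep h' hp' hq'
  obtain ⟨g₂, hg₂, e₂⟩ := reach_rep h'' hp'' hq''
  refine ⟨g₂ * g₁⁻¹, K0.mul_mem hg₂ (K0.inv_mem hg₁), ?_⟩
  rw [mul_smul, ← e₁, inv_smul_smul, h, e₂]

/-- Boolean test for the counting. -/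
def cntF (j : ℕ) (m : ℕ) : Bool :=
  popc 24 m == 8 && m.testBit 0 && m.testBit 1 && popc 24 (o0 &&& m) == j

theorem mem_facts (s : Finset GolayPt) :
    (s ∈ octads ↔ s ∈ supports (golayCode : Set (GolayPt → ZMod 2)) ∧ popc 24 (gmask s) = 8) ∧
    (p0 ∈ s ↔ (gmask s).testBit 0 = true) ∧ (q0 ∈ s ↔ (gmask s).testBit 1 = true) ∧
    ((x0 ∩ s).card = popc 24 (o0 &&& gmask s)) := by
  refine ⟨?_, ?_, ?_, ?_⟩
  · rw [← card_eq_popc_gmask]; rfl
  · rw [mem_iff_testBit_gmask p0 s, idx_p0]
  · rw [mem_iff_testBit_gmask q0 s, idx_q0]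
  · rw [card_inter_gmask, gmask_x0]

theorem base_set_eq (j : ℕ) :
    {s : Finset GolayPt | (s ∈ octads ∧ p0 ∈ s ∧ q0 ∈ s) ∧ (x0 ∩ s).card = j} =
      {s | s ∈ supports (golayCode : Set (GolayPt → ZMod 2)) ∧ cntF j (gmask s) = true} := by
  ext s
  obtain ⟨h1, h2, h3, h4⟩ := mem_facts s
  have h5 : cntF j (gmask s) = true ↔ popc 24 (gmask s) = 8 ∧ (gmask s).testBit 0 = true ∧
      (gmask s).testBit 1 = true ∧ popc 24 (o0 &&& gmask s) = j := by
    unfold cntF
    simp only [Bool.and_eq_true, beq_iff_eq, and_assoc, Bool.not_eq_true']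
  rw [Set.mem_ofPred_eq, Set.mem_ofPred_eq, h1, h2, h3, h4, h5]
  simp only [and_assoc]

theorem count2 : ((List.range 4096).filter (fun k => cntF 2 (enc k))).length = 16 := by
  decide +kernel

theorem base_count2 : {s : Finset GolayPt | (s ∈ octads ∧ p0 ∈ s ∧ q0 ∈ s) ∧ (x0 ∩ s).card = 2}.ncard = 16 := by
  rw [base_set_eq, count_supports, count2]

theorem count4 : ((List.range 4096).filter (fun k => cntF 4 (enc k))).length = 60 := by
  decide +kernel

theorem base_count4 : {s : Finset GolayPt | (s ∈ octads ∧ p0 ∈ s ∧ q0 ∈ s) ∧ (x0 ∩ s).card = 4}.ncard = 60 := by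
  rw [base_set_eq, count_supports, count4]


theorem pat_smul {a : Equiv.Perm GolayPt} (ha : a ∈ M24) (s : Finset GolayPt) :
    (a • s ∈ octads ∧ a p0 ∈ a • s ∧ a q0 ∈ a • s) ↔ (s ∈ octads ∧ p0 ∈ s ∧ q0 ∈ s) := by
  rw [smul_mem_octads_iff ha, perm_mem_smul_iff, perm_mem_smul_iff]

theorem L0_fix {l : Equiv.Perm GolayPt} (hl : l ∈ L0) : l p0 = p0 ∧ l q0 = q0 :=
  ⟨MulAction.mem_stabilizer_iff.mp hl.1.2, MulAction.mem_stabilizer_iff.mp hl.2⟩

theorem count_transport3 {b : Equiv.Perm GolayPt} (hb : b ∈ M24) (j : ℕ) :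
    {x : Finset GolayPt | x ∈ octads ∧ b p0 ∈ x ∧ b q0 ∈ x ∧ (b • x0 ∩ x).card = j}.ncard =
      {s : Finset GolayPt | (s ∈ octads ∧ p0 ∈ s ∧ q0 ∈ s) ∧ (x0 ∩ s).card = j}.ncard := by
  have h : {x : Finset GolayPt | x ∈ octads ∧ b p0 ∈ x ∧ b q0 ∈ x ∧ (b • x0 ∩ x).card = j} =
      {x : Finset GolayPt | (x ∈ octads ∧ b p0 ∈ x ∧ b q0 ∈ x) ∧ (b • x0 ∩ x).card = j} := by
    ext x
    simp only [Set.mem_ofPred_eq, and_assoc]
  rw [h, ← ncard_smul_set b (fun x => (x ∈ octads ∧ b p0 ∈ x ∧ b q0 ∈ x) ∧ (b • x0 ∩ x).card = j)]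
  simp only [pat_smul hb, card_inter_smul]

theorem part3 {b : Equiv.Perm GolayPt} (hb : b ∈ M24) :
    {x : Finset GolayPt | x ∈ octads ∧ b p0 ∈ x ∧ b q0 ∈ x ∧ (b • x0 ∩ x).card = 2}.ncard = 16 ∧
    {x : Finset GolayPt | x ∈ octads ∧ b p0 ∈ x ∧ b q0 ∈ x ∧ (b • x0 ∩ x).card = 4}.ncard = 60 ∧
    ∀ o' o'' : Finset GolayPt, (o' ∈ octads ∧ b p0 ∈ o' ∧ b q0 ∈ o') →
      (o'' ∈ octads ∧ b p0 ∈ o'' ∧ b q0 ∈ o'') → (b • x0 ∩ o').card = (b • x0 ∩ o'').card →
      ∃ g : Equiv.Perm GolayPt, g ∈ M24 ∧ g (b p0) = b p0 ∧ g (b q0) = b q0 ∧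
        g • (b • x0) = b • x0 ∧ g • o' = o'' := by
  refine ⟨?_, ?_, ?_⟩
  · rw [count_transport3 hb, base_count2]
  · rw [count_transport3 hb, base_count4]
  · intro o' o'' ho' ho'' hcard
    obtain ⟨r', rfl⟩ : ∃ r', o' = b • r' := ⟨b⁻¹ • o', (smul_inv_smul b o').symm⟩
    obtain ⟨r'', rfl⟩ : ∃ r'', o'' = b • r'' := ⟨b⁻¹ • o'', (smul_inv_smul b o'').symm⟩
    rw [pat_smul hb] at ho' ho''
    rw [card_inter_smul, card_inter_smul] at hcard
    obtain ⟨g, hg, hgq⟩ := base_trans ho'.1 ho''.1 ho'.2.1 ho''.2.1 ho'.2.2 ho''.2.2 hcard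
    have hgx0 : g • x0 = x0 := MulAction.mem_stabilizer_iff.mp hg.2
    obtain ⟨hgp, hgq0⟩ := L0_fix hg.1
    refine ⟨b * g * b⁻¹, M24.mul_mem (M24.mul_mem hb (K0_le hg)) (M24.inv_mem hb),
      ?_, ?_, ?_, ?_⟩
    · show b (g (b⁻¹ (b p0))) = b p0
      simp [hgp]
    · show b (g (b⁻¹ (b q0))) = b q0
      simp [hgq0]
    · rw [mul_smul, mul_smul, inv_smul_smul, hgx0]
    · rw [mul_smul, mul_smul, inv_smul_smul, hgq]

/-- A hexad stabiliser in the two-point stabiliser has orbits of sizes 1, 16, 60 on the 77 hexads: the 16 hexads disjoint from it and the 60 meeting it in two points. -/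
theorem result (p q : Cfsg.GolayPt) (hpq : p ≠ q) (o o' o'' : Finset Cfsg.GolayPt) (ho : o ∈ Cfsg.octads) (ho' : o' ∈ Cfsg.octads) (ho'' : o'' ∈ Cfsg.octads) (hp : p ∈ o ∧ p ∈ o' ∧ p ∈ o'') (hq : q ∈ o ∧ q ∈ o' ∧ q ∈ o'') (h : (o ∩ o').card = (o ∩ o'').card) : {x : Finset Cfsg.GolayPt | x ∈ Cfsg.octads ∧ p ∈ x ∧ q ∈ x ∧ (o ∩ x).card = 2}.ncard = 16 ∧ {x : Finset Cfsg.GolayPt | x ∈ Cfsg.octads ∧ p ∈ x ∧ q ∈ x ∧ (o ∩ x).card = 4}.ncard = 60 ∧ ∃ g : Equiv.Perm Cfsg.GolayPt, g ∈ Cfsg.M24 ∧ g p = p ∧ g q = q ∧ g • o = o ∧ g • o' = o'' := by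
  obtain ⟨a, ha, rfl, rfl⟩ := m24_two_trans p0_ne_q0 hpq
  obtain ⟨r, rfl⟩ : ∃ r, o = a • r := ⟨a⁻¹ • o, (smul_inv_smul a o).symm⟩
  have hor : r ∈ octads ∧ p0 ∈ r ∧ q0 ∈ r := (pat_smul ha r).mp ⟨ho, hp.1, hq.1⟩
  obtain ⟨l, hl, rfl⟩ := reachY hor.1 hor.2.1 hor.2.2
  obtain ⟨hlp, hlq⟩ := L0_fix hl
  have hb : a * l ∈ M24 := M24.mul_mem ha (L0_le hl)
  have key := part3 hb
  have e1 : (a * l) p0 = a p0 := by
    show a (l p0) = a p0
    rw [hlp]
  have e2 : (a * l) q0 = a q0 := by
    show a (l q0) = a q0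
    rw [hlq]
  have e3 : (a * l) • x0 = a • l • x0 := mul_smul _ _ _
  rw [e1, e2, e3] at key
  exact ⟨key.1, key.2.1, key.2.2 o' o'' ⟨ho', hp.2.1, hq.2.1⟩ ⟨ho'', hp.2.2, hq.2.2⟩ h⟩

end Cfsg.Agent.S1604
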