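import Cfsg.Statements.S1605
import Cfsg.Agent.Lib.Helper35.OctadStab
import Cfsg.Agent.Lib.Helper36.M24Tools

set_option autoImplicit false
open scoped Pointwise
open Cfsg

namespace Cfsg.Agent.S1605

open Cfsg.Agent.Lib.Helper10 (idx pt idx_pt idx_lt idx_injective enc enc_mod enc_lt pt_idx)
open Cfsg.Agent.Lib.Helper35
open Cfsg.Agent.Lib.Helper36

/-- The first base point. -/
def p0 : GolayPt := pt 0
theorem idx_p0 : idx p0 = 0 := idx_pt (by norm_num)
/-- The second base point. -/
def q0 : GolayPt := pt 5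
theorem idx_q0 : idx q0 = 5 := idx_pt (by norm_num)
theorem p0_ne_q0 : p0 ≠ q0 := by
  intro h
  have := congrArg idx h
  rw [idx_p0, idx_q0] at this
  exact absurd this (by decide)

/-- The stabiliser of the two base points. -/
def L0 : Subgroup (Equiv.Perm GolayPt) :=
  M24 ⊓ MulAction.stabilizer (Equiv.Perm GolayPt) p0 ⊓ MulAction.stabilizer (Equiv.Perm GolayPt) q0
theorem L0_le : L0 ≤ M24 := inf_le_left.trans inf_le_left
/-- The stabiliser of the two base points and the base octad. -/
def K0 : Subgroup (Equiv.Perm GolayPt) := L0 ⊓ MulAction.stabilizer (Equiv.Perm GolayPt) x0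
theorem K0_le : K0 ≤ M24 := inf_le_left.trans L0_le

/-- Table of a generator. -/
def l1T : List ℕ := [0, 19, 16, 13, 10, 5, 18, 8, 14, 12, 22, 7, 17, 20, 15, 3, 21, 11, 1, 23, 9, 6, 2, 4]
/-- Inverse table. -/
def l1T' : List ℕ := [0, 18, 22, 15, 23, 5, 21, 11, 7, 20, 4, 17, 9, 3, 8, 14, 2, 12, 6, 1, 13, 16, 10, 19]
theorem l1_ok : TblOK l1T l1T' := by decide +kernel
/-- A generator. -/
def l1 : Equiv.Perm GolayPt := tblPerm l1T l1T' l1_ok
theorem l1_mem : l1 ∈ M24 := tblPerm_mem_M24 _ _ _ (by decide +kernel)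
theorem l1_models : Models gmask l1 (applyTbl l1T) := tblPerm_models _ _ _
theorem l1_fixp : l1 • p0 = p0 := by
  apply idx_injective
  show idx (tblPerm l1T l1T' l1_ok p0) = idx p0
  rw [idx_tblPerm, idx_p0]
  decide +kernel
theorem l1_fixq : l1 • q0 = q0 := by
  apply idx_injective
  show idx (tblPerm l1T l1T' l1_ok q0) = idx q0
  rw [idx_tblPerm, idx_q0]
  decide +kernel
theorem l1_memL : l1 ∈ L0 := ⟨⟨l1_mem, l1_fixp⟩, l1_fixq⟩

/-- Table of a generator. -/
def l2T : List ℕ := [0, 2, 4, 9, 10, 5, 3, 17, 7, 23, 14, 8, 22, 20, 1, 15, 16, 18, 11, 6, 12, 13, 21, 19]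
/-- Inverse table. -/
def l2T' : List ℕ := [0, 14, 1, 6, 2, 5, 19, 8, 11, 3, 4, 18, 20, 21, 10, 15, 16, 7, 17, 23, 13, 22, 12, 9]
theorem l2_ok : TblOK l2T l2T' := by decide +kernel
/-- A generator. -/
def l2 : Equiv.Perm GolayPt := tblPerm l2T l2T' l2_ok
theorem l2_mem : l2 ∈ M24 := tblPerm_mem_M24 _ _ _ (by decide +kernel)
theorem l2_models : Models gmask l2 (applyTbl l2T) := tblPerm_models _ _ _
theorem l2_fixp : l2 • p0 = p0 := by
  apply idx_injective
  show idx (tblPerm l2T l2T' l2_ok p0) = idx p0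
  rw [idx_tblPerm, idx_p0]
  decide +kernel
theorem l2_fixq : l2 • q0 = q0 := by
  apply idx_injective
  show idx (tblPerm l2T l2T' l2_ok q0) = idx q0
  rw [idx_tblPerm, idx_q0]
  decide +kernel
theorem l2_memL : l2 ∈ L0 := ⟨⟨l2_mem, l2_fixp⟩, l2_fixq⟩

/-- Table of a generator. -/
def k1T : List ℕ := [0, 10, 1, 2, 7, 5, 15, 12, 13, 9, 4, 23, 3, 18, 21, 11, 19, 22, 6, 14, 16, 17, 20, 8]
/-- Inverse table. -/
def k1T' : List ℕ := [0, 2, 3, 12, 10, 5, 18, 4, 23, 9, 1, 15, 7, 8, 19, 6, 20, 21, 13, 16, 22, 14, 17, 11]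
theorem k1_ok : TblOK k1T k1T' := by decide +kernel
/-- A generator. -/
def k1 : Equiv.Perm GolayPt := tblPerm k1T k1T' k1_ok
theorem k1_mem : k1 ∈ M24 := tblPerm_mem_M24 _ _ _ (by decide +kernel)
theorem k1_models : Models gmask k1 (applyTbl k1T) := tblPerm_models _ _ _
theorem k1_fixp : k1 • p0 = p0 := by
  apply idx_injective
  show idx (tblPerm k1T k1T' k1_ok p0) = idx p0
  rw [idx_tblPerm, idx_p0]
  decide +kernel
theorem k1_fixq : k1 • q0 = q0 := by
  apply idx_injective
  show idx (tblPerm k1T k1T' k1_ok q0) = idx q0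
  rw [idx_tblPerm, idx_q0]
  decide +kernel
theorem k1_memL : k1 ∈ L0 := ⟨⟨k1_mem, k1_fixp⟩, k1_fixq⟩
theorem k1_fix : k1 • x0 = x0 := by
  apply gmask_injective
  rw [k1_models x0, gmask_x0]
  decide +kernel
theorem k1_memK : k1 ∈ K0 := ⟨k1_memL, k1_fix⟩

/-- Table of a generator. -/
def k2T : List ℕ := [0, 10, 12, 1, 2, 5, 8, 3, 9, 14, 4, 17, 7, 11, 19, 13, 22, 23, 20, 18, 6, 21, 15, 16]
/-- Inverse table. -/
def k2T' : List ℕ := [0, 3, 4, 7, 10, 5, 20, 12, 6, 8, 1, 13, 2, 15, 9, 22, 23, 11, 19, 14, 18, 21, 16, 17]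
theorem k2_ok : TblOK k2T k2T' := by decide +kernel
/-- A generator. -/
def k2 : Equiv.Perm GolayPt := tblPerm k2T k2T' k2_ok
theorem k2_mem : k2 ∈ M24 := tblPerm_mem_M24 _ _ _ (by decide +kernel)
theorem k2_models : Models gmask k2 (applyTbl k2T) := tblPerm_models _ _ _
theorem k2_fixp : k2 • p0 = p0 := by
  apply idx_injective
  show idx (tblPerm k2T k2T' k2_ok p0) = idx p0
  rw [idx_tblPerm, idx_p0]
  decide +kernel
theorem k2_fixq : k2 • q0 = q0 := by
  apply idx_injective
  show idx (tblPerm k2T k2T' k2_ok q0) = idx q0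
  rw [idx_tblPerm, idx_q0]
  decide +kernel
theorem k2_memL : k2 ∈ L0 := ⟨⟨k2_mem, k2_fixp⟩, k2_fixq⟩
theorem k2_fix : k2 • x0 = x0 := by
  apply gmask_injective
  rw [k2_models x0, gmask_x0]
  decide +kernel
theorem k2_memK : k2 ∈ K0 := ⟨k2_memL, k2_fix⟩

/-- The generator actions on masks. -/
def actsL : List (ℕ → ℕ) := [applyTbl l1T, applyTbl l2T]
/-- The generators of `L0`. -/
def gensL : List (Equiv.Perm GolayPt) := [l1, l2]
theorem gensL_models :
    List.Forall₂ (fun g act => g ∈ L0 ∧ Models gmask g act) gensL actsL :=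
  List.Forall₂.cons ⟨l1_memL, l1_models⟩ (List.Forall₂.cons ⟨l2_memL, l2_models⟩ (List.Forall₂.nil))
/-- The generator actions on masks. -/
def actsK : List (ℕ → ℕ) := [applyTbl k1T, applyTbl k2T]
/-- The generators of `K0`. -/
def gensK : List (Equiv.Perm GolayPt) := [k1, k2]
theorem gensK_models :
    List.Forall₂ (fun g act => g ∈ K0 ∧ Models gmask g act) gensK actsK :=
  List.Forall₂.cons ⟨k1_memK, k1_models⟩ (List.Forall₂.cons ⟨k2_memK, k2_models⟩ (List.Forall₂.nil))

/-- Orbit certificate for the octads of the given pattern under `L0`. -/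
def certY : List (ℕ × ℕ) := [(0, 4924673), (0, 15747077), (0, 99029), (0, 2430217), (0, 6447171), (0, 1869893), (0, 8716939), (0, 2634003), (0, 10110017), (0, 12880401), (1, 11046145), (0, 12599513), (0, 304405), (0, 5325835), (0, 6857221), (0, 9506893), (0, 2564625), (0, 3152963), (0, 5112513), (0, 8657159), (0, 737427), (1, 459847), (0, 7145475), (0, 11010247), (0, 9240913), (0, 10765331), (0, 4752467), (0, 13370381), (0, 12656663), (0, 3736597), (0, 14747201), (0, 6557781), (1, 6302745), (0, 5252293), (0, 5571333), (0, 2183687), (0, 2854977), (0, 10881097), (0, 272595), (0, 1836419), (0, 13124355), (0, 8966165), (0, 8619033), (1, 902657), (0, 14716939), (0, 663645), (0, 9776129), (0, 7340691), (0, 530245), (0, 13062145), (0, 2263063), (0, 593097), (0, 14950785), (0, 1065303), (2, 0), (1, 3811457), (0, 9440193), (0, 283537), (0, 185603), (0, 4900873), (0, 8431757), (0, 1122713), (0, 3172097), (0, 5296705), (0, 430605), (0, 210955), (2, 0), (2, 0), (2, 0), (1, 9465987), (0, 1737489), (0, 8412681),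 (0, 4370577), (0, 1182989), (0, 4287105), (0, 3182981), (0, 213833), (0, 2422785), (0, 1212619), (0, 797449), (2, 0), (2, 0), (1, 5286147), (0, 1589901), (0, 8499969), (0, 3297305), (0, 175681), (0, 5511305), (0, 140167), (0, 1661185), (0, 10666625), (0, 39257), (0, 418953), (1, 1460739), (0, 563843), (0, 9048457), (0, 8546577), (0, 1100945), (0, 4229001), (0, 4223245), (0, 1302533), (0, 3246601), (0, 2110153), (0, 1454401), (2, 0), (1, 13771273), (0, 1063445), (0, 1250945), (0, 6429441), (0, 153797), (0, 493953), (0, 2115979), (0, 582081), (0, 9748745), (0, 57883), (0, 1618953), (2, 0), (1, 9471495), (0, 4788761), (0, 10630149), (0, 5441617), (0, 2363013), (0, 4264387), (0, 3031301), (0, 8505411), (0, 2916505), (0, 8398155), (0, 6053905), (2, 0), (2, 0), (2, 0), (1, 622863), (0, 11100169), (0, 11575377), (0, 1312345), (0, 4470275), (0, 5902343), (0, 9112069), (0, 10557585), (0, 2229713), (0, 4476225), (0, 4505735), (2, 0), (2, 0), (2, 0), (2, 0), (2, 0), (2, 0), (2, 0), (2, 0), (2, 0), (1,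 1647171), (0, 12325377), (0, 8524371), (0, 924689), (0, 12717187), (0, 4721045), (0, 8471941), (0, 6406417), (0, 2147405), (0, 4563017), (0, 3416079), (2, 0), (2, 0), (2, 0), (1, 2204803), (0, 7864649), (0, 8675909), (0, 1413139), (0, 2754059), (0, 13121601), (0, 9830549), (0, 69395), (0, 6837377), (0, 12747077), (0, 346141), (2, 0), (2, 0), (2, 0), (2, 0), (2, 0), (2, 0), (2, 0), (1, 4299781), (0, 6488205), (0, 2173253), (0, 3489985), (0, 2392899), (0, 806987), (0, 9347075), (0, 9963547), (0, 8922769), (0, 13636881), (0, 4343317), (2, 0), (2, 0), (2, 0), (2, 0), (2, 0), (1, 4196943), (0, 864389), (0, 11731203), (0, 2640465), (0, 8688833), (0, 4587803), (0, 551943), (0, 14254209), (0, 10486557), (0, 95313), (0, 7767041)]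
/-- Bitmap of the orbit. -/
def bmY : ℕ := 4728825271786158716812514079020801148296351690429455741293824869049339423525042641460471170950590697663597833483899677413802913561856763651786550783128864325461159623994401366172911052172703557872521804406557292290537500095673632081768817077610785450513220984787626188647633413569078593033557682058325450650998089343558292704987839732398451018902166996198082023793278866740548878223419191834247323459794423108194787983564976357535651465046989357185506400272264752000029234946203377867411784271010049069071047234513545039270215207447126063786400830023054245119657733290155918469879639961072227164479002607447150127878531015229419883864347151509866572703768766823749454548196555167678905484616974971976429928108023477683611604712134507219768772378773630947764495817620496198617402092983369376175748840741370691535592448544633498690974953720867593204892308390430331599315770918112153024932364455705288188568147756901667751710824270966383103536657711310265421745663085391776406699652132356975002990744992105427967648322331747610875264955131885167570826054477055218680730285857614444972798187656403032879971825099543414029959413452261450367137481428359972043600071338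
theorem certY_ok : checkDFS actsL certY [o0] = true := by decide +kernel
theorem bmY_ok : idxBitmap (o0 :: pushed 2 certY) = bmY := by decide +kernel
theorem reachY' {p : Finset GolayPt} (hp : p ∈ octads)
    (hbit : bmY.testBit (gmask p % 4096) = true) : ∃ g ∈ L0, g • x0 = p := by
  apply exists_smul_eq_of_cert_bitmap L0_le gensL_models x0 x0_mem_octads.1 certY
  · rw [gmask_x0]; exact certY_ok
  · exact hp.1
  · rw [gmask_x0]
    show (idxBitmap (o0 :: pushed 2 certY)).testBit _ = true
    rw [bmY_ok]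
    exact hbit

/-- Mask of the representative meeting the base octad in 2 points. -/
def r2m : ℕ := 13062145
/-- The representative. -/
def r2 : Finset GolayPt := setOfMask r2m
theorem gmask_r2 : gmask r2 = r2m := gmask_setOfMask (by decide)
theorem r2_mem : r2 ∈ octads := by
  rw [mem_octads_iff, gmask_r2]
  decide +kernel
/-- Orbit certificate. -/
def cert2 : List (ℕ × ℕ) := [(0, 7864649), (0, 1302533), (0, 7145475), (0, 10110017), (0, 6406417), (0, 3811457), (1, 10881097), (0, 12747077), (0, 5286147), (0, 9776129), (0, 9240913), (0, 582081), (0, 2422785), (2, 0), (1, 797449), (0, 8675909), (0, 2392899), (0, 175681), (0, 12880401), (0, 9440193), (0, 8499969), (1, 4287105), (0, 12325377), (0, 213833), (0, 6857221), (0, 1460739), (0, 14747201), (0, 1737489), (2, 0), (2, 0), (2, 0), (2, 0), (1, 13124355), (0, 3172097), (0, 2564625), (0, 5112513), (0, 5296705), (0, 3246601), (0, 9112069), (2, 0), (1, 6447171), (0, 7767041), (0, 5441617), (0, 14254209), (0, 1661185), (0, 11100169), (0, 3031301),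 (2, 0), (2, 0), (2, 0), (1, 4563017), (0, 1869893), (0, 8505411), (0, 11046145), (0, 8546577), (0, 14950785), (0, 1454401), (2, 0), (2, 0), (2, 0), (2, 0), (1, 4924673), (0, 6053905), (0, 3489985), (0, 2854977), (0, 4900873), (0, 15747077), (0, 11731203), (2, 0), (2, 0), (1, 9347075), (0, 4476225), (0, 11575377), (0, 493953), (0, 13121601), (0, 9748745), (0, 2173253), (1, 6429441), (0, 13771273), (0, 5571333), (0, 1647171), (0, 902657), (0, 2640465), (0, 10666625)]
/-- Bitmap of the orbit. -/
def bm2 : ℕ := 287378436647081361710965988800432622242952141669353268742384742175872492253804507742102460612313563540658492413631522264621879435053927147841428415664078248578022274606126619410731163448922885684780712365096404934632030486160642256199438456347786505248331224139332418755732292522268221261227790772734946032528860535423680753664927224861191298202573383592474648094287031269455454924685592697594304765698081081564337311953223548004490249720513544618639277933967768183190935055156439824211889829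1467991304897815698421419107089635667596546143003106527132603437967504156228104234382740203932111825542505229687686239475269022149050731930243990122017928083766822337315640350089851546212218673289281537225419114091875634531091027608826032716534400727418167684342026431810064972846199777447653269810017243703187895232036573498480399569762956661409934457346211550166103426406517829716827536041505904281881205850960765903160948209004301432921086962595830950214131828476081458388131405249231509662566088155713627056154003788326572716342756491366620615689220127078057749295089114762393391800185367515733451473450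
theorem cert2_ok : checkDFS actsK cert2 [r2m] = true := by decide +kernel
theorem bm2_ok : idxBitmap (r2m :: pushed 2 cert2) = bm2 := by decide +kernel
theorem reach2 {p : Finset GolayPt} (hp : p ∈ octads)
    (hbit : bm2.testBit (gmask p % 4096) = true) : ∃ g ∈ K0, g • r2 = p := by
  apply exists_smul_eq_of_cert_bitmap K0_le gensK_models r2 r2_mem.1 cert2
  · rw [gmask_r2]; exact cert2_ok
  · exact hp.1
  · rw [gmask_r2]
    show (idxBitmap (r2m :: pushed 2 cert2)).testBit _ = true
    rw [bm2_ok]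
    exact hbit

/-- Mask of the representative meeting the base octad in 4 points. -/
def r4m : ℕ := 5902343
/-- The representative. -/
def r4 : Finset GolayPt := setOfMask r4m
theorem gmask_r4 : gmask r4 = r4m := gmask_setOfMask (by decide)
theorem r4_mem : r4 ∈ octads := by
  rw [mem_octads_iff, gmask_r4]
  decide +kernel
/-- Orbit certificate. -/
def cert4 : List (ℕ × ℕ) := [(0, 5325835), (0, 3736597), (0, 737427), (0, 6837377), (0, 3297305), (0, 6488205), (1, 14716939), (0, 1182989), (0, 12656663), (0, 1836419), (0, 95313), (0, 2916505), (0, 153797), (1, 9048457), (0, 4223245), (0, 3416079), (0, 459847), (0, 4752467), (0, 1100945), (0, 10557585), (2, 0), (1, 663645), (0, 4505735), (0, 3152963), (0, 8619033), (0, 4721045), (0, 9465987), (0, 2430217), (1, 7340691), (0, 1250945), (0, 4788761), (0, 1589901), (0, 2183687), (0, 2754059), (0, 4343317), (1, 8966165), (0, 2115979), (0, 10630149), (0, 4587803), (0, 5252293), (0, 1413139), (0, 593097), (2, 0), (2, 0), (1, 39257), (0, 8431757), (0,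 8657159), (0, 8398155), (0, 304405), (0, 272595), (0, 8688833), (1, 1122713), (0, 864389), (0, 806987), (0, 2147405), (0, 2263063), (0, 12717187), (0, 13636881), (1, 99029), (0, 563843), (0, 8412681), (0, 10486557), (0, 140167), (0, 4470275), (0, 1312345), (1, 1065303), (0, 2204803), (0, 924689), (0, 12599513), (0, 3182981), (0, 210955), (0, 13370381), (2, 0), (2, 0), (1, 2110153), (0, 430605), (0, 4196943), (0, 9471495), (0, 69395), (0, 8922769), (0, 283537), (2, 0), (1, 346141), (0, 11010247), (0, 185603), (0, 6302745), (0, 9830549), (0, 4264387), (0, 1618953), (2, 0), (1, 4229001), (0, 1063445), (0, 8716939), (0, 530245), (0, 57883), (0, 2363013), (0, 8524371), (1, 8471941), (0, 2634003), (0, 418953), (0, 6557781), (0, 1212619), (0, 4299781), (0, 9963547), (2, 0), (1, 4370577), (0, 5511305), (0, 9506893), (0, 622863), (0, 551943), (0, 10765331), (0, 2229713)]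
/-- Bitmap of the orbit. -/
def bm4 : ℕ := 4728825271786158716812514079020801148296351690429455741293824866175555057054229024350811282946264475234076416790366989989955491803131841113741473362104258202325524217409477229857688405953909207333250325992273135649755014315450886020502622970299150961284364136980502537683584067248773731427135120063940887173133036860246051311663652175075525796219954383920174296443818541451943523986611655184975074847881441082460952058818495414665338770492440110329579424329217095019218419302830258335176304226107551863935601048120765699592533375537775512222002587904155953651666428392340220048460532871436559567932859604340622995275093047725263655760112768769662640591943224318519766861957079898656756433885044727986307910179939710861274289071784417368222560160100341666227270398506404322982871001955760550143032306340643142001335105528283032716443269228888274977245473160403412062873050472567316335413994357936178383506025567161987764123116030151927937973609699348353123440527297758773323546097715431226605652733561229056059647199183757478473363025438596594525472891109658056202846041689803942965299567209933659966841505387209335341161944295741809528950413612114496764928100480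
theorem cert4_ok : checkDFS actsK cert4 [r4m] = true := by decide +kernel
theorem bm4_ok : idxBitmap (r4m :: pushed 2 cert4) = bm4 := by decide +kernel
theorem reach4 {p : Finset GolayPt} (hp : p ∈ octads)
    (hbit : bm4.testBit (gmask p % 4096) = true) : ∃ g ∈ K0, g • r4 = p := by
  apply exists_smul_eq_of_cert_bitmap K0_le gensK_models r4 r4_mem.1 cert4
  · rw [gmask_r4]; exact cert4_ok
  · exact hp.1
  · rw [gmask_r4]
    show (idxBitmap (r4m :: pushed 2 cert4)).testBit _ = true
    rw [bm4_ok]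
    exact hbit

/-- Completeness of the orbit of the base octad under `L0`. -/
def yCheck (m : ℕ) : Bool :=
  (popc 24 m != 8) || !(m.testBit 0) || (m.testBit 5) || bmY.testBit (m % 4096)
theorem yCheck_all : (List.range 4096).all (fun k => yCheck (enc k)) = true := by
  decide +kernel

/-- Classification of the octads of the pattern by their intersection with the base octad. -/
def classCheck (m : ℕ) : Bool :=
  (popc 24 m != 8) || !(m.testBit 0) || (m.testBit 5) ||
    ((popc 24 (o0 &&& m) == 8 && m == o0) ||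
     (popc 24 (o0 &&& m) == 2 && bm2.testBit (m % 4096)) ||
     (popc 24 (o0 &&& m) == 4 && bm4.testBit (m % 4096)))
theorem classCheck_all : (List.range 4096).all (fun k => classCheck (enc k)) = true := by
  decide +kernel

theorem bits_of_mem {p : Finset GolayPt} (hp0 : p0 ∈ p) (hq0 : q0 ∉ p) :
    (gmask p).testBit 0 = true ∧ ¬ (gmask p).testBit 5 = true := by
  refine ⟨?_, ?_⟩
  · have := (mem_iff_testBit_gmask p0 p).mp hp0
    rwa [idx_p0] at this
  · intro hb
    apply hq0
    rw [mem_iff_testBit_gmask q0 p, idx_q0]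
    exact hb

theorem reachY {p : Finset GolayPt} (hp : p ∈ octads) (hp0 : p0 ∈ p) (hq0 : q0 ∉ p) :
    ∃ g ∈ L0, g • x0 = p := by
  have h := forall_supports_bool yCheck yCheck_all p hp.1
  obtain ⟨hb0, hb1⟩ := bits_of_mem hp0 hq0
  unfold yCheck at h
  simp only [Bool.or_eq_true, Bool.and_eq_true, beq_iff_eq, bne_iff_ne, ne_eq,
    Bool.not_eq_true'] at h
  rcases h with ((h | h) | h) | h
  · rw [← card_eq_popc_gmask, hp.2] at h
    exact absurd rfl h
  · rw [hb0] at h
    exact absurd h (by decide)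
  · exact absurd h hb1
  · exact reachY' hp h

/-- Representative of the class of octads meeting the base octad in `j` points. -/
def repOf (j : ℕ) : Finset GolayPt := if j = 8 then x0 else if j = 2 then r2 else r4

theorem reach_rep {p : Finset GolayPt} (hp : p ∈ octads) (hp0 : p0 ∈ p) (hq0 : q0 ∉ p) :
    ∃ g ∈ K0, g • repOf (x0 ∩ p).card = p := by
  have h := forall_supports_bool classCheck classCheck_all p hp.1
  have hcard : (x0 ∩ p).card = popc 24 (o0 &&& gmask p) := by
    rw [card_inter_eq_popc, gmask_x0]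
  obtain ⟨hb0, hb1⟩ := bits_of_mem hp0 hq0
  unfold classCheck at h
  simp only [Bool.or_eq_true, Bool.and_eq_true, beq_iff_eq, bne_iff_ne, ne_eq,
    Bool.not_eq_true'] at h
  rcases h with ((h | h) | h) | h
  · rw [← card_eq_popc_gmask, hp.2] at h
    exact absurd rfl h
  · rw [hb0] at h
    exact absurd h (by decide)
  · exact absurd h hb1
  · rcases h with (⟨hj, hm⟩ | ⟨hj, hb⟩) | ⟨hj, hb⟩
    · rw [← hcard] at hj
      refine ⟨1, K0.one_mem, ?_⟩
      rw [hj, one_smul]
      show x0 = p
      apply gmask_injective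
      rw [gmask_x0, hm]
    · rw [← hcard] at hj
      rw [hj]
      exact reach2 hp hb
    · rw [← hcard] at hj
      rw [hj]
      exact reach4 hp hb

theorem base_trans {p' p'' : Finset GolayPt} (h' : p' ∈ octads) (h'' : p'' ∈ octads)
    (hp' : p0 ∈ p') (hp'' : p0 ∈ p'') (hq' : q0 ∉ p') (hq'' : q0 ∉ p'')
    (h : (x0 ∩ p').card = (x0 ∩ p'').card) : ∃ g ∈ K0, g • p' = p'' := by
  obtain ⟨g₁, hg₁, e₁⟩ := reach_rep h' hp' hq'
  obtain ⟨g₂, hg₂, e₂⟩ := reach_rep h'' hp'' hq''
  refine ⟨g₂ * g₁⁻¹, K0.mul_mem hg₂ (K0.inv_mem hg₁), ?_⟩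
  rw [mul_smul, ← e₁, inv_smul_smul, h, e₂]

/-- Boolean test for the counting. -/
def cntF (j : ℕ) (m : ℕ) : Bool :=
  popc 24 m == 8 && m.testBit 0 && !(m.testBit 5) && popc 24 (o0 &&& m) == j

theorem mem_facts (s : Finset GolayPt) :
    (s ∈ octads ↔ s ∈ supports (golayCode : Set (GolayPt → ZMod 2)) ∧ popc 24 (gmask s) = 8) ∧
    (p0 ∈ s ↔ (gmask s).testBit 0 = true) ∧ (q0 ∉ s ↔ (gmask s).testBit 5 = false) ∧
    ((x0 ∩ s).card = popc 24 (o0 &&& gmask s)) := by
  refine ⟨?_, ?_, ?_, ?_⟩
  · rw [← card_eq_popc_gmask]; rfl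
  · rw [mem_iff_testBit_gmask p0 s, idx_p0]
  · rw [mem_iff_testBit_gmask q0 s, idx_q0]
    simp
  · rw [card_inter_gmask, gmask_x0]

theorem base_set_eq (j : ℕ) :
    {s : Finset GolayPt | (s ∈ octads ∧ p0 ∈ s ∧ q0 ∉ s) ∧ (x0 ∩ s).card = j} =
      {s | s ∈ supports (golayCode : Set (GolayPt → ZMod 2)) ∧ cntF j (gmask s) = true} := by
  ext s
  obtain ⟨h1, h2, h3, h4⟩ := mem_facts s
  have h5 : cntF j (gmask s) = true ↔ popc 24 (gmask s) = 8 ∧ (gmask s).testBit 0 = true ∧
      (gmask s).testBit 5 = false ∧ popc 24 (o0 &&& gmask s) = j := by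
    unfold cntF
    simp only [Bool.and_eq_true, beq_iff_eq, and_assoc, Bool.not_eq_true']
  rw [Set.mem_ofPred_eq, Set.mem_ofPred_eq, h1, h2, h3, h4, h5]
  simp only [and_assoc]

theorem count2 : ((List.range 4096).filter (fun k => cntF 2 (enc k))).length = 70 := by
  decide +kernel

theorem base_count2 : {s : Finset GolayPt | (s ∈ octads ∧ p0 ∈ s ∧ q0 ∉ s) ∧ (x0 ∩ s).card = 2}.ncard = 70 := by
  rw [base_set_eq, count_supports, count2]

theorem count4 : ((List.range 4096).filter (fun k => cntF 4 (enc k))).length = 105 := by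
  decide +kernel

theorem base_count4 : {s : Finset GolayPt | (s ∈ octads ∧ p0 ∈ s ∧ q0 ∉ s) ∧ (x0 ∩ s).card = 4}.ncard = 105 := by
  rw [base_set_eq, count_supports, count4]


/-- Boolean test for counting the octads of the pattern. -/
def cntY (m : ℕ) : Bool := popc 24 m == 8 && m.testBit 0 && !(m.testBit 5)

theorem baseY_set_eq : {s : Finset GolayPt | s ∈ octads ∧ p0 ∈ s ∧ q0 ∉ s} =
    {s | s ∈ supports (golayCode : Set (GolayPt → ZMod 2)) ∧ cntY (gmask s) = true} := by
  ext s
  obtain ⟨h1, h2, h3, _⟩ := mem_facts s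
  have h5 : cntY (gmask s) = true ↔ popc 24 (gmask s) = 8 ∧ (gmask s).testBit 0 = true ∧
      (gmask s).testBit 5 = false := by
    unfold cntY
    simp only [Bool.and_eq_true, beq_iff_eq, and_assoc, Bool.not_eq_true']
  rw [Set.mem_ofPred_eq, Set.mem_ofPred_eq, h1, h2, h3, h5, and_assoc]

theorem countY : ((List.range 4096).filter (fun k => cntY (enc k))).length = 176 := by
  decide +kernel

theorem baseY_count : {s : Finset GolayPt | s ∈ octads ∧ p0 ∈ s ∧ q0 ∉ s}.ncard = 176 := by
  rw [baseY_set_eq, count_supports, countY]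

theorem pat_smul {a : Equiv.Perm GolayPt} (ha : a ∈ M24) (s : Finset GolayPt) :
    (a • s ∈ octads ∧ a p0 ∈ a • s ∧ a q0 ∉ a • s) ↔ (s ∈ octads ∧ p0 ∈ s ∧ q0 ∉ s) := by
  rw [smul_mem_octads_iff ha, perm_mem_smul_iff, perm_mem_smul_iff]

theorem L0_fix {l : Equiv.Perm GolayPt} (hl : l ∈ L0) : l p0 = p0 ∧ l q0 = q0 :=
  ⟨MulAction.mem_stabilizer_iff.mp hl.1.2, MulAction.mem_stabilizer_iff.mp hl.2⟩

theorem part1 {a : Equiv.Perm GolayPt} (ha : a ∈ M24) :
    {x : Finset GolayPt | x ∈ octads ∧ a p0 ∈ x ∧ a q0 ∉ x}.ncard = 176 := by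
  rw [← ncard_smul_set a (fun x => x ∈ octads ∧ a p0 ∈ x ∧ a q0 ∉ x)]
  simp only [pat_smul ha]
  exact baseY_count

theorem part2 {b : Equiv.Perm GolayPt} (hb : b ∈ M24) (o o' : Finset GolayPt)
    (ho : o ∈ octads ∧ b p0 ∈ o ∧ b q0 ∉ o) (ho' : o' ∈ octads ∧ b p0 ∈ o' ∧ b q0 ∉ o') :
    ∃ g : Equiv.Perm GolayPt, g ∈ M24 ∧ g (b p0) = b p0 ∧ g (b q0) = b q0 ∧ g • o = o' := by
  obtain ⟨r, rfl⟩ : ∃ r, o = b • r := ⟨b⁻¹ • o, (smul_inv_smul b o).symm⟩
  obtain ⟨r', rfl⟩ : ∃ r', o' = b • r' := ⟨b⁻¹ • o', (smul_inv_smul b o').symm⟩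
  rw [pat_smul hb] at ho ho'
  obtain ⟨g₁, hg₁, rfl⟩ := reachY ho.1 ho.2.1 ho.2.2
  obtain ⟨g₂, hg₂, rfl⟩ := reachY ho'.1 ho'.2.1 ho'.2.2
  have hl : g₂ * g₁⁻¹ ∈ L0 := L0.mul_mem hg₂ (L0.inv_mem hg₁)
  obtain ⟨hlp, hlq⟩ := L0_fix hl
  refine ⟨b * (g₂ * g₁⁻¹) * b⁻¹, M24.mul_mem (M24.mul_mem hb (L0_le hl)) (M24.inv_mem hb),
    ?_, ?_, ?_⟩
  · show b ((g₂ * g₁⁻¹) (b⁻¹ (b p0))) = b p0
    simp [hlp]
  · show b ((g₂ * g₁⁻¹) (b⁻¹ (b q0))) = b q0
    simp [hlq]
  · rw [mul_smul, mul_smul, inv_smul_smul, mul_smul, inv_smul_smul]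

theorem count_transport3 {b : Equiv.Perm GolayPt} (hb : b ∈ M24) (j : ℕ) :
    {x : Finset GolayPt | (x ∈ octads ∧ b p0 ∈ x ∧ b q0 ∉ x) ∧ (b • x0 ∩ x).card = j}.ncard =
      {s : Finset GolayPt | (s ∈ octads ∧ p0 ∈ s ∧ q0 ∉ s) ∧ (x0 ∩ s).card = j}.ncard := by
  rw [← ncard_smul_set b (fun x => (x ∈ octads ∧ b p0 ∈ x ∧ b q0 ∉ x) ∧ (b • x0 ∩ x).card = j)]
  simp only [pat_smul hb, card_inter_smul]

theorem part3 {b : Equiv.Perm GolayPt} (hb : b ∈ M24) :
    {x : Finset GolayPt | (x ∈ octads ∧ b p0 ∈ x ∧ b q0 ∉ x) ∧ (b • x0 ∩ x).card = 2}.ncard = 70 ∧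
    {x : Finset GolayPt | (x ∈ octads ∧ b p0 ∈ x ∧ b q0 ∉ x) ∧ (b • x0 ∩ x).card = 4}.ncard = 105 ∧
    ∀ o' o'' : Finset GolayPt, (o' ∈ octads ∧ b p0 ∈ o' ∧ b q0 ∉ o') →
      (o'' ∈ octads ∧ b p0 ∈ o'' ∧ b q0 ∉ o'') → (b • x0 ∩ o').card = (b • x0 ∩ o'').card →
      ∃ g : Equiv.Perm GolayPt, g ∈ M24 ∧ g (b p0) = b p0 ∧ g (b q0) = b q0 ∧
        g • (b • x0) = b • x0 ∧ g • o' = o'' := by
  refine ⟨?_, ?_, ?_⟩
  · rw [count_transport3 hb, base_count2]
  · rw [count_transport3 hb, base_count4]
  · intro o' o'' ho' ho'' hcard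
    obtain ⟨r', rfl⟩ : ∃ r', o' = b • r' := ⟨b⁻¹ • o', (smul_inv_smul b o').symm⟩
    obtain ⟨r'', rfl⟩ : ∃ r'', o'' = b • r'' := ⟨b⁻¹ • o'', (smul_inv_smul b o'').symm⟩
    rw [pat_smul hb] at ho' ho''
    rw [card_inter_smul, card_inter_smul] at hcard
    obtain ⟨g, hg, hgq⟩ := base_trans ho'.1 ho''.1 ho'.2.1 ho''.2.1 ho'.2.2 ho''.2.2 hcard
    have hgx0 : g • x0 = x0 := MulAction.mem_stabilizer_iff.mp hg.2
    obtain ⟨hgp, hgq0⟩ := L0_fix hg.1
    refine ⟨b * g * b⁻¹, M24.mul_mem (M24.mul_mem hb (K0_le hg)) (M24.inv_mem hb),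
      ?_, ?_, ?_, ?_⟩
    · show b (g (b⁻¹ (b p0))) = b p0
      simp [hgp]
    · show b (g (b⁻¹ (b q0))) = b q0
      simp [hgq0]
    · rw [mul_smul, mul_smul, inv_smul_smul, hgx0]
    · rw [mul_smul, mul_smul, inv_smul_smul, hgq]

/-- The two-point stabiliser acts on the 176 octads through the first point avoiding the second with rank 3 and subdegrees 1, 70, 105 (intersections 8, 2, 4). -/
theorem result (p q : Cfsg.GolayPt) (hpq : p ≠ q) : {x : Finset Cfsg.GolayPt | (x ∈ Cfsg.octads ∧ p ∈ x ∧ q ∉ x)}.ncard = 176 ∧ (∀ o o' : Finset Cfsg.GolayPt, (o ∈ Cfsg.octads ∧ p ∈ o ∧ q ∉ o) → (o' ∈ Cfsg.octads ∧ p ∈ o' ∧ q ∉ o') → ∃ g : Equiv.Perm Cfsg.GolayPt, g ∈ Cfsg.M24 ∧ g p = p ∧ g q = q ∧ g • o = o') ∧ ∀ o : Finset Cfsg.GolayPt, (o ∈ Cfsg.octads ∧ p ∈ o ∧ q ∉ o) → {x : Finset Cfsg.GolayPt | (x ∈ Cfsg.octads ∧ p ∈ x ∧ q ∉ x) ∧ (o ∩ x).card = 2}.ncard = 70 ∧ {x : Finset Cfsg.GolayPt | (x ∈ Cfsg.octads ∧ p ∈ x ∧ q ∉ x) ∧ (o ∩ x).card = 4}.ncard = 105 ∧ ∀ o' o'' : Finset Cfsg.GolayPt, (o' ∈ Cfsg.octads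 ∧ p ∈ o' ∧ q ∉ o') → (o'' ∈ Cfsg.octads ∧ p ∈ o'' ∧ q ∉ o'') → (o ∩ o').card = (o ∩ o'').card → ∃ g : Equiv.Perm Cfsg.GolayPt, g ∈ Cfsg.M24 ∧ g p = p ∧ g q = q ∧ g • o = o ∧ g • o' = o'' := by
  obtain ⟨a, ha, rfl, rfl⟩ := m24_two_trans p0_ne_q0 hpq
  refine ⟨part1 ha, fun o o' ho ho' => part2 ha o o' ho ho', ?_⟩
  intro o ho
  obtain ⟨r, rfl⟩ : ∃ r, o = a • r := ⟨a⁻¹ • o, (smul_inv_smul a o).symm⟩
  rw [pat_smul ha] at ho
  obtain ⟨l, hl, rfl⟩ := reachY ho.1 ho.2.1 ho.2.2
  obtain ⟨hlp, hlq⟩ := L0_fix hl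
  have hb : a * l ∈ M24 := M24.mul_mem ha (L0_le hl)
  have key := part3 hb
  have e1 : (a * l) p0 = a p0 := by
    show a (l p0) = a p0
    rw [hlp]
  have e2 : (a * l) q0 = a q0 := by
    show a (l q0) = a q0
    rw [hlq]
  have e3 : (a * l) • x0 = a • l • x0 := mul_smul _ _ _
  rw [e1, e2, e3] at key
  exact key

end Cfsg.Agent.S1605
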