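import Cfsg.Statements.S1606
import Cfsg.Agent.Lib.Helper36.M22Sub
import Cfsg.Agent.Lib.Helper36.M24Tools
import Cfsg.Agent.S1598

set_option autoImplicit false
open scoped Pointwise
open Cfsg

namespace Cfsg.Agent.S1606

open Cfsg.Agent.Lib.Helper10 Cfsg.Agent.Lib.Helper36 Cfsg.Agent.Lib.Helper36.M22Sub

/-- The point stabiliser chain group as a subgroup of the symmetric group. -/
abbrev KK : Subgroup (Equiv.Perm GolayPt) :=
  M24 ⊓ MulAction.stabilizer (Equiv.Perm GolayPt) (none : GolayPt) ⊓
    MulAction.stabilizer (Equiv.Perm GolayPt) (some 0 : GolayPt)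

theorem KK_eq : KK = Spor.M22 := rfl

theorem index_ne {G : Type*} [Group G] (e : G ≃* ↥KK) (H : Subgroup G) :
    H.index ≠ 56 ∧ H.index ≠ 210 := by
  set H' : Subgroup ↥KK := H.map (e : G →* ↥KK) with hH'
  have hidx : H'.index = H.index := Subgroup.index_map_equiv H e
  set Y : Subgroup (Equiv.Perm GolayPt) := H'.map KK.subtype with hYdef
  have hYc : Nat.card Y = Nat.card H' := Subgroup.card_subtype KK H'
  have hYle : Y ≤ Spor.M22 := by
    rw [← KK_eq]; exact Subgroup.map_subtype_le H'
  have hmul := H'.card_mul_index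
  have hK : Nat.card ↥KK = 443520 := by
    have := card_M22
    rw [← KK_eq] at this
    exact this
  rw [hK, hidx, ← hYc] at hmul
  constructor
  · intro h56
    rw [h56] at hmul
    exact no_sub Y hYle (Or.inl (by omega))
  · intro h210
    rw [h210] at hmul
    exact no_sub Y hYle (Or.inr (by omega))

/-- The stabiliser of two points in the group of the length-24 code has no subgroups of index 56 or 210. -/
theorem result (p q : Cfsg.GolayPt) (hpq : p ≠ q) (H : Subgroup ↥(MulAction.stabilizer Cfsg.M24 p ⊓ MulAction.stabilizer Cfsg.M24 q)) : H.index ≠ 56 ∧ H.index ≠ 210 := by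
  obtain ⟨h, hh, rfl, rfl⟩ := m24_two_trans (a := (none : GolayPt)) (b := some 0) (c := p) (d := q)
    (by simp) hpq
  have e : ↥(MulAction.stabilizer Cfsg.M24 (h • (none : GolayPt)) ⊓
      MulAction.stabilizer Cfsg.M24 (h • (some 0 : GolayPt))) ≃* ↥KK :=
    (Cfsg.Agent.S1598.stabEquiv (h • (none : GolayPt)) (h • (some 0 : GolayPt))).trans
      (Cfsg.Agent.S1598.conjEquiv hh (none : GolayPt) (some 0 : GolayPt)).symm
  exact index_ne e H

end Cfsg.Agent.S1606
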