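import Cfsg.Statements.S1607
import Cfsg.Agent.Lib.Helper35.OctadStab
import Cfsg.Agent.Lib.Helper36.M24Tools

set_option autoImplicit false
open scoped Pointwise
open Cfsg

namespace Cfsg.Agent.S1607

open Cfsg.Agent.Lib.Helper10 (idx pt idx_pt idx_lt idx_injective enc enc_mod enc_lt pt_idx)
open Cfsg.Agent.Lib.Helper35
open Cfsg.Agent.Lib.Helper36

/-- The base point. -/
def p0 : GolayPt := pt 0
theorem idx_p0 : idx p0 = 0 := idx_pt (by norm_num)

/-- The stabiliser of the base octad and the base point. -/
def K0 : Subgroup (Equiv.Perm GolayPt) := H0 ⊓ MulAction.stabilizer (Equiv.Perm GolayPt) p0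
theorem K0_le : K0 ≤ M24 := inf_le_left.trans H0_le

/-- Table of a generator of `K0`. -/
def k1T : List ℕ := [0, 4, 2, 1, 10, 17, 5, 3, 23, 9, 7, 19, 12, 8, 11, 16, 13, 21, 14, 22, 6, 20, 18, 15]
/-- Inverse table. -/
def k1T' : List ℕ := [0, 3, 2, 7, 1, 6, 20, 10, 13, 9, 4, 14, 12, 16, 18, 23, 15, 5, 22, 11, 21, 17, 19, 8]
theorem k1_ok : TblOK k1T k1T' := by decide +kernel
/-- A generator of `K0`. -/
def k1 : Equiv.Perm GolayPt := tblPerm k1T k1T' k1_ok
theorem k1_mem : k1 ∈ M24 := tblPerm_mem_M24 _ _ _ (by decide +kernel)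
theorem k1_models : Models gmask k1 (applyTbl k1T) := tblPerm_models _ _ _
theorem k1_fix : k1 • x0 = x0 := by
  apply gmask_injective
  rw [k1_models x0, gmask_x0]
  decide +kernel
theorem k1_fixp : k1 • p0 = p0 := by
  apply idx_injective
  show idx (tblPerm k1T k1T' k1_ok p0) = idx p0
  rw [idx_tblPerm, idx_p0]
  decide +kernel
theorem k1_memK : k1 ∈ K0 := ⟨⟨k1_mem, k1_fix⟩, k1_fixp⟩

/-- Table of a generator of `K0`. -/
def k2T : List ℕ := [0, 12, 1, 3, 4, 16, 19, 2, 8, 18, 7, 14, 10, 23, 13, 5, 9, 11, 15, 20, 21, 22, 6, 17]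
/-- Inverse table. -/
def k2T' : List ℕ := [0, 2, 7, 3, 4, 15, 22, 10, 8, 16, 12, 17, 1, 14, 11, 18, 5, 23, 9, 6, 19, 20, 21, 13]
theorem k2_ok : TblOK k2T k2T' := by decide +kernel
/-- A generator of `K0`. -/
def k2 : Equiv.Perm GolayPt := tblPerm k2T k2T' k2_ok
theorem k2_mem : k2 ∈ M24 := tblPerm_mem_M24 _ _ _ (by decide +kernel)
theorem k2_models : Models gmask k2 (applyTbl k2T) := tblPerm_models _ _ _
theorem k2_fix : k2 • x0 = x0 := by
  apply gmask_injective
  rw [k2_models x0, gmask_x0]
  decide +kernel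
theorem k2_fixp : k2 • p0 = p0 := by
  apply idx_injective
  show idx (tblPerm k2T k2T' k2_ok p0) = idx p0
  rw [idx_tblPerm, idx_p0]
  decide +kernel
theorem k2_memK : k2 ∈ K0 := ⟨⟨k2_mem, k2_fix⟩, k2_fixp⟩

/-- The generator actions on masks. -/
def actsK : List (ℕ → ℕ) := [applyTbl k1T, applyTbl k2T]
/-- The generators of `K0`. -/
def gensK : List (Equiv.Perm GolayPt) := [k1, k2]
theorem gensK_models :
    List.Forall₂ (fun g act => g ∈ K0 ∧ Models gmask g act) gensK actsK :=
  List.Forall₂.cons ⟨k1_memK, k1_models⟩ (List.Forall₂.cons ⟨k2_memK, k2_models⟩ (List.Forall₂.nil))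

/-- Mask of the representative octad meeting the base octad in 4 points. -/
def r4m : ℕ := 5902343
/-- The representative octad. -/
def r4 : Finset GolayPt := setOfMask r4m
theorem gmask_r4 : gmask r4 = r4m := gmask_setOfMask (by decide)
theorem r4_mem : r4 ∈ octads := by
  rw [mem_octads_iff, gmask_r4]
  decide +kernel
/-- Orbit certificate. -/
def cert4 : List (ℕ × ℕ) := [(0, 6557781), (0, 1332261), (0, 153797), (0, 2627629), (1, 5325835), (0, 272595), (0, 542009), (0, 12717187), (0, 2916505), (1, 5275709), (0, 459847), (0, 2121909), (0, 1182989), (0, 11010247), (2, 0), (1, 2115979), (0, 9963547), (0, 4752467), (0, 4523185), (0, 418953), (1, 8431757), (0, 622863), (0, 12656663), (0, 304405), (0, 8471941), (1, 140167), (0, 10486557), (0, 9471495), (0, 99029), (0, 75309), (1, 8716939), (0, 57883), (0, 69395), (0, 8922769), (0, 4229001), (1, 262637), (0, 8536111), (0, 2263063), (0, 3736597), (0, 5252293), (2, 0), (1, 7340691), (0, 1312345), (0, 18147), (0, 133817), (0, 2754059), (1, 5511305), (0, 806987), (0, 4216883),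 (0, 924689), (0, 6837377), (2, 0), (1, 1100945), (0, 593097), (0, 4726955), (0, 4587803), (0, 10765331), (1, 4370577), (0, 2430217), (0, 9465987), (0, 39257), (0, 8983587), (1, 1250945), (0, 2110153), (0, 1053483), (0, 8524371), (0, 2135601), (2, 0), (2, 0), (2, 0), (1, 13370381), (0, 4505735), (0, 346141), (0, 551943), (0, 4721045), (1, 1065303), (0, 8391797), (0, 689317), (0, 6488205), (0, 3416079), (1, 14716939), (0, 1413139), (0, 95313), (0, 15777), (0, 9048457), (2, 0), (2, 0), (2, 0), (2, 0), (1, 4330601), (0, 2494627), (0, 3297305), (0, 3152963), (0, 1577201), (2, 0), (2, 0), (1, 6302745), (0, 1836419), (0, 12599513), (0, 298027), (0, 737427), (1, 1063445), (0, 530245), (0, 12587685), (0, 430605), (0, 2183687), (1, 4470275), (0, 283537), (0, 8412681), (0, 563843), (0, 4788761), (2, 0), (2, 0), (2, 0), (2, 0), (1, 8688833), (0, 118953), (0, 210955), (0, 2634003), (0, 13636881), (1, 2229713), (0, 11535529), (0, 1212619), (0, 2162811), (0, 1188915), (1, 10557585), (0, 1618953), (0, 4264387), (0, 8663097), (0, 185603),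 (2, 0), (1, 8619033), (0, 2204803), (0, 1122713), (0, 8398155), (0, 8421811), (1, 201013), (0, 10630149), (0, 3182981), (0, 9506893), (0, 45159), (2, 0), (2, 0), (1, 6292775), (0, 9830549), (0, 2147405), (0, 1116327), (0, 663645), (2, 0), (2, 0), (2, 0), (2, 0), (2, 0), (2, 0), (2, 0), (2, 0), (2, 0), (2, 0), (2, 0), (2, 0), (2, 0), (2, 0), (2, 0), (2, 0), (1, 4343317), (0, 2363013), (0, 1589901), (0, 4196943), (0, 786999), (2, 0), (2, 0), (2, 0), (2, 0), (2, 0), (2, 0), (2, 0), (2, 0), (2, 0), (2, 0), (2, 0), (2, 0), (2, 0), (2, 0), (2, 0), (2, 0), (2, 0), (2, 0), (2, 0), (2, 0), (2, 0), (2, 0), (2, 0), (2, 0), (2, 0), (2, 0), (2, 0), (2, 0), (1, 4299781), (0, 864389), (0, 4223245), (0, 8657159), (0, 8966165)]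
/-- Bitmap of the orbit. -/
def bm4 : ℕ := 4728825271786158716812514079020801148296351690429455741293824866175555057054229024350811282946264475234076416792333313046369660964689217127195426606356137445174923909211876328789854708208437388736603459293047452161145433067609112413113680488879182585767857827493412549300721582574990963226866258329475728638236865937754446408194432561634771784449587670608068456257904424927008843993661994200940241934760433408645180158022067741331166902395199705250890929913765590320692590281711343925109232744252044531209459622116192493295526885207755408243280515609650510357029775812005541959431385425126766099638116227514733413822424482173750027678074444639756586034675766500838780943547675761590896573207626526187339686431635935589430346625743607214539521692238280563194358795738386024415956732144959008024259779489969477203670729368073694238530974969085029147906316758721741039010428505494585715324118116563128176355454635043524010364511803358549326639056070046042544131497127030109610347275973367576604241897992267370271982810894758653781962677233446908738734331607795796098511223059190971737472318928109138436774122590479641400959193779179920189871434635039348713648064640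
theorem cert4_ok : checkDFS actsK cert4 [r4m] = true := by decide +kernel
theorem bm4_ok : idxBitmap (r4m :: pushed 2 cert4) = bm4 := by decide +kernel
theorem reach4 {p : Finset GolayPt} (hp : p ∈ octads)
    (hbit : bm4.testBit (gmask p % 4096) = true) : ∃ g ∈ K0, g • r4 = p := by
  apply exists_smul_eq_of_cert_bitmap K0_le gensK_models r4 r4_mem.1 cert4
  · rw [gmask_r4]; exact cert4_ok
  · exact hp.1
  · rw [gmask_r4]
    show (idxBitmap (r4m :: pushed 2 cert4)).testBit _ = true
    rw [bm4_ok]
    exact hbit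

/-- Mask of the representative octad meeting the base octad in 2 points. -/
def r2m : ℕ := 13062145
/-- The representative octad. -/
def r2 : Finset GolayPt := setOfMask r2m
theorem gmask_r2 : gmask r2 = r2m := gmask_setOfMask (by decide)
theorem r2_mem : r2 ∈ octads := by
  rw [mem_octads_iff, gmask_r2]
  decide +kernel
/-- Orbit certificate. -/
def cert2 : List (ℕ × ℕ) := [(0, 2422785), (0, 1661185), (0, 13121601), (0, 5017889), (1, 1148257), (0, 8593633), (0, 2269481), (0, 11731203), (0, 11575377), (1, 15335473), (0, 7767041), (0, 3489985), (0, 1075305), (0, 657763), (2, 0), (1, 11100169), (0, 5286147), (0, 9240913), (0, 12641313), (0, 493953), (1, 52005), (0, 9112069), (0, 6857221), (0, 5571333), (0, 8675909), (1, 9347075), (0, 6406417), (0, 9776129), (0, 582081), (0, 12650793), (1, 213833), (0, 10496547), (0, 1737489), (0, 14747201), (0, 1352353), (1, 10846245), (0, 1302533), (0, 2173253), (0, 9969957), (0, 12747077), (2, 0), (2, 0), (1, 13124355), (0, 12880401), (0, 902657), (0, 4287105), (0, 797449), (1, 9748745),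 (0, 8505411), (0, 632881), (0, 4924673), (0, 14950785), (2, 0), (1, 9440193), (0, 8946281), (0, 4424227), (0, 2564625), (0, 3172097), (2, 0), (2, 0), (1, 334433), (0, 684577), (0, 6429441), (0, 12325377), (0, 5296705), (1, 2892897), (0, 5390753), (0, 10881097), (0, 3719203), (0, 5441617), (1, 2640465), (0, 5770785), (0, 5112513), (0, 6570537), (0, 1460739), (2, 0), (1, 4563017), (0, 352547), (0, 8546577), (0, 11046145), (0, 14254209), (1, 3277413), (1, 7145475), (0, 6053905), (0, 4476225), (0, 9193633), (0, 4900873), (2, 0), (2, 0), (2, 0), (2, 0), (2, 0), (2, 0), (2, 0), (2, 0), (2, 0), (1, 8499969), (1, 8783649), (0, 10666625), (0, 3246601), (0, 1647171), (0, 4203377), (2, 0), (2, 0), (2, 0), (1, 4597797), (0, 3031301), (0, 15747077), (0, 1869893), (0, 4800613), (2, 0), (2, 0), (1, 6447171), (0, 3410225), (0, 10110017), (0, 6326497), (0, 2031657), (2, 0), (2, 0), (1, 3811457), (0, 7864649), (0, 13893731), (0, 442481), (0, 2313249), (2, 0), (2, 0), (1, 2854977), (0, 7417889), (0, 1454401), (0, 10506593), (0, 9607201),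 (2, 0), (2, 0), (2, 0), (2, 0), (2, 0), (2, 0), (2, 0), (2, 0), (2, 0), (2, 0), (2, 0), (2, 0), (2, 0), (2, 0), (2, 0), (2, 0), (2, 0), (2, 0), (2, 0), (2, 0), (2, 0), (2, 0), (2, 0), (2, 0), (2, 0), (2, 0), (2, 0), (2, 0), (2, 0), (2, 0), (2, 0), (2, 0), (2, 0), (2, 0), (2, 0), (2, 0), (2, 0), (1, 9519665), (0, 175681), (0, 2687905), (0, 13771273), (0, 2392899)]
/-- Bitmap of the orbit. -/
def bm2 : ℕ := 2873784367139918680877487380469977790455879264525098904009430635341324323490206581967675351781070621664687740025261379553432120490253308424646704987946053116588060317671295481487233175863114339411504356701451084740194545084903479273249580348488576457314932084093938881340165810021978864174006440122088704239629825661181478094291260119916240299933611281999341371639336484479834782263130138202097153379510215255794552779320472070375478963919902976937736359560799629178315716127702338757393541178957573889483327242973981448174004344193889236520048811981326024370438364401905770664912764646926639266663897869461887563970859263253212246847531594191344798718510140817833533377387503508715321140772448685274081985815962727737097267647674603138346377555212494875211123897405509554903051309868032767483594245194288921457287130689071495832293218709686152676074373021903864481671600975438284796331651161484871579242183407187047918579751612515662771096649238964947273561630573253844833633379470596692802946495329009837987045518130885108731287052762321742105668302138039299126089325099966663817947450152052720170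
theorem cert2_ok : checkDFS actsK cert2 [r2m] = true := by decide +kernel
theorem bm2_ok : idxBitmap (r2m :: pushed 2 cert2) = bm2 := by decide +kernel
theorem reach2 {p : Finset GolayPt} (hp : p ∈ octads)
    (hbit : bm2.testBit (gmask p % 4096) = true) : ∃ g ∈ K0, g • r2 = p := by
  apply exists_smul_eq_of_cert_bitmap K0_le gensK_models r2 r2_mem.1 cert2
  · rw [gmask_r2]; exact cert2_ok
  · exact hp.1
  · rw [gmask_r2]
    show (idxBitmap (r2m :: pushed 2 cert2)).testBit _ = true
    rw [bm2_ok]
    exact hbit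

/-- Orbit certificate for the base point under the stabiliser of the base octad. -/
def ptCert : List (ℕ × ℕ) := [(1, 7), (0, 2), (1, 3), (0, 12), (0, 1), (1, 10), (0, 4)]
theorem ptCert_ok : checkDFS [fun i => s1T.getD i 0, fun i => s2T.getD i 0] ptCert [idx p0] = true := by
  rw [idx_p0]; decide +kernel
theorem ptCert_complete : ∀ i : Fin 24, o0.testBit i = true → i.val ∈ idx p0 :: pushed 2 ptCert := by
  rw [idx_p0]; decide +kernel

/-- Classification of the octads through the base point by their intersection with the base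
octad. -/
def classCheck (m : ℕ) : Bool :=
  (popc 24 m != 8) || !(m.testBit 0) ||
    ((popc 24 (o0 &&& m) == 8 && m == o0) ||
     (popc 24 (o0 &&& m) == 4 && bm4.testBit (m % 4096)) ||
     (popc 24 (o0 &&& m) == 2 && bm2.testBit (m % 4096)))

theorem classCheck_all : (List.range 4096).all (fun k => classCheck (enc k)) = true := by
  decide +kernel

/-- Representative of the class of octads meeting the base octad in `j` points. -/
def repOf (j : ℕ) : Finset GolayPt := if j = 8 then x0 else if j = 4 then r4 else r2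

theorem reach_rep {p : Finset GolayPt} (hp : p ∈ octads) (hp0 : p0 ∈ p) :
    ∃ g ∈ K0, g • repOf (x0 ∩ p).card = p := by
  have h := forall_supports_bool classCheck classCheck_all p hp.1
  have hcard : (x0 ∩ p).card = popc 24 (o0 &&& gmask p) := by
    rw [card_inter_eq_popc, gmask_x0]
  have hbit : (gmask p).testBit 0 = true := by
    have := (mem_iff_testBit_gmask p0 p).mp hp0
    rwa [idx_p0] at this
  unfold classCheck at h
  simp only [Bool.or_eq_true, Bool.and_eq_true, beq_iff_eq, bne_iff_ne, ne_eq,
    Bool.not_eq_true'] at h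
  rcases h with (h | h) | h
  · rw [← card_eq_popc_gmask, hp.2] at h
    exact absurd rfl h
  · rw [hbit] at h
    exact absurd h (by decide)
  · rcases h with (⟨hj, hm⟩ | ⟨hj, hb⟩) | ⟨hj, hb⟩
    · rw [← hcard] at hj
      refine ⟨1, K0.one_mem, ?_⟩
      rw [hj, one_smul]
      show x0 = p
      apply gmask_injective
      rw [gmask_x0, hm]
    · rw [← hcard] at hj
      rw [hj]
      exact reach4 hp hb
    · rw [← hcard] at hj
      rw [hj]
      exact reach2 hp hb

theorem base_trans {p' p'' : Finset GolayPt} (h' : p' ∈ octads) (h'' : p'' ∈ octads)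
    (hp' : p0 ∈ p') (hp'' : p0 ∈ p'') (h : (x0 ∩ p').card = (x0 ∩ p'').card) :
    ∃ g ∈ K0, g • p' = p'' := by
  obtain ⟨g₁, hg₁, e₁⟩ := reach_rep h' hp'
  obtain ⟨g₂, hg₂, e₂⟩ := reach_rep h'' hp''
  refine ⟨g₂ * g₁⁻¹, K0.mul_mem hg₂ (K0.inv_mem hg₁), ?_⟩
  rw [mul_smul, ← e₁, inv_smul_smul, h, e₂]

theorem ptModels : List.Forall₂ (fun g act => g ∈ H0 ∧ Models (G := Equiv.Perm GolayPt) idx g act)
    [s1, s2] [fun i => s1T.getD i 0, fun i => s2T.getD i 0] :=
  List.Forall₂.cons ⟨s1_memH, fun x => idx_tblPerm s1T s1T' s1_ok x⟩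
    (List.Forall₂.cons ⟨s2_memH, fun x => idx_tblPerm s2T s2T' s2_ok x⟩ List.Forall₂.nil)

theorem flag_trans {x : GolayPt} {o : Finset GolayPt} (ho : o ∈ octads) (hx : x ∈ o) :
    ∃ a ∈ M24, a • x0 = o ∧ a p0 = x := by
  obtain ⟨a₁, ha₁, rfl⟩ := exists_smul_x0_eq ho
  have hy : a₁⁻¹ x ∈ x0 := by
    have h1 : a₁ (a₁⁻¹ x) ∈ a₁ • x0 := by simpa using hx
    exact (perm_mem_smul_iff a₁ _ _).mp h1
  have hbit : o0.testBit (idx (a₁⁻¹ x)) = true := by
    have := (mem_iff_testBit_gmask _ _).mp hy
    rwa [gmask_x0] at this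
  have hmem := ptCert_complete ⟨idx (a₁⁻¹ x), idx_lt _⟩ hbit
  obtain ⟨h, hh, hidx⟩ := orbit_of_cert ptModels p0 ptCert ptCert_ok _ hmem
  have hhp : h p0 = a₁⁻¹ x := idx_injective hidx
  refine ⟨a₁ * h, M24.mul_mem ha₁ (H0_le hh), ?_, ?_⟩
  · rw [mul_smul]
    have : h • x0 = x0 := MulAction.mem_stabilizer_iff.mp hh.2
    rw [this]
  · show a₁ (h p0) = x
    rw [hhp]
    simp

/-- Boolean test for the counting. -/
def cntF (j : ℕ) (m : ℕ) : Bool := popc 24 m == 8 && m.testBit 0 && popc 24 (o0 &&& m) == j

theorem base_set_eq (j : ℕ) :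
    {s : Finset GolayPt | s ∈ octads ∧ p0 ∈ s ∧ (x0 ∩ s).card = j} =
      {s | s ∈ supports (golayCode : Set (GolayPt → ZMod 2)) ∧ cntF j (gmask s) = true} := by
  ext s
  have h1 : s ∈ octads ↔ s ∈ supports (golayCode : Set (GolayPt → ZMod 2)) ∧
      popc 24 (gmask s) = 8 := by
    rw [← card_eq_popc_gmask]; rfl
  have h2 : p0 ∈ s ↔ (gmask s).testBit 0 = true := by
    rw [mem_iff_testBit_gmask p0 s, idx_p0]
  have h3 : (x0 ∩ s).card = popc 24 (o0 &&& gmask s) := by
    rw [card_inter_gmask, gmask_x0]
  have h4 : cntF j (gmask s) = true ↔ popc 24 (gmask s) = 8 ∧ (gmask s).testBit 0 = true ∧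
      popc 24 (o0 &&& gmask s) = j := by
    unfold cntF
    simp only [Bool.and_eq_true, beq_iff_eq, and_assoc]
  rw [Set.mem_ofPred_eq, Set.mem_ofPred_eq, h1, h2, h3, h4, and_assoc]

theorem count2 : ((List.range 4096).filter (fun k => cntF 2 (enc k))).length = 112 := by
  decide +kernel

theorem count4 : ((List.range 4096).filter (fun k => cntF 4 (enc k))).length = 140 := by
  decide +kernel

theorem base_count2 : {s : Finset GolayPt | s ∈ octads ∧ p0 ∈ s ∧ (x0 ∩ s).card = 2}.ncard = 112 := by
  rw [base_set_eq, count_supports, count2]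

theorem base_count4 : {s : Finset GolayPt | s ∈ octads ∧ p0 ∈ s ∧ (x0 ∩ s).card = 4}.ncard = 140 := by
  rw [base_set_eq, count_supports, count4]

theorem count_transport {a : Equiv.Perm GolayPt} (ha : a ∈ M24) (j : ℕ) :
    {o' : Finset GolayPt | o' ∈ octads ∧ a p0 ∈ o' ∧ (a • x0 ∩ o').card = j}.ncard =
      {s : Finset GolayPt | s ∈ octads ∧ p0 ∈ s ∧ (x0 ∩ s).card = j}.ncard := by
  rw [← ncard_smul_set a (fun o' => o' ∈ octads ∧ a p0 ∈ o' ∧ (a • x0 ∩ o').card = j)]
  simp only [smul_mem_octads_iff ha, perm_mem_smul_iff, card_inter_smul]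

/-- The point stabiliser acts on the 253 heptads of its S(4, 7, 23) with rank 3 and subdegrees 1, 112, 140 (intersections 8, 2, 4). -/
theorem result (x : Cfsg.GolayPt) (o : Finset Cfsg.GolayPt) (ho : o ∈ Cfsg.octads) (hx : x ∈ o) : {o' : Finset Cfsg.GolayPt | o' ∈ Cfsg.octads ∧ x ∈ o' ∧ (o ∩ o').card = 2}.ncard = 112 ∧ {o' : Finset Cfsg.GolayPt | o' ∈ Cfsg.octads ∧ x ∈ o' ∧ (o ∩ o').card = 4}.ncard = 140 ∧ ∀ o' o'' : Finset Cfsg.GolayPt, o' ∈ Cfsg.octads → o'' ∈ Cfsg.octads → x ∈ o' → x ∈ o'' → (o ∩ o').card = (o ∩ o'').card → ∃ g : Equiv.Perm Cfsg.GolayPt, g ∈ Cfsg.M24 ∧ g x = x ∧ g • o = o ∧ g • o' = o'' := by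
  obtain ⟨a, ha, rfl, rfl⟩ := flag_trans ho hx
  refine ⟨?_, ?_, ?_⟩
  · rw [count_transport ha, base_count2]
  · rw [count_transport ha, base_count4]
  · intro o' o'' ho' ho'' hx' hx'' hcard
    obtain ⟨q', rfl⟩ : ∃ q', o' = a • q' := ⟨a⁻¹ • o', (smul_inv_smul a o').symm⟩
    obtain ⟨q'', rfl⟩ : ∃ q'', o'' = a • q'' := ⟨a⁻¹ • o'', (smul_inv_smul a o'').symm⟩
    rw [smul_mem_octads_iff ha] at ho' ho''
    rw [perm_mem_smul_iff] at hx' hx''
    rw [card_inter_smul, card_inter_smul] at hcard
    obtain ⟨g, hg, hgq⟩ := base_trans ho' ho'' hx' hx'' hcard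
    have hgx0 : g • x0 = x0 := MulAction.mem_stabilizer_iff.mp hg.1.2
    have hgp0 : g p0 = p0 := MulAction.mem_stabilizer_iff.mp hg.2
    refine ⟨a * g * a⁻¹, M24.mul_mem (M24.mul_mem ha (K0_le hg)) (M24.inv_mem ha), ?_, ?_, ?_⟩
    · show a (g (a⁻¹ (a p0))) = a p0
      simp [hgp0]
    · rw [mul_smul, mul_smul, inv_smul_smul, hgx0]
    · rw [mul_smul, mul_smul, inv_smul_smul, hgq]

end Cfsg.Agent.S1607
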