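import Cfsg.Statements.S1608
import Cfsg.Agent.Lib.Helper35.OctadStab
import Cfsg.Agent.Lib.Helper36.M24Tools

set_option autoImplicit false
open scoped Pointwise
open Cfsg

namespace Cfsg.Agent.S1608

open Cfsg.Agent.Lib.Helper10 (idx pt idx_pt idx_lt idx_injective enc enc_mod enc_lt pt_idx)
open Cfsg.Agent.Lib.Helper35
open Cfsg.Agent.Lib.Helper36

/-- The base point. -/
def p0 : GolayPt := pt 5
theorem idx_p0 : idx p0 = 5 := idx_pt (by norm_num)

/-- The stabiliser of the base octad and the base point. -/
def K0 : Subgroup (Equiv.Perm GolayPt) := H0 ⊓ MulAction.stabilizer (Equiv.Perm GolayPt) p0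
theorem K0_le : K0 ≤ M24 := inf_le_left.trans H0_le

/-- Table of a generator of `K0`. -/
def k1T : List ℕ := [7, 3, 2, 1, 4, 5, 14, 12, 8, 16, 0, 13, 10, 11, 15, 22, 20, 9, 19, 23, 17, 18, 6, 21]
/-- Inverse table. -/
def k1T' : List ℕ := [10, 3, 2, 1, 4, 5, 22, 0, 8, 17, 12, 13, 7, 11, 6, 14, 9, 20, 21, 18, 16, 23, 15, 19]
theorem k1_ok : TblOK k1T k1T' := by decide +kernel
/-- A generator of `K0`. -/
def k1 : Equiv.Perm GolayPt := tblPerm k1T k1T' k1_ok
theorem k1_mem : k1 ∈ M24 := tblPerm_mem_M24 _ _ _ (by decide +kernel)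
theorem k1_models : Models gmask k1 (applyTbl k1T) := tblPerm_models _ _ _
theorem k1_fix : k1 • x0 = x0 := by
  apply gmask_injective
  rw [k1_models x0, gmask_x0]
  decide +kernel
theorem k1_fixp : k1 • p0 = p0 := by
  apply idx_injective
  show idx (tblPerm k1T k1T' k1_ok p0) = idx p0
  rw [idx_tblPerm, idx_p0]
  decide +kernel
theorem k1_memK : k1 ∈ K0 := ⟨⟨k1_mem, k1_fix⟩, k1_fixp⟩

/-- Table of a generator of `K0`. -/
def k2T : List ℕ := [0, 7, 12, 3, 1, 5, 13, 4, 23, 21, 2, 6, 10, 11, 14, 8, 19, 16, 18, 17, 20, 22, 9, 15]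
/-- Inverse table. -/
def k2T' : List ℕ := [0, 4, 10, 3, 7, 5, 11, 1, 15, 22, 12, 13, 2, 6, 14, 23, 17, 19, 18, 16, 20, 9, 21, 8]
theorem k2_ok : TblOK k2T k2T' := by decide +kernel
/-- A generator of `K0`. -/
def k2 : Equiv.Perm GolayPt := tblPerm k2T k2T' k2_ok
theorem k2_mem : k2 ∈ M24 := tblPerm_mem_M24 _ _ _ (by decide +kernel)
theorem k2_models : Models gmask k2 (applyTbl k2T) := tblPerm_models _ _ _
theorem k2_fix : k2 • x0 = x0 := by
  apply gmask_injective
  rw [k2_models x0, gmask_x0]
  decide +kernel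
theorem k2_fixp : k2 • p0 = p0 := by
  apply idx_injective
  show idx (tblPerm k2T k2T' k2_ok p0) = idx p0
  rw [idx_tblPerm, idx_p0]
  decide +kernel
theorem k2_memK : k2 ∈ K0 := ⟨⟨k2_mem, k2_fix⟩, k2_fixp⟩

/-- The generator actions on masks. -/
def actsK : List (ℕ → ℕ) := [applyTbl k1T, applyTbl k2T]
/-- The generators of `K0`. -/
def gensK : List (Equiv.Perm GolayPt) := [k1, k2]
theorem gensK_models :
    List.Forall₂ (fun g act => g ∈ K0 ∧ Models gmask g act) gensK actsK :=
  List.Forall₂.cons ⟨k1_memK, k1_models⟩ (List.Forall₂.cons ⟨k2_memK, k2_models⟩ (List.Forall₂.nil))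

/-- Mask of the representative octad meeting the base octad in 0 points. -/
def r0m : ℕ := 15515712
/-- The representative octad. -/
def r0 : Finset GolayPt := setOfMask r0m
theorem gmask_r0 : gmask r0 = r0m := gmask_setOfMask (by decide)
theorem r0_mem : r0 ∈ octads := by
  rw [mem_octads_iff, gmask_r0]
  decide +kernel
/-- Orbit certificate. -/
def cert0 : List (ℕ × ℕ) := [(1, 4645632), (0, 4819776), (0, 13721920), (0, 3328320), (2, 0), (1, 10021376), (0, 14919680), (0, 7612992), (0, 1009728), (2, 0), (2, 0), (2, 0), (2, 0), (2, 0), (1, 11150144), (0, 10832640), (0, 4038912), (0, 14551296), (1, 9929280), (0, 8077824)]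
/-- Bitmap of the orbit. -/
def bm0 : ℕ := 925523631809047918557981651627876536483001466661918157877258770960968579468917741260961095730231473405878187939375898658553984884966232037371903956619784413527596326016026494120882305181697933786791646330352308608056187605430954244461022845816174428346617994618730047908259719334793262704375088278985635985814752378409991240194567158276031186365617944481460664684851894073557072143596789702132088629871808047210016626698563286841647284336358392523079654574097462224349060183414123583787509320302715078662657776912375588668436212469765427682733300088927514492879601237748345267440939874772080741814600681640421877326482250782197254785224588181090908361117664598059277029075088972326494802221234508216754443855563644815163187339947505911650292191376796667633822812810714587502381639735604959530873467565741438412516418682848731015849022366528868046430268518361506775040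
theorem cert0_ok : checkDFS actsK cert0 [r0m] = true := by decide +kernel
theorem bm0_ok : idxBitmap (r0m :: pushed 2 cert0) = bm0 := by decide +kernel
theorem reach0 {p : Finset GolayPt} (hp : p ∈ octads)
    (hbit : bm0.testBit (gmask p % 4096) = true) : ∃ g ∈ K0, g • r0 = p := by
  apply exists_smul_eq_of_cert_bitmap K0_le gensK_models r0 r0_mem.1 cert0
  · rw [gmask_r0]; exact cert0_ok
  · exact hp.1
  · rw [gmask_r0]
    show (idxBitmap (r0m :: pushed 2 cert0)).testBit _ = true
    rw [bm0_ok]
    exact hbit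

/-- Mask of the representative octad meeting the base octad in 4 points. -/
def r4m : ℕ := 5902343
/-- The representative octad. -/
def r4 : Finset GolayPt := setOfMask r4m
theorem gmask_r4 : gmask r4 = r4m := gmask_setOfMask (by decide)
theorem r4_mem : r4 ∈ octads := by
  rw [mem_octads_iff, gmask_r4]
  decide +kernel
/-- Orbit certificate. -/
def cert4 : List (ℕ × ℕ) := [(0, 8521420), (0, 2183687), (0, 1410188), (1, 1839388), (0, 9045270), (0, 10486557), (0, 2425238), (1, 13373586), (0, 11015256), (0, 10765331), (0, 2916505), (1, 4587803), (0, 525274), (0, 8474906), (0, 3179802), (1, 13631886), (0, 2232654), (0, 280334), (0, 622863), (1, 9048457), (0, 10491778), (0, 2430217), (0, 1836419), (1, 9830549), (0, 2757268), (0, 8721940), (0, 3736597), (2, 0), (1, 2921478), (0, 13370381), (0, 11010247), (0, 10768524), (1, 4510744), (0, 4752467), (0, 12599513), (0, 2150610), (1, 4220306), (0, 39257), (1, 8398155), (0, 2115979), (0, 307594), (0, 4726026), (2, 0), (1, 8654232), (0, 2634003), (1, 12717187), (0, 2110153), (0,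 351362), (0, 1618953), (1, 1182989), (0, 140167), (0, 72588), (0, 1127686), (1, 9968772), (0, 10630149), (0, 2363013), (0, 864389), (1, 924689), (0, 8922769), (0, 10557585), (0, 3421328), (1, 5508118), (0, 663645), (0, 8407702), (0, 2207772), (2, 0), (2, 0), (1, 210955), (0, 1060490), (1, 3147996), (0, 421910), (0, 560668), (0, 12656663), (1, 563843), (0, 12661896), (0, 3152963), (0, 418953), (1, 346141), (0, 1613974), (0, 12720156), (0, 2106966), (1, 6305926), (0, 277580), (0, 551943), (0, 8431757), (2, 0), (1, 153797), (0, 63108), (0, 4299781), (0, 5252293), (1, 1063445), (0, 208020), (1, 596054), (0, 9462812), (0, 2263063), (0, 4465308), (1, 2365978), (0, 861210), (0, 9963547), (0, 10625178), (1, 4294810), (0, 5255258), (0, 150618), (0, 57883), (2, 0), (1, 90318), (0, 1103886), (0, 4367374), (0, 4196943), (2, 0), (2, 0), (1, 1070536), (0, 185603), (0, 4229001), (0, 4264387), (2, 0), (2, 0), (1, 8471941), (0, 3182981), (0, 4593028), (0, 530245), (2, 0), (2, 0), (1, 13636881), (0, 2229713), (0, 283537), (0, 628112),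 (2, 0), (2, 0), (2, 0), (1, 9471495), (0, 6488205), (0, 1315526), (0, 742412), (2, 0), (2, 0), (1, 4788761), (0, 9503954), (0, 3297305), (0, 427666), (2, 0), (1, 5325835), (0, 1212619), (0, 4346506), (0, 104010), (1, 2631052), (0, 8657159), (1, 8688833), (0, 6837377), (1, 4343317), (0, 99029), (0, 5329044), (0, 1217620), (2, 0), (1, 1594898), (0, 8619033), (0, 7340691), (0, 463064), (2, 0), (2, 0), (2, 0), (1, 3294342), (0, 430605), (0, 4785798), (0, 9506893), (2, 0), (2, 0), (2, 0), (2, 0), (2, 0), (2, 0), (2, 0), (2, 0), (2, 0), (1, 304405), (0, 4721045), (0, 8401364), (0, 2120980), (1, 12604486), (0, 2147405), (0, 4505735), (0, 4755660), (1, 145176), (0, 69395), (0, 1122713), (0, 1186194), (2, 0), (2, 0), (2, 0), (1, 10554382), (0, 3416079), (0, 919694), (0, 8925710), (1, 2268296), (0, 4470275), (0, 593097), (0, 9465987), (1, 1100945), (0, 4370577), (0, 4202192), (0, 95313), (2, 0), (2, 0), (2, 0), (1, 1065303), (0, 180636), (0, 4231958), (0, 4261212), (2, 0), (2, 0), (2, 0), (2, 0), (2, 0), (2, 0), (2, 0), (2, 0),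 (2, 0), (2, 0), (2, 0), (1, 5511305), (0, 668866), (0, 8412681), (0, 2204803), (2, 0), (2, 0), (2, 0), (1, 1312345), (0, 737427), (0, 9474712), (0, 6493202), (2, 0), (2, 0), (2, 0), (2, 0), (2, 0), (2, 0), (2, 0), (2, 0), (2, 0), (2, 0), (1, 4223245), (0, 36294), (2, 0), (2, 0), (2, 0), (2, 0), (2, 0), (1, 8436754), (0, 6302745), (0, 272595), (0, 555160), (2, 0), (2, 0), (2, 0), (2, 0), (2, 0), (1, 8524371), (0, 2180760), (0, 1413139), (0, 5899416), (1, 1245726), (1, 3739786), (0, 9835530), (0, 2754059), (0, 8716939), (2, 0), (2, 0), (2, 0), (2, 0), (2, 0), (2, 0), (2, 0), (1, 6832158), (0, 8683614), (2, 0), (2, 0), (2, 0), (2, 0), (2, 0), (2, 0), (2, 0), (2, 0), (2, 0), (2, 0), (2, 0), (2, 0), (1, 1589901), (0, 8622214), (0, 7345676), (0, 459847), (2, 0), (2, 0), (2, 0), (2, 0), (2, 0), (2, 0), (2, 0), (2, 0), (2, 0), (2, 0), (2, 0), (2, 0), (1, 8966165), (0, 14714004), (0, 6557781), (0, 804052), (2, 0), (2, 0), (2, 0), (2, 0), (2, 0), (2, 0), (2, 0), (2, 0), (2, 0), (2, 0), (2, 0), (2, 0), (2, 0), (2, 0), (2, 0),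 (1, 6554826), (0, 806987), (0, 8963210), (0, 14716939), (2, 0), (2, 0), (2, 0), (2, 0), (2, 0), (2, 0), (2, 0), (2, 0), (2, 0), (2, 0), (2, 0), (2, 0), (2, 0), (2, 0), (2, 0), (2, 0), (2, 0), (2, 0), (2, 0), (2, 0), (2, 0), (2, 0), (2, 0), (2, 0), (2, 0), (2, 0), (2, 0), (2, 0), (2, 0), (2, 0), (2, 0), (2, 0), (2, 0), (2, 0), (2, 0), (2, 0), (2, 0), (2, 0), (2, 0), (2, 0), (2, 0), (2, 0), (2, 0), (2, 0), (2, 0), (2, 0), (2, 0), (2, 0), (2, 0), (2, 0), (2, 0), (2, 0), (2, 0), (2, 0), (2, 0), (2, 0), (2, 0), (2, 0), (2, 0), (2, 0), (2, 0), (2, 0), (2, 0), (2, 0), (2, 0), (2, 0), (2, 0), (2, 0), (2, 0), (2, 0), (2, 0), (2, 0), (2, 0), (2, 0), (2, 0), (2, 0), (2, 0), (2, 0), (2, 0), (2, 0), (2, 0), (2, 0), (2, 0), (2, 0), (2, 0), (2, 0), (2, 0), (2, 0), (2, 0), (2, 0), (2, 0), (1, 1250945)]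
/-- Bitmap of the orbit. -/
def bm4 : ℕ := 4728825271786158716844557845476894331030150950250363976913369894567578730033295048139275560255465987408449929494087689753496600125775964127988626259875683322442905193238949651941616922101964266839885183024024750750696781973844147588242231027931742422330482831647986057082383922943101773354642048184757654638040939515903414607600486973703197205000003575179422913507672965092104983548414207334534944168882021986654504022032712560453462440218837654439991698182913144682655956931621927720376865169218019053570953206493222429480807497030132639236071944898287012175465607501593693876868812051616677259482530454217853675061536754138776828136382183882150859391025771577976091760917127352056908552286932069953862164105972752633646086976277279208272428819738397607395092327583772671678780377148952263347524037053357663672408268977180835482104222122819009687840142426344345814894297324174665198120635777138487686054461705926811173710847395614241820794989824521370439817577215934595739322738904603005884712356157314842607669276116941244523655368763602924874286297288197672140474344142841943192630741979826824371590273369656290441032471399979321431926303411131779633442752640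
theorem cert4_ok : checkDFS actsK cert4 [r4m] = true := by decide +kernel
theorem bm4_ok : idxBitmap (r4m :: pushed 2 cert4) = bm4 := by decide +kernel
theorem reach4 {p : Finset GolayPt} (hp : p ∈ octads)
    (hbit : bm4.testBit (gmask p % 4096) = true) : ∃ g ∈ K0, g • r4 = p := by
  apply exists_smul_eq_of_cert_bitmap K0_le gensK_models r4 r4_mem.1 cert4
  · rw [gmask_r4]; exact cert4_ok
  · exact hp.1
  · rw [gmask_r4]
    show (idxBitmap (r4m :: pushed 2 cert4)).testBit _ = true
    rw [bm4_ok]
    exact hbit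

/-- Mask of the representative octad meeting the base octad in 2 points. -/
def r2m : ℕ := 13062145
/-- The representative octad. -/
def r2 : Finset GolayPt := setOfMask r2m
theorem gmask_r2 : gmask r2 = r2m := gmask_setOfMask (by decide)
theorem r2_mem : r2 ∈ octads := by
  rw [mem_octads_iff, gmask_r2]
  decide +kernel
/-- Orbit certificate. -/
def cert2 : List (ℕ × ℕ) := [(0, 3704512), (1, 7479572), (0, 396116), (0, 615188), (0, 9537812), (1, 9998658), (0, 14828808), (0, 2392899), (0, 5063048), (1, 9323032), (0, 11108882), (0, 16056344), (0, 4063314), (1, 5709954), (0, 1710664), (0, 8611330), (0, 3246601), (1, 7864649), (0, 8798658), (0, 2675464), (0, 12944642), (1, 9208708), (0, 15274244), (0, 11797828), (0, 3031301), (2, 0), (1, 13938692), (0, 6949956), (0, 8675909), (0, 2738308), (1, 4870480), (0, 8439632), (0, 6406417), (0, 5538256), (1, 9708306), (0, 2820376), (1, 13303882), (0, 11551306), (0, 2605066), (0, 6062602), (1, 3539848), (0, 987906), (0, 10028808), (0, 11731203), (1, 14254209), (0, 15864000), (0,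 2512448), (0, 902657), (2, 0), (1, 6644740), (0, 1869893), (0, 13262980), (0, 10525252), (1, 6337856), (0, 4476225), (0, 582081), (0, 12638592), (2, 0), (1, 8546577), (0, 2141072), (0, 4536592), (0, 1584464), (1, 9578566), (0, 2255372), (0, 371206), (0, 5842956), (2, 0), (1, 2890176), (0, 9204992), (0, 11046145), (0, 14950785), (1, 12880401), (0, 6889680), (0, 9721936), (0, 2810896), (1, 4409606), (0, 1090380), (1, 11548936), (0, 2501890), (0, 797449), (0, 8989058), (1, 9078992), (0, 14709264), (0, 2460752), (0, 6053905), (1, 1460739), (0, 762504), (0, 13703682), (0, 3351624), (2, 0), (2, 0), (2, 0), (1, 3489985), (0, 2019456), (0, 13276672), (0, 14747201), (1, 6857221), (0, 12912836), (0, 3698756), (0, 8834052), (1, 381252), (0, 5817604), (0, 12747077), (0, 6308804), (2, 0), (1, 8499969), (0, 7409024), (0, 1454401), (0, 675712), (1, 10698836), (0, 3457556), (0, 5210132), (0, 14156372), (1, 3322370), (0, 4656648), (0, 1647171), (0, 9652360), (1, 1687640), (0, 13811730), (0, 6455896), (0, 4538962), (1, 2908802), (0,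 9279496), (0, 16262146), (0, 10881097), (1, 4563017), (0, 5785794), (0, 8581192), (0, 6344194), (2, 0), (1, 126216), (0, 5286147), (0, 4336072), (0, 31554), (1, 10513600), (0, 2422785), (0, 5024896), (0, 13121601), (1, 175681), (0, 4287105), (0, 1161408), (0, 5405696), (1, 1134148), (0, 1302533), (0, 5409412), (0, 4403780), (1, 2702848), (0, 9776129), (0, 3811457), (0, 8796800), (2, 0), (1, 5441617), (0, 1204944), (0, 252432), (0, 5350928), (1, 3672838), (0, 8855820), (2, 0), (2, 0), (2, 0), (1, 2704706), (0, 9748745), (0, 6979970), (0, 12849992), (1, 10790408), (0, 7145475), (0, 10232008), (0, 11163650), (1, 4441280), (0, 5296705), (1, 3172097), (0, 493953), (0, 5780352), (0, 8592704), (1, 9020484), (0, 15747077), (0, 2531524), (0, 5003780), (2, 0), (2, 0), (2, 0), (1, 702724), (0, 12594948), (0, 2173253), (0, 1337732), (2, 0), (2, 0), (2, 0), (2, 0), (2, 0), (2, 0), (1, 11669008), (0, 2564625), (0, 1903248), (0, 10170384), (1, 1805314), (0, 13771273), (0, 2296514), (0, 1405448), (1, 3951624), (0, 9347075), (0, 15207048),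 (0, 10825794), (2, 0), (2, 0), (2, 0), (1, 5652556), (0, 705094), (0, 12698124), (0, 7438406), (2, 0), (2, 0), (1, 2322816), (0, 1351424), (0, 4924673), (0, 9440193), (1, 11575377), (0, 6703248), (0, 832080), (0, 13192208), (2, 0), (2, 0), (2, 0), (2, 0), (2, 0), (1, 9112069), (0, 11608708), (0, 3610628), (0, 1975812), (2, 0), (1, 6100032), (0, 10110017), (0, 10666625), (0, 6656640), (1, 7079696), (0, 9240913), (0, 12075408), (0, 10916112), (2, 0), (2, 0), (2, 0), (1, 15073798), (0, 2949708), (0, 10305542), (0, 12222476), (1, 5476616), (0, 5375810), (0, 213833), (0, 1164162), (2, 0), (1, 11100169), (0, 11831426), (0, 7221256), (0, 9178690), (2, 0), (2, 0), (2, 0), (1, 4900873), (0, 12624578), (0, 6379592), (0, 1369154), (2, 0), (1, 4744776), (0, 8505411), (0, 7397512), (0, 4626498), (1, 337856), (0, 1661185), (0, 9610624), (0, 6429441), (2, 0), (2, 0), (2, 0), (1, 11282452), (2, 0), (2, 0), (2, 0), (1, 5262104), (0, 237906), (2, 0), (2, 0), (2, 0), (2, 0), (2, 0), (2, 0), (2, 0), (2, 0), (2, 0), (2, 0), (2, 0), (2,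 0), (2, 0), (2, 0), (2, 0), (2, 0), (2, 0), (2, 0), (2, 0), (2, 0), (2, 0), (2, 0), (1, 7903248), (0, 12985424), (0, 2640465), (0, 8773776), (1, 837906), (0, 13148440), (0, 14682450), (0, 2384216), (1, 12871690), (0, 2664522), (2, 0), (1, 314056), (0, 4845570), (0, 13667400), (0, 6447171), (2, 0), (2, 0), (2, 0), (2, 0), (2, 0), (2, 0), (2, 0), (1, 8555274), (0, 6365962), (0, 1378634), (0, 1728778), (2, 0), (2, 0), (2, 0), (1, 10584520), (0, 7622914), (0, 951624), (0, 13124355), (2, 0), (2, 0), (1, 13911680), (0, 2854977), (2, 0), (2, 0), (2, 0), (2, 0), (2, 0), (2, 0), (2, 0), (2, 0), (2, 0), (2, 0), (2, 0), (2, 0), (2, 0), (2, 0), (2, 0), (2, 0), (2, 0), (2, 0), (2, 0), (2, 0), (2, 0), (2, 0), (1, 1769924), (0, 9589508), (0, 2328324), (0, 5571333), (1, 12325377), (0, 11469952), (2, 0), (1, 7767041), (0, 5112513), (0, 8999616), (0, 11654144), (2, 0), (2, 0), (2, 0), (2, 0), (2, 0), (2, 0), (2, 0), (2, 0), (2, 0), (2, 0), (2, 0), (2, 0), (2, 0), (2, 0), (2, 0), (2, 0), (2, 0), (2, 0), (2, 0), (2, 0), (1, 1484824), (0,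 4860434), (0, 8464984), (0, 3237906), (2, 0), (2, 0), (2, 0), (2, 0), (2, 0), (2, 0), (1, 6588684), (0, 4989254), (0, 8931660), (0, 10543366), (2, 0), (2, 0), (2, 0), (2, 0), (2, 0), (2, 0), (1, 12780432), (0, 3216208), (0, 1525008), (0, 1737489), (2, 0), (2, 0), (2, 0), (2, 0), (2, 0), (2, 0), (2, 0), (2, 0), (2, 0), (2, 0), (2, 0), (2, 0), (2, 0), (2, 0), (2, 0), (2, 0), (2, 0), (2, 0), (2, 0), (2, 0), (2, 0), (2, 0), (2, 0), (2, 0), (1, 4253780)]
/-- Bitmap of the orbit. -/
def bm2 : ℕ := 30691830754069217948799249581913262681334155457054160764595057030949560301948076940079191108371527065841178728036657475435609010758682362453990281256698318377244913725127339020735958296526471918094218874891651496129221173507482680677335847764511477026420228242244785893698571707946346556421549151662739226812268851602859182897335154974484903943558846877748857727503287708319070898378830310678950215616832802082201665448724494414248457410957200762305118689842573413177658427341334757308576494609907799379552851714221902043200237160542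61640596331460875757376049362076730459122582632968214140882923857417187336186790362054690615325743941540741793069247515709237599346162030301937322898528537143819859209020253558304814060778052756750147853314934033052190096393505452972100219544012177045627872705752662434785068989577201771880414310149342166252154818983875916907096988783540085521921410398963785233070740986407226561488329469578853309310261752607138909926843563661276388691546616544835465152346207524270604818753640443690998035978831560479811265130944990248985424857675359837659037817038900700348709531448505651017743809790072100942894394522520993945961849253913164740214557506910229239647645931390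
theorem cert2_ok : checkDFS actsK cert2 [r2m] = true := by decide +kernel
theorem bm2_ok : idxBitmap (r2m :: pushed 2 cert2) = bm2 := by decide +kernel
theorem reach2 {p : Finset GolayPt} (hp : p ∈ octads)
    (hbit : bm2.testBit (gmask p % 4096) = true) : ∃ g ∈ K0, g • r2 = p := by
  apply exists_smul_eq_of_cert_bitmap K0_le gensK_models r2 r2_mem.1 cert2
  · rw [gmask_r2]; exact cert2_ok
  · exact hp.1
  · rw [gmask_r2]
    show (idxBitmap (r2m :: pushed 2 cert2)).testBit _ = true
    rw [bm2_ok]
    exact hbit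

/-- Orbit certificate for the base point under the stabiliser of the base octad. -/
def ptCert : List (ℕ × ℕ) := [(0, 6), (0, 17), (0, 9), (0, 19), (0, 16), (1, 21), (0, 22), (0, 23), (1, 18), (0, 11), (0, 8), (0, 14), (0, 13), (0, 20), (2, 0), (2, 0), (2, 0), (1, 15)]
theorem ptCert_ok : checkDFS [fun i => s1T.getD i 0, fun i => s2T.getD i 0] ptCert [idx p0] = true := by
  rw [idx_p0]; decide +kernel
theorem ptCert_complete : ∀ i : Fin 24, o0.testBit i = false → i.val ∈ idx p0 :: pushed 2 ptCert := by
  rw [idx_p0]; decide +kernel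

/-- Classification of the octads avoiding the base point by their intersection with the base
octad. -/
def classCheck (m : ℕ) : Bool :=
  (popc 24 m != 8) || (m.testBit 5) ||
    ((popc 24 (o0 &&& m) == 8 && m == o0) ||
     (popc 24 (o0 &&& m) == 4 && bm4.testBit (m % 4096)) ||
     (popc 24 (o0 &&& m) == 2 && bm2.testBit (m % 4096)) ||
     (popc 24 (o0 &&& m) == 0 && bm0.testBit (m % 4096)))

theorem classCheck_all : (List.range 4096).all (fun k => classCheck (enc k)) = true := by
  decide +kernel

/-- Representative of the class of octads meeting the base octad in `j` points. -/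
def repOf (j : ℕ) : Finset GolayPt :=
  if j = 8 then x0 else if j = 4 then r4 else if j = 2 then r2 else r0

theorem reach_rep {p : Finset GolayPt} (hp : p ∈ octads) (hp0 : p0 ∉ p) :
    ∃ g ∈ K0, g • repOf (x0 ∩ p).card = p := by
  have h := forall_supports_bool classCheck classCheck_all p hp.1
  have hcard : (x0 ∩ p).card = popc 24 (o0 &&& gmask p) := by
    rw [card_inter_eq_popc, gmask_x0]
  have hbit : ¬ (gmask p).testBit 5 = true := by
    intro hb
    apply hp0
    rw [mem_iff_testBit_gmask p0 p, idx_p0]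
    exact hb
  unfold classCheck at h
  simp only [Bool.or_eq_true, Bool.and_eq_true, beq_iff_eq, bne_iff_ne, ne_eq] at h
  rcases h with (h | h) | h
  · rw [← card_eq_popc_gmask, hp.2] at h
    exact absurd rfl h
  · exact absurd h hbit
  · rcases h with ((⟨hj, hm⟩ | ⟨hj, hb⟩) | ⟨hj, hb⟩) | ⟨hj, hb⟩
    · rw [← hcard] at hj
      refine ⟨1, K0.one_mem, ?_⟩
      rw [hj, one_smul]
      show x0 = p
      apply gmask_injective
      rw [gmask_x0, hm]
    · rw [← hcard] at hj
      rw [hj]
      exact reach4 hp hb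
    · rw [← hcard] at hj
      rw [hj]
      exact reach2 hp hb
    · rw [← hcard] at hj
      rw [hj]
      exact reach0 hp hb

theorem base_trans {p' p'' : Finset GolayPt} (h' : p' ∈ octads) (h'' : p'' ∈ octads)
    (hp' : p0 ∉ p') (hp'' : p0 ∉ p'') (h : (x0 ∩ p').card = (x0 ∩ p'').card) :
    ∃ g ∈ K0, g • p' = p'' := by
  obtain ⟨g₁, hg₁, e₁⟩ := reach_rep h' hp'
  obtain ⟨g₂, hg₂, e₂⟩ := reach_rep h'' hp''
  refine ⟨g₂ * g₁⁻¹, K0.mul_mem hg₂ (K0.inv_mem hg₁), ?_⟩
  rw [mul_smul, ← e₁, inv_smul_smul, h, e₂]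

theorem ptModels : List.Forall₂ (fun g act => g ∈ H0 ∧ Models (G := Equiv.Perm GolayPt) idx g act)
    [s1, s2] [fun i => s1T.getD i 0, fun i => s2T.getD i 0] :=
  List.Forall₂.cons ⟨s1_memH, fun x => idx_tblPerm s1T s1T' s1_ok x⟩
    (List.Forall₂.cons ⟨s2_memH, fun x => idx_tblPerm s2T s2T' s2_ok x⟩ List.Forall₂.nil)

theorem flag_trans {x : GolayPt} {o : Finset GolayPt} (ho : o ∈ octads) (hx : x ∉ o) :
    ∃ a ∈ M24, a • x0 = o ∧ a p0 = x := by
  obtain ⟨a₁, ha₁, rfl⟩ := exists_smul_x0_eq ho
  have hy : a₁⁻¹ x ∉ x0 := by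
    intro hy
    apply hx
    have h1 : a₁ (a₁⁻¹ x) ∈ a₁ • x0 := (perm_mem_smul_iff a₁ _ _).mpr hy
    simpa using h1
  have hbit : o0.testBit (idx (a₁⁻¹ x)) = false := by
    have := (mem_iff_testBit_gmask (a₁⁻¹ x) x0).not.mp hy
    rw [gmask_x0] at this
    simpa using this
  have hmem := ptCert_complete ⟨idx (a₁⁻¹ x), idx_lt _⟩ hbit
  obtain ⟨h, hh, hidx⟩ := orbit_of_cert ptModels p0 ptCert ptCert_ok _ hmem
  have hhp : h p0 = a₁⁻¹ x := idx_injective hidx
  refine ⟨a₁ * h, M24.mul_mem ha₁ (H0_le hh), ?_, ?_⟩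
  · rw [mul_smul]
    have : h • x0 = x0 := MulAction.mem_stabilizer_iff.mp hh.2
    rw [this]
  · show a₁ (h p0) = x
    rw [hhp]
    simp

/-- Boolean test for the counting. -/
def cntF (j : ℕ) (m : ℕ) : Bool := popc 24 m == 8 && !(m.testBit 5) && popc 24 (o0 &&& m) == j

theorem base_set_eq (j : ℕ) :
    {s : Finset GolayPt | s ∈ octads ∧ p0 ∉ s ∧ (x0 ∩ s).card = j} =
      {s | s ∈ supports (golayCode : Set (GolayPt → ZMod 2)) ∧ cntF j (gmask s) = true} := by
  ext s
  have h1 : s ∈ octads ↔ s ∈ supports (golayCode : Set (GolayPt → ZMod 2)) ∧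
      popc 24 (gmask s) = 8 := by
    rw [← card_eq_popc_gmask]; rfl
  have h2 : p0 ∉ s ↔ (gmask s).testBit 5 = false := by
    rw [mem_iff_testBit_gmask p0 s, idx_p0]
    simp
  have h3 : (x0 ∩ s).card = popc 24 (o0 &&& gmask s) := by
    rw [card_inter_gmask, gmask_x0]
  have h4 : cntF j (gmask s) = true ↔ popc 24 (gmask s) = 8 ∧ (gmask s).testBit 5 = false ∧
      popc 24 (o0 &&& gmask s) = j := by
    unfold cntF
    simp only [Bool.and_eq_true, beq_iff_eq, and_assoc, Bool.not_eq_true']
  rw [Set.mem_ofPred_eq, Set.mem_ofPred_eq, h1, h2, h3, h4, and_assoc]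

theorem count0 : ((List.range 4096).filter (fun k => cntF 0 (enc k))).length = 15 := by
  decide +kernel

theorem count2 : ((List.range 4096).filter (fun k => cntF 2 (enc k))).length = 280 := by
  decide +kernel

theorem count4 : ((List.range 4096).filter (fun k => cntF 4 (enc k))).length = 210 := by
  decide +kernel

theorem base_count0 : {s : Finset GolayPt | s ∈ octads ∧ p0 ∉ s ∧ (x0 ∩ s).card = 0}.ncard = 15 := by
  rw [base_set_eq, count_supports, count0]

theorem base_count2 : {s : Finset GolayPt | s ∈ octads ∧ p0 ∉ s ∧ (x0 ∩ s).card = 2}.ncard = 280 := by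
  rw [base_set_eq, count_supports, count2]

theorem base_count4 : {s : Finset GolayPt | s ∈ octads ∧ p0 ∉ s ∧ (x0 ∩ s).card = 4}.ncard = 210 := by
  rw [base_set_eq, count_supports, count4]

theorem count_transport {a : Equiv.Perm GolayPt} (ha : a ∈ M24) (j : ℕ) :
    {o' : Finset GolayPt | o' ∈ octads ∧ a p0 ∉ o' ∧ (a • x0 ∩ o').card = j}.ncard =
      {s : Finset GolayPt | s ∈ octads ∧ p0 ∉ s ∧ (x0 ∩ s).card = j}.ncard := by
  rw [← ncard_smul_set a (fun o' => o' ∈ octads ∧ a p0 ∉ o' ∧ (a • x0 ∩ o').card = j)]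
  simp only [smul_mem_octads_iff ha, perm_mem_smul_iff, card_inter_smul]

/-- The point stabiliser acts on the 506 octads avoiding the point with rank 4 and subdegrees 1, 15, 210, 280, the suborbits being given by intersection size with the fixed octad. -/
theorem result (x : Cfsg.GolayPt) (o : Finset Cfsg.GolayPt) (ho : o ∈ Cfsg.octads) (hx : x ∉ o) : {o' : Finset Cfsg.GolayPt | o' ∈ Cfsg.octads ∧ x ∉ o' ∧ (o ∩ o').card = 0}.ncard = 15 ∧ {o' : Finset Cfsg.GolayPt | o' ∈ Cfsg.octads ∧ x ∉ o' ∧ (o ∩ o').card = 4}.ncard = 210 ∧ {o' : Finset Cfsg.GolayPt | o' ∈ Cfsg.octads ∧ x ∉ o' ∧ (o ∩ o').card = 2}.ncard = 280 ∧ ∀ o' o'' : Finset Cfsg.GolayPt, o' ∈ Cfsg.octads → o'' ∈ Cfsg.octads → x ∉ o' → x ∉ o'' → (o ∩ o').card = (o ∩ o'').card → ∃ g : Equiv.Perm Cfsg.GolayPt, g ∈ Cfsg.M24 ∧ g x = x ∧ g • o = o ∧ g • o' = o'' := by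
  obtain ⟨a, ha, rfl, rfl⟩ := flag_trans ho hx
  refine ⟨?_, ?_, ?_, ?_⟩
  · rw [count_transport ha, base_count0]
  · rw [count_transport ha, base_count4]
  · rw [count_transport ha, base_count2]
  · intro o' o'' ho' ho'' hx' hx'' hcard
    obtain ⟨q', rfl⟩ : ∃ q', o' = a • q' := ⟨a⁻¹ • o', (smul_inv_smul a o').symm⟩
    obtain ⟨q'', rfl⟩ : ∃ q'', o'' = a • q'' := ⟨a⁻¹ • o'', (smul_inv_smul a o'').symm⟩
    rw [smul_mem_octads_iff ha] at ho' ho''
    rw [perm_mem_smul_iff] at hx' hx''
    rw [card_inter_smul, card_inter_smul] at hcard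
    obtain ⟨g, hg, hgq⟩ := base_trans ho' ho'' hx' hx'' hcard
    have hgx0 : g • x0 = x0 := MulAction.mem_stabilizer_iff.mp hg.1.2
    have hgp0 : g p0 = p0 := MulAction.mem_stabilizer_iff.mp hg.2
    refine ⟨a * g * a⁻¹, M24.mul_mem (M24.mul_mem ha (K0_le hg)) (M24.inv_mem ha), ?_, ?_, ?_⟩
    · show a (g (a⁻¹ (a p0))) = a p0
      simp [hgp0]
    · rw [mul_smul, mul_smul, inv_smul_smul, hgx0]
    · rw [mul_smul, mul_smul, inv_smul_smul, hgq]

end Cfsg.Agent.S1608
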