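import Cfsg.Statements.S1609
import Cfsg.Agent.Lib.Helper36.Idx253d

set_option autoImplicit false
open scoped Pointwise
open Cfsg

namespace Cfsg.Agent.S1609

open Cfsg.Agent.Lib.Helper36.Idx253

/-- transfer: a subgroup of the point stabiliser (inside `↥M24`) whose image in the symmetric group
is the stabiliser of `s` in the point stabiliser. -/
theorem transfer {X : Type*} [MulAction (Equiv.Perm GolayPt) X] (x : GolayPt)
    (H : Subgroup ↥(MulAction.stabilizer Cfsg.M24 x)) (hcard : Nat.card H = 40320) (s : X)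
    (hst : ∀ g ∈ H, ((g : ↥M24) : Equiv.Perm GolayPt) • s = s)
    (hS : Nat.card ↥(Mx x ⊓ MulAction.stabilizer (Equiv.Perm GolayPt) s) = 40320) :
    H = (MulAction.stabilizer Cfsg.M24 s).subgroupOf (MulAction.stabilizer Cfsg.M24 x) := by
  set S : Subgroup ↥(MulAction.stabilizer Cfsg.M24 x) :=
    (MulAction.stabilizer Cfsg.M24 s).subgroupOf (MulAction.stabilizer Cfsg.M24 x) with hSdef
  have hle : H ≤ S := by
    intro g hg
    rw [hSdef, Subgroup.mem_subgroupOf, MulAction.mem_stabilizer_iff]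
    exact hst g hg
  have e : ↥S ≃ ↥(Mx x ⊓ MulAction.stabilizer (Equiv.Perm GolayPt) s) :=
    { toFun := fun g => ⟨g.1.1.1, ⟨⟨g.1.1.2, g.1.2⟩, g.2⟩⟩
      invFun := fun y => ⟨⟨⟨y.1, y.2.1.1⟩, y.2.1.2⟩, y.2.2⟩
      left_inv := fun _ => rfl
      right_inv := fun _ => rfl }
  have hScard : Nat.card S = 40320 := by rw [Nat.card_congr e, hS]
  exact Subgroup.eq_of_le_of_card_ge hle (by rw [hScard, hcard])

/-- Subgroups of index 253 in the Mathieu group of degree 23 are exactly the duad stabilisers and the heptad stabilisers. -/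
theorem result (x : Cfsg.GolayPt) (H : Subgroup ↥(MulAction.stabilizer Cfsg.M24 x)) (hH : H.index = 253) : (∃ s : Finset Cfsg.GolayPt, s.card = 2 ∧ x ∉ s ∧ H = (MulAction.stabilizer Cfsg.M24 s).subgroupOf (MulAction.stabilizer Cfsg.M24 x)) ∨ ∃ o ∈ Cfsg.octads, x ∈ o ∧ H = (MulAction.stabilizer Cfsg.M24 o).subgroupOf (MulAction.stabilizer Cfsg.M24 x) := by
  have hcard : Nat.card H = 40320 := by
    have h1 := H.card_mul_index
    rw [hH, Cfsg.Agent.S0376.result x] at h1
    omega
  set K : Subgroup (Equiv.Perm GolayPt) :=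
    (H.map (MulAction.stabilizer Cfsg.M24 x).subtype).map M24.subtype with hK
  have hKcard : Nat.card K = 40320 := by
    rw [hK, Subgroup.card_subtype, Subgroup.card_subtype, hcard]
  have hmemK : ∀ g ∈ H, ((g : ↥M24) : Equiv.Perm GolayPt) ∈ K := by
    intro g hg
    exact ⟨(g : ↥M24), ⟨g, hg, rfl⟩, rfl⟩
  have hKle : K ≤ M24 := Subgroup.map_subtype_le _
  have hKfix : ∀ k ∈ K, k x = x := by
    rintro k ⟨m, ⟨g, -, rfl⟩, rfl⟩
    exact g.2
  rcases main K x hKle hKfix hKcard with ⟨s, hs2, hxs, hst⟩ | ⟨o, ho, hxo, hst⟩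
  · left
    exact ⟨s, hs2, hxs, transfer x H hcard s (fun g hg => hst _ (hmemK g hg))
      (card_stab_duad x s hs2 hxs)⟩
  · right
    exact ⟨o, ho, hxo, transfer x H hcard o (fun g hg => hst _ (hmemK g hg))
      (card_stab_octad x o ho hxo)⟩

end Cfsg.Agent.S1609
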