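import Cfsg.Statements.S1610
import Cfsg.Agent.Lib.Helper36.Hexa

set_option autoImplicit false
open Cfsg

namespace Cfsg.Agent.S1610

open Cfsg.Agent.Lib.Helper36

theorem ncard_transfer {F : Type*} [Field F] [DecidableEq F] (e : F ≃+* F4) (ω : F)
    (he : e ω = F4.w) (k n : ℕ)
    (h : {x : Fin 6 → F4 | x ∈ hexacode F4 F4.w ∧ (Finset.univ.filter fun i => x i ≠ 0).card = k}.ncard = n) :
    {x : Fin 6 → F | x ∈ hexacode F ω ∧ (Finset.univ.filter fun i => x i ≠ 0).card = k}.ncard = n := by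
  rw [← h, ← Set.ncard_image_of_injective _ (mapW e).injective]
  congr 1
  ext y
  simp only [Set.mem_image, Set.mem_ofPred_eq]
  constructor
  · rintro ⟨x, ⟨hx, hk⟩, rfl⟩
    refine ⟨?_, ?_⟩
    · rw [← he]; exact (mapW_mem_iff e ω x).mpr hx
    · rw [← hk]; exact weight_mapW e x
  · rintro ⟨hy, hk⟩
    obtain ⟨x, rfl⟩ := (mapW e).surjective y
    refine ⟨x, ⟨?_, ?_⟩, rfl⟩
    · rw [← he] at hy; exact (mapW_mem_iff e ω x).mp hy
    · rw [← hk]; exact (weight_mapW e x).symm

/-- The hexacode has 64 words, minimum weight 4, and weight distribution 0^1 4^45 6^18. -/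
theorem result (F : Type*) [Field F] [Fintype F] [DecidableEq F] (hF : Fintype.card F = 4) (ω : F) (hω : ω ^ 2 + ω + 1 = 0) : Nat.card ↥(Cfsg.hexacode F ω) = 64 ∧ (∀ x ∈ Cfsg.hexacode F ω, x ≠ 0 → (Finset.univ.filter fun i => x i ≠ 0).card = 4 ∨ (Finset.univ.filter fun i => x i ≠ 0).card = 6) ∧ {x : Fin 6 → F | x ∈ Cfsg.hexacode F ω ∧ (Finset.univ.filter fun i => x i ≠ 0).card = 4}.ncard = 45 ∧ {x : Fin 6 → F | x ∈ Cfsg.hexacode F ω ∧ (Finset.univ.filter fun i => x i ≠ 0).card = 6}.ncard = 18 := by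
  obtain ⟨e, he⟩ := exists_ringEquiv_F4 F hF ω hω
  refine ⟨?_, ?_, ?_, ?_⟩
  · rw [← card_hexacode_F4]
    apply Nat.card_congr
    refine (mapW e).subtypeEquiv (fun x => ?_)
    rw [← he]
    exact (mapW_mem_iff e ω x).symm
  · intro x hx hx0
    have h1 : mapW e x ∈ hexacode F4 F4.w := by
      rw [← he]; exact (mapW_mem_iff e ω x).mpr hx
    obtain ⟨p, hp⟩ := (mem_iff_wordP _).mp h1
    have h2 : wordP p ≠ 0 := by
      rw [hp]
      intro h0
      apply hx0
      apply (mapW e).injective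
      rw [h0]
      funext i
      simp [mapW_apply]
    have h3 := wordP_weights p h2
    rw [hp] at h3
    have h4 := weight_mapW e x
    unfold wt at h3
    rw [h4] at h3
    exact h3
  · exact ncard_transfer e ω he 4 45 (ncard_weight 4 45 count4)
  · exact ncard_transfer e ω he 6 18 (ncard_weight 6 18 count6)

end Cfsg.Agent.S1610
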