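import Cfsg.Statements.S1611
import Cfsg.Agent.Lib.Helper36.HexaAut

set_option autoImplicit false
open Cfsg

namespace Cfsg.Agent.S1611

open Cfsg.Agent.Lib.Helper36

section
variable {F : Type*} [Field F] (e : F ≃+* F4) (ω : F) (he : e ω = F4.w)
include he

theorem pres_iff (σ : Equiv.Perm (Fin 6)) (c : Fin 6 → Fˣ) :
    Mono.Pres (hexacode F4 F4.w) σ (mapC e c) ↔ Mono.Pres (hexacode F ω) σ c := by
  rw [← he]
  exact pres_transfer e ω σ c

theorem diag_F (c : Fin 6 → Fˣ) (h : Mono.Pres (hexacode F ω) 1 c) : ∀ i j, c i = c j := by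
  intro i j
  have h1 := diag_F4 (mapC e c) ((pres_iff e ω he 1 c).mpr h) i j
  apply Units.ext
  have h2 := congrArg Units.val h1
  simp only [mapC, Units.coe_map, MonoidHom.coe_coe] at h2
  exact e.injective h2

theorem permPart_F [Finite F] : Mono.permPart (hexacode F ω) = alternatingGroup (Fin 6) := by
  rw [← permPart_F4]
  ext σ
  rw [Mono.mem_permPart, Mono.mem_permPart]
  constructor
  · rintro ⟨c, hc⟩
    exact ⟨mapC e c, (pres_iff e ω he σ c).mpr hc⟩
  · rintro ⟨d, hd⟩
    obtain ⟨c, rfl⟩ := mapC_surjective e d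
    exact ⟨c, (pres_iff e ω he σ c).mp hd⟩

end

theorem card_alt6 : Nat.card ↥(alternatingGroup (Fin 6)) = 360 := by
  have h1 := (alternatingGroup (Fin 6)).card_mul_index
  rw [alternatingGroup.index_eq_two, Nat.card_perm, Nat.card_eq_fintype_card (α := Fin 6),
    Fintype.card_fin] at h1
  have h5 : (Nat.factorial 6) = 720 := rfl
  omega

theorem scalar_pres {F : Type*} [Field F] (C : Submodule F (Fin 6 → F)) (u : Fˣ) :
    Mono.Pres C 1 (fun _ => u) := by
  intro x hx
  have : monomialMap (1 : Equiv.Perm (Fin 6)) (fun _ => u) x = (u : F) • x := by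
    funext i
    simp [monomialMap, Mono.symm_one_apply]
  rw [this]
  exact C.smul_mem _ hx

/-- The monomial automorphism group of the hexacode has order 1080: its diagonal part is the scalars and its permutation parts form the alternating group of degree 6. -/
theorem result (F : Type*) [Field F] [Fintype F] [DecidableEq F] (hF : Fintype.card F = 4) (ω : F) (hω : ω ^ 2 + ω + 1 = 0) : Nat.card {f : Equiv.Perm (Fin 6) × (Fin 6 → Fˣ) // (∀ x ∈ Cfsg.hexacode F ω, Cfsg.monomialMap f.1 f.2 x ∈ Cfsg.hexacode F ω)} = 1080 ∧ (∀ c : Fin 6 → Fˣ, (∀ x ∈ Cfsg.hexacode F ω, Cfsg.monomialMap 1 c x ∈ Cfsg.hexacode F ω) → ∀ i j, c i = c j) ∧ {σ : Equiv.Perm (Fin 6) | ∃ c : Fin 6 → Fˣ, (∀ x ∈ Cfsg.hexacode F ω, Cfsg.monomialMap σ c x ∈ Cfsg.hexacode F ω)} = (alternatingGroup (Fin 6) : Set (Equiv.Perm (Fin 6))) := by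
  obtain ⟨e, he⟩ := exists_ringEquiv_F4 F hF ω hω
  have hdiag := diag_F e ω he
  have hpp := permPart_F e ω he
  refine ⟨?_, hdiag, ?_⟩
  · rw [Mono.card_mono, hpp, card_alt6]
    have hd : Nat.card {d : Fin 6 → Fˣ // Mono.Pres (hexacode F ω) 1 d} = 3 := by
      have eq : {d : Fin 6 → Fˣ // Mono.Pres (hexacode F ω) 1 d} ≃ Fˣ :=
        { toFun := fun d => d.1 0
          invFun := fun u => ⟨fun _ => u, scalar_pres _ u⟩
          left_inv := by
            rintro ⟨d, hd⟩
            apply Subtype.ext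
            funext i
            exact hdiag d hd 0 i
          right_inv := fun u => rfl }
      rw [Nat.card_congr eq, Nat.card_eq_fintype_card, Fintype.card_units, hF]
    rw [hd]
  · rw [← hpp]
    rfl

end Cfsg.Agent.S1611
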