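import Cfsg.Statements.S1612
import Cfsg.Agent.Lib.Helper36.Fischer1
import Cfsg.Agent.Lib.Helper36.Fischer5
import Cfsg.Agent.S5354

set_option autoImplicit false
open Cfsg

namespace Cfsg.Agent.S1612

open Cfsg.Agent.Lib.Helper36.Fischer Cfsg.Agent.Lib.Helper91

/-- the single-class theorem (as in S1613) in the form used here. -/
theorem single {G : Type*} [Group G] [Finite G] (hsol : ∀ N : Subgroup G, N.Normal → Group.IsSolvable ↥N → N = ⊥) (hperf : ⁅commutator G, commutator G⁆ = commutator G) {D : Set G} (hD : Cfsg.IsThreeTranspositionClass D) :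
    ∀ x ∈ D, ∀ y ∈ Dx D x, ∀ y' ∈ Dx D x, y' ∈ Orb D x y := by
  intro x hx y hy y' hy'
  have hD2 : ∃ a ∈ D, ∃ b ∈ D, a ≠ b := ⟨x, hx, y, hy.1, fun h => hy.2.1 h.symm⟩
  have hw : ∃ a ∈ D, ∃ b ∈ D, a ≠ b ∧ Commute a b :=
    ⟨x, hx, y, hy.1, fun h => hy.2.1 h.symm, hy.2.2⟩
  have hprim := primitive_of_perfect hsol hperf hD hD2
  have hG : Cfsg.IsThreeTranspositionGroup D := ⟨hD.1, class_conj_mem hD, hD.2.2⟩
  obtain ⟨-, -, h3⟩ := Cfsg.Agent.S5354.result hG hprim hw
  have hmax : MaxHyp D := fun d hd H hH hle => (h3 d hd).2 H hH hle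
  have : Fact (Nat.Prime 2) := ⟨Nat.prime_two⟩
  exact single_class hD (center_eq_bot_of_nosol hsol) (pCore_eq_bot_of_nosol hsol 2) hmax hx
    y hy y' hy'

/-- In a 3-transposition group (no solvable normal subgroup, perfect derived group), the normaliser of a commuting set of transpositions of maximum size contains a Sylow 2-subgroup and is doubly transitive on the set. -/
theorem result {G : Type*} [Group G] [Finite G] (hsol : ∀ N : Subgroup G, N.Normal → Group.IsSolvable ↥N → N = ⊥) (hperf : ⁅commutator G, commutator G⁆ = commutator G) {D : Set G} (hD : Cfsg.IsThreeTranspositionClass D) {E : Set G} (hE : E ⊆ D) (hc : ∀ a ∈ E, ∀ b ∈ E, Commute a b) (hmax : ∀ E' : Set G, E' ⊆ D → (∀ a ∈ E', ∀ b ∈ E', Commute a b) → E'.ncard ≤ E.ncard) : (∃ P : Sylow 2 G, (P : Subgroup G) ≤ Subgroup.normalizer E) ∧ ∀ a ∈ E, ∀ b ∈ E, ∀ c ∈ E, ∀ d ∈ E, a ≠ b → c ≠ d → ∃ g ∈ Subgroup.normalizer E, g * a * g⁻¹ = c ∧ g * b * g⁻¹ = d :=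
  normalizer_max_commuting hD (single hsol hperf hD) hE hc hmax

end Cfsg.Agent.S1612
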