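import Cfsg.Statements.S1613
import Cfsg.Agent.Lib.Helper36.Fischer1
import Cfsg.Agent.Lib.Helper36.Fischer4
import Cfsg.Agent.S5354

set_option autoImplicit false
open Cfsg

namespace Cfsg.Agent.S1613

open Cfsg.Agent.Lib.Helper36.Fischer Cfsg.Agent.Lib.Helper91

/-- For a transposition x of a Fischer 3-transposition group, the transpositions commuting with x (other than x) form one conjugacy class of the subgroup they generate. -/
theorem result {G : Type*} [Group G] [Finite G] (hsol : ∀ N : Subgroup G, N.Normal → Group.IsSolvable ↥N → N = ⊥) (hperf : ⁅commutator G, commutator G⁆ = commutator G) {D : Set G} (hD : Cfsg.IsThreeTranspositionClass D) (x : G) (hx : x ∈ D) : ∀ y ∈ {y : G | y ∈ D ∧ y ≠ x ∧ Commute x y}, ∀ y' ∈ {y : G | y ∈ D ∧ y ≠ x ∧ Commute x y}, ∃ g ∈ Subgroup.closure {y : G | y ∈ D ∧ y ≠ x ∧ Commute x y}, g * y * g⁻¹ = y' := by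
  intro y hy y' hy'
  have hD2 : ∃ a ∈ D, ∃ b ∈ D, a ≠ b := ⟨x, hx, y, hy.1, fun h => hy.2.1 h.symm⟩
  have hw : ∃ a ∈ D, ∃ b ∈ D, a ≠ b ∧ Commute a b :=
    ⟨x, hx, y, hy.1, fun h => hy.2.1 h.symm, hy.2.2⟩
  have hprim := primitive_of_perfect hsol hperf hD hD2
  have hG : Cfsg.IsThreeTranspositionGroup D := ⟨hD.1, class_conj_mem hD, hD.2.2⟩
  obtain ⟨-, -, h3⟩ := Cfsg.Agent.S5354.result hG hprim hw
  have hmax : MaxHyp D := fun d hd H hH hle => (h3 d hd).2 H hH hle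
  have : Fact (Nat.Prime 2) := ⟨Nat.prime_two⟩
  exact single_class hD (center_eq_bot_of_nosol hsol) (pCore_eq_bot_of_nosol hsol 2) hmax hx
    y hy y' hy'

end Cfsg.Agent.S1613
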