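import Cfsg.Statements.S1626
import Cfsg.Agent.Lib.Helper77.J3OrbD1
import Cfsg.Agent.Lib.Helper77.J3OrbD2
import Cfsg.Agent.Lib.Helper77.J3OrbD3
import Cfsg.Agent.Lib.Helper77.J3Orb

set_option autoImplicit false
open scoped MatrixGroups
open Matrix
open Cfsg

namespace Cfsg.Agent.S1626

open Cfsg.Agent.Lib.Helper77.J3

theorem ginv_exists : ∀ j < 45, validJ j → ∃ N : M9, (gM j).mul N = M9.one ∧ N.mul (gM j) = M9.one :=
  fun j hj hv => ⟨_, ginv_ok j hj hv⟩

theorem tab1 : OrbTab tr1 rows1 gensLitP 1 where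
  rows_ok := fun r hr => by
    have := chk_rows1 r hr
    unfold rowBP1 at this
    rw [Bool.and_eq_true] at this
    exact this.1
  toList := tr1_toList
  gens_ok := gens_ok
  gens_valid := gens_valid
  ginv := ginv_exists

theorem clos1 : ClosTab rows1 bm1 gensListP where
  clos := fun r hr => by
    have := chk_rows1 r hr
    unfold rowBP1 at this
    rw [Bool.and_eq_true] at this
    exact this.2
  bm_eq := bm1_eq
  gl_ok := gensList_ok

theorem tab2 : OrbTab tr2 rows2 gensLitP 72 where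
  rows_ok := chk_rows2
  toList := tr2_toList
  gens_ok := gens_ok
  gens_valid := gens_valid
  ginv := ginv_exists

/-- Orbits of the triple cover of the third Janko group on lines of its 9-space over the field with 4 elements: the line through the first basis vector has exactly 23256 images, and the isotropic lines (nonzero v with Σ v_z³ = 0) form a single orbit. -/
theorem result (F : Type) [Field F] [Fintype F] (hF : Fintype.card F = 4) (ω : F) (hω : ω ^ 2 + ω + 1 = 0) : {L : Submodule F (Cfsg.Spor.F9 → F) | ∃ g ∈ Cfsg.Spor.threeJ3 F ω, L = F ∙ ((g : Matrix Cfsg.Spor.F9 Cfsg.Spor.F9 F) *ᵥ (Pi.single (0 : Cfsg.Spor.F9) (1 : F) : Cfsg.Spor.F9 → F))}.ncard = 23256 ∧ ∀ v w : Cfsg.Spor.F9 → F, v ≠ 0 → w ≠ 0 → ∑ z, (v z) ^ 3 = 0 → ∑ z, (w z) ^ 3 = 0 → ∃ g ∈ Cfsg.Spor.threeJ3 F ω, ∃ c : F, c ≠ 0 ∧ (g : Matrix Cfsg.Spor.F9 Cfsg.Spor.F9 F) *ᵥ v = c • w := by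
  have h := isF4_of hF ω hω
  have : Finite F := Finite.of_fintype F
  exact ⟨orbit_ncard h tab1 clos1 tr1_root rows1_incr 23256 rows1_length,
    iso_transitive h tab2 bm2_eq comp_all⟩

end Cfsg.Agent.S1626
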