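import Cfsg.Statements.S1628
import Cfsg.Agent.Lib.Helper17.RuBasic
import Cfsg.Agent.Lib.Helper17.RuR1
import Cfsg.Agent.Lib.Helper17.RuR3
import Cfsg.Agent.Lib.Helper80.RuR2
import Cfsg.Agent.Lib.Helper84.RuR4
import Cfsg.Agent.Lib.Helper56.RuR5

set_option autoImplicit false
open Cfsg

namespace Cfsg.Agent.S1628

open Cfsg.Spor Cfsg.Agent.Lib.Helper17.RuL

/-- The Conway–Wales lattice as stored is even with no vectors of true norm 2: stored norms are multiples of 8, never equal to 8, and the minimum over nonzero vectors is 16. -/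
theorem result : (∀ x ∈ Cfsg.Spor.ruLattice, (8 : ℤ) ∣ Cfsg.Spor.ruNorm x) ∧ (∀ x ∈ Cfsg.Spor.ruLattice, Cfsg.Spor.ruNorm x ≠ 8) ∧ (∀ x ∈ Cfsg.Spor.ruLattice, x ≠ 0 → 16 ≤ Cfsg.Spor.ruNorm x) ∧ ∃ x ∈ Cfsg.Spor.ruLattice, Cfsg.Spor.ruNorm x = 16 := by
  have key : ∀ x ∈ ruLattice, x ≠ 0 → 16 ≤ ruNorm x := by
    intro x hx hx0
    have hs : x ∈ spanU := ruLattice_le_spanU hx
    have hβ : ∀ k : Fin 56, (4 : ℤ) ∣ beta x (uB k) :=
      fun k => Lib.Helper80.RuL.four_dvd_beta_of_mem hs k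
    rcases oddSet_cases hs with h0 | h16 | ⟨n, hn⟩
    · exact Lib.Helper56.RuL.sixteen_le_norm_of_even hβ h0 hx0
    · have h := card_oddSet_le_norm x
      have h16' : (16 : ℤ) ≤ ((oddSet x).card : ℤ) := by exact_mod_cast h16
      omega
    · have h8 := Lib.Helper80.RuL.eight_dvd_norm_of_mem hs
      have hne := Lib.Helper84.RuL.norm_ne_eight_of_block hβ n hn
      have h := card_oddSet_le_norm x
      rw [hn, card_block] at h
      obtain ⟨k, hk⟩ := h8
      push_cast at h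
      omega
  refine ⟨fun x hx => Lib.Helper80.RuL.eight_dvd_norm_of_mem (ruLattice_le_spanU hx), ?_, key, ?_⟩
  · intro x hx
    by_cases hx0 : x = 0
    · subst hx0
      simp [ruNorm]
    · have := key x hx hx0
      omega
  · have hmem : ruTable[0]'(by decide) ∈ ruLattice := by
      rw [ruLattice, AddSubgroup.mem_sInf]
      intro L hL
      exact hL.1 _ (List.getElem_mem _)
    refine ⟨_, hmem, ?_⟩
    decide

end Cfsg.Agent.S1628
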