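import Cfsg.Statements.S5656
import Cfsg.Agent.Lib.Helper11.UnitaryTv

set_option autoImplicit false
open Cfsg

namespace Cfsg.Agent.S5656

open Cfsg.Agent.Lib.Helper19 Cfsg.Agent.Lib.Helper11.UnitaryTv Matrix

section
variable {F : Type*} [Field F] [Fintype F] (n : ℕ)

local notation "V" => (Fin n → F)
local notation "hh" => Cfsg.hermForm n F 2
local notation "GLn" => Matrix.GeneralLinearGroup (Fin n) F
local notation "II" => (Cfsg.GU n F 2 ⊓ Cfsg.Geo.specialLinear (Fin n) F)

theorem card_sq (hF : Fintype.card F = 4) : Fintype.card F = 2 ^ 2 := by rw [hF]; norm_num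

theorem two_eq_zero (hF : Fintype.card F = 4) : (2 : F) = 0 := by
  have h := Nat.cast_card_eq_zero F
  rw [hF] at h
  have h4 : (2 : F) * 2 = 0 := by
    have : ((4 : ℕ) : F) = 2 * 2 := by norm_num
    rw [← this]; exact h
  rcases mul_eq_zero.mp h4 with h2 | h2 <;> exact h2

theorem add_self (hF : Fintype.card F = 4) (x : F) : x + x = 0 := by
  have := two_eq_zero hF
  linear_combination x * this

theorem add_self_eq_zero_of {M : Type*} [AddCommGroup M] [Module F M] (hF : Fintype.card F = 4)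
    (u : M) : u + u = 0 := by
  rw [← two_smul F u, two_eq_zero hF, zero_smul]

theorem cube_eq_one (hF : Fintype.card F = 4) (x : F) (hx : x ≠ 0) : x * x ^ 2 = 1 := by
  have := FiniteField.pow_card_sub_one_eq_one x hx
  rw [hF] at this
  rw [← this]
  ring

theorem fixed_cases (hF : Fintype.card F = 4) (c : F) (hc : c ^ 2 = c) : c = 0 ∨ c = 1 := by
  have h2 : c * (c - 1) = 0 := by linear_combination hc
  rcases mul_eq_zero.mp h2 with h3 | h3
  · exact Or.inl h3
  · exact Or.inr (sub_eq_zero.mp h3)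

theorem one_tz (hF : Fintype.card F = 4) : (1 : F) + 1 ^ 2 = 0 := by
  rw [one_pow]; exact add_self hF 1

theorem exists_omega (hF : Fintype.card F = 4) : ∃ w : F, w ^ 2 + w ≠ 0 := by
  classical
  obtain ⟨ε, hε0, hε⟩ : ∃ ε : F, ε ≠ 0 ∧ ε ≠ 1 := by
    by_contra hcon
    push Not at hcon
    have hsub : (Finset.univ : Finset F) ⊆ {0, 1} := by
      intro x _
      by_cases hx : x = 0
      · simp [hx]
      · simp [hcon x hx]
    have := Finset.card_le_card hsub
    rw [Finset.card_univ, hF] at this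
    have h2 : ({0, 1} : Finset F).card ≤ 2 := Finset.card_le_two
    omega
  refine ⟨ε, fun h => ?_⟩
  have h2 : ε * (ε + 1) = 0 := by linear_combination h
  rcases mul_eq_zero.mp h2 with h3 | h3
  · exact hε0 h3
  · apply hε
    have := add_self hF (1 : F)
    linear_combination h3 - this

omit [Fintype F] in
theorem gl_mul_act (g g' : GLn) (v : V) : (g * g').1 *ᵥ v = g.1 *ᵥ (g'.1 *ᵥ v) := by
  rw [Units.val_mul, Matrix.mulVec_mulVec]

omit [Fintype F] in
theorem gl_inv_act (g : GLn) (v : V) : g⁻¹.1 *ᵥ (g.1 *ᵥ v) = v := by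
  rw [Matrix.mulVec_mulVec, ← Units.val_mul, inv_mul_cancel, Units.val_one, Matrix.one_mulVec]

omit [Fintype F] in
theorem gl_act_inv (g : GLn) (v : V) : g.1 *ᵥ (g⁻¹.1 *ᵥ v) = v := by
  rw [Matrix.mulVec_mulVec, ← Units.val_mul, mul_inv_cancel, Units.val_one, Matrix.one_mulVec]

omit [Fintype F] in
theorem mem_GU_iff (g : GLn) :
    g ∈ Cfsg.GU n F 2 ↔ ∀ u v : V, hh (g.1 *ᵥ u) (g.1 *ᵥ v) = hh u v := Iff.rfl

/-- the transvection with centre `p` and parameter `1`, in `GL` -/
noncomputable def gt (p : V) : GLn := Matrix.SpecialLinearGroup.toGL (ut 2 n p 1).1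

theorem gt_act (hF : Fintype.card F = 4) (p : V) (hp : hh p p = 0) (v : V) :
    (gt n p).1 *ᵥ v = v + hh v p • p := by
  have := ut_act 2 n (card_sq hF) p 1 hp (one_tz hF) v
  rw [one_mul] at this
  exact this

theorem gt_mem (p : V) : gt n p ∈ II := by
  refine ⟨(ut 2 n p 1).2, ?_⟩
  show Matrix.GeneralLinearGroup.det (gt n p) = 1
  apply Units.ext
  rw [Matrix.GeneralLinearGroup.val_det_apply]
  exact (ut 2 n p 1).1.2

theorem gt_gt (hF : Fintype.card F = 4) (p : V) (hp : hh p p = 0) (v : V) :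
    (gt n p).1 *ᵥ ((gt n p).1 *ᵥ v) = v := by
  rw [gt_act n hF p hp, gt_act n hF p hp, hermForm_add_left, hermForm_smul_left, hp, mul_zero,
    add_zero, add_assoc, ← add_smul, add_self hF, zero_smul, add_zero]

/-- the non-isotropic vectors lying in a member of `D` -/
def Lam {t : ℕ} (D : Fin t → Submodule F V) : Set V := {v | ∃ i, v ∈ D i ∧ hh v v ≠ 0}

/-- the overgroup -/
def KK {t : ℕ} (D : Fin t → Submodule F V) : Subgroup GLn where
  carrier := {g | g ∈ II ∧ ∀ v : V, g.1 *ᵥ v ∈ Lam n D ↔ v ∈ Lam n D}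
  one_mem' := ⟨Subgroup.one_mem _, fun v => by rw [Units.val_one, Matrix.one_mulVec]⟩
  mul_mem' := fun {a b} ha hb =>
    ⟨Subgroup.mul_mem _ ha.1 hb.1, fun v => by rw [gl_mul_act, ha.2, hb.2]⟩
  inv_mem' := fun {a} ha => ⟨Subgroup.inv_mem _ ha.1, fun v => by
    have := ha.2 (a⁻¹.1 *ᵥ v)
    rw [gl_act_inv] at this
    exact this.symm⟩

theorem KK_le {t : ℕ} (D : Fin t → Submodule F V) : KK n D ≤ II := fun _ hg => hg.1

theorem stab_le_KK {t : ℕ} (D : Fin t → Submodule F V) :
    Cfsg.Geo.decompositionStabilizer D ⊓ II ≤ KK n D := by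
  rintro g ⟨⟨σ, hσ⟩, hg⟩
  refine ⟨hg, fun v => ?_⟩
  have hgu := (mem_GU_iff n g).mp hg.1
  constructor
  · rintro ⟨j, hj, hne⟩
    obtain ⟨i, rfl⟩ := σ.surjective j
    rw [← hσ i, Submodule.mem_map] at hj
    obtain ⟨w, hw, hwv⟩ := hj
    rw [Matrix.toLin'_apply] at hwv
    have hvw : v = w := by
      have := congrArg (fun z => g⁻¹.1 *ᵥ z) hwv
      simp only [gl_inv_act] at this
      exact this.symm
    rw [hgu] at hne
    exact ⟨i, hvw ▸ hw, hne⟩
  · rintro ⟨i, hi, hne⟩
    refine ⟨σ i, ?_, ?_⟩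
    · rw [← hσ i, Submodule.mem_map]
      exact ⟨v, hi, Matrix.toLin'_apply _ _⟩
    · rw [hgu]
      exact hne

theorem norm_cases (hF : Fintype.card F = 4) (v : V) : hh v v = 0 ∨ hh v v = 1 :=
  fixed_cases hF _ (hermForm_conj (card_sq hF) v v)

theorem hf_swap0 (hF : Fintype.card F = 4) (x y : V) (h : hh x y = 0) : hh y x = 0 := by
  rw [← hermForm_conj (card_sq hF), h, zero_pow two_ne_zero]

theorem exists_noniso {t : ℕ} (D : Fin t → Submodule F V)
    (hD : Cfsg.Geo.IsNondegenerateMDecomposition (Cfsg.hermForm n F 2) 2 D)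
    (hF : Fintype.card F = 4) (i : Fin t) : ∃ u ∈ D i, hh u u = 1 := by
  have hF2 := card_sq hF
  have hne : D i ≠ ⊥ := by
    intro h
    have := hD.decomp.finrank_eq i
    rw [h, finrank_bot] at this
    omega
  obtain ⟨x, hx, hx0⟩ := Submodule.exists_mem_ne_zero_of_ne_bot hne
  obtain ⟨y, hy, hyx⟩ := (hD.nondegenerate i x hx hx0).1
  by_contra hcon
  push Not at hcon
  have hiso : ∀ u ∈ D i, hh u u = 0 := fun u hu => (norm_cases n hF u).resolve_right (hcon u hu)
  have hxy : hh x y = (hh y x) ^ 2 := (hermForm_conj hF2 y x).symm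
  have h1 := hiso (y + x) (add_mem hy hx)
  rw [hermForm_add_left, hermForm_add_right hF2, hermForm_add_right hF2, hiso y hy, hiso x hx,
    hxy] at h1
  obtain ⟨w, hw⟩ := exists_omega hF
  have h2 := hiso (y + w • x) (add_mem hy (Submodule.smul_mem _ _ hx))
  rw [hermForm_add_left, hermForm_add_right hF2, hermForm_add_right hF2, hermForm_smul_left,
    hermForm_smul_left, hermForm_smul_right, hermForm_smul_right, hiso y hy, hiso x hx, hxy] at h2
  have hs2 : (hh y x) ^ 2 = hh y x := by
    linear_combination h1 - add_self hF (hh y x)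
  apply hyx
  have h3 : hh y x * (w ^ 2 + w) = 0 := by
    rw [hs2] at h2
    linear_combination h2
  exact (mul_eq_zero.mp h3).resolve_right hw

theorem exists_frame {t : ℕ} (D : Fin t → Submodule F V)
    (hD : Cfsg.Geo.IsNondegenerateMDecomposition (Cfsg.hermForm n F 2) 2 D)
    (hF : Fintype.card F = 4) (i : Fin t) :
    ∃ u u₂ : V, u ∈ D i ∧ u₂ ∈ D i ∧ hh u u = 1 ∧ hh u₂ u₂ = 1 ∧ hh u u₂ = 0 ∧ hh u₂ u = 0 ∧
      (∀ v ∈ D i, hh v v ≠ 0 → (∃ c : F, v = c • u) ∨ (∃ c : F, v = c • u₂)) := by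
  have hF2 := card_sq hF
  obtain ⟨u, hu, huu⟩ := exists_noniso n D hD hF i
  have hu0 : u ≠ 0 := by
    rintro rfl
    rw [hf_zero_left] at huu
    exact zero_ne_one huu
  obtain ⟨w, hw, hwu⟩ : ∃ w ∈ D i, w ∉ Submodule.span F {u} := by
    by_contra hcon
    push Not at hcon
    have hle : D i ≤ Submodule.span F {u} := fun w hw => hcon w hw
    have h1 := Submodule.finrank_mono hle
    rw [hD.decomp.finrank_eq i, finrank_span_singleton hu0] at h1
    omega
  obtain ⟨u₂, hu₂def⟩ : ∃ u₂ : V, u₂ = w - hh w u • u := ⟨_, rfl⟩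
  have hu₂ : u₂ ∈ D i := by rw [hu₂def]; exact sub_mem hw (Submodule.smul_mem _ _ hu)
  have h20 : hh u₂ u = 0 := by
    rw [hu₂def, hf_sub_left, hermForm_smul_left, huu, mul_one, sub_self]
  have h02 : hh u u₂ = 0 := hf_swap0 n hF _ _ h20
  have hu₂0 : u₂ ≠ 0 := by
    intro h
    apply hwu
    rw [Submodule.mem_span_singleton]
    rw [hu₂def] at h
    exact ⟨hh w u, (sub_eq_zero.mp h).symm⟩
  have hspan : ∀ c ∈ D i, ∃ a b : F, a • u + b • u₂ = c := by
    have hli : LinearIndependent F ![u, u₂] := by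
      rw [LinearIndependent.pair_iff' hu0]
      intro a ha
      have h3 : hh (a • u) u = 0 := by rw [ha]; exact h20
      rw [hermForm_smul_left, huu, mul_one] at h3
      rw [h3, zero_smul] at ha
      exact hu₂0 ha.symm
    have hfr := finrank_span_eq_card hli
    rw [Fintype.card_fin] at hfr
    have hrange : Set.range ![u, u₂] = {u, u₂} := by
      ext x
      simp only [Set.mem_range, Set.mem_insert_iff, Set.mem_singleton_iff]
      constructor
      · rintro ⟨k, rfl⟩
        fin_cases k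
        · left; rfl
        · right; rfl
      · rintro (rfl | rfl)
        · exact ⟨0, rfl⟩
        · exact ⟨1, rfl⟩
    rw [hrange] at hfr
    have hle : Submodule.span F {u, u₂} ≤ D i := by
      rw [Submodule.span_le]
      intro x hx
      rcases hx with rfl | rfl
      · exact hu
      · exact hu₂
    have heq : Submodule.span F {u, u₂} = D i :=
      Submodule.eq_of_le_of_finrank_eq hle (by rw [hfr, hD.decomp.finrank_eq i])
    intro c hc
    rw [← heq, Submodule.mem_span_pair] at hc
    exact hc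
  have h22 : hh u₂ u₂ = 1 := by
    rcases norm_cases n hF u₂ with h | h
    · exfalso
      obtain ⟨x, hx, hne⟩ := (hD.nondegenerate i u₂ hu₂ hu₂0).1
      obtain ⟨a, b, rfl⟩ := hspan x hx
      rw [hermForm_add_left, hermForm_smul_left, hermForm_smul_left, h02, h, mul_zero, mul_zero,
        add_zero] at hne
      exact hne rfl
    · exact h
  refine ⟨u, u₂, hu, hu₂, huu, h22, h02, h20, ?_⟩
  intro v hv hvv
  obtain ⟨a, b, rfl⟩ := hspan v hv
  have hval : hh (a • u + b • u₂) (a • u + b • u₂) = a * a ^ 2 + b * b ^ 2 := by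
    rw [hermForm_add_left, hermForm_add_right hF2, hermForm_add_right hF2, hermForm_smul_left,
      hermForm_smul_left, hermForm_smul_left, hermForm_smul_left, hermForm_smul_right,
      hermForm_smul_right, hermForm_smul_right, hermForm_smul_right, huu, h22, h02, h20]
    ring
  by_cases ha : a = 0
  · right
    exact ⟨b, by rw [ha, zero_smul, zero_add]⟩
  · by_cases hb : b = 0
    · left
      exact ⟨a, by rw [hb, zero_smul, add_zero]⟩
    · exfalso
      apply hvv
      rw [hval, cube_eq_one hF a ha, cube_eq_one hF b hb]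
      exact add_self hF 1

theorem main {t : ℕ} (D : Fin t → Submodule F V)
    (hD : Cfsg.Geo.IsNondegenerateMDecomposition (Cfsg.hermForm n F 2) 2 D)
    (hF : Fintype.card F = 4) :
    Cfsg.Geo.decompositionStabilizer D ⊓ II < KK n D ∧ KK n D < II := by
  have hF2 := card_sq hF
  have ht := hD.decomp.two_le
  obtain ⟨i0, hi0⟩ : ∃ i0 : Fin t, i0 = ⟨0, by omega⟩ := ⟨_, rfl⟩
  obtain ⟨i1, hi1⟩ : ∃ i1 : Fin t, i1 = ⟨1, by omega⟩ := ⟨_, rfl⟩
  have h01 : i0 ≠ i1 := by
    rw [hi0, hi1]
    intro h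
    have := congrArg Fin.val h
    simp at this
  obtain ⟨u, u₂, hu, hu₂, huu, h22, h02, h20, hcl0⟩ := exists_frame n D hD hF i0
  obtain ⟨u', u₂', hu', hu₂', huu', h22', h02', h20', hcl1⟩ := exists_frame n D hD hF i1
  have o1 := hD.orthogonal i0 i1 h01
  have o2 := hD.orthogonal i1 i0 h01.symm
  have c1 : hh u u' = 0 := o1 u hu u' hu'
  have c2 : hh u u₂' = 0 := o1 u hu u₂' hu₂'
  have c3 : hh u₂ u' = 0 := o1 u₂ hu₂ u' hu'
  have c4 : hh u₂ u₂' = 0 := o1 u₂ hu₂ u₂' hu₂'
  have c5 : hh u' u = 0 := o2 u' hu' u hu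
  have c6 : hh u₂' u = 0 := o2 u₂' hu₂' u hu
  have c7 : hh u' u₂ = 0 := o2 u' hu' u₂ hu₂
  have c8 : hh u₂' u₂ = 0 := o2 u₂' hu₂' u₂ hu₂
  have hone : (1 : F) + 1 = 0 := add_self hF 1
  -- first witness
  have hp1 : hh (u + u') (u + u') = 0 := by
    rw [hermForm_add_left, hermForm_add_right hF2, hermForm_add_right hF2, huu, huu', c1, c5]
    linear_combination hone
  have hA : ∀ v ∈ Lam n D, (gt n (u + u')).1 *ᵥ v ∈ Lam n D := by
    rintro v ⟨i, hvi, hvv⟩
    rw [gt_act n hF _ hp1]
    by_cases hi0' : i = i0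
    · subst hi0'
      rcases hcl0 v hvi hvv with ⟨c, rfl⟩ | ⟨c, rfl⟩
      · have e : c • u + hh (c • u) (u + u') • (u + u') = c • u' := by
          rw [hermForm_add_right hF2, hermForm_smul_left, hermForm_smul_left, huu, c1, mul_one,
            mul_zero, add_zero, smul_add, ← add_assoc, ← add_smul, add_self hF, zero_smul,
            zero_add]
        rw [e]
        refine ⟨i1, Submodule.smul_mem _ _ hu', ?_⟩
        have hvv' : c * (c ^ 2 * 1) ≠ 0 := by
          rw [hermForm_smul_left, hermForm_smul_right, huu] at hvv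
          exact hvv
        rw [hermForm_smul_left, hermForm_smul_right, huu']
        exact hvv'
      · have e : c • u₂ + hh (c • u₂) (u + u') • (u + u') = c • u₂ := by
          rw [hermForm_add_right hF2, hermForm_smul_left, hermForm_smul_left, h20, c3, mul_zero,
            add_zero, zero_smul, add_zero]
        rw [e]
        exact ⟨i, hvi, hvv⟩
    · by_cases hi1' : i = i1
      · subst hi1'
        rcases hcl1 v hvi hvv with ⟨c, rfl⟩ | ⟨c, rfl⟩
        · have e : c • u' + hh (c • u') (u + u') • (u + u') = c • u := by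
            rw [hermForm_add_right hF2, hermForm_smul_left, hermForm_smul_left, huu', c5, mul_one,
              mul_zero, zero_add, smul_add, add_comm (c • u) (c • u'), ← add_assoc, ← add_smul,
              add_self hF, zero_smul, zero_add]
          rw [e]
          refine ⟨i0, Submodule.smul_mem _ _ hu, ?_⟩
          have hvv' : c * (c ^ 2 * 1) ≠ 0 := by
            rw [hermForm_smul_left, hermForm_smul_right, huu'] at hvv
            exact hvv
          rw [hermForm_smul_left, hermForm_smul_right, huu]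
          exact hvv'
        · have e : c • u₂' + hh (c • u₂') (u + u') • (u + u') = c • u₂' := by
            rw [hermForm_add_right hF2, hermForm_smul_left, hermForm_smul_left, h20', c6, mul_zero,
              add_zero, zero_smul, add_zero]
          rw [e]
          exact ⟨i, hvi, hvv⟩
      · have e1 : hh v u = 0 := hD.orthogonal i i0 hi0' v hvi u hu
        have e2 : hh v u' = 0 := hD.orthogonal i i1 hi1' v hvi u' hu'
        rw [hermForm_add_right hF2, e1, e2, add_zero, zero_smul, add_zero]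
        exact ⟨i, hvi, hvv⟩
  have hτ1K : gt n (u + u') ∈ KK n D := by
    refine ⟨gt_mem n _, fun v => ⟨fun h => ?_, hA v⟩⟩
    have := hA _ h
    rw [gt_gt n hF _ hp1] at this
    exact this
  have hτ1S : gt n (u + u') ∉ Cfsg.Geo.decompositionStabilizer D ⊓ II := by
    rintro ⟨⟨σ, hσ⟩, -⟩
    have e1 : (gt n (u + u')).1 *ᵥ u = u' := by
      rw [gt_act n hF _ hp1, hermForm_add_right hF2, huu, c1, add_zero, one_smul, ← add_assoc,
        add_self_eq_zero_of hF u, zero_add]
    have e2 : (gt n (u + u')).1 *ᵥ u₂ = u₂ := by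
      rw [gt_act n hF _ hp1, hermForm_add_right hF2, h20, c3, add_zero, zero_smul, add_zero]
    have m1 : u' ∈ D (σ i0) := by
      rw [← hσ i0, Submodule.mem_map]
      exact ⟨u, hu, by rw [Matrix.toLin'_apply, e1]⟩
    have m2 : u₂ ∈ D (σ i0) := by
      rw [← hσ i0, Submodule.mem_map]
      exact ⟨u₂, hu₂, by rw [Matrix.toLin'_apply, e2]⟩
    by_cases hs : σ i0 = i1
    · rw [hs] at m2
      have := o1 u₂ hu₂ u₂ m2
      rw [h22] at this
      exact one_ne_zero this
    · have := hD.orthogonal (σ i0) i1 hs u' m1 u' hu'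
      rw [huu'] at this
      exact one_ne_zero this
  -- second witness
  have hp2 : hh (u + u₂ + u' + u₂') (u + u₂ + u' + u₂') = 0 := by
    simp only [hermForm_add_left, hermForm_add_right hF2, huu, h22, huu', h22', h02, h20, h02', h20',
      c1, c2, c3, c4, c5, c6, c7, c8]
    linear_combination (2 : F) * hone
  have hτ2 : gt n (u + u₂ + u' + u₂') ∉ KK n D := by
    rintro ⟨-, hK⟩
    have huL : u ∈ Lam n D := ⟨i0, hu, by rw [huu]; exact one_ne_zero⟩
    obtain ⟨i, hvi, -⟩ := (hK u).mpr huL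
    have e : (gt n (u + u₂ + u' + u₂')).1 *ᵥ u = u₂ + u' + u₂' := by
      rw [gt_act n hF _ hp2]
      simp only [hermForm_add_right hF2, huu, h02, c1, c2, add_zero, one_smul]
      rw [← add_assoc, ← add_assoc, ← add_assoc, add_self_eq_zero_of hF u, zero_add]
    rw [e] at hvi
    by_cases hi : i = i0
    · subst hi
      have := o1 _ hvi u' hu'
      simp only [hermForm_add_left, c3, huu', h20', zero_add, add_zero] at this
      exact one_ne_zero this
    · have := hD.orthogonal i i0 hi _ hvi u₂ hu₂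
      simp only [hermForm_add_left, h22, c7, c8, add_zero] at this
      exact one_ne_zero this
  refine ⟨?_, ?_⟩
  · rw [SetLike.lt_iff_le_and_exists]
    exact ⟨stab_le_KK n D, _, hτ1K, hτ1S⟩
  · rw [SetLike.lt_iff_le_and_exists]
    exact ⟨KK_le n D, _, gt_mem n _, hτ2⟩

end

/-- Let F be the field with 4 elements (q = 2) and n ≥ 13. Let D be a decomposition of F^n into t pairwise orthogonal 2-dimensional subspaces, each non-degenerate for the standard unitary form Σ u_i v_i². Then the elements of SU_n(2) permuting the members of D form a subgroup that is not maximal: some subgroup lies strictly between it and SU_n(2). -/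
theorem result {F : Type*} [Field F] [Fintype F] (n : ℕ) (hF : Fintype.card F = 4) (hn : 13 ≤ n) {t : ℕ} (D : Fin t → Submodule F (Fin n → F)) (hD : Cfsg.Geo.IsNondegenerateMDecomposition (Cfsg.hermForm n F 2) 2 D) : ∃ K : Subgroup (Matrix.GeneralLinearGroup (Fin n) F), Cfsg.Geo.decompositionStabilizer D ⊓ (Cfsg.GU n F 2 ⊓ Cfsg.Geo.specialLinear (Fin n) F) < K ∧ K < (Cfsg.GU n F 2 ⊓ Cfsg.Geo.specialLinear (Fin n) F) := by
  exact ⟨KK n D, main n D hD hF⟩

end Cfsg.Agent.S5656
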