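import Cfsg.Statements.S1631
import Cfsg.Agent.S0780
import Cfsg.Agent.S5071
import Cfsg.Agent.S5656

set_option autoImplicit false

namespace Cfsg.Agent.S1631

open Cfsg.Agent.Lib.Helper19 Cfsg.Agent.Lib.Helper11.UnitaryTv Matrix
open Cfsg.Agent.S5656 (card_sq two_eq_zero add_self cube_eq_one fixed_cases one_tz add_self_eq_zero_of)

section
variable {F : Type*} [Field F] [Fintype F] (n : ℕ)

local notation "V" => (Fin n → F)
local notation "hh" => Cfsg.hermForm n F 2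
local notation "G" => (Cfsg.SU n F 2)

theorem tz_cases (hF : Fintype.card F = 4) (a : F) (ha : a + a ^ 2 = 0) : a = 0 ∨ a = 1 := by
  apply fixed_cases hF
  linear_combination ha - add_self hF a

theorem ut_val (hF : Fintype.card F = 4) (p : V) (a : F) (hp : hh p p = 0) (ha : a + a ^ 2 = 0) :
    (ut 2 n p a).1.1 = Cfsg.unitaryTransvection n 2 p a := by
  unfold ut
  rw [dif_pos ⟨card_sq hF, hp, ha⟩]

omit [Fintype F] in
theorem rank_ne_zero_of_ne_zero (A : Matrix (Fin n) (Fin n) F) (hA : A ≠ 0) : A.rank ≠ 0 := by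
  intro h
  apply hA
  have h1 : Module.finrank F (LinearMap.range A.mulVecLin) = 0 := h
  rw [Submodule.finrank_eq_zero, LinearMap.range_eq_bot] at h1
  apply mat_ext
  intro v
  have := LinearMap.congr_fun h1 v
  simpa using this

omit [Fintype F] in
theorem rank_vecMulVec_eq_one (u w : V) (hu : u ≠ 0) (hw : w ≠ 0) :
    (Matrix.vecMulVec u w).rank = 1 := by
  apply le_antisymm (Matrix.rank_vecMulVec_le u w)
  have : (Matrix.vecMulVec u w).rank ≠ 0 := by
    apply rank_ne_zero_of_ne_zero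
    intro h
    obtain ⟨i, hi⟩ := Function.ne_iff.mp hu
    obtain ⟨j, hj⟩ := Function.ne_iff.mp hw
    have := congrFun (congrFun h i) j
    rw [Matrix.vecMulVec_apply] at this
    exact (mul_ne_zero hi hj) this
  omega

theorem ut_rank (hF : Fintype.card F = 4) (p : V) (hp0 : p ≠ 0) (hp : hh p p = 0) :
    ((ut 2 n p 1).1.1 - 1).rank = 1 := by
  rw [ut_val n hF p 1 hp (one_tz hF)]
  unfold Cfsg.unitaryTransvection
  rw [add_sub_cancel_left, one_smul]
  apply rank_vecMulVec_eq_one n _ _ hp0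
  intro h
  obtain ⟨i, hi⟩ := Function.ne_iff.mp hp0
  have := congrFun h i
  exact (pow_ne_zero 2 hi) this

theorem rank_one_form (hF : Fintype.card F = 4) (g : G) (hr : (g.1.1 - 1).rank = 1) :
    ∃ p : V, p ≠ 0 ∧ hh p p = 0 ∧ g = ut 2 n p 1 := by
  classical
  have hF2 := card_sq hF
  obtain ⟨N, hN⟩ : ∃ N : Matrix (Fin n) (Fin n) F, N = g.1.1 - 1 := ⟨_, rfl⟩
  rw [← hN] at hr
  have hR : Module.finrank F (LinearMap.range N.mulVecLin) = 1 := hr
  obtain ⟨v₀, hv₀, hspan⟩ := finrank_eq_one_iff'.mp hR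
  obtain ⟨p, hpdef⟩ : ∃ p : V, p = v₀.1 := ⟨_, rfl⟩
  have hp0 : p ≠ 0 := by
    rw [hpdef]
    exact fun h => hv₀ (Subtype.ext h)
  have hcol : ∀ j, ∃ c : F, c • p = N *ᵥ Pi.single j 1 := by
    intro j
    obtain ⟨c, hc⟩ := hspan ⟨N.mulVecLin (Pi.single j 1), LinearMap.mem_range_self _ _⟩
    refine ⟨c, ?_⟩
    rw [hpdef]
    exact congrArg Subtype.val hc
  choose w hw using hcol
  have hNeq : N = Matrix.vecMulVec p w := by
    ext i j
    have := congrFun (hw j) i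
    rw [Matrix.mulVec_single_one] at this
    simp only [Matrix.vecMulVec_apply, Pi.smul_apply, smul_eq_mul, Matrix.col_apply] at this ⊢
    rw [← this]
    ring
  have hg : g.1.1 = 1 + Matrix.vecMulVec p w := by
    rw [← hNeq, hN]
    abel
  have hact : ∀ v : V, g.1.1 *ᵥ v = v + (w ⬝ᵥ v) • p := by
    intro v
    rw [hg, Matrix.add_mulVec, Matrix.one_mulVec, Matrix.vecMulVec_mulVec]
    congr 1
    ext i
    simp [mul_comm]
  have hwp : w ⬝ᵥ p = 0 := by
    have hdet := g.1.2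
    rw [hg, Matrix.vecMulVec_eq Unit, Matrix.det_one_add_replicateCol_mul_replicateRow] at hdet
    linear_combination hdet
  have hw0 : w ≠ 0 := by
    rintro rfl
    rw [hNeq, Matrix.vecMulVec_zero, Matrix.rank_zero] at hr
    exact zero_ne_one hr
  obtain ⟨u₀, hu₀⟩ : ∃ u₀ : V, w ⬝ᵥ u₀ = 1 := by
    obtain ⟨j, hj⟩ := Function.ne_iff.mp hw0
    refine ⟨(w j)⁻¹ • Pi.single j 1, ?_⟩
    rw [dotProduct_smul, dotProduct_single, mul_one, smul_eq_mul, inv_mul_cancel₀ hj]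
  have hiso : ∀ v u : V, (w ⬝ᵥ u) ^ 2 * hh v p + (w ⬝ᵥ v) * hh p u +
      (w ⬝ᵥ v) * (w ⬝ᵥ u) ^ 2 * hh p p = 0 := by
    intro v u
    have := hf_act 2 n g v u
    rw [hact, hact, hermForm_add_left, hermForm_add_right hF2, hermForm_add_right hF2,
      hermForm_smul_left, hermForm_smul_left, hermForm_smul_right, hermForm_smul_right] at this
    linear_combination this
  have hp : hh p p = 0 := by
    have := hiso u₀ p
    rw [hwp, hu₀] at this
    simpa using this
  have hker : ∀ v : V, hh v p = 0 → w ⬝ᵥ v = 0 := by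
    intro v hv
    have h1 := hiso v u₀
    rw [hu₀, hp, hv] at h1
    have h2 : (w ⬝ᵥ v) * hh p u₀ = 0 := by linear_combination h1
    rcases mul_eq_zero.mp h2 with h3 | h3
    · exact h3
    · exfalso
      obtain ⟨y, hy⟩ := exists_hf_ne 2 n p hp0
      apply hy
      have h4 := hiso y u₀
      rw [hu₀, hp, h3] at h4
      linear_combination h4
  have hgens : g ∈ gens 2 n p := by
    refine ⟨fun v => ⟨w ⬝ᵥ v, hact v⟩, fun v hv => ?_⟩
    rw [hact, hker v hv, zero_smul, add_zero]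
  rw [gens_eq 2 n hF2 p hp0 hp] at hgens
  obtain ⟨a, ha, hga⟩ := hgens
  refine ⟨p, hp0, hp, ?_⟩
  rcases tz_cases hF a ha with h0 | h1
  · exfalso
    rw [h0, ut_zero 2 n hF2 p hp] at hga
    rw [hga] at hN
    have : N = 0 := by rw [hN]; show (1 : Matrix (Fin n) (Fin n) F) - 1 = 0; exact sub_self _
    rw [this, Matrix.rank_zero] at hr
    exact zero_ne_one hr
  · rw [hga, h1]

theorem ut_sq (hF : Fintype.card F = 4) (p : V) (hp : hh p p = 0) :
    ut 2 n p 1 * ut 2 n p 1 = 1 := by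
  rw [ut_mul 2 n (card_sq hF) p 1 1 hp (one_tz hF) (one_tz hF), add_self hF,
    ut_zero 2 n (card_sq hF) p hp]

theorem ut_order (hF : Fintype.card F = 4) (p : V) (hp0 : p ≠ 0) (hp : hh p p = 0) :
    orderOf (ut 2 n p 1) = 2 := by
  have : Fact (Nat.Prime 2) := ⟨Nat.prime_two⟩
  apply orderOf_eq_prime
  · rw [pow_two]
    exact ut_sq n hF p hp
  · exact ut_ne_one 2 n (card_sq hF) p hp0 hp 1 (one_tz hF) one_ne_zero

theorem prod_cases (hF : Fintype.card F = 4) (p p' : V) (hp : hh p p = 0) (hp' : hh p' p' = 0) :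
    (ut 2 n p 1 * ut 2 n p' 1) ^ 2 = 1 ∨ (ut 2 n p 1 * ut 2 n p' 1) ^ 3 = 1 := by
  have hF2 := card_sq hF
  have h1tz := one_tz hF
  by_cases hpp : hh p p' = 0
  · left
    have hc := ut_comm_of_orth 2 n hF2 p p' 1 1 hp hp' h1tz h1tz hpp
    rw [pow_two]
    calc ut 2 n p 1 * ut 2 n p' 1 * (ut 2 n p 1 * ut 2 n p' 1)
        = ut 2 n p 1 * (ut 2 n p' 1 * ut 2 n p 1) * ut 2 n p' 1 := by group
      _ = ut 2 n p 1 * (ut 2 n p 1 * ut 2 n p' 1) * ut 2 n p' 1 := by rw [hc]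
      _ = (ut 2 n p 1 * ut 2 n p 1) * (ut 2 n p' 1 * ut 2 n p' 1) := by group
      _ = 1 := by rw [ut_sq n hF p hp, ut_sq n hF p' hp', one_mul]
  · right
    obtain ⟨s, hs⟩ : ∃ s : F, s = hh p p' := ⟨_, rfl⟩
    have hs0 : s ≠ 0 := by rw [hs]; exact hpp
    have hs' : hh p' p = s ^ 2 := by rw [hs, hermForm_conj hF2]
    have hss : s * s ^ 2 = 1 := cube_eq_one hF s hs0
    have h2 : (2 : F) = 0 := two_eq_zero hF
    have step : ∀ v : V, (ut 2 n p 1 * ut 2 n p' 1).1.1 *ᵥ v =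
        v + (hh v p + s ^ 2 * hh v p') • p + hh v p' • p' := by
      intro v
      rw [val_mul, ← Matrix.mulVec_mulVec, ut_act 2 n hF2 p' 1 hp' h1tz, ut_act 2 n hF2 p 1 hp h1tz,
        one_mul, one_mul, hermForm_add_left, hermForm_smul_left, hs']
      module
    have cx : ∀ v : V, hh ((ut 2 n p 1 * ut 2 n p' 1).1.1 *ᵥ v) p = hh v p + s ^ 2 * hh v p' := by
      intro v
      rw [step, hermForm_add_left, hermForm_add_left, hermForm_smul_left, hermForm_smul_left, hp,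
        hs']
      ring
    have cy : ∀ v : V, hh ((ut 2 n p 1 * ut 2 n p' 1).1.1 *ᵥ v) p' = s * hh v p := by
      intro v
      rw [step, hermForm_add_left, hermForm_add_left, hermForm_smul_left, hermForm_smul_left, hp',
        ← hs]
      linear_combination (hh v p') * hss + (hh v p') * h2
    apply su_ext
    intro v
    rw [pow_succ, pow_two, val_mul, val_mul, ← Matrix.mulVec_mulVec, ← Matrix.mulVec_mulVec, val_one,
      Matrix.one_mulVec]
    rw [step ((ut 2 n p 1 * ut 2 n p' 1).1.1 *ᵥ ((ut 2 n p 1 * ut 2 n p' 1).1.1 *ᵥ v)),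
      cx ((ut 2 n p 1 * ut 2 n p' 1).1.1 *ᵥ v), cy ((ut 2 n p 1 * ut 2 n p' 1).1.1 *ᵥ v),
      step ((ut 2 n p 1 * ut 2 n p' 1).1.1 *ᵥ v), cx v, cy v, step v]
    obtain ⟨x, hx⟩ : ∃ x : F, x = hh v p := ⟨_, rfl⟩
    obtain ⟨y, hy⟩ : ∃ y : F, y = hh v p' := ⟨_, rfl⟩
    rw [← hx, ← hy]
    have e1 : (x + s ^ 2 * y) + (x + s ^ 2 * y + s ^ 2 * (s * x)) +
        (x + s ^ 2 * y + s ^ 2 * (s * x) + s ^ 2 * (s * (x + s ^ 2 * y))) = 0 := by
      linear_combination (3 * x + 2 * s ^ 2 * y) * h2 + (3 * x + s ^ 2 * y) * hss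
    have e2 : y + s * x + s * (x + s ^ 2 * y) = 0 := by
      linear_combination (y + s * x) * h2 + y * hss
    have key : v + (x + s ^ 2 * y) • p + y • p' + (x + s ^ 2 * y + s ^ 2 * (s * x)) • p + (s * x) • p' +
        (x + s ^ 2 * y + s ^ 2 * (s * x) + s ^ 2 * (s * (x + s ^ 2 * y))) • p +
        (s * (x + s ^ 2 * y)) • p' =
        v + ((x + s ^ 2 * y) + (x + s ^ 2 * y + s ^ 2 * (s * x)) +
        (x + s ^ 2 * y + s ^ 2 * (s * x) + s ^ 2 * (s * (x + s ^ 2 * y)))) • p +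
        (y + s * x + s * (x + s ^ 2 * y)) • p' := by
      simp only [add_smul]
      abel
    rw [key, e1, e2, zero_smul, zero_smul, add_zero, add_zero]

/-- an isotropic vector -/
theorem exists_iso4 (hF : Fintype.card F = 4) (hn : 4 ≤ n) :
    ∃ p : V, p ≠ 0 ∧ hh p p = 0 := by
  classical
  obtain ⟨i0, hi0⟩ : ∃ i0 : Fin n, i0 = ⟨0, by omega⟩ := ⟨_, rfl⟩
  obtain ⟨i1, hi1⟩ : ∃ i1 : Fin n, i1 = ⟨1, by omega⟩ := ⟨_, rfl⟩
  have h01 : i0 ≠ i1 := by
    rw [hi0, hi1]
    intro h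
    have := congrArg Fin.val h
    simp at this
  have hsingle : ∀ (i : Fin n) (v : V), hh (Pi.single i 1) v = v i ^ 2 := by
    intro i v
    simp [Cfsg.hermForm, Pi.single_apply]
  refine ⟨Pi.single i0 1 + Pi.single i1 1, ?_, ?_⟩
  · intro h
    have := congrFun h i0
    simp [Pi.single_apply, h01] at this
  · rw [hermForm_add_left, hsingle, hsingle]
    simp only [Pi.add_apply, Pi.single_apply, h01, h01.symm, if_true, if_false, add_zero, zero_add,
      one_pow]
    exact add_self hF 1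

theorem conj_class (hF : Fintype.card F = 4) (p₀ p : V) (hp₀0 : p₀ ≠ 0) (hp₀ : hh p₀ p₀ = 0)
    (hp0 : p ≠ 0) (hp : hh p p = 0) : ∃ g : G, g * ut 2 n p₀ 1 * g⁻¹ = ut 2 n p 1 := by
  have hF2 := card_sq hF
  obtain ⟨g, -, hg⟩ := Cfsg.Agent.S5071.exists_conj 2 n hF2 p₀ p hp₀0 hp₀ hp0 hp
  rw [TU_conj 2 n hF2 p₀ hp₀0 hp₀] at hg
  have hgp0 := mulVec_ne_zero 2 n g p₀ hp₀0
  have hgp : hh (g.1.1 *ᵥ p₀) (g.1.1 *ᵥ p₀) = 0 := by rw [hf_act, hp₀]
  have hmem : ut 2 n p 1 ∈ TU 2 n (g.1.1 *ᵥ p₀) := by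
    rw [← hg]
    exact ut_mem_TU 2 n hF2 p hp0 hp 1 (one_tz hF)
  obtain ⟨a, ha, hpa⟩ := (mem_TU 2 n hF2 _ hgp0 hgp _).mp hmem
  refine ⟨g, ?_⟩
  rw [ut_conj 2 n hF2 g p₀ 1 hp₀ (one_tz hF), hpa]
  rcases tz_cases hF a ha with h0 | h1
  · exfalso
    rw [h0, ut_zero 2 n hF2 _ hgp] at hpa
    exact ut_ne_one 2 n hF2 p hp0 hp 1 (one_tz hF) one_ne_zero hpa
  · rw [h1]

theorem main (hF : Fintype.card F = 4) (hn : 4 ≤ n) :
    Cfsg.IsThreeTranspositionClass {g : G | (g.1.1 - 1).rank = 1} := by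
  have hF2 := card_sq hF
  refine ⟨⟨?_, ?_⟩, ?_, ?_⟩
  · intro d hd
    obtain ⟨p, hp0, hp, rfl⟩ := rank_one_form n hF d hd
    exact ut_order n hF p hp0 hp
  · intro d hd e he
    obtain ⟨p, hp0, hp, rfl⟩ := rank_one_form n hF d hd
    obtain ⟨p', hp'0, hp', rfl⟩ := rank_one_form n hF e he
    exact prod_cases n hF p p' hp hp'
  · obtain ⟨p₀, hp₀0, hp₀⟩ := exists_iso4 n hF hn
    refine ⟨ut 2 n p₀ 1, ut_rank n hF p₀ hp₀0 hp₀, ?_⟩
    ext d
    constructor
    · intro hd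
      obtain ⟨p, hp0, hp, rfl⟩ := rank_one_form n hF d hd
      obtain ⟨g, hg⟩ := conj_class n hF p₀ p hp₀0 hp₀ hp0 hp
      show IsConj _ _
      rw [isConj_iff]
      exact ⟨g, hg⟩
    · intro hd
      have hd' : IsConj (ut 2 n p₀ 1) d := hd
      rw [isConj_iff] at hd'
      obtain ⟨g, rfl⟩ := hd'
      rw [ut_conj 2 n hF2 g p₀ 1 hp₀ (one_tz hF)]
      exact ut_rank n hF _ (mulVec_ne_zero 2 n g p₀ hp₀0) (by rw [hf_act, hp₀])
  · rw [eq_top_iff, ← Cfsg.Agent.S0780.result hF2 n (by omega) (by omega), Subgroup.closure_le]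
    rintro A ⟨v, c, hv, hA⟩
    by_cases hv0 : v = 0
    · have : A = 1 := by
        apply Subtype.ext
        apply Subtype.ext
        rw [hA, hv0]
        unfold Cfsg.unitaryTransvection
        simp
      rw [this]
      exact Subgroup.one_mem _
    · by_cases hc0 : c = 0
      · have : A = 1 := by
          apply Subtype.ext
          apply Subtype.ext
          rw [hA, hc0]
          unfold Cfsg.unitaryTransvection
          simp
        rw [this]
        exact Subgroup.one_mem _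
      · apply Subgroup.subset_closure
        show (A.1.1 - 1).rank = 1
        rw [hA]
        unfold Cfsg.unitaryTransvection
        rw [add_sub_cancel_left, ← Matrix.vecMulVec_smul]
        apply rank_vecMulVec_eq_one n _ _ hv0
        intro h
        obtain ⟨i, hi⟩ := Function.ne_iff.mp hv0
        have := congrFun h i
        simp only [Pi.smul_apply, smul_eq_mul, Pi.zero_apply] at this
        exact (mul_ne_zero hc0 (pow_ne_zero 2 hi)) this

end

/-- The unitary transvections of SU(n, 2), n ≥ 4, form a generating conjugacy class of 3-transpositions. -/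
theorem result (F : Type) [Field F] [Fintype F] [DecidableEq F] (hF : Fintype.card F = 4) (n : ℕ) (hn : 4 ≤ n) : Cfsg.IsThreeTranspositionClass {g : ↥(Cfsg.SU n F 2) | (((g : Matrix.SpecialLinearGroup (Fin n) F) : Matrix (Fin n) (Fin n) F) - 1).rank = 1} := by
  exact main n hF hn

end Cfsg.Agent.S1631
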