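import Cfsg.Statements.S1634
import Mathlib
import Cfsg.Agent.Lib.Helper94.LeechML3

set_option autoImplicit false
open Cfsg

namespace Cfsg.Agent.S1634

open Cfsg.Agent.Lib.Helper94

/-- The McLaughlin group acts on 2025 points (minimal vectors orthogonal to v with customary inner product 2 with w) transitively with rank 4 and subdegrees 1, 330, 462, 1232. -/
theorem result (v w : ↥Cfsg.leechLattice) (hv : Cfsg.sqNorm (v : Cfsg.GolayPt → ℤ) = 32) (hw : Cfsg.sqNorm (w : Cfsg.GolayPt → ℤ) = 32) (hvw : Cfsg.dotInt (v : Cfsg.GolayPt → ℤ) (w : Cfsg.GolayPt → ℤ) = -8) : {x : ↥Cfsg.leechLattice | Cfsg.sqNorm (x : Cfsg.GolayPt → ℤ) = 32 ∧ Cfsg.dotInt (v : Cfsg.GolayPt → ℤ) (x : Cfsg.GolayPt → ℤ) = 0 ∧ Cfsg.dotInt (w : Cfsg.GolayPt → ℤ) (x : Cfsg.GolayPt → ℤ) = 16}.ncard = 2025 ∧ (∀ x ∈ {x : ↥Cfsg.leechLattice | Cfsg.sqNorm (x : Cfsg.GolayPt → ℤ) = 32 ∧ Cfsg.dotInt (v : Cfsg.GolayPt → ℤ) (x : Cfsg.GolayPt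 → ℤ) = 0 ∧ Cfsg.dotInt (w : Cfsg.GolayPt → ℤ) (x : Cfsg.GolayPt → ℤ) = 16}, ∀ x' ∈ {x : ↥Cfsg.leechLattice | Cfsg.sqNorm (x : Cfsg.GolayPt → ℤ) = 32 ∧ Cfsg.dotInt (v : Cfsg.GolayPt → ℤ) (x : Cfsg.GolayPt → ℤ) = 0 ∧ Cfsg.dotInt (w : Cfsg.GolayPt → ℤ) (x : Cfsg.GolayPt → ℤ) = 16}, ∃ g : ↥Cfsg.Co0, g • v = v ∧ g • w = w ∧ g • x = x') ∧ ∀ x ∈ {x : ↥Cfsg.leechLattice | Cfsg.sqNorm (x : Cfsg.GolayPt → ℤ) = 32 ∧ Cfsg.dotInt (v : Cfsg.GolayPt → ℤ) (x : Cfsg.GolayPt → ℤ) = 0 ∧ Cfsg.dotInt (w : Cfsg.GolayPt → ℤ) (x : Cfsg.GolayPt → ℤ) = 16}, ∃ y₁ ∈ {x : ↥Cfsg.leechLattice | Cfsg.sqNorm (x : Cfsg.GolayPt → ℤ) = 32 ∧ Cfsg.dotInt (v : Cfsg.GolayPt → ℤ) (x : Cfsg.GolayPt → ℤ) = 0 ∧ Cfsg.dotInt (w : Cfsg.GolayPt → ℤ) (x : Cfsg.GolayPt → ℤ) = 16}, ∃ y₂ ∈ {x : ↥Cfsg.leechLattice | Cfsg.sqNorm (x : Cfsg.GolayPt → ℤ) = 32 ∧ Cfsg.dotInt (v : Cfsg.GolayPt → ℤ) (x : Cfsg.GolayPt → ℤ) = 0 ∧ Cfsg.dotInt (w : Cfsg.GolayPt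 → ℤ) (x : Cfsg.GolayPt → ℤ) = 16}, ∃ y₃ ∈ {x : ↥Cfsg.leechLattice | Cfsg.sqNorm (x : Cfsg.GolayPt → ℤ) = 32 ∧ Cfsg.dotInt (v : Cfsg.GolayPt → ℤ) (x : Cfsg.GolayPt → ℤ) = 0 ∧ Cfsg.dotInt (w : Cfsg.GolayPt → ℤ) (x : Cfsg.GolayPt → ℤ) = 16}, (MulAction.orbit ↥(MulAction.stabilizer ↥Cfsg.Co0 v ⊓ MulAction.stabilizer ↥Cfsg.Co0 w ⊓ MulAction.stabilizer ↥Cfsg.Co0 x) y₁).ncard = 330 ∧ (MulAction.orbit ↥(MulAction.stabilizer ↥Cfsg.Co0 v ⊓ MulAction.stabilizer ↥Cfsg.Co0 w ⊓ MulAction.stabilizer ↥Cfsg.Co0 x) y₂).ncard = 462 ∧ (MulAction.orbit ↥(MulAction.stabilizer ↥Cfsg.Co0 v ⊓ MulAction.stabilizer ↥Cfsg.Co0 w ⊓ MulAction.stabilizer ↥Cfsg.Co0 x) y₃).ncard = 1232 := by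
  classical
  -- the vector of sum of squares 48
  set u : leechLattice := v + w with hu
  have hu1 : (u : GolayPt → ℤ) = (v : GolayPt → ℤ) + (w : GolayPt → ℤ) := rfl
  have nu : sqNorm (u : GolayPt → ℤ) = 48 := by
    rw [hu1, sqNorm_add, hv, hw, hvw]; norm_num
  have huv : dotInt (u : GolayPt → ℤ) (v : GolayPt → ℤ) = 24 := by
    rw [hu1, dotInt_add_left', dotInt_self, hv, dotInt_comm', hvw]; norm_num
  have hwuv : w = u - v := by rw [hu]; abel
  have dotU : ∀ y : leechLattice, dotInt (u : GolayPt → ℤ) (y : GolayPt → ℤ) =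
      dotInt (v : GolayPt → ℤ) (y : GolayPt → ℤ) + dotInt (w : GolayPt → ℤ) (y : GolayPt → ℤ) := by
    intro y
    rw [hu1, dotInt_add_left']
  have c0 : Conj2 (u : GolayPt → ℤ) (v : GolayPt → ℤ) u5 oa := conj2_mcl u.1 v.1 u.2 v.2 nu hv huv
  -- normal form of a triple
  have cx : ∀ x : leechLattice, (sqNorm (x : GolayPt → ℤ) = 32 ∧
      dotInt (v : GolayPt → ℤ) (x : GolayPt → ℤ) = 0 ∧
      dotInt (w : GolayPt → ℤ) (x : GolayPt → ℤ) = 16) →
      Conj3 (u : GolayPt → ℤ) (v : GolayPt → ℤ) (x : GolayPt → ℤ) u5 oa ob := by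
    rintro x ⟨h1, h2, h3⟩
    obtain ⟨g0, hg0, huL, hvL, e1, e2⟩ := c0
    have hx0 : ((g0 x : leechLattice) : GolayPt → ℤ) ∈ mlSet := by
      refine ⟨(g0 x).2, by rw [hg0.2]; exact h1, ?_, ?_⟩
      · rw [← e2]; exact (co0_dot g0 hg0 ⟨v.1, hvL⟩ x).trans h2
      · rw [← e1]
        refine (co0_dot g0 hg0 ⟨u.1, huL⟩ x).trans ?_
        show dotInt (u : GolayPt → ℤ) (x : GolayPt → ℤ) = 16
        rw [dotU, h2, h3]; norm_num
    have c1 : Conj3 (u : GolayPt → ℤ) (v : GolayPt → ℤ) (x : GolayPt → ℤ) u5 oa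
        ((g0 x : leechLattice) : GolayPt → ℤ) := ⟨g0, hg0, huL, hvL, x.2, e1, e2, rfl⟩
    exact c1.trans (conj3_mlSet _ hx0)
  -- an element fixing `u` and `v` fixes `w`
  have fixw : ∀ k : ↥Co0, k • u = u → k • v = v → k • w = w := by
    intro k h1 h2
    have : k • (u - v) = k • u - k • v := co0_sub k.1 k.2 u v
    rw [hwuv, this, h1, h2]
  refine ⟨?_, ?_, ?_⟩
  · obtain ⟨g, hg, huL, hvL, e1, e2⟩ := c0
    have hgu : ((g u : leechLattice) : GolayPt → ℤ) = u5 := e1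
    have hgv : ((g v : leechLattice) : GolayPt → ℤ) = oa := e2
    refine (ncard_transfer g _ (fun y => y ∈ mlSet) ?_ ?_).trans ncard_mlSet
    · intro y
      unfold mlSet
      simp only [Set.mem_ofPred_eq]
      rw [← hgu, ← hgv, co0_dot g hg, co0_dot g hg, hg.2, dotU]
      constructor
      · rintro ⟨a, b, c⟩
        exact ⟨(g y).2, a, b, by rw [b, c]; norm_num⟩
      · rintro ⟨-, a, b, c⟩
        exact ⟨a, b, by rw [b] at c; omega⟩
    · intro y hy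
      exact hy.1
  · intro x hx x' hx'
    have c1 := (cx x hx).trans (cx x' hx').symm
    obtain ⟨k, k1, k2, k3⟩ := (conj3_iff u v x u v x').mp c1
    exact ⟨k, k2, fixw k k1 k2, k3⟩
  · intro x hx
    obtain ⟨g, hg, huL, hvL, hxL, hgu, hgv, hgx⟩ := cx x hx
    have hgu : ((g u : leechLattice) : GolayPt → ℤ) = u5 := hgu
    have hgv : ((g v : leechLattice) : GolayPt → ℤ) = oa := hgv
    have hgx : ((g x : leechLattice) : GolayPt → ℤ) = ob := hgx
    have memX : ∀ y : ↥leechLattice, (sqNorm (y : GolayPt → ℤ) = 32 ∧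
        dotInt (v : GolayPt → ℤ) (y : GolayPt → ℤ) = 0 ∧
        dotInt (w : GolayPt → ℤ) (y : GolayPt → ℤ) = 16) ↔
        ((g y : leechLattice) : GolayPt → ℤ) ∈ mlSet := by
      intro y
      unfold mlSet
      simp only [Set.mem_ofPred_eq]
      rw [← hgu, ← hgv, co0_dot g hg, co0_dot g hg, hg.2, dotU]
      constructor
      · rintro ⟨a, b, c⟩
        exact ⟨(g y).2, a, b, by rw [b, c]; norm_num⟩
      · rintro ⟨-, a, b, c⟩
        exact ⟨a, b, by rw [b] at c; omega⟩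
    have dotX : ∀ y : ↥leechLattice, dotInt ob ((g y : leechLattice) : GolayPt → ℤ) =
        dotInt (x : GolayPt → ℤ) (y : GolayPt → ℤ) := by
      intro y
      rw [← hgx, co0_dot g hg]
    have key : ∀ (j : ℤ) (F : Finset (GolayPt → ℤ)),
        (∀ y, y ∈ F ↔ y ∈ mlSet ∧ dotInt ob y = j) → j ≠ 32 → 0 < F.card →
        ∃ y₁ : ↥leechLattice, (sqNorm (y₁ : GolayPt → ℤ) = 32 ∧
          dotInt (v : GolayPt → ℤ) (y₁ : GolayPt → ℤ) = 0 ∧
          dotInt (w : GolayPt → ℤ) (y₁ : GolayPt → ℤ) = 16) ∧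
          (MulAction.orbit ↥(MulAction.stabilizer ↥Cfsg.Co0 v ⊓ MulAction.stabilizer ↥Cfsg.Co0 w ⊓
            MulAction.stabilizer ↥Cfsg.Co0 x) y₁).ncard = F.card := by
      intro j F hF hj hpos
      obtain ⟨f, hf⟩ := Finset.card_pos.mp hpos
      have hf' := (hF f).mp hf
      set y₁ : leechLattice := g.symm ⟨f, hf'.1.1⟩ with hy₁
      have hgy : ((g y₁ : leechLattice) : GolayPt → ℤ) = f := by
        rw [hy₁, Equiv.apply_symm_apply]
      have hy₁X := (memX y₁).mpr (by rw [hgy]; exact hf'.1)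
      have hy₁j : dotInt (x : GolayPt → ℤ) (y₁ : GolayPt → ℤ) = j := by
        rw [← dotX, hgy]; exact hf'.2
      refine ⟨y₁, hy₁X, ?_⟩
      have horb : (MulAction.orbit ↥(MulAction.stabilizer ↥Cfsg.Co0 v ⊓
          MulAction.stabilizer ↥Cfsg.Co0 w ⊓ MulAction.stabilizer ↥Cfsg.Co0 x) y₁ :
          Set ↥leechLattice) =
          {z : ↥leechLattice | (sqNorm (z : GolayPt → ℤ) = 32 ∧
            dotInt (v : GolayPt → ℤ) (z : GolayPt → ℤ) = 0 ∧
            dotInt (w : GolayPt → ℤ) (z : GolayPt → ℤ) = 16) ∧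
            dotInt (x : GolayPt → ℤ) (z : GolayPt → ℤ) = j} := by
        ext z
        constructor
        · rintro ⟨k, rfl⟩
          obtain ⟨⟨kk, hkk⟩, ⟨hk1, hk2⟩, hk3⟩ := k
          have f1 : kk v = v := MulAction.mem_stabilizer_iff.mp hk1
          have f2 : kk w = w := MulAction.mem_stabilizer_iff.mp hk2
          have f3 : kk x = x := MulAction.mem_stabilizer_iff.mp hk3
          show (sqNorm ((kk y₁ : leechLattice) : GolayPt → ℤ) = 32 ∧
            dotInt (v : GolayPt → ℤ) ((kk y₁ : leechLattice) : GolayPt → ℤ) = 0 ∧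
            dotInt (w : GolayPt → ℤ) ((kk y₁ : leechLattice) : GolayPt → ℤ) = 16) ∧
            dotInt (x : GolayPt → ℤ) ((kk y₁ : leechLattice) : GolayPt → ℤ) = j
          refine ⟨⟨by rw [hkk.2]; exact hy₁X.1, ?_, ?_⟩, ?_⟩
          · have := co0_dot kk hkk v y₁
            rw [f1] at this
            rw [this]; exact hy₁X.2.1
          · have := co0_dot kk hkk w y₁
            rw [f2] at this
            rw [this]; exact hy₁X.2.2
          · have := co0_dot kk hkk x y₁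
            rw [f3] at this
            rw [this]; exact hy₁j
        · rintro ⟨hz, hzj⟩
          have mz := (memX z).mp hz
          have my := (memX y₁).mp hy₁X
          have ny : ((g y₁ : leechLattice) : GolayPt → ℤ) ≠ ob := by
            intro h
            have := dotX y₁
            rw [h, dotInt_self, sqNorm_ob, hy₁j] at this
            exact hj this.symm
          have nz : ((g z : leechLattice) : GolayPt → ℤ) ≠ ob := by
            intro h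
            have := dotX z
            rw [h, dotInt_self, sqNorm_ob, hzj] at this
            exact hj this.symm
          obtain ⟨σ, hσ, s1, s2, s3⟩ := ml_rank4 _ _ my mz ny nz
            (by rw [dotX, dotX, hy₁j, hzj])
          have q1 : Conj4 (u : GolayPt → ℤ) (v : GolayPt → ℤ) (x : GolayPt → ℤ)
              (y₁ : GolayPt → ℤ) u5 oa ob ((g y₁ : leechLattice) : GolayPt → ℤ) :=
            ⟨g, hg, u.2, v.2, x.2, y₁.2, hgu, hgv, hgx, rfl⟩
          have q2 : Conj4 (u : GolayPt → ℤ) (v : GolayPt → ℤ) (x : GolayPt → ℤ)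
              (z : GolayPt → ℤ) u5 oa ob ((g z : leechLattice) : GolayPt → ℤ) :=
            ⟨g, hg, u.2, v.2, x.2, z.2, hgu, hgv, hgx, rfl⟩
          have q3 := conj4_perm hσ u5_memL oa_mem ob_mem (g y₁).2
          have e3 : permVec σ ob = ob := by
            unfold ob
            rw [permVec_twoVec, s1, s2]
          rw [permVec_u5 s1, permVec_oa s1 s2, e3, s3] at q3
          obtain ⟨k, k1, k2, k3, k4⟩ := (conj4_iff u v x y₁ u v x z).mp ((q1.trans q3).trans q2.symm)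
          refine ⟨⟨k, ⟨MulAction.mem_stabilizer_iff.mpr k2,
            MulAction.mem_stabilizer_iff.mpr (fixw k k1 k2)⟩,
            MulAction.mem_stabilizer_iff.mpr k3⟩, k4⟩
      rw [horb]
      refine (ncard_transfer g _ (fun y => y ∈ mlSet ∧ dotInt ob y = j) ?_ ?_).trans ?_
      · intro y
        rw [memX, dotX]
      · intro y hy
        exact hy.1.1
      · have : {y : GolayPt → ℤ | y ∈ mlSet ∧ dotInt ob y = j} = ↑F := by
          ext y
          rw [Finset.mem_coe, hF]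
          rfl
        rw [this, Set.ncard_coe_finset]
    obtain ⟨y₁, hy₁, e1⟩ := key 0 mlB mem_mlB_iff (by norm_num) (by rw [card_mlB]; norm_num)
    obtain ⟨y₂, hy₂, e2⟩ := key 16 mlC mem_mlC_iff (by norm_num) (by rw [card_mlC]; norm_num)
    obtain ⟨y₃, hy₃, e3⟩ := key 8 mlD mem_mlD_iff (by norm_num) (by rw [card_mlD]; norm_num)
    rw [card_mlB] at e1
    rw [card_mlC] at e2
    rw [card_mlD] at e3
    exact ⟨y₁, hy₁, y₂, hy₂, y₃, hy₃, e1, e2, e3⟩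

end Cfsg.Agent.S1634
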