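import Cfsg.Statements.S1635
import Cfsg.Agent.Lib.Helper95.GolayConcrete

set_option autoImplicit false
open Cfsg

namespace Cfsg.Agent.S1635

open Cfsg.Agent.Lib.Helper95

/-- Coset leaders of the length-24 code: a coset contains a unique word of weight ≤ 3, or else exactly six words of weight 4 and none lighter. -/
theorem result (w : Cfsg.GolayPt → ZMod 2) : ({v : Cfsg.GolayPt → ZMod 2 | hammingNorm v ≤ 4 ∧ w - v ∈ Cfsg.golayCode}.ncard = 1 ∧ ∃ v : Cfsg.GolayPt → ZMod 2, hammingNorm v ≤ 3 ∧ w - v ∈ Cfsg.golayCode) ∨ ({v : Cfsg.GolayPt → ZMod 2 | hammingNorm v ≤ 4 ∧ w - v ∈ Cfsg.golayCode}.ncard = 6 ∧ ∀ v : Cfsg.GolayPt → ZMod 2, w - v ∈ Cfsg.golayCode → hammingNorm v ≤ 4 → hammingNorm v = 4) := by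
  classical
  have hsymm : ∀ v : Cfsg.GolayPt → ZMod 2, w - v ∈ Cfsg.golayCode ↔ v - w ∈ Cfsg.golayCode := by
    intro v
    rw [← neg_sub v w]
    exact Cfsg.golayCode.neg_mem_iff
  rcases g24_coset_dichotomy golayPt_card Cfsg.golayCode golayCode_finrank golayCode_hmin w with
    ⟨u, hu, hwu⟩ | ⟨A, hA, hA6, hA4, -, -⟩
  · left
    have hset : {v : Cfsg.GolayPt → ZMod 2 | hammingNorm v ≤ 4 ∧ w - v ∈ Cfsg.golayCode} = {u} := by
      ext x
      rw [Set.mem_ofPred_eq, Set.mem_singleton_iff, hsymm, and_comm]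
      exact hu x
    refine ⟨by rw [hset, Set.ncard_singleton], u, hwu, ?_⟩
    rw [hsymm]
    exact ((hu u).mpr rfl).1
  · right
    have hset : {v : Cfsg.GolayPt → ZMod 2 | hammingNorm v ≤ 4 ∧ w - v ∈ Cfsg.golayCode} = ↑A := by
      ext x
      rw [Set.mem_ofPred_eq, Finset.mem_coe, hsymm, and_comm]
      exact hA x
    refine ⟨by rw [hset, Set.ncard_coe_finset, hA6], ?_⟩
    intro v hv hv4
    exact hA4 v ((hA v).mp ⟨(hsymm v).mp hv, hv4⟩)

end Cfsg.Agent.S1635
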