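import Cfsg.Statements.S1636
import Cfsg.Agent.Lib.Helper36.GolayBasic
import Cfsg.Agent.Lib.Helper36.ListCount

set_option autoImplicit false
open Cfsg

namespace Cfsg.Agent.S1636

open Cfsg.Agent.Lib.Helper36

/-- The punctured word with mask `m`. -/
def pw (m : ℕ) : ZMod 23 → ZMod 2 := fun x => ofMask m (some x)

theorem hammingNorm_pw (m : ℕ) : hammingNorm (pw m) = popc 23 m := by
  rw [popc_eq_sum, hammingNorm, Finset.card_filter]
  rw [← Fin.sum_univ_eq_sum_range (fun i => if m.testBit i then 1 else 0) 23]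
  apply Finset.sum_congr rfl
  intro x _
  have hv : idx (some x) = Fin.val (x : Fin 23) := rfl
  by_cases h : m.testBit (Fin.val (x : Fin 23)) = true
  · simp [pw, ofMask, hv, h]
  · simp [pw, ofMask, hv, h]

theorem pw_inj : ∀ a ∈ codeList, ∀ b ∈ codeList, pw a = pw b → a = b := by
  intro a ha b hb hab
  have hmod : a % 4096 = b % 4096 := by
    apply Nat.eq_of_testBit_eq
    intro i
    rw [Nat.testBit_mod_two_pow a 12 i, Nat.testBit_mod_two_pow b 12 i]
    by_cases hi : i < 12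
    · have h1 := congrFun hab ((i : ℕ) : ZMod 23)
      have hv : ZMod.val ((i : ℕ) : ZMod 23) = i := ZMod.val_natCast_of_lt (by omega)
      simp only [pw, ofMask, idx, hv] at h1
      by_cases h2 : a.testBit i = true <;> by_cases h3 : b.testBit i = true <;> simp_all
    · simp [hi]
  have hnd := codeList_nodup
  have hm := codeList_mod
  have hinj : ∀ a ∈ codeList, ∀ b ∈ codeList, a % 4096 = b % 4096 → a = b :=
    List.inj_on_of_nodup_map (hm ▸ List.nodup_range)
  exact hinj a ha b hb hmod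

theorem mem_C23 (u : ZMod 23 → ZMod 2) :
    u ∈ {u : ZMod 23 → ZMod 2 | ∃ w ∈ Cfsg.golayCode, ∀ x : ZMod 23, u x = w (some x)} ↔
      ∃ m ∈ codeList, u = pw m := by
  constructor
  · rintro ⟨w, hw, hu⟩
    obtain ⟨m, hm, rfl⟩ := (mem_golayCode_iff w).1 hw
    exact ⟨m, hm, funext hu⟩
  · rintro ⟨m, hm, rfl⟩
    exact ⟨ofMask m, (mem_golayCode_iff _).2 ⟨m, hm, rfl⟩, fun x => rfl⟩

theorem count_eq (k : ℕ) :
    {u : ZMod 23 → ZMod 2 | u ∈ {u : ZMod 23 → ZMod 2 | ∃ w ∈ Cfsg.golayCode, ∀ x : ZMod 23, u x = w (some x)} ∧ hammingNorm u = k}.ncard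
      = (codeList.filter (fun m => decide (popc 23 m = k))).length := by
  have h := ncard_image_list codeList codeList_nodup pw pw_inj (fun u => hammingNorm u = k)
  simp only [hammingNorm_pw] at h
  rw [← h]
  congr 1
  ext u
  simp only [Set.mem_ofPred_eq]
  rw [← mem_C23 u]
  rfl

theorem c7 : (codeList.filter (fun m => decide (popc 23 m = 7))).length = 253 := by decide +kernel
theorem c8 : (codeList.filter (fun m => decide (popc 23 m = 8))).length = 506 := by decide +kernel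
theorem c11 : (codeList.filter (fun m => decide (popc 23 m = 11))).length = 1288 := by decide +kernel
theorem c12 : (codeList.filter (fun m => decide (popc 23 m = 12))).length = 1288 := by decide +kernel
theorem c15 : (codeList.filter (fun m => decide (popc 23 m = 15))).length = 506 := by decide +kernel
theorem c16 : (codeList.filter (fun m => decide (popc 23 m = 16))).length = 253 := by decide +kernel

theorem minwt : ∀ m ∈ codeList, m = 0 ∨ 7 ≤ popc 23 m := by
  have h : codeList.all (fun m => decide (m = 0 ∨ 7 ≤ popc 23 m)) = true := by decide +kernel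
  intro m hm
  exact of_decide_eq_true (List.all_eq_true.1 h m hm)

/-- The punctured length-23 code has weight distribution 0^1 7^253 8^506 11^1288 12^1288 15^506 16^253 23^1. -/
theorem result : {u : ZMod 23 → ZMod 2 | ∃ w ∈ Cfsg.golayCode, ∀ x : ZMod 23, u x = w (some x)}.ncard = 4096 ∧ {u : ZMod 23 → ZMod 2 | u ∈ {u : ZMod 23 → ZMod 2 | ∃ w ∈ Cfsg.golayCode, ∀ x : ZMod 23, u x = w (some x)} ∧ hammingNorm u = 7}.ncard = 253 ∧ {u : ZMod 23 → ZMod 2 | u ∈ {u : ZMod 23 → ZMod 2 | ∃ w ∈ Cfsg.golayCode, ∀ x : ZMod 23, u x = w (some x)} ∧ hammingNorm u = 8}.ncard = 506 ∧ {u : ZMod 23 → ZMod 2 | u ∈ {u : ZMod 23 → ZMod 2 | ∃ w ∈ Cfsg.golayCode, ∀ x : ZMod 23, u x = w (some x)} ∧ hammingNorm u = 11}.ncard = 1288 ∧ {u : ZMod 23 → ZMod 2 | u ∈ {u : ZMod 23 → ZMod 2 | ∃ w ∈ Cfsg.golayCode, ∀ x : ZMod 23, u x = w (some x)} ∧ hammingNorm u = 12}.ncard = 1288 ∧ {u : ZMod 23 → ZMod 2 | u ∈ {u : ZMod 23 → ZMod 2 | ∃ w ∈ Cfsg.golayCode, ∀ x : ZMod 23, u x =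 w (some x)} ∧ hammingNorm u = 15}.ncard = 506 ∧ {u : ZMod 23 → ZMod 2 | u ∈ {u : ZMod 23 → ZMod 2 | ∃ w ∈ Cfsg.golayCode, ∀ x : ZMod 23, u x = w (some x)} ∧ hammingNorm u = 16}.ncard = 253 ∧ ∀ u ∈ {u : ZMod 23 → ZMod 2 | ∃ w ∈ Cfsg.golayCode, ∀ x : ZMod 23, u x = w (some x)}, u ≠ 0 → 7 ≤ hammingNorm u := by
  refine ⟨?_, ?_, ?_, ?_, ?_, ?_, ?_, ?_⟩
  · have h := ncard_image_list' codeList codeList_nodup pw pw_inj
    rw [codeList_length] at h
    rw [← h]
    congr 1
    ext u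
    exact mem_C23 u
  · rw [count_eq, c7]
  · rw [count_eq, c8]
  · rw [count_eq, c11]
  · rw [count_eq, c12]
  · rw [count_eq, c15]
  · rw [count_eq, c16]
  · intro u hu hne
    obtain ⟨m, hm, rfl⟩ := (mem_C23 u).1 hu
    rw [hammingNorm_pw]
    rcases minwt m hm with rfl | h
    · exfalso; apply hne
      funext x; simp [pw, ofMask]
    · exact h

end Cfsg.Agent.S1636
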