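import Cfsg.Statements.S1637
import Cfsg.Agent.Lib.Helper95.GolayPunctured

set_option autoImplicit false
open Cfsg

namespace Cfsg.Agent.S1637

open Cfsg.Agent.Lib.Helper95

/-- The punctured length-23 code is a perfect 3-error-correcting code: each word of length 23 is within distance 3 of exactly one codeword. -/
theorem result (u : ZMod 23 → ZMod 2) : ∃! c : ZMod 23 → ZMod 2, c ∈ {u : ZMod 23 → ZMod 2 | ∃ w ∈ Cfsg.golayCode, ∀ x : ZMod 23, u x = w (some x)} ∧ hammingDist u c ≤ 3 := by
  classical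
  have hι := golayPt_card
  have hdim := golayCode_finrank
  have hmin := golayCode_hmin
  rw [puncturedSet_eq]
  -- key: for v with v - unpunc u in the code, punc (v - unpunc u) is at distance wt (punc v) from u
  have hkey : ∀ v : Cfsg.GolayPt → ZMod 2,
      hammingDist u (punc (v - unpunc u)) = hammingNorm (punc v) := by
    intro v
    rw [hammingDist_eq_hammingNorm, neg_add_eq_sub, punc_sub, punc_unpunc, sub_eq_add_zmod2,
      sub_eq_add_zmod2, add_assoc, add_self_zmod2, add_zero]
  have hex : ∃ c : ZMod 23 → ZMod 2,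
      c ∈ punc '' (Cfsg.golayCode : Set (Cfsg.GolayPt → ZMod 2)) ∧ hammingDist u c ≤ 3 := by
    rcases g24_coset_dichotomy hι Cfsg.golayCode hdim hmin (unpunc u) with
      ⟨v, hv, hv3⟩ | ⟨A, hA, -, hA4, -, hcov⟩
    · have hmem := ((hv v).mpr rfl).1
      refine ⟨punc (v - unpunc u), ⟨_, hmem, rfl⟩, ?_⟩
      rw [hkey]
      exact le_trans (hammingNorm_punc_le v) hv3
    · obtain ⟨v, hvA, hnone⟩ := hcov none
      have hmem := ((hA v).mpr hvA).1
      refine ⟨punc (v - unpunc u), ⟨_, hmem, rfl⟩, ?_⟩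
      rw [hkey]
      have h := hammingNorm_punc v
      rw [mem_bsupp] at hnone
      rw [if_neg (by rw [hnone]; decide), hA4 v hvA] at h
      omega
  obtain ⟨c, hc, hd⟩ := hex
  refine ⟨c, ⟨hc, hd⟩, ?_⟩
  rintro c' ⟨hc', hd'⟩
  obtain ⟨w, hw, rfl⟩ := hc
  obtain ⟨w', hw', rfl⟩ := hc'
  have htri : hammingDist (punc w') (punc w) ≤ 6 := by
    have := hammingDist_triangle (punc w') u (punc w)
    rw [hammingDist_comm (punc w') u] at this
    omega
  rw [hammingDist_eq_hammingNorm, neg_add_eq_sub, ← punc_sub] at htri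
  have hle := hammingNorm_le_punc (w - w')
  by_contra hne
  have hne' : w - w' ≠ 0 := by
    intro h
    apply hne
    rw [sub_eq_zero.mp h]
  have := hmin (w - w') (Cfsg.golayCode.sub_mem hw hw') hne'
  omega

end Cfsg.Agent.S1637
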