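import Cfsg.Statements.S1638
import Cfsg.Agent.Lib.Helper36.Pairs

set_option autoImplicit false
open scoped Pointwise
open Cfsg

namespace Cfsg.Agent.S1638

open Cfsg.Agent.Lib.Helper10 (idx pt idx_pt idx_lt idx_injective enc enc_mod enc_lt pt_idx)
open Cfsg.Agent.Lib.Helper35
open Cfsg.Agent.Lib.Helper36

/-- A base point. -/
def p0 : GolayPt := pt 0
theorem idx_p0 : idx p0 = 0 := idx_pt (by norm_num)
/-- A base point. -/
def q0 : GolayPt := pt 1
theorem idx_q0 : idx q0 = 1 := idx_pt (by norm_num)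
/-- A base point. -/
def u0 : GolayPt := pt 2
theorem idx_u0 : idx u0 = 2 := idx_pt (by norm_num)
/-- A base point. -/
def v0 : GolayPt := pt 3
theorem idx_v0 : idx v0 = 3 := idx_pt (by norm_num)
/-- The base pair. -/
def s0 : Finset GolayPt := {u0, v0}
theorem gmask_s0 : gmask s0 = 12 := by
  rw [s0, gmask_pair, idx_u0, idx_v0]
  decide

/-- The stabiliser of the base points and the base pair. -/
def K0 : Subgroup (Equiv.Perm GolayPt) :=
  M24 ⊓ MulAction.stabilizer (Equiv.Perm GolayPt) p0 ⊓ MulAction.stabilizer (Equiv.Perm GolayPt) q0 ⊓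
    MulAction.stabilizer (Equiv.Perm GolayPt) s0
theorem K0_le : K0 ≤ M24 := inf_le_left.trans (inf_le_left.trans inf_le_left)

/-- Table of a generator. -/
def k1T : List ℕ := [0, 1, 3, 2, 13, 17, 9, 18, 15, 11, 20, 22, 21, 10, 14, 19, 8, 5, 12, 16, 4, 7, 6, 23]
/-- Inverse table. -/
def k1T' : List ℕ := [0, 1, 3, 2, 20, 17, 22, 21, 16, 6, 13, 9, 18, 4, 14, 8, 19, 5, 7, 15, 10, 12, 11, 23]
theorem k1_ok : TblOK k1T k1T' := by decide +kernel
/-- A generator. -/
def k1 : Equiv.Perm GolayPt := tblPerm k1T k1T' k1_ok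
theorem k1_mem : k1 ∈ M24 := tblPerm_mem_M24 _ _ _ (by decide +kernel)
theorem k1_models : Models gmask k1 (applyTbl k1T) := tblPerm_models _ _ _
theorem k1_fixp0 : k1 • p0 = p0 := by
  apply idx_injective
  show idx (tblPerm k1T k1T' k1_ok p0) = idx p0
  rw [idx_tblPerm, idx_p0]
  decide +kernel
theorem k1_fixq0 : k1 • q0 = q0 := by
  apply idx_injective
  show idx (tblPerm k1T k1T' k1_ok q0) = idx q0
  rw [idx_tblPerm, idx_q0]
  decide +kernel
theorem k1_fixs : k1 • s0 = s0 := by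
  apply gmask_injective
  rw [k1_models s0, gmask_s0]
  decide +kernel
theorem k1_memK : k1 ∈ K0 := ⟨⟨⟨k1_mem, k1_fixp0⟩, k1_fixq0⟩, k1_fixs⟩

/-- Table of a generator. -/
def k2T : List ℕ := [0, 1, 3, 2, 16, 13, 4, 19, 6, 12, 8, 7, 15, 14, 21, 9, 22, 18, 17, 11, 5, 23, 10, 20]
/-- Inverse table. -/
def k2T' : List ℕ := [0, 1, 3, 2, 6, 20, 8, 11, 10, 15, 22, 19, 9, 5, 13, 12, 4, 18, 17, 7, 23, 14, 16, 21]
theorem k2_ok : TblOK k2T k2T' := by decide +kernel
/-- A generator. -/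
def k2 : Equiv.Perm GolayPt := tblPerm k2T k2T' k2_ok
theorem k2_mem : k2 ∈ M24 := tblPerm_mem_M24 _ _ _ (by decide +kernel)
theorem k2_models : Models gmask k2 (applyTbl k2T) := tblPerm_models _ _ _
theorem k2_fixp0 : k2 • p0 = p0 := by
  apply idx_injective
  show idx (tblPerm k2T k2T' k2_ok p0) = idx p0
  rw [idx_tblPerm, idx_p0]
  decide +kernel
theorem k2_fixq0 : k2 • q0 = q0 := by
  apply idx_injective
  show idx (tblPerm k2T k2T' k2_ok q0) = idx q0
  rw [idx_tblPerm, idx_q0]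
  decide +kernel
theorem k2_fixs : k2 • s0 = s0 := by
  apply gmask_injective
  rw [k2_models s0, gmask_s0]
  decide +kernel
theorem k2_memK : k2 ∈ K0 := ⟨⟨⟨k2_mem, k2_fixp0⟩, k2_fixq0⟩, k2_fixs⟩

/-- The generator actions on masks. -/
def actsK : List (ℕ → ℕ) := [applyTbl k1T, applyTbl k2T]
/-- The generators of `K0`. -/
def gensK : List (Equiv.Perm GolayPt) := [k1, k2]
theorem gensK_models :
    List.Forall₂ (fun g act => g ∈ K0 ∧ Models gmask g act) gensK actsK :=
  List.Forall₂.cons ⟨k1_memK, k1_models⟩ (List.Forall₂.cons ⟨k2_memK, k2_models⟩ (List.Forall₂.nil))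

/-- The five octads through the four base points. -/
def hexList : List ℕ := [3416079, 8536111, 622863, 5279, 4196943]
/-- Mask of a class representative. -/
def r1m : ℕ := 20
/-- A class representative. -/
def r1 : Finset GolayPt := setOfMask r1m
theorem gmask_r1 : gmask r1 = r1m := gmask_setOfMask (by decide)
/-- Orbit certificate. -/
def cert1 : List (ℕ × ℕ) := [(0, 8200), (0, 1028), (0, 1048584), (1, 36), (0, 131080), (1, 262148), (0, 4104), (0, 2097156), (0, 136), (1, 524292), (0, 65544), (0, 260), (0, 32776), (1, 516), (0, 2056), (0, 4194308), (0, 72), (2, 0), (1, 1032), (0, 1048580), (0, 24), (0, 8196), (1, 16392), (0, 16388), (1, 2097160), (0, 132), (0, 262152), (0, 4100), (2, 0), (1, 131076), (0, 40), (2, 0), (2, 0), (2, 0), (1, 524296), (0, 65540), (0, 264), (0, 32772), (1, 520), (0, 2052), (0, 4194312), (0, 68), (2, 0), (2, 0), (2, 0), (2, 0), (2, 0), (2, 0), (2, 0), (2, 0), (2, 0), (1, 8388612), (0, 8388616)]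
theorem cert1_ok : checkDFS actsK cert1 [r1m] = true := by decide +kernel
/-- The orbit as a list of masks. -/
def orb1 : List ℕ := r1m :: pushed 2 cert1
theorem reach1 {t : Finset GolayPt} (ht : gmask t ∈ orb1) : ∃ g ∈ K0, g • r1 = t := by
  apply exists_smul_eq_of_cert gensK_models r1 cert1
  · rw [gmask_r1]; exact cert1_ok
  · rw [gmask_r1]; exact ht

/-- Mask of a class representative. -/
def rHm : ℕ := 144
/-- A class representative. -/
def rH : Finset GolayPt := setOfMask rHm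
theorem gmask_rH : gmask rH = rHm := gmask_setOfMask (by decide)
/-- Orbit certificate. -/
def certH : List (ℕ × ℕ) := [(0, 270336), (0, 5120), (0, 3145728), (1, 8388640), (0, 8519680), (1, 1310720), (0, 4112), (0, 2105344), (0, 1152), (1, 524544), (0, 98304), (1, 4194816), (0, 2112), (2, 0), (2, 0), (2, 0), (2, 0), (2, 0), (1, 8404992), (2, 0), (2, 0), (2, 0), (1, 131104), (2, 0), (2, 0), (2, 0), (1, 1056768), (0, 1040), (1, 65792), (0, 33024), (0, 557056), (0, 589824), (1, 4196352), (0, 4194368), (0, 576), (0, 2560), (1, 4224), (0, 2359296), (2, 0), (2, 0), (2, 0), (2, 0), (2, 0), (2, 0), (2, 0), (2, 0), (2, 0), (2, 0), (2, 0), (1, 16416), (0, 147456)]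
theorem certH_ok : checkDFS actsK certH [rHm] = true := by decide +kernel
/-- The orbit as a list of masks. -/
def orbH : List ℕ := rHm :: pushed 2 certH
theorem reachH {t : Finset GolayPt} (ht : gmask t ∈ orbH) : ∃ g ∈ K0, g • rH = t := by
  apply exists_smul_eq_of_cert gensK_models rH certH
  · rw [gmask_rH]; exact certH_ok
  · rw [gmask_rH]; exact ht

/-- Mask of a class representative. -/
def rNm : ℕ := 48
/-- A class representative. -/
def rN : Finset GolayPt := setOfMask rNm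
theorem gmask_rN : gmask rN = rNm := gmask_setOfMask (by decide)
/-- Orbit certificate. -/
def certN : List (ℕ × ℕ) := [(0, 139264), (0, 1056), (0, 1179648), (1, 262176), (0, 135168), (0, 2097184), (0, 131200), (1, 786432), (0, 69632), (0, 2097408), (0, 32896), (1, 524800), (0, 67584), (0, 4194560), (0, 32832), (1, 528), (0, 10240), (0, 4195328), (0, 1048640), (2, 0), (1, 1280), (0, 1081344), (0, 524304), (0, 73728), (1, 4210688), (0, 16448), (0, 16896), (0, 18432), (1, 2097280), (0, 262272), (0, 266240), (0, 2101248), (1, 8421376), (0, 8912896), (0, 8454144), (0, 8388864), (2, 0), (1, 5242880), (0, 80), (0, 8704), (0, 3072), (1, 384), (0, 294912), (0, 528384), (0, 2162688), (1, 12582912), (0, 8388672), (0, 8389120), (0, 8390656), (1, 1048704), (0, 262160), (0, 12288), (0, 2098176), (2, 0), (1, 49152), (0, 540672), (0, 81920), (0, 16640), (1, 2097216), (0, 640), (0, 264192), (0, 4198400), (1, 33792), (0, 1572864), (0, 65552), (0, 8448), (2,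 0), (1, 4259840), (0, 320), (0, 33280), (0, 526336), (1, 2176), (0, 4456448), (0, 4160), (0, 2097664), (1, 8392704), (0, 10485760), (0, 8388736), (0, 8650752), (2, 0), (2, 0), (1, 9437184), (0, 8388624), (0, 8396800), (0, 8389632), (1, 1048832), (0, 32784), (0, 532480), (0, 66560), (2, 0), (2, 0), (1, 66048), (0, 2304), (0, 4227072), (0, 524352), (1, 2064), (0, 4202496), (0, 1088), (0, 1049088), (1, 4128), (0, 2228224), (0, 160), (0, 393216), (2, 0), (2, 0), (2, 0), (1, 40960), (0, 525312), (0, 1114112), (0, 272), (1, 65600), (0, 768), (0, 34816), (0, 4718592), (2, 0), (2, 0), (2, 0), (1, 4194320), (0, 8256), (0, 1536), (0, 1050624), (2, 0), (1, 4352), (0, 2129920), (0, 524416), (0, 327680), (1, 4325376), (0, 96), (0, 131584), (0, 2080), (1, 8320), (0, 263168), (0, 1052672), (0, 2097168), (2, 0), (1, 32800), (0, 655360), (0, 65568), (0, 131328), (1, 262208), (0, 4608), (0, 2099200), (0, 4194432), (2, 0), (2, 0), (1, 36864), (0, 2621440), (0,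 65664), (0, 262400), (1, 131136), (0, 544), (0, 133120), (0, 4194336), (1, 9216), (0, 1049600), (0, 1048592), (0, 8208), (2, 0), (2, 0), (1, 288), (0, 163840), (0, 524320), (0, 196608), (2, 0), (2, 0), (1, 262656), (0, 6144), (0, 6291456), (0, 192), (2, 0), (2, 0), (2, 0), (2, 0), (2, 0), (2, 0), (2, 0), (2, 0), (2, 0), (2, 0), (2, 0), (2, 0), (2, 0), (2, 0), (2, 0), (2, 0), (2, 0), (1, 131088), (0, 8224), (0, 132096), (0, 1048608), (2, 0), (2, 0), (1, 24576), (0, 17408), (0, 1064960), (0, 16400), (2, 0), (2, 0), (2, 0), (1, 2113536), (0, 16512), (0, 278528), (0, 20480)]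
theorem certN_ok : checkDFS actsK certN [rNm] = true := by decide +kernel
/-- The orbit as a list of masks. -/
def orbN : List ℕ := rNm :: pushed 2 certN
theorem reachN {t : Finset GolayPt} (ht : gmask t ∈ orbN) : ∃ g ∈ K0, g • rN = t := by
  apply exists_smul_eq_of_cert gensK_models rN certN
  · rw [gmask_rN]; exact certN_ok
  · rw [gmask_rN]; exact ht


/-- Boolean form of the octad condition. -/
def hexB (m : ℕ) : Bool := hexList.any (fun o => (12 ||| m) &&& o == (12 ||| m))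

theorem hexList_ok : hexList.all
    (fun o => enc o == o && popc 24 o == 8 && o.testBit 0 && o.testBit 1) = true := by
  decide +kernel

/-- Every octad through the four base points is in the list. -/
def hexCheck (m : ℕ) : Bool :=
  (popc 24 m != 8) || !(m.testBit 0) || !(m.testBit 1) || !(12 &&& m == 12) || hexList.contains m

theorem hexCheck_all : (List.range 4096).all (fun k => hexCheck (enc k)) = true := by
  decide +kernel

theorem hex_iff (t : Finset GolayPt) :
    (∃ o ∈ octads, p0 ∈ o ∧ q0 ∈ o ∧ s0 ∪ t ⊆ o) ↔ hexB (gmask t) = true := by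
  constructor
  · rintro ⟨o, ho, hp, hq, hsub⟩
    have h := forall_supports_bool hexCheck hexCheck_all o ho.1
    have hb0 : (gmask o).testBit 0 = true := by
      have := (mem_iff_testBit_gmask p0 o).mp hp
      rwa [idx_p0] at this
    have hb1 : (gmask o).testBit 1 = true := by
      have := (mem_iff_testBit_gmask q0 o).mp hq
      rwa [idx_q0] at this
    have hs : 12 &&& gmask o = 12 := by
      have := (subset_iff_gmask s0 o).mp (Finset.union_subset_left hsub)
      rwa [gmask_s0] at this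
    have hsub' : (12 ||| gmask t) &&& gmask o = 12 ||| gmask t := by
      have := (subset_iff_gmask (s0 ∪ t) o).mp hsub
      rwa [gmask_union, gmask_s0] at this
    unfold hexCheck at h
    simp only [Bool.or_eq_true, bne_iff_ne, ne_eq, Bool.not_eq_true'] at h
    rcases h with (((h | h) | h) | h) | h
    · rw [← card_eq_popc_gmask, ho.2] at h
      exact absurd rfl h
    · rw [hb0] at h
      exact absurd h (by decide)
    · rw [hb1] at h
      exact absurd h (by decide)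
    · rw [hs] at h
      exact absurd h (by decide)
    · have hmem : gmask o ∈ hexList := by simpa using h
      unfold hexB
      rw [List.any_eq_true]
      exact ⟨gmask o, hmem, by rw [hsub']; exact beq_self_eq_true _⟩
  · intro h
    unfold hexB at h
    obtain ⟨m, hm, hbeq⟩ := List.any_eq_true.mp h
    have hok := List.all_eq_true.mp hexList_ok m hm
    simp only [Bool.and_eq_true, beq_iff_eq] at hok hbeq
    obtain ⟨⟨⟨henc, hpop⟩, hb0⟩, hb1⟩ := hok
    have hlt : m < 2 ^ 24 := by rw [← henc]; exact enc_lt m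
    have hg : gmask (setOfMask m) = m := gmask_setOfMask hlt
    refine ⟨setOfMask m, ?_, ?_, ?_, ?_⟩
    · rw [mem_octads_iff, hg]; exact ⟨henc, hpop⟩
    · rw [mem_iff_testBit_gmask, hg, idx_p0]; exact hb0
    · rw [mem_iff_testBit_gmask, hg, idx_q0]; exact hb1
    · rw [subset_iff_gmask, gmask_union, gmask_s0, hg]; exact hbeq

/-- Classification of the pairs avoiding the base points. -/
def clsCheck (m : ℕ) : Bool :=
  m.testBit 0 || m.testBit 1 || (m == 12) ||
    ((popc 24 (12 &&& m) == 1 && orb1.contains m) ||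
     (popc 24 (12 &&& m) == 0 && hexB m && orbH.contains m) ||
     (popc 24 (12 &&& m) == 0 && !(hexB m) && orbN.contains m))

theorem clsCheck_all : pairList.all clsCheck = true := by decide +kernel

/-- The representative of a class. -/
def repOf (j : ℕ) (b : Bool) : Finset GolayPt := if j = 1 then r1 else if b then rH else rN

theorem bits_of_not_mem {t : Finset GolayPt} (hp : p0 ∉ t) (hq : q0 ∉ t) :
    (gmask t).testBit 0 = false ∧ (gmask t).testBit 1 = false := by
  constructor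
  · have := (mem_iff_testBit_gmask p0 t).not.mp hp
    rw [idx_p0] at this
    simpa using this
  · have := (mem_iff_testBit_gmask q0 t).not.mp hq
    rw [idx_q0] at this
    simpa using this

theorem reach_rep {t : Finset GolayPt} (ht : t.card = 2) (hp : p0 ∉ t) (hq : q0 ∉ t)
    (hne : t ≠ s0) : ∃ g ∈ K0, g • repOf (s0 ∩ t).card (hexB (gmask t)) = t := by
  have h := forall_pairs clsCheck clsCheck_all ht
  obtain ⟨hb0, hb1⟩ := bits_of_not_mem hp hq
  have hcard : (s0 ∩ t).card = popc 24 (12 &&& gmask t) := by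
    rw [card_inter_gmask, gmask_s0]
  unfold clsCheck at h
  simp only [Bool.or_eq_true, Bool.and_eq_true, beq_iff_eq, Bool.not_eq_true'] at h
  rcases h with ((h | h) | h) | h
  · rw [hb0] at h
    exact absurd h (by decide)
  · rw [hb1] at h
    exact absurd h (by decide)
  · exfalso
    apply hne
    apply gmask_injective
    rw [gmask_s0, h]
  · rcases h with (⟨hj, hm⟩ | ⟨⟨hj, hb⟩, hm⟩) | ⟨⟨hj, hb⟩, hm⟩
    · rw [hcard, hj]
      exact reach1 (by simpa using hm)
    · rw [hcard, hj, hb]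
      exact reachH (by simpa using hm)
    · rw [hcard, hj, hb]
      exact reachN (by simpa using hm)

theorem base_trans {t t' : Finset GolayPt} (ht : t.card = 2 ∧ p0 ∉ t ∧ q0 ∉ t)
    (ht' : t'.card = 2 ∧ p0 ∉ t' ∧ q0 ∉ t') (hne : t ≠ s0) (hne' : t' ≠ s0)
    (hcard : (s0 ∩ t).card = (s0 ∩ t').card)
    (hiff : (∃ o ∈ octads, p0 ∈ o ∧ q0 ∈ o ∧ s0 ∪ t ⊆ o) ↔
      (∃ o ∈ octads, p0 ∈ o ∧ q0 ∈ o ∧ s0 ∪ t' ⊆ o)) : ∃ g ∈ K0, g • t = t' := by
  obtain ⟨g₁, hg₁, e₁⟩ := reach_rep ht.1 ht.2.1 ht.2.2 hne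
  obtain ⟨g₂, hg₂, e₂⟩ := reach_rep ht'.1 ht'.2.1 ht'.2.2 hne'
  have hb : hexB (gmask t) = hexB (gmask t') := by
    rw [hex_iff, hex_iff] at hiff
    exact Bool.eq_iff_iff.mpr hiff
  refine ⟨g₂ * g₁⁻¹, K0.mul_mem hg₂ (K0.inv_mem hg₁), ?_⟩
  rw [mul_smul, ← e₁, inv_smul_smul, hcard, hb, e₂]

/-- Boolean tests for the counting. -/
def cntH (m : ℕ) : Bool := !(m.testBit 0) && !(m.testBit 1) && (12 &&& m == 0) && hexB m
/-- Boolean tests for the counting. -/
def cntN (m : ℕ) : Bool := !(m.testBit 0) && !(m.testBit 1) && (12 &&& m == 0) && !(hexB m)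

theorem mem_facts (t : Finset GolayPt) :
    (p0 ∉ t ↔ (gmask t).testBit 0 = false) ∧ (q0 ∉ t ↔ (gmask t).testBit 1 = false) ∧
    (Disjoint s0 t ↔ 12 &&& gmask t = 0) := by
  refine ⟨?_, ?_, ?_⟩
  · rw [mem_iff_testBit_gmask p0 t, idx_p0]; simp
  · rw [mem_iff_testBit_gmask q0 t, idx_q0]; simp
  · rw [disjoint_iff_gmask, gmask_s0]

theorem baseH_set_eq :
    {t : Finset GolayPt | (t.card = 2 ∧ p0 ∉ t ∧ q0 ∉ t) ∧ Disjoint s0 t ∧
      (∃ o ∈ octads, p0 ∈ o ∧ q0 ∈ o ∧ s0 ∪ t ⊆ o)} =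
    {t | t.card = 2 ∧ cntH (gmask t) = true} := by
  ext t
  obtain ⟨h1, h2, h3⟩ := mem_facts t
  have h5 : cntH (gmask t) = true ↔ (gmask t).testBit 0 = false ∧ (gmask t).testBit 1 = false ∧
      12 &&& gmask t = 0 ∧ hexB (gmask t) = true := by
    unfold cntH
    simp only [Bool.and_eq_true, beq_iff_eq, and_assoc, Bool.not_eq_true']
  rw [Set.mem_ofPred_eq, Set.mem_ofPred_eq, h1, h2, h3, hex_iff, h5]
  simp only [and_assoc]

theorem baseN_set_eq :
    {t : Finset GolayPt | (t.card = 2 ∧ p0 ∉ t ∧ q0 ∉ t) ∧ Disjoint s0 t ∧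
      ¬ (∃ o ∈ octads, p0 ∈ o ∧ q0 ∈ o ∧ s0 ∪ t ⊆ o)} =
    {t | t.card = 2 ∧ cntN (gmask t) = true} := by
  ext t
  obtain ⟨h1, h2, h3⟩ := mem_facts t
  have h5 : cntN (gmask t) = true ↔ (gmask t).testBit 0 = false ∧ (gmask t).testBit 1 = false ∧
      12 &&& gmask t = 0 ∧ ¬ hexB (gmask t) = true := by
    unfold cntN
    simp only [Bool.and_eq_true, beq_iff_eq, and_assoc, Bool.not_eq_true', Bool.not_eq_true]
  rw [Set.mem_ofPred_eq, Set.mem_ofPred_eq, h1, h2, h3, hex_iff, h5]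
  simp only [and_assoc]

theorem countH : (pairList.filter cntH).length = 30 := by decide +kernel
theorem countN : (pairList.filter cntN).length = 160 := by decide +kernel

theorem hx_smul {a : Equiv.Perm GolayPt} (ha : a ∈ M24) (t : Finset GolayPt) :
    (∃ o ∈ octads, a p0 ∈ o ∧ a q0 ∈ o ∧ a • s0 ∪ a • t ⊆ o) ↔
      (∃ o ∈ octads, p0 ∈ o ∧ q0 ∈ o ∧ s0 ∪ t ⊆ o) := by
  rw [exists_octad_smul ha]
  simp only [perm_mem_smul_iff, ← Finset.smul_finset_union, subset_smul_iff]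

theorem smul_pair (a : Equiv.Perm GolayPt) (x y : GolayPt) :
    a • ({x, y} : Finset GolayPt) = {a x, a y} := by
  ext z
  simp only [Finset.mem_smul_finset, Finset.mem_insert, Finset.mem_singleton, Equiv.Perm.smul_def]
  constructor
  · rintro ⟨w, rfl | rfl, rfl⟩
    · exact Or.inl rfl
    · exact Or.inr rfl
  · rintro (rfl | rfl)
    · exact ⟨x, Or.inl rfl, rfl⟩
    · exact ⟨y, Or.inr rfl, rfl⟩

theorem base_nodup : [p0, q0, u0, v0].Nodup := by decide

theorem main {a : Equiv.Perm GolayPt} (ha : a ∈ M24) :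
    {t : Finset GolayPt | (t.card = 2 ∧ a p0 ∉ t ∧ a q0 ∉ t) ∧ Disjoint (a • s0) t ∧
      (∃ o ∈ octads, a p0 ∈ o ∧ a q0 ∈ o ∧ a • s0 ∪ t ⊆ o)}.ncard = 30 ∧
    {t : Finset GolayPt | (t.card = 2 ∧ a p0 ∉ t ∧ a q0 ∉ t) ∧ Disjoint (a • s0) t ∧
      ¬ (∃ o ∈ octads, a p0 ∈ o ∧ a q0 ∈ o ∧ a • s0 ∪ t ⊆ o)}.ncard = 160 ∧
    ∀ t t' : Finset GolayPt, (t.card = 2 ∧ a p0 ∉ t ∧ a q0 ∉ t) →
      (t'.card = 2 ∧ a p0 ∉ t' ∧ a q0 ∉ t') → t ≠ a • s0 → t' ≠ a • s0 →
      (a • s0 ∩ t).card = (a • s0 ∩ t').card →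
      ((∃ o ∈ octads, a p0 ∈ o ∧ a q0 ∈ o ∧ a • s0 ∪ t ⊆ o) ↔
        (∃ o ∈ octads, a p0 ∈ o ∧ a q0 ∈ o ∧ a • s0 ∪ t' ⊆ o)) →
      ∃ g : Equiv.Perm GolayPt, g ∈ M24 ∧ g (a p0) = a p0 ∧ g (a q0) = a q0 ∧
        g • (a • s0) = a • s0 ∧ g • t = t' := by
  refine ⟨?_, ?_, ?_⟩
  · rw [← ncard_smul_set a (fun t => (t.card = 2 ∧ a p0 ∉ t ∧ a q0 ∉ t) ∧ Disjoint (a • s0) t ∧
      (∃ o ∈ octads, a p0 ∈ o ∧ a q0 ∈ o ∧ a • s0 ∪ t ⊆ o))]
    simp only [Finset.card_smul_finset, perm_mem_smul_iff, disjoint_smul_iff, hx_smul ha]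
    rw [baseH_set_eq, count_pairs, countH]
  · rw [← ncard_smul_set a (fun t => (t.card = 2 ∧ a p0 ∉ t ∧ a q0 ∉ t) ∧ Disjoint (a • s0) t ∧
      ¬ (∃ o ∈ octads, a p0 ∈ o ∧ a q0 ∈ o ∧ a • s0 ∪ t ⊆ o))]
    simp only [Finset.card_smul_finset, perm_mem_smul_iff, disjoint_smul_iff, hx_smul ha]
    rw [baseN_set_eq, count_pairs, countN]
  · intro t t' ht ht' hne hne' hcard hiff
    obtain ⟨r, rfl⟩ : ∃ r, t = a • r := ⟨a⁻¹ • t, (smul_inv_smul a t).symm⟩
    obtain ⟨r', rfl⟩ : ∃ r', t' = a • r' := ⟨a⁻¹ • t', (smul_inv_smul a t').symm⟩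
    simp only [Finset.card_smul_finset, perm_mem_smul_iff] at ht ht'
    rw [card_inter_smul, card_inter_smul] at hcard
    rw [hx_smul ha, hx_smul ha] at hiff
    have hne0 : r ≠ s0 := fun h => hne (by rw [h])
    have hne0' : r' ≠ s0 := fun h => hne' (by rw [h])
    obtain ⟨g, hg, hgr⟩ := base_trans ht ht' hne0 hne0' hcard hiff
    have hgp : g p0 = p0 := MulAction.mem_stabilizer_iff.mp hg.1.1.2
    have hgq : g q0 = q0 := MulAction.mem_stabilizer_iff.mp hg.1.2
    have hgs : g • s0 = s0 := MulAction.mem_stabilizer_iff.mp hg.2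
    refine ⟨a * g * a⁻¹, M24.mul_mem (M24.mul_mem ha (K0_le hg)) (M24.inv_mem ha),
      ?_, ?_, ?_, ?_⟩
    · show a (g (a⁻¹ (a p0))) = a p0
      simp [hgp]
    · show a (g (a⁻¹ (a q0))) = a q0
      simp [hgq]
    · rw [mul_smul, mul_smul, inv_smul_smul, hgs]
    · rw [mul_smul, mul_smul, inv_smul_smul, hgr]

/-- Fix two points p ≠ q and a pair s of two further points. Among the pairs avoiding p, q and disjoint from s, exactly 30 lie in an octad together with p, q and s and exactly 160 do not; and any two pairs other than s that meet s in equally many points and agree on that octad property are carried to one another by an element of the group of the length-24 code fixing p, q and s. -/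
theorem result (p q : Cfsg.GolayPt) (hpq : p ≠ q) (s : Finset Cfsg.GolayPt) (hs : (s.card = 2 ∧ p ∉ s ∧ q ∉ s)) : {t : Finset Cfsg.GolayPt | (t.card = 2 ∧ p ∉ t ∧ q ∉ t) ∧ Disjoint s t ∧ (∃ o ∈ Cfsg.octads, p ∈ o ∧ q ∈ o ∧ s ∪ t ⊆ o)}.ncard = 30 ∧ {t : Finset Cfsg.GolayPt | (t.card = 2 ∧ p ∉ t ∧ q ∉ t) ∧ Disjoint s t ∧ ¬ (∃ o ∈ Cfsg.octads, p ∈ o ∧ q ∈ o ∧ s ∪ t ⊆ o)}.ncard = 160 ∧ ∀ t t' : Finset Cfsg.GolayPt, (t.card = 2 ∧ p ∉ t ∧ q ∉ t) → (t'.card = 2 ∧ p ∉ t' ∧ q ∉ t') → t ≠ s → t' ≠ s → (s ∩ t).card = (s ∩ t').card → ((∃ o ∈ Cfsg.octads, p ∈ o ∧ q ∈ o ∧ s ∪ t ⊆ o) ↔ (∃ o ∈ Cfsg.octads, p ∈ o ∧ q ∈ o ∧ s ∪ t' ⊆ o)) → ∃ g : Equiv.Perm Cfsg.GolayPt, g ∈ Cfsg.M24 ∧ g p = p ∧ g q = q ∧ g • s = s ∧ g • t = t' := by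
  obtain ⟨hs2, hps, hqs⟩ := hs
  obtain ⟨u, v, huv, rfl⟩ := Finset.card_eq_two.mp hs2
  simp only [Finset.mem_insert, Finset.mem_singleton, not_or] at hps hqs
  have hnd : [p, q, u, v].Nodup := by
    simp only [List.nodup_cons, List.mem_cons, List.not_mem_nil, or_false, not_or,
      List.nodup_nil, and_true, not_false_eq_true]
    exact ⟨⟨hpq, hps.1, hps.2⟩, ⟨hqs.1, hqs.2⟩, huv⟩
  obtain ⟨a, ha, rfl, rfl, rfl, rfl⟩ := m24_four_trans base_nodup hnd
  have hsa : ({a u0, a v0} : Finset GolayPt) = a • s0 := (smul_pair a u0 v0).symm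
  rw [hsa]
  exact main ha

end Cfsg.Agent.S1638
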