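import Cfsg.Statements.S1639
import Cfsg.Agent.Lib.Helper35.DodecadStab
import Cfsg.Agent.Lib.Helper36.M24Tools

set_option autoImplicit false
open scoped Pointwise
open Cfsg

namespace Cfsg.Agent.S1639

open Cfsg.Agent.Lib.Helper10 (idx pt idx_pt idx_lt idx_injective enc enc_mod enc_lt pt_idx)
open Cfsg.Agent.Lib.Helper35
open Cfsg.Agent.Lib.Helper36

/-- The base point. -/
def p0 : GolayPt := pt 0
theorem idx_p0 : idx p0 = 0 := idx_pt (by norm_num)

/-- The stabiliser of the base set and the base point. -/
def K0 : Subgroup (Equiv.Perm GolayPt) := Hd ⊓ MulAction.stabilizer (Equiv.Perm GolayPt) p0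
theorem K0_le : K0 ≤ M24 := inf_le_left.trans Hd_le

/-- Table of a generator of `K0`. -/
def k1T : List ℕ := [0, 23, 11, 13, 7, 21, 8, 2, 6, 4, 3, 14, 15, 10, 9, 19, 22, 5, 16, 12, 20, 18, 17, 1]
/-- Inverse table. -/
def k1T' : List ℕ := [0, 23, 7, 10, 9, 17, 8, 4, 6, 14, 13, 2, 19, 3, 11, 12, 18, 22, 21, 15, 20, 5, 16, 1]
theorem k1_ok : TblOK k1T k1T' := by decide +kernel
/-- A generator of `K0`. -/
def k1 : Equiv.Perm GolayPt := tblPerm k1T k1T' k1_ok
theorem k1_mem : k1 ∈ M24 := tblPerm_mem_M24 _ _ _ (by decide +kernel)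
theorem k1_models : Models gmask k1 (applyTbl k1T) := tblPerm_models _ _ _
theorem k1_fix : k1 • d0 = d0 := by
  apply gmask_injective
  rw [k1_models d0, gmask_d0]
  decide +kernel
theorem k1_fixp : k1 • p0 = p0 := by
  apply idx_injective
  show idx (tblPerm k1T k1T' k1_ok p0) = idx p0
  rw [idx_tblPerm, idx_p0]
  decide +kernel
theorem k1_memK : k1 ∈ K0 := ⟨⟨k1_mem, k1_fix⟩, k1_fixp⟩

/-- Table of a generator of `K0`. -/
def k2T : List ℕ := [0, 12, 8, 11, 7, 16, 4, 10, 9, 6, 13, 3, 5, 2, 14, 17, 21, 19, 1, 22, 18, 23, 15, 20]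
/-- Inverse table. -/
def k2T' : List ℕ := [0, 18, 13, 11, 6, 12, 9, 4, 2, 8, 7, 3, 1, 10, 14, 22, 5, 15, 20, 17, 23, 16, 19, 21]
theorem k2_ok : TblOK k2T k2T' := by decide +kernel
/-- A generator of `K0`. -/
def k2 : Equiv.Perm GolayPt := tblPerm k2T k2T' k2_ok
theorem k2_mem : k2 ∈ M24 := tblPerm_mem_M24 _ _ _ (by decide +kernel)
theorem k2_models : Models gmask k2 (applyTbl k2T) := tblPerm_models _ _ _
theorem k2_fix : k2 • d0 = d0 := by
  apply gmask_injective
  rw [k2_models d0, gmask_d0]
  decide +kernel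
theorem k2_fixp : k2 • p0 = p0 := by
  apply idx_injective
  show idx (tblPerm k2T k2T' k2_ok p0) = idx p0
  rw [idx_tblPerm, idx_p0]
  decide +kernel
theorem k2_memK : k2 ∈ K0 := ⟨⟨k2_mem, k2_fix⟩, k2_fixp⟩

/-- The generator actions on masks. -/
def actsK : List (ℕ → ℕ) := [applyTbl k1T, applyTbl k2T]
/-- The generators of `K0`. -/
def gensK : List (Equiv.Perm GolayPt) := [k1, k2]
theorem gensK_models :
    List.Forall₂ (fun g act => g ∈ K0 ∧ Models gmask g act) gensK actsK :=
  List.Forall₂.cons ⟨k1_memK, k1_models⟩ (List.Forall₂.cons ⟨k2_memK, k2_models⟩ (List.Forall₂.nil))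

/-- Mask of the representative meeting the base set in 4 points. -/
def r4m : ℕ := 8245261
/-- The representative. -/
def r4 : Finset GolayPt := setOfMask r4m
theorem gmask_r4 : gmask r4 = r4m := gmask_setOfMask (by decide)
theorem r4_mem : r4 ∈ dodecads := by
  rw [mem_dodecads_iff, gmask_r4]
  decide +kernel
/-- Orbit certificate. -/
def cert4 : List (ℕ × ℕ) := [(0, 6273537), (0, 6018097), (0, 8032937), (0, 4108341), (0, 4037793), (1, 15148075), (1, 12171271), (0, 14474243), (0, 10211851), (0, 14201395), (0, 12227731), (0, 10260655), (1, 5709091), (0, 15974505), (0, 8266531), (0, 11998321), (0, 7700907), (0, 16719941), (1, 16548119), (0, 10426563), (0, 13750567), (0, 16419395), (0, 10375475), (0, 11637475), (2, 0), (1, 6116003), (0, 15962645), (0, 6195379), (0, 12275877), (0, 7641639), (0, 12568593), (1, 16662667), (0, 9908775), (0, 15830067), (1, 12038281), (0, 6136871), (0, 16456713), (0, 5697579), (0, 12297761), (0, 8131643), (1, 12957859), (0, 15451143), (0, 13507115), (0, 10743859), (0, 15500963), (0, 11472927),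 (1, 16259491), (0, 11980871), (0, 10324771), (0, 16339027), (0, 14062467), (0, 10190967), (1, 8327569), (0, 5738725), (0, 8096037), (0, 8280161), (0, 3658529), (0, 8225393), (1, 15171795), (0, 13566375), (0, 14882919), (0, 15124771), (0, 11485795), (0, 15012659), (2, 0), (2, 0), (2, 0), (1, 12161337), (0, 8171715), (0, 10458373), (0, 5871723), (0, 16445697), (0, 2004579), (1, 5189747), (0, 14914977), (0, 7241839), (0, 11483425), (0, 6673507), (0, 15696649), (2, 0), (2, 0), (1, 16319023), (0, 16136211), (0, 9946275), (1, 4158467), (0, 13997609), (0, 8101915), (0, 14562465), (0, 3380271), (0, 16558121), (1, 14125071), (0, 14379043), (0, 15881763), (0, 11960891), (0, 12394675), (0, 16061575), (1, 11842851), (0, 12420171), (0, 14496011), (0, 13874243), (0, 14320939), (0, 12202091), (1, 14489653), (0, 7592067), (0, 14598693), (0, 3873331), (0, 16044209), (0, 4162183), (1, 15603011), (0, 8884587), (0, 15311203), (2, 0), (2, 0), (2, 0), (2, 0), (2, 0), (1, 15536361), (0, 6795527), (0, 13601889), (0, 7033131), (0, 15118945),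 (0, 3114291), (1, 15413891), (0, 13014071), (0, 11241643), (0, 15495207), (0, 10984963), (0, 13484091), (2, 0), (2, 0), (2, 0), (2, 0), (1, 1814947), (0, 16290917), (0, 4102411), (0, 10350689), (0, 7968515), (0, 14585945), (2, 0), (2, 0), (1, 7815223), (0, 16190113), (2, 0), (1, 11391363), (0, 13472327), (0, 13342995), (0, 13291747), (0, 11178791), (0, 11311219), (1, 13832379), (0, 15900839), (0, 12454951), (0, 11884587), (0, 16114179), (0, 14616083), (2, 0), (2, 0), (2, 0), (2, 0), (2, 0), (2, 0), (2, 0), (1, 14357345), (0, 7508339), (0, 12485089), (0, 4002151), (0, 16095553), (0, 6275395), (1, 7262739), (0, 9409201), (0, 6918327), (0, 15636613), (0, 1038375), (0, 15325729), (2, 0), (2, 0), (2, 0), (2, 0), (1, 8062179), (0, 16126253), (0, 3647587), (0, 16598305), (0, 7803467), (0, 14131505), (2, 0), (2, 0), (2, 0), (2, 0), (2, 0), (1, 15578129), (0, 5215371), (0, 13348909), (0, 6994979), (0, 11457577), (0, 2994731), (2, 0), (2, 0), (2, 0), (2, 0), (2, 0), (2, 0), (2, 0), (2, 0), (2, 0), (2, 0), (2, 0), (2, 0), (2,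 0), (2, 0), (2, 0), (2, 0), (2, 0), (2, 0), (2, 0), (2, 0), (2, 0), (2, 0), (2, 0), (2, 0), (1, 7280165), (0, 6789177), (0, 7332001)]
/-- Bitmap of the orbit. -/
def bm4 : ℕ := 623152650676507030116069659615268789074911006340368849767930247776383834921597114678759376521523230851784638500121572279992974303003842632505530227399129354926643847125171351858611373060242706073397909558333146528312330971080821966965738479526482323262938853679420505681342751105948889052213071203119187865744598422964307897849395179109441454986645203913431412687071185864913482195929282190046897043386334324012739891710641860762649084434417105881956291400586701424728898422156702597084092377395327777771512312911471173609622379665066411718904514959232568468737348924560541934721434332607999359201697445047821162859880513554720147414526791189045818857225590933112362712655557064043227056972383619610045077813177019217516148695654723708322253878238954528854702905763356961806080371713150752304451854156005746268656612300909562331508734942529256154756247859252462030906611545292097624190391000160780712534613915998836183779151729512353601806170189628008176220861587712675329769822834320425295991678739763266357217577446927912799423938390222289217193000796180510523925574624055664640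
theorem cert4_ok : checkDFS actsK cert4 [r4m] = true := by decide +kernel
theorem bm4_ok : idxBitmap (r4m :: pushed 2 cert4) = bm4 := by decide +kernel
theorem reach4 {p : Finset GolayPt} (hp : p ∈ dodecads)
    (hbit : bm4.testBit (gmask p % 4096) = true) : ∃ g ∈ K0, g • r4 = p := by
  apply exists_smul_eq_of_cert_bitmap K0_le gensK_models r4 r4_mem.1 cert4
  · rw [gmask_r4]; exact cert4_ok
  · exact hp.1
  · rw [gmask_r4]
    show (idxBitmap (r4m :: pushed 2 cert4)).testBit _ = true
    rw [bm4_ok]
    exact hbit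

/-- Mask of the representative meeting the base set in 8 points. -/
def r8m : ℕ := 1372381
/-- The representative. -/
def r8 : Finset GolayPt := setOfMask r8m
theorem gmask_r8 : gmask r8 = r8m := gmask_setOfMask (by decide)
theorem r8_mem : r8 ∈ dodecads := by
  rw [mem_dodecads_iff, gmask_r8]
  decide +kernel
/-- Orbit certificate. -/
def cert8 : List (ℕ × ℕ) := [(0, 1683333), (0, 5790813), (0, 1244041), (0, 1631861), (0, 3678105), (1, 12857065), (0, 2319647), (1, 11041669), (0, 319063), (0, 9030553), (0, 4747991), (0, 8560533), (0, 575743), (1, 4414873), (0, 4383469), (0, 2764597), (0, 2383097), (0, 2483085), (0, 5058133), (1, 6332895), (0, 9317829), (0, 89455), (0, 14740297), (0, 943955), (0, 8460281), (1, 3223281), (0, 7619997), (0, 1518285), (0, 5336373), (0, 7491273), (0, 1467197), (1, 871367), (0, 12671829), (0, 4377555), (0, 9061365), (0, 2104311), (0, 10799573), (1, 9586587), (0, 9446143), (0, 11546007), (0, 9718991), (0, 9530127), (0, 13659731), (2, 0), (1, 3431245), (0, 1436497), (0, 5851089), (0, 5379037),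 (0, 1223157), (0, 3689957), (1, 12936985), (0, 4400859), (0, 12723645), (0, 2239727), (0, 10775853), (0, 2453067), (1, 10516575), (0, 8712067), (0, 8996447), (0, 12598171), (0, 8578263), (0, 8916911), (1, 5324617), (0, 5432665), (0, 1714153), (0, 3159421), (0, 3452361), (0, 1926477), (1, 6581015), (0, 8867537), (0, 4277183), (0, 14822101), (0, 413111), (0, 10570477), (1, 11619673), (0, 5530571), (0, 9643861), (0, 5246459), (0, 11690445), (0, 1322855), (1, 340831), (0, 12692945), (0, 4867535), (0, 8534893), (0, 2157939), (0, 11290569), (2, 0), (1, 8614557), (0, 4239031), (0, 11160733), (0, 293551), (0, 10612245), (0, 5000859), (1, 4259019), (0, 9103117), (0, 540283), (0, 10548633), (0, 829135), (0, 8994077), (1, 7351213), (0, 3566677), (0, 1396649), (0, 7430749), (0, 5648273), (0, 1262845), (1, 2977169), (0, 4544205), (0, 4434717), (0, 4877553), (0, 2250669), (0, 2402941), (1, 8587743), (0, 12610023), (0, 10637127), (0, 8670075), (0, 10576851), (0, 12847063), (1, 1095635), (0, 9995741), (0, 1587663), (0, 9502021),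 (0, 1625931), (0, 9991001), (1, 5524213), (0, 3361685), (2, 0), (1, 378331), (0, 13181901), (0, 4341079), (0, 8572393), (0, 2646895), (0, 10764113), (2, 0), (2, 0), (1, 1797657), (0, 5273273), (0, 3319453), (0, 1846461), (0, 3243149), (0, 5565965), (1, 452943), (0, 9006945), (0, 6313819), (0, 8823769), (0, 599543), (0, 14687693), (1, 9482041), (0, 3695835), (0, 9713549), (0, 1158239), (0, 14183817), (0, 1209935), (1, 817525), (0, 2219969), (0, 5030749), (0, 736209), (0, 4249077), (0, 2788301), (1, 13242201), (0, 160251), (0, 10528741), (0, 2887007), (0, 8747465), (0, 4319047), (1, 2290517), (0, 823281), (0, 2707933), (0, 4504517), (0, 773461), (0, 4742121), (1, 4312697), (0, 6972313), (0, 407285), (0, 2198973), (0, 7104717), (0, 491269), (2, 0), (1, 12635423), (0, 9071307), (0, 8419127), (0, 10522331), (0, 9200031), (0, 8470215), (2, 0), (1, 5267335), (0, 9620061), (0, 1600435), (0, 11556565), (0, 1346463), (0, 10053845), (2, 0), (1, 401355), (0, 8511869), (0, 6827971), (0, 8803677), (0, 109547), (0, 15230293), (1,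 13689749), (0, 1707735), (0, 9460157), (0, 3205831), (0, 10243861), (0, 1137371), (2, 0), (2, 0), (2, 0), (2, 0), (1, 4994521), (0, 243149), (0, 4762989), (0, 2784585), (0, 325481), (0, 2729817), (2, 0), (1, 223863), (0, 14700465), (0, 2507487), (0, 8727477), (0, 6376663), (0, 12995469), (2, 0), (2, 0), (1, 3213263), (0, 13904221), (0, 1273283), (0, 13649773), (0, 3287899), (0, 9725425), (1, 1402519), (0, 13700765), (0, 5400735), (0, 9596581), (0, 3165759), (0, 11823769), (2, 0), (2, 0), (2, 0), (1, 843149), (0, 653901), (0, 4783889), (0, 710361), (0, 570301), (0, 2669781), (2, 0), (1, 4394981), (0, 6441341), (0, 2517985), (0, 2443125), (0, 6622169), (0, 4678101), (1, 2672535), (0, 9181917), (0, 129431), (0, 13160133), (0, 678687), (0, 8452849), (2, 0), (2, 0), (2, 0), (2, 0), (2, 0), (1, 12744641), (0, 165759), (0, 11020793), (0, 2389447), (0, 8752973), (0, 4811099), (1, 6347421), (0, 977557), (0, 614069), (1, 6383081), (0, 6694733), (0, 470393), (1, 2697887), (0, 12876949), (0, 249487), (0, 13134397), (0, 2260627),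 (0, 8701629), (2, 0), (1, 8942829), (0, 2146063), (0, 9235545), (0, 620427), (0, 12629597), (0, 699803), (1, 4865677), (0, 195645), (0, 2682537), (0, 2913821), (0, 376473), (0, 4842653), (1, 6483333), (0, 937581), (0, 2194233), (0, 6612689), (0, 984989), (0, 4274429), (2, 0), (2, 0), (2, 0), (2, 0), (2, 0), (2, 0), (2, 0), (2, 0), (2, 0), (1, 12807245), (0, 4353835), (0, 10643065), (0, 2369467), (0, 10822877), (0, 4533647), (2, 0), (2, 0), (2, 0), (2, 0), (2, 0), (1, 3729693), (0, 1867457), (0, 1169181), (0, 5810905), (0, 1734037), (0, 1089261), (2, 0), (1, 5007269), (0, 2301533), (0, 4516281), (0, 2844357), (0, 4464445), (0, 2353369), (2, 0), (2, 0), (2, 0), (2, 0), (2, 0), (2, 0), (2, 0), (1, 4623581), (0, 747949), (0, 6323813), (0, 2543385), (0, 877305), (0, 6371221), (2, 0), (2, 0), (2, 0), (2, 0), (1, 6901517), (0, 4618841), (0, 255921), (0, 6817533), (0, 2505117), (0, 388325), (2, 0), (2, 0), (2, 0), (2, 0), (2, 0), (2, 0), (2, 0), (2, 0), (2, 0), (2, 0), (1, 4482175), (0, 10694537), (1, 12070477), (0, 1342747),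 (0, 9561801), (0, 5777183), (0, 9583833), (0, 1107375), (2, 0), (2, 0), (2, 0), (2, 0), (2, 0), (2, 0), (2, 0), (2, 0), (2, 0), (2, 0), (2, 0), (2, 0), (2, 0), (2, 0), (2, 0), (2, 0), (2, 0), (2, 0), (2, 0), (2, 0), (2, 0), (1, 5360077), (0, 5925701), (0, 1204081), (0, 3195897), (0, 3941333), (0, 1383893), (2, 0), (2, 0), (2, 0), (2, 0), (2, 0), (2, 0), (2, 0), (2, 0), (2, 0), (2, 0), (2, 0), (1, 8956759), (0, 8936915), (0, 8442831), (2, 0), (2, 0), (2, 0), (2, 0), (2, 0), (2, 0), (2, 0), (2, 0), (2, 0), (2, 0), (2, 0), (2, 0), (2, 0), (2, 0), (2, 0), (2, 0), (2, 0), (2, 0), (2, 0), (2, 0), (2, 0), (2, 0), (2, 0), (2, 0), (2, 0), (2, 0), (2, 0), (2, 0), (2, 0), (2, 0), (2, 0), (2, 0), (2, 0), (2, 0), (2, 0), (2, 0), (2, 0), (2, 0), (2, 0), (2, 0), (2, 0), (2, 0), (2, 0), (2, 0), (2, 0), (1, 1492933), (0, 1641341), (0, 7371217), (2, 0), (2, 0), (2, 0), (2, 0), (2, 0), (2, 0), (2, 0), (2, 0), (2, 0), (2, 0), (2, 0), (2, 0), (2, 0), (1, 1984985), (0, 1143781), (0, 7376725), (2, 0), (2, 0), (2, 0), (2, 0), (2, 0), (2,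 0), (2, 0), (2, 0), (2, 0), (2, 0), (2, 0), (2, 0), (2, 0), (2, 0), (2, 0), (2, 0), (2, 0), (2, 0), (2, 0), (2, 0), (2, 0), (2, 0), (2, 0), (2, 0), (2, 0), (2, 0), (2, 0), (2, 0), (2, 0), (2, 0), (2, 0), (2, 0), (2, 0), (2, 0), (2, 0), (2, 0), (2, 0), (2, 0), (2, 0), (2, 0), (2, 0), (2, 0), (2, 0), (2, 0), (2, 0), (2, 0), (2, 0), (2, 0), (2, 0), (2, 0), (2, 0), (2, 0), (2, 0), (2, 0), (2, 0), (2, 0), (2, 0), (2, 0), (2, 0), (2, 0), (2, 0), (2, 0), (2, 0), (2, 0), (2, 0), (2, 0), (2, 0), (2, 0), (2, 0), (2, 0), (2, 0), (2, 0), (2, 0), (1, 14706319), (0, 8793631), (0, 8481979)]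
/-- Bitmap of the orbit. -/
def bm8 : ℕ := 31880000585059258465247089970702937335855339498088733960824627546804351645391766081328511607927952951833571264753097976133999625157720643895863795018539700412529342690607955049043109890599992764374789531521940985797357612689973631226935804816797191517409831599735485124717926419810182365132138615822993892864785141508441100666627911201640291416375121974302483470232005157104636372724565476277040416626388727526609244053647974154188571292068279555089448260986487538783818264171806444720568486134939799169873069609778645861529508729912352393104232920081679126894652338235508680595359027989620089333515395130158687020594578234293781416821143718886842537065245479184003641915182078388880605676953082465361908583946630895259663822305188650926459388027966399918956761918562739032894236171273933466750903779220038490042222803645050206975965172942735299444805855307953505905631214909937540863456203560046904986419278396098656182003050765480028039062677357480250131115789974596233739558900339896262926749334582669447991358574248030384788124116880007565124838225561868499622658590932276454581877792515362452261241716914158356817203104615060725037308872070488835062386116946915438680942243594166697895932297404724825041359992981374810193920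
theorem cert8_ok : checkDFS actsK cert8 [r8m] = true := by decide +kernel
theorem bm8_ok : idxBitmap (r8m :: pushed 2 cert8) = bm8 := by decide +kernel
theorem reach8 {p : Finset GolayPt} (hp : p ∈ dodecads)
    (hbit : bm8.testBit (gmask p % 4096) = true) : ∃ g ∈ K0, g • r8 = p := by
  apply exists_smul_eq_of_cert_bitmap K0_le gensK_models r8 r8_mem.1 cert8
  · rw [gmask_r8]; exact cert8_ok
  · exact hp.1
  · rw [gmask_r8]
    show (idxBitmap (r8m :: pushed 2 cert8)).testBit _ = true
    rw [bm8_ok]
    exact hbit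

/-- Mask of the representative meeting the base set in 6 points. -/
def r6m : ℕ := 15130653
/-- The representative. -/
def r6 : Finset GolayPt := setOfMask r6m
theorem gmask_r6 : gmask r6 = r6m := gmask_setOfMask (by decide)
theorem r6_mem : r6 ∈ dodecads := by
  rw [mem_dodecads_iff, gmask_r6]
  decide +kernel
/-- Orbit certificate. -/
def cert6 : List (ℕ × ℕ) := [(0, 994979), (0, 14767165), (0, 6728331), (0, 9397301), (0, 6364843), (1, 10599529), (0, 7136523), (0, 9385545), (0, 4306235), (0, 15377609), (0, 931119), (1, 4799271), (0, 14867537), (0, 967595), (0, 11088501), (0, 6593939), (0, 9421005), (1, 8015123), (0, 9851625), (0, 3253047), (0, 16518353), (0, 1528207), (0, 13740645), (1, 3637597), (0, 6105569), (0, 7558469), (0, 5671785), (0, 3891569), (0, 7608289), (1, 8758899), (0, 15271323), (0, 12988623), (0, 8629543), (0, 15223915), (0, 10908427), (1, 9984615), (0, 11590419), (0, 10273491), (0, 10032023), (0, 13670615), (0, 10144135), (1, 6182665), (0, 1290873), (0, 7906737), (0, 4068557), (0, 1423661), (0,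 7990337), (2, 0), (1, 2558767), (0, 15034481), (0, 6768515), (0, 13042301), (0, 6498739), (0, 15090917), (1, 10085651), (0, 14161611), (0, 9613599), (0, 10005731), (0, 12080399), (0, 9747019), (1, 1448063), (0, 11659681), (0, 8144455), (0, 9902873), (0, 5366003), (0, 16385925), (1, 14460737), (0, 1774939), (0, 13677033), (0, 3843399), (0, 10231145), (0, 3273035), (1, 10902069), (0, 2476723), (0, 15549077), (0, 4659863), (0, 12830901), (0, 6965927), (1, 13227337), (0, 4895563), (0, 9090417), (0, 2659819), (0, 11317581), (0, 900419), (1, 6435391), (0, 10923185), (0, 2966703), (0, 15022605), (0, 4713491), (0, 13321897), (2, 0), (1, 2814095), (0, 9223717), (0, 2743323), (0, 13431433), (0, 767511), (0, 13147321), (1, 5483689), (0, 8021037), (0, 3554857), (0, 3531833), (0, 8201865), (0, 5714973), (1, 2927015), (0, 11361349), (0, 4578059), (0, 13361745), (0, 4855731), (0, 10653949), (1, 10161585), (0, 7360751), (0, 11971333), (0, 1920115), (0, 15815561), (0, 5677655), (1, 954839), (0, 9017829), (0, 6871367), (0, 9362241),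 (0, 643955), (0, 15242193), (1, 13797105), (0, 3801535), (0, 11811045), (0, 3525895), (0, 14502473), (0, 5468947), (1, 2937573), (0, 2988821), (0, 5101777), (0, 4969349), (0, 4889205), (0, 2808241), (2, 0), (1, 4948473), (0, 6959589), (0, 2530661), (0, 3000681), (0, 7172929), (0, 4691793), (1, 2794227), (0, 11277749), (0, 2463951), (0, 13494533), (0, 4939331), (0, 12768057), (1, 1821409), (0, 7885621), (0, 3578577), (0, 1950133), (0, 7936709), (0, 5691669), (2, 0), (1, 14976377), (0, 3088843), (0, 12924261), (0, 6524235), (0, 13525353), (0, 2307939), (2, 0), (1, 5884439), (0, 14310033), (0, 1233591), (0, 12094133), (0, 3954839), (0, 9820805), (1, 3556715), (0, 11871081), (0, 7677267), (0, 14091721), (0, 5448047), (0, 15871329), (1, 10330653), (0, 5848211), (0, 13816973), (0, 1747503), (0, 12090417), (0, 3462795), (1, 8813667), (0, 10602283), (0, 15475291), (0, 8861075), (0, 12682479), (0, 15345935), (1, 14195469), (0, 1767507), (0, 10016673), (0, 3707487), (0, 10271121), (0, 1692871), (1, 6714673), (0, 2590441), (0,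 7151933), (0, 6765761), (0, 4703533), (0, 7023209), (1, 15304797), (0, 5142915), (0, 8640101), (0, 6851387), (0, 11432145), (0, 366503), (2, 0), (1, 14173367), (0, 11672207), (0, 9758775), (0, 12144259), (0, 13914655), (0, 9677459), (2, 0), (1, 1366499), (0, 12174149), (0, 6036307), (0, 9687505), (0, 5800935), (0, 12196181), (1, 14418873), (0, 3354839), (0, 13929893), (0, 3885135), (0, 13925153), (0, 3393107), (2, 0), (1, 1426031), (0, 16329489), (0, 5657811), (0, 9667501), (0, 7874679), (0, 11951489), (1, 10249771), (0, 11613723), (0, 13935771), (0, 10167439), (0, 13646895), (0, 11725835), (1, 10385421), (0, 1179171), (0, 16303641), (0, 1979035), (0, 9548981), (0, 7900303), (1, 13024521), (0, 779371), (0, 15218473), (0, 2536539), (0, 9282985), (0, 6894671), (1, 14727477), (0, 3067075), (0, 9261869), (0, 6404691), (0, 13550993), (0, 725743), (1, 6888817), (0, 6738377), (0, 1024869), (1, 7013207), (0, 12982769), (0, 2343399), (0, 15469413), (0, 2578771), (0, 12960737), (2, 0), (1, 11031227), (0, 10793623), (0, 9276567),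 (0, 13195407), (0, 12777991), (0, 9096755), (1, 5992649), (0, 5420837), (0, 3837049), (0, 3961257), (0, 3520069), (0, 6130969), (2, 0), (1, 10887543), (0, 10816995), (0, 15024463), (0, 13052739), (0, 12797299), (0, 14812139), (1, 10067537), (0, 5820827), (0, 10138309), (0, 1613111), (0, 12114121), (0, 1897223), (1, 4608871), (0, 10718065), (0, 7094771), (0, 10949573), (0, 4557175), (0, 15419841), (2, 0), (1, 2331547), (0, 13410549), (0, 2825607), (0, 12900461), (0, 2878211), (0, 13391473), (2, 0), (1, 15356493), (0, 441139), (0, 11126001), (0, 7082895), (0, 8894549), (0, 4836771), (1, 6551049), (0, 5154361), (0, 2831545), (0, 6599853), (0, 3124237), (0, 5078057), (1, 6416431), (0, 15625729), (0, 480827), (0, 14787257), (0, 7218327), (0, 8854701), (1, 3747115), (0, 16020553), (0, 1550091), (0, 14230649), (0, 7484811), (0, 9872493), (1, 2042135), (0, 13720801), (0, 7521039), (0, 10365553), (0, 3233203), (0, 16024269), (1, 9866579), (0, 10043883), (0, 15741767), (1, 9737077), (0, 3770835), (0, 14438853), (0, 1284935),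 (0, 14207345), (0, 3822531), (2, 0), (1, 5751449), (0, 5972661), (0, 7478453), (0, 3590317), (0, 4024869), (0, 7691793), (1, 10805483), (0, 11347719), (0, 12917851), (0, 12837259), (0, 13248103), (0, 10624315), (1, 10042025), (0, 7402519), (0, 10391177), (0, 1667135), (0, 15777409), (0, 2016287), (2, 0), (2, 0), (1, 6642085), (0, 6801989), (0, 5196593), (0, 6509297), (0, 6718389), (0, 3082485), (2, 0), (1, 9144259), (0, 13111679), (0, 10664387), (0, 9225575), (0, 11082571), (0, 12906835), (2, 0), (1, 15735417), (0, 3596691), (0, 10290917), (0, 7411999), (0, 14084289), (0, 1787687), (2, 0), (2, 0), (1, 10787753), (0, 3006551), (0, 13442945), (0, 4444255), (0, 13282209), (0, 2774135), (1, 13201841), (0, 6461127), (0, 9341245), (0, 2717923), (0, 14997253), (0, 1018459), (1, 6953179), (0, 8843685), (0, 2723431), (0, 15489305), (0, 520899), (0, 13207349), (1, 7578561), (0, 6161781), (0, 3348969), (0, 7659877), (0, 4132673), (0, 5591417), (2, 0), (2, 0), (1, 8897303), (0, 13175539), (0, 14832023), (0, 8817383), (0, 11094327),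 (0, 14965443), (1, 9491579), (0, 12100491), (0, 10237015), (0, 9543051), (0, 14213199), (0, 10108675), (1, 6042221), (0, 3390737), (0, 6079721), (0, 3879693), (0, 5553265), (0, 3917193), (2, 0), (1, 499903), (0, 15281317), (0, 6708239), (0, 8907305), (0, 6907443), (0, 15079065), (2, 0), (1, 14807237), (0, 5148423), (0, 9132153), (0, 6353827), (0, 11437653), (0, 858555), (2, 0), (1, 14295507), (0, 9573863), (0, 11569519), (0, 12347715), (0, 9787203), (0, 13730651), (2, 0), (1, 3437171), (0, 11896721), (0, 6095071), (0, 13842821), (0, 5426279), (0, 12208937), (2, 0), (1, 1044761), (0, 4830945), (0, 6984989), (0, 964841), (0, 2749733), (0, 7118409), (1, 12757115), (0, 11167139), (0, 10753647), (0, 10856731), (0, 13460675), (0, 12785423), (1, 3717985), (0, 3986769), (0, 1938377), (0, 5878101), (0, 5938625), (0, 1757549), (2, 0), (2, 0), (2, 0), (1, 6688371), (0, 10961337), (0, 6628071), (0, 15142165), (0, 4671723), (0, 14902053), (2, 0), (2, 0), (2, 0), (1, 10589527), (0, 13404619), (0, 9138503), (0, 12623715), (0, 11190619),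 (0, 9188323), (1, 5314167), (0, 15894937), (0, 1990887), (0, 11607845), (0, 7653467), (0, 10445697), (2, 0), (1, 8837275), (0, 9036455), (0, 15212055), (2, 0), (2, 0), (1, 1727659), (0, 11596333), (0, 3976723), (0, 10310809), (0, 5354127), (0, 14330901), (1, 6201741), (0, 1784933), (0, 7396649), (0, 4121161), (0, 1914673), (0, 7443673), (2, 0), (2, 0), (1, 13518935), (0, 8608675), (0, 14729847), (0, 11406227), (0, 8737015), (0, 14781319), (1, 11704137), (0, 1876347), (0, 12137921), (0, 5543247), (0, 10201417), (0, 5797219), (1, 4583989), (0, 7048849), (0, 5132477), (0, 2341541), (0, 7130165), (0, 3103369), (2, 0), (2, 0), (1, 11208045), (0, 6568299), (0, 11003201), (0, 5048171), (0, 14889305), (0, 4629987), (2, 0), (2, 0), (2, 0), (1, 12214807), (0, 9707187), (0, 11649183), (0, 14428807), (0, 9657367), (0, 13683371), (1, 1563721), (0, 5890857), (0, 8009297), (0, 1480121), (0, 3776749), (0, 8142085), (1, 12886831), (0, 11218003), (0, 12866987), (0, 10723919), (0, 13380915), (0, 10704075), (2, 0), (2, 0), (2, 0), (2,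 0), (1, 16265373), (0, 1490055), (0, 10079277), (0, 7895563), (0, 9893393), (0, 1672891), (2, 0), (2, 0), (2, 0), (1, 7825673), (0, 5727841), (0, 7538489), (0, 7741689), (0, 3614117), (0, 7670893), (2, 0), (2, 0), (2, 0), (1, 11381441), (0, 5068055), (0, 12819145), (0, 4907319), (0, 11149025), (0, 2412863), (2, 0), (2, 0), (2, 0), (2, 0), (2, 0), (1, 15860831), (0, 9841067), (0, 11625575), (0, 15994635), (0, 9920603), (0, 13707171), (2, 0), (2, 0), (2, 0), (1, 11890965), (0, 5607107), (0, 14369053), (0, 5389027), (0, 11715893), (0, 3934955), (2, 0), (2, 0), (1, 889981), (0, 6928777), (0, 5174341), (0, 761641), (0, 6877305), (0, 3061633), (2, 0), (2, 0), (2, 0), (2, 0), (1, 14847533), (0, 3041339), (0, 10843809), (0, 6653471), (0, 13576345), (0, 4420775), (2, 0), (2, 0), (2, 0), (2, 0), (2, 0), (2, 0), (2, 0), (2, 0), (2, 0), (1, 8178561), (0, 2052693), (0, 5348273), (0, 8044757), (0, 1973157), (0, 3266677), (2, 0), (2, 0), (2, 0), (2, 0), (2, 0), (1, 13026891), (0, 9118523), (0, 14693619), (0, 10913167), (0, 9250927),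 (0, 14777603), (2, 0), (2, 0), (2, 0), (2, 0), (2, 0), (2, 0), (2, 0), (2, 0), (2, 0), (1, 11813799), (0, 11864663), (0, 13978003), (0, 13845191), (0, 13765431), (0, 11684083), (2, 0), (2, 0), (2, 0), (2, 0), (1, 11801051), (0, 9806279), (0, 14224711), (0, 13785419), (0, 9626467), (0, 12060531), (1, 13972177), (0, 5473687), (0, 14289133), (0, 3307815), (0, 11849313), (0, 4014875), (2, 0), (2, 0), (2, 0), (2, 0), (2, 0), (1, 3441911), (0, 12388749), (0, 5601351), (0, 13881089), (0, 5915259), (0, 11678641), (2, 0), (2, 0), (2, 0), (2, 0), (2, 0), (2, 0), (2, 0), (2, 0), (2, 0), (1, 1890873), (0, 3797649), (0, 6067861), (0, 1808541), (0, 5830821), (0, 3857925), (2, 0), (2, 0), (1, 7212457), (0, 2584685), (0, 6663969), (0, 7291993), (0, 4666281), (0, 6530165), (1, 11248021), (0, 4988135), (0, 10737933), (0, 5040739), (0, 11228945), (0, 4494075), (1, 236787), (0, 15253933), (0, 3029575), (0, 8772913), (0, 6931147), (0, 13513493), (2, 0), (2, 0), (1, 3367595), (0, 16000565), (0, 3607707), (0, 13983917), (0, 7548423), (0,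 14044217), (1, 1960075), (0, 14251525), (0, 5414427), (0, 10150073), (0, 3684007), (0, 11836445), (2, 0), (2, 0), (1, 6245509), (0, 5462573), (0, 7531057), (0, 4081329), (0, 3478205), (0, 7710869), (2, 0), (2, 0), (2, 0), (2, 0), (2, 0), (2, 0), (2, 0), (2, 0), (2, 0), (2, 0), (2, 0), (2, 0), (2, 0), (1, 11287691), (0, 8778767), (0, 13217291), (0, 13267995), (0, 8566443), (0, 11052095), (2, 0), (2, 0), (2, 0), (1, 7518285), (0, 2026785), (0, 3757673), (0, 7648025), (0, 2073809), (0, 5838253), (2, 0), (2, 0), (2, 0), (2, 0), (1, 5202447), (0, 12795441), (0, 6472891), (0, 11412141), (0, 2440247), (0, 15060105), (2, 0), (1, 10564015), (0, 14986311), (0, 9391371), (0, 12677739), (0, 14853907), (0, 9307387), (2, 0), (2, 0), (2, 0), (2, 0), (2, 0), (2, 0), (2, 0), (2, 0), (1, 9174145), (0, 4773423), (0, 11188761), (0, 849075), (0, 11114125), (0, 5027871), (1, 4364719), (0, 11200613), (0, 2907939), (0, 10867289), (0, 5088147), (0, 13309141), (2, 0), (2, 0), (2, 0), (2, 0), (2, 0), (2, 0), (2, 0), (2, 0), (2, 0), (2, 0),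 (1, 4454753), (0, 6997857), (0, 3019641), (0, 2470385), (0, 7177669), (0, 5183821), (2, 0), (2, 0), (1, 10684087), (0, 14944447), (0, 10971271), (0, 12930599), (0, 14895643), (0, 13001395), (2, 0), (2, 0), (2, 0), (2, 0), (2, 0), (2, 0), (2, 0), (2, 0), (2, 0), (1, 2867773), (0, 7092913), (0, 2610325), (0, 5081773), (0, 7043093), (0, 4644513), (2, 0), (2, 0), (2, 0), (2, 0), (2, 0), (2, 0), (2, 0), (2, 0), (2, 0), (2, 0), (2, 0), (2, 0), (2, 0), (2, 0), (2, 0), (2, 0), (2, 0), (2, 0), (2, 0), (2, 0), (2, 0), (2, 0), (2, 0), (2, 0), (2, 0), (1, 16278241), (0, 3544855), (0, 9799929), (0, 7954823), (0, 14032453), (0, 1296699), (2, 0), (2, 0), (2, 0), (2, 0), (2, 0), (1, 14009429), (0, 5966731), (0, 13791349), (0, 3313571), (0, 12337277), (0, 3488643), (2, 0), (2, 0), (2, 0), (2, 0), (2, 0), (2, 0), (2, 0), (2, 0), (2, 0), (2, 0), (2, 0), (2, 0), (2, 0), (2, 0), (1, 15263891), (0, 9328263), (0, 8493631), (2, 0), (2, 0), (2, 0), (2, 0), (2, 0), (2, 0), (2, 0), (2, 0), (2, 0), (2, 0), (2, 0), (2, 0), (2, 0), (2, 0), (2,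 0), (2, 0), (2, 0), (2, 0), (2, 0), (1, 1908239), (0, 13760537), (0, 5957251), (0, 10098237), (0, 3193019), (0, 12379269), (1, 14050567), (0, 9637483), (0, 15753531), (0, 11937475), (0, 9766207), (0, 15804619), (2, 0), (2, 0), (2, 0), (2, 0), (1, 4012121), (0, 5633409), (0, 5998157), (0, 5912889), (0, 3339489), (0, 3966765), (2, 0), (2, 0), (2, 0), (1, 7252305), (0, 1005025), (0, 6394733), (2, 0), (2, 0), (1, 13271711), (0, 9058487), (0, 10542247), (0, 11323919), (0, 9271827), (0, 12703379), (2, 0), (2, 0), (2, 0), (1, 9663785), (0, 7382635), (0, 12461337), (0, 1389803), (0, 15836429), (0, 6171723), (2, 0), (2, 0), (2, 0), (2, 0), (2, 0), (2, 0), (2, 0), (2, 0), (2, 0), (2, 0), (2, 0), (1, 2549287), (0, 11341369), (0, 6647963), (0, 13084293), (0, 4918335), (0, 14842025), (2, 0), (2, 0), (2, 0), (2, 0), (2, 0), (2, 0), (2, 0), (2, 0), (2, 0), (2, 0), (2, 0), (2, 0), (2, 0), (2, 0), (2, 0), (2, 0), (2, 0), (2, 0), (2, 0), (2, 0), (2, 0), (2, 0), (2, 0), (2, 0), (2, 0), (2, 0), (2, 0), (2, 0), (2, 0), (2, 0), (2, 0),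 (2, 0), (2, 0), (2, 0), (2, 0), (2, 0), (2, 0), (2, 0), (2, 0), (2, 0), (2, 0), (2, 0), (2, 0), (2, 0), (2, 0), (2, 0), (2, 0), (1, 8260125), (0, 1538225), (0, 7456421), (2, 0), (2, 0), (2, 0), (2, 0), (2, 0), (2, 0), (2, 0), (2, 0), (2, 0), (2, 0), (2, 0), (2, 0), (2, 0), (2, 0), (2, 0), (2, 0), (2, 0), (2, 0), (2, 0), (2, 0), (1, 7629987), (0, 12011021), (0, 5581371), (0, 15950993), (0, 5637807), (0, 11741245), (2, 0), (2, 0), (2, 0), (2, 0), (2, 0), (2, 0), (2, 0), (2, 0), (1, 9914725), (0, 7424867), (0, 16139089), (0, 1508339), (0, 15794677), (0, 7735751), (1, 9213723), (0, 9023707), (0, 13153671), (0, 9083983), (0, 8976683), (0, 11073091), (2, 0), (2, 0), (2, 0), (2, 0), (2, 0), (2, 0), (2, 0), (2, 0), (1, 2954963), (0, 12947869), (0, 4958407), (0, 13262117), (0, 2284139), (0, 11330353), (2, 0), (2, 0), (2, 0), (2, 0), (2, 0), (2, 0), (2, 0), (2, 0), (2, 0), (2, 0), (2, 0), (2, 0), (2, 0), (2, 0), (2, 0), (2, 0), (2, 0), (2, 0), (2, 0), (2, 0), (2, 0), (2, 0), (2, 0), (2, 0), (2, 0), (2, 0), (2, 0), (2, 0), (2,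 0), (2, 0), (2, 0), (2, 0), (2, 0), (1, 9517427), (0, 15779267), (0, 10355535), (2, 0), (2, 0), (2, 0), (2, 0), (2, 0), (2, 0), (2, 0), (2, 0), (2, 0), (2, 0), (2, 0), (2, 0), (2, 0), (2, 0), (2, 0), (2, 0), (2, 0), (2, 0), (2, 0), (2, 0), (2, 0), (2, 0), (2, 0), (2, 0), (1, 7948473), (0, 7762565), (0, 1543733), (2, 0), (2, 0), (2, 0), (2, 0), (2, 0), (2, 0), (2, 0), (2, 0), (2, 0), (2, 0), (2, 0), (2, 0), (2, 0), (2, 0), (2, 0), (2, 0), (2, 0), (2, 0), (2, 0), (1, 5517751), (0, 11766981), (0, 6048047), (0, 11762241), (0, 5556019), (0, 12255961)]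
/-- Bitmap of the orbit. -/
def bm6 : ℕ := 105456327480613814164841826096528373982090720177083116822402636671758303092283042186933342773259378085585880836643588241468423003627429692790586144750633868011477541438587812355927086228684974193278398941109697393753314966349114172281170294282956307391407959132767686660053976025873926333859739302042460298349002852529948326506088018641941940435398798758684636052517396068205639943098253205082039031127482383596618382893348898293546374007475722981783815625847160326924143873285133149394011106234218258626686828553860416138482540806401630247238971186186490013257335420915294178607327153279906767935844809715120269300746820293150313713072249469028767693803515533491099283267684934801253104205117306992864412271451410099740418645297811031185841672925982613139469805069962586236989124210428462840362100279167500035746428780716962574993009782882207104209465619360836344033906670853508548991250492285640965375382018701706656394761444092520468701831769939755946273681837731264477785726143508153290620278489151236008689790030026232141492066154632257601756676373062853196039011884772964868508540540565925806762682956231533464503542092745100210325924160633937301982068801251332291534877753189319957142108267714969600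
theorem cert6_ok : checkDFS actsK cert6 [r6m] = true := by decide +kernel
theorem bm6_ok : idxBitmap (r6m :: pushed 2 cert6) = bm6 := by decide +kernel
theorem reach6 {p : Finset GolayPt} (hp : p ∈ dodecads)
    (hbit : bm6.testBit (gmask p % 4096) = true) : ∃ g ∈ K0, g • r6 = p := by
  apply exists_smul_eq_of_cert_bitmap K0_le gensK_models r6 r6_mem.1 cert6
  · rw [gmask_r6]; exact cert6_ok
  · exact hp.1
  · rw [gmask_r6]
    show (idxBitmap (r6m :: pushed 2 cert6)).testBit _ = true
    rw [bm6_ok]
    exact hbit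

/-- Orbit certificate for the base point under the stabiliser of the base set. -/
def ptCert : List (ℕ × ℕ) := [(0, 11), (0, 7), (0, 2), (0, 13), (0, 9), (0, 14), (0, 4), (1, 3), (0, 6), (0, 10), (0, 8)]
theorem ptCert_ok : checkDFS [fun i => ds1T.getD i 0, fun i => ds2T.getD i 0] ptCert [idx p0] = true := by
  rw [idx_p0]; decide +kernel
theorem ptCert_complete : ∀ i : Fin 24, d0m.testBit i = true → i.val ∈ idx p0 :: pushed 2 ptCert := by
  rw [idx_p0]; decide +kernel

/-- Classification of the objects by their intersection with the base set. -/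
def classCheck (m : ℕ) : Bool :=
  (popc 24 m != 12) || !(m.testBit 0) ||
    ((popc 24 (d0m &&& m) == 12 && m == d0m) ||
     (popc 24 (d0m &&& m) == 4 && bm4.testBit (m % 4096)) ||
     (popc 24 (d0m &&& m) == 8 && bm8.testBit (m % 4096)) ||
     (popc 24 (d0m &&& m) == 6 && bm6.testBit (m % 4096)))

theorem classCheck_all : (List.range 4096).all (fun k => classCheck (enc k)) = true := by
  decide +kernel

/-- Representative of the class of objects meeting the base set in `j` points. -/
def repOf (j : ℕ) : Finset GolayPt := if j = 12 then d0 else if j = 4 then r4 else if j = 8 then r8 else r6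

theorem reach_rep {p : Finset GolayPt} (hp : p ∈ dodecads) (hp0 : p0 ∈ p) :
    ∃ g ∈ K0, g • repOf (d0 ∩ p).card = p := by
  have h := forall_supports_bool classCheck classCheck_all p hp.1
  have hcard : (d0 ∩ p).card = popc 24 (d0m &&& gmask p) := by
    rw [card_inter_eq_popc, gmask_d0]
  have hbit : (gmask p).testBit 0 = true := by
    have := (mem_iff_testBit_gmask p0 p).mp hp0
    rwa [idx_p0] at this
  unfold classCheck at h
  simp only [Bool.or_eq_true, Bool.and_eq_true, beq_iff_eq, bne_iff_ne, ne_eq,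
    Bool.not_eq_true'] at h
  rcases h with (h | h) | h
  · rw [← card_eq_popc_gmask, hp.2] at h
    exact absurd rfl h
  · rw [hbit] at h
    exact absurd h (by decide)
  · rcases h with ((⟨hj, hm⟩ | ⟨hj, hb⟩) | ⟨hj, hb⟩) | ⟨hj, hb⟩
    · rw [← hcard] at hj
      refine ⟨1, K0.one_mem, ?_⟩
      rw [hj, one_smul]
      show d0 = p
      apply gmask_injective
      rw [gmask_d0, hm]
    · rw [← hcard] at hj
      rw [hj]
      exact reach4 hp hb
    · rw [← hcard] at hj
      rw [hj]
      exact reach8 hp hb
    · rw [← hcard] at hj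
      rw [hj]
      exact reach6 hp hb

theorem base_trans {p' p'' : Finset GolayPt} (h' : p' ∈ dodecads) (h'' : p'' ∈ dodecads)
    (hp' : p0 ∈ p') (hp'' : p0 ∈ p'') (h : (d0 ∩ p').card = (d0 ∩ p'').card) :
    ∃ g ∈ K0, g • p' = p'' := by
  obtain ⟨g₁, hg₁, e₁⟩ := reach_rep h' hp'
  obtain ⟨g₂, hg₂, e₂⟩ := reach_rep h'' hp''
  refine ⟨g₂ * g₁⁻¹, K0.mul_mem hg₂ (K0.inv_mem hg₁), ?_⟩
  rw [mul_smul, ← e₁, inv_smul_smul, h, e₂]

theorem ptModels : List.Forall₂ (fun g act => g ∈ Hd ∧ Models (G := Equiv.Perm GolayPt) idx g act)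
    [ds1, ds2] [fun i => ds1T.getD i 0, fun i => ds2T.getD i 0] :=
  List.Forall₂.cons ⟨ds1_memH, fun x => idx_tblPerm ds1T ds1T' ds1_ok x⟩
    (List.Forall₂.cons ⟨ds2_memH, fun x => idx_tblPerm ds2T ds2T' ds2_ok x⟩ List.Forall₂.nil)

theorem flag_trans {x : GolayPt} {o : Finset GolayPt} (ho : o ∈ dodecads) (hx : x ∈ o) :
    ∃ a ∈ M24, a • d0 = o ∧ a p0 = x := by
  obtain ⟨a₁, ha₁, rfl⟩ := exists_smul_d0_eq ho
  have hy : a₁⁻¹ x ∈ d0 := by
    have h1 : a₁ (a₁⁻¹ x) ∈ a₁ • d0 := by simpa using hx
    exact (perm_mem_smul_iff a₁ _ _).mp h1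
  have hbit : d0m.testBit (idx (a₁⁻¹ x)) = true := by
    have := (mem_iff_testBit_gmask _ _).mp hy
    rwa [gmask_d0] at this
  have hmem := ptCert_complete ⟨idx (a₁⁻¹ x), idx_lt _⟩ hbit
  obtain ⟨h, hh, hidx⟩ := orbit_of_cert ptModels p0 ptCert ptCert_ok _ hmem
  have hhp : h p0 = a₁⁻¹ x := idx_injective hidx
  refine ⟨a₁ * h, M24.mul_mem ha₁ (Hd_le hh), ?_, ?_⟩
  · rw [mul_smul]
    have : h • d0 = d0 := MulAction.mem_stabilizer_iff.mp hh.2
    rw [this]
  · show a₁ (h p0) = x
    rw [hhp]
    simp

/-- Boolean test for the counting. -/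
def cntF (j : ℕ) (m : ℕ) : Bool := popc 24 m == 12 && m.testBit 0 && popc 24 (d0m &&& m) == j

theorem base_set_eq (j : ℕ) :
    {s : Finset GolayPt | s ∈ dodecads ∧ p0 ∈ s ∧ (d0 ∩ s).card = j} =
      {s | s ∈ supports (golayCode : Set (GolayPt → ZMod 2)) ∧ cntF j (gmask s) = true} := by
  ext s
  have h1 : s ∈ dodecads ↔ s ∈ supports (golayCode : Set (GolayPt → ZMod 2)) ∧
      popc 24 (gmask s) = 12 := by
    rw [← card_eq_popc_gmask]; rfl
  have h2 : p0 ∈ s ↔ (gmask s).testBit 0 = true := by
    rw [mem_iff_testBit_gmask p0 s, idx_p0]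
  have h3 : (d0 ∩ s).card = popc 24 (d0m &&& gmask s) := by
    rw [card_inter_gmask, gmask_d0]
  have h4 : cntF j (gmask s) = true ↔ popc 24 (gmask s) = 12 ∧ (gmask s).testBit 0 = true ∧
      popc 24 (d0m &&& gmask s) = j := by
    unfold cntF
    simp only [Bool.and_eq_true, beq_iff_eq, and_assoc, Bool.not_eq_true']
  rw [Set.mem_ofPred_eq, Set.mem_ofPred_eq, h1, h2, h3, h4, and_assoc]

theorem count4 : ((List.range 4096).filter (fun k => cntF 4 (enc k))).length = 165 := by
  decide +kernel

theorem base_count4 : {s : Finset GolayPt | s ∈ dodecads ∧ p0 ∈ s ∧ (d0 ∩ s).card = 4}.ncard = 165 := by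
  rw [base_set_eq, count_supports, count4]

theorem count8 : ((List.range 4096).filter (fun k => cntF 8 (enc k))).length = 330 := by
  decide +kernel

theorem base_count8 : {s : Finset GolayPt | s ∈ dodecads ∧ p0 ∈ s ∧ (d0 ∩ s).card = 8}.ncard = 330 := by
  rw [base_set_eq, count_supports, count8]

theorem count6 : ((List.range 4096).filter (fun k => cntF 6 (enc k))).length = 792 := by
  decide +kernel

theorem base_count6 : {s : Finset GolayPt | s ∈ dodecads ∧ p0 ∈ s ∧ (d0 ∩ s).card = 6}.ncard = 792 := by
  rw [base_set_eq, count_supports, count6]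

theorem count_transport {a : Equiv.Perm GolayPt} (ha : a ∈ M24) (j : ℕ) :
    {o' : Finset GolayPt | o' ∈ dodecads ∧ a p0 ∈ o' ∧ (a • d0 ∩ o').card = j}.ncard =
      {s : Finset GolayPt | s ∈ dodecads ∧ p0 ∈ s ∧ (d0 ∩ s).card = j}.ncard := by
  rw [← ncard_smul_set a (fun o' => o' ∈ dodecads ∧ a p0 ∈ o' ∧ (a • d0 ∩ o').card = j)]
  simp only [smul_mem_dodecads_iff ha, perm_mem_smul_iff, card_inter_smul]

/-- The point stabiliser acts on the 1288 dodecads through the point with rank 4 and subdegrees 1, 165, 330, 792, distinguished by intersection 4, 8, 6 with the fixed dodecad. -/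
theorem result (x : Cfsg.GolayPt) (d : Finset Cfsg.GolayPt) (hd : d ∈ Cfsg.dodecads) (hx : x ∈ d) : {d' : Finset Cfsg.GolayPt | d' ∈ Cfsg.dodecads ∧ x ∈ d' ∧ (d ∩ d').card = 4}.ncard = 165 ∧ {d' : Finset Cfsg.GolayPt | d' ∈ Cfsg.dodecads ∧ x ∈ d' ∧ (d ∩ d').card = 8}.ncard = 330 ∧ {d' : Finset Cfsg.GolayPt | d' ∈ Cfsg.dodecads ∧ x ∈ d' ∧ (d ∩ d').card = 6}.ncard = 792 ∧ ∀ d' d'' : Finset Cfsg.GolayPt, d' ∈ Cfsg.dodecads → d'' ∈ Cfsg.dodecads → x ∈ d' → x ∈ d'' → (d ∩ d').card = (d ∩ d'').card → ∃ g : Equiv.Perm Cfsg.GolayPt, g ∈ Cfsg.M24 ∧ g x = x ∧ g • d = d ∧ g • d' = d'' := by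
  obtain ⟨a, ha, rfl, rfl⟩ := flag_trans hd hx
  refine ⟨?_, ?_, ?_, ?_⟩
  · rw [count_transport ha, base_count4]
  · rw [count_transport ha, base_count8]
  · rw [count_transport ha, base_count6]
  · intro o' o'' ho' ho'' hx' hx'' hcard
    obtain ⟨q', rfl⟩ : ∃ q', o' = a • q' := ⟨a⁻¹ • o', (smul_inv_smul a o').symm⟩
    obtain ⟨q'', rfl⟩ : ∃ q'', o'' = a • q'' := ⟨a⁻¹ • o'', (smul_inv_smul a o'').symm⟩
    rw [smul_mem_dodecads_iff ha] at ho' ho''
    rw [perm_mem_smul_iff] at hx' hx''
    rw [card_inter_smul, card_inter_smul] at hcard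
    obtain ⟨g, hg, hgq⟩ := base_trans ho' ho'' hx' hx'' hcard
    have hgx0 : g • d0 = d0 := MulAction.mem_stabilizer_iff.mp hg.1.2
    have hgp0 : g p0 = p0 := MulAction.mem_stabilizer_iff.mp hg.2
    refine ⟨a * g * a⁻¹, M24.mul_mem (M24.mul_mem ha (K0_le hg)) (M24.inv_mem ha), ?_, ?_, ?_⟩
    · show a (g (a⁻¹ (a p0))) = a p0
      simp [hgp0]
    · rw [mul_smul, mul_smul, inv_smul_smul, hgx0]
    · rw [mul_smul, mul_smul, inv_smul_smul, hgq]

end Cfsg.Agent.S1639
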