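import Cfsg.Statements.S1640
import Mathlib
import Cfsg.Agent.Lib.Helper94.Leech11178

set_option autoImplicit false
open Cfsg

namespace Cfsg.Agent.S1640

open Cfsg.Agent.Lib.Helper94

/-- The stabiliser of a vector of customary norm 6 is transitive on the 11178 minimal vectors of customary inner product −2 with it. -/
theorem result (u : ↥Cfsg.leechLattice) (hu : Cfsg.sqNorm (u : Cfsg.GolayPt → ℤ) = 48) : {x : ↥Cfsg.leechLattice | Cfsg.sqNorm (x : Cfsg.GolayPt → ℤ) = 32 ∧ Cfsg.dotInt (u : Cfsg.GolayPt → ℤ) (x : Cfsg.GolayPt → ℤ) = -16}.ncard = 11178 ∧ ∀ x ∈ {x : ↥Cfsg.leechLattice | Cfsg.sqNorm (x : Cfsg.GolayPt → ℤ) = 32 ∧ Cfsg.dotInt (u : Cfsg.GolayPt → ℤ) (x : Cfsg.GolayPt → ℤ) = -16}, ∀ x' ∈ {x : ↥Cfsg.leechLattice | Cfsg.sqNorm (x : Cfsg.GolayPt → ℤ) = 32 ∧ Cfsg.dotInt (u : Cfsg.GolayPt → ℤ) (x : Cfsg.GolayPt → ℤ) = -16}, ∃ g : ↥Cfsg.Co0, g • u = u ∧ g • x = x' := by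
  constructor
  · have h1 : Subtype.val '' {x : ↥leechLattice | sqNorm (x : GolayPt → ℤ) = 32 ∧
        dotInt (u : GolayPt → ℤ) (x : GolayPt → ℤ) = -16} =
        {w : GolayPt → ℤ | w ∈ leechLattice ∧ sqNorm w = 32 ∧ dotInt (u : GolayPt → ℤ) w = -16} := by
      ext w
      constructor
      · rintro ⟨x, ⟨h1, h2⟩, rfl⟩
        exact ⟨x.2, h1, h2⟩
      · rintro ⟨hw, h1, h2⟩
        exact ⟨⟨w, hw⟩, ⟨h1, h2⟩, rfl⟩
    rw [← Set.ncard_image_of_injective _ Subtype.val_injective, h1]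
    show cntG (u : GolayPt → ℤ) 32 (-16) = 11178
    rw [cntG_neg', cntG_conj (conj_u5 u.1 u.2 hu), cnt11178]
  · rintro x ⟨hx1, hx2⟩ x' ⟨hx1', hx2'⟩
    have c1 := conj2_48 u.1 (-x.1) u.2 (leechLattice.neg_mem x.2) hu (by rw [sqNorm_neg', hx1])
      (by rw [dotInt_neg_right', hx2]; norm_num)
    have c2 := conj2_48 u.1 (-x'.1) u.2 (leechLattice.neg_mem x'.2) hu (by rw [sqNorm_neg', hx1'])
      (by rw [dotInt_neg_right', hx2']; norm_num)
    have c3 := (c1.trans c2.symm).neg_right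
    rw [neg_neg, neg_neg] at c3
    exact (conj2_iff u x u x').mp c3

end Cfsg.Agent.S1640
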