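import Cfsg.Statements.S1641
import Mathlib
import Cfsg.Agent.Lib.Helper94.LeechC3e

set_option autoImplicit false
open Cfsg

namespace Cfsg.Agent.S1641

open Cfsg.Agent.Lib.Helper94

/-- The third Conway group acts on the 11178 cosets of the Higman–Sims group with rank 5 and subdegrees 1, 352, 1100, 4125, 5600. -/
theorem result (u x : ↥Cfsg.leechLattice) (hu : Cfsg.sqNorm (u : Cfsg.GolayPt → ℤ) = 48) (hx : x ∈ {x : ↥Cfsg.leechLattice | Cfsg.sqNorm (x : Cfsg.GolayPt → ℤ) = 32 ∧ Cfsg.dotInt (u : Cfsg.GolayPt → ℤ) (x : Cfsg.GolayPt → ℤ) = -16}) : ∃ y₁ ∈ {x : ↥Cfsg.leechLattice | Cfsg.sqNorm (x : Cfsg.GolayPt → ℤ) = 32 ∧ Cfsg.dotInt (u : Cfsg.GolayPt → ℤ) (x : Cfsg.GolayPt → ℤ) = -16}, ∃ y₂ ∈ {x : ↥Cfsg.leechLattice | Cfsg.sqNorm (x : Cfsg.GolayPt → ℤ) = 32 ∧ Cfsg.dotInt (u : Cfsg.GolayPt → ℤ) (x : Cfsg.GolayPt → ℤ) = -16}, ∃ y₃ ∈ {x : ↥Cfsg.leechLattice | Cfsg.sqNorm (x : Cfsg.GolayPt → ℤ) = 32 ∧ Cfsg.dotInt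 (u : Cfsg.GolayPt → ℤ) (x : Cfsg.GolayPt → ℤ) = -16}, ∃ y₄ ∈ {x : ↥Cfsg.leechLattice | Cfsg.sqNorm (x : Cfsg.GolayPt → ℤ) = 32 ∧ Cfsg.dotInt (u : Cfsg.GolayPt → ℤ) (x : Cfsg.GolayPt → ℤ) = -16}, (MulAction.orbit ↥(MulAction.stabilizer ↥Cfsg.Co0 u ⊓ MulAction.stabilizer ↥Cfsg.Co0 x) y₁).ncard = 352 ∧ (MulAction.orbit ↥(MulAction.stabilizer ↥Cfsg.Co0 u ⊓ MulAction.stabilizer ↥Cfsg.Co0 x) y₂).ncard = 1100 ∧ (MulAction.orbit ↥(MulAction.stabilizer ↥Cfsg.Co0 u ⊓ MulAction.stabilizer ↥Cfsg.Co0 x) y₃).ncard = 4125 ∧ (MulAction.orbit ↥(MulAction.stabilizer ↥Cfsg.Co0 u ⊓ MulAction.stabilizer ↥Cfsg.Co0 x) y₄).ncard = 5600 ∧ {x : ↥Cfsg.leechLattice | Cfsg.sqNorm (x : Cfsg.GolayPt → ℤ) = 32 ∧ Cfsg.dotInt (u : Cfsg.GolayPt → ℤ) (x : Cfsg.GolayPt → ℤ) = -16} = {x} ∪ MulAction.orbit ↥(MulAction.stabilizer ↥Cfsg.Co0 u ⊓ MulAction.stabilizer ↥Cfsg.Co0 x) y₁ ∪ MulAction.orbit ↥(MulAction.stabilizer ↥Cfsg.Co0 u ⊓ MulAction.stabilizer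 ↥Cfsg.Co0 x) y₂ ∪ MulAction.orbit ↥(MulAction.stabilizer ↥Cfsg.Co0 u ⊓ MulAction.stabilizer ↥Cfsg.Co0 x) y₃ ∪ MulAction.orbit ↥(MulAction.stabilizer ↥Cfsg.Co0 u ⊓ MulAction.stabilizer ↥Cfsg.Co0 x) y₄ := by
  classical
  obtain ⟨hx1, hx2⟩ := hx
  -- normal form of the pair
  have hnx : sqNorm (-(x : GolayPt → ℤ)) = 32 := by rw [sqNorm_neg']; exact hx1
  have hw : sqNorm (-(x : GolayPt → ℤ) - (u : GolayPt → ℤ)) = 48 := by
    rw [sqNorm_sub, hnx, hu, dotInt_neg_left', dotInt_comm', hx2]; norm_num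
  have huw : dotInt (u : GolayPt → ℤ) (-(x : GolayPt → ℤ) - (u : GolayPt → ℤ)) = -32 := by
    rw [dotInt_sub_right', dotInt_neg_right', hx2, dotInt_self, hu]; norm_num
  have c0 : Conj2 (u : GolayPt → ℤ) (-(x : GolayPt → ℤ)) u5 ob := by
    have c1 := (conj2_hs u.1 (-(x : GolayPt → ℤ) - (u : GolayPt → ℤ)) u.2
      (leechLattice.sub_mem (leechLattice.neg_mem x.2) u.2) hu hw huw).add_right
    have e1 : -(x : GolayPt → ℤ) - (u : GolayPt → ℤ) + (u : GolayPt → ℤ) = -(x : GolayPt → ℤ) := by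
      abel
    have e2 : w5 + u5 = ob := by rw [← ob_sub_u5]; abel
    rw [e1, e2] at c1
    exact c1
  obtain ⟨g, hg, huL, hxL, e1, e2⟩ := c0
  have hgu : ((g u : leechLattice) : GolayPt → ℤ) = u5 := e1
  have hgx : ((g (-x) : leechLattice) : GolayPt → ℤ) = ob := e2
  -- the transfer map
  set ψ : Equiv.Perm leechLattice := g * Equiv.neg leechLattice with hψ
  have ψdef : ∀ y : leechLattice, ψ y = g (-y) := fun y => rfl
  have memY : ∀ y : ↥leechLattice, (sqNorm (y : GolayPt → ℤ) = 32 ∧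
      dotInt (u : GolayPt → ℤ) (y : GolayPt → ℤ) = -16) ↔
      ((ψ y : leechLattice) : GolayPt → ℤ) ∈ c3Set := by
    intro y
    unfold c3Set
    simp only [Set.mem_ofPred_eq]
    rw [ψdef, ← hgu, co0_dot g hg, hg.2]
    have e3 : ((-y : leechLattice) : GolayPt → ℤ) = -(y : GolayPt → ℤ) := rfl
    rw [e3, sqNorm_neg', dotInt_neg_right']
    constructor
    · rintro ⟨a, b⟩
      exact ⟨(g (-y)).2, a, by rw [b]; norm_num⟩
    · rintro ⟨-, a, b⟩
      exact ⟨a, by omega⟩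
  have dotX : ∀ y : ↥leechLattice, dotInt ob ((ψ y : leechLattice) : GolayPt → ℤ) =
      dotInt (x : GolayPt → ℤ) (y : GolayPt → ℤ) := by
    intro y
    rw [ψdef, ← hgx, co0_dot g hg]
    have e3 : ((-y : leechLattice) : GolayPt → ℤ) = -(y : GolayPt → ℤ) := rfl
    have e4 : ((-x : leechLattice) : GolayPt → ℤ) = -(x : GolayPt → ℤ) := rfl
    rw [e3, e4, dotInt_neg_left', dotInt_neg_right', neg_neg]
  have ψx : ((ψ x : leechLattice) : GolayPt → ℤ) = ob := hgx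
  have hxY : sqNorm (x : GolayPt → ℤ) = 32 ∧
      dotInt (u : GolayPt → ℤ) (x : GolayPt → ℤ) = -16 := ⟨hx1, hx2⟩
  -- the classes
  have clsN : ∀ t : ℤ, {z : ↥leechLattice | (sqNorm (z : GolayPt → ℤ) = 32 ∧
      dotInt (u : GolayPt → ℤ) (z : GolayPt → ℤ) = -16) ∧
      dotInt (x : GolayPt → ℤ) (z : GolayPt → ℤ) = t}.ncard = (c3Cls t).ncard := by
    intro t
    refine ncard_transfer ψ _ (fun y => y ∈ c3Cls t) ?_ ?_
    · intro y
      unfold c3Cls
      simp only [Set.mem_ofPred_eq]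
      rw [memY, dotX]
    · intro y hy
      exact hy.1.1
  have key : ∀ t : ℤ, t ≠ 32 → 0 < (c3Cls t).ncard →
      ∃ y₁ : ↥leechLattice, (sqNorm (y₁ : GolayPt → ℤ) = 32 ∧
        dotInt (u : GolayPt → ℤ) (y₁ : GolayPt → ℤ) = -16) ∧
        (MulAction.orbit ↥(MulAction.stabilizer ↥Cfsg.Co0 u ⊓ MulAction.stabilizer ↥Cfsg.Co0 x) y₁ :
          Set ↥leechLattice) =
        {z : ↥leechLattice | (sqNorm (z : GolayPt → ℤ) = 32 ∧
          dotInt (u : GolayPt → ℤ) (z : GolayPt → ℤ) = -16) ∧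
          dotInt (x : GolayPt → ℤ) (z : GolayPt → ℤ) = t} := by
    intro t ht hpos
    have hne : (c3Cls t).Nonempty := by
      by_contra h
      rw [Set.not_nonempty_iff_eq_empty] at h
      rw [h, Set.ncard_empty] at hpos
      exact lt_irrefl _ hpos
    obtain ⟨f, hf⟩ := hne
    set y₁ : leechLattice := ψ.symm ⟨f, hf.1.1⟩ with hy₁
    have hψy : ((ψ y₁ : leechLattice) : GolayPt → ℤ) = f := by
      rw [hy₁, Equiv.apply_symm_apply]
    have hy₁Y := (memY y₁).mpr (by rw [hψy]; exact hf.1)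
    have hy₁t : dotInt (x : GolayPt → ℤ) (y₁ : GolayPt → ℤ) = t := by
      rw [← dotX, hψy]; exact hf.2
    refine ⟨y₁, hy₁Y, ?_⟩
    ext z
    constructor
    · rintro ⟨k, rfl⟩
      obtain ⟨⟨kk, hkk⟩, hk1, hk2⟩ := k
      have f1 : kk u = u := MulAction.mem_stabilizer_iff.mp hk1
      have f2 : kk x = x := MulAction.mem_stabilizer_iff.mp hk2
      show (sqNorm ((kk y₁ : leechLattice) : GolayPt → ℤ) = 32 ∧
        dotInt (u : GolayPt → ℤ) ((kk y₁ : leechLattice) : GolayPt → ℤ) = -16) ∧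
        dotInt (x : GolayPt → ℤ) ((kk y₁ : leechLattice) : GolayPt → ℤ) = t
      refine ⟨⟨by rw [hkk.2]; exact hy₁Y.1, ?_⟩, ?_⟩
      · have := co0_dot kk hkk u y₁
        rw [f1] at this
        rw [this]; exact hy₁Y.2
      · have := co0_dot kk hkk x y₁
        rw [f2] at this
        rw [this]; exact hy₁t
    · rintro ⟨hz, hzt⟩
      have mz := (memY z).mp hz
      have my := (memY y₁).mp hy₁Y
      have ny : ((ψ y₁ : leechLattice) : GolayPt → ℤ) ≠ ob := by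
        intro h
        have := dotX y₁
        rw [h, dotInt_self, sqNorm_ob, hy₁t] at this
        exact ht this.symm
      have nz : ((ψ z : leechLattice) : GolayPt → ℤ) ≠ ob := by
        intro h
        have := dotX z
        rw [h, dotInt_self, sqNorm_ob, hzt] at this
        exact ht this.symm
      obtain ⟨k, hk, m1, m2, m3, k1, k2, k3⟩ := c3_rank5 _ _ my mz ny nz
        (by rw [dotX, dotX, hy₁t, hzt])
      have hk' : g⁻¹ * k * g ∈ Co0 := Co0.mul_mem (Co0.mul_mem (Co0.inv_mem hg) hk) hg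
      have q1 : (g⁻¹ * k * g) u = u := by
        simp only [Equiv.Perm.mul_apply]
        have e : g u = ⟨u5, m1⟩ := Subtype.ext hgu
        have : k (g u) = g u := by
          rw [e]; exact Subtype.ext k1
        rw [this]; simp
      have q2 : (g⁻¹ * k * g) (-x) = -x := by
        simp only [Equiv.Perm.mul_apply]
        have e : g (-x) = ⟨ob, m2⟩ := Subtype.ext hgx
        have : k (g (-x)) = g (-x) := by
          rw [e]; exact Subtype.ext k2
        rw [this]; simp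
      have q3 : (g⁻¹ * k * g) (-y₁) = -z := by
        simp only [Equiv.Perm.mul_apply]
        have : k (g (-y₁)) = g (-z) := Subtype.ext k3
        rw [this]; simp
      rw [co0_neg _ hk', neg_inj] at q2 q3
      exact ⟨⟨⟨g⁻¹ * k * g, hk'⟩, MulAction.mem_stabilizer_iff.mpr q1,
        MulAction.mem_stabilizer_iff.mpr q2⟩, q3⟩
  obtain ⟨y₁, hy₁, o1⟩ := key (-8) (by norm_num) (by rw [ncard_c3ClsNeg]; norm_num)
  obtain ⟨y₂, hy₂, o2⟩ := key 16 (by norm_num) (by rw [ncard_c3Cls16]; norm_num)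
  obtain ⟨y₃, hy₃, o3⟩ := key 0 (by norm_num) (by rw [ncard_c3Cls0]; norm_num)
  obtain ⟨y₄, hy₄, o4⟩ := key 8 (by norm_num) (by rw [ncard_c3Cls8]; norm_num)
  refine ⟨y₁, hy₁, y₂, hy₂, y₃, hy₃, y₄, hy₄, ?_, ?_, ?_, ?_, ?_⟩
  · rw [o1, clsN, ncard_c3ClsNeg]
  · rw [o2, clsN, ncard_c3Cls16]
  · rw [o3, clsN, ncard_c3Cls0]
  · rw [o4, clsN, ncard_c3Cls8]
  · rw [o1, o2, o3, o4]
    ext z
    simp only [Set.mem_union, Set.mem_singleton_iff, Set.mem_ofPred_eq]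
    constructor
    · intro hz
      have mz := (memY z).mp hz
      rcases c3_dot_vals _ mz with h | h | h | h | h
      · left; left; left; left
        apply ψ.injective
        apply Subtype.ext
        rw [h.1, ψx]
      · left; left; right
        exact ⟨hz, by rw [← dotX]; exact h.2⟩
      · left; right
        exact ⟨hz, by rw [← dotX]; exact h.2⟩
      · left; left; left; right
        exact ⟨hz, by rw [← dotX]; exact h.2⟩
      · right
        exact ⟨hz, by rw [← dotX]; exact h⟩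
    · rintro ((((h | h) | h) | h) | h)
      · rw [h]; exact hxY
      · exact h.1
      · exact h.1
      · exact h.1
      · exact h.1

end Cfsg.Agent.S1641
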