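import Cfsg.Statements.S1642
import Cfsg.Agent.Lib.Helper94.LeechPairs4

set_option autoImplicit false
open Cfsg

namespace Cfsg.Agent.S1642

set_option maxHeartbeats 4000000

open Cfsg.Agent.Lib.Helper94 Cfsg.Agent.Lib.Helper95
open Cfsg.Agent.Lib.Helper10 (vec vec_apply vec_zero wmask vec_wmask forall_code_bool
  vec_mem_golayCode_iff testBit_wmask_nat idx_pt pt idx idx_lt pt_idx)
open Cfsg.Agent.S0391 (shape_of_mem shape_normal val_le_one)

/-- A dodecad word. -/
def dw : GolayPt → ZMod 2 := vec 28637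

/-- The complementary dodecad word. -/
def dc : GolayPt → ZMod 2 := vec 16748578

lemma dw_mem : dw ∈ golayCode := (vec_mem_golayCode_iff (by norm_num)).mpr (by decide +kernel)

lemma dc_mem : dc ∈ golayCode := (vec_mem_golayCode_iff (by norm_num)).mpr (by decide +kernel)

/-- The vector `2` on the dodecad. -/
def v0 : GolayPt → ℤ := fun i => 2 * ((dw i).val : ℤ)

/-- The vector `4, 4` at two points of the dodecad. -/
def m0 : GolayPt → ℤ := gv (some 0) (some 2) 4 4

/-- The second vector of the pair. -/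
def w0 : GolayPt → ℤ := m0 - v0

lemma v0_mem : v0 ∈ leechLattice := by
  apply AddSubgroup.subset_closure
  refine mem_leechSet_of_shape v0 0 dw dw_mem (fun i => ?_) ?_
  · unfold v0; rw [zero_add]
  · have : ∑ i, v0 i = 24 := by decide +kernel
    rw [this]; decide

lemma m0_mem : m0 ∈ leechLattice := gv_mem (Or.inl rfl) (Or.inl rfl)

lemma w0_mem : w0 ∈ leechLattice := leechLattice.sub_mem m0_mem v0_mem

lemma sqNorm_v0 : sqNorm v0 = 48 := by decide +kernel

lemma sqNorm_w0 : sqNorm w0 = 48 := by decide +kernel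

lemma dot_v0_w0 : dotInt v0 w0 = -32 := by decide +kernel

lemma sign_v0 : signVec dc v0 = v0 := by
  have h : ∀ i, signVec dc v0 i = v0 i := by decide +kernel
  exact funext h

lemma sign_w0 : signVec dc w0 = w0 := by
  have h : ∀ i, signVec dc w0 i = w0 i := by decide +kernel
  exact funext h

lemma dc_dw : ∀ i, dc i = 1 ↔ dw i = 0 := by decide +kernel

lemma sum_dw : ∑ i, ((dw i).val : ℤ) = 12 := by decide +kernel

lemma dc_none : dc none = 1 := by decide +kernel

/-- Code words inside the dodecad. -/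
lemma code_in_dw : ∀ c ∈ golayCode, ((!(wmask c &&& 16748578 == 0)) || wmask c == 0 ||
    wmask c == 28637) = true :=
  forall_code_bool (fun m => (!(m &&& 16748578 == 0)) || m == 0 || m == 28637)
    (by decide +kernel)

lemma code_in_dw' (c : GolayPt → ZMod 2) (hc : c ∈ golayCode) (h : ∀ i, dc i = 1 → c i = 0) :
    c = 0 ∨ c = dw := by
  have h0 : wmask c &&& 16748578 = 0 := by
    apply Nat.eq_of_testBit_eq
    intro i
    rw [Nat.testBit_land, testBit_wmask_nat, Nat.zero_testBit]
    by_cases hi : i < 24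
    · by_cases hb : (16748578 : ℕ).testBit i = true
      · have : dc (pt i) = 1 := by
          unfold dc; rw [vec_apply, idx_pt hi, hb]; rfl
        have := h _ this
        simp [this]
      · simp [hb]
    · simp [hi]
  have := code_in_dw c hc
  rw [h0] at this
  simp only [beq_self_eq_true, Bool.not_true, Bool.false_or, Bool.or_eq_true, beq_iff_eq] at this
  rcases this with h1 | h1
  · left; rw [← vec_wmask c, h1, vec_zero]
  · right; rw [← vec_wmask c, h1]; rfl

/-- No minimal vector supported on the dodecad has coordinate sum `12`. -/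
lemma no_fixed (x : GolayPt → ℤ) (hx : x ∈ leechLattice) (hn : sqNorm x = 32)
    (hd : dotInt v0 x = 24) (hf : signVec dc x = x) : False := by
  have hz : ∀ i, dc i = 1 → x i = 0 := by
    intro i hi
    have := congrFun hf i
    rw [signVec_apply, sgnOf_one hi] at this
    omega
  have hz' : ∀ i, dw i = 0 → x i = 0 := fun i hi => hz i ((dc_dw i).mpr hi)
  obtain ⟨c, hc, h | h⟩ := shape_normal x (shape_of_mem x hx)
  · have hc0 : ∀ i, dc i = 1 → c i = 0 := by
      intro i hi
      have h1 := h i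
      rw [hz i hi] at h1
      rcases val_le_one (c i) with h2 | h2
      · exact (ZMod.val_eq_zero (c i)).mp (by exact_mod_cast h2)
      · rw [h2] at h1; unfold Int.ModEq at h1; omega
    rcases code_in_dw' c hc hc0 with rfl | rfl
    · -- all entries divisible by 4
      have h4 : ∀ i, 4 * x i ≤ x i ^ 2 := by
        intro i
        have h1 := h i
        simp only [Pi.zero_apply, ZMod.val_zero, Nat.cast_zero, mul_zero] at h1
        obtain ⟨k, hk⟩ : (4 : ℤ) ∣ x i := Int.dvd_of_emod_eq_zero (by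
          unfold Int.ModEq at h1; omega)
        rw [hk]
        rcases le_or_gt k 0 with hk0 | hk0 <;> nlinarith
      have hs : ∑ i, 4 * x i ≤ ∑ i, x i ^ 2 := Finset.sum_le_sum fun i _ => h4 i
      have hd' : dotInt v0 x = 2 * ∑ i, x i := by
        unfold dotInt v0
        rw [Finset.mul_sum]
        refine Finset.sum_congr rfl fun i _ => ?_
        rcases val_le_one (dw i) with h2 | h2
        · have : dw i = 0 := (ZMod.val_eq_zero (dw i)).mp (by exact_mod_cast h2)
          rw [hz' i this]; ring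
        · rw [h2]; ring
      rw [← Finset.mul_sum] at hs
      unfold sqNorm at hn
      rw [hd'] at hd
      omega
    · -- all entries on the dodecad are 2 mod 4
      have h4 : ∀ i, 4 * ((dw i).val : ℤ) ≤ x i ^ 2 := by
        intro i
        have h1 := h i
        rcases val_le_one (dw i) with h2 | h2
        · rw [h2]; nlinarith [sq_nonneg (x i)]
        · rw [h2] at h1 ⊢
          unfold Int.ModEq at h1
          have h3 : x i ≤ -2 ∨ 2 ≤ x i := by omega
          rcases h3 with h3 | h3 <;> nlinarith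
      have hs : ∑ i, 4 * ((dw i).val : ℤ) ≤ ∑ i, x i ^ 2 := Finset.sum_le_sum fun i _ => h4 i
      rw [← Finset.mul_sum, sum_dw] at hs
      unfold sqNorm at hn
      omega
  · have h1 := h none
    rw [hz none dc_none] at h1
    rcases val_le_one (c none) with h2 | h2 <;> rw [h2] at h1 <;> unfold Int.ModEq at h1 <;> omega

/-- The sign change on the complementary dodecad. -/
def g0 : Co0 := ⟨signPerm dc dc_mem, signPerm_mem dc dc_mem⟩

lemma g0_smul (x : leechLattice) : ((g0 • x : leechLattice) : GolayPt → ℤ) = signVec dc x.1 := rfl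

lemma g0_sq : g0 ^ 2 = 1 := by
  apply Subtype.ext
  apply Equiv.ext
  intro x
  apply Subtype.ext
  show signVec dc (signVec dc x.1) = x.1
  exact signVec_signVec dc x.1

lemma g0_ne : g0 ≠ 1 := by
  intro h
  have h1 : g0 • (⟨u5, u5_memL⟩ : leechLattice) = ⟨u5, u5_memL⟩ := by rw [h, one_smul]
  have h2 := congrFun (congrArg Subtype.val h1) none
  rw [g0_smul] at h2
  revert h2
  decide +kernel

lemma g0_order : orderOf g0 = 2 := orderOf_eq_prime g0_sq g0_ne

lemma orderOf_conj_aux {G : Type*} [Group G] (k g : G) : orderOf (k⁻¹ * g * k) = orderOf g := by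
  have := orderOf_injective (MulAut.conj k⁻¹).toMonoidHom (MulAut.conj k⁻¹).injective g
  simpa using this

lemma smul_dot (k : Co0) (x y : leechLattice) :
    dotInt ((k • x : leechLattice) : GolayPt → ℤ) ((k • y : leechLattice) : GolayPt → ℤ)
      = dotInt x.1 y.1 := co0_dot k.1 k.2 x y

lemma smul_norm (k : Co0) (x : leechLattice) :
    sqNorm ((k • x : leechLattice) : GolayPt → ℤ) = sqNorm x.1 := k.2.2 x

/-- Some involution of the Higman–Sims group acts without fixed points on its 100 points. -/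
theorem result (v w : ↥Cfsg.leechLattice) (hv : Cfsg.sqNorm (v : Cfsg.GolayPt → ℤ) = 48) (hw : Cfsg.sqNorm (w : Cfsg.GolayPt → ℤ) = 48) (hvw : Cfsg.dotInt (v : Cfsg.GolayPt → ℤ) (w : Cfsg.GolayPt → ℤ) = -32) : ∃ g : ↥Cfsg.Co0, g • v = v ∧ g • w = w ∧ orderOf g = 2 ∧ ∀ x ∈ {x : ↥Cfsg.leechLattice | Cfsg.sqNorm (x : Cfsg.GolayPt → ℤ) = 32 ∧ Cfsg.dotInt (v : Cfsg.GolayPt → ℤ) (x : Cfsg.GolayPt → ℤ) = 24 ∧ Cfsg.dotInt (w : Cfsg.GolayPt → ℤ) (x : Cfsg.GolayPt → ℤ) = -24}, g • x ≠ x := by

  have hc : Conj2 v.1 w.1 v0 w0 :=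
    (conj2_hs v.1 w.1 v.2 w.2 hv hw hvw).trans
      (conj2_hs v0 w0 v0_mem w0_mem sqNorm_v0 sqNorm_w0 dot_v0_w0).symm
  obtain ⟨k, hk1, hk2⟩ := (conj2_iff v w ⟨v0, v0_mem⟩ ⟨w0, w0_mem⟩).mp hc
  have f1 : g0 • (⟨v0, v0_mem⟩ : leechLattice) = ⟨v0, v0_mem⟩ := Subtype.ext sign_v0
  have f2 : g0 • (⟨w0, w0_mem⟩ : leechLattice) = ⟨w0, w0_mem⟩ := Subtype.ext sign_w0
  refine ⟨k⁻¹ * g0 * k, ?_, ?_, ?_, ?_⟩
  · rw [mul_smul, mul_smul, hk1, f1, ← hk1, inv_smul_smul]
  · rw [mul_smul, mul_smul, hk2, f2, ← hk2, inv_smul_smul]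
  · rw [orderOf_conj_aux, g0_order]
  · rintro x ⟨hx1, hx2, hx3⟩ hfix
    rw [mul_smul, mul_smul, inv_smul_eq_iff] at hfix
    have e1 : dotInt v0 ((k • x : leechLattice) : GolayPt → ℤ) = 24 := by
      have := smul_dot k v x
      rw [hk1] at this
      rw [← hx2, ← this]
    have e0 : sqNorm ((k • x : leechLattice) : GolayPt → ℤ) = 32 := by
      rw [smul_norm, hx1]
    exact no_fixed _ (k • x).2 e0 e1 (congrArg Subtype.val hfix)

end Cfsg.Agent.S1642
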