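import Cfsg.Statements.S1681
import Cfsg.Agent.Lib.Helper25.TCSuz22880I

set_option autoImplicit false
open Cfsg

namespace Cfsg.Agent.S1681

open Cfsg.Spor Cfsg.Agent.Lib.Helper25.TC Cfsg.Agent.Lib.Helper25.TC.Suz22880

set_option maxRecDepth 1000000
set_option linter.unusedSimpArgs false

/-- coset of a representative -/
noncomputable def qq (r : Nat) : Cfsg.Spor.Suz ⧸ subH Suz.edges Suz.extra 7 ofIdx sw :=
  ((rep (cgen Suz.edges Suz.extra 7 ofIdx) C (can r) : Cfsg.Spor.Suz) : Cfsg.Spor.Suz ⧸ subH Suz.edges Suz.extra 7 ofIdx sw)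

theorem gen_eq (x : Nat) (hx : x < 7) :
    cgen Suz.edges Suz.extra 7 ofIdx x = PresentedGroup.mk _ (FreeGroup.of (ofIdx x)) := by
  unfold cgen; rw [if_pos hx]; rfl

theorem H_eq : (((Subgroup.closure ({Cfsg.Spor.Suz.a, Cfsg.Spor.Suz.b, Cfsg.Spor.Suz.c, Cfsg.Spor.Suz.d, Cfsg.Spor.Suz.f, Cfsg.Spor.Suz.g} : Set (FreeGroup Cfsg.Spor.Suz.Gen))).map (PresentedGroup.mk (Cfsg.Spor.coxRelators Cfsg.Spor.Suz.edges ∪ {r | r ∈ Cfsg.Spor.Suz.extra})))) = subH Suz.edges Suz.extra 7 ofIdx sw := by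
  rw [MonoidHom.map_closure]
  unfold subH
  congr 1
  ext g
  simp only [Set.mem_image, Set.mem_insert_iff, Set.mem_singleton_iff, Set.mem_setOf_eq, sw, List.mem_cons,
    List.not_mem_nil, or_false, exists_eq_or_imp, exists_eq_left]
  simp only [evr, gen_eq _ (by decide : (0:ℕ) < 7), gen_eq _ (by decide : (1:ℕ) < 7), gen_eq _ (by decide : (2:ℕ) < 7), gen_eq _ (by decide : (3:ℕ) < 7), gen_eq _ (by decide : (4:ℕ) < 7), gen_eq _ (by decide : (5:ℕ) < 7), gen_eq _ (by decide : (6:ℕ) < 7), ofIdx, one_mul, map_pow, map_mul, pow_succ, pow_zero, mul_assoc, eq_comm]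

/-- In the presented sporadic Suzuki group (generators a, …, g), the subgroup generated by the images of a, b, c, d, f, g has index 22880. -/
theorem result : (((Subgroup.closure ({Cfsg.Spor.Suz.a, Cfsg.Spor.Suz.b, Cfsg.Spor.Suz.c, Cfsg.Spor.Suz.d, Cfsg.Spor.Suz.f, Cfsg.Spor.Suz.g} : Set (FreeGroup Cfsg.Spor.Suz.Gen))).map (PresentedGroup.mk (Cfsg.Spor.coxRelators Cfsg.Spor.Suz.edges ∪ {r | r ∈ Cfsg.Spor.Suz.extra})))).index = 22880 := by
  rw [H_eq]
  exact checks.index_eq setup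

end Cfsg.Agent.S1681
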