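-- Statement S1686 (in the presented Fi₂₂ the subgroup generated by b, …, i is isomorphic to PΩ(7, 3)), proved via the
-- simple presented group O₇(3) (verified coset tables), explicit isometries and the order of PΩ(7, 3) (S0292).
import Cfsg.Statements.S1686
import Cfsg.Agent.Lib.Helper25.TCO7Iso

set_option autoImplicit false
open Cfsg

namespace Cfsg.Agent.S1686

open Cfsg.Spor Cfsg.Agent.Lib.Helper25.TC Cfsg.Agent.Lib.Helper25.TC.Fi22_14080

set_option maxRecDepth 1000000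
set_option linter.unusedSimpArgs false

theorem gen_eq (x : Nat) (hx : x < 9) :
    cgen Fi22.edges Fi22.extra 9 ofIdx x = PresentedGroup.mk _ (FreeGroup.of (ofIdx x)) := by
  unfold cgen; rw [if_pos hx]; rfl

theorem H_eq : (((Subgroup.closure ({Cfsg.Spor.Fi22.b, Cfsg.Spor.Fi22.c, Cfsg.Spor.Fi22.d, Cfsg.Spor.Fi22.e, Cfsg.Spor.Fi22.f, Cfsg.Spor.Fi22.g, Cfsg.Spor.Fi22.h, Cfsg.Spor.Fi22.i} : Set (FreeGroup Cfsg.Spor.Fi22.Gen))).map (PresentedGroup.mk (Cfsg.Spor.coxRelators Cfsg.Spor.Fi22.edges ∪ {r | r ∈ Cfsg.Spor.Fi22.extra})))) = subH Fi22.edges Fi22.extra 9 ofIdx sw := by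
  rw [MonoidHom.map_closure]
  unfold subH
  congr 1
  ext g
  simp only [Set.mem_image, Set.mem_insert_iff, Set.mem_singleton_iff, Set.mem_setOf_eq, sw, List.mem_cons,
    List.not_mem_nil, or_false, exists_eq_or_imp, exists_eq_left]
  simp only [evr, gen_eq _ (by decide : (0:ℕ) < 9), gen_eq _ (by decide : (1:ℕ) < 9), gen_eq _ (by decide : (2:ℕ) < 9), gen_eq _ (by decide : (3:ℕ) < 9), gen_eq _ (by decide : (4:ℕ) < 9), gen_eq _ (by decide : (5:ℕ) < 9), gen_eq _ (by decide : (6:ℕ) < 9), gen_eq _ (by decide : (7:ℕ) < 9), gen_eq _ (by decide : (8:ℕ) < 9), ofIdx, one_mul, map_pow, map_mul, pow_succ, pow_zero, mul_assoc, eq_comm]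

/-- In the presented Fischer group Fi₂₂, the subgroup generated by the images of b, …, i is isomorphic to PΩ(7, 3), the commutator subgroup of the isometry group of the quadratic form x₀² + x₁y₁ + x₂y₂ + x₃y₃ over the integers mod 3, modulo its centre. -/
theorem result : Nonempty ((((Subgroup.closure ({Cfsg.Spor.Fi22.b, Cfsg.Spor.Fi22.c, Cfsg.Spor.Fi22.d, Cfsg.Spor.Fi22.e, Cfsg.Spor.Fi22.f, Cfsg.Spor.Fi22.g, Cfsg.Spor.Fi22.h, Cfsg.Spor.Fi22.i} : Set (FreeGroup Cfsg.Spor.Fi22.Gen))).map (PresentedGroup.mk (Cfsg.Spor.coxRelators Cfsg.Spor.Fi22.edges ∪ {r | r ∈ Cfsg.Spor.Fi22.extra})))) ≃* Cfsg.POmega (ZMod 3) (Cfsg.quadFormOdd 3 (ZMod 3))) := by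
  obtain ⟨e⟩ := Cfsg.Agent.Lib.Helper25.TC.O7Iso.equiv_main
  exact ⟨(MulEquiv.subgroupCongr H_eq).trans e⟩

end Cfsg.Agent.S1686
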