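import Cfsg.Statements.S1691

set_option autoImplicit false
open Cfsg

namespace Cfsg.Agent.S1691

open Cfsg.Spor

/-- the parity homomorphism on the free group -/
noncomputable def signFree : FreeGroup Fi24.Gen →* Multiplicative (ZMod 2) :=
  FreeGroup.lift (fun _ => Multiplicative.ofAdd (1 : ZMod 2))

lemma sq_one (u : Multiplicative (ZMod 2)) : u * u = 1 := by
  revert u; decide

lemma pow_two_one (u : Multiplicative (ZMod 2)) : u ^ 2 = 1 := by
  rw [pow_two]; exact sq_one u

lemma signFree_of (x : Fi24.Gen) : signFree (FreeGroup.of x) = Multiplicative.ofAdd (1 : ZMod 2) := by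
  simp [signFree]

lemma signFree_rel : ∀ r ∈ (coxRelators Fi24.edges ∪ {r | r ∈ Fi24.extra} : Set (FreeGroup Fi24.Gen)),
    FreeGroup.lift (fun _ : Fi24.Gen => Multiplicative.ofAdd (1 : ZMod 2)) r = 1 := by
  intro r hr
  change signFree r = 1
  rcases hr with ⟨x, _, y, _, rfl⟩ | hr
  · rw [map_pow, map_mul, signFree_of, signFree_of, sq_one, one_pow]
  · simp only [Fi24.extra, Set.mem_ofPred_eq, List.mem_cons, List.not_mem_nil, or_false] at hr
    rcases hr with rfl | rfl
    · simp only [map_mul, map_inv, map_pow, signFree_of]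
      decide
    · simp only [map_mul, map_pow, signFree_of]
      decide

/-- the parity homomorphism on Fi24 -/
noncomputable def sign : Fi24 →* Multiplicative (ZMod 2) :=
  PresentedGroup.toGroup signFree_rel

lemma sign_of (x : Fi24.Gen) : sign (PresentedGroup.of x) = Multiplicative.ofAdd (1 : ZMod 2) := by
  simp [sign]

/-- generator images in the abelianization -/
noncomputable def ab (x : Fi24.Gen) : Abelianization Fi24 :=
  Abelianization.of (PresentedGroup.of x : Fi24)

lemma rel_eq_one (r : FreeGroup Fi24.Gen)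
    (hr : r ∈ (coxRelators Fi24.edges ∪ {r | r ∈ Fi24.extra} : Set (FreeGroup Fi24.Gen))) :
    (PresentedGroup.mk _ r : Fi24) = 1 :=
  (PresentedGroup.one_of_mem hr)

lemma node_mem (x : Fi24.Gen) : x ∈ coxNodes Fi24.edges := by
  cases x <;> decide

lemma cox_rel (x y : Fi24.Gen) :
    ((PresentedGroup.of x : Fi24) * PresentedGroup.of y) ^ coxLabel Fi24.edges x y = 1 := by
  have h := rel_eq_one ((FreeGroup.of x * FreeGroup.of y) ^ coxLabel Fi24.edges x y)
    (Or.inl ⟨x, node_mem x, y, node_mem y, rfl⟩)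
  simpa [PresentedGroup.of] using h

lemma ab_sq (x : Fi24.Gen) : ab x * ab x = 1 := by
  have h := cox_rel x x
  have h1 : coxLabel Fi24.edges x x = 1 := by simp [coxLabel]
  rw [h1, pow_one] at h
  unfold ab
  rw [← map_mul, h, map_one]

lemma ab_edge (x y : Fi24.Gen) (h3 : coxLabel Fi24.edges x y = 3) : ab x = ab y := by
  have h := cox_rel x y
  rw [h3] at h
  have h' : (ab x * ab y) ^ 3 = 1 := by
    unfold ab
    rw [← map_mul, ← map_pow, h, map_one]
  have hx := ab_sq x
  have hy := ab_sq y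
  have e1 : (ab x * ab y) ^ 3 = (ab x * ab x) * (ab y * ab y) * (ab x * ab y) := by
    simp only [pow_succ, pow_zero, one_mul]
    simp only [mul_comm, mul_left_comm, mul_assoc]
  rw [e1, hx, hy, one_mul, one_mul] at h'
  -- ab x * ab y = 1, ab y * ab y = 1
  calc ab x = ab x * (ab y * ab y) := by rw [hy, mul_one]
    _ = (ab x * ab y) * ab y := by rw [mul_assoc]
    _ = ab y := by rw [h', one_mul]

lemma ab_all (x : Fi24.Gen) : ab x = ab Fi24.Gen.d := by
  have hc : ab Fi24.Gen.c = ab Fi24.Gen.d := ab_edge _ _ (by decide)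
  have hb : ab Fi24.Gen.b = ab Fi24.Gen.c := ab_edge _ _ (by decide)
  have ha : ab Fi24.Gen.a = ab Fi24.Gen.b := ab_edge _ _ (by decide)
  have hk : ab Fi24.Gen.k = ab Fi24.Gen.a := ab_edge _ _ (by decide)
  have hl : ab Fi24.Gen.l = ab Fi24.Gen.k := ab_edge _ _ (by decide)
  have he : ab Fi24.Gen.e = ab Fi24.Gen.d := (ab_edge _ _ (by decide)).symm
  have hf : ab Fi24.Gen.f = ab Fi24.Gen.e := (ab_edge _ _ (by decide)).symm
  have hg : ab Fi24.Gen.g = ab Fi24.Gen.f := (ab_edge _ _ (by decide)).symm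
  have hj : ab Fi24.Gen.j = ab Fi24.Gen.g := (ab_edge _ _ (by decide)).symm
  have hh : ab Fi24.Gen.h = ab Fi24.Gen.d := (ab_edge _ _ (by decide)).symm
  have hi : ab Fi24.Gen.i = ab Fi24.Gen.h := (ab_edge _ _ (by decide)).symm
  cases x
  · rw [hl, hk, ha, hb, hc]
  · rw [hk, ha, hb, hc]
  · rw [ha, hb, hc]
  · rw [hb, hc]
  · rw [hc]
  · rfl
  · rw [he]
  · rw [hf, he]
  · rw [hg, hf, he]
  · rw [hj, hg, hf, he]
  · rw [hh]
  · rw [hi, hh]

lemma zpowers_top : Subgroup.zpowers (ab Fi24.Gen.d) = ⊤ := by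
  rw [eq_top_iff]
  -- the abelianization is generated by the images of the generators
  have hgen : Subgroup.closure (Set.range (PresentedGroup.of : Fi24.Gen → Fi24)) = ⊤ :=
    PresentedGroup.closure_range_of _
  have hsurj : Function.Surjective (Abelianization.of : Fi24 →* Abelianization Fi24) :=
    QuotientGroup.mk_surjective
  have hmap : (⊤ : Subgroup (Abelianization Fi24)) =
      Subgroup.map (Abelianization.of : Fi24 →* Abelianization Fi24) ⊤ := by
    rw [← MonoidHom.range_eq_map, MonoidHom.range_eq_top.mpr hsurj]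
  rw [hmap, ← hgen, MonoidHom.map_closure, Subgroup.closure_le]
  rintro _ ⟨_, ⟨x, rfl⟩, rfl⟩
  have := ab_all x
  unfold ab at this
  rw [this]
  exact Subgroup.mem_zpowers _

lemma orderOf_d : orderOf (ab Fi24.Gen.d) = 2 := by
  have h2 : ab Fi24.Gen.d ^ 2 = 1 := by rw [pow_two]; exact ab_sq _
  have hne : ab Fi24.Gen.d ≠ 1 := by
    intro h
    have : (Abelianization.lift sign) (ab Fi24.Gen.d) = 1 := by rw [h, map_one]
    unfold ab at this
    rw [Abelianization.lift_apply_of, sign_of] at this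
    revert this
    decide
  exact orderOf_eq_prime h2 hne

theorem result : (commutator Cfsg.Spor.Fi24).index = 2 := by
  have h1 : (commutator Cfsg.Spor.Fi24).index = Nat.card (Abelianization Cfsg.Spor.Fi24) := rfl
  rw [h1, ← orderOf_d, ← Nat.card_zpowers, zpowers_top]
  exact (Nat.card_congr Subgroup.topEquiv.toEquiv).symm

end Cfsg.Agent.S1691
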