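import Cfsg.Statements.S1717
import Cfsg.Agent.Lib.Helper76.SylowCentralizer
import Cfsg.Agent.Lib.Helper76.SL5Transvection

set_option autoImplicit false
open Cfsg

namespace Cfsg.Agent.S1717

open Cfsg.Agent.Lib.Helper76

/-- Let G be a finite group with an involution z whose centraliser C is isomorphic to the centraliser of a transvection of SL(5, 2). Then a Sylow 2-subgroup of C, viewed in G, is a Sylow 2-subgroup of G (its index in G is odd). -/
theorem result {G : Type*} [Group G] [Finite G] (s : Matrix.SpecialLinearGroup (Fin 5) (ZMod 2)) (hs : (s : Matrix (Fin 5) (Fin 5) (ZMod 2)) = Matrix.transvection 0 1 1) (z : G) (hz : orderOf z = 2) (e : (Subgroup.centralizer ({z} : Set G)) ≃* Subgroup.centralizer ({s} : Set (Matrix.SpecialLinearGroup (Fin 5) (ZMod 2)))) (T : Sylow 2 (Subgroup.centralizer ({z} : Set G))) : ¬ 2 ∣ ((T : Subgroup (Subgroup.centralizer ({z} : Set G))).map (Subgroup.subtype (Subgroup.centralizer ({z} : Set G)))).index := by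
  classical
  have : Fact (Nat.Prime 2) := ⟨Nat.prime_two⟩
  have hCmem : ∀ y : G, y ∈ Subgroup.centralizer ({z} : Set G) ↔ z * y = y * z := by
    intro y
    rw [Subgroup.mem_centralizer_iff]
    constructor
    · intro h; exact h z (Set.mem_singleton z)
    · intro h w hw
      rw [Set.mem_singleton_iff] at hw
      rw [hw]; exact h
  have hzC : z ∈ Subgroup.centralizer ({z} : Set G) := (hCmem z).mpr rfl
  have hz1 : z ≠ 1 := by
    rintro rfl
    rw [orderOf_one] at hz
    exact absurd hz (by norm_num)
  have hz2 : z ^ 2 = 1 := by rw [← hz]; exact pow_orderOf_eq_one z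
  -- `z` is central in `C`
  have hzcen : ∀ y : Subgroup.centralizer ({z} : Set G),
      (⟨z, hzC⟩ : Subgroup.centralizer ({z} : Set G)) * y = y * ⟨z, hzC⟩ := by
    intro y
    apply Subtype.ext
    exact (hCmem y).mp y.2
  -- hence lies in `T`
  have hzT : (⟨z, hzC⟩ : Subgroup.centralizer ({z} : Set G)) ∈ T := by
    have hcen : Subgroup.zpowers (⟨z, hzC⟩ : Subgroup.centralizer ({z} : Set G)) ≤
        Subgroup.center (Subgroup.centralizer ({z} : Set G)) := by
      rw [Subgroup.zpowers_le, Subgroup.mem_center_iff]
      intro y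
      exact (hzcen y).symm
    have : (Subgroup.zpowers (⟨z, hzC⟩ : Subgroup.centralizer ({z} : Set G))).Normal := by
      constructor
      intro n hn g
      have := Subgroup.mem_center_iff.mp (hcen hn) g
      rw [this, mul_inv_cancel_right]
      exact hn
    have hp : IsPGroup 2 (Subgroup.zpowers (⟨z, hzC⟩ : Subgroup.centralizer ({z} : Set G))) := by
      rintro ⟨g, hg⟩
      refine ⟨1, ?_⟩
      obtain ⟨k, rfl⟩ := Subgroup.mem_zpowers_iff.mp hg
      apply Subtype.ext
      apply Subtype.ext
      simp only [pow_one, Subgroup.coe_pow, Subgroup.coe_zpow, Subgroup.coe_one]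
      rw [← zpow_natCast, ← zpow_mul, mul_comm, zpow_mul, zpow_natCast]
      simp [hz2]
    exact hp.le_sylow_of_normal T (Subgroup.mem_zpowers _)
  -- transport `T` to the matrix side
  let T0 : Sylow 2 (Subgroup.centralizer ({s} : Set (Matrix.SpecialLinearGroup (Fin 5) (ZMod 2)))) :=
    T.comapOfInjective e.symm.toMonoidHom e.symm.injective (by
      intro x _
      exact ⟨e x, by simp⟩)
  have memT0 : ∀ y, y ∈ T0 ↔ e.symm y ∈ T := by
    intro y
    exact Iff.rfl
  have central_cases : ∀ x : Subgroup.centralizer ({z} : Set G), x ∈ T →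
      (∀ y ∈ T, x * y = y * x) →
      e x = 1 ∨ ((e x : Subgroup.centralizer ({s} : Set SL5)) : SL5) = s := by
    intro x hxT hxc
    have h1 : e x ∈ T0 := (memT0 _).mpr (by simpa using hxT)
    have h2 : ∀ y ∈ T0, e x * y = y * e x := by
      intro y hy
      have := congrArg e (hxc (e.symm y) ((memT0 y).mp hy))
      simpa using this
    exact center_sylow_centralizer_transvection s hs T0 (e x) h1 h2
  have hez : ((e ⟨z, hzC⟩ : Subgroup.centralizer ({s} : Set SL5)) : SL5) = s := by
    rcases central_cases ⟨z, hzC⟩ hzT (fun y _ => hzcen y) with h | h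
    · exfalso
      apply hz1
      have : (⟨z, hzC⟩ : Subgroup.centralizer ({z} : Set G)) = 1 := by
        apply e.injective
        rw [h, map_one]
      exact congrArg Subtype.val this
    · exact h
  apply sylow_centralizer_index_aux 2 z hz1 _ hCmem T ⟨⟨z, hzC⟩, hzT, rfl⟩
  intro x hxT hxc
  rcases central_cases x hxT hxc with h | h
  · left
    apply e.injective
    rw [h, map_one]
  · right
    have : e x = e ⟨z, hzC⟩ := Subtype.ext (h.trans hez.symm)
    have := e.injective this
    rw [this]

end Cfsg.Agent.S1717
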