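import Cfsg.Statements.S1755
import Cfsg.Agent.Lib.Helper38.Conj
import Cfsg.Agent.Lib.Helper38.PGroup
import Cfsg.Agent.Lib.Helper38.Fitting

set_option autoImplicit false
open Cfsg

namespace Cfsg.Agent.S1755

open Cfsg.Agent.Lib.Helper38

theorem core {G : Type*} [Group G] [Finite G] (z : G) (hz : orderOf z = 2)
    (C : Subgroup G) (hC : C = Subgroup.centralizer ({z} : Set G))
    (Q : Subgroup ↥C) [Q.Normal] (hzC : z ∈ C) (hzQ : (⟨z, hzC⟩ : ↥C) ∈ Q)
    (hQ : Cfsg.IsOfSymplecticType ↥Q)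
    (B : Subgroup ↥Q) (hBc : B.Characteristic) (hBa : IsMulCommutative ↥B) (g : G) :
    ((B.map Q.subtype).map C.subtype).map (MulAut.conj g).toMonoidHom = (B.map Q.subtype).map C.subtype ∨
      ((B.map Q.subtype).map C.subtype).map (MulAut.conj g).toMonoidHom ⊓ (B.map Q.subtype).map C.subtype = ⊥ := by
  have hfact : Fact (Nat.Prime 2) := ⟨Nat.prime_two⟩
  -- membership in B'
  have memB' : ∀ x : G, x ∈ (B.map Q.subtype).map C.subtype ↔ ∃ b : ↥Q, b ∈ B ∧ ((b : ↥C) : G) = x := by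
    intro x
    constructor
    · rintro ⟨c, ⟨b, hb, rfl⟩, rfl⟩
      exact ⟨b, hb, rfl⟩
    · rintro ⟨b, hb, rfl⟩
      exact ⟨(b : ↥C), ⟨b, hb, rfl⟩, rfl⟩
  by_cases hbot : B = ⊥
  · right
    rw [hbot, Subgroup.map_bot, Subgroup.map_bot, Subgroup.map_bot, inf_idem]
  -- z as an element of C and Q
  have hzCcen : (⟨z, hzC⟩ : ↥C) ∈ Subgroup.center ↥C := by
    rw [Subgroup.mem_center_iff]
    intro c
    apply Subtype.ext
    have hc : (c : G) ∈ Subgroup.centralizer ({z} : Set G) := hC ▸ c.2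
    have := Subgroup.mem_centralizer_singleton_iff.mp hc
    exact this
  have hzQord : orderOf (⟨⟨z, hzC⟩, hzQ⟩ : ↥Q) = 2 := by
    rw [Subgroup.orderOf_mk, Subgroup.orderOf_mk]; exact hz
  have hzQcen : (⟨⟨z, hzC⟩, hzQ⟩ : ↥Q) ∈ Subgroup.center ↥Q := by
    rw [Subgroup.mem_center_iff]
    intro q
    apply Subtype.ext
    exact Subgroup.mem_center_iff.mp hzCcen (q : ↥C)
  -- Q is a finite 2-group; B and the centre are cyclic
  have hQ2 : IsPGroup 2 ↥Q := hQ.1
  have hBcyc : IsCyclic ↥B := hQ.2 B hBc hBa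
  have hZcyc : IsCyclic ↥(Subgroup.center ↥Q) := hQ.2 _ inferInstance inferInstance
  have hBn : B.Normal := inferInstance
  -- zQ ∈ B
  have hzB : (⟨⟨z, hzC⟩, hzQ⟩ : ↥Q) ∈ B := by
    obtain ⟨x, hxB, hxZ, hx1⟩ := normal_inf_center_ne_bot 2 hQ2 B hbot
    obtain ⟨n, hn⟩ := exists_pow_orderOf_eq_prime 2 x hx1 ((IsPGroup.iff_orderOf.mp hQ2) x)
    have h1 : x ^ n ∈ Subgroup.center ↥Q := Subgroup.pow_mem _ hxZ n
    have heq : (⟨x ^ n, h1⟩ : ↥(Subgroup.center ↥Q)) = ⟨_, hzQcen⟩ := by
      apply eq_of_orderOf_eq_two_of_isCyclic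
      · rw [Subgroup.orderOf_mk]; exact hn
      · rw [Subgroup.orderOf_mk]; exact hzQord
    have : x ^ n = ⟨⟨z, hzC⟩, hzQ⟩ := congrArg Subtype.val heq
    rw [← this]
    exact Subgroup.pow_mem _ hxB n
  -- uniqueness of the involution in B'
  have uniq : ∀ w : G, w ∈ (B.map Q.subtype).map C.subtype → orderOf w = 2 → w = z := by
    intro w hw hw2
    obtain ⟨b, hb, rfl⟩ := (memB' w).mp hw
    have hb2 : orderOf b = 2 := by
      rw [← hw2, Subgroup.orderOf_coe, Subgroup.orderOf_coe]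
    have heq : (⟨b, hb⟩ : ↥B) = ⟨_, hzB⟩ := by
      apply eq_of_orderOf_eq_two_of_isCyclic
      · rw [Subgroup.orderOf_mk]; exact hb2
      · rw [Subgroup.orderOf_mk]; exact hzQord
    have : b = ⟨⟨z, hzC⟩, hzQ⟩ := congrArg Subtype.val heq
    rw [this]
  -- B' is normalized by C
  have hnorm : C ≤ Subgroup.normalizer (((B.map Q.subtype).map C.subtype : Subgroup G) : Set G) := by
    have hN : (B.map Q.subtype).Normal := ConjAct.normal_of_characteristic_of_normal
    have h1 := Subgroup.le_normalizer_map (H := B.map Q.subtype) C.subtype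
    rw [Subgroup.normalizer_eq_top_iff.mpr hN] at h1
    have h2 : (⊤ : Subgroup ↥C).map C.subtype = C := by
      rw [← MonoidHom.range_eq_map, Subgroup.range_subtype]
    rw [h2] at h1
    exact h1
  by_cases hint : ((B.map Q.subtype).map C.subtype).map (MulAut.conj g).toMonoidHom ⊓ (B.map Q.subtype).map C.subtype = ⊥
  · right; exact hint
  · left
    rw [Subgroup.eq_bot_iff_forall] at hint
    push Not at hint
    obtain ⟨y, hy, hy1⟩ := hint
    rw [Subgroup.mem_inf] at hy
    obtain ⟨hyg, hyB⟩ := hy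
    -- y has 2-power order
    have hypow : ∃ k : ℕ, orderOf y = 2 ^ k := by
      obtain ⟨b, hb, rfl⟩ := (memB' y).mp hyB
      obtain ⟨k, hk⟩ := (IsPGroup.iff_orderOf.mp hQ2) b
      refine ⟨k, ?_⟩
      rw [← hk, Subgroup.orderOf_coe, Subgroup.orderOf_coe]
    obtain ⟨n, hn⟩ := exists_pow_orderOf_eq_prime 2 y hy1 hypow
    have hw1 : y ^ n = z := uniq _ (Subgroup.pow_mem _ hyB n) hn
    have hw2 : g⁻¹ * (y ^ n) * g = z := by
      apply uniq
      · have := Subgroup.pow_mem _ hyg n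
        rwa [mem_map_conj] at this
      · have : g⁻¹ * (y ^ n) * g = (MulAut.conj g⁻¹) (y ^ n) := by simp
        rw [this, MulEquiv.orderOf_eq]
        exact hn
    rw [hw1] at hw2
    have hgC : g ∈ C := by
      rw [hC, Subgroup.mem_centralizer_singleton_iff]
      have := congrArg (fun t => g * t) hw2
      simpa [mul_assoc] using this.symm
    exact (map_conj_eq_self_iff _ g).mpr (hnorm hgC)

theorem result {G : Type*} [Group G] [Finite G] (z : G) (hz : orderOf z = 2) (hQ : Cfsg.IsOfSymplecticType ↥(Cfsg.generalizedFittingSubgroup ↥(Subgroup.centralizer ({z} : Set G))))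
    (B : Subgroup ↥(Cfsg.generalizedFittingSubgroup ↥(Subgroup.centralizer ({z} : Set G)))) (hBc : B.Characteristic) (hBa : IsMulCommutative ↥B) (g : G) :
    ((B.map (Cfsg.generalizedFittingSubgroup ↥(Subgroup.centralizer ({z} : Set G))).subtype).map (Subgroup.centralizer ({z} : Set G)).subtype).map (MulAut.conj g).toMonoidHom =
        (B.map (Cfsg.generalizedFittingSubgroup ↥(Subgroup.centralizer ({z} : Set G))).subtype).map (Subgroup.centralizer ({z} : Set G)).subtype ∨
      ((B.map (Cfsg.generalizedFittingSubgroup ↥(Subgroup.centralizer ({z} : Set G))).subtype).map (Subgroup.centralizer ({z} : Set G)).subtype).map (MulAut.conj g).toMonoidHom ⊓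
        (B.map (Cfsg.generalizedFittingSubgroup ↥(Subgroup.centralizer ({z} : Set G))).subtype).map (Subgroup.centralizer ({z} : Set G)).subtype = ⊥ := by
  have hzC : z ∈ Subgroup.centralizer ({z} : Set G) := Subgroup.mem_centralizer_singleton_iff.mpr rfl
  have hzCcen : (⟨z, hzC⟩ : ↥(Subgroup.centralizer ({z} : Set G))) ∈ Subgroup.center ↥(Subgroup.centralizer ({z} : Set G)) := by
    rw [Subgroup.mem_center_iff]
    intro c
    apply Subtype.ext
    exact Subgroup.mem_centralizer_singleton_iff.mp c.2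
  have hzQ := fittingSubgroup_le_generalizedFittingSubgroup (mem_fittingSubgroup_of_mem_center _ hzCcen)
  exact core z hz _ rfl _ hzC hzQ hQ B hBc hBa g

end Cfsg.Agent.S1755
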