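import Cfsg.Statements.S1780
import Mathlib

set_option autoImplicit false
open Cfsg

namespace Cfsg.Agent.S1780

theorem end_mul_apply {M : Type*} [AddCommMonoid M] (f g : AddMonoid.End M) (x : M) :
    (f * g) x = f (g x) := rfl

theorem result {A : Type*} [CommGroup A] [Finite A]
    (hA : IsPGroup 2 A) (t : MulAut A) (ht : ∃ k : ℕ, orderOf t = 2 ^ k) (hC : ∀ a : A, t (t a) = a → t a = a) :
    ∀ a : A, t a = a := by
  obtain ⟨k, hk⟩ := ht
  have : Fact (Nat.Prime 2) := ⟨Nat.prime_two⟩
  obtain ⟨e, he⟩ := IsPGroup.iff_card.mp hA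
  let T : AddMonoid.End (Additive A) := MonoidHom.toAdditive t.toMonoidHom
  have hTapp : ∀ x : Additive A, T x = Additive.ofMul (t (Additive.toMul x)) := fun x => rfl
  have hTpowapp : ∀ (n : ℕ) (x : Additive A), (T ^ n) x = Additive.ofMul ((t ^ n) (Additive.toMul x)) := by
    intro n
    induction n with
    | zero => intro x; simp
    | succ n ih =>
      intro x
      rw [pow_succ, end_mul_apply, ih, hTapp, pow_succ]
      simp
  have hTpow : T ^ (2 ^ k) = 1 := by
    ext x
    rw [hTpowapp, ← hk, pow_orderOf_eq_one]
    simp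
  obtain ⟨r, hr⟩ := Commute.exists_add_pow_prime_pow_eq Nat.prime_two (Commute.one_right T) k
  have h2e : ((2 : ℕ) : AddMonoid.End (Additive A)) ^ e = 0 := by
    ext x
    rw [← Nat.cast_pow, AddMonoid.End.natCast_apply]
    show Additive.ofMul ((Additive.toMul x) ^ (2 ^ e)) = 0
    rw [← he, pow_card_eq_one']
    rfl
  have hM : (T + 1) ^ (2 ^ k * e) = 0 := by
    rw [pow_mul, hr, hTpow, one_pow]
    have : (1 : AddMonoid.End (Additive A)) + 1 + ((2 : ℕ) : AddMonoid.End (Additive A)) * T * 1 * r
        = ((2 : ℕ) : AddMonoid.End (Additive A)) * (1 + T * r) := by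
      push_cast
      noncomm_ring
    rw [this, (Nat.cast_commute 2 _).mul_pow, h2e, zero_mul]
  have hback : ∀ (j : ℕ) (x : Additive A), T (((T + 1) ^ j) x) = ((T + 1) ^ j) x → T x = x := by
    intro j
    induction j with
    | zero => intro x hx; simpa using hx
    | succ j ih =>
      intro x hx
      rw [pow_succ, end_mul_apply] at hx
      have h1 := ih _ hx
      have h2 : T (T x) + T x = T x + x := by
        have : (T + 1) x = T x + x := rfl
        rw [this, map_add] at h1
        exact h1
      have h3 : T (T x) = x := by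
        have := add_right_cancel (b := T x) (by rw [h2, add_comm] : T (T x) + T x = x + T x)
        exact this
      have h4 := hC (Additive.toMul x) (by
        have := congrArg Additive.toMul h3
        simpa [hTapp] using this)
      rw [hTapp]
      exact congrArg Additive.ofMul h4
  intro a
  have := hback (2 ^ k * e) (Additive.ofMul a) (by rw [hM]; simp)
  rw [hTapp] at this
  exact congrArg Additive.toMul this

end Cfsg.Agent.S1780
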