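import Cfsg.Statements.S1781
import Cfsg.Agent.S1780
import Cfsg.Agent.Lib.Helper38.Conj

set_option autoImplicit false
open Cfsg

namespace Cfsg.Agent.S1781

open Cfsg.Agent.Lib.Helper38

/-- conjugation by a normalizing element as an automorphism of the subgroup -/
def conjAut {G : Type*} [Group G] (B : Subgroup G) (a : G) (ha : a ∈ Subgroup.normalizer (B : Set G)) :
    MulAut ↥B where
  toFun b := ⟨a * b * a⁻¹, (Subgroup.mem_normalizer_iff.mp ha b).mp b.2⟩
  invFun b := ⟨a⁻¹ * b * a, by
    have := (Subgroup.mem_normalizer_iff.mp ha (a⁻¹ * b * a))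
    rw [this]
    have h2 : a * (a⁻¹ * (b : G) * a) * a⁻¹ = b := by group
    rw [h2]; exact b.2⟩
  left_inv b := by
    apply Subtype.ext
    show a⁻¹ * (a * (b : G) * a⁻¹) * a = b
    group
  right_inv b := by
    apply Subtype.ext
    show a * (a⁻¹ * (b : G) * a) * a⁻¹ = b
    group
  map_mul' x y := by
    apply Subtype.ext
    show a * ((x : G) * (y : G)) * a⁻¹ = (a * x * a⁻¹) * (a * y * a⁻¹)
    group

theorem conjAut_pow {G : Type*} [Group G] (B : Subgroup G) (a : G) (ha : a ∈ Subgroup.normalizer (B : Set G))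
    (n : ℕ) (b : ↥B) : (((conjAut B a ha) ^ n) b : G) = a ^ n * b * (a ^ n)⁻¹ := by
  induction n generalizing b with
  | zero => simp
  | succ n ih =>
    rw [pow_succ', MulAut.mul_apply]
    show a * (((conjAut B a ha) ^ n) b : G) * a⁻¹ = _
    rw [ih, pow_succ']
    group

theorem result {G : Type*} [Group G] [Finite G] (A : Subgroup G)
    (hA2 : IsPGroup 2 ↥A) (hAa : IsMulCommutative ↥A)
    (hti : ∀ h : G, A.map (MulAut.conj h).toMonoidHom = A ∨ A.map (MulAut.conj h).toMonoidHom ⊓ A = ⊥)
    (g : G) (hg : A.map (MulAut.conj g).toMonoidHom ≠ A) :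
    Cfsg.IsElementaryAbelian 2 (A ⊓ Subgroup.normalizer ((A.map (MulAut.conj g).toMonoidHom : Subgroup G) : Set G)) ∨
      ⁅A, A.map (MulAut.conj g).toMonoidHom⁆ = ⊥ := by
  set B := A.map (MulAut.conj g).toMonoidHom with hB
  have hBA : B ⊓ A = ⊥ := by
    rcases hti g with h | h
    · exact absurd h hg
    · exact h
  have hAB : A ⊓ B = ⊥ := by rw [inf_comm]; exact hBA
  by_cases hex : ∀ a ∈ A ⊓ Subgroup.normalizer (B : Set G), a ^ 2 = 1
  · left
    refine ⟨?_, hex⟩
    constructor
    constructor
    rintro ⟨x, hx⟩ ⟨y, hy⟩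
    apply Subtype.ext
    have := hAa.is_comm.comm ⟨x, (Subgroup.mem_inf.mp hx).1⟩ ⟨y, (Subgroup.mem_inf.mp hy).1⟩
    have h2 : x * y = y * x := congrArg Subtype.val this
    exact h2
  · right
    push Not at hex
    obtain ⟨a, ha, ha2⟩ := hex
    obtain ⟨haA, haN⟩ := ha
    -- B is a commutative 2-group
    let e : ↥A ≃* ↥B := A.equivMapOfInjective (MulAut.conj g).toMonoidHom (MulAut.conj g).injective
    have hB2 : IsPGroup 2 ↥B := hA2.of_equiv e
    have hBc : ∀ x y : ↥B, x * y = y * x := by
      intro x y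
      apply e.symm.injective
      rw [map_mul, map_mul]
      exact hAa.is_comm.comm _ _
    let _ : CommGroup ↥B := { (inferInstance : Group ↥B) with mul_comm := hBc }
    -- the automorphism
    let σ : MulAut ↥B := conjAut B a haN
    have hσ_apply : ∀ b : ↥B, ((σ b : ↥B) : G) = a * b * a⁻¹ := fun b => rfl
    -- order of σ is a power of 2
    have hord : ∃ k : ℕ, orderOf σ = 2 ^ k := by
      obtain ⟨m, hm⟩ := hA2 ⟨a, haA⟩
      have ham : a ^ (2 ^ m) = 1 := by
        have := congrArg Subtype.val hm
        simpa using this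
      have hσm : σ ^ (2 ^ m) = 1 := by
        ext b
        rw [conjAut_pow, ham]
        simp
      have hdvd := orderOf_dvd_of_pow_eq_one hσm
      obtain ⟨k, _, hk⟩ := (Nat.dvd_prime_pow Nat.prime_two).mp hdvd
      exact ⟨k, hk⟩
    -- normalizing lemma: an element of B commuting with a nonidentity element of A normalizes A
    have key : ∀ b ∈ B, ∀ x ∈ A, x ≠ 1 → b * x * b⁻¹ = x → A.map (MulAut.conj b).toMonoidHom = A := by
      intro b _ x hx hx1 hbx
      rcases hti b with h | h
      · exact h
      · exfalso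
        have hmem : x ∈ A.map (MulAut.conj b).toMonoidHom ⊓ A := by
          rw [Subgroup.mem_inf]
          refine ⟨?_, hx⟩
          rw [← hbx]
          exact conj_mem_map_conj A b x hx
        rw [h, Subgroup.mem_bot] at hmem
        exact hx1 hmem
    have ha1 : a ≠ 1 := by
      rintro rfl
      simp at ha2
    -- fixed points of σ² are fixed by σ
    have hC : ∀ b : ↥B, σ (σ b) = b → σ b = b := by
      intro b hb
      have hb' : a ^ 2 * (b : G) * (a ^ 2)⁻¹ = b := by
        have := congrArg Subtype.val hb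
        rw [hσ_apply, hσ_apply] at this
        calc a ^ 2 * (b : G) * (a ^ 2)⁻¹ = a * (a * (b : G) * a⁻¹) * a⁻¹ := by
              simp only [pow_two, mul_inv_rev, mul_assoc]
          _ = b := this
      have hcomm : (b : G) * a ^ 2 * (b : G)⁻¹ = a ^ 2 := by
        have h1 : a ^ 2 * (b : G) = (b : G) * a ^ 2 := by
          have := congrArg (· * a ^ 2) hb'
          simpa [mul_assoc] using this
        rw [← h1]; group
      have hnA := key b b.2 (a ^ 2) (A.pow_mem haA 2) ha2 hcomm
      have hbN : (b : G) ∈ Subgroup.normalizer (A : Set G) := (map_conj_eq_self_iff A b).mp hnA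
      have h1 : a * (b : G) * a⁻¹ ∈ B := (Subgroup.mem_normalizer_iff.mp haN b).mp b.2
      have h2 : (b : G) * a⁻¹ * (b : G)⁻¹ ∈ A :=
        (Subgroup.mem_normalizer_iff.mp hbN a⁻¹).mp (A.inv_mem haA)
      have h3 : a * (b : G) * a⁻¹ * (b : G)⁻¹ ∈ A ⊓ B := by
        rw [Subgroup.mem_inf]
        refine ⟨?_, B.mul_mem h1 (B.inv_mem b.2)⟩
        have : a * (b : G) * a⁻¹ * (b : G)⁻¹ = a * ((b : G) * a⁻¹ * (b : G)⁻¹) := by group
        rw [this]; exact A.mul_mem haA h2
      rw [hAB, Subgroup.mem_bot] at h3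
      apply Subtype.ext
      rw [hσ_apply]
      have := congrArg (· * (b : G)) h3
      simpa using this
    have hfix := Cfsg.Agent.S1780.result hB2 σ hord hC
    -- so a centralizes B, hence B normalizes A
    have hBN : B ≤ Subgroup.normalizer (A : Set G) := by
      intro b hb
      have h1 : a * b * a⁻¹ = b := by
        have := congrArg Subtype.val (hfix ⟨b, hb⟩)
        rw [hσ_apply] at this
        exact this
      have hcomm : b * a * b⁻¹ = a := by
        have h2 : a * b = b * a := by
          have := congrArg (· * a) h1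
          simpa [mul_assoc] using this
        rw [← h2]; group
      exact (map_conj_eq_self_iff A b).mp (key b hb a haA ha1 hcomm)
    apply commutator_eq_bot_of_ti A B
    · intro a' _
      exact ti_conj A hti g a'
    · rw [card_map_conj]
    · exact hAB
    · exact hBN

end Cfsg.Agent.S1781
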