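import Cfsg.Statements.S1756
import Cfsg.Agent.S1781
import Cfsg.Agent.Lib.Helper38.Extraspecial

set_option autoImplicit false
open Cfsg

namespace Cfsg.Agent.S1756

open Cfsg.Agent.Lib.Helper38

/-- an involutory automorphism centralizing a subgroup of index 2 of a group `P` is central, provided ... -/
theorem central_of_index_two {P : Type*} [Group P] (α : MulAut P) (hα2 : ∀ y, α (α y) = y)
    (M : Subgroup P) (hM : ∀ y, y ∈ M ↔ α y = y) (hindex : M.index = 2) :
    ∀ y, α y * y⁻¹ ∈ Subgroup.center P := by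
  have hMn : M.Normal := Subgroup.normal_of_index_eq_two hindex
  intro x
  by_cases hx : x ∈ M
  · rw [(hM x).mp hx, mul_inv_cancel]; exact Subgroup.one_mem _
  -- x ∉ M
  set c := α x * x⁻¹ with hc
  have hαx : α x ∉ M := by
    intro h
    apply hx
    rw [hM]
    have := (hM (α x)).mp h
    exact α.injective this
  have hxinv : x⁻¹ ∉ M := fun h => hx (by simpa using M.inv_mem h)
  have hcM : c ∈ M := by
    rw [hc, Subgroup.mul_mem_iff_of_index_two hindex]
    exact ⟨fun h => absurd h hαx, fun h => absurd h hxinv⟩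
  have hαc : α c = c := (hM c).mp hcM
  have hαx' : α x = c * x := by rw [hc]; group
  -- c commutes with M
  have hcm : ∀ m ∈ M, c * m = m * c := by
    intro m hm
    have hn : x⁻¹ * m * x ∈ M := by
      have := hMn.conj_mem m hm x⁻¹
      simpa using this
    have h1 : α (x * (x⁻¹ * m * x) * x⁻¹) = x * (x⁻¹ * m * x) * x⁻¹ := by
      have : x * (x⁻¹ * m * x) * x⁻¹ = m := by group
      rw [this]; exact (hM m).mp hm
    rw [map_mul, map_mul, map_inv, (hM _).mp hn, hαx'] at h1
    have h2 : c * x * (x⁻¹ * m * x) * (c * x)⁻¹ = c * m * c⁻¹ := by group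
    have h3 : x * (x⁻¹ * m * x) * x⁻¹ = m := by group
    rw [h2, h3] at h1
    have := congrArg (fun u => u * c) h1
    simpa using this
  -- c² = 1
  have hc2 : c * c = 1 := by
    have h1 := hα2 x
    rw [hαx', map_mul, hαc, hαx'] at h1
    have := congrArg (fun u => u * x⁻¹) h1
    simpa [mul_assoc] using this
  -- c commutes with x
  have hcx : c * x = x * c := by
    have hx2 : x ^ 2 ∈ M := Subgroup.sq_mem_of_index_two hindex x
    have h1 := (hM _).mp hx2
    rw [map_pow, hαx', pow_two, pow_two] at h1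
    -- c x c x = x x
    have h2 : c * x * c = x := by
      have := congrArg (fun u => u * x⁻¹) h1
      simpa [mul_assoc] using this
    calc c * x = c * x * (c * c) := by rw [hc2, mul_one]
      _ = (c * x * c) * c := by group
      _ = x * c := by rw [h2]
  rw [Subgroup.mem_center_iff]
  intro y
  by_cases hy : y ∈ M
  · exact (hcm y hy).symm
  · have hmem : x⁻¹ * y ∈ M := by
      rw [Subgroup.mul_mem_iff_of_index_two hindex]
      exact ⟨fun h => absurd h hxinv, fun h => absurd h hy⟩
    have h1 := hcm _ hmem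
    calc y * c = x * ((x⁻¹ * y) * c) := by group
      _ = x * (c * (x⁻¹ * y)) := by rw [h1]
      _ = (x * c) * (x⁻¹ * y) := by group
      _ = (c * x) * (x⁻¹ * y) := by rw [hcx]
      _ = c * y := by group

theorem result {G : Type*} [Group G] [Finite G] (Q : Subgroup G)
    (hQ : Cfsg.IsExtraspecial 2 ↥Q) (t : G) (ht : orderOf t = 2) (htN : t ∈ Subgroup.normalizer (Q : Set G))
    (hi : (Subgroup.centralizer ({t} : Set G) ⊓ Q).relIndex Q ≤ 2) :
    t ∈ Q ⊔ Subgroup.centralizer (Q : Set G) := by
  obtain ⟨⟨_, _, hcomm⟩, hcard⟩ := hQ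
  set α : MulAut ↥Q := Cfsg.Agent.S1781.conjAut Q t htN with hαdef
  have hα_apply : ∀ y : ↥Q, ((α y : ↥Q) : G) = t * y * t⁻¹ := fun y => rfl
  have ht2 : t * t = 1 := by
    have := pow_orderOf_eq_one t
    rwa [ht, pow_two] at this
  have htinv : t⁻¹ = t := inv_eq_of_mul_eq_one_left ht2
  have hα2 : ∀ y, α (α y) = y := by
    intro y
    apply Subtype.ext
    rw [hα_apply, hα_apply, htinv]
    calc t * (t * ↑y * t) * t = (t * t) * y * (t * t) := by group
      _ = y := by rw [ht2]; group
  set M : Subgroup ↥Q := (Subgroup.centralizer ({t} : Set G) ⊓ Q).subgroupOf Q with hMdef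
  have hM : ∀ y : ↥Q, y ∈ M ↔ α y = y := by
    intro y
    rw [hMdef, Subgroup.mem_subgroupOf, Subgroup.mem_inf, Subgroup.mem_centralizer_singleton_iff]
    constructor
    · rintro ⟨h, _⟩
      apply Subtype.ext
      rw [hα_apply, ← h]; group
    · intro h
      refine ⟨?_, y.2⟩
      have := congrArg Subtype.val h
      rw [hα_apply] at this
      have h2 := congrArg (fun u => u * t) this
      simpa using h2.symm
  have hindex : M.index ≤ 2 := hi
  have hpos : M.index ≠ 0 := Subgroup.index_ne_zero_of_finite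
  -- central automorphism
  have hαcen : ∀ y, α y * y⁻¹ ∈ Subgroup.center ↥Q := by
    rcases Nat.lt_or_ge M.index 2 with h | h
    · have h1 : M.index = 1 := by omega
      rw [Subgroup.index_eq_one] at h1
      intro y
      have : α y = y := (hM y).mp (h1 ▸ Subgroup.mem_top y)
      rw [this, mul_inv_cancel]; exact Subgroup.one_mem _
    · exact central_of_index_two α hα2 M hM (le_antisymm hindex h)
  have hαfix : ∀ c ∈ Subgroup.center ↥Q, α c = c := by
    intro c hc
    by_cases hc1 : c = 1
    · rw [hc1, map_one]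
    · have hαc : α c ∈ Subgroup.center ↥Q := by
        rw [Subgroup.mem_center_iff] at hc ⊢
        intro y
        have := hc (α.symm y)
        have h2 := congrArg α this
        simpa using h2
      have hαc1 : α c ≠ 1 := fun h => hc1 (by simpa using h)
      have := eq_of_ne_one_of_card_two hcard ⟨α c, hαc⟩ ⟨c, hc⟩
        (fun h => hαc1 (congrArg Subtype.val h)) (fun h => hc1 (congrArg Subtype.val h))
      exact congrArg Subtype.val this
  obtain ⟨q, hq⟩ := exists_inner_of_central_aut (le_of_eq hcomm) hcard α hαcen hαfix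
  have hcen : (q : G)⁻¹ * t ∈ Subgroup.centralizer (Q : Set G) := by
    rw [Subgroup.mem_centralizer_iff]
    intro y hy
    have h1 := congrArg Subtype.val (hq ⟨y, hy⟩)
    rw [hα_apply] at h1
    have h2 : t * y * t⁻¹ = (q : G) * y * (q : G)⁻¹ := h1
    calc y * ((q : G)⁻¹ * t) = (q : G)⁻¹ * ((q : G) * y * (q : G)⁻¹) * t := by group
      _ = (q : G)⁻¹ * (t * y * t⁻¹) * t := by rw [h2]
      _ = (q : G)⁻¹ * t * y := by group
  have : t = (q : G) * ((q : G)⁻¹ * t) := by group
  rw [this]
  exact Subgroup.mul_mem_sup q.2 hcen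

end Cfsg.Agent.S1756
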