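import Cfsg.Statements.S1757

set_option autoImplicit false
open Cfsg

namespace Cfsg.Agent.S1757

theorem result {G : Type*} [Group G] [Finite G] (p : ℕ) [Fact p.Prime] (A B : Subgroup G)
    (hA : IsPGroup p ↥A) (hB : IsPGroup p ↥B)
    (hAti : ∀ g : G, A.map (MulAut.conj g).toMonoidHom = A ∨ A.map (MulAut.conj g).toMonoidHom ⊓ A = ⊥)
    (hBti : ∀ g : G, B.map (MulAut.conj g).toMonoidHom = B ∨ B.map (MulAut.conj g).toMonoidHom ⊓ B = ⊥)
    (hle : Nat.card ↥A ≤ Nat.card ↥B) (hAB : A ⊓ B = ⊥) (hN : B ≤ Subgroup.normalizer (A : Set G)) : ⁅A, B⁆ = ⊥ := by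
  rw [Subgroup.commutator_eq_bot_iff_le_centralizer]
  intro a ha
  rw [Subgroup.mem_centralizer_iff]
  -- step 1: freeness
  have free : ∀ b ∈ B, b ≠ 1 → b * a * b⁻¹ = a → ∀ b' ∈ B, b' * a = a * b' := by
    intro b hb hb1 hba b' hb'
    have hab : a * b * a⁻¹ = b := by
      have : b * a = a * b := by
        have := congrArg (· * b) hba
        simpa using this
      rw [← this]; group
    have hmem : b ∈ B.map (MulAut.conj a).toMonoidHom ⊓ B := by
      refine ⟨⟨b, hb, ?_⟩, hb⟩
      simpa [MulAut.conj_apply] using hab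
    have hnorm : B.map (MulAut.conj a).toMonoidHom = B := by
      rcases hBti a with h | h
      · exact h
      · rw [h] at hmem
        exact absurd (Subgroup.mem_bot.mp hmem) hb1
    have h1 : a * b' * a⁻¹ ∈ B := by
      rw [← hnorm]
      exact ⟨b', hb', by simp [MulAut.conj_apply]⟩
    have h2 : b' * a⁻¹ * b'⁻¹ ∈ A := by
      have := (Subgroup.mem_normalizer_iff.mp (hN hb')) a⁻¹
      exact this.mp (A.inv_mem ha)
    have h3 : a * b' * a⁻¹ * b'⁻¹ ∈ A ⊓ B := by
      refine ⟨?_, ?_⟩
      · have : a * b' * a⁻¹ * b'⁻¹ = a * (b' * a⁻¹ * b'⁻¹) := by group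
        rw [this]; exact A.mul_mem ha h2
      · exact B.mul_mem h1 (B.inv_mem hb')
    rw [hAB, Subgroup.mem_bot] at h3
    have : a * b' = b' * a := by
      have := congrArg (· * b' * a) h3
      simpa [mul_assoc] using this
    exact this.symm
  by_contra hcon
  push Not at hcon
  obtain ⟨b0, hb0, hne⟩ := hcon
  have ha1 : a ≠ 1 := by
    rintro rfl
    simp at hne
  -- injective map Option B → A
  have hconjA : ∀ b ∈ B, b * a * b⁻¹ ∈ A := by
    intro b hb
    exact (Subgroup.mem_normalizer_iff.mp (hN hb) a).mp ha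
  let f : Option ↥B → ↥A := fun o =>
    match o with
    | none => 1
    | some b => ⟨(b : G) * a * (b : G)⁻¹, hconjA b b.2⟩
  have hf : Function.Injective f := by
    intro o1 o2 h
    match o1, o2 with
    | none, none => rfl
    | none, some b =>
      exfalso
      have : (1 : G) = (b : G) * a * (b : G)⁻¹ := congrArg Subtype.val h
      apply ha1
      have h' := congrArg (fun x => (b : G)⁻¹ * x * (b : G)) this
      simpa [mul_assoc] using h'.symm
    | some b, none =>
      exfalso
      have : (b : G) * a * (b : G)⁻¹ = 1 := congrArg Subtype.val h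
      apply ha1
      have h' := congrArg (fun x => (b : G)⁻¹ * x * (b : G)) this
      simpa [mul_assoc] using h'
    | some b1, some b2 =>
      have h' : (b1 : G) * a * (b1 : G)⁻¹ = (b2 : G) * a * (b2 : G)⁻¹ := congrArg Subtype.val h
      by_contra hb12
      have hne' : (b2 : G)⁻¹ * (b1 : G) ≠ 1 := by
        intro h1
        apply hb12
        have : (b1 : G) = (b2 : G) := by
          have := congrArg (fun x => (b2 : G) * x) h1
          simpa using this
        exact congrArg some (Subtype.ext this)
      have hfix : ((b2 : G)⁻¹ * (b1 : G)) * a * ((b2 : G)⁻¹ * (b1 : G))⁻¹ = a := by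
        have := congrArg (fun x => (b2 : G)⁻¹ * x * (b2 : G)) h'
        simp only [mul_assoc, mul_inv_rev, inv_inv] at this ⊢
        simpa using this
      exact hne (free _ (B.mul_mem (B.inv_mem b2.2) b1.2) hne' hfix b0 hb0)
  have hcard := Nat.card_le_card_of_injective f hf
  rw [Finite.card_option] at hcard
  omega

end Cfsg.Agent.S1757
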