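import Cfsg.Statements.S1774
import Cfsg.Agent.Lib.Helper38.SympExpFourAmb
import Cfsg.Agent.Lib.Helper38.FourGroup

set_option autoImplicit false
open Cfsg

namespace Cfsg.Agent.S1774

/-- Let G be a finite group and let z be an involution of G such that Q, the generalized Fitting subgroup of the centralizer C of z, is a 2-group of symplectic type (every characteristic abelian subgroup of Q is cyclic); suppose every element of Q has order dividing 4. Let g ∈ G with z' = g z g⁻¹ ≠ z and z' ∈ Q. Then z lies in the conjugate g Q g⁻¹, and the subgroup X generated by Q and g Q g⁻¹ induces every automorphism of the four-group generated by z and z': for any two distinct non-identity elements u, v of that four-group there is x ∈ X with x z x⁻¹ = u and x z' x⁻¹ = v. -/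
theorem result {G : Type*} [Group G] [Finite G] (z : G) (hz : orderOf z = 2) (hQ : Cfsg.IsOfSymplecticType ↥(Cfsg.generalizedFittingSubgroup ↥(Subgroup.centralizer ({z} : Set G))))
    (h4 : ∀ q ∈ (Cfsg.generalizedFittingSubgroup ↥(Subgroup.centralizer ({z} : Set G))).map (Subgroup.centralizer ({z} : Set G)).subtype, q ^ 4 = 1) (g : G) (hne : g * z * g⁻¹ ≠ z) (hin : g * z * g⁻¹ ∈ (Cfsg.generalizedFittingSubgroup ↥(Subgroup.centralizer ({z} : Set G))).map (Subgroup.centralizer ({z} : Set G)).subtype) :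
    z ∈ ((Cfsg.generalizedFittingSubgroup ↥(Subgroup.centralizer ({z} : Set G))).map (Subgroup.centralizer ({z} : Set G)).subtype).map (MulAut.conj g).toMonoidHom ∧
      ∀ u ∈ Subgroup.closure ({z, g * z * g⁻¹} : Set G), ∀ v ∈ Subgroup.closure ({z, g * z * g⁻¹} : Set G),
        u ≠ 1 → v ≠ 1 → u ≠ v →
          ∃ x ∈ (Cfsg.generalizedFittingSubgroup ↥(Subgroup.centralizer ({z} : Set G))).map (Subgroup.centralizer ({z} : Set G)).subtype ⊔ ((Cfsg.generalizedFittingSubgroup ↥(Subgroup.centralizer ({z} : Set G))).map (Subgroup.centralizer ({z} : Set G)).subtype).map (MulAut.conj g).toMonoidHom, x * z * x⁻¹ = u ∧ x * (g * z * g⁻¹) * x⁻¹ = v := by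
  classical
  obtain ⟨hzQ, hz2, hz1, hzc, hcm, hinv, hsym⟩ :=
    Cfsg.Agent.Lib.Helper38.symp_exp_four_ambient z hz hQ h4
  generalize hQdef : (Cfsg.generalizedFittingSubgroup ↥(Subgroup.centralizer ({z} : Set G))).map
    (Subgroup.centralizer ({z} : Set G)).subtype = Q at *
  obtain ⟨t, ht⟩ : ∃ t, t = g * z * g⁻¹ := ⟨_, rfl⟩
  rw [← ht] at hne hin ⊢
  have hs : g⁻¹ * z * g ∈ Q := by
    have := hsym g⁻¹ (by rw [inv_inv, ← ht]; exact hin)
    rwa [inv_inv] at this
  have hpart1 : z ∈ Q.map (MulAut.conj g).toMonoidHom := by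
    refine ⟨g⁻¹ * z * g, hs, ?_⟩
    simp only [MulEquiv.coe_toMonoidHom, MulAut.conj_apply]
    group
  refine ⟨hpart1, ?_⟩
  have ht2 : t * t = 1 := by
    calc t * t = g * (z * z) * g⁻¹ := by rw [ht]; group
      _ = 1 := by rw [hz2]; group
  have ht1 : t ≠ 1 := by
    intro h0
    apply hz1
    calc z = g⁻¹ * t * g := by rw [ht]; group
      _ = 1 := by rw [h0]; group
  have hzt : z * t = t * z := (hzc t hin).symm
  have hnc : ∀ w ∈ Q, w * w = 1 → w ≠ 1 → w ≠ z → ∃ q ∈ Q, q * w * q⁻¹ = z * w := by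
    intro w hw hw2 hw1 hwz
    by_contra hno
    push Not at hno
    have hcen : ∀ q ∈ Q, q * w = w * q := by
      intro q hq
      rcases hcm q hq w hw with h1 | h1
      · calc q * w = (q * w * q⁻¹ * w⁻¹) * w * q := by group
          _ = w * q := by rw [h1, one_mul]
      · exfalso
        apply hno q hq
        calc q * w * q⁻¹ = (q * w * q⁻¹ * w⁻¹) * w := by group
          _ = z * w := by rw [h1]
    rcases hinv w hw hcen hw2 with h1 | h1
    · exact hw1 h1
    · exact hwz h1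
  obtain ⟨q, hqQ, hqt⟩ := hnc t hin ht2 ht1 hne
  have hqz : q * z * q⁻¹ = z := by rw [hzc q hqQ]; group
  obtain ⟨s, hsdef⟩ : ∃ s, s = g⁻¹ * z * g := ⟨_, rfl⟩
  rw [← hsdef] at hs
  have hs2 : s * s = 1 := by
    calc s * s = g⁻¹ * (z * z) * g := by rw [hsdef]; group
      _ = 1 := by rw [hz2]; group
  have hs1 : s ≠ 1 := by
    intro h0
    apply hz1
    calc z = g * s * g⁻¹ := by rw [hsdef]; group
      _ = 1 := by rw [h0]; group
  have hsz : s ≠ z := by
    intro h0
    apply hne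
    have h1 : g⁻¹ * z * g = z := by rw [← hsdef]; exact h0
    calc t = g * (g⁻¹ * z * g) * g⁻¹ := by rw [h1, ht]
      _ = z := by group
  obtain ⟨q₁, hq₁Q, hq₁s⟩ := hnc s hs hs2 hs1 hsz
  obtain ⟨p, hp⟩ : ∃ p, p = g * q₁ * g⁻¹ := ⟨_, rfl⟩
  have hgs : g * s * g⁻¹ = z := by rw [hsdef]; group
  have hpz : p * z * p⁻¹ = z * t := by
    calc p * z * p⁻¹ = g * (q₁ * (g⁻¹ * z * g) * q₁⁻¹) * g⁻¹ := by rw [hp]; group
      _ = g * (z * s) * g⁻¹ := by rw [← hsdef, hq₁s]
      _ = (g * z * g⁻¹) * (g * s * g⁻¹) := by group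
      _ = t * z := by rw [← ht, hgs]
      _ = z * t := hzt.symm
  have hq₁z : q₁ * z * q₁⁻¹ = z := by rw [hzc q₁ hq₁Q]; group
  have hpt : p * t * p⁻¹ = t := by
    calc p * t * p⁻¹ = g * (q₁ * z * q₁⁻¹) * g⁻¹ := by rw [hp, ht]; group
      _ = g * z * g⁻¹ := by rw [hq₁z]
      _ = t := ht.symm
  have hpK : p ∈ Q ⊔ Q.map (MulAut.conj g).toMonoidHom := by
    apply Subgroup.mem_sup_right
    refine ⟨q₁, hq₁Q, ?_⟩
    simp only [MulEquiv.coe_toMonoidHom, MulAut.conj_apply]
    exact hp.symm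
  have hqK : q ∈ Q ⊔ Q.map (MulAut.conj g).toMonoidHom := Subgroup.mem_sup_left hqQ
  have key := Cfsg.Agent.Lib.Helper38.sthree_on_four z t q p hz2 ht2 hqz hqt hpz hpt _ hqK hpK
  have hcl : Subgroup.closure ({z, t} : Set G) ≤
      Cfsg.Agent.Lib.Helper38.fourSub z t hz2 ht2 hzt := by
    rw [Subgroup.closure_le]
    intro x hx
    simp only [Set.mem_insert_iff, Set.mem_singleton_iff] at hx
    rw [SetLike.mem_coe, Cfsg.Agent.Lib.Helper38.mem_fourSub]
    rcases hx with hx | hx
    · right; left; exact hx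
    · right; right; left; exact hx
  intro u hu v hv hu1 hv1 huv
  have hu' := (Cfsg.Agent.Lib.Helper38.mem_fourSub z t hz2 ht2 hzt u).mp (hcl hu)
  have hv' := (Cfsg.Agent.Lib.Helper38.mem_fourSub z t hz2 ht2 hzt v).mp (hcl hv)
  have hu'' : u = z ∨ u = t ∨ u = z * t := by
    rcases hu' with h | h | h | h
    · exact absurd h hu1
    · exact Or.inl h
    · exact Or.inr (Or.inl h)
    · exact Or.inr (Or.inr h)
  have hv'' : v = z ∨ v = t ∨ v = z * t := by
    rcases hv' with h | h | h | h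
    · exact absurd h hv1
    · exact Or.inl h
    · exact Or.inr (Or.inl h)
    · exact Or.inr (Or.inr h)
  exact key u v hu'' hv'' huv

end Cfsg.Agent.S1774
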