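import Cfsg.Statements.S1783
import Cfsg.Agent.Lib.Helper38.TI
import Cfsg.Agent.Lib.Helper54.Coprime
import Cfsg.Agent.Lib.Helper56.CharPFStar

set_option autoImplicit false
open Cfsg

namespace Cfsg.Agent.S1783

open Cfsg.Agent.Lib.Helper38

section helpers

variable {X : Type*} [Group X]

/-- The subgroup generated by the squares of the elements of `N`. -/
def sqSub (N : Subgroup X) : Subgroup X :=
  Subgroup.closure ((fun a : X => a ^ 2) '' (N : Set X))

theorem sq_mem_sqSub {N : Subgroup X} {a : X} (ha : a ∈ N) : a ^ 2 ∈ sqSub N :=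
  Subgroup.subset_closure ⟨a, ha, rfl⟩

theorem sqSub_le (N : Subgroup X) : sqSub N ≤ N := by
  unfold sqSub
  rw [Subgroup.closure_le]
  rintro x ⟨a, ha, rfl⟩
  exact N.pow_mem ha 2

theorem sqSub_map (N : Subgroup X) (f : X →* X) : (sqSub N).map f = sqSub (N.map f) := by
  unfold sqSub
  rw [MonoidHom.map_closure]
  congr 1
  ext y
  constructor
  · rintro ⟨x, ⟨a, ha, rfl⟩, rfl⟩
    exact ⟨f a, ⟨a, ha, rfl⟩, (map_pow f a 2).symm⟩
  · rintro ⟨b, ⟨a, ha, rfl⟩, rfl⟩
    exact ⟨a ^ 2, ⟨a, ha, rfl⟩, map_pow f a 2⟩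

theorem map_conj_of_normal (N : Subgroup X) [hN : N.Normal] (g : X) :
    N.map (MulAut.conj g).toMonoidHom = N := by
  rw [map_conj_eq_self_iff, Subgroup.normalizer_eq_top]
  trivial

theorem sqSub_normal (N : Subgroup X) [hN : N.Normal] : (sqSub N).Normal := by
  constructor
  intro n hn g
  have h1 := conj_mem_map_conj (sqSub N) g n hn
  rw [sqSub_map, map_conj_of_normal] at h1
  exact h1

theorem sqSub_ne_self [Finite X] (N : Subgroup X) (hN : IsPGroup 2 ↥N) (hne : N ≠ ⊥) :
    sqSub N ≠ N := by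
  have : Fact (Nat.Prime 2) := ⟨Nat.prime_two⟩
  intro heq
  have hnt : Nontrivial ↥N := (Subgroup.nontrivial_iff_ne_bot N).mpr hne
  have hle : sqSub N ≤ (frattini ↥N).map N.subtype := by
    unfold sqSub
    rw [Subgroup.closure_le]
    rintro x ⟨a, ha, rfl⟩
    refine ⟨(⟨a, ha⟩ : ↥N) ^ 2,
      Cfsg.Agent.Lib.Helper03.pow_mem_frattini_of_isPGroup hN (⟨a, ha⟩ : ↥N), ?_⟩
    simp
  have htop : frattini ↥N = ⊤ := by
    rw [eq_top_iff]
    intro x _
    have hx : (x : X) ∈ (frattini ↥N).map N.subtype := by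
      apply hle
      rw [heq]
      exact x.2
    obtain ⟨y, hy, hyx⟩ := hx
    have : y = x := Subtype.ext hyx
    rw [← this]; exact hy
  rcases eq_top_or_exists_le_coatom (⊥ : Subgroup ↥N) with h | ⟨M, hM, _⟩
  · exact bot_ne_top h
  · have := frattini_le_coatom hM
    rw [htop, top_le_iff] at this
    exact hM.1 this

/-- The chain of iterated square subgroups. -/
def chain (Q : Subgroup X) : ℕ → Subgroup X
  | 0 => Q
  | n + 1 => sqSub (chain Q n)

theorem chain_zero (Q : Subgroup X) : chain Q 0 = Q := rfl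

theorem chain_succ (Q : Subgroup X) (n : ℕ) : chain Q (n + 1) = sqSub (chain Q n) := rfl

theorem chain_le (Q : Subgroup X) (n : ℕ) : chain Q n ≤ Q := by
  induction n with
  | zero => exact le_rfl
  | succ n ih => exact (sqSub_le _).trans ih

theorem chain_normal (Q : Subgroup X) (hQ : Q.Normal) (n : ℕ) : (chain Q n).Normal := by
  induction n with
  | zero => exact hQ
  | succ n ih =>
    rw [chain_succ]
    exact sqSub_normal _

theorem exists_chain_eq_bot [Finite X] (Q : Subgroup X) (hQ : IsPGroup 2 ↥Q) :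
    ∃ n, chain Q n = ⊥ := by
  by_contra hcon
  push Not at hcon
  have key : ∀ n, Nat.card ↥(chain Q n) + n ≤ Nat.card ↥Q := by
    intro n
    induction n with
    | zero => simp [chain_zero]
    | succ n ih =>
      have hP : IsPGroup 2 ↥(chain Q n) := hQ.to_le (chain_le Q n)
      have hne := sqSub_ne_self (chain Q n) hP (hcon n)
      have hle := sqSub_le (chain Q n)
      have hlt : Nat.card ↥(sqSub (chain Q n)) < Nat.card ↥(chain Q n) := by
        by_contra h
        push Not at h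
        exact hne (Subgroup.eq_of_le_of_card_ge hle h)
      rw [chain_succ]
      omega
  have h1 := key (Nat.card ↥Q)
  have h2 : 0 < Nat.card ↥(chain Q (Nat.card ↥Q)) := Nat.card_pos
  omega

/-- The stabilizer of the chain. -/
def stab (Q : Subgroup X) (hQ : Q.Normal) : Subgroup X where
  carrier := {x | ∀ i, ∀ q ∈ chain Q i, q * x * q⁻¹ * x⁻¹ ∈ chain Q (i + 1)}
  one_mem' := by
    intro i q _
    have : q * 1 * q⁻¹ * 1⁻¹ = 1 := by group
    rw [this]; exact Subgroup.one_mem _
  mul_mem' := by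
    intro x y hx hy i q hq
    have hn := chain_normal Q hQ (i + 1)
    have h1 : q * (x * y) * q⁻¹ * (x * y)⁻¹
        = (q * x * q⁻¹ * x⁻¹) * (x * (q * y * q⁻¹ * y⁻¹) * x⁻¹) := by group
    rw [h1]
    exact Subgroup.mul_mem _ (hx i q hq) (hn.conj_mem _ (hy i q hq) x)
  inv_mem' := by
    intro x hx i q hq
    have hn := chain_normal Q hQ (i + 1)
    have h1 : q * x⁻¹ * q⁻¹ * x⁻¹⁻¹ = x⁻¹ * (q * x * q⁻¹ * x⁻¹)⁻¹ * x⁻¹⁻¹ := by group
    rw [h1]
    exact hn.conj_mem _ (Subgroup.inv_mem _ (hx i q hq)) x⁻¹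

theorem mem_stab {Q : Subgroup X} {hQ : Q.Normal} {x : X} :
    x ∈ stab Q hQ ↔ ∀ i, ∀ q ∈ chain Q i, q * x * q⁻¹ * x⁻¹ ∈ chain Q (i + 1) := Iff.rfl

theorem stab_normal (Q : Subgroup X) (hQ : Q.Normal) : (stab Q hQ).Normal := by
  constructor
  intro x hx g i q hq
  have hn := chain_normal Q hQ (i + 1)
  have hn0 := chain_normal Q hQ i
  have hq' : g⁻¹ * q * g⁻¹⁻¹ ∈ chain Q i := hn0.conj_mem q hq g⁻¹
  have h1 : q * (g * x * g⁻¹) * q⁻¹ * (g * x * g⁻¹)⁻¹
      = g * ((g⁻¹ * q * g⁻¹⁻¹) * x * (g⁻¹ * q * g⁻¹⁻¹)⁻¹ * x⁻¹) * g⁻¹ := by group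
  rw [h1]
  exact hn.conj_mem _ (hx i _ hq') g

theorem stab_isPGroup [Finite X] (Q : Subgroup X) (hQ : Q.Normal) (hQ2 : IsPGroup 2 ↥Q)
    (hC : Subgroup.centralizer (Q : Set X) ≤ Q) : IsPGroup 2 ↥(stab Q hQ) := by
  have : Fact (Nat.Prime 2) := ⟨Nat.prime_two⟩
  apply Cfsg.Agent.Lib.Helper54.isPGroup_of_forall_coprime_eq_one
  intro x hx hcop
  obtain ⟨n, hn⟩ := exists_chain_eq_bot Q hQ2
  have hchain := Cfsg.Agent.Lib.Helper54.commutator_eq_one_of_chain (p := 2) x hcop
    (fun i => chain Q (n - i)) (by simpa using hn) ?_ ?_ n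
  · -- `x` centralizes `Q`
    have hxQ : x ∈ Subgroup.centralizer (Q : Set X) := by
      rw [Subgroup.mem_centralizer_iff]
      intro q hq
      have h1 := hchain q (by simpa [chain_zero] using hq)
      rw [commutatorElement_eq_one_iff_mul_comm] at h1
      exact h1
    have hxQ' : x ∈ Q := hC hxQ
    obtain ⟨k, hk⟩ := hQ2 ⟨x, hxQ'⟩
    have hk' : x ^ 2 ^ k = 1 := by
      have := congrArg Subtype.val hk
      simpa using this
    exact Cfsg.Agent.Lib.Helper54.eq_one_of_coprime_of_pow_eq_one hcop hk'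
  · intro i a ha
    by_cases hi : i + 1 ≤ n
    · have h1 : n - i = (n - (i + 1)) + 1 := by omega
      rw [h1]
      have := hx (n - (i + 1)) a ha
      rwa [commutatorElement_def]
    · have h1 : n - (i + 1) = 0 := by omega
      have h2 : n - i = 0 := by omega
      rw [h1] at ha
      rw [h2, chain_zero] at *
      rw [commutatorElement_def]
      have : a * x * a⁻¹ * x⁻¹ = a * (x * a⁻¹ * x⁻¹) := by group
      rw [this]
      exact Q.mul_mem ha (hQ.conj_mem _ (Q.inv_mem ha) x)
  · intro i a ha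
    have haQ : a ∈ Q := chain_le Q _ ha
    obtain ⟨k, hk⟩ := hQ2 ⟨a, haQ⟩
    refine ⟨k, ?_⟩
    have := congrArg Subtype.val hk
    simpa using this

end helpers

/-- Let X be a finite group whose generalized Fitting subgroup equals its largest normal 2-subgroup Q, and let A be an abelian 2-subgroup of X such that every conjugate of A equals A or meets A trivially. Let B be the subgroup generated by the squares of the elements of A. Then B lies in Q, and if B is not an elementary abelian 2-group then the normal closure of B in X is commutative. -/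
theorem result {X : Type*} [Group X] [Finite X]
    (hX : Cfsg.generalizedFittingSubgroup X = Cfsg.pCore 2 X) (A : Subgroup X) (hA2 : IsPGroup 2 ↥A) (hAa : IsMulCommutative ↥A)
    (hti : ∀ h : X, A.map (MulAut.conj h).toMonoidHom = A ∨ A.map (MulAut.conj h).toMonoidHom ⊓ A = ⊥) :
    Subgroup.closure ((fun a : X => a ^ 2) '' (A : Set X)) ≤ Cfsg.pCore 2 X ∧
      (¬ Cfsg.IsElementaryAbelian 2 (Subgroup.closure ((fun a : X => a ^ 2) '' (A : Set X))) →
        IsMulCommutative ↥(Subgroup.normalClosure ((fun a : X => a ^ 2) '' (A : Set X)))) := by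
  classical
  have : Fact (Nat.Prime 2) := ⟨Nat.prime_two⟩
  set Q := Cfsg.pCore 2 X with hQdef
  have hQn : Q.Normal := Cfsg.Agent.Lib.Helper54.pCore_normal 2 X
  have hQ2 : IsPGroup 2 ↥Q := Cfsg.Agent.Lib.Helper54.pCore_isPGroup 2 X
  have hC : Subgroup.centralizer (Q : Set X) ≤ Q :=
    Cfsg.Agent.Lib.Helper56.genFitting_eq_pCore_iff.mp hX
  -- Part 1
  have part1 : sqSub A ≤ Q := by
    by_cases hex : ∃ a0 ∈ A, a0 ^ 2 ≠ 1
    · obtain ⟨a0, ha0, ha02⟩ := hex
      -- the 2-group `Q ⊔ A`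
      have hP : IsPGroup 2 ↥(A ⊔ Q) := IsPGroup.to_sup_of_normal_right hA2 hQ2
      -- conjugates of `A` under `Q` centralize `A`
      have hcomm : ∀ q ∈ Q, ∀ a ∈ A, ∀ a' ∈ A, (q * a * q⁻¹) * a' = a' * (q * a * q⁻¹) := by
        intro q hq a ha a' ha'
        have hg : A.map (MulAut.conj q).toMonoidHom ≤ A ⊔ Q := by
          intro y hy
          rw [mem_map_conj] at hy
          have h1 : y = q * (q⁻¹ * y * q) * q⁻¹ := by group
          rw [h1]
          have hqP : q ∈ A ⊔ Q := (le_sup_right : Q ≤ A ⊔ Q) hq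
          exact Subgroup.mul_mem _ (Subgroup.mul_mem _ hqP ((le_sup_left : A ≤ A ⊔ Q) hy))
            (Subgroup.inv_mem _ hqP)
        have hh : A.map (MulAut.conj (1 : X)).toMonoidHom ≤ A ⊔ Q := by
          rw [map_conj_one]; exact le_sup_left
        have key := ti_conj_commute A hAa hti a0 ha0 ha02 (A ⊔ Q) hP q 1 hg hh
        rw [map_conj_one] at key
        have := key (conj_mem_map_conj A q a ha)
        rw [Subgroup.mem_centralizer_iff] at this
        exact (this a' ha').symm
      -- squares of elements of `A` stabilize the chain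
      have hstab : ∀ a ∈ A, a ^ 2 ∈ stab Q hQn := by
        intro a ha i q hq
        have hqQ : q ∈ Q := chain_le Q i hq
        have hn := chain_normal Q hQn i
        set c := q * a * q⁻¹ * a⁻¹ with hc
        have hcmem : c ∈ chain Q i := by
          have h1 : c = q * (a * q⁻¹ * a⁻¹) := by rw [hc]; group
          rw [h1]
          exact Subgroup.mul_mem _ hq (hn.conj_mem _ (Subgroup.inv_mem _ hq) a)
        have hca : c * a = a * c := by
          have h1 := hcomm q hqQ a ha a ha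
          have h2 : c * a = q * a * q⁻¹ := by rw [hc]; group
          have h3 : a * c = a * (q * a * q⁻¹) * a⁻¹ := by rw [hc]; group
          rw [h2, h3, ← h1]; group
        have h4 : q * a ^ 2 * q⁻¹ * (a ^ 2)⁻¹ = c ^ 2 := by
          have h5 : q * a ^ 2 * q⁻¹ * (a ^ 2)⁻¹ = (c * a) * (c * a) * a⁻¹ * a⁻¹ := by
            rw [hc, sq]; group
          rw [h5]
          calc (c * a) * (c * a) * a⁻¹ * a⁻¹ = c * (a * c) * a * a⁻¹ * a⁻¹ := by group
            _ = c * (c * a) * a * a⁻¹ * a⁻¹ := by rw [hca]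
            _ = c ^ 2 := by rw [sq]; group
        rw [h4, chain_succ]
        exact sq_mem_sqSub hcmem
      have hle : sqSub A ≤ stab Q hQn := by
        unfold sqSub
        rw [Subgroup.closure_le]
        rintro x ⟨a, ha, rfl⟩
        exact hstab a ha
      have hsn := stab_normal Q hQn
      have hsp := stab_isPGroup Q hQn hQ2 hC
      exact hle.trans (Cfsg.Agent.Lib.Helper54.le_pCore hsn hsp)
    · push Not at hex
      unfold sqSub
      rw [Subgroup.closure_le]
      rintro x ⟨a, ha, rfl⟩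
      show a ^ 2 ∈ Q
      rw [hex a ha]
      exact Subgroup.one_mem _
  refine ⟨part1, ?_⟩
  -- Part 2
  intro hne
  set B := sqSub A with hB
  have hBA : B ≤ A := sqSub_le A
  have hBcomm : ∀ x ∈ B, ∀ y ∈ B, x * y = y * x := by
    intro x hx y hy
    have := hAa.is_comm.comm (⟨x, hBA hx⟩ : ↥A) ⟨y, hBA hy⟩
    exact congrArg Subtype.val this
  -- an element of `B` of order at least 4
  have hex : ∃ b0 ∈ B, b0 ^ 2 ≠ 1 := by
    by_contra hcon
    push Not at hcon
    apply hne
    refine ⟨⟨⟨fun x y => ?_⟩⟩, hcon⟩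
    apply Subtype.ext
    exact hBcomm x x.2 y y.2
  obtain ⟨b0, hb0, hb02⟩ := hex
  -- the family of conjugates of `B`
  have hconjB : ∀ g : X, B.map (MulAut.conj g).toMonoidHom = sqSub (A.map (MulAut.conj g).toMonoidHom) :=
    fun g => sqSub_map A _
  have hBQ : ∀ g : X, B.map (MulAut.conj g).toMonoidHom ≤ Q := by
    intro g y hy
    rw [mem_map_conj] at hy
    have h1 : y = g * (g⁻¹ * y * g) * g⁻¹ := by group
    rw [h1]
    exact hQn.conj_mem _ (part1 hy) g
  have hcommBB : ∀ g h : X, B.map (MulAut.conj g).toMonoidHom ≤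
      Subgroup.centralizer ((B.map (MulAut.conj h).toMonoidHom : Subgroup X) : Set X) := by
    intro g h
    by_cases heq : B.map (MulAut.conj g).toMonoidHom = B.map (MulAut.conj h).toMonoidHom
    · rw [← heq]
      intro x hx
      rw [Subgroup.mem_centralizer_iff]
      intro y hy
      rw [SetLike.mem_coe, mem_map_conj] at hy
      rw [mem_map_conj] at hx
      have hc := hBcomm _ hy _ hx
      have h1 : y * x = g * ((g⁻¹ * y * g) * (g⁻¹ * x * g)) * g⁻¹ := by group
      have h2 : x * y = g * ((g⁻¹ * x * g) * (g⁻¹ * y * g)) * g⁻¹ := by group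
      rw [h1, h2, hc]
    · set Δ : Set (Subgroup X) := {R | ∃ k : X, R = B.map (MulAut.conj k).toMonoidHom} with hΔ
      have hle : ∀ R ∈ Δ, R ≤ Q := by
        rintro R ⟨k, rfl⟩
        exact hBQ k
      have hinv : ∀ s ∈ Q, ∀ R ∈ Δ, R.map (MulAut.conj s).toMonoidHom ∈ Δ := by
        rintro s _ R ⟨k, rfl⟩
        exact ⟨s * k, map_conj_conj B k s⟩
      have hsq : ∀ R ∈ Δ, ∃ r ∈ R, r ^ 2 ≠ 1 := by
        rintro R ⟨k, rfl⟩
        refine ⟨k * b0 * k⁻¹, conj_mem_map_conj B k b0 hb0, ?_⟩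
        intro h1
        apply hb02
        have h2 : (k * b0 * k⁻¹) ^ 2 = k * b0 ^ 2 * k⁻¹ := by rw [sq, sq]; group
        rw [h2] at h1
        have h3 : b0 ^ 2 = k⁻¹ * (k * b0 ^ 2 * k⁻¹) * k := by group
        rw [h3, h1]; group
      have hord : ∀ R ∈ Δ, ∀ T ∈ Δ, Nat.card ↥R = Nat.card ↥T := by
        rintro R ⟨k, rfl⟩ T ⟨l, rfl⟩
        rw [card_map_conj, card_map_conj]
      have hti' : ∀ R ∈ Δ, ∀ T ∈ Δ, R = T ∨ R ⊓ T = ⊥ := by
        rintro R ⟨k, rfl⟩ T ⟨l, rfl⟩
        have := ti_conj A hti k (l * k⁻¹)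
        rw [map_conj_conj] at this
        have hlk : l * k⁻¹ * k = l := by group
        rw [hlk] at this
        rcases this with h1 | h1
        · left
          rw [hconjB, hconjB, h1]
        · right
          rw [eq_bot_iff]
          have hk : B.map (MulAut.conj k).toMonoidHom ≤ A.map (MulAut.conj k).toMonoidHom :=
            Subgroup.map_mono hBA
          have hl : B.map (MulAut.conj l).toMonoidHom ≤ A.map (MulAut.conj l).toMonoidHom :=
            Subgroup.map_mono hBA
          calc B.map (MulAut.conj k).toMonoidHom ⊓ B.map (MulAut.conj l).toMonoidHom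
              ≤ A.map (MulAut.conj l).toMonoidHom ⊓ A.map (MulAut.conj k).toMonoidHom :=
                le_inf (inf_le_right.trans hl) (inf_le_left.trans hk)
            _ = ⊥ := h1
      have key := ti_family_commute Q hQ2 Δ hle hinv hsq hord hti' _ ⟨g, rfl⟩ _ ⟨h, rfl⟩ heq
      exact Subgroup.commutator_eq_bot_iff_le_centralizer.mp key
  -- the normal closure is generated by pairwise commuting elements
  unfold Subgroup.normalClosure
  apply Subgroup.isMulCommutative_closure
  intro x hx y hy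
  rw [Group.mem_conjugatesOfSet_iff] at hx hy
  obtain ⟨s, ⟨a, ha, rfl⟩, hsx⟩ := hx
  obtain ⟨s', ⟨a', ha', rfl⟩, hsy⟩ := hy
  rw [isConj_iff] at hsx hsy
  obtain ⟨g, rfl⟩ := hsx
  obtain ⟨h, rfl⟩ := hsy
  have hxm : g * (fun a : X => a ^ 2) a * g⁻¹ ∈ B.map (MulAut.conj g).toMonoidHom :=
    conj_mem_map_conj B g _ (sq_mem_sqSub ha)
  have hym : h * (fun a : X => a ^ 2) a' * h⁻¹ ∈ B.map (MulAut.conj h).toMonoidHom :=
    conj_mem_map_conj B h _ (sq_mem_sqSub ha')
  have := hcommBB g h hxm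
  rw [Subgroup.mem_centralizer_iff] at this
  exact (this _ hym).symm

end Cfsg.Agent.S1783
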