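import Cfsg.Statements.S1784
import Cfsg.Agent.Lib.Helper38.ExtraspecialInv
import Cfsg.Agent.Lib.Helper38.Fitting
import Cfsg.Agent.Lib.Helper28.FStar
import Cfsg.Agent.Lib.Helper03.PGroupFrattini

set_option autoImplicit false
open Cfsg

namespace Cfsg.Agent.S1784

open Cfsg.Agent.Lib.Helper38 in
theorem mem_zpowers_of_orderOf_two {G : Type*} [Group G] (z : G) (hz : orderOf z = 2) (x : G) :
    x ∈ Subgroup.zpowers z ↔ x = 1 ∨ x = z := by
  constructor
  · intro hx
    rw [Subgroup.mem_zpowers_iff] at hx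
    obtain ⟨k, rfl⟩ := hx
    have hz2 : z ^ (2 : ℤ) = 1 := by
      rw [zpow_ofNat, ← hz]; exact pow_orderOf_eq_one z
    rcases Int.even_or_odd' k with ⟨m, rfl | rfl⟩
    · left
      rw [zpow_mul, hz2, one_zpow]
    · right
      rw [zpow_add, zpow_mul, hz2, one_zpow, one_mul, zpow_one]
  · rintro (rfl | rfl)
    · exact Subgroup.one_mem _
    · exact Subgroup.mem_zpowers _

/-- Let G be a finite group and let z be an involution of G such that Q, the generalized Fitting subgroup of the centralizer C of z, is a 2-group of symplectic type (every characteristic abelian subgroup of Q is cyclic); suppose Q is extraspecial, and view Q inside G. Let α be an involution of C that is not in Q, and let Q₀ be the subgroup of those q ∈ Q whose commutator with α lies in the subgroup generated by z. Then (a) the subgroup generated by the commutators α q α⁻¹ q⁻¹, q ∈ Q, equals the centre of Q₀; and (b) if Q₀ is not contained in the product of the centralizer of α in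 Q with the subgroup generated by z, then some element of Q conjugates α to α z. -/
theorem result {G : Type*} [Group G] [Finite G] (z : G) (hz : orderOf z = 2) (hQ : Cfsg.IsOfSymplecticType ↥(Cfsg.generalizedFittingSubgroup ↥(Subgroup.centralizer ({z} : Set G)))) (hE : Cfsg.IsExtraspecial 2 ↥(Cfsg.generalizedFittingSubgroup ↥(Subgroup.centralizer ({z} : Set G))))
    (α : G) (hα : orderOf α = 2) (hαC : α ∈ Subgroup.centralizer ({z} : Set G)) (hαQ : α ∉ (Cfsg.generalizedFittingSubgroup ↥(Subgroup.centralizer ({z} : Set G))).map (Subgroup.centralizer ({z} : Set G)).subtype)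
    (Q₀ : Subgroup G) (hQ₀ : ∀ q : G, q ∈ Q₀ ↔ (q ∈ (Cfsg.generalizedFittingSubgroup ↥(Subgroup.centralizer ({z} : Set G))).map (Subgroup.centralizer ({z} : Set G)).subtype ∧ α * q * α⁻¹ * q⁻¹ ∈ Subgroup.zpowers z)) :
    Subgroup.closure ((fun q : G => α * q * α⁻¹ * q⁻¹) '' ((Cfsg.generalizedFittingSubgroup ↥(Subgroup.centralizer ({z} : Set G))).map (Subgroup.centralizer ({z} : Set G)).subtype : Set G)) = (Subgroup.center ↥Q₀).map Q₀.subtype ∧
      (¬ Q₀ ≤ ((Cfsg.generalizedFittingSubgroup ↥(Subgroup.centralizer ({z} : Set G))).map (Subgroup.centralizer ({z} : Set G)).subtype ⊓ Subgroup.centralizer ({α} : Set G)) ⊔ Subgroup.zpowers z →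
        ∃ q ∈ (Cfsg.generalizedFittingSubgroup ↥(Subgroup.centralizer ({z} : Set G))).map (Subgroup.centralizer ({z} : Set G)).subtype, q * α * q⁻¹ = α * z) := by
  classical
  have hf2 : Fact (Nat.Prime 2) := ⟨Nat.prime_two⟩
  obtain ⟨⟨hP, hfrat, hcommeq⟩, hcard⟩ := hE
  have hcomm : commutator ↥(Cfsg.generalizedFittingSubgroup ↥(Subgroup.centralizer ({z} : Set G))) ≤
      Subgroup.center ↥(Cfsg.generalizedFittingSubgroup ↥(Subgroup.centralizer ({z} : Set G))) := hcommeq.le
  have hsq : ∀ x : ↥(Cfsg.generalizedFittingSubgroup ↥(Subgroup.centralizer ({z} : Set G))),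
      x ^ 2 ∈ Subgroup.center ↥(Cfsg.generalizedFittingSubgroup ↥(Subgroup.centralizer ({z} : Set G))) := by
    intro x
    rw [← hfrat]
    exact Cfsg.Agent.Lib.Helper03.pow_mem_frattini_of_isPGroup hP x
  -- abbreviations
  set C := Subgroup.centralizer ({z} : Set G) with hC
  set Qc := Cfsg.generalizedFittingSubgroup ↥C with hQc
  set Qg := Qc.map C.subtype with hQg
  have hQcn : Qc.Normal := Cfsg.Agent.Lib.Helper38.generalizedFittingSubgroup_normal
  let ι : ↥Qc →* G := C.subtype.comp Qc.subtype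
  have hιinj : Function.Injective ι := by
    intro a b hab
    exact Subtype.ext (Subtype.ext hab)
  have hιapp : ∀ q : ↥Qc, ι q = ((q : ↥C) : G) := fun q => rfl
  have hιQg : ∀ q : ↥Qc, ι q ∈ Qg := fun q => ⟨(q : ↥C), q.2, rfl⟩
  have hQgι : ∀ x ∈ Qg, ∃ q : ↥Qc, ι q = x := by
    rintro x ⟨y, hy, rfl⟩
    exact ⟨⟨y, hy⟩, rfl⟩
  -- facts on z
  have hz1 : z ≠ 1 := by
    intro h
    rw [h, orderOf_one] at hz
    exact absurd hz (by norm_num)
  have hz2 : z * z = 1 := by
    have := pow_orderOf_eq_one z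
    rw [hz, sq] at this
    exact this
  have hzC : z ∈ C := by
    rw [hC, Subgroup.mem_centralizer_singleton_iff]
  have hzCc : (⟨z, hzC⟩ : ↥C) ∈ Subgroup.center ↥C := by
    rw [Subgroup.mem_center_iff]
    intro g
    have hg : (g : G) ∈ Subgroup.centralizer ({z} : Set G) := g.2
    rw [Subgroup.mem_centralizer_singleton_iff] at hg
    exact Subtype.ext hg
  have hzQc : (⟨z, hzC⟩ : ↥C) ∈ Qc :=
    Cfsg.Agent.Lib.Helper38.fittingSubgroup_le_generalizedFittingSubgroup
      (Cfsg.Agent.Lib.Helper38.mem_fittingSubgroup_of_mem_center _ hzCc)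
  set zP : ↥Qc := ⟨⟨z, hzC⟩, hzQc⟩ with hzP
  have hιzP : ι zP = z := rfl
  have hzPc : zP ∈ Subgroup.center ↥Qc := by
    rw [Subgroup.mem_center_iff]
    intro g
    have := (Subgroup.mem_center_iff.mp hzCc) (g : ↥C)
    exact Subtype.ext this
  have hzP1 : zP ≠ 1 := by
    intro h
    apply hz1
    have := congrArg ι h
    rwa [hιzP, map_one] at this
  have hcenter : ∀ c : ↥Qc, c ∈ Subgroup.center ↥Qc ↔ c = 1 ∨ c = zP := by
    intro c
    constructor
    · intro hc
      by_cases hc1 : c = 1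
      · exact Or.inl hc1
      · right
        have := Cfsg.Agent.Lib.Helper38.eq_of_ne_one_of_card_two hcard
          (⟨c, hc⟩ : ↥(Subgroup.center ↥Qc)) ⟨zP, hzPc⟩
          (fun h => hc1 (congrArg Subtype.val h)) (fun h => hzP1 (congrArg Subtype.val h))
        exact congrArg Subtype.val this
    · rintro (rfl | rfl)
      · exact Subgroup.one_mem _
      · exact hzPc
  have hιz : ∀ c : ↥Qc, ι c ∈ Subgroup.zpowers z ↔ c ∈ Subgroup.center ↥Qc := by
    intro c
    rw [mem_zpowers_of_orderOf_two z hz, hcenter]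
    constructor
    · rintro (h | h)
      · left; apply hιinj; rw [h, map_one]
      · right; apply hιinj; rw [h, hιzP]
    · rintro (h | h)
      · left; rw [h, map_one]
      · right; rw [h, hιzP]
  -- facts on α
  have hα2 : α * α = 1 := by
    have := pow_orderOf_eq_one α
    rw [hα, sq] at this
    exact this
  have hαinv : α⁻¹ = α := inv_eq_of_mul_eq_one_right hα2
  have hαz : α * z = z * α := by
    have := hαC
    rw [hC, Subgroup.mem_centralizer_singleton_iff] at this
    exact this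
  -- the automorphism
  set σ : MulAut ↥Qc := MulAut.conjNormal (⟨α, hαC⟩ : ↥C) with hσ
  have hισ : ∀ q : ↥Qc, ι (σ q) = α * ι q * α⁻¹ := by
    intro q
    rw [hιapp, hσ, MulAut.conjNormal_apply]
    rfl
  have hσ2 : ∀ x, σ (σ x) = x := by
    intro x
    apply hιinj
    rw [hισ, hισ, hαinv]
    calc α * (α * ι x * α) * α = (α * α) * ι x * (α * α) := by simp only [mul_assoc]
      _ = ι x := by rw [hα2, one_mul, mul_one]
  have hσzP : σ zP = zP := by
    apply hιinj
    rw [hισ, hιzP, hαz, mul_inv_cancel_right]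
  have hσc : ∀ c ∈ Subgroup.center ↥Qc, σ c = c := by
    intro c hc
    rcases (hcenter c).mp hc with rfl | rfl
    · exact map_one σ
    · exact hσzP
  have hnt : ∃ q, σ q * q⁻¹ ∉ Subgroup.center ↥Qc := by
    by_contra hcon
    push Not at hcon
    obtain ⟨q0, hq0⟩ := Cfsg.Agent.Lib.Helper38.exists_inner_of_central_aut hcomm hcard σ hcon hσc
    apply hαQ
    have hmem : (q0 : ↥C)⁻¹ * (⟨α, hαC⟩ : ↥C) ∈ Qc := by
      apply Cfsg.Agent.Lib.Helper28.centralizer_genFitting_le
      rw [Subgroup.mem_centralizer_iff]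
      intro y hy
      have h1 := hq0 ⟨y, hy⟩
      have h2 : (⟨α, hαC⟩ : ↥C) * y * (⟨α, hαC⟩ : ↥C)⁻¹ = (q0 : ↥C) * y * (q0 : ↥C)⁻¹ := by
        have := congrArg (fun t : ↥Qc => (t : ↥C)) h1
        simpa [hσ, MulAut.conjNormal_apply] using this
      calc y * ((q0 : ↥C)⁻¹ * (⟨α, hαC⟩ : ↥C))
          = (q0 : ↥C)⁻¹ * ((q0 : ↥C) * y * (q0 : ↥C)⁻¹) * (⟨α, hαC⟩ : ↥C) := by group
        _ = (q0 : ↥C)⁻¹ * ((⟨α, hαC⟩ : ↥C) * y * (⟨α, hαC⟩ : ↥C)⁻¹) * (⟨α, hαC⟩ : ↥C) := by rw [h2]
        _ = (q0 : ↥C)⁻¹ * (⟨α, hαC⟩ : ↥C) * y := by group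
    have hmem2 : (⟨α, hαC⟩ : ↥C) ∈ Qc := by
      have := Qc.mul_mem q0.2 hmem
      rwa [mul_inv_cancel_left] at this
    exact ⟨⟨α, hαC⟩, hmem2, rfl⟩
  -- the subgroup E0
  have hE0 : ∀ q : ↥Qc, q ∈ Q₀.comap ι ↔ σ q * q⁻¹ ∈ Subgroup.center ↥Qc := by
    intro q
    rw [Subgroup.mem_comap, hQ₀, ← hιz, map_mul, hισ, map_inv]
    constructor
    · exact fun h => h.2
    · exact fun h => ⟨hιQg q, h⟩
  have hmain := Cfsg.Agent.Lib.Helper38.closure_aut_comm_eq hP hcomm hcard hsq σ hσ2 hσc hnt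
    (Q₀.comap ι) hE0
  have hQ₀Qg : ∀ x ∈ Q₀, x ∈ Qg := fun x hx => ((hQ₀ x).mp hx).1
  refine ⟨?_, ?_⟩
  · -- part (a)
    have hset : ((fun q : G => α * q * α⁻¹ * q⁻¹) '' (Qg : Set G)) =
        ι '' (Set.range fun q : ↥Qc => σ q * q⁻¹) := by
      ext x
      constructor
      · rintro ⟨y, hy, rfl⟩
        obtain ⟨q, rfl⟩ := hQgι y hy
        refine ⟨σ q * q⁻¹, ⟨q, rfl⟩, ?_⟩
        rw [map_mul, hισ, map_inv]
      · rintro ⟨_, ⟨q, rfl⟩, rfl⟩
        refine ⟨ι q, hιQg q, ?_⟩
        show α * ι q * α⁻¹ * (ι q)⁻¹ = ι (σ q * q⁻¹)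
        rw [map_mul, hισ, map_inv]
    rw [hset, ← MonoidHom.map_closure, hmain]
    ext x
    constructor
    · rintro ⟨q, ⟨hq1, hq2⟩, rfl⟩
      have hq1' : ι q ∈ Q₀ := hq1
      refine ⟨⟨ι q, hq1'⟩, ?_, rfl⟩
      rw [SetLike.mem_coe, Subgroup.mem_center_iff]
      intro g
      obtain ⟨h, hh⟩ := hQgι g.1 (hQ₀Qg g.1 g.2)
      have hhE0 : h ∈ Q₀.comap ι := by
        rw [Subgroup.mem_comap, hh]; exact g.2
      have := (Subgroup.mem_centralizer_iff.mp hq2) h hhE0
      apply Subtype.ext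
      show g.1 * ι q = ι q * g.1
      rw [← hh, ← map_mul, ← map_mul, this]
    · rintro ⟨y, hy, rfl⟩
      obtain ⟨q, hq⟩ := hQgι y.1 (hQ₀Qg y.1 y.2)
      refine ⟨q, ⟨?_, Subgroup.mem_centralizer_iff.mpr ?_⟩, hq⟩
      · show ι q ∈ Q₀
        rw [hq]; exact y.2
      · intro h hh
        have hh' : ι h ∈ Q₀ := hh
        have := (Subgroup.mem_center_iff.mp hy) ⟨ι h, hh'⟩
        have h2 : ι h * y.1 = y.1 * ι h := congrArg Subtype.val this
        apply hιinj
        rw [map_mul, map_mul, hq, h2]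
  · -- part (b)
    intro hnle
    obtain ⟨q, hqQ₀, hqn⟩ := SetLike.not_le_iff_exists.mp hnle
    obtain ⟨hqQg, hqz⟩ := (hQ₀ q).mp hqQ₀
    refine ⟨q, hqQg, ?_⟩
    rcases (mem_zpowers_of_orderOf_two z hz _).mp hqz with h | h
    · exfalso
      apply hqn
      apply Subgroup.mem_sup_left
      refine ⟨hqQg, Subgroup.mem_centralizer_singleton_iff.mpr ?_⟩
      have h3 : α * q = q * α := by
        have := congrArg (fun t => t * q * α) h
        simpa using this
      exact h3.symm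
    · rw [hαinv] at h
      calc q * α * q⁻¹ = (α * α) * q * α * q⁻¹ := by rw [hα2, one_mul]
        _ = α * (α * q * α * q⁻¹) := by simp only [mul_assoc]
        _ = α * z := by rw [h]

end Cfsg.Agent.S1784
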