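import Cfsg.Statements.S1785
import Cfsg.Agent.Lib.Helper38.ElemAb

set_option autoImplicit false
open Cfsg

namespace Cfsg.Agent.S1785

open Cfsg.Agent.Lib.Helper38

section helpers

variable {X : Type*} [Group X]

/-- Exponent two and order eight. -/
def E8 (A : Subgroup X) : Prop := (∀ a ∈ A, a ^ 2 = 1) ∧ Nat.card A = 8

/-- The adjacency relation of the statement. -/
def Adj (C D : Subgroup X) : Prop :=
  Cfsg.IsElementaryAbelian 2 C ∧ Nat.card ↥C = 8 ∧ Cfsg.IsElementaryAbelian 2 D ∧ Nat.card ↥D = 8 ∧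
    ⁅C, D⁆ = ⊥

theorem adj_of {C D : Subgroup X} (hC : E8 C) (hD : E8 D)
    (h : C ≤ Subgroup.centralizer (D : Set X)) : Adj C D :=
  ⟨isElementaryAbelian_two_of_sq C hC.1, hC.2, isElementaryAbelian_two_of_sq D hD.1, hD.2,
    Subgroup.commutator_eq_bot_iff_le_centralizer.mpr h⟩

theorem adj_symm {C D : Subgroup X} (h : Adj C D) : Adj D C := by
  obtain ⟨h1, h2, h3, h4, h5⟩ := h
  exact ⟨h3, h4, h1, h2, by rw [Subgroup.commutator_comm]; exact h5⟩

theorem conn_symm {A B : Subgroup X} (h : Relation.ReflTransGen Adj A B) :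
    Relation.ReflTransGen Adj B A := by
  induction h with
  | refl => exact Relation.ReflTransGen.refl
  | tail _ hbc ih => exact Relation.ReflTransGen.head (adj_symm hbc) ih

theorem zpowers_le_centralizer_of {A : Subgroup X} {f : X}
    (h : A ≤ Subgroup.centralizer {f}) : Subgroup.zpowers f ≤ Subgroup.centralizer (A : Set X) := by
  rw [Subgroup.zpowers_le, Subgroup.mem_centralizer_iff]
  intro x hx
  exact (Subgroup.mem_centralizer_singleton_iff.mp (h hx))

theorem zpowers_le_centralizer_singleton {a f : X} (h : a * f = f * a) :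
    Subgroup.zpowers a ≤ Subgroup.centralizer {f} := by
  rw [Subgroup.zpowers_le, Subgroup.mem_centralizer_singleton_iff]
  exact h

theorem pow2_card [Finite X] (hX : IsPGroup 2 X) (F : Subgroup X) : ∃ k, Nat.card F = 2 ^ k :=
  IsPGroup.iff_card.mp (hX.to_subgroup F)

theorem eight_le [Finite X] (hX : IsPGroup 2 X) (F : Subgroup X) (h : 32 ≤ Nat.card F ^ 2) :
    8 ≤ Nat.card F := by
  obtain ⟨k, hk⟩ := pow2_card hX F
  rw [hk] at h ⊢
  by_contra hlt
  push Not at hlt
  have hk3 : k < 3 := by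
    by_contra h3
    push Not at h3
    have : 2 ^ 3 ≤ 2 ^ k := Nat.pow_le_pow_right (by norm_num) h3
    omega
  interval_cases k <;> norm_num at h

theorem four_le [Finite X] (hX : IsPGroup 2 X) (F : Subgroup X) (h : 8 ≤ Nat.card F ^ 2) :
    4 ≤ Nat.card F := by
  obtain ⟨k, hk⟩ := pow2_card hX F
  rw [hk] at h ⊢
  by_contra hlt
  push Not at hlt
  have hk3 : k < 2 := by
    by_contra h3
    push Not at h3
    have : 2 ^ 2 ≤ 2 ^ k := Nat.pow_le_pow_right (by norm_num) h3
    omega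
  interval_cases k <;> norm_num at h

theorem two_le (F : Subgroup X) (h : 4 ≤ Nat.card F ^ 2) : 2 ≤ Nat.card F := by
  by_contra hlt
  push Not at hlt
  have : Nat.card F ^ 2 ≤ 1 ^ 2 := Nat.pow_le_pow_left (by omega) 2
  omega

theorem normalizes_inf_centralizer (F : Subgroup X) (a v : X) (hn : ∀ f ∈ F, v * f * v⁻¹ ∈ F)
    (hav : a * v = v * a) :
    ∀ f ∈ F ⊓ Subgroup.centralizer {a}, v * f * v⁻¹ ∈ F ⊓ Subgroup.centralizer {a} := by
  rintro f ⟨hfF, hfa⟩
  refine ⟨hn f hfF, ?_⟩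
  have hv : v ∈ Subgroup.centralizer {a} := Subgroup.mem_centralizer_singleton_iff.mpr hav.symm
  exact (Subgroup.centralizer {a}).mul_mem ((Subgroup.centralizer {a}).mul_mem hv hfa)
    ((Subgroup.centralizer {a}).inv_mem hv)

theorem gen_step [Finite X] {A W : Subgroup X} (hA : ∀ a ∈ A, a ^ 2 = 1) (hWA : W ≤ A)
    (hcard : Nat.card A = 2 * Nat.card W) :
    ∃ a ∈ A, a ∉ W ∧ A = W ⊔ Subgroup.zpowers a := by
  have hpos : 0 < Nat.card W := Nat.card_pos
  obtain ⟨a, haA, haW⟩ := exists_mem_not_mem_of_card_lt (F := A) (G' := W) (by omega)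
  refine ⟨a, haA, haW, ?_⟩
  have hle : W ⊔ Subgroup.zpowers a ≤ A := sup_le hWA (Subgroup.zpowers_le.mpr haA)
  have hc : Subgroup.zpowers a ≤ Subgroup.centralizer (W : Set X) := by
    rw [Subgroup.zpowers_le, Subgroup.mem_centralizer_iff]
    intro w hw
    exact mul_comm_of_exp_two hA (hWA hw) haA
  have hcard2 := card_sup_zpowers (hA a haA) haW hc
  exact (Subgroup.eq_of_le_of_card_ge hle (by rw [hcard2, hcard])).symm

theorem step [Finite X] {A W : Subgroup X} {f : X} (hA : E8 A) (hWA : W ≤ A)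
    (hW : Nat.card W = 4) (hf : f ^ 2 = 1)
    (hfA : Subgroup.zpowers f ≤ Subgroup.centralizer (A : Set X)) (hfW : f ∉ W) :
    E8 (W ⊔ Subgroup.zpowers f) ∧ Adj A (W ⊔ Subgroup.zpowers f) := by
  have hAf : A ≤ Subgroup.centralizer (Subgroup.zpowers f : Set X) :=
    Subgroup.le_centralizer_iff.mp hfA
  have hfW' : Subgroup.zpowers f ≤ Subgroup.centralizer (W : Set X) :=
    hfA.trans (Subgroup.centralizer_le hWA)
  have h8 : E8 (W ⊔ Subgroup.zpowers f) := by
    refine ⟨exp_two_sup (fun w hw => hA.1 w (hWA hw)) (exp_two_zpowers hf) (hWA.trans hAf), ?_⟩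
    rw [card_sup_zpowers hf hfW hfW', hW]
  refine ⟨h8, adj_of hA h8 ?_⟩
  rw [Subgroup.le_centralizer_iff]
  exact sup_le (hWA.trans (le_centralizer_self_of_exp_two hA.1)) hfA

end helpers

section main

variable {X : Type*} [Group X] [Finite X] (hX : IsPGroup 2 X) (E : Subgroup X) [hEn : E.Normal]
  (hE : ∀ e ∈ E, e ^ 2 = 1) (hE32 : 32 ≤ Nat.card ↥E)

include hX hEn hE hE32

theorem cent1 (a : X) (ha : a ^ 2 = 1) : 8 ≤ Nat.card ↥(E ⊓ Subgroup.centralizer {a}) := by
  have := card_le_card_centralizer_sq E hE a ha (fun f hf => hEn.conj_mem f hf a)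
  exact eight_le hX _ (hE32.trans this)

theorem cent2 (a b : X) (ha : a ^ 2 = 1) (hb : b ^ 2 = 1) (hab : a * b = b * a) :
    4 ≤ Nat.card ↥(E ⊓ Subgroup.centralizer {a} ⊓ Subgroup.centralizer {b}) := by
  have h1 := cent1 hX E hE hE32 a ha
  have hF : ∀ f ∈ E ⊓ Subgroup.centralizer {a}, f ^ 2 = 1 := fun f hf => hE f hf.1
  have hn := normalizes_inf_centralizer E a b (fun f hf => hEn.conj_mem f hf b) hab
  have := card_le_card_centralizer_sq _ hF b hb hn
  exact four_le hX _ (h1.trans this)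

theorem cent3 (a b c : X) (ha : a ^ 2 = 1) (hb : b ^ 2 = 1) (hc : c ^ 2 = 1) (hab : a * b = b * a)
    (hac : a * c = c * a) (hbc : b * c = c * b) :
    2 ≤ Nat.card ↥(E ⊓ Subgroup.centralizer {a} ⊓ Subgroup.centralizer {b} ⊓
      Subgroup.centralizer {c}) := by
  have h1 := cent2 hX E hE hE32 a b ha hb hab
  have hF : ∀ f ∈ E ⊓ Subgroup.centralizer {a} ⊓ Subgroup.centralizer {b}, f ^ 2 = 1 :=
    fun f hf => hE f hf.1.1
  have hn1 := normalizes_inf_centralizer E a c (fun f hf => hEn.conj_mem f hf c) hac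
  have hn := normalizes_inf_centralizer _ b c hn1 hbc
  have := card_le_card_centralizer_sq _ hF c hc hn
  exact two_le _ (h1.trans this)

/-- An `E8` meeting `E` in a four-group is adjacent to an `E8` inside `E`. -/
theorem toE_of_four {A U : Subgroup X} (hA : E8 A) (hUA : U ≤ A) (hUE : U ≤ E)
    (hU : Nat.card U = 4) : ∃ A' : Subgroup X, A' ≤ E ∧ E8 A' ∧ Adj A A' := by
  obtain ⟨a, haA, haU, hAeq⟩ := gen_step hA.1 hUA (by rw [hA.2, hU])
  have ha2 := hA.1 a haA
  have h8 := cent1 hX E hE hE32 a ha2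
  obtain ⟨f, hfF, hfU⟩ := exists_mem_not_mem_of_card_lt
    (F := E ⊓ Subgroup.centralizer {a}) (G' := U) (by omega)
  have hfE : f ∈ E := hfF.1
  have hfa : f * a = a * f := Subgroup.mem_centralizer_singleton_iff.mp (Subgroup.mem_inf.mp hfF).2
  have hAf : A ≤ Subgroup.centralizer {f} := by
    rw [hAeq]
    refine sup_le ?_ (zpowers_le_centralizer_singleton hfa.symm)
    intro u hu
    rw [Subgroup.mem_centralizer_singleton_iff]
    exact mul_comm_of_exp_two hE (hUE hu) hfE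
  obtain ⟨h1, h2⟩ := step hA hUA hU (hE f hfE) (zpowers_le_centralizer_of hAf) hfU
  exact ⟨_, sup_le hUE (Subgroup.zpowers_le.mpr hfE), h1, h2⟩

/-- An `E8` meeting `E` nontrivially is connected to one meeting `E` in a four-group. -/
theorem toFour {A : Subgroup X} (hA : E8 A) {u : X} (huA : u ∈ A) (huE : u ∈ E) (hu1 : u ≠ 1) :
    ∃ A' U : Subgroup X, E8 A' ∧ U ≤ A' ∧ U ≤ E ∧ Nat.card U = 4 ∧
      Relation.ReflTransGen Adj A A' := by
  have hu2 := hA.1 u huA
  have hW1 : Nat.card (Subgroup.zpowers u) = 2 := card_zpowers_of_sq hu2 hu1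
  have hW1A : Subgroup.zpowers u ≤ A := Subgroup.zpowers_le.mpr huA
  obtain ⟨a, haA, haW1⟩ := exists_mem_not_mem_of_card_lt (F := A) (G' := Subgroup.zpowers u)
    (by rw [hA.2, hW1]; norm_num)
  have ha2 := hA.1 a haA
  have hau : a * u = u * a := mul_comm_of_exp_two hA.1 haA huA
  have hW2 : Nat.card ↥(Subgroup.zpowers u ⊔ Subgroup.zpowers a) = 4 := by
    rw [card_sup_zpowers ha2 haW1, hW1]
    rw [Subgroup.zpowers_le, Subgroup.mem_centralizer_iff]
    intro w hw
    exact mul_comm_of_exp_two hA.1 (hW1A hw) haA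
  have hW2A : Subgroup.zpowers u ⊔ Subgroup.zpowers a ≤ A :=
    sup_le hW1A (Subgroup.zpowers_le.mpr haA)
  obtain ⟨b, hbA, hbW2, hAeq⟩ := gen_step hA.1 hW2A (by rw [hA.2, hW2])
  have hb2 := hA.1 b hbA
  have hab : a * b = b * a := mul_comm_of_exp_two hA.1 haA hbA
  have h4 := cent2 hX E hE hE32 a b ha2 hb2 hab
  obtain ⟨f, hfF, hfW1⟩ := exists_mem_not_mem_of_card_lt
    (F := E ⊓ Subgroup.centralizer {a} ⊓ Subgroup.centralizer {b}) (G' := Subgroup.zpowers u)
    (by omega)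
  have hfE : f ∈ E := hfF.1.1
  have hf2 := hE f hfE
  have hfa : f * a = a * f :=
    Subgroup.mem_centralizer_singleton_iff.mp (Subgroup.mem_inf.mp (Subgroup.mem_inf.mp hfF).1).2
  have hfb : f * b = b * f := Subgroup.mem_centralizer_singleton_iff.mp (Subgroup.mem_inf.mp hfF).2
  have hfu : u * f = f * u := mul_comm_of_exp_two hE huE hfE
  have hAf : A ≤ Subgroup.centralizer {f} := by
    rw [hAeq]
    exact sup_le (sup_le (zpowers_le_centralizer_singleton hfu)
      (zpowers_le_centralizer_singleton hfa.symm)) (zpowers_le_centralizer_singleton hfb.symm)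
  have hfA := zpowers_le_centralizer_of hAf
  have hUcard : Nat.card ↥(Subgroup.zpowers u ⊔ Subgroup.zpowers f) = 4 := by
    rw [card_sup_zpowers hf2 hfW1 (hfA.trans (Subgroup.centralizer_le hW1A)), hW1]
  have hUE : Subgroup.zpowers u ⊔ Subgroup.zpowers f ≤ E :=
    sup_le (Subgroup.zpowers_le.mpr huE) (Subgroup.zpowers_le.mpr hfE)
  by_cases hfAm : f ∈ A
  · exact ⟨A, _, hA, sup_le hW1A (Subgroup.zpowers_le.mpr hfAm), hUE, hUcard,
      Relation.ReflTransGen.refl⟩
  · have hfW2 : f ∉ Subgroup.zpowers u ⊔ Subgroup.zpowers a := fun h => hfAm (hW2A h)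
    obtain ⟨h1, h2⟩ := step hA hW2A hW2 hf2 hfA hfW2
    exact ⟨_, _, h1, sup_le_sup_right le_sup_left _, hUE, hUcard,
      Relation.ReflTransGen.single h2⟩

/-- Every `E8` is connected to one meeting `E` nontrivially. -/
theorem toOne {A : Subgroup X} (hA : E8 A) :
    ∃ (A' : Subgroup X) (u : X), E8 A' ∧ u ∈ A' ∧ u ∈ E ∧ u ≠ 1 ∧
      Relation.ReflTransGen Adj A A' := by
  obtain ⟨a, haA, ha1⟩ := exists_mem_not_mem_of_card_lt (F := A) (G' := (⊥ : Subgroup X))
    (by rw [hA.2, Subgroup.card_bot]; norm_num)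
  have ha1' : a ≠ 1 := fun h => ha1 (by rw [h]; exact Subgroup.one_mem _)
  have ha2 := hA.1 a haA
  have hW1 : Nat.card (Subgroup.zpowers a) = 2 := card_zpowers_of_sq ha2 ha1'
  have hW1A : Subgroup.zpowers a ≤ A := Subgroup.zpowers_le.mpr haA
  obtain ⟨b, hbA, hbW1⟩ := exists_mem_not_mem_of_card_lt (F := A) (G' := Subgroup.zpowers a)
    (by rw [hA.2, hW1]; norm_num)
  have hb2 := hA.1 b hbA
  have hab : a * b = b * a := mul_comm_of_exp_two hA.1 haA hbA
  have hW2 : Nat.card ↥(Subgroup.zpowers a ⊔ Subgroup.zpowers b) = 4 := by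
    rw [card_sup_zpowers hb2 hbW1, hW1]
    rw [Subgroup.zpowers_le, Subgroup.mem_centralizer_iff]
    intro w hw
    exact mul_comm_of_exp_two hA.1 (hW1A hw) hbA
  have hW2A : Subgroup.zpowers a ⊔ Subgroup.zpowers b ≤ A :=
    sup_le hW1A (Subgroup.zpowers_le.mpr hbA)
  obtain ⟨c, hcA, hcW2, hAeq⟩ := gen_step hA.1 hW2A (by rw [hA.2, hW2])
  have hc2 := hA.1 c hcA
  have hac : a * c = c * a := mul_comm_of_exp_two hA.1 haA hcA
  have hbc : b * c = c * b := mul_comm_of_exp_two hA.1 hbA hcA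
  have h2 := cent3 hX E hE hE32 a b c ha2 hb2 hc2 hab hac hbc
  obtain ⟨f, hfF, hf1⟩ := exists_mem_not_mem_of_card_lt
    (F := E ⊓ Subgroup.centralizer {a} ⊓ Subgroup.centralizer {b} ⊓ Subgroup.centralizer {c})
    (G' := (⊥ : Subgroup X)) (by rw [Subgroup.card_bot]; omega)
  have hf1' : f ≠ 1 := fun h => hf1 (by rw [h]; exact Subgroup.one_mem _)
  have hfE : f ∈ E := hfF.1.1.1
  have hf2 := hE f hfE
  have hfa : f * a = a * f := Subgroup.mem_centralizer_singleton_iff.mp
    (Subgroup.mem_inf.mp (Subgroup.mem_inf.mp (Subgroup.mem_inf.mp hfF).1).1).2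
  have hfb : f * b = b * f :=
    Subgroup.mem_centralizer_singleton_iff.mp (Subgroup.mem_inf.mp (Subgroup.mem_inf.mp hfF).1).2
  have hfc : f * c = c * f := Subgroup.mem_centralizer_singleton_iff.mp (Subgroup.mem_inf.mp hfF).2
  have hAf : A ≤ Subgroup.centralizer {f} := by
    rw [hAeq]
    exact sup_le (sup_le (zpowers_le_centralizer_singleton hfa.symm)
      (zpowers_le_centralizer_singleton hfb.symm)) (zpowers_le_centralizer_singleton hfc.symm)
  have hfA := zpowers_le_centralizer_of hAf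
  by_cases hfAm : f ∈ A
  · exact ⟨A, f, hA, hfAm, hfE, hf1', Relation.ReflTransGen.refl⟩
  · have hfW2 : f ∉ Subgroup.zpowers a ⊔ Subgroup.zpowers b := fun h => hfAm (hW2A h)
    obtain ⟨h1, h2⟩ := step hA hW2A hW2 hf2 hfA hfW2
    exact ⟨_, f, h1, (le_sup_right : Subgroup.zpowers f ≤ _) (Subgroup.mem_zpowers f), hfE, hf1',
      Relation.ReflTransGen.single h2⟩

/-- Every `E8` is connected to one inside `E`. -/
theorem toE {A : Subgroup X} (hA : E8 A) :
    ∃ A' : Subgroup X, A' ≤ E ∧ E8 A' ∧ Relation.ReflTransGen Adj A A' := by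
  obtain ⟨A1, u, hA1, hu1, hu2, hu3, hc1⟩ := toOne hX E hE hE32 hA
  obtain ⟨A2, U, hA2, hU1, hU2, hU3, hc2⟩ := toFour hX E hE hE32 hA1 hu1 hu2 hu3
  obtain ⟨A3, hA3E, hA3, hadj⟩ := toE_of_four hX E hE hE32 hA2 hU1 hU2 hU3
  exact ⟨A3, hA3E, hA3, (hc1.trans hc2).tail hadj⟩

theorem partA (A B : Subgroup X) (hA : E8 A) (hB : E8 B) : Relation.ReflTransGen Adj A B := by
  obtain ⟨A', hA'E, hA', hcA⟩ := toE hX E hE hE32 hA
  obtain ⟨B', hB'E, hB', hcB⟩ := toE hX E hE hE32 hB
  have hmid : Adj A' B' := by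
    apply adj_of hA' hB'
    exact hA'E.trans ((le_centralizer_self_of_exp_two hE).trans (Subgroup.centralizer_le hB'E))
  have hcB' : Relation.ReflTransGen Adj B' B := conn_symm hcB
  exact (hcA.tail hmid).trans hcB'

theorem partB (V : Subgroup X) (hV : ∀ v ∈ V, v ^ 2 = 1) (hV4 : Nat.card V = 4) :
    ∃ A : Subgroup X, V ≤ A ∧ E8 A := by
  obtain ⟨a, haV, ha1⟩ := exists_mem_not_mem_of_card_lt (F := V) (G' := (⊥ : Subgroup X))
    (by rw [hV4, Subgroup.card_bot]; norm_num)
  have ha1' : a ≠ 1 := fun h => ha1 (by rw [h]; exact Subgroup.one_mem _)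
  have ha2 := hV a haV
  have hW1 : Nat.card (Subgroup.zpowers a) = 2 := card_zpowers_of_sq ha2 ha1'
  have hW1V : Subgroup.zpowers a ≤ V := Subgroup.zpowers_le.mpr haV
  obtain ⟨b, hbV, hbW1, hVeq⟩ := gen_step hV hW1V (by rw [hV4, hW1])
  have hb2 := hV b hbV
  have hab : a * b = b * a := mul_comm_of_exp_two hV haV hbV
  have h4 := cent2 hX E hE hE32 a b ha2 hb2 hab
  -- an element of the centralizer in `E` outside `V`
  have hex : ∃ f ∈ E ⊓ Subgroup.centralizer {a} ⊓ Subgroup.centralizer {b}, f ∉ V := by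
    by_contra hcon
    push Not at hcon
    have hle : E ⊓ Subgroup.centralizer {a} ⊓ Subgroup.centralizer {b} ≤ V := hcon
    have hcard : Nat.card V ≤ Nat.card ↥(E ⊓ Subgroup.centralizer {a} ⊓ Subgroup.centralizer {b}) := by
      rw [hV4]; exact h4
    have heq := Subgroup.eq_of_le_of_card_ge hle hcard
    have hVE : V ≤ E := by rw [← heq]; exact inf_le_left.trans inf_le_left
    have hEle : E ≤ E ⊓ Subgroup.centralizer {a} ⊓ Subgroup.centralizer {b} := by
      refine le_inf (le_inf le_rfl ?_) ?_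
      · intro e he
        rw [Subgroup.mem_centralizer_singleton_iff]
        exact mul_comm_of_exp_two hE he (hVE haV)
      · intro e he
        rw [Subgroup.mem_centralizer_singleton_iff]
        exact mul_comm_of_exp_two hE he (hVE hbV)
    have := Subgroup.card_le_of_le (hEle.trans hle)
    omega
  obtain ⟨f, hfF, hfV⟩ := hex
  have hfE : f ∈ E := hfF.1.1
  have hf2 := hE f hfE
  have hfa : f * a = a * f :=
    Subgroup.mem_centralizer_singleton_iff.mp (Subgroup.mem_inf.mp (Subgroup.mem_inf.mp hfF).1).2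
  have hfb : f * b = b * f := Subgroup.mem_centralizer_singleton_iff.mp (Subgroup.mem_inf.mp hfF).2
  have hVf : V ≤ Subgroup.centralizer {f} := by
    rw [hVeq]
    exact sup_le (zpowers_le_centralizer_singleton hfa.symm)
      (zpowers_le_centralizer_singleton hfb.symm)
  have hfVc := zpowers_le_centralizer_of hVf
  refine ⟨V ⊔ Subgroup.zpowers f, le_sup_left, ?_, ?_⟩
  · exact exp_two_sup hV (exp_two_zpowers hf2) (Subgroup.le_centralizer_iff.mp hfVc)
  · rw [card_sup_zpowers hf2 hfV hfVc, hV4]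

end main

/-- Let X be a finite 2-group having a normal elementary abelian subgroup of order at least 32. Then (a) for any two elementary abelian subgroups A, B of X of order 8 there is a chain A = A₁, A₂, …, Aₙ = B of elementary abelian subgroups of order 8 in which consecutive members commute elementwise; and (b) every elementary abelian subgroup of X of order 4 is contained in an elementary abelian subgroup of order 8. -/
theorem result {X : Type*} [Group X] [Finite X]
    (hX : IsPGroup 2 X) (E : Subgroup X) [E.Normal] (hE : Cfsg.IsElementaryAbelian 2 E) (hE32 : 32 ≤ Nat.card ↥E) :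
    (∀ A B : Subgroup X, Cfsg.IsElementaryAbelian 2 A → Nat.card ↥A = 8 → Cfsg.IsElementaryAbelian 2 B → Nat.card ↥B = 8 →
        Relation.ReflTransGen
          (fun C D : Subgroup X => Cfsg.IsElementaryAbelian 2 C ∧ Nat.card ↥C = 8 ∧ Cfsg.IsElementaryAbelian 2 D ∧ Nat.card ↥D = 8 ∧ ⁅C, D⁆ = ⊥)
          A B) ∧
      (∀ V : Subgroup X, Cfsg.IsElementaryAbelian 2 V → Nat.card ↥V = 4 →
        ∃ A : Subgroup X, V ≤ A ∧ Cfsg.IsElementaryAbelian 2 A ∧ Nat.card ↥A = 8) := by
  have hE2 : ∀ e ∈ E, e ^ 2 = 1 := hE.2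
  refine ⟨?_, ?_⟩
  · intro A B hA hA8 hB hB8
    exact partA hX E hE2 hE32 A B ⟨hA.2, hA8⟩ ⟨hB.2, hB8⟩
  · intro V hV hV4
    obtain ⟨A, hVA, hA⟩ := partB hX E hE2 hE32 V hV.2 hV4
    exact ⟨A, hVA, isElementaryAbelian_two_of_sq A hA.1, hA.2⟩

end Cfsg.Agent.S1785
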