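import Cfsg.Statements.S1850
import Cfsg.Agent.Lib.Helper28.FStarNorm
import Cfsg.Agent.Lib.Helper56.CharPFStar
-- import your own Cfsg.Agent.* helpers here

set_option autoImplicit false
open Cfsg

namespace Cfsg.Agent.S1850

open Cfsg.Agent.Lib.Helper28 in
/-- If `V ≤ U` are `p`-subgroups and `F*(N_G(V))` is a `p`-group, then `F*(N_G(U))` is a
`p`-group. -/
theorem fStarP_normalizer_mono {G : Type*} [Group G] [Finite G] (p : ℕ) [Fact p.Prime]
    (U V : Subgroup G) (hVU : V ≤ U) (hU : IsPGroup p ↥U)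
    (hV : FStarP p ↥(Subgroup.normalizer (V : Set G))) :
    FStarP p ↥(Subgroup.normalizer (U : Set G)) := by
  -- C_G(V) is normal in N_G(V)
  have hCV : FStarP p ↥(Subgroup.centralizer (V : Set G)) := by
    have hle : Subgroup.centralizer (V : Set G) ≤ Subgroup.normalizer (V : Set G) :=
      Subgroup.centralizer_le_normalizer _
    have hn : ((Subgroup.centralizer (V : Set G)).subgroupOf
        (Subgroup.normalizer (V : Set G))).Normal :=
      Subgroup.normal_subgroupOf_centralizer_normalizer _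
    have h1 := fStarP_normal p ((Subgroup.centralizer (V : Set G)).subgroupOf
        (Subgroup.normalizer (V : Set G))) hV
    exact fStarP_of_mulEquiv p (Subgroup.subgroupOfEquivOfLe hle) h1
  have h2 : FStarP p ↥(Subgroup.centralizer (U : Set G)) :=
    fStarP_centralizer_mono p U V hVU hU hCV
  set N := Subgroup.normalizer (U : Set G) with hN
  have hUN : U ≤ N := Subgroup.le_normalizer
  have hUn : (U.subgroupOf N).Normal := Subgroup.normal_in_normalizer
  have hU' : IsPGroup p ↥(U.subgroupOf N) :=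
    hU.comap_of_injective _ (Subgroup.subtype_injective _)
  apply fStarP_of_centralizer_normal p (U.subgroupOf N) hU'
  have hCN : Subgroup.centralizer (U : Set G) ≤ N := Subgroup.centralizer_le_normalizer _
  have heq : Subgroup.centralizer ((U.subgroupOf N : Subgroup ↥N) : Set ↥N) =
      (Subgroup.centralizer (U : Set G)).subgroupOf N := by
    ext x
    rw [Subgroup.mem_subgroupOf, Subgroup.mem_centralizer_iff, Subgroup.mem_centralizer_iff]
    constructor
    · intro hx u hu
      have := hx ⟨u, hUN hu⟩ (by rw [SetLike.mem_coe, Subgroup.mem_subgroupOf]; exact hu)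
      exact congrArg Subtype.val this
    · intro hx u hu
      rw [SetLike.mem_coe, Subgroup.mem_subgroupOf] at hu
      exact Subtype.ext (hx u hu)
  rw [heq]
  exact fStarP_of_mulEquiv p (Subgroup.subgroupOfEquivOfLe hCN).symm h2

/-- Let G be a non-abelian finite simple QTKE-group and T a Sylow 2-subgroup of G. If U is a nontrivial 2-subgroup of G with U ∩ Z(T) ≠ 1, then F*(N_G(U)) = O₂(N_G(U)). -/
theorem result {G : Type*} [Group G] [Finite G] [IsSimpleGroup G]
    (hG : ¬ IsMulCommutative G) (hQ : Cfsg.IsQTKE G) (T : Sylow 2 G) (U : Subgroup G)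
    (hU : IsPGroup 2 ↥U) (hZ : U ⊓ ((T : Subgroup G) ⊓ Subgroup.centralizer ((T : Subgroup G) : Set G)) ≠ ⊥) :
    Subgroup.normalizer (U : Set G) ∈ Cfsg.calHe G := by
  have : Fact (Nat.Prime 2) := ⟨Nat.prime_two⟩
  -- a nontrivial element of U ∩ Z(T)
  obtain ⟨⟨z, hzmem⟩, hz1⟩ := (Subgroup.ne_bot_iff_exists_ne_one).1 hZ
  have hzU : z ∈ U := hzmem.1
  have hzC : z ∈ Subgroup.centralizer ((T : Subgroup G) : Set G) := hzmem.2.2
  have hz1' : z ≠ 1 := fun h => hz1 (Subtype.ext h)
  set V : Subgroup G := Subgroup.zpowers z with hV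
  have hVU : V ≤ U := by rw [hV, Subgroup.zpowers_le]; exact hzU
  have hVp : IsPGroup 2 ↥V := hU.to_le hVU
  have hV1 : V ≠ ⊥ := by
    rw [hV, Ne, Subgroup.zpowers_eq_bot]; exact hz1'
  -- T ≤ N_G(V)
  have hTN : (T : Subgroup G) ≤ Subgroup.normalizer (V : Set G) := by
    refine le_trans ?_ (Subgroup.centralizer_le_normalizer _)
    intro t ht
    rw [Subgroup.mem_centralizer_iff]
    intro v hv
    rw [SetLike.mem_coe, hV, Subgroup.mem_zpowers_iff] at hv
    obtain ⟨k, rfl⟩ := hv
    rw [Subgroup.mem_centralizer_iff] at hzC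
    have hc : Commute z t := (hzC t ht).symm
    exact ((hc.zpow_left k).eq)
  -- N_G(V) is a 2-local containing T, hence has characteristic 2
  have hloc : IsTwoLocal (Subgroup.normalizer (V : Set G)) := ⟨V, hVp, hV1, rfl⟩
  have hchar : IsOfCharacteristicTwo ↥(Subgroup.normalizer (V : Set G)) :=
    hQ.2.2 _ hloc ⟨T, hTN⟩
  have hF : Cfsg.Agent.Lib.Helper28.FStarP 2 ↥(Subgroup.normalizer (V : Set G)) := by
    unfold Cfsg.Agent.Lib.Helper28.FStarP
    rw [Cfsg.Agent.Lib.Helper56.genFitting_eq_pCore_iff.2 hchar]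
    exact Cfsg.Agent.Lib.Helper28.pCore_isPGroup 2
  have hFU := fStarP_normalizer_mono 2 U V hVU hU hF
  exact Cfsg.Agent.Lib.Helper28.fStarP_genFitting_eq 2 hFU

end Cfsg.Agent.S1850
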