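import Cfsg.Statements.S1851
import Cfsg.Agent.Lib.Helper39.LfMain

set_option autoImplicit false
open Cfsg

namespace Cfsg.Agent.S1851

/-- Let G be a non-abelian finite simple QTKE-group and T a Sylow 2-subgroup of G, and let L be a member of ℒ_f(G, T) (a member of ℒ(G, T) that lies in 𝒳 — L ≠ 1, L = O²(L), F*(L) = O₂(L) — and acts nontrivially on Ω₁(Z(O₂(L)))). Then (1) every member K of ℒ(G, T) containing L is again in ℒ_f(G, T) (a sharper form of (1) also compares the modules [Ω₁(Z(R)), L] and [Ω₁(Z(R')), K] for suitable 2-subgroups R, R'; that comparison is not included); and (2) if L is maximal under inclusion among the members of ℒ_f(G, T), then L is a maximal member of ℒ(G, T), hence a member of ℒ_f*(G, T). -/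
theorem result {G : Type*} [Group G] [Finite G] [IsSimpleGroup G]
    (hG : ¬ IsMulCommutative G) (hQ : Cfsg.IsQTKE G) (T : Sylow 2 G) (L : Subgroup G)
    (hL : L ∈ Cfsg.calLf (T : Subgroup G)) :
    (∀ K ∈ Cfsg.calL (T : Subgroup G), L ≤ K → K ∈ Cfsg.calLf (T : Subgroup G)) ∧
    ((∀ K ∈ Cfsg.calLf (T : Subgroup G), L ≤ K → K = L) → L ∈ Cfsg.calLfMax (T : Subgroup G)) := by
  have hmain : ∀ K ∈ Cfsg.calL (T : Subgroup G), L ≤ K → K ∈ Cfsg.calLf (T : Subgroup G) := by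
    intro K hK hLK
    have hKodd := Cfsg.Agent.Lib.Helper39.Lf.oddGenerated_eq_of_calL (T : Subgroup G) hK
    refine ⟨hK, ⟨?_, hKodd, Cfsg.Agent.Lib.Helper39.Lf.mem_calHe_of_calL hQ.2.2 T hK⟩, ?_⟩
    · intro h0
      apply hK.1.1
      rw [h0]
      simp
    · have hLrsn : Cfsg.Agent.Lib.Helper02.RSn L (L ⊔ (T : Subgroup G)) :=
        Cfsg.Agent.Lib.Helper02.RSn.of_isSubnormal_subgroupOf le_sup_left hL.1.1.2.2.1
      have hKrsn : Cfsg.Agent.Lib.Helper02.RSn K (K ⊔ (T : Subgroup G)) :=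
        Cfsg.Agent.Lib.Helper02.RSn.of_isSubnormal_subgroupOf le_sup_left hK.1.2.2.1
      have hLodd : Cfsg.oddGenerated L = L := hL.2.1.2.1
      have h1 : ⁅Cfsg.omegaOne 2 (Cfsg.Agent.Lib.Helper39.Lf.zO2 (L ⊔ (T : Subgroup G))), L⁆ ≠ ⊥ :=
        fun h0 => hL.2.2 (Cfsg.Agent.Lib.Helper39.Lf.moduleV_eq_bot_of_rsn hLrsn hLodd h0)
      have h2 : ⁅Cfsg.omegaOne 2 (Cfsg.Agent.Lib.Helper39.Lf.zO2 (K ⊔ (T : Subgroup G))), K⁆ ≠ ⊥ := by
        intro h0
        apply h1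
        rw [eq_bot_iff, ← h0]
        exact Subgroup.commutator_mono
          (Cfsg.Agent.Lib.Helper39.Lf.wO2_mono (T : Subgroup G) hLK hK.2.1
            (Cfsg.Agent.Lib.Helper39.Lf.charTwo_sup_of_calL hQ.2.2 T hK)) hLK
      exact Cfsg.Agent.Lib.Helper39.Lf.moduleV_ne_bot_of_rsn hKrsn hKodd h2
  exact ⟨hmain, fun hmax => ⟨⟨hL.1, fun K hK hLK => hmax K (hmain K hK hLK) hLK⟩, hL.2⟩⟩

end Cfsg.Agent.S1851
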