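import Cfsg.Statements.S1892
import Cfsg.Agent.Lib.Helper81.PSolvable
import Cfsg.Agent.Lib.Helper32.Coprime
-- import your own Cfsg.Agent.* helpers here

set_option autoImplicit false
open Cfsg

namespace Cfsg.Agent.S1892

open scoped commutatorElement

/-- `A` normalizes `[P, A]` when `P` is normal. -/
theorem le_normalizer_comm {G : Type*} [Group G] (P A : Subgroup G) [hP : P.Normal] :
    A ≤ Subgroup.normalizer ((⁅P, A⁆ : Subgroup G) : Set G) := by
  intro g hg
  have hgP : g ∈ Subgroup.normalizer (P : Set G) := by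
    rw [Subgroup.normalizer_eq_top]; trivial
  rw [Subgroup.mem_normalizer_iff_map_conj_eq, Subgroup.map_commutator,
    Subgroup.mem_normalizer_iff_map_conj_eq.1 hgP,
    Subgroup.mem_normalizer_iff_map_conj_eq.1 (Subgroup.le_normalizer hg)]

/-- The subgroup of elements normalizing `C` and acting trivially on `P` modulo `C`. -/
def stab {G : Type*} [Group G] (P C : Subgroup G) : Subgroup G where
  carrier := {g | g ∈ Subgroup.normalizer (C : Set G) ∧ ∀ x ∈ P, ⁅x, g⁆ ∈ C}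
  one_mem' := ⟨one_mem _, fun x _ => by simp [commutatorElement_def]⟩
  mul_mem' := by
    rintro g h ⟨hg1, hg2⟩ ⟨hh1, hh2⟩
    refine ⟨mul_mem hg1 hh1, fun x hx => ?_⟩
    have e : ⁅x, g * h⁆ = ⁅x, g⁆ * (g * ⁅x, h⁆ * g⁻¹) := by
      simp only [commutatorElement_def]; group
    rw [e]
    exact mul_mem (hg2 x hx) ((Subgroup.mem_normalizer_iff.1 hg1 _).1 (hh2 x hx))
  inv_mem' := by
    rintro g ⟨hg1, hg2⟩
    refine ⟨inv_mem hg1, fun x hx => ?_⟩
    have e : ⁅x, g⁻¹⁆ = g⁻¹ * (⁅x, g⁆)⁻¹ * g⁻¹⁻¹ := by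
      simp only [commutatorElement_def]; group
    rw [e]
    exact (Subgroup.mem_normalizer_iff.1 (inv_mem hg1) _).1 (inv_mem (hg2 x hx))

/-- Let S be a finite p-solvable group with no nontrivial normal subgroup of order prime to p, A a p-subgroup of S, and Q a nontrivial A-invariant subgroup of order prime to p with [A, Q] = Q. Then the commutator [O_p(S), A, Q] is nontrivial. -/
theorem result {S : Type*} [Group S] [Finite S] {p : ℕ} [Fact p.Prime]
    (hS : Cfsg.IsPSolvable p S) (hred : Cfsg.pPrimeCore p S = ⊥)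
    (A Q : Subgroup S) (hA : IsPGroup p A) (hQ : ¬ p ∣ Nat.card Q) (hQ1 : Q ≠ ⊥)
    (hinv : ∀ a ∈ A, ∀ x ∈ Q, a * x * a⁻¹ ∈ Q) (hAQ : ⁅A, Q⁆ = Q) :
    ⁅⁅Cfsg.pCore p S, A⁆, Q⁆ ≠ ⊥ := by
  intro hbot
  set P := Cfsg.pCore p S with hPdef
  have hPn : P.Normal := Cfsg.Agent.Lib.Helper81.pCore_normal p
  have hPp : IsPGroup p P := Cfsg.Agent.Lib.Helper81.isPGroup_pCore p
  set C := ⁅P, A⁆ with hCdef
  -- Q centralizes C
  have hCQ : C ≤ Subgroup.centralizer (Q : Set S) :=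
    Subgroup.commutator_eq_bot_iff_le_centralizer.1 hbot
  have hQC : Q ≤ Subgroup.centralizer (C : Set S) := Subgroup.le_centralizer_iff.1 hCQ
  have hQN : Q ≤ Subgroup.normalizer (C : Set S) :=
    hQC.trans (Subgroup.centralizer_le_normalizer (C : Set S))
  have hAN : A ≤ Subgroup.normalizer (C : Set S) := le_normalizer_comm P A
  -- A ≤ stab P C
  have hAK : A ≤ stab P C := fun a ha =>
    ⟨hAN ha, fun x hx => Subgroup.commutator_mem_commutator hx ha⟩
  -- Q normalizes stab P C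
  have hQK : ∀ q ∈ Q, ∀ g ∈ stab P C, q * g * q⁻¹ ∈ stab P C := by
    rintro q hq g ⟨hg1, hg2⟩
    refine ⟨mul_mem (mul_mem (hQN hq) hg1) (inv_mem (hQN hq)), fun x hx => ?_⟩
    have e : ⁅x, q * g * q⁻¹⁆ = q * ⁅q⁻¹ * x * q⁻¹⁻¹, g⁆ * q⁻¹ := by
      simp only [commutatorElement_def]; group
    rw [e]
    exact (Subgroup.mem_normalizer_iff.1 (hQN hq) _).1 (hg2 _ (hPn.conj_mem x hx q⁻¹))
  -- Q = [A,Q] ≤ stab P C
  have hQle : Q ≤ stab P C := by
    rw [← hAQ, Subgroup.commutator_le]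
    intro a ha q hq
    have e : ⁅a, q⁆ = a * (q * a⁻¹ * q⁻¹) := by
      simp only [commutatorElement_def]; group
    rw [e]
    exact mul_mem (hAK ha) (hQK q hq _ (inv_mem (hAK ha)))
  -- [P,Q] ≤ C
  have hPQ : ⁅P, Q⁆ ≤ C := by
    rw [Subgroup.commutator_le]
    intro x hx q hq
    exact (hQle hq).2 x hx
  have hCP : C ≤ P := Subgroup.commutator_le_left P A
  have hcop : (Nat.card Q).Coprime (Nat.card P) := by
    obtain ⟨n, hn⟩ := IsPGroup.iff_card.1 hPp
    rw [hn]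
    apply Nat.Coprime.pow_right
    rw [Nat.coprime_comm]
    exact (Nat.Prime.coprime_iff_not_dvd (Fact.out : p.Prime)).2 hQ
  have hPcent : P ≤ Subgroup.centralizer (Q : Set S) :=
    Cfsg.Agent.Lib.Helper32.le_centralizer_of_stable P C Q hPQ hCQ hCP hcop
  have hQP : Q ≤ P := (Subgroup.le_centralizer_iff.1 hPcent).trans
    (Cfsg.Agent.Lib.Helper81.centralizer_pCore_le hS hred)
  have hQp : IsPGroup p Q := hPp.to_le hQP
  obtain ⟨n, hn⟩ := IsPGroup.iff_card.1 hQp
  have hn0 : n = 0 := by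
    by_contra h0
    apply hQ
    rw [hn]
    exact dvd_pow_self p h0
  rw [hn0, pow_zero] at hn
  exact hQ1 (Subgroup.card_eq_one.1 hn)

end Cfsg.Agent.S1892
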