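import Cfsg.Statements.S1893
import Cfsg.Agent.S1886
import Cfsg.Agent.Lib.Helper39.PiCore
import Cfsg.Agent.Lib.Helper39.SCNCent
import Cfsg.Agent.Lib.Helper76.Fitting
-- import your own Cfsg.Agent.* helpers here

set_option autoImplicit false
open Cfsg

namespace Cfsg.Agent.S1893

open Cfsg.Agent.Lib.Helper39

/-- a `π`-subgroup meets the `π'`-core trivially -/
theorem eq_one_of_mem_hall_of_mem_core {S : Type*} [Group S] [Finite S] (π : Set ℕ)
    (H : Subgroup S) (hH : ∀ p : ℕ, p.Prime → p ∣ Nat.card H → p ∈ π) {x : S} (hxH : x ∈ H)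
    (hxN : x ∈ Cfsg.piCore πᶜ S) : x = 1 := by
  by_contra hx
  have h1 : orderOf x ≠ 1 := fun h => hx (orderOf_eq_one_iff.mp h)
  obtain ⟨p, hp, hpd⟩ := Nat.exists_prime_and_dvd h1
  have hdH : orderOf x ∣ Nat.card H := by
    have := orderOf_dvd_natCard (⟨x, hxH⟩ : H)
    rwa [Subgroup.orderOf_mk] at this
  have hdN : orderOf x ∣ Nat.card (Cfsg.piCore πᶜ S) := by
    have := orderOf_dvd_natCard (⟨x, hxN⟩ : Cfsg.piCore πᶜ S)
    rwa [Subgroup.orderOf_mk] at this
  exact (isPiGroup_piCore πᶜ p hp (hpd.trans hdN)) (hH p hp (hpd.trans hdH))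

/-- Let S be a finite solvable group, π a set of primes containing neither 2 nor 3, H a Hall π-subgroup of S, and A a self-centralizing normal subgroup of the Fitting subgroup F(H). Then C_S(A) = A × D for a normal subgroup D of C_S(A) whose order has no prime divisor in π. -/
theorem result {S : Type*} [Group S] [Finite S] [Group.IsSolvable S]
    (π : Set ℕ) (h2 : 2 ∉ π) (h3 : 3 ∉ π) (H : Subgroup S) (hH : Cfsg.IsPiHall π H)
    (A : Subgroup S) (hA : Cfsg.IsSCN ((Cfsg.fittingSubgroup H).map H.subtype) A) :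
    ∃ D : Subgroup S, D ≤ Subgroup.centralizer (A : Set S) ∧
      (∀ c ∈ Subgroup.centralizer (A : Set S), ∀ d ∈ D, c * d * c⁻¹ ∈ D) ∧
      A ⊓ D = ⊥ ∧ A ⊔ D = Subgroup.centralizer (A : Set S) ∧
      ∀ q : ℕ, q.Prime → q ∣ Nat.card D → q ∉ π := by
  classical
  set N := Cfsg.piCore πᶜ S with hN
  set F := (Cfsg.fittingSubgroup H).map H.subtype with hFdef
  have hFH : F ≤ H := by
    rintro _ ⟨x, _, rfl⟩
    exact x.2
  obtain ⟨hAF, hFN, hFC⟩ := hA
  have hAC : A ≤ Subgroup.centralizer (A : Set S) := by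
    intro a ha
    have : a ∈ F ⊓ Subgroup.centralizer (A : Set S) := by rw [hFC]; exact ha
    exact this.2
  have hHN : ∀ x : S, x ∈ H → x ∈ N → x = 1 := fun x hxH hxN =>
    eq_one_of_mem_hall_of_mem_core π H hH.1 hxH hxN
  set mk := QuotientGroup.mk' N with hmk
  have hmks : Function.Surjective mk := QuotientGroup.mk'_surjective N
  set Fb := F.map mk with hFb
  set Ab := A.map mk with hAb
  -- hypotheses of the core theorem for `S ⧸ N`
  have h0 : ∀ p : ℕ, p.Prime → p ∉ π → Cfsg.pCore p (S ⧸ N) = ⊥ := by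
    intro p hp hpπ
    have : Fact p.Prime := ⟨hp⟩
    rw [eq_bot_iff, ← Cfsg.Agent.S1886.part_one (X := S) πᶜ]
    have : (Cfsg.pCore p (S ⧸ N)).Normal := Cfsg.Agent.Lib.Helper76.pCore_normal p
    apply le_piCore
    intro r hr hrd
    obtain ⟨n, hn⟩ := (Cfsg.Agent.Lib.Helper76.pCore_isPGroup (G := S ⧸ N) p).exists_card_eq
    rw [hn] at hrd
    have : r = p := (Nat.prime_dvd_prime_iff_eq hr hp).1 (hr.dvd_of_dvd_pow hrd)
    rw [this]
    exact hpπ
  have hψinj : Function.Injective (mk.comp H.subtype) := by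
    rw [injective_iff_map_eq_one]
    intro h hh
    have h1 : (h : S) ∈ N := by
      rw [← QuotientGroup.eq_one_iff]
      exact hh
    exact Subtype.ext (hHN _ h.2 h1)
  have hF' : ∀ p : ℕ, p.Prime → p ∈ π → Cfsg.pCore p (S ⧸ N) ≤ Fb := by
    intro p hp hpπ
    have : Fact p.Prime := ⟨hp⟩
    have hn : (Cfsg.pCore p (S ⧸ N)).Normal := Cfsg.Agent.Lib.Helper76.pCore_normal p
    have hpg : IsPGroup p (Cfsg.pCore p (S ⧸ N)) := Cfsg.Agent.Lib.Helper76.pCore_isPGroup p
    intro xb hxb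
    -- `xb` lies in the image of `H`
    have hxH : xb ∈ H.map mk := by
      have h1 := Cfsg.Agent.Lib.Helper76.pow_index_mem_of_mem_normal_nilpotent
        (hpg.isNilpotent) hxb (H.map mk)
      obtain ⟨j, hj⟩ := (IsPGroup.iff_orderOf.1 hpg) ⟨xb, hxb⟩
      have hj' : orderOf xb = p ^ j := by
        rw [← hj, Subgroup.orderOf_mk]
      have hnd : ¬ p ∣ (H.map mk).index := fun hd =>
        hH.2 p hp hpπ (hd.trans (Subgroup.index_map_dvd H hmks))
      have hcop : (orderOf xb).Coprime (H.map mk).index := by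
        rw [hj']
        exact Nat.Coprime.pow_left j ((Nat.Prime.coprime_iff_not_dvd hp).2 hnd)
      exact Cfsg.Agent.Lib.Helper31.mem_of_pow_mem_of_coprime _ xb _ hcop h1
    obtain ⟨h, hh, rfl⟩ := hxH
    -- the preimage in `H` of `O_p(S ⧸ N)` is a normal `p`-subgroup of `H`
    set P₀ : Subgroup H := (Cfsg.pCore p (S ⧸ N)).comap (mk.comp H.subtype) with hP₀
    have hP₀n : P₀.Normal := Subgroup.Normal.comap hn _
    have hP₀p : IsPGroup p P₀ := hpg.comap_of_injective _ hψinj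
    have hP₀F : P₀ ≤ Cfsg.fittingSubgroup H :=
      Cfsg.Agent.Lib.Helper76.le_fittingSubgroup hP₀n hP₀p.isNilpotent
    have hmem : (⟨h, hh⟩ : H) ∈ P₀ := hxb
    exact ⟨h, ⟨⟨h, hh⟩, hP₀F hmem, rfl⟩, rfl⟩
  have hSCN : Cfsg.IsSCN Fb Ab := by
    refine ⟨Subgroup.map_mono hAF, ?_, ?_⟩
    · calc Fb ≤ (Subgroup.normalizer (A : Set S)).map mk := Subgroup.map_mono hFN
        _ ≤ Subgroup.normalizer (Ab : Set (S ⧸ N)) := Subgroup.le_normalizer_map mk
    · apply le_antisymm
      · rintro _ ⟨⟨f, hf, rfl⟩, hc'⟩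
        have hc : mk f ∈ Subgroup.centralizer (Ab : Set (S ⧸ N)) := hc'
        rw [Subgroup.mem_centralizer_iff] at hc
        have hfC : f ∈ Subgroup.centralizer (A : Set S) := by
          rw [Subgroup.mem_centralizer_iff]
          intro a ha
          have h1 : mk a * mk f = mk f * mk a := hc (mk a) ⟨a, ha, rfl⟩
          rw [← map_mul, ← map_mul] at h1
          have h2 : (f * a)⁻¹ * (a * f) ∈ N := by
            rw [← QuotientGroup.eq]
            exact h1.symm
          have h3 : (f * a)⁻¹ * (a * f) ∈ H :=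
            H.mul_mem (H.inv_mem (H.mul_mem (hFH hf) (hFH (hAF ha))))
              (H.mul_mem (hFH (hAF ha)) (hFH hf))
          have h4 := hHN _ h3 h2
          calc a * f = (f * a) * ((f * a)⁻¹ * (a * f)) := by group
            _ = f * a := by rw [h4, mul_one]
        have hfA : f ∈ A := by
          rw [← hFC]
          exact ⟨hf, hfC⟩
        exact ⟨f, hfA, rfl⟩
      · refine le_inf (Subgroup.map_mono hAF) ?_
        rintro _ ⟨a, ha, rfl⟩
        rw [Subgroup.mem_centralizer_iff]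
        rintro _ ⟨b, hb, rfl⟩
        have := Subgroup.mem_centralizer_iff.mp (hAC ha) b hb
        rw [← map_mul, ← map_mul, this]
  have hcore : Subgroup.centralizer (Ab : Set (S ⧸ N)) ≤ Ab :=
    SCNCent.centralizer_le π h2 h3 h0 Fb Ab hF' hSCN
  -- the complement
  refine ⟨N ⊓ Subgroup.centralizer (A : Set S), inf_le_right, ?_, ?_, ?_, ?_⟩
  · intro c hc d hd
    refine ⟨(inferInstance : N.Normal).conj_mem d hd.1 c, ?_⟩
    exact Subgroup.mul_mem _ (Subgroup.mul_mem _ hc hd.2) (Subgroup.inv_mem _ hc)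
  · rw [eq_bot_iff]
    rintro x ⟨hxA, hxN, _⟩
    rw [Subgroup.mem_bot]
    exact hHN x (hFH (hAF hxA)) hxN
  · apply le_antisymm (sup_le hAC inf_le_right)
    intro c hc
    have hcb : mk c ∈ Subgroup.centralizer (Ab : Set (S ⧸ N)) := by
      rw [Subgroup.mem_centralizer_iff]
      rintro _ ⟨a, ha, rfl⟩
      have := Subgroup.mem_centralizer_iff.mp hc a ha
      rw [← map_mul, ← map_mul, this]
    obtain ⟨a, ha, hac⟩ := hcore hcb
    have h1 : a⁻¹ * c ∈ N := by
      rw [← QuotientGroup.eq]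
      exact hac
    have h2 : a⁻¹ * c ∈ Subgroup.centralizer (A : Set S) :=
      Subgroup.mul_mem _ (Subgroup.inv_mem _ (hAC ha)) hc
    have h3 : c = a * (a⁻¹ * c) := by group
    rw [h3]
    exact Subgroup.mul_mem_sup ha ⟨h1, h2⟩
  · intro q hq hqd hqπ
    have hd : Nat.card ↥(N ⊓ Subgroup.centralizer (A : Set S)) ∣ Nat.card N :=
      Subgroup.card_dvd_of_le inf_le_left
    exact (isPiGroup_piCore πᶜ q hq (hqd.trans hd)) hqπ

end Cfsg.Agent.S1893
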