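import Cfsg.Statements.S1894
import Cfsg.Agent.Lib.Helper39.PGroupBasic
import Cfsg.Agent.Lib.Helper39.SubgroupBasic

set_option autoImplicit false
open Cfsg

namespace Cfsg.Agent.S1894

open Cfsg.Agent.Lib.Helper39

/-- Let P be a finite p-group, A a normal subgroup of P and B an abelian subgroup of A that is normal in P. Then some subgroup C of A containing B is normal in P and is self-centralizing and normal in A (C ∈ SCN(A)). -/
theorem result {P : Type*} [Group P] [Finite P] {p : ℕ} [Fact p.Prime] (hP : IsPGroup p P)
    (A : Subgroup P) [A.Normal] (B : Subgroup P) [B.Normal] (hBA : B ≤ A) (hB : IsMulCommutative B) :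
    ∃ C : Subgroup P, C.Normal ∧ B ≤ C ∧ Cfsg.IsSCN A C := by
  classical
  let S : Set (Subgroup P) := {C | C.Normal ∧ B ≤ C ∧ C ≤ A ∧ IsMulCommutative C}
  have hSfin : S.Finite := Set.toFinite S
  have hBS : B ∈ S := ⟨inferInstance, le_rfl, hBA, hB⟩
  obtain ⟨C, hBC, hCmax⟩ := hSfin.exists_le_maximal hBS
  obtain ⟨⟨hCn, hBC', hCA, hCc⟩, hmax⟩ := hCmax
  refine ⟨C, hCn, hBC', hCA, ?_, ?_⟩
  · rw [Subgroup.normalizer_eq_top_iff.mpr hCn]; exact le_top
  · apply le_antisymm
    · by_contra hnot
      -- the quotient P ⧸ C and the normal subgroup image of A ⊓ centralizer C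
      let N : Subgroup (P ⧸ C) := (A ⊓ Subgroup.centralizer (C : Set P)).map (QuotientGroup.mk' C)
      have : (Subgroup.centralizer (C : Set P)).Normal := inferInstance
      have : (A ⊓ Subgroup.centralizer (C : Set P)).Normal := inferInstance
      have hNn : N.Normal :=
        Subgroup.Normal.map inferInstance _ (QuotientGroup.mk'_surjective C)
      have hN1 : N ≠ ⊥ := by
        intro h
        apply hnot
        intro x hx
        have : (QuotientGroup.mk' C) x ∈ N := Subgroup.mem_map_of_mem _ hx
        rw [h, Subgroup.mem_bot] at this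
        exact (QuotientGroup.eq_one_iff x).mp this
      obtain ⟨z, hzN, hzc, hz1⟩ :=
        exists_mem_center_of_normal_ne_bot (hP.to_quotient C) N hN1
      obtain ⟨x, hx, rfl⟩ := hzN
      have hxC : x ∉ C := fun h => hz1 ((QuotientGroup.eq_one_iff x).mpr h)
      have hxA : x ∈ A := hx.1
      have hxcent : x ∈ Subgroup.centralizer (C : Set P) := hx.2
      let D : Subgroup P := Subgroup.closure ((C : Set P) ∪ {x})
      have hCD : C ≤ D := by
        intro c hc
        exact Subgroup.subset_closure (Or.inl hc)
      have hxD : x ∈ D := Subgroup.subset_closure (Or.inr rfl)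
      have hDS : D ∈ S := by
        refine ⟨?_, hBC'.trans hCD, ?_, ?_⟩
        · -- normality
          apply closure_normal_of_conj_mem
          rintro g a (ha | ha)
          · exact hCD (hCn.conj_mem a ha g)
          · rw [Set.mem_singleton_iff] at ha
            rw [ha]
            have hcomm : (QuotientGroup.mk' C) g * (QuotientGroup.mk' C) x =
                (QuotientGroup.mk' C) x * (QuotientGroup.mk' C) g :=
              (Subgroup.mem_center_iff.mp hzc ((QuotientGroup.mk' C) g))
            have hmem : g * x * g⁻¹ * x⁻¹ ∈ C := by
              rw [← QuotientGroup.eq_one_iff]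
              have : ((g * x * g⁻¹ * x⁻¹ : P) : P ⧸ C) =
                  (QuotientGroup.mk' C) g * (QuotientGroup.mk' C) x * ((QuotientGroup.mk' C) g)⁻¹ *
                    ((QuotientGroup.mk' C) x)⁻¹ := by
                simp
              rw [this, hcomm]
              group
            have : g * x * g⁻¹ = (g * x * g⁻¹ * x⁻¹) * x := by group
            rw [this]
            exact Subgroup.mul_mem _ (hCD hmem) hxD
        · rw [Subgroup.closure_le]
          rintro y (hy | hy)
          · exact hCA hy
          · rw [Set.mem_singleton_iff] at hy; rw [hy]; exact hxA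
        · apply Subgroup.isMulCommutative_closure
          rintro a (ha | ha) b (hb | hb)
          · exact setLike_mul_comm ha hb
          · rw [Set.mem_singleton_iff] at hb; rw [hb]
            exact (hxcent a ha)
          · rw [Set.mem_singleton_iff] at ha; rw [ha]
            exact (hxcent b hb).symm
          · rw [Set.mem_singleton_iff] at ha hb; rw [ha, hb]
      have : D ≤ C := hmax hDS hCD
      exact hxC (this hxD)
    · intro c hc
      exact ⟨hCA hc, (Subgroup.le_centralizer_iff_isMulCommutative.mpr hCc) hc⟩

end Cfsg.Agent.S1894
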