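import Cfsg.Statements.S1898
-- import your own Cfsg.Agent.* helpers here

set_option autoImplicit false
open Cfsg

namespace Cfsg.Agent.S1898

open scoped commutatorElement

section aux
variable {X : Type*} [Group X]

/-- In a group, if `y * x = x * y * c` with `c` central, then `(x*y)^2 = x^2 * y^2 * c`. -/
theorem sq_mul_of_central (x y c : X) (hc : ∀ g : X, c * g = g * c) (hyx : y * x = x * y * c) :
    (x * y) ^ 2 = x ^ 2 * y ^ 2 * c := by
  calc (x * y) ^ 2 = x * (y * x) * y := by rw [pow_two]; group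
    _ = x * (x * y * c) * y := by rw [hyx]
    _ = x * x * y * (c * y) := by group
    _ = x * x * y * (y * c) := by rw [hc y]
    _ = x ^ 2 * y ^ 2 * c := by rw [pow_two, pow_two]; group

theorem pow_four_mul_of_central (x y c : X) (hc : ∀ g : X, c * g = g * c) (hyx : y * x = x * y * c)
    (hc2 : c ^ 2 = 1) : (x * y) ^ 4 = x ^ 4 * y ^ 4 := by
  have hcinv : c⁻¹ = c := by
    have : c * c = 1 := by rw [← pow_two]; exact hc2
    exact inv_eq_of_mul_eq_one_left this
  have hxy : x * y = y * x * c := by
    rw [hyx]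
    calc x * y = x * y * (c * c) := by rw [← pow_two, hc2, mul_one]
      _ = x * y * c * c := by group
  have e1 := sq_mul_of_central x y c hc hyx
  have e2 := sq_mul_of_central y x c hc hxy
  have hcomm : Commute (x * y) c := (hc (x * y)).symm
  have e3 : (y * x) ^ 2 = (x * y) ^ 2 := by
    rw [hyx, hcomm.mul_pow, hc2, mul_one]
  have e4 : x ^ 2 * y ^ 2 = y ^ 2 * x ^ 2 := by
    have : x ^ 2 * y ^ 2 * c = y ^ 2 * x ^ 2 * c := by rw [← e1, ← e2, e3]
    exact mul_right_cancel this
  have hcomm2 : Commute (x ^ 2 * y ^ 2) c := (hc _).symm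
  have hcomm3 : Commute (x ^ 2) (y ^ 2) := e4
  calc (x * y) ^ 4 = ((x * y) ^ 2) ^ 2 := by rw [← pow_mul]
    _ = (x ^ 2 * y ^ 2 * c) ^ 2 := by rw [e1]
    _ = (x ^ 2 * y ^ 2) ^ 2 := by rw [hcomm2.mul_pow, hc2, mul_one]
    _ = (x ^ 2) ^ 2 * (y ^ 2) ^ 2 := hcomm3.mul_pow 2
    _ = x ^ 4 * y ^ 4 := by rw [← pow_mul, ← pow_mul]

end aux

theorem pow_four_mul {X : Type*} [Group X]
    (hel : Cfsg.IsElementaryAbelian 2 (commutator X)) (hcen : commutator X ≤ Subgroup.center X)
    (x y : X) : (x * y) ^ 4 = x ^ 4 * y ^ 4 := by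
  set c : X := ⁅y⁻¹, x⁻¹⁆ with hcdef
  have hcmem : c ∈ commutator X := by
    rw [commutator_def]
    exact Subgroup.commutator_mem_commutator (Subgroup.mem_top _) (Subgroup.mem_top _)
  have hc : ∀ g : X, c * g = g * c := by
    intro g
    exact ((Subgroup.mem_center_iff.mp (hcen hcmem)) g).symm
  have hyx : y * x = x * y * c := by
    rw [hcdef, commutatorElement_def]; group
  exact pow_four_mul_of_central x y c hc hyx (hel.2 c hcmem)

theorem aut_pow_fix {X : Type*} [Group X] (φ : MulAut X) (k : X) (hk : φ k = k) (n : ℕ) :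
    (φ ^ n) k = k := by
  induction n with
  | zero => simp
  | succ n ih => rw [pow_succ, MulAut.mul_apply, hk, ih]

theorem aut_pow_shift {X : Type*} [Group X] (ψ : MulAut X) (x k : X) (hx : ψ x = x * k) (hk : ψ k = k)
    (m : ℕ) : (ψ ^ m) x = x * k ^ m := by
  induction m with
  | zero => simp
  | succ m ih =>
    rw [pow_succ', MulAut.mul_apply, ih, map_mul, map_pow, hx, hk, pow_succ']
    group

/-- Let X be a finite 2-group whose derived subgroup is elementary abelian and central. Then the subgroup generated by the elements of order dividing 4 has exponent dividing 4, and every automorphism of X fixing each element of order dividing 4 has 2-power order. -/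
theorem result {X : Type*} [Group X] [Finite X] (hX : IsPGroup 2 X)
    (hel : Cfsg.IsElementaryAbelian 2 (commutator X)) (hcen : commutator X ≤ Subgroup.center X) :
    (∀ x ∈ Subgroup.closure {g : X | g ^ 4 = 1}, x ^ 4 = 1) ∧
      ∀ φ : MulAut X, (∀ g : X, g ^ 4 = 1 → φ g = g) → ∃ k : ℕ, φ ^ (2 ^ k) = 1 := by
  have hmul := pow_four_mul hel hcen
  constructor
  · intro x hx
    induction hx using Subgroup.closure_induction with
    | mem x hx => exact hx
    | one => simp
    | mul x y _ _ hx hy => rw [hmul, hx, hy, one_mul]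
    | inv x _ hx => rw [inv_pow, hx, inv_one]
  · intro φ hφ
    -- key claim
    have key : ∀ i : ℕ, ∀ x : X, x ^ (4 ^ (i + 1)) = 1 → (φ ^ (4 ^ i)) x = x := by
      intro i
      induction i with
      | zero =>
        intro x hx
        simp only [zero_add, pow_one] at hx
        simpa using hφ x hx
      | succ i ih =>
        intro x hx
        set ψ : MulAut X := φ ^ (4 ^ i) with hψ
        have h1 : (x ^ 4) ^ (4 ^ (i + 1)) = 1 := by
          rw [← pow_mul, ← pow_succ']; exact hx
        have h2 : ψ (x ^ 4) = x ^ 4 := ih _ h1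
        rw [map_pow] at h2
        set k : X := x⁻¹ * ψ x with hkdef
        have hk4 : k ^ 4 = 1 := by
          rw [hkdef, hmul, h2, inv_pow]; group
        have hψx : ψ x = x * k := by rw [hkdef]; group
        have hφk : φ k = k := hφ k hk4
        have hψk : ψ k = k := aut_pow_fix φ k hφk _
        have := aut_pow_shift ψ x k hψx hψk 4
        rw [hk4, mul_one, hψ, ← pow_mul, ← pow_succ] at this
        exact this
    obtain ⟨n, hn⟩ := IsPGroup.iff_card.mp hX
    refine ⟨2 * n, ?_⟩
    have h4 : (2 : ℕ) ^ (2 * n) = 4 ^ n := by rw [pow_mul]; norm_num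
    rw [h4]
    ext x
    rw [MulAut.one_apply]
    apply key n
    have hx : x ^ (2 ^ n) = 1 := by rw [← hn]; exact pow_card_eq_one'
    have h5 : (4 : ℕ) ^ (n + 1) = 2 ^ n * 2 ^ (n + 2) := by
      rw [← pow_add]
      have : (4 : ℕ) = 2 ^ 2 := by norm_num
      rw [this, ← pow_mul]
      congr 1; ring
    rw [h5, pow_mul, hx, one_pow]

end Cfsg.Agent.S1898
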