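import Cfsg.Statements.S1899
import Mathlib.GroupTheory.Complement

set_option autoImplicit false
open Cfsg

namespace Cfsg.Agent.S1899

/-- Let a dihedral group of order 2n, n odd and n > 1, act on a finite abelian 2-group A through automorphisms d and t with d^n = 1, t² = 1 and t d t⁻¹ = d⁻¹, and suppose that d fixes only the identity. Then A is the internal direct product of C_A(t) and its image under d. -/
theorem result {A : Type*} [CommGroup A] [Finite A] (hA : IsPGroup 2 A)
    {n : ℕ} (hn : Odd n) (hn1 : 1 < n) (d t : MulAut A) (hd : d ^ n = 1) (ht : t ^ 2 = 1) (hdt : t * d * t⁻¹ = d⁻¹)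
    (hfix : ∀ a : A, d a = a → a = 1) :
    (MulEquiv.toMonoidHom t).eqLocus (MonoidHom.id A) ⊓ ((MulEquiv.toMonoidHom t).eqLocus (MonoidHom.id A)).map d.toMonoidHom = ⊥ ∧
      (MulEquiv.toMonoidHom t).eqLocus (MonoidHom.id A) ⊔ ((MulEquiv.toMonoidHom t).eqLocus (MonoidHom.id A)).map d.toMonoidHom = ⊤ := by
  -- elementwise facts
  have F1 : ∀ a : A, t (t a) = a := by
    intro a
    have := congrArg (fun f : MulAut A => f a) ht
    simpa [pow_two, MulAut.mul_apply] using this
  have F2 : ∀ a : A, d (t (d a)) = t a := by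
    intro a
    have h1 : d * (t * d * t⁻¹) = 1 := by rw [hdt]; simp
    have h2 := congrArg (fun f : MulAut A => f (t a)) h1
    simpa [MulAut.mul_apply] using h2
  -- d² a = a → a = 1
  have F3 : ∀ a : A, d (d a) = a → a = 1 := by
    intro a ha
    apply hfix
    obtain ⟨m, hm⟩ := hn
    have h1 : ∀ j : ℕ, (d ^ (2 * j)) a = a := by
      intro j
      induction j with
      | zero => simp
      | succ j ih =>
        have : 2 * (j + 1) = 2 * j + 2 := by ring
        rw [this, pow_add, MulAut.mul_apply, pow_two, MulAut.mul_apply, ha, ih]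
    have h2 := congrArg (fun f : MulAut A => f a) hd
    simp only [MulAut.one_apply] at h2
    rw [hm, pow_succ', MulAut.mul_apply, h1 m] at h2
    exact h2
  set C : Subgroup A := (MulEquiv.toMonoidHom t).eqLocus (MonoidHom.id A) with hC
  set I : Subgroup A := (MulEquiv.toMonoidHom t).eqLocus (invMonoidHom : A →* A) with hI
  have memC : ∀ a : A, a ∈ C ↔ t a = a := by
    intro a; rfl
  have memI : ∀ a : A, a ∈ I ↔ t a = a⁻¹ := by
    intro a; rfl
  have hdinj : Function.Injective d.toMonoidHom := d.injective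
  -- C ⊓ d C = ⊥
  have hCdisj : C ⊓ C.map d.toMonoidHom = ⊥ := by
    rw [eq_bot_iff]
    rintro a ⟨haC, b, hbC, hba⟩
    rw [Subgroup.mem_bot]
    have hba' : d b = a := hba
    have h1 : t a = a := (memC a).mp haC
    have h2 : t b = b := (memC b).mp hbC
    have h3 := F2 b
    rw [hba', h1, h2] at h3
    apply F3
    rw [h3, hba']
  have hIdisj : I ⊓ I.map d.toMonoidHom = ⊥ := by
    rw [eq_bot_iff]
    rintro a ⟨haI, b, hbI, hba⟩
    rw [Subgroup.mem_bot]
    have hba' : d b = a := hba
    have h1 : t a = a⁻¹ := (memI a).mp haI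
    have h2 : t b = b⁻¹ := (memI b).mp hbI
    have h3 := F2 b
    rw [hba', h1, h2, map_inv, inv_inj] at h3
    apply F3
    rw [h3, hba']
  -- the hom a ↦ a * t a
  let φ : A →* A := MonoidHom.id A * (MulEquiv.toMonoidHom t)
  have hφ : ∀ a, φ a = a * t a := fun a => rfl
  have hker : φ.ker ≤ I := by
    intro a ha
    rw [MonoidHom.mem_ker, hφ] at ha
    rw [memI]
    exact (eq_inv_of_mul_eq_one_right ha)
  have hrange : φ.range ≤ C := by
    rintro _ ⟨a, rfl⟩
    rw [memC, hφ, map_mul, F1, mul_comm]
  have hcardA : Nat.card A = Nat.card φ.ker * Nat.card φ.range := by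
    rw [← Subgroup.index_ker, Subgroup.card_mul_index]
  have hle1 : Nat.card A ≤ Nat.card I * Nat.card C := by
    rw [hcardA]
    exact Nat.mul_le_mul (Subgroup.card_le_of_le hker) (Subgroup.card_le_of_le hrange)
  have hprodle : ∀ H : Subgroup A, H ⊓ H.map d.toMonoidHom = ⊥ → Nat.card H * Nat.card H ≤ Nat.card A := by
    intro H hH
    have hdis : Disjoint H (H.map d.toMonoidHom) := disjoint_iff.mpr hH
    have h1 := Nat.card_le_card_of_injective _ (Subgroup.mul_injective_of_disjoint hdis)
    rw [Nat.card_prod, Subgroup.card_map_of_injective hdinj] at h1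
    exact h1
  have hC2 := hprodle C hCdisj
  have hI2 := hprodle I hIdisj
  have hApos : 0 < Nat.card A := Nat.card_pos
  have hCeq : Nat.card C * Nat.card C = Nat.card A := by
    by_contra hne
    have hlt : Nat.card C * Nat.card C < Nat.card A := lt_of_le_of_ne hC2 hne
    have h1 : Nat.card A * Nat.card A ≤ (Nat.card I * Nat.card C) * (Nat.card I * Nat.card C) :=
      Nat.mul_le_mul hle1 hle1
    have h2 : (Nat.card I * Nat.card C) * (Nat.card I * Nat.card C)
        = (Nat.card I * Nat.card I) * (Nat.card C * Nat.card C) := by ring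
    have hIpos : 0 < Nat.card I * Nat.card I := Nat.mul_pos Nat.card_pos Nat.card_pos
    have h3 : (Nat.card I * Nat.card I) * (Nat.card C * Nat.card C) < Nat.card A * Nat.card A :=
      calc (Nat.card I * Nat.card I) * (Nat.card C * Nat.card C)
          < (Nat.card I * Nat.card I) * Nat.card A := Nat.mul_lt_mul_of_pos_left hlt hIpos
        _ ≤ Nat.card A * Nat.card A := Nat.mul_le_mul_right _ hI2
    omega
  refine ⟨hCdisj, ?_⟩
  have hcompl : Subgroup.IsComplement' C (C.map d.toMonoidHom) := by
    apply Subgroup.isComplement'_of_card_mul_and_disjoint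
    · rw [Subgroup.card_map_of_injective hdinj]; exact hCeq
    · exact disjoint_iff.mpr hCdisj
  exact hcompl.sup_eq_top

end Cfsg.Agent.S1899
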