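import Cfsg.Statements.S1900
import Cfsg.Agent.Lib.Helper39.HyperplaneGen
import Cfsg.Agent.Lib.Helper32.CoprimeDecomp
import Cfsg.Agent.Lib.Helper28.AxB
import Cfsg.Agent.Lib.Helper28.FittingCent
import Cfsg.Agent.Lib.Helper53.Conj
import Cfsg.Agent.Lib.Helper01.Coprime

set_option autoImplicit false
set_option linter.style.haveILetI false
open Cfsg

namespace Cfsg.Agent.S1900

open scoped commutatorElement

section aux

variable {S : Type*} [Group S] [Finite S]

/-- fixed-point-free coprime action: `U = [U, X]` -/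
theorem le_commutator_of_fpf {p : ℕ} [Fact p.Prime] {U X : Subgroup S} (hU : IsPGroup p U)
    (hX : (Nat.card U).Coprime (Nat.card X)) (hXU : X ≤ Subgroup.normalizer (U : Set S))
    (hfix : U ⊓ Subgroup.centralizer (X : Set S) = ⊥) : U ≤ ⁅U, X⁆ := by
  haveI : Group.IsNilpotent U := hU.isNilpotent
  have h := Cfsg.Agent.Lib.Helper32.le_centralizer_sup_commutator hXU hX (Or.inl inferInstance)
  rwa [hfix, bot_sup_eq] at h

theorem card_coprime_of_isPGroup {p q : ℕ} [Fact p.Prime] [Fact q.Prime] (hpq : p ≠ q)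
    {U X : Subgroup S} (hU : IsPGroup p U) (hX : Nat.card X = q) :
    (Nat.card U).Coprime (Nat.card X) := by
  obtain ⟨k, hk⟩ := IsPGroup.iff_card.mp hU
  rw [hk, hX]
  exact Nat.Coprime.pow_left k ((Nat.coprime_primes Fact.out Fact.out).mpr hpq)

end aux

/-- Let S = PQ be a finite group with P a normal Sylow p-subgroup and Q elementary abelian of order q², q a prime different from p. If exactly two subgroups X₁, X₂ of order q in Q have a nontrivial centralizer in P, then P is the internal direct product of C_P(X₁) and C_P(X₂): they commute elementwise, meet trivially and generate P. -/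
theorem result {S : Type*} [Group S] [Finite S] {p q : ℕ} [Fact p.Prime] [Fact q.Prime] (hpq : p ≠ q)
    (P : Sylow p S) [(P : Subgroup S).Normal] (Q : Subgroup S) (hQ : Cfsg.IsElementaryAbelian q Q) (hQc : Nat.card Q = q ^ 2)
    (hS : (P : Subgroup S) ⊔ Q = ⊤)
    (X₁ X₂ : Subgroup S) (h₁ : X₁ ≤ Q) (h₂ : X₂ ≤ Q) (h₁₂ : X₁ ≠ X₂) (hc₁ : Nat.card X₁ = q) (hc₂ : Nat.card X₂ = q)
    (hf₁ : (P : Subgroup S) ⊓ Subgroup.centralizer (X₁ : Set S) ≠ ⊥)
    (hf₂ : (P : Subgroup S) ⊓ Subgroup.centralizer (X₂ : Set S) ≠ ⊥)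
    (honly : ∀ X : Subgroup S, X ≤ Q → Nat.card X = q →
      (P : Subgroup S) ⊓ Subgroup.centralizer (X : Set S) ≠ ⊥ → X = X₁ ∨ X = X₂) :
    ⁅(P : Subgroup S) ⊓ Subgroup.centralizer (X₁ : Set S), (P : Subgroup S) ⊓ Subgroup.centralizer (X₂ : Set S)⁆ = ⊥ ∧
      ((P : Subgroup S) ⊓ Subgroup.centralizer (X₁ : Set S)) ⊓ ((P : Subgroup S) ⊓ Subgroup.centralizer (X₂ : Set S)) = ⊥ ∧
      ((P : Subgroup S) ⊓ Subgroup.centralizer (X₁ : Set S)) ⊔ ((P : Subgroup S) ⊓ Subgroup.centralizer (X₂ : Set S)) = P := by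
  classical
  have hq : q.Prime := Fact.out
  set R : Subgroup S := (P : Subgroup S) with hR
  have hRp : IsPGroup p R := P.2
  have hRN : Subgroup.normalizer (R : Set S) = ⊤ := Subgroup.normalizer_eq_top_iff.mpr inferInstance
  set R₁ : Subgroup S := R ⊓ Subgroup.centralizer (X₁ : Set S) with hR₁
  set R₂ : Subgroup S := R ⊓ Subgroup.centralizer (X₂ : Set S) with hR₂
  have hQcomm : ∀ a ∈ Q, ∀ b ∈ Q, a * b = b * a := by
    intro a ha b hb
    have := hQ.1.is_comm.comm (⟨a, ha⟩ : Q) ⟨b, hb⟩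
    exact congrArg Subtype.val this
  have hQp : ∀ a ∈ Q, a ^ q = 1 := hQ.2
  have hQR : Q ≤ Subgroup.normalizer (R : Set S) := by rw [hRN]; exact le_top
  -- generators
  have hgen : ∀ X : Subgroup S, Nat.card X = q → ∃ a ∈ X, a ≠ 1 ∧ X = Subgroup.zpowers a := by
    intro X hX
    have hnt : X ≠ ⊥ := by
      intro h
      rw [h, Subgroup.card_bot] at hX
      exact hq.one_lt.ne hX
    obtain ⟨a, ha1⟩ := (Subgroup.ne_bot_iff_exists_ne_one.mp hnt)
    have ha' : (a : S) ≠ 1 := fun h => ha1 (Subtype.ext h)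
    refine ⟨a, a.2, ha', ?_⟩
    symm
    apply Subgroup.eq_of_le_of_card_ge (Subgroup.zpowers_le.mpr a.2)
    rw [Nat.card_zpowers, hX]
    have h1 : orderOf (a : S) ∣ q := by
      have := orderOf_dvd_natCard a
      rwa [hX, ← Subgroup.orderOf_coe] at this
    rcases (Nat.dvd_prime hq).mp h1 with h | h
    · exact absurd (orderOf_eq_one_iff.mp h) ha'
    · exact h.ge
  obtain ⟨a, haX, ha1, hXa⟩ := hgen X₁ hc₁
  obtain ⟨b, hbX, hb1, hXb⟩ := hgen X₂ hc₂
  have haQ : a ∈ Q := h₁ haX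
  have hbQ : b ∈ Q := h₂ hbX
  have hab : a * b = b * a := hQcomm a haQ b hbQ
  -- the third subgroup
  set X₃ : Subgroup S := Subgroup.zpowers (a * b) with hX₃
  have hbX₁ : b ∉ X₁ := by
    intro h
    apply h₁₂
    symm
    apply Subgroup.eq_of_le_of_card_ge
    · rw [hXb]; exact Subgroup.zpowers_le.mpr h
    · rw [hc₁, hc₂]
  have haX₂ : a ∉ X₂ := by
    intro h
    apply h₁₂
    apply Subgroup.eq_of_le_of_card_ge
    · rw [hXa]; exact Subgroup.zpowers_le.mpr h
    · rw [hc₁, hc₂]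
  have habne : a * b ≠ 1 := by
    intro h
    apply hbX₁
    have : b = a⁻¹ := by
      rw [eq_inv_iff_mul_eq_one, ← hab]; exact h
    rw [this]
    exact X₁.inv_mem haX
  have hX₃Q : X₃ ≤ Q := Subgroup.zpowers_le.mpr (Q.mul_mem haQ hbQ)
  have hX₃c : Nat.card X₃ = q := by
    rw [hX₃, Nat.card_zpowers]
    have h1 : orderOf (a * b) ∣ q := orderOf_dvd_of_pow_eq_one (hQp _ (Q.mul_mem haQ hbQ))
    rcases (Nat.dvd_prime hq).mp h1 with h | h
    · exact absurd (orderOf_eq_one_iff.mp h) habne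
    · exact h
  have hX₃1 : X₃ ≠ X₁ := by
    intro h
    apply hbX₁
    have h1 : a * b ∈ X₁ := h ▸ Subgroup.mem_zpowers (a * b)
    have : b = a⁻¹ * (a * b) := by group
    rw [this]
    exact X₁.mul_mem (X₁.inv_mem haX) h1
  have hX₃2 : X₃ ≠ X₂ := by
    intro h
    apply haX₂
    have h1 : a * b ∈ X₂ := h ▸ Subgroup.mem_zpowers (a * b)
    have : a = (a * b) * b⁻¹ := by group
    rw [this]
    exact X₂.mul_mem h1 (X₂.inv_mem hbX)
  have hfix₃ : R ⊓ Subgroup.centralizer (X₃ : Set S) = ⊥ := by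
    by_contra hne
    rcases honly X₃ hX₃Q hX₃c hne with h | h
    · exact hX₃1 h
    · exact hX₃2 h
  -- membership in centralizers of the cyclic groups
  have hmemC₁ : ∀ x : S, x ∈ Subgroup.centralizer (X₁ : Set S) ↔ a * x = x * a := by
    intro x
    rw [hXa, Subgroup.mem_centralizer_iff]
    constructor
    · intro h; exact h a (Subgroup.mem_zpowers a)
    · intro h y hy
      obtain ⟨k, rfl⟩ := Subgroup.mem_zpowers_iff.mp hy
      have h1 : Commute a x := h
      exact (h1.zpow_left k).eq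
  have hmemC₂ : ∀ x : S, x ∈ Subgroup.centralizer (X₂ : Set S) ↔ b * x = x * b := by
    intro x
    rw [hXb, Subgroup.mem_centralizer_iff]
    constructor
    · intro h; exact h b (Subgroup.mem_zpowers b)
    · intro h y hy
      obtain ⟨k, rfl⟩ := Subgroup.mem_zpowers_iff.mp hy
      have h1 : Commute b x := h
      exact (h1.zpow_left k).eq
  have hmemC₃ : ∀ x : S, a * x = x * a → b * x = x * b →
      x ∈ Subgroup.centralizer (X₃ : Set S) := by
    intro x hxa hxb
    rw [hX₃, Subgroup.mem_centralizer_iff]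
    intro y hy
    obtain ⟨k, rfl⟩ := Subgroup.mem_zpowers_iff.mp hy
    have h1 : Commute (a * b) x := Commute.mul_left hxa hxb
    exact (h1.zpow_left k).eq
  -- (2)
  have hinf : R₁ ⊓ R₂ = ⊥ := by
    rw [eq_bot_iff, ← hfix₃]
    intro x hx
    refine Subgroup.mem_inf.mpr ⟨hx.1.1, hmemC₃ x ((hmemC₁ x).mp hx.1.2) ((hmemC₂ x).mp hx.2.2)⟩
  -- the generation lemma
  have hgenU : ∀ U : Subgroup S, U ≤ R → Q ≤ Subgroup.normalizer (U : Set S) →
      U ≤ (U ⊓ Subgroup.centralizer (X₁ : Set S)) ⊔ (U ⊓ Subgroup.centralizer (X₂ : Set S)) := by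
    intro U hUR hQU
    have hUc : (Nat.card U).Coprime q := by
      obtain ⟨k, hk⟩ := IsPGroup.iff_card.mp (hRp.to_le hUR)
      rw [hk]
      exact Nat.Coprime.pow_left k ((Nat.coprime_primes Fact.out hq).mpr hpq)
    apply Cfsg.Agent.Lib.Helper39.le_of_hyperplane_centralizers_le (p := q) hQcomm hQp hUc hQU
    intro B hBQ hBcard
    by_cases hB1 : B = X₁
    · rw [hB1]; exact le_sup_left
    by_cases hB2 : B = X₂
    · rw [hB2]; exact le_sup_right
    have hRB : R ⊓ Subgroup.centralizer (B : Set S) = ⊥ := by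
      have hdvd : Nat.card B ∣ q ^ 2 := hQc ▸ Subgroup.card_dvd_of_le hBQ
      obtain ⟨k, hk2, hk⟩ := (Nat.dvd_prime_pow hq).mp hdvd
      rw [hQc, hk] at hBcard
      have hk1 : 1 ≤ k := by
        rcases Nat.eq_zero_or_pos k with h0 | h0
        · rw [h0, pow_zero, mul_one, pow_two] at hBcard
          have := hq.one_lt
          nlinarith
        · exact h0
      have hk' : k = 1 ∨ k = 2 := by omega
      rcases hk' with rfl | rfl
      · rw [pow_one] at hk
        by_contra hne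
        rcases honly B hBQ hk hne with h | h
        · exact hB1 h
        · exact hB2 h
      · have hBQ' : B = Q := Subgroup.eq_of_le_of_card_ge hBQ (by rw [hk, hQc])
        rw [eq_bot_iff, ← hfix₃, hBQ']
        exact inf_le_inf_left _ (Subgroup.centralizer_le hX₃Q)
    calc U ⊓ Subgroup.centralizer (B : Set S) ≤ R ⊓ Subgroup.centralizer (B : Set S) :=
          inf_le_inf_right _ hUR
      _ = ⊥ := hRB
      _ ≤ _ := bot_le
  -- (3)
  have hsup : R₁ ⊔ R₂ = R := le_antisymm (sup_le inf_le_left inf_le_left) (hgenU R le_rfl hQR)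
  -- normalizing facts
  have hQR₁ : Q ≤ Subgroup.normalizer (R₁ : Set S) :=
    Cfsg.Agent.Lib.Helper39.normalizes_inf_centralizer hQcomm hQR X₁ h₁
  have hQR₂ : Q ≤ Subgroup.normalizer (R₂ : Set S) :=
    Cfsg.Agent.Lib.Helper39.normalizes_inf_centralizer hQcomm hQR X₂ h₂
  have hNN : ∀ H : Subgroup S, Subgroup.normalizer (H : Set S) ≤
      Subgroup.normalizer ((Subgroup.normalizer (H : Set S) : Subgroup S) : Set S) :=
    fun H => Subgroup.le_normalizer
  -- T
  set T : Subgroup S := R₁ ⊓ Subgroup.normalizer (R₂ : Set S) with hT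
  have hQT : Q ≤ Subgroup.normalizer (T : Set S) :=
    (le_inf hQR₁ (hQR₂.trans (hNN R₂))).trans Subgroup.inf_normalizer_le_normalizer_inf
  have hTR : T ≤ R := inf_le_left.trans inf_le_left
  have hTR₂ : ⁅T, R₂⁆ = ⊥ := by
    have hTfix : T ⊓ Subgroup.centralizer (X₂ : Set S) = ⊥ := by
      rw [eq_bot_iff, ← hinf]
      intro x hx
      exact Subgroup.mem_inf.mpr ⟨hx.1.1, Subgroup.mem_inf.mpr ⟨hx.1.1.1, hx.2⟩⟩
    have hTcomm : T ≤ ⁅T, X₂⁆ :=
      le_commutator_of_fpf (hRp.to_le hTR) (card_coprime_of_isPGroup hpq (hRp.to_le hTR) hc₂)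
        (h₂.trans hQT) hTfix
    have h1 : ⁅⁅T, R₂⁆, X₂⁆ = ⊥ := by
      have hle : ⁅T, R₂⁆ ≤ R₂ := by
        rw [Subgroup.commutator_comm]
        exact Subgroup.le_normalizer_iff_commutator_le_left.1 (inf_le_right : T ≤ _)
      rw [eq_bot_iff]
      calc ⁅⁅T, R₂⁆, X₂⁆ ≤ ⁅R₂, X₂⁆ := Subgroup.commutator_mono hle le_rfl
        _ = ⊥ := Subgroup.commutator_eq_bot_iff_le_centralizer.mpr inf_le_right
    have h2 : ⁅⁅R₂, X₂⁆, T⁆ = ⊥ := by
      rw [Subgroup.commutator_eq_bot_iff_le_centralizer.mpr (inf_le_right : R₂ ≤ _),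
        Subgroup.commutator_bot_left]
    have h3 := Subgroup.commutator_commutator_eq_bot_of_rotate h1 h2
    rw [eq_bot_iff, ← h3]
    apply Subgroup.commutator_mono _ le_rfl
    rw [Subgroup.commutator_comm]
    exact hTcomm
  -- V
  set V : Subgroup S := T ⊔ R₂ with hV
  have hVR : V ≤ R := sup_le hTR inf_le_left
  have hQV : Q ≤ Subgroup.normalizer (V : Set S) :=
    Cfsg.Agent.Lib.Helper28.le_normalizer_sup hQT hQR₂
  have hTN₂ : T ≤ Subgroup.normalizer (R₂ : Set S) := inf_le_right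
  have hR₂fix : R₂ ⊓ Subgroup.centralizer (X₁ : Set S) = ⊥ := by
    rw [eq_bot_iff, ← hinf]
    intro x hx
    exact Subgroup.mem_inf.mpr ⟨Subgroup.mem_inf.mpr ⟨hx.1.1, hx.2⟩, hx.1⟩
  have hVX₁ : ⁅V, X₁⁆ = R₂ := by
    apply le_antisymm
    · rw [Subgroup.commutator_le]
      intro v hv x hx
      obtain ⟨t, ht, r, hr, rfl⟩ := Cfsg.Agent.Lib.Helper01.exists_mul_of_mem_sup hTN₂ hv
      have htx : x * t = t * x := by
        have : t ∈ Subgroup.centralizer (X₁ : Set S) := ht.1.2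
        exact (Subgroup.mem_centralizer_iff.mp this) x hx
      have hxR₂ : x ∈ Subgroup.normalizer (R₂ : Set S) := hQR₂ (h₁ hx)
      have h4 : ⁅r, x⁆ ∈ R₂ := by
        rw [commutatorElement_def]
        have : r * x * r⁻¹ * x⁻¹ = r * (x * r⁻¹ * x⁻¹) := by group
        rw [this]
        exact R₂.mul_mem hr ((Subgroup.mem_normalizer_iff.mp hxR₂ _).mp (R₂.inv_mem hr))
      have h5 : ⁅t * r, x⁆ = t * ⁅r, x⁆ * t⁻¹ := by
        simp only [commutatorElement_def]
        have hx' : t⁻¹ * x⁻¹ = x⁻¹ * t⁻¹ := by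
          rw [← mul_inv_rev, ← mul_inv_rev, htx]
        calc t * r * x * (t * r)⁻¹ * x⁻¹ = t * r * x * r⁻¹ * (t⁻¹ * x⁻¹) := by group
          _ = t * r * x * r⁻¹ * (x⁻¹ * t⁻¹) := by rw [hx']
          _ = t * (r * x * r⁻¹ * x⁻¹) * t⁻¹ := by group
      rw [h5]
      exact (Subgroup.mem_normalizer_iff.mp (hTN₂ ht) _).mp h4
    · calc R₂ ≤ ⁅R₂, X₁⁆ :=
            le_commutator_of_fpf (hRp.to_le inf_le_left)
              (card_coprime_of_isPGroup hpq (hRp.to_le inf_le_left) hc₁) (h₁.trans hQR₂) hR₂fix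
        _ ≤ ⁅V, X₁⁆ := Subgroup.commutator_mono le_sup_right le_rfl
  -- `V` is self-normalizing in `R`
  have hNV : R ⊓ Subgroup.normalizer (V : Set S) ≤ V := by
    have hQN : Q ≤ Subgroup.normalizer
        ((R ⊓ Subgroup.normalizer (V : Set S) : Subgroup S) : Set S) :=
      (le_inf hQR (hQV.trans (hNN V))).trans Subgroup.inf_normalizer_le_normalizer_inf
    refine (hgenU _ inf_le_left hQN).trans (sup_le ?_ ?_)
    · refine le_trans ?_ (le_sup_left : T ≤ V)
      intro x hx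
      refine Subgroup.mem_inf.mpr ⟨Subgroup.mem_inf.mpr ⟨hx.1.1, hx.2⟩, ?_⟩
      have h6 := Cfsg.Agent.Lib.Helper28.le_normalizer_commutator
        (H := Subgroup.normalizer (V : Set S) ⊓ Subgroup.centralizer (X₁ : Set S))
        (A := V) (B := X₁) inf_le_left
        (inf_le_right.trans (Subgroup.centralizer_le_normalizer _))
      rw [hVX₁] at h6
      exact h6 (Subgroup.mem_inf.mpr ⟨hx.1.2, hx.2⟩)
    · refine le_trans ?_ (le_sup_right : R₂ ≤ V)
      intro x hx
      exact Subgroup.mem_inf.mpr ⟨hx.1.1, hx.2⟩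
  have hVeq : V = R := by
    by_contra hne
    have hlt : V < R := lt_of_le_of_ne hVR hne
    obtain ⟨y, hyR, hyV, hyN⟩ := Cfsg.Agent.Lib.Helper53.exists_mem_normalizer_not_mem_of_lt hRp hlt
    exact hyV (hNV (Subgroup.mem_inf.mpr ⟨hyR, hyN⟩))
  have hR₁T : R₁ ≤ T := by
    intro g hg
    have hgV : g ∈ T ⊔ R₂ := by
      rw [← hV, hVeq]; exact hg.1
    obtain ⟨t, ht, r, hr, rfl⟩ := Cfsg.Agent.Lib.Helper01.exists_mul_of_mem_sup hTN₂ hgV
    have hrC : r ∈ Subgroup.centralizer (X₁ : Set S) := by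
      have : r = t⁻¹ * (t * r) := by group
      rw [this]
      exact Subgroup.mul_mem _ (Subgroup.inv_mem _ ht.1.2) hg.2
    have hr1 : r = 1 := by
      have : r ∈ R₁ ⊓ R₂ := Subgroup.mem_inf.mpr ⟨Subgroup.mem_inf.mpr ⟨hr.1, hrC⟩, hr⟩
      rwa [hinf, Subgroup.mem_bot] at this
    rw [hr1, mul_one]
    exact ht
  refine ⟨?_, hinf, hsup⟩
  rw [eq_bot_iff, ← hTR₂]
  exact Subgroup.commutator_mono hR₁T le_rfl

end Cfsg.Agent.S1900
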