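import Cfsg.Statements.S1901
import Cfsg.Agent.Lib.Helper40.PSolv
import Cfsg.Agent.Lib.Helper40.Cores
import Cfsg.Agent.Lib.Helper40.Sylow

set_option autoImplicit false
open Cfsg

namespace Cfsg.Agent.S1901

open Cfsg.Agent.Lib.Helper40

universe u

theorem eq_one_of_conj_step {G : Type*} [Group G] {p : ℕ} [Fact p.Prime] (x q z : G) (k : ℕ)
    (hx : x ^ p ^ k = 1) (hz : x * q * x⁻¹ = q * z) (hxz : x * z = z * x)
    (hzo : (orderOf z).Coprime p) : z = 1 := by
  have hxzn : ∀ n : ℕ, x * z ^ n * x⁻¹ = z ^ n := by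
    intro n
    have h1 : Commute x (z ^ n) := (show Commute x z from hxz).pow_right n
    rw [h1.eq, mul_assoc, mul_inv_cancel, mul_one]
  have hpow : ∀ n : ℕ, x ^ n * q * (x ^ n)⁻¹ = q * z ^ n := by
    intro n
    induction n with
    | zero => simp
    | succ n ih =>
      calc x ^ (n + 1) * q * (x ^ (n + 1))⁻¹ = x * (x ^ n * q * (x ^ n)⁻¹) * x⁻¹ := by
            rw [pow_succ']; group
        _ = x * (q * z ^ n) * x⁻¹ := by rw [ih]
        _ = (x * q * x⁻¹) * (x * z ^ n * x⁻¹) := by group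
        _ = q * z * z ^ n := by rw [hz, hxzn]
        _ = q * z ^ (n + 1) := by rw [pow_succ', mul_assoc]
  have h1 := hpow (p ^ k)
  rw [hx] at h1
  have h2 : z ^ p ^ k = 1 := by
    have : q * 1 = q * z ^ p ^ k := by simpa using h1
    exact (mul_left_cancel this).symm
  have h3 : orderOf z ∣ p ^ k := orderOf_dvd_of_pow_eq_one h2
  have h4 : orderOf z = 1 := Nat.eq_one_of_dvd_coprimes (Nat.Coprime.pow_right k hzo) dvd_rfl h3
  exact orderOf_eq_one_iff.mp h4

/-- conjugation-commutator of `x` and `q` lies in the kernel when images commute -/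
theorem comm_mem_of_map_commute {G : Type*} [Group G] (N : Subgroup G) [N.Normal] (x q : G)
    (h : (QuotientGroup.mk' N x) * (QuotientGroup.mk' N q) = (QuotientGroup.mk' N q) * (QuotientGroup.mk' N x)) :
    x * q * x⁻¹ * q⁻¹ ∈ N := by
  rw [← QuotientGroup.eq_one_iff, ← QuotientGroup.mk'_apply]
  simp only [map_mul, map_inv]
  rw [h]; group

theorem card_quotient_lt {G : Type*} [Group G] [Finite G] (N : Subgroup G) [N.Normal] (hN : N ≠ ⊥) :
    Nat.card (G ⧸ N) < Nat.card G := by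
  have h1 := Subgroup.card_eq_card_quotient_mul_card_subgroup N
  have h2 : 1 < Nat.card N := by
    rcases Nat.lt_or_ge 1 (Nat.card N) with h | h
    · exact h
    · exact absurd (Subgroup.eq_bot_of_card_le N h) hN
  have h3 : 0 < Nat.card (G ⧸ N) := Nat.card_pos
  rw [h1]
  nlinarith

theorem key (p : ℕ) [Fact p.Prime] :
    ∀ n : ℕ, ∀ (G : Type u) [Group G] [Finite G], Nat.card G = n → Cfsg.IsPSolvable p G →
      ∀ (Q : Subgroup G), (Nat.card Q).Coprime p → ∀ P : Sylow p G,
      Q ≤ Subgroup.normalizer ((P : Subgroup G) : Set G) →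
      ∀ x : G, (∃ k : ℕ, x ^ p ^ k = 1) → x ∈ Subgroup.normalizer (Q : Set G) →
      ∀ q ∈ Q, x * q = q * x := by
  intro n
  induction n using Nat.strong_induction_on with
  | _ n ih =>
  intro G _ _ hn hG Q hQ P hQP x hx hxQ
  have hp : p.Prime := Fact.out
  obtain ⟨k, hxk⟩ := hx
  -- general quotient step
  have quot : ∀ (N : Subgroup G) [N.Normal], N ≠ ⊥ → ∀ q ∈ Q, x * q * x⁻¹ * q⁻¹ ∈ N := by
    intro N _ hN q hq
    have hlt : Nat.card (G ⧸ N) < n := hn ▸ card_quotient_lt N hN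
    have hsurj : Function.Surjective (QuotientGroup.mk' N) := QuotientGroup.mk'_surjective N
    have h1 := ih _ hlt (G ⧸ N) rfl (Cfsg.Agent.Lib.Helper81.IsPSolvable.quotient hp hG N)
      (Q.map (QuotientGroup.mk' N))
      (Nat.Coprime.coprime_dvd_left (Subgroup.card_map_dvd Q _) hQ)
      (P.mapSurjective hsurj)
      (by
        rw [Sylow.coe_mapSurjective]
        exact (Subgroup.map_mono hQP).trans (Subgroup.le_normalizer_map _))
      (QuotientGroup.mk' N x)
      ⟨k, by rw [← map_pow, hxk, map_one]⟩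
      ((Subgroup.le_normalizer_map _) (Subgroup.mem_map_of_mem _ hxQ))
      (QuotientGroup.mk' N q) (Subgroup.mem_map_of_mem _ hq)
    exact comm_mem_of_map_commute N x q h1
  have hconjQ : ∀ q ∈ Q, x * q * x⁻¹ * q⁻¹ ∈ Q := fun q hq =>
    mul_mem ((Subgroup.mem_normalizer_iff.mp hxQ q).mp hq) (inv_mem hq)
  have fin : ∀ q ∈ Q, x * q * x⁻¹ * q⁻¹ = 1 → x * q = q * x := by
    intro q _ h
    calc x * q = (x * q * x⁻¹ * q⁻¹) * (q * x) := by group
      _ = q * x := by rw [h, one_mul]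
  by_cases hK : Cfsg.pPrimeCore p G = ⊥
  · -- O_{p'}(G) = 1
    by_cases hV : Cfsg.pCore p G = ⊥
    · have h1 := Cfsg.Agent.Lib.Helper81.centralizer_pCore_le hG hK
      rw [hV] at h1
      have hx1 : x ∈ (⊥ : Subgroup G) := h1 (by
        rw [Subgroup.mem_centralizer_iff]
        intro y hy
        rw [SetLike.mem_coe, Subgroup.mem_bot] at hy
        rw [hy]; simp)
      rw [Subgroup.mem_bot] at hx1
      intro q _
      rw [hx1]; simp
    · intro q hq
      haveI : (Cfsg.pCore p G).Normal := Cfsg.pCore_normal p G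
      have h1 := quot (Cfsg.pCore p G) hV q hq
      have h2 : x * q * x⁻¹ * q⁻¹ ∈ Cfsg.pCore p G ⊓ Q := Subgroup.mem_inf.mpr ⟨h1, hconjQ q hq⟩
      rw [isPGroup_inf_coprime_eq_bot _ _ (pCore_isPGroup' p G) hQ, Subgroup.mem_bot] at h2
      exact fin q hq h2
  · -- O_{p'}(G) ≠ 1
    have hKc : (Nat.card (Cfsg.pPrimeCore p G)).Coprime p := pPrimeCore_card_coprime' p G
    have hQ0P : ∀ q₀ ∈ Q ⊓ Cfsg.pPrimeCore p G, ∀ y ∈ (P : Subgroup G), q₀ * y = y * q₀ := by
      intro q₀ hq₀ y hy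
      obtain ⟨hq₀Q, hq₀K⟩ := Subgroup.mem_inf.mp hq₀
      have h1 : q₀ * y * q₀⁻¹ * y⁻¹ ∈ (P : Subgroup G) :=
        mul_mem ((Subgroup.mem_normalizer_iff.mp (hQP hq₀Q) y).mp hy) (inv_mem hy)
      have h2 : q₀ * y * q₀⁻¹ * y⁻¹ ∈ Cfsg.pPrimeCore p G := by
        have h3 : y * q₀⁻¹ * y⁻¹ ∈ Cfsg.pPrimeCore p G :=
          (Cfsg.pPrimeCore_normal p G).conj_mem _ (inv_mem hq₀K) y
        have h4 : q₀ * y * q₀⁻¹ * y⁻¹ = q₀ * (y * q₀⁻¹ * y⁻¹) := by group
        rw [h4]; exact mul_mem hq₀K h3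
      have h5 : q₀ * y * q₀⁻¹ * y⁻¹ ∈ (P : Subgroup G) ⊓ Cfsg.pPrimeCore p G :=
        Subgroup.mem_inf.mpr ⟨h1, h2⟩
      rw [isPGroup_inf_coprime_eq_bot _ _ P.isPGroup' hKc, Subgroup.mem_bot] at h5
      calc q₀ * y = (q₀ * y * q₀⁻¹ * y⁻¹) * (y * q₀) := by group
        _ = y * q₀ := by rw [h5, one_mul]
    have hxQ0 : x ∈ Subgroup.normalizer ((Q ⊓ Cfsg.pPrimeCore p G : Subgroup G) : Set G) := by
      apply Subgroup.mem_normalizer_fintype
      intro m hm
      obtain ⟨hmQ, hmK⟩ := Subgroup.mem_inf.mp hm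
      exact Subgroup.mem_inf.mpr ⟨(Subgroup.mem_normalizer_iff.mp hxQ m).mp hmQ,
        (Cfsg.pPrimeCore_normal p G).conj_mem _ hmK x⟩
    by_cases hnorm : Subgroup.normalizer ((Q ⊓ Cfsg.pPrimeCore p G : Subgroup G) : Set G) = ⊤
    · -- Q₀ normal
      haveI hQ0n : (Q ⊓ Cfsg.pPrimeCore p G).Normal := Subgroup.normalizer_eq_top_iff.mp hnorm
      haveI hCn : (Subgroup.centralizer ((Q ⊓ Cfsg.pPrimeCore p G : Subgroup G) : Set G)).Normal :=
        Subgroup.normal_centralizer
      have hPC : (P : Subgroup G) ≤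
          Subgroup.centralizer ((Q ⊓ Cfsg.pPrimeCore p G : Subgroup G) : Set G) := by
        intro y hy
        rw [Subgroup.mem_centralizer_iff]
        intro q₀ hq₀
        exact hQ0P q₀ hq₀ y hy
      have hxp : IsPGroup p (Subgroup.zpowers x) := by
        rintro ⟨y, hy⟩
        obtain ⟨m, rfl⟩ := Subgroup.mem_zpowers_iff.mp hy
        refine ⟨k, Subtype.ext ?_⟩
        simp only [Subgroup.coe_pow, Subgroup.coe_one]
        rw [← zpow_natCast, ← zpow_mul, mul_comm, zpow_mul, zpow_natCast, hxk, one_zpow]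
      obtain ⟨h, _, hh⟩ := exists_conj_mem_sylow_of_le ⊤ P le_top x (Subgroup.mem_top x)
        (Subgroup.zpowers x) hxp (Subgroup.mem_zpowers x)
      have hxC : x ∈ Subgroup.centralizer ((Q ⊓ Cfsg.pPrimeCore p G : Subgroup G) : Set G) := by
        have h1 := hCn.conj_mem _ (hPC hh) h⁻¹
        have h2 : h⁻¹ * (h * x * h⁻¹) * h⁻¹⁻¹ = x := by group
        rwa [h2] at h1
      intro q hq
      -- z = q⁻¹ x q x⁻¹
      have hz1 : x * q * x⁻¹ * q⁻¹ ∈ Cfsg.pPrimeCore p G := quot (Cfsg.pPrimeCore p G) hK q hq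
      have hzQ : q⁻¹ * (x * q * x⁻¹) ∈ Q :=
        mul_mem (inv_mem hq) ((Subgroup.mem_normalizer_iff.mp hxQ q).mp hq)
      have hzK : q⁻¹ * (x * q * x⁻¹) ∈ Cfsg.pPrimeCore p G := by
        have h1 := (Cfsg.pPrimeCore_normal p G).conj_mem _ hz1 q⁻¹
        have h2 : q⁻¹ * (x * q * x⁻¹ * q⁻¹) * q⁻¹⁻¹ = q⁻¹ * (x * q * x⁻¹) := by group
        rwa [h2] at h1
      have hzc : x * (q⁻¹ * (x * q * x⁻¹)) = (q⁻¹ * (x * q * x⁻¹)) * x :=
        ((Subgroup.mem_centralizer_iff.mp hxC) _ (Subgroup.mem_inf.mpr ⟨hzQ, hzK⟩)).symm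
      have hzo : (orderOf (q⁻¹ * (x * q * x⁻¹))).Coprime p :=
        Nat.Coprime.coprime_dvd_left (Subgroup.orderOf_dvd_natCard Q hzQ) hQ
      have hz := eq_one_of_conj_step x q (q⁻¹ * (x * q * x⁻¹)) k hxk (by group) hzc hzo
      have : x * q * x⁻¹ = q := by
        have h3 : x * q * x⁻¹ = q * (q⁻¹ * (x * q * x⁻¹)) := by group
        rw [h3, hz, mul_one]
      calc x * q = (x * q * x⁻¹) * x := by group
        _ = q * x := by rw [this]
    · -- pass to H = N_G(Q₀)
      obtain ⟨H, hHdef⟩ : ∃ H, H = Subgroup.normalizer ((Q ⊓ Cfsg.pPrimeCore p G : Subgroup G) : Set G) :=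
        ⟨_, rfl⟩
      rw [← hHdef] at hnorm hxQ0
      have hlt : Nat.card ↥H < n := by
        rw [← hn]
        rcases lt_or_ge (Nat.card ↥H) (Nat.card G) with h | h
        · exact h
        · exact absurd (Subgroup.card_eq_iff_eq_top H |>.mp
            (le_antisymm (Subgroup.card_le_card_group H) h)) hnorm
      have hPH : (P : Subgroup G) ≤ H := by
        intro y hy
        rw [hHdef]
        apply Subgroup.mem_normalizer_fintype
        intro m hm
        have h1 : y * m * y⁻¹ = m := by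
          rw [← hQ0P m hm y hy]; group
        rw [h1]; exact hm
      have hQH : Q ≤ H := by
        intro y hy
        rw [hHdef]
        apply Subgroup.mem_normalizer_fintype
        intro m hm
        obtain ⟨hmQ, hmK⟩ := Subgroup.mem_inf.mp hm
        exact Subgroup.mem_inf.mpr ⟨mul_mem (mul_mem hy hmQ) (inv_mem hy),
          (Cfsg.pPrimeCore_normal p G).conj_mem _ hmK y⟩
      have h1 := ih _ hlt ↥H rfl (isPSolvable_subgroup hp hG H) (Q.subgroupOf H)
        (by
          rw [Nat.card_congr (Subgroup.subgroupOfEquivOfLe hQH).toEquiv]; exact hQ)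
        (P.subtype hPH)
        (by
          intro y hy
          rw [Subgroup.mem_subgroupOf] at hy
          have hyN := hQP hy
          apply Subgroup.mem_normalizer_fintype
          intro m hm
          have hcoe : ((P.subtype hPH : Sylow p ↥H) : Subgroup ↥H) = (P : Subgroup G).subgroupOf H :=
            Sylow.coe_subtype _ _
          rw [SetLike.mem_coe, hcoe, Subgroup.mem_subgroupOf] at hm ⊢
          have := (Subgroup.mem_normalizer_iff.mp hyN (m : G)).mp hm
          simpa using this)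
        ⟨x, hxQ0⟩ ⟨k, Subtype.ext (by simpa using hxk)⟩
        (by
          apply Subgroup.mem_normalizer_fintype
          intro m hm
          rw [SetLike.mem_coe, Subgroup.mem_subgroupOf] at hm ⊢
          have := (Subgroup.mem_normalizer_iff.mp hxQ (m : G)).mp hm
          simpa using this)
      intro q hq
      have h2 := h1 ⟨q, hQH hq⟩ (by rw [Subgroup.mem_subgroupOf]; exact hq)
      exact congrArg Subtype.val h2

/-- Let G be a finite p-solvable group and Q a subgroup of order prime to p such that p divides the index of C_G(Q) in N_G(Q). Then Q normalizes no Sylow p-subgroup of G. -/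
theorem result {G : Type*} [Group G] [Finite G] {p : ℕ} [Fact p.Prime]
    (hG : Cfsg.IsPSolvable p G) (Q : Subgroup G) (hQ : ¬ p ∣ Nat.card Q)
    (hA : p ∣ (Subgroup.centralizer (Q : Set G)).relIndex (Subgroup.normalizer (Q : Set G)))
    (P : Sylow p G) : ¬ Q ≤ Subgroup.normalizer ((P : Subgroup G) : Set G) := by
  intro hQP
  have hp : p.Prime := Fact.out
  have hQc : (Nat.card Q).Coprime p := ((Nat.Prime.coprime_iff_not_dvd hp).mpr hQ).symm
  have hkey := key p (Nat.card G) G rfl hG Q hQc P hQP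
  obtain ⟨R⟩ : Nonempty (Sylow p ↥(Subgroup.normalizer (Q : Set G))) := inferInstance
  have hRC : (R : Subgroup ↥(Subgroup.normalizer (Q : Set G))).map (Subgroup.normalizer (Q : Set G)).subtype
      ≤ Subgroup.centralizer (Q : Set G) := by
    rintro y ⟨r, hr, rfl⟩
    obtain ⟨k, hk⟩ := R.isPGroup' ⟨r, hr⟩
    have hk' : (r : G) ^ p ^ k = 1 := by
      have := congrArg Subtype.val (congrArg Subtype.val hk)
      simpa using this
    rw [Subgroup.mem_centralizer_iff]
    intro q hq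
    exact (hkey (r : G) ⟨k, hk'⟩ r.2 q hq).symm
  have h1 := Subgroup.relIndex_mul_relIndex _ _ _ hRC (Subgroup.centralizer_le_normalizer (Q : Set G))
  have h2 : ((R : Subgroup ↥(Subgroup.normalizer (Q : Set G))).map
      (Subgroup.normalizer (Q : Set G)).subtype).relIndex (Subgroup.normalizer (Q : Set G)) =
      (R : Subgroup ↥(Subgroup.normalizer (Q : Set G))).index := by
    rw [Subgroup.relIndex]
    congr 1
    exact Subgroup.comap_map_eq_self_of_injective (Subgroup.subtype_injective _) _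
  rw [h2] at h1
  exact R.not_dvd_index (h1 ▸ Dvd.dvd.mul_left hA _)

end Cfsg.Agent.S1901
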