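import Cfsg.Statements.S1902
import Cfsg.Agent.Lib.Helper56.PPrimeInv
import Cfsg.Agent.Lib.Helper81.PSolvable

set_option autoImplicit false
open Cfsg

namespace Cfsg.Agent.S1902

open Cfsg.Agent.Lib

/-- If `B` is generated by the elements of order `p` of a Sylow `p`-subgroup of `C`, `B` has
exponent `p`, and `c ∈ C` of order `p` normalizes `B`, then `c ∈ B`. -/
theorem omega_mem {G : Type*} [Group G] [Finite G] {p : ℕ} [Fact p.Prime]
    (C : Subgroup G) (P : Sylow p ↥C) (B : Subgroup G) (hBC : B ≤ C)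
    (hBP : B = Subgroup.closure {x : G | x ∈ ((P : Subgroup ↥C).map C.subtype : Subgroup G) ∧
      orderOf x = p})
    (hBp : IsPGroup p ↥B) (hBexp : ∀ b ∈ B, b ^ p = 1)
    (c : G) (hcC : c ∈ C) (hcB : c ∈ Subgroup.normalizer (B : Set G)) (hco : orderOf c = p) :
    c ∈ B := by
  classical
  have hzp : IsPGroup p ↥(Subgroup.zpowers c) := by
    rw [IsPGroup.iff_card, Nat.card_zpowers, hco]
    exact ⟨1, (pow_one p).symm⟩
  have hzB : Subgroup.zpowers c ≤ Subgroup.normalizer (B : Set G) := by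
    rw [Subgroup.zpowers_le]
    exact hcB
  have hDp : IsPGroup p ↥(Subgroup.zpowers c ⊔ B : Subgroup G) :=
    IsPGroup.to_sup_of_normal_right' hzp hBp hzB
  have hDC : Subgroup.zpowers c ⊔ B ≤ C := sup_le (by rw [Subgroup.zpowers_le]; exact hcC) hBC
  have hDp' : IsPGroup p ↥((Subgroup.zpowers c ⊔ B : Subgroup G).subgroupOf C) :=
    hDp.comap_subtype
  obtain ⟨P₂, hP₂⟩ := hDp'.exists_le_sylow
  obtain ⟨g, hg⟩ := MulAction.exists_smul_eq ↥C P P₂
  have hmemP₂ : ∀ x : G, ∀ _ : x ∈ Subgroup.zpowers c ⊔ B,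
      (g : G)⁻¹ * x * (g : G) ∈ ((P : Subgroup ↥C).map C.subtype : Subgroup G) := by
    intro x hx
    have h1 : (⟨x, hDC hx⟩ : ↥C) ∈ (P₂ : Subgroup ↥C) := hP₂ (Subgroup.mem_subgroupOf.2 hx)
    rw [← hg, Sylow.coe_subgroup_smul, Subgroup.mem_pointwise_smul_iff_inv_smul_mem] at h1
    refine ⟨_, h1, ?_⟩
    simp [MulAut.smul_def]
  have hord : ∀ x : G, orderOf ((g : G)⁻¹ * x * (g : G)) = orderOf x := by
    intro x
    have := (MulAut.conj (g : G)⁻¹).orderOf_eq x
    simpa [MulAut.conj_apply] using this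
  have hconjB : ∀ b ∈ B, (g : G)⁻¹ * b * (g : G) ∈ B := by
    intro b hb
    by_cases hb1 : b = 1
    · rw [hb1]; simp [B.one_mem]
    have hbo : orderOf b = p := orderOf_eq_prime (hBexp b hb) hb1
    rw [hBP]
    apply Subgroup.subset_closure
    exact ⟨hmemP₂ b (Subgroup.mem_sup_right hb), by rw [hord, hbo]⟩
  have hconjc : (g : G)⁻¹ * c * (g : G) ∈ B := by
    rw [hBP]
    apply Subgroup.subset_closure
    exact ⟨hmemP₂ c (Subgroup.mem_sup_left (Subgroup.mem_zpowers c)), by rw [hord, hco]⟩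
  let φ : ↥B → ↥B := fun b => ⟨(g : G)⁻¹ * b * (g : G), hconjB b b.2⟩
  have hφinj : Function.Injective φ := by
    intro a b hab
    have := congrArg Subtype.val hab
    apply Subtype.ext
    have h2 : (g : G)⁻¹ * (a : G) * (g : G) = (g : G)⁻¹ * (b : G) * (g : G) := this
    simpa using h2
  obtain ⟨b, hb⟩ := Finite.surjective_of_injective hφinj ⟨_, hconjc⟩
  have h3 : (g : G)⁻¹ * (b : G) * (g : G) = (g : G)⁻¹ * c * (g : G) := congrArg Subtype.val hb
  have h4 : (b : G) = c := by simpa using h3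
  rw [← h4]; exact b.2


/-- Let p be an odd prime, G a finite p-solvable group, and B an elementary abelian subgroup of order p² such that B is the subgroup generated by the elements of order p of some Sylow p-subgroup of C_G(b₀), for some nontrivial b₀ ∈ B. Then every B-invariant subgroup of G of order prime to p lies in O_{p'}(G). -/
theorem result {G : Type*} [Group G] [Finite G] {p : ℕ} [Fact p.Prime] (hp : p ≠ 2)
    (hG : Cfsg.IsPSolvable p G) (B : Subgroup G) (hB : Cfsg.IsElementaryAbelian p B) (hBc : Nat.card B = p ^ 2)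
    (b₀ : G) (hb₀ : b₀ ∈ B) (hb₁ : b₀ ≠ 1) (P : Sylow p ↥(Subgroup.centralizer ({b₀} : Set G)))
    (hBP : B = Subgroup.closure {x : G | x ∈ ((P : Subgroup ↥(Subgroup.centralizer ({b₀} : Set G))).map
      (Subgroup.centralizer ({b₀} : Set G)).subtype : Subgroup G) ∧ orderOf x = p})
    (Q : Subgroup G) (hQ : ¬ p ∣ Nat.card Q) (hinv : ∀ b ∈ B, ∀ x ∈ Q, b * x * b⁻¹ ∈ Q) :
    Q ≤ Cfsg.pPrimeCore p G := by
  classical
  have hpr : p.Prime := Fact.out
  obtain ⟨hBcomm, hBexp⟩ := hB
  have hBcomm' : ∀ a ∈ B, ∀ b ∈ B, a * b = b * a := by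
    intro a ha b hb
    exact congrArg Subtype.val (hBcomm.is_comm.comm ⟨a, ha⟩ ⟨b, hb⟩)
  have hBp : IsPGroup p ↥B := by
    intro b
    refine ⟨1, ?_⟩
    apply Subtype.ext
    rw [pow_one]
    exact hBexp b b.2
  -- key: elements of C_G(B) of order dividing p lie in B
  have hΩ : ∀ c ∈ Subgroup.centralizer (B : Set G), c ^ p = 1 → c ∈ B := by
    intro c hcB hcp
    by_cases hc1 : c = 1
    · rw [hc1]; exact B.one_mem
    have hco : orderOf c = p := orderOf_eq_prime hcp hc1
    have hcC : c ∈ Subgroup.centralizer ({b₀} : Set G) := by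
      rw [Subgroup.mem_centralizer_singleton_iff]
      exact ((Subgroup.mem_centralizer_iff.1 hcB) b₀ hb₀).symm
    have hBC : B ≤ Subgroup.centralizer ({b₀} : Set G) := by
      intro b hb
      rw [Subgroup.mem_centralizer_singleton_iff]
      exact hBcomm' b hb b₀ hb₀
    exact omega_mem _ P B hBC hBP hBp hBexp c hcC
      (Subgroup.centralizer_le_normalizer _ hcB) hco
  -- pass to the quotient
  have hNn : (pPrimeCore p G).Normal := Helper81.pPrimeCore_normal p
  have hNc : (Nat.card (pPrimeCore p G)).Coprime p := Helper81.card_pPrimeCore_coprime p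
  set N := pPrimeCore p G with hN
  set π := QuotientGroup.mk' N with hπ
  have hbot : pPrimeCore p (G ⧸ N) = ⊥ := Helper81.pPrimeCore_quotient_eq_bot p
  have hGq : IsPSolvable p (G ⧸ N) := Helper81.IsPSolvable.quotient hpr hG N
  have hCR := Helper81.centralizer_pCore_le hGq hbot
  have hRn : (pCore p (G ⧸ N)).Normal := Helper81.pCore_normal p
  have hRp : IsPGroup p ↥(pCore p (G ⧸ N)) := Helper81.isPGroup_pCore p
  have hQc : (Nat.card Q).Coprime p :=
    ((Nat.Prime.coprime_iff_not_dvd hpr).2 hQ).symm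
  have hQbc : (Nat.card (Q.map π)).Coprime p :=
    Nat.Coprime.coprime_dvd_left (Subgroup.card_map_dvd Q π) hQc
  have hBbp : IsPGroup p ↥(B.map π) := hBp.map π
  have hBQ : B ≤ Subgroup.normalizer (Q : Set G) := by
    intro b hb
    rw [Subgroup.mem_normalizer_iff]
    intro x
    constructor
    · intro hx; exact hinv b hb x hx
    · intro hx
      have := hinv b⁻¹ (B.inv_mem hb) _ hx
      simpa [mul_assoc] using this
  have hBQb : B.map π ≤ Subgroup.normalizer ((Q.map π : Subgroup (G ⧸ N)) : Set (G ⧸ N)) :=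
    (Subgroup.map_mono hBQ).trans (Subgroup.le_normalizer_map π)
  have hΩb : ∀ x ∈ Subgroup.centralizer ((B.map π : Subgroup (G ⧸ N)) : Set (G ⧸ N)),
      x ^ p = 1 → x ∈ B.map π := by
    intro xb hxb hxp
    obtain ⟨c, hcB, hcp, hcx⟩ := Helper56.exists_lift_of_commute N hNc B hBp xb hxp (by
      intro a ha
      exact (Subgroup.mem_centralizer_iff.1 hxb) (π a) ⟨a, ha, rfl⟩)
    exact ⟨c, hΩ c hcB hcp, hcx⟩
  have hfin := Helper56.eq_bot_of_invariant hp (pCore p (G ⧸ N)) hRp hCR (B.map π) hBbp hΩb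
    (Q.map π) hQbc hBQb
  intro q hq
  apply (QuotientGroup.eq_one_iff q).1
  have : π q ∈ Q.map π := ⟨q, hq, rfl⟩
  rw [hfin, Subgroup.mem_bot] at this
  exact this

end Cfsg.Agent.S1902
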