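import Cfsg.Statements.S1904
import Cfsg.Agent.Lib.Helper40.T1904Basic
import Cfsg.Agent.Lib.Helper97.T1904Ctx
import Cfsg.Agent.Lib.Helper23.T1904Max
import Cfsg.Agent.Lib.Helper32.T1904Crit
import Cfsg.Agent.Lib.Helper18.T1904Alpha
import Cfsg.Agent.Lib.Helper81.T1904XsCard
import Cfsg.Agent.Lib.Helper90.T1904Xs8
import Cfsg.Agent.Lib.Helper86.T1904Xs16
import Cfsg.Agent.Lib.Helper38.T1904XS32
import Cfsg.Agent.Lib.Helper70.T1904Spec
import Cfsg.Agent.Lib.Helper14.T1904Card
import Cfsg.Agent.Lib.Helper67.T1904Exp2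
import Cfsg.Agent.Lib.Helper23.T1904SelfCent
import Cfsg.Agent.Lib.Helper42.T1904CardA
import Cfsg.Agent.Lib.Helper53.T1904Homo
import Cfsg.Agent.Lib.Helper60.T1904K13a
import Cfsg.Agent.Lib.Helper47.T1904T1b
import Cfsg.Agent.Lib.Helper41.T1904G2
import Cfsg.Agent.Lib.Helper04.T1904Fin
import Cfsg.Agent.Lib.Helper80.T1904Idem
import Cfsg.Agent.Lib.Helper80.T1904Inv
import Cfsg.Agent.Lib.Helper57.T1904C2
import Cfsg.Agent.Lib.Helper57.T1904Mod

set_option autoImplicit false
open Cfsg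

namespace Cfsg.Agent.S1904

open Cfsg.Agent.Lib.Helper40.T1904
open scoped commutatorElement

universe u

variable {X : Type u} [Group X]

theorem center_ab : Ab (Subgroup.center X) := by
  intro a ha b _
  exact (Subgroup.mem_center_iff.mp ha b).symm

theorem center_inv (A : Subgroup (MulAut X)) : Inv A (Subgroup.center X) := by
  intro φ _ n hn
  rw [Subgroup.mem_center_iff] at hn ⊢
  intro g
  have := hn (φ⁻¹ g)
  have h2 := congrArg φ this
  simpa using h2

theorem card_center_le [Finite X] {A : Subgroup (MulAut X)} (h : Ctx X A)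
    (hZ2 : ∀ z ∈ Subgroup.center X, z * z = 1) : Nat.card (Subgroup.center X) ≤ 4 := by
  have h1 := h.hR (Subgroup.center X) inferInstance center_ab
  refine le_trans ?_ h1
  apply Nat.card_le_card_of_injective (fun z : Subgroup.center X => (⟨z.1, z.2, hZ2 z.1 z.2⟩ : {t : X // t ∈ Subgroup.center X ∧ t * t = 1}))
  intro a b hab
  have := congrArg Subtype.val hab
  exact Subtype.ext this

theorem center_card_cases [Finite X] {A : Subgroup (MulAut X)} (h : Ctx X A) (hna : ¬ IsMulCommutative X)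
    (hZ2 : ∀ z ∈ Subgroup.center X, z * z = 1) :
    Nat.card (Subgroup.center X) = 2 ∨ Nat.card (Subgroup.center X) = 4 := by
  have hle := card_center_le h hZ2
  have : Fact (Nat.Prime 2) := ⟨Nat.prime_two⟩
  have hnt : Nontrivial X := by
    by_contra hn
    rw [not_nontrivial_iff_subsingleton] at hn
    exact hna ⟨⟨fun a b => Subsingleton.elim _ _⟩⟩
  have hZnt : Nontrivial (Subgroup.center X) := h.h2.center_nontrivial
  obtain ⟨k, hk⟩ := (h.h2.to_subgroup (Subgroup.center X)).exists_card_eq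
  have h1 : 1 < Nat.card (Subgroup.center X) := Finite.one_lt_card
  rw [hk] at h1 hle ⊢
  have hk2 : k ≤ 2 := by
    by_contra hc
    push Not at hc
    have : 2 ^ 3 ≤ 2 ^ k := Nat.pow_le_pow_right (by norm_num) hc
    omega
  interval_cases k
  · simp at h1
  · left; rfl
  · right; rfl

theorem finish [Finite X] {A : Subgroup (MulAut X)} (h : Ctx X A) (hna : ¬ IsMulCommutative X)
    (hea : EAmodZ X) (hZ2 : ∀ z ∈ Subgroup.center X, z * z = 1) :
    Nonempty (X ≃* QuaternionGroup 2) ∨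
      (Cfsg.IsSpecial 2 X ∧ Nat.card X = 64 ∧ Nat.card {x : X // orderOf x = 2} = 3 ∧
        ∀ x : X, orderOf x = 2 → x ∈ Subgroup.center X) ∨
      (Cfsg.IsExtraspecial 2 X ∧ Nat.card X = 32 ∧ Nat.card {x : X // orderOf x = 2} = 11) := by
  rcases center_card_cases h hna hZ2 with hZ | hZ
  · obtain ⟨hxs, hc⟩ := Cfsg.Agent.Lib.Helper81.T1904.xs_card h hna hea hZ
    rcases hc with h8 | h16 | h32
    · left; exact Cfsg.Agent.Lib.Helper90.T1904.xs_eight h hna hea hZ h8
    · exact (Cfsg.Agent.Lib.Helper86.T1904.xs_sixteen h.h2 hna hea hZ h16).elim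
    · right; right
      exact ⟨hxs, h32, Cfsg.Agent.Lib.Helper38.T1904.xs_thirtytwo h hna hea hZ h32⟩
  · right; left
    obtain ⟨hs, h3, hc, hinv, hcomm⟩ := Cfsg.Agent.Lib.Helper70.T1904.special_of_ea h hna hea hZ2 hZ
    exact ⟨hs, Cfsg.Agent.Lib.Helper14.T1904.card_eq_64 h hea hZ2 hZ hinv hcomm, h3, hc⟩

theorem center_ne_bot [Finite X] {A : Subgroup (MulAut X)} (h : Ctx X A) (hna : ¬ IsMulCommutative X) :
    ∃ z ∈ Subgroup.center X, z ≠ 1 := by
  have : Fact (Nat.Prime 2) := ⟨Nat.prime_two⟩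
  have hnt : Nontrivial X := by
    by_contra hn
    rw [not_nontrivial_iff_subsingleton] at hn
    exact hna ⟨⟨fun a b => Subsingleton.elim _ _⟩⟩
  have hZnt : Nontrivial (Subgroup.center X) := h.h2.center_nontrivial
  obtain ⟨⟨z, hz⟩, hz1⟩ := exists_ne (1 : Subgroup.center X)
  exact ⟨z, hz, fun h1 => hz1 (Subtype.ext h1)⟩

theorem main [Finite X] {A : Subgroup (MulAut X)} (h : Ctx X A) (hna : ¬ IsMulCommutative X) :
    Nonempty (X ≃* QuaternionGroup 2) ∨
      (Cfsg.IsSpecial 2 X ∧ Nat.card X = 64 ∧ Nat.card {x : X // orderOf x = 2} = 3 ∧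
        ∀ x : X, orderOf x = 2 → x ∈ Subgroup.center X) ∨
      (Cfsg.IsExtraspecial 2 X ∧ Nat.card X = 32 ∧ Nat.card {x : X // orderOf x = 2} = 11) := by
  obtain ⟨B, hB, hZB⟩ := Cfsg.Agent.Lib.Helper23.T1904.exists_maxInv (X := X) A
  obtain ⟨hBn, hBa, hBi, hBmax⟩ := hB
  have hRZ := h.hR (Subgroup.center X) inferInstance center_ab
  have hRB := h.hR B hBn hBa
  obtain ⟨z0, hz0, hz01⟩ := center_ne_bot h hna
  rcases dichotomy h (Subgroup.center X) center_ab (center_inv A) hRZ with hfix | hfpfZ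
  · -- case alpha
    have hBfix : Fixes A B := by
      rcases dichotomy h B hBa hBi hRB with hf | hf
      · exact hf
      · exact absurd (hf z0 (hZB hz0) (fun φ hφ => hfix φ hφ z0 hz0)) hz01
    have hBZ : B = Subgroup.center X :=
      le_antisymm (central_of_fixes h B hBn hBfix) hZB
    have hmaxZ : MaxInv A (Subgroup.center X) := by
      rw [← hBZ]; exact ⟨hBn, hBa, hBi, hBmax⟩
    have hea := Cfsg.Agent.Lib.Helper32.T1904.eamodz_of_max h.h2 A hmaxZ
    exact finish h hna hea (Cfsg.Agent.Lib.Helper18.T1904.alpha_center_exp2 h hfix hea)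
  · -- case beta
    have hBfpf : Fpf A B := by
      rcases dichotomy h B hBa hBi hRB with hf | hf
      · exact absurd (hfpfZ z0 hz0 (fun φ hφ => hf φ hφ z0 (hZB hz0))) hz01
      · exact hf
    by_cases hexp : ∀ b ∈ B, b * b = 1
    · have hBZ := Cfsg.Agent.Lib.Helper67.T1904.beta_exp2 h hna B ⟨hBn, hBa, hBi, hBmax⟩ hZB hfpfZ hexp
      have hmaxZ : MaxInv A (Subgroup.center X) := by
        rw [← hBZ]; exact ⟨hBn, hBa, hBi, hBmax⟩
      have hea := Cfsg.Agent.Lib.Helper32.T1904.eamodz_of_max h.h2 A hmaxZ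
      exact finish h hna hea (fun z hz => hexp z (hZB hz))
    · push Not at hexp
      have hsc := Cfsg.Agent.Lib.Helper23.T1904.beta_selfcent h B ⟨hBn, hBa, hBi, hBmax⟩ hBfpf hexp
        (fun h4 M hM t ht htM => Cfsg.Agent.Lib.Helper80.T1904.invol_central h h4 M hM t ht htM)
      have hB1 : B ≠ ⊥ := by
        intro hb
        apply hz01
        have : z0 ∈ B := hZB hz0
        rw [hb] at this
        exact Subgroup.mem_bot.mp this
      have hA3 := Cfsg.Agent.Lib.Helper42.T1904.beta_card_A h B hBn hBa hBi hBfpf hB1 hsc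
      have hmod := Cfsg.Agent.Lib.Helper57.T1904.conj_mod_sq h B hBn hBa hBi
      have hhom : ∀ c : ℕ, (∀ b ∈ B, b ^ (2 ^ c) = 1) → (∃ b ∈ B, b ^ (2 ^ (c - 1)) ≠ 1) →
          ∀ j : ℕ, j ≤ c → ∀ y ∈ B, ((∃ b ∈ B, y = b ^ (2 ^ j)) ↔ y ^ (2 ^ (c - j)) = 1) :=
        fun c hc hc' j hj y hy =>
          Cfsg.Agent.Lib.Helper53.T1904.homocyclic h.hodd B (h.h2.to_subgroup B) hBa hBi hBfpf hRB c hc hc' j hj y hy
      by_cases h8 : ∃ b ∈ B, b ^ 4 ≠ 1
      · exfalso
        have hN1 := Cfsg.Agent.Lib.Helper60.T1904.T1_fixed h hA3 B hBn hBa hBi hBfpf hsc h8 hmod hhom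
        have hT1 := Cfsg.Agent.Lib.Helper47.T1904.T1_free h hA3 B hBn hBa hBi hBfpf hsc h8 hmod hhom hN1
        have hG2 := Cfsg.Agent.Lib.Helper41.T1904.noGamma2 h B hBn hBa hsc h8 hhom hT1
        exact Cfsg.Agent.Lib.Helper04.T1904.final_contra h hA3 hna B hBn hBa hBi hBfpf hsc h8 hmod hhom hG2
          (fun E _ _ hE hexpE g hg3 hgf ν hid hν htr => Cfsg.Agent.Lib.Helper80.T1904.no_idempotent hE hexpE g hg3 hgf ν hid hν htr)
      · push Not at h8
        obtain ⟨hea, hZ2, _⟩ := Cfsg.Agent.Lib.Helper57.T1904.beta_c2 h hA3 hna B hBn hBa hBi hBfpf hsc hexp h8 hmod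
        exact finish h hna hea hZ2

/-- Let X be a finite nonabelian 2-group with no normal abelian subgroup that is self-centralizing and contains an elementary abelian subgroup of order 8. Suppose a group A of automorphisms of X of odd order satisfies [X, A] = X. Then X is the quaternion group of order 8, or X is special of order 64 with exactly three involutions, all central, or X is extraspecial of order 32 with exactly eleven involutions (the central product of a quaternion group and a dihedral group of order 8). -/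
theorem result {X : Type*} [Group X] [Finite X] (hX : IsPGroup 2 X) (hna : ¬ IsMulCommutative X)
    (hscn : ¬ ∃ A : Subgroup X, A.Normal ∧ Subgroup.centralizer (A : Set X) = A ∧
      ∃ E : Subgroup X, E ≤ A ∧ Cfsg.IsElementaryAbelian 2 E ∧ Nat.card E = 8)
    (A : Subgroup (MulAut X)) (hA : Odd (Nat.card A))
    (hXA : Subgroup.closure {g : X | ∃ φ ∈ A, ∃ x : X, g = x⁻¹ * φ x} = ⊤) :
    Nonempty (X ≃* QuaternionGroup 2) ∨
      (Cfsg.IsSpecial 2 X ∧ Nat.card X = 64 ∧ Nat.card {x : X // orderOf x = 2} = 3 ∧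
        ∀ x : X, orderOf x = 2 → x ∈ Subgroup.center X) ∨
      (Cfsg.IsExtraspecial 2 X ∧ Nat.card X = 32 ∧ Nat.card {x : X // orderOf x = 2} = 11) := by
  exact main (Cfsg.Agent.Lib.Helper97.T1904.ctx_of_hyp hX hscn A hA hXA) hna

end Cfsg.Agent.S1904
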