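import Cfsg.Statements.S1905
import Cfsg.Agent.Lib.Helper40.StronglyEmbedded
import Cfsg.Agent.Lib.Helper40.Cores

set_option autoImplicit false
open Cfsg

namespace Cfsg.Agent.S1905

open Cfsg.Agent.Lib.Helper40

/-- Let M be a subgroup of even order of a finite group S such that M contains the centralizer in S of each of its involutions and the normal core of M in S has odd order. Then all involutions of S are conjugate. If moreover N_S(X) ≤ M for a Sylow 2-subgroup X of M and I is an involution in the centre of X, then all involutions of M are conjugate in M and M = M₀ C_M(I) for some subgroup M₀ of M of odd order. -/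
theorem result {S : Type*} [Group S] [Finite S] (M : Subgroup S) (hM : Even (Nat.card M))
    (hC : ∀ i ∈ M, orderOf i = 2 → Subgroup.centralizer ({i} : Set S) ≤ M) (hcore : Odd (Nat.card M.normalCore)) :
    (∀ x y : S, orderOf x = 2 → orderOf y = 2 → IsConj x y) ∧
      ∀ (X : Sylow 2 M) (I : M), I ∈ (Subgroup.center ↥(X : Subgroup ↥M)).map (X : Subgroup ↥M).subtype → orderOf I = 2 →
        Subgroup.normalizer (((X : Subgroup M).map M.subtype : Subgroup S) : Set S) ≤ M →
        (∀ x y : M, orderOf x = 2 → orderOf y = 2 → IsConj x y) ∧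
          ∃ M₀ : Subgroup M, Odd (Nat.card M₀) ∧
            ∀ m : M, ∃ a ∈ M₀, ∃ c ∈ Subgroup.centralizer ({I} : Set M), m = a * c := by
  classical
  have : Fact (Nat.Prime 2) := ⟨Nat.prime_two⟩
  have hclass := one_class_of_centralizers M hM hC hcore
  refine ⟨hclass, ?_⟩
  intro X I hIcen hI2 hN
  obtain ⟨P, hP⟩ := exists_sylow_eq_of_normalizer_le M X hN
  have hPM : (P : Subgroup S) ≤ M := by rw [hP]; exact Subgroup.map_subtype_le _
  have hN' : Subgroup.normalizer (((P : Subgroup S)) : Set S) ≤ M := by rw [hP]; exact hN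
  have hI2' : orderOf (I : S) = 2 := by rw [Subgroup.orderOf_coe]; exact hI2
  have hIcen' : ∀ y ∈ (P : Subgroup S), (I : S) * y = y * (I : S) := by
    intro y hy
    rw [hP] at hy
    obtain ⟨x, hx, rfl⟩ := hy
    obtain ⟨z, hz, rfl⟩ := hIcen
    have h1 := (Subgroup.mem_center_iff.mp hz) ⟨x, hx⟩
    have h2 := congrArg (fun w : ↥(X : Subgroup ↥M) => ((w : ↥M) : S)) h1
    simp only [Subgroup.coe_mul] at h2
    exact h2.symm
  have hA : ∀ g t : S, orderOf t = 2 → t ∈ M → g⁻¹ * t * g ∈ M → g ∈ M :=
    fun g t => mem_of_involution_conj_mem M hC P hPM hN' (I : S) hI2' hIcen' g t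
  have hMtop : M ≠ ⊤ := by
    intro h
    have h1 : M.normalCore = M := by
      rw [h]
      exact Subgroup.normalCore_eq_self ⊤
    rw [h1] at hcore
    exact (Nat.not_even_iff_odd.mpr hcore) hM
  constructor
  · intro x y hx hy
    have hx' : orderOf (x : S) = 2 := by rw [Subgroup.orderOf_coe]; exact hx
    have hy' : orderOf (y : S) = 2 := by rw [Subgroup.orderOf_coe]; exact hy
    obtain ⟨g, hg⟩ := isConj_iff.mp (hclass _ _ hx' hy')
    have hgM : g ∈ M := by
      apply hA g (y : S) hy' y.2
      rw [← hg]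
      have : g⁻¹ * (g * (x : S) * g⁻¹) * g = (x : S) := by group
      rw [this]; exact x.2
    rw [isConj_iff]
    refine ⟨⟨g, hgM⟩, ?_⟩
    apply Subtype.ext
    simpa using hg
  · obtain ⟨u, hu2, huM, hu⟩ := exists_involution_transitive M hMtop hC hA hclass (I : S) I.2 hI2'
    refine ⟨(M ⊓ M.map (MulAut.conj u).toMonoidHom).subgroupOf M, ?_, ?_⟩
    · apply odd_card_of_no_involution
      intro i hi hi2
      rw [Subgroup.mem_subgroupOf, Subgroup.mem_inf] at hi
      have hi2' : orderOf (i : S) = 2 := by rw [Subgroup.orderOf_coe]; exact hi2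
      exact huM (hA u (i : S) hi2' hi.1 (mem_map_conj_iff.mp hi.2))
    · intro m
      obtain ⟨a, haM, hau, c, hcM, hcI, hm⟩ := hu (m : S) m.2
      refine ⟨⟨a, haM⟩, ?_, ⟨c, hcM⟩, ?_, ?_⟩
      · rw [Subgroup.mem_subgroupOf, Subgroup.mem_inf]
        exact ⟨haM, mem_map_conj_iff.mpr hau⟩
      · rw [Subgroup.mem_centralizer_iff]
        intro y hy
        rw [Set.mem_singleton_iff] at hy
        rw [hy]
        apply Subtype.ext
        simp only [Subgroup.coe_mul]
        exact hcI.symm
      · apply Subtype.ext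
        simp only [Subgroup.coe_mul]
        exact hm

end Cfsg.Agent.S1905
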