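import Cfsg.Statements.S1907
import Cfsg.Agent.Lib.Helper40.Cores
import Cfsg.Agent.Lib.Helper40.Sylow2

set_option autoImplicit false
open Cfsg

namespace Cfsg.Agent.S1907

open Cfsg.Agent.Lib.Helper40

/-- Let P be a Sylow p-subgroup of a finite group G, H = P ∩ O_{p',p}(G), N = N_G(H) and D = O_{p'}(G). (a) If y is an element of p-power order of N and d ∈ D with d⁻¹ y d ∈ N, then d = d₁ d₂ with d₁ ∈ C_D(y) and d₂ ∈ C_D(H). (b) Two elements of P that are conjugate in G are conjugate in N. -/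
theorem result {G : Type*} [Group G] [Finite G] {p : ℕ} [Fact p.Prime] (P : Sylow p G) :
    (∀ y ∈ Subgroup.normalizer (((P : Subgroup G) ⊓ Cfsg.pPrimePCore p G : Subgroup G) : Set G), (∃ k : ℕ, orderOf y = p ^ k) →
      ∀ d ∈ Cfsg.pPrimeCore p G, d⁻¹ * y * d ∈ Subgroup.normalizer (((P : Subgroup G) ⊓ Cfsg.pPrimePCore p G : Subgroup G) : Set G) →
        ∃ d₁ ∈ Cfsg.pPrimeCore p G ⊓ Subgroup.centralizer ({y} : Set G),
          ∃ d₂ ∈ Cfsg.pPrimeCore p G ⊓ Subgroup.centralizer (((P : Subgroup G) ⊓ Cfsg.pPrimePCore p G : Subgroup G) : Set G), d = d₁ * d₂) ∧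
    ∀ x y : G, x ∈ (P : Subgroup G) → y ∈ (P : Subgroup G) → IsConj x y →
      ∃ n ∈ Subgroup.normalizer (((P : Subgroup G) ⊓ Cfsg.pPrimePCore p G : Subgroup G) : Set G), n * x * n⁻¹ = y := by
  classical
  set D := Cfsg.pPrimeCore p G with hD
  set K := Cfsg.pPrimePCore p G with hK
  set H := (P : Subgroup G) ⊓ K with hH
  set NH := Subgroup.normalizer ((H : Subgroup G) : Set G) with hNH
  have hDn : D.Normal := inferInstance
  have hDcop : (Nat.card D).Coprime p := pPrimeCore_card_coprime' p G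
  have hHD : H ⊓ D = ⊥ := by
    rw [eq_bot_iff, ← sylow_inf_pPrimeCore P]
    exact inf_le_inf_right _ inf_le_left
  -- N_D(H) = C_D(H)
  have hND : ∀ e ∈ D, e ∈ NH → e ∈ Subgroup.centralizer ((H : Subgroup G) : Set G) := by
    intro e heD heN
    rw [Subgroup.mem_centralizer_iff]
    intro h hh
    have h1 : e * h * e⁻¹ ∈ H := (Subgroup.mem_normalizer_iff.mp heN h).mp hh
    have h2 : e * h * e⁻¹ * h⁻¹ ∈ H := mul_mem h1 (inv_mem hh)
    have h3 : e * h * e⁻¹ * h⁻¹ ∈ D := by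
      have : h * e⁻¹ * h⁻¹ ∈ D := hDn.conj_mem _ (inv_mem heD) h
      have h4 := mul_mem heD this
      have h5 : e * (h * e⁻¹ * h⁻¹) = e * h * e⁻¹ * h⁻¹ := by group
      rwa [h5] at h4
    have h4 : e * h * e⁻¹ * h⁻¹ ∈ H ⊓ D := Subgroup.mem_inf.mpr ⟨h2, h3⟩
    rw [hHD, Subgroup.mem_bot] at h4
    calc h * e = (e * h * e⁻¹ * h⁻¹)⁻¹ * (e * h) := by group
      _ = e * h := by rw [h4]; group
  set C := D ⊓ Subgroup.centralizer ((H : Subgroup G) : Set G) with hC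
  have hCD : C ≤ D := inf_le_left
  have hCcop : (Nat.card C).Coprime p :=
    Nat.Coprime.coprime_dvd_left (Subgroup.card_dvd_of_le hCD) hDcop
  -- NH normalizes C
  have hNC : NH ≤ Subgroup.normalizer ((C : Subgroup G) : Set G) := by
    rw [Subgroup.le_normalizer_iff]
    intro n hn c hc
    have hc' := Subgroup.mem_inf.mp hc
    refine Subgroup.mem_inf.mpr ⟨hDn.conj_mem _ hc'.1 n, ?_⟩
    rw [Subgroup.mem_centralizer_iff]
    intro h hh
    have hn' : n⁻¹ ∈ NH := inv_mem hn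
    have h1 : n⁻¹ * h * n⁻¹⁻¹ ∈ H := (Subgroup.mem_normalizer_iff.mp hn' h).mp hh
    rw [inv_inv] at h1
    have h2 := (Subgroup.mem_centralizer_iff.mp hc'.2) _ h1
    calc h * (n * c * n⁻¹) = n * ((n⁻¹ * h * n) * c) * n⁻¹ := by group
      _ = n * (c * (n⁻¹ * h * n)) * n⁻¹ := by rw [h2]
      _ = n * c * n⁻¹ * h := by group
  -- part (a)
  have partA : ∀ y ∈ NH, (∃ k : ℕ, orderOf y = p ^ k) → ∀ d ∈ D, d⁻¹ * y * d ∈ NH →
      ∃ d₁ ∈ D ⊓ Subgroup.centralizer ({y} : Set G), ∃ d₂ ∈ C, d = d₁ * d₂ := by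
    intro y hy ⟨k, hk⟩ d hd hyd
    set w := y⁻¹ * (d⁻¹ * y * d) with hw
    have hwN : w ∈ NH := mul_mem (inv_mem hy) hyd
    have hwD : w ∈ D := by
      have h1 : y⁻¹ * d⁻¹ * y⁻¹⁻¹ ∈ D := hDn.conj_mem _ (inv_mem hd) y⁻¹
      have h2 := mul_mem h1 hd
      have h3 : y⁻¹ * d⁻¹ * y⁻¹⁻¹ * d = w := by rw [hw]; group
      rwa [h3] at h2
    have hwC : w ∈ C := Subgroup.mem_inf.mpr ⟨hwD, hND w hwD hwN⟩
    set Y := Subgroup.zpowers y with hY
    have hYp : IsPGroup p ↥Y := by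
      apply IsPGroup.of_card (n := k)
      rw [Nat.card_zpowers, hk]
    have hYC : Y ≤ Subgroup.normalizer ((C : Subgroup G) : Set G) := by
      rw [hY, Subgroup.zpowers_le]; exact hNC hy
    set R := Subgroup.zpowers (d⁻¹ * y * d) with hR
    have hRp : IsPGroup p ↥R := by
      apply IsPGroup.of_card (n := k)
      rw [Nat.card_zpowers]
      have : d⁻¹ * y * d = (MulAut.conj d⁻¹) y := by simp [MulAut.conj_apply]
      rw [this, MulEquiv.orderOf_eq, hk]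
    have hRle : R ≤ Y ⊔ C := by
      rw [hR, Subgroup.zpowers_le]
      have : d⁻¹ * y * d = y * w := by rw [hw]; group
      rw [this]
      exact mul_mem (Subgroup.mem_sup_left (Subgroup.mem_zpowers y)) (Subgroup.mem_sup_right hwC)
    obtain ⟨c, hcC, hc⟩ := exists_conj_into_of_normalizes Y C R hYp hCcop hYC hRp hRle
    have h1 : c * (d⁻¹ * y * d) * c⁻¹ ∈ Y := hc _ (Subgroup.mem_zpowers _)
    -- y⁻¹ * that lies in C
    have hyinvC : y⁻¹ * c * y ∈ C := by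
      have hyi : y⁻¹ ∈ Subgroup.normalizer ((C : Subgroup G) : Set G) := inv_mem (hNC hy)
      have := (Subgroup.mem_normalizer_iff.mp hyi c).mp hcC
      rwa [inv_inv] at this
    have h2 : y⁻¹ * (c * (d⁻¹ * y * d) * c⁻¹) ∈ C := by
      have h3 : y⁻¹ * (c * (d⁻¹ * y * d) * c⁻¹) = (y⁻¹ * c * y) * w * c⁻¹ := by rw [hw]; group
      rw [h3]
      exact mul_mem (mul_mem hyinvC hwC) (inv_mem hcC)
    have h3 : y⁻¹ * (c * (d⁻¹ * y * d) * c⁻¹) ∈ Y := mul_mem (inv_mem (Subgroup.mem_zpowers y)) h1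
    have hYCbot : Y ⊓ C = ⊥ := isPGroup_inf_coprime_eq_bot Y C hYp hCcop
    have h4 : y⁻¹ * (c * (d⁻¹ * y * d) * c⁻¹) ∈ Y ⊓ C := Subgroup.mem_inf.mpr ⟨h3, h2⟩
    rw [hYCbot, Subgroup.mem_bot] at h4
    have h5 : c * (d⁻¹ * y * d) * c⁻¹ = y := by
      calc c * (d⁻¹ * y * d) * c⁻¹ = y * (y⁻¹ * (c * (d⁻¹ * y * d) * c⁻¹)) := by group
        _ = y := by rw [h4, mul_one]
    refine ⟨d * c⁻¹, Subgroup.mem_inf.mpr ⟨mul_mem hd (inv_mem (hCD hcC)), ?_⟩, c, hcC, by group⟩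
    rw [Subgroup.mem_centralizer_iff]
    intro z hz
    rw [Set.mem_singleton_iff] at hz
    rw [hz]
    calc y * (d * c⁻¹) = (d * c⁻¹) * (c * (d⁻¹ * y * d) * c⁻¹) := by group
      _ = d * c⁻¹ * y := by rw [h5]
  refine ⟨fun y hy hyk d hd hyd => partA y hy hyk d hd hyd, ?_⟩
  -- part (b)
  intro x y hx hy hxy
  obtain ⟨g, hg⟩ := isConj_iff.mp hxy
  obtain ⟨Q, hQ⟩ := exists_sylow_map_eq_inf P K
  have hfrat := Sylow.normalizer_sup_eq_top Q
  rw [hQ] at hfrat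
  have hPN : (P : Subgroup G) ≤ NH := by
    rw [Subgroup.le_normalizer_iff]
    intro s hs h hh
    have hh' := Subgroup.mem_inf.mp hh
    exact Subgroup.mem_inf.mpr ⟨mul_mem (mul_mem hs hh'.1) (inv_mem hs), (inferInstance : K.Normal).conj_mem _ hh'.2 s⟩
  have hKPD : K ≤ (P : Subgroup G) ⊔ D := pPrimePCore_le_sylow_sup P
  have htop : NH ⊔ D = ⊤ := by
    rw [eq_top_iff, ← hfrat]
    apply sup_le le_sup_left
    exact hKPD.trans (sup_le (hPN.trans le_sup_left) le_sup_right)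
  have hg' : g ∈ ((NH ⊔ D : Subgroup G) : Set G) := by rw [htop]; exact Set.mem_univ g
  rw [Subgroup.mul_normal] at hg'
  obtain ⟨n, hn, d, hd, rfl⟩ := hg'
  -- x is a p-element in NH
  have hxk : ∃ k : ℕ, orderOf x = p ^ k := by
    obtain ⟨k, hk⟩ := (IsPGroup.iff_orderOf.mp P.isPGroup') ⟨x, hx⟩
    rw [Subgroup.orderOf_mk] at hk
    exact ⟨k, hk⟩
  have h1 : (d⁻¹)⁻¹ * x * d⁻¹ ∈ NH := by
    have h2 : (d⁻¹)⁻¹ * x * d⁻¹ = n⁻¹ * y * n := by rw [← hg]; group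
    rw [h2]
    exact mul_mem (mul_mem (inv_mem hn) (hPN hy)) hn
  obtain ⟨d₁, hd₁, d₂, hd₂, hdd⟩ := partA x (hPN hx) hxk d⁻¹ (inv_mem hd) h1
  have hd₁x : x * d₁ = d₁ * x := by
    have := (Subgroup.mem_centralizer_iff.mp (Subgroup.mem_inf.mp hd₁).2) x (Set.mem_singleton x)
    exact this
  have hd₂N : d₂ ∈ NH := Subgroup.centralizer_le_normalizer _ (Subgroup.mem_inf.mp hd₂).2
  refine ⟨n * d₂⁻¹, mul_mem hn (inv_mem hd₂N), ?_⟩
  have hd : d = d₂⁻¹ * d₁⁻¹ := by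
    have : d = (d⁻¹)⁻¹ := (inv_inv d).symm
    rw [this, hdd]; group
  rw [← hg, hd]
  calc n * d₂⁻¹ * x * (n * d₂⁻¹)⁻¹ = n * d₂⁻¹ * (d₁⁻¹ * (d₁ * x)) * d₂ * n⁻¹ := by group
    _ = n * d₂⁻¹ * (d₁⁻¹ * (x * d₁)) * d₂ * n⁻¹ := by rw [hd₁x]
    _ = n * (d₂⁻¹ * d₁⁻¹) * x * (n * (d₂⁻¹ * d₁⁻¹))⁻¹ := by group

end Cfsg.Agent.S1907
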