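import Cfsg.Statements.S1910
import Cfsg.Agent.Lib.Helper40.TightlyEmbedded

set_option autoImplicit false
open Cfsg

namespace Cfsg.Agent.S1910

open Cfsg.Agent.Lib.Helper40

variable {G : Type*} [Group G]

theorem basic_inf [Finite G] {Q P T : Subgroup G} (hodd : Odd (Nat.card ↥(Q ⊓ P))) (hT : T ≤ P)
    (hT2 : IsPGroup 2 T) : T ⊓ Q = ⊥ :=
  eq_bot_of_isPGroup_two_of_le_odd (hT2.to_le inf_le_left)
    (le_inf inf_le_right (inf_le_left.trans hT)) hodd

theorem basic_comm {Q T S : Subgroup G} (hTQ : T ⊓ Q = ⊥)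
    (hTN : T ≤ Subgroup.normalizer (Q : Set G)) :
    ∀ t ∈ T, ∀ u ∈ S ⊓ Subgroup.normalizer (T : Set G) ⊓ Q, t * u = u * t := by
  intro t ht u hu
  obtain ⟨hu1, huQ⟩ := Subgroup.mem_inf.mp hu
  obtain ⟨_, huN⟩ := Subgroup.mem_inf.mp hu1
  have h1 : t * u * t⁻¹ * u⁻¹ ∈ Q :=
    mul_mem ((Subgroup.mem_normalizer_iff.mp (hTN ht) u).mp huQ) (inv_mem huQ)
  have h2 : t * u * t⁻¹ * u⁻¹ ∈ T := by
    have h5 : u * t⁻¹ * u⁻¹ ∈ T := (Subgroup.mem_normalizer_iff.mp huN t⁻¹).mp (inv_mem ht)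
    have h3 : t * u * t⁻¹ * u⁻¹ = t * (u * t⁻¹ * u⁻¹) := by group
    rw [h3]; exact mul_mem ht h5
  have h4 : t * u * t⁻¹ * u⁻¹ ∈ T ⊓ Q := Subgroup.mem_inf.mpr ⟨h2, h1⟩
  rw [hTQ, Subgroup.mem_bot] at h4
  calc t * u = (t * u * t⁻¹ * u⁻¹) * (u * t) := by group
    _ = u * t := by rw [h4, one_mul]

theorem basic_sup {Q T S : Subgroup G} (hTN : T ≤ Subgroup.normalizer (Q : Set G)) (hTS : T ≤ S)
    (hS : S ≤ Q ⊔ T) :
    T ⊔ (S ⊓ Subgroup.normalizer (T : Set G) ⊓ Q) = S ⊓ Subgroup.normalizer (T : Set G) := by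
  apply le_antisymm
  · exact sup_le (le_inf hTS Subgroup.le_normalizer) inf_le_left
  · intro s hs
    obtain ⟨hsS, hsN⟩ := Subgroup.mem_inf.mp hs
    have h1 : s ∈ ((Q ⊔ T : Subgroup G) : Set G) := hS hsS
    rw [Subgroup.coe_mul_of_right_le_normalizer_left Q T hTN] at h1
    obtain ⟨q, hq, t, ht, rfl⟩ := Set.mem_mul.mp h1
    have hq' : q ∈ S ⊓ Subgroup.normalizer (T : Set G) ⊓ Q := by
      have h2 : q = (q * t) * t⁻¹ := by group
      refine Subgroup.mem_inf.mpr ⟨Subgroup.mem_inf.mpr ⟨?_, ?_⟩, hq⟩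
      · rw [h2]; exact mul_mem hsS (inv_mem (hTS ht))
      · rw [h2]; exact mul_mem hsN (inv_mem (Subgroup.le_normalizer ht))
    exact mul_mem (Subgroup.mem_sup_right hq') (Subgroup.mem_sup_left ht)

theorem main_hom [Finite G] (Q : Subgroup G) (hQ : Cfsg.IsTightlyEmbedded Q) (g : G)
    (hg : g ∉ Subgroup.normalizer (Q : Set G))
    (P : Subgroup G) (hP : P = Q.map (MulAut.conj g).toMonoidHom)
    (T : Subgroup G) (hT : T ≤ P ⊓ Subgroup.normalizer (Q : Set G)) (hT2 : IsPGroup 2 T)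
    (hTsyl : ¬ 2 ∣ T.relIndex (P ⊓ Subgroup.normalizer (Q : Set G)))
    (S : Subgroup G) (hTS : T ≤ S) (hS : S ≤ Q ⊔ T) (hS2 : IsPGroup 2 S)
    (hSsyl : ¬ 2 ∣ S.relIndex (Q ⊔ T)) :
    ∃ f : T →* ↥(S ⊓ Subgroup.normalizer (T : Set G) ⊓ Q), Function.Injective f := by
  haveI : Fact (Nat.Prime 2) := ⟨Nat.prime_two⟩
  have hTP : T ≤ P := hT.trans inf_le_left
  have hTN : T ≤ Subgroup.normalizer (Q : Set G) := hT.trans inf_le_right
  have hodd : Odd (Nat.card ↥(Q ⊓ P)) := hP ▸ hQ.2 g hg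
  have hTQ : T ⊓ Q = ⊥ := basic_inf hodd hTP hT2
  have hcomm := basic_comm (S := S) hTQ hTN
  have hsup := basic_sup hTN hTS hS
  have hPt : Cfsg.IsTightlyEmbedded P := hP ▸ isTightlyEmbedded_map_conj hQ g
  have hSN : S ≤ Subgroup.normalizer (Q : Set G) := hS.trans (sup_le Subgroup.le_normalizer hTN)
  by_cases hcase : S ≤ Subgroup.normalizer (T : Set G)
  · -- T is normal in S
    have hSQ : S ⊔ Q = Q ⊔ T :=
      le_antisymm (sup_le hS le_sup_left) (sup_le le_sup_right (hTS.trans le_sup_left))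
    have hR : ¬ 2 ∣ (S ⊓ Q).relIndex Q :=
      not_dvd_relIndex_inf_of_le_normalizer S Q hSN (hSQ ▸ hSsyl)
    have hV2 : IsPGroup 2 (T.map (MulAut.conj g⁻¹).toMonoidHom) := hT2.map _
    have hVQ : T.map (MulAut.conj g⁻¹).toMonoidHom ≤ Q := by
      intro x hx
      rw [mem_map_conj_iff] at hx
      have h1 := hTP hx
      rw [hP, mem_map_conj_iff] at h1
      have h2 : g⁻¹ * (g⁻¹⁻¹ * x * g⁻¹) * g = x := by group
      rwa [h2] at h1
    obtain ⟨h, hhQ, hh⟩ := exists_conj_le_relSylow hVQ hV2 (hS2.to_le inf_le_left) hR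
    have hmem : ∀ t : T, ((MulAut.conj (h * g⁻¹)).toMonoidHom.comp T.subtype) t ∈
        S ⊓ Subgroup.normalizer (T : Set G) ⊓ Q := by
      intro t
      have h1 := hh (g⁻¹ * (t : G) * g⁻¹⁻¹) (conj_mem_map_conj t.2)
      have h2 : ((MulAut.conj (h * g⁻¹)).toMonoidHom.comp T.subtype) t
          = h * (g⁻¹ * (t : G) * g⁻¹⁻¹) * h⁻¹ := by
        simp only [MonoidHom.comp_apply, Subgroup.subtype_apply, MulEquiv.coe_toMonoidHom,
          MulAut.conj_apply]
        group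
      rw [h2]
      obtain ⟨h3, h4⟩ := Subgroup.mem_inf.mp h1
      exact Subgroup.mem_inf.mpr ⟨Subgroup.mem_inf.mpr ⟨h3, hcase h3⟩, h4⟩
    refine ⟨MonoidHom.codRestrict _ _ hmem, ?_⟩
    rw [MonoidHom.injective_codRestrict]
    exact (MulAut.conj (h * g⁻¹)).injective.comp T.subtype_injective
  · -- T is not normal in S
    haveI : Group.IsNilpotent ↥S := IsPGroup.isNilpotent hS2
    have hNtop : (Subgroup.normalizer (T : Set G)).subgroupOf S ≠ ⊤ := by
      intro h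
      exact hcase (Subgroup.subgroupOf_eq_top.mp h)
    have hlt := Group.normalizerCondition_of_isNilpotent _ (lt_top_iff_ne_top.mpr hNtop)
    obtain ⟨x, hxN, hxn⟩ := SetLike.exists_of_lt hlt
    have hx1 : ∀ y ∈ S, y ∈ Subgroup.normalizer (T : Set G) →
        (x : G) * y * (x : G)⁻¹ ∈ Subgroup.normalizer (T : Set G) := by
      intro y hyS hyN
      have h1 := (Subgroup.mem_normalizer_iff.mp hxN ⟨y, hyS⟩).mp
        (by rw [Subgroup.mem_subgroupOf]; exact hyN)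
      rw [Subgroup.mem_subgroupOf] at h1
      simpa using h1
    have hx3 : (x : G) ∉ Subgroup.normalizer (T : Set G) := by
      intro h; exact hxn (by rw [Subgroup.mem_subgroupOf]; exact h)
    have hTx : T.map (MulAut.conj (x : G)).toMonoidHom ≤ S ⊓ Subgroup.normalizer (T : Set G) := by
      intro s hs
      rw [mem_map_conj_iff] at hs
      have h1 : s = (x : G) * ((x : G)⁻¹ * s * (x : G)) * (x : G)⁻¹ := by group
      rw [h1]
      refine Subgroup.mem_inf.mpr ⟨mul_mem (mul_mem x.2 (hTS hs)) (inv_mem x.2), ?_⟩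
      exact hx1 _ (hTS hs) (Subgroup.le_normalizer hs)
    have hdisj : T.map (MulAut.conj (x : G)).toMonoidHom ⊓ T = ⊥ := by
      by_contra hne
      have hW2 : IsPGroup 2 ↥(T.map (MulAut.conj (x : G)).toMonoidHom ⊓ T) := hT2.to_le inf_le_right
      have hxP : (x : G) ∈ Subgroup.normalizer (P : Set G) :=
        mem_normalizer_of_tight hPt hW2 hne (inf_le_right.trans hTP)
          (inf_le_left.trans (Subgroup.map_mono hTP))
      have hTxA : T.map (MulAut.conj (x : G)).toMonoidHom ≤ P ⊓ Subgroup.normalizer (Q : Set G) := by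
        refine le_inf ?_ ((hTx.trans inf_le_left).trans hSN)
        calc T.map (MulAut.conj (x : G)).toMonoidHom ≤ P.map (MulAut.conj (x : G)).toMonoidHom :=
              Subgroup.map_mono hTP
          _ = P := map_conj_eq_of_mem_normalizer hxP
      have hsup2 : IsPGroup 2 ↥(T.map (MulAut.conj (x : G)).toMonoidHom ⊔ T) :=
        IsPGroup.to_sup_of_normal_right' (hT2.map _) hT2 (hTx.trans inf_le_right)
      have hle : T.map (MulAut.conj (x : G)).toMonoidHom ⊔ T ≤ T :=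
        relSylow_le_of_le le_sup_right (sup_le hTxA hT) hsup2 hTsyl
      have hle' : T.map (MulAut.conj (x : G)).toMonoidHom ≤ T := le_sup_left.trans hle
      have heq : T.map (MulAut.conj (x : G)).toMonoidHom = T :=
        Subgroup.eq_of_le_of_card_ge hle' (by rw [card_map_conj])
      exact hx3 (mem_normalizer_of_map_conj_eq heq)
    have hTU : T ⊓ (S ⊓ Subgroup.normalizer (T : Set G) ⊓ Q) = ⊥ := by
      rw [eq_bot_iff, ← hTQ]; exact inf_le_inf_left _ inf_le_right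
    obtain ⟨f, hf⟩ := exists_injective_hom_of_le_sup hcomm hTU (hTx.trans (le_of_eq hsup.symm)) hdisj
    let e := Subgroup.equivMapOfInjective T (MulAut.conj (x : G)).toMonoidHom
      (MulAut.conj (x : G)).injective
    exact ⟨f.comp e.toMonoidHom, hf.comp e.injective⟩

/-- Let Q be a tightly embedded subgroup of a finite group G, g an element outside N_G(Q), T a nontrivial Sylow 2-subgroup of Q^g ∩ N_G(Q), and S a Sylow 2-subgroup of QT containing T. Then T ∩ Q = 1, and N_S(T) is the direct product of T and N_S(T) ∩ Q, with N_S(T) ∩ Q isomorphic to T. -/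
theorem result {G : Type*} [Group G] [Finite G] (Q : Subgroup G) (hQ : Cfsg.IsTightlyEmbedded Q)
    (g : G) (hg : g ∉ Subgroup.normalizer (Q : Set G))
    (T : Subgroup G) (hT1 : T ≠ ⊥) (hT : T ≤ Q.map (MulAut.conj g).toMonoidHom ⊓ Subgroup.normalizer (Q : Set G))
    (hTsyl : IsPGroup 2 T ∧ ¬ 2 ∣ T.relIndex (Q.map (MulAut.conj g).toMonoidHom ⊓ Subgroup.normalizer (Q : Set G)))
    (S : Subgroup G) (hTS : T ≤ S) (hS : S ≤ Q ⊔ T) (hSsyl : IsPGroup 2 S ∧ ¬ 2 ∣ S.relIndex (Q ⊔ T)) :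
    T ⊓ Q = ⊥ ∧
      T ⊓ (S ⊓ Subgroup.normalizer (T : Set G) ⊓ Q) = ⊥ ∧
      ⁅T, S ⊓ Subgroup.normalizer (T : Set G) ⊓ Q⁆ = ⊥ ∧
      T ⊔ (S ⊓ Subgroup.normalizer (T : Set G) ⊓ Q) = S ⊓ Subgroup.normalizer (T : Set G) ∧
      Nonempty (↥(S ⊓ Subgroup.normalizer (T : Set G) ⊓ Q) ≃* T) := by
  haveI : Fact (Nat.Prime 2) := ⟨Nat.prime_two⟩
  obtain ⟨P, hP⟩ : ∃ P : Subgroup G, P = Q.map (MulAut.conj g).toMonoidHom := ⟨_, rfl⟩
  rw [← hP] at hT hTsyl
  obtain ⟨hT2, hTsyl⟩ := hTsyl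
  obtain ⟨hS2, hSsyl⟩ := hSsyl
  have hTP : T ≤ P := hT.trans inf_le_left
  have hTN : T ≤ Subgroup.normalizer (Q : Set G) := hT.trans inf_le_right
  have hodd : Odd (Nat.card ↥(Q ⊓ P)) := hP ▸ hQ.2 g hg
  have hTQ : T ⊓ Q = ⊥ := basic_inf hodd hTP hT2
  have hcomm := basic_comm (S := S) hTQ hTN
  have hsup := basic_sup hTN hTS hS
  have hPt : Cfsg.IsTightlyEmbedded P := hP ▸ isTightlyEmbedded_map_conj hQ g
  have hTU : T ⊓ (S ⊓ Subgroup.normalizer (T : Set G) ⊓ Q) = ⊥ := by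
    rw [eq_bot_iff, ← hTQ]; exact inf_le_inf_left _ inf_le_right
  refine ⟨hTQ, hTU, ?_, hsup, ?_⟩
  · rw [Subgroup.commutator_eq_bot_iff_le_centralizer]
    intro t ht
    rw [Subgroup.mem_centralizer_iff]
    intro u hu
    exact (hcomm t ht u hu).symm
  · obtain ⟨f, hf⟩ := main_hom Q hQ g hg P hP T hT hT2 hTsyl S hTS hS hS2 hSsyl
    have hle1 : Nat.card T ≤ Nat.card ↥(S ⊓ Subgroup.normalizer (T : Set G) ⊓ Q) :=
      Nat.card_le_card_of_injective f hf
    have hU2 : IsPGroup 2 ↥(S ⊓ Subgroup.normalizer (T : Set G) ⊓ Q) :=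
      hS2.to_le (inf_le_left.trans inf_le_left)
    -- the swapped configuration
    have hUcent : S ⊓ Subgroup.normalizer (T : Set G) ⊓ Q ≤ Subgroup.centralizer (T : Set G) := by
      intro u hu
      rw [Subgroup.mem_centralizer_iff]
      intro t ht
      exact hcomm t ht u hu
    have hUA : S ⊓ Subgroup.normalizer (T : Set G) ⊓ Q ≤ Q ⊓ Subgroup.normalizer (P : Set G) :=
      le_inf inf_le_right (hUcent.trans (centralizer_le_normalizer_of_tight hPt hT2 hT1 hTP))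
    obtain ⟨T₁, hUT₁, hT₁A, hT₁2, hT₁syl⟩ :=
      exists_relSylow_ge (p := 2) (Q ⊓ Subgroup.normalizer (P : Set G)) _ hUA hU2
    obtain ⟨S₁, hT₁S₁, hS₁le, hS₁2, hS₁syl⟩ :=
      exists_relSylow_ge (p := 2) (P ⊔ T₁) T₁ le_sup_right hT₁2
    have hQeq : Q = P.map (MulAut.conj g⁻¹).toMonoidHom := by
      ext x
      rw [mem_map_conj_iff, hP, mem_map_conj_iff]
      have h2 : g⁻¹ * (g⁻¹⁻¹ * x * g⁻¹) * g = x := by group
      rw [h2]
    have hg' : g⁻¹ ∉ Subgroup.normalizer (P : Set G) := by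
      intro h
      have h1 := map_conj_eq_of_mem_normalizer h
      rw [← hQeq] at h1
      apply hg
      apply mem_normalizer_of_map_conj_eq
      rw [← hP, ← h1]
    obtain ⟨f₁, hf₁⟩ := main_hom P hPt g⁻¹ hg' Q hQeq T₁ hT₁A hT₁2 hT₁syl S₁ hT₁S₁ hS₁le hS₁2 hS₁syl
    have hle2 : Nat.card ↥(S ⊓ Subgroup.normalizer (T : Set G) ⊓ Q) ≤ Nat.card T₁ :=
      Subgroup.card_le_of_le hUT₁
    have hle3 : Nat.card T₁ ≤ Nat.card ↥(S₁ ⊓ Subgroup.normalizer (T₁ : Set G) ⊓ P) :=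
      Nat.card_le_card_of_injective f₁ hf₁
    have hT₁ne : T₁ ≠ ⊥ := by
      intro h
      have h1 : Nat.card T₁ = 1 := by rw [h]; exact Subgroup.card_bot
      have h2 : Nat.card T ≤ 1 := h1 ▸ (hle1.trans hle2)
      exact hT1 (Subgroup.eq_bot_of_card_le T h2)
    have hodd' : Odd (Nat.card ↥(P ⊓ Q)) := by rw [inf_comm]; exact hodd
    have hT₁P : T₁ ⊓ P = ⊥ := basic_inf hodd' (hT₁A.trans inf_le_left) hT₁2
    have hcomm₁ := basic_comm (S := S₁) hT₁P (hT₁A.trans inf_le_right)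
    have hU₁cent : S₁ ⊓ Subgroup.normalizer (T₁ : Set G) ⊓ P ≤ Subgroup.centralizer (T₁ : Set G) := by
      intro u hu
      rw [Subgroup.mem_centralizer_iff]
      intro t ht
      exact hcomm₁ t ht u hu
    have hU₁A : S₁ ⊓ Subgroup.normalizer (T₁ : Set G) ⊓ P ≤ P ⊓ Subgroup.normalizer (Q : Set G) :=
      le_inf inf_le_right (hU₁cent.trans
        (centralizer_le_normalizer_of_tight hQ hT₁2 hT₁ne (hT₁A.trans inf_le_left)))
    have hU₁2 : IsPGroup 2 ↥(S₁ ⊓ Subgroup.normalizer (T₁ : Set G) ⊓ P) :=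
      hS₁2.to_le (inf_le_left.trans inf_le_left)
    have hle4 : Nat.card ↥(S₁ ⊓ Subgroup.normalizer (T₁ : Set G) ⊓ P) ≤ Nat.card T :=
      Nat.le_of_dvd Nat.card_pos (card_dvd_card_relSylow hT hU₁A hU₁2 hTsyl)
    have hbij : Function.Bijective f := by
      rw [Nat.bijective_iff_injective_and_card]
      exact ⟨hf, le_antisymm hle1 (hle2.trans (hle3.trans hle4))⟩
    exact ⟨(MulEquiv.ofBijective f hbij).symm⟩

end Cfsg.Agent.S1910
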