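import Cfsg.Statements.S1921
import Cfsg.Agent.Lib.Helper30.Layer

set_option autoImplicit false
open Cfsg

namespace Cfsg.Agent.S1921

/-- Let a be an involution of a finite group H and L a component of H with a L a⁻¹ ≠ L; put M = ⟨L, aLa⁻¹⟩ and let J be the subgroup generated by the elements x · a x a⁻¹ with x ∈ L (the diagonal). Then every element of M outside J·Z(M) generates M together with J. -/
theorem result {H : Type*} [Group H] [Finite H] (a : H) (ha : orderOf a = 2) (L : Subgroup H) (hL : Cfsg.IsComponent L)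
    (hLa : L.map (MulAut.conj a).toMonoidHom ≠ L) (x : H) (hxM : x ∈ L ⊔ L.map (MulAut.conj a).toMonoidHom)
    (hxJ : x ∉ Subgroup.closure {y : H | ∃ l ∈ L, y = l * (a * l * a⁻¹)} ⊔
      ((L ⊔ L.map (MulAut.conj a).toMonoidHom) ⊓ Subgroup.centralizer ((L ⊔ L.map (MulAut.conj a).toMonoidHom : Subgroup H) : Set H))) :
    Subgroup.closure {y : H | ∃ l ∈ L, y = l * (a * l * a⁻¹)} ⊔ Subgroup.zpowers x = L ⊔ L.map (MulAut.conj a).toMonoidHom := by
  obtain ⟨La, hLadef⟩ : ∃ La, La = L.map (MulAut.conj a).toMonoidHom := ⟨_, rfl⟩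
  rw [← hLadef] at hLa hxM hxJ ⊢
  have hLac : Cfsg.IsComponent La := hLadef ▸ Cfsg.Agent.Lib.Helper30.isComponent_conj a hL
  have hbot : ⁅L, La⁆ = ⊥ := Cfsg.Agent.Lib.Helper30.component_commute hL hLac (Ne.symm hLa)
  have hLcent : L ≤ Subgroup.centralizer (La : Set H) :=
    Subgroup.commutator_eq_bot_iff_le_centralizer.mp hbot
  have hcomm : ∀ l ∈ L, ∀ m ∈ La, l * m = m * l := fun l hl m hm =>
    ((Subgroup.mem_centralizer_iff.mp (hLcent hl)) m hm).symm
  obtain ⟨_, _, hqs⟩ := Cfsg.Agent.Lib.Helper30.qs_subgroup hL.2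
  obtain ⟨J, hJdef⟩ : ∃ J, J = Subgroup.closure {y : H | ∃ l ∈ L, y = l * (a * l * a⁻¹)} := ⟨_, rfl⟩
  rw [← hJdef] at hxJ ⊢
  have hδJ : ∀ l ∈ L, l * (a * l * a⁻¹) ∈ J := fun l hl => by
    rw [hJdef]; exact Subgroup.subset_closure ⟨l, hl, rfl⟩
  have hconjLa : ∀ l ∈ L, a * l * a⁻¹ ∈ La := fun l hl => by
    rw [hLadef]; exact ⟨l, hl, by simp [MulAut.conj_apply]⟩
  have hJM : J ≤ L ⊔ La := by
    rw [hJdef, Subgroup.closure_le]
    rintro y ⟨l, hl, rfl⟩
    exact mul_mem (Subgroup.mem_sup_left hl) (Subgroup.mem_sup_right (hconjLa l hl))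
  -- decompose x
  have hx' : x ∈ ((L ⊔ La : Subgroup H) : Set H) := hxM
  rw [Subgroup.coe_mul_of_left_le_normalizer_right L La
    (hLcent.trans (Subgroup.centralizer_le_normalizer _))] at hx'
  obtain ⟨u, hu, v, hv, rfl⟩ := Set.mem_mul.mp hx'
  have hv' : v ∈ L.map (MulAut.conj a).toMonoidHom := hLadef ▸ hv
  obtain ⟨w, hw, hwv⟩ := Subgroup.mem_map.mp hv'
  have hwv' : a * w * a⁻¹ = v := by simpa [MulAut.conj_apply] using hwv
  have hY1 : u * w⁻¹ ∈ J ⊔ Subgroup.zpowers (u * v) := by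
    have h1 : u * w⁻¹ = (u * v) * (w * (a * w * a⁻¹))⁻¹ := by rw [hwv']; group
    rw [h1]
    exact mul_mem (Subgroup.mem_sup_right (Subgroup.mem_zpowers _))
      (inv_mem (Subgroup.mem_sup_left (hδJ w hw)))
  have huwL : u * w⁻¹ ∈ L := mul_mem hu (inv_mem hw)
  have hncent : u * w⁻¹ ∉ Subgroup.centralizer (L : Set H) := by
    intro hc
    apply hxJ
    have h1 : u * v = (w * (a * w * a⁻¹)) * (u * w⁻¹) := by
      rw [hwv']
      have h2 : v * (u * w⁻¹) = (u * w⁻¹) * v := (hcomm _ huwL v hv).symm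
      have h3 : w * (u * w⁻¹) = (u * w⁻¹) * w :=
        (Subgroup.mem_centralizer_iff.mp hc) w hw
      calc u * v = (u * w⁻¹) * w * v := by group
        _ = w * (u * w⁻¹) * v := by rw [h3]
        _ = w * ((u * w⁻¹) * v) := by group
        _ = w * (v * (u * w⁻¹)) := by rw [h2]
        _ = w * v * (u * w⁻¹) := by group
    rw [h1]
    refine mul_mem (Subgroup.mem_sup_left (hδJ w hw)) (Subgroup.mem_sup_right ?_)
    refine Subgroup.mem_inf.mpr ⟨Subgroup.mem_sup_left huwL, ?_⟩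
    have h4 : L ⊔ La ≤ Subgroup.centralizer ((Subgroup.zpowers (u * w⁻¹) : Subgroup H) : Set H) := by
      refine sup_le ?_ ?_
      · rw [Subgroup.le_centralizer_iff, Subgroup.zpowers_le]; exact hc
      · rw [Subgroup.le_centralizer_iff, Subgroup.zpowers_le, Subgroup.mem_centralizer_iff]
        intro m hm
        exact (hcomm _ huwL m hm).symm
    rw [Subgroup.le_centralizer_iff] at h4
    exact h4 (Subgroup.mem_zpowers _)
  -- N = Y ⊓ L is normalized by L
  have hNnorm : L ≤ Subgroup.normalizer (((J ⊔ Subgroup.zpowers (u * v)) ⊓ L : Subgroup H) : Set H) := by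
    intro l hl
    apply Subgroup.mem_normalizer_fintype
    intro n hn
    obtain ⟨hnY, hnL⟩ := Subgroup.mem_inf.mp hn
    refine Subgroup.mem_inf.mpr ⟨?_, mul_mem (mul_mem hl hnL) (inv_mem hl)⟩
    have h1 : l * n * l⁻¹ = (l * (a * l * a⁻¹)) * n * (l * (a * l * a⁻¹))⁻¹ := by
      have h2 : (a * l * a⁻¹) * n = n * (a * l * a⁻¹) := (hcomm n hnL _ (hconjLa l hl)).symm
      calc l * n * l⁻¹ = l * (n * (a * l * a⁻¹)) * (a * l * a⁻¹)⁻¹ * l⁻¹ := by group
        _ = l * ((a * l * a⁻¹) * n) * (a * l * a⁻¹)⁻¹ * l⁻¹ := by rw [h2]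
        _ = (l * (a * l * a⁻¹)) * n * (l * (a * l * a⁻¹))⁻¹ := by group
    rw [h1]
    exact mul_mem (mul_mem (Subgroup.mem_sup_left (hδJ l hl)) hnY)
      (inv_mem (Subgroup.mem_sup_left (hδJ l hl)))
  have hLY : L ≤ J ⊔ Subgroup.zpowers (u * v) := by
    rcases hqs _ inf_le_right hNnorm with h | h
    · rw [← h]; exact inf_le_left
    · exact absurd (h (Subgroup.mem_inf.mpr ⟨hY1, huwL⟩)) hncent
  have hLaY : La ≤ J ⊔ Subgroup.zpowers (u * v) := by
    intro m hm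
    have hm' : m ∈ L.map (MulAut.conj a).toMonoidHom := hLadef ▸ hm
    obtain ⟨l, hl, hlm⟩ := Subgroup.mem_map.mp hm'
    have hlm' : a * l * a⁻¹ = m := by simpa [MulAut.conj_apply] using hlm
    have h1 : m = l⁻¹ * (l * (a * l * a⁻¹)) := by rw [hlm']; group
    rw [h1]
    exact mul_mem (inv_mem (hLY hl)) (Subgroup.mem_sup_left (hδJ l hl))
  apply le_antisymm
  · refine sup_le hJM ?_
    rw [Subgroup.zpowers_le]; exact hxM
  · exact sup_le hLY hLaY

end Cfsg.Agent.S1921
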