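import Cfsg.Statements.S1922
import Cfsg.Agent.Lib.Helper40.IsolatedPoint
open Cfsg.Agent.Lib.Helper40

set_option autoImplicit false
open Cfsg

namespace Cfsg.Agent.S1922

/-- Let z be an involution of a finite group G and H a proper subgroup such that z lies in gHg⁻¹ exactly when g ∈ H. Then the following are equivalent: (1) for every conjugate t ≠ z of z commuting with z, the product zt lies in gHg⁻¹ exactly when g ∈ H; (2) z lies in the centre of some Sylow 2-subgroup of G, and for every conjugate t ≠ z of z commuting with z, the centralizer of zt is contained in H. -/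
theorem result {G : Type*} [Group G] [Finite G] (z : G) (hz : orderOf z = 2) (H : Subgroup G) (hH : H ≠ ⊤)
    (h0 : ∀ g : G, z ∈ H.map (MulAut.conj g).toMonoidHom ↔ g ∈ H) :
    (∀ t : G, IsConj z t → t ≠ z → t * z = z * t → ∀ g : G, z * t ∈ H.map (MulAut.conj g).toMonoidHom ↔ g ∈ H) ↔
      ((∃ P : Sylow 2 G, z ∈ (Subgroup.center ↥(P : Subgroup G)).map (P : Subgroup G).subtype) ∧
        ∀ t : G, IsConj z t → t ≠ z → t * z = z * t → Subgroup.centralizer ({z * t} : Set G) ≤ H) := by
  have : Fact (Nat.Prime 2) := ⟨Nat.prime_two⟩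
  have h0' : IsoPt.Iso0 z H := by
    intro g
    rw [← h0 g, mem_map_conj_iff]
  have hz1 : z * z = 1 := inv_sq_one hz
  constructor
  · intro h1
    have h1' : IsoPt.Iso1 z H := by
      intro t ht hne hc g
      rw [← h1 t ht hne hc g, mem_map_conj_iff]
    refine ⟨?_, ?_⟩
    · obtain ⟨P, hzP, hcomm⟩ := IsoPt.exists_sylow_center hz h0' h1' hH
      refine ⟨P, ⟨⟨z, hzP⟩, ?_, rfl⟩⟩
      rw [SetLike.mem_coe, Subgroup.mem_center_iff]
      intro y
      apply Subtype.ext
      exact hcomm y.1 y.2
    · intro t ht hne hc c hcc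
      rw [Subgroup.mem_centralizer_iff] at hcc
      have hcc' : (z * t) * c = c * (z * t) := hcc (z * t) rfl
      have hztH : z * t ∈ H := by
        have := (h1' t ht hne hc 1).mpr H.one_mem
        simpa using this
      apply (h1' t ht hne hc c).mp
      have : c⁻¹ * (z * t) * c = z * t := by
        rw [mul_assoc, hcc', ← mul_assoc, inv_mul_cancel, one_mul]
      rw [this]; exact hztH
  · rintro ⟨⟨P, hzP⟩, hC⟩ t ht hne hc g
    obtain ⟨y, hycen, hyz⟩ := hzP
    rw [SetLike.mem_coe, Subgroup.mem_center_iff] at hycen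
    have hcommP : ∀ q ∈ (P : Subgroup G), q * z = z * q := by
      intro q hq
      have := congrArg Subtype.val (hycen ⟨q, hq⟩)
      simp only [Subgroup.coe_mul] at this
      change q * y.1 = y.1 * q at this
      have hyz' : y.1 = z := hyz
      rw [hyz'] at this
      exact this
    have hPH : (P : Subgroup G) ≤ H := fun q hq => h0'.centralizer_le (hcommP q hq)
    have htH : t ∈ H := h0'.centralizer_le hc
    have ht1 : t * t = 1 := IsoPt.isConj_sq_one hz ht
    have ha1 : (z * t) * (z * t) = 1 := by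
      calc (z * t) * (z * t) = z * (t * z) * t := by group
        _ = z * (z * t) * t := by rw [hc]
        _ = (z * z) * (t * t) := by group
        _ = 1 := by rw [hz1, ht1, one_mul]
    rw [mem_map_conj_iff]
    constructor
    · intro ha
      set a' := g⁻¹ * (z * t) * g with ha'
      have ha'1 : a' * a' = 1 := by
        calc a' * a' = g⁻¹ * ((z * t) * (z * t)) * g := by rw [ha']; group
          _ = 1 := by rw [ha1]; group
      have hpg : IsPGroup 2 (Subgroup.zpowers a') := by
        rintro ⟨u, k, rfl⟩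
        refine ⟨1, ?_⟩
        apply Subtype.ext
        simp only [pow_one, Subgroup.coe_pow, Subgroup.coe_one]
        rw [← zpow_natCast, ← zpow_mul, mul_comm, zpow_mul, zpow_natCast, pow_two, ha'1, one_zpow]
      obtain ⟨h, hh, hhP⟩ := exists_conj_mem_sylow_of_le H P hPH a' ha (Subgroup.zpowers a') hpg
        (Subgroup.mem_zpowers a')
      have hcm := hcommP _ hhP
      -- u = h * g⁻¹
      have hz' : (h * g⁻¹)⁻¹ * z * (h * g⁻¹) ∈ Subgroup.centralizer ({z * t} : Set G) := by
        rw [Subgroup.mem_centralizer_iff]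
        intro x hx
        rw [Set.mem_singleton_iff] at hx
        subst hx
        have e1 : h * a' * h⁻¹ = (h * g⁻¹) * (z * t) * (h * g⁻¹)⁻¹ := by rw [ha']; group
        rw [e1] at hcm
        calc z * t * ((h * g⁻¹)⁻¹ * z * (h * g⁻¹))
            = (h * g⁻¹)⁻¹ * ((h * g⁻¹) * (z * t) * (h * g⁻¹)⁻¹ * z) * (h * g⁻¹) := by group
          _ = (h * g⁻¹)⁻¹ * (z * ((h * g⁻¹) * (z * t) * (h * g⁻¹)⁻¹)) * (h * g⁻¹) := by rw [hcm]
          _ = (h * g⁻¹)⁻¹ * z * (h * g⁻¹) * (z * t) := by group
      have hu : h * g⁻¹ ∈ H := (h0' _).mp (hC t ht hne hc hz')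
      have hg' : g⁻¹ ∈ H := by
        have := H.mul_mem (H.inv_mem hh) hu
        simpa using this
      simpa using H.inv_mem hg'
    · intro hg
      exact H.mul_mem (H.mul_mem (H.inv_mem hg) (H.mul_mem h0'.mem htH)) hg

end Cfsg.Agent.S1922
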