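import Cfsg.Statements.S1924
import Cfsg.Agent.Lib.Helper26.CosetSign
import Cfsg.Agent.Lib.Helper42.PResidual

set_option autoImplicit false
open Cfsg

namespace Cfsg.Agent.S1924

open Cfsg.Agent.Lib.Helper26.CosetSign

theorem dih_rot_zpow {n : ℕ} (a : ZMod n) (k : ℤ) :
    ∃ b : ZMod n, (DihedralGroup.r a) ^ k = DihedralGroup.r b := by
  induction k with
  | zero => exact ⟨0, by rw [zpow_zero, DihedralGroup.one_def]⟩
  | succ k ih =>
    obtain ⟨b, hb⟩ := ih
    exact ⟨b + a, by rw [zpow_add_one, hb, DihedralGroup.r_mul_r]⟩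
  | pred k ih =>
    obtain ⟨b, hb⟩ := ih
    exact ⟨b - a, by rw [zpow_sub_one, hb, DihedralGroup.inv_r, DihedralGroup.r_mul_r, sub_eq_add_neg]⟩

theorem dih_sr_zpow {n : ℕ} (a : ZMod n) (k : ℤ) :
    (DihedralGroup.sr a) ^ k = 1 ∨ (DihedralGroup.sr a) ^ k = DihedralGroup.sr a := by
  have h2 : DihedralGroup.sr a * DihedralGroup.sr a = 1 := by
    rw [DihedralGroup.sr_mul_sr, sub_self, DihedralGroup.one_def]
  have hinv : (DihedralGroup.sr a)⁻¹ = DihedralGroup.sr a := by
    rw [inv_eq_iff_mul_eq_one, h2]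
  induction k with
  | zero => left; simp
  | succ k ih =>
    rcases ih with h | h
    · right; rw [zpow_add_one, h, one_mul]
    · left; rw [zpow_add_one, h, h2]
  | pred k ih =>
    rcases ih with h | h
    · right; rw [zpow_sub_one, h, one_mul, hinv]
    · left; rw [zpow_sub_one, h, hinv, h2]

theorem dih_aux {n : ℕ} (C : Subgroup (DihedralGroup n)) (hC : IsCyclic ↥C) (hidx : C.index = 2)
    (y : DihedralGroup n) (hy : y ∉ C) : orderOf y = 2 := by
  obtain ⟨⟨g, hgC⟩, hg⟩ := hC.exists_generator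
  have hgen : ∀ x ∈ C, ∃ k : ℤ, g ^ k = x := by
    intro x hx
    obtain ⟨k, hk⟩ := Subgroup.mem_zpowers_iff.mp (hg ⟨x, hx⟩)
    exact ⟨k, by simpa using congrArg Subtype.val hk⟩
  cases y with
  | sr i => exact DihedralGroup.orderOf_sr i
  | r i =>
    cases g with
    | r a =>
      exfalso
      have hrot : ∀ x ∈ C, ∃ b, x = DihedralGroup.r b := by
        intro x hx
        obtain ⟨k, rfl⟩ := hgen x hx
        exact dih_rot_zpow a k
      have hs0 : DihedralGroup.sr (0 : ZMod n) ∉ C := by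
        intro h
        obtain ⟨b, hb⟩ := hrot _ h
        cases hb
      have hmem : DihedralGroup.sr (0 : ZMod n) * DihedralGroup.r i ∈ C := by
        rw [Subgroup.mul_mem_iff_of_index_two hidx]
        exact ⟨fun h => absurd h hs0, fun h => absurd h hy⟩
      obtain ⟨b, hb⟩ := hrot _ hmem
      rw [DihedralGroup.sr_mul_r] at hb
      cases hb
    | sr a =>
      have hsq : (DihedralGroup.r i) ^ 2 ∈ C := Subgroup.sq_mem_of_index_two hidx _
      obtain ⟨k, hk⟩ := hgen _ hsq
      have h1 : (DihedralGroup.r i) ^ 2 = 1 := by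
        rcases dih_sr_zpow a k with h | h
        · rw [← hk, h]
        · rw [h] at hk
          rw [pow_two, DihedralGroup.r_mul_r] at hk
          cases hk
      have hne : DihedralGroup.r i ≠ 1 := by
        intro h
        rw [h] at hy
        exact hy C.one_mem
      exact orderOf_eq_prime h1 hne

theorem card_mul_relIndex {G : Type*} [Group G] {H K : Subgroup G} (h : H ≤ K) :
    Nat.card H * H.relIndex K = Nat.card K := by
  have := Subgroup.card_mul_index (H.subgroupOf K)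
  rwa [Nat.card_congr (Subgroup.subgroupOfEquivOfLe h).toEquiv] at this

/-- A consequence of Thompson's transfer lemma. Let G be a finite group, L a subgroup with O²(L) = L, T a Sylow 2-subgroup of L and S a Sylow 2-subgroup of G containing T. Suppose D ≤ S is a dihedral subgroup of order at least 4 (the four-group counts) with D ∩ T = 1 and S = TD as a set of products (so |S| = |T|·|D|), and C ≤ D is cyclic of index 2 in D. If no involution of D outside C is G-conjugate to an involution of the subgroup generated by T and C, and the involution of C is not G-conjugate to any involution of T, then G has a normal subgroup K, containing every Sylow 2-subgroup of L as a Sylow 2-subgroup, with G = KD. -/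
theorem result {G : Type*} [Group G] [Finite G] (L T S D C : Subgroup G) (hL : Cfsg.pResidual 2 ↥L = ⊤)
    (hTL : T ≤ L) (hT2 : IsPGroup 2 T) (hTsyl : ¬ 2 ∣ T.relIndex L)
    (hS2 : IsPGroup 2 S) (hSsyl : ¬ 2 ∣ S.index) (hTS : T ≤ S)
    (hDS : D ≤ S) (hDih : ∃ n : ℕ, 2 ≤ n ∧ Nonempty (↥D ≃* DihedralGroup n)) (hDT : D ⊓ T = ⊥) (hTD : T ⊔ D = S) (hTDc : Nat.card T * Nat.card D = Nat.card S)
    (hCD : C ≤ D) (hC : IsCyclic ↥C) (hCi : C.relIndex D = 2)
    (h1 : ∀ x ∈ D, x ∉ C → orderOf x = 2 → ∀ g : G, g * x * g⁻¹ ∈ T ⊔ C → False)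
    (h2 : ∀ c ∈ C, orderOf c = 2 → ∀ g : G, g * c * g⁻¹ ∈ T → False) :
    ∃ K : Subgroup G, K.Normal ∧ K ⊔ D = ⊤ ∧
      ∀ T' : Subgroup G, T' ≤ L → IsPGroup 2 T' → ¬ 2 ∣ T'.relIndex L → T' ≤ K ∧ ¬ 2 ∣ T'.relIndex K := by
  classical
  have : Fact (Nat.Prime 2) := ⟨Nat.prime_two⟩
  -- elements of D \ C are involutions
  have hinv : ∀ x ∈ D, x ∉ C → orderOf x = 2 := by
    intro x hxD hxC
    obtain ⟨n, -, ⟨e⟩⟩ := hDih
    have hcyc : IsCyclic ↥((C.subgroupOf D).map (e : ↥D →* DihedralGroup n)) := by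
      have : IsCyclic ↥(C.subgroupOf D) :=
        isCyclic_of_surjective (Subgroup.subgroupOfEquivOfLe hCD).symm.toMonoidHom
          (Subgroup.subgroupOfEquivOfLe hCD).symm.surjective
      exact isCyclic_of_surjective ((e : ↥D →* DihedralGroup n).subgroupMap (C.subgroupOf D))
        ((e : ↥D →* DihedralGroup n).subgroupMap_surjective _)
    have hidx : ((C.subgroupOf D).map (e : ↥D →* DihedralGroup n)).index = 2 := by
      rw [Subgroup.index_map_equiv]
      exact hCi
    have hnot : e ⟨x, hxD⟩ ∉ (C.subgroupOf D).map (e : ↥D →* DihedralGroup n) := by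
      rintro ⟨z, hz, hze⟩
      have hzx : z = ⟨x, hxD⟩ := e.injective hze
      subst hzx
      exact hxC (Subgroup.mem_subgroupOf.mp hz)
    have h2 := dih_aux _ hcyc hidx _ hnot
    rw [MulEquiv.orderOf_eq, Subgroup.orderOf_mk] at h2
    exact h2
  obtain ⟨x₀, hx₀D, hx₀C⟩ : ∃ x ∈ D, x ∉ C := by
    by_contra hcon
    push Not at hcon
    have : C.relIndex D = 1 := Subgroup.relIndex_eq_one.mpr hcon
    omega
  have hTC : T ⊓ C = ⊥ := by
    rw [eq_bot_iff, ← hDT]
    exact le_inf (inf_le_right.trans hCD) inf_le_left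
  have hS₁S : T ⊔ C ≤ S := sup_le hTS (hCD.trans hDS)
  have hx₀S₁ : x₀ ∉ T ⊔ C := fun h =>
    h1 x₀ hx₀D hx₀C (hinv x₀ hx₀D hx₀C) 1 (by simpa using h)
  -- cardinalities
  have hcardS₁ : Nat.card T * Nat.card C ≤ Nat.card ↥(T ⊔ C) := by
    rw [← Nat.card_prod]
    let f : ↥T × ↥C → ↥(T ⊔ C) := fun p =>
      ⟨(p.1 : G) * (p.2 : G), (T ⊔ C).mul_mem ((le_sup_left : T ≤ T ⊔ C) p.1.2)
        ((le_sup_right : C ≤ T ⊔ C) p.2.2)⟩
    apply Nat.card_le_card_of_injective f
    intro p q hpq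
    have h : (p.1 : G) * (p.2 : G) = (q.1 : G) * (q.2 : G) := congrArg Subtype.val hpq
    have h3 : (q.1 : G)⁻¹ * (p.1 : G) = (q.2 : G) * (p.2 : G)⁻¹ := by
      rw [eq_mul_inv_iff_mul_eq, mul_assoc, h, inv_mul_cancel_left]
    have h4 : (q.1 : G)⁻¹ * (p.1 : G) ∈ T ⊓ C :=
      ⟨T.mul_mem (T.inv_mem q.1.2) p.1.2, by rw [h3]; exact C.mul_mem q.2.2 (C.inv_mem p.2.2)⟩
    rw [hTC, Subgroup.mem_bot] at h4
    have h5 : (p.1 : G) = q.1 := by
      rw [inv_mul_eq_one] at h4
      exact h4.symm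
    have h6 : (p.2 : G) = q.2 := by
      rw [h5] at h
      exact mul_left_cancel h
    exact Prod.ext (Subtype.ext h5) (Subtype.ext h6)
  have hcardD : Nat.card C * 2 = Nat.card D := by
    rw [← hCi]
    exact card_mul_relIndex hCD
  have hTpos : 0 < Nat.card T := Nat.card_pos
  have hCpos : 0 < Nat.card C := Nat.card_pos
  have hrelS₁ : (T ⊔ C).relIndex S = 2 := by
    have h3 := card_mul_relIndex hS₁S
    have h4 : (T ⊔ C).relIndex S ≠ 1 := by
      intro h
      rw [Subgroup.relIndex_eq_one] at h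
      exact hx₀S₁ (h (hDS hx₀D))
    have h5 : (T ⊔ C).relIndex S ≠ 0 := by
      intro h
      rw [h, mul_zero] at h3
      have : 0 < Nat.card S := Nat.card_pos
      omega
    have h6 : Nat.card ↥(T ⊔ C) * (T ⊔ C).relIndex S ≤ Nat.card ↥(T ⊔ C) * 2 := by
      rw [h3, ← hTDc, ← hcardD, ← mul_assoc]
      exact Nat.mul_le_mul_right 2 hcardS₁
    have h7 : (T ⊔ C).relIndex S ≤ 2 := Nat.le_of_mul_le_mul_left h6 Nat.card_pos
    omega
  have hSodd : Odd S.index := by
    rw [← Nat.not_even_iff_odd, even_iff_two_dvd]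
    exact hSsyl
  have hidxS₁ : (T ⊔ C).index = 2 ^ 1 * S.index := by
    rw [← Subgroup.relIndex_mul_index hS₁S, hrelS₁, pow_one]
  -- the first sign character
  obtain ⟨φ₀, hφ₀⟩ := exists_hom (T ⊔ C)
  have hφx : ∀ x ∈ D, x ∉ C → φ₀ x = -1 := by
    intro x hxD hxC
    have hx2 := hinv x hxD hxC
    have hxx : x ^ 2 = 1 := by rw [← hx2, pow_orderOf_eq_one]
    apply hφ₀ x 1 S.index le_rfl hSodd hidxS₁ (by rw [hx2, pow_one])
    intro i g hg
    rcases Nat.even_or_odd' i with ⟨q, rfl | rfl⟩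
    · rw [pow_mul, hxx, one_pow]
    · exfalso
      rw [pow_succ, pow_mul, hxx, one_pow, one_mul] at hg
      exact h1 x hxD hxC hx2 g⁻¹ (by simpa using hg)
  have hφC : ∀ c ∈ C, φ₀ c = 1 := by
    intro c hc
    have h3 : x₀ * c ∉ C := by
      intro h
      apply hx₀C
      have := C.mul_mem h (C.inv_mem hc)
      simpa using this
    have h4 := hφx (x₀ * c) (D.mul_mem hx₀D (hCD hc)) h3
    rw [map_mul, hφx x₀ hx₀D hx₀C] at h4
    rcases Int.units_eq_one_or (φ₀ c) with h | h
    · exact h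
    · rw [h] at h4
      exact absurd h4 (by decide)
  have hoddφ : ∀ g : G, Odd (orderOf g) → φ₀ g = 1 := by
    intro g hg
    apply int_units_eq_one_of_odd _ _ hg
    rw [← map_pow, pow_orderOf_eq_one, map_one]
  have hodd₀ : ∀ g : G, Odd (orderOf g) → g ∈ φ₀.ker := fun g hg => hoddφ g hg
  have hidx₀ : φ₀.ker.index = 2 := index_ker_eq_two φ₀ x₀ (hφx x₀ hx₀D hx₀C)
  -- L is generated by elements of odd order
  have hLgen : ∀ H : Subgroup G, (∀ g : G, Odd (orderOf g) → g ∈ H) → L ≤ H := by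
    intro H hH l hl
    have h3 : Cfsg.pResidual 2 ↥L ≤ H.comap L.subtype := by
      unfold Cfsg.pResidual
      rw [Subgroup.closure_le]
      intro z hz
      have hz' : Nat.Coprime (orderOf z) 2 := hz
      rw [Nat.coprime_two_right, ← Subgroup.orderOf_coe] at hz'
      exact hH _ hz'
    have h4 : (⟨l, hl⟩ : ↥L) ∈ Cfsg.pResidual 2 ↥L := by
      rw [hL]
      exact Subgroup.mem_top _
    exact h3 h4
  have hLH₀ : L ≤ φ₀.ker := hLgen _ hodd₀
  -- the generator of C
  obtain ⟨⟨d, hdC⟩, hd⟩ := hC.exists_generator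
  have hdord : orderOf d = Nat.card C := by
    rw [← Subgroup.orderOf_mk d hdC]
    exact orderOf_eq_card_of_forall_mem_zpowers hd
  have hC2 : IsPGroup 2 ↥C := hS2.to_le (hCD.trans hDS)
  obtain ⟨k, hk⟩ := IsPGroup.iff_card.mp hC2
  -- no nontrivial element of C is conjugate into L
  have hfreeC : ∀ z ∈ C, z ≠ 1 → ∀ g : G, g⁻¹ * z * g ∉ L := by
    intro z hzC hz1 g hgL
    have hzS : z ∈ S := hDS (hCD hzC)
    obtain ⟨a, ha⟩ : ∃ a, orderOf z = 2 ^ a := by
      have := (IsPGroup.iff_orderOf.mp hS2) ⟨z, hzS⟩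
      simpa [Subgroup.orderOf_mk] using this
    have ha1 : 1 ≤ a := by
      by_contra hcon
      have : a = 0 := by omega
      rw [this, pow_zero, orderOf_eq_one_iff] at ha
      exact hz1 ha
    have hc2 : orderOf (z ^ 2 ^ (a - 1)) = 2 := by
      rw [orderOf_pow_of_dvd (by positivity) (by rw [ha]; exact pow_dvd_pow 2 (by omega)), ha]
      have : a = (a - 1) + 1 := by omega
      conv_lhs => rw [this, pow_succ]
      simp
    have hconj : ∀ n : ℕ, (g⁻¹ * z * g) ^ n = g⁻¹ * z ^ n * g := by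
      intro n
      have := conj_pow (a := g⁻¹) (b := z) (i := n)
      simpa using this
    have hwL : g⁻¹ * z ^ 2 ^ (a - 1) * g ∈ L := by
      rw [← hconj]
      exact L.pow_mem hgL _
    have hw2 : orderOf (g⁻¹ * z ^ 2 ^ (a - 1) * g) = 2 := by
      have := Cfsg.Agent.Lib.Helper42.orderOf_conj_eq g⁻¹ (z ^ 2 ^ (a - 1))
      rw [inv_inv] at this
      rw [this, hc2]
    have hB : IsPGroup 2 ↥(Subgroup.zpowers (⟨g⁻¹ * z ^ 2 ^ (a - 1) * g, hwL⟩ : ↥L)) := by
      apply IsPGroup.of_card (n := 1)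
      rw [Nat.card_zpowers, Subgroup.orderOf_mk, hw2, pow_one]
    obtain ⟨n, hn⟩ := Cfsg.Agent.Lib.Helper42.exists_conj_mem_of_isPGroup (X := ↥L) 2
      (T.subgroupOf L) _ hT2.comap_subtype hTsyl hB
    have h3 := hn _ (Subgroup.mem_zpowers _)
    rw [Subgroup.mem_subgroupOf] at h3
    apply h2 (z ^ 2 ^ (a - 1)) (C.pow_mem hzC _) hc2 ((n : G) * g⁻¹)
    have h4 : (n : G) * g⁻¹ * z ^ 2 ^ (a - 1) * ((n : G) * g⁻¹)⁻¹ =
        (n : G) * (g⁻¹ * z ^ 2 ^ (a - 1) * g) * (n : G)⁻¹ := by group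
    rw [h4]
    simpa using h3
  -- the numbers
  have hTrodd : Odd (T.relIndex L) := by
    rw [← Nat.not_even_iff_odd, even_iff_two_dvd]
    exact hTsyl
  obtain ⟨m, hm, hrel₀⟩ : ∃ m, Odd m ∧ L.relIndex φ₀.ker = 2 ^ k * m := by
    have e1 := card_mul_relIndex hTL
    have e2 := card_mul_relIndex hLH₀
    have e3 := Subgroup.card_mul_index φ₀.ker
    have e4 := Subgroup.card_mul_index S
    rw [hidx₀] at e3
    have e5 : T.relIndex L * L.relIndex φ₀.ker = 2 ^ k * S.index := by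
      have : (Nat.card T * 2) * (T.relIndex L * L.relIndex φ₀.ker) =
          (Nat.card T * 2) * (2 ^ k * S.index) := by
        calc (Nat.card T * 2) * (T.relIndex L * L.relIndex φ₀.ker)
            = (Nat.card T * T.relIndex L) * L.relIndex φ₀.ker * 2 := by ring
          _ = Nat.card G := by rw [e1, e2, e3]
          _ = Nat.card T * (Nat.card C * 2) * S.index := by rw [hcardD, hTDc, e4]
          _ = (Nat.card T * 2) * (2 ^ k * S.index) := by rw [hk]; ring
      exact Nat.eq_of_mul_eq_mul_left (by positivity) this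
    have h3 : 2 ^ k ∣ L.relIndex φ₀.ker := by
      apply Nat.Coprime.dvd_of_dvd_mul_left (m := T.relIndex L)
      · exact Nat.Coprime.pow_left k (Nat.coprime_two_left.mpr hTrodd)
      · rw [e5]
        exact Dvd.intro _ rfl
    obtain ⟨m, hm⟩ := h3
    refine ⟨m, ?_, hm⟩
    rw [hm] at e5
    have h4 : T.relIndex L * m = S.index := by
      have : 2 ^ k * (T.relIndex L * m) = 2 ^ k * S.index := by rw [← e5]; ring
      exact Nat.eq_of_mul_eq_mul_left (by positivity) this
    exact Odd.of_dvd_nat hSodd (Dvd.intro_left _ h4)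
  -- run the chain
  obtain ⟨H', hH'0, hH'odd, hH'rel⟩ := chain L hLgen k φ₀.ker d m (hφC d hdC) hodd₀ hm hrel₀
    (by rw [hdord, hk]) (by
      intro i g hg
      by_contra hne
      exact hfreeC (d ^ i) (C.pow_mem hdC i) hne g hg)
  have hLH' : L ≤ H' := hLgen H' hH'odd
  -- the answer
  have hKn : (Cfsg.pResidual 2 G).Normal := Cfsg.Agent.Lib.Helper42.pResidual_normal 2 G
  have hKH' : Cfsg.pResidual 2 G ≤ H' := by
    unfold Cfsg.pResidual
    rw [Subgroup.closure_le]
    intro g hg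
    have hg' : Nat.Coprime (orderOf g) 2 := hg
    exact hH'odd g (Nat.coprime_two_right.mp hg')
  have hLK : L ≤ Cfsg.pResidual 2 G := by
    apply hLgen
    intro g hg
    exact Subgroup.subset_closure (Nat.coprime_two_right.mpr hg)
  refine ⟨Cfsg.pResidual 2 G, hKn, ?_, ?_⟩
  · have h3 := Cfsg.Agent.Lib.Helper42.pResidual_sup_eq_top 2 G S hSsyl
    rw [eq_top_iff, ← h3, ← hTD]
    exact sup_le le_sup_left (sup_le ((hTL.trans hLK).trans le_sup_left) le_sup_right)
  · intro T' hT'L _ hT'syl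
    refine ⟨hT'L.trans hLK, ?_⟩
    have e1 := Subgroup.relIndex_mul_relIndex T' (Cfsg.pResidual 2 G) H' (hT'L.trans hLK) hKH'
    have e2 := Subgroup.relIndex_mul_relIndex T' L H' hT'L hLH'
    intro hdvd
    have h3 : 2 ∣ T'.relIndex L * L.relIndex H' := by
      rw [e2, ← e1]
      exact Dvd.dvd.mul_right hdvd _
    rcases (Nat.Prime.dvd_mul Nat.prime_two).mp h3 with h | h
    · exact hT'syl h
    · rw [← even_iff_two_dvd, ← Nat.not_odd_iff_even] at h
      exact h hH'rel

end Cfsg.Agent.S1924
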