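import Cfsg.Statements.S1939
import Cfsg.Agent.Lib.Helper40.Sylow

set_option autoImplicit false
open Cfsg

namespace Cfsg.Agent.S1939

/-- Let S be a Sylow p-subgroup of the finite group G and a an element of S that is the only G-conjugate of a lying in S. Then every power of a has the same property: for every n, the only G-conjugate of a^n lying in S is a^n. -/
theorem result {G : Type*} [Group G] [Finite G] {p : ℕ} [Fact p.Prime] (S : Sylow p G) (a : G)
    (haS : a ∈ (S : Subgroup G)) (hwc : ∀ g : G, g * a * g⁻¹ ∈ (S : Subgroup G) → g * a * g⁻¹ = a) (n : ℕ) :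
    ∀ g : G, g * a ^ n * g⁻¹ ∈ (S : Subgroup G) → g * a ^ n * g⁻¹ = a ^ n := by
  intro g hg
  set c := g * a ^ n * g⁻¹ with hc
  -- a is central in S
  have hacen : ∀ s ∈ (S : Subgroup G), s * a = a * s := by
    intro s hs
    have h1 : s * a * s⁻¹ ∈ (S : Subgroup G) := mul_mem (mul_mem hs haS) (inv_mem hs)
    have h2 := hwc s h1
    calc s * a = s * a * s⁻¹ * s := by group
      _ = a * s := by rw [h2]
  let H := Subgroup.centralizer ({c} : Set G)
  have haH : a ∈ H := by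
    rw [Subgroup.mem_centralizer_iff]
    intro y hy
    rw [Set.mem_singleton_iff] at hy
    rw [hy]
    exact hacen c hg
  have hQH : ((g • S : Sylow p G) : Subgroup G) ≤ H := by
    intro y hy
    rw [Sylow.coe_subgroup_smul, Subgroup.mem_smul_pointwise_iff_exists] at hy
    obtain ⟨s, hs, rfl⟩ := hy
    rw [Subgroup.mem_centralizer_iff]
    intro z hz
    rw [Set.mem_singleton_iff] at hz
    rw [hz, hc]
    have hsa : s * a ^ n = a ^ n * s := by
      have : Commute s a := hacen s hs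
      exact (this.pow_right n).eq
    rw [MulAut.smul_def, MulAut.conj_apply]
    calc g * a ^ n * g⁻¹ * (g * s * g⁻¹) = g * (a ^ n * s) * g⁻¹ := by group
      _ = g * (s * a ^ n) * g⁻¹ := by rw [hsa]
      _ = g * s * g⁻¹ * (g * a ^ n * g⁻¹) := by group
  obtain ⟨h, hhH, hh⟩ := Cfsg.Agent.Lib.Helper40.exists_conj_mem_sylow_of_le H (g • S) hQH a haH
    (S : Subgroup G) S.isPGroup' haS
  rw [Sylow.coe_subgroup_smul, Subgroup.mem_smul_pointwise_iff_exists] at hh
  obtain ⟨s, hs, hse⟩ := hh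
  rw [MulAut.smul_def, MulAut.conj_apply] at hse
  -- g⁻¹ h a h⁻¹ g = s ∈ S
  have h1 : (g⁻¹ * h) * a * (g⁻¹ * h)⁻¹ = s := by
    calc (g⁻¹ * h) * a * (g⁻¹ * h)⁻¹ = g⁻¹ * (h * a * h⁻¹) * g := by group
      _ = g⁻¹ * (g * s * g⁻¹) * g := by rw [hse]
      _ = s := by group
  have h2 : (g⁻¹ * h) * a * (g⁻¹ * h)⁻¹ = a := hwc _ (h1 ▸ hs)
  have h3 : (g⁻¹ * h) * a ^ n * (g⁻¹ * h)⁻¹ = a ^ n := by
    rw [← conj_pow, h2]
  -- h commutes with c
  have h4 : h * c = c * h := by
    have := (Subgroup.mem_centralizer_iff.mp hhH) c (Set.mem_singleton c)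
    exact this.symm
  have h5 : h * a ^ n * h⁻¹ = c := by
    calc h * a ^ n * h⁻¹ = g * ((g⁻¹ * h) * a ^ n * (g⁻¹ * h)⁻¹) * g⁻¹ := by group
      _ = c := by rw [h3]
  calc c = h⁻¹ * (c * h) := by rw [← h4]; group
    _ = h⁻¹ * (h * a ^ n * h⁻¹ * h) := by rw [h5]
    _ = a ^ n := by group

end Cfsg.Agent.S1939
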