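import Cfsg.Statements.S1940
-- import your own Cfsg.Agent.* helpers here

set_option autoImplicit false
open Cfsg

namespace Cfsg.Agent.S1940

/-- Let the finite group L act by automorphisms on the finite abelian group M, and let N be an L-invariant subgroup of M such that M/N is a p-group on which L acts trivially (every l • m lies in the coset mN). If every element of M is a product of an element of N and an element fixed by a Sylow p-subgroup T of L, then every element of M is a product of an element of N and an element fixed by all of L. -/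
theorem result {L : Type*} [Group L] [Finite L] {M : Type*} [CommGroup M] [Finite M] [MulDistribMulAction L M]
    {p : ℕ} [Fact p.Prime] (N : Subgroup M) (hN : ∀ (l : L) (m : M), m ∈ N → l • m ∈ N)
    (hquot : IsPGroup p (M ⧸ N)) (htriv : ∀ (l : L) (m : M), (l • m) * m⁻¹ ∈ N) (T : Sylow p L)
    (hT : ∀ m : M, ∃ n ∈ N, ∃ c : M, (∀ t ∈ (T : Subgroup L), t • c = c) ∧ m = n * c) :
    ∀ m : M, ∃ n ∈ N, ∃ c : M, (∀ l : L, l • c = c) ∧ m = n * c := by
  classical
  intro m
  letI : Fintype (L ⧸ (T : Subgroup L)) := Fintype.ofFinite _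
  set k : ℕ := (T : Subgroup L).index with hk
  have hkp : p.Coprime k := by
    have h1 : ¬ p ∣ k := T.not_dvd_index
    exact (Nat.Prime.coprime_iff_not_dvd (Fact.out : p.Prime)).mpr h1
  -- a k-th root of m modulo N
  obtain ⟨r, hr⟩ : ∃ r : M ⧸ N, r ^ k = (QuotientGroup.mk m : M ⧸ N) :=
    (hquot.powEquiv hkp).surjective _
  obtain ⟨m₁, rfl⟩ := QuotientGroup.mk_surjective r
  obtain ⟨n₁, hn₁, c₁, hc₁, hm₁⟩ := hT m₁
  -- the norm of c₁
  set c' : M := ∏ q : L ⧸ (T : Subgroup L), (Quotient.out q : L) • c₁ with hc'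
  -- two representatives of the same coset act equally on c₁
  have hrep : ∀ x y : L, (QuotientGroup.mk x : L ⧸ (T : Subgroup L)) = QuotientGroup.mk y → x • c₁ = y • c₁ := by
    intro x y hxy
    have h1 : x⁻¹ * y ∈ (T : Subgroup L) := QuotientGroup.eq.mp hxy
    have h2 := hc₁ _ h1
    calc x • c₁ = x • ((x⁻¹ * y) • c₁) := by rw [h2]
      _ = y • c₁ := by rw [smul_smul]; simp
  have hfix : ∀ l : L, l • c' = c' := by
    intro l
    rw [hc', Finset.smul_prod']
    have h1 : ∀ q : L ⧸ (T : Subgroup L), l • ((Quotient.out q : L) • c₁) = (Quotient.out (l • q) : L) • c₁ := by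
      intro q
      rw [smul_smul]
      apply hrep
      rw [QuotientGroup.out_eq']
      conv_rhs => rw [← QuotientGroup.out_eq' q]
      rfl
    simp_rw [h1]
    exact Equiv.prod_comp (MulAction.toPerm l) (fun q : L ⧸ (T : Subgroup L) => (Quotient.out q : L) • c₁)
  have hmod : c' * (c₁ ^ k)⁻¹ ∈ N := by
    have h1 : ∏ q : L ⧸ (T : Subgroup L), ((Quotient.out q : L) • c₁) * c₁⁻¹ ∈ N :=
      Subgroup.prod_mem N (fun q _ => htriv _ _)
    rw [Finset.prod_mul_distrib, Finset.prod_const, Finset.card_univ] at h1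
    have h2 : Fintype.card (L ⧸ (T : Subgroup L)) = k := by
      rw [hk, Subgroup.index, Nat.card_eq_fintype_card]
    rw [h2, inv_pow] at h1
    exact h1
  refine ⟨m * c'⁻¹, ?_, c', hfix, by simp⟩
  -- m ≡ m₁^k ≡ c₁^k ≡ c' mod N
  have h3 : (QuotientGroup.mk (m * c'⁻¹) : M ⧸ N) = 1 := by
    have e1 : (QuotientGroup.mk c' : M ⧸ N) = QuotientGroup.mk (c₁ ^ k) := by
      rw [QuotientGroup.eq]
      have := N.inv_mem hmod
      simpa [mul_comm] using this
    have e2 : (QuotientGroup.mk m₁ : M ⧸ N) = QuotientGroup.mk c₁ := by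
      rw [QuotientGroup.eq, hm₁]
      have : (n₁ * c₁)⁻¹ * c₁ = n₁⁻¹ := by rw [mul_inv_rev]; simp [mul_comm]
      rw [this]
      exact N.inv_mem hn₁
    rw [QuotientGroup.mk_mul, QuotientGroup.mk_inv, ← hr, e1, QuotientGroup.mk_pow, e2]
    simp
  exact (QuotientGroup.eq_one_iff _).mp h3

end Cfsg.Agent.S1940
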