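import Cfsg.Statements.S1941
import Cfsg.Agent.Lib.Helper28.FStar
import Cfsg.Agent.Lib.Helper61.SolvableCore

set_option autoImplicit false
open Cfsg

namespace Cfsg.Agent.S1941

open Cfsg.Agent.Lib

/-- Averaging argument (restriction to a Sylow subgroup is injective on `H¹`): a map
`w : G → Z` into an abelian normal `p`-subgroup which is a `1`-cocycle for conjugation and is
trivial on a subgroup `T` of index prime to `p` is a coboundary. -/
theorem cocycle_inner {G : Type*} [Group G] [Finite G] {p : ℕ} [Fact p.Prime]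
    (Z T : Subgroup G) [hZn : Z.Normal] (hZc : ∀ a ∈ Z, ∀ b ∈ Z, a * b = b * a)
    (hZp : IsPGroup p ↥Z) (hT : ¬ p ∣ T.index)
    (w : G → G) (hwZ : ∀ g, w g ∈ Z) (hw : ∀ g h, w (g * h) = w g * (g * w h * g⁻¹))
    (hwT : ∀ t ∈ T, w t = 1) :
    ∃ a ∈ Z, ∀ g, w g = a * g * a⁻¹ * g⁻¹ := by
  classical
  haveI : Fintype (G ⧸ T) := Fintype.ofFinite _
  letI : CommGroup ↥Z :=
    { (inferInstance : Group ↥Z) with
      mul_comm := fun a b => Subtype.ext (hZc a a.2 b b.2) }
  -- w is constant on left cosets of T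
  have hwcos : ∀ g t, t ∈ T → w (g * t) = w g := by
    intro g t ht
    rw [hw, hwT t ht]
    simp
  let f : G ⧸ T → ↥Z := Quotient.lift (fun g => (⟨w g, hwZ g⟩ : ↥Z)) (by
    intro a b hab
    have hab' : a⁻¹ * b ∈ T := QuotientGroup.leftRel_apply.1 hab
    apply Subtype.ext
    show w a = w b
    have : b = a * (a⁻¹ * b) := by group
    rw [this, hwcos a _ hab'])
  have hf : ∀ g : G, f (QuotientGroup.mk g) = ⟨w g, hwZ g⟩ := fun g => rfl
  set S : ↥Z := ∏ q : G ⧸ T, f q with hS
  set m := T.index with hm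
  have hcard : Fintype.card (G ⧸ T) = m := by
    rw [hm, Subgroup.index, Nat.card_eq_fintype_card]
  -- key identity
  have key : ∀ g : G, (⟨w g, hwZ g⟩ : ↥Z) ^ m * (MulAut.conjNormal g S) = S := by
    intro g
    have h1 : ∏ q : G ⧸ T, f (g • q) = S := by
      rw [hS]
      exact Fintype.prod_equiv (MulAction.toPerm g) _ _ (fun q => rfl)
    have h2 : ∀ q : G ⧸ T, f (g • q) = (⟨w g, hwZ g⟩ : ↥Z) * MulAut.conjNormal g (f q) := by
      intro q
      induction q using QuotientGroup.induction_on with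
      | H x =>
        have : g • (QuotientGroup.mk x : G ⧸ T) = QuotientGroup.mk (g * x) := rfl
        rw [this, hf, hf]
        apply Subtype.ext
        rw [Subgroup.coe_mul, MulAut.conjNormal_apply]
        exact hw g x
    calc (⟨w g, hwZ g⟩ : ↥Z) ^ m * (MulAut.conjNormal g S)
        = ∏ q : G ⧸ T, ((⟨w g, hwZ g⟩ : ↥Z) * MulAut.conjNormal g (f q)) := by
          rw [Finset.prod_mul_distrib, Finset.prod_const, Finset.card_univ, hcard, ← map_prod]
      _ = ∏ q : G ⧸ T, f (g • q) := by
          apply Finset.prod_congr rfl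
          intro q _
          exact (h2 q).symm
      _ = S := h1
  -- a with a^m = S
  have hcop : (Nat.card ↥Z).Coprime m := by
    obtain ⟨e, he⟩ := IsPGroup.iff_card.1 hZp
    rw [he]
    apply Nat.Coprime.pow_left
    exact (Nat.Prime.coprime_iff_not_dvd (Fact.out : p.Prime)).2 hT
  obtain ⟨a, ha⟩ := (powCoprime hcop).surjective S
  have ha' : a ^ m = S := ha
  refine ⟨(a : G), a.2, ?_⟩
  intro g
  -- (w g)^m = S * (g S g⁻¹)⁻¹ = (a * g a⁻¹ g⁻¹)^m
  have h3 : ((⟨w g, hwZ g⟩ : ↥Z)) ^ m = (a * (MulAut.conjNormal g a)⁻¹) ^ m := by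
    rw [mul_pow, inv_pow, ← map_pow, ha']
    rw [eq_mul_inv_iff_mul_eq]
    exact key g
  have h4 : (⟨w g, hwZ g⟩ : ↥Z) = a * (MulAut.conjNormal g a)⁻¹ :=
    (powCoprime hcop).injective h3
  have h5 : w g = (a : G) * (g * (a : G) * g⁻¹)⁻¹ := by
    have := congrArg Subtype.val h4
    rw [Subgroup.coe_mul, Subgroup.coe_inv, MulAut.conjNormal_apply] at this
    exact this
  rw [h5]
  group

/-- Let G be a finite group with no nontrivial normal subgroup of order prime to p, T a Sylow p-subgroup of G and E(G) the layer of G (the subgroup generated by its components). An automorphism of G of p-power order that fixes T and E(G) elementwise is inner. -/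
theorem result {G : Type*} [Group G] [Finite G] {p : ℕ} [Fact p.Prime] (hcore : Cfsg.pPrimeCore p G = ⊥)
    (T : Sylow p G) (α : MulAut G) (hα : ∃ j : ℕ, orderOf α = p ^ j) (hfixT : ∀ x ∈ (T : Subgroup G), α x = x)
    (hfixE : ∀ x ∈ Cfsg.layer G, α x = x) : ∃ g : G, ∀ x : G, α x = g * x * g⁻¹ := by
  classical
  -- the fixed point subgroup
  let Fix : Subgroup G :=
    { carrier := {x | α x = x}
      mul_mem' := by
        intro a b ha hb
        show α (a * b) = a * b
        rw [map_mul, ha, hb]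
      one_mem' := map_one α
      inv_mem' := by
        intro a ha
        show α a⁻¹ = a⁻¹
        rw [map_inv, ha] }
  have hFixmem : ∀ x, x ∈ Fix ↔ α x = x := fun x => Iff.rfl
  have hTF : (T : Subgroup G) ≤ Fix := fun x hx => hfixT x hx
  have hEF : Cfsg.layer G ≤ Fix := fun x hx => hfixE x hx
  -- F(G) is a p-group, hence inside T
  haveI hFn : (Cfsg.fittingSubgroup G).Normal := Helper30.fitting_normal
  have hFp : IsPGroup p ↥(Cfsg.fittingSubgroup G) :=
    Helper61.isPGroup_of_normal_nilpotent p hcore _ Helper30.fitting_isNilpotent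
  have hFT : Cfsg.fittingSubgroup G ≤ (T : Subgroup G) :=
    (Helper61.le_pCore hFn hFp).trans (Helper61.pCore_le_sylow T)
  have hFstar : Cfsg.generalizedFittingSubgroup G ≤ Fix := by
    unfold Cfsg.generalizedFittingSubgroup
    exact sup_le hEF (hFT.trans hTF)
  haveI hFsn : (Cfsg.generalizedFittingSubgroup G).Normal := Helper30.genFitting_normal
  -- Z = C_G(F*(G))
  set Z : Subgroup G := Subgroup.centralizer (Cfsg.generalizedFittingSubgroup G : Set G) with hZ
  haveI hZn : Z.Normal := inferInstance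
  have hZle : Z ≤ Cfsg.generalizedFittingSubgroup G := Helper28.centralizer_genFitting_le
  have hZc : ∀ a ∈ Z, ∀ b ∈ Z, a * b = b * a := by
    intro a ha b hb
    exact ((Subgroup.mem_centralizer_iff.1 hb) a (hZle ha))
  have hZnil : Group.IsNilpotent ↥Z := by
    letI : CommGroup ↥Z :=
      { (inferInstance : Group ↥Z) with
        mul_comm := fun a b => Subtype.ext (hZc a a.2 b b.2) }
    exact CommGroup.isNilpotent
  have hZp : IsPGroup p ↥Z := Helper61.isPGroup_of_normal_nilpotent p hcore Z hZnil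
  -- the cocycle
  let w : G → G := fun g => α g * g⁻¹
  have hwZ : ∀ g, w g ∈ Z := by
    intro g
    rw [hZ, Subgroup.mem_centralizer_iff]
    intro f hf
    -- α fixes g⁻¹ f g
    have h1 : g⁻¹ * f * g ∈ Cfsg.generalizedFittingSubgroup G := by
      have := hFsn.conj_mem f hf g⁻¹
      simpa using this
    have h2 : α (g⁻¹ * f * g) = g⁻¹ * f * g := hFstar h1
    have h3 : α f = f := hFstar hf
    rw [map_mul, map_mul, map_inv, h3] at h2
    -- (α g)⁻¹ f (α g) = g⁻¹ f g
    show f * (α g * g⁻¹) = α g * g⁻¹ * f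
    have h4 : f * α g = α g * (g⁻¹ * f * g) := by
      rw [← h2]; group
    calc f * (α g * g⁻¹) = (f * α g) * g⁻¹ := by group
      _ = α g * (g⁻¹ * f * g) * g⁻¹ := by rw [h4]
      _ = α g * g⁻¹ * f := by group
  have hw : ∀ g h, w (g * h) = w g * (g * w h * g⁻¹) := by
    intro g h
    show α (g * h) * (g * h)⁻¹ = α g * g⁻¹ * (g * (α h * h⁻¹) * g⁻¹)
    rw [map_mul]
    group
  have hwT : ∀ t ∈ (T : Subgroup G), w t = 1 := by
    intro t ht
    show α t * t⁻¹ = 1
    rw [hfixT t ht, mul_inv_cancel]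
  have hTi : ¬ p ∣ (T : Subgroup G).index := T.not_dvd_index
  obtain ⟨a, _, ha⟩ := cocycle_inner Z (T : Subgroup G) hZc hZp hTi w hwZ hw hwT
  refine ⟨a, fun x => ?_⟩
  have := ha x
  have h1 : α x = w x * x := by
    show α x = α x * x⁻¹ * x
    group
  rw [h1, this]
  group

end Cfsg.Agent.S1941
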