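import Cfsg.Statements.S1944
import Cfsg.Agent.Lib.Helper40.Trace
import Cfsg.Agent.Lib.Helper40.Cores
import Cfsg.Agent.Lib.Helper40.Sylow2

set_option autoImplicit false
open Cfsg

namespace Cfsg.Agent.S1944

open Cfsg.Agent.Lib.Helper40

/-- Let S be a Sylow p-subgroup of the finite group G and suppose that the centre Z(S) lies in O_{p',p}(G). The elements of S each of which is its only G-conjugate in S form a subgroup W of Z(S); W is then a direct factor of Z(S): there is a subgroup K of Z(S) with W ∩ K = 1 and WK = Z(S). -/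
theorem result {G : Type*} [Group G] [Finite G] {p : ℕ} [Fact p.Prime] (S : Sylow p G)
    (hZ : ((S : Subgroup G) ⊓ Subgroup.centralizer ((S : Subgroup G) : Set G)) ≤ Cfsg.pPrimePCore p G) :
    ∃ W K : Subgroup G, (∀ x : G, x ∈ W ↔ (x ∈ (S : Subgroup G) ∧ ∀ g : G, g * x * g⁻¹ ∈ (S : Subgroup G) → g * x * g⁻¹ = x)) ∧
      K ≤ ((S : Subgroup G) ⊓ Subgroup.centralizer ((S : Subgroup G) : Set G)) ∧ W ⊓ K = ⊥ ∧ W ⊔ K = ((S : Subgroup G) ⊓ Subgroup.centralizer ((S : Subgroup G) : Set G)) := by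
  classical
  haveI hKn : (Cfsg.pPrimeCore p G).Normal := Cfsg.pPrimeCore_normal p G
  obtain ⟨π, hπdef⟩ : ∃ π : G →* G ⧸ Cfsg.pPrimeCore p G,
      π = QuotientGroup.mk' (Cfsg.pPrimeCore p G) := ⟨_, rfl⟩
  have hπs : Function.Surjective π := hπdef ▸ QuotientGroup.mk'_surjective _
  have hker : ∀ x : G, π x = 1 ↔ x ∈ Cfsg.pPrimeCore p G := by
    intro x; rw [hπdef]; exact QuotientGroup.eq_one_iff x
  have hSK : (S : Subgroup G) ⊓ Cfsg.pPrimeCore p G = ⊥ := sylow_inf_pPrimeCore S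
  have hinjS : ∀ a ∈ (S : Subgroup G), ∀ b ∈ (S : Subgroup G), π a = π b → a = b := by
    intro a ha b hb hab
    have h1 : a * b⁻¹ ∈ (S : Subgroup G) ⊓ Cfsg.pPrimeCore p G := by
      refine Subgroup.mem_inf.mpr ⟨mul_mem ha (inv_mem hb), ?_⟩
      rw [← hker, map_mul, map_inv, hab, mul_inv_cancel]
    rw [hSK, Subgroup.mem_bot] at h1
    exact mul_inv_eq_one.mp h1
  have hVn : (Cfsg.pCore p (G ⧸ Cfsg.pPrimeCore p G)).Normal := Cfsg.pCore_normal p _
  have hVS : Cfsg.pCore p (G ⧸ Cfsg.pPrimeCore p G) ≤ (S : Subgroup G).map π := by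
    have := pCore_le_sylow' (S.mapSurjective hπs)
    rwa [Sylow.coe_mapSurjective] at this
  have hZV : ∀ z ∈ (S : Subgroup G) ⊓ Subgroup.centralizer ((S : Subgroup G) : Set G),
      π z ∈ Cfsg.pCore p (G ⧸ Cfsg.pPrimeCore p G) := by
    intro z hz
    have h1 := hZ hz
    unfold Cfsg.pPrimePCore at h1
    rw [Subgroup.mem_comap] at h1
    rw [hπdef]; exact h1
  -- elements of S with central image commute with S
  have hcentS : ∀ x ∈ (S : Subgroup G), π x ∈ Subgroup.center (G ⧸ Cfsg.pPrimeCore p G) →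
      ∀ g : G, g * x * g⁻¹ ∈ (S : Subgroup G) → g * x * g⁻¹ = x := by
    intro x hx hc g hg
    apply hinjS _ hg _ hx
    rw [map_mul, map_mul, map_inv]
    rw [Subgroup.mem_center_iff] at hc
    rw [hc (π g), mul_assoc, mul_inv_cancel, mul_one]
  have hwcZ : ∀ x ∈ (S : Subgroup G), (∀ g : G, g * x * g⁻¹ ∈ (S : Subgroup G) → g * x * g⁻¹ = x) →
      x ∈ (S : Subgroup G) ⊓ Subgroup.centralizer ((S : Subgroup G) : Set G) := by
    intro x hx hw
    refine Subgroup.mem_inf.mpr ⟨hx, ?_⟩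
    rw [Subgroup.mem_centralizer_iff]
    intro s hs
    have h1 := hw s (mul_mem (mul_mem hs hx) (inv_mem hs))
    calc s * x = (s * x * s⁻¹) * s := by group
      _ = x * s := by rw [h1]
  refine ⟨(S : Subgroup G) ⊓ (Subgroup.center (G ⧸ Cfsg.pPrimeCore p G)).comap π, ?_⟩
  -- Part 1: the characterization
  have part1 : ∀ x : G, x ∈ (S : Subgroup G) ⊓ (Subgroup.center (G ⧸ Cfsg.pPrimeCore p G)).comap π ↔
      (x ∈ (S : Subgroup G) ∧ ∀ g : G, g * x * g⁻¹ ∈ (S : Subgroup G) → g * x * g⁻¹ = x) := by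
    intro x
    constructor
    · intro hx
      obtain ⟨hxS, hxc⟩ := Subgroup.mem_inf.mp hx
      exact ⟨hxS, hcentS x hxS (Subgroup.mem_comap.mp hxc)⟩
    · rintro ⟨hxS, hw⟩
      refine Subgroup.mem_inf.mpr ⟨hxS, ?_⟩
      rw [Subgroup.mem_comap, Subgroup.mem_center_iff]
      intro gb
      obtain ⟨g, rfl⟩ := hπs gb
      have hxV := hZV x (hwcZ x hxS hw)
      have hyV : π (g * x * g⁻¹) ∈ Cfsg.pCore p (G ⧸ Cfsg.pPrimeCore p G) := by
        rw [map_mul, map_mul, map_inv]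
        exact hVn.conj_mem _ hxV _
      obtain ⟨s, hs, hsy⟩ := hVS hyV
      have hyle : Subgroup.zpowers (g * x * g⁻¹) ≤ (S : Subgroup G) ⊔ Cfsg.pPrimeCore p G := by
        rw [Subgroup.zpowers_le]
        have h1 : g * x * g⁻¹ = s * (s⁻¹ * (g * x * g⁻¹)) := by group
        rw [h1]
        refine mul_mem (Subgroup.mem_sup_left hs) (Subgroup.mem_sup_right ?_)
        rw [← hker, map_mul, map_inv, hsy, inv_mul_cancel]
      have hyp : IsPGroup p (Subgroup.zpowers (g * x * g⁻¹)) := by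
        have h2 : IsPGroup p ((S : Subgroup G).map (MulAut.conj g).toMonoidHom) := S.isPGroup'.map _
        refine h2.to_le ?_
        rw [Subgroup.zpowers_le]
        exact conj_mem_map_conj hxS
      obtain ⟨c, hcK, hc⟩ := exists_conj_into_of_normalizes (S : Subgroup G) (Cfsg.pPrimeCore p G)
        (Subgroup.zpowers (g * x * g⁻¹)) S.isPGroup' (pPrimeCore_card_coprime' p G)
        (by rw [Subgroup.normalizer_eq_top]; exact le_top) hyp hyle
      have h3 := hc _ (Subgroup.mem_zpowers _)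
      have h4 : c * (g * x * g⁻¹) * c⁻¹ = (c * g) * x * (c * g)⁻¹ := by group
      rw [h4] at h3
      have h5 := hw (c * g) h3
      have h6 := congrArg π h5
      rw [map_mul, map_mul, map_inv, map_mul, (hker c).mpr hcK, one_mul] at h6
      calc π g * π x = (π g * π x * (π g)⁻¹) * π g := by group
        _ = π x * π g := by rw [h6]
  -- Part 2: the complement
  obtain ⟨A, hAdef⟩ : ∃ A : Subgroup (G ⧸ Cfsg.pPrimeCore p G),
      A = Cfsg.pCore p (G ⧸ Cfsg.pPrimeCore p G) ⊓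
        Subgroup.centralizer ((Cfsg.pCore p (G ⧸ Cfsg.pPrimeCore p G) : Subgroup _) : Set _) := ⟨_, rfl⟩
  haveI hAn : A.Normal := by rw [hAdef]; infer_instance
  have hAV : A ≤ Cfsg.pCore p (G ⧸ Cfsg.pPrimeCore p G) := hAdef ▸ inf_le_left
  have hAcomm : ∀ a ∈ A, ∀ b ∈ A, a * b = b * a := by
    intro a ha b hb
    rw [hAdef] at ha hb
    exact ((Subgroup.mem_centralizer_iff.mp (Subgroup.mem_inf.mp hb).2) a (Subgroup.mem_inf.mp ha).1)
  letI cgA : CommGroup ↥A :=
    { (inferInstance : Group ↥A) with mul_comm := fun a b => Subtype.ext (hAcomm a a.2 b b.2) }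
  letI actA : MulDistribMulAction (G ⧸ Cfsg.pPrimeCore p G) ↥A :=
    MulDistribMulAction.compHom ↥A (MulAut.conjNormal : (G ⧸ Cfsg.pPrimeCore p G) →* MulAut ↥A)
  have hsmul : ∀ (g : G ⧸ Cfsg.pPrimeCore p G) (a : ↥A), ((g • a : ↥A) : G ⧸ Cfsg.pPrimeCore p G)
      = g * a * g⁻¹ := fun g a => rfl
  have hAp : IsPGroup p ↥A := (pCore_isPGroup' p _).to_le hAV
  obtain ⟨K₀, hK1, hK2, hK3⟩ := exists_trace_complement hAp (S.mapSurjective hπs)
  -- membership of π z in A for z ∈ Z(S)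
  have hZA : ∀ z ∈ (S : Subgroup G) ⊓ Subgroup.centralizer ((S : Subgroup G) : Set G), π z ∈ A := by
    intro z hz
    rw [hAdef]
    refine Subgroup.mem_inf.mpr ⟨hZV z hz, ?_⟩
    rw [Subgroup.mem_centralizer_iff]
    intro v hv
    obtain ⟨s, hs, rfl⟩ := hVS hv
    rw [← map_mul, ← map_mul]
    congr 1
    exact (Subgroup.mem_centralizer_iff.mp (Subgroup.mem_inf.mp hz).2) s hs
  refine ⟨(S : Subgroup G) ⊓ (K₀.map A.subtype).comap π, part1, ?_, ?_, ?_⟩
  · -- K' ≤ Z(S)
    intro x hx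
    obtain ⟨hxS, hxK⟩ := Subgroup.mem_inf.mp hx
    rw [Subgroup.mem_comap] at hxK
    obtain ⟨k, hk, hkx⟩ := hxK
    refine Subgroup.mem_inf.mpr ⟨hxS, ?_⟩
    rw [Subgroup.mem_centralizer_iff]
    intro t ht
    have h1 := hK1 k hk (π t) (by
      rw [Sylow.coe_mapSurjective]; exact Subgroup.mem_map_of_mem _ ht)
    have h2 := congrArg Subtype.val h1
    rw [hsmul] at h2
    have h3 : (A.subtype k) = π x := hkx
    rw [Subgroup.subtype_apply] at h3
    rw [h3, ← map_inv, ← map_mul, ← map_mul] at h2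
    have h4 := hinjS _ (mul_mem (mul_mem ht hxS) (inv_mem ht)) _ hxS h2
    calc t * x = (t * x * t⁻¹) * t := by group
      _ = x * t := by rw [h4]
  · -- W ⊓ K' = ⊥
    rw [eq_bot_iff]
    intro x hx
    obtain ⟨hxW, hxK'⟩ := Subgroup.mem_inf.mp hx
    obtain ⟨hxS, hxc⟩ := Subgroup.mem_inf.mp hxW
    obtain ⟨_, hxK⟩ := Subgroup.mem_inf.mp hxK'
    rw [Subgroup.mem_comap] at hxc hxK
    obtain ⟨k, hk, hkx⟩ := hxK
    have h3 : (k : G ⧸ Cfsg.pPrimeCore p G) = π x := hkx
    have hkfix : ∀ h : G ⧸ Cfsg.pPrimeCore p G, h • k = k := by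
      intro h
      apply Subtype.ext
      rw [hsmul, h3]
      rw [Subgroup.mem_center_iff] at hxc
      rw [hxc h, mul_assoc, mul_inv_cancel, mul_one]
    have hk1 := hK2 k hk hkfix
    rw [hk1] at h3
    have h4 : π x = 1 := h3.symm
    have h5 : x ∈ (S : Subgroup G) ⊓ Cfsg.pPrimeCore p G := Subgroup.mem_inf.mpr ⟨hxS, (hker x).mp h4⟩
    rw [hSK] at h5
    exact h5
  · -- W ⊔ K' = Z(S)
    apply le_antisymm
    · refine sup_le ?_ ?_
      · intro x hx
        have := (part1 x).mp hx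
        exact hwcZ x this.1 this.2
      · intro x hx
        obtain ⟨hxS, hxK⟩ := Subgroup.mem_inf.mp hx
        rw [Subgroup.mem_comap] at hxK
        obtain ⟨k, hk, hkx⟩ := hxK
        refine Subgroup.mem_inf.mpr ⟨hxS, ?_⟩
        rw [Subgroup.mem_centralizer_iff]
        intro t ht
        have h1 := hK1 k hk (π t) (by
          rw [Sylow.coe_mapSurjective]; exact Subgroup.mem_map_of_mem _ ht)
        have h2 := congrArg Subtype.val h1
        rw [hsmul] at h2
        have h3 : (A.subtype k) = π x := hkx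
        rw [Subgroup.subtype_apply] at h3
        rw [h3, ← map_inv, ← map_mul, ← map_mul] at h2
        have h4 := hinjS _ (mul_mem (mul_mem ht hxS) (inv_mem ht)) _ hxS h2
        calc t * x = (t * x * t⁻¹) * t := by group
          _ = x * t := by rw [h4]
    · intro z hz
      have hzA := hZA z hz
      have hzfix : ∀ t ∈ ((S.mapSurjective hπs : Sylow p (G ⧸ Cfsg.pPrimeCore p G)) :
          Subgroup (G ⧸ Cfsg.pPrimeCore p G)),
          t • (⟨π z, hzA⟩ : ↥A) = ⟨π z, hzA⟩ := by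
        intro t ht
        rw [Sylow.coe_mapSurjective] at ht
        obtain ⟨s, hs, rfl⟩ := ht
        apply Subtype.ext
        rw [hsmul]
        show π s * π z * (π s)⁻¹ = π z
        rw [← map_inv, ← map_mul, ← map_mul]
        congr 1
        have h1 := (Subgroup.mem_centralizer_iff.mp (Subgroup.mem_inf.mp hz).2) s hs
        calc s * z * s⁻¹ = z * s * s⁻¹ := by rw [h1]
          _ = z := by group
      obtain ⟨w, k, hwfix, hkK, hwk⟩ := hK3 ⟨π z, hzA⟩ hzfix
      obtain ⟨sw, hsw, hsww⟩ := hVS (hAV w.2)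
      obtain ⟨sk, hsk, hskk⟩ := hVS (hAV k.2)
      have hzeq : z = sw * sk := by
        apply hinjS z (Subgroup.mem_inf.mp hz).1 _ (mul_mem hsw hsk)
        rw [map_mul, hsww, hskk]
        have := congrArg Subtype.val hwk
        exact this
      rw [hzeq]
      refine mul_mem (Subgroup.mem_sup_left ?_) (Subgroup.mem_sup_right ?_)
      · refine Subgroup.mem_inf.mpr ⟨hsw, ?_⟩
        rw [Subgroup.mem_comap, Subgroup.mem_center_iff, hsww]
        intro h
        have h1 := congrArg Subtype.val (hwfix h)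
        rw [hsmul] at h1
        calc h * (w : G ⧸ Cfsg.pPrimeCore p G) = (h * w * h⁻¹) * h := by group
          _ = w * h := by rw [h1]
      · refine Subgroup.mem_inf.mpr ⟨hsk, ?_⟩
        rw [Subgroup.mem_comap]
        exact ⟨k, hkK, hskk.symm⟩

end Cfsg.Agent.S1944
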