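import Cfsg.Statements.S1946
import Cfsg.Agent.Lib.Helper03.OmegaExp
import Cfsg.Agent.Lib.Helper03.NormalPComplement
import Cfsg.Agent.S0071

set_option autoImplicit false
open Cfsg

namespace Cfsg.Agent.S1946


open scoped commutatorElement in
open Cfsg.Agent.Lib.Helper03 Cfsg.Agent.Lib.Helper40 in
/-- A `p'`-element normalizing a subgroup `E` of the Sylow `p`-subgroup `P`, all of whose elements have
order dividing `p` (or `4`), centralizes `E` when `P` controls fusion of such elements: it stabilizes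
the series `E ⊓ γ_i(P)`. -/
theorem centralizes_of_fusion {G : Type*} [Group G] [Finite G] {p : ℕ} [Fact p.Prime] (P : Sylow p G)
    (hfus : ∀ a ∈ (P : Subgroup G), (a ^ p = 1 ∨ (p = 2 ∧ a ^ 4 = 1)) → ∀ g : G,
      g * a * g⁻¹ ∈ (P : Subgroup G) → ∃ x ∈ (P : Subgroup G), g * a * g⁻¹ = x * a * x⁻¹)
    (g : G) (hg : (orderOf g).Coprime p) (E : Subgroup G) (hE : E ≤ (P : Subgroup G))
    (hgE : g ∈ Subgroup.normalizer (E : Set G))
    (hΩ : ∀ a ∈ E, (a ^ p = 1 ∨ (p = 2 ∧ a ^ 4 = 1))) : ∀ q ∈ E, g * q = q * g := by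
  have hnil : Group.IsNilpotent ↥(P : Subgroup G) := P.2.isNilpotent
  obtain ⟨n, hn⟩ := (Subgroup.isNilpotent_iff_lowerCentralSeries (P : Subgroup G)).mp hnil
  have key : ∀ k : ℕ, k ≤ n → ∀ q ∈ E,
      q ∈ (P : Subgroup G).lowerCentralSeries (n - k) → g * q = q * g := by
    intro k
    induction k with
    | zero =>
      intro _ q _ hq
      rw [Nat.sub_zero, hn, Subgroup.mem_bot] at hq
      rw [hq]; simp
    | succ k ih =>
      intro hk q hqE hq
      have hgq : g * q * g⁻¹ ∈ E := (Subgroup.mem_normalizer_iff.mp hgE q).mp hqE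
      obtain ⟨x, hxP, hx⟩ := hfus q (hE hqE) (hΩ q hqE) g (hE hgq)
      -- z = q⁻¹ (g q g⁻¹)
      have hzE : q⁻¹ * (g * q * g⁻¹) ∈ E := mul_mem (inv_mem hqE) hgq
      have hzL : q⁻¹ * (g * q * g⁻¹) ∈ (P : Subgroup G).lowerCentralSeries (n - k) := by
        have h1 : n - k = (n - (k + 1)) + 1 := by omega
        rw [h1, Subgroup.lowerCentralSeries_succ, hx]
        have h2 : q⁻¹ * (x * q * x⁻¹) = ⁅q⁻¹, x⁆ := by
          rw [commutatorElement_def]; group
        rw [h2]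
        exact Subgroup.commutator_mem_commutator (inv_mem hq) hxP
      have hz := ih (by omega) _ hzE hzL
      have hz1 : q⁻¹ * (g * q * g⁻¹) = 1 :=
        eq_one_of_conj_pow g q _ (orderOf g) (pow_orderOf_eq_one g) (by group) hz
          (orderOf_coprime_of_isPGroup P.2 (hE hzE) hg)
      calc g * q = q * (q⁻¹ * (g * q * g⁻¹)) * g := by group
        _ = q * g := by rw [hz1, mul_one]
  intro q hq
  refine key n le_rfl q hq ?_
  rw [Nat.sub_self, Subgroup.lowerCentralSeries_zero]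
  exact hE hq

/-- Let P be a Sylow p-subgroup of the finite group G. Then G has a normal p-complement if and only if P controls the fusion of its elements of order dividing p (dividing 4 when p = 2): whenever such an element a of P has a G-conjugate g a g⁻¹ in P, that conjugate is already x a x⁻¹ for some x in P. -/
theorem result {G : Type*} [Group G] [Finite G] {p : ℕ} [Fact p.Prime] (P : Sylow p G) :
    Cfsg.HasNormalPComplement p G ↔
      ∀ a ∈ (P : Subgroup G), (a ^ p = 1 ∨ (p = 2 ∧ a ^ 4 = 1)) → ∀ g : G, g * a * g⁻¹ ∈ (P : Subgroup G) →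
        ∃ x ∈ (P : Subgroup G), g * a * g⁻¹ = x * a * x⁻¹ := by
  rw [Cfsg.Agent.Lib.Helper03.hasNormalPComplement_iff P]
  constructor
  · rintro ⟨N, hNn, hN⟩ a ha _ g hga
    -- g = n * x
    obtain ⟨⟨⟨n, hn⟩, ⟨x, hx⟩⟩, hnx, -⟩ := (Subgroup.isComplement'_def.mp hN).existsUnique g
    simp only at hnx
    refine ⟨x, hx, ?_⟩
    have hb : x * a * x⁻¹ ∈ (P : Subgroup G) := mul_mem (mul_mem hx ha) (inv_mem hx)
    have hgb : g * a * g⁻¹ = n * (x * a * x⁻¹) * n⁻¹ := by rw [← hnx]; group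
    have h1 : (x * a * x⁻¹)⁻¹ * (n * (x * a * x⁻¹) * n⁻¹) ∈ N := by
      have h2 : (x * a * x⁻¹)⁻¹ * (n * (x * a * x⁻¹) * n⁻¹)
          = ((x * a * x⁻¹)⁻¹ * n * (x * a * x⁻¹)⁻¹⁻¹) * n⁻¹ := by group
      rw [h2]
      exact mul_mem (hNn.conj_mem n hn _) (inv_mem hn)
    have h3 : (x * a * x⁻¹)⁻¹ * (n * (x * a * x⁻¹) * n⁻¹) ∈ (P : Subgroup G) :=
      mul_mem (inv_mem hb) (hgb ▸ hga)
    have h4 : (x * a * x⁻¹)⁻¹ * (n * (x * a * x⁻¹) * n⁻¹) = 1 := by
      have := hN.disjoint.le_bot ⟨h1, h3⟩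
      simpa using this
    rw [hgb]
    exact (inv_mul_eq_one.mp h4).symm
  · intro hfus
    rw [Cfsg.Agent.S0071.result P]
    intro Q hQ g hgQ hg
    rw [Subgroup.mem_centralizer_iff]
    intro q hq
    refine (Cfsg.Agent.Lib.Helper03.omega_lemma_exp g hg _ Q rfl (P.2.to_le hQ) hgQ ?_ q hq).symm
    intro E hEQ hgE hΩ
    exact centralizes_of_fusion P hfus g hg E (hEQ.trans hQ) hgE hΩ

end Cfsg.Agent.S1946
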