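import Cfsg.Statements.S1947
import Cfsg.Agent.Lib.Helper40.OmegaLemma
import Cfsg.Agent.Lib.Helper41.Frobenius

set_option autoImplicit false
open Cfsg

namespace Cfsg.Agent.S1947

open Cfsg.Agent.Lib.Helper40
open scoped commutatorElement

/-- Let G be a finite group and p a prime. If every element of G of order dividing p (dividing 4 when p = 2) lies in some fixed term Z_n(G) of the upper central series, then G has a normal p-complement. -/
theorem result {G : Type*} [Group G] [Finite G] {p : ℕ} [Fact p.Prime] (n : ℕ)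
    (h : ∀ a : G, (a ^ p = 1 ∨ (p = 2 ∧ a ^ 4 = 1)) → a ∈ Subgroup.upperCentralSeries G n) : Cfsg.HasNormalPComplement p G := by
  apply Cfsg.Agent.Lib.Helper41.hasNormalPComplement_of_frobCond
  intro Q hQ g hgN hcop
  rw [Subgroup.mem_centralizer_iff]
  intro q hq
  refine (omega_lemma g hcop _ Q rfl hQ hgN ?_ q hq).symm
  intro a ha hΩ
  have key : ∀ i : ℕ, ∀ r ∈ Q, r ∈ Subgroup.upperCentralSeries G i → g * r = r * g := by
    intro i
    induction i with
    | zero =>
      intro r _ hr
      rw [Subgroup.upperCentralSeries_zero, Subgroup.mem_bot] at hr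
      rw [hr]; simp
    | succ i ih =>
      intro r hrQ hr
      have hr' : r⁻¹ ∈ Subgroup.upperCentralSeries G (i + 1) := inv_mem hr
      rw [Subgroup.mem_upperCentralSeries_succ_iff] at hr'
      have hz := hr' g
      have hzeq : ⁅r⁻¹, g⁆ = r⁻¹ * (g * r * g⁻¹) := by rw [commutatorElement_def]; group
      rw [hzeq] at hz
      have hgr : g * r * g⁻¹ ∈ Q := (Subgroup.mem_normalizer_iff.mp hgN r).mp hrQ
      have hzQ : r⁻¹ * (g * r * g⁻¹) ∈ Q := mul_mem (inv_mem hrQ) hgr
      have hzc := ih _ hzQ hz
      have hz1 : r⁻¹ * (g * r * g⁻¹) = 1 :=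
        eq_one_of_conj_pow g r _ (orderOf g) (pow_orderOf_eq_one g) (by group) hzc
          (orderOf_coprime_of_isPGroup hQ hzQ hcop)
      have h3 : g * r * g⁻¹ = r := by
        have h4 : g * r * g⁻¹ = r * (r⁻¹ * (g * r * g⁻¹)) := by group
        rw [h4, hz1, mul_one]
      calc g * r = (g * r * g⁻¹) * g := by group
        _ = r * g := by rw [h3]
  exact key n a ha (h a hΩ)

end Cfsg.Agent.S1947
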