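import Cfsg.Statements.S1948
import Cfsg.Agent.Lib.Helper40.Cores

set_option autoImplicit false
open Cfsg

namespace Cfsg.Agent.S1948

open Cfsg.Agent.Lib.Helper40

/-- Let S be a Sylow p-subgroup of the finite group G. Then G = N_G(S)·O_{p'}(G) if and only if G is p-constrained and N_G(S) controls fusion in S, in the sense that whenever a subgroup Q of S has a conjugate g Q g⁻¹ inside S, the element g is a product n c with n normalizing S and c centralizing Q. -/
theorem result {G : Type*} [Group G] [Finite G] {p : ℕ} [Fact p.Prime] (S : Sylow p G) :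
    Subgroup.normalizer ((S : Subgroup G) : Set G) ⊔ Cfsg.pPrimeCore p G = ⊤ ↔
      (Cfsg.IsPConstrained p G ∧
        ∀ Q : Subgroup G, Q ≤ (S : Subgroup G) → ∀ g : G, Q.map (MulAut.conj g).toMonoidHom ≤ (S : Subgroup G) →
          ∃ n ∈ Subgroup.normalizer ((S : Subgroup G) : Set G), ∃ c ∈ Subgroup.centralizer (Q : Set G), g = n * c) := by
  classical
  set D := Cfsg.pPrimeCore p G with hD
  set K := Cfsg.pPrimePCore p G with hK
  set N := Subgroup.normalizer ((S : Subgroup G) : Set G) with hN
  have hDK : D ≤ K := pPrimeCore_le_pPrimePCore p G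
  have hSN : (S : Subgroup G) ≤ N := Subgroup.le_normalizer
  have hKSD : K ≤ (S : Subgroup G) ⊔ D := pPrimePCore_le_sylow_sup S
  constructor
  · -- (⇒)
    intro htop
    -- every g is n * d
    have hdecomp : ∀ g : G, ∃ n ∈ N, ∃ d ∈ D, g = n * d := by
      intro g
      have hg : g ∈ N ⊔ D := by rw [htop]; exact Subgroup.mem_top g
      have := Subgroup.mul_normal N D
      have hg' : g ∈ ((N ⊔ D : Subgroup G) : Set G) := hg
      rw [this] at hg'
      obtain ⟨n, hn, d, hd, rfl⟩ := hg'
      exact ⟨n, hn, d, hd, rfl⟩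
    constructor
    · -- p-constrained
      -- the image of S in the quotient is normal
      let π := QuotientGroup.mk' D
      have hπ : Function.Surjective π := QuotientGroup.mk'_surjective D
      let Sbar : Sylow p (G ⧸ D) := S.mapSurjective hπ
      have hSbar : (Sbar : Subgroup (G ⧸ D)) = (S : Subgroup G).map π := rfl
      have hSbarN : (Sbar : Subgroup (G ⧸ D)).Normal := by
        rw [← Subgroup.normalizer_eq_top_iff, eq_top_iff]
        have h1 : N.map π ≤ Subgroup.normalizer (((S : Subgroup G).map π : Subgroup (G ⧸ D)) : Set (G ⧸ D)) :=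
          Subgroup.le_normalizer_map π
        have h2 : N.map π = ⊤ := by
          have h3 : (N ⊔ D).map π = ⊤ := by
            rw [htop]; exact Subgroup.map_top_of_surjective π hπ
          rw [Subgroup.map_sup] at h3
          have h4 : D.map π = ⊥ := by
            rw [Subgroup.map_eq_bot_iff, QuotientGroup.ker_mk']
          rw [h4, sup_bot_eq] at h3
          exact h3
        rw [← h2]; exact h1
      have hcore : Cfsg.pPrimeCore p (G ⧸ D) = ⊥ := pPrimeCore_quotient_eq_bot p G
      have hcen := @centralizer_le_of_normal_sylow (G ⧸ D) _ _ p _ Sbar hSbarN hcore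
      -- S ≤ K
      have hSK : (S : Subgroup G) ≤ K := by
        intro s hs
        rw [hK]
        unfold Cfsg.pPrimePCore
        rw [Subgroup.mem_comap]
        have : (Sbar : Subgroup (G ⧸ D)) ≤ Cfsg.pCore p (G ⧸ D) := le_pCore' hSbarN Sbar.isPGroup'
        exact this ⟨s, hs, rfl⟩
      -- C_G(S) ≤ K
      have hCS : Subgroup.centralizer ((S : Subgroup G) : Set G) ≤ K := by
        intro x hx
        have h1 : π x ∈ Subgroup.centralizer ((Sbar : Subgroup (G ⧸ D)) : Set (G ⧸ D)) := by
          rw [Subgroup.mem_centralizer_iff]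
          rintro _ ⟨s, hs, rfl⟩
          have := (Subgroup.mem_centralizer_iff.mp hx) s hs
          rw [← map_mul, ← map_mul, this]
        have h2 : π x ∈ (S : Subgroup G).map π := hcen h1
        have h3 : x ∈ ((S : Subgroup G).map π).comap π := h2
        rw [Subgroup.comap_map_eq, QuotientGroup.ker_mk'] at h3
        exact (sup_le hSK hDK) h3
      -- all Sylows
      have hall : ∀ Q : Sylow p G, (Q : Subgroup G) ≤ K ∧
          Subgroup.centralizer ((Q : Subgroup G) : Set G) ≤ K := by
        intro Q
        obtain ⟨g, rfl⟩ := MulAction.exists_smul_eq G S Q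
        have hmem : ∀ y : G, y ∈ ((g • S : Sylow p G) : Subgroup G) ↔ g⁻¹ * y * g ∈ (S : Subgroup G) := by
          intro y
          rw [Sylow.coe_subgroup_smul, Subgroup.mem_pointwise_smul_iff_inv_smul_mem]
          simp [MulAut.smul_def]
        constructor
        · intro y hy
          have h1 : g⁻¹ * y * g ∈ K := hSK ((hmem y).mp hy)
          have h2 : g * (g⁻¹ * y * g) * g⁻¹ ∈ K := (inferInstance : K.Normal).conj_mem _ h1 g
          have h3 : g * (g⁻¹ * y * g) * g⁻¹ = y := by group
          rwa [h3] at h2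
        · intro x hx
          have h1 : g⁻¹ * x * g ∈ Subgroup.centralizer ((S : Subgroup G) : Set G) := by
            rw [Subgroup.mem_centralizer_iff]
            intro s hs
            have hs' : g * s * g⁻¹ ∈ ((g • S : Sylow p G) : Subgroup G) := by
              rw [hmem]
              have : g⁻¹ * (g * s * g⁻¹) * g = s := by group
              rw [this]; exact hs
            have h2 := (Subgroup.mem_centralizer_iff.mp hx) _ hs'
            calc s * (g⁻¹ * x * g) = g⁻¹ * ((g * s * g⁻¹) * x) * g := by group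
              _ = g⁻¹ * (x * (g * s * g⁻¹)) * g := by rw [h2]
              _ = g⁻¹ * x * g * s := by group
          have h2 : g⁻¹ * x * g ∈ K := hCS h1
          have h3 : g * (g⁻¹ * x * g) * g⁻¹ ∈ K := (inferInstance : K.Normal).conj_mem _ h2 g
          have h4 : g * (g⁻¹ * x * g) * g⁻¹ = x := by group
          rwa [h4] at h3
      intro P
      obtain ⟨Q, hQ⟩ := P.exists_comap_subtype_eq
      have h1 : (P : Subgroup ↥K).map K.subtype = (Q : Subgroup G) := by
        rw [← hQ]
        have : (Q : Subgroup G).comap K.subtype = (Q : Subgroup G).subgroupOf K := rfl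
        rw [this, Subgroup.subgroupOf_map_subtype, inf_of_le_left (hall Q).1]
      rw [h1]
      exact (hall Q).2
    · -- fusion
      intro Q hQS g hg
      obtain ⟨n, hn, d, hd, rfl⟩ := hdecomp g
      refine ⟨n, hn, d, ?_, rfl⟩
      rw [Subgroup.mem_centralizer_iff]
      intro x hx
      have h1 : (n * d) * x * (n * d)⁻¹ ∈ (S : Subgroup G) := hg (conj_mem_map_conj hx)
      have h2 : n⁻¹ * ((n * d) * x * (n * d)⁻¹) * n ∈ (S : Subgroup G) := by
        have hn' : n⁻¹ ∈ N := inv_mem hn
        have := (Subgroup.mem_normalizer_iff.mp hn') ((n * d) * x * (n * d)⁻¹)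
        rw [inv_inv] at this
        exact this.mp h1
      have h3 : n⁻¹ * ((n * d) * x * (n * d)⁻¹) * n = d * x * d⁻¹ := by group
      rw [h3] at h2
      have h4 : d * x * d⁻¹ * x⁻¹ ∈ (S : Subgroup G) := mul_mem h2 (inv_mem (hQS hx))
      have h5 : d * x * d⁻¹ * x⁻¹ ∈ D := by
        have : x * d⁻¹ * x⁻¹ ∈ D := (inferInstance : D.Normal).conj_mem _ (inv_mem hd) x
        have h6 := mul_mem hd this
        have h7 : d * (x * d⁻¹ * x⁻¹) = d * x * d⁻¹ * x⁻¹ := by group
        rwa [h7] at h6
      have h6 : d * x * d⁻¹ * x⁻¹ ∈ (S : Subgroup G) ⊓ D := ⟨h4, h5⟩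
      rw [sylow_inf_pPrimeCore, Subgroup.mem_bot] at h6
      calc x * d = (d * x * d⁻¹ * x⁻¹)⁻¹ * (d * x) := by group
        _ = d * x := by rw [h6]; group
  · -- (⇐)
    rintro ⟨hcon, hfus⟩
    obtain ⟨P, hP⟩ := exists_sylow_map_eq_inf S K
    have hfrat := Sylow.normalizer_sup_eq_top P
    rw [hP] at hfrat
    have hcenP : Subgroup.centralizer (((S : Subgroup G) ⊓ K : Subgroup G) : Set G) ≤ K := by
      have := hcon P
      rw [hP] at this
      exact this
    have hNP : Subgroup.normalizer (((S : Subgroup G) ⊓ K : Subgroup G) : Set G) ≤ N ⊔ K := by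
      intro g hg
      have h1 : ((S : Subgroup G) ⊓ K).map (MulAut.conj g).toMonoidHom ≤ (S : Subgroup G) := by
        rw [map_conj_eq_of_mem_normalizer hg]; exact inf_le_left
      obtain ⟨n, hn, c, hc, rfl⟩ := hfus _ inf_le_left g h1
      exact mul_mem (Subgroup.mem_sup_left hn) (Subgroup.mem_sup_right (hcenP hc))
    have h1 : (⊤ : Subgroup G) ≤ N ⊔ K := by
      rw [← hfrat]
      exact sup_le hNP le_sup_right
    have h2 : N ⊔ K ≤ N ⊔ D := by
      apply sup_le le_sup_left
      exact hKSD.trans (sup_le (hSN.trans le_sup_left) le_sup_right)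
    exact eq_top_iff.mpr (h1.trans h2)

end Cfsg.Agent.S1948
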