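import Cfsg.Statements.S1949
import Cfsg.Agent.Lib.Helper31.CritVariant

set_option autoImplicit false
open Cfsg
open scoped commutatorElement

namespace Cfsg.Agent.S1949

open Cfsg.Agent.Lib.Helper31.CritVariant

/-- In a subgroup `D`, an element commuting with a maximal abelian subgroup `A` lies in `A`. -/
theorem mem_of_comm_maxAbelian {P : Type*} [Group P] (D A : Subgroup P) (hAD : A ≤ D)
    (hA : IsMulCommutative ↥A)
    (hmax : ∀ B : Subgroup P, A ≤ B → B ≤ D → IsMulCommutative ↥B → B = A)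
    (u : P) (hu : u ∈ D) (hc : ∀ a ∈ A, u * a = a * u) : u ∈ A := by
  have hAc : A ≤ Subgroup.centralizer (A : Set P) :=
    Subgroup.le_centralizer_iff_isMulCommutative.mpr hA
  have hBu : A ⊔ Subgroup.zpowers u ≤ Subgroup.centralizer ({u} : Set P) := by
    apply sup_le
    · intro a ha
      rw [Subgroup.mem_centralizer_singleton_iff]
      exact (hc a ha).symm
    · rw [Subgroup.zpowers_le, Subgroup.mem_centralizer_singleton_iff]
  have hBa : ∀ a ∈ A, A ⊔ Subgroup.zpowers u ≤ Subgroup.centralizer ({a} : Set P) := by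
    intro a ha
    apply sup_le
    · intro b hb
      rw [Subgroup.mem_centralizer_singleton_iff]
      exact (Subgroup.mem_centralizer_iff.mp (hAc hb) a ha).symm
    · rw [Subgroup.zpowers_le, Subgroup.mem_centralizer_singleton_iff]
      exact (hc a ha)
  have hB : IsMulCommutative ↥(A ⊔ Subgroup.zpowers u) := by
    apply Subgroup.le_centralizer_iff_isMulCommutative.mp
    apply sup_le
    · intro a ha
      rw [Subgroup.mem_centralizer_iff]
      intro b hb
      have := hBa a ha hb
      rw [Subgroup.mem_centralizer_singleton_iff] at this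
      exact this
    · rw [Subgroup.zpowers_le, Subgroup.mem_centralizer_iff]
      intro b hb
      have := hBu hb
      rw [Subgroup.mem_centralizer_singleton_iff] at this
      exact this
  have hBD : A ⊔ Subgroup.zpowers u ≤ D := sup_le hAD (by rw [Subgroup.zpowers_le]; exact hu)
  have := hmax _ le_sup_left hBD hB
  rw [← this]
  exact le_sup_right (a := A) (Subgroup.mem_zpowers u)

/-- Let P be a finite p-group and G a group of automorphisms of P containing the inner automorphisms. Then there is a G-invariant subgroup D of P, contained in the subgroup generated by the elements x⁻¹α(x) with x in P and α in O^p(G), of exponent dividing p when p is odd and dividing 4 when p = 2, with [D, P] ≤ Z(D), such that every automorphism in G of order prime to p that fixes D elementwise is the identity; moreover every maximal abelian subgroup A of D is normal in P and every automorphism in G fixing A elementwise has p-power order. -/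
theorem result {P : Type*} [Group P] [Finite P] {p : ℕ} [Fact p.Prime] (hP : IsPGroup p P)
    (G : Subgroup (MulAut P)) (hG : Cfsg.Inn P ≤ G) :
    ∃ D : Subgroup P,
      (∀ α ∈ G, D.map α.toMonoidHom = D) ∧
      D ≤ Subgroup.closure {y : P | ∃ α ∈ Cfsg.pResidual p ↥G, ∃ x : P, y = x⁻¹ * (α : MulAut P) x} ∧
      (∀ d ∈ D, d ^ p = 1 ∨ (p = 2 ∧ d ^ 4 = 1)) ∧
      ⁅D, (⊤ : Subgroup P)⁆ ≤ D ⊓ Subgroup.centralizer (D : Set P) ∧
      (∀ α ∈ G, (orderOf α).Coprime p → (∀ d ∈ D, α d = d) → α = 1) ∧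
      ∀ A : Subgroup P, A ≤ D → IsMulCommutative ↥A →
        (∀ B : Subgroup P, A ≤ B → B ≤ D → IsMulCommutative ↥B → B = A) →
        A.Normal ∧ ∀ α ∈ G, (∀ a ∈ A, α a = a) → ∃ k : ℕ, orderOf α = p ^ k := by
  classical
  have hp := (Fact.out : p.Prime)
  -- choose a maximal G-invariant abelian subgroup of R
  have hfin : {Z : Subgroup P | Z ≤ Rsub p G ∧ GInv G Z ∧ ∀ a ∈ Z, ∀ b ∈ Z, a * b = b * a}.Finite :=
    Set.toFinite _
  have hne : {Z : Subgroup P | Z ≤ Rsub p G ∧ GInv G Z ∧ ∀ a ∈ Z, ∀ b ∈ Z, a * b = b * a}.Nonempty := by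
    refine ⟨⊥, bot_le, ?_, ?_⟩
    · intro α _ x hx
      rw [Subgroup.mem_bot] at hx ⊢
      rw [hx, map_one]
    · intro a ha b hb
      rw [Subgroup.mem_bot] at ha hb
      rw [ha, hb]
  obtain ⟨Z, hZ⟩ := hfin.exists_maximal hne
  have hZmem := hZ.prop
  have h : Ctx p G Z := ⟨hG, hZmem.2.1, hZmem.1, hZmem.2.2⟩
  have hmax : IsMaxInv p G Z := by
    intro Z' h1 h2 h3 h4
    exact le_antisymm (hZ.le_of_ge ⟨h1, h2, h3⟩ h4) h4
  have hdet := detect_D h hP hmax
  refine ⟨Dsub h, fun α hα => (Dsub_inv h).map_eq α hα, ?_, fun d hd => Dsub_exp h hd, Dsub_comm h,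
    fun α hα hcop hfix => hdet α hα hcop hfix, ?_⟩
  · exact (Dsub_le_Csub h).trans (Csub_le_R h)
  · intro A hAD hA hAmax
    have hM1 := mem_of_comm_maxAbelian (Dsub h) A hAD hA hAmax
    -- Z(D) ≤ A
    have hZD : Dsub h ⊓ Subgroup.centralizer (Dsub h : Set P) ≤ A := by
      intro z hz
      apply hM1 z hz.1
      intro a ha
      exact (Subgroup.mem_centralizer_iff.mp hz.2 a (hAD ha)).symm
    have hAn : A.Normal := by
      refine ⟨fun a ha g => ?_⟩
      have h1 : ⁅a, g⁆ ∈ A :=
        hZD (Dsub_comm h (Subgroup.commutator_mem_commutator (hAD ha) (Subgroup.mem_top g)))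
      have e : g * a * g⁻¹ = ⁅a, g⁆⁻¹ * a := by
        rw [commutatorElement_def]; group
      rw [e]
      exact A.mul_mem (A.inv_mem h1) ha
    refine ⟨hAn, ?_⟩
    intro α hα hfix
    have hn0 : orderOf α ≠ 0 := (orderOf_pos α).ne'
    obtain ⟨k, m, hm, hn⟩ := Nat.exists_eq_pow_mul_and_not_dvd hn0 p hp.ne_one
    have hβord : orderOf (α ^ p ^ k) = m := by
      rw [orderOf_pow, hn, Nat.gcd_eq_right (Dvd.intro _ rfl),
        Nat.mul_div_cancel_left _ (pow_pos hp.pos k)]
    have hβcop : (orderOf (α ^ p ^ k)).Coprime p := by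
      rw [hβord]
      exact ((Nat.Prime.coprime_iff_not_dvd hp).mpr hm).symm
    have hβG : α ^ p ^ k ∈ G := G.pow_mem hα _
    have hpowfix : ∀ j : ℕ, ∀ a ∈ A, (α ^ j) a = a := by
      intro j
      induction j with
      | zero => intro a _; simp
      | succ j ih =>
        intro a ha
        rw [pow_succ, MulAut.mul_apply, hfix a ha, ih a ha]
    have hβfix : ∀ a ∈ A, (α ^ p ^ k) a = a := hpowfix _
    have hβD : ∀ d ∈ Dsub h, (α ^ p ^ k) d = d := by
      intro d hd
      have hβd : (α ^ p ^ k) d ∈ Dsub h := Dsub_inv h _ hβG d hd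
      have hu : d⁻¹ * (α ^ p ^ k) d ∈ Dsub h := (Dsub h).mul_mem ((Dsub h).inv_mem hd) hβd
      have hcomm : ∀ a ∈ A, (d⁻¹ * (α ^ p ^ k) d) * a = a * (d⁻¹ * (α ^ p ^ k) d) := by
        intro a ha
        have h1 : d * a * d⁻¹ ∈ A := hAn.conj_mem a ha d
        have h2 := hβfix _ h1
        rw [map_mul, map_mul, hβfix a ha, map_inv] at h2
        have h3 : (d⁻¹ * (α ^ p ^ k) d) * a
            = d⁻¹ * ((α ^ p ^ k) d * a * ((α ^ p ^ k) d)⁻¹) * (α ^ p ^ k) d := by group
        rw [h3, h2]
        group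
      have huA := hM1 _ hu hcomm
      have h1 : (α ^ p ^ k) d = d * (d⁻¹ * (α ^ p ^ k) d) := by group
      have := eq_one_of_coprime hP _ hβcop d _ h1 (hβfix _ huA)
      rw [h1, this, mul_one]
    have hβ1 := hdet _ hβG hβcop hβD
    rw [hβ1, orderOf_one] at hβord
    refine ⟨k, ?_⟩
    rw [hn, ← hβord, mul_one]

end Cfsg.Agent.S1949
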