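import Cfsg.Statements.S1952
import Cfsg.Agent.Lib.Helper40.ElemAbelian
open Cfsg.Agent.Lib.Helper40

set_option autoImplicit false
open Cfsg

namespace Cfsg.Agent.S1952

/-- Let P be a finite p-group with a normal elementary abelian subgroup A of index p, and let x ∈ A and y ∈ P with y outside A. If the product of the p conjugates y^(-i) x y^i (i = 0, …, p−1) is not the identity, then the wreath product Z_p ≀ Z_p, realised as a Sylow p-subgroup of the symmetric group of degree p², is a homomorphic image of P. -/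
theorem result {P : Type*} [Group P] [Finite P] {p : ℕ} [Fact p.Prime] (hP : IsPGroup p P) (A : Subgroup P) [A.Normal]
    (hA : Cfsg.IsElementaryAbelian p A) (hidx : A.index = p) (x y : P) (hx : x ∈ A) (hy : y ∉ A)
    (hprod : ((List.range p).map (fun i => (y ^ i)⁻¹ * x * y ^ i)).prod ≠ 1) :
    ∃ (Q : Sylow p (Equiv.Perm (Fin (p ^ 2)))) (f : P →* ↥(Q : Subgroup (Equiv.Perm (Fin (p ^ 2))))), Function.Surjective f := by
  have hp : p.Prime := Fact.out
  letI instCG : CommGroup ↥A :=
    { (inferInstance : Group ↥A) with mul_comm := fun a b => hA.1.is_comm.comm a b }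
  have hexp : ∀ a : ↥A, a ^ p = 1 := fun a => Subtype.ext (by simpa using hA.2 a a.2)
  -- the conjugation endomorphism
  let c₀ : ↥A →* ↥A := (MulAut.conjNormal y⁻¹ : MulAut ↥A).toMonoidHom
  have hc₀ : ∀ a : ↥A, ((c₀ a : ↥A) : P) = y⁻¹ * a * y := by
    intro a
    have := MulAut.conjNormal_apply (H := A) y⁻¹ a
    rw [inv_inv] at this
    exact this
  have hiter : ∀ (i : ℕ) (a : ↥A), ((c₀^[i] a : ↥A) : P) = (y ^ i)⁻¹ * a * y ^ i := by
    intro i
    induction i with
    | zero => intro a; simp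
    | succ i ih =>
      intro a
      rw [Function.iterate_succ_apply', hc₀, ih, pow_succ]
      group
  have hyp : y ^ p ∈ A := by
    have := A.pow_index_mem y
    rwa [hidx] at this
  have hcp : ∀ a : ↥A, c₀^[p] a = a := by
    intro a
    apply Subtype.ext
    rw [hiter]
    have hcomm : (⟨y ^ p, hyp⟩ : ↥A) * a = a * ⟨y ^ p, hyp⟩ := mul_comm _ _
    have hcomm' : y ^ p * (a : P) = a * y ^ p := congrArg Subtype.val hcomm
    rw [mul_assoc, ← hcomm', ← mul_assoc, inv_mul_cancel, one_mul]
  -- the norm element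
  set N : P := ((List.range p).map (fun i => (y ^ i)⁻¹ * x * y ^ i)).prod with hNdef
  let NA : ↥A := ∏ i ∈ Finset.range p, c₀^[i] ⟨x, hx⟩
  have hlist : ∀ n : ℕ, ((List.range n).map (fun i => (y ^ i)⁻¹ * x * y ^ i)).prod =
      ((∏ i ∈ Finset.range n, c₀^[i] ⟨x, hx⟩ : ↥A) : P) := by
    intro n
    induction n with
    | zero => simp
    | succ n ih =>
      rw [List.range_succ, List.map_append, List.prod_append, ih, Finset.prod_range_succ,
        Subgroup.coe_mul, hiter]
      simp
  have hNA : (NA : P) = N := (hlist p).symm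
  have hNA1 : NA ≠ 1 := by
    intro h
    apply hprod
    rw [← hNA, h]; rfl
  obtain ⟨B₀, hNB₀, hcardB₀⟩ := ElemAb.exists_hyperplane (p := p) hexp NA hNA1
  let B : Subgroup P := B₀.map A.subtype
  have hBA : B ≤ A := by
    rintro _ ⟨b, _, rfl⟩
    exact b.2
  have hcardB : Nat.card B = Nat.card B₀ := Subgroup.card_map_of_injective A.subtype_injective
  have hNB : N ∉ B := by
    rintro ⟨b, hb, hbN⟩
    apply hNB₀
    have : b = NA := Subtype.ext (by rw [hNA]; exact hbN)
    rwa [← this]
  -- the core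
  let C : Subgroup P := B.normalCore
  have hCB : C ≤ B := Subgroup.normalCore_le B
  have hCA : C ≤ A := hCB.trans hBA
  have hCn : C.Normal := Subgroup.normalCore_normal B
  have hbound : p ^ p * Nat.card C ≤ Nat.card A := by
    have := ElemAb.card_bound (p := p) hexp c₀ hcp (C.subgroupOf A)
      (by
        intro a ha
        rw [Subgroup.mem_subgroupOf] at ha ⊢
        rw [hc₀]
        have := hCn.conj_mem _ ha y⁻¹
        rwa [inv_inv] at this)
      ⟨x, hx⟩
      (by
        rw [Subgroup.mem_subgroupOf]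
        change (NA : P) ∉ C
        rw [hNA]
        exact fun h => hNB (hCB h))
    rwa [Nat.card_congr (Subgroup.subgroupOfEquivOfLe hCA).toEquiv] at this
  -- cardinalities
  have hPA : Nat.card A * p = Nat.card P := by rw [← hidx]; exact A.card_mul_index
  have hBpos : 0 < Nat.card B := Nat.card_pos
  have hCpos : 0 < Nat.card C := Nat.card_pos
  have hBidx : B.index = p ^ 2 := by
    have h1 := B.card_mul_index
    rw [← hPA, ← hcardB₀, ← hcardB] at h1
    have : Nat.card B * B.index = Nat.card B * (p * p) := by rw [h1]; ring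
    rw [pow_two]
    exact Nat.eq_of_mul_eq_mul_left hBpos this
  have hcardQuot : Nat.card (P ⧸ B) = p ^ 2 := by rw [← hBidx]; rfl
  let e : (P ⧸ B) ≃ Fin (p ^ 2) := Finite.equivFinOfCardEq hcardQuot
  let φ₀ : P →* Equiv.Perm (P ⧸ B) := MulAction.toPermHom P (P ⧸ B)
  let φ : P →* Equiv.Perm (Fin (p ^ 2)) := e.permCongrHom.toMonoidHom.comp φ₀
  have hker : φ.ker = C := by
    ext g
    rw [MonoidHom.mem_ker]
    change e.permCongrHom (φ₀ g) = 1 ↔ g ∈ B.normalCore
    rw [Subgroup.normalCore_eq_ker, MonoidHom.mem_ker]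
    exact MulEquiv.map_eq_one_iff _
  have hRcard : Nat.card φ.range * Nat.card C = Nat.card P := by
    rw [← Subgroup.index_ker, hker, mul_comm]
    exact C.card_mul_index
  have hRp : IsPGroup p φ.range := hP.of_surjective φ.rangeRestrict φ.rangeRestrict_surjective
  obtain ⟨Q, hRQ⟩ := hRp.exists_le_sylow
  have hQcard : Nat.card (Q : Subgroup (Equiv.Perm (Fin (p ^ 2)))) = p ^ (p + 1) := by
    rw [Sylow.card_eq_multiplicity, Nat.card_perm, Nat.card_fin,
      ← Nat.multiplicity_eq_factorization hp (p ^ 2).factorial_ne_zero,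
      Nat.Prime.multiplicity_factorial_pow hp]
    congr 1
    simp [Finset.sum_range_succ, add_comm]
  have hRge : p ^ (p + 1) ≤ Nat.card φ.range := by
    have h1 : p ^ (p + 1) * Nat.card C ≤ Nat.card φ.range * Nat.card C := by
      rw [hRcard, ← hPA, pow_succ]
      calc p ^ p * p * Nat.card C = (p ^ p * Nat.card C) * p := by ring
        _ ≤ Nat.card A * p := Nat.mul_le_mul_right p hbound
    exact Nat.le_of_mul_le_mul_right h1 hCpos
  have hRQeq : φ.range = (Q : Subgroup (Equiv.Perm (Fin (p ^ 2)))) :=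
    Subgroup.eq_of_le_of_card_ge hRQ (by rw [hQcard]; exact hRge)
  refine ⟨Q, φ.codRestrict (Q : Subgroup (Equiv.Perm (Fin (p ^ 2)))) (fun g => hRQ ⟨g, rfl⟩), ?_⟩
  rintro ⟨q, hq⟩
  rw [← hRQeq] at hq
  obtain ⟨g, hg⟩ := hq
  exact ⟨g, Subtype.ext hg⟩

end Cfsg.Agent.S1952
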