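import Cfsg.Statements.S1953
import Cfsg.Agent.Lib.Helper57.CRLeast
import Cfsg.Agent.Lib.Helper57.AutFreeHyp

set_option autoImplicit false
open Cfsg

namespace Cfsg.Agent.S1953

/-- Let p be an odd prime and P a Sylow p-subgroup of the finite group G, and suppose that for no p-subgroup Q of G does N_G(Q)/C_G(Q) have a section isomorphic to SL₂(p). Call a subgroup Q of P centric-radical when Z(Q) is a Sylow p-subgroup of C_G(Q) and the only normal subgroup X of N_G(Q) containing Q·C_G(Q) such that the index of Q·C_G(Q) in X is a power of p is Q·C_G(Q) itself (that is, N_G(Q)/Q·C_G(Q) has no nontrivial normal p-subgroup). Then there is a centric-radical subgroup Q of P contained in every centric-radical subgroup of P; it is normal in P, and N_G(Q) controls strong fusion in P: whenever a subgroup A of P has g A g⁻¹ ≤ P, the element g is a product h c with h in N_G(Q) and c centralizing A. -/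
theorem result {G : Type*} [Group G] [Finite G] {p : ℕ} [Fact p.Prime] (hp : p ≠ 2) (P : Sylow p G)
    (hfree : ∀ Q : Subgroup G, IsPGroup p ↥Q → ¬ ∃ (H K : Subgroup G) (_ : (K.subgroupOf H).Normal),
      Subgroup.centralizer (Q : Set G) ≤ K ∧ K ≤ H ∧ H ≤ Subgroup.normalizer (Q : Set G) ∧
      Nonempty ((↥H ⧸ K.subgroupOf H) ≃* Matrix.SpecialLinearGroup (Fin 2) (ZMod p)))
    (cr : Subgroup G → Prop)
    (hcr : ∀ Q : Subgroup G, cr Q ↔ (Q ≤ (P : Subgroup G) ∧
      (∃ R : Sylow p ↥(Subgroup.centralizer (Q : Set G)),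
        (R : Subgroup ↥(Subgroup.centralizer (Q : Set G))).map (Subgroup.centralizer (Q : Set G)).subtype = Q ⊓ Subgroup.centralizer (Q : Set G)) ∧
      ∀ X : Subgroup G, X ≤ Subgroup.normalizer (Q : Set G) →
        (∀ n ∈ Subgroup.normalizer (Q : Set G), X.map (MulAut.conj n).toMonoidHom = X) →
        Q ⊔ Subgroup.centralizer (Q : Set G) ≤ X → (∃ k : ℕ, (Q ⊔ Subgroup.centralizer (Q : Set G)).relIndex X = p ^ k) →
        X = Q ⊔ Subgroup.centralizer (Q : Set G))) :
    ∃ Q : Subgroup G, cr Q ∧ (∀ R : Subgroup G, cr R → Q ≤ R) ∧ (∀ x ∈ (P : Subgroup G), Q.map (MulAut.conj x).toMonoidHom = Q) ∧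
      ∀ A : Subgroup G, A ≤ (P : Subgroup G) → ∀ g : G, A.map (MulAut.conj g).toMonoidHom ≤ (P : Subgroup G) →
        ∃ h ∈ Subgroup.normalizer (Q : Set G), ∃ c ∈ Subgroup.centralizer (A : Set G), g = h * c := by
  have hG : Cfsg.Agent.Lib.Helper57.GT.AutFree p G := Cfsg.Agent.Lib.Helper57.GT.autFree_of_hyp hfree
  obtain ⟨Q, hQ, hmax⟩ := Cfsg.Agent.Lib.Helper57.GT.exists_max_fnormal P
  have hcen := Cfsg.Agent.Lib.Helper57.GT.centric_of_max hp hG P Q hQ hmax
  have hrad := Cfsg.Agent.Lib.Helper57.GT.radical_of_max P Q hQ hmax hcen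
  have hPN : (P : Subgroup G) ≤ Subgroup.normalizer (Q : Set G) := hQ.sylow_le_normalizer
  refine ⟨Q, ?_, ?_, ?_, ?_⟩
  · -- `Q` is centric radical
    rw [hcr]
    refine ⟨hQ.1, ?_, ?_⟩
    · have hCN : Subgroup.centralizer (Q : Set G) ≤ Subgroup.normalizer (Q : Set G) :=
        Subgroup.centralizer_le_normalizer (Q : Set G)
      have hidx : ¬ p ∣ ((P : Subgroup G) ⊓ Subgroup.centralizer (Q : Set G)).relIndex
          (Subgroup.centralizer (Q : Set G)) :=
        Cfsg.Agent.Lib.Helper41.not_dvd_relIndex_inf_of_normal hPN P.2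
          (Cfsg.Agent.Lib.Helper57.GT.sylow_not_dvd_relIndex P hPN) hCN
          (fun c n hc hn => Cfsg.Agent.Lib.Helper41.conj_mem_centralizer hn hc)
      have heq : (P : Subgroup G) ⊓ Subgroup.centralizer (Q : Set G) =
          Q ⊓ Subgroup.centralizer (Q : Set G) :=
        le_antisymm (le_inf hcen inf_le_right) (inf_le_inf_right _ hQ.1)
      rw [heq] at hidx
      have hpg : IsPGroup p ((Q ⊓ Subgroup.centralizer (Q : Set G)).subgroupOf
          (Subgroup.centralizer (Q : Set G))) :=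
        ((P.2.to_le hQ.1).to_le inf_le_left).comap_subtype
      refine ⟨hpg.toSylow hidx, ?_⟩
      have hcoe : ((hpg.toSylow hidx : Sylow p ↥(Subgroup.centralizer (Q : Set G))) :
          Subgroup ↥(Subgroup.centralizer (Q : Set G))) =
          (Q ⊓ Subgroup.centralizer (Q : Set G)).subgroupOf (Subgroup.centralizer (Q : Set G)) :=
        IsPGroup.toSylow_coe hpg hidx
      rw [hcoe, Subgroup.subgroupOf_map_subtype]
      exact inf_eq_left.mpr inf_le_right
    · intro X hXN hXinv hle hidx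
      exact hrad X hXN hXinv hle hidx
  · -- least
    intro R hR
    rw [hcr] at hR
    obtain ⟨hRP, hRcen, hRrad⟩ := hR
    exact hQ.le_of_centric_radical R hRP hRcen hRrad
  · intro x hx
    exact Cfsg.Agent.Lib.Helper41.mem_normalizer_iff_lc.mp (hPN hx)
  · intro A hA g hg
    obtain ⟨y, hy, hya⟩ := hQ.2 (A : Set G) g hA (fun a ha => hg ⟨a, ha, rfl⟩)
    refine ⟨y, hy, y⁻¹ * g, ?_, by group⟩
    rw [Subgroup.mem_centralizer_iff]
    intro a ha
    have h1 := hya a ha
    have h2 : g * a = y * a * y⁻¹ * g := by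
      rw [h1]; group
    calc a * (y⁻¹ * g) = y⁻¹ * (y * a * y⁻¹ * g) := by group
      _ = y⁻¹ * (g * a) := by rw [h2]
      _ = y⁻¹ * g * a := by group

end Cfsg.Agent.S1953
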