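import Cfsg.Statements.S1954
-- import your own Cfsg.Agent.* helpers here
import Cfsg.Agent.Lib.Helper03.NormalFusion

set_option autoImplicit false
open Cfsg

namespace Cfsg.Agent.S1954

/-- Let N be a normal subgroup of the finite group G, P a Sylow p-subgroup of G, and V a subgroup of P ∩ N normal in P ∩ N such that N_N(V) controls strong fusion in P ∩ N with respect to N (whenever a subgroup A of P ∩ N has n A n⁻¹ ≤ P ∩ N for some n in N, then n = h c with h in N_N(V) and c in C_N(A)). Let W be the subgroup generated by the conjugates of V under N_G(P ∩ N). Then N_G(W) controls strong fusion in P with respect to G. -/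
theorem result {G : Type*} [Group G] [Finite G] {p : ℕ} [Fact p.Prime] (N : Subgroup G) [N.Normal] (P : Sylow p G) (V : Subgroup G)
    (hV : V ≤ (P : Subgroup G) ⊓ N) (hVn : ∀ x ∈ (P : Subgroup G) ⊓ N, V.map (MulAut.conj x).toMonoidHom = V)
    (hctrl : ∀ A : Subgroup G, A ≤ (P : Subgroup G) ⊓ N → ∀ n ∈ N, A.map (MulAut.conj n).toMonoidHom ≤ (P : Subgroup G) ⊓ N →
      ∃ h ∈ N ⊓ Subgroup.normalizer (V : Set G), ∃ c ∈ N ⊓ Subgroup.centralizer (A : Set G), n = h * c)
    (W : Subgroup G) (hW : W = Subgroup.closure (⋃ x ∈ Subgroup.normalizer (((P : Subgroup G) ⊓ N : Subgroup G) : Set G),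
      ((V.map (MulAut.conj x).toMonoidHom : Subgroup G) : Set G))) :
    ∀ A : Subgroup G, A ≤ (P : Subgroup G) → ∀ g : G, A.map (MulAut.conj g).toMonoidHom ≤ (P : Subgroup G) →
        ∃ h ∈ Subgroup.normalizer (W : Set G), ∃ c ∈ Subgroup.centralizer (A : Set G), g = h * c := by
  have hctlV : Cfsg.Agent.Lib.Helper03.CtrlN N ((P : Subgroup G) ⊓ N) V := by
    intro A hA n hn hnA
    exact hctrl A hA n hn hnA
  have hW' : W = Subgroup.closure (⋃ x ∈ Subgroup.normalizer (((P : Subgroup G) ⊓ N : Subgroup G) : Set G),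
      ((Cfsg.Agent.Lib.Helper41.lc x V : Subgroup G) : Set G)) := hW
  have hctlW : Cfsg.Agent.Lib.Helper03.CtrlN N ((P : Subgroup G) ⊓ N) W := by
    rw [hW']; exact Cfsg.Agent.Lib.Helper03.ctrlN_closure_conj hV hctlV
  have hQW : Subgroup.normalizer (((P : Subgroup G) ⊓ N : Subgroup G) : Set G) ≤
      Subgroup.normalizer (W : Set G) := by
    intro y hy
    apply Cfsg.Agent.Lib.Helper41.mem_normalizer_of_lc_le
    rw [hW', Cfsg.Agent.Lib.Helper41.lc, MonoidHom.map_closure, Subgroup.closure_le]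
    rintro _ ⟨z, hz, rfl⟩
    simp only [Set.mem_iUnion] at hz
    obtain ⟨x, hx, hz⟩ := hz
    apply Subgroup.subset_closure
    simp only [Set.mem_iUnion]
    refine ⟨y * x, mul_mem hy hx, ?_⟩
    rw [Cfsg.Agent.Lib.Helper41.lc_mul]
    exact Cfsg.Agent.Lib.Helper41.conj_mem_lc hz
  exact Cfsg.Agent.Lib.Helper03.controls_of_normal P hQW hctlW

end Cfsg.Agent.S1954
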