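import Cfsg.Statements.S1958
import Cfsg.Agent.Lib.Helper40.Cores
import Cfsg.Agent.Lib.Helper15.Lifting
import Cfsg.Agent.Lib.Helper15.CommClosure
import Cfsg.Agent.Lib.Helper28.AxB
import Cfsg.Agent.Lib.Helper61.SolvableCore
import Cfsg.Agent.Lib.Helper42.PComponents

set_option autoImplicit false
open Cfsg

namespace Cfsg.Agent.S1958

open Cfsg.Agent.Lib

theorem eq_one_of_isPGroup_of_coprime' {K : Type*} [Group K] {p : ℕ} [Fact p.Prime] {Q : Subgroup K}
    (hQ : IsPGroup p Q) {x : K} (hx : x ∈ Q) (hc : (orderOf x).Coprime p) : x = 1 := by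
  obtain ⟨k, hk⟩ := hQ ⟨x, hx⟩
  have h1 : x ^ p ^ k = 1 := by simpa using congrArg Subtype.val hk
  have h2 : orderOf x ∣ p ^ k := orderOf_dvd_of_pow_eq_one h1
  have h3 : orderOf x = 1 := Nat.eq_one_of_dvd_coprimes (Nat.Coprime.pow_right k hc) dvd_rfl h2
  exact orderOf_eq_one_iff.mp h3

/-- In a finite solvable group with `O_{p'} = 1`, a `p'`-subgroup `A` centralizing a `p`-subgroup
`T` with `N(T) ≤ N(A)` is trivial. -/
theorem eq_bot_of_axb' {K : Type*} [Group K] [Finite K] (p : ℕ) [Fact p.Prime]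
    (hsol : Group.IsSolvable K) (hO : pPrimeCore p K = ⊥) (T A : Subgroup K)
    (hT : IsPGroup p T) (hA : (Nat.card A).Coprime p)
    (hAT : ∀ a ∈ A, ∀ x ∈ T, a * x = x * a)
    (hN : Subgroup.normalizer (T : Set K) ≤ Subgroup.normalizer (A : Set K)) : A = ⊥ := by
  have hQn : (pCore p K).Normal := pCore_normal p K
  have hQp : IsPGroup p (pCore p K) := Helper61.pCore_isPGroup p K
  have hordA : ∀ x ∈ A, (orderOf x).Coprime p := fun x hx =>
    Nat.Coprime.coprime_dvd_left (Subgroup.orderOf_dvd_natCard A hx) hA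
  have hL : Helper28.PClosing p A := Helper28.pClosing_of_coprime p hordA
  have hLP : ⁅A, T⁆ = ⊥ := by
    rw [Subgroup.commutator_eq_bot_iff_le_centralizer]
    intro a ha
    rw [Subgroup.mem_centralizer_iff]
    intro x hx
    exact (hAT a ha x hx).symm
  have hLR : ⁅A, pCore p K ⊓ Subgroup.normalizer (T : Set K)⁆ = ⊥ := by
    rw [Subgroup.commutator_eq_bot_iff_le_centralizer]
    intro a ha
    rw [Subgroup.mem_centralizer_iff]
    intro d hd
    obtain ⟨hdQ, hdT⟩ := Subgroup.mem_inf.mp hd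
    have hdA : d ∈ Subgroup.normalizer (A : Set K) := hN hdT
    have hcA : a * d * a⁻¹ * d⁻¹ ∈ A := by
      have h1 : d * a⁻¹ * d⁻¹ ∈ A := (Subgroup.mem_normalizer_iff.mp hdA _).mp (A.inv_mem ha)
      have h2 : a * d * a⁻¹ * d⁻¹ = a * (d * a⁻¹ * d⁻¹) := by group
      rw [h2]; exact A.mul_mem ha h1
    have hcQ : a * d * a⁻¹ * d⁻¹ ∈ pCore p K :=
      (pCore p K).mul_mem (hQn.conj_mem d hdQ a) ((pCore p K).inv_mem hdQ)
    have hc1 : a * d * a⁻¹ * d⁻¹ = 1 :=
      eq_one_of_isPGroup_of_coprime' hQp hcQ (hordA _ hcA)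
    calc d * a = (a * d * a⁻¹ * d⁻¹) * (d * a) := by rw [hc1, one_mul]
      _ = a * d := by group
  have key := Helper28.pClosing_centralizes_pCore T hT A hL hLP hLR
  rw [Subgroup.commutator_eq_bot_iff_le_centralizer] at key
  have hHH := Helper61.centralizer_pCore_le p hsol hO
  rw [eq_bot_iff]
  intro a ha
  have h1 : a ∈ pCore p K := hHH (key ha)
  rw [Subgroup.mem_bot]
  exact eq_one_of_isPGroup_of_coprime' hQp h1 (hordA _ ha)

theorem half {G : Type*} [Group G] [Finite G] (p : ℕ) [Fact p.Prime] (x y : G)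
    (hx : orderOf x = p) (hxy : x * y = y * x)
    (hCy : Group.IsSolvable ↥(Subgroup.centralizer ({y} : Set G))) :
    Cfsg.centralizerPPrimeCore p x ⊓ Subgroup.centralizer {y} ≤ Cfsg.centralizerPPrimeCore p y := by
  have hNc : (Nat.card (pPrimeCore p ↥(Subgroup.centralizer ({y} : Set G)))).Coprime p :=
    Helper40.pPrimeCore_card_coprime' p _
  have hxCy : x ∈ Subgroup.centralizer ({y} : Set G) :=
    Subgroup.mem_centralizer_singleton_iff.mpr hxy
  have hXp : IsPGroup p (Subgroup.zpowers (⟨x, hxCy⟩ : ↥(Subgroup.centralizer ({y} : Set G)))) := by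
    intro z
    obtain ⟨z, hz⟩ := z
    obtain ⟨k, rfl⟩ := Subgroup.mem_zpowers_iff.mp hz
    refine ⟨1, ?_⟩
    apply Subtype.ext
    apply Subtype.ext
    simp only [pow_one, Subgroup.coe_pow, Subgroup.coe_zpow, Subgroup.coe_one]
    rw [← zpow_natCast, ← zpow_mul, mul_comm, zpow_mul, zpow_natCast, ← hx, pow_orderOf_eq_one,
      one_zpow]
  have hcent := Helper15.centralizer_map_mk_of_coprime
    (pPrimeCore p ↥(Subgroup.centralizer ({y} : Set G))) hNc _ hXp
  have hKsol : Group.IsSolvable (↥(Subgroup.centralizer ({y} : Set G)) ⧸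
      pPrimeCore p ↥(Subgroup.centralizer ({y} : Set G))) :=
    haveI := hCy; inferInstance
  have hKO := Helper40.pPrimeCore_quotient_eq_bot p ↥(Subgroup.centralizer ({y} : Set G))
  obtain ⟨T, hTdef⟩ : ∃ T, T = (Subgroup.zpowers (⟨x, hxCy⟩ : ↥(Subgroup.centralizer ({y} : Set G)))).map
      (QuotientGroup.mk' (pPrimeCore p ↥(Subgroup.centralizer ({y} : Set G)))) := ⟨_, rfl⟩
  rw [← hTdef] at hcent
  have hTp : IsPGroup p T := hTdef ▸ hXp.map _
  obtain ⟨L, hLdef⟩ : ∃ L, L = Subgroup.centralizer (T : Set (↥(Subgroup.centralizer ({y} : Set G)) ⧸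
      pPrimeCore p ↥(Subgroup.centralizer ({y} : Set G)))) := ⟨_, rfl⟩
  have hA0 : Helper42.pPrimeCoreOf p L = ⊥ := by
    apply eq_bot_of_axb' p hKsol hKO T _ hTp
    · rw [Helper42.card_pPrimeCoreOf]
      exact Helper40.pPrimeCore_card_coprime' p _
    · intro a ha t ht
      have haL : a ∈ L := Helper42.pPrimeCoreOf_le p L ha
      rw [hLdef] at haL
      exact ((Subgroup.mem_centralizer_iff.mp haL) t ht).symm
    · intro n hn
      have hnL : n ∈ Subgroup.normalizer (L : Set _) := by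
        rw [hLdef]; exact Helper15.normalizer_le_normalizer_centralizer T hn
      exact Subgroup.mem_normalizer_fintype (fun m hm => Helper42.pPrimeCoreOf_conj_mem p L n hnL m hm)
  intro d hd
  obtain ⟨hd1, hd2⟩ := Subgroup.mem_inf.mp hd
  -- the image of D in the quotient lies in O_{p'}(L)
  have hM : ((Cfsg.centralizerPPrimeCore p x ⊓ Subgroup.centralizer {y}).subgroupOf
      (Subgroup.centralizer ({y} : Set G))).map
      (QuotientGroup.mk' (pPrimeCore p ↥(Subgroup.centralizer ({y} : Set G)))) ≤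
      Helper42.pPrimeCoreOf p L := by
    apply Helper42.le_pPrimeCoreOf
    · rintro m ⟨d', hd', rfl⟩
      rw [hLdef, hcent]
      refine ⟨d', ?_, rfl⟩
      rw [SetLike.mem_coe, Subgroup.mem_subgroupOf] at hd'
      have hdx : (d' : G) ∈ Subgroup.centralizer ({x} : Set G) :=
        (Subgroup.map_subtype_le _) (Subgroup.mem_inf.mp hd').1
      rw [SetLike.mem_coe, Subgroup.mem_centralizer_iff]
      intro z hz
      obtain ⟨k, rfl⟩ := Subgroup.mem_zpowers_iff.mp hz
      have h1 : (d' : G) * x = x * (d' : G) := Subgroup.mem_centralizer_singleton_iff.mp hdx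
      have h2 : Commute (⟨x, hxCy⟩ : ↥(Subgroup.centralizer ({y} : Set G))) d' := by
        apply Subtype.ext; exact h1.symm
      exact (h2.zpow_left k).eq
    · intro g hg m hm
      rw [hLdef, hcent] at hg
      obtain ⟨h, hh, rfl⟩ := hg
      obtain ⟨d', hd', rfl⟩ := hm
      refine ⟨h * d' * h⁻¹, ?_, by simp⟩
      rw [SetLike.mem_coe, Subgroup.mem_subgroupOf] at hd' ⊢
      have hhx : (h : G) ∈ Subgroup.centralizer ({x} : Set G) := by
        rw [Subgroup.mem_centralizer_singleton_iff]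
        have h1 := (Subgroup.mem_centralizer_iff.mp hh) ⟨x, hxCy⟩ (Subgroup.mem_zpowers _)
        exact (congrArg Subtype.val h1).symm
      obtain ⟨hd'1, hd'2⟩ := Subgroup.mem_inf.mp hd'
      refine Subgroup.mem_inf.mpr ⟨?_, (h * d' * h⁻¹).2⟩
      have := Helper42.pPrimeCoreOf_conj_mem p (Subgroup.centralizer ({x} : Set G)) (h : G)
        (Subgroup.le_normalizer hhx) (d' : G) hd'1
      have h5 : ((h * d' * h⁻¹ : ↥(Subgroup.centralizer ({y} : Set G))) : G)
          = (h : G) * (d' : G) * (h : G)⁻¹ := by simp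
      rw [h5]
      exact this
    · have h1 := Subgroup.card_map_dvd ((Cfsg.centralizerPPrimeCore p x ⊓
        Subgroup.centralizer {y}).subgroupOf (Subgroup.centralizer ({y} : Set G)))
        (QuotientGroup.mk' (pPrimeCore p ↥(Subgroup.centralizer ({y} : Set G))))
      have h2 : Nat.card ((Cfsg.centralizerPPrimeCore p x ⊓
        Subgroup.centralizer {y}).subgroupOf (Subgroup.centralizer ({y} : Set G))) =
        Nat.card ↥(Cfsg.centralizerPPrimeCore p x ⊓ Subgroup.centralizer {y}) :=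
        Nat.card_congr (Subgroup.subgroupOfEquivOfLe inf_le_right).toEquiv
      have h3 : Nat.card ↥(Cfsg.centralizerPPrimeCore p x ⊓ Subgroup.centralizer {y}) ∣
          Nat.card ↥(Cfsg.centralizerPPrimeCore p x) := Subgroup.card_dvd_of_le inf_le_left
      have h4 : (Nat.card ↥(Cfsg.centralizerPPrimeCore p x)).Coprime p := by
        have := Helper42.card_pPrimeCoreOf p (Subgroup.centralizer ({x} : Set G))
        unfold Helper42.pPrimeCoreOf at this
        unfold Cfsg.centralizerPPrimeCore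
        rw [this]
        exact Helper40.pPrimeCore_card_coprime' p _
      exact Nat.Coprime.coprime_dvd_left (h1.trans (h2 ▸ h3)) h4
  have hmem : (QuotientGroup.mk' (pPrimeCore p ↥(Subgroup.centralizer ({y} : Set G))))
      (⟨d, hd2⟩ : ↥(Subgroup.centralizer ({y} : Set G))) ∈ Helper42.pPrimeCoreOf p L :=
    hM ⟨⟨d, hd2⟩, by rw [SetLike.mem_coe, Subgroup.mem_subgroupOf]; exact hd, rfl⟩
  rw [hA0, Subgroup.mem_bot] at hmem
  have hdN : (⟨d, hd2⟩ : ↥(Subgroup.centralizer ({y} : Set G))) ∈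
      pPrimeCore p ↥(Subgroup.centralizer ({y} : Set G)) :=
    (QuotientGroup.eq_one_iff _).mp hmem
  exact ⟨⟨d, hd2⟩, hdN, rfl⟩

/-- Let `G` be a finite group, `p` a prime, and `x, y` commuting elements of order `p` whose centralizers `C_G(x)` and `C_G(y)` are both solvable. Then `O_{p'}(C_G(x)) ∩ C_G(y) = O_{p'}(C_G(y)) ∩ C_G(x)` (balance). -/
theorem result {G : Type*} [Group G] [Finite G]
    (p : ℕ) [Fact p.Prime] (x y : G) (hx : orderOf x = p) (hy : orderOf y = p) (hxy : x * y = y * x)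
    (hCx : Group.IsSolvable ↥(Subgroup.centralizer ({x} : Set G))) (hCy : Group.IsSolvable ↥(Subgroup.centralizer ({y} : Set G))) :
    Cfsg.centralizerPPrimeCore p x ⊓ Subgroup.centralizer {y} = Cfsg.centralizerPPrimeCore p y ⊓ Subgroup.centralizer {x} := by
  apply le_antisymm
  · refine le_inf (half p x y hx hxy hCy) ?_
    exact inf_le_left.trans (Subgroup.map_subtype_le _)
  · refine le_inf (half p y x hy hxy.symm hCx) ?_
    exact inf_le_left.trans (Subgroup.map_subtype_le _)

end Cfsg.Agent.S1958
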