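import Cfsg.Statements.S1966

set_option autoImplicit false
open Cfsg

namespace Cfsg.Agent.S1966

/-- Let p be a prime, G a finite group with Sylow p-subgroup S and 𝓕 a conjugation family for S in G. Then the members of 𝓕 containing O_p(G) still form a conjugation family for S in G. -/
theorem result {G : Type*} [Group G] [Finite G] {p : ℕ} [Fact p.Prime] (S : Sylow p G) (𝓕 : Set (Subgroup G)) (h : Cfsg.IsConjugationFamily 𝓕 (S : Subgroup G)) : Cfsg.IsConjugationFamily {T : Subgroup G | T ∈ 𝓕 ∧ Cfsg.pCore p G ≤ T} (S : Subgroup G) := by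
  have hRn : (Cfsg.pCore p G).Normal :=
    Subgroup.sSup_normal _ (fun N hN => hN.1)
  have hRS : Cfsg.pCore p G ≤ (S : Subgroup G) := by
    apply sSup_le
    rintro N ⟨hN1, hN2⟩
    haveI := hN1
    exact hN2.le_sylow_of_normal S
  have hRconj : ∀ (y : G) (r : G), r ∈ Cfsg.pCore p G → y * r * y⁻¹ ∈ Cfsg.pCore p G :=
    fun y r hr => hRn.conj_mem r hr y
  refine ⟨fun T hT => h.1 T hT.1, ?_⟩
  intro A g hne hAS hAg
  have hA'S : A ∪ (Cfsg.pCore p G : Set G) ⊆ ((S : Subgroup G) : Set G) :=
    Set.union_subset hAS (by exact_mod_cast hRS)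
  have hA'g : (fun a => g⁻¹ * a * g) '' (A ∪ (Cfsg.pCore p G : Set G)) ⊆ ((S : Subgroup G) : Set G) := by
    rintro _ ⟨a, ha | ha, rfl⟩
    · exact hAg ⟨a, ha, rfl⟩
    · apply hRS
      have := hRconj g⁻¹ a ha
      simpa using this
  obtain ⟨n, T, x, hprod, hT, hx, h0, hstep⟩ := h.2 _ g (hne.mono Set.subset_union_left) hA'S hA'g
  refine ⟨n, T, x, hprod, ?_, hx, fun hn => Set.subset_union_left.trans (h0 hn), ?_⟩
  · intro i
    refine ⟨hT i, ?_⟩
    obtain ⟨i, hi⟩ := i
    cases i with
    | zero =>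
      intro r hr
      exact h0 hi (Or.inr hr)
    | succ j =>
      intro r hr
      have hj : j < n := by omega
      have := hstep ⟨j, hj⟩ hi
      apply this
      set q := ((List.ofFn x).take (j + 1)).prod with hq
      refine ⟨q * r * q⁻¹, Or.inr (hRconj q r hr), ?_⟩
      show q⁻¹ * (q * r * q⁻¹) * q = r
      group
  · intro i hi
    exact (Set.image_mono Set.subset_union_left).trans (hstep i hi)

end Cfsg.Agent.S1966
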