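import Cfsg.Statements.S1967
import Cfsg.Agent.Lib.Helper41.Control

set_option autoImplicit false
open Cfsg

namespace Cfsg.Agent.S1967

/-- Let p be a prime, G a finite group with Sylow p-subgroup S and W a conjugacy functor for p on G. Then W controls strong fusion in G if and only if, whenever T ≤ S and g ∈ G satisfy gTg⁻¹ ≤ S, one can write g = n c with n ∈ N_G(W(S)) and c ∈ C_G(T). -/
theorem result {G : Type*} [Group G] [Finite G] {p : ℕ} [Fact p.Prime] (S : Sylow p G) (W : Subgroup G → Subgroup G) (hW : Cfsg.IsConjugacyFunctor p W) : Cfsg.ControlsStrongFusionIn p W ⊤ ↔ ∀ (T : Subgroup G) (g : G), T ≤ (S : Subgroup G) → T.map (MulAut.conj g).toMonoidHom ≤ (S : Subgroup G) → ∃ n ∈ Subgroup.normalizer ((W (S : Subgroup G) : Subgroup G) : Set G), ∃ c ∈ Subgroup.centralizer (T : Set G), g = n * c := by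
  constructor
  · intro hctl T g hTS hgT
    have hc := Cfsg.Agent.Lib.Helper41.ctrlAt_of_controls hW hctl (M := (S : Subgroup G)) le_top S.2
      (Cfsg.Agent.Lib.Helper41.sylow_relIndex_top S)
    have hsub : (fun a => g * a * g⁻¹) '' (T : Set G) ⊆ ((S : Subgroup G) : Set G) := by
      rintro _ ⟨t, ht, rfl⟩
      exact hgT (Cfsg.Agent.Lib.Helper41.conj_mem_lc ht)
    obtain ⟨x, hx, hxa⟩ := hc (T : Set G) g (Subgroup.mem_top g) (by exact_mod_cast hTS) hsub
    refine ⟨x, (Subgroup.mem_inf.mp hx).2, x⁻¹ * g, ?_, by group⟩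
    rw [Subgroup.mem_centralizer_iff]
    intro t ht
    have := hxa t ht
    calc t * (x⁻¹ * g) = x⁻¹ * (x * t * x⁻¹) * g := by group
    _ = x⁻¹ * (g * t * g⁻¹) * g := by rw [this]
    _ = x⁻¹ * g * t := by group
  · intro h
    refine ⟨S, le_top, S.2, Cfsg.Agent.Lib.Helper41.sylow_relIndex_top S, ?_⟩
    intro A g _ hAS hgA
    have hcl : Subgroup.closure A ≤ (S : Subgroup G) := (Subgroup.closure_le _).mpr hAS
    have hcl' : (Subgroup.closure A).map (MulAut.conj g).toMonoidHom ≤ (S : Subgroup G) := by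
      rw [Cfsg.Agent.Lib.Helper41.lc_le_iff, Subgroup.closure_le]
      intro a ha
      rw [SetLike.mem_coe, Cfsg.Agent.Lib.Helper41.mem_lc, inv_inv]
      exact hgA ⟨a, ha, rfl⟩
    obtain ⟨n, hn, c, hc, rfl⟩ := h _ g hcl hcl'
    refine ⟨n, Subgroup.mem_inf.mpr ⟨Subgroup.mem_top n, hn⟩, fun a ha => ?_⟩
    rw [Subgroup.mem_centralizer_iff] at hc
    have := hc a (Subgroup.subset_closure ha)
    calc n * a * n⁻¹ = n * (a * c) * c⁻¹ * n⁻¹ := by group
    _ = n * (c * a) * c⁻¹ * n⁻¹ := by rw [this]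
    _ = n * c * a * (n * c)⁻¹ := by group

end Cfsg.Agent.S1967
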