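import Cfsg.Statements.S1968
import Cfsg.Agent.Lib.Helper41.Control

set_option autoImplicit false
open Cfsg

namespace Cfsg.Agent.S1968

open Cfsg.Agent.Lib.Helper41 in
theorem first_move {G : Type*} [Group G] {𝓕 : Set (Subgroup G)} {A : Set G}
    {L : List (Subgroup G × G)} (hL : Chain 𝓕 A L)
    (hne : rconj (L.map Prod.snd).prod A ≠ A) :
    ∃ T ∈ 𝓕, ∃ x ∈ Subgroup.normalizer (T : Set G), A ⊆ T ∧ rconj x A ≠ A := by
  induction L with
  | nil => simp at hne
  | cons b L ih =>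
    obtain ⟨T, x⟩ := b
    obtain ⟨h1, h2, h3, h4⟩ := hL
    by_cases hx : rconj x A = A
    · rw [hx] at h4
      apply ih h4
      simpa [rconj_mul, hx] using hne
    · exact ⟨T, h1, x, h2, h3, hx⟩


/-- Let p be a prime, G a finite group with Sylow p-subgroup S and W a conjugacy functor for p on G with Z(P) ≤ W(P) for every p-subgroup P. Let A be a subgroup of Z(S) normalized by N_G(W(S)) that is not weakly closed in S with respect to G. Then there is a subgroup T of S, well placed in S with respect to W, such that: A ≤ T; N_G(W(N_S(T))) normalizes A; N_S(T) is a Sylow p-subgroup of N_G(T); A ≤ Z(N_S(T)); and A is not weakly closed in N_S(T) with respect to N_G(T), that is, some N_G(T)-conjugate of A other than A lies in N_S(T). -/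
theorem result {G : Type*} [Group G] [Finite G] {p : ℕ} [Fact p.Prime] (S : Sylow p G) (W : Subgroup G → Subgroup G) (hW : Cfsg.IsConjugacyFunctor p W) (hWZ : ∀ P : Subgroup G, IsPGroup p ↥P → P ⊓ Subgroup.centralizer (P : Set G) ≤ W P) (A : Subgroup G) (hAZ : A ≤ (S : Subgroup G) ⊓ Subgroup.centralizer ((S : Subgroup G) : Set G)) (hAN : Subgroup.normalizer ((W (S : Subgroup G) : Subgroup G) : Set G) ≤ Subgroup.normalizer ((A : Subgroup G) : Set G)) (hnwc : ¬ Cfsg.IsWeaklyClosed A (S : Subgroup G)) : ∃ T : Subgroup G, Cfsg.IsWellPlaced p W (S : Subgroup G) T ∧ A ≤ T ∧ Subgroup.normalizer ((W ((S : Subgroup G) ⊓ Subgroup.normalizer ((T : Subgroup G) : Set G)) : Subgroup G) : Set G) ≤ Subgroup.normalizer ((A : Subgroup G) : Set G) ∧ ¬ p ∣ ((S : Subgroup G) ⊓ Subgroup.normalizer ((T : Subgroup G) : Set G)).relIndex (Subgroup.normalizer ((T : Subgroup G) : Set G)) ∧ A ≤ Subgroup.centralizer (((S : Subgroup G) ⊓ Subgroup.normalizer ((T : Subgroup G) : Set G) :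 Subgroup G) : Set G) ∧ ∃ g ∈ Subgroup.normalizer ((T : Subgroup G) : Set G), A.map (MulAut.conj g).toMonoidHom ≤ (S : Subgroup G) ⊓ Subgroup.normalizer ((T : Subgroup G) : Set G) ∧ A.map (MulAut.conj g).toMonoidHom ≠ A := by
  classical
  have hSp : IsPGroup p (S : Subgroup G) := S.2
  have hAS : A ≤ (S : Subgroup G) := hAZ.trans inf_le_left
  have hAC : A ≤ Subgroup.centralizer ((S : Subgroup G) : Set G) := hAZ.trans inf_le_right
  -- a conjugate of A in S different from A
  have hex : ∃ g : G, A.map (MulAut.conj g).toMonoidHom ≤ (S : Subgroup G) ∧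
      A.map (MulAut.conj g).toMonoidHom ≠ A := by
    by_contra hcon
    push Not at hcon
    exact hnwc ⟨hAS, hcon⟩
  obtain ⟨g, hgS, hgne⟩ := hex
  have hreach := Cfsg.Agent.Lib.Helper41.alperin_reach S
    {T : Subgroup G | Cfsg.IsWellPlaced p W (S : Subgroup G) T}
    (fun U hU => hU.1) (by
      intro T hT
      obtain ⟨g, hg⟩ := Cfsg.Agent.Lib.Helper41.exists_wellPlaced_lc hW S hT
      exact ⟨_, hg, ⟨g, rfl⟩, hg.2 0⟩)
  have hr := hreach A hAS g⁻¹ (by rw [inv_inv]; exact hgS)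
  obtain ⟨L, hL, hprod⟩ := hr
  have hne' : Cfsg.Agent.Lib.Helper41.rconj (L.map Prod.snd).prod (A : Set G) ≠ (A : Set G) := by
    rw [hprod, Cfsg.Agent.Lib.Helper41.rconj_coe, inv_inv]
    intro h
    exact hgne (SetLike.coe_injective h)
  obtain ⟨T₀, hT₀, x, hx, hAT₀, hxA⟩ := first_move hL hne'
  have hAT₀' : A ≤ T₀ := by exact_mod_cast hAT₀
  -- N(T₀) is not contained in N(A)
  have hnot0 : ¬ Subgroup.normalizer ((T₀ : Subgroup G) : Set G) ≤
      Subgroup.normalizer ((A : Subgroup G) : Set G) := by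
    intro hle
    apply hxA
    exact Cfsg.Agent.Lib.Helper41.rconj_eq_of_mem_normalizer (hle hx)
  -- all terms of the tower contain A
  have hAtower : ∀ i, A ≤ Cfsg.functorTower W (S : Subgroup G) T₀ i := by
    intro i
    induction i with
    | zero => exact hAT₀'
    | succ i ih =>
      rw [Cfsg.Agent.Lib.Helper41.tower_succ]
      refine le_trans ?_ (hWZ _ hSp.to_inf_left)
      refine le_inf (ih.trans (Cfsg.Agent.Lib.Helper41.le_NS
        (Cfsg.Agent.Lib.Helper41.tower_le hW hSp hT₀.1 i))) ?_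
      exact hAC.trans (Subgroup.centralizer_le (by exact_mod_cast (inf_le_left :
        Cfsg.Agent.Lib.Helper41.NS (S : Subgroup G) (Cfsg.functorTower W (S : Subgroup G) T₀ i) ≤ (S : Subgroup G))))
  obtain ⟨i₀, hi₀⟩ := Cfsg.Agent.Lib.Helper41.tower_eventually hW hSp T₀
  have hP : ∃ j, Subgroup.normalizer ((Cfsg.functorTower W (S : Subgroup G) T₀ j : Subgroup G) : Set G) ≤
      Subgroup.normalizer ((A : Subgroup G) : Set G) := ⟨i₀ + 1, by rw [hi₀]; exact hAN⟩
  have hjmin : ∀ m, m < Nat.find hP → ¬ _ := fun m hm => Nat.find_min hP hm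
  have hjspec := Nat.find_spec hP
  generalize Nat.find hP = j at hjmin hjspec
  have hjpos : j ≠ 0 := by
    intro h0
    rw [h0] at hjspec
    exact hnot0 hjspec
  obtain ⟨i, rfl⟩ : ∃ i, j = i + 1 := Nat.exists_eq_succ_of_ne_zero hjpos
  have hnoti := hjmin i (Nat.lt_succ_self i)
  have hwp := Cfsg.Agent.Lib.Helper41.wellPlaced_tower hW hSp hT₀ i
  refine ⟨Cfsg.functorTower W (S : Subgroup G) T₀ i, hwp, hAtower i, hjspec, hwp.2 0, ?_, ?_⟩
  · exact hAC.trans (Subgroup.centralizer_le (by exact_mod_cast (inf_le_left :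
      Cfsg.Agent.Lib.Helper41.NS (S : Subgroup G) (Cfsg.functorTower W (S : Subgroup G) T₀ i) ≤ (S : Subgroup G))))
  · obtain ⟨y, hy1, hy2⟩ := SetLike.not_le_iff_exists.mp hnoti
    refine ⟨y, hy1, ?_, ?_⟩
    · refine le_trans (Cfsg.Agent.Lib.Helper41.lc_mono (hAtower i)) ?_
      rw [Cfsg.Agent.Lib.Helper41.mem_normalizer_iff_lc.mp hy1]
      exact Cfsg.Agent.Lib.Helper41.le_NS (Cfsg.Agent.Lib.Helper41.tower_le hW hSp hT₀.1 i)
    · intro h
      exact hy2 (Cfsg.Agent.Lib.Helper41.mem_normalizer_iff_lc.mpr h)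

end Cfsg.Agent.S1968
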