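import Cfsg.Statements.S1969
import Cfsg.Agent.Lib.Helper41.SecFusionMain

set_option autoImplicit false
universe u
open Cfsg

namespace Cfsg.Agent.S1969

open Cfsg.Agent.Lib.Helper41 in
theorem fchain_prod_mem {G : Type*} [Group G] {K : Set G} {M N : Subgroup G} (hK : K ⊆ N) :
    ∀ (L : List G) (A : Set G), FChain K M A L → L.prod ∈ N := by
  intro L
  induction L with
  | nil => intro A _; simpa using N.one_mem
  | cons y L ih =>
    intro A h
    rw [List.prod_cons]
    exact N.mul_mem (hK h.2.1) (ih _ h.2.2)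


/-- Let p be a prime, G a finite group and W an isomorphism-invariant p-group functor (W assigns to every group Q a subgroup W(Q), nontrivial whenever Q is a nontrivial finite p-group, and every isomorphism from a finite p-group Q onto a group R carries W(Q) onto W(R)). Suppose that W(S*) is normal in G* whenever G* = K/R is a section of G with C_{G*}(O_p(G*)) ≤ O_p(G*) and S* is a Sylow p-subgroup of G*. Then W controls strong fusion in every section of G: for every section K/R and every Sylow p-subgroup T of K/R, the subgroup W(T) controls strong fusion in K/R. -/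
theorem result {G : Type u} [Group G] [Finite G] {p : ℕ} [Fact p.Prime] (W : ∀ (Q : Type u) [Group Q], Subgroup Q) (hW : Cfsg.IsCharPFunctor.{u} p W) (hloc : ∀ (K R : Subgroup G) [hR : (R.subgroupOf K).Normal], Subgroup.centralizer ((Cfsg.pCore p (↥K ⧸ R.subgroupOf K) : Subgroup (↥K ⧸ R.subgroupOf K)) : Set (↥K ⧸ R.subgroupOf K)) ≤ Cfsg.pCore p (↥K ⧸ R.subgroupOf K) → ∀ T : Sylow p (↥K ⧸ R.subgroupOf K), (Cfsg.inducedFunctor (G := (↥K ⧸ R.subgroupOf K)) W ((T : Subgroup (↥K ⧸ R.subgroupOf K)))).Normal) : ∀ (K R : Subgroup G) [hR : (R.subgroupOf K).Normal], ∀ T : Sylow p (↥K ⧸ R.subgroupOf K), Cfsg.ControlsStrongFusion p (Cfsg.inducedFunctor (G := (↥K ⧸ R.subgroupOf K)) W ((T : Subgroup (↥K ⧸ R.subgroupOf K)))) := by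
  have h𝓦 : ∀ W' ∈ ({W} : Set (∀ (Q : Type u) [Group Q], Subgroup Q)), Cfsg.IsCharPFunctor.{u} p W' := by
    intro W' hW'
    rw [Set.mem_singleton_iff.mp hW']; exact hW
  have hsec : Cfsg.Agent.Lib.Helper41.SecAll (Cfsg.Agent.Lib.Helper41.ConstrainedF p {W}) G := by
    intro K R hR hcon
    obtain ⟨T⟩ : Nonempty (Sylow p (↥K ⧸ R.subgroupOf K)) := inferInstance
    have hn := hloc K R hcon T
    have hNtop : Subgroup.normalizer ((Cfsg.inducedFunctor (G := (↥K ⧸ R.subgroupOf K)) W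
        (T : Subgroup (↥K ⧸ R.subgroupOf K)) : Subgroup (↥K ⧸ R.subgroupOf K)) :
          Set (↥K ⧸ R.subgroupOf K)) = ⊤ := Subgroup.normalizer_eq_top_iff.mpr hn
    refine ⟨T, le_top, T.2, Cfsg.Agent.Lib.Helper41.sylow_relIndex_top T, fun A h _ hA hhA => ?_⟩
    refine ⟨1, fun i => if i = 0 then 1 else h, by simp, ?_, ?_, ?_⟩
    · intro i
      refine ⟨Cfsg.inducedFunctor (G := (↥K ⧸ R.subgroupOf K)) W, ⟨W, rfl, rfl⟩, ?_⟩
      rw [hNtop]
      exact ⟨trivial, trivial⟩
    · intro i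
      by_cases hi : i = 0
      · simp only [hi, if_true]
        rintro _ ⟨a, ha, rfl⟩
        simpa using hA ha
      · simp only [hi, if_false]
        exact hhA
    · intro a _
      have : (Fin.last 1) ≠ 0 := by decide
      simp only [this, if_false]
  intro K R hR T
  have hgood := Cfsg.Agent.Lib.Helper41.secF_main h𝓦 G hsec K R
  have hFC := Cfsg.Agent.Lib.Helper41.fctrlAt_of_controls
    (Cfsg.Agent.Lib.Helper41.isConjugacyFunctor_indFam h𝓦 (↥K ⧸ R.subgroupOf K)) hgood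
    (M := (T : Subgroup (↥K ⧸ R.subgroupOf K))) le_top T.2
    (Cfsg.Agent.Lib.Helper41.sylow_relIndex_top T)
  refine ⟨T, Cfsg.Agent.Lib.Helper41.inducedFunctor_le W _, fun A hA => ⟨hA, fun g hg => ?_⟩⟩
  have hg' : Cfsg.Agent.Lib.Helper41.rconj g⁻¹ A ⊆ ((T : Subgroup (↥K ⧸ R.subgroupOf K)) : Set (↥K ⧸ R.subgroupOf K)) := by
    rw [← Cfsg.Agent.Lib.Helper41.image_conj_eq_rconj]; exact hg
  obtain ⟨L, hL, hag⟩ := hFC A g⁻¹ trivial hA hg'
  have hKN : Cfsg.Agent.Lib.Helper41.stepSet (Cfsg.Agent.Lib.Helper41.indFam {W} (↥K ⧸ R.subgroupOf K)) ⊤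
      (T : Subgroup (↥K ⧸ R.subgroupOf K)) ⊆
      (Subgroup.normalizer ((Cfsg.inducedFunctor (G := (↥K ⧸ R.subgroupOf K)) W
        (T : Subgroup (↥K ⧸ R.subgroupOf K)) : Subgroup (↥K ⧸ R.subgroupOf K)) :
          Set (↥K ⧸ R.subgroupOf K)) : Subgroup (↥K ⧸ R.subgroupOf K)) := by
    rintro y ⟨_, ⟨W', hW', rfl⟩, hy⟩
    rw [Set.mem_singleton_iff.mp hW'] at hy
    exact hy.2
  have hmem := fchain_prod_mem hKN L A hL
  refine ⟨L.prod⁻¹, Subgroup.inv_mem _ hmem, fun a ha => ?_⟩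
  have := hag a ha
  simp only [inv_inv] at this ⊢
  exact this.symm

end Cfsg.Agent.S1969
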