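import Cfsg.Statements.S2007
import Cfsg.Agent.Lib.Helper41.NPC

set_option autoImplicit false
open Cfsg

namespace Cfsg.Agent.S2007

/-- Let p be a prime, G a finite group with Sylow p-subgroup S, and T a normal subgroup of S containing C_S(T). If N_G(T)/C_G(T) is a p-group (every element of N_G(T) of order prime to p centralizes T), then N_G(T) has a normal p-complement. -/
theorem result {G : Type*} [Group G] [Finite G] {p : ℕ} [Fact p.Prime] (S : Sylow p G) (T : Subgroup G) (hTS : T ≤ (S : Subgroup G)) (hTn : (S : Subgroup G) ≤ Subgroup.normalizer ((T : Subgroup G) : Set G)) (hC : (S : Subgroup G) ⊓ Subgroup.centralizer ((T : Subgroup G) : Set G) ≤ T) (hN : ∀ g ∈ Subgroup.normalizer ((T : Subgroup G) : Set G), (orderOf g).Coprime p → g ∈ Subgroup.centralizer ((T : Subgroup G) : Set G)) : Cfsg.HasNormalPComplement p ↥(Subgroup.normalizer ((T : Subgroup G) : Set G)) := by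
  haveI : (T.subgroupOf (Subgroup.normalizer (T : Set G))).Normal := Subgroup.normal_in_normalizer
  have hTN : T ≤ Subgroup.normalizer (T : Set G) := Subgroup.le_normalizer
  refine Cfsg.Agent.Lib.Helper41.hasNormalPComplement_of_centric_normal (S.subtype hTn)
    (T.subgroupOf (Subgroup.normalizer (T : Set G))) ?_ ?_
  · intro x hx
    rw [Subgroup.mem_inf] at hx
    obtain ⟨hx1, hx2⟩ := hx
    rw [Subgroup.mem_subgroupOf]
    apply hC
    refine Subgroup.mem_inf.mpr ⟨?_, ?_⟩
    · have : x ∈ (S : Subgroup G).subgroupOf (Subgroup.normalizer (T : Set G)) := hx1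
      exact Subgroup.mem_subgroupOf.mp this
    · rw [Subgroup.mem_centralizer_iff] at hx2 ⊢
      intro t ht
      have := hx2 ⟨t, hTN ht⟩ (Subgroup.mem_subgroupOf.mpr ht)
      exact congrArg Subtype.val this
  · intro g hg
    have hg' : (orderOf (g : G)).Coprime p := by rwa [Subgroup.orderOf_coe]
    have hgC := hN g g.2 hg'
    rw [Subgroup.mem_centralizer_iff] at hgC ⊢
    intro t ht
    apply Subtype.ext
    exact hgC t (Subgroup.mem_subgroupOf.mp ht)

end Cfsg.Agent.S2007
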