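import Cfsg.Statements.S1988
import Cfsg.Agent.S2005
import Cfsg.Agent.S2007
import Cfsg.Agent.Lib.Helper14.KInfCoatom
import Cfsg.Agent.Lib.Helper41.KInfMax

set_option autoImplicit false
universe u
open Cfsg

namespace Cfsg.Agent.S1988

/-- Let p be an odd prime, G a finite group with Sylow p-subgroup S and K the lower K-infinity subgroup of S. If N_G(K) has a normal p-complement, or if N_G(K)/C_G(K) is a p-group (every element of N_G(K) of order prime to p centralizes K), then G has a normal p-complement. -/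
theorem result {G : Type u} [Group G] [Finite G] {p : ℕ} [Fact p.Prime] (hp : p ≠ 2) (S : Sylow p G) (h : Cfsg.HasNormalPComplement p ↥(Subgroup.normalizer ((Cfsg.inducedFunctor Cfsg.kInfLower (S : Subgroup G) : Subgroup G) : Set G)) ∨ ∀ g ∈ Subgroup.normalizer ((Cfsg.inducedFunctor Cfsg.kInfLower (S : Subgroup G) : Subgroup G) : Set G), (orderOf g).Coprime p → g ∈ Subgroup.centralizer ((Cfsg.inducedFunctor Cfsg.kInfLower (S : Subgroup G) : Subgroup G) : Set G)) : Cfsg.HasNormalPComplement p G := by
  have hW : Cfsg.IsCharPFunctor.{u} p Cfsg.kInfLower :=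
    Cfsg.Agent.Lib.Helper16.KComm.isCharPFunctor_kInfLower.{u} p
  have hSp : IsPGroup p ↥(S : Subgroup G) := S.isPGroup'
  have hN : Cfsg.HasNormalPComplement p ↥(Subgroup.normalizer
      ((Cfsg.inducedFunctor Cfsg.kInfLower (S : Subgroup G) : Subgroup G) : Set G)) := by
    rcases h with h | h
    · exact h
    · refine Cfsg.Agent.S2007.result S _ ?_ ?_ ?_ h
      · exact Subgroup.map_subtype_le _
      · exact Subgroup.le_normalizer.trans
          (Cfsg.Agent.Lib.Helper41.le_normalizer_inducedFunctor Cfsg.kInfLower hW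
            (S : Subgroup G) hSp)
      · rintro x ⟨hxS, hxC⟩
        have hnil : Group.IsNilpotent ↥(S : Subgroup G) := hSp.isNilpotent
        have h1 := (Cfsg.Agent.Lib.Helper41.centralizer_kInf_le (P := ↥(S : Subgroup G))).1
        refine ⟨⟨x, hxS⟩, h1 ?_, rfl⟩
        rw [Subgroup.mem_centralizer_iff]
        intro y hy
        apply Subtype.ext
        have hy' : (y : G) ∈ Cfsg.inducedFunctor Cfsg.kInfLower (S : Subgroup G) := ⟨y, hy, rfl⟩
        exact Subgroup.mem_centralizer_iff.mp hxC (y : G) hy'
  exact Cfsg.Agent.S2005.result Cfsg.kInfLower hW S hN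
    (fun K R hR hcen hq T hT =>
      Cfsg.Agent.Lib.Helper14.KInfCoatom.kInf_normal_of_coatom hp hcen hq T hT)

end Cfsg.Agent.S1988
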