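import Cfsg.Statements.S1990
import Cfsg.Agent.S2005
import Cfsg.Agent.Lib.Lead.QuadStable
import Cfsg.Agent.Lib.Lead.CoatomSection

set_option autoImplicit false
universe u
open Cfsg

namespace Cfsg.Agent.S1990

/-- Let p be an odd prime, G a finite group with Sylow p-subgroup S, and W an isomorphism-invariant p-group functor (W assigns to every group Q a subgroup W(Q), nontrivial whenever Q is a nontrivial finite p-group, and every isomorphism from a finite p-group Q onto a group R carries W(Q) onto W(R)). Suppose N_G(W(S)) has a normal p-complement, and W(T) controls strong fusion in every section G* = K/R of G all of whose sections are p-stable in the normalizer form, for every Sylow p-subgroup T of G*. Then G has a normal p-complement. -/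
theorem result {G : Type u} [Group G] [Finite G] {p : ℕ} [Fact p.Prime] (hp : p ≠ 2) (W : ∀ (Q : Type u) [Group Q], Subgroup Q) (hW : Cfsg.IsCharPFunctor.{u} p W) (S : Sylow p G) (hN : Cfsg.HasNormalPComplement p ↥(Subgroup.normalizer ((Cfsg.inducedFunctor (G := G) W (S : Subgroup G) : Subgroup G) : Set G))) (hctl : ∀ (K R : Subgroup G) [hR : (R.subgroupOf K).Normal], (∀ (K' R' : Subgroup (↥K ⧸ R.subgroupOf K)) [hR' : (R'.subgroupOf K').Normal], Cfsg.IsNormalizerPStable p (↥K' ⧸ R'.subgroupOf K')) → ∀ T : Sylow p (↥K ⧸ R.subgroupOf K), Cfsg.ControlsStrongFusion p (Cfsg.inducedFunctor (G := (↥K ⧸ R.subgroupOf K)) W (T : Subgroup (↥K ⧸ R.subgroupOf K)))) : Cfsg.HasNormalPComplement p G := by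
  classical
  have hpp : p.Prime := Fact.out
  apply Cfsg.Agent.S2005.result W hW S hN
  intro K R hR hc hq T hT
  haveI : Fact (Nat.Prime 2) := ⟨Nat.prime_two⟩
  haveI hHn : (Cfsg.pCore p (↥K ⧸ R.subgroupOf K)).Normal := Cfsg.Agent.Lib.Helper81.pCore_normal p
  -- Step A: Sylow 2-subgroups of the section are abelian
  obtain ⟨D⟩ : Nonempty (Sylow 2 (↥K ⧸ R.subgroupOf K)) := inferInstance
  have hD : IsMulCommutative D := Cfsg.Agent.Lib.Lead.sylow_two_comm_of_coatom p hp hq T hT D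
  -- Step B: all sections are p-stable
  have hst : ∀ (K' R' : Subgroup (↥K ⧸ R.subgroupOf K)) [hR' : (R'.subgroupOf K').Normal],
      Cfsg.IsNormalizerPStable p (↥K' ⧸ R'.subgroupOf K') := by
    intro K' R' hR'
    obtain ⟨D1⟩ : Nonempty (Sylow 2 K') := inferInstance
    have hD1 : IsMulCommutative D1 :=
      Cfsg.Agent.Lib.Helper52.sylow_two_comm_of_injective K'.subtype K'.subtype_injective D1 D hD
    obtain ⟨D2⟩ : Nonempty (Sylow 2 (↥K' ⧸ R'.subgroupOf K')) := inferInstance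
    have hD2 : IsMulCommutative D2 :=
      Cfsg.Agent.Lib.Helper52.sylow_two_comm_of_surjective (QuotientGroup.mk' (R'.subgroupOf K'))
        (QuotientGroup.mk'_surjective _) D1 hD1 D2
    exact Cfsg.Agent.Lib.Lead.isNormalizerPStable_of_sylow_two_comm D2 hD2 p hp
  obtain ⟨T', hWT', hctl'⟩ := hctl K R hst T
  -- Step C: control of strong fusion of O_p forces W(T) normal
  set H := Cfsg.pCore p (↥K ⧸ R.subgroupOf K) with hH
  have hHT' : (H : Set (↥K ⧸ R.subgroupOf K)) ⊆ ((T' : Subgroup (↥K ⧸ R.subgroupOf K)) : Set _) :=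
    Cfsg.Agent.Lib.Helper53.pCore_le_sylow T'
  have hHT : H ≤ (T : Subgroup (↥K ⧸ R.subgroupOf K)) := Cfsg.Agent.Lib.Helper53.pCore_le_sylow T
  obtain ⟨-, hfus⟩ := hctl' (H : Set (↥K ⧸ R.subgroupOf K)) hHT'
  set WT : Subgroup (↥K ⧸ R.subgroupOf K) := Cfsg.inducedFunctor (G := (↥K ⧸ R.subgroupOf K)) W
        (T : Subgroup (↥K ⧸ R.subgroupOf K)) with hWTdef
  have hTN : (T : Subgroup (↥K ⧸ R.subgroupOf K)) ≤ Subgroup.normalizer (WT : Set (↥K ⧸ R.subgroupOf K)) :=
    le_trans Subgroup.le_normalizer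
      (Cfsg.Agent.Lib.Helper53.normalizer_le_normalizer_inducedFunctor hW T.2)
  have htop : Subgroup.normalizer (WT : Set (↥K ⧸ R.subgroupOf K)) = ⊤ := by
    rw [eq_top_iff]
    intro g _
    have hsub : (fun a => g * a * g⁻¹) '' (H : Set (↥K ⧸ R.subgroupOf K)) ⊆
        ((T' : Subgroup (↥K ⧸ R.subgroupOf K)) : Set _) := by
      rintro _ ⟨a, ha, rfl⟩
      exact hHT' (hHn.conj_mem a ha g)
    obtain ⟨x, hx, hxa⟩ := hfus g hsub
    have hcen : x⁻¹ * g ∈ Subgroup.centralizer (H : Set (↥K ⧸ R.subgroupOf K)) := by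
      rw [Subgroup.mem_centralizer_iff]
      intro a ha
      have h1 := hxa a ha
      -- g a g⁻¹ = x a x⁻¹  ⇒  a (x⁻¹ g) = (x⁻¹ g) a
      have h2 : x⁻¹ * (g * a * g⁻¹) * g = x⁻¹ * (x * a * x⁻¹) * g := by rw [h1]
      calc a * (x⁻¹ * g) = x⁻¹ * (x * a * x⁻¹) * g := by group
        _ = x⁻¹ * (g * a * g⁻¹) * g := h2.symm
        _ = x⁻¹ * g * a := by group
    have h3 : x⁻¹ * g ∈ Subgroup.normalizer (WT : Set (↥K ⧸ R.subgroupOf K)) :=
      hTN (hHT (hc hcen))
    have : g = x * (x⁻¹ * g) := by group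
    rw [this]
    exact Subgroup.mul_mem _ hx h3
  exact Subgroup.normalizer_eq_top_iff.mp htop

end Cfsg.Agent.S1990
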