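import Cfsg.Statements.S1993
import Cfsg.Agent.S2795
import Cfsg.Agent.S1972
import Cfsg.Agent.Lib.Helper02.KStar3
import Cfsg.Agent.Lib.Helper41.TransferCtl
import Cfsg.Agent.Lib.Helper41.SecTransport

set_option autoImplicit false
universe u
open Cfsg

namespace Cfsg.Agent.S1993

/-- the local hypothesis of `S1972.result` for `K^∞` and `p ≥ 5` -/
theorem hloc_kInfUpper {G : Type u} [Group G] [Finite G] {p : ℕ} [Fact p.Prime] (hp : 5 ≤ p) :
    ∀ (K R : Subgroup G) [hR : (R.subgroupOf K).Normal], Subgroup.centralizer ((Cfsg.pCore p (↥K ⧸ R.subgroupOf K) : Subgroup (↥K ⧸ R.subgroupOf K)) : Set (↥K ⧸ R.subgroupOf K)) ≤ Cfsg.pCore p (↥K ⧸ R.subgroupOf K) → ∀ T : Sylow p (↥K ⧸ R.subgroupOf K), ¬ (Cfsg.inducedFunctor (G := (↥K ⧸ R.subgroupOf K)) Cfsg.kInfUpper ((T : Subgroup (↥K ⧸ R.subgroupOf K)))).Normal → ∃ g : (↥K ⧸ R.subgroupOf K), g ∈ (T : Subgroup (↥K ⧸ R.subgroupOf K)) ∧ g ∉ Cfsg.pCore p (↥K ⧸ R.subgroupOf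 K) ∧ ∀ U V : Subgroup (↥K ⧸ R.subgroupOf K), Cfsg.IsChiefFactor U V → U ≤ Cfsg.pCore p (↥K ⧸ R.subgroupOf K) → Cfsg.iterCommutator U (Subgroup.zpowers g) (p - 1) ≤ V := by
  intro K R _ _ T hnn
  obtain ⟨g, hgT, hgO, h4⟩ := Cfsg.Agent.Lib.Helper16.KComm.kinf_four_upper T hnn
  refine ⟨g, hgT, hgO, fun U V hUV hU => ?_⟩
  have hVn : V.Normal := hUV.2.2.1
  exact Cfsg.Agent.Lib.Helper16.KComm.iter_le_of_le
    (Cfsg.Agent.Lib.Helper16.KComm.le_normalizer_of_normal _ V) (h4 U V hUV hU) (by omega)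

/-- `K^∞` controls transfer for `p ≥ 5` -/
theorem controlsTransfer_kInfUpper {G : Type u} [Group G] [Finite G] {p : ℕ} [Fact p.Prime] (hp : 5 ≤ p) : Cfsg.ControlsTransferIn p (Cfsg.inducedFunctor (G := G) Cfsg.kInfUpper) ⊤ := by
  have hW : Cfsg.IsCharPFunctor.{u} p Cfsg.kInfUpper :=
    Cfsg.Agent.Lib.Helper16.KComm.isCharPFunctor_kInfUpper p
  have hbn : ((⊥ : Subgroup G).subgroupOf (⊤ : Subgroup G)).Normal := by
    rw [Subgroup.bot_subgroupOf]
    infer_instance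
  have h := Cfsg.Agent.S1972.result (G := G) (p := p) Cfsg.kInfUpper hW (hloc_kInfUpper hp)
    (⊤ : Subgroup G) (⊥ : Subgroup G)
  have hb : (⊥ : Subgroup G).subgroupOf (⊤ : Subgroup G) = ⊥ := Subgroup.bot_subgroupOf _
  let e : (↥(⊤ : Subgroup G) ⧸ (⊥ : Subgroup G).subgroupOf (⊤ : Subgroup G)) ≃* G :=
    ((QuotientGroup.quotientMulEquivOfEq hb).trans (QuotientGroup.quotientBot)).trans
      Subgroup.topEquiv
  exact Cfsg.Agent.Lib.Helper41.controlsTransferIn_top_of_equiv Cfsg.kInfUpper hW e h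


/-- Let p be a prime, G a finite group with Sylow p-subgroup S, and K the upper K-infinity subgroup of S. If p ≥ 5 then S ∩ G' = S ∩ (N_G(K))'; and if p is odd and every section of G is p-stable in the normalizer form, then K controls strong fusion in G. -/
theorem result {G : Type u} [Group G] [Finite G] {p : ℕ} [Fact p.Prime] (S : Sylow p G) : (5 ≤ p → (S : Subgroup G) ⊓ commutator G = (S : Subgroup G) ⊓ ⁅Subgroup.normalizer ((Cfsg.inducedFunctor Cfsg.kInfUpper (S : Subgroup G) : Subgroup G) : Set G), Subgroup.normalizer ((Cfsg.inducedFunctor Cfsg.kInfUpper (S : Subgroup G) : Subgroup G) : Set G)⁆) ∧ (p ≠ 2 → (∀ (K R : Subgroup G) [hR : (R.subgroupOf K).Normal], Cfsg.IsNormalizerPStable p (↥K ⧸ R.subgroupOf K)) → Cfsg.ControlsStrongFusion p (Cfsg.inducedFunctor Cfsg.kInfUpper (S : Subgroup G))) := by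
  have hW : Cfsg.IsCharPFunctor.{u} p Cfsg.kInfUpper :=
    Cfsg.Agent.Lib.Helper16.KComm.isCharPFunctor_kInfUpper p
  refine ⟨fun hp5 => ?_, fun hp hst => ?_⟩
  · have h := Cfsg.Agent.Lib.Helper41.transAt_of_controls
      (Cfsg.Agent.Lib.Helper41.isConjugacyFunctor_inducedFunctor Cfsg.kInfUpper hW G)
      (controlsTransfer_kInfUpper (G := G) hp5) (M := (S : Subgroup G)) le_top S.isPGroup'
      (Cfsg.Agent.Lib.Helper41.sylow_relIndex_top S)
    unfold Cfsg.Agent.Lib.Helper41.TransAt at h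
    rw [top_inf_eq] at h
    rw [commutator_def]
    exact h
  · have hfree : ¬ Cfsg.Involves ↥(Cfsg.qd p) G := (Cfsg.Agent.S2795.result hp).mpr hst
    exact Cfsg.Agent.Lib.Helper02.KStar.controlsStrongFusion_of_free hfree Cfsg.kInfUpper hW
      (fun X _ _ hX hc T => Cfsg.Agent.Lib.Helper02.KStar.kInfUpper_normal hp hX hc T) S

end Cfsg.Agent.S1993
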