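import Cfsg.Statements.S1995
import Cfsg.Agent.Lib.Helper41.SecTransferMain

set_option autoImplicit false
universe u
open Cfsg

namespace Cfsg.Agent.S1995

/-- Let p be a prime, G a finite group and 𝓦 a set of isomorphism-invariant p-group functors (W assigns to every group Q a subgroup W(Q), nontrivial whenever Q is a nontrivial finite p-group, and every isomorphism from a finite p-group Q onto a group R carries W(Q) onto W(R)). If the conjugacy functors induced by 𝓦 control transfer in every section G* = K/R of G with C_{G*}(O_p(G*)) ≤ O_p(G*), then they control transfer in G: S ∩ G' is generated by the subgroups S ∩ (N_G(W(S)))', W ∈ 𝓦, for a Sylow p-subgroup S. -/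
theorem result {G : Type u} [Group G] [Finite G] {p : ℕ} [Fact p.Prime] (𝓦 : Set (∀ (Q : Type u) [Group Q], Subgroup Q)) (h𝓦 : ∀ W ∈ 𝓦, Cfsg.IsCharPFunctor.{u} p W) (hloc : ∀ (K R : Subgroup G) [hR : (R.subgroupOf K).Normal], Subgroup.centralizer ((Cfsg.pCore p (↥K ⧸ R.subgroupOf K) : Subgroup (↥K ⧸ R.subgroupOf K)) : Set (↥K ⧸ R.subgroupOf K)) ≤ Cfsg.pCore p (↥K ⧸ R.subgroupOf K) → Cfsg.FamilyControlsTransferIn p ((fun W => Cfsg.inducedFunctor (G := (↥K ⧸ R.subgroupOf K)) W) '' 𝓦) ⊤) : Cfsg.FamilyControlsTransferIn p ((fun W => Cfsg.inducedFunctor (G := G) W) '' 𝓦) ⊤ := by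
  have hsec : Cfsg.Agent.Lib.Helper41.SecAll (Cfsg.Agent.Lib.Helper41.ConstrainedT p 𝓦) G := by
    intro K R hR hcon T
    have h1 : Cfsg.Agent.Lib.Helper41.GoodT p 𝓦 (↥K ⧸ R.subgroupOf K) := hloc K R hcon
    have h2 := Cfsg.Agent.Lib.Helper41.ftransAt_of_controls
      (Cfsg.Agent.Lib.Helper41.isConjugacyFunctor_indFam h𝓦 (↥K ⧸ R.subgroupOf K)) h1
      (M := (T : Subgroup (↥K ⧸ R.subgroupOf K))) le_top T.2
      (Cfsg.Agent.Lib.Helper41.sylow_relIndex_top T)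
    have h3 : Cfsg.pCore p (↥K ⧸ R.subgroupOf K) ⊓ commutator (↥K ⧸ R.subgroupOf K) ≤
        (T : Subgroup (↥K ⧸ R.subgroupOf K)) ⊓ ⁅(⊤ : Subgroup (↥K ⧸ R.subgroupOf K)), ⊤⁆ := by
      rw [commutator_def]
      exact inf_le_inf_right _ (Cfsg.Agent.Lib.Helper40.pCore_le_sylow' T)
    exact h3.trans (le_of_eq h2)
  have hiso : Cfsg.Agent.Lib.Helper41.IsoInv (Cfsg.Agent.Lib.Helper41.GoodT p 𝓦) :=
    fun _ _ _ _ _ e hY => Cfsg.Agent.Lib.Helper41.GoodT.of_equiv h𝓦 e hY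
  exact (Cfsg.Agent.Lib.Helper41.secT_main h𝓦 G hsec).top hiso

end Cfsg.Agent.S1995
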