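import Cfsg.Statements.S1996
import Cfsg.Agent.Lib.Helper41.SecFusionMain

set_option autoImplicit false
universe u
open Cfsg

namespace Cfsg.Agent.S1996

/-- Let p be a prime, G a finite group and W₁, W₂ two isomorphism-invariant p-group functors (W assigns to every group Q a subgroup W(Q), nontrivial whenever Q is a nontrivial finite p-group, and every isomorphism from a finite p-group Q onto a group R carries W(Q) onto W(R)). Suppose that G* = N_{G*}(W₁(S*)) N_{G*}(W₂(S*)) whenever G* = K/R is a section of G with C_{G*}(O_p(G*)) ≤ O_p(G*) and S* is a Sylow p-subgroup of G*. Then the pair {W₁, W₂} controls strong fusion in G. -/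
theorem result {G : Type u} [Group G] [Finite G] {p : ℕ} [Fact p.Prime] (W₁ W₂ : ∀ (Q : Type u) [Group Q], Subgroup Q) (hW₁ : Cfsg.IsCharPFunctor.{u} p W₁) (hW₂ : Cfsg.IsCharPFunctor.{u} p W₂) (hfac : ∀ (K R : Subgroup G) [hR : (R.subgroupOf K).Normal], Subgroup.centralizer ((Cfsg.pCore p (↥K ⧸ R.subgroupOf K) : Subgroup (↥K ⧸ R.subgroupOf K)) : Set (↥K ⧸ R.subgroupOf K)) ≤ Cfsg.pCore p (↥K ⧸ R.subgroupOf K) → ∀ T : Sylow p (↥K ⧸ R.subgroupOf K), ∀ x : (↥K ⧸ R.subgroupOf K), ∃ a ∈ Subgroup.normalizer ((Cfsg.inducedFunctor (G := (↥K ⧸ R.subgroupOf K)) W₁ (T : Subgroup (↥K ⧸ R.subgroupOf K)) : Subgroup (↥K ⧸ R.subgroupOf K)) : Set (↥K ⧸ R.subgroupOf K)), ∃ b ∈ Subgroup.normalizer ((Cfsg.inducedFunctor (G := (↥K ⧸ R.subgroupOf K)) W₂ (T : Subgroup (↥K ⧸ R.subgroupOf K)) : Subgroup (↥K ⧸ R.subgroupOf K)) : Set (↥K ⧸ R.subgroupOf K)), x = a * b) : Cfsg.FamilyControlsStrongFusionIn p {Cfsg.inducedFunctor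 (G := G) W₁, Cfsg.inducedFunctor (G := G) W₂} ⊤ := by
  have h𝓦 : ∀ W' ∈ ({W₁, W₂} : Set (∀ (Q : Type u) [Group Q], Subgroup Q)), Cfsg.IsCharPFunctor.{u} p W' := by
    intro W' hW'
    rcases hW' with h | h
    · rw [h]; exact hW₁
    · rw [Set.mem_singleton_iff.mp h]; exact hW₂
  have hsec : Cfsg.Agent.Lib.Helper41.SecAll (Cfsg.Agent.Lib.Helper41.ConstrainedF p {W₁, W₂}) G := by
    intro K R hR hcon
    obtain ⟨T⟩ : Nonempty (Sylow p (↥K ⧸ R.subgroupOf K)) := inferInstance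
    set Y := (↥K ⧸ R.subgroupOf K) with hY
    set N₁ := Subgroup.normalizer ((Cfsg.inducedFunctor (G := Y) W₁ (T : Subgroup Y) : Subgroup Y) : Set Y) with hN₁
    set N₂ := Subgroup.normalizer ((Cfsg.inducedFunctor (G := Y) W₂ (T : Subgroup Y) : Subgroup Y) : Set Y) with hN₂
    have hTN₁ : (T : Subgroup Y) ≤ N₁ :=
      Subgroup.le_normalizer.trans (Cfsg.Agent.Lib.Helper41.le_normalizer_inducedFunctor W₁ hW₁ _ T.2)
    have hTN₂ : (T : Subgroup Y) ≤ N₂ :=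
      Subgroup.le_normalizer.trans (Cfsg.Agent.Lib.Helper41.le_normalizer_inducedFunctor W₂ hW₂ _ T.2)
    refine ⟨T, le_top, T.2, Cfsg.Agent.Lib.Helper41.sylow_relIndex_top T, fun A h _ hA hhA => ?_⟩
    obtain ⟨a, ha, b, hb, hab⟩ := hfac K R hcon T h
    set B := Subgroup.closure A with hB
    have hBT : B ≤ (T : Subgroup Y) := (Subgroup.closure_le _).mpr hA
    have hhB : Cfsg.Agent.Lib.Helper41.lc h B ≤ (T : Subgroup Y) := by
      rw [Cfsg.Agent.Lib.Helper41.lc_le_iff, hB, Subgroup.closure_le]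
      intro x hx
      rw [SetLike.mem_coe, Cfsg.Agent.Lib.Helper41.mem_lc, inv_inv]
      exact hhA ⟨x, hx, rfl⟩
    set Q := Cfsg.Agent.Lib.Helper41.lc b B with hQ
    have hQ₂ : Q ≤ N₂ := by
      calc Q ≤ Cfsg.Agent.Lib.Helper41.lc b N₂ := Cfsg.Agent.Lib.Helper41.lc_mono (hBT.trans hTN₂)
        _ = N₂ := Cfsg.Agent.Lib.Helper41.lc_eq_self_of_mem hb
    have hQ₁ : Q ≤ N₁ := by
      have e : Q = Cfsg.Agent.Lib.Helper41.lc a⁻¹ (Cfsg.Agent.Lib.Helper41.lc h B) := by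
        rw [hQ, ← Cfsg.Agent.Lib.Helper41.lc_mul]; congr 1; rw [hab]; group
      rw [e]
      calc Cfsg.Agent.Lib.Helper41.lc a⁻¹ (Cfsg.Agent.Lib.Helper41.lc h B)
          ≤ Cfsg.Agent.Lib.Helper41.lc a⁻¹ N₁ := Cfsg.Agent.Lib.Helper41.lc_mono (hhB.trans hTN₁)
        _ = N₁ := Cfsg.Agent.Lib.Helper41.lc_eq_self_of_mem (N₁.inv_mem ha)
    have hidx : ¬ p ∣ (T : Subgroup Y).relIndex (N₁ ⊓ N₂) := fun hd =>
      T.not_dvd_index (hd.trans (Subgroup.relIndex_dvd_index_of_le (le_inf hTN₁ hTN₂)))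
    obtain ⟨m, hm, hmQ⟩ := Cfsg.Agent.Lib.Helper41.exists_lc_le_of_relIndex (p := p) (H := N₁ ⊓ N₂)
      (P := (T : Subgroup Y)) (le_inf hTN₁ hTN₂) T.2 hidx
      (Cfsg.Agent.Lib.Helper41.isPGroup_lc (g := b) (T.2.to_le hBT)) (le_inf hQ₁ hQ₂)
    refine ⟨2, ![1, m * b, h], by simp, ?_, ?_, ?_⟩
    · intro i
      fin_cases i
      · refine ⟨Cfsg.inducedFunctor (G := Y) W₂, ⟨W₂, Or.inr rfl, rfl⟩, ?_⟩
        simp only [Fin.zero_eta, Fin.succ_zero_eq_one, Fin.castSucc_zero, Matrix.cons_val_one,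
          Matrix.cons_val_zero, inv_one, mul_one]
        exact ⟨trivial, N₂.mul_mem hm.2 hb⟩
      · refine ⟨Cfsg.inducedFunctor (G := Y) W₁, ⟨W₁, Or.inl rfl, rfl⟩, ?_⟩
        have e : (![1, m * b, h] : Fin 3 → Y) (Fin.succ (1 : Fin 2)) *
            ((![1, m * b, h] : Fin 3 → Y) (Fin.castSucc (1 : Fin 2)))⁻¹ = a * m⁻¹ := by
          show h * (m * b)⁻¹ = a * m⁻¹
          rw [hab]; group
        refine ⟨trivial, ?_⟩
        show (![1, m * b, h] : Fin 3 → Y) (Fin.succ (1 : Fin 2)) *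
            ((![1, m * b, h] : Fin 3 → Y) (Fin.castSucc (1 : Fin 2)))⁻¹ ∈ N₁
        rw [e]
        exact N₁.mul_mem ha (N₁.inv_mem hm.1)
    · intro i
      fin_cases i
      · rintro _ ⟨x, hx, rfl⟩
        simpa using hA hx
      · rintro _ ⟨x, hx, rfl⟩
        show (m * b) * x * (m * b)⁻¹ ∈ (T : Subgroup Y)
        apply hmQ
        rw [Cfsg.Agent.Lib.Helper41.mem_lc]
        have e : m⁻¹ * ((m * b) * x * (m * b)⁻¹) * m = b * x * b⁻¹ := by group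
        rw [e]
        exact Cfsg.Agent.Lib.Helper41.conj_mem_lc (Subgroup.subset_closure hx)
      · exact hhA
    · intro x _
      rfl
  have hiso : Cfsg.Agent.Lib.Helper41.IsoInv (Cfsg.Agent.Lib.Helper41.GoodF p {W₁, W₂}) :=
    fun _ _ _ _ _ e hY => Cfsg.Agent.Lib.Helper41.GoodF.of_equiv h𝓦 e hY
  have hfin := (Cfsg.Agent.Lib.Helper41.secF_main h𝓦 G hsec).top hiso
  unfold Cfsg.Agent.Lib.Helper41.GoodF Cfsg.Agent.Lib.Helper41.indFam at hfin
  rw [Set.image_pair] at hfin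
  exact hfin

end Cfsg.Agent.S1996
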