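import Cfsg.Statements.S2010
import Cfsg.Agent.Lib.Helper39.OffApply
import Cfsg.Agent.Lib.Helper29.PCore
import Cfsg.Agent.Lib.Helper01.HallHigman
import Cfsg.Agent.Lib.Helper02.ThompsonJ
import Cfsg.Agent.Lib.Helper15.SylowNormal

set_option autoImplicit false
open Cfsg

namespace Cfsg.Agent.S2010

/-- Let G be a finite solvable group with no section isomorphic to the symmetric group of degree 4, whose Sylow 2-subgroup S has nilpotency class at most 2. Then G = N_G(J_e(S)) · O_{2'}(G), where J_e(S) is the subgroup generated by the elementary abelian subgroups of S of largest order. -/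
theorem result {G : Type*} [Group G] [Finite G]
    [Group.IsSolvable G] (hS4 : ¬ Cfsg.Involves (Equiv.Perm (Fin 4)) G) (S : Sylow 2 G)
    (hcl : Subgroup.lowerCentralSeries (S : Subgroup G) 2 = ⊥) :
    Subgroup.normalizer ((Cfsg.thompsonSubgroupOf 2 (S : Subgroup G)) : Set G) ⊔ Cfsg.pPrimeCore 2 G = ⊤ := by
  classical
  haveI : Fact (Nat.Prime 2) := ⟨Nat.prime_two⟩
  have hπs : Function.Surjective (QuotientGroup.mk' (Cfsg.pPrimeCore 2 G)) :=
    QuotientGroup.mk'_surjective _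
  have hO : Cfsg.pPrimeCore 2 (G ⧸ Cfsg.pPrimeCore 2 G) = ⊥ :=
    Cfsg.Agent.Lib.Helper29.pPrimeCore_quotient_eq_bot 2
  have hcon := Cfsg.Agent.Lib.Helper01.centralizer_pCore_le (G := G ⧸ Cfsg.pPrimeCore 2 G) 2 hO
  have hS4' : ¬ Cfsg.Involves (Equiv.Perm (Fin 4)) (G ⧸ Cfsg.pPrimeCore 2 G) := fun h =>
    hS4 (Cfsg.Agent.Lib.Helper39.Offender.involves_of_surjective' _ hπs h)
  have hS' : ((S.mapSurjective hπs : Sylow 2 (G ⧸ Cfsg.pPrimeCore 2 G)) :
      Subgroup (G ⧸ Cfsg.pPrimeCore 2 G)) =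
      (S : Subgroup G).map (QuotientGroup.mk' (Cfsg.pPrimeCore 2 G)) := Sylow.coe_mapSurjective hπs S
  have hcl' : Subgroup.lowerCentralSeries
      ((S.mapSurjective hπs : Sylow 2 (G ⧸ Cfsg.pPrimeCore 2 G)) :
        Subgroup (G ⧸ Cfsg.pPrimeCore 2 G)) 2 = ⊥ := by
    rw [hS']
    show ⁅⁅(S : Subgroup G).map (QuotientGroup.mk' (Cfsg.pPrimeCore 2 G)),
      (S : Subgroup G).map (QuotientGroup.mk' (Cfsg.pPrimeCore 2 G))⁆,
      (S : Subgroup G).map (QuotientGroup.mk' (Cfsg.pPrimeCore 2 G))⁆ = ⊥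
    rw [← Subgroup.map_commutator, ← Subgroup.map_commutator]
    have : ⁅⁅(S : Subgroup G), (S : Subgroup G)⁆, (S : Subgroup G)⁆ = ⊥ := hcl
    rw [this, Subgroup.map_bot]
  have key := Cfsg.Agent.Lib.Helper39.Offender.thompson_le_pCore hcon hS4'
    (fun D W _ _ h => Cfsg.Agent.Lib.Helper39.Offender.endGame_of_solvable h)
    (S.mapSurjective hπs) hcl'
  -- transport back to `G`
  have hKcop : (Nat.card (Cfsg.pPrimeCore 2 G)).Coprime 2 :=
    Cfsg.Agent.Lib.Helper29.pPrimeCore_coprime 2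
  have hSK : ∀ x ∈ (S : Subgroup G), x ∈ Cfsg.pPrimeCore 2 G → x = 1 := by
    intro x hxS hxK
    obtain ⟨k, hk⟩ := S.2 ⟨x, hxS⟩
    have hk' : x ^ 2 ^ k = 1 := by
      have := congrArg Subtype.val hk
      simpa using this
    have hd1 : orderOf x ∣ 2 ^ k := orderOf_dvd_of_pow_eq_one hk'
    have hd2 : orderOf x ∣ Nat.card (Cfsg.pPrimeCore 2 G) := Subgroup.orderOf_dvd_natCard _ hxK
    have hcop : Nat.Coprime (Nat.card (Cfsg.pPrimeCore 2 G)) (2 ^ k) := Nat.Coprime.pow_right _ hKcop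
    have := Nat.eq_one_of_dvd_coprimes hcop hd2 hd1
    exact orderOf_eq_one_iff.mp this
  have hinj : Set.InjOn (QuotientGroup.mk' (Cfsg.pPrimeCore 2 G)) ((S : Subgroup G) : Set G) := by
    intro s hs t ht hst
    have h1 : s⁻¹ * t ∈ Cfsg.pPrimeCore 2 G := by
      rw [← QuotientGroup.eq_one_iff, QuotientGroup.mk_mul, QuotientGroup.mk_inv]
      have : (QuotientGroup.mk s : G ⧸ Cfsg.pPrimeCore 2 G) = QuotientGroup.mk t := hst
      rw [this]; group
    have h2 := hSK _ ((S : Subgroup G).mul_mem ((S : Subgroup G).inv_mem hs) ht) h1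
    calc s = s * (s⁻¹ * t) * t⁻¹ * t := by rw [h2]; group
      _ = t := by group
  rw [hS', Cfsg.Agent.Lib.Helper02.thompsonOf_map _ _ hinj] at key
  have hJ : Cfsg.thompsonSubgroupOf 2 (S : Subgroup G) ≤ Cfsg.pPrimePCore 2 G := by
    intro x hx
    show x ∈ (Cfsg.pCore 2 (G ⧸ Cfsg.pPrimeCore 2 G)).comap
      (QuotientGroup.mk' (Cfsg.pPrimeCore 2 G))
    rw [Subgroup.mem_comap]
    exact key ⟨x, hx, rfl⟩
  -- Frattini
  haveI hQn : (Cfsg.pPrimePCore 2 G).Normal := by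
    show ((Cfsg.pCore 2 (G ⧸ Cfsg.pPrimeCore 2 G)).comap
      (QuotientGroup.mk' (Cfsg.pPrimeCore 2 G))).Normal
    haveI := Cfsg.Agent.Lib.Helper01.pCore_normal (G := G ⧸ Cfsg.pPrimeCore 2 G) 2
    infer_instance
  obtain ⟨T, hT⟩ := Cfsg.Agent.Lib.Helper15.sylow_inf_normal S (Cfsg.pPrimePCore 2 G)
  have hfr := Sylow.normalizer_sup_eq_top T
  rw [hT] at hfr
  have hJT : Cfsg.thompsonSubgroupOf 2 ((S : Subgroup G) ⊓ Cfsg.pPrimePCore 2 G) =
      Cfsg.thompsonSubgroupOf 2 (S : Subgroup G) :=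
    Cfsg.Agent.Lib.Helper15.thompsonSubgroupOf_eq_of_le 2 inf_le_left
      (le_inf (Cfsg.Agent.Lib.Helper15.thompsonSubgroupOf_le 2 _) hJ)
  have hN1 : Subgroup.normalizer ((((S : Subgroup G) ⊓ Cfsg.pPrimePCore 2 G : Subgroup G)) : Set G) ≤
      Subgroup.normalizer ((Cfsg.thompsonSubgroupOf 2 (S : Subgroup G)) : Set G) := by
    rw [← hJT]
    exact Cfsg.Agent.Lib.Helper15.normalizer_le_normalizer_thompsonSubgroupOf 2 _
  have hQle : Cfsg.pPrimePCore 2 G ≤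
      Subgroup.normalizer ((Cfsg.thompsonSubgroupOf 2 (S : Subgroup G)) : Set G) ⊔
        Cfsg.pPrimeCore 2 G := by
    intro x hx
    have hx' : (QuotientGroup.mk' (Cfsg.pPrimeCore 2 G)) x ∈
        Cfsg.pCore 2 (G ⧸ Cfsg.pPrimeCore 2 G) := hx
    have h1 := Cfsg.Agent.Lib.Helper01.pCore_le_sylow (S.mapSurjective hπs) hx'
    have h1' : (QuotientGroup.mk' (Cfsg.pPrimeCore 2 G)) x ∈
        (S : Subgroup G).map (QuotientGroup.mk' (Cfsg.pPrimeCore 2 G)) := by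
      rw [← hS']; exact h1
    obtain ⟨s, hs, hsx⟩ := h1'
    have hk : s⁻¹ * x ∈ Cfsg.pPrimeCore 2 G := by
      rw [← QuotientGroup.eq_one_iff, QuotientGroup.mk_mul, QuotientGroup.mk_inv]
      have : (QuotientGroup.mk s : G ⧸ Cfsg.pPrimeCore 2 G) = QuotientGroup.mk x := hsx
      rw [this]; group
    have hKQ : Cfsg.pPrimeCore 2 G ≤ Cfsg.pPrimePCore 2 G := by
      intro k hk
      show (QuotientGroup.mk' (Cfsg.pPrimeCore 2 G)) k ∈ Cfsg.pCore 2 (G ⧸ Cfsg.pPrimeCore 2 G)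
      have : (QuotientGroup.mk' (Cfsg.pPrimeCore 2 G)) k = 1 := (QuotientGroup.eq_one_iff k).mpr hk
      rw [this]; exact Subgroup.one_mem _
    have hsQ : s ∈ Cfsg.pPrimePCore 2 G := by
      have : s = x * (s⁻¹ * x)⁻¹ := by group
      rw [this]
      exact (Cfsg.pPrimePCore 2 G).mul_mem hx ((Cfsg.pPrimePCore 2 G).inv_mem (hKQ hk))
    have hsN : s ∈ Subgroup.normalizer ((Cfsg.thompsonSubgroupOf 2 (S : Subgroup G)) : Set G) :=
      hN1 (Subgroup.le_normalizer (⟨hs, hsQ⟩ : s ∈ (S : Subgroup G) ⊓ Cfsg.pPrimePCore 2 G))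
    have : x = s * (s⁻¹ * x) := by group
    rw [this]
    exact Subgroup.mul_mem_sup hsN hk
  rw [eq_top_iff, ← hfr]
  exact sup_le (hN1.trans le_sup_left) hQle

end Cfsg.Agent.S2010
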