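import Cfsg.Statements.S2011
import Cfsg.Agent.Lib.Helper42.PResidual
import Cfsg.Agent.Lib.Helper42.PPrimeCore

set_option autoImplicit false
open Cfsg

namespace Cfsg.Agent.S2011
open Cfsg.Agent.Lib.Helper42
set_option linter.style.haveILetI false

theorem centric_iff {G : Type*} [Group G] (P Q : Subgroup G) (hQ : Q ≤ P) :
    (Cfsg.groupFusionSystem P).IsCentric Q ↔
      ∀ g : G, (∀ x ∈ Q, g * x * g⁻¹ ∈ P) → ∀ y ∈ P, (∀ x ∈ Q, y * (g * x * g⁻¹) = (g * x * g⁻¹) * y) →
        ∃ x ∈ Q, y = g * x * g⁻¹ := by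
  constructor
  · rintro ⟨-, h⟩ g hg y hy hyc
    have hφ : Cfsg.conjHom Q g ∈ (Cfsg.groupFusionSystem P).Hom Q :=
      ⟨hQ, fun x => hg x x.2, g, fun x => rfl⟩
    have := h (Cfsg.conjHom Q g).range ⟨_, hφ, rfl⟩
    have hy' : y ∈ FusionSystem.centralizerIn P (Cfsg.conjHom Q g).range := by
      refine ⟨hy, ?_⟩
      show y ∈ Subgroup.centralizer _
      rw [Subgroup.mem_centralizer_iff]
      rintro _ ⟨x, rfl⟩
      exact (hyc x x.2).symm
    obtain ⟨x, hx⟩ := this hy'
    exact ⟨x, x.2, hx.symm⟩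
  · intro h
    refine ⟨hQ, ?_⟩
    rintro R ⟨φ, ⟨-, hφP, g, hg⟩, rfl⟩ y ⟨hyP, hyC⟩
    change y ∈ Subgroup.centralizer _ at hyC
    rw [Subgroup.mem_centralizer_iff] at hyC
    obtain ⟨x, hx, rfl⟩ := h g (fun x hx => by rw [← hg ⟨x, hx⟩]; exact hφP _) y hyP
      (fun x hx => by
        have := hyC (φ ⟨x, hx⟩) ⟨_, rfl⟩
        rw [hg] at this
        exact this.symm)
    exact ⟨⟨x, hx⟩, hg _⟩


theorem forward {G : Type*} [Group G] [Finite G] (p : ℕ) [Fact p.Prime] (P : Sylow p G)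
    (Q : Subgroup G) (hQ : Q ≤ P)
    (h : ∀ g : G, (∀ x ∈ Q, g * x * g⁻¹ ∈ (P : Subgroup G)) → ∀ y ∈ (P : Subgroup G),
      (∀ x ∈ Q, y * (g * x * g⁻¹) = (g * x * g⁻¹) * y) → ∃ x ∈ Q, y = g * x * g⁻¹) :
    Cfsg.IsInternalDirectProduct (Q ⊓ Subgroup.centralizer (Q : Set G))
      ((Cfsg.pPrimeCore p ↥(Subgroup.centralizer (Q : Set G))).map (Subgroup.centralizer (Q : Set G)).subtype)
      (Subgroup.centralizer (Q : Set G)) := by
  set C := Subgroup.centralizer (Q : Set G) with hC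
  set Z := Q ⊓ C with hZ
  have hQp : IsPGroup p Q := P.2.to_le hQ
  have hZp : IsPGroup p (Z.subgroupOf C) := (hQp.to_le inf_le_left).comap_subtype
  obtain ⟨T, hT⟩ := hZp.exists_le_sylow
  -- T' = T in G
  set T' : Subgroup G := (T : Subgroup C).map C.subtype with hT'
  have hT'C : T' ≤ C := Subgroup.map_subtype_le _
  have hT'p : IsPGroup p T' := T.2.map _
  have hnorm : Q ≤ Subgroup.normalizer ((T' : Subgroup G) : Set G) := by
    refine le_trans ?_ (Subgroup.centralizer_le_normalizer _)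
    rw [Subgroup.le_centralizer_iff]
    exact hT'C
  have hQT : IsPGroup p (Q ⊔ T' : Subgroup G) := hQp.to_sup_of_normal_right' hT'p hnorm
  obtain ⟨g, hg⟩ := exists_conj_mem_of_isPGroup p (P : Subgroup G) (Q ⊔ T') P.2 P.not_dvd_index hQT
  have hT'Z : T' ≤ Z := by
    intro t ht
    have htC : t ∈ C := hT'C ht
    obtain ⟨x, hx, hxt⟩ := h g (fun x hx => hg x (Subgroup.mem_sup_left hx)) (g * t * g⁻¹)
      (hg t (Subgroup.mem_sup_right ht)) (fun x hx => by
        have : t * x = x * t := by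
          rw [hC, Subgroup.mem_centralizer_iff] at htC
          exact (htC x hx).symm
        calc g * t * g⁻¹ * (g * x * g⁻¹) = g * (t * x) * g⁻¹ := by group
          _ = g * (x * t) * g⁻¹ := by rw [this]
          _ = _ := by group)
    have : t = x := by
      have := congrArg (fun y => g⁻¹ * y * g) hxt
      simpa [mul_assoc] using this
    rw [this]
    exact ⟨hx, this ▸ htC⟩
  have hTeq : (T : Subgroup C) = Z.subgroupOf C := by
    refine le_antisymm ?_ hT
    intro t ht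
    rw [Subgroup.mem_subgroupOf]
    exact hT'Z ⟨t, ht, rfl⟩
  have hTcen : (T : Subgroup C) ≤ Subgroup.center C := by
    rw [hTeq]
    intro z hz
    rw [Subgroup.mem_subgroupOf] at hz
    rw [Subgroup.mem_center_iff]
    intro c
    have hc : (c : G) ∈ Subgroup.centralizer (Q : Set G) := c.2
    rw [Subgroup.mem_centralizer_iff] at hc
    exact Subtype.ext (hc _ hz.1).symm
  have htop := pPrimeCore_sup_central_sylow p T hTcen
  have hcop := pPrimeCore_card_coprime p C
  set K := (Cfsg.pPrimeCore p ↥C).map C.subtype with hK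
  have hKC : K ≤ C := Subgroup.map_subtype_le _
  refine ⟨inf_le_right, hKC, ?_, ?_, ?_⟩
  · intro a ha b hb
    have hbC := hKC hb
    rw [hC, Subgroup.mem_centralizer_iff] at hbC
    exact hbC a ha.1
  · have hKcard : Nat.card K = Nat.card (Cfsg.pPrimeCore p ↥C) :=
      Subgroup.card_map_of_injective (Subgroup.subtype_injective _)
    apply disjoint_iff.mp
    apply Subgroup.disjoint_of_coprime_natCard
    obtain ⟨n, hn⟩ := IsPGroup.iff_card.mp (hQp.to_le (inf_le_left : Z ≤ Q))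
    rw [hn, hKcard]
    exact (Nat.Coprime.pow_right n hcop).symm
  · have := congrArg (Subgroup.map C.subtype) htop
    rw [Subgroup.map_sup, hTeq, Subgroup.subgroupOf_map_subtype, ← MonoidHom.range_eq_map,
      Subgroup.range_subtype] at this
    rw [← this, inf_eq_left.mpr (inf_le_right : Z ≤ C)]


theorem backward {G : Type*} [Group G] [Finite G] (p : ℕ) [Fact p.Prime] (P : Sylow p G)
    (Q : Subgroup G) (hQ : Q ≤ P)
    (hd : Cfsg.IsInternalDirectProduct (Q ⊓ Subgroup.centralizer (Q : Set G))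
      ((Cfsg.pPrimeCore p ↥(Subgroup.centralizer (Q : Set G))).map (Subgroup.centralizer (Q : Set G)).subtype)
      (Subgroup.centralizer (Q : Set G))) :
    ∀ g : G, (∀ x ∈ Q, g * x * g⁻¹ ∈ (P : Subgroup G)) → ∀ y ∈ (P : Subgroup G),
      (∀ x ∈ Q, y * (g * x * g⁻¹) = (g * x * g⁻¹) * y) → ∃ x ∈ Q, y = g * x * g⁻¹ := by
  intro g hg y hy hyc
  set C := Subgroup.centralizer (Q : Set G) with hC
  obtain ⟨-, -, -, -, hsup⟩ := hd
  have hcop := pPrimeCore_card_coprime p C
  haveI := pPrimeCore_normal p C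
  -- y' = g⁻¹ y g ∈ C
  have hy'C : g⁻¹ * y * g ∈ C := by
    rw [hC, Subgroup.mem_centralizer_iff]
    intro x hx
    have := hyc x hx
    calc x * (g⁻¹ * y * g) = g⁻¹ * ((g * x * g⁻¹) * y) * g := by group
      _ = g⁻¹ * (y * (g * x * g⁻¹)) * g := by rw [this]
      _ = _ := by group
  -- decomposition in C
  have hsup' : (Q ⊓ C).subgroupOf C ⊔ Cfsg.pPrimeCore p C = ⊤ := by
    have h1 : ((Q ⊓ C).subgroupOf C ⊔ Cfsg.pPrimeCore p C).map C.subtype = C := by
      rw [Subgroup.map_sup, Subgroup.subgroupOf_map_subtype, inf_eq_left.mpr (inf_le_right : Q ⊓ C ≤ C)]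
      exact hsup
    apply Subgroup.map_injective (Subgroup.subtype_injective C)
    rw [h1, ← MonoidHom.range_eq_map, Subgroup.range_subtype]
  have hmem : (⟨g⁻¹ * y * g, hy'C⟩ : C) ∈ (Q ⊓ C).subgroupOf C ⊔ Cfsg.pPrimeCore p C := by
    rw [hsup']; trivial
  rw [← SetLike.mem_coe, Subgroup.mul_normal, Set.mem_mul] at hmem
  obtain ⟨z, hz, k, hk, hzk⟩ := hmem
  rw [SetLike.mem_coe, Subgroup.mem_subgroupOf] at hz
  -- z is central
  have hzc : ∀ c : C, z * c = c * z := by
    intro c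
    have hc : (c : G) ∈ Subgroup.centralizer (Q : Set G) := c.2
    rw [Subgroup.mem_centralizer_iff] at hc
    exact Subtype.ext (hc _ hz.1)
  -- orders
  obtain ⟨a, ha⟩ := (P.2.to_le hQ) ⟨z, hz.1⟩
  have ha' : z ^ p ^ a = 1 := by
    apply Subtype.ext
    have := congrArg Subtype.val ha
    simpa using this
  obtain ⟨b, hb⟩ := P.2 ⟨y, hy⟩
  have hb' : (⟨g⁻¹ * y * g, hy'C⟩ : C) ^ p ^ b = 1 := by
    apply Subtype.ext
    have : y ^ p ^ b = 1 := by
      have := congrArg Subtype.val hb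
      simpa using this
    have h2 : (g⁻¹ * y * g) ^ p ^ b = g⁻¹ * y ^ p ^ b * g := by
      have := @conj_pow G _ (p ^ b) g⁻¹ y
      rwa [inv_inv] at this
    simp only [Subgroup.coe_pow, Subgroup.coe_one]
    rw [h2, this]
    group
  -- k = z⁻¹ * y'
  have hk_eq : k = z⁻¹ * ⟨g⁻¹ * y * g, hy'C⟩ := by rw [← hzk]; group
  have hcomm : Commute z⁻¹ (⟨g⁻¹ * y * g, hy'C⟩ : C) := by
    have := hzc ⟨g⁻¹ * y * g, hy'C⟩
    exact (Commute.inv_left this)
  have hkpow : k ^ p ^ (a + b) = 1 := by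
    rw [hk_eq, hcomm.mul_pow, pow_add, pow_mul, inv_pow, ha', pow_mul']
    rw [hb']
    simp
  have hk1 : k = 1 := by
    have h1 : orderOf k ∣ p ^ (a + b) := orderOf_dvd_of_pow_eq_one hkpow
    have h2 : orderOf (⟨k, hk⟩ : Cfsg.pPrimeCore p C) ∣ Nat.card (Cfsg.pPrimeCore p C) := orderOf_dvd_natCard _
    have h3 : orderOf (⟨k, hk⟩ : Cfsg.pPrimeCore p C) = orderOf k := Subgroup.orderOf_mk k hk
    rw [h3] at h2
    have h4 : orderOf k ∣ Nat.gcd (Nat.card (Cfsg.pPrimeCore p C)) (p ^ (a + b)) := Nat.dvd_gcd h2 h1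
    rw [Nat.Coprime.pow_right (a + b) hcop] at h4
    exact orderOf_eq_one_iff.mp (Nat.dvd_one.mp h4)
  rw [hk1, mul_one] at hzk
  refine ⟨z, hz.1, ?_⟩
  have := congrArg Subtype.val hzk
  simp only at this
  rw [this]
  group



/-- Let G be a finite group with Sylow p-subgroup P and Q ≤ P. Then Q is centric in the fusion system of G on P (C_P(R) ≤ R for every G-conjugate R of Q lying in P) if and only if C_G(Q) is the internal direct product of Z(Q) = Q ∩ C_G(Q) and the largest normal subgroup of C_G(Q) of order prime to p. -/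
theorem result {G : Type*} [Group G] [Finite G] (p : ℕ) [Fact p.Prime] (P : Sylow p G) (Q : Subgroup G) (hQ : Q ≤ P) : (Cfsg.groupFusionSystem (P : Subgroup G)).IsCentric Q ↔ Cfsg.IsInternalDirectProduct (Q ⊓ Subgroup.centralizer (Q : Set G)) ((Cfsg.pPrimeCore p ↥(Subgroup.centralizer (Q : Set G))).map (Subgroup.centralizer (Q : Set G)).subtype) (Subgroup.centralizer (Q : Set G)) := by
  rw [centric_iff _ _ hQ]
  exact ⟨forward p P Q hQ, backward p P Q hQ⟩

end Cfsg.Agent.S2011
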