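import Cfsg.Statements.S2014
import Cfsg.Agent.Lib.Helper42.PResidual

set_option autoImplicit false
open Cfsg

namespace Cfsg.Agent.S2014

open Cfsg.Agent.Lib.Helper42

/-- Let P be a Sylow p-subgroup of a finite group G and A, C ≤ P subgroups conjugate in G, with C extremal: N_P(C) is a Sylow p-subgroup of N_G(C). Then there is g with gAg⁻¹ = C and g N_P(A) g⁻¹ ≤ N_P(C); moreover, given any h with hAh⁻¹ = C, g can be chosen so that h g⁻¹ lies in O^p(N_G(C)), the subgroup of N_G(C) generated by its elements of order prime to p. -/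
theorem result {G : Type*} [Group G] [Finite G] (p : ℕ) [Fact p.Prime] (P : Sylow p G) (A C : Subgroup G) (hA : A ≤ P) (hC : C ≤ P) (hext : ¬ p ∣ ((P : Subgroup G) ⊓ Subgroup.normalizer ((C : Subgroup G) : Set G)).relIndex (Subgroup.normalizer ((C : Subgroup G) : Set G))) (h : G) (hh : A.map (MulAut.conj h).toMonoidHom = C) : ∃ g : G, A.map (MulAut.conj g).toMonoidHom = C ∧ ((P : Subgroup G) ⊓ Subgroup.normalizer ((A : Subgroup G) : Set G)).map (MulAut.conj g).toMonoidHom ≤ (P : Subgroup G) ⊓ Subgroup.normalizer ((C : Subgroup G) : Set G) ∧ h * g⁻¹ ∈ (Cfsg.pResidual p ↥(Subgroup.normalizer ((C : Subgroup G) : Set G))).map (Subgroup.normalizer ((C : Subgroup G) : Set G)).subtype := by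
  set N := Subgroup.normalizer ((C : Subgroup G) : Set G) with hN
  -- the Sylow subgroup of N
  set S : Subgroup N := ((P : Subgroup G) ⊓ N).subgroupOf N with hSdef
  have hSp : IsPGroup p S := by
    have : IsPGroup p ((P : Subgroup G) ⊓ N : Subgroup G) := P.2.to_le inf_le_left
    exact this.comap_subtype
  have hSi : ¬ p ∣ S.index := hext
  -- the conjugate of N_P(A)
  set B : Subgroup G := ((P : Subgroup G) ⊓ Subgroup.normalizer ((A : Subgroup G) : Set G)).map
    (MulAut.conj h).toMonoidHom with hBdef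
  have hBN : B ≤ N := by
    rintro _ ⟨x, hx, rfl⟩
    have hxA : x ∈ Subgroup.normalizer ((A : Subgroup G) : Set G) := hx.2
    have h3 := Subgroup.le_normalizer_map (MulAut.conj h).toMonoidHom (H := A) ⟨x, hxA, rfl⟩
    rw [hh] at h3
    exact h3
  have hBp : IsPGroup p (B.subgroupOf N) := by
    have h1 : IsPGroup p ((P : Subgroup G) ⊓ Subgroup.normalizer ((A : Subgroup G) : Set G) : Subgroup G) :=
      P.2.to_le inf_le_left
    have h2 : IsPGroup p B := h1.map _
    exact h2.comap_subtype
  obtain ⟨m, hm, hmB⟩ := exists_conj_mem_pResidual p S (B.subgroupOf N) hSp hSi hBp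
  have hmC : C.map (MulAut.conj (m : G)).toMonoidHom = C := by
    have : (m : G) ∈ Subgroup.normalizer ((C : Subgroup G) : Set G) := m.2
    rw [Subgroup.mem_normalizer_iff_map_conj_eq] at this
    exact this
  refine ⟨(m : G) * h, ?_, ?_, ?_⟩
  · rw [map_mul, MulAut.mul_def]
    have : (A.map (MulAut.conj h).toMonoidHom).map (MulAut.conj (m : G)).toMonoidHom = C := by
      rw [hh, hmC]
    rw [Subgroup.map_map] at this
    exact this
  · rintro _ ⟨x, hx, rfl⟩
    have hb : h * x * h⁻¹ ∈ B := ⟨x, hx, rfl⟩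
    have hbN : h * x * h⁻¹ ∈ N := hBN hb
    have := hmB ⟨h * x * h⁻¹, hbN⟩ (by simpa [Subgroup.mem_subgroupOf] using hb)
    rw [hSdef, Subgroup.mem_subgroupOf] at this
    have h5 : (MulAut.conj ((m : G) * h)).toMonoidHom x = (m : G) * (h * x * h⁻¹) * (m : G)⁻¹ := by
      simp [MulAut.conj_apply, mul_assoc]
    rw [h5]
    simpa using this
  · refine ⟨m⁻¹, (Cfsg.pResidual p N).inv_mem hm, ?_⟩
    simp

end Cfsg.Agent.S2014
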