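import Cfsg.Statements.S2015
import Cfsg.Agent.S1984
import Cfsg.Agent.Lib.Helper41.TransferCtl

set_option autoImplicit false
universe u
open Cfsg

namespace Cfsg.Agent.S2015

theorem induced_range {P G : Type u} [Group P] [Group G] (ι : P →* G) (hι : Function.Injective ι) :
    Cfsg.inducedFunctor Cfsg.kInfLower ι.range = (Cfsg.kInfLower P).map ι := by
  show (Cfsg.kInfLower ↥ι.range).map ι.range.subtype = _
  rw [← Cfsg.Agent.Lib.Helper16.KComm.map_kInfLower_equiv (MonoidHom.ofInjective hι),
    Subgroup.map_map]
  rfl

/-- For p ≥ 5, every finite p-group P has a characteristic subgroup K containing Z(P), depending only on P, whose normalizer controls transfer wherever P is a Sylow subgroup: for every finite group G and every embedding ι of P onto a Sylow p-subgroup of G, the intersection of ι(P) with the derived subgroup of G equals its intersection with the derived subgroup of N_G(ι(K)). -/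
theorem result (p : ℕ) [Fact p.Prime] (hp : 5 ≤ p) (P : Type u) [Group P] [Finite P] (hP : IsPGroup p P) : ∃ K : Subgroup P, K.Characteristic ∧ Subgroup.center P ≤ K ∧ ∀ (G : Type u) [Group G] [Finite G] (ι : P →* G), Function.Injective ι → (∃ T : Sylow p G, (T : Subgroup G) = ι.range) → ι.range ⊓ commutator G = ι.range ⊓ (commutator ↥(Subgroup.normalizer ((K.map ι : Subgroup G) : Set G))).map (Subgroup.normalizer ((K.map ι : Subgroup G) : Set G)).subtype := by
  have hW := Cfsg.Agent.Lib.Helper16.KComm.isCharPFunctor_kInfLower.{u} p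
  refine ⟨Cfsg.kInfLower P, ?_, ?_, ?_⟩
  · rw [Subgroup.characteristic_iff_map_eq]
    intro φ
    exact Cfsg.Agent.Lib.Helper16.KComm.map_kInfLower_equiv φ
  · have hc : IsMulCommutative ↥(Subgroup.center P) := inferInstance
    exact (Cfsg.Agent.Lib.Helper41.normal_abelian_le_kSeqEven (Subgroup.center P) hc 0).trans
      (le_iSup (fun n => Cfsg.kSeqEven P n) 0)
  · intro G _ _ ι hι hT
    obtain ⟨T, hT⟩ := hT
    have hctl := Cfsg.Agent.S1984.result (G := G) (p := p) hp
    have hconj := Cfsg.Agent.Lib.Helper41.isConjugacyFunctor_inducedFunctor Cfsg.kInfLower hW G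
    have hTr : Cfsg.Agent.Lib.Helper41.TransAt (Cfsg.inducedFunctor Cfsg.kInfLower) ⊤
        (T : Subgroup G) :=
      Cfsg.Agent.Lib.Helper41.transAt_of_controls hconj hctl le_top T.isPGroup'
        (by rw [Subgroup.relIndex_top_right]; exact T.not_dvd_index)
    unfold Cfsg.Agent.Lib.Helper41.TransAt at hTr
    rw [hT, induced_range ι hι, top_inf_eq] at hTr
    rw [commutator_def, hTr, commutator_def, Subgroup.map_commutator, ← MonoidHom.range_eq_map,
      Subgroup.range_subtype]

end Cfsg.Agent.S2015
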