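import Cfsg.Statements.S2034
import Cfsg.Agent.Lib.Helper72.SchurM11
import Cfsg.Agent.Lib.Helper10.SylM11
import Cfsg.Agent.S3979

set_option autoImplicit false
open Cfsg

namespace Cfsg.Agent.S2034

open Cfsg.Agent.Lib.Helper10 Cfsg.Agent.Lib.Helper07 Cfsg.Agent.Lib.Helper70
open Cfsg.Agent.Lib.Helper72.SchurM11 Subgroup

/-! ### Explicit elements of order three -/

def wx : List ℕ := [0, 2, 2, 0, 0]
def wy : List ℕ := [2, 0, 2, 0, 1, 0, 1]
def wg : List ℕ := [2, 1, 2]

noncomputable def px : Equiv.Perm GolayPt := wprod v11 wx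
noncomputable def py : Equiv.Perm GolayPt := wprod v11 wy
noncomputable def pg : Equiv.Perm GolayPt := wprod v11 wg

def Tx : ℕ → ℕ := wtab T11 wx
def Ty : ℕ → ℕ := wtab T11 wy
def Tg : ℕ → ℕ := wtab T11 wg

theorem hTx : IsTab px Tx := isTab_wprod v11 T11 isTab_v11 wx
theorem hTy : IsTab py Ty := isTab_wprod v11 T11 isTab_v11 wy
theorem hTg : IsTab pg Tg := isTab_wprod v11 T11 isTab_v11 wg

theorem v11_mem_M11 (k : ℕ) : v11 k ∈ Spor.M11 := G11_le_M11 (v11_mem k)

theorem px_mem : px ∈ Spor.M11 := wprod_mem_of v11 Spor.M11 v11_mem_M11 wx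
theorem py_mem : py ∈ Spor.M11 := wprod_mem_of v11 Spor.M11 v11_mem_M11 wy
theorem pg_mem : pg ∈ Spor.M11 := wprod_mem_of v11 Spor.M11 v11_mem_M11 wg

theorem ne_of_tab {σ τ : Equiv.Perm GolayPt} {S T : ℕ → ℕ} (hσ : IsTab σ S) (hτ : IsTab τ T)
    (i : ℕ) (hi : i < 24) (hne : S i ≠ T i) : σ ≠ τ := by
  rintro rfl
  exact hne (hσ.tab_eq hτ hi)

theorem px_cube : px ^ 3 = 1 := (hTx.pow 3).eq_of IsTab.one (by decide +kernel)
theorem py_cube : py ^ 3 = 1 := (hTy.pow 3).eq_of IsTab.one (by decide +kernel)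
theorem px_py : px * py = py * px := (hTx.mul hTy).eq_of (hTy.mul hTx) (by decide +kernel)
theorem px_pg_px : px * pg * px = pg := ((hTx.mul hTg).mul hTx).eq_of hTg (by decide +kernel)
theorem pg_py : pg * py = py * pg := (hTg.mul hTy).eq_of (hTy.mul hTg) (by decide +kernel)
theorem px_ne_one : px ≠ 1 := ne_of_tab hTx IsTab.one 1 (by norm_num) (by decide +kernel)
theorem py_ne_one : py ≠ 1 := ne_of_tab hTy IsTab.one 1 (by norm_num) (by decide +kernel)
theorem px_ne_py : px ≠ py := ne_of_tab hTx hTy 1 (by norm_num) (by decide +kernel)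
theorem px_ne_py2 : px ≠ py ^ 2 := ne_of_tab hTx (hTy.pow 2) 1 (by norm_num) (by decide +kernel)

/-! ### Explicit generators of a Sylow 2-subgroup -/

noncomputable def pa : Equiv.Perm GolayPt := SylM11.sv 3 * SylM11.sv 2
noncomputable def pb : Equiv.Perm GolayPt := SylM11.sv 3

def Ta : ℕ → ℕ := SylM11.lit 3 ∘ SylM11.lit 2
def Tb : ℕ → ℕ := SylM11.lit 3

theorem hTa : IsTab pa Ta := (SylM11.hlit 3).mul (SylM11.hlit 2)
theorem hTb : IsTab pb Tb := SylM11.hlit 3

theorem pa_mem : pa ∈ Hs SylM11.sv 4 :=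
  mul_mem (sv_mem_Hs SylM11.sv (by norm_num)) (sv_mem_Hs SylM11.sv (by norm_num))
theorem pb_mem : pb ∈ Hs SylM11.sv 4 := sv_mem_Hs SylM11.sv (by norm_num)

theorem pa_pow8 : pa ^ 2 ^ (2 + 1) = 1 := (hTa.pow _).eq_of IsTab.one (by decide +kernel)
theorem pa_pow4 : ¬ pa ^ 2 ^ 2 = 1 := ne_of_tab (hTa.pow _) IsTab.one 1 (by norm_num) (by decide +kernel)
theorem pb_sq : pb ^ 2 = 1 := (hTb.pow 2).eq_of IsTab.one (by decide +kernel)
theorem pb_pa : pb * pa = pa ^ 3 * pb := (hTb.mul hTa).eq_of ((hTa.pow 3).mul hTb) (by decide +kernel)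

theorem pa_order : orderOf pa = 8 := by
  have : Fact (Nat.Prime 2) := ⟨Nat.prime_two⟩
  exact orderOf_eq_prime_pow pa_pow4 pa_pow8

/-- an element of a cyclic group of order three. -/
theorem eq_of_mem_zpowers_three {G : Type*} [Group G] (x y : G) (hy : y ^ 3 = 1)
    (h : x ∈ zpowers y) : x = 1 ∨ x = y ∨ x = y ^ 2 := by
  obtain ⟨i, rfl⟩ := mem_zpowers_iff.mp h
  have h1 : y ^ i = y ^ (i % 3) := by
    have hy' : y ^ (3 : ℤ) = 1 := by
      rw [show (3 : ℤ) = ((3 : ℕ) : ℤ) from rfl, zpow_natCast]; exact hy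
    conv_lhs => rw [← Int.emod_add_mul_ediv i 3]
    rw [zpow_add, zpow_mul, hy', one_zpow, mul_one]
  rw [h1]
  have h2 : 0 ≤ i % 3 := Int.emod_nonneg _ (by norm_num)
  have h3 : i % 3 < 3 := Int.emod_lt_of_pos _ (by norm_num)
  obtain ⟨k, hk⟩ : ∃ k : ℤ, k = i % 3 := ⟨_, rfl⟩
  rw [← hk] at h2 h3 ⊢
  interval_cases k
  · left; simp
  · right; left; simp
  · right; right; exact zpow_natCast y 2

theorem prime_sq_dvd : ∀ r < 89, r.Prime → r ^ 2 ∣ 7920 → r = 2 ∨ r = 3 := by decide

/-- The Schur multiplier of the Mathieu group M₁₁ (the stabiliser of a dodecad and one of its points in the automorphism group of the length-24 binary code) is trivial; here the Schur multiplier is described through stem extensions, as in the definitions: surjective homomorphisms onto the group from a finite group, whose kernel is central in that finite group and contained in that finite group's commutator subgroup. -/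
theorem result : Cfsg.HasCyclicSchurMultiplier ↥Cfsg.Spor.M11 1 := by
  classical
  have hcardG : Nat.card ↥Spor.M11 = 7920 := card_M11
  have hfinG : Finite ↥Spor.M11 := Nat.finite_of_card_ne_zero (by rw [hcardG]; norm_num)
  apply hasCyclicSchurMultiplier_one_of_forall
  intro Γ _ _ σ hσ
  by_contra hne
  -- an element of prime order in the kernel
  obtain ⟨z, hzk, hz1⟩ : ∃ z ∈ σ.ker, z ≠ 1 := by
    by_contra hno
    push Not at hno
    exact hne ((eq_bot_iff_forall _).mpr hno)
  have hord0 : orderOf z ≠ 0 := (orderOf_pos z).ne'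
  have hord1 : orderOf z ≠ 1 := fun h => hz1 (orderOf_eq_one_iff.mp h)
  obtain ⟨r, hrp, hrd⟩ := Nat.exists_prime_and_dvd hord1
  have : Fact r.Prime := ⟨hrp⟩
  obtain ⟨z', hz'⟩ : ∃ z' : Γ, z' = z ^ (orderOf z / r) := ⟨_, rfl⟩
  have hz'o : orderOf z' = r := by
    rw [hz']
    exact orderOf_pow_orderOf_div hord0 hrd
  have hz'k : z' ∈ σ.ker := by rw [hz']; exact Subgroup.pow_mem _ hzk _
  by_cases hr2 : r = 2
  · -- the Sylow 2-subgroup is semidihedral
    subst hr2
    have hSle : Hs SylM11.sv 4 ≤ Spor.M11 := SylM11.S_le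
    let P : Subgroup ↥Spor.M11 := (Hs SylM11.sv 4).subgroupOf Spor.M11
    let e : P ≃* Hs SylM11.sv 4 := Subgroup.subgroupOfEquivOfLe hSle
    have hcardS : Nat.card (Hs SylM11.sv 4) = 16 := by rw [SylM11.card_S]; norm_num
    have hcardP : Nat.card P = 16 := by rw [Nat.card_congr e.toEquiv, hcardS]
    have hP : IsPGroup 2 P := IsPGroup.of_card (n := 4) (by rw [hcardP]; norm_num)
    have hidx : ¬ 2 ∣ P.index := by
      have h1 := P.card_mul_index
      rw [hcardP, hcardG] at h1
      omega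
    have hS : TrivMult (Hs SylM11.sv 4) := by
      refine trivMult_sd16 hcardS ⟨pa, pa_mem⟩ ⟨pb, pb_mem⟩ ?_ ?_ ?_
      · rw [← Subgroup.orderOf_coe]; exact pa_order
      · apply Subtype.ext; simpa using pb_sq
      · apply Subtype.ext
        have h1 : pb * pa * pb⁻¹ = pa ^ 3 := by rw [pb_pa]; group
        simpa using h1
    have hR : TrivMult ((hP.toSylow hidx : Sylow 2 ↥Spor.M11) : Subgroup ↥Spor.M11) := by
      rw [IsPGroup.toSylow_coe]
      exact trivMult_of_mulEquiv e hS
    exact no_order_r_of_sylow_trivMult σ hσ 2 (hP.toSylow hidx) hR z' hz'k hz'o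
  by_cases hr3 : r = 3
  · -- the Sylow 3-subgroup and an element inverting one generator
    subst hr3
    let x : ↥Spor.M11 := ⟨px, px_mem⟩
    let y : ↥Spor.M11 := ⟨py, py_mem⟩
    let g : ↥Spor.M11 := ⟨pg, pg_mem⟩
    have hx3 : x ^ 3 = 1 := by apply Subtype.ext; simpa [x] using px_cube
    have hy3 : y ^ 3 = 1 := by apply Subtype.ext; simpa [y] using py_cube
    have hx1 : x ≠ 1 := fun h => px_ne_one (by simpa [x] using congrArg Subtype.val h)
    have hy1 : y ≠ 1 := fun h => py_ne_one (by simpa [y] using congrArg Subtype.val h)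
    have hxy : x * y = y * x := by apply Subtype.ext; simpa [x, y] using px_py
    have hgx : g * x * g⁻¹ = x⁻¹ := by
      apply Subtype.ext
      have h1 : pg * px * pg⁻¹ = px⁻¹ := by
        have h2 : pg = px * pg * px := px_pg_px.symm
        calc pg * px * pg⁻¹ = px⁻¹ * (px * pg * px) * pg⁻¹ := by group
          _ = px⁻¹ := by rw [← h2]; group
      simpa [x, g] using h1
    have hgy : g * y * g⁻¹ = y := by
      apply Subtype.ext
      have h1 : pg * py * pg⁻¹ = py := by rw [pg_py]; group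
      simpa [y, g] using h1
    have hox : orderOf x = 3 := orderOf_eq_prime hx3 hx1
    have hoy : orderOf y = 3 := orderOf_eq_prime hy3 hy1
    have hxny : x ∉ zpowers y := by
      intro hmem
      rcases eq_of_mem_zpowers_three x y hy3 hmem with h | h | h
      · exact hx1 h
      · exact px_ne_py (by simpa [x, y] using congrArg Subtype.val h)
      · exact px_ne_py2 (by simpa [x, y] using congrArg Subtype.val h)
    have hcardU := card_sup_zpowers_three x y hox hoy hxy hxny
    have hidx : ¬ 3 ∣ (zpowers x ⊔ zpowers y).index := by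
      have h1 := (zpowers x ⊔ zpowers y).card_mul_index
      rw [hcardU, hcardG] at h1
      omega
    exact no_order_p_of_comap_commutative σ hσ 3 (zpowers x ⊔ zpowers y) hidx
      (comap_comm_of_inverted' σ hσ x y g hx3 hxy hgx hgy) z' hz'k hz'o
  · -- the other Sylow subgroups are cyclic
    let R : Sylow r ↥Spor.M11 := default
    have hRc : IsCyclic (R : Subgroup ↥Spor.M11) := by
      have hcard : Nat.card R = r ^ (Nat.card ↥Spor.M11).factorization r :=
        Sylow.card_eq_multiplicity R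
      rw [hcardG] at hcard
      have hk : (7920 : ℕ).factorization r ≤ 1 := by
        by_contra hk
        push Not at hk
        have h2 : r ^ 2 ∣ 7920 := by
          apply (Nat.Prime.pow_dvd_iff_le_factorization hrp (by norm_num)).mpr
          omega
        have hle : r ^ 2 ≤ 7920 := Nat.le_of_dvd (by norm_num) h2
        have hr89 : r < 89 := by nlinarith
        rcases prime_sq_dvd r hr89 hrp h2 with h | h
        · exact hr2 h
        · exact hr3 h
      rcases Nat.le_one_iff_eq_zero_or_eq_one.mp hk with h0 | h1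
      · rw [h0, pow_zero] at hcard
        have : Subsingleton (R : Subgroup ↥Spor.M11) := (Nat.card_eq_one_iff_unique.mp hcard).1
        exact isCyclic_of_subsingleton
      · rw [h1, pow_one] at hcard
        exact isCyclic_of_prime_card hcard
    have hR : TrivMult (R : Subgroup ↥Spor.M11) :=
      trivMult_of_hasCyclicSchurMultiplier Cfsg.Agent.S3979.result
    exact no_order_r_of_sylow_trivMult σ hσ r R hR z' hz'k hz'o

end Cfsg.Agent.S2034
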