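import Cfsg.Statements.S2037
import Cfsg.Agent.Lib.Helper42.SchurTwoA
import Cfsg.Agent.Lib.Helper83.SchurTwoF
import Cfsg.Agent.Lib.Helper19.SchurTwoG
import Cfsg.Agent.Lib.Helper95.SchurTwoH
import Cfsg.Agent.Lib.Helper10.SchurTwoJ
import Cfsg.Agent.Lib.Helper10.SchurTwoU
import Cfsg.Agent.Lib.Helper72.SchurM11
import Cfsg.Agent.Lib.Helper10.M23Gen
import Cfsg.Agent.S3979

set_option autoImplicit false
open Cfsg

namespace Cfsg.Agent.S2037

open Cfsg.Agent.Lib.Helper10 Cfsg.Agent.Lib.Helper07 Cfsg.Agent.Lib.Helper70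
open Cfsg.Agent.Lib.Helper72.SchurM11 Subgroup
open Cfsg.Agent.Lib.Helper42.SchurTwo Cfsg.Agent.Lib.Helper83.SchurTwo Cfsg.Agent.Lib.Helper19.SchurTwo
open Cfsg.Agent.Lib.Helper95.SchurTwo

theorem prime_sq_dvd : ∀ r < 3194, r.Prime → r ^ 2 ∣ 10200960 → r = 2 ∨ r = 3 := by
  intro r hr hp hd
  have h1 : r ∣ 10200960 := Dvd.dvd.trans (dvd_pow_self r (by norm_num)) hd
  have h2 : (10200960 : ℕ) = 2 ^ 7 * 3 ^ 2 * 5 * 7 * 11 * 23 := by norm_num
  rw [h2] at h1
  have hp' := hp.prime
  rcases (Nat.Prime.dvd_mul hp).mp h1 with h | h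
  · rcases (Nat.Prime.dvd_mul hp).mp h with h | h
    · rcases (Nat.Prime.dvd_mul hp).mp h with h | h
      · rcases (Nat.Prime.dvd_mul hp).mp h with h | h
        · rcases (Nat.Prime.dvd_mul hp).mp h with h | h
          · left; exact (Nat.prime_dvd_prime_iff_eq hp Nat.prime_two).mp (hp.dvd_of_dvd_pow h)
          · right; exact (Nat.prime_dvd_prime_iff_eq hp Nat.prime_three).mp (hp.dvd_of_dvd_pow h)
        · have : r = 5 := (Nat.prime_dvd_prime_iff_eq hp (by norm_num)).mp h
          subst this; norm_num at hd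
      · have : r = 7 := (Nat.prime_dvd_prime_iff_eq hp (by norm_num)).mp h
        subst this; norm_num at hd
    · have : r = 11 := (Nat.prime_dvd_prime_iff_eq hp (by norm_num)).mp h
      subst this; norm_num at hd
  · have : r = 23 := (Nat.prime_dvd_prime_iff_eq hp (by norm_num)).mp h
    subst this; norm_num at hd


/-- The Schur multiplier of the Mathieu group M₂₃ (the stabiliser of a point in the automorphism group of the length-24 binary code) is trivial; here the Schur multiplier is described through stem extensions, as in the definitions: surjective homomorphisms onto the group from a finite group, whose kernel is central in that finite group and contained in that finite group's commutator subgroup. -/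
theorem result : Cfsg.HasCyclicSchurMultiplier ↥Cfsg.Spor.M23 1 := by
  classical
  have hcardG : Nat.card ↥Spor.M23 = 10200960 := Cfsg.Agent.Lib.Helper10.card_M23
  have hfinG : Finite ↥Spor.M23 := Nat.finite_of_card_ne_zero (by rw [hcardG]; norm_num)
  apply hasCyclicSchurMultiplier_one_of_forall
  intro Γ _ _ σ hσ
  by_contra hne
  obtain ⟨z, hzk, hz1⟩ : ∃ z ∈ σ.ker, z ≠ 1 := by
    by_contra hno
    push Not at hno
    exact hne ((eq_bot_iff_forall _).mpr hno)
  have hord0 : orderOf z ≠ 0 := (orderOf_pos z).ne'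
  have hord1 : orderOf z ≠ 1 := fun h => hz1 (orderOf_eq_one_iff.mp h)
  obtain ⟨r, hrp, hrd⟩ := Nat.exists_prime_and_dvd hord1
  have : Fact r.Prime := ⟨hrp⟩
  obtain ⟨z', hz'⟩ : ∃ z' : Γ, z' = z ^ (orderOf z / r) := ⟨_, rfl⟩
  have hz'o : orderOf z' = r := by
    rw [hz']
    exact orderOf_pow_orderOf_div hord0 hrd
  have hz'k : z' ∈ σ.ker := by rw [hz']; exact Subgroup.pow_mem _ hzk _
  by_cases hr2 : r = 2
  · subst hr2
    obtain ⟨Γ', _, _, σ', w, hσ', hw1, hw2, hwker⟩ := exists_stem_ker_two σ hσ z' hz'k hz'o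
    obtain ⟨H, N, A, n₁, n₂, n₃, n₄, c, hidx, hNH, hAH, hnorm, hNA, hdisj, hexp, ⟨eA⟩, hn₁, hn₂, hn₃,
      hn₄, hgen, hcA, hc5, hcfix, hcl, hn2, hn3, hn12, hn13, hn23, hn123⟩ := Cfsg.Agent.Lib.Helper10.SchurTwo.m23_two_package
    have hwk : w ∈ σ'.ker := (hwker w).mpr (Or.inr rfl)
    have hwc : ∀ x : Γ', x * w = w * x := fun x =>
      ((Subgroup.mem_center_iff.mp (hσ'.2.1 hwk)) x)
    have hconjN : ∀ v ∈ N, v ≠ 1 → ∃ g : ↥Spor.M23, g * v * g⁻¹ = n₁ := by
      intro v hv hv1
      rcases hcl v (hexp v hv) with h | h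
      · exact absurd h hv1
      · exact h
    have hsq : ∀ x : Γ', σ' x * σ' x = 1 → x * x = 1 :=
      sq_eq_one_of_involution_classes σ' hσ'.1 w hw2 hwc (fun x hx => (hwker x).mp hx)
        n₁ n₂ n₃ n₁ n₂ n₃ (hexp n₁ hn₁)
        (hconjN n₂ hn₂ hn2) (hconjN n₃ hn₃ hn3)
        (hconjN _ (N.mul_mem hn₁ hn₂) hn12) (hconjN _ (N.mul_mem hn₁ hn₃) hn13)
        (hconjN _ (N.mul_mem hn₂ hn₃) hn23) (hconjN _ (N.mul_mem hn₁ (N.mul_mem hn₂ hn₃)) hn123)
        ⟨1, by group⟩ (hconjN n₂ hn₂ hn2) (hconjN n₃ hn₃ hn3)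
        (hconjN _ (N.mul_mem hn₁ hn₂) hn12) (hconjN _ (N.mul_mem hn₁ hn₃) hn13)
        (hconjN _ (N.mul_mem hn₂ hn₃) hn23)
        (fun τ hτ => by
          rcases hcl τ hτ with h | h
          · exact Or.inl h
          · exact Or.inr (Or.inl h))
    exact no_stem_two_of_split_data σ' hσ'.1 w hw1 hw2 hwc hwker (hσ'.2.2 hwk) hsq H N A hidx hNH hAH
      hnorm hNA hdisj hexp 7 (by norm_num) eA n₁ n₂ n₃ n₄ hn₁ hn₂ hn₃ hn₄ hgen c hcA hc5 hcfix
      (fun E _ _ π hπ S hS h => hKD_of_alt_seven eA π hπ S hS ⟨c, hcA⟩ h)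
  by_cases hr3 : r = 3
  · subst hr3
    obtain ⟨x, y, g, hx3, hy3, hxy, hgx, hgy, hx1, hy1, hxny⟩ := Cfsg.Agent.Lib.Helper10.SchurTwo.m23_three_package
    have hox : orderOf x = 3 := orderOf_eq_prime hx3 hx1
    have hoy : orderOf y = 3 := orderOf_eq_prime hy3 hy1
    have hcardU := card_sup_zpowers_three x y hox hoy hxy hxny
    have hidx : ¬ 3 ∣ (zpowers x ⊔ zpowers y).index := by
      have h1 := (zpowers x ⊔ zpowers y).card_mul_index
      rw [hcardU, hcardG] at h1
      omega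
    exact no_order_p_of_comap_commutative σ hσ 3 (zpowers x ⊔ zpowers y) hidx
      (comap_comm_of_inverted' σ hσ x y g hx3 hxy hgx hgy) z' hz'k hz'o
  · let R : Sylow r ↥Spor.M23 := default
    have hRc : IsCyclic (R : Subgroup ↥Spor.M23) := by
      have hcard : Nat.card R = r ^ (Nat.card ↥Spor.M23).factorization r :=
        Sylow.card_eq_multiplicity R
      rw [hcardG] at hcard
      have hk : (10200960 : ℕ).factorization r ≤ 1 := by
        by_contra hk
        push Not at hk
        have h2 : r ^ 2 ∣ 10200960 := by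
          apply (Nat.Prime.pow_dvd_iff_le_factorization hrp (by norm_num)).mpr
          omega
        have hle : r ^ 2 ≤ 10200960 := Nat.le_of_dvd (by norm_num) h2
        have hr89 : r < 3194 := by nlinarith
        rcases prime_sq_dvd r hr89 hrp h2 with h | h
        · exact hr2 h
        · exact hr3 h
      rcases Nat.le_one_iff_eq_zero_or_eq_one.mp hk with h0 | h1
      · rw [h0, pow_zero] at hcard
        have : Subsingleton (R : Subgroup ↥Spor.M23) := (Nat.card_eq_one_iff_unique.mp hcard).1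
        exact isCyclic_of_subsingleton
      · rw [h1, pow_one] at hcard
        exact isCyclic_of_prime_card hcard
    have hR : TrivMult (R : Subgroup ↥Spor.M23) :=
      trivMult_of_hasCyclicSchurMultiplier Cfsg.Agent.S3979.result
    exact no_order_r_of_sylow_trivMult σ hσ r R hR z' hz'k hz'o

end Cfsg.Agent.S2037
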