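import Cfsg.Statements.S2041
import Cfsg.Agent.S1625
import Cfsg.Agent.Lib.Helper77.J3SchurJ3
import Cfsg.Agent.Lib.Helper77.J3FieldIso

set_option autoImplicit false
set_option linter.style.haveILetI false
open Cfsg

namespace Cfsg.Agent.S2041

open Cfsg.Agent.Lib.Helper77.J3 Cfsg.Agent.Lib.Helper77.SchurLift

/-- The kernel of a finite stem extension of `J3` over a field in the lowest universe has order
1 or 3. -/
theorem ker_type0 {F : Type} [Field F] [Fintype F] (hF : Fintype.card F = 4) (ω : F)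
    (hω : ω ^ 2 + ω + 1 = 0) {Γ : Type*} [Group Γ] [Finite Γ] (σ : Γ →* Cfsg.Spor.J3 F ω)
    (hσ : Cfsg.IsStemExtension σ) : Nat.card σ.ker = 1 ∨ Nat.card σ.ker = 3 := by
  have h := isF4_of hF ω hω
  obtain ⟨hcen, hcard, hcardJ, -⟩ := Cfsg.Agent.S1625.result F hF ω hω
  have D := Cfsg.Agent.S1625.ordData (ω := ω) h
  have hgs' : ∀ x ∈ [kD, kB, kC], Rep (Cfsg.Spor.threeJ3 F ω) ω x := by
    intro x hx
    simp only [List.mem_cons, List.not_mem_nil, or_false] at hx
    rcases hx with rfl | rfl | rfl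
    · exact rep_gens h D 21 (by decide)
    · exact rep_gens h D 31 (by decide)
    · exact rep_gens h D 39 (by decide)
  have hgs : ∀ x ∈ csK, Rep (Cfsg.Spor.threeJ3 F ω) ω x := by
    intro x hx
    rw [csK_eq] at hx
    exact hgs' x hx
  have hw : Rep (Cfsg.Spor.threeJ3 F ω) ω wK := by
    rw [← wWord_ok]
    exact rep_word h hgs' wWord
  have hcs : ∀ z : GL Cfsg.Spor.F9 F, (∀ g ∈ Cfsg.Spor.threeJ3 F ω, g * z = z * g) →
      ∃ c : Fˣ, z = scU c :=
    fun z hz => central_scalar h gens_valid Cfsg.Agent.S1625.ginv_exists z hz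
  have hle3 := threeJ3_le_gen3 h D
  obtain ⟨ea, eb, ec, ed, e1, e2⟩ := sW_ok
  have hra : Rep (Cfsg.Spor.threeJ3 F ω) ω saK := by rw [← ea]; exact rep_wKey h hgs saW
  have hrb : Rep (Cfsg.Spor.threeJ3 F ω) ω sbK := by rw [← eb]; exact rep_wKey h hgs sbW
  have hrc : Rep (Cfsg.Spor.threeJ3 F ω) ω scK := by rw [← ec]; exact rep_wKey h hgs scW
  have hrd : Rep (Cfsg.Spor.threeJ3 F ω) ω sdK := by rw [← ed]; exact rep_wKey h hgs sdW
  have hr1 : Rep (Cfsg.Spor.threeJ3 F ω) ω sv1K := by rw [← e1]; exact rep_wKey h hgs sv1W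
  have hr2 : Rep (Cfsg.Spor.threeJ3 F ω) ω sv2K := by rw [← e2]; exact rep_wKey h hgs sv2W
  obtain ⟨a, ha⟩ := elt_of_rep hra
  obtain ⟨b, hb⟩ := elt_of_rep hrb
  obtain ⟨c, hc⟩ := elt_of_rep hrc
  obtain ⟨d, hd⟩ := elt_of_rep hrd
  obtain ⟨v1, hv1⟩ := elt_of_rep hr1
  obtain ⟨v2, hv2⟩ := elt_of_rep hr2
  have hT := target h hgs hw hcs hcen hcard hle3 a b c d v1 v2 ha hb hc hd hv1 hv2
  haveI : Finite (Cfsg.Spor.threeJ3 F ω) :=
    Nat.finite_of_card_ne_zero (by rw [hcard]; norm_num)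
  exact card_ker_eq σ hσ _ hT (by rw [hcardJ])

/-- A group of order 3 is the cyclic group of order 3. -/
theorem equiv_zmod3 {K : Type*} [Group K] (hK : Nat.card K = 3) :
    Nonempty (Multiplicative (ZMod 3) ≃* K) := by
  haveI : Fact (Nat.Prime 3) := ⟨by norm_num⟩
  have hcyc : IsCyclic K := isCyclic_of_prime_card hK
  have e := zmodCyclicMulEquiv hcyc
  rw [hK] at e
  exact ⟨e⟩

/-- For any field with 4 elements and any element ω of it with ω² + ω + 1 = 0: the Schur multiplier of the Janko group J₃ (the group generated by explicit 9 × 9 matrices over that field built from ω, taken modulo its centre) is cyclic of order 3; here the Schur multiplier is described through stem extensions, as in the definitions: surjective homomorphisms onto the group from a finite group, whose kernel is central in that finite group and contained in that finite group's commutator subgroup. -/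
theorem result {F : Type*} [Field F] [Fintype F] (hF : Fintype.card F = 4) (ω : F) (hω : ω ^ 2 + ω + 1 = 0) : Cfsg.HasCyclicSchurMultiplier (Cfsg.Spor.J3 F ω) 3 := by
  haveI : Fact (Nat.Prime 2) := ⟨Nat.prime_two⟩
  letI : Fintype (GaloisField 2 2) := Fintype.ofFinite (GaloisField 2 2)
  have h2 : Fintype.card (GaloisField 2 2) = 4 := by
    rw [← Nat.card_eq_fintype_card, GaloisField.card 2 2 (by norm_num)]
    norm_num
  let τ : F ≃+* GaloisField 2 2 := FiniteField.ringEquivOfCardEq (hF.trans h2.symm)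
  have hω₀ : τ ω ^ 2 + τ ω + 1 = 0 := by
    have := congrArg τ hω
    simpa using this
  -- the isomorphism of the triple covers
  let e1 : Cfsg.Spor.threeJ3 F ω ≃*
      (Cfsg.Spor.threeJ3 F ω).map (Cfsg.Agent.Lib.Helper77.J3Iso.glEquiv τ).toMonoidHom :=
    (Cfsg.Agent.Lib.Helper77.J3Iso.glEquiv τ).subgroupMap (Cfsg.Spor.threeJ3 F ω)
  let e2 : (Cfsg.Spor.threeJ3 F ω).map (Cfsg.Agent.Lib.Helper77.J3Iso.glEquiv τ).toMonoidHom ≃*
      Cfsg.Spor.threeJ3 (GaloisField 2 2) (τ ω) :=
    MulEquiv.subgroupCongr (Cfsg.Agent.Lib.Helper77.J3Iso.map_threeJ3 τ ω)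
  let e3 : Cfsg.Spor.threeJ3 F ω ≃* Cfsg.Spor.threeJ3 (GaloisField 2 2) (τ ω) := e1.trans e2
  obtain ⟨eJ⟩ := Cfsg.Agent.Lib.Helper77.J3Iso.j3_equiv τ ω
  have h := isF4_of h2 (τ ω) hω₀
  obtain ⟨hcen, hcard, -, -⟩ := Cfsg.Agent.S1625.result (GaloisField 2 2) h2 (τ ω) hω₀
  have D := Cfsg.Agent.S1625.ordData (ω := τ ω) h
  constructor
  · -- the triple cover is a stem extension with kernel of order 3
    obtain ⟨a', ha⟩ := elt_of_rep (rep_gens h D 9 (by decide))
    obtain ⟨b', hb⟩ := elt_of_rep (rep_gens h D 31 (by decide))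
    obtain ⟨c', hc⟩ := elt_of_rep (rep_gens h D 39 (by decide))
    obtain ⟨d', hd⟩ := elt_of_rep (rep_gens h D 21 (by decide))
    obtain ⟨e', he⟩ := elt_of_rep (rep_gens h D 12 (by decide))
    have hperf₀ := commutator_eq_top h D Cfsg.Agent.S1625.maxData Cfsg.Agent.S1625.iwaData
      a' b' c' d' e' ha hb hc hd he
    have hperf : commutator (Cfsg.Spor.threeJ3 F ω) = ⊤ := by
      apply Subgroup.map_injective (f := e3.toMonoidHom) e3.injective
      have h1 : (commutator (Cfsg.Spor.threeJ3 F ω)).map e3.toMonoidHom =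
          commutator (Cfsg.Spor.threeJ3 (GaloisField 2 2) (τ ω)) := by
        rw [commutator_def, Subgroup.map_commutator, commutator_def]
        have : (⊤ : Subgroup (Cfsg.Spor.threeJ3 F ω)).map e3.toMonoidHom = ⊤ := by
          rw [← MonoidHom.range_eq_map]
          exact MonoidHom.range_eq_top.mpr e3.surjective
        rw [this]
      have h3 : (⊤ : Subgroup (Cfsg.Spor.threeJ3 F ω)).map e3.toMonoidHom = ⊤ := by
        rw [← MonoidHom.range_eq_map]
        exact MonoidHom.range_eq_top.mpr e3.surjective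
      exact h1.trans (hperf₀.trans h3.symm)
    have hcen' : Nat.card (Subgroup.center (Cfsg.Spor.threeJ3 F ω)) = 3 := by
      have h1 : Nat.card ((Subgroup.center (Cfsg.Spor.threeJ3 F ω)).map e3.toMonoidHom) =
          Nat.card (Subgroup.center (Cfsg.Spor.threeJ3 F ω)) :=
        Subgroup.card_map_of_injective (f := e3.toMonoidHom) e3.injective
      have h3 : Nat.card ((Subgroup.center (Cfsg.Spor.threeJ3 F ω)).map e3.toMonoidHom) =
          Nat.card (Subgroup.center (Cfsg.Spor.threeJ3 (GaloisField 2 2) (τ ω))) := by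
        rw [Cfsg.Agent.Lib.Helper93.center_map_mulEquiv e3]
      exact h1.symm.trans (h3.trans hcen)
    refine ⟨Cfsg.Spor.threeJ3 F ω, inferInstance, ?_,
      QuotientGroup.mk' (Subgroup.center (Cfsg.Spor.threeJ3 F ω)), ⟨?_, ?_, ?_⟩, ?_⟩
    · haveI : Finite (Cfsg.Spor.threeJ3 (GaloisField 2 2) (τ ω)) :=
        Nat.finite_of_card_ne_zero (by rw [hcard]; norm_num)
      exact Finite.of_equiv _ e3.symm.toEquiv
    · exact QuotientGroup.mk'_surjective _
    · rw [QuotientGroup.ker_mk']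
    · rw [hperf]; exact le_top
    · rw [QuotientGroup.ker_mk']
      obtain ⟨e⟩ := equiv_zmod3 hcen'
      exact ⟨e.symm⟩
  · intro Γ _ _ σ hσ
    -- transport to the field in the lowest universe
    set σ₀ : Γ →* Cfsg.Spor.J3 (GaloisField 2 2) (τ ω) := eJ.toMonoidHom.comp σ with hσ₀
    have hker : σ₀.ker = σ.ker := by
      ext x
      simp only [MonoidHom.mem_ker, hσ₀, MonoidHom.comp_apply, MulEquiv.coe_toMonoidHom,
        MulEquiv.map_eq_one_iff]
    have hst : Cfsg.IsStemExtension σ₀ := by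
      refine ⟨?_, ?_, ?_⟩
      · exact eJ.surjective.comp hσ.1
      · rw [hker]; exact hσ.2.1
      · rw [hker]; exact hσ.2.2
    have hk := ker_type0 h2 (τ ω) hω₀ σ₀ hst
    rw [hker] at hk
    rcases hk with hk | hk
    · refine ⟨1, ?_⟩
      intro y
      haveI : Subsingleton σ.ker := (Nat.card_eq_one_iff_unique.mp hk).1
      exact ⟨1, Subsingleton.elim _ _⟩
    · obtain ⟨e⟩ := equiv_zmod3 hk
      exact ⟨e.toMonoidHom, e.surjective⟩

end Cfsg.Agent.S2041
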