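import Cfsg.Statements.S2067
import Cfsg.Agent.S1625
import Cfsg.Agent.Lib.Helper77.J3Out
import Cfsg.Agent.Lib.Helper77.J3OutAut
import Cfsg.Agent.Lib.Helper77.J3FieldIso

set_option autoImplicit false
set_option linter.style.haveILetI false
open Cfsg

namespace Cfsg.Agent.S2067

open Cfsg.Agent.Lib.Helper77.J3

/-- The statement over a field in the lowest universe. -/
theorem out_type0 {F : Type} [Field F] [Fintype F] (hF : Fintype.card F = 4) (ω : F)
    (hω : ω ^ 2 + ω + 1 = 0) : Nat.card (Cfsg.Out (Cfsg.Spor.J3 F ω)) = 2 := by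
  have h := isF4_of hF ω hω
  obtain ⟨hcen, hcard, -, -⟩ := Cfsg.Agent.S1625.result F hF ω hω
  have D := Cfsg.Agent.S1625.ordData (ω := ω) h
  have hgs' : ∀ x ∈ [kD, kB, kC], Rep (Cfsg.Spor.threeJ3 F ω) ω x := by
    intro x hx
    simp only [List.mem_cons, List.not_mem_nil, or_false] at hx
    rcases hx with rfl | rfl | rfl
    · exact rep_gens h D 21 (by decide)
    · exact rep_gens h D 31 (by decide)
    · exact rep_gens h D 39 (by decide)
  have hgs : ∀ x ∈ csK, Rep (Cfsg.Spor.threeJ3 F ω) ω x := by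
    intro x hx
    rw [csK_eq] at hx
    exact hgs' x hx
  have hw : Rep (Cfsg.Spor.threeJ3 F ω) ω wK := by
    rw [← wWord_ok]
    exact rep_word h hgs' wWord
  have hcs : ∀ z : GL Cfsg.Spor.F9 F, (∀ g ∈ Cfsg.Spor.threeJ3 F ω, g * z = z * g) →
      ∃ c : Fˣ, z = scU c :=
    fun z hz => central_scalar h gens_valid Cfsg.Agent.S1625.ginv_exists z hz
  have hle3 := threeJ3_le_gen3 h D
  have hrx : Rep (Cfsg.Spor.threeJ3 F ω) ω xK := by
    rw [← wxO_ok]
    exact rep_wKey h hgs wxO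
  have hrn : Rep (Cfsg.Spor.threeJ3 F ω) ω nK := by
    rw [← wnO_ok]
    exact rep_wKey h hgs wnO
  have hry : Rep (Cfsg.Spor.threeJ3 F ω) ω ktK := by
    rw [ktK_eq]
    exact rep_gens h D 39 (by decide)
  obtain ⟨x, hx⟩ := elt_of_rep hrx
  obtain ⟨y, hy⟩ := elt_of_rep hry
  obtain ⟨n, hn⟩ := elt_of_rep hrn
  -- the group is perfect
  obtain ⟨a', ha⟩ := elt_of_rep (rep_gens h D 9 (by decide))
  obtain ⟨b', hb⟩ := elt_of_rep (rep_gens h D 31 (by decide))
  obtain ⟨c', hc⟩ := elt_of_rep (rep_gens h D 39 (by decide))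
  obtain ⟨d', hd⟩ := elt_of_rep (rep_gens h D 21 (by decide))
  obtain ⟨e', he⟩ := elt_of_rep (rep_gens h D 12 (by decide))
  have hperf := commutator_eq_top h D Cfsg.Agent.S1625.maxData Cfsg.Agent.S1625.iwaData
    a' b' c' d' e' ha hb hc hd he
  -- the automorphism that is not inner
  have h2 : ∀ x : F, x + x = 0 := h.add_self
  have h4 : ∀ x : F, x ^ 4 = x := fun x => by
    have := FiniteField.pow_card x
    rwa [hF] at this
  have hσ : Cfsg.Agent.Lib.Helper77.J3Aut.frobE h2 h4 ω = ω ^ 2 := rfl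
  have hω3 : ω ^ 3 = 1 := by linear_combination (ω - 1) * hω
  obtain ⟨z0, hz0⟩ := elt_of_rep hw
  rw [matOf_wK] at hz0
  have hne : ω ^ 2 ≠ ω := by
    intro e
    have : ω * (ω - 1) = 0 := by linear_combination e
    rcases mul_eq_zero.mp this with e0 | e1
    · exact h.ne0 e0
    · exact h.ne1 (sub_eq_zero.mp e1)
  have hα := Cfsg.Agent.Lib.Helper77.J3Aut.alphaJ_not_inner
    (Cfsg.Agent.Lib.Helper77.J3Aut.frobE h2 h4) hσ hω3 hperf z0 hz0 hne
  exact card_out_eq_two h hgs hw hcs hcen hcard hle3 x y n hx hy hn _ hα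

/-- For any field with 4 elements and any element ω of it with ω² + ω + 1 = 0, the outer automorphism group of the Janko group J₃ (the group generated by explicit 9 × 9 matrices over that field built from ω, taken modulo its centre) has order 2. -/
theorem result {F : Type*} [Field F] [Fintype F] (hF : Fintype.card F = 4) (ω : F) (hω : ω ^ 2 + ω + 1 = 0) : Nat.card (Cfsg.Out (Cfsg.Spor.J3 F ω)) = 2 := by
  haveI : Fact (Nat.Prime 2) := ⟨Nat.prime_two⟩
  letI : Fintype (GaloisField 2 2) := Fintype.ofFinite (GaloisField 2 2)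
  have h2 : Fintype.card (GaloisField 2 2) = 4 := by
    rw [← Nat.card_eq_fintype_card, GaloisField.card 2 2 (by norm_num)]
    norm_num
  let σ : F ≃+* GaloisField 2 2 := FiniteField.ringEquivOfCardEq (hF.trans h2.symm)
  have hω₀ : σ ω ^ 2 + σ ω + 1 = 0 := by
    have := congrArg σ hω
    simpa using this
  obtain ⟨e⟩ := Cfsg.Agent.Lib.Helper77.J3Iso.j3_equiv σ ω
  rw [Cfsg.Agent.Lib.Helper77.J3Aut.card_out_congr e]
  exact out_type0 h2 (σ ω) hω₀

end Cfsg.Agent.S2067
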