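import Cfsg.Statements.S2119
import Cfsg.Agent.Lib.Helper43.AltAut

set_option autoImplicit false
open Cfsg

namespace Cfsg.Agent.S2119

open Equiv Equiv.Perm Cfsg.Agent.Lib.Helper43

/-- Automorphisms of the alternating groups: for n ≥ 4 with n ≠ 6, every automorphism of the alternating group of degree n is conjugation by a unique permutation, i.e. conjugation induces an isomorphism from the symmetric group of degree n onto the automorphism group of the alternating group (so the outer automorphism group has order 2). -/
theorem result (n : ℕ) (hn : 4 ≤ n) (h6 : n ≠ 6) : Function.Bijective (MulAut.conjNormal : Equiv.Perm (Fin n) →* MulAut ↥(alternatingGroup (Fin n))) := by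
  constructor
  · rw [injective_iff_map_eq_one]
    intro σ hσ
    by_contra hne
    obtain ⟨p, hp⟩ : ∃ p, σ p ≠ p := by
      by_contra hcon
      push Not at hcon
      exact hne (Equiv.ext hcon)
    have hcard : 1 < (Finset.univ \ {p, σ p} : Finset (Fin n)).card := by
      rw [Finset.card_sdiff_of_subset (Finset.subset_univ _), Finset.card_univ, Fintype.card_fin,
        Finset.card_pair hp.symm]
      omega
    obtain ⟨q, hq, r, hr, hqr⟩ := Finset.one_lt_card.1 hcard
    simp only [Finset.mem_sdiff, Finset.mem_univ, Finset.mem_insert, Finset.mem_singleton,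
      true_and, not_or] at hq hr
    obtain ⟨x, hx⟩ := Cyc3.exists_cyc3 (a := p) (b := q) (c := r) (Ne.symm hq.1) hqr hr.1
    have h1 := hx.conj σ
    have h2 : σ * x * σ⁻¹ = x := by
      have := congrArg (fun f : MulAut (alternatingGroup (Fin n)) =>
        ((f ⟨x, hx.1.mem_alternatingGroup⟩ : alternatingGroup (Fin n)) : Perm (Fin n))) hσ
      simpa [MulAut.conjNormal_apply] using this
    rw [h2] at h1
    have h3 : x (σ p) ≠ σ p := by rw [h1.apply_a]; exact h1.ne_ab.symm
    rcases hx.eq_of_apply_ne h3 with h | h | h
    · exact hp h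
    · exact hq.2 h.symm
    · exact hr.2 h.symm
  · intro θ
    obtain ⟨σ, hσ⟩ := exists_conj_of_mulEquiv_alternatingGroup hn h6 θ
    refine ⟨σ, ?_⟩
    apply MulEquiv.ext
    intro g
    apply Subtype.ext
    rw [MulAut.conjNormal_apply, hσ]

end Cfsg.Agent.S2119
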