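import Cfsg.Statements.S2133
import Cfsg.Agent.Lib.Helper93.Cz
import Cfsg.Agent.Lib.Helper93.SL5Cent

set_option autoImplicit false
open Cfsg

namespace Cfsg.Agent.S2133

open Cfsg.Agent.Lib.Helper93 in
/-- the centraliser of the involution is isomorphic to the centraliser of the transvection. -/
theorem cz_equiv (s : Matrix.SpecialLinearGroup (Fin 5) (ZMod 2))
    (hs : (s : Matrix (Fin 5) (Fin 5) (ZMod 2)) = Matrix.transvection 0 1 1) :
    Nonempty (↥czG ≃* ↥(Subgroup.centralizer
      ({s} : Set (Matrix.SpecialLinearGroup (Fin 5) (ZMod 2))))) := by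
  have hsz : s = czHom ⟨czP, czP_mem_czG⟩ := by
    apply Subtype.ext
    rw [hs, czHom_coe, czMat_czP]
  have hmem : ∀ g : ↥czG, czHom g ∈ Subgroup.centralizer
      ({s} : Set (Matrix.SpecialLinearGroup (Fin 5) (ZMod 2))) := by
    intro g
    rw [Subgroup.mem_centralizer_iff]
    intro h hh
    rw [Set.mem_singleton_iff] at hh
    rw [hh, hsz, ← map_mul, ← map_mul]
    congr 1
    apply Subtype.ext
    exact (mem_czG.mp g.2).2
  let ψ : ↥czG →* ↥(Subgroup.centralizer
      ({s} : Set (Matrix.SpecialLinearGroup (Fin 5) (ZMod 2)))) := czHom.codRestrict _ hmem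
  have hinj : Function.Injective ψ := by
    intro a b hab
    apply czHom_injective
    exact congrArg Subtype.val hab
  have hbij : Function.Bijective ψ := by
    apply hinj.bijective_of_nat_card_le
    exact (card_centralizer_transvection_le s hs).trans cz_card_ge
  exact ⟨MulEquiv.ofBijective ψ hbij⟩

/-- The Mathieu group M₂₄ (the automorphism group of the length-24 binary code) has an involution whose centraliser is isomorphic to the centraliser of a transvection in SL(5, 2) (a group of shape 2^{1+6}:GL(3, 2)). -/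
theorem result (s : Matrix.SpecialLinearGroup (Fin 5) (ZMod 2)) (hs : (s : Matrix (Fin 5) (Fin 5) (ZMod 2)) = Matrix.transvection 0 1 1) : ∃ z : ↥Cfsg.M24, orderOf z = 2 ∧ Nonempty (↥(Subgroup.centralizer ({z} : Set ↥Cfsg.M24)) ≃* ↥(Subgroup.centralizer ({s} : Set (Matrix.SpecialLinearGroup (Fin 5) (ZMod 2))))) := by
  open Cfsg.Agent.Lib.Helper93 in
  refine ⟨⟨czP, czP_mem⟩, ?_, ?_⟩
  · have : Fact (Nat.Prime 2) := ⟨Nat.prime_two⟩
    apply orderOf_eq_prime
    · apply Subtype.ext
      apply Equiv.ext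
      intro p
      apply Cfsg.Agent.Lib.Helper10.idx_injective
      simp only [pow_two, Subgroup.coe_mul, Equiv.Perm.mul_apply, Subgroup.coe_one,
        Equiv.Perm.one_apply]
      rw [idx_czP, idx_czP]
      exact (tabOk_spec czZ_ok (Cfsg.Agent.Lib.Helper10.idx_lt p)).2.2.1
    · intro h
      have h1 : czP = 1 := congrArg Subtype.val h
      have h2 := czP_fix_iff (Cfsg.Agent.Lib.Helper10.pt 5)
      rw [h1] at h2
      have h3 : notOctA.testBit (Cfsg.Agent.Lib.Helper10.idx (Cfsg.Agent.Lib.Helper10.pt 5)) = true := by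
        decide
      exact (h2.mp h3) rfl
  · have e : Subgroup.centralizer ({(⟨czP, czP_mem⟩ : ↥Cfsg.M24)} : Set ↥Cfsg.M24) =
        czG.subgroupOf Cfsg.M24 := by
      ext g
      rw [Subgroup.mem_centralizer_iff, Subgroup.mem_subgroupOf, mem_czG]
      constructor
      · intro h
        refine ⟨g.2, ?_⟩
        have := h ⟨czP, czP_mem⟩ rfl
        exact congrArg Subtype.val this
      · rintro ⟨_, h⟩ x hx
        rw [Set.mem_singleton_iff] at hx
        rw [hx]
        exact Subtype.ext h
    obtain ⟨φ⟩ := cz_equiv s hs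
    exact ⟨(MulEquiv.subgroupCongr e).trans
      ((Subgroup.subgroupOfEquivOfLe (inf_le_left : czG ≤ Cfsg.M24)).trans φ)⟩

end Cfsg.Agent.S2133
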