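import Cfsg.Statements.S2135
import Cfsg.Agent.S1625
import Cfsg.Agent.Lib.Helper77.J3InvMain
import Cfsg.Agent.Lib.Helper77.J3FieldIso

set_option autoImplicit false
set_option linter.style.haveILetI false
open Cfsg

namespace Cfsg.Agent.S2135

/-- For any field with 4 elements and any element ω of it with ω² + ω + 1 = 0: in the Janko group J₃ (the group generated by explicit 9 × 9 matrices over that field built from ω, taken modulo its centre) all involutions are conjugate, and the centraliser C of an involution has a normal extraspecial subgroup Q of order 32 containing no elementary abelian subgroup of order 8, complemented in C, with C / Q isomorphic to the alternating group of degree 5 (shape 2^{1+4}_-:A₅). -/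
theorem result {F : Type*} [Field F] [Fintype F] (hF : Fintype.card F = 4) (ω : F) (hω : ω ^ 2 + ω + 1 = 0) : (∀ x y : Cfsg.Spor.J3 F ω, orderOf x = 2 → orderOf y = 2 → IsConj x y) ∧ ∃ t : Cfsg.Spor.J3 F ω, orderOf t = 2 ∧ ∃ (Q : Subgroup ↥(Subgroup.centralizer ({t} : Set (Cfsg.Spor.J3 F ω)))) (_ : Q.Normal), Cfsg.IsExtraspecial 2 Q ∧ Nat.card Q = 32 ∧ (∀ E : Subgroup Q, Cfsg.IsElementaryAbelian 2 E → Nat.card E ≤ 2 ^ 2) ∧ (∃ H : Subgroup ↥(Subgroup.centralizer ({t} : Set (Cfsg.Spor.J3 F ω))), Q.IsComplement' H) ∧ Nonempty (↥(Subgroup.centralizer ({t} : Set (Cfsg.Spor.J3 F ω))) ⧸ Q ≃* ↥(alternatingGroup (Fin 5))) := by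
  haveI : Fact (Nat.Prime 2) := ⟨Nat.prime_two⟩
  letI : Fintype (GaloisField 2 2) := Fintype.ofFinite (GaloisField 2 2)
  have h2 : Fintype.card (GaloisField 2 2) = 4 := by
    rw [← Nat.card_eq_fintype_card, GaloisField.card 2 2 (by norm_num)]
    norm_num
  let σ : F ≃+* GaloisField 2 2 := FiniteField.ringEquivOfCardEq (hF.trans h2.symm)
  have hω₀ : σ ω ^ 2 + σ ω + 1 = 0 := by
    have := congrArg σ hω
    simpa using this
  obtain ⟨e⟩ := Cfsg.Agent.Lib.Helper77.J3Iso.j3_equiv σ ω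
  have h := Cfsg.Agent.Lib.Helper77.J3.isF4_of h2 (σ ω) hω₀
  obtain ⟨hcen, hcard, -, -⟩ := Cfsg.Agent.S1625.result (GaloisField 2 2) h2 (σ ω) hω₀
  have D := Cfsg.Agent.S1625.ordData (ω := σ ω) h
  have hgs : ∀ x ∈ Cfsg.Agent.Lib.Helper77.J3.csK,
      Cfsg.Agent.Lib.Helper77.J3.Rep (Cfsg.Spor.threeJ3 (GaloisField 2 2) (σ ω)) (σ ω) x := by
    intro x hx
    rw [Cfsg.Agent.Lib.Helper77.J3.csK_eq] at hx
    simp only [List.mem_cons, List.not_mem_nil, or_false] at hx
    rcases hx with rfl | rfl | rfl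
    · exact Cfsg.Agent.Lib.Helper77.J3.rep_gens h D 21 (by decide)
    · exact Cfsg.Agent.Lib.Helper77.J3.rep_gens h D 31 (by decide)
    · exact Cfsg.Agent.Lib.Helper77.J3.rep_gens h D 39 (by decide)
  have hd := Cfsg.Agent.Lib.Helper77.J3.centData h hgs hcen hcard
  have hd' := hd.transport e.symm
  exact hd'.result

end Cfsg.Agent.S2135
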