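import Cfsg.Statements.S2157
import Cfsg.Agent.Lib.Helper43.ChevChain

set_option autoImplicit false
open Cfsg

namespace Cfsg.Agent.S2157

open Cfsg.Lie Cfsg.Agent.Lib.Helper43

/-- the core entrywise computation for `xMat` -/
theorem xMat_conj {F : Type*} [Field F] (D : Cfsg.Lie.ChevalleyDatum) (hok : chainOK D = true)
    (χ : ℕ → Fˣ) (hχ : D.IsRootCharacter χ) (r : Fin D.nroots) (t : F) :
    D.charDiag F χ * D.xMat F r t * D.charDiag F (fun s => (χ s)⁻¹) =
      D.xMat F r ((χ r.val : F) * t) := by
  have hr : r.val < D.nroots := r.isLt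
  have hneg : χ (D.negIdx.getD r.val 0) = (χ r.val)⁻¹ := hχ.1 r.val hr
  ext row col
  unfold ChevalleyDatum.charDiag
  rw [Matrix.mul_diagonal, Matrix.diagonal_mul]
  rcases col with i | s
  · rcases row with i' | u
    · simp only [ChevalleyDatum.xMat, Matrix.of_apply, Sum.elim_inl, one_mul, mul_one]
    · simp only [ChevalleyDatum.xMat, Matrix.of_apply, Sum.elim_inl, Sum.elim_inr, mul_one]
      by_cases hu : u = r
      · subst hu
        simp only [if_true]
        ring
      · simp only [if_neg hu, mul_zero]
  · by_cases hsr : s = r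
    · subst hsr
      rcases row with i' | u
      · simp only [ChevalleyDatum.xMat, Matrix.of_apply, Sum.elim_inl, Sum.elim_inr, if_true,
          mul_zero, zero_mul]
      · simp only [ChevalleyDatum.xMat, Matrix.of_apply, Sum.elim_inr, if_true]
        by_cases hu : u = s
        · subst hu
          simp only [if_true, mul_one]
          rw [← Units.val_mul, mul_inv_cancel, Units.val_one]
        · simp only [if_neg hu, mul_zero, zero_mul]
    · by_cases hsn : s.val = D.negIdx.getD r.val 0
      · have hχs : χ s.val = (χ r.val)⁻¹ := by rw [hsn]; exact hneg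
        have hχs' : ((χ s.val)⁻¹ : Fˣ) = χ r.val := by rw [hχs, inv_inv]
        rcases row with i' | u
        · simp only [ChevalleyDatum.xMat, Matrix.of_apply, Sum.elim_inl, Sum.elim_inr, if_neg hsr,
            if_pos hsn, one_mul, hχs']
          ring
        · simp only [ChevalleyDatum.xMat, Matrix.of_apply, Sum.elim_inr, if_neg hsr, if_pos hsn,
            hχs']
          by_cases hus : u = s
          · subst hus
            simp only [if_true, mul_one]
            rw [hχs, ← Units.val_mul, inv_mul_cancel, Units.val_one]
          · simp only [if_neg hus]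
            by_cases hur : u = r
            · subst hur
              simp only [if_true]
              ring
            · simp only [if_neg hur, mul_zero, zero_mul]
      · rcases row with i' | u
        · simp only [ChevalleyDatum.xMat, Matrix.of_apply, Sum.elim_inl, Sum.elim_inr, if_neg hsr,
            if_neg hsn, mul_zero, zero_mul]
        · simp only [ChevalleyDatum.xMat, Matrix.of_apply, Sum.elim_inr, if_neg hsr, if_neg hsn]
          rw [mul_add, add_mul]
          congr 1
          · by_cases hus : u = s
            · subst hus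
              simp only [if_true, mul_one]
              rw [← Units.val_mul, mul_inv_cancel, Units.val_one]
            · simp only [if_neg hus, mul_zero, zero_mul]
          · rw [← List.sum_map_mul_left, ← List.sum_map_mul_right]
            congr 1
            apply List.map_congr_left
            intro km hkm
            have hc := chainCoeff_char D hok χ hχ r.val s.val u.val hr km hkm
            have h1 : ((χ s.val : Fˣ) : F) * (((χ s.val)⁻¹ : Fˣ) : F) = 1 := by
              rw [← Units.val_mul, mul_inv_cancel, Units.val_one]
            rw [hc, Units.val_mul, Units.val_pow_eq_pow_val, mul_pow]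
            linear_combination ((km.2 : F) * t ^ km.1 * ((χ r.val : Fˣ) : F) ^ km.1) * h1

/-- In a Chevalley group of type G₂, B₂, D₄, F₄, E₆, E₇ or E₈, for every character `χ` of the root lattice with values in `Fˣ` the diagonal matrix `ĥ(χ)` (identity on the coroot coordinates, `χ(s)` on the coordinate of `e_s`) conjugates each root element `x_r(t)` to `x_r(χ(r) t)`: `ĥ(χ) x_r(t) ĥ(χ)⁻¹ = x_r(χ(r) t)` as matrices, with `ĥ(χ)⁻¹` written as `ĥ(χ⁻¹)`. -/
theorem result {F : Type*} [Field F] (D : Cfsg.Lie.ChevalleyDatum) (hD : D ∈ [Cfsg.Lie.chevG2, Cfsg.Lie.chevB2, Cfsg.Lie.chevD4, Cfsg.Lie.chevF4, Cfsg.Lie.chevE6, Cfsg.Lie.chevE7, Cfsg.Lie.chevE8]) (χ : ℕ → Fˣ) (hχ : D.IsRootCharacter χ) (r : ℕ) (hr : r < D.nroots) (t : F) :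
    D.charDiag F χ * D.x F r t * D.charDiag F (fun s => (χ s)⁻¹) = D.x F r ((χ r : F) * t) := by
  unfold ChevalleyDatum.x
  rw [dif_pos hr, dif_pos hr]
  exact xMat_conj D (chainOK_of_mem hD) χ hχ ⟨r, hr⟩ t

end Cfsg.Agent.S2157
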