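import Cfsg.Statements.S2158
import Cfsg.Agent.S1042
import Cfsg.Agent.S2157
import Cfsg.Agent.Lib.Helper24.FactsAll
import Cfsg.Agent.Lib.Helper08.BNPairParabolic

set_option autoImplicit false
open Cfsg

namespace Cfsg.Agent.S2158

open Cfsg.Lie Cfsg.Agent.Lib.Helper24

/-- In a Chevalley group of type G₂, B₂, D₄, F₄, E₆, E₇ or E₈ over any field, an element of the group whose matrix is the diagonal matrix `ĥ(χ)` of a character `χ` of the root lattice already lies in the diagonal subgroup H (the non-trivial inclusion of the statement that the group meets the group of all such diagonal matrices in H). -/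
theorem result {F : Type*} [Field F] (D : Cfsg.Lie.ChevalleyDatum) (hD : D ∈ [Cfsg.Lie.chevG2, Cfsg.Lie.chevB2, Cfsg.Lie.chevD4, Cfsg.Lie.chevF4, Cfsg.Lie.chevE6, Cfsg.Lie.chevE7, Cfsg.Lie.chevE8]) (χ : ℕ → Fˣ) (hχ : D.IsRootCharacter χ) (g : GL D.Idx F) (hg : g ∈ D.group F)
    (hgχ : (g : Matrix D.Idx D.Idx F) = D.charDiag F χ) : g ∈ D.diagonalSubgroup F := by
  have hF := facts_all D hD
  set χ' : ℕ → Fˣ := fun r => (χ r)⁻¹ with hχ'def
  have hχ' : D.IsRootCharacter χ' := by
    refine ⟨fun r hr => ?_, fun r s k hr hs hk => ?_⟩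
    · simp only [hχ'def, hχ.1 r hr]
    · simp only [hχ'def, hχ.2 r s k hr hs hk, mul_inv]
  have hmul : D.charDiag F χ * D.charDiag F χ' = 1 := by
    unfold ChevalleyDatum.charDiag
    rw [Matrix.diagonal_mul_diagonal, ← Matrix.diagonal_one]
    congr 1
    funext i
    rcases i with i | r
    · simp
    · simp [hχ'def]
  have hginv : ((g⁻¹ : GL D.Idx F) : Matrix D.Idx D.Idx F) = D.charDiag F χ' := by
    have h1 : (g : Matrix D.Idx D.Idx F) * D.charDiag F χ' = 1 := by rw [hgχ, hmul]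
    calc ((g⁻¹ : GL D.Idx F) : Matrix D.Idx D.Idx F)
        = ((g⁻¹ : GL D.Idx F) : Matrix D.Idx D.Idx F) * ((g : Matrix D.Idx D.Idx F) * D.charDiag F χ') := by
          rw [h1, mul_one]
      _ = D.charDiag F χ' := by
          rw [← mul_assoc, ← Units.val_mul, inv_mul_cancel, Units.val_one, one_mul]
  have hinvinv : (fun s => (χ' s)⁻¹) = χ := by
    funext s
    simp [hχ'def]
  have hconj : ∀ r < D.nroots, ∀ t : F, g * hF.xGL r t * g⁻¹ = hF.xGL r ((χ r : F) * t) := by
    intro r hr t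
    apply Units.ext
    rw [Units.val_mul, Units.val_mul, hgχ, hginv, Facts.xGL_val, Facts.xGL_val]
    exact Cfsg.Agent.S2157.result D hD χ hχ r hr t
  have hconj' : ∀ r < D.nroots, ∀ t : F, g⁻¹ * hF.xGL r t * g = hF.xGL r ((χ' r : F) * t) := by
    intro r hr t
    apply Units.ext
    rw [Units.val_mul, Units.val_mul, hgχ, hginv, Facts.xGL_val, Facts.xGL_val]
    have h := Cfsg.Agent.S2157.result D hD χ' hχ' r hr t
    rw [hinvinv] at h
    exact h
  have hgU : g ∈ Subgroup.normalizer (D.posUnipotent F : Set (GL D.Idx F)) := by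
    unfold ChevalleyDatum.posUnipotent
    apply mem_normalizer_closure
    · rintro x ⟨s, t, hs, hx⟩
      rw [hF.eq_xGL x s t hx, hconj s hs.1 t]
      exact Subgroup.subset_closure ⟨s, _, hs, rfl⟩
    · rintro x ⟨s, t, hs, hx⟩
      rw [hF.eq_xGL x s t hx, hconj' s hs.1 t]
      exact Subgroup.subset_closure ⟨s, _, hs, rfl⟩
  have hgd : g ∈ diagSub (m := D.Idx) (F := F) := by
    intro i j hij
    rw [hgχ]
    exact Matrix.diagonal_apply_ne _ hij
  have hgH : ∀ h ∈ D.diagonalSubgroup F, g * h * g⁻¹ = h := by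
    intro h hh
    rw [diagSub_comm g h hgd (hF.diagonal_le_diagSub hh), mul_inv_cancel_right]
  have hgB : ∀ x ∈ D.borelSubgroup F, g * x * g⁻¹ ∈ D.borelSubgroup F := by
    intro x hx
    obtain ⟨u, hu, h, hh, rfl⟩ := exists_mul_of_mem_sup_of_le_normalizer _ _
      hF.borel_semidirect.1 x hx
    have e : g * (u * h) * g⁻¹ = (g * u * g⁻¹) * (g * h * g⁻¹) := by group
    rw [e, hgH h hh]
    exact mul_mem (Subgroup.mem_sup_left ((Subgroup.mem_normalizer_iff.mp hgU u).mp hu))
      (Subgroup.mem_sup_right hh)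
  obtain ⟨P, hB, _, _⟩ := Cfsg.Agent.S1042.result (F := F) D hD
  have hmem : (⟨g, hg⟩ : ↥(D.group F)) ∈ P.B := by
    apply Cfsg.Agent.Lib.Helper08.mem_of_conj_le P P.B P.B le_rfl le_rfl
    intro x hx
    rw [hB, Subgroup.mem_subgroupOf] at hx ⊢
    exact hgB _ hx
  rw [hB, Subgroup.mem_subgroupOf] at hmem
  obtain ⟨u, hu, h, hh, e⟩ := exists_mul_of_mem_sup_of_le_normalizer _ _
    hF.borel_semidirect.1 g hmem
  have hud : u ∈ diagSub (m := D.Idx) (F := F) := by
    have e' : u = g * h⁻¹ := by rw [e]; group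
    rw [e']
    exact mul_mem hgd (inv_mem (hF.diagonal_le_diagSub hh))
  have hu1 : u = 1 := by
    have h2 := uniTri_inf_lowerTri_rev (F := F) (posI D) (posI_injective D) _ (posI_lt D)
    have h3 : u ∈ uniTri (F := F) (posI D) (posI_injective D) ⊓
        lowerTri (revPos (posI D) (D.rank + D.nroots)) :=
      ⟨hF.pos_le_uniTri hu, diagSub_le_lowerTri _ hud⟩
    rw [h2] at h3
    exact h3
  rw [e, hu1, one_mul]
  exact hh

end Cfsg.Agent.S2158
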