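import Cfsg.Statements.S2160
import Cfsg.Agent.Lib.Helper08.ChevGen

set_option autoImplicit false
open Cfsg

namespace Cfsg.Agent.S2160

open Cfsg.Lie Cfsg.Agent.Lib.Helper08.ChevGen

/-- In a Chevalley group of type G₂, B₂, D₄, F₄, E₆, E₇ or E₈ over a finite field, every field automorphism commutes with every graph automorphism. -/
theorem result {F : Type*} [Field F] [Finite F] (D : Cfsg.Lie.ChevalleyDatum) (hD : D ∈ [Cfsg.Lie.chevG2, Cfsg.Lie.chevB2, Cfsg.Lie.chevD4, Cfsg.Lie.chevF4, Cfsg.Lie.chevE6, Cfsg.Lie.chevE7, Cfsg.Lie.chevE8]) (f g : ↥(D.group F) ≃* ↥(D.group F))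
    (hf : D.IsFieldAut f) (hg : D.IsGraphAut g) (y : ↥(D.group F)) : f (g y) = g (f y) := by
  obtain ⟨σ, hσ⟩ := hf
  obtain ⟨π, _, hπ⟩ := hg
  have hEq : Set.EqOn (f.toMonoidHom.comp g.toMonoidHom) (g.toMonoidHom.comp f.toMonoidHom)
      (simpleSetG D F) := by
    rintro z ⟨i, t, hi, hz | hz⟩
    · have hs1 : D.simple i < D.nroots := simple_lt_all D hD i hi
      have hs2 : D.simple (π ⟨i, hi⟩) < D.nroots := simple_lt_all D hD _ (π ⟨i, hi⟩).isLt
      have h1 := (hπ z ⟨i, hi⟩ t).1 hz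
      have h2 := hσ (g z) _ _ hs2 h1
      have h3 := hσ z _ t hs1 hz
      have h4 := (hπ (f z) ⟨i, hi⟩ (σ t)).1 h3
      apply Subtype.ext
      apply Units.ext
      change ((f (g z) : GL D.Idx F) : Matrix D.Idx D.Idx F) = ((g (f z) : GL D.Idx F) : Matrix D.Idx D.Idx F)
      rw [h2, h4, map_pow]
    · have hs1 : D.neg (D.simple i) < D.nroots := neg_lt_all D hD _ (simple_lt_all D hD i hi)
      have hs2 : D.neg (D.simple (π ⟨i, hi⟩)) < D.nroots :=
        neg_lt_all D hD _ (simple_lt_all D hD _ (π ⟨i, hi⟩).isLt)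
      have h1 := (hπ z ⟨i, hi⟩ t).2 hz
      have h2 := hσ (g z) _ _ hs2 h1
      have h3 := hσ z _ t hs1 hz
      have h4 := (hπ (f z) ⟨i, hi⟩ (σ t)).2 h3
      apply Subtype.ext
      apply Units.ext
      change ((f (g z) : GL D.Idx F) : Matrix D.Idx D.Idx F) = ((g (f z) : GL D.Idx F) : Matrix D.Idx D.Idx F)
      rw [h2, h4, map_pow]
  have hall := MonoidHom.eqOn_closure hEq
  rw [closure_simpleSetG_all D hD] at hall
  exact hall (Subgroup.mem_top y)

end Cfsg.Agent.S2160
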