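import Cfsg.Statements.S2161
import Cfsg.Agent.Lib.Helper08.ChevGraphSign
import Cfsg.Agent.Lib.Helper08.ChevGraphTab

set_option autoImplicit false
open Cfsg

namespace Cfsg.Agent.S2161

open Cfsg.Lie Cfsg.Agent.Lib.Helper24 Cfsg.Agent.Lib.Helper08.ChevGraphSign Cfsg.Agent.Lib.Helper08.ChevGraphTab

/-- For the Chevalley groups of types D₄ and E₆ (one root length) over any field: if `π` is a symmetry of the Dynkin diagram and `φ` is an automorphism sending `x_{p_i}(t)` to `x_{p_{π i}}(t)` and `x_{-p_i}(t)` to `x_{-p_{π i}}(t)` for every fundamental root `p_i`, then for every root `r` there is a sign `ε = ±1` with `φ(x_r(t)) = x_{π·r}(ε t)` for all `t`, where `π·r` is the root whose coefficients are those of `r` permuted by `π`. -/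
theorem result {F : Type*} [Field F] (D : Cfsg.Lie.ChevalleyDatum) (hD : D ∈ [Cfsg.Lie.chevD4, Cfsg.Lie.chevE6])
    (π : Equiv.Perm (Fin D.rank)) (hπ : D.IsDiagramSymmetry π) (φ : ↥(D.group F) ≃* ↥(D.group F))
    (hφ : ∀ (g : ↥(D.group F)) (i : Fin D.rank) (t : F),
      (((g : GL D.Idx F) : Matrix D.Idx D.Idx F) = D.x F (D.simple i) t →
        ((φ g : GL D.Idx F) : Matrix D.Idx D.Idx F) = D.x F (D.simple (π i)) t) ∧
      (((g : GL D.Idx F) : Matrix D.Idx D.Idx F) = D.x F (D.neg (D.simple i)) t →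
        ((φ g : GL D.Idx F) : Matrix D.Idx D.Idx F) = D.x F (D.neg (D.simple (π i))) t))
    (r : ℕ) (hr : r < D.nroots) :
    ∃ ε : F, (ε = 1 ∨ ε = -1) ∧ ∀ (g : ↥(D.group F)) (t : F),
      ((g : GL D.Idx F) : Matrix D.Idx D.Idx F) = D.x F r t →
        ((φ g : GL D.Idx F) : Matrix D.Idx D.Idx F) = D.x F (D.permRoot π r) (ε * t) := by
  have hD' : D ∈ [chevG2, chevB2, chevD4, chevF4, chevE6, chevE7, chevE8] := by
    rcases List.mem_cons.mp hD with rfl | hD
    · simp
    rcases List.mem_cons.mp hD with rfl | hD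
    · simp
    simp at hD
  have hOK : GraphOK D := by
    rcases List.mem_cons.mp hD with rfl | hD
    · exact graphOK_D4
    rcases List.mem_cons.mp hD with rfl | hD
    · exact graphOK_E6
    simp at hD
  obtain ⟨h1, h2, h3⟩ := hOK π hπ
  obtain ⟨tab, orb, hN, hH, _⟩ := hnfacts_all D hD'
  have key := graph_signs (F := F) (facts_all D hD') hN hH
    (fun i => if h : i < D.rank then (π ⟨i, h⟩).val else i) (D.permRoot π)
    (fun i hi => by simp only [dif_pos hi]; exact (π ⟨i, hi⟩).isLt)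
    (fun i hi => by simp only [dif_pos hi]; exact h1 ⟨i, hi⟩)
    (fun i hi s hs => by simp only [dif_pos hi]; exact h2 ⟨i, hi⟩ ⟨s, hs⟩)
    (fun s hs => h3 ⟨s, hs⟩)
    φ
    (fun g i t hi => by simp only [dif_pos hi]; exact hφ g ⟨i, hi⟩ t)
  exact key r hr

end Cfsg.Agent.S2161
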