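import Cfsg.Statements.S2162
import Cfsg.Agent.Lib.Helper43.SquareZero

set_option autoImplicit false
open Cfsg

namespace Cfsg.Agent.S2162

open Matrix Module

/-- For an involution in characteristic two, `(A - 1)` squares to zero. -/
lemma sub_one_mul_self {F : Type*} [Field F] [CharP F 2] {n : ℕ}
    (A : Matrix (Fin n) (Fin n) F) (hA : A * A = 1) : (A - 1) * (A - 1) = 0 := by
  rw [sub_mul, mul_sub, mul_sub, hA, mul_one, one_mul, one_mul]
  ext i j
  simp only [Matrix.sub_apply, Matrix.zero_apply]
  have h2 : (1 : Matrix (Fin n) (Fin n) F) i j + (1 : Matrix (Fin n) (Fin n) F) i j = 0 :=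
    CharTwo.add_self_eq_zero _
  have h3 : A i j + A i j = 0 := CharTwo.add_self_eq_zero _
  linear_combination h2 - h3

/-- the matrix of an element of order two squares to one -/
lemma coe_mul_self_of_orderOf {F : Type*} [Field F] {n : ℕ}
    (a : Matrix.SpecialLinearGroup (Fin n) F) (ha : orderOf a = 2) :
    (a : Matrix (Fin n) (Fin n) F) * (a : Matrix (Fin n) (Fin n) F) = 1 := by
  have h := pow_orderOf_eq_one a
  rw [ha, pow_two] at h
  have := congrArg (fun x : Matrix.SpecialLinearGroup (Fin n) F => (x : Matrix (Fin n) (Fin n) F)) h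
  simpa using this

lemma coe_ne_one_of_orderOf {F : Type*} [Field F] {n : ℕ}
    (a : Matrix.SpecialLinearGroup (Fin n) F) (ha : orderOf a = 2) :
    (a : Matrix (Fin n) (Fin n) F) - 1 ≠ 0 := by
  intro h
  have h1 : a = 1 := by
    apply Subtype.ext
    rw [sub_eq_zero] at h
    rw [h]; rfl
  rw [h1, orderOf_one] at ha
  omega

/-- Conjugacy of involutions in the special linear group over a finite field of characteristic two, in dimension at least 3: two elements of order 2 of SL_n(F) are conjugate in SL_n(F) exactly when the matrices a − 1 and b − 1 have the same rank (the rank of a − 1 is the dimension of the commutator space [V, a]). -/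
theorem result {F : Type*} [Field F] [Fintype F] [CharP F 2] {n : ℕ} (hn : 3 ≤ n) (a b : Matrix.SpecialLinearGroup (Fin n) F) (ha : orderOf a = 2) (hb : orderOf b = 2) :
    IsConj a b ↔ ((a : Matrix (Fin n) (Fin n) F) - 1).rank = ((b : Matrix (Fin n) (Fin n) F) - 1).rank := by
  constructor
  · intro h
    obtain ⟨c, hc⟩ := isConj_iff.1 h
    have hb' : (b : Matrix (Fin n) (Fin n) F) - 1 =
        (c : Matrix (Fin n) (Fin n) F) * ((a : Matrix (Fin n) (Fin n) F) - 1) *
          ((c⁻¹ : Matrix.SpecialLinearGroup (Fin n) F) : Matrix (Fin n) (Fin n) F) := by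
      have hcc : (c : Matrix (Fin n) (Fin n) F) *
          ((c⁻¹ : Matrix.SpecialLinearGroup (Fin n) F) : Matrix (Fin n) (Fin n) F) = 1 := by
        rw [← Matrix.SpecialLinearGroup.coe_mul, mul_inv_cancel, Matrix.SpecialLinearGroup.coe_one]
      rw [mul_sub, sub_mul, mul_one, hcc, ← hc]
      simp only [Matrix.SpecialLinearGroup.coe_mul]
    rw [hb', Matrix.rank_mul_eq_left_of_isUnit_det _ _ (by rw [Matrix.SpecialLinearGroup.det_coe]; exact isUnit_one),
      Matrix.rank_mul_eq_right_of_isUnit_det _ _ (by rw [Matrix.SpecialLinearGroup.det_coe]; exact isUnit_one)]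
  · intro hr
    set A : Matrix (Fin n) (Fin n) F := (a : Matrix (Fin n) (Fin n) F) with hAdef
    set B : Matrix (Fin n) (Fin n) F := (b : Matrix (Fin n) (Fin n) F) with hBdef
    have hA2 : A * A = 1 := coe_mul_self_of_orderOf a ha
    have hB2 : B * B = 1 := coe_mul_self_of_orderOf b hb
    have hNA : (A - 1).mulVecLin ∘ₗ (A - 1).mulVecLin = 0 := by
      rw [← Matrix.mulVecLin_mul, sub_one_mul_self A hA2, Matrix.mulVecLin_zero]
    have hNB : (B - 1).mulVecLin ∘ₗ (B - 1).mulVecLin = 0 := by
      rw [← Matrix.mulVecLin_mul, sub_one_mul_self B hB2, Matrix.mulVecLin_zero]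
    have hsq : ∀ x : F, IsSquare x := FiniteField.isSquare_of_char_two (ringChar.eq F 2)
    have hpos : 0 < finrank F (LinearMap.range (A - 1).mulVecLin) := by
      rw [Nat.pos_iff_ne_zero]
      intro h0
      have h1 : LinearMap.range (A - 1).mulVecLin = ⊥ := Submodule.finrank_eq_zero.1 h0
      have h2 : (A - 1).mulVecLin = 0 := LinearMap.range_eq_bot.1 h1
      apply coe_ne_one_of_orderOf a ha
      have h3 : Matrix.toLin' (A - 1) = 0 := by rw [Matrix.toLin'_apply']; exact h2
      exact (LinearEquiv.map_eq_zero_iff _).1 h3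
    obtain ⟨T, hTdet, hTint⟩ := Cfsg.Agent.Lib.Helper43.exists_det_one_intertwining_of_sq_zero hsq
      (A - 1).mulVecLin (B - 1).mulVecLin hNA hNB hr hpos
    set C : Matrix (Fin n) (Fin n) F := LinearMap.toMatrix' (T : (Fin n → F) →ₗ[F] (Fin n → F))
      with hC
    have hCdet : C.det = 1 := by rw [hC, LinearMap.det_toMatrix', hTdet]
    have hCint : C * (A - 1) = (B - 1) * C := by
      have := congrArg LinearMap.toMatrix' hTint
      rw [LinearMap.toMatrix'_comp, LinearMap.toMatrix'_comp, ← Matrix.toLin'_apply',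
        ← Matrix.toLin'_apply', LinearMap.toMatrix'_toLin', LinearMap.toMatrix'_toLin'] at this
      exact this
    have hCAB : C * A = B * C := by
      rw [mul_sub, sub_mul, mul_one, one_mul] at hCint
      exact sub_left_injective hCint
    rw [isConj_iff]
    let c : Matrix.SpecialLinearGroup (Fin n) F := ⟨C, hCdet⟩
    refine ⟨c, ?_⟩
    rw [mul_inv_eq_iff_eq_mul]
    apply Subtype.ext
    exact hCAB

end Cfsg.Agent.S2162
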