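import Cfsg.Statements.S2163

set_option autoImplicit false
open Cfsg

namespace Cfsg.Agent.S2163

/-- the nilpotent part of `j_ℓ` -/
def Nmat (F : Type*) [Field F] (n ℓ : ℕ) : Matrix (Fin n) (Fin n) F :=
  Matrix.of (fun i j : Fin n => if j.val < ℓ ∧ i.val = j.val + (n - ℓ) then (1 : F) else 0)

lemma Nmat_mul_self (F : Type*) [Field F] (n ℓ : ℕ) (h2 : 2 * ℓ ≤ n) :
    Nmat F n ℓ * Nmat F n ℓ = 0 := by
  ext i k
  simp only [Nmat, Matrix.mul_apply, Matrix.of_apply, Matrix.zero_apply]
  apply Finset.sum_eq_zero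
  intro j _
  by_cases h : k.val < ℓ ∧ j.val = k.val + (n - ℓ)
  · have : ¬ (j.val < ℓ ∧ i.val = j.val + (n - ℓ)) := by omega
    simp [this]
  · simp [h]

lemma det_one_add_Nmat (F : Type*) [Field F] (n ℓ : ℕ) (h1 : 1 ≤ ℓ) (h2 : 2 * ℓ ≤ n) :
    (1 + Nmat F n ℓ).det = 1 := by
  rw [Matrix.det_of_isLowerTriangular]
  · apply Finset.prod_eq_one
    intro i _
    have : ¬ ((i : ℕ) < ℓ ∧ (i : ℕ) = (i : ℕ) + (n - ℓ)) := by omega
    simp only [Nmat, Matrix.add_apply, Matrix.one_apply_eq, Matrix.of_apply, if_neg this, add_zero]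
  · intro i j hij
    have hij' : i < j := by simpa using hij
    have hne : i ≠ j := ne_of_lt hij'
    have hlt : (i : ℕ) < (j : ℕ) := hij'
    have : ¬ ((j : ℕ) < ℓ ∧ (i : ℕ) = (j : ℕ) + (n - ℓ)) := by omega
    simp only [Nmat, Matrix.add_apply, Matrix.one_apply_ne hne, Matrix.of_apply, if_neg this,
      add_zero]

lemma rank_Nmat (F : Type*) [Field F] (n ℓ : ℕ) (h2 : 2 * ℓ ≤ n) :
    (Nmat F n ℓ).rank = ℓ := by
  have hℓn : ℓ ≤ n := by omega
  let f : Fin ℓ → Fin n := fun k => ⟨k.val + (n - ℓ), by have := k.isLt; omega⟩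
  let g : Fin ℓ → Fin n := fun k => ⟨k.val, by have := k.isLt; omega⟩
  apply le_antisymm
  · -- upper bound: factor through `Fin ℓ`
    let A : Matrix (Fin n) (Fin ℓ) F := Matrix.of fun i k => if i = f k then 1 else 0
    let B : Matrix (Fin ℓ) (Fin n) F := Matrix.of fun k j => if j = g k then 1 else 0
    have hAB : Nmat F n ℓ = A * B := by
      ext i j
      simp only [Nmat, Matrix.mul_apply, Matrix.of_apply, A, B]
      by_cases hj : (j : ℕ) < ℓ
      · rw [Finset.sum_eq_single (⟨j.val, hj⟩ : Fin ℓ)]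
        · have hg : j = g ⟨j.val, hj⟩ := by ext; rfl
          have hf : (i = f ⟨j.val, hj⟩) ↔ (i : ℕ) = (j : ℕ) + (n - ℓ) := by
            constructor
            · intro h; rw [h]
            · intro h; ext; exact h
          by_cases hi : (i : ℕ) = (j : ℕ) + (n - ℓ)
          · rw [if_pos ⟨hj, hi⟩, if_pos (hf.2 hi), if_pos hg, mul_one]
          · have : ¬ (i = f ⟨j.val, hj⟩) := fun h => hi (hf.1 h)
            rw [if_neg (fun h => hi h.2), if_neg this, zero_mul]
        · intro k _ hk
          have : ¬ (j = g k) := by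
            intro h
            apply hk
            ext
            have := congrArg Fin.val h
            simpa [g] using this.symm
          simp [this]
        · intro h; exact absurd (Finset.mem_univ _) h
      · have : ∀ k : Fin ℓ, ¬ (j = g k) := by
          intro k h
          apply hj
          have := congrArg Fin.val h
          have hk := k.isLt
          simp only [g] at this
          omega
        simp [hj, this]
    rw [hAB]
    exact (Matrix.rank_mul_le_left A B).trans (Matrix.rank_le_width A)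
  · -- lower bound: an identity submatrix
    have hsub : (Nmat F n ℓ).submatrix f g = (1 : Matrix (Fin ℓ) (Fin ℓ) F) := by
      ext a b
      simp only [Nmat, Matrix.submatrix_apply, Matrix.of_apply, Matrix.one_apply, f, g]
      have hb := b.isLt
      by_cases hab : a = b
      · subst hab; simp [hb]
      · have : ¬ ((b : ℕ) < ℓ ∧ (a : ℕ) + (n - ℓ) = (b : ℕ) + (n - ℓ)) := by
          rintro ⟨_, h⟩
          apply hab
          ext
          omega
        rw [if_neg this, if_neg hab]
    have := Matrix.rank_submatrix_le (Nmat F n ℓ) f g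
    rw [hsub, Matrix.rank_one, Fintype.card_fin] at this
    exact this

/-- Over a finite field of characteristic two and for n ≥ 3: for every ℓ with 1 ≤ ℓ and 2ℓ ≤ n, the matrix j_ℓ that is the identity plus the entries 1 in positions (n − ℓ + i, i) for i < ℓ (an identity block of size ℓ in the lower left corner) lies in SL_n(F), has order 2, and j_ℓ − 1 has rank ℓ. Together with the conjugacy criterion by rank, these matrices represent the conjugacy classes of involutions of SL_n(F). -/
theorem result {F : Type*} [Field F] [Fintype F] [CharP F 2] {n : ℕ} (hn : 3 ≤ n) (ℓ : ℕ) (h1 : 1 ≤ ℓ) (h2 : 2 * ℓ ≤ n) :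
    ∃ a : Matrix.SpecialLinearGroup (Fin n) F, (a : Matrix (Fin n) (Fin n) F) = 1 + Matrix.of (fun i j : Fin n => if j.val < ℓ ∧ i.val = j.val + (n - ℓ) then (1 : F) else 0) ∧ orderOf a = 2 ∧ ((a : Matrix (Fin n) (Fin n) F) - 1).rank = ℓ := by
  refine ⟨⟨1 + Nmat F n ℓ, det_one_add_Nmat F n ℓ h1 h2⟩, rfl, ?_, ?_⟩
  · have : Fact (Nat.Prime 2) := ⟨Nat.prime_two⟩
    apply orderOf_eq_prime
    · apply Subtype.ext
      show (1 + Nmat F n ℓ) ^ 2 = 1
      rw [pow_two, add_mul, mul_add, mul_add, Nmat_mul_self F n ℓ h2]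
      simp only [one_mul, mul_one, add_zero]
      rw [add_assoc]
      have hNN : Nmat F n ℓ + Nmat F n ℓ = 0 := by
        ext i j
        simp only [Matrix.add_apply, Matrix.zero_apply]
        exact CharTwo.add_self_eq_zero _
      rw [hNN, add_zero]
    · intro h
      have h' := congrArg (fun a : Matrix.SpecialLinearGroup (Fin n) F =>
        (a : Matrix (Fin n) (Fin n) F) ⟨n - ℓ, by omega⟩ ⟨0, by omega⟩) h
      have hne : (⟨n - ℓ, by omega⟩ : Fin n) ≠ ⟨0, by omega⟩ := by
        intro h0
        have := congrArg Fin.val h0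
        simp only at this
        omega
      have hpos : (0 : ℕ) < ℓ ∧ n - ℓ = 0 + (n - ℓ) := ⟨by omega, by omega⟩
      simp only [Matrix.SpecialLinearGroup.coe_one, Matrix.one_apply_ne hne] at h'
      change (1 + Nmat F n ℓ) ⟨n - ℓ, _⟩ ⟨0, _⟩ = 0 at h'
      simp only [Nmat, Matrix.add_apply, Matrix.one_apply_ne hne, Matrix.of_apply,
        zero_add] at h'
      rw [if_pos ⟨by omega, by trivial⟩] at h'
      exact one_ne_zero h'
  · show ((1 + Nmat F n ℓ) - 1).rank = ℓ
    rw [add_sub_cancel_left]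
    exact rank_Nmat F n ℓ h2

end Cfsg.Agent.S2163
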