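import Cfsg.Statements.S2164
import Cfsg.Agent.Lib.Helper43.UnitaryConj
import Cfsg.Agent.Lib.Helper19.Unitary
import Cfsg.Agent.S2162

set_option autoImplicit false
open Cfsg

namespace Cfsg.Agent.S2164

open Matrix Module Cfsg.Agent.Lib.Helper19 Cfsg.Agent.Lib.Helper43

/-- the hermitian form as a sesquilinear map -/
noncomputable def hermS {F : Type*} [Field F] [Fintype F] {q : ℕ} (hF : Fintype.card F = q ^ 2)
    (n : ℕ) : (Fin n → F) →ₗ[F] (Fin n → F) →ₛₗ[frobQ hF] F :=
  LinearMap.mk₂'ₛₗ (RingHom.id F) (frobQ hF) (Cfsg.hermForm n F q)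
    (fun x x' y => hermForm_add_left x x' y)
    (fun c x y => by rw [hermForm_smul_left]; rfl)
    (fun x y y' => hermForm_add_right hF x y y')
    (fun c x y => by rw [hermForm_smul_right, frobQ_apply]; rfl)

lemma hermS_apply {F : Type*} [Field F] [Fintype F] {q : ℕ} (hF : Fintype.card F = q ^ 2)
    (n : ℕ) (u v : Fin n → F) : hermS hF n u v = Cfsg.hermForm n F q u v := rfl

lemma hermS_nondeg {F : Type*} [Field F] [Fintype F] {q : ℕ} (hF : Fintype.card F = q ^ 2)
    (n : ℕ) (v : Fin n → F) (hv : ∀ u, hermS hF n u v = 0) : v = 0 := by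
  funext i
  have h1 := hv (Pi.single i 1)
  rw [hermS_apply] at h1
  unfold Cfsg.hermForm at h1
  rw [Finset.sum_eq_single i] at h1
  · simp only [Pi.single_eq_same, one_mul] at h1
    exact pow_eq_zero_iff (q_pos hF).ne' |>.1 h1
  · intro j _ hj
    simp [hj]
  · intro h; exact absurd (Finset.mem_univ i) h

/-- determinant of an isometry has norm one -/
lemma det_pow_of_isometry {F : Type*} [Field F] [Fintype F] {q n : ℕ}
    (hF : Fintype.card F = q ^ 2) (C : Matrix (Fin n) (Fin n) F)
    (hC : ∀ x y, Cfsg.hermForm n F q (C *ᵥ x) (C *ᵥ y) = Cfsg.hermForm n F q x y) :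
    C.det ^ (q + 1) = 1 := by
  have key : Cᵀ * (frobQ hF).mapMatrix C = 1 := by
    ext a b
    have h := hC (Pi.single a 1) (Pi.single b 1)
    have hq := (q_pos hF).ne'
    have hss : Cfsg.hermForm n F q (Pi.single a 1) (Pi.single b 1) = if a = b then 1 else 0 := by
      unfold Cfsg.hermForm
      rw [Finset.sum_eq_single a]
      · by_cases hab : a = b
        · subst hab; simp
        · simp [hab, hq]
      · intro i _ hi
        simp [Pi.single_apply, hi]
      · intro h; exact absurd (Finset.mem_univ a) h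
    rw [hss] at h
    rw [Matrix.one_apply, ← h]
    simp only [Matrix.mul_apply, Matrix.transpose_apply, RingHom.mapMatrix_apply, Matrix.map_apply,
      frobQ_apply, Cfsg.hermForm, Matrix.mulVec_single_one, Matrix.col_apply]
  have h := congrArg Matrix.det key
  rw [Matrix.det_mul, Matrix.det_transpose, ← RingHom.map_det, frobQ_apply, Matrix.det_one] at h
  rw [pow_succ']
  exact h

lemma su_preserves {F : Type*} [Field F] {n q : ℕ} (a : ↥(Cfsg.SU n F q)) (u v : Fin n → F) :
    Cfsg.hermForm n F q (((a : Matrix.SpecialLinearGroup (Fin n) F) : Matrix (Fin n) (Fin n) F) *ᵥ u)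
      (((a : Matrix.SpecialLinearGroup (Fin n) F) : Matrix (Fin n) (Fin n) F) *ᵥ v) =
      Cfsg.hermForm n F q u v := a.2 u v

lemma rank_eq_of_isConj_sl {F : Type*} [Field F] {n : ℕ}
    (a b : Matrix.SpecialLinearGroup (Fin n) F) (h : IsConj a b) :
    ((a : Matrix (Fin n) (Fin n) F) - 1).rank = ((b : Matrix (Fin n) (Fin n) F) - 1).rank := by
  obtain ⟨c, hc⟩ := isConj_iff.1 h
  have hb' : (b : Matrix (Fin n) (Fin n) F) - 1 =
      (c : Matrix (Fin n) (Fin n) F) * ((a : Matrix (Fin n) (Fin n) F) - 1) *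
        ((c⁻¹ : Matrix.SpecialLinearGroup (Fin n) F) : Matrix (Fin n) (Fin n) F) := by
    have hcc : (c : Matrix (Fin n) (Fin n) F) *
        ((c⁻¹ : Matrix.SpecialLinearGroup (Fin n) F) : Matrix (Fin n) (Fin n) F) = 1 := by
      rw [← Matrix.SpecialLinearGroup.coe_mul, mul_inv_cancel, Matrix.SpecialLinearGroup.coe_one]
    rw [mul_sub, sub_mul, mul_one, hcc, ← hc]
    simp only [Matrix.SpecialLinearGroup.coe_mul]
  rw [hb', Matrix.rank_mul_eq_left_of_isUnit_det _ _ (by rw [Matrix.SpecialLinearGroup.det_coe]; exact isUnit_one),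
    Matrix.rank_mul_eq_right_of_isUnit_det _ _ (by rw [Matrix.SpecialLinearGroup.det_coe]; exact isUnit_one)]

/-- the main step: involutions of `SU` of equal rank are conjugate in `SU` -/
lemma isConj_of_rank_eq {F : Type*} [Field F] [Fintype F] [CharP F 2] {n q : ℕ}
    (hF : Fintype.card F = q ^ 2) (a b : ↥(Cfsg.SU n F q)) (ha : orderOf a = 2) (hb : orderOf b = 2)
    (hr : (((a : Matrix.SpecialLinearGroup (Fin n) F) : Matrix (Fin n) (Fin n) F) - 1).rank =
      (((b : Matrix.SpecialLinearGroup (Fin n) F) : Matrix (Fin n) (Fin n) F) - 1).rank) :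
    IsConj a b := by
  have ha' : orderOf (a : Matrix.SpecialLinearGroup (Fin n) F) = 2 := by
    rw [Subgroup.orderOf_coe]; exact ha
  have hb' : orderOf (b : Matrix.SpecialLinearGroup (Fin n) F) = 2 := by
    rw [Subgroup.orderOf_coe]; exact hb
  set A : Matrix (Fin n) (Fin n) F := ((a : Matrix.SpecialLinearGroup (Fin n) F) : Matrix (Fin n) (Fin n) F) with hAdef
  set B : Matrix (Fin n) (Fin n) F := ((b : Matrix.SpecialLinearGroup (Fin n) F) : Matrix (Fin n) (Fin n) F) with hBdef
  have hA2 : A * A = 1 := Cfsg.Agent.S2162.coe_mul_self_of_orderOf _ ha'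
  have hB2 : B * B = 1 := Cfsg.Agent.S2162.coe_mul_self_of_orderOf _ hb'
  have hAh : ∀ u v, Cfsg.hermForm n F q (A *ᵥ u) (A *ᵥ v) = Cfsg.hermForm n F q u v := su_preserves a
  have hBh : ∀ u v, Cfsg.hermForm n F q (B *ᵥ u) (B *ᵥ v) = Cfsg.hermForm n F q u v := su_preserves b
  -- generic facts for an involution of SU
  have gen : ∀ (M : Matrix (Fin n) (Fin n) F), M * M = 1 →
      (∀ u v, Cfsg.hermForm n F q (M *ᵥ u) (M *ᵥ v) = Cfsg.hermForm n F q u v) →
      (∀ v, (M - 1).mulVecLin ((M - 1).mulVecLin v) = 0) ∧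
      (∀ u v, hermS hF n ((M - 1).mulVecLin u) v = hermS hF n u ((M - 1).mulVecLin v)) := by
    intro M hM2 hMh
    constructor
    · intro v
      simp only [Matrix.mulVecLin_apply, Matrix.mulVec_mulVec,
        Cfsg.Agent.S2162.sub_one_mul_self M hM2, Matrix.zero_mulVec]
    · intro u v
      have h1 : hermS hF n (M *ᵥ u) v = hermS hF n u (M *ᵥ v) := by
        have := hMh u (M *ᵥ v)
        rw [Matrix.mulVec_mulVec, hM2, Matrix.one_mulVec] at this
        exact this
      simp only [Matrix.mulVecLin_apply, Matrix.one_mulVec, map_sub,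
        LinearMap.sub_apply, h1]
  obtain ⟨hNa, hNah⟩ := gen A hA2 hAh
  obtain ⟨hNb, hNbh⟩ := gen B hB2 hBh
  have hpos : 0 < finrank F (LinearMap.range (A - 1).mulVecLin) := by
    rw [Nat.pos_iff_ne_zero]
    intro h0
    have h1 : LinearMap.range (A - 1).mulVecLin = ⊥ := Submodule.finrank_eq_zero.1 h0
    have h2 : (A - 1).mulVecLin = 0 := LinearMap.range_eq_bot.1 h1
    apply Cfsg.Agent.S2162.coe_ne_one_of_orderOf _ ha'
    have h3 : Matrix.toLin' (A - 1) = 0 := by rw [Matrix.toLin'_apply']; exact h2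
    exact (LinearEquiv.map_eq_zero_iff _).1 h3
  have hhconj : ∀ u v, frobQ hF (hermS hF n u v) = hermS hF n v u := by
    intro u v
    rw [hermS_apply, hermS_apply, frobQ_apply, hermForm_conj hF]
  obtain ⟨T, hTiso, hTint, hD⟩ := exists_isometry_intertwining hF (frobQ_apply hF) (hermS hF n)
    hhconj (hermS_nondeg hF n) (A - 1).mulVecLin (B - 1).mulVecLin hNa hNb hNah hNbh hr hpos
  -- determinant of T
  set C0 : Matrix (Fin n) (Fin n) F := LinearMap.toMatrix' T with hC0
  have hC0iso : ∀ x y, Cfsg.hermForm n F q (C0 *ᵥ x) (C0 *ᵥ y) = Cfsg.hermForm n F q x y := by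
    intro x y
    rw [hC0, LinearMap.toMatrix'_mulVec, LinearMap.toMatrix'_mulVec]
    exact hTiso x y
  have hdet0 : (LinearMap.det T) ^ (q + 1) = 1 := by
    rw [← LinearMap.det_toMatrix']; exact det_pow_of_isometry hF C0 hC0iso
  have hdetne : LinearMap.det T ≠ 0 := by
    intro h0; rw [h0, zero_pow (Nat.succ_ne_zero q)] at hdet0; exact zero_ne_one hdet0
  have hdetinv : ((LinearMap.det T)⁻¹) ^ (q + 1) = 1 := by rw [inv_pow, hdet0, inv_one]
  obtain ⟨μ, hμ1, hμ2⟩ := exists_sq_norm_one (q := q) _ hdetinv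
  obtain ⟨D, hDiso, hDint, hDdet⟩ := hD μ hμ1
  obtain ⟨T', hT'⟩ : ∃ T' : (Fin n → F) →ₗ[F] (Fin n → F), T' = D ∘ₗ T := ⟨_, rfl⟩
  have hT'det : LinearMap.det T' = 1 := by
    rw [hT', LinearMap.det_comp, hDdet, hμ2, inv_mul_cancel₀ hdetne]
  set C : Matrix (Fin n) (Fin n) F := LinearMap.toMatrix' T' with hC
  have hCdet : C.det = 1 := by rw [hC, LinearMap.det_toMatrix', hT'det]
  have hCiso : ∀ x y, Cfsg.hermForm n F q (C *ᵥ x) (C *ᵥ y) = Cfsg.hermForm n F q x y := by
    intro x y
    rw [hC, LinearMap.toMatrix'_mulVec, LinearMap.toMatrix'_mulVec, hT']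
    simp only [LinearMap.comp_apply]
    have := hDiso (T x) (T y)
    rw [hermS_apply] at this
    rw [this]
    exact hTiso x y
  have hT'int : T' ∘ₗ (A - 1).mulVecLin = (B - 1).mulVecLin ∘ₗ T' := by
    apply LinearMap.ext
    intro v
    simp only [hT', LinearMap.comp_apply, hTint, hDint]
  have hCint : C * (A - 1) = (B - 1) * C := by
    have := congrArg LinearMap.toMatrix' hT'int
    rw [LinearMap.toMatrix'_comp, LinearMap.toMatrix'_comp, ← Matrix.toLin'_apply',
      ← Matrix.toLin'_apply', LinearMap.toMatrix'_toLin', LinearMap.toMatrix'_toLin'] at this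
    exact this
  have hCAB : C * A = B * C := by
    rw [mul_sub, sub_mul, mul_one, one_mul] at hCint
    exact sub_left_injective hCint
  rw [isConj_iff]
  let c : Matrix.SpecialLinearGroup (Fin n) F := ⟨C, hCdet⟩
  have hcSU : c ∈ Cfsg.SU n F q := fun u v => hCiso u v
  refine ⟨⟨c, hcSU⟩, ?_⟩
  rw [mul_inv_eq_iff_eq_mul]
  apply Subtype.ext
  apply Subtype.ext
  exact hCAB

/-- Conjugacy of involutions in the special unitary group SU_n(q), q even, n ≥ 3, realised over the field F with q² elements as the matrices of determinant 1 preserving the form Σ u_i v_i^q: for two elements of order 2 of SU_n(q) the following are equivalent — they are conjugate in SU_n(q); they are conjugate in SL_n(F); the matrices a − 1 and b − 1 have the same rank. -/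
theorem result {F : Type*} [Field F] [Fintype F] [CharP F 2] {n q : ℕ} (hF : Fintype.card F = q ^ 2) (hn : 3 ≤ n) (a b : ↥(Cfsg.SU n F q)) (ha : orderOf a = 2) (hb : orderOf b = 2) :
    (IsConj a b ↔ IsConj (a : Matrix.SpecialLinearGroup (Fin n) F) (b : Matrix.SpecialLinearGroup (Fin n) F)) ∧
    (IsConj a b ↔ (((a : Matrix.SpecialLinearGroup (Fin n) F) : Matrix (Fin n) (Fin n) F) - 1).rank = (((b : Matrix.SpecialLinearGroup (Fin n) F) : Matrix (Fin n) (Fin n) F) - 1).rank) := by
  have key : IsConj a b ↔ (((a : Matrix.SpecialLinearGroup (Fin n) F) : Matrix (Fin n) (Fin n) F) - 1).rank = (((b : Matrix.SpecialLinearGroup (Fin n) F) : Matrix (Fin n) (Fin n) F) - 1).rank := by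
    constructor
    · intro h
      apply rank_eq_of_isConj_sl
      obtain ⟨c, hc⟩ := isConj_iff.1 h
      rw [isConj_iff]
      refine ⟨(c : Matrix.SpecialLinearGroup (Fin n) F), ?_⟩
      rw [← hc]
      rfl
    · exact isConj_of_rank_eq hF a b ha hb
  have ha' : orderOf (a : Matrix.SpecialLinearGroup (Fin n) F) = 2 := by
    rw [Subgroup.orderOf_coe]; exact ha
  have hb' : orderOf (b : Matrix.SpecialLinearGroup (Fin n) F) = 2 := by
    rw [Subgroup.orderOf_coe]; exact hb
  refine ⟨?_, key⟩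
  rw [key]
  exact (Cfsg.Agent.S2162.result hn _ _ ha' hb').symm

end Cfsg.Agent.S2164
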