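import Cfsg.Statements.S2165

set_option autoImplicit false
open Cfsg

namespace Cfsg.Agent.S2165

/-- the involution of `{0, …, n-1}` exchanging `i` and `n - ℓ + i` for `i < ℓ`, on naturals -/
def sw (n ℓ i : ℕ) : ℕ := if i < ℓ then i + (n - ℓ) else if n - ℓ ≤ i then i - (n - ℓ) else i

lemma sw_lt {n ℓ i : ℕ} (h2 : 2 * ℓ ≤ n) (hi : i < n) : sw n ℓ i < n := by
  unfold sw; split_ifs <;> omega

lemma sw_sw {n ℓ i : ℕ} (h2 : 2 * ℓ ≤ n) (hi : i < n) : sw n ℓ (sw n ℓ i) = i := by
  unfold sw; split_ifs <;> omega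

/-- the involution on `Fin n` -/
def σ (n ℓ : ℕ) (h2 : 2 * ℓ ≤ n) (i : Fin n) : Fin n := ⟨sw n ℓ i.val, sw_lt h2 i.isLt⟩

lemma σ_σ (n ℓ : ℕ) (h2 : 2 * ℓ ≤ n) (i : Fin n) : σ n ℓ h2 (σ n ℓ h2 i) = i := by
  ext; exact sw_sw h2 i.isLt

/-- the matrix of the statement -/
def Mmat (F : Type*) [Field F] (n ℓ : ℕ) : Matrix (Fin n) (Fin n) F :=
  Matrix.of (fun i j : Fin n => if (j.val < ℓ ∧ i.val = j.val + (n - ℓ)) ∨ (i.val < ℓ ∧ j.val = i.val + (n - ℓ)) ∨ (i = j ∧ ℓ ≤ i.val ∧ i.val < n - ℓ) then (1 : F) else 0)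

lemma Mmat_eq (F : Type*) [Field F] (n ℓ : ℕ) (h2 : 2 * ℓ ≤ n) :
    Mmat F n ℓ = Matrix.of (fun i j : Fin n => if j = σ n ℓ h2 i then (1 : F) else 0) := by
  ext i j
  simp only [Mmat, Matrix.of_apply]
  have hi := i.isLt
  have hj := j.isLt
  have : ((j.val < ℓ ∧ i.val = j.val + (n - ℓ)) ∨ (i.val < ℓ ∧ j.val = i.val + (n - ℓ)) ∨ (i = j ∧ ℓ ≤ i.val ∧ i.val < n - ℓ)) ↔ j = σ n ℓ h2 i := by
    rw [Fin.ext_iff, Fin.ext_iff]
    simp only [σ, sw]
    split_ifs <;> omega
  by_cases h : j = σ n ℓ h2 i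
  · rw [if_pos h, if_pos (this.2 h)]
  · rw [if_neg h, if_neg (fun h' => h (this.1 h'))]

lemma Mmat_mulVec (F : Type*) [Field F] (n ℓ : ℕ) (h2 : 2 * ℓ ≤ n) (u : Fin n → F) (i : Fin n) :
    (Mmat F n ℓ).mulVec u i = u (σ n ℓ h2 i) := by
  rw [Mmat_eq F n ℓ h2]
  simp only [Matrix.mulVec, dotProduct, Matrix.of_apply]
  rw [Finset.sum_eq_single (σ n ℓ h2 i)]
  · simp
  · intro j _ hj
    simp [hj]
  · intro h; exact absurd (Finset.mem_univ _) h

lemma Mmat_mul_self (F : Type*) [Field F] (n ℓ : ℕ) (h2 : 2 * ℓ ≤ n) :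
    Mmat F n ℓ * Mmat F n ℓ = 1 := by
  apply Matrix.toLin'.injective
  apply LinearMap.ext
  intro u
  funext i
  rw [Matrix.toLin'_mul, LinearMap.comp_apply, Matrix.toLin'_apply, Matrix.toLin'_apply,
    Mmat_mulVec F n ℓ h2, Mmat_mulVec F n ℓ h2, σ_σ]
  simp

lemma det_Mmat (F : Type*) [Field F] [CharP F 2] (n ℓ : ℕ) (h2 : 2 * ℓ ≤ n) :
    (Mmat F n ℓ).det = 1 := by
  have h : (Mmat F n ℓ).det * (Mmat F n ℓ).det = 1 := by
    rw [← Matrix.det_mul, Mmat_mul_self F n ℓ h2, Matrix.det_one]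
  have h' : ((Mmat F n ℓ).det + 1) ^ 2 = 0 := by
    rw [CharTwo.add_sq, ← pow_two] at *
    rw [h, one_pow]
    exact CharTwo.add_self_eq_zero _
  have := pow_eq_zero_iff (two_ne_zero) |>.1 h'
  exact (CharTwo.add_eq_zero.1 this)

lemma rank_Mmat_sub_one (F : Type*) [Field F] (n ℓ : ℕ) (h2 : 2 * ℓ ≤ n) :
    (Mmat F n ℓ - 1).rank = ℓ := by
  have hℓn : ℓ ≤ n := by omega
  apply le_antisymm
  · let A : Matrix (Fin n) (Fin ℓ) F := Matrix.of fun i k =>
      if i.val = k.val + (n - ℓ) then 1 else if i.val = k.val then -1 else 0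
    let B : Matrix (Fin ℓ) (Fin n) F := Matrix.of fun k j =>
      if j.val = k.val then 1 else if j.val = k.val + (n - ℓ) then -1 else 0
    have hAB : Mmat F n ℓ - 1 = A * B := by
      rw [Mmat_eq F n ℓ h2]
      ext i j
      simp only [Matrix.sub_apply, Matrix.mul_apply, Matrix.of_apply, A, B, Matrix.one_apply]
      have hi := i.isLt
      have hj := j.isLt
      have hσ : (j = σ n ℓ h2 i) ↔ j.val = sw n ℓ i.val := by
        rw [Fin.ext_iff]; rfl
      have hij : (i = j) ↔ i.val = j.val := Fin.ext_iff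
      by_cases c1 : i.val < ℓ
      · rw [Finset.sum_eq_single (⟨i.val, c1⟩ : Fin ℓ)]
        · simp only [hσ, hij, sw, if_pos c1]
          split_ifs <;> first | omega | simp
        · intro k _ hk
          have hk' : ¬ (i.val = k.val) := fun h => hk (Fin.ext h.symm)
          have hk'' : ¬ (i.val = k.val + (n - ℓ)) := by have := k.isLt; omega
          rw [if_neg hk'', if_neg hk', zero_mul]
        · intro h; exact absurd (Finset.mem_univ _) h
      · by_cases c2 : n - ℓ ≤ i.val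
        · rw [Finset.sum_eq_single (⟨i.val - (n - ℓ), by omega⟩ : Fin ℓ)]
          · simp only [hσ, hij, sw, if_neg c1, if_pos c2]
            split_ifs <;> first | omega | simp
          · intro k _ hk
            have hk'' : ¬ (i.val = k.val + (n - ℓ)) := by
              intro h
              apply hk
              ext
              simp only
              omega
            have hk' : ¬ (i.val = k.val) := by have := k.isLt; omega
            rw [if_neg hk'', if_neg hk', zero_mul]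
          · intro h; exact absurd (Finset.mem_univ _) h
        · rw [Finset.sum_eq_zero]
          · simp only [hσ, hij, sw, if_neg c1, if_neg c2]
            split_ifs <;> first | omega | simp
          · intro k _
            have hk'' : ¬ (i.val = k.val + (n - ℓ)) := by omega
            have hk' : ¬ (i.val = k.val) := by have := k.isLt; omega
            rw [if_neg hk'', if_neg hk', zero_mul]
    rw [hAB]
    exact (Matrix.rank_mul_le_left A B).trans (Matrix.rank_le_width A)
  · let f : Fin ℓ → Fin n := fun k => ⟨k.val + (n - ℓ), by have := k.isLt; omega⟩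
    let g : Fin ℓ → Fin n := fun k => ⟨k.val, by have := k.isLt; omega⟩
    have hsub : (Mmat F n ℓ - 1).submatrix f g = (1 : Matrix (Fin ℓ) (Fin ℓ) F) := by
      ext a b
      have ha := a.isLt
      have hb := b.isLt
      have hne : f a ≠ g b := by
        intro h
        have := congrArg Fin.val h
        simp only [f, g] at this
        omega
      simp only [Mmat, Matrix.submatrix_apply, Matrix.sub_apply, Matrix.of_apply,
        Matrix.one_apply_ne hne, sub_zero]
      by_cases hab : a = b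
      · subst hab
        rw [Matrix.one_apply_eq, if_pos (Or.inl ⟨ha, rfl⟩)]
      · rw [Matrix.one_apply_ne hab, if_neg]
        have hab' : a.val ≠ b.val := fun h => hab (Fin.ext h)
        simp only [f, g, Fin.ext_iff]
        omega
    have := Matrix.rank_submatrix_le (Mmat F n ℓ - 1) f g
    rw [hsub, Matrix.rank_one, Fintype.card_fin] at this
    exact this

/-- In SU_n(q), q even, n ≥ 3 (matrices of determinant 1 over the field with q² elements preserving Σ u_i v_i^q): for every ℓ with 1 ≤ ℓ and 2ℓ ≤ n, the permutation matrix of the involution of {0, …, n−1} exchanging i and n − ℓ + i for each i < ℓ lies in SU_n(q), has order 2, and differs from the identity by a matrix of rank ℓ. So every rank between 1 and n/2 occurs for involutions of SU_n(q). -/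
theorem result {F : Type*} [Field F] [Fintype F] [CharP F 2] {n q : ℕ} (hF : Fintype.card F = q ^ 2) (hn : 3 ≤ n) (ℓ : ℕ) (h1 : 1 ≤ ℓ) (h2 : 2 * ℓ ≤ n) :
    ∃ a : ↥(Cfsg.SU n F q), (((a : Matrix.SpecialLinearGroup (Fin n) F) : Matrix (Fin n) (Fin n) F) = Matrix.of (fun i j : Fin n => if (j.val < ℓ ∧ i.val = j.val + (n - ℓ)) ∨ (i.val < ℓ ∧ j.val = i.val + (n - ℓ)) ∨ (i = j ∧ ℓ ≤ i.val ∧ i.val < n - ℓ) then (1 : F) else 0)) ∧ orderOf a = 2 ∧ ((((a : Matrix.SpecialLinearGroup (Fin n) F) : Matrix (Fin n) (Fin n) F)) - 1).rank = ℓ := by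
  have hmem : (⟨Mmat F n ℓ, det_Mmat F n ℓ h2⟩ : Matrix.SpecialLinearGroup (Fin n) F) ∈ Cfsg.SU n F q := by
    intro u v
    show hermForm n F q ((Mmat F n ℓ).mulVec u) ((Mmat F n ℓ).mulVec v) = hermForm n F q u v
    unfold hermForm
    simp only [Mmat_mulVec F n ℓ h2]
    exact Equiv.sum_comp (Function.Involutive.toPerm (σ n ℓ h2) (σ_σ n ℓ h2)) (fun i => u i * v i ^ q)
  refine ⟨⟨⟨Mmat F n ℓ, det_Mmat F n ℓ h2⟩, hmem⟩, rfl, ?_, ?_⟩
  · have : Fact (Nat.Prime 2) := ⟨Nat.prime_two⟩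
    apply orderOf_eq_prime
    · apply Subtype.ext
      apply Subtype.ext
      show (Mmat F n ℓ) ^ 2 = 1
      rw [pow_two, Mmat_mul_self F n ℓ h2]
    · intro h
      have h' := congrArg (fun a : ↥(Cfsg.SU n F q) =>
        ((a : Matrix.SpecialLinearGroup (Fin n) F) : Matrix (Fin n) (Fin n) F) ⟨n - ℓ, by omega⟩ ⟨0, by omega⟩) h
      have hne : (⟨n - ℓ, by omega⟩ : Fin n) ≠ ⟨0, by omega⟩ := by
        intro h0
        have := congrArg Fin.val h0
        simp only at this
        omega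
      simp only [Subgroup.coe_one, Matrix.SpecialLinearGroup.coe_one, Matrix.one_apply_ne hne] at h'
      change (Mmat F n ℓ) ⟨n - ℓ, _⟩ ⟨0, _⟩ = 0 at h'
      simp only [Mmat, Matrix.of_apply] at h'
      rw [if_pos (Or.inl ⟨by omega, by omega⟩)] at h'
      exact one_ne_zero h'
  · exact rank_Mmat_sub_one F n ℓ h2

end Cfsg.Agent.S2165
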