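import Cfsg.Statements.S2168
import Cfsg.Agent.Lib.Helper43.OrthInvol

set_option autoImplicit false
open Cfsg

namespace Cfsg.Agent.S2168

open Matrix Cfsg.Agent.Lib.Helper43

/-- generic statement for a quadratic form given as a plain function -/
theorem conj_iff_generic {F : Type*} [Field F] {ι : Type} [Fintype ι] [DecidableEq ι]
    (R : (ι → F) → F) (Qf : QuadraticForm F (ι → F)) (hQR : ∀ v, Qf v = R v)
    (hQ : (QuadraticMap.polarBilin Qf).Nondegenerate)
    (t s : ↥(Cfsg.isometryGroup F R)) (ht : orderOf t = 2) (hs : orderOf s = 2) :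
    IsConj t s ↔ ∃ g ∈ Cfsg.preserving (Units.coeHom (Matrix ι ι F))
      (fun u v => R (u + v) - R u - R v),
      g * ((t : ↥(Cfsg.isometryGroup F R)) : GL ι F) * g⁻¹ =
        ((s : ↥(Cfsg.isometryGroup F R)) : GL ι F) := by
  constructor
  · intro h
    obtain ⟨c, hc⟩ := isConj_iff.1 h
    refine ⟨(c : GL ι F), ?_, ?_⟩
    · intro u v
      have hcu := c.2
      show R (((c : GL ι F) : Matrix ι ι F) *ᵥ u + ((c : GL ι F) : Matrix ι ι F) *ᵥ v) -
        R (((c : GL ι F) : Matrix ι ι F) *ᵥ u) - R (((c : GL ι F) : Matrix ι ι F) *ᵥ v) = _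
      rw [← Matrix.mulVec_add]
      have h1 : ∀ w, R (((c : GL ι F) : Matrix ι ι F) *ᵥ w) = R w := fun w => hcu w w
      rw [h1, h1, h1]
    · rw [← hc]; rfl
  · rintro ⟨g, hg, hgts⟩
    set T : Matrix ι ι F := ((t : GL ι F) : Matrix ι ι F) with hTdef
    set S : Matrix ι ι F := ((s : GL ι F) : Matrix ι ι F) with hSdef
    set G : Matrix ι ι F := (g : Matrix ι ι F) with hGdef
    set Gi : Matrix ι ι F := ((g⁻¹ : GL ι F) : Matrix ι ι F) with hGidef
    have hG1 : G * Gi = 1 := by
      rw [hGdef, hGidef, ← Units.val_mul, mul_inv_cancel]; rfl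
    have hG2 : Gi * G = 1 := by
      rw [hGdef, hGidef, ← Units.val_mul, inv_mul_cancel]; rfl
    have hsq : ∀ (x : ↥(Cfsg.isometryGroup F R)), orderOf x = 2 →
        ((x : GL ι F) : Matrix ι ι F) * ((x : GL ι F) : Matrix ι ι F) = 1 := by
      intro x hx
      have h := pow_orderOf_eq_one x
      rw [hx, pow_two] at h
      have h2 := congrArg (fun y : ↥(Cfsg.isometryGroup F R) => ((y : GL ι F) : Matrix ι ι F)) h
      simpa using h2
    have hT2 : T * T = 1 := hsq t ht
    have hS2 : S * S = 1 := hsq s hs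
    have hT : ∀ v, Qf (T *ᵥ v) = Qf v := by
      intro v; rw [hQR, hQR]; exact t.2 v v
    have hS : ∀ v, Qf (S *ᵥ v) = Qf v := by
      intro v; rw [hQR, hQR]; exact s.2 v v
    have hGpol : ∀ u v, QuadraticMap.polarBilin Qf (G *ᵥ u) (G *ᵥ v) =
        QuadraticMap.polarBilin Qf u v := by
      intro u v
      rw [QuadraticMap.polarBilin_apply_apply, QuadraticMap.polarBilin_apply_apply]
      unfold QuadraticMap.polar
      rw [hQR, hQR, hQR, hQR, hQR, hQR]
      exact hg u v
    have hGTS : G * T = S * G := by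
      have h1 : g * (t : GL ι F) = (s : GL ι F) * g := by rw [← hgts]; group
      have h2 := congrArg (fun y : GL ι F => (y : Matrix ι ι F)) h1
      simpa using h2
    obtain ⟨C, hCdet, hCiso, hCTS⟩ := exists_isometry_conj_of_polar_conj Qf hQ T S G Gi hG1 hG2
      hT2 hS2 hT hS hGpol hGTS
    let c : GL ι F := Matrix.nonsingInvUnit C hCdet
    have hcmem : c ∈ Cfsg.isometryGroup F R := by
      intro u v
      show R (C *ᵥ u) = R u
      rw [← hQR, ← hQR]; exact hCiso u
    rw [isConj_iff]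
    refine ⟨⟨c, hcmem⟩, ?_⟩
    rw [mul_inv_eq_iff_eq_mul]
    apply Subtype.ext
    apply Units.ext
    exact hCTS

/-- Involutions in the full isometry group O of the hyperbolic quadratic form Σ x_i y_i in dimension 2m over a finite field F of characteristic two, m ≥ 4 (plus type): two elements of order 2 of O are conjugate in O exactly when they are conjugate under the group of all invertible matrices preserving the polar bilinear form (u, v) ↦ Q(u + v) − Q(u) − Q(v) (the symplectic group of that form). -/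
theorem result {F : Type*} [Field F] [Fintype F] [CharP F 2] {m : ℕ} (hm : 4 ≤ m) (t s : ↥(Cfsg.isometryGroup F (Cfsg.quadFormPlus m F))) (ht : orderOf t = 2) (hs : orderOf s = 2) :
    IsConj t s ↔ ∃ g ∈ Cfsg.preserving (Units.coeHom (Matrix (Fin m ⊕ Fin m) (Fin m ⊕ Fin m) F)) (fun u v => Cfsg.quadFormPlus m F (u + v) - Cfsg.quadFormPlus m F u - Cfsg.quadFormPlus m F v), g * ((t : ↥(Cfsg.isometryGroup F (Cfsg.quadFormPlus m F))) : GL (Fin m ⊕ Fin m) F) * g⁻¹ = ((s : ↥(Cfsg.isometryGroup F (Cfsg.quadFormPlus m F))) : GL (Fin m ⊕ Fin m) F) := by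
  have hdet : (Matrix.fromBlocks (0 : Matrix (Fin m) (Fin m) F) (1 : Matrix (Fin m) (Fin m) F)
      (1 : Matrix (Fin m) (Fin m) F) (0 : Matrix (Fin m) (Fin m) F)).det ≠ 0 := by
    rw [Cfsg.Agent.Lib.Helper50.det_hyp]
    exact pow_ne_zero _ (neg_ne_zero.mpr one_ne_zero)
  have hsm : ∀ (a : F) (x : Fin m ⊕ Fin m → F),
      Cfsg.quadFormPlus m F (a • x) = a * a * Cfsg.quadFormPlus m F x := by
    intro a x
    simp only [Cfsg.quadFormPlus, Pi.smul_apply, smul_eq_mul, Finset.mul_sum]
    refine Finset.sum_congr rfl fun i _ => ?_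
    ring
  exact conj_iff_generic (Cfsg.quadFormPlus m F)
    (qfOfPolar' (Cfsg.quadFormPlus m F) _ hsm (Cfsg.Agent.Lib.Helper50.polar_quadFormPlus m))
    (fun v => rfl)
    (qfOfPolar'_nondegenerate _ _ hsm (Cfsg.Agent.Lib.Helper50.polar_quadFormPlus m) hdet)
    t s ht hs

end Cfsg.Agent.S2168
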