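import Cfsg.Statements.S2170
import Cfsg.Agent.S2168

set_option autoImplicit false
open Cfsg

namespace Cfsg.Agent.S2170

open Matrix Cfsg.Agent.Lib.Helper43

/-- in characteristic two over a finite field, an anisotropic binary form has non-zero middle coefficient -/
lemma middle_ne_zero {F : Type*} [Field F] [Fintype F] [CharP F 2] (c d : F)
    (hcd : ∀ z₁ z₂ : F, z₁ ^ 2 + c * z₁ * z₂ + d * z₂ ^ 2 = 0 → z₁ = 0 ∧ z₂ = 0) : c ≠ 0 := by
  intro hc
  obtain ⟨e, he⟩ := FiniteField.isSquare_of_char_two (ringChar.eq F 2) d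
  have h := hcd e 1 (by
    rw [hc, he]
    have : e * e + e * e = 0 := CharTwo.add_self_eq_zero _
    linear_combination this)
  exact one_ne_zero h.2

lemma minus_smul {F : Type*} [Field F] (m : ℕ) (a' b' : F) (a : F) (x : (Fin m ⊕ Fin m) ⊕ Fin 2 → F) :
    Cfsg.quadFormMinus m F a' b' (a • x) = a * a * Cfsg.quadFormMinus m F a' b' x := by
  simp only [Cfsg.quadFormMinus, Pi.smul_apply, smul_eq_mul, mul_add, Finset.mul_sum]
  congr 1
  · refine Finset.sum_congr rfl fun i _ => ?_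
    ring
  · ring

/-- Involutions in the full isometry group O of the quadratic form Σ x_i y_i + (z₁² + c z₁ z₂ + d z₂²) in dimension 2m with anisotropic binary part over a finite field F of characteristic two, m ≥ 4 (minus type): two elements of order 2 of O are conjugate in O exactly when they are conjugate under the group of all invertible matrices preserving the polar bilinear form (u, v) ↦ Q(u + v) − Q(u) − Q(v) (the symplectic group of that form). -/
theorem result {F : Type*} [Field F] [Fintype F] [CharP F 2] {m : ℕ} (hm : 4 ≤ m) (c d : F) (hcd : ∀ z₁ z₂ : F, z₁ ^ 2 + c * z₁ * z₂ + d * z₂ ^ 2 = 0 → z₁ = 0 ∧ z₂ = 0) (t s : ↥(Cfsg.isometryGroup F (Cfsg.quadFormMinus (m - 1) F c d))) (ht : orderOf t = 2) (hs : orderOf s = 2) :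
    IsConj t s ↔ ∃ g ∈ Cfsg.preserving (Units.coeHom (Matrix ((Fin (m - 1) ⊕ Fin (m - 1)) ⊕ Fin 2) ((Fin (m - 1) ⊕ Fin (m - 1)) ⊕ Fin 2) F)) (fun u v => Cfsg.quadFormMinus (m - 1) F c d (u + v) - Cfsg.quadFormMinus (m - 1) F c d u - Cfsg.quadFormMinus (m - 1) F c d v), g * ((t : ↥(Cfsg.isometryGroup F (Cfsg.quadFormMinus (m - 1) F c d))) : GL ((Fin (m - 1) ⊕ Fin (m - 1)) ⊕ Fin 2) F) * g⁻¹ = ((s : ↥(Cfsg.isometryGroup F (Cfsg.quadFormMinus (m - 1) F c d))) : GL ((Fin (m - 1) ⊕ Fin (m - 1)) ⊕ Fin 2) F) := by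
  have hc := middle_ne_zero c d hcd
  have hdet : (Matrix.fromBlocks
        (Matrix.fromBlocks (0 : Matrix (Fin (m - 1)) (Fin (m - 1)) F) (1 : Matrix (Fin (m - 1)) (Fin (m - 1)) F)
        (1 : Matrix (Fin (m - 1)) (Fin (m - 1)) F) (0 : Matrix (Fin (m - 1)) (Fin (m - 1)) F))
        (0 : Matrix (Fin (m - 1) ⊕ Fin (m - 1)) (Fin 2) F) (0 : Matrix (Fin 2) (Fin (m - 1) ⊕ Fin (m - 1)) F)
        (!![2, c; c, 2 * d] : Matrix (Fin 2) (Fin 2) F)).det ≠ 0 := by
    rw [Cfsg.Agent.Lib.Helper50.det_minus_gram]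
    have h2 : (2 : F) = 0 := CharTwo.two_eq_zero
    have h4 : (4 : F) = 0 := by
      have : (4 : F) = 2 * 2 := by norm_num
      rw [this, h2, mul_zero]
    rw [h4, zero_mul, sub_zero]
    exact mul_ne_zero (pow_ne_zero _ (neg_ne_zero.mpr one_ne_zero)) (pow_ne_zero _ hc)
  exact Cfsg.Agent.S2168.conj_iff_generic (Cfsg.quadFormMinus (m - 1) F c d)
    (qfOfPolar' (Cfsg.quadFormMinus (m - 1) F c d) _ (minus_smul (m - 1) c d)
      (Cfsg.Agent.Lib.Helper50.polar_quadFormMinus (m - 1) c d))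
    (fun v => rfl)
    (qfOfPolar'_nondegenerate _ _ (minus_smul (m - 1) c d)
      (Cfsg.Agent.Lib.Helper50.polar_quadFormMinus (m - 1) c d) hdet)
    t s ht hs

end Cfsg.Agent.S2170
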