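import Cfsg.Statements.S2173
import Cfsg.Agent.Lib.Helper43.OrthSingular

set_option autoImplicit false
open Cfsg

namespace Cfsg.Agent.S2173

/-- For the quadratic form Σ x_i y_i + (z₁² + c z₁ z₂ + d z₂²) in dimension 2m with anisotropic binary part over a finite field F of characteristic two, m ≥ 4 (minus type): two involutions of the commutator subgroup Ω that are conjugate in the full isometry group O are conjugate by an element of Ω (no class of involutions of O inside Ω splits). -/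
theorem result {F : Type*} [Field F] [Fintype F] [CharP F 2] {m : ℕ} (hm : 4 ≤ m) (c d : F) (hcd : ∀ z₁ z₂ : F, z₁ ^ 2 + c * z₁ * z₂ + d * z₂ ^ 2 = 0 → z₁ = 0 ∧ z₂ = 0) (t s : ↥(Cfsg.isometryGroup F (Cfsg.quadFormMinus (m - 1) F c d))) (ht : orderOf t = 2) (hs : orderOf s = 2) (htO : t ∈ Cfsg.Omega F (Cfsg.quadFormMinus (m - 1) F c d)) (hsO : s ∈ Cfsg.Omega F (Cfsg.quadFormMinus (m - 1) F c d)) (hconj : IsConj t s) :
    ∃ g ∈ Cfsg.Omega F (Cfsg.quadFormMinus (m - 1) F c d), g * t * g⁻¹ = s := by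
  have hc := Cfsg.Agent.Lib.Helper43.middle_ne_zero' c d hcd
  have hcard : Fintype.card ((Fin (m - 1) ⊕ Fin (m - 1)) ⊕ Fin 2) = 2 * m := by
    rw [Fintype.card_sum, Fintype.card_sum, Fintype.card_fin, Fintype.card_fin]; omega
  have hQ := Cfsg.Agent.Lib.Helper43.qfMinus_nondegenerate (m - 1) F c d hc
  have hgen := Cfsg.Agent.Lib.Helper43.reflGenerated_char_two
    (Cfsg.Agent.Lib.Helper43.qfMinus (m - 1) F c d) hQ (Or.inr (by rw [hcard]; omega))
  have ht2 : t * t = 1 := by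
    have := pow_orderOf_eq_one t
    rw [ht] at this
    rw [← pow_two]; exact this
  have hfix := Cfsg.Agent.Lib.Helper43.card_le_two_mul_finrank_fixSpace
    (Cfsg.Agent.Lib.Helper43.qfMinus (m - 1) F c d) t ht2
  rw [hcard] at hfix
  obtain ⟨w, hwfix, hw⟩ := Cfsg.Agent.Lib.Helper43.exists_nonsingular_minus (m - 1) c d hc hcd
    (Cfsg.Agent.Lib.Helper43.fixSpace
      (Cfsg.Agent.Lib.Helper43.linOf (Cfsg.Agent.Lib.Helper43.qfMinus (m - 1) F c d) t)) (by omega)
  exact Cfsg.Agent.Lib.Helper43.exists_conj_mem_Omega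
    (Cfsg.Agent.Lib.Helper43.qfMinus (m - 1) F c d) hQ hgen t s hconj w hw
    ((Cfsg.Agent.Lib.Helper43.mem_fixSpace _ _).1 hwfix)

end Cfsg.Agent.S2173
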