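import Cfsg.Statements.S2177
import Cfsg.Agent.Lib.Helper37.G2InvMain

set_option autoImplicit false
open Cfsg

namespace Cfsg.Agent.S2177

/-- Conjugacy classes of involutions in the Chevalley group of type G₂ over a finite field F of characteristic two with at least four elements (the matrix group generated by the root elements x_r(t)). In this problem's root numbering for type G₂ (the Chevalley data module; p₁ = a short, p₂ = b long; roots indexed by coefficient vectors in increasing order) let 11 be the highest root 3a + 2b (long) and 9 the short root 2a + b; consider x_{3a+2b}(1) and x_{2a+b}(1). Then: each invertible matrix equal to one of these two products lies in the group and has order 2; every element of order 2 of the group is conjugate in the group to one of them; and no two of them are conjugate in the group (so, the two matrices being distinct, the group has exactly two conjugacy classes of involutions). -/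
theorem result {F : Type*} [Field F] [Fintype F] [CharP F 2] (hF : 4 ≤ Fintype.card F) :
    (∀ y : GL Cfsg.Lie.chevG2.Idx F, ((y : GL Cfsg.Lie.chevG2.Idx F) : Matrix Cfsg.Lie.chevG2.Idx Cfsg.Lie.chevG2.Idx F) ∈ [Cfsg.Lie.chevG2.x F 11 1, Cfsg.Lie.chevG2.x F 9 1] → y ∈ Cfsg.Lie.chevG2.group F ∧ orderOf y = 2) ∧
    (∀ g ∈ Cfsg.Lie.chevG2.group F, orderOf g = 2 → ∃ y ∈ Cfsg.Lie.chevG2.group F, ((y : GL Cfsg.Lie.chevG2.Idx F) : Matrix Cfsg.Lie.chevG2.Idx Cfsg.Lie.chevG2.Idx F) ∈ [Cfsg.Lie.chevG2.x F 11 1, Cfsg.Lie.chevG2.x F 9 1] ∧ ∃ h ∈ Cfsg.Lie.chevG2.group F, h * g * h⁻¹ = y) ∧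
    (∀ y₁ ∈ Cfsg.Lie.chevG2.group F, ∀ y₂ ∈ Cfsg.Lie.chevG2.group F, ((y₁ : GL Cfsg.Lie.chevG2.Idx F) : Matrix Cfsg.Lie.chevG2.Idx Cfsg.Lie.chevG2.Idx F) ∈ [Cfsg.Lie.chevG2.x F 11 1, Cfsg.Lie.chevG2.x F 9 1] → ((y₂ : GL Cfsg.Lie.chevG2.Idx F) : Matrix Cfsg.Lie.chevG2.Idx Cfsg.Lie.chevG2.Idx F) ∈ [Cfsg.Lie.chevG2.x F 11 1, Cfsg.Lie.chevG2.x F 9 1] →
      (∃ h ∈ Cfsg.Lie.chevG2.group F, h * y₁ * h⁻¹ = y₂) → ((y₁ : GL Cfsg.Lie.chevG2.Idx F) : Matrix Cfsg.Lie.chevG2.Idx Cfsg.Lie.chevG2.Idx F) = ((y₂ : GL Cfsg.Lie.chevG2.Idx F) : Matrix Cfsg.Lie.chevG2.Idx Cfsg.Lie.chevG2.Idx F)) := by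
  open Cfsg.Lie Cfsg.Agent.Lib.Helper24 Cfsg.Agent.Lib.Helper37.G2Cent Cfsg.Agent.Lib.Helper37.G2Inv in
  obtain ⟨E⟩ := env_of_facts (F := F) chevG2 (by simp) nTabG2 orbTabG2 nfacts_G2 hnfacts_G2
    cfacts_G2
  refine ⟨?_, ?_, ?_⟩
  · intro y hy
    simp only [List.mem_cons, List.not_mem_nil, or_false] at hy
    rcases hy with hy | hy
    · rw [E.hF.eq_xGL y 11 1 hy]
      exact ⟨E.hF.xGL_mem_group 11 1, orderOf_x11 E⟩
    · rw [E.hF.eq_xGL y 9 1 hy]
      exact ⟨E.hF.xGL_mem_group 9 1, orderOf_x9 E⟩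
  · intro g hg ho
    have hgo : orderOf (⟨g, hg⟩ : ↥(chevG2.group F)) = 2 := by
      rw [← ho]
      exact Subgroup.orderOf_mk g hg
    obtain ⟨m, hm⟩ := exists_conj_involution E ⟨g, hg⟩ hgo
    rcases hm with hm | hm
    · refine ⟨E.hF.xGL 11 1, E.hF.xGL_mem_group 11 1, ?_, m.1, m.2, ?_⟩
      · simp only [List.mem_cons, List.not_mem_nil, or_false]
        left
        exact E.hF.xGL_val 11 1
      · exact congrArg Subtype.val hm
    · refine ⟨E.hF.xGL 9 1, E.hF.xGL_mem_group 9 1, ?_, m.1, m.2, ?_⟩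
      · simp only [List.mem_cons, List.not_mem_nil, or_false]
        right
        exact E.hF.xGL_val 9 1
      · exact congrArg Subtype.val hm
  · rintro y₁ hy₁ y₂ hy₂ h1 h2 ⟨h, hh, e⟩
    simp only [List.mem_cons, List.not_mem_nil, or_false] at h1 h2
    rcases h1 with h1 | h1 <;> rcases h2 with h2 | h2
    · rw [h1, h2]
    · exfalso
      rw [E.hF.eq_xGL y₁ 11 1 h1, E.hF.eq_xGL y₂ 9 1 h2] at e
      exact not_conj hF E h hh e
    · exfalso
      rw [E.hF.eq_xGL y₁ 9 1 h1, E.hF.eq_xGL y₂ 11 1 h2] at e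
      refine not_conj hF E h⁻¹ (Subgroup.inv_mem _ hh) ?_
      rw [← e]
      group
    · rw [h1, h2]

end Cfsg.Agent.S2177
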