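import Cfsg.Statements.S2202
import Cfsg.Agent.Lib.Helper60.AICMain
import Cfsg.Agent.Lib.Helper09.AICB3
import Cfsg.Agent.Lib.Helper30.AICC2Main
import Cfsg.Agent.Lib.Helper38.AICD
import Cfsg.Agent.Lib.Helper26.AICF

set_option autoImplicit false
open Cfsg

namespace Cfsg.Agent.S2202

/-- Finite groups in which the centralizer of every involution is abelian. Let G be a finite group of even order in which the centralizer of every element of order 2 is abelian. Then the Sylow 2-subgroups of G are cyclic, or a Sylow 2-subgroup of G is normal, or G is isomorphic to the direct product of SL₂(F) for a finite field F of characteristic two and an abelian group of odd order. -/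
theorem result {G : Type*} [Group G] [Finite G] (heven : Even (Nat.card G)) (h : ∀ t : G, orderOf t = 2 → IsMulCommutative ↥(Subgroup.centralizer ({t} : Set G))) :
    (∀ P : Sylow 2 G, IsCyclic ↥P) ∨ (∀ P : Sylow 2 G, (P : Subgroup G).Normal) ∨
    (∃ (F : Type) (_ : Field F) (_ : Fintype F) (A : Type) (_ : CommGroup A) (_ : Finite A), CharP F 2 ∧ Odd (Nat.card A) ∧ Nonempty (G ≃* Matrix.SpecialLinearGroup (Fin 2) F × A)) := by
  by_cases h1 : ∀ P : Sylow 2 G, IsCyclic ↥P
  · exact Or.inl h1
  by_cases h2 : ∀ P : Sylow 2 G, (P : Subgroup G).Normal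
  · exact Or.inr (Or.inl h2)
  right; right
  push Not at h1 h2
  obtain ⟨P, hP⟩ := h1
  obtain ⟨Q, hQ⟩ := h2
  have hPn : ¬ (P : Subgroup G).Normal := by
    intro hn
    apply hQ
    obtain ⟨g, hg⟩ := MulAction.exists_smul_eq G P Q
    have : g • P = P := Sylow.smul_eq_of_normal
    rw [this] at hg
    rw [← hg]
    exact hn
  have hG : Cfsg.Agent.Lib.Helper60.AIC.Hyp G := by
    intro t ht x hx y hy
    have := (h t ht).is_comm.comm ⟨x, hx⟩ ⟨y, hy⟩
    exact congrArg Subtype.val this
  have hc : Cfsg.Agent.Lib.Helper60.AIC.Concl G :=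
    Cfsg.Agent.Lib.Helper60.AIC.concl_of_hyp_aux
      (fun G _ _ hG hloc S hnc hnn =>
        Cfsg.Agent.Lib.Helper09.AIC.sq_eq_one_of_loc hG hloc S hnc hnn)
      (fun G _ _ hG S hnc hnn hcore IH a ha hodd ha1 hnot =>
        Cfsg.Agent.Lib.Helper30.AIC.nonlocal_false hG S hnc hnn hcore IH ha hodd ha1 hnot)
      (fun G _ _ hG S hnc hnn hcore => Cfsg.Agent.Lib.Helper38.AIC.quotient_step hG S hnc hnn hcore)
      (Nat.card G) G rfl hG P hP hPn
  exact Cfsg.Agent.Lib.Helper26.AIC.final_iso hG hc P hP hPn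

end Cfsg.Agent.S2202
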