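import Cfsg.Statements.S2214
import Cfsg.Agent.Lib.Helper37.SubfieldMain

set_option autoImplicit false
open Cfsg

namespace Cfsg.Agent.S2214

/-- Let k be an algebraically closed field of prime characteristic p, G the adjoint Chevalley group of type G₂, B₂, D₄, F₄, E₆, E₇ or E₈ over k (the matrix group generated by the root elements x_s(t), t ∈ k, acting on the Lie algebra), q = p^a with a ≥ 1, and K a subgroup of G containing every root element x_s(t) with t^q = t and consisting of matrices all of whose entries c satisfy c^q = c. Then the centralizer of K in G is trivial, and the normalizer of K in G is exactly the set of elements of G all of whose entries c satisfy c^q = c. -/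
theorem result {k : Type*} [Field k] [IsAlgClosed k] (p : ℕ) [Fact p.Prime] [CharP k p] (D : Cfsg.Lie.ChevalleyDatum) (hD : D ∈ [Cfsg.Lie.chevG2, Cfsg.Lie.chevB2, Cfsg.Lie.chevD4, Cfsg.Lie.chevF4, Cfsg.Lie.chevE6, Cfsg.Lie.chevE7, Cfsg.Lie.chevE8]) (a : ℕ) (ha : 1 ≤ a) (K : Subgroup (GL D.Idx k)) (hKG : K ≤ D.group k)
    (hLK : Subgroup.closure {g : GL D.Idx k | ∃ (s : ℕ) (t : k), t ^ (p ^ a) = t ∧ (g : Matrix D.Idx D.Idx k) = D.x k s t} ≤ K)
    (hKfix : ∀ g ∈ K, ∀ i j : D.Idx, ((g : Matrix D.Idx D.Idx k) i j) ^ (p ^ a) = (g : Matrix D.Idx D.Idx k) i j) :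
    D.group k ⊓ Subgroup.centralizer (K : Set (GL D.Idx k)) = ⊥ ∧
    ∀ g : GL D.Idx k, g ∈ D.group k → (g ∈ Subgroup.normalizer (K : Set (GL D.Idx k)) ↔ ∀ i j : D.Idx, ((g : Matrix D.Idx D.Idx k) i j) ^ (p ^ a) = (g : Matrix D.Idx D.Idx k) i j) := by
  haveI : ExpChar k p := ExpChar.prime (Fact.out : p.Prime)
  let σ : k ≃+* k := iterateFrobeniusEquiv k p a
  have hσdef : ∀ t : k, σ t = t ^ p ^ a := fun t => iterateFrobeniusEquiv_def k p a t
  -- the entry condition is the fixed point condition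
  have hfix_iff : ∀ g : GL D.Idx k, (∀ i j : D.Idx,
      ((g : Matrix D.Idx D.Idx k) i j) ^ (p ^ a) = (g : Matrix D.Idx D.Idx k) i j) ↔
      Cfsg.Agent.Lib.Helper37.FieldAut.glMap D (σ : k →+* k) g = g := by
    intro g
    constructor
    · intro h
      apply Units.ext
      rw [Cfsg.Agent.Lib.Helper37.FieldAut.glMap_val]
      ext i j
      rw [Matrix.map_apply]
      show σ _ = _
      rw [hσdef]
      exact h i j
    · intro h i j
      have h1 := congrArg (fun x : GL D.Idx k => (x : Matrix D.Idx D.Idx k) i j) h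
      simp only [Cfsg.Agent.Lib.Helper37.FieldAut.glMap_val, Matrix.map_apply] at h1
      rw [← hσdef]
      exact h1
  have hLK' : Cfsg.Agent.Lib.Helper37.Subfield.G0 D σ ≤ K := by
    refine le_trans ?_ hLK
    unfold Cfsg.Agent.Lib.Helper37.Subfield.G0
    apply Subgroup.closure_mono
    rintro g ⟨s, t, ht, hg⟩
    exact ⟨s, t, by rw [← hσdef]; exact ht, hg⟩
  have hKfix' : ∀ x ∈ K, Cfsg.Agent.Lib.Helper37.FieldAut.glMap D (σ : k →+* k) x = x :=
    fun x hx => (hfix_iff x).mp (hKfix x hx)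
  constructor
  · rw [eq_bot_iff]
    rintro g ⟨hg, hgc⟩
    rw [Subgroup.mem_bot]
    apply Cfsg.Agent.Lib.Helper37.Subfield.cent_K_trivial D hD σ K hLK' g hg
    intro x hx
    have := Subgroup.mem_centralizer_iff.mp hgc x hx
    exact this.symm
  · intro g hg
    rw [hfix_iff]
    constructor
    · exact Cfsg.Agent.Lib.Helper37.Subfield.normalizer_fixed D hD σ K hLK' hKfix' g hg
    · exact Cfsg.Agent.Lib.Helper37.Subfield.fixed_mem_normalizer D hD σ K hKG hLK' hKfix' g hg

end Cfsg.Agent.S2214
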