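import Cfsg.Statements.S2221
import Mathlib
import Cfsg.Agent.Lib.Helper44.Decomp
import Cfsg.Agent.Lib.Helper44.AltIndecC
import Cfsg.Agent.Lib.Helper36.AltDecD
import Cfsg.Agent.Lib.Helper36.AltDecE
import Cfsg.Agent.Lib.Helper36.AltDecF
import Cfsg.Agent.Lib.Helper97.AltDecC
import Cfsg.Agent.Lib.Helper18.AltDecB

set_option autoImplicit false
open Cfsg

namespace Cfsg.Agent.S2221

/-- Direct decomposability of the Sylow 2-subgroups of the alternating groups. Let n ≥ 4 and let P be a Sylow 2-subgroup of the alternating group of degree n. Then P is the internal direct product of two nontrivial subgroups if and only if n = 4, n = 5, or n ≡ 2, 3 (mod 4) with 4⌊n/4⌋ not a power of 2. In the remaining cases (n ≡ 0, 1 (mod 4) with n ≥ 8, or n ≡ 2, 3 (mod 4) with 4⌊n/4⌋ a power of 2) P is directly indecomposable. -/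
theorem result (n : ℕ) (hn : 4 ≤ n)
    (P : Sylow 2 (alternatingGroup (Fin n))) :
    (∃ S₁ S₂ : Subgroup (alternatingGroup (Fin n)), S₁ ≠ ⊥ ∧ S₂ ≠ ⊥ ∧
        Cfsg.IsInternalDirectProduct S₁ S₂ (P : Subgroup (alternatingGroup (Fin n)))) ↔
      (n = 4 ∨ n = 5 ∨ ((n % 4 = 2 ∨ n % 4 = 3) ∧ ∀ r : ℕ, 4 * (n / 4) ≠ 2 ^ r)) := by
  have alt_mul_four : ∀ (N : ℕ), 4 ∣ N → 4 ≤ N → ∀ (P : Sylow 2 (alternatingGroup (Fin N))),
      (Cfsg.Agent.Lib.Helper44.Dec.Decomp ↥(P : Subgroup (alternatingGroup (Fin N))) ↔ N = 4) := by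
    intro N h4 hN P
    constructor
    · intro h
      by_contra hne
      have h8 : 8 ≤ N := by omega
      exact Cfsg.Agent.Lib.Helper44.AltIndec.alt_sylow_indecomp N h4 h8 P h
    · rintro rfl
      exact Cfsg.Agent.Lib.Helper36.AltDec.alt_four_decomp P
  rw [Cfsg.Agent.Lib.Helper44.Dec.decomp_subgroup_iff]
  have hmod : n % 4 = 0 ∨ n % 4 = 1 ∨ n % 4 = 2 ∨ n % 4 = 3 := by omega
  rcases hmod with h0 | h1 | h23
  · rw [alt_mul_four n (by omega) hn P]
    omega
  · obtain ⟨N, rfl⟩ : ∃ N, n = N + 1 := ⟨n - 1, by omega⟩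
    obtain ⟨P'⟩ : Nonempty (Sylow 2 (alternatingGroup (Fin N))) := inferInstance
    obtain ⟨e⟩ := Cfsg.Agent.Lib.Helper36.AltDec.alt_sylow_equiv_succ N
      (by rw [Nat.even_iff]; omega) P P'
    rw [Cfsg.Agent.Lib.Helper44.Dec.decomp_congr e, alt_mul_four N (by omega) (by omega) P']
    omega
  · set N := 4 * (n / 4) with hNdef
    obtain ⟨T⟩ : Nonempty (Sylow 2 (Equiv.Perm (Fin N))) := inferInstance
    obtain ⟨e⟩ := Cfsg.Agent.Lib.Helper36.AltDec.alt_sylow_equiv_perm n N ⟨n / 4, rfl⟩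
      (by omega) P T
    rw [Cfsg.Agent.Lib.Helper44.Dec.decomp_congr e]
    constructor
    · intro h
      refine Or.inr (Or.inr ⟨h23, ?_⟩)
      intro r hr
      exact Cfsg.Agent.Lib.Helper97.AltDec.sylow_perm_indecomp N r hr T h
    · rintro (h | h | ⟨_, h⟩)
      · omega
      · omega
      · exact Cfsg.Agent.Lib.Helper18.AltDec.sylow_perm_decomp N ⟨n / 4, rfl⟩ h (by omega) T

end Cfsg.Agent.S2221
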