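import Cfsg.Statements.S2232
import Cfsg.Agent.Lib.Helper44.Herm3
import Cfsg.Agent.S2231

set_option autoImplicit false
open Cfsg

namespace Cfsg.Agent.S2232

open Matrix Cfsg.Agent.Lib.Helper44

section qd
variable {p : ℕ} [Fact p.Prime]

/-- elements of `qd p` have last row `(0, 0, 1)` -/
lemma qd_last_row (M : Matrix.SpecialLinearGroup (Fin 3) (ZMod p)) (hM : M ∈ Cfsg.qd p) :
    M.1 2 0 = 0 ∧ M.1 2 1 = 0 ∧ M.1 2 2 = 1 := by
  unfold Cfsg.qd at hM
  induction hM using Subgroup.closure_induction with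
  | mem x hx => exact hx
  | one => simp
  | mul x y _ _ hx hy =>
    obtain ⟨a1, a2, a3⟩ := hx
    obtain ⟨b1, b2, b3⟩ := hy
    simp only [Matrix.SpecialLinearGroup.coe_mul, Matrix.mul_apply, Fin.sum_univ_three,
      a1, a2, a3, b1, b2, b3]
    simp
  | inv x _ hx =>
    obtain ⟨a1, a2, a3⟩ := hx
    have hdet := x.2
    rw [Matrix.det_fin_three, a1, a2, a3] at hdet
    simp only [Matrix.SpecialLinearGroup.coe_inv, Matrix.adjugate_fin_three, a1, a2, a3]
    simp
    linear_combination hdet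

/-- the upper-left `2 × 2` block as a monoid homomorphism on `qd p` -/
def blk (p : ℕ) [Fact p.Prime] : ↥(Cfsg.qd p) →* Matrix (Fin 2) (Fin 2) (ZMod p) where
  toFun M := !![M.1.1 0 0, M.1.1 0 1; M.1.1 1 0, M.1.1 1 1]
  map_one' := by
    ext i j
    fin_cases i <;> fin_cases j <;> simp
  map_mul' M N := by
    obtain ⟨a1, a2, a3⟩ := qd_last_row M.1 M.2
    obtain ⟨b1, b2, b3⟩ := qd_last_row N.1 N.2
    ext i j
    fin_cases i <;> fin_cases j <;>
      simp [Matrix.mul_apply, Fin.sum_univ_three, Fin.sum_univ_two, a1, a2, a3, b1, b2, b3]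

lemma blk_ker_mem_uni (M : ↥(Cfsg.qd p)) (hM : M ∈ (blk p).ker) : M.1 ∈ Cfsg.Agent.S2231.uni p := by
  obtain ⟨a1, a2, a3⟩ := qd_last_row M.1 M.2
  have h := (MonoidHom.mem_ker).1 hM
  have h00 := congrFun (congrFun h 0) 0
  have h01 := congrFun (congrFun h 0) 1
  have h10 := congrFun (congrFun h 1) 0
  have h11 := congrFun (congrFun h 1) 1
  simp [blk] at h00 h01 h10 h11
  exact ⟨h10, a1, a2, h00, h11, a3⟩

lemma blk_ker_pGroup (hp : p ≠ 2) : IsPGroup p ↥(blk p).ker := by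
  intro g
  refine ⟨1, ?_⟩
  have h := Cfsg.Agent.S2231.uni_pow hp g.1.1 (blk_ker_mem_uni g.1 g.2)
  apply Subtype.ext
  apply Subtype.ext
  simpa using h

/-- a translation in `qd p` -/
def tr (p : ℕ) [Fact p.Prime] : ↥(Cfsg.qd p) :=
  ⟨⟨!![1, 0, 1; 0, 1, 0; 0, 0, 1], by simp [Matrix.det_fin_three]⟩,
    Subgroup.subset_closure ⟨by simp, by simp, by simp⟩⟩

lemma blk_ker_ne_bot : (blk p).ker ≠ ⊥ := by
  intro h
  have h1 : tr p ∈ (blk p).ker := by
    rw [MonoidHom.mem_ker]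
    ext i j
    fin_cases i <;> fin_cases j <;> simp [blk, tr]
  rw [h, Subgroup.mem_bot] at h1
  have h2 := congrArg (fun M : ↥(Cfsg.qd p) => M.1.1 0 2) h1
  simp [tr] at h2

/-- the two transvections generating a copy of `SL₂` -/
def ex (p : ℕ) [Fact p.Prime] : ↥(Cfsg.qd p) :=
  ⟨⟨!![1, 1, 0; 0, 1, 0; 0, 0, 1], by simp [Matrix.det_fin_three]⟩,
    Subgroup.subset_closure ⟨by simp, by simp, by simp⟩⟩

def ey (p : ℕ) [Fact p.Prime] : ↥(Cfsg.qd p) :=
  ⟨⟨!![1, 0, 0; 1, 1, 0; 0, 0, 1], by simp [Matrix.det_fin_three]⟩,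
    Subgroup.subset_closure ⟨by simp, by simp, by simp⟩⟩

lemma pElem_of_sq_zero (N : Matrix (Fin 3) (Fin 3) (ZMod p))
    (M : ↥(Cfsg.qd p)) (hM : M.1.1 = 1 + N) (hN : N * N = 0) : IsPElem p M := by
  refine ⟨1, ?_⟩
  apply Subtype.ext
  apply Subtype.ext
  simp only [pow_one, Subgroup.coe_pow, Matrix.SpecialLinearGroup.coe_pow, Subgroup.coe_one,
    Matrix.SpecialLinearGroup.coe_one]
  have hc : Commute M.1.1 1 := Commute.one_right _
  have h1 := sub_pow_char_of_commute (p := p) hc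
  have h2 : (M.1.1 - 1) ^ p = 0 := by
    have : M.1.1 - 1 = N := by rw [hM]; abel
    rw [this]
    have hp2 : 2 ≤ p := (Fact.out : p.Prime).two_le
    exact pow_eq_zero_of_le hp2 (by rw [sq, hN])
  rw [h2, one_pow] at h1
  exact sub_eq_zero.1 h1.symm

lemma ex_pElem : IsPElem p (ex p) := by
  apply pElem_of_sq_zero !![0, 1, 0; 0, 0, 0; 0, 0, 0]
  · ext i j
    fin_cases i <;> fin_cases j <;> simp [ex]
  · ext i j
    fin_cases i <;> fin_cases j <;> simp [Matrix.mul_apply, Fin.sum_univ_three]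

lemma ey_pElem : IsPElem p (ey p) := by
  apply pElem_of_sq_zero !![0, 0, 0; 1, 0, 0; 0, 0, 0]
  · ext i j
    fin_cases i <;> fin_cases j <;> simp [ey]
  · ext i j
    fin_cases i <;> fin_cases j <;> simp [Matrix.mul_apply, Fin.sum_univ_three]

lemma exy_not_pElem : ¬ IsPElem p (ex p * ey p) := by
  rintro ⟨k, hk⟩
  have h1 : ((ex p * ey p).1.1) ^ (p ^ k) = 1 := by
    have := congrArg (fun M : ↥(Cfsg.qd p) => M.1.1) hk
    simpa using this
  have hc : Commute (ex p * ey p).1.1 1 := Commute.one_right _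
  have h2 := sub_pow_char_pow_of_commute (p := p) (n := k) hc
  rw [h1, one_pow, sub_self] at h2
  have h3 : IsNilpotent ((ex p * ey p).1.1 - 1) := ⟨p ^ k, h2⟩
  have h4 := (Matrix.isNilpotent_trace_of_isNilpotent h3).eq_zero
  have h5 : (ex p * ey p).1.1 = !![1, 1, 0; 0, 1, 0; 0, 0, 1] * !![1, 0, 0; 1, 1, 0; 0, 0, 1] := rfl
  rw [h5, Matrix.trace_fin_three] at h4
  simp [Matrix.mul_apply, Fin.sum_univ_three] at h4

end qd


/-- Let p be an odd prime, q a power of p and K a finite field with q² elements. Then Qd(p) (the natural semidirect product of an elementary abelian group of order p² by SL₂(p)) is not involved in the projective special unitary group PSU₃(q) realised over K. -/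
theorem result {p : ℕ} [Fact p.Prime] (hp : p ≠ 2) {K : Type*} [Field K] [Fintype K] [CharP K p] (n : ℕ) (hn : 1 ≤ n) (hK : Fintype.card K = (p ^ n) ^ 2) : ¬ Cfsg.Involves ↥(Cfsg.qd p) (Cfsg.PSU 3 K (p ^ n)) := by
  classical
  rintro ⟨A, B, hN, ⟨e⟩⟩
  have F : IsFrob K (p ^ n) := isFrob_of_card hK
  let π := QuotientGroup.mk' (Subgroup.center ↥(Cfsg.SU 3 K (p ^ n)))
  have hπ : Function.Surjective π := QuotientGroup.mk'_surjective _
  let ψ : ↥(A.comap π) →* ↥(Cfsg.qd p) :=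
    e.toMonoidHom.comp ((QuotientGroup.mk' (B.subgroupOf A)).comp (π.subgroupComap A))
  have hψ : Function.Surjective ψ :=
    e.surjective.comp ((QuotientGroup.mk'_surjective _).comp
      (π.subgroupComap_surjective_of_surjective A hπ))
  have hV : ((blk p).ker).Normal := MonoidHom.normal_ker _
  have key := pclosed_of_TI (p := p)
    (fun S hS hne x hx y hy hxp hyp => su3_TI hp F S hS hne x hx y hy hxp hyp)
    (A.comap π) ψ hψ (blk p).ker (blk_ker_pGroup hp) blk_ker_ne_bot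
  exact exy_not_pElem (key _ _ ex_pElem ey_pElem)

end Cfsg.Agent.S2232
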