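import Cfsg.Statements.S2238
import Cfsg.Agent.Lib.Helper09.SuzukiToriCount

set_option autoImplicit false
open Cfsg

namespace Cfsg.Agent.S2238

open Cfsg.Agent.Lib.Helper09
open scoped Pointwise

section Aux

variable {F : Type*} [Field F] [Fintype F] {m : ℕ}

theorem dvd_two_aux {q a : ℕ} (hq : 1 ≤ q) (h1 : a ∣ q - 1) (h2 : a ∣ q ^ 2 + 1) : a ∣ 2 := by
  have e : q ^ 2 + 1 = (q - 1) * (q + 1) + 2 := by
    obtain ⟨s, hs⟩ : ∃ s, q = s + 1 := ⟨q - 1, by omega⟩
    rw [hs]
    simp only [Nat.add_sub_cancel]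
    ring
  rw [e] at h2
  exact (Nat.dvd_add_right (dvd_mul_of_dvd_left h1 _)).1 h2

theorem comm_of_cyclic {G : Type*} [Group G] (U : Subgroup G) (h : IsCyclic ↥U) {a b : G}
    (ha : a ∈ U) (hb : b ∈ U) : a * b = b * a := by
  obtain ⟨g, hg⟩ := h.exists_generator
  obtain ⟨i, hi⟩ := Subgroup.mem_zpowers_iff.1 (hg ⟨a, ha⟩)
  obtain ⟨j, hj⟩ := Subgroup.mem_zpowers_iff.1 (hg ⟨b, hb⟩)
  have : (⟨a, ha⟩ : ↥U) * ⟨b, hb⟩ = ⟨b, hb⟩ * ⟨a, ha⟩ := by
    rw [← hi, ← hj, ← _root_.zpow_add, ← _root_.zpow_add, add_comm]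
  exact congrArg Subtype.val this

theorem pow_card_eq_one_of_mem {G : Type*} [Group G] (U : Subgroup G) {g : G} (hg : g ∈ U) :
    g ^ Nat.card U = 1 := by
  have h2 : (⟨g, hg⟩ : U) ^ Nat.card U = 1 := pow_card_eq_one'
  have h3 : (((⟨g, hg⟩ : U) ^ Nat.card U : U) : G) = ((1 : U) : G) := congrArg Subtype.val h2
  rwa [Subgroup.coe_pow, Subgroup.coe_one] at h3

theorem eq_one_of_pow_coprime {G : Type*} [Group G] {g : G} {a b : ℕ} (ha : g ^ a = 1)
    (hb : g ^ b = 1) (hab : Nat.Coprime a b) : g = 1 := by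
  have := pow_gcd_eq_one.2 ⟨ha, hb⟩
  rwa [hab.gcd_eq_one, pow_one] at this

/-- the Sylow 2-subgroup attached to a point -/
theorem mem_smul_Usyl (hm : 1 ≤ m) (hF : Fintype.card F = 2 ^ (2 * m + 1))
    (x g : ↥(Cfsg.Sz F m)) :
    g ∈ ((x • Usyl hm hF : Sylow 2 ↥(Cfsg.Sz F m)) : Subgroup ↥(Cfsg.Sz F m)) ↔
      x⁻¹ * g * x ∈ Uz hF := by
  have : Fact (Nat.Prime 2) := ⟨Nat.prime_two⟩
  rw [Sylow.coe_subgroup_smul, Subgroup.mem_pointwise_smul_iff_inv_smul_mem, coe_Usyl]
  have : (MulAut.conj x)⁻¹ • g = x⁻¹ * g * x := by simp [MulAut.smul_def]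
  rw [this]

theorem smul_Usyl_eq (hm : 1 ≤ m) (hF : Fintype.card F = 2 ^ (2 * m + 1))
    {x y g : ↥(Cfsg.Sz F m)} (hg : g ≠ 1) (hx : x⁻¹ * g * x ∈ Uz hF) (hy : y⁻¹ * g * y ∈ Uz hF) :
    (y • Usyl hm hF : Sylow 2 ↥(Cfsg.Sz F m)) = x • Usyl hm hF := by
  have : Fact (Nat.Prime 2) := ⟨Nat.prime_two⟩
  have hne : x⁻¹ * g * x ≠ 1 := by
    intro h0
    apply hg
    have : g = x * (x⁻¹ * g * x) * x⁻¹ := by group
    rw [this, h0]; group
  have h1 : (y⁻¹ * x) * (x⁻¹ * g * x) * (y⁻¹ * x)⁻¹ ∈ Uz hF := by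
    have : (y⁻¹ * x) * (x⁻¹ * g * x) * (y⁻¹ * x)⁻¹ = y⁻¹ * g * y := by group
    rw [this]; exact hy
  have h2 := Uz_key hm hF _ _ hx hne h1
  have h3 : (y⁻¹ * x) • Usyl hm hF = Usyl hm hF := by
    rw [Sylow.smul_eq_iff_mem_normalizer]
    exact h2
  rw [mul_smul, inv_smul_eq_iff] at h3
  exact h3.symm

end Aux


/-- The partition of the Suzuki group: with q = 2^(2m+1), m ≥ 1, r = 2^m and the Suzuki group realised as the stabiliser in SL₄ of the Suzuki–Tits ovoid, every non-identity element lies in exactly one subgroup that is either a Sylow 2-subgroup or a cyclic subgroup of order q − 1, q + 2r + 1 or q − 2r + 1. -/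
theorem result {F : Type*} [Field F] [Fintype F] {m : ℕ} (hm : 1 ≤ m) (hF : Fintype.card F = 2 ^ (2 * m + 1)) (g : ↥(Cfsg.Sz F m)) (hg : g ≠ 1) :
    ∃! U : Subgroup ↥(Cfsg.Sz F m), ((∃ P : Sylow 2 ↥(Cfsg.Sz F m), U = (P : Subgroup ↥(Cfsg.Sz F m))) ∨
      (IsCyclic ↥U ∧ Nat.card ↥U ∈ ({2 ^ (2 * m + 1) - 1, 2 ^ (2 * m + 1) + 2 ^ (m + 1) + 1, 2 ^ (2 * m + 1) - 2 ^ (m + 1) + 1} : Set ℕ))) ∧ g ∈ U := by
  classical
  have hfact : Fact (Nat.Prime 2) := ⟨Nat.prime_two⟩
  obtain ⟨T₁, T₂, hT₁, hT₂, hcov, hN₁, hN₂, ha₁, ha₂⟩ := tori_orders hm hF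
  set q := 2 ^ (2 * m + 1) with hq
  set s := 2 ^ (m + 1) with hs
  have hq8 : 8 ≤ q := by
    have : 2 ^ 3 ≤ 2 ^ (2 * m + 1) := Nat.pow_le_pow_right (by norm_num) (by omega)
    simpa using this
  have hsq : s < q := Nat.pow_lt_pow_right (by norm_num) (by omega)
  have hs4 : 4 ≤ s := by
    have : 2 ^ 2 ≤ 2 ^ (m + 1) := Nat.pow_le_pow_right (by norm_num) (by omega)
    simpa using this
  have hqeven : 2 ∣ q := dvd_pow_self 2 (by omega)
  have hseven : 2 ∣ s := dvd_pow_self 2 (by omega)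
  have h5₁ := hT₁.five_le hm hF
  have h5₂ := hT₂.five_le hm hF
  have hd₁ := hT₁.card_dvd hm hF
  have hd₂ := hT₂.card_dvd hm hF
  rw [← hq] at hd₁ hd₂
  -- the two torus orders do not divide each other
  have hnd12 : ¬ Nat.card T₁ ∣ Nat.card T₂ := by
    intro h
    have := Nat.le_of_dvd (by omega) h
    omega
  have hnd21 : ¬ Nat.card T₂ ∣ Nat.card T₁ := by
    intro h
    have h1 : Nat.card T₂ ∣ 2 * s := by
      have : Nat.card T₁ = Nat.card T₂ + 2 * s := by omega
      rw [this] at h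
      exact (Nat.dvd_add_right (dvd_refl _)).1 h
    have h2 : 2 * s = 2 ^ (m + 2) := by rw [hs]; ring
    rw [h2] at h1
    obtain ⟨j, -, hj⟩ := (Nat.dvd_prime_pow Nat.prime_two).1 h1
    rcases Nat.eq_zero_or_pos j with rfl | hjpos
    · rw [pow_zero] at hj; omega
    · have : 2 ∣ Nat.card T₂ := by rw [hj]; exact dvd_pow_self 2 (by omega)
      omega
  -- orders of the three kinds of cyclic subgroups are odd
  have hodd : ∀ c : ℕ, c ∈ ({q - 1, q + s + 1, q - s + 1} : Set ℕ) → ¬ 2 ∣ c := by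
    intro c hc
    rcases hc with rfl | rfl | rfl <;> omega
  by_cases hgD : g ∈ Dset F m
  · -- derangements
    have key : ∀ (T T' : Subgroup ↥(Cfsg.Sz F m)), IsTorus F m T → IsTorus F m T' →
        ¬ Nat.card T' ∣ Nat.card T → 5 ≤ Nat.card T → Nat.card T ∣ q ^ 2 + 1 →
        ({q - 1, q + s + 1, q - s + 1} : Set ℕ) ⊆ {q - 1, Nat.card T, Nat.card T'} →
        Nat.card T ∈ ({q - 1, q + s + 1, q - s + 1} : Set ℕ) →
        g ∈ conjSet T → ∃! U : Subgroup ↥(Cfsg.Sz F m),
          ((∃ P : Sylow 2 ↥(Cfsg.Sz F m), U = (P : Subgroup ↥(Cfsg.Sz F m))) ∨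
          (IsCyclic ↥U ∧ Nat.card ↥U ∈ ({q - 1, q + s + 1, q - s + 1} : Set ℕ))) ∧ g ∈ U := by
      intro T T' hT hT' hnd h5 hdvd hsub hmem hgT
      obtain ⟨-, x, hx⟩ := hgT
      have hTx := hT.conj x⁻¹
      have hgU : g ∈ T.map (MulAut.conj x⁻¹).toMonoidHom := by
        rw [mem_map_conj, inv_inv]; exact hx
      have hcardU : Nat.card (T.map (MulAut.conj x⁻¹).toMonoidHom) = Nat.card T := card_map_conj T _
      refine ⟨T.map (MulAut.conj x⁻¹).toMonoidHom, ⟨Or.inr ⟨hTx.isCyclic hm hF, ?_⟩, hgU⟩, ?_⟩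
      · rw [hcardU]; exact hmem
      · rintro U' ⟨hU' | ⟨hcyc, hcard⟩, hgU'⟩
        · exfalso
          obtain ⟨P, rfl⟩ := hU'
          obtain ⟨y, rfl⟩ := sylow_eq_smul hm hF P
          rw [mem_smul_Usyl] at hgU'
          have : y⁻¹ * g * y⁻¹⁻¹ ∈ Uz hF := by rwa [inv_inv]
          exact hgD _ (fix_of_conj_Uz hF this)
        · have hle : U' ≤ T.map (MulAut.conj x⁻¹).toMonoidHom := by
            intro y hy
            rw [hTx.eq_centralizer hm hF hgU hg, mem_centralizer_singleton]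
            exact comm_of_cyclic U' hcyc hy hgU'
          have hdvd' := Subgroup.card_dvd_of_le hle
          rw [hcardU] at hdvd'
          rcases hsub hcard with h | h | h
          · exfalso
            rw [h] at hdvd'
            have := dvd_two_aux (by omega) (dvd_refl _) (dvd_trans hdvd' hdvd)
            have := Nat.le_of_dvd (by norm_num) this
            omega
          · apply Subgroup.eq_of_le_of_card_ge hle
            rw [hcardU, h]
          · exfalso
            rw [Set.mem_singleton_iff] at h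
            rw [h] at hdvd'
            exact hnd hdvd'
    rcases hcov hgD with h | h
    · apply key T₁ T₂ hT₁ hT₂ hnd21 h5₁ hd₁ _ _ h
      · rw [ha₁, ha₂]
      · rw [ha₁]; simp
    · apply key T₂ T₁ hT₂ hT₁ hnd12 h5₂ hd₂ _ _ h
      · rw [ha₁, ha₂]
        intro c hc
        rcases hc with rfl | rfl | rfl <;> simp
      · rw [ha₂]; simp
  · -- elements with a fixed point
    rw [mem_Dset] at hgD
    push Not at hgD
    obtain ⟨ω, hω⟩ := hgD
    obtain ⟨x, hx | hx⟩ := conj_of_fix hm hF hω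
    · -- 2-elements
      have hx' : x⁻¹⁻¹ * g * x⁻¹ ∈ Uz hF := by rwa [inv_inv]
      have hg4 : g ^ 4 = 1 := by
        obtain ⟨a, b, hab⟩ := (mem_Uz hF _).1 hx
        have h1 : (x * g * x⁻¹) ^ 4 = 1 := by rw [hab, tauG_pow_four]
        rw [conj_pow] at h1
        have : g ^ 4 = x⁻¹ * (x * g ^ 4 * x⁻¹) * x := by group
        rw [this, h1]; group
      refine ⟨((x⁻¹ • Usyl hm hF : Sylow 2 ↥(Cfsg.Sz F m)) : Subgroup ↥(Cfsg.Sz F m)),
        ⟨Or.inl ⟨_, rfl⟩, (mem_smul_Usyl hm hF _ _).2 hx'⟩, ?_⟩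
      rintro U' ⟨hU' | ⟨hcyc, hcard⟩, hgU'⟩
      · obtain ⟨P, rfl⟩ := hU'
        obtain ⟨y, rfl⟩ := sylow_eq_smul hm hF P
        rw [mem_smul_Usyl] at hgU'
        rw [smul_Usyl_eq hm hF hg hx' hgU']
      · exfalso
        apply hg
        have h1 := pow_card_eq_one_of_mem U' hgU'
        apply eq_one_of_pow_coprime hg4 h1
        have := hodd _ hcard
        have h2 : Nat.Coprime 2 (Nat.card ↥U') := (Nat.Prime.coprime_iff_not_dvd Nat.prime_two).2 this
        have h3 : Nat.Coprime (2 ^ 2) (Nat.card ↥U') := Nat.Coprime.pow_left 2 h2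
        exact h3
    · -- elements of the split torus
      obtain ⟨k, hk⟩ := (mem_Hz hF _).1 hx
      have hk1 : k ≠ 1 := by
        rintro rfl
        apply hg
        have : g = x⁻¹ * (x * g * x⁻¹) * x := by group
        rw [this, hk, hG_one]; group
      have hgq : g ^ (q - 1) = 1 := by
        have h1 : (x * g * x⁻¹) ^ (q - 1) = 1 := by
          rw [hk, hG_pow]
          have : k ^ (q - 1) = 1 := by
            rw [hq, ← card_units hF]
            exact pow_card_eq_one'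
          rw [this, hG_one]
        rw [conj_pow] at h1
        have : g ^ (q - 1) = x⁻¹ * (x * g ^ (q - 1) * x⁻¹) * x := by group
        rw [this, h1]; group
      have hgU : g ∈ (Hz hF).map (MulAut.conj x⁻¹).toMonoidHom := by
        rw [mem_map_conj, inv_inv]; exact hx
      have hcardU : Nat.card ((Hz hF).map (MulAut.conj x⁻¹).toMonoidHom) = q - 1 := by
        rw [card_map_conj, card_Hz]
      have hcycU : IsCyclic ↥((Hz hF).map (MulAut.conj x⁻¹).toMonoidHom) := by
        have h1 : IsCyclic ↥(Hz (m := m) hF) := by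
          have : (Hz (m := m) hF) = (hGHom hF).range := rfl
          rw [this]
          exact isCyclic_of_surjective (hGHom (m := m) hF).rangeRestrict
            (MonoidHom.rangeRestrict_surjective _)
        exact isCyclic_of_surjective ((MulAut.conj x⁻¹).toMonoidHom.subgroupMap (Hz hF))
          ((MulAut.conj x⁻¹).toMonoidHom.subgroupMap_surjective (Hz hF))
      refine ⟨(Hz hF).map (MulAut.conj x⁻¹).toMonoidHom, ⟨Or.inr ⟨hcycU, ?_⟩, hgU⟩, ?_⟩
      · rw [hcardU]; simp
      · rintro U' ⟨hU' | ⟨hcyc, hcard⟩, hgU'⟩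
        · exfalso
          obtain ⟨P, rfl⟩ := hU'
          apply hg
          have h1 := pow_card_eq_one_of_mem _ hgU'
          obtain ⟨j, hj⟩ := (P.isPGroup').exists_card_eq
          rw [hj] at h1
          apply eq_one_of_pow_coprime h1 hgq
          apply Nat.Coprime.pow_left
          exact (Nat.Prime.coprime_iff_not_dvd Nat.prime_two).2 (by omega)
        · have hle : U' ≤ (Hz hF).map (MulAut.conj x⁻¹).toMonoidHom := by
            intro y hy
            rw [mem_map_conj, inv_inv]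
            have hc := comm_of_cyclic U' hcyc hy hgU'
            have hc' : (x * y * x⁻¹) * hG hF k = hG hF k * (x * y * x⁻¹) := by
              rw [← hk]
              calc x * y * x⁻¹ * (x * g * x⁻¹) = x * (y * g) * x⁻¹ := by group
                _ = x * (g * y) * x⁻¹ := by rw [hc]
                _ = x * g * x⁻¹ * (x * y * x⁻¹) := by group
            obtain ⟨l, hl⟩ := commute_hG hm hF hk1 hc'
            exact (mem_Hz hF _).2 ⟨l, hl⟩
          have hdvd' := Subgroup.card_dvd_of_le hle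
          rw [hcardU] at hdvd'
          rcases hcard with h | h | h
          · apply Subgroup.eq_of_le_of_card_ge hle
            rw [hcardU, h]
          · exfalso
            rw [h, ← ha₁] at hdvd'
            have := dvd_two_aux (by omega) hdvd' hd₁
            have := Nat.le_of_dvd (by norm_num) this
            omega
          · exfalso
            rw [Set.mem_singleton_iff] at h
            rw [h, ← ha₂] at hdvd'
            have := dvd_two_aux (by omega) hdvd' hd₂
            have := Nat.le_of_dvd (by norm_num) this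
            omega

end Cfsg.Agent.S2238
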