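import Cfsg.Statements.S2250
import Mathlib
import Cfsg.Agent.Lib.Helper44.SpNormalRank

set_option autoImplicit false
open Cfsg

namespace Cfsg.Agent.S2250

/-- The normal 2-rank of the symplectic group over a finite field of odd order: for n ≥ 1 and S a Sylow 2-subgroup of Sp_{2n}(F), the largest rank of an elementary abelian subgroup of S that is normal in S equals n. -/
theorem result {F : Type*} [Field F] [Fintype F] (hF : Odd (Fintype.card F)) (n : ℕ) (hn : 1 ≤ n) (S : Sylow 2 ↥(Matrix.symplecticGroup (Fin n) F)) :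
    ((∃ E : Subgroup ↥(S : Subgroup ↥(Matrix.symplecticGroup (Fin n) F)), E.Normal ∧ Cfsg.IsElementaryAbelian 2 E ∧ 2 ^ (n) ≤ Nat.card ↥E) ∧
      ∀ E : Subgroup ↥(S : Subgroup ↥(Matrix.symplecticGroup (Fin n) F)), E.Normal → Cfsg.IsElementaryAbelian 2 E → Nat.card ↥E ≤ 2 ^ (n)) := by
  have h2 : (2 : F) ≠ 0 := by
    have hchar : ringChar F ≠ 2 := by
      intro h
      have := FiniteField.even_card_of_char_two h
      rcases hF with ⟨c, hc⟩
      omega
    exact Ring.two_ne_zero hchar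
  refine ⟨Cfsg.Agent.Lib.Helper44.exists_normal_elementary hF n S, ?_⟩
  intro E _ hE
  have hub := Cfsg.Agent.S2234.upper_bound_sp h2 n
    (E.map (S : Subgroup ↥(Matrix.symplecticGroup (Fin n) F)).subtype) ⟨⟨?_⟩⟩ ?_
  · rwa [Subgroup.card_subtype] at hub
  · rintro ⟨_, a, ha, rfl⟩ ⟨_, b, hb, rfl⟩
    apply Subtype.ext
    have := hE.1.is_comm.comm ⟨a, ha⟩ ⟨b, hb⟩
    have h3 := congrArg (fun x : ↥E => ((x : ↥(S : Subgroup ↥(Matrix.symplecticGroup (Fin n) F))) : ↥(Matrix.symplecticGroup (Fin n) F))) this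
    exact h3
  · rintro _ ⟨a, ha, rfl⟩
    rw [← map_pow, hE.2 a ha, map_one]

end Cfsg.Agent.S2250
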