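import Cfsg.Statements.S2256
import Mathlib
import Cfsg.Agent.Lib.Helper44.NilpAltExt

set_option autoImplicit false
open Cfsg

namespace Cfsg.Agent.S2256

/-- Let n ≡ 3 (mod 4) with n ≥ 7. Then every nilpotent subgroup of the alternating group on n letters has order at most 3 times the order of a Sylow 2-subgroup of the alternating group on n − 3 letters; the bound is attained by a nilpotent subgroup isomorphic to the direct product of such a Sylow 2-subgroup with a cyclic group of order 3; and any two nilpotent subgroups of the alternating group attaining the bound are conjugate in it. -/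
theorem result  (n : ℕ) (hn : n % 4 = 3) (h7 : 7 ≤ n)
    (P : Sylow 2 (alternatingGroup (Fin (n - 3)))) :
    (∀ N : Subgroup (alternatingGroup (Fin n)), Group.IsNilpotent N → Nat.card N ≤ 3 * Nat.card P) ∧
    (∃ M : Subgroup (alternatingGroup (Fin n)), Group.IsNilpotent M ∧ Nat.card M = 3 * Nat.card P ∧
      Nonempty (M ≃* (↥(P : Subgroup (alternatingGroup (Fin (n - 3)))) × Multiplicative (ZMod 3)))) ∧
    (∀ N₁ N₂ : Subgroup (alternatingGroup (Fin n)), Group.IsNilpotent N₁ → Group.IsNilpotent N₂ →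
      Nat.card N₁ = 3 * Nat.card P → Nat.card N₂ = 3 * Nat.card P →
      ∃ g : alternatingGroup (Fin n), N₂ = N₁.map (MulAut.conj g).toMonoidHom) := by
  have hP : 2 * Nat.card P = Cfsg.Agent.Lib.Helper44.F2 (n - 3) :=
    Cfsg.Agent.Lib.Helper44.two_mul_card_sylow_alt (n - 3) (by omega) P
  have hS : ¬ Cfsg.Agent.Lib.Helper44.Sp n := by
    rw [Cfsg.Agent.Lib.Helper44.Sp_iff]
    omega
  have hHa : Cfsg.Agent.Lib.Helper44.Ha n = 3 * Cfsg.Agent.Lib.Helper44.F2 (n - 3) := by
    rw [Cfsg.Agent.Lib.Helper44.Ha_of_not_Sp hS, Cfsg.Agent.Lib.Helper44.Gb, if_pos hn]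
  refine ⟨?_, Cfsg.Agent.Lib.Helper44.exists_extremal_alt (by omega) P, ?_⟩
  · intro N hN
    have := Cfsg.Agent.Lib.Helper44.card_le_Ha_alt n N hN
    rw [hHa, ← hP] at this
    omega
  · intro N₁ N₂ h1 h2 hc1 hc2
    apply Cfsg.Agent.Lib.Helper44.extremal_conj_alt' hn h7 N₁ N₂ h1 h2
    · rw [hc1, ← hP]
      ring
    · rw [hc2, ← hP]
      ring

end Cfsg.Agent.S2256
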