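import Cfsg.Statements.S2257
import Cfsg.Agent.Lib.Helper19.SolubEven

set_option autoImplicit false
open Cfsg

namespace Cfsg.Agent.S2257

/-- Let G = PSL_2(F) with F a field of order q = 2^p, p prime, and for x ∈ G call the solubilizer of x the set of y ∈ G such that x and y generate a solvable subgroup. Then the solubilizer of an involution has 3q(q − 1) elements; that of a non-identity element of order dividing q − 1 has 2q(q − 1) elements; and that of a non-identity element of order dividing q + 1 has 2(q + 1) elements. -/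
theorem result (p : ℕ) (hp : p.Prime) {F : Type*} [Field F] [Fintype F]
    (hF : Fintype.card F = 2 ^ p) (x : Matrix.ProjectiveSpecialLinearGroup (Fin 2) F) :
    (orderOf x = 2 → Nat.card {y : Matrix.ProjectiveSpecialLinearGroup (Fin 2) F // Group.IsSolvable ↥(Subgroup.closure ({x, y} : Set (Matrix.ProjectiveSpecialLinearGroup (Fin 2) F)))} = 3 * 2 ^ p * (2 ^ p - 1)) ∧
    (x ≠ 1 → orderOf x ∣ 2 ^ p - 1 → Nat.card {y : Matrix.ProjectiveSpecialLinearGroup (Fin 2) F // Group.IsSolvable ↥(Subgroup.closure ({x, y} : Set (Matrix.ProjectiveSpecialLinearGroup (Fin 2) F)))} = 2 * 2 ^ p * (2 ^ p - 1)) ∧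
    (x ≠ 1 → orderOf x ∣ 2 ^ p + 1 → Nat.card {y : Matrix.ProjectiveSpecialLinearGroup (Fin 2) F // Group.IsSolvable ↥(Subgroup.closure ({x, y} : Set (Matrix.ProjectiveSpecialLinearGroup (Fin 2) F)))} = 2 * (2 ^ p + 1)) := by
  classical
  have hq : Fintype.card F = 2 ^ p := hF
  have heven : Even (Fintype.card F) := by
    rw [hF]; exact (Nat.even_pow.2 ⟨even_two, hp.ne_zero⟩)
  have : Fact (Nat.Prime 2) := ⟨Nat.prime_two⟩
  have : CharP F 2 := Cfsg.Agent.Lib.Helper98.PSL2Max3.charP_two_of_even heven
  refine ⟨?_, ?_, ?_⟩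
  · intro h2
    have hx : x ≠ 1 := by
      intro h
      rw [h, orderOf_one] at h2
      omega
    have hx2 : x ^ 2 = 1 := by
      have := pow_orderOf_eq_one x
      rwa [h2] at this
    rw [Cfsg.Agent.Lib.Helper19.SolubEven.sol_involution heven p hp hF x hx hx2, hF]
    ring
  · intro hx hord
    rw [← hF] at hord
    rw [Cfsg.Agent.Lib.Helper19.SolubEven.sol_split heven p hp hF x hx hord, hF]
    ring
  · intro hx hord
    rw [← hF] at hord
    rw [Cfsg.Agent.Lib.Helper19.Solub.sol_nonsplit heven p hp hF x hx hord, hF]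

end Cfsg.Agent.S2257
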