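import Cfsg.Statements.S2258
import Cfsg.Agent.Lib.Helper19.Solub3Main

set_option autoImplicit false
open Cfsg

namespace Cfsg.Agent.S2258

/-- Let G = PSL_2(F) with F a field of order q = 3^p, p an odd prime, and for x ∈ G call the solubilizer of x the set of y ∈ G such that x and y generate a solvable subgroup. Then the solubilizer of an involution has q(q + 1) elements; that of an element of order 3 has q(q + 5)/2 elements; that of an element of order neither 1 nor 2 dividing q − 1 has q(q − 1) elements; and that of an element of order neither 1 nor 2 dividing q + 1 has q + 1 elements. -/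
theorem result (p : ℕ) (hp : p.Prime) (hodd : Odd p) {F : Type*} [Field F] [Fintype F]
    (hF : Fintype.card F = 3 ^ p) (x : Matrix.ProjectiveSpecialLinearGroup (Fin 2) F) :
    (orderOf x = 2 → Nat.card {y : Matrix.ProjectiveSpecialLinearGroup (Fin 2) F // Group.IsSolvable ↥(Subgroup.closure ({x, y} : Set (Matrix.ProjectiveSpecialLinearGroup (Fin 2) F)))} = 3 ^ p * (3 ^ p + 1)) ∧
    (orderOf x = 3 → 2 * Nat.card {y : Matrix.ProjectiveSpecialLinearGroup (Fin 2) F // Group.IsSolvable ↥(Subgroup.closure ({x, y} : Set (Matrix.ProjectiveSpecialLinearGroup (Fin 2) F)))} = 3 ^ p * (3 ^ p + 5)) ∧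
    (x ≠ 1 → orderOf x ≠ 2 → orderOf x ∣ 3 ^ p - 1 → Nat.card {y : Matrix.ProjectiveSpecialLinearGroup (Fin 2) F // Group.IsSolvable ↥(Subgroup.closure ({x, y} : Set (Matrix.ProjectiveSpecialLinearGroup (Fin 2) F)))} = 3 ^ p * (3 ^ p - 1)) ∧
    (x ≠ 1 → orderOf x ≠ 2 → orderOf x ∣ 3 ^ p + 1 → Nat.card {y : Matrix.ProjectiveSpecialLinearGroup (Fin 2) F // Group.IsSolvable ↥(Subgroup.closure ({x, y} : Set (Matrix.ProjectiveSpecialLinearGroup (Fin 2) F)))} = 3 ^ p + 1) := by
  classical
  have : Fact (Nat.Prime 3) := ⟨Nat.prime_three⟩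
  have : CharP F 3 := Cfsg.Agent.Lib.Helper19.Solub3.charP_three p hF
  refine ⟨?_, ?_, ?_, ?_⟩
  · intro h2
    have hx : x ≠ 1 := by
      intro h
      rw [h, orderOf_one] at h2
      omega
    have hx2 : x ^ 2 = 1 := by
      have := pow_orderOf_eq_one x
      rwa [h2] at this
    rw [Cfsg.Agent.Lib.Helper19.Solub3Main.sol_involution p hp hodd hF x hx hx2, hF]
  · intro h3
    have hx : x ≠ 1 := by
      intro h
      rw [h, orderOf_one] at h3
      omega
    have hx3 : x ^ 3 = 1 := by
      have := pow_orderOf_eq_one x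
      rwa [h3] at this
    rw [Cfsg.Agent.Lib.Helper19.Solub3Main.sol_three p hp hodd hF x hx hx3, hF]
  · intro hx h2 hord
    have hx2 : x ^ 2 ≠ 1 := by
      intro h
      have hd := orderOf_dvd_of_pow_eq_one h
      rcases (Nat.dvd_prime Nat.prime_two).1 hd with h1 | h1
      · exact hx (orderOf_eq_one_iff.1 h1)
      · exact h2 h1
    rw [← hF] at hord
    rw [Cfsg.Agent.Lib.Helper19.Solub3Main.sol_split p hp hodd hF x hx hx2 hord, hF]
  · intro hx h2 hord
    have hx2 : x ^ 2 ≠ 1 := by
      intro h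
      have hd := orderOf_dvd_of_pow_eq_one h
      rcases (Nat.dvd_prime Nat.prime_two).1 hd with h1 | h1
      · exact hx (orderOf_eq_one_iff.1 h1)
      · exact h2 h1
    rw [← hF] at hord
    rw [Cfsg.Agent.Lib.Helper19.Solub3Main.sol_nonsplit p hp hodd hF x hx hx2 hord, hF]

end Cfsg.Agent.S2258
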