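import Cfsg.Statements.S2260
-- import your own Cfsg.Agent.* helpers here

set_option autoImplicit false
open Cfsg

namespace Cfsg.Agent.S2260

/-- Let F be a finite field of prime characteristic p and u an invertible d × d matrix over F with u − 1 nilpotent (a unipotent element). Then the order of u is at most p^⌈log_p d⌉; and if moreover (u − 1)^(d−1) ≠ 0 (u is a single Jordan block) then the order of u is exactly p^⌈log_p d⌉. -/
theorem result {F : Type*} [Field F] [Finite F] (p : ℕ) [Fact p.Prime] [CharP F p] (d : ℕ)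
    (u : GL (Fin d) F) (hu : IsNilpotent ((u : Matrix (Fin d) (Fin d) F) - 1)) :
    orderOf u ≤ p ^ Nat.clog p d ∧
    (((u : Matrix (Fin d) (Fin d) F) - 1) ^ (d - 1) ≠ 0 → orderOf u = p ^ Nat.clog p d) := by
  classical
  rcases Nat.eq_zero_or_pos d with hd | hd
  · subst hd
    have hu1 : u = 1 := Subsingleton.elim _ _
    have hz : ((u : Matrix (Fin 0) (Fin 0) F) - 1) ^ (0 - 1) = 0 := Subsingleton.elim _ _
    refine ⟨by simp [hu1], fun h => absurd hz h⟩
  have : Nonempty (Fin d) := ⟨⟨0, hd⟩⟩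
  have hp : p.Prime := Fact.out
  set N : Matrix (Fin d) (Fin d) F := (u : Matrix (Fin d) (Fin d) F) - 1 with hN
  -- N ^ d = 0
  have hNd : N ^ d = 0 := by
    have h1 := Matrix.isNilpotent_charpoly_sub_pow_of_isNilpotent hu
    have h2 : N.charpoly = Polynomial.X ^ (Fintype.card (Fin d)) := by
      have := h1.eq_zero
      exact sub_eq_zero.mp this
    have h3 := Matrix.aeval_self_charpoly N
    rw [h2] at h3
    simpa using h3
  -- key identity
  have hkey : ∀ k : ℕ, ((u ^ (p ^ k) : GL (Fin d) F) : Matrix (Fin d) (Fin d) F) - 1 = N ^ (p ^ k) := by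
    intro k
    have hc : Commute (u : Matrix (Fin d) (Fin d) F) 1 := Commute.one_right _
    have := sub_pow_char_pow_of_commute (p := p) (n := k) hc
    rw [hN, this]
    simp
  have hiff : ∀ k : ℕ, u ^ (p ^ k) = 1 ↔ N ^ (p ^ k) = 0 := by
    intro k
    rw [← hkey k, sub_eq_zero]
    constructor
    · intro h; rw [h]; rfl
    · intro h; exact Units.ext h
  have hle : d ≤ p ^ Nat.clog p d := Nat.le_pow_clog hp.one_lt d
  have hpow : u ^ (p ^ Nat.clog p d) = 1 := by
    rw [hiff]
    obtain ⟨c, hc⟩ := Nat.exists_eq_add_of_le hle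
    rw [hc, pow_add, hNd, zero_mul]
  have hdvd : orderOf u ∣ p ^ Nat.clog p d := orderOf_dvd_of_pow_eq_one hpow
  refine ⟨Nat.le_of_dvd (pow_pos hp.pos _) hdvd, ?_⟩
  intro hne
  obtain ⟨j, hj, hord⟩ := (Nat.dvd_prime_pow hp).1 hdvd
  rw [hord]
  congr 1
  by_contra hjne
  have hjlt : j < Nat.clog p d := lt_of_le_of_ne hj hjne
  have hlt : p ^ j < d := Nat.pow_lt_of_lt_clog hjlt
  have h1 : u ^ (p ^ j) = 1 := by rw [← hord]; exact pow_orderOf_eq_one u
  have h2 : N ^ (p ^ j) = 0 := (hiff j).1 h1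
  apply hne
  obtain ⟨c, hc⟩ := Nat.exists_eq_add_of_le (Nat.le_sub_one_of_lt hlt)
  rw [hc, pow_add, h2, zero_mul]

end Cfsg.Agent.S2260
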