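import Cfsg.Statements.S2261
-- import your own Cfsg.Agent.* helpers here

set_option autoImplicit false
open Cfsg

namespace Cfsg.Agent.S2261

open Matrix Polynomial

section
variable {F : Type*} [Field F] [Fintype F]

/-- evaluation of a polynomial of degree `< d`, given by its coefficient vector, at `γ` -/
noncomputable def ev (d : ℕ) (γ : Matrix (Fin d) (Fin d) F) (a : Fin d → F) :
    Matrix (Fin d) (Fin d) F :=
  ∑ i : Fin d, a i • γ ^ (i : ℕ)

lemma aeval_mem_range_ev (d : ℕ) (hd : 1 ≤ d) (γ : Matrix (Fin d) (Fin d) F) (P : F[X]) :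
    aeval γ P ∈ Set.range (ev d γ) := by
  classical
  have hχ : γ.charpoly.Monic := Matrix.charpoly_monic γ
  have hdeg : γ.charpoly.natDegree = d := by simpa using Matrix.charpoly_natDegree_eq_dim γ
  have hne : γ.charpoly ≠ 1 := by
    intro h
    rw [h] at hdeg
    simp at hdeg
    omega
  have h1 : aeval γ P = aeval γ (P %ₘ γ.charpoly) := by
    conv_lhs => rw [← Polynomial.modByMonic_add_div P γ.charpoly]
    simp [Matrix.aeval_self_charpoly]
  have h2 : (P %ₘ γ.charpoly).natDegree < d := by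
    have := Polynomial.natDegree_modByMonic_lt P hχ hne
    rwa [hdeg] at this
  refine ⟨fun i => (P %ₘ γ.charpoly).coeff i, ?_⟩
  rw [h1]
  conv_rhs => rw [Polynomial.as_sum_range' (P %ₘ γ.charpoly) d h2]
  simp [ev, Finset.sum_range, Polynomial.aeval_monomial, Algebra.smul_def]

lemma upper (d : ℕ) (hd : 1 ≤ d) (g : GL (Fin d) F ⧸ Subgroup.center (GL (Fin d) F)) :
    (Fintype.card F - 1) * orderOf g ≤ Fintype.card F ^ d - 1 := by
  classical
  obtain ⟨γ, rfl⟩ := QuotientGroup.mk_surjective g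
  haveI : Nonempty (Fin d) := ⟨⟨0, hd⟩⟩
  set n := orderOf (γ : GL (Fin d) F ⧸ Subgroup.center (GL (Fin d) F)) with hn
  let S : Finset (Matrix (Fin d) (Fin d) F) := Finset.univ.image (ev d γ.val)
  have hS : S.card ≤ Fintype.card F ^ d := by
    calc S.card ≤ (Finset.univ : Finset (Fin d → F)).card := Finset.card_image_le
      _ = Fintype.card F ^ d := by simp
  have h0S : (0 : Matrix (Fin d) (Fin d) F) ∈ S := by
    refine Finset.mem_image.2 ⟨0, Finset.mem_univ _, ?_⟩
    simp [ev]
  let ψ : Fˣ × Fin n → GL (Fin d) F :=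
    fun x => GeneralLinearGroup.scalar (Fin d) x.1 * γ ^ (x.2 : ℕ)
  have hψinj : Function.Injective ψ := by
    rintro ⟨c, i⟩ ⟨c', j⟩ h
    simp only [ψ] at h
    have hq : ((γ : GL (Fin d) F ⧸ Subgroup.center (GL (Fin d) F))) ^ (i : ℕ) =
        (γ : GL (Fin d) F ⧸ Subgroup.center (GL (Fin d) F)) ^ (j : ℕ) := by
      have h' := congrArg (QuotientGroup.mk (s := Subgroup.center (GL (Fin d) F))) h
      have hc : ∀ c : Fˣ, (QuotientGroup.mk (GeneralLinearGroup.scalar (Fin d) c) :
          GL (Fin d) F ⧸ Subgroup.center (GL (Fin d) F)) = 1 := by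
        intro c
        rw [QuotientGroup.eq_one_iff, GeneralLinearGroup.center_eq_range_scalar]
        exact ⟨c, rfl⟩
      simpa [QuotientGroup.mk_mul, hc] using h'
    have hij : (i : ℕ) = (j : ℕ) :=
      pow_injOn_Iio_orderOf (x := (γ : GL (Fin d) F ⧸ Subgroup.center (GL (Fin d) F)))
        (Set.mem_Iio.2 i.2) (Set.mem_Iio.2 j.2) hq
    have hij' : i = j := Fin.ext hij
    subst hij'
    have hcc : GeneralLinearGroup.scalar (Fin d) c = GeneralLinearGroup.scalar (Fin d) c' :=
      mul_right_cancel h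
    have hcc' : (c : F) = c' := by
      have := congrArg (fun M : GL (Fin d) F => (M : Matrix (Fin d) (Fin d) F) ⟨0, hd⟩ ⟨0, hd⟩) hcc
      simpa [GeneralLinearGroup.scalar] using this
    rw [Units.ext hcc']
  have hψS : ∀ x, ((ψ x : GL (Fin d) F) : Matrix (Fin d) (Fin d) F) ∈ S.erase 0 := by
    rintro ⟨c, i⟩
    refine Finset.mem_erase.2 ⟨Units.ne_zero _, ?_⟩
    have h := aeval_mem_range_ev d hd γ.val (C (c : F) * X ^ (i : ℕ))
    obtain ⟨a, ha⟩ := h
    refine Finset.mem_image.2 ⟨a, Finset.mem_univ _, ?_⟩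
    rw [ha]
    simp [ψ, GeneralLinearGroup.scalar, Algebra.smul_def, Matrix.scalar, Matrix.algebraMap_eq_diagonal]
  have hcard : Fintype.card (Fˣ × Fin n) ≤ (S.erase 0).card := by
    have := Finset.card_le_card_of_injOn (s := (Finset.univ : Finset (Fˣ × Fin n))) (t := S.erase 0)
      (fun x => ((ψ x : GL (Fin d) F) : Matrix (Fin d) (Fin d) F))
      (fun x _ => hψS x)
      (fun x _ y _ hxy => hψinj (Units.ext hxy))
    simpa using this
  rw [Fintype.card_prod, Fintype.card_units, Fintype.card_fin, Finset.card_erase_of_mem h0S] at hcard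
  exact hcard.trans (Nat.sub_le_sub_right hS 1)
end

section
variable {F : Type*} [Field F] [Fintype F]

lemma exists_singer (d : ℕ) (hd : 1 ≤ d) :
    ∃ g : GL (Fin d) F ⧸ Subgroup.center (GL (Fin d) F),
      (Fintype.card F - 1) * orderOf g = Fintype.card F ^ d - 1 := by
  classical
  obtain ⟨p, hp⟩ := CharP.exists F
  haveI : Fact p.Prime := ⟨CharP.char_is_prime F p⟩
  haveI : NeZero d := ⟨by omega⟩
  let K := FiniteField.Extension F p d
  have hfr : Module.finrank F K = d := FiniteField.finrank_extension F p d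
  let b : Module.Basis (Fin d) F K := Module.finBasisOfFinrankEq F K hfr
  haveI : Fintype K := Fintype.ofFinite K
  obtain ⟨ζ, hζ⟩ := IsCyclic.exists_generator (α := Kˣ)
  have hordζ : orderOf ζ = Fintype.card F ^ d - 1 := by
    rw [orderOf_eq_card_of_forall_mem_zpowers hζ, Nat.card_eq_fintype_card, Fintype.card_units,
      ← Nat.card_eq_fintype_card, FiniteField.natCard_extension, Nat.card_eq_fintype_card]
  let φ : Kˣ →* GL (Fin d) F := Units.map ((Algebra.leftMulMatrix b : K →ₐ[F] Matrix (Fin d) (Fin d) F) : K →* Matrix (Fin d) (Fin d) F)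
  refine ⟨((φ ζ : GL (Fin d) F) : GL (Fin d) F ⧸ Subgroup.center (GL (Fin d) F)), le_antisymm (upper d hd _) ?_⟩
  set n := orderOf ((φ ζ : GL (Fin d) F) : GL (Fin d) F ⧸ Subgroup.center (GL (Fin d) F)) with hn
  have hnpos : 0 < n := orderOf_pos _
  have h1 : (((φ ζ : GL (Fin d) F) : GL (Fin d) F ⧸ Subgroup.center (GL (Fin d) F))) ^ n = 1 :=
    pow_orderOf_eq_one _
  rw [← QuotientGroup.mk_pow, QuotientGroup.eq_one_iff, GeneralLinearGroup.center_eq_range_scalar] at h1
  obtain ⟨c, hc⟩ := h1
  have h2 : algebraMap F K (c : F) = (ζ : K) ^ n := by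
    apply Algebra.leftMulMatrix_injective b
    have := congrArg (fun M : GL (Fin d) F => (M : Matrix (Fin d) (Fin d) F)) hc
    simp only [φ, GeneralLinearGroup.scalar] at this
    rw [AlgHom.commutes, map_pow]
    simpa [Matrix.scalar, Matrix.algebraMap_eq_diagonal] using this
  have h3 : (ζ : K) ^ (n * (Fintype.card F - 1)) = 1 := by
    rw [pow_mul, ← h2, ← map_pow, FiniteField.pow_card_sub_one_eq_one _ (Units.ne_zero c), map_one]
  have h4 : ζ ^ (n * (Fintype.card F - 1)) = 1 := Units.ext (by simpa using h3)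
  have h5 := orderOf_dvd_of_pow_eq_one h4
  rw [hordζ] at h5
  have hq : 0 < Fintype.card F - 1 := by
    have := Fintype.one_lt_card (α := F)
    omega
  have := Nat.le_of_dvd (Nat.mul_pos hnpos hq) h5
  rw [mul_comm]
  exact this
end


/-- Let F be a finite field with q elements and d ≥ 1. Then every element of PGL_d(F) = GL_d(F)/Z has order at most (q^d − 1)/(q − 1), and some element (the image of a Singer cycle) has exactly this order. -/
theorem result {F : Type*} [Field F] [Fintype F] (d : ℕ) (hd : 1 ≤ d) :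
    (∀ g : (GL (Fin d) F ⧸ Subgroup.center (GL (Fin d) F)), (Fintype.card F - 1) * orderOf g ≤ Fintype.card F ^ d - 1) ∧
    (∃ g : (GL (Fin d) F ⧸ Subgroup.center (GL (Fin d) F)), (Fintype.card F - 1) * orderOf g = Fintype.card F ^ d - 1) := by
  exact ⟨fun g => upper d hd g, exists_singer d hd⟩

end Cfsg.Agent.S2261
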