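import Cfsg.Statements.S2268
-- import your own Cfsg.Agent.* helpers here

set_option autoImplicit false
open Cfsg

namespace Cfsg.Agent.S2268

/-- Let G be a finite group with an abelian Sylow p-subgroup P and let Q ≤ P. Then N_G(Q) = (N_G(Q) ∩ N_G(P))·C_G(Q), so that N_G(Q)/C_G(Q) is a homomorphic image of the subgroup (N_G(Q) ∩ N_G(P))/C_G(P) of N_G(P)/C_G(P); in particular the order of N_G(Q)/C_G(Q) divides the order of N_G(P)/C_G(P). -/
theorem result {G : Type*} [Group G] [Finite G] {p : ℕ} [Fact p.Prime]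
    (P : Sylow p G) (hP : IsMulCommutative (P : Subgroup G)) (Q : Subgroup G) (hQ : Q ≤ (P : Subgroup G)) :
    Subgroup.normalizer (Q : Set G) =
      (Subgroup.normalizer (Q : Set G) ⊓ Subgroup.normalizer ((P : Subgroup G) : Set G)) ⊔ Subgroup.centralizer (Q : Set G) ∧
    ((Subgroup.centralizer (Q : Set G)).subgroupOf (Subgroup.normalizer (Q : Set G))).index ∣ ((Subgroup.centralizer ((P : Subgroup G) : Set G)).subgroupOf (Subgroup.normalizer ((P : Subgroup G) : Set G))).index := by
  classical
  have hQP : (Q : Set G) ⊆ ((P : Subgroup G) : Set G) := hQ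
  have hPCQ : (P : Subgroup G) ≤ Subgroup.centralizer (Q : Set G) := by
    intro x hx
    rw [Subgroup.mem_centralizer_iff]
    intro y hy
    have hy' : y ∈ (P : Subgroup G) := hQ hy
    have h := hP.is_comm.comm (⟨y, hy'⟩ : ↥(P : Subgroup G)) ⟨x, hx⟩
    exact congrArg Subtype.val h
  have hCN : Subgroup.centralizer (Q : Set G) ≤ Subgroup.normalizer (Q : Set G) :=
    Subgroup.centralizer_le_normalizer _
  have hPN : (P : Subgroup G) ≤ Subgroup.normalizer (Q : Set G) := hPCQ.trans hCN
  have hCPCQ : Subgroup.centralizer ((P : Subgroup G) : Set G) ≤ Subgroup.centralizer (Q : Set G) :=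
    Subgroup.centralizer_le hQP
  have hCPNP : Subgroup.centralizer ((P : Subgroup G) : Set G) ≤ Subgroup.normalizer ((P : Subgroup G) : Set G) :=
    Subgroup.centralizer_le_normalizer _
  -- Frattini inside NQ
  have hnorm : ((Subgroup.centralizer (Q : Set G)).subgroupOf (Subgroup.normalizer (Q : Set G))).Normal :=
    Subgroup.normal_subgroupOf_centralizer_normalizer _
  have hP'le : ((P.subtype hPN : Sylow p ↥(Subgroup.normalizer (Q : Set G))) : Subgroup ↥(Subgroup.normalizer (Q : Set G))) ≤
      (Subgroup.centralizer (Q : Set G)).subgroupOf (Subgroup.normalizer (Q : Set G)) := by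
    intro x hx
    rw [Subgroup.mem_subgroupOf]
    have : (x : G) ∈ (P : Subgroup G) := by
      simpa [Sylow.coe_subtype, Subgroup.mem_subgroupOf] using hx
    exact hPCQ this
  have hfrat := Sylow.normalizer_sup_eq_top' (P.subtype hPN) hP'le
  have hsub : Subgroup.normalizer (((P.subtype hPN : Sylow p ↥(Subgroup.normalizer (Q : Set G))) : Subgroup ↥(Subgroup.normalizer (Q : Set G))) : Set ↥(Subgroup.normalizer (Q : Set G))) ≤
      (Subgroup.normalizer (Q : Set G) ⊓ Subgroup.normalizer ((P : Subgroup G) : Set G)).subgroupOf (Subgroup.normalizer (Q : Set G)) := by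
    intro x hx
    rw [Subgroup.mem_subgroupOf, Subgroup.mem_inf]
    refine ⟨x.2, ?_⟩
    rw [Subgroup.mem_normalizer_iff] at hx ⊢
    intro h
    constructor
    · intro hh
      have h1 := (hx ⟨h, hPN hh⟩).1 (by simpa [Sylow.coe_subtype, Subgroup.mem_subgroupOf] using hh)
      simpa [Sylow.coe_subtype, Subgroup.mem_subgroupOf] using h1
    · intro hh
      have hmem : h ∈ Subgroup.normalizer (Q : Set G) := by
        have h2 : (x : G)⁻¹ * ((x : G) * h * (x : G)⁻¹) * (x : G) ∈ Subgroup.normalizer (Q : Set G) :=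
          mul_mem (mul_mem (inv_mem x.2) (hPN hh)) x.2
        simpa [mul_assoc] using h2
      have h1 := (hx ⟨h, hmem⟩).2 (by simpa [Sylow.coe_subtype, Subgroup.mem_subgroupOf] using hh)
      simpa [Sylow.coe_subtype, Subgroup.mem_subgroupOf] using h1
  have htop : (Subgroup.normalizer (Q : Set G) ⊓ Subgroup.normalizer ((P : Subgroup G) : Set G)).subgroupOf (Subgroup.normalizer (Q : Set G)) ⊔
      (Subgroup.centralizer (Q : Set G)).subgroupOf (Subgroup.normalizer (Q : Set G)) = ⊤ := by
    rw [eq_top_iff, ← hfrat]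
    exact sup_le_sup_right hsub _
  have hpart1 : Subgroup.normalizer (Q : Set G) =
      (Subgroup.normalizer (Q : Set G) ⊓ Subgroup.normalizer ((P : Subgroup G) : Set G)) ⊔ Subgroup.centralizer (Q : Set G) := by
    apply le_antisymm
    · rw [← Subgroup.subgroupOf_eq_top, Subgroup.subgroupOf_sup inf_le_left hCN]
      exact htop
    · exact sup_le inf_le_left hCN
  refine ⟨hpart1, ?_⟩
  -- index computation
  have hidx : (Subgroup.centralizer (Q : Set G)).relIndex (Subgroup.normalizer (Q : Set G)) =
      (Subgroup.centralizer (Q : Set G)).relIndex (Subgroup.normalizer (Q : Set G) ⊓ Subgroup.normalizer ((P : Subgroup G) : Set G)) := by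
    have h1 := Subgroup.relIndex_sup_left
      ((Subgroup.normalizer (Q : Set G) ⊓ Subgroup.normalizer ((P : Subgroup G) : Set G)).subgroupOf (Subgroup.normalizer (Q : Set G)))
      ((Subgroup.centralizer (Q : Set G)).subgroupOf (Subgroup.normalizer (Q : Set G)))
    rw [sup_comm, htop, Subgroup.relIndex_top_right] at h1
    rw [Subgroup.relIndex_subgroupOf inf_le_left] at h1
    exact h1
  have hCPM : Subgroup.centralizer ((P : Subgroup G) : Set G) ≤
      Subgroup.normalizer (Q : Set G) ⊓ Subgroup.normalizer ((P : Subgroup G) : Set G) :=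
    le_inf (hCPCQ.trans hCN) hCPNP
  have h2 := Subgroup.relIndex_dvd_of_le_left
    (Subgroup.normalizer (Q : Set G) ⊓ Subgroup.normalizer ((P : Subgroup G) : Set G)) hCPCQ
  have h3 := Subgroup.relIndex_mul_relIndex _ _ _ hCPM
    (inf_le_right : Subgroup.normalizer (Q : Set G) ⊓ Subgroup.normalizer ((P : Subgroup G) : Set G) ≤ Subgroup.normalizer ((P : Subgroup G) : Set G))
  show (Subgroup.centralizer (Q : Set G)).relIndex (Subgroup.normalizer (Q : Set G)) ∣
    (Subgroup.centralizer ((P : Subgroup G) : Set G)).relIndex (Subgroup.normalizer ((P : Subgroup G) : Set G))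
  rw [hidx, ← h3]
  exact Dvd.dvd.mul_right h2 _

end Cfsg.Agent.S2268
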