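import Cfsg.Statements.S2270
import Cfsg.Agent.Lib.Helper45.Automizer

set_option autoImplicit false
open Cfsg

namespace Cfsg.Agent.S2270

open Cfsg.Agent.Lib.Helper45

/-- Let n ≥ 3, p an odd prime, and P an abelian Sylow p-subgroup of the symmetric group S_n (with p dividing n!, so that P ≠ 1). Then N(P)/C(P) has even order. -/
theorem result (n : ℕ) (hn : 3 ≤ n) {p : ℕ} [Fact p.Prime] (hp : p ≠ 2) (hpn : p ≤ n)
    (P : Sylow p (Equiv.Perm (Fin n))) (hP : IsMulCommutative (P : Subgroup (Equiv.Perm (Fin n)))) :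
    2 ∣ ((Subgroup.centralizer ((P : Subgroup (Equiv.Perm (Fin n))) : Set (Equiv.Perm (Fin n)))).subgroupOf (Subgroup.normalizer ((P : Subgroup (Equiv.Perm (Fin n))) : Set (Equiv.Perm (Fin n))))).index := by
  have hpp : p.Prime := Fact.out
  have hdvd : p ∣ Nat.card (Equiv.Perm (Fin n)) := by
    rw [Nat.card_eq_fintype_card, Fintype.card_perm, Fintype.card_fin]
    exact (Nat.Prime.dvd_factorial hpp).mpr hpn
  have hbot : (P : Subgroup (Equiv.Perm (Fin n))) ≠ ⊥ := P.ne_bot_of_dvd_card hdvd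
  obtain ⟨⟨x, hxP⟩, hx1⟩ := (Subgroup.ne_bot_iff_exists_ne_one.mp hbot)
  have hx1' : x ≠ 1 := fun h => hx1 (Subtype.ext h)
  -- x is not an involution
  have hne : x ≠ x⁻¹ := by
    intro h
    have hsq : x ^ 2 = 1 := by
      rw [pow_two]
      nth_rewrite 2 [h]
      exact mul_inv_cancel x
    obtain ⟨k, hk⟩ := P.isPGroup' ⟨x, hxP⟩
    have hk' : x ^ (p ^ k) = 1 := by
      have := congrArg Subtype.val hk
      simpa using this
    have h1 : orderOf x ∣ 2 := orderOf_dvd_of_pow_eq_one hsq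
    have h2 : orderOf x ∣ p ^ k := orderOf_dvd_of_pow_eq_one hk'
    have hcop : Nat.Coprime 2 (p ^ k) := by
      apply Nat.Coprime.pow_right
      rw [Nat.coprime_primes Nat.prime_two hpp]
      exact fun h => hp h.symm
    have : orderOf x = 1 := Nat.eq_one_of_dvd_coprimes hcop h1 h2
    exact hx1' (orderOf_eq_one_iff.mp this)
  -- x and x⁻¹ are conjugate in the symmetric group
  have hconj : IsConj x x⁻¹ := by
    rw [Equiv.Perm.isConj_iff_cycleType_eq, Equiv.Perm.cycleType_inv]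
  obtain ⟨c, hc⟩ := isConj_iff.mp hconj
  have hy : (c⁻¹)⁻¹ * x * c⁻¹ ∈ (P : Subgroup (Equiv.Perm (Fin n))) := by
    rw [inv_inv, hc]
    exact inv_mem hxP
  obtain ⟨m, hm, hmx⟩ := P.conj_eq_normalizer_conj_of_mem x c⁻¹ hxP hy
  rw [inv_inv, hc] at hmx
  refine two_dvd_automizer_index (P : Subgroup (Equiv.Perm (Fin n))) m⁻¹ (inv_mem hm) x hxP ?_ hne
  rw [inv_inv]
  exact hmx.symm

end Cfsg.Agent.S2270
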