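import Cfsg.Statements.S2272
import Cfsg.Agent.Lib.Helper73.CPHub

set_option autoImplicit false
open Cfsg

namespace Cfsg.Agent.S2272

open Matrix Cfsg.Agent.Lib.Helper73.CPSpec

/-- the transvection `1 + s E_{ij}` as an element of `SL_d` -/
noncomputable def tvSL {F : Type*} [Field F] {d : ℕ} (i j : Fin d) (hij : i ≠ j) (s : F) :
    SpecialLinearGroup (Fin d) F :=
  ⟨1 + Matrix.single i j s, by
    have := Matrix.det_transvection_of_ne i j hij s
    simpa [Matrix.transvection] using this⟩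

theorem tvSL_coe {F : Type*} [Field F] {d : ℕ} (i j : Fin d) (hij : i ≠ j) (s : F) :
    ((tvSL i j hij s : SpecialLinearGroup (Fin d) F) : Matrix (Fin d) (Fin d) F) =
      1 + Matrix.single i j s := rfl

theorem tvSL_mul_neg {F : Type*} [Field F] {d : ℕ} (i j : Fin d) (hij : i ≠ j) (s : F) :
    (tvSL i j hij s) * (tvSL i j hij (-s)) = 1 := by
  apply Subtype.ext
  have h := Matrix.transvection_mul_transvection_same (R := F) i j hij s (-s)
  simp only [Matrix.transvection, add_neg_cancel, Matrix.single_zero, add_zero] at h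
  simpa [tvSL_coe] using h

theorem tvSL_inv {F : Type*} [Field F] {d : ℕ} (i j : Fin d) (hij : i ≠ j) (s : F) :
    (tvSL i j hij s)⁻¹ = tvSL i j hij (-s) :=
  inv_eq_of_mul_eq_one_right (tvSL_mul_neg i j hij s)

theorem tvSL_inv_coe {F : Type*} [Field F] {d : ℕ} (i j : Fin d) (hij : i ≠ j) (s : F) :
    (((tvSL i j hij s)⁻¹ : SpecialLinearGroup (Fin d) F) : Matrix (Fin d) (Fin d) F) =
      1 - Matrix.single i j s := by
  rw [tvSL_inv, tvSL_coe, ← Matrix.single_neg, sub_eq_add_neg]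

theorem coe_key {F : Type*} [Field F] {d : ℕ} (A' B' : SpecialLinearGroup (Fin d) F)
    (i0 i1 i2 : Fin d) (h01 : i0 ≠ i1) (h02 : i0 ≠ i2) (r s : F) :
    ((tvSL i0 i1 h01 s * A' * (tvSL i0 i1 h01 s)⁻¹ *
      ((tvSL i0 i2 h02 r)⁻¹ * B' * tvSL i0 i2 h02 r) : SpecialLinearGroup (Fin d) F) :
        Matrix (Fin d) (Fin d) F) =
      (1 + Matrix.single i0 i1 s) * (A' : Matrix (Fin d) (Fin d) F) * (1 - Matrix.single i0 i1 s) *
        ((1 - Matrix.single i0 i2 r) * (B' : Matrix (Fin d) (Fin d) F) *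
          (1 + Matrix.single i0 i2 r)) := by
  have hc : ∀ X Y : SpecialLinearGroup (Fin d) F,
      ((X * Y : SpecialLinearGroup (Fin d) F) : Matrix (Fin d) (Fin d) F) =
        (X : Matrix (Fin d) (Fin d) F) * (Y : Matrix (Fin d) (Fin d) F) := fun X Y => by simp
  rw [tvSL_inv, tvSL_inv, hc, hc, hc, hc, hc, tvSL_coe, tvSL_coe, tvSL_coe, tvSL_coe,
    ← Matrix.single_neg, ← Matrix.single_neg, ← sub_eq_add_neg, ← sub_eq_add_neg]

/-- conjugating a non-scalar element of `SL_d`, `d ≥ 3`, so that `e_i ↦ e_j` -/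
theorem exists_conj_mulVec_single {F : Type*} [Field F] {d : ℕ} (hd : 3 ≤ d)
    (A : SpecialLinearGroup (Fin d) F)
    (hA : ∀ r : F, (A : Matrix (Fin d) (Fin d) F) ≠ Matrix.scalar (Fin d) r)
    (i j : Fin d) (hij : i ≠ j) :
    ∃ P : SpecialLinearGroup (Fin d) F,
      ((P⁻¹ * A * P : SpecialLinearGroup (Fin d) F) : Matrix (Fin d) (Fin d) F) *ᵥ Pi.single i 1 =
        Pi.single j 1 := by
  obtain ⟨v, hv⟩ := exists_linearIndependent_mulVec (A : Matrix (Fin d) (Fin d) F) hA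
  obtain ⟨P, hP1, hP2⟩ := exists_sl_mulVec_single hd i j hij v _ hv
  refine ⟨P, ?_⟩
  have hinv : ((P⁻¹ : SpecialLinearGroup (Fin d) F) : Matrix (Fin d) (Fin d) F) *
      (P : Matrix (Fin d) (Fin d) F) = 1 := by
    have hdet := P.2
    simp [adjugate_mul, hdet]
  have hc : ((P⁻¹ * A * P : SpecialLinearGroup (Fin d) F) : Matrix (Fin d) (Fin d) F) =
      ((P⁻¹ : SpecialLinearGroup (Fin d) F) : Matrix (Fin d) (Fin d) F) *
        (A : Matrix (Fin d) (Fin d) F) * (P : Matrix (Fin d) (Fin d) F) := by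
    simp
  rw [hc, ← Matrix.mulVec_mulVec, ← Matrix.mulVec_mulVec, hP1, ← hP2, Matrix.mulVec_mulVec, hinv,
    Matrix.one_mulVec]

/-- the product of two non-central classes of `SL_d`, `d ≥ 3`, contains elements of every trace -/
theorem exists_trace_conj_mul {F : Type*} [Field F] {d : ℕ} (hd : 3 ≤ d)
    (A B : SpecialLinearGroup (Fin d) F)
    (hA : ∀ r : F, (A : Matrix (Fin d) (Fin d) F) ≠ Matrix.scalar (Fin d) r)
    (hB : ∀ r : F, (B : Matrix (Fin d) (Fin d) F) ≠ Matrix.scalar (Fin d) r) (t : F) :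
    ∃ g h : SpecialLinearGroup (Fin d) F,
      Matrix.trace ((g * A * g⁻¹ * (h * B * h⁻¹) : SpecialLinearGroup (Fin d) F) :
        Matrix (Fin d) (Fin d) F) = t := by
  set i0 : Fin d := ⟨0, by omega⟩ with hi0
  set i1 : Fin d := ⟨1, by omega⟩ with hi1
  set i2 : Fin d := ⟨2, by omega⟩ with hi2
  have h01 : i0 ≠ i1 := by simp [hi0, hi1, Fin.ext_iff]
  have h02 : i0 ≠ i2 := by simp [hi0, hi2, Fin.ext_iff]
  have h12 : i1 ≠ i2 := by simp [hi1, hi2, Fin.ext_iff]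
  obtain ⟨P, hP⟩ := exists_conj_mulVec_single hd A hA i0 i2 h02
  obtain ⟨Q, hQ⟩ := exists_conj_mulVec_single hd B hB i0 i1 h01
  obtain ⟨r, s, hrs⟩ := exists_trace_eq _ _ i0 i1 i2 h01 h02 h12 hP hQ t
  refine ⟨tvSL i0 i1 h01 s * P⁻¹, (tvSL i0 i2 h02 r)⁻¹ * Q⁻¹, ?_⟩
  have e1 : tvSL i0 i1 h01 s * P⁻¹ * A * (tvSL i0 i1 h01 s * P⁻¹)⁻¹ =
      tvSL i0 i1 h01 s * (P⁻¹ * A * P) * (tvSL i0 i1 h01 s)⁻¹ := by group
  have e2 : (tvSL i0 i2 h02 r)⁻¹ * Q⁻¹ * B * ((tvSL i0 i2 h02 r)⁻¹ * Q⁻¹)⁻¹ =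
      (tvSL i0 i2 h02 r)⁻¹ * (Q⁻¹ * B * Q) * (tvSL i0 i2 h02 r) := by group
  rw [e1, e2, ← hrs, coe_key]

theorem result {F : Type*} [Field F] [Fintype F] (d : ℕ) (hd : 3 ≤ d)
    (a b : Matrix.ProjectiveSpecialLinearGroup (Fin d) F) (ha : a ≠ 1) (hb : b ≠ 1) :
    ∃ g h : Matrix.ProjectiveSpecialLinearGroup (Fin d) F, ¬ IsConj (a * b) (g * a * g⁻¹ * (h * b * h⁻¹)) := by
  obtain ⟨A, rfl, hA⟩ := exists_lift_not_scalar a ha
  obtain ⟨B, rfl, hB⟩ := exists_lift_not_scalar b hb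
  obtain ⟨g0, h0, hX0⟩ := exists_trace_conj_mul hd A B hA hB 0
  obtain ⟨g1, h1, hX1⟩ := exists_trace_conj_mul hd A B hA hB 1
  by_contra hcon
  have hcon' : ∀ g h : Matrix.ProjectiveSpecialLinearGroup (Fin d) F,
      IsConj (QuotientGroup.mk A * QuotientGroup.mk B : Matrix.ProjectiveSpecialLinearGroup (Fin d) F)
        (g * QuotientGroup.mk A * g⁻¹ * (h * QuotientGroup.mk B * h⁻¹)) := by
    intro g h
    by_contra h'
    exact hcon ⟨g, h, h'⟩
  have c0 := hcon' (QuotientGroup.mk g0) (QuotientGroup.mk h0)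
  have c1 := hcon' (QuotientGroup.mk g1) (QuotientGroup.mk h1)
  have c01 := c0.symm.trans c1
  have hne : Matrix.trace ((g1 * A * g1⁻¹ * (h1 * B * h1⁻¹) : SpecialLinearGroup (Fin d) F) :
        Matrix (Fin d) (Fin d) F) ≠ 0 := by rw [hX1]; exact one_ne_zero
  exact not_isConj_of_trace _ _ hX0 hne c01

end Cfsg.Agent.S2272
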