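import Cfsg.Statements.S2276
import Cfsg.Agent.Lib.Helper45.AltFreeTop
import Cfsg.Agent.Lib.Helper32.AltFreeBridge

set_option autoImplicit false
open Cfsg

namespace Cfsg.Agent.S2276

open Cfsg.Agent.Lib.Helper45.AltFree in
/-- Let n ≥ 5, p ≥ 3 a prime, and u, w non-identity elements of p-power order in the alternating group A_n. Then there is g ∈ A_n such that u·(g w g⁻¹) does not have p-power order and ⟨u, g w g⁻¹⟩ is not solvable. -/
theorem result (n : ℕ) (hn : 5 ≤ n) (p : ℕ) (hp : p.Prime) (hp3 : 3 ≤ p) (u w : alternatingGroup (Fin n)) (hu : u ≠ 1) (hw : w ≠ 1)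
    (hu' : ∃ k : ℕ, orderOf u = p ^ k) (hw' : ∃ k : ℕ, orderOf w = p ^ k) :
    ∃ g : alternatingGroup (Fin n), (¬ ∃ k : ℕ, orderOf (u * (g * w * g⁻¹)) = p ^ k) ∧
      ¬ Group.IsSolvable ↥(Subgroup.closure ({u, g * w * g⁻¹} : Set (alternatingGroup (Fin n)))) := by
  apply Cfsg.Agent.Lib.Helper32.AltFree.bridge n p u w
  refine main_perm (α := Fin n) (by simpa using hn) p hp hp3 (u : Equiv.Perm (Fin n))
    (w : Equiv.Perm (Fin n)) ?_ ?_ ?_ ?_
  · intro h; exact hu (Subtype.ext h)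
  · intro h; exact hw (Subtype.ext h)
  · obtain ⟨k, hk⟩ := hu'; exact ⟨k, by rw [← hk, Subgroup.orderOf_coe]⟩
  · obtain ⟨k, hk⟩ := hw'; exact ⟨k, by rw [← hk, Subgroup.orderOf_coe]⟩

end Cfsg.Agent.S2276
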