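import Cfsg.Statements.S2278
import Cfsg.Agent.Lib.Helper20.RU2Defs
import Cfsg.Agent.Lib.Helper20.RU2A
import Cfsg.Agent.Lib.Helper73.RUHub
import Cfsg.Agent.S2280
import Cfsg.Agent.Lib.Helper20.RU2I
import Cfsg.Agent.Lib.Helper79.RU2B
import Cfsg.Agent.Lib.Helper27.RU2C
import Cfsg.Agent.Lib.Helper53.RU2D
import Cfsg.Agent.Lib.Helper52.RU2E
import Cfsg.Agent.Lib.Helper23.RU2F
import Cfsg.Agent.Lib.Helper23.RU2G
import Cfsg.Agent.Lib.Helper80.RU2H

set_option autoImplicit false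
open Cfsg

namespace Cfsg.Agent.S2278

open Matrix Cfsg.Agent.Lib.Helper73.RU Cfsg.Agent.Lib.Helper20.RU2
open Cfsg.Agent.Lib.Helper79.RU2 Cfsg.Agent.Lib.Helper27.RU2 Cfsg.Agent.Lib.Helper53.RU2
open Cfsg.Agent.Lib.Helper52.RU2 Cfsg.Agent.Lib.Helper23.RU2 Cfsg.Agent.Lib.Helper80.RU2

theorem inG_pow_aux {F : Type*} [Field F] {G : Subgroup (SpecialLinearGroup (Fin 3) F)}
    {A : Matrix (Fin 3) (Fin 3) F} (hA : InG G A) (k : ℕ) : InG G (A ^ k) := by
  induction k with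
  | zero => rw [pow_zero]; exact inG_one
  | succ k ih => rw [pow_succ]; exact inG_mul ih hA

/-- Let F be a finite field. Then SL_3(F) is generated by two conjugate regular unipotent elements: there are u with u − 1 nilpotent and (u − 1)² ≠ 0, and g, such that u and g u g⁻¹ generate SL_3(F). -/
theorem result {F : Type*} [Field F] [Fintype F] :
    ∃ u g : Matrix.SpecialLinearGroup (Fin 3) F, IsNilpotent ((u : Matrix (Fin 3) (Fin 3) F) - 1) ∧ ((u : Matrix (Fin 3) (Fin 3) F) - 1) ^ (3 - 1) ≠ 0 ∧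
      Subgroup.closure ({u, g * u * g⁻¹} : Set (Matrix.SpecialLinearGroup (Fin 3) F)) = ⊤ := by
  classical
  let u : SpecialLinearGroup (Fin 3) F := ⟨A3 F, det_A3 F⟩
  by_cases h2 : Fintype.card F = 2
  · -- `q = 2`
    obtain ⟨h20, hgen⟩ := card_two_facts h2
    let g : SpecialLinearGroup (Fin 3) F := ⟨g4 (0 : F), det_g4 h20 0⟩
    refine ⟨u, g, (A3_regular F).1, (A3_regular F).2, ?_⟩
    set G := Subgroup.closure ({u, g * u * g⁻¹} : Set (Matrix.SpecialLinearGroup (Fin 3) F)) with hG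
    have hu : InG G (A3 F) := ⟨u, Subgroup.subset_closure (by simp), rfl⟩
    have hv : InG G (cL F) :=
      ⟨g * u * g⁻¹, Subgroup.subset_closure (by simp),
        Cfsg.Agent.S2280.coe_conj_eq g u _ (g4_mul_A3 (0 : F))⟩
    have hz : InG G (tvm ((1 : F) • (Pi.single 0 1 : Fin 3 → F)) (Pi.single 2 1)) := by
      rw [← A3_sq h20]
      exact inG_mul hu hu
    exact eq_top_of_three 1 one_ne_zero hgen hu hv hz
  by_cases h4 : Fintype.card F = 4
  · -- `q = 4`
    obtain ⟨h20, ω, hω, hω0, hgen⟩ := card_four_facts h4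
    let g : SpecialLinearGroup (Fin 3) F := ⟨g4 ω, det_g4 h20 ω⟩
    refine ⟨u, g, (A3_regular F).1, (A3_regular F).2, ?_⟩
    set G := Subgroup.closure ({u, g * u * g⁻¹} : Set (Matrix.SpecialLinearGroup (Fin 3) F)) with hG
    have hu : InG G (A3 F) := ⟨u, Subgroup.subset_closure (by simp), rfl⟩
    have hv : InG G (vM4 ω) :=
      ⟨g * u * g⁻¹, Subgroup.subset_closure (by simp),
        Cfsg.Agent.S2280.coe_conj_eq g u _ (g4_mul_A3 ω)⟩
    have hvi : InG G (vM4inv ω) := inG_of_mul_eq_one hv (vM4_mul_inv h20 ω)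
    have hz : InG G (tvm (ω • (Pi.single 0 1 : Fin 3 → F)) (Pi.single 2 1)) := by
      rw [← word_E13 h20 hω]
      exact inG_mul (inG_mul (inG_mul (inG_mul (inG_mul (inG_mul (inG_mul (inG_mul (inG_mul hu hv) hv) hu)
        hu) hvi) hu) hu) hv) hv
    have hc : InG G (cL F) := by
      rw [← word_cL h20 hω]
      exact inG_mul (inG_mul (inG_mul (inG_mul (inG_mul (inG_mul (inG_mul (inG_mul hu hu) hv) hv) hu)
        hv) hv) hu) hu
    exact eq_top_of_three ω hω0 hgen hu hc hz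
  · -- the general case
    obtain ⟨l, hl0, hl⟩ := Cfsg.Agent.Lib.Helper73.RUSpec.exists_gen F
    have hl3 : l ^ 3 ≠ 1 := gen_pow_three_ne_one h2 h4 hl0 hl
    have hl1 : l - 1 ≠ 0 := by
      intro h
      apply hl3
      rw [sub_eq_zero.mp h, one_pow]
    let g : SpecialLinearGroup (Fin 3) F := ⟨gM l, det_gM hl0⟩
    refine ⟨u, g, (A3_regular F).1, (A3_regular F).2, ?_⟩
    set G := Subgroup.closure ({u, g * u * g⁻¹} : Set (Matrix.SpecialLinearGroup (Fin 3) F)) with hG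
    have hu : InG G (A3 F) := ⟨u, Subgroup.subset_closure (by simp), rfl⟩
    have hv : InG G (A3 F * dM l) :=
      ⟨g * u * g⁻¹, Subgroup.subset_closure (by simp),
        Cfsg.Agent.S2280.coe_conj_eq g u _ (gM_mul_A3 hl0)⟩
    have hd : InG G (dM l) := inG_of_mul_left hu hv
    have hz : InG G (tvm ((l - 1) ^ 3 • (Pi.single 2 1 : Fin 3 → F)) (Pi.single 0 1)) := by
      rw [← dM_pow_card_sub_one hl0 hl3]
      exact inG_pow_aux hd _
    have hc' : (l - 1) ^ 3 ≠ 0 := pow_ne_zero _ hl1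
    have h1 := row1_mem hl0 hl3 hc' (fun S hS hne => addSubgroup_eq_top h4 hl0 hl S hS hne) hu hd hz
    have h12 := row12_mem hc' hu hz h1
    exact eq_top_of_e0_mem_Ax hu (e0_mem_Ax h1 h12)

end Cfsg.Agent.S2278
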