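import Mathlib
import Cfsg.Statements.S2281
import Cfsg.Agent.Lib.Helper48.RSpDefs2
import Cfsg.Agent.Lib.Helper23.RSpM1
import Cfsg.Agent.Lib.Helper03.RSpM2
import Cfsg.Agent.Lib.Helper03.RSpM3
import Cfsg.Agent.Lib.Helper26.RSpM4
import Cfsg.Agent.Lib.Helper68.RSpM5
import Cfsg.Agent.Lib.Helper64.RSpM6
import Cfsg.Agent.Lib.Helper27.RSpX1
import Cfsg.Agent.Lib.Helper63.RSpX2
import Cfsg.Agent.Lib.Helper28.RSpX3
import Cfsg.Agent.Lib.Helper46.RSpP1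
import Cfsg.Agent.Lib.Helper80.RSpP2
import Cfsg.Agent.Lib.Helper54.RSpP3
import Cfsg.Agent.Lib.Helper69.RSpP4
import Cfsg.Agent.Lib.Helper64.RSpE1
import Cfsg.Agent.Lib.Helper93.RSpE2
import Cfsg.Agent.Lib.Helper45.RSpE3
import Cfsg.Agent.Lib.Helper20.RSpE4
import Cfsg.Agent.Lib.Helper99.RSpE5
import Cfsg.Agent.Lib.Helper83.RSpE6
import Cfsg.Agent.Lib.Helper69.RSpA1
import Cfsg.Agent.Lib.Helper34.RSpA2
import Cfsg.Agent.Lib.Helper66.RSpA3

set_option autoImplicit false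
open Cfsg

namespace Cfsg.Agent.S2281

open Matrix Cfsg.Agent.Lib.Helper48.RSp Cfsg.Agent.Lib.Helper18

variable {m : ℕ} {F : Type*} [Field F]

/-- the endgame: `Q ≤ G` and `c ∈ G` give `G = ⊤` -/
theorem s2281_top (G : Subgroup (SpG m F)) (t σ : F) (ht : t ≠ 0) (hσ : σ ≠ 0)
    (hc : InG G (cMat m t σ)) (hX : ∀ S : SM m F, Sᵀ = S → S ∈ XG G) : G = ⊤ := by
  have hAU := Cfsg.Agent.Lib.Helper23.RSp.Aalt_mul_Uup m F
  have hLbi := Cfsg.Agent.Lib.Helper03.RSp.Llow_eq_Lbi m t ht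
  have hDL := Cfsg.Agent.Lib.Helper03.RSp.Dlow_mul_Llow_transpose m t ht hAU
  obtain ⟨cg, hcg, hcM⟩ := hc
  have hW : ∀ w : Fin (m + 2) ⊕ Fin (m + 2) → F, (∀ i, w (Sum.inr i) = 0) → w ∈ TG G :=
    fun w hw => Cfsg.Agent.Lib.Helper64.RSp.tv_mem_of_inr_zero hX w hw
  have hhyp : ∀ v ∈ TG G, ∀ w ∈ TG G, Cfsg.sympForm (m + 2) F v w ≠ 0 → ∀ s : F, v + s • w ∈ TG G :=
    fun v hv w hw h s => Cfsg.Agent.Lib.Helper93.RSp.TG_hyp hv hw h s
  have hsmul : ∀ v ∈ TG G, ∀ a : F, a • v ∈ TG G := fun v hv a => Cfsg.Agent.Lib.Helper93.RSp.TG_smul hv a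
  have hcoset := Cfsg.Agent.Lib.Helper45.RSp.T_coset (TG G) hW hhyp
  have hadd : ∀ y₁ ∈ TG G, ∀ y₂ ∈ TG G, (∀ i, y₁ (Sum.inl i) = 0) → (∀ i, y₂ (Sum.inl i) = 0) →
      y₁ + y₂ ∈ TG G := fun y₁ h1 y₂ h2 a b => Cfsg.Agent.Lib.Helper45.RSp.T_add_inr (TG G) hW hhyp y₁ y₂ h1 h2 a b
  have heI : ∀ i : Fin (m + 2), (eI i : Fin (m + 2) ⊕ Fin (m + 2) → F) ∈ TG G :=
    fun i => hW _ (fun j => by simp [eI])
  have hfl : ∀ (j : Fin (m + 2)) (i : Fin (m + 2)),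
      (fI j : Fin (m + 2) ⊕ Fin (m + 2) → F) (Sum.inl i) = 0 := fun j i => by simp [fI]
  -- `f_last ∈ T`
  have hflast : (fI (Fin.last (m + 1)) : Fin (m + 2) ⊕ Fin (m + 2) → F) ∈ TG G := by
    have h1 : (eI (Fin.last (m + 1)) - σ • fI (Fin.last (m + 1)) :
        Fin (m + 2) ⊕ Fin (m + 2) → F) ∈ TG G := by
      apply Cfsg.Agent.Lib.Helper93.RSp.TG_of_mulVec cg hcg
      rw [hcM, Cfsg.Agent.Lib.Helper99.RSp.cMat_mulVec_last m t σ hLbi]
      exact heI _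
    have h2 := hcoset _ h1 ⟨Fin.last (m + 1), by simp [eI, fI, hσ]⟩
      (-(eI (Fin.last (m + 1)))) (fun i => by simp [eI])
    have h3 : (eI (Fin.last (m + 1)) - σ • fI (Fin.last (m + 1)) + -(eI (Fin.last (m + 1))) :
        Fin (m + 2) ⊕ Fin (m + 2) → F) = (-σ) • fI (Fin.last (m + 1)) := by
      rw [neg_smul]; abel
    rw [h3] at h2
    have h4 := hsmul _ h2 ((-σ)⁻¹)
    rwa [smul_smul, inv_mul_cancel₀ (neg_ne_zero.2 hσ), one_smul] at h4
  -- the descent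
  have hdesc : ∀ k : ℕ, ∀ j : Fin (m + 2), j.val + k = m + 1 →
      (fI j : Fin (m + 2) ⊕ Fin (m + 2) → F) ∈ TG G := by
    intro k
    induction k with
    | zero =>
      intro j hj
      have : j = Fin.last (m + 1) := Fin.ext (by simpa using hj)
      rw [this]; exact hflast
    | succ k ih =>
      intro j hj
      have hj1 : j.val + 1 < m + 2 := by omega
      have h1 := ih ⟨j.val + 1, hj1⟩ (by simp only; omega)
      have h2 : (fI ⟨j.val + 1, hj1⟩ + (if j = 0 then t else 1) • fI j :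
          Fin (m + 2) ⊕ Fin (m + 2) → F) ∈ TG G := by
        apply Cfsg.Agent.Lib.Helper93.RSp.TG_of_mulVec cg hcg
        rw [hcM, Cfsg.Agent.Lib.Helper99.RSp.cMat_mulVec_fI m t σ hLbi hDL j hj1]
        exact h1
      have h3 := hadd _ h2 _ (hsmul _ h1 (-1))
        (fun i => by
          rw [Pi.add_apply, Pi.smul_apply, hfl, hfl, smul_zero, add_zero])
        (fun i => by rw [Pi.smul_apply, hfl, smul_zero])
      have h4 : (fI ⟨j.val + 1, hj1⟩ + (if j = 0 then t else 1) • fI j +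
          (-1 : F) • fI ⟨j.val + 1, hj1⟩ : Fin (m + 2) ⊕ Fin (m + 2) → F) =
          (if j = 0 then t else 1) • fI j := by
        rw [neg_smul, one_smul]; abel
      rw [h4] at h3
      have hne : (if j = 0 then t else 1 : F) ≠ 0 := by split_ifs <;> simp [ht]
      have h5 := hsmul _ h3 ((if j = 0 then t else 1 : F)⁻¹)
      rwa [smul_smul, inv_mul_cancel₀ hne, one_smul] at h5
  have hf : ∀ j : Fin (m + 2), (fI j : Fin (m + 2) ⊕ Fin (m + 2) → F) ∈ TG G := by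
    intro j
    exact hdesc (m + 1 - j.val) j (by have := j.2; omega)
  exact Cfsg.Agent.Lib.Helper83.RSp.eq_top_of_TG_univ G (Cfsg.Agent.Lib.Helper20.RSp.T_univ (TG G) hW hsmul hcoset hadd hf)

/-- from the base to all symmetric matrices -/
theorem s2281_all_of_base (X : AddSubgroup (SM m F)) (δ : Fin (m + 2) → F) (hδ : ∀ j, δ j ≠ 0)
    (hU : ∀ S ∈ X, Uup m F * S * (Uup m F)ᵀ ∈ X)
    (hL : ∀ S ∈ X, Sᵀ = S → (∀ j, S (Fin.last (m + 1)) j = 0) → Lbi m δ * S * (Lbi m δ)ᵀ ∈ X)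
    (hbase : SymLE m 1 ⊆ (X : Set (SM m F))) : ∀ S : SM m F, Sᵀ = S → S ∈ X := by
  have key : ∀ k : ℕ, 1 ≤ k → k < m + 2 → SymLE m k ⊆ (X : Set (SM m F)) := by
    intro k
    induction k with
    | zero => intro h; omega
    | succ k ih =>
      intro h1 h2
      rcases Nat.eq_or_lt_of_le h1 with h | h
      · have hk : k = 0 := by omega
        subst hk
        exact hbase
      · exact Cfsg.Agent.Lib.Helper46.RSp.sym_step X δ hδ hU hL k (by omega) h2 (ih (by omega) (by omega))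
  intro S hS
  exact key (m + 1) (by omega) (by omega)
    ⟨hS, fun i j hij => by rcases hij with h | h <;> [(have := i.2; omega); (have := j.2; omega)]⟩

/-- the closure hypotheses for `XG G` -/
theorem s2281_closure (G : Subgroup (SpG m F)) (t s σ : F) (ht : t ≠ 0)
    (hu : InG G (uMat m s)) (hc : InG G (cMat m t σ)) :
    (∀ j : Fin (m + 2), (fun j : Fin (m + 2) => if j = 0 then t else (1 : F)) j ≠ 0) ∧
    (∀ S ∈ XG G, Uup m F * S * (Uup m F)ᵀ ∈ XG G) ∧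
    (∀ S ∈ XG G, Sᵀ = S → (∀ j, S (Fin.last (m + 1)) j = 0) →
      Lbi m (fun j => if j = 0 then t else 1) * S * (Lbi m (fun j => if j = 0 then t else 1))ᵀ ∈ XG G) := by
  have hAU := Cfsg.Agent.Lib.Helper23.RSp.Aalt_mul_Uup m F
  have hUA := Cfsg.Agent.Lib.Helper23.RSp.Uup_mul_Aalt m F
  have hLbi := Cfsg.Agent.Lib.Helper03.RSp.Llow_eq_Lbi m t ht
  have hLD := Cfsg.Agent.Lib.Helper03.RSp.Llow_transpose_mul_Dlow m t ht hUA
  refine ⟨fun j => by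
    show (if j = 0 then t else (1 : F)) ≠ 0
    split_ifs
    · exact ht
    · exact one_ne_zero, Cfsg.Agent.Lib.Helper27.RSp.XG_conj_U s hAU hu, ?_⟩
  intro S hS _ hrow
  rw [← hLbi]
  exact Cfsg.Agent.Lib.Helper63.RSp.XG_conj_L t σ hLD hc S hS hrow

theorem s2281_E00_symm : (E00 m F)ᵀ = E00 m F := by
  unfold E00
  rw [Matrix.transpose_single]

/-- from the parameters to the statement -/
theorem s2281_exists (t s l : F) (ht : t ≠ 0) (hs : s ≠ 0)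
    (gM : BM m F) (hg : gM ∈ Matrix.symplecticGroup (Fin (m + 2)) F)
    (hgu : gM * uMat m s = uMat m s * xMat m (l • E00 m F) * gM)
    (hall : ∀ G : Subgroup (SpG m F), InG G (uMat m s) → InG G (cMat m t (-(s / t ^ 2))) →
      l • E00 m F ∈ XG G → ∀ S : SM m F, Sᵀ = S → S ∈ XG G) :
    ∃ u g h : SpG m F, IsNilpotent ((u : BM m F) - 1) ∧
      ((u : BM m F) - 1) ^ (2 * (m + 2) - 1) ≠ 0 ∧
      Subgroup.closure ({u, g * u * g⁻¹, h * u * h⁻¹} : Set (SpG m F)) = ⊤ := by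
  have hUA := Cfsg.Agent.Lib.Helper23.RSp.Uup_mul_Aalt m F
  let u : SpG m F := ⟨uMat m s, Cfsg.Agent.Lib.Helper03.RSp.uMat_mem m s hUA⟩
  let g : SpG m F := ⟨gM, hg⟩
  let h : SpG m F := ⟨hMat m t, Cfsg.Agent.Lib.Helper03.RSp.hMat_mem m t ht⟩
  refine ⟨u, g, h, Cfsg.Agent.Lib.Helper26.RSp.isNilpotent_uMat_sub_one m s, Cfsg.Agent.Lib.Helper26.RSp.uMat_sub_one_pow_ne_zero m s hs, ?_⟩
  set G := Subgroup.closure ({u, g * u * g⁻¹, h * u * h⁻¹} : Set (SpG m F)) with hG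
  have hu : InG G (uMat m s) := ⟨u, Subgroup.subset_closure (by simp), rfl⟩
  have hb : InG G (uMat m s * xMat m (l • E00 m F)) := by
    refine ⟨g * u * g⁻¹, Subgroup.subset_closure (by simp), ?_⟩
    show gM * uMat m s * ((g⁻¹ : SpG m F) : BM m F) = _
    rw [hgu, Matrix.mul_assoc, show gM * ((g⁻¹ : SpG m F) : BM m F) = 1 from coe_mul_inv g,
      Matrix.mul_one]
  have hc : InG G (cMat m t (-(s / t ^ 2))) := by
    refine ⟨h * u * h⁻¹, Subgroup.subset_closure (by simp), ?_⟩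
    show hMat m t * uMat m s * ((h⁻¹ : SpG m F) : BM m F) = _
    rw [Cfsg.Agent.Lib.Helper03.RSp.hMat_mul_uMat m t s ht, Matrix.mul_assoc,
      show hMat m t * ((h⁻¹ : SpG m F) : BM m F) = 1 from coe_mul_inv h, Matrix.mul_one]
  have hz : InG G (xMat m (l • E00 m F)) := inG_of_mul_left hu hb
  have hσ : -(s / t ^ 2) ≠ 0 := neg_ne_zero.2 (div_ne_zero hs (pow_ne_zero 2 ht))
  have hzX : l • E00 m F ∈ XG G :=
    ⟨by rw [Matrix.transpose_smul, s2281_E00_symm], hz⟩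
  exact s2281_top G t _ ht hσ hc (hall G hu hc hzX)

/-- the conjugator `x(X)` -/
theorem s2281_gX (s l : F) (X : SM m F) (hX : Xᵀ = X)
    (hUX : Uup m F * X * (Uup m F)ᵀ = X + l • E00 m F) :
    xMat m X * uMat m s = uMat m s * xMat m (l • E00 m F) * xMat m X := by
  rw [Cfsg.Agent.Lib.Helper27.RSp.xMat_mul_uMat m s (Cfsg.Agent.Lib.Helper23.RSp.Aalt_mul_Uup m F) X, hUX, Matrix.mul_assoc, xMat_mul,
    add_comm (l • E00 m F) X]

theorem s2281_odd [Fintype F] (h2 : (2 : F) ≠ 0) :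
    ∃ u g h : SpG m F, IsNilpotent ((u : BM m F) - 1) ∧
      ((u : BM m F) - 1) ^ (2 * (m + 2) - 1) ≠ 0 ∧
      Subgroup.closure ({u, g * u * g⁻¹, h * u * h⁻¹} : Set (SpG m F)) = ⊤ := by
  obtain ⟨t, ht, hgen⟩ := Cfsg.Agent.Lib.Helper69.RSp.exists_param_odd F h2
  obtain ⟨X, hX, hUX⟩ := Cfsg.Agent.Lib.Helper68.RSp.exists_X_odd m h2 (1 : F)
  refine s2281_exists t 1 1 ht one_ne_zero (xMat m X) (xMat_mem hX) (s2281_gX 1 1 X hX hUX) ?_
  intro G hu hc hz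
  obtain ⟨hδ, hU, hL⟩ := s2281_closure G t 1 _ ht hu hc
  refine s2281_all_of_base (XG G) _ hδ hU hL ?_
  refine Cfsg.Agent.Lib.Helper80.RSp.sym_base_odd (XG G) _ hδ hU hL h2 1 hz ?_
  have := hgen 1 one_ne_zero
  simpa using this

theorem s2281_even (hm : 1 ≤ m) [Fintype F] (h2 : (2 : F) = 0) :
    ∃ u g h : SpG m F, IsNilpotent ((u : BM m F) - 1) ∧
      ((u : BM m F) - 1) ^ (2 * (m + 2) - 1) ≠ 0 ∧
      Subgroup.closure ({u, g * u * g⁻¹, h * u * h⁻¹} : Set (SpG m F)) = ⊤ := by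
  obtain ⟨t, ht, hgM, hgL⟩ := Cfsg.Agent.Lib.Helper34.RSp.exists_param_even F h2
  obtain ⟨X, hX, hUX⟩ := Cfsg.Agent.Lib.Helper68.RSp.exists_X_even m hm h2 (1 : F)
  refine s2281_exists t 1 1 ht one_ne_zero (xMat m X) (xMat_mem hX) (s2281_gX 1 1 X hX hUX) ?_
  intro G hu hc hz
  obtain ⟨hδ, hU, hL⟩ := s2281_closure G t 1 _ ht hu hc
  refine s2281_all_of_base (XG G) _ hδ hU hL ?_
  have h10 : (1 : Fin (m + 2)) ≠ 0 := by
    intro h
    have := congrArg Fin.val h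
    simp at this
  refine Cfsg.Agent.Lib.Helper54.RSp.sym_base_even hm (XG G) _ hδ hU hL h2 1 one_ne_zero hz ?_ ?_
  · simpa [h10] using hgM
  · simpa using hgL

theorem s2281_two [Fintype F] (h2 : (2 : F) = 0) (h4 : 4 ≤ Fintype.card F) :
    ∃ u g h : SpG 0 F, IsNilpotent ((u : BM 0 F) - 1) ∧
      ((u : BM 0 F) - 1) ^ (2 * (0 + 2) - 1) ≠ 0 ∧
      Subgroup.closure ({u, g * u * g⁻¹, h * u * h⁻¹} : Set (SpG 0 F)) = ⊤ := by
  obtain ⟨s, ε, hs, hε, hgen, hρ⟩ := Cfsg.Agent.Lib.Helper66.RSp.exists_param_two F h2 h4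
  obtain ⟨gM, hg, hgu⟩ := Cfsg.Agent.Lib.Helper64.RSp.exists_g_two h2 s ε
  refine s2281_exists 1 s (s * (ε ^ 2 + ε)) one_ne_zero hs gM hg hgu ?_
  intro G hu hc hz
  obtain ⟨hδ, hU, hL⟩ := s2281_closure G 1 s _ one_ne_zero hu hc
  have hσ : -(s / 1 ^ 2) ≠ 0 := neg_ne_zero.2 (div_ne_zero hs (pow_ne_zero 2 one_ne_zero))
  exact Cfsg.Agent.Lib.Helper69.RSp.sym_all_two (XG G) 1 (-(s / 1 ^ 2)) (s * (ε ^ 2 + ε)) one_ne_zero hσ (mul_ne_zero hs hε)
    hU hL (fun S hS _ h11 S₂ hS₂ => Cfsg.Agent.Lib.Helper28.RSp.XG_conj_tau 1 _ one_ne_zero hc S hS h11 S₂ hS₂) h2 hz hgen hρ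

theorem s2281_card [Fintype F] (h2 : (2 : F) = 0) (hc : Fintype.card F ≠ 2) : 4 ≤ Fintype.card F := by
  haveI : CharP F 2 := CharTwo.of_one_ne_zero_of_two_eq_zero one_ne_zero h2
  obtain ⟨n, _, hn⟩ := FiniteField.card F 2
  rw [hn] at hc ⊢
  have hn1 : (n : ℕ) ≠ 1 := fun h => hc (by rw [h]; rfl)
  have hn2 : 2 ≤ (n : ℕ) := by have := n.pos; omega
  calc 4 = 2 ^ 2 := rfl
    _ ≤ 2 ^ (n : ℕ) := Nat.pow_le_pow_right (by norm_num) hn2

/-- Let F be a finite field and n ≥ 2, excluding the case n = 2 with F of two elements (where the group is not quasisimple). Then the symplectic group Sp_2n(F) is generated by three conjugate regular unipotent elements: there are u ∈ Sp_2n(F) with u − 1 nilpotent and (u − 1)^(2n−1) ≠ 0, and g, h ∈ Sp_2n(F), such that u, g u g⁻¹ and h u h⁻¹ generate Sp_2n(F). -/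
theorem result {F : Type*} [Field F] [Fintype F] (n : ℕ) (hn : 2 ≤ n) (h22 : ¬ (n = 2 ∧ Fintype.card F = 2)) :
    ∃ u g h : Matrix.symplecticGroup (Fin n) F,
      IsNilpotent ((u : Matrix (Fin n ⊕ Fin n) (Fin n ⊕ Fin n) F) - 1) ∧
      ((u : Matrix (Fin n ⊕ Fin n) (Fin n ⊕ Fin n) F) - 1) ^ (2 * n - 1) ≠ 0 ∧
      Subgroup.closure ({u, g * u * g⁻¹, h * u * h⁻¹} : Set (Matrix.symplecticGroup (Fin n) F)) = ⊤ := by
  obtain ⟨m, rfl⟩ : ∃ m, n = m + 2 := ⟨n - 2, by omega⟩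
  by_cases h2 : (2 : F) = 0
  · rcases Nat.eq_zero_or_pos m with hm | hm
    · subst hm
      exact s2281_two h2 (s2281_card h2 (fun h => h22 ⟨rfl, h⟩))
    · exact s2281_even hm h2
  · exact s2281_odd h2

end Cfsg.Agent.S2281
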