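import Cfsg.Statements.S2300
import Cfsg.Agent.Lib.Helper45.IrrDegCard

set_option autoImplicit false
open Cfsg

namespace Cfsg.Agent.S2300

open Cfsg.Agent.Lib.Helper45 Cfsg.Agent.Lib

/-- Over a finite field F with q elements, q even, every irreducible complex character of SL₂ has degree 1, q − 1, q or q + 1; and when q ≥ 4 (so that these four numbers are distinct) there are exactly one irreducible character of degree 1, one of degree q, (q − 2)/2 of degree q + 1 and q/2 of degree q − 1. -/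
theorem result {F : Type*} [Field F] [Fintype F] [CharP F 2] :
    (∀ χ : Matrix.SpecialLinearGroup (Fin 2) F → ℂ, Cfsg.IsIrrCharacter (Matrix.SpecialLinearGroup (Fin 2) F) χ →
      χ 1 = 1 ∨ χ 1 = (Fintype.card F : ℂ) - 1 ∨ χ 1 = (Fintype.card F : ℂ) ∨ χ 1 = (Fintype.card F : ℂ) + 1) ∧
    (4 ≤ Fintype.card F →
      Nat.card {χ : Cfsg.IrrCharacter (Matrix.SpecialLinearGroup (Fin 2) F) // (χ : Matrix.SpecialLinearGroup (Fin 2) F → ℂ) 1 = 1} = 1 ∧
      Nat.card {χ : Cfsg.IrrCharacter (Matrix.SpecialLinearGroup (Fin 2) F) // (χ : Matrix.SpecialLinearGroup (Fin 2) F → ℂ) 1 = (Fintype.card F : ℂ)} = 1 ∧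
      Nat.card {χ : Cfsg.IrrCharacter (Matrix.SpecialLinearGroup (Fin 2) F) // (χ : Matrix.SpecialLinearGroup (Fin 2) F → ℂ) 1 = (Fintype.card F : ℂ) + 1} = (Fintype.card F - 2) / 2 ∧
      Nat.card {χ : Cfsg.IrrCharacter (Matrix.SpecialLinearGroup (Fin 2) F) // (χ : Matrix.SpecialLinearGroup (Fin 2) F → ℂ) 1 = (Fintype.card F : ℂ) - 1} = Fintype.card F / 2) := by
  classical
  have : Fintype (IrrCharacter (Matrix.SpecialLinearGroup (Fin 2) F)) := Fintype.ofFinite _
  have heven := even_card_of_charP_two (F := F)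
  have hq1 : 1 ≤ Fintype.card F := Fintype.card_pos
  constructor
  · intro χ hχ
    obtain ⟨n, hn, h⟩ := irr_table_SL2_nat hχ
    rw [hn]
    rcases h with ⟨h1, -⟩ | ⟨h1, -⟩ | ⟨h1, -⟩ | ⟨-, hodd, -⟩ | ⟨h1, -⟩ | ⟨-, hodd, -⟩
    · left; rw [h1]; simp
    · right; right; left; rw [h1]
    · right; right; right; rw [h1]; simp
    · omega
    · right; left; rw [h1]; push_cast [Nat.cast_sub hq1]; ring
    · omega
  · intro hq
    obtain ⟨h1, h2, h3, h4⟩ := card_irr_SL2_even (F := F) hq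
    refine ⟨?_, ?_, ?_, ?_⟩
    · rw [natCard_irr_degree 1 1 (by simp)]; exact h1
    · rw [natCard_irr_degree (Fintype.card F) _ rfl]; exact h2
    · rw [natCard_irr_degree (Fintype.card F + 1) _ (by simp)]; exact h3
    · rw [natCard_irr_degree (Fintype.card F - 1) _ (by push_cast [Nat.cast_sub hq1]; ring)]
      exact h4

end Cfsg.Agent.S2300
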