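import Cfsg.Statements.S2301
import Cfsg.Agent.Lib.Helper45.SL2Unip

set_option autoImplicit false
open Cfsg

namespace Cfsg.Agent.S2301

open Cfsg.Agent.Lib.Helper45

theorem conj_of_square {F : Type*} [Field F] {t t' : F} (ht : t ≠ 0) (ht' : t' ≠ 0)
    (h : IsSquare (t' / t)) : IsConj (slT t) (slT t') := by
  apply (slT_conj_iff ht ht').mpr
  obtain ⟨r, hr⟩ := h
  have hr0 : r ≠ 0 := by
    rintro rfl
    have : t' / t ≠ 0 := div_ne_zero ht' ht
    apply this
    simpa using hr
  refine ⟨r, hr0, ?_⟩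
  rw [pow_two, ← hr]
  field_simp

theorem square_of_conj {F : Type*} [Field F] {t t' : F} (ht : t ≠ 0) (ht' : t' ≠ 0)
    (h : IsConj (slT t) (slT t')) : IsSquare (t' / t) := by
  obtain ⟨a, ha, rfl⟩ := (slT_conj_iff ht ht').mp h
  refine ⟨a, ?_⟩
  field_simp

/-- Over a finite field with q elements of odd characteristic p, the elements of order p of SL₂ (the non-identity unipotent elements) fall into exactly two conjugacy classes, each of size (q² − 1)/2; two upper unitriangular matrices with non-zero off-diagonal entries b and b′ are conjugate exactly when bb′ is a square. -/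
theorem result {F : Type*} [Field F] [Fintype F] (p : ℕ) [Fact p.Prime] [CharP F p] (hp : p ≠ 2) :
    Nat.card {C : ConjClasses (Matrix.SpecialLinearGroup (Fin 2) F) // ∃ g : Matrix.SpecialLinearGroup (Fin 2) F, orderOf g = p ∧ ConjClasses.mk g = C} = 2 ∧
    (∀ g : Matrix.SpecialLinearGroup (Fin 2) F, orderOf g = p → Nat.card (ConjClasses.mk g).carrier = (Fintype.card F ^ 2 - 1) / 2) ∧
    ∀ g h : Matrix.SpecialLinearGroup (Fin 2) F, (g : Matrix (Fin 2) (Fin 2) F) 0 0 = 1 → (g : Matrix (Fin 2) (Fin 2) F) 1 1 = 1 → (g : Matrix (Fin 2) (Fin 2) F) 1 0 = 0 → (g : Matrix (Fin 2) (Fin 2) F) 0 1 ≠ 0 →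
      (h : Matrix (Fin 2) (Fin 2) F) 0 0 = 1 → (h : Matrix (Fin 2) (Fin 2) F) 1 1 = 1 → (h : Matrix (Fin 2) (Fin 2) F) 1 0 = 0 → (h : Matrix (Fin 2) (Fin 2) F) 0 1 ≠ 0 →
      (IsConj g h ↔ IsSquare ((g : Matrix (Fin 2) (Fin 2) F) 0 1 * (h : Matrix (Fin 2) (Fin 2) F) 0 1)) := by
  classical
  have hchar : ringChar F ≠ 2 := by
    rw [ringChar.eq F p]
    exact hp
  have h2 : (2 : F) ≠ 0 := Ring.two_ne_zero hchar
  obtain ⟨ε, hε⟩ := FiniteField.exists_nonsquare hchar
  have hε0 : ε ≠ 0 := by
    rintro rfl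
    exact hε ⟨0, by simp⟩
  have h1 : (1 : F) ≠ 0 := one_ne_zero
  refine ⟨?_, ?_, ?_⟩
  · have hset : {C : ConjClasses (Matrix.SpecialLinearGroup (Fin 2) F) | ∃ g : Matrix.SpecialLinearGroup (Fin 2) F, orderOf g = p ∧ ConjClasses.mk g = C} =
        {ConjClasses.mk (slT (1 : F)), ConjClasses.mk (slT ε)} := by
      ext C
      simp only [Set.mem_ofPred_eq, Set.mem_insert_iff, Set.mem_singleton_iff]
      constructor
      · rintro ⟨g, hg, rfl⟩
        obtain ⟨hg1, hg2⟩ := sl2_unip_of_orderOf p g hg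
        obtain ⟨t, ht, hct⟩ := sl2_unip_conj g hg1 hg2
        by_cases hsq : IsSquare t
        · left
          rw [ConjClasses.mk_eq_mk_iff_isConj]
          refine IsConj.trans hct.symm (conj_of_square h1 ht ?_).symm
          simpa using hsq
        · right
          rw [ConjClasses.mk_eq_mk_iff_isConj]
          refine IsConj.trans hct.symm (conj_of_square hε0 ht ?_).symm
          have e1 := quadraticChar_neg_one_iff_not_isSquare.mpr hsq
          have e2 := quadraticChar_neg_one_iff_not_isSquare.mpr hε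
          apply (quadraticChar_one_iff_isSquare (div_ne_zero ht hε0)).mp
          rw [div_eq_mul_inv, map_mul, e1]
          have e3 : quadraticChar F ε⁻¹ = -1 := by
            apply quadraticChar_neg_one_iff_not_isSquare.mpr
            intro hsq'
            apply hε
            obtain ⟨r, hr⟩ := hsq'
            refine ⟨r⁻¹, ?_⟩
            rw [← mul_inv, ← hr, inv_inv]
          rw [e3]
          norm_num
      · rintro (rfl | rfl)
        · exact ⟨slT 1, orderOf_slT p h1, rfl⟩
        · exact ⟨slT ε, orderOf_slT p hε0, rfl⟩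
    change Nat.card ↑{C : ConjClasses (Matrix.SpecialLinearGroup (Fin 2) F) | ∃ g : Matrix.SpecialLinearGroup (Fin 2) F, orderOf g = p ∧ ConjClasses.mk g = C} = 2
    rw [Nat.card_coe_set_eq, hset]
    apply Set.ncard_pair
    intro h
    rw [ConjClasses.mk_eq_mk_iff_isConj] at h
    apply hε
    simpa using square_of_conj h1 hε0 h
  · intro g hg
    obtain ⟨hg1, hg2⟩ := sl2_unip_of_orderOf p g hg
    obtain ⟨t, ht, hct⟩ := sl2_unip_conj g hg1 hg2
    have hmk : ConjClasses.mk g = ConjClasses.mk (slT t) :=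
      (ConjClasses.mk_eq_mk_iff_isConj.mpr hct).symm
    rw [hmk]
    have h1 := card_class_mul_card_centralizer (slT t)
    rw [card_centralizer_slT ht, card_sq_eq_one_char_ne_two h2, card_SL2] at h1
    have hq : 0 < Fintype.card F := Fintype.card_pos
    have h3 : Fintype.card F * (Nat.card (ConjClasses.mk (slT t)).carrier * 2) = Fintype.card F * (Fintype.card F ^ 2 - 1) := by
      rw [← h1]; ring
    have h4 := Nat.eq_of_mul_eq_mul_left hq h3
    omega
  · intro g h g00 g11 g10 g01 h00 h11 h10 h01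
    rw [slT_eq_of_entries g g00 g11 g10, slT_eq_of_entries h h00 h11 h10]
    simp only [slT_coe, Matrix.of_apply, Matrix.cons_val', Matrix.cons_val_zero, Matrix.cons_val_one]
    set b := (g : Matrix (Fin 2) (Fin 2) F) 0 1
    set b' := (h : Matrix (Fin 2) (Fin 2) F) 0 1
    constructor
    · intro hc
      obtain ⟨r, hr⟩ := square_of_conj g01 h01 hc
      refine ⟨r * b, ?_⟩
      have : b' = r * r * b := by
        rw [← hr]; field_simp
      rw [this]; ring
    · rintro ⟨r, hr⟩
      apply conj_of_square g01 h01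
      refine ⟨r / b, ?_⟩
      field_simp
      linear_combination hr

end Cfsg.Agent.S2301
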