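import Cfsg.Statements.S2302
import Cfsg.Agent.Lib.Helper45.SL2Unip

set_option autoImplicit false
open Cfsg

namespace Cfsg.Agent.S2302

open Cfsg.Agent.Lib.Helper45

/-- Over a finite field with q elements of characteristic 2, the involutions of SL₂ (the non-identity unipotent elements) form a single conjugacy class, of size q² − 1. -/
theorem result {F : Type*} [Field F] [Fintype F] [CharP F 2] (g h : Matrix.SpecialLinearGroup (Fin 2) F) (hg : orderOf g = 2) (hh : orderOf h = 2) :
    IsConj g h ∧ Nat.card (ConjClasses.mk g).carrier = Fintype.card F ^ 2 - 1 := by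
  obtain ⟨hg1, hg2⟩ := sl2_unip_of_orderOf 2 g hg
  obtain ⟨hh1, hh2⟩ := sl2_unip_of_orderOf 2 h hh
  obtain ⟨t, ht, hct⟩ := sl2_unip_conj g hg1 hg2
  obtain ⟨t', ht', hct'⟩ := sl2_unip_conj h hh1 hh2
  have hchar : ringChar F = 2 := (ringChar.eq_iff).mpr inferInstance
  constructor
  · refine hct.symm.trans (IsConj.trans ?_ hct')
    apply (slT_conj_iff ht ht').mpr
    obtain ⟨r, hr⟩ := FiniteField.isSquare_of_char_two hchar (t' / t)
    have hr0 : r ≠ 0 := by
      rintro rfl
      have : t' / t ≠ 0 := div_ne_zero ht' ht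
      apply this
      simpa using hr
    refine ⟨r, hr0, ?_⟩
    rw [pow_two, ← hr]
    field_simp
  · have hmk : ConjClasses.mk g = ConjClasses.mk (slT t) :=
      (ConjClasses.mk_eq_mk_iff_isConj.mpr hct).symm
    rw [hmk]
    have h1 := card_class_mul_card_centralizer (slT t)
    rw [card_centralizer_slT ht, card_sq_eq_one_char_two, one_mul, card_SL2] at h1
    have hq : 0 < Fintype.card F := Fintype.card_pos
    rw [mul_comm] at h1
    exact Nat.eq_of_mul_eq_mul_left hq h1

end Cfsg.Agent.S2302
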