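import Cfsg.Statements.S2303
import Cfsg.Agent.Lib.Helper45.Mat2Comm

set_option autoImplicit false
open Cfsg

namespace Cfsg.Agent.S2303

open Cfsg.Agent.Lib.Helper45 Matrix

variable {F : Type*} [Field F]

theorem mem_cent_iff (g A : GL (Fin 2) F) :
    A ∈ Subgroup.centralizer ({g} : Set (GL (Fin 2) F)) ↔
      (A : Matrix (Fin 2) (Fin 2) F) * (g : Matrix (Fin 2) (Fin 2) F) =
        (g : Matrix (Fin 2) (Fin 2) F) * (A : Matrix (Fin 2) (Fin 2) F) := by
  rw [Subgroup.mem_centralizer_singleton_iff, Units.ext_iff, Units.val_mul, Units.val_mul]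

/-- diagonal case -/
theorem card_cent_diag [Fintype F] (g : GL (Fin 2) F)
    (h01 : (g : Matrix (Fin 2) (Fin 2) F) 0 1 = 0) (h10 : (g : Matrix (Fin 2) (Fin 2) F) 1 0 = 0)
    (hne : (g : Matrix (Fin 2) (Fin 2) F) 0 0 ≠ (g : Matrix (Fin 2) (Fin 2) F) 1 1) :
    Nat.card (Subgroup.centralizer ({g} : Set (GL (Fin 2) F))) = (Fintype.card F - 1) ^ 2 := by
  classical
  have hg : (g : Matrix (Fin 2) (Fin 2) F) = !![(g : Matrix (Fin 2) (Fin 2) F) 0 0, 0; 0, (g : Matrix (Fin 2) (Fin 2) F) 1 1] := by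
    conv_lhs => rw [Matrix.eta_fin_two (g : Matrix (Fin 2) (Fin 2) F), h01, h10]
  set a := (g : Matrix (Fin 2) (Fin 2) F) 0 0
  set d := (g : Matrix (Fin 2) (Fin 2) F) 1 1
  have hdet : ∀ uv : Fˣ × Fˣ, (!![(uv.1 : F), 0; 0, (uv.2 : F)] : Matrix (Fin 2) (Fin 2) F).det ≠ 0 := by
    intro uv
    rw [Matrix.det_fin_two_of]
    simp
  let f : Fˣ × Fˣ → Subgroup.centralizer ({g} : Set (GL (Fin 2) F)) := fun uv =>
    ⟨Matrix.GeneralLinearGroup.mkOfDetNeZero !![(uv.1 : F), 0; 0, (uv.2 : F)] (hdet uv), by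
      rw [mem_cent_iff, hg]
      show !![(uv.1 : F), 0; 0, (uv.2 : F)] * !![a, 0; 0, d] = !![a, 0; 0, d] * !![(uv.1 : F), 0; 0, (uv.2 : F)]
      simp [mul_comm]⟩
  have hf : Function.Bijective f := by
    constructor
    · intro uv uv' h
      have h' := congrArg (fun A : Subgroup.centralizer ({g} : Set (GL (Fin 2) F)) => ((A : GL (Fin 2) F) : Matrix (Fin 2) (Fin 2) F)) h
      simp only [f] at h'
      change !![(uv.1 : F), 0; 0, (uv.2 : F)] = !![(uv'.1 : F), 0; 0, (uv'.2 : F)] at h'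
      have e0 := congrFun (congrFun h' 0) 0
      have e1 := congrFun (congrFun h' 1) 1
      simp at e0 e1
      exact Prod.ext (Units.ext e0) (Units.ext e1)
    · rintro ⟨A, hA⟩
      rw [mem_cent_iff, hg] at hA
      have e01 := congrFun (congrFun hA 0) 1
      have e10 := congrFun (congrFun hA 1) 0
      simp [Matrix.mul_apply, Fin.sum_univ_two] at e01 e10
      have hA01 : (A : Matrix (Fin 2) (Fin 2) F) 0 1 = 0 := by
        have : (A : Matrix (Fin 2) (Fin 2) F) 0 1 * (d - a) = 0 := by linear_combination e01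
        exact (mul_eq_zero.mp this).resolve_right (sub_ne_zero.mpr (Ne.symm hne))
      have hA10 : (A : Matrix (Fin 2) (Fin 2) F) 1 0 = 0 := by
        have : (A : Matrix (Fin 2) (Fin 2) F) 1 0 * (a - d) = 0 := by linear_combination e10
        exact (mul_eq_zero.mp this).resolve_right (sub_ne_zero.mpr hne)
      have hdetA : (A : Matrix (Fin 2) (Fin 2) F).det ≠ 0 := by
        have := A.isUnit
        have h2 := (Matrix.isUnit_iff_isUnit_det _).mp (A.isUnit)
        exact h2.ne_zero
      rw [Matrix.det_fin_two, hA01, hA10] at hdetA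
      have hx : (A : Matrix (Fin 2) (Fin 2) F) 0 0 ≠ 0 := by
        intro h; apply hdetA; simp [h]
      have hw : (A : Matrix (Fin 2) (Fin 2) F) 1 1 ≠ 0 := by
        intro h; apply hdetA; simp [h]
      refine ⟨(Units.mk0 _ hx, Units.mk0 _ hw), ?_⟩
      apply Subtype.ext
      apply Units.ext
      simp only [f]
      change !![(A : Matrix (Fin 2) (Fin 2) F) 0 0, 0; 0, (A : Matrix (Fin 2) (Fin 2) F) 1 1] = (A : Matrix (Fin 2) (Fin 2) F)
      conv_rhs => rw [Matrix.eta_fin_two (A : Matrix (Fin 2) (Fin 2) F), hA01, hA10]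
  rw [← Nat.card_congr (Equiv.ofBijective f hf), Nat.card_prod, Nat.card_eq_fintype_card,
    Fintype.card_units, pow_two]

/-- elliptic case -/
theorem card_cent_noeig [Fintype F] (g : GL (Fin 2) F)
    (h : ∀ (c : F) (v : Fin 2 → F), v ≠ 0 → (g : Matrix (Fin 2) (Fin 2) F).mulVec v ≠ c • v) :
    Nat.card (Subgroup.centralizer ({g} : Set (GL (Fin 2) F))) = Fintype.card F ^ 2 - 1 := by
  classical
  have hb := noeig_b_ne _ h
  set M := (g : Matrix (Fin 2) (Fin 2) F) with hM
  let f : {st : F × F // st ≠ 0} → Subgroup.centralizer ({g} : Set (GL (Fin 2) F)) := fun st =>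
    ⟨Matrix.GeneralLinearGroup.mkOfDetNeZero (st.1.1 • (1 : Matrix (Fin 2) (Fin 2) F) + st.1.2 • M)
      (noeig_det_ne M h _ _ (fun h0 => st.2 (Prod.ext h0.1 h0.2))), by
      rw [mem_cent_iff]
      show (st.1.1 • (1 : Matrix (Fin 2) (Fin 2) F) + st.1.2 • M) * M = M * (st.1.1 • (1 : Matrix (Fin 2) (Fin 2) F) + st.1.2 • M)
      simp [Matrix.add_mul, Matrix.mul_add]⟩
  have hf : Function.Bijective f := by
    constructor
    · rintro ⟨⟨s, t⟩, hst⟩ ⟨⟨s', t'⟩, hst'⟩ h
      have h' := congrArg (fun A : Subgroup.centralizer ({g} : Set (GL (Fin 2) F)) => ((A : GL (Fin 2) F) : Matrix (Fin 2) (Fin 2) F)) h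
      simp only [f] at h'
      change s • (1 : Matrix (Fin 2) (Fin 2) F) + t • M = s' • (1 : Matrix (Fin 2) (Fin 2) F) + t' • M at h'
      have e01 := congrFun (congrFun h' 0) 1
      have e00 := congrFun (congrFun h' 0) 0
      simp at e01 e00
      have ht : t = t' := by
        rcases e01 with h | h
        · exact h
        · exact (hb h).elim
      subst ht
      have hs : s = s' := by linear_combination e00
      subst hs
      rfl
    · rintro ⟨A, hA⟩
      rw [mem_cent_iff] at hA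
      have hAeq := comm_eq_of_b_ne M hb _ hA
      set s := (A : Matrix (Fin 2) (Fin 2) F) 0 0 - (A : Matrix (Fin 2) (Fin 2) F) 0 1 / M 0 1 * M 0 0
      set t := (A : Matrix (Fin 2) (Fin 2) F) 0 1 / M 0 1
      have hst : ((s, t) : F × F) ≠ 0 := by
        intro h0
        have hs : s = 0 := congrArg Prod.fst h0
        have ht : t = 0 := congrArg Prod.snd h0
        rw [hs, ht] at hAeq
        have hdetA : (A : Matrix (Fin 2) (Fin 2) F).det ≠ 0 :=
          ((Matrix.isUnit_iff_isUnit_det _).mp (A.isUnit)).ne_zero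
        apply hdetA
        rw [hAeq]
        simp
      refine ⟨⟨(s, t), hst⟩, ?_⟩
      apply Subtype.ext
      apply Units.ext
      simp only [f]
      exact hAeq.symm
  rw [← Nat.card_congr (Equiv.ofBijective f hf)]
  have : Nat.card {st : F × F // st ≠ 0} = Nat.card (F × F) - 1 := by
    rw [Nat.card_eq_fintype_card, Nat.card_eq_fintype_card, Fintype.card_subtype_compl, Fintype.card_subtype_eq]
  rw [this, Nat.card_prod, Nat.card_eq_fintype_card, pow_two]

/-- Over a finite field with q elements: a diagonal element of GL₂ with two distinct diagonal entries has centralizer of order (q − 1)² (so q(q + 1) conjugates), and an element of GL₂ with no eigenvector in F² has centralizer of order q² − 1 (so q(q − 1) conjugates). -/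
theorem result {F : Type*} [Field F] [Fintype F] (g : Matrix.GeneralLinearGroup (Fin 2) F) :
    ((g : Matrix (Fin 2) (Fin 2) F) 0 1 = 0 → (g : Matrix (Fin 2) (Fin 2) F) 1 0 = 0 → (g : Matrix (Fin 2) (Fin 2) F) 0 0 ≠ (g : Matrix (Fin 2) (Fin 2) F) 1 1 →
      Nat.card (Subgroup.centralizer ({g} : Set (Matrix.GeneralLinearGroup (Fin 2) F))) = (Fintype.card F - 1) ^ 2) ∧
    ((∀ (c : F) (v : Fin 2 → F), v ≠ 0 → (g : Matrix (Fin 2) (Fin 2) F).mulVec v ≠ c • v) →
      Nat.card (Subgroup.centralizer ({g} : Set (Matrix.GeneralLinearGroup (Fin 2) F))) = Fintype.card F ^ 2 - 1) := by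
  exact ⟨card_cent_diag g, card_cent_noeig g⟩

end Cfsg.Agent.S2303
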