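import Cfsg.Statements.S2305
import Cfsg.Agent.Lib.Helper45.GL2Ind

set_option autoImplicit false
open Cfsg

namespace Cfsg.Agent.S2305

open Cfsg.Agent.Lib.Helper45 Cfsg.Agent.Lib

/-- Over a finite field F, for multiplicative characters α, β, α′, β′ of F, the characters of GL₂ induced from the linear characters b ↦ α(b₁₁) β(b₂₂) and b ↦ α′(b₁₁) β′(b₂₂) of the upper triangular subgroup coincide exactly when {α, β} = {α′, β′} as unordered pairs. -/
theorem result {F : Type*} [Field F] [Fintype F] [DecidableEq F] (α β α' β' : MulChar F ℂ) :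
    Cfsg.indFun (Cfsg.upperTriangularGL 2 F) (fun b => α (((b : Matrix.GeneralLinearGroup (Fin 2) F) : Matrix (Fin 2) (Fin 2) F) 0 0) * β (((b : Matrix.GeneralLinearGroup (Fin 2) F) : Matrix (Fin 2) (Fin 2) F) 1 1)) = Cfsg.indFun (Cfsg.upperTriangularGL 2 F) (fun b => α' (((b : Matrix.GeneralLinearGroup (Fin 2) F) : Matrix (Fin 2) (Fin 2) F) 0 0) * β' (((b : Matrix.GeneralLinearGroup (Fin 2) F) : Matrix (Fin 2) (Fin 2) F) 1 1)) ↔
      (α = α' ∧ β = β') ∨ (α = β' ∧ β = α') := by
  classical
  change Cfsg.indFun (Cfsg.upperTriangularGL 2 F) (borelChar α β) =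
    Cfsg.indFun (Cfsg.upperTriangularGL 2 F) (borelChar α' β') ↔ _
  constructor
  · intro h
    have h1 := classInner_indBorelChar α β α' β'
    rw [← h, classInner_indBorelChar] at h1
    by_contra hne
    rw [not_or] at hne
    rw [if_neg hne.1, if_neg hne.2, if_pos ⟨rfl, rfl⟩] at h1
    by_cases hab : α = β
    · rw [if_pos ⟨hab, hab.symm⟩] at h1
      norm_num at h1
    · rw [if_neg (fun h => hab h.1)] at h1
      norm_num at h1
  · rintro (⟨rfl, rfl⟩ | ⟨rfl, rfl⟩)
    · rfl
    · by_cases hab : α = β
      · rw [hab]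
      · -- both irreducible with inner product one
        have hirr1 : IsIrrCharacter _ (Cfsg.indFun (Cfsg.upperTriangularGL 2 F) (borelChar α β)) := by
          apply Helper83.isIrrCharacter_of_norm_one
            (Helper34.isCharacter_indFun _ (borelChar_isCharacter α β))
          rw [classInner_indBorelChar]
          have : ¬ (α = β ∧ β = α) := fun h => hab h.1
          simp [this]
        have hirr2 : IsIrrCharacter _ (Cfsg.indFun (Cfsg.upperTriangularGL 2 F) (borelChar β α)) := by
          apply Helper83.isIrrCharacter_of_norm_one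
            (Helper34.isCharacter_indFun _ (borelChar_isCharacter β α))
          rw [classInner_indBorelChar]
          have : ¬ (β = α ∧ α = β) := fun h => hab h.2
          simp [this]
        have h1 := classInner_indBorelChar α β β α
        rw [if_neg (fun h => hab h.1), if_pos ⟨rfl, rfl⟩, zero_add] at h1
        have h2 := Helper83.irr_orthonormal (⟨_, hirr1⟩ : IrrCharacter (Matrix.GeneralLinearGroup (Fin 2) F)) ⟨_, hirr2⟩
        rw [h1] at h2
        by_contra hne
        rw [if_neg (fun h => hne (congrArg Subtype.val h))] at h2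
        exact one_ne_zero h2

end Cfsg.Agent.S2305
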