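import Cfsg.Statements.S2308
import Cfsg.Agent.Lib.Helper45.GL2Borel

set_option autoImplicit false
open Cfsg

namespace Cfsg.Agent.S2308

open Cfsg.Agent.Lib.Helper45 Matrix

theorem card_subtype_eq_zero_iff {F : Type*} [Field F] [Fintype F] (P : F → Prop)
    (h : ∀ z, P z ↔ z = 0) : Nat.card {z : F // P z} = 1 := by
  have : Unique {z : F // P z} := by
    refine ⟨⟨⟨0, (h 0).mpr rfl⟩⟩, ?_⟩
    rintro ⟨z, hz⟩
    apply Subtype.ext
    exact (h z).mp hz
  exact Nat.card_unique

/-- Values of the permutation character of GL₂ over a finite field F with q elements on the cosets of its upper triangular subgroup (equivalently, the number of lines of F² that an element maps to themselves): q + 1 at a scalar matrix, 2 at a diagonal matrix with two different diagonal entries, 0 at an element with no eigenvector in F², and 1 at an upper triangular matrix with equal diagonal entries and non-zero upper right entry. -/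
theorem result {F : Type*} [Field F] [Fintype F] (g : Matrix.GeneralLinearGroup (Fin 2) F) :
    ((∃ a : F, (g : Matrix (Fin 2) (Fin 2) F) = a • (1 : Matrix (Fin 2) (Fin 2) F)) → Cfsg.fixedPointCharacter (Cfsg.upperTriangularGL 2 F) g = Fintype.card F + 1) ∧
    ((g : Matrix (Fin 2) (Fin 2) F) 0 1 = 0 → (g : Matrix (Fin 2) (Fin 2) F) 1 0 = 0 → (g : Matrix (Fin 2) (Fin 2) F) 0 0 ≠ (g : Matrix (Fin 2) (Fin 2) F) 1 1 →
      Cfsg.fixedPointCharacter (Cfsg.upperTriangularGL 2 F) g = 2) ∧
    ((∀ (c : F) (v : Fin 2 → F), v ≠ 0 → (g : Matrix (Fin 2) (Fin 2) F).mulVec v ≠ c • v) → Cfsg.fixedPointCharacter (Cfsg.upperTriangularGL 2 F) g = 0) ∧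
    ((g : Matrix (Fin 2) (Fin 2) F) 1 0 = 0 → (g : Matrix (Fin 2) (Fin 2) F) 0 0 = (g : Matrix (Fin 2) (Fin 2) F) 1 1 → (g : Matrix (Fin 2) (Fin 2) F) 0 1 ≠ 0 →
      Cfsg.fixedPointCharacter (Cfsg.upperTriangularGL 2 F) g = 1) := by
  classical
  unfold Cfsg.fixedPointCharacter
  rw [card_fixedBy_borel g]
  refine ⟨?_, ?_, ?_, ?_⟩
  · rintro ⟨a, ha⟩
    rw [ha]
    simp
  · intro h01 h10 hne
    rw [h01, h10]
    rw [card_subtype_eq_zero_iff]
    · norm_num
    · intro z
      simp [sub_eq_zero, Ne.symm hne]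
  · intro h
    have hb := noeig_b_ne _ h
    have hempty : IsEmpty {z : F // (g : Matrix (Fin 2) (Fin 2) F) 1 0 + ((g : Matrix (Fin 2) (Fin 2) F) 1 1 - (g : Matrix (Fin 2) (Fin 2) F) 0 0) * z - (g : Matrix (Fin 2) (Fin 2) F) 0 1 * z ^ 2 = 0} := by
      constructor
      rintro ⟨z, hz⟩
      apply h ((g : Matrix (Fin 2) (Fin 2) F) 0 0 + (g : Matrix (Fin 2) (Fin 2) F) 0 1 * z) ![1, z]
      · intro h0
        have := congrFun h0 0
        simp at this
      · ext i
        fin_cases i
        · simp [Matrix.mulVec, dotProduct, Fin.sum_univ_two]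
        · simp [Matrix.mulVec, dotProduct, Fin.sum_univ_two]
          linear_combination hz
    rw [Nat.card_of_isEmpty]
    simp [hb]
  · intro h10 h00 h01
    rw [h10, h00]
    rw [card_subtype_eq_zero_iff]
    · simp [h01]
    · intro z
      simp [h01]

end Cfsg.Agent.S2308
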