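import Cfsg.Statements.S2309
import Cfsg.Agent.Lib.Helper45.GL2Table

set_option autoImplicit false
open Cfsg

namespace Cfsg.Agent.S2309

open Cfsg.Agent.Lib.Helper45 Cfsg.Agent.Lib

/-- Over a finite field F with q elements: every irreducible complex character of GL₂ of degree q − 1 vanishes at every diagonal matrix with two distinct entries, and every irreducible complex character of degree q + 1 vanishes at every element with no eigenvector in F². -/
theorem result {F : Type*} [Field F] [Fintype F] (χ : Matrix.GeneralLinearGroup (Fin 2) F → ℂ) (hχ : Cfsg.IsIrrCharacter (Matrix.GeneralLinearGroup (Fin 2) F) χ) (g : Matrix.GeneralLinearGroup (Fin 2) F) :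
    (χ 1 = (Fintype.card F : ℂ) - 1 → (g : Matrix (Fin 2) (Fin 2) F) 0 1 = 0 → (g : Matrix (Fin 2) (Fin 2) F) 1 0 = 0 → (g : Matrix (Fin 2) (Fin 2) F) 0 0 ≠ (g : Matrix (Fin 2) (Fin 2) F) 1 1 → χ g = 0) ∧
    (χ 1 = (Fintype.card F : ℂ) + 1 → (∀ (c : F) (v : Fin 2 → F), v ≠ 0 → (g : Matrix (Fin 2) (Fin 2) F).mulVec v ≠ c • v) → χ g = 0) := by
  classical
  have hq0 := card_ne_zero_C (F := F)
  constructor
  · intro hdeg h01 h10 hne
    obtain ⟨a, d, ha, hd, hg⟩ := exists_borelMk_of_entry10 g h10
    have had : a ≠ d := by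
      intro h
      apply hne
      rw [← ha, ← hd, h]
    have hq3 : 3 ≤ Fintype.card F := three_le_card_of_units_ne had
    have hq2 : (Fintype.card F : ℂ) ≠ 2 := by
      intro h
      have : Fintype.card F = 2 := by exact_mod_cast h
      omega
    rcases irr_table hχ with ⟨-, h1, -⟩ | ⟨-, h1, -⟩ | ⟨-, h1, -⟩ | ⟨hc, -, -⟩
    · exfalso
      apply hq2
      linear_combination h1 - hdeg
    · exfalso
      have : (1 : ℂ) = 0 := by linear_combination hdeg - h1
      exact one_ne_zero this
    · exfalso
      have : (2 : ℂ) = 0 := by linear_combination hdeg - h1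
      exact two_ne_zero this
    · rw [hg]
      exact cusp_split_eq_zero
        (Helper83.char_isClassFunction (Helper83.isCharacter_of_irr hχ)) hc had _
  · intro hdeg hg
    rcases irr_table hχ with ⟨-, h1, -⟩ | ⟨-, h1, -⟩ | ⟨⟨α, β, -, rfl⟩, -, -⟩ | ⟨-, h1, -⟩
    · exfalso
      apply hq0
      linear_combination h1 - hdeg
    · exfalso
      have : (1 : ℂ) = 0 := by linear_combination h1 - hdeg
      exact one_ne_zero this
    · exact psi_elliptic α β hg
    · exfalso
      have : (2 : ℂ) = 0 := by linear_combination h1 - hdeg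
      exact two_ne_zero this

end Cfsg.Agent.S2309
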