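import Cfsg.Statements.S2310
import Cfsg.Agent.Lib.Helper45.GL2Table

set_option autoImplicit false
open Cfsg

namespace Cfsg.Agent.S2310

open Cfsg.Agent.Lib.Helper45 Cfsg.Agent.Lib

/-- Over a finite field F with q ≥ 3 elements, let u be the upper unitriangular matrix of GL₂ with off-diagonal entry 1. An irreducible complex character χ of GL₂ takes at u the value 1 if χ has degree 1 or q + 1, the value −1 if χ has degree q − 1, and the value 0 if χ has degree q. -/
theorem result {F : Type*} [Field F] [Fintype F] (hq : 3 ≤ Fintype.card F) (χ : Matrix.GeneralLinearGroup (Fin 2) F → ℂ) (hχ : Cfsg.IsIrrCharacter (Matrix.GeneralLinearGroup (Fin 2) F) χ)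
    (u : Matrix.GeneralLinearGroup (Fin 2) F) (hu : (u : Matrix (Fin 2) (Fin 2) F) = !![1, 1; 0, 1]) :
    (χ 1 = 1 → χ u = 1) ∧ (χ 1 = (Fintype.card F : ℂ) + 1 → χ u = 1) ∧
    (χ 1 = (Fintype.card F : ℂ) - 1 → χ u = -1) ∧ (χ 1 = (Fintype.card F : ℂ) → χ u = 0) := by
  classical
  have hq0 := card_ne_zero_C (F := F)
  have hq2 : (Fintype.card F : ℂ) ≠ 2 := by
    intro h
    have : Fintype.card F = 2 := by exact_mod_cast h
    omega
  have hq1 : (Fintype.card F : ℂ) ≠ 1 := by
    intro h
    have : Fintype.card F = 1 := by exact_mod_cast h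
    omega
  have huU : u = glU := by
    apply Units.ext
    rw [hu, glU_coe]
  subst huU
  have h10 : (1 : ℂ) ≠ 0 := one_ne_zero
  have h20 : (2 : ℂ) ≠ 0 := two_ne_zero
  rcases irr_table hχ with ⟨-, h1, h2⟩ | ⟨-, h1, h2⟩ | ⟨-, h1, h2⟩ | ⟨-, h1, h2⟩
  · refine ⟨fun _ => h2, fun _ => h2, fun h => ?_, fun h => ?_⟩
    · exfalso; apply hq2; linear_combination h1 - h
    · exfalso; apply hq1; linear_combination h1 - h
  · refine ⟨fun h => ?_, fun h => ?_, fun h => ?_, fun _ => h2⟩
    · exfalso; apply hq1; linear_combination h - h1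
    · exfalso; apply h10; linear_combination h1 - h
    · exfalso; apply h10; linear_combination h - h1
  · refine ⟨fun h => ?_, fun _ => h2, fun h => ?_, fun h => ?_⟩
    · exfalso; apply hq0; linear_combination h - h1
    · exfalso; apply h20; linear_combination h - h1
    · exfalso; apply h10; linear_combination h - h1
  · refine ⟨fun h => ?_, fun h => ?_, fun _ => h2, fun h => ?_⟩
    · exfalso; apply hq2; linear_combination h - h1
    · exfalso; apply h20; linear_combination h1 - h
    · exfalso; apply h10; linear_combination h1 - h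

end Cfsg.Agent.S2310
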