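import Mathlib
import Cfsg.Statements.S2315
import Cfsg.Agent.Lib.Helper99.NilCount

set_option autoImplicit false
open Cfsg

namespace Cfsg.Agent.S2315

open Cfsg.Agent.Lib.Helper99.NilCount

section aux

variable {F : Type*} [Field F] [Fintype F]

theorem card_nil_lin (n : ℕ) :
    Nat.card {N : (Fin n → F) →ₗ[F] (Fin n → F) // IsNilpotent N} =
      Fintype.card F ^ (n * (n - 1)) := by
  have h := card_nilpotent_mul_card (F := F) (V := Fin n → F)
  have hV : Nat.card (Fin n → F) = Fintype.card F ^ n := by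
    rw [Nat.card_eq_fintype_card, Fintype.card_fun, Fintype.card_fin]
  have hE : Nat.card ((Fin n → F) →ₗ[F] (Fin n → F)) = Fintype.card F ^ (n * n) := by
    rw [Nat.card_congr (Matrix.toLinAlgEquiv' (R := F) (n := Fin n)).toEquiv.symm,
      Nat.card_congr (Matrix.of (m := Fin n) (n := Fin n) (α := F)).symm,
      Nat.card_eq_fintype_card]
    rw [Fintype.card_fun, Fintype.card_fun, Fintype.card_fin, ← pow_mul]
  rw [hV, hE] at h
  have hq : 0 < Fintype.card F ^ n := pow_pos Fintype.card_pos n
  apply Nat.eq_of_mul_eq_mul_right hq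
  rw [h, ← pow_add]
  congr 1
  rcases n with _ | n
  · rfl
  · simp only [Nat.add_sub_cancel]
    ring

theorem card_nil_mat (n : ℕ) :
    Nat.card {N : Matrix (Fin n) (Fin n) F // IsNilpotent N} =
      Fintype.card F ^ (n * (n - 1)) := by
  rw [← card_nil_lin (F := F) n]
  refine Nat.card_congr ?_
  refine Equiv.subtypeEquiv (Matrix.toLinAlgEquiv' (R := F) (n := Fin n)).toEquiv (fun N => ?_)
  constructor
  · intro h
    exact h.map (Matrix.toLinAlgEquiv' (R := F) (n := Fin n))
  · intro h
    have := h.map (Matrix.toLinAlgEquiv' (R := F) (n := Fin n)).symm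
    simpa using this

omit [Fintype F] in
theorem unipotent_iff (p : ℕ) [Fact p.Prime] [CharP F p] (n : ℕ)
    (g : Matrix.GeneralLinearGroup (Fin n) F) :
    (∃ k : ℕ, orderOf g = p ^ k) ↔ IsNilpotent ((g : Matrix (Fin n) (Fin n) F) - 1) := by
  rcases Nat.eq_zero_or_pos n with rfl | hn
  · constructor
    · intro _
      have : (g : Matrix (Fin 0) (Fin 0) F) - 1 = 0 := Subsingleton.elim _ _
      rw [this]
      exact IsNilpotent.zero
    · intro _
      refine ⟨0, ?_⟩
      have : g = 1 := Subsingleton.elim _ _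
      rw [this, orderOf_one, pow_zero]
  · have : Nonempty (Fin n) := ⟨⟨0, hn⟩⟩
    constructor
    · rintro ⟨k, hk⟩
      refine ⟨p ^ k, ?_⟩
      have h1 : g ^ (p ^ k) = 1 := by rw [← hk]; exact pow_orderOf_eq_one g
      have h2 : (g : Matrix (Fin n) (Fin n) F) ^ (p ^ k) = 1 := by
        rw [← Units.val_pow_eq_pow_val, h1, Units.val_one]
      rw [sub_pow_char_pow_of_commute p k (Commute.one_right _), h2, one_pow, sub_self]
    · rintro ⟨m, hm⟩
      have hm' : ((g : Matrix (Fin n) (Fin n) F) - 1) ^ (p ^ m) = 0 :=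
        pow_eq_zero_of_le (Nat.lt_pow_self (Fact.out : p.Prime).one_lt).le hm
      rw [sub_pow_char_pow_of_commute p m (Commute.one_right _), one_pow, sub_eq_zero] at hm'
      have h1 : g ^ (p ^ m) = 1 := by
        apply Units.ext
        rw [Units.val_pow_eq_pow_val, hm', Units.val_one]
      have h2 : orderOf g ∣ p ^ m := orderOf_dvd_of_pow_eq_one h1
      obtain ⟨k, _, hk⟩ := (Nat.dvd_prime_pow (Fact.out : p.Prime)).mp h2
      exact ⟨k, hk⟩

end aux

/-- Steinberg's count of unipotent elements for the general linear group: over a finite field with q elements of characteristic p, the number of elements of GL_n of p-power order (the unipotent matrices) is q^(n(n−1)). -/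
theorem result {F : Type*} [Field F] [Fintype F] (p : ℕ) [Fact p.Prime] [CharP F p] (n : ℕ) :
    Nat.card {g : Matrix.GeneralLinearGroup (Fin n) F // ∃ k : ℕ, orderOf g = p ^ k} = Fintype.card F ^ (n * (n - 1)) := by
  rw [← card_nil_mat (F := F) n]
  refine Nat.card_eq_of_bijective
    (fun g => ⟨(g.1 : Matrix (Fin n) (Fin n) F) - 1, (unipotent_iff p n g.1).mp g.2⟩) ⟨?_, ?_⟩
  · intro g g' h
    have h1 : (g.1 : Matrix (Fin n) (Fin n) F) - 1 = (g'.1 : Matrix (Fin n) (Fin n) F) - 1 :=
      congrArg Subtype.val h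
    apply Subtype.ext
    apply Units.ext
    exact sub_left_injective h1
  · rintro ⟨N, hN⟩
    have hu : IsUnit (1 + N) := hN.isUnit_one_add
    have hval : (hu.unit : Matrix (Fin n) (Fin n) F) - 1 = N := by
      rw [IsUnit.unit_spec, add_sub_cancel_left]
    refine ⟨⟨hu.unit, (unipotent_iff p n hu.unit).mpr (by rw [hval]; exact hN)⟩, ?_⟩
    apply Subtype.ext
    exact hval

end Cfsg.Agent.S2315
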