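import Cfsg.Statements.S2317
import Cfsg.Agent.Lib.Helper49.UnipotentClasses

set_option autoImplicit false
open Cfsg

namespace Cfsg.Agent.S2317

open Cfsg.Agent.Lib.Helper49

/-- Over a finite field of characteristic p, the conjugacy classes of GL_n consisting of elements of p-power order (the unipotent classes) are as many as the partitions of n. -/
theorem result {F : Type*} [Field F] [Fintype F] (p : ℕ) [Fact p.Prime] [CharP F p] (n : ℕ) :
    Nat.card {C : ConjClasses (Matrix.GeneralLinearGroup (Fin n) F) //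
      ∃ g : Matrix.GeneralLinearGroup (Fin n) F, (∃ k : ℕ, orderOf g = p ^ k) ∧ ConjClasses.mk g = C} =
      Fintype.card (Nat.Partition n) := by
  classical
  rw [← Nat.card_eq_fintype_card]
  let S := {C : ConjClasses (Matrix.GeneralLinearGroup (Fin n) F) //
      ∃ g : Matrix.GeneralLinearGroup (Fin n) F, (∃ k : ℕ, orderOf g = p ^ k) ∧ ConjClasses.mk g = C}
  have hex : ∀ C : S, ∃ (g : GL (Fin n) F) (μ : Nat.Partition n),
      ConjClasses.mk g = C.1 ∧ HasType g μ := by
    rintro ⟨C, g, hg, hC⟩
    obtain ⟨m, hm⟩ := (unipotent_iff p g).mp hg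
    obtain ⟨μ, hμ⟩ := exists_hasType g m hm
    exact ⟨g, μ, hC, hμ⟩
  choose rep part hrep hpart using hex
  apply Nat.card_eq_of_bijective part
  constructor
  · intro C C' h
    have h1 : IsConj (rep C) (rep C') := ((hpart C).isConj_iff (hpart C')).mpr h
    apply Subtype.ext
    rw [← hrep C, ← hrep C']
    exact ConjClasses.mk_eq_mk_iff_isConj.mpr h1
  · intro μ
    obtain ⟨g, hg, hμ⟩ := exists_of_partition (F := F) μ
    have hun : ∃ k : ℕ, orderOf g = p ^ k := (unipotent_iff p g).mpr ⟨n, hg⟩
    let C : S := ⟨ConjClasses.mk g, g, hun, rfl⟩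
    refine ⟨C, ?_⟩
    have h1 : IsConj (rep C) g := ConjClasses.mk_eq_mk_iff_isConj.mp (hrep C)
    exact ((hpart C).isConj_iff hμ).mp h1

end Cfsg.Agent.S2317
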