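import Cfsg.Statements.S2320
import Cfsg.Agent.Lib.Helper45.GL2Table

set_option autoImplicit false
open Cfsg

namespace Cfsg.Agent.S2320

open Cfsg.Agent.Lib.Helper45 Cfsg.Agent.Lib

/-- Over a finite field F with q elements, every irreducible complex character of GL₂ of degree q takes a value of absolute value 1 at every diagonal matrix with two different diagonal entries and at every element with no eigenvector in F². -/
theorem result {F : Type*} [Field F] [Fintype F] (χ : Matrix.GeneralLinearGroup (Fin 2) F → ℂ) (hχ : Cfsg.IsIrrCharacter (Matrix.GeneralLinearGroup (Fin 2) F) χ) (hdeg : χ 1 = (Fintype.card F : ℂ)) (g : Matrix.GeneralLinearGroup (Fin 2) F) :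
    ((g : Matrix (Fin 2) (Fin 2) F) 0 1 = 0 → (g : Matrix (Fin 2) (Fin 2) F) 1 0 = 0 → (g : Matrix (Fin 2) (Fin 2) F) 0 0 ≠ (g : Matrix (Fin 2) (Fin 2) F) 1 1 → ‖χ g‖ = 1) ∧
    ((∀ (c : F) (v : Fin 2 → F), v ≠ 0 → (g : Matrix (Fin 2) (Fin 2) F).mulVec v ≠ c • v) → ‖χ g‖ = 1) := by
  classical
  have hq1 : (Fintype.card F : ℂ) ≠ 1 := by
    intro h
    have : Fintype.card F = 1 := by exact_mod_cast h
    have h2 : 2 ≤ Fintype.card F := Fintype.one_lt_card
    omega
  have h10 : (1 : ℂ) ≠ 0 := one_ne_zero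
  have hst : ∃ α : MulChar F ℂ, χ = stChar α := by
    rcases irr_table hχ with ⟨-, h1, -⟩ | ⟨h, -, -⟩ | ⟨-, h1, -⟩ | ⟨-, h1, -⟩
    · exfalso; apply hq1; linear_combination h1 - hdeg
    · exact h
    · exfalso; apply h10; linear_combination hdeg - h1
    · exfalso; apply h10; linear_combination h1 - hdeg
  obtain ⟨α, rfl⟩ := hst
  constructor
  · intro h01 h10' hne
    obtain ⟨a, d, ha, hd, hg⟩ := exists_borelMk_of_entry10 g h10'
    have had : (a : F) ≠ (d : F) := by
      rw [ha, hd]; exact hne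
    rw [hg, h01]
    unfold stChar
    rw [Pi.sub_apply, psi_apply_borelMk, linChar_borelMk, swapCount_eq, if_neg had]
    simp only [Nat.cast_one, one_mul, add_sub_cancel_left, norm_mul, mulChar_norm_unit, mul_one]
  · intro hg
    unfold stChar
    rw [Pi.sub_apply, psi_elliptic α α hg, zero_sub, norm_neg]
    unfold linChar
    rw [← gl_det_coe]
    exact mulChar_norm_unit α _

end Cfsg.Agent.S2320
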