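import Cfsg.Statements.S2321
import Cfsg.Agent.Lib.Helper45.SL2Table

set_option autoImplicit false
open Cfsg

namespace Cfsg.Agent.S2321

open Cfsg.Agent.Lib.Helper45 Cfsg.Agent.Lib

/-- Over a finite field F with q elements, an irreducible complex character of SL₂ of degree q (the Steinberg character) takes the value 1 at every diagonal matrix whose diagonal entry a has a² ≠ 1, the value −1 at every element with no eigenvector in F², and the value 0 at every upper triangular matrix with equal diagonal entries and non-zero upper right entry. -/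
theorem result {F : Type*} [Field F] [Fintype F] (χ : Matrix.SpecialLinearGroup (Fin 2) F → ℂ) (hχ : Cfsg.IsIrrCharacter (Matrix.SpecialLinearGroup (Fin 2) F) χ) (hdeg : χ 1 = (Fintype.card F : ℂ)) (g : Matrix.SpecialLinearGroup (Fin 2) F) :
    ((g : Matrix (Fin 2) (Fin 2) F) 0 1 = 0 → (g : Matrix (Fin 2) (Fin 2) F) 1 0 = 0 → (g : Matrix (Fin 2) (Fin 2) F) 0 0 ^ 2 ≠ 1 → χ g = 1) ∧
    ((∀ (c : F) (v : Fin 2 → F), v ≠ 0 → (g : Matrix (Fin 2) (Fin 2) F).mulVec v ≠ c • v) → χ g = -1) ∧
    ((g : Matrix (Fin 2) (Fin 2) F) 1 0 = 0 → (g : Matrix (Fin 2) (Fin 2) F) 0 0 = (g : Matrix (Fin 2) (Fin 2) F) 1 1 → (g : Matrix (Fin 2) (Fin 2) F) 0 1 ≠ 0 → χ g = 0) := by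
  classical
  have hq : 2 ≤ Fintype.card F := Fintype.one_lt_card
  have hst : χ = stS := by
    rcases irr_table_SL2 hχ with ⟨-, h1⟩ | ⟨h, -⟩ | ⟨-, h1⟩ | ⟨-, -, h1⟩ | ⟨-, h1 | ⟨-, h1⟩⟩
    · exfalso
      rw [hdeg] at h1
      have : Fintype.card F = 1 := by exact_mod_cast h1
      omega
    · exact h
    · exfalso
      rw [hdeg] at h1
      have : (1 : ℂ) = 0 := by linear_combination -h1
      exact one_ne_zero this
    · exfalso
      rw [hdeg] at h1
      have : Fintype.card F = (Fintype.card F + 1) / 2 := by exact_mod_cast h1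
      omega
    · exfalso
      rw [hdeg] at h1
      have : (1 : ℂ) = 0 := by linear_combination h1
      exact one_ne_zero this
    · exfalso
      rw [hdeg] at h1
      have : Fintype.card F = (Fintype.card F - 1) / 2 := by exact_mod_cast h1
      omega
  subst hst
  refine ⟨?_, ?_, ?_⟩
  · intro h01 h10 hsq
    obtain ⟨a, d, ha, hd, hg⟩ := exists_borelMk_of_entry10 (slι g) h10
    have hdet : (a : F) * (d : F) = 1 := by
      have := g.2
      rw [Matrix.det_fin_two, h10, mul_zero, sub_zero] at this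
      rw [ha, hd]
      exact this
    have had : (a : F) ≠ (d : F) := by
      intro h
      apply hsq
      rw [sq]
      change ((slι g : Matrix.GeneralLinearGroup (Fin 2) F) : Matrix (Fin 2) (Fin 2) F) 0 0 *
        ((slι g : Matrix.GeneralLinearGroup (Fin 2) F) : Matrix (Fin 2) (Fin 2) F) 0 0 = 1
      rw [← ha]
      nth_rewrite 2 [h]
      exact hdet
    rw [stS_apply, hg, psi_apply_borelMk, swapCount_eq, if_neg had]
    simp
  · intro hg
    rw [stS_apply, psi_elliptic 1 1 (g := slι g) hg]
    norm_num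
  · intro h10 heq h01
    obtain ⟨a, d, ha, hd, hg⟩ := exists_borelMk_of_entry10 (slι g) h10
    have had : (a : F) = (d : F) := by
      rw [ha, hd]; exact heq
    have h01' : ((slι g : Matrix.GeneralLinearGroup (Fin 2) F) : Matrix (Fin 2) (Fin 2) F) 0 1 ≠ 0 := h01
    rw [stS_apply, hg, psi_apply_borelMk, swapCount_eq, if_pos had, if_neg h01']
    simp

end Cfsg.Agent.S2321
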