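import Cfsg.Statements.S2322
import Cfsg.Agent.Lib.Helper45.SL2Three

set_option autoImplicit false
open Cfsg

namespace Cfsg.Agent.S2322

open Cfsg.Agent.Lib.Helper45 Cfsg.Agent.Lib

/-- Over a finite field F with q elements, q odd: every irreducible complex character of SL₂ of degree q − 1 or (q − 1)/2 vanishes at every diagonal matrix whose diagonal entry a has a² ≠ 1, and every irreducible complex character of degree q + 1 or (q + 1)/2 vanishes at every element with no eigenvector in F². -/
theorem result {F : Type*} [Field F] [Fintype F] (hodd : Odd (Fintype.card F)) (χ : Matrix.SpecialLinearGroup (Fin 2) F → ℂ) (hχ : Cfsg.IsIrrCharacter (Matrix.SpecialLinearGroup (Fin 2) F) χ) (g : Matrix.SpecialLinearGroup (Fin 2) F) :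
    ((χ 1 = (Fintype.card F : ℂ) - 1 ∨ χ 1 = (((Fintype.card F - 1) / 2 : ℕ) : ℂ)) →
      (g : Matrix (Fin 2) (Fin 2) F) 0 1 = 0 → (g : Matrix (Fin 2) (Fin 2) F) 1 0 = 0 → (g : Matrix (Fin 2) (Fin 2) F) 0 0 ^ 2 ≠ 1 → χ g = 0) ∧
    ((χ 1 = (Fintype.card F : ℂ) + 1 ∨ χ 1 = (((Fintype.card F + 1) / 2 : ℕ) : ℂ)) →
      (∀ (c : F) (v : Fin 2 → F), v ≠ 0 → (g : Matrix (Fin 2) (Fin 2) F).mulVec v ≠ c • v) → χ g = 0) := by
  classical
  have hodd' : Fintype.card F % 2 = 1 := Nat.odd_iff.mp hodd
  have hq2 : 2 ≤ Fintype.card F := Fintype.one_lt_card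
  have hcf : IsClassFunction (Matrix.SpecialLinearGroup (Fin 2) F) χ :=
    Helper83.char_isClassFunction (Helper83.isCharacter_of_irr hχ)
  obtain ⟨n, hn, hcases⟩ := irr_table_SL2_nat hχ
  constructor
  · intro hdeg h01 h10 hsq
    -- the degree as a natural number
    have hdegN : n = Fintype.card F - 1 ∨ n = (Fintype.card F - 1) / 2 := by
      rcases hdeg with h | h
      · left
        rw [hn] at h
        have : (n : ℂ) = ((Fintype.card F - 1 : ℕ) : ℂ) := by
          rw [h]; push_cast [Nat.cast_sub (by omega : 1 ≤ Fintype.card F)]; ring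
        exact_mod_cast this
      · right
        rw [hn] at h
        exact_mod_cast h
    have hdet := sl2_det_entries g
    rw [h01, zero_mul, sub_zero] at hdet
    have h00 : (g : Matrix (Fin 2) (Fin 2) F) 0 0 ≠ 0 := left_ne_zero_of_mul_eq_one hdet
    -- q ≠ 3
    have hq3 : Fintype.card F ≠ 3 := by
      intro h3
      apply hsq
      have h := FiniteField.pow_card_sub_one_eq_one _ h00
      rw [h3] at h
      exact h
    have hq5 : 5 ≤ Fintype.card F := by omega
    have hc : IsCuspS χ := by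
      rcases hcases with ⟨h, -⟩ | ⟨h, -⟩ | ⟨h, -⟩ | ⟨h, -⟩ | ⟨-, h, -⟩ | ⟨-, -, h⟩
      · omega
      · omega
      · omega
      · omega
      · exact h
      · exact h
    have hg : g = slUT (Units.mk0 _ h00) 0 := by
      apply Subtype.ext
      rw [slUT_coe]
      have h11 : (g : Matrix (Fin 2) (Fin 2) F) 1 1 = ((Units.mk0 _ h00)⁻¹ : Fˣ) := by
        rw [Units.val_inv_eq_inv_val, Units.val_mk0]
        exact eq_inv_of_mul_eq_one_right hdet
      ext i j
      fin_cases i <;> fin_cases j <;> simp [h01, h10, h11]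
    rw [hg]
    exact cuspS_split_eq_zero hcf hc (by rw [Units.val_mk0]; exact hsq) 0
  · intro hdeg hg
    have hdegN : n = Fintype.card F + 1 ∨ n = (Fintype.card F + 1) / 2 := by
      rcases hdeg with h | h
      · left
        rw [hn] at h
        have : (n : ℂ) = ((Fintype.card F + 1 : ℕ) : ℂ) := by
          rw [h]; push_cast; ring
        exact_mod_cast this
      · right
        rw [hn] at h
        exact_mod_cast h
    rcases hcases with ⟨h, -⟩ | ⟨h, -⟩ | ⟨-, ⟨γ, -, h⟩, -⟩ | ⟨-, -, h⟩ | ⟨h, -, hu⟩ | ⟨h, -⟩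
    · omega
    · omega
    · rw [h]
      unfold psiS
      rw [resS_apply]
      exact psi_elliptic γ 1 hg
    · exact half_plus_elliptic hodd' hχ h hg
    · have hq3 : Fintype.card F = 3 := by omega
      have h1 : χ 1 = 2 := by
        rw [hn, h, hq3]; norm_num
      exact cusp_elliptic_three hq3 ⟨χ, hχ⟩ h1 hu hg
    · omega

end Cfsg.Agent.S2322
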