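import Cfsg.Statements.S2323
import Cfsg.Agent.Lib.Helper45.SL2Table2

set_option autoImplicit false
open Cfsg

namespace Cfsg.Agent.S2323

open Cfsg.Agent.Lib.Helper45 Cfsg.Agent.Lib

/-- Over a finite field F with q ≥ 4 elements, let u be the upper unitriangular matrix of SL₂ with off-diagonal entry 1. An irreducible complex character of SL₂ takes at u the value 1 if its degree is q + 1 and the value −1 if its degree is q − 1. -/
theorem result {F : Type*} [Field F] [Fintype F] (hq : 4 ≤ Fintype.card F) (χ : Matrix.SpecialLinearGroup (Fin 2) F → ℂ) (hχ : Cfsg.IsIrrCharacter (Matrix.SpecialLinearGroup (Fin 2) F) χ)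
    (u : Matrix.SpecialLinearGroup (Fin 2) F) (hu : (u : Matrix (Fin 2) (Fin 2) F) = !![1, 1; 0, 1]) :
    (χ 1 = (Fintype.card F : ℂ) + 1 → χ u = 1) ∧ (χ 1 = (Fintype.card F : ℂ) - 1 → χ u = -1) := by
  classical
  have huT : u = slT 1 := by
    apply Subtype.ext
    rw [hu, slT_coe]
  subst huT
  have h1ne : (1 : F) ≠ 0 := one_ne_zero
  have hcast : ∀ n : ℕ, (Fintype.card F : ℂ) = (n : ℂ) → Fintype.card F = n := by
    intro n h
    exact_mod_cast h
  constructor
  · intro hdeg
    rcases irr_table_SL2' hχ with ⟨-, h1⟩ | ⟨-, h1⟩ | ⟨-, -, h1⟩ | ⟨-, -, h1⟩ |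
      ⟨-, ⟨h1, -⟩ | ⟨-, h1⟩⟩
    · exfalso
      rw [hdeg] at h1
      have : ((Fintype.card F + 1 : ℕ) : ℂ) = ((1 : ℕ) : ℂ) := by push_cast; exact h1
      have : Fintype.card F + 1 = 1 := by exact_mod_cast this
      omega
    · exfalso
      rw [hdeg] at h1
      have : (1 : ℂ) = 0 := by linear_combination h1
      exact one_ne_zero this
    · exact h1 1 h1ne
    · exfalso
      rw [hdeg] at h1
      have : ((Fintype.card F + 1 : ℕ) : ℂ) = (((Fintype.card F + 1) / 2 : ℕ) : ℂ) := by
        push_cast; exact h1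
      have : Fintype.card F + 1 = (Fintype.card F + 1) / 2 := by exact_mod_cast this
      omega
    · exfalso
      rw [hdeg] at h1
      have : (2 : ℂ) = 0 := by linear_combination h1
      exact two_ne_zero this
    · exfalso
      rw [hdeg] at h1
      have : ((Fintype.card F + 1 : ℕ) : ℂ) = (((Fintype.card F - 1) / 2 : ℕ) : ℂ) := by
        push_cast; exact h1
      have : Fintype.card F + 1 = (Fintype.card F - 1) / 2 := by exact_mod_cast this
      omega
  · intro hdeg
    have hdeg' : χ 1 = ((Fintype.card F - 1 : ℕ) : ℂ) := by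
      rw [hdeg]
      push_cast [Nat.cast_sub (by omega : 1 ≤ Fintype.card F)]
      ring
    rcases irr_table_SL2' hχ with ⟨-, h1⟩ | ⟨-, h1⟩ | ⟨-, h1, -⟩ | ⟨-, -, h1⟩ |
      ⟨-, ⟨-, h1⟩ | ⟨-, h1⟩⟩
    · exfalso
      rw [hdeg'] at h1
      have : Fintype.card F - 1 = 1 := by exact_mod_cast h1
      omega
    · exfalso
      rw [hdeg] at h1
      have : (1 : ℂ) = 0 := by linear_combination -h1
      exact one_ne_zero this
    · exfalso
      rw [hdeg] at h1
      have : (2 : ℂ) = 0 := by linear_combination -h1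
      exact two_ne_zero this
    · exfalso
      rw [hdeg'] at h1
      have : Fintype.card F - 1 = (Fintype.card F + 1) / 2 := by exact_mod_cast h1
      omega
    · exact h1 1 h1ne
    · exfalso
      rw [hdeg'] at h1
      have : Fintype.card F - 1 = (Fintype.card F - 1) / 2 := by exact_mod_cast h1
      omega

end Cfsg.Agent.S2323
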