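import Cfsg.Statements.S2324
import Cfsg.Agent.Lib.Helper45.SL2HalfSign

set_option autoImplicit false
open Cfsg

namespace Cfsg.Agent.S2324

open Cfsg.Agent.Lib.Helper45 Cfsg.Agent.Lib

/-- Over a finite field F with q elements, q odd and q ≥ 5, let u be the upper unitriangular matrix of SL₂ with off-diagonal entry 1 and let δ = (−1)^((q−1)/2). Every irreducible complex character χ of SL₂ of degree (q + 1)/2 satisfies (2χ(u) − 1)² = δq, and every irreducible complex character χ of degree (q − 1)/2 satisfies (2χ(u) + 1)² = δq; that is, χ(u) = (1 ± √(δq))/2 in the first case and χ(u) = (−1 ± √(δq))/2 in the second. Moreover two different irreducible characters of degree (q + 1)/2 take the two different values (their values at u add up to 1), and likewise for degree (q − 1)/2 (values adding up to −1). -/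
theorem result {F : Type*} [Field F] [Fintype F] (hodd : Odd (Fintype.card F)) (hq : 5 ≤ Fintype.card F)
    (u : Matrix.SpecialLinearGroup (Fin 2) F) (hu : (u : Matrix (Fin 2) (Fin 2) F) = !![1, 1; 0, 1]) :
    (∀ χ : Matrix.SpecialLinearGroup (Fin 2) F → ℂ, Cfsg.IsIrrCharacter (Matrix.SpecialLinearGroup (Fin 2) F) χ → χ 1 = (((Fintype.card F + 1) / 2 : ℕ) : ℂ) → (2 * χ u - 1) ^ 2 = (-1 : ℂ) ^ ((Fintype.card F - 1) / 2) * (Fintype.card F : ℂ)) ∧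
    (∀ χ : Matrix.SpecialLinearGroup (Fin 2) F → ℂ, Cfsg.IsIrrCharacter (Matrix.SpecialLinearGroup (Fin 2) F) χ → χ 1 = (((Fintype.card F - 1) / 2 : ℕ) : ℂ) → (2 * χ u + 1) ^ 2 = (-1 : ℂ) ^ ((Fintype.card F - 1) / 2) * (Fintype.card F : ℂ)) ∧
    (∀ χ₁ χ₂ : Matrix.SpecialLinearGroup (Fin 2) F → ℂ, Cfsg.IsIrrCharacter (Matrix.SpecialLinearGroup (Fin 2) F) χ₁ → Cfsg.IsIrrCharacter (Matrix.SpecialLinearGroup (Fin 2) F) χ₂ → χ₁ ≠ χ₂ →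
      χ₁ 1 = (((Fintype.card F + 1) / 2 : ℕ) : ℂ) → χ₂ 1 = (((Fintype.card F + 1) / 2 : ℕ) : ℂ) → χ₁ u + χ₂ u = 1) ∧
    (∀ χ₁ χ₂ : Matrix.SpecialLinearGroup (Fin 2) F → ℂ, Cfsg.IsIrrCharacter (Matrix.SpecialLinearGroup (Fin 2) F) χ₁ → Cfsg.IsIrrCharacter (Matrix.SpecialLinearGroup (Fin 2) F) χ₂ → χ₁ ≠ χ₂ →
      χ₁ 1 = (((Fintype.card F - 1) / 2 : ℕ) : ℂ) → χ₂ 1 = (((Fintype.card F - 1) / 2 : ℕ) : ℂ) → χ₁ u + χ₂ u = -1) := by
  classical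
  have huT : u = slT 1 := by
    apply Subtype.ext
    rw [hu, slT_coe]
  subst huT
  have hodd' : Fintype.card F % 2 = 1 := Nat.odd_iff.mp hodd
  obtain ⟨ε, hε⟩ := exists_nonsquare_of_odd (F := F) hodd'
  obtain ⟨P1, P2, P3, P4⟩ := half_values (F := F) hodd' hq hε
  refine ⟨?_, ?_, ?_, ?_⟩
  · intro χ hχ hdeg
    have hd : irrDeg (⟨χ, hχ⟩ : IrrCharacter (Matrix.SpecialLinearGroup (Fin 2) F)) =
        (Fintype.card F + 1) / 2 := (irrDeg_eq_iff _ _).mpr hdeg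
    obtain ⟨hs, hD⟩ := P1 ⟨χ, hχ⟩ hd
    have h := diff_sq_eq hodd' hε ⟨χ, hχ⟩ hD
    rw [← h]
    change (2 * χ (slT 1) - 1) ^ 2 = (χ (slT 1) - χ (slT ε)) ^ 2
    have hs' : χ (slT 1) + χ (slT ε) = 1 := hs
    rw [← hs']
    ring
  · intro χ hχ hdeg
    have hd : irrDeg (⟨χ, hχ⟩ : IrrCharacter (Matrix.SpecialLinearGroup (Fin 2) F)) =
        (Fintype.card F - 1) / 2 := (irrDeg_eq_iff _ _).mpr hdeg
    obtain ⟨hs, hD⟩ := P2 ⟨χ, hχ⟩ hd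
    have h := diff_sq_eq hodd' hε ⟨χ, hχ⟩ hD
    rw [← h]
    change (2 * χ (slT 1) + 1) ^ 2 = (χ (slT 1) - χ (slT ε)) ^ 2
    have hs' : χ (slT 1) + χ (slT ε) = -1 := hs
    have : (1 : ℂ) = -(χ (slT 1) + χ (slT ε)) := by rw [hs']; ring
    rw [this]
    ring
  · intro χ₁ χ₂ h₁ h₂ hne hd₁ hd₂
    exact P3 ⟨χ₁, h₁⟩ ⟨χ₂, h₂⟩ (fun h => hne (congrArg Subtype.val h))
      ((irrDeg_eq_iff _ _).mpr hd₁) ((irrDeg_eq_iff _ _).mpr hd₂)
  · intro χ₁ χ₂ h₁ h₂ hne hd₁ hd₂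
    exact P4 ⟨χ₁, h₁⟩ ⟨χ₂, h₂⟩ (fun h => hne (congrArg Subtype.val h))
      ((irrDeg_eq_iff _ _).mpr hd₁) ((irrDeg_eq_iff _ _).mpr hd₂)

end Cfsg.Agent.S2324
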