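import Cfsg.Statements.S2329
import Cfsg.Agent.Lib.Helper45.Mat2

set_option autoImplicit false
open Cfsg

namespace Cfsg.Agent.S2329

/-- Over a finite field of characteristic p, any two elements of order p of GL₂ are conjugate: there is a single conjugacy class of non-identity unipotent elements. -/
theorem result {F : Type*} [Field F] [Fintype F] (p : ℕ) [Fact p.Prime] [CharP F p] (g h : Matrix.GeneralLinearGroup (Fin 2) F)
    (hg : orderOf g = p) (hh : orderOf h = p) : IsConj g h := by
  obtain ⟨hg1, hg2⟩ := Cfsg.Agent.Lib.Helper45.gl_unip_of_orderOf p g hg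
  obtain ⟨hh1, hh2⟩ := Cfsg.Agent.Lib.Helper45.gl_unip_of_orderOf p h hh
  have hu : ((Matrix.GeneralLinearGroup.upperRightHom (1 : F) : Matrix.GeneralLinearGroup (Fin 2) F) : Matrix (Fin 2) (Fin 2) F) = !![1, 1; 0, 1] := rfl
  exact (Cfsg.Agent.Lib.Helper45.gl2_unip_conj g hg1 hg2 _ hu).symm.trans
    (Cfsg.Agent.Lib.Helper45.gl2_unip_conj h hh1 hh2 _ hu)

end Cfsg.Agent.S2329
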