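import Cfsg.Statements.S2330
import Cfsg.Agent.Lib.Helper46.Mat2

set_option autoImplicit false
open Cfsg

namespace Cfsg.Agent.S2330

open Matrix Cfsg.Agent.Lib.Helper46

variable {F : Type*} [Field F]

open Classical in
/-- The invariant separating the conjugacy classes of `GL₂`. -/
noncomputable def inv (g : GL (Fin 2) F) : F × F :=
  if IsScalar (g : Matrix (Fin 2) (Fin 2) F) then ((g : Matrix (Fin 2) (Fin 2) F) 0 0, 0)
  else (Matrix.trace (g : Matrix (Fin 2) (Fin 2) F), Matrix.det (g : Matrix (Fin 2) (Fin 2) F))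

theorem isScalar_of_conj (c g : GL (Fin 2) F) (hg : IsScalar (g : Matrix (Fin 2) (Fin 2) F)) :
    c * g * c⁻¹ = g := by
  apply Units.ext
  have : (c : Matrix (Fin 2) (Fin 2) F) * ((c⁻¹ : GL (Fin 2) F) : Matrix (Fin 2) (Fin 2) F) = 1 := by
    rw [← Units.val_mul, mul_inv_cancel, Units.val_one]
  simpa using isScalar_conj _ _ _ hg this

theorem inv_conj (c g : GL (Fin 2) F) : inv (c * g * c⁻¹) = inv g := by
  by_cases hg : IsScalar (g : Matrix (Fin 2) (Fin 2) F)
  · rw [isScalar_of_conj c g hg]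
  · have hh : ¬ IsScalar ((c * g * c⁻¹ : GL (Fin 2) F) : Matrix (Fin 2) (Fin 2) F) := by
      intro hs
      apply hg
      have h1 := isScalar_of_conj c⁻¹ _ hs
      have h2 : c⁻¹ * (c * g * c⁻¹) * c⁻¹⁻¹ = g := by group
      rw [h2] at h1
      rw [h1]
      exact hs
    unfold inv
    rw [if_neg hg, if_neg hh]
    have e : ((c * g * c⁻¹ : GL (Fin 2) F) : Matrix (Fin 2) (Fin 2) F) =
        (c : Matrix (Fin 2) (Fin 2) F) * (g : Matrix (Fin 2) (Fin 2) F) *
          ((c⁻¹ : GL (Fin 2) F) : Matrix (Fin 2) (Fin 2) F) := by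
      simp
    rw [e, Matrix.trace_units_conj, Matrix.det_units_conj]

theorem conj_companion (g : GL (Fin 2) F) (hg : ¬ IsScalar (g : Matrix (Fin 2) (Fin 2) F)) :
    ∃ P : GL (Fin 2) F, ((P⁻¹ * g * P : GL (Fin 2) F) : Matrix (Fin 2) (Fin 2) F) =
      companion (Matrix.trace (g : Matrix (Fin 2) (Fin 2) F)) (Matrix.det (g : Matrix (Fin 2) (Fin 2) F)) := by
  obtain ⟨P, hP, hPM⟩ := exists_conj_companion (g : Matrix (Fin 2) (Fin 2) F) hg
  obtain ⟨P', hval⟩ : ∃ P' : GL (Fin 2) F, (P' : Matrix (Fin 2) (Fin 2) F) = P :=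
    ⟨Matrix.GeneralLinearGroup.mkOfDetNeZero P hP, rfl⟩
  refine ⟨P', ?_⟩
  subst hval
  rw [Units.val_mul, Units.val_mul, mul_assoc, hPM, ← mul_assoc, ← Units.val_mul, inv_mul_cancel,
    Units.val_one, one_mul]

theorem isConj_of_inv_eq (g h : GL (Fin 2) F) (hgh : inv g = inv h) : IsConj g h := by
  have hdg := Matrix.GeneralLinearGroup.det_ne_zero g
  have hdh := Matrix.GeneralLinearGroup.det_ne_zero h
  unfold inv at hgh
  by_cases hg : IsScalar (g : Matrix (Fin 2) (Fin 2) F)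
  · by_cases hh : IsScalar (h : Matrix (Fin 2) (Fin 2) F)
    · rw [if_pos hg, if_pos hh] at hgh
      have h00 : (g : Matrix (Fin 2) (Fin 2) F) 0 0 = (h : Matrix (Fin 2) (Fin 2) F) 0 0 := (Prod.ext_iff.1 hgh).1
      have : g = h := by
        apply Units.ext
        rw [(isScalar_iff _).1 hg, (isScalar_iff _).1 hh, h00]
      rw [this]
    · rw [if_pos hg, if_neg hh] at hgh
      exact absurd (Prod.ext_iff.1 hgh).2.symm hdh
  · by_cases hh : IsScalar (h : Matrix (Fin 2) (Fin 2) F)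
    · rw [if_neg hg, if_pos hh] at hgh
      exact absurd (Prod.ext_iff.1 hgh).2 hdg
    · rw [if_neg hg, if_neg hh] at hgh
      obtain ⟨P, hP⟩ := conj_companion g hg
      obtain ⟨Q, hQ⟩ := conj_companion h hh
      have ht : Matrix.trace (g : Matrix (Fin 2) (Fin 2) F) = Matrix.trace (h : Matrix (Fin 2) (Fin 2) F) :=
        (Prod.ext_iff.1 hgh).1
      have hd : Matrix.det (g : Matrix (Fin 2) (Fin 2) F) = Matrix.det (h : Matrix (Fin 2) (Fin 2) F) :=
        (Prod.ext_iff.1 hgh).2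
      rw [ht, hd, ← hQ] at hP
      have hPQ : P⁻¹ * g * P = Q⁻¹ * h * Q := Units.ext hP
      rw [isConj_iff]
      refine ⟨Q * P⁻¹, ?_⟩
      have : h = Q * (Q⁻¹ * h * Q) * Q⁻¹ := by group
      rw [this, ← hPQ]
      group

theorem inv_ne_zero (g : GL (Fin 2) F) : inv g ≠ (0, 0) := by
  have hdg := Matrix.GeneralLinearGroup.det_ne_zero g
  unfold inv
  by_cases hg : IsScalar (g : Matrix (Fin 2) (Fin 2) F)
  · rw [if_pos hg]
    intro h
    have h0 : (g : Matrix (Fin 2) (Fin 2) F) 0 0 = 0 := (Prod.ext_iff.1 h).1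
    apply hdg
    rw [Matrix.det_fin_two, hg.1, h0]
    simp
  · rw [if_neg hg]
    intro h
    exact hdg (Prod.ext_iff.1 h).2

theorem exists_inv_eq (x : F × F) (hx : x ≠ (0, 0)) : ∃ g : GL (Fin 2) F, inv g = x := by
  obtain ⟨a, b⟩ := x
  by_cases hb : b = 0
  · subst hb
    have ha : a ≠ 0 := by
      rintro rfl
      exact hx rfl
    have hdet : (!![a, 0; 0, a] : Matrix (Fin 2) (Fin 2) F).det ≠ 0 := by
      rw [Matrix.det_fin_two]
      simp [ha]
    refine ⟨Matrix.GeneralLinearGroup.mkOfDetNeZero _ hdet, ?_⟩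
    have hval : ((Matrix.GeneralLinearGroup.mkOfDetNeZero _ hdet : GL (Fin 2) F) : Matrix (Fin 2) (Fin 2) F) =
        !![a, 0; 0, a] := rfl
    have hs : IsScalar (!![a, 0; 0, a] : Matrix (Fin 2) (Fin 2) F) := ⟨by simp, by simp, by simp⟩
    unfold inv
    rw [hval, if_pos hs]
    simp
  · have hdet : (companion a b).det ≠ 0 := by rw [companion_det]; exact hb
    refine ⟨Matrix.GeneralLinearGroup.mkOfDetNeZero _ hdet, ?_⟩
    have hval : ((Matrix.GeneralLinearGroup.mkOfDetNeZero _ hdet : GL (Fin 2) F) : Matrix (Fin 2) (Fin 2) F) =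
        companion a b := rfl
    unfold inv
    rw [hval, if_neg (companion_not_isScalar a b), companion_det, companion_trace]

theorem result {F : Type*} [Field F] [Fintype F] :
    Nat.card (ConjClasses (Matrix.GeneralLinearGroup (Fin 2) F)) = Fintype.card F ^ 2 - 1 := by
  let φ : ConjClasses (GL (Fin 2) F) → F × F :=
    Quotient.lift inv (by
      intro a b hab
      obtain ⟨c, hc⟩ := isConj_iff.1 hab
      rw [← hc, inv_conj])
  have hφ : ∀ g, φ (ConjClasses.mk g) = inv g := fun g => rfl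
  have hinj : Function.Injective φ := by
    intro x y hxy
    obtain ⟨g, rfl⟩ := ConjClasses.mk_surjective x
    obtain ⟨h, rfl⟩ := ConjClasses.mk_surjective y
    rw [hφ, hφ] at hxy
    exact ConjClasses.mk_eq_mk_iff_isConj.2 (isConj_of_inv_eq g h hxy)
  have hrange : Set.range φ = ({(0, 0)} : Set (F × F))ᶜ := by
    ext x
    constructor
    · rintro ⟨c, rfl⟩
      obtain ⟨g, rfl⟩ := ConjClasses.mk_surjective c
      rw [hφ]
      exact inv_ne_zero g
    · intro hx
      obtain ⟨g, hg⟩ := exists_inv_eq x hx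
      exact ⟨ConjClasses.mk g, by rw [hφ, hg]⟩
  rw [← Nat.card_range_of_injective hinj, hrange, Nat.card_coe_set_eq,
    Set.ncard_compl _ (Set.finite_singleton _) (Set.toFinite _), Set.ncard_singleton, Nat.card_prod,
    Nat.card_eq_fintype_card, sq]

end Cfsg.Agent.S2330
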