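import Cfsg.Statements.S2331
import Cfsg.Agent.Lib.Helper46.Mat2

set_option autoImplicit false
open Cfsg

namespace Cfsg.Agent.S2331

open Matrix Cfsg.Agent.Lib.Helper46

variable {F : Type*} [Field F]

open Classical in
/-- The invariant separating the conjugacy classes of `SL₂` in characteristic two. -/
noncomputable def inv (g : Matrix.SpecialLinearGroup (Fin 2) F) : Option F :=
  if g = 1 then none else some (Matrix.trace (g : Matrix (Fin 2) (Fin 2) F))

theorem inv_conj (c g : Matrix.SpecialLinearGroup (Fin 2) F) : inv (c * g * c⁻¹) = inv g := by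
  unfold inv
  have h1 : c * g * c⁻¹ = 1 ↔ g = 1 := by
    constructor
    · intro h
      have : g = c⁻¹ * (c * g * c⁻¹) * c := by group
      rw [this, h]
      group
    · rintro rfl
      group
  have h2 : Matrix.trace ((c * g * c⁻¹ : Matrix.SpecialLinearGroup (Fin 2) F) : Matrix (Fin 2) (Fin 2) F) =
      Matrix.trace (g : Matrix (Fin 2) (Fin 2) F) := by
    rw [Matrix.SpecialLinearGroup.coe_mul, Matrix.SpecialLinearGroup.coe_mul, Matrix.trace_mul_comm, ← mul_assoc,
      ← Matrix.SpecialLinearGroup.coe_mul, inv_mul_cancel, Matrix.SpecialLinearGroup.coe_one, one_mul]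
  by_cases hg : g = 1
  · rw [if_pos hg, if_pos (h1.2 hg)]
  · rw [if_neg hg, if_neg (fun h => hg (h1.1 h)), h2]

theorem not_isScalar [CharP F 2] (g : Matrix.SpecialLinearGroup (Fin 2) F) (hg : g ≠ 1) :
    ¬ IsScalar (g : Matrix (Fin 2) (Fin 2) F) := by
  intro hs
  apply hg
  have hdet := g.2
  rw [Matrix.det_fin_two, hs.1, hs.2.1, ← hs.2.2] at hdet
  have h2 : (2 : F) = 0 := CharTwo.two_eq_zero
  have ha : ((g : Matrix (Fin 2) (Fin 2) F) 0 0 - 1) ^ 2 = 0 := by
    have : ((g : Matrix (Fin 2) (Fin 2) F) 0 0 - 1) ^ 2 =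
        ((g : Matrix (Fin 2) (Fin 2) F) 0 0 * (g : Matrix (Fin 2) (Fin 2) F) 0 0 - 0 * 0) + 1 -
          2 * (g : Matrix (Fin 2) (Fin 2) F) 0 0 := by ring
    rw [this, hdet, h2]
    have : (1 : F) + 1 = 2 := by norm_num
    rw [this, h2]
    ring
  have ha1 : (g : Matrix (Fin 2) (Fin 2) F) 0 0 = 1 := by
    have := pow_eq_zero_iff (two_ne_zero) |>.1 ha
    exact sub_eq_zero.1 this
  apply Subtype.ext
  rw [(isScalar_iff _).1 hs, ha1, one_smul]
  rfl

theorem isConj_of_inv_eq [Fintype F] [CharP F 2] (g h : Matrix.SpecialLinearGroup (Fin 2) F)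
    (hgh : inv g = inv h) : IsConj g h := by
  unfold inv at hgh
  by_cases hg : g = 1
  · by_cases hh : h = 1
    · rw [hg, hh]
    · rw [if_pos hg, if_neg hh] at hgh
      exact absurd hgh (by simp)
  · by_cases hh : h = 1
    · rw [if_neg hg, if_pos hh] at hgh
      exact absurd hgh (by simp)
    · rw [if_neg hg, if_neg hh] at hgh
      have ht : Matrix.trace (g : Matrix (Fin 2) (Fin 2) F) = Matrix.trace (h : Matrix (Fin 2) (Fin 2) F) :=
        Option.some_injective _ hgh
      obtain ⟨P, hP, hPg⟩ := exists_conj_companion (g : Matrix (Fin 2) (Fin 2) F) (not_isScalar g hg)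
      obtain ⟨Q, hQ, hQh⟩ := exists_conj_companion (h : Matrix (Fin 2) (Fin 2) F) (not_isScalar h hh)
      rw [g.2] at hPg
      rw [h.2, ← ht] at hQh
      set C := companion (Matrix.trace (g : Matrix (Fin 2) (Fin 2) F)) (1 : F) with hC
      have hPu : IsUnit P.det := isUnit_iff_ne_zero.2 hP
      have h1 : P⁻¹ * (g : Matrix (Fin 2) (Fin 2) F) = C * P⁻¹ := by
        have : P⁻¹ * ((g : Matrix (Fin 2) (Fin 2) F) * P) * P⁻¹ = P⁻¹ * (P * C) * P⁻¹ := by rw [hPg]
        rw [← mul_assoc, mul_assoc, Matrix.mul_nonsing_inv P hPu, mul_one, ← mul_assoc,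
          Matrix.nonsing_inv_mul P hPu, one_mul] at this
        exact this
      -- choose the scalar
      have hsq : IsSquare ((Q.det)⁻¹ * P.det) :=
        FiniteField.isSquare_of_char_two (ringChar.eq F 2) _
      obtain ⟨l, hl⟩ := hsq
      set R : Matrix (Fin 2) (Fin 2) F := l • (Q * P⁻¹) with hR
      have hRdet : R.det = 1 := by
        rw [hR, Matrix.det_smul, Matrix.det_mul, Matrix.det_nonsing_inv, Ring.inverse_eq_inv',
          Fintype.card_fin, sq, ← hl]
        field_simp
      have hRg : R * (g : Matrix (Fin 2) (Fin 2) F) = (h : Matrix (Fin 2) (Fin 2) F) * R := by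
        rw [hR, Matrix.smul_mul, Matrix.mul_smul, mul_assoc, h1, ← mul_assoc, ← hQh, mul_assoc]
      rw [isConj_iff]
      obtain ⟨R', hR'⟩ : ∃ R' : Matrix.SpecialLinearGroup (Fin 2) F, (R' : Matrix (Fin 2) (Fin 2) F) = R :=
        ⟨⟨R, hRdet⟩, rfl⟩
      refine ⟨R', ?_⟩
      have : R' * g = h * R' := by
        apply Subtype.ext
        rw [Matrix.SpecialLinearGroup.coe_mul, Matrix.SpecialLinearGroup.coe_mul, hR']
        exact hRg
      rw [this]
      group

theorem exists_inv_eq (x : Option F) : ∃ g : Matrix.SpecialLinearGroup (Fin 2) F, inv g = x := by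
  cases x with
  | none => exact ⟨1, by simp [inv]⟩
  | some t =>
    obtain ⟨c, hc⟩ : ∃ c : Matrix.SpecialLinearGroup (Fin 2) F, (c : Matrix (Fin 2) (Fin 2) F) = companion t 1 :=
      ⟨⟨companion t 1, companion_det t 1⟩, rfl⟩
    refine ⟨c, ?_⟩
    unfold inv
    have hne : c ≠ 1 := by
      intro h
      have h10 : (c : Matrix (Fin 2) (Fin 2) F) 1 0 = (1 : Matrix (Fin 2) (Fin 2) F) 1 0 := by
        rw [h]; rfl
      rw [hc] at h10
      simp [companion] at h10
    rw [if_neg hne, hc, companion_trace]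

theorem result {F : Type*} [Field F] [Fintype F] [CharP F 2] :
    Nat.card (ConjClasses (Matrix.SpecialLinearGroup (Fin 2) F)) = Fintype.card F + 1 := by
  let φ : ConjClasses (Matrix.SpecialLinearGroup (Fin 2) F) → Option F :=
    Quotient.lift inv (by
      intro a b hab
      obtain ⟨c, hc⟩ := isConj_iff.1 hab
      rw [← hc, inv_conj])
  have hφ : ∀ g, φ (ConjClasses.mk g) = inv g := fun g => rfl
  have hbij : Function.Bijective φ := by
    constructor
    · intro x y hxy
      obtain ⟨g, rfl⟩ := ConjClasses.mk_surjective x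
      obtain ⟨h, rfl⟩ := ConjClasses.mk_surjective y
      rw [hφ, hφ] at hxy
      exact ConjClasses.mk_eq_mk_iff_isConj.2 (isConj_of_inv_eq g h hxy)
    · intro x
      obtain ⟨g, hg⟩ := exists_inv_eq x
      exact ⟨ConjClasses.mk g, by rw [hφ, hg]⟩
  rw [Nat.card_eq_of_bijective φ hbij, Nat.card_eq_fintype_card, Fintype.card_option]

end Cfsg.Agent.S2331
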