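import Cfsg.Statements.S2333
import Cfsg.Agent.S0765
import Cfsg.Agent.S0766
import Cfsg.Agent.Lib.Helper18.SympTrans
import Cfsg.Agent.Lib.Helper46.SpEvenInd

set_option autoImplicit false
open Cfsg

namespace Cfsg.Agent.S2333

open Matrix

/-- The matrices of a representation as a monoid homomorphism. -/
noncomputable def repHom {G : Type*} [Group G] {k : ℕ} (ρ : Representation ℂ G (Fin k → ℂ)) :
    G →* Matrix (Fin k) (Fin k) ℂ where
  toFun := Cfsg.Agent.Lib.Helper46.repMat ρ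
  map_one' := Cfsg.Agent.Lib.Helper46.repMat_one ρ
  map_mul' := Cfsg.Agent.Lib.Helper46.repMat_mul ρ

theorem elim_single {F : Type*} [Field F] {n : ℕ} (i₀ : Fin n) :
    (Sum.elim (Pi.single i₀ (1 : F)) 0 : Fin n ⊕ Fin n → F) = Pi.single (Sum.inl i₀) 1 := by
  ext (j | j)
  · by_cases h : j = i₀
    · subst h
      simp
    · simp [h]
  · simp

/-- A representation non-trivial on a transvection is non-trivial on a root element. -/
theorem exists_rootU_ne_one {F : Type*} [Field F] [CharP F 2] (n : ℕ) (i₀ : Fin n)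
    {M : Type*} [Monoid M] (R : Matrix.symplecticGroup (Fin n) F →* M)
    (g : Matrix.symplecticGroup (Fin n) F) (w : Fin n ⊕ Fin n → F) (c : F)
    (hg : (g : Matrix (Fin n ⊕ Fin n) (Fin n ⊕ Fin n) F) = Cfsg.sympTransvection n w c)
    (hR : R g ≠ 1) :
    ∃ (v : Fin n → F) (a : F), R (Cfsg.Agent.Lib.Helper46.rootU v a) ≠ 1 := by
  classical
  have hw : w ≠ 0 := by
    intro h0
    apply hR
    have : g = 1 := by
      apply Subtype.ext
      rw [hg, h0]
      unfold Cfsg.sympTransvection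
      simp
    rw [this, map_one]
  obtain ⟨y, hy⟩ := Cfsg.Agent.Lib.Helper18.sf_nondeg_top n w hw
  have h1 : Cfsg.sympForm n F w ((Cfsg.sympForm n F w y)⁻¹ • y) = 1 := by
    rw [Cfsg.Agent.Lib.Helper18.sf_smul_right, inv_mul_cancel₀ hy]
  have h2 : Cfsg.sympForm n F (Pi.single (Sum.inl i₀) 1) (-(Pi.single (Sum.inr i₀) 1)) = 1 := by
    rw [Cfsg.Agent.Lib.Helper18.sf_neg_right, Cfsg.Agent.Lib.Helper18.sf_single_inr]
    simp
  obtain ⟨A, _, hA1, _⟩ := Cfsg.Agent.S0766.result n w ((Cfsg.sympForm n F w y)⁻¹ • y)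
    (Pi.single (Sum.inl i₀) 1) (-(Pi.single (Sum.inr i₀) 1)) h1 h2
  have hconj : A * g * A⁻¹ = Cfsg.Agent.Lib.Helper46.rootU (Pi.single i₀ 1) c := by
    apply Subtype.ext
    change (A : Matrix (Fin n ⊕ Fin n) (Fin n ⊕ Fin n) F) * g.1
      * ((A⁻¹ : Matrix.symplecticGroup (Fin n) F) : Matrix (Fin n ⊕ Fin n) (Fin n ⊕ Fin n) F) = _
    rw [Matrix.ext_iff_mulVec]
    intro x
    rw [← Matrix.mulVec_mulVec, ← Matrix.mulVec_mulVec, hg,
      Cfsg.Agent.Lib.Helper18.transv_mulVec, Matrix.mulVec_add, Matrix.mulVec_smul,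
      Cfsg.Agent.Lib.Helper18.mulVec_inv_mulVec, hA1,
      ← Cfsg.Agent.Lib.Helper18.sf_mulVec_of_mem n A.1 A.2,
      Cfsg.Agent.Lib.Helper18.mulVec_inv_mulVec, hA1, Cfsg.Agent.Lib.Helper18.sf_single_inl,
      Cfsg.Agent.Lib.Helper46.rootU_mulVec, single_dotProduct, one_mul, elim_single]
    rfl
  refine ⟨Pi.single i₀ 1, c, ?_⟩
  rw [← hconj]
  intro h3
  apply hR
  have h4 : R g = R A⁻¹ * (R (A * g * A⁻¹)) * R A := by
    rw [← map_mul, ← map_mul]
    congr 1
    group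
  rw [h4, h3, mul_one, ← map_mul, inv_mul_cancel, map_one]

/-- For a finite field F of even order q and n ≥ 2 with (n, q) ≠ (2, 2), every irreducible complex representation of the symplectic group Sp_{2n}(F) of degree at least 2 has degree at least (q^n − 1)(q^n − q)/(2(q + 1)). -/
theorem result {F : Type*} [Field F] [Fintype F] [DecidableEq F] (n : ℕ) (hn : 2 ≤ n) (heven : Even (Fintype.card F)) (hex : (n, Fintype.card F) ≠ (2, 2)) :
    (∀ (k : ℕ) (ρ : Representation ℂ (Matrix.symplecticGroup (Fin n) F) (Fin k → ℂ)), ρ.IsIrreducible → 2 ≤ k → (Fintype.card F ^ n - 1) * (Fintype.card F ^ n - Fintype.card F) / (2 * (Fintype.card F + 1)) ≤ k) := by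
  intro k ρ hirr hk
  haveI : CharP F 2 := Cfsg.Agent.Lib.Helper46.charP_two_of_even heven
  have hq1 : 1 ≤ Fintype.card F := Fintype.card_pos
  rw [Cfsg.Agent.Lib.Helper46.Nb_eq_div _ hq1 n (by omega)]
  have hP := Cfsg.Agent.Lib.Helper46.PSp_fin F n k (repHom ρ) ?_
  · rwa [Fintype.card_fin] at hP
  · obtain ⟨g, ⟨w, c, hg⟩, hρg⟩ := Cfsg.Agent.Lib.Helper46.not_closure_le_ker ρ hirr hk _
      (Cfsg.Agent.S0765.result n)
    apply exists_rootU_ne_one n ⟨0, by omega⟩ (repHom ρ) g w c hg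
    intro h1
    exact hρg ((Cfsg.Agent.Lib.Helper46.repMat_eq_one_iff ρ g).1 h1)

end Cfsg.Agent.S2333
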