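import Cfsg.Statements.S2334
import Cfsg.Agent.Lib.Helper46.SUTransv
import Cfsg.Agent.Lib.Helper46.SUOdd
import Cfsg.Agent.Lib.Helper46.SiegelWeights
import Cfsg.Agent.Lib.Helper46.HermFrob
import Cfsg.Agent.Lib.Helper46.HermChar
import Cfsg.Agent.Lib.Helper46.Heis

set_option autoImplicit false
open Cfsg

namespace Cfsg.Agent.S2334

open Cfsg.Agent.Lib.Helper46 Matrix

section odd

variable {F : Type*} [Field F] [Fintype F] [DecidableEq F] {q : ℕ}
  {hF : Fintype.card F = q ^ 2} {m n : ℕ}

/-- The basis column vectors. -/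
def colE (i : Fin m) : Matrix (Fin m) Unit F := fun k _ => if k = i then 1 else 0

omit [Fintype F] [DecidableEq F] in
theorem colE_apply (i k : Fin m) (u : Unit) : (colE i : Matrix (Fin m) Unit F) k u
    = if k = i then 1 else 0 := rfl

omit [Fintype F] [DecidableEq F] in
theorem colE_mul_hconj (φ : F →+* F) (i j : Fin m) (t y : F) :
    (t • (colE i : Matrix (Fin m) Unit F)) * hconj φ (y • (colE j : Matrix (Fin m) Unit F))
      = (t * φ y) • Matrix.single i j (1 : F) := by
  ext k l
  rw [Matrix.mul_apply]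
  simp only [Finset.univ_unique, Finset.sum_singleton, Matrix.smul_apply, hconj_apply,
    colE_apply, Matrix.single_apply, smul_eq_mul, map_mul]
  by_cases hk : k = i
  · by_cases hl : l = j
    · subst hk hl
      simp
    · subst hk
      have hl' : ¬ j = l := fun h => hl h.symm
      simp [hl, hl']
  · have hk' : ¬ i = k := fun h => hk h.symm
    simp [hk, hk']

omit [Fintype F] [DecidableEq F] in
theorem toVec_smul_single_dot (c : F) (i j : Fin m) (w : Fin m × Fin m → F) :
    toVec (c • Matrix.single i j (1 : F)) ⬝ᵥ w = c * w (i, j) := by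
  have : toVec (c • Matrix.single i j (1 : F)) = Pi.single (i, j) c := by
    rw [← toVec_single]
    congr 1
    ext a b
    simp [Matrix.single_apply]
  rw [this, single_dotProduct]

/-- Every non-zero weight space of the centre of the unipotent radical has dimension at least
`q`. -/
theorem weight_dim_ge (D : SiegelDataO hF) (e : (Fin m ⊕ Fin m) ⊕ Unit ≃ Fin n) {k : ℕ}
    (ρ : Representation ℂ ↥(Cfsg.SU n F q) (Fin k → ℂ)) (ψ : AddChar F ℂ) (hψ : ψ.IsPrimitive)
    (w : Fin m × Fin m → F) (hw0 : w ≠ 0)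
    (hw : weightProj ψ (fun b => repMat ρ (zG D e (ofVec b))) w ≠ 0) :
    q ≤ Module.finrank ℂ (LinearMap.range (Matrix.toLin'
      (weightProj ψ (fun b => repMat ρ (zG D e (ofVec b))) w))) := by
  classical
  set T : (Fin m × Fin m → F) → Matrix (Fin k) (Fin k) ℂ :=
    fun b => repMat ρ (zG D e (ofVec b)) with hT
  have hTadd : ∀ a b, T (a + b) = T a * T b := by
    intro a b
    rw [hT]
    simp only
    rw [ofVec_add, zG_add, repMat_mul]
  have hN : ((Fintype.card (Fin m × Fin m → F) : ℕ) : ℂ) ≠ 0 :=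
    Nat.cast_ne_zero.2 Fintype.card_ne_zero
  set P := weightProj ψ T w with hP
  have hPP : P * P = P := weightProj_idem' hψ hTadd hN w
  have hδ0 : D.δ ≠ 0 := by
    intro h
    have h1 := D.hε
    rw [h] at h1
    rcases mul_eq_zero.1 h1 with h2 | h2
    · apply D.hdet
      rw [h2]
      ring
    · apply D.hdet
      have : D.μ - 1 = 0 := by linear_combination -h2
      rw [this, mul_zero]
  obtain ⟨i, j, hij⟩ : ∃ i j, w (i, j) ≠ 0 := by
    by_contra hcon
    push Not at hcon
    apply hw0
    funext p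
    exact hcon p.1 p.2
  have hcomm : ∀ a : Matrix (Fin m) Unit F, repMat ρ (xG D e a) * P = P * repMat ρ (xG D e a) := by
    intro a
    apply weightProj_comm'
    intro b
    rw [hT]
    simp only
    rw [← repMat_mul, ← repMat_mul, xG_mul_zG]
  have hPT : ∀ M : Matrix (Fin m) (Fin m) F,
      P * repMat ρ (zG D e M) = ψ (toVec M ⬝ᵥ w) • P := by
    intro M
    have := weightProj_mul_T' (ψ := ψ) hTadd (toVec M) w
    rw [hT] at this
    simp only at this
    rw [ofVec_toVec] at this
    exact this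
  have hψ0 : ∀ x : F, ψ x ≠ 0 := by
    intro x h0
    have := AddChar.map_add_eq_mul ψ x (-x)
    rw [add_neg_cancel, AddChar.map_zero_eq_one, h0, zero_mul] at this
    exact one_ne_zero this
  have hcard := card_le_sq_of_heisenberg (A := F) P hPP hw
    (fun t => P * repMat ρ (xG D e (t • colE i))) (by
      rw [zero_smul]
      unfold xG
      rw [qG_zero_zero, repMat_one, Matrix.mul_one])
    (fun t => by
      rw [← Matrix.mul_assoc, hPP])
    (fun t => by
      rw [Matrix.mul_assoc, hcomm, ← Matrix.mul_assoc, hPP])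
    (fun t t' => ψ (toVec ((D.τ * D.δ) • ((t' • colE i)
      * hconj (frobRing hF) (t • colE i))) ⬝ᵥ w))
    (fun t t' => hψ0 _)
    (fun t t' => by
      calc P * repMat ρ (xG D e (t • colE i)) * (P * repMat ρ (xG D e (t' • colE i)))
          = P * (repMat ρ (xG D e (t • colE i)) * P) * repMat ρ (xG D e (t' • colE i)) := by
            simp only [Matrix.mul_assoc]
        _ = P * P * (repMat ρ (xG D e (t • colE i)) * repMat ρ (xG D e (t' • colE i))) := by
            rw [hcomm]
            simp only [Matrix.mul_assoc]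
        _ = P * repMat ρ (zG D e ((D.τ * D.δ) • ((t' • colE i)
              * hconj (frobRing hF) (t • colE i))))
            * repMat ρ (xG D e ((t + t') • colE i)) := by
            rw [hPP, ← repMat_mul, xG_mul_xG, repMat_mul, ← add_smul, Matrix.mul_assoc]
            rfl
        _ = _ := by rw [hPT, Matrix.smul_mul])
    (fun t ht => by
      have hne : D.δ * t * w (i, j) ≠ 0 := mul_ne_zero (mul_ne_zero hδ0 ht) hij
      obtain ⟨z, hz⟩ := AddChar.ne_one_iff.1 (hψ hne)
      rw [AddChar.mulShift_apply] at hz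
      set a := t • (colE i : Matrix (Fin m) Unit F) with ha
      set a' := (frobRing hF z) • (colE j : Matrix (Fin m) Unit F) with ha'
      have hpair : toVec (D.δ • (a * hconj (frobRing hF) a')) ⬝ᵥ w
          = D.δ * t * w (i, j) * z := by
        rw [ha, ha', colE_mul_hconj, frobRing_frobRing, smul_smul, toVec_smul_single_dot]
        ring
      have h1 : repMat ρ (xG D e a') * (P * repMat ρ (xG D e a))
          = ψ (D.δ * t * w (i, j) * z) • (P * repMat ρ (xG D e a) * repMat ρ (xG D e a')) := by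
        rw [← Matrix.mul_assoc, hcomm, Matrix.mul_assoc, ← repMat_mul, xG_comm, repMat_mul,
          ← Matrix.mul_assoc, hPT, hpair, Matrix.smul_mul, repMat_mul, Matrix.mul_assoc]
      have h2 : P * repMat ρ (xG D e a) = ψ (D.δ * t * w (i, j) * z) •
          (repMat ρ (xG D e a')⁻¹ * (P * repMat ρ (xG D e a) * repMat ρ (xG D e a'))) := by
        rw [← Matrix.mul_smul, ← h1, ← Matrix.mul_assoc, repMat_inv_mul, Matrix.one_mul]
      have h3 := congrArg Matrix.trace h2
      have h4 : (repMat ρ (xG D e a')⁻¹ * (P * repMat ρ (xG D e a) * repMat ρ (xG D e a'))).trace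
          = (P * repMat ρ (xG D e a)).trace := by
        rw [Matrix.trace_mul_comm, Matrix.mul_assoc, repMat_mul_inv, Matrix.mul_one]
      rw [Matrix.trace_smul, h4, smul_eq_mul] at h3
      by_contra hne'
      apply hz
      apply mul_right_cancel₀ hne'
      rw [one_mul]
      exact h3.symm)
  rw [hF] at hcard
  exact (Nat.pow_le_pow_iff_left (by norm_num)).1 hcard

theorem main (D : SiegelDataO hF) (e : (Fin m ⊕ Fin m) ⊕ Unit ≃ Fin n) (hm : 1 ≤ m)
    (hn : 3 ≤ n) (h32 : ¬ (n = 3 ∧ q = 2)) (k : ℕ)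
    (ρ : Representation ℂ ↥(Cfsg.SU n F q) (Fin k → ℂ))
    (hirr : ρ.IsIrreducible) (hk : 2 ≤ k) : hermCount q m * q ≤ k := by
  classical
  have H := hermField_frobRing hF
  obtain ⟨ψ, hψ, hψφ, hψK⟩ := exists_invariant_char (frobRing hF) (frobRing_frobRing hF)
    (exists_trace_ne_zero hF)
  set T : (Fin m × Fin m → F) → Matrix (Fin k) (Fin k) ℂ :=
    fun b => repMat ρ (zG D e (ofVec b)) with hT
  have hT0 : T 0 = 1 := by
    rw [hT]
    simp only
    rw [ofVec_zero, zG_eq_one D e 0 (by rw [zero_add, hconj_zero]), repMat_one]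
  have hTadd : ∀ a b, T (a + b) = T a * T b := by
    intro a b
    rw [hT]
    simp only
    rw [ofVec_add, zG_add, repMat_mul]
  have hker : ∀ M : Matrix (Fin m) (Fin m) F, M + hconj (frobRing hF) M = 0 → T (toVec M) = 1 := by
    intro M hM
    rw [hT]
    simp only
    rw [ofVec_toVec, zG_eq_one D e M hM, repMat_one]
  have hN : ((Fintype.card (Fin m × Fin m → F) : ℕ) : ℂ) ≠ 0 :=
    Nat.cast_ne_zero.2 Fintype.card_ne_zero
  have hnontriv : ∃ b, T b ≠ 1 := by
    obtain ⟨z, hz⟩ := exists_trace_ne_zero hF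
    refine ⟨toVec (Matrix.single ⟨0, by omega⟩ ⟨0, by omega⟩ z), ?_⟩
    rw [hT]
    simp only
    rw [ofVec_toVec]
    intro h
    rw [repMat_eq_one_iff] at h
    refine rho_transvection_ne_one hF n hn h32 ρ hirr hk _ ?_ h
    exact isTransvection_zG D e _ z hz
  have hlevi : ∀ A : Matrix (Fin m) (Fin m) F, A.det ≠ 0 →
      ∃ g g' : Matrix (Fin k) (Fin k) ℂ, g' * g = 1 ∧
        ∀ M : Matrix (Fin m) (Fin m) F,
          g * T (toVec M) * g' = T (toVec (A * M * hconj (frobRing hF) A)) := by
    intro A hA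
    have hAA' : A * A⁻¹ = 1 := Matrix.mul_nonsing_inv A (isUnit_iff_ne_zero.2 hA)
    refine ⟨repMat ρ (lGo D e A A⁻¹ hAA'), repMat ρ (lGo D e A⁻¹ A (mul_eq_one_comm.1 hAA')),
      ?_, ?_⟩
    · rw [← repMat_mul, lGo_mul_lGo D e A⁻¹ A (mul_eq_one_comm.1 hAA'), repMat_one]
    · intro M
      rw [hT]
      simp only
      rw [ofVec_toVec, ofVec_toVec, ← repMat_mul, ← repMat_mul, lGo_mul_zG]
  obtain ⟨Ω, hΩ, hΩw⟩ := exists_weight_set_GL H hψ hψφ hψK hTadd hker hm hT0 hnontriv hlevi
  have hsum : (k : ℂ) = ∑ w : Fin m × Fin m → F,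
      ((Module.finrank ℂ (LinearMap.range (Matrix.toLin' (weightProj ψ T w))) : ℕ) : ℂ) := by
    have h1 := congrArg Matrix.trace (sum_weightProj hψ hT0 hN (T := T))
    rw [Matrix.trace_sum, Matrix.trace_one, Fintype.card_fin] at h1
    rw [← h1]
    apply Finset.sum_congr rfl
    intro w _
    exact trace_eq_finrank_of_idem _ (weightProj_idem' hψ hTadd hN w)
  have hsumN : k = ∑ w : Fin m × Fin m → F,
      Module.finrank ℂ (LinearMap.range (Matrix.toLin' (weightProj ψ T w))) := by
    exact_mod_cast hsum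
  rw [hsumN]
  calc hermCount q m * q ≤ Ω.card * q := Nat.mul_le_mul_right _ hΩ
    _ = ∑ w ∈ Ω, q := by rw [Finset.sum_const, smul_eq_mul]
    _ ≤ ∑ w ∈ Ω, Module.finrank ℂ (LinearMap.range (Matrix.toLin' (weightProj ψ T w))) :=
        Finset.sum_le_sum (fun w hw => weight_dim_ge D e ρ ψ hψ w (hΩw w hw).1 (hΩw w hw).2)
    _ ≤ ∑ w : Fin m × Fin m → F,
          Module.finrank ℂ (LinearMap.range (Matrix.toLin' (weightProj ψ T w))) :=
        Finset.sum_le_sum_of_subset (Finset.subset_univ _)

end odd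

/-- For odd n ≥ 3 and a finite field F with q² elements, (n, q) ≠ (3, 2), every irreducible complex representation of the special unitary group SU_n(q) (the determinant-one isometries of the standard Hermitian form over F) of degree at least 2 has degree at least (q^n − q)/(q + 1). -/
theorem result {F : Type*} [Field F] [Fintype F] [DecidableEq F] (n q : ℕ) (hn : 3 ≤ n) (hodd : Odd n) (hF : Fintype.card F = q ^ 2) (hex : (n, q) ≠ (3, 2)) :
    (∀ (k : ℕ) (ρ : Representation ℂ (Cfsg.SU n F q) (Fin k → ℂ)), ρ.IsIrreducible → 2 ≤ k → (q ^ n - q) / (q + 1) ≤ k) := by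
  intro k ρ hirr hk
  obtain ⟨m, rfl⟩ := hodd
  obtain ⟨D⟩ := exists_siegelDataO hF
  have hq := one_lt_of_card hF
  have e : (Fin m ⊕ Fin m) ⊕ Unit ≃ Fin (2 * m + 1) := Fintype.equivOfCardEq (by
    simp
    ring)
  have h1 := main D e (by omega) hn (by
    intro h
    apply hex
    rw [h.1, h.2]) k ρ hirr hk
  have h2 := hermCount_mul q m (by omega)
  have h3 : q ^ (2 * m + 1) - q = (q + 1) * (hermCount q m * q) := by
    rw [pow_succ, ← h2]
    have : ((q + 1) * hermCount q m + 1) * q = (q + 1) * (hermCount q m * q) + q := by ring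
    rw [this, Nat.add_sub_cancel]
  rw [h3, Nat.mul_div_cancel_left _ (by omega)]
  exact h1

end Cfsg.Agent.S2334
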