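import Cfsg.Statements.S2335
import Cfsg.Statements.S2335
import Cfsg.Agent.Lib.Helper46.SUTransv
import Cfsg.Agent.Lib.Helper46.SiegelWeights
import Cfsg.Agent.Lib.Helper46.HermFrob
import Cfsg.Agent.Lib.Helper46.HermChar

set_option autoImplicit false
open Cfsg

namespace Cfsg.Agent.S2335

open Cfsg.Agent.Lib.Helper46 Matrix

section even

variable {F : Type*} [Field F] [Fintype F] [DecidableEq F] {q : ℕ}
  {hF : Fintype.card F = q ^ 2} {m : ℕ}

/-- The unipotent element of a rank one Hermitian matrix is a transvection. -/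
theorem isTransvection_uG (D : SiegelData hF) (i₀ : Fin m) (z : F) (hz : z + frobRing hF z ≠ 0) :
    Cfsg.IsTransvection (((uG D (Matrix.single i₀ i₀ z) : ↥(Cfsg.SU (m + m) F q)) :
      Matrix.SpecialLinearGroup (Fin (m + m)) F) : Matrix (Fin (m + m)) (Fin (m + m)) F) := by
  unfold uG
  rw [suOf_coe]
  have h1 : uB (Matrix.single i₀ i₀ z + hconj (frobRing hF) (Matrix.single i₀ i₀ z))
      = 1 + vecMulVec (Pi.single (Sum.inl i₀) (z + frobRing hF z))
        (Pi.single (Sum.inr i₀) (1 : F)) := by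
    unfold uB
    ext (a | a) (b | b)
    · simp [Matrix.vecMulVec_apply, Matrix.one_apply]
    · simp only [Matrix.fromBlocks_apply₁₂, Matrix.add_apply, hconj_apply, Matrix.single_apply,
        Matrix.vecMulVec_apply, Pi.single_apply, Matrix.one_apply, Sum.inl.injEq, Sum.inr.injEq,
        reduceCtorEq, if_false, zero_add]
      by_cases h : i₀ = a ∧ i₀ = b
      · rw [if_pos h, if_pos ⟨h.2, h.1⟩, if_pos h.1.symm, if_pos h.2.symm, mul_one]
      · rw [if_neg h, if_neg (fun h' => h ⟨h'.2, h'.1⟩), map_zero, add_zero]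
        by_cases ha : a = i₀
        · rw [if_pos ha, if_neg (fun hb => h ⟨ha.symm, hb.symm⟩), mul_zero]
        · rw [if_neg ha, zero_mul]
    · simp [Matrix.vecMulVec_apply, Matrix.one_apply]
    · simp [Matrix.vecMulVec_apply, Matrix.one_apply]
  rw [h1]
  apply isTransvection_conjMat _ _ _ D.mul_inv
  · rw [Matrix.vecMulVec_mul_vecMulVec]
    have : (Pi.single (Sum.inr i₀) (1 : F) : Fin m ⊕ Fin m → F)
        ⬝ᵥ (Pi.single (Sum.inl i₀) (z + frobRing hF z)) = 0 := by
      rw [single_dotProduct, Pi.single_eq_of_ne (by simp), mul_zero]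
    rw [this, zero_smul]
    ext i j
    simp [Matrix.vecMulVec_apply]
  · apply rank_vecMulVec_eq_one
    · intro h
      have := congrFun h (Sum.inl i₀)
      rw [Pi.single_eq_same] at this
      exact hz this
    · intro h
      have := congrFun h (Sum.inr i₀)
      rw [Pi.single_eq_same] at this
      exact one_ne_zero this

theorem main (D : SiegelData hF) (hm : 2 ≤ m) (k : ℕ) (ρ : Representation ℂ ↥(Cfsg.SU (m + m) F q) (Fin k → ℂ))
    (hirr : ρ.IsIrreducible) (hk : 2 ≤ k) : hermCount q m ≤ k := by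
  classical
  have H := hermField_frobRing hF
  obtain ⟨ψ, hψ, hψφ, hψK⟩ := exists_invariant_char (frobRing hF) (frobRing_frobRing hF)
    (exists_trace_ne_zero hF)
  set T : (Fin m × Fin m → F) → Matrix (Fin k) (Fin k) ℂ := fun b => repMat ρ (uG D (ofVec b))
    with hT
  have hT0 : T 0 = 1 := by
    rw [hT]
    simp only
    rw [ofVec_zero, uG_eq_one D 0 (by rw [zero_add, hconj_zero]), repMat_one]
  have hTadd : ∀ a b, T (a + b) = T a * T b := by
    intro a b
    rw [hT]
    simp only
    rw [ofVec_add, uG_add, repMat_mul]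
  have hker : ∀ M : Matrix (Fin m) (Fin m) F, M + hconj (frobRing hF) M = 0 → T (toVec M) = 1 := by
    intro M hM
    rw [hT]
    simp only
    rw [ofVec_toVec, uG_eq_one D M hM, repMat_one]
  have hN : ((Fintype.card (Fin m × Fin m → F) : ℕ) : ℂ) ≠ 0 :=
    Nat.cast_ne_zero.2 Fintype.card_ne_zero
  have hnontriv : ∃ b, T b ≠ 1 := by
    obtain ⟨z, hz⟩ := exists_trace_ne_zero hF
    refine ⟨toVec (Matrix.single ⟨0, by omega⟩ ⟨0, by omega⟩ z), ?_⟩
    rw [hT]
    simp only
    rw [ofVec_toVec]
    intro h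
    rw [repMat_eq_one_iff] at h
    refine rho_transvection_ne_one hF (m + m) (by omega) (by omega) ρ hirr hk _ ?_ h
    exact isTransvection_uG D _ z hz
  have hlevi : ∀ A : Matrix (Fin m) (Fin m) F, A.det = 1 →
      ∃ g g' : Matrix (Fin k) (Fin k) ℂ, g' * g = 1 ∧
        ∀ M : Matrix (Fin m) (Fin m) F,
          g * T (toVec M) * g' = T (toVec (A * M * hconj (frobRing hF) A)) := by
    intro A hA
    let As : Matrix.SpecialLinearGroup (Fin m) F := ⟨A, hA⟩
    refine ⟨repMat ρ (lG D As), repMat ρ (lG D As⁻¹), ?_, ?_⟩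
    · rw [← repMat_mul]
      have := lG_mul_inv D As⁻¹
      rw [inv_inv] at this
      rw [this, repMat_one]
    · intro M
      rw [hT]
      simp only
      rw [ofVec_toVec, ofVec_toVec, ← repMat_mul, ← repMat_mul, lG_mul_uG]
  obtain ⟨Ω, hΩ, hΩw⟩ := exists_weight_set_SL H hψ hψφ hψK hTadd hker hm hT0 hnontriv hlevi
  exact le_trans hΩ (card_weights_le hψ hTadd hN Ω (fun w hw => (hΩw w hw).2))

end even

/-- For even n ≥ 4 and a finite field F with q² elements, (n, q) not (4, 2) or (4, 3), every irreducible complex representation of the special unitary group SU_n(q) (the determinant-one isometries of the standard Hermitian form over F) of degree at least 2 has degree at least (q^n − 1)/(q + 1). -/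
theorem result {F : Type*} [Field F] [Fintype F] [DecidableEq F] (n q : ℕ) (hn : 4 ≤ n) (heven : Even n) (hF : Fintype.card F = q ^ 2) (hex : (n, q) ≠ (4, 2) ∧ (n, q) ≠ (4, 3)) :
    (∀ (k : ℕ) (ρ : Representation ℂ (Cfsg.SU n F q) (Fin k → ℂ)), ρ.IsIrreducible → 2 ≤ k → (q ^ n - 1) / (q + 1) ≤ k) := by
  intro k ρ hirr hk
  obtain ⟨m, rfl⟩ := heven
  obtain ⟨D⟩ := exists_siegelData hF
  have hq := one_lt_of_card hF
  have h1 := main D (by omega) k ρ hirr hk
  rw [← two_mul, hermCount_eq_div q m (by omega)]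
  exact h1

end Cfsg.Agent.S2335
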