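import Cfsg.Statements.S2337
import Cfsg.Agent.S1162
import Cfsg.Agent.Lib.Helper46.Weights
import Cfsg.Agent.Lib.Helper46.SzElems
import Cfsg.Agent.Lib.Helper46.TraceChar
import Cfsg.Agent.Lib.Helper46.Corner

set_option autoImplicit false
open Cfsg

namespace Cfsg.Agent.S2337

open Cfsg.Agent.Lib.Helper46 Matrix

/-- The arithmetic data of a Suzuki field. -/
structure SzData (F : Type*) [Field F] (e : ℕ) : Prop where
  he : e ≠ 0
  h2 : (2 : F) = 0
  hadd : ∀ x y : F, (x + y) ^ e = x ^ e + y ^ e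
  hsq : ∀ x : F, (x ^ e) ^ e = x ^ 2

section elems

variable {F : Type*} [Field F] {e : ℕ} (D : SzData F e)

include D in
theorem SzData.add_self (x : F) : x + x = 0 := by linear_combination x * D.h2

/-- The unipotent elements as invertible matrices. -/
def sGL (a b : F) : Matrix.GeneralLinearGroup (Fin 4) F :=
  ⟨szS e a b, szS e a (b + a ^ e * a), by
    rw [szS_mul e D.h2 D.hadd D.hsq, D.add_self,
      show b + (b + a ^ e * a) + a ^ e * a = 0 by linear_combination (b + a ^ e * a) * D.h2,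
      szS_zero e D.he], by
    rw [szS_mul e D.h2 D.hadd D.hsq, D.add_self,
      show b + a ^ e * a + b + a ^ e * a = 0 by linear_combination (b + a ^ e * a) * D.h2,
      szS_zero e D.he]⟩

/-- The unipotent elements of the Suzuki group. -/
def sG (a b : F) : ↥(Cfsg.Lie.Sz F e) :=
  ⟨sGL D a b, szS_mem e D.he D.h2 D.hadd D.hsq a b _ rfl⟩

theorem sG_mul (a b c d : F) : sG D a b * sG D c d = sG D (a + c) (b + d + a ^ e * c) := by
  apply Subtype.ext
  apply Units.ext
  exact szS_mul e D.h2 D.hadd D.hsq a b c d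

theorem sG_zero : sG D 0 0 = 1 := by
  apply Subtype.ext
  apply Units.ext
  exact szS_zero e D.he

theorem sG_zero_mul (b x y : F) : sG D 0 b * sG D x y = sG D x (b + y) := by
  rw [sG_mul, zero_pow D.he, zero_mul, add_zero, zero_add]

theorem sG_mul_zero (x y b : F) : sG D x y * sG D 0 b = sG D x (y + b) := by
  rw [sG_mul, mul_zero, add_zero, add_zero]

theorem sG_ne_one : sG D 0 1 ≠ 1 := by
  intro h
  have h1 := congrArg (fun g : ↥(Cfsg.Lie.Sz F e) =>
    ((g : Matrix.GeneralLinearGroup (Fin 4) F) : Matrix (Fin 4) (Fin 4) F) 2 0) h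
  simp [sG, sGL, szS] at h1

/-- The torus elements as invertible matrices. -/
def hGL (κ : Fˣ) : Matrix.GeneralLinearGroup (Fin 4) F :=
  ⟨szH e (κ : F), szH e ((κ : F)⁻¹), szH_mul_inv e _ κ.ne_zero, by
    have := szH_mul_inv e ((κ : F)⁻¹) (inv_ne_zero κ.ne_zero)
    rwa [inv_inv] at this⟩

/-- The torus elements of the Suzuki group. -/
def hG (κ : Fˣ) : ↥(Cfsg.Lie.Sz F e) :=
  ⟨hGL κ, szH_mem e D.he D.hsq _ κ.ne_zero _ rfl⟩

theorem hG_mul_sG (κ : Fˣ) (a b : F) :
    hG D κ * sG D a b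
      = sG D (a * ((κ : F) ^ e * ((κ : F) ^ 2)⁻¹)) (b * ((κ : F) ^ e)⁻¹) * hG D κ := by
  apply Subtype.ext
  apply Units.ext
  exact szH_mul_szS e D.hsq _ κ.ne_zero a b

theorem hG_conj_sG (κ : Fˣ) (b : F) :
    hG D κ * sG D 0 b * (hG D κ)⁻¹ = sG D 0 (b * ((κ : F) ^ e)⁻¹) := by
  rw [hG_mul_sG, zero_mul, mul_assoc, mul_inv_cancel, mul_one]

end elems


section weightsGeneral

variable {F : Type*} [Field F] [Fintype F] [DecidableEq F] {K : Type*} [Field K]
variable {ι : Type*} [Fintype ι] [DecidableEq ι] {d : ℕ}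
variable {ψ : AddChar F K} (hψ : ψ.IsPrimitive) {T : (ι → F) → Matrix (Fin d) (Fin d) K}
  (hT0 : T 0 = 1) (hTadd : ∀ a b, T (a + b) = T a * T b)
  (hN : (Fintype.card (ι → F) : K) ≠ 0)

include hψ hT0 hTadd hN in
/-- If the group does not act trivially, some non-zero weight occurs. -/
theorem exists_weight_ne_zero (b : ι → F) (hb : T b ≠ 1) :
    ∃ w : ι → F, w ≠ 0 ∧ weightProj ψ T w ≠ 0 := by
  classical
  by_contra hcon
  push Not at hcon
  have h1 : weightProj ψ T 0 = 1 := by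
    rw [← sum_weightProj hψ hT0 hN (T := T)]
    symm
    apply Finset.sum_eq_single
    · intro w _ hw
      exact hcon w hw
    · intro h
      exact absurd (Finset.mem_univ _) h
  apply hb
  have h2 := T_mul_weightProj (ψ := ψ) hTadd b 0
  rw [h1, Matrix.mul_one, dotProduct_zero, AddChar.map_zero_eq_one, one_smul] at h2
  exact h2

/-- Matrices commuting with the group commute with the weight projectors. -/
theorem weightProj_comm (A : Matrix (Fin d) (Fin d) K) (hA : ∀ a, A * T a = T a * A)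
    (w : ι → F) : A * weightProj ψ T w = weightProj ψ T w * A := by
  unfold weightProj
  rw [Matrix.mul_smul, Matrix.smul_mul, Finset.mul_sum, Finset.sum_mul]
  congr 1
  apply Finset.sum_congr rfl
  intro a _
  rw [Matrix.mul_smul, Matrix.smul_mul, hA]

include hψ hTadd hN in
theorem weightProj_idem (w : ι → F) : weightProj ψ T w * weightProj ψ T w = weightProj ψ T w := by
  rw [weightProj_mul_weightProj hψ hTadd hN, if_pos rfl]

include hTadd in
theorem weightProj_mul_T (b w : ι → F) :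
    weightProj ψ T w * T b = ψ (b ⬝ᵥ w) • weightProj ψ T w := by
  rw [← T_mul_weightProj (ψ := ψ) hTadd b w]
  symm
  apply weightProj_comm
  intro a
  rw [← hTadd, ← hTadd, add_comm]

end weightsGeneral


section rep

variable {F : Type*} [Field F] [Fintype F] [DecidableEq F] {e : ℕ} (D : SzData F e) {k : ℕ}
  (ρ : Representation ℂ ↥(Cfsg.Lie.Sz F e) (Fin k → ℂ))

/-- The matrices of the representation. -/
noncomputable def R (g : ↥(Cfsg.Lie.Sz F e)) : Matrix (Fin k) (Fin k) ℂ :=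
  LinearMap.toMatrix' (ρ g)

theorem R_mul (g h : ↥(Cfsg.Lie.Sz F e)) : R ρ (g * h) = R ρ g * R ρ h := by
  unfold R
  rw [map_mul, LinearMap.toMatrix'_mul]

theorem R_one : R ρ 1 = 1 := by
  unfold R
  rw [map_one, LinearMap.toMatrix'_one]

theorem R_inv_mul (g : ↥(Cfsg.Lie.Sz F e)) : R ρ g⁻¹ * R ρ g = 1 := by
  rw [← R_mul, inv_mul_cancel, R_one]

theorem R_mul_inv (g : ↥(Cfsg.Lie.Sz F e)) : R ρ g * R ρ g⁻¹ = 1 := by
  rw [← R_mul, mul_inv_cancel, R_one]

/-- The action of the central unipotent subgroup. -/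
noncomputable def Tz (v : Fin 1 → F) : Matrix (Fin k) (Fin k) ℂ := R ρ (sG D 0 (v 0))

theorem Tz_zero : Tz D ρ 0 = 1 := by
  unfold Tz
  rw [Pi.zero_apply, sG_zero, R_one]

theorem Tz_add (a b : Fin 1 → F) : Tz D ρ (a + b) = Tz D ρ a * Tz D ρ b := by
  unfold Tz
  rw [← R_mul, sG_zero_mul, Pi.add_apply]

include D in
theorem exists_pow_e_eq (c : F) : ∃ x : F, x ^ e = c := by
  haveI : CharP F 2 := CharTwo.of_one_ne_zero_of_two_eq_zero one_ne_zero D.h2
  have hsurj : Function.Surjective (frobenius F 2) :=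
    Finite.injective_iff_surjective.1 (frobenius_inj F 2)
  obtain ⟨y, hy⟩ := hsurj c
  refine ⟨y ^ e, ?_⟩
  rw [D.hsq, ← hy, frobenius_def]

theorem fin_one_ne_zero {w : Fin 1 → F} (hw : w ≠ 0) : w 0 ≠ 0 := by
  intro h
  apply hw
  funext i
  rw [Subsingleton.elim i 0, h]
  rfl

/-- The torus moves the weights. -/
theorem weight_torus (ψ : AddChar F ℂ) (κ : Fˣ) (w : Fin 1 → F)
    (hw : weightProj ψ (Tz D ρ) w ≠ 0) :
    weightProj ψ (Tz D ρ) (((κ : F) ^ e) • w) ≠ 0 := by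
  have hκe : (κ : F) ^ e ≠ 0 := pow_ne_zero _ κ.ne_zero
  refine weightProj_ne_zero_of_conj (ψ := ψ) (R ρ (hG D κ)) (R ρ (hG D κ)⁻¹) (R_inv_mul ρ _)
    (MulAction.toPerm ((κ ^ e)⁻¹ : Fˣ)) (fun w => ((κ : F) ^ e) • w) ?_ ?_ w hw
  · intro a w
    rw [MulAction.toPerm_apply, Units.smul_def, smul_dotProduct, dotProduct_smul, smul_smul]
    push_cast
    rw [inv_mul_cancel₀ hκe, one_smul]
  · intro a
    unfold Tz
    rw [← R_mul, ← R_mul, hG_conj_sG, MulAction.toPerm_apply, Units.smul_def, Pi.smul_apply]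
    push_cast
    rw [smul_eq_mul, mul_comm]

end rep


section dim

variable {F : Type*} [Field F] [Fintype F] [DecidableEq F] {e : ℕ} (D : SzData F e) {k : ℕ}
  (ρ : Representation ℂ ↥(Cfsg.Lie.Sz F e) (Fin k → ℂ))
  (ψ : AddChar F ℂ) (w : Fin 1 → F)

theorem card_fun_ne_zero : ((Fintype.card (Fin 1 → F) : ℕ) : ℂ) ≠ 0 :=
  Nat.cast_ne_zero.2 Fintype.card_ne_zero

/-- The weight projector. -/
noncomputable def PW : Matrix (Fin k) (Fin k) ℂ := weightProj ψ (Tz D ρ) w

/-- The compressed unipotent elements. -/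
noncomputable def XW (a : F) : Matrix (Fin k) (Fin k) ℂ := PW D ρ ψ w * R ρ (sG D a 0)

theorem PW_idem (hψ : ψ.IsPrimitive) : PW D ρ ψ w * PW D ρ ψ w = PW D ρ ψ w :=
  weightProj_idem hψ (Tz_add D ρ) card_fun_ne_zero w

theorem PW_comm (a b : F) : R ρ (sG D a b) * PW D ρ ψ w = PW D ρ ψ w * R ρ (sG D a b) := by
  unfold PW
  apply weightProj_comm
  intro v
  unfold Tz
  rw [← R_mul, ← R_mul, sG_mul_zero, sG_zero_mul, add_comm]

theorem PW_mul_central (c : F) :
    PW D ρ ψ w * R ρ (sG D 0 c) = ψ (c * w 0) • PW D ρ ψ w := by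
  have h := weightProj_mul_T (ψ := ψ) (T := Tz D ρ) (Tz_add D ρ) (fun _ => c) w
  have h2 : (fun _ : Fin 1 => c) ⬝ᵥ w = c * w 0 := by simp [dotProduct]
  rw [h2] at h
  exact h

theorem XW_zero : XW D ρ ψ w 0 = PW D ρ ψ w := by
  unfold XW
  rw [sG_zero, R_one, Matrix.mul_one]

theorem PW_mul_XW (hψ : ψ.IsPrimitive) (a : F) : PW D ρ ψ w * XW D ρ ψ w a = XW D ρ ψ w a := by
  unfold XW
  rw [← Matrix.mul_assoc, PW_idem D ρ ψ w hψ]

theorem XW_mul_PW (hψ : ψ.IsPrimitive) (a : F) : XW D ρ ψ w a * PW D ρ ψ w = XW D ρ ψ w a := by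
  unfold XW
  rw [Matrix.mul_assoc, PW_comm, ← Matrix.mul_assoc, PW_idem D ρ ψ w hψ]

theorem XW_mul_XW (hψ : ψ.IsPrimitive) (a a' : F) :
    XW D ρ ψ w a * XW D ρ ψ w a' = ψ (a ^ e * a' * w 0) • XW D ρ ψ w (a + a') := by
  have h1 : sG D a 0 * sG D a' 0 = sG D 0 (a ^ e * a') * sG D (a + a') 0 := by
    rw [sG_mul, sG_zero_mul, add_zero, add_zero, zero_add]
  have h2 : XW D ρ ψ w a * XW D ρ ψ w a' = XW D ρ ψ w a * R ρ (sG D a' 0) := by
    conv_lhs => rw [show XW D ρ ψ w a' = PW D ρ ψ w * R ρ (sG D a' 0) from rfl]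
    rw [← Matrix.mul_assoc, XW_mul_PW D ρ ψ w hψ]
  rw [h2]
  unfold XW
  rw [Matrix.mul_assoc, ← R_mul, h1, R_mul, ← Matrix.mul_assoc, PW_mul_central, Matrix.smul_mul]

theorem R_mul_XW (a a' : F) :
    R ρ (sG D a' 0) * XW D ρ ψ w a
      = ψ ((a' ^ e * a + a ^ e * a') * w 0) • (XW D ρ ψ w a * R ρ (sG D a' 0)) := by
  unfold XW
  have h1 : sG D a' 0 * sG D a 0
      = sG D 0 (a' ^ e * a + a ^ e * a') * (sG D a 0 * sG D a' 0) := by
    rw [sG_mul, sG_mul, sG_zero_mul]
    congr 1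
    · exact add_comm _ _
    · linear_combination (-(a ^ e * a')) * D.h2
  rw [← Matrix.mul_assoc, PW_comm, Matrix.mul_assoc, ← R_mul, h1, R_mul, ← Matrix.mul_assoc,
    PW_mul_central, Matrix.smul_mul, R_mul, Matrix.mul_assoc]


theorem trace_XW_eq_zero (hψ : ψ.IsPrimitive) (hψe : ∀ x : F, ψ (x ^ e) = ψ x) (hw : w ≠ 0)
    (a : F) (ha : a ≠ 0) (ha' : a ≠ w 0 * (w 0 ^ e)⁻¹) : (XW D ρ ψ w a).trace = 0 := by
  have hw0 : w 0 ≠ 0 := fin_one_ne_zero hw
  have hw0e : w 0 ^ e ≠ 0 := pow_ne_zero _ hw0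
  have ht0 : a * w 0 + a ^ 2 * w 0 ^ e ≠ 0 := by
    intro h
    have h1 : a * w 0 ^ e * (w 0 * (w 0 ^ e)⁻¹ + a) = 0 := by
      rw [← h]
      field_simp
    rcases mul_eq_zero.1 h1 with h2 | h2
    · rcases mul_eq_zero.1 h2 with h3 | h3
      · exact ha h3
      · exact hw0e h3
    · apply ha'
      have h3 := D.add_self a
      linear_combination h3 - h2
  obtain ⟨y, hy⟩ := AddChar.ne_one_iff.1 (hψ ht0)
  rw [AddChar.mulShift_apply] at hy
  obtain ⟨a', ha'e⟩ := exists_pow_e_eq D y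
  have hc : ψ ((a' ^ e * a + a ^ e * a') * w 0) = ψ ((a * w 0 + a ^ 2 * w 0 ^ e) * y) := by
    rw [add_mul, AddChar.map_add_eq_mul, ← hψe (a ^ e * a' * w 0), mul_pow, mul_pow, D.hsq,
      ← AddChar.map_add_eq_mul, ha'e]
    congr 1
    ring
  have h := R_mul_XW D ρ ψ w a a'
  rw [hc] at h
  have h2 : XW D ρ ψ w a = ψ ((a * w 0 + a ^ 2 * w 0 ^ e) * y) •
      (R ρ (sG D a' 0)⁻¹ * (XW D ρ ψ w a * R ρ (sG D a' 0))) := by
    rw [← Matrix.mul_smul, ← h, ← Matrix.mul_assoc, R_inv_mul, Matrix.one_mul]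
  have h3 := congrArg Matrix.trace h2
  rw [Matrix.trace_smul, Matrix.trace_mul_comm, Matrix.mul_assoc, R_mul_inv, Matrix.mul_one,
    smul_eq_mul] at h3
  by_contra hne
  apply hy
  apply mul_right_cancel₀ hne
  rw [one_mul]
  exact h3.symm

theorem linearIndependent_XW (hψ : ψ.IsPrimitive) (hψe : ∀ x : F, ψ (x ^ e) = ψ x) (hw : w ≠ 0)
    (hP : PW D ρ ψ w ≠ 0) :
    LinearIndependent ℂ (fun i : F ⧸ AddSubgroup.zmultiples (w 0 * (w 0 ^ e)⁻¹) =>
      XW D ρ ψ w (Quotient.out i)) := by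
  classical
  haveI : Fintype (F ⧸ AddSubgroup.zmultiples (w 0 * (w 0 ^ e)⁻¹)) := Fintype.ofFinite _
  rw [Fintype.linearIndependent_iff]
  intro c hc j
  have h1 := congrArg (fun M => (M * XW D ρ ψ w (Quotient.out j)).trace) hc
  simp only [Finset.sum_mul, Matrix.smul_mul, Matrix.trace_sum, Matrix.trace_smul, Matrix.zero_mul,
    Matrix.trace_zero, XW_mul_XW D ρ ψ w hψ, smul_eq_mul] at h1
  rw [Finset.sum_eq_single j] at h1
  · rw [D.add_self, XW_zero, trace_eq_finrank_of_idem _ (PW_idem D ρ ψ w hψ)] at h1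
    have hr : ((Module.finrank ℂ (LinearMap.range (Matrix.toLin' (PW D ρ ψ w))) : ℕ) : ℂ) ≠ 0 :=
      Nat.cast_ne_zero.2 (finrank_range_pos_of_ne_zero _ hP).ne'
    have hψ0 : ψ (Quotient.out j ^ e * Quotient.out j * w 0) ≠ 0 := by
      intro h0
      have := AddChar.map_add_eq_mul ψ (Quotient.out j ^ e * Quotient.out j * w 0)
        (-(Quotient.out j ^ e * Quotient.out j * w 0))
      rw [add_neg_cancel, AddChar.map_zero_eq_one, h0, zero_mul] at this
      exact one_ne_zero this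
    rcases mul_eq_zero.1 h1 with h2 | h2
    · exact h2
    · rcases mul_eq_zero.1 h2 with h3 | h3
      · exact absurd h3 hψ0
      · exact absurd h3 hr
  · intro i _ hij
    have h0 : Quotient.out i + Quotient.out j ≠ 0 := by
      intro h
      apply hij
      have h2 : Quotient.out i = Quotient.out j := by
        have h3 := D.add_self (Quotient.out j)
        linear_combination h - h3
      rw [← Quotient.out_eq i, h2, Quotient.out_eq]
    have h0' : Quotient.out i + Quotient.out j ≠ w 0 * (w 0 ^ e)⁻¹ := by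
      intro h
      apply hij
      rw [← QuotientAddGroup.out_eq' i, ← QuotientAddGroup.out_eq' j, QuotientAddGroup.eq]
      have h2 : -Quotient.out i + Quotient.out j = w 0 * (w 0 ^ e)⁻¹ := by
        have h3 := D.add_self (Quotient.out i)
        linear_combination h - h3
      show -Quotient.out i + Quotient.out j ∈ _
      rw [h2]
      exact AddSubgroup.mem_zmultiples _
    rw [trace_XW_eq_zero D ρ ψ w hψ hψe hw _ h0 h0', mul_zero, mul_zero]
  · intro h
    exact absurd (Finset.mem_univ _) h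

theorem weight_dim_ge (hψ : ψ.IsPrimitive) (hψe : ∀ x : F, ψ (x ^ e) = ψ x) (hw : w ≠ 0)
    (hP : PW D ρ ψ w ≠ 0) :
    Fintype.card F
      ≤ 2 * (Module.finrank ℂ (LinearMap.range (Matrix.toLin' (PW D ρ ψ w)))) ^ 2 := by
  classical
  haveI : Fintype (F ⧸ AddSubgroup.zmultiples (w 0 * (w 0 ^ e)⁻¹)) := Fintype.ofFinite _
  have h1 := card_le_sq_of_linearIndependent_corner (PW D ρ ψ w) _
    (linearIndependent_XW D ρ ψ w hψ hψe hw hP) (fun i => PW_mul_XW D ρ ψ w hψ _)
    (fun i => XW_mul_PW D ρ ψ w hψ _)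
  have hw0 : w 0 ≠ 0 := fin_one_ne_zero hw
  have hr0 : w 0 * (w 0 ^ e)⁻¹ ≠ 0 := mul_ne_zero hw0 (inv_ne_zero (pow_ne_zero _ hw0))
  have h2 : Fintype.card F
      = Fintype.card (F ⧸ AddSubgroup.zmultiples (w 0 * (w 0 ^ e)⁻¹)) * 2 := by
    rw [← Nat.card_eq_fintype_card, ← Nat.card_eq_fintype_card,
      AddSubgroup.card_eq_card_quotient_mul_card_addSubgroup
        (AddSubgroup.zmultiples (w 0 * (w 0 ^ e)⁻¹)),
      Nat.card_zmultiples, addOrderOf_eq_prime (p := 2) _ hr0]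
    rw [two_nsmul]
    exact D.add_self _
  rw [h2]
  linarith

end dim


section main

theorem dim_le_one_of_trivial {G : Type*} [Group G] {k : ℕ}
    (ρ : Representation ℂ G (Fin k → ℂ)) (hirr : ρ.IsIrreducible) (h : ∀ g, ρ g = 1) :
    k ≤ 1 := by
  by_contra hk
  push Not at hk
  let v : Fin k → ℂ := Pi.single ⟨0, by omega⟩ 1
  have hv : v ≠ 0 := by
    intro h0
    have := congrFun h0 ⟨0, by omega⟩
    simp [v] at this
  let S : Subrepresentation ρ := ⟨Submodule.span ℂ {v}, fun g x hx => by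
    rw [h g]
    exact hx⟩
  haveI := hirr
  rcases eq_bot_or_eq_top S with hS | hS
  · have h1 : v ∈ S.toSubmodule := Submodule.subset_span rfl
    rw [hS] at h1
    exact hv ((Submodule.mem_bot ℂ).1 h1)
  · have h1 : Submodule.span ℂ {v} = ⊤ := by
      change S.toSubmodule = ⊤
      rw [hS]
      rfl
    have h2 : Module.finrank ℂ (Submodule.span ℂ {v}) = 1 := finrank_span_singleton hv
    rw [h1, finrank_top, Module.finrank_fin_fun] at h2
    omega

theorem main {F : Type*} [Field F] [Fintype F] (m : ℕ) (hm : 1 ≤ m)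
    (hF : Fintype.card F = 2 ^ (2 * m + 1))
    (hsimple : IsSimpleGroup ↥(Cfsg.Lie.Sz F (2 ^ (m + 1))))
    (k : ℕ) (ρ : Representation ℂ (Cfsg.Lie.Sz F (2 ^ (m + 1))) (Fin k → ℂ))
    (hirr : ρ.IsIrreducible) (hk : 2 ≤ k) : 2 ^ m * (2 ^ (2 * m + 1) - 1) ≤ k := by
  classical
  -- characteristic two
  obtain ⟨p, hp⟩ := CharP.exists F
  obtain ⟨n, hpp, hn⟩ := FiniteField.card F p
  have hpdvd : p ∣ 2 ^ (2 * m + 1) := by
    rw [← hF, hn]
    exact dvd_pow_self p n.ne_zero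
  have hp2 : p = 2 := (Nat.prime_dvd_prime_iff_eq hpp Nat.prime_two).1 (hpp.dvd_of_dvd_pow hpdvd)
  subst hp2
  have h2 : (2 : F) = 0 := by exact_mod_cast CharP.cast_eq_zero F 2
  have D : SzData F (2 ^ (m + 1)) :=
    { he := by positivity
      h2 := h2
      hadd := fun x y => add_pow_char_pow x y 2 (m + 1)
      hsq := by
        intro b
        have hee : 2 ^ (m + 1) * 2 ^ (m + 1) = Fintype.card F * 2 := by
          rw [hF, ← pow_add, ← pow_succ]
          congr 1
          omega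
        rw [← pow_mul, hee, pow_mul, FiniteField.pow_card] }
  obtain ⟨ψ, hψ, hψ2⟩ := exists_frobenius_invariant_char (F := F) (2 * m + 1) (by omega) hF
  have hψe : ∀ x : F, ψ (x ^ 2 ^ (m + 1)) = ψ x := fun x => char_pow_two_pow hψ2 (m + 1) x
  -- the representation is faithful
  have hker : MonoidHom.ker ρ = ⊥ := by
    rcases hsimple.eq_bot_or_eq_top_of_normal (MonoidHom.ker ρ) (MonoidHom.normal_ker ρ)
      with h | h
    · exact h
    · exfalso
      have h1 : ∀ g, ρ g = 1 := by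
        intro g
        have : g ∈ MonoidHom.ker ρ := by
          rw [h]
          trivial
        exact MonoidHom.mem_ker.1 this
      have := dim_le_one_of_trivial ρ hirr h1
      omega
  have hT1 : Tz D ρ (fun _ => 1) ≠ 1 := by
    intro h
    apply sG_ne_one D
    have h1 : sG D 0 1 ∈ MonoidHom.ker ρ := by
      rw [MonoidHom.mem_ker]
      apply LinearMap.toMatrix'.injective
      rw [LinearMap.toMatrix'_one]
      exact h
    rw [hker] at h1
    exact Subgroup.mem_bot.1 h1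
  -- all non-zero weights occur
  obtain ⟨w₀, hw₀, hPw₀⟩ := exists_weight_ne_zero hψ (Tz_zero D ρ) (Tz_add D ρ)
    card_fun_ne_zero _ hT1
  have hall : ∀ w : Fin 1 → F, w ≠ 0 → PW D ρ ψ w ≠ 0 := by
    intro w hw
    obtain ⟨x, hx⟩ := exists_pow_e_eq D (w 0 * (w₀ 0)⁻¹)
    have hx0 : x ≠ 0 := by
      rintro rfl
      rw [zero_pow D.he] at hx
      exact mul_ne_zero (fin_one_ne_zero hw) (inv_ne_zero (fin_one_ne_zero hw₀)) hx.symm
    have h3 := weight_torus D ρ ψ (Units.mk0 x hx0) w₀ hPw₀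
    have hww : ((Units.mk0 x hx0 : Fˣ) : F) ^ 2 ^ (m + 1) • w₀ = w := by
      funext i
      rw [Subsingleton.elim i 0, Pi.smul_apply, Units.val_mk0, hx, smul_eq_mul,
        inv_mul_cancel_right₀ (fin_one_ne_zero hw₀)]
    rw [hww] at h3
    exact h3
  -- the dimension count
  have hdim : ∀ w : Fin 1 → F, w ≠ 0 →
      2 ^ m ≤ Module.finrank ℂ (LinearMap.range (Matrix.toLin' (PW D ρ ψ w))) := by
    intro w hw
    have h := weight_dim_ge D ρ ψ w hψ hψe hw (hall w hw)
    rw [hF] at h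
    have h3 : (2 ^ m) ^ 2
        ≤ (Module.finrank ℂ (LinearMap.range (Matrix.toLin' (PW D ρ ψ w)))) ^ 2 := by
      rw [← pow_mul, mul_comm m 2]
      rw [pow_succ] at h
      linarith
    exact (Nat.pow_le_pow_iff_left (by norm_num)).1 h3
  have hsum : (k : ℂ) = ∑ w : Fin 1 → F,
      ((Module.finrank ℂ (LinearMap.range (Matrix.toLin' (PW D ρ ψ w))) : ℕ) : ℂ) := by
    have h1 := congrArg Matrix.trace
      (sum_weightProj hψ (Tz_zero D ρ) card_fun_ne_zero (T := Tz D ρ))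
    rw [Matrix.trace_sum, Matrix.trace_one, Fintype.card_fin] at h1
    rw [← h1]
    apply Finset.sum_congr rfl
    intro w _
    exact trace_eq_finrank_of_idem _ (PW_idem D ρ ψ w hψ)
  have hsumN : k = ∑ w : Fin 1 → F,
      Module.finrank ℂ (LinearMap.range (Matrix.toLin' (PW D ρ ψ w))) := by
    exact_mod_cast hsum
  rw [hsumN]
  calc 2 ^ m * (2 ^ (2 * m + 1) - 1)
      = ∑ w ∈ Finset.univ.erase (0 : Fin 1 → F), 2 ^ m := by
        rw [Finset.sum_const, Finset.card_erase_of_mem (Finset.mem_univ _), Finset.card_univ,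
          Fintype.card_fun, Fintype.card_fin, pow_one, hF, smul_eq_mul, mul_comm]
    _ ≤ ∑ w ∈ Finset.univ.erase (0 : Fin 1 → F),
          Module.finrank ℂ (LinearMap.range (Matrix.toLin' (PW D ρ ψ w))) :=
        Finset.sum_le_sum (fun w hw => hdim w (Finset.ne_of_mem_erase hw))
    _ ≤ ∑ w : Fin 1 → F,
          Module.finrank ℂ (LinearMap.range (Matrix.toLin' (PW D ρ ψ w))) :=
        Finset.sum_le_sum_of_subset (Finset.erase_subset _ _)

end main

/-- For the Suzuki group Sz(q), q = 2^(2m+1) with m ≥ 1 (realised inside Sp₄ over the field with q elements), every irreducible complex representation of degree at least 2 has degree at least 2^m·(q − 1). -/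
theorem result {F : Type*} [Field F] [Fintype F] (m : ℕ) (hm : 1 ≤ m) (hF : Fintype.card F = 2 ^ (2 * m + 1)) :
    (∀ (k : ℕ) (ρ : Representation ℂ (Cfsg.Lie.Sz F (2 ^ (m + 1))) (Fin k → ℂ)), ρ.IsIrreducible → 2 ≤ k → 2 ^ m * (2 ^ (2 * m + 1) - 1) ≤ k) := by
  intro k ρ hirr hk
  exact main m hm hF (Cfsg.Agent.S1162.result hm hF) k ρ hirr hk

end Cfsg.Agent.S2337
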