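import Cfsg.Statements.S2347
import Cfsg.Agent.S0765
import Cfsg.Agent.S0766
import Cfsg.Agent.Lib.Helper18.SympTrans
import Cfsg.Agent.Lib.Helper46.SpOddA
import Cfsg.Agent.Lib.Helper46.WeilMain

set_option autoImplicit false
open Cfsg

namespace Cfsg.Agent.S2347

open Matrix

/-- The matrices of a representation as a monoid homomorphism. -/
noncomputable def repHom {G : Type*} [Group G] {k : ℕ} (ρ : Representation ℂ G (Fin k → ℂ)) :
    G →* Matrix (Fin k) (Fin k) ℂ where
  toFun := Cfsg.Agent.Lib.Helper46.repMat ρ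
  map_one' := Cfsg.Agent.Lib.Helper46.repMat_one ρ
  map_mul' := Cfsg.Agent.Lib.Helper46.repMat_mul ρ

theorem sgUM_single_mulVec {F : Type*} [Field F] {n : ℕ} (i₀ : Fin n) (c : F)
    (x : Fin n ⊕ Fin n → F) :
    Cfsg.Agent.Lib.Helper46.sgUM (c • Matrix.single i₀ i₀ (1 : F)) *ᵥ x
      = x + (c * x (Sum.inr i₀)) • Pi.single (Sum.inl i₀) 1 := by
  rw [Cfsg.Agent.Lib.Helper46.sgUM, fromBlocks_mulVec]
  funext k
  rcases k with j | j
  · simp only [Sum.elim_inl, Pi.add_apply, Matrix.one_mulVec, Function.comp_apply, Pi.smul_apply,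
      smul_eq_mul]
    rw [Matrix.mulVec, dotProduct]
    by_cases hj : j = i₀
    · subst hj
      simp [Matrix.single_apply]
    · have hj' : (Sum.inl j : Fin n ⊕ Fin n) ≠ Sum.inl i₀ := fun h => hj (Sum.inl.inj h)
      simp [Matrix.single_apply, hj, Ne.symm hj, Pi.single_apply, hj']
  · simp [Pi.single_apply]

/-- A representation non-trivial on a transvection is non-trivial on the Siegel unipotent
radical. -/
theorem exists_sgU_ne_one {F : Type*} [Field F] (h2 : (2 : F) ≠ 0) (n : ℕ) (i₀ : Fin n)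
    {M : Type*} [Monoid M] (R : Matrix.symplecticGroup (Fin n) F →* M)
    (g : Matrix.symplecticGroup (Fin n) F) (w : Fin n ⊕ Fin n → F) (c : F)
    (hg : (g : Matrix (Fin n ⊕ Fin n) (Fin n ⊕ Fin n) F) = Cfsg.sympTransvection n w c)
    (hR : R g ≠ 1) :
    ∃ M' : Matrix (Fin n) (Fin n) F, R (Cfsg.Agent.Lib.Helper46.sgU M') ≠ 1 := by
  classical
  have hw : w ≠ 0 := by
    intro h0
    apply hR
    have : g = 1 := by
      apply Subtype.ext
      rw [hg, h0]
      unfold Cfsg.sympTransvection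
      simp
    rw [this, map_one]
  obtain ⟨y, hy⟩ := Cfsg.Agent.Lib.Helper18.sf_nondeg_top n w hw
  have h1 : Cfsg.sympForm n F w ((Cfsg.sympForm n F w y)⁻¹ • y) = 1 := by
    rw [Cfsg.Agent.Lib.Helper18.sf_smul_right, inv_mul_cancel₀ hy]
  have h2' : Cfsg.sympForm n F (Pi.single (Sum.inl i₀) 1) (-(Pi.single (Sum.inr i₀) 1)) = 1 := by
    rw [Cfsg.Agent.Lib.Helper18.sf_neg_right, Cfsg.Agent.Lib.Helper18.sf_single_inr]
    simp
  obtain ⟨A, _, hA1, _⟩ := Cfsg.Agent.S0766.result n w ((Cfsg.sympForm n F w y)⁻¹ • y)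
    (Pi.single (Sum.inl i₀) 1) (-(Pi.single (Sum.inr i₀) 1)) h1 h2'
  have hsym : ((c * 2⁻¹) • Matrix.single i₀ i₀ (1 : F)) + ((c * 2⁻¹) • Matrix.single i₀ i₀ (1 : F))ᵀ
      = c • Matrix.single i₀ i₀ (1 : F) := by
    rw [Matrix.transpose_smul, Matrix.transpose_single, ← add_smul]
    congr 1
    field_simp
    ring
  have hconj : A * g * A⁻¹
      = Cfsg.Agent.Lib.Helper46.sgU ((c * 2⁻¹) • Matrix.single i₀ i₀ (1 : F)) := by
    apply Subtype.ext
    change (A : Matrix (Fin n ⊕ Fin n) (Fin n ⊕ Fin n) F) * g.1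
      * ((A⁻¹ : Matrix.symplecticGroup (Fin n) F) : Matrix (Fin n ⊕ Fin n) (Fin n ⊕ Fin n) F)
      = Cfsg.Agent.Lib.Helper46.sgUM (((c * 2⁻¹) • Matrix.single i₀ i₀ (1 : F)) +
        ((c * 2⁻¹) • Matrix.single i₀ i₀ (1 : F))ᵀ)
    rw [hsym, Matrix.ext_iff_mulVec]
    intro x
    rw [← Matrix.mulVec_mulVec, ← Matrix.mulVec_mulVec, hg,
      Cfsg.Agent.Lib.Helper18.transv_mulVec, Matrix.mulVec_add, Matrix.mulVec_smul,
      Cfsg.Agent.Lib.Helper18.mulVec_inv_mulVec, hA1,
      ← Cfsg.Agent.Lib.Helper18.sf_mulVec_of_mem n A.1 A.2,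
      Cfsg.Agent.Lib.Helper18.mulVec_inv_mulVec, hA1, Cfsg.Agent.Lib.Helper18.sf_single_inl,
      sgUM_single_mulVec]
  refine ⟨(c * 2⁻¹) • Matrix.single i₀ i₀ (1 : F), ?_⟩
  rw [← hconj]
  intro h3
  apply hR
  have h4 : R g = R A⁻¹ * (R (A * g * A⁻¹)) * R A := by
    rw [← map_mul, ← map_mul]
    congr 1
    group
  rw [h4, h3, mul_one, ← map_mul, inv_mul_cancel, map_one]

/-- Smallest degree of a non-linear irreducible complex representation of the symplectic group Sp_{2n} over a finite field of odd order q, n ≥ 2: every irreducible complex representation of degree at least 2 has degree at least (q^n − 1)/2, and there is an irreducible complex representation of exactly that degree (a Weil representation). -/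
theorem result {F : Type*} [Field F] [Fintype F] [DecidableEq F] (n : ℕ) (hn : 2 ≤ n) (hodd : Odd (Fintype.card F)) :
    (∀ (k : ℕ) (ρ : Representation ℂ (Matrix.symplecticGroup (Fin n) F) (Fin k → ℂ)), ρ.IsIrreducible → 2 ≤ k → (Fintype.card F ^ n - 1) / 2 ≤ k) ∧
    (∃ ρ : Representation ℂ (Matrix.symplecticGroup (Fin n) F) (Fin ((Fintype.card F ^ n - 1) / 2) → ℂ), ρ.IsIrreducible) := by
  have hq : Fintype.card F % 2 = 1 := Nat.odd_iff.1 hodd
  have h2 : (2 : F) ≠ 0 := Cfsg.Agent.Lib.Helper46.two_ne_zero_of_odd_card hq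
  constructor
  · intro k ρ hirr hk
    apply Cfsg.Agent.Lib.Helper46.sp_odd_degree_ge hq n (by omega) (repHom ρ)
    obtain ⟨g, ⟨w, c, hg⟩, hρg⟩ := Cfsg.Agent.Lib.Helper46.not_closure_le_ker ρ hirr hk _
      (Cfsg.Agent.S0765.result n)
    apply exists_sgU_ne_one h2 n ⟨0, by omega⟩ (repHom ρ) g w c hg
    intro h1
    exact hρg ((Cfsg.Agent.Lib.Helper46.repMat_eq_one_iff ρ g).1 h1)
  · have hcard : Fintype.card (Fin n → F) = Fintype.card F ^ n := by
      rw [Fintype.card_fun, Fintype.card_fin]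
    have hq3 : 3 ≤ Fintype.card F := by
      have := Fintype.one_lt_card (α := F)
      omega
    have hN : 3 ≤ Fintype.card (Fin n → F) := by
      rw [hcard]
      calc 3 ≤ Fintype.card F ^ 1 := by rw [pow_one]; exact hq3
        _ ≤ Fintype.card F ^ n := Nat.pow_le_pow_right (by omega) (by omega)
    have h := Cfsg.Agent.Lib.Helper46.Weil.exists_irreducible_weil (F := F) (κ := Fin n) h2 hN
    rw [hcard] at h
    exact h

end Cfsg.Agent.S2347
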