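import Cfsg.Statements.S2352
import Mathlib

set_option autoImplicit false
open Cfsg

namespace Cfsg.Agent.S2352

/-- A relation on a finite type that is a partial injection extends to a permutation. -/
theorem exists_perm_of_rel {α : Type*} [Finite α] (r : α → α → Prop)
    (hfun : ∀ x y y', r x y → r x y' → y = y') (hinj : ∀ x x' y, r x y → r x' y → x = x') :
    ∃ σ : Equiv.Perm α, ∀ x y, r x y → σ x = y := by
  classical
  let p : α → Prop := fun x => ∃ y, r x y
  let q : α → Prop := fun y => ∃ x, r x y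
  let e0 : {x // p x} → {y // q y} := fun x => ⟨Classical.choose x.2, ⟨x.1, Classical.choose_spec x.2⟩⟩
  have he0 : ∀ x : {x // p x}, r x.1 (e0 x).1 := fun x => Classical.choose_spec x.2
  have hbij : Function.Bijective e0 := by
    constructor
    · intro x x' hxx
      apply Subtype.ext
      have h1 := he0 x
      have h2 := he0 x'
      rw [hxx] at h1
      exact hinj _ _ _ h1 h2
    · rintro ⟨y, x, hxy⟩
      refine ⟨⟨x, y, hxy⟩, ?_⟩
      apply Subtype.ext
      exact hfun _ _ _ (he0 ⟨x, y, hxy⟩) hxy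
  let e : {x // p x} ≃ {y // q y} := Equiv.ofBijective e0 hbij
  refine ⟨e.extendSubtype, ?_⟩
  intro x y hxy
  rw [Equiv.extendSubtype_apply_of_mem e x ⟨y, hxy⟩]
  exact hfun _ _ _ (he0 ⟨x, y, hxy⟩) hxy

/-- The relation prescribed for the generator `a` by the word `L`. -/
def wordRel (L : List (ℕ × Bool)) (a : ℕ) (x y : Fin (L.length + 1)) : Prop :=
  ∃ (j : ℕ) (hj : j < L.length),
    (L[j] = (a, true) ∧ x.val = j + 1 ∧ y.val = j) ∨ (L[j] = (a, false) ∧ x.val = j ∧ y.val = j + 1)

theorem reduced_adj (L : List (ℕ × Bool)) (hL : FreeGroup.IsReduced L) (j : ℕ) (hj : j + 1 < L.length)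
    (a : ℕ) (b b' : Bool) (h1 : L[j] = (a, b)) (h2 : L[j + 1] = (a, b')) : b = b' := by
  have := (List.isChain_iff_getElem.1 hL) j hj
  rw [h1, h2] at this
  exact this rfl

theorem wordRel_fun (L : List (ℕ × Bool)) (hL : FreeGroup.IsReduced L) (a : ℕ)
    (x y y' : Fin (L.length + 1)) (h : wordRel L a x y) (h' : wordRel L a x y') : y = y' := by
  obtain ⟨j, hj, h⟩ := h
  obtain ⟨j', hj', h'⟩ := h'
  apply Fin.ext
  rcases h with ⟨hl, hx, hy⟩ | ⟨hl, hx, hy⟩ <;> rcases h' with ⟨hl', hx', hy'⟩ | ⟨hl', hx', hy'⟩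
  · omega
  · have hjj : j' = j + 1 := by omega
    subst hjj
    exact absurd (reduced_adj L hL j hj' a true false hl hl') (by simp)
  · have hjj : j = j' + 1 := by omega
    subst hjj
    exact absurd (reduced_adj L hL j' hj a true false hl' hl) (by simp)
  · omega

theorem wordRel_inj (L : List (ℕ × Bool)) (hL : FreeGroup.IsReduced L) (a : ℕ)
    (x x' y : Fin (L.length + 1)) (h : wordRel L a x y) (h' : wordRel L a x' y) : x = x' := by
  obtain ⟨j, hj, h⟩ := h
  obtain ⟨j', hj', h'⟩ := h'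
  apply Fin.ext
  rcases h with ⟨hl, hx, hy⟩ | ⟨hl, hx, hy⟩ <;> rcases h' with ⟨hl', hx', hy'⟩ | ⟨hl', hx', hy'⟩
  · omega
  · have hjj : j = j' + 1 := by omega
    subst hjj
    exact absurd (reduced_adj L hL j' hj a false true hl' hl) (by simp)
  · have hjj : j' = j + 1 := by omega
    subst hjj
    exact absurd (reduced_adj L hL j hj' a false true hl hl') (by simp)
  · omega

/-- For a reduced word there are permutations of `Fin (length + 1)` along which the word walks
from the last point to the first. -/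
theorem exists_perms (L : List (ℕ × Bool)) (hL : FreeGroup.IsReduced L) :
    ∃ σ : ℕ → Equiv.Perm (Fin (L.length + 1)),
      ∀ (j : ℕ) (hj : j < L.length),
        (bif L[j].2 then σ L[j].1 else (σ L[j].1)⁻¹) ⟨j + 1, by omega⟩ = ⟨j, by omega⟩ := by
  have hex : ∀ a : ℕ, ∃ σ : Equiv.Perm (Fin (L.length + 1)), ∀ x y, wordRel L a x y → σ x = y :=
    fun a => exists_perm_of_rel (wordRel L a) (wordRel_fun L hL a) (wordRel_inj L hL a)
  choose σ hσ using hex
  refine ⟨σ, ?_⟩
  intro j hj
  rcases hb : L[j] with ⟨a, b⟩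
  cases b with
  | true =>
    simp only [cond_true]
    apply hσ
    exact ⟨j, hj, Or.inl ⟨hb, rfl, rfl⟩⟩
  | false =>
    simp only [cond_false]
    rw [Equiv.Perm.inv_eq_iff_eq]
    symm
    apply hσ
    exact ⟨j, hj, Or.inr ⟨hb, rfl, rfl⟩⟩

theorem walk (L : List (ℕ × Bool)) (σ : ℕ → Equiv.Perm (Fin (L.length + 1)))
    (hσ : ∀ (j : ℕ) (hj : j < L.length),
        (bif L[j].2 then σ L[j].1 else (σ L[j].1)⁻¹) ⟨j + 1, by omega⟩ = ⟨j, by omega⟩)
    (i : ℕ) (hi : i ≤ L.length) :
    (((L.drop (L.length - i)).map fun x => bif x.2 then σ x.1 else (σ x.1)⁻¹).prod)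
      ⟨L.length, by omega⟩ = ⟨L.length - i, by omega⟩ := by
  induction i with
  | zero => simp
  | succ i ih =>
    have hlt : L.length - (i + 1) < L.length := by omega
    rw [List.drop_eq_getElem_cons hlt, List.map_cons, List.prod_cons, Equiv.Perm.mul_apply]
    have e : L.length - (i + 1) + 1 = L.length - i := by omega
    rw [e, ih (by omega)]
    have := hσ (L.length - (i + 1)) hlt
    convert this using 2
    exact Fin.ext e.symm

theorem exists_perm_lift_ne_one (w : FreeGroup ℕ) (hw : w ≠ 1) :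
    ∃ σ : ℕ → Equiv.Perm (Fin (w.toWord.length + 1)), FreeGroup.lift σ w ≠ 1 := by
  obtain ⟨σ, hσ⟩ := exists_perms w.toWord FreeGroup.isReduced_toWord
  refine ⟨σ, ?_⟩
  have hlen : 0 < w.toWord.length := by
    rw [List.length_pos_iff]
    intro h
    exact hw (FreeGroup.toWord_eq_nil_iff.1 h)
  have hwalk := congrArg Fin.val (walk w.toWord σ hσ w.toWord.length le_rfl)
  simp only [Nat.sub_self, List.drop_zero] at hwalk
  rw [← FreeGroup.lift_mk, FreeGroup.mk_toWord] at hwalk
  intro h1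
  rw [h1, Equiv.Perm.one_apply] at hwalk
  simp only at hwalk
  omega

/-- An injective homomorphism from `Perm (Fin m)` to the alternating group of degree `n ≥ 2m`. -/
theorem exists_hom_alt (m n : ℕ) (hn : 2 * m ≤ n) :
    ∃ Φ : Equiv.Perm (Fin m) →* alternatingGroup (Fin n), Function.Injective Φ := by
  have hcard : Fintype.card (Fin m ⊕ Fin m) ≤ Fintype.card (Fin n) := by
    simp only [Fintype.card_sum, Fintype.card_fin]
    omega
  obtain ⟨ι⟩ := Function.Embedding.nonempty_of_card_le hcard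
  let Ψ : Equiv.Perm (Fin m) →* Equiv.Perm (Fin n) :=
    (Equiv.Perm.viaEmbeddingHom ι).comp
      ((Equiv.Perm.sumCongrHom (Fin m) (Fin m)).comp
        ((MonoidHom.id (Equiv.Perm (Fin m))).prod (MonoidHom.id (Equiv.Perm (Fin m)))))
  have hΨinj : Function.Injective Ψ := by
    apply (Equiv.Perm.viaEmbeddingHom_injective ι).comp
    apply Equiv.Perm.sumCongrHom_injective.comp
    intro a b hab
    exact (Prod.ext_iff.1 hab).1
  have hΨmem : ∀ σ, Ψ σ ∈ alternatingGroup (Fin n) := by
    intro σ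
    rw [Equiv.Perm.mem_alternatingGroup]
    change Equiv.Perm.sign (Equiv.Perm.viaEmbedding (Equiv.Perm.sumCongr σ σ) ι) = 1
    unfold Equiv.Perm.viaEmbedding
    rw [Equiv.Perm.sign_extendDomain, Equiv.Perm.sign_sumCongr, Int.units_mul_self]
  refine ⟨Ψ.codRestrict _ hΨmem, ?_⟩
  intro a b hab
  apply hΨinj
  exact congrArg Subtype.val hab

theorem result (w : FreeGroup ℕ) (hw : w ≠ 1) :
    ∃ N : ℕ, ∀ n : ℕ, N ≤ n → ∃ f : ℕ → alternatingGroup (Fin n), FreeGroup.lift f w ≠ 1 := by
  obtain ⟨σ, hσ⟩ := exists_perm_lift_ne_one w hw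
  refine ⟨2 * (w.toWord.length + 1), ?_⟩
  intro n hn
  obtain ⟨Φ, hΦ⟩ := exists_hom_alt (w.toWord.length + 1) n hn
  refine ⟨fun a => Φ (σ a), ?_⟩
  have : (Φ.comp (FreeGroup.lift σ)) w = FreeGroup.lift (fun a => Φ (σ a)) w := by
    apply FreeGroup.lift_unique
    intro x
    simp
  rw [← this]
  intro h1
  apply hσ
  apply hΦ
  rw [map_one]
  exact h1

end Cfsg.Agent.S2352
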