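import Cfsg.Statements.S2353
import Mathlib

set_option autoImplicit false
open Cfsg

namespace Cfsg.Agent.S2353

open Polynomial

variable {F : Type*} [Field F]

/-- upper unitriangular -/
noncomputable def uMat (f : F[X]) : Matrix (Fin 2) (Fin 2) F[X] := !![1, f; 0, 1]
/-- lower unitriangular -/
noncomputable def lMat (g : F[X]) : Matrix (Fin 2) (Fin 2) F[X] := !![1, 0; g, 1]

theorem uMat_det (f : F[X]) : (uMat f).det = 1 := by simp [uMat, Matrix.det_fin_two]
theorem lMat_det (g : F[X]) : (lMat g).det = 1 := by simp [lMat, Matrix.det_fin_two]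

theorem uMat_mul (f f' : F[X]) : uMat f * uMat f' = uMat (f + f') := by
  ext i j
  fin_cases i <;> fin_cases j <;> simp [uMat, Matrix.mul_apply, Fin.sum_univ_two, add_comm]

theorem lMat_mul (g g' : F[X]) : lMat g * lMat g' = lMat (g + g') := by
  ext i j
  fin_cases i <;> fin_cases j <;> simp [lMat, Matrix.mul_apply, Fin.sum_univ_two]

theorem uMat_zero : uMat (0 : F[X]) = 1 := by
  ext i j
  fin_cases i <;> fin_cases j <;> simp [uMat]

theorem lMat_zero : lMat (0 : F[X]) = 1 := by
  ext i j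
  fin_cases i <;> fin_cases j <;> simp [lMat]

theorem vecMul_uMat (r : Fin 2 → F[X]) (f : F[X]) :
    Matrix.vecMul r (uMat f) = ![r 0, r 0 * f + r 1] := by
  ext j
  fin_cases j <;> simp [uMat, Matrix.vecMul, dotProduct, Fin.sum_univ_two]

theorem vecMul_lMat (r : Fin 2 → F[X]) (g : F[X]) :
    Matrix.vecMul r (lMat g) = ![r 0 + r 1 * g, r 1] := by
  ext j
  fin_cases j <;> simp [lMat, Matrix.vecMul, dotProduct, Fin.sum_univ_two]

/-- The matrix attached to a letter. -/
noncomputable def letterMat (x : ℕ × Bool) : Matrix (Fin 2) (Fin 2) F[X] :=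
  bif x.2 then uMat (X ^ (x.1 + 1)) * lMat (X ^ (x.1 + 1))
  else lMat (-X ^ (x.1 + 1)) * uMat (-X ^ (x.1 + 1))

theorem letterMat_det (x : ℕ × Bool) : (letterMat (F := F) x).det = 1 := by
  rcases x with ⟨i, b⟩
  cases b <;> simp [letterMat, Matrix.det_mul, uMat_det, lMat_det]

theorem letterMat_mul_inv (i : ℕ) : letterMat (F := F) (i, true) * letterMat (i, false) = 1 := by
  simp only [letterMat, cond_true, cond_false]
  rw [mul_assoc, ← mul_assoc (lMat _), lMat_mul, add_neg_cancel, lMat_zero, one_mul, uMat_mul,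
    add_neg_cancel, uMat_zero]

/-- The generators in `SL₂(F[X])`. -/
noncomputable def gen (F : Type*) [Field F] (i : ℕ) : Matrix.SpecialLinearGroup (Fin 2) F[X] :=
  ⟨letterMat (i, true), letterMat_det _⟩

theorem gen_val (i : ℕ) : ((gen F i : Matrix.SpecialLinearGroup (Fin 2) F[X]) : Matrix (Fin 2) (Fin 2) F[X]) =
    letterMat (i, true) := rfl

/-- The inverses of the generators. -/
noncomputable def genInv (F : Type*) [Field F] (i : ℕ) : Matrix.SpecialLinearGroup (Fin 2) F[X] :=
  ⟨letterMat (i, false), letterMat_det _⟩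

theorem gen_inv_val (i : ℕ) : (((gen F i)⁻¹ : Matrix.SpecialLinearGroup (Fin 2) F[X]) : Matrix (Fin 2) (Fin 2) F[X]) =
    letterMat (i, false) := by
  have h : (gen F i)⁻¹ = genInv F i := by
    apply inv_eq_of_mul_eq_one_right
    apply Subtype.ext
    rw [Matrix.SpecialLinearGroup.coe_mul]
    exact letterMat_mul_inv i
  rw [h]
  rfl

theorem letter_val (x : ℕ × Bool) :
    ((bif x.2 then gen F x.1 else (gen F x.1)⁻¹ : Matrix.SpecialLinearGroup (Fin 2) F[X]) :
      Matrix (Fin 2) (Fin 2) F[X]) = letterMat x := by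
  rcases x with ⟨i, b⟩
  cases b
  · exact gen_inv_val i
  · exact gen_val i

/-! ### degree invariants -/

/-- state after an upper step -/
def postU (r : Fin 2 → F[X]) : Prop := degree (r 0) < degree (r 1)
/-- state after a lower step -/
def postL (r : Fin 2 → F[X]) : Prop := degree (r 1) < degree (r 0)

theorem stepU (r : Fin 2 → F[X]) (f : F[X]) (hf : 0 < degree f) (hr : postL r) :
    postU (Matrix.vecMul r (uMat f)) := by
  rw [vecMul_uMat]
  unfold postU postL at *
  simp only [Matrix.cons_val_zero, Matrix.cons_val_one]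
  have h0 : r 0 ≠ 0 := by
    intro h
    rw [h, degree_zero] at hr
    exact not_lt_bot hr
  have h1 : degree (r 0) < degree (r 0 * f) := by
    have hf0 : f ≠ 0 := ne_zero_of_degree_gt hf
    have hm : 0 < natDegree f := natDegree_pos_iff_degree_pos.2 hf
    rw [degree_mul, degree_eq_natDegree h0, degree_eq_natDegree hf0]
    exact_mod_cast Nat.lt_add_of_pos_right hm
  rw [degree_add_eq_left_of_degree_lt (lt_trans hr h1)]
  exact h1

theorem stepL (r : Fin 2 → F[X]) (g : F[X]) (hg : 0 < degree g) (hr : postU r) :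
    postL (Matrix.vecMul r (lMat g)) := by
  rw [vecMul_lMat]
  unfold postU postL at *
  simp only [Matrix.cons_val_zero, Matrix.cons_val_one]
  have h0 : r 1 ≠ 0 := by
    intro h
    rw [h, degree_zero] at hr
    exact not_lt_bot hr
  have h1 : degree (r 1) < degree (r 1 * g) := by
    have hg0 : g ≠ 0 := ne_zero_of_degree_gt hg
    have hm : 0 < natDegree g := natDegree_pos_iff_degree_pos.2 hg
    rw [degree_mul, degree_eq_natDegree h0, degree_eq_natDegree hg0]
    exact_mod_cast Nat.lt_add_of_pos_right hm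
  rw [degree_add_eq_right_of_degree_lt (lt_trans hr h1)]
  exact h1

theorem deg_pow_pos (i : ℕ) : 0 < degree ((X : F[X]) ^ (i + 1)) := by
  rw [degree_X_pow]
  exact_mod_cast Nat.succ_pos i

theorem deg_neg_pow_pos (i : ℕ) : 0 < degree (-(X : F[X]) ^ (i + 1)) := by
  rw [degree_neg]
  exact deg_pow_pos i

theorem deg_sub_pow_pos (i j : ℕ) (hij : i ≠ j) :
    0 < degree ((X : F[X]) ^ (i + 1) - X ^ (j + 1)) := by
  rcases lt_or_gt_of_ne hij with h | h
  · have : degree ((X : F[X]) ^ (i + 1)) < degree ((X : F[X]) ^ (j + 1)) := by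
      rw [degree_X_pow, degree_X_pow]
      exact_mod_cast Nat.succ_lt_succ h
    rw [degree_sub_eq_right_of_degree_lt this]
    exact deg_pow_pos j
  · have : degree ((X : F[X]) ^ (j + 1)) < degree ((X : F[X]) ^ (i + 1)) := by
      rw [degree_X_pow, degree_X_pow]
      exact_mod_cast Nat.succ_lt_succ h
    rw [degree_sub_eq_left_of_degree_lt this]
    exact deg_pow_pos i

/-- The state of the first row after a given last letter. -/
def St : ℕ × Bool → (Fin 2 → F[X]) → Prop
  | (i, true), r => ∃ r', postU r' ∧ r = Matrix.vecMul r' (lMat (X ^ (i + 1)))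
  | (i, false), r => ∃ r', postL r' ∧ r = Matrix.vecMul r' (uMat (-X ^ (i + 1)))

theorem St_postL_of_true (i : ℕ) (r : Fin 2 → F[X]) (h : St (i, true) r) : postL r := by
  obtain ⟨r', hr', rfl⟩ := h
  exact stepL r' _ (deg_pow_pos i) hr'

theorem St_postU_of_false (i : ℕ) (r : Fin 2 → F[X]) (h : St (i, false) r) : postU r := by
  obtain ⟨r', hr', rfl⟩ := h
  exact stepU r' _ (deg_neg_pow_pos i) hr'

theorem transition (p x : ℕ × Bool) (hpx : p.1 = x.1 → p.2 = x.2) (r : Fin 2 → F[X]) (hr : St p r) :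
    St x (Matrix.vecMul r (letterMat x)) := by
  rcases p with ⟨i, bp⟩
  rcases x with ⟨j, bx⟩
  cases bp <;> cases bx
  · -- false, false
    simp only [letterMat, cond_false]
    rw [← Matrix.vecMul_vecMul]
    exact ⟨_, stepL r _ (deg_neg_pow_pos j) (St_postU_of_false i r hr), rfl⟩
  · -- false, true
    have hij : i ≠ j := fun h => by simpa using hpx h
    obtain ⟨r', hr', rfl⟩ := hr
    simp only [letterMat, cond_true]
    rw [← Matrix.vecMul_vecMul, Matrix.vecMul_vecMul r', uMat_mul]
    refine ⟨_, stepU r' _ ?_ hr', rfl⟩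
    have : -(X : F[X]) ^ (i + 1) + X ^ (j + 1) = X ^ (j + 1) - X ^ (i + 1) := by ring
    rw [this]
    exact deg_sub_pow_pos j i (Ne.symm hij)
  · -- true, false
    have hij : i ≠ j := fun h => by simpa using hpx h
    obtain ⟨r', hr', rfl⟩ := hr
    simp only [letterMat, cond_false]
    rw [← Matrix.vecMul_vecMul, Matrix.vecMul_vecMul r', lMat_mul]
    refine ⟨_, stepL r' _ ?_ hr', rfl⟩
    have : (X : F[X]) ^ (i + 1) + -X ^ (j + 1) = X ^ (i + 1) - X ^ (j + 1) := by ring
    rw [this]
    exact deg_sub_pow_pos i j hij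
  · -- true, true
    simp only [letterMat, cond_true]
    rw [← Matrix.vecMul_vecMul]
    exact ⟨_, stepU r _ (deg_pow_pos j) (St_postL_of_true i r hr), rfl⟩

theorem initial (x : ℕ × Bool) : St x (Matrix.vecMul (![1, 0] : Fin 2 → F[X]) (letterMat x)) := by
  have h10 : postL (![1, 0] : Fin 2 → F[X]) := by
    unfold postL
    simp
  rcases x with ⟨j, bx⟩
  cases bx
  · simp only [letterMat, cond_false]
    rw [← Matrix.vecMul_vecMul]
    refine ⟨_, ?_, rfl⟩
    rw [vecMul_lMat]
    simpa using h10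
  · simp only [letterMat, cond_true]
    rw [← Matrix.vecMul_vecMul]
    exact ⟨_, stepU _ _ (deg_pow_pos j) h10, rfl⟩

theorem final (x : ℕ × Bool) (r : Fin 2 → F[X]) (h : St x r) : r 1 ≠ 0 := by
  rcases x with ⟨i, b⟩
  cases b
  · have := St_postU_of_false i r h
    unfold postU at this
    intro h0
    rw [h0, degree_zero] at this
    exact not_lt_bot this
  · obtain ⟨r', hr', rfl⟩ := h
    rw [vecMul_lMat]
    change r' 1 ≠ 0
    unfold postU at hr'
    intro h0
    rw [h0, degree_zero] at hr'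
    exact not_lt_bot hr'

theorem run (L : List (ℕ × Bool)) (p : ℕ × Bool) (hred : FreeGroup.IsReduced (p :: L))
    (r : Fin 2 → F[X]) (hr : St p r) :
    ∃ y, St y (Matrix.vecMul r (L.map letterMat).prod) := by
  induction L generalizing p r with
  | nil => exact ⟨p, by simpa using hr⟩
  | cons x L ih =>
    rw [FreeGroup.isReduced_cons_cons] at hred
    rw [List.map_cons, List.prod_cons, ← Matrix.vecMul_vecMul]
    exact ih x hred.2 _ (transition p x hred.1 r hr)

theorem entry_ne_zero (L : List (ℕ × Bool)) (hL : FreeGroup.IsReduced L) (hne : L ≠ []) :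
    ((L.map (letterMat (F := F))).prod) 0 1 ≠ 0 := by
  cases L with
  | nil => exact absurd rfl hne
  | cons x L =>
    obtain ⟨y, hy⟩ := run L x hL _ (initial (F := F) x)
    have := final y _ hy
    rw [Matrix.vecMul_vecMul, ← List.prod_cons, ← List.map_cons] at this
    simpa [Matrix.vecMul, dotProduct, Fin.sum_univ_two] using this

/-! ### degree bounds -/

/-- all entries have degree at most `d` -/
def Bdd (d : ℕ) (A : Matrix (Fin 2) (Fin 2) F[X]) : Prop := ∀ i j, (A i j).natDegree ≤ d

theorem bdd_mul {a b : ℕ} {A B : Matrix (Fin 2) (Fin 2) F[X]} (hA : Bdd a A) (hB : Bdd b B) :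
    Bdd (a + b) (A * B) := by
  intro i j
  rw [Matrix.mul_apply, Fin.sum_univ_two]
  refine le_trans (natDegree_add_le _ _) (max_le ?_ ?_)
  · exact le_trans natDegree_mul_le (add_le_add (hA i 0) (hB 0 j))
  · exact le_trans natDegree_mul_le (add_le_add (hA i 1) (hB 1 j))

theorem bdd_one : Bdd 0 (1 : Matrix (Fin 2) (Fin 2) F[X]) := by
  intro i j
  fin_cases i <;> fin_cases j <;> simp

theorem bdd_uMat (f : F[X]) (d : ℕ) (hf : f.natDegree ≤ d) : Bdd d (uMat f) := by
  intro i j
  fin_cases i <;> fin_cases j <;> simp [uMat, hf]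

theorem bdd_lMat (f : F[X]) (d : ℕ) (hf : f.natDegree ≤ d) : Bdd d (lMat f) := by
  intro i j
  fin_cases i <;> fin_cases j <;> simp [lMat, hf]

theorem bdd_letterMat (x : ℕ × Bool) : Bdd (2 * (x.1 + 1)) (letterMat (F := F) x) := by
  rcases x with ⟨i, b⟩
  have h1 : ((X : F[X]) ^ (i + 1)).natDegree ≤ i + 1 := natDegree_X_pow_le _
  have h2 : (-(X : F[X]) ^ (i + 1)).natDegree ≤ i + 1 := by rw [natDegree_neg]; exact h1
  rw [two_mul]
  cases b
  · simp only [letterMat, cond_false]
    exact bdd_mul (bdd_lMat _ _ h2) (bdd_uMat _ _ h2)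
  · simp only [letterMat, cond_true]
    exact bdd_mul (bdd_uMat _ _ h1) (bdd_lMat _ _ h1)

theorem bdd_prod (L : List (ℕ × Bool)) :
    Bdd (L.map fun x => 2 * (x.1 + 1)).sum ((L.map (letterMat (F := F))).prod) := by
  induction L with
  | nil => simpa using bdd_one
  | cons x L ih =>
    rw [List.map_cons, List.map_cons, List.sum_cons, List.prod_cons]
    exact bdd_mul (bdd_letterMat x) ih

theorem lift_gen_val (w : FreeGroup ℕ) :
    ((FreeGroup.lift (gen F) w : Matrix.SpecialLinearGroup (Fin 2) F[X]) : Matrix (Fin 2) (Fin 2) F[X]) =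
      (w.toWord.map letterMat).prod := by
  conv_lhs => rw [← FreeGroup.mk_toWord (x := w), FreeGroup.lift_mk]
  generalize w.toWord = L
  induction L with
  | nil => simp
  | cons x L ih =>
    rw [List.map_cons, List.prod_cons, Matrix.SpecialLinearGroup.coe_mul, ih, letter_val,
      List.map_cons, List.prod_cons]

theorem result (w : FreeGroup ℕ) (hw : w ≠ 1) :
    ∃ N : ℕ, ∀ (F : Type*) [Field F] [Fintype F], N ≤ Fintype.card F →
      ∃ f : ℕ → Matrix.ProjectiveSpecialLinearGroup (Fin 2) F, FreeGroup.lift f w ≠ 1 := by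
  refine ⟨(w.toWord.map fun x => 2 * (x.1 + 1)).sum + 1, ?_⟩
  intro F _ _ hcard
  have hne : w.toWord ≠ [] := fun h => hw (FreeGroup.toWord_eq_nil_iff.1 h)
  set M := FreeGroup.lift (gen F) w with hM
  have hMval := lift_gen_val (F := F) w
  have h01 : (M : Matrix (Fin 2) (Fin 2) F[X]) 0 1 ≠ 0 := by
    rw [hMval]
    exact entry_ne_zero _ FreeGroup.isReduced_toWord hne
  have hdeg : ((M : Matrix (Fin 2) (Fin 2) F[X]) 0 1).natDegree < Fintype.card F := by
    rw [hMval]
    have := bdd_prod (F := F) w.toWord 0 1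
    omega
  obtain ⟨t, ht⟩ := Polynomial.exists_eval_ne_zero_of_natDegree_lt_card _ h01 (by
    rw [Cardinal.mk_fintype]
    exact_mod_cast hdeg)
  let φ := Matrix.SpecialLinearGroup.map (n := Fin 2) (Polynomial.evalRingHom t)
  let π := QuotientGroup.mk' (Subgroup.center (Matrix.SpecialLinearGroup (Fin 2) F))
  refine ⟨fun i => π (φ (gen F i)), ?_⟩
  have hlift : (π.comp (φ.comp (FreeGroup.lift (gen F)))) w = FreeGroup.lift (fun i => π (φ (gen F i))) w := by
    apply FreeGroup.lift_unique
    intro i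
    simp
  rw [← hlift]
  intro h1
  have hmem : φ M ∈ Subgroup.center (Matrix.SpecialLinearGroup (Fin 2) F) := by
    rw [← QuotientGroup.eq_one_iff]
    exact h1
  rw [Matrix.SpecialLinearGroup.mem_center_iff] at hmem
  obtain ⟨r, _, hr⟩ := hmem
  have h2 : ((φ M : Matrix.SpecialLinearGroup (Fin 2) F) : Matrix (Fin 2) (Fin 2) F) 0 1 = 0 := by
    rw [← hr]
    simp
  apply ht
  rw [Matrix.SpecialLinearGroup.map_apply_coe] at h2
  simpa using h2

end Cfsg.Agent.S2353
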