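import Cfsg.Statements.S2354
-- import your own Cfsg.Agent.* helpers here

set_option autoImplicit false
open Cfsg

namespace Cfsg.Agent.S2354

open Polynomial

section general

variable {R : Type*} [CommRing R]

/-- lower central root element -/
def uM (e : ℕ) (b : R) : Matrix (Fin 4) (Fin 4) R :=
  !![1, 0, 0, 0; 0, 1, 0, 0; b, 0, 1, 0; b ^ e, b, 0, 1]

/-- upper central root element -/
def lM (e : ℕ) (c : R) : Matrix (Fin 4) (Fin 4) R :=
  !![1, 0, c, c ^ e; 0, 1, 0, c; 0, 0, 1, 0; 0, 0, 0, 1]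

theorem uM_mul (e : ℕ) (hadd : ∀ x y : R, (x + y) ^ e = x ^ e + y ^ e) (b b' : R) :
    uM e b * uM e b' = uM e (b + b') := by
  ext i j
  fin_cases i <;> fin_cases j <;>
    simp [uM, Matrix.mul_apply, Fin.sum_univ_four, hadd]

theorem lM_mul (e : ℕ) (hadd : ∀ x y : R, (x + y) ^ e = x ^ e + y ^ e) (c c' : R) :
    lM e c * lM e c' = lM e (c + c') := by
  ext i j
  fin_cases i <;> fin_cases j <;>
    simp [lM, Matrix.mul_apply, Fin.sum_univ_four, hadd] <;> ring

theorem uM_zero (e : ℕ) (he : e ≠ 0) : uM e (0 : R) = 1 := by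
  ext i j
  fin_cases i <;> fin_cases j <;> simp [uM, he]

theorem lM_zero (e : ℕ) (he : e ≠ 0) : lM e (0 : R) = 1 := by
  ext i j
  fin_cases i <;> fin_cases j <;> simp [lM, he]

theorem vecMul_uM (e : ℕ) (r : Fin 4 → R) (b : R) :
    Matrix.vecMul r (uM e b) = ![r 0 + r 2 * b + r 3 * b ^ e, r 1 + r 3 * b, r 2, r 3] := by
  ext j
  fin_cases j <;> simp [uM, Matrix.vecMul, dotProduct, Fin.sum_univ_four]

theorem vecMul_lM (e : ℕ) (r : Fin 4 → R) (c : R) :
    Matrix.vecMul r (lM e c) = ![r 0, r 1, r 2 + r 0 * c, r 3 + r 1 * c + r 0 * c ^ e] := by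
  ext j
  fin_cases j <;> simp [lM, Matrix.vecMul, dotProduct, Fin.sum_univ_four] <;> ring

theorem uM_map {S : Type*} [CommRing S] (φ : R →+* S) (e : ℕ) (b : R) :
    (uM e b).map φ = uM e (φ b) := by
  ext i j
  fin_cases i <;> fin_cases j <;> simp [uM]

theorem lM_map {S : Type*} [CommRing S] (φ : R →+* S) (e : ℕ) (c : R) :
    (lM e c).map φ = lM e (φ c) := by
  ext i j
  fin_cases i <;> fin_cases j <;> simp [lM]

end general

section field

variable {F : Type*} [Field F]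

theorem uM_mem (e : ℕ) (he : e ≠ 0) (h2 : (2 : F) = 0) (b : F) (hb : (b ^ e) ^ e = b ^ 2)
    (g : Matrix.GeneralLinearGroup (Fin 4) F) (hg : (g : Matrix (Fin 4) (Fin 4) F) = uM e b) :
    g ∈ Cfsg.Lie.Sz F e := by
  apply Subgroup.subset_closure
  refine ⟨?_, ?_⟩
  · intro u v
    change Cfsg.Lie.altForm4 ((g : Matrix (Fin 4) (Fin 4) F).mulVec u)
      ((g : Matrix (Fin 4) (Fin 4) F).mulVec v) = Cfsg.Lie.altForm4 u v
    rw [hg]
    unfold Cfsg.Lie.altForm4
    simp [uM, Matrix.mulVec, dotProduct, Fin.sum_univ_four]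
    linear_combination (b * u 0 * v 1 + b * u 1 * v 0 + b ^ e * u 0 * v 0) * h2
  · rw [hg]
    ext i j
    fin_cases i <;> fin_cases j <;> simp [Cfsg.Lie.star4, Cfsg.Lie.pairOf, uM, zero_pow he]
    all_goals first | (linear_combination (-(b ^ e)) * h2) | (rw [hb]; ring)

theorem lM_mem (e : ℕ) (he : e ≠ 0) (h2 : (2 : F) = 0) (c : F) (hc : (c ^ e) ^ e = c ^ 2)
    (g : Matrix.GeneralLinearGroup (Fin 4) F) (hg : (g : Matrix (Fin 4) (Fin 4) F) = lM e c) :
    g ∈ Cfsg.Lie.Sz F e := by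
  apply Subgroup.subset_closure
  refine ⟨?_, ?_⟩
  · intro u v
    change Cfsg.Lie.altForm4 ((g : Matrix (Fin 4) (Fin 4) F).mulVec u)
      ((g : Matrix (Fin 4) (Fin 4) F).mulVec v) = Cfsg.Lie.altForm4 u v
    rw [hg]
    unfold Cfsg.Lie.altForm4
    simp [lM, Matrix.mulVec, dotProduct, Fin.sum_univ_four]
    linear_combination (c * u 2 * v 3 + c * u 3 * v 2 + c ^ e * u 3 * v 3) * h2
  · rw [hg]
    ext i j
    fin_cases i <;> fin_cases j <;> simp [Cfsg.Lie.star4, Cfsg.Lie.pairOf, lM, zero_pow he]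
    all_goals first | (linear_combination (-(c ^ e)) * h2) | (rw [hc]; ring)

end field

section poly

variable {F : Type*} [Field F]

/-- top-heavy row vectors -/
def TopH (r : Fin 4 → F[X]) : Prop :=
  r 0 ≠ 0 ∧ degree (r 1) ≤ degree (r 0) ∧ degree (r 2) ≤ degree (r 0) ∧ degree (r 3) ≤ degree (r 0)

/-- bottom-heavy row vectors -/
def BotH (r : Fin 4 → F[X]) : Prop :=
  r 3 ≠ 0 ∧ degree (r 0) ≤ degree (r 3) ∧ degree (r 1) ≤ degree (r 3) ∧ degree (r 2) ≤ degree (r 3)

theorem deg_mul_le' {p q : F[X]} {a k : ℕ} (hp : degree p ≤ (a : WithBot ℕ))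
    (hq : degree q ≤ (k : WithBot ℕ)) : degree (p * q) ≤ ((a + k : ℕ) : WithBot ℕ) := by
  rw [degree_mul]
  push_cast
  exact add_le_add hp hq

/-- the key degree computation: `x + y * c + z * c ^ e` is dominated by the last term -/
theorem deg_dominant (e : ℕ) (he : 2 ≤ e) (x y z c : F[X]) (hz : z ≠ 0) (hc : 0 < degree c)
    (hx : degree x ≤ degree z) (hy : degree y ≤ degree z) :
    degree (x + y * c + z * c ^ e) = ((z.natDegree + e * c.natDegree : ℕ) : WithBot ℕ) ∧
    degree (y + z * c) ≤ ((z.natDegree + e * c.natDegree : ℕ) : WithBot ℕ) := by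
  have hc0 : c ≠ 0 := ne_zero_of_degree_gt hc
  have hk : 0 < natDegree c := natDegree_pos_iff_degree_pos.2 hc
  have hdz : degree z = (z.natDegree : WithBot ℕ) := degree_eq_natDegree hz
  have hdc : degree c = (c.natDegree : WithBot ℕ) := degree_eq_natDegree hc0
  have hmain : degree (z * c ^ e) = ((z.natDegree + e * c.natDegree : ℕ) : WithBot ℕ) := by
    rw [degree_mul, degree_pow, hdz, hdc]
    push_cast
    rfl
  have hx' : degree x ≤ (z.natDegree : WithBot ℕ) := hdz ▸ hx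
  have hy' : degree y ≤ (z.natDegree : WithBot ℕ) := hdz ▸ hy
  have hyc : degree (y * c) ≤ ((z.natDegree + c.natDegree : ℕ) : WithBot ℕ) :=
    deg_mul_le' hy' (le_of_eq hdc)
  have hzc : degree (z * c) ≤ ((z.natDegree + c.natDegree : ℕ) : WithBot ℕ) :=
    deg_mul_le' (le_of_eq hdz) (le_of_eq hdc)
  have hlt1 : z.natDegree < z.natDegree + e * c.natDegree := by
    have : 0 < e * c.natDegree := Nat.mul_pos (by omega) hk
    omega
  have hlt2 : z.natDegree + c.natDegree < z.natDegree + e * c.natDegree := by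
    have : 2 * c.natDegree ≤ e * c.natDegree := Nat.mul_le_mul_right _ he
    omega
  constructor
  · have h1 : degree (x + y * c) < degree (z * c ^ e) := by
      rw [hmain]
      refine lt_of_le_of_lt (degree_add_le _ _) (max_lt ?_ ?_)
      · exact lt_of_le_of_lt hx' (by exact_mod_cast hlt1)
      · exact lt_of_le_of_lt hyc (by exact_mod_cast hlt2)
    rw [degree_add_eq_right_of_degree_lt h1, hmain]
  · refine le_trans (degree_add_le _ _) (max_le ?_ ?_)
    · exact le_trans hy' (by exact_mod_cast hlt1.le)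
    · exact le_trans hzc (by exact_mod_cast hlt2.le)

theorem stepL (e : ℕ) (he : 2 ≤ e) (r : Fin 4 → F[X]) (c : F[X]) (hc : 0 < degree c)
    (hr : TopH r) : BotH (Matrix.vecMul r (lM e c)) := by
  rw [vecMul_lM]
  obtain ⟨h0, h1, h2, h3⟩ := hr
  obtain ⟨hd, hd2⟩ := deg_dominant e he (r 3) (r 1) (r 0) c h0 hc h3 h1
  have hd2' := (deg_dominant e he (r 3) (r 2) (r 0) c h0 hc h3 h2).2
  have hlt : ((r 0).natDegree : WithBot ℕ) ≤ (((r 0).natDegree + e * c.natDegree : ℕ) : WithBot ℕ) := by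
    exact_mod_cast Nat.le_add_right _ _
  have hd0 : degree (r 0) = ((r 0).natDegree : WithBot ℕ) := degree_eq_natDegree h0
  unfold BotH
  simp only [Matrix.cons_val_zero, Matrix.cons_val_one, Matrix.cons_val]
  refine ⟨?_, ?_, ?_, ?_⟩
  · intro h
    rw [h, degree_zero] at hd
    exact absurd hd.symm (WithBot.coe_ne_bot)
  · rw [hd, hd0]; exact hlt
  · rw [hd]; exact le_trans h1 (hd0 ▸ hlt)
  · rw [hd]; exact hd2'

theorem stepU (e : ℕ) (he : 2 ≤ e) (r : Fin 4 → F[X]) (b : F[X]) (hb : 0 < degree b)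
    (hr : BotH r) : TopH (Matrix.vecMul r (uM e b)) := by
  rw [vecMul_uM]
  obtain ⟨h3, h0, h1, h2⟩ := hr
  obtain ⟨hd, _⟩ := deg_dominant e he (r 0) (r 2) (r 3) b h3 hb h0 h2
  have hd1 := (deg_dominant e he (r 0) (r 1) (r 3) b h3 hb h0 h1).2
  have hlt : ((r 3).natDegree : WithBot ℕ) ≤ (((r 3).natDegree + e * b.natDegree : ℕ) : WithBot ℕ) := by
    exact_mod_cast Nat.le_add_right _ _
  have hd3 : degree (r 3) = ((r 3).natDegree : WithBot ℕ) := degree_eq_natDegree h3
  unfold TopH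
  simp only [Matrix.cons_val_zero, Matrix.cons_val_one, Matrix.cons_val]
  refine ⟨?_, ?_, ?_, ?_⟩
  · intro h
    rw [h, degree_zero] at hd
    exact absurd hd.symm (WithBot.coe_ne_bot)
  · rw [hd]; exact hd1
  · rw [hd]; exact le_trans h2 (hd3 ▸ hlt)
  · rw [hd, hd3]; exact hlt

theorem deg_pow_pos (i : ℕ) : 0 < degree ((X : F[X]) ^ (i + 1)) := by
  rw [degree_X_pow]
  exact_mod_cast Nat.succ_pos i

theorem deg_add_pow_pos (i j : ℕ) (hij : i ≠ j) :
    0 < degree ((X : F[X]) ^ (i + 1) + X ^ (j + 1)) := by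
  rcases lt_or_gt_of_ne hij with h | h
  · have : degree ((X : F[X]) ^ (i + 1)) < degree ((X : F[X]) ^ (j + 1)) := by
      rw [degree_X_pow, degree_X_pow]
      exact_mod_cast Nat.succ_lt_succ h
    rw [degree_add_eq_right_of_degree_lt this]
    exact deg_pow_pos j
  · have : degree ((X : F[X]) ^ (j + 1)) < degree ((X : F[X]) ^ (i + 1)) := by
      rw [degree_X_pow, degree_X_pow]
      exact_mod_cast Nat.succ_lt_succ h
    rw [degree_add_eq_left_of_degree_lt this]
    exact deg_pow_pos i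

/-- The matrix attached to a letter. -/
noncomputable def letterMat (e : ℕ) (x : ℕ × Bool) : Matrix (Fin 4) (Fin 4) F[X] :=
  bif x.2 then uM e (X ^ (x.1 + 1)) * lM e (X ^ (x.1 + 1))
  else lM e (X ^ (x.1 + 1)) * uM e (X ^ (x.1 + 1))

/-- The state of the first row after a given last letter. -/
def St (e : ℕ) : ℕ × Bool → (Fin 4 → F[X]) → Prop
  | (i, true), r => ∃ r', TopH r' ∧ r = Matrix.vecMul r' (lM e (X ^ (i + 1)))
  | (i, false), r => ∃ r', BotH r' ∧ r = Matrix.vecMul r' (uM e (X ^ (i + 1)))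

theorem St_botH_of_true (e : ℕ) (he : 2 ≤ e) (i : ℕ) (r : Fin 4 → F[X]) (h : St e (i, true) r) :
    BotH r := by
  obtain ⟨r', hr', rfl⟩ := h
  exact stepL e he r' _ (deg_pow_pos i) hr'

theorem St_topH_of_false (e : ℕ) (he : 2 ≤ e) (i : ℕ) (r : Fin 4 → F[X]) (h : St e (i, false) r) :
    TopH r := by
  obtain ⟨r', hr', rfl⟩ := h
  exact stepU e he r' _ (deg_pow_pos i) hr'

theorem transition (e : ℕ) (he : 2 ≤ e) (hadd : ∀ x y : F[X], (x + y) ^ e = x ^ e + y ^ e)
    (p x : ℕ × Bool) (hpx : p.1 = x.1 → p.2 = x.2) (r : Fin 4 → F[X]) (hr : St e p r) :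
    St e x (Matrix.vecMul r (letterMat e x)) := by
  rcases p with ⟨i, bp⟩
  rcases x with ⟨j, bx⟩
  cases bp <;> cases bx
  · -- false, false
    simp only [letterMat, cond_false]
    rw [← Matrix.vecMul_vecMul]
    exact ⟨_, stepL e he r _ (deg_pow_pos j) (St_topH_of_false e he i r hr), rfl⟩
  · -- false, true
    have hij : i ≠ j := fun h => by simpa using hpx h
    obtain ⟨r', hr', rfl⟩ := hr
    simp only [letterMat, cond_true]
    rw [← Matrix.vecMul_vecMul, Matrix.vecMul_vecMul r', uM_mul e hadd]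
    exact ⟨_, stepU e he r' _ (deg_add_pow_pos i j hij) hr', rfl⟩
  · -- true, false
    have hij : i ≠ j := fun h => by simpa using hpx h
    obtain ⟨r', hr', rfl⟩ := hr
    simp only [letterMat, cond_false]
    rw [← Matrix.vecMul_vecMul, Matrix.vecMul_vecMul r', lM_mul e hadd]
    exact ⟨_, stepL e he r' _ (deg_add_pow_pos i j hij) hr', rfl⟩
  · -- true, true
    simp only [letterMat, cond_true]
    rw [← Matrix.vecMul_vecMul]
    exact ⟨_, stepU e he r _ (deg_pow_pos j) (St_botH_of_true e he i r hr), rfl⟩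

theorem topH_e0 : TopH (![1, 0, 0, 0] : Fin 4 → F[X]) := by
  unfold TopH
  simp

theorem initial (e : ℕ) (he : 2 ≤ e) (x : ℕ × Bool) :
    St e x (Matrix.vecMul (![1, 0, 0, 0] : Fin 4 → F[X]) (letterMat e x)) := by
  rcases x with ⟨j, bx⟩
  cases bx
  · simp only [letterMat, cond_false]
    rw [← Matrix.vecMul_vecMul]
    exact ⟨_, stepL e he _ _ (deg_pow_pos j) topH_e0, rfl⟩
  · simp only [letterMat, cond_true]
    rw [← Matrix.vecMul_vecMul]
    refine ⟨_, ?_, rfl⟩
    rw [vecMul_uM]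
    simpa using topH_e0 (F := F)

theorem final (e : ℕ) (he : 2 ≤ e) (x : ℕ × Bool) (r : Fin 4 → F[X]) (h : St e x r) : r 3 ≠ 0 := by
  rcases x with ⟨i, b⟩
  cases b
  · obtain ⟨r', hr', rfl⟩ := h
    rw [vecMul_uM]
    exact hr'.1
  · exact (St_botH_of_true e he i r h).1

theorem run (e : ℕ) (he : 2 ≤ e) (hadd : ∀ x y : F[X], (x + y) ^ e = x ^ e + y ^ e)
    (L : List (ℕ × Bool)) (p : ℕ × Bool) (hred : FreeGroup.IsReduced (p :: L))
    (r : Fin 4 → F[X]) (hr : St e p r) :
    ∃ y, St e y (Matrix.vecMul r (L.map (letterMat e)).prod) := by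
  induction L generalizing p r with
  | nil => exact ⟨p, by simpa using hr⟩
  | cons x L ih =>
    rw [FreeGroup.isReduced_cons_cons] at hred
    rw [List.map_cons, List.prod_cons, ← Matrix.vecMul_vecMul]
    exact ih x hred.2 _ (transition e he hadd p x hred.1 r hr)

theorem entry_ne_zero (e : ℕ) (he : 2 ≤ e) (hadd : ∀ x y : F[X], (x + y) ^ e = x ^ e + y ^ e)
    (L : List (ℕ × Bool)) (hL : FreeGroup.IsReduced L) (hne : L ≠ []) :
    ((L.map (letterMat (F := F) e)).prod) 0 3 ≠ 0 := by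
  cases L with
  | nil => exact absurd rfl hne
  | cons x L =>
    obtain ⟨y, hy⟩ := run e he hadd L x hL _ (initial (F := F) e he x)
    have := final e he y _ hy
    rw [Matrix.vecMul_vecMul, ← List.prod_cons, ← List.map_cons] at this
    simpa [Matrix.vecMul, dotProduct, Fin.sum_univ_four] using this

/-! ### degree bounds -/

/-- all entries have degree at most `d` -/
def Bdd (d : ℕ) (A : Matrix (Fin 4) (Fin 4) F[X]) : Prop := ∀ i j, (A i j).natDegree ≤ d

theorem bdd_mul {a b : ℕ} {A B : Matrix (Fin 4) (Fin 4) F[X]} (hA : Bdd a A) (hB : Bdd b B) :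
    Bdd (a + b) (A * B) := by
  intro i j
  rw [Matrix.mul_apply]
  apply natDegree_sum_le_of_forall_le
  intro k _
  exact le_trans natDegree_mul_le (add_le_add (hA i k) (hB k j))

theorem bdd_one : Bdd 0 (1 : Matrix (Fin 4) (Fin 4) F[X]) := by
  intro i j
  fin_cases i <;> fin_cases j <;> simp

theorem bdd_uM (e : ℕ) (he : 1 ≤ e) (f : F[X]) (d : ℕ) (hf : f.natDegree ≤ d) :
    Bdd (e * d) (uM e f) := by
  have h1 : f.natDegree ≤ e * d := le_trans hf (Nat.le_mul_of_pos_left d he)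
  have h2 : (f ^ e).natDegree ≤ e * d :=
    le_trans natDegree_pow_le (Nat.mul_le_mul_left e hf)
  have h3 : e * f.natDegree ≤ e * d := Nat.mul_le_mul_left e hf
  intro i j
  fin_cases i <;> fin_cases j <;> simp [uM, h1, h3]

theorem bdd_lM (e : ℕ) (he : 1 ≤ e) (f : F[X]) (d : ℕ) (hf : f.natDegree ≤ d) :
    Bdd (e * d) (lM e f) := by
  have h1 : f.natDegree ≤ e * d := le_trans hf (Nat.le_mul_of_pos_left d he)
  have h2 : (f ^ e).natDegree ≤ e * d :=
    le_trans natDegree_pow_le (Nat.mul_le_mul_left e hf)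
  have h3 : e * f.natDegree ≤ e * d := Nat.mul_le_mul_left e hf
  intro i j
  fin_cases i <;> fin_cases j <;> simp [lM, h1, h3]

theorem bdd_letterMat (e : ℕ) (he : 1 ≤ e) (x : ℕ × Bool) :
    Bdd (e * (2 * (x.1 + 1))) (letterMat (F := F) e x) := by
  rcases x with ⟨i, b⟩
  have h1 : ((X : F[X]) ^ (i + 1)).natDegree ≤ i + 1 := natDegree_X_pow_le _
  have : e * (2 * (i + 1)) = e * (i + 1) + e * (i + 1) := by ring
  simp only [this]
  cases b
  · simp only [letterMat, cond_false]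
    exact bdd_mul (bdd_lM e he _ _ h1) (bdd_uM e he _ _ h1)
  · simp only [letterMat, cond_true]
    exact bdd_mul (bdd_uM e he _ _ h1) (bdd_lM e he _ _ h1)

theorem bdd_prod (e : ℕ) (he : 1 ≤ e) (L : List (ℕ × Bool)) :
    Bdd (e * (L.map fun x => 2 * (x.1 + 1)).sum) ((L.map (letterMat (F := F) e)).prod) := by
  induction L with
  | nil => simpa using bdd_one
  | cons x L ih =>
    rw [List.map_cons, List.map_cons, List.sum_cons, List.prod_cons, mul_add]
    exact bdd_mul (bdd_letterMat e he x) ih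

end poly

theorem result (w : FreeGroup ℕ) (hw : w ≠ 1) :
    ∃ N : ℕ, ∀ (F : Type*) [Field F] [Fintype F] (m : ℕ), 1 ≤ m → N ≤ m →
      Fintype.card F = 2 ^ (2 * m + 1) →
      ∃ f : ℕ → ↥(Cfsg.Lie.Sz F (2 ^ (m + 1))), FreeGroup.lift f w ≠ 1 := by
  refine ⟨(w.toWord.map fun x => 2 * (x.1 + 1)).sum, ?_⟩
  intro F _ _ m hm1 hNm hcard
  have hne : w.toWord ≠ [] := fun h => hw (FreeGroup.toWord_eq_nil_iff.1 h)
  set e : ℕ := 2 ^ (m + 1) with he
  have he2 : 2 ≤ e := by
    rw [he, pow_succ]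
    have : 1 ≤ 2 ^ m := Nat.one_le_two_pow
    omega
  have he0 : e ≠ 0 := by omega
  -- characteristic two
  obtain ⟨p, hp⟩ := CharP.exists F
  obtain ⟨n, hpp, hn⟩ := FiniteField.card F p
  have hpdvd : p ∣ 2 ^ (2 * m + 1) := by
    rw [← hcard, hn]
    exact dvd_pow_self p n.ne_zero
  have hp2 : p = 2 := (Nat.prime_dvd_prime_iff_eq hpp Nat.prime_two).1 (hpp.dvd_of_dvd_pow hpdvd)
  subst hp2
  have h2 : (2 : F) = 0 := by exact_mod_cast CharP.cast_eq_zero F 2
  have haddF : ∀ x y : F, (x + y) ^ e = x ^ e + y ^ e := by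
    intro x y
    rw [he]
    exact add_pow_char_pow x y 2 (m + 1)
  have hadd : ∀ x y : F[X], (x + y) ^ e = x ^ e + y ^ e := by
    intro x y
    rw [he]
    exact add_pow_char_pow x y 2 (m + 1)
  have hfrob : ∀ b : F, (b ^ e) ^ e = b ^ 2 := by
    intro b
    have hee : e * e = Fintype.card F * 2 := by
      rw [hcard, he, ← pow_add, ← pow_succ]
      congr 1
      omega
    rw [← pow_mul, hee, pow_mul, FiniteField.pow_card]
  -- the polynomial matrix
  set M := (w.toWord.map (letterMat (F := F) e)).prod with hM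
  have h03 : M 0 3 ≠ 0 := entry_ne_zero e he2 hadd _ FreeGroup.isReduced_toWord hne
  have hdeg : (M 0 3).natDegree < Fintype.card F := by
    have hb : (M 0 3).natDegree ≤ e * (w.toWord.map fun x => 2 * (x.1 + 1)).sum :=
      bdd_prod (F := F) e (by omega) w.toWord 0 3
    have hm2 : m < 2 ^ m := Nat.lt_two_pow_self
    have hS : (w.toWord.map fun x => 2 * (x.1 + 1)).sum < 2 ^ m := lt_of_le_of_lt hNm hm2
    have : e * (w.toWord.map fun x => 2 * (x.1 + 1)).sum < e * 2 ^ m :=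
      Nat.mul_lt_mul_of_pos_left hS (by omega)
    have hq : e * 2 ^ m = Fintype.card F := by
      rw [hcard, he, ← pow_add]
      congr 1
      omega
    omega
  obtain ⟨t, ht⟩ := Polynomial.exists_eval_ne_zero_of_natDegree_lt_card _ h03 (by
    rw [Cardinal.mk_fintype]
    exact_mod_cast hdeg)
  -- the group elements
  have hUU : ∀ b : F, uM e b * uM e b = 1 := by
    intro b
    rw [uM_mul e haddF]
    have : b + b = 0 := by linear_combination b * h2
    rw [this, uM_zero e he0]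
  have hLL : ∀ c : F, lM e c * lM e c = 1 := by
    intro c
    rw [lM_mul e haddF]
    have : c + c = 0 := by linear_combination c * h2
    rw [this, lM_zero e he0]
  let gU : ℕ → Matrix.GeneralLinearGroup (Fin 4) F := fun i =>
    ⟨uM e (t ^ (i + 1)), uM e (t ^ (i + 1)), hUU _, hUU _⟩
  let gL : ℕ → Matrix.GeneralLinearGroup (Fin 4) F := fun i =>
    ⟨lM e (t ^ (i + 1)), lM e (t ^ (i + 1)), hLL _, hLL _⟩
  have hgU : ∀ i, gU i ∈ Cfsg.Lie.Sz F e := fun i =>
    uM_mem e he0 h2 (t ^ (i + 1)) (hfrob _) (gU i) rfl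
  have hgL : ∀ i, gL i ∈ Cfsg.Lie.Sz F e := fun i =>
    lM_mem e he0 h2 (t ^ (i + 1)) (hfrob _) (gL i) rfl
  have hgUinv : ∀ i, (gU i)⁻¹ = gU i := fun i => rfl
  have hgLinv : ∀ i, (gL i)⁻¹ = gL i := fun i => rfl
  let f : ℕ → ↥(Cfsg.Lie.Sz F e) := fun i => ⟨gU i * gL i, mul_mem (hgU i) (hgL i)⟩
  refine ⟨f, ?_⟩
  -- evaluate
  let ψ : ↥(Cfsg.Lie.Sz F e) →* Matrix (Fin 4) (Fin 4) F :=
    (Units.coeHom (Matrix (Fin 4) (Fin 4) F)).comp (Cfsg.Lie.Sz F e).subtype
  let φ : F[X] →+* F := Polynomial.evalRingHom t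
  have hletter : ∀ x : ℕ × Bool, ψ (bif x.2 then f x.1 else (f x.1)⁻¹) = (letterMat e x).map φ := by
    rintro ⟨i, b⟩
    cases b
    · simp only [cond_false, letterMat]
      rw [Matrix.map_mul, lM_map, uM_map]
      have : ψ (f i)⁻¹ = ((gL i : Matrix.GeneralLinearGroup (Fin 4) F) : Matrix (Fin 4) (Fin 4) F)
          * ((gU i : Matrix.GeneralLinearGroup (Fin 4) F) : Matrix (Fin 4) (Fin 4) F) := by
        change (((gU i * gL i)⁻¹ : Matrix.GeneralLinearGroup (Fin 4) F) : Matrix (Fin 4) (Fin 4) F) = _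
        rw [mul_inv_rev, hgUinv, hgLinv, Units.val_mul]
      rw [this]
      simp [gU, gL, φ]
    · simp only [cond_true, letterMat]
      rw [Matrix.map_mul, lM_map, uM_map]
      have : ψ (f i) = ((gU i : Matrix.GeneralLinearGroup (Fin 4) F) : Matrix (Fin 4) (Fin 4) F)
          * ((gL i : Matrix.GeneralLinearGroup (Fin 4) F) : Matrix (Fin 4) (Fin 4) F) := by
        change (((gU i * gL i) : Matrix.GeneralLinearGroup (Fin 4) F) : Matrix (Fin 4) (Fin 4) F) = _
        rw [Units.val_mul]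
      rw [this]
      simp [gU, gL, φ]
  have hval : ψ (FreeGroup.lift f w) = M.map φ := by
    conv_lhs => rw [← FreeGroup.mk_toWord (x := w), FreeGroup.lift_mk]
    rw [hM]
    have h1 : ((w.toWord.map (letterMat (F := F) e)).prod).map φ
        = (φ.mapMatrix) ((w.toWord.map (letterMat (F := F) e)).prod) := rfl
    rw [h1, map_list_prod, map_list_prod, List.map_map, List.map_map]
    congr 1
    apply List.map_congr_left
    intro x _
    simp only [Function.comp_apply]
    rw [hletter x]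
    rfl
  intro h1
  rw [h1, map_one] at hval
  have h3 : (M.map φ) 0 3 = 0 := by
    rw [← hval]
    simp
  apply ht
  simpa [φ] using h3

end Cfsg.Agent.S2354
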