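import Cfsg.Statements.S2355
import Cfsg.Agent.S2352
import Cfsg.Agent.S2353
import Cfsg.Agent.Lib.Helper46.LawTransfer
import Cfsg.Agent.Lib.Helper46.ClassicalEmb
import Cfsg.Agent.Lib.Helper46.UnitaryEmb

set_option autoImplicit false
open Cfsg

namespace Cfsg.Agent.S2355

open Cfsg.Agent.Lib.Helper46

/-- A law in `K / Z(K)` bounds the degree of an alternating group embedded in `K`. -/
theorem alt_bound (w : FreeGroup ℕ) (NA : ℕ)
    (hNA : ∀ n : ℕ, NA ≤ n → ∃ f : ℕ → alternatingGroup (Fin n), FreeGroup.lift f w ≠ 1)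
    {K : Type*} [Group K] (hK : ∀ f : ℕ → K ⧸ Subgroup.center K, FreeGroup.lift f w = 1)
    (k : ℕ) (hk5 : 5 ≤ k) (ψ : alternatingGroup (Fin k) →* K) (hψ : Function.Injective ψ) :
    k < NA := by
  by_contra hcon
  rw [not_lt] at hcon
  obtain ⟨f, hf⟩ := hNA k hcon
  have hlaw := law_center_quot_of_injective ψ hψ w hK
  have h1 := hlaw (fun i => (QuotientGroup.mk' (Subgroup.center (alternatingGroup (Fin k)))) (f i))
  rw [← map_lift_word, QuotientGroup.mk'_apply, QuotientGroup.eq_one_iff,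
    alternatingGroup.center_eq_bot (by simpa using (by omega : 4 ≤ k)), Subgroup.mem_bot] at h1
  exact hf h1

/-- A law in `K / Z(K)` bounds the size of a field `F'` with `SL₂(F')` embedded in `K`. -/
theorem field_bound (w : FreeGroup ℕ) (NL : ℕ)
    (hNL : ∀ (F : Type) [Field F] [Fintype F], NL ≤ Fintype.card F →
      ∃ f : ℕ → Matrix.ProjectiveSpecialLinearGroup (Fin 2) F, FreeGroup.lift f w ≠ 1)
    {K : Type*} [Group K] (hK : ∀ f : ℕ → K ⧸ Subgroup.center K, FreeGroup.lift f w = 1)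
    (F' : Type) [Field F'] [Fintype F']
    (ψ : Matrix.SpecialLinearGroup (Fin 2) F' →* K) (hψ : Function.Injective ψ) :
    Fintype.card F' < NL := by
  by_contra hcon
  rw [not_lt] at hcon
  obtain ⟨f, hf⟩ := hNL F' hcon
  exact hf (law_center_quot_of_injective ψ hψ w hK f)

theorem num_bound {a d qL nA : ℕ} (ha : a ≤ qL ^ 2) (hd : d ≤ 2 * nA + 1) (hq : 0 < qL) :
    a ^ (d * d) ≤ (qL ^ 2) ^ ((2 * nA + 1) ^ 2) + nA.factorial := by
  have h1 : a ^ (d * d) ≤ (qL ^ 2) ^ (d * d) := Nat.pow_le_pow_left ha _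
  have h2 : (qL ^ 2) ^ (d * d) ≤ (qL ^ 2) ^ ((2 * nA + 1) ^ 2) := by
    apply Nat.pow_le_pow_right (by positivity)
    rw [sq]
    exact Nat.mul_le_mul hd hd
  omega

theorem le_sq_of_lt {x NL qL : ℕ} (hx : x < NL) (hq : NL ≤ qL) (hq0 : 0 < qL) : x ≤ qL ^ 2 := by
  have : qL ≤ qL ^ 2 := by
    rw [sq]; exact Nat.le_mul_of_pos_left qL hq0
  omega

theorem result (w : FreeGroup ℕ) (hw : w ≠ 1) :
    ∃ N : ℕ, ∀ (G : Type*) [Group G] [Finite G],
      (Cfsg.IsAlternating G ∨ Cfsg.IsPSL G ∨ Cfsg.IsPSp G ∨ Cfsg.IsPSU G ∨ Cfsg.IsPOmegaOdd G ∨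
          Cfsg.IsPOmegaPlus G ∨ Cfsg.IsPOmegaMinus G) →
      (∀ f : ℕ → G, FreeGroup.lift f w = 1) → Nat.card G ≤ N := by
  obtain ⟨NA, hNA⟩ := Cfsg.Agent.S2352.result w hw
  obtain ⟨NL, hNL⟩ := Cfsg.Agent.S2353.result.{0} w hw
  set nA := max NA 5 with hnA
  set qL := max NL 4 with hqL
  have hnA1 : NA ≤ nA := le_max_left _ _
  have hnA2 : 5 ≤ nA := le_max_right _ _
  have hqL1 : NL ≤ qL := le_max_left _ _
  have hqL2 : 4 ≤ qL := le_max_right _ _
  have hqL0 : 0 < qL := by omega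
  refine ⟨(qL ^ 2) ^ ((2 * nA + 1) ^ 2) + nA.factorial, ?_⟩
  intro G _ _ hfam hlaw
  rcases hfam with hA | hL | hSp | hU | hO | hP | hM
  · -- alternating
    obtain ⟨n, hn5, ⟨e⟩⟩ := hA
    have hlaw' := law_of_mulEquiv e w hlaw
    have hn : n < NA := by
      by_contra hcon
      rw [not_lt] at hcon
      obtain ⟨f, hf⟩ := hNA n hcon
      exact hf (hlaw' f)
    rw [Nat.card_congr e.toEquiv]
    have h1 : Nat.card (alternatingGroup (Fin n)) ≤ Nat.card (Equiv.Perm (Fin n)) :=
      Nat.card_le_card_of_injective _ Subtype.val_injective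
    have h2 : Nat.card (Equiv.Perm (Fin n)) = n.factorial := by
      rw [Nat.card_eq_fintype_card, Fintype.card_perm, Fintype.card_fin]
    have h3 : n.factorial ≤ nA.factorial := Nat.factorial_le (by omega)
    omega
  · -- linear
    obtain ⟨F, _, _, n, hn2, _, ⟨e⟩⟩ := hL
    have hK : ∀ f : ℕ → Matrix.SpecialLinearGroup (Fin n) F ⧸
        Subgroup.center (Matrix.SpecialLinearGroup (Fin n) F), FreeGroup.lift f w = 1 :=
      law_of_mulEquiv e w hlaw
    have hF : Fintype.card F < NL :=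
      field_bound w NL hNL hK F (liftSL (sl2GL n hn2) (det_sl2GL n hn2))
        (liftSL_injective _ _ (sl2GL_injective n hn2))
    have hn : n < nA := by
      by_contra hcon
      rw [not_lt] at hcon
      have := alt_bound w NA hNA hK n (by omega) (liftSL (altGL n) (det_altGL n))
        (liftSL_injective _ _ (altGL_injective n))
      omega
    rw [Nat.card_congr e.toEquiv]
    have hc := card_center_quot_le (K := Matrix.SpecialLinearGroup (Fin n) F)
      (fun A => (A : Matrix (Fin n) (Fin n) F)) Subtype.val_injective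
    rw [Fintype.card_fin] at hc
    exact hc.trans (num_bound (le_sq_of_lt hF hqL1 hqL0) (by omega) hqL0)
  · -- symplectic
    obtain ⟨F, _, _, m, hm2, _, ⟨e⟩⟩ := hSp
    have hK : ∀ f : ℕ → Matrix.symplecticGroup (Fin m) F ⧸
        Subgroup.center (Matrix.symplecticGroup (Fin m) F), FreeGroup.lift f w = 1 :=
      law_of_mulEquiv e w hlaw
    have hF : Fintype.card F < NL := by
      obtain ⟨ψ, hψ⟩ := exists_hom_Sp (sl2GL (F := F) m hm2) (sl2GL_injective m hm2)
      exact field_bound w NL hNL hK F ψ hψ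
    have hn : m < nA := by
      by_contra hcon
      rw [not_lt] at hcon
      obtain ⟨ψ, hψ⟩ := exists_hom_Sp (altGL (F := F) m) (altGL_injective m)
      have := alt_bound w NA hNA hK m (by omega) ψ hψ
      omega
    rw [Nat.card_congr e.toEquiv]
    have hc := card_center_quot_le (K := Matrix.symplecticGroup (Fin m) F)
      (fun A => (A : Matrix (Fin m ⊕ Fin m) (Fin m ⊕ Fin m) F)) Subtype.val_injective
    rw [Fintype.card_sum, Fintype.card_fin] at hc
    exact hc.trans (num_bound (le_sq_of_lt hF hqL1 hqL0) (by omega) hqL0)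
  · -- unitary
    obtain ⟨F, _, _, n, q, hFq, hn3, _, ⟨e⟩⟩ := hU
    have hK : ∀ f : ℕ → ↥(Cfsg.SU n F q) ⧸ Subgroup.center ↥(Cfsg.SU n F q),
        FreeGroup.lift f w = 1 :=
      law_of_mulEquiv e w hlaw
    have hq : q < NL := by
      obtain ⟨ψ, hψ⟩ := exists_hom_sl2_SU hFq n (by omega)
      let _ : Fintype ↥(fixedField hFq) := Fintype.ofFinite _
      have h1 := field_bound w NL hNL hK ↥(fixedField hFq) ψ hψ
      have h2 := le_card_fixedField hFq
      rw [Nat.card_eq_fintype_card] at h2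
      omega
    have hF : Fintype.card F ≤ qL ^ 2 := by
      rw [hFq]
      exact Nat.pow_le_pow_left (by omega) 2
    have hn : n < nA := by
      by_contra hcon
      rw [not_lt] at hcon
      obtain ⟨ψ, hψ⟩ := exists_hom_alt_SU (F := F) (q := q) n
      have := alt_bound w NA hNA hK n (by omega) ψ hψ
      omega
    rw [Nat.card_congr e.toEquiv]
    have hc := card_center_quot_le (K := ↥(Cfsg.SU n F q))
      (fun A => ((A : Matrix.SpecialLinearGroup (Fin n) F) : Matrix (Fin n) (Fin n) F))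
      (Subtype.val_injective.comp Subtype.val_injective)
    rw [Fintype.card_fin] at hc
    exact hc.trans (num_bound hF (by omega) hqL0)
  · -- odd orthogonal
    obtain ⟨F, _, _, m, hm3, _, ⟨e⟩⟩ := hO
    have hK : ∀ f : ℕ → ↥(Cfsg.Omega F (Cfsg.quadFormOdd m F)) ⧸
        Subgroup.center ↥(Cfsg.Omega F (Cfsg.quadFormOdd m F)), FreeGroup.lift f w = 1 :=
      law_of_mulEquiv e w hlaw
    have hQ : ∀ v : Unit ⊕ (Fin m ⊕ Fin m) → F, Cfsg.quadFormOdd m F v
        = (∑ i, v (Equiv.sumComm (Fin m ⊕ Fin m) Unit (Sum.inl (Sum.inl i)))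
            * v (Equiv.sumComm (Fin m ⊕ Fin m) Unit (Sum.inl (Sum.inr i))))
          + (fun z : Unit → F => z () ^ 2)
            (fun r => v (Equiv.sumComm (Fin m ⊕ Fin m) Unit (Sum.inr r))) := by
      intro v
      unfold Cfsg.quadFormOdd
      rw [add_comm]
      rfl
    have hF : Fintype.card F < qL := by
      by_contra hcon
      rw [not_lt] at hcon
      obtain ⟨ψ, hψ⟩ := exists_hom_Omega (Equiv.sumComm (Fin m ⊕ Fin m) Unit)
        (fun z : Unit → F => z () ^ 2) (Cfsg.quadFormOdd m F) hQ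
        (sl2GL (F := F) m (by omega)) (sl2GL_injective m (by omega)) (sl2_perfect (by omega))
      have := field_bound w NL hNL hK F ψ hψ
      omega
    have hn : m < nA := by
      by_contra hcon
      rw [not_lt] at hcon
      obtain ⟨ψ, hψ⟩ := exists_hom_Omega (Equiv.sumComm (Fin m ⊕ Fin m) Unit)
        (fun z : Unit → F => z () ^ 2) (Cfsg.quadFormOdd m F) hQ
        (altGL (F := F) m) (altGL_injective m) (alt_perfect m (by omega))
      have := alt_bound w NA hNA hK m (by omega) ψ hψ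
      omega
    rw [Nat.card_congr e.toEquiv]
    have hc := card_center_quot_le (K := ↥(Cfsg.Omega F (Cfsg.quadFormOdd m F)))
      (fun A => (((A : ↥(Cfsg.isometryGroup F (Cfsg.quadFormOdd m F))) :
        Matrix.GeneralLinearGroup (Unit ⊕ (Fin m ⊕ Fin m)) F) :
          Matrix (Unit ⊕ (Fin m ⊕ Fin m)) (Unit ⊕ (Fin m ⊕ Fin m)) F))
      (Units.val_injective.comp (Subtype.val_injective.comp Subtype.val_injective))
    rw [Fintype.card_sum, Fintype.card_sum, Fintype.card_fin, Fintype.card_unit] at hc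
    exact hc.trans (num_bound (by
      have : qL ≤ qL ^ 2 := by rw [sq]; exact Nat.le_mul_of_pos_left qL hqL0
      omega) (by omega) hqL0)
  · -- plus orthogonal
    obtain ⟨F, _, _, m, hm4, ⟨e⟩⟩ := hP
    have hK : ∀ f : ℕ → ↥(Cfsg.Omega F (Cfsg.quadFormPlus m F)) ⧸
        Subgroup.center ↥(Cfsg.Omega F (Cfsg.quadFormPlus m F)), FreeGroup.lift f w = 1 :=
      law_of_mulEquiv e w hlaw
    have hQ : ∀ v : Fin m ⊕ Fin m → F, Cfsg.quadFormPlus m F v
        = (∑ i, v (Equiv.sumEmpty (Fin m ⊕ Fin m) Empty (Sum.inl (Sum.inl i)))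
            * v (Equiv.sumEmpty (Fin m ⊕ Fin m) Empty (Sum.inl (Sum.inr i))))
          + (fun _ : Empty → F => (0 : F))
            (fun r => v (Equiv.sumEmpty (Fin m ⊕ Fin m) Empty (Sum.inr r))) := by
      intro v
      unfold Cfsg.quadFormPlus
      rw [add_zero]
      rfl
    have hF : Fintype.card F < qL := by
      by_contra hcon
      rw [not_lt] at hcon
      obtain ⟨ψ, hψ⟩ := exists_hom_Omega (Equiv.sumEmpty (Fin m ⊕ Fin m) Empty)
        (fun _ : Empty → F => (0 : F)) (Cfsg.quadFormPlus m F) hQ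
        (sl2GL (F := F) m (by omega)) (sl2GL_injective m (by omega)) (sl2_perfect (by omega))
      have := field_bound w NL hNL hK F ψ hψ
      omega
    have hn : m < nA := by
      by_contra hcon
      rw [not_lt] at hcon
      obtain ⟨ψ, hψ⟩ := exists_hom_Omega (Equiv.sumEmpty (Fin m ⊕ Fin m) Empty)
        (fun _ : Empty → F => (0 : F)) (Cfsg.quadFormPlus m F) hQ
        (altGL (F := F) m) (altGL_injective m) (alt_perfect m (by omega))
      have := alt_bound w NA hNA hK m (by omega) ψ hψ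
      omega
    rw [Nat.card_congr e.toEquiv]
    have hc := card_center_quot_le (K := ↥(Cfsg.Omega F (Cfsg.quadFormPlus m F)))
      (fun A => (((A : ↥(Cfsg.isometryGroup F (Cfsg.quadFormPlus m F))) :
        Matrix.GeneralLinearGroup (Fin m ⊕ Fin m) F) :
          Matrix (Fin m ⊕ Fin m) (Fin m ⊕ Fin m) F))
      (Units.val_injective.comp (Subtype.val_injective.comp Subtype.val_injective))
    rw [Fintype.card_sum, Fintype.card_fin] at hc
    exact hc.trans (num_bound (by
      have : qL ≤ qL ^ 2 := by rw [sq]; exact Nat.le_mul_of_pos_left qL hqL0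
      omega) (by omega) hqL0)
  · -- minus orthogonal
    obtain ⟨F, _, _, m, a, b, hm4, _, ⟨e⟩⟩ := hM
    have hK : ∀ f : ℕ → ↥(Cfsg.Omega F (Cfsg.quadFormMinus (m - 1) F a b)) ⧸
        Subgroup.center ↥(Cfsg.Omega F (Cfsg.quadFormMinus (m - 1) F a b)),
        FreeGroup.lift f w = 1 :=
      law_of_mulEquiv e w hlaw
    have hQ : ∀ v : (Fin (m - 1) ⊕ Fin (m - 1)) ⊕ Fin 2 → F, Cfsg.quadFormMinus (m - 1) F a b v
        = (∑ i, v (Equiv.refl ((Fin (m - 1) ⊕ Fin (m - 1)) ⊕ Fin 2) (Sum.inl (Sum.inl i)))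
            * v (Equiv.refl ((Fin (m - 1) ⊕ Fin (m - 1)) ⊕ Fin 2) (Sum.inl (Sum.inr i))))
          + (fun z : Fin 2 → F => z 0 ^ 2 + a * z 0 * z 1 + b * z 1 ^ 2)
            (fun r => v (Equiv.refl ((Fin (m - 1) ⊕ Fin (m - 1)) ⊕ Fin 2) (Sum.inr r))) := by
      intro v
      rfl
    have hF : Fintype.card F < qL := by
      by_contra hcon
      rw [not_lt] at hcon
      obtain ⟨ψ, hψ⟩ := exists_hom_Omega (Equiv.refl ((Fin (m - 1) ⊕ Fin (m - 1)) ⊕ Fin 2))
        (fun z : Fin 2 → F => z 0 ^ 2 + a * z 0 * z 1 + b * z 1 ^ 2)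
        (Cfsg.quadFormMinus (m - 1) F a b) hQ
        (sl2GL (F := F) (m - 1) (by omega)) (sl2GL_injective (m - 1) (by omega))
        (sl2_perfect (by omega))
      have := field_bound w NL hNL hK F ψ hψ
      omega
    have hn : m - 1 < nA := by
      by_contra hcon
      rw [not_lt] at hcon
      obtain ⟨ψ, hψ⟩ := exists_hom_Omega (Equiv.refl ((Fin (m - 1) ⊕ Fin (m - 1)) ⊕ Fin 2))
        (fun z : Fin 2 → F => z 0 ^ 2 + a * z 0 * z 1 + b * z 1 ^ 2)
        (Cfsg.quadFormMinus (m - 1) F a b) hQ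
        (altGL (F := F) (m - 1)) (altGL_injective (m - 1)) (alt_perfect (m - 1) (by omega))
      have := alt_bound w NA hNA hK (m - 1) (by omega) ψ hψ
      omega
    rw [Nat.card_congr e.toEquiv]
    have hc := card_center_quot_le (K := ↥(Cfsg.Omega F (Cfsg.quadFormMinus (m - 1) F a b)))
      (fun A => (((A : ↥(Cfsg.isometryGroup F (Cfsg.quadFormMinus (m - 1) F a b))) :
        Matrix.GeneralLinearGroup ((Fin (m - 1) ⊕ Fin (m - 1)) ⊕ Fin 2) F) :
          Matrix ((Fin (m - 1) ⊕ Fin (m - 1)) ⊕ Fin 2) ((Fin (m - 1) ⊕ Fin (m - 1)) ⊕ Fin 2) F))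
      (Units.val_injective.comp (Subtype.val_injective.comp Subtype.val_injective))
    rw [Fintype.card_sum, Fintype.card_sum, Fintype.card_fin, Fintype.card_fin] at hc
    exact hc.trans (num_bound (by
      have : qL ≤ qL ^ 2 := by rw [sq]; exact Nat.le_mul_of_pos_left qL hqL0
      omega) (by omega) hqL0)

end Cfsg.Agent.S2355
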