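import Cfsg.Statements.S2356
import Mathlib
import Cfsg.Agent.Lib.Helper51.SU3Graph4

set_option autoImplicit false
open Cfsg

namespace Cfsg.Agent.S2356

theorem arith (k N c1 c2 c3 : ℕ) (hN : N = (3 + k) ^ 2 * ((3 + k) ^ 2 - (3 + k) + 1))
    (hp : N = 1 + c1 + (c2 + c3)) (h1 : c1 * (3 + k + 1) = (3 + k) * ((3 + k) ^ 2 - 1))
    (h3 : c3 * (3 + k + 1) = (3 + k + 1) * (((3 + k) ^ 2 - 1) * (3 + k + 1))) :
    c1 = (3 + k) * (3 + k - 1) ∧ c2 = (3 + k) * (3 + k - 2) * ((3 + k) ^ 2 - 1) ∧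
      c3 = (3 + k + 1) * ((3 + k) ^ 2 - 1) := by
  have e1 : (3 + k) ^ 2 - 1 = k ^ 2 + 6 * k + 8 := by
    have : (3 + k) ^ 2 = k ^ 2 + 6 * k + 8 + 1 := by ring
    omega
  have e2 : (3 + k) ^ 2 - (3 + k) + 1 = k ^ 2 + 5 * k + 7 := by
    have : (3 + k) ^ 2 = k ^ 2 + 5 * k + 6 + (3 + k) := by ring
    omega
  have e3 : 3 + k - 1 = k + 2 := by omega
  have e4 : 3 + k - 2 = k + 1 := by omega
  rw [e1] at h1 h3
  rw [e2] at hN
  rw [e1, e3, e4]
  have hc1 : c1 = (3 + k) * (k + 2) := by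
    have : c1 * (3 + k + 1) = (3 + k) * (k + 2) * (3 + k + 1) := by
      rw [h1]
      ring
    exact Nat.eq_of_mul_eq_mul_right (by omega) this
  have hc3 : c3 = (3 + k + 1) * (k ^ 2 + 6 * k + 8) := by
    have : c3 * (3 + k + 1) = (3 + k + 1) * (k ^ 2 + 6 * k + 8) * (3 + k + 1) := by
      rw [h3]
      ring
    exact Nat.eq_of_mul_eq_mul_right (by omega) this
  refine ⟨hc1, ?_, hc3⟩
  have key : (3 + k) ^ 2 * (k ^ 2 + 5 * k + 7) =
      1 + (3 + k) * (k + 2) + ((3 + k) * (k + 1) * (k ^ 2 + 6 * k + 8) +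
        (3 + k + 1) * (k ^ 2 + 6 * k + 8)) := by ring
  rw [hN, hc1, hc3, key] at hp
  omega

/-- Let q be odd, F the field with q² elements, S = SU_3(F) (determinant-one isometries of the standard Hermitian form) and t an involution of S. Then: exactly q(q−1) involutions other than t commute with t; exactly q(q−2)(q²−1) involutions do not commute with t but commute with some involution commuting with t; exactly (q+1)(q²−1) involutions x do not commute with t and admit no involution commuting with both t and x; and every involution can be reached from t in at most three steps, each step going to an involution that commutes with the previous one (the commuting involution graph is connected of diameter 3). -/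
theorem result {F : Type*} [Field F] [Fintype F] {q : ℕ} (hq : Odd q)
    (hF : Fintype.card F = q ^ 2) (t : ↥(Cfsg.SU 3 F q)) (ht : t ≠ 1) (ht2 : t * t = 1) :
    Nat.card {x : ↥(Cfsg.SU 3 F q) // x ≠ 1 ∧ x * x = 1 ∧ x ≠ t ∧ Commute t x} = q * (q - 1) ∧
    Nat.card {x : ↥(Cfsg.SU 3 F q) // x ≠ 1 ∧ x * x = 1 ∧ ¬ Commute t x ∧
        ∃ y : ↥(Cfsg.SU 3 F q), y ≠ 1 ∧ y * y = 1 ∧ Commute t y ∧ Commute y x} = q * (q - 2) * (q ^ 2 - 1) ∧
    Nat.card {x : ↥(Cfsg.SU 3 F q) // x ≠ 1 ∧ x * x = 1 ∧ ¬ Commute t x ∧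
        ∀ y : ↥(Cfsg.SU 3 F q), y ≠ 1 → y * y = 1 → ¬ (Commute t y ∧ Commute y x)} = (q + 1) * (q ^ 2 - 1) ∧
    ∀ x : ↥(Cfsg.SU 3 F q), x ≠ 1 → x * x = 1 →
      ∃ y z : ↥(Cfsg.SU 3 F q), y ≠ 1 ∧ y * y = 1 ∧ z ≠ 1 ∧ z * z = 1 ∧
        Commute t y ∧ Commute y z ∧ Commute z x := by
  have hN := Cfsg.Agent.Lib.Helper51.SU3.card_inv hF hq
  have hp := Cfsg.Agent.Lib.Helper51.SU3.graph_partition t ht ht2
  have h1 := Cfsg.Agent.Lib.Helper51.SU3.graph_part1 hF hq t ht ht2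
  have h3 := Cfsg.Agent.Lib.Helper51.SU3.graph_part3 hF hq t ht ht2
  have h4 := Cfsg.Agent.Lib.Helper51.SU3.graph_part4 hF hq t ht ht2
  have hq3 : 3 ≤ q := by
    have hc : 1 < Fintype.card F := Fintype.one_lt_card
    rw [hF] at hc
    obtain ⟨m, hm⟩ := hq
    rcases Nat.eq_zero_or_pos m with h0 | h0
    · rw [hm, h0] at hc
      norm_num at hc
    · omega
  obtain ⟨k, rfl⟩ := Nat.exists_eq_add_of_le hq3
  rw [hN] at hp
  obtain ⟨r1, r2, r3⟩ := arith k _ _ _ _ rfl hp h1 h3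
  exact ⟨r1, r2, r3, h4⟩

end Cfsg.Agent.S2356
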