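import Cfsg.Statements.S2362
import Cfsg.Agent.Lib.Helper46.SpecOmega
import Cfsg.Agent.Lib.Helper99.SpRSEx
import Cfsg.Agent.Lib.Helper07.SpCenter

set_option autoImplicit false
open Cfsg

namespace Cfsg.Agent.S2362

open Cfsg.Agent.Lib.Helper46.Spec Cfsg.Agent.Lib.Helper08

section sp

variable {F : Type*} [Field F] {m k : ℕ}

theorem blk_neg (hk : k ≤ m) (A : Matrix (Fin k ⊕ Fin k) (Fin k ⊕ Fin k) F)
    (D : Matrix (Fin (m - k) ⊕ Fin (m - k)) (Fin (m - k) ⊕ Fin (m - k)) F) :
    Cfsg.Agent.S0776.blk hk (-A) (-D) = -Cfsg.Agent.S0776.blk hk A D := by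
  ext i j
  simp only [Cfsg.Agent.S0776.blk, Matrix.submatrix_apply, Matrix.neg_apply]
  rcases (Cfsg.Agent.S0776.eps hk).symm i with i' | i' <;>
    rcases (Cfsg.Agent.S0776.eps hk).symm j with j' | j' <;> simp

/-- `PSp_{2n}(q)` has an element of order `p (q^(n-1) + 1)` -/
theorem exists_order_PSp [Fintype F] (p : ℕ) [hp : Fact p.Prime] [CharP F p] (hp2 : p ≠ 2)
    (n : ℕ) (hn : 2 ≤ n) :
    ∃ y : Cfsg.PSp n F, orderOf y = p * (Fintype.card F ^ (n - 1) + 1) := by
  classical
  have h2 : (2 : F) ≠ 0 := by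
    intro h
    have h' : ((2 : ℕ) : F) = 0 := by exact_mod_cast h
    have hd := (CharP.cast_eq_zero_iff F p 2).mp h'
    exact hp2 ((Nat.prime_dvd_prime_iff_eq hp.out Nat.prime_two).mp hd)
  set q := Fintype.card F with hq
  have hpq : p ∣ q := by
    have := FiniteField.cast_card_eq_zero F
    exact (CharP.cast_eq_zero_iff F p q).mp this
  have hk : n - 1 ≤ n := by omega
  obtain ⟨x, hx⟩ := Cfsg.Agent.Lib.Helper99.SpRP.exists_orderOf_even (F := F) p (n - 1)
    (by omega) (q ^ (n - 1) + 1) dvd_rfl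
  obtain ⟨u, hu⟩ := Cfsg.Agent.Lib.Helper99.SpRP.exists_orderOf_p F p (n - (n - 1)) (by omega)
  set g : Matrix.symplecticGroup (Fin n) F := Cfsg.Agent.S0776.Psi hk (x, u) with hg
  have hcop : Nat.Coprime (q ^ (n - 1) + 1) p := by
    rw [Nat.coprime_comm, Nat.Prime.coprime_iff_not_dvd hp.out]
    intro h
    have h3 : p ∣ q ^ (n - 1) := dvd_pow hpq (by omega)
    have h4 : p ∣ 1 := by
      have := Nat.dvd_sub h h3
      rwa [Nat.add_sub_cancel_left] at this
    have := hp.out.two_le
    have := Nat.le_of_dvd one_pos h4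
    omega
  have hgord : orderOf g = p * (q ^ (n - 1) + 1) := by
    rw [hg, orderOf_injective _ (Cfsg.Agent.S0776.Psi_injective hk), Prod.orderOf_mk, hx, hu,
      hcop.lcm_eq_mul, mul_comm]
  refine ⟨QuotientGroup.mk g, ?_⟩
  rw [← hgord]
  rw [orderOf_eq_orderOf_iff]
  intro j
  rw [← QuotientGroup.mk_pow, QuotientGroup.eq_one_iff]
  constructor
  · intro hcen
    haveI : Nonempty (Fin n) := ⟨⟨0, by omega⟩⟩
    rcases Cfsg.Agent.Lib.Helper07.center_val_eq (g ^ j) hcen with h1 | h1
    · exact Subtype.ext h1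
    · exfalso
      have hgj : g ^ j = Cfsg.Agent.S0776.Psi hk (x ^ j, u ^ j) := by
        rw [hg, ← map_pow]
        rfl
      have hval : (g ^ j).val = Cfsg.Agent.S0776.blk hk (x ^ j).1 (u ^ j).1 := by
        rw [hgj]; rfl
      rw [hval] at h1
      have hneg : (-1 : Matrix (Fin n ⊕ Fin n) (Fin n ⊕ Fin n) F) =
          Cfsg.Agent.S0776.blk hk (-1) (-1) := by
        rw [blk_neg, Cfsg.Agent.S0776.blk_one]
      rw [hneg] at h1
      obtain ⟨-, huj⟩ := Cfsg.Agent.S0776.blk_inj hk h1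
      -- `u ^ j` has matrix `-1`
      have hu2 : (u ^ j) ^ 2 = 1 := by
        apply Subtype.ext
        rw [pow_two]
        show (u ^ j).1 * (u ^ j).1 = 1
        rw [huj]
        simp
      rw [← pow_mul] at hu2
      have hd := orderOf_dvd_of_pow_eq_one hu2
      rw [hu] at hd
      have hpj : p ∣ j := by
        rcases (Nat.Prime.dvd_mul hp.out).mp hd with h | h
        · exact h
        · exfalso
          exact hp2 ((Nat.prime_dvd_prime_iff_eq hp.out Nat.prime_two).mp h)
      have huj1 : u ^ j = 1 := by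
        rw [← hu] at hpj
        exact orderOf_dvd_iff_pow_eq_one.mp hpj
      rw [huj1] at huj
      have h00 := congrFun (congrFun huj (Sum.inl ⟨0, by omega⟩)) (Sum.inl ⟨0, by omega⟩)
      have h01 : ((1 : Matrix.symplecticGroup (Fin (n - (n - 1))) F).1) = 1 := rfl
      rw [h01, Matrix.one_apply_eq, Matrix.neg_apply, Matrix.one_apply_eq] at h00
      apply h2
      linear_combination h00
  · intro h
    rw [h]
    exact Subgroup.one_mem _

end sp

section omega

variable {F : Type*} [Field F] [Fintype F]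

/-- `PΩ_{2n+1}(q)` has no element of order `p (q^(n-1) + 1)` -/
theorem no_order_POmega (p : ℕ) [hp : Fact p.Prime] [CharP F p] (hp2 : p ≠ 2) (n : ℕ)
    (hn : 3 ≤ n) (x : Cfsg.POmega F (Cfsg.quadFormOdd n F)) :
    orderOf x ≠ p * (Fintype.card F ^ (n - 1) + 1) := by
  classical
  intro hx
  have h2 : (2 : F) ≠ 0 := by
    intro h
    have h' : ((2 : ℕ) : F) = 0 := by exact_mod_cast h
    have hd := (CharP.cast_eq_zero_iff F p 2).mp h'
    exact hp2 ((Nat.prime_dvd_prime_iff_eq hp.out Nat.prime_two).mp hd)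
  set d := qdataOdd (F := F) n h2 with hd
  set Q : QuadraticForm F (Unit ⊕ (Fin n ⊕ Fin n) → F) := d.qf with hQ
  have HT := hypTriple_odd (F := F) n hn h2
  have RP := reflPairs_of_two_ne_zero (Q := Q) h2
  have hcen : Nat.card (Subgroup.center ↥(Cfsg.Omega F ⇑Q)) = 1 := by
    apply card_center_Omega_of_not d.qf_nondeg _ _ HT RP
    right
    rintro ⟨g, hgO, hgm⟩
    have h1 : Cfsg.Agent.Lib.Helper50.detHom (⇑Q) g = 1 :=
      Abelianization.commutator_subset_ker _ hgO
    have h3 := Cfsg.Agent.Lib.Helper50.detHom_val (⇑Q) g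
    rw [h1, hgm, Matrix.det_neg, Matrix.det_one, mul_one] at h3
    have hodd : Odd (Fintype.card (Unit ⊕ (Fin n ⊕ Fin n))) := by
      rw [Fintype.card_sum, Fintype.card_sum, Fintype.card_fin, Fintype.card_unit]
      exact ⟨n, by omega⟩
    rw [hodd.neg_one_pow] at h3
    apply h2
    have h4 : ((1 : Fˣ) : F) = -1 := h3
    rw [Units.val_one] at h4
    linear_combination h4
  have hbot : Subgroup.center ↥(Cfsg.Omega F ⇑Q) = ⊥ := Subgroup.eq_bot_of_card_eq _ hcen
  obtain ⟨g, rfl⟩ := QuotientGroup.mk_surjective x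
  have hinj : Function.Injective
      (QuotientGroup.mk' (Subgroup.center ↥(Cfsg.Omega F (Cfsg.quadFormOdd n F)))) := by
    rw [← MonoidHom.ker_eq_bot_iff, QuotientGroup.ker_mk']
    exact hbot
  have hg : orderOf g = p * (Fintype.card F ^ (n - 1) + 1) := by
    rw [← hx]
    exact (orderOf_injective _ hinj g).symm
  have hg' : orderOf (g : ↥(Cfsg.isometryGroup F (Cfsg.quadFormOdd n F))) =
      p * (Fintype.card F ^ (n - 1) + 1) := by
    rw [← hg]
    exact Subgroup.orderOf_coe g
  exact no_order_Omega_odd p hp2 n hn g.1 g.2 hg'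

end omega

/-- Let F be a finite field of odd order and n ≥ 3. The simple orthogonal group PΩ(2n+1, F) (type B_n) and the projective symplectic group PSp(2n, F) (type C_n), which have the same order, do not have the same set of element orders. -/
theorem result {F : Type*} [Field F] [Fintype F] (hodd : Odd (Fintype.card F)) (n : ℕ) (hn : 3 ≤ n) :
    Set.range (orderOf : Cfsg.POmega F (Cfsg.quadFormOdd n F) → ℕ) ≠ Set.range (orderOf : Cfsg.PSp n F → ℕ) := by
  obtain ⟨p, hpc⟩ := CharP.exists F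
  haveI : CharP F p := hpc
  haveI : Fact p.Prime := ⟨CharP.char_is_prime F p⟩
  have hp2 : p ≠ 2 := by
    intro h
    have h1 : p ∣ Fintype.card F := by
      have := FiniteField.cast_card_eq_zero F
      exact (CharP.cast_eq_zero_iff F p _).mp this
    rw [h] at h1
    exact (Nat.not_even_iff_odd.mpr hodd) (even_iff_two_dvd.mpr h1)
  intro heq
  obtain ⟨y, hy⟩ := exists_order_PSp (F := F) p hp2 n (by omega)
  have hmem : p * (Fintype.card F ^ (n - 1) + 1) ∈
      Set.range (orderOf : Cfsg.PSp n F → ℕ) := ⟨y, hy⟩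
  rw [← heq] at hmem
  obtain ⟨x, hx⟩ := hmem
  exact no_order_POmega p hp2 n hn x hx

end Cfsg.Agent.S2362
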