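import Cfsg.Statements.S2363
-- import your own Cfsg.Agent.* helpers here
import Cfsg.Agent.Lib.Helper33.LTOFamE

set_option autoImplicit false
open Cfsg

namespace Cfsg.Agent.S2363

/-- Let G be a finite simple group of Lie type in characteristic p and let p^k be the exact power of p dividing the order of G. Then the order of G is less than p^(3k); and unless G is isomorphic to PSL(2, F) for the field F with p^k elements, the cube of the order of G is less than p^(8k) (that is, the order is below p^(8k/3)). -/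
theorem result {G : Type*} [Group G] [Finite G] (p : ℕ) (hp : p.Prime) (hG : Cfsg.IsLieTypeChar p G) :
    Nat.card G < p ^ (3 * (Nat.card G).factorization p) ∧
      ((¬ ∃ (F : Type) (_ : Field F) (_ : Fintype F), Fintype.card F = p ^ (Nat.card G).factorization p ∧
          Nonempty (G ≃* Matrix.ProjectiveSpecialLinearGroup (Fin 2) F)) →
        Nat.card G ^ 3 < p ^ (8 * (Nat.card G).factorization p)) := by
  have fin : ∀ {n : ℕ} {P : Prop}, Cfsg.Agent.Lib.Helper33.LTO.Both p n →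
      n < p ^ (3 * n.factorization p) ∧ (P → n ^ 3 < p ^ (8 * n.factorization p)) :=
    fun hb => ⟨hb.1, fun _ => hb.2⟩
  rcases hG with h | h | h | h | h | h | h | h | h | h | h
  · -- PSL
    obtain ⟨F, _, _, _, n, hn, _, ⟨e⟩⟩ := h
    obtain ⟨a, b⟩ := Cfsg.Agent.Lib.Helper33.LTO.fam_psl hp hn e
    refine ⟨a, fun hex => b ?_⟩
    rintro rfl hF
    exact hex ⟨F, _, _, hF, ⟨e⟩⟩
  · -- PSp
    obtain ⟨F, _, _, _, m, hm, _, ⟨e⟩⟩ := h
    exact fin (Cfsg.Agent.Lib.Helper33.LTO.fam_psp hp hm e)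
  · -- PSU
    obtain ⟨F, _, _, _, n, q, hF, hn, _, ⟨e⟩⟩ := h
    exact fin (Cfsg.Agent.Lib.Helper33.LTO.fam_psu hp hF hn e)
  · -- POmega odd
    obtain ⟨F, _, _, _, m, hm, hodd, ⟨e⟩⟩ := h
    exact fin (Cfsg.Agent.Lib.Helper33.LTO.fam_odd hp hm hodd e)
  · -- POmega plus
    obtain ⟨F, _, _, _, m, hm, ⟨e⟩⟩ := h
    exact fin (Cfsg.Agent.Lib.Helper33.LTO.fam_plus hp hm e)
  · -- POmega minus
    obtain ⟨F, _, _, _, m, a, b, hm, hab, ⟨e⟩⟩ := h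
    exact fin (Cfsg.Agent.Lib.Helper33.LTO.fam_minus hp hm a b hab e)
  · -- exceptional Chevalley
    obtain ⟨F, _, _, _, h⟩ := h
    rcases h with ⟨_, ⟨e⟩⟩ | ⟨⟨e⟩⟩ | ⟨⟨e⟩⟩ | ⟨⟨e⟩⟩ | ⟨⟨e⟩⟩
    · exact fin (Cfsg.Agent.Lib.Helper33.LTO.fam_g2 hp e)
    · exact fin (Cfsg.Agent.Lib.Helper33.LTO.fam_f4 hp e)
    · exact fin (Cfsg.Agent.Lib.Helper33.LTO.fam_e6 hp e)
    · exact fin (Cfsg.Agent.Lib.Helper33.LTO.fam_e7 hp e)
    · exact fin (Cfsg.Agent.Lib.Helper33.LTO.fam_e8 hp e)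
  · -- twisted E6, D4
    obtain ⟨K, _, _, _, q, hq, h⟩ := h
    rcases h with ⟨hK, ⟨e⟩⟩ | ⟨hK, ⟨e⟩⟩
    · exact fin (Cfsg.Agent.Lib.Helper33.LTO.fam_twE6 hp hq hK e)
    · exact fin (Cfsg.Agent.Lib.Helper33.LTO.fam_twD4 hp hq hK e)
  · -- Suzuki
    obtain ⟨rfl, F, _, _, m, hm, hF, ⟨e⟩⟩ := h
    exact fin (Cfsg.Agent.Lib.Helper33.LTO.fam_sz hm hF e)
  · -- 2F4
    obtain ⟨rfl, K, _, _, m, _, hK, ⟨e⟩⟩ := h
    exact fin (Cfsg.Agent.Lib.Helper33.LTO.fam_twF4 hK e)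
  · -- 2G2
    obtain ⟨rfl, K, _, _, m, _, hK, ⟨e⟩⟩ := h
    exact fin (Cfsg.Agent.Lib.Helper33.LTO.fam_twG2 hK e)

end Cfsg.Agent.S2363
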