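import Mathlib
import Cfsg.Statements.S2365
import Cfsg.Agent.Lib.Helper99.SUComm
import Cfsg.Agent.Lib.Helper99.SpRPEx
import Cfsg.Agent.Lib.Helper08.SUCenter
import Cfsg.Agent.S0278

set_option autoImplicit false
open Cfsg

namespace Cfsg.Agent.S2365

open Cfsg.Agent.Lib.Helper99.SUComm Cfsg.Agent.Lib.Helper99.SpRP Cfsg.Agent.Lib.Helper19

section aux

variable {F : Type*} [Field F] [Fintype F]

theorem isHerm_hermForm {q : ℕ} (hF : Fintype.card F = q ^ 2) (m : ℕ) :
    IsHerm q (Cfsg.hermForm m F q) where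
  add_left := hermForm_add_left
  smul_left := hermForm_smul_left
  add_right := hermForm_add_right hF
  smul_right := hermForm_smul_right
  conj := fun x y => (hermForm_conj hF x y).symm
  nondeg := by
    classical
    intro x hx
    funext i
    have h1 := hx (Pi.single i 1)
    unfold Cfsg.hermForm at h1
    rw [Finset.sum_eq_single i] at h1
    · simpa using h1
    · intro j _ hji
      rw [Pi.single_apply, if_neg hji, zero_pow (q_pos hF).ne', mul_zero]
    · intro hi; exact absurd (Finset.mem_univ i) hi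

theorem card_SU_eq {q : ℕ} (hF : Fintype.card F = q ^ 2) (M : ℕ) (hM : 1 ≤ M) :
    Nat.card (Cfsg.SU M F q) = q ^ (M * (M - 1) / 2) *
      ∏ i ∈ Finset.range (M - 1), (if Even (i + 1) then q ^ (i + 2) + 1 else q ^ (i + 2) - 1) := by
  have h := Cfsg.Agent.S0278.result hF M hM
  obtain ⟨M', rfl⟩ : ∃ M', M = M' + 1 := ⟨M - 1, by omega⟩
  rw [Finset.prod_range_succ'] at h
  have hq1 : 0 < q + 1 := by omega
  apply Nat.eq_of_mul_eq_mul_left hq1
  rw [h]
  simp only [Even.zero, if_true, zero_add, pow_one, Nat.add_sub_cancel]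
  ring

end aux

/-- Let q be a power of the prime p, F the field with q² elements, m ≥ 4, and let a, b be commuting elements of PSU(m, q) with a of order p. Then every prime divisor of the order of b divides the order of SU(m − 2, q). -/
theorem result {F : Type*} [Field F] [Fintype F] (p : ℕ) [Fact p.Prime] [CharP F p] (m q : ℕ) (hm : 4 ≤ m) (hF : Fintype.card F = q ^ 2)
    (a b : Cfsg.PSU m F q) (ha : orderOf a = p) (hab : Commute a b) :
    (orderOf b).primeFactors ⊆ (Nat.card ↥(Cfsg.SU (m - 2) F q)).primeFactors := by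
  classical
  have hpp : p.Prime := Fact.out
  intro s hs
  rw [Nat.mem_primeFactors] at hs ⊢
  obtain ⟨hspr, hsdvd, hob⟩ := hs
  have : Fact s.Prime := ⟨hspr⟩
  have hq1 : 1 < q := one_lt_q hF
  obtain ⟨f, _, hf⟩ := FiniteField.card F p
  have hpq : p ∣ q := by
    have h1 : p ∣ Fintype.card F := by rw [hf]; exact dvd_pow_self p f.ne_zero
    rw [hF] at h1
    exact hpp.dvd_of_dvd_pow h1
  have hcard := card_SU_eq hF (m - 2) (by omega)
  have hcard_ne : Nat.card (Cfsg.SU (m - 2) F q) ≠ 0 := Nat.card_pos.ne'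
  refine ⟨hspr, ?_, hcard_ne⟩
  rw [hcard]
  by_cases hsp : s = p
  · apply dvd_mul_of_dvd_left
    rw [hsp]
    apply dvd_pow hpq
    have h2 : 2 ≤ (m - 2) * (m - 2 - 1) := by
      have h3 : 2 ≤ m - 2 := by omega
      have h4 : 1 ≤ m - 2 - 1 := by omega
      calc 2 = 2 * 1 := by norm_num
        _ ≤ (m - 2) * (m - 2 - 1) := Nat.mul_le_mul h3 h4
    have := Nat.div_pos h2 (by norm_num : 0 < 2)
    omega
  by_cases hsq1 : s ∣ q + 1
  · apply dvd_mul_of_dvd_right
    apply dvd_trans _ (Finset.dvd_prod_of_mem _ (Finset.mem_range.mpr (by omega : 0 < m - 2 - 1)))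
    have hnot : ¬ Even (0 + 1) := by norm_num
    rw [if_neg hnot]
    have h1 : q ^ (0 + 2) - 1 = (q + 1) * (q - 1) := by
      obtain ⟨c, rfl⟩ : ∃ c, q = c + 1 := ⟨q - 1, by omega⟩
      simp only [zero_add, Nat.add_sub_cancel]
      have : (c + 1) ^ 2 = (c + 1 + 1) * c + 1 := by ring
      rw [this, Nat.add_sub_cancel]
    rw [h1]
    exact dvd_mul_of_dvd_left hsq1 _
  · -- the main case
    have hsq : ¬ s ∣ q := by
      intro h
      have h1 : s ∣ p ^ (f : ℕ) := by
        rw [← hf, hF]; exact dvd_pow h (by norm_num)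
      exact hsp ((Nat.prime_dvd_prime_iff_eq hspr hpp).mp (hspr.dvd_of_dvd_pow h1))
    obtain ⟨b', hb's, hb'c⟩ : ∃ b' : Cfsg.PSU m F q, orderOf b' = s ∧ Commute a b' :=
      ⟨b ^ (orderOf b / s), orderOf_pow_orderOf_div hob hsdvd, hab.pow_right _⟩
    have hcopps : Nat.Coprime p s := (Nat.coprime_primes hpp hspr).mpr (Ne.symm hsp)
    have hc : orderOf (a * b') = p * s := by
      rw [← ha, ← hb's]
      exact hb'c.orderOf_mul_eq_mul_orderOf_of_coprime (by rw [ha, hb's]; exact hcopps)
    have hcopc : Nat.Coprime (p * s) (Nat.card (Subgroup.center (Cfsg.SU m F q))) := by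
      rw [Cfsg.Agent.Lib.Helper08.card_center_SU hF (by omega)]
      apply Nat.Coprime.mul_left
      · apply Nat.Coprime.coprime_dvd_right (Nat.gcd_dvd_right _ _)
        apply (Nat.Prime.coprime_iff_not_dvd hpp).mpr
        intro h
        have h1 : p ∣ q + 1 - q := Nat.dvd_sub h hpq
        rw [Nat.add_sub_cancel_left] at h1
        exact hpp.one_lt.ne' (Nat.dvd_one.mp h1)
      · apply Nat.Coprime.coprime_dvd_right (Nat.gcd_dvd_right _ _)
        exact (Nat.Prime.coprime_iff_not_dvd hspr).mpr hsq1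
    obtain ⟨g, hg⟩ := exists_orderOf_of_quotient _ (p * s) hcopc (a * b') hc
    -- matrices
    let T := Matrix.toLinAlgEquiv' (R := F) (n := Fin m)
    obtain ⟨Gm, hGm⟩ : ∃ Gm : Matrix (Fin m) (Fin m) F,
        Gm = ((g : Matrix.SpecialLinearGroup (Fin m) F) : Matrix (Fin m) (Fin m) F) := ⟨_, rfl⟩
    have hpowval : ∀ j : ℕ, Gm ^ j =
        (((g ^ j : Cfsg.SU m F q) : Matrix.SpecialLinearGroup (Fin m) F) :
          Matrix (Fin m) (Fin m) F) := by
      intro j
      rw [hGm, Subgroup.coe_pow, Matrix.SpecialLinearGroup.coe_pow]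
    have hpow_iso : ∀ (j : ℕ) (x y : Fin m → F),
        Cfsg.hermForm m F q ((Gm ^ j).mulVec x) ((Gm ^ j).mulVec y) = Cfsg.hermForm m F q x y := by
      intro j x y
      rw [hpowval]
      exact (Cfsg.Agent.Lib.Helper08.mem_SU_iff _).mp (g ^ j).2 x y
    have hpow_one : ∀ j : ℕ, Gm ^ j = 1 → g ^ j = 1 := by
      intro j h
      apply Subtype.ext
      apply Subtype.ext
      rw [← hpowval, h]
      rfl
    have hGps : Gm ^ (p * s) = 1 := by
      rw [hpowval, ← hg, pow_orderOf_eq_one]; rfl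
    have hAm1 : Gm ^ s ≠ 1 := by
      intro h
      have h2 := orderOf_dvd_of_pow_eq_one (hpow_one s h)
      rw [hg] at h2
      have h3 : p ∣ 1 := by
        have h4 : p * s ∣ 1 * s := by rwa [one_mul]
        exact Nat.dvd_of_mul_dvd_mul_right hspr.pos h4
      exact hpp.one_lt.ne' (Nat.dvd_one.mp h3)
    have hBm1 : Gm ^ p ≠ 1 := by
      intro h
      have h2 := orderOf_dvd_of_pow_eq_one (hpow_one p h)
      rw [hg] at h2
      have h3 : s ∣ 1 := by
        have h4 : p * s ∣ p * 1 := by rwa [mul_one]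
        exact Nat.dvd_of_mul_dvd_mul_left hpp.pos h4
      exact hspr.one_lt.ne' (Nat.dvd_one.mp h3)
    have : Nonempty (Fin m) := ⟨⟨0, by omega⟩⟩
    have hAnilm : (Gm ^ s - 1) ^ p = 0 := by
      rw [sub_pow_char_of_commute p (Commute.one_right _), ← pow_mul, mul_comm, hGps, one_pow,
        sub_self]
    obtain ⟨A, hAdef⟩ : ∃ A : Module.End F (Fin m → F), A = T (Gm ^ s) := ⟨_, rfl⟩
    obtain ⟨B, hBdef⟩ : ∃ B : Module.End F (Fin m → F), B = T (Gm ^ p) := ⟨_, rfl⟩
    obtain ⟨A', hA'def⟩ : ∃ A' : Module.End F (Fin m → F), A' = T ((Gm ^ s) ^ (p - 1)) :=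
      ⟨_, rfl⟩
    have hAapply : ∀ v, A v = (Gm ^ s).mulVec v := fun v => by
      rw [hAdef]; exact Matrix.toLinAlgEquiv'_apply _ v
    have hBapply : ∀ v, B v = (Gm ^ p).mulVec v := fun v => by
      rw [hBdef]; exact Matrix.toLinAlgEquiv'_apply _ v
    have hAB : ∀ v, A (B v) = B (A v) := by
      intro v
      rw [← Module.End.mul_apply, ← Module.End.mul_apply, hAdef, hBdef, ← map_mul, ← map_mul,
        ← pow_add, ← pow_add, add_comm]
    have hAh : ∀ x y, Cfsg.hermForm m F q (A x) (A y) = Cfsg.hermForm m F q x y := by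
      intro x y; rw [hAapply, hAapply]; exact hpow_iso s x y
    have hBh : ∀ x y, Cfsg.hermForm m F q (B x) (B y) = Cfsg.hermForm m F q x y := by
      intro x y; rw [hBapply, hBapply]; exact hpow_iso p x y
    have hAnil : IsNilpotent (A - 1) := by
      refine ⟨p, ?_⟩
      rw [hAdef, ← map_one T, ← map_sub, ← map_pow, hAnilm, map_zero]
    have hA1 : A ≠ 1 := by
      intro h
      apply hAm1
      apply T.injective
      rw [← hAdef, h, map_one]
    have hB1 : B ≠ 1 := by
      intro h
      apply hBm1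
      apply T.injective
      rw [← hBdef, h, map_one]
    have hAmp : (Gm ^ s) ^ p = 1 := by rw [← pow_mul, mul_comm, hGps]
    have hA'A : ∀ v, A' (A v) = v := by
      intro v
      rw [← Module.End.mul_apply, hA'def, hAdef, ← map_mul, ← pow_succ,
        Nat.sub_add_cancel hpp.one_lt.le, hAmp, map_one, Module.End.one_apply]
    have hAA' : ∀ v, A (A' v) = v := by
      intro v
      rw [← Module.End.mul_apply, hA'def, hAdef, ← map_mul, ← pow_succ',
        Nat.sub_add_cancel hpp.one_lt.le, hAmp, map_one, Module.End.one_apply]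
    have hBs : B ^ s = 1 := by
      rw [hBdef, ← map_pow, ← pow_mul, hGps, map_one]
    have hdim : Module.finrank F (Fin m → F) = m := Module.finrank_fin_fun F
    have hcop : Nat.Coprime (Nat.card F) s := by
      rw [Nat.card_eq_fintype_card, hF]
      exact Nat.Coprime.pow_left _ ((Nat.Prime.coprime_iff_not_dvd hspr).mpr hsq).symm
    have hsF : (s : F) ≠ 0 := by
      intro h
      have h1 := (CharP.cast_eq_zero_iff F p s).mp h
      exact hsp ((Nat.prime_dvd_prime_iff_eq hpp hspr).mp h1).symm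
    obtain ⟨e, he⟩ : ∃ e, e = orderOf (-(q : ZMod s)) := ⟨_, rfl⟩
    have he_le : e ≤ m - 2 :=
      unitary_core hF (Cfsg.hermForm m F q) (isHerm_hermForm hF m) m hm hdim A B A' hAB hAh hBh
        hAnil hA1 hA'A hAA' s hcop hsF hsq hBs hB1 e he
    have hx0 : (-(q : ZMod s)) ≠ 0 := by
      rw [Ne, neg_eq_zero, ZMod.natCast_eq_zero_iff]; exact hsq
    have hepos : 0 < e := by
      have h1 : (-(q : ZMod s)) ^ (s - 1) = 1 := ZMod.pow_card_sub_one_eq_one hx0
      have h2 : e ∣ s - 1 := by rw [he]; exact orderOf_dvd_of_pow_eq_one h1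
      exact Nat.pos_of_dvd_of_pos h2 (by have := hspr.two_le; omega)
    have he1 : e ≠ 1 := by
      intro h
      rw [he, orderOf_eq_one_iff] at h
      apply hsq1
      rw [← ZMod.natCast_eq_zero_iff, Nat.cast_add, Nat.cast_one]
      have : (q : ZMod s) = -1 := by rw [← h, neg_neg]
      rw [this, neg_add_cancel]
    have he2 : 2 ≤ e := by omega
    have hpe : (-(q : ZMod s)) ^ e = 1 := by rw [he]; exact pow_orderOf_eq_one _
    apply dvd_mul_of_dvd_right
    apply dvd_trans _ (Finset.dvd_prod_of_mem _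
      (Finset.mem_range.mpr (by omega : e - 2 < m - 2 - 1)))
    have hi1 : e - 2 + 1 = e - 1 := by omega
    have hi2 : e - 2 + 2 = e := by omega
    rw [hi1, hi2]
    by_cases hev : Even (e - 1)
    · rw [if_pos hev]
      have hodd : Odd e := by
        obtain ⟨c, hc⟩ := hev
        exact ⟨c, by omega⟩
      rw [hodd.neg_pow] at hpe
      rw [← ZMod.natCast_eq_zero_iff, Nat.cast_add, Nat.cast_pow, Nat.cast_one]
      have : (q : ZMod s) ^ e = -1 := by rw [← hpe, neg_neg]
      rw [this, neg_add_cancel]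
    · rw [if_neg hev]
      have heven : Even e := by
        rcases Nat.even_or_odd e with h | h
        · exact h
        · exfalso
          apply hev
          obtain ⟨c, hc⟩ := h
          exact ⟨c, by omega⟩
      rw [heven.neg_pow] at hpe
      rw [← ZMod.natCast_eq_zero_iff, Nat.cast_sub (Nat.one_le_pow _ _ (by omega)), Nat.cast_pow,
        Nat.cast_one, hpe, sub_self]

end Cfsg.Agent.S2365
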