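import Mathlib
import Cfsg.Statements.S2366
import Cfsg.Agent.S2495
import Cfsg.Agent.Lib.Helper99.Spec3
import Cfsg.Agent.Lib.Helper99.HermONB

set_option autoImplicit false
open Cfsg

namespace Cfsg.Agent.S2366

open Polynomial
open scoped Matrix
open Cfsg.Agent.S2495 (gs gs_mul mem_range_of_pow_card)
open Cfsg.Agent.Lib.Helper99.Spec3
open Cfsg.Agent.Lib.Helper99.HermONB
open Cfsg.Agent.Lib.Helper19 (frobQ frobQ_apply pow_q_pow_q add_pow_q sum_pow_q q_pos one_lt_q)

section arith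

theorem dU_pos (q : ℕ) : 0 < Nat.gcd 3 (q + 1) := Nat.gcd_pos_of_pos_left _ (by norm_num)

theorem dU_dvd_three (q : ℕ) : Nat.gcd 3 (q + 1) ∣ 3 := Nat.gcd_dvd_left _ _

theorem dU_dvd (q : ℕ) : Nat.gcd 3 (q + 1) ∣ q + 1 := Nat.gcd_dvd_right _ _

theorem q21 (q : ℕ) (hq : 1 ≤ q) : q ^ 2 - 1 = (q - 1) * (q + 1) := by
  obtain ⟨k, rfl⟩ : ∃ k, q = k + 1 := ⟨q - 1, by omega⟩
  simp only [Nat.add_sub_cancel]
  have : (k + 1) ^ 2 = k * (k + 1 + 1) + 1 := by ring
  rw [this, Nat.add_sub_cancel]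

theorem SU_eq (q : ℕ) (hq : 2 ≤ q) : q ^ 2 - q + 1 = 3 + (q - 2) * (q + 1) := by
  obtain ⟨k, rfl⟩ : ∃ k, q = k + 2 := ⟨q - 2, by omega⟩
  simp only [Nat.add_sub_cancel]
  have : (k + 2) ^ 2 = (k ^ 2 + 3 * k + 2) + (k + 2) := by ring
  rw [this, Nat.add_sub_cancel]
  ring

theorem SU_mul1 (q : ℕ) (hq : 2 ≤ q) : (q ^ 2 - q + 1) * (q + 1) = q ^ 3 + 1 := by
  obtain ⟨k, rfl⟩ : ∃ k, q = k + 2 := ⟨q - 2, by omega⟩
  have : (k + 2) ^ 2 = (k ^ 2 + 3 * k + 2) + (k + 2) := by ring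
  rw [this, Nat.add_sub_cancel]
  ring

theorem SU_mul2 (q : ℕ) (hq : 2 ≤ q) :
    (q ^ 2 - q + 1) * (q ^ 2 + q + 1) = (q ^ 2) ^ 2 + q ^ 2 + 1 := by
  obtain ⟨k, rfl⟩ : ∃ k, q = k + 2 := ⟨q - 2, by omega⟩
  have : (k + 2) ^ 2 = (k ^ 2 + 3 * k + 2) + (k + 2) := by ring
  nth_rewrite 1 [this]
  rw [Nat.add_sub_cancel]
  ring

theorem dU_dvd_S (q : ℕ) (hq : 2 ≤ q) : Nat.gcd 3 (q + 1) ∣ q ^ 2 - q + 1 := by
  rw [SU_eq q hq]
  exact dvd_add (dU_dvd_three q) (Dvd.dvd.mul_left (dU_dvd q) _)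

theorem gcd_SU (q : ℕ) (hq : 2 ≤ q) :
    Nat.gcd (q ^ 2 - q + 1) (q + 1) = Nat.gcd 3 (q + 1) := by
  rw [SU_eq q hq, Nat.gcd_add_mul_right_left]

theorem dU_dvd_Q (q : ℕ) (hq : 1 ≤ q) : Nat.gcd 3 (q + 1) ∣ q ^ 2 - 1 := by
  rw [q21 q hq]
  exact Dvd.dvd.mul_left (dU_dvd q) _

/-- `q + 1` divides `3 * ((q + 1) / d)` -/
theorem dvd_three_MU (q : ℕ) : q + 1 ∣ 3 * ((q + 1) / Nat.gcd 3 (q + 1)) := by
  obtain ⟨e, he⟩ := dU_dvd_three q
  obtain ⟨M, hM⟩ := dU_dvd q
  have hd := dU_pos q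
  have h1 : (q + 1) / Nat.gcd 3 (q + 1) = M := by
    nth_rewrite 1 [hM]
    exact Nat.mul_div_cancel_left _ hd
  rw [h1]
  refine ⟨e, ?_⟩
  nth_rewrite 1 [he]
  nth_rewrite 2 [hM]
  ring

/-- `q + 1 ∣ 3 j` iff `(q + 1) / d ∣ j` -/
theorem MU_dvd_iff (q j : ℕ) :
    q + 1 ∣ 3 * j ↔ (q + 1) / Nat.gcd 3 (q + 1) ∣ j := by
  have hd := dU_pos q
  obtain ⟨e, he⟩ := dU_dvd_three q
  obtain ⟨M, hM⟩ := dU_dvd q
  have h1 : (q + 1) / Nat.gcd 3 (q + 1) = M := by
    nth_rewrite 1 [hM]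
    exact Nat.mul_div_cancel_left _ hd
  have h2 : 3 / Nat.gcd 3 (q + 1) = e := by
    nth_rewrite 1 [he]
    exact Nat.mul_div_cancel_left _ hd
  have hcop : Nat.Coprime e M := by
    have := Nat.coprime_div_gcd_div_gcd (m := 3) (n := q + 1) hd
    rwa [h1, h2] at this
  rw [h1]
  constructor
  · intro h
    have h3 : Nat.gcd 3 (q + 1) * M ∣ Nat.gcd 3 (q + 1) * (e * j) := by
      have : Nat.gcd 3 (q + 1) * (e * j) = 3 * j := by
        nth_rewrite 2 [he]; ring
      rw [this, ← hM]; exact h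
    have h4 : M ∣ e * j := Nat.dvd_of_mul_dvd_mul_left hd h3
    exact hcop.symm.dvd_of_dvd_mul_left h4
  · rintro ⟨t, rfl⟩
    refine ⟨e * t, ?_⟩
    nth_rewrite 1 [he]
    nth_rewrite 2 [hM]
    ring

/-- the key divisibility for the Singer type element -/
theorem SU_dvd_iff (q j : ℕ) (hq : 2 ≤ q) :
    q ^ 2 - q + 1 ∣ j * (q ^ 2 - 1) ↔ (q ^ 2 - q + 1) / Nat.gcd 3 (q + 1) ∣ j := by
  have hd := dU_pos q
  have hg := gcd_SU q hq
  have hcop1 : Nat.Coprime (q ^ 2 - q + 1) (q - 1) := by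
    have h : q ^ 2 - q + 1 = 1 + q * (q - 1) := by
      obtain ⟨k, rfl⟩ : ∃ k, q = k + 1 := ⟨q - 1, by omega⟩
      simp only [Nat.add_sub_cancel]
      have : (k + 1) ^ 2 = (k ^ 2 + k) + (k + 1) := by ring
      rw [this, Nat.add_sub_cancel]
      ring
    rw [Nat.Coprime, h, Nat.gcd_add_mul_right_left]
    exact Nat.gcd_one_left _
  have hcop : Nat.Coprime ((q ^ 2 - q + 1) / Nat.gcd 3 (q + 1)) ((q + 1) / Nat.gcd 3 (q + 1)) := by
    have := Nat.coprime_div_gcd_div_gcd (m := q ^ 2 - q + 1) (n := q + 1) (by rw [hg]; exact hd)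
    rwa [hg] at this
  obtain ⟨S', hS'⟩ := dU_dvd_S q hq
  obtain ⟨M, hM⟩ := dU_dvd q
  have h1 : (q + 1) / Nat.gcd 3 (q + 1) = M := by
    nth_rewrite 1 [hM]
    exact Nat.mul_div_cancel_left _ hd
  have h2 : (q ^ 2 - q + 1) / Nat.gcd 3 (q + 1) = S' := by
    nth_rewrite 1 [hS']
    exact Nat.mul_div_cancel_left _ hd
  rw [h1, h2] at hcop
  rw [h2, q21 q (by omega)]
  constructor
  · intro h
    have h0 : q ^ 2 - q + 1 ∣ j * (q + 1) := by
      have : j * ((q - 1) * (q + 1)) = (j * (q + 1)) * (q - 1) := by ring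
      rw [this] at h
      exact hcop1.dvd_of_dvd_mul_right h
    have h3 : Nat.gcd 3 (q + 1) * S' ∣ Nat.gcd 3 (q + 1) * (j * M) := by
      have : Nat.gcd 3 (q + 1) * (j * M) = j * (q + 1) := by
        nth_rewrite 2 [hM]; ring
      rw [this, ← hS']; exact h0
    have h4 : S' ∣ j * M := Nat.dvd_of_mul_dvd_mul_left hd h3
    exact hcop.dvd_of_dvd_mul_right h4
  · intro h
    obtain ⟨t, rfl⟩ := h
    refine ⟨t * M * (q - 1), ?_⟩
    nth_rewrite 1 [hM]
    nth_rewrite 1 [hS']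
    ring

end arith

section frob

variable {F : Type*} [Field F] [Fintype F] {q : ℕ}

theorem exists_q_eq (hF : Fintype.card F = q ^ 2) (p : ℕ) [Fact p.Prime] [CharP F p] :
    ∃ f : ℕ, q = p ^ f := by
  have hp : p.Prime := Fact.out
  obtain ⟨k, _, hk⟩ := FiniteField.card F p
  have hdvd : q ∣ p ^ (k : ℕ) := by
    rw [← hk, hF]; exact Dvd.intro_left (q ^ 1) (by ring)
  obtain ⟨j, _, hj⟩ := (Nat.dvd_prime_pow hp).mp hdvd
  exact ⟨j, hj⟩

omit [Fintype F] in
theorem two_ne_zero_of_odd (p : ℕ) [Fact p.Prime] [CharP F p] (hp2 : p ≠ 2) : (2 : F) ≠ 0 := by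
  intro h
  have h2 : ((2 : ℕ) : F) = 0 := by exact_mod_cast h
  rw [CharP.cast_eq_zero_iff F p 2] at h2
  exact hp2 ((Nat.prime_dvd_prime_iff_eq Fact.out Nat.prime_two).mp h2)

omit [Fintype F] in
/-- injectivity of the `q`-power map in characteristic `p` -/
theorem pow_q_inj (p : ℕ) [Fact p.Prime] {f : ℕ} (hqf : q = p ^ f) {K : Type*} [Field K]
    [CharP K p] {x y : K} (h : x ^ q = y ^ q) : x = y := by
  have h1 : (x - y) ^ q = 0 := by
    rw [hqf, sub_pow_char_pow, ← hqf, h, sub_self]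
  exact sub_eq_zero.mp (pow_eq_zero_iff (by rw [hqf]; exact (pow_pos (Fact.out : p.Prime).pos f).ne') |>.mp h1)

theorem T_inj (hF : Fintype.card F = q ^ 2) {x y : F} (h : (x ^ q)⁻¹ = (y ^ q)⁻¹) : x = y := by
  have h1 : x ^ q = y ^ q := inv_inj.mp h
  have h2 := congrArg (fun t => t ^ q) h1
  simp only [pow_q_pow_q hF] at h2
  exact h2

theorem T_T (hF : Fintype.card F = q ^ 2) (x : F) : (((x ^ q)⁻¹) ^ q)⁻¹ = x := by
  rw [inv_pow, inv_inv, pow_q_pow_q hF]

omit [Fintype F] in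
theorem T_fix {x : F} (hx : x ≠ 0) (h : (x ^ q)⁻¹ = x) : x ^ (q + 1) = 1 := by
  have h1 : x ^ q ≠ 0 := pow_ne_zero _ hx
  rw [pow_succ]
  rw [inv_eq_iff_eq_inv] at h
  rw [h, inv_mul_cancel₀ hx]

end frob

section symm

variable {F : Type*} [Field F] [Fintype F] {q : ℕ}

/-- the symmetry of the characteristic polynomial of a unitary matrix -/
theorem charpoly_symm (hF : Fintype.card F = q ^ 2) (g : Cfsg.SU 3 F q) :
    ((g : Matrix.SpecialLinearGroup (Fin 3) F) : Matrix (Fin 3) (Fin 3) F).charpoly.map (frobQ hF) =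
      -((g : Matrix.SpecialLinearGroup (Fin 3) F) : Matrix (Fin 3) (Fin 3) F).charpoly.reverse := by
  obtain ⟨A, hA⟩ : ∃ A, A = ((g : Matrix.SpecialLinearGroup (Fin 3) F) : Matrix (Fin 3) (Fin 3) F) :=
    ⟨_, rfl⟩
  rw [← hA]
  have hunit : Aᵀ * (frobQ hF).mapMatrix A = 1 := by
    rw [hA]
    exact Cfsg.Agent.Lib.Helper19.GU_transpose_mul_conj hF
      (Matrix.SpecialLinearGroup.toGL g.1) g.2
  have hdetA : A.det = 1 := by rw [hA]; exact g.1.2
  have hAunit : IsUnit A := (Matrix.isUnit_iff_isUnit_det A).mpr (by rw [hdetA]; exact isUnit_one)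
  have hinv : A⁻¹ = ((frobQ hF).mapMatrix A)ᵀ := by
    have := congrArg Matrix.transpose hunit
    rw [Matrix.transpose_mul, Matrix.transpose_transpose, Matrix.transpose_one] at this
    exact Matrix.inv_eq_left_inv this
  have h1 := Matrix.charpoly_inv A hAunit
  rw [hinv, Matrix.charpoly_transpose, RingHom.mapMatrix_apply, Matrix.charpoly_map, hdetA,
    Ring.inverse_one, Fintype.card_fin, ← Matrix.reverse_charpoly] at h1
  rw [h1, C_1]
  ring

/-- roots come in pairs `x`, `x ^ (-q)` -/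
theorem root_symm (hF : Fintype.card F = q ^ 2) (p : ℕ) [Fact p.Prime] [CharP F p] {f : ℕ}
    (hqf : q = p ^ f) (χ : F[X]) (hχ : χ.map (frobQ hF) = -χ.reverse)
    {K : Type*} [Field K] [Algebra F K] (lam : K) (h0 : lam ≠ 0) (hroot : aeval lam χ = 0) :
    aeval ((lam ^ q)⁻¹) χ = 0 := by
  haveI : CharP K p := charP_of_injective_algebraMap (algebraMap F K).injective p
  let Φ : K →+* K := iterateFrobenius K p f
  have hΦ : ∀ x, Φ x = x ^ q := fun x => by rw [hqf]; exact iterateFrobenius_def ..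
  have hcomp : Φ.comp (algebraMap F K) = (algebraMap F K).comp (frobQ hF) := by
    ext x
    simp [hΦ, frobQ_apply]
  have h1 : eval₂ (algebraMap F K) (lam ^ q) χ.reverse = 0 := by
    have h2 : Φ (eval₂ (algebraMap F K) lam χ) = 0 := by rw [← aeval_def, hroot, map_zero]
    rw [Polynomial.hom_eval₂, hcomp, hΦ, ← Polynomial.eval₂_map, hχ, eval₂_neg,
      neg_eq_zero] at h2
    exact h2
  haveI : Invertible ((lam ^ q)⁻¹) := invertibleOfNonzero (inv_ne_zero (pow_ne_zero _ h0))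
  have h3 := (Polynomial.eval₂_reverse_eq_zero_iff (algebraMap F K) ((lam ^ q)⁻¹) χ).mp
  rw [aeval_def]
  apply h3
  rw [invOf_eq_inv, inv_inv]
  exact h1

end symm

section polyU

variable {F : Type*} [Field F] [Fintype F] {q : ℕ}

omit [Fintype F] in
theorem X_sub_C_dvd' (a : F) (N : ℕ) : X - C a ∣ X ^ N - C (a ^ N) := by
  rw [C_pow]; exact sub_dvd_pow_sub_pow X (C a) N

omit [Fintype F] in
/-- a repeated root fixed by the twisted inverse -/
theorem rep_caseU (p : ℕ) [Fact p.Prime] [CharP F p] (hp3 : 3 ≤ p) (a b : F)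
    (h : a * a * b = 1) (ha : a ^ (q + 1) = 1) :
    (X - C a) ^ 2 * (X - C b) ∣ X ^ (p * (q + 1) / Nat.gcd 3 (q + 1)) -
      C (a ^ (p * (q + 1) / Nat.gcd 3 (q + 1))) := by
  have ha0 : a ≠ 0 := by
    rintro rfl; rw [zero_mul, zero_mul] at h; exact zero_ne_one h
  obtain ⟨M, hM⟩ := dU_dvd q
  have hdp := dU_pos q
  have hMdiv : (q + 1) / Nat.gcd 3 (q + 1) = M := by
    nth_rewrite 1 [hM]
    exact Nat.mul_div_cancel_left _ hdp
  have hN : p * (q + 1) / Nat.gcd 3 (q + 1) = M * p := by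
    rw [Nat.mul_div_assoc p (dU_dvd q), hMdiv, mul_comm]
  rw [hN]
  have h3M : a ^ (3 * M) = 1 := by
    have := dvd_three_MU q
    rw [hMdiv] at this
    obtain ⟨e, he⟩ := this
    rw [he, pow_mul, ha, one_pow]
  have key : (X : F[X]) ^ (M * p) - C (a ^ (M * p)) = (X ^ M - C (a ^ M)) ^ p := by
    rw [sub_pow_char, ← pow_mul, ← C_pow, ← pow_mul]
  have hdvdp : (X - C a) ^ p ∣ (X : F[X]) ^ (M * p) - C (a ^ (M * p)) := by
    rw [key]
    exact pow_dvd_pow_of_dvd (X_sub_C_dvd' a M) p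
  by_cases hab : a = b
  · subst hab
    have : (X - C a) ^ 2 * (X - C a) = (X - C a) ^ 3 := by ring
    rw [this]
    exact (pow_dvd_pow _ hp3).trans hdvdp
  · have hbM : b ^ M = a ^ M := by
      have e1 : a ^ M * a ^ M * b ^ M = 1 := by rw [← mul_pow, ← mul_pow, h, one_pow]
      have e2 : a ^ M * a ^ M * a ^ M = 1 := by
        rw [← pow_add, ← pow_add]
        have : M + M + M = 3 * M := by ring
        rw [this]; exact h3M
      have haM : a ^ M * a ^ M ≠ 0 := mul_ne_zero (pow_ne_zero _ ha0) (pow_ne_zero _ ha0)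
      exact mul_left_cancel₀ haM (e1.trans e2.symm)
    have hdvdb : X - C b ∣ (X : F[X]) ^ (M * p) - C (a ^ (M * p)) := by
      have := X_sub_C_dvd' b (M * p)
      rwa [pow_mul b, hbM, ← pow_mul] at this
    have hcop : IsCoprime ((X - C a) ^ 2) (X - C b) := by
      apply IsCoprime.pow_left
      apply Polynomial.isCoprime_X_sub_C_of_isUnit_sub
      exact (sub_ne_zero.mpr hab).isUnit
    exact hcop.mul_dvd ((pow_dvd_pow _ (by omega)).trans hdvdp) hdvdb

omit [Fintype F] in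
theorem three_coprime_dvd (a b c : F) (hab : a ≠ b) (hac : a ≠ c) (hbc : b ≠ c) (P : F[X])
    (ha : X - C a ∣ P) (hb : X - C b ∣ P) (hc : X - C c ∣ P) :
    (X - C a) * (X - C b) * (X - C c) ∣ P := by
  have c1 : IsCoprime (X - C a) (X - C b) :=
    Polynomial.isCoprime_X_sub_C_of_isUnit_sub (sub_ne_zero.mpr hab).isUnit
  have c2 : IsCoprime (X - C a) (X - C c) :=
    Polynomial.isCoprime_X_sub_C_of_isUnit_sub (sub_ne_zero.mpr hac).isUnit
  have c3 : IsCoprime (X - C b) (X - C c) :=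
    Polynomial.isCoprime_X_sub_C_of_isUnit_sub (sub_ne_zero.mpr hbc).isUnit
  exact (IsCoprime.mul_left c2 c3).mul_dvd (c1.mul_dvd ha hb) hc

/-- a root, a second root and its twisted inverse -/
theorem swap_caseU (hF : Fintype.card F = q ^ 2) (x y : F) (hy : y ≠ 0)
    (hxyz : x * y * (y ^ q)⁻¹ = 1) (h1 : x ≠ y) (h2 : x ≠ (y ^ q)⁻¹) (h3 : y ≠ (y ^ q)⁻¹) :
    (X - C x) * (X - C y) * (X - C (y ^ q)⁻¹) ∣ X ^ ((q ^ 2 - 1) / Nat.gcd 3 (q + 1)) -
      C (y ^ ((q ^ 2 - 1) / Nat.gcd 3 (q + 1))) := by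
  have hq1 : 1 ≤ q := q_pos hF
  obtain ⟨N, hN⟩ := dU_dvd_Q q hq1
  have hdp := dU_pos q
  have hNdiv : (q ^ 2 - 1) / Nat.gcd 3 (q + 1) = N := by
    rw [hN]; exact Nat.mul_div_cancel_left _ hdp
  rw [hNdiv]
  obtain ⟨ζ, hζ⟩ : ∃ ζ, ζ = y ^ N := ⟨_, rfl⟩
  have hζd : ζ ^ Nat.gcd 3 (q + 1) = 1 := by
    rw [hζ, ← pow_mul, mul_comm, ← hN, ← hF]
    exact FiniteField.pow_card_sub_one_eq_one y hy
  have hζ3 : ζ ^ 3 = 1 := by
    obtain ⟨e, he⟩ := dU_dvd_three q
    rw [he, pow_mul, hζd, one_pow]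
  have hζq : ζ ^ (q + 1) = 1 := by
    obtain ⟨e, he⟩ := dU_dvd q
    rw [he, pow_mul, hζd, one_pow]
  have hz : ((y ^ q)⁻¹) ^ N = ζ := by
    rw [inv_pow, ← pow_mul, mul_comm, pow_mul, ← hζ]
    exact inv_eq_of_mul_eq_one_right (by rw [← pow_succ]; exact hζq)
  have hζ0 : ζ ≠ 0 := by rw [hζ]; exact pow_ne_zero _ hy
  have hx : x ^ N = ζ := by
    have e1 : x ^ N * ζ * ζ = 1 := by
      have := congrArg (fun t => t ^ N) hxyz
      simp only [mul_pow, one_pow] at this
      rwa [hz, ← hζ] at this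
    have e2 : ζ * ζ * ζ = 1 := by rw [← hζ3]; ring
    have : x ^ N * (ζ * ζ) = ζ * (ζ * ζ) := by rw [← mul_assoc, e1, ← mul_assoc, e2]
    exact mul_right_cancel₀ (mul_ne_zero hζ0 hζ0) this
  rw [← hζ]
  apply three_coprime_dvd x y _ h1 h2 h3
  · rw [← hx]; exact X_sub_C_dvd' x N
  · rw [hζ]; exact X_sub_C_dvd' y N
  · rw [← hz]; exact X_sub_C_dvd' _ N

/-- a double root is fixed by the twisted inverse -/
theorem double_fix (hF : Fintype.card F = q ^ 2) (a c : F) (h : a * a * c = 1)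
    (hT : (a ^ q)⁻¹ = a ∨ (a ^ q)⁻¹ = c) : a ^ (q + 1) = 1 := by
  have ha0 : a ≠ 0 := by
    rintro rfl; rw [zero_mul, zero_mul] at h; exact zero_ne_one h
  rcases hT with hT | hT
  · exact T_fix ha0 hT
  · have haq0 : a ^ q ≠ 0 := pow_ne_zero _ ha0
    have h1 : a * a = a ^ q := by
      rw [← hT] at h
      have := congrArg (fun t => t * a ^ q) h
      simp only [one_mul] at this
      rw [mul_assoc, inv_mul_cancel₀ haq0, mul_one] at this
      exact this
    have h2 : (a * a) * (a * a) = a := by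
      have := pow_q_pow_q hF a
      rw [← h1, mul_pow, ← h1] at this
      exact this
    have h3 : a * a * a = 1 := by
      have : (a * a * a) * a = 1 * a := by rw [one_mul]; linear_combination h2
      exact mul_right_cancel₀ ha0 this
    have hca : c = a := by
      have : a * a * c = a * a * a := by rw [h, h3]
      exact mul_left_cancel₀ (mul_ne_zero ha0 ha0) this
    rw [hca] at hT
    exact T_fix ha0 hT

/-- the split case -/
theorem split_caseU (hF : Fintype.card F = q ^ 2) (p : ℕ) [Fact p.Prime] [CharP F p]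
    (hp3 : 3 ≤ p) (a b c : F) (habc : a * b * c = 1)
    (hT : ∀ x : F, (x = a ∨ x = b ∨ x = c) →
      ((x ^ q)⁻¹ = a ∨ (x ^ q)⁻¹ = b ∨ (x ^ q)⁻¹ = c)) :
    ∃ (N : ℕ) (e : F), (X - C a) * (X - C b) * (X - C c) ∣ X ^ N - C e ∧
      (N = q + 1 ∨ N = p * (q + 1) / Nat.gcd 3 (q + 1) ∨
        N = (q ^ 2 - 1) / Nat.gcd 3 (q + 1)) := by
  have ha0 : a ≠ 0 := by
    rintro rfl; rw [zero_mul, zero_mul] at habc; exact zero_ne_one habc
  have hb0 : b ≠ 0 := by
    rintro rfl; rw [mul_zero, zero_mul] at habc; exact zero_ne_one habc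
  have hc0 : c ≠ 0 := by
    rintro rfl; rw [mul_zero] at habc; exact zero_ne_one habc
  by_cases hab : a = b
  · subst hab
    have hTa := hT a (Or.inl rfl)
    have hfix : a ^ (q + 1) = 1 := double_fix hF a c habc (by
      rcases hTa with h | h | h
      · exact Or.inl h
      · exact Or.inl h
      · exact Or.inr h)
    refine ⟨p * (q + 1) / Nat.gcd 3 (q + 1), a ^ (p * (q + 1) / Nat.gcd 3 (q + 1)), ?_,
      Or.inr (Or.inl rfl)⟩
    have := rep_caseU (q := q) p hp3 a c habc hfix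
    rwa [show (X - C a) ^ 2 * (X - C c) = (X - C a) * (X - C a) * (X - C c) by ring] at this
  · by_cases hac : a = c
    · subst hac
      have hTa := hT a (Or.inl rfl)
      have h' : a * a * b = 1 := by rw [← habc]; ring
      have hfix : a ^ (q + 1) = 1 := double_fix hF a b h' (by
        rcases hTa with h | h | h
        · exact Or.inl h
        · exact Or.inr h
        · exact Or.inl h)
      refine ⟨p * (q + 1) / Nat.gcd 3 (q + 1), a ^ (p * (q + 1) / Nat.gcd 3 (q + 1)), ?_,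
        Or.inr (Or.inl rfl)⟩
      have := rep_caseU (q := q) p hp3 a b h' hfix
      rwa [show (X - C a) ^ 2 * (X - C b) = (X - C a) * (X - C b) * (X - C a) by ring] at this
    · by_cases hbc : b = c
      · subst hbc
        have hTb := hT b (Or.inr (Or.inl rfl))
        have h' : b * b * a = 1 := by rw [← habc]; ring
        have hfix : b ^ (q + 1) = 1 := double_fix hF b a h' (by
          rcases hTb with h | h | h
          · exact Or.inr h
          · exact Or.inl h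
          · exact Or.inl h)
        refine ⟨p * (q + 1) / Nat.gcd 3 (q + 1), b ^ (p * (q + 1) / Nat.gcd 3 (q + 1)), ?_,
          Or.inr (Or.inl rfl)⟩
        have := rep_caseU (q := q) p hp3 b a h' hfix
        rwa [show (X - C b) ^ 2 * (X - C a) = (X - C a) * (X - C b) * (X - C b) by ring] at this
      · have hTa := hT a (Or.inl rfl)
        have hTb := hT b (Or.inr (Or.inl rfl))
        have hTc := hT c (Or.inr (Or.inr rfl))
        rcases hTa with haa | hab' | hac'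
        · rcases hTb with hba | hbb | hbc'
          · exact absurd (T_inj hF (haa.trans hba.symm)) hab
          · rcases hTc with hca | hcb | hcc
            · exact absurd (T_inj hF (haa.trans hca.symm)) hac
            · exact absurd (T_inj hF (hbb.trans hcb.symm)) hbc
            · refine ⟨q + 1, 1, ?_, Or.inl rfl⟩
              apply three_coprime_dvd a b c hab hac hbc
              · have := X_sub_C_dvd' a (q + 1)
                rwa [T_fix ha0 haa] at this
              · have := X_sub_C_dvd' b (q + 1)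
                rwa [T_fix hb0 hbb] at this
              · have := X_sub_C_dvd' c (q + 1)
                rwa [T_fix hc0 hcc] at this
          · have := swap_caseU hF a b hb0 (by rw [hbc']; exact habc) hab
              (by rw [hbc']; exact hac) (by rw [hbc']; exact hbc)
            rw [hbc'] at this
            exact ⟨_, _, this, Or.inr (Or.inr rfl)⟩
        · have := swap_caseU hF c a ha0 (by rw [hab', ← habc]; ring) (Ne.symm hac)
            (by rw [hab']; exact Ne.symm hbc) (by rw [hab']; exact hab)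
          rw [hab'] at this
          rw [show (X - C c) * (X - C a) * (X - C b) = (X - C a) * (X - C b) * (X - C c) by
            ring] at this
          exact ⟨_, _, this, Or.inr (Or.inr rfl)⟩
        · have := swap_caseU hF b a ha0 (by rw [hac', ← habc]; ring) (Ne.symm hab)
            (by rw [hac']; exact hbc) (by rw [hac']; exact hac)
          rw [hac'] at this
          rw [show (X - C b) * (X - C a) * (X - C c) = (X - C a) * (X - C b) * (X - C c) by
            ring] at this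
          exact ⟨_, _, this, Or.inr (Or.inr rfl)⟩

end polyU

section adjoin

variable {F : Type*} [Field F] [Fintype F] {q : ℕ}

omit [Fintype F] in
theorem aeval_root_cases2 (P : F[X]) (hP : P.natDegree = 2) {K : Type*} [Field K] [Algebra F K]
    (r₁ r₂ μ : K) (h12 : r₁ ≠ r₂) (hr₁ : aeval r₁ P = 0) (hr₂ : aeval r₂ P = 0)
    (hμ : aeval μ P = 0) : μ = r₁ ∨ μ = r₂ := by
  classical
  by_contra hcon
  push Not at hcon
  have hne : P.map (algebraMap F K) ≠ 0 := by
    intro h0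
    have := congrArg natDegree h0
    rw [natDegree_map, hP] at this
    simp at this
  have hroot : ∀ x : K, aeval x P = 0 → x ∈ (P.map (algebraMap F K)).roots.toFinset := by
    intro x hx
    rw [Multiset.mem_toFinset, mem_roots hne, IsRoot.def, eval_map_algebraMap]
    exact hx
  have hsub : ({r₁, r₂, μ} : Finset K) ⊆ (P.map (algebraMap F K)).roots.toFinset := by
    intro x hx
    simp only [Finset.mem_insert, Finset.mem_singleton] at hx
    rcases hx with rfl | rfl | rfl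
    · exact hroot _ hr₁
    · exact hroot _ hr₂
    · exact hroot _ hμ
  have hcard : ({r₁, r₂, μ} : Finset K).card = 3 := by
    rw [Finset.card_insert_of_notMem, Finset.card_insert_of_notMem, Finset.card_singleton]
    · simp only [Finset.mem_singleton]; exact fun h => hcon.2 h.symm
    · simp only [Finset.mem_insert, Finset.mem_singleton]
      rintro (h | h)
      · exact h12 h
      · exact hcon.1 h.symm
  have h1 := Finset.card_le_card hsub
  have h2 := (Multiset.toFinset_card_le _).trans (card_roots' (P.map (algebraMap F K)))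
  rw [natDegree_map, hP] at h2
  omega

omit [Fintype F] in
theorem aeval_root_cases3 (P : F[X]) (hP : P.natDegree = 3) {K : Type*} [Field K] [Algebra F K]
    (r₁ r₂ r₃ μ : K) (h12 : r₁ ≠ r₂) (h13 : r₁ ≠ r₃) (h23 : r₂ ≠ r₃)
    (hr₁ : aeval r₁ P = 0) (hr₂ : aeval r₂ P = 0) (hr₃ : aeval r₃ P = 0)
    (hμ : aeval μ P = 0) : μ = r₁ ∨ μ = r₂ ∨ μ = r₃ := by
  classical
  by_contra hcon
  push Not at hcon
  have hne : P.map (algebraMap F K) ≠ 0 := by
    intro h0
    have := congrArg natDegree h0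
    rw [natDegree_map, hP] at this
    simp at this
  have hroot : ∀ x : K, aeval x P = 0 → x ∈ (P.map (algebraMap F K)).roots.toFinset := by
    intro x hx
    rw [Multiset.mem_toFinset, mem_roots hne, IsRoot.def, eval_map_algebraMap]
    exact hx
  have hsub : ({r₁, r₂, r₃, μ} : Finset K) ⊆ (P.map (algebraMap F K)).roots.toFinset := by
    intro x hx
    simp only [Finset.mem_insert, Finset.mem_singleton] at hx
    rcases hx with rfl | rfl | rfl | rfl
    · exact hroot _ hr₁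
    · exact hroot _ hr₂
    · exact hroot _ hr₃
    · exact hroot _ hμ
  have hcard : ({r₁, r₂, r₃, μ} : Finset K).card = 4 := by
    rw [Finset.card_insert_of_notMem, Finset.card_insert_of_notMem,
      Finset.card_insert_of_notMem, Finset.card_singleton]
    · simp only [Finset.mem_singleton]; exact fun h => hcon.2.2 h.symm
    · simp only [Finset.mem_insert, Finset.mem_singleton]
      rintro (h | h)
      · exact h23 h
      · exact hcon.2.1 h.symm
    · simp only [Finset.mem_insert, Finset.mem_singleton]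
      rintro (h | h | h)
      · exact h12 h
      · exact h13 h
      · exact hcon.1 h.symm
  have h1 := Finset.card_le_card hsub
  have h2 := (Multiset.toFinset_card_le _).trans (card_roots' (P.map (algebraMap F K)))
  rw [natDegree_map, hP] at h2
  omega

omit [Fintype F] in
/-- the root of an irreducible polynomial of degree at least two is not in the base field -/
theorem root_not_mem_range (f : F[X]) [Fact (Irreducible f)] (hd : 2 ≤ f.natDegree) (c : F) :
    algebraMap F (AdjoinRoot f) c ≠ AdjoinRoot.root f := by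
  intro h
  have h1 : aeval (AdjoinRoot.root f) f = 0 := by rw [AdjoinRoot.aeval_eq, AdjoinRoot.mk_self]
  rw [← h, Polynomial.aeval_algebraMap_apply,
    map_eq_zero_iff _ (algebraMap F (AdjoinRoot f)).injective] at h1
  have hirr : Irreducible f := Fact.out
  have h2 := Polynomial.degree_eq_one_of_irreducible_of_root hirr (x := c) (by simpa using h1)
  have hf0 : f ≠ 0 := hirr.ne_zero
  rw [Polynomial.degree_eq_natDegree hf0] at h2
  have : f.natDegree = 1 := by exact_mod_cast h2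
  omega

theorem root_pow_card_ne (f : F[X]) [Fact (Irreducible f)] (hd : 2 ≤ f.natDegree) :
    (AdjoinRoot.root f) ^ Fintype.card F ≠ AdjoinRoot.root f := by
  intro h
  obtain ⟨c, hc⟩ := mem_range_of_pow_card (F := F) _ h
  exact root_not_mem_range f hd c hc

theorem aeval_pow_card (P : F[X]) {K : Type*} [Field K] [Algebra F K] (x : K) :
    aeval (x ^ Fintype.card F) P = (aeval x P) ^ Fintype.card F := by
  rw [← Polynomial.expand_aeval, FiniteField.expand_card, map_pow]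

/-- a linear factor times an irreducible quadratic is impossible -/
theorem no_lin_mul_quad (hF : Fintype.card F = q ^ 2) (p : ℕ) [Fact p.Prime] [CharP F p] {f : ℕ}
    (hqf : q = p ^ f) (a : F) (ψ : F[X]) (hd : ψ.natDegree = 2)
    (hirr : Irreducible ψ)
    (hsym : ((X - C a) * ψ).map (frobQ hF) = -((X - C a) * ψ).reverse) : False := by
  haveI : Fact (Irreducible ψ) := ⟨hirr⟩
  haveI : CharP (AdjoinRoot ψ) p :=
    charP_of_injective_algebraMap (algebraMap F (AdjoinRoot ψ)).injective p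
  have hq1' : 1 ≤ q := q_pos hF
  obtain ⟨θ, hθ⟩ : ∃ θ : AdjoinRoot ψ, θ = AdjoinRoot.root ψ := ⟨_, rfl⟩
  have hθψ : aeval θ ψ = 0 := by rw [hθ, AdjoinRoot.aeval_eq, AdjoinRoot.mk_self]
  have hθ0 : θ ≠ 0 := by
    intro h0
    exact root_not_mem_range ψ (by omega) 0 (by rw [map_zero, ← hθ]; exact h0.symm)
  have hθQ : θ ^ (q ^ 2) ≠ θ := by rw [← hF, hθ]; exact root_pow_card_ne ψ (by omega)
  have hq1 : θ ^ (q + 1) ≠ 1 := by
    intro h1
    apply hθQ
    have : q ^ 2 = (q - 1) * (q + 1) + 1 := by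
      rw [← q21 q hq1']
      have := Nat.one_le_pow 2 q hq1'
      omega
    rw [this, pow_succ, mul_comm (q - 1), pow_mul, h1, one_pow, one_mul]
  have hχθ : aeval θ ((X - C a) * ψ) = 0 := by rw [map_mul, hθψ, mul_zero]
  have hμ := root_symm hF p hqf _ hsym θ hθ0 hχθ
  have e : θ ^ q * (θ ^ q)⁻¹ = 1 := mul_inv_cancel₀ (pow_ne_zero _ hθ0)
  rw [map_mul, mul_eq_zero] at hμ
  rcases hμ with hμ | hμ
  · rw [map_sub, aeval_X, aeval_C, sub_eq_zero] at hμ
    have h1 : θ ^ q = algebraMap F (AdjoinRoot ψ) a⁻¹ := by rw [map_inv₀, ← hμ, inv_inv]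
    have h2 : (θ ^ (q ^ 2)) ^ q = θ ^ q := by
      rw [← pow_mul, mul_comm, pow_mul, h1, ← hF, Cfsg.Agent.S2495.pow_card_of_mem_range]
    exact hθQ (pow_q_inj p hqf h2)
  · have hroots := aeval_root_cases2 ψ hd θ (θ ^ (q ^ 2)) ((θ ^ q)⁻¹) (Ne.symm hθQ) hθψ
      (by rw [← hF, aeval_pow_card, hθψ, zero_pow Fintype.card_ne_zero]) hμ
    rcases hroots with h | h
    · apply hq1
      rw [h] at e
      rw [pow_succ]; exact e
    · apply hq1
      rw [h] at e
      apply pow_q_inj p hqf (x := θ ^ (q + 1)) (y := 1)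
      rw [one_pow, ← pow_mul, show (q + 1) * q = q + q ^ 2 by ring, pow_add]
      exact e

theorem gs_three' (Q : ℕ) : gs Q 3 = Q ^ 2 + Q + 1 := by
  unfold gs
  simp [Finset.sum_range_succ]
  ring

/-- the irreducible cubic case -/
theorem irred_cubicU (hF : Fintype.card F = q ^ 2) (p : ℕ) [Fact p.Prime] [CharP F p] {f : ℕ}
    (hqf : q = p ^ f) (χ : F[X]) (hm : χ.Monic) (hd : χ.natDegree = 3) (h0 : χ.coeff 0 = -1)
    (hirr : Irreducible χ) (hsym : χ.map (frobQ hF) = -χ.reverse) :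
    ∃ c : F, χ ∣ X ^ ((q ^ 2 - q + 1) / Nat.gcd 3 (q + 1)) - C c := by
  classical
  haveI : Fact (Irreducible χ) := ⟨hirr⟩
  haveI : CharP (AdjoinRoot χ) p :=
    charP_of_injective_algebraMap (algebraMap F (AdjoinRoot χ)).injective p
  have hq1' : 1 ≤ q := q_pos hF
  have hq2 : 2 ≤ q := one_lt_q hF
  have hf0 : χ ≠ 0 := hm.ne_zero
  haveI : Module.Finite F (AdjoinRoot χ) := (AdjoinRoot.powerBasis hf0).finite
  haveI : Finite (AdjoinRoot χ) := Module.finite_of_finite F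
  haveI : Fintype (AdjoinRoot χ) := Fintype.ofFinite _
  have hcK : Fintype.card (AdjoinRoot χ) = (q ^ 2) ^ 3 := by
    rw [← Nat.card_eq_fintype_card, Module.natCard_eq_pow_finrank (K := F) (V := AdjoinRoot χ),
      (AdjoinRoot.powerBasis hf0).finrank, AdjoinRoot.powerBasis_dim, Nat.card_eq_fintype_card,
      hF, hd]
  obtain ⟨θ, hθ⟩ : ∃ θ : AdjoinRoot χ, θ = AdjoinRoot.root χ := ⟨_, rfl⟩
  have hθχ : aeval θ χ = 0 := by rw [hθ, AdjoinRoot.aeval_eq, AdjoinRoot.mk_self]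
  have hθ0 : θ ≠ 0 := by
    intro h0
    exact root_not_mem_range χ (by omega) 0 (by rw [map_zero, ← hθ]; exact h0.symm)
  have hθQ : θ ^ (q ^ 2) ≠ θ := by rw [← hF, hθ]; exact root_pow_card_ne χ (by omega)
  have hθQ3 : θ ^ ((q ^ 2) ^ 3) = θ := by rw [← hcK]; exact FiniteField.pow_card θ
  have hq1 : θ ^ (q + 1) ≠ 1 := by
    intro h1
    apply hθQ
    have : q ^ 2 = (q - 1) * (q + 1) + 1 := by
      rw [← q21 q hq1']
      have := Nat.one_le_pow 2 q hq1'
      omega
    rw [this, pow_succ, mul_comm (q - 1), pow_mul, h1, one_pow, one_mul]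
  have hQinj : ∀ x y : AdjoinRoot χ, x ^ (q ^ 2) = y ^ (q ^ 2) → x = y := by
    intro x y hxy
    rw [pow_two, pow_mul, pow_mul] at hxy
    exact pow_q_inj p hqf (pow_q_inj p hqf hxy)
  have h12 : θ ≠ θ ^ (q ^ 2) := Ne.symm hθQ
  have h13 : θ ≠ θ ^ ((q ^ 2) ^ 2) := by
    intro h
    apply hθQ
    have h' : θ ^ ((q ^ 2) ^ 3) = θ ^ (q ^ 2) := by
      rw [show (q ^ 2) ^ 3 = (q ^ 2) ^ 2 * q ^ 2 by ring, pow_mul, ← h]
    rw [← h', hθQ3]
  have h23 : θ ^ (q ^ 2) ≠ θ ^ ((q ^ 2) ^ 2) := by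
    intro h
    apply hθQ
    rw [show (q ^ 2) ^ 2 = q ^ 2 * q ^ 2 by ring, pow_mul] at h
    exact (hQinj _ _ h).symm
  have hμ := root_symm hF p hqf _ hsym θ hθ0 hθχ
  have e : θ ^ q * (θ ^ q)⁻¹ = 1 := mul_inv_cancel₀ (pow_ne_zero _ hθ0)
  have hr2 : aeval (θ ^ (q ^ 2)) χ = 0 := by
    rw [← hF, aeval_pow_card, hθχ, zero_pow Fintype.card_ne_zero]
  have hr3 : aeval (θ ^ ((q ^ 2) ^ 2)) χ = 0 := by
    rw [show (q ^ 2) ^ 2 = q ^ 2 * q ^ 2 by ring, pow_mul]
    nth_rewrite 2 [← hF]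
    rw [aeval_pow_card, hr2, zero_pow Fintype.card_ne_zero]
  have hroots := aeval_root_cases3 χ hd θ (θ ^ (q ^ 2)) (θ ^ ((q ^ 2) ^ 2)) ((θ ^ q)⁻¹)
    h12 h13 h23 hθχ hr2 hr3 hμ
  have hq3 : θ ^ (q ^ 3 + 1) = 1 := by
    rcases hroots with h | h | h
    · exfalso
      apply hq1
      rw [h] at e
      rw [pow_succ]; exact e
    · exfalso
      apply hq1
      rw [h] at e
      apply pow_q_inj p hqf (x := θ ^ (q + 1)) (y := 1)
      rw [one_pow, ← pow_mul, show (q + 1) * q = q + q ^ 2 by ring, pow_add]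
      exact e
    · rw [h] at e
      apply pow_q_inj p hqf (x := θ ^ (q ^ 3 + 1)) (y := 1)
      rw [one_pow, ← pow_mul, show (q ^ 3 + 1) * q = q + (q ^ 2) ^ 2 by ring, pow_add]
      exact e
  have hnorm : θ ^ ((q ^ 2) ^ 2 + q ^ 2 + 1) = 1 := by
    have h1 := root_pow_gs χ hm
    rw [hd, h0, gs_three', hF, ← hθ] at h1
    rw [h1]; norm_num
  obtain ⟨w, hw⟩ : ∃ w, w = θ ^ (q ^ 2 - q + 1) := ⟨_, rfl⟩
  have hw1 : w ^ (q + 1) = 1 := by rw [hw, ← pow_mul, SU_mul1 q hq2, hq3]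
  have hw2 : w ^ (q ^ 2 + q + 1) = 1 := by rw [hw, ← pow_mul, SU_mul2 q hq2, hnorm]
  have hw3 : w = 1 := by
    have : q ^ 2 + q + 1 = (q + 1) * q + 1 := by ring
    rw [this, pow_succ, pow_mul, hw1, one_pow, one_mul] at hw2
    exact hw2
  obtain ⟨N, hN⟩ := dU_dvd_S q hq2
  have hdiv : (q ^ 2 - q + 1) / Nat.gcd 3 (q + 1) = N := by
    rw [hN]; exact Nat.mul_div_cancel_left _ (dU_pos _)
  have hdq : Nat.gcd 3 (q + 1) ∣ Fintype.card F - 1 := by
    rw [hF]; exact dU_dvd_Q q hq1'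
  obtain ⟨c, hc⟩ := mem_range_of_pow_eq_one (F := F) (θ ^ N)
    (Nat.gcd 3 (q + 1)) hdq (by rw [← pow_mul, mul_comm, ← hN, ← hw]; exact hw3)
  refine ⟨c, ?_⟩
  rw [hdiv]
  apply dvd_X_pow_sub_C_of_root_pow χ N c
  rw [← hθ]; exact hc.symm

/-- the classification of cubics with the unitary symmetry -/
theorem cubic_casesU (hF : Fintype.card F = q ^ 2) (p : ℕ) [Fact p.Prime] [CharP F p]
    (hp3 : 3 ≤ p) (χ : F[X]) (hm : χ.Monic)
    (hd : χ.natDegree = 3) (h0 : χ.coeff 0 = -1) (hsym : χ.map (frobQ hF) = -χ.reverse) :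
    ∃ (N : ℕ) (e : F), χ ∣ X ^ N - C e ∧
      (N = q + 1 ∨ N = p * (q + 1) / Nat.gcd 3 (q + 1) ∨
        N = (q ^ 2 - 1) / Nat.gcd 3 (q + 1) ∨ N = (q ^ 2 - q + 1) / Nat.gcd 3 (q + 1)) := by
  obtain ⟨f, hqf⟩ := exists_q_eq hF p
  by_cases hr : ∃ a, χ.IsRoot a
  · obtain ⟨a, ha⟩ := hr
    have hχ : (X - C a) * (χ /ₘ (X - C a)) = χ := mul_divByMonic_eq_iff_isRoot.mpr ha
    obtain ⟨ψ, hψdef⟩ : ∃ ψ, ψ = χ /ₘ (X - C a) := ⟨_, rfl⟩
    rw [← hψdef] at hχ
    have hψm : ψ.Monic := by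
      have : ((X - C a) * ψ).Monic := by rw [hχ]; exact hm
      exact Monic.of_mul_monic_left (monic_X_sub_C a) this
    have hψd : ψ.natDegree = 2 := by
      have := congrArg natDegree hχ
      rw [Monic.natDegree_mul (monic_X_sub_C a) hψm, natDegree_X_sub_C, hd] at this
      omega
    have hψ0 : a * ψ.coeff 0 = 1 := by
      have := congrArg (fun f => coeff f 0) hχ
      simp only [mul_coeff_zero, coeff_sub, coeff_X_zero, coeff_C_zero, h0] at this
      linear_combination -this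
    by_cases hr2 : ∃ b, ψ.IsRoot b
    · obtain ⟨b, hb⟩ := hr2
      have hψ : (X - C b) * (ψ /ₘ (X - C b)) = ψ := mul_divByMonic_eq_iff_isRoot.mpr hb
      obtain ⟨ρ, hρdef⟩ : ∃ ρ, ρ = ψ /ₘ (X - C b) := ⟨_, rfl⟩
      rw [← hρdef] at hψ
      have hρm : ρ.Monic := by
        have : ((X - C b) * ρ).Monic := by rw [hψ]; exact hψm
        exact Monic.of_mul_monic_left (monic_X_sub_C b) this
      have hρd : ρ.natDegree = 1 := by
        have := congrArg natDegree hψ
        rw [Monic.natDegree_mul (monic_X_sub_C b) hρm, natDegree_X_sub_C, hψd] at this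
        omega
      have hρ : ρ = X - C (-ρ.coeff 0) := by
        rw [C_neg, sub_neg_eq_add]
        exact hρm.eq_X_add_C hρd
      obtain ⟨c, hc⟩ : ∃ c, c = -ρ.coeff 0 := ⟨_, rfl⟩
      rw [← hc] at hρ
      have hfact : χ = (X - C a) * (X - C b) * (X - C c) := by
        rw [← hχ, ← hψ, hρ]; ring
      have habc : a * b * c = 1 := by
        have h1 : ψ.coeff 0 = b * c := by
          rw [← hψ, hρ]
          simp only [mul_coeff_zero, coeff_sub, coeff_X_zero, coeff_C_zero]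
          ring
        rw [h1] at hψ0
        rw [← hψ0]; ring
      have hT : ∀ x : F, (x = a ∨ x = b ∨ x = c) →
          ((x ^ q)⁻¹ = a ∨ (x ^ q)⁻¹ = b ∨ (x ^ q)⁻¹ = c) := by
        intro x hx
        have hx0 : x ≠ 0 := by
          rintro rfl
          rcases hx with h | h | h
          · rw [← h] at habc; simp at habc
          · rw [← h] at habc; simp at habc
          · rw [← h] at habc; simp at habc
        have hxroot : aeval x χ = 0 := by
          rw [hfact]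
          rcases hx with h | h | h <;> simp [h]
        have := root_symm hF p hqf χ hsym x hx0 hxroot
        rw [hfact] at this
        simp only [map_mul, map_sub, aeval_X, aeval_C, Algebra.algebraMap_self, RingHom.id_apply,
          mul_eq_zero, sub_eq_zero] at this
        rcases this with (h | h) | h
        · exact Or.inl h
        · exact Or.inr (Or.inl h)
        · exact Or.inr (Or.inr h)
      obtain ⟨N, e, hdvd, hN⟩ := split_caseU hF p hp3 a b c habc hT
      refine ⟨N, e, by rw [hfact]; exact hdvd, ?_⟩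
      rcases hN with h | h | h
      · exact Or.inl h
      · exact Or.inr (Or.inl h)
      · exact Or.inr (Or.inr (Or.inl h))
    · have hirr : Irreducible ψ := by
        apply Polynomial.irreducible_of_degree_le_three_of_not_isRoot
        · rw [hψd]; decide
        · intro x hx; exact hr2 ⟨x, hx⟩
      exact (no_lin_mul_quad hF p hqf a ψ hψd hirr (by rw [hχ]; exact hsym)).elim
  · have hirr : Irreducible χ := by
      apply Polynomial.irreducible_of_degree_le_three_of_not_isRoot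
      · rw [hd]; decide
      · intro x hx; exact hr ⟨x, hx⟩
    obtain ⟨e, he⟩ := irred_cubicU hF p hqf χ hm hd h0 hirr hsym
    exact ⟨_, e, he, Or.inr (Or.inr (Or.inr rfl))⟩

/-- the order of every element divides one of the listed numbers -/
theorem order_dvdU (hF : Fintype.card F = q ^ 2) (p : ℕ) [Fact p.Prime] [CharP F p]
    (hp3 : 3 ≤ p) (x : Cfsg.PSU 3 F q) :
    ∃ N : ℕ, orderOf x ∣ N ∧
      (N = q + 1 ∨ N = p * (q + 1) / Nat.gcd 3 (q + 1) ∨
        N = (q ^ 2 - 1) / Nat.gcd 3 (q + 1) ∨ N = (q ^ 2 - q + 1) / Nat.gcd 3 (q + 1)) := by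
  obtain ⟨g, rfl⟩ := QuotientGroup.mk_surjective x
  obtain ⟨A, hA⟩ : ∃ A, A = ((g : Matrix.SpecialLinearGroup (Fin 3) F) : Matrix (Fin 3) (Fin 3) F) :=
    ⟨_, rfl⟩
  have hm : A.charpoly.Monic := Matrix.charpoly_monic _
  have hd : A.charpoly.natDegree = 3 := by
    rw [Matrix.charpoly_natDegree_eq_dim, Fintype.card_fin]
  have h0 : A.charpoly.coeff 0 = -1 := by
    have := Matrix.det_eq_sign_charpoly_coeff A
    rw [hA, g.1.2, Fintype.card_fin, ← hA] at this
    linear_combination this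
  have hsym : A.charpoly.map (frobQ hF) = -A.charpoly.reverse := by
    rw [hA]; exact charpoly_symm hF g
  obtain ⟨N, e, hdvd, hN⟩ := cubic_casesU hF p hp3 _ hm hd h0 hsym
  refine ⟨N, ?_, hN⟩
  apply orderOf_dvd_of_pow_eq_one
  rw [mk_pow_eq_one_iff_PSU hF, ← hA]
  exact ⟨e, pow_eq_scalar_of_charpoly_dvd _ N e hdvd⟩

end adjoin

section existU

variable {F : Type*} [Field F] [Fintype F] {q : ℕ}

theorem orderOf_eq_of_iff' {G : Type*} [Monoid G] (x : G) (N : ℕ) (h : ∀ j, x ^ j = 1 ↔ N ∣ j) :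
    orderOf x = N :=
  Nat.dvd_antisymm (orderOf_dvd_of_pow_eq_one ((h N).mpr dvd_rfl))
    ((h _).mp (pow_orderOf_eq_one x))

/-- an element of order `q + 1` in the multiplicative group -/
theorem exists_norm_one_gen (hF : Fintype.card F = q ^ 2) :
    ∃ a : F, a ≠ 0 ∧ orderOf a = q + 1 := by
  classical
  have hq1 : 1 ≤ q := q_pos hF
  have hq2 : 2 ≤ q := one_lt_q hF
  obtain ⟨ζ, hζ⟩ := IsCyclic.exists_generator (α := Fˣ)
  have hoζ : orderOf ζ = q ^ 2 - 1 := by
    rw [orderOf_eq_card_of_forall_mem_zpowers hζ, Nat.card_eq_fintype_card, Fintype.card_units, hF]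
  refine ⟨((ζ ^ (q - 1) : Fˣ) : F), Units.ne_zero _, ?_⟩
  rw [orderOf_units, orderOf_pow_of_dvd (by omega)
    (by rw [hoζ, q21 q hq1]; exact Dvd.intro _ rfl), hoζ, q21 q hq1]
  exact Nat.mul_div_cancel_left _ (by omega)

/-- a generator of the multiplicative group -/
theorem exists_gen (hF : Fintype.card F = q ^ 2) :
    ∃ b : F, b ≠ 0 ∧ orderOf b = q ^ 2 - 1 := by
  classical
  obtain ⟨ζ, hζ⟩ := IsCyclic.exists_generator (α := Fˣ)
  have hoζ : orderOf ζ = q ^ 2 - 1 := by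
    rw [orderOf_eq_card_of_forall_mem_zpowers hζ, Nat.card_eq_fintype_card, Fintype.card_units, hF]
  exact ⟨(ζ : F), Units.ne_zero _, by rw [orderOf_units, hoζ]⟩

/-- the element of order `q + 1` -/
theorem exists_U1 (hF : Fintype.card F = q ^ 2) :
    ∃ x : Cfsg.PSU 3 F q, orderOf x = q + 1 := by
  classical
  obtain ⟨a, ha0, hoa⟩ := exists_norm_one_gen hF
  have haq : a * a ^ q = 1 := by rw [← pow_succ', ← hoa]; exact pow_orderOf_eq_one a
  have hdet : (Matrix.diagonal ![a, a⁻¹, 1] : Matrix (Fin 3) (Fin 3) F).det = 1 := by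
    rw [Matrix.det_diagonal, Fin.prod_univ_three]
    simp [ha0]
  have hd1 : ∀ i : Fin 3, (![a, a⁻¹, 1] : Fin 3 → F) i * (![a, a⁻¹, 1] : Fin 3 → F) i ^ q = 1 := by
    intro i
    fin_cases i
    · simpa using haq
    · simp only [Fin.mk_one, Matrix.cons_val_one, Matrix.cons_val_zero]
      rw [inv_pow, ← mul_inv, haq, inv_one]
    · simp
  have hmem : (⟨Matrix.diagonal ![a, a⁻¹, 1], hdet⟩ : Matrix.SpecialLinearGroup (Fin 3) F) ∈
      Cfsg.SU 3 F q := by
    refine (Cfsg.Agent.Lib.Helper08.mem_SU_iff _).mpr ?_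
    intro u v
    unfold Cfsg.hermForm
    apply Finset.sum_congr rfl
    intro i _
    show (Matrix.diagonal ![a, a⁻¹, 1] *ᵥ u) i * (Matrix.diagonal ![a, a⁻¹, 1] *ᵥ v) i ^ q = _
    rw [Matrix.mulVec_diagonal, Matrix.mulVec_diagonal, mul_pow]
    linear_combination (u i * v i ^ q) * hd1 i
  let g : Cfsg.SU 3 F q := ⟨⟨Matrix.diagonal ![a, a⁻¹, 1], hdet⟩, hmem⟩
  have hg : ((g : Matrix.SpecialLinearGroup (Fin 3) F) : Matrix (Fin 3) (Fin 3) F) =
      Matrix.diagonal ![a, a⁻¹, 1] := rfl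
  have hiff : ∀ j : ℕ, (QuotientGroup.mk g : Cfsg.PSU 3 F q) ^ j = 1 ↔ q + 1 ∣ j := by
    intro j
    rw [mk_pow_eq_one_iff_PSU hF, ← hoa, orderOf_dvd_iff_pow_eq_one, hg]
    constructor
    · rintro ⟨c, hc⟩
      rw [Matrix.diagonal_pow, Matrix.scalar_apply] at hc
      have h := Matrix.diagonal_injective hc
      have h0 := congrFun h 0
      have h2 := congrFun h 2
      simp at h0 h2
      rw [h0, ← h2]
    · intro h
      refine ⟨1, ?_⟩
      rw [Matrix.diagonal_pow, Matrix.scalar_apply]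
      congr 1
      funext i
      fin_cases i
      · simpa using h
      · simp [h]
      · simp
  exact ⟨QuotientGroup.mk g, orderOf_eq_of_iff' _ _ hiff⟩

/-- the hermitian form in a Witt basis -/
def wform (q : ℕ) (u v : Fin 3 → F) : F := u 0 * v 1 ^ q + u 1 * v 0 ^ q + u 2 * v 2 ^ q

theorem wform_HForm (hF : Fintype.card F = q ^ 2) : HForm q (wform (F := F) q) := by
  have hq0 : q ≠ 0 := (q_pos hF).ne'
  refine ⟨?_, ?_, ?_, ?_⟩
  · intro x x' y
    simp only [wform, Pi.add_apply]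
    ring
  · intro c x y
    simp only [wform, Pi.smul_apply, smul_eq_mul]
    ring
  · intro x y
    simp only [wform]
    rw [add_pow_q hF, add_pow_q hF, mul_pow, mul_pow, mul_pow, pow_q_pow_q hF, pow_q_pow_q hF,
      pow_q_pow_q hF]
    ring
  · intro x hx
    have h0 := hx (Pi.single 1 1)
    have h1 := hx (Pi.single 0 1)
    have h2 := hx (Pi.single 2 1)
    simp [wform, hq0] at h0 h1 h2
    funext i
    fin_cases i
    · exact h0
    · exact h1
    · exact h2

/-- isometries of the Witt form give elements of `PSU_3` -/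
theorem exists_PSU_of_wform (hF : Fintype.card F = q ^ 2) (h2 : (2 : F) ≠ 0)
    (B : Matrix (Fin 3) (Fin 3) F) (hdet : B.det = 1)
    (hB : ∀ u v, wform q (B *ᵥ u) (B *ᵥ v) = wform q u v) :
    ∃ x : Cfsg.PSU 3 F q, ∀ j : ℕ, x ^ j = 1 ↔ ∃ c : F, B ^ j = Matrix.scalar (Fin 3) c := by
  classical
  have hV : Module.finrank F (Fin 3 → F) = 3 := by simp
  obtain ⟨g, hg⟩ := exists_SU_of_isometry hF h2 hV (wform q) (wform_HForm hF) (Matrix.toLin' B)
    (by intro x y; rw [Matrix.toLin'_apply, Matrix.toLin'_apply]; exact hB x y)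
    (by rw [LinearMap.det_toLin']; exact hdet)
  refine ⟨QuotientGroup.mk g, fun j => ?_⟩
  rw [mk_pow_eq_one_iff_PSU hF]
  apply exists_congr
  intro c
  rw [hg j c]
  have h1 : (Matrix.toLin' B) ^ j = Matrix.toLinAlgEquiv' (B ^ j) := by
    rw [map_pow]; rfl
  have h3 : algebraMap F (Module.End F (Fin 3 → F)) c =
      Matrix.toLinAlgEquiv' (Matrix.scalar (Fin 3) c) := by
    rw [scalar_eq_algebraMap', AlgEquiv.commutes]
  rw [h1, h3]
  exact Matrix.toLinAlgEquiv'.injective.eq_iff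

/-- the element of order `(q ^ 2 - 1) / d` -/
theorem exists_U3 (hF : Fintype.card F = q ^ 2) (h2 : (2 : F) ≠ 0) :
    ∃ x : Cfsg.PSU 3 F q, orderOf x = (q ^ 2 - 1) / Nat.gcd 3 (q + 1) := by
  classical
  have hq1 : 1 ≤ q := q_pos hF
  obtain ⟨b, hb0, hob⟩ := exists_gen hF
  obtain ⟨tb, htb⟩ : ∃ tb : F, tb = (b ^ q)⁻¹ := ⟨_, rfl⟩
  obtain ⟨x, hx⟩ : ∃ x : F, x = (b * tb)⁻¹ := ⟨_, rfl⟩
  have hbq0 : b ^ q ≠ 0 := pow_ne_zero _ hb0
  have htb0 : tb ≠ 0 := by rw [htb]; exact inv_ne_zero hbq0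
  have k1 : b * tb ^ q = 1 := by
    rw [htb, inv_pow, pow_q_pow_q hF, mul_inv_cancel₀ hb0]
  have k2 : tb * b ^ q = 1 := by rw [htb, inv_mul_cancel₀ hbq0]
  have k3 : x * x ^ q = 1 := by
    rw [hx, inv_pow, ← mul_inv, mul_pow]
    have : b * tb * (b ^ q * tb ^ q) = (b * tb ^ q) * (tb * b ^ q) := by ring
    rw [this, k1, k2, one_mul, inv_one]
  have hbt0 : b * tb ≠ 0 := mul_ne_zero hb0 htb0
  have hdet : (Matrix.diagonal ![b, tb, x] : Matrix (Fin 3) (Fin 3) F).det = 1 := by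
    rw [Matrix.det_diagonal, Fin.prod_univ_three]
    simp only [Matrix.cons_val_zero, Matrix.cons_val_one, Matrix.cons_val_two,
      Matrix.tail_cons, Matrix.head_cons]
    rw [hx]
    exact mul_inv_cancel₀ hbt0
  have hB : ∀ u v, wform q (Matrix.diagonal ![b, tb, x] *ᵥ u)
      (Matrix.diagonal ![b, tb, x] *ᵥ v) = wform q u v := by
    intro u v
    simp only [wform, Matrix.mulVec_diagonal, Matrix.cons_val_zero, Matrix.cons_val_one,
      Matrix.cons_val_two, Matrix.tail_cons, Matrix.head_cons, mul_pow]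
    linear_combination (u 0 * v 1 ^ q) * k1 + (u 1 * v 0 ^ q) * k2 + (u 2 * v 2 ^ q) * k3
  obtain ⟨y, hy⟩ := exists_PSU_of_wform hF h2 _ hdet hB
  refine ⟨y, ?_⟩
  have hdp := dU_pos q
  obtain ⟨N, hN⟩ := dU_dvd_Q q hq1
  have hNdiv : (q ^ 2 - 1) / Nat.gcd 3 (q + 1) = N := by
    rw [hN]; exact Nat.mul_div_cancel_left _ hdp
  rw [hNdiv]
  apply orderOf_eq_of_iff'
  intro j
  rw [hy j]
  have hTpow : tb ^ j = ((b ^ j) ^ q)⁻¹ := by
    rw [htb, inv_pow, ← pow_mul, mul_comm, pow_mul]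
  have hxpow : x ^ j = (b ^ j * tb ^ j)⁻¹ := by rw [hx, inv_pow, mul_pow]
  constructor
  · rintro ⟨c, hc⟩
    rw [Matrix.diagonal_pow, Matrix.scalar_apply] at hc
    have h := Matrix.diagonal_injective hc
    have h0 := congrFun h 0
    have h1 := congrFun h 1
    have h2' := congrFun h 2
    simp only [Pi.pow_apply, Matrix.cons_val_zero, Matrix.cons_val_one,
      Matrix.cons_val_two, Matrix.tail_cons, Matrix.head_cons] at h0 h1 h2'
    have hc0 : c ≠ 0 := by rw [← h0]; exact pow_ne_zero _ hb0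
    have hcq : c ^ (q + 1) = 1 := by
      apply T_fix hc0
      calc (c ^ q)⁻¹ = ((b ^ j) ^ q)⁻¹ := by rw [h0]
        _ = tb ^ j := hTpow.symm
        _ = c := h1
    have hc3 : c ^ 3 = 1 := by
      rw [hxpow, h0, h1] at h2'
      have : c * c * c = 1 := by
        have h4 : (c * c)⁻¹ * (c * c) = 1 := inv_mul_cancel₀ (mul_ne_zero hc0 hc0)
        rw [h2'] at h4
        linear_combination h4
      rw [← this]; ring
    have hcd : c ^ Nat.gcd 3 (q + 1) = 1 := pow_gcd_eq_one.mpr ⟨hc3, hcq⟩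
    have h3 : b ^ (j * Nat.gcd 3 (q + 1)) = 1 := by rw [pow_mul, h0, hcd]
    have h4 := orderOf_dvd_of_pow_eq_one h3
    rw [hob, hN, mul_comm] at h4
    exact Nat.dvd_of_mul_dvd_mul_right hdp h4
  · rintro ⟨t, rfl⟩
    obtain ⟨ζ, hζ⟩ : ∃ ζ, ζ = b ^ N := ⟨_, rfl⟩
    have hζd : ζ ^ Nat.gcd 3 (q + 1) = 1 := by
      rw [hζ, ← pow_mul, mul_comm, ← hN, ← hob]
      exact pow_orderOf_eq_one b
    have hζ3 : ζ ^ 3 = 1 := by
      obtain ⟨e, he⟩ := dU_dvd_three q
      rw [he, pow_mul, hζd, one_pow]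
    have hζq : ζ ^ (q + 1) = 1 := by
      obtain ⟨e, he⟩ := dU_dvd q
      rw [he, pow_mul, hζd, one_pow]
    obtain ⟨c, hc⟩ : ∃ c, c = ζ ^ t := ⟨_, rfl⟩
    have hc3 : c * c * c = 1 := by
      have : c ^ 3 = 1 := by rw [hc, ← pow_mul, mul_comm, pow_mul, hζ3, one_pow]
      rw [← this]; ring
    have hcq : c ^ q * c = 1 := by
      rw [← pow_succ, hc, ← pow_mul, mul_comm, pow_mul, hζq, one_pow]
    have hbj : b ^ (N * t) = c := by rw [pow_mul, ← hζ, hc]
    have htj : tb ^ (N * t) = c := by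
      rw [hTpow, hbj]
      exact inv_eq_of_mul_eq_one_right hcq
    have hxj : x ^ (N * t) = c := by
      rw [hxpow, hbj, htj]
      exact inv_eq_of_mul_eq_one_right hc3
    refine ⟨c, ?_⟩
    rw [Matrix.diagonal_pow, Matrix.scalar_apply]
    congr 1
    funext i
    fin_cases i
    · simpa using hbj
    · simpa using htj
    · simpa using hxj

/-- the element of order `p (q + 1) / d` -/
theorem exists_U2 (hF : Fintype.card F = q ^ 2) (p : ℕ) [Fact p.Prime] [CharP F p]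
    (h2 : (2 : F) ≠ 0) :
    ∃ x : Cfsg.PSU 3 F q, orderOf x = p * (q + 1) / Nat.gcd 3 (q + 1) := by
  classical
  have hq1 : 1 ≤ q := q_pos hF
  obtain ⟨a, ha0, hoa⟩ := exists_norm_one_gen hF
  have haq : a * a ^ q = 1 := by rw [← pow_succ', ← hoa]; exact pow_orderOf_eq_one a
  obtain ⟨lam, hlam0, hlam'⟩ := Cfsg.Agent.Lib.Helper46.exists_trace_zero hF
  have hlam : lam ^ q = -lam := by
    rw [← Cfsg.Agent.Lib.Helper46.frobRing_apply hF]; exact hlam'
  obtain ⟨b, hb⟩ : ∃ b : F, b = (a * a)⁻¹ := ⟨_, rfl⟩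
  have hab : a * a * b = 1 := by rw [hb]; exact mul_inv_cancel₀ (mul_ne_zero ha0 ha0)
  have hbq : b * b ^ q = 1 := by
    rw [hb, inv_pow, ← mul_inv, mul_pow]
    have : a * a * (a ^ q * a ^ q) = (a * a ^ q) * (a * a ^ q) := by ring
    rw [this, haq, one_mul, inv_one]
  obtain ⟨s, hs⟩ : ∃ s : F, s = a * lam := ⟨_, rfl⟩
  have hs0 : s ≠ 0 := by rw [hs]; exact mul_ne_zero ha0 hlam0
  have hsq : s ^ q = -(a ^ q * lam) := by rw [hs, mul_pow, hlam]; ring
  have hdet : (!![a, s, 0; 0, a, 0; 0, 0, b] : Matrix (Fin 3) (Fin 3) F).det = 1 := by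
    simp [Matrix.det_fin_three]
    linear_combination hab
  have hBu : ∀ u : Fin 3 → F, (!![a, s, 0; 0, a, 0; 0, 0, b] : Matrix (Fin 3) (Fin 3) F) *ᵥ u =
      ![a * u 0 + s * u 1, a * u 1, b * u 2] := by
    intro u
    funext i
    fin_cases i <;> simp [Matrix.mulVec, dotProduct, Fin.sum_univ_three]
  have hB : ∀ u v, wform q ((!![a, s, 0; 0, a, 0; 0, 0, b] : Matrix (Fin 3) (Fin 3) F) *ᵥ u)
      ((!![a, s, 0; 0, a, 0; 0, 0, b] : Matrix (Fin 3) (Fin 3) F) *ᵥ v) = wform q u v := by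
    intro u v
    rw [hBu u, hBu v]
    simp only [wform, Matrix.cons_val_zero, Matrix.cons_val_one, Matrix.cons_val_two,
      Matrix.tail_cons, Matrix.head_cons]
    rw [add_pow_q hF, mul_pow, mul_pow, mul_pow, mul_pow, hsq, hs]
    linear_combination (u 0 * v 1 ^ q + u 1 * v 0 ^ q) * haq + (u 2 * v 2 ^ q) * hbq
  obtain ⟨y, hy⟩ := exists_PSU_of_wform hF h2 _ hdet hB
  refine ⟨y, ?_⟩
  have hpow : ∀ j : ℕ, ∃ t : F, t * a = (j : F) * s * a ^ j ∧
      (!![a, s, 0; 0, a, 0; 0, 0, b] : Matrix (Fin 3) (Fin 3) F) ^ j =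
        !![a ^ j, t, 0; 0, a ^ j, 0; 0, 0, b ^ j] := by
    intro j
    induction j with
    | zero =>
      refine ⟨0, by simp, ?_⟩
      rw [pow_zero, pow_zero, pow_zero, Matrix.one_fin_three]
    | succ j ih =>
      obtain ⟨t, ht, hm⟩ := ih
      refine ⟨a ^ j * s + t * a, ?_, ?_⟩
      · rw [add_mul, ht]
        push_cast
        ring
      · rw [pow_succ, hm, Matrix.mul_fin_three]
        congr 1
        · simp only [pow_succ]; congr 1 <;> ring_nf
  obtain ⟨M, hM⟩ := dU_dvd q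
  have hdp := dU_pos q
  have hMdiv : (q + 1) / Nat.gcd 3 (q + 1) = M := by
    nth_rewrite 1 [hM]
    exact Nat.mul_div_cancel_left _ hdp
  have hN : p * (q + 1) / Nat.gcd 3 (q + 1) = p * M := by
    rw [Nat.mul_div_assoc p (dU_dvd q), hMdiv]
  rw [hN]
  have hcop : Nat.Coprime p M := by
    have hpp : p.Prime := Fact.out
    obtain ⟨f, hqf⟩ := exists_q_eq hF p
    have hf0 : f ≠ 0 := by
      rintro rfl
      rw [pow_zero] at hqf
      have := one_lt_q hF
      omega
    have hpq : p ∣ q := by rw [hqf]; exact dvd_pow_self p hf0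
    have h1 : Nat.Coprime p (q + 1) := by
      rw [Nat.Prime.coprime_iff_not_dvd hpp]
      intro h
      have : p ∣ 1 := by
        have := Nat.dvd_sub h hpq
        rwa [show q + 1 - q = 1 by omega] at this
      exact hpp.one_lt.ne' (Nat.dvd_one.mp this)
    exact Nat.Coprime.coprime_dvd_right ⟨_, by rw [hM, mul_comm]⟩ h1
  apply orderOf_eq_of_iff'
  intro j
  rw [hy j]
  obtain ⟨t, ht, hm⟩ := hpow j
  rw [hm]
  have haj0 : a ^ j ≠ 0 := pow_ne_zero _ ha0
  have ht0 : t = 0 ↔ p ∣ j := by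
    rw [← CharP.cast_eq_zero_iff F p j]
    constructor
    · intro h
      rw [h, zero_mul] at ht
      rcases mul_eq_zero.mp ht.symm with h' | h'
      · rcases mul_eq_zero.mp h' with h'' | h''
        · exact h''
        · exact absurd h'' hs0
      · exact absurd h' haj0
    · intro h
      rw [h, zero_mul, zero_mul] at ht
      rcases mul_eq_zero.mp ht with h' | h'
      · exact h'
      · exact absurd h' ha0
  have hbj : a ^ j = b ^ j ↔ M ∣ j := by
    rw [← hMdiv, ← MU_dvd_iff, ← hoa, orderOf_dvd_iff_pow_eq_one]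
    have e1 : a ^ (3 * j) = a ^ j * (a ^ j * a ^ j) := by rw [← pow_add, ← pow_add]; ring_nf
    have e2 : (a ^ j * a ^ j) * b ^ j = 1 := by rw [← mul_pow, ← mul_pow, hab, one_pow]
    have hne : a ^ j * a ^ j ≠ 0 := mul_ne_zero haj0 haj0
    constructor
    · intro h
      rw [e1, mul_comm]
      nth_rewrite 3 [h]
      exact e2
    · intro h
      rw [e1] at h
      have : a ^ j * (a ^ j * a ^ j) = b ^ j * (a ^ j * a ^ j) := by
        rw [h, mul_comm, e2]
      exact mul_right_cancel₀ hne this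
  constructor
  · rintro ⟨c, hc⟩
    rw [Matrix.scalar_apply] at hc
    have h00 := congrFun (congrFun hc 0) 0
    have h01 := congrFun (congrFun hc 0) 1
    have h22 := congrFun (congrFun hc 2) 2
    simp at h00 h01 h22
    exact Nat.Coprime.mul_dvd_of_dvd_of_dvd hcop (ht0.mp h01) (hbj.mp (h00.trans h22.symm))
  · intro h
    have hpj : p ∣ j := (Dvd.intro _ rfl).trans h
    have hMj : M ∣ j := (Dvd.intro_left _ rfl).trans h
    refine ⟨a ^ j, ?_⟩
    rw [ht0.mpr hpj, ← hbj.mpr hMj, Matrix.scalar_apply]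
    ext i k
    fin_cases i <;> fin_cases k <;> simp

/-- the element of order `(q ^ 2 - q + 1) / d` -/
theorem exists_U4 (hF : Fintype.card F = q ^ 2) (p : ℕ) [Fact p.Prime] [CharP F p]
    (h2 : (2 : F) ≠ 0) :
    ∃ x : Cfsg.PSU 3 F q, orderOf x = (q ^ 2 - q + 1) / Nat.gcd 3 (q + 1) := by
  classical
  have hq1 : 1 ≤ q := q_pos hF
  have hq2 : 2 ≤ q := one_lt_q hF
  obtain ⟨f, hqf⟩ := exists_q_eq hF p
  let K := FiniteField.Extension F p 3
  haveI : Fintype K := Fintype.ofFinite K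
  haveI : CharP K p := charP_of_injective_algebraMap (algebraMap F K).injective p
  have hfr : Module.finrank F K = 3 := FiniteField.finrank_extension F p 3
  have hcK : Fintype.card K = (q ^ 2) ^ 3 := by
    rw [← Nat.card_eq_fintype_card, FiniteField.natCard_extension, Nat.card_eq_fintype_card, hF]
  let φ : K →+* K := iterateFrobenius K p f
  have hφ : ∀ x, φ x = x ^ q := fun x => by rw [hqf]; exact iterateFrobenius_def ..
  have hφ6 : ∀ x, φ (φ (φ (φ (φ (φ x))))) = x := by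
    intro x
    simp only [hφ]
    rw [← pow_mul, ← pow_mul, ← pow_mul, ← pow_mul, ← pow_mul]
    have : q * (q * (q * (q * (q * q)))) = Fintype.card K := by rw [hcK]; ring
    rw [this]; exact FiniteField.pow_card x
  have htr : ∀ z : K, algebraMap F K (Algebra.trace F K z) =
      z + φ (φ z) + φ (φ (φ (φ z))) := by
    intro z
    have e1 : φ (φ z) = z ^ (q ^ 2) := by rw [hφ, hφ, ← pow_mul, pow_two]
    have e2 : φ (φ (φ (φ z))) = z ^ ((q ^ 2) ^ 2) := by
      rw [hφ, hφ, hφ, hφ, ← pow_mul, ← pow_mul, ← pow_mul]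
      congr 1
      ring
    rw [FiniteField.algebraMap_trace_eq_sum_pow, hfr, Nat.card_eq_fintype_card, hF,
      Finset.sum_range_succ, Finset.sum_range_succ, Finset.sum_range_one, pow_zero, pow_one,
      pow_one, e2, e1]
  obtain ⟨h, hdef⟩ : ∃ h : K → K → F, h = fun x y => Algebra.trace F K (x * φ (φ (φ y))) :=
    ⟨_, rfl⟩
  have happ : ∀ x y, h x y = Algebra.trace F K (x * φ (φ (φ y))) := by
    intro x y; rw [hdef]
  have hh : HForm q h := by
    refine ⟨?_, ?_, ?_, ?_⟩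
    · intro x x' y
      rw [happ, happ, happ, add_mul, map_add]
    · intro c x y
      rw [happ, happ, smul_mul_assoc, map_smul, smul_eq_mul]
    · intro x y
      apply (algebraMap F K).injective
      rw [happ, happ, map_pow, ← hφ, htr, htr]
      simp only [map_add, map_mul, hφ6]
      ring
    · intro x hx
      have htr' := (traceForm_nondegenerate F K).1 x
      simp_rw [Algebra.traceForm_apply] at htr'
      apply htr'
      intro z
      have := hx (φ (φ (φ z)))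
      rw [happ, hφ6] at this
      exact this
  -- the element
  obtain ⟨ζ, hζ⟩ := IsCyclic.exists_generator (α := Kˣ)
  have hoζ : orderOf ζ = (q ^ 2) ^ 3 - 1 := by
    rw [orderOf_eq_card_of_forall_mem_zpowers hζ, Nat.card_eq_fintype_card, Fintype.card_units,
      hcK]
  have hfac : (q ^ 2) ^ 3 - 1 = ((q + 1) * (q ^ 3 - 1)) * (q ^ 2 - q + 1) := by
    have h1 : (q ^ 2) ^ 3 = (q ^ 3) ^ 2 := by ring
    rw [h1, q21 (q ^ 3) (Nat.one_le_pow _ _ hq1), ← SU_mul1 q hq2]
    ring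
  obtain ⟨θ, hθ⟩ : ∃ θ : K, θ = ((ζ ^ ((q + 1) * (q ^ 3 - 1)) : Kˣ) : K) := ⟨_, rfl⟩
  have hq3 : 1 ≤ q ^ 3 - 1 := by
    have : 2 ^ 3 ≤ q ^ 3 := Nat.pow_le_pow_left hq2 3
    omega
  have hS0 : 0 < q ^ 2 - q + 1 := by omega
  have hoθ : orderOf θ = q ^ 2 - q + 1 := by
    rw [hθ, orderOf_units, orderOf_pow_of_dvd (Nat.mul_ne_zero (by omega) (by omega))
      (by rw [hoζ, hfac]; exact Dvd.intro _ rfl), hoζ, hfac]
    exact Nat.mul_div_cancel_left _ (Nat.mul_pos (by omega) (by omega))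
  have hθ0 : θ ≠ 0 := by rw [hθ]; exact Units.ne_zero _
  have hθ1 : θ ^ (q ^ 3 + 1) = 1 := by
    rw [← orderOf_dvd_iff_pow_eq_one, hoθ, ← SU_mul1 q hq2]
    exact Dvd.intro _ rfl
  have hθ2 : θ ^ ((q ^ 2) ^ 2 + q ^ 2 + 1) = 1 := by
    rw [← orderOf_dvd_iff_pow_eq_one, hoθ, ← SU_mul2 q hq2]
    exact Dvd.intro _ rfl
  have hθφ : θ * φ (φ (φ θ)) = 1 := by
    simp only [hφ]
    rw [← pow_mul, ← pow_mul, ← pow_succ']
    have : q * (q * q) + 1 = q ^ 3 + 1 := by ring
    rw [this, hθ1]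
  obtain ⟨T, hTdef⟩ : ∃ T : K →ₗ[F] K, T = Algebra.lmul F K θ := ⟨_, rfl⟩
  have hTapp : ∀ x, T x = θ * x := by intro x; rw [hTdef]; rfl
  have hT : ∀ x y, h (T x) (T y) = h x y := by
    intro x y
    rw [happ, happ, hTapp, hTapp]
    simp only [map_mul]
    have : θ * x * (φ (φ (φ θ)) * φ (φ (φ y))) = (θ * φ (φ (φ θ))) * (x * φ (φ (φ y))) := by ring
    rw [this, hθφ, one_mul]
  have hdetT : LinearMap.det T = 1 := by
    rw [hTdef, ← Algebra.norm_apply]
    apply (algebraMap F K).injective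
    rw [FiniteField.algebraMap_norm_eq_pow, map_one]
    have hexp : (Nat.card K - 1) / (Nat.card F - 1) = (q ^ 2) ^ 2 + q ^ 2 + 1 := by
      rw [Nat.card_eq_fintype_card, Nat.card_eq_fintype_card, hcK, hF]
      have hQ2 : 2 ≤ q ^ 2 := by nlinarith
      have := gs_mul (q ^ 2) 3 (by omega)
      rw [gs_three'] at this
      exact Nat.div_eq_of_eq_mul_left (by omega) this.symm
    rw [hexp, hθ2]
  obtain ⟨g, hg⟩ := exists_SU_of_isometry hF h2 hfr h hh T hT hdetT
  refine ⟨QuotientGroup.mk g, ?_⟩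
  apply orderOf_eq_of_iff'
  intro j
  rw [mk_pow_eq_one_iff_PSU hF, ← SU_dvd_iff q j hq2, ← hoθ, orderOf_dvd_iff_pow_eq_one]
  have hTj : T ^ j = Algebra.lmul F K (θ ^ j) := by rw [hTdef, map_pow]
  have hq21' : Fintype.card F - 1 = q ^ 2 - 1 := by rw [hF]
  constructor
  · rintro ⟨c, hc⟩
    have h1 := (hg j c).mp hc
    rw [hTj] at h1
    have h3 := LinearMap.congr_fun h1 1
    rw [Module.algebraMap_end_apply] at h3
    have h4 : θ ^ j = algebraMap F K c := by
      have : (Algebra.lmul F K (θ ^ j)) 1 = θ ^ j * 1 := rfl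
      rw [this, mul_one] at h3
      rw [h3, Algebra.smul_def, mul_one]
    have hc0 : c ≠ 0 := by
      rintro rfl
      rw [map_zero] at h4
      exact pow_ne_zero j hθ0 h4
    rw [pow_mul, h4, ← map_pow, ← hq21', FiniteField.pow_card_sub_one_eq_one c hc0, map_one]
  · intro h1
    obtain ⟨c, hc⟩ := mem_range_of_pow_eq_one (F := F) (θ ^ j) (q ^ 2 - 1) (by rw [hq21'])
      (by rw [← pow_mul]; exact h1)
    refine ⟨c, (hg j c).mpr ?_⟩
    rw [hTj, ← hc]
    exact AlgHom.commutes (Algebra.lmul F K) c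

end existU

/-- The set of element orders of PSU(3, q) for an odd prime power q = p^n: writing d = gcd(3, q + 1), a positive integer is the order of some element exactly when it divides one of q + 1, p(q + 1)/d, (q² − 1)/d, (q² − q + 1)/d. -/
theorem result {F : Type*} [Field F] [Fintype F] (p : ℕ) [Fact p.Prime] [CharP F p] (hp : p ≠ 2) (q : ℕ) (hF : Fintype.card F = q ^ 2) :
    Set.range (orderOf : Cfsg.PSU 3 F q → ℕ) =
      {s : ℕ | s ∣ q + 1} ∪ {s : ℕ | s ∣ p * (q + 1) / Nat.gcd 3 (q + 1)} ∪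
        {s : ℕ | s ∣ (q ^ 2 - 1) / Nat.gcd 3 (q + 1)} ∪ {s : ℕ | s ∣ (q ^ 2 - q + 1) / Nat.gcd 3 (q + 1)} := by
  have hp3 : 3 ≤ p := by
    have := (Fact.out : p.Prime).two_le
    omega
  have h2 : (2 : F) ≠ 0 := two_ne_zero_of_odd p hp
  have hdiv : ∀ (x : Cfsg.PSU 3 F q) (m : ℕ), m ∣ orderOf x →
      m ∈ Set.range (orderOf : Cfsg.PSU 3 F q → ℕ) := by
    intro x m hm
    exact ⟨x ^ (orderOf x / m), orderOf_pow_orderOf_div (orderOf_pos x).ne' hm⟩
  ext m
  constructor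
  · rintro ⟨x, rfl⟩
    obtain ⟨N, hN, hcases⟩ := order_dvdU hF p hp3 x
    rcases hcases with h | h | h | h
    · exact Or.inl (Or.inl (Or.inl (h ▸ hN)))
    · exact Or.inl (Or.inl (Or.inr (h ▸ hN)))
    · exact Or.inl (Or.inr (h ▸ hN))
    · exact Or.inr (h ▸ hN)
  · rintro (((h | h) | h) | h)
    · obtain ⟨x, hx⟩ := exists_U1 (F := F) hF
      exact hdiv x m (hx ▸ h)
    · obtain ⟨x, hx⟩ := exists_U2 (F := F) hF p h2
      exact hdiv x m (hx ▸ h)
    · obtain ⟨x, hx⟩ := exists_U3 (F := F) hF h2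
      exact hdiv x m (hx ▸ h)
    · obtain ⟨x, hx⟩ := exists_U4 (F := F) hF p h2
      exact hdiv x m (hx ▸ h)

end Cfsg.Agent.S2366
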