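import Cfsg.Statements.S2367
import Mathlib

set_option autoImplicit false
open Cfsg

namespace Cfsg.Agent.S2367

open Nat

theorem key (N a : ℕ) (L : List (ℕ × ℕ)) (hL : ∀ x ∈ L, x.1.Prime)
    (hN : N = (L.map fun x => x.1 ^ x.2).prod)
    (h2 : 2 ^ a ∣ N)
    (hchk : ∀ x ∈ L, x.1 ≠ 2 → x.1 ^ 3 ∣ N → ¬ x.1 ^ 4 ∣ N → x.1 ^ 3 < 2 ^ a)
    (p : ℕ) (hp : p.Prime) (hodd : p ≠ 2) (h3 : N.factorization p = 3) :
    p ^ 3 < 2 ^ N.factorization 2 := by
  have hN0 : N ≠ 0 := by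
    rw [hN]
    apply List.prod_ne_zero
    intro h0
    rw [List.mem_map] at h0
    obtain ⟨x, hx, hx0⟩ := h0
    exact (pow_ne_zero _ (hL x hx).ne_zero) hx0
  have hpN : p ∣ N := Nat.dvd_of_factorization_pos (by omega)
  rw [hN, (Nat.Prime.prime hp).dvd_prod_iff] at hpN
  obtain ⟨y, hy, hpy⟩ := hpN
  rw [List.mem_map] at hy
  obtain ⟨x, hx, rfl⟩ := hy
  have hpx : p = x.1 := (Nat.prime_dvd_prime_iff_eq hp (hL x hx)).1 (hp.dvd_of_dvd_pow hpy)
  have h4 : p ^ 3 ∣ N := (hp.pow_dvd_iff_le_factorization hN0).2 (le_of_eq h3.symm)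
  have h5 : ¬ p ^ 4 ∣ N := by
    rw [hp.pow_dvd_iff_le_factorization hN0]
    omega
  have h6 := hchk x hx (hpx ▸ hodd) (hpx ▸ h4) (hpx ▸ h5)
  rw [← hpx] at h6
  refine lt_of_lt_of_le h6 ?_
  apply Nat.pow_le_pow_right (by norm_num)
  exact (Nat.prime_two.pow_dvd_iff_le_factorization hN0).1 h2


theorem spor_IsM11 (p : ℕ) (hp : p.Prime) (hodd : p ≠ 2) (h3 : (7920 : ℕ).factorization p = 3) :
    p ^ 3 < 2 ^ (7920 : ℕ).factorization 2 :=
  key _ 4 [(2, 4), (3, 2), (5, 1), (11, 1)] (by decide) (by norm_num) (by norm_num) (by decide) p hp hodd h3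

theorem spor_IsM12 (p : ℕ) (hp : p.Prime) (hodd : p ≠ 2) (h3 : (95040 : ℕ).factorization p = 3) :
    p ^ 3 < 2 ^ (95040 : ℕ).factorization 2 :=
  key _ 6 [(2, 6), (3, 3), (5, 1), (11, 1)] (by decide) (by norm_num) (by norm_num) (by decide) p hp hodd h3

theorem spor_IsM22 (p : ℕ) (hp : p.Prime) (hodd : p ≠ 2) (h3 : (443520 : ℕ).factorization p = 3) :
    p ^ 3 < 2 ^ (443520 : ℕ).factorization 2 :=
  key _ 7 [(2, 7), (3, 2), (5, 1), (7, 1), (11, 1)] (by decide) (by norm_num) (by norm_num) (by decide) p hp hodd h3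

theorem spor_IsM23 (p : ℕ) (hp : p.Prime) (hodd : p ≠ 2) (h3 : (10200960 : ℕ).factorization p = 3) :
    p ^ 3 < 2 ^ (10200960 : ℕ).factorization 2 :=
  key _ 7 [(2, 7), (3, 2), (5, 1), (7, 1), (11, 1), (23, 1)] (by decide) (by norm_num) (by norm_num) (by decide) p hp hodd h3

theorem spor_IsM24 (p : ℕ) (hp : p.Prime) (hodd : p ≠ 2) (h3 : (244823040 : ℕ).factorization p = 3) :
    p ^ 3 < 2 ^ (244823040 : ℕ).factorization 2 :=
  key _ 10 [(2, 10), (3, 3), (5, 1), (7, 1), (11, 1), (23, 1)] (by decide) (by norm_num) (by norm_num) (by decide) p hp hodd h3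

theorem spor_IsJ1 (p : ℕ) (hp : p.Prime) (hodd : p ≠ 2) (h3 : (175560 : ℕ).factorization p = 3) :
    p ^ 3 < 2 ^ (175560 : ℕ).factorization 2 :=
  key _ 3 [(2, 3), (3, 1), (5, 1), (7, 1), (11, 1), (19, 1)] (by decide) (by norm_num) (by norm_num) (by decide) p hp hodd h3

theorem spor_IsJ2 (p : ℕ) (hp : p.Prime) (hodd : p ≠ 2) (h3 : (604800 : ℕ).factorization p = 3) :
    p ^ 3 < 2 ^ (604800 : ℕ).factorization 2 :=
  key _ 7 [(2, 7), (3, 3), (5, 2), (7, 1)] (by decide) (by norm_num) (by norm_num) (by decide) p hp hodd h3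

theorem spor_IsJ3 (p : ℕ) (hp : p.Prime) (hodd : p ≠ 2) (h3 : (50232960 : ℕ).factorization p = 3) :
    p ^ 3 < 2 ^ (50232960 : ℕ).factorization 2 :=
  key _ 7 [(2, 7), (3, 5), (5, 1), (17, 1), (19, 1)] (by decide) (by norm_num) (by norm_num) (by decide) p hp hodd h3

theorem spor_IsJ4 (p : ℕ) (hp : p.Prime) (hodd : p ≠ 2) (h3 : (86775571046077562880 : ℕ).factorization p = 3) :
    p ^ 3 < 2 ^ (86775571046077562880 : ℕ).factorization 2 :=
  key _ 21 [(2, 21), (3, 3), (5, 1), (7, 1), (11, 3), (23, 1), (29, 1), (31, 1), (37, 1), (43, 1)] (by decide) (by norm_num) (by norm_num) (by decide) p hp hodd h3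

theorem spor_IsCo1 (p : ℕ) (hp : p.Prime) (hodd : p ≠ 2) (h3 : (4157776806543360000 : ℕ).factorization p = 3) :
    p ^ 3 < 2 ^ (4157776806543360000 : ℕ).factorization 2 :=
  key _ 21 [(2, 21), (3, 9), (5, 4), (7, 2), (11, 1), (13, 1), (23, 1)] (by decide) (by norm_num) (by norm_num) (by decide) p hp hodd h3

theorem spor_IsCo2 (p : ℕ) (hp : p.Prime) (hodd : p ≠ 2) (h3 : (42305421312000 : ℕ).factorization p = 3) :
    p ^ 3 < 2 ^ (42305421312000 : ℕ).factorization 2 :=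
  key _ 18 [(2, 18), (3, 6), (5, 3), (7, 1), (11, 1), (23, 1)] (by decide) (by norm_num) (by norm_num) (by decide) p hp hodd h3

theorem spor_IsCo3 (p : ℕ) (hp : p.Prime) (hodd : p ≠ 2) (h3 : (495766656000 : ℕ).factorization p = 3) :
    p ^ 3 < 2 ^ (495766656000 : ℕ).factorization 2 :=
  key _ 10 [(2, 10), (3, 7), (5, 3), (7, 1), (11, 1), (23, 1)] (by decide) (by norm_num) (by norm_num) (by decide) p hp hodd h3

theorem spor_IsFi22 (p : ℕ) (hp : p.Prime) (hodd : p ≠ 2) (h3 : (64561751654400 : ℕ).factorization p = 3) :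
    p ^ 3 < 2 ^ (64561751654400 : ℕ).factorization 2 :=
  key _ 17 [(2, 17), (3, 9), (5, 2), (7, 1), (11, 1), (13, 1)] (by decide) (by norm_num) (by norm_num) (by decide) p hp hodd h3

theorem spor_IsFi23 (p : ℕ) (hp : p.Prime) (hodd : p ≠ 2) (h3 : (4089470473293004800 : ℕ).factorization p = 3) :
    p ^ 3 < 2 ^ (4089470473293004800 : ℕ).factorization 2 :=
  key _ 18 [(2, 18), (3, 13), (5, 2), (7, 1), (11, 1), (13, 1), (17, 1), (23, 1)] (by decide) (by norm_num) (by norm_num) (by decide) p hp hodd h3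

theorem spor_IsFi24p (p : ℕ) (hp : p.Prime) (hodd : p ≠ 2) (h3 : (1255205709190661721292800 : ℕ).factorization p = 3) :
    p ^ 3 < 2 ^ (1255205709190661721292800 : ℕ).factorization 2 :=
  key _ 21 [(2, 21), (3, 16), (5, 2), (7, 3), (11, 1), (13, 1), (17, 1), (23, 1), (29, 1)] (by decide) (by norm_num) (by norm_num) (by decide) p hp hodd h3

theorem spor_IsHS (p : ℕ) (hp : p.Prime) (hodd : p ≠ 2) (h3 : (44352000 : ℕ).factorization p = 3) :
    p ^ 3 < 2 ^ (44352000 : ℕ).factorization 2 :=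
  key _ 9 [(2, 9), (3, 2), (5, 3), (7, 1), (11, 1)] (by decide) (by norm_num) (by norm_num) (by decide) p hp hodd h3

theorem spor_IsMcL (p : ℕ) (hp : p.Prime) (hodd : p ≠ 2) (h3 : (898128000 : ℕ).factorization p = 3) :
    p ^ 3 < 2 ^ (898128000 : ℕ).factorization 2 :=
  key _ 7 [(2, 7), (3, 6), (5, 3), (7, 1), (11, 1)] (by decide) (by norm_num) (by norm_num) (by decide) p hp hodd h3

theorem spor_IsHe (p : ℕ) (hp : p.Prime) (hodd : p ≠ 2) (h3 : (4030387200 : ℕ).factorization p = 3) :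
    p ^ 3 < 2 ^ (4030387200 : ℕ).factorization 2 :=
  key _ 10 [(2, 10), (3, 3), (5, 2), (7, 3), (17, 1)] (by decide) (by norm_num) (by norm_num) (by decide) p hp hodd h3

theorem spor_IsRu (p : ℕ) (hp : p.Prime) (hodd : p ≠ 2) (h3 : (145926144000 : ℕ).factorization p = 3) :
    p ^ 3 < 2 ^ (145926144000 : ℕ).factorization 2 :=
  key _ 14 [(2, 14), (3, 3), (5, 3), (7, 1), (13, 1), (29, 1)] (by decide) (by norm_num) (by norm_num) (by decide) p hp hodd h3

theorem spor_IsSuz (p : ℕ) (hp : p.Prime) (hodd : p ≠ 2) (h3 : (448345497600 : ℕ).factorization p = 3) :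
    p ^ 3 < 2 ^ (448345497600 : ℕ).factorization 2 :=
  key _ 13 [(2, 13), (3, 7), (5, 2), (7, 1), (11, 1), (13, 1)] (by decide) (by norm_num) (by norm_num) (by decide) p hp hodd h3

theorem spor_IsON (p : ℕ) (hp : p.Prime) (hodd : p ≠ 2) (h3 : (460815505920 : ℕ).factorization p = 3) :
    p ^ 3 < 2 ^ (460815505920 : ℕ).factorization 2 :=
  key _ 9 [(2, 9), (3, 4), (5, 1), (7, 3), (11, 1), (19, 1), (31, 1)] (by decide) (by norm_num) (by norm_num) (by decide) p hp hodd h3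

theorem spor_IsHN (p : ℕ) (hp : p.Prime) (hodd : p ≠ 2) (h3 : (273030912000000 : ℕ).factorization p = 3) :
    p ^ 3 < 2 ^ (273030912000000 : ℕ).factorization 2 :=
  key _ 14 [(2, 14), (3, 6), (5, 6), (7, 1), (11, 1), (19, 1)] (by decide) (by norm_num) (by norm_num) (by decide) p hp hodd h3

theorem spor_IsLy (p : ℕ) (hp : p.Prime) (hodd : p ≠ 2) (h3 : (51765179004000000 : ℕ).factorization p = 3) :
    p ^ 3 < 2 ^ (51765179004000000 : ℕ).factorization 2 :=
  key _ 8 [(2, 8), (3, 7), (5, 6), (7, 1), (11, 1), (31, 1), (37, 1), (67, 1)] (by decide) (by norm_num) (by norm_num) (by decide) p hp hodd h3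

theorem spor_IsTh (p : ℕ) (hp : p.Prime) (hodd : p ≠ 2) (h3 : (90745943887872000 : ℕ).factorization p = 3) :
    p ^ 3 < 2 ^ (90745943887872000 : ℕ).factorization 2 :=
  key _ 15 [(2, 15), (3, 10), (5, 3), (7, 2), (13, 1), (19, 1), (31, 1)] (by decide) (by norm_num) (by norm_num) (by decide) p hp hodd h3

theorem spor_IsB (p : ℕ) (hp : p.Prime) (hodd : p ≠ 2) (h3 : (4154781481226426191177580544000000 : ℕ).factorization p = 3) :
    p ^ 3 < 2 ^ (4154781481226426191177580544000000 : ℕ).factorization 2 :=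
  key _ 41 [(2, 41), (3, 13), (5, 6), (7, 2), (11, 1), (13, 1), (17, 1), (19, 1), (23, 1), (31, 1), (47, 1)] (by decide) (by norm_num) (by norm_num) (by decide) p hp hodd h3

theorem spor_IsM (p : ℕ) (hp : p.Prime) (hodd : p ≠ 2) (h3 : (808017424794512875886459904961710757005754368000000000 : ℕ).factorization p = 3) :
    p ^ 3 < 2 ^ (808017424794512875886459904961710757005754368000000000 : ℕ).factorization 2 :=
  key _ 46 [(2, 46), (3, 20), (5, 9), (7, 6), (11, 2), (13, 3), (17, 1), (19, 1), (23, 1), (29, 1), (31, 1), (41, 1), (47, 1), (59, 1), (71, 1)] (by decide) (by norm_num) (by norm_num) (by decide) p hp hodd h3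

theorem three_mul_le_of_factorization_factorial (n p : ℕ) (hp : p.Prime) (hodd : p ≠ 2)
    (h3 : (n !).factorization p = 3) : 3 * p ≤ n := by
  by_contra hlt
  rw [not_le] at hlt
  have hp3 : 3 ≤ p := by
    have := hp.two_le
    omega
  have hb : Nat.log p n < n + 1 := by
    have := Nat.log_le_self p n
    omega
  rw [Nat.factorization_factorial hp hb] at h3
  have hsum : ∑ i ∈ Finset.Ico 1 (n + 1), n / p ^ i ≤ 2 := by
    have hz : ∀ i ∈ Finset.Ico 1 (n + 1), i ≠ 1 → n / p ^ i = 0 := by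
      intro i hi hi1
      rw [Finset.mem_Ico] at hi
      apply Nat.div_eq_of_lt
      have h2 : 2 ≤ i := by omega
      calc n < 3 * p := hlt
        _ ≤ p * p := Nat.mul_le_mul_right p hp3
        _ = p ^ 2 := (sq p).symm
        _ ≤ p ^ i := Nat.pow_le_pow_right hp.pos h2
    by_cases h1 : 1 ∈ Finset.Ico 1 (n + 1)
    · rw [Finset.sum_eq_single_of_mem 1 h1 hz, pow_one]
      have : n / p < 3 := by
        rw [Nat.div_lt_iff_lt_mul hp.pos]
        exact hlt
      omega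
    · rw [Finset.sum_eq_zero]
      · omega
      · intro i hi
        apply hz i hi
        rintro rfl
        exact h1 hi
  omega

theorem factorization_two_factorial_ge (n : ℕ) (hn : 4 ≤ n) :
    n / 2 + n / 4 ≤ (n !).factorization 2 := by
  have hb : Nat.log 2 n < n + 1 := by
    have := Nat.log_le_self 2 n
    omega
  rw [Nat.factorization_factorial Nat.prime_two hb]
  have hsub : ({1, 2} : Finset ℕ) ⊆ Finset.Ico 1 (n + 1) := by
    intro i hi
    simp only [Finset.mem_insert, Finset.mem_singleton] at hi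
    rw [Finset.mem_Ico]
    omega
  calc n / 2 + n / 4 = ∑ i ∈ ({1, 2} : Finset ℕ), n / 2 ^ i := by
        rw [Finset.sum_pair (by norm_num)]
        norm_num
    _ ≤ _ := Finset.sum_le_sum_of_subset hsub

theorem cube_lt_two_pow (p : ℕ) (hp : 10 ≤ p) : p ^ 3 < 2 ^ p := by
  induction p, hp using Nat.le_induction with
  | base => norm_num
  | succ k hk ih =>
    rw [pow_succ 2 k]
    have : (k + 1) ^ 3 ≤ 2 * k ^ 3 := by nlinarith [sq_nonneg (k : ℤ)]
    omega

theorem alt_bound (n : ℕ) (hn : 5 ≤ n) (p : ℕ) (hp : p.Prime) (hodd : p ≠ 2) (N : ℕ) (hN : 2 * N = n !)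
    (h3 : N.factorization p = 3) : p ^ 3 < 2 ^ N.factorization 2 := by
  have hN0 : N ≠ 0 := by
    rintro rfl
    exact (Nat.factorial_ne_zero n) (by simpa using hN.symm)
  have hfac : (n !).factorization = (2 : ℕ).factorization + N.factorization := by
    rw [← hN, Nat.factorization_mul (by norm_num) hN0]
  have hfp : (n !).factorization p = 3 := by
    rw [hfac, Finsupp.add_apply, h3, Nat.prime_two.factorization, Finsupp.single_apply, if_neg (Ne.symm hodd)]
  have hf2 : (n !).factorization 2 = 1 + N.factorization 2 := by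
    rw [hfac, Finsupp.add_apply, Nat.prime_two.factorization, Finsupp.single_apply, if_pos rfl]
  have h3p := three_mul_le_of_factorization_factorial n p hp hodd hfp
  have hge := factorization_two_factorial_ge n (by omega)
  have he : n / 2 + n / 4 - 1 ≤ N.factorization 2 := by omega
  refine lt_of_lt_of_le ?_ (Nat.pow_le_pow_right (by norm_num) he)
  rcases Nat.lt_or_ge p 10 with hlt | hge10
  · have hp2 := hp.two_le
    interval_cases p
    · exact absurd rfl hodd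
    · have : 5 ≤ n / 2 + n / 4 - 1 := by omega
      exact lt_of_lt_of_le (by norm_num) (Nat.pow_le_pow_right (by norm_num) this)
    · exact absurd hp (by norm_num)
    · have : 9 ≤ n / 2 + n / 4 - 1 := by omega
      exact lt_of_lt_of_le (by norm_num) (Nat.pow_le_pow_right (by norm_num) this)
    · exact absurd hp (by norm_num)
    · have : 14 ≤ n / 2 + n / 4 - 1 := by omega
      exact lt_of_lt_of_le (by norm_num) (Nat.pow_le_pow_right (by norm_num) this)
    · exact absurd hp (by norm_num)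
    · exact absurd hp (by norm_num)
  · have : p ≤ n / 2 + n / 4 - 1 := by omega
    exact lt_of_lt_of_le (cube_lt_two_pow p hge10) (Nat.pow_le_pow_right (by norm_num) this)

theorem result {G : Type*} [Group G] [Finite G] (hG : Cfsg.IsAlternating G ∨ Cfsg.IsSporadic G)
    (p : ℕ) (hp : p.Prime) (hodd : p ≠ 2) (h3 : (Nat.card G).factorization p = 3) :
    p ^ 3 < 2 ^ (Nat.card G).factorization 2 := by
  rcases hG with ⟨n, hn, ⟨e⟩⟩ | hS
  · have : Nontrivial (Fin n) := Fin.nontrivial_iff_two_le.2 (by omega)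
    have hcard : 2 * Nat.card G = n ! := by
      rw [Nat.card_congr e.toEquiv, Nat.card_eq_fintype_card, two_mul_card_alternatingGroup,
        Fintype.card_perm, Fintype.card_fin]
    exact alt_bound n hn p hp hodd (Nat.card G) hcard h3
  · unfold IsSporadic IsM11 IsM12 IsM22 IsM23 IsM24 IsJ1 IsJ2 IsJ3 IsJ4 IsCo1 IsCo2 IsCo3 IsFi22 IsFi23
      IsFi24' IsHS IsMcL IsHe IsRu IsSuz IsON IsHN IsLy IsTh IsB IsM at hS
    rcases hS with ⟨_, hc⟩ | ⟨_, hc⟩ | ⟨_, hc⟩ | ⟨_, hc⟩ | ⟨_, hc⟩ | ⟨_, hc⟩ | ⟨_, hc⟩ | ⟨_, hc⟩ | ⟨_, hc⟩ | ⟨_, hc⟩ | ⟨_, hc⟩ | ⟨_, hc⟩ | ⟨_, hc⟩ | ⟨_, hc⟩ | ⟨_, hc⟩ | ⟨_, hc⟩ | ⟨_, hc⟩ | ⟨_, hc⟩ | ⟨_, hc⟩ | ⟨_, hc⟩ | ⟨_, hc⟩ | ⟨_, hc⟩ | ⟨_, hc⟩ | ⟨_, hc⟩ | ⟨_, hc⟩ | ⟨_, hc⟩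
    · rw [hc] at h3 ⊢; exact spor_IsM11 p hp hodd h3
    · rw [hc] at h3 ⊢; exact spor_IsM12 p hp hodd h3
    · rw [hc] at h3 ⊢; exact spor_IsM22 p hp hodd h3
    · rw [hc] at h3 ⊢; exact spor_IsM23 p hp hodd h3
    · rw [hc] at h3 ⊢; exact spor_IsM24 p hp hodd h3
    · rw [hc] at h3 ⊢; exact spor_IsJ1 p hp hodd h3
    · rw [hc] at h3 ⊢; exact spor_IsJ2 p hp hodd h3
    · rw [hc] at h3 ⊢; exact spor_IsJ3 p hp hodd h3
    · rw [hc] at h3 ⊢; exact spor_IsJ4 p hp hodd h3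
    · rw [hc] at h3 ⊢; exact spor_IsCo1 p hp hodd h3
    · rw [hc] at h3 ⊢; exact spor_IsCo2 p hp hodd h3
    · rw [hc] at h3 ⊢; exact spor_IsCo3 p hp hodd h3
    · rw [hc] at h3 ⊢; exact spor_IsFi22 p hp hodd h3
    · rw [hc] at h3 ⊢; exact spor_IsFi23 p hp hodd h3
    · rw [hc] at h3 ⊢; exact spor_IsFi24p p hp hodd h3
    · rw [hc] at h3 ⊢; exact spor_IsHS p hp hodd h3
    · rw [hc] at h3 ⊢; exact spor_IsMcL p hp hodd h3
    · rw [hc] at h3 ⊢; exact spor_IsHe p hp hodd h3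
    · rw [hc] at h3 ⊢; exact spor_IsRu p hp hodd h3
    · rw [hc] at h3 ⊢; exact spor_IsSuz p hp hodd h3
    · rw [hc] at h3 ⊢; exact spor_IsON p hp hodd h3
    · rw [hc] at h3 ⊢; exact spor_IsHN p hp hodd h3
    · rw [hc] at h3 ⊢; exact spor_IsLy p hp hodd h3
    · rw [hc] at h3 ⊢; exact spor_IsTh p hp hodd h3
    · rw [hc] at h3 ⊢; exact spor_IsB p hp hodd h3
    · rw [hc] at h3 ⊢; exact spor_IsM p hp hodd h3

end Cfsg.Agent.S2367
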