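import Cfsg.Statements.S2368
import Mathlib

set_option autoImplicit false
open Cfsg

namespace Cfsg.Agent.S2368

open Matrix Polynomial

/-- A nilpotent square matrix over a field has its `m`-th power zero, `m` the size. -/
theorem pow_card_eq_zero_of_isNilpotent {F : Type*} [Field F] {m : ℕ}
    (N : Matrix (Fin m) (Fin m) F) (hN : IsNilpotent N) : N ^ m = 0 := by
  have h1 : IsNilpotent (N.charpoly - X ^ (Fintype.card (Fin m))) :=
    Matrix.isNilpotent_charpoly_sub_pow_of_isNilpotent hN
  have h2 : N.charpoly - X ^ (Fintype.card (Fin m)) = 0 := h1.eq_zero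
  have h3 : N.charpoly = X ^ m := by
    rw [sub_eq_zero] at h2
    simpa using h2
  have h4 := Matrix.aeval_self_charpoly N
  rw [h3] at h4
  simpa using h4

/-- In characteristic `p`, if `A ^ (p ^ j) = 1` for an `m × m` matrix and `m ≤ p ^ k`, then `A ^ (p ^ k) = 1`. -/
theorem pow_eq_one_of_le {F : Type*} [Field F] (p : ℕ) [Fact p.Prime] [CharP F p] {m : ℕ} (hm : 1 ≤ m)
    (A : Matrix (Fin m) (Fin m) F) (j k : ℕ) (hA : A ^ (p ^ j) = 1) (hk : m ≤ p ^ k) :
    A ^ (p ^ k) = 1 := by
  haveI : Nonempty (Fin m) := ⟨⟨0, hm⟩⟩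
  haveI : CharP (Matrix (Fin m) (Fin m) F) p := Matrix.charP p
  have hc : Commute A 1 := Commute.one_right A
  have h1 : (A - 1) ^ (p ^ j) = 0 := by
    rw [sub_pow_char_pow_of_commute p j hc, hA, one_pow, sub_self]
  have h2 : (A - 1) ^ m = 0 := pow_card_eq_zero_of_isNilpotent _ ⟨_, h1⟩
  have h3 : (A - 1) ^ (p ^ k) = 0 := pow_eq_zero_of_le hk h2
  rw [sub_pow_char_pow_of_commute p k hc, one_pow, sub_eq_zero] at h3
  exact h3

/-- The nilpotent shift matrix. -/
def shift (F : Type*) [Field F] (m : ℕ) : Matrix (Fin m) (Fin m) F :=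
  Matrix.of fun a b => if a.val + 1 = b.val then 1 else 0

theorem shift_pow (F : Type*) [Field F] (m : ℕ) (i : ℕ) :
    (shift F m) ^ i = Matrix.of fun a b : Fin m => if a.val + i = b.val then (1 : F) else 0 := by
  induction i with
  | zero =>
    ext a b
    simp [Matrix.one_apply, Fin.ext_iff]
  | succ i ih =>
    rw [pow_succ, ih]
    ext a b
    simp only [Matrix.mul_apply, Matrix.of_apply, shift]
    by_cases h : a.val + (i + 1) = b.val
    · rw [if_pos h]
      have hlt : a.val + i < m := by have := b.isLt; omega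
      rw [Finset.sum_eq_single ⟨a.val + i, hlt⟩]
      · simp; omega
      · intro c _ hc
        have : ¬ (a.val + i = c.val) := fun h' => hc (Fin.ext h'.symm)
        simp [this]
      · simp
    · rw [if_neg h]
      apply Finset.sum_eq_zero
      intro c _
      by_cases h1 : a.val + i = c.val
      · have : ¬ (c.val + 1 = b.val) := by omega
        simp [this]
      · simp [h1]

theorem result {F : Type*} [Field F] [Fintype F] (p : ℕ) [Fact p.Prime] [CharP F p] (m : ℕ) (hm : 1 ≤ m) :
    (∀ g : Matrix.GeneralLinearGroup (Fin m) F, (∃ j : ℕ, orderOf g = p ^ j) → orderOf g < p * m) ∧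
      ∃ g : Matrix.GeneralLinearGroup (Fin m) F, (∃ j : ℕ, orderOf g = p ^ j) ∧ m ≤ orderOf g := by
  have hp : p.Prime := Fact.out
  have hp1 : 1 < p := hp.one_lt
  haveI : Nonempty (Fin m) := ⟨⟨0, hm⟩⟩
  haveI : CharP (Matrix (Fin m) (Fin m) F) p := Matrix.charP p
  -- the bound p ^ clog p m < p * m
  have hbound : p ^ Nat.clog p m < p * m := by
    rcases Nat.lt_or_ge 1 m with h | h
    · have h1 := Nat.pow_pred_clog_lt_self hp1 h
      have h2 : 0 < Nat.clog p m := Nat.clog_pos hp1 h
      have h3 : p ^ Nat.clog p m = p * p ^ (Nat.clog p m).pred := by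
        conv_lhs => rw [← Nat.succ_pred_eq_of_pos h2, pow_succ]
        ring
      rw [h3]
      exact Nat.mul_lt_mul_of_pos_left h1 (by omega)
    · have : m = 1 := le_antisymm h hm
      subst this
      simp [Nat.clog_one_right]
      exact hp1
  constructor
  · rintro g ⟨j, hj⟩
    have h1 : g ^ (p ^ j) = 1 := by rw [← hj]; exact pow_orderOf_eq_one g
    have h2 : (g : Matrix (Fin m) (Fin m) F) ^ (p ^ j) = 1 := by
      have := congrArg (fun x : Matrix.GeneralLinearGroup (Fin m) F => (x : Matrix (Fin m) (Fin m) F)) h1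
      simpa using this
    have h3 := pow_eq_one_of_le p hm (g : Matrix (Fin m) (Fin m) F) j (Nat.clog p m) h2
      (Nat.le_pow_clog hp1 m)
    have h4 : g ^ (p ^ Nat.clog p m) = 1 := by
      apply Units.ext
      simpa using h3
    have h5 : orderOf g ∣ p ^ Nat.clog p m := orderOf_dvd_of_pow_eq_one h4
    exact lt_of_le_of_lt (Nat.le_of_dvd (pow_pos hp.pos _) h5) hbound
  · -- the unipotent Jordan block
    set J : Matrix (Fin m) (Fin m) F := shift F m with hJ
    have hJm : J ^ m = 0 := by
      rw [hJ, shift_pow]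
      ext a b
      have := b.isLt
      simp; omega
    have hc : Commute (1 : Matrix (Fin m) (Fin m) F) J := Commute.one_left J
    have hpow : ∀ k : ℕ, (1 + J) ^ (p ^ k) = 1 + J ^ (p ^ k) := by
      intro k
      rw [add_pow_char_pow_of_commute p k hc, one_pow]
    have hone : (1 + J) ^ (p ^ Nat.clog p m) = 1 := by
      rw [hpow, pow_eq_zero_of_le (Nat.le_pow_clog hp1 m) hJm, add_zero]
    have hunit : IsUnit (1 + J) := IsUnit.of_pow_eq_one hone (pow_pos hp.pos _).ne'
    obtain ⟨g, hg⟩ := hunit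
    have hgpow : ∀ n : ℕ, g ^ n = 1 ↔ (1 + J) ^ n = 1 := by
      intro n
      rw [← hg]
      constructor
      · intro h
        have := congrArg (fun x : (Matrix (Fin m) (Fin m) F)ˣ => (x : Matrix (Fin m) (Fin m) F)) h
        simpa using this
      · intro h
        apply Units.ext
        simpa using h
    have hdvd : orderOf g ∣ p ^ Nat.clog p m := orderOf_dvd_of_pow_eq_one ((hgpow _).2 hone)
    obtain ⟨j, _, hj⟩ := (Nat.dvd_prime_pow hp).1 hdvd
    refine ⟨g, ⟨j, hj⟩, ?_⟩
    by_contra hlt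
    rw [not_le] at hlt
    have h1 : (1 + J) ^ (p ^ j) = 1 := (hgpow _).1 (by rw [← hj]; exact pow_orderOf_eq_one g)
    rw [hpow] at h1
    have h2 : J ^ (p ^ j) = 0 := by simpa using h1
    rw [hJ, shift_pow] at h2
    rw [hj] at hlt
    have h3 := congrFun (congrFun h2 ⟨0, hm⟩) ⟨p ^ j, hlt⟩
    simp at h3

end Cfsg.Agent.S2368
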