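import Cfsg.Statements.S2369
-- import your own Cfsg.Agent.* helpers here
import Cfsg.Agent.Lib.Helper33.F4Cent

set_option autoImplicit false
open Cfsg

namespace Cfsg.Agent.S2369

/-- Let q = 2^(2m+1) with m ≥ 1 and let a, b be commuting elements of the large Ree group ²F₄(q) with a an involution. Then every prime divisor of the order of b divides q(q⁴ − 1). -/
theorem result {K : Type*} [Field K] [Fintype K] (m : ℕ) (hm : 1 ≤ m) (hK : Fintype.card K = 2 ^ (2 * m + 1))
    (a b : ↥(Cfsg.Lie.twistedF4 K (2 ^ m))) (ha : orderOf a = 2) (hab : Commute a b) :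
    (orderOf b).primeFactors ⊆ (2 ^ (2 * m + 1) * ((2 ^ (2 * m + 1)) ^ 4 - 1)).primeFactors := by
  intro r hr
  have hrp : r.Prime := Nat.prime_of_mem_primeFactors hr
  have hrd : r ∣ orderOf b := Nat.dvd_of_mem_primeFactors hr
  have hb0 : orderOf b ≠ 0 := (Nat.mem_primeFactors.1 hr).2.2
  have : Fact r.Prime := ⟨hrp⟩
  have hy : orderOf (b ^ (orderOf b / r)) = r := orderOf_pow_orderOf_div hb0 hrd
  have hdvd := Cfsg.Agent.Lib.Helper33.F4.prime_dvd_of_commute_F4 hK a (b ^ (orderOf b / r))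
    (by rw [ha]) (hab.pow_right _) r hy
  have hq : 1 < 2 ^ (2 * m + 1) := Nat.one_lt_two_pow (by omega)
  have hne : 2 ^ (2 * m + 1) * ((2 ^ (2 * m + 1)) ^ 4 - 1) ≠ 0 := by
    apply Nat.mul_ne_zero (by positivity)
    have : 1 < (2 ^ (2 * m + 1)) ^ 4 := Nat.one_lt_pow (by norm_num) hq
    omega
  exact Nat.mem_primeFactors.2 ⟨hrp, hdvd, hne⟩

end Cfsg.Agent.S2369
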