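import Cfsg.Statements.S2379
import Cfsg.Agent.Lib.Helper46.SylowSL

set_option autoImplicit false
open Cfsg

namespace Cfsg.Agent.S2379

open Cfsg.Agent.Lib.Helper46

/-- Sylow subgroups of `SL_n(q)` for large primes. Let `F` be a field with `q` elements and `r` a prime with `r > n` and `r ∤ q` (so `r` does not divide the order `n!` of the Weyl group). Let `d` be the multiplicative order of `q` modulo `r`, `a` the number of integers `i` with `2 ≤ i ≤ n` divisible by `d` (the degrees of the Weyl group are `2, …, n`), and `m` the `r`-part of the value at `q` of the `d`-th cyclotomic polynomial. Then every Sylow `r`-subgroup of `SL_n(q)` is a direct product of `a` cyclic groups of order `m`. -/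
theorem result {F : Type*} [Field F] [Fintype F] {q : ℕ} (hq : Fintype.card F = q) (n : ℕ)
    (r : ℕ) [Fact r.Prime] (hrn : n < r) (hrq : ¬ r ∣ q) (P : Sylow r (Matrix.SpecialLinearGroup (Fin n) F)) :
    Nonempty (↥(P : Subgroup (Matrix.SpecialLinearGroup (Fin n) F)) ≃*
      (Fin ((Finset.Icc 2 n).filter (fun i => orderOf (q : ZMod r) ∣ i)).card →
        Multiplicative (ZMod (r ^ padicValNat r ((Polynomial.cyclotomic (orderOf (q : ZMod r)) ℤ).eval (q : ℤ)).natAbs)))) := by
  subst hq
  have hr : r.Prime := Fact.out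
  have hq2 : 2 ≤ Fintype.card F := Fintype.one_lt_card
  have hdpos := orderOf_zmod_pos hrq
  rw [padicVal_cyclotomic hq2 hrq, card_filter_dvd_Icc_two n _ hdpos]
  set d := orderOf ((Fintype.card F : ℕ) : ZMod r) with hd
  set a := padicValNat r (Fintype.card F ^ d - 1) with ha
  have hra : r ^ a ∣ Fintype.card F ^ d - 1 := pow_padicValNat_dvd
  have hrapos : 0 < r ^ a := pow_pos hr.pos a
  have : NeZero (r ^ a) := ⟨hrapos.ne'⟩
  -- it is enough to find a subgroup of the right shape and order
  suffices hsuff : ∃ H : Subgroup (Matrix.SpecialLinearGroup (Fin n) F),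
      Nonempty (↥H ≃* (Fin (if d = 1 then n - 1 else n / d) → Multiplicative (ZMod (r ^ a)))) ∧
      Nat.card H = r ^ (Nat.card (Matrix.SpecialLinearGroup (Fin n) F)).factorization r by
    obtain ⟨H, ⟨eH⟩, hcardH⟩ := hsuff
    let Q : Sylow r (Matrix.SpecialLinearGroup (Fin n) F) := Sylow.ofCard H hcardH
    have e1 : ↥(P : Subgroup (Matrix.SpecialLinearGroup (Fin n) F)) ≃*
        ↥(Q : Subgroup (Matrix.SpecialLinearGroup (Fin n) F)) := P.equiv Q
    exact ⟨e1.trans eH⟩
  have hcardfun : ∀ k : ℕ, Nat.card (Fin k → Multiplicative (ZMod (r ^ a))) = r ^ (a * k) := by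
    intro k
    rw [Nat.card_fun, Nat.card_congr Multiplicative.toAdd, Nat.card_zmod,
      Nat.card_eq_fintype_card, Fintype.card_fin, ← pow_mul]
  -- the case `n = 0`
  rcases Nat.eq_zero_or_pos n with hn0 | hnpos
  · subst hn0
    have hsub : Subsingleton (Matrix.SpecialLinearGroup (Fin 0) F) := by
      constructor
      intro x y
      apply Subtype.ext
      exact Subsingleton.elim _ _
    have h0 : (if d = 1 then 0 - 1 else 0 / d) = 0 := by split_ifs <;> simp
    refine ⟨⊥, ⟨?_⟩, ?_⟩
    · rw [h0]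
      exact MulEquiv.ofUnique
    · rw [Subgroup.card_bot, Nat.card_unique, Nat.factorization_one]
      simp
  -- the valuation of `|SL_n(q)|`
  have hqpos : Fintype.card F - 1 ≠ 0 := by omega
  have hSLpos : Nat.card (Matrix.SpecialLinearGroup (Fin n) F) ≠ 0 := Nat.card_pos.ne'
  have hval : padicValNat r (Fintype.card F - 1)
      + padicValNat r (Nat.card (Matrix.SpecialLinearGroup (Fin n) F)) = a * (n / d) := by
    rw [← padicValNat.mul hqpos hSLpos, Cfsg.Agent.Lib.Helper07.card_sl_mul n hnpos,
      padicVal_card_gl hq2 hrq n hrn]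
  have hd1 : r ∣ Fintype.card F - 1 ↔ d = 1 := by
    have h1 := dvd_pow_sub_one_iff (q := Fintype.card F) (r := r) (by omega) 1
    rw [pow_one] at h1
    rw [h1, Nat.dvd_one]
  by_cases hd1' : d = 1
  · -- diagonal torus
    rw [if_pos hd1']
    obtain ⟨m, rfl⟩ : ∃ m, n = m + 1 := ⟨n - 1, by omega⟩
    have ha' : a = padicValNat r (Fintype.card F - 1) := by
      rw [ha, hd1', pow_one]
    have hra' : r ^ a ∣ Fintype.card F - 1 := by
      rw [ha']; exact pow_padicValNat_dvd
    obtain ⟨H, ⟨eH⟩⟩ := exists_homocyclic_subgroup_SL_diag (F := F) m a r hr.pos hra'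
    refine ⟨H, ⟨?_⟩, ?_⟩
    · simpa using eH
    · rw [Nat.card_congr eH.toEquiv, hcardfun, Nat.factorization_def _ hr]
      congr 1
      rw [hd1', Nat.div_one, ← ha'] at hval
      have : a + a * m = a * (m + 1) := by ring
      have h2 : padicValNat r (Nat.card (Matrix.SpecialLinearGroup (Fin (m + 1)) F)) = a * m := by
        omega
      rw [h2]
  · rw [if_neg hd1']
    have hr1 : ¬ r ∣ Fintype.card F - 1 := fun h => hd1' (hd1.1 h)
    obtain ⟨H, ⟨eH⟩⟩ := exists_homocyclic_subgroup_SL_of_coprime (F := F) n d a r hdpos hr hra hr1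
    refine ⟨H, ⟨eH⟩, ?_⟩
    rw [Nat.card_congr eH.toEquiv, hcardfun, Nat.factorization_def _ hr]
    congr 1
    rw [padicValNat.eq_zero_of_not_dvd hr1, zero_add] at hval
    exact hval.symm

end Cfsg.Agent.S2379
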