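import Cfsg.Statements.S2380
import Cfsg.Agent.Lib.Helper46.SylowGLTorus

set_option autoImplicit false
open scoped MatrixGroups
open Cfsg

namespace Cfsg.Agent.S2380

open Cfsg.Agent.Lib.Helper46

/-- Sylow subgroups of `GL_n(q)` for large primes. Let `F` be a field with `q` elements and `r` a prime with `r > n` and `r ∤ q`. Let `d` be the multiplicative order of `q` modulo `r` and `m` the `r`-part of the value at `q` of the `d`-th cyclotomic polynomial. Then every Sylow `r`-subgroup of `GL_n(q)` is a direct product of `⌊n/d⌋` cyclic groups of order `m` (the degrees of the Weyl group being `1, …, n`). -/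
theorem result {F : Type*} [Field F] [Fintype F] {q : ℕ} (hq : Fintype.card F = q) (n : ℕ)
    (r : ℕ) [Fact r.Prime] (hrn : n < r) (hrq : ¬ r ∣ q) (P : Sylow r (GL (Fin n) F)) :
    Nonempty (↥(P : Subgroup (GL (Fin n) F)) ≃*
      (Fin (n / orderOf (q : ZMod r)) →
        Multiplicative (ZMod (r ^ padicValNat r ((Polynomial.cyclotomic (orderOf (q : ZMod r)) ℤ).eval (q : ℤ)).natAbs)))) := by
  subst hq
  have hr : r.Prime := Fact.out
  have hq2 : 2 ≤ Fintype.card F := Fintype.one_lt_card
  have hdpos := orderOf_zmod_pos hrq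
  rw [padicVal_cyclotomic hq2 hrq]
  set d := orderOf ((Fintype.card F : ℕ) : ZMod r) with hd
  set a := padicValNat r (Fintype.card F ^ d - 1) with ha
  have hra : r ^ a ∣ Fintype.card F ^ d - 1 := pow_padicValNat_dvd
  obtain ⟨H, ⟨eH⟩⟩ := exists_homocyclic_subgroup_GL (F := F) n d a r hdpos hr.pos hra
  have : NeZero (r ^ a) := ⟨(pow_pos hr.pos a).ne'⟩
  have hcardH : Nat.card H = r ^ (Nat.card (GL (Fin n) F)).factorization r := by
    rw [Nat.card_congr eH.toEquiv, Nat.card_fun, Nat.card_congr Multiplicative.toAdd, Nat.card_zmod,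
      Nat.card_eq_fintype_card, Fintype.card_fin, Matrix.card_GL_field, Nat.factorization_def _ hr,
      padicVal_card_gl hq2 hrq n hrn, ← pow_mul]
  let Q : Sylow r (GL (Fin n) F) := Sylow.ofCard H hcardH
  have e1 : ↥(P : Subgroup (GL (Fin n) F)) ≃* ↥(Q : Subgroup (GL (Fin n) F)) := P.equiv Q
  exact ⟨e1.trans eH⟩

end Cfsg.Agent.S2380
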