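import Cfsg.Statements.S2381
-- import your own Cfsg.Agent.* helpers here
import Cfsg.Agent.Lib.Helper46.SylowSp
import Cfsg.Agent.S0245

set_option autoImplicit false
open Cfsg

namespace Cfsg.Agent.S2381

open Cfsg.Agent.Lib.Helper46

/-- Sylow subgroups of `Sp_{2n}(q)` for large primes. Let `F` be a field with `q` elements and `r` an odd prime with `r > n` and `r ∤ q` (so `r` does not divide the order `2^n n!` of the Weyl group). Let `d` be the multiplicative order of `q` modulo `r`, `a` the number of `i` with `1 ≤ i ≤ n` and `d ∣ 2i` (the degrees being `2, 4, …, 2n`), and `m` the `r`-part of the value at `q` of the `d`-th cyclotomic polynomial. Then every Sylow `r`-subgroup of the symplectic group `Sp_{2n}(q)` is a direct product of `a` cyclic groups of order `m`. -/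
theorem result {F : Type*} [Field F] [Fintype F] {q : ℕ} (hq : Fintype.card F = q) (n : ℕ)
    (r : ℕ) [Fact r.Prime] (hr2 : r ≠ 2) (hrn : n < r) (hrq : ¬ r ∣ q) (P : Sylow r ↥(Matrix.symplecticGroup (Fin n) F)) :
    Nonempty (↥(P : Subgroup ↥(Matrix.symplecticGroup (Fin n) F)) ≃*
      (Fin ((Finset.Icc 1 n).filter (fun i => orderOf (q : ZMod r) ∣ 2 * i)).card →
        Multiplicative (ZMod (r ^ padicValNat r ((Polynomial.cyclotomic (orderOf (q : ZMod r)) ℤ).eval (q : ℤ)).natAbs)))) := by
  subst hq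
  have hr : r.Prime := Fact.out
  have hq2 : 2 ≤ Fintype.card F := Fintype.one_lt_card
  rw [padicVal_cyclotomic hq2 hrq, count_dvd_two_mul (by omega) n]
  obtain ⟨H, ⟨eH⟩⟩ := exists_homocyclic_subgroup_Sp (F := F) n r hrq
  set d := orderOf ((Fintype.card F : ℕ) : ZMod r) with hd
  set D := orderOf ((Fintype.card F ^ 2 : ℕ) : ZMod r) with hD
  set a := padicValNat r (Fintype.card F ^ d - 1) with ha
  have hrapos : 0 < r ^ a := pow_pos hr.pos a
  have : NeZero (r ^ a) := ⟨hrapos.ne'⟩
  have hcardH : Nat.card H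
      = r ^ (Nat.card ↥(Matrix.symplecticGroup (Fin n) F)).factorization r := by
    rw [Nat.card_congr eH.toEquiv, Nat.card_fun, Nat.card_congr Multiplicative.toAdd, Nat.card_zmod,
      Nat.card_eq_fintype_card, Fintype.card_fin, Cfsg.Agent.S0245.result rfl n,
      Nat.factorization_def _ hr, padicVal_card_sp hr2 hq2 hrq n hrn, ← pow_mul]
  let Q : Sylow r ↥(Matrix.symplecticGroup (Fin n) F) := Sylow.ofCard H hcardH
  have e1 : ↥(P : Subgroup ↥(Matrix.symplecticGroup (Fin n) F)) ≃*
      ↥(Q : Subgroup ↥(Matrix.symplecticGroup (Fin n) F)) := P.equiv Q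
  exact ⟨e1.trans eH⟩

end Cfsg.Agent.S2381
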