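import Cfsg.Statements.S2388
import Cfsg.Agent.Lib.Helper49.SemisimpleConj
import Cfsg.Agent.S2569

set_option autoImplicit false
open Cfsg

namespace Cfsg.Agent.S2388

/-- In `SL_n(q)`, `q` a power of the prime `p`, two elements of order prime to `p` with the same characteristic polynomial are conjugate in `SL_n(q)` (not merely in `GL_n`). -/
theorem result {F : Type*} [Field F] [Fintype F] (p : ℕ) [Fact p.Prime] [CharP F p] (n : ℕ)
    (g h : Matrix.SpecialLinearGroup (Fin n) F) (hg : (orderOf g).Coprime p) (hh : (orderOf h).Coprime p)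
    (hc : (g : Matrix (Fin n) (Fin n) F).charpoly = (h : Matrix (Fin n) (Fin n) F).charpoly) : IsConj g h := by
  classical
  set G : Matrix (Fin n) (Fin n) F := (g : Matrix (Fin n) (Fin n) F) with hG
  set H : Matrix (Fin n) (Fin n) F := (h : Matrix (Fin n) (Fin n) F) with hH
  set k := orderOf g * orderOf h with hk
  have hkp : k.Coprime p := Nat.Coprime.mul_left hg hh
  have hkF : (k : F) ≠ 0 := by
    intro h0
    rw [CharP.cast_eq_zero_iff F p] at h0
    have h1 : p ∣ Nat.gcd k p := Nat.dvd_gcd h0 dvd_rfl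
    rw [hkp] at h1
    exact (Fact.out : p.Prime).one_lt.ne' (Nat.dvd_one.mp h1)
  have hs : Squarefree ((Polynomial.X : Polynomial F) ^ k - Polynomial.C 1) :=
    (Polynomial.separable_X_pow_sub_C (1 : F) hkF one_ne_zero).squarefree
  have hgk : g ^ k = 1 := by rw [hk, pow_mul, pow_orderOf_eq_one, one_pow]
  have hhk : h ^ k = 1 := by rw [hk, mul_comm, pow_mul, pow_orderOf_eq_one, one_pow]
  have hGk : G ^ k = 1 := by
    have := congrArg (fun x : Matrix.SpecialLinearGroup (Fin n) F => (x : Matrix (Fin n) (Fin n) F)) hgk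
    simpa using this
  have hHk : H ^ k = 1 := by
    have := congrArg (fun x : Matrix.SpecialLinearGroup (Fin n) F => (x : Matrix (Fin n) (Fin n) F)) hhk
    simpa using this
  have hA : Polynomial.aeval G ((Polynomial.X : Polynomial F) ^ k - Polynomial.C 1) = 0 := by
    simp [hGk]
  have hB : Polynomial.aeval H ((Polynomial.X : Polynomial F) ^ k - Polynomial.C 1) = 0 := by
    simp [hHk]
  obtain ⟨P, hP⟩ := Cfsg.Agent.Lib.Helper49.exists_GL_conj_of_charpoly_eq G H _ hs hA hB hc
  have hord : orderOf (g : GL (Fin n) F) = orderOf g :=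
    orderOf_injective (Matrix.SpecialLinearGroup.toGL) Matrix.SpecialLinearGroup.toGL_injective g
  obtain ⟨c, hc1, hc2⟩ := Cfsg.Agent.S2569.result (p := p) (g : GL (Fin n) F) P (by rw [hord]; exact hg)
  have hPg : P * (g : GL (Fin n) F) * P⁻¹ = (h : GL (Fin n) F) := by
    rw [mul_inv_eq_iff_eq_mul]
    apply Units.ext
    exact hP
  rw [hPg, mul_inv_eq_iff_eq_mul] at hc2
  have hc3 : (c : Matrix (Fin n) (Fin n) F) * G = H * (c : Matrix (Fin n) (Fin n) F) :=
    congrArg (fun x : GL (Fin n) F => (x : Matrix (Fin n) (Fin n) F)) hc2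
  rw [isConj_iff]
  let c' : Matrix.SpecialLinearGroup (Fin n) F := ⟨(c : Matrix (Fin n) (Fin n) F), hc1⟩
  refine ⟨c', ?_⟩
  rw [mul_inv_eq_iff_eq_mul]
  apply Subtype.ext
  exact hc3

end Cfsg.Agent.S2388
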