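import Cfsg.Statements.S2384
import Cfsg.Agent.Lib.Helper49.SemisimpleCharpoly
import Cfsg.Agent.S2388

set_option autoImplicit false
open Cfsg

namespace Cfsg.Agent.S2384

open Polynomial Cfsg.Agent.Lib.Helper49

/-- monic polynomials of degree `m + 1` with prescribed constant coefficient -/
theorem card_monic_coeff_zero {F : Type*} [Field F] [Fintype F] (m : ℕ) (c : F) :
    Nat.card {f : F[X] // f.Monic ∧ f.natDegree = m + 1 ∧ f.coeff 0 = c} = Fintype.card F ^ m := by
  let e₀ : {p : F[X] // p.Monic ∧ p.natDegree = m + 1} ≃ (Fin (m + 1) → F) :=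
    (monicEquivDegreeLT (m + 1)).trans (degreeLTEquiv F (m + 1)).toEquiv
  have he₀ : ∀ p : {p : F[X] // p.Monic ∧ p.natDegree = m + 1}, e₀ p 0 = p.1.coeff 0 := by
    intro p
    change p.1.eraseLead.coeff 0 = p.1.coeff 0
    apply eraseLead_coeff_of_ne
    rw [p.2.2]
    exact (Nat.succ_ne_zero m).symm
  let e₁ : {f : F[X] // f.Monic ∧ f.natDegree = m + 1 ∧ f.coeff 0 = c} ≃
      {p : {p : F[X] // p.Monic ∧ p.natDegree = m + 1} // p.1.coeff 0 = c} :=
    { toFun := fun f => ⟨⟨f.1, f.2.1, f.2.2.1⟩, f.2.2.2⟩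
      invFun := fun p => ⟨p.1.1, p.1.2.1, p.1.2.2, p.2⟩
      left_inv := fun f => rfl
      right_inv := fun p => rfl }
  let e₂ : {p : {p : F[X] // p.Monic ∧ p.natDegree = m + 1} // p.1.coeff 0 = c} ≃
      {a : Fin (m + 1) → F // a 0 = c} :=
    e₀.subtypeEquiv (fun p => by rw [he₀])
  let e₃ : {a : Fin (m + 1) → F // a 0 = c} ≃ (Fin m → F) :=
    { toFun := fun a => Fin.tail a.1
      invFun := fun b => ⟨Fin.cons c b, by simp⟩
      left_inv := fun a => by
        apply Subtype.ext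
        change Fin.cons c (Fin.tail a.1) = a.1
        have h2 := a.2
        obtain ⟨a1, ha1⟩ := a
        simp only at h2 ⊢
        subst h2
        exact Fin.cons_self_tail a1
      right_inv := fun b => by simp }
  rw [Nat.card_congr (e₁.trans (e₂.trans e₃)), Nat.card_eq_fintype_card, Fintype.card_fun,
    Fintype.card_fin]

/-- In `SL_n(q)`, `q` a power of the prime `p`, the number of conjugacy classes of elements of order prime to `p` (the semisimple classes) is `q^(n-1)`. -/
theorem result {F : Type*} [Field F] [Fintype F] {q : ℕ} (hq : Fintype.card F = q) (p : ℕ) [Fact p.Prime] [CharP F p] (n : ℕ) (hn : 1 ≤ n) :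
    Nat.card {c : ConjClasses (Matrix.SpecialLinearGroup (Fin n) F) //
      ∃ g : Matrix.SpecialLinearGroup (Fin n) F, ConjClasses.mk g = c ∧ (orderOf g).Coprime p} = q ^ (n - 1) := by
  classical
  obtain ⟨m, rfl⟩ : ∃ m, n = m + 1 := ⟨n - 1, by omega⟩
  let S := {c : ConjClasses (Matrix.SpecialLinearGroup (Fin (m + 1)) F) //
      ∃ g : Matrix.SpecialLinearGroup (Fin (m + 1)) F, ConjClasses.mk g = c ∧ (orderOf g).Coprime p}
  let T := {f : F[X] // f.Monic ∧ f.natDegree = m + 1 ∧ f.coeff 0 = (-1) ^ (m + 1)}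
  have hex : ∀ C : S, ∃ g : Matrix.SpecialLinearGroup (Fin (m + 1)) F,
      ConjClasses.mk g = C.1 ∧ (orderOf g).Coprime p := fun C => C.2
  choose rep hrep hord using hex
  have hsq : ((-1 : F) ^ (m + 1)) * ((-1 : F) ^ (m + 1)) = 1 := by
    rw [← mul_pow]; simp
  have hcp : ∀ g : Matrix.SpecialLinearGroup (Fin (m + 1)) F,
      (g : Matrix (Fin (m + 1)) (Fin (m + 1)) F).charpoly.Monic ∧
      (g : Matrix (Fin (m + 1)) (Fin (m + 1)) F).charpoly.natDegree = m + 1 ∧
      (g : Matrix (Fin (m + 1)) (Fin (m + 1)) F).charpoly.coeff 0 = (-1) ^ (m + 1) := by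
    intro g
    refine ⟨Matrix.charpoly_monic _, ?_, ?_⟩
    · rw [Matrix.charpoly_natDegree_eq_dim, Fintype.card_fin]
    · have h1 := Matrix.det_eq_sign_charpoly_coeff (g : Matrix (Fin (m + 1)) (Fin (m + 1)) F)
      rw [g.2, Fintype.card_fin] at h1
      calc (g : Matrix (Fin (m + 1)) (Fin (m + 1)) F).charpoly.coeff 0
          = ((-1 : F) ^ (m + 1) * (-1 : F) ^ (m + 1)) *
            (g : Matrix (Fin (m + 1)) (Fin (m + 1)) F).charpoly.coeff 0 := by rw [hsq, one_mul]
        _ = (-1 : F) ^ (m + 1) * ((-1 : F) ^ (m + 1) *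
            (g : Matrix (Fin (m + 1)) (Fin (m + 1)) F).charpoly.coeff 0) := by ring
        _ = (-1 : F) ^ (m + 1) := by rw [← h1, mul_one]
  have hconj : ∀ a b : Matrix.SpecialLinearGroup (Fin (m + 1)) F, IsConj a b →
      (a : Matrix (Fin (m + 1)) (Fin (m + 1)) F).charpoly =
      (b : Matrix (Fin (m + 1)) (Fin (m + 1)) F).charpoly := by
    intro a b hab
    obtain ⟨c, hc⟩ := isConj_iff.mp hab
    rw [← hc]
    have h1 : ((c * a * c⁻¹ : Matrix.SpecialLinearGroup (Fin (m + 1)) F) :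
        Matrix (Fin (m + 1)) (Fin (m + 1)) F) =
        ((c * a : Matrix.SpecialLinearGroup (Fin (m + 1)) F) : Matrix (Fin (m + 1)) (Fin (m + 1)) F) *
        ((c⁻¹ : Matrix.SpecialLinearGroup (Fin (m + 1)) F) : Matrix (Fin (m + 1)) (Fin (m + 1)) F) :=
      Matrix.SpecialLinearGroup.coe_mul _ _
    rw [h1, Matrix.charpoly_mul_comm, ← Matrix.SpecialLinearGroup.coe_mul, ← mul_assoc,
      inv_mul_cancel, one_mul]
  let f : S → T := fun C => ⟨_, hcp (rep C)⟩
  have hbij : Function.Bijective f := by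
    constructor
    · intro C C' h
      have h0 : ((rep C) : Matrix (Fin (m + 1)) (Fin (m + 1)) F).charpoly =
          ((rep C') : Matrix (Fin (m + 1)) (Fin (m + 1)) F).charpoly := congrArg Subtype.val h
      have h1 := Cfsg.Agent.S2388.result p (m + 1) (rep C) (rep C') (hord C) (hord C') h0
      apply Subtype.ext
      rw [← hrep C, ← hrep C']
      exact ConjClasses.mk_eq_mk_iff_isConj.mpr h1
    · rintro ⟨f₀, hm, hd, h0⟩
      have hne : f₀.coeff 0 ≠ 0 := by
        rw [h0]; exact pow_ne_zero _ (neg_ne_zero.mpr one_ne_zero)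
      obtain ⟨G, hG, N, hN, hGN⟩ := exists_matrix_charpoly p f₀ hm (m + 1) hd hne
      have hdet : G.det = 1 := by
        rw [Matrix.det_eq_sign_charpoly_coeff, hG, h0, Fintype.card_fin, hsq]
      let g : Matrix.SpecialLinearGroup (Fin (m + 1)) F := ⟨G, hdet⟩
      have hgN : g ^ N = 1 := by
        apply Subtype.ext
        rw [Matrix.SpecialLinearGroup.coe_pow]
        exact hGN
      have hgo : (orderOf g).Coprime p := Nat.Coprime.coprime_dvd_left (orderOf_dvd_of_pow_eq_one hgN) hN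
      let C : S := ⟨ConjClasses.mk g, g, rfl, hgo⟩
      refine ⟨C, ?_⟩
      apply Subtype.ext
      have h1 : IsConj (rep C) g := ConjClasses.mk_eq_mk_iff_isConj.mp (hrep C)
      change ((rep C) : Matrix (Fin (m + 1)) (Fin (m + 1)) F).charpoly = f₀
      rw [hconj _ _ h1]
      exact hG
  rw [Nat.card_eq_of_bijective f hbij, card_monic_coeff_zero, hq, Nat.add_sub_cancel]

end Cfsg.Agent.S2384
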