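import Cfsg.Statements.S2389
import Cfsg.Agent.Lib.Helper49.SpSemiConj
import Cfsg.Agent.Lib.Helper49.SemisimpleConj

set_option autoImplicit false
open Cfsg

namespace Cfsg.Agent.S2389

/-- In the symplectic group `Sp_{2n}(q)`, `q` a power of the prime `p`, two elements of order prime to `p` with the same characteristic polynomial are conjugate in `Sp_{2n}(q)`. -/
theorem result {F : Type*} [Field F] [Fintype F] (p : ℕ) [Fact p.Prime] [CharP F p] (n : ℕ)
    (g h : ↥(Matrix.symplecticGroup (Fin n) F)) (hg : (orderOf g).Coprime p) (hh : (orderOf h).Coprime p)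
    (hc : (g : Matrix (Fin n ⊕ Fin n) (Fin n ⊕ Fin n) F).charpoly = (h : Matrix (Fin n ⊕ Fin n) (Fin n ⊕ Fin n) F).charpoly) :
    IsConj g h := by
  classical
  have hp : p.Prime := Fact.out
  set K := orderOf g * orderOf h with hK
  have hcop : K.Coprime p := Nat.Coprime.mul_left hg hh
  have hKF : ((K : ℕ) : F) ≠ 0 := by
    rw [Ne, CharP.cast_eq_zero_iff F p]
    intro hdvd
    have := Nat.Coprime.eq_one_of_dvd hcop.symm hdvd
    exact hp.one_lt.ne' this
  have hgK : g ^ K = 1 := by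
    rw [hK, pow_mul, pow_orderOf_eq_one, one_pow]
  have hhK : h ^ K = 1 := by
    rw [hK, mul_comm, pow_mul, pow_orderOf_eq_one, one_pow]
  have hs : Squarefree (Polynomial.X ^ K - Polynomial.C (1 : F)) :=
    (Polynomial.separable_X_pow_sub_C (1 : F) hKF one_ne_zero).squarefree
  have hcoe : ∀ x : ↥(Matrix.symplecticGroup (Fin n) F), x ^ K = 1 →
      Polynomial.aeval (x : Matrix (Fin n ⊕ Fin n) (Fin n ⊕ Fin n) F)
        (Polynomial.X ^ K - Polynomial.C (1 : F)) = 0 := by
    intro x hx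
    have h1 := congrArg (fun y : ↥(Matrix.symplecticGroup (Fin n) F) =>
      (y : Matrix (Fin n ⊕ Fin n) (Fin n ⊕ Fin n) F)) hx
    simp only [SubmonoidClass.coe_pow, OneMemClass.coe_one] at h1
    rw [map_sub, map_pow, Polynomial.aeval_X, Polynomial.aeval_C, h1, map_one, sub_self]
  obtain ⟨P, hP⟩ := Cfsg.Agent.Lib.Helper49.exists_GL_conj_of_charpoly_eq
    (g : Matrix (Fin n ⊕ Fin n) (Fin n ⊕ Fin n) F) (h : Matrix (Fin n ⊕ Fin n) (Fin n ⊕ Fin n) F)
    _ hs (hcoe g hgK) (hcoe h hhK) hc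
  apply Cfsg.Agent.Lib.Helper49.sp_conj_of_matrix_conj g h K hKF hgK
    (P : Matrix (Fin n ⊕ Fin n) (Fin n ⊕ Fin n) F)
  · exact (Matrix.isUnit_iff_isUnit_det _).mp P.isUnit
  · exact hP

end Cfsg.Agent.S2389
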