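import Cfsg.Statements.S2385
import Cfsg.Agent.Lib.Helper49.SpSemiExist
import Cfsg.Agent.S2389

set_option autoImplicit false
open Cfsg

namespace Cfsg.Agent.S2385

/-- In the symplectic group `Sp_{2n}(q)`, `q` a power of the prime `p`, the number of conjugacy classes of elements of order prime to `p` is `q^n`. -/
theorem result {F : Type*} [Field F] [Fintype F] {q : ℕ} (hq : Fintype.card F = q) (p : ℕ) [Fact p.Prime] [CharP F p] (n : ℕ) :
    Nat.card {c : ConjClasses ↥(Matrix.symplecticGroup (Fin n) F) //
      ∃ g : ↥(Matrix.symplecticGroup (Fin n) F), ConjClasses.mk g = c ∧ (orderOf g).Coprime p} = q ^ n := by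
  classical
  subst hq
  have hcardfun : Nat.card (Fin n → F) = Fintype.card F ^ n := by
    rw [Nat.card_eq_fintype_card, Fintype.card_fun, Fintype.card_fin]
  apply le_antisymm
  · -- upper bound
    rw [← hcardfun]
    apply Nat.card_le_card_of_injective
      (fun c : {c : ConjClasses ↥(Matrix.symplecticGroup (Fin n) F) //
        ∃ g : ↥(Matrix.symplecticGroup (Fin n) F), ConjClasses.mk g = c ∧ (orderOf g).Coprime p} =>
        fun i : Fin n => ((Classical.choose c.2 : ↥(Matrix.symplecticGroup (Fin n) F)) :
          Matrix (Fin n ⊕ Fin n) (Fin n ⊕ Fin n) F).charpoly.coeff (i + 1))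
    intro c c' hcc
    have h1 := Classical.choose_spec c.2
    have h2 := Classical.choose_spec c'.2
    have hch := Cfsg.Agent.Lib.Helper49.charpoly_eq_of_coeff_eq (Classical.choose c.2)
      (Classical.choose c'.2) (fun i => congrFun hcc i)
    have hconj := Cfsg.Agent.S2389.result p n _ _ h1.2 h2.2 hch
    apply Subtype.ext
    rw [← h1.1, ← h2.1, ConjClasses.mk_eq_mk_iff_isConj]
    exact hconj
  · -- lower bound
    have key : ∀ h : { h : Polynomial F // h.Monic ∧ h.natDegree = n },
        ∃ g : ↥(Matrix.symplecticGroup (Fin n) F), ∃ C : Matrix (Fin n) (Fin n) F,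
          C.charpoly = h.1 ∧ (orderOf g).Coprime p ∧
          (g : Matrix (Fin n ⊕ Fin n) (Fin n ⊕ Fin n) F).charpoly =
            (Cfsg.Agent.Lib.Helper49.blockU C).charpoly := by
      intro h
      obtain ⟨C, hC⟩ := Cfsg.Agent.Lib.Helper49.exists_matrix_of_monic h.1 h.2.1 h.2.2
      obtain ⟨g, hg1, hg2⟩ := Cfsg.Agent.Lib.Helper49.exists_sp_semisimple p C
      exact ⟨g, C, hC, hg1, hg2⟩
    choose gf Cf hC hcop hch using key
    have hinj : Function.Injective
        (fun h : { h : Polynomial F // h.Monic ∧ h.natDegree = n } =>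
          (⟨ConjClasses.mk (gf h), gf h, rfl, hcop h⟩ :
            {c : ConjClasses ↥(Matrix.symplecticGroup (Fin n) F) //
              ∃ g : ↥(Matrix.symplecticGroup (Fin n) F),
                ConjClasses.mk g = c ∧ (orderOf g).Coprime p})) := by
      intro h h' hh
      have h1 : ConjClasses.mk (gf h) = ConjClasses.mk (gf h') := congrArg Subtype.val hh
      rw [ConjClasses.mk_eq_mk_iff_isConj] at h1
      have h2 := Cfsg.Agent.Lib.Helper49.charpoly_eq_of_isConj_sp _ _ h1
      rw [hch, hch] at h2
      have h3 := Cfsg.Agent.Lib.Helper49.charpoly_block_injective _ _ h2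
      rw [hC, hC] at h3
      exact Subtype.ext h3
    have hle := Nat.card_le_card_of_injective _ hinj
    have hE : Nat.card { h : Polynomial F // h.Monic ∧ h.natDegree = n } = Fintype.card F ^ n := by
      rw [Nat.card_congr ((Polynomial.monicEquivDegreeLT n).trans
        (Polynomial.degreeLTEquiv F n).toEquiv), hcardfun]
    rw [hE] at hle
    exact hle

end Cfsg.Agent.S2385
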