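import Cfsg.Statements.S2390
import Cfsg.Agent.Lib.Helper51.USemi5
import Cfsg.Agent.Lib.Helper49.SemisimpleConj
import Cfsg.Agent.S2587

set_option autoImplicit false
open Cfsg

namespace Cfsg.Agent.S2390

/-- In the special unitary group `SU_n(q)` (inside `SL_n` over the field with `q²` elements), `q` a power of the prime `p`, two elements of order prime to `p` with the same characteristic polynomial are conjugate in `SU_n(q)`. -/
theorem result {F : Type*} [Field F] [Fintype F] {q : ℕ} (hF : Fintype.card F = q ^ 2) (p : ℕ) [Fact p.Prime] [CharP F p] (n : ℕ)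
    (g h : ↥(Cfsg.SU n F q)) (hg : (orderOf g).Coprime p) (hh : (orderOf h).Coprime p)
    (hc : ((g : Matrix.SpecialLinearGroup (Fin n) F) : Matrix (Fin n) (Fin n) F).charpoly =
      ((h : Matrix.SpecialLinearGroup (Fin n) F) : Matrix (Fin n) (Fin n) F).charpoly) : IsConj g h := by
  classical
  rcases Nat.eq_zero_or_pos n with hn0 | hn
  · subst hn0
    have : g = h := by
      apply Subtype.ext
      apply Subtype.ext
      exact Subsingleton.elim _ _
    rw [this]
  have hn1 : 1 ≤ n := hn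
  set A : GL (Fin n) F := Matrix.SpecialLinearGroup.toGL (g : Matrix.SpecialLinearGroup (Fin n) F)
    with hAdef
  set B : GL (Fin n) F := Matrix.SpecialLinearGroup.toGL (h : Matrix.SpecialLinearGroup (Fin n) F)
    with hBdef
  have hAU : A ∈ Cfsg.GU n F q := Cfsg.Agent.Lib.Helper51.URU.toGL_mem_GU g
  have hBU : B ∈ Cfsg.GU n F q := Cfsg.Agent.Lib.Helper51.URU.toGL_mem_GU h
  set m := orderOf g * orderOf h with hm
  have hmpos : 0 < m := Nat.mul_pos (orderOf_pos g) (orderOf_pos h)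
  have hmcop : m.Coprime p := Nat.Coprime.mul_left hg hh
  have hm0 : (m : F) ≠ 0 := by
    intro h0
    rw [CharP.cast_eq_zero_iff F p] at h0
    have h1 : p ∣ Nat.gcd m p := Nat.dvd_gcd h0 (dvd_refl p)
    rw [hmcop] at h1
    exact (Fact.out : p.Prime).one_lt.ne' (Nat.dvd_one.mp h1)
  have hgm : g ^ m = 1 := by rw [hm, pow_mul, pow_orderOf_eq_one, one_pow]
  have hhm : h ^ m = 1 := by rw [hm, mul_comm, pow_mul, pow_orderOf_eq_one, one_pow]
  have hAm : A ^ m = 1 := by
    rw [hAdef, ← map_pow, ← SubgroupClass.coe_pow, hgm]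
    simp
  have hBm : B ^ m = 1 := by
    rw [hBdef, ← map_pow, ← SubgroupClass.coe_pow, hhm]
    simp
  have hA0m : (A : Matrix (Fin n) (Fin n) F) ^ m = 1 := by
    rw [← Units.val_pow_eq_pow_val, hAm]; rfl
  have hB0m : (B : Matrix (Fin n) (Fin n) F) ^ m = 1 := by
    rw [← Units.val_pow_eq_pow_val, hBm]; rfl
  set s : Polynomial F := Polynomial.X ^ m - Polynomial.C 1 with hs
  have hsq : Squarefree s := (Polynomial.separable_X_pow_sub_C (1 : F) hm0 one_ne_zero).squarefree
  have hsA : Polynomial.aeval (A : Matrix (Fin n) (Fin n) F) s = 0 := by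
    rw [hs, map_sub, map_pow, Polynomial.aeval_X, Polynomial.aeval_C, hA0m]
    simp
  have hsB : Polynomial.aeval (B : Matrix (Fin n) (Fin n) F) s = 0 := by
    rw [hs, map_sub, map_pow, Polynomial.aeval_X, Polynomial.aeval_C, hB0m]
    simp
  have hc' : (A : Matrix (Fin n) (Fin n) F).charpoly = (B : Matrix (Fin n) (Fin n) F).charpoly := hc
  obtain ⟨P, hP⟩ := Cfsg.Agent.Lib.Helper49.exists_GL_conj_of_charpoly_eq
    (A : Matrix (Fin n) (Fin n) F) (B : Matrix (Fin n) (Fin n) F) s hsq hsA hsB hc'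
  have hconjGL : IsConj A B := by
    rw [isConj_iff]
    refine ⟨P, ?_⟩
    rw [mul_inv_eq_iff_eq_mul]
    apply Units.ext
    rw [Units.val_mul, Units.val_mul]
    exact hP
  have hconjGU : IsConj (⟨A, hAU⟩ : ↥(Cfsg.GU n F q)) ⟨B, hBU⟩ :=
    (Cfsg.Agent.S2587.result hF ⟨A, hAU⟩ ⟨B, hBU⟩).mpr hconjGL
  rw [isConj_iff] at hconjGU
  obtain ⟨c, hcc⟩ := hconjGU
  have hcU : (c : GL (Fin n) F) ∈ Cfsg.GU n F q := c.2
  have hcc' : (c : GL (Fin n) F) * A * (c : GL (Fin n) F)⁻¹ = B := by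
    have := congrArg (fun x : ↥(Cfsg.GU n F q) => (x : GL (Fin n) F)) hcc
    simpa using this
  set d : F := ((c : GL (Fin n) F) : Matrix (Fin n) (Fin n) F).det with hd
  have hdN : d * d ^ q = 1 := by
    have h1 := Cfsg.Agent.Lib.Helper19.det_mem_normOne hF (c : GL (Fin n) F) hcU
    rw [Cfsg.Agent.Lib.Helper19.mem_normOne] at h1
    have h2 := congrArg Units.val h1
    rw [Units.val_pow_eq_pow_val, Matrix.GeneralLinearGroup.val_det_apply, Units.val_one] at h2
    rw [← pow_succ', hd]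
    exact h2
  have hd0 : d ≠ 0 := by
    intro h0
    rw [h0, zero_mul] at hdN
    exact zero_ne_one hdN
  have hl : d⁻¹ * d⁻¹ ^ q = 1 := by
    rw [inv_pow, ← mul_inv, hdN, inv_one]
  obtain ⟨z, hzU, hzA, hzdet⟩ := Cfsg.Agent.Lib.Helper51.USemi.exists_GU_commute_det hF hn1 A hAU m
    hmpos hm0 hAm d⁻¹ hl
  set k : GL (Fin n) F := (c : GL (Fin n) F) * z with hk
  have hkU : k ∈ Cfsg.GU n F q := (Cfsg.GU n F q).mul_mem hcU hzU
  have hkdet : (k : Matrix (Fin n) (Fin n) F).det = 1 := by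
    rw [hk, Units.val_mul, Matrix.det_mul, hzdet, ← hd, mul_inv_cancel₀ hd0]
  have hkconj : k * A = B * k := by
    rw [← hcc', hk]
    calc (c : GL (Fin n) F) * z * A = (c : GL (Fin n) F) * (z * A) := by rw [mul_assoc]
      _ = (c : GL (Fin n) F) * (A * z) := by rw [hzA]
      _ = (c : GL (Fin n) F) * A * (c : GL (Fin n) F)⁻¹ * ((c : GL (Fin n) F) * z) := by group
  rw [isConj_iff]
  refine ⟨Cfsg.Agent.Lib.Helper51.URU.ofGU k hkU hkdet, ?_⟩
  rw [mul_inv_eq_iff_eq_mul]
  apply Subtype.ext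
  apply Subtype.ext
  have := congrArg (fun x : GL (Fin n) F => (x : Matrix (Fin n) (Fin n) F)) hkconj
  simp only [Units.val_mul] at this
  exact this

end Cfsg.Agent.S2390
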