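import Cfsg.Statements.S2386
import Cfsg.Agent.Lib.Helper51.USemi8
import Cfsg.Agent.S2390

set_option autoImplicit false
open Cfsg

namespace Cfsg.Agent.S2386

/-- In the special unitary group `SU_n(q)` (matrices of determinant one over the field with `q²` elements preserving the standard Hermitian form), `q` a power of the prime `p`, the number of conjugacy classes of elements of order prime to `p` is `q^(n-1)`. -/
theorem result {F : Type*} [Field F] [Fintype F] {q : ℕ} (hF : Fintype.card F = q ^ 2) (p : ℕ) [Fact p.Prime] [CharP F p] (n : ℕ) (hn : 1 ≤ n) :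
    Nat.card {c : ConjClasses ↥(Cfsg.SU n F q) // ∃ g : ↥(Cfsg.SU n F q), ConjClasses.mk g = c ∧ (orderOf g).Coprime p} = q ^ (n - 1) := by
  classical
  obtain ⟨m, rfl⟩ : ∃ m, n = m + 1 := ⟨n - 1, by omega⟩
  let S := {c : ConjClasses ↥(Cfsg.SU (m + 1) F q) //
      ∃ g : ↥(Cfsg.SU (m + 1) F q), ConjClasses.mk g = c ∧ (orderOf g).Coprime p}
  let T := {f : Polynomial F // f.Monic ∧ f.natDegree = m + 1 ∧
      f = Polynomial.C ((-1 : F) ^ (m + 1)) *
        (f.map (Cfsg.Agent.Lib.Helper19.frobQ hF)).reverse}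
  have hex : ∀ C : S, ∃ g : ↥(Cfsg.SU (m + 1) F q),
      ConjClasses.mk g = C.1 ∧ (orderOf g).Coprime p := fun C => C.2
  choose rep hrep hord using hex
  have hcp : ∀ g : ↥(Cfsg.SU (m + 1) F q),
      ((g : Matrix.SpecialLinearGroup (Fin (m + 1)) F) :
        Matrix (Fin (m + 1)) (Fin (m + 1)) F).charpoly.Monic ∧
      ((g : Matrix.SpecialLinearGroup (Fin (m + 1)) F) :
        Matrix (Fin (m + 1)) (Fin (m + 1)) F).charpoly.natDegree = m + 1 ∧
      ((g : Matrix.SpecialLinearGroup (Fin (m + 1)) F) :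
        Matrix (Fin (m + 1)) (Fin (m + 1)) F).charpoly =
        Polynomial.C ((-1 : F) ^ (m + 1)) *
          ((((g : Matrix.SpecialLinearGroup (Fin (m + 1)) F) :
            Matrix (Fin (m + 1)) (Fin (m + 1)) F).charpoly).map
              (Cfsg.Agent.Lib.Helper19.frobQ hF)).reverse := by
    intro g
    refine ⟨Matrix.charpoly_monic _, ?_, ?_⟩
    · rw [Matrix.charpoly_natDegree_eq_dim, Fintype.card_fin]
    · have hU := Cfsg.Agent.Lib.Helper51.URU.toGL_mem_GU g
      rw [Cfsg.Agent.Lib.Helper51.URU.mem_GU_iff_cstar hF] at hU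
      exact Cfsg.Agent.Lib.Helper51.USemi.charpoly_twisted _ m _ hU
        (g : Matrix.SpecialLinearGroup (Fin (m + 1)) F).2
  have hconj : ∀ a b : ↥(Cfsg.SU (m + 1) F q), IsConj a b →
      ((a : Matrix.SpecialLinearGroup (Fin (m + 1)) F) :
        Matrix (Fin (m + 1)) (Fin (m + 1)) F).charpoly =
      ((b : Matrix.SpecialLinearGroup (Fin (m + 1)) F) :
        Matrix (Fin (m + 1)) (Fin (m + 1)) F).charpoly := by
    intro a b hab
    obtain ⟨c, hc⟩ := isConj_iff.mp hab
    rw [← hc]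
    have h1 : (((c * a * c⁻¹ : ↥(Cfsg.SU (m + 1) F q)) :
        Matrix.SpecialLinearGroup (Fin (m + 1)) F) : Matrix (Fin (m + 1)) (Fin (m + 1)) F) =
        (((c * a : ↥(Cfsg.SU (m + 1) F q)) : Matrix.SpecialLinearGroup (Fin (m + 1)) F) :
          Matrix (Fin (m + 1)) (Fin (m + 1)) F) *
        (((c⁻¹ : ↥(Cfsg.SU (m + 1) F q)) : Matrix.SpecialLinearGroup (Fin (m + 1)) F) :
          Matrix (Fin (m + 1)) (Fin (m + 1)) F) := by
      rw [Subgroup.coe_mul, Matrix.SpecialLinearGroup.coe_mul]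
    rw [h1, Matrix.charpoly_mul_comm, ← Matrix.SpecialLinearGroup.coe_mul, ← Subgroup.coe_mul,
      ← mul_assoc, inv_mul_cancel, one_mul]
  let f : S → T := fun C => ⟨_, hcp (rep C)⟩
  have hbij : Function.Bijective f := by
    constructor
    · intro C C' h
      have h0 : (((rep C) : Matrix.SpecialLinearGroup (Fin (m + 1)) F) :
          Matrix (Fin (m + 1)) (Fin (m + 1)) F).charpoly =
          (((rep C') : Matrix.SpecialLinearGroup (Fin (m + 1)) F) :
            Matrix (Fin (m + 1)) (Fin (m + 1)) F).charpoly := congrArg Subtype.val h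
      have h1 := Cfsg.Agent.S2390.result hF p (m + 1) (rep C) (rep C') (hord C) (hord C') h0
      apply Subtype.ext
      rw [← hrep C, ← hrep C']
      exact ConjClasses.mk_eq_mk_iff_isConj.mpr h1
    · rintro ⟨f₀, hm, hd, htw⟩
      obtain ⟨g, hgo, hgcp⟩ :=
        Cfsg.Agent.Lib.Helper51.USemi.exists_SU_charpoly hF p m f₀ hm hd htw
      let C : S := ⟨ConjClasses.mk g, g, rfl, hgo⟩
      refine ⟨C, ?_⟩
      apply Subtype.ext
      have h1 : IsConj (rep C) g := ConjClasses.mk_eq_mk_iff_isConj.mp (hrep C)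
      change (((rep C) : Matrix.SpecialLinearGroup (Fin (m + 1)) F) :
        Matrix (Fin (m + 1)) (Fin (m + 1)) F).charpoly = f₀
      rw [hconj _ _ h1]
      exact hgcp
  rw [Nat.card_eq_of_bijective f hbij, Cfsg.Agent.Lib.Helper51.USemi.card_twisted hF,
    Nat.add_sub_cancel]

end Cfsg.Agent.S2386
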