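import Cfsg.Statements.S2387
import Cfsg.Agent.Lib.Helper49.SemisimpleCharpoly
import Cfsg.Agent.S2384

set_option autoImplicit false
open scoped MatrixGroups
open Cfsg

namespace Cfsg.Agent.S2387

open Polynomial Cfsg.Agent.Lib.Helper49

theorem isConj_GL_of_charpoly_eq {F : Type*} [Field F] [Fintype F] (p : ℕ) [Fact p.Prime] [CharP F p]
    (n : ℕ) (g h : GL (Fin n) F) (hg : (orderOf g).Coprime p) (hh : (orderOf h).Coprime p)
    (hc : (g : Matrix (Fin n) (Fin n) F).charpoly = (h : Matrix (Fin n) (Fin n) F).charpoly) :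
    IsConj g h := by
  classical
  set G : Matrix (Fin n) (Fin n) F := (g : Matrix (Fin n) (Fin n) F) with hG
  set H : Matrix (Fin n) (Fin n) F := (h : Matrix (Fin n) (Fin n) F) with hH
  set k := orderOf g * orderOf h with hk
  have hkp : k.Coprime p := Nat.Coprime.mul_left hg hh
  have hkF : (k : F) ≠ 0 := by
    intro h0
    rw [CharP.cast_eq_zero_iff F p] at h0
    have h1 : p ∣ Nat.gcd k p := Nat.dvd_gcd h0 dvd_rfl
    rw [hkp] at h1
    exact (Fact.out : p.Prime).one_lt.ne' (Nat.dvd_one.mp h1)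
  have hs : Squarefree ((Polynomial.X : Polynomial F) ^ k - Polynomial.C 1) :=
    (Polynomial.separable_X_pow_sub_C (1 : F) hkF one_ne_zero).squarefree
  have hgk : g ^ k = 1 := by rw [hk, pow_mul, pow_orderOf_eq_one, one_pow]
  have hhk : h ^ k = 1 := by rw [hk, mul_comm, pow_mul, pow_orderOf_eq_one, one_pow]
  have hGk : G ^ k = 1 := by
    rw [hG, ← Units.val_pow_eq_pow_val, hgk, Units.val_one]
  have hHk : H ^ k = 1 := by
    rw [hH, ← Units.val_pow_eq_pow_val, hhk, Units.val_one]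
  have hA : Polynomial.aeval G ((Polynomial.X : Polynomial F) ^ k - Polynomial.C 1) = 0 := by
    simp [hGk]
  have hB : Polynomial.aeval H ((Polynomial.X : Polynomial F) ^ k - Polynomial.C 1) = 0 := by
    simp [hHk]
  obtain ⟨P, hP⟩ := exists_GL_conj_of_charpoly_eq G H _ hs hA hB hc
  rw [isConj_iff]
  refine ⟨P, ?_⟩
  rw [mul_inv_eq_iff_eq_mul]
  apply Units.ext
  exact hP

theorem card_monic_coeff_zero_ne {F : Type*} [Field F] [Fintype F] (m : ℕ) :
    Nat.card {f : F[X] // f.Monic ∧ f.natDegree = m + 1 ∧ f.coeff 0 ≠ 0} =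
      (Fintype.card F - 1) * Fintype.card F ^ m := by
  classical
  let e₀ : {p : F[X] // p.Monic ∧ p.natDegree = m + 1} ≃ (Fin (m + 1) → F) :=
    (monicEquivDegreeLT (m + 1)).trans (degreeLTEquiv F (m + 1)).toEquiv
  letI : Fintype {p : F[X] // p.Monic ∧ p.natDegree = m + 1} := Fintype.ofEquiv _ e₀.symm
  have hA : Fintype.card {p : F[X] // p.Monic ∧ p.natDegree = m + 1} = Fintype.card F ^ (m + 1) := by
    rw [Fintype.card_congr e₀, Fintype.card_fun, Fintype.card_fin]
  let e₁ : {f : F[X] // f.Monic ∧ f.natDegree = m + 1 ∧ f.coeff 0 ≠ 0} ≃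
      {p : {p : F[X] // p.Monic ∧ p.natDegree = m + 1} // ¬ (p.1.coeff 0 = 0)} :=
    { toFun := fun f => ⟨⟨f.1, f.2.1, f.2.2.1⟩, f.2.2.2⟩
      invFun := fun p => ⟨p.1.1, p.1.2.1, p.1.2.2, p.2⟩
      left_inv := fun f => rfl
      right_inv := fun p => rfl }
  let e₂ : {f : F[X] // f.Monic ∧ f.natDegree = m + 1 ∧ f.coeff 0 = 0} ≃
      {p : {p : F[X] // p.Monic ∧ p.natDegree = m + 1} // p.1.coeff 0 = 0} :=
    { toFun := fun f => ⟨⟨f.1, f.2.1, f.2.2.1⟩, f.2.2.2⟩
      invFun := fun p => ⟨p.1.1, p.1.2.1, p.1.2.2, p.2⟩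
      left_inv := fun f => rfl
      right_inv := fun p => rfl }
  have h0 := Cfsg.Agent.S2384.card_monic_coeff_zero (F := F) m 0
  rw [Nat.card_congr e₂, Nat.card_eq_fintype_card] at h0
  rw [Nat.card_congr e₁, Nat.card_eq_fintype_card, Fintype.card_subtype_compl, hA, h0, pow_succ,
    Nat.sub_mul, one_mul, mul_comm]

/-- In `GL_n(q)` with `n ≥ 1`, `q` a power of the prime `p`, the number of conjugacy classes of elements of order prime to `p` (diagonalisable over the algebraic closure; determined by the characteristic polynomial) is `(q - 1) q^(n-1)`. -/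
theorem result {F : Type*} [Field F] [Fintype F] {q : ℕ} (hq : Fintype.card F = q) (p : ℕ) [Fact p.Prime] [CharP F p] (n : ℕ) (hn : 1 ≤ n) :
    Nat.card {c : ConjClasses (GL (Fin n) F) // ∃ g : GL (Fin n) F, ConjClasses.mk g = c ∧ (orderOf g).Coprime p} = (q - 1) * q ^ (n - 1) := by
  classical
  obtain ⟨m, rfl⟩ : ∃ m, n = m + 1 := ⟨n - 1, by omega⟩
  let S := {c : ConjClasses (GL (Fin (m + 1)) F) //
      ∃ g : GL (Fin (m + 1)) F, ConjClasses.mk g = c ∧ (orderOf g).Coprime p}
  let T := {f : F[X] // f.Monic ∧ f.natDegree = m + 1 ∧ f.coeff 0 ≠ 0}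
  have hex : ∀ C : S, ∃ g : GL (Fin (m + 1)) F,
      ConjClasses.mk g = C.1 ∧ (orderOf g).Coprime p := fun C => C.2
  choose rep hrep hord using hex
  have hcp : ∀ g : GL (Fin (m + 1)) F,
      (g : Matrix (Fin (m + 1)) (Fin (m + 1)) F).charpoly.Monic ∧
      (g : Matrix (Fin (m + 1)) (Fin (m + 1)) F).charpoly.natDegree = m + 1 ∧
      (g : Matrix (Fin (m + 1)) (Fin (m + 1)) F).charpoly.coeff 0 ≠ 0 := by
    intro g
    refine ⟨Matrix.charpoly_monic _, ?_, ?_⟩
    · rw [Matrix.charpoly_natDegree_eq_dim, Fintype.card_fin]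
    · intro h0
      have h1 := Matrix.det_eq_sign_charpoly_coeff (g : Matrix (Fin (m + 1)) (Fin (m + 1)) F)
      rw [h0, mul_zero] at h1
      have h2 := (Matrix.isUnit_iff_isUnit_det _).mp g.isUnit
      rw [h1] at h2
      exact not_isUnit_zero h2
  have hconj : ∀ a b : GL (Fin (m + 1)) F, IsConj a b →
      (a : Matrix (Fin (m + 1)) (Fin (m + 1)) F).charpoly =
      (b : Matrix (Fin (m + 1)) (Fin (m + 1)) F).charpoly := by
    intro a b hab
    obtain ⟨c, hc⟩ := isConj_iff.mp hab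
    rw [← hc, Units.val_mul, Matrix.charpoly_mul_comm, ← Units.val_mul, ← mul_assoc,
      inv_mul_cancel, one_mul]
  let f : S → T := fun C => ⟨_, hcp (rep C)⟩
  have hbij : Function.Bijective f := by
    constructor
    · intro C C' h
      have h0 : ((rep C) : Matrix (Fin (m + 1)) (Fin (m + 1)) F).charpoly =
          ((rep C') : Matrix (Fin (m + 1)) (Fin (m + 1)) F).charpoly := congrArg Subtype.val h
      have h1 := isConj_GL_of_charpoly_eq p (m + 1) (rep C) (rep C') (hord C) (hord C') h0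
      apply Subtype.ext
      rw [← hrep C, ← hrep C']
      exact ConjClasses.mk_eq_mk_iff_isConj.mpr h1
    · rintro ⟨f₀, hm, hd, h0⟩
      obtain ⟨G, hG, N, hN, hGN⟩ := exists_matrix_charpoly p f₀ hm (m + 1) hd h0
      have hN0 : N ≠ 0 := by
        rintro rfl
        rw [Nat.coprime_zero_left] at hN
        exact (Fact.out : p.Prime).one_lt.ne' hN
      obtain ⟨N', rfl⟩ : ∃ N', N = N' + 1 := ⟨N - 1, by omega⟩
      let g : GL (Fin (m + 1)) F := ⟨G, G ^ N', by rw [← pow_succ', hGN], by rw [← pow_succ, hGN]⟩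
      have hgN : g ^ (N' + 1) = 1 := by
        apply Units.ext
        rw [Units.val_pow_eq_pow_val, Units.val_one]
        exact hGN
      have hgo : (orderOf g).Coprime p := Nat.Coprime.coprime_dvd_left (orderOf_dvd_of_pow_eq_one hgN) hN
      let C : S := ⟨ConjClasses.mk g, g, rfl, hgo⟩
      refine ⟨C, ?_⟩
      apply Subtype.ext
      have h1 : IsConj (rep C) g := ConjClasses.mk_eq_mk_iff_isConj.mp (hrep C)
      change ((rep C) : Matrix (Fin (m + 1)) (Fin (m + 1)) F).charpoly = f₀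
      rw [hconj _ _ h1]
      exact hG
  rw [Nat.card_eq_of_bijective f hbij, card_monic_coeff_zero_ne, hq, Nat.add_sub_cancel]

end Cfsg.Agent.S2387
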