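import Cfsg.Statements.S2391
import Mathlib

set_option autoImplicit false
open Cfsg

namespace Cfsg.Agent.S2391

section general

variable {F M G : Type*} [Field F] [AddCommGroup M] [Module F M] [Group G]
  (ρ : G →* Module.End F M) (U : Subgroup G)

/-- The ascending chain: `fl 0 = ⊥`, `fl (i+1) = {v | ∀ u ∈ U, u v - v ∈ fl i}`. -/
def fl : ℕ → Submodule F M
  | 0 => ⊥
  | (i + 1) => ⨅ u : G, ⨅ _ : u ∈ U, (fl i).comap (ρ u - 1)

theorem fl_zero : fl ρ U 0 = ⊥ := rfl

theorem mem_fl_succ (i : ℕ) (v : M) :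
    v ∈ fl ρ U (i + 1) ↔ ∀ u ∈ U, ρ u v - v ∈ fl ρ U i := by
  simp only [fl, Submodule.mem_iInf, Submodule.mem_comap, LinearMap.sub_apply, Module.End.one_apply]

theorem fl_le_succ (i : ℕ) : fl ρ U i ≤ fl ρ U (i + 1) := by
  induction i with
  | zero => rw [fl_zero]; exact bot_le
  | succ i ih =>
    intro v hv
    rw [mem_fl_succ] at hv ⊢
    intro u hu
    exact ih (hv u hu)

theorem fl_normalizer (g : G) (hg : g ∈ Subgroup.normalizer (U : Set G)) (i : ℕ) (v : M)
    (hv : v ∈ fl ρ U i) : ρ g v ∈ fl ρ U i := by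
  induction i generalizing v with
  | zero =>
    rw [fl_zero, Submodule.mem_bot] at hv ⊢
    rw [hv, map_zero]
  | succ i ih =>
    rw [mem_fl_succ] at hv ⊢
    intro u hu
    have hg' : g⁻¹ ∈ Subgroup.normalizer (U : Set G) := inv_mem hg
    have hu' : g⁻¹ * u * g ∈ U := by
      have := (Subgroup.mem_normalizer_iff.1 hg' u).1 hu
      simpa using this
    have h1 := ih _ (hv _ hu')
    have h2 : ρ g (ρ (g⁻¹ * u * g) v - v) = ρ u (ρ g v) - ρ g v := by
      rw [map_sub]
      congr 1
      rw [← Module.End.mul_apply, ← map_mul]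
      rw [← Module.End.mul_apply, ← map_mul]
      congr 2
      group
    rw [← h2]
    exact h1

theorem fl_map_normalizer (g : G) (hg : g ∈ Subgroup.normalizer (U : Set G)) (i : ℕ) :
    (fl ρ U i).map (ρ g) = fl ρ U i := by
  apply le_antisymm
  · rintro _ ⟨v, hv, rfl⟩
    exact fl_normalizer ρ U g hg i v hv
  · intro v hv
    refine ⟨ρ g⁻¹ v, fl_normalizer ρ U g⁻¹ (inv_mem hg) i v hv, ?_⟩
    rw [← Module.End.mul_apply, ← map_mul, mul_inv_cancel, map_one, Module.End.one_apply]

theorem fl_invariant (i : ℕ) (u : G) (hu : u ∈ U) (v : M) (hv : v ∈ fl ρ U i) :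
    ρ u v ∈ fl ρ U i :=
  fl_normalizer ρ U u (Subgroup.le_normalizer hu) i v hv

/-- The action of `U` on the quotient by a member of the chain. -/
@[reducible] def quotAction (i : ℕ) : MulAction U (M ⧸ fl ρ U i) where
  smul u x := (fl ρ U i).mapQ (fl ρ U i) (ρ u)
    (fun v hv => fl_invariant ρ U i u u.2 v hv) x
  one_smul x := by
    induction x using Submodule.Quotient.induction_on with
    | H v =>
      change (fl ρ U i).mapQ (fl ρ U i) (ρ ((1 : U) : G)) _ (Submodule.Quotient.mk v) = _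
      rw [Submodule.mapQ_apply]
      simp
  mul_smul a b x := by
    induction x using Submodule.Quotient.induction_on with
    | H v =>
      change (fl ρ U i).mapQ (fl ρ U i) (ρ ((a * b : U) : G)) _ (Submodule.Quotient.mk v) =
        (fl ρ U i).mapQ (fl ρ U i) (ρ (a : G)) _
          ((fl ρ U i).mapQ (fl ρ U i) (ρ (b : G)) _ (Submodule.Quotient.mk v))
      rw [Submodule.mapQ_apply, Submodule.mapQ_apply, Submodule.mapQ_apply]
      simp [map_mul]

theorem quotAction_smul_mk (i : ℕ) (u : U) (v : M) :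
    (quotAction ρ U i).smul u (Submodule.Quotient.mk v) = Submodule.Quotient.mk (ρ (u : G) v) := by
  change (fl ρ U i).mapQ (fl ρ U i) (ρ (u : G)) _ (Submodule.Quotient.mk v) = _
  rw [Submodule.mapQ_apply]

theorem fl_lt_succ (p : ℕ) [Fact p.Prime] [CharP F p] [Finite M] (hU : IsPGroup p U) (i : ℕ)
    (hi : fl ρ U i ≠ ⊤) : fl ρ U i < fl ρ U (i + 1) := by
  refine lt_of_le_of_ne (fl_le_succ ρ U i) ?_
  intro heq
  let _inst := quotAction ρ U i
  have hfin : Finite (M ⧸ fl ρ U i) := Finite.of_surjective _ (Submodule.Quotient.mk_surjective _)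
  have hnt : Nontrivial (M ⧸ fl ρ U i) := Submodule.Quotient.nontrivial_iff.2 hi
  have hpdvd : p ∣ Nat.card (M ⧸ fl ρ U i) := by
    obtain ⟨x, hx⟩ := exists_ne (0 : M ⧸ fl ρ U i)
    have h1 : p • x = 0 := by
      rw [← Nat.cast_smul_eq_nsmul F, CharP.cast_eq_zero, zero_smul]
    have h2 : addOrderOf x ∣ p := addOrderOf_dvd_of_nsmul_eq_zero h1
    have h3 : addOrderOf x ≠ 1 := by
      rw [Ne, AddMonoid.addOrderOf_eq_one_iff]
      exact hx
    have h4 : addOrderOf x = p := by
      rcases (Nat.dvd_prime (Fact.out : p.Prime)).1 h2 with h | h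
      · exact absurd h h3
      · exact h
    rw [← h4]
    exact addOrderOf_dvd_natCard x
  have h0 : (0 : M ⧸ fl ρ U i) ∈ MulAction.fixedPoints U (M ⧸ fl ρ U i) := by
    intro u
    have := quotAction_smul_mk ρ U i u 0
    rw [map_zero] at this
    exact this
  obtain ⟨b, hb, hb0⟩ := hU.exists_fixed_point_of_prime_dvd_card_of_fixed_point
    (M ⧸ fl ρ U i) hpdvd h0
  induction b using Submodule.Quotient.induction_on with
  | H v =>
    have hv : v ∈ fl ρ U (i + 1) := by
      rw [mem_fl_succ]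
      intro u hu
      have := hb ⟨u, hu⟩
      have h2 := quotAction_smul_mk ρ U i ⟨u, hu⟩ v
      rw [← Submodule.Quotient.eq]
      exact h2.symm.trans this
    rw [← heq] at hv
    apply hb0
    exact ((Submodule.Quotient.mk_eq_zero _).2 hv).symm

theorem exists_fl_eq_top (p : ℕ) [Fact p.Prime] [CharP F p] [Finite M] (hU : IsPGroup p U) :
    ∃ i, fl ρ U i = ⊤ := by
  by_contra h
  rw [not_exists] at h
  have hfd : Module.Finite F M := Module.Finite.of_finite
  have : StrictMono (fl ρ U) := strictMono_nat_of_lt_succ (fun i => fl_lt_succ ρ U p hU i (h i))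
  exact not_strictMono_of_wellFoundedGT _ this

end general

/-- The natural representation of `SL_n(F)` on `F^n`. -/
def natRep (F : Type*) [Field F] (n : ℕ) :
    Matrix.SpecialLinearGroup (Fin n) F →* Module.End F (Fin n → F) where
  toFun g := Matrix.mulVecLin (g : Matrix (Fin n) (Fin n) F)
  map_one' := by
    simp [Matrix.mulVecLin_one]
    rfl
  map_mul' a b := by
    simp [Matrix.mulVecLin_mul]
    rfl

theorem natRep_apply (F : Type*) [Field F] (n : ℕ) (g : Matrix.SpecialLinearGroup (Fin n) F)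
    (v : Fin n → F) : natRep F n g v = (g : Matrix (Fin n) (Fin n) F).mulVec v := rfl

theorem result {F : Type*} [Field F] [Fintype F] (p : ℕ) [Fact p.Prime] [CharP F p] (n : ℕ)
    (U : Subgroup (Matrix.SpecialLinearGroup (Fin n) F)) (hU : IsPGroup p ↥U) (hne : U ≠ ⊥) :
    ∃ (k : ℕ) (V : Fin (k + 2) → Submodule F (Fin n → F)), 1 ≤ k ∧ StrictMono V ∧ V 0 = ⊥ ∧ V (Fin.last (k + 1)) = ⊤ ∧
      (∀ g ∈ Subgroup.normalizer (U : Set (Matrix.SpecialLinearGroup (Fin n) F)), ∀ i, (V i).map (Matrix.mulVecLin (g : Matrix (Fin n) (Fin n) F)) = V i) ∧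
      (∀ u ∈ U, ∀ i : Fin (k + 1), ∀ v ∈ V i.succ, (u : Matrix (Fin n) (Fin n) F).mulVec v - v ∈ V (Fin.castSucc i)) := by
  classical
  set ρ := natRep F n with hρ
  have hex := exists_fl_eq_top ρ U p hU
  set K := Nat.find hex with hK
  have hKtop : fl ρ U K = ⊤ := Nat.find_spec hex
  have hlt : ∀ i, i < K → fl ρ U i ≠ ⊤ := fun i hi => Nat.find_min hex hi
  -- U nontrivial: pick u ≠ 1
  obtain ⟨u, hu, hu1⟩ : ∃ u ∈ U, u ≠ 1 := by
    by_contra h
    apply hne
    rw [eq_bot_iff]
    intro x hx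
    rw [Subgroup.mem_bot]
    by_contra hx1
    exact h ⟨x, hx, hx1⟩
  -- K ≠ 0
  have hK0 : K ≠ 0 := by
    intro h0
    rw [h0, fl_zero] at hKtop
    -- the module is trivial so u = 1
    apply hu1
    apply Subtype.ext
    have hsub : Subsingleton (Fin n → F) := by
      rw [← Submodule.subsingleton_iff F]
      exact subsingleton_of_bot_eq_top hKtop
    have hn : n = 0 := by
      by_contra hn
      have : Nonempty (Fin n) := ⟨⟨0, Nat.pos_of_ne_zero hn⟩⟩
      have hnt : Nontrivial (Fin n → F) := inferInstance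
      exact not_subsingleton _ hsub
    subst hn
    exact Subsingleton.elim _ _
  -- K ≠ 1
  have hK1 : K ≠ 1 := by
    intro h1
    rw [h1] at hKtop
    apply hu1
    apply Subtype.ext
    have hfix : ∀ v : Fin n → F, (u : Matrix (Fin n) (Fin n) F).mulVec v = v := by
      intro v
      have hv : v ∈ fl ρ U (0 + 1) := by rw [zero_add, hKtop]; trivial
      rw [mem_fl_succ, fl_zero] at hv
      have := hv u hu
      rw [Submodule.mem_bot, sub_eq_zero] at this
      exact this
    have : Matrix.toLin' (u : Matrix (Fin n) (Fin n) F) = Matrix.toLin' (1 : Matrix (Fin n) (Fin n) F) := by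
      refine LinearMap.ext fun v => ?_
      rw [Matrix.toLin'_apply, hfix, Matrix.toLin'_apply, Matrix.one_mulVec]
    simpa using Matrix.toLin'.injective this
  obtain ⟨k, hk⟩ : ∃ k, K = k + 2 := ⟨K - 2, by omega⟩
  refine ⟨k + 1, fun j => fl ρ U j.val, by omega, ?_, ?_, ?_, ?_, ?_⟩
  · rw [Fin.strictMono_iff_lt_succ]
    intro i
    have : (i.castSucc : Fin (k + 1 + 2)).val < K := by
      have := i.isLt
      simp only [Fin.val_castSucc]
      omega
    have h := fl_lt_succ ρ U p hU _ (hlt _ this)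
    simpa using h
  · simp [fl_zero]
  · simp only [Fin.val_last]
    rw [← hKtop, hk]
  · intro g hg i
    exact fl_map_normalizer ρ U g hg _
  · intro u hu i v hv
    simp only [Fin.val_succ] at hv
    rw [mem_fl_succ] at hv
    exact hv u hu

end Cfsg.Agent.S2391
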