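import Cfsg.Statements.S2392
import Cfsg.Agent.Lib.Helper46.Weights
import Cfsg.Agent.Lib.Helper46.RowUnip

set_option autoImplicit false
open scoped MatrixGroups
open Cfsg

namespace Cfsg.Agent.S2392

open Cfsg.Agent.Lib.Helper46 Matrix

section aux

variable {F : Type*} [Field F] {m : ℕ}

/-- `rowU a` as an element of `SL`. -/
def rowSL (a : Fin m → F) : Matrix.SpecialLinearGroup (Fin (m + 1)) F :=
  ⟨rowU a, det_rowU a⟩

theorem rowSL_zero : rowSL (0 : Fin m → F) = 1 := by
  apply Subtype.ext
  exact rowU_zero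

theorem rowSL_add (a b : Fin m → F) : rowSL (a + b) = rowSL a * rowSL b := by
  apply Subtype.ext
  exact rowU_add a b

/-- an elementary transvection in `SL`. -/
def tvSL (i j : Fin m) (hij : i ≠ j) (t : F) : Matrix.SpecialLinearGroup (Fin (m + 1)) F :=
  ⟨transvection i.succ j.succ t, det_transvection_of_ne _ _ (fun h => hij (Fin.succ_injective _ h)) t⟩

theorem tvSL_inv (i j : Fin m) (hij : i ≠ j) (t : F) : (tvSL i j hij t)⁻¹ = tvSL i j hij (-t) := by
  rw [inv_eq_iff_mul_eq_one]
  apply Subtype.ext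
  change transvection i.succ j.succ t * transvection i.succ j.succ (-t) = 1
  rw [transvection_mul_transvection_same _ _ (fun h => hij (Fin.succ_injective _ h)), add_neg_cancel,
    transvection_zero]

theorem tvSL_conj (i j : Fin m) (hij : i ≠ j) (t : F) (a : Fin m → F) :
    tvSL i j hij t * rowSL a * (tvSL i j hij t)⁻¹ = rowSL (a - (t * a i) • Pi.single j 1) := by
  rw [tvSL_inv]
  apply Subtype.ext
  exact transvection_conj_rowU i j hij t a

/-- The map on parameters induced by conjugation. -/
def phiEquiv (i j : Fin m) (hij : i ≠ j) (t : F) : (Fin m → F) ≃ (Fin m → F) where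
  toFun a := a - (t * a i) • Pi.single j 1
  invFun a := a + (t * a i) • Pi.single j 1
  left_inv a := by
    funext k
    simp [Pi.single_apply, hij]
  right_inv a := by
    funext k
    simp [Pi.single_apply, hij]

theorem phiEquiv_apply (i j : Fin m) (hij : i ≠ j) (t : F) (a : Fin m → F) :
    phiEquiv i j hij t a = a - (t * a i) • Pi.single j 1 := rfl

theorem phi_pairing (i j : Fin m) (hij : i ≠ j) (t : F) (a w : Fin m → F) :
    (phiEquiv i j hij t a) ⬝ᵥ (w + (t * w j) • Pi.single i 1) = a ⬝ᵥ w := by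
  rw [phiEquiv_apply, sub_dotProduct, dotProduct_add, dotProduct_add, smul_dotProduct,
    smul_dotProduct, dotProduct_smul, dotProduct_smul, single_dotProduct, single_dotProduct,
    dotProduct_single]
  simp [Pi.single_apply, hij]
  ring

variable {K' : Type*} [Field K'] {d : ℕ}

/-- The matrices representing the row group. -/
def repT (ρ' : Matrix.SpecialLinearGroup (Fin (m + 1)) F →* GL (Fin d) K') (a : Fin m → F) :
    Matrix (Fin d) (Fin d) K' :=
  ((ρ' (rowSL a) : GL (Fin d) K') : Matrix (Fin d) (Fin d) K')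

theorem repT_zero (ρ' : Matrix.SpecialLinearGroup (Fin (m + 1)) F →* GL (Fin d) K') :
    repT ρ' 0 = 1 := by
  rw [repT, rowSL_zero, map_one, Units.val_one]

theorem repT_add (ρ' : Matrix.SpecialLinearGroup (Fin (m + 1)) F →* GL (Fin d) K')
    (a b : Fin m → F) : repT ρ' (a + b) = repT ρ' a * repT ρ' b := by
  rw [repT, repT, repT, rowSL_add, map_mul, Units.val_mul]

theorem repT_conj (ρ' : Matrix.SpecialLinearGroup (Fin (m + 1)) F →* GL (Fin d) K')
    (i j : Fin m) (hij : i ≠ j) (t : F) (a : Fin m → F) :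
    ((ρ' (tvSL i j hij t) : GL (Fin d) K') : Matrix (Fin d) (Fin d) K') * repT ρ' a
        * ((ρ' (tvSL i j hij t)⁻¹ : GL (Fin d) K') : Matrix (Fin d) (Fin d) K')
      = repT ρ' (phiEquiv i j hij t a) := by
  rw [repT, repT, ← Units.val_mul, ← Units.val_mul, ← map_mul, ← map_mul, tvSL_conj,
    phiEquiv_apply]

theorem weight_closure [Fintype F] [DecidableEq F]
    (ρ' : Matrix.SpecialLinearGroup (Fin (m + 1)) F →* GL (Fin d) K') (ψ : AddChar F K')
    (w : Fin m → F) (hw : weightProj ψ (repT ρ') w ≠ 0) (i j : Fin m) (hij : i ≠ j) (t : F) :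
    weightProj ψ (repT ρ') (w + (t * w j) • Pi.single i (1 : F)) ≠ 0 := by
  have hgg' : ((ρ' (tvSL i j hij t)⁻¹ : GL (Fin d) K') : Matrix (Fin d) (Fin d) K')
      * ((ρ' (tvSL i j hij t) : GL (Fin d) K') : Matrix (Fin d) (Fin d) K') = 1 := by
    rw [← Units.val_mul, ← map_mul, inv_mul_cancel, map_one, Units.val_one]
  have key := weightProj_ne_zero_of_conj (ψ := ψ) (T := repT ρ')
    ((ρ' (tvSL i j hij t) : GL (Fin d) K') : Matrix (Fin d) (Fin d) K')
    ((ρ' (tvSL i j hij t)⁻¹ : GL (Fin d) K') : Matrix (Fin d) (Fin d) K') hgg'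
    (phiEquiv i j hij t)
    (fun w => w + (t * w j) • Pi.single i (1 : F))
    (phi_pairing i j hij t) (repT_conj ρ' i j hij t) w hw
  exact key

end aux

/-- A lower bound for representations in cross characteristic: for `n ≥ 3` and a field `F` with `q` elements, every homomorphism from `SL_n(F)` to `GL_d(K)`, `K` a field of characteristic different from that of `F`, whose kernel is central has `d ≥ q^(n-1) - 1`. -/
theorem result {F : Type*} [Field F] [Fintype F] {q : ℕ} (hq : Fintype.card F = q) (n : ℕ) (hn : 3 ≤ n)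
    {K : Type*} [Field K] (hK : ringChar K ≠ ringChar F) {d : ℕ}
    (ρ : Matrix.SpecialLinearGroup (Fin n) F →* GL (Fin d) K) (hker : ρ.ker ≤ Subgroup.center (Matrix.SpecialLinearGroup (Fin n) F)) :
    q ^ (n - 1) - 1 ≤ d := by
  classical
  subst hq
  obtain ⟨m, rfl⟩ : ∃ m, n = m + 1 := ⟨n - 1, by omega⟩
  have hm2 : 2 ≤ m := by omega
  rw [Nat.add_sub_cancel]
  -- the primitive additive character
  let P := AddChar.FiniteField.primitiveChar F K hK
  let K' := CyclotomicField P.n K
  let ψ : AddChar F K' := P.char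
  have hψ : ψ.IsPrimitive := P.prim
  have hinj : Function.Injective (algebraMap K K') := (algebraMap K K').injective
  let ρ' : Matrix.SpecialLinearGroup (Fin (m + 1)) F →* GL (Fin d) K' :=
    (Matrix.GeneralLinearGroup.map (algebraMap K K')).comp ρ
  have hker' : ∀ g, ρ' g = 1 → g ∈ Subgroup.center (Matrix.SpecialLinearGroup (Fin (m + 1)) F) := by
    intro g hg
    apply hker
    rw [MonoidHom.mem_ker]
    apply Units.ext
    ext i j
    have h1 := congrArg (fun x : GL (Fin d) K' => (x : Matrix (Fin d) (Fin d) K') i j) hg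
    simp only [ρ', MonoidHom.comp_apply, Matrix.GeneralLinearGroup.map_apply, Units.val_one] at h1
    apply hinj
    rw [h1]
    by_cases hij : i = j
    · subst hij; simp
    · simp [hij]
  -- the representation of the row group
  have hT0 : repT ρ' 0 = 1 := repT_zero ρ'
  have hTadd : ∀ a b, repT ρ' (a + b) = repT ρ' a * repT ρ' b := repT_add ρ'
  -- the cardinality is invertible
  have hN : (Fintype.card (Fin m → F) : K') ≠ 0 := by
    obtain ⟨p, hp⟩ := CharP.exists F
    have hpp : p.Prime := CharP.char_is_prime F p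
    haveI : Fact p.Prime := ⟨hpp⟩
    obtain ⟨f, _, hf⟩ := FiniteField.card F p
    have hpF : ringChar F = p := ringChar.eq F p
    have hpK : ((p : ℕ) : K) ≠ 0 := by
      intro h0
      have h1 : ringChar K ∣ p := (ringChar.spec K p).1 h0
      rcases (Nat.dvd_prime hpp).1 h1 with h2 | h2
      · have := CharP.ringChar_ne_one (R := K)
        exact this h2
      · exact hK (h2.trans hpF.symm)
    have hpK' : ((p : ℕ) : K') ≠ 0 := by
      have : ((p : ℕ) : K') = algebraMap K K' ((p : ℕ) : K) := by simp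
      rw [this]
      exact fun h => hpK (hinj (by rw [h, map_zero]))
    rw [Fintype.card_fun, Fintype.card_fin, hf]
    push_cast
    exact pow_ne_zero _ (pow_ne_zero _ hpK')
  -- the set of weights
  let S : Set (Fin m → F) := {w | weightProj ψ (repT ρ') w ≠ 0}
  -- closure under elementary moves
  have hcl : ∀ w ∈ S, ∀ i j : Fin m, i ≠ j → ∀ t : F, w + (t * w j) • Pi.single i (1 : F) ∈ S :=
    fun w hw i j hij t => weight_closure ρ' ψ w hw i j hij t
  -- a non-zero weight exists
  have hex : ∃ w₀ : Fin m → F, w₀ ∈ S ∧ w₀ ≠ 0 := by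
    by_contra hcon
    push Not at hcon
    have hzero : ∀ w : Fin m → F, w ≠ 0 → weightProj ψ (repT ρ') w = 0 := by
      intro w hw
      by_contra h
      exact hw (hcon w h)
    have hsum := sum_weightProj hψ hT0 hN
    rw [Finset.sum_eq_single (0 : Fin m → F) (fun w _ hw => hzero w hw)
      (fun h => absurd (Finset.mem_univ _) h)] at hsum
    let a : Fin m → F := Pi.single ⟨0, by omega⟩ 1
    have hTa : repT ρ' a = 1 := by
      have := T_mul_weightProj (ψ := ψ) hTadd a 0
      rw [hsum, Matrix.mul_one, dotProduct_zero, AddChar.map_zero_eq_one, one_smul] at this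
      exact this
    have hmem := hker' (rowSL a) (Units.ext hTa)
    rw [Matrix.SpecialLinearGroup.mem_center_iff] at hmem
    obtain ⟨r, _, hr⟩ := hmem
    have h1 := congrArg (fun M : Matrix (Fin (m + 1)) (Fin (m + 1)) F => M 0 (Fin.succ ⟨0, by omega⟩)) hr
    simp only [rowSL] at h1
    rw [rowU_apply_zero_succ] at h1
    simp [a, Matrix.scalar_apply, Fin.succ_ne_zero, Matrix.diagonal_apply, eq_comm] at h1
  obtain ⟨w₀, hw₀S, hw₀0⟩ := hex
  have h2 : ∀ i : Fin m, ∃ j : Fin m, j ≠ i := by
    intro i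
    by_cases hi : i = ⟨0, by omega⟩
    · exact ⟨⟨1, by omega⟩, by rw [hi]; simp [Fin.ext_iff]⟩
    · exact ⟨⟨0, by omega⟩, fun h => hi h.symm⟩
  have hall : ∀ v : Fin m → F, v ≠ 0 → weightProj ψ (repT ρ') v ≠ 0 :=
    fun v hv => mem_of_closed_elementary S hcl h2 w₀ hw₀S hw₀0 v hv
  have hcard := card_weights_le hψ hTadd hN (Finset.univ.filter (fun v : Fin m → F => v ≠ 0))
    (fun w hw => hall w (Finset.mem_filter.1 hw).2)
  have hc : (Finset.univ.filter (fun v : Fin m → F => v ≠ 0)).card = Fintype.card F ^ m - 1 := by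
    rw [Finset.filter_ne' Finset.univ (0 : Fin m → F), Finset.card_erase_of_mem (Finset.mem_univ _),
      Finset.card_univ, Fintype.card_fun, Fintype.card_fin]
  rw [hc] at hcard
  exact hcard

end Cfsg.Agent.S2392
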