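import Cfsg.Statements.S2393
import Cfsg.Agent.Lib.Helper46.Weights
import Cfsg.Agent.Lib.Helper46.Weights2
import Cfsg.Agent.Lib.Helper46.SpUnip

set_option autoImplicit false
open scoped MatrixGroups
open Cfsg

namespace Cfsg.Agent.S2393

open Cfsg.Agent.Lib.Helper46 Matrix

section aux

variable {F : Type*} [Field F] {k : ℕ}

/-- `upU b` as an element of `Sp`. -/
def upSp (b : Fin (k + 1) → F) : ↥(Matrix.symplecticGroup (Fin (k + 1)) F) :=
  ⟨upU b, upU_mem b⟩

theorem upSp_zero : upSp (0 : Fin (k + 1) → F) = 1 := by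
  apply Subtype.ext
  exact upU_zero

theorem upSp_add (b b' : Fin (k + 1) → F) : upSp (b + b') = upSp b * upSp b' := by
  apply Subtype.ext
  exact upU_add b b'

/-- `diag(g, g⁻ᵀ)` as an element of `Sp`. -/
def hypSp (g : Matrix.GeneralLinearGroup (Fin (k + 1)) F) :
    ↥(Matrix.symplecticGroup (Fin (k + 1)) F) :=
  ⟨hypHom g, hypHom_mem_symplectic g⟩

theorem hypSp_inv (g : Matrix.GeneralLinearGroup (Fin (k + 1)) F) :
    (hypSp g)⁻¹ = hypSp g⁻¹ := by
  rw [inv_eq_iff_mul_eq_one]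
  apply Subtype.ext
  change hypHom g * hypHom g⁻¹ = 1
  rw [← map_mul, mul_inv_cancel, map_one]

theorem hypSp_conj (g : Matrix.GeneralLinearGroup (Fin (k + 1)) F) (c : F)
    (hg : (g : Matrix (Fin (k + 1)) (Fin (k + 1)) F) *ᵥ Pi.single 0 1 = c • Pi.single 0 1)
    (b : Fin (k + 1) → F) :
    hypSp g * upSp b * (hypSp g)⁻¹
      = upSp (c • (g : Matrix (Fin (k + 1)) (Fin (k + 1)) F) *ᵥ b) := by
  rw [hypSp_inv]
  apply Subtype.ext
  exact hypHom_conj_upU g c hg b

/-- The map on parameters induced by conjugation. -/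
def phiEquiv (g : Matrix.GeneralLinearGroup (Fin (k + 1)) F) (c : F) (hc : c ≠ 0) :
    (Fin (k + 1) → F) ≃ (Fin (k + 1) → F) where
  toFun b := c • (g : Matrix (Fin (k + 1)) (Fin (k + 1)) F) *ᵥ b
  invFun b := c⁻¹ • ((g⁻¹ : Matrix.GeneralLinearGroup (Fin (k + 1)) F) :
    Matrix (Fin (k + 1)) (Fin (k + 1)) F) *ᵥ b
  left_inv b := by
    simp only
    rw [Matrix.mulVec_smul, Matrix.mulVec_mulVec, ← Units.val_mul, inv_mul_cancel, Units.val_one,
      Matrix.one_mulVec, smul_smul, inv_mul_cancel₀ hc, one_smul]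
  right_inv b := by
    simp only
    rw [Matrix.mulVec_smul, Matrix.mulVec_mulVec, ← Units.val_mul, mul_inv_cancel, Units.val_one,
      Matrix.one_mulVec, smul_smul, mul_inv_cancel₀ hc, one_smul]

theorem phiEquiv_apply (g : Matrix.GeneralLinearGroup (Fin (k + 1)) F) (c : F) (hc : c ≠ 0)
    (b : Fin (k + 1) → F) :
    phiEquiv g c hc b = c • (g : Matrix (Fin (k + 1)) (Fin (k + 1)) F) *ᵥ b := rfl

/-- The dual map on weights. -/
def phiDual (g : Matrix.GeneralLinearGroup (Fin (k + 1)) F) (c : F) (w : Fin (k + 1) → F) :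
    Fin (k + 1) → F :=
  c⁻¹ • ((g⁻¹ : Matrix.GeneralLinearGroup (Fin (k + 1)) F) :
    Matrix (Fin (k + 1)) (Fin (k + 1)) F)ᵀ *ᵥ w

theorem phi_pairing (g : Matrix.GeneralLinearGroup (Fin (k + 1)) F) (c : F) (hc : c ≠ 0)
    (b w : Fin (k + 1) → F) : (phiEquiv g c hc b) ⬝ᵥ (phiDual g c w) = b ⬝ᵥ w := by
  rw [phiEquiv_apply, phiDual, smul_dotProduct, dotProduct_smul, smul_smul, mul_inv_cancel₀ hc,
    one_smul, dotProduct_mulVec, vecMul_transpose, Matrix.mulVec_mulVec, ← Units.val_mul,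
    inv_mul_cancel, Units.val_one, Matrix.one_mulVec]

variable {K' : Type*} [Field K'] {d : ℕ}

/-- The matrices representing the unipotent group. -/
def repT (ρ' : ↥(Matrix.symplecticGroup (Fin (k + 1)) F) →* GL (Fin d) K')
    (b : Fin (k + 1) → F) : Matrix (Fin d) (Fin d) K' :=
  ((ρ' (upSp b) : GL (Fin d) K') : Matrix (Fin d) (Fin d) K')

theorem repT_zero (ρ' : ↥(Matrix.symplecticGroup (Fin (k + 1)) F) →* GL (Fin d) K') :
    repT ρ' 0 = 1 := by
  rw [repT, upSp_zero, map_one, Units.val_one]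

theorem repT_add (ρ' : ↥(Matrix.symplecticGroup (Fin (k + 1)) F) →* GL (Fin d) K')
    (a b : Fin (k + 1) → F) : repT ρ' (a + b) = repT ρ' a * repT ρ' b := by
  rw [repT, repT, repT, upSp_add, map_mul, Units.val_mul]

theorem repT_conj (ρ' : ↥(Matrix.symplecticGroup (Fin (k + 1)) F) →* GL (Fin d) K')
    (g : Matrix.GeneralLinearGroup (Fin (k + 1)) F) (c : F) (hc : c ≠ 0)
    (hg : (g : Matrix (Fin (k + 1)) (Fin (k + 1)) F) *ᵥ Pi.single 0 1 = c • Pi.single 0 1)
    (b : Fin (k + 1) → F) :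
    ((ρ' (hypSp g) : GL (Fin d) K') : Matrix (Fin d) (Fin d) K') * repT ρ' b
        * ((ρ' (hypSp g)⁻¹ : GL (Fin d) K') : Matrix (Fin d) (Fin d) K')
      = repT ρ' (phiEquiv g c hc b) := by
  rw [repT, repT, ← Units.val_mul, ← Units.val_mul, ← map_mul, ← map_mul, hypSp_conj g c hg,
    phiEquiv_apply]

theorem weight_move [Fintype F] [DecidableEq F]
    (ρ' : ↥(Matrix.symplecticGroup (Fin (k + 1)) F) →* GL (Fin d) K') (ψ : AddChar F K')
    (g : Matrix.GeneralLinearGroup (Fin (k + 1)) F) (c : F) (hc : c ≠ 0)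
    (hg : (g : Matrix (Fin (k + 1)) (Fin (k + 1)) F) *ᵥ Pi.single 0 1 = c • Pi.single 0 1)
    (w : Fin (k + 1) → F) (hw : weightProj ψ (repT ρ') w ≠ 0) :
    weightProj ψ (repT ρ') (phiDual g c w) ≠ 0 := by
  have hgg' : ((ρ' (hypSp g)⁻¹ : GL (Fin d) K') : Matrix (Fin d) (Fin d) K')
      * ((ρ' (hypSp g) : GL (Fin d) K') : Matrix (Fin d) (Fin d) K') = 1 := by
    rw [← Units.val_mul, ← map_mul, inv_mul_cancel, map_one, Units.val_one]
  have key := weightProj_ne_zero_of_conj (ψ := ψ) (T := repT ρ')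
    ((ρ' (hypSp g) : GL (Fin d) K') : Matrix (Fin d) (Fin d) K')
    ((ρ' (hypSp g)⁻¹ : GL (Fin d) K') : Matrix (Fin d) (Fin d) K') hgg'
    (phiEquiv g c hc) (phiDual g c) (phi_pairing g c hc) (repT_conj ρ' g c hc hg) w hw
  exact key

/-- The elementary matrix `1 + t E_{0j}` in `GL`. -/
def tvGL (j : Fin (k + 1)) (hj : j ≠ 0) (t : F) : Matrix.GeneralLinearGroup (Fin (k + 1)) F :=
  ⟨transvection 0 j t, transvection 0 j (-t),
    by rw [transvection_mul_transvection_same _ _ (Ne.symm hj), add_neg_cancel, transvection_zero],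
    by rw [transvection_mul_transvection_same _ _ (Ne.symm hj), neg_add_cancel, transvection_zero]⟩

theorem tvGL_fix (j : Fin (k + 1)) (hj : j ≠ 0) (t : F) :
    ((tvGL j hj t : Matrix.GeneralLinearGroup (Fin (k + 1)) F) :
      Matrix (Fin (k + 1)) (Fin (k + 1)) F) *ᵥ Pi.single 0 1 = (1 : F) • Pi.single 0 1 := by
  change transvection 0 j t *ᵥ Pi.single 0 1 = (1 : F) • Pi.single 0 1
  rw [transvection, Matrix.add_mulVec, Matrix.one_mulVec, single_mulVec, one_smul]
  simp [hj]

theorem tvGL_dual (j : Fin (k + 1)) (hj : j ≠ 0) (t : F) (w : Fin (k + 1) → F) :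
    phiDual (tvGL j hj t) 1 w = Function.update w j (w j - t * w 0) := by
  rw [phiDual]
  change (1 : F)⁻¹ • (transvection 0 j (-t))ᵀ *ᵥ w = _
  rw [inv_one, one_smul, transvection, transpose_add, transpose_one, transpose_single,
    Matrix.add_mulVec, Matrix.one_mulVec, single_mulVec]
  funext i
  by_cases hi : i = j
  · subst hi; simp; ring
  · simp [hi]

/-- The diagonal matrix `diag(c, 1, …, 1)` in `GL`. -/
def dgGL (c : F) (hc : c ≠ 0) : Matrix.GeneralLinearGroup (Fin (k + 1)) F :=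
  ⟨diagonal (Function.update 1 0 c), diagonal (Function.update 1 0 c⁻¹),
    by
      rw [diagonal_mul_diagonal, ← diagonal_one]
      congr 1
      funext i
      by_cases hi : i = 0
      · subst hi; simp [hc]
      · simp [hi],
    by
      rw [diagonal_mul_diagonal, ← diagonal_one]
      congr 1
      funext i
      by_cases hi : i = 0
      · subst hi; simp [hc]
      · simp [hi]⟩

theorem dgGL_fix (c : F) (hc : c ≠ 0) :
    ((dgGL c hc : Matrix.GeneralLinearGroup (Fin (k + 1)) F) :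
      Matrix (Fin (k + 1)) (Fin (k + 1)) F) *ᵥ Pi.single 0 1 = c • Pi.single 0 1 := by
  change diagonal (Function.update 1 0 c) *ᵥ Pi.single 0 1 = c • Pi.single 0 1
  funext i
  rw [mulVec_diagonal]
  by_cases hi : i = 0
  · subst hi; simp
  · simp [hi]

theorem dgGL_dual_zero (c : F) (hc : c ≠ 0) (w : Fin (k + 1) → F) :
    phiDual (dgGL (k := k) c hc) c w 0 = (c⁻¹) ^ 2 * w 0 := by
  rw [phiDual]
  change (c⁻¹ • (diagonal (Function.update 1 0 c⁻¹))ᵀ *ᵥ w) 0 = _
  rw [diagonal_transpose, Pi.smul_apply, mulVec_diagonal]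
  simp
  ring

end aux

/-- A lower bound for representations in cross characteristic: for `n ≥ 2` and a field `F` with `q` elements, `q` odd, every homomorphism from the symplectic group `Sp_{2n}(F)` to `GL_d(K)`, `K` a field of characteristic different from that of `F`, whose kernel is central has `d ≥ q^(n-1)(q-1)/2`. -/
theorem result {F : Type*} [Field F] [Fintype F] {q : ℕ} (hq : Fintype.card F = q) (hodd : Odd q) (n : ℕ) (hn : 2 ≤ n)
    {K : Type*} [Field K] (hK : ringChar K ≠ ringChar F) {d : ℕ}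
    (ρ : ↥(Matrix.symplecticGroup (Fin n) F) →* GL (Fin d) K) (hker : ρ.ker ≤ Subgroup.center ↥(Matrix.symplecticGroup (Fin n) F)) :
    q ^ (n - 1) * (q - 1) / 2 ≤ d := by
  classical
  subst hq
  obtain ⟨k, rfl⟩ : ∃ k, n = k + 1 := ⟨n - 1, by omega⟩
  have hk1 : 1 ≤ k := by omega
  rw [Nat.add_sub_cancel]
  have h2F : (2 : F) ≠ 0 := by
    apply Ring.two_ne_zero
    intro h
    rw [FiniteField.even_card_iff_char_two] at h
    rcases hodd with ⟨r, hr⟩
    omega
  -- the primitive additive character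
  let P := AddChar.FiniteField.primitiveChar F K hK
  let K' := CyclotomicField P.n K
  let ψ : AddChar F K' := P.char
  have hψ : ψ.IsPrimitive := P.prim
  have hinj : Function.Injective (algebraMap K K') := (algebraMap K K').injective
  let ρ' : ↥(Matrix.symplecticGroup (Fin (k + 1)) F) →* GL (Fin d) K' :=
    (Matrix.GeneralLinearGroup.map (algebraMap K K')).comp ρ
  have hker' : ∀ g, ρ' g = 1 → g ∈ Subgroup.center ↥(Matrix.symplecticGroup (Fin (k + 1)) F) := by
    intro g hg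
    apply hker
    rw [MonoidHom.mem_ker]
    apply Units.ext
    ext i j
    have h1 := congrArg (fun x : GL (Fin d) K' => (x : Matrix (Fin d) (Fin d) K') i j) hg
    simp only [ρ', MonoidHom.comp_apply, Matrix.GeneralLinearGroup.map_apply, Units.val_one] at h1
    apply hinj
    rw [h1]
    by_cases hij : i = j
    · subst hij; simp
    · simp [hij]
  have hT0 : repT ρ' 0 = 1 := repT_zero ρ'
  have hTadd : ∀ a b, repT ρ' (a + b) = repT ρ' a * repT ρ' b := repT_add ρ'
  -- the cardinality is invertible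
  have hN : (Fintype.card (Fin (k + 1) → F) : K') ≠ 0 := by
    obtain ⟨p, hp⟩ := CharP.exists F
    have hpp : p.Prime := CharP.char_is_prime F p
    have : Fact p.Prime := ⟨hpp⟩
    obtain ⟨f, _, hf⟩ := FiniteField.card F p
    have hpF : ringChar F = p := ringChar.eq F p
    have hpK : ((p : ℕ) : K) ≠ 0 := by
      intro h0
      have h1 : ringChar K ∣ p := (ringChar.spec K p).1 h0
      rcases (Nat.dvd_prime hpp).1 h1 with h2 | h2
      · have := CharP.ringChar_ne_one (R := K)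
        exact this h2
      · exact hK (h2.trans hpF.symm)
    have hpK' : ((p : ℕ) : K') ≠ 0 := by
      have : ((p : ℕ) : K') = algebraMap K K' ((p : ℕ) : K) := by simp
      rw [this]
      exact fun h => hpK (hinj (by rw [h, map_zero]))
    rw [Fintype.card_fun, Fintype.card_fin, hf]
    push_cast
    exact pow_ne_zero _ (pow_ne_zero _ hpK')
  -- the set of weights
  let S : Set (Fin (k + 1) → F) := {w | weightProj ψ (repT ρ') w ≠ 0}
  -- a weight with non-zero first coordinate exists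
  have hex : ∃ w₀ : Fin (k + 1) → F, w₀ ∈ S ∧ w₀ 0 ≠ 0 := by
    by_contra hcon
    push Not at hcon
    have hzero : ∀ w : Fin (k + 1) → F, w 0 ≠ 0 → weightProj ψ (repT ρ') w = 0 := by
      intro w hw
      by_contra h
      exact hw (hcon w h)
    let b : Fin (k + 1) → F := Pi.single 0 1
    have hTb : repT ρ' b = 1 := by
      have hsum := sum_weightProj hψ hT0 hN
      have h1 : repT ρ' b = ∑ w : Fin (k + 1) → F, repT ρ' b * weightProj ψ (repT ρ') w := by
        rw [← Finset.mul_sum, hsum, Matrix.mul_one]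
      rw [h1, ← hsum]
      apply Finset.sum_congr rfl
      intro w _
      rw [T_mul_weightProj (ψ := ψ) hTadd]
      by_cases hw : w 0 = 0
      · have : b ⬝ᵥ w = 0 := by simp [b, hw]
        rw [this, AddChar.map_zero_eq_one, one_smul]
      · rw [hzero w hw, smul_zero]
    have hmem := hker' (upSp b) (Units.ext hTb)
    rcases Cfsg.Agent.Lib.Helper07.center_val_eq _ hmem with h | h
    · have h1 := congrArg (fun M : Matrix (Fin (k + 1) ⊕ Fin (k + 1)) (Fin (k + 1) ⊕ Fin (k + 1)) F =>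
        M (Sum.inl 0) (Sum.inr 0)) h
      simp only [upSp, upU, fromBlocks_apply₁₂] at h1
      rw [symRow_apply_zero_zero] at h1
      simp [b] at h1
      exact h2F h1
    · have h1 := congrArg (fun M : Matrix (Fin (k + 1) ⊕ Fin (k + 1)) (Fin (k + 1) ⊕ Fin (k + 1)) F =>
        M (Sum.inl 0) (Sum.inl 0)) h
      simp only [upSp, upU, fromBlocks_apply₁₁] at h1
      simp at h1
      have : (2 : F) = 0 := by linear_combination h1
      exact h2F this
  obtain ⟨w₀, hw₀S, hw₀0⟩ := hex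
  -- pivot steps
  have hstep : ∀ w ∈ S, w 0 ≠ 0 → ∀ i : Fin (k + 1), i ≠ 0 → ∀ c : F, Function.update w i c ∈ S := by
    intro w hw hw0 i hi c
    have h1 := weight_move ρ' ψ (tvGL i hi ((w i - c) / w 0)) 1 one_ne_zero (tvGL_fix i hi _) w hw
    rw [tvGL_dual, div_mul_cancel₀ _ hw0, sub_sub_cancel] at h1
    exact h1
  -- all the vectors with first coordinate `μ² β`
  have hall : ∀ v : Fin (k + 1) → F, (∃ μ : F, μ ≠ 0 ∧ v 0 = μ ^ 2 * w₀ 0) →
      weightProj ψ (repT ρ') v ≠ 0 := by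
    rintro v ⟨μ, hμ, hv⟩
    have h1 := weight_move ρ' ψ (dgGL μ⁻¹ (inv_ne_zero hμ)) μ⁻¹ (inv_ne_zero hμ)
      (dgGL_fix _ _) w₀ hw₀S
    have h2 : phiDual (dgGL (k := k) μ⁻¹ (inv_ne_zero hμ)) μ⁻¹ w₀ 0 = μ ^ 2 * w₀ 0 := by
      rw [dgGL_dual_zero, inv_inv]
    refine reach_of_pivot S 0 hstep _ h1 ?_ v ?_
    · rw [h2]
      exact mul_ne_zero (pow_ne_zero _ hμ) hw₀0
    · rw [h2, hv]
  -- counting
  let Q : Finset F := Finset.univ.filter (fun x : F => ∃ μ : F, μ ≠ 0 ∧ x = μ ^ 2 * w₀ 0)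
  let W : Finset (Fin (k + 1) → F) :=
    Finset.univ.filter (fun v => ∃ μ : F, μ ≠ 0 ∧ v 0 = μ ^ 2 * w₀ 0)
  have hcardW := card_weights_le hψ hTadd hN W (fun w hw => hall w (Finset.mem_filter.1 hw).2)
  have hQW : Q.card * Fintype.card F ^ k ≤ W.card := by
    have h1 : (Q ×ˢ (Finset.univ : Finset (Fin k → F))).card = Q.card * Fintype.card F ^ k := by
      rw [Finset.card_product, Finset.card_univ, Fintype.card_fun, Fintype.card_fin]
    rw [← h1]
    apply Finset.card_le_card_of_injOn (fun p : F × (Fin k → F) => (Fin.cons p.1 p.2 : Fin (k + 1) → F))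
    · intro p hp
      have hp1 : p.1 ∈ Q := (Finset.mem_product.1 hp).1
      obtain ⟨μ, hμ, hx⟩ := (Finset.mem_filter.1 hp1).2
      rw [Finset.coe_filter]
      exact ⟨Finset.mem_univ _, μ, hμ, by simpa using hx⟩
    · intro p _ p' _ hpp'
      have := Fin.cons_injective2 hpp'
      exact Prod.ext this.1 this.2
  have hQ := card_sq_mul_ge (w₀ 0) hw₀0
  have hfin : Fintype.card F ^ k * (Fintype.card F - 1) ≤ 2 * d := by
    calc Fintype.card F ^ k * (Fintype.card F - 1)
        ≤ Fintype.card F ^ k * (2 * Q.card) := Nat.mul_le_mul_left _ hQ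
      _ = 2 * (Q.card * Fintype.card F ^ k) := by ring
      _ ≤ 2 * d := Nat.mul_le_mul_left _ (le_trans hQW hcardW)
  omega

end Cfsg.Agent.S2393
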