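import Cfsg.Statements.S2394
import Cfsg.Agent.S2904
import Cfsg.Agent.S0245

set_option autoImplicit false
open scoped MatrixGroups
open Cfsg

namespace Cfsg.Agent.S2394

/-- A prime dividing `|GL_d(q)|` and not `q` divides some `q^k - 1` with `1 ≤ k ≤ d`. -/
theorem exists_dvd_pow_sub_one (q d r : ℕ) (hr : r.Prime) (hrq : ¬ r ∣ q)
    (h : r ∣ ∏ i : Fin d, (q ^ d - q ^ (i : ℕ))) :
    ∃ k, 0 < k ∧ k ≤ d ∧ r ∣ q ^ k - 1 := by
  obtain ⟨i, _, hi⟩ := (Prime.dvd_finsetProd_iff (Nat.Prime.prime hr) _).1 h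
  have hid : (i : ℕ) < d := i.2
  have h1 : q ^ d - q ^ (i : ℕ) = q ^ (i : ℕ) * (q ^ (d - i) - 1) := by
    rw [Nat.mul_sub, mul_one, ← pow_add]
    congr 2
    omega
  rw [h1] at hi
  rcases (Nat.Prime.dvd_mul hr).1 hi with h2 | h2
  · exact absurd (hr.dvd_of_dvd_pow h2) hrq
  · exact ⟨d - i, by omega, by omega, h2⟩

/-- The smallest degree of a faithful representation of the symplectic group `Sp_{2n}(q)` over its own field `F_q` is `2n`: every injective homomorphism from `Sp_{2n}(F)` to `GL_d(F)`, `F` the field with `q` elements, has `d ≥ 2n`. -/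
theorem result {F : Type*} [Field F] [Fintype F] (n : ℕ) {d : ℕ}
    (ρ : ↥(Matrix.symplecticGroup (Fin n) F) →* GL (Fin d) F) (hρ : Function.Injective ρ) : 2 * n ≤ d := by
  classical
  set q := Fintype.card F with hq
  have hq2 : 2 ≤ q := Fintype.one_lt_card
  have hdvd : Nat.card ↥(Matrix.symplecticGroup (Fin n) F) ∣ Nat.card (GL (Fin d) F) :=
    Subgroup.card_dvd_of_injective ρ hρ
  rw [Cfsg.Agent.S0245.result (F := F) rfl n, Matrix.card_GL_field, ← hq] at hdvd
  rcases Nat.eq_zero_or_pos n with hn0 | hnpos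
  · omega
  have hfac : q ^ (2 * n) - 1 ∣ q ^ (n ^ 2) * ∏ i ∈ Finset.range n, (q ^ (2 * (i + 1)) - 1) := by
    apply Dvd.dvd.mul_left
    have : q ^ (2 * n) - 1 = q ^ (2 * ((n - 1) + 1)) - 1 := by
      congr 3; omega
    rw [this]
    exact Finset.dvd_prod_of_mem _ (Finset.mem_range.2 (by omega))
  by_cases hn1 : n = 1
  · -- order comparison
    subst hn1
    by_contra hlt
    push Not at hlt
    have hle := Nat.le_of_dvd (by
      apply Finset.prod_pos
      intro i _
      have : q ^ (i : ℕ) < q ^ d := Nat.pow_lt_pow_right (by omega) i.2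
      omega) hdvd
    have hd : d = 0 ∨ d = 1 := by omega
    have h4 : 4 ≤ q ^ 2 := by nlinarith
    have h3 : 3 ≤ q ^ 2 - 1 := by omega
    have h5 : q * 3 ≤ q * (q ^ 2 - 1) := Nat.mul_le_mul_left q h3
    rcases hd with rfl | rfl
    · simp at hle
      omega
    · simp at hle
      omega
  by_cases h6 : q = 2 ∧ n = 3
  · obtain ⟨hq2', rfl⟩ := h6
    rw [hq2'] at hdvd
    by_contra hlt
    push Not at hlt
    have h81 : 81 ∣ 2 ^ (3 ^ 2) * ∏ i ∈ Finset.range 3, (2 ^ (2 * (i + 1)) - 1) := by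
      decide
    have h81' := dvd_trans h81 hdvd
    interval_cases d <;> revert h81' <;> decide
  · -- Zsigmondy
    obtain ⟨r, hr, hr1, hr2⟩ := Cfsg.Agent.S2904.result q (2 * n) (by omega) (by omega)
      (by
        rintro ⟨h1, h2⟩
        exact h6 ⟨h1, by omega⟩)
      (by
        rintro ⟨h1, _⟩
        omega)
    have hrq : ¬ r ∣ q := by
      intro h
      have h1 : r ∣ q ^ (2 * n) := dvd_pow h (by omega)
      have h2 : 1 ≤ q ^ (2 * n) := Nat.one_le_pow _ _ (by omega)
      have h3 : r ∣ 1 := by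
        have := (Nat.dvd_sub h1 hr1)
        rwa [Nat.sub_sub_self h2] at this
      exact hr.one_lt.ne' (Nat.dvd_one.1 h3)
    obtain ⟨k, hk0, hkd, hk⟩ := exists_dvd_pow_sub_one q d r hr hrq
      (dvd_trans (dvd_trans hr1 hfac) hdvd)
    by_contra hlt
    push Not at hlt
    exact hr2 k hk0 (by omega) hk

end Cfsg.Agent.S2394
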