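import Cfsg.Statements.S2395
import Mathlib

set_option autoImplicit false
open Cfsg

namespace Cfsg.Agent.S2395

open Cfsg.Lie

section framework

variable (D : ChevalleyDatum) (K : Type*) [Field K]

/-- The image of the generator `x̄_r(t)` in the abelianization. -/
noncomputable def y (r : ℕ) (t : K) : Abelianization (D.SteinbergCover K) :=
  Abelianization.of (D.scGen K r t)

theorem y_add {r : ℕ} (hr : r < D.nroots) (t₁ t₂ : K) :
    y D K r (t₁ + t₂) = y D K r t₁ * y D K r t₂ := by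
  have hmem : D.stX r t₁ * D.stX r t₂ * (D.stX r (t₁ + t₂))⁻¹ ∈ D.steinbergRelsAB K :=
    Or.inl ⟨r, t₁, t₂, hr, rfl⟩
  have h1 := PresentedGroup.one_of_mem hmem
  rw [map_mul, map_mul, map_inv, mul_inv_eq_one] at h1
  unfold y ChevalleyDatum.scGen
  rw [← map_mul]
  exact congrArg _ h1.symm

theorem y_zero {r : ℕ} (hr : r < D.nroots) : y D K r 0 = 1 := by
  have := y_add D K hr 0 0
  rw [add_zero] at this
  exact (mul_eq_left.1 this.symm)

theorem y_neg {r : ℕ} (hr : r < D.nroots) (t : K) : y D K r (-t) = (y D K r t)⁻¹ := by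
  have := y_add D K hr t (-t)
  rw [add_neg_cancel, y_zero D K hr] at this
  exact eq_inv_of_mul_eq_one_right this.symm

theorem y_sub {r : ℕ} (hr : r < D.nroots) (t₁ t₂ : K) :
    y D K r (t₁ - t₂) = y D K r t₁ * (y D K r t₂)⁻¹ := by
  rw [sub_eq_add_neg, y_add D K hr, y_neg D K hr]

theorem y_word (w : List (ℕ × K)) :
    Abelianization.of (PresentedGroup.mk (D.steinbergRelsAB K) (D.stWord w)) =
      (w.map fun p => y D K p.1 p.2).prod := by
  unfold ChevalleyDatum.stWord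
  rw [map_list_prod, map_list_prod, List.map_map, List.map_map]
  rfl

theorem y_rel {r s : ℕ} (hr : r < D.nroots) (hs : s < D.nroots) (hsr : s ≠ r) (hsn : s ≠ D.neg r)
    (t u : K) : ((D.commWord K r s t u).map fun p => y D K p.1 p.2).prod = 1 := by
  have hmem : (D.stX s u)⁻¹ * (D.stX r t)⁻¹ * D.stX s u * D.stX r t *
      (D.stWord (D.commWord K r s t u))⁻¹ ∈ D.steinbergRelsAB K :=
    Or.inr ⟨r, s, t, u, hr, hs, hsr, hsn, rfl⟩
  have h1 := congrArg (Abelianization.of) (PresentedGroup.one_of_mem hmem)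
  simp only [map_mul, map_inv, map_one] at h1
  rw [y_word] at h1
  set a := Abelianization.of (PresentedGroup.mk (D.steinbergRelsAB K) (D.stX s u))
  set b := Abelianization.of (PresentedGroup.mk (D.steinbergRelsAB K) (D.stX r t))
  have hab : a⁻¹ * b⁻¹ * a * b = 1 := by
    rw [mul_assoc (a⁻¹ * b⁻¹), mul_mul_mul_comm, inv_mul_cancel, inv_mul_cancel, one_mul]
  rw [hab, one_mul, inv_eq_one] at h1
  exact h1

/-- A certificate that `x̄_g(t)` is a single commutator. -/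
def Good (g r s : ℕ) (c : ℤ) : Prop :=
  r < D.nroots ∧ s < D.nroots ∧ s ≠ r ∧ s ≠ D.neg r ∧ (c = 1 ∨ c = -1) ∧
    D.commTerms r s = [(g, c, 1, 1)]

instance (g r s : ℕ) (c : ℤ) : Decidable (Good D g r s c) := by
  unfold Good
  infer_instance

theorem y_eq_one_of_good {g r s : ℕ} {c : ℤ} (h : Good D g r s c) (t : K) : y D K g t = 1 := by
  obtain ⟨hr, hs, hsr, hsn, hc, hterms⟩ := h
  have h1 := y_rel D K hr hs hsr hsn (-(c : K) * t) 1
  unfold ChevalleyDatum.commWord at h1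
  rw [hterms] at h1
  simp only [List.map_cons, List.map_nil, List.prod_cons, List.prod_nil, mul_one, pow_one, neg_mul,
    neg_neg] at h1
  have hcc : (c : K) * ((c : K) * t) = t := by
    rcases hc with rfl | rfl <;> simp
  rw [hcc] at h1
  exact h1

theorem perfect_of_gens (h : ∀ g < D.nroots, ∀ t : K, y D K g t = 1) :
    commutator (D.SteinbergCover K) = ⊤ := by
  have hhom : (Abelianization.of : D.SteinbergCover K →* Abelianization (D.SteinbergCover K)) = 1 := by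
    apply PresentedGroup.ext
    rintro ⟨⟨r, hr⟩, t⟩
    have := h r hr t
    unfold y ChevalleyDatum.scGen ChevalleyDatum.stX at this
    rw [dif_pos hr] at this
    exact this
  rw [eq_top_iff]
  intro x _
  rw [← Abelianization.ker_of, MonoidHom.mem_ker, hhom]
  rfl


theorem y_eq_one_of_two_term {g1 g2 r s : ℕ} (hg2 : g2 < D.nroots)
    (hr : r < D.nroots) (hs : s < D.nroots) (hsr : s ≠ r) (hsn : s ≠ D.neg r) {c1 c2 : ℤ}
    (hc1 : c1 = 1 ∨ c1 = -1) (hc2 : c2 = 1 ∨ c2 = -1) (rest : List (ℕ × ℤ × ℕ × ℕ))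
    (hterms : D.commTerms r s = (g1, c1, 1, 1) :: (g2, c2, 2, 1) :: rest)
    (hrest : ∀ x ∈ rest, ∀ t : K, y D K x.1 t = 1) (t₀ : K) (h0 : t₀ ≠ 0) (h1 : t₀ ≠ 1) :
    (∀ t : K, y D K g1 t = 1) ∧ (∀ t : K, y D K g2 t = 1) := by
  have hE : ∀ t u : K, y D K g1 ((c1 : K) * (-t) * u) * y D K g2 ((c2 : K) * t ^ 2 * u) = 1 := by
    intro t u
    have h := y_rel D K hr hs hsr hsn t u
    unfold ChevalleyDatum.commWord at h
    rw [hterms] at h
    simp only [List.map_cons, List.prod_cons, pow_one, neg_sq] at h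
    have hrestprod : (List.map (fun p : ℕ × K => y D K p.1 p.2)
        (List.map (fun c : ℕ × ℤ × ℕ × ℕ => (c.1, (c.2.1 : K) * (-t) ^ c.2.2.1 * u ^ c.2.2.2)) rest)).prod = 1 := by
      apply List.prod_eq_one
      intro z hz
      rw [List.map_map, List.mem_map] at hz
      obtain ⟨x, hx, rfl⟩ := hz
      exact hrest x hx _
    rw [hrestprod, mul_one] at h
    exact h
  have hc2K : (c2 : K) ≠ 0 := by rcases hc2 with rfl | rfl <;> simp
  have h2 : ∀ x : K, y D K g2 x = 1 := by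
    intro x
    have hne : (c2 : K) * (t₀ ^ 2 - t₀) ≠ 0 := by
      apply mul_ne_zero hc2K
      have : t₀ ^ 2 - t₀ = t₀ * (t₀ - 1) := by ring
      rw [this]
      exact mul_ne_zero h0 (sub_ne_zero.2 h1)
    set u := x / ((c2 : K) * (t₀ ^ 2 - t₀)) with hu
    have e1 := hE t₀ u
    have e2 := hE 1 (t₀ * u)
    have harg : (c1 : K) * (-1) * (t₀ * u) = (c1 : K) * (-t₀) * u := by ring
    rw [harg] at e2
    have e3 : y D K g2 ((c2 : K) * t₀ ^ 2 * u) = y D K g2 ((c2 : K) * 1 ^ 2 * (t₀ * u)) :=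
      mul_left_cancel (e1.trans e2.symm)
    have e4 : y D K g2 ((c2 : K) * t₀ ^ 2 * u - (c2 : K) * 1 ^ 2 * (t₀ * u)) = 1 := by
      rw [y_sub D K hg2, e3, mul_inv_cancel]
    have e5 : (c2 : K) * t₀ ^ 2 * u - (c2 : K) * 1 ^ 2 * (t₀ * u) = x := by
      rw [hu]
      field_simp
    rw [e5] at e4
    exact e4
  refine ⟨?_, h2⟩
  intro x
  have e := hE (-(c1 : K) * x) 1
  rw [h2, mul_one] at e
  have : (c1 : K) * (-(-(c1 : K) * x)) * 1 = x := by
    rcases hc1 with rfl | rfl <;> simp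
  rw [this] at e
  exact e

end framework

/-! ### Certificates -/

def certsD4 : List (ℕ × ℕ × ℤ) := [(1, 9, 1), (0, 14, 1), (0, 15, -1), (0, 16, -1), (0, 17, 1), (1, 17, 1), (0, 19, -1), (0, 20, 1), (0, 21, 1), (0, 22, -1), (1, 20, -1), (1, 21, -1), (2, 22, -1), (3, 22, -1), (1, 23, -1), (2, 23, 1), (3, 23, 1), (4, 23, -1), (6, 22, 1), (6, 23, 1), (7, 23, -1), (8, 23, -1), (9, 23, 1), (14, 22, 1)]

set_option maxRecDepth 1000000 in
theorem goodD4 : ∀ g < chevD4.nroots, Good chevD4 g (certsD4.getD g (0, 0, 0)).1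
    (certsD4.getD g (0, 0, 0)).2.1 (certsD4.getD g (0, 0, 0)).2.2 := by decide

theorem gensD4 (K : Type*) [Field K] : ∀ g < chevD4.nroots, ∀ t : K, y chevD4 K g t = 1 :=
  fun g hg t => y_eq_one_of_good chevD4 K (goodD4 g hg) t

def certsF4 : List (ℕ × ℕ × ℤ) := [(1, 23, 1), (0, 24, 1), (0, 26, 1), (7, 14, 1), (0, 31, -1), (0, 32, 1), (1, 32, 1), (3, 33, 1), (3, 34, 1), (3, 35, -1), (3, 36, 1), (3, 37, -1), (3, 38, 1), (3, 39, -1), (3, 40, -1), (0, 42, -1), (0, 43, 1), (1, 43, 1), (7, 37, -1), (7, 38, 1), (7, 39, -1), (0, 45, -1), (1, 45, -1), (0, 46, -1), (1, 47, -1), (2, 46, -1), (2, 47, -1), (8, 40, -1), (9, 40, 1), (10, 40, -1), (4, 46, 1), (4, 47, 1), (5, 47, -1), (7, 44, -1), (8, 44, -1), (9, 44, 1), (10, 44, -1), (11, 44, 1), (12, 44, -1), (13, 44, 1), (14, 44, 1), (15, 46, 1), (15, 47, 1), (16, 47, -1), (33, 40, 1), (21, 47, 1), (23, 47, 1), (24, 46, 1)]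

set_option maxRecDepth 1000000 in
theorem goodF4 : ∀ g < chevF4.nroots, Good chevF4 g (certsF4.getD g (0, 0, 0)).1
    (certsF4.getD g (0, 0, 0)).2.1 (certsF4.getD g (0, 0, 0)).2.2 := by decide

theorem gensF4 (K : Type*) [Field K] : ∀ g < chevF4.nroots, ∀ t : K, y chevF4 K g t = 1 :=
  fun g hg t => y_eq_one_of_good chevF4 K (goodF4 g hg) t

def certsE6 : List (ℕ × ℕ × ℤ) := [(1, 25, 1), (0, 46, 1), (0, 47, -1), (0, 48, 1), (0, 49, -1), (0, 50, 1), (0, 51, -1), (0, 52, 1), (0, 53, 1), (0, 54, -1), (0, 55, 1), (1, 53, 1), (1, 54, -1), (1, 55, 1), (2, 55, 1), (5, 55, 1), (0, 61, -1), (0, 62, 1), (0, 63, -1), (0, 64, -1), (0, 65, 1), (0, 66, -1), (0, 67, 1), (0, 68, -1), (0, 69, 1), (0, 70, -1), (1, 64, -1), (1, 65, 1), (1, 66, -1), (2, 66, -1), (1, 67, -1), (1, 68, 1), (1, 69, -1), (2, 67, 1), (2, 68, -1), (3, 67, -1), (4, 68, -1), (3, 69, -1), (4, 69, 1), (2, 70, -1), (3, 70, 1), (4, 70, -1), (5, 69, -1), (5, 70, -1), (6, 70,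 1), (7, 70, -1), (1, 71, -1), (2, 71, 1), (3, 71, -1), (4, 71, 1), (5, 71, -1), (6, 71, 1), (7, 71, -1), (8, 71, -1), (9, 71, 1), (10, 71, -1), (16, 66, 1), (16, 69, 1), (16, 70, 1), (17, 70, -1), (18, 70, 1), (16, 71, 1), (17, 71, -1), (18, 71, 1), (19, 71, 1), (20, 71, -1), (21, 71, 1), (22, 71, -1), (23, 71, 1), (24, 71, -1), (25, 71, 1), (46, 70, 1)]

set_option maxRecDepth 1000000 in
theorem goodE6 : ∀ g < chevE6.nroots, Good chevE6 g (certsE6.getD g (0, 0, 0)).1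
    (certsE6.getD g (0, 0, 0)).2.1 (certsE6.getD g (0, 0, 0)).2.2 := by decide

theorem gensE6 (K : Type*) [Field K] : ∀ g < chevE6.nroots, ∀ t : K, y chevE6 K g t = 1 :=
  fun g hg t => y_eq_one_of_good chevE6 K (goodE6 g hg) t

def certsE7 : List (ℕ × ℕ × ℤ) := [(1, 32, 1), (0, 93, 1), (0, 94, -1), (0, 95, 1), (0, 96, -1), (0, 97, 1), (0, 98, -1), (0, 99, -1), (0, 100, 1), (0, 101, -1), (0, 102, 1), (0, 103, -1), (0, 104, 1), (0, 105, -1), (0, 106, -1), (0, 107, 1), (0, 108, -1), (0, 109, 1), (0, 110, -1), (0, 111, 1), (0, 112, 1), (0, 113, -1), (0, 114, 1), (0, 115, -1), (0, 116, 1), (0, 117, -1), (0, 118, 1), (0, 119, 1), (0, 120, -1), (0, 121, 1), (0, 122, -1), (0, 123, 1), (0, 124, -1), (1, 109, -1), (1, 110, 1), (1, 111, -1), (1, 112, -1), (1, 113, 1), (1, 114, -1), (1, 115, 1), (1, 116, -1), (1, 117, 1), (1, 118, -1), (2, 115, 1), (2, 116, -1), (2, 117, 1), (2, 118, -1), (3, 118, -1), (1, 119, -1), (1, 120, 1), (1, 121,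 -1), (1, 122, 1), (1, 123, -1), (2, 119, 1), (2, 120, -1), (2, 121, 1), (2, 122, -1), (3, 119, -1), (3, 120, 1), (3, 121, -1), (4, 119, 1), (4, 120, -1), (5, 119, -1), (6, 120, -1), (5, 121, -1), (6, 121, 1), (4, 122, -1), (5, 122, 1), (6, 122, -1), (3, 123, -1), (4, 123, 1), (5, 123, -1), (6, 123, 1), (2, 124, -1), (3, 124, 1), (4, 124, -1), (5, 124, 1), (6, 124, -1), (7, 122, -1), (7, 123, -1), (8, 123, 1), (9, 123, -1), (10, 123, 1), (7, 124, -1), (8, 124, 1), (9, 124, -1), (10, 124, 1), (11, 124, -1), (12, 124, 1), (13, 124, -1), (14, 124, -1), (15, 124, 1), (16, 124, -1), (1, 125, -1), (2, 125, 1), (3, 125, -1), (4, 125, 1), (5, 125, -1), (6, 125, 1), (7, 125, 1), (8, 125, -1), (9, 125, 1), (10, 125, -1), (11, 125, 1), (12, 125, -1), (13, 125, 1), (14, 125, 1), (15, 125, -1), (16, 125, 1), (17, 125, -1), (18, 125, 1), (19, 125, -1), (20, 125, -1), (21, 125, 1), (22, 125, -1), (23, 125, 1), (24, 125, -1), (25, 125, 1), (26,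 125, -1), (27, 125, -1), (28, 125, 1), (29, 125, -1), (30, 125, 1), (31, 125, -1), (32, 125, 1), (93, 124, 1)]

set_option maxRecDepth 1000000 in
theorem goodE7 : ∀ g < chevE7.nroots, Good chevE7 g (certsE7.getD g (0, 0, 0)).1
    (certsE7.getD g (0, 0, 0)).2.1 (certsE7.getD g (0, 0, 0)).2.2 := by decide

theorem gensE7 (K : Type*) [Field K] : ∀ g < chevE7.nroots, ∀ t : K, y chevE7 K g t = 1 :=
  fun g hg t => y_eq_one_of_good chevE7 K (goodE7 g hg) t

def certsE8 : List (ℕ × ℕ × ℤ) := [(1, 119, 1), (0, 120, 1), (0, 122, 1), (0, 125, 1), (0, 129, 1), (0, 134, 1), (0, 140, 1), (0, 146, 1), (0, 151, -1), (0, 155, 1), (0, 158, -1), (0, 160, 1), (0, 161, -1), (1, 161, -1), (0, 168, 1), (0, 173, -1), (0, 177, 1), (0, 180, -1), (0, 182, 1), (0, 183, -1), (1, 183, -1), (0, 187, -1), (0, 190, 1), (0, 192, -1), (0, 193, 1), (1, 193, 1), (0, 196, -1), (0, 198, 1), (0, 199, -1), (1, 199, -1), (0, 201, -1), (0, 202, 1), (1, 202, 1), (0, 203,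 -1), (1, 203, -1), (2, 203, -1), (0, 206, 1), (0, 208, -1), (0, 209, 1), (1, 209, 1), (0, 211, 1), (0, 212, -1), (1, 212, -1), (0, 213, 1), (1, 213, 1), (2, 213, 1), (0, 215, -1), (0, 216, 1), (1, 216, 1), (0, 217, -1), (1, 217, -1), (2, 217, -1), (0, 218, 1), (1, 218, 1), (2, 218, 1), (3, 218, 1), (0, 220, 1), (0, 221, -1), (1, 221, -1), (0, 222, 1), (1, 222, 1), (2, 222, 1), (0, 223, -1), (1, 223, -1), (2, 223, -1), (3, 223, -1), (0, 224, 1), (1, 224, 1), (2, 224, 1), (3, 224, 1), (4, 224, 1), (0, 225, -1), (1, 225, -1), (2, 225, -1), (3, 225, -1), (4, 225, -1), (5, 225, -1), (6, 225, -1), (0, 227, 1), (0, 228, -1), (1, 228, -1), (0, 229, 1), (1, 229, 1), (2, 229, 1), (0, 230, -1), (1, 230, -1), (2, 230, -1), (3, 230, -1), (0, 231, 1), (1, 231, 1), (2, 231, 1), (3, 231, 1), (4, 231, 1), (0, 232, -1), (1, 232, -1), (2, 232, -1), (3, 232, -1), (4, 232, -1), (5, 232, -1), (0, 233, -1), (1, 233, -1), (2, 233, -1), (3, 233, -1), (4,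 233, -1), (5, 233, -1), (0, 234, -1), (1, 234, -1), (2, 234, -1), (3, 234, -1), (4, 234, -1), (0, 235, -1), (1, 235, -1), (2, 235, -1), (3, 235, -1), (0, 236, -1), (1, 236, -1), (2, 236, -1), (0, 237, -1), (1, 237, -1), (0, 238, -1), (1, 239, -1), (2, 238, -1), (2, 239, -1), (3, 237, -1), (3, 238, -1), (3, 239, -1), (4, 236, -1), (4, 237, -1), (4, 238, -1), (4, 239, -1), (5, 235, -1), (5, 236, -1), (5, 237, -1), (5, 238, -1), (5, 239, -1), (6, 234, -1), (6, 235, -1), (6, 236, -1), (6, 237, -1), (6, 238, -1), (6, 239, -1), (7, 234, -1), (7, 235, -1), (7, 236, -1), (7, 237, -1), (7, 238, -1), (7, 239, -1), (8, 235, 1), (8, 236, 1), (8, 237, 1), (8, 238, 1), (8, 239, 1), (9, 236, -1), (9, 237, -1), (9, 238, -1), (9, 239, -1), (10, 237, 1), (10, 238, 1), (10, 239, 1), (11, 238, -1), (11, 239, -1), (12, 239, 1), (14, 233, -1), (14, 234, -1), (14, 235, -1), (14, 236, -1), (14, 237, -1), (14, 238, -1), (14, 239, -1), (15, 235, 1), (15,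 236, 1), (15, 237, 1), (15, 238, 1), (15, 239, 1), (16, 236, -1), (16, 237, -1), (16, 238, -1), (16, 239, -1), (17, 237, 1), (17, 238, 1), (17, 239, 1), (18, 238, -1), (18, 239, -1), (19, 239, 1), (21, 236, 1), (21, 237, 1), (21, 238, 1), (21, 239, 1), (22, 237, -1), (22, 238, -1), (22, 239, -1), (23, 238, 1), (23, 239, 1), (24, 239, -1), (26, 237, 1), (26, 238, 1), (26, 239, 1), (27, 238, -1), (27, 239, -1), (28, 239, 1), (30, 238, 1), (30, 239, 1), (31, 239, -1), (33, 239, 1), (36, 237, -1), (36, 238, -1), (36, 239, -1), (37, 238, 1), (37, 239, 1), (38, 239, -1), (40, 238, -1), (40, 239, -1), (41, 239, 1), (43, 239, -1), (46, 238, 1), (46, 239, 1), (47, 239, -1), (49, 239, 1), (52, 239, -1), (56, 238, -1), (56, 239, -1), (57, 239, 1), (59, 239, -1), (62, 239, 1), (66, 239, -1), (71, 239, 1), (78, 238, -1), (78, 239, -1), (79, 239, 1), (81, 239, -1), (84, 239, 1), (88, 239, -1), (93, 239, 1), (99, 239, 1), (105, 239, 1), (110,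 239, 1), (114, 239, 1), (117, 239, 1), (119, 239, 1), (120, 238, 1)]

set_option maxRecDepth 1000000 in
theorem goodE8 : ∀ g < chevE8.nroots, Good chevE8 g (certsE8.getD g (0, 0, 0)).1
    (certsE8.getD g (0, 0, 0)).2.1 (certsE8.getD g (0, 0, 0)).2.2 := by decide

theorem gensE8 (K : Type*) [Field K] : ∀ g < chevE8.nroots, ∀ t : K, y chevE8 K g t = 1 :=
  fun g hg t => y_eq_one_of_good chevE8 K (goodE8 g hg) t

theorem gensB2 (K : Type*) [Field K] (hK : ∃ x : K, x ≠ 0 ∧ x ≠ 1) :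
    ∀ g < chevB2.nroots, ∀ t : K, y chevB2 K g t = 1 := by
  obtain ⟨t₀, h0, h1⟩ := hK
  have a1 := y_eq_one_of_two_term chevB2 K (g1 := 2) (g2 := 0) (r := 1) (s := 4) (c1 := 1) (c2 := 1)
    (by decide) (by decide) (by decide) (by decide) (by decide) (by decide) (by decide) [] (by decide)
    (by simp) t₀ h0 h1
  have a2 := y_eq_one_of_two_term chevB2 K (g1 := 5) (g2 := 3) (r := 1) (s := 7) (c1 := -1) (c2 := 1)
    (by decide) (by decide) (by decide) (by decide) (by decide) (by decide) (by decide) [] (by decide)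
    (by simp) t₀ h0 h1
  have a3 := y_eq_one_of_two_term chevB2 K (g1 := 6) (g2 := 4) (r := 2) (s := 7) (c1 := 1) (c2 := -1)
    (by decide) (by decide) (by decide) (by decide) (by decide) (by decide) (by decide) [] (by decide)
    (by simp) t₀ h0 h1
  have a4 := y_eq_one_of_two_term chevB2 K (g1 := 6) (g2 := 7) (r := 5) (s := 4) (c1 := -1) (c2 := -1)
    (by decide) (by decide) (by decide) (by decide) (by decide) (by decide) (by decide) [] (by decide)
    (by simp) t₀ h0 h1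
  have a5 := y_eq_one_of_two_term chevB2 K (g1 := 1) (g2 := 0) (r := 2) (s := 3) (c1 := 1) (c2 := -1)
    (by decide) (by decide) (by decide) (by decide) (by decide) (by decide) (by decide) [] (by decide)
    (by simp) t₀ h0 h1
  intro g hg
  have hn : chevB2.nroots = 8 := rfl
  rw [hn] at hg
  interval_cases g
  · exact a1.2
  · exact a5.1
  · exact a1.1
  · exact a2.2
  · exact a3.2
  · exact a2.1
  · exact a3.1
  · exact a4.2

theorem gensG2 (K : Type*) [Field K] (hK : ∃ x : K, x ≠ 0 ∧ x ≠ 1) :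
    ∀ g < chevG2.nroots, ∀ t : K, y chevG2 K g t = 1 := by
  obtain ⟨t₀, h0, h1⟩ := hK
  have l0 : ∀ t : K, y chevG2 K 0 t = 1 :=
    y_eq_one_of_good chevG2 K (show Good chevG2 0 1 5 1 by decide)
  have l1 : ∀ t : K, y chevG2 K 1 t = 1 :=
    y_eq_one_of_good chevG2 K (show Good chevG2 1 0 6 1 by decide)
  have l5 : ∀ t : K, y chevG2 K 5 t = 1 :=
    y_eq_one_of_good chevG2 K (show Good chevG2 5 0 10 (-1) by decide)
  have l6 : ∀ t : K, y chevG2 K 6 t = 1 :=
    y_eq_one_of_good chevG2 K (show Good chevG2 6 1 11 (-1) by decide)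
  have l10 : ∀ t : K, y chevG2 K 10 t = 1 :=
    y_eq_one_of_good chevG2 K (show Good chevG2 10 5 11 1 by decide)
  have l11 : ∀ t : K, y chevG2 K 11 t = 1 :=
    y_eq_one_of_good chevG2 K (show Good chevG2 11 6 10 1 by decide)
  have a1 := y_eq_one_of_two_term chevG2 K (g1 := 7) (g2 := 3) (r := 2) (s := 10) (c1 := -1) (c2 := 1)
    (by decide) (by decide) (by decide) (by decide) (by decide) (by decide) (by decide)
    [(0, 1, 3, 1), (5, 1, 3, 2)] (by decide)
    (by intro x hx; simp at hx; rcases hx with rfl | rfl; exacts [l0, l5]) t₀ h0 h1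
  have a2 := y_eq_one_of_two_term chevG2 K (g1 := 8) (g2 := 4) (r := 2) (s := 11) (c1 := -1) (c2 := -1)
    (by decide) (by decide) (by decide) (by decide) (by decide) (by decide) (by decide)
    [(1, -1, 3, 1), (6, -1, 3, 2)] (by decide)
    (by intro x hx; simp at hx; rcases hx with rfl | rfl; exacts [l1, l6]) t₀ h0 h1
  have a3 := y_eq_one_of_two_term chevG2 K (g1 := 4) (g2 := 2) (r := 3) (s := 6) (c1 := 1) (c2 := -1)
    (by decide) (by decide) (by decide) (by decide) (by decide) (by decide) (by decide)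
    [(0, 1, 3, 1), (1, -1, 3, 2)] (by decide)
    (by intro x hx; simp at hx; rcases hx with rfl | rfl; exacts [l0, l1]) t₀ h0 h1
  have a4 := y_eq_one_of_two_term chevG2 K (g1 := 9) (g2 := 7) (r := 3) (s := 11) (c1 := 1) (c2 := 1)
    (by decide) (by decide) (by decide) (by decide) (by decide) (by decide) (by decide)
    [(5, -1, 3, 1), (10, 1, 3, 2)] (by decide)
    (by intro x hx; simp at hx; rcases hx with rfl | rfl; exacts [l5, l10]) t₀ h0 h1
  intro g hg
  have hn : chevG2.nroots = 12 := rfl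
  rw [hn] at hg
  interval_cases g
  · exact l0
  · exact l1
  · exact a3.2
  · exact a1.2
  · exact a2.2
  · exact l5
  · exact l6
  · exact a1.1
  · exact a2.1
  · exact a4.1
  · exact l10
  · exact l11

theorem result {K : Type*} [Field K] (D : Cfsg.Lie.ChevalleyDatum) (hD : D ∈ [Cfsg.Lie.chevG2, Cfsg.Lie.chevB2, Cfsg.Lie.chevD4, Cfsg.Lie.chevF4, Cfsg.Lie.chevE6, Cfsg.Lie.chevE7, Cfsg.Lie.chevE8]) (hK : D ∈ [Cfsg.Lie.chevB2, Cfsg.Lie.chevG2] → ∃ x : K, x ≠ 0 ∧ x ≠ 1) :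
    commutator (D.SteinbergCover K) = ⊤ := by
  simp only [List.mem_cons, List.not_mem_nil, or_false] at hD
  rcases hD with rfl | rfl | rfl | rfl | rfl | rfl | rfl
  · exact perfect_of_gens _ K (gensG2 K (hK (by simp)))
  · exact perfect_of_gens _ K (gensB2 K (hK (by simp)))
  · exact perfect_of_gens _ K (gensD4 K)
  · exact perfect_of_gens _ K (gensF4 K)
  · exact perfect_of_gens _ K (gensE6 K)
  · exact perfect_of_gens _ K (gensE7 K)
  · exact perfect_of_gens _ K (gensE8 K)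

end Cfsg.Agent.S2395
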