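import Cfsg.Statements.S2402
import Cfsg.Agent.Lib.Helper47.CycleGen
import Cfsg.Agent.Lib.Helper47.DiagTransvection

set_option autoImplicit false
open Cfsg

namespace Cfsg.Agent.S2402

open Matrix
open Cfsg.Agent.Lib.Helper47

/-- conjugating a diagonal matrix by the cyclic monomial matrix shifts the diagonal -/
theorem w_mul_diagonal {K : Type*} [Field K] {n : ℕ} (W : Matrix (Fin (n + 1)) (Fin (n + 1)) K)
    (hW : ∀ i j, W i j = if j = i + 1 then eps n K i else 0) (f : Fin (n + 1) → K) :
    W * diagonal f = diagonal (fun i => f (i + 1)) * W := by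
  ext a b
  rw [Matrix.mul_diagonal, Matrix.diagonal_mul, hW]
  by_cases hab : b = a + 1
  · subst hab
    rw [if_pos rfl]; ring
  · rw [if_neg hab]; ring

/-- Explicit two-element generation of `PSL_{n+1}(K)` for a finite field `K` with more than three elements: let `k` generate the multiplicative group of `K`, `h = diag(k, k⁻¹, 1, …, 1)`, `x = 1 + E₁₂` (the elementary transvection) and `w` the monomial matrix with entries `1` in positions `(i, i+1)` and `(−1)^n` in position `(n+1, 1)`. Then `h` and `x·w` generate `SL_{n+1}(K)` modulo its centre: the subgroup they generate together with the centre is everything. -/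
theorem result {K : Type*} [Field K] [Fintype K] (hK : 3 < Fintype.card K) (n : ℕ) (hn : 1 ≤ n)
    (k : Kˣ) (hk : ∀ u : Kˣ, u ∈ Subgroup.zpowers k)
    (h x w : Matrix.SpecialLinearGroup (Fin (n + 1)) K)
    (hh : (h : Matrix (Fin (n + 1)) (Fin (n + 1)) K) =
      Matrix.diagonal (fun i => if i.val = 0 then (k : K) else if i.val = 1 then ((k⁻¹ : Kˣ) : K) else 1))
    (hx : (x : Matrix (Fin (n + 1)) (Fin (n + 1)) K) = Matrix.transvection (0 : Fin (n + 1)) (1 : Fin (n + 1)) 1)
    (hw : (w : Matrix (Fin (n + 1)) (Fin (n + 1)) K) =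
      Matrix.of (fun i j => if j.val = i.val + 1 then 1 else if i.val = n ∧ j.val = 0 then (-1) ^ n else 0)) :
    Subgroup.closure ({h, x * w} : Set (Matrix.SpecialLinearGroup (Fin (n + 1)) K)) ⊔
      Subgroup.center (Matrix.SpecialLinearGroup (Fin (n + 1)) K) = ⊤ := by
  classical
  set H := Subgroup.closure ({h, x * w} : Set (Matrix.SpecialLinearGroup (Fin (n + 1)) K)) with hH
  have hhH : h ∈ H := Subgroup.subset_closure (by simp)
  have hgH : x * w ∈ H := Subgroup.subset_closure (by simp)
  have hW : ∀ i j, (w : Matrix (Fin (n + 1)) (Fin (n + 1)) K) i j = if j = i + 1 then eps n K i else 0 := by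
    intro i j
    rw [hw, Matrix.of_apply, w_entry]
  have h01 : (0 : Fin (n + 1)) ≠ 1 := by
    intro h
    have := congrArg Fin.val h
    rw [Fin.val_zero, Fin.val_one'] at this
    rw [Nat.mod_eq_of_lt (by omega)] at this
    omega
  have hxT : x = Matrix.SpecialLinearGroup.transvection h01 (1 : K) := by
    apply Matrix.SpecialLinearGroup.ext
    intro i j
    rw [hx, Matrix.SpecialLinearGroup.transvection_coe, Matrix.transvection]
  -- the order of k
  have hord : orderOf k = Fintype.card K - 1 := by
    rw [orderOf_eq_card_of_forall_mem_zpowers hk, Nat.card_eq_fintype_card, Fintype.card_units]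
  have hk1 : (k : K) ≠ 1 := by
    intro h1
    have : k = 1 := Units.ext h1
    rw [this, orderOf_one] at hord
    omega
  have hk2 : (k : K) ^ 2 ≠ 1 := by
    intro h1
    have : k ^ 2 = 1 := Units.ext (by rw [Units.val_pow_eq_pow_val, h1]; rfl)
    have := Nat.le_of_dvd (by norm_num) (orderOf_dvd_of_pow_eq_one this)
    omega
  have hk0 : (k : K) ≠ 0 := k.ne_zero
  set f : Fin (n + 1) → K :=
    fun i => if i.val = 0 then (k : K) else if i.val = 1 then ((k⁻¹ : Kˣ) : K) else 1 with hf
  have hf0 : f 0 = k := by simp [hf]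
  have hf1 : f 1 = (k : K)⁻¹ := by
    have : (1 : Fin (n + 1)).val = 1 := by
      rw [Fin.val_one']; exact Nat.mod_eq_of_lt (by omega)
    change (if (1 : Fin (n + 1)).val = 0 then (k : K) else
      if (1 : Fin (n + 1)).val = 1 then ((k⁻¹ : Kˣ) : K) else 1) = (k : K)⁻¹
    rw [this]
    simp
  -- d = w h w⁻¹
  set d := w * h * w⁻¹ with hd
  have hdmat : (d : Matrix (Fin (n + 1)) (Fin (n + 1)) K) = diagonal (fun i => f (i + 1)) := by
    have e1 : d * w = w * h := by rw [hd]; group
    have e2 : (d : Matrix (Fin (n + 1)) (Fin (n + 1)) K) * w.1 = diagonal (fun i => f (i + 1)) * w.1 := by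
      rw [← Matrix.SpecialLinearGroup.coe_mul, e1, Matrix.SpecialLinearGroup.coe_mul, hh,
        w_mul_diagonal _ hW]
    have e3 : (w : Matrix (Fin (n + 1)) (Fin (n + 1)) K) * (w⁻¹ : Matrix.SpecialLinearGroup (Fin (n + 1)) K).1 = 1 := by
      rw [← Matrix.SpecialLinearGroup.coe_mul, mul_inv_cancel]; rfl
    calc (d : Matrix (Fin (n + 1)) (Fin (n + 1)) K) = d.1 * (w.1 * (w⁻¹ : Matrix.SpecialLinearGroup (Fin (n + 1)) K).1) := by
          rw [e3, mul_one]
      _ = diagonal (fun i => f (i + 1)) * w.1 * (w⁻¹ : Matrix.SpecialLinearGroup (Fin (n + 1)) K).1 := by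
          rw [← mul_assoc, e2]
      _ = _ := by rw [mul_assoc, e3, mul_one]
  -- the ratio r = f'₀ / f'₁
  have hf'1 : f (1 + 1) ≠ 0 := by
    simp only [hf]
    split_ifs
    · exact hk0
    · exact (k⁻¹).ne_zero
    · exact one_ne_zero
  set r : K := (k : K)⁻¹ / f (1 + 1) with hr
  have hr1 : r ≠ 1 := by
    rw [hr]
    simp only [hf]
    split_ifs with h1 h2
    · -- f (1+1) = k
      intro hc
      apply hk2
      field_simp at hc
      exact hc.symm
    · intro hc
      have : ((k⁻¹ : Kˣ) : K) = (k : K)⁻¹ := by simp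
      rw [this, div_self (inv_ne_zero hk0)] at hc
      -- this case is impossible, but the claim also fails; handle by showing (1+1).val = 1 is absurd
      exfalso
      have h11 : (1 : Fin (n + 1)).val = 1 := by
        rw [Fin.val_one']; exact Nat.mod_eq_of_lt (by omega)
      have : ((1 : Fin (n + 1)) + 1).val = (1 + 1) % (n + 1) := by
        rw [Fin.val_add, h11]
      rw [this] at h2
      rcases Nat.lt_or_ge 2 (n + 1) with hlt | hge
      · rw [Nat.mod_eq_of_lt hlt] at h2; omega
      · have : n = 1 := by omega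
        subst this
        simp at h2
    · intro hc
      apply hk1
      field_simp at hc
      exact hc.symm
  -- y = g h g⁻¹ = T(1 - r) d
  have hy : (x * w) * h * (x * w)⁻¹ =
      Matrix.SpecialLinearGroup.transvection h01 (1 - r) * d := by
    have e1 : (x * w) * h * (x * w)⁻¹ = x * d * x⁻¹ := by rw [hd]; group
    have e2 : d * x⁻¹ * d⁻¹ = Matrix.SpecialLinearGroup.transvection h01 (-r) := by
      rw [hxT, Matrix.SpecialLinearGroup.transvection_inv]
      apply diag_conj_transvection d _ hdmat h01
      rw [zero_add, hf1, hr]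
      field_simp
    have e3 : x * d * x⁻¹ = x * (d * x⁻¹ * d⁻¹) * d := by group
    rw [e1, e3, e2, hxT, ← Matrix.SpecialLinearGroup.transvection_add, sub_eq_add_neg]
  have hyH : Matrix.SpecialLinearGroup.transvection h01 (1 - r) * d ∈ H := by
    rw [← hy]
    exact mul_mem (mul_mem hgH hhH) (inv_mem hgH)
  -- conjugation by h
  have hconj : ∀ c : K, h * Matrix.SpecialLinearGroup.transvection h01 c * h⁻¹ =
      Matrix.SpecialLinearGroup.transvection h01 ((k : K) ^ 2 * c) := by
    intro c
    apply diag_conj_transvection h _ hh h01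
    change (k : K) ^ 2 * c * f 1 = f 0 * c
    rw [hf0, hf1]
    field_simp
  have hdh : h * d = d * h := diag_commute h d _ _ hh hdmat
  -- z = [h, y]
  have hz : Matrix.SpecialLinearGroup.transvection h01 (((k : K) ^ 2 - 1) * (1 - r)) ∈ H := by
    have e : h * (Matrix.SpecialLinearGroup.transvection h01 (1 - r) * d) * h⁻¹ *
        (Matrix.SpecialLinearGroup.transvection h01 (1 - r) * d)⁻¹ =
        Matrix.SpecialLinearGroup.transvection h01 (((k : K) ^ 2 - 1) * (1 - r)) := by
      have e1 : h * (Matrix.SpecialLinearGroup.transvection h01 (1 - r) * d) * h⁻¹ *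
          (Matrix.SpecialLinearGroup.transvection h01 (1 - r) * d)⁻¹ =
          (h * Matrix.SpecialLinearGroup.transvection h01 (1 - r) * h⁻¹) * (h * d * h⁻¹ * d⁻¹) *
            (Matrix.SpecialLinearGroup.transvection h01 (1 - r))⁻¹ := by group
      have e2 : h * d * h⁻¹ * d⁻¹ = 1 := by rw [hdh]; group
      rw [e1, e2, mul_one, hconj, Matrix.SpecialLinearGroup.transvection_inv,
        ← Matrix.SpecialLinearGroup.transvection_add]
      congr 1
      ring
    rw [← e]
    exact mul_mem (mul_mem (mul_mem hhH hyH) (inv_mem hhH)) (inv_mem hyH)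
  set c₀ : K := ((k : K) ^ 2 - 1) * (1 - r) with hc₀
  have hc₀ne : c₀ ≠ 0 := mul_ne_zero (sub_ne_zero.mpr hk2) (sub_ne_zero.mpr (Ne.symm hr1))
  -- powers
  have hpow : ∀ m : ℕ, Matrix.SpecialLinearGroup.transvection h01 (c₀ * ((k : K) ^ m) ^ 2) ∈ H := by
    intro m
    induction m with
    | zero => simpa using hz
    | succ m ih =>
      have := mul_mem (mul_mem hhH ih) (inv_mem hhH)
      rw [hconj] at this
      convert this using 2
      ring
  have hsq : ∀ a : K, Matrix.SpecialLinearGroup.transvection h01 (c₀ * a ^ 2) ∈ H := by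
    intro a
    by_cases ha : a = 0
    · subst ha
      simp [Matrix.SpecialLinearGroup.transvection_coeff_zero]
    · have hmem := hk (Units.mk0 a ha)
      rw [← (isOfFinOrder_of_finite k).mem_powers_iff_mem_zpowers] at hmem
      obtain ⟨m, hm⟩ := hmem
      have : a = (k : K) ^ m := by
        have := congrArg Units.val hm
        simpa using this.symm
      rw [this]
      exact hpow m
  have hbase : ∀ c : K, Matrix.SpecialLinearGroup.transvection h01 c ∈ H := by
    intro c
    obtain ⟨a, b, hab⟩ := finiteField_sq_add_sq (c / c₀)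
    have : c = c₀ * a ^ 2 + c₀ * b ^ 2 := by
      rw [← mul_add, hab]; field_simp
    rw [this, Matrix.SpecialLinearGroup.transvection_add]
    exact mul_mem (hsq a) (hsq b)
  have hxH : x ∈ H := by rw [hxT]; exact hbase 1
  have hwH : w ∈ H := by
    have : w = x⁻¹ * (x * w) := by group
    rw [this]
    exact mul_mem (inv_mem hxH) hgH
  rw [eq_top_of_cycle n hn H w hwH hW h01 hbase, top_sup_eq]

end Cfsg.Agent.S2402
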