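import Mathlib
import Cfsg.Statements.S2411
import Cfsg.Agent.Lib.Helper48.Sp2GDefs
import Cfsg.Agent.Lib.Helper82.Sp2GF
import Cfsg.Agent.Lib.Helper48.Sp2GL1
import Cfsg.Agent.Lib.Helper80.Sp2GEc
import Cfsg.Agent.Lib.Helper09.Sp2GG2
import Cfsg.Agent.Lib.Helper79.Sp2GM1
import Cfsg.Agent.Lib.Helper14.Sp2GM2a
import Cfsg.Agent.Lib.Helper39.Sp2GC
import Cfsg.Agent.Lib.Helper14.Sp2GD
import Cfsg.Agent.Lib.Helper50.Sp2GEa
import Cfsg.Agent.Lib.Helper69.Sp2GEb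
import Cfsg.Agent.Lib.Helper50.Sp2GM2b
import Cfsg.Agent.Lib.Helper93.RSpE2
import Cfsg.Agent.Lib.Helper45.RSpE3
import Cfsg.Agent.Lib.Helper20.RSpE4
import Cfsg.Agent.Lib.Helper83.RSpE6

set_option autoImplicit false
open Cfsg

namespace Cfsg.Agent.S2411

open Matrix Cfsg.Agent.Lib.Helper48.RSp Cfsg.Agent.Lib.Helper48.Sp2G Cfsg.Agent.Lib.Helper18

variable {m : ℕ} {F : Type*} [Field F]

/-- the endgame: `wC ∈ G`, `e_0 ∈ TG G` and `e_0 + e_1 ∈ TG G` (given the orbit) give `G = ⊤` -/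
theorem s2411_top (G : Subgroup (SpG m F)) (hw : InG G (wC m F))
    (h0 : (eI (0 : Fin (m + 2)) : Fin (m + 2) ⊕ Fin (m + 2) → F) ∈ TG G)
    (h01 : (∀ j : Fin (m + 2), (eI j : Fin (m + 2) ⊕ Fin (m + 2) → F) ∈ TG G) →
      (eI (0 : Fin (m + 2)) + eI (1 : Fin (m + 2)) : Fin (m + 2) ⊕ Fin (m + 2) → F) ∈ TG G) :
    G = ⊤ := by
  obtain ⟨gw, hgw, hgwM⟩ := hw
  have hstep : ∀ v : Fin (m + 2) ⊕ Fin (m + 2) → F, v ∈ TG G → wC m F *ᵥ v ∈ TG G := by
    intro v hv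
    have := Cfsg.Agent.Lib.Helper93.RSp.TG_mulVec hv gw hgw
    rwa [hgwM] at this
  -- the `e_j`
  have he : ∀ k : ℕ, ∀ j : Fin (m + 2), j.val = k →
      (eI j : Fin (m + 2) ⊕ Fin (m + 2) → F) ∈ TG G := by
    intro k
    induction k with
    | zero =>
      intro j hj
      have : j = 0 := Fin.ext (by simpa using hj)
      rw [this]; exact h0
    | succ k ih =>
      intro j hj
      have hk : k < m + 2 := by have := j.2; omega
      have h1 := hstep _ (ih ⟨k, hk⟩ rfl)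
      rw [Cfsg.Agent.Lib.Helper82.Sp2G.wC_mulVec_eI m F ⟨k, hk⟩ (by simp only; have := j.2; omega)] at h1
      have : j = ⟨k + 1, by have := j.2; omega⟩ := Fin.ext (by simpa using hj)
      rw [this]; exact h1
  have he' : ∀ j : Fin (m + 2), (eI j : Fin (m + 2) ⊕ Fin (m + 2) → F) ∈ TG G := fun j => he j.val j rfl
  -- the `f_j`
  have hf : ∀ k : ℕ, ∀ j : Fin (m + 2), j.val = k →
      (fI j : Fin (m + 2) ⊕ Fin (m + 2) → F) ∈ TG G := by
    intro k
    induction k with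
    | zero =>
      intro j hj
      have : j = 0 := Fin.ext (by simpa using hj)
      rw [this, ← Cfsg.Agent.Lib.Helper82.Sp2G.wC_mulVec_eI_last m F]
      exact hstep _ (he' _)
    | succ k ih =>
      intro j hj
      have hk : k < m + 2 := by have := j.2; omega
      have h1 := hstep _ (ih ⟨k, hk⟩ rfl)
      rw [Cfsg.Agent.Lib.Helper82.Sp2G.wC_mulVec_fI m F ⟨k, hk⟩ (by simp only; have := j.2; omega)] at h1
      have : j = ⟨k + 1, by have := j.2; omega⟩ := Fin.ext (by simpa using hj)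
      rw [this]; exact h1
  have hf' : ∀ j : Fin (m + 2), (fI j : Fin (m + 2) ⊕ Fin (m + 2) → F) ∈ TG G := fun j => hf j.val j rfl
  -- the `e_j + e_{j+1}`
  have hadj : ∀ k : ℕ, ∀ (j : Fin (m + 2)) (hj : j.val + 1 < m + 2), j.val = k →
      (eI j + eI ⟨j.val + 1, hj⟩ : Fin (m + 2) ⊕ Fin (m + 2) → F) ∈ TG G := by
    intro k
    induction k with
    | zero =>
      intro j hj hj0
      have hj' : j = 0 := Fin.ext (by simpa using hj0)
      subst hj'
      have h1 : (⟨(0 : Fin (m + 2)).val + 1, hj⟩ : Fin (m + 2)) = 1 := Fin.ext (by simp)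
      rw [h1]
      exact h01 he'
    | succ k ih =>
      intro j hj hjk
      have hk : k < m + 2 := by omega
      have hk1 : (⟨k, hk⟩ : Fin (m + 2)).val + 1 < m + 2 := by simp only; omega
      have h1 := hstep _ (ih ⟨k, hk⟩ hk1 rfl)
      rw [Matrix.mulVec_add, Cfsg.Agent.Lib.Helper82.Sp2G.wC_mulVec_eI m F ⟨k, hk⟩ hk1,
        Cfsg.Agent.Lib.Helper82.Sp2G.wC_mulVec_eI m F ⟨k + 1, hk1⟩ (by simp only; omega)] at h1
      have hj' : j = ⟨k + 1, by omega⟩ := Fin.ext (by simpa using hjk)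
      subst hj'
      exact h1
  have hhyp : ∀ v ∈ TG G, ∀ w ∈ TG G, Cfsg.sympForm (m + 2) F v w ≠ 0 → ∀ s : F, v + s • w ∈ TG G :=
    fun v hv w hw h s => Cfsg.Agent.Lib.Helper93.RSp.TG_hyp hv hw h s
  have hsmul : ∀ v ∈ TG G, ∀ a : F, a • v ∈ TG G := fun v hv a => Cfsg.Agent.Lib.Helper93.RSp.TG_smul hv a
  have hW := Cfsg.Agent.Lib.Helper48.Sp2G.hW_of_adjacent (TG G) hsmul hhyp he' hf'
    (fun j hj => hadj j.val j hj rfl)
  have hcoset := Cfsg.Agent.Lib.Helper45.RSp.T_coset (TG G) hW hhyp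
  have hadd : ∀ y₁ ∈ TG G, ∀ y₂ ∈ TG G, (∀ i, y₁ (Sum.inl i) = 0) → (∀ i, y₂ (Sum.inl i) = 0) →
      y₁ + y₂ ∈ TG G := fun y₁ h1 y₂ h2 a b => Cfsg.Agent.Lib.Helper45.RSp.T_add_inr (TG G) hW hhyp y₁ y₂ h1 h2 a b
  exact Cfsg.Agent.Lib.Helper83.RSp.eq_top_of_TG_univ G
    (Cfsg.Agent.Lib.Helper20.RSp.T_univ (TG G) hW hsmul hcoset hadd hf')

/-- `e_0 ∈ TG G` from the root elements `x(a E_00)` -/
theorem s2411_e0 (G : Subgroup (SpG m F)) (h : ∀ a : F, InG G (xMat m (a • E00 m F))) :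
    (eI (0 : Fin (m + 2)) : Fin (m + 2) ⊕ Fin (m + 2) → F) ∈ TG G := by
  intro a
  obtain ⟨g, hg, hgM⟩ := h a
  have : tv (m + 2) (eI (0 : Fin (m + 2)) : Fin (m + 2) ⊕ Fin (m + 2) → F) a = g := by
    apply Subtype.ext
    rw [hgM]
    exact Cfsg.Agent.Lib.Helper80.Sp2G.tv_eI_zero m a
  rw [this]; exact hg

/-- the matrix of a power -/
theorem s2411_coe_pow (a : SpG m F) (k : ℕ) : ((a ^ k : SpG m F) : BM m F) = (a : BM m F) ^ k := by
  induction k with
  | zero => rfl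
  | succ k ih =>
    rw [pow_succ, pow_succ]
    show ((a ^ k : SpG m F) : BM m F) * (a : BM m F) = _
    rw [ih]

/-- `|F| ≥ 3` -/
theorem s2411_big [Fintype F] (h3 : 3 ≤ Fintype.card F) :
    ∃ a b : SpG m F, Subgroup.closure ({a, b} : Set (SpG m F)) = ⊤ := by
  obtain ⟨k, hk0, hk1, hgen⟩ := Cfsg.Agent.Lib.Helper09.Sp2G.exists_gen_ne_one F h3
  have hzLs : (Matrix.single (1 : Fin (m + 2)) (1 : Fin (m + 2)) (1 : F))ᵀ =
      Matrix.single (1 : Fin (m + 2)) (1 : Fin (m + 2)) (1 : F) := by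
    rw [Matrix.transpose_single]
  have hzLmem : zL m F ∈ Matrix.symplecticGroup (Fin (m + 2)) F := xMat_mem hzLs
  let a : SpG m F := ⟨hT m k * zL m F,
    mul_mem (Cfsg.Agent.Lib.Helper79.Sp2G.hT_mem m k hk0) hzLmem⟩
  let b : SpG m F := ⟨sx m (1 : F) * wC m F,
    mul_mem (Cfsg.Agent.Lib.Helper79.Sp2G.sx_mem m 1) (Cfsg.Agent.Lib.Helper79.Sp2G.wC_mem m F)⟩
  refine ⟨a, b, ?_⟩
  set G := Subgroup.closure ({a, b} : Set (SpG m F)) with hG
  have haG : a ∈ G := Subgroup.subset_closure (by simp)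
  have hbG : b ∈ G := Subgroup.subset_closure (by simp)
  have hh : InG G (hT m k) :=
    ⟨a ^ Fintype.card F, pow_mem haG _, by
      rw [s2411_coe_pow]; exact Cfsg.Agent.Lib.Helper14.Sp2G.hT_mul_zL_pow_card m k⟩
  have hz : InG G (zL m F) := inG_of_mul_left hh ⟨a, haG, rfl⟩
  have hB : InG G (sx m (1 : F) * wC m F) := ⟨b, hbG, rfl⟩
  have hc0 := Cfsg.Agent.Lib.Helper39.Sp2G.inG_sx_of k hk0 hh hB
  have hc0ne : (k - 1) ^ 2 / k ≠ 0 := div_ne_zero (pow_ne_zero 2 (sub_ne_zero.2 hk1)) hk0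
  -- all `sx (k^j c₀)`
  have hpow : ∀ j : ℕ, InG G (sx m (k ^ j * ((k - 1) ^ 2 / k))) := by
    intro j
    induction j with
    | zero => simpa using hc0
    | succ j ih =>
      have := inG_of_conj hh ih (Cfsg.Agent.Lib.Helper14.Sp2G.hT_mul_sx m k _ hk0)
      rwa [← mul_assoc, ← pow_succ'] at this
  have hsx1 : InG G (sx m (1 : F)) := by
    obtain ⟨j, hj⟩ := hgen ((k - 1) ^ 2 / k)⁻¹ (inv_ne_zero hc0ne)
    have := hpow (j + 1)
    rwa [← hj, inv_mul_cancel₀ hc0ne] at this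
  have hw : InG G (wC m F) := inG_of_mul_left hsx1 hB
  -- the long root subgroup
  let X0 : AddSubgroup F :=
    { carrier := {a | InG G (xMat m (a • E00 m F))}
      add_mem' := by
        intro a b ha hb
        show InG G (xMat m ((a + b) • E00 m F))
        rw [add_smul, ← xMat_mul]
        exact inG_mul ha hb
      zero_mem' := by
        show InG G (xMat m ((0 : F) • E00 m F))
        rw [zero_smul, xMat_zero]
        exact inG_one
      neg_mem' := by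
        intro a ha
        show InG G (xMat m ((-a) • E00 m F))
        refine inG_of_mul_eq_one ha ?_
        rw [xMat_mul, neg_smul, add_neg_cancel, xMat_zero] }
  have hz0 : InG G (z0 m F) :=
    inG_of_conj' hw hz (Cfsg.Agent.Lib.Helper50.Sp2G.wC_mul_z0 m F).symm
  have h1X : (1 : F) ∈ X0 := by
    show InG G (xMat m ((1 : F) • E00 m F))
    rw [one_smul]
    exact hz0
  have hkX : ∀ a ∈ X0, k ^ 2 * a ∈ X0 := by
    intro a ha
    exact inG_of_conj hh ha (Cfsg.Agent.Lib.Helper50.Sp2G.hT_mul_xMat_E00 m k a hk0)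
  have hall := Cfsg.Agent.Lib.Helper69.Sp2G.addSubgroup_eq_top_of_sq k hgen X0 h1X hkX
  have he0 := s2411_e0 G hall
  refine s2411_top G hw he0 (fun he => ?_)
  obtain ⟨gx, hgx, hgxM⟩ := hsx1
  have := Cfsg.Agent.Lib.Helper93.RSp.TG_mulVec (he 1) gx hgx
  rwa [hgxM, Cfsg.Agent.Lib.Helper82.Sp2G.sx_mulVec_eI_one] at this

/-- `|F| = 2`, `n ≥ 3` -/
theorem s2411_small [Fintype F] (hm : 1 ≤ m) (hc : Fintype.card F = 2) :
    ∃ a b : SpG m F, Subgroup.closure ({a, b} : Set (SpG m F)) = ⊤ := by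
  have h2 := Cfsg.Agent.Lib.Helper09.Sp2G.two_eq_zero_of_card_two hc
  have hz0mem : z0 m F ∈ Matrix.symplecticGroup (Fin (m + 2)) F :=
    xMat_mem (by unfold E00; rw [Matrix.transpose_single])
  let a : SpG m F := ⟨z0 m F * sO m F,
    mul_mem hz0mem (Cfsg.Agent.Lib.Helper79.Sp2G.sO_mem m hm F h2)⟩
  let b : SpG m F := ⟨wC m F, Cfsg.Agent.Lib.Helper79.Sp2G.wC_mem m F⟩
  refine ⟨a, b, ?_⟩
  set G := Subgroup.closure ({a, b} : Set (SpG m F)) with hG
  have haG : a ∈ G := Subgroup.subset_closure (by simp)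
  have hbG : b ∈ G := Subgroup.subset_closure (by simp)
  obtain ⟨hp3, hp4⟩ := Cfsg.Agent.Lib.Helper50.Sp2G.z0_mul_sO_pow m hm F h2
  have hz0 : InG G (z0 m F) := ⟨a ^ 3, pow_mem haG _, by rw [s2411_coe_pow]; exact hp3⟩
  have hs : InG G (sO m F) := ⟨a ^ 4, pow_mem haG _, by rw [s2411_coe_pow]; exact hp4⟩
  have hw : InG G (wC m F) := ⟨b, hbG, rfl⟩
  have hall : ∀ c : F, InG G (xMat m (c • E00 m F)) := by
    intro c
    rcases Cfsg.Agent.Lib.Helper09.Sp2G.eq_zero_or_one_of_card_two hc c with h | h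
    · rw [h, zero_smul, xMat_zero]; exact inG_one
    · rw [h, one_smul]; exact hz0
  have he0 := s2411_e0 G hall
  refine s2411_top G hw he0 (fun he => ?_)
  obtain ⟨gw, hgw, hgwM⟩ := hw
  obtain ⟨gs, hgs, hgsM⟩ := hs
  apply Cfsg.Agent.Lib.Helper93.RSp.TG_of_mulVec gw hgw
  have h01 : (0 : Fin (m + 2)).val + 1 < m + 2 := by simp
  have h12 : (1 : Fin (m + 2)).val + 1 < m + 2 := by
    have : (1 : Fin (m + 2)).val = 1 := by simp
    omega
  have e1 : (⟨(0 : Fin (m + 2)).val + 1, h01⟩ : Fin (m + 2)) = 1 := Fin.ext (by simp)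
  have e2 : (⟨(1 : Fin (m + 2)).val + 1, h12⟩ : Fin (m + 2)) = 2 := by
    apply Fin.ext
    have h1v : (1 : Fin (m + 2)).val = 1 := by simp
    have h2v : (2 : Fin (m + 2)).val = 2 := by
      have : (2 : Fin (m + 2)).val = 2 % (m + 2) := rfl
      rw [this]; exact Nat.mod_eq_of_lt (by omega)
    simp only [h1v, h2v]
  rw [hgwM, Matrix.mulVec_add, Cfsg.Agent.Lib.Helper82.Sp2G.wC_mulVec_eI m F 0 h01,
    Cfsg.Agent.Lib.Helper82.Sp2G.wC_mulVec_eI m F 1 h12, e1, e2,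
    ← Cfsg.Agent.Lib.Helper82.Sp2G.sO_mulVec_eI_two m hm F, ← hgsM]
  exact Cfsg.Agent.Lib.Helper93.RSp.TG_mulVec (he 2) gs hgs

/-- `Sp_{2n}(F)` is generated by two elements -/
theorem s2411_sp [Fintype F] (hF : m = 0 → 2 < Fintype.card F) :
    ∃ a b : SpG m F, Subgroup.closure ({a, b} : Set (SpG m F)) = ⊤ := by
  have h2 : 2 ≤ Fintype.card F := Fintype.one_lt_card
  rcases Nat.eq_or_lt_of_le h2 with h | h
  · have hm : 1 ≤ m := by
      rcases Nat.eq_zero_or_pos m with h0 | h0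
      · have := hF h0; omega
      · exact h0
    exact s2411_small hm h.symm
  · exact s2411_big h

/-- The projective symplectic group `PSp_{2m}(q)` with `m ≥ 2` (and `q > 2` if `m = 2`) is generated by two of its elements. -/
theorem result {F : Type*} [Field F] [Fintype F] (m : ℕ) (hm : 2 ≤ m) (hF : m = 2 → 2 < Fintype.card F) :
    ∃ a b : Cfsg.PSp m F, Subgroup.closure ({a, b} : Set (Cfsg.PSp m F)) = ⊤ := by
  obtain ⟨m', rfl⟩ : ∃ m', m = m' + 2 := ⟨m - 2, by omega⟩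
  obtain ⟨a, b, hab⟩ := s2411_sp (m := m') (F := F) (fun h => hF (by omega))
  refine ⟨QuotientGroup.mk a, QuotientGroup.mk b, ?_⟩
  have hmap : Subgroup.map (QuotientGroup.mk' (Subgroup.center (Matrix.symplecticGroup (Fin (m' + 2)) F)))
      (Subgroup.closure ({a, b} : Set (SpG m' F))) = ⊤ := by
    rw [hab, ← MonoidHom.range_eq_map, MonoidHom.range_eq_top]
    exact QuotientGroup.mk'_surjective _
  rw [MonoidHom.map_closure] at hmap
  rw [← hmap]
  congr 1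
  ext x
  simp [Set.image_insert_eq]

end Cfsg.Agent.S2411
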