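import Cfsg.Statements.S2416
import Cfsg.Agent.Lib.Helper08.ChevNGenTab

set_option autoImplicit false
open scoped MatrixGroups
open Cfsg

namespace Cfsg.Agent.S2416

open Cfsg.Lie Cfsg.Agent.Lib.Helper24 Cfsg.Agent.Lib.Helper08.ChevNGen

/-- A Chevalley group of type G₂, B₂, D₄, F₄, E₆, E₇ or E₈ over a finite field lies in (indeed equals) the subgroup generated by its monomial subgroup `N` and a single fundamental root subgroup `X_p`, where `p` is a short fundamental root if there are two root lengths (any fundamental root otherwise), provided the characteristic is not 2 for types B₂, F₄ and not 3 for type G₂ (and the field has more than two elements for B₂, G₂). -/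
theorem result {K : Type*} [Field K] [Finite K] (D : Cfsg.Lie.ChevalleyDatum) (hD : D ∈ [Cfsg.Lie.chevG2, Cfsg.Lie.chevB2, Cfsg.Lie.chevD4, Cfsg.Lie.chevF4, Cfsg.Lie.chevE6, Cfsg.Lie.chevE7, Cfsg.Lie.chevE8])
    (hK : D ∈ [Cfsg.Lie.chevB2, Cfsg.Lie.chevG2] → ∃ x : K, x ≠ 0 ∧ x ≠ 1)
    (h2 : D ∈ [Cfsg.Lie.chevB2, Cfsg.Lie.chevF4] → ringChar K ≠ 2) (h3 : D = Cfsg.Lie.chevG2 → ringChar K ≠ 3)
    (i : ℕ) (hi : i < D.rank) (hshort : D.isLong (D.simple i) = false) :
    D.group K ≤ D.monomialSubgroup K ⊔ D.rootSubgroup K (D.simple i) := by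
  have hF := facts_all D hD
  obtain ⟨tab, orb, hN, hH, _⟩ := hnfacts_all D hD
  have hadj := adjOK_all D hD
  have hNM : D.monomialSubgroup K ≤ D.monomialSubgroup K ⊔ D.rootSubgroup K (D.simple i) := le_sup_left
  have hgi : Good hF (D.monomialSubgroup K ⊔ D.rootSubgroup K (D.simple i)) (D.simple i) :=
    fun t => (le_sup_right : D.rootSubgroup K (D.simple i) ≤ _) (xGL_mem_rootSubgroup hF _ t)
  apply group_le_of_good_simple hF hN hH _ hNM
  rcases List.mem_cons.mp hD with rfl | hD1
  · -- G2
    have h3' : (3 : K) ≠ 0 := three_ne_zero_of_ringChar (h3 rfl)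
    have hi0 : i = 0 := by
      have : i < 2 := hi
      rcases (by omega : i = 0 ∨ i = 1) with h | h
      · exact h
      · subst h
        rw [g2_long] at hshort
        exact absurd hshort (by decide)
    subst hi0
    exact simple_good_G2 hF hN hH _ hNM h3' hgi
  rcases List.mem_cons.mp hD1 with rfl | hD2
  · -- B2
    have h2' : (2 : K) ≠ 0 := Ring.two_ne_zero (h2 (by simp))
    have hi0 : i = 0 := by
      have : i < 2 := hi
      rcases (by omega : i = 0 ∨ i = 1) with h | h
      · exact h
      · subst h
        rw [b2_long] at hshort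
        exact absurd hshort (by decide)
    subst hi0
    exact simple_good_B2 hF hN hH _ hNM h2' hgi
  rcases List.mem_cons.mp hD2 with rfl | hD3
  · exact simple_good_laced _ (by simp) hF hN hH _ hNM hadj i hi hgi
  rcases List.mem_cons.mp hD3 with rfl | hD4
  · -- F4
    have h2' : (2 : K) ≠ 0 := Ring.two_ne_zero (h2 (by simp))
    have hi' : i = 0 ∨ i = 1 := by
      have : i < 4 := hi
      rcases (by omega : i = 0 ∨ i = 1 ∨ i = 2 ∨ i = 3) with h | h | h | h
      · exact Or.inl h
      · exact Or.inr h
      · subst h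
        rw [f4_long2] at hshort
        exact absurd hshort (by decide)
      · subst h
        rw [f4_long3] at hshort
        exact absurd hshort (by decide)
    rcases hi' with rfl | rfl
    · have h1 : Good hF (chevF4.monomialSubgroup K ⊔ chevF4.rootSubgroup K (chevF4.simple 0))
          (chevF4.simple 1) :=
        good_adj hF hN hH _ hNM hadj 0 1 (by decide) (by decide) f4_bonds01 hgi
      exact simple_good_F4 hF hN hH _ hNM h2' hadj h1
    · exact simple_good_F4 hF hN hH _ hNM h2' hadj hgi
  rcases List.mem_cons.mp hD4 with rfl | hD5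
  · exact simple_good_laced _ (by simp) hF hN hH _ hNM hadj i hi hgi
  rcases List.mem_cons.mp hD5 with rfl | hD6
  · exact simple_good_laced _ (by simp) hF hN hH _ hNM hadj i hi hgi
  rcases List.mem_cons.mp hD6 with rfl | hD7
  · exact simple_good_laced _ (by simp) hF hN hH _ hNM hadj i hi hgi
  simp at hD7

end Cfsg.Agent.S2416
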