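import Cfsg.Statements.S2417
import Cfsg.Agent.Lib.Helper08.ChevNGenTab

set_option autoImplicit false
open scoped MatrixGroups
open Cfsg

namespace Cfsg.Agent.S2417

open Cfsg.Lie Cfsg.Agent.Lib.Helper24 Cfsg.Agent.Lib.Helper08.ChevNGen

theorem aux {K : Type*} [Field K] (D : ChevalleyDatum)
    (hD3 : D = chevB2 ∨ D = chevF4 ∨ D = chevG2)
    (i j : ℕ) (hi : i < D.rank) (hj : j < D.rank) (hshort : D.isLong (D.simple i) = false)
    (hlong : D.isLong (D.simple j) = true) (hbond : D.bonds i j ≠ 0) :
    D.group K ≤ D.monomialSubgroup K ⊔ D.rootSubgroup K (D.simple i) ⊔ D.rootSubgroup K (D.simple j) := by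
  have hM1 : ∀ D : ChevalleyDatum, D.monomialSubgroup K ≤
      D.monomialSubgroup K ⊔ D.rootSubgroup K (D.simple i) ⊔ D.rootSubgroup K (D.simple j) :=
    fun D => le_trans le_sup_left le_sup_left
  rcases hD3 with rfl | rfl | rfl
  · -- B2
    have hD : chevB2 ∈ [chevG2, chevB2, chevD4, chevF4, chevE6, chevE7, chevE8] := by simp
    have hF := facts_all chevB2 hD
    obtain ⟨tab, orb, hN, hH, _⟩ := hnfacts_all chevB2 hD
    have hi0 : i = 0 := by
      have : i < 2 := hi
      rcases (by omega : i = 0 ∨ i = 1) with h | h
      · exact h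
      · subst h
        rw [b2_long] at hshort
        exact absurd hshort (by decide)
    have hj1 : j = 1 := by
      have : j < 2 := hj
      rcases (by omega : j = 0 ∨ j = 1) with h | h
      · subst h
        rw [b2_short0] at hlong
        exact absurd hlong (by decide)
      · exact h
    subst hi0; subst hj1
    apply group_le_of_good_simple hF hN hH _ (hM1 chevB2)
    intro k hk
    have hk' : k = 0 ∨ k = 1 := by
      have : k < 2 := hk
      omega
    rcases hk' with rfl | rfl
    · exact fun t => (le_trans le_sup_right le_sup_left :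
        chevB2.rootSubgroup K (chevB2.simple 0) ≤ _) (xGL_mem_rootSubgroup hF _ t)
    · exact fun t => (le_sup_right : chevB2.rootSubgroup K (chevB2.simple 1) ≤ _)
        (xGL_mem_rootSubgroup hF _ t)
  · -- F4
    have hD : chevF4 ∈ [chevG2, chevB2, chevD4, chevF4, chevE6, chevE7, chevE8] := by simp
    have hF := facts_all chevF4 hD
    obtain ⟨tab, orb, hN, hH, _⟩ := hnfacts_all chevF4 hD
    have hadj := adjOK_all chevF4 hD
    have hi' : i = 0 ∨ i = 1 := by
      have : i < 4 := hi
      rcases (by omega : i = 0 ∨ i = 1 ∨ i = 2 ∨ i = 3) with h | h | h | h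
      · exact Or.inl h
      · exact Or.inr h
      · subst h
        rw [f4_long2] at hshort
        exact absurd hshort (by decide)
      · subst h
        rw [f4_long3] at hshort
        exact absurd hshort (by decide)
    have hj' : j = 2 ∨ j = 3 := by
      have : j < 4 := hj
      rcases (by omega : j = 0 ∨ j = 1 ∨ j = 2 ∨ j = 3) with h | h | h | h
      · subst h
        rw [f4_short0] at hlong
        exact absurd hlong (by decide)
      · subst h
        rw [f4_short1] at hlong
        exact absurd hlong (by decide)
      · exact Or.inl h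
      · exact Or.inr h
    have hij : i = 1 ∧ j = 2 := by
      rcases hi' with rfl | rfl <;> rcases hj' with rfl | rfl
      · exact absurd f4_bonds02 hbond
      · exact absurd f4_bonds03 hbond
      · exact ⟨rfl, rfl⟩
      · exact absurd f4_bonds13 hbond
    obtain ⟨rfl, rfl⟩ := hij
    apply group_le_of_good_simple hF hN hH _ (hM1 chevF4)
    apply simple_good_F4_of_12 hF hN hH _ (hM1 chevF4) hadj
    · exact fun t => (le_trans le_sup_right le_sup_left :
        chevF4.rootSubgroup K (chevF4.simple 1) ≤ _) (xGL_mem_rootSubgroup hF _ t)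
    · exact fun t => (le_sup_right : chevF4.rootSubgroup K (chevF4.simple 2) ≤ _)
        (xGL_mem_rootSubgroup hF _ t)
  · -- G2
    have hD : chevG2 ∈ [chevG2, chevB2, chevD4, chevF4, chevE6, chevE7, chevE8] := by simp
    have hF := facts_all chevG2 hD
    obtain ⟨tab, orb, hN, hH, _⟩ := hnfacts_all chevG2 hD
    have hi0 : i = 0 := by
      have : i < 2 := hi
      rcases (by omega : i = 0 ∨ i = 1) with h | h
      · exact h
      · subst h
        rw [g2_long] at hshort
        exact absurd hshort (by decide)
    have hj1 : j = 1 := by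
      have : j < 2 := hj
      rcases (by omega : j = 0 ∨ j = 1) with h | h
      · subst h
        rw [g2_short0] at hlong
        exact absurd hlong (by decide)
      · exact h
    subst hi0; subst hj1
    apply group_le_of_good_simple hF hN hH _ (hM1 chevG2)
    intro k hk
    have hk' : k = 0 ∨ k = 1 := by
      have : k < 2 := hk
      omega
    rcases hk' with rfl | rfl
    · exact fun t => (le_trans le_sup_right le_sup_left :
        chevG2.rootSubgroup K (chevG2.simple 0) ≤ _) (xGL_mem_rootSubgroup hF _ t)
    · exact fun t => (le_sup_right : chevG2.rootSubgroup K (chevG2.simple 1) ≤ _)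
        (xGL_mem_rootSubgroup hF _ t)

/-- In the characteristics with an exceptional graph symmetry — type B₂ or F₄ in characteristic 2 (field of more than two elements for B₂) and type G₂ in characteristic 3 — the Chevalley group lies in the subgroup generated by its monomial subgroup `N` and the two fundamental root subgroups `X_a`, `X_b` of a short root `a` and a long root `b` joined in the Dynkin diagram. -/
theorem result {K : Type*} [Field K] [Finite K] (e : Cfsg.Lie.ChevalleyDatum × ℕ)
    (he : e ∈ [(Cfsg.Lie.chevB2, 2), (Cfsg.Lie.chevF4, 2), (Cfsg.Lie.chevG2, 3)]) [CharP K e.2]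
    (hK : e.1 = Cfsg.Lie.chevB2 → ∃ x : K, x ≠ 0 ∧ x ≠ 1)
    (i j : ℕ) (hi : i < e.1.rank) (hj : j < e.1.rank) (hshort : e.1.isLong (e.1.simple i) = false)
    (hlong : e.1.isLong (e.1.simple j) = true) (hbond : e.1.bonds i j ≠ 0) :
    e.1.group K ≤ e.1.monomialSubgroup K ⊔ e.1.rootSubgroup K (e.1.simple i) ⊔ e.1.rootSubgroup K (e.1.simple j) := by
  refine aux e.1 ?_ i j hi hj hshort hlong hbond
  rcases List.mem_cons.mp he with h | he1
  · left; rw [h]
  rcases List.mem_cons.mp he1 with h | he2
  · right; left; rw [h]
  rcases List.mem_cons.mp he2 with h | he3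
  · right; right; rw [h]
  simp at he3

end Cfsg.Agent.S2417
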