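import Cfsg.Statements.S2418
import Cfsg.Agent.Lib.Helper25.CoxB2Mat
import Cfsg.Agent.Lib.Helper25.CoxG2Mat
import Cfsg.Agent.Lib.Helper25.CoxD4Mat
import Cfsg.Agent.Lib.Helper25.CoxF4Mat
import Cfsg.Agent.Lib.Helper25.CoxE6Mat
import Cfsg.Agent.Lib.Helper25.CoxE7Mat
import Cfsg.Agent.Lib.Helper25.CoxE8Mat

set_option autoImplicit false
open Cfsg

namespace Cfsg.Agent.S2418

open Cfsg.Agent.Lib.Helper25.Cox

theorem result (c : (Σ n : ℕ, CoxeterMatrix (Fin n)) × ℕ)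
    (hc : c ∈ [(⟨2, CoxeterMatrix.B 2⟩, 2), (⟨2, CoxeterMatrix.G₂⟩, 2), (⟨4, Cfsg.Lie.coxeterD4⟩, 2), (⟨4, CoxeterMatrix.F₄⟩, 2),
      (⟨6, CoxeterMatrix.E₆⟩, 1), (⟨7, CoxeterMatrix.E₇⟩, 2), (⟨8, CoxeterMatrix.E₈⟩, 2)]) :
    Nat.card (Subgroup.center c.1.2.Group) = c.2 ∧
      Subgroup.center c.1.2.Group ≤ Subgroup.zpowers ((List.finRange c.1.1).map c.1.2.simple).prod := by
  simp only [List.mem_cons, List.not_mem_nil, or_false] at hc
  rcases hc with rfl | rfl | rfl | rfl | rfl | rfl | rfl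
  · exact ⟨B2.center_card, B2.center_le⟩
  · exact ⟨G2.center_card, G2.center_le⟩
  · exact ⟨D4.center_card, D4.center_le⟩
  · exact ⟨F4.center_card, F4.center_le⟩
  · exact ⟨E6.center_card, E6.center_le⟩
  · exact ⟨E7.center_card, E7.center_le⟩
  · exact ⟨E8.center_card, E8.center_le⟩

end Cfsg.Agent.S2418
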