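import Cfsg.Statements.S2419
import Cfsg.Agent.Lib.Helper25.CoxB2Gen
import Cfsg.Agent.Lib.Helper25.CoxG2Gen
import Cfsg.Agent.Lib.Helper25.CoxD4Gen
import Cfsg.Agent.Lib.Helper25.CoxF4Gen
import Cfsg.Agent.Lib.Helper25.CoxE6Gen
import Cfsg.Agent.Lib.Helper25.CoxE7Gen
import Cfsg.Agent.Lib.Helper25.CoxE8Gen

set_option autoImplicit false
open Cfsg

namespace Cfsg.Agent.S2419

open Cfsg.Agent.Lib.Helper25.Cox

theorem result (c : (Σ n : ℕ, CoxeterMatrix (Fin n)) × ℕ)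
    (hc : c ∈ [(⟨2, CoxeterMatrix.B 2⟩, 1), (⟨2, CoxeterMatrix.G₂⟩, 1), (⟨4, Cfsg.Lie.coxeterD4⟩, 2), (⟨4, CoxeterMatrix.F₄⟩, 2),
      (⟨6, CoxeterMatrix.E₆⟩, 1), (⟨7, CoxeterMatrix.E₇⟩, 1), (⟨8, CoxeterMatrix.E₈⟩, 1)]) :
    ∃ T : Finset c.1.2.Group, T.card = c.2 ∧ (∀ t ∈ T, ∃ (g : c.1.2.Group) (i : Fin c.1.1), t = g * c.1.2.simple i * g⁻¹) ∧
      Subgroup.closure (({((List.finRange c.1.1).map c.1.2.simple).prod} : Set c.1.2.Group) ∪ ↑T) = ⊤ := by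
  simp only [List.mem_cons, List.not_mem_nil, or_false] at hc
  rcases hc with rfl | rfl | rfl | rfl | rfl | rfl | rfl
  · exact B2.gen_result
  · exact G2.gen_result
  · exact D4.gen_result
  · exact F4.gen_result
  · exact E6.gen_result
  · exact E7.gen_result
  · exact E8.gen_result

end Cfsg.Agent.S2419
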