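import Cfsg.Statements.S2421
import Cfsg.Agent.Lib.Helper47.UnipotentGL
import Cfsg.Agent.Lib.Helper05.CharDecomp
import Cfsg.Agent.S2424

set_option autoImplicit false
open scoped MatrixGroups
open Cfsg

namespace Cfsg.Agent.S2421

/-- Irreducible characters of `GL_n(q)` indexed by partitions: for `ν` a partition of `n` written with `n` non-decreasing parts `ν_0 ≤ ⋯ ≤ ν_{n−1}` (zeros allowed; positions counted from 0) and `λ_i = ν_i + i`, the alternating sum over permutations `κ` of `{0, …, n−1}` of `sign κ` times the permutation character on partial flags of type `λ − κ` (terms with a negative entry omitted) is an irreducible complex character of `GL_n(q)`. For `ν = (1, …, 1)` this is the Steinberg character. -/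
theorem result {F : Type*} [Field F] [Fintype F] {n : ℕ} (ν : Fin n → ℕ) (hmono : Monotone ν) (hsum : ∑ i, ν i = n) :
    Cfsg.IsIrrCharacter (GL (Fin n) F) (Cfsg.unipotentCharacterGL n F ν) := by
  classical
  have : Fintype (GL (Fin n) F) := Fintype.ofFinite _
  have hgen := Lib.Helper47.unipotent_isGeneralizedCharacter (F := F) ν
  have hnorm := Lib.Helper47.classInner_unipotent (F := F) ν ν hmono hsum hmono hsum
  rw [if_pos rfl] at hnorm
  rcases Lib.Helper34.irr_or_neg_irr_of_norm_one hgen hnorm with h | h
  · exact h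
  · exfalso
    obtain ⟨d, hd, hd1⟩ := Lib.Helper05.exists_pos_degree h
    have hχ : Cfsg.unipotentCharacterGL n F ν 1 = -(d : ℂ) := by
      have : (-Cfsg.unipotentCharacterGL n F ν) 1 = -(Cfsg.unipotentCharacterGL n F ν 1) := rfl
      rw [this] at hd1
      rw [← hd1, neg_neg]
    have h24 := Cfsg.Agent.S2424.result (F := F) (q := Fintype.card F) rfl ν hmono hsum
    have hq1 : 1 ≤ Fintype.card F := Fintype.card_pos
    -- the left coefficient is a positive natural number
    set A : ℕ := Fintype.card F ^ (n * (n - 1) * (n - 2) / 6) *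
      ∏ i : Fin n, ∏ j ∈ Finset.range (ν i + i.val),
        (∑ l ∈ Finset.range (j + 1), Fintype.card F ^ l) with hA
    have hApos : 0 < A := by
      apply Nat.mul_pos (pow_pos hq1 _)
      apply Finset.prod_pos
      intro i _
      apply Finset.prod_pos
      intro j _
      apply lt_of_lt_of_le _ (Finset.single_le_sum (fun l _ => Nat.zero_le _)
        (Finset.mem_range.mpr (Nat.succ_pos j)))
      simp
    -- the right side is a natural number
    have hQmono : ∀ a b : ℕ, a ≤ b → (∑ l ∈ Finset.range a, Fintype.card F ^ l) ≤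
        ∑ l ∈ Finset.range b, Fintype.card F ^ l := by
      intro a b hab
      exact Finset.sum_le_sum_of_subset (Finset.range_subset_range.mpr hab)
    set B : ℕ := (∏ j ∈ Finset.range n, (∑ l ∈ Finset.range (j + 1), Fintype.card F ^ l)) *
      ∏ i : Fin n, ∏ j ∈ Finset.univ.filter (fun j : Fin n => i < j),
        ((∑ l ∈ Finset.range (ν j + j.val), Fintype.card F ^ l) -
          (∑ l ∈ Finset.range (ν i + i.val), Fintype.card F ^ l)) with hB
    have hBeq : (∏ j ∈ Finset.range n,
        ((∑ l ∈ Finset.range (j + 1), Fintype.card F ^ l : ℕ) : ℂ)) *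
        ∏ i : Fin n, ∏ j ∈ Finset.univ.filter (fun j : Fin n => i < j),
          (((∑ l ∈ Finset.range (ν j + j.val), Fintype.card F ^ l : ℕ) : ℂ) -
            ((∑ l ∈ Finset.range (ν i + i.val), Fintype.card F ^ l : ℕ) : ℂ)) = (B : ℂ) := by
      rw [hB, Nat.cast_mul, Nat.cast_prod, Nat.cast_prod]
      congr 1
      apply Finset.prod_congr rfl
      intro i _
      rw [Nat.cast_prod]
      apply Finset.prod_congr rfl
      intro j hj
      rw [Finset.mem_filter] at hj
      rw [Nat.cast_sub]
      apply hQmono
      have := hmono hj.2.le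
      have h2 : i.val < j.val := hj.2
      omega
    have hAeq : (Fintype.card F : ℂ) ^ (n * (n - 1) * (n - 2) / 6) *
        ∏ i : Fin n, ∏ j ∈ Finset.range (ν i + i.val),
          ((∑ l ∈ Finset.range (j + 1), Fintype.card F ^ l : ℕ) : ℂ) = (A : ℂ) := by
      rw [hA]
      push_cast
      rfl
    rw [mul_assoc, hAeq, hBeq, hχ] at h24
    have h3 : ((d * A + B : ℕ) : ℂ) = 0 := by
      push_cast
      linear_combination (-1 : ℂ) * h24
    rw [Nat.cast_eq_zero] at h3
    have h4 : d * A = 0 := by omega
    rcases Nat.mul_eq_zero.mp h4 with h5 | h5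
    · omega
    · omega

end Cfsg.Agent.S2421
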