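import Cfsg.Statements.S2423
import Cfsg.Agent.Lib.Helper47.BruhatGL

set_option autoImplicit false
open scoped MatrixGroups
open Cfsg

namespace Cfsg.Agent.S2423

/-- The comparison of `GL_n(q)` with the symmetric group on flags: for partitions `ν`, `μ` of `n` (each with `n` non-decreasing parts, zeros allowed), the inner product of the permutation characters of `GL_n(q)` on partial flags of types `ν` and `μ` equals the inner product of the permutation characters of `Sym(n)` on the cosets of the Young subgroups of types `ν` and `μ` (both count the orbits on pairs). -/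
theorem result {F : Type*} [Field F] [Fintype F] [DecidableEq F] {n : ℕ} (ν μ : Fin n → ℕ) (hν : Monotone ν) (hνs : ∑ i, ν i = n)
    (hμ : Monotone μ) (hμs : ∑ i, μ i = n) :
    (Nat.card (GL (Fin n) F) : ℂ)⁻¹ * ∑ g : GL (Fin n) F,
        Cfsg.fixedPointCharacter (Cfsg.parabolicGL n F ν) g * Cfsg.fixedPointCharacter (Cfsg.parabolicGL n F μ) g =
      (Nat.card (Equiv.Perm (Fin n)) : ℂ)⁻¹ * ∑ σ : Equiv.Perm (Fin n),
        Cfsg.fixedPointCharacter (Cfsg.youngSubgroup ν) σ * Cfsg.fixedPointCharacter (Cfsg.youngSubgroup μ) σ := by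
  classical
  have hG := Lib.Helper47.fpc_inner_eq_card_range (Cfsg.parabolicGL n F ν) (Cfsg.parabolicGL n F μ)
    (Lib.Helper47.permGL F (n := n))
    (Lib.Helper47.permTable (Cfsg.compLabel ν) (Cfsg.compLabel μ))
    (fun g => Lib.Helper47.parabolic_dc_exists ν μ g)
    (by
      intro σ τ
      constructor
      · exact Lib.Helper47.permTable_eq_of_dcRel ν μ σ τ
      · intro h
        obtain ⟨α, β, hα, hβ, rfl⟩ := Lib.Helper47.exists_of_permTable_eq _ _ σ τ h
        refine ⟨Lib.Helper47.permGL F α, Lib.Helper47.permGL_mem_parabolic F ν α hα,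
          Lib.Helper47.permGL F β, Lib.Helper47.permGL_mem_parabolic F μ β hβ, ?_⟩
        rw [map_mul, map_mul])
  have hS := Lib.Helper47.fpc_inner_eq_card_range (Cfsg.youngSubgroup ν) (Cfsg.youngSubgroup μ)
    (fun σ : Equiv.Perm (Fin n) => σ)
    (Lib.Helper47.permTable (Cfsg.compLabel ν) (Cfsg.compLabel μ))
    (fun g => ⟨g, 1, Subgroup.one_mem _, 1, Subgroup.one_mem _, by simp⟩)
    (by
      intro σ τ
      constructor
      · rintro ⟨α, hα, β, hβ, rfl⟩
        exact (Lib.Helper47.permTable_mul _ _ α σ β hα hβ).symm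
      · intro h
        obtain ⟨α, β, hα, hβ, rfl⟩ := Lib.Helper47.exists_of_permTable_eq _ _ σ τ h
        exact ⟨α, hα, β, hβ, rfl⟩)
  rw [hG, hS]

end Cfsg.Agent.S2423
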