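import Cfsg.Statements.S2432
import Cfsg.Agent.Lib.Helper47.PrincipalSeriesInner

set_option autoImplicit false
open Cfsg

namespace Cfsg.Agent.S2432

open Cfsg.Agent.Lib.Helper47
open scoped ComplexConjugate

section
variable {F : Type*} [Field F] [Fintype F] [DecidableEq F]

theorem sum_one (α β : MulChar F ℂ) :
    (α = β → ∑ a : Fˣ, α (a : F) * conj (β (a : F)) = (Fintype.card F : ℂ) - 1) ∧
    (α ≠ β → ∑ a : Fˣ, α (a : F) * conj (β (a : F)) = 0) := by
  classical
  have e : ∀ a : Fˣ, α (a : F) * conj (β (a : F)) = (α * β⁻¹) (a : F) := by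
    intro a
    rw [MulChar.mul_apply, ← MulChar.star_apply']
    rfl
  simp only [e]
  rw [sum_units_mulChar]
  constructor
  · intro h
    rw [if_pos (by rw [h, mul_inv_cancel])]
  · intro h
    rw [if_neg (fun h' => h (mul_inv_eq_one.mp h'))]

theorem sum_two (α β : MulChar F ℂ) :
    (α = β⁻¹ → ∑ a : Fˣ, α (a : F) * conj (β ((a : F)⁻¹)) = (Fintype.card F : ℂ) - 1) ∧
    (α ≠ β⁻¹ → ∑ a : Fˣ, α (a : F) * conj (β ((a : F)⁻¹)) = 0) := by
  classical
  have e : ∀ a : Fˣ, α (a : F) * conj (β ((a : F)⁻¹)) = (α * β) (a : F) := by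
    intro a
    rw [MulChar.mul_apply]
    congr 1
    have : conj (β ((a : F)⁻¹)) = star (β ((a : F)⁻¹)) := rfl
    rw [this, MulChar.star_apply', MulChar.inv_apply', inv_inv]
  simp only [e]
  rw [sum_units_mulChar]
  constructor
  · intro h
    rw [if_pos (by rw [h, inv_mul_cancel])]
  · intro h
    rw [if_neg (fun h' => h (mul_eq_one_iff_eq_inv.mp h'))]

/-- the inner product in terms of the two character sums -/
theorem inner_eq (α β : MulChar F ℂ) :
    Cfsg.classInner
      (Cfsg.indFun (borel F) (fun b => α (((b : Matrix.SpecialLinearGroup (Fin 2) F) : Matrix (Fin 2) (Fin 2) F) 0 0)))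
      (Cfsg.indFun (borel F) (fun b => β (((b : Matrix.SpecialLinearGroup (Fin 2) F) : Matrix (Fin 2) (Fin 2) F) 0 0))) =
    ((Fintype.card F : ℂ) - 1)⁻¹ * ((∑ a : Fˣ, α (a : F) * conj (β (a : F))) +
      ∑ a : Fˣ, α (a : F) * conj (β ((a : F)⁻¹))) := by
  have hq2 : 2 ≤ Fintype.card F := Fintype.one_lt_card
  have hQ : (Fintype.card F : ℂ) ≠ 0 := by
    have : Fintype.card F ≠ 0 := by omega
    exact_mod_cast this
  have hQ1 : (Fintype.card F : ℂ) - 1 ≠ 0 := by
    have : (Fintype.card F : ℂ) ≠ 1 := by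
      have : Fintype.card F ≠ 1 := by omega
      exact_mod_cast this
    exact sub_ne_zero.mpr this
  have hB : (((Fintype.card F - 1) * Fintype.card F : ℕ) : ℂ) =
      ((Fintype.card F : ℂ) - 1) * (Fintype.card F : ℂ) := by
    rw [Nat.cast_mul, Nat.cast_sub (by omega), Nat.cast_one]
  have hG : (Fintype.card (Matrix.SpecialLinearGroup (Fin 2) F) : ℂ) =
      (Fintype.card F : ℂ) * ((Fintype.card F : ℂ) - 1) * ((Fintype.card F : ℂ) + 1) := by
    rw [← Nat.card_eq_fintype_card, card_SL2', Nat.cast_mul, Nat.cast_mul, Nat.cast_sub (by omega),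
      Nat.cast_add, Nat.cast_one]
  have hGne : (Fintype.card (Matrix.SpecialLinearGroup (Fin 2) F) : ℂ) ≠ 0 := by
    have : Fintype.card (Matrix.SpecialLinearGroup (Fin 2) F) ≠ 0 := Fintype.card_ne_zero
    exact_mod_cast this
  unfold Cfsg.classInner
  simp only [indFun_borel]
  rw [hB, Nat.card_eq_fintype_card]
  set S₁ := ∑ a : Fˣ, α (a : F) * conj (β (a : F)) with hS₁
  set S₂ := ∑ a : Fˣ, α (a : F) * conj (β ((a : F)⁻¹)) with hS₂
  set B : ℂ := ((Fintype.card F : ℂ) - 1) * (Fintype.card F : ℂ) with hBdef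
  have hBconj : conj B⁻¹ = B⁻¹ := by
    rw [hBdef]
    simp only [map_inv₀, map_mul, map_sub, map_natCast, map_one]
  have step1 : ∀ g : Matrix.SpecialLinearGroup (Fin 2) F,
      (B⁻¹ * ∑ x : Matrix.SpecialLinearGroup (Fin 2) F, thetaExt α (x⁻¹ * g * x)) *
        conj (B⁻¹ * ∑ y : Matrix.SpecialLinearGroup (Fin 2) F, thetaExt β (y⁻¹ * g * y)) =
      B⁻¹ * B⁻¹ * ((∑ x : Matrix.SpecialLinearGroup (Fin 2) F, thetaExt α (x⁻¹ * g * x)) *
        conj (∑ y : Matrix.SpecialLinearGroup (Fin 2) F, thetaExt β (y⁻¹ * g * y))) := by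
    intro g
    rw [map_mul, hBconj]
    ring
  simp only [step1]
  rw [← Finset.mul_sum, sum_conj_sums]
  have step2 : ∀ z : Matrix.SpecialLinearGroup (Fin 2) F,
      ∑ h : Matrix.SpecialLinearGroup (Fin 2) F, thetaExt α h * conj (thetaExt β (z⁻¹ * h * z)) =
      S₂ + (if z.1 1 0 = 0 then ((Fintype.card F : ℂ) * S₁ - S₂) else 0) := by
    intro z
    by_cases hz : z.1 1 0 = 0
    · rw [if_pos hz, inner_sum_borel α β z hz]; ring
    · rw [if_neg hz, inner_sum_not_borel α β z hz, add_zero]
  simp only [step2]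
  rw [Finset.sum_add_distrib, Finset.sum_const, Finset.card_univ, ← Finset.sum_filter,
    Finset.sum_const, card_filter_10, nsmul_eq_mul, nsmul_eq_mul, hB, hG]
  rw [hBdef]
  field_simp
  ring

end

/-- Let F be a finite field with q elements, q odd, and for a multiplicative character α of F let R(α) be the function on SL₂ induced from the linear character b ↦ α(b₁₁) of the upper triangular subgroup. For multiplicative characters α, β the inner product of R(α) and R(β) equals the number of true statements among 'α = β' and 'α = β⁻¹' (the Mackey formula for the upper triangular subgroup, whose intersection with a conjugate by the Weyl element is the diagonal subgroup). -/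
theorem result {F : Type*} [Field F] [Fintype F] [DecidableEq F] (hodd : Odd (Fintype.card F))
    (α β : MulChar F ℂ) [Decidable (α = β)] [Decidable (α = β⁻¹)] :
    Cfsg.classInner (Cfsg.indFun ((Cfsg.upperTriangularGL 2 F).comap Matrix.SpecialLinearGroup.toGL) (fun b => α (((b : Matrix.SpecialLinearGroup (Fin 2) F) : Matrix (Fin 2) (Fin 2) F) 0 0))) (Cfsg.indFun ((Cfsg.upperTriangularGL 2 F).comap Matrix.SpecialLinearGroup.toGL) (fun b => β (((b : Matrix.SpecialLinearGroup (Fin 2) F) : Matrix (Fin 2) (Fin 2) F) 0 0))) =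
      (if α = β then 1 else 0) + (if α = β⁻¹ then 1 else 0) := by
  have key := inner_eq α β
  unfold Cfsg.Agent.Lib.Helper47.borel at key
  rw [key]
  have hq2 : 2 ≤ Fintype.card F := Fintype.one_lt_card
  have hQ1 : (Fintype.card F : ℂ) - 1 ≠ 0 := by
    have : (Fintype.card F : ℂ) ≠ 1 := by
      have : Fintype.card F ≠ 1 := by omega
      exact_mod_cast this
    exact sub_ne_zero.mpr this
  obtain ⟨a1, a2⟩ := sum_one α β
  obtain ⟨b1, b2⟩ := sum_two α β
  by_cases h1 : α = β <;> by_cases h2 : α = β⁻¹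
  · rw [if_pos h1, if_pos h2, a1 h1, b1 h2]
    field_simp
  · rw [if_pos h1, if_neg h2, a1 h1, b2 h2]
    field_simp
    ring
  · rw [if_neg h1, if_pos h2, a2 h1, b1 h2]
    field_simp
    ring
  · rw [if_neg h1, if_neg h2, a2 h1, b2 h2]
    simp

end Cfsg.Agent.S2432
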