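import Cfsg.Statements.S2433
import Cfsg.Agent.Lib.Helper47.PrincipalSeries

set_option autoImplicit false
open Cfsg

namespace Cfsg.Agent.S2433

/-- Let F be a finite field with q elements, q odd, α a multiplicative character of F, and R(α) the function on SL₂ induced from the linear character b ↦ α(b₁₁) of the upper triangular subgroup. Then R(α) takes the value α(a) + α(a⁻¹) at a diagonal element with entries a, a⁻¹, a² ≠ 1; the value 0 at every element with no eigenvector in F²; the value α(ε) at an upper triangular element with both diagonal entries ε and non-zero upper right entry; and the value (q + 1)α(ε) at the scalar element ε (ε = ±1). -/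
theorem result {F : Type*} [Field F] [Fintype F] [DecidableEq F] (hodd : Odd (Fintype.card F)) (α : MulChar F ℂ) (g : Matrix.SpecialLinearGroup (Fin 2) F) :
    ((g : Matrix (Fin 2) (Fin 2) F) 0 1 = 0 → (g : Matrix (Fin 2) (Fin 2) F) 1 0 = 0 → (g : Matrix (Fin 2) (Fin 2) F) 0 0 ^ 2 ≠ 1 →
      (Cfsg.indFun ((Cfsg.upperTriangularGL 2 F).comap Matrix.SpecialLinearGroup.toGL) (fun b => α (((b : Matrix.SpecialLinearGroup (Fin 2) F) : Matrix (Fin 2) (Fin 2) F) 0 0))) g = α ((g : Matrix (Fin 2) (Fin 2) F) 0 0) + α ((g : Matrix (Fin 2) (Fin 2) F) 1 1)) ∧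
    ((∀ (c : F) (v : Fin 2 → F), v ≠ 0 → (g : Matrix (Fin 2) (Fin 2) F).mulVec v ≠ c • v) → (Cfsg.indFun ((Cfsg.upperTriangularGL 2 F).comap Matrix.SpecialLinearGroup.toGL) (fun b => α (((b : Matrix.SpecialLinearGroup (Fin 2) F) : Matrix (Fin 2) (Fin 2) F) 0 0))) g = 0) ∧
    ((g : Matrix (Fin 2) (Fin 2) F) 1 0 = 0 → (g : Matrix (Fin 2) (Fin 2) F) 0 0 = (g : Matrix (Fin 2) (Fin 2) F) 1 1 → (g : Matrix (Fin 2) (Fin 2) F) 0 1 ≠ 0 →
      (Cfsg.indFun ((Cfsg.upperTriangularGL 2 F).comap Matrix.SpecialLinearGroup.toGL) (fun b => α (((b : Matrix.SpecialLinearGroup (Fin 2) F) : Matrix (Fin 2) (Fin 2) F) 0 0))) g = α ((g : Matrix (Fin 2) (Fin 2) F) 0 0)) ∧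
    ((g : Matrix (Fin 2) (Fin 2) F) 0 1 = 0 → (g : Matrix (Fin 2) (Fin 2) F) 1 0 = 0 → (g : Matrix (Fin 2) (Fin 2) F) 0 0 = (g : Matrix (Fin 2) (Fin 2) F) 1 1 →
      (Cfsg.indFun ((Cfsg.upperTriangularGL 2 F).comap Matrix.SpecialLinearGroup.toGL) (fun b => α (((b : Matrix.SpecialLinearGroup (Fin 2) F) : Matrix (Fin 2) (Fin 2) F) 0 0))) g = ((Fintype.card F : ℂ) + 1) * α ((g : Matrix (Fin 2) (Fin 2) F) 0 0)) := by
  open Cfsg.Agent.Lib.Helper47 in
  have hq2 : 2 ≤ Fintype.card F := Fintype.one_lt_card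
  have hBne : (((Fintype.card F - 1) * Fintype.card F : ℕ) : ℂ) ≠ 0 := by
    have : (Fintype.card F - 1) * Fintype.card F ≠ 0 := by
      apply Nat.mul_ne_zero <;> omega
    exact_mod_cast this
  have hdet := det_eq g
  have hind := indFun_borel α g
  unfold Cfsg.Agent.Lib.Helper47.borel at hind
  refine ⟨?_, ?_, ?_, ?_⟩
  · intro h01 h10 hsq
    rw [h01, zero_mul, sub_zero] at hdet
    have hne : g.1 1 1 - g.1 0 0 ≠ 0 := by
      intro h
      apply hsq
      have : g.1 1 1 = g.1 0 0 := sub_eq_zero.mp h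
      rw [this] at hdet
      rw [pow_two]; exact hdet
    have key : ∀ x : Matrix.SpecialLinearGroup (Fin 2) F, thetaExt α (x⁻¹ * g * x) =
        (if x.1 1 0 = 0 then α (g.1 0 0) else 0) + (if x.1 0 0 = 0 then α (g.1 1 1) else 0) := by
      intro x
      have hdx := det_eq x
      have e10 : (x⁻¹ * g * x).1 1 0 = x.1 0 0 * x.1 1 0 * (g.1 1 1 - g.1 0 0) := by
        rw [conj_inv_10]
        change -(x.1 1 0 * x.1 0 0 * g.1 0 0) + x.1 0 0 ^ 2 * (g : Matrix (Fin 2) (Fin 2) F) 1 0 -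
          x.1 1 0 ^ 2 * (g : Matrix (Fin 2) (Fin 2) F) 0 1 + x.1 0 0 * x.1 1 0 * g.1 1 1 = _
        rw [h01, h10]; ring
      have e00 : (x⁻¹ * g * x).1 0 0 = x.1 1 1 * g.1 0 0 * x.1 0 0 - x.1 0 1 * g.1 1 1 * x.1 1 0 := by
        rw [conj_inv_00]
        change (x.1 1 1 * g.1 0 0 - x.1 0 1 * (g : Matrix (Fin 2) (Fin 2) F) 1 0) * x.1 0 0 +
          (x.1 1 1 * (g : Matrix (Fin 2) (Fin 2) F) 0 1 - x.1 0 1 * g.1 1 1) * x.1 1 0 = _
        rw [h01, h10]; ring
      unfold thetaExt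
      by_cases hx10 : x.1 1 0 = 0
      · have hx00 : x.1 0 0 ≠ 0 := by
          intro h
          rw [h, hx10] at hdx
          simp at hdx
        rw [if_pos (by rw [e10, hx10]; ring), if_pos hx10, if_neg hx00, add_zero, e00]
        congr 1
        rw [hx10, mul_zero, sub_zero] at hdx ⊢
        linear_combination g.1 0 0 * hdx
      · rw [if_neg hx10, zero_add]
        by_cases hx00 : x.1 0 0 = 0
        · rw [if_pos (by rw [e10, hx00]; ring), if_pos hx00, e00]
          congr 1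
          rw [hx00, zero_mul, zero_sub] at hdx
          rw [hx00]
          linear_combination g.1 1 1 * hdx
        · rw [if_neg hx00, if_neg]
          rw [e10]
          exact mul_ne_zero (mul_ne_zero hx00 hx10) hne
    rw [hind]
    simp only [key]
    rw [Finset.sum_add_distrib, ← Finset.sum_filter, ← Finset.sum_filter, Finset.sum_const,
      Finset.sum_const, card_filter_10, card_filter_00, ← smul_add, nsmul_eq_mul,
      ← mul_assoc, inv_mul_cancel₀ hBne, one_mul]
  · intro hnoeig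
    have key : ∀ x : Matrix.SpecialLinearGroup (Fin 2) F, thetaExt α (x⁻¹ * g * x) = 0 := by
      intro x
      unfold thetaExt
      rw [if_neg]
      intro h
      obtain ⟨c, v, hv, hcv⟩ := exists_eigenvector_of_conj x g h
      exact hnoeig c v hv hcv
    rw [hind]
    simp only [key, Finset.sum_const_zero, mul_zero]
  · intro h10 h0011 h01
    have key : ∀ x : Matrix.SpecialLinearGroup (Fin 2) F, thetaExt α (x⁻¹ * g * x) =
        (if x.1 1 0 = 0 then α (g.1 0 0) else 0) := by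
      intro x
      have hdx := det_eq x
      have e10 : (x⁻¹ * g * x).1 1 0 = -(x.1 1 0 ^ 2 * g.1 0 1) := by
        rw [conj_inv_10]
        change -(x.1 1 0 * x.1 0 0 * (g : Matrix (Fin 2) (Fin 2) F) 0 0) + x.1 0 0 ^ 2 * (g : Matrix (Fin 2) (Fin 2) F) 1 0 -
          x.1 1 0 ^ 2 * g.1 0 1 + x.1 0 0 * x.1 1 0 * (g : Matrix (Fin 2) (Fin 2) F) 1 1 = _
        rw [h10, h0011]; ring
      unfold thetaExt
      by_cases hx10 : x.1 1 0 = 0
      · rw [if_pos (by rw [e10, hx10]; ring), if_pos hx10, conj_inv_00]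
        congr 1
        change (x.1 1 1 * g.1 0 0 - x.1 0 1 * (g : Matrix (Fin 2) (Fin 2) F) 1 0) * x.1 0 0 +
          (x.1 1 1 * g.1 0 1 - x.1 0 1 * g.1 1 1) * x.1 1 0 = _
        rw [hx10, mul_zero, sub_zero] at hdx
        rw [h10, hx10]
        linear_combination g.1 0 0 * hdx
      · rw [if_neg hx10, if_neg]
        rw [e10]
        exact neg_ne_zero.mpr (mul_ne_zero (pow_ne_zero 2 hx10) h01)
    rw [hind]
    simp only [key]
    rw [← Finset.sum_filter, Finset.sum_const, card_filter_10, nsmul_eq_mul,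
      ← mul_assoc, inv_mul_cancel₀ hBne, one_mul]
  · intro h01 h10 h0011
    have key : ∀ x : Matrix.SpecialLinearGroup (Fin 2) F, thetaExt α (x⁻¹ * g * x) =
        α (g.1 0 0) := by
      intro x
      have hdx := det_eq x
      have e10 : (x⁻¹ * g * x).1 1 0 = 0 := by
        rw [conj_inv_10]
        change -(x.1 1 0 * x.1 0 0 * (g : Matrix (Fin 2) (Fin 2) F) 0 0) + x.1 0 0 ^ 2 * (g : Matrix (Fin 2) (Fin 2) F) 1 0 -
          x.1 1 0 ^ 2 * (g : Matrix (Fin 2) (Fin 2) F) 0 1 + x.1 0 0 * x.1 1 0 * (g : Matrix (Fin 2) (Fin 2) F) 1 1 = _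
        rw [h10, h01, h0011]; ring
      unfold thetaExt
      rw [if_pos e10, conj_inv_00]
      congr 1
      change (x.1 1 1 * (g : Matrix (Fin 2) (Fin 2) F) 0 0 - x.1 0 1 * (g : Matrix (Fin 2) (Fin 2) F) 1 0) * x.1 0 0 +
          (x.1 1 1 * (g : Matrix (Fin 2) (Fin 2) F) 0 1 - x.1 0 1 * (g : Matrix (Fin 2) (Fin 2) F) 1 1) * x.1 1 0 = _
      rw [h10, h01, ← h0011]
      linear_combination (g : Matrix (Fin 2) (Fin 2) F) 0 0 * hdx
    rw [hind]
    simp only [key]
    have hG : Fintype.card (Matrix.SpecialLinearGroup (Fin 2) F) =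
        Fintype.card F * (Fintype.card F - 1) * (Fintype.card F + 1) := by
      rw [← Nat.card_eq_fintype_card, card_SL2']
    rw [Finset.sum_const, Finset.card_univ, hG, nsmul_eq_mul]
    have e : Fintype.card F * (Fintype.card F - 1) * (Fintype.card F + 1) =
        ((Fintype.card F - 1) * Fintype.card F) * (Fintype.card F + 1) := by ring
    rw [e, Nat.cast_mul ((Fintype.card F - 1) * Fintype.card F), ← mul_assoc, ← mul_assoc,
      inv_mul_cancel₀ hBne, one_mul]
    push_cast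
    rfl

end Cfsg.Agent.S2433
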