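import Cfsg.Statements.S2434
import Cfsg.Agent.Lib.Helper45.SL2Discrete2

set_option autoImplicit false
open Cfsg

namespace Cfsg.Agent.S2434

open Cfsg.Agent.Lib.Helper45 Cfsg.Agent.Lib

/-- Let F be a finite field with q elements, q odd, and C a cyclic subgroup of order q + 1 of SL₂ over F (a non-split torus; it contains the centre). For every homomorphism θ from C to the non-zero complex numbers with θ² ≠ 1 there is an irreducible complex character χ of degree q − 1 such that χ(c) = −θ(c) − θ(c)⁻¹ for every non-central c in C, χ(zg) = θ(z)χ(g) for central z in C, χ vanishes at diagonal elements with entry a, a² ≠ 1, and χ takes the value −1 at every upper unitriangular element other than 1. Conversely every irreducible character of degree q − 1 has, for some such θ, the values −θ(c) − θ(c)⁻¹ at the non-central elements c of C (for q ≥ 5 these are exactly the cuspidal characters of degree q − 1). -/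
theorem result {F : Type*} [Field F] [Fintype F] (hodd : Odd (Fintype.card F))
    (C : Subgroup (Matrix.SpecialLinearGroup (Fin 2) F)) (hC : IsCyclic C) (hcard : Nat.card C = Fintype.card F + 1) :
    (∀ θ : C →* ℂˣ, (∃ c : C, θ c ^ 2 ≠ 1) →
      ∃ χ : Matrix.SpecialLinearGroup (Fin 2) F → ℂ, Cfsg.IsIrrCharacter (Matrix.SpecialLinearGroup (Fin 2) F) χ ∧ χ 1 = (Fintype.card F : ℂ) - 1 ∧
        (∀ c : C, (c : Matrix.SpecialLinearGroup (Fin 2) F) ∉ Subgroup.center (Matrix.SpecialLinearGroup (Fin 2) F) → χ c = -((θ c).val + (θ c)⁻¹.val)) ∧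
        (∀ c : C, (c : Matrix.SpecialLinearGroup (Fin 2) F) ∈ Subgroup.center (Matrix.SpecialLinearGroup (Fin 2) F) → ∀ g : Matrix.SpecialLinearGroup (Fin 2) F, χ ((c : Matrix.SpecialLinearGroup (Fin 2) F) * g) = (θ c).val * χ g) ∧
        (∀ g : Matrix.SpecialLinearGroup (Fin 2) F, (g : Matrix (Fin 2) (Fin 2) F) 0 1 = 0 → (g : Matrix (Fin 2) (Fin 2) F) 1 0 = 0 → (g : Matrix (Fin 2) (Fin 2) F) 0 0 ^ 2 ≠ 1 → χ g = 0) ∧
        (∀ g : Matrix.SpecialLinearGroup (Fin 2) F, (g : Matrix (Fin 2) (Fin 2) F) 1 0 = 0 → (g : Matrix (Fin 2) (Fin 2) F) 0 0 = 1 → (g : Matrix (Fin 2) (Fin 2) F) 1 1 = 1 → (g : Matrix (Fin 2) (Fin 2) F) 0 1 ≠ 0 → χ g = -1)) ∧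
    (∀ χ : Matrix.SpecialLinearGroup (Fin 2) F → ℂ, Cfsg.IsIrrCharacter (Matrix.SpecialLinearGroup (Fin 2) F) χ → χ 1 = (Fintype.card F : ℂ) - 1 →
      ∃ θ : C →* ℂˣ, (∃ c : C, θ c ^ 2 ≠ 1) ∧
        ∀ c : C, (c : Matrix.SpecialLinearGroup (Fin 2) F) ∉ Subgroup.center (Matrix.SpecialLinearGroup (Fin 2) F) → χ c = -((θ c).val + (θ c)⁻¹.val)) := by
  classical
  have hodd' : Fintype.card F % 2 = 1 := Nat.odd_iff.mp hodd
  have hq2 : 2 ≤ Fintype.card F := Fintype.one_lt_card
  have hcomm : ∀ a ∈ C, ∀ b ∈ C, a * b = b * a := by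
    intro a ha b hb
    have := (isMulCommutative_iff.mp (IsCyclic.isMulCommutative (α := C))) (⟨a, ha⟩ : C) ⟨b, hb⟩
    exact congrArg Subtype.val this
  have hiff : ∀ θ : C →* ℂˣ, (∃ c : C, θ c ^ 2 ≠ 1) ↔ θ⁻¹ ^ 2 ≠ 1 := by
    intro θ
    constructor
    · rintro ⟨c, hc⟩ h
      apply hc
      have h1 := congrArg (fun φ : C →* ℂˣ => φ c) h
      simp only [MonoidHom.pow_apply, MonoidHom.inv_apply, MonoidHom.one_apply] at h1
      rw [inv_pow, inv_eq_one] at h1
      exact h1
    · intro h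
      by_contra hne
      push Not at hne
      apply h
      ext c
      simp only [MonoidHom.pow_apply, MonoidHom.inv_apply, MonoidHom.one_apply]
      rw [inv_pow, hne c, inv_one]
  constructor
  · intro θ hθ
    obtain ⟨χ, hχ, hdeg, hval, hcen, hsplit, hunip⟩ :=
      exists_discrete hodd' C hcomm hcard θ ((hiff θ).mp hθ)
    refine ⟨χ, hχ, hdeg, hval, ?_, ?_, ?_⟩
    · intro c hc g
      have h1 := Helper83.irr_mul_central (⟨χ, hχ⟩ : IrrCharacter _) hc g
      change χ (g * c) = χ g * χ c / χ 1 at h1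
      rw [(Subgroup.mem_center_iff.mp hc g).symm, h1, hcen c hc, hdeg]
      have hq : (Fintype.card F : ℂ) - 1 ≠ 0 := card_sub_one_ne_zero_C
      field_simp
    · intro g h01 h10 hsq
      obtain ⟨a, ha, rfl⟩ := eq_slUT_of_diag h01 h10
      apply hsplit
      intro h
      apply hsq
      rw [← ha, sq]
      nth_rewrite 1 [← h]
      rw [← Units.val_mul, inv_mul_cancel, Units.val_one]
    · intro g h10 h00 h11 h01
      rw [eq_slT_of_unitriangular h10 h00 h11]
      exact hunip _ h01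
  · intro χ hχ hdeg
    by_cases hq5 : 5 ≤ Fintype.card F
    · obtain ⟨θ, hθ, hval⟩ := discrete_exhaust hodd' C hcomm hcard hq5 hχ hdeg
      exact ⟨θ, (hiff θ).mpr hθ, hval⟩
    · have hq3 : Fintype.card F = 3 := by omega
      obtain ⟨θ, hθ, hval⟩ := discrete_exhaust_three hodd' C hcomm hcard hq3 hχ hdeg
      exact ⟨θ, (hiff θ).mpr hθ, hval⟩

end Cfsg.Agent.S2434
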