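import Cfsg.Statements.S2436
import Cfsg.Agent.Lib.Helper47.SL2McKayTwo
import Cfsg.Agent.Lib.Helper47.SL2McKayTori
import Cfsg.Agent.Lib.Helper47.SL2McKayBorel

set_option autoImplicit false
open Cfsg

namespace Cfsg.Agent.S2436

/-- Let F be a finite field with q elements, q odd, ℓ any prime and S a Sylow ℓ-subgroup of SL₂ over F with normaliser N. Then SL₂ and N have the same number of irreducible complex characters of degree not divisible by ℓ (the McKay equality holds for SL₂ over F at every prime). -/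
theorem result {F : Type*} [Field F] [Fintype F] (hodd : Odd (Fintype.card F)) (ℓ : ℕ) [Fact ℓ.Prime] (S : Sylow ℓ (Matrix.SpecialLinearGroup (Fin 2) F)) :
    Nat.card {χ : Cfsg.IrrCharacter (Matrix.SpecialLinearGroup (Fin 2) F) // ¬ ℓ ∣ Cfsg.charDegree (χ : Matrix.SpecialLinearGroup (Fin 2) F → ℂ)} =
      Nat.card {ψ : Cfsg.IrrCharacter (Subgroup.normalizer ((S : Subgroup (Matrix.SpecialLinearGroup (Fin 2) F)) : Set (Matrix.SpecialLinearGroup (Fin 2) F))) //
        ¬ ℓ ∣ Cfsg.charDegree (ψ : Subgroup.normalizer ((S : Subgroup (Matrix.SpecialLinearGroup (Fin 2) F)) : Set (Matrix.SpecialLinearGroup (Fin 2) F)) → ℂ)} := by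
  classical
  have hℓ : ℓ.Prime := Fact.out
  have hodd' : Fintype.card F % 2 = 1 := Nat.odd_iff.mp hodd
  have hq2 : 2 ≤ Fintype.card F := Fintype.one_lt_card
  by_cases hdvdG : ℓ ∣ Nat.card (Matrix.SpecialLinearGroup (Fin 2) F)
  · rw [Cfsg.Agent.Lib.Helper47.card_SL2'] at hdvdG
    by_cases hdq : ℓ ∣ Fintype.card F
    · -- `ℓ` is the characteristic
      obtain ⟨e⟩ := Cfsg.Agent.Lib.Helper47.nonempty_normalizer_equiv_borel hdq S
      rw [Cfsg.Agent.Lib.Helper47.card_irr_not_dvd_congr e ℓ,
        Cfsg.Agent.Lib.Helper47.card_irr_not_dvd_borel hodd hℓ hdq]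
      by_cases hq5 : 5 ≤ Fintype.card F
      · exact Cfsg.Agent.Lib.Helper47.card_irr_not_dvd_SL2_char hodd' hq5 ℓ hℓ hdq
      · have hq3 : Fintype.card F = 3 := by omega
        have hℓ3 : ℓ = 3 := by
          rw [hq3] at hdq
          exact (Nat.prime_dvd_prime_iff_eq hℓ Nat.prime_three).mp hdq
        subst hℓ3
        rw [Cfsg.Agent.Lib.Helper47.card_irr_not_dvd_SL2_three_three hq3, hq3]
    · by_cases hℓ2 : ℓ = 2
      · subst hℓ2
        rw [Cfsg.Agent.Lib.Helper47.card_irr_odd_normalizer_sylow_two hodd S]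
        by_cases hq5 : 5 ≤ Fintype.card F
        · exact Cfsg.Agent.Lib.Helper47.card_irr_not_dvd_SL2_two hodd' hq5
        · have hq3 : Fintype.card F = 3 := by omega
          exact Cfsg.Agent.Lib.Helper47.card_irr_not_dvd_SL2_three_two hq3
      · have hℓ3 : 3 ≤ ℓ := by
          have := hℓ.two_le
          omega
        have hcases : ℓ ∣ Fintype.card F - 1 ∨ ℓ ∣ Fintype.card F + 1 := by
          rcases (Nat.Prime.dvd_mul hℓ).mp hdvdG with h | h
          · rcases (Nat.Prime.dvd_mul hℓ).mp h with h | h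
            · exact absurd h hdq
            · exact Or.inl h
          · exact Or.inr h
        rcases hcases with hd | hd
        · -- split torus
          have hq5 : 5 ≤ Fintype.card F := by
            have := Nat.le_of_dvd (by omega) hd
            omega
          obtain ⟨e⟩ := Cfsg.Agent.Lib.Helper47.nonempty_normalizer_equiv_monomial hodd' hℓ2 hd S
          have h1 := Cfsg.Agent.Lib.Helper47.card_irr_not_dvd_SL2_split hodd' hq5 ℓ hℓ hℓ2 hd
          have h2 := Cfsg.Agent.Lib.Helper47.card_irr_not_dvd_monomial (F := F) hodd' ℓ hℓ3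
          rw [Cfsg.Agent.Lib.Helper47.card_irr_not_dvd_congr e ℓ]
          omega
        · -- non-split torus
          have hq5 : 5 ≤ Fintype.card F := by
            by_contra hcon
            have hq3 : Fintype.card F = 3 := by omega
            rw [hq3] at hd
            have h4 : ℓ ∣ 2 * 2 := hd
            rcases (Nat.Prime.dvd_mul hℓ).mp h4 with h | h <;>
              exact hℓ2 ((Nat.prime_dvd_prime_iff_eq hℓ Nat.prime_two).mp h)
          have hchar : ringChar F ≠ 2 := fun h => by
            have := FiniteField.even_card_of_char_two h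
            omega
          obtain ⟨δ, hδ⟩ := FiniteField.exists_nonsquare hchar
          obtain ⟨e⟩ := Cfsg.Agent.Lib.Helper47.nonempty_normalizer_equiv_nsNormalizer hodd' hℓ2
            hd hδ S
          have h1 := Cfsg.Agent.Lib.Helper47.card_irr_not_dvd_SL2_nonsplit hodd' hq5 ℓ hℓ hℓ2 hd
          have h2 := (Cfsg.Agent.Lib.Helper47.card_irr_not_dvd_nsNormalizer hodd' hδ).2 ℓ hℓ3
          rw [Cfsg.Agent.Lib.Helper47.card_irr_not_dvd_congr e ℓ]
          omega
  · -- `ℓ` does not divide the order: the normalizer is the whole group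
    obtain ⟨e⟩ := Cfsg.Agent.Lib.Helper47.nonempty_normalizer_sylow_equiv_of_not_dvd hdvdG S
    exact (Cfsg.Agent.Lib.Helper47.card_irr_not_dvd_congr e ℓ).symm

end Cfsg.Agent.S2436
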