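import Cfsg.Statements.S2438
import Cfsg.Agent.Lib.Helper47.UnipSum

set_option autoImplicit false
open Cfsg

namespace Cfsg.Agent.S2438

/-- Let F be a finite field with q elements, q odd, q ≥ 5, U the upper unitriangular subgroup of SL₂ over F, and χ an irreducible complex character. The sum of the values of χ over U equals 2q, q, 0, q, 0 according as the degree of χ is q + 1, q, q − 1, (q + 1)/2, (q − 1)/2; so among these five degrees the sum vanishes exactly for the degrees q − 1 and (q − 1)/2, i.e. the irreducible characters of those two degrees are the ones whose restriction to U does not contain the trivial character (the cuspidal characters), while those of degree q + 1, q and (q + 1)/2 are not cuspidal. -/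
theorem result {F : Type*} [Field F] [Fintype F] [DecidableEq F] (hodd : Odd (Fintype.card F)) (hq : 5 ≤ Fintype.card F)
    (χ : Matrix.SpecialLinearGroup (Fin 2) F → ℂ) (hχ : Cfsg.IsIrrCharacter (Matrix.SpecialLinearGroup (Fin 2) F) χ) :
    (χ 1 = (Fintype.card F : ℂ) + 1 →
      (∑ g : Matrix.SpecialLinearGroup (Fin 2) F, if (g : Matrix (Fin 2) (Fin 2) F) 1 0 = 0 ∧ (g : Matrix (Fin 2) (Fin 2) F) 0 0 = 1 ∧ (g : Matrix (Fin 2) (Fin 2) F) 1 1 = 1 then χ g else 0) = 2 * (Fintype.card F : ℂ)) ∧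
    (χ 1 = (Fintype.card F : ℂ) →
      (∑ g : Matrix.SpecialLinearGroup (Fin 2) F, if (g : Matrix (Fin 2) (Fin 2) F) 1 0 = 0 ∧ (g : Matrix (Fin 2) (Fin 2) F) 0 0 = 1 ∧ (g : Matrix (Fin 2) (Fin 2) F) 1 1 = 1 then χ g else 0) = (Fintype.card F : ℂ)) ∧
    (χ 1 = (Fintype.card F : ℂ) - 1 →
      (∑ g : Matrix.SpecialLinearGroup (Fin 2) F, if (g : Matrix (Fin 2) (Fin 2) F) 1 0 = 0 ∧ (g : Matrix (Fin 2) (Fin 2) F) 0 0 = 1 ∧ (g : Matrix (Fin 2) (Fin 2) F) 1 1 = 1 then χ g else 0) = 0) ∧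
    (χ 1 = (((Fintype.card F + 1) / 2 : ℕ) : ℂ) →
      (∑ g : Matrix.SpecialLinearGroup (Fin 2) F, if (g : Matrix (Fin 2) (Fin 2) F) 1 0 = 0 ∧ (g : Matrix (Fin 2) (Fin 2) F) 0 0 = 1 ∧ (g : Matrix (Fin 2) (Fin 2) F) 1 1 = 1 then χ g else 0) = (Fintype.card F : ℂ)) ∧
    (χ 1 = (((Fintype.card F - 1) / 2 : ℕ) : ℂ) →
      (∑ g : Matrix.SpecialLinearGroup (Fin 2) F, if (g : Matrix (Fin 2) (Fin 2) F) 1 0 = 0 ∧ (g : Matrix (Fin 2) (Fin 2) F) 0 0 = 1 ∧ (g : Matrix (Fin 2) (Fin 2) F) 1 1 = 1 then χ g else 0) = 0) := by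
  classical
  have : Fintype (GL (Fin 2) F) := Fintype.ofFinite _
  have hodd' : Fintype.card F % 2 = 1 := Nat.odd_iff.mp hodd
  obtain ⟨c, hcq⟩ : ∃ c, Fintype.card F = 2 * c + 1 := ⟨Fintype.card F / 2, by omega⟩
  have hc2 : 2 ≤ c := by omega
  obtain ⟨ε, hε⟩ := Cfsg.Agent.Lib.Helper45.exists_nonsquare_of_odd (F := F) hodd'
  set θ : IrrCharacter (Matrix.SpecialLinearGroup (Fin 2) F) := ⟨χ, hχ⟩ with hθdef
  have hcf : IsClassFunction (Matrix.SpecialLinearGroup (Fin 2) F) χ :=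
    Cfsg.Agent.Lib.Helper83.isClassFunction_irr θ
  have hdeg : (Cfsg.Agent.Lib.Helper45.irrDeg θ : ℂ) = χ 1 :=
    Cfsg.Agent.Lib.Helper45.irrDeg_cast θ
  have hsum := Cfsg.Agent.Lib.Helper45.sum_slT_odd hodd' hcf hε
  have hcases := Cfsg.Agent.Lib.Helper45.irr_cases_SL2_odd (F := F) hodd' hε θ
  have hqC : (Fintype.card F : ℂ) = 2 * (c : ℂ) + 1 := by rw [hcq]; push_cast; ring
  simp only [Cfsg.Agent.Lib.Helper47.sum_unitriangular_eq]
  have e1' : (Fintype.card F + 1) / 2 = c + 1 := by omega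
  have e2' : (Fintype.card F - 1) / 2 = c := by omega
  refine ⟨?_, ?_, ?_, ?_, ?_⟩
  · intro h1
    have hn : Cfsg.Agent.Lib.Helper45.irrDeg θ = Fintype.card F + 1 := by
      have : (Cfsg.Agent.Lib.Helper45.irrDeg θ : ℂ) = ((Fintype.card F + 1 : ℕ) : ℂ) := by
        rw [hdeg, h1]; push_cast; ring
      exact_mod_cast this
    rcases hcases with ⟨h, -⟩ | ⟨h, -⟩ | ⟨-, h2⟩ | ⟨h, -⟩ | ⟨h, -⟩ | ⟨h, -⟩
    · omega
    · omega
    · have h2' : χ (Cfsg.Agent.Lib.Helper45.slT 1) + χ (Cfsg.Agent.Lib.Helper45.slT ε) = 2 := h2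
      rw [hsum, h2', h1]; ring
    · omega
    · omega
    · omega
  · intro h1
    have hn : Cfsg.Agent.Lib.Helper45.irrDeg θ = Fintype.card F := by
      have : (Cfsg.Agent.Lib.Helper45.irrDeg θ : ℂ) = ((Fintype.card F : ℕ) : ℂ) := by
        rw [hdeg, h1]
      exact_mod_cast this
    rcases hcases with ⟨h, -⟩ | ⟨-, h2⟩ | ⟨h, -⟩ | ⟨h, -⟩ | ⟨h, -⟩ | ⟨h, -⟩
    · omega
    · have h2' : χ = Cfsg.Agent.Lib.Helper45.stS := h2
      have hε0 : ε ≠ 0 := by
        rintro rfl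
        exact hε ⟨0, by simp⟩
      rw [hsum, h1, h2', Cfsg.Agent.Lib.Helper45.stS_slT one_ne_zero,
        Cfsg.Agent.Lib.Helper45.stS_slT hε0]
      ring
    · omega
    · omega
    · omega
    · omega
  · intro h1
    have hn : Cfsg.Agent.Lib.Helper45.irrDeg θ = Fintype.card F - 1 := by
      have : (Cfsg.Agent.Lib.Helper45.irrDeg θ : ℂ) = ((2 * c : ℕ) : ℂ) := by
        rw [hdeg, h1, hqC]; push_cast; ring
      have h' : Cfsg.Agent.Lib.Helper45.irrDeg θ = 2 * c := by exact_mod_cast this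
      omega
    rcases hcases with ⟨h, -⟩ | ⟨h, -⟩ | ⟨h, -⟩ | ⟨h, -⟩ | ⟨-, h2⟩ | ⟨h, -⟩
    · omega
    · omega
    · omega
    · omega
    · have h2' : χ (Cfsg.Agent.Lib.Helper45.slT 1) + χ (Cfsg.Agent.Lib.Helper45.slT ε) = -2 := h2
      rw [hsum, h2', h1]; ring
    · omega
  · intro h1
    have hn : Cfsg.Agent.Lib.Helper45.irrDeg θ = (Fintype.card F + 1) / 2 := by
      have : (Cfsg.Agent.Lib.Helper45.irrDeg θ : ℂ) = (((Fintype.card F + 1) / 2 : ℕ) : ℂ) := by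
        rw [hdeg, h1]
      exact_mod_cast this
    rcases hcases with ⟨h, -⟩ | ⟨h, -⟩ | ⟨h, -⟩ | ⟨-, h2⟩ | ⟨h, -⟩ | ⟨h, -⟩
    · omega
    · omega
    · omega
    · obtain ⟨γ₀, ξ₁, ξ₂, hγ2, hγ1, hξne, hξd₁, hξd₂, hξsum, ⟨y, hy⟩, hξiff⟩ :=
        Cfsg.Agent.Lib.Helper45.exists_half_plus (F := F) hodd'
      have hcf₁ : IsClassFunction (Matrix.SpecialLinearGroup (Fin 2) F)
          (ξ₁ : Matrix.SpecialLinearGroup (Fin 2) F → ℂ) :=
        Cfsg.Agent.Lib.Helper83.isClassFunction_irr ξ₁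
      have hA : ∑ t : F, (ξ₂ : Matrix.SpecialLinearGroup (Fin 2) F → ℂ)
            (Cfsg.Agent.Lib.Helper45.slT t) =
          ∑ t : F, (ξ₁ : Matrix.SpecialLinearGroup (Fin 2) F → ℂ)
            (Cfsg.Agent.Lib.Helper45.slT t) := by
        rw [hy]
        exact Cfsg.Agent.Lib.Helper47.sum_slT_conjS hcf₁ y
      have hpsi : ∀ t : F, Cfsg.Agent.Lib.Helper45.psiS γ₀ (Cfsg.Agent.Lib.Helper45.slT t) =
          1 + if t = 0 then (Fintype.card F : ℂ) else 0 := by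
        intro t
        by_cases ht : t = 0
        · subst ht
          rw [if_pos rfl, Cfsg.Agent.Lib.Helper45.slT_zero,
            Cfsg.Agent.Lib.Helper45.psiS_one_val]
          ring
        · rw [if_neg ht, Cfsg.Agent.Lib.Helper45.psiS_slT γ₀ ht, add_zero]
      have hB : ∑ t : F, Cfsg.Agent.Lib.Helper45.psiS γ₀ (Cfsg.Agent.Lib.Helper45.slT t) =
          2 * (Fintype.card F : ℂ) := by
        simp_rw [hpsi]
        rw [Finset.sum_add_distrib, Finset.sum_ite_eq']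
        simp
        ring
      have hC : ∑ t : F, Cfsg.Agent.Lib.Helper45.psiS γ₀ (Cfsg.Agent.Lib.Helper45.slT t) =
          ∑ t : F, (ξ₁ : Matrix.SpecialLinearGroup (Fin 2) F → ℂ)
            (Cfsg.Agent.Lib.Helper45.slT t) +
          ∑ t : F, (ξ₂ : Matrix.SpecialLinearGroup (Fin 2) F → ℂ)
            (Cfsg.Agent.Lib.Helper45.slT t) := by
        rw [hξsum, ← Finset.sum_add_distrib]
        rfl
      have hD : ∑ t : F, (ξ₁ : Matrix.SpecialLinearGroup (Fin 2) F → ℂ)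
            (Cfsg.Agent.Lib.Helper45.slT t) = (Fintype.card F : ℂ) := by
        rw [hA, hB] at hC
        linear_combination (-1 / 2 : ℂ) * hC
      rcases (hξiff θ).mp h2 with h | h
      · have : χ = (ξ₁ : Matrix.SpecialLinearGroup (Fin 2) F → ℂ) := by rw [← h]
        rw [this]; exact hD
      · have : χ = (ξ₂ : Matrix.SpecialLinearGroup (Fin 2) F → ℂ) := by rw [← h]
        rw [this, hA]; exact hD
    · omega
    · omega
  · intro h1
    have hn : Cfsg.Agent.Lib.Helper45.irrDeg θ = (Fintype.card F - 1) / 2 := by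
      have : (Cfsg.Agent.Lib.Helper45.irrDeg θ : ℂ) = (((Fintype.card F - 1) / 2 : ℕ) : ℂ) := by
        rw [hdeg, h1]
      exact_mod_cast this
    rcases hcases with ⟨h, -⟩ | ⟨h, -⟩ | ⟨h, -⟩ | ⟨h, -⟩ | ⟨h, -⟩ | ⟨-, h2, -⟩
    · omega
    · omega
    · omega
    · omega
    · omega
    · exact Cfsg.Agent.Lib.Helper45.cuspS_unip_sum hcf h2

end Cfsg.Agent.S2438
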