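import Cfsg.Statements.S2450

set_option autoImplicit false
open Cfsg

namespace Cfsg.Agent.S2450

open Matrix Polynomial

section
variable {F : Type*} [Field F]

/-- upper unipotent element of SL2 -/
def uu (x : F) : Matrix.SpecialLinearGroup (Fin 2) F :=
  ⟨!![1, x; 0, 1], by simp [Matrix.det_fin_two]⟩

/-- lower unipotent element of SL2 -/
def ll (x : F) : Matrix.SpecialLinearGroup (Fin 2) F :=
  ⟨!![1, 0; x, 1], by simp [Matrix.det_fin_two]⟩

/-- Weyl element -/
def ww : Matrix.SpecialLinearGroup (Fin 2) F :=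
  ⟨!![0, -1; 1, 0], by simp [Matrix.det_fin_two]⟩

theorem uu_inv_coe (x : F) :
    (((uu x)⁻¹ : Matrix.SpecialLinearGroup (Fin 2) F) : Matrix (Fin 2) (Fin 2) F) = !![1, -x; 0, 1] := by
  rw [Matrix.SpecialLinearGroup.coe_inv]
  simp [uu, Matrix.adjugate_fin_two]

theorem trace_formula (A B : Matrix.SpecialLinearGroup (Fin 2) F) (x : F) :
    Matrix.trace ((A * (uu x * B * (uu x)⁻¹) : Matrix.SpecialLinearGroup (Fin 2) F) :
        Matrix (Fin 2) (Fin 2) F) =
      (-(A.1 1 0 * B.1 1 0)) * x ^ 2 +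
      (A.1 0 0 * B.1 1 0 - A.1 1 0 * B.1 0 0 + A.1 1 0 * B.1 1 1 - A.1 1 1 * B.1 1 0) * x +
      (A.1 0 0 * B.1 0 0 + A.1 0 1 * B.1 1 0 + A.1 1 0 * B.1 0 1 + A.1 1 1 * B.1 1 1) := by
  rw [Matrix.SpecialLinearGroup.coe_mul, Matrix.SpecialLinearGroup.coe_mul,
    Matrix.SpecialLinearGroup.coe_mul, uu_inv_coe]
  simp only [uu, Matrix.trace_fin_two, Matrix.mul_apply, Fin.sum_univ_two]
  simp
  ring

theorem conj_coe (V A : Matrix.SpecialLinearGroup (Fin 2) F) :
    ((V * A * V⁻¹ : Matrix.SpecialLinearGroup (Fin 2) F) : Matrix (Fin 2) (Fin 2) F) =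
      V.1 * A.1 * !![V.1 1 1, -V.1 0 1; -V.1 1 0, V.1 0 0] := by
  rw [Matrix.SpecialLinearGroup.coe_mul, Matrix.SpecialLinearGroup.coe_mul,
    Matrix.SpecialLinearGroup.coe_inv, Matrix.adjugate_fin_two]

/-- a non-central element of SL2 has a conjugate with non-zero lower-left entry -/
theorem exists_conj_ne (A : Matrix.SpecialLinearGroup (Fin 2) F)
    (hA : A ∉ Subgroup.center (Matrix.SpecialLinearGroup (Fin 2) F)) :
    ∃ V : Matrix.SpecialLinearGroup (Fin 2) F, (V * A * V⁻¹).1 1 0 ≠ 0 := by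
  by_contra hcon
  push Not at hcon
  apply hA
  have h1 := hcon 1
  have h2 := hcon ww
  have h3 := hcon (ll 1)
  rw [conj_coe] at h1 h2 h3
  simp only [ww, ll, Matrix.mul_apply, Fin.sum_univ_two] at h1 h2 h3
  simp at h1 h2 h3
  have hdet := A.2
  rw [Matrix.det_fin_two] at hdet
  rw [Matrix.SpecialLinearGroup.mem_center_iff]
  have h4 : A.1 1 1 = A.1 0 0 := by
    rw [h1, h2] at h3
    linear_combination -h3
  refine ⟨A.1 0 0, ?_, ?_⟩
  · rw [Fintype.card_fin]
    rw [h1, h4] at hdet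
    linear_combination hdet
  · ext i j
    fin_cases i <;> fin_cases j <;> simp [h1, h2, h4]

theorem trace_conj (D C : Matrix.SpecialLinearGroup (Fin 2) F) :
    Matrix.trace ((D * C * D⁻¹ : Matrix.SpecialLinearGroup (Fin 2) F) : Matrix (Fin 2) (Fin 2) F) =
      Matrix.trace (C : Matrix (Fin 2) (Fin 2) F) := by
  rw [Matrix.SpecialLinearGroup.coe_mul, Matrix.trace_mul_comm, ← Matrix.SpecialLinearGroup.coe_mul]
  simp

end

section
variable {F : Type*} [Field F] [Fintype F]

theorem quad_sq_not_const (h4 : 4 ≤ Fintype.card F) (α β γ k : F) (hα : α ≠ 0)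
    (h : ∀ x : F, (α * x ^ 2 + β * x + γ) ^ 2 = k) : False := by
  classical
  set P : F[X] := C α * X ^ 2 + C β * X + C γ with hP
  have hPeval : ∀ x, P.eval x = α * x ^ 2 + β * x + γ := by
    intro x; simp [hP]
  have hPdeg : P.natDegree = 2 := Polynomial.natDegree_quadratic hα
  set κ := γ with hκ
  have hk : κ ^ 2 = k := by
    have := h 0
    simpa using this
  have hd1 : (P - C κ).natDegree = 2 := by
    rw [Polynomial.natDegree_sub_C]; exact hPdeg
  have hd2 : (P + C κ).natDegree = 2 := by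
    rw [Polynomial.natDegree_add_C]; exact hPdeg
  have hne1 : P - C κ ≠ 0 := by
    intro h0; rw [h0] at hd1; simp at hd1
  have hne2 : P + C κ ≠ 0 := by
    intro h0; rw [h0] at hd2; simp at hd2
  have hroot : ∀ x : F, ((P - C κ) * (P + C κ)).eval x = 0 := by
    intro x
    simp only [eval_mul, eval_sub, eval_add, eval_C, hPeval]
    have := h x
    rw [← hk] at this
    linear_combination this
  by_cases h5 : 5 ≤ Fintype.card F
  · have : (P - C κ) * (P + C κ) = 0 := by
      apply Polynomial.eq_zero_of_natDegree_lt_card_of_eval_eq_zero _ Function.injective_id hroot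
      rw [Polynomial.natDegree_mul hne1 hne2, hd1, hd2]
      omega
    rcases mul_eq_zero.mp this with h0 | h0
    · exact hne1 h0
    · exact hne2 h0
  · have hc : Fintype.card F = 4 := by omega
    have h2 : (2 : F) = 0 := by
      have : ((Fintype.card F : ℕ) : F) = 0 := Nat.cast_card_eq_zero F
      rw [hc] at this
      have h22 : (2 : F) ^ 2 = 0 := by
        have : (4 : F) = 0 := by exact_mod_cast this
        linear_combination this
      exact pow_eq_zero_iff (two_ne_zero) |>.mp h22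
    have hroot' : ∀ x : F, (P - C κ).eval x = 0 := by
      intro x
      have hx := hroot x
      have : (P + C κ) = (P - C κ) := by
        have : C κ + C κ = (0 : F[X]) := by
          rw [← C_add, ← two_mul, h2, zero_mul, C_0]
        linear_combination this
      rw [this] at hx
      rw [eval_mul] at hx
      exact mul_self_eq_zero.mp hx
    apply hne1
    apply Polynomial.eq_zero_of_natDegree_lt_card_of_eval_eq_zero _ Function.injective_id hroot'
    rw [hd1]; omega

end

/-- The Arad–Herzog conjecture for PSL(2,q): let F be a finite field with q ≥ 4 elements. For any two non-identity elements a, b of PSL(2,F), the set of products of a conjugate of a with a conjugate of b is not a single conjugacy class. -/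
theorem result {F : Type*} [Field F] [Fintype F] (h4 : 4 ≤ Fintype.card F)
    (a b : Matrix.ProjectiveSpecialLinearGroup (Fin 2) F) (ha : a ≠ 1) (hb : b ≠ 1) (c : Matrix.ProjectiveSpecialLinearGroup (Fin 2) F) :
    {g : Matrix.ProjectiveSpecialLinearGroup (Fin 2) F | ∃ u v : Matrix.ProjectiveSpecialLinearGroup (Fin 2) F, g = (u * a * u⁻¹) * (v * b * v⁻¹)} ≠ {g | IsConj c g} := by
  intro hset
  obtain ⟨A, rfl⟩ := QuotientGroup.mk_surjective a
  obtain ⟨B, rfl⟩ := QuotientGroup.mk_surjective b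
  obtain ⟨C, rfl⟩ := QuotientGroup.mk_surjective c
  have hA : A ∉ Subgroup.center (Matrix.SpecialLinearGroup (Fin 2) F) :=
    fun h => ha ((QuotientGroup.eq_one_iff A).mpr h)
  have hB : B ∉ Subgroup.center (Matrix.SpecialLinearGroup (Fin 2) F) :=
    fun h => hb ((QuotientGroup.eq_one_iff B).mpr h)
  obtain ⟨V, hV⟩ := exists_conj_ne A hA
  obtain ⟨W, hW⟩ := exists_conj_ne B hB
  have key : ∀ x : F,
      (Matrix.trace ((V * A * V⁻¹ * (uu x * (W * B * W⁻¹) * (uu x)⁻¹) :
        Matrix.SpecialLinearGroup (Fin 2) F) : Matrix (Fin 2) (Fin 2) F)) ^ 2 =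
      (Matrix.trace (C : Matrix (Fin 2) (Fin 2) F)) ^ 2 := by
    intro x
    have hmem : ((V * A * V⁻¹ * (uu x * (W * B * W⁻¹) * (uu x)⁻¹) :
        Matrix.SpecialLinearGroup (Fin 2) F) : Matrix.ProjectiveSpecialLinearGroup (Fin 2) F) ∈
        {g : Matrix.ProjectiveSpecialLinearGroup (Fin 2) F | IsConj (C : Matrix.ProjectiveSpecialLinearGroup (Fin 2) F) g} := by
      rw [← hset]
      refine ⟨(V : Matrix.ProjectiveSpecialLinearGroup (Fin 2) F),
        ((uu x * W : Matrix.SpecialLinearGroup (Fin 2) F) : Matrix.ProjectiveSpecialLinearGroup (Fin 2) F), ?_⟩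
      simp only [QuotientGroup.mk_mul, QuotientGroup.mk_inv, _root_.mul_inv_rev, mul_assoc]
    obtain ⟨d, hd⟩ := isConj_iff.mp hmem
    obtain ⟨D, rfl⟩ := QuotientGroup.mk_surjective d
    have hd' : ((D * C * D⁻¹ : Matrix.SpecialLinearGroup (Fin 2) F) : Matrix.ProjectiveSpecialLinearGroup (Fin 2) F) =
        ((V * A * V⁻¹ * (uu x * (W * B * W⁻¹) * (uu x)⁻¹) :
        Matrix.SpecialLinearGroup (Fin 2) F) : Matrix.ProjectiveSpecialLinearGroup (Fin 2) F) := by
      rw [← hd]; simp only [QuotientGroup.mk_mul, QuotientGroup.mk_inv]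
    rw [QuotientGroup.eq] at hd'
    obtain ⟨r, hr, hrs⟩ := Matrix.SpecialLinearGroup.mem_center_iff.mp hd'
    rw [Fintype.card_fin] at hr
    set M := V * A * V⁻¹ * (uu x * (W * B * W⁻¹) * (uu x)⁻¹) with hM
    set N := D * C * D⁻¹ with hN
    have hMN : (M : Matrix (Fin 2) (Fin 2) F) = (N : Matrix (Fin 2) (Fin 2) F) * Matrix.scalar (Fin 2) r := by
      rw [hrs, ← Matrix.SpecialLinearGroup.coe_mul]
      simp
    have htr : Matrix.trace (M : Matrix (Fin 2) (Fin 2) F) = r * Matrix.trace (C : Matrix (Fin 2) (Fin 2) F) := by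
      rw [hMN, hN, ← trace_conj D C]
      simp [Matrix.trace_fin_two, Matrix.mul_apply, Fin.sum_univ_two]
      ring
    rw [htr, mul_pow, hr, one_mul]
  have hα : -((V * A * V⁻¹).1 1 0 * (W * B * W⁻¹).1 1 0) ≠ 0 :=
    neg_ne_zero.mpr (mul_ne_zero hV hW)
  have key2 := fun x => (trace_formula (V * A * V⁻¹) (W * B * W⁻¹) x) ▸ key x
  exact quad_sq_not_const h4 _ _ _ _ hα key2

end Cfsg.Agent.S2450
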