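import Cfsg.Statements.S2455
import Cfsg.Agent.Lib.Helper47.SL2Finite

set_option autoImplicit false
open Cfsg

namespace Cfsg.Agent.S2455

open Matrix Polynomial
open Cfsg.Agent.Lib.Helper47

section
variable {F : Type*} [Field F] [Fintype F]

theorem solve_conic (hodd : Fintype.card F % 2 = 1) (s t : F) (ht : t ≠ 0) (hs : s ≠ 2) :
    ∃ a b : F, a ^ 2 + b ^ 2 - s * a * b - t * a + t * b + 1 = 0 := by
  have h2 : (2 : F) ≠ 0 := two_ne_zero_of_odd_card hodd
  by_cases hs2 : s = -2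
  · refine ⟨1 / (2 * t), -(1 / (2 * t)), ?_⟩
    rw [hs2]
    field_simp
    ring
  · have h2s : 2 + s ≠ 0 := by
      intro h; apply hs2; linear_combination h
    have h2s' : 2 - s ≠ 0 := by
      intro h; apply hs; linear_combination -h
    obtain ⟨u, w, huw⟩ := FiniteField.exists_root_sum_quadratic (R := F)
      (f := C (2 + s) * X ^ 2 + C (-(4 * t)) * X + C 4) (g := C (2 - s) * X ^ 2)
      (degree_quadratic h2s) (degree_C_mul_X_pow 2 h2s') hodd
    simp only [eval_add, eval_mul, eval_pow, eval_X, eval_C] at huw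
    refine ⟨(u + w) / 2, (w - u) / 2, ?_⟩
    field_simp
    linear_combination huw

theorem step_D (hodd : Fintype.card F % 2 = 1) (t : F) (ht : t ≠ 0)
    (G : Matrix.SpecialLinearGroup (Fin 2) F)
    (h00 : (G : Matrix (Fin 2) (Fin 2) F) 0 0 = 0) (h10 : (G : Matrix (Fin 2) (Fin 2) F) 1 0 ≠ 0)
    (hs : Matrix.trace (G : Matrix (Fin 2) (Fin 2) F) ≠ 2) :
    ∃ Y : Matrix.SpecialLinearGroup (Fin 2) F,
      Matrix.trace (Y : Matrix (Fin 2) (Fin 2) F) = t ∧
      Matrix.trace ((Y⁻¹ * G : Matrix.SpecialLinearGroup (Fin 2) F) : Matrix (Fin 2) (Fin 2) F) = t := by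
  have hdet := det_eq G
  rw [Matrix.trace_fin_two, h00, zero_add] at hs
  obtain ⟨a, b, hab⟩ := solve_conic hodd ((G : Matrix (Fin 2) (Fin 2) F) 1 1) t ht hs
  set g₂ := (G : Matrix (Fin 2) (Fin 2) F) 1 0 with hg₂
  set s := (G : Matrix (Fin 2) (Fin 2) F) 1 1 with hs'
  set g₁ := (G : Matrix (Fin 2) (Fin 2) F) 0 1 with hg₁
  rw [h00] at hdet
  obtain ⟨Y, hY⟩ : ∃ Y : Matrix.SpecialLinearGroup (Fin 2) F,
      (Y : Matrix (Fin 2) (Fin 2) F) = !![a, b / g₂; g₂ * (b + t - a * s), t - a] := by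
    refine ⟨⟨!![a, b / g₂; g₂ * (b + t - a * s), t - a], ?_⟩, rfl⟩
    rw [Matrix.det_fin_two]
    simp
    field_simp
    linear_combination -hab
  refine ⟨Y, ?_, ?_⟩
  · rw [hY, Matrix.trace_fin_two]; simp
  · rw [inv_mul_coe, Matrix.trace_fin_two]
    simp only [Matrix.mul_apply, Fin.sum_univ_two]
    rw [hY]
    simp [h00]
    rw [← hg₂, ← hs', ← hg₁]
    field_simp
    linear_combination (b + t - a * s) * hdet

theorem trace_ne_zero_of_order (X : Matrix.SpecialLinearGroup (Fin 2) F)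
    (hx2 : 2 < orderOf (X : Matrix.ProjectiveSpecialLinearGroup (Fin 2) F)) :
    Matrix.trace (X : Matrix (Fin 2) (Fin 2) F) ≠ 0 := by
  intro h0
  have hc : X * X ∈ Subgroup.center (Matrix.SpecialLinearGroup (Fin 2) F) := by
    rw [Matrix.SpecialLinearGroup.mem_center_iff]
    refine ⟨-1, by simp, ?_⟩
    rw [Matrix.SpecialLinearGroup.coe_mul, cayley_hamilton, h0]
    ext i j
    fin_cases i <;> fin_cases j <;> simp
  have h1 : (X : Matrix.ProjectiveSpecialLinearGroup (Fin 2) F) ^ 2 = 1 := by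
    rw [pow_two, ← QuotientGroup.mk_mul]
    exact (QuotientGroup.eq_one_iff _).mpr hc
  have := Nat.le_of_dvd (by norm_num) (orderOf_dvd_of_pow_eq_one h1)
  omega

theorem trace_sq_ne_four_of_order (p : ℕ) [Fact p.Prime] [CharP F p]
    (X : Matrix.SpecialLinearGroup (Fin 2) F)
    (hx2 : 2 < orderOf (X : Matrix.ProjectiveSpecialLinearGroup (Fin 2) F))
    (hxp : ¬ p ∣ orderOf (X : Matrix.ProjectiveSpecialLinearGroup (Fin 2) F)) :
    (Matrix.trace (X : Matrix (Fin 2) (Fin 2) F)) ^ 2 ≠ 4 := by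
  intro h4
  have htr : Matrix.trace ((X * X : Matrix.SpecialLinearGroup (Fin 2) F) : Matrix (Fin 2) (Fin 2) F) = 2 := by
    rw [trace_sq, h4]; norm_num
  have hsq := sub_one_sq_of_trace_two (X * X) htr
  have hpow := pow_of_sub_one_sq _ hsq p
  rw [CharP.cast_eq_zero, zero_smul, add_zero] at hpow
  have hZ : (X * X) ^ p = 1 := by
    apply Matrix.SpecialLinearGroup.ext
    intro i j
    rw [Matrix.SpecialLinearGroup.coe_pow, hpow]
    simp
  have h1 : (X : Matrix.ProjectiveSpecialLinearGroup (Fin 2) F) ^ (2 * p) = 1 := by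
    rw [pow_mul, pow_two, ← QuotientGroup.mk_mul, ← QuotientGroup.mk_pow, hZ]
    rfl
  have hdvd := orderOf_dvd_of_pow_eq_one h1
  have hcop : Nat.Coprime (orderOf (X : Matrix.ProjectiveSpecialLinearGroup (Fin 2) F)) p :=
    (Nat.coprime_comm.mp ((Nat.Prime.coprime_iff_not_dvd (Fact.out : p.Prime)).mpr hxp))
  have := Nat.le_of_dvd (by norm_num) (hcop.dvd_of_dvd_mul_right hdvd)
  omega

end

/-- A strong covering result in the direction of Thompson's conjecture (non-identity elements) for PSL(2,q), q odd: let F be a finite field of odd characteristic p with at least 5 elements and let x ∈ PSL(2,F) have order greater than 2 and not divisible by p (so x is not unipotent). Then every non-identity element of PSL(2,F) is a product of two conjugates of x. -/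
theorem result {F : Type*} [Field F] [Fintype F] (p : ℕ) [Fact p.Prime] [CharP F p] (hp : p ≠ 2) (h5 : 5 ≤ Fintype.card F)
    (x : Matrix.ProjectiveSpecialLinearGroup (Fin 2) F) (hx2 : 2 < orderOf x) (hxp : ¬ p ∣ orderOf x) : ∀ g : Matrix.ProjectiveSpecialLinearGroup (Fin 2) F, g ≠ 1 → ∃ u v : Matrix.ProjectiveSpecialLinearGroup (Fin 2) F, g = (u * x * u⁻¹) * (v * x * v⁻¹) := by
  have hodd : Fintype.card F % 2 = 1 :=
    FiniteField.odd_card_of_char_ne_two (by rw [ringChar.eq F p]; exact hp)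
  have h2 : (2 : F) ≠ 0 := two_ne_zero_of_odd_card hodd
  obtain ⟨X, rfl⟩ := QuotientGroup.mk_surjective x
  have ht0 := trace_ne_zero_of_order X hx2
  have ht4 := trace_sq_ne_four_of_order p X hx2 hxp
  obtain ⟨S₀, hS₀⟩ := conj_to_comp hodd X ht4
  -- Claim 1
  have claim1 : ∀ Y Z : Matrix.SpecialLinearGroup (Fin 2) F,
      Matrix.trace (Y : Matrix (Fin 2) (Fin 2) F) = Matrix.trace (X : Matrix (Fin 2) (Fin 2) F) →
      Matrix.trace (Z : Matrix (Fin 2) (Fin 2) F) = Matrix.trace (X : Matrix (Fin 2) (Fin 2) F) →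
      ∃ u v : Matrix.ProjectiveSpecialLinearGroup (Fin 2) F,
        ((Y * Z : Matrix.SpecialLinearGroup (Fin 2) F) : Matrix.ProjectiveSpecialLinearGroup (Fin 2) F) =
          (u * (X : Matrix.ProjectiveSpecialLinearGroup (Fin 2) F) * u⁻¹) * (v * X * v⁻¹) := by
    intro Y Z hY hZ
    obtain ⟨S₁, hS₁⟩ := conj_to_comp hodd Y (by rw [hY]; exact ht4)
    obtain ⟨S₂, hS₂⟩ := conj_to_comp hodd Z (by rw [hZ]; exact ht4)
    rw [hY] at hS₁
    rw [hZ] at hS₂
    have hYX : Y = (S₁⁻¹ * S₀) * X * (S₁⁻¹ * S₀)⁻¹ := by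
      have h : S₁ * Y * S₁⁻¹ = S₀ * X * S₀⁻¹ := by rw [hS₁, hS₀]
      calc Y = S₁⁻¹ * (S₁ * Y * S₁⁻¹) * S₁ := by group
        _ = S₁⁻¹ * (S₀ * X * S₀⁻¹) * S₁ := by rw [h]
        _ = _ := by group
    have hZX : Z = (S₂⁻¹ * S₀) * X * (S₂⁻¹ * S₀)⁻¹ := by
      have h : S₂ * Z * S₂⁻¹ = S₀ * X * S₀⁻¹ := by rw [hS₂, hS₀]
      calc Z = S₂⁻¹ * (S₂ * Z * S₂⁻¹) * S₂ := by group
        _ = S₂⁻¹ * (S₀ * X * S₀⁻¹) * S₂ := by rw [h]
        _ = _ := by group
    refine ⟨((S₁⁻¹ * S₀ : Matrix.SpecialLinearGroup (Fin 2) F) : Matrix.ProjectiveSpecialLinearGroup (Fin 2) F),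
      ((S₂⁻¹ * S₀ : Matrix.SpecialLinearGroup (Fin 2) F) : Matrix.ProjectiveSpecialLinearGroup (Fin 2) F), ?_⟩
    conv_lhs => rw [hYX, hZX]
    simp only [QuotientGroup.mk_mul, QuotientGroup.mk_inv]
  -- Claim 2
  have claim2 : ∀ g w : Matrix.ProjectiveSpecialLinearGroup (Fin 2) F,
      (∃ u v : Matrix.ProjectiveSpecialLinearGroup (Fin 2) F,
        g = (u * (X : Matrix.ProjectiveSpecialLinearGroup (Fin 2) F) * u⁻¹) * (v * X * v⁻¹)) →
      ∃ u v : Matrix.ProjectiveSpecialLinearGroup (Fin 2) F,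
        w * g * w⁻¹ = (u * (X : Matrix.ProjectiveSpecialLinearGroup (Fin 2) F) * u⁻¹) * (v * X * v⁻¹) := by
    rintro g w ⟨u, v, rfl⟩
    exact ⟨w * u, w * v, by group⟩
  -- Claim 3
  have claim3 : ∀ G : Matrix.SpecialLinearGroup (Fin 2) F,
      G ∉ Subgroup.center (Matrix.SpecialLinearGroup (Fin 2) F) →
      Matrix.trace (G : Matrix (Fin 2) (Fin 2) F) ≠ 2 →
      ∃ u v : Matrix.ProjectiveSpecialLinearGroup (Fin 2) F,
        (G : Matrix.ProjectiveSpecialLinearGroup (Fin 2) F) =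
          (u * (X : Matrix.ProjectiveSpecialLinearGroup (Fin 2) F) * u⁻¹) * (v * X * v⁻¹) := by
    intro G hG hGtr
    obtain ⟨V, hV⟩ := exists_conj_ne G hG
    obtain ⟨G', hG'⟩ : ∃ G' : Matrix.SpecialLinearGroup (Fin 2) F, G' = V * G * V⁻¹ := ⟨_, rfl⟩
    rw [← hG'] at hV
    obtain ⟨U, hU⟩ : ∃ U : Matrix.SpecialLinearGroup (Fin 2) F,
        U = uu (-(G' : Matrix (Fin 2) (Fin 2) F) 0 0 / (G' : Matrix (Fin 2) (Fin 2) F) 1 0) := ⟨_, rfl⟩
    obtain ⟨G'', hG''⟩ : ∃ G'' : Matrix.SpecialLinearGroup (Fin 2) F, G'' = U * G' * U⁻¹ := ⟨_, rfl⟩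
    have h00 : (G'' : Matrix (Fin 2) (Fin 2) F) 0 0 = 0 := by
      rw [hG'', conj_coe, hU]
      simp only [uu, Matrix.mul_apply, Fin.sum_univ_two]
      simp
      field_simp
      ring
    have h10 : (G'' : Matrix (Fin 2) (Fin 2) F) 1 0 ≠ 0 := by
      rw [hG'', conj_coe, hU]
      simp only [uu, Matrix.mul_apply, Fin.sum_univ_two]
      simpa using hV
    have htr'' : Matrix.trace (G'' : Matrix (Fin 2) (Fin 2) F) ≠ 2 := by
      rw [hG'', Cfsg.Agent.Lib.Helper47.trace_conj, hG', Cfsg.Agent.Lib.Helper47.trace_conj]; exact hGtr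
    obtain ⟨Y, hY1, hY2⟩ := step_D hodd _ ht0 G'' h00 h10 htr''
    obtain ⟨u, v, huv⟩ := claim1 Y (Y⁻¹ * G'') hY1 hY2
    rw [mul_inv_cancel_left] at huv
    have hGG : (G : Matrix.ProjectiveSpecialLinearGroup (Fin 2) F) =
        ((U * V)⁻¹ : Matrix.SpecialLinearGroup (Fin 2) F) * (G'' : Matrix.ProjectiveSpecialLinearGroup (Fin 2) F) *
          (((U * V)⁻¹ : Matrix.SpecialLinearGroup (Fin 2) F) : Matrix.ProjectiveSpecialLinearGroup (Fin 2) F)⁻¹ := by
      rw [← QuotientGroup.mk_inv, ← QuotientGroup.mk_mul, ← QuotientGroup.mk_mul]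
      congr 1
      rw [hG'', hG']
      group
    rw [hGG]
    exact claim2 _ _ ⟨u, v, huv⟩
  intro g hg
  obtain ⟨G, rfl⟩ := QuotientGroup.mk_surjective g
  have hG : G ∉ Subgroup.center (Matrix.SpecialLinearGroup (Fin 2) F) :=
    fun h => hg ((QuotientGroup.eq_one_iff G).mpr h)
  by_cases hGtr : Matrix.trace (G : Matrix (Fin 2) (Fin 2) F) = 2
  · have hneg : (negOne : Matrix.SpecialLinearGroup (Fin 2) F) ∈
        Subgroup.center (Matrix.SpecialLinearGroup (Fin 2) F) := by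
      rw [Matrix.SpecialLinearGroup.mem_center_iff]
      refine ⟨-1, by simp, ?_⟩
      ext i j
      fin_cases i <;> fin_cases j <;> simp [negOne]
    have hGn : ((G * negOne : Matrix.SpecialLinearGroup (Fin 2) F) : Matrix.ProjectiveSpecialLinearGroup (Fin 2) F) = G := by
      rw [QuotientGroup.mk_mul, (QuotientGroup.eq_one_iff _).mpr hneg, mul_one]
    rw [← hGn]
    apply claim3
    · intro h
      apply hG
      have : G = G * negOne * negOne⁻¹ := by group
      rw [this]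
      exact mul_mem h (inv_mem hneg)
    · rw [Matrix.SpecialLinearGroup.coe_mul]
      rw [Matrix.trace_fin_two] at hGtr
      simp only [negOne, Matrix.trace_fin_two, Matrix.mul_apply, Fin.sum_univ_two]
      simp
      intro h
      apply h2
      have h4 : (4 : F) = 0 := by linear_combination -h - hGtr
      have h22 : (2 : F) ^ 2 = 0 := by linear_combination h4
      exact pow_eq_zero_iff (two_ne_zero) |>.mp h22
  · exact claim3 G hG hGtr

end Cfsg.Agent.S2455
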