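import Cfsg.Statements.S2456
import Cfsg.Agent.Lib.Helper47.PSL2Cover
import Cfsg.Agent.Lib.Helper47.NonSplit

set_option autoImplicit false
open Cfsg

namespace Cfsg.Agent.S2456

open Matrix
open Cfsg.Agent.Lib.Helper47

theorem trace_ne_zero_of_order {F : Type*} [Field F] (X : Matrix.SpecialLinearGroup (Fin 2) F)
    (hx2 : 2 < orderOf (X : Matrix.ProjectiveSpecialLinearGroup (Fin 2) F)) :
    Matrix.trace (X : Matrix (Fin 2) (Fin 2) F) ≠ 0 := by
  intro h0
  have hc : X * X ∈ Subgroup.center (Matrix.SpecialLinearGroup (Fin 2) F) := by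
    rw [Matrix.SpecialLinearGroup.mem_center_iff]
    refine ⟨-1, by simp, ?_⟩
    rw [Matrix.SpecialLinearGroup.coe_mul, cayley_hamilton, h0]
    ext i j
    fin_cases i <;> fin_cases j <;> simp
  have h1 : (X : Matrix.ProjectiveSpecialLinearGroup (Fin 2) F) ^ 2 = 1 := by
    rw [pow_two, ← QuotientGroup.mk_mul]
    exact (QuotientGroup.eq_one_iff _).mpr hc
  have := Nat.le_of_dvd (by norm_num) (orderOf_dvd_of_pow_eq_one h1)
  omega

/-- A strong covering result in the direction of Thompson's conjecture (non-identity elements) for PSL(2,q), q even: let F be a finite field of characteristic 2 with q ≥ 4 elements and let x ∈ PSL(2,F) have order greater than 2 and not dividing q + 1. Then every non-identity element of PSL(2,F) is a product of two conjugates of x. -/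
theorem result {F : Type*} [Field F] [Fintype F] [CharP F 2] (h4 : 4 ≤ Fintype.card F)
    (x : Matrix.ProjectiveSpecialLinearGroup (Fin 2) F) (hx2 : 2 < orderOf x) (hxq : ¬ orderOf x ∣ Fintype.card F + 1) : ∀ g : Matrix.ProjectiveSpecialLinearGroup (Fin 2) F, g ≠ 1 → ∃ u v : Matrix.ProjectiveSpecialLinearGroup (Fin 2) F, g = (u * x * u⁻¹) * (v * x * v⁻¹) := by
  obtain ⟨X, rfl⟩ := QuotientGroup.mk_surjective x
  have hchar : ringChar F = 2 := ringChar.eq F 2
  have h20 : (2 : F) = 0 := CharTwo.two_eq_zero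
  have ht0 := trace_ne_zero_of_order X hx2
  -- the characteristic polynomial has a root
  have hroot : ∃ c : F, c ^ 2 - Matrix.trace (X : Matrix (Fin 2) (Fin 2) F) * c + 1 = 0 := by
    by_contra hno
    push Not at hno
    apply hxq
    apply orderOf_dvd_of_pow_eq_one
    rw [← QuotientGroup.mk_pow, pow_card_add_one_of_no_root X hno]
    rfl
  obtain ⟨c, hc⟩ := hroot
  -- conjugacy
  have hconj : ∀ Y : Matrix.SpecialLinearGroup (Fin 2) F,
      Matrix.trace (Y : Matrix (Fin 2) (Fin 2) F) = Matrix.trace (X : Matrix (Fin 2) (Fin 2) F) →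
      ∃ S : Matrix.SpecialLinearGroup (Fin 2) F,
        S * Y * S⁻¹ = comp (Matrix.trace (X : Matrix (Fin 2) (Fin 2) F)) := by
    intro Y hY
    have hYc : Y ∉ Subgroup.center (Matrix.SpecialLinearGroup (Fin 2) F) := by
      intro hmem
      obtain ⟨r, hr, hrY⟩ := Matrix.SpecialLinearGroup.mem_center_iff.mp hmem
      apply ht0
      rw [← hY, ← hrY]
      simp
      exact Or.inl h20
    obtain ⟨V, hV⟩ := exists_conj_ne Y hYc
    obtain ⟨s, hs⟩ := FiniteField.isSquare_of_char_two hchar
      (((V * Y * V⁻¹ : Matrix.SpecialLinearGroup (Fin 2) F) : Matrix (Fin 2) (Fin 2) F) 1 0)⁻¹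
    obtain ⟨P, hP⟩ := conj_to_comp_of_repr (V * Y * V⁻¹) ⟨s, 0, by
      rw [pow_two, ← hs]
      simp
      exact mul_inv_cancel₀ hV⟩
    rw [Cfsg.Agent.Lib.Helper47.trace_conj, hY] at hP
    refine ⟨P⁻¹ * V, ?_⟩
    rw [← hP]
    group
  intro g hg
  obtain ⟨G, rfl⟩ := QuotientGroup.mk_surjective g
  have hG : G ∉ Subgroup.center (Matrix.SpecialLinearGroup (Fin 2) F) :=
    fun h => hg ((QuotientGroup.eq_one_iff G).mpr h)
  exact cover_of_conj_of_conic X hconj G hG ⟨c, 0, by linear_combination hc⟩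

end Cfsg.Agent.S2456
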