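import Cfsg.Statements.S2459
import Cfsg.Agent.Lib.Helper47.ClassSqFinal

set_option autoImplicit false
open Cfsg

namespace Cfsg.Agent.S2459

/-- A form of Thompson's conjecture for PSL(3,q), q > 2 (covering the non-identity elements), with a semisimple class: for F a finite field of characteristic p with more than 2 elements there is an element x of PSL(3,F) of order prime to p such that every non-identity element of PSL(3,F) is a product of two conjugates of x. -/
theorem result {F : Type*} [Field F] [Fintype F] (p : ℕ) [Fact p.Prime] [CharP F p] (h3 : 3 ≤ Fintype.card F) :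
    ∃ x : Matrix.ProjectiveSpecialLinearGroup (Fin 3) F, ¬ p ∣ orderOf x ∧ ∀ g : Matrix.ProjectiveSpecialLinearGroup (Fin 3) F, g ≠ 1 → ∃ u v : Matrix.ProjectiveSpecialLinearGroup (Fin 3) F, g = (u * x * u⁻¹) * (v * x * v⁻¹) := by
  classical
  obtain ⟨X, ⟨m, hpm, hXm⟩, hcov⟩ := Lib.Helper47.ClassSq.sl3_class_square (F := F) p h3
  let π : Matrix.SpecialLinearGroup (Fin 3) F →*
      Matrix.ProjectiveSpecialLinearGroup (Fin 3) F :=
    QuotientGroup.mk' (Subgroup.center (Matrix.SpecialLinearGroup (Fin 3) F))
  have hπ : Function.Surjective π := QuotientGroup.mk'_surjective _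
  refine ⟨π X, ?_, ?_⟩
  · intro hdvd
    apply hpm
    have h1 : (π X) ^ m = 1 := by rw [← map_pow, hXm, map_one]
    exact dvd_trans hdvd (orderOf_dvd_of_pow_eq_one h1)
  · intro g hg
    obtain ⟨A, rfl⟩ := hπ g
    have hA : Lib.Helper47.ClassSq.NonScalar A.1 := by
      intro c hc
      apply hg
      have hmem : A ∈ Subgroup.center (Matrix.SpecialLinearGroup (Fin 3) F) := by
        rw [Matrix.SpecialLinearGroup.mem_center_iff]
        refine ⟨c, ?_, ?_⟩
        · have hdet := A.2
          rw [hc, Matrix.det_smul, Matrix.det_one, mul_one] at hdet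
          exact hdet
        · rw [hc]
          ext i j
          simp [Matrix.one_apply, Matrix.diagonal_apply]
      exact (QuotientGroup.eq_one_iff A).mpr hmem
    obtain ⟨U, V, e⟩ := hcov A hA
    refine ⟨π U, π V, ?_⟩
    rw [e]
    simp only [map_mul, map_inv]

end Cfsg.Agent.S2459
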