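import Cfsg.Statements.S2467
import Cfsg.Agent.Lib.Helper48.CycleSpec

set_option autoImplicit false
open Cfsg

namespace Cfsg.Agent.S2467

open Cfsg.Agent.Lib.Helper48

/-- Adjacency of 2 and an odd prime in the prime graph of the alternating groups: let r be an odd prime at most n, with n ≥ 4. The alternating group of degree n has an element of order 2r if and only if r + 4 ≤ n. -/
theorem result (n r : ℕ) (hn : 4 ≤ n) (hr : r.Prime) (hr2 : r ≠ 2) (hrn : r ≤ n) :
    (2 * r ∈ Set.range (orderOf : alternatingGroup (Fin n) → ℕ)) ↔ r + 4 ≤ n := by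
  rw [mem_range_orderOf_alternating_iff]
  have hrodd : Odd r := hr.odd_of_ne_two hr2
  have hr3 : 3 ≤ r := by
    have := hr.two_le
    omega
  have hcop : Nat.Coprime 2 r := (Nat.coprime_primes Nat.prime_two hr).mpr (Ne.symm hr2)
  constructor
  · rintro ⟨m, h2, hsum, hev, hlcm⟩
    -- every part divides 2r, hence is 2, r or 2r
    have hparts : ∀ a ∈ m, a = 2 ∨ a = r ∨ a = 2 * r := by
      intro a ha
      have hdvd : a ∣ 2 * r := hlcm ▸ Multiset.dvd_lcm ha
      have h2a := h2 a ha
      have hmem : a ∈ (2 * r).divisors := Nat.mem_divisors.mpr ⟨hdvd, by omega⟩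
      rw [Nat.divisors_mul, Nat.Prime.divisors Nat.prime_two, Nat.Prime.divisors hr] at hmem
      simp only [Finset.mem_mul, Finset.mem_insert, Finset.mem_singleton] at hmem
      obtain ⟨x, hx, y, hy, rfl⟩ := hmem
      rcases hx with rfl | rfl <;> rcases hy with rfl | rfl
      · omega
      · right; left; simp
      · left; rfl
      · right; right; rfl
    -- the even parts
    have hcard : (Multiset.card (m.filter Even)) % 2 = 0 := by
      rw [← sum_add_card_mod_two]
      exact Nat.even_iff.mp hev
    obtain ⟨a, ha, h2a⟩ := prime_dvd_multiset_lcm Nat.prime_two m (hlcm ▸ Dvd.intro _ rfl)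
    have haE : a ∈ m.filter Even := Multiset.mem_filter.mpr ⟨ha, even_iff_two_dvd.mpr h2a⟩
    obtain ⟨E', hE'⟩ := Multiset.exists_cons_of_mem haE
    have hcardE' : 0 < Multiset.card E' := by
      rw [hE', Multiset.card_cons] at hcard
      omega
    obtain ⟨a', ha'⟩ := Multiset.card_pos_iff_exists_mem.mp hcardE'
    obtain ⟨E'', hE''⟩ := Multiset.exists_cons_of_mem ha'
    have hm : m = a ::ₘ a' ::ₘ (E'' + m.filter (fun x => ¬ Even x)) := by
      conv_lhs => rw [← Multiset.filter_add_not Even m, hE', hE'']
      simp [Multiset.cons_add]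
    have ha'E : a' ∈ m.filter Even := by
      rw [hE']
      exact Multiset.mem_cons_of_mem ha'
    have ha'm : a' ∈ m := (Multiset.mem_filter.mp ha'E).1
    have ha'ev : Even a' := (Multiset.mem_filter.mp ha'E).2
    have haev : Even a := even_iff_two_dvd.mpr h2a
    have hnr : ¬ Even r := Nat.not_even_iff_odd.mpr hrodd
    have hsum' : a + (a' + (E'' + m.filter (fun x => ¬ Even x)).sum) ≤ n := by
      have := hsum
      rw [hm] at this
      simpa [Multiset.sum_cons] using this
    rcases hparts a ha with rfl | rfl | rfl
    · rcases hparts a' ha'm with rfl | rfl | rfl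
      · -- both 2; find part divisible by r
        obtain ⟨b, hb, hrb⟩ := prime_dvd_multiset_lcm hr m (hlcm ▸ Dvd.intro_left _ rfl)
        have hb2 : b ≠ 2 := by
          rintro rfl
          have := Nat.le_of_dvd (by norm_num) hrb
          omega
        have hb' : b ∈ E'' + m.filter (fun x => ¬ Even x) := by
          rw [hm] at hb
          rcases Multiset.mem_cons.mp hb with h | h
          · exact absurd h hb2
          · rcases Multiset.mem_cons.mp h with h | h
            · exact absurd h hb2
            · exact h
        have h3 : b ≤ (E'' + m.filter (fun x => ¬ Even x)).sum := Multiset.le_sum_of_mem hb'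
        have hb0 : 0 < b := by have := h2 b hb; omega
        have h4 : r ≤ b := Nat.le_of_dvd hb0 hrb
        omega
      · exact absurd ha'ev hnr
      · omega
    · exact absurd haev hnr
    · have := h2 a' ha'm
      omega
  · intro h
    refine ⟨{r, 2, 2}, ?_, ?_, ?_, ?_⟩
    · intro a ha
      simp only [Multiset.insert_eq_cons, Multiset.mem_cons, Multiset.mem_singleton] at ha
      rcases ha with rfl | rfl | rfl
      · exact hr.two_le
      · exact le_refl 2
      · exact le_refl 2
    · simp only [Multiset.insert_eq_cons, Multiset.sum_cons, Multiset.sum_singleton]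
      omega
    · simp only [Multiset.insert_eq_cons, Multiset.sum_cons, Multiset.sum_singleton, Multiset.card_cons, Multiset.card_singleton]
      obtain ⟨t, ht⟩ := hrodd
      exact ⟨t + 4, by omega⟩
    · simp only [Multiset.insert_eq_cons, Multiset.lcm_cons, Multiset.lcm_singleton, normalize_eq]
      show Nat.lcm r (Nat.lcm 2 2) = 2 * r
      rw [Nat.lcm_self, Nat.lcm_comm]
      exact hcop.lcm_eq_mul

end Cfsg.Agent.S2467
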