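import Mathlib
import Cfsg.Statements.S2469
import Cfsg.Agent.Lib.Helper99.SpRSNon
import Cfsg.Agent.Lib.Helper99.SpRSEx
import Cfsg.Agent.Lib.Helper18.SympWitt

set_option autoImplicit false
open Cfsg

namespace Cfsg.Agent.S2469

open Cfsg.Agent.Lib.Helper99.SpRP Cfsg.Agent.Lib.Helper18

section non

variable {F : Type*} [Field F] [Fintype F]

theorem non_exist (p : ℕ) [Fact p.Prime] [CharP F p] (n : ℕ) (hn : 1 ≤ n) (r s : ℕ)
    (hr : r.Prime) (hs : s.Prime) (hr2 : r ≠ 2) (hs2 : s ≠ 2) (hrp : r ≠ p) (hsp : s ≠ p)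
    (g : Matrix.symplecticGroup (Fin n) F) (hg : orderOf g = r * s)
    (k l ηk ηl : ℕ) (hk : k = orderOf ((Fintype.card F : ℕ) : ZMod r))
    (hl : l = orderOf ((Fintype.card F : ℕ) : ZMod s))
    (hηk : (Odd k ∧ ηk = k) ∨ (Even k ∧ 2 * ηk = k))
    (hηl : (Odd l ∧ ηl = l) ∨ (Even l ∧ 2 * ηl = l)) (hkl : ηk ≤ ηl) :
    ηk + ηl ≤ n ∨ ∃ t : ℕ, Odd t ∧ l = k * t := by
  classical
  have hpp : p.Prime := Fact.out
  have : Fact r.Prime := ⟨hr⟩
  have : Fact s.Prime := ⟨hs⟩
  have : Nonempty (Fin n ⊕ Fin n) := ⟨Sum.inl ⟨0, hn⟩⟩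
  let T := Matrix.toLinAlgEquiv' (R := F) (n := Fin n ⊕ Fin n)
  obtain ⟨A, hAdef⟩ : ∃ A : Matrix (Fin n ⊕ Fin n) (Fin n ⊕ Fin n) F,
      A = ((g : Matrix.symplecticGroup (Fin n) F) : Matrix _ _ F) := ⟨_, rfl⟩
  have hAmem : A ∈ Matrix.symplecticGroup (Fin n) F := by rw [hAdef]; exact g.2
  have hpowval : ∀ j : ℕ, A ^ j = ((g ^ j : Matrix.symplecticGroup (Fin n) F) : Matrix _ _ F) := by
    intro j; rw [hAdef, SubmonoidClass.coe_pow]
  have hArs : A ^ (r * s) = 1 := by
    rw [hpowval, ← hg, pow_orderOf_eq_one]; rfl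
  have hAs : A ^ s ≠ 1 := by
    intro h
    have h1 : g ^ s = 1 := Subtype.ext (by rw [← hpowval, h]; rfl)
    have h2 := orderOf_dvd_of_pow_eq_one h1
    rw [hg] at h2
    have h3 : r ∣ 1 := by
      have h4 : r * s ∣ 1 * s := by rwa [one_mul]
      exact Nat.dvd_of_mul_dvd_mul_right hs.pos h4
    exact hr.one_lt.ne' (Nat.dvd_one.mp h3)
  have hAr : A ^ r ≠ 1 := by
    intro h
    have h1 : g ^ r = 1 := Subtype.ext (by rw [← hpowval, h]; rfl)
    have h2 := orderOf_dvd_of_pow_eq_one h1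
    rw [hg] at h2
    have h3 : s ∣ 1 := by
      have h4 : r * s ∣ r * 1 := by rwa [mul_one]
      exact Nat.dvd_of_mul_dvd_mul_left hr.pos h4
    exact hs.one_lt.ne' (Nat.dvd_one.mp h3)
  obtain ⟨G, hGdef⟩ : ∃ G : Module.End F (Fin n ⊕ Fin n → F), G = T A := ⟨_, rfl⟩
  have hGrs : G ^ (r * s) = 1 := by rw [hGdef, ← map_pow, hArs, map_one]
  have hX1 : G ^ s ≠ 1 := by
    intro h
    apply hAs
    apply T.injective
    rw [map_pow, ← hGdef, h, map_one]
  have hY1 : G ^ r ≠ 1 := by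
    intro h
    apply hAr
    apply T.injective
    rw [map_pow, ← hGdef, h, map_one]
  have hGapply : ∀ v, G v = A.mulVec v := fun v => by
    rw [hGdef]; exact Matrix.toLinAlgEquiv'_apply A v
  have hGB : ∀ v w, sB n F (G v) (G w) = sB n F v w := by
    intro v w
    rw [hGapply, hGapply, sB_apply, sB_apply]
    exact sf_mulVec_of_mem n A hAmem v w
  have hdim : Module.finrank F (Fin n ⊕ Fin n → F) = 2 * n := by
    rw [Module.finrank_fintype_fun_eq_card, Fintype.card_sum, Fintype.card_fin]; ring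
  obtain ⟨f, _, hq⟩ := FiniteField.card F p
  have hcopr : Nat.Coprime (Fintype.card F) r := by
    rw [hq]
    exact Nat.Coprime.pow_left _ ((Nat.coprime_primes hpp hr).mpr (Ne.symm hrp))
  have hcops : Nat.Coprime (Fintype.card F) s := by
    rw [hq]
    exact Nat.Coprime.pow_left _ ((Nat.coprime_primes hpp hs).mpr (Ne.symm hsp))
  have hrF : (r : F) ≠ 0 := by
    intro h
    have h1 := (CharP.cast_eq_zero_iff F p r).mp h
    exact hrp ((Nat.prime_dvd_prime_iff_eq hpp hr).mp h1).symm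
  have hsF : (s : F) ≠ 0 := by
    intro h
    have h1 := (CharP.cast_eq_zero_iff F p s).mp h
    exact hsp ((Nat.prime_dvd_prime_iff_eq hpp hs).mp h1).symm
  exact two_primes_symp (sB n F) sB_isAlt sB_nondegenerate n hdim G hGB r s hr2 hs2 hcopr hcops
    hrF hsF hGrs hX1 hY1 k l ηk ηl hk hl hηk hηl hkl

end non

section ex

variable {F : Type*} [Field F] [Fintype F]

theorem exists_orderOf_eta (p : ℕ) [Fact p.Prime] [CharP F p] (r : ℕ) [Fact r.Prime]
    (k ηk : ℕ) (hk : k = orderOf ((Fintype.card F : ℕ) : ZMod r)) (hkpos : 0 < k)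
    (hηk : (Odd k ∧ ηk = k) ∨ (Even k ∧ 2 * ηk = k)) :
    ∃ x : Matrix.symplecticGroup (Fin ηk) F, orderOf x = r := by
  rcases hηk with ⟨_, h⟩ | ⟨_, h⟩
  · apply exists_orderOf_odd p ηk (by omega) r
    have := dvd_pow_sub_one_of_order (Fintype.card F) r k Fintype.card_pos hk 1
    rw [mul_one] at this
    rw [h]; exact this
  · apply exists_orderOf_even p ηk (by omega) r
    have := dvd_pow_add_one_of_order (Fintype.card F) r k ηk hk h (by omega) 1 odd_one
    rw [mul_one] at this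
    exact this

end ex

/-- Adjacency of two odd primes in the prime graph of PSp(2n,q): let F be a finite field of characteristic p with q elements, n ≥ 2 with PSp(2n,F) simple, and let r ≠ s be odd primes different from p dividing the order of PSp(2n,F). Let k, l be the multiplicative orders of q modulo r and s, put η(m) = m for odd m and η(m) = m/2 for even m, and suppose η(k) ≤ η(l). Then PSp(2n,F) has NO element of order r·s if and only if η(k) + η(l) > n and l/k is not an odd integer. -/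
theorem result {F : Type*} [Field F] [Fintype F] (p : ℕ) [Fact p.Prime] [CharP F p] (n : ℕ) (hn : 2 ≤ n) (hsmall : n = 2 → 3 ≤ Fintype.card F)
    (r s : ℕ) (hr : r.Prime) (hs : s.Prime) (hr2 : r ≠ 2) (hs2 : s ≠ 2) (hrp : r ≠ p) (hsp : s ≠ p) (hrs : r ≠ s)
    (hrG : r ∣ Nat.card (Cfsg.PSp n F)) (hsG : s ∣ Nat.card (Cfsg.PSp n F))
    (k l ηk ηl : ℕ) (hk : k = orderOf ((Fintype.card F : ℕ) : ZMod r)) (hl : l = orderOf ((Fintype.card F : ℕ) : ZMod s))
    (hηk : (Odd k ∧ ηk = k) ∨ (Even k ∧ 2 * ηk = k)) (hηl : (Odd l ∧ ηl = l) ∨ (Even l ∧ 2 * ηl = l)) (hkl : ηk ≤ ηl) :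
    (r * s ∉ Set.range (orderOf : Cfsg.PSp n F → ℕ)) ↔ (n < ηk + ηl ∧ ¬ ∃ t : ℕ, Odd t ∧ l = k * t) := by
  classical
  have hpp : p.Prime := Fact.out
  have : Fact r.Prime := ⟨hr⟩
  have : Fact s.Prime := ⟨hs⟩
  have hn1 : 1 ≤ n := by omega
  obtain ⟨f, _, hq⟩ := FiniteField.card F p
  have hcoprs : Nat.Coprime r s := (Nat.coprime_primes hr hs).mpr hrs
  have hcopc : Nat.Coprime (r * s)
      (Nat.card (Subgroup.center (Matrix.symplecticGroup (Fin n) F))) := by
    rw [Cfsg.Agent.Lib.Helper07.card_center_symplectic n hn1]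
    apply Nat.Coprime.mul_left
    · exact Nat.Coprime.coprime_dvd_right (Nat.gcd_dvd_left _ _)
        ((Nat.coprime_primes hr Nat.prime_two).mpr hr2)
    · exact Nat.Coprime.coprime_dvd_right (Nat.gcd_dvd_left _ _)
        ((Nat.coprime_primes hs Nat.prime_two).mpr hs2)
  have hred : (r * s ∈ Set.range (orderOf : Cfsg.PSp n F → ℕ)) ↔
      ∃ g : Matrix.symplecticGroup (Fin n) F, orderOf g = r * s := by
    constructor
    · rintro ⟨x, hx⟩
      exact exists_orderOf_of_quotient _ (r * s) hcopc x hx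
    · rintro ⟨g, hg⟩
      refine ⟨QuotientGroup.mk g, ?_⟩
      rw [orderOf_mk_of_coprime _ g (by rw [hg]; exact hcopc), hg]
  have hpos_of : ∀ (t : ℕ), t.Prime → t ≠ p →
      0 < orderOf ((Fintype.card F : ℕ) : ZMod t) := by
    intro t ht htp
    have : Fact t.Prime := ⟨ht⟩
    have hcop : Nat.Coprime (Fintype.card F) t := by
      rw [hq]
      exact Nat.Coprime.pow_left _ ((Nat.coprime_primes hpp ht).mpr (Ne.symm htp))
    have hqunit : ((Fintype.card F : ℕ) : ZMod t) ≠ 0 := by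
      rw [Ne, ZMod.natCast_eq_zero_iff]
      intro h
      exact (Nat.Prime.coprime_iff_not_dvd ht).mp hcop.symm h
    have h1 : ((Fintype.card F : ℕ) : ZMod t) ^ (t - 1) = 1 := ZMod.pow_card_sub_one_eq_one hqunit
    have h2 : orderOf ((Fintype.card F : ℕ) : ZMod t) ∣ t - 1 := orderOf_dvd_of_pow_eq_one h1
    exact Nat.pos_of_dvd_of_pos h2 (by have := ht.two_le; omega)
  have hkpos : 0 < k := by rw [hk]; exact hpos_of r hr hrp
  have hlpos : 0 < l := by rw [hl]; exact hpos_of s hs hsp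
  have hηkpos : 0 < ηk := by rcases hηk with ⟨_, h⟩ | ⟨_, h⟩ <;> omega
  have hηlpos : 0 < ηl := by rcases hηl with ⟨_, h⟩ | ⟨_, h⟩ <;> omega
  rw [hred]
  constructor
  · intro hno
    by_contra hcon
    apply hno
    have hcases : ηk + ηl ≤ n ∨ ∃ t : ℕ, Odd t ∧ l = k * t := by
      by_contra h
      push Not at h
      exact hcon ⟨by omega, fun ⟨t, ht, e⟩ => h.2 t ht e⟩
    rcases hcases with hsum | ⟨t, ht, hlt⟩
    · obtain ⟨x, hx⟩ := exists_orderOf_eta (F := F) p r k ηk hk hkpos hηk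
      obtain ⟨y0, hy0⟩ := exists_orderOf_eta (F := F) p s l ηl hl hlpos hηl
      obtain ⟨y, hy⟩ := exists_orderOf_lift ηl (n - ηk) (by omega) y0
      rw [hy0] at hy
      exact exists_orderOf_mul n ηk (by omega) r s hcoprs x hx y hy
    · have hηln : ηl ≤ n := eta_le_of_dvd_card p n s hs hsp hsG l ηl hl hηl
      have hmain : ∃ z : Matrix.symplecticGroup (Fin ηl) F, orderOf z = r * s := by
        rcases hηk with ⟨hko, hk1⟩ | ⟨hke, hk1⟩
        · -- k odd, l odd
          have hlo : Odd l := by rw [hlt]; exact hko.mul ht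
          rcases hηl with ⟨_, hl1⟩ | ⟨hle, _⟩
          · apply exists_orderOf_odd p ηl hηlpos (r * s)
            apply Nat.Coprime.mul_dvd_of_dvd_of_dvd hcoprs
            · have := dvd_pow_sub_one_of_order (Fintype.card F) r k Fintype.card_pos hk t
              rw [hl1, hlt]; exact this
            · have := dvd_pow_sub_one_of_order (Fintype.card F) s l Fintype.card_pos hl 1
              rw [mul_one] at this
              rw [hl1]; exact this
          · exact absurd hle (Nat.not_even_iff_odd.mpr hlo)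
        · -- k even, l even
          have hle : Even l := by rw [hlt]; exact hke.mul_right t
          rcases hηl with ⟨hlo, _⟩ | ⟨_, hl1⟩
          · exact absurd hle (Nat.not_even_iff_odd.mpr hlo)
          · apply exists_orderOf_even p ηl hηlpos (r * s)
            have hηlt : ηl = ηk * t := by
              have : 2 * ηl = 2 * (ηk * t) := by rw [hl1, hlt, ← hk1]; ring
              omega
            apply Nat.Coprime.mul_dvd_of_dvd_of_dvd hcoprs
            · have := dvd_pow_add_one_of_order (Fintype.card F) r k ηk hk hk1 hηkpos t ht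
              rw [hηlt]; exact this
            · have := dvd_pow_add_one_of_order (Fintype.card F) s l ηl hl hl1 hηlpos 1 odd_one
              rw [mul_one] at this
              exact this
      obtain ⟨z, hz⟩ := hmain
      obtain ⟨g, hg⟩ := exists_orderOf_lift ηl n hηln z
      exact ⟨g, by rw [hg, hz]⟩
  · rintro ⟨hlt, hnot⟩ ⟨g, hg⟩
    rcases non_exist p n hn1 r s hr hs hr2 hs2 hrp hsp g hg k l ηk ηl hk hl hηk hηl hkl with h | h
    · omega
    · exact hnot h

end Cfsg.Agent.S2469
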