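import Mathlib
import Cfsg.Statements.S2470
import Cfsg.Agent.Lib.Helper99.UnipCent
import Cfsg.Agent.Lib.Helper99.NilCount

set_option autoImplicit false
open Cfsg

namespace Cfsg.Agent.S2470

open Cfsg.Agent.Lib.Helper99.UnipCent Cfsg.Agent.Lib.Helper99

section regular

variable {F V : Type*} [Field F] [AddCommGroup V] [Module F V] [FiniteDimensional F V]

/-- an endomorphism commuting with a regular nilpotent map is a scalar plus a nilpotent map -/
theorem exists_scalar_sub_nilpotent (N B : V →ₗ[F] V) (hN : IsNilpotent N)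
    (hreg : N ^ (Module.finrank F V - 1) ≠ 0) (hpos : 0 < Module.finrank F V)
    (hcomm : Commute B N) : ∃ a : F, IsNilpotent (B - a • (1 : V →ₗ[F] V)) := by
  classical
  set n := Module.finrank F V with hn
  obtain ⟨v, hv⟩ : ∃ v, (N ^ (n - 1)) v ≠ 0 := by
    by_contra hcon
    push Not at hcon
    exact hreg (LinearMap.ext hcon)
  -- the vanishing index of `v` is exactly `n`
  have hex : ∃ t, (N ^ t) v = 0 := by
    obtain ⟨t, ht⟩ := hN
    exact ⟨t, by rw [ht]; rfl⟩
  set t := Nat.find hex with htdef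
  have ht0 : (N ^ t) v = 0 := Nat.find_spec hex
  have htn : n ≤ t := by
    by_contra hlt
    apply hv
    have : n - 1 = t + (n - 1 - t) := by omega
    rw [this, add_comm, NilCount.pow_add_apply, ht0, map_zero]
  have htpos : 0 < t := by omega
  have hmin : (N ^ (t - 1)) v ≠ 0 := Nat.find_min hex (by omega)
  have hli := NilCount.indep_pow N (t - 1) v (by rw [show t - 1 + 1 = t by omega]; exact ht0) hmin
  have hcard := hli.fintype_card_le_finrank
  rw [Fintype.card_fin] at hcard
  have htn' : t = n := by omega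
  have hli' : LinearIndependent F (fun i : Fin n => (N ^ i.val) v) := by
    have : t - 1 + 1 = n := by omega
    rw [this] at hli
    exact hli
  have hspan : Submodule.span F (Set.range fun i : Fin n => (N ^ i.val) v) = ⊤ :=
    hli'.span_eq_top_of_card_eq_finrank' (by rw [Fintype.card_fin])
  have hBv : B v ∈ Submodule.span F (Set.range fun i : Fin n => (N ^ i.val) v) := by
    rw [hspan]; exact Submodule.mem_top
  obtain ⟨c, hc⟩ := (Submodule.mem_span_range_iff_exists_fun F).mp hBv
  set P : V →ₗ[F] V := ∑ i : Fin n, c i • N ^ i.val with hP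
  have hPN : ∀ j : ℕ, Commute P (N ^ j) := by
    intro j
    rw [hP]
    apply Commute.sum_left
    intro i _
    exact ((Commute.refl N).pow_pow _ _).smul_left _
  have hBN : ∀ j : ℕ, Commute B (N ^ j) := fun j => hcomm.pow_right j
  have hPv : P v = B v := by
    rw [hP, ← hc, LinearMap.sum_apply]
    rfl
  have hBP : B = P := by
    apply LinearMap.ext_on hspan
    rintro _ ⟨j, rfl⟩
    change B ((N ^ j.val) v) = P ((N ^ j.val) v)
    have e1 : B ((N ^ j.val) v) = (N ^ j.val) (B v) := by
      have := congrArg (fun f : V →ₗ[F] V => f v) (hBN j.val).eq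
      simpa [Module.End.mul_apply] using this
    have e2 : P ((N ^ j.val) v) = (N ^ j.val) (P v) := by
      have := congrArg (fun f : V →ₗ[F] V => f v) (hPN j.val).eq
      simpa [Module.End.mul_apply] using this
    rw [e1, e2, hPv]
  have hn0 : 0 < n := hpos
  refine ⟨c ⟨0, hn0⟩, ?_⟩
  rw [hBP]
  have hsplit : P - c ⟨0, hn0⟩ • (1 : V →ₗ[F] V) =
      ∑ i ∈ Finset.univ.erase (⟨0, hn0⟩ : Fin n), c i • N ^ i.val := by
    rw [hP, ← Finset.add_sum_erase Finset.univ _ (Finset.mem_univ (⟨0, hn0⟩ : Fin n))]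
    simp
  rw [hsplit]
  apply Commute.isNilpotent_sum
  · intro i hi
    have hi0 : i.val ≠ 0 := by
      intro h
      apply (Finset.mem_erase.mp hi).1
      exact Fin.ext h
    have : IsNilpotent (N ^ i.val) := hN.pow_of_pos hi0
    exact this.smul _
  · intro i j _ _
    exact (((Commute.refl N).pow_pow _ _).smul_left _).smul_right _

end regular

section lemmaU

variable {F : Type*} [Field F] (p : ℕ) [Fact p.Prime] [CharP F p] {n : ℕ}

/-- coprime powers in a subgroup -/
theorem mem_of_coprime_pow_mem {G : Type*} [Group G] (Z : Subgroup G) (g : G) (a b : ℕ)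
    (hab : Nat.Coprime a b) (ha : g ^ a ∈ Z) (hb : g ^ b ∈ Z) : g ∈ Z := by
  have h := Nat.gcd_eq_gcd_ab a b
  rw [hab.gcd_eq_one] at h
  have e : g = (g ^ a) ^ (Nat.gcdA a b) * (g ^ b) ^ (Nat.gcdB a b) := by
    rw [← zpow_natCast g a, ← zpow_natCast g b, ← zpow_mul, ← zpow_mul, ← zpow_add, ← h]
    simp
  rw [e]
  exact Z.mul_mem (Z.zpow_mem ha _) (Z.zpow_mem hb _)

/-- a matrix of `SL_n` which is a scalar plus a nilpotent matrix and has a central power of
exponent prime to the characteristic is central -/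
theorem mem_center_of_nilpotent_sub (hn : 0 < n) (B : Matrix.SpecialLinearGroup (Fin n) F) (α : F)
    (hnil : IsNilpotent ((B : Matrix (Fin n) (Fin n) F) - Matrix.scalar (Fin n) α))
    (m : ℕ) (hm : B ^ m ∈ Subgroup.center (Matrix.SpecialLinearGroup (Fin n) F))
    (hpm : ¬ p ∣ m) : B ∈ Subgroup.center (Matrix.SpecialLinearGroup (Fin n) F) := by
  have : Nonempty (Fin n) := ⟨⟨0, hn⟩⟩
  have hpp : p.Prime := Fact.out
  obtain ⟨k, hk⟩ := hnil
  have hk' : ((B : Matrix (Fin n) (Fin n) F) - Matrix.scalar (Fin n) α) ^ (p ^ k) = 0 :=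
    pow_eq_zero_of_le (Nat.lt_pow_self hpp.one_lt).le hk
  have hcomm : Commute (B : Matrix (Fin n) (Fin n) F) (Matrix.scalar (Fin n) α) :=
    (Matrix.scalar_commute α (fun r' => Commute.all α r') _).symm
  rw [sub_pow_char_pow_of_commute p k hcomm, sub_eq_zero, ← map_pow] at hk'
  have hBpk : B ^ (p ^ k) ∈ Subgroup.center (Matrix.SpecialLinearGroup (Fin n) F) := by
    rw [Matrix.SpecialLinearGroup.mem_center_iff]
    refine ⟨α ^ p ^ k, ?_, ?_⟩
    · have hdet : ((B ^ (p ^ k) : Matrix.SpecialLinearGroup (Fin n) F) :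
          Matrix (Fin n) (Fin n) F).det = 1 := (B ^ (p ^ k)).2
      rw [Matrix.SpecialLinearGroup.coe_pow, hk'] at hdet
      simpa using hdet
    · rw [Matrix.SpecialLinearGroup.coe_pow, hk']
  have hcop : Nat.Coprime m (p ^ k) :=
    Nat.Coprime.pow_right _ ((Nat.Prime.coprime_iff_not_dvd hpp).mpr hpm).symm
  exact mem_of_coprime_pow_mem _ B m (p ^ k) hcop hm hBpk

end lemmaU

section nonregular

variable {F V : Type*} [Field F] [AddCommGroup V] [Module F V] [FiniteDimensional F V]

/-- triangular form of a map commuting with a square-zero nilpotent map in dimension three -/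
theorem exists_triangular_basis (h3 : Module.finrank F V = 3) (N B : V →ₗ[F] V)
    (hN0 : N ≠ 0) (hN2 : N * N = 0) (hcomm : Commute B N) :
    ∃ (b : Module.Basis (Fin 3) F V) (α β s x y : F),
      B (b 0) = α • b 0 ∧ B (b 1) = β • b 1 + s • b 0 ∧ B (b 2) = α • b 2 + x • b 0 + y • b 1 := by
  classical
  obtain ⟨v, hv⟩ : ∃ v, N v ≠ 0 := by
    by_contra hcon
    push Not at hcon
    exact hN0 (LinearMap.ext hcon)
  set w := N v with hw
  have hNw : N w = 0 := by
    have := congrArg (fun f : V →ₗ[F] V => f v) hN2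
    simpa [Module.End.mul_apply] using this
  -- dimension of the kernel
  have hrn := LinearMap.finrank_range_add_finrank_ker N
  have hle : LinearMap.range N ≤ LinearMap.ker N := by
    rintro _ ⟨z, rfl⟩
    rw [LinearMap.mem_ker]
    have := congrArg (fun f : V →ₗ[F] V => f z) hN2
    simpa [Module.End.mul_apply] using this
  have hik : Module.finrank F (LinearMap.range N) ≤ Module.finrank F (LinearMap.ker N) :=
    Submodule.finrank_mono hle
  have hk3 : Module.finrank F (LinearMap.ker N) < 3 := by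
    by_contra hge
    have hle3 : Module.finrank F (LinearMap.ker N) ≤ Module.finrank F V := Submodule.finrank_le _
    have htop : LinearMap.ker N = ⊤ := Submodule.eq_top_of_finrank_eq (by omega)
    exact hN0 (LinearMap.ker_eq_top.mp htop)
  have hk2 : Module.finrank F (LinearMap.ker N) = 2 := by omega
  -- a second kernel vector
  have hwk : w ∈ LinearMap.ker N := LinearMap.mem_ker.mpr hNw
  have hlt : Submodule.span F {w} < LinearMap.ker N := by
    refine lt_of_le_of_ne ((Submodule.span_singleton_le_iff_mem _ _).mpr hwk) ?_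
    intro heq
    have h1 : Module.finrank F (Submodule.span F {w}) = 1 := finrank_span_singleton hv
    rw [heq] at h1
    omega
  obtain ⟨u, huk, hu⟩ := SetLike.exists_of_lt hlt
  have hNu : N u = 0 := LinearMap.mem_ker.mp huk
  -- independence
  have hli : LinearIndependent F ![w, u, v] := by
    rw [Fintype.linearIndependent_iff]
    intro g hg
    rw [Fin.sum_univ_three] at hg
    simp only [Matrix.cons_val_zero, Matrix.cons_val_one, Matrix.cons_val_two,
      Matrix.head_cons, Matrix.tail_cons] at hg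
    have h2 : g 2 = 0 := by
      have := congrArg N hg
      rw [map_add, map_add, map_smul, map_smul, map_smul, hNw, hNu, smul_zero, smul_zero,
        zero_add, zero_add, map_zero] at this
      exact (smul_eq_zero.mp this).resolve_right hv
    have h1 : g 1 = 0 := by
      by_contra hne
      apply hu
      rw [h2, zero_smul, add_zero] at hg
      have : u = (-(g 1)⁻¹ * g 0) • w := by
        have h' : g 1 • u = -(g 0 • w) := eq_neg_of_add_eq_zero_right hg
        calc u = (g 1)⁻¹ • (g 1 • u) := by rw [smul_smul, inv_mul_cancel₀ hne, one_smul]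
          _ = (g 1)⁻¹ • (-(g 0 • w)) := by rw [h']
          _ = (-(g 1)⁻¹ * g 0) • w := by rw [smul_neg, smul_smul, neg_mul, neg_smul]
      rw [this]
      exact Submodule.smul_mem _ _ (Submodule.mem_span_singleton_self w)
    have h0 : g 0 = 0 := by
      rw [h2, h1, zero_smul, zero_smul, add_zero, add_zero] at hg
      have hw0 : w ≠ 0 := hv
      exact (smul_eq_zero.mp hg).resolve_right hw0
    intro i
    fin_cases i
    · exact h0
    · exact h1
    · exact h2
  let b : Module.Basis (Fin 3) F V :=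
    basisOfLinearIndependentOfCardEqFinrank hli (by rw [Fintype.card_fin, h3])
  have hb : ∀ i, b i = ![w, u, v] i := fun i => by
    simp [b, coe_basisOfLinearIndependentOfCardEqFinrank]
  have hb0 : b 0 = w := hb 0
  have hb1 : b 1 = u := hb 1
  have hb2 : b 2 = v := hb 2
  -- expansions
  have hexp : ∀ z : V, z = b.repr z 0 • w + b.repr z 1 • u + b.repr z 2 • v := by
    intro z
    conv_lhs => rw [← b.sum_repr z]
    rw [Fin.sum_univ_three, hb0, hb1, hb2]
  have hNexp : ∀ z : V, N z = b.repr z 2 • w := by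
    intro z
    conv_lhs => rw [hexp z]
    rw [map_add, map_add, map_smul, map_smul, map_smul, hNw, hNu, smul_zero, smul_zero,
      zero_add, zero_add]
  have hBNz : ∀ z, B (N z) = N (B z) := by
    intro z
    have := congrArg (fun f : V →ₗ[F] V => f z) hcomm.eq
    simpa [Module.End.mul_apply] using this
  refine ⟨b, b.repr (B v) 2, b.repr (B u) 1, b.repr (B u) 0, b.repr (B v) 0, b.repr (B v) 1,
    ?_, ?_, ?_⟩
  · rw [hb0, hw, hBNz, hNexp (B v)]
  · rw [hb1, hb0]
    have hz : b.repr (B u) 2 = 0 := by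
      have h1 : N (B u) = 0 := by rw [← hBNz, hNu, map_zero]
      rw [hNexp (B u)] at h1
      exact (smul_eq_zero.mp h1).resolve_right hv
    conv_lhs => rw [hexp (B u)]
    rw [hz, zero_smul, add_zero, add_comm]
  · rw [hb2, hb0, hb1]
    conv_lhs => rw [hexp (B v)]
    abel

end nonregular

section tri

variable {F V : Type*} [Field F] [AddCommGroup V] [Module F V]

theorem det_of_triangular (b : Module.Basis (Fin 3) F V) (B : V →ₗ[F] V) (α β γ s x y : F)
    (h0 : B (b 0) = α • b 0) (h1 : B (b 1) = β • b 1 + s • b 0)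
    (h2 : B (b 2) = γ • b 2 + x • b 0 + y • b 1) : LinearMap.det B = α * β * γ := by
  rw [← LinearMap.det_toMatrix b, Matrix.det_fin_three]
  simp [LinearMap.toMatrix_apply, h0, h1, h2]

theorem nilpotent_of_triangular (b : Module.Basis (Fin 3) F V) (B : V →ₗ[F] V) (α s x y : F)
    (h0 : B (b 0) = α • b 0) (h1 : B (b 1) = α • b 1 + s • b 0)
    (h2 : B (b 2) = α • b 2 + x • b 0 + y • b 1) :
    (B - α • (1 : V →ₗ[F] V)) ^ 3 = 0 := by
  set T := B - α • (1 : V →ₗ[F] V) with hT
  have t0 : T (b 0) = 0 := by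
    rw [hT, LinearMap.sub_apply, h0]; simp
  have t1 : T (b 1) = s • b 0 := by
    rw [hT, LinearMap.sub_apply, h1]; simp
  have t2 : T (b 2) = x • b 0 + y • b 1 := by
    rw [hT, LinearMap.sub_apply, h2]; simp [add_assoc]
  apply b.ext
  intro i
  rw [pow_succ, pow_two, Module.End.mul_apply, Module.End.mul_apply, LinearMap.zero_apply]
  fin_cases i
  · change T (T (T (b 0))) = 0
    rw [t0, map_zero, map_zero]
  · change T (T (T (b 1))) = 0
    rw [t1, map_smul, t0, smul_zero, map_zero]
  · change T (T (T (b 2))) = 0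
    rw [t2, map_add, map_smul, map_smul, t0, t1, smul_zero, zero_add, map_smul, map_smul, t0,
      smul_zero, smul_zero]

end tri

section backward

variable {F : Type*} [Field F] [Fintype F] (p : ℕ) [Fact p.Prime] [CharP F p] {n : ℕ}

omit [Fintype F] [CharP F p] in
theorem toLin_scalar (α : F) : Matrix.toLinAlgEquiv' (Matrix.scalar (Fin n) α) =
    α • (1 : (Fin n → F) →ₗ[F] (Fin n → F)) := by
  have : Matrix.scalar (Fin n) α = algebraMap F (Matrix (Fin n) (Fin n) F) α := by
    rw [Matrix.algebraMap_eq_diagonal]; rfl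
  rw [this, AlgEquiv.commutes, Algebra.algebraMap_eq_smul_one]

omit [Fintype F] [CharP F p] in
theorem det_toLin (M : Matrix (Fin n) (Fin n) F) :
    LinearMap.det (Matrix.toLinAlgEquiv' M) = M.det := by
  have : (Matrix.toLinAlgEquiv' M : (Fin n → F) →ₗ[F] (Fin n → F)) = Matrix.toLin' M := by
    ext v i
    simp [Matrix.toLinAlgEquiv'_apply, Matrix.toLin'_apply]
  rw [this, LinearMap.det_toLin']

/-- no element of order `r * p` under the numerical conditions -/
theorem no_element (hn : 2 ≤ n) (r : ℕ) (hr : r.Prime) (hrp : r ≠ p)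
    (hRHS : n - 2 < orderOf ((Fintype.card F : ℕ) : ZMod r) ∨
      (n = 3 ∧ r = 3 ∧ 3 ∣ Fintype.card F - 1 ∧ ¬ 9 ∣ Fintype.card F - 1))
    (g : Matrix.ProjectiveSpecialLinearGroup (Fin n) F) (hg : orderOf g = r * p) : False := by
  have hpp : p.Prime := Fact.out
  have : Fact r.Prime := ⟨hr⟩
  obtain ⟨G0, rfl⟩ := QuotientGroup.mk_surjective g
  set A : Matrix.SpecialLinearGroup (Fin n) F := G0 ^ r with hA
  set B : Matrix.SpecialLinearGroup (Fin n) F := G0 ^ p with hB
  have hAp : (QuotientGroup.mk A : Matrix.ProjectiveSpecialLinearGroup (Fin n) F) ^ p = 1 := by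
    rw [hA, QuotientGroup.mk_pow, ← pow_mul, ← hg]; exact pow_orderOf_eq_one _
  have hA1 : (QuotientGroup.mk A : Matrix.ProjectiveSpecialLinearGroup (Fin n) F) ≠ 1 := by
    intro h
    rw [hA, QuotientGroup.mk_pow] at h
    have := orderOf_dvd_of_pow_eq_one h
    rw [hg] at this
    have h2 : p ∣ 1 := by
      have : r * p ∣ r * 1 := by rw [mul_one]; exact this
      exact Nat.dvd_of_mul_dvd_mul_left hr.pos this
    exact hpp.one_lt.ne' (Nat.dvd_one.mp h2)
  have hBr : (QuotientGroup.mk B : Matrix.ProjectiveSpecialLinearGroup (Fin n) F) ^ r = 1 := by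
    rw [hB, QuotientGroup.mk_pow, ← pow_mul, mul_comm, ← hg]; exact pow_orderOf_eq_one _
  have hB1 : (QuotientGroup.mk B : Matrix.ProjectiveSpecialLinearGroup (Fin n) F) ≠ 1 := by
    intro h
    rw [hB, QuotientGroup.mk_pow] at h
    have := orderOf_dvd_of_pow_eq_one h
    rw [hg] at this
    have h2 : r ∣ 1 := by
      have : r * p ∣ 1 * p := by rw [one_mul]; exact this
      exact Nat.dvd_of_mul_dvd_mul_right hpp.pos this
    exact hr.one_lt.ne' (Nat.dvd_one.mp h2)
  have hBrc : B ^ r ∈ Subgroup.center (Matrix.SpecialLinearGroup (Fin n) F) := by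
    rw [← QuotientGroup.mk_pow] at hBr
    exact (QuotientGroup.eq_one_iff _).mp hBr
  have hBnc : B ∉ Subgroup.center (Matrix.SpecialLinearGroup (Fin n) F) := by
    intro h
    exact hB1 ((QuotientGroup.eq_one_iff _).mpr h)
  have hABcomm : A * B = B * A := ((Commute.refl G0).pow_pow r p).eq
  obtain ⟨c, hNp, hN0⟩ := exists_nilpotent p (by omega) A hAp hA1
  set N0 : Matrix (Fin n) (Fin n) F := (A : Matrix (Fin n) (Fin n) F) - Matrix.scalar (Fin n) c
    with hN0def
  have hBN0 : (B : Matrix (Fin n) (Fin n) F) * N0 = N0 * (B : Matrix (Fin n) (Fin n) F) := by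
    have h1 : (A : Matrix (Fin n) (Fin n) F) * (B : Matrix (Fin n) (Fin n) F) =
        (B : Matrix (Fin n) (Fin n) F) * (A : Matrix (Fin n) (Fin n) F) := by
      rw [← Matrix.SpecialLinearGroup.coe_mul, hABcomm, Matrix.SpecialLinearGroup.coe_mul]
    have h2 : Matrix.scalar (Fin n) c * (B : Matrix (Fin n) (Fin n) F) =
        (B : Matrix (Fin n) (Fin n) F) * Matrix.scalar (Fin n) c :=
      (Matrix.scalar_commute c (fun r' => Commute.all c r') _).eq
    rw [hN0def, sub_mul, mul_sub, h1, h2]
  -- linear maps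
  let e := Matrix.toLinAlgEquiv' (R := F) (n := Fin n)
  set Bl := e (B : Matrix (Fin n) (Fin n) F) with hBl
  set Nl := e N0 with hNl
  have hcommL : Commute Bl Nl := by
    change Bl * Nl = Nl * Bl
    rw [hBl, hNl, ← map_mul, ← map_mul, hBN0]
  have hNlnil : IsNilpotent Nl := ⟨p, by rw [hNl, ← map_pow, hNp, map_zero]⟩
  have hNl0 : Nl ≠ 0 := by
    intro h
    apply hN0
    exact e.injective (by rw [← hNl, h, map_zero])
  have hfr : Module.finrank F (Fin n → F) = n := Module.finrank_fin_fun F
  -- closing argument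
  have close : (∃ α : F, IsNilpotent (Bl - α • (1 : (Fin n → F) →ₗ[F] (Fin n → F)))) → False := by
    rintro ⟨α, hnil⟩
    apply hBnc
    refine mem_center_of_nilpotent_sub p (by omega) B α ?_ r hBrc ?_
    · have h1 : e ((B : Matrix (Fin n) (Fin n) F) - Matrix.scalar (Fin n) α) =
          Bl - α • (1 : (Fin n → F) →ₗ[F] (Fin n → F)) := by
        rw [map_sub, toLin_scalar]
      have h2 := hnil.map e.symm
      rw [← h1] at h2
      simpa using h2
    · intro hdvd
      exact hrp ((Nat.prime_dvd_prime_iff_eq hpp hr).mp hdvd).symm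
  rcases hRHS with hk | ⟨hn3, hr3, h3, h9⟩
  · by_cases hn2 : n = 2
    · -- dimension two: the nilpotent part is regular
      apply close
      apply exists_scalar_sub_nilpotent Nl Bl hNlnil ?_ (by rw [hfr]; omega) hcommL
      rw [hfr]
      have h1 : n - 1 = 1 := by omega
      rw [h1, pow_one]
      exact hNl0
    · -- the main case
      have hrB : r ∣ orderOf B := by
        have h1 : orderOf (QuotientGroup.mk B : Matrix.ProjectiveSpecialLinearGroup (Fin n) F) = r :=
          orderOf_eq_prime hBr hB1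
        rw [← h1]
        apply orderOf_dvd_of_pow_eq_one
        rw [← QuotientGroup.mk_pow, pow_orderOf_eq_one, QuotientGroup.mk_one]
      have hX0 : orderOf (B ^ (orderOf B / r)) = r :=
        orderOf_pow_orderOf_div (orderOf_pos B).ne' hrB
      set X0 : Matrix.SpecialLinearGroup (Fin n) F := B ^ (orderOf B / r) with hX0def
      have hX0r : X0 ^ r = 1 := by rw [← hX0]; exact pow_orderOf_eq_one _
      have hX01 : X0 ≠ 1 := by
        intro h
        rw [h, orderOf_one] at hX0
        exact hr.one_lt.ne hX0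
      have hcop : Nat.Coprime (Nat.card F) r := by
        obtain ⟨k, _, hk⟩ := FiniteField.card F p
        rw [Nat.card_eq_fintype_card, hk]
        exact Nat.Coprime.pow_left _ ((Nat.coprime_primes hpp hr).mpr (Ne.symm hrp))
      refine core_false (F := F) (V := Fin n → F) (e (X0 : Matrix (Fin n) (Fin n) F)) Nl r
        ?_ ?_ hNlnil hNl0 ?_ hcop ?_ ?_
      · rw [← map_pow, ← Matrix.SpecialLinearGroup.coe_pow, hX0r,
          Matrix.SpecialLinearGroup.coe_one, map_one]
      · intro h
        apply hX01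
        apply Subtype.ext
        rw [Matrix.SpecialLinearGroup.coe_one]
        exact e.injective (by rw [h, map_one])
      · intro v
        have hm : N0 * (X0 : Matrix (Fin n) (Fin n) F) = (X0 : Matrix (Fin n) (Fin n) F) * N0 := by
          rw [hX0def, Matrix.SpecialLinearGroup.coe_pow]
          exact ((Commute.pow_left (show Commute (B : Matrix (Fin n) (Fin n) F) N0 from hBN0) _).eq).symm
        have := congrArg (fun M => e M v) hm
        simp only [map_mul, Module.End.mul_apply] at this
        exact this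
      · rw [hfr]; omega
      · rw [hfr, Nat.card_eq_fintype_card]
        intro j hj1 hj2 hmod
        have hlt : j < orderOf ((Fintype.card F : ℕ) : ZMod r) := by omega
        have hne := pow_ne_one_of_lt_orderOf (by omega : j ≠ 0) hlt
        apply hne
        have h1 := (ZMod.natCast_eq_natCast_iff _ _ _).mpr hmod
        rw [Nat.cast_pow, Nat.cast_one] at h1
        exact h1
  · -- the exceptional case
    subst hn3
    subst hr3
    by_cases hreg : Nl * Nl = 0
    · obtain ⟨b, α, β, s, x, y, h0, h1, h2⟩ :=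
        exists_triangular_basis (by rw [hfr]) Nl Bl hNl0 hreg hcommL
      have hdet : α * β * α = 1 := by
        rw [← det_of_triangular b Bl α β α s x y h0 h1 h2, hBl, det_toLin]
        exact B.2
      -- the cube of `B` is a scalar
      obtain ⟨ζ, hζ3, hζ⟩ := Matrix.SpecialLinearGroup.mem_center_iff.mp hBrc
      rw [Fintype.card_fin] at hζ3
      have hBl3 : Bl ^ 3 = ζ • (1 : (Fin 3 → F) →ₗ[F] (Fin 3 → F)) := by
        rw [hBl, ← map_pow, ← Matrix.SpecialLinearGroup.coe_pow, ← hζ, toLin_scalar]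
      have hα3 : α ^ 3 = ζ := by
        have h := congrArg (fun f : (Fin 3 → F) →ₗ[F] (Fin 3 → F) => f (b 0)) hBl3
        simp only [pow_succ, pow_zero, one_mul, Module.End.mul_apply, LinearMap.smul_apply,
          Module.End.one_apply, h0, map_smul, smul_smul] at h
        have hb0 : b 0 ≠ 0 := b.ne_zero 0
        have h' : (α * (α * α) - ζ) • b 0 = 0 := by rw [sub_smul, h, sub_self]
        have := (smul_eq_zero.mp h').resolve_right hb0
        linear_combination this
      have hα0 : α ≠ 0 := by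
        intro h
        rw [h] at hdet
        simp at hdet
      have hα9 : α ^ 9 = 1 := by
        rw [show 9 = 3 * 3 by norm_num, pow_mul, hα3, hζ3]
      have hαq : α ^ (Fintype.card F - 1) = 1 := FiniteField.pow_card_sub_one_eq_one α hα0
      have hgcd : Nat.gcd 9 (Fintype.card F - 1) = 3 := by
        have hd : Nat.gcd 9 (Fintype.card F - 1) ∣ 9 := Nat.gcd_dvd_left _ _
        have h3' : 3 ∣ Nat.gcd 9 (Fintype.card F - 1) := Nat.dvd_gcd (by norm_num) h3
        have hle : Nat.gcd 9 (Fintype.card F - 1) ≤ 9 := Nat.le_of_dvd (by norm_num) hd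
        have hne9 : Nat.gcd 9 (Fintype.card F - 1) ≠ 9 := by
          intro h
          apply h9
          rw [← h]
          exact Nat.gcd_dvd_right _ _
        interval_cases hgc : Nat.gcd 9 (Fintype.card F - 1) <;> omega
      have hα31 : α ^ 3 = 1 := by
        rw [← hgcd]
        exact pow_gcd_eq_one.mpr ⟨hα9, hαq⟩
      have hβ : β = α := by
        have : β = α ^ 3 * β := by rw [hα31, one_mul]
        rw [this]
        calc α ^ 3 * β = α * (α * β * α) := by ring
          _ = α := by rw [hdet, mul_one]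
      subst hβ
      apply close
      exact ⟨β, 3, nilpotent_of_triangular b Bl β s x y h0 h1 h2⟩
    · apply close
      apply exists_scalar_sub_nilpotent Nl Bl hNlnil ?_ (by rw [hfr]; omega) hcommL
      rw [hfr]
      simpa [pow_two] using hreg

end backward

section blocks

variable {F : Type*} [Field F] {m : ℕ}

/-- the block diagonal embedding -/
noncomputable def blk (M₁ : Matrix (Fin m) (Fin m) F) (M₂ : Matrix (Fin 2) (Fin 2) F) :
    Matrix (Fin (m + 2)) (Fin (m + 2)) F :=
  Matrix.reindexAlgEquiv F F (finSumFinEquiv : Fin m ⊕ Fin 2 ≃ Fin (m + 2))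
    (Matrix.fromBlocks M₁ 0 0 M₂)

theorem blk_mul (M₁ M₁' : Matrix (Fin m) (Fin m) F) (M₂ M₂' : Matrix (Fin 2) (Fin 2) F) :
    blk M₁ M₂ * blk M₁' M₂' = blk (M₁ * M₁') (M₂ * M₂') := by
  unfold blk
  rw [← map_mul, Matrix.fromBlocks_multiply]
  simp

theorem blk_one : blk (1 : Matrix (Fin m) (Fin m) F) (1 : Matrix (Fin 2) (Fin 2) F) = 1 := by
  unfold blk
  rw [Matrix.fromBlocks_one, map_one]

theorem blk_det (M₁ : Matrix (Fin m) (Fin m) F) (M₂ : Matrix (Fin 2) (Fin 2) F) :
    (blk M₁ M₂).det = M₁.det * M₂.det := by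
  unfold blk
  rw [Matrix.det_reindexAlgEquiv, Matrix.det_fromBlocks_zero₂₁]

theorem blk_eq_scalar (M₁ : Matrix (Fin m) (Fin m) F) (M₂ : Matrix (Fin 2) (Fin 2) F) (c : F)
    (h : blk M₁ M₂ = Matrix.scalar (Fin (m + 2)) c) :
    M₁ = Matrix.scalar (Fin m) c ∧ M₂ = Matrix.scalar (Fin 2) c := by
  have hs : Matrix.scalar (Fin (m + 2)) c = blk (Matrix.scalar (Fin m) c) (Matrix.scalar (Fin 2) c) := by
    unfold blk
    have h1 : Matrix.fromBlocks (Matrix.scalar (Fin m) c) 0 0 (Matrix.scalar (Fin 2) c) =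
        algebraMap F (Matrix (Fin m ⊕ Fin 2) (Fin m ⊕ Fin 2) F) c := by
      rw [Algebra.algebraMap_eq_smul_one, ← Matrix.fromBlocks_one, Matrix.fromBlocks_smul]
      simp [Matrix.smul_one_eq_diagonal]
    rw [h1, AlgEquiv.commutes, Matrix.algebraMap_eq_diagonal]
    rfl
  rw [hs] at h
  unfold blk at h
  have h2 := (Matrix.reindexAlgEquiv F F (finSumFinEquiv : Fin m ⊕ Fin 2 ≃ Fin (m + 2))).injective h
  rw [Matrix.fromBlocks_inj] at h2
  exact ⟨h2.1, h2.2.2.2⟩

/-- block embedding of the first factor -/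
noncomputable def phi1 : Matrix (Fin m) (Fin m) F →* Matrix (Fin (m + 2)) (Fin (m + 2)) F where
  toFun M := blk M 1
  map_one' := blk_one
  map_mul' M M' := by rw [blk_mul, mul_one]

/-- block embedding of the second factor -/
noncomputable def phi2 : Matrix (Fin 2) (Fin 2) F →* Matrix (Fin (m + 2)) (Fin (m + 2)) F where
  toFun M := blk 1 M
  map_one' := blk_one
  map_mul' M M' := by rw [blk_mul, mul_one]

theorem phi1_phi2_comm (M₁ : Matrix (Fin m) (Fin m) F) (M₂ : Matrix (Fin 2) (Fin 2) F) :
    phi2 (m := m) M₂ * phi1 M₁ = phi1 M₁ * phi2 M₂ := by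
  change blk 1 M₂ * blk M₁ 1 = blk M₁ 1 * blk 1 M₂
  rw [blk_mul, blk_mul, one_mul, mul_one, one_mul, mul_one]

end blocks

section forward

variable {F : Type*} [Field F] (p : ℕ) [Fact p.Prime] [CharP F p]

theorem one_add_pow_char {ι : Type*} [Fintype ι] [DecidableEq ι] [Nonempty ι] (N : Matrix ι ι F)
    (hN : N * N = 0) : (1 + N) ^ p = 1 := by
  have hpp : p.Prime := Fact.out
  rw [add_pow_char_of_commute p (Commute.one_left N), one_pow]
  have : N ^ p = 0 := by
    have h2 : N ^ 2 = 0 := by rw [pow_two, hN]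
    exact pow_eq_zero_of_le hpp.two_le h2
  rw [this, add_zero]

omit [CharP F p] in
/-- the order of a product of commuting lifts -/
theorem orderOf_mk_mul {n : ℕ} (r : ℕ) (hr : r.Prime) (hrp : r ≠ p)
    (A B : Matrix.SpecialLinearGroup (Fin n) F) (hcomm : A * B = B * A) (hAp : A ^ p = 1)
    (hAc : A ∉ Subgroup.center (Matrix.SpecialLinearGroup (Fin n) F))
    (hBr : B ^ r ∈ Subgroup.center (Matrix.SpecialLinearGroup (Fin n) F))
    (hBc : B ∉ Subgroup.center (Matrix.SpecialLinearGroup (Fin n) F)) :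
    orderOf (QuotientGroup.mk (A * B) : Matrix.ProjectiveSpecialLinearGroup (Fin n) F) = r * p := by
  have hpp : p.Prime := Fact.out
  have : Fact r.Prime := ⟨hr⟩
  have hA : orderOf (QuotientGroup.mk A : Matrix.ProjectiveSpecialLinearGroup (Fin n) F) = p := by
    apply orderOf_eq_prime
    · rw [← QuotientGroup.mk_pow, hAp, QuotientGroup.mk_one]
    · intro h
      exact hAc ((QuotientGroup.eq_one_iff _).mp h)
  have hB : orderOf (QuotientGroup.mk B : Matrix.ProjectiveSpecialLinearGroup (Fin n) F) = r := by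
    apply orderOf_eq_prime
    · rw [← QuotientGroup.mk_pow]
      exact (QuotientGroup.eq_one_iff _).mpr hBr
    · intro h
      exact hBc ((QuotientGroup.eq_one_iff _).mp h)
  have hc : Commute (QuotientGroup.mk A : Matrix.ProjectiveSpecialLinearGroup (Fin n) F)
      (QuotientGroup.mk B) := by
    change _ * _ = _ * _
    rw [← QuotientGroup.mk_mul, ← QuotientGroup.mk_mul, hcomm]
  rw [QuotientGroup.mk_mul, hc.orderOf_mul_eq_mul_orderOf_of_coprime
    (by rw [hA, hB]; exact (Nat.coprime_primes hpp hr).mpr (Ne.symm hrp)), hA, hB, mul_comm]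

/-- the block construction for `n = m + 2 ≥ 4` -/
theorem exists_order_block {m : ℕ} (r : ℕ) (hr : r.Prime) (hrp : r ≠ p)
    (B0 : Matrix.SpecialLinearGroup (Fin m) F) (hB0 : orderOf B0 = r) :
    ∃ g : Matrix.ProjectiveSpecialLinearGroup (Fin (m + 2)) F, orderOf g = r * p := by
  let U : Matrix (Fin 2) (Fin 2) F := !![1, 1; 0, 1]
  have hUdet : U.det = 1 := by simp [U, Matrix.det_fin_two]
  have hUp : U ^ p = 1 := by
    have : U = 1 + !![0, 1; 0, 0] := by
      ext i j; fin_cases i <;> fin_cases j <;> simp [U]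
    rw [this]
    apply one_add_pow_char p
    ext i j; fin_cases i <;> fin_cases j <;> simp [Matrix.mul_apply, Fin.sum_univ_two]
  let A : Matrix.SpecialLinearGroup (Fin (m + 2)) F :=
    ⟨phi2 U, by change (blk 1 U).det = 1; rw [blk_det, Matrix.det_one, one_mul, hUdet]⟩
  let B : Matrix.SpecialLinearGroup (Fin (m + 2)) F :=
    ⟨phi1 (B0 : Matrix (Fin m) (Fin m) F), by
      change (blk (B0 : Matrix (Fin m) (Fin m) F) 1).det = 1
      rw [blk_det, Matrix.det_one, mul_one]; exact B0.2⟩
  refine ⟨QuotientGroup.mk (A * B), orderOf_mk_mul p r hr hrp A B ?_ ?_ ?_ ?_ ?_⟩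
  · apply Subtype.ext
    rw [Matrix.SpecialLinearGroup.coe_mul, Matrix.SpecialLinearGroup.coe_mul]
    exact phi1_phi2_comm _ _
  · apply Subtype.ext
    rw [Matrix.SpecialLinearGroup.coe_pow, Matrix.SpecialLinearGroup.coe_one]
    change (phi2 U) ^ p = 1
    rw [← map_pow, hUp, map_one]
  · intro h
    obtain ⟨c, _, hc⟩ := Matrix.SpecialLinearGroup.mem_center_iff.mp h
    have h1 : blk (1 : Matrix (Fin m) (Fin m) F) U = Matrix.scalar (Fin (m + 2)) c := hc.symm
    have h2 := (blk_eq_scalar _ _ c h1).2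
    have h3 := congrFun (congrFun h2 0) 1
    simp [U] at h3
  · have : B ^ r = 1 := by
      apply Subtype.ext
      rw [Matrix.SpecialLinearGroup.coe_pow, Matrix.SpecialLinearGroup.coe_one]
      change (phi1 (B0 : Matrix (Fin m) (Fin m) F)) ^ r = 1
      rw [← map_pow, ← Matrix.SpecialLinearGroup.coe_pow, ← hB0, pow_orderOf_eq_one,
        Matrix.SpecialLinearGroup.coe_one, map_one]
    rw [this]
    exact Subgroup.one_mem _
  · intro h
    obtain ⟨c, _, hc⟩ := Matrix.SpecialLinearGroup.mem_center_iff.mp h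
    have h1 : blk (B0 : Matrix (Fin m) (Fin m) F) 1 = Matrix.scalar (Fin (m + 2)) c := hc.symm
    obtain ⟨h2, h3⟩ := blk_eq_scalar _ _ c h1
    have hc1 : c = 1 := by
      rw [← map_one (Matrix.scalar (Fin 2)), Matrix.scalar_inj] at h3
      exact h3.symm
    rw [hc1, map_one] at h2
    have hB01 : B0 = 1 := by
      apply Subtype.ext
      rw [h2, Matrix.SpecialLinearGroup.coe_one]
    rw [hB01, orderOf_one] at hB0
    exact hr.one_lt.ne hB0

end forward

section three

variable {F : Type*} [Field F] (p : ℕ) [Fact p.Prime] [CharP F p]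

/-- the diagonal construction in dimension three -/
theorem exists_order_three (r : ℕ) (hr : r.Prime) (hrp : r ≠ p) (l : Fˣ)
    (hl : l ^ (3 * r) = 1) (hl3 : l ^ 3 ≠ 1) :
    ∃ g : Matrix.ProjectiveSpecialLinearGroup (Fin 3) F, orderOf g = r * p := by
  let Am : Matrix (Fin 3) (Fin 3) F := !![1, 1, 0; 0, 1, 0; 0, 0, 1]
  let d : Fin 3 → F := ![(l : F), (l : F), ((l⁻¹ : Fˣ) : F) ^ 2]
  have hAdet : Am.det = 1 := by simp [Am, Matrix.det_fin_three]
  have hBdet : (Matrix.diagonal d).det = 1 := by
    rw [Matrix.det_diagonal, Fin.prod_univ_three]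
    simp only [d, Matrix.cons_val_zero, Matrix.cons_val_one, Matrix.cons_val_two,
      Matrix.head_cons, Matrix.tail_cons]
    rw [← Units.val_pow_eq_pow_val, ← Units.val_mul, ← Units.val_mul]
    have : l * l * l⁻¹ ^ 2 = 1 := by group
    rw [this, Units.val_one]
  let A : Matrix.SpecialLinearGroup (Fin 3) F := ⟨Am, hAdet⟩
  let B : Matrix.SpecialLinearGroup (Fin 3) F := ⟨Matrix.diagonal d, hBdet⟩
  have hAp : Am ^ p = 1 := by
    have : Am = 1 + !![0, 1, 0; 0, 0, 0; 0, 0, 0] := by
      ext i j; fin_cases i <;> fin_cases j <;> simp [Am]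
    rw [this]
    apply one_add_pow_char p
    ext i j; fin_cases i <;> fin_cases j <;> simp [Matrix.mul_apply, Fin.sum_univ_three]
  -- the `r`-th power of `l`
  set μ : Fˣ := l ^ r with hμ
  have hμ3 : μ ^ 3 = 1 := by rw [hμ, ← pow_mul, mul_comm, hl]
  have hBr : (Matrix.diagonal d) ^ r = Matrix.scalar (Fin 3) (μ : F) := by
    rw [Matrix.diagonal_pow, Matrix.scalar_apply]
    congr 1
    funext i
    fin_cases i
    · simp [d, hμ]
    · simp [d, hμ]
    · simp only [d, Pi.pow_apply]
      change (((l⁻¹ : Fˣ) : F) ^ 2) ^ r = (μ : F)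
      rw [← Units.val_pow_eq_pow_val, ← Units.val_pow_eq_pow_val]
      congr 1
      have h1 : ((l⁻¹) ^ 2) ^ r = (μ⁻¹) ^ 2 := by
        rw [hμ, ← pow_mul, mul_comm 2 r, pow_mul, inv_pow]
      rw [h1, inv_pow]
      apply inv_eq_of_mul_eq_one_right
      rw [← pow_succ, hμ3]
  refine ⟨QuotientGroup.mk (A * B), orderOf_mk_mul p r hr hrp A B ?_ ?_ ?_ ?_ ?_⟩
  · apply Subtype.ext
    rw [Matrix.SpecialLinearGroup.coe_mul, Matrix.SpecialLinearGroup.coe_mul]
    change Am * Matrix.diagonal d = Matrix.diagonal d * Am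
    ext i j
    fin_cases i <;> fin_cases j <;>
      simp [Am, d, Matrix.mul_apply, Matrix.diagonal_apply]
  · apply Subtype.ext
    rw [Matrix.SpecialLinearGroup.coe_pow, Matrix.SpecialLinearGroup.coe_one]
    exact hAp
  · intro h
    obtain ⟨c, _, hc⟩ := Matrix.SpecialLinearGroup.mem_center_iff.mp h
    have h1 : Matrix.scalar (Fin 3) c = Am := hc
    have h3 := congrFun (congrFun h1 0) 1
    simp [Am] at h3
  · rw [Matrix.SpecialLinearGroup.mem_center_iff]
    refine ⟨(μ : F), ?_, ?_⟩
    · rw [Fintype.card_fin, ← Units.val_pow_eq_pow_val, hμ3, Units.val_one]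
    · rw [Matrix.SpecialLinearGroup.coe_pow]
      exact hBr.symm
  · intro h
    obtain ⟨c, _, hc⟩ := Matrix.SpecialLinearGroup.mem_center_iff.mp h
    have h1 : Matrix.scalar (Fin 3) c = Matrix.diagonal d := hc
    have h00 := congrFun (congrFun h1 0) 0
    have h22 := congrFun (congrFun h1 2) 2
    simp [d] at h00 h22
    apply hl3
    apply Units.ext
    rw [Units.val_pow_eq_pow_val, Units.val_one]
    have hl0 : (l : F) ≠ 0 := l.ne_zero
    rw [h00] at h22
    field_simp at h22
    linear_combination h22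

end three

section units

variable {F : Type*} [Field F] [Fintype F]

theorem exists_unit (r : ℕ) (hr : r.Prime) (hrq : r ∣ Fintype.card F - 1)
    (hnex : r ≠ 3 ∨ 9 ∣ Fintype.card F - 1) : ∃ l : Fˣ, l ^ (3 * r) = 1 ∧ l ^ 3 ≠ 1 := by
  classical
  have hcard : Nat.card Fˣ = Fintype.card F - 1 := by
    rw [Nat.card_eq_fintype_card, Fintype.card_units]
  by_cases hr3 : r = 3
  · have h9 : 9 ∣ Fintype.card F - 1 := by
      rcases hnex with h | h
      · exact absurd hr3 h
      · exact h
    obtain ⟨g, hg⟩ := IsCyclic.exists_generator (α := Fˣ)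
    have hog : orderOf g = Fintype.card F - 1 := by
      rw [← hcard]
      exact orderOf_eq_card_of_forall_mem_zpowers hg
    have hq1 : Fintype.card F - 1 ≠ 0 := by
      have : 2 ≤ Fintype.card F := Fintype.one_lt_card
      omega
    have h9' : 9 ∣ orderOf g := by rw [hog]; exact h9
    have hl : orderOf (g ^ (orderOf g / 9)) = 9 :=
      orderOf_pow_orderOf_div (by rw [hog]; exact hq1) h9'
    refine ⟨g ^ (orderOf g / 9), ?_, ?_⟩
    · rw [hr3]
      have : (3 * 3 : ℕ) = 9 := by norm_num
      rw [this]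
      have h2 := pow_orderOf_eq_one (g ^ (orderOf g / 9))
      rw [hl] at h2
      exact h2
    · intro h
      have := orderOf_dvd_of_pow_eq_one h
      rw [hl] at this
      omega
  · have : Fact r.Prime := ⟨hr⟩
    obtain ⟨l, hl⟩ := exists_prime_orderOf_dvd_card' (G := Fˣ) r (by rw [hcard]; exact hrq)
    refine ⟨l, ?_, ?_⟩
    · rw [mul_comm, pow_mul, ← hl, pow_orderOf_eq_one, one_pow]
    · intro h
      have := orderOf_dvd_of_pow_eq_one h
      rw [hl] at this
      exact hr3 ((Nat.prime_dvd_prime_iff_eq hr Nat.prime_three).mp this)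

end units

/-- Adjacency of an odd prime and the characteristic in the prime graph of PSL(n,q): let F be a finite field of characteristic p with q elements, n ≥ 2 with PSL(n,F) simple, and let r ≠ p be an odd prime dividing the order of PSL(n,F), with k the multiplicative order of q modulo r. Then PSL(n,F) has NO element of order r·p if and only if either k > n − 2, or n = 3, r = 3 and 3 divides q − 1 exactly once. -/
theorem result {F : Type*} [Field F] [Fintype F] (p : ℕ) [Fact p.Prime] [CharP F p] (n : ℕ) (hn : 2 ≤ n) (hsmall : n = 2 → 4 ≤ Fintype.card F)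
    (r : ℕ) (hr : r.Prime) (hr2 : r ≠ 2) (hrp : r ≠ p) (hrG : r ∣ Nat.card (Matrix.ProjectiveSpecialLinearGroup (Fin n) F))
    (k : ℕ) (hk : k = orderOf ((Fintype.card F : ℕ) : ZMod r)) :
    (r * p ∉ Set.range (orderOf : Matrix.ProjectiveSpecialLinearGroup (Fin n) F → ℕ)) ↔
      (n - 2 < k ∨ (n = 3 ∧ r = 3 ∧ 3 ∣ Fintype.card F - 1 ∧ ¬ 9 ∣ Fintype.card F - 1)) := by
  subst hk
  have hpp : p.Prime := Fact.out
  have : Fact r.Prime := ⟨hr⟩
  constructor
  · intro hL
    by_contra hR
    rw [not_or] at hR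
    obtain ⟨hR1, hR2⟩ := hR
    rw [not_lt] at hR1
    apply hL
    -- the order of `q` modulo `r` is positive
    have hq0 : ((Fintype.card F : ℕ) : ZMod r) ≠ 0 := by
      intro h
      rw [ZMod.natCast_eq_zero_iff] at h
      obtain ⟨s, _, hs⟩ := FiniteField.card F p
      rw [hs] at h
      exact hrp ((Nat.prime_dvd_prime_iff_eq hr hpp).mp (hr.dvd_of_dvd_pow h))
    have hkpos : 0 < orderOf ((Fintype.card F : ℕ) : ZMod r) := by
      rw [orderOf_pos_iff, isOfFinOrder_iff_pow_eq_one]
      exact ⟨r - 1, by have := hr.two_le; omega, ZMod.pow_card_sub_one_eq_one hq0⟩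
    have hkq : r ∣ Fintype.card F ^ orderOf ((Fintype.card F : ℕ) : ZMod r) - 1 := by
      have h1 := pow_orderOf_eq_one ((Fintype.card F : ℕ) : ZMod r)
      have h2 : ((Fintype.card F ^ orderOf ((Fintype.card F : ℕ) : ZMod r) : ℕ) : ZMod r) =
          ((1 : ℕ) : ZMod r) := by
        rw [Nat.cast_pow, Nat.cast_one]; exact h1
      have h3 := (ZMod.natCast_eq_natCast_iff _ _ _).mp h2
      exact (Nat.modEq_iff_dvd' (Nat.one_le_pow _ _ Fintype.card_pos)).mp h3.symm
    by_cases hn3 : n = 3
    · subst hn3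
      have hk1 : orderOf ((Fintype.card F : ℕ) : ZMod r) = 1 := by omega
      rw [hk1, pow_one] at hkq
      have hnex : r ≠ 3 ∨ 9 ∣ Fintype.card F - 1 := by
        by_cases hr3 : r = 3
        · right
          by_contra h9
          exact hR2 ⟨rfl, hr3, by rw [← hr3]; exact hkq, h9⟩
        · left; exact hr3
      obtain ⟨l, hl, hl3⟩ := exists_unit r hr hkq hnex
      obtain ⟨g, hg⟩ := exists_order_three p r hr hrp l hl hl3
      exact ⟨g, hg⟩
    · obtain ⟨m, rfl⟩ : ∃ m, n = m + 2 := ⟨n - 2, by omega⟩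
      have hm2 : 2 ≤ m := by omega
      have hkm : orderOf ((Fintype.card F : ℕ) : ZMod r) ≤ m := by
        have : m + 2 - 2 = m := by omega
        rw [this] at hR1
        exact hR1
      have hdvd := prime_dvd_card_SL (F := F) r hr m hm2 _ hkpos hkm hkq
      obtain ⟨B0, hB0⟩ := exists_prime_orderOf_dvd_card' (G := Matrix.SpecialLinearGroup (Fin m) F) r hdvd
      obtain ⟨g, hg⟩ := exists_order_block p r hr hrp B0 hB0
      exact ⟨g, hg⟩
  · intro hR
    rintro ⟨g, hg⟩
    exact no_element p hn r hr hrp hR g hg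

end Cfsg.Agent.S2470
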