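import Mathlib
import Cfsg.Statements.S2471

set_option autoImplicit false
open Cfsg

namespace Cfsg.Agent.S2471

open Matrix

theorem cayley_hamilton_two {F : Type*} [Field F] (M : Matrix (Fin 2) (Fin 2) F) :
    M ^ 2 = M.trace • M - M.det • (1 : Matrix (Fin 2) (Fin 2) F) := by
  ext i j
  fin_cases i <;> fin_cases j <;>
    simp [pow_two, Matrix.mul_apply, Fin.sum_univ_two, Matrix.trace_fin_two, Matrix.det_fin_two] <;> ring

theorem scalar_eq_smul_one {F : Type*} [Field F] (r : F) :
    Matrix.scalar (Fin 2) r = r • (1 : Matrix (Fin 2) (Fin 2) F) := by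
  rw [Matrix.scalar_apply, Matrix.smul_one_eq_diagonal]

/-- if a power of `A` is a scalar matrix then the corresponding power in `PSL` is trivial -/
theorem mk_pow_eq_one {F : Type*} [Field F] (A : Matrix.SpecialLinearGroup (Fin 2) F) (n : ℕ) (r : F)
    (h : (A : Matrix (Fin 2) (Fin 2) F) ^ n = r • (1 : Matrix (Fin 2) (Fin 2) F)) :
    ((QuotientGroup.mk A : Matrix.ProjectiveSpecialLinearGroup (Fin 2) F)) ^ n = 1 := by
  rw [← QuotientGroup.mk_pow, QuotientGroup.eq_one_iff, Matrix.SpecialLinearGroup.mem_center_iff]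
  refine ⟨r, ?_, ?_⟩
  · have hdet : ((A ^ n : Matrix.SpecialLinearGroup (Fin 2) F) : Matrix (Fin 2) (Fin 2) F).det = 1 :=
      (A ^ n).2
    rw [Matrix.SpecialLinearGroup.coe_pow, h] at hdet
    simpa [Matrix.det_smul, Fintype.card_fin] using hdet
  · rw [Matrix.SpecialLinearGroup.coe_pow, h, scalar_eq_smul_one]

/-- In PSL(2,q) with q odd, the characteristic p is isolated from 2 in the prime graph: for F a finite field of odd characteristic p with at least 5 elements, PSL(2,F) has no element of order 2p. -/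
theorem result {F : Type*} [Field F] [Fintype F] (p : ℕ) [Fact p.Prime] [CharP F p] (hp : p ≠ 2) (h5 : 5 ≤ Fintype.card F) (g : Matrix.ProjectiveSpecialLinearGroup (Fin 2) F) :
    orderOf g ≠ 2 * p := by
  intro hord
  have hpp : p.Prime := Fact.out
  have hpodd : Odd p := hpp.odd_of_ne_two hp
  obtain ⟨A, rfl⟩ := QuotientGroup.mk_surjective g
  set M : Matrix (Fin 2) (Fin 2) F := (A : Matrix (Fin 2) (Fin 2) F) with hM
  have hdetM : M.det = 1 := A.2
  -- it suffices to show g^2 = 1 or g^p = 1
  suffices hsuff : ((QuotientGroup.mk A : Matrix.ProjectiveSpecialLinearGroup (Fin 2) F)) ^ 2 = 1 ∨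
      ((QuotientGroup.mk A : Matrix.ProjectiveSpecialLinearGroup (Fin 2) F)) ^ p = 1 by
    rcases hsuff with h | h
    · have := orderOf_dvd_of_pow_eq_one h
      rw [hord] at this
      have := Nat.le_of_dvd (by norm_num) this
      have := hpp.two_le
      omega
    · have := orderOf_dvd_of_pow_eq_one h
      rw [hord] at this
      have := Nat.le_of_dvd hpp.pos this
      have := hpp.two_le
      omega
  -- A^(2p) is scalar
  have hpow : ((QuotientGroup.mk A : Matrix.ProjectiveSpecialLinearGroup (Fin 2) F)) ^ (2 * p) = 1 := by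
    rw [← hord]; exact pow_orderOf_eq_one _
  rw [← QuotientGroup.mk_pow, QuotientGroup.eq_one_iff, Matrix.SpecialLinearGroup.mem_center_iff] at hpow
  obtain ⟨z, hz, hzA⟩ := hpow
  rw [Fintype.card_fin] at hz
  rw [Matrix.SpecialLinearGroup.coe_pow, scalar_eq_smul_one] at hzA
  change z • (1 : Matrix (Fin 2) (Fin 2) F) = M ^ (2 * p) at hzA
  have hCH : M ^ 2 = M.trace • M - (1 : Matrix (Fin 2) (Fin 2) F) := by
    rw [cayley_hamilton_two, hdetM, one_smul]
  set t := M.trace with ht
  by_cases ht0 : t = 0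
  · left
    apply mk_pow_eq_one A 2 (-1)
    change M ^ 2 = _
    rw [hCH, ht0, zero_smul, zero_sub, neg_smul, one_smul]
  · right
    -- U = z • M^2 satisfies U^p = 1
    have hzne : z ≠ 0 := by
      rintro rfl
      norm_num at hz
    have hzp1 : z ^ (p + 1) = 1 := by
      obtain ⟨k, hk⟩ := hpodd
      have : p + 1 = 2 * (k + 1) := by omega
      rw [this, pow_mul, hz, one_pow]
    set U : Matrix (Fin 2) (Fin 2) F := z • M ^ 2 with hU
    have hUp : U ^ p = 1 := by
      rw [hU, smul_pow, ← pow_mul, ← hzA, smul_smul, ← pow_succ, hzp1, one_smul]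
    set N : Matrix (Fin 2) (Fin 2) F := U - 1 with hN
    have hNp : N ^ p = 0 := by
      rw [hN, sub_pow_char_of_commute p (Commute.one_right U), hUp, one_pow, sub_self]
    -- M = c • 1 + d • N
    set d : F := (z * t)⁻¹ with hd
    have hzt : z * t ≠ 0 := mul_ne_zero hzne ht0
    have hMeq : M = ((1 + z) * d) • (1 : Matrix (Fin 2) (Fin 2) F) + d • N := by
      have h1 : (z * t) • M = N + (1 + z) • (1 : Matrix (Fin 2) (Fin 2) F) := by
        rw [hN, hU, hCH, smul_sub, smul_smul, add_smul, one_smul]
        abel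
      have h2 : M = d • ((z * t) • M) := by
        rw [smul_smul, hd, inv_mul_cancel₀ hzt, one_smul]
      rw [h2, h1, smul_add, smul_smul, add_comm, mul_comm]
    have hMp : M ^ p = (((1 + z) * d) ^ p) • (1 : Matrix (Fin 2) (Fin 2) F) := by
      have hcomm : Commute (((1 + z) * d) • (1 : Matrix (Fin 2) (Fin 2) F)) (d • N) := by
        apply Commute.smul_left
        apply Commute.smul_right
        exact Commute.one_left N
      rw [hMeq, add_pow_char_of_commute p hcomm, smul_pow, smul_pow, hNp, smul_zero, add_zero, one_pow]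
    exact mk_pow_eq_one A p _ hMp

end Cfsg.Agent.S2471
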