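import Mathlib
import Cfsg.Statements.S2472
import Cfsg.Agent.Lib.Helper99.SpRPNon
import Cfsg.Agent.Lib.Helper99.SpRPEx
import Cfsg.Agent.Lib.Helper18.SympWitt

set_option autoImplicit false
open Cfsg

namespace Cfsg.Agent.S2472

open Cfsg.Agent.Lib.Helper99.SpRP Cfsg.Agent.Lib.Helper18

section non

variable {F : Type*} [Field F] [Fintype F]

theorem non_exist (p : ℕ) [Fact p.Prime] [CharP F p] (n : ℕ) (hn : 1 ≤ n) (r : ℕ) (hr : r.Prime)
    (hr2 : r ≠ 2) (hrp : r ≠ p)
    (g : Matrix.symplecticGroup (Fin n) F) (hg : orderOf g = r * p)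
    (k : ℕ) (hk : k = orderOf ((Fintype.card F : ℕ) : ZMod r)) :
    (Even k → k < 2 * n) ∧ (Odd k → k < n) := by
  classical
  have hpp : p.Prime := Fact.out
  have : Fact r.Prime := ⟨hr⟩
  have : Nonempty (Fin n ⊕ Fin n) := ⟨Sum.inl ⟨0, hn⟩⟩
  let T := Matrix.toLinAlgEquiv' (R := F) (n := Fin n ⊕ Fin n)
  obtain ⟨A, hAdef⟩ : ∃ A : Matrix (Fin n ⊕ Fin n) (Fin n ⊕ Fin n) F,
      A = ((g ^ p : Matrix.symplecticGroup (Fin n) F) : Matrix _ _ F) := ⟨_, rfl⟩
  obtain ⟨Bm, hBdef⟩ : ∃ Bm : Matrix (Fin n ⊕ Fin n) (Fin n ⊕ Fin n) F,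
      Bm = ((g ^ r : Matrix.symplecticGroup (Fin n) F) : Matrix _ _ F) := ⟨_, rfl⟩
  have hAmem : A ∈ Matrix.symplecticGroup (Fin n) F := by rw [hAdef]; exact (g ^ p).2
  have hBmem : Bm ∈ Matrix.symplecticGroup (Fin n) F := by rw [hBdef]; exact (g ^ r).2
  have hAr : A ^ r = 1 := by
    rw [hAdef, ← SubmonoidClass.coe_pow, ← pow_mul, mul_comm, ← hg, pow_orderOf_eq_one]; rfl
  have hBp : Bm ^ p = 1 := by
    rw [hBdef, ← SubmonoidClass.coe_pow, ← pow_mul, ← hg, pow_orderOf_eq_one]; rfl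
  have hA1 : A ≠ 1 := by
    intro h
    have h1 : g ^ p = 1 := Subtype.ext (by rw [← hAdef, h]; rfl)
    have h2 := orderOf_dvd_of_pow_eq_one h1
    rw [hg] at h2
    have h3 : r ∣ 1 := by
      have h4 : r * p ∣ 1 * p := by rwa [one_mul]
      exact Nat.dvd_of_mul_dvd_mul_right hpp.pos h4
    exact hr.one_lt.ne' (Nat.dvd_one.mp h3)
  have hB1 : Bm ≠ 1 := by
    intro h
    have h1 : g ^ r = 1 := Subtype.ext (by rw [← hBdef, h]; rfl)
    have h2 := orderOf_dvd_of_pow_eq_one h1
    rw [hg] at h2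
    have h3 : p ∣ 1 := by
      have h4 : r * p ∣ r * 1 := by rwa [mul_one]
      exact Nat.dvd_of_mul_dvd_mul_left hr.pos h4
    exact hpp.one_lt.ne' (Nat.dvd_one.mp h3)
  have hAB : A * Bm = Bm * A := by
    rw [hAdef, hBdef, ← Submonoid.coe_mul, ← Submonoid.coe_mul, ← pow_add, ← pow_add, add_comm]
  have hBnil : (Bm - 1) ^ p = 0 := by
    rw [sub_pow_char_of_commute p (Commute.one_right _), hBp, one_pow, sub_self]
  obtain ⟨X, hXdef⟩ : ∃ X : Module.End F (Fin n ⊕ Fin n → F), X = T A := ⟨_, rfl⟩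
  obtain ⟨U, hUdef⟩ : ∃ U : Module.End F (Fin n ⊕ Fin n → F), U = T Bm := ⟨_, rfl⟩
  have hXr : X ^ r = 1 := by rw [hXdef, ← map_pow, hAr, map_one]
  have hX1 : X ≠ 1 := by
    intro h
    apply hA1
    apply T.injective
    rw [← hXdef, h, map_one]
  have hU1 : U ≠ 1 := by
    intro h
    apply hB1
    apply T.injective
    rw [← hUdef, h, map_one]
  have hXU : X * U = U * X := by rw [hXdef, hUdef, ← map_mul, ← map_mul, hAB]
  have hUnil : IsNilpotent (U - 1) := by
    refine ⟨p, ?_⟩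
    rw [hUdef, ← map_one T, ← map_sub, ← map_pow, hBnil, map_zero]
  have hXapply : ∀ v, X v = A.mulVec v := fun v => by
    rw [hXdef]; exact Matrix.toLinAlgEquiv'_apply A v
  have hUapply : ∀ v, U v = Bm.mulVec v := fun v => by
    rw [hUdef]; exact Matrix.toLinAlgEquiv'_apply Bm v
  have hXB : ∀ v w, sB n F (X v) (X w) = sB n F v w := by
    intro v w
    rw [hXapply, hXapply, sB_apply, sB_apply]
    exact sf_mulVec_of_mem n A hAmem v w
  have hUB : ∀ v w, sB n F (U v) (U w) = sB n F v w := by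
    intro v w
    rw [hUapply, hUapply, sB_apply, sB_apply]
    exact sf_mulVec_of_mem n Bm hBmem v w
  have hdim : Module.finrank F (Fin n ⊕ Fin n → F) = 2 * n := by
    rw [Module.finrank_fintype_fun_eq_card, Fintype.card_sum, Fintype.card_fin]; ring
  obtain ⟨f, _, hq⟩ := FiniteField.card F p
  have hcop : Nat.Coprime (Nat.card F) r := by
    rw [Nat.card_eq_fintype_card, hq]
    exact Nat.Coprime.pow_left _ ((Nat.coprime_primes hpp hr).mpr (Ne.symm hrp))
  have hrF : (r : F) ≠ 0 := by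
    intro h
    have h1 := (CharP.cast_eq_zero_iff F p r).mp h
    exact hrp ((Nat.prime_dvd_prime_iff_eq hpp hr).mp h1).symm
  have hk' : k = orderOf ((Nat.card F : ℕ) : ZMod r) := by
    rw [Nat.card_eq_fintype_card]; exact hk
  exact no_commuting (sB n F) sB_isAlt sB_nondegenerate n hdim X U hXU hXB hUB r hr2 hcop hrF hXr
    hX1 hUnil hU1 k hk'

end non

/-- Adjacency of a prime and the characteristic in the prime graph of PSp(2n,q): let F be a finite field of characteristic p with q elements, n ≥ 2 with PSp(2n,F) simple, and let r ≠ p be an odd prime dividing the order of PSp(2n,F), with k the multiplicative order of q modulo r and η(k) = k for odd k, k/2 for even k. Then PSp(2n,F) has NO element of order r·p if and only if η(k) > n − 1. -/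
theorem result {F : Type*} [Field F] [Fintype F] (p : ℕ) [Fact p.Prime] [CharP F p] (n : ℕ) (hn : 2 ≤ n) (hsmall : n = 2 → 3 ≤ Fintype.card F)
    (r : ℕ) (hr : r.Prime) (hr2 : r ≠ 2) (hrp : r ≠ p) (hrG : r ∣ Nat.card (Cfsg.PSp n F))
    (k ηk : ℕ) (hk : k = orderOf ((Fintype.card F : ℕ) : ZMod r)) (hηk : (Odd k ∧ ηk = k) ∨ (Even k ∧ 2 * ηk = k)) :
    (r * p ∉ Set.range (orderOf : Cfsg.PSp n F → ℕ)) ↔ n - 1 < ηk := by
  classical
  have hpp : p.Prime := Fact.out
  have : Fact r.Prime := ⟨hr⟩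
  have hn1 : 1 ≤ n := by omega
  obtain ⟨f, _, hq⟩ := FiniteField.card F p
  have hcopqr : Nat.Coprime (Fintype.card F) r := by
    rw [hq]
    exact Nat.Coprime.pow_left _ ((Nat.coprime_primes hpp hr).mpr (Ne.symm hrp))
  have hcopc : Nat.Coprime (r * p)
      (Nat.card (Subgroup.center (Matrix.symplecticGroup (Fin n) F))) := by
    rw [Cfsg.Agent.Lib.Helper07.card_center_symplectic n hn1]
    apply Nat.Coprime.mul_left
    · exact Nat.Coprime.coprime_dvd_right (Nat.gcd_dvd_left _ _)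
        ((Nat.coprime_primes hr Nat.prime_two).mpr hr2)
    · apply Nat.Coprime.coprime_dvd_right (Nat.gcd_dvd_right _ _)
      have hpq : p ∣ Fintype.card F := by rw [hq]; exact dvd_pow_self p f.ne_zero
      apply (Nat.Prime.coprime_iff_not_dvd hpp).mpr
      intro h
      have h1 : p ∣ Fintype.card F - (Fintype.card F - 1) := Nat.dvd_sub hpq h
      have h2 : Fintype.card F - (Fintype.card F - 1) = 1 := by
        have := Fintype.card_pos (α := F); omega
      rw [h2] at h1
      exact hpp.one_lt.ne' (Nat.dvd_one.mp h1)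
  have hred : (r * p ∈ Set.range (orderOf : Cfsg.PSp n F → ℕ)) ↔
      ∃ g : Matrix.symplecticGroup (Fin n) F, orderOf g = r * p := by
    constructor
    · rintro ⟨x, hx⟩
      exact exists_orderOf_of_quotient _ (r * p) hcopc x hx
    · rintro ⟨g, hg⟩
      refine ⟨QuotientGroup.mk g, ?_⟩
      rw [orderOf_mk_of_coprime _ g (by rw [hg]; exact hcopc), hg]
  have hqunit : ((Fintype.card F : ℕ) : ZMod r) ≠ 0 := by
    rw [Ne, ZMod.natCast_eq_zero_iff]
    intro h
    exact (Nat.Prime.coprime_iff_not_dvd hr).mp hcopqr.symm h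
  have hkpos : 0 < k := by
    have h1 : ((Fintype.card F : ℕ) : ZMod r) ^ (r - 1) = 1 := ZMod.pow_card_sub_one_eq_one hqunit
    have h2 : k ∣ r - 1 := by rw [hk]; exact orderOf_dvd_of_pow_eq_one h1
    exact Nat.pos_of_dvd_of_pos h2 (by have := hr.two_le; omega)
  have hpowk : ((Fintype.card F : ℕ) : ZMod r) ^ k = 1 := by
    rw [hk]; exact pow_orderOf_eq_one _
  rw [hred]
  constructor
  · intro hno
    by_contra hle
    push Not at hle
    apply hno
    have hηpos : 0 < ηk := by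
      rcases hηk with ⟨_, h⟩ | ⟨_, h⟩ <;> omega
    have hηn : ηk + 1 ≤ n := by omega
    have hs : ∃ s : Matrix.symplecticGroup (Fin ηk) F, orderOf s = r := by
      rcases hηk with ⟨hodd, h⟩ | ⟨hev, h⟩
      · apply exists_orderOf_r_odd p ηk hηpos r
        rw [h]
        have h0 : (((Fintype.card F ^ k - 1 : ℕ)) : ZMod r) = 0 := by
          rw [Nat.cast_sub (Nat.one_le_pow _ _ Fintype.card_pos), Nat.cast_pow, hpowk,
            Nat.cast_one, sub_self]
        exact (ZMod.natCast_eq_zero_iff _ _).mp h0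
      · apply exists_orderOf_r_even p ηk hηpos r
        have hsq : (((Fintype.card F : ℕ) : ZMod r) ^ ηk) *
            (((Fintype.card F : ℕ) : ZMod r) ^ ηk) = 1 := by
          rw [← pow_add, ← two_mul, h, hpowk]
        have hne1 : ((Fintype.card F : ℕ) : ZMod r) ^ ηk ≠ 1 := by
          apply pow_ne_one_of_lt_orderOf hηpos.ne'
          rw [← hk]; omega
        rcases mul_self_eq_one_iff.mp hsq with h1 | h1
        · exact absurd h1 hne1
        · have h0 : (((Fintype.card F ^ ηk + 1 : ℕ)) : ZMod r) = 0 := by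
            rw [Nat.cast_add, Nat.cast_pow, h1, Nat.cast_one, neg_add_cancel]
          exact (ZMod.natCast_eq_zero_iff _ _).mp h0
    obtain ⟨s, hs⟩ := hs
    exact exists_orderOf_rp p n ηk hηn r hr hrp s hs
  · rintro hlt ⟨g, hg⟩
    obtain ⟨h1, h2⟩ := non_exist p n hn1 r hr hr2 hrp g hg k hk
    rcases hηk with ⟨hodd, h⟩ | ⟨hev, h⟩
    · have := h2 hodd; omega
    · have := h1 hev; omega

end Cfsg.Agent.S2472
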