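import Mathlib
import Cfsg.Statements.S2476
import Cfsg.Agent.S2495
import Cfsg.Agent.Lib.Helper99.Spec3

set_option autoImplicit false
open Cfsg

namespace Cfsg.Agent.S2476

open Polynomial
open Cfsg.Agent.S2495 (gs gs_mul mem_range_of_pow_card)
open Cfsg.Agent.Lib.Helper99.Spec3

section arith

theorem d_pos (q : ℕ) : 0 < Nat.gcd 3 (q - 1) := Nat.gcd_pos_of_pos_left _ (by norm_num)

theorem d_dvd_three (q : ℕ) : Nat.gcd 3 (q - 1) ∣ 3 := Nat.gcd_dvd_left _ _

theorem d_dvd (q : ℕ) : Nat.gcd 3 (q - 1) ∣ q - 1 := Nat.gcd_dvd_right _ _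

theorem S_eq (q : ℕ) (hq : 1 ≤ q) : q ^ 2 + q + 1 = 3 + (q + 2) * (q - 1) := by
  obtain ⟨k, rfl⟩ : ∃ k, q = k + 1 := ⟨q - 1, by omega⟩
  simp only [Nat.add_sub_cancel]
  ring

theorem d_dvd_S (q : ℕ) (hq : 1 ≤ q) : Nat.gcd 3 (q - 1) ∣ q ^ 2 + q + 1 := by
  rw [S_eq q hq]
  exact dvd_add (d_dvd_three q) (Dvd.dvd.mul_left (d_dvd q) _)

theorem gcd_S (q : ℕ) (hq : 1 ≤ q) : Nat.gcd (q ^ 2 + q + 1) (q - 1) = Nat.gcd 3 (q - 1) := by
  rw [S_eq q hq, Nat.gcd_add_mul_right_left]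

/-- `q - 1` divides `3 * ((q - 1) / d)` -/
theorem dvd_three_M (q : ℕ) : q - 1 ∣ 3 * ((q - 1) / Nat.gcd 3 (q - 1)) := by
  obtain ⟨e, he⟩ := d_dvd_three q
  obtain ⟨M, hM⟩ := d_dvd q
  have hd := d_pos q
  have h1 : (q - 1) / Nat.gcd 3 (q - 1) = M := by
    nth_rewrite 1 [hM]
    exact Nat.mul_div_cancel_left _ hd
  rw [h1]
  refine ⟨e, ?_⟩
  nth_rewrite 1 [he]
  nth_rewrite 2 [hM]
  ring

/-- the key divisibility for the Singer element -/
theorem S_dvd_iff (q j : ℕ) (hq : 2 ≤ q) :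
    q ^ 2 + q + 1 ∣ j * (q - 1) ↔ (q ^ 2 + q + 1) / Nat.gcd 3 (q - 1) ∣ j := by
  have hd := d_pos q
  have hg := gcd_S q (by omega)
  have hS0 : 0 < q ^ 2 + q + 1 := by positivity
  have hcop : Nat.Coprime ((q ^ 2 + q + 1) / Nat.gcd 3 (q - 1)) ((q - 1) / Nat.gcd 3 (q - 1)) := by
    have := Nat.coprime_div_gcd_div_gcd (m := q ^ 2 + q + 1) (n := q - 1) (by rw [hg]; exact hd)
    rwa [hg] at this
  obtain ⟨S', hS'⟩ := d_dvd_S q (by omega)
  obtain ⟨M, hM⟩ := d_dvd q
  have h1 : (q - 1) / Nat.gcd 3 (q - 1) = M := by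
    nth_rewrite 1 [hM]
    exact Nat.mul_div_cancel_left _ hd
  have h2 : (q ^ 2 + q + 1) / Nat.gcd 3 (q - 1) = S' := by
    nth_rewrite 1 [hS']
    exact Nat.mul_div_cancel_left _ hd
  rw [h1, h2] at hcop
  rw [h2]
  constructor
  · intro h
    have h3 : Nat.gcd 3 (q - 1) * S' ∣ Nat.gcd 3 (q - 1) * (j * M) := by
      have : Nat.gcd 3 (q - 1) * (j * M) = j * (q - 1) := by
        nth_rewrite 2 [hM]; ring
      rw [this, ← hS']; exact h
    have h4 : S' ∣ j * M := Nat.dvd_of_mul_dvd_mul_left hd h3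
    exact hcop.dvd_of_dvd_mul_right h4
  · intro h
    obtain ⟨t, rfl⟩ := h
    refine ⟨t * M, ?_⟩
    nth_rewrite 1 [hM]
    nth_rewrite 1 [hS']
    ring

end arith

section poly

variable {F : Type*} [Field F] [Fintype F]

theorem gs_three (q : ℕ) : gs q 3 = q ^ 2 + q + 1 := by
  unfold gs
  simp [Finset.sum_range_succ]
  ring

theorem gs_two (q : ℕ) : gs q 2 = q + 1 := by
  unfold gs
  simp [Finset.sum_range_succ]
  ring

/-- the irreducible cubic case -/
theorem irred_cubic (χ : F[X]) (hm : χ.Monic) (hd : χ.natDegree = 3) (h0 : χ.coeff 0 = -1)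
    (hirr : Irreducible χ) :
    ∃ c : F, χ ∣ X ^ ((Fintype.card F ^ 2 + Fintype.card F + 1) /
      Nat.gcd 3 (Fintype.card F - 1)) - C c := by
  have : Fact (Irreducible χ) := ⟨hirr⟩
  have hq2 : 2 ≤ Fintype.card F := Fintype.one_lt_card
  have h1 := root_pow_gs χ hm
  rw [hd, h0, gs_three] at h1
  have h1' : (AdjoinRoot.root χ) ^ (Fintype.card F ^ 2 + Fintype.card F + 1) = 1 := by
    rw [h1]; norm_num
  obtain ⟨N, hN⟩ := d_dvd_S (Fintype.card F) (by omega)
  have hdiv : (Fintype.card F ^ 2 + Fintype.card F + 1) / Nat.gcd 3 (Fintype.card F - 1) = N := by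
    rw [hN]; exact Nat.mul_div_cancel_left _ (d_pos _)
  obtain ⟨c, hc⟩ := mem_range_of_pow_eq_one (F := F) ((AdjoinRoot.root χ) ^ N)
    (Nat.gcd 3 (Fintype.card F - 1)) (d_dvd _) (by rw [← pow_mul, mul_comm, ← hN]; exact h1')
  exact ⟨c, by rw [hdiv]; exact dvd_X_pow_sub_C_of_root_pow χ N c hc.symm⟩

omit [Fintype F] in
theorem X_sub_C_dvd (a : F) (N : ℕ) : X - C a ∣ X ^ N - C (a ^ N) := by
  rw [C_pow]; exact sub_dvd_pow_sub_pow X (C a) N

/-- a linear factor times an irreducible quadratic -/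
theorem lin_mul_irred_quad (a : F) (ψ : F[X]) (hm : ψ.Monic) (hd : ψ.natDegree = 2)
    (h0 : a * ψ.coeff 0 = 1) (hirr : Irreducible ψ) :
    ∃ c : F, (X - C a) * ψ ∣ X ^ ((Fintype.card F ^ 2 - 1) /
      Nat.gcd 3 (Fintype.card F - 1)) - C c := by
  have : Fact (Irreducible ψ) := ⟨hirr⟩
  have hq2 : 2 ≤ Fintype.card F := Fintype.one_lt_card
  set q := Fintype.card F with hq
  have ha0 : a ≠ 0 := by
    rintro rfl; rw [zero_mul] at h0; exact zero_ne_one h0
  obtain ⟨M, hM⟩ := d_dvd q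
  have hdp := d_pos q
  have hMdiv : (q - 1) / Nat.gcd 3 (q - 1) = M := by
    nth_rewrite 1 [hM]
    exact Nat.mul_div_cancel_left _ hdp
  have hq21 : q ^ 2 - 1 = (q + 1) * (q - 1) := by
    obtain ⟨k, hk⟩ : ∃ k, q = k + 1 := ⟨q - 1, by omega⟩
    rw [hk]
    simp only [Nat.add_sub_cancel]
    have : (k + 1) ^ 2 = (k + 1 + 1) * k + 1 := by ring
    rw [this, Nat.add_sub_cancel]
  have hN' : (q ^ 2 - 1) / Nat.gcd 3 (q - 1) = (q + 1) * M := by
    rw [hq21]
    nth_rewrite 1 [hM]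
    rw [show (q + 1) * (Nat.gcd 3 (q - 1) * M) = Nat.gcd 3 (q - 1) * ((q + 1) * M) by ring]
    exact Nat.mul_div_cancel_left _ hdp
  rw [hN']
  refine ⟨a ^ ((q + 1) * M), ?_⟩
  have h1 := root_pow_gs ψ hm
  rw [hd, gs_two] at h1
  have h1' : (AdjoinRoot.root ψ) ^ (q + 1) = algebraMap F (AdjoinRoot ψ) (ψ.coeff 0) := by
    rw [h1]; norm_num
  -- the arithmetic in `F`
  have h3M : q - 1 ∣ 3 * M := by
    have := dvd_three_M q
    rwa [hMdiv] at this
  have hkey : (ψ.coeff 0) ^ M = a ^ ((q + 1) * M) := by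
    have e1 : a ^ ((q + 1) * M) * a ^ M = 1 := by
      rw [← pow_add]
      apply pow_eq_one_of_dvd ha0
      have : (q + 1) * M + M = (q - 1) * M + 3 * M := by
        obtain ⟨k, hk⟩ : ∃ k, q = k + 1 := ⟨q - 1, by omega⟩
        rw [hk]; simp only [Nat.add_sub_cancel]; ring
      rw [this]
      exact dvd_add (Dvd.intro _ rfl) h3M
    have e2 : (ψ.coeff 0) ^ M * a ^ M = 1 := by
      rw [← mul_pow, mul_comm, h0, one_pow]
    have haM : a ^ M ≠ 0 := pow_ne_zero _ ha0
    exact mul_right_cancel₀ haM (e2.trans e1.symm)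
  have hdvd1 : X - C a ∣ X ^ ((q + 1) * M) - C (a ^ ((q + 1) * M)) := X_sub_C_dvd a _
  have hdvd2 : ψ ∣ X ^ ((q + 1) * M) - C (a ^ ((q + 1) * M)) := by
    apply dvd_X_pow_sub_C_of_root_pow
    rw [pow_mul, h1', ← map_pow, hkey]
  have hcop : IsCoprime (X - C a) ψ := by
    rw [(Polynomial.irreducible_X_sub_C a).coprime_iff_not_dvd]
    intro hdiv
    rw [Polynomial.dvd_iff_isRoot] at hdiv
    have := Polynomial.degree_eq_one_of_irreducible_of_root hirr hdiv
    rw [Polynomial.degree_eq_natDegree hm.ne_zero, hd] at this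
    norm_num at this
  exact hcop.mul_dvd hdvd1 hdvd2

/-- a repeated root -/
theorem rep_case (p : ℕ) [Fact p.Prime] [CharP F p] (a b : F) (h : a * a * b = 1)
    (hne : a ≠ b ∨ p ≠ 2) :
    (X - C a) ^ 2 * (X - C b) ∣ X ^ (p * (Fintype.card F - 1) /
      Nat.gcd 3 (Fintype.card F - 1)) - C (a ^ (p * (Fintype.card F - 1) /
      Nat.gcd 3 (Fintype.card F - 1))) := by
  set q := Fintype.card F with hq
  have hp2 : 2 ≤ p := (Fact.out : p.Prime).two_le
  have ha0 : a ≠ 0 := by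
    rintro rfl; rw [zero_mul, zero_mul] at h; exact zero_ne_one h
  obtain ⟨M, hM⟩ := d_dvd q
  have hdp := d_pos q
  have hMdiv : (q - 1) / Nat.gcd 3 (q - 1) = M := by
    nth_rewrite 1 [hM]
    exact Nat.mul_div_cancel_left _ hdp
  have hN : p * (q - 1) / Nat.gcd 3 (q - 1) = M * p := by
    rw [Nat.mul_div_assoc p (d_dvd q), hMdiv, mul_comm]
  rw [hN]
  have h3M : q - 1 ∣ 3 * M := by
    have := dvd_three_M q
    rwa [hMdiv] at this
  have key : (X : F[X]) ^ (M * p) - C (a ^ (M * p)) = (X ^ M - C (a ^ M)) ^ p := by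
    rw [sub_pow_char, ← pow_mul, ← C_pow, ← pow_mul]
  have hdvdp : (X - C a) ^ p ∣ (X : F[X]) ^ (M * p) - C (a ^ (M * p)) := by
    rw [key]
    exact pow_dvd_pow_of_dvd (X_sub_C_dvd a M) p
  by_cases hab : a = b
  · subst hab
    have hp3 : 3 ≤ p := by
      rcases hne with h | h
      · exact absurd rfl h
      · omega
    have : (X - C a) ^ 2 * (X - C a) = (X - C a) ^ 3 := by ring
    rw [this]
    exact (pow_dvd_pow _ hp3).trans hdvdp
  · have hbM : b ^ M = a ^ M := by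
      have e1 : a ^ M * a ^ M * b ^ M = 1 := by rw [← mul_pow, ← mul_pow, h, one_pow]
      have e2 : a ^ M * a ^ M * a ^ M = 1 := by
        rw [← pow_add, ← pow_add]
        apply pow_eq_one_of_dvd ha0
        have : M + M + M = 3 * M := by ring
        rw [this]; exact h3M
      have haM : a ^ M * a ^ M ≠ 0 := mul_ne_zero (pow_ne_zero _ ha0) (pow_ne_zero _ ha0)
      exact mul_left_cancel₀ haM (e1.trans e2.symm)
    have hdvdb : X - C b ∣ (X : F[X]) ^ (M * p) - C (a ^ (M * p)) := by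
      have := X_sub_C_dvd b (M * p)
      rwa [pow_mul b, hbM, ← pow_mul] at this
    have hcop : IsCoprime ((X - C a) ^ 2) (X - C b) := by
      apply IsCoprime.pow_left
      apply Polynomial.isCoprime_X_sub_C_of_isUnit_sub
      exact (sub_ne_zero.mpr hab).isUnit
    exact hcop.mul_dvd ((pow_dvd_pow _ hp2).trans hdvdp) hdvdb

/-- the split case -/
theorem split_case (p : ℕ) [Fact p.Prime] [CharP F p] (a b c : F) (h : a * b * c = 1) :
    ∃ (N : ℕ) (e : F), (X - C a) * (X - C b) * (X - C c) ∣ X ^ N - C e ∧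
      (N = Fintype.card F - 1 ∨
        N = p * (Fintype.card F - 1) / Nat.gcd 3 (Fintype.card F - 1) ∨ (p = 2 ∧ N = 4)) := by
  have ha0 : a ≠ 0 := by
    rintro rfl; rw [zero_mul, zero_mul] at h; exact zero_ne_one h
  have hb0 : b ≠ 0 := by
    rintro rfl; rw [mul_zero, zero_mul] at h; exact zero_ne_one h
  have hc0 : c ≠ 0 := by
    rintro rfl; rw [mul_zero] at h; exact zero_ne_one h
  by_cases hab : a = b
  · subst hab
    by_cases hac : a = c
    · subst hac
      by_cases hp : p = 2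
      · refine ⟨4, a ^ 4, ?_, Or.inr (Or.inr ⟨hp, rfl⟩)⟩
        subst hp
        have key : (X : F[X]) ^ 4 - C (a ^ 4) = (X - C a) ^ 4 := by
          have e1 : ((X : F[X]) - C a) ^ 2 = X ^ 2 - (C a) ^ 2 := sub_pow_char (p := 2) _ _
          have e2 : ((X : F[X]) ^ 2 - (C a) ^ 2) ^ 2 = (X ^ 2) ^ 2 - ((C a) ^ 2) ^ 2 :=
            sub_pow_char (p := 2) _ _
          rw [show ((X : F[X]) - C a) ^ 4 = (((X : F[X]) - C a) ^ 2) ^ 2 by ring, e1, e2, C_pow]
          ring
        rw [key]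
        exact ⟨X - C a, by ring⟩
      · refine ⟨(p * (Fintype.card F - 1) / Nat.gcd 3 (Fintype.card F - 1)), a ^ (p * (Fintype.card F - 1) / Nat.gcd 3 (Fintype.card F - 1)), ?_, Or.inr (Or.inl rfl)⟩
        have := rep_case p a a h (Or.inr hp)
        rwa [show (X - C a) ^ 2 * (X - C a) = (X - C a) * (X - C a) * (X - C a) by ring] at this
    · refine ⟨(p * (Fintype.card F - 1) / Nat.gcd 3 (Fintype.card F - 1)), a ^ (p * (Fintype.card F - 1) / Nat.gcd 3 (Fintype.card F - 1)), ?_, Or.inr (Or.inl rfl)⟩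
      have := rep_case p a c h (Or.inl hac)
      rwa [show (X - C a) ^ 2 * (X - C c) = (X - C a) * (X - C a) * (X - C c) by ring] at this
  · by_cases hac : a = c
    · subst hac
      refine ⟨(p * (Fintype.card F - 1) / Nat.gcd 3 (Fintype.card F - 1)), a ^ (p * (Fintype.card F - 1) / Nat.gcd 3 (Fintype.card F - 1)), ?_, Or.inr (Or.inl rfl)⟩
      have := rep_case p a b (by rw [← h]; ring) (Or.inl hab)
      rwa [show (X - C a) ^ 2 * (X - C b) = (X - C a) * (X - C b) * (X - C a) by ring] at this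
    · by_cases hbc : b = c
      · subst hbc
        refine ⟨(p * (Fintype.card F - 1) / Nat.gcd 3 (Fintype.card F - 1)), b ^ (p * (Fintype.card F - 1) / Nat.gcd 3 (Fintype.card F - 1)), ?_, Or.inr (Or.inl rfl)⟩
        have := rep_case p b a (by rw [← h]; ring) (Or.inl (Ne.symm hab))
        rwa [show (X - C b) ^ 2 * (X - C a) = (X - C a) * (X - C b) * (X - C b) by ring] at this
      · refine ⟨Fintype.card F - 1, 1, ?_, Or.inl rfl⟩
        have h1 : ∀ x : F, x ≠ 0 → X - C x ∣ (X : F[X]) ^ (Fintype.card F - 1) - C 1 := by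
          intro x hx
          have := X_sub_C_dvd x (Fintype.card F - 1)
          rwa [FiniteField.pow_card_sub_one_eq_one x hx] at this
        have c1 : IsCoprime (X - C a) (X - C b) :=
          Polynomial.isCoprime_X_sub_C_of_isUnit_sub (sub_ne_zero.mpr hab).isUnit
        have c2 : IsCoprime (X - C a) (X - C c) :=
          Polynomial.isCoprime_X_sub_C_of_isUnit_sub (sub_ne_zero.mpr hac).isUnit
        have c3 : IsCoprime (X - C b) (X - C c) :=
          Polynomial.isCoprime_X_sub_C_of_isUnit_sub (sub_ne_zero.mpr hbc).isUnit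
        exact (IsCoprime.mul_left c2 c3).mul_dvd (c1.mul_dvd (h1 a ha0) (h1 b hb0)) (h1 c hc0)

/-- the classification of cubics of constant term `-1` -/
theorem cubic_cases (p : ℕ) [Fact p.Prime] [CharP F p] (χ : F[X]) (hm : χ.Monic)
    (hd : χ.natDegree = 3) (h0 : χ.coeff 0 = -1) :
    ∃ (N : ℕ) (e : F), χ ∣ X ^ N - C e ∧
      (N = (Fintype.card F ^ 2 + Fintype.card F + 1) / Nat.gcd 3 (Fintype.card F - 1) ∨
        N = (Fintype.card F ^ 2 - 1) / Nat.gcd 3 (Fintype.card F - 1) ∨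
        N = Fintype.card F - 1 ∨
        N = p * (Fintype.card F - 1) / Nat.gcd 3 (Fintype.card F - 1) ∨ (p = 2 ∧ N = 4)) := by
  by_cases hr : ∃ a, χ.IsRoot a
  · obtain ⟨a, ha⟩ := hr
    have hχ : (X - C a) * (χ /ₘ (X - C a)) = χ := mul_divByMonic_eq_iff_isRoot.mpr ha
    obtain ⟨ψ, hψdef⟩ : ∃ ψ, ψ = χ /ₘ (X - C a) := ⟨_, rfl⟩
    rw [← hψdef] at hχ
    have hψm : ψ.Monic := by
      have : ((X - C a) * ψ).Monic := by rw [hχ]; exact hm
      exact Monic.of_mul_monic_left (monic_X_sub_C a) this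
    have hψd : ψ.natDegree = 2 := by
      have := congrArg natDegree hχ
      rw [Monic.natDegree_mul (monic_X_sub_C a) hψm, natDegree_X_sub_C, hd] at this
      omega
    have hψ0 : a * ψ.coeff 0 = 1 := by
      have := congrArg (fun f => coeff f 0) hχ
      simp only [mul_coeff_zero, coeff_sub, coeff_X_zero, coeff_C_zero, h0] at this
      linear_combination -this
    by_cases hr2 : ∃ b, ψ.IsRoot b
    · obtain ⟨b, hb⟩ := hr2
      have hψ : (X - C b) * (ψ /ₘ (X - C b)) = ψ := mul_divByMonic_eq_iff_isRoot.mpr hb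
      obtain ⟨ρ, hρdef⟩ : ∃ ρ, ρ = ψ /ₘ (X - C b) := ⟨_, rfl⟩
      rw [← hρdef] at hψ
      have hρm : ρ.Monic := by
        have : ((X - C b) * ρ).Monic := by rw [hψ]; exact hψm
        exact Monic.of_mul_monic_left (monic_X_sub_C b) this
      have hρd : ρ.natDegree = 1 := by
        have := congrArg natDegree hψ
        rw [Monic.natDegree_mul (monic_X_sub_C b) hρm, natDegree_X_sub_C, hψd] at this
        omega
      have hρ : ρ = X - C (-ρ.coeff 0) := by
        rw [C_neg, sub_neg_eq_add]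
        exact hρm.eq_X_add_C hρd
      obtain ⟨c, hc⟩ : ∃ c, c = -ρ.coeff 0 := ⟨_, rfl⟩
      rw [← hc] at hρ
      have hfact : χ = (X - C a) * (X - C b) * (X - C c) := by
        rw [← hχ, ← hψ, hρ]; ring
      have habc : a * b * c = 1 := by
        have h1 : ψ.coeff 0 = b * c := by
          rw [← hψ, hρ]
          simp only [mul_coeff_zero, coeff_sub, coeff_X_zero, coeff_C_zero]
          ring
        rw [h1] at hψ0
        rw [← hψ0]; ring
      obtain ⟨N, e, hdvd, hN⟩ := split_case p a b c habc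
      refine ⟨N, e, by rw [hfact]; exact hdvd, ?_⟩
      rcases hN with h | h | h
      · exact Or.inr (Or.inr (Or.inl h))
      · exact Or.inr (Or.inr (Or.inr (Or.inl h)))
      · exact Or.inr (Or.inr (Or.inr (Or.inr h)))
    · have hirr : Irreducible ψ := by
        apply Polynomial.irreducible_of_degree_le_three_of_not_isRoot
        · rw [hψd]; decide
        · intro x hx; exact hr2 ⟨x, hx⟩
      obtain ⟨e, he⟩ := lin_mul_irred_quad a ψ hψm hψd hψ0 hirr
      exact ⟨_, e, by rw [← hχ]; exact he, Or.inr (Or.inl rfl)⟩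
  · have hirr : Irreducible χ := by
      apply Polynomial.irreducible_of_degree_le_three_of_not_isRoot
      · rw [hd]; decide
      · intro x hx; exact hr ⟨x, hx⟩
    obtain ⟨e, he⟩ := irred_cubic χ hm hd h0 hirr
    exact ⟨_, e, he, Or.inl rfl⟩

/-- the order of every element divides one of the listed numbers -/
theorem order_dvd (p : ℕ) [Fact p.Prime] [CharP F p]
    (x : Matrix.ProjectiveSpecialLinearGroup (Fin 3) F) :
    ∃ N : ℕ, orderOf x ∣ N ∧
      (N = (Fintype.card F ^ 2 + Fintype.card F + 1) / Nat.gcd 3 (Fintype.card F - 1) ∨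
        N = (Fintype.card F ^ 2 - 1) / Nat.gcd 3 (Fintype.card F - 1) ∨
        N = Fintype.card F - 1 ∨
        N = p * (Fintype.card F - 1) / Nat.gcd 3 (Fintype.card F - 1) ∨ (p = 2 ∧ N = 4)) := by
  obtain ⟨g, rfl⟩ := QuotientGroup.mk_surjective x
  have hm : (g : Matrix (Fin 3) (Fin 3) F).charpoly.Monic := Matrix.charpoly_monic _
  have hd : (g : Matrix (Fin 3) (Fin 3) F).charpoly.natDegree = 3 := by
    rw [Matrix.charpoly_natDegree_eq_dim, Fintype.card_fin]
  have h0 : (g : Matrix (Fin 3) (Fin 3) F).charpoly.coeff 0 = -1 := by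
    have := Matrix.det_eq_sign_charpoly_coeff (g : Matrix (Fin 3) (Fin 3) F)
    rw [g.2, Fintype.card_fin] at this
    linear_combination this
  obtain ⟨N, e, hdvd, hN⟩ := cubic_cases p _ hm hd h0
  refine ⟨N, ?_, hN⟩
  apply orderOf_dvd_of_pow_eq_one
  rw [mk_pow_eq_one_iff_scalar]
  exact ⟨e, pow_eq_scalar_of_charpoly_dvd _ N e hdvd⟩

end poly

section exist

variable {F : Type*} [Field F] [Fintype F]

theorem orderOf_eq_of_iff {G : Type*} [Monoid G] (x : G) (N : ℕ) (h : ∀ j, x ^ j = 1 ↔ N ∣ j) :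
    orderOf x = N :=
  Nat.dvd_antisymm (orderOf_dvd_of_pow_eq_one ((h N).mpr dvd_rfl))
    ((h _).mp (pow_orderOf_eq_one x))

/-- `q - 1 ∣ 3 j` iff `(q - 1) / d ∣ j` -/
theorem M_dvd_iff (q j : ℕ) :
    q - 1 ∣ 3 * j ↔ (q - 1) / Nat.gcd 3 (q - 1) ∣ j := by
  have hd := d_pos q
  obtain ⟨e, he⟩ := d_dvd_three q
  obtain ⟨M, hM⟩ := d_dvd q
  have h1 : (q - 1) / Nat.gcd 3 (q - 1) = M := by
    nth_rewrite 1 [hM]
    exact Nat.mul_div_cancel_left _ hd
  have h2 : 3 / Nat.gcd 3 (q - 1) = e := by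
    nth_rewrite 1 [he]
    exact Nat.mul_div_cancel_left _ hd
  have hcop : Nat.Coprime e M := by
    have := Nat.coprime_div_gcd_div_gcd (m := 3) (n := q - 1) hd
    rwa [h1, h2] at this
  rw [h1]
  constructor
  · intro h
    have h3 : Nat.gcd 3 (q - 1) * M ∣ Nat.gcd 3 (q - 1) * (e * j) := by
      have : Nat.gcd 3 (q - 1) * (e * j) = 3 * j := by
        nth_rewrite 2 [he]; ring
      rw [this, ← hM]; exact h
    have h4 : M ∣ e * j := Nat.dvd_of_mul_dvd_mul_left hd h3
    exact hcop.symm.dvd_of_dvd_mul_left h4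
  · rintro ⟨t, rfl⟩
    refine ⟨e * t, ?_⟩
    nth_rewrite 1 [he]
    nth_rewrite 2 [hM]
    ring

/-- the Singer element -/
theorem exists_N1 (p : ℕ) [Fact p.Prime] [CharP F p] :
    ∃ x : Matrix.ProjectiveSpecialLinearGroup (Fin 3) F,
      orderOf x = (Fintype.card F ^ 2 + Fintype.card F + 1) / Nat.gcd 3 (Fintype.card F - 1) := by
  classical
  obtain ⟨q, hq⟩ : ∃ q, q = Fintype.card F := ⟨_, rfl⟩
  rw [← hq]
  have hq2 : 2 ≤ q := by rw [hq]; exact Fintype.one_lt_card
  let K := FiniteField.Extension F p 3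
  haveI : Fintype K := Fintype.ofFinite K
  have hfr : Module.finrank F K = 3 := FiniteField.finrank_extension F p 3
  have hcK : Fintype.card K = q ^ 3 := by
    rw [← Nat.card_eq_fintype_card, FiniteField.natCard_extension, Nat.card_eq_fintype_card, hq]
  obtain ⟨ζ, hζ⟩ := IsCyclic.exists_generator (α := Kˣ)
  have hoζ : orderOf ζ = q ^ 3 - 1 := by
    rw [orderOf_eq_card_of_forall_mem_zpowers hζ, Nat.card_eq_fintype_card, Fintype.card_units,
      hcK]
  have hS : q ^ 3 - 1 = (q ^ 2 + q + 1) * (q - 1) := by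
    have := gs_mul q 3 (by omega)
    rw [gs_three] at this
    exact this.symm
  obtain ⟨k, hk⟩ : ∃ k : K, k = ((ζ ^ (q - 1) : Kˣ) : K) := ⟨_, rfl⟩
  have hok : orderOf k = q ^ 2 + q + 1 := by
    rw [hk, orderOf_units, orderOf_pow_of_dvd (by omega)
      (by rw [hoζ, hS]; exact Dvd.intro_left _ rfl), hoζ, hS]
    exact Nat.mul_div_cancel _ (by omega)
  have hk0 : k ≠ 0 := by rw [hk]; exact Units.ne_zero _
  have hkS : k ^ gs (Fintype.card F) 3 = 1 := by
    rw [gs_three, ← hq, ← hok]; exact pow_orderOf_eq_one k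
  let b : Module.Basis (Fin 3) F K := Module.finBasisOfFinrankEq F K hfr
  let φ : K →ₐ[F] Matrix (Fin 3) (Fin 3) F := Algebra.leftMulMatrix b
  have hdet : (φ k).det = 1 := by
    apply (algebraMap F K).injective
    rw [Cfsg.Agent.S2495.algebraMap_det φ hfr (by norm_num) k, hkS, map_one]
  let g : Matrix.SpecialLinearGroup (Fin 3) F := ⟨φ k, hdet⟩
  have hgk : (g : Matrix (Fin 3) (Fin 3) F) = φ k := rfl
  have hiff : ∀ j : ℕ,
      (QuotientGroup.mk g : Matrix.ProjectiveSpecialLinearGroup (Fin 3) F) ^ j = 1 ↔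
        (q ^ 2 + q + 1) / Nat.gcd 3 (q - 1) ∣ j := by
    intro j
    rw [Cfsg.Agent.S2495.mk_pow_eq_one_iff φ (by norm_num) g k hgk j, ← S_dvd_iff q j hq2,
      ← hok, orderOf_dvd_iff_pow_eq_one]
    constructor
    · rintro ⟨c, hc⟩
      have hc0 : c ≠ 0 := by
        rintro rfl
        rw [map_zero] at hc
        exact pow_ne_zero j hk0 hc.symm
      rw [pow_mul, ← hc, ← map_pow, hq, FiniteField.pow_card_sub_one_eq_one c hc0, map_one]
    · intro h
      exact mem_range_of_pow_eq_one (F := F) (k ^ j) (q - 1) (by rw [hq])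
        (by rw [← pow_mul]; exact h)
  exact ⟨QuotientGroup.mk g, orderOf_eq_of_iff _ _ hiff⟩

/-- the element of order `(q ^ 2 - 1) / d` -/
theorem exists_N2 (p : ℕ) [Fact p.Prime] [CharP F p] :
    ∃ x : Matrix.ProjectiveSpecialLinearGroup (Fin 3) F,
      orderOf x = (Fintype.card F ^ 2 - 1) / Nat.gcd 3 (Fintype.card F - 1) := by
  classical
  obtain ⟨q, hq⟩ : ∃ q, q = Fintype.card F := ⟨_, rfl⟩
  rw [← hq]
  have hq2 : 2 ≤ q := by rw [hq]; exact Fintype.one_lt_card
  let K := FiniteField.Extension F p 2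
  haveI : Fintype K := Fintype.ofFinite K
  have hfr : Module.finrank F K = 2 := FiniteField.finrank_extension F p 2
  have hcK : Fintype.card K = q ^ 2 := by
    rw [← Nat.card_eq_fintype_card, FiniteField.natCard_extension, Nat.card_eq_fintype_card, hq]
  obtain ⟨ζ, hζ⟩ := IsCyclic.exists_generator (α := Kˣ)
  have hoζ : orderOf ζ = q ^ 2 - 1 := by
    rw [orderOf_eq_card_of_forall_mem_zpowers hζ, Nat.card_eq_fintype_card, Fintype.card_units,
      hcK]
  obtain ⟨β, hβ⟩ : ∃ β : K, β = (ζ : K) := ⟨_, rfl⟩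
  have hoβ : orderOf β = q ^ 2 - 1 := by rw [hβ, orderOf_units, hoζ]
  have hβ0 : β ≠ 0 := by rw [hβ]; exact Units.ne_zero _
  have hq21 : q ^ 2 - 1 = (q + 1) * (q - 1) := by
    have := gs_mul q 2 (by omega)
    rw [gs_two] at this
    exact this.symm
  obtain ⟨ν, hνdef⟩ : ∃ ν : F, ν = Algebra.norm F β := ⟨_, rfl⟩
  have hν : algebraMap F K ν = β ^ (q + 1) := by
    rw [hνdef, FiniteField.algebraMap_norm_eq_pow]
    congr 1
    rw [Nat.card_eq_fintype_card, Nat.card_eq_fintype_card, hcK, ← hq, hq21]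
    exact Nat.mul_div_cancel _ (by omega)
  have hν0 : ν ≠ 0 := by
    rintro rfl
    rw [map_zero] at hν
    exact pow_ne_zero _ hβ0 hν.symm
  have hfrA : Module.finrank F (K × F) = 3 := by
    rw [Module.finrank_prod, hfr, Module.finrank_self]
  let b : Module.Basis (Fin 3) F (K × F) := Module.finBasisOfFinrankEq F (K × F) hfrA
  let φ : (K × F) →ₐ[F] Matrix (Fin 3) (Fin 3) F := Algebra.leftMulMatrix b
  have hφ : Function.Injective φ := Algebra.leftMulMatrix_injective b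
  obtain ⟨u, hu⟩ : ∃ u : K × F, u = (β, ν⁻¹) := ⟨_, rfl⟩
  have hdet : (φ u).det = 1 := by
    rw [← Algebra.norm_eq_matrix_det b u, Algebra.norm_apply]
    have h1 : Algebra.lmul F (K × F) u =
        LinearMap.prodMap (Algebra.lmul F K β) (Algebra.lmul F F ν⁻¹) := by
      apply LinearMap.ext
      intro x
      rw [hu]
      rfl
    rw [h1, LinearMap.det_prodMap, ← Algebra.norm_apply, ← Algebra.norm_apply, Algebra.norm_self,
      ← hνdef]
    exact mul_inv_cancel₀ hν0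
  let g : Matrix.SpecialLinearGroup (Fin 3) F := ⟨φ u, hdet⟩
  have hgk : (g : Matrix (Fin 3) (Fin 3) F) = φ u := rfl
  have hνj : ∀ (j : ℕ) (c : F), β ^ j = algebraMap F K c → ν ^ j = c ^ 2 := by
    intro j c hj
    apply (algebraMap F K).injective
    rw [map_pow, hν, ← pow_mul, mul_comm, pow_mul, hj, ← map_pow]
    congr 1
    rw [hq, pow_succ, FiniteField.pow_card]
    ring
  have hdp := d_pos q
  have hdq : Nat.gcd 3 (q - 1) ∣ q ^ 2 - 1 := by
    rw [hq21]; exact Dvd.dvd.mul_left (d_dvd q) _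
  obtain ⟨N2, hN2⟩ := hdq
  have hN2div : (q ^ 2 - 1) / Nat.gcd 3 (q - 1) = N2 := by
    rw [hN2]; exact Nat.mul_div_cancel_left _ hdp
  rw [hN2div]
  have hiff : ∀ j : ℕ,
      (QuotientGroup.mk g : Matrix.ProjectiveSpecialLinearGroup (Fin 3) F) ^ j = 1 ↔
        N2 ∣ j := by
    intro j
    rw [mk_pow_eq_one_iff' φ hφ g u hgk j]
    constructor
    · rintro ⟨c, hc⟩
      rw [hu, Prod.algebraMap_apply, Prod.pow_mk, Prod.mk.injEq] at hc
      obtain ⟨hc1, hc2⟩ := hc
      have h2 := hνj j c hc1.symm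
      have hc3 : c ^ 3 = 1 := by
        have : ν ^ j * (ν⁻¹) ^ j = 1 := by rw [← mul_pow, mul_inv_cancel₀ hν0, one_pow]
        rw [h2, ← hc2] at this
        rw [← this]
        simp only [Algebra.algebraMap_self, RingHom.id_apply]
        ring
      have hc0 : c ≠ 0 := by
        rintro rfl
        norm_num at hc3
      have hcq : c ^ (q - 1) = 1 := by
        rw [hq]; exact FiniteField.pow_card_sub_one_eq_one c hc0
      have hcd : c ^ Nat.gcd 3 (q - 1) = 1 := pow_gcd_eq_one.mpr ⟨hc3, hcq⟩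
      have h3 : β ^ (j * Nat.gcd 3 (q - 1)) = 1 := by
        rw [pow_mul, ← hc1, ← map_pow, hcd, map_one]
      have h4 := orderOf_dvd_of_pow_eq_one h3
      rw [hoβ, hN2, mul_comm] at h4
      exact Nat.dvd_of_mul_dvd_mul_right hdp h4
    · rintro ⟨t, rfl⟩
      have hy : (β ^ N2) ^ Nat.gcd 3 (q - 1) = 1 := by
        rw [← pow_mul, mul_comm, ← hN2, ← hoβ]
        exact pow_orderOf_eq_one β
      obtain ⟨c₀, hc₀⟩ := mem_range_of_pow_eq_one (F := F) (β ^ N2) (Nat.gcd 3 (q - 1))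
        (by rw [← hq]; exact d_dvd q) hy
      have hc₀d : c₀ ^ Nat.gcd 3 (q - 1) = 1 := by
        apply (algebraMap F K).injective
        rw [map_pow, hc₀, hy, map_one]
      have hc₀3 : c₀ ^ 3 = 1 := by
        obtain ⟨e, he⟩ := d_dvd_three q
        rw [he, pow_mul, hc₀d, one_pow]
      have hβt : β ^ (N2 * t) = algebraMap F K (c₀ ^ t) := by
        rw [pow_mul, ← hc₀, ← map_pow]
      have hc3 : (c₀ ^ t) ^ 3 = 1 := by
        rw [← pow_mul, mul_comm, pow_mul, hc₀3, one_pow]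
      refine ⟨c₀ ^ t, ?_⟩
      rw [hu, Prod.algebraMap_apply, Prod.pow_mk, Prod.mk.injEq]
      refine ⟨hβt.symm, ?_⟩
      have h2 := hνj (N2 * t) (c₀ ^ t) hβt
      simp only [Algebra.algebraMap_self, RingHom.id_apply]
      rw [inv_pow, h2]
      have hne : (c₀ ^ t) ^ 2 ≠ 0 := by
        intro h0
        rw [pow_succ, h0, zero_mul] at hc3
        exact zero_ne_one hc3
      have h3' : (c₀ ^ t) ^ 2 * c₀ ^ t = (c₀ ^ t) ^ 3 := by ring
      exact (inv_eq_of_mul_eq_one_right (by rw [h3', hc3])).symm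
  exact ⟨QuotientGroup.mk g, orderOf_eq_of_iff _ _ hiff⟩

/-- the element of order `q - 1` -/
theorem exists_N3 :
    ∃ x : Matrix.ProjectiveSpecialLinearGroup (Fin 3) F, orderOf x = Fintype.card F - 1 := by
  classical
  obtain ⟨ζ, hζ⟩ := IsCyclic.exists_generator (α := Fˣ)
  have hoζ : orderOf ζ = Fintype.card F - 1 := by
    rw [orderOf_eq_card_of_forall_mem_zpowers hζ, Nat.card_eq_fintype_card, Fintype.card_units]
  obtain ⟨a, ha⟩ : ∃ a : F, a = (ζ : F) := ⟨_, rfl⟩
  have hoa : orderOf a = Fintype.card F - 1 := by rw [ha, orderOf_units, hoζ]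
  have ha0 : a ≠ 0 := by rw [ha]; exact Units.ne_zero _
  have hdet : (Matrix.diagonal ![a, a⁻¹, 1] : Matrix (Fin 3) (Fin 3) F).det = 1 := by
    rw [Matrix.det_diagonal, Fin.prod_univ_three]
    simp [ha0]
  let g : Matrix.SpecialLinearGroup (Fin 3) F := ⟨Matrix.diagonal ![a, a⁻¹, 1], hdet⟩
  have hiff : ∀ j : ℕ,
      (QuotientGroup.mk g : Matrix.ProjectiveSpecialLinearGroup (Fin 3) F) ^ j = 1 ↔
        Fintype.card F - 1 ∣ j := by
    intro j
    rw [mk_pow_eq_one_iff_scalar, ← hoa, orderOf_dvd_iff_pow_eq_one]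
    have hg : (g : Matrix (Fin 3) (Fin 3) F) = Matrix.diagonal ![a, a⁻¹, 1] := rfl
    rw [hg]
    constructor
    · rintro ⟨c, hc⟩
      rw [Matrix.diagonal_pow, Matrix.scalar_apply] at hc
      have h := Matrix.diagonal_injective hc
      have h0 := congrFun h 0
      have h2 := congrFun h 2
      simp at h0 h2
      rw [h0, ← h2]
    · intro h
      refine ⟨1, ?_⟩
      rw [Matrix.diagonal_pow, Matrix.scalar_apply]
      congr 1
      funext i
      fin_cases i
      · simpa using h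
      · simp [h]
      · simp
  exact ⟨QuotientGroup.mk g, orderOf_eq_of_iff _ _ hiff⟩

/-- the element of order `p (q - 1) / d` -/
theorem exists_N4 (p : ℕ) [Fact p.Prime] [CharP F p] :
    ∃ x : Matrix.ProjectiveSpecialLinearGroup (Fin 3) F,
      orderOf x = p * (Fintype.card F - 1) / Nat.gcd 3 (Fintype.card F - 1) := by
  classical
  obtain ⟨q, hq⟩ : ∃ q, q = Fintype.card F := ⟨_, rfl⟩
  rw [← hq]
  have hq2 : 2 ≤ q := by rw [hq]; exact Fintype.one_lt_card
  obtain ⟨ζ, hζ⟩ := IsCyclic.exists_generator (α := Fˣ)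
  have hoζ : orderOf ζ = q - 1 := by
    rw [orderOf_eq_card_of_forall_mem_zpowers hζ, Nat.card_eq_fintype_card, Fintype.card_units, hq]
  obtain ⟨a, ha⟩ : ∃ a : F, a = (ζ : F) := ⟨_, rfl⟩
  have hoa : orderOf a = q - 1 := by rw [ha, orderOf_units, hoζ]
  have ha0 : a ≠ 0 := by rw [ha]; exact Units.ne_zero _
  obtain ⟨b, hb⟩ : ∃ b : F, b = (a * a)⁻¹ := ⟨_, rfl⟩
  have hab : a * a * b = 1 := by rw [hb]; exact mul_inv_cancel₀ (mul_ne_zero ha0 ha0)
  have hdet : (!![a, 1, 0; 0, a, 0; 0, 0, b] : Matrix (Fin 3) (Fin 3) F).det = 1 := by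
    simp [Matrix.det_fin_three]
    linear_combination hab
  let g : Matrix.SpecialLinearGroup (Fin 3) F := ⟨!![a, 1, 0; 0, a, 0; 0, 0, b], hdet⟩
  have hg : (g : Matrix (Fin 3) (Fin 3) F) = !![a, 1, 0; 0, a, 0; 0, 0, b] := rfl
  have hpow : ∀ j : ℕ, ∃ t : F, t * a = (j : F) * a ^ j ∧
      (!![a, 1, 0; 0, a, 0; 0, 0, b] : Matrix (Fin 3) (Fin 3) F) ^ j =
        !![a ^ j, t, 0; 0, a ^ j, 0; 0, 0, b ^ j] := by
    intro j
    induction j with
    | zero =>
      refine ⟨0, by simp, ?_⟩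
      rw [pow_zero, pow_zero, pow_zero, Matrix.one_fin_three]
    | succ j ih =>
      obtain ⟨t, ht, hm⟩ := ih
      refine ⟨a ^ j + t * a, ?_, ?_⟩
      · rw [add_mul, ht]
        push_cast
        ring
      · rw [pow_succ, hm, Matrix.mul_fin_three]
        congr 1
        · simp only [pow_succ]; congr 1 <;> ring_nf
  -- order
  obtain ⟨M, hM⟩ := d_dvd q
  have hdp := d_pos q
  have hMdiv : (q - 1) / Nat.gcd 3 (q - 1) = M := by
    nth_rewrite 1 [hM]
    exact Nat.mul_div_cancel_left _ hdp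
  have hN : p * (q - 1) / Nat.gcd 3 (q - 1) = p * M := by
    rw [Nat.mul_div_assoc p (d_dvd q), hMdiv]
  rw [hN]
  have hcop : Nat.Coprime p M := by
    obtain ⟨n, hpp, hn⟩ := FiniteField.card F p
    have hpq : p ∣ q := by rw [hq, hn]; exact dvd_pow_self p n.ne_zero
    have h1 : Nat.Coprime p (q - 1) := by
      rw [Nat.Prime.coprime_iff_not_dvd hpp]
      intro h
      have : p ∣ 1 := by
        have := Nat.dvd_sub hpq h
        rwa [show q - (q - 1) = 1 by omega] at this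
      exact hpp.one_lt.ne' (Nat.dvd_one.mp this)
    exact Nat.Coprime.coprime_dvd_right ⟨_, by rw [hM, mul_comm]⟩ h1
  have hiff : ∀ j : ℕ,
      (QuotientGroup.mk g : Matrix.ProjectiveSpecialLinearGroup (Fin 3) F) ^ j = 1 ↔
        p * M ∣ j := by
    intro j
    rw [mk_pow_eq_one_iff_scalar, hg]
    obtain ⟨t, ht, hm⟩ := hpow j
    rw [hm]
    have haj0 : a ^ j ≠ 0 := pow_ne_zero _ ha0
    have ht0 : t = 0 ↔ p ∣ j := by
      rw [← CharP.cast_eq_zero_iff F p j]
      constructor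
      · intro h
        rw [h, zero_mul] at ht
        rcases mul_eq_zero.mp ht.symm with h' | h'
        · exact h'
        · exact absurd h' haj0
      · intro h
        rw [h, zero_mul] at ht
        rcases mul_eq_zero.mp ht with h' | h'
        · exact h'
        · exact absurd h' ha0
    have hbj : a ^ j = b ^ j ↔ M ∣ j := by
      rw [← hMdiv, ← M_dvd_iff, ← hoa, orderOf_dvd_iff_pow_eq_one]
      have e1 : a ^ (3 * j) = a ^ j * (a ^ j * a ^ j) := by rw [← pow_add, ← pow_add]; ring_nf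
      have e2 : (a ^ j * a ^ j) * b ^ j = 1 := by rw [← mul_pow, ← mul_pow, hab, one_pow]
      have hne : a ^ j * a ^ j ≠ 0 := mul_ne_zero haj0 haj0
      constructor
      · intro h
        rw [e1, mul_comm]
        nth_rewrite 3 [h]
        exact e2
      · intro h
        rw [e1] at h
        have : a ^ j * (a ^ j * a ^ j) = b ^ j * (a ^ j * a ^ j) := by
          rw [h, mul_comm, e2]
        exact mul_right_cancel₀ hne this
    constructor
    · rintro ⟨c, hc⟩
      rw [Matrix.scalar_apply] at hc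
      have h00 := congrFun (congrFun hc 0) 0
      have h01 := congrFun (congrFun hc 0) 1
      have h22 := congrFun (congrFun hc 2) 2
      simp at h00 h01 h22
      exact Nat.Coprime.mul_dvd_of_dvd_of_dvd hcop (ht0.mp h01) (hbj.mp (h00.trans h22.symm))
    · intro h
      have hpj : p ∣ j := (Dvd.intro _ rfl).trans h
      have hMj : M ∣ j := (Dvd.intro_left _ rfl).trans h
      refine ⟨a ^ j, ?_⟩
      rw [ht0.mpr hpj, ← hbj.mpr hMj, Matrix.scalar_apply]
      ext i k
      fin_cases i <;> fin_cases k <;> simp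
  exact ⟨QuotientGroup.mk g, orderOf_eq_of_iff _ _ hiff⟩

omit [Fintype F] in
/-- the element of order `4` in characteristic two -/
theorem exists_four [CharP F 2] :
    ∃ x : Matrix.ProjectiveSpecialLinearGroup (Fin 3) F, orderOf x = 4 := by
  classical
  have h2 : (2 : F) = 0 := by
    have := CharP.cast_eq_zero F 2
    exact_mod_cast this
  have hdet : (!![1, 1, 0; 0, 1, 1; 0, 0, 1] : Matrix (Fin 3) (Fin 3) F).det = 1 := by
    simp [Matrix.det_fin_three]
  let g : Matrix.SpecialLinearGroup (Fin 3) F := ⟨!![1, 1, 0; 0, 1, 1; 0, 0, 1], hdet⟩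
  have hg : (g : Matrix (Fin 3) (Fin 3) F) = !![1, 1, 0; 0, 1, 1; 0, 0, 1] := rfl
  have hsq : (!![1, 1, 0; 0, 1, 1; 0, 0, 1] : Matrix (Fin 3) (Fin 3) F) ^ 2 =
      !![1, 0, 1; 0, 1, 0; 0, 0, 1] := by
    rw [pow_two, Matrix.mul_fin_three]
    ext i k
    fin_cases i <;> fin_cases k <;> simp <;> linear_combination h2
  have h4 : (!![1, 1, 0; 0, 1, 1; 0, 0, 1] : Matrix (Fin 3) (Fin 3) F) ^ 4 = 1 := by
    rw [show 4 = 2 * 2 by norm_num, pow_mul, hsq, pow_two, Matrix.mul_fin_three,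
      Matrix.one_fin_three]
    ext i k
    fin_cases i <;> fin_cases k <;> simp <;> linear_combination h2
  haveI : Fact (Nat.Prime 2) := ⟨Nat.prime_two⟩
  refine ⟨QuotientGroup.mk g, ?_⟩
  have := orderOf_eq_prime_pow (x := (QuotientGroup.mk g :
    Matrix.ProjectiveSpecialLinearGroup (Fin 3) F)) (n := 1) (p := 2) ?_ ?_
  · simpa using this
  · rw [mk_pow_eq_one_iff_scalar, hg]
    rintro ⟨c, hc⟩
    rw [pow_one, hsq, Matrix.scalar_apply] at hc
    have h02 := congrFun (congrFun hc 0) 2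
    simp at h02
  · rw [mk_pow_eq_one_iff_scalar, hg]
    refine ⟨1, ?_⟩
    rw [show 2 ^ (1 + 1) = 4 by norm_num, h4, map_one]

end exist

/-- The set of element orders of PSL(3,q): let F be a finite field of characteristic p with q elements and d = gcd(3, q − 1). The orders of elements of PSL(3,F) are exactly the divisors of (q² + q + 1)/d, of (q² − 1)/d, of q − 1, of p(q − 1)/d, and, when p = 2, of 4. -/
theorem result {F : Type*} [Field F] [Fintype F] (p : ℕ) [Fact p.Prime] [CharP F p] :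
    Set.range (orderOf : Matrix.ProjectiveSpecialLinearGroup (Fin 3) F → ℕ) =
      {m : ℕ | m ∣ (Fintype.card F ^ 2 + Fintype.card F + 1) / Nat.gcd 3 (Fintype.card F - 1) ∨
        m ∣ (Fintype.card F ^ 2 - 1) / Nat.gcd 3 (Fintype.card F - 1) ∨ m ∣ Fintype.card F - 1 ∨
        m ∣ p * (Fintype.card F - 1) / Nat.gcd 3 (Fintype.card F - 1) ∨ (p = 2 ∧ m ∣ 4)} := by
  have hdiv : ∀ (x : Matrix.ProjectiveSpecialLinearGroup (Fin 3) F) (m : ℕ), m ∣ orderOf x →
      m ∈ Set.range (orderOf : Matrix.ProjectiveSpecialLinearGroup (Fin 3) F → ℕ) := by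
    intro x m hm
    exact ⟨x ^ (orderOf x / m), orderOf_pow_orderOf_div (orderOf_pos x).ne' hm⟩
  ext m
  rw [Set.mem_ofPred_eq]
  constructor
  · rintro ⟨x, rfl⟩
    obtain ⟨N, hN, hcases⟩ := order_dvd p x
    rcases hcases with h | h | h | h | ⟨h2, h⟩
    · exact Or.inl (h ▸ hN)
    · exact Or.inr (Or.inl (h ▸ hN))
    · exact Or.inr (Or.inr (Or.inl (h ▸ hN)))
    · exact Or.inr (Or.inr (Or.inr (Or.inl (h ▸ hN))))
    · exact Or.inr (Or.inr (Or.inr (Or.inr ⟨h2, h ▸ hN⟩)))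
  · rintro (h | h | h | h | ⟨h2, h⟩)
    · obtain ⟨x, hx⟩ := exists_N1 (F := F) p
      exact hdiv x m (hx ▸ h)
    · obtain ⟨x, hx⟩ := exists_N2 (F := F) p
      exact hdiv x m (hx ▸ h)
    · obtain ⟨x, hx⟩ := exists_N3 (F := F)
      exact hdiv x m (hx ▸ h)
    · obtain ⟨x, hx⟩ := exists_N4 (F := F) p
      exact hdiv x m (hx ▸ h)
    · subst h2
      obtain ⟨x, hx⟩ := exists_four (F := F)
      exact hdiv x m (hx ▸ h)

end Cfsg.Agent.S2476
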