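import Mathlib
import Cfsg.Statements.S2496
import Cfsg.Agent.S2495
import Cfsg.Agent.Lib.Helper99.UTorusA
import Cfsg.Agent.Lib.Helper99.UTorusC
import Cfsg.Agent.Lib.Helper99.UTorusD

set_option autoImplicit false
open Cfsg

namespace Cfsg.Agent.S2496

open Cfsg.Agent.Lib.Helper99.UTorusA Cfsg.Agent.Lib.Helper99.UTorusC
  Cfsg.Agent.Lib.Helper99.UTorusD
open Cfsg.Agent.Lib.Helper19 (frobQ frobQ_apply frobQ_frobQ pow_q_pow_q q_pos one_lt_q)
open scoped Matrix

section arith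

/-- the two halves `N = q ^ m + (-1) ^ m` and `(q + 1) M = q ^ m - (-1) ^ m` -/
theorem exists_NM (q m : ℕ) (hq : 1 < q) (hm : 0 < m) :
    ∃ N M : ℕ, N = (if Even m then q ^ m + 1 else q ^ m - 1) ∧
      (M : ℤ) * ((q : ℤ) + 1) = (q : ℤ) ^ m - (-1) ^ m ∧
      N * M = (q - 1) * ∑ i ∈ Finset.range m, q ^ (2 * i) ∧ N ≠ 0 ∧ M ≠ 0 ∧
      N * M * (q + 1) = q ^ (2 * m) - 1 := by
  have hq1 : 1 ≤ q ^ m := Nat.one_le_pow _ _ (by omega)
  have hqm2 : 2 ≤ q ^ m := by
    calc 2 ≤ q := hq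
      _ = q ^ 1 := (pow_one q).symm
      _ ≤ q ^ m := Nat.pow_le_pow_right (by omega) hm
  -- the integer cofactor
  have hgs := geom_sum₂_mul (q : ℤ) (-1) m
  set Mz : ℤ := ∑ i ∈ Finset.range m, (q : ℤ) ^ i * (-1) ^ (m - 1 - i) with hMz
  have hMz1 : Mz * ((q : ℤ) + 1) = (q : ℤ) ^ m - (-1) ^ m := by
    rw [← hgs]; ring
  have hpos : 0 < (q : ℤ) ^ m - (-1) ^ m := by
    have h1 : (2 : ℤ) ≤ (q : ℤ) ^ m := by exact_mod_cast hqm2
    rcases Nat.even_or_odd m with he | ho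
    · rw [he.neg_one_pow]; omega
    · rw [ho.neg_one_pow]; omega
  have hMzpos : 0 < Mz := by
    by_contra h
    push Not at h
    have : Mz * ((q : ℤ) + 1) ≤ 0 := mul_nonpos_of_nonpos_of_nonneg h (by positivity)
    omega
  obtain ⟨M, hM⟩ : ∃ M : ℕ, (M : ℤ) = Mz := ⟨Mz.toNat, Int.toNat_of_nonneg hMzpos.le⟩
  have hM0 : M ≠ 0 := by
    rintro rfl
    rw [Nat.cast_zero] at hM
    omega
  obtain ⟨N, hN⟩ : ∃ N : ℕ, N = (if Even m then q ^ m + 1 else q ^ m - 1) := ⟨_, rfl⟩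
  have hS : (∑ i ∈ Finset.range m, q ^ (2 * i)) * (q ^ 2 - 1) = q ^ (2 * m) - 1 := by
      have h1 : ∀ i, q ^ (2 * i) = (q ^ 2) ^ i := fun i => pow_mul q 2 i
      simp_rw [h1]
      have h2 := Cfsg.Agent.S2495.gs_mul (q ^ 2) m (Nat.one_le_pow _ _ (by omega))
      unfold Cfsg.Agent.S2495.gs at h2
      rw [h2, ← pow_mul]
  have hq2 : q ^ 2 - 1 = (q - 1) * (q + 1) := by
    obtain ⟨t, rfl⟩ : ∃ t, q = t + 1 := ⟨q - 1, by omega⟩
    simp only [Nat.add_sub_cancel]
    have : (t + 1) ^ 2 = t * (t + 1 + 1) + 1 := by ring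
    rw [this, Nat.add_sub_cancel]
  have hNz : (N : ℤ) = (q : ℤ) ^ m + (-1) ^ m := by
    rw [hN]
    rcases Nat.even_or_odd m with he | ho
    · rw [if_pos he, he.neg_one_pow]; push_cast; ring
    · rw [if_neg (Nat.not_even_iff_odd.mpr ho), ho.neg_one_pow, Nat.cast_sub hq1]
      push_cast; ring
  have hR : ((q - 1) * ∑ i ∈ Finset.range m, q ^ (2 * i)) * (q + 1) = q ^ (2 * m) - 1 := by
    rw [← hS, hq2]; ring
  have key2 : (N * M) * (q + 1) = q ^ (2 * m) - 1 := by
    have h1 : 1 ≤ q ^ (2 * m) := Nat.one_le_pow _ _ (by omega)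
    zify [h1]
    rw [hNz, mul_assoc, hM, hMz1]
    have : ((-1 : ℤ) ^ m) * (-1) ^ m = 1 := by rw [← mul_pow]; norm_num
    rw [mul_comm 2 m, pow_mul]
    linear_combination (-1 : ℤ) * this
  refine ⟨N, M, hN, by rw [hM]; exact hMz1, ?_, ?_, hM0, key2⟩
  · exact Nat.eq_of_mul_eq_mul_right (by omega : 0 < q + 1) (by rw [key2, hR])
  · rw [hN]; split_ifs <;> omega

theorem N_even (q m : ℕ) (hq : Odd q) (hq1 : 1 < q) :
    2 ∣ (if Even m then q ^ m + 1 else q ^ m - 1) := by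
  have h1 : Odd (q ^ m) := hq.pow
  have h2 : 1 ≤ q ^ m := Nat.one_le_pow _ _ (by omega)
  rcases h1 with ⟨a, ha⟩
  split_ifs
  · exact ⟨a + 1, by omega⟩
  · exact ⟨a, by omega⟩

/-- the gcd needed for the order computation -/
theorem gcd_N (q m : ℕ) (hq : Odd q) (hq1 : 1 < q) (hm : Even m) :
    Nat.gcd ((q ^ m + 1) * 2 ^ padicValNat 2 (q + 1)) (q + 1) = 2 ^ padicValNat 2 (q + 1) := by
  set s := padicValNat 2 (q + 1) with hs
  obtain ⟨u, hu⟩ : 2 ^ s ∣ q + 1 := pow_padicValNat_dvd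
  have hu2 : ¬ 2 ∣ u := by
    rintro ⟨u', rfl⟩
    have h1 : 2 ^ (s + 1) ∣ q + 1 := ⟨u', by rw [hu, pow_succ]; ring⟩
    have h2 := (padicValNat_dvd_iff_le (p := 2) (by omega)).mp h1
    omega
  have hcop : Nat.Coprime (q ^ m + 1) u := by
    rw [Nat.coprime_iff_gcd_eq_one]
    set d := Nat.gcd (q ^ m + 1) u with hd
    have hdN : d ∣ q ^ m + 1 := Nat.gcd_dvd_left _ _
    have hdu : d ∣ u := Nat.gcd_dvd_right _ _
    have hdq : d ∣ q + 1 := dvd_trans hdu ⟨2 ^ s, by rw [hu]; ring⟩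
    have hq1' : 1 ≤ q ^ m := Nat.one_le_pow _ _ (by omega)
    have hdm : d ∣ q ^ m - 1 := by
      obtain ⟨m', rfl⟩ := hm
      have h1 : q ^ 2 - 1 ∣ (q ^ 2) ^ m' - 1 := Nat.sub_one_dvd_pow_sub_one (q ^ 2) m'
      have h2 : q + 1 ∣ q ^ 2 - 1 := by
        obtain ⟨t, rfl⟩ : ∃ t, q = t + 1 := ⟨q - 1, by omega⟩
        refine ⟨t, ?_⟩
        have : (t + 1) ^ 2 = (t + 1 + 1) * t + 1 := by ring
        rw [this, Nat.add_sub_cancel]
      have h3 : (q ^ 2) ^ m' = q ^ (m' + m') := by rw [← pow_mul]; congr 1; ring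
      rw [h3] at h1
      exact dvd_trans hdq (dvd_trans h2 h1)
    have hd2 : d ∣ 2 := by
      have := Nat.dvd_sub hdN hdm
      have h4 : q ^ m + 1 - (q ^ m - 1) = 2 := by omega
      rwa [h4] at this
    rcases (Nat.dvd_prime Nat.prime_two).mp hd2 with h | h
    · exact h
    · exfalso; apply hu2; rw [← h]; exact hdu
  rw [hu, mul_comm (q ^ m + 1) (2 ^ s), Nat.gcd_mul_left, hcop, mul_one]

end arith

section construct

variable {F : Type*} [Field F] [Fintype F] {q : ℕ}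

theorem two_ne_zero_of_odd (hF : Fintype.card F = q ^ 2) (hodd : Odd q) : (2 : F) ≠ 0 := by
  intro h2F
  have hc : ringChar F ∣ 2 := by
    apply ringChar.dvd
    exact_mod_cast h2F
  have hp : (ringChar F).Prime := CharP.char_is_prime F (ringChar F)
  have h3 : ringChar F = 2 := (Nat.prime_dvd_prime_iff_eq hp Nat.prime_two).mp hc
  have h4 := FiniteField.even_card_of_char_two h3
  rw [hF] at h4
  have h5 : Odd (q ^ 2) := hodd.pow
  exact (Nat.not_even_iff_odd.mpr h5) (Nat.even_iff.mpr h4)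

theorem sq_eq (q : ℕ) (hq : 1 ≤ q) : q ^ 2 = (q + 1) * (q - 1) + 1 := by
  obtain ⟨t, rfl⟩ : ∃ t, q = t + 1 := ⟨q - 1, by omega⟩
  simp only [Nat.add_sub_cancel]
  ring

/-- existence of the element of order `q ^ m + 1` -/
theorem exists_elt (hF : Fintype.card F = q ^ 2) (hodd : Odd q) (m : ℕ) (hm : 2 ≤ m)
    (hme : Even m) (h2s : 2 ^ padicValNat 2 (q + 1) ∣ m) :
    ∃ g : Cfsg.PSU (2 * m) F q, orderOf g = q ^ m + 1 := by
  classical
  have hq1 : 1 < q := one_lt_q hF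
  have h2F := two_ne_zero_of_odd hF hodd
  obtain ⟨p, hp⟩ := CharP.exists F
  have : Fact p.Prime := ⟨CharP.char_is_prime F p⟩
  have hm0 : 0 < m := by omega
  have : NeZero m := ⟨hm0.ne'⟩
  let K := FiniteField.Extension F p m
  have : Fintype K := Fintype.ofFinite K
  have hfr : Module.finrank F K = m := FiniteField.finrank_extension F p m
  have hcK : Fintype.card K = (q ^ 2) ^ m := by
    rw [← Nat.card_eq_fintype_card, FiniteField.natCard_extension, Nat.card_eq_fintype_card, hF]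
  let b : Module.Basis (Fin m) F K := Module.finBasisOfFinrankEq F K hfr
  let φ : K →ₐ[F] Matrix (Fin m) (Fin m) F := Algebra.leftMulMatrix b
  obtain ⟨N, M, hN, hMz, hNM, hN0, hM0, hNMq⟩ := exists_NM q m hq1 hm0
  rw [if_pos hme] at hN
  set s := padicValNat 2 (q + 1) with hs
  have hsM : 2 ^ s ∣ M := (alt_dvd_iff q m (2 ^ s) M pow_padicValNat_dvd hMz).mpr h2s
  set S := ∑ i ∈ Finset.range m, q ^ (2 * i) with hS
  have hgs : Cfsg.Agent.S2495.gs (Fintype.card F) m = S := by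
    unfold Cfsg.Agent.S2495.gs
    rw [hF, hS]
    apply Finset.sum_congr rfl
    intro i _
    rw [← pow_mul]
  -- the element
  have hcardU : Nat.card Kˣ = q ^ (2 * m) - 1 := by
    rw [Nat.card_units, Nat.card_eq_fintype_card, hcK, ← pow_mul]
  obtain ⟨γ, hγ⟩ := IsCyclic.exists_ofOrder_eq_natCard (α := Kˣ)
  rw [hcardU] at hγ
  have hdiv : N * 2 ^ s ∣ orderOf γ := by
    rw [hγ, ← hNMq, mul_assoc]
    exact Nat.mul_dvd_mul_left N (Dvd.dvd.mul_right hsM _)
  have hγ0 : orderOf γ ≠ 0 := by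
    rw [hγ, ← hNMq]
    positivity
  set αu : Kˣ := γ ^ (orderOf γ / (N * 2 ^ s)) with hαu
  have hαuord : orderOf αu = N * 2 ^ s := orderOf_pow_orderOf_div hγ0 hdiv
  set α : K := (αu : K) with hα
  have hαord : orderOf α = N * 2 ^ s := by rw [← hαuord, hα, orderOf_units]
  have hα0 : α ≠ 0 := αu.ne_zero
  have hαNM : α ^ ((q - 1) * S) = 1 := by
    rw [← hNM]
    apply orderOf_dvd_iff_pow_eq_one.mp
    rw [hαord]
    exact Nat.mul_dvd_mul_left N hsM
  -- the blocks
  set A := φ α with hA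
  set X := (φ α⁻¹)ᵀ with hX
  set B := X.map (frobQ hF) with hB
  have hBX : B.map (frobQ hF) = X := by
    ext i j
    rw [hB, Matrix.map_apply, Matrix.map_apply, frobQ_frobQ]
  have hφ1 : φ α⁻¹ * φ α = 1 := by rw [← map_mul, inv_mul_cancel₀ hα0, map_one]
  have h1 : Aᵀ * B.map (frobQ hF) = 1 := by
    rw [hBX, hA, hX, ← Matrix.transpose_mul, hφ1, Matrix.transpose_one]
  have h2' : Bᵀ * A.map (frobQ hF) = 1 := by
    have : Bᵀ = (φ α⁻¹).map (frobQ hF) := by
      rw [hB, hX, Matrix.transpose_map, Matrix.transpose_transpose]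
    rw [this, ← Matrix.map_mul, hφ1, Matrix.map_one _ (map_zero _) (map_one _)]
  have hdetA : algebraMap F K A.det = α ^ S := by
    rw [hA, Cfsg.Agent.S2495.algebraMap_det φ hfr hm0 α, hgs]
  have hdetB : B.det = ((φ α⁻¹).det) ^ q := by
    rw [hB, show X.map (frobQ hF) = (frobQ hF).mapMatrix X from rfl, ← RingHom.map_det,
      frobQ_apply, hX, Matrix.det_transpose]
  have hdet : A.det * B.det = 1 := by
    apply (algebraMap F K).injective
    rw [map_mul, map_one, hdetB, map_pow, hdetA,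
      Cfsg.Agent.S2495.algebraMap_det φ hfr hm0 α⁻¹, hgs, inv_pow, inv_pow]
    have h3 : (α ^ S) ^ q = α ^ S := by
      rw [← pow_mul]
      have : S * q = (q - 1) * S + S := by
        obtain ⟨t, rfl⟩ : ∃ t, q = t + 1 := ⟨q - 1, by omega⟩
        simp only [Nat.add_sub_cancel]
        ring
      rw [this, pow_add, hαNM, one_mul]
    rw [h3]
    exact mul_inv_cancel₀ (pow_ne_zero _ hα0)
  obtain ⟨g, hg⟩ := exists_SU_of_blocks hF h2F hm0 A B h1 h2' hdet
  refine ⟨QuotientGroup.mk g, ?_⟩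
  have hAj : ∀ j : ℕ, A ^ j = φ (α ^ j) := by
    intro j; rw [hA, map_pow]
  have hBj : ∀ (j : ℕ) (c : F), α ^ j = algebraMap F K c →
      B ^ j = Matrix.scalar (Fin m) ((c⁻¹) ^ q) := by
    intro j c hc
    have hXj : X ^ j = Matrix.scalar (Fin m) c⁻¹ := by
      rw [hX, ← Matrix.transpose_pow, ← map_pow, inv_pow, hc, ← map_inv₀, AlgHom.commutes,
        Matrix.algebraMap_eq_diagonal, Matrix.diagonal_transpose, Matrix.scalar_apply]
      rfl
    rw [hB, show X.map (frobQ hF) = (frobQ hF).mapMatrix X from rfl, ← map_pow, hXj,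
      RingHom.mapMatrix_apply, Matrix.scalar_apply, Matrix.diagonal_map (map_zero _),
      Matrix.scalar_apply]
    congr 1
    funext i
    simp only [frobQ_apply]
  have hkey : ∀ j : ℕ, (QuotientGroup.mk g : Cfsg.PSU (2 * m) F q) ^ j = 1 ↔
      (α ^ (q + 1)) ^ j = 1 := by
    intro j
    rw [mk_pow_eq_one_iff_PSU_n hF (by omega) g j]
    constructor
    · rintro ⟨c, hc⟩
      obtain ⟨hAc, hBc⟩ := (hg j c).mp hc
      have hαj : α ^ j = algebraMap F K c := by
        apply φ.toRingHom.injective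
        show φ (α ^ j) = φ (algebraMap F K c)
        rw [← hAj, hAc, AlgHom.commutes]
        rfl
      rw [hBj j c hαj] at hBc
      have hcc : (c⁻¹) ^ q = c := by
        have := congrFun (congrFun hBc ⟨0, hm0⟩) ⟨0, hm0⟩
        simpa [Matrix.scalar_apply] using this
      have hc0 : c ≠ 0 := by
        rintro rfl
        rw [map_zero] at hαj
        exact pow_ne_zero j hα0 hαj
      have hc1 : c ^ (q + 1) = 1 := by
        rw [pow_succ]
        nth_rewrite 2 [← hcc]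
        rw [← mul_pow, mul_inv_cancel₀ hc0, one_pow]
      rw [← pow_mul, mul_comm, pow_mul, hαj, ← map_pow, hc1, map_one]
    · intro h
      have hβ : (α ^ j) ^ (q + 1) = 1 := by
        rw [← pow_mul, mul_comm, pow_mul]; exact h
      have hβF : (α ^ j) ^ (Fintype.card F) = α ^ j := by
        rw [hF, sq_eq q (by omega), pow_succ, pow_mul, hβ, one_pow, one_mul]
      obtain ⟨c, hc⟩ := mem_range_of_pow_card (F := F) (α ^ j) hβF
      have hc1 : c ^ (q + 1) = 1 := by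
        apply (algebraMap F K).injective
        rw [map_pow, hc, hβ, map_one]
      refine ⟨c, (hg j c).mpr ⟨?_, ?_⟩⟩
      · rw [hAj, ← hc, AlgHom.commutes]
        rfl
      · rw [hBj j c hc.symm]
        congr 1
        rw [inv_pow]
        exact inv_eq_of_mul_eq_one_right (by rw [← pow_succ]; exact hc1)
  have hord : orderOf (QuotientGroup.mk g : Cfsg.PSU (2 * m) F q) = orderOf (α ^ (q + 1)) :=
    orderOf_eq_orderOf_iff.mpr hkey
  rw [hord, orderOf_pow' α (by omega), hαord, hN, gcd_N q m hodd hq1 hme]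
  exact Nat.mul_div_cancel _ (by positivity)

end construct

section necessity

variable {F : Type*} [Field F] [Fintype F] {q : ℕ}

/-- necessity of the condition -/
theorem dvd_of_exists (hF : Fintype.card F = q ^ 2) (hodd : Odd q) (m : ℕ) (hm : 2 ≤ m)
    (g : Cfsg.PSU (2 * m) F q)
    (hg : orderOf g = if Even m then q ^ m + 1 else q ^ m - 1) :
    2 ^ padicValNat 2 (q + 1) ∣ m := by
  classical
  have hq1 : 1 < q := one_lt_q hF
  have hm0 : 0 < m := by omega
  obtain ⟨N, M, hN, hMz, hNM, hN0, hM0, hNMq⟩ := exists_NM q m hq1 hm0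
  rw [← hN] at hg
  have hN2 : 2 ∣ N := by rw [hN]; exact N_even q m hodd hq1
  obtain ⟨ĝ, rfl⟩ := QuotientGroup.mk_surjective g
  set G : Matrix (Fin (2 * m)) (Fin (2 * m)) F :=
    ((ĝ : Matrix.SpecialLinearGroup (Fin (2 * m)) F) : Matrix (Fin (2 * m)) (Fin (2 * m)) F)
    with hGdef
  have hcoe : ∀ j : ℕ, (((ĝ ^ j : Cfsg.SU (2 * m) F q) :
      Matrix.SpecialLinearGroup (Fin (2 * m)) F) : Matrix (Fin (2 * m)) (Fin (2 * m)) F) =
      G ^ j := by
    intro j
    rw [Subgroup.coe_pow, Matrix.SpecialLinearGroup.coe_pow]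
  -- the unitary relation
  have hG : Gᵀ * G.map (fun x => x ^ q) = 1 := by
    have h1 := Cfsg.Agent.Lib.Helper19.GU_transpose_mul_conj hF
      (Matrix.SpecialLinearGroup.toGL (ĝ : Matrix.SpecialLinearGroup (Fin (2 * m)) F))
      ((Cfsg.Agent.Lib.Helper08.toGL_mem_GU_iff _).mpr ĝ.2)
    have h2 : (frobQ hF).mapMatrix G = G.map (fun x => x ^ q) := by
      ext i j
      rw [RingHom.mapMatrix_apply, Matrix.map_apply, Matrix.map_apply, frobQ_apply]
    rw [← h2]
    exact h1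
  have hdet : G.det = 1 := (ĝ : Matrix.SpecialLinearGroup (Fin (2 * m)) F).2
  -- the primitive prime divisor
  obtain ⟨r, hr, hrN, hrq, hppd⟩ := exists_ppd_unitary q m hodd hq1 hm
  rw [← hN] at hrN
  have hrq1 : ¬ r ∣ q + 1 := by
    have := (hppd 1 (by omega) (by omega)).2 odd_one
    rwa [pow_one] at this
  -- the central scalar
  have hgN : (QuotientGroup.mk ĝ : Cfsg.PSU (2 * m) F q) ^ N = 1 := by
    rw [← hg]; exact pow_orderOf_eq_one _
  obtain ⟨ζ, hζ1, _, hζ⟩ : ∃ c : F, c * c ^ q = 1 ∧ c ^ (2 * m) = 1 ∧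
      G ^ N = Matrix.diagonal (fun _ => c) := by
    rw [← QuotientGroup.mk_pow, QuotientGroup.eq_one_iff] at hgN
    obtain ⟨c, h1, h2, h3⟩ := Cfsg.Agent.Lib.Helper08.center_SU_scalar hF (by omega) (ĝ ^ N) hgN
    exact ⟨c, h1, h2, by rw [← hcoe, h3]⟩
  set e := N / r * (q + 1) with he
  have her : e * r = N * (q + 1) := by
    obtain ⟨t, ht⟩ := hrN
    rw [he, ht, Nat.mul_div_cancel_left _ hr.pos]
    ring
  have hGer : (G ^ e) ^ r = 1 := by
    rw [← pow_mul, her, pow_mul, hζ, Matrix.diagonal_pow]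
    have : (fun _ : Fin (2 * m) => ζ) ^ (q + 1) = fun _ => 1 := by
      funext i
      rw [Pi.pow_apply, pow_succ', hζ1]
    rw [this, Matrix.diagonal_one]
  have hGe1 : G ^ e ≠ 1 := by
    intro h
    have h1 : ĝ ^ e = 1 := by
      apply Subtype.ext
      apply Subtype.ext
      rw [hcoe, h]
      rfl
    have h2 : (QuotientGroup.mk ĝ : Cfsg.PSU (2 * m) F q) ^ e = 1 := by
      rw [← QuotientGroup.mk_pow, h1]; rfl
    have h3 := orderOf_dvd_of_pow_eq_one h2
    rw [hg, he] at h3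
    obtain ⟨t, ht⟩ := hrN
    have ht0 : 0 < t := by
      rcases Nat.eq_zero_or_pos t with rfl | h0
      · rw [mul_zero] at ht; exact absurd ht hN0
      · exact h0
    rw [ht, Nat.mul_div_cancel_left _ hr.pos, mul_comm r t] at h3
    exact hrq1 ((Nat.mul_dvd_mul_iff_left ht0).mp h3)
  -- the eigenvalue
  obtain ⟨α, hα0, hαS, hfwd, hbwd⟩ := key (E := AlgebraicClosure F) hF m hm0 G hG hdet r e hr hrq
    hppd hGe1 hGer
  have h1 : α ^ (N * (q + 1)) = 1 := by
    have := hfwd N ζ (by rw [hζ, Matrix.scalar_apply])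
    rw [pow_mul, this, ← map_pow, pow_succ', hζ1, map_one]
  have h2 : α ^ (N / 2 * (q + 1)) ≠ 1 := by
    intro h
    have hN2pos : 0 < N / 2 := by
      obtain ⟨t, rfl⟩ := hN2
      rcases Nat.eq_zero_or_pos t with rfl | h0
      · exact absurd rfl hN0
      · rw [Nat.mul_div_cancel_left _ (by norm_num)]; exact h0
    obtain ⟨c, hc⟩ := hbwd (N / 2) hN2pos h
    have h3 : (QuotientGroup.mk ĝ : Cfsg.PSU (2 * m) F q) ^ (N / 2) = 1 :=
      (mk_pow_eq_one_iff_PSU_n hF (by omega) ĝ (N / 2)).mpr ⟨c, hc⟩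
    have h4 := orderOf_dvd_of_pow_eq_one h3
    rw [hg] at h4
    have := Nat.le_of_dvd hN2pos h4
    omega
  have h3 : α ^ (N * M) = 1 := by rw [hNM]; exact hαS
  have h4 := two_part_dvd_cofactor α q N M hodd hN0 hM0 hN2 h1 h2 h3
  exact (alt_dvd_iff q m _ M pow_padicValNat_dvd hMz).mp h4

end necessity

/-- Let q be an odd prime power, n ≥ 4 even, and U = PSU(n,q) (realised over the field with q² elements). Then U has an element of order q^(n/2) + (−1)^(n/2) — that is, q^(n/2) + 1 when n/2 is even and q^(n/2) − 1 when n/2 is odd — if and only if the 2-part of n exceeds the 2-part of q + 1. -/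
theorem result {F : Type*} [Field F] [Fintype F] {q : ℕ} (hF : Fintype.card F = q ^ 2) (hodd : Odd q)
    {n : ℕ} (hn : 4 ≤ n) (heven : Even n) :
    (∃ g : Cfsg.PSU n F q, orderOf g = if Even (n / 2) then q ^ (n / 2) + 1 else q ^ (n / 2) - 1) ↔
      padicValNat 2 (q + 1) < padicValNat 2 n := by
  obtain ⟨m, rfl⟩ : ∃ m, n = 2 * m := by
    obtain ⟨m, hm⟩ := heven
    exact ⟨m, by omega⟩
  have hm2 : 2 ≤ m := by omega
  have hhalf : 2 * m / 2 = m := by omega
  rw [hhalf]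
  have hval : padicValNat 2 (2 * m) = 1 + padicValNat 2 m := by
    rw [padicValNat.mul (by norm_num) (by omega), padicValNat_self]
  have hiff : padicValNat 2 (q + 1) < padicValNat 2 (2 * m) ↔
      2 ^ padicValNat 2 (q + 1) ∣ m := by
    rw [hval, padicValNat_dvd_iff_le (by omega)]
    omega
  rw [hiff]
  constructor
  · rintro ⟨g, hg⟩
    exact dvd_of_exists hF hodd m hm2 g hg
  · intro h
    have hme : Even m := by
      have hs : 1 ≤ padicValNat 2 (q + 1) := by
        have : 2 ∣ q + 1 := by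
          rcases hodd with ⟨a, rfl⟩
          exact ⟨a + 1, by ring⟩
        exact one_le_padicValNat_of_dvd (by omega) this
      have h2 : 2 ∣ m := dvd_trans (dvd_pow_self 2 (by omega)) h
      exact even_iff_two_dvd.mpr h2
    obtain ⟨g, hg⟩ := exists_elt hF hodd m hm2 hme h
    exact ⟨g, by rw [if_pos hme]; exact hg⟩

end Cfsg.Agent.S2496
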