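import Mathlib
import Cfsg.Statements.S2507
import Cfsg.Agent.Lib.Helper48.SL2Count
import Cfsg.Agent.Lib.Helper48.PSL2Basic

set_option autoImplicit false
open Cfsg

namespace Cfsg.Agent.S2507

open Matrix Cfsg.Agent.Lib.Helper48

section char2

variable {F : Type*} [Field F] [CharP F 2]

theorem eq_one_of_sq_eq_one {r : F} (h : r ^ 2 = 1) : r = 1 := by
  have h2 : (2 : F) = 0 := CharTwo.two_eq_zero
  have : (r - 1) ^ 2 = 0 := by
    linear_combination h + (1 - r) * h2
  exact sub_eq_zero.mp (pow_eq_zero_iff (two_ne_zero) |>.mp this)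

/-- in characteristic 2, a scalar matrix in `SL(2,F)` is the identity -/
theorem eq_one_of_isScalar (B : Matrix.SpecialLinearGroup (Fin 2) F)
    (h : IsScalar (B : Matrix (Fin 2) (Fin 2) F)) : B = 1 := by
  rw [isScalar_iff] at h
  have hdet : (B : Matrix (Fin 2) (Fin 2) F).det = 1 := B.2
  rw [h, Matrix.det_smul, Matrix.det_one, mul_one, Fintype.card_fin] at hdet
  have h1 := eq_one_of_sq_eq_one hdet
  apply Subtype.ext
  rw [h, h1, one_smul]
  rfl

theorem center_eq_bot : Subgroup.center (Matrix.SpecialLinearGroup (Fin 2) F) = ⊥ := by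
  rw [eq_bot_iff]
  intro A hA
  rw [sl2_mem_center_iff] at hA
  obtain ⟨r, hr⟩ := hA
  rw [Subgroup.mem_bot]
  apply eq_one_of_isScalar
  rw [hr]
  refine ⟨by simp, by simp, by simp⟩

/-- transfer of class sizes from `PSL` to `SL` in characteristic 2 -/
theorem index_centralizer_mk (A : Matrix.SpecialLinearGroup (Fin 2) F) :
    (Subgroup.centralizer ({(QuotientGroup.mk A : Matrix.ProjectiveSpecialLinearGroup (Fin 2) F)} :
      Set (Matrix.ProjectiveSpecialLinearGroup (Fin 2) F))).index =
    (Subgroup.centralizer ({A} : Set (Matrix.SpecialLinearGroup (Fin 2) F))).index := by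
  have hsurj : Function.Surjective
      (QuotientGroup.mk' (Subgroup.center (Matrix.SpecialLinearGroup (Fin 2) F))) :=
    QuotientGroup.mk'_surjective _
  rw [← Subgroup.index_comap_of_surjective _ hsurj]
  congr 1
  ext x
  simp only [Subgroup.mem_comap, Subgroup.mem_centralizer_iff, Set.mem_singleton_iff, forall_eq,
    QuotientGroup.mk'_apply]
  rw [← QuotientGroup.mk_mul, ← QuotientGroup.mk_mul, QuotientGroup.eq, center_eq_bot,
    Subgroup.mem_bot]
  constructor
  · intro h
    have := congrArg (fun y => (A * x) * y) h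
    simpa [mul_assoc] using this.symm
  · intro h
    rw [h]; group

end char2

section main

variable {F : Type*} [Field F] [Fintype F] [CharP F 2]

theorem trace_one_sl2 :
    ((1 : Matrix.SpecialLinearGroup (Fin 2) F) : Matrix (Fin 2) (Fin 2) F).trace = 0 := by
  rw [Matrix.SpecialLinearGroup.coe_one, Matrix.trace_one, Fintype.card_fin]
  exact CharP.cast_eq_zero F 2

theorem trace_conj_sl2 (A X : Matrix.SpecialLinearGroup (Fin 2) F) :
    ((X * A * X⁻¹ : Matrix.SpecialLinearGroup (Fin 2) F) : Matrix (Fin 2) (Fin 2) F).trace =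
      (A : Matrix (Fin 2) (Fin 2) F).trace := by
  rw [Matrix.SpecialLinearGroup.coe_mul, Matrix.trace_mul_comm, ← Matrix.SpecialLinearGroup.coe_mul,
    ← mul_assoc, inv_mul_cancel, one_mul]

/-- the conjugates of a non-identity element are the non-identity elements of the same trace -/
theorem isConj_iff_trace (A B : Matrix.SpecialLinearGroup (Fin 2) F) (hA : A ≠ 1) :
    IsConj A B ↔ ((B : Matrix (Fin 2) (Fin 2) F).trace = (A : Matrix (Fin 2) (Fin 2) F).trace ∧ B ≠ 1) := by
  have hF : ringChar F = 2 := ringChar.eq F 2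
  constructor
  · intro h
    obtain ⟨X, rfl⟩ := isConj_iff.mp h
    refine ⟨trace_conj_sl2 A X, ?_⟩
    intro h1
    apply hA
    have : A = X⁻¹ * (X * A * X⁻¹) * X := by group
    rw [this, h1]; group
  · rintro ⟨htr, hB⟩
    apply sl2_isConj_of_trace_eq (FiniteField.isSquare_of_char_two hF) A B
    · intro h; exact hA (eq_one_of_isScalar A h)
    · intro h; exact hB (eq_one_of_isScalar B h)
    · exact htr.symm

open Classical in
/-- root count of `a (t - a) = 1` in characteristic 2 -/
theorem root_count (t : F) :
    (t = 0 ∧ (Finset.univ.filter (fun a : F => a * (t - a) = 1)).card = 1) ∨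
    (t ≠ 0 ∧ ((Finset.univ.filter (fun a : F => a * (t - a) = 1)).card = 0 ∨
      (Finset.univ.filter (fun a : F => a * (t - a) = 1)).card = 2)) := by
  have h2 : (2 : F) = 0 := CharTwo.two_eq_zero
  by_cases ht : t = 0
  · left
    refine ⟨ht, ?_⟩
    subst ht
    have : (Finset.univ.filter (fun a : F => a * (0 - a) = 1)) = {1} := by
      ext a
      simp only [Finset.mem_filter, Finset.mem_univ, true_and, Finset.mem_singleton]
      constructor
      · intro h
        apply eq_one_of_sq_eq_one
        have : a ^ 2 = a * (0 - a) + 2 * a ^ 2 := by ring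
        rw [this, h, h2]; ring
      · rintro rfl
        have : (1 : F) * (0 - 1) = 1 - 2 := by ring
        rw [this, h2]; ring
    rw [this, Finset.card_singleton]
  · right
    refine ⟨ht, ?_⟩
    by_cases hex : ∃ a₀ : F, a₀ * (t - a₀) = 1
    · right
      obtain ⟨a₀, ha₀⟩ := hex
      have hne : a₀ ≠ t - a₀ := by
        intro h
        apply ht
        have : t = 2 * a₀ := by linear_combination -h
        rw [this, h2, zero_mul]
      have : (Finset.univ.filter (fun a : F => a * (t - a) = 1)) = {a₀, t - a₀} := by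
        ext a
        simp only [Finset.mem_filter, Finset.mem_univ, true_and, Finset.mem_insert,
          Finset.mem_singleton]
        constructor
        · intro h
          have hfac : (a - a₀) * (a - (t - a₀)) = 0 := by
            linear_combination ha₀ - h
          rcases mul_eq_zero.mp hfac with h' | h'
          · left; exact sub_eq_zero.mp h'
          · right; exact sub_eq_zero.mp h'
        · rintro (rfl | rfl)
          · exact ha₀
          · linear_combination ha₀
      rw [this, Finset.card_pair hne]
    · left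
      rw [Finset.card_eq_zero, Finset.filter_eq_empty_iff]
      intro a _ ha
      exact hex ⟨a, ha⟩

open Classical in
/-- class size of a non-identity element of `SL(2,F)` in characteristic 2 -/
theorem class_size (A : Matrix.SpecialLinearGroup (Fin 2) F) (hA : A ≠ 1) :
    (Subgroup.centralizer ({A} : Set (Matrix.SpecialLinearGroup (Fin 2) F))).index +
      (if (A : Matrix (Fin 2) (Fin 2) F).trace = 0 then 1 else 0) =
      Fintype.card F * (Fintype.card F - 1) + Fintype.card F *
        (Finset.univ.filter (fun a : F => a * ((A : Matrix (Fin 2) (Fin 2) F).trace - a) = 1)).card := by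
  set t := (A : Matrix (Fin 2) (Fin 2) F).trace with ht
  have hc := card_sl2_trace (F := F) t
  rw [index_centralizer_eq_card_conj, ← hc]
  rw [Nat.card_eq_fintype_card, Nat.card_eq_fintype_card, Fintype.card_subtype, Fintype.card_subtype]
  have hfilt : (Finset.univ.filter (fun B : Matrix.SpecialLinearGroup (Fin 2) F => IsConj A B)) =
      (Finset.univ.filter (fun B : Matrix.SpecialLinearGroup (Fin 2) F =>
        (B : Matrix (Fin 2) (Fin 2) F).trace = t)).filter (fun B => B ≠ 1) := by
    ext B
    simp only [Finset.mem_filter, Finset.mem_univ, true_and]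
    exact isConj_iff_trace A B hA
  rw [hfilt]
  have hsplit := Finset.card_filter_add_card_filter_not
    (s := Finset.univ.filter (fun B : Matrix.SpecialLinearGroup (Fin 2) F =>
        (B : Matrix (Fin 2) (Fin 2) F).trace = t)) (fun B => B ≠ 1)
  rw [← hsplit]
  congr 1
  by_cases h0 : t = 0
  · rw [if_pos h0]
    symm
    rw [Finset.card_eq_one]
    refine ⟨1, ?_⟩
    ext B
    simp only [Finset.mem_filter, Finset.mem_univ, true_and, not_not, Finset.mem_singleton]
    constructor
    · exact fun h => h.2
    · rintro rfl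
      exact ⟨by rw [h0]; exact trace_one_sl2, rfl⟩
  · rw [if_neg h0]
    symm
    rw [Finset.card_eq_zero, Finset.filter_eq_empty_iff]
    intro B hB
    simp only [Finset.mem_filter, Finset.mem_univ, true_and] at hB
    simp only [not_not]
    rintro rfl
    rw [trace_one_sl2] at hB
    exact h0 hB.symm

end main

/-- Let F be a finite field with q = 2^f ≥ 4 elements. The conjugacy class sizes of PSL(2,F) are exactly 1, q(q − 1), q² − 1 and q(q + 1). -/
theorem result {F : Type*} [Field F] [Fintype F]
    (h2 : 2 ∣ Fintype.card F) (h4 : 4 ≤ Fintype.card F) :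
    Set.range (fun g : (Matrix.ProjectiveSpecialLinearGroup (Fin 2) F) => (Subgroup.centralizer ({g} : Set (Matrix.ProjectiveSpecialLinearGroup (Fin 2) F))).index) =
      {1, Fintype.card F * (Fintype.card F - 1), Fintype.card F ^ 2 - 1, Fintype.card F * (Fintype.card F + 1)} := by
  classical
  have hF : ringChar F = 2 := FiniteField.even_card_iff_char_two.mpr (Nat.mod_eq_zero_of_dvd h2)
  have : CharP F 2 := ringChar.of_eq hF
  have h2F : (2 : F) = 0 := CharTwo.two_eq_zero
  obtain ⟨m, hm⟩ : ∃ m, Fintype.card F = m + 1 := ⟨Fintype.card F - 1, by omega⟩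
  have e1 : (m + 1) * (m + 1 - 1) + (m + 1) * 1 = (m + 1) ^ 2 := by
    simp only [Nat.add_sub_cancel]; ring
  have e2 : (m + 1) * (m + 1 - 1) + (m + 1) * 2 = (m + 1) * (m + 1 + 1) := by
    simp only [Nat.add_sub_cancel]; ring
  have hpos : 1 ≤ (m + 1) ^ 2 := Nat.one_le_pow _ _ (by omega)
  -- class size of a non-identity element in terms of trace
  have key : ∀ A : Matrix.SpecialLinearGroup (Fin 2) F, A ≠ 1 →
      ((A : Matrix (Fin 2) (Fin 2) F).trace = 0 ∧
        (Subgroup.centralizer ({A} : Set (Matrix.SpecialLinearGroup (Fin 2) F))).index =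
          Fintype.card F ^ 2 - 1) ∨
      ((A : Matrix (Fin 2) (Fin 2) F).trace ≠ 0 ∧
        (∀ a : F, a * ((A : Matrix (Fin 2) (Fin 2) F).trace - a) ≠ 1) ∧
        (Subgroup.centralizer ({A} : Set (Matrix.SpecialLinearGroup (Fin 2) F))).index =
          Fintype.card F * (Fintype.card F - 1)) ∨
      ((A : Matrix (Fin 2) (Fin 2) F).trace ≠ 0 ∧
        (∃ a : F, a * ((A : Matrix (Fin 2) (Fin 2) F).trace - a) = 1) ∧
        (Subgroup.centralizer ({A} : Set (Matrix.SpecialLinearGroup (Fin 2) F))).index =
          Fintype.card F * (Fintype.card F + 1)) := by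
    intro A hA
    have hcs := class_size A hA
    rcases root_count (A : Matrix (Fin 2) (Fin 2) F).trace with ⟨ht, hr⟩ | ⟨ht, hr | hr⟩
    · left
      refine ⟨ht, ?_⟩
      rw [hr, if_pos ht, hm, e1] at hcs
      rw [hm]; omega
    · right; left
      refine ⟨ht, ?_, ?_⟩
      · intro a ha
        rw [Finset.card_eq_zero, Finset.filter_eq_empty_iff] at hr
        exact hr (Finset.mem_univ a) ha
      · rw [hr, if_neg ht] at hcs
        simpa using hcs
    · right; right
      refine ⟨ht, ?_, ?_⟩
      · have : (Finset.univ.filter (fun a : F => a * ((A : Matrix (Fin 2) (Fin 2) F).trace - a) = 1)).Nonempty := by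
          rw [← Finset.card_pos, hr]; norm_num
        obtain ⟨a, ha⟩ := this
        exact ⟨a, (Finset.mem_filter.mp ha).2⟩
      · rw [hr, if_neg ht, hm, e2] at hcs
        rw [hm]; simpa using hcs
  ext n
  simp only [Set.mem_range, Set.mem_insert_iff, Set.mem_singleton_iff]
  constructor
  · rintro ⟨g, rfl⟩
    obtain ⟨A, rfl⟩ := QuotientGroup.mk_surjective g
    rw [index_centralizer_mk]
    by_cases hA : A = 1
    · left
      subst hA
      rw [Subgroup.index_eq_one, Subgroup.centralizer_eq_top_iff_subset]
      simp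
    · rcases key A hA with ⟨-, h⟩ | ⟨-, -, h⟩ | ⟨-, -, h⟩
      · right; right; left; exact h
      · right; left; exact h
      · right; right; right; exact h
  · rintro (rfl | rfl | rfl | rfl)
    · refine ⟨1, ?_⟩
      rw [Subgroup.index_eq_one, Subgroup.centralizer_eq_top_iff_subset]
      simp
    · -- non-split element
      obtain ⟨z, t₀, -, -, hno⟩ := exists_nonsplit_trace (F := F) 2
      let C : Matrix.SpecialLinearGroup (Fin 2) F := ⟨!![0, -1; 1, t₀], by simp [Matrix.det_fin_two]⟩
      have hCtr : (C : Matrix (Fin 2) (Fin 2) F).trace = t₀ := by simp [C, Matrix.trace_fin_two]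
      have hC1 : C ≠ 1 := by
        intro h
        have := congrArg (fun X : Matrix.SpecialLinearGroup (Fin 2) F => (X : Matrix (Fin 2) (Fin 2) F) 1 0) h
        simp [C] at this
      refine ⟨QuotientGroup.mk C, ?_⟩
      rw [index_centralizer_mk]
      rcases key C hC1 with ⟨h0, -⟩ | ⟨-, -, h⟩ | ⟨-, ⟨a, ha⟩, -⟩
      · exfalso
        rw [hCtr] at h0
        apply hno 1
        rw [h0]
        linear_combination (-1 : F) * h2F
      · exact h
      · exfalso
        rw [hCtr] at ha
        exact hno a ha
    · -- unipotent element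
      let U : Matrix.SpecialLinearGroup (Fin 2) F := ⟨!![1, 1; 0, 1], by simp [Matrix.det_fin_two]⟩
      have hUtr : (U : Matrix (Fin 2) (Fin 2) F).trace = 0 := by
        simp [U, Matrix.trace_fin_two]
        linear_combination h2F
      have hU1 : U ≠ 1 := by
        intro h
        have := congrArg (fun X : Matrix.SpecialLinearGroup (Fin 2) F => (X : Matrix (Fin 2) (Fin 2) F) 0 1) h
        simp [U] at this
      refine ⟨QuotientGroup.mk U, ?_⟩
      rw [index_centralizer_mk]
      rcases key U hU1 with ⟨-, h⟩ | ⟨h0, -, -⟩ | ⟨h0, -, -⟩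
      · exact h
      · exact absurd hUtr h0
      · exact absurd hUtr h0
    · -- split element
      obtain ⟨ζ, hζ⟩ : ∃ ζ : F, ζ ∉ ({0, 1} : Finset F) := by
        by_contra h
        push Not at h
        have hsub : (Finset.univ : Finset F) ⊆ {0, 1} := fun x _ => h x
        have := Finset.card_le_card hsub
        rw [Finset.card_univ] at this
        have h3 : ({0, 1} : Finset F).card ≤ 2 := Finset.card_le_two
        omega
      simp only [Finset.mem_insert, Finset.mem_singleton, not_or] at hζ
      obtain ⟨hζ0, hζ1⟩ := hζ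
      let D : Matrix.SpecialLinearGroup (Fin 2) F := ⟨!![ζ, 0; 0, ζ⁻¹], by
        simp [Matrix.det_fin_two, hζ0]⟩
      have hDtr : (D : Matrix (Fin 2) (Fin 2) F).trace = ζ + ζ⁻¹ := by simp [D, Matrix.trace_fin_two]
      have hD1 : D ≠ 1 := by
        intro h
        have := congrArg (fun X : Matrix.SpecialLinearGroup (Fin 2) F => (X : Matrix (Fin 2) (Fin 2) F) 0 0) h
        simp [D] at this
        exact hζ1 this
      have htne : ζ + ζ⁻¹ ≠ 0 := by
        intro h
        apply hζ1
        apply eq_one_of_sq_eq_one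
        have : ζ ^ 2 = ζ * (ζ + ζ⁻¹) - ζ * ζ⁻¹ := by ring
        rw [this, h, mul_inv_cancel₀ hζ0]
        linear_combination (-1 : F) * h2F
      refine ⟨QuotientGroup.mk D, ?_⟩
      rw [index_centralizer_mk]
      rcases key D hD1 with ⟨h0, -⟩ | ⟨-, hno, -⟩ | ⟨-, -, h⟩
      · rw [hDtr] at h0; exact absurd h0 htne
      · exfalso
        apply hno ζ
        rw [hDtr]
        have : ζ * (ζ + ζ⁻¹ - ζ) = ζ * ζ⁻¹ := by ring
        rw [this, mul_inv_cancel₀ hζ0]
      · exact h

end Cfsg.Agent.S2507
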