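import Mathlib
import Cfsg.Statements.S2503
import Cfsg.Agent.S2507
import Cfsg.Agent.Lib.Helper48.PSL2Torus
import Cfsg.Agent.Lib.Helper48.SL2Card

set_option autoImplicit false
open Cfsg

namespace Cfsg.Agent.S2503

open Matrix Cfsg.Agent.Lib.Helper48

section forms

variable {F : Type*} [Field F] (t : F)

/-- the norm form of `X² - t X + 1` -/
def Qf (x y : F) : F := x ^ 2 + t * x * y + y ^ 2

/-- the matrix `x + y C` for `C` the companion matrix -/
def aM (x y : F) : Matrix (Fin 2) (Fin 2) F := !![x, -y; y, x + t * y]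

theorem aM_det (x y : F) : (aM t x y).det = Qf t x y := by
  simp [aM, Qf, Matrix.det_fin_two]; ring

theorem aM_comm (x y : F) : aM t x y * aM t 0 1 = aM t 0 1 * aM t x y := by
  ext i j
  fin_cases i <;> fin_cases j <;> simp [aM, Matrix.mul_apply, Fin.sum_univ_two] <;> ring

theorem Qf_aniso (hno : ∀ a : F, a * (t - a) ≠ 1) (x y : F) (h : Qf t x y = 0) : x = 0 ∧ y = 0 := by
  by_cases hy : y = 0
  · subst hy
    simp [Qf] at h
    exact ⟨h, rfl⟩
  · exfalso
    apply hno (-x / y)
    have : -x / y * (t - -x / y) - 1 = -(Qf t x y) / y ^ 2 := by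
      unfold Qf
      field_simp
      ring
    rw [h] at this
    simpa [sub_eq_zero] using this

theorem Qf_smul (c x y : F) : Qf t (c * x) (c * y) = c ^ 2 * Qf t x y := by
  unfold Qf; ring

end forms

section char2

variable {F : Type*} [Field F] [Fintype F] [CharP F 2] (t : F)

/-- the key geometric step: `X` maps some vector of norm one to a vector of norm one -/
theorem exists_norm_one (hno : ∀ a : F, a * (t - a) ≠ 1) (p q r s : F) (hdet : p * s - q * r = 1) :
    ∃ x y : F, Qf t x y = 1 ∧ Qf t (p * x + q * y) (r * x + s * y) = 1 := by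
  have h2 : (2 : F) = 0 := CharTwo.two_eq_zero
  have hF : ringChar F = 2 := ringChar.eq F 2
  have hdet' : p * s + q * r = 1 := by linear_combination hdet + q * r * h2
  have htrans : ∀ x y : F, Qf t (p * x + q * y) (r * x + s * y) =
      x ^ 2 * Qf t p r + y ^ 2 * Qf t q s + t * x * y := by
    intro x y
    unfold Qf
    linear_combination (x * y * (p * q + r * s)) * h2 + (t * x * y) * hdet'
  obtain ⟨sa, hsa⟩ := FiniteField.isSquare_of_char_two hF (1 + Qf t p r)
  obtain ⟨sb, hsb⟩ := FiniteField.isSquare_of_char_two hF (1 + Qf t q s)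
  -- a nonzero vector with equal norms
  obtain ⟨x₀, y₀, hne, heq⟩ : ∃ x₀ y₀ : F, ¬ (x₀ = 0 ∧ y₀ = 0) ∧
      Qf t (p * x₀ + q * y₀) (r * x₀ + s * y₀) = Qf t x₀ y₀ := by
    have hsum : ∀ x y : F, Qf t (p * x + q * y) (r * x + s * y) - Qf t x y = (sa * x + sb * y) ^ 2 := by
      intro x y
      rw [htrans]
      unfold Qf
      have e1 : sa * sa = 1 + (p ^ 2 + t * p * r + r ^ 2) := by rw [← hsa]; rfl
      have e2 : sb * sb = 1 + (q ^ 2 + t * q * s + s ^ 2) := by rw [← hsb]; rfl
      linear_combination (-(x ^ 2)) * e1 - (y ^ 2) * e2 - (x ^ 2 + y ^ 2 + sa * sb * x * y) * h2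
    by_cases hz : sa = 0 ∧ sb = 0
    · refine ⟨1, 0, by simp, ?_⟩
      have := hsum 1 0
      rw [hz.1, hz.2] at this
      exact sub_eq_zero.mp (by rw [this]; ring)
    · refine ⟨sb, sa, fun h => hz ⟨h.2, h.1⟩, ?_⟩
      have := hsum sb sa
      apply sub_eq_zero.mp
      rw [this]
      linear_combination (2 * sa ^ 2 * sb ^ 2) * h2
  have hc : Qf t x₀ y₀ ≠ 0 := fun h => hne (Qf_aniso t hno x₀ y₀ h)
  obtain ⟨sc, hsc⟩ := FiniteField.isSquare_of_char_two hF (Qf t x₀ y₀)
  have hsc0 : sc ≠ 0 := by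
    rintro rfl
    rw [mul_zero] at hsc
    exact hc hsc
  refine ⟨sc⁻¹ * x₀, sc⁻¹ * y₀, ?_, ?_⟩
  · rw [Qf_smul, hsc]
    field_simp
  · have : p * (sc⁻¹ * x₀) + q * (sc⁻¹ * y₀) = sc⁻¹ * (p * x₀ + q * y₀) := by ring
    rw [this]
    have : r * (sc⁻¹ * x₀) + s * (sc⁻¹ * y₀) = sc⁻¹ * (r * x₀ + s * y₀) := by ring
    rw [this, Qf_smul, heq, hsc]
    field_simp

end char2

section main

variable {F : Type*} [Field F] [Fintype F] [CharP F 2]

/-- the element `x + y C` of `SL(2,F)` attached to a vector of norm one -/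
def aSL (t x y : F) (h : Qf t x y = 1) : Matrix.SpecialLinearGroup (Fin 2) F :=
  ⟨aM t x y, by rw [aM_det, h]⟩

theorem Qf_zero_one (t : F) : Qf t 0 1 = 1 := by simp [Qf]

theorem aSL_zero_one (t : F) : aSL t 0 1 (Qf_zero_one t) = slCompanion t := by
  apply Subtype.ext
  simp [aSL, aM, slCompanion_coe]

theorem mk_injective :
    Function.Injective (QuotientGroup.mk' (Subgroup.center (Matrix.SpecialLinearGroup (Fin 2) F))) := by
  rw [← MonoidHom.ker_eq_bot_iff, QuotientGroup.ker_mk', Cfsg.Agent.S2507.center_eq_bot]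

theorem gcd_two_of_even_card (h2 : 2 ∣ Fintype.card F) : Nat.gcd 2 (Fintype.card F - 1) = 1 := by
  have hq : 1 ≤ Fintype.card F := Fintype.card_pos
  apply Nat.coprime_two_left.mpr
  obtain ⟨c, hc⟩ := h2
  exact ⟨c - 1, by omega⟩

/-- the non-split torus: the centralizer of the companion matrix is cyclic of order `q + 1` -/
theorem centralizer_eq_zpowers (h2 : 2 ∣ Fintype.card F)
    (z : (FiniteField.Extension F 2 2)ˣ) (t₀ : F) (hz : orderOf z = Fintype.card F + 1)
    (ht₀ : algebraMap F (FiniteField.Extension F 2 2) t₀ =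
        (z : FiniteField.Extension F 2 2) + (z : FiniteField.Extension F 2 2)⁻¹)
    (hno : ∀ a : F, a * (t₀ - a) ≠ 1) :
    Subgroup.zpowers (slCompanion t₀) =
      Subgroup.centralizer ({slCompanion t₀} : Set (Matrix.SpecialLinearGroup (Fin 2) F)) ∧
    orderOf (QuotientGroup.mk (slCompanion t₀) : Matrix.ProjectiveSpecialLinearGroup (Fin 2) F) =
      Fintype.card F + 1 := by
  classical
  have h2F : (2 : F) = 0 := CharTwo.two_eq_zero
  have hq : 2 ≤ Fintype.card F := Fintype.one_lt_card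
  have hord : orderOf (QuotientGroup.mk (slCompanion t₀) : Matrix.ProjectiveSpecialLinearGroup (Fin 2) F) =
      Fintype.card F + 1 := by
    rw [orderOf_mk_slCompanion 2 z t₀ hz ht₀, gcd_two_of_even_card h2, Nat.div_one]
  refine ⟨?_, hord⟩
  have hord' : orderOf (slCompanion t₀ : Matrix.SpecialLinearGroup (Fin 2) F) = Fintype.card F + 1 := by
    rw [← hord]
    exact (orderOf_injective _ mk_injective (slCompanion t₀)).symm
  apply Subgroup.eq_of_le_of_card_ge
  · rw [Subgroup.zpowers_le]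
    exact Subgroup.mem_centralizer_singleton_iff.mpr rfl
  · rw [Nat.card_zpowers, hord']
    -- card of centralizer via the class size
    have hC1 : slCompanion t₀ ≠ 1 := by
      intro h
      have := congrArg (fun X : Matrix.SpecialLinearGroup (Fin 2) F => (X : Matrix (Fin 2) (Fin 2) F) 1 0) h
      simp [slCompanion_coe] at this
    have hcs := Cfsg.Agent.S2507.class_size (slCompanion t₀) hC1
    rw [slCompanion_trace] at hcs
    have ht0 : t₀ ≠ 0 := by
      rintro rfl
      apply hno 1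
      linear_combination (-1 : F) * h2F
    have hr : (Finset.univ.filter (fun a : F => a * (t₀ - a) = 1)).card = 0 := by
      rw [Finset.card_eq_zero, Finset.filter_eq_empty_iff]
      intro a _ ha
      exact hno a ha
    rw [hr, if_neg ht0, mul_zero, add_zero, add_zero] at hcs
    have hmul := Subgroup.card_mul_index
      (Subgroup.centralizer ({slCompanion t₀} : Set (Matrix.SpecialLinearGroup (Fin 2) F)))
    rw [hcs, card_SL2] at hmul
    obtain ⟨m, hm⟩ : ∃ m, Fintype.card F = m + 2 := ⟨Fintype.card F - 2, by omega⟩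
    rw [hm] at hmul ⊢
    have e : (m + 2) * ((m + 2) ^ 2 - 1) = (m + 2 + 1) * ((m + 2) * (m + 2 - 1)) := by
      have e1 : (m + 2) ^ 2 - 1 = (m + 1) * (m + 3) := by
        have : (m + 2) ^ 2 = (m + 1) * (m + 3) + 1 := by ring
        omega
      have e2 : m + 2 - 1 = m + 1 := by omega
      rw [e1, e2]; ring
    rw [e] at hmul
    have hpos : 0 < (m + 2) * (m + 2 - 1) := by
      apply Nat.mul_pos <;> omega
    exact le_of_eq (Nat.eq_of_mul_eq_mul_right hpos hmul)

theorem mul_aSL_col0 (t : F) (X : Matrix.SpecialLinearGroup (Fin 2) F) (x y : F) (h : Qf t x y = 1) :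
    ((X * aSL t x y h : Matrix.SpecialLinearGroup (Fin 2) F) : Matrix (Fin 2) (Fin 2) F) 0 0 =
      (X : Matrix (Fin 2) (Fin 2) F) 0 0 * x + (X : Matrix (Fin 2) (Fin 2) F) 0 1 * y := by
  rw [Matrix.SpecialLinearGroup.coe_mul]
  show ((X : Matrix (Fin 2) (Fin 2) F) * aM t x y) 0 0 = _
  simp [aM, Matrix.mul_apply, Fin.sum_univ_two]

theorem mul_aSL_col1 (t : F) (X : Matrix.SpecialLinearGroup (Fin 2) F) (x y : F) (h : Qf t x y = 1) :
    ((X * aSL t x y h : Matrix.SpecialLinearGroup (Fin 2) F) : Matrix (Fin 2) (Fin 2) F) 1 0 =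
      (X : Matrix (Fin 2) (Fin 2) F) 1 0 * x + (X : Matrix (Fin 2) (Fin 2) F) 1 1 * y := by
  rw [Matrix.SpecialLinearGroup.coe_mul]
  show ((X : Matrix (Fin 2) (Fin 2) F) * aM t x y) 1 0 = _
  simp [aM, Matrix.mul_apply, Fin.sum_univ_two]

theorem aSL_col0 (t x y : F) (h : Qf t x y = 1) :
    ((aSL t x y h : Matrix.SpecialLinearGroup (Fin 2) F) : Matrix (Fin 2) (Fin 2) F) 0 0 = x := by
  simp [aSL, aM]

theorem aSL_col1 (t x y : F) (h : Qf t x y = 1) :
    ((aSL t x y h : Matrix.SpecialLinearGroup (Fin 2) F) : Matrix (Fin 2) (Fin 2) F) 1 0 = y := by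
  simp [aSL, aM]

/-- the unipotent radical as a homomorphism -/
def uHom : Multiplicative F →* Matrix.SpecialLinearGroup (Fin 2) F where
  toFun b := ⟨!![1, Multiplicative.toAdd b; 0, 1], by simp [Matrix.det_fin_two]⟩
  map_one' := by
    apply Subtype.ext
    simp [Matrix.one_fin_two]
  map_mul' a b := by
    apply Subtype.ext
    show !![1, Multiplicative.toAdd (a * b); 0, 1] =
      !![1, Multiplicative.toAdd a; 0, 1] * !![1, Multiplicative.toAdd b; 0, 1]
    rw [Matrix.mul_fin_two]
    simp [add_comm]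

theorem uHom_coe (b : Multiplicative F) :
    ((uHom b : Matrix.SpecialLinearGroup (Fin 2) F) : Matrix (Fin 2) (Fin 2) F) =
      !![1, Multiplicative.toAdd b; 0, 1] := rfl

theorem uHom_injective : Function.Injective (uHom : Multiplicative F → Matrix.SpecialLinearGroup (Fin 2) F) := by
  intro a b h
  have := congrArg (fun X : Matrix.SpecialLinearGroup (Fin 2) F => (X : Matrix (Fin 2) (Fin 2) F) 0 1) h
  simpa [uHom_coe] using this

theorem aSL_mem_zpowers (t₀ : F)
    (hcent : Subgroup.zpowers (slCompanion t₀) =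
      Subgroup.centralizer ({slCompanion t₀} : Set (Matrix.SpecialLinearGroup (Fin 2) F)))
    (x y : F) (h : Qf t₀ x y = 1) :
    (QuotientGroup.mk (aSL t₀ x y h) : Matrix.ProjectiveSpecialLinearGroup (Fin 2) F) ∈
      Subgroup.zpowers (QuotientGroup.mk (slCompanion t₀) : Matrix.ProjectiveSpecialLinearGroup (Fin 2) F) := by
  have hmem : aSL t₀ x y h ∈ Subgroup.zpowers (slCompanion t₀) := by
    rw [hcent, Subgroup.mem_centralizer_singleton_iff, ← aSL_zero_one]
    apply Subtype.ext
    simp only [Matrix.SpecialLinearGroup.coe_mul]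
    exact aM_comm t₀ x y
  obtain ⟨k, hk⟩ := Subgroup.mem_zpowers_iff.mp hmem
  exact Subgroup.mem_zpowers_iff.mpr ⟨k, by rw [← hk]; rfl⟩

end main

/-- Let F be a finite field with q = 2^t ≥ 4 elements and L = PSL(2,F). Then L has a cyclic subgroup A of order q + 1 and an elementary abelian 2-subgroup B of order q such that L = ABA: every element of L is a product a·b·a' with a, a' ∈ A and b ∈ B. -/
theorem result {F : Type*} [Field F] [Fintype F]
    (h2 : 2 ∣ Fintype.card F) (h4 : 4 ≤ Fintype.card F) :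
    ∃ A B : Subgroup (Matrix.ProjectiveSpecialLinearGroup (Fin 2) F),
      IsCyclic A ∧ Nat.card A = Fintype.card F + 1 ∧ IsMulCommutative B ∧ (∀ b ∈ B, b * b = 1) ∧
        Nat.card B = Fintype.card F ∧
        ∀ g : Matrix.ProjectiveSpecialLinearGroup (Fin 2) F, ∃ a ∈ A, ∃ b ∈ B, ∃ c ∈ A, g = a * b * c := by
  classical
  have hF : ringChar F = 2 := FiniteField.even_card_iff_char_two.mpr (Nat.mod_eq_zero_of_dvd h2)
  have : CharP F 2 := ringChar.of_eq hF
  have h2F : (2 : F) = 0 := CharTwo.two_eq_zero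
  obtain ⟨z, t₀, hz, ht₀, hno⟩ := exists_nonsplit_trace (F := F) 2
  obtain ⟨hcent, hord⟩ := centralizer_eq_zpowers h2 z t₀ hz ht₀ hno
  let f : Multiplicative F →* Matrix.ProjectiveSpecialLinearGroup (Fin 2) F :=
    (QuotientGroup.mk' (Subgroup.center (Matrix.SpecialLinearGroup (Fin 2) F))).comp uHom
  have hfinj : Function.Injective f := mk_injective.comp uHom_injective
  refine ⟨Subgroup.zpowers (QuotientGroup.mk (slCompanion t₀)), f.range, inferInstance, ?_,
    inferInstance, ?_, ?_, ?_⟩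
  · rw [Nat.card_zpowers, hord]
  · rintro _ ⟨b, rfl⟩
    rw [← map_mul]
    have : b * b = 1 := by
      apply Multiplicative.toAdd.injective
      simp only [toAdd_mul, toAdd_one]
      exact CharTwo.add_self_eq_zero _
    rw [this, map_one]
  · rw [← Nat.card_congr (MonoidHom.ofInjective hfinj).toEquiv, Nat.card_eq_fintype_card,
      Fintype.card_multiplicative]
  · intro g
    obtain ⟨X, rfl⟩ := QuotientGroup.mk_surjective g
    have hdet : (X : Matrix (Fin 2) (Fin 2) F) 0 0 * (X : Matrix (Fin 2) (Fin 2) F) 1 1 -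
        (X : Matrix (Fin 2) (Fin 2) F) 0 1 * (X : Matrix (Fin 2) (Fin 2) F) 1 0 = 1 := by
      have := X.2
      rwa [Matrix.det_fin_two] at this
    obtain ⟨x, y, h1, h2'⟩ := exists_norm_one t₀ hno _ _ _ _ hdet
    set Av := aSL t₀ x y h1 with hAv
    set Aw := aSL t₀ _ _ h2' with hAw
    obtain ⟨b, hb⟩ := exists_eq_mul_unitriangular (X * Av) Aw
      (by rw [hAv, hAw, mul_aSL_col0, aSL_col0])
      (by rw [hAv, hAw, mul_aSL_col1, aSL_col1])
    have hXA : X * Av = Aw * uHom (Multiplicative.ofAdd b) := by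
      apply Subtype.ext
      rw [hb]
      rfl
    have hX : X = Aw * uHom (Multiplicative.ofAdd b) * Av⁻¹ := by
      rw [← hXA]; group
    refine ⟨QuotientGroup.mk Aw, aSL_mem_zpowers t₀ hcent _ _ h2',
      f (Multiplicative.ofAdd b), ⟨_, rfl⟩,
      QuotientGroup.mk Av⁻¹, ?_, ?_⟩
    · have := aSL_mem_zpowers t₀ hcent x y h1
      have h3 := Subgroup.inv_mem _ this
      exact h3
    · conv_lhs => rw [hX]
      rfl

end Cfsg.Agent.S2503
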