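import Mathlib
import Cfsg.Statements.S2504
import Cfsg.Agent.Lib.Helper48.AbelPermAlt

set_option autoImplicit false
open Cfsg

namespace Cfsg.Agent.S2504

open Cfsg.Agent.Lib.Helper48

theorem isGreatest_of {n c : ℕ} (h1 : HasAbel True n c) (h2 : maxProdAlt n ≤ c) (h3 : maxProd n ≤ 2 * c) :
    IsGreatest {c : ℕ | ∃ A : Subgroup (alternatingGroup (Fin n)), IsMulCommutative A ∧ Nat.card A = c} c := by
  constructor
  · obtain ⟨A, hA, halt, hc⟩ := h1
    refine ⟨A.subgroupOf (alternatingGroup (Fin n)), inferInstance, ?_⟩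
    rw [Nat.card_congr (Subgroup.subgroupOfEquivOfLe (halt trivial)).toEquiv, hc]
  · rintro d ⟨B, hB, rfl⟩
    have hcard : Nat.card (B.map (alternatingGroup (Fin n)).subtype) = Nat.card B :=
      Subgroup.card_map_of_injective (Subgroup.subtype_injective _)
    have hle : B.map (alternatingGroup (Fin n)).subtype ≤ alternatingGroup (Fin n) :=
      Subgroup.map_subtype_le B
    rcases card_le_of_alt (B.map (alternatingGroup (Fin n)).subtype) inferInstance hle with h | h
    · rw [hcard] at h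
      exact h.trans h2
    · rw [hcard] at h
      omega

/-- The largest order of an abelian subgroup of the alternating group of degree n is 3^k when n = 3k, 4·3^(k−1) when n = 3k + 1, and 16·3^(k−2) when n = 3k + 2, for every k ≥ 2 (so for all degrees n ≥ 6). -/
theorem result (k : ℕ) (hk : 2 ≤ k) :
    IsGreatest {c : ℕ | ∃ A : Subgroup (alternatingGroup (Fin (3 * k))), IsMulCommutative A ∧ Nat.card A = c} (3 ^ k) ∧
    IsGreatest {c : ℕ | ∃ A : Subgroup (alternatingGroup (Fin (3 * k + 1))), IsMulCommutative A ∧ Nat.card A = c}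
      (4 * 3 ^ (k - 1)) ∧
    IsGreatest {c : ℕ | ∃ A : Subgroup (alternatingGroup (Fin (3 * k + 2))), IsMulCommutative A ∧ Nat.card A = c}
      (16 * 3 ^ (k - 2)) := by
  obtain ⟨j, rfl⟩ : ∃ j, k = j + 2 := ⟨k - 2, by omega⟩
  obtain ⟨a1, a2, a3⟩ := maxProdAlt_closed j
  obtain ⟨c1, c2, -⟩ := maxProd_closed (j + 1)
  obtain ⟨-, -, c3⟩ := maxProd_closed (j + 2)
  have e1 : 3 * (j + 2) = 3 * j + 6 := by ring
  have e2 : 3 * (j + 2) + 1 = 3 * j + 7 := by ring
  have e3 : 3 * (j + 2) + 2 = 3 * j + 8 := by ring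
  have s1 : j + 2 - 1 = j + 1 := by omega
  have s2 : j + 2 - 2 = j := by omega
  refine ⟨isGreatest_of (hasAbel_three_mul True (j + 2)) ?_ ?_, isGreatest_of ?_ ?_ ?_,
    isGreatest_of ?_ ?_ ?_⟩
  · rw [e1, a1]
  · rw [e1, show 3 * j + 6 = 3 * (j + 1) + 3 by ring, c1]
    exact Nat.le_mul_of_pos_left _ (by norm_num)
  · have := (hasAbel_three_mul True (j + 1)).add hasAbel_four
    rw [s1, mul_comm 4]
    exact this.cast (by ring)
  · rw [e2, a2, s1]
  · rw [e2, show 3 * j + 7 = 3 * (j + 1) + 4 by ring, c2, s1]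
    exact Nat.le_mul_of_pos_left _ (by norm_num)
  · have := (hasAbel_three_mul True j).add (hasAbel_four.add hasAbel_four)
    rw [s2, mul_comm 16]
    exact this.cast (by ring)
  · rw [e3, a3, s2]
  · rw [c3, s2]
    have h9 : 3 ^ (j + 2) = 9 * 3 ^ j := by ring
    rw [h9]
    have hp : 0 < 3 ^ j := by positivity
    omega

end Cfsg.Agent.S2504
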