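import Mathlib
import Cfsg.Statements.S2505
import Cfsg.Agent.Lib.Helper48.AbelPerm

set_option autoImplicit false
open Cfsg

namespace Cfsg.Agent.S2505

open Cfsg.Agent.Lib.Helper48

theorem isGreatest_of {n c : ℕ} (h1 : HasAbel False n c) (h2 : maxProd n = c) :
    IsGreatest {c : ℕ | ∃ A : Subgroup (Equiv.Perm (Fin n)), IsMulCommutative A ∧ Nat.card A = c} c := by
  constructor
  · obtain ⟨A, hA, -, hc⟩ := h1
    exact ⟨A, hA, hc⟩
  · rintro d ⟨A, hA, rfl⟩
    rw [← h2]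
    exact card_le_maxProd A hA

/-- The largest order of an abelian subgroup of the symmetric group of degree n is 3^k when n = 3k, 4·3^(k−1) when n = 3k + 1, and 2·3^k when n = 3k + 2, for every k ≥ 1. -/
theorem result (k : ℕ) (hk : 1 ≤ k) :
    IsGreatest {c : ℕ | ∃ A : Subgroup (Equiv.Perm (Fin (3 * k))), IsMulCommutative A ∧ Nat.card A = c} (3 ^ k) ∧
    IsGreatest {c : ℕ | ∃ A : Subgroup (Equiv.Perm (Fin (3 * k + 1))), IsMulCommutative A ∧ Nat.card A = c}
      (4 * 3 ^ (k - 1)) ∧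
    IsGreatest {c : ℕ | ∃ A : Subgroup (Equiv.Perm (Fin (3 * k + 2))), IsMulCommutative A ∧ Nat.card A = c}
      (2 * 3 ^ k) := by
  obtain ⟨j, rfl⟩ : ∃ j, k = j + 1 := ⟨k - 1, by omega⟩
  obtain ⟨c1, c2, -⟩ := maxProd_closed j
  obtain ⟨-, -, c3⟩ := maxProd_closed (j + 1)
  refine ⟨isGreatest_of (hasAbel_three_mul False (j + 1)) ?_, isGreatest_of ?_ ?_, isGreatest_of ?_ c3⟩
  · rw [show 3 * (j + 1) = 3 * j + 3 by ring, c1]
  · have := (hasAbel_three_mul False j).add (hasAbel_cyclic 4 (by norm_num))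
    rw [Nat.add_sub_cancel, mul_comm 4]
    exact this.cast (by ring)
  · rw [show 3 * (j + 1) + 1 = 3 * j + 4 by ring, c2, Nat.add_sub_cancel]
  · have := (hasAbel_three_mul False (j + 1)).add (hasAbel_cyclic 2 (by norm_num))
    rw [mul_comm 2]
    exact this

end Cfsg.Agent.S2505
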