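import Mathlib
import Cfsg.Statements.S2506
import Cfsg.Agent.Lib.Helper48.AbelPermConj

set_option autoImplicit false
open scoped Pointwise
open Cfsg

namespace Cfsg.Agent.S2506

open Cfsg.Agent.Lib.Helper48 Equiv

/-- the image in `S_n` of a subgroup of `A_n` -/
noncomputable abbrev img {n : ℕ} (A : Subgroup (alternatingGroup (Fin n))) : Subgroup (Perm (Fin n)) :=
  A.map (alternatingGroup (Fin n)).subtype

theorem card_img {n : ℕ} (A : Subgroup (alternatingGroup (Fin n))) : Nat.card (img A) = Nat.card A :=
  Subgroup.card_map_of_injective (Subgroup.subtype_injective _)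

theorem mem_img {n : ℕ} (A : Subgroup (alternatingGroup (Fin n))) (x : alternatingGroup (Fin n)) :
    (x : Perm (Fin n)) ∈ img A ↔ x ∈ A :=
  Subgroup.mem_map_iff_mem (Subgroup.subtype_injective _)

/-- an abelian subgroup of `A_n` of a given order exists once one exists in `S_n` inside `A_n` -/
theorem exists_of_hasAbel {n c : ℕ} (h : HasAbel True n c) :
    ∃ C : Subgroup (alternatingGroup (Fin n)), IsMulCommutative C ∧ Nat.card C = c := by
  obtain ⟨A, hA, halt, hc⟩ := h
  refine ⟨A.subgroupOf (alternatingGroup (Fin n)), inferInstance, ?_⟩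
  rw [Nat.card_congr (Subgroup.subgroupOfEquivOfLe (halt trivial)).toEquiv, hc]

/-- the order of a largest abelian subgroup -/
theorem card_eq {n : ℕ} (hn : 3 ≤ n) (A : Subgroup (alternatingGroup (Fin n))) (hA : IsMulCommutative A)
    (hAmax : ∀ C : Subgroup (alternatingGroup (Fin n)), IsMulCommutative C → Nat.card C ≤ Nat.card A)
    {c : ℕ} (hc : HasAbel True n c) (h1 : maxProdAlt n ≤ c) (h2 : maxProd n < 2 * c) : Nat.card A = c := by
  apply le_antisymm
  · have hle : img A ≤ alternatingGroup (Fin n) := Subgroup.map_subtype_le A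
    rcases card_le_of_alt (img A) inferInstance hle with h | h
    · rw [card_img] at h; omega
    · rw [card_img] at h; omega
  · obtain ⟨C, hC, hCc⟩ := exists_of_hasAbel hc
    rw [← hCc]
    exact hAmax C hC

theorem general {n : ℕ} (hn : 3 ≤ n) (hn5 : n ≠ 5)
    (A B : Subgroup (alternatingGroup (Fin n))) (hA : IsMulCommutative A) (hB : IsMulCommutative B)
    (hAmax : ∀ C : Subgroup (alternatingGroup (Fin n)), IsMulCommutative C → Nat.card C ≤ Nat.card A)
    (hBmax : ∀ C : Subgroup (alternatingGroup (Fin n)), IsMulCommutative C → Nat.card C ≤ Nat.card B) :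
    ∃ g : alternatingGroup (Fin n), B = MulAut.conj g • A := by
  have hex := hasAbel_maxProdAlt n hn hn5
  have hlt := maxProd_lt_two_mul_maxProdAlt n hn
  have cA := card_eq hn A hA hAmax hex le_rfl hlt
  have cB := card_eq hn B hB hBmax hex le_rfl hlt
  have mA : IsMaxAbel (img A) := ⟨inferInstance, Subgroup.map_subtype_le A, by rw [card_img, cA]⟩
  have mB : IsMaxAbel (img B) := ⟨inferInstance, Subgroup.map_subtype_le B, by rw [card_img, cB]⟩
  obtain ⟨g, hg, hconj⟩ := mA.conj mB hn hn5
  refine ⟨⟨g, hg⟩, ?_⟩
  ext τ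
  rw [Subgroup.mem_pointwise_smul_iff_inv_smul_mem, ← mem_img B τ, ← mem_img A]
  have e : (((MulAut.conj (⟨g, hg⟩ : alternatingGroup (Fin n)))⁻¹ • τ : alternatingGroup (Fin n)) : Perm (Fin n)) =
      g⁻¹ * (τ : Perm (Fin n)) * g := by
    simp [MulAut.smul_def, MulAut.conj_inv_apply]
  rw [e, hconj]
  have e2 : g * (g⁻¹ * (τ : Perm (Fin n)) * g) * g⁻¹ = τ := by group
  rw [e2]

theorem card_alt_five : Nat.card (alternatingGroup (Fin 5)) = 60 := by
  rw [nat_card_alternatingGroup]; simp; decide

theorem factorization_sixty : (60 : ℕ).factorization 5 = 1 := by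
  have : (60 : ℕ) = 5 ^ 1 * 12 := by norm_num
  rw [this, Nat.factorization_mul (by norm_num) (by norm_num), Finsupp.add_apply,
    Nat.Prime.factorization_pow (by norm_num), Nat.factorization_eq_zero_of_not_dvd (by norm_num)]
  simp

theorem five
    (A B : Subgroup (alternatingGroup (Fin 5))) (hA : IsMulCommutative A) (hB : IsMulCommutative B)
    (hAmax : ∀ C : Subgroup (alternatingGroup (Fin 5)), IsMulCommutative C → Nat.card C ≤ Nat.card A)
    (hBmax : ∀ C : Subgroup (alternatingGroup (Fin 5)), IsMulCommutative C → Nat.card C ≤ Nat.card B) :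
    ∃ g : alternatingGroup (Fin 5), B = MulAut.conj g • A := by
  have h1 : maxProdAlt 5 ≤ 5 := by decide
  have h2 : maxProd 5 < 2 * 5 := by decide
  have cA := card_eq (by norm_num) A hA hAmax hasAbel_five h1 h2
  have cB := card_eq (by norm_num) B hB hBmax hasAbel_five h1 h2
  have : Fact (Nat.Prime 5) := ⟨by norm_num⟩
  have eA : Nat.card A = 5 ^ (Nat.card (alternatingGroup (Fin 5))).factorization 5 := by
    rw [card_alt_five, factorization_sixty, cA]; norm_num
  have eB : Nat.card B = 5 ^ (Nat.card (alternatingGroup (Fin 5))).factorization 5 := by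
    rw [card_alt_five, factorization_sixty, cB]; norm_num
  obtain ⟨g, hg⟩ := MulAction.exists_smul_eq (alternatingGroup (Fin 5)) (Sylow.ofCard A eA) (Sylow.ofCard B eB)
  refine ⟨g, ?_⟩
  have := congrArg (fun P : Sylow 5 (alternatingGroup (Fin 5)) => (P : Subgroup (alternatingGroup (Fin 5)))) hg
  simp only [Sylow.coe_subgroup_smul, Sylow.coe_ofCard] at this
  exact this.symm

/-- In the alternating group of any degree, any two abelian subgroups of the largest possible order (among abelian subgroups) are conjugate. -/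
theorem result (n : ℕ)
    (A B : Subgroup (alternatingGroup (Fin n))) (hA : IsMulCommutative A) (hB : IsMulCommutative B)
    (hAmax : ∀ C : Subgroup (alternatingGroup (Fin n)), IsMulCommutative C → Nat.card C ≤ Nat.card A)
    (hBmax : ∀ C : Subgroup (alternatingGroup (Fin n)), IsMulCommutative C → Nat.card C ≤ Nat.card B) :
    ∃ g : alternatingGroup (Fin n), B = MulAut.conj g • A := by
  rcases Nat.lt_or_ge n 3 with h | h
  · -- the group is trivial
    have hsub : Subsingleton (alternatingGroup (Fin n)) := by
      interval_cases n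
      · infer_instance
      · infer_instance
      · have h2 : 2 * Nat.card (alternatingGroup (Fin 2)) = Nat.card (Perm (Fin 2)) :=
          two_mul_nat_card_alternatingGroup
        have h3 : Nat.card (Perm (Fin 2)) = 2 := by
          rw [Nat.card_eq_fintype_card, Fintype.card_perm]; rfl
        have : Nat.card (alternatingGroup (Fin 2)) = 1 := by omega
        exact (Nat.card_eq_one_iff_unique.mp this).1
    refine ⟨1, ?_⟩
    rw [Subgroup.eq_bot_of_subsingleton A, Subgroup.eq_bot_of_subsingleton B]
    simp
  · by_cases h5 : n = 5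
    · subst h5
      exact five A B hA hB hAmax hBmax
    · exact general h h5 A B hA hB hAmax hBmax

end Cfsg.Agent.S2506
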