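import Mathlib
import Cfsg.Statements.S2508
import Cfsg.Agent.Lib.Helper48.PSL2ClassOdd
import Cfsg.Agent.Lib.Helper48.PSL2Torus

set_option autoImplicit false
open Cfsg

namespace Cfsg.Agent.S2508

open Matrix Cfsg.Agent.Lib.Helper48 Cfsg.Agent.Lib.Helper45

section

variable {F : Type*} [Field F] [Fintype F]

theorem four_ne_zero_of_two_ne_zero (h2 : (2 : F) ≠ 0) : (4 : F) ≠ 0 := by
  intro h
  have : (2 : F) * 2 = 0 := by linear_combination h
  exact h2 ((mul_eq_zero.mp this).elim id id)

/-- classification of the class sizes -/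
theorem clsz_cases (hodd : Fintype.card F % 2 = 1) (A : Matrix.SpecialLinearGroup (Fin 2) F) :
    clsz A = 1 ∨ 2 * clsz A = Fintype.card F ^ 2 - 1 ∨
      2 * clsz A = Fintype.card F * (Fintype.card F - 1) + Fintype.card F * rootCount (0 : F) ∨
      clsz A = Fintype.card F * (Fintype.card F - 1) ∨
      clsz A = Fintype.card F * (Fintype.card F - 1) + Fintype.card F * 2 := by
  have h2 : (2 : F) ≠ 0 := two_ne_zero_of_odd_card hodd
  by_cases hc : A = 1 ∨ A = slNegOne
  · left
    exact index_centralizer_mk_central A hc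
  · push Not at hc
    by_cases ht4 : ((A : Matrix (Fin 2) (Fin 2) F).trace) ^ 2 = 4
    · right; left
      have : (A : Matrix (Fin 2) (Fin 2) F).trace = 2 ∨ (A : Matrix (Fin 2) (Fin 2) F).trace = -2 := by
        have hfac : ((A : Matrix (Fin 2) (Fin 2) F).trace - 2) * ((A : Matrix (Fin 2) (Fin 2) F).trace + 2) = 0 := by
          linear_combination ht4
        rcases mul_eq_zero.mp hfac with h | h
        · left; exact sub_eq_zero.mp h
        · right; exact eq_neg_of_add_eq_zero_left h
      exact index_centralizer_mk_unip hodd A this hc.1 hc.2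
    · by_cases ht0 : (A : Matrix (Fin 2) (Fin 2) F).trace = 0
      · right; right; left
        exact index_centralizer_mk_trace_zero hodd A ht0
      · have := index_centralizer_mk_generic hodd A ht4 ht0
        rcases rootCount_eq_zero_or_two _ ht4 with hr | hr
        · right; right; right; left
          rw [this, hr]; simp
        · right; right; right; right
          rw [this, hr]

theorem rootCount_zero_of_mod_four_eq_one (hodd : Fintype.card F % 2 = 1) (h : Fintype.card F % 4 = 1) :
    rootCount (0 : F) = 2 := by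
  have h2 : (2 : F) ≠ 0 := two_ne_zero_of_odd_card hodd
  have h4 : (0 : F) ^ 2 ≠ 4 := by
    rw [zero_pow (by norm_num)]
    exact (four_ne_zero_of_two_ne_zero h2).symm
  rcases rootCount_eq_zero_or_two (0 : F) h4 with hr | hr
  · exfalso
    have hsq : IsSquare (-1 : F) := FiniteField.isSquare_neg_one_iff.mpr (by omega)
    obtain ⟨a, ha⟩ := hsq
    have : rootCount (0 : F) ≠ 0 := (rootCount_ne_zero_iff 0).mpr ⟨a, by linear_combination ha⟩
    exact this hr
  · exact hr

theorem rootCount_zero_of_mod_four_eq_three (h : Fintype.card F % 4 = 3) :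
    rootCount (0 : F) = 0 := by
  by_contra hne
  obtain ⟨a, ha⟩ := (rootCount_ne_zero_iff 0).mp hne
  have hsq : IsSquare (-1 : F) := ⟨a, by linear_combination ha⟩
  have := FiniteField.isSquare_neg_one_iff.mp hsq
  exact this h

/-- existence of the five kinds of elements -/
theorem exists_clsz (hodd : Fintype.card F % 2 = 1) (h7 : 7 ≤ Fintype.card F) :
    (∃ A : Matrix.SpecialLinearGroup (Fin 2) F, clsz A = 1) ∧
    (∃ A : Matrix.SpecialLinearGroup (Fin 2) F, 2 * clsz A = Fintype.card F ^ 2 - 1) ∧
    (∃ A : Matrix.SpecialLinearGroup (Fin 2) F,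
      2 * clsz A = Fintype.card F * (Fintype.card F - 1) + Fintype.card F * rootCount (0 : F)) ∧
    (∃ A : Matrix.SpecialLinearGroup (Fin 2) F, clsz A = Fintype.card F * (Fintype.card F - 1)) ∧
    (∃ A : Matrix.SpecialLinearGroup (Fin 2) F,
      clsz A = Fintype.card F * (Fintype.card F - 1) + Fintype.card F * 2) := by
  classical
  have h2 : (2 : F) ≠ 0 := two_ne_zero_of_odd_card hodd
  have h4 : (4 : F) ≠ 0 := four_ne_zero_of_two_ne_zero h2
  refine ⟨⟨1, index_centralizer_mk_central 1 (Or.inl rfl)⟩, ?_, ?_, ?_, ?_⟩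
  · refine ⟨slT 1, index_centralizer_mk_unip hodd (slT 1) (Or.inl ?_) (slT_ne_one one_ne_zero) ?_⟩
    · simp [Matrix.trace_fin_two]; norm_num
    · intro h
      have := congrArg (fun X : Matrix.SpecialLinearGroup (Fin 2) F => (X : Matrix (Fin 2) (Fin 2) F) 0 1) h
      simp [slNegOne_coe] at this
  · exact ⟨slCompanion 0, index_centralizer_mk_trace_zero hodd _ (slCompanion_trace 0)⟩
  · -- non-split
    obtain ⟨p, hp⟩ := CharP.exists F
    have : Fact p.Prime := ⟨CharP.char_is_prime F p⟩
    obtain ⟨z, t₀, hz, ht₀, hno⟩ := exists_nonsplit_trace (F := F) p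
    refine ⟨slCompanion t₀, ?_⟩
    have hr : rootCount t₀ = 0 := by
      by_contra hne
      obtain ⟨a, ha⟩ := (rootCount_ne_zero_iff t₀).mp hne
      exact hno a ha
    have ht4 : ((slCompanion t₀ : Matrix.SpecialLinearGroup (Fin 2) F) : Matrix (Fin 2) (Fin 2) F).trace ^ 2 ≠ 4 := by
      rw [slCompanion_trace]
      intro h
      apply hno (t₀ / 2)
      field_simp
      linear_combination h
    have ht0 : ((slCompanion t₀ : Matrix.SpecialLinearGroup (Fin 2) F) : Matrix (Fin 2) (Fin 2) F).trace ≠ 0 := by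
      rw [slCompanion_trace]
      rintro rfl
      -- then z^4 = 1
      rw [map_zero] at ht₀
      have hzne : (z : FiniteField.Extension F p 2) ≠ 0 := z.ne_zero
      have hz2 : (z : FiniteField.Extension F p 2) ^ 2 = -1 := by
        have : (z : FiniteField.Extension F p 2) * ((z : FiniteField.Extension F p 2) + (z : FiniteField.Extension F p 2)⁻¹) = 0 := by
          rw [← ht₀, mul_zero]
        rw [mul_add, mul_inv_cancel₀ hzne] at this
        linear_combination this
      have hz4 : z ^ 4 = 1 := by
        apply Units.ext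
        rw [Units.val_pow_eq_pow_val, Units.val_one]
        have : (z : FiniteField.Extension F p 2) ^ 4 = ((z : FiniteField.Extension F p 2) ^ 2) ^ 2 := by ring
        rw [this, hz2]; ring
      have := orderOf_dvd_of_pow_eq_one hz4
      rw [hz] at this
      have := Nat.le_of_dvd (by norm_num) this
      omega
    rw [index_centralizer_mk_generic hodd _ ht4 ht0, slCompanion_trace, hr]
    simp
  · -- split
    obtain ⟨ζ, hζ⟩ := IsCyclic.exists_ofOrder_eq_natCard (α := Fˣ)
    rw [Nat.card_units, Nat.card_eq_fintype_card] at hζ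
    have hζne : (ζ : F) ≠ 0 := ζ.ne_zero
    have hpow : ∀ k : ℕ, (ζ : F) ^ k = 1 → (Fintype.card F - 1) ∣ k := by
      intro k hk
      rw [← hζ, orderOf_dvd_iff_pow_eq_one]
      apply Units.ext
      rw [Units.val_pow_eq_pow_val, hk, Units.val_one]
    have hζ4 : (ζ : F) ^ 4 ≠ 1 := by
      intro h
      have := Nat.le_of_dvd (by norm_num) (hpow 4 h)
      omega
    set t : F := (ζ : F) + (ζ : F)⁻¹ with ht
    refine ⟨slCompanion t, ?_⟩
    have hroot : (ζ : F) * (t - (ζ : F)) = 1 := by
      rw [ht]
      have : (ζ : F) * ((ζ : F) + (ζ : F)⁻¹ - (ζ : F)) = (ζ : F) * (ζ : F)⁻¹ := by ring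
      rw [this, mul_inv_cancel₀ hζne]
    have hζt : (ζ : F) * t = (ζ : F) ^ 2 + 1 := by
      rw [ht, mul_add, mul_inv_cancel₀ hζne]; ring
    have ht4 : ((slCompanion t : Matrix.SpecialLinearGroup (Fin 2) F) : Matrix (Fin 2) (Fin 2) F).trace ^ 2 ≠ 4 := by
      rw [slCompanion_trace]
      intro h
      apply hζ4
      -- (ζ t)^2 = 4 ζ^2 → (ζ^2 - 1)^2 = 0
      have h1 : ((ζ : F) ^ 2 - 1) ^ 2 = 0 := by
        have : ((ζ : F) * t) ^ 2 = 4 * (ζ : F) ^ 2 := by rw [mul_pow, h]; ring
        rw [hζt] at this
        linear_combination this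
      have h2' : (ζ : F) ^ 2 = 1 := by
        have := pow_eq_zero_iff (two_ne_zero) |>.mp h1
        linear_combination this
      have : (ζ : F) ^ 4 = ((ζ : F) ^ 2) ^ 2 := by ring
      rw [this, h2']; ring
    have ht0 : ((slCompanion t : Matrix.SpecialLinearGroup (Fin 2) F) : Matrix (Fin 2) (Fin 2) F).trace ≠ 0 := by
      rw [slCompanion_trace]
      intro h
      apply hζ4
      rw [h, mul_zero] at hζt
      have h2' : (ζ : F) ^ 2 = -1 := by linear_combination -hζt
      have : (ζ : F) ^ 4 = ((ζ : F) ^ 2) ^ 2 := by ring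
      rw [this, h2']; ring
    have hr : rootCount t = 2 := by
      rcases rootCount_eq_zero_or_two t (by rw [slCompanion_trace] at ht4; exact ht4) with hr | hr
      · exact absurd hr ((rootCount_ne_zero_iff t).mpr ⟨ζ, hroot⟩)
      · exact hr
    rw [index_centralizer_mk_generic hodd _ ht4 ht0, slCompanion_trace, hr]

/-- arithmetic on naturals used below -/
theorem arith_aux (q : ℕ) (hq : q % 2 = 1) :
    2 * ((q ^ 2 - 1) / 2) = q ^ 2 - 1 ∧ 2 * (q * (q + 1) / 2) = q * (q + 1) ∧
      2 * (q * (q - 1) / 2) = q * (q - 1) ∧ q * (q - 1) + q * 2 = q * (q + 1) := by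
  obtain ⟨m, rfl⟩ : ∃ m, q = 2 * m + 1 := ⟨q / 2, by omega⟩
  have e1 : (2 * m + 1) ^ 2 - 1 = 2 * (2 * m * m + 2 * m) := by
    have : (2 * m + 1) ^ 2 = 2 * (2 * m * m + 2 * m) + 1 := by ring
    omega
  have e2 : (2 * m + 1) * (2 * m + 1 + 1) = 2 * ((2 * m + 1) * (m + 1)) := by ring
  have e3 : (2 * m + 1) * (2 * m + 1 - 1) = 2 * ((2 * m + 1) * m) := by
    have : 2 * m + 1 - 1 = 2 * m := by omega
    rw [this]; ring
  refine ⟨?_, ?_, ?_, ?_⟩
  · rw [e1, Nat.mul_div_cancel_left _ (by norm_num : 0 < 2)]
  · rw [e2, Nat.mul_div_cancel_left _ (by norm_num : 0 < 2)]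
  · rw [e3, Nat.mul_div_cancel_left _ (by norm_num : 0 < 2)]
  · have : 2 * m + 1 - 1 = 2 * m := by omega
    rw [this]; ring

end

/-- Let F be a finite field with q elements, q odd and q ≥ 7. If q ≡ 1 (mod 4) the conjugacy class sizes of PSL(2,F) are exactly 1, (q² − 1)/2, q(q + 1)/2, q(q − 1) and q(q + 1); if q ≡ 3 (mod 4) they are exactly 1, (q² − 1)/2, q(q − 1)/2, q(q + 1) and q(q − 1). -/
theorem result {F : Type*} [Field F] [Fintype F]
    (hodd : ¬ 2 ∣ Fintype.card F) (h7 : 7 ≤ Fintype.card F) :
    (Fintype.card F % 4 = 1 →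
      Set.range (fun g : (Matrix.ProjectiveSpecialLinearGroup (Fin 2) F) => (Subgroup.centralizer ({g} : Set (Matrix.ProjectiveSpecialLinearGroup (Fin 2) F))).index) =
        {1, (Fintype.card F ^ 2 - 1) / 2, Fintype.card F * (Fintype.card F + 1) / 2,
          Fintype.card F * (Fintype.card F - 1), Fintype.card F * (Fintype.card F + 1)}) ∧
    (Fintype.card F % 4 = 3 →
      Set.range (fun g : (Matrix.ProjectiveSpecialLinearGroup (Fin 2) F) => (Subgroup.centralizer ({g} : Set (Matrix.ProjectiveSpecialLinearGroup (Fin 2) F))).index) =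
        {1, (Fintype.card F ^ 2 - 1) / 2, Fintype.card F * (Fintype.card F - 1) / 2,
          Fintype.card F * (Fintype.card F + 1), Fintype.card F * (Fintype.card F - 1)}) := by
  have hodd' : Fintype.card F % 2 = 1 := by omega
  obtain ⟨a1, a2, a3, a4⟩ := arith_aux (Fintype.card F) hodd'
  obtain ⟨⟨A1, hA1⟩, ⟨A2, hA2⟩, ⟨A3, hA3⟩, ⟨A4, hA4⟩, ⟨A5, hA5⟩⟩ := exists_clsz (F := F) hodd' h7
  constructor
  · intro h4
    have hr := rootCount_zero_of_mod_four_eq_one (F := F) hodd' h4
    rw [hr] at hA3
    ext n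
    simp only [Set.mem_range, Set.mem_insert_iff, Set.mem_singleton_iff]
    constructor
    · rintro ⟨g, rfl⟩
      obtain ⟨A, rfl⟩ := QuotientGroup.mk_surjective g
      change clsz A = 1 ∨ clsz A = _ ∨ clsz A = _ ∨ clsz A = _ ∨ clsz A = _
      have := clsz_cases hodd' A
      rw [hr] at this
      rcases this with h | h | h | h | h
      · left; exact h
      · right; left; omega
      · right; right; left; omega
      · right; right; right; left; exact h
      · right; right; right; right; omega
    · rintro (h | h | h | h | h)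
      · exact ⟨QuotientGroup.mk A1, h ▸ hA1⟩
      · refine ⟨QuotientGroup.mk A2, ?_⟩
        change clsz A2 = n
        omega
      · refine ⟨QuotientGroup.mk A3, ?_⟩
        change clsz A3 = n
        omega
      · refine ⟨QuotientGroup.mk A4, ?_⟩
        change clsz A4 = n
        omega
      · refine ⟨QuotientGroup.mk A5, ?_⟩
        change clsz A5 = n
        omega
  · intro h4
    have hr := rootCount_zero_of_mod_four_eq_three (F := F) h4
    rw [hr] at hA3
    ext n
    simp only [Set.mem_range, Set.mem_insert_iff, Set.mem_singleton_iff]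
    constructor
    · rintro ⟨g, rfl⟩
      obtain ⟨A, rfl⟩ := QuotientGroup.mk_surjective g
      change clsz A = 1 ∨ clsz A = _ ∨ clsz A = _ ∨ clsz A = _ ∨ clsz A = _
      have := clsz_cases hodd' A
      rw [hr] at this
      rcases this with h | h | h | h | h
      · left; exact h
      · right; left; omega
      · right; right; left; omega
      · right; right; right; right; exact h
      · right; right; right; left; omega
    · rintro (h | h | h | h | h)
      · exact ⟨QuotientGroup.mk A1, h ▸ hA1⟩
      · refine ⟨QuotientGroup.mk A2, ?_⟩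
        change clsz A2 = n
        omega
      · refine ⟨QuotientGroup.mk A3, ?_⟩
        change clsz A3 = n
        omega
      · refine ⟨QuotientGroup.mk A5, ?_⟩
        change clsz A5 = n
        omega
      · refine ⟨QuotientGroup.mk A4, ?_⟩
        change clsz A4 = n
        omega

end Cfsg.Agent.S2508
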