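import Mathlib
import Cfsg.Statements.S2513
import Cfsg.Agent.S2468

set_option autoImplicit false
open Cfsg

namespace Cfsg.Agent.S2513

section free

/-- a finite group acting freely on a finite set: its order divides the size of the set -/
theorem card_dvd_of_free {H S : Type*} [Group H] [Finite H] [MulAction H S] [Finite S]
    (hfree : ∀ (h : H) (s : S), h • s = s → h = 1) : Nat.card H ∣ Nat.card S := by
  classical
  have : Fintype (Quotient (MulAction.orbitRel H S)) := Fintype.ofFinite _
  have hφ : Function.LeftInverse (Quotient.mk'' : S → Quotient (MulAction.orbitRel H S))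
      Quotient.out := Quotient.out_eq'
  have e := MulAction.selfEquivSigmaOrbitsQuotientStabilizer' H S hφ
  rw [Nat.card_congr e, Nat.card_sigma]
  apply Finset.dvd_sum
  intro ω _
  have hst : MulAction.stabilizer H (Quotient.out ω) = ⊥ := by
    rw [eq_bot_iff]
    intro h hh
    exact Subgroup.mem_bot.mpr (hfree h _ (MulAction.mem_stabilizer_iff.mp hh))
  rw [hst, ← Subgroup.index_eq_card, Subgroup.index_bot]

theorem card_dvd_of_free_on {H S : Type*} [Group H] [Finite H] [MulAction H S] [Finite S]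
    (T : SubMulAction H S) (hfree : ∀ (h : H) (s : S), s ∈ T → h • s = s → h = 1) :
    Nat.card H ∣ Nat.card T := by
  apply card_dvd_of_free
  intro h s hs
  apply hfree h s.1 s.2
  have := congrArg Subtype.val hs
  simpa using this

end free

section spectrum

variable {F V : Type*} [Field F] [AddCommGroup V] [Module F V] [Finite V]

/-- a linear automorphism of prime power order `r ^ e` prime to the characteristic:
`r ^ e` divides some `q ^ d - 1` with `d` at most the dimension -/
theorem prime_pow_dvd (X : V ≃ₗ[F] V) (r e : ℕ) (hr : r.Prime) (he : 1 ≤ e)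
    (hX : orderOf X = r ^ e) (hrq : Nat.Coprime (Nat.card F) r) :
    ∃ d, 1 ≤ d ∧ d ≤ Module.finrank F V ∧ r ^ e ∣ Nat.card F ^ d - 1 := by
  classical
  have : Finite (V ≃ₗ[F] V) :=
    Finite.of_injective (fun e : V ≃ₗ[F] V => (e : V → V)) DFunLike.coe_injective
  set Y : V ≃ₗ[F] V := X ^ (r ^ (e - 1)) with hY
  have hlt : r ^ (e - 1) < r ^ e := Nat.pow_lt_pow_right hr.one_lt (by omega)
  have hY1 : Y ≠ 1 := by
    intro h
    have h1 : r ^ e ∣ r ^ (e - 1) := by rw [← hX]; exact orderOf_dvd_of_pow_eq_one h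
    have h2 : r ^ e ≤ r ^ (e - 1) := Nat.le_of_dvd (pow_pos hr.pos _) h1
    omega
  have hH : Nat.card (Subgroup.zpowers X) = r ^ e := by rw [Nat.card_zpowers, hX]
  set W : Submodule F V := LinearMap.ker ((Y : V →ₗ[F] V) - 1) with hWdef
  have hW : ∀ v, v ∈ W ↔ Y v = v := by
    intro v
    rw [hWdef, LinearMap.mem_ker, LinearMap.sub_apply, sub_eq_zero]
    rfl
  have hcomm : ∀ h : Subgroup.zpowers X, ∀ v, Y ((h : V ≃ₗ[F] V) v) = (h : V ≃ₗ[F] V) (Y v) := by
    intro h v
    obtain ⟨j, hj⟩ := Subgroup.mem_zpowers_iff.mp h.2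
    have hc : Commute (h : V ≃ₗ[F] V) Y := by
      rw [← hj, hY]
      exact ((Commute.refl X).zpow_left j).pow_right _
    have := congrArg (fun Z : V ≃ₗ[F] V => Z v) hc.eq
    simp only [LinearEquiv.mul_apply] at this
    exact this.symm
  let T : SubMulAction (Subgroup.zpowers X) V :=
    { carrier := (W : Set V)ᶜ
      smul_mem' := by
        intro h v hv
        rw [Set.mem_compl_iff, SetLike.mem_coe, hW] at hv ⊢
        intro hcon
        apply hv
        have h1 : h • v = (h : V ≃ₗ[F] V) v := rfl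
        rw [h1, hcomm] at hcon
        exact (h : V ≃ₗ[F] V).injective hcon }
  have hfree : ∀ (h : Subgroup.zpowers X) (v : V), v ∈ T → h • v = v → h = 1 := by
    intro h v hv hfix
    by_contra hne
    have hv' : ¬ Y v = v := by
      have : v ∈ (W : Set V)ᶜ := hv
      rw [Set.mem_compl_iff, SetLike.mem_coe, hW] at this
      exact this
    apply hv'
    obtain ⟨j, hj⟩ := Subgroup.mem_zpowers_iff.mp h.2
    have hst : (h : V ≃ₗ[F] V) ∈ MulAction.stabilizer (V ≃ₗ[F] V) v := by
      rw [MulAction.mem_stabilizer_iff]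
      exact hfix
    -- the gcd
    have hgd : (Int.gcd j ((r ^ e : ℕ) : ℤ)) ∣ r ^ e := by
      have := Int.gcd_dvd_right j ((r ^ e : ℕ) : ℤ)
      exact Int.natCast_dvd_natCast.mp this
    obtain ⟨a, hae, hga⟩ := (Nat.dvd_prime_pow hr).mp hgd
    have hane : a ≠ e := by
      intro hae'
      apply hne
      have h1 : ((r ^ e : ℕ) : ℤ) ∣ j := by
        have := Int.gcd_dvd_left j ((r ^ e : ℕ) : ℤ)
        rw [hga, hae'] at this
        exact this
      have h2 : X ^ j = 1 := by
        rw [← orderOf_dvd_iff_zpow_eq_one, hX]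
        exact h1
      apply Subtype.ext
      rw [← hj, h2]
      rfl
    have hXg : X ^ (r ^ a) ∈ MulAction.stabilizer (V ≃ₗ[F] V) v := by
      have hb := Int.gcd_eq_gcd_ab j ((r ^ e : ℕ) : ℤ)
      have h1 : X ^ ((Int.gcd j ((r ^ e : ℕ) : ℤ) : ℕ) : ℤ) =
          (X ^ j) ^ (Int.gcdA j ((r ^ e : ℕ) : ℤ)) := by
        rw [hb, zpow_add, zpow_mul, zpow_mul, zpow_natCast X (r ^ e), ← hX, pow_orderOf_eq_one,
          one_zpow, mul_one]
      rw [hga, zpow_natCast] at h1
      rw [h1, hj]
      exact Subgroup.zpow_mem _ hst _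
    have hYst : Y ∈ MulAction.stabilizer (V ≃ₗ[F] V) v := by
      have h1 : Y = (X ^ (r ^ a)) ^ (r ^ (e - 1 - a)) := by
        rw [hY, ← pow_mul, ← pow_add]
        congr 2
        omega
      rw [h1]
      exact Subgroup.pow_mem _ hXg _
    exact MulAction.mem_stabilizer_iff.mp hYst
  have hdvd := card_dvd_of_free_on T hfree
  rw [hH] at hdvd
  -- count
  have hcT : Nat.card T = ((W : Set V)ᶜ).ncard := Nat.card_coe_set_eq _
  have hsum := Set.ncard_add_ncard_compl (W : Set V)
  have hcW : (W : Set V).ncard = Nat.card W := (Nat.card_coe_set_eq _).symm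
  rw [hcW, Module.natCard_eq_pow_finrank (K := F) (V := W),
    Module.natCard_eq_pow_finrank (K := F) (V := V)] at hsum
  have hWtop : W ≠ ⊤ := by
    intro htop
    apply hY1
    ext v
    have : v ∈ W := by rw [htop]; exact Submodule.mem_top
    exact (hW v).mp this
  have hwlt : Module.finrank F W < Module.finrank F V := Submodule.finrank_lt hWtop
  set n := Module.finrank F V with hn
  set w := Module.finrank F W with hw
  have e1 : Nat.card F ^ n = Nat.card F ^ w * Nat.card F ^ (n - w) := by
    rw [← pow_add]; congr 1; omega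
  have hcT2 : Nat.card T = Nat.card F ^ w * (Nat.card F ^ (n - w) - 1) := by
    rw [Nat.mul_sub, mul_one, ← e1, hcT]
    omega
  rw [hcT2] at hdvd
  refine ⟨n - w, by omega, by omega, ?_⟩
  have hcop : Nat.Coprime (r ^ e) (Nat.card F ^ w) :=
    Nat.Coprime.pow _ _ hrq.symm
  exact hcop.dvd_of_dvd_mul_left hdvd

end spectrum

section assembly

variable {F : Type*} [Field F] [Fintype F]

/-- an element of `SL_n(F)` of prime power order prime to the characteristic -/
theorem sl_prime_pow_dvd (n : ℕ) (x : Matrix.SpecialLinearGroup (Fin n) F) (r e : ℕ) (hr : r.Prime)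
    (he : 1 ≤ e) (hx : orderOf x = r ^ e) (hrq : Nat.Coprime (Fintype.card F) r) :
    ∃ d, 1 ≤ d ∧ d ≤ n ∧ r ^ e ∣ Fintype.card F ^ d - 1 := by
  have h1 : orderOf (Matrix.SpecialLinearGroup.toLin' x) = r ^ e := by
    rw [orderOf_injective _ Matrix.SpecialLinearGroup.toLin'_injective, hx]
  obtain ⟨d, hd1, hd2, hd3⟩ := prime_pow_dvd (Matrix.SpecialLinearGroup.toLin' x) r e hr he h1
    (by rw [Nat.card_eq_fintype_card]; exact hrq)
  refine ⟨d, hd1, ?_, ?_⟩
  · rw [Module.finrank_fin_fun] at hd2
    exact hd2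
  · rw [Nat.card_eq_fintype_card] at hd3
    exact hd3

/-- a component of prime power order -/
theorem exists_component {L : Type*} [Group L] [Finite L] {k : ℕ} (g : Fin k → L) (r e : ℕ)
    (hr : r.Prime) (h : r ^ e ∣ orderOf g) : ∃ x : L, orderOf x = r ^ e := by
  rcases Nat.eq_zero_or_pos e with rfl | he
  · exact ⟨1, by simp⟩
  have hN : orderOf g ≠ 0 := (orderOf_pos g).ne'
  set h' := g ^ (orderOf g / r ^ e) with hh'
  have ho : orderOf h' = r ^ e := orderOf_pow_orderOf_div hN h
  by_contra hcon
  push Not at hcon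
  have hall : ∀ i, (h' i) ^ (r ^ (e - 1)) = 1 := by
    intro i
    have h1 : orderOf (h' i) ∣ r ^ e := by
      rw [← ho]
      exact orderOf_map_dvd (Pi.evalMonoidHom (fun _ => L) i) h'
    obtain ⟨j, hj, hj2⟩ := (Nat.dvd_prime_pow hr).mp h1
    have hje : j ≠ e := fun hje => hcon (h' i) (by rw [hj2, hje])
    have h3 : orderOf (h' i) ∣ r ^ (e - 1) := by
      rw [hj2]; exact pow_dvd_pow r (by omega)
    exact orderOf_dvd_iff_pow_eq_one.mp h3
  have h2 : h' ^ (r ^ (e - 1)) = 1 := by
    funext i
    rw [Pi.pow_apply, hall i, Pi.one_apply]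
  have h3 : r ^ e ∣ r ^ (e - 1) := by rw [← ho]; exact orderOf_dvd_of_pow_eq_one h2
  have h4 := Nat.le_of_dvd (pow_pos hr.pos _) h3
  have h5 : r ^ (e - 1) < r ^ e := Nat.pow_lt_pow_right hr.one_lt (by omega)
  omega

/-- divisors of `2 ^ d - 1`, `d ≤ n`, are element orders of `PSL_n(2)` -/
theorem exists_order (hF : Fintype.card F = 2) (n d b : ℕ) (hd1 : 1 ≤ d) (hdn : d ≤ n)
    (hb : b ∣ 2 ^ d - 1) :
    ∃ y : Matrix.ProjectiveSpecialLinearGroup (Fin n) F, orderOf y = b := by
  have hF2 : (2 : F) = 0 := by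
    have := FiniteField.cast_card_eq_zero F
    rw [hF] at this
    exact_mod_cast this
  have : CharP F 2 := CharTwo.of_one_ne_zero_of_two_eq_zero one_ne_zero hF2
  have : Fact (Nat.Prime 2) := ⟨Nat.prime_two⟩
  obtain ⟨x, hx⟩ := Cfsg.Agent.S2468.exists_singer (F := F) 2 d hd1 b (by rw [hF]; exact hb)
    (by rw [hF]; exact Nat.coprime_one_right _)
  obtain ⟨y, hy⟩ := Cfsg.Agent.S2468.exists_orderOf_add (n - d) b x hx
  have key : ∀ m, m = n → (∃ y : Matrix.SpecialLinearGroup (Fin m) F, orderOf y = b) →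
      ∃ y : Matrix.SpecialLinearGroup (Fin n) F, orderOf y = b := by
    rintro m rfl h
    exact h
  obtain ⟨z, hz⟩ := key (d + (n - d)) (by omega) ⟨y, hy⟩
  exact ⟨QuotientGroup.mk z, Cfsg.Agent.S2468.orderOf_mk_eq (by omega) z b hz
    (by rw [hF]; exact Nat.coprime_one_right _)⟩

end assembly

/-- Let F be the field with two elements, n ≥ 2, L = PSL(n, F) and k₀ = ⌊(n + 3)/2⌋. Then for every k ≥ k₀ the direct product of k copies of L has the same set of element orders as the direct product of k₀ copies of L. -/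
theorem result {F : Type*} [Field F] [Fintype F] (hF : Fintype.card F = 2) (n k : ℕ) (hn : 2 ≤ n) (hk : (n + 3) / 2 ≤ k) :
    Set.range (orderOf : (Fin k → Matrix.ProjectiveSpecialLinearGroup (Fin n) F) → ℕ) = Set.range (orderOf : (Fin ((n + 3) / 2) → Matrix.ProjectiveSpecialLinearGroup (Fin n) F) → ℕ) := by
  classical
  have hn0 : 0 < n := by omega
  apply Set.eq_of_subset_of_subset
  · rintro N ⟨g, rfl⟩
    have hNpos : 0 < orderOf g := orderOf_pos g
    obtain ⟨x0, hx0⟩ := exists_component g 2 ((orderOf g).factorization 2) Nat.prime_two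
      (Nat.ordProj_dvd (orderOf g) 2)
    have hex : ∀ i : Fin ((n + 3) / 2), ∃ y : Matrix.ProjectiveSpecialLinearGroup (Fin n) F,
        orderOf y = if (i : ℕ) = 0 then 2 ^ ((orderOf g).factorization 2)
          else Nat.gcd (orderOf g) (2 ^ (n / 2 + (i : ℕ)) - 1) := by
      intro i
      by_cases hi : (i : ℕ) = 0
      · rw [if_pos hi]; exact ⟨x0, hx0⟩
      · rw [if_neg hi]
        have := i.2
        exact exists_order hF n (n / 2 + (i : ℕ)) _ (by omega) (by omega) (Nat.gcd_dvd_right _ _)
    choose f hf using hex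
    refine ⟨f, ?_⟩
    apply Nat.dvd_antisymm
    · apply orderOf_dvd_of_pow_eq_one
      funext i
      rw [Pi.pow_apply, Pi.one_apply]
      apply orderOf_dvd_iff_pow_eq_one.mp
      rw [hf i]
      split_ifs
      · exact Nat.ordProj_dvd _ 2
      · exact Nat.gcd_dvd_left _ _
    · rw [Nat.dvd_iff_prime_pow_dvd_dvd]
      intro r e hr hre
      rcases Nat.eq_zero_or_pos e with rfl | he
      · simp
      by_cases hr2 : r = 2
      · subst hr2
        have h0 : (0 : ℕ) < (n + 3) / 2 := by omega
        have h1 : orderOf (f ⟨0, h0⟩) ∣ orderOf f :=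
          orderOf_map_dvd (Pi.evalMonoidHom (fun _ => Matrix.ProjectiveSpecialLinearGroup (Fin n) F)
            (⟨0, h0⟩ : Fin ((n + 3) / 2))) f
        rw [hf, if_pos rfl] at h1
        refine dvd_trans (pow_dvd_pow 2 ?_) h1
        exact (Nat.Prime.pow_dvd_iff_le_factorization Nat.prime_two hNpos.ne').mp hre
      · obtain ⟨x, hx⟩ := exists_component g r e hr hre
        obtain ⟨x', rfl⟩ := QuotientGroup.mk_surjective x
        have hx' : orderOf x' = r ^ e := by
          have := Cfsg.Agent.S2468.orderOf_mk_eq hn0 x' (orderOf x') rfl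
            (by rw [hF]; exact Nat.coprime_one_right _)
          rw [← this]
          exact hx
        have hcop2 : Nat.Coprime (Fintype.card F) r := by
          rw [hF]
          exact (Nat.coprime_primes Nat.prime_two hr).mpr (Ne.symm hr2)
        obtain ⟨d', hd1, hdn, hdvd⟩ := sl_prime_pow_dvd n x' r e hr he hx' hcop2
        rw [hF] at hdvd
        have hcpos : 1 ≤ n / d' := Nat.div_pos hdn (by omega)
        have hd_le : d' * (n / d') ≤ n := Nat.mul_div_le n d'
        have hd_gt : n < d' * (n / d') + d' := by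
          have := Nat.lt_mul_div_succ n (show 0 < d' by omega)
          rw [Nat.mul_succ] at this
          exact this
        have hd_ge : d' ≤ d' * (n / d') := by
          calc d' = d' * 1 := (mul_one _).symm
            _ ≤ d' * (n / d') := Nat.mul_le_mul_left _ hcpos
        set D := d' * (n / d') with hD
        have hi : D - n / 2 < (n + 3) / 2 := by omega
        have h1 : orderOf (f ⟨D - n / 2, hi⟩) ∣ orderOf f :=
          orderOf_map_dvd (Pi.evalMonoidHom (fun _ => Matrix.ProjectiveSpecialLinearGroup (Fin n) F)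
            (⟨D - n / 2, hi⟩ : Fin ((n + 3) / 2))) f
        have hne0 : ¬ ((⟨D - n / 2, hi⟩ : Fin ((n + 3) / 2)) : ℕ) = 0 := by
          simp only
          omega
        rw [hf, if_neg hne0] at h1
        refine dvd_trans ?_ h1
        apply Nat.dvd_gcd hre
        have e1 : n / 2 + ((⟨D - n / 2, hi⟩ : Fin ((n + 3) / 2)) : ℕ) = D := by
          simp only
          omega
        rw [e1, hD, pow_mul]
        exact dvd_trans hdvd (Nat.sub_one_dvd_pow_sub_one _ _)
  · rintro N ⟨f, rfl⟩
    refine ⟨fun i => if h : (i : ℕ) < (n + 3) / 2 then f ⟨i, h⟩ else 1, ?_⟩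
    apply orderOf_eq_orderOf_iff.mpr
    intro m
    constructor
    · intro h
      funext j
      have := congrFun h ⟨j, lt_of_lt_of_le j.2 hk⟩
      simp only [Pi.pow_apply, Pi.one_apply] at this
      rw [dif_pos j.2] at this
      simpa using this
    · intro h
      funext i
      simp only [Pi.pow_apply, Pi.one_apply]
      by_cases hi : (i : ℕ) < (n + 3) / 2
      · rw [dif_pos hi]
        have := congrFun h ⟨i, hi⟩
        simpa using this
      · rw [dif_neg hi, one_pow]

end Cfsg.Agent.S2513
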