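import Cfsg.Statements.S2514

set_option autoImplicit false
open Cfsg

namespace Cfsg.Agent.S2514

section aux

variable {X : Type*} [Group X] [Finite X]

/-- element orders are closed under divisors -/
theorem spec_dvd_closed {n d : ℕ} (hn : n ∈ Set.range (orderOf : X → ℕ)) (hd : d ∣ n) :
    d ∈ Set.range (orderOf : X → ℕ) := by
  obtain ⟨x, rfl⟩ := hn
  exact ⟨x ^ (orderOf x / d), orderOf_pow_orderOf_div (orderOf_pos x).ne' hd⟩

/-- every element order divides a maximal one -/
theorem exists_max_order {n : ℕ} (hn : n ∈ Set.range (orderOf : X → ℕ)) :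
    ∃ M, (M ∈ Set.range (orderOf : X → ℕ) ∧ ∀ m ∈ Set.range (orderOf : X → ℕ), M ∣ m → m = M) ∧ n ∣ M := by
  classical
  have hfin : (Set.range (orderOf : X → ℕ)).Finite := Set.finite_range _
  let S : Finset ℕ := hfin.toFinset.filter (fun m => n ∣ m)
  have hS : S.Nonempty := ⟨n, by simp [S, hn]⟩
  obtain ⟨M, hM, hmax⟩ := Finset.exists_max_image S id hS
  have hM' : M ∈ Set.range (orderOf : X → ℕ) ∧ n ∣ M := by simpa [S] using hM
  refine ⟨M, ⟨hM'.1, ?_⟩, hM'.2⟩
  intro m hm hMm
  have hmS : m ∈ S := by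
    simp only [S, Finset.mem_filter, Set.Finite.mem_toFinset]
    exact ⟨hm, dvd_trans hM'.2 hMm⟩
  have h1 : m ≤ M := hmax m hmS
  obtain ⟨y, rfl⟩ := hm
  have h2 : M ≤ orderOf y := Nat.le_of_dvd (orderOf_pos y) hMm
  exact le_antisymm h1 h2

omit [Finite X] in
theorem pi_orderOf_dvd_iff {ι : Type*} [Fintype ι] (f : ι → X) (N : ℕ) :
    orderOf f ∣ N ↔ ∀ i, orderOf (f i) ∣ N := by
  rw [Pi.orderOf, Finset.lcm_dvd_iff]
  simp

theorem prod_orderOf_dvd_iff {Y Z : Type*} [Group Y] [Group Z] (y : Y) (z : Z) (N : ℕ) :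
    orderOf ((y, z) : Y × Z) ∣ N ↔ orderOf y ∣ N ∧ orderOf z ∣ N := by
  rw [Prod.orderOf_mk]
  exact Nat.lcm_dvd_iff

theorem eq_of_forall_dvd_iff {a b : ℕ} (h : ∀ N, a ∣ N ↔ b ∣ N) : a = b :=
  Nat.dvd_antisymm ((h b).mpr dvd_rfl) ((h a).mp dvd_rfl)

end aux

/-- For a finite group X write μ(X) for the set of element orders of X that are maximal under divisibility. Let G and H be finite groups and k ≥ 1 such that μ(H) ⊆ μ(G) and μ(G) has fewer than k elements outside μ(H). Then the direct product of k copies of G has the same set of element orders as the direct product of k − 1 copies of G with H. -/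
theorem result {G H : Type*} [Group G] [Finite G] [Group H] [Finite H] (k : ℕ) (hk : 1 ≤ k)
    (hsub : {n : ℕ | n ∈ Set.range (orderOf : H → ℕ) ∧ ∀ m ∈ Set.range (orderOf : H → ℕ), n ∣ m → m = n} ⊆ {n : ℕ | n ∈ Set.range (orderOf : G → ℕ) ∧ ∀ m ∈ Set.range (orderOf : G → ℕ), n ∣ m → m = n})
    (hfew : ({n : ℕ | n ∈ Set.range (orderOf : G → ℕ) ∧ ∀ m ∈ Set.range (orderOf : G → ℕ), n ∣ m → m = n} \ {n : ℕ | n ∈ Set.range (orderOf : H → ℕ) ∧ ∀ m ∈ Set.range (orderOf : H → ℕ), n ∣ m → m = n}).ncard < k) :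
    Set.range (orderOf : (Fin k → G) → ℕ) = Set.range (orderOf : (Fin (k - 1) → G) × H → ℕ) := by
  classical
  obtain ⟨k', rfl⟩ : ∃ k', k = k' + 1 := ⟨k - 1, by omega⟩
  show Set.range (orderOf : (Fin (k' + 1) → G) → ℕ) = Set.range (orderOf : (Fin k' → G) × H → ℕ)
  set μG : Set ℕ := {n : ℕ | n ∈ Set.range (orderOf : G → ℕ) ∧ ∀ m ∈ Set.range (orderOf : G → ℕ), n ∣ m → m = n} with hμG
  set μH : Set ℕ := {n : ℕ | n ∈ Set.range (orderOf : H → ℕ) ∧ ∀ m ∈ Set.range (orderOf : H → ℕ), n ∣ m → m = n} with hμH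
  -- every order of H is an order of G
  have hHG : ∀ h : H, ∃ g : G, orderOf g = orderOf h := by
    intro h
    obtain ⟨M, hM, hdvd⟩ := exists_max_order (X := H) ⟨h, rfl⟩
    have hMG : M ∈ μG := hsub hM
    exact spec_dvd_closed hMG.1 hdvd
  apply Set.eq_of_subset_of_subset
  · rintro _ ⟨F, rfl⟩
    -- choose maximal orders above each component
    have hch : ∀ i : Fin (k' + 1), ∃ M, M ∈ μG ∧ orderOf (F i) ∣ M := fun i =>
      exists_max_order (X := G) ⟨F i, rfl⟩
    choose m hmμ hmdvd using hch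
    by_cases hex : ∃ i, m i ∈ μH
    · obtain ⟨i, hi⟩ := hex
      obtain ⟨h, hh⟩ : ∃ h : H, orderOf h = orderOf (F i) := spec_dvd_closed hi.1 (hmdvd i)
      refine ⟨(fun j => F (i.succAbove j), h), ?_⟩
      apply eq_of_forall_dvd_iff
      intro N
      rw [prod_orderOf_dvd_iff, pi_orderOf_dvd_iff, pi_orderOf_dvd_iff, hh,
        Fin.forall_iff_succAbove i]
      tauto
    · have hall : ∀ i, m i ∈ μG \ μH := fun i => ⟨hmμ i, fun h => hex ⟨i, h⟩⟩
      have hDfin : (μG \ μH).Finite :=
        ((Set.finite_range (orderOf : G → ℕ)).subset (fun n hn => hn.1)).sdiff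
      have hninj : ¬ Function.Injective m := by
        intro hinj
        have h1 : (Set.range m).ncard = k' + 1 := by
          rw [Set.ncard_range_of_injective hinj]
          simp
        have h2 : (Set.range m).ncard ≤ (μG \ μH).ncard :=
          Set.ncard_le_ncard (by rintro _ ⟨i, rfl⟩; exact hall i) hDfin
        omega
      rw [Function.not_injective_iff] at hninj
      obtain ⟨i, j, hij, hne⟩ := hninj
      -- an element whose order is the lcm of orders of F i, F j
      obtain ⟨g', hg'⟩ : ∃ g' : G, orderOf g' = Nat.lcm (orderOf (F i)) (orderOf (F j)) := by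
        apply spec_dvd_closed (hmμ i).1
        exact Nat.lcm_dvd (hmdvd i) (hij ▸ hmdvd j)
      refine ⟨(fun l => (Function.update F i g') (j.succAbove l), 1), ?_⟩
      symm
      apply eq_of_forall_dvd_iff
      intro N
      rw [prod_orderOf_dvd_iff, pi_orderOf_dvd_iff, pi_orderOf_dvd_iff, orderOf_one]
      constructor
      · intro hF
        refine ⟨fun l => ?_, one_dvd _⟩
        by_cases hl : j.succAbove l = i
        · rw [hl, Function.update_self, hg']
          exact Nat.lcm_dvd (hF i) (hF j)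
        · rw [Function.update_of_ne hl]
          exact hF _
      · rintro ⟨hF, -⟩ l
        have hi' : Nat.lcm (orderOf (F i)) (orderOf (F j)) ∣ N := by
          obtain ⟨l', hl'⟩ := Fin.exists_succAbove_eq hne
          have := hF l'
          rw [hl', Function.update_self, hg'] at this
          exact this
        by_cases hlj : l = j
        · rw [hlj]
          exact dvd_trans (Nat.dvd_lcm_right _ _) hi'
        · by_cases hli : l = i
          · rw [hli]
            exact dvd_trans (Nat.dvd_lcm_left _ _) hi'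
          · obtain ⟨l', hl'⟩ := Fin.exists_succAbove_eq hlj
            have := hF l'
            rw [hl', Function.update_of_ne hli] at this
            exact this
  · rintro _ ⟨⟨f, h⟩, rfl⟩
    obtain ⟨g₀, hg₀⟩ := hHG h
    refine ⟨Fin.cons g₀ f, ?_⟩
    apply eq_of_forall_dvd_iff
    intro N
    rw [prod_orderOf_dvd_iff, pi_orderOf_dvd_iff, pi_orderOf_dvd_iff, Fin.forall_fin_succ]
    simp only [Fin.cons_zero, Fin.cons_succ, hg₀]
    tauto

end Cfsg.Agent.S2514
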