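import Cfsg.Statements.S2515
import Cfsg.Agent.S2475
import Cfsg.Agent.Lib.Helper59.Ree2515

set_option autoImplicit false
open Cfsg

namespace Cfsg.Agent.S2515

open Cfsg.Agent.Lib.Helper59.R2515

/-- Let q = 3^α with α ≥ 3 odd. There is a finite group H having a non-trivial normal 3-subgroup and whose element orders maximal under divisibility are exactly 6, 9, q − 1 and (q + 1)/2. -/
theorem result (α : ℕ) (hα : 3 ≤ α) (hodd : Odd α) :
    ∃ (H : Type) (_ : Group H) (_ : Fintype H), (∃ P : Subgroup H, P.Normal ∧ P ≠ ⊥ ∧ IsPGroup 3 ↥P) ∧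
      {n : ℕ | n ∈ Set.range (orderOf : H → ℕ) ∧ ∀ m ∈ Set.range (orderOf : H → ℕ), n ∣ m → m = n} = ({6, 9, 3 ^ α - 1, (3 ^ α + 1) / 2} : Set ℕ) := by
  have : Fact (Nat.Prime 3) := ⟨Nat.prime_three⟩
  have hq8 := three_pow_mod_eight α hodd
  have hq3 := three_pow_mod_three α (by omega)
  have hq27 := three_pow_ge α hα
  let _ : Fintype (GaloisField 3 α) := Fintype.ofFinite _
  have hcard : Fintype.card (GaloisField 3 α) = 3 ^ α := by
    rw [← Nat.card_eq_fintype_card]; exact GaloisField.card 3 α (by omega)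
  have hspec0 := Cfsg.Agent.S2475.result (F := GaloisField 3 α) 3 (by rw [hcard]; omega)
  rw [hcard] at hspec0
  have hgcd : Nat.gcd 2 (3 ^ α - 1) = 2 := by
    apply Nat.gcd_eq_left
    omega
  rw [hgcd] at hspec0
  have hns : ¬ IsSquare (-1 : GaloisField 3 α) := by
    rw [FiniteField.isSquare_neg_one_iff, hcard]; omega
  have hspec : ∀ k : PSL2 (GaloisField 3 α),
      orderOf k ∣ 3 ∨ orderOf k ∣ (3 ^ α - 1) / 2 ∨ orderOf k ∣ (3 ^ α + 1) / 2 := by
    intro k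
    have : orderOf k ∈ Set.range (orderOf : PSL2 (GaloisField 3 α) → ℕ) := ⟨k, rfl⟩
    rw [hspec0] at this
    exact this
  have hex : ∀ m : ℕ, (m ∣ 3 ∨ m ∣ (3 ^ α - 1) / 2 ∨ m ∣ (3 ^ α + 1) / 2) →
      ∃ k : PSL2 (GaloisField 3 α), orderOf k = m := by
    intro m hm
    have : m ∈ Set.range (orderOf : PSL2 (GaloisField 3 α) → ℕ) := by
      rw [hspec0]; exact hm
    exact this
  refine ⟨HH (GaloisField 3 α), inferInstance, Fintype.ofFinite _, exists_normal_three, ?_⟩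
  apply maximal_set_eq _ (3 ^ α) hq8 hq3 hq27
  · rintro n ⟨h, rfl⟩
    rcases orderOf_dvd hns ((3 ^ α - 1) / 2) ((3 ^ α + 1) / 2) hspec h with h1 | h1 | h1 | h1
    · exact Or.inl h1
    · exact Or.inr (Or.inl h1)
    · refine Or.inr (Or.inr (Or.inl ?_))
      have : 2 * ((3 ^ α - 1) / 2) = 3 ^ α - 1 := by omega
      rwa [this] at h1
    · refine Or.inr (Or.inr (Or.inr ?_))
      have : Nat.lcm 2 ((3 ^ α + 1) / 2) = (3 ^ α + 1) / 2 := by
        apply Nat.lcm_eq_right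
        omega
      rwa [this] at h1
  · obtain ⟨k, hk⟩ := hex 3 (Or.inl (dvd_refl 3))
    obtain ⟨h, hh⟩ := exists_orderOf_lcm (-1 : ℤˣ) k
    rw [orderOf_neg_one_units, hk] at hh
    exact ⟨h, hh⟩
  · exact ⟨h9, orderOf_h9⟩
  · obtain ⟨k, hk⟩ := hex ((3 ^ α - 1) / 2) (Or.inr (Or.inl (dvd_refl _)))
    obtain ⟨h, hh⟩ := exists_orderOf_lcm (-1 : ℤˣ) k
    rw [orderOf_neg_one_units, hk] at hh
    refine ⟨h, hh.trans ?_⟩
    have hcop : Nat.Coprime 2 ((3 ^ α - 1) / 2) := by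
      rw [Nat.coprime_two_left]
      rw [Nat.odd_iff]; omega
    rw [hcop.lcm_eq_mul]; omega
  · obtain ⟨k, hk⟩ := hex ((3 ^ α + 1) / 2) (Or.inr (Or.inr (dvd_refl _)))
    obtain ⟨h, hh⟩ := exists_orderOf_lcm (1 : ℤˣ) k
    rw [orderOf_one, hk, Nat.lcm_one_left] at hh
    exact ⟨h, hh⟩

end Cfsg.Agent.S2515
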