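import Cfsg.Statements.S2516

set_option autoImplicit false
open Cfsg

namespace Cfsg.Agent.S2516

section aux

variable {F : Type*} [Field F] {V : Type*} [AddCommGroup V] [Module F V]
  {G : Type*} [Group G] (ρ : Representation F G V)

/-- the action hom used in the statement -/
noncomputable abbrev act : G →* MulAut (Multiplicative V) :=
  (MulAutMultiplicative V).symm.toMonoidHom.comp
    ((DistribMulAction.toAddAut ((V →ₗ[F] V)ˣ) V).comp ρ.asGroupHom)

theorem act_apply (h : G) (v : V) :
    act ρ h (Multiplicative.ofAdd v) = Multiplicative.ofAdd (ρ h v) := rfl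

theorem pow_formula (v : V) (g : G) (n : ℕ) :
    ((⟨Multiplicative.ofAdd v, g⟩ : Multiplicative V ⋊[act ρ] G)) ^ n =
      ⟨Multiplicative.ofAdd ((∑ i ∈ Finset.range n, (ρ g) ^ i) v), g ^ n⟩ := by
  induction n with
  | zero =>
    simp only [pow_zero, Finset.range_zero, Finset.sum_empty, LinearMap.zero_apply]
    rfl
  | succ n ih =>
    rw [pow_succ, ih]
    ext
    · simp only [SemidirectProduct.mul_left]
      rw [act_apply, Finset.sum_range_succ, LinearMap.add_apply, map_pow]
      rfl
    · simp only [SemidirectProduct.mul_right, pow_succ]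

theorem inl_pow_formula (w : V) (n : ℕ) :
    ((⟨Multiplicative.ofAdd w, 1⟩ : Multiplicative V ⋊[act ρ] G)) ^ n =
      ⟨Multiplicative.ofAdd (n • w), 1⟩ := by
  have h : (⟨Multiplicative.ofAdd w, 1⟩ : Multiplicative V ⋊[act ρ] G) =
      SemidirectProduct.inl (Multiplicative.ofAdd w) := rfl
  rw [h, ← map_pow]
  rfl

end aux

/-- Let F be a field of characteristic p > 0, V a non-zero finite-dimensional F-vector space, G a finite group and ρ a representation of G on V; form the semidirect product V ⋊ G. For g ∈ G of order k, the coset Vg contains an element of order pk if and only if the minimal polynomial of ρ(g) does not divide 1 + X + ⋯ + X^(k−1). -/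
theorem result {F : Type*} [Field F] (p : ℕ) [Fact p.Prime] [CharP F p] {V : Type*} [AddCommGroup V] [Module F V] [FiniteDimensional F V] [Nontrivial V]
    {G : Type*} [Group G] [Finite G] (ρ : Representation F G V) (g : G) :
    (∃ x : Multiplicative V ⋊[(MulAutMultiplicative V).symm.toMonoidHom.comp
        ((DistribMulAction.toAddAut ((V →ₗ[F] V)ˣ) V).comp ρ.asGroupHom)] G,
        x.right = g ∧ orderOf x = p * orderOf g) ↔
      ¬ (minpoly F (ρ g) ∣ ∑ i ∈ Finset.range (orderOf g), (Polynomial.X : Polynomial F) ^ i) := by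
  have hp : p.Prime := Fact.out
  have hk : 0 < orderOf g := orderOf_pos g
  set k := orderOf g with hkdef
  have haeval : Polynomial.aeval (ρ g) (∑ i ∈ Finset.range k, (Polynomial.X : Polynomial F) ^ i) =
      ∑ i ∈ Finset.range k, (ρ g) ^ i := by
    simp [map_sum]
  rw [minpoly.dvd_iff, haeval]
  -- key facts for x = (v, g)
  have hxk : ∀ v : V, ((⟨Multiplicative.ofAdd v, g⟩ : Multiplicative V ⋊[act ρ] G)) ^ k =
      ⟨Multiplicative.ofAdd ((∑ i ∈ Finset.range k, (ρ g) ^ i) v), 1⟩ := by
    intro v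
    rw [pow_formula, hkdef, pow_orderOf_eq_one]
  have hdvd1 : ∀ v : V, k ∣ orderOf ((⟨Multiplicative.ofAdd v, g⟩ : Multiplicative V ⋊[act ρ] G)) := by
    intro v
    have := orderOf_map_dvd (SemidirectProduct.rightHom : Multiplicative V ⋊[act ρ] G →* G)
      (⟨Multiplicative.ofAdd v, g⟩ : Multiplicative V ⋊[act ρ] G)
    simpa [SemidirectProduct.rightHom] using this
  have hdvd2 : ∀ v : V, orderOf ((⟨Multiplicative.ofAdd v, g⟩ : Multiplicative V ⋊[act ρ] G)) ∣ k * p := by
    intro v
    rw [orderOf_dvd_iff_pow_eq_one, pow_mul, hxk, inl_pow_formula]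
    have : p • ((∑ i ∈ Finset.range k, (ρ g) ^ i) v) = 0 := by
      rw [← Nat.cast_smul_eq_nsmul F, CharP.cast_eq_zero, zero_smul]
    rw [this]
    rfl
  constructor
  · rintro ⟨x, hxr, hxo⟩ hS
    obtain ⟨v, hx⟩ : ∃ v : V, x = (⟨Multiplicative.ofAdd v, g⟩ : Multiplicative V ⋊[act ρ] G) := by
      refine ⟨Multiplicative.toAdd x.left, ?_⟩
      ext
      · rfl
      · exact hxr
    subst hx
    have h1 : ((⟨Multiplicative.ofAdd v, g⟩ : Multiplicative V ⋊[act ρ] G)) ^ k = 1 := by
      rw [hxk, hS]
      rfl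
    have h2 : orderOf ((⟨Multiplicative.ofAdd v, g⟩ : Multiplicative V ⋊[act ρ] G)) ∣ k :=
      orderOf_dvd_of_pow_eq_one h1
    have h3 : p * k ∣ k := by
      have := hxo
      change orderOf ((⟨Multiplicative.ofAdd v, g⟩ : Multiplicative V ⋊[act ρ] G)) = p * k at this
      rw [this] at h2
      exact h2
    have h4 := Nat.le_of_dvd hk h3
    have := hp.two_le
    nlinarith
  · intro hS
    obtain ⟨v, hv⟩ : ∃ v : V, (∑ i ∈ Finset.range k, (ρ g) ^ i) v ≠ 0 := by
      by_contra hcon
      have hcon' : ∀ v : V, (∑ i ∈ Finset.range k, (ρ g) ^ i) v = 0 := by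
        intro v
        by_contra h
        exact hcon ⟨v, h⟩
      exact hS (LinearMap.ext hcon')
    refine ⟨(⟨Multiplicative.ofAdd v, g⟩ : Multiplicative V ⋊[act ρ] G), rfl, ?_⟩
    obtain ⟨d, hd⟩ := hdvd1 v
    have hd' : k * d ∣ k * p := hd ▸ hdvd2 v
    have hdp : d ∣ p := Nat.dvd_of_mul_dvd_mul_left hk hd'
    rcases (Nat.dvd_prime hp).mp hdp with rfl | rfl
    · exfalso
      rw [mul_one] at hd
      have h1 : ((⟨Multiplicative.ofAdd v, g⟩ : Multiplicative V ⋊[act ρ] G)) ^ k = 1 := by
        rw [← hd]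
        exact pow_orderOf_eq_one _
      rw [hxk] at h1
      have h2 := congrArg SemidirectProduct.left h1
      simp only [SemidirectProduct.one_left] at h2
      exact hv (Multiplicative.ofAdd.injective h2)
    · rw [hd, mul_comm]

end Cfsg.Agent.S2516
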