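import Cfsg.Statements.S2532
import Cfsg.Agent.Lib.Helper49.PermCentralizer

set_option autoImplicit false
open Cfsg

namespace Cfsg.Agent.S2532

open Cfsg.Agent.Lib.Helper49

/-- There is a function `f` of two natural-number arguments such that, whenever `m ≥ f(n, r)`, every subgroup of order `n` of the alternating group of degree `m` centralizes some subgroup of that alternating group isomorphic to the alternating group of degree `r`. -/
theorem result :
    ∃ f : ℕ → ℕ → ℕ, ∀ (m r : ℕ) (H : Subgroup ↥(alternatingGroup (Fin m))), f (Nat.card H) r ≤ m →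
      ∃ K : Subgroup ↥(alternatingGroup (Fin m)), Nonempty (↥K ≃* ↥(alternatingGroup (Fin r))) ∧
        K ≤ Subgroup.centralizer (H : Set ↥(alternatingGroup (Fin m))) := by
  classical
  refine ⟨fun n r => 2 ^ n * (n * r) + 1, ?_⟩
  intro m r H hm
  have hcard : 2 ^ Fintype.card H * (Fintype.card H * r) < Fintype.card (Fin m) := by
    rw [Fintype.card_fin, ← Nat.card_eq_fintype_card]
    have hm' : 2 ^ Nat.card H * (Nat.card H * r) + 1 ≤ m := hm
    omega
  obtain ⟨x, hstab, horb⟩ := exists_points (H := H) (Ω := Fin m) r hcard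
  obtain ⟨Φ, hΦinj, hΦeq⟩ := exists_perm_hom (H := H) x hstab horb
  have hsmul : ∀ (h : H) (y : Fin m), h • y = ((h : alternatingGroup (Fin m)) : Equiv.Perm (Fin m)) y :=
    fun _ _ => rfl
  let Ψ : alternatingGroup (Fin r) →* alternatingGroup (Fin m) :=
    (Φ.comp (alternatingGroup (Fin r)).subtype).codRestrict (alternatingGroup (Fin m)) (by
      intro σ
      rw [Equiv.Perm.mem_alternatingGroup]
      exact sign_hom_alternating Φ σ.1 σ.2)
  have hΨ : ∀ σ : alternatingGroup (Fin r), ((Ψ σ : alternatingGroup (Fin m)) : Equiv.Perm (Fin m)) = Φ σ.1 :=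
    fun _ => rfl
  have hΨinj : Function.Injective Ψ := by
    intro σ τ h
    apply Subtype.ext
    apply hΦinj
    rw [← hΨ, ← hΨ, h]
  refine ⟨Ψ.range, ⟨(MonoidHom.ofInjective hΨinj).symm⟩, ?_⟩
  rintro _ ⟨σ, rfl⟩
  rw [Subgroup.mem_centralizer_iff]
  intro h hh
  apply Subtype.ext
  apply Equiv.ext
  intro y
  change ((h : alternatingGroup (Fin m)) : Equiv.Perm (Fin m)) (Φ σ.1 y) = Φ σ.1 (((h : alternatingGroup (Fin m)) : Equiv.Perm (Fin m)) y)
  have := hΦeq σ.1 ⟨h, hh⟩ y
  rw [hsmul, hsmul] at this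
  exact this.symm

end Cfsg.Agent.S2532
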