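import Mathlib
import Cfsg.Statements.S2533

set_option autoImplicit false
open Cfsg

namespace Cfsg.Agent.S2533

@[ext] structure GD (p : ℕ) where
  v : Fin 3 → ZMod p
  e : ℤˣ

namespace GD
variable {p : ℕ}

instance : Mul (GD p) := ⟨fun a b => ⟨a.v + ((a.e : ℤ) : ZMod p) • b.v, a.e * b.e⟩⟩
instance : One (GD p) := ⟨⟨0, 1⟩⟩
instance : Inv (GD p) := ⟨fun a => ⟨-(((a.e⁻¹ : ℤˣ) : ℤ) : ZMod p) • a.v, a.e⁻¹⟩⟩

@[simp] theorem mul_v (a b : GD p) : (a * b).v = a.v + ((a.e : ℤ) : ZMod p) • b.v := rfl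
@[simp] theorem mul_e (a b : GD p) : (a * b).e = a.e * b.e := rfl
@[simp] theorem one_v : (1 : GD p).v = 0 := rfl
@[simp] theorem one_e : (1 : GD p).e = 1 := rfl
@[simp] theorem inv_v (a : GD p) : (a⁻¹).v = -(((a.e⁻¹ : ℤˣ) : ℤ) : ZMod p) • a.v := rfl
@[simp] theorem inv_e (a : GD p) : (a⁻¹).e = a.e⁻¹ := rfl

instance : Group (GD p) where
  mul_assoc a b c := by
    ext1
    · simp only [mul_v, mul_e, Units.val_mul, Int.cast_mul, smul_add, mul_smul, add_assoc]
    · simp only [mul_e, mul_assoc]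
  one_mul a := by
    ext1
    · simp
    · simp
  mul_one a := by
    ext1
    · simp
    · simp
  inv_mul_cancel a := by
    ext1
    · simp
    · simp

end GD

def GD.equivProd (p : ℕ) : GD p ≃ (Fin 3 → ZMod p) × ℤˣ where
  toFun a := (a.v, a.e)
  invFun x := ⟨x.1, x.2⟩
  left_inv a := rfl
  right_inv x := rfl

theorem GD.card (p : ℕ) [Fact p.Prime] : Nat.card (GD p) = 2 * p ^ 3 := by
  rw [Nat.card_congr (GD.equivProd p), Nat.card_prod, Nat.card_eq_fintype_card, Nat.card_eq_fintype_card,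
    Fintype.card_units_int, Fintype.card_fun, ZMod.card, Fintype.card_fin, mul_comm]

instance (p : ℕ) [Fact p.Prime] : Finite (GD p) := Finite.of_equiv _ (GD.equivProd p).symm

theorem toeplitz {F : Type*} [CommRing F] (m : ℕ) (hm : 1 ≤ m) (t s : ℕ → ℕ → F)
    (h1 : ∀ i j, i ≤ m → j < m → s i j = if i < m then t i j else 0)
    (h2 : ∀ i j, i ≤ m → j < m → s i (j + 1) = if 1 ≤ i then t (i - 1) j else 0) :
    (∀ i j, i < m → j < m → t i j = if i = j then t 0 0 else 0) ∧
    (∀ i j, i ≤ m → j ≤ m → s i j = if i = j then t 0 0 else 0) := by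
  have ha : ∀ j, j + 1 < m → t 0 (j + 1) = 0 := by
    intro j hj
    have e1 := h1 0 (j + 1) (Nat.zero_le _) hj
    have e2 := h2 0 j (Nat.zero_le _) (by omega)
    rw [if_pos (by omega)] at e1
    rw [if_neg (by omega)] at e2
    rw [← e1, e2]
  have hb : ∀ j, j + 1 < m → t (m - 1) j = 0 := by
    intro j hj
    have e1 := h1 m (j + 1) le_rfl hj
    have e2 := h2 m j le_rfl (by omega)
    rw [if_neg (by omega)] at e1
    rw [if_pos (by omega)] at e2
    rw [← e2, e1]
  have hc : ∀ i j, i + 1 < m → j + 1 < m → t (i + 1) (j + 1) = t i j := by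
    intro i j hi hj
    have e1 := h1 (i + 1) (j + 1) (by omega) hj
    have e2 := h2 (i + 1) j (by omega) (by omega)
    rw [if_pos (by omega)] at e1
    rw [if_pos (by omega)] at e2
    rw [← e1, e2]
    simp
  have hup : ∀ i d, i + d + 1 < m → t i (i + d + 1) = 0 := by
    intro i
    induction i with
    | zero => intro d hd; simpa using ha d (by omega)
    | succ i ih =>
      intro d hd
      have := hc i (i + d + 1) (by omega) (by omega)
      rw [show i + 1 + d + 1 = i + d + 1 + 1 by ring, this]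
      exact ih d (by omega)
  have hdiag : ∀ i, i < m → t i i = t 0 0 := by
    intro i
    induction i with
    | zero => intro _; rfl
    | succ i ih =>
      intro hi
      rw [hc i i hi hi]
      exact ih (by omega)
  have hlow : ∀ k i j, i + k + 1 = m → j < i → t i j = 0 := by
    intro k
    induction k with
    | zero =>
      intro i j hi hj
      have : i = m - 1 := by omega
      rw [this]
      exact hb j (by omega)
    | succ k ih =>
      intro i j hi hj
      rw [← hc i j (by omega) (by omega)]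
      exact ih (i + 1) (j + 1) (by omega) (by omega)
  have ht : ∀ i j, i < m → j < m → t i j = if i = j then t 0 0 else 0 := by
    intro i j hi hj
    rcases lt_trichotomy i j with h | h | h
    · rw [if_neg (by omega)]
      obtain ⟨d, rfl⟩ : ∃ d, j = i + d + 1 := ⟨j - i - 1, by omega⟩
      exact hup i d hj
    · subst h
      rw [if_pos rfl]
      exact hdiag i hi
    · rw [if_neg (by omega)]
      exact hlow (m - i - 1) i j (by omega) h
  refine ⟨ht, ?_⟩
  intro i j hi hj
  rcases Nat.lt_or_ge j m with hjm | hjm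
  · rw [h1 i j hi hjm]
    by_cases him : i < m
    · rw [if_pos him]
      exact ht i j him hjm
    · rw [if_neg him, if_neg (by omega)]
  · have hjm' : j = (m - 1) + 1 := by omega
    rw [hjm', h2 i (m - 1) hi (by omega)]
    by_cases hi1 : 1 ≤ i
    · rw [if_pos hi1, ht (i - 1) (m - 1) (by omega) (by omega)]
      by_cases hh : i = m
      · rw [if_pos (by omega), if_pos (by omega)]
      · rw [if_neg (by omega), if_neg (by omega)]
    · rw [if_neg hi1, if_neg (by omega)]

section
variable (F : Type*) [CommRing F] (m : ℕ)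

def matA : Matrix (Fin (m+1)) (Fin m) F := fun i j => if i.val = j.val then 1 else 0
def matB : Matrix (Fin (m+1)) (Fin m) F := fun i j => if i.val = j.val + 1 then 1 else 0
def matC : Matrix (Fin (m+1)) (Fin m) F := fun i j => if i.val = m ∧ j.val = 0 then 1 else 0

variable {F}

theorem mul_matA (S : Matrix (Fin (m+1)) (Fin (m+1)) F) (i : Fin (m+1)) (j : Fin m) :
    (S * matA F m) i j = S i j.castSucc := by
  rw [Matrix.mul_apply, Finset.sum_eq_single j.castSucc]
  · simp [matA]
  · intro k _ hk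
    have : k.val ≠ j.val := fun h => hk (Fin.ext (by simpa using h))
    simp [matA, this]
  · intro h; exact absurd (Finset.mem_univ _) h

theorem mul_matB (S : Matrix (Fin (m+1)) (Fin (m+1)) F) (i : Fin (m+1)) (j : Fin m) :
    (S * matB F m) i j = S i j.succ := by
  rw [Matrix.mul_apply, Finset.sum_eq_single j.succ]
  · simp [matB]
  · intro k _ hk
    have : k.val ≠ j.val + 1 := fun h => hk (Fin.ext (by simpa using h))
    simp [matB, this]
  · intro h; exact absurd (Finset.mem_univ _) h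

theorem matA_mul (T : Matrix (Fin m) (Fin m) F) (i : Fin (m+1)) (j : Fin m) :
    (matA F m * T) i j = if h : i.val < m then T ⟨i.val, h⟩ j else 0 := by
  rw [Matrix.mul_apply]
  by_cases h : i.val < m
  · rw [dif_pos h, Finset.sum_eq_single ⟨i.val, h⟩]
    · simp [matA]
    · intro k _ hk
      have : i.val ≠ k.val := fun h' => hk (Fin.ext h'.symm)
      simp [matA, this]
    · intro h; exact absurd (Finset.mem_univ _) h
  · rw [dif_neg h]
    refine Finset.sum_eq_zero fun k _ => ?_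
    have : i.val ≠ k.val := fun h' => h (h' ▸ k.isLt)
    simp [matA, this]

theorem matB_mul (T : Matrix (Fin m) (Fin m) F) (i : Fin (m+1)) (j : Fin m) :
    (matB F m * T) i j = if h : 1 ≤ i.val then T ⟨i.val - 1, by have := i.isLt; omega⟩ j else 0 := by
  rw [Matrix.mul_apply]
  by_cases h : 1 ≤ i.val
  · rw [dif_pos h, Finset.sum_eq_single ⟨i.val - 1, by have := i.isLt; omega⟩]
    · have : i.val = i.val - 1 + 1 := by omega
      simp [matB, ← this]
    · intro k _ hk
      have : i.val ≠ k.val + 1 := fun h' => hk (Fin.ext (by simp [h']))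
      simp [matB, this]
    · intro h; exact absurd (Finset.mem_univ _) h
  · rw [dif_neg h]
    refine Finset.sum_eq_zero fun k _ => ?_
    have : i.val ≠ k.val + 1 := by omega
    simp [matB, this]

theorem kronecker_brick (hm : 1 ≤ m) (T : Matrix (Fin m) (Fin m) F)
    (S : Matrix (Fin (m+1)) (Fin (m+1)) F)
    (hA : S * matA F m = matA F m * T) (hB : S * matB F m = matB F m * T) :
    ∃ c : F, T = c • (1 : Matrix (Fin m) (Fin m) F) ∧ S = c • (1 : Matrix (Fin (m+1)) (Fin (m+1)) F) := by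
  set t : ℕ → ℕ → F := fun i j => if h : i < m ∧ j < m then T ⟨i, h.1⟩ ⟨j, h.2⟩ else 0 with ht
  set s : ℕ → ℕ → F := fun i j => if h : i < m + 1 ∧ j < m + 1 then S ⟨i, h.1⟩ ⟨j, h.2⟩ else 0 with hs
  have h1 : ∀ i j, i ≤ m → j < m → s i j = if i < m then t i j else 0 := by
    intro i j hi hj
    have e := congrFun (congrFun hA ⟨i, by omega⟩) ⟨j, hj⟩
    rw [mul_matA, matA_mul] at e
    simp only [hs, ht]
    rw [dif_pos ⟨by omega, by omega⟩]
    by_cases him : i < m
    · rw [if_pos him, dif_pos ⟨him, hj⟩]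
      rw [dif_pos (by simpa using him)] at e
      exact e
    · rw [if_neg him]
      rw [dif_neg (by simpa using him)] at e
      exact e
  have h2 : ∀ i j, i ≤ m → j < m → s i (j + 1) = if 1 ≤ i then t (i - 1) j else 0 := by
    intro i j hi hj
    have e := congrFun (congrFun hB ⟨i, by omega⟩) ⟨j, hj⟩
    rw [mul_matB, matB_mul] at e
    simp only [hs, ht]
    rw [dif_pos ⟨by omega, by omega⟩]
    by_cases him : 1 ≤ i
    · rw [if_pos him, dif_pos ⟨by omega, hj⟩]
      rw [dif_pos (by simpa using him)] at e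
      exact e
    · rw [if_neg him]
      rw [dif_neg (by simpa using him)] at e
      exact e
  obtain ⟨r1, r2⟩ := toeplitz m hm t s h1 h2
  refine ⟨t 0 0, ?_, ?_⟩
  · ext i j
    have := r1 i.val j.val i.isLt j.isLt
    simp only [ht] at this
    rw [dif_pos ⟨i.isLt, j.isLt⟩] at this
    rw [Matrix.smul_apply, Matrix.one_apply, smul_eq_mul, mul_ite, mul_one, mul_zero]
    simp only [ht]
    rw [show (⟨i.val, i.isLt⟩ : Fin m) = i from rfl, show (⟨j.val, j.isLt⟩ : Fin m) = j from rfl] at this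
    rw [this]
    simp only [Fin.ext_iff]
  · ext i j
    have := r2 i.val j.val (by have := i.isLt; omega) (by have := j.isLt; omega)
    simp only [hs] at this
    rw [dif_pos ⟨i.isLt, j.isLt⟩] at this
    rw [Matrix.smul_apply, Matrix.one_apply, smul_eq_mul, mul_ite, mul_one, mul_zero]
    simp only [ht]
    rw [show (⟨i.val, i.isLt⟩ : Fin (m+1)) = i from rfl, show (⟨j.val, j.isLt⟩ : Fin (m+1)) = j from rfl] at this
    rw [this]
    simp only [Fin.ext_iff, ht]

end
section
variable (p : ℕ) (m : ℕ)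

def Nmat (v : Fin 3 → ZMod p) : Matrix (Fin (m+1)) (Fin m) (ZMod p) :=
  v 0 • matA (ZMod p) m + v 1 • matB (ZMod p) m + v 2 • matC (ZMod p) m

theorem Nmat_zero : Nmat p m 0 = 0 := by simp [Nmat]

theorem Nmat_add (v w : Fin 3 → ZMod p) : Nmat p m (v + w) = Nmat p m v + Nmat p m w := by
  simp only [Nmat, Pi.add_apply, add_smul]
  abel

theorem Nmat_smul (c : ZMod p) (v : Fin 3 → ZMod p) : Nmat p m (c • v) = c • Nmat p m v := by
  simp only [Nmat, Pi.smul_apply, smul_eq_mul, mul_smul, smul_add]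

def Mmat (h : GD p) : Matrix (Fin m ⊕ Fin (m+1)) (Fin m ⊕ Fin (m+1)) (ZMod p) :=
  Matrix.fromBlocks 1 0 (Nmat p m h.v) ((((h.e : ℤ) : ZMod p)) • 1)

theorem Mmat_one : Mmat p m 1 = 1 := by
  simp [Mmat, Nmat_zero, Matrix.fromBlocks_one]

theorem Mmat_mul (a b : GD p) : Mmat p m (a * b) = Mmat p m a * Mmat p m b := by
  simp only [Mmat, Matrix.fromBlocks_multiply, GD.mul_v, GD.mul_e, Nmat_add, Nmat_smul]
  congr 1
  · simp
  · simp
  · simp
  · rw [Matrix.mul_zero, zero_add, Matrix.smul_mul, Matrix.one_mul, Units.val_mul, Int.cast_mul,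
      mul_smul]

theorem det_Mmat (h : GD p) : (Mmat p m h).det = (((h.e : ℤ) : ZMod p)) ^ (m + 1) := by
  rw [Mmat, Matrix.det_fromBlocks_zero₁₂]
  simp

theorem Nmat_inj (hm : 2 ≤ m) (v : Fin 3 → ZMod p) (h : Nmat p m v = 0) : v = 0 := by
  have e0 := congrFun (congrFun h ⟨0, by omega⟩) ⟨0, by omega⟩
  have e1 := congrFun (congrFun h ⟨1, by omega⟩) ⟨0, by omega⟩
  have e2 := congrFun (congrFun h ⟨m, by omega⟩) ⟨0, by omega⟩
  have hm0 : m ≠ 0 := by omega
  have hm1 : m ≠ 1 := by omega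
  have hm0' : 0 ≠ m := by omega
  have hm1' : 1 ≠ m := by omega
  simp [Nmat, matA, matB, matC, hm0, hm1, hm0', hm1'] at e0 e1 e2
  funext i
  fin_cases i
  · exact e0
  · exact e1
  · exact e2


theorem comm_scalar (hm : 1 ≤ m) (h2 : (2 : ZMod p) ≠ 0) [Fact p.Prime]
    (g : Matrix (Fin m ⊕ Fin (m+1)) (Fin m ⊕ Fin (m+1)) (ZMod p))
    (ht : g * Mmat p m ⟨0, -1⟩ = Mmat p m ⟨0, -1⟩ * g)
    (hx : g * Mmat p m ⟨Pi.single 0 1, 1⟩ = Mmat p m ⟨Pi.single 0 1, 1⟩ * g)
    (hy : g * Mmat p m ⟨Pi.single 1 1, 1⟩ = Mmat p m ⟨Pi.single 1 1, 1⟩ * g) :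
    ∃ c : ZMod p, g = c • 1 := by
  obtain ⟨g11, g12, g21, g22, rfl⟩ : ∃ g11 g12 g21 g22, g = Matrix.fromBlocks g11 g12 g21 g22 :=
    ⟨_, _, _, _, (Matrix.fromBlocks_toBlocks g).symm⟩
  have hN0 : Nmat p m (Pi.single 0 1) = matA (ZMod p) m := by
    simp [Nmat]
  have hN1 : Nmat p m (Pi.single 1 1) = matB (ZMod p) m := by
    simp [Nmat]
  simp only [Mmat, Nmat_zero, Matrix.fromBlocks_multiply, Matrix.fromBlocks_inj] at ht
  obtain ⟨-, h12, h21, -⟩ := ht
  have g12z : g12 = 0 := by
    have : (2 : ZMod p) • g12 = 0 := by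
      rw [two_smul]
      have := h12
      simp only [Matrix.mul_zero, zero_add, Matrix.one_mul, Matrix.zero_mul, add_zero,
        Units.val_neg, Units.val_one, Int.cast_neg, Int.cast_one, neg_smul, one_smul,
        Matrix.mul_neg, Matrix.mul_one] at this
      rw [← sub_eq_zero] at this
      rw [← neg_eq_zero, ← this]
      abel
    exact (smul_eq_zero.mp this).resolve_left h2
  have g21z : g21 = 0 := by
    have : (2 : ZMod p) • g21 = 0 := by
      rw [two_smul]
      have := h21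
      simp only [Matrix.mul_zero, zero_add, Matrix.one_mul, Matrix.zero_mul, add_zero,
        Units.val_neg, Units.val_one, Int.cast_neg, Int.cast_one, neg_smul, one_smul,
        Matrix.mul_neg, Matrix.mul_one, Matrix.neg_mul] at this
      rw [← sub_eq_zero] at this
      rw [← this]
      abel
    exact (smul_eq_zero.mp this).resolve_left h2
  subst g12z g21z
  simp only [Mmat, hN0, hN1, Matrix.fromBlocks_multiply, Matrix.fromBlocks_inj] at hx hy
  obtain ⟨-, -, hA, -⟩ := hx
  obtain ⟨-, -, hB, -⟩ := hy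
  simp only [Matrix.zero_mul, zero_add, Matrix.mul_one, Units.val_one, Int.cast_one, one_smul,
    Matrix.one_mul] at hA hB
  obtain ⟨c, hT, hS⟩ := kronecker_brick m hm g11 g22 (by simpa using hA) (by simpa using hB)
  refine ⟨c, ?_⟩
  rw [hT, hS, ← Matrix.fromBlocks_one, Matrix.fromBlocks_smul]
  simp

end
/-- abstract step: from a hom into `S` to the quotient by the centre -/
theorem quot_center {S H : Type*} [Group S] [Group H] (ρ : H →* S)
    (hK1 : ∀ h, ρ h ∈ Subgroup.center S → h = 1)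
    (hK2 : ∀ g : S, (∀ h, g * ρ h * g⁻¹ * (ρ h)⁻¹ ∈ Subgroup.center S) → g ∈ Subgroup.center S) :
    Function.Injective ((QuotientGroup.mk' (Subgroup.center S)).comp ρ) ∧
    Subgroup.centralizer
      ((((QuotientGroup.mk' (Subgroup.center S)).comp ρ).range : Subgroup (S ⧸ Subgroup.center S)) :
        Set (S ⧸ Subgroup.center S)) = ⊥ := by
  constructor
  · rw [injective_iff_map_eq_one]
    intro h hh
    apply hK1
    rw [MonoidHom.comp_apply, QuotientGroup.mk'_apply, QuotientGroup.eq_one_iff] at hh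
    exact hh
  · rw [eq_bot_iff]
    intro q hq
    obtain ⟨g, rfl⟩ := QuotientGroup.mk_surjective q
    rw [Subgroup.mem_bot, QuotientGroup.eq_one_iff]
    apply hK2
    intro h
    rw [Subgroup.mem_centralizer_iff] at hq
    have := hq (((QuotientGroup.mk' (Subgroup.center S)).comp ρ) h) ⟨h, rfl⟩
    rw [MonoidHom.comp_apply, QuotientGroup.mk'_apply] at this
    rw [← QuotientGroup.eq_one_iff]
    rw [QuotientGroup.mk_mul, QuotientGroup.mk_mul, QuotientGroup.mk_mul, QuotientGroup.mk_inv,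
      QuotientGroup.mk_inv, ← this]
    group


section
variable (p : ℕ) [Fact p.Prime] (m : ℕ)

/-- the representation matrices reindexed to `Fin (m + (m+1))` -/
def Rmat (h : GD p) : Matrix (Fin (m + (m+1))) (Fin (m + (m+1))) (ZMod p) :=
  (Mmat p m h).submatrix finSumFinEquiv.symm finSumFinEquiv.symm

theorem Rmat_one : Rmat p m 1 = 1 := by
  rw [Rmat, Mmat_one, Matrix.submatrix_one_equiv]

theorem Rmat_mul (a b : GD p) : Rmat p m (a * b) = Rmat p m a * Rmat p m b := by
  rw [Rmat, Mmat_mul, Rmat, Rmat, Matrix.submatrix_mul_equiv]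

theorem det_Rmat (hm : Even (m + 1)) (h : GD p) : (Rmat p m h).det = 1 := by
  rw [Rmat, Matrix.det_submatrix_equiv_self, det_Mmat]
  rcases Int.units_eq_one_or h.e with he | he
  · rw [he]; simp
  · rw [he]; simp [hm.neg_one_pow]

/-- the representation into `SL` -/
def rho (hm : Even (m + 1)) : GD p →* Matrix.SpecialLinearGroup (Fin (m + (m+1))) (ZMod p) :=
  MonoidHom.mk' (fun h => ⟨Rmat p m h, det_Rmat p m hm h⟩) (by
    intro a b
    apply Subtype.ext
    simp only [Matrix.SpecialLinearGroup.coe_mul]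
    exact Rmat_mul p m a b)

theorem rho_coe (hm : Even (m + 1)) (h : GD p) :
    ((rho p m hm h : Matrix.SpecialLinearGroup (Fin (m + (m+1))) (ZMod p)) :
      Matrix (Fin (m + (m+1))) (Fin (m + (m+1))) (ZMod p)) = Rmat p m h := rfl

theorem Mmat_of_Rmat (h : GD p) :
    Mmat p m h = (Rmat p m h).submatrix finSumFinEquiv finSumFinEquiv := by
  rw [Rmat, Matrix.submatrix_submatrix]
  simp

theorem two_ne_zero' (hp : p ≠ 2) : (2 : ZMod p) ≠ 0 := by
  intro h
  have h' : ((2 : ℕ) : ZMod p) = 0 := by exact_mod_cast h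
  rw [ZMod.natCast_eq_zero_iff] at h'
  have := (Nat.prime_dvd_prime_iff_eq (Fact.out : p.Prime) Nat.prime_two).mp h'
  exact hp this

theorem rho_K1 (hp : p ≠ 2) (hm2 : 2 ≤ m) (hm : Even (m + 1)) (h : GD p)
    (hc : rho p m hm h ∈ Subgroup.center (Matrix.SpecialLinearGroup (Fin (m + (m+1))) (ZMod p))) :
    h = 1 := by
  rw [Matrix.SpecialLinearGroup.mem_center_iff] at hc
  obtain ⟨r, -, hr⟩ := hc
  rw [rho_coe] at hr
  have hM : Mmat p m h = r • 1 := by
    rw [Mmat_of_Rmat, ← hr]
    ext i j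
    simp [Matrix.one_apply, Matrix.diagonal_apply]
  rw [Mmat, ← Matrix.fromBlocks_one, Matrix.fromBlocks_smul, Matrix.fromBlocks_inj] at hM
  obtain ⟨h11, -, h21, h22⟩ := hM
  have hr1 : r = 1 := by
    have := congrFun (congrFun h11 ⟨0, by omega⟩) ⟨0, by omega⟩
    simpa using this.symm
  have hv : h.v = 0 := Nmat_inj p m hm2 h.v (by rw [h21]; simp)
  have he : h.e = 1 := by
    rcases Int.units_eq_one_or h.e with he | he
    · exact he
    · exfalso
      rw [he, hr1] at h22
      have := congrFun (congrFun h22 0) 0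
      simp at this
      apply two_ne_zero' p hp
      have h3 : (1 : ZMod p) + 1 = 0 := by
        nth_rewrite 1 [← this]
        ring
      rw [← h3]; norm_num
  ext1
  · rw [hv]; rfl
  · rw [he]; rfl

end

section
theorem comm_pow_eq_one {S : Type*} [Group S] (g x : S) (k : ℕ)
    (hc : g * x * g⁻¹ * x⁻¹ ∈ Subgroup.center S) (hx : x ^ k = 1) :
    (g * x * g⁻¹ * x⁻¹) ^ k = 1 := by
  set c := g * x * g⁻¹ * x⁻¹ with hcdef
  have h1 : g * x * g⁻¹ = c * x := by rw [hcdef]; group
  have h2 : (g * x * g⁻¹) ^ k = 1 := by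
    rw [conj_pow, hx]; group
  have hcomm : Commute c x := by
    rw [Subgroup.mem_center_iff] at hc
    exact (hc x).symm
  rw [h1, hcomm.mul_pow, hx, mul_one] at h2
  exact h2
end

section
variable (p : ℕ) [Fact p.Prime] (m : ℕ)

theorem GD.pow_v (v : Fin 3 → ZMod p) (k : ℕ) : (⟨v, 1⟩ : GD p) ^ k = ⟨k • v, 1⟩ := by
  induction k with
  | zero => simp; rfl
  | succ k ih =>
    rw [pow_succ, ih]
    ext1
    · simp [add_smul]
    · simp

theorem GD.pow_p (v : Fin 3 → ZMod p) : (⟨v, 1⟩ : GD p) ^ p = 1 := by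
  rw [GD.pow_v]
  ext1
  · show p • v = 0
    rw [← Nat.cast_smul_eq_nsmul (ZMod p), ZMod.natCast_self, zero_smul]
  · rfl

theorem GD.t_sq : (⟨0, -1⟩ : GD p) ^ 2 = 1 := by
  rw [pow_two]
  ext1
  · simp
  · simp

/-- central elements of `SL_n(F_p)` have order dividing `p - 1` -/
theorem center_pow (n : ℕ) (hn : 1 ≤ n) (c : Matrix.SpecialLinearGroup (Fin n) (ZMod p))
    (hc : c ∈ Subgroup.center (Matrix.SpecialLinearGroup (Fin n) (ZMod p))) :
    c ^ (p - 1) = 1 := by
  rw [Matrix.SpecialLinearGroup.mem_center_iff] at hc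
  obtain ⟨r, hr1, hr⟩ := hc
  have hr0 : r ≠ 0 := by
    rintro rfl
    rw [Fintype.card_fin, zero_pow (by omega)] at hr1
    exact zero_ne_one hr1
  apply Subtype.ext
  rw [Matrix.SpecialLinearGroup.coe_pow, ← hr, ← map_pow, ZMod.pow_card_sub_one_eq_one hr0]
  simp

theorem center_sq_odd (n : ℕ) (hn : Odd n) (c : Matrix.SpecialLinearGroup (Fin n) (ZMod p))
    (hc : c ∈ Subgroup.center (Matrix.SpecialLinearGroup (Fin n) (ZMod p))) (h2 : c ^ 2 = 1) :
    c = 1 := by
  rw [Matrix.SpecialLinearGroup.mem_center_iff] at hc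
  obtain ⟨r, hr1, hr⟩ := hc
  rw [Fintype.card_fin] at hr1
  have hr2 : r ^ 2 = 1 := by
    have := congrArg (fun A : Matrix.SpecialLinearGroup (Fin n) (ZMod p) =>
      (A : Matrix (Fin n) (Fin n) (ZMod p))) h2
    simp only [Matrix.SpecialLinearGroup.coe_pow, Matrix.SpecialLinearGroup.coe_one] at this
    rw [← hr, ← map_pow] at this
    obtain ⟨k, hk⟩ := hn
    have i0 : Fin n := ⟨0, by omega⟩
    have := congrFun (congrFun this i0) i0
    simpa using this
  obtain ⟨k, hk⟩ := hn
  have : r = 1 := by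
    rw [hk, pow_succ, pow_mul, hr2, one_pow, one_mul] at hr1
    exact hr1
  apply Subtype.ext
  rw [← hr, this]
  simp

theorem rho_K2 (hp : p ≠ 2) (hm1 : 1 ≤ m) (hm : Even (m + 1))
    (g : Matrix.SpecialLinearGroup (Fin (m + (m+1))) (ZMod p))
    (hg : ∀ h, g * rho p m hm h * g⁻¹ * (rho p m hm h)⁻¹ ∈
      Subgroup.center (Matrix.SpecialLinearGroup (Fin (m + (m+1))) (ZMod p))) :
    g ∈ Subgroup.center (Matrix.SpecialLinearGroup (Fin (m + (m+1))) (ZMod p)) := by
  have hp1 : 1 ≤ p := (Fact.out : p.Prime).one_lt.le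
  -- commutation with the `p`-part
  have hP : ∀ v : Fin 3 → ZMod p, g * rho p m hm ⟨v, 1⟩ = rho p m hm ⟨v, 1⟩ * g := by
    intro v
    set x := rho p m hm ⟨v, 1⟩ with hx
    have hxp : x ^ p = 1 := by rw [hx, ← map_pow, GD.pow_p, map_one]
    have h1 := comm_pow_eq_one g x p (hg _) hxp
    have h2 := center_pow p (m + (m+1)) (by omega) _ (hg ⟨v, 1⟩)
    have h3 : g * x * g⁻¹ * x⁻¹ = 1 := by
      have : (g * x * g⁻¹ * x⁻¹) ^ p = (g * x * g⁻¹ * x⁻¹) ^ (p - 1) * (g * x * g⁻¹ * x⁻¹) := by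
        rw [← pow_succ]; congr 1; omega
      rw [h1, h2, one_mul] at this
      exact this.symm
    calc g * x = (g * x * g⁻¹ * x⁻¹) * (x * g) := by group
      _ = x * g := by rw [h3, one_mul]
  have hT : g * rho p m hm ⟨0, -1⟩ = rho p m hm ⟨0, -1⟩ * g := by
    set x := rho p m hm ⟨0, -1⟩ with hx
    have hx2 : x ^ 2 = 1 := by rw [hx, ← map_pow, GD.t_sq, map_one]
    have h1 := comm_pow_eq_one g x 2 (hg _) hx2
    have h3 : g * x * g⁻¹ * x⁻¹ = 1 :=
      center_sq_odd p (m + (m+1)) ⟨m, by ring⟩ _ (hg ⟨0, -1⟩) h1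
    calc g * x = (g * x * g⁻¹ * x⁻¹) * (x * g) := by group
      _ = x * g := by rw [h3, one_mul]
  -- pass to matrices
  have toM : ∀ h : GD p, g * rho p m hm h = rho p m hm h * g →
      (g : Matrix (Fin (m + (m+1))) (Fin (m + (m+1))) (ZMod p)).submatrix finSumFinEquiv finSumFinEquiv * Mmat p m h =
        Mmat p m h * (g : Matrix (Fin (m + (m+1))) (Fin (m + (m+1))) (ZMod p)).submatrix finSumFinEquiv finSumFinEquiv := by
    intro h hh
    have := congrArg (fun A : Matrix.SpecialLinearGroup (Fin (m + (m+1))) (ZMod p) =>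
      (A : Matrix (Fin (m + (m+1))) (Fin (m + (m+1))) (ZMod p))) hh
    simp only [Matrix.SpecialLinearGroup.coe_mul, rho_coe] at this
    rw [Mmat_of_Rmat, Matrix.submatrix_mul_equiv, Matrix.submatrix_mul_equiv, this]
  obtain ⟨c, hc⟩ := comm_scalar p m hm1 (two_ne_zero' p hp) _ (toM _ hT) (toM _ (hP _)) (toM _ (hP _))
  have hgc : (g : Matrix (Fin (m + (m+1))) (Fin (m + (m+1))) (ZMod p)) = c • 1 := by
    ext i j
    have := congrFun (congrFun hc (finSumFinEquiv.symm i)) (finSumFinEquiv.symm j)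
    simp only [Matrix.submatrix_apply, Equiv.apply_symm_apply, Matrix.smul_apply,
      Matrix.one_apply, EmbeddingLike.apply_eq_iff_eq] at this
    rw [this, Matrix.smul_apply, Matrix.one_apply]
  rw [Subgroup.mem_center_iff]
  intro x
  apply Subtype.ext
  simp only [Matrix.SpecialLinearGroup.coe_mul, hgc]
  simp

end

/-- For every odd prime `p` there is a finite group `H` of order `2p³` which, for infinitely many `n`, embeds in the projective special linear group `PSL(n, p)` as a subgroup with trivial centralizer. -/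
theorem result
    (p : ℕ) [Fact p.Prime] (hp : p ≠ 2) :
    ∃ (H : Type) (_ : Group H) (_ : Finite H), Nat.card H = 2 * p ^ 3 ∧
      ∀ N : ℕ, ∃ n, N ≤ n ∧ ∃ φ : H →* Matrix.ProjectiveSpecialLinearGroup (Fin n) (ZMod p),
        Function.Injective φ ∧ Subgroup.centralizer (φ.range : Set (Matrix.ProjectiveSpecialLinearGroup (Fin n) (ZMod p))) = ⊥ := by
  refine ⟨GD p, inferInstance, inferInstance, GD.card p, ?_⟩
  intro N
  have hm : Even ((2 * N + 3) + 1) := ⟨N + 2, by ring⟩
  refine ⟨(2 * N + 3) + ((2 * N + 3) + 1), by omega, ?_⟩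
  obtain ⟨h1, h2⟩ := quot_center (rho p (2 * N + 3) hm)
    (rho_K1 p (2 * N + 3) hp (by omega) hm) (rho_K2 p (2 * N + 3) hp (by omega) hm)
  exact ⟨(QuotientGroup.mk' _).comp (rho p (2 * N + 3) hm), h1, h2⟩

end Cfsg.Agent.S2533
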