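import Cfsg.Statements.S2536
import Cfsg.Agent.Lib.Helper06.HallSym.Keys
import Cfsg.Agent.Lib.Helper66.HallSymX1
import Cfsg.Agent.Lib.Helper34.HallSymX2
import Cfsg.Agent.Lib.Helper82.HallSymX3

set_option autoImplicit false
set_option linter.unusedVariables false
open Cfsg

namespace Cfsg.Agent.S2536

open Cfsg.Agent.Lib.Helper06.HallSym

theorem result (n : ℕ) (π : Set ℕ)
    (h2 : ∃ r s : ℕ, r.Prime ∧ s.Prime ∧ r ≠ s ∧ r ∈ π ∧ s ∈ π ∧ r ≤ n ∧ s ≤ n)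
    (hns : ∃ r : ℕ, r.Prime ∧ r ≤ n ∧ r ∉ π) :
    Cfsg.IsEPiGroup π (Equiv.Perm (Fin n)) ↔
      ((n.Prime ∧ ∀ r : ℕ, r.Prime → r ≤ n → (r ∈ π ↔ r < n)) ∨
       ((n = 7 ∨ n = 8) ∧ ∀ r : ℕ, r.Prime → r ≤ n → (r ∈ π ↔ (r = 2 ∨ r = 3)))) := by
  constructor
  · intro hE
    have hC : Cls π n := cls_of_hall_aux keys n (Fin n) (by simp) π hE
    rcases hC with hT | hA | hB
    · exfalso
      obtain ⟨r, s, hr, hs, hrs, hrπ, hsπ, hrn, hsn⟩ := h2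
      obtain ⟨t, ht, htn, htπ⟩ := hns
      rcases hT with h | h
      · exact hrs (h r s hr hs hrn hsn hrπ hsπ)
      · exact htπ (h t ht htn)
    · exact Or.inl hA
    · exact Or.inr hB
  · rintro (hA | ⟨h78, hB⟩)
    · exact Cfsg.Agent.Lib.Helper66.HallSym.hall_of_typeA π n hA
    · rcases h78 with rfl | rfl
      · exact Cfsg.Agent.Lib.Helper34.HallSym.hall_seven π hB
      · exact Cfsg.Agent.Lib.Helper82.HallSym.hall_eight π hB

end Cfsg.Agent.S2536
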