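import Mathlib
import Cfsg.Statements.S2537
import Cfsg.Agent.Lib.Helper48.Hall.Main

set_option autoImplicit false
open Cfsg

namespace Cfsg.Agent.S2537

open Cfsg.Agent.Lib.Helper48.HallPSL2 Cfsg.Agent.Lib.Helper48.Dickson
  Cfsg.Agent.Lib.Helper98.DicksonMax

theorem hall23_iff {G : Type*} [Group G] (H : Subgroup G) :
    Cfsg.IsPiHall ({2, 3} : Set ℕ) H ↔ Hall23 H := Iff.rfl

/-- sufficiency: a dihedral subgroup of the right order -/
theorem exists_of_dihedral {F : Type*} [Field F] [Fintype F] (p : ℕ) [Fact p.Prime] [CharP F p]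
    (hp : 5 ≤ p) (n d : ℕ) (hn : n ≠ 0) (hd : d ∣ n)
    (hM : 2 * (2 * d) = M23 (Fintype.card F))
    (D : Subgroup (Matrix.ProjectiveSpecialLinearGroup (Fin 2) F))
    (e : D ≃* DihedralGroup n) :
    ∃ H : Subgroup (Matrix.ProjectiveSpecialLinearGroup (Fin 2) F),
      Cfsg.IsPiHall ({2, 3} : Set ℕ) H := by
  obtain ⟨K, hK⟩ := exists_dihedral_sub n d hn hd
  refine ⟨(K.map e.symm.toMonoidHom).map D.subtype, ?_⟩
  rw [hall23_iff]
  apply isPiHall_of_card p hp
  rw [Subgroup.card_map_of_injective D.subtype_injective,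
    Subgroup.card_map_of_injective e.symm.injective, hK, hM]

/-- Let `F` be a finite field with `q` elements of characteristic `p ≥ 5`, and `ε = 1` if `q ≡ 1 (mod 4)`, `ε = -1` otherwise. Then `PSL(2, F)` has a Hall `{2, 3}`-subgroup if and only if `3` divides `q − ε`, or the `{2,3}`-part of `q² − 1` is 24, or the `{2,3}`-part of `q² − 1` is 48 (the `{2,3}`-part of `m` being the largest divisor of `m` with no prime factor other than 2 and 3). -/
theorem result {F : Type*} [Field F] [Fintype F] {p : ℕ} [Fact p.Prime] [CharP F p]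
    (hp : 5 ≤ p) (q : ℕ) (hq : Fintype.card F = q) :
    (∃ H : Subgroup (Matrix.ProjectiveSpecialLinearGroup (Fin 2) F), Cfsg.IsPiHall ({2, 3} : Set ℕ) H) ↔
      (3 ∣ q - 1 ∧ q % 4 = 1) ∨ (3 ∣ q + 1 ∧ q % 4 = 3) ∨
        2 ^ (q ^ 2 - 1).factorization 2 * 3 ^ (q ^ 2 - 1).factorization 3 = 24 ∨
        2 ^ (q ^ 2 - 1).factorization 2 * 3 ^ (q ^ 2 - 1).factorization 3 = 48 := by
  subst hq
  have pp : p.Prime := Fact.out
  obtain ⟨hq2, h2, h3⟩ := card_facts (F := F) p hp
  have hgcd : Nat.gcd 2 (Fintype.card F - 1) = 2 := by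
    apply Nat.gcd_eq_left
    omega
  change _ ↔ _ ∨ _ ∨ M23 (Fintype.card F) = 24 ∨ M23 (Fintype.card F) = 48
  constructor
  · rintro ⟨H, hH⟩
    rw [hall23_iff] at hH
    have hc := card_of_isPiHall p hp H hH
    rcases Cfsg.Agent.S0799.result (F := F) rfl p H with
      ⟨k, hk, ⟨hcyc, hcard⟩ | ⟨⟨e⟩⟩⟩ | ⟨P, K, hK, ⟨e⟩⟩ | ⟨⟨e⟩⟩ | ⟨⟨e⟩⟩ | ⟨⟨e⟩⟩ | ⟨K, _, _, m, hKm, ⟨⟨e⟩⟩ | ⟨⟨e⟩⟩⟩
    · exfalso
      rw [hgcd] at hk
      rw [hcard] at hc
      exact not_cyclic_arith _ k hq2 h2 h3 hc hk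
    · rw [hgcd] at hk
      have hcard : Nat.card H = 2 * k := by
        rw [Nat.card_congr e.toEquiv, DihedralGroup.nat_card]
      rw [hcard] at hc
      rcases dihedral_arith _ k hq2 h2 h3 hc hk with h | h
      · exact Or.inl h
      · exact Or.inr (Or.inl h)
    · exact absurd (not_borel p hp H hc P K hK e) id
    · right; right; left
      rw [← hc, Nat.card_congr e.toEquiv, card_A4]
    · right; right; right
      rw [← hc, Nat.card_congr e.toEquiv, card_S4]
    · exfalso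
      have h60 : Nat.card H = 60 := by rw [Nat.card_congr e.toEquiv, card_A5]
      have := hH.1 5 (by norm_num) (by rw [h60]; norm_num)
      simp at this
    · exfalso
      have h1 := (dvd_card_subfield (F := F) p K m hKm).1
      rw [← Nat.card_congr e.toEquiv] at h1
      have hpH : p ∣ Nat.card H := by
        rcases (Nat.Prime.dvd_mul pp).1 h1 with h | h
        · exact h
        · have := Nat.le_of_dvd (by norm_num) h
          omega
      have := hH.1 p pp hpH
      simp at this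
      omega
    · exfalso
      have h1 := (dvd_card_subfield (F := F) p K m hKm).2
      rw [← Nat.card_congr e.toEquiv] at h1
      have := hH.1 p pp h1
      simp at this
      omega
  · rintro (⟨h31, h4⟩ | ⟨h31, h4⟩ | h | h)
    · obtain ⟨d, hd, hM⟩ := minus_arith _ hq2 h2 h3 h31 h4
      have hq : Fintype.card F ∉ ({2, 3, 5, 7, 9, 11} : Finset ℕ) := by
        simp only [Finset.mem_insert, Finset.mem_singleton, not_or]
        refine ⟨?_, ?_, ?_, ?_, ?_, ?_⟩ <;> omega
      obtain ⟨D, -, ⟨e⟩⟩ := torus_minus_max (F := F) p hq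
      rw [hgcd] at e
      exact exists_of_dihedral p hp _ d (by omega) hd hM D e
    · obtain ⟨d, hd, hM⟩ := plus_arith _ hq2 h2 h3 h31 h4
      have hq : Fintype.card F ∉ ({2, 7, 9} : Finset ℕ) := by
        simp only [Finset.mem_insert, Finset.mem_singleton, not_or]
        refine ⟨?_, ?_, ?_⟩ <;> omega
      obtain ⟨D, -, ⟨e⟩⟩ := torus_plus_max (tPack (F := F) p) hq
      rw [hgcd] at e
      exact exists_of_dihedral p hp _ d (by omega) hd hM D e
    · obtain ⟨n, -, hn⟩ := FiniteField.card F p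
      obtain ⟨H, ⟨e⟩⟩ := (Cfsg.Agent.S0802.result (F := F) p n hn).2 (by
        rintro ⟨rfl, -⟩; omega)
      refine ⟨H, ?_⟩
      rw [hall23_iff]
      apply isPiHall_of_card p hp
      rw [Nat.card_congr e.toEquiv, card_A4, h]
    · obtain ⟨N', hN', -, -, -⟩ := arith_M _ hq2 h2 h3
      have h16 : Fintype.card F ^ 2 % 16 = 1 := by
        have : 1 ≤ Fintype.card F ^ 2 := Nat.one_le_pow _ _ (by omega)
        rw [h] at hN'
        omega
      obtain ⟨H, ⟨e⟩⟩ := (Cfsg.Agent.S0803.result (F := F) rfl).2 h16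
      refine ⟨H, ?_⟩
      rw [hall23_iff]
      apply isPiHall_of_card p hp
      rw [Nat.card_congr e.toEquiv, card_S4, h]

end Cfsg.Agent.S2537
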