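import Cfsg.Statements.S2540
import Cfsg.Agent.Lib.Helper07.PSLSimple
import Cfsg.Agent.Lib.Helper49.RegUnipClasses

set_option autoImplicit false
open Cfsg

namespace Cfsg.Agent.S2540

open Cfsg.Agent.Lib.Helper49 Matrix

theorem core {F : Type*} [Field F] {n : ℕ}
    (hsimple : IsSimpleGroup (Matrix.ProjectiveSpecialLinearGroup (Fin n) F))
    (hperf : commutator (Matrix.SpecialLinearGroup (Fin n) F) = ⊤)
    (G : Subgroup (Matrix.GeneralLinearGroup (Fin n) F))
    (hG : ∀ s : Matrix.SpecialLinearGroup (Fin n) F, ∀ g ∈ G,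
      (Matrix.SpecialLinearGroup.toGL s) * g * (Matrix.SpecialLinearGroup.toGL s)⁻¹ ∈ G) :
    (∀ g ∈ G, ∃ c : F, (g : Matrix (Fin n) (Fin n) F) = c • (1 : Matrix (Fin n) (Fin n) F)) ∨
      (Matrix.SpecialLinearGroup.toGL : Matrix.SpecialLinearGroup (Fin n) F →* _).range ≤ G := by
  classical
  let N' : Subgroup (Matrix.SpecialLinearGroup (Fin n) F) := G.comap Matrix.SpecialLinearGroup.toGL
  have hN'normal : N'.Normal := by
    constructor
    intro x hx s
    change Matrix.SpecialLinearGroup.toGL (s * x * s⁻¹) ∈ G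
    rw [map_mul, map_mul, map_inv]
    exact hG s _ hx
  let π : Matrix.SpecialLinearGroup (Fin n) F →* Matrix.ProjectiveSpecialLinearGroup (Fin n) F :=
    QuotientGroup.mk' (Subgroup.center (Matrix.SpecialLinearGroup (Fin n) F))
  have hπsurj : Function.Surjective π := QuotientGroup.mk'_surjective _
  have hN''normal : (N'.map π).Normal := hN'normal.map π hπsurj
  rcases hN''normal.eq_bot_or_eq_top with hbot | htop
  · -- N' is central
    left
    have hN'center : N' ≤ Subgroup.center (Matrix.SpecialLinearGroup (Fin n) F) := by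
      intro x hx
      have h1 : π x ∈ N'.map π := Subgroup.mem_map_of_mem π hx
      rw [hbot, Subgroup.mem_bot] at h1
      have h2 : x ∈ π.ker := h1
      rwa [QuotientGroup.ker_mk'] at h2
    intro g hg
    have hscal : (g : Matrix (Fin n) (Fin n) F) ∈ Set.range (Matrix.scalar (Fin n)) := by
      apply Matrix.mem_range_scalar_of_commute_transvectionStruct
      intro t
      -- the transvection as an element of SL
      let ts : Matrix.SpecialLinearGroup (Fin n) F := ⟨t.toMatrix, t.det⟩
      let tG : GL (Fin n) F := Matrix.SpecialLinearGroup.toGL ts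
      have htG : (tG : Matrix (Fin n) (Fin n) F) = t.toMatrix := rfl
      -- commutator g t g⁻¹ t⁻¹ lies in G and in SL
      have hcommG : g * tG * g⁻¹ * tG⁻¹ ∈ G := by
        have h1 : tG * g⁻¹ * tG⁻¹ ∈ G := hG ts _ (G.inv_mem hg)
        have h2 : g * (tG * g⁻¹ * tG⁻¹) ∈ G := G.mul_mem hg h1
        have : g * tG * g⁻¹ * tG⁻¹ = g * (tG * g⁻¹ * tG⁻¹) := by group
        rw [this]; exact h2
      have hdet1 : ((g * tG * g⁻¹ * tG⁻¹ : GL (Fin n) F) : Matrix (Fin n) (Fin n) F).det = 1 := by
        have h1 : Matrix.GeneralLinearGroup.det (g * tG * g⁻¹ * tG⁻¹) = 1 := by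
          rw [map_mul, map_mul, map_mul, map_inv, map_inv]
          have : ∀ a b : Fˣ, a * b * a⁻¹ * b⁻¹ = 1 := by intro a b; rw [mul_comm a b]; group
          exact this _ _
        have h2 := congrArg Units.val h1
        rw [Matrix.GeneralLinearGroup.val_det_apply] at h2
        exact h2
      let cs : Matrix.SpecialLinearGroup (Fin n) F := ⟨_, hdet1⟩
      have hcs : Matrix.SpecialLinearGroup.toGL cs = g * tG * g⁻¹ * tG⁻¹ := by
        apply Units.ext; rfl
      have hcsN : cs ∈ N' := by
        change Matrix.SpecialLinearGroup.toGL cs ∈ G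
        rw [hcs]; exact hcommG
      obtain ⟨ζ, _, hζ⟩ := Matrix.SpecialLinearGroup.mem_center_iff.mp (hN'center hcsN)
      -- so g * t * g⁻¹ = ζ • t
      have hζ' : (g * tG * g⁻¹ * tG⁻¹ : GL (Fin n) F) = Matrix.GeneralLinearGroup.mkOfDetNeZero (Matrix.scalar (Fin n) ζ) (by
          rw [hζ]; rw [cs.2]; exact one_ne_zero) := by
        apply Units.ext
        change ((g * tG * g⁻¹ * tG⁻¹ : GL (Fin n) F) : Matrix (Fin n) (Fin n) F) = Matrix.scalar (Fin n) ζ
        rw [hζ]
      have hconj : (g : Matrix (Fin n) (Fin n) F) * t.toMatrix * ((g⁻¹ : GL (Fin n) F) : Matrix (Fin n) (Fin n) F)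
          = Matrix.scalar (Fin n) ζ * t.toMatrix := by
        have h1 : g * tG * g⁻¹ = (g * tG * g⁻¹ * tG⁻¹) * tG := by group
        have h2 := congrArg (fun x : GL (Fin n) F => (x : Matrix (Fin n) (Fin n) F)) h1
        simp only [Units.val_mul] at h2
        rw [htG] at h2
        rw [h2]
        congr 1
        have h3 := congrArg (fun x : GL (Fin n) F => (x : Matrix (Fin n) (Fin n) F)) hζ'
        simp only [Units.val_mul] at h3
        rw [htG] at h3
        exact h3
      -- t = 1 + E with E^2 = 0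
      set E : Matrix (Fin n) (Fin n) F := t.toMatrix - 1 with hE
      have ht1 : t.toMatrix = 1 + E := by rw [hE]; abel
      have hE2 : E * E = 0 := by
        rw [hE, Matrix.TransvectionStruct.toMatrix, Matrix.transvection, add_sub_cancel_left]
        rw [Matrix.single_mul_single_of_ne]
        exact t.hij.symm
      have hginv : (g : Matrix (Fin n) (Fin n) F) * ((g⁻¹ : GL (Fin n) F) : Matrix (Fin n) (Fin n) F) = 1 := by
        rw [← Units.val_mul, mul_inv_cancel]; rfl
      -- determinants
      have hdetE : E.det = 0 := by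
        haveI : Nonempty (Fin n) := ⟨t.i⟩
        have : (E * E).det = 0 := by rw [hE2, Matrix.det_zero]
        rw [Matrix.det_mul] at this
        exact mul_self_eq_zero.mp this
      have hleft : ((g : Matrix (Fin n) (Fin n) F) * E * ((g⁻¹ : GL (Fin n) F) : Matrix (Fin n) (Fin n) F)).det = 0 := by
        rw [Matrix.det_mul, Matrix.det_mul, hdetE]; simp
      have hkey : (g : Matrix (Fin n) (Fin n) F) * E * ((g⁻¹ : GL (Fin n) F) : Matrix (Fin n) (Fin n) F)
          = algebraMap F (Matrix (Fin n) (Fin n) F) (ζ - 1) + ζ • E := by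
        have h1 : (g : Matrix (Fin n) (Fin n) F) * (1 + E) * ((g⁻¹ : GL (Fin n) F) : Matrix (Fin n) (Fin n) F)
            = 1 + (g : Matrix (Fin n) (Fin n) F) * E * ((g⁻¹ : GL (Fin n) F) : Matrix (Fin n) (Fin n) F) := by
          rw [mul_add, add_mul, mul_one, hginv]
        rw [ht1, h1] at hconj
        have h2 : (g : Matrix (Fin n) (Fin n) F) * E * ((g⁻¹ : GL (Fin n) F) : Matrix (Fin n) (Fin n) F)
            = Matrix.scalar (Fin n) ζ * (1 + E) - 1 := by
          rw [← hconj]; abel
        rw [h2, mul_add, mul_one]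
        have h3 : Matrix.scalar (Fin n) ζ = algebraMap F (Matrix (Fin n) (Fin n) F) ζ := rfl
        rw [h3, map_sub, map_one, Algebra.algebraMap_eq_smul_one, smul_mul_assoc, one_mul]
        abel
      have hnil : IsNilpotent (ζ • E) := ⟨2, by rw [pow_two, smul_mul_smul_comm, hE2, smul_zero]⟩
      have hdetr := det_scalar_add_nilpotent (ζ - 1) (ζ • E) hnil
      rw [← hkey, hleft] at hdetr
      have hζ1 : ζ = 1 := by
        have : ζ - 1 = 0 := by
          by_contra hne
          exact pow_ne_zero n hne hdetr.symm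
        exact sub_eq_zero.mp this
      rw [hζ1, map_one, one_mul] at hconj
      -- commute
      change t.toMatrix * (g : Matrix (Fin n) (Fin n) F) = (g : Matrix (Fin n) (Fin n) F) * t.toMatrix
      have hginv' : ((g⁻¹ : GL (Fin n) F) : Matrix (Fin n) (Fin n) F) * (g : Matrix (Fin n) (Fin n) F) = 1 := by
        rw [← Units.val_mul, inv_mul_cancel]; rfl
      calc t.toMatrix * (g : Matrix (Fin n) (Fin n) F)
          = ((g : Matrix (Fin n) (Fin n) F) * t.toMatrix * ((g⁻¹ : GL (Fin n) F) : Matrix (Fin n) (Fin n) F)) * (g : Matrix (Fin n) (Fin n) F) := by rw [hconj]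
        _ = (g : Matrix (Fin n) (Fin n) F) * t.toMatrix * (((g⁻¹ : GL (Fin n) F) : Matrix (Fin n) (Fin n) F) * (g : Matrix (Fin n) (Fin n) F)) := by simp only [mul_assoc]
        _ = (g : Matrix (Fin n) (Fin n) F) * t.toMatrix := by rw [hginv', mul_one]
    obtain ⟨c, hc⟩ := hscal
    refine ⟨c, ?_⟩
    rw [← hc]
    ext i j
    simp [Matrix.scalar_apply, Matrix.diagonal_apply, Matrix.one_apply]
  · -- N' Z = SL, so N' = SL
    right
    have hsup : N' ⊔ Subgroup.center (Matrix.SpecialLinearGroup (Fin n) F) = ⊤ := by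
      rw [eq_top_iff]
      intro s _
      have h1 : π s ∈ N'.map π := by rw [htop]; trivial
      obtain ⟨x, hx, hxs⟩ := h1
      have h2 : x⁻¹ * s ∈ Subgroup.center (Matrix.SpecialLinearGroup (Fin n) F) := by
        rw [← QuotientGroup.ker_mk' (Subgroup.center (Matrix.SpecialLinearGroup (Fin n) F))]
        change π (x⁻¹ * s) = 1
        rw [map_mul, map_inv, hxs, inv_mul_cancel]
      have : s = x * (x⁻¹ * s) := by group
      rw [this]
      exact Subgroup.mul_mem_sup hx h2
    have hcomm := hN'normal.commutator_le_of_self_sup_commutative_eq_top hsup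
      (inferInstance : IsMulCommutative (Subgroup.center (Matrix.SpecialLinearGroup (Fin n) F)))
    rw [hperf] at hcomm
    rintro _ ⟨s, rfl⟩
    exact hcomm (Subgroup.mem_top s)

theorem result {F : Type*} [Field F] [Fintype F] (n : ℕ) (hn : 1 ≤ n) (hex : ¬ (n = 2 ∧ Fintype.card F ≤ 3)) (G : Subgroup (Matrix.GeneralLinearGroup (Fin n) F)) (hG : ∀ s : Matrix.SpecialLinearGroup (Fin n) F, ∀ g ∈ G, (Matrix.SpecialLinearGroup.toGL s) * g * (Matrix.SpecialLinearGroup.toGL s)⁻¹ ∈ G) : (∀ g ∈ G, ∃ c : F, (g : Matrix (Fin n) (Fin n) F) = c • (1 : Matrix (Fin n) (Fin n) F)) ∨ (Matrix.SpecialLinearGroup.toGL : Matrix.SpecialLinearGroup (Fin n) F →* _).range ≤ G := by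
  rcases Nat.lt_or_ge n 2 with h1 | h2
  · -- n = 1
    have : n = 1 := by omega
    subst this
    left
    intro g _
    refine ⟨(g : Matrix (Fin 1) (Fin 1) F) 0 0, ?_⟩
    ext i j
    have hi : i = 0 := Subsingleton.elim _ _
    have hj : j = 0 := Subsingleton.elim _ _
    subst hi hj
    simp
  · rcases Nat.lt_or_ge n 3 with h3 | h3
    · have hn2 : n = 2 := by omega
      subst hn2
      have hcard : 4 ≤ Nat.card F := by
        rw [Nat.card_eq_fintype_card]
        by_contra hcon
        exact hex ⟨rfl, by omega⟩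
      have hsimple := Matrix.ProjectiveSpecialLinearGroup.rank_two_simple (F := F) hcard
      -- existence of a with a ≠ 0, a^2 ≠ 1
      obtain ⟨a, ha, hasq⟩ : ∃ a : F, a ≠ 0 ∧ a ^ 2 ≠ 1 := by
        classical
        obtain ⟨x, hx⟩ := IsCyclic.exists_generator (α := Fˣ)
        refine ⟨x, Units.ne_zero x, fun h => ?_⟩
        have h1 : orderOf x ≤ 2 := orderOf_le_of_pow_eq_one zero_lt_two (Units.ext <| by simpa using h)
        rw [orderOf_eq_card_of_forall_mem_zpowers hx, Nat.card_eq_fintype_card, Fintype.card_units] at h1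
        rw [Nat.card_eq_fintype_card] at hcard
        omega
      exact core hsimple (SL2.commutator_eq_top ha hasq) G hG
    · have hcard3 : 3 ≤ Fintype.card (Fin n) := by simpa using h3
      exact core (Cfsg.Agent.Lib.Helper07.psl_isSimpleGroup hcard3)
        (Cfsg.Agent.Lib.Helper07.commutator_sl_eq_top hcard3) G hG

end Cfsg.Agent.S2540
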