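import Cfsg.Statements.S2541

set_option autoImplicit false
open Cfsg

namespace Cfsg.Agent.S2541

open scoped MatrixGroups

theorem no_order_eight (σ : Equiv.Perm (Fin 6)) : orderOf σ ≠ 8 := by
  intro h
  have h4 : orderOf σ ∣ 4 := by
    rw [← Equiv.Perm.lcm_cycleType]
    apply Multiset.lcm_dvd.mpr
    intro c hc
    have h1 : c ∣ 8 := h ▸ Equiv.Perm.dvd_of_mem_cycleType hc
    have h2 : c ≤ 6 := by
      have := Equiv.Perm.le_card_support_of_mem_cycleType hc
      have h3 : σ.support.card ≤ Fintype.card (Fin 6) := Finset.card_le_univ _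
      simp at h3
      omega
    have h3 : c ∈ Nat.divisors 8 := by simp [h1]
    have h5 : Nat.divisors 8 = {1, 2, 4, 8} := by decide
    rw [h5] at h3
    simp at h3
    rcases h3 with rfl | rfl | rfl | rfl <;> omega
  rw [h] at h4
  omega

theorem result {F : Type*} [Field F] [Fintype F] (hF : Fintype.card F = 9) : ¬ Nonempty (Equiv.Perm (Fin 6) ≃* Matrix.ProjGenLinGroup (Fin 2) F) := by
  rintro ⟨e⟩
  classical
  obtain ⟨ζ, hζ⟩ := IsCyclic.exists_generator (α := Fˣ)
  have hord : orderOf ζ = 8 := by
    rw [orderOf_eq_card_of_forall_mem_zpowers hζ, Nat.card_eq_fintype_card, Fintype.card_units, hF]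
  let g : GL (Fin 2) F := Matrix.GeneralLinearGroup.mkOfDetNeZero (Matrix.diagonal ![(ζ : F), 1]) (by simp)
  let x : Matrix.ProjGenLinGroup (Fin 2) F := Matrix.ProjGenLinGroup.mk g
  have hx : orderOf x = 8 := by
    rw [← hord]
    apply orderOf_eq_orderOf_iff.mpr
    intro k
    rw [← map_pow, Matrix.ProjGenLinGroup.mk_eq_one, Matrix.GeneralLinearGroup.center_eq_range_scalar]
    constructor
    · rintro ⟨u, hu⟩
      have h1 := congrArg (fun m : GL (Fin 2) F => (m : Matrix (Fin 2) (Fin 2) F)) hu
      simp only [Matrix.GeneralLinearGroup.coe_scalar, Units.val_pow_eq_pow_val] at h1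
      have h00 := congrFun (congrFun h1 0) 0
      have h11 := congrFun (congrFun h1 1) 1
      simp [g, Matrix.diagonal_pow] at h00 h11
      rw [h11] at h00
      ext
      simp [← h00]
    · intro h
      refine ⟨1, ?_⟩
      ext i j
      simp [g, Matrix.diagonal_pow]
      fin_cases i <;> fin_cases j <;> simp [Matrix.diagonal, ← Units.val_pow_eq_pow_val, h]
  have : orderOf (e.symm x) = 8 := by
    rw [MulEquiv.orderOf_eq e.symm x, hx]
  exact no_order_eight _ this

end Cfsg.Agent.S2541
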