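import Mathlib
import Cfsg.Statements.S2542
import Cfsg.Agent.Lib.Helper48.L211.TwoTrans
import Cfsg.Agent.Lib.Helper48.PSL2Spec
import Cfsg.Agent.Lib.Helper19.DicksonUse
import Cfsg.Agent.Lib.Helper98.DicksonMax
import Cfsg.Agent.S0804

set_option autoImplicit false
open Cfsg

namespace Cfsg.Agent.S2542

/-- a field with `11` elements has characteristic `11` -/
theorem charP_of_card {F : Type*} [Field F] [Fintype F] (hF : Fintype.card F = 11) : CharP F 11 := by
  obtain ⟨p, hp⟩ := CharP.exists F
  obtain ⟨n, hpp, hn⟩ := FiniteField.card F p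
  rw [hF] at hn
  have h11 : p ∣ 11 := by
    rw [hn]; exact dvd_pow_self p n.ne_zero
  have : p = 11 := by
    rcases (Nat.dvd_prime (by norm_num : Nat.Prime 11)).1 h11 with h | h
    · exact absurd h hpp.one_lt.ne'
    · exact h
  rw [← this]; exact hp

/-- Let F be a field with 11 elements. PSL_2(F) has a subgroup H of index 11 isomorphic to the alternating group A_5, and the action of PSL_2(F) on the cosets of H is 2-transitive (of degree 11). -/
theorem result {F : Type*} [Field F] [Fintype F] (hF : Fintype.card F = 11) : ∃ H : Subgroup (Matrix.ProjectiveSpecialLinearGroup (Fin 2) F), H.index = 11 ∧ Nonempty (H ≃* alternatingGroup (Fin 5)) ∧ MulAction.IsMultiplyPretransitive (Matrix.ProjectiveSpecialLinearGroup (Fin 2) F) ((Matrix.ProjectiveSpecialLinearGroup (Fin 2) F) ⧸ H) 2 := by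
  have hch : CharP F 11 := charP_of_card hF
  have : Fact (Nat.Prime 11) := ⟨by norm_num⟩
  obtain ⟨H, ⟨e⟩⟩ := (Cfsg.Agent.S0804.result (F := F) hF).2 (by norm_num)
  have hG : Nat.card (Matrix.ProjectiveSpecialLinearGroup (Fin 2) F) = 660 := by
    have := Cfsg.Agent.Lib.Helper98.DicksonMax.card_psl2_odd (F := F) (by rw [hF]; decide)
    rw [hF] at this
    norm_num at this
    omega
  have hH : Nat.card H = 60 := by
    rw [Nat.card_congr e.toEquiv, Cfsg.Agent.Lib.Helper98.DicksonMax.card_A5]
  have hidx : H.index = 11 := by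
    have := Subgroup.card_mul_index H
    rw [hH, hG] at this
    omega
  have hN : Nat.card (Cfsg.Agent.Lib.Helper19.DicksonUse.Bbar F) = 55 := by
    have h1 := Subgroup.card_mul_index (Cfsg.Agent.Lib.Helper19.DicksonUse.Bbar F)
    rw [Cfsg.Agent.Lib.Helper19.DicksonUse.index_Bbar, hG, hF] at h1
    omega
  have h55 : ∀ g : Matrix.ProjectiveSpecialLinearGroup (Fin 2) F, orderOf g ≠ 55 := by
    intro g hg
    have := Cfsg.Agent.Lib.Helper48.psl2_orderOf_dvd 11 g
    rw [hg, hF] at this
    norm_num at this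
  have hs : IsSimpleGroup (Matrix.ProjectiveSpecialLinearGroup (Fin 2) F) :=
    Matrix.ProjectiveSpecialLinearGroup.rank_two_simple (by
      rw [Nat.card_eq_fintype_card, hF]; norm_num)
  exact ⟨H, hidx, ⟨e⟩, Cfsg.Agent.Lib.Helper48.L211.two_trans H _ hH hidx hN h55⟩

end Cfsg.Agent.S2542
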