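import Cfsg.Statements.S2543
import Cfsg.Agent.Lib.Helper62.PSL211Main
import Cfsg.Agent.Lib.Helper62.PSL2RecogData
-- import your own Cfsg.Agent.* helpers here

set_option autoImplicit false
open scoped Pointwise
open Cfsg

namespace Cfsg.Agent.S2543

/-- Let F be a field with 11 elements. PSL_2(F) has exactly 22 subgroups isomorphic to the alternating group A_5, and they form two conjugacy classes: there are two such subgroups that are not conjugate, and every such subgroup is conjugate to one of these two. -/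
theorem result {F : Type*} [Field F] [Fintype F] (hF : Fintype.card F = 11) : Nat.card {H : Subgroup (Matrix.ProjectiveSpecialLinearGroup (Fin 2) F) // Nonempty (H ≃* alternatingGroup (Fin 5))} = 22 ∧ ∃ H K : Subgroup (Matrix.ProjectiveSpecialLinearGroup (Fin 2) F), Nonempty (H ≃* alternatingGroup (Fin 5)) ∧ Nonempty (K ≃* alternatingGroup (Fin 5)) ∧ (∀ g : Matrix.ProjectiveSpecialLinearGroup (Fin 2) F, MulAut.conj g • H ≠ K) ∧ ∀ L : Subgroup (Matrix.ProjectiveSpecialLinearGroup (Fin 2) F), Nonempty (L ≃* alternatingGroup (Fin 5)) → ∃ g : Matrix.ProjectiveSpecialLinearGroup (Fin 2) F, MulAut.conj g • L = H ∨ MulAut.conj g • L = K := by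
  classical
  have : Fact (Nat.Prime 11) := ⟨by norm_num⟩
  have hsimple : IsSimpleGroup (Matrix.ProjectiveSpecialLinearGroup (Fin 2) F) :=
    Matrix.ProjectiveSpecialLinearGroup.rank_two_simple
      (by rw [Nat.card_eq_fintype_card, hF]; norm_num)
  have hcard : Nat.card (Matrix.ProjectiveSpecialLinearGroup (Fin 2) F) = (11 + 1) * (11 * 5) := by
    have h1 := Cfsg.Agent.Lib.Helper07.card_psl_two (F := F)
    rw [hF] at h1
    have e1 : Nat.gcd 2 (11 - 1) = 2 := by decide
    have e2 : (11 : ℕ) - 1 = 10 := rfl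
    have e3 : ((11 : ℕ) ^ 2 - 1) * (11 ^ 2 - 11) = 13200 := by norm_num
    rw [e1, e2, e3] at h1
    omega
  obtain ⟨Γ, hΓ, ⟨e⟩⟩ := Cfsg.Agent.Lib.Helper62.PSL2Recog.exists_cand
    (K := Matrix.ProjectiveSpecialLinearGroup (Fin 2) F) 11 5 (by norm_num) (by norm_num) hcard
    (Cfsg.Agent.Lib.Helper62.PSL2Recog.arith_of_bounded 11 5 (by norm_num) (by decide))
  let ι : Matrix.ProjectiveSpecialLinearGroup (Fin 2) F →* Equiv.Perm (Option (ZMod 11)) :=
    Γ.subtype.comp e.toMonoidHom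
  have hι : Function.Injective ι := fun a b hab => e.injective (Subtype.ext hab)
  have hrange : ι.range = Γ := by
    ext x
    constructor
    · rintro ⟨k, rfl⟩
      exact (e k).2
    · intro hx
      exact ⟨e.symm ⟨x, hx⟩, by simp [ι]⟩
  have hΓ' : Cfsg.Agent.Lib.Helper62.PSL2Recog.IsCand 11 5 ι.range := by rw [hrange]; exact hΓ
  have hsr := Cfsg.Agent.Lib.Helper62.PSL211.range_simple ι hι
  obtain ⟨dK, hdK⟩ := Cfsg.Agent.Lib.Helper62.PSL211.d_mem hΓ'
  obtain ⟨s1K, hs1K⟩ := Cfsg.Agent.Lib.Helper62.PSL211.s1_mem hΓ'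
  obtain ⟨s2K, hs2K⟩ := Cfsg.Agent.Lib.Helper62.PSL211.s2_mem hΓ'
  obtain ⟨tK, htK⟩ := Cfsg.Agent.Lib.Helper62.PSL211.t0_mem hΓ'
  exact Cfsg.Agent.Lib.Helper62.PSL211.main ι hι hΓ' dK s1K s2K tK hdK hs1K hs2K htK

end Cfsg.Agent.S2543
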