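import Cfsg.Statements.S2544
import Cfsg.Agent.Lib.Helper47.SteinbergSL
import Cfsg.Agent.Lib.Helper83.Quotient
import Cfsg.Agent.Lib.Helper82.DefectZero

set_option autoImplicit false
open Cfsg

namespace Cfsg.Agent.S2544

/-- Let F be a finite field of characteristic p and consider the projective special linear group PSL_n(F) with n ≥ 2. This group has an irreducible complex character χ whose degree equals the order of a Sylow p-subgroup (namely q^(n(n−1)/2) when #F = q) and whose restriction to any Sylow p-subgroup P is the regular character of P: χ vanishes on the non-identity elements of P. (This is the Steinberg character.) -/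
theorem result {F : Type*} [Field F] [Fintype F] (p : ℕ) [Fact p.Prime] [CharP F p] (n : ℕ) (hn : 2 ≤ n) : ∃ χ : Matrix.ProjectiveSpecialLinearGroup (Fin n) F → ℂ, Cfsg.IsIrrCharacter (Matrix.ProjectiveSpecialLinearGroup (Fin n) F) χ ∧ ∀ P : Sylow p (Matrix.ProjectiveSpecialLinearGroup (Fin n) F), χ 1 = Nat.card P ∧ ∀ x : Matrix.ProjectiveSpecialLinearGroup (Fin n) F, x ∈ P → x ≠ 1 → χ x = 0 := by
  classical
  have hn0 : 0 < n := by omega
  have hirr := Lib.Helper47.steinbergSL_irr (F := F) hn0
  obtain ⟨ψ, hψ, hψχ⟩ := Lib.Helper83.exists_isIrrCharacter_quotient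
    (Subgroup.center (Matrix.SpecialLinearGroup (Fin n) F)) hirr
    (fun z hz => Lib.Helper47.steinbergSL_center z hz)
  have hψ1 : ψ 1 = ((Fintype.card F ^ n.choose 2 : ℕ) : ℂ) := by
    have := hψχ 1
    rw [Lib.Helper47.steinbergSL_one] at this
    exact this
  have hpow := Lib.Helper47.pow_factorization_card_psl (F := F) p n (by omega)
  refine ⟨ψ, hψ, ?_⟩
  intro P
  have hcardP : Nat.card P = Fintype.card F ^ n.choose 2 := by
    rw [Sylow.card_eq_multiplicity, hpow]
  refine ⟨by rw [hψ1, hcardP], ?_⟩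
  intro x hx hx1
  have hp : p.Prime := Fact.out
  obtain ⟨M, hM⟩ := Lib.Helper82.exists_isPModular p hp
  have hdeg : Cfsg.charDegree ψ = Fintype.card F ^ n.choose 2 := by
    unfold Cfsg.charDegree
    rw [hψ1, Complex.natCast_re, Nat.floor_natCast]
  have hnd : ¬ p ∣ Nat.card (Matrix.ProjectiveSpecialLinearGroup (Fin n) F) /
      Cfsg.charDegree ψ := by
    rw [hdeg, ← hpow]
    exact Nat.not_dvd_ordCompl hp Nat.card_pos.ne'
  have hblock := Lib.Helper82.blockOf_eq_singleton_of_not_dvd hM ⟨ψ, hψ⟩ hnd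
  have hox : p ∣ orderOf x := by
    obtain ⟨k, hk⟩ := (IsPGroup.iff_orderOf.mp P.isPGroup') ⟨x, hx⟩
    rw [Subgroup.orderOf_mk] at hk
    rw [hk]
    apply dvd_pow_self
    rintro rfl
    rw [pow_zero, orderOf_eq_one_iff] at hk
    exact hx1 hk
  exact Lib.Helper82.eq_zero_of_blockOf_eq_singleton hM ⟨ψ, hψ⟩ hblock x hox

end Cfsg.Agent.S2544
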