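import Mathlib
import Cfsg.Statements.S2550
import Cfsg.Agent.S0819
import Cfsg.Agent.Lib.Helper07.SLCard

set_option autoImplicit false
open Cfsg

namespace Cfsg.Agent.S2550

open Matrix Cfsg.Agent.Lib.Helper07

/-- companion matrix of `x^4+x+1` over `ZMod 2`. -/
def compMat : Matrix (Fin 4) (Fin 4) (ZMod 2) := !![0,0,0,1; 1,0,0,1; 0,1,0,0; 0,0,1,0]

theorem compMat_det : compMat.det = 1 := by decide

def compSL : SpecialLinearGroup (Fin 4) (ZMod 2) := ⟨compMat, compMat_det⟩

theorem compMat_pow3 : compMat ^ 3 ≠ 1 := by decide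
theorem compMat_pow5 : compMat ^ 5 ≠ 1 := by decide
theorem compMat_pow15 : compMat ^ 15 = 1 := by decide

theorem orderOf_compSL : orderOf compSL = 15 := by
  have hp : ∀ k : ℕ, compSL ^ k = 1 ↔ compMat ^ k = 1 := by
    intro k
    have hc : ((compSL ^ k : SpecialLinearGroup (Fin 4) (ZMod 2)) : Matrix (Fin 4) (Fin 4) (ZMod 2))
        = compMat ^ k := rfl
    constructor
    · intro h
      rw [← hc, h]; rfl
    · intro h
      apply Subtype.ext
      rw [hc, h]; rfl
  apply orderOf_eq_of_pow_and_pow_div_prime (by norm_num)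
  · exact (hp 15).2 compMat_pow15
  · intro p hp' hdvd
    have hp15 : p ∣ 15 := hdvd
    have hple : p ≤ 15 := Nat.le_of_dvd (by norm_num) hdvd
    interval_cases p <;> first | (exfalso; revert hp'; decide) | (exfalso; revert hdvd; decide) | skip
    · intro h; exact compMat_pow5 ((hp 5).1 h)
    · intro h; exact compMat_pow3 ((hp 3).1 h)

theorem exists_orderOf_fifteen {F : Type*} [Field F] [Fintype F] (hF : Fintype.card F = 2) :
    ∃ g : ProjectiveSpecialLinearGroup (Fin 4) F, orderOf g = 15 := by
  have e : ZMod 2 ≃+* F := ZMod.ringEquivOfPrime F Nat.prime_two hF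
  let φ : SpecialLinearGroup (Fin 4) (ZMod 2) →* SpecialLinearGroup (Fin 4) F :=
    SpecialLinearGroup.map e.toRingHom
  have hφ : Function.Injective φ := by
    intro a b hab
    apply Subtype.ext
    ext i j
    have := congrArg (fun m : SpecialLinearGroup (Fin 4) F => m.1 i j) hab
    simp only [φ, SpecialLinearGroup.map_apply_coe, RingHom.mapMatrix_apply,
      Matrix.map_apply] at this
    exact e.injective this
  have hcen : Subgroup.center (SpecialLinearGroup (Fin 4) F) = ⊥ := by
    apply Subgroup.eq_bot_of_card_eq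
    rw [card_center_sl 4 (by norm_num), hF]
    norm_num
  let ψ : SpecialLinearGroup (Fin 4) F →* ProjectiveSpecialLinearGroup (Fin 4) F :=
    QuotientGroup.mk' _
  have hψ : Function.Injective ψ := by
    rw [← MonoidHom.ker_eq_bot_iff, QuotientGroup.ker_mk', hcen]
  refine ⟨ψ (φ compSL), ?_⟩
  rw [orderOf_injective ψ hψ, orderOf_injective φ hφ, orderOf_compSL]

/-- Let F be a field with 2 elements and K a field with 4 elements. PSL_4(F) and PSL_3(K) have the same order (20160) but are not isomorphic. -/
theorem result {F K : Type*} [Field F] [Fintype F] [Field K] [Fintype K] (hF : Fintype.card F = 2) (hK : Fintype.card K = 4) : Nat.card (Matrix.ProjectiveSpecialLinearGroup (Fin 4) F) = Nat.card (Matrix.ProjectiveSpecialLinearGroup (Fin 3) K) ∧ ¬ Nonempty (Matrix.ProjectiveSpecialLinearGroup (Fin 4) F ≃* Matrix.ProjectiveSpecialLinearGroup (Fin 3) K) := by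
  constructor
  · have h1 := card_psl_mul (F := F) 4 (by norm_num)
    have h2 := card_psl_mul (F := K) 3 (by norm_num)
    rw [hF, Fin.prod_univ_four] at h1
    rw [hK, Fin.prod_univ_three] at h2
    norm_num at h1 h2
    omega
  · rintro ⟨e⟩
    obtain ⟨g, hg⟩ := exists_orderOf_fifteen hF
    exact Cfsg.Agent.S0819.result hK (e g) (by rw [MulEquiv.orderOf_eq]; exact hg)

end Cfsg.Agent.S2550
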