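import Cfsg.Statements.S2552

set_option autoImplicit false
open Cfsg

namespace Cfsg.Agent.S2552

open Module

theorem exists_equiv_map {F V : Type*} [Field F] [AddCommGroup V] [Module F V] [FiniteDimensional F V]
    (U₁ U₂ : Submodule F V) (h : finrank F U₁ = finrank F U₂) :
    ∃ e : V ≃ₗ[F] V, U₁.map (e : V →ₗ[F] V) = U₂ := by
  obtain ⟨W₁, h1⟩ := Submodule.exists_isCompl U₁
  obtain ⟨W₂, h2⟩ := Submodule.exists_isCompl U₂
  have hW : finrank F W₁ = finrank F W₂ := by
    have e1 := Submodule.finrank_add_eq_of_isCompl h1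
    have e2 := Submodule.finrank_add_eq_of_isCompl h2
    omega
  let a : U₁ ≃ₗ[F] U₂ := LinearEquiv.ofFinrankEq U₁ U₂ h
  let b : W₁ ≃ₗ[F] W₂ := LinearEquiv.ofFinrankEq W₁ W₂ hW
  let e : V ≃ₗ[F] V := (U₁.prodEquivOfIsCompl W₁ h1).symm ≪≫ₗ (a.prodCongr b) ≪≫ₗ (U₂.prodEquivOfIsCompl W₂ h2)
  refine ⟨e, ?_⟩
  apply Submodule.eq_of_le_of_finrank_eq
  · rintro _ ⟨x, hx, rfl⟩
    have : e x = (a ⟨x, hx⟩ : V) := by
      simp only [e, LinearEquiv.trans_apply]
      have := Submodule.prodEquivOfIsCompl_symm_apply_left (p := U₁) (q := W₁) h1 ⟨x, hx⟩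
      simp only at this
      rw [this]
      simp
    change e x ∈ U₂
    rw [this]
    exact (a ⟨x, hx⟩).2
  · rw [← h]
    exact LinearEquiv.finrank_map_eq e U₁

theorem result {F : Type*} [Field F] [Fintype F] (n : ℕ) (hn : 1 ≤ n) (U₁ U₂ : Submodule F (Fin n → F)) (h : Module.finrank F U₁ = Module.finrank F U₂) : ∃ g : Matrix.SpecialLinearGroup (Fin n) F, U₁.map ((Matrix.SpecialLinearGroup.toLin' g : (Fin n → F) ≃ₗ[F] (Fin n → F)) : (Fin n → F) →ₗ[F] (Fin n → F)) = U₂ := by
  classical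
  by_cases hbot : U₁ = ⊥
  · refine ⟨1, ?_⟩
    have h2 : U₂ = ⊥ := by
      rw [hbot] at h
      simp at h
      exact Submodule.finrank_eq_zero.mp h.symm
    rw [hbot, h2]
    simp
  · obtain ⟨v, hvU, hv0⟩ := Submodule.exists_mem_ne_zero_of_ne_bot hbot
    obtain ⟨i, hi⟩ : ∃ i, v i ≠ 0 := by
      by_contra hcon
      push Not at hcon
      exact hv0 (funext hcon)
    obtain ⟨e, he⟩ := exists_equiv_map U₁ U₂ h
    set E : Matrix (Fin n) (Fin n) F := LinearMap.toMatrix' (e : (Fin n → F) →ₗ[F] (Fin n → F)) with hE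
    have hEdet : E.det ≠ 0 := by
      rw [hE, LinearMap.det_toMatrix']
      exact (LinearEquiv.isUnit_det' e).ne_zero
    set c : F := (E.det)⁻¹ with hc
    let φ : Fin n → F := Pi.single i (v i)⁻¹
    have hφ : φ ⬝ᵥ v = 1 := by
      simp [φ, hi]
    set M : Matrix (Fin n) (Fin n) F := 1 + Matrix.replicateCol Unit ((c - 1) • v) * Matrix.replicateRow Unit φ with hM
    have hMdet : M.det = c := by
      rw [hM, Matrix.det_one_add_replicateCol_mul_replicateRow]
      simp [hφ]
    have hMv : ∀ x, M.mulVec x = x + ((c - 1) * (φ ⬝ᵥ x)) • v := by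
      intro x
      rw [hM, Matrix.add_mulVec, Matrix.one_mulVec]
      congr 1
      ext j
      simp [Matrix.mulVec, Matrix.mul_apply, dotProduct, Finset.mul_sum, Finset.sum_mul]
      apply Finset.sum_congr rfl
      intro k _
      ring
    have hdet : (E * M).det = 1 := by
      rw [Matrix.det_mul, hMdet, hc, mul_inv_cancel₀ hEdet]
    let g : Matrix.SpecialLinearGroup (Fin n) F := ⟨E * M, hdet⟩
    refine ⟨g, ?_⟩
    rw [Matrix.SpecialLinearGroup.toLin'_to_linearMap]
    change Submodule.map (Matrix.toLin' (E * M)) U₁ = U₂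
    rw [Matrix.toLin'_mul, Submodule.map_comp]
    have hMU : Submodule.map (Matrix.toLin' M) U₁ = U₁ := by
      have hle : Submodule.map (Matrix.toLin' M) U₁ ≤ U₁ := by
        rintro _ ⟨x, hx, rfl⟩
        rw [Matrix.toLin'_apply, hMv]
        exact U₁.add_mem hx (U₁.smul_mem _ hvU)
      apply Submodule.eq_of_le_of_finrank_eq hle
      have hinj : Function.Injective (Matrix.toLin' M) := by
        rw [Matrix.toLin'_apply']
        apply Matrix.mulVec_injective_of_isUnit
        rw [Matrix.isUnit_iff_isUnit_det, hMdet, hc]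
        exact (isUnit_iff_ne_zero.mpr (inv_ne_zero hEdet))
      exact (Submodule.equivMapOfInjective _ hinj U₁).finrank_eq.symm
    rw [hMU, hE, Matrix.toLin'_toMatrix']
    exact he

end Cfsg.Agent.S2552
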