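import Cfsg.Statements.S2553
import Cfsg.Agent.Lib.Helper72.G42Defs
import Cfsg.Agent.Lib.Helper72.G42L56Main
import Cfsg.Agent.Lib.Helper42.G42L1
import Cfsg.Agent.Lib.Helper54.G42L2
import Cfsg.Agent.Lib.Helper55.G42L3a
import Cfsg.Agent.Lib.Helper40.G42L3b
import Cfsg.Agent.Lib.Helper10.G42L7
import Cfsg.Agent.Lib.Helper03.G42L8F
import Cfsg.Agent.Lib.Helper21.G42L9
import Cfsg.Agent.Lib.Helper58.G42L10

set_option autoImplicit false
open Cfsg

namespace Cfsg.Agent.S2553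

open Cfsg.Agent.Lib.Helper72.G42

/-- Let H be a nontrivial subgroup of GL(4,2) (a group isomorphic to the alternating group of degree 8) whose largest normal 2-subgroup and largest normal subgroup of odd order are both trivial. Then H is isomorphic to an alternating group of degree n for some 5 ≤ n ≤ 8, to the symmetric group of degree 5 or 6, or to GL(3,2). -/
theorem result (H : Subgroup (GL (Fin 4) (ZMod 2))) (hH : H ≠ ⊥) (hO : Cfsg.pPrimeCore 2 ↥H = ⊥) (hO2 : Cfsg.pCore 2 ↥H = ⊥) :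
    (∃ n : ℕ, 5 ≤ n ∧ n ≤ 8 ∧ Nonempty (↥H ≃* alternatingGroup (Fin n))) ∨
    Nonempty (↥H ≃* Equiv.Perm (Fin 5)) ∨ Nonempty (↥H ≃* Equiv.Perm (Fin 6)) ∨ Nonempty (↥H ≃* GL (Fin 3) (ZMod 2)) := by
  classical
  obtain ⟨K, hKA, ⟨e⟩⟩ := Cfsg.Agent.Lib.Helper54.G42.transport H
  have hK : K ≠ ⊥ := by
    intro hKbot
    apply hH
    rw [Subgroup.eq_bot_iff_forall]
    intro x hx
    have h1 : e ⟨x, hx⟩ = 1 := by
      have hmem : ((e ⟨x, hx⟩ : ↥K) : Equiv.Perm (Fin 8)) ∈ K := (e ⟨x, hx⟩).2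
      have hmem' : ((e ⟨x, hx⟩ : ↥K) : Equiv.Perm (Fin 8)) ∈ (⊥ : Subgroup (Equiv.Perm (Fin 8))) := hKbot ▸ hmem
      exact Subtype.ext (Subgroup.mem_bot.mp hmem')
    have h2 : (⟨x, hx⟩ : ↥H) = 1 := by
      have := e.injective (h1.trans (map_one e).symm)
      exact this
    exact congrArg Subtype.val h2
  have hsolv : ∀ M : Subgroup (Equiv.Perm (Fin 8)), M ≤ K → NormalizedBy K M → Group.IsSolvable ↥M → M = ⊥ := by
    intro M hMK hMn hMs
    -- the corresponding normal subgroup of `H`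
    let M0 : Subgroup ↥K := M.subgroupOf K
    have hM0n : M0.Normal := by
      constructor
      intro n hn g
      show ((g * n * g⁻¹ : ↥K) : Equiv.Perm (Fin 8)) ∈ M
      have := hMn g.1 g.2 n.1 hn
      simpa using this
    let M1 : Subgroup ↥H := M0.comap e.toMonoidHom
    have hM1n : M1.Normal := hM0n.comap e.toMonoidHom
    -- injective hom M1 → M
    let f : ↥M1 →* ↥M :=
      { toFun := fun x => ⟨((e x.1 : ↥K) : Equiv.Perm (Fin 8)), x.2⟩
        map_one' := by
          apply Subtype.ext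
          simp
        map_mul' := by
          intro a b
          apply Subtype.ext
          simp }
    have hf : Function.Injective f := by
      intro a b hab
      have h1 : ((e a.1 : ↥K) : Equiv.Perm (Fin 8)) = ((e b.1 : ↥K) : Equiv.Perm (Fin 8)) :=
        congrArg (fun z : ↥M => (z : Equiv.Perm (Fin 8))) hab
      have h2 : e a.1 = e b.1 := Subtype.ext h1
      exact Subtype.ext (e.injective h2)
    have hM1s : Group.IsSolvable ↥M1 := Group.isSolvable_of_isSolvable_injective hf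
    have hM1 : M1 = ⊥ := Cfsg.Agent.Lib.Helper42.G42.noSolvNormal hO hO2 M1 hM1n hM1s
    rw [Subgroup.eq_bot_iff_forall]
    intro x hx
    have hxK : x ∈ K := hMK hx
    have hmem : e.symm ⟨x, hxK⟩ ∈ M1 := by
      show e.toMonoidHom (e.symm ⟨x, hxK⟩) ∈ M0
      have : e.toMonoidHom (e.symm ⟨x, hxK⟩) = ⟨x, hxK⟩ := e.apply_symm_apply _
      rw [this]
      exact hx
    rw [hM1, Subgroup.mem_bot] at hmem
    have h3 : (⟨x, hxK⟩ : ↥K) = 1 := by
      have := congrArg e hmem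
      simpa using this
    exact congrArg Subtype.val h3
  obtain ⟨N, hNK, hNn, hN1, hperf, hmin⟩ := Cfsg.Agent.Lib.Helper55.G42.exists_minNormal_perfect K hK hsolv
  obtain ⟨Δ, hc, hfix, htr⟩ := Cfsg.Agent.Lib.Helper40.G42.exists_orbit N hN1 hperf
  have cfg : Cfg K N Δ := ⟨hKA, hNK, hNn, hperf, hN1, hmin, hsolv, hc, hfix, htr⟩
  have hle : Δ.card ≤ 8 := by
    have := Finset.card_le_univ Δ
    simpa using this
  -- transport helpers
  have tr : ∀ {X : Type} [Group X], Nonempty (↥K ≃* X) → Nonempty (↥H ≃* X) := by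
    intro X _ h
    obtain ⟨g⟩ := h
    exact ⟨e.trans g⟩
  have h168 : IsSimpleGroup ↥K ∧ Nat.card ↥K = 168 → Nonempty (↥H ≃* GL (Fin 3) (ZMod 2)) := by
    rintro ⟨hs, hc⟩
    exact tr (Cfsg.Agent.Lib.Helper21.G42.simple168_iso hs hc)
  have h1344 : ¬ (IsSimpleGroup ↥K ∧ Nat.card ↥K = 1344) := by
    rintro ⟨hs, hc⟩
    have hsH : IsSimpleGroup ↥H := by
      have := hs
      exact MulEquiv.isSimpleGroup e
    have hcH : Nat.card ↥H = 1344 := by
      rw [Nat.card_congr e.toEquiv, hc]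
    exact Cfsg.Agent.Lib.Helper58.G42.no_simple_1344 H hsH hcH
  have hcases : Δ.card = 5 ∨ Δ.card = 6 ∨ Δ.card = 7 ∨ Δ.card = 8 := by omega
  rcases hcases with h5 | h6 | h7 | h8
  · rcases Cfsg.Agent.Lib.Helper72.G42.case5 cfg h5 with h | h
    · exact Or.inl ⟨5, le_refl 5, by norm_num, tr h⟩
    · exact Or.inr (Or.inl (tr h))
  · rcases Cfsg.Agent.Lib.Helper72.G42.case6 cfg h6 with h | h | h | h
    · exact Or.inl ⟨6, by norm_num, by norm_num, tr h⟩
    · exact Or.inr (Or.inr (Or.inl (tr h)))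
    · exact Or.inl ⟨5, le_refl 5, by norm_num, tr h⟩
    · exact Or.inr (Or.inl (tr h))
  · rcases Cfsg.Agent.Lib.Helper10.G42.case7 cfg h7 with h | h
    · exact Or.inl ⟨7, by norm_num, by norm_num, tr h⟩
    · exact Or.inr (Or.inr (Or.inr (h168 h)))
  · rcases Cfsg.Agent.Lib.Helper03.G42.case8 cfg h8 with h | h | h
    · exact Or.inl ⟨8, by norm_num, le_refl 8, tr h⟩
    · exact Or.inr (Or.inr (Or.inr (h168 h)))
    · exact absurd h h1344

end Cfsg.Agent.S2553
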