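import Cfsg.Statements.S2561
import Cfsg.Agent.Lib.Helper49.QuadF2Minus

set_option autoImplicit false
open Cfsg

namespace Cfsg.Agent.S2561

open Cfsg.Agent.Lib.Helper49

theorem card_polarizes (m : ℕ) :
    Nat.card {q : (Fin m ⊕ Fin m → ZMod 2) → ZMod 2 // PolarizesPlus m q} = 2 ^ (2 * m) := by
  have e : (Fin m ⊕ Fin m → ZMod 2) ≃ {q : (Fin m ⊕ Fin m → ZMod 2) → ZMod 2 // PolarizesPlus m q} :=
    Equiv.ofBijective (fun w => ⟨shiftForm m w, shiftForm_polarizes m w⟩) ⟨by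
      intro w w' h
      exact shiftForm_injective m (congrArg Subtype.val h), by
      rintro ⟨q, hq⟩
      obtain ⟨w, hw⟩ := shiftForm_surjective m q hq
      exact ⟨w, Subtype.ext hw⟩⟩
  rw [← Nat.card_congr e, Nat.card_eq_fintype_card, card_fun_zmod2]
  simp
  ring_nf

theorem card_subtype_shift (m : ℕ) (R : ((Fin m ⊕ Fin m → ZMod 2) → ZMod 2) → Prop) :
    Nat.card {q : (Fin m ⊕ Fin m → ZMod 2) → ZMod 2 // PolarizesPlus m q ∧ R q}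
      = Nat.card {w : Fin m ⊕ Fin m → ZMod 2 // R (shiftForm m w)} := by
  symm
  apply Nat.card_congr
  exact Equiv.ofBijective (fun w => ⟨shiftForm m w.1, shiftForm_polarizes m w.1, w.2⟩) ⟨by
      intro w w' h
      exact Subtype.ext (shiftForm_injective m (congrArg Subtype.val h)), by
      rintro ⟨q, hq, hR⟩
      obtain ⟨w, hw⟩ := shiftForm_surjective m q hq
      subst hw
      exact ⟨⟨w, hR⟩, rfl⟩⟩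

theorem result_succ (k : ℕ) :
    Nat.card {q : (Fin (k+1) ⊕ Fin (k+1) → ZMod 2) → ZMod 2 // PolarizesPlus (k+1) q} = 2 ^ (2 * (k+1)) ∧
    (∀ q : (Fin (k+1) ⊕ Fin (k+1) → ZMod 2) → ZMod 2, PolarizesPlus (k+1) q →
      (∃ g : (Fin (k+1) ⊕ Fin (k+1) → ZMod 2) ≃ₗ[ZMod 2] (Fin (k+1) ⊕ Fin (k+1) → ZMod 2), ∀ v, q v = Cfsg.quadFormPlus (k+1) (ZMod 2) (g v)) ∨
      (∃ g : (Fin (k+1) ⊕ Fin (k+1) → ZMod 2) ≃ₗ[ZMod 2] ((Fin k ⊕ Fin k) ⊕ Fin 2 → ZMod 2), ∀ v, q v = Cfsg.quadFormMinus k (ZMod 2) 1 1 (g v))) ∧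
    Nat.card {q : (Fin (k+1) ⊕ Fin (k+1) → ZMod 2) → ZMod 2 // PolarizesPlus (k+1) q ∧ ∃ g : (Fin (k+1) ⊕ Fin (k+1) → ZMod 2) ≃ₗ[ZMod 2] (Fin (k+1) ⊕ Fin (k+1) → ZMod 2), ∀ v, q v = Cfsg.quadFormPlus (k+1) (ZMod 2) (g v)} = 2 ^ (2 * (k+1) - 1) + 2 ^ (k + 1 - 1) ∧
    Nat.card {q : (Fin (k+1) ⊕ Fin (k+1) → ZMod 2) → ZMod 2 // PolarizesPlus (k+1) q ∧ ∃ g : (Fin (k+1) ⊕ Fin (k+1) → ZMod 2) ≃ₗ[ZMod 2] ((Fin k ⊕ Fin k) ⊕ Fin 2 → ZMod 2), ∀ v, q v = Cfsg.quadFormMinus k (ZMod 2) 1 1 (g v)} = 2 ^ (2 * (k+1) - 1) - 2 ^ (k + 1 - 1) := by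
  have hm : 1 ≤ k + 1 := by omega
  refine ⟨card_polarizes (k+1), ?_, ?_, ?_⟩
  · intro q hq
    obtain ⟨w, rfl⟩ := shiftForm_surjective (k+1) q hq
    have h01 : ∀ a : ZMod 2, a = 0 ∨ a = 1 := by decide
    rcases h01 (Cfsg.quadFormPlus (k+1) (ZMod 2) w) with h | h
    · left
      exact (plus_type_iff (k+1) hm w).mpr h
    · right
      exact (minus_type_iff k w).mpr h
  · rw [card_subtype_shift (k+1) (fun q => ∃ g : (Fin (k+1) ⊕ Fin (k+1) → ZMod 2) ≃ₗ[ZMod 2] (Fin (k+1) ⊕ Fin (k+1) → ZMod 2), ∀ v, q v = Cfsg.quadFormPlus (k+1) (ZMod 2) (g v))]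
    rw [Nat.card_congr (Equiv.subtypeEquivRight (fun w => plus_type_iff (k+1) hm w))]
    rw [Nat.card_eq_fintype_card]
    exact (card_zeros (k+1) hm).1
  · rw [card_subtype_shift (k+1) (fun q => ∃ g : (Fin (k+1) ⊕ Fin (k+1) → ZMod 2) ≃ₗ[ZMod 2] ((Fin k ⊕ Fin k) ⊕ Fin 2 → ZMod 2), ∀ v, q v = Cfsg.quadFormMinus k (ZMod 2) 1 1 (g v))]
    rw [Nat.card_congr (Equiv.subtypeEquivRight (fun w => minus_type_iff k w))]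
    rw [Nat.card_eq_fintype_card]
    exact (card_zeros (k+1) hm).2

theorem result (m : ℕ) (hm : 1 ≤ m) :
    Nat.card {q : (Fin m ⊕ Fin m → ZMod 2) → ZMod 2 // (∀ u v : (Fin m ⊕ Fin m → ZMod 2), q (u + v) = q u + q v + (Cfsg.quadFormPlus m (ZMod 2) (u + v) - Cfsg.quadFormPlus m (ZMod 2) u - Cfsg.quadFormPlus m (ZMod 2) v))} = 2 ^ (2 * m) ∧
    (∀ q : (Fin m ⊕ Fin m → ZMod 2) → ZMod 2, (∀ u v : (Fin m ⊕ Fin m → ZMod 2), q (u + v) = q u + q v + (Cfsg.quadFormPlus m (ZMod 2) (u + v) - Cfsg.quadFormPlus m (ZMod 2) u - Cfsg.quadFormPlus m (ZMod 2) v)) →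
      (∃ g : (Fin m ⊕ Fin m → ZMod 2) ≃ₗ[ZMod 2] (Fin m ⊕ Fin m → ZMod 2), ∀ v, q v = Cfsg.quadFormPlus m (ZMod 2) (g v)) ∨
      (∃ g : (Fin m ⊕ Fin m → ZMod 2) ≃ₗ[ZMod 2] ((Fin (m - 1) ⊕ Fin (m - 1)) ⊕ Fin 2 → ZMod 2), ∀ v, q v = Cfsg.quadFormMinus (m - 1) (ZMod 2) 1 1 (g v))) ∧
    Nat.card {q : (Fin m ⊕ Fin m → ZMod 2) → ZMod 2 // (∀ u v : (Fin m ⊕ Fin m → ZMod 2), q (u + v) = q u + q v + (Cfsg.quadFormPlus m (ZMod 2) (u + v) - Cfsg.quadFormPlus m (ZMod 2) u - Cfsg.quadFormPlus m (ZMod 2) v)) ∧ ∃ g : (Fin m ⊕ Fin m → ZMod 2) ≃ₗ[ZMod 2] (Fin m ⊕ Fin m → ZMod 2), ∀ v, q v = Cfsg.quadFormPlus m (ZMod 2) (g v)} = 2 ^ (2 * m - 1) + 2 ^ (m - 1) ∧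
    Nat.card {q : (Fin m ⊕ Fin m → ZMod 2) → ZMod 2 // (∀ u v : (Fin m ⊕ Fin m → ZMod 2), q (u + v) = q u + q v + (Cfsg.quadFormPlus m (ZMod 2) (u + v) - Cfsg.quadFormPlus m (ZMod 2) u - Cfsg.quadFormPlus m (ZMod 2) v)) ∧ ∃ g : (Fin m ⊕ Fin m → ZMod 2) ≃ₗ[ZMod 2] ((Fin (m - 1) ⊕ Fin (m - 1)) ⊕ Fin 2 → ZMod 2), ∀ v, q v = Cfsg.quadFormMinus (m - 1) (ZMod 2) 1 1 (g v)} = 2 ^ (2 * m - 1) - 2 ^ (m - 1) := by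
  obtain ⟨k, rfl⟩ : ∃ k, m = k + 1 := ⟨m - 1, by omega⟩
  exact result_succ k

end Cfsg.Agent.S2561
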