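import Cfsg.Statements.S2563
import Cfsg.Agent.Lib.Helper50.SymOrthAct2
import Cfsg.Agent.Lib.Helper50.WittMain
import Cfsg.Agent.Lib.Helper49.QuadF2Forms

set_option autoImplicit false
open Cfsg

namespace Cfsg.Agent.S2563

open Cfsg.Agent.Lib.Helper50 Cfsg.Agent.Lib.Helper49 in
theorem gauss_of_plus {V : Type*} [AddCommGroup V] [Module (ZMod 2) V] [Fintype V]
    (Q : QuadraticForm (ZMod 2) V) (m : ℕ) (h : IsPlusType Q m) :
    ∑ v : V, chi2 (Q v) = 2 ^ m := by
  obtain ⟨φ, hφ⟩ := h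
  rw [← gaussSum_plus m]
  unfold Cfsg.Agent.Lib.Helper49.gaussSum
  exact Fintype.sum_equiv φ.toEquiv _ _ (fun v => by rw [← hφ]; rfl)

open Cfsg.Agent.Lib.Helper50 Cfsg.Agent.Lib.Helper49 in
theorem gauss_of_minus {V : Type*} [AddCommGroup V] [Module (ZMod 2) V] [Fintype V]
    (Q : QuadraticForm (ZMod 2) V) (m : ℕ) (h : IsMinusType Q m 1) :
    ∑ v : V, chi2 (Q v) = - 2 ^ (m + 1) := by
  obtain ⟨φ, hφ⟩ := h
  rw [← gaussSum_minus m]
  unfold Cfsg.Agent.Lib.Helper49.gaussSum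
  exact Fintype.sum_equiv φ.toEquiv _ _ (fun v => by rw [← hφ]; rfl)


/-- For k ≥ 1 the symmetric group of degree 4k + 4 embeds in a full orthogonal group in dimension 4k + 2 over the field of two elements: in the isometry group of the plus-type form Σ xᵢyᵢ when k is odd, and in that of the minus-type form Σ xᵢyᵢ + (z₁² + z₁z₂ + z₂²) when k is even (through its action on even partitions of a (4k+4)-set, with the form 'half the size of a part, modulo 2'). -/
theorem result (k : ℕ) (hk : 1 ≤ k) :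
    (Odd k → ∃ φ : Equiv.Perm (Fin (4 * k + 4)) →* ↥(Cfsg.isometryGroup (ZMod 2) (Cfsg.quadFormPlus (2 * k + 1) (ZMod 2))), Function.Injective φ) ∧
    (Even k → ∃ φ : Equiv.Perm (Fin (4 * k + 4)) →* ↥(Cfsg.isometryGroup (ZMod 2) (Cfsg.quadFormMinus (2 * k) (ZMod 2) 1 1)), Function.Injective φ) := by
  open Cfsg.Agent.Lib.Helper50 Cfsg.Agent.Lib.Helper49 in
  have hN : (((4 * k + 3) + 1 : ℕ) : ZMod 2) = 0 := by
    push_cast
    have h2 : (2 : ZMod 2) = 0 := by decide
    linear_combination (2 * (k : ZMod 2) + 2) * h2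
  have hN4 : (4 * k + 3) + 1 = 4 * (k + 1) := by ring
  have h5 : 5 ≤ (4 * k + 3) + 1 := by omega
  have hfr : Module.finrank (ZMod 2) (evenSub (4 * k + 3)) = 4 * k + 2 :=
    finrank_evenSub (4 * k + 2)
  have hQND := quadEven_QND hN
  have : Fintype (evenSub (4 * k + 3)) := Fintype.ofFinite _
  have hG : ∑ v : evenSub (4 * k + 3), chi2 (quadEven _ v) = -2 * (-4) ^ k := by
    rw [gauss_quadEven]
    exact (gauss_closed k).1
  have hinj := twistHom_injective hN h5
  have hinv := quadEven_twist (k + 1) hN4 hN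
  have hζ1 : ∀ ζ : ZMod 2, (∀ t : ZMod 2, t ^ 2 + t + ζ ≠ 0) → ζ = 1 := by
    intro ζ h
    have h0 := h 0
    revert h0
    revert ζ
    decide
  have W := witt_type (F := ZMod 2) (4 * k + 2) (quadEven (4 * k + 3)) hfr hQND
  constructor
  · intro hodd
    rcases W with ⟨m, hm, hP⟩ | ⟨m, ζ, hm, hζ, hM⟩ | ⟨m, c, hm, _, _⟩
    · obtain rfl : m = 2 * k + 1 := by omega
      obtain ⟨φ, hφ⟩ := hP
      exact exists_hom_isometryGroup (quadEven _) (twistHom hN) hinj hinv _ φ hφ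
    · exfalso
      obtain rfl := hζ1 ζ hζ
      have h1 := gauss_of_minus _ m hM
      rw [hG] at h1
      obtain ⟨j, rfl⟩ := hodd
      have h2 : (-4 : ℤ) ^ (2 * j + 1) = -(4 ^ (2 * j + 1)) := Odd.neg_pow ⟨j, rfl⟩ 4
      rw [h2] at h1
      have h3 : (0 : ℤ) < 4 ^ (2 * j + 1) := by positivity
      have h4 : (0 : ℤ) < 2 ^ (m + 1) := by positivity
      linarith
    · omega
  · intro heven
    rcases W with ⟨m, hm, hP⟩ | ⟨m, ζ, hm, hζ, hM⟩ | ⟨m, c, hm, _, _⟩
    · exfalso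
      have h1 := gauss_of_plus _ m hP
      rw [hG] at h1
      obtain ⟨j, rfl⟩ := heven
      have h2 : (-4 : ℤ) ^ (j + j) = 4 ^ (j + j) := Even.neg_pow ⟨j, rfl⟩ 4
      rw [h2] at h1
      have h3 : (0 : ℤ) < 4 ^ (j + j) := by positivity
      have h4 : (0 : ℤ) < 2 ^ m := by positivity
      linarith
    · obtain rfl : m = 2 * k := by omega
      obtain rfl := hζ1 ζ hζ
      obtain ⟨φ, hφ⟩ := hM
      exact exists_hom_isometryGroup (quadEven _) (twistHom hN) hinj hinv _ φ hφ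
    · omega

end Cfsg.Agent.S2563
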