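import Cfsg.Statements.S2567

set_option autoImplicit false
open Cfsg

namespace Cfsg.Agent.S2567

theorem unique_lift {G : Type*} [Group G] (e r : ℕ) (hr : r.Prime) (hre : ¬ r ∣ e)
    (hZ : ∀ z ∈ Subgroup.center G, z ^ e = 1)
    (x : G ⧸ Subgroup.center G) (hx : orderOf x = r) :
    ∃! g : G, (QuotientGroup.mk g : G ⧸ Subgroup.center G) = x ∧ orderOf g = r := by
  have hcop : ∀ z ∈ Subgroup.center G, Nat.Coprime r (orderOf z) := by
    intro z hz
    have h1 : orderOf z ∣ e := orderOf_dvd_of_pow_eq_one (hZ z hz)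
    rw [Nat.Prime.coprime_iff_not_dvd hr]
    intro h2
    exact hre (h2.trans h1)
  obtain ⟨g0, rfl⟩ := QuotientGroup.mk_surjective x
  have hz : g0 ^ r ∈ Subgroup.center G := by
    rw [← QuotientGroup.eq_one_iff, QuotientGroup.mk_pow, ← hx]
    exact pow_orderOf_eq_one _
  obtain ⟨m, hm⟩ := exists_pow_eq_self_of_coprime (hcop _ hz)
  set z := g0 ^ r with hzdef
  have hzm : z ^ m ∈ Subgroup.center G := Subgroup.pow_mem _ hz m
  have hwc : (z ^ m)⁻¹ ∈ Subgroup.center G := Subgroup.inv_mem _ hzm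
  refine ⟨g0 * (z ^ m)⁻¹, ⟨?_, ?_⟩, ?_⟩
  · rw [QuotientGroup.mk_mul, (QuotientGroup.eq_one_iff _).mpr hwc, mul_one]
  · have h1 : (g0 * (z ^ m)⁻¹) ^ r = 1 := by
      have hc : Commute g0 (z ^ m)⁻¹ := (Subgroup.mem_center_iff.mp hwc g0)
      rw [hc.mul_pow, inv_pow, ← pow_mul, mul_comm m r, pow_mul, hm, ← hzdef, mul_inv_cancel]
    have h2 : orderOf (g0 * (z ^ m)⁻¹) ∣ r := orderOf_dvd_of_pow_eq_one h1
    rcases (Nat.dvd_prime hr).mp h2 with h3 | h3
    · exfalso
      rw [orderOf_eq_one_iff] at h3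
      have h4 : (QuotientGroup.mk (g0 * (z ^ m)⁻¹) : G ⧸ Subgroup.center G) = 1 := by
        rw [h3]; rfl
      rw [QuotientGroup.mk_mul, (QuotientGroup.eq_one_iff _).mpr hwc, mul_one] at h4
      rw [h4, orderOf_one] at hx
      exact hr.one_lt.ne hx
    · exact h3
  · rintro g' ⟨hg'1, hg'2⟩
    have h1 : g0⁻¹ * g' ∈ Subgroup.center G := by
      rw [← QuotientGroup.eq]
      exact hg'1.symm
    -- g' = g0 * c with c central
    set c := g0⁻¹ * g' with hc
    have hg' : g' = g0 * c := by rw [hc]; group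
    have hcc : Commute g0 c := (Subgroup.mem_center_iff.mp h1 g0)
    have h2 : g' ^ r = 1 := by rw [← hg'2]; exact pow_orderOf_eq_one _
    rw [hg', hcc.mul_pow, ← hzdef] at h2
    -- c ^ r = z⁻¹ and ((z^m)⁻¹)^r = z⁻¹
    have h3 : (c * z ^ m) ^ r = 1 := by
      have hc2 : Commute c (z ^ m) := (Subgroup.mem_center_iff.mp hzm c)
      rw [hc2.mul_pow, ← pow_mul, mul_comm m r, pow_mul, hm]
      have : c ^ r = z⁻¹ := by
        rw [eq_inv_iff_mul_eq_one]
        have hc3 : Commute (c ^ r) z := (Subgroup.mem_center_iff.mp hz (c ^ r))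
        rw [hc3.eq]
        exact h2
      rw [this, inv_mul_cancel]
    have h4 : c * z ^ m ∈ Subgroup.center G := Subgroup.mul_mem _ h1 hzm
    have h5 : orderOf (c * z ^ m) ∣ r := orderOf_dvd_of_pow_eq_one h3
    have h6 := hcop _ h4
    have h7 : orderOf (c * z ^ m) = 1 := Nat.eq_one_of_dvd_coprimes h6 h5 dvd_rfl
    rw [orderOf_eq_one_iff] at h7
    rw [hg', eq_inv_of_mul_eq_one_left h7]

theorem result {F : Type*} [Field F] [Fintype F] {q n r : ℕ} (hF : Fintype.card F = q) (hr : r.Prime) (hdiv : ¬ r ∣ q - 1) (x : GL (Fin n) F ⧸ Subgroup.center (GL (Fin n) F)) (hx : orderOf x = r) : ∃! g : GL (Fin n) F, (QuotientGroup.mk g : GL (Fin n) F ⧸ Subgroup.center (GL (Fin n) F)) = x ∧ orderOf g = r := by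
  apply unique_lift (q - 1) r hr hdiv _ x hx
  intro z hz
  rw [Matrix.GeneralLinearGroup.center_eq_range_scalar] at hz
  obtain ⟨u, rfl⟩ := hz
  rw [← map_pow]
  have : u ^ (q - 1) = 1 := by
    classical
    rw [← hF, ← Fintype.card_units]
    exact pow_card_eq_one
  rw [this, map_one]

end Cfsg.Agent.S2567
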