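import Cfsg.Statements.S2571
import Cfsg.Agent.Lib.Helper49.RegUnipCent

set_option autoImplicit false
open Cfsg

namespace Cfsg.Agent.S2571

open Cfsg.Agent.Lib.Helper49 Module

theorem card_first_ne_zero {F : Type*} [Field F] [Fintype F] [DecidableEq F] (k : ℕ) :
    Fintype.card {a : Fin (k + 1) → F // a 0 ≠ 0} = (Fintype.card F - 1) * Fintype.card F ^ k := by
  have e : {a : Fin (k + 1) → F // a 0 ≠ 0} ≃ {x : F // x ≠ 0} × (Fin k → F) :=
    { toFun := fun a => (⟨a.1 0, a.2⟩, fun i => a.1 i.succ)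
      invFun := fun p => ⟨Fin.cons p.1.1 p.2, by simpa using p.1.2⟩
      left_inv := by
        rintro ⟨a, ha⟩
        apply Subtype.ext
        funext i
        refine Fin.cases ?_ ?_ i <;> simp
      right_inv := by
        rintro ⟨⟨x, hx⟩, y⟩
        simp }
  rw [Fintype.card_congr e, Fintype.card_prod, Fintype.card_subtype_compl, Fintype.card_fun]
  simp

theorem result {F : Type*} [Field F] [Fintype F] {q n : ℕ} (hF : Fintype.card F = q) (hn : 1 ≤ n) (u : GL (Fin n) F) (hnil : ((u : Matrix (Fin n) (Fin n) F) - 1) ^ n = 0) (hreg : ((u : Matrix (Fin n) (Fin n) F) - 1).rank = n - 1) : Nat.card ↥(Subgroup.centralizer ({u} : Set (GL (Fin n) F))) = (q - 1) * q ^ (n - 1) := by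
  classical
  subst hF
  set N : Matrix (Fin n) (Fin n) F := (u : Matrix (Fin n) (Fin n) F) - 1 with hN
  obtain ⟨e, b, he, hb⟩ := exists_cyclic_basis hn N hnil hreg
  have hu : (u : Matrix (Fin n) (Fin n) F) = 1 + N := by rw [hN]; abel
  -- membership in the centralizer
  have hmem : ∀ g : GL (Fin n) F, g ∈ Subgroup.centralizer ({u} : Set (GL (Fin n) F)) ↔
      Commute (g : Matrix (Fin n) (Fin n) F) N := by
    intro g
    rw [Subgroup.mem_centralizer_singleton_iff]
    constructor
    · intro h
      have h1 : (g : Matrix (Fin n) (Fin n) F) * (u : Matrix (Fin n) (Fin n) F)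
          = (u : Matrix (Fin n) (Fin n) F) * (g : Matrix (Fin n) (Fin n) F) := by
        have := congrArg (fun x : GL (Fin n) F => (x : Matrix (Fin n) (Fin n) F)) h
        simpa using this
      rw [hu, mul_add, add_mul, mul_one, one_mul] at h1
      exact add_left_cancel h1
    · intro h
      apply Units.ext
      rw [Units.val_mul, Units.val_mul, hu, mul_add, add_mul, mul_one, one_mul, h.eq]
  -- the map to coefficient vectors
  have hcoef : ∀ g : Subgroup.centralizer ({u} : Set (GL (Fin n) F)),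
      b.equivFun (((g : GL (Fin n) F) : Matrix (Fin n) (Fin n) F).mulVec e) ⟨0, hn⟩ ≠ 0 := by
    intro g
    have hg := (hmem g.1).mp g.2
    set M : Matrix (Fin n) (Fin n) F := ((g : GL (Fin n) F) : Matrix (Fin n) (Fin n) F) with hM
    have h1 := eq_polyMat_of_commute N e b hb M hg
    have h2 := pow_mulVec_polyMat hn N hnil e (b.equivFun (M.mulVec e))
    rw [← h1, Matrix.mulVec_mulVec, ← (hg.pow_right _).eq, ← Matrix.mulVec_mulVec] at h2
    intro h0
    rw [h0, zero_smul] at h2
    have hinj : Function.Injective M.mulVec :=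
      Matrix.mulVec_injective_of_isUnit ((g : GL (Fin n) F).isUnit)
    apply he
    apply hinj
    rw [h2, Matrix.mulVec_zero]
  let Ψ : Subgroup.centralizer ({u} : Set (GL (Fin n) F)) → {a : Fin n → F // a ⟨0, hn⟩ ≠ 0} :=
    fun g => ⟨b.equivFun (((g : GL (Fin n) F) : Matrix (Fin n) (Fin n) F).mulVec e), hcoef g⟩
  have hinj : Function.Injective Ψ := by
    intro g g' h
    have h1 : b.equivFun (((g : GL (Fin n) F) : Matrix (Fin n) (Fin n) F).mulVec e)
        = b.equivFun (((g' : GL (Fin n) F) : Matrix (Fin n) (Fin n) F).mulVec e) :=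
      congrArg Subtype.val h
    have h2 := b.equivFun.injective h1
    have h3 := eq_of_commute_of_mulVec_eq N e b hb _ _ ((hmem g.1).mp g.2) ((hmem g'.1).mp g'.2) h2
    exact Subtype.ext (Units.ext h3)
  have hsurj : Function.Surjective Ψ := by
    rintro ⟨a, ha⟩
    obtain ⟨g, hg⟩ := polyMat_isUnit hn N hnil a ha
    have hgc : g ∈ Subgroup.centralizer ({u} : Set (GL (Fin n) F)) := by
      rw [hmem]
      change Commute (g : Matrix (Fin n) (Fin n) F) N
      rw [hg]
      exact polyMat_commute N a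
    refine ⟨⟨g, hgc⟩, ?_⟩
    apply Subtype.ext
    change b.equivFun ((g : Matrix (Fin n) (Fin n) F).mulVec e) = a
    rw [hg, polyMat_mulVec N e b hb, LinearEquiv.apply_symm_apply]
  rw [Nat.card_congr (Equiv.ofBijective Ψ ⟨hinj, hsurj⟩), Nat.card_eq_fintype_card]
  obtain ⟨k, rfl⟩ : ∃ k, n = k + 1 := ⟨n - 1, by omega⟩
  exact card_first_ne_zero k

end Cfsg.Agent.S2571
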