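import Cfsg.Statements.S2579
import Cfsg.Agent.Lib.Helper49.Transv

set_option autoImplicit false
open Cfsg

namespace Cfsg.Agent.S2579

open Cfsg.Agent.Lib.Helper49 Module

theorem rank_one_decomp {K : Type*} [Field K] {n : ℕ} (N : Matrix (Fin n) (Fin n) K)
    (h1 : N.rank = 1) (h2 : N * N = 0) :
    ∃ (φ : Dual K (Fin n → K)) (v : Fin n → K), v ≠ 0 ∧ φ ≠ 0 ∧ φ v = 0 ∧ ∀ x, N.mulVec x = φ x • v := by
  have hR : finrank K (LinearMap.range (Matrix.toLin' N)) = 1 := by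
    rw [Matrix.toLin'_apply']; exact h1
  obtain ⟨v₀, hv₀, hspan⟩ := finrank_eq_one_iff'.mp hR
  obtain ⟨u₀, hu₀⟩ := v₀.2
  have hv : (v₀ : Fin n → K) ≠ 0 := fun h => hv₀ (Subtype.ext h)
  obtain ⟨ψ, hψ⟩ := Module.Projective.exists_dual_eq_one K hv
  refine ⟨ψ ∘ₗ Matrix.toLin' N, v₀, hv, ?_, ?_, ?_⟩
  · intro h
    have := LinearMap.congr_fun h u₀
    rw [LinearMap.comp_apply, hu₀, hψ] at this
    simp at this
  · rw [LinearMap.comp_apply, ← hu₀, Matrix.toLin'_apply, Matrix.toLin'_apply, Matrix.mulVec_mulVec, h2]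
    simp
  · intro x
    obtain ⟨c, hc⟩ := hspan ⟨Matrix.toLin' N x, LinearMap.mem_range_self _ x⟩
    have hc' : c • (v₀ : Fin n → K) = N.mulVec x := by
      have := congrArg Subtype.val hc
      simpa using this
    rw [LinearMap.comp_apply, Matrix.toLin'_apply, ← hc', map_smul, hψ]
    simp

theorem result {F : Type*} [Field F] [Finite F] {n : ℕ} (hn : 3 ≤ n) (s t : Matrix.SpecialLinearGroup (Fin n) F) (hs : Cfsg.IsTransvection (s : Matrix (Fin n) (Fin n) F)) (ht : Cfsg.IsTransvection (t : Matrix (Fin n) (Fin n) F)) : IsConj s t := by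
  obtain ⟨φ, v, hv, hφ, hφv, hN⟩ := rank_one_decomp _ hs.1 hs.2
  obtain ⟨φ', v', hv', hφ', hφv', hN'⟩ := rank_one_decomp _ ht.1 ht.2
  have hdim : 3 ≤ finrank F (Fin n → F) := by simpa using hn
  obtain ⟨g, hgv, hgφ⟩ := exists_equiv_flag φ φ' v v' hv hv' hφ hφ' hφv hφv'
  have hδ : LinearMap.det (g : (Fin n → F) →ₗ[F] (Fin n → F)) ≠ 0 := (LinearEquiv.isUnit_det' g).ne_zero
  obtain ⟨d, hdv, hdφ, hddet⟩ := exists_dilation_fix hdim φ v hφ hφv _ (inv_ne_zero hδ)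
  set h : (Fin n → F) →ₗ[F] (Fin n → F) := (g : (Fin n → F) →ₗ[F] (Fin n → F)) ∘ₗ (d : (Fin n → F) →ₗ[F] (Fin n → F)) with hh
  have hhx : ∀ x, h x = g (d x) := fun x => rfl
  set H : Matrix (Fin n) (Fin n) F := LinearMap.toMatrix' h with hH
  have hHmul : ∀ x, H.mulVec x = g (d x) := by
    intro x
    rw [hH, ← Matrix.toLin'_apply, Matrix.toLin'_toMatrix', hhx]
  have hdet : H.det = 1 := by
    rw [hH, LinearMap.det_toMatrix', hh, LinearMap.det_comp, hddet, mul_inv_cancel₀ hδ]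
  have hcomm : H * (s : Matrix (Fin n) (Fin n) F) = (t : Matrix (Fin n) (Fin n) F) * H := by
    have hs1 : (s : Matrix (Fin n) (Fin n) F) = 1 + ((s : Matrix (Fin n) (Fin n) F) - 1) := by abel
    have ht1 : (t : Matrix (Fin n) (Fin n) F) = 1 + ((t : Matrix (Fin n) (Fin n) F) - 1) := by abel
    rw [hs1, ht1, Matrix.mul_add, Matrix.add_mul, Matrix.mul_one, Matrix.one_mul]
    congr 1
    apply Matrix.toLin'.injective
    apply LinearMap.ext
    intro x
    rw [Matrix.toLin'_apply, Matrix.toLin'_apply, ← Matrix.mulVec_mulVec, ← Matrix.mulVec_mulVec,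
      hN, hN', hHmul, hHmul, map_smul, map_smul, hdv, hgv, hgφ, hdφ]
  let c : Matrix.SpecialLinearGroup (Fin n) F := ⟨H, hdet⟩
  rw [isConj_iff]
  refine ⟨c, ?_⟩
  rw [mul_inv_eq_iff_eq_mul]
  apply Subtype.ext
  exact hcomm

end Cfsg.Agent.S2579
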