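import Cfsg.Statements.S2572
import Cfsg.Agent.S2579
import Cfsg.Agent.Lib.Helper49.FlagAct

set_option autoImplicit false
open Cfsg

namespace Cfsg.Agent.S2572

open Cfsg.Agent.Lib.Helper49 Matrix Module

theorem rank_one_decomp' {K : Type*} [Field K] {n : ℕ} (N : Matrix (Fin n) (Fin n) K)
    (h1 : N.rank = 1) (h2 : N * N = 0) :
    ∃ v w : Fin n → K, v ≠ 0 ∧ w ≠ 0 ∧ w ⬝ᵥ v = 0 ∧ N = vecMulVec v w := by
  obtain ⟨φ, v, hv, hφ, hφv, hN⟩ := Cfsg.Agent.S2579.rank_one_decomp N h1 h2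
  set w : Fin n → K := (dotProductEquiv K (Fin n)).symm φ with hw
  have hφw : ∀ x, φ x = w ⬝ᵥ x := by
    intro x
    have : φ = dotProductEquiv K (Fin n) w := by rw [hw, LinearEquiv.apply_symm_apply]
    rw [this]; rfl
  refine ⟨v, w, hv, ?_, ?_, ?_⟩
  · intro h
    apply hφ
    apply LinearMap.ext
    intro x
    rw [hφw, h]; simp
  · rw [← hφw]; exact hφv
  · apply Matrix.toLin'.injective
    apply LinearMap.ext
    intro x
    rw [Matrix.toLin'_apply, Matrix.toLin'_apply, hN, vecMulVec_mulVec, hφw]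
    ext i
    simp [mul_comm]

theorem prod_step (q m : ℕ) : ∏ i : Fin (m + 1), (q ^ (m + 1) - q ^ (i : ℕ)) =
    (q ^ (m + 1) - 1) * q ^ m * ∏ i : Fin m, (q ^ m - q ^ (i : ℕ)) := by
  rw [Fin.prod_univ_succ]
  simp only [Fin.val_zero, pow_zero, Fin.val_succ]
  have : ∀ i : Fin m, q ^ (m + 1) - q ^ ((i : ℕ) + 1) = q * (q ^ m - q ^ (i : ℕ)) := by
    intro i
    rw [Nat.mul_sub, pow_succ', pow_succ']
  simp_rw [this]
  rw [Finset.prod_mul_distrib, Finset.prod_const, Finset.card_univ, Fintype.card_fin]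
  ring

/-- Centraliser of a transvection in GL_n(q), n ≥ 2: if t − 1 has rank one and square zero, the centraliser of t in GL_n(q) has order q^(2n−3) (q − 1) |GL_(n−2)(q)| (a group of order q^(2n−3) extended by GL_1(q) × GL_(n−2)(q)). -/
theorem result {F : Type*} [Field F] [Fintype F] {q n : ℕ} (hF : Fintype.card F = q) (hn : 2 ≤ n) (t : GL (Fin n) F) (ht : Cfsg.IsTransvection (t : Matrix (Fin n) (Fin n) F)) : Nat.card ↥(Subgroup.centralizer ({t} : Set (GL (Fin n) F))) = q ^ (2 * n - 3) * (q - 1) * ∏ i : Fin (n - 2), (q ^ (n - 2) - q ^ (i : ℕ)) := by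
  classical
  obtain ⟨v, w, hv, hw, hvw, hN⟩ := rank_one_decomp' _ ht.1 ht.2
  have htv : (t : Matrix (Fin n) (Fin n) F) = 1 + vecMulVec v w := by rw [← hN]; abel
  have h1 := card_centralizer_transv v w hv hw hvw t htv
  set S := MulAction.stabilizer (GL (Fin n) F) (mkFlagPair v w hv hw hvw) with hS
  have h2 : Nat.card S * Nat.card (FlagPair F n) = Nat.card (GL (Fin n) F) := by
    rw [← MulAction.index_stabilizer_of_transitive (GL (Fin n) F) (mkFlagPair v w hv hw hvw)]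
    exact Subgroup.card_mul_index S
  rw [card_flagPair, Matrix.card_GL_field, hF] at h2
  rw [hF] at h1
  obtain ⟨m, rfl⟩ : ∃ m, n = m + 2 := ⟨n - 2, by omega⟩
  rw [prod_step, prod_step] at h2
  have e1 : m + 2 - 1 = m + 1 := by omega
  rw [e1] at h2
  have e2 : 2 * (m + 2) - 3 = (m + 1) + m := by omega
  have e3 : m + 2 - 2 = m := by omega
  rw [h1, e2, e3, pow_add]
  have hq : 2 ≤ q := by rw [← hF]; exact Fintype.one_lt_card
  have hpos1 : 0 < q ^ (m + 1 + 1) - 1 := by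
    have : 2 ≤ q ^ (m + 1 + 1) := by
      calc 2 ≤ q := hq
        _ = q ^ 1 := (pow_one q).symm
        _ ≤ q ^ (m + 1 + 1) := Nat.pow_le_pow_right (by omega) (by omega)
    omega
  have hpos2 : 0 < q ^ (m + 1) - 1 := by
    have : 2 ≤ q ^ (m + 1) := by
      calc 2 ≤ q := hq
        _ = q ^ 1 := (pow_one q).symm
        _ ≤ q ^ (m + 1) := Nat.pow_le_pow_right (by omega) (by omega)
    omega
  have h3 : Nat.card S * ((q ^ (m + 1 + 1) - 1) * (q ^ (m + 1) - 1)) =
      (q ^ (m + 1) * q ^ m * ∏ i : Fin m, (q ^ m - q ^ (i : ℕ))) * ((q ^ (m + 1 + 1) - 1) * (q ^ (m + 1) - 1)) := by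
    rw [h2]; ring
  have h4 := Nat.eq_of_mul_eq_mul_right (Nat.mul_pos hpos1 hpos2) h3
  rw [h4]; ring

end Cfsg.Agent.S2572
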