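import Cfsg.Statements.S2573
import Cfsg.Agent.Lib.Helper49.RegUnipotent

set_option autoImplicit false
open Cfsg

namespace Cfsg.Agent.S2573

open Cfsg.Agent.Lib.Helper49

theorem result {F : Type*} [Field F] [Finite F] {n : ℕ} (u : Matrix (Fin n) (Fin n) F) (hnil : (u - 1) ^ n = 0) (hreg : (u - 1).rank = n - 1) (W : Submodule F (Fin n → F)) (hW : ∀ v ∈ W, u.mulVec v ∈ W) : W = LinearMap.ker (Matrix.mulVecLin ((u - 1) ^ Module.finrank F W)) := by
  have key := invariant_eq_ker_pow (F := F) (V := Fin n → F) (Matrix.toLin' (u - 1)) n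
    (by rw [← Matrix.toLin'_pow, hnil]; simp)
    (by
      have h1 := LinearMap.finrank_range_add_finrank_ker (Matrix.toLin' (u - 1))
      have h2 : Module.finrank F (LinearMap.range (Matrix.toLin' (u - 1))) = n - 1 := by
        rw [← hreg, Matrix.rank, Matrix.toLin'_apply']
      rw [h2] at h1
      simp at h1
      omega)
    W
    (by
      intro v hv
      rw [Matrix.toLin'_apply, Matrix.sub_mulVec, Matrix.one_mulVec]
      exact W.sub_mem (hW v hv) hv)
  rw [← Matrix.toLin'_pow, Matrix.toLin'_apply'] at key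
  exact key

end Cfsg.Agent.S2573
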