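import Cfsg.Statements.S2574
import Cfsg.Agent.Lib.Helper49.RegUnipotent

set_option autoImplicit false
open Cfsg

namespace Cfsg.Agent.S2574

open Cfsg.Agent.Lib.Helper49 Module

theorem sympForm_mulVec {F : Type*} [Field F] {m : ℕ} (A : Matrix (Fin m ⊕ Fin m) (Fin m ⊕ Fin m) F)
    (hA : A ∈ Matrix.symplecticGroup (Fin m) F) (x y : Fin m ⊕ Fin m → F) :
    Cfsg.sympForm m F (A.mulVec x) (A.mulVec y) = Cfsg.sympForm m F x y := by
  unfold Cfsg.sympForm
  have h := SymplecticGroup.mem_iff'.mp hA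
  rw [Matrix.mulVec_mulVec, Matrix.dotProduct_mulVec, Matrix.vecMul_mulVec, ← Matrix.dotProduct_mulVec]
  rw [← Matrix.mul_assoc, h]

theorem result {F : Type*} [Field F] [Finite F] {m : ℕ} (u : Matrix.symplecticGroup (Fin m) F) (hnil : ((u : Matrix (Fin m ⊕ Fin m) (Fin m ⊕ Fin m) F) - 1) ^ (2 * m) = 0) (hreg : ((u : Matrix (Fin m ⊕ Fin m) (Fin m ⊕ Fin m) F) - 1).rank = 2 * m - 1) (W : Submodule F (Fin m ⊕ Fin m → F)) (hW : ∀ v ∈ W, (u : Matrix (Fin m ⊕ Fin m) (Fin m ⊕ Fin m) F).mulVec v ∈ W) (hdim : 2 * Module.finrank F W ≤ 2 * m) : ∀ v ∈ W, ∀ w ∈ W, Cfsg.sympForm m F v w = 0 := by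
  classical
  set U : Matrix (Fin m ⊕ Fin m) (Fin m ⊕ Fin m) F := (u : Matrix (Fin m ⊕ Fin m) (Fin m ⊕ Fin m) F) with hU
  set f : Module.End F (Fin m ⊕ Fin m → F) := Matrix.toLin' (U - 1) with hf
  have hfn : f ^ (2 * m) = 0 := by rw [hf, ← Matrix.toLin'_pow, hnil]; simp
  have hV : finrank F (Fin m ⊕ Fin m → F) = 2 * m := by simp; ring
  have hker : finrank F (LinearMap.ker f) ≤ 1 := by
    have h1 := LinearMap.finrank_range_add_finrank_ker f
    have h2 : finrank F (LinearMap.range f) = 2 * m - 1 := by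
      rw [← hreg, Matrix.rank, hf, Matrix.toLin'_apply']
    rw [h2, hV] at h1
    omega
  have hfW : ∀ v ∈ W, f v ∈ W := by
    intro v hv
    rw [hf, Matrix.toLin'_apply, Matrix.sub_mulVec, Matrix.one_mulVec]
    exact W.sub_mem (hW v hv) hv
  have hWeq := invariant_eq_ker_pow f (2 * m) hfn hker W hfW
  -- the bilinear form
  let B : (Fin m ⊕ Fin m → F) →ₗ[F] (Fin m ⊕ Fin m → F) →ₗ[F] F := Matrix.toLinearMap₂' F (Matrix.J (Fin m) F)
  have hB : ∀ x y, B x y = Cfsg.sympForm m F x y := by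
    intro x y
    simp only [B, Matrix.toLinearMap₂'_apply', Cfsg.sympForm]
  let Φ : (Fin m ⊕ Fin m → F) →ₗ[F] (W →ₗ[F] F) := B.compl₂ W.subtype
  let P : Submodule F (Fin m ⊕ Fin m → F) := LinearMap.ker Φ
  have hP : ∀ x, x ∈ P ↔ ∀ w ∈ W, Cfsg.sympForm m F x w = 0 := by
    intro x
    simp only [P, LinearMap.mem_ker, Φ]
    constructor
    · intro h w hw
      have := LinearMap.congr_fun h ⟨w, hw⟩
      simpa [hB] using this
    · intro h
      ext ⟨w, hw⟩
      simpa [hB] using h w hw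
  have hPdim : finrank F W ≤ finrank F P := by
    have h1 := LinearMap.finrank_range_add_finrank_ker Φ
    have h2 : finrank F (LinearMap.range Φ) ≤ finrank F (W →ₗ[F] F) := Submodule.finrank_le _
    have h3 : finrank F (W →ₗ[F] F) = finrank F W := Subspace.dual_finrank_eq
    rw [hV] at h1
    change finrank F (LinearMap.range Φ) + finrank F P = 2 * m at h1
    omega
  -- u restricted to W is surjective
  have hsurj : ∀ w ∈ W, ∃ w' ∈ W, U.mulVec w' = w := by
    let g : W →ₗ[F] W := (Matrix.toLin' U).restrict (p := W) (q := W) (by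
      intro v hv
      rw [Matrix.toLin'_apply]
      exact hW v hv)
    have hdet : IsUnit U.det := SymplecticGroup.symplectic_det u.2
    have hinj : Function.Injective g := by
      intro a b hab
      have h1 := congrArg Subtype.val hab
      simp only [g, LinearMap.coe_restrict_apply, Matrix.toLin'_apply] at h1
      have := Matrix.mulVec_injective_of_isUnit ((Matrix.isUnit_iff_isUnit_det U).mpr hdet) h1
      exact Subtype.ext this
    have hs := LinearMap.surjective_of_injective hinj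
    intro w hw
    obtain ⟨w', hw'⟩ := hs ⟨w, hw⟩
    refine ⟨w'.1, w'.2, ?_⟩
    have h1 := congrArg Subtype.val hw'
    simpa [g] using h1
  have hfP : ∀ v ∈ P, f v ∈ P := by
    intro v hv
    rw [hf, Matrix.toLin'_apply, Matrix.sub_mulVec, Matrix.one_mulVec]
    refine P.sub_mem ?_ hv
    rw [hP] at hv ⊢
    intro w hw
    obtain ⟨w', hw', rfl⟩ := hsurj w hw
    rw [sympForm_mulVec U u.2]
    exact hv w' hw'
  have hPeq := invariant_eq_ker_pow f (2 * m) hfn hker P hfP
  have hWP : W ≤ P := by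
    rw [hWeq, hPeq]
    intro x hx
    rw [LinearMap.mem_ker] at hx ⊢
    obtain ⟨c, hc⟩ := Nat.exists_eq_add_of_le hPdim
    rw [hc, add_comm, pow_add, Module.End.mul_apply, hx, map_zero]
  intro v hv w hw
  exact (hP v).mp (hWP hv) w hw

end Cfsg.Agent.S2574
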