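import Cfsg.Statements.S2575
import Cfsg.Agent.Lib.Helper49.NegOnePow

set_option autoImplicit false
open Cfsg

namespace Cfsg.Agent.S2575

open Cfsg.Agent.Lib.Helper49

theorem prod_diag {F : Type*} [Field F] (n i : ℕ) (hi : i ≤ n) :
    ∏ j : Fin n, (if (j : ℕ) < i then (-1 : F) else 1) = (-1) ^ i := by
  classical
  rw [Finset.prod_ite, Finset.prod_const_one, mul_one, Finset.prod_const]
  congr 1
  rw [Fin.card_filter_val_lt]
  omega

theorem result {F : Type*} [Field F] [Fintype F] {q : ℕ} (hF : Fintype.card F = q) (hq : Odd q) {n : ℕ} (hn : 1 ≤ n) (i : ℕ) (hi : i ≤ n) : (∃ c : F, c ≠ 0 ∧ (c • Matrix.diagonal (fun j : Fin n => if (j : ℕ) < i then (-1 : F) else 1)).det = 1) ↔ (Even i ∨ padicValNat 2 n < padicValNat 2 (q - 1)) := by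
  subst hF
  have hdet : ∀ c : F, (c • Matrix.diagonal (fun j : Fin n => if (j : ℕ) < i then (-1 : F) else 1)).det
      = c ^ n * (-1) ^ i := by
    intro c
    rw [Matrix.det_smul, Matrix.det_diagonal, prod_diag n i hi]
    simp
  simp_rw [hdet]
  have hn0 : n ≠ 0 := by omega
  rcases Nat.even_or_odd i with hev | hod
  · constructor
    · intro _
      exact Or.inl hev
    · intro _
      exact ⟨1, one_ne_zero, by rw [hev.neg_one_pow]; simp⟩
  · rw [hod.neg_one_pow]
    have hi' : ¬ Even i := Nat.not_even_iff_odd.mpr hod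
    rw [← exists_pow_eq_neg_one_iff F hq n hn0]
    constructor
    · rintro ⟨c, _, hc⟩
      right
      refine ⟨c, ?_⟩
      have h2 : c ^ n * -1 = 1 := hc
      rw [mul_neg_one] at h2
      rw [← h2, neg_neg]
    · rintro (h | ⟨c, hc⟩)
      · exact absurd h hi'
      · refine ⟨c, ?_, ?_⟩
        · rintro rfl
          rw [zero_pow hn0] at hc
          exact neg_ne_zero.mpr one_ne_zero hc.symm
        · rw [hc]; simp

end Cfsg.Agent.S2575
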