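import Cfsg.Statements.S2576
import Cfsg.Agent.Lib.Helper49.NegOnePow

set_option autoImplicit false
open Cfsg

namespace Cfsg.Agent.S2576

open Cfsg.Agent.Lib.Helper49

theorem det_formula {F : Type*} [Field F] (m : ℕ) (μ c : F) :
    (c • Matrix.blockDiagonal (fun _ : Fin m => !![(0 : F), 1; μ, 0])).det = c ^ (2 * m) * (-μ) ^ m := by
  rw [Matrix.det_smul, Matrix.det_blockDiagonal]
  simp [Matrix.det_fin_two_of]

theorem result {F : Type*} [Field F] [Fintype F] {q : ℕ} (hF : Fintype.card F = q) (hq : Odd q) {m : ℕ} (hm : 1 ≤ m) (μ : F) (hμ : orderOf μ = 2 ^ padicValNat 2 (q - 1)) : (∃ c : F, c ≠ 0 ∧ (c • Matrix.blockDiagonal (fun _ : Fin m => !![(0 : F), 1; μ, 0])).det = 1) ↔ (q % 4 = 3 ∨ padicValNat 2 (q - 1) < padicValNat 2 (2 * m)) := by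
  classical
  subst hF
  simp_rw [det_formula]
  have hne := neg_one_ne_one_of_odd_card F hq
  have hcard : 1 < Fintype.card F := Fintype.one_lt_card
  have hN : Fintype.card F - 1 ≠ 0 := by omega
  obtain ⟨N', hN'odd, hN'⟩ := two_pow_padic_mul_odd _ hN
  have hm0 : m ≠ 0 := by omega
  obtain ⟨m', hm'odd, hm'⟩ := two_pow_padic_mul_odd m hm0
  set a := padicValNat 2 m with ha
  set b := padicValNat 2 (Fintype.card F - 1) with hb
  have hv2m : padicValNat 2 (2 * m) = a + 1 := by
    have : Fact (Nat.Prime 2) := ⟨Nat.prime_two⟩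
    rw [padicValNat.mul (by norm_num) hm0, padicValNat_self, add_comm]
  rw [hv2m]
  -- b ≥ 1
  have hb1 : 1 ≤ b := by
    by_contra hcon
    have hb0 : b = 0 := by omega
    rw [hb0, pow_zero, one_mul] at hN'
    have := Nat.odd_iff.mp hq
    have := Nat.odd_iff.mp hN'odd
    omega
  have hμpow : μ ^ 2 ^ b = 1 := by rw [← hμ]; exact pow_orderOf_eq_one μ
  have hη : μ ^ 2 ^ (b - 1) = -1 := by
    have h2 : (μ ^ 2 ^ (b - 1)) ^ 2 = 1 := by
      rw [← pow_mul, ← pow_succ]
      have : b - 1 + 1 = b := by omega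
      rw [this, hμpow]
    rcases sq_eq_one_iff.mp h2 with h | h
    · exfalso
      have h3 := orderOf_dvd_of_pow_eq_one h
      rw [hμ] at h3
      have h4 := (Nat.pow_dvd_pow_iff_le_right (by norm_num : 1 < 2)).mp h3
      omega
    · exact h
  have hμ0 : μ ≠ 0 := by
    rintro rfl
    rw [zero_pow (by positivity)] at hμpow
    exact zero_ne_one hμpow
  by_cases hb2 : b = 1
  · -- q % 4 = 3
    have hq4 : Fintype.card F % 4 = 3 := by
      rw [hb2, pow_one] at hN'
      obtain ⟨t, ht⟩ := hN'odd
      omega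
    have hμ1 : μ = -1 := by
      rw [hb2] at hη
      simpa using hη
    constructor
    · intro _; exact Or.inl hq4
    · intro _
      refine ⟨1, one_ne_zero, ?_⟩
      rw [hμ1]; simp
  · have hb2' : 2 ≤ b := by omega
    have hq4 : ¬ Fintype.card F % 4 = 3 := by
      obtain ⟨d, hd⟩ := Nat.exists_eq_add_of_le hb2'
      have h4 : 4 ∣ Fintype.card F - 1 := by
        rw [hN', hd, pow_add, mul_assoc]
        exact Dvd.intro _ rfl
      omega
    constructor
    · rintro ⟨c, hc0, hc⟩
      right
      by_contra hcon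
      push Not at hcon
      have hab : a ≤ b - 1 := by omega
      -- x = c^2 * (-μ), x^m = 1
      set x := c ^ 2 * (-μ) with hx
      have hxm : x ^ m = 1 := by
        rw [hx, mul_pow, ← pow_mul]; exact hc
      have hx0 : x ≠ 0 := mul_ne_zero (pow_ne_zero 2 hc0) (neg_ne_zero.mpr hμ0)
      have hxN : x ^ (Fintype.card F - 1) = 1 := FiniteField.pow_card_sub_one_eq_one x hx0
      -- y = x^(2^a N')
      set y := x ^ (2 ^ a * N') with hy
      have hy1 : y ^ m' = 1 := by
        rw [hy, ← pow_mul]
        have : 2 ^ a * N' * m' = (2 ^ a * m') * N' := by ring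
        rw [this, ← hm', pow_mul, hxm, one_pow]
      have hy2 : y ^ 2 ^ (b - a) = 1 := by
        rw [hy, ← pow_mul]
        have : 2 ^ a * N' * 2 ^ (b - a) = 2 ^ b * N' := by
          have : 2 ^ b = 2 ^ a * 2 ^ (b - a) := by rw [← pow_add]; congr 1; omega
          rw [this]; ring
        rw [this, ← hN', hxN]
      have hy3 : y = 1 := by
        have h1 := orderOf_dvd_of_pow_eq_one hy1
        have h2 := orderOf_dvd_of_pow_eq_one hy2
        have hcop : Nat.Coprime m' (2 ^ (b - a)) := by
          apply Nat.Coprime.pow_right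
          exact Nat.coprime_two_right.mpr hm'odd
        have h3 := Nat.eq_one_of_dvd_coprimes hcop h1 h2
        exact orderOf_eq_one_iff.mp h3
      have hxhalf : x ^ (2 ^ (b - 1) * N') = 1 := by
        have : 2 ^ (b - 1) * N' = (2 ^ a * N') * 2 ^ (b - 1 - a) := by
          have : 2 ^ (b - 1) = 2 ^ a * 2 ^ (b - 1 - a) := by rw [← pow_add]; congr 1; omega
          rw [this]; ring
        rw [this, pow_mul, ← hy, hy3, one_pow]
      -- but x^(N/2) = -1
      have hxhalf' : x ^ (2 ^ (b - 1) * N') = -1 := by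
        rw [hx, mul_pow, ← pow_mul]
        have h1 : 2 * (2 ^ (b - 1) * N') = Fintype.card F - 1 := by
          rw [hN']
          have : 2 ^ b = 2 * 2 ^ (b - 1) := by rw [← pow_succ']; congr 1; omega
          rw [this]; ring
        rw [h1, FiniteField.pow_card_sub_one_eq_one c hc0, one_mul, neg_pow, pow_mul μ, hη,
          hN'odd.neg_one_pow]
        have heven : Even (2 ^ (b - 1) * N') := by
          apply Even.mul_right
          exact (Nat.even_pow' (by omega)).mpr even_two
        rw [heven.neg_one_pow, one_mul]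
      rw [hxhalf] at hxhalf'
      exact hne hxhalf'.symm
    · rintro (h | h)
      · exact absurd h hq4
      · have hba : b ≤ a := by omega
        refine ⟨1, one_ne_zero, ?_⟩
        rw [one_pow, one_mul, neg_pow]
        have hmeven : Even m := by
          rw [hm']
          apply Even.mul_right
          exact (Nat.even_pow' (by omega)).mpr even_two
        rw [hmeven.neg_one_pow, one_mul, hm']
        obtain ⟨d, hd⟩ := Nat.exists_eq_add_of_le hba
        rw [hd, pow_add, mul_assoc, pow_mul, hμpow, one_pow]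

end Cfsg.Agent.S2576
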