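import Cfsg.Statements.S2577
import Cfsg.Agent.Lib.Helper49.EigDim
import Cfsg.Agent.Lib.Helper49.PrimeOrderGL

set_option autoImplicit false
open Cfsg

namespace Cfsg.Agent.S2577

open Polynomial Cfsg.Agent.Lib.Helper49

section aux

variable {F : Type*} [Field F] [Fintype F] {n : ℕ}

/-- the invariant: largest eigenspace dimension -/
noncomputable def inv (g : GL (Fin n) F) : ℕ := maxEd (Matrix.toLin' (g : Matrix (Fin n) (Fin n) F))

theorem mem_center_iff (z : GL (Fin n) F) :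
    z ∈ Subgroup.center (GL (Fin n) F) ↔ ∃ c : F, c ≠ 0 ∧
      (z : Matrix (Fin n) (Fin n) F) = c • (1 : Matrix (Fin n) (Fin n) F) := by
  rw [Matrix.GeneralLinearGroup.mem_center_iff_val_mem_range_scalar]
  constructor
  · rintro ⟨c, hc⟩
    rcases Nat.eq_zero_or_pos n with hn | hn
    · subst hn
      exact ⟨1, one_ne_zero, Subsingleton.elim _ _⟩
    · refine ⟨c, ?_, ?_⟩
      · rintro rfl
        have h1 := (Matrix.isUnit_iff_isUnit_det _).mp z.isUnit
        rw [← hc] at h1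
        haveI : Nonempty (Fin n) := Fin.pos_iff_nonempty.mp hn
        rw [map_zero, Matrix.det_zero] at h1
        exact not_isUnit_zero h1
      · rw [← hc]
        ext i j
        simp [Matrix.scalar_apply, Matrix.diagonal_apply, Matrix.one_apply]
  · rintro ⟨c, _, hc⟩
    refine ⟨c, ?_⟩
    rw [hc]
    ext i j
    simp [Matrix.scalar_apply, Matrix.diagonal_apply, Matrix.one_apply]

theorem inv_center_mul (z g : GL (Fin n) F) (hz : z ∈ Subgroup.center (GL (Fin n) F)) :
    inv (z * g) = inv g := by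
  obtain ⟨c, hc0, hc⟩ := (mem_center_iff z).mp hz
  unfold inv
  rw [Units.val_mul, hc, Matrix.smul_mul, Matrix.one_mul, map_smul]
  exact maxEd_smul _ c hc0

theorem inv_conj (c g : GL (Fin n) F) : inv (c * g * c⁻¹) = inv g := by
  unfold inv
  symm
  apply maxEd_conj _ _ (glEquiv c)
  intro v
  rw [glEquiv_apply, glEquiv_apply, Matrix.toLin'_apply, Matrix.toLin'_apply, Matrix.mulVec_mulVec,
    Matrix.mulVec_mulVec, ← Units.val_mul, ← Units.val_mul, inv_mul_cancel_right]

theorem inv_eq_of_isConj (g g' : GL (Fin n) F)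
    (h : IsConj (QuotientGroup.mk g : GL (Fin n) F ⧸ Subgroup.center (GL (Fin n) F)) (QuotientGroup.mk g')) :
    inv g = inv g' := by
  obtain ⟨c', hc'⟩ := isConj_iff.mp h
  obtain ⟨c, rfl⟩ := QuotientGroup.mk_surjective c'
  rw [← QuotientGroup.mk_inv, ← QuotientGroup.mk_mul, ← QuotientGroup.mk_mul, QuotientGroup.eq] at hc'
  set z := (c * g * c⁻¹)⁻¹ * g' with hz
  have hg' : g' = z * (c * g * c⁻¹) := by
    rw [(Subgroup.mem_center_iff.mp hc' _).symm, hz, mul_inv_cancel_left]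
  rw [hg', inv_center_mul _ _ hc', inv_conj]


theorem sq_apply_of_mem_center (g : GL (Fin n) F) (h : g * g ∈ Subgroup.center (GL (Fin n) F)) :
    ∃ lam : F, lam ≠ 0 ∧ ∀ v, Matrix.toLin' (g : Matrix (Fin n) (Fin n) F)
      (Matrix.toLin' (g : Matrix (Fin n) (Fin n) F) v) = lam • v := by
  obtain ⟨c, hc0, hc⟩ := (mem_center_iff _).mp h
  refine ⟨c, hc0, fun v => ?_⟩
  rw [Matrix.toLin'_apply, Matrix.toLin'_apply, Matrix.mulVec_mulVec, ← Units.val_mul, hc,
    Matrix.smul_mulVec, Matrix.one_mulVec]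

theorem mem_center_of_ed_eq (hn : 0 < n) (g : GL (Fin n) F) (μ : F)
    (h : ed (Matrix.toLin' (g : Matrix (Fin n) (Fin n) F)) μ = n) :
    g ∈ Subgroup.center (GL (Fin n) F) := by
  have h1 : LinearMap.ker (aeval (Matrix.toLin' (g : Matrix (Fin n) (Fin n) F)) (X - C μ)) = ⊤ := by
    apply Submodule.eq_top_of_finrank_eq
    rw [Module.finrank_fin_fun]
    exact h
  have h2 : ∀ v, Matrix.toLin' (g : Matrix (Fin n) (Fin n) F) v = μ • v := by
    intro v
    rw [← mem_ker_aeval_X_sub_C, h1]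
    trivial
  have h3 : (g : Matrix (Fin n) (Fin n) F) = μ • (1 : Matrix (Fin n) (Fin n) F) := by
    apply Matrix.toLin'.injective
    apply LinearMap.ext
    intro v
    rw [h2, map_smul, Matrix.toLin'_one, LinearMap.smul_apply, LinearMap.id_apply]
  rw [mem_center_iff]
  refine ⟨μ, ?_, h3⟩
  rintro rfl
  have h4 := (Matrix.isUnit_iff_isUnit_det _).mp g.isUnit
  rw [h3, zero_smul] at h4
  haveI : Nonempty (Fin n) := Fin.pos_iff_nonempty.mp hn
  rw [Matrix.det_zero] at h4
  exact not_isUnit_zero h4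


/-- range of the invariant, square case -/
theorem inv_range_square (hn : 0 < n) (h2 : (2 : F) ≠ 0) (g : GL (Fin n) F)
    (hg : g ∉ Subgroup.center (GL (Fin n) F)) (μ : F) (hμ : μ ≠ 0)
    (h : ∀ v, Matrix.toLin' (g : Matrix (Fin n) (Fin n) F)
      (Matrix.toLin' (g : Matrix (Fin n) (Fin n) F) v) = (μ * μ) • v) :
    (n + 1) / 2 ≤ inv g ∧ inv g ≤ n - 1 ∧
      inv g = max (ed (Matrix.toLin' (g : Matrix (Fin n) (Fin n) F)) μ)
        (ed (Matrix.toLin' (g : Matrix (Fin n) (Fin n) F)) (-μ)) := by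
  have h1 := ed_add_ed _ μ h hμ h2
  rw [Module.finrank_fin_fun] at h1
  have h3 : inv g = max (ed (Matrix.toLin' (g : Matrix (Fin n) (Fin n) F)) μ)
        (ed (Matrix.toLin' (g : Matrix (Fin n) (Fin n) F)) (-μ)) := maxEd_eq_max _ μ h
  have ha : ed (Matrix.toLin' (g : Matrix (Fin n) (Fin n) F)) μ ≠ n :=
    fun h4 => hg (mem_center_of_ed_eq hn g μ h4)
  have hb : ed (Matrix.toLin' (g : Matrix (Fin n) (Fin n) F)) (-μ) ≠ n :=
    fun h4 => hg (mem_center_of_ed_eq hn g (-μ) h4)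
  refine ⟨?_, ?_, h3⟩
  · rw [h3]
    rcases le_total (ed (Matrix.toLin' (g : Matrix (Fin n) (Fin n) F)) μ)
      (ed (Matrix.toLin' (g : Matrix (Fin n) (Fin n) F)) (-μ)) with h5 | h5
    · rw [max_eq_right h5]; omega
    · rw [max_eq_left h5]; omega
  · rw [h3]
    rcases le_total (ed (Matrix.toLin' (g : Matrix (Fin n) (Fin n) F)) μ)
      (ed (Matrix.toLin' (g : Matrix (Fin n) (Fin n) F)) (-μ)) with h5 | h5
    · rw [max_eq_right h5]; omega
    · rw [max_eq_left h5]; omega

theorem irreducible_X_sq_sub_C (lam : F) (hlam : ¬ IsSquare lam) :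
    Irreducible (X ^ 2 - C lam : F[X]) := by
  rw [X_pow_sub_C_irreducible_iff_of_prime Nat.prime_two]
  intro b hb
  exact hlam ⟨b, by rw [← hb, pow_two]⟩

theorem aeval_X_sq_sub_C {V : Type*} [AddCommGroup V] [Module F V] (φ : V →ₗ[F] V) (lam : F)
    (h : ∀ v, φ (φ v) = lam • v) : aeval φ (X ^ 2 - C lam : F[X]) = 0 := by
  apply LinearMap.ext
  intro v
  rw [map_sub, map_pow, aeval_X, aeval_C, LinearMap.sub_apply, pow_two, Module.End.mul_apply, h,
    Module.algebraMap_end_apply, sub_self, LinearMap.zero_apply]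

/-- the non-square case -/
theorem inv_nonsquare (g : GL (Fin n) F) (lam : F) (hlam : ¬ IsSquare lam)
    (h : ∀ v, Matrix.toLin' (g : Matrix (Fin n) (Fin n) F)
      (Matrix.toLin' (g : Matrix (Fin n) (Fin n) F) v) = lam • v) :
    inv g = 0 ∧ Even n := by
  refine ⟨maxEd_eq_zero_of_nonsquare _ lam h hlam, ?_⟩
  have h1 := natDegree_dvd_finrank_of_irreducible _ _ (irreducible_X_sq_sub_C lam hlam)
    (aeval_X_sq_sub_C _ lam h)
  rw [Module.finrank_fin_fun, natDegree_X_pow_sub_C] at h1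
  exact even_iff_two_dvd.mpr h1


/-- the scalar matrix as an element of the centre -/
noncomputable def sc (n : ℕ) (c : F) (hc : c ≠ 0) : GL (Fin n) F :=
  Matrix.GeneralLinearGroup.scalar (Fin n) (Units.mk0 c hc)

theorem sc_val (c : F) (hc : c ≠ 0) :
    ((sc n c hc : GL (Fin n) F) : Matrix (Fin n) (Fin n) F) = c • (1 : Matrix (Fin n) (Fin n) F) := by
  unfold sc
  rw [Matrix.GeneralLinearGroup.coe_scalar]
  ext i j
  simp [Matrix.scalar_apply, Matrix.diagonal_apply, Matrix.one_apply]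

theorem sc_mem_center (c : F) (hc : c ≠ 0) : sc n c hc ∈ Subgroup.center (GL (Fin n) F) :=
  (mem_center_iff _).mpr ⟨c, hc, sc_val c hc⟩

theorem toLin'_sc_mul (c : F) (hc : c ≠ 0) (g : GL (Fin n) F) :
    Matrix.toLin' ((sc n c hc * g : GL (Fin n) F) : Matrix (Fin n) (Fin n) F) =
      c • Matrix.toLin' (g : Matrix (Fin n) (Fin n) F) := by
  rw [Units.val_mul, sc_val, Matrix.smul_mul, Matrix.one_mul, map_smul]

theorem mk_sc_mul (c : F) (hc : c ≠ 0) (g : GL (Fin n) F) :
    (QuotientGroup.mk (sc n c hc * g) : GL (Fin n) F ⧸ Subgroup.center (GL (Fin n) F)) =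
      QuotientGroup.mk g := by
  rw [QuotientGroup.mk_mul, (QuotientGroup.eq_one_iff _).mpr (sc_mem_center c hc), one_mul]

/-- factor data for `X ^ 2 - 1` in odd characteristic -/
theorem factorData_two (h2 : (2 : F) ≠ 0) : FactorData F 2 1 {(X + 1 : F[X])} := by
  have hX1 : (X + 1 : F[X]) = X - C (-1) := by rw [C_neg, C_1, sub_neg_eq_add]
  refine ⟨le_rfl, ?_, ?_, ?_, ?_, ?_, ?_⟩
  · intro P hP
    rw [Finset.mem_singleton.mp hP, hX1]
    exact irreducible_X_sub_C _
  · intro P hP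
    rw [Finset.mem_singleton.mp hP, hX1]
    exact natDegree_X_sub_C _
  · intro P hP P' hP' hne
    rw [Finset.mem_singleton.mp hP, Finset.mem_singleton.mp hP'] at hne
    exact absurd rfl hne
  · intro P hP
    rw [Finset.mem_singleton.mp hP, hX1]
    have : (X - 1 : F[X]) = X - C 1 := by rw [C_1]
    rw [this]
    apply isCoprime_X_sub_C_of_isUnit_sub
    rw [sub_neg_eq_add, one_add_one_eq_two]
    exact h2.isUnit
  · rw [Finset.prod_singleton]; ring
  · have := (separable_X_pow_sub_C (1 : F) (n := 2) (by exact_mod_cast h2) one_ne_zero).squarefree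
    rwa [C_1] at this

theorem isConj_of_inv_eq [DecidableEq F] (hn : 0 < n) (h2 : (2 : F) ≠ 0) (g g' : GL (Fin n) F)
    (hg : g * g ∈ Subgroup.center (GL (Fin n) F)) (hgn : g ∉ Subgroup.center (GL (Fin n) F))
    (hg' : g' * g' ∈ Subgroup.center (GL (Fin n) F)) (hgn' : g' ∉ Subgroup.center (GL (Fin n) F))
    (hinv : inv g = inv g') :
    IsConj (QuotientGroup.mk g : GL (Fin n) F ⧸ Subgroup.center (GL (Fin n) F)) (QuotientGroup.mk g') := by
  obtain ⟨lam, hlam0, hlam⟩ := sq_apply_of_mem_center g hg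
  obtain ⟨lam', hlam0', hlam'⟩ := sq_apply_of_mem_center g' hg'
  have hpos : 1 ≤ (n + 1) / 2 := by omega
  -- reduction: conjugacy of central multiples suffices
  have key : ∀ (c c' : F) (hc : c ≠ 0) (hc' : c' ≠ 0), IsConj (sc n c hc * g) (sc n c' hc' * g') →
      IsConj (QuotientGroup.mk g : GL (Fin n) F ⧸ Subgroup.center (GL (Fin n) F)) (QuotientGroup.mk g') := by
    intro c c' hc hc' h
    have := (QuotientGroup.mk' (Subgroup.center (GL (Fin n) F))).map_isConj h
    rw [QuotientGroup.mk'_apply, QuotientGroup.mk'_apply, mk_sc_mul, mk_sc_mul] at this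
    exact this
  by_cases hsq : IsSquare lam
  · obtain ⟨μ, hμ⟩ := hsq
    have hμ0 : μ ≠ 0 := by rintro rfl; exact hlam0 (by rw [hμ, mul_zero])
    rw [hμ] at hlam
    obtain ⟨r1, r2, r3⟩ := inv_range_square hn h2 g hgn μ hμ0 hlam
    have hsq' : IsSquare lam' := by
      by_contra hns
      have := (inv_nonsquare g' lam' hns hlam').1
      omega
    obtain ⟨μ', hμ'⟩ := hsq'
    have hμ0' : μ' ≠ 0 := by rintro rfl; exact hlam0' (by rw [hμ', mul_zero])
    rw [hμ'] at hlam'
    obtain ⟨r1', r2', r3'⟩ := inv_range_square hn h2 g' hgn' μ' hμ0' hlam'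
    -- choose the sign
    obtain ⟨μ₁, hμ₁0, hμ₁sq, hμ₁⟩ : ∃ μ₁ : F, μ₁ ≠ 0 ∧ μ₁ * μ₁ = μ * μ ∧
        ed (Matrix.toLin' (g : Matrix (Fin n) (Fin n) F)) μ₁ = inv g := by
      rcases max_choice (ed (Matrix.toLin' (g : Matrix (Fin n) (Fin n) F)) μ)
        (ed (Matrix.toLin' (g : Matrix (Fin n) (Fin n) F)) (-μ)) with h | h
      · exact ⟨μ, hμ0, rfl, by rw [r3, h]⟩
      · exact ⟨-μ, neg_ne_zero.mpr hμ0, by ring, by rw [r3, h]⟩
    obtain ⟨μ₁', hμ₁0', hμ₁sq', hμ₁'⟩ : ∃ μ₁ : F, μ₁ ≠ 0 ∧ μ₁ * μ₁ = μ' * μ' ∧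
        ed (Matrix.toLin' (g' : Matrix (Fin n) (Fin n) F)) μ₁ = inv g' := by
      rcases max_choice (ed (Matrix.toLin' (g' : Matrix (Fin n) (Fin n) F)) μ')
        (ed (Matrix.toLin' (g' : Matrix (Fin n) (Fin n) F)) (-μ')) with h | h
      · exact ⟨μ', hμ0', rfl, by rw [r3', h]⟩
      · exact ⟨-μ', neg_ne_zero.mpr hμ0', by ring, by rw [r3', h]⟩
    apply key μ₁⁻¹ μ₁'⁻¹ (inv_ne_zero hμ₁0) (inv_ne_zero hμ₁0')
    set φ₁ := Matrix.toLin' ((sc n μ₁⁻¹ (inv_ne_zero hμ₁0) * g : GL (Fin n) F) : Matrix (Fin n) (Fin n) F) with hφ₁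
    set ψ₁ := Matrix.toLin' ((sc n μ₁'⁻¹ (inv_ne_zero hμ₁0') * g' : GL (Fin n) F) : Matrix (Fin n) (Fin n) F) with hψ₁
    have D2 := factorData_two (F := F) h2
    have hφ₁sq : ∀ v, φ₁ (φ₁ v) = v := by
      intro v
      rw [hφ₁, toLin'_sc_mul, LinearMap.smul_apply, LinearMap.smul_apply, map_smul, hlam, smul_smul,
        smul_smul, ← hμ₁sq]
      have : μ₁⁻¹ * μ₁⁻¹ * (μ₁ * μ₁) = 1 := by field_simp
      rw [this, one_smul]
    have hψ₁sq : ∀ v, ψ₁ (ψ₁ v) = v := by
      intro v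
      rw [hψ₁, toLin'_sc_mul, LinearMap.smul_apply, LinearMap.smul_apply, map_smul, hlam', smul_smul,
        smul_smul, ← hμ₁sq']
      have : μ₁'⁻¹ * μ₁'⁻¹ * (μ₁' * μ₁') = 1 := by field_simp
      rw [this, one_smul]
    have hφ₁a : aeval φ₁ (X ^ 2 - 1 : F[X]) = 0 := by
      have := aeval_X_sq_sub_C φ₁ 1 (fun v => by rw [hφ₁sq, one_smul])
      rwa [C_1] at this
    have hψ₁a : aeval ψ₁ (X ^ 2 - 1 : F[X]) = 0 := by
      have := aeval_X_sq_sub_C ψ₁ 1 (fun v => by rw [hψ₁sq, one_smul])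
      rwa [C_1] at this
    have e1 : kdim φ₁ (X - 1) = inv g := by
      have h1 : ed φ₁ (μ₁⁻¹ * μ₁) = ed (Matrix.toLin' (g : Matrix (Fin n) (Fin n) F)) μ₁ := by
        rw [hφ₁, toLin'_sc_mul]; exact ed_smul _ _ (inv_ne_zero hμ₁0) _
      rw [inv_mul_cancel₀ hμ₁0] at h1
      unfold ed at h1
      rw [C_1] at h1
      rw [h1]; exact hμ₁
    have e2 : kdim ψ₁ (X - 1) = inv g' := by
      have h1 : ed ψ₁ (μ₁'⁻¹ * μ₁') = ed (Matrix.toLin' (g' : Matrix (Fin n) (Fin n) F)) μ₁' := by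
        rw [hψ₁, toLin'_sc_mul]; exact ed_smul _ _ (inv_ne_zero hμ₁0') _
      rw [inv_mul_cancel₀ hμ₁0'] at h1
      unfold ed at h1
      rw [C_1] at h1
      rw [h1]; exact hμ₁'
    have f1 := D2.finrank_eq φ₁ hφ₁a
    have f2 := D2.finrank_eq ψ₁ hψ₁a
    rw [Finset.sum_singleton, e1] at f1
    rw [Finset.sum_singleton, e2] at f2
    obtain ⟨e, he⟩ := D2.exists_equiv φ₁ ψ₁ hφ₁a hψ₁a rfl (by
      intro P hP
      rw [Finset.mem_singleton.mp hP]
      omega)
    exact isConj_of_equiv _ _ e he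
  · have hi0 := (inv_nonsquare g lam hsq hlam).1
    have hsq' : ¬ IsSquare lam' := by
      rintro ⟨μ', hμ'⟩
      have hμ0' : μ' ≠ 0 := by rintro rfl; exact hlam0' (by rw [hμ', mul_zero])
      rw [hμ'] at hlam'
      obtain ⟨r1', _, _⟩ := inv_range_square hn h2 g' hgn' μ' hμ0' hlam'
      omega
    -- lam' / lam is a square
    have hchar : ringChar F ≠ 2 := by
      intro h
      apply h2
      have := CharP.cast_eq_zero F (ringChar F)
      rw [h] at this
      exact_mod_cast this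
    have hprod : IsSquare (lam' * lam) := by
      rw [← quadraticChar_one_iff_isSquare (mul_ne_zero hlam0' hlam0), map_mul,
        quadraticChar_neg_one_iff_not_isSquare.mpr hsq, quadraticChar_neg_one_iff_not_isSquare.mpr hsq']
      norm_num
    obtain ⟨d, hd⟩ := hprod
    have hd0 : d ≠ 0 := by rintro rfl; exact (mul_ne_zero hlam0' hlam0) (by rw [hd, mul_zero])
    set c := d / lam with hc
    have hc0 : c ≠ 0 := div_ne_zero hd0 hlam0
    have hcc : c * c * lam = lam' := by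
      rw [hc]; field_simp; rw [pow_two, ← hd, mul_comm]
    apply key c 1 hc0 one_ne_zero
    set φ₁ := Matrix.toLin' ((sc n c hc0 * g : GL (Fin n) F) : Matrix (Fin n) (Fin n) F) with hφ₁
    set ψ₁ := Matrix.toLin' ((sc n 1 one_ne_zero * g' : GL (Fin n) F) : Matrix (Fin n) (Fin n) F) with hψ₁
    have hφ₁sq : ∀ v, φ₁ (φ₁ v) = lam' • v := by
      intro v
      rw [hφ₁, toLin'_sc_mul, LinearMap.smul_apply, LinearMap.smul_apply, map_smul, hlam, smul_smul,
        smul_smul, ← hcc]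
    have hψ₁sq : ∀ v, ψ₁ (ψ₁ v) = lam' • v := by
      intro v
      rw [hψ₁, toLin'_sc_mul, one_smul, hlam']
    obtain ⟨e, he⟩ := exists_equiv_of_irreducible φ₁ ψ₁ _ (irreducible_X_sq_sub_C lam' hsq')
      (aeval_X_sq_sub_C φ₁ lam' hφ₁sq) (aeval_X_sq_sub_C ψ₁ lam' hψ₁sq) rfl
    exact isConj_of_equiv _ _ e he


theorem toLin'_center (hn : 0 < n) (g : GL (Fin n) F) (hg : g ∈ Subgroup.center (GL (Fin n) F)) :
    ∃ c : F, ed (Matrix.toLin' (g : Matrix (Fin n) (Fin n) F)) c = n := by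
  obtain ⟨c, _, hc⟩ := (mem_center_iff g).mp hg
  refine ⟨c, ?_⟩
  unfold ed
  rw [kdim_of_aeval_eq_zero, Module.finrank_fin_fun]
  apply LinearMap.ext
  intro v
  rw [map_sub, aeval_X, aeval_C, LinearMap.sub_apply, Module.algebraMap_end_apply, hc, map_smul,
    Matrix.toLin'_one, LinearMap.smul_apply, LinearMap.id_apply, sub_self, LinearMap.zero_apply]

theorem exists_of_mem (hn : 2 ≤ n) (h2 : (2 : F) ≠ 0) (d : ℕ)
    (hd : ((n + 1) / 2 ≤ d ∧ d ≤ n - 1) ∨ (d = 0 ∧ Even n)) :
    ∃ g : GL (Fin n) F, g * g ∈ Subgroup.center (GL (Fin n) F) ∧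
      g ∉ Subgroup.center (GL (Fin n) F) ∧ inv g = d := by
  classical
  rcases hd with ⟨hd1, hd2⟩ | ⟨rfl, hev⟩
  · have D2 := factorData_two (F := F) h2
    obtain ⟨g, hg2, hgk⟩ := D2.exists_realize (by norm_num) n (fun _ => n - d) (by
      rw [Finset.sum_const, Finset.card_univ, Fintype.card_coe, Finset.card_singleton]
      simp)
    have hgg : g * g = 1 := by rw [← pow_two]; exact hg2
    have hk1 : kdim (Matrix.toLin' (g : Matrix (Fin n) (Fin n) F)) (X + 1) = n - d := by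
      have := hgk ⟨X + 1, Finset.mem_singleton_self _⟩
      rw [one_mul] at this
      exact this
    have hae := aeval_toLin'_pow_sub_one g 2 hg2
    have hfr := D2.finrank_eq _ hae
    rw [Module.finrank_fin_fun, Finset.sum_singleton, hk1] at hfr
    have hsq : ∀ v, Matrix.toLin' (g : Matrix (Fin n) (Fin n) F)
        (Matrix.toLin' (g : Matrix (Fin n) (Fin n) F) v) = ((1 : F) * 1) • v := by
      intro v
      rw [Matrix.toLin'_apply, Matrix.toLin'_apply, Matrix.mulVec_mulVec, ← Units.val_mul, hgg,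
        Units.val_one, Matrix.one_mulVec, one_mul, one_smul]
    have he1 : ed (Matrix.toLin' (g : Matrix (Fin n) (Fin n) F)) 1 = d := by
      unfold ed
      rw [C_1]
      omega
    have he2 : ed (Matrix.toLin' (g : Matrix (Fin n) (Fin n) F)) (-1) = n - d := by
      unfold ed
      rw [C_neg, C_1, sub_neg_eq_add]
      exact hk1
    have hmax : inv g = max d (n - d) := by
      unfold inv
      rw [maxEd_eq_max _ 1 hsq, he1, he2]
    refine ⟨g, ?_, ?_, ?_⟩
    · rw [hgg]; exact Subgroup.one_mem _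
    · intro hz
      obtain ⟨c, hc⟩ := toLin'_center (by omega) g hz
      have := ed_le_maxEd (Matrix.toLin' (g : Matrix (Fin n) (Fin n) F)) c
      rw [hc] at this
      change n ≤ inv g at this
      rw [hmax] at this
      rcases le_total d (n - d) with h | h
      · rw [max_eq_right h] at this; omega
      · rw [max_eq_left h] at this; omega
    · rw [hmax]
      apply max_eq_left
      omega
  · obtain ⟨k, hk⟩ := hev
    have hchar : ringChar F ≠ 2 := by
      intro h
      apply h2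
      have := CharP.cast_eq_zero F (ringChar F)
      rw [h] at this
      exact_mod_cast this
    obtain ⟨ν, hν⟩ := FiniteField.exists_nonsquare hchar
    have hν0 : ν ≠ 0 := by rintro rfl; exact hν ⟨0, by simp⟩
    let Q : Fin k → F[X] := fun _ => X ^ 2 - C ν
    have hQ : ∀ j, Irreducible (Q j) := fun _ => irreducible_X_sq_sub_C ν hν
    haveI := finiteDimensional_model Q hQ
    have hfr : Module.finrank F ((j : Fin k) → AdjoinRoot (Q j)) = n := by
      rw [finrank_model Q hQ]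
      simp only [Q, natDegree_X_pow_sub_C, Finset.sum_const, Finset.card_univ, Fintype.card_fin,
        smul_eq_mul]
      omega
    obtain ⟨G, hG1, _⟩ := exists_matrix_of_operator (modelOp Q) n hfr
    have hGs := hG1 (X ^ 2 - C ν) (aeval_modelOp_eq_zero Q _ (fun j => dvd_rfl))
    have hGG : G * G = ν • (1 : Matrix (Fin n) (Fin n) F) := by
      rw [map_sub, map_pow, aeval_X, aeval_C, sub_eq_zero, pow_two] at hGs
      rw [hGs, Algebra.algebraMap_eq_smul_one]
    let g : GL (Fin n) F := ⟨G, ν⁻¹ • G, by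
      rw [Matrix.mul_smul, hGG, smul_smul, inv_mul_cancel₀ hν0, one_smul], by
      rw [Matrix.smul_mul, hGG, smul_smul, inv_mul_cancel₀ hν0, one_smul]⟩
    have hsq : ∀ v, Matrix.toLin' (g : Matrix (Fin n) (Fin n) F)
        (Matrix.toLin' (g : Matrix (Fin n) (Fin n) F) v) = ν • v := by
      intro v
      change Matrix.toLin' G (Matrix.toLin' G v) = ν • v
      rw [Matrix.toLin'_apply, Matrix.toLin'_apply, Matrix.mulVec_mulVec, hGG, Matrix.smul_mulVec,
        Matrix.one_mulVec]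
    refine ⟨g, ?_, ?_, (inv_nonsquare g ν hν hsq).1⟩
    · rw [mem_center_iff]
      exact ⟨ν, hν0, hGG⟩
    · intro hz
      obtain ⟨c, hc⟩ := toLin'_center (by omega) g hz
      have h0 := (inv_nonsquare g ν hν hsq).1
      have := ed_le_maxEd (Matrix.toLin' (g : Matrix (Fin n) (Fin n) F)) c
      rw [hc] at this
      change n ≤ inv g at this
      omega

end aux

/-- Number of conjugacy classes of involutions in PGL_n(q) for q odd and n ≥ 2: there are ⌊n/2⌋ classes represented by diagonal matrices with i entries −1 (1 ≤ i ≤ n/2) and, when n is even, one more class represented by a block-diagonal matrix of 2 × 2 blocks [[0, 1], [μ, 0]] with μ a non-square (a matrix squaring to a scalar but having no eigenvalue in the field); in all ⌊n/2⌋ + 1 classes if n is even and ⌊n/2⌋ if n is odd. -/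
theorem result {F : Type*} [Field F] [Fintype F] {q : ℕ} (hF : Fintype.card F = q) (hq : Odd q) {n : ℕ} (hn : 2 ≤ n) : Nat.card {C : ConjClasses (GL (Fin n) F ⧸ Subgroup.center (GL (Fin n) F)) // ∃ g : GL (Fin n) F ⧸ Subgroup.center (GL (Fin n) F), ConjClasses.mk g = C ∧ orderOf g = 2} = n / 2 + (if Even n then 1 else 0) := by
  classical
  have hchar : ringChar F ≠ 2 := by
    intro h
    have := FiniteField.even_card_of_char_two h
    rw [hF] at this
    obtain ⟨k, hk⟩ := hq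
    omega
  have h2 : (2 : F) ≠ 0 := Ring.two_ne_zero hchar
  have hn0 : 0 < n := by omega
  let S := {C : ConjClasses (GL (Fin n) F ⧸ Subgroup.center (GL (Fin n) F)) //
    ∃ g : GL (Fin n) F ⧸ Subgroup.center (GL (Fin n) F), ConjClasses.mk g = C ∧ orderOf g = 2}
  let Tset : Finset ℕ := Finset.Icc ((n + 1) / 2) (n - 1) ∪ (if Even n then {0} else ∅)
  let T := {d : ℕ // d ∈ Tset}
  have hmemT : ∀ d, d ∈ Tset ↔ ((n + 1) / 2 ≤ d ∧ d ≤ n - 1) ∨ (d = 0 ∧ Even n) := by
    intro d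
    simp only [Tset, Finset.mem_union, Finset.mem_Icc]
    by_cases he : Even n
    · simp [he]
    · simp [he]
  have hex : ∀ C : S, ∃ g : GL (Fin n) F,
      ConjClasses.mk (QuotientGroup.mk g : GL (Fin n) F ⧸ Subgroup.center (GL (Fin n) F)) = C.1 ∧
      orderOf (QuotientGroup.mk g : GL (Fin n) F ⧸ Subgroup.center (GL (Fin n) F)) = 2 := by
    rintro ⟨C, x, hx, hxo⟩
    obtain ⟨g, rfl⟩ := QuotientGroup.mk_surjective x
    exact ⟨g, hx, hxo⟩
  choose rep hrep hord using hex
  have horder : ∀ g : GL (Fin n) F,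
      orderOf (QuotientGroup.mk g : GL (Fin n) F ⧸ Subgroup.center (GL (Fin n) F)) = 2 ↔
      (g * g ∈ Subgroup.center (GL (Fin n) F) ∧ g ∉ Subgroup.center (GL (Fin n) F)) := by
    intro g
    haveI : Fact (Nat.Prime 2) := ⟨Nat.prime_two⟩
    rw [orderOf_eq_prime_iff, pow_two, ← QuotientGroup.mk_mul, QuotientGroup.eq_one_iff, Ne,
      QuotientGroup.eq_one_iff]
  have hT : ∀ C : S, inv (rep C) ∈ Tset := by
    intro C
    obtain ⟨hg, hgn⟩ := (horder (rep C)).mp (hord C)
    obtain ⟨lam, hlam0, hlam⟩ := sq_apply_of_mem_center (rep C) hg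
    rw [hmemT]
    by_cases hsq : IsSquare lam
    · obtain ⟨μ, hμ⟩ := hsq
      have hμ0 : μ ≠ 0 := by rintro rfl; exact hlam0 (by rw [hμ, mul_zero])
      rw [hμ] at hlam
      obtain ⟨r1, r2, _⟩ := inv_range_square hn0 h2 (rep C) hgn μ hμ0 hlam
      exact Or.inl ⟨r1, r2⟩
    · exact Or.inr (inv_nonsquare (rep C) lam hsq hlam)
  let f : S → T := fun C => ⟨inv (rep C), hT C⟩
  have hbij : Function.Bijective f := by
    constructor
    · intro C C' h
      have h0 : inv (rep C) = inv (rep C') := congrArg Subtype.val h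
      obtain ⟨hg, hgn⟩ := (horder (rep C)).mp (hord C)
      obtain ⟨hg', hgn'⟩ := (horder (rep C')).mp (hord C')
      have h1 := isConj_of_inv_eq hn0 h2 (rep C) (rep C') hg hgn hg' hgn' h0
      apply Subtype.ext
      rw [← hrep C, ← hrep C']
      exact ConjClasses.mk_eq_mk_iff_isConj.mpr h1
    · rintro ⟨d, hd⟩
      obtain ⟨g, hg1, hg2, hg3⟩ := exists_of_mem hn h2 d ((hmemT d).mp hd)
      let C : S := ⟨ConjClasses.mk (QuotientGroup.mk g), QuotientGroup.mk g, rfl, (horder g).mpr ⟨hg1, hg2⟩⟩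
      refine ⟨C, ?_⟩
      apply Subtype.ext
      have h1 : IsConj (QuotientGroup.mk (rep C) : GL (Fin n) F ⧸ Subgroup.center (GL (Fin n) F))
          (QuotientGroup.mk g) := ConjClasses.mk_eq_mk_iff_isConj.mp (hrep C)
      change inv (rep C) = d
      rw [inv_eq_of_isConj _ _ h1, hg3]
  rw [Nat.card_eq_of_bijective f hbij, Nat.card_eq_fintype_card, Fintype.card_coe]
  have hdisj : Disjoint (Finset.Icc ((n + 1) / 2) (n - 1)) (if Even n then ({0} : Finset ℕ) else ∅) := by
    by_cases he : Even n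
    · rw [if_pos he, Finset.disjoint_singleton_right, Finset.mem_Icc]
      omega
    · rw [if_neg he]; exact Finset.disjoint_empty_right _
  rw [Finset.card_union_of_disjoint hdisj, Nat.card_Icc]
  by_cases he : Even n
  · rw [if_pos he, if_pos he, Finset.card_singleton]; omega
  · rw [if_neg he, if_neg he, Finset.card_empty]; omega

end Cfsg.Agent.S2577
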