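import Cfsg.Statements.S2578
import Cfsg.Agent.Lib.Helper49.ShiftMatrix

set_option autoImplicit false
open Cfsg

namespace Cfsg.Agent.S2578

open Cfsg.Agent.Lib.Helper49 Module Matrix

variable {F : Type*} [Field F] {n : ℕ}

/-- the base regular unipotent element of `GL` -/
noncomputable def baseGL (F : Type*) [Field F] (n : ℕ) (hn : 1 ≤ n) : GL (Fin n) F :=
  Matrix.GeneralLinearGroup.mkOfDetNeZero (1 + shiftMat F n) (by
    rw [(isRegUnip_one_add_shift hn).det_eq_one]; exact one_ne_zero)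

theorem baseGL_coe (hn : 1 ≤ n) : ((baseGL F n hn : GL (Fin n) F) : Matrix (Fin n) (Fin n) F) = 1 + shiftMat F n := rfl

theorem exists_conj_base (hn : 1 ≤ n) (u : SpecialLinearGroup (Fin n) F)
    (hu : IsRegUnip (u : Matrix (Fin n) (Fin n) F)) :
    ∃ g : GL (Fin n) F, g * baseGL F n hn * g⁻¹ = SpecialLinearGroup.toGL u := by
  obtain ⟨g, hg⟩ := (isRegUnip_one_add_shift hn).exists_conj hn hu
  refine ⟨g, ?_⟩
  rw [mul_inv_eq_iff_eq_mul]
  apply Units.ext
  rw [Units.val_mul, Units.val_mul, baseGL_coe]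
  exact hg

theorem det_mem_of_commute_base (hn : 1 ≤ n) (k : GL (Fin n) F)
    (hk : k * baseGL F n hn = baseGL F n hn * k) :
    Matrix.GeneralLinearGroup.det k ∈ (powMonoidHom n : Fˣ →* Fˣ).range := by
  have h1 : (k : Matrix (Fin n) (Fin n) F) * (1 + shiftMat F n) = (1 + shiftMat F n) * (k : Matrix (Fin n) (Fin n) F) := by
    have := congrArg (fun x : GL (Fin n) F => (x : Matrix (Fin n) (Fin n) F)) hk
    simpa [baseGL_coe] using this
  obtain ⟨c, hc⟩ := (isRegUnip_one_add_shift hn).det_commute hn k h1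
  exact ⟨c, hc.symm⟩

theorem key (hn : 1 ≤ n) (u u' : SpecialLinearGroup (Fin n) F) (g g' : GL (Fin n) F)
    (hg : g * baseGL F n hn * g⁻¹ = SpecialLinearGroup.toGL u)
    (hg' : g' * baseGL F n hn * g'⁻¹ = SpecialLinearGroup.toGL u') :
    ((Matrix.GeneralLinearGroup.det g : Fˣ) : Fˣ ⧸ (powMonoidHom n : Fˣ →* Fˣ).range)
      = ((Matrix.GeneralLinearGroup.det g' : Fˣ) : Fˣ ⧸ (powMonoidHom n : Fˣ →* Fˣ).range)
    ↔ IsConj u u' := by
  constructor
  · intro h
    rw [QuotientGroup.eq] at h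
    obtain ⟨c, hc⟩ := h
    rw [powMonoidHom_apply] at hc
    set z : GL (Fin n) F := Matrix.GeneralLinearGroup.scalar (Fin n) c⁻¹ with hz
    have hzc : ∀ A : GL (Fin n) F, z * A = A * z := fun A => Matrix.GeneralLinearGroup.scalar_commute _ A
    set h : GL (Fin n) F := g' * z * g⁻¹ with hh
    have hdet : Matrix.GeneralLinearGroup.det h = 1 := by
      rw [hh, map_mul, map_mul, map_inv, hz, Matrix.GeneralLinearGroup.det_scalar]
      simp only [Fintype.card_fin]
      rw [inv_pow, hc, _root_.mul_inv_rev, inv_inv]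
      have hcm : ∀ a b : Fˣ, a * (b⁻¹ * a) * a⁻¹ = a * b⁻¹ := by
        intro a b; group
      calc Matrix.GeneralLinearGroup.det g' * ((Matrix.GeneralLinearGroup.det g')⁻¹ * Matrix.GeneralLinearGroup.det g) * (Matrix.GeneralLinearGroup.det g)⁻¹
          = (Matrix.GeneralLinearGroup.det g' * (Matrix.GeneralLinearGroup.det g')⁻¹) * (Matrix.GeneralLinearGroup.det g * (Matrix.GeneralLinearGroup.det g)⁻¹) := by
            simp only [mul_assoc]
        _ = 1 := by rw [mul_inv_cancel, mul_inv_cancel, one_mul]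
    have hconj : h * SpecialLinearGroup.toGL u = SpecialLinearGroup.toGL u' * h := by
      rw [← hg, ← hg', hh]
      have e1 : g' * z * g⁻¹ * (g * baseGL F n hn * g⁻¹) = g' * (z * baseGL F n hn) * g⁻¹ := by group
      have e2 : g' * baseGL F n hn * g'⁻¹ * (g' * z * g⁻¹) = g' * (baseGL F n hn * z) * g⁻¹ := by group
      rw [e1, e2, hzc]
    have hdet' : (h : Matrix (Fin n) (Fin n) F).det = 1 := by
      have := congrArg Units.val hdet
      simpa using this
    rw [isConj_iff]
    let hS : Matrix.SpecialLinearGroup (Fin n) F := ⟨(h : Matrix (Fin n) (Fin n) F), hdet'⟩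
    refine ⟨hS, ?_⟩
    rw [mul_inv_eq_iff_eq_mul]
    apply Subtype.ext
    have := congrArg (fun x : GL (Fin n) F => (x : Matrix (Fin n) (Fin n) F)) hconj
    simpa using this
  · intro h
    rw [isConj_iff] at h
    obtain ⟨s, hs⟩ := h
    have hs' : SpecialLinearGroup.toGL s * SpecialLinearGroup.toGL u * (SpecialLinearGroup.toGL s)⁻¹
        = SpecialLinearGroup.toGL u' := by
      rw [← map_mul, ← map_inv, ← map_mul, hs]
    set k : GL (Fin n) F := g'⁻¹ * SpecialLinearGroup.toGL s * g with hk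
    have hkc : k * baseGL F n hn = baseGL F n hn * k := by
      have e1 : baseGL F n hn = g⁻¹ * SpecialLinearGroup.toGL u * g := by rw [← hg]; group
      have e2 : baseGL F n hn = g'⁻¹ * SpecialLinearGroup.toGL u' * g' := by rw [← hg']; group
      have e3 : k * (g⁻¹ * SpecialLinearGroup.toGL u * g) = (g'⁻¹ * SpecialLinearGroup.toGL u' * g') * k := by
        rw [hk, ← hs']
        group
      calc k * baseGL F n hn = k * (g⁻¹ * SpecialLinearGroup.toGL u * g) := by rw [← e1]
        _ = (g'⁻¹ * SpecialLinearGroup.toGL u' * g') * k := e3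
        _ = baseGL F n hn * k := by rw [← e2]
    have hmem := det_mem_of_commute_base hn k hkc
    have hdets : Matrix.GeneralLinearGroup.det (SpecialLinearGroup.toGL s) = 1 := by
      apply Units.ext
      simp
    rw [hk, map_mul, map_mul, map_inv, hdets, mul_one] at hmem
    rw [eq_comm, QuotientGroup.eq]
    exact hmem

theorem result {F : Type*} [Field F] [Fintype F] {q : ℕ} (hF : Fintype.card F = q) {n : ℕ} (hn : 2 ≤ n) : Nat.card {C : ConjClasses (Matrix.SpecialLinearGroup (Fin n) F) // ∃ u : Matrix.SpecialLinearGroup (Fin n) F, ConjClasses.mk u = C ∧ ((u : Matrix (Fin n) (Fin n) F) - 1) ^ n = 0 ∧ ((u : Matrix (Fin n) (Fin n) F) - 1).rank = n - 1} = Nat.gcd n (q - 1) := by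
  classical
  subst hF
  have hn1 : 1 ≤ n := by omega
  have : Nonempty (Fin n) := ⟨⟨0, by omega⟩⟩
  have hcardQ : Nat.card (Fˣ ⧸ (powMonoidHom n : Fˣ →* Fˣ).range) = Nat.gcd n (Fintype.card F - 1) := by
    rw [← Subgroup.index_eq_card, IsCyclic.index_powMonoidHom_range, Nat.card_eq_fintype_card,
      Fintype.card_units, Nat.gcd_comm]
  rw [← hcardQ]
  -- choice of representative data
  have hdata : ∀ C : {C : ConjClasses (Matrix.SpecialLinearGroup (Fin n) F) // ∃ u : Matrix.SpecialLinearGroup (Fin n) F, ConjClasses.mk u = C ∧ ((u : Matrix (Fin n) (Fin n) F) - 1) ^ n = 0 ∧ ((u : Matrix (Fin n) (Fin n) F) - 1).rank = n - 1},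
      ∃ (u : Matrix.SpecialLinearGroup (Fin n) F) (g : GL (Fin n) F), ConjClasses.mk u = C.1 ∧
        g * baseGL F n hn1 * g⁻¹ = SpecialLinearGroup.toGL u := by
    rintro ⟨C, u, hu, h1, h2⟩
    obtain ⟨g, hg⟩ := exists_conj_base hn1 u ⟨h1, h2⟩
    exact ⟨u, g, hu, hg⟩
  choose U G hU hG using hdata
  apply Nat.card_congr
  refine Equiv.ofBijective (fun C => ((Matrix.GeneralLinearGroup.det (G C) : Fˣ) : Fˣ ⧸ (powMonoidHom n : Fˣ →* Fˣ).range)) ⟨?_, ?_⟩
  · intro C C' h
    have := (key hn1 (U C) (U C') (G C) (G C') (hG C) (hG C')).mp h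
    apply Subtype.ext
    rw [← hU C, ← hU C']
    exact ConjClasses.mk_eq_mk_iff_isConj.mpr this
  · intro x
    obtain ⟨d, rfl⟩ := QuotientGroup.mk_surjective x
    obtain ⟨gd, hgd⟩ := Matrix.GeneralLinearGroup.det_surjective (n := Fin n) (R := F) d
    -- the conjugate of the base element
    set m : GL (Fin n) F := gd * baseGL F n hn1 * gd⁻¹ with hm
    have hmreg : IsRegUnip (m : Matrix (Fin n) (Fin n) F) := by
      apply IsRegUnip.of_conj gd _ (isRegUnip_one_add_shift hn1)
      have : gd * baseGL F n hn1 = m * gd := by rw [hm]; group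
      have := congrArg (fun x : GL (Fin n) F => (x : Matrix (Fin n) (Fin n) F)) this
      simpa [baseGL_coe] using this
    let ud : Matrix.SpecialLinearGroup (Fin n) F := ⟨(m : Matrix (Fin n) (Fin n) F), hmreg.det_eq_one⟩
    have hud : SpecialLinearGroup.toGL ud = m := by
      apply Units.ext
      rfl
    let Cd : {C : ConjClasses (Matrix.SpecialLinearGroup (Fin n) F) // ∃ u : Matrix.SpecialLinearGroup (Fin n) F, ConjClasses.mk u = C ∧ ((u : Matrix (Fin n) (Fin n) F) - 1) ^ n = 0 ∧ ((u : Matrix (Fin n) (Fin n) F) - 1).rank = n - 1} :=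
      ⟨ConjClasses.mk ud, ud, rfl, hmreg.1, hmreg.2⟩
    refine ⟨Cd, ?_⟩
    have hconj : IsConj (U Cd) ud := ConjClasses.mk_eq_mk_iff_isConj.mp (hU Cd)
    have := (key hn1 (U Cd) ud (G Cd) gd (hG Cd) (by rw [hud])).mpr hconj
    simp only
    rw [this, hgd]

end Cfsg.Agent.S2578
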