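import Cfsg.Statements.S2583
import Cfsg.Agent.Lib.Helper49.UnipOrthMain

set_option autoImplicit false
open Cfsg

namespace Cfsg.Agent.S2583

/-- Which unipotent Jordan types occur in a finite orthogonal group in odd characteristic: over a finite field of odd order, a unipotent matrix with Jordan block sizes d_1, …, d_t (sum n, all at least 1) is similar to an isometry of some quadratic form on F^n with non-degenerate polar form if and only if every even block size occurs an even number of times. -/
theorem result {F : Type*} [Field F] [Fintype F] (h2 : (2 : F) ≠ 0) {n t : ℕ} (d : Fin t → ℕ) (hd : ∀ k, 1 ≤ d k) (hsum : ∑ k, d k = n) : (∃ Q : QuadraticForm F (Fin n → F), (QuadraticMap.polarBilin Q).Nondegenerate ∧ ∃ e : ((k : Fin t) × Fin (d k)) ≃ Fin n, ∃ A : ↥(Cfsg.isometryGroup F ⇑Q), IsConj (Matrix.reindex e e (Cfsg.jordanTypeMatrix d F)) ((A : Matrix.GeneralLinearGroup (Fin n) F) : Matrix (Fin n) (Fin n) F)) ↔ ∀ j : ℕ, Even j → 0 < j → Even (Finset.univ.filter (fun k : Fin t => d k = j)).card := by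
  constructor
  · rintro ⟨Q, hQ, e, A, hconj⟩
    have h1 := Cfsg.Agent.Lib.Helper49.presQuad_of_mem_isometryGroup Q hQ A
    have h3 := Cfsg.Agent.Lib.Helper49.PresQuad.of_isConj_reindex _ e _ h1 hconj
    exact Cfsg.Agent.Lib.Helper49.parity_of_presQuad_jordanTypeMatrix d h2 hd h3
  · intro hpar
    have h1 : Cfsg.Agent.Lib.Helper49.PresQuad (Cfsg.jordanTypeMatrix d F) :=
      Cfsg.Agent.Lib.Helper49.presQuad_jordanTypeMatrix_of_parity d h2 hd hpar
    have hcard : Fintype.card ((k : Fin t) × Fin (d k)) = n := by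
      rw [Fintype.card_sigma]
      simp only [Fintype.card_fin]
      exact hsum
    exact Cfsg.Agent.Lib.Helper49.exists_isometry_of_presQuad _ hcard h1

end Cfsg.Agent.S2583
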