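import Cfsg.Statements.S2585

set_option autoImplicit false
open Cfsg

namespace Cfsg.Agent.S2585

/-- the hyperbolic quadratic form as a `QuadraticForm` -/
noncomputable def Q₀ (m : ℕ) (F : Type*) [Field F] : QuadraticForm F (Fin m ⊕ Fin m → F) :=
  ∑ i : Fin m, QuadraticMap.linMulLin
    (LinearMap.proj (R := F) (φ := fun _ : Fin m ⊕ Fin m => F) (Sum.inl i))
    (LinearMap.proj (R := F) (φ := fun _ : Fin m ⊕ Fin m => F) (Sum.inr i))

lemma Q₀_apply {m : ℕ} {F : Type*} [Field F] (v : Fin m ⊕ Fin m → F) :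
    Q₀ m F v = ∑ i : Fin m, v (Sum.inl i) * v (Sum.inr i) := by
  simp [Q₀]

lemma sympForm_eq {m : ℕ} {F : Type*} [Field F] [CharP F 2] (u v : Fin m ⊕ Fin m → F) :
    Cfsg.sympForm m F u v =
      ∑ i : Fin m, (u (Sum.inl i) * v (Sum.inr i) + u (Sum.inr i) * v (Sum.inl i)) := by
  simp only [Cfsg.sympForm, Matrix.J, Matrix.fromBlocks_mulVec, Matrix.zero_mulVec, Matrix.one_mulVec,
    Matrix.neg_mulVec, zero_add, add_zero, dotProduct, Fintype.sum_sum_type, Sum.elim_inl, Sum.elim_inr,
    Pi.neg_apply, Function.comp_apply, CharTwo.neg_eq, ← Finset.sum_add_distrib]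

lemma polar_Q₀ {m : ℕ} {F : Type*} [Field F] [CharP F 2] (u v : Fin m ⊕ Fin m → F) :
    QuadraticMap.polar (⇑(Q₀ m F)) u v = Cfsg.sympForm m F u v := by
  simp only [QuadraticMap.polar, Q₀_apply, sympForm_eq, Pi.add_apply, ← Finset.sum_sub_distrib]
  refine Finset.sum_congr rfl fun i _ => ?_
  ring

lemma sympForm_mulVec {m : ℕ} {F : Type*} [Field F] (A : Matrix.symplecticGroup (Fin m) F)
    (u v : Fin m ⊕ Fin m → F) :
    Cfsg.sympForm m F ((A : Matrix (Fin m ⊕ Fin m) (Fin m ⊕ Fin m) F).mulVec u)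
      ((A : Matrix (Fin m ⊕ Fin m) (Fin m ⊕ Fin m) F).mulVec v) = Cfsg.sympForm m F u v := by
  have hA : (A : Matrix (Fin m ⊕ Fin m) (Fin m ⊕ Fin m) F).transpose * Matrix.J (Fin m) F *
      (A : Matrix (Fin m ⊕ Fin m) (Fin m ⊕ Fin m) F) = Matrix.J (Fin m) F := by
    exact SymplecticGroup.mem_iff'.mp A.2
  unfold Cfsg.sympForm
  rw [Matrix.mulVec_mulVec, Matrix.dotProduct_mulVec, Matrix.vecMul_mulVec, ← Matrix.dotProduct_mulVec,
    ← Matrix.mul_assoc, hA]

/-- Over a finite field of characteristic two every element of the symplectic group is orthogonal for a suitable quadratic form: for each A in Sp_2m(F) there is a quadratic form Q on F^(2m) whose polar form is the alternating form defining Sp_2m(F) (so Q is non-degenerate) and which A preserves. Equivalently, for m ≥ 1, Sp_2m(F) is the union of the conjugates of its two orthogonal subgroups O⁺_2m(F) and O⁻_2m(F). -/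
theorem result {F : Type*} [Field F] [Fintype F] [CharP F 2] {m : ℕ} (A : Matrix.symplecticGroup (Fin m) F) : ∃ Q : QuadraticForm F (Fin m ⊕ Fin m → F), (∀ u v : Fin m ⊕ Fin m → F, QuadraticMap.polar ⇑Q u v = Cfsg.sympForm m F u v) ∧ ∀ v : Fin m ⊕ Fin m → F, Q ((A : Matrix (Fin m ⊕ Fin m) (Fin m ⊕ Fin m) F).mulVec v) = Q v := by
  classical
  have : ExpChar F 2 := ExpChar.prime Nat.prime_two
  set X : Matrix (Fin m ⊕ Fin m) (Fin m ⊕ Fin m) F := (A : Matrix (Fin m ⊕ Fin m) (Fin m ⊕ Fin m) F) with hX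
  -- the defect
  let D : (Fin m ⊕ Fin m → F) → F := fun v => Q₀ m F (X.mulVec v) + Q₀ m F v
  have hadd2 : ∀ a : F, a + a = 0 := CharTwo.add_self_eq_zero
  have hDadd : ∀ u v, D (u + v) = D u + D v := by
    intro u v
    simp only [D]
    rw [Matrix.mulVec_add, QuadraticMap.map_add (⇑(Q₀ m F)) (X.mulVec u) (X.mulVec v),
      QuadraticMap.map_add (⇑(Q₀ m F)) u v, polar_Q₀, polar_Q₀, sympForm_mulVec]
    linear_combination hadd2 (Cfsg.sympForm m F u v)
  have hDsmul : ∀ (c : F) v, D (c • v) = c ^ 2 * D v := by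
    intro c v
    simp only [D]
    rw [Matrix.mulVec_smul, QuadraticMap.map_smul, QuadraticMap.map_smul]
    simp only [smul_eq_mul]
    ring
  -- square root of the defect is linear
  let lam : (Fin m ⊕ Fin m → F) →ₗ[F] F :=
    { toFun := fun v => (frobeniusEquiv F 2).symm (D v)
      map_add' := by
        intro u v
        rw [hDadd, map_add]
      map_smul' := by
        intro c v
        rw [hDsmul, map_mul, ← frobeniusEquiv_def (R := F) (p := 2), RingEquiv.symm_apply_apply]
        simp }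
  have hlam : ∀ v, lam v ^ 2 = D v := fun v => frobeniusEquiv_symm_pow_p F 2 (D v)
  -- T = A + 1
  let T : (Fin m ⊕ Fin m → F) →ₗ[F] (Fin m ⊕ Fin m → F) := Matrix.mulVecLin X + LinearMap.id
  have hker : lam ∈ (LinearMap.ker T).dualAnnihilator := by
    rw [Submodule.mem_dualAnnihilator]
    intro w hw
    have hw' : X.mulVec w + w = 0 := by simpa [T] using hw
    have hXw : X.mulVec w = w := by
      have h3 := eq_neg_of_add_eq_zero_left hw'
      rw [h3]
      ext i
      simp [CharTwo.neg_eq]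
    have hD0 : D w = 0 := by
      simp only [D]
      rw [hXw]; exact hadd2 _
    have : lam w ^ 2 = 0 := by rw [hlam, hD0]
    exact pow_eq_zero_iff (two_ne_zero) |>.mp this
  rw [← LinearMap.range_dualMap_eq_dualAnnihilator_ker] at hker
  obtain ⟨mu, hmu⟩ := hker
  have hmu' : ∀ v, mu (X.mulVec v) + mu v = lam v := by
    intro v
    have := congrArg (fun f => f v) hmu
    simpa [T, LinearMap.dualMap_apply] using this
  refine ⟨Q₀ m F + QuadraticMap.linMulLin mu mu, ?_, ?_⟩
  · intro u v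
    rw [← polar_Q₀]
    simp only [QuadraticMap.polar, add_apply, QuadraticMap.linMulLin_apply, map_add]
    linear_combination (mu u * mu v) * (CharTwo.two_eq_zero (R := F))
  · intro v
    simp only [add_apply, QuadraticMap.linMulLin_apply]
    have h1 : Q₀ m F (X.mulVec v) = Q₀ m F v + lam v ^ 2 := by
      rw [hlam]
      simp only [D]
      linear_combination (-1 : F) * hadd2 (Q₀ m F v)
    rw [h1, ← hmu' v]
    linear_combination (mu (X.mulVec v) * mu (X.mulVec v) + mu (X.mulVec v) * mu v) * (CharTwo.two_eq_zero (R := F))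

end Cfsg.Agent.S2585
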