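import Cfsg.Statements.S2589
import Cfsg.Agent.Lib.Helper49.SpSemiConj

set_option autoImplicit false
open Cfsg

namespace Cfsg.Agent.S2589

/-- Two semisimple elements of the finite symplectic group Sp_2m(F) (elements of order prime to the characteristic) are conjugate in Sp_2m(F) if and only if they are conjugate in GL_2m(F). -/
theorem result {F : Type*} [Field F] [Fintype F] {p : ℕ} [Fact p.Prime] [CharP F p] {m : ℕ} (A B : Matrix.symplecticGroup (Fin m) F) (hA : (orderOf A).Coprime p) : IsConj A B ↔ IsConj (A : Matrix (Fin m ⊕ Fin m) (Fin m ⊕ Fin m) F) (B : Matrix (Fin m ⊕ Fin m) (Fin m ⊕ Fin m) F) := by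
  classical
  constructor
  · intro h
    rw [isConj_iff] at h
    obtain ⟨c, hc⟩ := h
    have hc1 : (c : Matrix (Fin m ⊕ Fin m) (Fin m ⊕ Fin m) F) *
        ((c⁻¹ : Matrix.symplecticGroup (Fin m) F) : Matrix (Fin m ⊕ Fin m) (Fin m ⊕ Fin m) F) = 1 := by
      rw [← Submonoid.coe_mul, mul_inv_cancel]
      rfl
    have hc2 : ((c⁻¹ : Matrix.symplecticGroup (Fin m) F) : Matrix (Fin m ⊕ Fin m) (Fin m ⊕ Fin m) F) *
        (c : Matrix (Fin m ⊕ Fin m) (Fin m ⊕ Fin m) F) = 1 := by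
      rw [← Submonoid.coe_mul, inv_mul_cancel]
      rfl
    refine ⟨⟨_, _, hc1, hc2⟩, ?_⟩
    show (c : Matrix (Fin m ⊕ Fin m) (Fin m ⊕ Fin m) F) * (A : Matrix (Fin m ⊕ Fin m) (Fin m ⊕ Fin m) F) =
      (B : Matrix (Fin m ⊕ Fin m) (Fin m ⊕ Fin m) F) * (c : Matrix (Fin m ⊕ Fin m) (Fin m ⊕ Fin m) F)
    rw [← Submonoid.coe_mul, ← Submonoid.coe_mul]
    congr 1
    rw [← hc, inv_mul_cancel_right]
  · rintro ⟨x, hx⟩
    have hk : ((orderOf A : ℕ) : F) ≠ 0 := by
      rw [Ne, CharP.cast_eq_zero_iff F p]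
      intro hdvd
      have hp : p.Prime := Fact.out
      have := Nat.Coprime.eq_one_of_dvd hA.symm hdvd
      exact hp.one_lt.ne' this
    apply Cfsg.Agent.Lib.Helper49.sp_conj_of_matrix_conj A B (orderOf A) hk (pow_orderOf_eq_one A)
      (x : Matrix (Fin m ⊕ Fin m) (Fin m ⊕ Fin m) F)
    · exact (Matrix.isUnit_iff_isUnit_det _).mp x.isUnit
    · exact hx

end Cfsg.Agent.S2589
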