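import Cfsg.Statements.S2590
import Cfsg.Agent.Lib.Helper49.OrthSemiConj
import Cfsg.Agent.Lib.Helper49.PrimeOrderGL

set_option autoImplicit false
open Cfsg

namespace Cfsg.Agent.S2590

/-- Two semisimple elements of odd order of a finite orthogonal group (isometry group of a quadratic form on F^n with non-degenerate polar form, F finite of characteristic p; the elements have odd order prime to p) are conjugate in the orthogonal group if and only if they are conjugate in GL_n(F). -/
theorem result {F : Type*} [Field F] [Fintype F] {p : ℕ} [Fact p.Prime] [CharP F p] {n : ℕ} (Q : QuadraticForm F (Fin n → F)) (hQ : (QuadraticMap.polarBilin Q).Nondegenerate) (A B : ↥(Cfsg.isometryGroup F ⇑Q)) (hodd : Odd (orderOf A)) (hA : (orderOf A).Coprime p) : IsConj A B ↔ IsConj ((A : Matrix.GeneralLinearGroup (Fin n) F) : Matrix (Fin n) (Fin n) F) ((B : Matrix.GeneralLinearGroup (Fin n) F) : Matrix (Fin n) (Fin n) F) := by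
  classical
  have hp : p.Prime := Fact.out
  constructor
  · intro h
    obtain ⟨c, hc⟩ := isConj_iff.mp h
    refine ⟨(c : Matrix.GeneralLinearGroup (Fin n) F), ?_⟩
    have h1 : c * A = B * c := by rw [← hc]; group
    have h2 := congrArg (fun y : ↥(Cfsg.isometryGroup F ⇑Q) =>
      ((y : Matrix.GeneralLinearGroup (Fin n) F) : Matrix (Fin n) (Fin n) F)) h1
    exact h2
  · rintro ⟨u, hu⟩
    have hu' : (u : Matrix (Fin n) (Fin n) F) *
        ((A : Matrix.GeneralLinearGroup (Fin n) F) : Matrix (Fin n) (Fin n) F) =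
        ((B : Matrix.GeneralLinearGroup (Fin n) F) : Matrix (Fin n) (Fin n) F) *
          (u : Matrix (Fin n) (Fin n) F) := hu
    set k := orderOf A with hk
    have hkF : ((k : ℕ) : F) ≠ 0 := by
      rw [Ne, CharP.cast_eq_zero_iff F p]
      intro hdvd
      have := Nat.Coprime.eq_one_of_dvd hA.symm hdvd
      exact hp.one_lt.ne' this
    set a : (Fin n → F) →ₗ[F] (Fin n → F) :=
      Matrix.toLin' ((A : Matrix.GeneralLinearGroup (Fin n) F) : Matrix (Fin n) (Fin n) F) with ha
    set b' : (Fin n → F) →ₗ[F] (Fin n → F) :=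
      Matrix.toLin' ((B : Matrix.GeneralLinearGroup (Fin n) F) : Matrix (Fin n) (Fin n) F) with hb
    have hak : a ^ k = 1 := by
      have h1 : A ^ k = 1 := pow_orderOf_eq_one A
      have h2 := congrArg (fun y : ↥(Cfsg.isometryGroup F ⇑Q) =>
        ((y : Matrix.GeneralLinearGroup (Fin n) F) : Matrix (Fin n) (Fin n) F)) h1
      simp only [SubgroupClass.coe_pow, Units.val_pow_eq_pow_val, OneMemClass.coe_one,
        Units.val_one] at h2
      rw [ha, ← Matrix.toLin'_pow, h2, Matrix.toLin'_one]; rfl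
    have haQ : ∀ v, Q (a v) = Q v := by
      intro v
      rw [ha, Matrix.toLin'_apply]
      exact A.2 v v
    have hbQ : ∀ v, Q (b' v) = Q v := by
      intro v
      rw [hb, Matrix.toLin'_apply]
      exact B.2 v v
    let x : (Fin n → F) ≃ₗ[F] (Fin n → F) :=
      Cfsg.Agent.Lib.Helper49.glEquiv (u : Matrix.GeneralLinearGroup (Fin n) F)
    have hx : ∀ v, x (a v) = b' (x v) := by
      intro v
      show Cfsg.Agent.Lib.Helper49.glEquiv u (a v) = b' (Cfsg.Agent.Lib.Helper49.glEquiv u v)
      rw [Cfsg.Agent.Lib.Helper49.glEquiv_apply, Cfsg.Agent.Lib.Helper49.glEquiv_apply, ha, hb,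
        Matrix.toLin'_apply, Matrix.toLin'_apply, Matrix.mulVec_mulVec, Matrix.mulVec_mulVec, hu']
    obtain ⟨g, hgQ, hgab⟩ := Cfsg.Agent.Lib.Helper49.exists_orth_conj k hkF hodd a b' hak Q hQ
      haQ hbQ x hx
    -- the matrix of `g⁻¹`
    have h1 : LinearMap.toMatrix' (g.symm : (Fin n → F) →ₗ[F] (Fin n → F)) *
        LinearMap.toMatrix' (g : (Fin n → F) →ₗ[F] (Fin n → F)) = 1 := by
      rw [← LinearMap.toMatrix'_comp, ← LinearMap.toMatrix'_id]
      congr 1
      apply LinearMap.ext
      intro v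
      simp
    have h2 : LinearMap.toMatrix' (g : (Fin n → F) →ₗ[F] (Fin n → F)) *
        LinearMap.toMatrix' (g.symm : (Fin n → F) →ₗ[F] (Fin n → F)) = 1 := by
      rw [← LinearMap.toMatrix'_comp, ← LinearMap.toMatrix'_id]
      congr 1
      apply LinearMap.ext
      intro v
      simp
    let c₀ : Matrix.GeneralLinearGroup (Fin n) F := ⟨_, _, h1, h2⟩
    have hc₀ : ∀ v, (c₀ : Matrix (Fin n) (Fin n) F).mulVec v = g.symm v := by
      intro v
      show (LinearMap.toMatrix' (g.symm : (Fin n → F) →ₗ[F] (Fin n → F))).mulVec v = g.symm v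
      rw [← Matrix.toLin'_apply, Matrix.toLin'_toMatrix']
      rfl
    have hc₀mem : c₀ ∈ Cfsg.isometryGroup F ⇑Q := by
      intro v _
      show Q ((c₀ : Matrix (Fin n) (Fin n) F).mulVec v) = Q v
      rw [hc₀]
      have := hgQ (g.symm v)
      rw [g.apply_symm_apply] at this
      exact this.symm
    let c : ↥(Cfsg.isometryGroup F ⇑Q) := ⟨c₀, hc₀mem⟩
    rw [isConj_iff]
    refine ⟨c, ?_⟩
    rw [mul_inv_eq_iff_eq_mul]
    apply Subtype.ext
    apply Units.ext
    show (c₀ : Matrix (Fin n) (Fin n) F) *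
        ((A : Matrix.GeneralLinearGroup (Fin n) F) : Matrix (Fin n) (Fin n) F) =
        ((B : Matrix.GeneralLinearGroup (Fin n) F) : Matrix (Fin n) (Fin n) F) *
          (c₀ : Matrix (Fin n) (Fin n) F)
    apply Matrix.toLin'.injective
    apply LinearMap.ext
    intro v
    rw [Matrix.toLin'_mul, Matrix.toLin'_mul, LinearMap.comp_apply, LinearMap.comp_apply,
      Matrix.toLin'_apply (c₀ : Matrix (Fin n) (Fin n) F),
      Matrix.toLin'_apply (c₀ : Matrix (Fin n) (Fin n) F), hc₀, hc₀]
    show g.symm (a v) = b' (g.symm v)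
    apply g.injective
    rw [g.apply_symm_apply, hgab, g.apply_symm_apply]


end Cfsg.Agent.S2590
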