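import Cfsg.Statements.S2593
import Cfsg.Agent.Lib.Helper43.SpCount

set_option autoImplicit false
open Cfsg

namespace Cfsg.Agent.S2593

open Matrix Cfsg.Agent.Lib.Helper43

/-- representatives in `Sp` coming from the orthogonal group -/
theorem exists_sp_rep {F : Type*} [Field F] [CharP F 2] {m : ℕ}
    (g : ↥(Cfsg.isometryGroup F ⇑(qfPlus m F))) (hg2 : g * g = 1) :
    ∃ a : ↥(Matrix.symplecticGroup (Fin m) F),
      (a : Matrix (Fin m ⊕ Fin m) (Fin m ⊕ Fin m) F) =
        ((g : GL (Fin m ⊕ Fin m) F) : Matrix (Fin m ⊕ Fin m) (Fin m ⊕ Fin m) F) ∧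
      (a : Matrix (Fin m ⊕ Fin m) (Fin m ⊕ Fin m) F) * a = 1 := by
  refine ⟨⟨_, sp_of_orth g⟩, rfl, ?_⟩
  have := congrArg (fun x : ↥(Cfsg.isometryGroup F ⇑(qfPlus m F)) =>
    ((x : GL (Fin m ⊕ Fin m) F) : Matrix (Fin m ⊕ Fin m) (Fin m ⊕ Fin m) F)) hg2
  simpa using this

/-- Number of conjugacy classes of involutions in the symplectic group Sp_2m(F) over a finite field of characteristic two (m ≥ 1): for each s with 1 ≤ s ≤ m there is one class with rank(t − 1) = s if s is odd and two if s is even (according as v ↦ f(v, tv), f the symplectic form, vanishes identically or not), so m + ⌊m/2⌋ classes in all. -/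
theorem result {F : Type*} [Field F] [Fintype F] [CharP F 2] {m : ℕ} (hm : 1 ≤ m) : Nat.card {C : ConjClasses ↥(Matrix.symplecticGroup (Fin m) F) // ∃ g : Matrix.symplecticGroup (Fin m) F, ConjClasses.mk g = C ∧ orderOf g = 2} = m + m / 2 := by
  classical
  have hQ := qfPlus_nondegenerate m F
  -- orthogonal representatives
  have hbc : ∀ k : Fin m, ∃ a : ↥(Matrix.symplecticGroup (Fin m) F),
      (a : Matrix (Fin m ⊕ Fin m) (Fin m ⊕ Fin m) F) * a = 1 ∧
      ((a : Matrix (Fin m ⊕ Fin m) (Fin m ⊕ Fin m) F) - 1).rank = k + 1 ∧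
      ¬ (∀ v, Cfsg.sympForm m F v ((a : Matrix (Fin m ⊕ Fin m) (Fin m ⊕ Fin m) F) *ᵥ v) = 0) := by
    intro k
    have hk : (k : ℕ) + 1 ≤ m := k.2
    obtain ⟨g, hg2, hgr, hgt⟩ := exists_invol_bc (qfPlus m F) hQ
      (fun a => vH m (Fin.castLE hk a))
      (linearIndependent_vH m (Fin.castLE hk) (Fin.castLE_injective hk))
      (fun a b hab => polar_plus_vH_vH m _ _ (fun h => hab (Fin.castLE_injective hk h)))
      (fun a => plus_vH m _)
    obtain ⟨a, ha, ha2⟩ := exists_sp_rep g hg2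
    refine ⟨a, ha2, ?_, ?_⟩
    · rw [ha]; exact hgr
    · rw [ha, symp_alt_iff]; exact hgt
  have ha : ∀ i : Fin (m / 2), ∃ a : ↥(Matrix.symplecticGroup (Fin m) F),
      (a : Matrix (Fin m ⊕ Fin m) (Fin m ⊕ Fin m) F) * a = 1 ∧
      ((a : Matrix (Fin m ⊕ Fin m) (Fin m ⊕ Fin m) F) - 1).rank = 2 * (i + 1) ∧
      (∀ v, Cfsg.sympForm m F v ((a : Matrix (Fin m ⊕ Fin m) (Fin m ⊕ Fin m) F) *ᵥ v) = 0) := by
    intro i
    have hi : ((i : ℕ) + 1) + ((i : ℕ) + 1) ≤ m := by
      have := i.2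
      omega
    obtain ⟨g, hg2, hgr, hgt⟩ := exists_invol_a (qfPlus m F) hQ
      (fun a => vE m (Fin.castLE hi (finSumFinEquiv a)))
      (linearIndependent_vE m (fun a => Fin.castLE hi (finSumFinEquiv a))
        ((Fin.castLE_injective hi).comp finSumFinEquiv.injective))
      (fun a b _ => polar_plus_vE_vE m _ _)
      (fun a => plus_vE m _)
    obtain ⟨a, ha, ha2⟩ := exists_sp_rep g hg2
    refine ⟨a, ha2, ?_, ?_⟩
    · rw [ha]; exact hgr
    · rw [ha, symp_alt_iff]; exact hgt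
  choose gb hgb2 hgbr hgbt using hbc
  choose ga hga2 hgar hgat using ha
  have hsq : ∀ a : ↥(Matrix.symplecticGroup (Fin m) F),
      (a : Matrix (Fin m ⊕ Fin m) (Fin m ⊕ Fin m) F) * a = 1 → a * a = 1 := by
    intro a h
    apply Subtype.ext
    exact h
  have hne : ∀ a : ↥(Matrix.symplecticGroup (Fin m) F),
      0 < ((a : Matrix (Fin m ⊕ Fin m) (Fin m ⊕ Fin m) F) - 1).rank → a ≠ 1 := by
    rintro a h rfl
    simp at h
  have hcount := card_invol_classes (G := ↥(Matrix.symplecticGroup (Fin m) F))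
    (fun a => (((a : Matrix (Fin m ⊕ Fin m) (Fin m ⊕ Fin m) F) - 1).rank,
      (∀ v, Cfsg.sympForm m F v ((a : Matrix (Fin m ⊕ Fin m) (Fin m ⊕ Fin m) F) *ᵥ v) = 0)))
    (Sum.elim gb ga) ?_ ?_ ?_ ?_
  · rw [hcount, Fintype.card_sum, Fintype.card_fin, Fintype.card_fin]
  · intro a b hoa hob
    rw [sp_isConj_iff a b (sp_sq_of_order a hoa) (sp_sq_of_order b hob), Prod.mk.injEq,
      eq_iff_iff]
  · rintro (k | i)
    · rw [Cfsg.Agent.Lib.Helper43.orderOf_eq_two_iff]
      refine ⟨hsq _ (hgb2 k), hne _ ?_⟩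
      simp only [Sum.elim_inl]
      rw [hgbr k]
      omega
    · rw [Cfsg.Agent.Lib.Helper43.orderOf_eq_two_iff]
      refine ⟨hsq _ (hga2 i), hne _ ?_⟩
      simp only [Sum.elim_inr]
      rw [hgar i]
      omega
  · rintro (k | i) (k' | i') h
    · simp only [Sum.elim_inl, Prod.mk.injEq] at h
      rw [hgbr k, hgbr k'] at h
      have : (k : ℕ) = k' := by omega
      rw [Fin.ext this]
    · simp only [Sum.elim_inl, Sum.elim_inr, Prod.mk.injEq, eq_iff_iff] at h
      exact absurd (h.2.2 (hgat i')) (hgbt k)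
    · simp only [Sum.elim_inl, Sum.elim_inr, Prod.mk.injEq, eq_iff_iff] at h
      exact absurd (h.2.1 (hgat i)) (hgbt k')
    · simp only [Sum.elim_inr, Prod.mk.injEq] at h
      rw [hgar i, hgar i'] at h
      have : (i : ℕ) = i' := by omega
      rw [Fin.ext this]
  · intro g hg
    obtain ⟨-, hg1⟩ := (Cfsg.Agent.Lib.Helper43.orderOf_eq_two_iff g).1 hg
    have hG2 := sp_sq_of_order g hg
    have hpos := sp_rank_pos g hg1
    have hle := sp_rank_le g hG2
    by_cases halt : ∀ v, Cfsg.sympForm m F v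
        ((g : Matrix (Fin m ⊕ Fin m) (Fin m ⊕ Fin m) F) *ᵥ v) = 0
    · obtain ⟨r, hr⟩ := sp_even_rank_of_alt g hG2 halt
      have hr2 : r - 1 < m / 2 := by omega
      refine ⟨Sum.inr ⟨r - 1, hr2⟩, ?_⟩
      simp only [Sum.elim_inr, Prod.mk.injEq, eq_iff_iff]
      refine ⟨?_, fun _ => hgat _, fun _ => halt⟩
      rw [hgar]
      simp only
      omega
    · have hk : ((g : Matrix (Fin m ⊕ Fin m) (Fin m ⊕ Fin m) F) - 1).rank - 1 < m := by omega
      refine ⟨Sum.inl ⟨((g : Matrix (Fin m ⊕ Fin m) (Fin m ⊕ Fin m) F) - 1).rank - 1, hk⟩, ?_⟩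
      simp only [Sum.elim_inl, Prod.mk.injEq, eq_iff_iff]
      refine ⟨?_, fun h => absurd h halt, fun h => absurd h (hgbt _)⟩
      rw [hgbr]
      simp only
      omega

end Cfsg.Agent.S2593
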