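import Cfsg.Statements.S2594
import Cfsg.Agent.Lib.Helper18.SympTrans
import Cfsg.Agent.Lib.Helper07.SpCardD

set_option autoImplicit false
open Cfsg

namespace Cfsg.Agent.S2594

open Matrix Module

theorem rank_one_vecMulVec {K ι : Type*} [Field K] [Fintype ι] [DecidableEq ι]
    (N : Matrix ι ι K) (h1 : N.rank = 1) :
    ∃ u v : ι → K, u ≠ 0 ∧ v ≠ 0 ∧ N = Matrix.vecMulVec u v := by
  have hR : finrank K (LinearMap.range (Matrix.toLin' N)) = 1 := by
    rw [Matrix.toLin'_apply']; exact h1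
  obtain ⟨v₀, hv₀, hspan⟩ := finrank_eq_one_iff'.mp hR
  have hv : (v₀ : ι → K) ≠ 0 := fun h => hv₀ (Subtype.ext h)
  obtain ⟨ψ, hψ⟩ := Module.Projective.exists_dual_eq_one K hv
  have hN : ∀ x, N.mulVec x = (ψ (N.mulVec x)) • (v₀ : ι → K) := by
    intro x
    obtain ⟨c, hc⟩ := hspan ⟨Matrix.toLin' N x, LinearMap.mem_range_self _ x⟩
    have hc' : c • (v₀ : ι → K) = N.mulVec x := by
      have := congrArg Subtype.val hc
      simpa using this
    rw [← hc', map_smul, hψ]
    simp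
  have hEq : N = Matrix.vecMulVec (v₀ : ι → K) (fun j => ψ (N.mulVec (Pi.single j 1))) := by
    ext i j
    have := congrFun (hN (Pi.single j 1)) i
    rw [Matrix.mulVec_single_one] at this
    rw [Matrix.vecMulVec_apply, mul_comm]
    simpa using this
  refine ⟨v₀, _, hv, ?_, hEq⟩
  intro h0
  rw [h0] at hEq
  have : N = 0 := by rw [hEq]; ext i j; simp [Matrix.vecMulVec_apply]
  rw [this, Matrix.rank_zero] at h1
  exact zero_ne_one h1


theorem card_orbit_set_mul_card_stabilizer {G X : Type*} [Group G] [MulAction G X] (u : X)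
    (s : Set X) (h : MulAction.orbit G u = s) :
    Nat.card s * Nat.card (MulAction.stabilizer G u) = Nat.card G := by
  subst h
  rw [← Nat.card_prod]
  exact Nat.card_congr (MulAction.orbitProdStabilizerEquivGroup G u)

section main
variable {F : Type*} [Field F] (m : ℕ)

local notation "V" => (Fin m ⊕ Fin m → F)
local notation "f" => Cfsg.sympForm m F

open Cfsg.Agent.Lib.Helper18

/-- the natural action of the symplectic group on column vectors -/
noncomputable instance spAct : MulAction (Matrix.symplecticGroup (Fin m) F) V where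
  smul g x := (g : Matrix (Fin m ⊕ Fin m) (Fin m ⊕ Fin m) F) *ᵥ x
  one_smul x := Matrix.one_mulVec x
  mul_smul g h x := (Matrix.mulVec_mulVec x (g : Matrix (Fin m ⊕ Fin m) (Fin m ⊕ Fin m) F)
    (h : Matrix (Fin m ⊕ Fin m) (Fin m ⊕ Fin m) F)).symm

theorem exists_dot_eq_one {ι : Type*} [Fintype ι] [DecidableEq ι] (v : ι → F) (hv : v ≠ 0) :
    ∃ x : ι → F, v ⬝ᵥ x = 1 := by
  obtain ⟨i, hi⟩ : ∃ i, v i ≠ 0 := by
    by_contra h
    push Not at h
    exact hv (funext h)
  refine ⟨Pi.single i (v i)⁻¹, ?_⟩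
  rw [dotProduct_single, mul_inv_cancel₀ hi]

/-- A rank-one perturbation of the identity lying in the symplectic group is a symplectic
transvection. -/
theorem eq_sympTransvection (T : Matrix (Fin m ⊕ Fin m) (Fin m ⊕ Fin m) F)
    (hT : T ∈ Matrix.symplecticGroup (Fin m) F) (u v : V) (hu : u ≠ 0) (hv : v ≠ 0)
    (hTuv : T = 1 + Matrix.vecMulVec u v) :
    ∃ c : F, c ≠ 0 ∧ T = Cfsg.sympTransvection m u c := by
  have hTx : ∀ x : V, T *ᵥ x = x + (v ⬝ᵥ x) • u := by
    intro x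
    rw [hTuv, Matrix.add_mulVec, Matrix.one_mulVec, Matrix.vecMulVec_mulVec]
    ext i
    simp [mul_comm]
  obtain ⟨y₀, hy₀⟩ := exists_dot_eq_one v hv
  have key : ∀ x : V, f x u = (v ⬝ᵥ x) * f y₀ u := by
    intro x
    have h := sf_mulVec_of_mem m T hT x y₀
    rw [hTx, hTx, hy₀, one_smul, sf_add_left, sf_add_right, sf_add_right, sf_smul_left,
      sf_smul_left, sf_self, mul_zero, add_zero] at h
    have h2 : f u y₀ = - f y₀ u := sf_swap m u y₀
    rw [h2] at h
    linear_combination h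
  set c := f y₀ u with hc
  have hc0 : c ≠ 0 := by
    intro h0
    obtain ⟨y, hy⟩ := sf_nondeg_top m u hu
    apply hy
    rw [sf_swap, key y, h0, mul_zero, neg_zero]
  have hJu : Matrix.J (Fin m) F *ᵥ u = c • v := by
    apply _root_.dotProduct_eq
    intro x
    have := key x
    unfold Cfsg.sympForm at this
    rw [dotProduct_comm] at this
    rw [this, smul_dotProduct, smul_eq_mul, mul_comm]
  refine ⟨c⁻¹, inv_ne_zero hc0, ?_⟩
  unfold Cfsg.sympTransvection
  rw [hTuv, hJu, Matrix.vecMulVec_smul, smul_smul, inv_mul_cancel₀ hc0, one_smul]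


/-- commutation criterion with a symplectic transvection in characteristic 2 -/
theorem commute_iff [CharP F 2] (G : Matrix (Fin m ⊕ Fin m) (Fin m ⊕ Fin m) F)
    (hG : G ∈ Matrix.symplecticGroup (Fin m) F) (u : V) (hu : u ≠ 0) (c : F) (hc : c ≠ 0) :
    G * Cfsg.sympTransvection m u c = Cfsg.sympTransvection m u c * G ↔ G *ᵥ u = u := by
  have hG' := SymplecticGroup.mem_iff'.mp hG
  have hJu0 : Matrix.J (Fin m) F *ᵥ u ≠ 0 := by
    intro h
    apply hu
    have := J_mulVec_J_mulVec m u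
    rw [h, Matrix.mulVec_zero] at this
    exact neg_eq_zero.mp this.symm
  unfold Cfsg.sympTransvection
  rw [Matrix.mul_add, Matrix.add_mul, Matrix.mul_one, Matrix.one_mul, Matrix.mul_smul,
    Matrix.smul_mul, Matrix.mul_vecMulVec, Matrix.vecMulVec_mul]
  constructor
  · intro h
    have h1 : Matrix.vecMulVec (G *ᵥ u) (Matrix.J (Fin m) F *ᵥ u) =
        Matrix.vecMulVec u ((Matrix.J (Fin m) F *ᵥ u) ᵥ* G) := by
      have h2 := add_left_cancel h
      exact smul_right_injective _ hc h2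
    obtain ⟨x₀, hx₀⟩ := exists_dot_eq_one _ hJu0
    have h3 : ∀ x : V, ((Matrix.J (Fin m) F *ᵥ u) ⬝ᵥ x) • (G *ᵥ u) =
        ((Matrix.J (Fin m) F *ᵥ u) ⬝ᵥ (G *ᵥ x)) • u := by
      intro x
      have := congrArg (fun M => M *ᵥ x) h1
      simp only [Matrix.vecMulVec_mulVec] at this
      rw [← Matrix.dotProduct_mulVec] at this
      ext i
      have hi := congrFun this i
      simp only [Pi.smul_apply, MulOpposite.smul_eq_mul_unop, MulOpposite.unop_op] at hi
      simp only [Pi.smul_apply, smul_eq_mul]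
      rw [mul_comm, hi, mul_comm]
    set lam := (Matrix.J (Fin m) F *ᵥ u) ⬝ᵥ (G *ᵥ x₀) with hlam
    have hGu : G *ᵥ u = lam • u := by
      have := h3 x₀
      rwa [hx₀, one_smul] at this
    -- form invariance
    have h4 : f (G *ᵥ x₀) (G *ᵥ u) = f x₀ u := sf_mulVec_of_mem m G hG x₀ u
    rw [hGu, sf_smul_right] at h4
    have h5 : f (G *ᵥ x₀) u = lam := by
      unfold Cfsg.sympForm
      rw [dotProduct_comm]
    have h6 : f x₀ u = 1 := by
      unfold Cfsg.sympForm
      rw [dotProduct_comm]; exact hx₀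
    rw [h5, h6] at h4
    have h7 : (lam - 1) ^ 2 = 0 := by
      have h2 : (2 : F) = 0 := CharTwo.two_eq_zero
      linear_combination h4 - lam * h2 + h2
    have h8 : lam = 1 := by
      have := pow_eq_zero_iff (two_ne_zero) |>.mp h7
      exact sub_eq_zero.mp this
    rw [hGu, h8, one_smul]
  · intro h
    have h1 : (Matrix.J (Fin m) F *ᵥ u) ᵥ* G = Matrix.J (Fin m) F *ᵥ u := by
      rw [← Matrix.mulVec_transpose, Matrix.mulVec_mulVec]
      conv_lhs => rw [← h]
      rw [Matrix.mulVec_mulVec, hG']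
    rw [h, h1]

end main


/-- Over a finite field with q elements, q even, an element t of Sp_2m(F) with rank(t − 1) = 1 (a symplectic transvection) has centraliser in Sp_2m(F) of order q^(2m−1) · |Sp_(2m−2)(q)| = q^(2m−1) · q^((m−1)²) · Π_(i=1)^(m−1) (q^(2i) − 1). -/
theorem result {F : Type*} [Field F] [Fintype F] [CharP F 2] {q : ℕ} (hF : Fintype.card F = q) {m : ℕ} (hm : 1 ≤ m) (t : Matrix.symplecticGroup (Fin m) F) (ht : ((t : Matrix (Fin m ⊕ Fin m) (Fin m ⊕ Fin m) F) - 1).rank = 1) : Nat.card ↥(Subgroup.centralizer ({t} : Set ↥(Matrix.symplecticGroup (Fin m) F))) = q ^ (2 * m - 1) * (q ^ ((m - 1) ^ 2) * ∏ i : Fin (m - 1), (q ^ (2 * ((i : ℕ) + 1)) - 1)) := by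
  classical
  obtain ⟨k, rfl⟩ : ∃ k, m = k + 1 := ⟨m - 1, by omega⟩
  obtain ⟨u, v, hu, hv, hN⟩ := rank_one_vecMulVec _ ht
  have hTuv : (t : Matrix (Fin (k+1) ⊕ Fin (k+1)) (Fin (k+1) ⊕ Fin (k+1)) F) = 1 + Matrix.vecMulVec u v := by
    rw [← hN]; abel
  obtain ⟨c, hc, hTc⟩ := eq_sympTransvection (k+1) _ t.2 u v hu hv hTuv
  have hstab : Subgroup.centralizer ({t} : Set ↥(Matrix.symplecticGroup (Fin (k+1)) F)) =
      MulAction.stabilizer (Matrix.symplecticGroup (Fin (k+1)) F) u := by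
    ext g
    rw [Subgroup.mem_centralizer_singleton_iff, MulAction.mem_stabilizer_iff]
    show _ ↔ (g : Matrix (Fin (k+1) ⊕ Fin (k+1)) (Fin (k+1) ⊕ Fin (k+1)) F) *ᵥ u = u
    rw [← commute_iff (k+1) _ g.2 u hu c hc, ← hTc]
    constructor
    · intro h; exact congrArg Subtype.val h
    · intro h; exact Subtype.ext h
  rw [hstab]
  have horb : MulAction.orbit (Matrix.symplecticGroup (Fin (k+1)) F) u = ({0}ᶜ : Set (Fin (k+1) ⊕ Fin (k+1) → F)) := by
    ext x
    rw [MulAction.mem_orbit_iff, Set.mem_compl_iff, Set.mem_singleton_iff]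
    constructor
    · rintro ⟨g, rfl⟩ h0
      apply hu
      have := Cfsg.Agent.Lib.Helper18.inv_mulVec_mulVec (k+1) g u
      have h0' : (g : Matrix (Fin (k+1) ⊕ Fin (k+1)) (Fin (k+1) ⊕ Fin (k+1)) F) *ᵥ u = 0 := h0
      rw [h0', Matrix.mulVec_zero] at this
      exact this.symm
    · intro hx
      have hnd : ∀ x ∈ (⊤ : Submodule F (Fin (k+1) ⊕ Fin (k+1) → F)), x ≠ 0 →
          ∃ y ∈ (⊤ : Submodule F (Fin (k+1) ⊕ Fin (k+1) → F)), Cfsg.sympForm (k+1) F x y ≠ 0 := by
        intro x _ hx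
        obtain ⟨y, hy⟩ := Cfsg.Agent.Lib.Helper18.sf_nondeg_top (k+1) x hx
        exact ⟨y, trivial, hy⟩
      obtain ⟨A, -, hA⟩ := Cfsg.Agent.Lib.Helper18.reach_of_ne_zero (k+1) ⊤ hnd u x trivial trivial hu hx
      exact ⟨A, hA⟩
  have hcard := card_orbit_set_mul_card_stabilizer (G := Matrix.symplecticGroup (Fin (k+1)) F) u _ horb
  rw [Cfsg.Agent.Lib.Helper07.card_symplecticGroup hF (k+1), Nat.card_coe_set_eq,
    Set.ncard_compl, Set.ncard_singleton, Nat.card_eq_fintype_card, Fintype.card_fun, Fintype.card_sum,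
    Fintype.card_fin, hF, Finset.prod_range_succ] at hcard
  have hq : 2 ≤ q := by rw [← hF]; exact Fintype.one_lt_card
  have hD : 0 < q ^ (k + 1 + (k + 1)) - 1 := by
    have : 1 < q ^ (k + 1 + (k + 1)) := Nat.one_lt_pow (by omega) hq
    omega
  have h2 : 2 * (k + 1) = k + 1 + (k + 1) := by ring
  rw [h2] at hcard
  have hS : Nat.card ↥(MulAction.stabilizer (↥(Matrix.symplecticGroup (Fin (k + 1)) F)) u) =
      q ^ ((k + 1) ^ 2) * ∏ x ∈ Finset.range k, (q ^ (2 * (x + 1)) - 1) := by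
    apply Nat.eq_of_mul_eq_mul_left hD
    rw [hcard]; ring
  rw [hS, Nat.add_sub_cancel, ← Finset.prod_range (fun i => q ^ (2 * (i + 1)) - 1), ← mul_assoc, ← pow_add]
  congr 2
  have : 2 * (k + 1) - 1 = 2 * k + 1 := by omega
  rw [this]; ring

end Cfsg.Agent.S2594
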