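import Cfsg.Statements.S2595
import Cfsg.Agent.Lib.Helper43.OrthFrames

set_option autoImplicit false
open Cfsg

namespace Cfsg.Agent.S2595

open Cfsg.Agent.Lib.Helper43

/-- Number of conjugacy classes of involutions in the full orthogonal group O⁺_2m(F) of the hyperbolic quadratic form Σ x_i y_i over a finite field of characteristic two (m ≥ 1): one class for each odd s ≤ m and two for each even s with 2 ≤ s ≤ m, where s = rank(t − 1); in all m + ⌊m/2⌋. -/
theorem result {F : Type*} [Field F] [Fintype F] [CharP F 2] {m : ℕ} (hm : 1 ≤ m) : Nat.card {C : ConjClasses ↥(Cfsg.isometryGroup F (Cfsg.quadFormPlus m F)) // ∃ g : ↥(Cfsg.isometryGroup F (Cfsg.quadFormPlus m F)), ConjClasses.mk g = C ∧ orderOf g = 2} = m + m / 2 := by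
  have hcard : Fintype.card (Fin m ⊕ Fin m) = 2 * m := by
    rw [Fintype.card_sum, Fintype.card_fin]; omega
  have hQ := qfPlus_nondegenerate m F
  refine card_invol_classes_orth (qfPlus m F) hQ m (m / 2) hcard ?_ ?_ ?_
  · intro k
    have hk : (k : ℕ) + 1 ≤ m := k.2
    refine ⟨fun a => vH m (Fin.castLE hk a), ?_, ?_, ?_⟩
    · exact linearIndependent_vH m (Fin.castLE hk) (Fin.castLE_injective hk)
    · intro a b hab
      exact polar_plus_vH_vH m _ _ (fun h => hab (Fin.castLE_injective hk h))
    · intro a
      exact plus_vH m _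
  · intro i
    have hi : ((i : ℕ) + 1) + ((i : ℕ) + 1) ≤ m := by
      have := i.2
      omega
    refine ⟨fun a => vE m (Fin.castLE hi (finSumFinEquiv a)), ?_, ?_, ?_⟩
    · exact linearIndependent_vE m (fun a => Fin.castLE hi (finSumFinEquiv a))
        ((Fin.castLE_injective hi).comp finSumFinEquiv.injective)
    · intro a b _
      exact polar_plus_vE_vE m _ _
    · intro a
      exact plus_vE m _
  · intro g hg2 halt
    have h1 := two_mul_rank_le_card (qfPlus m F) g hg2
    obtain ⟨r, hr⟩ := even_rank_of_alt_orth (qfPlus m F) hQ g hg2 halt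
    rw [hcard] at h1
    omega

end Cfsg.Agent.S2595
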