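import Cfsg.Statements.S2596
import Cfsg.Agent.Lib.Helper43.OrthFramesMinus

set_option autoImplicit false
open Cfsg

namespace Cfsg.Agent.S2596

open Cfsg.Agent.Lib.Helper43

/-- Number of conjugacy classes of involutions in the full orthogonal group O⁻_2m(F) of an elliptic quadratic form (Σ_(i<m−1) x_i y_i plus an anisotropic binary form) over a finite field of characteristic two (m ≥ 1): one class for each odd s ≤ m, two for each even s with 2 ≤ s < m and one for s = m when m is even, where s = rank(t − 1); in all m + ⌊(m − 1)/2⌋. -/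
theorem result {F : Type*} [Field F] [Fintype F] [CharP F 2] {m : ℕ} (hm : 1 ≤ m) (a b : F) (hab : ∀ z₁ z₂ : F, z₁ ^ 2 + a * z₁ * z₂ + b * z₂ ^ 2 = 0 → z₁ = 0 ∧ z₂ = 0) : Nat.card {C : ConjClasses ↥(Cfsg.isometryGroup F (Cfsg.quadFormMinus (m - 1) F a b)) // ∃ g : ↥(Cfsg.isometryGroup F (Cfsg.quadFormMinus (m - 1) F a b)), ConjClasses.mk g = C ∧ orderOf g = 2} = m + (m - 1) / 2 := by
  have hc := middle_ne_zero' a b hab
  have hcard : Fintype.card ((Fin (m - 1) ⊕ Fin (m - 1)) ⊕ Fin 2) = 2 * m := by
    rw [Fintype.card_sum, Fintype.card_sum, Fintype.card_fin, Fintype.card_fin]; omega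
  have hQ := qfMinus_nondegenerate (m - 1) F a b hc
  refine card_invol_classes_orth (qfMinus (m - 1) F a b) hQ m ((m - 1) / 2) hcard ?_ ?_ ?_
  · intro k
    have hk : (k : ℕ) ≤ m - 1 := by have := k.2; omega
    exact ⟨wFrame (m - 1) hk, linearIndependent_wFrame (m - 1) hk,
      wFrame_orth (m - 1) a b hk, wFrame_norm (m - 1) a b hk⟩
  · intro i
    have hi : ((i : ℕ) + 1) + ((i : ℕ) + 1) ≤ m - 1 := by
      have := i.2
      omega
    refine ⟨fun x => wE (m - 1) (Fin.castLE hi (finSumFinEquiv x)), ?_, ?_, ?_⟩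
    · exact linearIndependent_wE (m - 1) (fun x => Fin.castLE hi (finSumFinEquiv x))
        ((Fin.castLE_injective hi).comp finSumFinEquiv.injective)
    · intro x y _
      exact polar_minus_wE_wE (m - 1) a b _ _
    · intro x
      exact minus_wE (m - 1) a b _
  · intro g hg2 halt
    obtain ⟨r, hr⟩ := even_rank_of_alt_orth (qfMinus (m - 1) F a b) hQ g hg2 halt
    by_contra hcon
    push Not at hcon
    have hts := resid_totallySingular (qfMinus (m - 1) F a b) g halt
    have hrk := rank_sub_one_eq_finrank_range (qfMinus (m - 1) F a b) g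
    obtain ⟨w, hw, hw0⟩ := exists_nonsingular_minus (m - 1) a b hc hab
      (LinearMap.range (resid (qfMinus (m - 1) F a b) g)) (by omega)
    exact hw0 (hts w hw)

end Cfsg.Agent.S2596
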