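import Cfsg.Statements.S2597
import Cfsg.Agent.Lib.Helper43.OmegaCountSplit

set_option autoImplicit false
open Cfsg

namespace Cfsg.Agent.S2597

open Cfsg.Agent.Lib.Helper43

/-- Number of conjugacy classes of involutions in Ω⁺_2m(F) (the commutator subgroup of the orthogonal group of Σ x_i y_i) over a finite field F of characteristic two, m ≥ 1, excluding the case m = 2 over the field of two elements: the involutions of Ω are those with s = rank(t − 1) even, giving two O-classes for each even s with 2 ≤ s ≤ m, each of which is a single Ω-class except that for m even the class with s = m and v ↦ f(v, tv) identically zero splits in two; in all 2⌊m/2⌋ + 1 classes if m is even and 2⌊m/2⌋ if m is odd. -/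
theorem result {F : Type*} [Field F] [Fintype F] [CharP F 2] {m : ℕ} (hm : 1 ≤ m) (h : Fintype.card F ≠ 2 ∨ m ≠ 2) : Nat.card {C : ConjClasses ↥(Cfsg.Omega F (Cfsg.quadFormPlus m F)) // ∃ g : ↥(Cfsg.Omega F (Cfsg.quadFormPlus m F)), ConjClasses.mk g = C ∧ orderOf g = 2} = 2 * (m / 2) + (if Even m then 1 else 0) := by
  have hcard : Fintype.card (Fin m ⊕ Fin m) = 2 * m := by
    rw [Fintype.card_sum, Fintype.card_fin]; omega
  have hQ := qfPlus_nondegenerate m F
  have hgen : ReflGenerated (qfPlus m F) := by
    apply reflGenerated_char_two _ hQ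
    rcases h with h | h
    · exact Or.inl h
    · right
      rw [hcard]
      omega
  have : Nonempty (Fin m ⊕ Fin m) := ⟨Sum.inl ⟨0, by omega⟩⟩
  refine card_invol_classes_Omega_split (qfPlus m F) hQ hgen m hcard
    (fun W hW => exists_nonsingular_plus m W hW) ?_ ?_
  · intro k
    have hk : (2 * (k : ℕ) + 1) + 1 ≤ m := by have := k.2; omega
    obtain ⟨g, hg2, hgr, hgt⟩ := exists_invol_bc (qfPlus m F) hQ
      (fun a => vH m (Fin.castLE hk a))
      (linearIndependent_vH m (Fin.castLE hk) (Fin.castLE_injective hk))
      (fun a b hab => polar_plus_vH_vH m _ _ (fun h => hab (Fin.castLE_injective hk h)))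
      (fun a => plus_vH m _)
    exact ⟨g, hg2, by rw [hgr]; ring, hgt⟩
  · intro i
    have hi : ((i : ℕ) + 1) + ((i : ℕ) + 1) ≤ m := by
      have := i.2
      omega
    exact exists_invol_a (qfPlus m F) hQ
      (fun a => vE m (Fin.castLE hi (finSumFinEquiv a)))
      (linearIndependent_vE m (fun a => Fin.castLE hi (finSumFinEquiv a))
        ((Fin.castLE_injective hi).comp finSumFinEquiv.injective))
      (fun a b _ => polar_plus_vE_vE m _ _)
      (fun a => plus_vE m _)

end Cfsg.Agent.S2597
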