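import Cfsg.Statements.S2598
import Cfsg.Agent.Lib.Helper43.OmegaCount

set_option autoImplicit false
open Cfsg

namespace Cfsg.Agent.S2598

open Cfsg.Agent.Lib.Helper43

/-- Number of conjugacy classes of involutions in Ω⁻_2m(F) (the commutator subgroup of the orthogonal group of an elliptic quadratic form, Σ_(i<m−1) x_i y_i plus an anisotropic binary form) over a finite field F of characteristic two, m ≥ 1: the involutions of Ω are those with s = rank(t − 1) even, one O-class for each even s with 2 ≤ s ≤ m on which v ↦ f(v, tv) is not identically zero and one for each even s with 2 ≤ s < m on which it is zero (f the polar form; in characteristic 2, f(v, tv) = Q(v + tv)), none of which splits in Ω; in all ⌊m/2⌋ + ⌊(m − 1)/2⌋. -/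
theorem result {F : Type*} [Field F] [Fintype F] [CharP F 2] {m : ℕ} (hm : 1 ≤ m) (a b : F) (hab : ∀ z₁ z₂ : F, z₁ ^ 2 + a * z₁ * z₂ + b * z₂ ^ 2 = 0 → z₁ = 0 ∧ z₂ = 0) : Nat.card {C : ConjClasses ↥(Cfsg.Omega F (Cfsg.quadFormMinus (m - 1) F a b)) // ∃ g : ↥(Cfsg.Omega F (Cfsg.quadFormMinus (m - 1) F a b)), ConjClasses.mk g = C ∧ orderOf g = 2} = m / 2 + (m - 1) / 2 := by
  have hc := middle_ne_zero' a b hab
  have hcard : Fintype.card ((Fin (m - 1) ⊕ Fin (m - 1)) ⊕ Fin 2) = 2 * m := by
    rw [Fintype.card_sum, Fintype.card_sum, Fintype.card_fin, Fintype.card_fin]; omega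
  have hQ := qfMinus_nondegenerate (m - 1) F a b hc
  have hgen := reflGenerated_minus (m - 1) a b hc hab
  refine card_invol_classes_Omega_nosplit (qfMinus (m - 1) F a b) hQ hgen m (m / 2) ((m - 1) / 2)
    hcard ?_ ?_ ?_ ?_ ?_
  · intro W hW
    exact exists_nonsingular_minus (m - 1) a b hc hab W (by omega)
  · intro k
    have hk : 2 * (k : ℕ) + 1 ≤ m - 1 := by have := k.2; omega
    obtain ⟨g, hg2, hgr, hgt⟩ := exists_invol_bc (qfMinus (m - 1) F a b) hQ (wFrame (m - 1) hk)
      (linearIndependent_wFrame (m - 1) hk) (wFrame_orth (m - 1) a b hk) (wFrame_norm (m - 1) a b hk)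
    exact ⟨g, hg2, by rw [hgr]; ring, hgt⟩
  · intro i
    have hi : ((i : ℕ) + 1) + ((i : ℕ) + 1) ≤ m - 1 := by
      have := i.2
      omega
    exact exists_invol_a (qfMinus (m - 1) F a b) hQ
      (fun x => wE (m - 1) (Fin.castLE hi (finSumFinEquiv x)))
      (linearIndependent_wE (m - 1) (fun x => Fin.castLE hi (finSumFinEquiv x))
        ((Fin.castLE_injective hi).comp finSumFinEquiv.injective))
      (fun x y _ => polar_minus_wE_wE (m - 1) a b _ _)
      (fun x => minus_wE (m - 1) a b _)
  · intro g hg2 _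
    have h1 := two_mul_rank_le_card (qfMinus (m - 1) F a b) g hg2
    rw [hcard] at h1
    omega
  · intro g hg2 halt
    by_contra hcon
    push Not at hcon
    have hts := resid_totallySingular (qfMinus (m - 1) F a b) g halt
    have hrk := rank_sub_one_eq_finrank_range (qfMinus (m - 1) F a b) g
    obtain ⟨w, hw, hw0⟩ := exists_nonsingular_minus (m - 1) a b hc hab
      (LinearMap.range (resid (qfMinus (m - 1) F a b) g)) (by omega)
    exact hw0 (hts w hw)

end Cfsg.Agent.S2598
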