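import Cfsg.Statements.S2599

set_option autoImplicit false
open Cfsg

namespace Cfsg.Agent.S2599

/-- An irreducible invariant subspace of a semisimple isometry is non-degenerate or totally singular: let Q be a quadratic form on F^n (F finite of characteristic p) with non-degenerate polar form f, x an isometry of Q of order prime to p, and U a non-zero x-invariant subspace containing no x-invariant subspace other than 0 and U. Then U meets its f-orthogonal trivially, or Q vanishes on U, or p = 2, U is a line spanned by a non-singular vector and x fixes U pointwise. -/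
theorem result {F : Type*} [Field F] [Fintype F] {p : ℕ} [Fact p.Prime] [CharP F p] {n : ℕ} (Q : QuadraticForm F (Fin n → F)) (hQ : (QuadraticMap.polarBilin Q).Nondegenerate) (x : ↥(Cfsg.isometryGroup F ⇑Q)) (hx : (orderOf x).Coprime p) (U : Submodule F (Fin n → F)) (hU0 : U ≠ ⊥) (hUx : ∀ u ∈ U, ((x : Matrix.GeneralLinearGroup (Fin n) F) : Matrix (Fin n) (Fin n) F).mulVec u ∈ U) (hirr : ∀ W : Submodule F (Fin n → F), W ≤ U → (∀ w ∈ W, ((x : Matrix.GeneralLinearGroup (Fin n) F) : Matrix (Fin n) (Fin n) F).mulVec w ∈ W) → W = ⊥ ∨ W = U) : U ⊓ LinearMap.BilinForm.orthogonal (QuadraticMap.polarBilin Q) U = ⊥ ∨ (∀ u ∈ U, Q u = 0) ∨ (p = 2 ∧ Module.finrank F U = 1 ∧ (∃ u ∈ U, Q u ≠ 0) ∧ ∀ u ∈ U, ((x : Matrix.GeneralLinearGroup (Fin n) F) : Matrix (Fin n) (Fin n) F).mulVec u = u) := by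
  classical
  set X : Matrix (Fin n) (Fin n) F := ((x : Matrix.GeneralLinearGroup (Fin n) F) : Matrix (Fin n) (Fin n) F) with hX
  set B := QuadraticMap.polarBilin Q with hB
  have hXQ : ∀ v, Q (X.mulVec v) = Q v := fun v => x.2 v v
  have hXB : ∀ u v, B (X.mulVec u) (X.mulVec v) = B u v := by
    intro u v
    simp only [hB, QuadraticMap.polarBilin_apply_apply, QuadraticMap.polar]
    rw [← Matrix.mulVec_add, hXQ, hXQ, hXQ]
  -- X is injective
  have hXinv : ∀ v, ((x⁻¹ : ↥(Cfsg.isometryGroup F ⇑Q)) : Matrix.GeneralLinearGroup (Fin n) F).1.mulVec (X.mulVec v) = v := by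
    intro v
    rw [Matrix.mulVec_mulVec]
    have : ((x⁻¹ : ↥(Cfsg.isometryGroup F ⇑Q)) : Matrix.GeneralLinearGroup (Fin n) F).1 * X = 1 := by
      rw [hX, Subgroup.coe_inv]
      exact Units.inv_mul _
    rw [this, Matrix.one_mulVec]
  -- X maps U onto U
  have hsurj : ∀ u ∈ U, ∃ u' ∈ U, X.mulVec u' = u := by
    let f : U →ₗ[F] U := (Matrix.mulVecLin X).restrict hUx
    have hinj : Function.Injective f := by
      intro a b hab
      have h1 : X.mulVec a.1 = X.mulVec b.1 := congrArg Subtype.val hab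
      have h2 := congrArg (((x⁻¹ : ↥(Cfsg.isometryGroup F ⇑Q)) : Matrix.GeneralLinearGroup (Fin n) F).1.mulVec) h1
      rw [hXinv, hXinv] at h2
      exact Subtype.ext h2
    have hs : Function.Surjective f := LinearMap.injective_iff_surjective.mp hinj
    intro u hu
    obtain ⟨u', hu'⟩ := hs ⟨u, hu⟩
    exact ⟨u'.1, u'.2, congrArg Subtype.val hu'⟩
  -- the radical of U
  have hW0 : ∀ w ∈ U ⊓ LinearMap.BilinForm.orthogonal B U, X.mulVec w ∈ U ⊓ LinearMap.BilinForm.orthogonal B U := by
    intro w hw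
    refine Submodule.mem_inf.mpr ⟨hUx w hw.1, ?_⟩
    rw [LinearMap.BilinForm.mem_orthogonal_iff]
    intro u hu
    obtain ⟨u', hu'U, rfl⟩ := hsurj u hu
    have := (LinearMap.BilinForm.mem_orthogonal_iff.mp hw.2) u' hu'U
    rw [hXB]; exact this
  rcases hirr _ inf_le_left hW0 with h | h
  · exact Or.inl h
  right
  -- U is totally isotropic
  have hiso : ∀ u ∈ U, ∀ v ∈ U, QuadraticMap.polar Q u v = 0 := by
    intro u hu v hv
    have hv' : v ∈ U ⊓ LinearMap.BilinForm.orthogonal B U := by rw [h]; exact hv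
    have := (LinearMap.BilinForm.mem_orthogonal_iff.mp hv'.2) u hu
    exact this
  have hadd : ∀ u ∈ U, ∀ v ∈ U, Q (u + v) = Q u + Q v := by
    intro u hu v hv
    rw [QuadraticMap.map_add (⇑Q) u v, hiso u hu v hv, add_zero]
  -- singular vectors of U
  let W : Submodule F (Fin n → F) :=
    { carrier := {u | u ∈ U ∧ Q u = 0}
      add_mem' := by
        rintro a b ⟨ha, ha0⟩ ⟨hb, hb0⟩
        exact ⟨U.add_mem ha hb, by rw [hadd a ha b hb, ha0, hb0, add_zero]⟩
      zero_mem' := ⟨U.zero_mem, QuadraticMap.map_zero Q⟩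
      smul_mem' := by
        rintro c a ⟨ha, ha0⟩
        exact ⟨U.smul_mem c ha, by rw [QuadraticMap.map_smul, ha0, smul_zero]⟩ }
  have hWU : W ≤ U := fun w hw => hw.1
  have hWX : ∀ w ∈ W, X.mulVec w ∈ W := fun w hw => ⟨hUx w hw.1, by rw [hXQ]; exact hw.2⟩
  rcases hirr W hWU hWX with hW | hW
  swap
  · left
    intro u hu
    have : u ∈ W := hW ▸ hu
    exact this.2
  right
  have hanis : ∀ u ∈ U, Q u = 0 → u = 0 := by
    intro u hu hu0
    have : u ∈ W := ⟨hu, hu0⟩
    rw [hW] at this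
    exact (Submodule.mem_bot F).mp this
  obtain ⟨u₀, hu₀U, hu₀⟩ := (Submodule.ne_bot_iff U).mp hU0
  have hQu₀ : Q u₀ ≠ 0 := fun h0 => hu₀ (hanis u₀ hu₀U h0)
  -- 2 = 0
  have h2 : (2 : F) = 0 := by
    have h := hiso u₀ hu₀U u₀ hu₀U
    rw [QuadraticMap.polar_self, two_smul, ← two_mul] at h
    exact (mul_eq_zero.mp h).resolve_right hQu₀
  have hp2 : p = 2 := by
    have h : ((2 : ℕ) : F) = 0 := by exact_mod_cast h2
    have hdvd := (CharP.cast_eq_zero_iff F p 2).mp h
    exact (Nat.prime_dvd_prime_iff_eq (Fact.out) Nat.prime_two).mp hdvd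
  have hchar : ringChar F = 2 := by
    have : CharP F 2 := hp2 ▸ (inferInstance : CharP F p)
    exact ringChar.eq F 2
  have haddself : ∀ a : F, a + a = 0 := by
    intro a
    rw [← two_mul, h2, zero_mul]
  have hsub : ∀ u ∈ U, ∀ v ∈ U, Q (u - v) = Q u + Q v := by
    intro u hu v hv
    rw [sub_eq_add_neg, hadd u hu (-v) (U.neg_mem hv), QuadraticMap.map_neg]
  refine ⟨hp2, ?_, ⟨u₀, hu₀U, hQu₀⟩, ?_⟩
  · -- U = span {u₀}
    have hspan : U = Submodule.span F {u₀} := by
      apply le_antisymm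
      · intro v hv
        obtain ⟨a, ha⟩ := FiniteField.isSquare_of_char_two hchar (Q v / Q u₀)
        have hmem : a • u₀ ∈ U := U.smul_mem a hu₀U
        have h0 : Q (v - a • u₀) = 0 := by
          rw [hsub v hv _ hmem, QuadraticMap.map_smul, smul_eq_mul, ← ha, div_mul_cancel₀ _ hQu₀]
          exact haddself _
        have := hanis _ (U.sub_mem hv hmem) h0
        rw [sub_eq_zero] at this
        rw [this]
        exact Submodule.smul_mem _ _ (Submodule.mem_span_singleton_self u₀)
      · rw [Submodule.span_le, Set.singleton_subset_iff]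
        exact hu₀U
    rw [hspan]
    exact finrank_span_singleton hu₀
  · intro u hu
    have h0 : Q (X.mulVec u - u) = 0 := by
      rw [hsub _ (hUx u hu) u hu, hXQ]
      exact haddself _
    have := hanis _ (U.sub_mem (hUx u hu) hu) h0
    exact sub_eq_zero.mp this

end Cfsg.Agent.S2599
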