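import Cfsg.Statements.S2630
import Cfsg.Agent.Lib.Helper50.MaxSingular
import Cfsg.Agent.Lib.Helper50.ClassParity
import Cfsg.Agent.Lib.Helper43.Dickson

set_option autoImplicit false
open Cfsg

namespace Cfsg.Agent.S2630

open Cfsg.Agent.Lib.Helper50 Cfsg.Agent.Lib.Helper19 in
theorem prod_mulVec {F : Type*} [Field F] {ι : Type} [Fintype ι] [DecidableEq ι]
    (Q : QuadraticForm F (ι → F)) (l : List (ι → F)) (x : ι → F) :
    Matrix.mulVec (l.map (fun v => Cfsg.reflectionMatrix (⇑Q) v)).prod x =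
      (l.map (reflLin Q)).prod x := by
  induction l generalizing x with
  | nil => simp
  | cons a t ih =>
    rw [List.map_cons, List.prod_cons, List.map_cons, List.prod_cons, ← Matrix.mulVec_mulVec, ih,
      Module.End.mul_apply, reflectionMatrix_mulVec, reflLin_apply]


/-- For the hyperbolic form Σ x_i y_i on F^(2m) over a finite field of characteristic two (m ≥ 1, excluding m = 2 over the field of two elements), an isometry g preserves the class of the maximal totally singular subspace U₀ = {y = 0} (m − dim(U₀ ∩ gU₀) even) if and only if g lies in Ω (the commutator subgroup of the orthogonal group): the stabiliser of each class is Ω. -/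
theorem result {F : Type*} [Field F] [Fintype F] [CharP F 2] {m : ℕ} (hm : 1 ≤ m) (h : Fintype.card F ≠ 2 ∨ m ≠ 2) (g : ↥(Cfsg.isometryGroup F (Cfsg.quadFormPlus m F))) : Even (m - Module.finrank F ↥(LinearMap.ker (LinearMap.funLeft F F (Sum.inr : Fin m → Fin m ⊕ Fin m)) ⊓ (LinearMap.ker (LinearMap.funLeft F F (Sum.inr : Fin m → Fin m ⊕ Fin m))).map (Matrix.mulVecLin ((g : Matrix.GeneralLinearGroup (Fin m ⊕ Fin m) F) : Matrix (Fin m ⊕ Fin m) (Fin m ⊕ Fin m) F)))) ↔ g ∈ Cfsg.Omega F (Cfsg.quadFormPlus m F) := by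
  obtain ⟨k, rfl⟩ : ∃ k, m = k + 1 := ⟨m - 1, by omega⟩
  have hdet : (Matrix.fromBlocks (0 : Matrix (Fin (k + 1)) (Fin (k + 1)) F) (1 : Matrix (Fin (k + 1)) (Fin (k + 1)) F)
        (1 : Matrix (Fin (k + 1)) (Fin (k + 1)) F) (0 : Matrix (Fin (k + 1)) (Fin (k + 1)) F)).det ≠ 0 := by
    rw [Cfsg.Agent.Lib.Helper50.det_hyp, Fintype.card_fin]
    exact pow_ne_zero _ (neg_ne_zero.mpr one_ne_zero)
  have hnd := Cfsg.Agent.Lib.Helper50.qfOfPolar_nondegenerate (Cfsg.quadFormPlus (k + 1) F) _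
    (Cfsg.Agent.Lib.Helper50.quadFormPlus_smul (k + 1))
    (Cfsg.Agent.Lib.Helper50.polar_quadFormPlus (k + 1)) hdet
  set Q := Cfsg.Agent.Lib.Helper50.qfOfPolar (Cfsg.quadFormPlus (k + 1) F) _
    (Cfsg.Agent.Lib.Helper50.quadFormPlus_smul (k + 1))
    (Cfsg.Agent.Lib.Helper50.polar_quadFormPlus (k + 1)) with hQdef
  have hQcoe : (⇑Q : (Fin (k + 1) ⊕ Fin (k + 1) → F) → F) = Cfsg.quadFormPlus (k + 1) F := rfl
  revert g
  rw [← hQcoe]
  intro g
  have hV : Module.finrank F (Fin (k + 1) ⊕ Fin (k + 1) → F) = 2 * (k + 1) := by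
    rw [Module.finrank_fintype_fun_eq_card, Fintype.card_sum, Fintype.card_fin]; ring
  have h24 : Fintype.card F ≠ 2 ∨ Fintype.card (Fin (k + 1) ⊕ Fin (k + 1)) ≠ 4 := by
    rcases h with h | h
    · exact Or.inl h
    · right
      rw [Fintype.card_sum, Fintype.card_fin]
      omega
  have hgen := Cfsg.Agent.Lib.Helper43.reflGenerated_char_two Q hnd h24
  have hYeq : LinearMap.ker (LinearMap.funLeft F F (Sum.inr : Fin (k + 1) → Fin (k + 1) ⊕ Fin (k + 1))) =
      Cfsg.Agent.Lib.Helper50.coordSub (Cfsg.Agent.Lib.Helper50.setY k) := by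
    ext v
    rw [LinearMap.mem_ker, Cfsg.Agent.Lib.Helper50.mem_coordSub]
    constructor
    · intro h i hi
      cases i with
      | inl j => simp [Cfsg.Agent.Lib.Helper50.setY] at hi
      | inr j => exact congrFun h j
    · intro h
      funext j
      exact h (Sum.inr j) (by simp [Cfsg.Agent.Lib.Helper50.setY])
  rw [hYeq]
  have hY : Cfsg.Agent.Lib.Helper50.TF.TS Q
      (Cfsg.Agent.Lib.Helper50.coordSub (Cfsg.Agent.Lib.Helper50.setY k)) :=
    Cfsg.Agent.Lib.Helper50.Y_singular k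
  have hYd := Cfsg.Agent.Lib.Helper50.finrank_Y (F := F) k
  obtain ⟨l, hl, hgl⟩ := Cfsg.Agent.Lib.Helper43.exists_list_reflO Q hgen g
  have hA : ((g : Matrix.GeneralLinearGroup (Fin (k + 1) ⊕ Fin (k + 1)) F) : Matrix (Fin (k + 1) ⊕ Fin (k + 1)) (Fin (k + 1) ⊕ Fin (k + 1)) F) =
        (l.map (fun v => Cfsg.reflectionMatrix (⇑Q) v)).prod := by
    rw [hgl, Cfsg.Agent.Lib.Helper43.val_prod_reflO Q l hl]
  have hlin : Matrix.mulVecLin ((g : Matrix.GeneralLinearGroup (Fin (k + 1) ⊕ Fin (k + 1)) F) : Matrix (Fin (k + 1) ⊕ Fin (k + 1)) (Fin (k + 1) ⊕ Fin (k + 1)) F) =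
      ((Cfsg.Agent.Lib.Helper50.TF.prodEquiv Q l : _ ≃ₗ[F] _) : _ →ₗ[F] _) := by
    apply LinearMap.ext
    intro x
    rw [Matrix.mulVecLin_apply, LinearEquiv.coe_coe,
      Cfsg.Agent.Lib.Helper50.TF.prodEquiv_apply Q l hl, hA, prod_mulVec]
  rw [hlin, Cfsg.Agent.Lib.Helper50.TF.parity_prodEquiv Q hnd (k + 1) hV hY hYd l hl]
  rw [Cfsg.Agent.Lib.Helper43.Omega_eq_ker_dickson Q hnd hgen, MonoidHom.mem_ker]
  have h2 : Cfsg.Agent.Lib.Helper43.dickson Q hnd hgen g =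
      Multiplicative.ofAdd ((l.length : ℕ) : ZMod 2) := by
    rw [hgl]
    exact Cfsg.Agent.Lib.Helper43.dicksonFun_prod Q hnd l hl
  rw [h2, ← ofAdd_zero, Multiplicative.ofAdd.apply_eq_iff_eq, ZMod.natCast_eq_zero_iff_even]

end Cfsg.Agent.S2630
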