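import Cfsg.Statements.S2611
import Cfsg.Agent.Lib.Helper50.DiagPlus
import Cfsg.Agent.S2630

set_option autoImplicit false
open Cfsg

namespace Cfsg.Agent.S2611

open Cfsg.Agent.Lib.Helper50 in
theorem map_le {F : Type*} [Field F] {m : ℕ} (A : GL (Fin m) F) :
    (LinearMap.ker (LinearMap.funLeft F F (Sum.inr : Fin m → Fin m ⊕ Fin m))).map
      (Matrix.mulVecLin (((diagPlusO A : ↥(Cfsg.isometryGroup F (⇑(QPlus m F)))) :
        Matrix.GeneralLinearGroup (Fin m ⊕ Fin m) F) :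
        Matrix (Fin m ⊕ Fin m) (Fin m ⊕ Fin m) F)) ≤
      LinearMap.ker (LinearMap.funLeft F F (Sum.inr : Fin m → Fin m ⊕ Fin m)) := by
  rintro w ⟨v, hv, rfl⟩
  rw [SetLike.mem_coe, LinearMap.mem_ker] at hv
  rw [LinearMap.mem_ker, Matrix.mulVecLin_apply, diagPlusO_val]
  obtain ⟨v₁, v₂, rfl⟩ : ∃ v₁ v₂, v = Sum.elim v₁ v₂ :=
    ⟨v ∘ Sum.inl, v ∘ Sum.inr, by funext i; cases i <;> rfl⟩
  have hv2 : v₂ = 0 := hv
  rw [Matrix.fromBlocks_mulVec, hv2]
  funext i
  simp [LinearMap.funLeft_apply]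

open Cfsg.Agent.Lib.Helper50 in
theorem map_eq {F : Type*} [Field F] {m : ℕ} (A : GL (Fin m) F) :
    (LinearMap.ker (LinearMap.funLeft F F (Sum.inr : Fin m → Fin m ⊕ Fin m))).map
      (Matrix.mulVecLin (((diagPlusO A : ↥(Cfsg.isometryGroup F (⇑(QPlus m F)))) :
        Matrix.GeneralLinearGroup (Fin m ⊕ Fin m) F) :
        Matrix (Fin m ⊕ Fin m) (Fin m ⊕ Fin m) F)) =
      LinearMap.ker (LinearMap.funLeft F F (Sum.inr : Fin m → Fin m ⊕ Fin m)) := by
  apply le_antisymm (map_le A)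
  intro w hw
  have h1 := map_le A⁻¹ (Submodule.mem_map_of_mem hw)
  refine ⟨_, h1, ?_⟩
  rw [Matrix.mulVecLin_apply, Matrix.mulVecLin_apply, Matrix.mulVec_mulVec, ← Units.val_mul,
    ← Subgroup.coe_mul, ← diagPlusO_mul, mul_inv_cancel]
  have : (((diagPlusO (1 : GL (Fin m) F) : ↥(Cfsg.isometryGroup F (⇑(QPlus m F)))) :
        Matrix.GeneralLinearGroup (Fin m ⊕ Fin m) F) :
        Matrix (Fin m ⊕ Fin m) (Fin m ⊕ Fin m) F) = 1 := by
    rw [diagPlusO_val]
    simp [Matrix.fromBlocks_one]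
  rw [this, Matrix.one_mulVec]

theorem finrank_ker_inr {F : Type*} [Field F] {m : ℕ} :
    Module.finrank F ↥(LinearMap.ker (LinearMap.funLeft F F
      (Sum.inr : Fin m → Fin m ⊕ Fin m))) = m := by
  have hsurj : Function.Surjective (LinearMap.funLeft F F (Sum.inr : Fin m → Fin m ⊕ Fin m)) := by
    intro w
    exact ⟨Sum.elim 0 w, by funext i; simp [LinearMap.funLeft_apply]⟩
  have h := LinearMap.finrank_range_add_finrank_ker
    (LinearMap.funLeft F F (Sum.inr : Fin m → Fin m ⊕ Fin m))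
  rw [LinearMap.range_eq_top.mpr hsurj, finrank_top, Module.finrank_fintype_fun_eq_card,
    Module.finrank_fintype_fun_eq_card, Fintype.card_sum, Fintype.card_fin] at h
  omega


/-- For the hyperbolic quadratic form Σ x_i y_i on F^(2m) (F finite, m ≥ 1, excluding m = 2 over the field of two elements) and an invertible m × m matrix A, the block-diagonal isometry diag(A, (A⁻¹)ᵀ), which stabilises the two maximal totally singular subspaces x = 0 and y = 0, lies in Ω⁺_2m(F) (the commutator subgroup of the orthogonal group) if and only if det A is a square in F. -/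
theorem result {F : Type*} [Field F] [Fintype F] {m : ℕ} (hm : 1 ≤ m) (h : Fintype.card F ≠ 2 ∨ m ≠ 2) (A : GL (Fin m) F) : (∃ g : ↥(Cfsg.isometryGroup F (Cfsg.quadFormPlus m F)), g ∈ Cfsg.Omega F (Cfsg.quadFormPlus m F) ∧ ((g : Matrix.GeneralLinearGroup (Fin m ⊕ Fin m) F) : Matrix (Fin m ⊕ Fin m) (Fin m ⊕ Fin m) F) = Matrix.fromBlocks (A : Matrix (Fin m) (Fin m) F) 0 0 ((A : Matrix (Fin m) (Fin m) F)⁻¹).transpose) ↔ IsSquare (A : Matrix (Fin m) (Fin m) F).det := by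
  have hQcoe : (⇑(Cfsg.Agent.Lib.Helper50.QPlus m F) : (Fin m ⊕ Fin m → F) → F) =
      Cfsg.quadFormPlus m F := rfl
  rw [← hQcoe]
  have hex : (∃ g : ↥(Cfsg.isometryGroup F (⇑(Cfsg.Agent.Lib.Helper50.QPlus m F))),
      g ∈ Cfsg.Omega F (⇑(Cfsg.Agent.Lib.Helper50.QPlus m F)) ∧
      ((g : Matrix.GeneralLinearGroup (Fin m ⊕ Fin m) F) : Matrix (Fin m ⊕ Fin m) (Fin m ⊕ Fin m) F) =
        Matrix.fromBlocks (A : Matrix (Fin m) (Fin m) F) 0 0
          ((A : Matrix (Fin m) (Fin m) F)⁻¹).transpose) ↔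
      Cfsg.Agent.Lib.Helper50.diagPlusO A ∈
        Cfsg.Omega F (⇑(Cfsg.Agent.Lib.Helper50.QPlus m F)) := by
    constructor
    · rintro ⟨g, hg, hgm⟩
      have : g = Cfsg.Agent.Lib.Helper50.diagPlusO A := by
        apply Cfsg.Agent.Lib.Helper50.O_ext
        rw [hgm, Cfsg.Agent.Lib.Helper50.diagPlusO_val']
      rw [← this]; exact hg
    · intro h
      exact ⟨_, h, Cfsg.Agent.Lib.Helper50.diagPlusO_val' A⟩
  rw [hex]
  by_cases h2 : (2 : F) = 0
  · have hc : CharP F 2 := CharTwo.of_one_ne_zero_of_two_eq_zero one_ne_zero h2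
    have hsq : IsSquare (A : Matrix (Fin m) (Fin m) F).det :=
      FiniteField.isSquare_of_char_two (ringChar.eq F 2) _
    constructor
    · intro _; exact hsq
    · intro _
      have key := Cfsg.Agent.S2630.result hm h (Cfsg.Agent.Lib.Helper50.diagPlusO A)
      apply key.mp
      rw [map_eq A, inf_idem, finrank_ker_inr, Nat.sub_self]
      exact Even.zero
  · exact Cfsg.Agent.Lib.Helper50.diagPlusO_mem_Omega_iff h2 A

end Cfsg.Agent.S2611
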