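import Cfsg.Statements.S2612
import Cfsg.Agent.Lib.Helper50.DiagPlus
import Cfsg.Agent.S2630
import Cfsg.Agent.S2629

set_option autoImplicit false
open Cfsg

namespace Cfsg.Agent.S2612

/-- For the hyperbolic quadratic form Σ x_i y_i on F^(2m) (F finite, m ≥ 1, excluding m = 2 over the field of two elements), Ω⁺_2m(F) (the commutator subgroup of the orthogonal group) contains an element interchanging the two complementary maximal totally singular subspaces {y = 0} and {x = 0} if and only if m is even (dimension divisible by 4). -/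
theorem result {F : Type*} [Field F] [Fintype F] {m : ℕ} (hm : 1 ≤ m) (h : Fintype.card F ≠ 2 ∨ m ≠ 2) : (∃ g : ↥(Cfsg.isometryGroup F (Cfsg.quadFormPlus m F)), g ∈ Cfsg.Omega F (Cfsg.quadFormPlus m F) ∧ (∀ v : Fin m ⊕ Fin m → F, (∀ i, v (Sum.inr i) = 0) → ∀ i, (((g : Matrix.GeneralLinearGroup (Fin m ⊕ Fin m) F) : Matrix (Fin m ⊕ Fin m) (Fin m ⊕ Fin m) F).mulVec v) (Sum.inl i) = 0) ∧ (∀ v : Fin m ⊕ Fin m → F, (∀ i, v (Sum.inl i) = 0) → ∀ i, (((g : Matrix.GeneralLinearGroup (Fin m ⊕ Fin m) F) : Matrix (Fin m ⊕ Fin m) (Fin m ⊕ Fin m) F).mulVec v) (Sum.inr i) = 0)) ↔ Even m := by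
  have hQcoe : (⇑(Cfsg.Agent.Lib.Helper50.QPlus m F) : (Fin m ⊕ Fin m → F) → F) =
      Cfsg.quadFormPlus m F := rfl
  constructor
  · rintro ⟨g, hgΩ, hg1, hg2⟩
    -- the intersection is trivial
    have hbot : LinearMap.ker (LinearMap.funLeft F F (Sum.inr : Fin m → Fin m ⊕ Fin m)) ⊓
        (LinearMap.ker (LinearMap.funLeft F F (Sum.inr : Fin m → Fin m ⊕ Fin m))).map
          (Matrix.mulVecLin ((g : Matrix.GeneralLinearGroup (Fin m ⊕ Fin m) F) :
            Matrix (Fin m ⊕ Fin m) (Fin m ⊕ Fin m) F)) = ⊥ := by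
      rw [Submodule.eq_bot_iff]
      rintro w ⟨hw1, v, hv, rfl⟩
      rw [SetLike.mem_coe, LinearMap.mem_ker] at hv hw1
      have hv' : ∀ i, v (Sum.inr i) = 0 := fun i => congrFun hv i
      have h1 := hg1 v hv'
      rw [Matrix.mulVecLin_apply] at hw1 ⊢
      funext k
      cases k with
      | inl i => exact h1 i
      | inr i => exact congrFun hw1 i
    have hfin : Module.finrank F ↥(LinearMap.ker (LinearMap.funLeft F F (Sum.inr : Fin m → Fin m ⊕ Fin m)) ⊓
        (LinearMap.ker (LinearMap.funLeft F F (Sum.inr : Fin m → Fin m ⊕ Fin m))).map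
          (Matrix.mulVecLin ((g : Matrix.GeneralLinearGroup (Fin m ⊕ Fin m) F) :
            Matrix (Fin m ⊕ Fin m) (Fin m ⊕ Fin m) F))) = 0 := by
      rw [hbot]; exact finrank_bot F _
    by_cases h2 : (2 : F) = 0
    · have hc : CharP F 2 := CharTwo.of_one_ne_zero_of_two_eq_zero one_ne_zero h2
      have key := (Cfsg.Agent.S2630.result hm h g).mpr hgΩ
      rw [hfin, Nat.sub_zero] at key
      exact key
    · have hdet : ((g : Matrix.GeneralLinearGroup (Fin m ⊕ Fin m) F) :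
            Matrix (Fin m ⊕ Fin m) (Fin m ⊕ Fin m) F).det = 1 := by
        have h1 : Cfsg.Agent.Lib.Helper50.detHom (Cfsg.quadFormPlus m F) g = 1 :=
          Abelianization.commutator_subset_ker _ hgΩ
        rw [← Cfsg.Agent.Lib.Helper50.detHom_val, h1, Units.val_one]
      have key := (Cfsg.Agent.S2629.result h2 hm g).mpr hdet
      rw [hfin, Nat.sub_zero] at key
      exact key
  · intro hev
    rw [← hQcoe]
    set vs : List (Fin m ⊕ Fin m → F) :=
      List.ofFn (Cfsg.Agent.Lib.Helper50.tw (fun _ => (1 : F))) with hvs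
    have hvs0 : ∀ v ∈ vs, Cfsg.Agent.Lib.Helper50.QPlus m F v ≠ 0 := by
      intro v hv
      rw [hvs, List.mem_ofFn] at hv
      obtain ⟨i, rfl⟩ := hv
      rw [Cfsg.Agent.Lib.Helper50.QPlus_tw]; simp
    have h24 : Fintype.card F ≠ 2 ∨ Fintype.card (Fin m ⊕ Fin m) ≠ 4 := by
      rcases h with h | h
      · exact Or.inl h
      · right
        rw [Fintype.card_sum, Fintype.card_fin]
        omega
    have hmat : ((((vs.map (Cfsg.Agent.Lib.Helper50.reflO (Cfsg.Agent.Lib.Helper50.QPlus m F))).prod :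
        ↥(Cfsg.isometryGroup F (⇑(Cfsg.Agent.Lib.Helper50.QPlus m F)))) :
        Matrix.GeneralLinearGroup (Fin m ⊕ Fin m) F) : Matrix (Fin m ⊕ Fin m) (Fin m ⊕ Fin m) F) =
        Matrix.fromBlocks 0 1 1 0 := by
      rw [Cfsg.Agent.Lib.Helper50.reflO_prod_val _ vs hvs0, hvs,
        Cfsg.Agent.Lib.Helper50.prod_refl_tw _ (fun _ => one_ne_zero)]
      have : (fun _ : Fin m => ((1 : F))⁻¹) = fun _ => (1 : F) := by
        funext i; exact inv_one
      rw [this, Matrix.diagonal_one]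
    refine ⟨(vs.map (Cfsg.Agent.Lib.Helper50.reflO (Cfsg.Agent.Lib.Helper50.QPlus m F))).prod,
      ?_, ?_, ?_⟩
    · rw [Cfsg.Agent.Lib.Helper50.omega_criterion _ Cfsg.Agent.Lib.Helper50.QPlus_nondegenerate h24
        _ vs hvs0 (Cfsg.Agent.Lib.Helper50.reflO_prod_val _ vs hvs0)]
      refine ⟨by rw [hvs, List.length_ofFn]; exact hev, fun _ => ?_⟩
      rw [hvs, List.map_ofFn, List.prod_ofFn]
      simp only [Function.comp, Cfsg.Agent.Lib.Helper50.QPlus_tw, Finset.prod_const,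
        Finset.card_univ, Fintype.card_fin]
      rw [hev.neg_one_pow]
      exact ⟨1, by ring⟩
    · intro v hv i
      obtain ⟨v₁, v₂, rfl⟩ : ∃ v₁ v₂, v = Sum.elim v₁ v₂ :=
        ⟨v ∘ Sum.inl, v ∘ Sum.inr, by funext i; cases i <;> rfl⟩
      rw [hmat, Matrix.fromBlocks_mulVec]
      simpa using hv i
    · intro v hv i
      obtain ⟨v₁, v₂, rfl⟩ : ∃ v₁ v₂, v = Sum.elim v₁ v₂ :=
        ⟨v ∘ Sum.inl, v ∘ Sum.inr, by funext i; cases i <;> rfl⟩
      rw [hmat, Matrix.fromBlocks_mulVec]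
      simpa using hv i

end Cfsg.Agent.S2612
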