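import Cfsg.Statements.S2613
import Cfsg.Agent.Lib.Helper50.HypNeg

set_option autoImplicit false
open Cfsg

namespace Cfsg.Agent.S2613

/-- For the hyperbolic form Σ x_j y_j on F^(2m), F finite with q elements, q odd, and 1 ≤ i ≤ m: the involution negating the first i hyperbolic pairs (x_j, y_j ↦ −x_j, −y_j for j < i) and fixing the rest lies in Ω⁺_2m(q) (commutator subgroup of the orthogonal group) if and only if q^i ≡ 1 (mod 4); its (−1)-eigenspace is a hyperbolic 2i-space. -/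
theorem result {F : Type*} [Field F] [Fintype F] {q : ℕ} (hF : Fintype.card F = q) (hq : Odd q) {m : ℕ} (i : ℕ) (hi : 1 ≤ i) (him : i ≤ m) : (∃ g : ↥(Cfsg.isometryGroup F (Cfsg.quadFormPlus m F)), g ∈ Cfsg.Omega F (Cfsg.quadFormPlus m F) ∧ ((g : Matrix.GeneralLinearGroup (Fin m ⊕ Fin m) F) : Matrix (Fin m ⊕ Fin m) (Fin m ⊕ Fin m) F) = Matrix.diagonal (fun k : Fin m ⊕ Fin m => if (Sum.elim (fun j : Fin m => (j : ℕ)) (fun j : Fin m => (j : ℕ)) k) < i then (-1 : F) else 1)) ↔ q ^ i % 4 = 1 := by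
  have hdet : (Matrix.fromBlocks (0 : Matrix (Fin m) (Fin m) F) (1 : Matrix (Fin m) (Fin m) F)
        (1 : Matrix (Fin m) (Fin m) F) (0 : Matrix (Fin m) (Fin m) F)).det ≠ 0 := by
    rw [Cfsg.Agent.Lib.Helper50.det_hyp, Fintype.card_fin]
    exact pow_ne_zero _ (neg_ne_zero.mpr one_ne_zero)
  exact Cfsg.Agent.Lib.Helper50.hyp_pairs_involution_iff hF hq (Cfsg.quadFormPlus m F) _
    (Cfsg.Agent.Lib.Helper50.quadFormPlus_smul m) (Cfsg.Agent.Lib.Helper50.polar_quadFormPlus m)
    hdet (Sum.elim (fun j : Fin m => (j : ℕ)) (fun j : Fin m => (j : ℕ))) m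
    (fun j => Sum.inl j) (fun j => Sum.inr j)
    (by
      intro j k
      cases k with
      | inl j' => simp [Fin.ext_iff]
      | inr j' => simp [Fin.ext_iff])
    (fun j => Sum.inl_ne_inr)
    (by intro j; simp [Cfsg.quadFormPlus])
    (by intro j; simp [Cfsg.quadFormPlus])
    (by
      intro j x
      rw [Cfsg.Agent.Lib.Helper50.polar_quadFormPlus]
      simp [Matrix.toBilin'_apply', Matrix.fromBlocks_mulVec])
    (by
      intro j x
      rw [Cfsg.Agent.Lib.Helper50.polar_quadFormPlus]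
      simp [Matrix.toBilin'_apply', Matrix.fromBlocks_mulVec])
    i him

end Cfsg.Agent.S2613
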