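import Cfsg.Statements.S2614
import Cfsg.Agent.Lib.Helper50.HypNeg

set_option autoImplicit false
open Cfsg

namespace Cfsg.Agent.S2614

/-- For the form x_0² + Σ x_j y_j on F^(2m+1), F finite with q elements, q odd, and 1 ≤ i ≤ m: the involution of determinant one negating the first i hyperbolic pairs (and fixing x_0 and the other pairs) lies in Ω_(2m+1)(q) (commutator subgroup of the orthogonal group) if and only if q^i ≡ 1 (mod 4); its (−1)-eigenspace is a hyperbolic 2i-space. -/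
theorem result {F : Type*} [Field F] [Fintype F] {q : ℕ} (hF : Fintype.card F = q) (hq : Odd q) {m : ℕ} (i : ℕ) (hi : 1 ≤ i) (him : i ≤ m) : (∃ g : ↥(Cfsg.isometryGroup F (Cfsg.quadFormOdd m F)), g ∈ Cfsg.Omega F (Cfsg.quadFormOdd m F) ∧ ((g : Matrix.GeneralLinearGroup (Unit ⊕ (Fin m ⊕ Fin m)) F) : Matrix (Unit ⊕ (Fin m ⊕ Fin m)) (Unit ⊕ (Fin m ⊕ Fin m)) F) = Matrix.diagonal (fun k : Unit ⊕ (Fin m ⊕ Fin m) => if (Sum.elim (fun _ : Unit => i) (Sum.elim (fun j : Fin m => (j : ℕ)) (fun j : Fin m => (j : ℕ))) k) < i then (-1 : F) else 1)) ↔ q ^ i % 4 = 1 := by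
  have h2 : (2 : F) ≠ 0 := Cfsg.Agent.Lib.Helper50.two_ne_zero_of_odd_card hF hq
  have hdet : (Matrix.fromBlocks ((2 * (1 : F)) • (1 : Matrix Unit Unit F))
        (0 : Matrix Unit (Fin m ⊕ Fin m) F) (0 : Matrix (Fin m ⊕ Fin m) Unit F)
        (Matrix.fromBlocks (0 : Matrix (Fin m) (Fin m) F) (1 : Matrix (Fin m) (Fin m) F)
        (1 : Matrix (Fin m) (Fin m) F) (0 : Matrix (Fin m) (Fin m) F))).det ≠ 0 := by
    rw [Cfsg.Agent.Lib.Helper50.det_odd_gram]
    exact mul_ne_zero (mul_ne_zero h2 one_ne_zero) (pow_ne_zero _ (neg_ne_zero.mpr one_ne_zero))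
  have hfun : (fun k : Unit ⊕ (Fin m ⊕ Fin m) => if (Sum.elim (fun _ : Unit => i) (Sum.elim (fun j : Fin m => (j : ℕ)) (fun j : Fin m => (j : ℕ))) k) < i then (-1 : F) else 1) =
      (fun k : Unit ⊕ (Fin m ⊕ Fin m) => if (Sum.elim (fun _ : Unit => m) (Sum.elim (fun j : Fin m => (j : ℕ)) (fun j : Fin m => (j : ℕ))) k) < i then (-1 : F) else 1) := by
    funext k
    cases k with
    | inl u =>
      have : ¬ m < i := by omega
      simp [this]
    | inr k => rfl
  rw [hfun]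
  exact Cfsg.Agent.Lib.Helper50.hyp_pairs_involution_iff hF hq (Cfsg.quadFormOdd m F) _
    (Cfsg.Agent.Lib.Helper50.quadFormOdd_smul m) (Cfsg.Agent.Lib.Helper50.polar_quadFormOdd m)
    hdet (Sum.elim (fun _ : Unit => m) (Sum.elim (fun j : Fin m => (j : ℕ)) (fun j : Fin m => (j : ℕ)))) m
    (fun j => Sum.inr (Sum.inl j)) (fun j => Sum.inr (Sum.inr j))
    (by
      intro j k
      rcases k with u | j' | j'
      · have : m ≠ (j : ℕ) := by omega
        simp [this]
      · simp [Fin.ext_iff]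
      · simp [Fin.ext_iff])
    (fun j => by simp)
    (by intro j; simp [Cfsg.quadFormOdd])
    (by intro j; simp [Cfsg.quadFormOdd])
    (by
      intro j x
      rw [Cfsg.Agent.Lib.Helper50.polar_quadFormOdd]
      simp [Matrix.toBilin'_apply', Matrix.fromBlocks_mulVec])
    (by
      intro j x
      rw [Cfsg.Agent.Lib.Helper50.polar_quadFormOdd]
      simp [Matrix.toBilin'_apply', Matrix.fromBlocks_mulVec])
    i him

end Cfsg.Agent.S2614
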