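import Cfsg.Statements.S2615
import Cfsg.Agent.Lib.Helper50.HypNeg

set_option autoImplicit false
open Cfsg

namespace Cfsg.Agent.S2615

/-- For an elliptic form Σ_(j<m−1) x_j y_j + (z₁² + a z₁z₂ + b z₂²) (anisotropic binary part) on F^(2m), F finite with q elements, q odd, and 1 ≤ i ≤ m − 1: the involution negating the first i hyperbolic pairs and fixing the rest lies in Ω⁻_2m(q) (commutator subgroup of the orthogonal group) if and only if q^i ≡ 1 (mod 4). -/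
theorem result {F : Type*} [Field F] [Fintype F] {q : ℕ} (hF : Fintype.card F = q) (hq : Odd q) {m : ℕ} (a b : F) (hab : ∀ z₁ z₂ : F, z₁ ^ 2 + a * z₁ * z₂ + b * z₂ ^ 2 = 0 → z₁ = 0 ∧ z₂ = 0) (i : ℕ) (hi : 1 ≤ i) (him : i + 1 ≤ m) : (∃ g : ↥(Cfsg.isometryGroup F (Cfsg.quadFormMinus (m - 1) F a b)), g ∈ Cfsg.Omega F (Cfsg.quadFormMinus (m - 1) F a b) ∧ ((g : Matrix.GeneralLinearGroup ((Fin (m - 1) ⊕ Fin (m - 1)) ⊕ Fin 2) F) : Matrix ((Fin (m - 1) ⊕ Fin (m - 1)) ⊕ Fin 2) ((Fin (m - 1) ⊕ Fin (m - 1)) ⊕ Fin 2) F) = Matrix.diagonal (fun k : (Fin (m - 1) ⊕ Fin (m - 1)) ⊕ Fin 2 => if (Sum.elim (Sum.elim (fun j : Fin (m - 1) => (j : ℕ)) (fun j : Fin (m - 1) => (j : ℕ))) (fun _ : Fin 2 => i) k) < i then (-1 : F) else 1)) ↔ q ^ i % 4 = 1 := by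
  have h2 : (2 : F) ≠ 0 := Cfsg.Agent.Lib.Helper50.two_ne_zero_of_odd_card hF hq
  have hns : ¬ IsSquare (a ^ 2 - 4 * b) := Cfsg.Agent.Lib.Helper50.disc_not_isSquare h2 a b hab
  have hns0 : a ^ 2 - 4 * b ≠ 0 := fun h => hns (h ▸ ⟨0, by ring⟩)
  have hdet : (Matrix.fromBlocks
        (Matrix.fromBlocks (0 : Matrix (Fin (m - 1)) (Fin (m - 1)) F) (1 : Matrix (Fin (m - 1)) (Fin (m - 1)) F)
        (1 : Matrix (Fin (m - 1)) (Fin (m - 1)) F) (0 : Matrix (Fin (m - 1)) (Fin (m - 1)) F))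
        (0 : Matrix (Fin (m - 1) ⊕ Fin (m - 1)) (Fin 2) F) (0 : Matrix (Fin 2) (Fin (m - 1) ⊕ Fin (m - 1)) F)
        (!![2, a; a, 2 * b] : Matrix (Fin 2) (Fin 2) F)).det ≠ 0 := by
    rw [Cfsg.Agent.Lib.Helper50.det_minus_gram]
    exact mul_ne_zero (pow_ne_zero _ (neg_ne_zero.mpr one_ne_zero)) hns0
  have hfun : (fun k : (Fin (m - 1) ⊕ Fin (m - 1)) ⊕ Fin 2 => if (Sum.elim (Sum.elim (fun j : Fin (m - 1) => (j : ℕ)) (fun j : Fin (m - 1) => (j : ℕ))) (fun _ : Fin 2 => i) k) < i then (-1 : F) else 1) =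
      (fun k : (Fin (m - 1) ⊕ Fin (m - 1)) ⊕ Fin 2 => if (Sum.elim (Sum.elim (fun j : Fin (m - 1) => (j : ℕ)) (fun j : Fin (m - 1) => (j : ℕ))) (fun _ : Fin 2 => m) k) < i then (-1 : F) else 1) := by
    funext k
    cases k with
    | inr u =>
      have : ¬ m < i := by omega
      simp [this]
    | inl k => rfl
  rw [hfun]
  exact Cfsg.Agent.Lib.Helper50.hyp_pairs_involution_iff hF hq (Cfsg.quadFormMinus (m - 1) F a b) _
    (Cfsg.Agent.Lib.Helper50.quadFormMinus_smul (m - 1) a b)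
    (Cfsg.Agent.Lib.Helper50.polar_quadFormMinus (m - 1) a b)
    hdet (Sum.elim (Sum.elim (fun j : Fin (m - 1) => (j : ℕ)) (fun j : Fin (m - 1) => (j : ℕ))) (fun _ : Fin 2 => m)) (m - 1)
    (fun j => Sum.inl (Sum.inl j)) (fun j => Sum.inl (Sum.inr j))
    (by
      intro j k
      rcases k with (j' | j') | u
      · simp [Fin.ext_iff]
      · simp [Fin.ext_iff]
      · have : m ≠ (j : ℕ) := by omega
        simp [this])
    (fun j => by simp)
    (by intro j; simp [Cfsg.quadFormMinus])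
    (by intro j; simp [Cfsg.quadFormMinus])
    (by
      intro j x
      rw [Cfsg.Agent.Lib.Helper50.polar_quadFormMinus]
      simp [Matrix.toBilin'_apply', Matrix.fromBlocks_mulVec])
    (by
      intro j x
      rw [Cfsg.Agent.Lib.Helper50.polar_quadFormMinus]
      simp [Matrix.toBilin'_apply', Matrix.fromBlocks_mulVec])
    i (by omega)

end Cfsg.Agent.S2615
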