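import Cfsg.Statements.S2617
import Cfsg.Agent.Lib.Helper50.ZeroCountForms

set_option autoImplicit false
open Cfsg

namespace Cfsg.Agent.S2617

open Cfsg.Agent.Lib.Helper50

/-- The two standard quadratic forms of even dimension 2m over a finite field are not isometric: there is no linear isomorphism carrying the elliptic form Σ_(i<m−1) x_i y_i + z₁² + z₁z₂ + ζ z₂² (t² + t + ζ without roots) to the hyperbolic form Σ_(i<m) x_i y_i (they have different Witt index). -/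
theorem result {F : Type*} [Field F] [Finite F] {m : ℕ} (hm : 1 ≤ m) (ζ : F) (hζ : ∀ t : F, t ^ 2 + t + ζ ≠ 0) (g : (Fin m ⊕ Fin m → F) ≃ₗ[F] ((Fin (m - 1) ⊕ Fin (m - 1)) ⊕ Fin 2 → F)) : ¬ (∀ v : Fin m ⊕ Fin m → F, Cfsg.quadFormMinus (m - 1) F 1 ζ (g v) = Cfsg.quadFormPlus m F v) := by
  classical
  have : Fintype F := Fintype.ofFinite F
  intro hiso
  obtain ⟨k, rfl⟩ : ∃ k, m = k + 1 := ⟨m - 1, by omega⟩
  let g' : (Fin (k + 1) ⊕ Fin (k + 1) → F) ≃ₗ[F] ((Fin k ⊕ Fin k) ⊕ Fin 2 → F) := g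
  have hiso' : ∀ v : Fin (k + 1) ⊕ Fin (k + 1) → F,
      Cfsg.quadFormMinus k F 1 ζ (g' v) = Cfsg.quadFormPlus (k + 1) F v := hiso
  have hab : ∀ z₁ z₂ : F, z₁ ^ 2 + 1 * z₁ * z₂ + ζ * z₂ ^ 2 = 0 → z₁ = 0 ∧ z₂ = 0 := by
    intro z₁ z₂ h
    by_cases hz : z₂ = 0
    · subst hz
      simp at h
      exact ⟨h, rfl⟩
    · exfalso
      apply hζ (z₁ / z₂)
      field_simp
      linear_combination h
  have h1 := zeroCount_plus_eq_minus_add (F := F) k 1 ζ hab
  have h2 : zeroCount (Cfsg.quadFormPlus (k + 1) F) = zeroCount (Cfsg.quadFormMinus k F 1 ζ) :=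
    zeroCount_congr g'.toEquiv _ _ (fun v => (hiso' v).symm)
  have hq : 2 ≤ Fintype.card F := Fintype.one_lt_card
  have hpos : 0 < 2 * (Fintype.card F - 1) * Fintype.card F ^ k := by
    apply Nat.mul_pos
    · omega
    · exact pow_pos (by omega) k
  omega

end Cfsg.Agent.S2617
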