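import Cfsg.Statements.S2619

set_option autoImplicit false
open Cfsg

namespace Cfsg.Agent.S2619

/-- Over a finite field of characteristic two, given an alternating bilinear form B on a finite-dimensional space, a basis (v_i) and scalars (λ_i), there is exactly one quadratic form whose polar form is B and whose value at each v_i is λ_i. -/
theorem result {F V ι : Type*} [Field F] [Finite F] [CharP F 2] [AddCommGroup V] [Module F V] [Fintype ι] (b : Module.Basis ι F V) (B : LinearMap.BilinForm F V) (hB : B.IsAlt) (c : ι → F) : ∃! Q : QuadraticForm F V, QuadraticMap.polarBilin Q = B ∧ ∀ i, Q (b i) = c i := by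
  classical
  let _ : LinearOrder ι := IsWellOrder.linearOrder WellOrderingRel
  let B' : LinearMap.BilinForm F V :=
    b.constr (S := F) fun i => b.constr (S := F) fun j =>
      if i = j then c i else if i < j then B (b i) (b j) else 0
  have hB' : ∀ i j, B' (b i) (b j) = if i = j then c i else if i < j then B (b i) (b j) else 0 := by
    intro i j
    simp only [B', Module.Basis.constr_basis]
  have hsymm : ∀ x y, B x y = B y x := by
    intro x y
    rw [← hB.neg_eq x y, CharTwo.neg_eq]
  refine ⟨LinearMap.BilinMap.toQuadraticMap B', ⟨?_, ?_⟩, ?_⟩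
  · refine b.ext fun i => b.ext fun j => ?_
    rw [QuadraticMap.polarBilin_apply_apply, LinearMap.BilinMap.polar_toQuadraticMap, hB', hB']
    obtain h | rfl | h := lt_trichotomy i j
    · simp [h.ne, h.ne', h, h.not_gt]
    · simp [CharTwo.add_self_eq_zero, hB.self_eq_zero]
    · simp [h.ne, h.ne', h, h.not_gt, hsymm (b i) (b j)]
  · intro i
    rw [LinearMap.BilinMap.toQuadraticMap_apply, hB']
    simp
  · rintro Q' ⟨hQ'1, hQ'2⟩
    have hpol : ∀ x y, QuadraticMap.polar Q' x y = B x y := by
      intro x y
      rw [← hQ'1, QuadraticMap.polarBilin_apply_apply]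
    have : Q'.toBilin b = B' := by
      refine b.ext fun i => b.ext fun j => ?_
      rw [QuadraticMap.toBilin_apply, hB', hQ'2, hpol]
    rw [← this, QuadraticMap.toQuadraticMap_toBilin]

end Cfsg.Agent.S2619
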