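import Cfsg.Statements.S2620
import Cfsg.Agent.Lib.Helper50.Gram

set_option autoImplicit false
open Cfsg

namespace Cfsg.Agent.S2620

open Cfsg.Agent.Lib.Helper50

/-- Discriminant of the hyperbolic quadratic form Σ_(i<m) x_i y_i over a field with q elements, q odd, m ≥ 1: the determinant of the Gram matrix of its polar form in any basis is a square if and only if m(q − 1)/2 is even (equivalently q^m ≡ 1 (mod 4)). -/
theorem result {F : Type*} [Field F] [Fintype F] {q : ℕ} (hF : Fintype.card F = q) (hq : Odd q) {m : ℕ} (hm : 1 ≤ m) {ι : Type*} [Fintype ι] [DecidableEq ι] (b : Module.Basis ι F (Fin m ⊕ Fin m → F)) : IsSquare (Matrix.of (fun i j : ι => QuadraticMap.polar (Cfsg.quadFormPlus m F) (b i) (b j))).det ↔ Even (m * (q - 1) / 2) := by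
  classical
  obtain ⟨d, hd, hdet⟩ := gram_det_basis (Matrix.fromBlocks (0 : Matrix (Fin m) (Fin m) F)
    (1 : Matrix (Fin m) (Fin m) F) (1 : Matrix (Fin m) (Fin m) F) (0 : Matrix (Fin m) (Fin m) F)) b
  have hG : (Matrix.of (fun i j : ι => QuadraticMap.polar (Cfsg.quadFormPlus m F) (b i) (b j))) =
      Matrix.of fun i j => Matrix.toBilin' (Matrix.fromBlocks (0 : Matrix (Fin m) (Fin m) F)
    (1 : Matrix (Fin m) (Fin m) F) (1 : Matrix (Fin m) (Fin m) F) (0 : Matrix (Fin m) (Fin m) F))
      (b i) (b j) := by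
    ext i j
    simp only [Matrix.of_apply]
    exact polar_quadFormPlus m (b i) (b j)
  rw [hG, hdet, isSquare_sq_mul_iff hd, det_hyp, Fintype.card_fin]
  obtain ⟨r, rfl⟩ := hq
  have e1 : m * (2 * r + 1 - 1) / 2 = m * r := by
    rw [Nat.add_sub_cancel, ← mul_assoc, mul_comm m 2, mul_assoc, Nat.mul_div_cancel_left _ (by norm_num)]
  rw [e1, Nat.even_mul]
  have hsq : IsSquare (-1 : F) ↔ Even r := by
    rw [FiniteField.isSquare_neg_one_iff, hF, Nat.even_iff]
    omega
  rcases Nat.even_or_odd m with hme | hmo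
  · rw [hme.neg_one_pow]
    exact ⟨fun _ => Or.inl hme, fun _ => ⟨1, by ring⟩⟩
  · rw [hmo.neg_one_pow, hsq]
    constructor
    · exact fun h => Or.inr h
    · rintro (h | h)
      · exact absurd h (Nat.not_even_iff_odd.mpr hmo)
      · exact h

end Cfsg.Agent.S2620
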