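import Cfsg.Statements.S2621
import Cfsg.Agent.Lib.Helper50.GramMinus

set_option autoImplicit false
open Cfsg

namespace Cfsg.Agent.S2621

open Cfsg.Agent.Lib.Helper50

/-- Discriminant of an elliptic quadratic form Σ_(i<m−1) x_i y_i + z₁² + a z₁z₂ + c z₂² (binary part anisotropic) in dimension 2m over a field with q elements, q odd, m ≥ 1: the determinant of the Gram matrix of its polar form in any basis is a square if and only if m(q − 1)/2 is odd (equivalently q^m ≡ 3 (mod 4)). -/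
theorem result {F : Type*} [Field F] [Fintype F] {q : ℕ} (hF : Fintype.card F = q) (hq : Odd q) {m : ℕ} (hm : 1 ≤ m) (a c : F) (hac : ∀ z₁ z₂ : F, z₁ ^ 2 + a * z₁ * z₂ + c * z₂ ^ 2 = 0 → z₁ = 0 ∧ z₂ = 0) {ι : Type*} [Fintype ι] [DecidableEq ι] (b : Module.Basis ι F ((Fin (m - 1) ⊕ Fin (m - 1)) ⊕ Fin 2 → F)) : IsSquare (Matrix.of (fun i j : ι => QuadraticMap.polar (Cfsg.quadFormMinus (m - 1) F a c) (b i) (b j))).det ↔ ¬ Even (m * (q - 1) / 2) := by
  classical
  obtain ⟨d, hd, hdet⟩ := gram_det_basis (Matrix.fromBlocks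
        (Matrix.fromBlocks (0 : Matrix (Fin (m - 1)) (Fin (m - 1)) F) (1 : Matrix (Fin (m - 1)) (Fin (m - 1)) F)
        (1 : Matrix (Fin (m - 1)) (Fin (m - 1)) F) (0 : Matrix (Fin (m - 1)) (Fin (m - 1)) F))
        (0 : Matrix (Fin (m - 1) ⊕ Fin (m - 1)) (Fin 2) F) (0 : Matrix (Fin 2) (Fin (m - 1) ⊕ Fin (m - 1)) F)
        (!![2, a; a, 2 * c] : Matrix (Fin 2) (Fin 2) F)) b
  have hG : (Matrix.of (fun i j : ι => QuadraticMap.polar (Cfsg.quadFormMinus (m - 1) F a c) (b i) (b j))) =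
      Matrix.of fun i j => Matrix.toBilin' (Matrix.fromBlocks
        (Matrix.fromBlocks (0 : Matrix (Fin (m - 1)) (Fin (m - 1)) F) (1 : Matrix (Fin (m - 1)) (Fin (m - 1)) F)
        (1 : Matrix (Fin (m - 1)) (Fin (m - 1)) F) (0 : Matrix (Fin (m - 1)) (Fin (m - 1)) F))
        (0 : Matrix (Fin (m - 1) ⊕ Fin (m - 1)) (Fin 2) F) (0 : Matrix (Fin 2) (Fin (m - 1) ⊕ Fin (m - 1)) F)
        (!![2, a; a, 2 * c] : Matrix (Fin 2) (Fin 2) F))
      (b i) (b j) := by
    ext i j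
    simp only [Matrix.of_apply]
    exact polar_quadFormMinus (m - 1) a c (b i) (b j)
  have h2 : (2 : F) ≠ 0 := by
    apply Ring.two_ne_zero
    intro h
    have := FiniteField.even_card_of_char_two h
    rw [hF] at this
    exact (Nat.not_even_iff_odd.mpr hq) (Nat.even_iff.mpr this)
  have hδ := disc_not_isSquare h2 a c hac
  have hx : ((-1 : F) ^ m) ≠ 0 := pow_ne_zero _ (neg_ne_zero.mpr one_ne_zero)
  rw [hG, hdet, isSquare_sq_mul_iff hd, det_minus_gram, Nat.sub_add_cancel hm,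
    isSquare_mul_nonsquare_iff hx hδ, isSquare_neg_one_pow_iff hF hq]

end Cfsg.Agent.S2621
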