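import Cfsg.Statements.S2622

set_option autoImplicit false
open Cfsg

namespace Cfsg.Agent.S2622

open Module

universe u v

/-- normalise a non-isotropic vector to norm one -/
lemma exists_unit_vector {F : Type u} {V : Type v} [Field F] [Finite F] [CharP F 2]
    [AddCommGroup V] [Module F V] (B : LinearMap.BilinForm F V) (hna : ∃ v : V, B v v ≠ 0) :
    ∃ v : V, B v v = 1 := by
  obtain ⟨v, hv⟩ := hna
  obtain ⟨s, hs⟩ := FiniteField.isSquare_of_char_two (ringChar.eq F 2) (B v v)⁻¹
  refine ⟨s • v, ?_⟩
  simp only [map_smul, LinearMap.smul_apply, smul_eq_mul]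
  rw [← mul_assoc, ← hs, inv_mul_cancel₀ hv]

/-- adjoin a unit vector to an orthonormal basis of its orthogonal complement -/
lemma extend_basis {F : Type u} {V : Type v} [Field F] [AddCommGroup V] [Module F V]
    (B : LinearMap.BilinForm F V) (hS : B.IsSymm) {n : ℕ} (x : V) (hx : B x x = 1)
    (bW : Basis (Fin n) F (B.orthogonal (F ∙ x)))
    (hbW : ∀ i j, B (bW i : V) (bW j : V) = if i = j then 1 else 0) :
    ∃ b : Basis (Fin (n + 1)) F V, ∀ i j, B (b i) (b j) = if i = j then 1 else 0 := by
  have hx0 : B x x ≠ 0 := by rw [hx]; exact one_ne_zero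
  let b := Basis.mkFinCons x bW
      (by
        rintro c y hy hc
        rw [add_eq_zero_iff_neg_eq] at hc
        rw [← hc, Submodule.neg_mem_iff] at hy
        have := (LinearMap.BilinForm.isCompl_span_singleton_orthogonal hx0).disjoint
        rw [Submodule.disjoint_def] at this
        have := this (c • x) (Submodule.smul_mem _ _ <| Submodule.mem_span_singleton_self _) hy
        exact (smul_eq_zero.1 this).resolve_right fun h => hx0 <| h.symm ▸ map_zero _)
      (by
        intro y
        refine ⟨-B x y / B x x, fun z hz => ?_⟩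
        obtain ⟨c, rfl⟩ := Submodule.mem_span_singleton.1 hz
        rw [map_smul, LinearMap.smul_apply, map_add, map_smul, smul_eq_mul, smul_eq_mul,
          div_mul_cancel₀ _ hx0, add_neg_cancel, mul_zero])
  refine ⟨b, ?_⟩
  have hb : (b : Fin (n + 1) → V) = Fin.cons x ((↑) ∘ bW) := Basis.coe_mkFinCons _ _ _ _
  intro i j
  rw [hb]
  refine Fin.cases ?_ (fun i => ?_) i <;> refine Fin.cases ?_ (fun j => ?_) j <;>
    simp only [Fin.cons_zero, Fin.cons_succ, Function.comp_apply]
  · simp [hx]
  · rw [if_neg (Fin.succ_ne_zero j).symm]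
    exact (bW j).prop _ (Submodule.mem_span_singleton_self x)
  · rw [if_neg (Fin.succ_ne_zero i), ← hS.eq]
    exact (bW i).prop _ (Submodule.mem_span_singleton_self x)
  · rw [hbW]
    simp [Fin.succ_inj]

/-- choose a unit vector whose orthogonal complement is again non-alternating -/
lemma exists_good_vector {F : Type u} {V : Type v} [Field F] [Finite F] [CharP F 2]
    [AddCommGroup V] [Module F V] [FiniteDimensional F V] {n : ℕ}
    (hV : Module.finrank F V = n + 1) (B : LinearMap.BilinForm F V) (hS : B.IsSymm)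
    (hB : B.Nondegenerate) (hna : ∃ v : V, B v v ≠ 0) :
    ∃ v : V, B v v = 1 ∧ (n = 0 ∨ ∃ w ∈ B.orthogonal (F ∙ v), B w w ≠ 0) := by
  obtain ⟨v₁, hv₁⟩ := exists_unit_vector B hna
  have hv₁0 : B v₁ v₁ ≠ 0 := by rw [hv₁]; exact one_ne_zero
  by_cases hn : n = 0
  · exact ⟨v₁, hv₁, Or.inl hn⟩
  by_cases halt : ∃ w ∈ B.orthogonal (F ∙ v₁), B w w ≠ 0
  · exact ⟨v₁, hv₁, Or.inr halt⟩
  push Not at halt
  set W := B.orthogonal (F ∙ v₁) with hW
  have hWrank : Module.finrank F W = n := by
    have h : Module.finrank F (F ∙ v₁) + Module.finrank F W = Module.finrank F V :=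
      Submodule.finrank_add_eq_of_isCompl (LinearMap.BilinForm.isCompl_span_singleton_orthogonal hv₁0)
    rw [finrank_span_singleton (ne_zero_of_map hv₁0), hV] at h
    omega
  have hWnd : (B.restrict W).Nondegenerate :=
    LinearMap.BilinForm.restrict_nondegenerate_orthogonal_spanSingleton B hB hS.isRefl hv₁0
  -- a nonzero vector of W
  have hWnt : Nontrivial W := by
    apply Module.nontrivial_of_finrank_pos (R := F)
    omega
  obtain ⟨e, he⟩ := exists_ne (0 : W)
  -- a partner
  have hex : ∃ f' : W, B.restrict W e f' ≠ 0 := by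
    by_contra hcon
    push Not at hcon
    exact he (hWnd.1 e hcon)
  obtain ⟨f', hf'⟩ := hex
  simp only [LinearMap.BilinForm.restrict_apply, LinearMap.domRestrict_apply] at hf'
  set f : V := (B (e : V) (f' : V))⁻¹ • (f' : V) with hf
  have hfW : f ∈ W := W.smul_mem _ f'.2
  have hef : B (e : V) f = 1 := by
    rw [hf, map_smul, smul_eq_mul, inv_mul_cancel₀ hf']
  have hv₁e : B v₁ (e : V) = 0 := e.2 _ (Submodule.mem_span_singleton_self v₁)
  have hev₁ : B (e : V) v₁ = 0 := by rw [← hS.eq]; exact hv₁e
  have hv₁f : B v₁ f = 0 := hfW _ (Submodule.mem_span_singleton_self v₁)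
  have hfv₁ : B f v₁ = 0 := by rw [← hS.eq]; exact hv₁f
  have hee : B (e : V) (e : V) = 0 := halt _ e.2
  have hff : B f f = 0 := halt _ hfW
  have h2 : (1 : F) + 1 = 0 := CharTwo.add_self_eq_zero 1
  refine ⟨v₁ + e, ?_, Or.inr ⟨v₁ + f, ?_, ?_⟩⟩
  · simp only [map_add, LinearMap.add_apply, hv₁, hv₁e, hev₁, hee]
    ring
  · rw [LinearMap.BilinForm.mem_orthogonal_iff]
    intro y hy
    obtain ⟨c, rfl⟩ := Submodule.mem_span_singleton.1 hy
    simp only [map_add, map_smul, LinearMap.add_apply, LinearMap.smul_apply, smul_eq_mul, hv₁, hv₁f,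
      hev₁, hef]
    linear_combination c * h2
  · simp only [map_add, LinearMap.add_apply, hv₁, hv₁f, hfv₁, hff]
    simp

lemma key {F : Type u} [Field F] [Finite F] [CharP F 2] (n : ℕ) :
    ∀ {V : Type v} [AddCommGroup V] [Module F V] [FiniteDimensional F V]
      (_ : Module.finrank F V = n) (B : LinearMap.BilinForm F V) (_ : B.IsSymm)
      (_ : B.Nondegenerate) (_ : ∃ v : V, B v v ≠ 0),
      ∃ b : Module.Basis (Fin n) F V, ∀ i j, B (b i) (b j) = if i = j then 1 else 0 := by
  induction n with
  | zero =>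
    intro V _ _ _ hV B _ _ hna
    exfalso
    obtain ⟨v, hv⟩ := hna
    have : Subsingleton V := Module.finrank_zero_iff.mp hV
    rw [Subsingleton.elim v 0] at hv
    simp at hv
  | succ n ih =>
    intro V _ _ _ hV B hS hB hna
    obtain ⟨x, hx, hgood⟩ := exists_good_vector hV B hS hB hna
    have hx0 : B x x ≠ 0 := by rw [hx]; exact one_ne_zero
    set W := B.orthogonal (F ∙ x) with hW
    have hWrank : Module.finrank F W = n := by
      have h : Module.finrank F (F ∙ x) + Module.finrank F W = Module.finrank F V :=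
        Submodule.finrank_add_eq_of_isCompl (LinearMap.BilinForm.isCompl_span_singleton_orthogonal hx0)
      rw [finrank_span_singleton (ne_zero_of_map hx0), hV] at h
      omega
    have hWnd : (B.restrict W).Nondegenerate :=
      LinearMap.BilinForm.restrict_nondegenerate_orthogonal_spanSingleton B hB hS.isRefl hx0
    have hbW : ∃ bW : Basis (Fin n) F W,
        ∀ i j, B (bW i : V) (bW j : V) = if i = j then 1 else 0 := by
      rcases hgood with hn | ⟨w, hwW, hww⟩
      · subst hn
        exact ⟨Module.finBasisOfFinrankEq F W hWrank, fun i => i.elim0⟩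
      · obtain ⟨bW, hbW⟩ := ih hWrank (B.restrict W) (hS.restrict W) hWnd ⟨⟨w, hwW⟩, hww⟩
        exact ⟨bW, hbW⟩
    obtain ⟨bW, hbW⟩ := hbW
    exact extend_basis B hS x hx bW hbW

/-- Over a finite field of characteristic two, a non-degenerate symmetric bilinear form that is not alternating (some vector v has B(v, v) ≠ 0) admits an orthonormal basis. -/
theorem result {F V : Type*} [Field F] [Finite F] [CharP F 2] [AddCommGroup V] [Module F V] [FiniteDimensional F V] {n : ℕ} (hV : Module.finrank F V = n) (B : LinearMap.BilinForm F V) (hS : B.IsSymm) (hB : B.Nondegenerate) (hna : ∃ v : V, B v v ≠ 0) : ∃ b : Module.Basis (Fin n) F V, ∀ i j, B (b i) (b j) = if i = j then 1 else 0 := by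
  exact key n hV B hS hB hna

end Cfsg.Agent.S2622
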