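import Cfsg.Statements.S2623
import Cfsg.Agent.Lib.Helper50.IsometryDisc

set_option autoImplicit false
open Cfsg

namespace Cfsg.Agent.S2623

open Cfsg.Agent.Lib.Helper50 QuadraticMap

/-- Over a finite field of odd order, two quadratic forms on F^n with non-degenerate polar forms are isometric (related by an invertible linear change of variables) if and only if their discriminants (determinants of the Gram matrices of their polar forms) lie in the same square class. -/
theorem result {F : Type*} [Field F] [Fintype F] (h2 : (2 : F) ≠ 0) {n : ℕ} (Q₁ Q₂ : QuadraticForm F (Fin n → F)) (h₁ : (QuadraticMap.polarBilin Q₁).Nondegenerate) (h₂ : (QuadraticMap.polarBilin Q₂).Nondegenerate) : (∃ g : (Fin n → F) ≃ₗ[F] (Fin n → F), ∀ v, Q₂ (g v) = Q₁ v) ↔ IsSquare ((Matrix.of (fun i j : Fin n => QuadraticMap.polar ⇑Q₁ (Pi.single i 1) (Pi.single j 1))).det * (Matrix.of (fun i j : Fin n => QuadraticMap.polar ⇑Q₂ (Pi.single i 1) (Pi.single j 1))).det) := by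
  classical
  constructor
  · rintro ⟨g, hg⟩
    -- Gram matrices
    have hM : ∀ Q : QuadraticForm F (Fin n → F),
        (Matrix.of (fun i j : Fin n => QuadraticMap.polar ⇑Q (Pi.single i 1) (Pi.single j 1))) =
          LinearMap.BilinForm.toMatrix' (QuadraticMap.polarBilin Q) := by
      intro Q
      ext i j
      simp [LinearMap.BilinForm.toMatrix'_apply]
    rw [hM Q₁, hM Q₂]
    set G := LinearMap.toMatrix' (g : (Fin n → F) →ₗ[F] (Fin n → F)) with hG
    have hcomp : LinearMap.BilinForm.comp (QuadraticMap.polarBilin Q₂)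
        (g : (Fin n → F) →ₗ[F] (Fin n → F))
        (g : (Fin n → F) →ₗ[F] (Fin n → F)) = QuadraticMap.polarBilin Q₁ := by
      refine LinearMap.ext₂ fun u v => ?_
      simp only [LinearMap.BilinForm.comp_apply, LinearEquiv.coe_coe,
        QuadraticMap.polarBilin_apply_apply, QuadraticMap.polar]
      rw [← map_add, hg, hg, hg]
    have hmat : G.transpose * LinearMap.BilinForm.toMatrix' (QuadraticMap.polarBilin Q₂) * G =
        LinearMap.BilinForm.toMatrix' (QuadraticMap.polarBilin Q₁) := by
      rw [hG, ← LinearMap.BilinForm.toMatrix'_comp, hcomp]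
    rw [← hmat, Matrix.det_mul, Matrix.det_mul, Matrix.det_transpose]
    exact ⟨G.det * (LinearMap.BilinForm.toMatrix' (QuadraticMap.polarBilin Q₂)).det, by ring⟩
  · intro hsq
    exact isometric_of_disc h2 Q₁ Q₂ (QND_of_nondegenerate Q₁ h₁) (QND_of_nondegenerate Q₂ h₂) hsq

end Cfsg.Agent.S2623
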