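import Cfsg.Statements.S2626

set_option autoImplicit false
open Cfsg

namespace Cfsg.Agent.S2626

/-- Block diagonal embedding of pairs of matrices, as a monoid hom. -/
def blockHom (F : Type*) [Field F] (k l : ℕ) :
    Matrix (Fin k) (Fin k) F × Matrix (Fin l) (Fin l) F →* Matrix (Fin k ⊕ Fin l) (Fin k ⊕ Fin l) F where
  toFun p := Matrix.fromBlocks p.1 0 0 p.2
  map_one' := by simp [Matrix.fromBlocks_one]
  map_mul' p q := by simp [Matrix.fromBlocks_multiply]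

/-- Block diagonal embedding of pairs of invertible matrices. -/
def blockGL (F : Type*) [Field F] (k l : ℕ) :
    Matrix.GeneralLinearGroup (Fin k) F × Matrix.GeneralLinearGroup (Fin l) F →*
      Matrix.GeneralLinearGroup (Fin k ⊕ Fin l) F :=
  (Units.map (blockHom F k l)).comp MulEquiv.prodUnits.symm.toMonoidHom

lemma blockGL_coe {F : Type*} [Field F] {k l : ℕ}
    (p : Matrix.GeneralLinearGroup (Fin k) F × Matrix.GeneralLinearGroup (Fin l) F) :
    ((blockGL F k l p : Matrix.GeneralLinearGroup (Fin k ⊕ Fin l) F) :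
      Matrix (Fin k ⊕ Fin l) (Fin k ⊕ Fin l) F) =
      Matrix.fromBlocks (p.1 : Matrix (Fin k) (Fin k) F) 0 0 (p.2 : Matrix (Fin l) (Fin l) F) := rfl

lemma map_mem_commutator {G H : Type*} [Group G] [Group H] (f : G →* H) {x : G}
    (hx : x ∈ commutator G) : f x ∈ commutator H := by
  rw [commutator_def] at hx ⊢
  have h : Subgroup.map f ⁅(⊤ : Subgroup G), ⊤⁆ ≤ ⁅(⊤ : Subgroup H), ⊤⁆ := by
    rw [Subgroup.map_commutator]
    exact Subgroup.commutator_mono le_top le_top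
  exact h (Subgroup.mem_map_of_mem f hx)

/-- Ω of an orthogonal direct sum contains the product of the Ω's: for quadratic forms Q₁ on F^k and Q₂ on F^l with non-degenerate polar forms (F finite) and Q = Q₁ ⊕ Q₂ on F^(k+l), if g₁ lies in Ω(Q₁) and g₂ in Ω(Q₂) (commutator subgroups of the orthogonal groups) then the block-diagonal isometry diag(g₁, g₂) lies in Ω(Q). -/
theorem result {F : Type*} [Field F] [Fintype F] {k l : ℕ} (Q₁ : QuadraticForm F (Fin k → F)) (Q₂ : QuadraticForm F (Fin l → F)) (h₁ : (QuadraticMap.polarBilin Q₁).Nondegenerate) (h₂ : (QuadraticMap.polarBilin Q₂).Nondegenerate) (g₁ : ↥(Cfsg.isometryGroup F ⇑Q₁)) (g₂ : ↥(Cfsg.isometryGroup F ⇑Q₂)) (hg₁ : g₁ ∈ Cfsg.Omega F ⇑Q₁) (hg₂ : g₂ ∈ Cfsg.Omega F ⇑Q₂) : ∃ g : ↥(Cfsg.isometryGroup F (fun v : Fin k ⊕ Fin l → F => Q₁ (v ∘ Sum.inl) + Q₂ (v ∘ Sum.inr))), g ∈ Cfsg.Omega F (fun v : Fin k ⊕ Fin l → F => Q₁ (v ∘ Sum.inl) + Q₂ (v ∘ Sum.inr)) ∧ ((g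 : Matrix.GeneralLinearGroup (Fin k ⊕ Fin l) F) : Matrix (Fin k ⊕ Fin l) (Fin k ⊕ Fin l) F) = Matrix.fromBlocks ((g₁ : Matrix.GeneralLinearGroup (Fin k) F) : Matrix (Fin k) (Fin k) F) 0 0 ((g₂ : Matrix.GeneralLinearGroup (Fin l) F) : Matrix (Fin l) (Fin l) F) := by
  classical
  set Q : (Fin k ⊕ Fin l → F) → F := fun v => Q₁ (v ∘ Sum.inl) + Q₂ (v ∘ Sum.inr) with hQ
  -- the block hom on isometry groups
  have hmem : ∀ p : ↥(Cfsg.isometryGroup F ⇑Q₁) × ↥(Cfsg.isometryGroup F ⇑Q₂),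
      ((blockGL F k l).comp (MonoidHom.prodMap (Cfsg.isometryGroup F ⇑Q₁).subtype
        (Cfsg.isometryGroup F ⇑Q₂).subtype)) p ∈ Cfsg.isometryGroup F Q := by
    rintro ⟨a, b⟩
    intro u v
    have ha := a.2 (u ∘ Sum.inl) (u ∘ Sum.inl)
    have hb := b.2 (u ∘ Sum.inr) (u ∘ Sum.inr)
    simp only [Units.coeHom_apply] at ha hb
    simp only [MonoidHom.coe_comp, Function.comp_apply, MonoidHom.coe_prodMap, Prod.map_apply, Subgroup.coe_subtype,
      Units.coeHom_apply, blockGL_coe, Matrix.fromBlocks_mulVec, Matrix.zero_mulVec, add_zero, zero_add, hQ]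
    have e1 : (Sum.elim ((a : Matrix.GeneralLinearGroup (Fin k) F).1.mulVec (u ∘ Sum.inl))
        ((b : Matrix.GeneralLinearGroup (Fin l) F).1.mulVec (u ∘ Sum.inr))) ∘ Sum.inl =
        (a : Matrix.GeneralLinearGroup (Fin k) F).1.mulVec (u ∘ Sum.inl) := by
      ext i; simp
    have e2 : (Sum.elim ((a : Matrix.GeneralLinearGroup (Fin k) F).1.mulVec (u ∘ Sum.inl))
        ((b : Matrix.GeneralLinearGroup (Fin l) F).1.mulVec (u ∘ Sum.inr))) ∘ Sum.inr =
        (b : Matrix.GeneralLinearGroup (Fin l) F).1.mulVec (u ∘ Sum.inr) := by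
      ext i; simp
    rw [e1, e2, ha, hb]
  let Φ : ↥(Cfsg.isometryGroup F ⇑Q₁) × ↥(Cfsg.isometryGroup F ⇑Q₂) →* ↥(Cfsg.isometryGroup F Q) :=
    ((blockGL F k l).comp (MonoidHom.prodMap (Cfsg.isometryGroup F ⇑Q₁).subtype
        (Cfsg.isometryGroup F ⇑Q₂).subtype)).codRestrict (Cfsg.isometryGroup F Q) hmem
  refine ⟨Φ (g₁, g₂), ?_, rfl⟩
  have hsplit : Φ (g₁, g₂) = (Φ.comp (MonoidHom.inl _ _)) g₁ * (Φ.comp (MonoidHom.inr _ _)) g₂ := by
    simp only [MonoidHom.coe_comp, Function.comp_apply, MonoidHom.inl_apply, MonoidHom.inr_apply,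
      ← map_mul, Prod.mk_mul_mk, mul_one, one_mul]
  rw [hsplit]
  exact Subgroup.mul_mem _ (map_mem_commutator _ hg₁) (map_mem_commutator _ hg₂)

end Cfsg.Agent.S2626
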