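import Cfsg.Statements.S2627
import Cfsg.Agent.Lib.Helper50.SumForm

set_option autoImplicit false
open Cfsg

namespace Cfsg.Agent.S2627

/-- For an orthogonal direct sum Q = Q₁ ⊕ Q₂ of quadratic forms with non-degenerate polar forms over a finite field, an isometry g₁ of Q₁ extended by the identity on the second summand lies in Ω(Q) (the commutator subgroup of the orthogonal group of Q) if and only if g₁ lies in Ω(Q₁). (Excluded: the field of two elements when the first summand or the whole space has dimension 4, where the commutator subgroup of O⁺₄(2) is smaller than the group usually called Ω.) -/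
theorem result {F : Type*} [Field F] [Fintype F] {k l : ℕ} (h : Fintype.card F ≠ 2 ∨ (k ≠ 4 ∧ k + l ≠ 4)) (Q₁ : QuadraticForm F (Fin k → F)) (Q₂ : QuadraticForm F (Fin l → F)) (h₁ : (QuadraticMap.polarBilin Q₁).Nondegenerate) (h₂ : (QuadraticMap.polarBilin Q₂).Nondegenerate) (g₁ : ↥(Cfsg.isometryGroup F ⇑Q₁)) : (∃ g : ↥(Cfsg.isometryGroup F (fun v : Fin k ⊕ Fin l → F => Q₁ (v ∘ Sum.inl) + Q₂ (v ∘ Sum.inr))), g ∈ Cfsg.Omega F (fun v : Fin k ⊕ Fin l → F => Q₁ (v ∘ Sum.inl) + Q₂ (v ∘ Sum.inr)) ∧ ((g : Matrix.GeneralLinearGroup (Fin k ⊕ Fin l) F) : Matrix (Fin k ⊕ Fin l) (Fin k ⊕ Fin l) F) = Matrix.fromBlocks ((g₁ : Matrix.GeneralLinearGroup (Fin k) F) : Matrix (Fin k) (Fin k) F) 0 0 1) ↔ g₁ ∈ Cfsg.Omega F ⇑Q₁ := by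
  set Qs := Cfsg.Agent.Lib.Helper50.sumForm Q₁ Q₂ with hQs
  have hQscoe : (⇑Qs : (Fin k ⊕ Fin l → F) → F) =
      (fun v : Fin k ⊕ Fin l → F => Q₁ (v ∘ Sum.inl) + Q₂ (v ∘ Sum.inr)) := rfl
  rw [← hQscoe]
  have hnd := Cfsg.Agent.Lib.Helper50.sumForm_nondegenerate Q₁ Q₂ h₁ h₂
  have h24₁ : Fintype.card F ≠ 2 ∨ Fintype.card (Fin k) ≠ 4 := by
    rw [Fintype.card_fin]
    rcases h with h | h
    · exact Or.inl h
    · exact Or.inr h.1
  have h24s : Fintype.card F ≠ 2 ∨ Fintype.card (Fin k ⊕ Fin l) ≠ 4 := by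
    rw [Fintype.card_sum, Fintype.card_fin, Fintype.card_fin]
    rcases h with h | h
    · exact Or.inl h
    · exact Or.inr h.2
  obtain ⟨vs, hvs, hg₁⟩ := Cfsg.Agent.Lib.Helper43.exists_list_reflO Q₁
    (Cfsg.Agent.Lib.Helper43.reflGenerated_finite Q₁ h₁ h24₁) g₁
  have hg₁m : ((g₁ : Matrix.GeneralLinearGroup (Fin k) F) : Matrix (Fin k) (Fin k) F) =
      (vs.map (fun v => Cfsg.reflectionMatrix (⇑Q₁) v)).prod := by
    rw [hg₁, Cfsg.Agent.Lib.Helper43.val_prod_reflO Q₁ vs hvs]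
  set vs' : List (Fin k ⊕ Fin l → F) :=
    vs.map (fun v : Fin k → F => (Sum.elim v 0 : Fin k ⊕ Fin l → F)) with hvs'def
  have hvs' : ∀ v ∈ vs', Qs v ≠ 0 := by
    intro v hv
    rw [hvs'def, List.mem_map] at hv
    obtain ⟨w, hw, rfl⟩ := hv
    rw [hQs, Cfsg.Agent.Lib.Helper50.sumForm_apply]
    have e1 : (Sum.elim w (0 : Fin l → F)) ∘ Sum.inl = w := rfl
    have e2 : (Sum.elim w (0 : Fin l → F)) ∘ Sum.inr = 0 := rfl
    rw [e1, e2, map_zero, add_zero]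
    exact hvs w hw
  have hprod : (vs'.map (fun v => Cfsg.reflectionMatrix (⇑Qs) v)).prod =
      Matrix.fromBlocks ((g₁ : Matrix.GeneralLinearGroup (Fin k) F) : Matrix (Fin k) (Fin k) F)
        0 0 1 := by
    rw [hvs'def, hQs, Cfsg.Agent.Lib.Helper50.prod_reflectionMatrix_sum_inl, hg₁m]
  have hlen : vs'.length = vs.length := by rw [hvs'def, List.length_map]
  have hnorm : (vs'.map (fun v => Qs v)).prod = (vs.map (fun v => Q₁ v)).prod := by
    rw [hvs'def, List.map_map]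
    congr 1
    apply List.map_congr_left
    intro w _
    change Qs (Sum.elim w 0) = Q₁ w
    rw [hQs, Cfsg.Agent.Lib.Helper50.sumForm_apply]
    have e1 : (Sum.elim w (0 : Fin l → F)) ∘ Sum.inl = w := rfl
    have e2 : (Sum.elim w (0 : Fin l → F)) ∘ Sum.inr = 0 := rfl
    rw [e1, e2, map_zero, add_zero]
  have hcrit₁ := Cfsg.Agent.Lib.Helper50.omega_criterion Q₁ h₁ h24₁ g₁ vs hvs hg₁m
  constructor
  · rintro ⟨g, hgΩ, hgm⟩
    have hcrit := Cfsg.Agent.Lib.Helper50.omega_criterion Qs hnd h24s g vs' hvs'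
      (by rw [hgm, hprod])
    rw [hcrit₁]
    rw [hcrit, hlen, hnorm] at hgΩ
    exact hgΩ
  · intro hg₁Ω
    refine ⟨(vs'.map (Cfsg.Agent.Lib.Helper50.reflO Qs)).prod, ?_, ?_⟩
    · rw [Cfsg.Agent.Lib.Helper50.omega_criterion Qs hnd h24s _ vs' hvs'
        (Cfsg.Agent.Lib.Helper50.reflO_prod_val Qs vs' hvs'), hlen, hnorm]
      exact hcrit₁.mp hg₁Ω
    · rw [Cfsg.Agent.Lib.Helper50.reflO_prod_val Qs vs' hvs', hprod]

end Cfsg.Agent.S2627
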