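import Cfsg.Statements.S2631
import Cfsg.Agent.Lib.Helper50.OmegaTransitive

set_option autoImplicit false
open Cfsg

namespace Cfsg.Agent.S2631

/-- For the hyperbolic form Σ x_i y_i on F^(2m) over a finite field (m ≥ 1, excluding m = 2 over the field of two elements), Ω (the commutator subgroup of the orthogonal group) acts transitively on each of the two classes of maximal totally singular subspaces: if U and W are m-dimensional totally singular subspaces with m − dim(U ∩ W) even, some element of Ω carries U to W. -/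
theorem result {F : Type*} [Field F] [Fintype F] {m : ℕ} (hm : 1 ≤ m) (h : Fintype.card F ≠ 2 ∨ m ≠ 2) (U W : Submodule F (Fin m ⊕ Fin m → F)) (hU : Module.finrank F U = m) (hW : Module.finrank F W = m) (hU0 : ∀ u ∈ U, Cfsg.quadFormPlus m F u = 0) (hW0 : ∀ w ∈ W, Cfsg.quadFormPlus m F w = 0) (he : Even (m - Module.finrank F ↥(U ⊓ W))) : ∃ g : ↥(Cfsg.isometryGroup F (Cfsg.quadFormPlus m F)), g ∈ Cfsg.Omega F (Cfsg.quadFormPlus m F) ∧ U.map (Matrix.mulVecLin ((g : Matrix.GeneralLinearGroup (Fin m ⊕ Fin m) F) : Matrix (Fin m ⊕ Fin m) (Fin m ⊕ Fin m) F)) = W := by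
  have hQcoe : (⇑(Cfsg.Agent.Lib.Helper50.QPlus m F) : (Fin m ⊕ Fin m → F) → F) =
      Cfsg.quadFormPlus m F := rfl
  rw [← hQcoe]
  rw [← hQcoe] at hU0 hW0
  set Q := Cfsg.Agent.Lib.Helper50.QPlus m F with hQdef
  have hnd : (QuadraticMap.polarBilin Q).Nondegenerate :=
    Cfsg.Agent.Lib.Helper50.QPlus_nondegenerate
  have h24 : Fintype.card F ≠ 2 ∨ Fintype.card (Fin m ⊕ Fin m) ≠ 4 := by
    rcases h with h | h
    · exact Or.inl h
    · right
      rw [Fintype.card_sum, Fintype.card_fin]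
      omega
  have hcard : Fintype.card (Fin m ⊕ Fin m) = 2 * m := by
    rw [Fintype.card_sum, Fintype.card_fin]; ring
  -- move the standard subspace to U and to W
  obtain ⟨τU, hτU⟩ := Cfsg.Agent.Lib.Helper50.exists_O_map_singular Q hnd
    (Cfsg.Agent.Lib.Helper50.kerInr F m) U
    (by rw [Cfsg.Agent.Lib.Helper50.finrank_kerInr, hU])
    Cfsg.Agent.Lib.Helper50.kerInr_singular hU0
  obtain ⟨τW, hτW⟩ := Cfsg.Agent.Lib.Helper50.exists_O_map_singular Q hnd
    (Cfsg.Agent.Lib.Helper50.kerInr F m) W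
    (by rw [Cfsg.Agent.Lib.Helper50.finrank_kerInr, hW])
    Cfsg.Agent.Lib.Helper50.kerInr_singular hW0
  have hτU' := Cfsg.Agent.Lib.Helper50.omap_inv (⇑Q) τU _ _ hτU
  set σ := τW * τU⁻¹ with hσ
  have hσU : Cfsg.Agent.Lib.Helper50.omap (⇑Q) σ U = W := by
    rw [hσ, Cfsg.Agent.Lib.Helper50.omap_mul, hτU', hτW]
  obtain ⟨l, hl, hσl⟩ := Cfsg.Agent.Lib.Helper43.exists_list_reflO Q
    (Cfsg.Agent.Lib.Helper43.reflGenerated_finite Q hnd h24) σ
  have hσm : ((σ : Matrix.GeneralLinearGroup (Fin m ⊕ Fin m) F) :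
      Matrix (Fin m ⊕ Fin m) (Fin m ⊕ Fin m) F) =
      (l.map (fun v => Cfsg.reflectionMatrix (⇑Q) v)).prod := by
    rw [hσl, Cfsg.Agent.Lib.Helper43.val_prod_reflO Q l hl]
  have hpar := Cfsg.Agent.Lib.Helper50.class_parity_iff Q hnd m hcard U hU0 hU σ l hl hσm
  rw [hσU] at hpar
  have hlen : Even l.length := hpar.mp he
  have hcrit := Cfsg.Agent.Lib.Helper50.omega_criterion Q hnd h24 σ l hl hσm
  by_cases h2 : (2 : F) = 0
  · exact ⟨σ, hcrit.mpr ⟨hlen, fun h' => absurd h2 h'⟩, hσU⟩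
  · obtain ⟨ζ, hζ⟩ := Cfsg.Agent.Lib.Helper50.exists_nonsquare_of_two_ne_zero h2
    have hζ0 : ζ ≠ 0 := fun h => hζ (h ▸ ⟨0, by ring⟩)
    obtain ⟨A, hA⟩ := Cfsg.Agent.Lib.Helper50.exists_GL_det hm ζ hζ0
    set d₀ := Cfsg.Agent.Lib.Helper50.diagPlusO A with hd₀
    have hd₀θ : Cfsg.Agent.Lib.Helper50.theta (⇑Q) ζ d₀ = -1 := by
      rcases Int.units_eq_one_or (Cfsg.Agent.Lib.Helper50.theta (⇑Q) ζ d₀) with h1 | h1
      · exact absurd ((Cfsg.Agent.Lib.Helper50.theta_diagPlusO h2 ζ hζ A).mp h1) (by rw [hA]; exact hζ)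
      · exact h1
    set d := τU * d₀ * τU⁻¹ with hd
    have hdet_d : Cfsg.Agent.Lib.Helper50.detHom (⇑Q) d = 1 := by
      rw [hd, map_mul, map_mul, map_inv, Cfsg.Agent.Lib.Helper50.detHom_diagPlusO, mul_one,
        mul_inv_cancel]
    have hθ_d : Cfsg.Agent.Lib.Helper50.theta (⇑Q) ζ d = -1 := by
      rw [hd, map_mul, map_mul, map_inv, hd₀θ, mul_comm, ← mul_assoc, inv_mul_cancel, one_mul]
    have hdU : Cfsg.Agent.Lib.Helper50.omap (⇑Q) d U = U := by
      rw [hd, Cfsg.Agent.Lib.Helper50.omap_mul, Cfsg.Agent.Lib.Helper50.omap_mul, hτU',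
        Cfsg.Agent.Lib.Helper50.omap_diagPlusO, hτU]
    have hdetσ : Cfsg.Agent.Lib.Helper50.detHom (⇑Q) σ = 1 := by
      apply Units.ext
      rw [Cfsg.Agent.Lib.Helper50.detHom_val, hσm,
        Cfsg.Agent.Lib.Helper50.det_prod_reflection Q l hl, hlen.neg_one_pow, Units.val_one]
    rcases Cfsg.Agent.Lib.Helper50.exists_adjust_odd_det_one h2 Q hnd ζ hζ σ d hdetσ hdet_d hθ_d
      with h' | h'
    · exact ⟨σ, h', hσU⟩
    · refine ⟨σ * d, h', ?_⟩
      change Cfsg.Agent.Lib.Helper50.omap (⇑Q) (σ * d) U = W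
      rw [Cfsg.Agent.Lib.Helper50.omap_mul, hdU, hσU]

end Cfsg.Agent.S2631
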