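import Cfsg.Statements.S2634
import Cfsg.Agent.Lib.Helper50.OmegaAdjust
import Cfsg.Agent.Lib.Helper43.WittQuad

set_option autoImplicit false
open Cfsg

namespace Cfsg.Agent.S2634

/-- Over a finite field of characteristic two, Ω (the commutator subgroup of the orthogonal group of a quadratic form Q on F^n with non-degenerate polar form; excluding dimension 4 over the field of two elements) acts transitively on the non-singular 1-spaces: for u, v with Q(u) ≠ 0 and Q(v) ≠ 0 some element of Ω carries the line through u to the line through v. -/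
theorem result {F : Type*} [Field F] [Fintype F] [CharP F 2] {n : ℕ} (h : Fintype.card F ≠ 2 ∨ n ≠ 4) (Q : QuadraticForm F (Fin n → F)) (hQ : (QuadraticMap.polarBilin Q).Nondegenerate) (u v : Fin n → F) (hu : Q u ≠ 0) (hv : Q v ≠ 0) : ∃ g : ↥(Cfsg.isometryGroup F ⇑Q), g ∈ Cfsg.Omega F ⇑Q ∧ (F ∙ ((g : Matrix.GeneralLinearGroup (Fin n) F) : Matrix (Fin n) (Fin n) F).mulVec u) = F ∙ v := by
  have h24 : Fintype.card F ≠ 2 ∨ Fintype.card (Fin n) ≠ 4 := by rwa [Fintype.card_fin]
  obtain ⟨c, hc⟩ : ∃ c : F, c * c = Q u * (Q v)⁻¹ := by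
    have hsurj : Function.Surjective (frobenius F 2) :=
      (Finite.injective_iff_surjective.1 (frobenius_inj F 2))
    obtain ⟨c, hc⟩ := hsurj (Q u * (Q v)⁻¹)
    refine ⟨c, ?_⟩
    rw [← hc, frobenius_def, pow_two]
  have hc0 : c ≠ 0 := by
    rintro rfl
    rw [zero_mul] at hc
    exact mul_ne_zero hu (inv_ne_zero hv) hc.symm
  have hQcv : Q (c • v) = Q u := by
    rw [QuadraticMap.map_smul, hc, smul_eq_mul]
    field_simp
  have hu0 : u ≠ 0 := by
    rintro rfl
    exact hu (map_zero Q)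
  have hcv0 : c • v ≠ 0 := by
    intro h
    rw [h, map_zero] at hQcv
    exact hu hQcv.symm
  obtain ⟨σ, hσ, -, hσu⟩ := Cfsg.Agent.Lib.Helper43.exists_isometry_fix_hyperplane Q hQ ⊥ u (c • v)
    (by simpa using hu0) (by simpa using hcv0) hQcv (by
      intro h hh
      rw [(Submodule.mem_bot F).1 hh]
      simp)
  obtain ⟨s, hs⟩ := Cfsg.Agent.Lib.Helper43.exists_ofLin Q hQ σ hσ
  have hsu : ((s : Matrix.GeneralLinearGroup (Fin n) F) : Matrix (Fin n) (Fin n) F).mulVec u
      = c • v := by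
    rw [← Cfsg.Agent.Lib.Helper43.linOf_apply, hs, hσu]
  have hspan : (F ∙ (c • v)) = F ∙ v :=
    Submodule.span_singleton_smul_eq (IsUnit.mk0 c hc0) v
  rcases Cfsg.Agent.Lib.Helper50.mem_or_mul_reflO_mem Q hQ h24 s u hu with h | h
  · exact ⟨s, h, by rw [hsu, hspan]⟩
  · refine ⟨s * Cfsg.Agent.Lib.Helper50.reflO Q u, h, ?_⟩
    have : ((s * Cfsg.Agent.Lib.Helper50.reflO Q u : ↥(Cfsg.isometryGroup F ⇑Q)) :
        Matrix.GeneralLinearGroup (Fin n) F).val.mulVec u = c • v := by
      rw [Subgroup.coe_mul, Units.val_mul, ← Matrix.mulVec_mulVec,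
        Cfsg.Agent.Lib.Helper50.reflO_val Q u hu, ← Matrix.toLin'_apply (Cfsg.reflectionMatrix _ _),
        Cfsg.Agent.Lib.Helper19.toLin'_reflectionMatrix, Cfsg.Agent.Lib.Helper19.reflLin_self Q u hu]
      have : -u = u := by
        have h1 : (-1 : F) = 1 := CharTwo.neg_eq 1
        calc -u = (-1 : F) • u := by simp
          _ = u := by rw [h1, one_smul]
      rw [this, hsu]
    rw [this, hspan]

end Cfsg.Agent.S2634
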