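import Cfsg.Statements.S2635
import Cfsg.Agent.Lib.Helper43.Dickson

set_option autoImplicit false
open Cfsg

namespace Cfsg.Agent.S2635

open Cfsg.Agent.Lib.Helper43 in
theorem prod_even_mem_closure {F : Type*} [Field F] {ι : Type} [Fintype ι] [DecidableEq ι]
    (Q : QuadraticForm F (ι → F)) (S : Subgroup ↥(Cfsg.isometryGroup F ⇑Q))
    (hS : ∀ a b : ι → F, Q a ≠ 0 → Q b ≠ 0 → reflO Q a * reflO Q b ∈ S) :
    ∀ (n : ℕ) (l : List (ι → F)), (∀ u ∈ l, Q u ≠ 0) → l.length = 2 * n →
      (l.map (reflO Q)).prod ∈ S := by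
  intro n
  induction n with
  | zero =>
    intro l _ hlen
    have : l = [] := List.length_eq_zero_iff.1 (by omega)
    subst this
    simp only [List.map_nil, List.prod_nil]
    exact Subgroup.one_mem _
  | succ n ih =>
    intro l hl hlen
    match l, hl, hlen with
    | [], _, hlen => simp at hlen
    | [a], _, hlen => simp at hlen; omega
    | a :: b :: t, hl, hlen =>
      have ha : Q a ≠ 0 := hl a (by simp)
      have hb : Q b ≠ 0 := hl b (by simp)
      have ht : ∀ u ∈ t, Q u ≠ 0 := fun u hu => hl u (by simp [hu])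
      have hlen' : t.length = 2 * n := by
        simp only [List.length_cons] at hlen
        omega
      rw [List.map_cons, List.map_cons, List.prod_cons, List.prod_cons, ← mul_assoc]
      exact Subgroup.mul_mem _ (hS a b ha hb) (ih t ht hlen')


/-- Over a finite field of characteristic two, for a quadratic form Q on F^n with non-degenerate polar form, n ≥ 2, other than dimension 4 over the field of two elements, Ω (the commutator subgroup of the orthogonal group) is exactly the subgroup generated by the products of two reflections (orthogonal transvections) x ↦ x − Q(v)⁻¹ f(x, v) v, Q(v) ≠ 0: the products of an even number of reflections. -/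
theorem result {F : Type*} [Field F] [Fintype F] [CharP F 2] {n : ℕ} (hn : 2 ≤ n) (h : Fintype.card F ≠ 2 ∨ n ≠ 4) (Q : QuadraticForm F (Fin n → F)) (hQ : (QuadraticMap.polarBilin Q).Nondegenerate) : Cfsg.Omega F ⇑Q = Subgroup.closure {g : ↥(Cfsg.isometryGroup F ⇑Q) | ∃ u v : Fin n → F, Q u ≠ 0 ∧ Q v ≠ 0 ∧ ((g : Matrix.GeneralLinearGroup (Fin n) F) : Matrix (Fin n) (Fin n) F) = Cfsg.reflectionMatrix ⇑Q u * Cfsg.reflectionMatrix ⇑Q v} := by
  have hgen := Cfsg.Agent.Lib.Helper43.reflGenerated_char_two Q hQ (by rwa [Fintype.card_fin])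
  apply le_antisymm
  · intro g hg
    have hk := Cfsg.Agent.Lib.Helper43.commutator_le_ker_dickson Q hQ hgen hg
    obtain ⟨l, hl, rfl⟩ := Cfsg.Agent.Lib.Helper43.exists_list_reflO Q hgen g
    rw [MonoidHom.mem_ker] at hk
    have h2 : Cfsg.Agent.Lib.Helper43.dickson Q hQ hgen
        ((l.map (Cfsg.Agent.Lib.Helper43.reflO Q)).prod) =
        Multiplicative.ofAdd ((l.length : ℕ) : ZMod 2) :=
      Cfsg.Agent.Lib.Helper43.dicksonFun_prod Q hQ l hl
    rw [h2, ← ofAdd_zero, Multiplicative.ofAdd.apply_eq_iff_eq,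
      ZMod.natCast_eq_zero_iff_even] at hk
    obtain ⟨k, hk⟩ := hk
    apply prod_even_mem_closure Q _ _ k l hl (by omega)
    intro a b ha hb
    apply Subgroup.subset_closure
    refine ⟨a, b, ha, hb, ?_⟩
    rw [Subgroup.coe_mul, Units.val_mul, Cfsg.Agent.Lib.Helper43.reflO_val Q a ha,
      Cfsg.Agent.Lib.Helper43.reflO_val Q b hb]
  · rw [Subgroup.closure_le]
    rintro g ⟨u, v, hu, hv, hg⟩
    have : g = Cfsg.Agent.Lib.Helper43.reflO Q u * Cfsg.Agent.Lib.Helper43.reflO Q v := by
      apply Subtype.ext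
      apply Units.ext
      rw [hg, Subgroup.coe_mul, Units.val_mul, Cfsg.Agent.Lib.Helper43.reflO_val Q u hu,
        Cfsg.Agent.Lib.Helper43.reflO_val Q v hv]
    rw [this]
    exact Cfsg.Agent.Lib.Helper43.reflO_mul_reflO_mem_commutator Q hQ u v hu hv

end Cfsg.Agent.S2635
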