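import Cfsg.Statements.S2637
import Cfsg.Agent.Lib.Helper51.Cent9
import Cfsg.Agent.S0277

set_option autoImplicit false
open Cfsg

namespace Cfsg.Agent.S2637

theorem cast_prod_aux (q₀ n : ℕ) (hq₀ : 1 ≤ q₀) :
    ((∏ i ∈ Finset.range n, (if Even i then q₀ ^ (i + 1) + 1 else q₀ ^ (i + 1) - 1) : ℕ) : ℤ) =
      ∏ i : Fin n, ((q₀ : ℤ) ^ ((i : ℕ) + 1) - (-1) ^ ((i : ℕ) + 1)) := by
  rw [Fin.prod_univ_eq_prod_range (fun i => ((q₀ : ℤ) ^ (i + 1) - (-1) ^ (i + 1))) n, Nat.cast_prod]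
  apply Finset.prod_congr rfl
  intro i _
  by_cases hi : Even i
  · rw [if_pos hi]
    have hodd : Odd (i + 1) := hi.add_one
    rw [hodd.neg_one_pow]
    push_cast
    ring
  · rw [if_neg hi]
    have heven : Even (i + 1) := by
      rw [Nat.even_add_one]
      exact hi
    rw [heven.neg_one_pow]
    have h1 : 1 ≤ q₀ ^ (i + 1) := Nat.one_le_pow _ _ hq₀
    rw [Nat.cast_sub h1]
    push_cast
    ring

/-- Centraliser of a fixed-point-free element of order three in Sp_2m(q) when q ≡ 2 (mod 3): if x ∈ Sp_2m(F) (|F| = q, m ≥ 1) satisfies x³ = 1 and x − 1 is invertible, then its centraliser in Sp_2m(F) has the order of the unitary group GU_m(q), namely q^(m(m−1)/2) Π_(i=1)^m (q^i − (−1)^i) (x lies in the centre of a subgroup GU_m(q) of Sp_2m(q)). -/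
theorem result {F : Type*} [Field F] [Fintype F] {q : ℕ} (hF : Fintype.card F = q) (hq : q % 3 = 2) {m : ℕ} (hm : 1 ≤ m) (x : Matrix.symplecticGroup (Fin m) F) (hx3 : x ^ 3 = 1) (hfpf : IsUnit ((x : Matrix (Fin m ⊕ Fin m) (Fin m ⊕ Fin m) F) - 1)) : (Nat.card ↥(Subgroup.centralizer ({x} : Set ↥(Matrix.symplecticGroup (Fin m) F))) : ℤ) = (q : ℤ) ^ (m * (m - 1) / 2) * ∏ i : Fin m, ((q : ℤ) ^ ((i : ℕ) + 1) - (-1) ^ ((i : ℕ) + 1)) := by
  classical
  have : Fact (Irreducible (Cfsg.Agent.Lib.Helper51.cyc3 F)) :=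
    ⟨Cfsg.Agent.Lib.Helper51.cyc3_irreducible hF hq⟩
  have hq1 : 1 ≤ q := by
    have : 1 < Fintype.card F := Fintype.one_lt_card
    omega
  rw [Cfsg.Agent.Lib.Helper51.card_centralizer_order3 hF hq x hx3 hfpf,
    Cfsg.Agent.S0277.result (Cfsg.Agent.Lib.Helper51.K3_card hF) m, Nat.cast_mul,
    cast_prod_aux q m hq1]
  push_cast
  rfl

end Cfsg.Agent.S2637
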