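import Cfsg.Statements.S2638
import Cfsg.Agent.Lib.Helper51.Singer1
import Cfsg.Agent.Lib.Helper51.Singer2

set_option autoImplicit false
open Cfsg

namespace Cfsg.Agent.S2638

open Cfsg.Agent.Lib.Helper51 Matrix

/-- If an element x of GL_n(q), n ≥ 1, has prime order r and the multiplicative order of q modulo r is n (r is a primitive prime divisor of q^n − 1, so x acts irreducibly), then the centraliser of x in GL_n(q) is cyclic of order q^n − 1 (the multiplicative group of the field with q^n elements, a Singer cycle). -/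
theorem result {F : Type*} [Field F] [Fintype F] {p q : ℕ} [Fact p.Prime] [CharP F p] (hF : Fintype.card F = q) {n r : ℕ} (hn : 1 ≤ n) (hr : r.Prime) (hrp : r ≠ p) (hi : orderOf (q : ZMod r) = n) (x : GL (Fin n) F) (hx : orderOf x = r) : IsCyclic ↥(Subgroup.centralizer ({x} : Set (GL (Fin n) F))) ∧ Nat.card ↥(Subgroup.centralizer ({x} : Set (GL (Fin n) F))) = q ^ n - 1 := by
  classical
  haveI : Fact r.Prime := ⟨hr⟩
  set X : Matrix (Fin n) (Fin n) F := (x : Matrix (Fin n) (Fin n) F) with hXdef
  have hX : X ^ r = 1 := by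
    have h1 : x ^ r = 1 := by rw [← hx]; exact pow_orderOf_eq_one x
    have h2 := congrArg (fun g : GL (Fin n) F => (g : Matrix (Fin n) (Fin n) F)) h1
    simpa using h2
  have hX1 : X ≠ 1 := by
    intro h
    have h1 : x = 1 := Units.ext h
    rw [h1, orderOf_one] at hx
    exact hr.one_lt.ne hx
  set D := Subalgebra.centralizer F ({X} : Set (Matrix (Fin n) (Fin n) F)) with hD
  have hmemD : ∀ m : Matrix (Fin n) (Fin n) F, m ∈ D ↔ m * X = X * m := by
    intro m
    rw [hD, Subalgebra.mem_centralizer_iff]
    constructor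
    · intro h; exact (h X rfl).symm
    · intro h g hg
      rw [Set.mem_singleton_iff.1 hg]; exact h.symm
  have hcardD : Nat.card D = q ^ n := card_commutant hF X r hX hX1 hn hi
  have hunitM : ∀ m : D, m ≠ 0 → IsUnit (m : Matrix (Fin n) (Fin n) F) := by
    intro m hm
    exact isUnit_of_commute hF X r hX hX1 hn hi _ ((hmemD _).1 m.2) (fun h => hm (Subtype.ext h))
  have hmemC : ∀ g : GL (Fin n) F, g ∈ Subgroup.centralizer ({x} : Set (GL (Fin n) F)) ↔
      (g : Matrix (Fin n) (Fin n) F) * X = X * (g : Matrix (Fin n) (Fin n) F) := by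
    intro g
    rw [Subgroup.mem_centralizer_iff]
    constructor
    · intro h
      have := h x rfl
      have h2 := congrArg (fun g : GL (Fin n) F => (g : Matrix (Fin n) (Fin n) F)) this
      simpa using h2.symm
    · intro h y hy
      rw [Set.mem_singleton_iff.1 hy]
      apply Units.ext
      simpa using h.symm
  -- units of D
  have hunitD : ∀ a : D, IsUnit a ∨ a = 0 := by
    intro a
    by_cases ha : a = 0
    · right; exact ha
    · left
      obtain ⟨u, hu⟩ := hunitM a ha
      have huD : (u : Matrix (Fin n) (Fin n) F) ∈ D := by rw [hu]; exact a.2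
      have huC : u ∈ Subgroup.centralizer ({x} : Set (GL (Fin n) F)) :=
        (hmemC u).2 ((hmemD _).1 huD)
      have hinvD : ((u⁻¹ : GL (Fin n) F) : Matrix (Fin n) (Fin n) F) ∈ D :=
        (hmemD _).2 ((hmemC _).1 (Subgroup.inv_mem _ huC))
      refine ⟨⟨⟨u, huD⟩, ⟨_, hinvD⟩, ?_, ?_⟩, ?_⟩
      · apply Subtype.ext
        simp
      · apply Subtype.ext
        simp
      · apply Subtype.ext
        exact hu
  haveI : NeZero n := ⟨by omega⟩
  haveI : Nontrivial D := ⟨⟨0, 1, fun h => by
    have := congrArg Subtype.val h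
    simp at this⟩⟩
  have hcomm : ∀ a b : D, a * b = b * a := by
    letI : DivisionRing D := DivisionRing.ofIsUnitOrEqZero hunitD
    exact fun a b => mul_comm a b
  letI : CommRing D := { (inferInstance : Ring D) with mul_comm := hcomm }
  haveI : IsDomain D := by
    haveI : NoZeroDivisors D := ⟨by
      intro a b hab
      by_cases ha : a = 0
      · left; exact ha
      · right
        rcases hunitD a with hu | h0
        · obtain ⟨u, rfl⟩ := hu
          have := congrArg (fun z => (↑u⁻¹ : D) * z) hab
          simpa using this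
        · exact absurd h0 ha⟩
    exact NoZeroDivisors.to_isDomain D
  let φ : ↥(Subgroup.centralizer ({x} : Set (GL (Fin n) F))) →* D :=
    { toFun := fun g => ⟨((g : GL (Fin n) F) : Matrix (Fin n) (Fin n) F),
        (hmemD _).2 ((hmemC _).1 g.2)⟩
      map_one' := by
        apply Subtype.ext
        simp
      map_mul' := by
        intro a b
        apply Subtype.ext
        simp }
  have hφinj : Function.Injective φ := by
    intro a b h
    have h1 := congrArg Subtype.val h
    exact Subtype.ext (Units.ext h1)
  refine ⟨isCyclic_of_injective_ringHom φ hφinj, ?_⟩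
  -- cardinality
  have hequiv : ↥(Subgroup.centralizer ({x} : Set (GL (Fin n) F))) ≃ {m : D // m ≠ 0} := by
    refine Equiv.ofBijective (fun g => ⟨φ g, ?_⟩) ⟨?_, ?_⟩
    · intro h
      have h1 := congrArg Subtype.val h
      have h2 : ((g : GL (Fin n) F) : Matrix (Fin n) (Fin n) F) = 0 := h1
      have h3 := (g : GL (Fin n) F).isUnit
      have h4 : IsUnit ((g : GL (Fin n) F) : Matrix (Fin n) (Fin n) F) := ⟨_, rfl⟩
      rw [h2] at h4
      exact not_isUnit_zero h4
    · intro a b h
      exact hφinj (congrArg Subtype.val h)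
    · rintro ⟨m, hm⟩
      obtain ⟨u, hu⟩ := hunitM m hm
      have huC : u ∈ Subgroup.centralizer ({x} : Set (GL (Fin n) F)) := by
        rw [hmemC, hu]
        exact (hmemD _).1 m.2
      refine ⟨⟨u, huC⟩, ?_⟩
      apply Subtype.ext
      apply Subtype.ext
      exact hu
  rw [Nat.card_congr hequiv]
  have h1 : Nat.card (Option {m : D // m ≠ 0}) = Nat.card D :=
    Nat.card_congr (Equiv.optionSubtypeNe (0 : D))
  rw [Finite.card_option, hcardD] at h1
  omega

end Cfsg.Agent.S2638
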