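import Cfsg.Statements.S2639
import Cfsg.Agent.Lib.Helper51.QuadExt
import Cfsg.Agent.Lib.Helper51.Embed

set_option autoImplicit false
open Cfsg

namespace Cfsg.Agent.S2639

open Cfsg.Agent.Lib.Helper51 Matrix

theorem herm_single {K : Type*} [Field K] {m q : ℕ} (hq : q ≠ 0) (i j : Fin m) (x y : K) :
    Cfsg.hermForm m K q (Pi.single i x) (Pi.single j y) = if i = j then x * y ^ q else 0 := by
  unfold Cfsg.hermForm
  by_cases hij : i = j
  · subst hij
    rw [if_pos rfl, Finset.sum_eq_single i]
    · simp
    · intro k _ hk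
      simp [Pi.single_eq_of_ne hk]
    · simp
  · rw [if_neg hij]
    apply Finset.sum_eq_zero
    intro k _
    by_cases hk : k = i
    · subst hk
      rw [Pi.single_eq_of_ne hij, zero_pow hq, mul_zero]
    · rw [Pi.single_eq_of_ne hk, zero_mul]

/-- The unitary group embeds in the symplectic group of twice the dimension over the subfield: for a field K with q² elements and a field F with q elements (isomorphic to the subfield of K of order q), there is an injective homomorphism GU_m(q) → Sp_2m(F). -/
theorem result {K F : Type*} [Field K] [Fintype K] [Field F] [Fintype F] {q : ℕ} (hK : Fintype.card K = q ^ 2) (hF : Fintype.card F = q) (m : ℕ) : ∃ φ : ↥(Cfsg.GU m K q) →* ↥(Matrix.symplecticGroup (Fin m) F), Function.Injective φ := by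
  classical
  obtain ⟨ι⟩ := exists_ringHom hF hK
  letI : Algebra F K := ι.toAlgebra
  obtain ⟨b, t, n, hb0, htr, hnm⟩ := exists_basis (F := F) (K := K) hF hK
  have hq : q ≠ 0 := by
    rw [← hF]; exact Fintype.card_ne_zero
  -- the alternating form over F
  let β : LinearMap.BilinForm F (Fin m → K) :=
    LinearMap.mk₂ F (fun u v => b.coord 1 (Cfsg.hermForm m K q u v))
      (by
        intro u u' v
        rw [← map_add]
        congr 1
        simp [Cfsg.hermForm, add_mul, Finset.sum_add_distrib])
      (by
        intro a u v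
        rw [← map_smul]
        congr 1
        simp [Cfsg.hermForm, Finset.smul_sum])
      (by
        intro u v v'
        rw [← map_add]
        congr 1
        simp [Cfsg.hermForm, add_pow_q (F := F) hF, mul_add, Finset.sum_add_distrib])
      (by
        intro a u v
        rw [← map_smul]
        congr 1
        simp only [Cfsg.hermForm, Finset.smul_sum, Pi.smul_apply]
        apply Finset.sum_congr rfl
        intro i _
        rw [Algebra.smul_def, mul_pow, algebraMap_pow_q hF, Algebra.smul_def]
        ring)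
  have hβ : ∀ u v, β u v = b.coord 1 (Cfsg.hermForm m K q u v) := fun u v => rfl
  let 𝔟 : Module.Basis (Fin m ⊕ Fin m) F (Fin m → K) :=
    (Pi.basis (fun _ : Fin m => b)).reindex (sigmaFinTwoEquiv (Fin m))
  have h𝔟l : ∀ i, 𝔟 (Sum.inl i) = Pi.single i (1 : K) := by
    intro i
    simp only [𝔟, Module.Basis.reindex_apply]
    have : (sigmaFinTwoEquiv (Fin m)).symm (Sum.inl i) = ⟨i, 0⟩ := rfl
    rw [this, Pi.basis_apply, hb0]
  have h𝔟r : ∀ i, 𝔟 (Sum.inr i) = Pi.single i (b 1) := by
    intro i
    simp only [𝔟, Module.Basis.reindex_apply]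
    have : (sigmaFinTwoEquiv (Fin m)).symm (Sum.inr i) = ⟨i, 1⟩ := rfl
    rw [this, Pi.basis_apply]
  have hc1 : b.coord 1 (1 : K) = 0 := by
    rw [← hb0]; simp
  have hcω : b.coord 1 (b 1) = 1 := by simp
  have hcalg : ∀ a : F, b.coord 1 (algebraMap F K a) = 0 := by
    intro a
    rw [Algebra.algebraMap_eq_smul_one, map_smul, hc1, smul_zero]
  have hgram : LinearMap.BilinForm.toMatrix 𝔟 β = Matrix.J (Fin m) F := by
    ext i j
    rw [LinearMap.BilinForm.toMatrix_apply, hβ]
    rcases i with i | i <;> rcases j with j | j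
    · rw [h𝔟l, h𝔟l, herm_single hq]
      simp only [Matrix.J, Matrix.fromBlocks_apply₁₁, Matrix.zero_apply]
      split_ifs <;> simp [hc1]
    · rw [h𝔟l, h𝔟r, herm_single hq]
      simp only [Matrix.J, Matrix.fromBlocks_apply₁₂, Matrix.neg_apply, Matrix.one_apply]
      split_ifs
      · rw [one_mul, htr, map_sub, hcalg, hcω]; ring
      · simp
    · rw [h𝔟r, h𝔟l, herm_single hq]
      simp only [Matrix.J, Matrix.fromBlocks_apply₂₁, Matrix.one_apply]
      split_ifs
      · rw [one_pow, mul_one, hcω]
      · simp
    · rw [h𝔟r, h𝔟r, herm_single hq]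
      simp only [Matrix.J, Matrix.fromBlocks_apply₂₂, Matrix.zero_apply]
      split_ifs
      · rw [hnm, hcalg]
      · simp
  -- the action
  let ρ : ↥(Cfsg.GU m K q) →* ((Fin m → K) →ₗ[F] (Fin m → K)) :=
    (mulVecRestrict F (Fin m)).comp
      ((Units.coeHom (Matrix (Fin m) (Fin m) K)).comp (Cfsg.GU m K q).subtype)
  have hρ : Function.Injective ρ := by
    intro g g' h
    have h1 := mulVecRestrict_injective F (K := K) (Fin m) h
    exact Subtype.ext (Units.ext h1)
  exact embed_symplectic 𝔟 β hgram ρ hρ (by
    intro g u v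
    rw [hβ, hβ]
    congr 1
    exact g.2 u v)

end Cfsg.Agent.S2639
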