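import Cfsg.Statements.S2640
import Cfsg.Agent.Lib.Helper51.QuadExt
import Cfsg.Agent.Lib.Helper51.Embed
import Cfsg.Agent.Lib.Helper51.Embed2
import Cfsg.Agent.Lib.Helper51.Hyper
import Cfsg.Agent.Lib.Helper51.Hyper2

set_option autoImplicit false
open Cfsg

namespace Cfsg.Agent.S2640

open Cfsg.Agent.Lib.Helper51 Matrix

theorem main {K F : Type*} [Field K] [Fintype K] [Field F] [Fintype F] {q : ℕ}
    (hK : Fintype.card K = q ^ 2) (hF : Fintype.card F = q) (r : ℕ) :
    ∃ φ : ↥(Cfsg.GU (2 * r) K q) →* ↥(Cfsg.isometryGroup F (Cfsg.quadFormPlus (2 * r) F)),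
      Function.Injective φ := by
  classical
  obtain ⟨f⟩ := exists_ringHom hF hK
  letI : Algebra F K := f.toAlgebra
  obtain ⟨b, t, n, hb0, htr, hnm⟩ := exists_basis (F := F) (K := K) hF hK
  obtain ⟨d⟩ := exists_hypData (F := F) (K := K) hF hK
  have hc0 : ∀ a : F, b.coord 0 (algebraMap F K a) = a := by
    intro a
    rw [Algebra.algebraMap_eq_smul_one, map_smul, ← hb0]
    simp
  let e : Fin 2 × Fin r ≃ Fin (2 * r) := finProdFinEquiv
  let qV : (Fin (2 * r) → K) → F := fun v => b.coord 0 (Cfsg.hermForm (2 * r) K q v v)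
  let E : (Fin (2 * r) ⊕ Fin (2 * r) → F) →ₗ[F] (Fin (2 * r) → K) :=
    { toFun := fun x k =>
        d.pairFun (fun j => x (Sum.inl (e j))) (fun j => x (Sum.inr (e j))) (e.symm k)
      map_add' := by
        intro x y
        funext k
        have := congrFun (d.pairFun_add (fun j => x (Sum.inl (e j))) (fun j => x (Sum.inr (e j)))
          (fun j => y (Sum.inl (e j))) (fun j => y (Sum.inr (e j)))) (e.symm k)
        exact this
      map_smul' := by
        intro c x
        funext k
        have := congrFun (d.pairFun_smul c (fun j => x (Sum.inl (e j)))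
          (fun j => x (Sum.inr (e j)))) (e.symm k)
        exact this }
  have hEapp : ∀ x k, E x k =
      d.pairFun (fun j => x (Sum.inl (e j))) (fun j => x (Sum.inr (e j))) (e.symm k) :=
    fun x k => rfl
  have hEval : ∀ x, Cfsg.hermForm (2 * r) K q (E x) (E x) =
      algebraMap F K (Cfsg.quadFormPlus (2 * r) F x) := by
    intro x
    unfold Cfsg.hermForm Cfsg.quadFormPlus
    rw [← Equiv.sum_comp e, ← Equiv.sum_comp e (fun k => x (Sum.inl k) * x (Sum.inr k))]
    simp only [hEapp, Equiv.symm_apply_apply]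
    exact d.pairFun_value hF hK _ _
  have hEinj : Function.Injective E := by
    rw [← LinearMap.ker_eq_bot, LinearMap.ker_eq_bot']
    intro x hx
    have h0 : d.pairFun (fun j => x (Sum.inl (e j))) (fun j => x (Sum.inr (e j))) = 0 := by
      funext j
      have := congrFun hx (e j)
      rw [hEapp, Equiv.symm_apply_apply] at this
      exact this
    obtain ⟨h1, h2⟩ := d.pairFun_eq_zero hF _ _ h0
    funext k
    rcases k with k | k
    · have := congrFun h1 (e.symm k)
      simpa using this
    · have := congrFun h2 (e.symm k)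
      simpa using this
  have hfr : Module.finrank F (Fin (2 * r) ⊕ Fin (2 * r) → F) =
      Module.finrank F (Fin (2 * r) → K) := by
    rw [Module.finrank_fintype_fun_eq_card, Module.finrank_pi_fintype]
    simp only [finrank_eq_two (F := F) (K := K) hF hK, Fintype.card_sum, Fintype.card_fin,
      Finset.sum_const, Finset.card_univ, smul_eq_mul]
    ring
  let Eq : (Fin (2 * r) ⊕ Fin (2 * r) → F) ≃ₗ[F] (Fin (2 * r) → K) :=
    LinearMap.linearEquivOfInjective E hEinj hfr
  have hEq : ∀ x, Eq x = E x := fun x => rfl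
  let ρ : ↥(Cfsg.GU (2 * r) K q) →* ((Fin (2 * r) → K) →ₗ[F] (Fin (2 * r) → K)) :=
    (mulVecRestrict F (Fin (2 * r))).comp
      ((Units.coeHom (Matrix (Fin (2 * r)) (Fin (2 * r)) K)).comp (Cfsg.GU (2 * r) K q).subtype)
  have hρ : Function.Injective ρ := by
    intro g g' h
    have h1 := mulVecRestrict_injective F (K := K) (Fin (2 * r)) h
    exact Subtype.ext (Units.ext h1)
  refine embed_isometry' Eq (Cfsg.quadFormPlus (2 * r) F) qV ?_ ρ hρ ?_
  · intro x
    show b.coord 0 (Cfsg.hermForm (2 * r) K q (Eq x) (Eq x)) = _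
    rw [hEq, hEval, hc0]
  · intro g v
    show b.coord 0 (Cfsg.hermForm (2 * r) K q _ _) = b.coord 0 (Cfsg.hermForm (2 * r) K q v v)
    congr 1
    exact g.2 v v

/-- For m even, the unitary group GU_m(q) (over the field with q² elements) embeds in the orthogonal group O⁺_2m(q) of the hyperbolic form Σ x_i y_i over the field with q elements (there is an injective homomorphism). -/
theorem result {K F : Type*} [Field K] [Fintype K] [Field F] [Fintype F] {q : ℕ} (hK : Fintype.card K = q ^ 2) (hF : Fintype.card F = q) (m : ℕ) (hm : Even m) : ∃ φ : ↥(Cfsg.GU m K q) →* ↥(Cfsg.isometryGroup F (Cfsg.quadFormPlus m F)), Function.Injective φ := by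
  obtain ⟨r, rfl⟩ := hm
  have h2 : r + r = 2 * r := (two_mul r).symm
  rw [h2]
  exact main hK hF r

end Cfsg.Agent.S2640
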