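import Cfsg.Statements.S2641
import Cfsg.Agent.Lib.Helper51.QuadExt
import Cfsg.Agent.Lib.Helper51.QuadExt2
import Cfsg.Agent.Lib.Helper51.Embed
import Cfsg.Agent.Lib.Helper51.Embed2
import Cfsg.Agent.Lib.Helper51.Hyper
import Cfsg.Agent.Lib.Helper51.Hyper2

set_option autoImplicit false
open Cfsg

namespace Cfsg.Agent.S2641

open Cfsg.Agent.Lib.Helper51 Matrix

/-- the two roots are conjugate under the Frobenius -/
theorem frob_root {F K : Type*} [Field F] [Fintype F] [Field K] [Fintype K] [Algebra F K]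
    {q : ℕ} (hF : Fintype.card F = q) (a c : F)
    (hac : ∀ z₁ z₂ : F, z₁ ^ 2 + a * z₁ * z₂ + c * z₂ ^ 2 = 0 → z₁ = 0 ∧ z₂ = 0)
    (θ θ' : K) (h1 : θ + θ' = -algebraMap F K a) (h2 : θ * θ' = algebraMap F K c) :
    θ ^ q = θ' := by
  have hroot : θ ^ 2 + algebraMap F K a * θ + algebraMap F K c = 0 := by
    linear_combination θ * h1 - h2
  have hrootq : (θ ^ q) ^ 2 + algebraMap F K a * θ ^ q + algebraMap F K c = 0 := by
    have := congrArg (fun z => z ^ q) hroot
    simp only [add_pow_q hF, mul_pow, algebraMap_pow_q hF] at this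
    rw [zero_pow (by rw [← hF]; exact Fintype.card_ne_zero)] at this
    rw [← this]; ring
  have hprod : (θ ^ q - θ) * (θ ^ q - θ') = 0 := by
    linear_combination hrootq - θ ^ q * h1 + h2
  rcases mul_eq_zero.1 hprod with h | h
  · exfalso
    obtain ⟨x, hx⟩ := mem_range_of_pow_q hF θ (sub_eq_zero.1 h)
    have h3 : algebraMap F K (x ^ 2 + a * x * 1 + c * 1 ^ 2) = 0 := by
      simp only [map_add, map_mul, map_pow, map_one, hx]
      linear_combination hroot
    have h4 := (map_eq_zero (algebraMap F K)).1 h3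
    exact one_ne_zero (hac x 1 h4).2
  · exact sub_eq_zero.1 h

theorem main {K F : Type*} [Field K] [Fintype K] [Field F] [Fintype F] {q : ℕ}
    (hK : Fintype.card K = q ^ 2) (hF : Fintype.card F = q) (r : ℕ) (a c : F)
    (hac : ∀ z₁ z₂ : F, z₁ ^ 2 + a * z₁ * z₂ + c * z₂ ^ 2 = 0 → z₁ = 0 ∧ z₂ = 0) :
    ∃ φ : ↥(Cfsg.GU (2 * r + 1) K q) →*
        ↥(Cfsg.isometryGroup F (Cfsg.quadFormMinus (2 * r) F a c)),
      Function.Injective φ := by
  classical
  obtain ⟨f⟩ := exists_ringHom hF hK
  letI : Algebra F K := f.toAlgebra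
  obtain ⟨b, t, n, hb0, htr, hnm⟩ := exists_basis (F := F) (K := K) hF hK
  obtain ⟨d⟩ := exists_hypData (F := F) (K := K) hF hK
  obtain ⟨θ, θ', h1, h2, hne⟩ := exists_roots (F := F) (K := K) hF hK a c hac
  have hθq : θ ^ q = θ' := frob_root hF a c hac θ θ' h1 h2
  have hc0 : ∀ x : F, b.coord 0 (algebraMap F K x) = x := by
    intro x
    rw [Algebra.algebraMap_eq_smul_one, map_smul, ← hb0]
    simp
  let e : Fin 2 × Fin r ≃ Fin (2 * r) := finProdFinEquiv
  let qV : (Fin (2 * r + 1) → K) → F := fun v => b.coord 0 (Cfsg.hermForm (2 * r + 1) K q v v)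
  let E : ((Fin (2 * r) ⊕ Fin (2 * r)) ⊕ Fin 2 → F) →ₗ[F] (Fin (2 * r + 1) → K) :=
    { toFun := fun x => Fin.snoc (α := fun _ => K)
        (fun k => d.pairFun (fun j => x (Sum.inl (Sum.inl (e j))))
          (fun j => x (Sum.inl (Sum.inr (e j)))) (e.symm k))
        (algebraMap F K (x (Sum.inr 0)) - algebraMap F K (x (Sum.inr 1)) * θ)
      map_add' := by
        intro x y
        funext k
        refine Fin.lastCases ?_ (fun k => ?_) k
        · simp only [Fin.snoc_last, Pi.add_apply, map_add]
          ring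
        · simp only [Fin.snoc_castSucc, Pi.add_apply]
          exact congrFun (d.pairFun_add (fun j => x (Sum.inl (Sum.inl (e j))))
            (fun j => x (Sum.inl (Sum.inr (e j))))
            (fun j => y (Sum.inl (Sum.inl (e j)))) (fun j => y (Sum.inl (Sum.inr (e j)))))
            (e.symm k)
      map_smul' := by
        intro s x
        funext k
        refine Fin.lastCases ?_ (fun k => ?_) k
        · simp only [Fin.snoc_last, Pi.smul_apply, smul_eq_mul, map_mul, RingHom.id_apply,
            Algebra.smul_def]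
          ring
        · simp only [Fin.snoc_castSucc, Pi.smul_apply, RingHom.id_apply]
          exact congrFun (d.pairFun_smul s (fun j => x (Sum.inl (Sum.inl (e j))))
            (fun j => x (Sum.inl (Sum.inr (e j))))) (e.symm k) }
  have hElast : ∀ x, E x (Fin.last (2 * r)) =
      algebraMap F K (x (Sum.inr 0)) - algebraMap F K (x (Sum.inr 1)) * θ := by
    intro x
    simp only [E, LinearMap.coe_mk, AddHom.coe_mk, Fin.snoc_last]
  have hEcast : ∀ x (k : Fin (2 * r)), E x k.castSucc =
      d.pairFun (fun j => x (Sum.inl (Sum.inl (e j)))) (fun j => x (Sum.inl (Sum.inr (e j))))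
        (e.symm k) := by
    intro x k
    simp only [E, LinearMap.coe_mk, AddHom.coe_mk, Fin.snoc_castSucc]
  have hnormlast : ∀ x, E x (Fin.last (2 * r)) * (E x (Fin.last (2 * r))) ^ q =
      algebraMap F K (x (Sum.inr 0) ^ 2 + a * x (Sum.inr 0) * x (Sum.inr 1)
        + c * x (Sum.inr 1) ^ 2) := by
    intro x
    rw [hElast, sub_eq_add_neg, add_pow_q hF, neg_pow, mul_pow, algebraMap_pow_q hF,
      algebraMap_pow_q hF, hθq]
    simp only [map_add, map_mul, map_pow]
    rcases neg_one_pow_eq_or K q with hs | hs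
    · -- characteristic two
      have h2' : (2 : K) = 0 := by
        have hx := add_pow_q (F := F) (K := K) hF (1 : K) (-1)
        rw [add_neg_cancel, zero_pow (by rw [← hF]; exact Fintype.card_ne_zero), one_pow, hs] at hx
        linear_combination -hx
      rw [hs]
      linear_combination (-(algebraMap F K (x (Sum.inr 0)) * algebraMap F K (x (Sum.inr 1)))) * h1
        + (algebraMap F K (x (Sum.inr 1))) ^ 2 * h2
        + (algebraMap F K (x (Sum.inr 0)) * algebraMap F K (x (Sum.inr 1)) * θ'
            - (algebraMap F K (x (Sum.inr 1))) ^ 2 * θ * θ') * h2'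
    · rw [hs]
      linear_combination (-(algebraMap F K (x (Sum.inr 0)) * algebraMap F K (x (Sum.inr 1)))) * h1
        + (algebraMap F K (x (Sum.inr 1))) ^ 2 * h2
  have hEval : ∀ x, Cfsg.hermForm (2 * r + 1) K q (E x) (E x) =
      algebraMap F K (Cfsg.quadFormMinus (2 * r) F a c x) := by
    intro x
    unfold Cfsg.hermForm Cfsg.quadFormMinus
    rw [Fin.sum_univ_castSucc, hnormlast]
    rw [map_add (algebraMap F K)
      (∑ i : Fin (2 * r), x (Sum.inl (Sum.inl i)) * x (Sum.inl (Sum.inr i)))]
    congr 1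
    rw [← Equiv.sum_comp e, ← Equiv.sum_comp e
      (fun k => x (Sum.inl (Sum.inl k)) * x (Sum.inl (Sum.inr k)))]
    simp only [hEcast, Equiv.symm_apply_apply]
    exact d.pairFun_value hF hK _ _
  have hEinj : Function.Injective E := by
    rw [← LinearMap.ker_eq_bot, LinearMap.ker_eq_bot']
    intro x hx
    have h0 : d.pairFun (fun j => x (Sum.inl (Sum.inl (e j))))
        (fun j => x (Sum.inl (Sum.inr (e j)))) = 0 := by
      funext j
      have := congrFun hx (e j).castSucc
      rw [hEcast, Equiv.symm_apply_apply] at this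
      exact this
    obtain ⟨h1', h2'⟩ := d.pairFun_eq_zero hF _ _ h0
    have hl : E x (Fin.last (2 * r)) = 0 := congrFun hx _
    have hn := hnormlast x
    rw [hl, zero_mul] at hn
    have h5 := hac _ _ ((map_eq_zero (algebraMap F K)).1 hn.symm)
    funext k
    rcases k with (k | k) | k
    · have := congrFun h1' (e.symm k)
      simpa using this
    · have := congrFun h2' (e.symm k)
      simpa using this
    · fin_cases k
      · exact h5.1
      · exact h5.2
  have hfr : Module.finrank F ((Fin (2 * r) ⊕ Fin (2 * r)) ⊕ Fin 2 → F) =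
      Module.finrank F (Fin (2 * r + 1) → K) := by
    rw [Module.finrank_fintype_fun_eq_card, Module.finrank_pi_fintype]
    simp only [finrank_eq_two (F := F) (K := K) hF hK, Fintype.card_sum, Fintype.card_fin,
      Finset.sum_const, Finset.card_univ, smul_eq_mul]
    ring
  let Eq : ((Fin (2 * r) ⊕ Fin (2 * r)) ⊕ Fin 2 → F) ≃ₗ[F] (Fin (2 * r + 1) → K) :=
    LinearMap.linearEquivOfInjective E hEinj hfr
  have hEq : ∀ x, Eq x = E x := fun x => rfl
  let ρ : ↥(Cfsg.GU (2 * r + 1) K q) →* ((Fin (2 * r + 1) → K) →ₗ[F] (Fin (2 * r + 1) → K)) :=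
    (mulVecRestrict F (Fin (2 * r + 1))).comp
      ((Units.coeHom (Matrix (Fin (2 * r + 1)) (Fin (2 * r + 1)) K)).comp
        (Cfsg.GU (2 * r + 1) K q).subtype)
  have hρ : Function.Injective ρ := by
    intro g g' h
    have h1 := mulVecRestrict_injective F (K := K) (Fin (2 * r + 1)) h
    exact Subtype.ext (Units.ext h1)
  refine embed_isometry' Eq (Cfsg.quadFormMinus (2 * r) F a c) qV ?_ ρ hρ ?_
  · intro x
    show b.coord 0 (Cfsg.hermForm (2 * r + 1) K q (Eq x) (Eq x)) = _
    rw [hEq, hEval, hc0]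
  · intro g v
    show b.coord 0 (Cfsg.hermForm (2 * r + 1) K q _ _) =
      b.coord 0 (Cfsg.hermForm (2 * r + 1) K q v v)
    congr 1
    exact g.2 v v

/-- For m odd, the unitary group GU_m(q) (over the field with q² elements) embeds in the orthogonal group O⁻_2m(q) of an elliptic form (Σ_(i<m−1) x_i y_i plus an anisotropic binary form) over the field with q elements (there is an injective homomorphism). -/
theorem result {K F : Type*} [Field K] [Fintype K] [Field F] [Fintype F] {q : ℕ} (hK : Fintype.card K = q ^ 2) (hF : Fintype.card F = q) (m : ℕ) (hm : Odd m) (a b : F) (hab : ∀ z₁ z₂ : F, z₁ ^ 2 + a * z₁ * z₂ + b * z₂ ^ 2 = 0 → z₁ = 0 ∧ z₂ = 0) : ∃ φ : ↥(Cfsg.GU m K q) →* ↥(Cfsg.isometryGroup F (Cfsg.quadFormMinus (m - 1) F a b)), Function.Injective φ := by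
  obtain ⟨r, rfl⟩ := hm
  exact main hK hF r a b hab

end Cfsg.Agent.S2641
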