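import Cfsg.Statements.S2642
import Cfsg.Agent.Lib.Helper51.URU8
import Cfsg.Agent.S2587

set_option autoImplicit false
open Cfsg

namespace Cfsg.Agent.S2642

open Cfsg.Agent.Lib.Helper49

/-- the partition of `n` into ones -/
def onesP (n : ℕ) : Nat.Partition n :=
  ⟨Multiset.replicate n 1, by
    intro i hi
    rw [Multiset.eq_of_mem_replicate hi]
    exact Nat.one_pos, by simp⟩

theorem le_one_iff_eq_onesP {n : ℕ} (μ : Nat.Partition n) :
    (∀ a ∈ μ.parts, a ≤ 1) ↔ μ = onesP n := by
  constructor
  · intro h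
    apply Nat.Partition.ext
    change μ.parts = Multiset.replicate n 1
    have h1 : ∀ a ∈ μ.parts, a = 1 := by
      intro a ha
      have := h a ha
      have := μ.parts_pos ha
      omega
    have h2 : μ.parts = Multiset.replicate (Multiset.card μ.parts) 1 :=
      Multiset.eq_replicate_card.mpr h1
    have h3 : Multiset.card μ.parts = n := by
      have := μ.parts_sum
      rw [h2, Multiset.sum_replicate, smul_eq_mul, mul_one] at this
      exact this
    rw [h2, h3]
  · intro h a ha
    rw [h] at ha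
    change a ∈ Multiset.replicate n 1 at ha
    rw [Multiset.eq_of_mem_replicate ha]

/-- Number of conjugacy classes of elements of order p in the general unitary group GU_n(q), q a power of p: every unipotent Jordan type occurs and the classes correspond to the partitions of n with all parts at most p other than the all-ones partition, exactly as in GL_n; so there are (number of partitions of n with parts ≤ p) − 1 classes. -/
theorem result {K : Type*} [Field K] [Fintype K] {p q n : ℕ} [Fact p.Prime] [CharP K p] (hK : Fintype.card K = q ^ 2) : Nat.card {C : ConjClasses ↥(Cfsg.GU n K q) // ∃ g : ↥(Cfsg.GU n K q), ConjClasses.mk g = C ∧ orderOf g = p} = (Finset.univ.filter (fun μ : Nat.Partition n => ∀ a ∈ μ.parts, a ≤ p)).card - 1 := by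
  classical
  let S := {C : ConjClasses ↥(Cfsg.GU n K q) // ∃ g : ↥(Cfsg.GU n K q), ConjClasses.mk g = C ∧ orderOf g = p}
  let T := {μ : Nat.Partition n // (∀ a ∈ μ.parts, a ≤ p) ∧ ¬ (∀ a ∈ μ.parts, a ≤ 1)}
  have hex : ∀ C : S, ∃ (g : ↥(Cfsg.GU n K q)) (μ : Nat.Partition n),
      ConjClasses.mk g = C.1 ∧ HasType (g : GL (Fin n) K) μ ∧ orderOf g = p := by
    rintro ⟨C, g, hC, hg⟩
    have hg' : orderOf (g : GL (Fin n) K) = p := by rw [Subgroup.orderOf_coe]; exact hg
    obtain ⟨h1, _⟩ := (orderOf_eq_char_iff p (g : GL (Fin n) K)).mp hg'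
    obtain ⟨μ, hμ⟩ := exists_hasType (g : GL (Fin n) K) p h1
    exact ⟨g, μ, hC, hμ, hg⟩
  choose rep part hrep hpart hord using hex
  have hT : ∀ C : S, (∀ a ∈ (part C).parts, a ≤ p) ∧ ¬ (∀ a ∈ (part C).parts, a ≤ 1) := by
    intro C
    have hg' : orderOf (rep C : GL (Fin n) K) = p := by rw [Subgroup.orderOf_coe]; exact hord C
    obtain ⟨h1, h2⟩ := (orderOf_eq_char_iff p (rep C : GL (Fin n) K)).mp hg'
    exact ⟨((hpart C).pow_eq_zero_iff p).mp h1, fun h => h2 (((hpart C).pow_eq_zero_iff 1).mpr h)⟩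
  let f : S → T := fun C => ⟨part C, hT C⟩
  have hbij : Function.Bijective f := by
    constructor
    · intro C C' h
      have h0 : part C = part C' := congrArg Subtype.val h
      have h1 : IsConj (rep C : GL (Fin n) K) (rep C' : GL (Fin n) K) :=
        ((hpart C).isConj_iff (hpart C')).mpr h0
      have h2 : IsConj (rep C) (rep C') := (Cfsg.Agent.S2587.result hK (rep C) (rep C')).mpr h1
      apply Subtype.ext
      rw [← hrep C, ← hrep C']
      exact ConjClasses.mk_eq_mk_iff_isConj.mpr h2
    · rintro ⟨μ, hμ1, hμ2⟩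
      obtain ⟨g, hgU, hμ⟩ := Cfsg.Agent.Lib.Helper51.URU.exists_GU_hasType hK μ
      have hgp : orderOf g = p := by
        rw [orderOf_eq_char_iff]
        exact ⟨(hμ.pow_eq_zero_iff p).mpr hμ1, fun h => hμ2 ((hμ.pow_eq_zero_iff 1).mp h)⟩
      let gU : ↥(Cfsg.GU n K q) := ⟨g, hgU⟩
      have hgUp : orderOf gU = p := by
        rw [← Subgroup.orderOf_coe]
        exact hgp
      let C : S := ⟨ConjClasses.mk gU, gU, rfl, hgUp⟩
      refine ⟨C, ?_⟩
      apply Subtype.ext
      have h1 : IsConj (rep C) gU := ConjClasses.mk_eq_mk_iff_isConj.mp (hrep C)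
      have h2 : IsConj (rep C : GL (Fin n) K) (gU : GL (Fin n) K) :=
        (Cfsg.Agent.S2587.result hK (rep C) gU).mp h1
      exact ((hpart C).isConj_iff hμ).mp h2
  rw [Nat.card_eq_of_bijective f hbij, Nat.card_eq_fintype_card, Fintype.card_subtype]
  have hmem : onesP n ∈ Finset.univ.filter (fun μ : Nat.Partition n => ∀ a ∈ μ.parts, a ≤ p) := by
    rw [Finset.mem_filter]
    refine ⟨Finset.mem_univ _, ?_⟩
    intro a ha
    change a ∈ Multiset.replicate n 1 at ha
    rw [Multiset.eq_of_mem_replicate ha]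
    exact (Fact.out : p.Prime).one_lt.le
  rw [← Finset.card_erase_of_mem hmem]
  congr 1
  ext μ
  rw [Finset.mem_filter, Finset.mem_erase, Finset.mem_filter, le_one_iff_eq_onesP]
  constructor
  · rintro ⟨_, h1, h2⟩
    exact ⟨h2, Finset.mem_univ _, h1⟩
  · rintro ⟨h2, _, h1⟩
    exact ⟨Finset.mem_univ _, h1, h2⟩

end Cfsg.Agent.S2642
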