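import Cfsg.Statements.S2643
import Cfsg.Agent.Lib.Helper51.URU7

set_option autoImplicit false
open Cfsg

namespace Cfsg.Agent.S2643

/-- Regular unipotent classes of SU_n(q), n ≥ 2: the elements u of the special unitary group (isometries of Σ u_i v_i^q of determinant one over the field with q² elements) with (u − 1)^n = 0 and rank(u − 1) = n − 1 form exactly gcd(n, q + 1) conjugacy classes of SU_n(q). -/
theorem result {K : Type*} [Field K] [Fintype K] {q n : ℕ} (hK : Fintype.card K = q ^ 2) (hn : 2 ≤ n) : Nat.card {C : ConjClasses ↥(Cfsg.SU n K q) // ∃ u : ↥(Cfsg.SU n K q), ConjClasses.mk u = C ∧ (((u : GL (Fin n) K) : Matrix (Fin n) (Fin n) K) - 1) ^ n = 0 ∧ (((u : GL (Fin n) K) : Matrix (Fin n) (Fin n) K) - 1).rank = n - 1} = Nat.gcd n (q + 1) := by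
  classical
  have hn1 : 1 ≤ n := by omega
  obtain ⟨u₀, hu₀, hreg⟩ := Cfsg.Agent.Lib.Helper51.URU.exists_regUnip_GU hK hn1
  obtain ⟨θ, hθs, hθ⟩ := Cfsg.Agent.Lib.Helper19.exists_theta hK n
  have hcardQ : Nat.card (Multiplicative (ZMod (Nat.gcd n (q + 1)))) = Nat.gcd n (q + 1) := by
    rw [Nat.card_congr Multiplicative.toAdd, Nat.card_zmod]
  rw [← hcardQ]
  have hdata : ∀ C : {C : ConjClasses ↥(Cfsg.SU n K q) // ∃ u : ↥(Cfsg.SU n K q), ConjClasses.mk u = C ∧ (((u : GL (Fin n) K) : Matrix (Fin n) (Fin n) K) - 1) ^ n = 0 ∧ (((u : GL (Fin n) K) : Matrix (Fin n) (Fin n) K) - 1).rank = n - 1},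
      ∃ (u : ↥(Cfsg.SU n K q)) (g : GL (Fin n) K), g ∈ Cfsg.GU n K q ∧ ConjClasses.mk u = C.1 ∧
        g * u₀ * g⁻¹ = Matrix.SpecialLinearGroup.toGL (u : Matrix.SpecialLinearGroup (Fin n) K) := by
    rintro ⟨C, u, hu, h1, h2⟩
    have huU := Cfsg.Agent.Lib.Helper51.URU.toGL_mem_GU u
    have hureg : Cfsg.Agent.Lib.Helper49.IsRegUnip
        ((Matrix.SpecialLinearGroup.toGL (u : Matrix.SpecialLinearGroup (Fin n) K) : GL (Fin n) K) :
          Matrix (Fin n) (Fin n) K) := ⟨h1, h2⟩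
    obtain ⟨g, hgU, hg⟩ := Cfsg.Agent.Lib.Helper51.URU.exists_GU_conj hK hn1 u₀ _ hu₀ huU hreg hureg
    exact ⟨u, g, hgU, hu, by rw [mul_inv_eq_iff_eq_mul]; exact hg⟩
  choose U G hGU hU hG using hdata
  apply Nat.card_congr
  refine Equiv.ofBijective (fun C => θ (Cfsg.Agent.Lib.Helper51.URU.detN hK (G C) (hGU C))) ⟨?_, ?_⟩
  · intro C C' h
    have := (Cfsg.Agent.Lib.Helper51.URU.key hK hn1 u₀ hu₀ hreg θ hθ (U C) (U C') (G C) (G C')
      (hGU C) (hGU C') (hG C) (hG C')).mp h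
    apply Subtype.ext
    rw [← hU C, ← hU C']
    exact ConjClasses.mk_eq_mk_iff_isConj.mpr this
  · intro x
    obtain ⟨d, rfl⟩ := hθs x
    obtain ⟨gd, hgdU, hgd⟩ := Cfsg.Agent.Lib.Helper51.URU.exists_GU_det hK hn1 d
    set m : GL (Fin n) K := gd * u₀ * gd⁻¹ with hm
    have hmU : m ∈ Cfsg.GU n K q :=
      (Cfsg.GU n K q).mul_mem ((Cfsg.GU n K q).mul_mem hgdU hu₀) ((Cfsg.GU n K q).inv_mem hgdU)
    have hmreg : Cfsg.Agent.Lib.Helper49.IsRegUnip (m : Matrix (Fin n) (Fin n) K) := by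
      apply Cfsg.Agent.Lib.Helper49.IsRegUnip.of_conj gd _ hreg
      have : gd * u₀ = m * gd := by rw [hm]; group
      have := congrArg (fun x : GL (Fin n) K => (x : Matrix (Fin n) (Fin n) K)) this
      simpa using this
    let ud : ↥(Cfsg.SU n K q) := Cfsg.Agent.Lib.Helper51.URU.ofGU m hmU hmreg.det_eq_one
    have hud : Matrix.SpecialLinearGroup.toGL (ud : Matrix.SpecialLinearGroup (Fin n) K) = m :=
      Cfsg.Agent.Lib.Helper51.URU.toGL_ofGU m hmU hmreg.det_eq_one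
    let Cd : {C : ConjClasses ↥(Cfsg.SU n K q) // ∃ u : ↥(Cfsg.SU n K q), ConjClasses.mk u = C ∧ (((u : GL (Fin n) K) : Matrix (Fin n) (Fin n) K) - 1) ^ n = 0 ∧ (((u : GL (Fin n) K) : Matrix (Fin n) (Fin n) K) - 1).rank = n - 1} :=
      ⟨ConjClasses.mk ud, ud, rfl, hmreg.1, hmreg.2⟩
    refine ⟨Cd, ?_⟩
    have hconj : IsConj (U Cd) ud := ConjClasses.mk_eq_mk_iff_isConj.mp (hU Cd)
    have := (Cfsg.Agent.Lib.Helper51.URU.key hK hn1 u₀ hu₀ hreg θ hθ (U Cd) ud (G Cd) gd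
      (hGU Cd) hgdU (hG Cd) (by rw [hud])).mpr hconj
    simp only
    rw [this, hgd]

end Cfsg.Agent.S2643
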