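import Cfsg.Statements.S2645
import Cfsg.Agent.Lib.Helper49.PrimeOrderSpCount
import Cfsg.Agent.S2568

set_option autoImplicit false
open Cfsg

namespace Cfsg.Agent.S2645

/-- Number of conjugacy classes of elements of odd prime order r, r different from the characteristic, in the symplectic group Sp_2m(q): let i be the multiplicative order of q modulo r and t = (r − 1)/i. If i is odd the eigenvalue orbits pair off (Λ ≠ Λ⁻¹) and the classes correspond to the non-zero (t/2)-tuples (a_j) with 2i Σ a_j ≤ 2m, giving C(⌊m/i⌋ + t/2, t/2) − 1 classes; if i is even (Λ = Λ⁻¹) they correspond to the non-zero t-tuples with i Σ a_j ≤ 2m, giving C(⌊2m/i⌋ + t, t) − 1 classes. -/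
theorem result {F : Type*} [Field F] [Fintype F] {p q : ℕ} [Fact p.Prime] [CharP F p] (hF : Fintype.card F = q) (m r i t : ℕ) (hr : r.Prime) (hr2 : r ≠ 2) (hrp : r ≠ p) (hi : i = orderOf (q : ZMod r)) (ht : t * i = r - 1) : Nat.card {C : ConjClasses ↥(Matrix.symplecticGroup (Fin m) F) // ∃ g : Matrix.symplecticGroup (Fin m) F, ConjClasses.mk g = C ∧ orderOf g = r} = if Odd i then Nat.choose (m / i + t / 2) (t / 2) - 1 else Nat.choose (2 * m / i + t) t - 1 := by
  classical
  haveI : Fact r.Prime := ⟨hr⟩
  obtain ⟨f, _, hqf⟩ := FiniteField.card F p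
  rw [hF] at hqf
  have hK : Fintype.card F = p ^ (f : ℕ) := by rw [hF, hqf]
  have hi' : i = orderOf ((p ^ (f : ℕ) : ℕ) : ZMod r) := by rw [hi, hqf]
  have D := Cfsg.Agent.S2568.factorData hK r i hrp hi'
  have hp : p.Prime := Fact.out
  have hn : p.Coprime r := (Nat.coprime_primes hp hr).mpr (Ne.symm hrp)
  have hrF : (r : F) ≠ 0 := by
    intro h0
    rw [CharP.cast_eq_zero_iff F p] at h0
    exact hrp ((Nat.prime_dvd_prime_iff_eq hp hr).mp h0).symm
  haveI : NeZero (r : F) := ⟨hrF⟩
  have hΦ0 : Polynomial.cyclotomic r F ≠ 0 := Polynomial.cyclotomic_ne_zero r F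
  have hmon : ∀ P ∈ (UniqueFactorizationMonoid.normalizedFactors
      (Polynomial.cyclotomic r F)).toFinset, P.Monic := by
    intro P hP
    have hP1 := Multiset.mem_toFinset.mp hP
    rw [← UniqueFactorizationMonoid.normalize_normalized_factor P hP1]
    exact Polynomial.monic_normalize
      (UniqueFactorizationMonoid.irreducible_of_normalized_factor P hP1).ne_zero
  have hcard : (UniqueFactorizationMonoid.normalizedFactors
      (Polynomial.cyclotomic r F)).toFinset.card = t := by
    rw [Polynomial.normalizedFactors_cyclotomic_card hK hn, Nat.totient_prime hr]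
    have hord : orderOf (ZMod.unitOfCoprime _ (hn.pow_left (f : ℕ))) = i := by
      rw [hi', ← orderOf_units, ZMod.coe_unitOfCoprime]
    rw [hord, ← ht]
    exact Nat.mul_div_cancel _ D.hi
  by_cases hodd : Odd i
  · rw [if_pos hodd, Cfsg.Agent.Lib.Helper49.FactorData.card_classes_sp_odd p D hmon hr hr2 hrF hodd m,
      hcard]
  · rw [if_neg hodd]
    have hev : Even i := Nat.not_odd_iff_even.mp hodd
    have hi2 : i = orderOf ((Fintype.card F : ℕ) : ZMod r) := by rw [hi, hF]
    rw [Cfsg.Agent.Lib.Helper49.FactorData.card_classes_sp_even p D hmon hr hrF hi2 hev m, hcard]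


end Cfsg.Agent.S2645
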