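import Cfsg.Statements.S2646
import Cfsg.Agent.S0277
import Cfsg.Agent.Lib.Helper40.GUConj
import Cfsg.Agent.Lib.Helper73.UCHub


set_option autoImplicit false
open Cfsg
open Cfsg.Agent.Lib.Helper73.UC Cfsg.Agent.Lib.Helper73.UCSpec

namespace Cfsg.Agent.S2646

/-- Order of the centraliser in the general unitary group GU_n(q) of a unipotent element of given Jordan type: if u ∈ GU_n(q) (isometries of Σ u_i v_i^q over the field with q² elements) is similar to the unipotent matrix with a_i Jordan blocks of size i (all sizes at least 1), then its centraliser in GU_n(q) has order q^γ · Π_i |GU_(a_i)(q)| with γ = 2 Σ_(i<j) i a_i a_j + Σ_i (i − 1) a_i², the same exponent as in GL_n(q), where |GU_a(q)| = q^(a(a−1)/2) Π_(k=1)^a (q^k − (−1)^k). -/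
theorem result {K : Type*} [Field K] [Fintype K] {q n t : ℕ} (hK : Fintype.card K = q ^ 2) (d : Fin t → ℕ) (hd : ∀ k, 1 ≤ d k) (e : ((k : Fin t) × Fin (d k)) ≃ Fin n) (u : ↥(Cfsg.GU n K q)) (hu : IsConj (Matrix.reindex e e (Cfsg.jordanTypeMatrix d K)) ((u : GL (Fin n) K) : Matrix (Fin n) (Fin n) K)) : (Nat.card ↥(Subgroup.centralizer ({u} : Set ↥(Cfsg.GU n K q))) : ℤ) = (q : ℤ) ^ (2 * (∑ i ∈ Finset.range (Finset.univ.sup d + 1), ∑ j ∈ Finset.range (Finset.univ.sup d + 1), if i < j then i * (Finset.univ.filter (fun k : Fin t => d k = i)).card * (Finset.univ.filter (fun k : Fin t => d k = j)).card else 0) + ∑ i ∈ Finset.range (Finset.univ.sup d + 1), (i - 1) * (Finset.univ.filter (fun k : Fin t => d k = i)).card ^ 2) * ∏ i ∈ Finset.range (Finset.univ.sup d + 1), ((q : ℤ) ^ ((Finset.univ.filter (fun k : Fin t => d k = i)).card * ((Finset.univ.filter (fun k : Fin t => d k = i)).card - 1) / 2) * ∏ j : Fin (Finset.univ.filter (fun k : Fin t => d k = i)).card,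 ((q : ℤ) ^ ((j : ℕ) + 1) - (-1) ^ ((j : ℕ) + 1))) := by
  classical
  obtain ⟨φ, hφ, hφφ, _⟩ := Cfsg.Agent.Lib.Helper40.GUConj.exists_frob hK
  have hq1 : 1 < q := by
    have h1 : 1 < Fintype.card K := Fintype.one_lt_card
    rw [hK] at h1
    by_contra h
    push Not at h
    have : q ^ 2 ≤ 1 ^ 2 := Nat.pow_le_pow_left h 2
    omega
  have h1 := card_centralizer_GL_eq_mul hK φ hφ hφφ u
  have h2 := card_centralizer_GL_of_isConj (Q := q ^ 2) hK d hd e (u : GL (Fin n) K) hu
  have h3 := card_formsInv_of_isConj φ hφφ d e _ hu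
  obtain ⟨⟨α, hα⟩, ε, hε0, hε⟩ := exists_trace_one_skew hK φ hφ
  have hJ : Cfsg.jordanTypeMatrix d K = 1 + nilM d K := by
    unfold nilM
    abel
  have h4 := formsInv_one_add_eq_formsSA φ hφφ α ε hα hε hε0 (nilM d K) (isNilpotent_nilM d)
  obtain ⟨g, hg, hgN⟩ := exists_conj_cayley d α ε hε0
  have h5 := card_formsSA_of_conj φ hφφ (nilM d K) _ g hg hgN
  have h6 := card_formsSA_nilM_of (q := q) φ d hd (hankel_mem_iff d φ hφφ) (hankel_injective d)
    (isUnit_det_hankel_iff d hd)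
    (card_HC_units_of φ d hd (topC_mem_BDH d hd φ) (card_fiber_topC hK φ hφ hφφ d hd)
      (card_BDH_units φ d))
  have h7 := fun a => card_GL_eq_card_GU_mul_hermUnits hK φ hφ hφφ a
  have h8 := fun a => Cfsg.Agent.S0277.result (F := K) hK a
  -- number of invariant forms
  have hX : Nat.card (FormsInv φ ((u : GL (Fin n) K) : Matrix (Fin n) (Fin n) K)) =
      q ^ gam d * ∏ i ∈ Finset.range (Finset.univ.sup d + 1), hermUnits φ (mult d i) := by
    rw [h3, hJ, h4, h5, h6]
  have hHU : ∀ a, 0 < hermUnits φ a := by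
    intro a
    unfold hermUnits
    have : Nonempty {M : Matrix (Fin a) (Fin a) K // hadj φ M = M ∧ IsUnit M.det} := by
      refine ⟨⟨1, ?_, ?_⟩⟩
      · unfold hadj
        rw [Matrix.map_one _ (map_zero φ) (map_one φ), Matrix.transpose_one]
      · rw [Matrix.det_one]
        exact isUnit_one
    exact Nat.card_pos
  set A := Nat.card ↥(Subgroup.centralizer ({u} : Set ↥(Cfsg.GU n K q))) with hAdef
  set R := Finset.range (Finset.univ.sup d + 1) with hR
  have hkey : A * (q ^ gam d * ∏ i ∈ R, hermUnits φ (mult d i)) =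
      (q ^ gam d * ∏ i ∈ R, Nat.card ↥(Cfsg.GU (mult d i) K q)) *
        (q ^ gam d * ∏ i ∈ R, hermUnits φ (mult d i)) := by
    rw [← hX, ← h1, h2]
    have : ∀ i ∈ R, (∏ j : Fin (mult d i), ((q ^ 2) ^ mult d i - (q ^ 2) ^ (j : ℕ))) =
        Nat.card ↥(Cfsg.GU (mult d i) K q) * hermUnits φ (mult d i) := fun i _ => h7 (mult d i)
    rw [Finset.prod_congr rfl this, Finset.prod_mul_distrib, hX]
    ring
  have hpos : 0 < q ^ gam d * ∏ i ∈ R, hermUnits φ (mult d i) := by
    apply Nat.mul_pos (pow_pos (by omega) _)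
    exact Finset.prod_pos (fun i _ => hHU _)
  have hA : A = q ^ gam d * ∏ i ∈ R, Nat.card ↥(Cfsg.GU (mult d i) K q) :=
    Nat.eq_of_mul_eq_mul_right hpos hkey
  rw [hA]
  push_cast
  congr 1
  apply Finset.prod_congr rfl
  intro i _
  rw [h8 (mult d i)]
  push_cast
  congr 1
  refine Eq.trans ?_ (Fin.prod_univ_eq_prod_range
    (fun x : ℕ => ((q : ℤ) ^ (x + 1) - (-1) ^ (x + 1))) (mult d i)).symm
  apply Finset.prod_congr rfl
  intro j _
  have hq1' : 1 ≤ q ^ (j + 1) := Nat.one_le_pow _ _ (by omega)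
  by_cases hj : Even j
  · rw [if_pos hj]
    have : (-1 : ℤ) ^ (j + 1) = -1 := Odd.neg_one_pow (Even.add_one hj)
    rw [this]
    ring
  · rw [if_neg hj]
    have hj' : Odd j := Nat.not_even_iff_odd.mp hj
    have : (-1 : ℤ) ^ (j + 1) = 1 := Even.neg_one_pow (Odd.add_one hj')
    rw [this]
    push_cast [hq1']
    ring

end Cfsg.Agent.S2646
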