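import Cfsg.Statements.S2648
import Mathlib
import Cfsg.Agent.Lib.Helper44.WreathReach
import Cfsg.Agent.Lib.Helper44.SpNormalRank
import Cfsg.Agent.Lib.Helper07.SL2QuatMain
import Cfsg.Agent.Lib.Helper20.QuaternionFacts

set_option autoImplicit false
open Cfsg

namespace Cfsg.Agent.S2648

open Cfsg.Agent.Lib.Helper44 Equiv

lemma padicVal_card_sp {F : Type*} [Field F] [Fintype F] {q : ℕ} (hF : Fintype.card F = q)
    (hq : Odd q) (n : ℕ) :
    padicValNat 2 (Nat.card ↥(Matrix.symplecticGroup (Fin n) F)) =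
      n * padicValNat 2 (q ^ 2 - 1) + padicValNat 2 n.factorial := by
  have hq1 : 1 < q := by rw [← hF]; exact Fintype.one_lt_card
  have hG := Cfsg.Agent.Lib.Helper07.card_symplecticGroup hF n
  rw [hG, padicValNat.mul, padicVal_prod_sp hq hq1]
  · have : padicValNat 2 (q ^ (n ^ 2)) = 0 := by
      apply padicValNat.eq_zero_of_not_dvd
      rw [← even_iff_two_dvd]
      exact Nat.not_even_iff_odd.mpr hq.pow
    rw [this, zero_add]
  · exact pow_ne_zero _ (by omega)
  · apply Finset.prod_ne_zero_iff.mpr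
    intro i _
    have : 1 < q ^ (2 * (i + 1)) := Nat.one_lt_pow (by omega) hq1
    omega

/-- quaternion groups have derived length at most two -/
lemma quat_dser_two {G : Type*} [Group G] (Q : Subgroup G) (m : ℕ)
    (e : ↥Q ≃* QuaternionGroup m) : dser Q 2 = ⊥ := by
  rw [← derivedSeries_eq_bot_iff]
  have h1 : derivedSeries (QuaternionGroup m) 2 = ⊥ := by
    rw [derivedSeries_succ, Subgroup.commutator_eq_bot_iff_le_centralizer, derivedSeries_one]
    intro x hx
    rw [Subgroup.mem_centralizer_iff]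
    intro y hy
    exact Cfsg.Agent.Lib.Helper20.quat_commutator_comm y x hy hx
  have h2 := map_derivedSeries_eq (f := e.toMonoidHom) e.surjective 2
  rw [h1] at h2
  exact (Subgroup.map_eq_bot_iff_of_injective _ e.injective).mp h2

/-- generalized quaternion groups are nonabelian -/
lemma quat_noncomm {G : Type*} [Group G] (Q : Subgroup G) (m : ℕ) (hm : 2 ≤ m)
    (e : ↥Q ≃* QuaternionGroup m) : ∃ a ∈ Q, ∃ b ∈ Q, a * b ≠ b * a := by
  refine ⟨(e.symm (QuaternionGroup.a 1)).1, (e.symm (QuaternionGroup.a 1)).2,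
    (e.symm (QuaternionGroup.xa 0)).1, (e.symm (QuaternionGroup.xa 0)).2, ?_⟩
  intro h
  have h1 : e.symm (QuaternionGroup.a 1) * e.symm (QuaternionGroup.xa 0) =
      e.symm (QuaternionGroup.xa 0) * e.symm (QuaternionGroup.a 1) := Subtype.ext h
  rw [← map_mul, ← map_mul] at h1
  have h2 := e.symm.injective h1
  rw [QuaternionGroup.a_mul_xa, QuaternionGroup.xa_mul_a] at h2
  have h3 : (0 : ZMod (2 * m)) - 1 = 0 + 1 := by
    injection h2
  have h4 : ((2 : ℕ) : ZMod (2 * m)) = 0 := by
    push_cast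
    linear_combination -h3
  rw [ZMod.natCast_eq_zero_iff] at h4
  have := Nat.le_of_dvd (by norm_num) h4
  omega


/-- Let q be odd, F a field with q elements and n ≥ 1. A Sylow 2-subgroup R of the symplectic group Sp_{2n}(F) has derived length exactly k + 1, where 2^k ≤ 2n < 2^{k+1}: the (k+1)-st term of its derived series is trivial and the k-th is not. -/
theorem result {F : Type*} [Field F] [Fintype F] [DecidableEq F] (q : ℕ) (hF : Fintype.card F = q) (hq : Odd q) (n : ℕ) (hn : 1 ≤ n) (R : Sylow 2 ↥(Matrix.symplecticGroup (Fin n) F)) : derivedSeries ↥(R : Subgroup ↥(Matrix.symplecticGroup (Fin n) F)) (Nat.log 2 (2 * n) + 1) = ⊥ ∧ derivedSeries ↥(R : Subgroup ↥(Matrix.symplecticGroup (Fin n) F)) (Nat.log 2 (2 * n)) ≠ ⊥ := by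
  classical
  subst hF
  have hq1 : 1 < Fintype.card F := Fintype.one_lt_card
  have hn0 : n ≠ 0 := by omega
  have hlog : Nat.log 2 (2 * n) = Nat.log 2 n + 1 := by
    rw [mul_comm, Nat.log_mul_base (by norm_num) hn0]
  obtain ⟨S0⟩ : Nonempty (Sylow 2 (Matrix.SpecialLinearGroup (Fin 2) F)) := Sylow.nonempty
  obtain ⟨k, hk, ⟨e⟩⟩ := Cfsg.Agent.Lib.Helper07.sylow_two_SL_two_quaternion hq S0
  have hk2 : 2 ≤ 2 ^ k := by
    calc 2 = 2 ^ 1 := by norm_num
      _ ≤ 2 ^ k := Nat.pow_le_pow_right (by norm_num) hk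
  have hS0d : dser (S0 : Subgroup (Matrix.SpecialLinearGroup (Fin 2) F)) 2 = ⊥ :=
    quat_dser_two _ _ e
  obtain ⟨a, ha, b, hb, hab⟩ := quat_noncomm (S0 : Subgroup (Matrix.SpecialLinearGroup (Fin 2) F)) (2 ^ k) hk2 e
  have key : dser (R : Subgroup ↥(Matrix.symplecticGroup (Fin n) F)) (Nat.log 2 (2 * n) + 1) = ⊥ ∧
      dser (R : Subgroup ↥(Matrix.symplecticGroup (Fin n) F)) (Nat.log 2 (2 * n)) ≠ ⊥ := by
    constructor
    · obtain ⟨I, hI, hIc, hId⟩ := pGenD_all 2 n
      set T0 := (wrSub n (S0 : Subgroup (Matrix.SpecialLinearGroup (Fin 2) F))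
        (Subgroup.closure I)).map (wreathHom (F := F) n) with hT0
      have hcard : Nat.card T0 =
          2 ^ (Nat.card ↥(Matrix.symplecticGroup (Fin n) F)).factorization 2 := by
        rw [hT0, Subgroup.card_map_of_injective (wreathHom_injective n), card_wrSub, hIc,
          Sylow.card_eq_multiplicity S0, ← pow_mul, ← pow_add,
          Nat.factorization_def _ Nat.prime_two, Nat.factorization_def _ Nat.prime_two,
          padicVal_card_sp rfl hq n, padicVal_card_sl2 rfl hq hq1]
        congr 1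
        ring
      let P0 : Sylow 2 ↥(Matrix.symplecticGroup (Fin n) F) := Sylow.ofCard T0 hcard
      obtain ⟨g, hg⟩ := MulAction.exists_smul_eq ↥(Matrix.symplecticGroup (Fin n) F) P0 R
      have hP : (R : Subgroup ↥(Matrix.symplecticGroup (Fin n) F)) =
          T0.map (MulAut.conj g).toMonoidHom := by
        rw [← hg]
        rfl
      rw [hP, dser_map_eq_bot_iff _ (MulAut.conj g).injective, hT0,
        dser_map_eq_bot_iff _ (wreathHom_injective n), hlog, add_assoc]
      exact dser_wrSub_add_eq_bot n _ _ _ 2 hId hS0d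
    · obtain ⟨T, i₀, X, hT, hR⟩ := exists_two_subgroup_reach n hn0
      have hW := hR.dser_wrSub_ne_bot (S0 : Subgroup (Matrix.SpecialLinearGroup (Fin 2) F))
        a b ha hb hab
      set V := (wrSub n (S0 : Subgroup (Matrix.SpecialLinearGroup (Fin 2) F)) T).map
        (wreathHom (F := F) n) with hV
      have hVp : IsPGroup 2 V := by
        obtain ⟨c, hc⟩ := hT.exists_card_eq
        obtain ⟨d, hd⟩ := (S0.2).exists_card_eq
        apply IsPGroup.of_card (n := d * n + c)
        rw [hV, Subgroup.card_map_of_injective (wreathHom_injective n), card_wrSub, hc, hd,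
          ← pow_mul, ← pow_add]
      obtain ⟨Q, hQ⟩ := hVp.exists_le_sylow
      have h1 : dser (Q : Subgroup ↥(Matrix.symplecticGroup (Fin n) F))
          (Nat.log 2 n + 1) ≠ ⊥ := by
        intro hbot
        have h2 := dser_mono hQ (Nat.log 2 n + 1)
        rw [hbot, le_bot_iff, hV, dser_map_eq_bot_iff _ (wreathHom_injective n)] at h2
        exact hW h2
      obtain ⟨g, hg⟩ := MulAction.exists_smul_eq ↥(Matrix.symplecticGroup (Fin n) F) R Q
      have hQP : (Q : Subgroup ↥(Matrix.symplecticGroup (Fin n) F)) =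
          (R : Subgroup ↥(Matrix.symplecticGroup (Fin n) F)).map
            (MulAut.conj g).toMonoidHom := by
        rw [← hg]
        rfl
      rw [hQP, Ne, dser_map_eq_bot_iff _ (MulAut.conj g).injective] at h1
      rw [hlog]
      exact h1
  refine ⟨?_, ?_⟩
  · rw [derivedSeries_eq_bot_iff]
    exact key.1
  · rw [Ne, derivedSeries_eq_bot_iff]
    exact key.2

end Cfsg.Agent.S2648
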