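import Cfsg.Statements.S2669

set_option autoImplicit false
open Cfsg

namespace Cfsg.Agent.S2669

theorem pow_fix {X : Type*} [Group X] (σ : MulAut X) (y : X) (h : σ y = y) (e : ℕ) : (σ ^ e) y = y := by
  induction e with
  | zero => simp
  | succ n ih => rw [pow_succ, MulAut.mul_apply, h, ih]

theorem pow_stable {X : Type*} [Group X] (σ : MulAut X) (Y : Subgroup X)
    (hY : ∀ y : X, y ∈ Y ↔ σ y ∈ Y) (e : ℕ) (y : X) : y ∈ Y ↔ (σ ^ e) y ∈ Y := by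
  induction e with
  | zero => simp
  | succ n ih => rw [pow_succ', MulAut.mul_apply, ← hY]; exact ih

/-- The counting equivalence: pairs `(p, q)` with `p⁻¹ a q ∈ Y`. -/
noncomputable def pairEquiv {X : Type*} [Group X] (P Q Y : Subgroup X) (a : X) :
    {p : ↥P × ↥Q // (p.1 : X)⁻¹ * a * (p.2 : X) ∈ Y} ≃
      {q : ↥Q // ∃ p : ↥P, (p : X)⁻¹ * a * (q : X) ∈ Y} × ↥(Y ⊓ P) where
  toFun z := (⟨z.1.2, ⟨z.1.1, z.2⟩⟩,
    ⟨((Classical.choose (⟨z.1.1, z.2⟩ : ∃ p : ↥P, (p : X)⁻¹ * a * (z.1.2 : X) ∈ Y) : ↥P) : X)⁻¹ * (z.1.1 : X), by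
      have h0 := Classical.choose_spec (⟨z.1.1, z.2⟩ : ∃ p : ↥P, (p : X)⁻¹ * a * (z.1.2 : X) ∈ Y)
      refine ⟨?_, P.mul_mem (P.inv_mem (Subtype.mem _)) (Subtype.mem _)⟩
      have h1 := Y.mul_mem h0 (Y.inv_mem z.2)
      have h2 : ((Classical.choose (⟨z.1.1, z.2⟩ : ∃ p : ↥P, (p : X)⁻¹ * a * (z.1.2 : X) ∈ Y) : ↥P) : X)⁻¹ * a * (z.1.2 : X) * ((z.1.1 : X)⁻¹ * a * (z.1.2 : X))⁻¹ = ((Classical.choose (⟨z.1.1, z.2⟩ : ∃ p : ↥P, (p : X)⁻¹ * a * (z.1.2 : X) ∈ Y) : ↥P) : X)⁻¹ * (z.1.1 : X) := by group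
      rw [h2] at h1
      exact h1⟩)
  invFun w := ⟨(⟨((Classical.choose w.1.2 : ↥P) : X) * (w.2 : X),
      P.mul_mem (Subtype.mem _) w.2.2.2⟩, w.1.1), by
    have h0 := Classical.choose_spec w.1.2
    have h1 := Y.mul_mem (Y.inv_mem w.2.2.1) h0
    have h2 : ((w.2 : X))⁻¹ * (((Classical.choose w.1.2 : ↥P) : X)⁻¹ * a * (w.1.1 : X)) =
        (((Classical.choose w.1.2 : ↥P) : X) * (w.2 : X))⁻¹ * a * (w.1.1 : X) := by group
    rw [h2] at h1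
    exact h1⟩
  left_inv z := by
    apply Subtype.ext
    apply Prod.ext
    · apply Subtype.ext
      simp
    · rfl
  right_inv w := by
    apply Prod.ext
    · rfl
    · apply Subtype.ext
      simp

theorem card_pairs {X : Type*} [Group X] (P Q Y : Subgroup X) (a : X) :
    Nat.card {p : ↥P × ↥Q // (p.1 : X)⁻¹ * a * (p.2 : X) ∈ Y} =
      Nat.card {q : ↥Q // ∃ p : ↥P, (p : X)⁻¹ * a * (q : X) ∈ Y} * Nat.card ↥(Y ⊓ P) := by
  rw [Nat.card_congr (pairEquiv P Q Y a), Nat.card_prod]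

/-- swapping the two coordinates and inverting -/
def swapEquiv {X : Type*} [Group X] (P Q Y : Subgroup X) (a : X) :
    {p : ↥P × ↥Q // (p.1 : X)⁻¹ * a * (p.2 : X) ∈ Y} ≃
      {p : ↥Q × ↥P // (p.1 : X)⁻¹ * a⁻¹ * (p.2 : X) ∈ Y} where
  toFun z := ⟨(z.1.2, z.1.1), by
    have h := Y.inv_mem z.2
    have h2 : ((z.1.1 : X)⁻¹ * a * (z.1.2 : X))⁻¹ = (z.1.2 : X)⁻¹ * a⁻¹ * (z.1.1 : X) := by group
    rw [h2] at h
    exact h⟩
  invFun z := ⟨(z.1.2, z.1.1), by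
    have h := Y.inv_mem z.2
    have h2 : ((z.1.1 : X)⁻¹ * a⁻¹ * (z.1.2 : X))⁻¹ = (z.1.2 : X)⁻¹ * a * (z.1.1 : X) := by group
    rw [h2] at h
    exact h⟩
  left_inv z := rfl
  right_inv z := rfl

theorem double_count {X : Type*} [Group X] (P Q Y : Subgroup X) (a : X) :
    Nat.card {q : ↥Q // ∃ p : ↥P, (p : X)⁻¹ * a * (q : X) ∈ Y} * Nat.card ↥(Y ⊓ P) =
      Nat.card {p : ↥P // ∃ q : ↥Q, (q : X)⁻¹ * a⁻¹ * (p : X) ∈ Y} * Nat.card ↥(Y ⊓ Q) := by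
  rw [← card_pairs, ← card_pairs, Nat.card_congr (swapEquiv P Q Y a)]

/-- Shintani descent preserves numbers of fixed points on coset spaces (abstract form). Let `σ` be an automorphism of a group `X` and `e ≥ 1`; write `G` for the fixed points of `σᵉ` and `H` for the fixed points of `σ`, and assume `G` is finite. Let `Y` be a `σ`-stable subgroup of `X` on which the maps `a ↦ a σ(a)⁻¹` and `a ↦ a σᵉ(a)⁻¹` are surjective (as for a closed connected `σ`-stable subgroup of an algebraic group). Let `g ∈ G`, let `a ∈ X` satisfy `g = a σ(a)⁻¹` and put `x = σᵉ(a)⁻¹ a` (the Shintani image, an element of `H`). The element `g σ` of the semidirect product acts on the cosets of `Y ∩ G` in `G` by `k (Y ∩ G) ↦ g σ(k) (Y ∩ G)`, fixing that coset exactly when `k⁻¹ g σ(k) ∈ Y`; and `x` fixes the coset `h (Y ∩ H)` of `H` exactly when `h⁻¹ x h ∈ Y`. Then the two numbers of fixed cosets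 agree; in cross-multiplied form, `#{k ∈ G : k⁻¹ g σ(k) ∈ Y} · |Y ∩ H| = #{h ∈ H : h⁻¹ x h ∈ Y} · |Y ∩ G|`. -/
theorem result {X : Type*} [Group X] (σ : MulAut X) (e : ℕ) (he : 1 ≤ e)
    [Finite ↥((MulEquiv.toMonoidHom (σ ^ e)).eqLocus (MonoidHom.id X))]
    (Y : Subgroup X) (hY : ∀ y : X, y ∈ Y ↔ σ y ∈ Y)
    (hYL : ∀ y ∈ Y, ∃ a ∈ Y, y = a * (σ a)⁻¹) (hYLe : ∀ y ∈ Y, ∃ a ∈ Y, y = a * ((σ ^ e) a)⁻¹)
    (g : X) (hg : g ∈ (MulEquiv.toMonoidHom (σ ^ e)).eqLocus (MonoidHom.id X)) (a : X) (ha : g = a * (σ a)⁻¹) :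
    Nat.card {k : ↥((MulEquiv.toMonoidHom (σ ^ e)).eqLocus (MonoidHom.id X)) // (k : X)⁻¹ * g * σ k ∈ Y} *
        Nat.card ↥(Y ⊓ (MulEquiv.toMonoidHom σ).eqLocus (MonoidHom.id X)) =
      Nat.card {h : ↥((MulEquiv.toMonoidHom σ).eqLocus (MonoidHom.id X)) // (h : X)⁻¹ * (((σ ^ e) a)⁻¹ * a) * h ∈ Y} *
        Nat.card ↥(Y ⊓ (MulEquiv.toMonoidHom (σ ^ e)).eqLocus (MonoidHom.id X)) := by
  have hg' : (σ ^ e) g = g := hg
  subst ha
  set G : Subgroup X := (MulEquiv.toMonoidHom (σ ^ e)).eqLocus (MonoidHom.id X) with hG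
  set H : Subgroup X := (MulEquiv.toMonoidHom σ).eqLocus (MonoidHom.id X) with hH
  have memG : ∀ y : X, y ∈ G ↔ (σ ^ e) y = y := fun _ => Iff.rfl
  have memH : ∀ y : X, y ∈ H ↔ σ y = y := fun _ => Iff.rfl
  have hYe := pow_stable σ Y hY e
  have hdc := double_count G H Y a
  -- first set
  have hA : ∀ k : ↥G, ((k : X)⁻¹ * (a * (σ a)⁻¹) * σ k ∈ Y) ↔
      ∃ h : ↥H, (h : X)⁻¹ * a⁻¹ * (k : X) ∈ Y := by
    intro k
    constructor
    · intro hk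
      obtain ⟨y, hyY, hy⟩ := hYL _ hk
      have hfix : σ (a⁻¹ * k * y) = a⁻¹ * k * y := by
        rw [map_mul, map_mul, map_inv]
        have h1 : σ (k : X) = (σ a) * a⁻¹ * (k : X) * ((k : X)⁻¹ * (a * (σ a)⁻¹) * σ k) := by group
        rw [h1, hy]; group
      refine ⟨⟨a⁻¹ * k * y, hfix⟩, ?_⟩
      have h2 : (a⁻¹ * (k : X) * y)⁻¹ * a⁻¹ * (k : X) = y⁻¹ * (a⁻¹ * (a⁻¹)⁻¹) := by group
      show (a⁻¹ * (k : X) * y)⁻¹ * a⁻¹ * (k : X) ∈ Y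
      rw [h2]
      simpa using hyY
    · rintro ⟨h, hh⟩
      have hhfix : σ (h : X) = h := h.2
      set y := (h : X)⁻¹ * a⁻¹ * (k : X) with hy
      have hk : (k : X) = a * h * y := by rw [hy]; group
      rw [hk, map_mul, map_mul, hhfix]
      have h3 : (a * ↑h * y)⁻¹ * (a * (σ a)⁻¹) * (σ a * ↑h * σ y) = y⁻¹ * σ y := by group
      rw [h3]
      exact Y.mul_mem (Y.inv_mem hh) ((hY y).1 hh)
  have hB : ∀ h : ↥H, ((h : X)⁻¹ * (((σ ^ e) a)⁻¹ * a) * (h : X) ∈ Y) ↔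
      ∃ k : ↥G, (k : X)⁻¹ * a * (h : X) ∈ Y := by
    intro h
    have hhfix : (σ ^ e) (h : X) = h := pow_fix σ _ h.2 e
    constructor
    · intro hh
      obtain ⟨y, hyY, hy⟩ := hYLe _ (Y.inv_mem hh)
      have hfix : (σ ^ e) (a * h * y) = a * h * y := by
        rw [map_mul, map_mul, hhfix]
        have h1 : (σ ^ e) y = (y⁻¹ * ((h : X)⁻¹ * (((σ ^ e) a)⁻¹ * a) * (h : X))⁻¹)⁻¹ := by
          rw [hy]; group
        rw [h1]; group
      refine ⟨⟨a * h * y, hfix⟩, ?_⟩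
      show (a * (h : X) * y)⁻¹ * a * (h : X) ∈ Y
      have h2 : (a * (h : X) * y)⁻¹ * a * (h : X) = y⁻¹ := by group
      rw [h2]
      exact Y.inv_mem hyY
    · rintro ⟨k, hk⟩
      have hkfix : (σ ^ e) (k : X) = k := k.2
      set y := (k : X)⁻¹ * a * (h : X) with hy
      have ha : a = k * y * (h : X)⁻¹ := by rw [hy]; group
      have h3 : (h : X)⁻¹ * (((σ ^ e) a)⁻¹ * a) * (h : X) = ((σ ^ e) y)⁻¹ * y := by
        conv_lhs => rw [ha]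
        rw [map_mul, map_mul, map_inv, hhfix, hkfix]; group
      rw [h3]
      exact Y.mul_mem (Y.inv_mem ((hYe y).1 hk)) hk
  have eA : Nat.card {k : ↥G // (k : X)⁻¹ * (a * (σ a)⁻¹) * σ k ∈ Y} =
      Nat.card {p : ↥G // ∃ q : ↥H, (q : X)⁻¹ * a⁻¹ * (p : X) ∈ Y} :=
    Nat.card_congr (Equiv.subtypeEquivRight hA)
  have eB : Nat.card {h : ↥H // (h : X)⁻¹ * (((σ ^ e) a)⁻¹ * a) * (h : X) ∈ Y} =
      Nat.card {q : ↥H // ∃ p : ↥G, (p : X)⁻¹ * a * (q : X) ∈ Y} :=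
    Nat.card_congr (Equiv.subtypeEquivRight hB)
  rw [eA, eB]
  exact hdc.symm

end Cfsg.Agent.S2669
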