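import Cfsg.Statements.S2670
import Cfsg.Agent.Lib.Helper49.Necklace
import Cfsg.Agent.Lib.Helper49.SplitEig
import Cfsg.Agent.Lib.Helper49.PGLTools

set_option autoImplicit false
open Cfsg

namespace Cfsg.Agent.S2670

open Polynomial Cfsg.Agent.Lib.Helper49

section aux

variable {F : Type*} [Field F] [Fintype F] {n r : ℕ}

/-- `r`-th roots of unity -/
abbrev RU (F : Type*) [Field F] (r : ℕ) : Subgroup Fˣ := (powMonoidHom r : Fˣ →* Fˣ).ker

/-- `r`-th powers -/
abbrev RP (F : Type*) [Field F] (r : ℕ) : Subgroup Fˣ := (powMonoidHom r : Fˣ →* Fˣ).range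

omit [Fintype F] in
theorem mem_RU (x : Fˣ) : x ∈ RU F r ↔ x ^ r = 1 := by
  rw [MonoidHom.mem_ker, powMonoidHom_apply]

omit [Fintype F] in
theorem mem_RP (x : Fˣ) : x ∈ RP F r ↔ ∃ c : Fˣ, c ^ r = x := by
  rw [MonoidHom.mem_range]
  simp only [powMonoidHom_apply]

theorem card_RU (hrq : r ∣ Fintype.card F - 1) : Nat.card (RU F r) = r := by
  classical
  rw [IsCyclic.card_powMonoidHom_ker, Nat.card_eq_fintype_card, Fintype.card_units,
    Nat.gcd_eq_right hrq]

theorem index_RP (hrq : r ∣ Fintype.card F - 1) : (RP F r).index = r := by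
  classical
  rw [IsCyclic.index_powMonoidHom_range, Nat.card_eq_fintype_card, Fintype.card_units,
    Nat.gcd_eq_right hrq]

/-- the eigenvalue attached to a root of unity -/
def ev (F : Type*) [Field F] (r : ℕ) : RU F r → F := fun ω => ((ω : Fˣ) : F)

omit [Fintype F] in
theorem ev_injective : Function.Injective (ev F r) :=
  fun _ _ h => Subtype.ext (Units.ext h)

omit [Fintype F] in
theorem ev_pow (ω : RU F r) : ev F r ω ^ r = 1 := by
  have := (mem_RU (ω : Fˣ)).mp ω.2
  unfold ev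
  rw [← Units.val_pow_eq_pow_val, this, Units.val_one]

omit [Fintype F] in
theorem ev_ne_zero (ω : RU F r) : ev F r ω ≠ 0 := Units.ne_zero _

variable [Fintype (RU F r)]

theorem splitPoly_ev (hr : r.Prime) (hrq : r ∣ Fintype.card F - 1) :
    splitPoly (ev F r) = (X ^ r - 1 : F[X]) :=
  splitPoly_eq_X_pow_sub_one (ev F r) ev_injective r hr.pos
    (by rw [← Nat.card_eq_fintype_card, card_RU hrq]) ev_pow

/-- profile of an element of `GL` -/
noncomputable def prof (r : ℕ) (g : GL (Fin n) F) : RU F r → ℕ :=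
  fun ω => ed (Matrix.toLin' (g : Matrix (Fin n) (Fin n) F)) (ev F r ω)

theorem aeval_splitPoly (hr : r.Prime) (hrq : r ∣ Fintype.card F - 1) (g : GL (Fin n) F)
    (hg : g ^ r = 1) :
    aeval (Matrix.toLin' (g : Matrix (Fin n) (Fin n) F)) (splitPoly (ev F r)) = 0 := by
  rw [splitPoly_ev hr hrq]
  exact aeval_toLin'_pow_sub_one g r hg

theorem prof_sum (hr : r.Prime) (hrq : r ∣ Fintype.card F - 1) (g : GL (Fin n) F)
    (hg : g ^ r = 1) : ∑ ω, prof r g ω = n := by
  have := finrank_eq_sum_ed (ev F r) ev_injective _ (aeval_splitPoly hr hrq g hg)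
  rw [Module.finrank_fin_fun] at this
  exact this.symm

omit [Fintype F] [Fintype (RU F r)] in
theorem prof_ne (hn : 0 < n) (g : GL (Fin n) F) (hgz : g ∉ Subgroup.center (GL (Fin n) F))
    (ω : RU F r) : prof r g ω ≠ n :=
  fun h => hgz (gl_mem_center_of_ed_eq hn g _ h)

theorem isConj_of_prof_eq (hr : r.Prime) (hrq : r ∣ Fintype.card F - 1) (g g' : GL (Fin n) F)
    (hg : g ^ r = 1) (hg' : g' ^ r = 1) (h : ∀ ω, prof r g ω = prof r g' ω) : IsConj g g' := by
  obtain ⟨e, he⟩ := exists_equiv_of_ed_eq (ev F r) ev_injective _ _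
    (aeval_splitPoly hr hrq g hg) (aeval_splitPoly hr hrq g' hg') h
  exact isConj_of_equiv g g' e he

omit [Fintype F] [Fintype (RU F r)] in
theorem prof_gsc_mul (c : RU F r) (g : GL (Fin n) F) (ω : RU F r) :
    prof r (gsc n (ev F r c) (ev_ne_zero c) * g) ω = prof r g (c⁻¹ * ω) := by
  unfold prof
  rw [toLin'_gsc_mul]
  have h : ev F r ω = ev F r c * ev F r (c⁻¹ * ω) := by
    unfold ev
    rw [← Units.val_mul, ← Subgroup.coe_mul, mul_inv_cancel_left]
  rw [h, ed_smul _ _ (ev_ne_zero c)]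

omit [Fintype F] [Fintype (RU F r)] in
theorem prof_conj (c g : GL (Fin n) F) (ω : RU F r) :
    prof r (c * g * c⁻¹) ω = prof r g ω := by
  unfold prof ed
  exact (kdim_eq_of_isConj g (c * g * c⁻¹) (isConj_iff.mpr ⟨c, rfl⟩) _).symm

theorem exists_gl_of_prof (hr : r.Prime) (hrq : r ∣ Fintype.card F - 1)
    (a : Prof (RU F r) n) :
    ∃ g : GL (Fin n) F, g ^ r = 1 ∧ ∀ ω, prof r g ω = a.1 ω := by
  obtain ⟨G, hG1, hG2⟩ := exists_matrix_of_profile (ev F r) ev_injective n a.1 a.2.1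
  rw [splitPoly_ev hr hrq] at hG1
  have hGr : G ^ r = 1 := by
    rw [map_sub, map_pow, aeval_X, map_one] at hG1
    exact sub_eq_zero.mp hG1
  obtain ⟨r', rfl⟩ : ∃ r', r = r' + 1 := ⟨r - 1, by have := hr.pos; omega⟩
  let g : GL (Fin n) F := ⟨G, G ^ r', by rw [← pow_succ', hGr], by rw [← pow_succ, hGr]⟩
  refine ⟨g, ?_, fun ω => hG2 ω⟩
  apply Units.ext
  rw [Units.val_pow_eq_pow_val, Units.val_one]
  exact hGr

omit [Fintype F] in
theorem not_mem_center_of_prof (hn : 0 < n) (g : GL (Fin n) F) (hg : g ^ r = 1)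
    (a : Prof (RU F r) n) (h : ∀ ω, prof r g ω = a.1 ω) :
    g ∉ Subgroup.center (GL (Fin n) F) := by
  intro hz
  obtain ⟨c, hc0, hc⟩ := exists_gsc_of_mem_center g hz
  have hcr : c ^ r = 1 := by
    rw [hc, gsc_pow] at hg
    have h1 : gsc n (c ^ r) (pow_ne_zero r hc0) = gsc n 1 one_ne_zero := by rw [hg, gsc_one]
    exact gsc_inj hn _ _ h1
  let ω : RU F r := ⟨Units.mk0 c hc0, (mem_RU _).mpr (Units.ext (by
    rw [Units.val_pow_eq_pow_val, Units.val_mk0, hcr, Units.val_one]))⟩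
  have h1 : prof r g ω = n := by
    unfold prof
    apply ed_of_scalar
    rw [hc, gsc_val]
    rfl
  exact a.2.2 ω ((h ω).symm.trans h1)

/-- the class of a nonzero scalar modulo `r`-th powers -/
def qcl (r : ℕ) (lam : F) (hlam : lam ≠ 0) : Fˣ ⧸ RP F r := QuotientGroup.mk (Units.mk0 lam hlam)

omit [Fintype F] [Fintype (RU F r)] in
theorem qcl_eq_one_iff (hr : 0 < r) (lam : F) (hlam : lam ≠ 0) :
    qcl r lam hlam = 1 ↔ ∃ c : F, c ^ r = lam := by
  unfold qcl
  rw [QuotientGroup.eq_one_iff, mem_RP]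
  constructor
  · rintro ⟨c, hc⟩
    refine ⟨(c : F), ?_⟩
    rw [← Units.val_pow_eq_pow_val, hc, Units.val_mk0]
  · rintro ⟨c, hc⟩
    have hc0 : c ≠ 0 := by
      rintro rfl
      rw [zero_pow hr.ne'] at hc; exact hlam hc.symm
    exact ⟨Units.mk0 c hc0, Units.ext (by rw [Units.val_pow_eq_pow_val, Units.val_mk0, hc,
      Units.val_mk0])⟩

omit [Fintype F] [Fintype (RU F r)] in
theorem qcl_mul_pow (c lam : F) (hc : c ≠ 0) (hlam : lam ≠ 0) :
    qcl r (c ^ r * lam) (mul_ne_zero (pow_ne_zero r hc) hlam) = qcl r lam hlam := by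
  unfold qcl
  rw [QuotientGroup.eq, mem_RP]
  refine ⟨(Units.mk0 c hc)⁻¹, ?_⟩
  rw [eq_inv_mul_iff_mul_eq]
  apply Units.ext
  simp only [Units.val_pow_eq_pow_val, Units.val_mul, Units.val_inv_eq_inv_val, Units.val_mk0]
  rw [inv_pow, mul_comm (c ^ r) lam, mul_assoc, mul_inv_cancel₀ (pow_ne_zero r hc), mul_one]

omit [Fintype F] [Fintype (RU F r)] in
theorem exists_of_qcl_eq (lam lam' : F) (hlam : lam ≠ 0) (hlam' : lam' ≠ 0)
    (h : qcl r lam hlam = qcl r lam' hlam') : ∃ c : F, c ≠ 0 ∧ lam' = c ^ r * lam := by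
  unfold qcl at h
  rw [QuotientGroup.eq, mem_RP] at h
  obtain ⟨c, hc⟩ := h
  refine ⟨(c : F), Units.ne_zero c, ?_⟩
  have h1 := congrArg (fun u : Fˣ => (u : F)) hc
  simp only [Units.val_pow_eq_pow_val, Units.val_mul, Units.val_inv_eq_inv_val,
    Units.val_mk0] at h1
  rw [h1]
  field_simp

omit [Fintype F] [Fintype (RU F r)] in
/-- the scalar `g ^ r` is a class invariant modulo `r`-th powers -/
theorem lam_rel (hn : 0 < n) (g g' : GL (Fin n) F)
    (hconj : IsConj (QuotientGroup.mk g : GL (Fin n) F ⧸ Subgroup.center (GL (Fin n) F))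
      (QuotientGroup.mk g'))
    (lam lam' : F) (hlam : lam ≠ 0) (hlam' : lam' ≠ 0)
    (hg : g ^ r = gsc n lam hlam) (hg' : g' ^ r = gsc n lam' hlam') :
    ∃ (μ : F) (hμ : μ ≠ 0), lam' = μ ^ r * lam ∧
      ∃ c : GL (Fin n) F, g' = gsc n μ hμ * (c * g * c⁻¹) := by
  obtain ⟨c, μ, hμ, rfl⟩ := (isConj_mk_iff g g').mp hconj
  refine ⟨μ, hμ, ?_, c, rfl⟩
  have h1 : (c * g * c⁻¹) ^ r = gsc n lam hlam := by
    rw [conj_pow, hg, conj_gsc]
  rw [gsc_mul_pow μ hμ _ r lam hlam h1] at hg'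
  exact (gsc_inj hn _ _ hg').symm

omit [Fintype F] [Fintype (RU F r)] in
theorem irreducible_of_qcl_ne (hr : r.Prime) (lam : F) (hlam : lam ≠ 0)
    (h : qcl r lam hlam ≠ 1) : Irreducible (X ^ r - C lam : F[X]) := by
  rw [X_pow_sub_C_irreducible_iff_of_prime hr]
  intro b hb
  exact h ((qcl_eq_one_iff hr.pos lam hlam).mpr ⟨b, hb⟩)

omit [Fintype F] [Fintype (RU F r)] in
theorem val_pow_of_pow_eq_gsc (g : GL (Fin n) F) (lam : F) (hlam : lam ≠ 0)
    (hg : g ^ r = gsc n lam hlam) :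
    (g : Matrix (Fin n) (Fin n) F) ^ r = lam • (1 : Matrix (Fin n) (Fin n) F) := by
  rw [← Units.val_pow_eq_pow_val, hg, gsc_val]

omit [Fintype (RU F r)] in
theorem dvd_of_irreducible (g : GL (Fin n) F) (lam : F) (hlam : lam ≠ 0)
    (hirr : Irreducible (X ^ r - C lam : F[X])) (hg : g ^ r = gsc n lam hlam) : r ∣ n := by
  have := natDegree_dvd_finrank_of_irreducible (Matrix.toLin' (g : Matrix (Fin n) (Fin n) F)) _ hirr
    (aeval_toLin'_X_pow_sub_C _ r lam (val_pow_of_pow_eq_gsc g lam hlam hg))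
  rwa [natDegree_X_pow_sub_C, Module.finrank_fin_fun] at this

omit [Fintype (RU F r)] in
theorem isConj_of_lam (g g' : GL (Fin n) F) (lam : F) (hlam : lam ≠ 0)
    (hirr : Irreducible (X ^ r - C lam : F[X])) (hg : g ^ r = gsc n lam hlam)
    (hg' : g' ^ r = gsc n lam hlam) : IsConj g g' := by
  obtain ⟨e, he⟩ := exists_equiv_of_irreducible (Matrix.toLin' (g : Matrix (Fin n) (Fin n) F))
    (Matrix.toLin' (g' : Matrix (Fin n) (Fin n) F)) _ hirr
    (aeval_toLin'_X_pow_sub_C _ r lam (val_pow_of_pow_eq_gsc g lam hlam hg))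
    (aeval_toLin'_X_pow_sub_C _ r lam (val_pow_of_pow_eq_gsc g' lam hlam hg')) rfl
  exact isConj_of_equiv g g' e he

omit [Fintype (RU F r)] in
theorem exists_gl_of_lam (hr : 0 < r) (lam : F) (hlam : lam ≠ 0)
    (hirr : Irreducible (X ^ r - C lam : F[X])) (hdvd : r ∣ n) :
    ∃ g : GL (Fin n) F, g ^ r = gsc n lam hlam := by
  obtain ⟨k, hk⟩ := hdvd
  let Q : Fin k → F[X] := fun _ => X ^ r - C lam
  have hQ : ∀ j, Irreducible (Q j) := fun _ => hirr
  haveI := finiteDimensional_model Q hQ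
  have hfr : Module.finrank F ((j : Fin k) → AdjoinRoot (Q j)) = n := by
    rw [finrank_model Q hQ]
    simp only [Q, natDegree_X_pow_sub_C, Finset.sum_const, Finset.card_univ, Fintype.card_fin,
      smul_eq_mul]
    rw [hk, mul_comm]
  obtain ⟨G, hG1, _⟩ := exists_matrix_of_operator (modelOp Q) n hfr
  have hGs := hG1 (X ^ r - C lam) (aeval_modelOp_eq_zero Q _ (fun j => dvd_rfl))
  have hGG := pow_eq_of_aeval_X_pow_sub_C G r lam hGs
  obtain ⟨r', rfl⟩ : ∃ r', r = r' + 1 := ⟨r - 1, by omega⟩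
  refine ⟨glOfPow G r' lam hlam hGG, ?_⟩
  apply Units.ext
  rw [Units.val_pow_eq_pow_val, glOfPow_val, hGG, gsc_val]

omit [Fintype F] [Fintype (RU F r)] in
theorem not_mem_center_of_lam (hn : 0 < n) (hr : 0 < r) (g : GL (Fin n) F) (lam : F)
    (hlam : lam ≠ 0) (hq : qcl r lam hlam ≠ 1) (hg : g ^ r = gsc n lam hlam) :
    g ∉ Subgroup.center (GL (Fin n) F) := by
  intro hz
  obtain ⟨c, hc0, hc⟩ := exists_gsc_of_mem_center g hz
  rw [hc, gsc_pow] at hg
  exact hq ((qcl_eq_one_iff hr lam hlam).mpr ⟨c, gsc_inj hn _ _ hg⟩)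

omit [Fintype F] [Fintype (RU F r)] in
theorem qcl_congr {lam lam' : F} (hlam : lam ≠ 0) (h : lam = lam') :
    qcl r lam hlam = qcl r lam' (h ▸ hlam) := by
  subst h; rfl

omit [Fintype F] [Fintype (RU F r)] in
theorem qcl_one : qcl r (1 : F) one_ne_zero = 1 := by
  unfold qcl
  rw [QuotientGroup.eq_one_iff]
  have : Units.mk0 (1 : F) one_ne_zero = 1 := Units.ext rfl
  rw [this]
  exact Subgroup.one_mem _

end aux

/-- Number of conjugacy classes of elements of prime order r in PGL_n(q) = GL_n(q)/scalars when r divides q − 1 (n ≥ 2): the classes of elements with a diagonalisable lift correspond to the orbits of the cyclic rotation on the r-tuples of eigenvalue multiplicities (a_0, …, a_(r−1)) summing to n with every a_j < n, and when r divides n there are r − 1 further classes (lifts acting irreducibly on blocks of size r); in all (C(n+r−1, r−1) − r − [r ∣ n])/r + r·[r ∣ n] classes. -/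
theorem result {F : Type*} [Field F] [Fintype F] {q : ℕ} (hF : Fintype.card F = q) {n r : ℕ} (hn : 2 ≤ n) (hr : r.Prime) (hrq : r ∣ q - 1) : Nat.card {C : ConjClasses (GL (Fin n) F ⧸ Subgroup.center (GL (Fin n) F)) // ∃ g : GL (Fin n) F ⧸ Subgroup.center (GL (Fin n) F), ConjClasses.mk g = C ∧ orderOf g = r} = (Nat.choose (n + r - 1) (r - 1) - r - (if r ∣ n then 1 else 0)) / r + r * (if r ∣ n then 1 else 0) := by
  classical
  subst hF
  have hn0 : 0 < n := by omega
  letI : Fintype (RU F r) := Fintype.ofFinite _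
  have hcardH : Fintype.card (RU F r) = r := by rw [← Nat.card_eq_fintype_card, card_RU hrq]
  -- type A representatives
  have hA := fun a : Prof (RU F r) n => exists_gl_of_prof hr hrq a
  choose gA hgA1 hgA2 using hA
  have hAz : ∀ a, gA a ∉ Subgroup.center (GL (Fin n) F) :=
    fun a => not_mem_center_of_prof hn0 (gA a) (hgA1 a) a (hgA2 a)
  have hAord : ∀ a, orderOf (QuotientGroup.mk (gA a) :
      GL (Fin n) F ⧸ Subgroup.center (GL (Fin n) F)) = r :=
    fun a => (orderOf_mk_eq_prime_iff hr _).mpr ⟨by rw [hgA1]; exact Subgroup.one_mem _, hAz a⟩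
  have hgA1' : ∀ a, gA a ^ r = gsc n 1 one_ne_zero := fun a => by rw [hgA1, gsc_one]
  let S := {C : ConjClasses (GL (Fin n) F ⧸ Subgroup.center (GL (Fin n) F)) //
    ∃ g : GL (Fin n) F ⧸ Subgroup.center (GL (Fin n) F), ConjClasses.mk g = C ∧ orderOf g = r}
  let ΨA₀ : Prof (RU F r) n → S := fun a =>
    ⟨ConjClasses.mk (QuotientGroup.mk (gA a)), QuotientGroup.mk (gA a), rfl, hAord a⟩
  have hΨA : ∀ a b : Prof (RU F r) n,
      (MulAction.orbitRel (RU F r) (Prof (RU F r) n)) a b → ΨA₀ a = ΨA₀ b := by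
    intro a b hab
    rw [MulAction.orbitRel_apply, MulAction.mem_orbit_iff] at hab
    obtain ⟨c, rfl⟩ := hab
    apply Subtype.ext
    change ConjClasses.mk (QuotientGroup.mk (gA (c • b))) = ConjClasses.mk (QuotientGroup.mk (gA b))
    rw [ConjClasses.mk_eq_mk_iff_isConj]
    have h0 : (gsc n (ev F r c) (ev_ne_zero c) * gA b) ^ r = 1 := by
      rw [gsc_mul_pow _ _ _ r 1 one_ne_zero (hgA1' b)]
      have : ev F r c ^ r * 1 = 1 := by rw [ev_pow, mul_one]
      rw [gsc_congr _ this, gsc_one]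
    have h1 : IsConj (gA (c • b)) (gsc n (ev F r c) (ev_ne_zero c) * gA b) := by
      apply isConj_of_prof_eq hr hrq _ _ (hgA1 _) h0
      intro ω
      rw [hgA2, prof_gsc_mul, hgA2]
      rfl
    have h2 := (QuotientGroup.mk' (Subgroup.center (GL (Fin n) F))).map_isConj h1
    rw [QuotientGroup.mk'_apply, QuotientGroup.mk'_apply, mk_gsc_mul] at h2
    exact h2
  let ΨA : MulAction.orbitRel.Quotient (RU F r) (Prof (RU F r) n) → S := Quotient.lift ΨA₀ hΨA
  -- type B representatives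
  let B := {x : Fˣ ⧸ RP F r // x ≠ 1 ∧ r ∣ n}
  have hB : ∀ x : B, ∃ (g : GL (Fin n) F) (lam : F) (hlam : lam ≠ 0),
      qcl r lam hlam = x.1 ∧ g ^ r = gsc n lam hlam := by
    intro x
    obtain ⟨u, hu⟩ := QuotientGroup.mk_surjective x.1
    have hq : qcl r (u : F) (Units.ne_zero u) = x.1 := by
      unfold qcl
      rw [← hu]
      congr 1
      exact Units.ext rfl
    obtain ⟨g, hg⟩ := exists_gl_of_lam hr.pos (u : F) (Units.ne_zero u)
      (irreducible_of_qcl_ne hr _ _ (by rw [hq]; exact x.2.1)) x.2.2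
    exact ⟨g, _, _, hq, hg⟩
  choose gB lamB hlamB hqB hgB using hB
  have hBq : ∀ x : B, qcl r (lamB x) (hlamB x) ≠ 1 := fun x => by rw [hqB]; exact x.2.1
  have hBz : ∀ x, gB x ∉ Subgroup.center (GL (Fin n) F) :=
    fun x => not_mem_center_of_lam hn0 hr.pos _ _ _ (hBq x) (hgB x)
  have hBord : ∀ x, orderOf (QuotientGroup.mk (gB x) :
      GL (Fin n) F ⧸ Subgroup.center (GL (Fin n) F)) = r :=
    fun x => (orderOf_mk_eq_prime_iff hr _).mpr ⟨by rw [hgB]; exact gsc_mem_center _ _, hBz x⟩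
  let ΨB : B → S := fun x =>
    ⟨ConjClasses.mk (QuotientGroup.mk (gB x)), QuotientGroup.mk (gB x), rfl, hBord x⟩
  let Ψ : MulAction.orbitRel.Quotient (RU F r) (Prof (RU F r) n) ⊕ B → S := Sum.elim ΨA ΨB
  -- injectivity pieces
  have hAA : ∀ a b : Prof (RU F r) n, ΨA₀ a = ΨA₀ b →
      (MulAction.orbitRel (RU F r) (Prof (RU F r) n)) a b := by
    intro a b h
    have h1 : IsConj (QuotientGroup.mk (gA a) : GL (Fin n) F ⧸ Subgroup.center (GL (Fin n) F))
        (QuotientGroup.mk (gA b)) :=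
      ConjClasses.mk_eq_mk_iff_isConj.mp (congrArg Subtype.val h)
    obtain ⟨μ, hμ, hμr, c, hc⟩ := lam_rel hn0 _ _ h1 1 1 one_ne_zero one_ne_zero (hgA1' a) (hgA1' b)
    rw [mul_one] at hμr
    let ω₀ : RU F r := ⟨Units.mk0 μ hμ, (mem_RU _).mpr (Units.ext (by
      rw [Units.val_pow_eq_pow_val, Units.val_mk0, ← hμr, Units.val_one]))⟩
    have hb : b = ω₀ • a := by
      apply Prof.ext
      intro ω
      rw [← hgA2 b ω, hc]
      change prof r (gsc n (ev F r ω₀) (ev_ne_zero ω₀) * (c * gA a * c⁻¹)) ω = _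
      rw [prof_gsc_mul, prof_conj, hgA2]
      rfl
    rw [MulAction.orbitRel_apply, MulAction.mem_orbit_iff]
    exact ⟨ω₀⁻¹, by rw [hb, inv_smul_smul]⟩
  have hAB : ∀ (a : Prof (RU F r) n) (x : B), ΨA₀ a ≠ ΨB x := by
    intro a x h
    have h1 : IsConj (QuotientGroup.mk (gA a) : GL (Fin n) F ⧸ Subgroup.center (GL (Fin n) F))
        (QuotientGroup.mk (gB x)) :=
      ConjClasses.mk_eq_mk_iff_isConj.mp (congrArg Subtype.val h)
    obtain ⟨μ, hμ, hμr, -⟩ := lam_rel hn0 _ _ h1 1 (lamB x) one_ne_zero (hlamB x) (hgA1' a) (hgB x)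
    apply hBq x
    rw [qcl_congr (hlamB x) hμr, qcl_mul_pow μ 1 hμ one_ne_zero, qcl_one]
  have hBB : ∀ x y : B, ΨB x = ΨB y → x = y := by
    intro x y h
    have h1 : IsConj (QuotientGroup.mk (gB x) : GL (Fin n) F ⧸ Subgroup.center (GL (Fin n) F))
        (QuotientGroup.mk (gB y)) :=
      ConjClasses.mk_eq_mk_iff_isConj.mp (congrArg Subtype.val h)
    obtain ⟨μ, hμ, hμr, -⟩ := lam_rel hn0 _ _ h1 (lamB x) (lamB y) (hlamB x) (hlamB y) (hgB x) (hgB y)
    apply Subtype.ext
    rw [← hqB x, ← hqB y, qcl_congr (hlamB y) hμr, qcl_mul_pow μ (lamB x) hμ (hlamB x)]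
  have hbij : Function.Bijective Ψ := by
    constructor
    · rintro (qa | x) (qb | y) h
      · induction qa using Quotient.inductionOn with
        | h a =>
          induction qb using Quotient.inductionOn with
          | h b =>
            congr 1
            exact Quotient.sound (hAA a b h)
      · induction qa using Quotient.inductionOn with
        | h a => exact absurd h (hAB a y)
      · induction qb using Quotient.inductionOn with
        | h b => exact absurd h.symm (hAB b x)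
      · congr 1
        exact hBB x y h
    · rintro ⟨C, gbar, hC, hord⟩
      obtain ⟨g, rfl⟩ := QuotientGroup.mk_surjective gbar
      obtain ⟨hgr, hgz⟩ := (orderOf_mk_eq_prime_iff hr g).mp hord
      obtain ⟨lam, hlam, hg⟩ := exists_gsc_of_mem_center (g ^ r) hgr
      by_cases hq : qcl r lam hlam = 1
      · obtain ⟨c, hc⟩ := (qcl_eq_one_iff hr.pos lam hlam).mp hq
        have hc0 : c ≠ 0 := by
          rintro rfl
          rw [zero_pow hr.pos.ne'] at hc
          exact hlam hc.symm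
        have hg₁ : (gsc n c⁻¹ (inv_ne_zero hc0) * g) ^ r = 1 := by
          rw [gsc_mul_pow _ _ _ r lam hlam hg]
          have : c⁻¹ ^ r * lam = 1 := by
            rw [← hc, inv_pow, inv_mul_cancel₀ (pow_ne_zero r hc0)]
          rw [gsc_congr _ this, gsc_one]
        have hg₁z : gsc n c⁻¹ (inv_ne_zero hc0) * g ∉ Subgroup.center (GL (Fin n) F) := by
          intro hz
          apply hgz
          have := Subgroup.mul_mem _ (Subgroup.inv_mem _ (gsc_mem_center (n := n) c⁻¹ (inv_ne_zero hc0))) hz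
          rwa [inv_mul_cancel_left] at this
        let a : Prof (RU F r) n := ⟨prof r (gsc n c⁻¹ (inv_ne_zero hc0) * g),
          prof_sum hr hrq _ hg₁, prof_ne hn0 _ hg₁z⟩
        refine ⟨Sum.inl (Quotient.mk _ a), ?_⟩
        apply Subtype.ext
        change ConjClasses.mk (QuotientGroup.mk (gA a)) = C
        rw [← hC, ConjClasses.mk_eq_mk_iff_isConj]
        have h1 : IsConj (gA a) (gsc n c⁻¹ (inv_ne_zero hc0) * g) :=
          isConj_of_prof_eq hr hrq _ _ (hgA1 a) hg₁ (hgA2 a)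
        have h2 := (QuotientGroup.mk' (Subgroup.center (GL (Fin n) F))).map_isConj h1
        rw [QuotientGroup.mk'_apply, QuotientGroup.mk'_apply, mk_gsc_mul] at h2
        exact h2
      · have hirr := irreducible_of_qcl_ne hr lam hlam hq
        have hdvd := dvd_of_irreducible g lam hlam hirr hg
        let x : B := ⟨qcl r lam hlam, hq, hdvd⟩
        refine ⟨Sum.inr x, ?_⟩
        obtain ⟨c, hc0, hc⟩ := exists_of_qcl_eq lam (lamB x) hlam (hlamB x) (hqB x).symm
        have hg₁ : (gsc n c hc0 * g) ^ r = gsc n (lamB x) (hlamB x) := by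
          rw [gsc_mul_pow _ _ _ r lam hlam hg]
          exact gsc_congr _ hc.symm
        apply Subtype.ext
        change ConjClasses.mk (QuotientGroup.mk (gB x)) = C
        rw [← hC, ConjClasses.mk_eq_mk_iff_isConj]
        have h1 : IsConj (gB x) (gsc n c hc0 * g) :=
          isConj_of_lam _ _ (lamB x) (hlamB x) (irreducible_of_qcl_ne hr _ _ (hBq x)) (hgB x) hg₁
        have h2 := (QuotientGroup.mk' (Subgroup.center (GL (Fin n) F))).map_isConj h1
        rw [QuotientGroup.mk'_apply, QuotientGroup.mk'_apply, mk_gsc_mul] at h2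
        exact h2
  -- counting
  have hcardB : Nat.card B = if r ∣ n then r - 1 else 0 := by
    split_ifs with hdvd
    · have e : B ≃ {x : Fˣ ⧸ RP F r // x ≠ 1} :=
        { toFun := fun x => ⟨x.1, x.2.1⟩
          invFun := fun x => ⟨x.1, x.2, hdvd⟩
          left_inv := fun x => rfl
          right_inv := fun x => rfl }
      have h1 := Nat.card_congr (Equiv.optionSubtypeNe (1 : Fˣ ⧸ RP F r))
      rw [Finite.card_option] at h1
      have h2 : Nat.card (Fˣ ⧸ RP F r) = r := index_RP hrq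
      rw [Nat.card_congr e]
      omega
    · rw [Nat.card_eq_zero]
      left
      exact ⟨fun x => hdvd x.2.2⟩
  rw [← Nat.card_congr (Equiv.ofBijective Ψ hbij), Nat.card_sum,
    card_orbits (by rw [hcardH]; exact hr) (by omega), hcardH, hcardB]
  have hr1 := hr.one_lt
  split_ifs with hdvd
  · have : r * 1 = 1 + (r - 1) := by omega
    rw [this]
    ring
  · simp

end Cfsg.Agent.S2670
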