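import Cfsg.Statements.S2676
import Cfsg.Agent.Lib.Helper73.UCHub
import Cfsg.Agent.Lib.Helper73.SPCHub


set_option autoImplicit false
open Classical
open Cfsg
open Cfsg.Agent.Lib.Helper73.UC Cfsg.Agent.Lib.Helper73.SPC Cfsg.Agent.Lib.Helper73.SPCSpec

namespace Cfsg.Agent.S2676

/-- Number of conjugacy classes of elements of order p in Sp_2m(q), q a power of the odd prime p: the classes correspond to the signed partitions of 2m — partitions with all parts at most p in which every odd part has even multiplicity, each even part size that occurs carrying a sign — other than the all-ones partition; so the count is the sum over such partitions of 2^(number of distinct even parts), minus one. -/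
theorem result {F : Type*} [Field F] [Fintype F] {p : ℕ} [Fact p.Prime] [CharP F p] (hp : p ≠ 2) (m : ℕ) : Nat.card {C : ConjClasses ↥(Matrix.symplecticGroup (Fin m) F) // ∃ g : Matrix.symplecticGroup (Fin m) F, ConjClasses.mk g = C ∧ orderOf g = p} = (∑ μ ∈ Finset.univ.filter (fun μ : Nat.Partition (2 * m) => (∀ a ∈ μ.parts, a ≤ p) ∧ ∀ j : ℕ, Odd j → Even (μ.parts.count j)), 2 ^ ((μ.parts.toFinset.filter (fun j : ℕ => Even j)).card)) - 1 := by
  classical
  have h2 : (2 : F) ≠ 0 := by
    intro h
    have h3 : ((2 : ℕ) : F) = 0 := by exact_mod_cast h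
    have h4 := (CharP.cast_eq_zero_iff F p 2).mp h3
    have h5 := (Nat.prime_dvd_prime_iff_eq (Fact.out : p.Prime) Nat.prime_two).mp h4
    exact hp h5
  have hcount : ∀ (μ : Nat.Partition (2 * m)) (t : ℕ) (d : Fin t → ℕ)
      (e : ((k : Fin t) × Fin (d k)) ≃ (Fin m ⊕ Fin m)),
      (∀ k, 1 ≤ d k) → Multiset.map d Finset.univ.val = μ.parts →
      Nat.card {C : ConjClasses ↥(Matrix.symplecticGroup (Fin m) F) //
        ∃ g : ↥(Matrix.symplecticGroup (Fin m) F), ConjClasses.mk g = C ∧
          IsConj (Matrix.reindex e e (Cfsg.jordanTypeMatrix d F))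
            (g : Matrix (Fin m ⊕ Fin m) (Fin m ⊕ Fin m) F)} = spWeight μ := by
    intro μ t d e hd hμ
    rw [card_classes_eq_orbCount_of (fun B hB hdet => exists_congr_J_of_skew h2 B hB hdet)
      (Matrix.reindex e e (Cfsg.jordanTypeMatrix d F))]
    rw [orbCount_altInv_of_isConj e (Cfsg.jordanTypeMatrix d F)
      (Matrix.reindex e e (Cfsg.jordanTypeMatrix d F)) (IsConj.refl _)]
    have hJ : Cfsg.jordanTypeMatrix d F = 1 + nilM d F := by
      unfold nilM
      abel
    rw [hJ]
    have hN : IsNilpotent (nilM d F) := Cfsg.Agent.Lib.Helper73.UCSpec.isNilpotent_nilM d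
    rw [orbCount_cayley_of (nilM d F) (Cfsg.Agent.Lib.Helper73.SPC.altInv_one_add_eq_altSkew h2 (nilM d F) hN)
      (commute_cayley_iff h2 (nilM d F) hN)]
    obtain ⟨g, hg, hgN⟩ := Cfsg.Agent.Lib.Helper73.UCSpec.exists_conj_cayley d ((2 : F)⁻¹) (1 : F)
      one_ne_zero
    rw [one_smul] at hgN
    rw [orbCount_altSkew_of_conj (nilM d F) _ g hg hgN]
    rw [orbCount_altSkew_nilM_of d hd (shankel_mem_iff d) (isUnit_det_shankel_iff d hd)
      (topBlock_transpose d hd) (isUnit_det_topC_iff d hd) (congRel_topBlock d hd)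
      (exists_lift_topBlock d hd) (congRel_of_topBlock_eq h2 d hd) (exists_AC_of_topBlocks d hd)]
    exact prod_orbCount_eq_spWeight μ d hd hμ
      (fun i hi => orbCount_symND_even h2 _ i hi) (fun i hi => orbCount_symND_odd h2 _ i hi)
  have hcnt : ∀ μ : Nat.Partition (2 * m),
      Nat.card {C : ConjClasses ↥(Matrix.symplecticGroup (Fin m) F) //
        ∃ g : ↥(Matrix.symplecticGroup (Fin m) F), ConjClasses.mk g = C ∧
          MatHasType (g : Matrix (Fin m ⊕ Fin m) (Fin m ⊕ Fin m) F) μ} = spWeight μ := by
    intro μ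
    have hcard : Fintype.card (Fin m ⊕ Fin m) = 2 * m := by
      rw [Fintype.card_sum, Fintype.card_fin]; ring
    exact card_classes_of_type_of μ (exists_data_of_partition hcard μ)
      (fun t t' d d' e e' h => isConj_of_map_eq d d' e e' h) (hcount μ)
  have hcard : Fintype.card (Fin m ⊕ Fin m) = 2 * m := by
    rw [Fintype.card_sum, Fintype.card_fin]; ring
  have key := card_classes_order_p_of (F := F) (p := p) m orderOf_symplectic_eq_char_iff
    (fun A r hA => exists_matHasType hcard A r hA)
    (fun A μ μ' h h' => matHasType_unique A μ μ' h h')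
    (fun A μ h r => matHasType_pow_eq_zero_iff A μ h r) hcnt
  convert key using 2

end Cfsg.Agent.S2676
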