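import Cfsg.Statements.S2677
import Cfsg.Agent.Lib.Helper51.FieldAutU5
import Cfsg.Agent.S0277

set_option autoImplicit false
open Cfsg

namespace Cfsg.Agent.S2677

theorem cast_prod_aux (q₀ n : ℕ) (hq₀ : 1 ≤ q₀) :
    ((∏ i ∈ Finset.range n, (if Even i then q₀ ^ (i + 1) + 1 else q₀ ^ (i + 1) - 1) : ℕ) : ℤ) =
      ∏ i : Fin n, ((q₀ : ℤ) ^ ((i : ℕ) + 1) - (-1) ^ ((i : ℕ) + 1)) := by
  rw [Fin.prod_univ_eq_prod_range (fun i => ((q₀ : ℤ) ^ (i + 1) - (-1) ^ (i + 1))) n, Nat.cast_prod]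
  apply Finset.prod_congr rfl
  intro i _
  by_cases hi : Even i
  · rw [if_pos hi]
    have hodd : Odd (i + 1) := hi.add_one
    rw [hodd.neg_one_pow]
    push_cast
    ring
  · rw [if_neg hi]
    have heven : Even (i + 1) := by
      rw [Nat.even_add_one]
      exact hi
    rw [heven.neg_one_pow]
    have h1 : 1 ≤ q₀ ^ (i + 1) := Nat.one_le_pow _ _ hq₀
    rw [Nat.cast_sub h1]
    push_cast
    ring

/-- Centraliser of a field automorphism of odd prime order in PGU_n(q): let q = q₀^r with r an odd prime, K the field with q² elements and σ a field automorphism of K of order r (fixed field of order q₀²). The elements g of GU_n(q) whose entrywise image under σ is a scalar multiple of g — those whose coset modulo the q + 1 unitary scalars is fixed by σ — number (q + 1)/(q₀ + 1) · |GU_n(q₀)|; equivalently the centraliser in PGU_n(q) of the induced automorphism has the order of PGU_n(q₀). -/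
theorem result {K : Type*} [Field K] [Fintype K] {q₀ q r n : ℕ} (hr : r.Prime) (hr2 : r ≠ 2) (hn : 1 ≤ n) (hq : q = q₀ ^ r) (hK : Fintype.card K = q ^ 2) (σ : K ≃+* K) (hσ : orderOf σ = r) : (Nat.card {g : ↥(Cfsg.GU n K q) // ∃ c : K, c ≠ 0 ∧ ((g : GL (Fin n) K) : Matrix (Fin n) (Fin n) K).map σ = c • ((g : GL (Fin n) K) : Matrix (Fin n) (Fin n) K)} : ℤ) = ((q + 1) / (q₀ + 1) : ℕ) * ((q₀ : ℤ) ^ (n * (n - 1) / 2) * ∏ i : Fin n, ((q₀ : ℤ) ^ ((i : ℕ) + 1) - (-1) ^ ((i : ℕ) + 1))) := by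
  classical
  have hodd : Odd r := hr.odd_of_ne_two hr2
  obtain ⟨hK₀, hmain⟩ := Cfsg.Agent.Lib.Helper51.card_sigma_scalar_GU (n := n) σ hodd hn hq hK hσ
  have : Fintype (Cfsg.Agent.Lib.Helper51.fixField σ) := Fintype.ofFinite _
  have hK₀' : Fintype.card (Cfsg.Agent.Lib.Helper51.fixField σ) = q₀ ^ 2 := by
    rw [← Nat.card_eq_fintype_card, hK₀]
  have hq₀ : 1 ≤ q₀ := by
    rcases Nat.eq_zero_or_pos q₀ with h | h
    · subst h
      have : 0 < Fintype.card (Cfsg.Agent.Lib.Helper51.fixField σ) := Fintype.card_pos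
      omega
    · exact h
  have hGU := Cfsg.Agent.S0277.result hK₀' n
  have hdvd : (q₀ + 1) ∣ (q + 1) := by
    have := Odd.nat_add_dvd_pow_add_pow q₀ 1 hodd
    rw [one_pow, ← hq] at this
    exact this
  have hS : Nat.card {g : ↥(Cfsg.GU n K q) // ∃ c : K, c ≠ 0 ∧ ((g : GL (Fin n) K) : Matrix (Fin n) (Fin n) K).map σ = c • ((g : GL (Fin n) K) : Matrix (Fin n) (Fin n) K)} =
      (q + 1) / (q₀ + 1) * Nat.card (Cfsg.GU n (Cfsg.Agent.Lib.Helper51.fixField σ) q₀) := by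
    apply Nat.eq_of_mul_eq_mul_right (show 0 < q₀ + 1 by omega)
    rw [hmain, mul_assoc, mul_comm (Nat.card _) (q₀ + 1), ← mul_assoc, Nat.div_mul_cancel hdvd]
  rw [hS, hGU, Nat.cast_mul, Nat.cast_mul, cast_prod_aux q₀ n hq₀]
  push_cast
  rfl

end Cfsg.Agent.S2677
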