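import Cfsg.Statements.S2678
import Cfsg.Agent.Lib.Helper51.QuadExt
import Cfsg.Agent.Lib.Helper51.Embed

set_option autoImplicit false
open Cfsg

namespace Cfsg.Agent.S2678

open Cfsg.Agent.Lib.Helper51 Matrix

/-- the index equivalence for the basis over the subfield -/
def idxEquiv (a : ℕ) : (Σ _ : Fin a ⊕ Fin a, Fin 2) ≃ Fin (2 * a) ⊕ Fin (2 * a) :=
  (Equiv.sigmaEquivProd (Fin a ⊕ Fin a) (Fin 2)).trans
    ((Equiv.sumProdDistrib (Fin a) (Fin a) (Fin 2)).trans
      (Equiv.sumCongr ((Equiv.prodComm _ _).trans finProdFinEquiv)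
        ((Equiv.prodComm _ _).trans finProdFinEquiv)))

theorem idxEquiv_symm_inl (a : ℕ) (k : Fin (2 * a)) :
    (idxEquiv a).symm (Sum.inl k) = ⟨Sum.inl (finProdFinEquiv.symm k).2, (finProdFinEquiv.symm k).1⟩ := by
  rfl

theorem idxEquiv_symm_inr (a : ℕ) (k : Fin (2 * a)) :
    (idxEquiv a).symm (Sum.inr k) = ⟨Sum.inr (finProdFinEquiv.symm k).2, (finProdFinEquiv.symm k).1⟩ := by
  rfl

theorem form_single {K : Type*} [Field K] {ι : Type*} [Fintype ι] [DecidableEq ι]
    (M : Matrix ι ι K) (i j : ι) (x y : K) :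
    (Pi.single i x) ⬝ᵥ (M *ᵥ (Pi.single j y)) = x * M i j * y := by
  rw [single_dotProduct, mulVec_single]
  simp [mul_assoc]

theorem pair_eq_iff {a : ℕ} (k k' : Fin (2 * a)) :
    ((finProdFinEquiv.symm k).2 = (finProdFinEquiv.symm k').2 ∧
      (finProdFinEquiv.symm k).1 = (finProdFinEquiv.symm k').1) ↔ k = k' := by
  constructor
  · rintro ⟨h1, h2⟩
    apply (finProdFinEquiv (m := 2) (n := a)).symm.injective
    exact Prod.ext h2 h1
  · rintro rfl
    exact ⟨rfl, rfl⟩

/-- Field-extension embedding of symplectic groups: for a field K with q² elements and a field F with q elements there is an injective homomorphism Sp_2a(K) → Sp_4a(F). -/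
theorem result {K F : Type*} [Field K] [Fintype K] [Field F] [Fintype F] {q : ℕ} (hK : Fintype.card K = q ^ 2) (hF : Fintype.card F = q) (a : ℕ) : ∃ φ : ↥(Matrix.symplecticGroup (Fin a) K) →* ↥(Matrix.symplecticGroup (Fin (2 * a)) F), Function.Injective φ := by
  classical
  obtain ⟨ι⟩ := exists_ringHom hF hK
  letI : Algebra F K := ι.toAlgebra
  obtain ⟨b, t, n, hb0, htr, hnm⟩ := exists_basis (F := F) (K := K) hF hK
  -- the symmetric form on K
  let T : LinearMap.BilinForm F K := (LinearMap.mul F K).compr₂ (b.coord 1)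
  have hT : ∀ x y, T x y = b.coord 1 (x * y) := fun x y => rfl
  have hcω : b.coord 1 (b 1) = 1 := by simp
  have hTsymm : T.IsSymm := ⟨fun x y => by rw [hT, hT, mul_comm]⟩
  have hTnd : T.Nondegenerate := by
    constructor
    · intro x hx
      by_contra hx0
      have := hx (x⁻¹ * b 1)
      rw [hT, ← mul_assoc, mul_inv_cancel₀ hx0, one_mul, hcω] at this
      exact one_ne_zero this
    · intro y hy
      by_contra hy0
      have := hy (b 1 * y⁻¹)
      rw [hT, mul_assoc, inv_mul_cancel₀ hy0, mul_one, hcω] at this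
      exact one_ne_zero this
  let b' : Module.Basis (Fin 2) F K := T.dualBasis hTnd b
  have hbb' : ∀ s s', b.coord 1 (b s * b' s') = if s = s' then 1 else 0 := fun s s' =>
    LinearMap.BilinForm.apply_dualBasis_right hTnd hTsymm b s s'
  have hb'b : ∀ s s', b.coord 1 (b' s * b s') = if s' = s then 1 else 0 := fun s s' =>
    LinearMap.BilinForm.apply_dualBasis_left hTnd b s s'
  -- the alternating form over F
  let JK : Matrix (Fin a ⊕ Fin a) (Fin a ⊕ Fin a) K := Matrix.J (Fin a) K
  let β : LinearMap.BilinForm F (Fin a ⊕ Fin a → K) :=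
    LinearMap.mk₂ F (fun u v => b.coord 1 (u ⬝ᵥ (JK *ᵥ v)))
      (by
        intro u u' v
        rw [← map_add, add_dotProduct])
      (by
        intro c u v
        rw [← map_smul, smul_dotProduct])
      (by
        intro u v v'
        rw [← map_add, mulVec_add, dotProduct_add])
      (by
        intro c u v
        rw [← map_smul, mulVec_smul, dotProduct_smul])
  have hβ : ∀ u v, β u v = b.coord 1 (u ⬝ᵥ (JK *ᵥ v)) := fun u v => rfl
  let fam : (Fin a ⊕ Fin a) → Module.Basis (Fin 2) F K := Sum.elim (fun _ => b) (fun _ => b')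
  let 𝔟 : Module.Basis (Fin (2 * a) ⊕ Fin (2 * a)) F (Fin a ⊕ Fin a → K) :=
    (Pi.basis fam).reindex (idxEquiv a)
  have h𝔟l : ∀ k, 𝔟 (Sum.inl k) =
      Pi.single (Sum.inl (finProdFinEquiv.symm k).2) (b (finProdFinEquiv.symm k).1) := by
    intro k
    simp only [𝔟, Module.Basis.reindex_apply]
    rw [idxEquiv_symm_inl, Pi.basis_apply]
    rfl
  have h𝔟r : ∀ k, 𝔟 (Sum.inr k) =
      Pi.single (Sum.inr (finProdFinEquiv.symm k).2) (b' (finProdFinEquiv.symm k).1) := by
    intro k
    simp only [𝔟, Module.Basis.reindex_apply]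
    rw [idxEquiv_symm_inr, Pi.basis_apply]
    rfl
  have hgram : LinearMap.BilinForm.toMatrix 𝔟 β = Matrix.J (Fin (2 * a)) F := by
    ext i j
    rw [LinearMap.BilinForm.toMatrix_apply, hβ]
    rcases i with k | k <;> rcases j with k' | k'
    · rw [h𝔟l, h𝔟l, form_single]
      simp [JK, Matrix.J]
    · rw [h𝔟l, h𝔟r, form_single]
      simp only [JK, Matrix.J, Matrix.fromBlocks_apply₁₂, Matrix.neg_apply, Matrix.one_apply]
      by_cases hkk : k = k'
      · subst hkk
        rw [if_pos rfl, if_pos rfl, mul_neg, mul_one, neg_mul, map_neg, hbb', if_pos rfl]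
      · rw [if_neg hkk]
        by_cases h1 : (finProdFinEquiv.symm k).2 = (finProdFinEquiv.symm k').2
        · rw [if_pos h1, mul_neg, mul_one, neg_mul, map_neg, hbb']
          have h2 : ¬ (finProdFinEquiv.symm k).1 = (finProdFinEquiv.symm k').1 := fun h2 =>
            hkk ((pair_eq_iff k k').1 ⟨h1, h2⟩)
          rw [if_neg h2]
        · rw [if_neg h1]; simp
    · rw [h𝔟r, h𝔟l, form_single]
      simp only [JK, Matrix.J, Matrix.fromBlocks_apply₂₁, Matrix.one_apply]
      by_cases hkk : k = k'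
      · subst hkk
        rw [if_pos rfl, if_pos rfl, mul_one, hb'b, if_pos rfl]
      · rw [if_neg hkk]
        by_cases h1 : (finProdFinEquiv.symm k).2 = (finProdFinEquiv.symm k').2
        · rw [if_pos h1, mul_one, hb'b]
          have h2 : ¬ (finProdFinEquiv.symm k').1 = (finProdFinEquiv.symm k).1 := fun h2 =>
            hkk ((pair_eq_iff k k').1 ⟨h1, h2.symm⟩)
          rw [if_neg h2]
        · rw [if_neg h1]; simp
    · rw [h𝔟r, h𝔟r, form_single]
      simp [JK, Matrix.J]
  -- the action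
  let ρ : ↥(Matrix.symplecticGroup (Fin a) K) →* ((Fin a ⊕ Fin a → K) →ₗ[F] (Fin a ⊕ Fin a → K)) :=
    (mulVecRestrict F (Fin a ⊕ Fin a)).comp (Matrix.symplecticGroup (Fin a) K).subtype
  have hρ : Function.Injective ρ := by
    intro g g' h
    have h1 := mulVecRestrict_injective F (K := K) (Fin a ⊕ Fin a) h
    exact Subtype.ext h1
  exact embed_symplectic 𝔟 β hgram ρ hρ (by
    intro g u v
    rw [hβ, hβ]
    congr 1
    have hg : (g : Matrix _ _ K)ᵀ * JK * (g : Matrix _ _ K) = JK := SymplecticGroup.mem_iff'.1 g.2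
    show ((g : Matrix _ _ K) *ᵥ u) ⬝ᵥ (JK *ᵥ ((g : Matrix _ _ K) *ᵥ v)) = u ⬝ᵥ (JK *ᵥ v)
    rw [← vecMul_transpose, ← dotProduct_mulVec, mulVec_mulVec, mulVec_mulVec, hg])

end Cfsg.Agent.S2678
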