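import Cfsg.Statements.S2679
import Cfsg.Agent.Lib.Helper51.QuadExt
import Cfsg.Agent.Lib.Helper51.QuadExt2
import Cfsg.Agent.Lib.Helper51.Embed
import Cfsg.Agent.Lib.Helper51.Embed2

set_option autoImplicit false
open Cfsg

namespace Cfsg.Agent.S2679

open Cfsg.Agent.Lib.Helper51 Matrix

/-- coefficient matrix of the minus-type form -/
def Cmat (m : ℕ) (R : Type*) [CommRing R] (a c : R) :
    Matrix ((Fin m ⊕ Fin m) ⊕ Fin 2) ((Fin m ⊕ Fin m) ⊕ Fin 2) R :=
  Matrix.fromBlocks (Matrix.fromBlocks 0 1 0 0) 0 0 !![1, a; 0, c]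

theorem quadFormMinus_eq (m : ℕ) (R : Type*) [Field R] (a c : R)
    (v : (Fin m ⊕ Fin m) ⊕ Fin 2 → R) :
    Cfsg.quadFormMinus m R a c v = v ⬝ᵥ (Cmat m R a c *ᵥ v) := by
  unfold Cfsg.quadFormMinus Cmat
  simp only [dotProduct, Fintype.sum_sum_type, Fin.sum_univ_two, fromBlocks_mulVec]
  simp [dotProduct, Fin.sum_univ_two]
  ring

theorem Cmat_map {F K : Type*} [Field F] [Field K] (f : F →+* K) (m : ℕ) (a c : F) :
    (Cmat m F a c).map f = Cmat m K (f a) (f c) := by
  unfold Cmat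
  rw [fromBlocks_map, fromBlocks_map]
  congr 1
  · congr 1 <;> simp
  · simp
  · simp
  · ext i j
    fin_cases i <;> fin_cases j <;> simp

def Efun (m : ℕ) (K : Type*) [Field K] (θ θ' : K) (x : Fin (m + 1) ⊕ Fin (m + 1) → K) :
    (Fin m ⊕ Fin m) ⊕ Fin 2 → K :=
  Sum.elim (Sum.elim (fun i => x (Sum.inl i.castSucc)) (fun i => x (Sum.inr i.castSucc)))
    ![(-θ' * x (Sum.inl (Fin.last m)) + θ * x (Sum.inr (Fin.last m))) / (θ - θ'),
      (- x (Sum.inl (Fin.last m)) + x (Sum.inr (Fin.last m))) / (θ - θ')]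

def Einv (m : ℕ) (K : Type*) [Field K] (θ θ' : K) (v : (Fin m ⊕ Fin m) ⊕ Fin 2 → K) :
    Fin (m + 1) ⊕ Fin (m + 1) → K :=
  Sum.elim
    (Fin.snoc (α := fun _ => K) (fun i => v (Sum.inl (Sum.inl i))) (v (Sum.inr 0) - θ * v (Sum.inr 1)))
    (Fin.snoc (α := fun _ => K) (fun i => v (Sum.inl (Sum.inr i))) (v (Sum.inr 0) - θ' * v (Sum.inr 1)))

def Eequiv (m : ℕ) (K : Type*) [Field K] (θ θ' : K) (h : θ ≠ θ') :
    (Fin (m + 1) ⊕ Fin (m + 1) → K) ≃ₗ[K] ((Fin m ⊕ Fin m) ⊕ Fin 2 → K) where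
  toFun := Efun m K θ θ'
  map_add' := by
    intro x y
    funext j
    rcases j with (j | j) | j
    · simp [Efun]
    · simp [Efun]
    · fin_cases j
      · simp [Efun]; ring
      · simp [Efun]; ring
  map_smul' := by
    intro c x
    funext j
    rcases j with (j | j) | j
    · simp [Efun]
    · simp [Efun]
    · fin_cases j
      · simp [Efun]; ring
      · simp [Efun]; ring
  invFun := Einv m K θ θ'
  left_inv := by
    have hne : θ - θ' ≠ 0 := sub_ne_zero.2 h
    intro x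
    funext j
    rcases j with j | j
    · refine Fin.lastCases ?_ (fun i => ?_) j
      · simp [Einv, Efun]; field_simp; ring
      · simp [Einv, Efun]
    · refine Fin.lastCases ?_ (fun i => ?_) j
      · simp [Einv, Efun]; field_simp; ring
      · simp [Einv, Efun]
  right_inv := by
    have hne : θ - θ' ≠ 0 := sub_ne_zero.2 h
    intro v
    funext j
    rcases j with (j | j) | j
    · simp [Einv, Efun]
    · simp [Einv, Efun]
    · fin_cases j
      · simp [Einv, Efun]; field_simp; ring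
      · simp [Einv, Efun]; field_simp

theorem quad_E (m : ℕ) (K : Type*) [Field K] (θ θ' : K) (h : θ ≠ θ') (a c : K)
    (h1 : θ + θ' = -a) (h2 : θ * θ' = c) (x : Fin (m + 1) ⊕ Fin (m + 1) → K) :
    Cfsg.quadFormMinus m K a c (Efun m K θ θ' x) = Cfsg.quadFormPlus (m + 1) K x := by
  have hne : θ - θ' ≠ 0 := sub_ne_zero.2 h
  unfold Cfsg.quadFormMinus Cfsg.quadFormPlus
  rw [Fin.sum_univ_castSucc]
  simp only [Efun, Sum.elim_inl, Sum.elim_inr, Matrix.cons_val_zero, Matrix.cons_val_one]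
  congr 1
  have ha : a = -(θ + θ') := by rw [h1]; ring
  subst ha
  subst h2
  simp
  field_simp
  ring

abbrev Idx (m : ℕ) : Type := (Fin m ⊕ Fin m) ⊕ Fin 2

theorem main {F K : Type*} [Field F] [Fintype F] [Field K] [Fintype K] {q : ℕ}
    (hF : Fintype.card F = q) (hK : Fintype.card K = q ^ 2) (m : ℕ) (a c : F)
    (hac : ∀ z₁ z₂ : F, z₁ ^ 2 + a * z₁ * z₂ + c * z₂ ^ 2 = 0 → z₁ = 0 ∧ z₂ = 0) :
    ∃ φ : ↥(Cfsg.isometryGroup F (Cfsg.quadFormMinus m F a c)) →*
        ↥(Cfsg.isometryGroup K (Cfsg.quadFormPlus (m + 1) K)), Function.Injective φ := by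
  classical
  obtain ⟨f⟩ := exists_ringHom hF hK
  letI : Algebra F K := f.toAlgebra
  obtain ⟨θ, θ', h1, h2, hne⟩ := exists_roots (F := F) (K := K) hF hK a c hac
  have hfa : algebraMap F K a = f a := rfl
  have hfc : algebraMap F K c = f c := rfl
  rw [hfa] at h1
  rw [hfc] at h2
  let toM : ↥(Cfsg.isometryGroup F (Cfsg.quadFormMinus m F a c)) →* Matrix (Idx m) (Idx m) F :=
    (Units.coeHom (Matrix (Idx m) (Idx m) F)).comp
      (Cfsg.isometryGroup F (Cfsg.quadFormMinus m F a c)).subtype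
  let ρ : ↥(Cfsg.isometryGroup F (Cfsg.quadFormMinus m F a c)) →*
      ((Idx m → K) →ₗ[K] (Idx m → K)) :=
    (mulVecRestrict K (K := K) (Idx m)).comp
      ((RingHom.toMonoidHom (f.mapMatrix (m := Idx m))).comp toM)
  have hρapp : ∀ g v, ρ g v = ((toM g).map f) *ᵥ v := fun g v => rfl
  have hρ : Function.Injective ρ := by
    intro g g' h
    have h3 : (toM g).map f = (toM g').map f :=
      mulVecRestrict_injective K (K := K) (Idx m) h
    have h4 : toM g = toM g' := by
      ext i j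
      have h5 := congrFun (congrFun h3 i) j
      exact f.injective h5
    exact Subtype.ext (Units.ext h4)
  refine embed_isometry' (Eequiv m K θ θ' hne) (Cfsg.quadFormPlus (m + 1) K)
    (Cfsg.quadFormMinus m K (f a) (f c)) ?_ ρ hρ ?_
  · intro x
    exact quad_E m K θ θ' hne (f a) (f c) h1 h2 x
  · intro g v
    rw [hρapp, quadFormMinus_eq, quadFormMinus_eq, ← Cmat_map]
    apply isometry_map
    intro u
    rw [← quadFormMinus_eq, ← quadFormMinus_eq]
    exact g.2 u u

/-- An elliptic orthogonal group embeds in the hyperbolic orthogonal group of the same dimension over the quadratic extension: for a field F with q elements and a field K with q² elements there is an injective homomorphism from O⁻_2m(F) (isometries of Σ_(j<m−1) x_j y_j + z₁² + a z₁z₂ + c z₂², binary part anisotropic) to O⁺_2m(K) (isometries of Σ_(j<m) x_j y_j over K). -/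
theorem result {F K : Type*} [Field F] [Fintype F] [Field K] [Fintype K] {q : ℕ} (hF : Fintype.card F = q) (hK : Fintype.card K = q ^ 2) {m : ℕ} (hm : 1 ≤ m) (a c : F) (hac : ∀ z₁ z₂ : F, z₁ ^ 2 + a * z₁ * z₂ + c * z₂ ^ 2 = 0 → z₁ = 0 ∧ z₂ = 0) : ∃ φ : ↥(Cfsg.isometryGroup F (Cfsg.quadFormMinus (m - 1) F a c)) →* ↥(Cfsg.isometryGroup K (Cfsg.quadFormPlus m K)), Function.Injective φ := by
  obtain ⟨m', rfl⟩ : ∃ m', m = m' + 1 := ⟨m - 1, by omega⟩
  exact main hF hK m' a c hac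

end Cfsg.Agent.S2679
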