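import Cfsg.Statements.S2699
import Cfsg.Agent.Lib.Helper50.GraphOdd

set_option autoImplicit false
open Cfsg

namespace Cfsg.Agent.S2699

/-- Let T = PSL_n(F) over the field with p^f elements with n ≥ 3 odd, n = 2m + 1, and G = Inndiag(T) the image of PGL_n(F). Every involutory graph automorphism γ of T (an inner-diagonal automorphism followed by inverse-transpose, of order 2) has centralizer C_G(γ) isomorphic to the projective conformal orthogonal group of the form x₀² + Σ xᵢ yᵢ in dimension n (for q even this group is isomorphic to Sp_{n−1}(q)), and any two involutory graph automorphisms are G-conjugate. -/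
theorem result {F : Type*} [Field F] [Fintype F] {p f : ℕ} [Fact p.Prime] (hF : Fintype.card F = p ^ f) (hf : 1 ≤ f) {n : ℕ} (hn : 3 ≤ n) {m : ℕ} (hnm : n = 2 * m + 1) (γ γ' : MulAut (Matrix.ProjectiveSpecialLinearGroup (Fin n) F)) (hγ : Cfsg.IsGraphAutClassPSL γ) (hγ2 : orderOf γ = 2) (hγ' : Cfsg.IsGraphAutClassPSL γ') (hγ'2 : orderOf γ' = 2) :
    Nonempty (↥(Cfsg.inndiagPSL n F ⊓ Subgroup.centralizer {γ}) ≃* Cfsg.PGO F (Cfsg.quadFormOdd m F)) ∧ Cfsg.IsConjUnder (Cfsg.inndiagPSL n F) γ γ' := by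
  classical
  subst hnm
  have hm1 : 1 ≤ m := by omega
  obtain ⟨-, g, rfl⟩ := (Cfsg.Agent.Lib.Helper50.isGraphAutClass_iff γ).mp hγ
  obtain ⟨-, g', rfl⟩ := (Cfsg.Agent.Lib.Helper50.isGraphAutClass_iff γ').mp hγ'
  by_cases h2 : (2 : F) = 0
  · haveI : CharP F 2 := CharTwo.of_one_ne_zero_of_two_eq_zero one_ne_zero h2
    obtain ⟨e, hc⟩ := Cfsg.Agent.Lib.Helper50.graph_odd_char_two m hm1 g hγ2
    obtain ⟨-, hc'⟩ := Cfsg.Agent.Lib.Helper50.graph_odd_char_two m hm1 g' hγ'2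
    exact ⟨e, Cfsg.Agent.Lib.Helper50.isConjUnder_trans _ hc
      (Cfsg.Agent.Lib.Helper50.isConjUnder_symm _ hc')⟩
  · obtain ⟨p', hp', hcp'⟩ := Cfsg.Agent.Lib.Helper50.exists_prime_char (F := F)
    haveI : Fact p'.Prime := ⟨hp'⟩
    haveI := hcp'
    obtain ⟨hs, e⟩ := Cfsg.Agent.Lib.Helper50.graph_odd_char_odd m p' h2 hm1 g hγ2
    obtain ⟨hs', -⟩ := Cfsg.Agent.Lib.Helper50.graph_odd_char_odd m p' h2 hm1 g' hγ'2
    exact ⟨e, Cfsg.Agent.Lib.Helper50.isConj_symm_odd p' h2 ⟨m, rfl⟩ g g' hs hs'⟩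

end Cfsg.Agent.S2699
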