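import Cfsg.Statements.S2700
import Cfsg.Agent.Lib.Helper50.GraphClasses

set_option autoImplicit false
open Cfsg

namespace Cfsg.Agent.S2700

/-- Let T = PSL_n(F) over a finite field of odd order with n = 2m ≥ 4 even, and G = Inndiag(T) the image of PGL_n(F). The involutory graph automorphisms of T fall into exactly three G-classes, with representatives γ₁, γ₂, γ₃ whose centralizers in G are isomorphic respectively to the projective conformal symplectic group PGSp_n(F), the projective conformal orthogonal group of the plus-type form Σ xᵢ yᵢ, and that of a minus-type form Σ xᵢ yᵢ + z₁² + a z₁ z₂ + b z₂² (anisotropic binary part) in dimension n. -/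
theorem result {F : Type*} [Field F] [Fintype F] (hodd : Odd (Fintype.card F)) {n m : ℕ} (hm : 2 ≤ m) (hnm : n = 2 * m) :
    ∃ (γ₁ γ₂ γ₃ : MulAut (Matrix.ProjectiveSpecialLinearGroup (Fin n) F)) (a b : F), (∀ z₁ z₂ : F, z₁ ^ 2 + a * z₁ * z₂ + b * z₂ ^ 2 = 0 → z₁ = 0 ∧ z₂ = 0) ∧ Cfsg.IsGraphAutClassPSL γ₁ ∧ orderOf γ₁ = 2 ∧ Cfsg.IsGraphAutClassPSL γ₂ ∧ orderOf γ₂ = 2 ∧ Cfsg.IsGraphAutClassPSL γ₃ ∧ orderOf γ₃ = 2 ∧ ¬ Cfsg.IsConjUnder (Cfsg.inndiagPSL n F) γ₁ γ₂ ∧ ¬ Cfsg.IsConjUnder (Cfsg.inndiagPSL n F) γ₁ γ₃ ∧ ¬ Cfsg.IsConjUnder (Cfsg.inndiagPSL n F) γ₂ γ₃ ∧ (∀ γ : MulAut (Matrix.ProjectiveSpecialLinearGroup (Fin n) F), Cfsg.IsGraphAutClassPSL γ → orderOf γ = 2 → Cfsg.IsConjUnder (Cfsg.inndiagPSL n F) γ₁ γ ∨ Cfsg.IsConjUnder (Cfsg.inndiagPSL n F) γ₂ γ ∨ Cfsg.IsConjUnder (Cfsg.inndiagPSL n F) γ₃ γ) ∧ Nonempty (↥(Cfsg.inndiagPSL n F ⊓ Subgroup.centralizer {γ₁}) ≃* Cfsg.PGSp m F) ∧ Nonempty (↥(Cfsg.inndiagPSL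 n F ⊓ Subgroup.centralizer {γ₂}) ≃* Cfsg.PGO F (Cfsg.quadFormPlus m F)) ∧ Nonempty (↥(Cfsg.inndiagPSL n F ⊓ Subgroup.centralizer {γ₃}) ≃* Cfsg.PGO F (Cfsg.quadFormMinus (m - 1) F a b)) := by
  classical
  subst hnm
  have h2 : (2 : F) ≠ 0 := Cfsg.Agent.Lib.Helper50.two_ne_zero_of_odd_card rfl hodd
  obtain ⟨p, hp, hc⟩ := Cfsg.Agent.Lib.Helper50.exists_prime_char (F := F)
  haveI : Fact p.Prime := ⟨hp⟩
  haveI := hc
  obtain ⟨ν, hν⟩ := Cfsg.Agent.Lib.Helper50.exists_nonsquare_of_two_ne_zero h2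
  have hν0 : ν ≠ 0 := fun h => hν (h ▸ ⟨0, by ring⟩)
  obtain ⟨ga, hga, hgad⟩ := Cfsg.Agent.Lib.Helper50.exists_symm_gl_det (n := 2 * m) (by omega)
    (1 : F) one_ne_zero
  obtain ⟨gb, hgb, hgbd⟩ := Cfsg.Agent.Lib.Helper50.exists_symm_gl_det (n := 2 * m) (by omega)
    ν hν0
  obtain ⟨g₂, g₃, hs₂, hs₃, ht₂, ht₃⟩ : ∃ g₂ g₃ : GL (Fin (2 * m)) F, g₂.val.transpose = g₂.val ∧
      g₃.val.transpose = g₃.val ∧ (IsSquare g₂.val.det ↔ IsSquare ((-1 : F) ^ m)) ∧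
      ¬ (IsSquare g₃.val.det ↔ IsSquare ((-1 : F) ^ m)) := by
    by_cases ht : IsSquare ((-1 : F) ^ m)
    · refine ⟨ga, gb, hga, hgb, ?_, ?_⟩
      · rw [hgad]
        exact ⟨fun _ => ht, fun _ => ⟨1, by ring⟩⟩
      · rw [hgbd]
        intro h
        exact hν (h.mpr ht)
    · refine ⟨gb, ga, hgb, hga, ?_, ?_⟩
      · rw [hgbd]
        exact ⟨fun h => absurd h hν, fun h => absurd h ht⟩
      · rw [hgad]
        intro h
        exact ht (h.mp ⟨1, by ring⟩)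
  have hd₂ := Cfsg.Agent.Lib.Helper50.det_gl_ne_zero g₂
  have hd₃ := Cfsg.Agent.Lib.Helper50.det_gl_ne_zero g₃
  have hT₂ := (Cfsg.Agent.Lib.Helper50.qfMat_type h2 m g₂.val hs₂ hd₂).1 ht₂
  obtain ⟨ζ, hζ, hT₃⟩ := (Cfsg.Agent.Lib.Helper50.qfMat_type h2 m g₃.val hs₃ hd₃).2 ht₃
  refine ⟨Cfsg.Agent.Lib.Helper50.graphAut (Cfsg.Agent.Lib.Helper50.JGL m F),
    Cfsg.Agent.Lib.Helper50.graphAut g₂, Cfsg.Agent.Lib.Helper50.graphAut g₃, 1, ζ,
    Cfsg.Agent.Lib.Helper50.anis_of_irred ζ hζ, ?_, ?_, ?_, ?_, ?_, ?_, ?_, ?_, ?_, ?_, ?_, ?_, ?_⟩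
  · exact (Cfsg.Agent.Lib.Helper50.isGraphAutClass_iff _).mpr ⟨by omega, _, rfl⟩
  · exact Cfsg.Agent.Lib.Helper50.orderOf_graphAut_JGL p hm
  · exact (Cfsg.Agent.Lib.Helper50.isGraphAutClass_iff _).mpr ⟨by omega, _, rfl⟩
  · exact Cfsg.Agent.Lib.Helper50.orderOf_graphAut_symm p hm g₂ hs₂
  · exact (Cfsg.Agent.Lib.Helper50.isGraphAutClass_iff _).mpr ⟨by omega, _, rfl⟩
  · exact Cfsg.Agent.Lib.Helper50.orderOf_graphAut_symm p hm g₃ hs₃
  · exact Cfsg.Agent.Lib.Helper50.not_isConj_J_symm p h2 hm g₂ hs₂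
  · exact Cfsg.Agent.Lib.Helper50.not_isConj_J_symm p h2 hm g₃ hs₃
  · intro h
    have := Cfsg.Agent.Lib.Helper50.isSquare_det_of_isConj p hm g₂ g₃ h
    exact ht₃ (this.trans ht₂)
  · intro γ hγ hγ2
    obtain ⟨-, g, rfl⟩ := (Cfsg.Agent.Lib.Helper50.isGraphAutClass_iff γ).mp hγ
    rw [Cfsg.Agent.Lib.Helper50.orderOf_graphAut_eq_two_iff' p (by omega)] at hγ2
    obtain ⟨c, hc⟩ := hγ2
    have hdg := Cfsg.Agent.Lib.Helper50.det_gl_ne_zero g
    have hT : g.val.transpose = (c : F) • g.val := by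
      have := congrArg Matrix.transpose hc
      rw [Matrix.transpose_smul, Matrix.transpose_transpose] at this
      exact this
    have hcc : (c : F) * c = 1 := by
      have h1 : g.val = ((c : F) * c) • g.val := by
        rw [← smul_smul, ← hT, ← hc]
      have hne : g.val ≠ 0 := by
        intro h0
        haveI : Nonempty (Fin (2 * m)) := ⟨⟨0, by omega⟩⟩
        rw [h0, Matrix.det_zero] at hdg
        exact hdg rfl
      by_contra hne1
      apply hne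
      have h3 : (((c : F) * c) - 1) • g.val = 0 := by
        rw [sub_smul, one_smul, ← h1, sub_self]
      rcases smul_eq_zero.mp h3 with h | h
      · exact absurd (sub_eq_zero.mp h) hne1
      · exact h
    have hc1 : (c : F) = 1 ∨ (c : F) = -1 := by
      have : ((c : F) - 1) * ((c : F) + 1) = 0 := by linear_combination hcc
      rcases mul_eq_zero.mp this with h | h
      · left
        exact sub_eq_zero.mp h
      · right
        exact eq_neg_of_add_eq_zero_left h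
    rcases hc1 with h1 | h1
    · rw [h1, one_smul] at hT
      right
      have hcases : IsSquare (g₂.val.det * g.val.det) ∨ IsSquare (g₃.val.det * g.val.det) := by
        by_cases hs : IsSquare g.val.det
        · obtain ⟨d, hd⟩ := hs
          have hd0 : d ≠ 0 := by
            rintro rfl
            rw [mul_zero] at hd
            exact hdg hd
          have e : ∀ x : F, x * g.val.det = d ^ 2 * x := fun x => by rw [hd]; ring
          rw [e, e, Cfsg.Agent.Lib.Helper50.isSquare_sq_mul_iff hd0,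
            Cfsg.Agent.Lib.Helper50.isSquare_sq_mul_iff hd0]
          by_cases hs2 : IsSquare g₂.val.det
          · exact Or.inl hs2
          · right
            by_contra hs3
            exact ht₃ ⟨fun h => absurd h hs3, fun h => absurd (ht₂.mpr h) hs2⟩
        · rw [Cfsg.Agent.Lib.Helper50.isSquare_mul_nonsquare_iff hd₂ hs,
            Cfsg.Agent.Lib.Helper50.isSquare_mul_nonsquare_iff hd₃ hs]
          by_cases hs2 : IsSquare g₂.val.det
          · right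
            intro hs3
            exact ht₃ ⟨fun _ => ht₂.mp hs2, fun _ => hs3⟩
          · exact Or.inl hs2
      rcases hcases with hsq | hsq
      · left
        exact Cfsg.Agent.Lib.Helper50.isConj_of_det p h2 hm g₂ g hs₂ hT hsq
      · right
        exact Cfsg.Agent.Lib.Helper50.isConj_of_det p h2 hm g₃ g hs₃ hT hsq
    · left
      apply Cfsg.Agent.Lib.Helper50.isConj_J_of_skew p h2 hm g
      rw [hT, h1, neg_one_smul]
  · exact Cfsg.Agent.Lib.Helper50.nonempty_centralizer_JGL p hm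
  · obtain ⟨e⟩ := Cfsg.Agent.Lib.Helper50.nonempty_centralizer_symm p h2 hm g₂ hs₂
    obtain ⟨φ, hφ⟩ := hT₂
    obtain ⟨e1⟩ := Cfsg.Agent.Lib.Helper50.nonempty_pgo_congr φ
      (Cfsg.Agent.Lib.Helper50.matQuad g₂.val) (Cfsg.quadFormPlus m F) (fun v => hφ v)
    exact ⟨e.trans e1⟩
  · obtain ⟨e⟩ := Cfsg.Agent.Lib.Helper50.nonempty_centralizer_symm p h2 hm g₃ hs₃
    obtain ⟨φ, hφ⟩ := hT₃
    obtain ⟨e1⟩ := Cfsg.Agent.Lib.Helper50.nonempty_pgo_congr φ
      (Cfsg.Agent.Lib.Helper50.matQuad g₃.val) (Cfsg.quadFormMinus (m - 1) F 1 ζ) (fun v => hφ v)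
    exact ⟨e.trans e1⟩

end Cfsg.Agent.S2700
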