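import Cfsg.Statements.S2701
import Cfsg.Agent.Lib.Helper50.GraphChar2

set_option autoImplicit false
open Cfsg

namespace Cfsg.Agent.S2701

/-- Let T = PSL_n(F) over a finite field of characteristic 2 with n = 2m ≥ 4 even, and G = Inndiag(T) the image of PGL_n(F). The involutory graph automorphisms of T fall into exactly two G-classes, with representatives γ₁ and γ₃ whose centralizers in G are isomorphic respectively to the symplectic group Sp_n(F) and to the centralizer in Sp_n(F) of a symplectic transvection. -/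
theorem result {F : Type*} [Field F] [Fintype F] [CharP F 2] {n m : ℕ} (hm : 2 ≤ m) (hnm : n = 2 * m) :
    ∃ (γ₁ γ₃ : MulAut (Matrix.ProjectiveSpecialLinearGroup (Fin n) F)) (t : ↥(Matrix.symplecticGroup (Fin m) F)), Cfsg.IsTransvection (t : Matrix (Fin m ⊕ Fin m) (Fin m ⊕ Fin m) F) ∧ Cfsg.IsGraphAutClassPSL γ₁ ∧ orderOf γ₁ = 2 ∧ Cfsg.IsGraphAutClassPSL γ₃ ∧ orderOf γ₃ = 2 ∧ ¬ Cfsg.IsConjUnder (Cfsg.inndiagPSL n F) γ₁ γ₃ ∧ (∀ γ : MulAut (Matrix.ProjectiveSpecialLinearGroup (Fin n) F), Cfsg.IsGraphAutClassPSL γ → orderOf γ = 2 → Cfsg.IsConjUnder (Cfsg.inndiagPSL n F) γ₁ γ ∨ Cfsg.IsConjUnder (Cfsg.inndiagPSL n F) γ₃ γ) ∧ Nonempty (↥(Cfsg.inndiagPSL n F ⊓ Subgroup.centralizer {γ₁}) ≃* ↥(Matrix.symplecticGroup (Fin m) F)) ∧ Nonempty (↥(Cfsg.inndiagPSL n F ⊓ Subgroup.centralizer {γ₃}) ≃* ↥(Subgroup.centralizer ({t} : Set ↥(Matrix.symplecticGroup (Fin m) F)))) := by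
  classical
  subst hnm
  haveI : Fact (Nat.Prime 2) := ⟨Nat.prime_two⟩
  have hm0 : 0 < m := by omega
  have hsq : ∀ a : F, ∃ b : F, b * b = a := by
    intro a
    obtain ⟨r, hr⟩ := FiniteField.isSquare_of_char_two (ringChar.eq F 2) a
    exact ⟨r, hr.symm⟩
  have hG3s : (Cfsg.Agent.Lib.Helper50.G3 m hm0 (F := F)).val.transpose =
      (Cfsg.Agent.Lib.Helper50.G3 m hm0 (F := F)).val :=
    Cfsg.Agent.Lib.Helper50.M3_transpose m hm0
  refine ⟨Cfsg.Agent.Lib.Helper50.graphAut (Cfsg.Agent.Lib.Helper50.JGL m F),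
    Cfsg.Agent.Lib.Helper50.graphAut (Cfsg.Agent.Lib.Helper50.G3 m hm0),
    Cfsg.Agent.Lib.Helper50.t0 m hm0, Cfsg.Agent.Lib.Helper50.isTransvection_t0 m hm0,
    ?_, ?_, ?_, ?_, ?_, ?_, ?_, ?_⟩
  · exact (Cfsg.Agent.Lib.Helper50.isGraphAutClass_iff _).mpr ⟨by omega, _, rfl⟩
  · exact Cfsg.Agent.Lib.Helper50.orderOf_graphAut_JGL 2 hm
  · exact (Cfsg.Agent.Lib.Helper50.isGraphAutClass_iff _).mpr ⟨by omega, _, rfl⟩
  · exact Cfsg.Agent.Lib.Helper50.orderOf_graphAut_symm 2 hm _ hG3s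
  · exact Cfsg.Agent.Lib.Helper50.not_isConj_J_M3 m hm0 hm
  · intro γ hγ hγ2
    obtain ⟨-, g, rfl⟩ := (Cfsg.Agent.Lib.Helper50.isGraphAutClass_iff γ).mp hγ
    rw [Cfsg.Agent.Lib.Helper50.orderOf_graphAut_eq_two_iff' 2 (by omega)] at hγ2
    obtain ⟨c, hc⟩ := hγ2
    have hdg := Cfsg.Agent.Lib.Helper50.det_gl_ne_zero g
    have hT : g.val.transpose = (c : F) • g.val := by
      have := congrArg Matrix.transpose hc
      rw [Matrix.transpose_smul, Matrix.transpose_transpose] at this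
      exact this
    have hcc : (c : F) * c = 1 := by
      have h1 : g.val = ((c : F) * c) • g.val := by
        rw [← smul_smul, ← hT, ← hc]
      have hne : g.val ≠ 0 := by
        intro h0
        haveI : Nonempty (Fin (2 * m)) := ⟨⟨0, by omega⟩⟩
        rw [h0, Matrix.det_zero] at hdg
        exact hdg rfl
      by_contra hne1
      apply hne
      have h3 : (((c : F) * c) - 1) • g.val = 0 := by
        rw [sub_smul, one_smul, ← h1, sub_self]
      rcases smul_eq_zero.mp h3 with h | h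
      · exact absurd (sub_eq_zero.mp h) hne1
      · exact h
    have hc1 : (c : F) = 1 := Cfsg.Agent.Lib.Helper50.sq_eq_one_char_two hcc
    rw [hc1, one_smul] at hT
    by_cases hd : ∀ i, g.val i i = 0
    · left
      apply Cfsg.Agent.Lib.Helper50.isConj_J_of_isAlt 2 hm g
      intro v
      rw [Matrix.toBilin'_apply']
      exact Cfsg.Agent.Lib.Helper50.matQuad_eq_zero_of_diag g.val hT hd v
    · right
      push Not at hd
      have h1 := Cfsg.Agent.Lib.Helper50.isConj_one_of_not_alt (n := 2 * m) (by omega) g hT hd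
      have h3 := Cfsg.Agent.Lib.Helper50.isConj_one_of_not_alt (n := 2 * m) (by omega)
        (Cfsg.Agent.Lib.Helper50.G3 m hm0 (F := F)) hG3s
        ⟨_, Cfsg.Agent.Lib.Helper50.M3_diag m hm0⟩
      exact Cfsg.Agent.Lib.Helper50.isConjUnder_trans _ h3
        (Cfsg.Agent.Lib.Helper50.isConjUnder_symm _ h1)
  · obtain ⟨e⟩ := Cfsg.Agent.Lib.Helper50.nonempty_centralizer_JGL (F := F) 2 hm
    obtain ⟨e1⟩ := Cfsg.Agent.Lib.Helper50.nonempty_pgsp_equiv_sp (F := F) m hsq hm0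
    exact ⟨e.trans e1⟩
  · obtain ⟨e⟩ := Cfsg.Agent.Lib.Helper50.nonempty_centralizer_graphAut_equiv 2
      (n := 2 * m) (by omega) (Cfsg.Agent.Lib.Helper50.G3 m hm0 (F := F))
    obtain ⟨e1⟩ := Cfsg.Agent.Lib.Helper50.nonempty_projQuot_M3 (F := F) m hm0
    obtain ⟨e2⟩ := Cfsg.Agent.Lib.Helper50.nonempty_preserving_equiv_projQuot hsq
      (Cfsg.Agent.Lib.Helper50.bForm m hm0 (F := F)) (Cfsg.Agent.Lib.Helper50.bForm_smul m hm0)
      (Cfsg.Agent.Lib.Helper50.bForm_ne_zero m hm0)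
    obtain ⟨e3⟩ := Cfsg.Agent.Lib.Helper50.nonempty_centralizer_t0_equiv (F := F) m hm0
    exact ⟨(e.trans e1).trans (e2.symm.trans e3.symm)⟩

end Cfsg.Agent.S2701
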