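import Cfsg.Statements.S2703
import Cfsg.Agent.Lib.Helper50.InvTCent
import Cfsg.Agent.Lib.Helper50.DotForm

set_option autoImplicit false
open Cfsg

namespace Cfsg.Agent.S2703

/-- Let T = PSL_n(F) over the field with q elements, q odd, n = 2m ≥ 4 even, and ι the inverse-transpose automorphism. Its centralizer in G = Inndiag(T) (the image of PGL_n(F)) is isomorphic to the projective conformal orthogonal group of the plus-type form Σ xᵢ yᵢ in dimension n when n(q − 1)/4 is even, and to that of a minus-type form (Σ xᵢ yᵢ + z₁² + a z₁ z₂ + b z₂² with anisotropic binary part) when n(q − 1)/4 is odd. -/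
theorem result {F : Type*} [Field F] [Fintype F] (hodd : Odd (Fintype.card F)) {n m : ℕ} (hm : 2 ≤ m) (hnm : n = 2 * m) (ι : MulAut (Matrix.ProjectiveSpecialLinearGroup (Fin n) F)) (hι : Cfsg.IsInverseTransposeAutPSL ι) :
    (Even (n * (Fintype.card F - 1) / 4) → Nonempty (↥(Cfsg.inndiagPSL n F ⊓ Subgroup.centralizer {ι}) ≃* Cfsg.PGO F (Cfsg.quadFormPlus m F))) ∧ (¬ Even (n * (Fintype.card F - 1) / 4) → ∃ a b : F, (∀ z₁ z₂ : F, z₁ ^ 2 + a * z₁ * z₂ + b * z₂ ^ 2 = 0 → z₁ = 0 ∧ z₂ = 0) ∧ Nonempty (↥(Cfsg.inndiagPSL n F ⊓ Subgroup.centralizer {ι}) ≃* Cfsg.PGO F (Cfsg.quadFormMinus (m - 1) F a b))) := by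
  classical
  subst hnm
  have h2 : (2 : F) ≠ 0 := Cfsg.Agent.Lib.Helper50.two_ne_zero_of_odd_card rfl hodd
  obtain ⟨e0⟩ := Cfsg.Agent.Lib.Helper50.nonempty_centralizer_equiv_pgo (n := 2 * m) (F := F)
    (by omega) h2 ι hι
  have hD := Cfsg.Agent.Lib.Helper50.dotQF_type (F := F) h2 m
  have hev := Cfsg.Agent.Lib.Helper50.even_iff_isSquare_neg_one_pow (F := F) hodd m
  constructor
  · intro he
    obtain ⟨φ, hφ⟩ := hD.1 (hev.mp he)
    obtain ⟨e1⟩ := Cfsg.Agent.Lib.Helper50.nonempty_pgo_congr φ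
      (fun v : Fin (2 * m) → F => v ⬝ᵥ v) (Cfsg.quadFormPlus m F) (fun v => hφ v)
    exact ⟨e0.trans e1⟩
  · intro he
    obtain ⟨ζ, hζ, φ, hφ⟩ := hD.2 (fun h => he (hev.mpr h))
    obtain ⟨e1⟩ := Cfsg.Agent.Lib.Helper50.nonempty_pgo_congr φ
      (fun v : Fin (2 * m) → F => v ⬝ᵥ v) (Cfsg.quadFormMinus (m - 1) F 1 ζ) (fun v => hφ v)
    exact ⟨1, ζ, Cfsg.Agent.Lib.Helper50.anis_of_irred ζ hζ, ⟨e0.trans e1⟩⟩

end Cfsg.Agent.S2703
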