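import Cfsg.Statements.S2707
import Cfsg.Agent.Lib.Helper50.PSUl
import Cfsg.Agent.S2700

set_option autoImplicit false
open Cfsg

namespace Cfsg.Agent.S2707

/-- Let T = PSU_n(q) with n = 2m ≥ 4 even and q odd, realised over the field F with q² elements, and G = Inndiag(T) the image of PGU_n(q). The involutory graph automorphisms of T fall into exactly three G-classes, with representatives whose centralizers in G are isomorphic respectively to the projective conformal symplectic group PGSp_n(F₀), the projective conformal orthogonal group of the plus-type form Σ xᵢ yᵢ, and that of a minus-type form Σ xᵢ yᵢ + z₁² + a z₁ z₂ + b z₂² (anisotropic binary part) in dimension n, all over a field F₀ with q elements. -/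
theorem result {F : Type*} [Field F] [Fintype F] {q : ℕ} (hodd : Odd q) (hF : Fintype.card F = q ^ 2) {n m : ℕ} (hm : 2 ≤ m) (hnm : n = 2 * m) (F₀ : Type*) [Field F₀] [Fintype F₀] (hF₀ : Fintype.card F₀ = q) :
    ∃ (γ₁ γ₂ γ₃ : MulAut (Cfsg.PSU n F q)) (a b : F₀), (∀ z₁ z₂ : F₀, z₁ ^ 2 + a * z₁ * z₂ + b * z₂ ^ 2 = 0 → z₁ = 0 ∧ z₂ = 0) ∧ Cfsg.IsGraphAutClassPSU γ₁ ∧ orderOf γ₁ = 2 ∧ Cfsg.IsGraphAutClassPSU γ₂ ∧ orderOf γ₂ = 2 ∧ Cfsg.IsGraphAutClassPSU γ₃ ∧ orderOf γ₃ = 2 ∧ ¬ Cfsg.IsConjUnder (Cfsg.inndiagPSU n F q) γ₁ γ₂ ∧ ¬ Cfsg.IsConjUnder (Cfsg.inndiagPSU n F q) γ₁ γ₃ ∧ ¬ Cfsg.IsConjUnder (Cfsg.inndiagPSU n F q) γ₂ γ₃ ∧ (∀ γ : MulAut (Cfsg.PSU n F q), Cfsg.IsGraphAutClassPSU γ → orderOf γ = 2 → Cfsg.IsConjUnder (Cfsg.inndiagPSU n F q) γ₁ γ ∨ Cfsg.IsConjUnder (Cfsg.inndiagPSU n F q) γ₂ γ ∨ Cfsg.IsConjUnder (Cfsg.inndiagPSU n F q) γ₃ γ) ∧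 Nonempty (↥(Cfsg.inndiagPSU n F q ⊓ Subgroup.centralizer {γ₁}) ≃* Cfsg.PGSp m F₀) ∧ Nonempty (↥(Cfsg.inndiagPSU n F q ⊓ Subgroup.centralizer {γ₂}) ≃* Cfsg.PGO F₀ (Cfsg.quadFormPlus m F₀)) ∧ Nonempty (↥(Cfsg.inndiagPSU n F q ⊓ Subgroup.centralizer {γ₃}) ≃* Cfsg.PGO F₀ (Cfsg.quadFormMinus (m - 1) F₀ a b)) := by
  obtain ⟨C, ⟨S⟩⟩ := Cfsg.Agent.Lib.Helper50.exists_context hF hF₀
  have hn : 3 ≤ n := by omega
  have hs : ¬ (n = 3 ∧ q = 2) := by omega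
  obtain ⟨p₀, hp₀, hchar⟩ := Cfsg.Agent.Lib.Helper50.exists_prime_char (F := F₀)
  have : Fact p₀.Prime := ⟨hp₀⟩
  have hodd' : Odd (Fintype.card F₀) := by rw [hF₀]; exact hodd
  obtain ⟨g₁, g₂, g₃, a, b, hab, h1, h1o, h2, h2o, h3, h3o, n12, n13, n23, hall, c1, c2, c3⟩ :=
    Cfsg.Agent.S2700.result hodd' hm hnm
  obtain ⟨D₁, rfl⟩ := Cfsg.Agent.Lib.Helper50.exists_datum_of_psl (C := C) (S := S) hn p₀ g₁ h1 h1o
  obtain ⟨D₂, rfl⟩ := Cfsg.Agent.Lib.Helper50.exists_datum_of_psl (C := C) (S := S) hn p₀ g₂ h2 h2o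
  obtain ⟨D₃, rfl⟩ := Cfsg.Agent.Lib.Helper50.exists_datum_of_psl (C := C) (S := S) hn p₀ g₃ h3 h3o
  refine ⟨D₁.aut, D₂.aut, D₃.aut, a, b, hab, D₁.isGraphAutClass hn hs, D₁.orderOf_aut hn hs,
    D₂.isGraphAutClass hn hs, D₂.orderOf_aut hn hs, D₃.isGraphAutClass hn hs,
    D₃.orderOf_aut hn hs, ?_, ?_, ?_, ?_, ?_, ?_, ?_⟩
  · rw [Cfsg.Agent.Lib.Helper50.GDatum.isConj_iff_psl hn hs p₀]
    exact n12
  · rw [Cfsg.Agent.Lib.Helper50.GDatum.isConj_iff_psl hn hs p₀]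
    exact n13
  · rw [Cfsg.Agent.Lib.Helper50.GDatum.isConj_iff_psl hn hs p₀]
    exact n23
  · intro γ hγ hγ2
    obtain ⟨D, rfl⟩ := Cfsg.Agent.Lib.Helper50.exists_datum_of_aut (C := C) (S := S) hn hs γ hγ hγ2
    rcases hall (Cfsg.Agent.Lib.Helper50.graphAut D.M) (D.isGraphAutClass_psl hn)
      (D.orderOf_graphAut_psl hn p₀) with h | h | h
    · left
      exact (Cfsg.Agent.Lib.Helper50.GDatum.isConj_iff_psl hn hs p₀ D₁ D).mpr h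
    · right; left
      exact (Cfsg.Agent.Lib.Helper50.GDatum.isConj_iff_psl hn hs p₀ D₂ D).mpr h
    · right; right
      exact (Cfsg.Agent.Lib.Helper50.GDatum.isConj_iff_psl hn hs p₀ D₃ D).mpr h
  · obtain ⟨e⟩ := D₁.nonempty_centralizer_equiv_psl hn hs p₀
    obtain ⟨e'⟩ := c1
    exact ⟨e.trans e'⟩
  · obtain ⟨e⟩ := D₂.nonempty_centralizer_equiv_psl hn hs p₀
    obtain ⟨e'⟩ := c2
    exact ⟨e.trans e'⟩
  · obtain ⟨e⟩ := D₃.nonempty_centralizer_equiv_psl hn hs p₀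
    obtain ⟨e'⟩ := c3
    exact ⟨e.trans e'⟩

end Cfsg.Agent.S2707
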