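import Cfsg.Statements.S2708
import Cfsg.Agent.Lib.Helper50.PSUl
import Cfsg.Agent.S2701

set_option autoImplicit false
open Cfsg

namespace Cfsg.Agent.S2708

/-- Let T = PSU_n(q) with n = 2m ≥ 4 even and q even, realised over the field F (of characteristic 2) with q² elements, and G = Inndiag(T) the image of PGU_n(q). The involutory graph automorphisms of T fall into exactly two G-classes, with representatives whose centralizers in G are isomorphic respectively to the symplectic group Sp_n(F₀) and to the centralizer in Sp_n(F₀) of a symplectic transvection, F₀ a field with q elements. -/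
theorem result {F : Type*} [Field F] [Fintype F] [CharP F 2] {q : ℕ} (hF : Fintype.card F = q ^ 2) {n m : ℕ} (hm : 2 ≤ m) (hnm : n = 2 * m) (F₀ : Type*) [Field F₀] [Fintype F₀] (hF₀ : Fintype.card F₀ = q) :
    ∃ (γ₁ γ₃ : MulAut (Cfsg.PSU n F q)) (t : ↥(Matrix.symplecticGroup (Fin m) F₀)), Cfsg.IsTransvection (t : Matrix (Fin m ⊕ Fin m) (Fin m ⊕ Fin m) F₀) ∧ Cfsg.IsGraphAutClassPSU γ₁ ∧ orderOf γ₁ = 2 ∧ Cfsg.IsGraphAutClassPSU γ₃ ∧ orderOf γ₃ = 2 ∧ ¬ Cfsg.IsConjUnder (Cfsg.inndiagPSU n F q) γ₁ γ₃ ∧ (∀ γ : MulAut (Cfsg.PSU n F q), Cfsg.IsGraphAutClassPSU γ → orderOf γ = 2 → Cfsg.IsConjUnder (Cfsg.inndiagPSU n F q) γ₁ γ ∨ Cfsg.IsConjUnder (Cfsg.inndiagPSU n F q) γ₃ γ) ∧ Nonempty (↥(Cfsg.inndiagPSU n F q ⊓ Subgroup.centralizer {γ₁}) ≃* ↥(Matrix.symplecticGroup (Fin m) F₀)) ∧ Nonempty (↥(Cfsg.inndiagPSU n F q ⊓ Subgroup.centralizer {γ₃}) ≃* ↥(Subgroup.centralizer ({t} : Set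 ↥(Matrix.symplecticGroup (Fin m) F₀)))) := by
  obtain ⟨C, ⟨S⟩⟩ := Cfsg.Agent.Lib.Helper50.exists_context hF hF₀
  have hn : 3 ≤ n := by omega
  have hs : ¬ (n = 3 ∧ q = 2) := by omega
  have : Fact (Nat.Prime 2) := ⟨Nat.prime_two⟩
  have hchar : CharP F₀ 2 := RingHom.charP S.ι S.inj 2
  obtain ⟨g₁, g₃, t, ht, h1, h1o, h3, h3o, n13, hall, c1, c3⟩ :=
    Cfsg.Agent.S2701.result (F := F₀) hm hnm
  obtain ⟨D₁, rfl⟩ := Cfsg.Agent.Lib.Helper50.exists_datum_of_psl (C := C) (S := S) hn 2 g₁ h1 h1o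
  obtain ⟨D₃, rfl⟩ := Cfsg.Agent.Lib.Helper50.exists_datum_of_psl (C := C) (S := S) hn 2 g₃ h3 h3o
  refine ⟨D₁.aut, D₃.aut, t, ht, D₁.isGraphAutClass hn hs, D₁.orderOf_aut hn hs,
    D₃.isGraphAutClass hn hs, D₃.orderOf_aut hn hs, ?_, ?_, ?_, ?_⟩
  · rw [Cfsg.Agent.Lib.Helper50.GDatum.isConj_iff_psl hn hs 2]
    exact n13
  · intro γ hγ hγ2
    obtain ⟨D, rfl⟩ := Cfsg.Agent.Lib.Helper50.exists_datum_of_aut (C := C) (S := S) hn hs γ hγ hγ2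
    rcases hall (Cfsg.Agent.Lib.Helper50.graphAut D.M) (D.isGraphAutClass_psl hn)
      (D.orderOf_graphAut_psl hn 2) with h | h
    · left
      exact (Cfsg.Agent.Lib.Helper50.GDatum.isConj_iff_psl hn hs 2 D₁ D).mpr h
    · right
      exact (Cfsg.Agent.Lib.Helper50.GDatum.isConj_iff_psl hn hs 2 D₃ D).mpr h
  · obtain ⟨e⟩ := D₁.nonempty_centralizer_equiv_psl hn hs 2
    obtain ⟨e'⟩ := c1
    exact ⟨e.trans e'⟩
  · obtain ⟨e⟩ := D₃.nonempty_centralizer_equiv_psl hn hs 2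
    obtain ⟨e'⟩ := c3
    exact ⟨e.trans e'⟩

end Cfsg.Agent.S2708
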