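import Cfsg.Statements.S2710
import Cfsg.Agent.Lib.Helper50.PSUl
import Cfsg.Agent.S2703

set_option autoImplicit false
open Cfsg

namespace Cfsg.Agent.S2710

/-- Let T = PSU_n(q) with n ≥ 4 divisible by 4 (n = 2m) and q odd, realised over the field F with q² elements, G = Inndiag(T) the image of PGU_n(q), and φ the standard field automorphism of T attached to the q-th power map of F (it induces inverse-transpose on the unitary matrices and is a graph automorphism). Its centralizer in G is isomorphic to the projective conformal orthogonal group of the plus-type form Σ xᵢ yᵢ in dimension n over a field F₀ with q elements. (Dimensions n ≡ 2 (mod 4) are not covered.) -/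
theorem result {F : Type*} [Field F] [Fintype F] {q : ℕ} (hodd : Odd q) (hF : Fintype.card F = q ^ 2) {n m : ℕ} (hm : 2 ≤ m) (hnm : n = 2 * m) (h4 : 4 ∣ n) (F₀ : Type*) [Field F₀] [Fintype F₀] (hF₀ : Fintype.card F₀ = q) (σ : F ≃+* F) (hσ : ∀ a : F, σ a = a ^ q) (φ : MulAut (Cfsg.PSU n F q)) (hφ : Cfsg.IsFieldAutPSUOf σ φ) :
    Nonempty (↥(Cfsg.inndiagPSU n F q ⊓ Subgroup.centralizer {φ}) ≃* Cfsg.PGO F₀ (Cfsg.quadFormPlus m F₀)) := by
  obtain ⟨C, ⟨S⟩⟩ := Cfsg.Agent.Lib.Helper50.exists_context hF hF₀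
  have hn : 3 ≤ n := by omega
  have hs : ¬ (n = 3 ∧ q = 2) := by omega
  obtain ⟨p₀, hp₀, hchar⟩ := Cfsg.Agent.Lib.Helper50.exists_prime_char (F := F₀)
  have : Fact p₀.Prime := ⟨hp₀⟩
  have hodd' : Odd (Fintype.card F₀) := by rw [hF₀]; exact hodd
  have hσC : σ = C.σ := by
    ext a
    rw [hσ, C.hσq]
  subst hσC
  have hφ' : φ = Cfsg.Agent.Lib.Helper50.fU C C.σ :=
    Cfsg.Agent.Lib.Helper50.eq_fieldAutU_of_isFieldAut C.σ C.hσq C.σ φ hφ
  -- the datum of the identity matrix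
  have hth : Cfsg.Agent.Lib.Helper50.thetaOf C (1 : F₀) = 1 := by
    unfold Cfsg.Agent.Lib.Helper50.thetaOf
    rw [if_pos rfl]
  obtain ⟨D, hD⟩ : ∃ D : Cfsg.Agent.Lib.Helper50.GDatum C S n, D =
      ⟨1, 1, 1, Or.inl rfl, by rw [Units.val_one, Matrix.transpose_one, one_smul], by
        rw [hth, Units.val_one, Units.val_one, Matrix.transpose_one, Matrix.one_mul, one_smul,
          Cfsg.Agent.Lib.Helper50.map_sigma_one, S.map_one]⟩ := ⟨_, rfl⟩
  have hDR : D.R = 1 := by rw [hD]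
  have hDM : D.M = 1 := by rw [hD]
  have haut : D.aut = φ := by
    rw [hφ']
    unfold Cfsg.Agent.Lib.Helper50.GDatum.aut Cfsg.Agent.Lib.Helper50.graphAutU
    have hx : D.x = 1 := by
      apply Subtype.ext
      show Cfsg.Agent.Lib.Helper50.twGL C D.R = 1
      unfold Cfsg.Agent.Lib.Helper50.twGL
      rw [hDR, map_one, inv_one, mul_one]
    rw [hx, map_one, one_mul]
  obtain ⟨e⟩ := D.nonempty_centralizer_equiv_psl hn hs p₀
  rw [haut, hDM] at e
  have hg1 : Cfsg.Agent.Lib.Helper50.graphAut (1 : GL (Fin n) F₀)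
      = (Cfsg.Agent.Lib.Helper07.invT : MulAut (Matrix.ProjectiveSpecialLinearGroup (Fin n) F₀)) := by
    unfold Cfsg.Agent.Lib.Helper50.graphAut
    rw [map_one, one_mul]
  rw [hg1] at e
  have key := (Cfsg.Agent.S2703.result hodd' hm hnm Cfsg.Agent.Lib.Helper07.invT
    Cfsg.Agent.Lib.Helper07.isInverseTranspose_invT).1
  have heven : Even (n * (Fintype.card F₀ - 1) / 4) := by
    obtain ⟨a, ha⟩ := h4
    obtain ⟨b, hb⟩ := hodd'
    rw [ha, hb, Nat.mul_assoc, Nat.mul_div_cancel_left _ (by norm_num : 0 < 4)]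
    refine ⟨a * b, ?_⟩
    have : 2 * b + 1 - 1 = 2 * b := by omega
    rw [this]
    ring
  obtain ⟨e'⟩ := key heven
  exact ⟨e.trans e'⟩

end Cfsg.Agent.S2710
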