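import Cfsg.Statements.S2712
import Cfsg.Agent.Lib.Helper51.PSpAut6
import Cfsg.Agent.S2693

set_option autoImplicit false
open Cfsg

namespace Cfsg.Agent.S2712

/-- Let T = PSp_{2m}(F) be simple over the field F with p^f elements (m ≥ 2, (2m, |F|) ≠ (4, 2)), G = Inndiag(T) the image of the projective conformal symplectic group PGSp_{2m}(F), and x a field automorphism of T of prime order r. Then r divides f; C_G(x) is isomorphic to PGSp_{2m}(F₀) for a field F₀ with p^(f/r) elements; and the G-class of x is the union of exactly gcd(gcd(2, p^f − 1), r) T-classes. -/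
theorem result {F : Type*} [Field F] [Fintype F] {p f : ℕ} [Fact p.Prime] (hF : Fintype.card F = p ^ f) (hf : 1 ≤ f) {m : ℕ} (hm : 2 ≤ m) (hs : m = 2 → 3 ≤ Fintype.card F) (x : MulAut (Cfsg.PSp m F)) (hx : Cfsg.IsFieldAutClassPSp x) {r : ℕ} (hr : r.Prime) (hxr : orderOf x = r) (F₀ : Type*) [Field F₀] [Fintype F₀] (hF₀ : Fintype.card F₀ = p ^ (f / r)) :
    r ∣ f ∧ Nonempty (↥(Cfsg.inndiagPSp m F ⊓ Subgroup.centralizer {x}) ≃* Cfsg.PGSp m F₀) ∧ Cfsg.splitClassCount (Cfsg.inndiagPSp m F) (Cfsg.Inn (Cfsg.PSp m F)) x = Nat.gcd (Nat.gcd 2 (p ^ f - 1)) r := by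
  have : NeZero m := ⟨by omega⟩
  have : CharP F p := charP_of_card_eq_prime_pow hF
  obtain ⟨α, σ, hσ, hstd⟩ := hx
  have e := Cfsg.Agent.Lib.Helper51.PSpAut.eq_fieldAutPSp_of_std m hstd
  have hxo : orderOf (Cfsg.Agent.Lib.Helper51.PSpAut.fieldAutPSp m σ) = r := by
    rw [← e, Cfsg.Agent.Lib.Helper07.orderOf_conj_eq, hxr]
  have hσr : orderOf (σ : RingAut F) = r := by
    rw [← hxo, Cfsg.Agent.Lib.Helper51.PSpAut.orderOf_fieldAutPSp m hm]
  obtain ⟨hrf, -⟩ := Cfsg.Agent.Lib.Helper07.card_fixK p hF σ hσr hr.pos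
  obtain ⟨ι, hι, hι'⟩ :=
    Cfsg.Agent.Lib.Helper07.exists_fixed_embedding (F₀ := F₀) p hF σ hσr hr.pos hF₀
  rw [Cfsg.Agent.Lib.Helper51.PSpAut.inndiagPSp_eq_range]
  have hDn : (Cfsg.Agent.Lib.Helper51.PSpAut.conjGSp (F := F) m).range.Normal := by
    by_cases hp : p = 2
    · subst hp
      rw [Cfsg.Agent.Lib.Helper51.PSpAut.range_eq_inn_of_char_two m (ringChar.eq F 2)]
      infer_instance
    · apply Cfsg.Agent.Lib.Helper51.PSpAut.range_normal_of_gamma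
      exact Cfsg.Agent.S2693.result hm (fun _ => hp)
  refine ⟨hrf, ?_, ?_⟩
  · obtain ⟨e2⟩ := Cfsg.Agent.Lib.Helper51.PSpAut.centralizer_fieldAut_equiv (F₀ := F₀) m hm σ hσr
      hr.pos ι hι hι'
    have e1 := Cfsg.Agent.Lib.Helper07.centInfEquiv
      (Cfsg.Agent.Lib.Helper51.PSpAut.conjGSp (F := F) m).range α x
    rw [e] at e1
    exact ⟨e1.trans e2⟩
  · rw [← Cfsg.Agent.Lib.Helper07.splitClassCount_conj _ _
        (Cfsg.Agent.Lib.Helper51.PSpAut.inn_le_range m) α x, e,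
      Cfsg.Agent.Lib.Helper07.splitClassCount_eq_relIndex _ _
        (Cfsg.Agent.Lib.Helper51.PSpAut.inn_le_range m),
      Cfsg.Agent.Lib.Helper51.PSpAut.relIndex_fieldAut m hm σ hσr hr.pos,
      Cfsg.Agent.Lib.Helper07.index_fixU p hF σ hσr hr.pos,
      Cfsg.Agent.Lib.Helper51.PSpAut.gcd_arith (Fact.out : p.Prime) hr hrf hf]

end Cfsg.Agent.S2712
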