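import Cfsg.Statements.S2722
import Cfsg.Agent.Lib.Helper08.SimStd
import Cfsg.Agent.Lib.Helper50.StdForms

set_option autoImplicit false
open Cfsg

namespace Cfsg.Agent.S2722


open Cfsg.Agent.Lib.Helper08


/-- Let T = PΩ⁺_{2m}(F) with m ≥ 4 and |F| = q odd. Inside Aut(T), the image G̃ of the conformal orthogonal group of the form modulo the image of the special orthogonal group is elementary abelian of order 4. -/
theorem result {F : Type*} [Field F] [Fintype F] (hodd : Odd (Fintype.card F)) {m : ℕ} (hm : 4 ≤ m) :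
    (∃ φ : ↥(Cfsg.pgoAut F (Cfsg.quadFormPlus m F)) →* Multiplicative (ZMod 2 × ZMod 2), Function.Surjective φ ∧ φ.ker = (Cfsg.psoAut F (Cfsg.quadFormPlus m F)).subgroupOf (Cfsg.pgoAut F (Cfsg.quadFormPlus m F))) := by
  haveI : DecidableEq F := Classical.decEq F
  have hm3 : 3 ≤ m := by omega
  have h2 : (2 : F) ≠ 0 := Cfsg.Agent.Lib.Helper50.two_ne_zero_of_odd_card rfl hodd
  obtain ⟨Q, hQdef⟩ : ∃ Q : QuadraticForm F (Fin m ⊕ Fin m → F), Q = (qdataPlus (F := F) m).qf :=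
    ⟨_, rfl⟩
  have hcoe : ⇑Q = Cfsg.quadFormPlus m F := by rw [hQdef]; rfl
  have hQ : (QuadraticMap.polarBilin Q).Nondegenerate := by
    rw [hQdef]; exact (qdataPlus (F := F) m).qf_nondeg
  have HT : HypTriple Q (fun i => Pi.single (Sum.inl (Fin.castLE hm3 i)) 1)
      (fun i => Pi.single (Sum.inr (Fin.castLE hm3 i)) 1) := by
    rw [hQdef]; exact hypTriple_plus (F := F) m hm3
  have hcard : Fintype.card (Fin m ⊕ Fin m) = 2 * m := by
    rw [Fintype.card_sum, Fintype.card_fin]; ring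
  obtain ⟨ζ, hζ⟩ := Cfsg.Agent.Lib.Helper50.exists_nonsquare_of_two_ne_zero h2
  have hζ0 : ζ ≠ 0 := fun h => hζ (h ▸ ⟨0, by ring⟩)
  have hmem : swapGL m (Units.mk0 ζ hζ0) ∈ Cfsg.Geo.quadSimilarityGroup (F := F) ⇑Q := by
    rw [hcoe]; exact swapGL_mem m _
  have hu : Q (Pi.single (Sum.inl (Fin.castLE hm3 0)) 1 + Pi.single (Sum.inr (Fin.castLE hm3 0)) 1)
      = 1 := by
    rw [QuadraticMap.map_add (⇑Q), HT.qe 0, HT.qf 0, HT.ef]; simp
  have hmult : multFun Q ⟨_, hmem⟩ = Units.mk0 ζ hζ0 :=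
    multFun_unique Q hu ⟨_, hmem⟩ _ (fun v => by
      have h1 := quadFormPlus_swap m ζ v
      rw [← hcoe] at h1
      exact h1)
  have hmain := pgoAut_mod_psoAut Q m h2 hQ hcard _ _ HT ⟨_, hmem⟩ (by rw [hmult]; exact hζ)
  rw [hcoe] at hmain
  exact hmain

end Cfsg.Agent.S2722
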