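import Cfsg.Statements.S2723
import Cfsg.Agent.Lib.Helper08.AutOmegaKer
import Cfsg.Agent.Lib.Helper08.OmegaStd
import Cfsg.Agent.Lib.Helper08.PowMod4
import Cfsg.Agent.Lib.Helper50.StdForms
import Cfsg.Agent.S0790

set_option autoImplicit false
open Cfsg

namespace Cfsg.Agent.S2723


open Cfsg.Agent.Lib.Helper08


/-- Let T = PΩ⁺_{2m}(F) with m ≥ 4 and |F| = q odd. The image of the special orthogonal group in Aut(T) contains the inner automorphism group T with index 1 (they coincide) when m is odd and q ≡ 3 (mod 4), and with index 2 otherwise (the index is 2 exactly when the discriminant of the form is a square). -/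
theorem result {F : Type*} [Field F] [Fintype F] (hodd : Odd (Fintype.card F)) {m : ℕ} (hm : 4 ≤ m) :
    ((Odd m ∧ Fintype.card F % 4 = 3) → (Cfsg.Inn (Cfsg.POmega F (Cfsg.quadFormPlus m F))).relIndex (Cfsg.psoAut F (Cfsg.quadFormPlus m F)) = 1) ∧ (¬ (Odd m ∧ Fintype.card F % 4 = 3) → (Cfsg.Inn (Cfsg.POmega F (Cfsg.quadFormPlus m F))).relIndex (Cfsg.psoAut F (Cfsg.quadFormPlus m F)) = 2) := by
  classical
  have hm3 : 3 ≤ m := by omega
  have hm1 : 1 ≤ m := by omega
  have h2 : (2 : F) ≠ 0 := Cfsg.Agent.Lib.Helper50.two_ne_zero_of_odd_card rfl hodd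
  obtain ⟨Q, hQdef⟩ : ∃ Q : QuadraticForm F (Fin m ⊕ Fin m → F), Q = (qdataPlus (F := F) m).qf :=
    ⟨_, rfl⟩
  have hcoe : ⇑Q = Cfsg.quadFormPlus m F := by rw [hQdef]; rfl
  have hQ : (QuadraticMap.polarBilin Q).Nondegenerate := by
    rw [hQdef]; exact (qdataPlus (F := F) m).qf_nondeg
  have HT : HypTriple Q (fun i => Pi.single (Sum.inl (Fin.castLE hm3 i)) 1)
      (fun i => Pi.single (Sum.inr (Fin.castLE hm3 i)) 1) := by
    rw [hQdef]; exact hypTriple_plus (F := F) m hm3
  have heven : Even (Fintype.card (Fin m ⊕ Fin m)) := by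
    rw [Fintype.card_sum, Fintype.card_fin]; exact ⟨m, rfl⟩
  have hmain := relIndex_inn_psoAut Q h2 hQ _ _ HT heven
  have hcrit := Cfsg.Agent.S0790.result (F := F) rfl hodd m hm1
  rw [← hcoe] at hcrit ⊢
  have hq4 : Fintype.card F % 4 = 1 ∨ Fintype.card F % 4 = 3 := by
    rcases hodd with ⟨r, hr⟩
    omega
  constructor
  · rintro ⟨hmo, h3⟩
    apply hmain.2
    rw [hcrit, pow_mod_four_of_mod_three_odd h3 hmo]
    norm_num
  · intro hn
    apply hmain.1
    rw [hcrit]
    rcases hq4 with h1 | h3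
    · exact pow_mod_four_of_mod_one h1 m
    · have hme : Even m := by
        rw [← Nat.not_odd_iff_even]
        intro hmo
        exact hn ⟨hmo, h3⟩
      exact pow_mod_four_of_mod_three_even h3 hme

end Cfsg.Agent.S2723
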