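import Cfsg.Statements.S2724
import Cfsg.Agent.Lib.Helper08.SimStd
import Cfsg.Agent.Lib.Helper08.PgoModInn
import Cfsg.Agent.Lib.Helper08.PowMod4
import Cfsg.Agent.Lib.Helper50.StdForms
import Cfsg.Agent.S0790

set_option autoImplicit false
open Cfsg

namespace Cfsg.Agent.S2724


open Cfsg.Agent.Lib.Helper08


/-- Let T = PΩ⁺_{2m}(F) with m ≥ 4 and |F| = q odd. The image G̃ of the conformal orthogonal group in Aut(T), taken modulo the inner automorphism group T, is elementary abelian of order 4 when m is odd and q ≡ 3 (mod 4), and dihedral of order 8 otherwise. -/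
theorem result {F : Type*} [Field F] [Fintype F] (hodd : Odd (Fintype.card F)) {m : ℕ} (hm : 4 ≤ m) :
    ((Odd m ∧ Fintype.card F % 4 = 3) → (∃ φ : ↥(Cfsg.pgoAut F (Cfsg.quadFormPlus m F)) →* Multiplicative (ZMod 2 × ZMod 2), Function.Surjective φ ∧ φ.ker = (Cfsg.Inn (Cfsg.POmega F (Cfsg.quadFormPlus m F))).subgroupOf (Cfsg.pgoAut F (Cfsg.quadFormPlus m F)))) ∧ (¬ (Odd m ∧ Fintype.card F % 4 = 3) → (∃ φ : ↥(Cfsg.pgoAut F (Cfsg.quadFormPlus m F)) →* DihedralGroup 4, Function.Surjective φ ∧ φ.ker = (Cfsg.Inn (Cfsg.POmega F (Cfsg.quadFormPlus m F))).subgroupOf (Cfsg.pgoAut F (Cfsg.quadFormPlus m F)))) := by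
  have : DecidableEq F := Classical.decEq F
  have hm3 : 3 ≤ m := by omega
  have hm1 : 1 ≤ m := by omega
  have h2 : (2 : F) ≠ 0 := Cfsg.Agent.Lib.Helper50.two_ne_zero_of_odd_card rfl hodd
  obtain ⟨Q, hQdef⟩ : ∃ Q : QuadraticForm F (Fin m ⊕ Fin m → F), Q = (qdataPlus (F := F) m).qf :=
    ⟨_, rfl⟩
  have hcoe : ⇑Q = Cfsg.quadFormPlus m F := by rw [hQdef]; rfl
  have hQ : (QuadraticMap.polarBilin Q).Nondegenerate := by
    rw [hQdef]; exact (qdataPlus (F := F) m).qf_nondeg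
  have HT : HypTriple Q (fun i => Pi.single (Sum.inl (Fin.castLE hm3 i)) 1)
      (fun i => Pi.single (Sum.inr (Fin.castLE hm3 i)) 1) := by
    rw [hQdef]; exact hypTriple_plus (F := F) m hm3
  have hcard : Fintype.card (Fin m ⊕ Fin m) = 2 * m := by
    rw [Fintype.card_sum, Fintype.card_fin]; ring
  obtain ⟨ζ, hζ⟩ := Cfsg.Agent.Lib.Helper50.exists_nonsquare_of_two_ne_zero h2
  have hζ0 : ζ ≠ 0 := fun h => hζ (h ▸ ⟨0, by ring⟩)
  have hmem : swapGL m (Units.mk0 ζ hζ0) ∈ Cfsg.Geo.quadSimilarityGroup (F := F) ⇑Q := by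
    rw [hcoe]; exact swapGL_mem m _
  have hu : Q (Pi.single (Sum.inl (Fin.castLE hm3 0)) 1 + Pi.single (Sum.inr (Fin.castLE hm3 0)) 1)
      = 1 := by
    rw [QuadraticMap.map_add (⇑Q), HT.qe 0, HT.qf 0, HT.ef]; simp
  have hmult : multFun Q ⟨_, hmem⟩ = Units.mk0 ζ hζ0 :=
    multFun_unique Q hu ⟨_, hmem⟩ _ (fun v => by
      have h1 := quadFormPlus_swap m ζ v
      rw [← hcoe] at h1
      exact h1)
  have hmain := pgoAut_mod_inn Q m h2 hQ hcard _ _ HT ⟨_, hmem⟩ (by rw [hmult]; exact hζ)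
    ⟨ζ, swapMat_mul_self m ζ⟩
  have hcrit := Cfsg.Agent.S0790.result (F := F) rfl hodd m hm1
  rw [← hcoe] at hcrit
  have hq4 : Fintype.card F % 4 = 1 ∨ Fintype.card F % 4 = 3 := by
    rcases hodd with ⟨r, hr⟩
    omega
  have key : ∀ (q : (Fin m ⊕ Fin m → F) → F), ⇑Q = q →
      ((Odd m ∧ Fintype.card F % 4 = 3) →
        (∃ φ : ↥(Cfsg.pgoAut F q) →* Multiplicative (ZMod 2 × ZMod 2), Function.Surjective φ ∧
          φ.ker = (Cfsg.Inn (Cfsg.POmega F q)).subgroupOf (Cfsg.pgoAut F q))) ∧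
      (¬ (Odd m ∧ Fintype.card F % 4 = 3) →
        (∃ φ : ↥(Cfsg.pgoAut F q) →* DihedralGroup 4, Function.Surjective φ ∧
          φ.ker = (Cfsg.Inn (Cfsg.POmega F q)).subgroupOf (Cfsg.pgoAut F q))) := by
    rintro q rfl
    constructor
    · rintro ⟨hmo, h3⟩
      apply hmain.2
      rw [hcrit, pow_mod_four_of_mod_three_odd h3 hmo]
      norm_num
    · intro hn
      apply hmain.1
      rw [hcrit]
      rcases hq4 with h1 | h3
      · exact pow_mod_four_of_mod_one h1 m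
      · have hme : Even m := by
          rw [← Nat.not_odd_iff_even]
          intro hmo
          exact hn ⟨hmo, h3⟩
        exact pow_mod_four_of_mod_three_even h3 hme
  exact key _ hcoe

end Cfsg.Agent.S2724
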