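import Cfsg.Statements.S2726
import Cfsg.Agent.Lib.Helper08.SimStd
import Cfsg.Agent.Lib.Helper50.StdForms

set_option autoImplicit false
open Cfsg

namespace Cfsg.Agent.S2726


open Cfsg.Agent.Lib.Helper08


/-- Let T = PΩ⁻_{2m+2}(F) with m ≥ 3 and |F| = q odd (form with anisotropic binary part). Inside Aut(T), the image G̃ of the conformal orthogonal group of the form modulo the image of the special orthogonal group is elementary abelian of order 4. -/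
theorem result {F : Type*} [Field F] [Fintype F] (hodd : Odd (Fintype.card F)) {m : ℕ} (hm : 3 ≤ m) (a b : F) (hab : (∀ z₁ z₂ : F, z₁ ^ 2 + a * z₁ * z₂ + b * z₂ ^ 2 = 0 → z₁ = 0 ∧ z₂ = 0)) :
    (∃ φ : ↥(Cfsg.pgoAut F (Cfsg.quadFormMinus m F a b)) →* Multiplicative (ZMod 2 × ZMod 2), Function.Surjective φ ∧ φ.ker = (Cfsg.psoAut F (Cfsg.quadFormMinus m F a b)).subgroupOf (Cfsg.pgoAut F (Cfsg.quadFormMinus m F a b))) := by
  have : DecidableEq F := Classical.decEq F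
  have hm3 : 3 ≤ m := hm
  have h2 : (2 : F) ≠ 0 := Cfsg.Agent.Lib.Helper50.two_ne_zero_of_odd_card rfl hodd
  obtain ⟨Q, hQdef⟩ : ∃ Q : QuadraticForm F ((Fin m ⊕ Fin m) ⊕ Fin 2 → F),
      Q = (qdataMinus (F := F) m a b hab).qf := ⟨_, rfl⟩
  have hcoe : ⇑Q = Cfsg.quadFormMinus m F a b := by rw [hQdef]; rfl
  have hQ : (QuadraticMap.polarBilin Q).Nondegenerate := by
    rw [hQdef]; exact (qdataMinus (F := F) m a b hab).qf_nondeg
  have HT : HypTriple Q (fun i => Pi.single (Sum.inl (Sum.inl (Fin.castLE hm3 i))) 1)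
      (fun i => Pi.single (Sum.inl (Sum.inr (Fin.castLE hm3 i))) 1) := by
    rw [hQdef]; exact hypTriple_minus (F := F) m hm3 a b hab
  have hcard : Fintype.card ((Fin m ⊕ Fin m) ⊕ Fin 2) = 2 * (m + 1) := by
    rw [Fintype.card_sum, Fintype.card_sum, Fintype.card_fin, Fintype.card_fin]; ring
  obtain ⟨ζ, hζ⟩ := Cfsg.Agent.Lib.Helper50.exists_nonsquare_of_two_ne_zero h2
  have hζ0 : ζ ≠ 0 := fun h => hζ (h ▸ ⟨0, by ring⟩)
  obtain ⟨c₁, c₂, hc⟩ := exists_norm_eq a b hab ζ hζ0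
  have hc' : c₁ ^ 2 + a * c₁ * c₂ + b * c₂ ^ 2 = ((Units.mk0 ζ hζ0 : Fˣ) : F) := hc
  have hmem : minusGL m a b (Units.mk0 ζ hζ0) c₁ c₂ hc' ∈
      Cfsg.Geo.quadSimilarityGroup (F := F) ⇑Q := by
    rw [hcoe]; exact minusGL_mem m a b _ c₁ c₂ hc'
  have hu : Q (Pi.single (Sum.inl (Sum.inl (Fin.castLE hm3 0))) 1 +
      Pi.single (Sum.inl (Sum.inr (Fin.castLE hm3 0))) 1) = 1 := by
    rw [QuadraticMap.map_add (⇑Q), HT.qe 0, HT.qf 0, HT.ef]; simp
  have hmult : multFun Q ⟨_, hmem⟩ = Units.mk0 ζ hζ0 :=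
    multFun_unique Q hu ⟨_, hmem⟩ _ (fun v => by
      have h1 := quadFormMinus_minusMat m a b ζ c₁ c₂ hc v
      rw [← hcoe] at h1
      exact h1)
  have hmain := pgoAut_mod_psoAut Q (m + 1) h2 hQ hcard _ _ HT ⟨_, hmem⟩
    (by rw [hmult]; exact hζ)
  have key : ∀ (q : ((Fin m ⊕ Fin m) ⊕ Fin 2 → F) → F), ⇑Q = q →
      ∃ φ : ↥(Cfsg.pgoAut F q) →* Multiplicative (ZMod 2 × ZMod 2), Function.Surjective φ ∧
        φ.ker = (Cfsg.psoAut F q).subgroupOf (Cfsg.pgoAut F q) := by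
    rintro q rfl
    exact hmain
  exact key _ hcoe

end Cfsg.Agent.S2726
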