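import Cfsg.Statements.S2738


set_option autoImplicit false
open Cfsg

namespace Cfsg.Agent.S2738

/-- The special linear group SL(3, 4) has centre of order 3 and does not split over it: no subgroup is a complement to the centre (so SL(3, 4) is a non-split central extension of PSL(3, 4) by a group of order 3). -/
theorem result (F : Type*) [Field F] [Fintype F] (hF : Fintype.card F = 4) : Nat.card ↥(Subgroup.center (Matrix.SpecialLinearGroup (Fin 3) F)) = 3 ∧ ¬ ∃ K : Subgroup (Matrix.SpecialLinearGroup (Fin 3) F), Subgroup.IsComplement' (Subgroup.center (Matrix.SpecialLinearGroup (Fin 3) F)) K := by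
  classical
  have hcardU : Fintype.card Fˣ = 3 := by
    rw [Fintype.card_units, hF]
  have hpow : ∀ u : Fˣ, u ^ 3 = 1 := by
    intro u
    have := pow_card_eq_one (x := u)
    rwa [hcardU] at this
  constructor
  · rw [Nat.card_congr
      (Matrix.SpecialLinearGroup.center_equiv_rootsOfUnity (n := Fin 3) (R := F)).toEquiv]
    have htop : rootsOfUnity (max (Fintype.card (Fin 3)) 1) F = ⊤ := by
      rw [eq_top_iff]
      intro u _
      rw [mem_rootsOfUnity]
      simpa using hpow u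
    rw [htop, Nat.card_congr Subgroup.topEquiv.toEquiv, Nat.card_eq_fintype_card, hcardU]
  · rintro ⟨K, hK⟩
    -- a unit different from 1
    obtain ⟨u, hu⟩ : ∃ u : Fˣ, u ≠ 1 := by
      by_contra hcon
      have hcon' : ∀ v : Fˣ, v = 1 := fun v => by_contra fun hv => hcon ⟨v, hv⟩
      have : Fintype.card Fˣ ≤ 1 :=
        Fintype.card_le_one_iff.mpr fun a b => by rw [hcon' a, hcon' b]
      omega
    set ω : F := (u : F) with hω
    have hω3 : ω ^ 3 = 1 := by
      have := congrArg Units.val (hpow u)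
      simpa using this
    have hω1 : ω ≠ 1 := by
      intro h1
      apply hu
      exact Units.ext h1
    let A : Matrix (Fin 3) (Fin 3) F := !![1, 0, 0; 0, ω, 0; 0, 0, ω ^ 2]
    let B : Matrix (Fin 3) (Fin 3) F := !![0, 0, 1; 1, 0, 0; 0, 1, 0]
    have hA : A.det = 1 := by
      rw [Matrix.det_fin_three]
      simp [A]
      rw [← hω3]
      ring
    have hB : B.det = 1 := by
      rw [Matrix.det_fin_three]
      simp [B]
    let a : Matrix.SpecialLinearGroup (Fin 3) F := ⟨A, hA⟩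
    let b : Matrix.SpecialLinearGroup (Fin 3) F := ⟨B, hB⟩
    have hAB : A * B = ω • (B * A) := by
      ext i j
      fin_cases i <;> fin_cases j <;>
        simp [A, B, Matrix.mul_apply, Fin.sum_univ_three, Matrix.smul_apply]
      · rw [← hω3]
        ring
      · ring
    have hS : (Matrix.scalar (Fin 3) ω).det = 1 := by
      rw [Matrix.scalar_apply, Matrix.det_diagonal]
      simpa using hω3
    let s : Matrix.SpecialLinearGroup (Fin 3) F := ⟨Matrix.scalar (Fin 3) ω, hS⟩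
    have hab : a * b = s * (b * a) := by
      apply Subtype.ext
      show A * B = Matrix.scalar (Fin 3) ω * (B * A)
      rw [hAB, Matrix.scalar_apply, ← Matrix.smul_eq_diagonal_mul]
    have hsZ : s ∈ Subgroup.center (Matrix.SpecialLinearGroup (Fin 3) F) := by
      rw [Matrix.SpecialLinearGroup.mem_center_iff]
      exact ⟨ω, by simpa using hω3, rfl⟩
    have hs1 : s ≠ 1 := by
      intro h1
      have h2 : (Matrix.scalar (Fin 3) ω) 0 0 = (1 : Matrix (Fin 3) (Fin 3) F) 0 0 :=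
        congrArg (fun m : Matrix.SpecialLinearGroup (Fin 3) F =>
          (m : Matrix (Fin 3) (Fin 3) F) 0 0) h1
      simp at h2
      exact hω1 h2
    obtain ⟨⟨⟨z₁, hz₁⟩, ⟨k₁, hk₁⟩⟩, h1⟩ := hK.2 a
    obtain ⟨⟨⟨z₂, hz₂⟩, ⟨k₂, hk₂⟩⟩, h2⟩ := hK.2 b
    simp only at h1 h2
    have hz₁' := Subgroup.mem_center_iff.mp hz₁
    have hz₂' := Subgroup.mem_center_iff.mp hz₂
    have hsK : s ∈ K := by
      have e : s = k₁ * k₂ * k₁⁻¹ * k₂⁻¹ := by
        have e1 : s = a * b * (b * a)⁻¹ := by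
          rw [hab]
          group
        rw [e1, ← h1, ← h2]
        have c1 : k₁ * z₂ = z₂ * k₁ := hz₂' k₁
        have c2 : k₂ * z₁ = z₁ * k₂ := hz₁' k₂
        have c3 : k₁ * z₁ = z₁ * k₁ := hz₁' k₁
        have c4 : k₂ * z₂ = z₂ * k₂ := hz₂' k₂
        have c5 : z₁ * z₂ = z₂ * z₁ := (hz₂' z₁)
        calc z₁ * k₁ * (z₂ * k₂) * (z₂ * k₂ * (z₁ * k₁))⁻¹
            = z₁ * (k₁ * z₂) * k₂ * (z₂ * (k₂ * z₁) * k₁)⁻¹ := by group
          _ = z₁ * (z₂ * k₁) * k₂ * (z₂ * (z₁ * k₂) * k₁)⁻¹ := by rw [c1, c2]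
          _ = (z₁ * z₂) * (k₁ * k₂ * k₁⁻¹ * k₂⁻¹) * (z₁⁻¹ * z₂⁻¹) := by group
          _ = k₁ * k₂ * k₁⁻¹ * k₂⁻¹ := by
            have c6 : (z₁ * z₂) * (k₁ * k₂ * k₁⁻¹ * k₂⁻¹) = (k₁ * k₂ * k₁⁻¹ * k₂⁻¹) * (z₁ * z₂) := by
              have hz12 : z₁ * z₂ ∈ Subgroup.center (Matrix.SpecialLinearGroup (Fin 3) F) :=
                Subgroup.mul_mem _ hz₁ hz₂
              exact (Subgroup.mem_center_iff.mp hz12 _).symm
            rw [c6, c5]
            group
      rw [e]
      exact K.mul_mem (K.mul_mem (K.mul_mem hk₁ hk₂) (K.inv_mem hk₁)) (K.inv_mem hk₂)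
    have hdisj := hK.disjoint
    have : s ∈ Subgroup.center (Matrix.SpecialLinearGroup (Fin 3) F) ⊓ K := ⟨hsZ, hsK⟩
    rw [hdisj.eq_bot, Subgroup.mem_bot] at this
    exact hs1 this

end Cfsg.Agent.S2738
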