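import Cfsg.Statements.S2739
import Cfsg.Agent.Lib.Helper52.SL34

set_option autoImplicit false
open scoped Pointwise
open Cfsg

namespace Cfsg.Agent.S2739

/-- In the projective special linear group PSL(3, 4) all subgroups of order 3 are conjugate. -/
theorem result (F : Type*) [Field F] [Fintype F] (hF : Fintype.card F = 4) (X Y : Subgroup (Matrix.ProjectiveSpecialLinearGroup (Fin 3) F)) (hX : Nat.card ↥X = 3) (hY : Nat.card ↥Y = 3) : ∃ g : Matrix.ProjectiveSpecialLinearGroup (Fin 3) F, MulAut.conj g • X = Y := by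
  classical
  obtain ⟨ω, hω1, hω3⟩ : ∃ ω : F, ω ≠ 1 ∧ ω ^ 3 = 1 := by
    have hcardU : Fintype.card Fˣ = 3 := by
      rw [Fintype.card_units, hF]
    obtain ⟨u, hu⟩ : ∃ u : Fˣ, u ≠ 1 := by
      by_contra hcon
      have hcon' : ∀ v : Fˣ, v = 1 := fun v => by_contra fun hv => hcon ⟨v, hv⟩
      have : Fintype.card Fˣ ≤ 1 :=
        Fintype.card_le_one_iff.mpr fun a b => by rw [hcon' a, hcon' b]
      omega
    refine ⟨(u : F), fun h => hu (Units.ext h), ?_⟩
    exact Cfsg.Agent.Lib.Helper52.cube_eq_one_of_card_four hF u.ne_zero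
  let π := QuotientGroup.mk' (Subgroup.center (Matrix.SpecialLinearGroup (Fin 3) F))
  let D : Subgroup (Matrix.ProjectiveSpecialLinearGroup (Fin 3) F) :=
    Subgroup.zpowers (π (Cfsg.Agent.Lib.Helper52.diagOmega ω hω3))
  have key : ∀ X : Subgroup (Matrix.ProjectiveSpecialLinearGroup (Fin 3) F), Nat.card ↥X = 3 →
      ∃ a : Matrix.ProjectiveSpecialLinearGroup (Fin 3) F, MulAut.conj a • X = D := by
    intro X hX
    have hfin : Finite X := Nat.finite_of_card_ne_zero (by omega)
    obtain ⟨⟨xb, hxb⟩, hne⟩ : ∃ y : X, y ≠ 1 := by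
      by_contra hcon
      have hcon' : ∀ v : X, v = 1 := fun v => by_contra fun hv => hcon ⟨v, hv⟩
      have hss : Subsingleton X := ⟨fun a b => by rw [hcon' a, hcon' b]⟩
      have : Nat.card X ≤ 1 := Finite.card_le_one_iff_subsingleton.mpr hss
      omega
    have hxb1 : xb ≠ 1 := fun h => hne (Subtype.ext h)
    have hord : orderOf xb = 3 := by
      have hdvd : orderOf xb ∣ 3 := by
        have := orderOf_dvd_natCard (⟨xb, hxb⟩ : X)
        rwa [Subgroup.orderOf_mk, hX] at this
      rcases (Nat.dvd_prime Nat.prime_three).mp hdvd with h | h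
      · exact absurd (orderOf_eq_one_iff.mp h) hxb1
      · exact h
    have hXz : Subgroup.zpowers xb = X := by
      apply Subgroup.eq_of_le_of_card_ge (Subgroup.zpowers_le.mpr hxb)
      rw [Nat.card_zpowers, hord, hX]
    obtain ⟨x, rfl⟩ := QuotientGroup.mk'_surjective
      (Subgroup.center (Matrix.SpecialLinearGroup (Fin 3) F)) xb
    have hx : x ∉ Subgroup.center (Matrix.SpecialLinearGroup (Fin 3) F) := by
      intro h
      apply hxb1
      exact (QuotientGroup.eq_one_iff x).mpr h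
    have hx3 : x ^ 3 ∈ Subgroup.center (Matrix.SpecialLinearGroup (Fin 3) F) := by
      rw [← QuotientGroup.eq_one_iff]
      have := pow_orderOf_eq_one (π x)
      rw [hord] at this
      exact this
    obtain ⟨g, hg⟩ := Cfsg.Agent.Lib.Helper52.sl_exists_conj_diag hF ω hω1 hω3 x hx hx3
    refine ⟨π g⁻¹, ?_⟩
    rw [← hXz]
    show Subgroup.map (MulAut.conj (π g⁻¹)).toMonoidHom (Subgroup.zpowers (π x)) = D
    rw [MonoidHom.map_zpowers]
    show Subgroup.zpowers _ = Subgroup.zpowers _
    congr 1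
    rw [← hg]
    simp [MulAut.conj_apply, π]
  obtain ⟨a, ha⟩ := key X hX
  obtain ⟨b, hb⟩ := key Y hY
  refine ⟨b⁻¹ * a, ?_⟩
  rw [map_mul, mul_smul, ha, ← hb, map_inv, inv_smul_smul]

end Cfsg.Agent.S2739
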