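import Cfsg.Statements.S2760
import Cfsg.Agent.Lib.Helper56.CharP

set_option autoImplicit false
open Cfsg
open scoped commutatorElement

namespace Cfsg.Agent.S2760

open Cfsg.Agent.Lib.Helper54 Cfsg.Agent.Lib.Helper56

theorem result {G : Type*} [Group G] [Finite G] (hchar : Subgroup.centralizer (Cfsg.pCore 2 G : Set G) ≤ Cfsg.pCore 2 G) (H : Subgroup G) (hH : H.Normal ∨ ((Cfsg.pResidual 2 ↥H).map H.subtype).Normal) : Subgroup.centralizer (Cfsg.pCore 2 ↥H : Set ↥H) ≤ Cfsg.pCore 2 ↥H := by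
  classical
  haveI : Fact (Nat.Prime 2) := ⟨Nat.prime_two⟩
  rcases hH with hH | hH
  · exact charP_of_pCore_le_normalizer hchar H (by
      rw [Subgroup.normalizer_eq_top_iff.mpr hH]; exact le_top)
  · set H₀ : Subgroup G := (Cfsg.pResidual 2 ↥H).map H.subtype with hH₀
    have hH₀H : H₀ ≤ H := Subgroup.map_subtype_le _
    set Q : Subgroup G := Cfsg.pCore 2 G with hQ
    have hQn : Q.Normal := pCore_normal 2 G
    have hQp : IsPGroup 2 ↥Q := pCore_isPGroup 2 G
    have hRn : (Cfsg.pCore 2 ↥H).Normal := pCore_normal 2 ↥H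
    have hNn : (Q ⊓ H₀).Normal := Subgroup.normal_inf_normal Q H₀
    have hNle : (Q ⊓ H₀).subgroupOf H ≤ Cfsg.pCore 2 ↥H := by
      apply le_pCore (hNn.subgroupOf H)
      exact (hQp.to_le inf_le_left).comap_of_injective H.subtype H.subtype_injective
    apply le_pCore Subgroup.normal_centralizer
    apply isPGroup_of_forall_coprime_eq_one
    intro d hd hdo
    have hdH₀ : (d : G) ∈ H₀ := ⟨d, mem_pResidual_of_coprime hdo, rfl⟩
    have hx : (d : G) = 1 := by
      apply eq_one_of_stabilizes hchar (Q ⊓ H₀) (d : G)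
      · rw [Subgroup.orderOf_coe]; exact hdo
      · intro a ha
        have haH : a ∈ H := hH₀H ha.2.2
        have haR : (⟨a, haH⟩ : ↥H) ∈ Cfsg.pCore 2 ↥H :=
          hNle (Subgroup.mem_subgroupOf.mpr ha.2)
        exact congrArg Subtype.val ((Subgroup.mem_centralizer_iff.mp hd) _ haR)
      · intro a ha
        refine ⟨?_, ?_⟩
        · rw [commutatorElement_def]
          have : a * (d : G) * a⁻¹ * (d : G)⁻¹ = a * ((d : G) * a⁻¹ * (d : G)⁻¹) := by group
          rw [this]
          exact Q.mul_mem ha (hQn.conj_mem _ (Q.inv_mem ha) _)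
        · rw [commutatorElement_def]
          exact H₀.mul_mem (hH.conj_mem _ hdH₀ a) (H₀.inv_mem hdH₀)
    exact Subtype.ext hx

end Cfsg.Agent.S2760
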