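import Cfsg.Statements.S2761
import Cfsg.Agent.Lib.Helper53.Qd

set_option autoImplicit false
open Cfsg
open Cfsg.Agent.Lib.Helper53

namespace Cfsg.Agent.S2761

/-- The group Qd(2), the natural semidirect product of an elementary abelian group of order 4 by SL₂(2) (realised as the affine subgroup of SL₃(2)), is isomorphic to the symmetric group of degree 4. -/
theorem result : Nonempty (↥(Cfsg.qd 2) ≃* Equiv.Perm (Fin 4)) := by
  classical
  show Nonempty (↥(Cfsg.qdOver (ZMod 2)) ≃* Equiv.Perm (Fin 4))
  have hinj := qaffHom_injective (F := ZMod 2)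
  have h6 : Fintype.card (Matrix.SpecialLinearGroup (Fin 2) (ZMod 2)) = 6 := by decide
  have hcard : Nat.card ↥(Cfsg.qdOver (ZMod 2)) = Nat.card (Equiv.Perm (Fin 2 → ZMod 2)) := by
    rw [Nat.card_congr qEquivProd, Nat.card_prod, Nat.card_eq_fintype_card,
      Nat.card_eq_fintype_card, Nat.card_eq_fintype_card, Fintype.card_perm, Fintype.card_fun,
      Fintype.card_fin, ZMod.card, h6]
    rfl
  have hbij : Function.Bijective (qaffHom (F := ZMod 2)) :=
    (Nat.bijective_iff_injective_and_card _).2 ⟨hinj, hcard⟩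
  have e : (Fin 2 → ZMod 2) ≃ Fin 4 := Fintype.equivFinOfCardEq (by
    rw [Fintype.card_fun, Fintype.card_fin, ZMod.card]
    rfl)
  exact ⟨(MulEquiv.ofBijective _ hbij).trans (Equiv.permCongrHom e)⟩

end Cfsg.Agent.S2761
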