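import Cfsg.Statements.S2762
import Cfsg.Agent.Lib.Helper53.Qd

set_option autoImplicit false
open Cfsg
open Cfsg.Agent.Lib.Helper53

namespace Cfsg.Agent.S2762

/-- Structure of Qd over a finite field F of characteristic p (the affine subgroup of SL₃(F)): its largest normal p-subgroup is the group of translations (matrices with upper-left block the identity), the block-diagonal matrices form a complement isomorphic to SL₂(F), and the translation subgroup is a natural SL₂(F)-module for that complement. -/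
theorem result {F : Type*} [Field F] [Fintype F] {p : ℕ} [Fact p.Prime] [CharP F p] : (∀ M : ↥(Cfsg.qdOver F), M ∈ Cfsg.pCore p ↥(Cfsg.qdOver F) ↔ ((M : Matrix.SpecialLinearGroup (Fin 3) F) : Matrix (Fin 3) (Fin 3) F) 0 0 = 1 ∧ ((M : Matrix.SpecialLinearGroup (Fin 3) F) : Matrix (Fin 3) (Fin 3) F) 0 1 = 0 ∧ ((M : Matrix.SpecialLinearGroup (Fin 3) F) : Matrix (Fin 3) (Fin 3) F) 1 0 = 0 ∧ ((M : Matrix.SpecialLinearGroup (Fin 3) F) : Matrix (Fin 3) (Fin 3) F) 1 1 = 1) ∧ ∃ K : Subgroup ↥(Cfsg.qdOver F), (∀ M : ↥(Cfsg.qdOver F), M ∈ K ↔ ((M : Matrix.SpecialLinearGroup (Fin 3) F) : Matrix (Fin 3) (Fin 3) F) 0 2 = 0 ∧ ((M : Matrix.SpecialLinearGroup (Fin 3) F) : Matrix (Fin 3) (Fin 3) F) 1 2 = 0) ∧ K ⊓ Cfsg.pCore p ↥(Cfsg.qdOver F) = ⊥ ∧ K ⊔ Cfsg.pCore p ↥(Cfsg.qdOver F) = ⊤ ∧ Nonempty (↥K ≃* Matrix.SpecialLinearGroup (Fin 2) F) ∧ Cfsg.IsNaturalSL2Module F (Cfsg.pCore p ↥(Cfsg.qdOver F)) K := by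
  classical
  rw [pCore_qdOver_eq_ker]
  refine ⟨fun M => mem_ker_qlin_iff M, (qemb (F := F)).range, fun M => mem_range_qemb_iff M,
    ?_, ?_, ?_, ?_⟩
  · rw [Subgroup.eq_bot_iff_forall]
    intro M hM
    obtain ⟨⟨A, rfl⟩, hk⟩ := Subgroup.mem_inf.1 hM
    rw [MonoidHom.mem_ker, qlin_qemb] at hk
    rw [hk, map_one]
  · rw [eq_top_iff]
    intro M _
    rw [q_decomp M, sup_comm]
    apply Subgroup.mul_mem_sup
    · rw [MonoidHom.mem_ker, qlin_qtr]
    · exact ⟨_, rfl⟩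
  · exact ⟨(MonoidHom.ofInjective qemb_injective).symm⟩
  · refine ⟨?_, (qlin (F := F)).comp (qemb (F := F)).range.subtype, qpsi, ?_, ?_, ?_⟩
    · rw [Subgroup.normalizer_eq_top]
      exact le_top
    · intro A
      exact ⟨⟨qemb A, ⟨A, rfl⟩⟩, qlin_qemb A⟩
    · ext ⟨l, A, rfl⟩
      rw [MonoidHom.mem_ker, Subgroup.mem_subgroupOf, Subgroup.mem_centralizer_iff]
      show qlin (qemb A) = 1 ↔ _
      rw [qlin_qemb]
      constructor
      · rintro rfl
        intro h _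
        show h * qemb 1 = qemb 1 * h
        rw [map_one, mul_one, one_mul]
      · intro h
        apply sl2_eq_one_of_smul
        intro u
        have h1 := h (qtr u) (by
          show qtr u ∈ (qlin (F := F)).ker
          rw [MonoidHom.mem_ker, qlin_qtr])
        have h2 : qtr u * qemb A = qemb A * qtr u := h1
        rw [qemb_mul_qtr] at h2
        exact (qtr_injective (mul_right_cancel h2)).symm
    · rintro ⟨l, A, rfl⟩ v
      have hv := (mem_ker_qlin_iff_eq_qtr _).1 v.2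
      refine ⟨⟨qtr (A • qtrans (v : ↥(Cfsg.qdOver F))), by
        rw [MonoidHom.mem_ker, qlin_qtr]⟩, ?_, ?_⟩
      · show qtr (A • qtrans (v : ↥(Cfsg.qdOver F))) = qemb A * (v : ↥(Cfsg.qdOver F)) * (qemb A)⁻¹
        conv_rhs => rw [hv]
        rw [qemb_conj_qtr]
      · rw [qpsi_apply, qpsi_apply]
        show qtrans (qtr (A • qtrans (v : ↥(Cfsg.qdOver F)))) = _
        rw [qtrans_qtr]
        show _ = ((qlin (qemb A) : Matrix.SpecialLinearGroup (Fin 2) F) : Matrix (Fin 2) (Fin 2) F).mulVec _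
        rw [qlin_qemb]
        rfl

end Cfsg.Agent.S2762
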