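import Cfsg.Statements.S2779
import Cfsg.Agent.Lib.Helper53.NatSL2

set_option autoImplicit false
open Cfsg
open Cfsg.Agent.Lib.Helper53

namespace Cfsg.Agent.S2779

/-- Let L act on the elementary abelian p-group V (inside a finite group, by conjugation, faithfully) as SL₂(F) on its natural module, F a field with p^n elements, and let S be a Sylow p-subgroup of L. Then [V, S, S] = 1; |V| = p^(2n) and |C_V(S)| = p^n; and for every nonidentity s ∈ S and every v ∈ V outside C_V(S): C_V(s) = C_V(S) = [V, S] = [V, s] = the subgroup generated by the commutators [v, t], t ∈ S. -/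
theorem result {G : Type*} [Group G] [Finite G] {p : ℕ} [Fact p.Prime] {F : Type*} [Field F] [Fintype F] (n : ℕ) (hF : Fintype.card F = p ^ n) (V L : Subgroup G) (hnat : Cfsg.IsNaturalSL2Module F V L) (hf : L ⊓ Subgroup.centralizer (V : Set G) = ⊥) (S : Sylow p ↥L) (T : Subgroup G) (hT : T = ((S : Subgroup ↥L).map L.subtype)) : ⁅⁅V, T⁆, T⁆ = ⊥ ∧ Nat.card V = p ^ (2 * n) ∧ Nat.card ↥(V ⊓ Subgroup.centralizer ((T : Subgroup G) : Set G)) = p ^ n ∧ ∀ s ∈ T, s ≠ 1 → (V ⊓ Subgroup.centralizer ({s} : Set G)) = (V ⊓ Subgroup.centralizer ((T : Subgroup G) : Set G)) ∧ ⁅V, T⁆ = (V ⊓ Subgroup.centralizer ((T : Subgroup G) : Set G)) ∧ ⁅V, Subgroup.zpowers s⁆ = (V ⊓ Subgroup.centralizer ((T : Subgroup G) : Set G)) ∧ ∀ v ∈ V, v ∉ Subgroup.centralizer (T : Set G) → Subgroup.closure {x : G | ∃ t ∈ T, x = v * t * v⁻¹ * t⁻¹} = (V ⊓ Subgroup.centralizer ((T : Subgroup G) : Set G)) := by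
  have hcp : CharP F p := charP_of_card_eq hF
  obtain ⟨hLV, ρ, ψ, hsurj, hker, hact⟩ := hnat
  have hact' : ActHyp ρ ψ := hact
  have hinj := rho_injective hker hf
  obtain ⟨u, hu, hS⟩ := sylow_char hinj S
  subst hT
  have hR1 := commutator_le_inf_centralizer hu hS hsurj hact'
  refine ⟨?_, ?_, ?_, ?_⟩
  · rw [Subgroup.commutator_eq_bot_iff_le_centralizer]
    exact hR1.trans inf_le_right
  · rw [card_V ψ, hF, ← pow_mul, mul_comm]
  · rw [card_inf_centralizer hu hS hsurj hact', hF]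
  · rintro _ ⟨s, hs, rfl⟩ hs1
    have hs1' : s ≠ 1 := by
      rintro rfl
      exact hs1 rfl
    have hR2 := inf_centralizer_le_commutator_zpowers hu hS hsurj hact' hinj hs hs1'
    have hz : Subgroup.zpowers ((L.subtype s : G)) ≤ (S : Subgroup ↥L).map L.subtype := by
      rw [Subgroup.zpowers_le]
      exact ⟨s, hs, rfl⟩
    have hmono : ⁅V, Subgroup.zpowers (L.subtype s : G)⁆ ≤ ⁅V, (S : Subgroup ↥L).map L.subtype⁆ :=
      Subgroup.commutator_mono le_rfl hz
    refine ⟨inf_centralizer_singleton_eq hu hS hsurj hact' hinj hs hs1', ?_, ?_, ?_⟩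
    · exact le_antisymm hR1 (hR2.trans hmono)
    · exact le_antisymm (hmono.trans hR1) hR2
    · intro v hv hvC
      exact closure_comm_eq hu hS hsurj hact' hv hvC

end Cfsg.Agent.S2779
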