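import Cfsg.Statements.S2781
import Cfsg.Agent.Lib.Helper53.Transfer

set_option autoImplicit false
open Cfsg
open Cfsg.Agent.Lib.Helper53
open scoped commutatorElement

namespace Cfsg.Agent.S2781

/-- Let H act faithfully by conjugation on the elementary abelian p-subgroup V of a finite group, let O^p(H) be the subgroup of H generated by its elements of order prime to p, and T a Sylow p-subgroup of O^p(H). If V is generated by the H-conjugates of C_V(T) (V is the smallest H-invariant subgroup containing C_V(T)), then V = [V, O^p(H)]·C_V(O^p(H)). -/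
theorem result {G : Type*} [Group G] [Finite G] {p : ℕ} [Fact p.Prime] (V H : Subgroup G) (hV : Cfsg.IsElementaryAbelian p V) (hHV : H ≤ Subgroup.normalizer (V : Set G)) (hf : H ⊓ Subgroup.centralizer (V : Set G) = ⊥) (R : Subgroup G) (hR : R = (Cfsg.pResidual p ↥H).map H.subtype) (S : Sylow p ↥R) (T : Subgroup G) (hT : T = ((S : Subgroup ↥R).map R.subtype)) (hgen : ∀ W : Subgroup G, H ≤ Subgroup.normalizer (W : Set G) → (V ⊓ Subgroup.centralizer ((T : Subgroup G) : Set G)) ≤ W → V ≤ W) : ⁅V, R⁆ ⊔ (V ⊓ Subgroup.centralizer ((R : Subgroup G) : Set G)) = V := by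
  have hp : p.Prime := Fact.out
  have hRres : R = resid p H := by rw [hR, map_pResidual_eq_resid]
  have hRH : R ≤ H := hRres ▸ resid_le p H
  have hRV : R ≤ Subgroup.normalizer (V : Set G) := hRH.trans hHV
  have hHR : H ≤ Subgroup.normalizer (R : Set G) := by
    rw [hRres]
    exact resid_normalizer p Subgroup.le_normalizer
  apply le_antisymm
  · apply sup_le
    · rw [Subgroup.commutator_le]
      intro v hv r hr
      have h1 : r * v⁻¹ * r⁻¹ ∈ V := conj_mem_of_le_normalizer hRV hr (V.inv_mem hv)
      have h2 : ⁅v, r⁆ = v * (r * v⁻¹ * r⁻¹) := by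
        rw [commutatorElement_def]
        group
      rw [h2]
      exact V.mul_mem hv h1
    · exact inf_le_left
  · apply hgen
    · exact le_normalizer_sup (commutator_le_normalizer hHV hHR)
        (le_normalizer_inf hHV (le_normalizer_centralizer hHR))
    · intro v hv
      have h1 := pow_index_mem_commutator_sup_centralizer (T := T) hV.1 hRV hv.1 hv.2
      have hTS : T.subgroupOf R = (S : Subgroup ↥R) := by
        rw [hT]
        exact Subgroup.comap_map_eq_self_of_injective R.subtype_injective _
      have hidx : ((T.subgroupOf R).index).Coprime p := by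
        rw [hTS]
        exact ((Nat.Prime.coprime_iff_not_dvd hp).2 S.not_dvd_index).symm
      obtain ⟨k, hk⟩ := exists_pow_eq_self_of_coprime
        (hidx.coprime_dvd_right (orderOf_dvd_of_pow_eq_one (hV.2 v hv.1)))
      rw [← hk]
      exact Subgroup.pow_mem _ h1 k

end Cfsg.Agent.S2781
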