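import Cfsg.Statements.S2803
import Cfsg.Agent.Lib.Helper53.SylowNormal

set_option autoImplicit false
open Cfsg Cfsg.Agent.Lib.Helper53

namespace Cfsg.Agent.S2803

/-- Let L be a finite group and p a prime with C_L(O_p(L)) ≤ O_p(L), T a Sylow p-subgroup, and Y the largest p-reduced normal subgroup of L. Put T_L = C_T(Y) and L_T = N_L(T_L). Then L = L_T · C_L(Y) (elementwise), T_L = O_p(L_T), and Y = Ω₁(Z(T_L)). -/
theorem result {L : Type*} [Group L] [Finite L] {p : ℕ} [Fact p.Prime] (hchar : Subgroup.centralizer (Cfsg.pCore p L : Set L) ≤ Cfsg.pCore p L) (T : Sylow p L) (Y : Subgroup L) (hY : (Cfsg.IsPReducedNormal p Y ∧ ∀ V : Subgroup L, Cfsg.IsPReducedNormal p V → V ≤ Y)) (TL : Subgroup L) (hTL : TL = (T : Subgroup L) ⊓ Subgroup.centralizer (Y : Set L)) : (∀ g : L, ∃ a ∈ Subgroup.normalizer (TL : Set L), ∃ c ∈ Subgroup.centralizer (Y : Set L), g = a * c) ∧ (Cfsg.pCore p ↥(Subgroup.normalizer (TL : Set L))).map (Subgroup.normalizer (TL : Set L)).subtype = TL ∧ Y = Cfsg.omegaOne p (TL ⊓ Subgroup.centralizer (TL : Set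 L)) := by
  obtain ⟨hYr, hYmax⟩ := hY
  obtain ⟨hYn, ⟨hYc, hYe⟩, hYred⟩ := (isPReducedNormal_iff Y).mp hYr
  have := hYn
  set C := Subgroup.centralizer (Y : Set L) with hC
  have hCn : C.Normal := inferInstance
  subst hTL
  have part1 : ∀ g : L, ∃ a ∈ Subgroup.normalizer (((T : Subgroup L) ⊓ C : Subgroup L) : Set L),
      ∃ c ∈ C, g = a * c := frattini_inf_normal T C
  have hYp : IsPGroup p Y := by
    rintro ⟨y, hy⟩
    refine ⟨1, ?_⟩
    apply Subtype.ext
    simpa using hYe y hy
  have hYT : Y ≤ T := IsPGroup.le_sylow_of_normal hYp T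
  have hYC : Y ≤ C := Subgroup.le_centralizer_iff_isMulCommutative.mpr hYc
  have hYTL : Y ≤ (T : Subgroup L) ⊓ C := le_inf hYT hYC
  have hQp : IsPGroup p (pCore p L) := pCore_isPGroup
  have hQC : pCore p L ≤ C := by
    apply hYred _ inferInstance
    intro d hd
    obtain ⟨k, hk⟩ := hQp ⟨d, hd⟩
    refine ⟨k, ?_⟩
    have : d ^ (p ^ k) = 1 := by simpa using congrArg Subtype.val hk
    rw [this]; exact one_mem _
  have hQTL : pCore p L ≤ (T : Subgroup L) ⊓ C := le_inf (pCore_le_sylow T) hQC
  set TL := (T : Subgroup L) ⊓ C with hTLdef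
  set N := Subgroup.normalizer (TL : Set L) with hN
  have hTN : (T : Subgroup L) ≤ N := by
    intro t ht
    rw [hN, Subgroup.mem_normalizer_iff]
    intro y
    rw [hTLdef, Subgroup.mem_inf, Subgroup.mem_inf]
    constructor
    · rintro ⟨h1, h2⟩
      exact ⟨Subgroup.mul_mem _ (Subgroup.mul_mem _ ht h1) (Subgroup.inv_mem _ ht),
        hCn.conj_mem y h2 t⟩
    · rintro ⟨h1, h2⟩
      refine ⟨?_, ?_⟩
      · have := Subgroup.mul_mem _ (Subgroup.mul_mem _ (Subgroup.inv_mem _ ht) h1) ht
        simpa [mul_assoc] using this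
      · have := hCn.conj_mem _ h2 t⁻¹
        simpa [mul_assoc] using this
  have hTLN : TL ≤ N := Subgroup.le_normalizer
  refine ⟨part1, ?_, ?_⟩
  · apply le_antisymm
    · -- O ≤ TL
      set O := (pCore p ↥N).map N.subtype with hO
      have hOT : O ≤ T := by
        have h1 : pCore p ↥N ≤ (T.subtype hTN : Sylow p N) := pCore_le_sylow _
        have h2 : O ≤ ((T.subtype hTN : Sylow p N) : Subgroup N).map N.subtype :=
          Subgroup.map_mono h1
        rw [Sylow.coe_subtype, Subgroup.subgroupOf_map_subtype] at h2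
        exact h2.trans inf_le_left
      have hOp : IsPGroup p O := T.isPGroup'.to_le hOT
      have hON : ∀ a ∈ N, ∀ o ∈ O, a * o * a⁻¹ ∈ O := by
        intro a ha o ho
        obtain ⟨o', ho', rfl⟩ := ho
        have hnorm : (pCore p ↥N).Normal := inferInstance
        exact ⟨⟨a, ha⟩ * o' * ⟨a, ha⟩⁻¹, hnorm.conj_mem o' ho' ⟨a, ha⟩, rfl⟩
      have hDn : (O ⊔ C).Normal := by
        constructor
        intro x hx g
        have hx' : x ∈ ((O ⊔ C : Subgroup L) : Set L) := hx
        rw [Subgroup.mul_normal] at hx'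
        obtain ⟨o, ho, c', hc', rfl⟩ := hx'
        obtain ⟨a, ha, c, hc, rfl⟩ := part1 g
        have h1 : a * o * a⁻¹ ∈ O := hON a ha o ho
        have h2 : a * (o⁻¹ * c * o * c' * c⁻¹) * a⁻¹ ∈ C := by
          apply hCn.conj_mem
          apply Subgroup.mul_mem _ (Subgroup.mul_mem _ _ hc') (Subgroup.inv_mem _ hc)
          have := hCn.conj_mem c hc o⁻¹
          simpa [mul_assoc] using this
        have : a * c * (o * c') * (a * c)⁻¹ =
            (a * o * a⁻¹) * (a * (o⁻¹ * c * o * c' * c⁻¹) * a⁻¹) := by group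
        rw [this]
        exact Subgroup.mul_mem _ ((le_sup_left : O ≤ O ⊔ C) h1) ((le_sup_right : C ≤ O ⊔ C) h2)
      have hDC : O ⊔ C ≤ C := by
        apply hYred _ hDn
        intro x hx
        have hx' : x ∈ ((O ⊔ C : Subgroup L) : Set L) := hx
        rw [Subgroup.mul_normal] at hx'
        obtain ⟨o, ho, c', hc', rfl⟩ := hx'
        obtain ⟨k, hk⟩ := hOp ⟨o, ho⟩
        have hk' : o ^ (p ^ k) = 1 := by simpa using congrArg Subtype.val hk
        refine ⟨k, ?_⟩
        rw [← QuotientGroup.eq_one_iff, QuotientGroup.mk_pow, QuotientGroup.mk_mul,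
          (QuotientGroup.eq_one_iff c').mpr hc', mul_one, ← QuotientGroup.mk_pow, hk']
        rfl
      exact le_inf hOT (le_sup_left.trans hDC)
    · have hn : (TL.subgroupOf N).Normal := by
        rw [hN]; exact Subgroup.normal_in_normalizer
      have hp : IsPGroup p (TL.subgroupOf N) := by
        have : IsPGroup p TL := T.isPGroup'.to_le inf_le_left
        exact this.comap_subtype
      have h1 : TL.subgroupOf N ≤ pCore p ↥N := le_pCore hn hp
      have h2 := Subgroup.map_mono (f := N.subtype) h1
      rw [Subgroup.subgroupOf_map_subtype, inf_of_le_left hTLN] at h2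
      exact h2
  · -- Part 3
    have hTLC : TL ≤ C := inf_le_right
    have hYcTL : Y ≤ Subgroup.centralizer (TL : Set L) := Subgroup.le_centralizer_iff.mp hTLC
    apply le_antisymm
    · intro y hy
      apply Subgroup.subset_closure
      exact ⟨⟨hYTL hy, hYcTL hy⟩, hYe y hy⟩
    · set X := omegaOne p (TL ⊓ Subgroup.centralizer (TL : Set L)) with hX
      have hXle : X ≤ TL ⊓ Subgroup.centralizer (TL : Set L) := by
        rw [hX]; unfold omegaOne
        rw [Subgroup.closure_le]
        intro x hx
        exact hx.1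
      have hXTL : X ≤ TL := hXle.trans inf_le_left
      have hXcTL : X ≤ Subgroup.centralizer (TL : Set L) := hXle.trans inf_le_right
      have hTLcX : TL ≤ Subgroup.centralizer (X : Set L) := Subgroup.le_centralizer_iff.mp hXcTL
      have hXX : X ≤ Subgroup.centralizer (X : Set L) := hXTL.trans hTLcX
      have hYX : Y ≤ X := by
        intro y hy
        apply Subgroup.subset_closure
        exact ⟨⟨hYTL hy, hYcTL hy⟩, hYe y hy⟩
      have hXe : IsElementaryAbelian p X := by
        refine ⟨Subgroup.le_centralizer_iff_isMulCommutative.mp hXX, ?_⟩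
        intro a ha
        have : ∀ x (hx : x ∈ Subgroup.closure
            {x : L | x ∈ TL ⊓ Subgroup.centralizer (TL : Set L) ∧ x ^ p = 1}), x ^ p = 1 := by
          intro x hx
          induction hx using Subgroup.closure_induction with
          | mem y hy => exact hy.2
          | one => simp
          | mul y z hy hz ihy ihz =>
            have hy' : y ∈ X := hy
            have hz' : z ∈ X := hz
            have hcomm : Commute y z := hXX hz' y hy'
            rw [hcomm.mul_pow, ihy, ihz, one_mul]
          | inv y _ ihy => rw [inv_pow, ihy, inv_one]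
        exact this a ha
      have hred : IsPReducedNormal p (Subgroup.normalClosure (X : Set L)) := by
        apply isPReducedNormal_normalClosure' hchar T X hXe (hQTL.trans hTLcX)
        intro D hD hpow
        have hXV : X ≤ Subgroup.normalClosure (X : Set L) := Subgroup.le_normalClosure
        have hCV : Subgroup.centralizer ((Subgroup.normalClosure (X : Set L) : Subgroup L) : Set L)
            ≤ C := Subgroup.centralizer_le (by exact_mod_cast hYX.trans hXV)
        have hDC : D ≤ C := by
          apply hYred D hD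
          intro d hd
          obtain ⟨k, hk⟩ := hpow d hd
          exact ⟨k, hCV hk⟩
        intro d hd
        exact hTLcX ⟨hd.2, hDC hd.1⟩
      exact (Subgroup.le_normalClosure).trans (hYmax _ hred)

end Cfsg.Agent.S2803
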