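import Cfsg.Statements.S2809
import Cfsg.Agent.Lib.Helper54.Coprime

set_option autoImplicit false
open Cfsg
open scoped commutatorElement

namespace Cfsg.Agent.S2809

open Cfsg.Agent.Lib.Helper54

theorem iter_le {H : Type*} [Group H] (R L : Subgroup H)
    (hL : L ≤ Subgroup.normalizer (R : Set H)) (i : ℕ) : Cfsg.iterCommutator R L i ≤ R := by
  induction i with
  | zero => exact le_rfl
  | succ i ih =>
    show ⁅Cfsg.iterCommutator R L i, L⁆ ≤ R
    rw [Subgroup.commutator_le]
    intro r hr l hl
    have h1 : l * r⁻¹ * l⁻¹ ∈ R := by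
      have := (Subgroup.mem_normalizer_iff.1 (hL hl)) r⁻¹
      exact this.1 (Subgroup.inv_mem _ (ih hr))
    have h2 : ⁅r, l⁆ = r * (l * r⁻¹ * l⁻¹) := by
      simp [commutatorElement_def, mul_assoc]
    rw [h2]
    exact Subgroup.mul_mem _ (ih hr) h1

/-- Let H be a finite group, p a prime, R a p-subgroup of H with C_H(R) ≤ R, and L a subgroup of N_H(R) acting nilpotently on R (some iterated commutator [R, L, …, L] is trivial). Then L is a p-group. -/
theorem result {H : Type*} [Group H] [Finite H] {p : ℕ} [Fact p.Prime] (R : Subgroup H) (hR : IsPGroup p ↥R) (hC : Subgroup.centralizer (R : Set H) ≤ R) (L : Subgroup H) (hL : L ≤ Subgroup.normalizer (R : Set H)) (hnil : ∃ n : ℕ, Cfsg.iterCommutator R L n = ⊥) : IsPGroup p ↥L := by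
  obtain ⟨n, hn⟩ := hnil
  have hRp : ∀ a ∈ R, ∃ k : ℕ, a ^ (p ^ k) = 1 := by
    intro a ha
    obtain ⟨k, hk⟩ := hR ⟨a, ha⟩
    exact ⟨k, by simpa using congrArg Subtype.val hk⟩
  apply isPGroup_of_forall_coprime_eq_one
  intro x hxL hx
  -- x centralises R
  have key : ∀ i, ∀ a ∈ (fun j => Cfsg.iterCommutator R L (n - j)) i, ⁅a, x⁆ = 1 := by
    apply commutator_eq_one_of_chain (p := p) x hx
    · simpa using hn
    · intro i a ha
      by_cases hi : i + 1 ≤ n
      · have h1 : n - i = (n - (i + 1)) + 1 := by omega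
        show ⁅a, x⁆ ∈ Cfsg.iterCommutator R L (n - i)
        rw [h1]
        exact Subgroup.commutator_mem_commutator ha hxL
      · have h1 : n - (i + 1) = 0 := by omega
        have h2 : n - i = 0 := by omega
        show ⁅a, x⁆ ∈ Cfsg.iterCommutator R L (n - i)
        rw [h2]
        have ha' : a ∈ Cfsg.iterCommutator R L 0 := by
          have : a ∈ Cfsg.iterCommutator R L (n - (i + 1)) := ha
          rwa [h1] at this
        have ha'' : a ∈ R := ha'
        show ⁅a, x⁆ ∈ R
        have h3 : x * a⁻¹ * x⁻¹ ∈ R :=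
          ((Subgroup.mem_normalizer_iff.1 (hL hxL)) a⁻¹).1 (Subgroup.inv_mem _ ha'')
        have h4 : ⁅a, x⁆ = a * (x * a⁻¹ * x⁻¹) := by
          simp [commutatorElement_def, mul_assoc]
        rw [h4]
        exact Subgroup.mul_mem _ ha'' h3
    · intro i a ha
      exact hRp a (iter_le R L hL _ ha)
  have hxc : x ∈ Subgroup.centralizer (R : Set H) := by
    rw [Subgroup.mem_centralizer_iff]
    intro r hr
    have h1 := key n r (by
      show r ∈ Cfsg.iterCommutator R L (n - n)
      rw [Nat.sub_self]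
      exact hr)
    rw [commutatorElement_eq_one_iff_commute] at h1
    exact h1.eq
  obtain ⟨k, hk⟩ := hRp x (hC hxc)
  exact eq_one_of_coprime_of_pow_eq_one hx hk

end Cfsg.Agent.S2809
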