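import Cfsg.Statements.S2810
import Cfsg.Agent.Lib.Helper54.Coprime

set_option autoImplicit false
open Cfsg
open scoped commutatorElement

namespace Cfsg.Agent.S2810

open Cfsg.Agent.Lib.Helper54

/-- the stability group of a chain of normal subgroups -/
def stab {H : Type*} [Group H] (n : ℕ) (A : Fin (n + 1) → Subgroup H)
    (hnorm : ∀ i, (A i).Normal) : Subgroup H where
  carrier := {g | ∀ i : Fin n, ∀ a ∈ A i.succ, ⁅a, g⁆ ∈ A i.castSucc}
  one_mem' := by
    intro i a _
    simp [commutatorElement_def]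
  mul_mem' := by
    intro g h hg hh i a ha
    have h1 : ⁅a, g * h⁆ = ⁅a, g⁆ * (g * ⁅a, h⁆ * g⁻¹) := by
      simp [commutatorElement_def, mul_assoc]
    rw [h1]
    exact Subgroup.mul_mem _ (hg i a ha) ((hnorm i.castSucc).conj_mem _ (hh i a ha) g)
  inv_mem' := by
    intro g hg i a ha
    have h1 : ⁅a, g⁻¹⁆ = g⁻¹ * (⁅a, g⁆)⁻¹ * g⁻¹⁻¹ := by
      simp [commutatorElement_def, mul_assoc]
    rw [h1]
    exact (hnorm i.castSucc).conj_mem _ (Subgroup.inv_mem _ (hg i a ha)) g⁻¹

theorem stab_normal {H : Type*} [Group H] (n : ℕ) (A : Fin (n + 1) → Subgroup H)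
    (hnorm : ∀ i, (A i).Normal) : (stab n A hnorm).Normal := by
  constructor
  intro g hg h i a ha
  have h1 : ⁅a, h * g * h⁻¹⁆ = h * ⁅h⁻¹ * a * h⁻¹⁻¹, g⁆ * h⁻¹ := by
    simp [commutatorElement_def, mul_assoc]
  rw [h1]
  exact (hnorm i.castSucc).conj_mem _ (hg i _ ((hnorm i.succ).conj_mem _ ha h⁻¹)) h

/-- Let H be a finite group of characteristic p and L a subgroup of H centralizing every factor of some H-invariant chain 1 = A₀ ≤ A₁ ≤ … ≤ Aₙ = O_p(H) of normal subgroups (that is, [A_{i+1}, L] ≤ Aᵢ for each i). Then L ≤ O_p(H). -/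
theorem result {H : Type*} [Group H] [Finite H] {p : ℕ} [Fact p.Prime] (hchar : Subgroup.centralizer (Cfsg.pCore p H : Set H) ≤ Cfsg.pCore p H) (L : Subgroup H) (n : ℕ) (A : Fin (n + 1) → Subgroup H) (h0 : A 0 = ⊥) (hn : A (Fin.last n) = Cfsg.pCore p H) (hmono : Monotone A) (hnorm : ∀ i, (A i).Normal) (hcent : ∀ i : Fin n, ⁅A i.succ, L⁆ ≤ A i.castSucc) : L ≤ Cfsg.pCore p H := by
  have hCp : ∀ a ∈ Cfsg.pCore p H, ∃ k : ℕ, a ^ (p ^ k) = 1 := by
    intro a ha
    obtain ⟨k, hk⟩ := pCore_isPGroup p H ⟨a, ha⟩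
    exact ⟨k, by simpa using congrArg Subtype.val hk⟩
  have hLC : L ≤ stab n A hnorm := by
    intro l hl i a ha
    exact hcent i (Subgroup.commutator_mem_commutator ha hl)
  refine le_trans hLC (le_pCore (stab_normal n A hnorm) ?_)
  apply isPGroup_of_forall_coprime_eq_one
  intro x hxC hx
  have key : ∀ i : Fin (n + 1), ∀ a ∈ A i, ⁅a, x⁆ = 1 := by
    intro i
    induction i using Fin.induction with
    | zero =>
      intro a ha
      rw [h0, Subgroup.mem_bot] at ha
      simp [ha, commutatorElement_def]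
    | succ i ih =>
      intro a ha
      have hc := hxC i a ha
      have hc' : ⁅a, x⁆ ∈ Cfsg.pCore p H := by
        rw [← hn]
        exact hmono (Fin.le_last _) hc
      apply commutatorElement_eq_one_of_coprime (p := p) a x _ (hCp _ hc') hx
      have := ih _ hc
      rw [commutatorElement_eq_one_iff_commute] at this
      exact this
  have hxc : x ∈ Subgroup.centralizer (Cfsg.pCore p H : Set H) := by
    rw [Subgroup.mem_centralizer_iff]
    intro r hr
    have h1 := key (Fin.last n) r (by rw [hn]; exact hr)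
    rw [commutatorElement_eq_one_iff_commute] at h1
    exact h1.eq
  obtain ⟨k, hk⟩ := hCp x (hchar hxc)
  exact eq_one_of_coprime_of_pow_eq_one hx hk

end Cfsg.Agent.S2810
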