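import Cfsg.Statements.S2813
import Cfsg.Agent.Lib.Helper54.Coprime

set_option autoImplicit false
open Cfsg
open scoped commutatorElement

namespace Cfsg.Agent.S2813

open Cfsg.Agent.Lib.Helper54

/-- Let K be a subgroup of the finite group H with O_p(K) = 1 and Y a p-subgroup of N_H(K) with [K, Y, Y] = 1. Then [K, Y] = 1. -/
theorem result {H : Type*} [Group H] [Finite H] {p : ℕ} [Fact p.Prime] (K : Subgroup H) (hO : Cfsg.pCore p ↥K = ⊥) (Y : Subgroup H) (hY : IsPGroup p ↥Y) (hYK : Y ≤ Subgroup.normalizer (K : Set H)) (hq : ⁅⁅K, Y⁆, Y⁆ = ⊥) : ⁅K, Y⁆ = ⊥ := by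
  set N := ⁅K, Y⁆ with hN
  -- N ≤ K
  have hNK : N ≤ K := Subgroup.le_normalizer_iff_commutator_le_left.1 hYK
  -- K normalises N
  have hKN : K ≤ Subgroup.normalizer (N : Set H) := Subgroup.normalizer_commutator_ge_left K Y
  have hNKN : ⁅N, K⁆ ≤ N := Subgroup.le_normalizer_iff_commutator_le_left.1 hKN
  -- N is abelian, by the three subgroups lemma
  have hNN : ⁅N, N⁆ = ⊥ := by
    have h1 : ⁅⁅Y, N⁆, K⁆ = ⊥ := by
      rw [Subgroup.commutator_comm Y N, hq, Subgroup.commutator_bot_left]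
    have h2 : ⁅⁅N, K⁆, Y⁆ = ⊥ := by
      rw [eq_bot_iff, ← hq]
      exact Subgroup.commutator_mono hNKN le_rfl
    exact Subgroup.commutator_commutator_eq_bot_of_rotate h1 h2
  have hcomm : ∀ a ∈ N, ∀ b ∈ N, Commute a b := by
    intro a ha b hb
    rw [← commutatorElement_eq_one_iff_commute, ← Subgroup.mem_bot, ← hNN]
    exact Subgroup.commutator_mem_commutator ha hb
  -- every element of N is a p-element
  have hNp : ∀ n ∈ N, ∃ a : ℕ, n ^ (p ^ a) = 1 := by
    intro n hn
    rw [hN, Subgroup.commutator_def] at hn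
    induction hn using Subgroup.closure_induction with
    | mem x hx =>
      obtain ⟨k, hk, y, hy, rfl⟩ := hx
      obtain ⟨a, ha⟩ := hY ⟨y, hy⟩
      have ha' : y ^ (p ^ a) = 1 := by simpa using congrArg Subtype.val ha
      refine ⟨a, ?_⟩
      have hc : Commute ⁅k, y⁆ y := by
        rw [← commutatorElement_eq_one_iff_commute, ← Subgroup.mem_bot, ← hq]
        exact Subgroup.commutator_mem_commutator
          (Subgroup.commutator_mem_commutator hk hy) hy
      have h1 : k * y * k⁻¹ = ⁅k, y⁆ * y := by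
        simp [commutatorElement_def, mul_assoc]
      have h2 : (k * y * k⁻¹) ^ (p ^ a) = 1 := by
        rw [conj_pow, ha']; simp
      rw [h1, hc.mul_pow, ha', mul_one] at h2
      exact h2
    | one => exact ⟨0, by simp⟩
    | mul x y hx hy ihx ihy =>
      obtain ⟨a, ha⟩ := ihx
      obtain ⟨b, hb⟩ := ihy
      have hx' : x ∈ N := by rw [hN, Subgroup.commutator_def]; exact hx
      have hy' : y ∈ N := by rw [hN, Subgroup.commutator_def]; exact hy
      refine ⟨a + b, ?_⟩
      rw [(hcomm x hx' y hy').mul_pow, pow_add, pow_mul, ha, one_pow, mul_comm (p ^ a),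
        pow_mul, hb, one_pow, one_mul]
    | inv x hx ihx =>
      obtain ⟨a, ha⟩ := ihx
      exact ⟨a, by rw [inv_pow, ha, inv_one]⟩
  -- so N ∩ K is a normal p-subgroup of K
  have h1 : (N.subgroupOf K).Normal := by
    have := Subgroup.normal_subgroupOf_iff_le_normalizer hNK
    exact this.2 hKN
  have h2 : IsPGroup p ↥(N.subgroupOf K) := by
    intro x
    obtain ⟨a, ha⟩ := hNp (x : ↥K) x.2
    exact ⟨a, Subtype.ext (Subtype.ext (by simpa using ha))⟩
  have h3 : N.subgroupOf K ≤ Cfsg.pCore p ↥K := le_pCore h1 h2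
  rw [hO] at h3
  rw [eq_bot_iff]
  intro x hx
  have h4 : (⟨x, hNK hx⟩ : ↥K) ∈ N.subgroupOf K := by
    rw [Subgroup.mem_subgroupOf]; exact hx
  have h5 := h3 h4
  rw [Subgroup.mem_bot] at h5 ⊢
  simpa using congrArg Subtype.val h5
end Cfsg.Agent.S2813
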