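import Cfsg.Statements.S2814
import Cfsg.Agent.Lib.Helper54.Subnormal

set_option autoImplicit false
open Cfsg
open scoped commutatorElement

namespace Cfsg.Agent.S2814

open Cfsg.Agent.Lib.Helper54

/-- Let A be a subgroup of the finite group H and K the subnormal closure of A (intersection of the subnormal subgroups containing A). Then K is the normal closure of A inside K and N_H(A) ≤ N_H(K); K = A·O^p(K), O^p(K) being generated by the elements of K of order prime to p; and if A is a p-group, O^p(K) = [O^p(K), A]. -/
theorem result {H : Type*} [Group H] [Finite H] {p : ℕ} [Fact p.Prime] (A : Subgroup H) (K : Subgroup H) (hK : K = Cfsg.subnormalClosure A) : (Subgroup.normalClosure ((A.subgroupOf K : Subgroup ↥K) : Set ↥K)).map K.subtype = K ∧ Subgroup.normalizer (A : Set H) ≤ Subgroup.normalizer (K : Set H) ∧ A ⊔ (Cfsg.pResidual p ↥K).map K.subtype = K ∧ (IsPGroup p ↥A → ⁅(Cfsg.pResidual p ↥K).map K.subtype, A⁆ = (Cfsg.pResidual p ↥K).map K.subtype) := by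
  have hAK : A ≤ K := hK ▸ le_subnormalClosure A
  have hKs : K.IsSubnormal := hK ▸ subnormalClosure_isSubnormal A
  have hKle : ∀ S : Subgroup H, A ≤ S → S.IsSubnormal → K ≤ S := fun S h1 h2 =>
    hK ▸ subnormalClosure_le h1 h2
  -- a subgroup of K that is subnormal in K and contains A is K
  have hKle' : ∀ S : Subgroup H, A ≤ S → S ≤ K → (S.subgroupOf K).IsSubnormal → S = K :=
    fun S h1 h2 h3 => le_antisymm h2 (hKle S h1 (h3.trans h2 hKs))
  have h1 : (Subgroup.normalClosure ((A.subgroupOf K : Subgroup ↥K) : Set ↥K)).map K.subtype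
      = K := by
    apply hKle'
    · intro a ha
      exact ⟨⟨a, hAK ha⟩, Subgroup.le_normalClosure (Subgroup.mem_subgroupOf.2 ha), rfl⟩
    · exact Subgroup.map_subtype_le _
    · rw [map_subtype_subgroupOf]
      exact Subgroup.normalClosure_normal.isSubnormal
  have h2 : Subgroup.normalizer (A : Set H) ≤ Subgroup.normalizer (K : Set H) := by
    intro g hg
    apply mem_normalizer_of_map_conj_eq
    have h3 : K ≤ K.map (MulAut.conj g).toMonoidHom := by
      apply hKle
      · rw [← map_conj_eq_of_mem_normalizer hg]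
        exact Subgroup.map_mono hAK
      · exact hKs.map (MulAut.conj g).surjective
    exact (Subgroup.eq_of_le_of_card_ge h3 (by rw [card_map_conj])).symm
  set R := (Cfsg.pResidual p ↥K).map K.subtype with hR
  have hRK : R ≤ K := Subgroup.map_subtype_le _
  have hRn : (Cfsg.pResidual p ↥K).Normal := pResidual_normal p ↥K
  have hKR : K ≤ Subgroup.normalizer (R : Set H) := by
    rw [← Subgroup.normal_subgroupOf_iff_le_normalizer hRK, hR,
      map_subtype_subgroupOf]
    exact hRn
  have h3 : A ⊔ R = K := by
    apply hKle' _ le_sup_left (sup_le hAK hRK)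
    have hle : Cfsg.pResidual p ↥K ≤ (A ⊔ R).subgroupOf K := by
      intro x hx
      rw [Subgroup.mem_subgroupOf]
      exact le_sup_right (a := A) ⟨x, hx, rfl⟩
    have e : (A ⊔ R).subgroupOf K =
        (((A ⊔ R).subgroupOf K).map (QuotientGroup.mk' (Cfsg.pResidual p ↥K))).comap
          (QuotientGroup.mk' (Cfsg.pResidual p ↥K)) := by
      rw [Subgroup.comap_map_eq, QuotientGroup.ker_mk', sup_eq_left.2 hle]
    rw [e]
    apply Subgroup.IsSubnormal.comap
    exact isSubnormal_of_isPGroup (pResidual_quotient_isPGroup) _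
  refine ⟨h1, h2, h3, ?_⟩
  intro hAp
  set D := ⁅R, A⁆ with hD
  have hAR : A ≤ Subgroup.normalizer (R : Set H) := hAK.trans hKR
  have hDR : D ≤ R := Subgroup.le_normalizer_iff_commutator_le_left.1 hAR
  have hRD : R ≤ Subgroup.normalizer (D : Set H) := Subgroup.normalizer_commutator_ge_left R A
  have hAD : A ≤ Subgroup.normalizer (D : Set H) := Subgroup.normalizer_commutator_ge_right R A
  have hKD : K ≤ Subgroup.normalizer (D : Set H) := by
    rw [← h3]; exact sup_le hAD hRD
  -- A ⊔ D is normal in K
  have hAD_norm : K ≤ Subgroup.normalizer ((A ⊔ D : Subgroup H) : Set H) := by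
    rw [← h3]
    apply sup_le
    · apply le_normalizer_of_map_conj_le
      intro a ha
      rw [Subgroup.map_sup, map_conj_eq_of_mem_normalizer (hAD ha),
        map_conj_eq_of_mem_normalizer (Subgroup.le_normalizer ha)]
    · apply le_normalizer_of_map_conj_le
      intro r hr
      rw [Subgroup.map_sup, map_conj_eq_of_mem_normalizer (hRD hr)]
      apply sup_le _ le_sup_right
      rw [sup_comm]
      exact map_conj_le_commutator_sup hr
  have h4 : A ⊔ D = K := by
    apply hKle' _ le_sup_left (sup_le hAK (hDR.trans hRK))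
    exact ((Subgroup.normal_subgroupOf_iff_le_normalizer
      (sup_le hAK (hDR.trans hRK))).2 hAD_norm).isSubnormal
  apply le_antisymm hDR
  exact map_pResidual_subtype_le_of_sup (by rw [← h4, sup_comm]) hAD hAp

end Cfsg.Agent.S2814
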