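import Cfsg.Statements.S2815
import Cfsg.Agent.Lib.Helper28.FStar
import Cfsg.Agent.Lib.Helper30.Layer
import Cfsg.Agent.Lib.Helper42.Components
import Cfsg.Agent.Lib.Helper53.Subnormal
import Cfsg.Agent.Lib.Helper54.Basic

set_option autoImplicit false
open Cfsg

namespace Cfsg.Agent.S2815

open Cfsg.Agent.Lib.Helper54
open scoped commutatorElement

/-- A perfect subgroup lies in every normal subgroup with solvable quotient. -/
theorem perfect_le_of_solvable_quotient {H : Type*} [Group H] (L N : Subgroup H) [N.Normal]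
    (hL : ⁅L, L⁆ = L) (hs : Group.IsSolvable (H ⧸ N)) : L ≤ N := by
  obtain ⟨n, hn⟩ := hs.solvable
  have h1 : ∀ k : ℕ, L ≤ derivedSeries H k := by
    intro k
    induction k with
    | zero => simp
    | succ k ih =>
      rw [derivedSeries_succ, ← hL]
      exact Subgroup.commutator_mono ih ih
  have h2 : (derivedSeries H n).map (QuotientGroup.mk' N) ≤ derivedSeries (H ⧸ N) n :=
    map_derivedSeries_le_derivedSeries _ n
  rw [hn, le_bot_iff, Subgroup.map_eq_bot_iff, QuotientGroup.ker_mk'] at h2
  exact (h1 n).trans h2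

theorem result {H : Type*} [Group H] [Finite H] {p : ℕ} [Fact p.Prime] (hp : p ∣ Nat.card H) (hO : Cfsg.pCore p H = ⊥) (hq : Cfsg.IsQuasisimple ↥(Cfsg.pResidual p H)) : Cfsg.pResidual p H = Cfsg.generalizedFittingSubgroup H ∧ (∀ Y : Subgroup H, IsPGroup p ↥Y → Y ≠ ⊥ → ⁅Cfsg.pResidual p H, Y⁆ = Cfsg.pResidual p H ∧ Cfsg.pResidual p H ≤ ⨆ k : ↥(Cfsg.pResidual p H), Y.map (MulAut.conj (k : H)).toMonoidHom) ∧ (∀ C : Subgroup H, C.Normal → ¬ Cfsg.pResidual p H ≤ C → (Nat.card ↥C).Coprime p) ∧ Cfsg.IsPIrreducible p H := by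
  classical
  have hpp : p.Prime := Fact.out
  set K : Subgroup H := Cfsg.pResidual p H with hK
  have hKn : K.Normal := pResidual_normal p H
  have hKc : Cfsg.IsComponent K := ⟨hKn.isSubnormal, hq⟩
  have hKperf : ⁅K, K⁆ = K := Subgroup.isPerfect_iff.mp hq.1
  -- the quotient is a p-group
  have hQp : IsPGroup p (H ⧸ K) := pResidual_quotient_isPGroup
  have hQs : Group.IsSolvable (H ⧸ K) := by
    have : Group.IsNilpotent (H ⧸ K) := hQp.isNilpotent
    infer_instance
  -- (a)
  have hFK : Cfsg.fittingSubgroup H ≤ K := by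
    rw [Cfsg.Agent.Lib.Helper76.fittingSubgroup_eq_pCoreJoin]
    unfold Cfsg.Agent.Lib.Helper76.pCoreJoin
    apply iSup_le
    intro q
    by_cases hqp : (q : ℕ) = p
    · rw [hqp, hO]
      exact bot_le
    · have hqP : (q : ℕ).Prime := Nat.prime_of_mem_primeFactors q.2
      have : Fact (q : ℕ).Prime := ⟨hqP⟩
      intro x hx
      apply mem_pResidual_of_coprime
      have hQq : IsPGroup (q : ℕ) ↥(Cfsg.pCore (q : ℕ) H) :=
        Cfsg.Agent.Lib.Helper76.pCore_isPGroup _
      obtain ⟨k, hk⟩ := (IsPGroup.iff_orderOf.mp hQq) ⟨x, hx⟩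
      have h1 : orderOf x = (q : ℕ) ^ k := by
        rw [← hk]
        exact Subgroup.orderOf_coe (⟨x, hx⟩ : ↥(Cfsg.pCore (q : ℕ) H))
      rw [h1]
      exact Nat.Coprime.pow_left k ((Nat.coprime_primes hqP hpp).mpr hqp)
  have hEK : Cfsg.layer H ≤ K := by
    apply Cfsg.Agent.Lib.Helper30.layer_le
    intro L hL
    exact perfect_le_of_solvable_quotient L K (Cfsg.Agent.Lib.Helper30.component_perfect hL) hQs
  have hKE : K ≤ Cfsg.layer H := Cfsg.Agent.Lib.Helper30.component_le_layer hKc
  have hFstar : K = Cfsg.generalizedFittingSubgroup H := by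
    unfold Cfsg.generalizedFittingSubgroup
    apply le_antisymm
    · exact hKE.trans le_sup_left
    · exact sup_le hEK hFK
  have hCK : Subgroup.centralizer (K : Set H) ≤ K := by
    have := Cfsg.Agent.Lib.Helper28.centralizer_genFitting_le (G := H)
    rw [← hFstar] at this
    exact this
  -- the centre of K, as a subgroup of H
  set Z : Subgroup H := K ⊓ Subgroup.centralizer (K : Set H) with hZ
  have hCn : (Subgroup.centralizer (K : Set H)).Normal := Subgroup.normal_centralizer
  have hZn : Z.Normal := inferInstance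
  have hZone : ∀ x ∈ Z, (∃ k : ℕ, orderOf x = p ^ k) → x = 1 := by
    intro x hx ⟨k, hk⟩
    have hle : Subgroup.zpowers x ≤ Cfsg.pCore p H := by
      apply Cfsg.Agent.Lib.Helper53.le_pCore_of_subnormal hZn.isSubnormal
      · rw [Subgroup.zpowers_le]; exact hx
      · intro z hz
        rw [Subgroup.mem_normalizer_iff]
        intro w
        have hcomm : ∀ w' ∈ Subgroup.zpowers x, z * w' * z⁻¹ = w' := by
          intro w' hw'
          have hw'K : w' ∈ K := by
            have : Subgroup.zpowers x ≤ K := by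
              rw [Subgroup.zpowers_le]; exact hx.1
            exact this hw'
          have := (Subgroup.mem_centralizer_iff.mp hz.2) w' hw'K
          rw [← this]; group
        constructor
        · intro hw
          rw [hcomm w hw]; exact hw
        · intro hw
          have h1 := hcomm _ hw
          have h2 : w = z * w * z⁻¹ := by
            have : z⁻¹ * (z * (z * w * z⁻¹) * z⁻¹) * z = z⁻¹ * (z * w * z⁻¹) * z := by rw [h1]
            have e1 : z⁻¹ * (z * (z * w * z⁻¹) * z⁻¹) * z = z * w * z⁻¹ := by group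
            have e2 : z⁻¹ * (z * w * z⁻¹) * z = w := by group
            rw [e1, e2] at this
            exact this.symm
          rw [h2]; exact hw
      · apply IsPGroup.of_card (n := k)
        rw [Nat.card_zpowers, hk]
    rw [hO, Subgroup.zpowers_le, Subgroup.mem_bot] at hle
    exact hle
  -- normal subgroups not containing K
  have KL : ∀ N : Subgroup H, N.Normal → ¬ K ≤ N → N ≤ Z ∧ (Nat.card ↥N).Coprime p := by
    intro N hN hKN
    have h1 : ⁅K, N⁆ = ⊥ :=
      (Cfsg.Agent.Lib.Helper42.component_le_or_commutator_eq_bot K N hKc).resolve_left hKN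
    have h2 : N ≤ Subgroup.centralizer (K : Set H) := by
      rw [Subgroup.commutator_comm, Subgroup.commutator_eq_bot_iff_le_centralizer] at h1
      exact h1
    have hNZ : N ≤ Z := le_inf (h2.trans hCK) h2
    refine ⟨hNZ, ?_⟩
    rw [Nat.coprime_comm, Nat.Prime.coprime_iff_not_dvd hpp]
    intro hdvd
    obtain ⟨x, hx⟩ := exists_prime_orderOf_dvd_card' (G := ↥N) p hdvd
    have h3 : (x : H) = 1 := by
      apply hZone _ (hNZ x.2)
      refine ⟨1, ?_⟩
      rw [Subgroup.orderOf_coe, hx, pow_one]
    have h4 : x = 1 := Subtype.ext h3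
    rw [h4, orderOf_one] at hx
    exact hpp.one_lt.ne hx
  refine ⟨hFstar, ?_, fun C hC hKC => (KL C hC hKC).2, ?_, ?_⟩
  · -- (b)
    intro Y hYp hY1
    set D : Subgroup H := ⁅K, Y⁆ with hD
    have hDK : D ≤ K := Subgroup.commutator_le_left K Y
    have hconjD : ∀ a ∈ K, ∀ d ∈ D, a * d * a⁻¹ ∈ D := by
      intro a ha
      have hle : D ≤ D.comap (MulAut.conj a).toMonoidHom := by
        rw [hD, Subgroup.commutator_le]
        intro k hk y hy
        rw [Subgroup.mem_comap]
        simp only [MulEquiv.coe_toMonoidHom, MulAut.conj_apply]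
        have e : a * ⁅k, y⁆ * a⁻¹ = ⁅a * k, y⁆ * (⁅a, y⁆)⁻¹ := by
          simp only [commutatorElement_def]; group
        rw [e]
        exact D.mul_mem (Subgroup.commutator_mem_commutator (K.mul_mem ha hk) hy)
          (D.inv_mem (Subgroup.commutator_mem_commutator ha hy))
      intro d hd
      have := hle hd
      rw [Subgroup.mem_comap] at this
      simpa [MulAut.conj_apply] using this
    have hDn : (D.subgroupOf K).Normal := by
      refine ⟨fun n hn k => ?_⟩
      rw [Subgroup.mem_subgroupOf] at hn ⊢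
      simp only [Subgroup.coe_mul, Subgroup.coe_inv]
      exact hconjD _ k.2 _ hn
    have hDtop : K ≤ D := by
      rcases Cfsg.Agent.Lib.Helper42.quasisimple_normal_le_center_or_eq_top hq (D.subgroupOf K)
        with h | h
      · exfalso
        have hDc : D ≤ Subgroup.centralizer (K : Set H) := by
          intro d hd
          have h1 : (⟨d, hDK hd⟩ : ↥K) ∈ Subgroup.center ↥K := h (Subgroup.mem_subgroupOf.mpr hd)
          rw [Subgroup.mem_centralizer_iff]
          intro k hk
          have := (Subgroup.mem_center_iff.mp h1) ⟨k, hk⟩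
          exact congrArg Subtype.val this
        have e1 : ⁅⁅K, Y⁆, K⁆ = ⊥ := by
          rw [Subgroup.commutator_eq_bot_iff_le_centralizer]
          exact hDc
        have e2 : ⁅⁅Y, K⁆, K⁆ = ⊥ := by
          rw [Subgroup.commutator_comm Y K]
          exact e1
        have e3 : ⁅⁅K, K⁆, Y⁆ = ⊥ := Subgroup.commutator_commutator_eq_bot_of_rotate e1 e2
        rw [hKperf] at e3
        have hYc : Y ≤ Subgroup.centralizer (K : Set H) := by
          rw [Subgroup.commutator_comm, Subgroup.commutator_eq_bot_iff_le_centralizer] at e3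
          exact e3
        apply hY1
        rw [eq_bot_iff]
        intro y hy
        rw [Subgroup.mem_bot]
        apply hZone y ⟨hCK (hYc hy), hYc hy⟩
        obtain ⟨k, hk⟩ := (IsPGroup.iff_orderOf.mp hYp) ⟨y, hy⟩
        refine ⟨k, ?_⟩
        rw [← hk]
        exact Subgroup.orderOf_coe (⟨y, hy⟩ : ↥Y)
      · exact Subgroup.subgroupOf_eq_top.mp h
    refine ⟨le_antisymm hDK hDtop, ?_⟩
    refine hDtop.trans ?_
    rw [hD, Subgroup.commutator_le]
    intro k hk y hy
    have h1 : k * y * k⁻¹ ∈ ⨆ k : ↥K, Y.map (MulAut.conj (k : H)).toMonoidHom := by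
      apply Subgroup.mem_iSup_of_mem (⟨k, hk⟩ : ↥K)
      exact ⟨y, hy, by simp [MulAut.conj_apply]⟩
    have h2 : y⁻¹ ∈ ⨆ k : ↥K, Y.map (MulAut.conj (k : H)).toMonoidHom := by
      apply Subgroup.mem_iSup_of_mem (1 : ↥K)
      exact ⟨y⁻¹, Y.inv_mem hy, by simp⟩
    rw [commutatorElement_def]
    exact Subgroup.mul_mem _ h1 h2
  · -- (d), first part
    intro hcl
    obtain S : Sylow p H := default
    have hSn := hcl S
    have hle : (S : Subgroup H) ≤ Cfsg.pCore p H := le_pCore hSn S.isPGroup'
    rw [hO, le_bot_iff] at hle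
    exact S.ne_bot_of_dvd_card hp hle
  · -- (d), second part
    intro N hN hncl
    by_contra hKN
    apply hncl
    obtain ⟨_, hcop⟩ := KL N hN hKN
    intro Q
    have hQbot : (Q : Subgroup ↥N) = ⊥ := by
      obtain ⟨k, hk⟩ := IsPGroup.iff_card.mp Q.isPGroup'
      have h1 : Nat.card ↥(Q : Subgroup ↥N) ∣ Nat.card ↥N := Subgroup.card_subgroup_dvd_card _
      have h2 : Nat.card ↥(Q : Subgroup ↥N) = 1 := by
        have h3 : (Nat.card ↥(Q : Subgroup ↥N)).Coprime (Nat.card ↥(Q : Subgroup ↥N)) := by
          apply Nat.Coprime.coprime_dvd_left h1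
          rw [hk]
          exact Nat.Coprime.pow_right k hcop
        exact (Nat.coprime_self _).mp h3
      exact Subgroup.card_eq_one.mp h2
    rw [hQbot]
    infer_instance

end Cfsg.Agent.S2815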