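import Cfsg.Statements.S2816
import Cfsg.Agent.Lib.Helper54.FStarSub

set_option autoImplicit false
open Cfsg

namespace Cfsg.Agent.S2816

open Cfsg.Agent.Lib.Helper54
open scoped commutatorElement

/-- Let H be a finite group and p a prime with O_p(H) = 1, and Y a p-subgroup of H. Then for every subnormal subgroup K of H containing Y, [F*(H), Y] = [F*(K), Y] = [F*(K), Y, Y]; and if Y₀ ≤ Y with [F*(H), Y, Y₀] = 1 then Y₀ = 1 (in particular [F*(H), Y] = 1 forces Y = 1). -/
theorem result {H : Type*} [Group H] [Finite H] {p : ℕ} [Fact p.Prime] (hO : Cfsg.pCore p H = ⊥) (Y : Subgroup H) (hY : IsPGroup p ↥Y) : (∀ K : Subgroup H, K.IsSubnormal → Y ≤ K → ⁅Cfsg.generalizedFittingSubgroup H, Y⁆ = ⁅(Cfsg.generalizedFittingSubgroup ↥K).map K.subtype, Y⁆ ∧ ⁅(Cfsg.generalizedFittingSubgroup ↥K).map K.subtype, Y⁆ = ⁅⁅(Cfsg.generalizedFittingSubgroup ↥K).map K.subtype, Y⁆, Y⁆) ∧ (∀ Y₀ : Subgroup H, Y₀ ≤ Y → ⁅⁅Cfsg.generalizedFittingSubgroup H, Y⁆, Y₀⁆ = ⊥ → Y₀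 = ⊥) := by
  have hA := actData_top hO hY
  have hn : (Cfsg.generalizedFittingSubgroup H).Normal := Cfsg.Agent.Lib.Helper30.genFitting_normal
  have h1 : ⁅⁅Cfsg.generalizedFittingSubgroup H, Y⁆, Y⁆ = ⁅Cfsg.generalizedFittingSubgroup H, Y⁆ :=
    hA.commutator_commutator_eq
  have h2 : ⁅Cfsg.generalizedFittingSubgroup H, Y⁆ ⊔
      (Cfsg.generalizedFittingSubgroup H ⊓ Subgroup.centralizer (Y : Set H)) =
      Cfsg.generalizedFittingSubgroup H := hA.commutator_sup_centralizer
  constructor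
  · intro K hK hYK
    have h3 : ⁅Cfsg.generalizedFittingSubgroup H, Y⁆ ≤ K :=
      le_of_isSubnormal_of_commutator_eq hK hYK h1
    have h4 : ⁅Cfsg.generalizedFittingSubgroup H, Y⁆ ≤ Cfsg.generalizedFittingSubgroup H :=
      Subgroup.commutator_le_left _ _
    have h5 : ⁅Cfsg.generalizedFittingSubgroup H, Y⁆ ≤
        (Cfsg.generalizedFittingSubgroup ↥K).map K.subtype := by
      rw [genFitting_map_subtype_of_subnormal hK]
      exact le_inf h4 h3
    have h6 : (Cfsg.generalizedFittingSubgroup ↥K).map K.subtype ≤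
        Cfsg.generalizedFittingSubgroup H := by
      rw [genFitting_map_subtype_of_subnormal hK]
      exact inf_le_left
    have h7 : ⁅Cfsg.generalizedFittingSubgroup H, Y⁆ =
        ⁅(Cfsg.generalizedFittingSubgroup ↥K).map K.subtype, Y⁆ := by
      apply le_antisymm
      · calc ⁅Cfsg.generalizedFittingSubgroup H, Y⁆
            = ⁅⁅Cfsg.generalizedFittingSubgroup H, Y⁆, Y⁆ := h1.symm
          _ ≤ _ := Subgroup.commutator_mono h5 le_rfl
      · exact Subgroup.commutator_mono h6 le_rfl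
    refine ⟨h7, ?_⟩
    rw [← h7, h1]
  · intro Y₀ hY₀ hc
    apply eq_bot_of_le_centralizer_genFitting hO (hY.to_le hY₀)
    rw [Subgroup.le_centralizer_iff, ← h2]
    apply sup_le
    · exact Subgroup.commutator_eq_bot_iff_le_centralizer.1 hc
    · exact inf_le_right.trans (Subgroup.centralizer_le hY₀)

end Cfsg.Agent.S2816
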