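import Cfsg.Statements.S2817
import Cfsg.Agent.Lib.Helper54.FStarQ2

set_option autoImplicit false
open Cfsg

namespace Cfsg.Agent.S2817

open Cfsg.Agent.Lib.Helper54
open scoped commutatorElement

section

variable {H : Type*} [Group H] [Finite H] {p : ℕ} [Fact p.Prime]

omit [Finite H] in
theorem centralizer_anti {A B : Subgroup H} (h : A ≤ B) :
    Subgroup.centralizer (B : Set H) ≤ Subgroup.centralizer (A : Set H) :=
  Subgroup.centralizer_le h

/-- every component of `H` is normalised by `F*(H)` -/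
theorem genFitting_le_normalizer_component (hO : Cfsg.pCore p H = ⊥) {Q : Subgroup H}
    (hQ : IsPGroup p ↥Q) {K : Subgroup H} (hK : Cfsg.IsComponent K) :
    Cfsg.generalizedFittingSubgroup H ≤ Subgroup.normalizer (K : Set H) := by
  have A := actData_top hO hQ
  rw [genFitting_eq_sSup_sup]
  apply sup_le
  · apply sSup_le
    intro K' hK'
    by_cases h : K = K'
    · rw [← h]; exact Subgroup.le_normalizer
    · exact (A.comm K hK K' hK' h).trans (Subgroup.centralizer_le_normalizer _)
  · refine le_trans ?_ (Subgroup.centralizer_le_normalizer _)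
    rw [Subgroup.le_centralizer_iff]
    exact A.commF K hK

/-- a `p`-subgroup centralising `F` and `L` is trivial -/
theorem eq_bot_of_le_centralizer (hO : Cfsg.pCore p H = ⊥) {Q : Subgroup H}
    (hQ : IsPGroup p ↥Q) {F : Subgroup H}
    (hFeq : F = Cfsg.generalizedFittingSubgroup H ⊓ Subgroup.centralizer
      ((⁅Cfsg.generalizedFittingSubgroup H, Q⁆ ⊔ Q : Subgroup H) : Set H))
    (hFmax : ∀ N : Subgroup H, N ≤ Cfsg.generalizedFittingSubgroup H →
      Cfsg.generalizedFittingSubgroup H ≤ Subgroup.normalizer (N : Set H) →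
      Q ≤ Subgroup.centralizer (N : Set H) → N ≤ F)
    {X : Subgroup H} (hX : IsPGroup p ↥X) (hXF : X ≤ Subgroup.centralizer (F : Set H))
    (hXL : X ≤ Subgroup.centralizer
      ((⁅Cfsg.generalizedFittingSubgroup H, Q⁆ : Subgroup H) : Set H)) : X = ⊥ := by
  have A := actData_top hO hQ
  have hceq : ⁅Cfsg.generalizedFittingSubgroup H, Q⁆ =
      sSup (movedSet Q {K : Subgroup H | Cfsg.IsComponent K}) ⊔ ⁅Cfsg.fittingSubgroup H, Q⁆ :=
    A.commutator_eq
  have hRn : (Cfsg.fittingSubgroup H).Normal := Cfsg.Agent.Lib.Helper30.fitting_normal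
  have hRle : Cfsg.fittingSubgroup H ≤ Cfsg.generalizedFittingSubgroup H :=
    Cfsg.Agent.Lib.Helper30.fitting_le_genFitting
  have hD₀L : ⁅Cfsg.fittingSubgroup H, Q⁆ ≤ ⁅Cfsg.generalizedFittingSubgroup H, Q⁆ :=
    Subgroup.commutator_mono hRle le_rfl
  have hE₂L : sSup (movedSet Q {K : Subgroup H | Cfsg.IsComponent K}) ≤
      ⁅Cfsg.generalizedFittingSubgroup H, Q⁆ := by rw [hceq]; exact le_sup_left
  apply eq_bot_of_le_centralizer_genFitting hO hX
  rw [Subgroup.le_centralizer_iff, genFitting_eq_sSup_sup]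
  apply sup_le
  · -- components
    apply sSup_le
    intro K hK
    rw [Subgroup.le_centralizer_iff]
    by_cases hKQ : ⁅K, Q⁆ = ⊥
    · have hKF : K ≤ F := by
        apply hFmax K ((Cfsg.Agent.Lib.Helper30.component_le_layer hK).trans
          Cfsg.Agent.Lib.Helper30.layer_le_genFitting)
          (genFitting_le_normalizer_component hO hQ hK)
        rw [Subgroup.le_centralizer_iff]
        exact Subgroup.commutator_eq_bot_iff_le_centralizer.1 hKQ
      exact hXF.trans (Subgroup.centralizer_le hKF)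
    · have hKL : K ≤ ⁅Cfsg.generalizedFittingSubgroup H, Q⁆ :=
        (le_sSup (show K ∈ movedSet Q {K : Subgroup H | Cfsg.IsComponent K} from
          ⟨hK, hKQ⟩)).trans hE₂L
      exact hXL.trans (Subgroup.centralizer_le hKL)
  · -- the Fitting subgroup
    have hXD : X ≤ Subgroup.centralizer ((⁅Cfsg.fittingSubgroup H, Q⁆ : Subgroup H) : Set H) :=
      hXL.trans (Subgroup.centralizer_le hD₀L)
    have hXD' : ⁅X, ⁅Cfsg.fittingSubgroup H, Q⁆⁆ = ⊥ :=
      Subgroup.commutator_eq_bot_iff_le_centralizer.2 hXD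
    obtain ⟨C₀, hC₀⟩ : ∃ C₀, C₀ = Cfsg.fittingSubgroup H ⊓ Subgroup.centralizer
        ((⁅Cfsg.fittingSubgroup H, Q⁆ : Subgroup H) : Set H) := ⟨_, rfl⟩
    have hC₀R : C₀ ≤ Cfsg.fittingSubgroup H := by rw [hC₀]; exact inf_le_left
    have hQC₀ : Q ≤ Subgroup.normalizer (C₀ : Set H) := by
      rw [hC₀]
      apply le_normalizer_inf
      · rw [Subgroup.normalizer_eq_top]; exact le_top
      · exact (Subgroup.normalizer_commutator_ge_right _ _).trans
          (normalizer_le_normalizer_centralizer_set _)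
    have hcopC₀ : (Nat.card ↥C₀).Coprime p :=
      Nat.Coprime.coprime_dvd_left (Subgroup.card_dvd_of_le hC₀R) A.cop
    have hdecC₀ := commutator_sup_inf_centralizer_of_coprime hQ hcopC₀ hQC₀
    have hC₀X : C₀ ≤ Subgroup.centralizer (X : Set H) := by
      rw [← hdecC₀]
      apply sup_le
      · rw [Subgroup.le_centralizer_iff]
        exact hXD.trans (Subgroup.centralizer_le (Subgroup.commutator_mono hC₀R le_rfl))
      · have h1 : C₀ ⊓ Subgroup.centralizer (Q : Set H) ≤ F := by
          rw [hFeq]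
          apply le_inf (inf_le_left.trans (hC₀R.trans hRle))
          rw [Subgroup.le_centralizer_iff]
          apply sup_le
          · rw [hceq]
            apply sup_le
            · exact A.movedSet_le_centralizer_F.trans
                (Subgroup.centralizer_le (inf_le_left.trans hC₀R))
            · rw [Subgroup.le_centralizer_iff, hC₀]
              exact inf_le_left.trans inf_le_right
          · rw [Subgroup.le_centralizer_iff]
            exact inf_le_right
        rw [Subgroup.le_centralizer_iff]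
        exact hXF.trans (Subgroup.centralizer_le h1)
    have hC₀X' : ⁅C₀, X⁆ = ⊥ := Subgroup.commutator_eq_bot_iff_le_centralizer.2 hC₀X
    -- three subgroups
    have h1 : ⁅⁅X, ⁅Cfsg.fittingSubgroup H, Q⁆⁆, Cfsg.fittingSubgroup H⁆ = ⊥ := by
      rw [hXD', Subgroup.commutator_bot_left]
    have h2 : ⁅⁅⁅Cfsg.fittingSubgroup H, Q⁆, Cfsg.fittingSubgroup H⁆, X⁆ = ⊥ := by
      rw [eq_bot_iff, ← hXD', Subgroup.commutator_comm X]
      exact Subgroup.commutator_mono (Subgroup.le_normalizer_iff_commutator_le_left.1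
        (Subgroup.normalizer_commutator_ge_left _ _)) le_rfl
    have h3 : ⁅⁅Cfsg.fittingSubgroup H, X⁆, ⁅Cfsg.fittingSubgroup H, Q⁆⁆ = ⊥ :=
      Subgroup.commutator_commutator_eq_bot_of_rotate h1 h2
    have h4 : ⁅Cfsg.fittingSubgroup H, X⁆ ≤ C₀ := by
      rw [hC₀]
      exact le_inf (Subgroup.commutator_le_left _ _)
        (Subgroup.commutator_eq_bot_iff_le_centralizer.1 h3)
    have h5 : ⁅⁅Cfsg.fittingSubgroup H, X⁆, X⁆ = ⊥ := by
      rw [eq_bot_iff, ← hC₀X']
      exact Subgroup.commutator_mono h4 le_rfl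
    have hXR : X ≤ Subgroup.normalizer ((Cfsg.fittingSubgroup H : Subgroup H) : Set H) := by
      rw [Subgroup.normalizer_eq_top]; exact le_top
    have h6 := commutator_commutator_eq_of_coprime hX A.cop hXR
    rw [h5] at h6
    exact Subgroup.commutator_eq_bot_iff_le_centralizer.1 h6.symm

end


/-- Let H be a finite group and p a prime with O_p(H) = 1, Q a p-subgroup of H, L = [F*(H), Q], and F the largest normal subgroup of F*(H) centralized by Q (a normal subgroup of F*(H) centralized by Q and containing every such). Then F = C_{F*(H)}(LQ); L = [L, Q]; L ∩ F ≤ Φ(L); every p-subgroup B of N_H(Q) with [L, B] ≤ F satisfies [L, B] = 1; and C_H(FL) has order prime to p. -/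
theorem result {H : Type*} [Group H] [Finite H] {p : ℕ} [Fact p.Prime] (hO : Cfsg.pCore p H = ⊥) (Q : Subgroup H) (hQ : IsPGroup p ↥Q) (L : Subgroup H) (hL : L = ⁅Cfsg.generalizedFittingSubgroup H, Q⁆) (F : Subgroup H) (hF : F ≤ Cfsg.generalizedFittingSubgroup H ∧ Cfsg.generalizedFittingSubgroup H ≤ Subgroup.normalizer (F : Set H) ∧ Q ≤ Subgroup.centralizer (F : Set H) ∧ ∀ N : Subgroup H, N ≤ Cfsg.generalizedFittingSubgroup H → Cfsg.generalizedFittingSubgroup H ≤ Subgroup.normalizer (N : Set H) → Q ≤ Subgroup.centralizer (N : Set H) → N ≤ F) : F = Cfsg.generalizedFittingSubgroup H ⊓ Subgroup.centralizer ((L ⊔ Q : Subgroup H) : Set H) ∧ ⁅L, Q⁆ = L ∧ L ⊓ F ≤ (frattini ↥L).map L.subtype ∧ (∀ B : Subgroup H, IsPGroup p ↥B → B ≤ Subgroup.normalizer (Q : Set H) → ⁅L, B⁆ ≤ F → ⁅L, B⁆ = ⊥) ∧ (Nat.card ↥(Subgroup.centralizer ((F ⊔ L : Subgroup H) : Set H))).Coprime p := by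
  subst hL
  obtain ⟨hF1, hF2, hF3, hF4⟩ := hF
  have A := actData_top hO hQ
  have hceq : ⁅Cfsg.generalizedFittingSubgroup H, Q⁆ =
      sSup (movedSet Q {K : Subgroup H | Cfsg.IsComponent K}) ⊔ ⁅Cfsg.fittingSubgroup H, Q⁆ :=
    A.commutator_eq
  have hLL : ⁅⁅Cfsg.generalizedFittingSubgroup H, Q⁆, Q⁆ = ⁅Cfsg.generalizedFittingSubgroup H, Q⁆ :=
    A.commutator_commutator_eq
  have hdec : ⁅Cfsg.generalizedFittingSubgroup H, Q⁆ ⊔
      (Cfsg.generalizedFittingSubgroup H ⊓ Subgroup.centralizer (Q : Set H)) =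
      Cfsg.generalizedFittingSubgroup H := A.commutator_sup_centralizer
  have hFsn : (Cfsg.generalizedFittingSubgroup H).Normal := Cfsg.Agent.Lib.Helper30.genFitting_normal
  have hRn : (Cfsg.fittingSubgroup H).Normal := Cfsg.Agent.Lib.Helper30.fitting_normal
  have hRle : Cfsg.fittingSubgroup H ≤ Cfsg.generalizedFittingSubgroup H :=
    Cfsg.Agent.Lib.Helper30.fitting_le_genFitting
  -- `L` centralises `F`
  have hLF : ⁅Cfsg.generalizedFittingSubgroup H, Q⁆ ≤ Subgroup.centralizer (F : Set H) :=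
    ActData.commutator_le_centralizer_of_normal hF2 hF3
  have hFL : F ≤ Subgroup.centralizer
      ((⁅Cfsg.generalizedFittingSubgroup H, Q⁆ : Subgroup H) : Set H) :=
    Subgroup.le_centralizer_iff.1 hLF
  have hFQ : F ≤ Subgroup.centralizer (Q : Set H) := Subgroup.le_centralizer_iff.1 hF3
  -- (a)
  have ha : F = Cfsg.generalizedFittingSubgroup H ⊓ Subgroup.centralizer
      ((⁅Cfsg.generalizedFittingSubgroup H, Q⁆ ⊔ Q : Subgroup H) : Set H) := by
    apply le_antisymm
    · apply le_inf hF1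
      rw [Subgroup.le_centralizer_iff]
      exact sup_le hLF hF3
    · apply hF4 _ inf_le_left
      · refine hdec.ge.trans (sup_le ?_ ?_)
        · refine le_trans ?_ (Subgroup.centralizer_le_normalizer _)
          rw [Subgroup.le_centralizer_iff]
          exact inf_le_right.trans (centralizer_anti le_sup_left)
        · apply le_normalizer_inf
          · rw [Subgroup.normalizer_eq_top]; exact le_top
          · refine le_trans ?_ (normalizer_le_normalizer_centralizer_set _)
            apply normalizer_sup_ge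
            · exact inf_le_left.trans (Subgroup.normalizer_commutator_ge_left _ _)
            · exact inf_le_right.trans (Subgroup.centralizer_le_normalizer _)
      · rw [Subgroup.le_centralizer_iff]
        exact inf_le_right.trans (centralizer_anti le_sup_right)
  -- the core of (c)
  have hcore : ⁅Cfsg.generalizedFittingSubgroup H, Q⁆ ⊓ F ≤
      ⁅⁅Cfsg.generalizedFittingSubgroup H, Q⁆, ⁅Cfsg.generalizedFittingSubgroup H, Q⁆⁆ := by
    intro z hz
    exact A.mem_commutator_of_central hz.1 (hFL hz.2) (hFQ hz.2)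
  refine ⟨ha, hLL, ?_, ?_, ?_⟩
  · -- (c)
    intro x hx
    have hZc : (⁅Cfsg.generalizedFittingSubgroup H, Q⁆ ⊓ F).subgroupOf
        ⁅Cfsg.generalizedFittingSubgroup H, Q⁆ ≤
        Subgroup.center ↥⁅Cfsg.generalizedFittingSubgroup H, Q⁆ := by
      intro y hy
      rw [Subgroup.mem_center_iff]
      intro g
      apply Subtype.ext
      have hyF : (y : H) ∈ F := (Subgroup.mem_subgroupOf.1 hy).2
      exact (Subgroup.mem_centralizer_iff.1 (hFL hyF)) g g.2
    have hZX : (⁅Cfsg.generalizedFittingSubgroup H, Q⁆ ⊓ F).subgroupOf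
        ⁅Cfsg.generalizedFittingSubgroup H, Q⁆ ≤
        commutator ↥⁅Cfsg.generalizedFittingSubgroup H, Q⁆ := by
      intro y hy
      have h1 := hcore (Subgroup.mem_subgroupOf.1 hy)
      have h2 : (commutator ↥⁅Cfsg.generalizedFittingSubgroup H, Q⁆).map
          (⁅Cfsg.generalizedFittingSubgroup H, Q⁆).subtype =
          ⁅⁅Cfsg.generalizedFittingSubgroup H, Q⁆, ⁅Cfsg.generalizedFittingSubgroup H, Q⁆⁆ := by
        rw [commutator_def, Subgroup.map_commutator, ← MonoidHom.range_eq_map,
          Subgroup.range_subtype]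
      rw [← h2] at h1
      obtain ⟨w, hw, hwy⟩ := h1
      have : w = y := Subtype.ext hwy
      rwa [← this]
    have h3 := le_frattini_of_le_center_of_le_commutator hZc hZX
    exact ⟨⟨x, hx.1⟩, h3 (Subgroup.mem_subgroupOf.2 hx), rfl⟩
  · -- (d)
    intro B hB hBQ hLB
    have hBL : B ≤ Subgroup.normalizer
        ((⁅Cfsg.generalizedFittingSubgroup H, Q⁆ : Subgroup H) : Set H) := by
      apply le_normalizer_commutator_of_le _ hBQ
      rw [Subgroup.normalizer_eq_top]; exact le_top
    have h1 : ⁅⁅Cfsg.generalizedFittingSubgroup H, Q⁆, B⁆ ≤ ⁅Cfsg.generalizedFittingSubgroup H, Q⁆ :=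
      Subgroup.le_normalizer_iff_commutator_le_left.1 hBL
    have h2 : ⁅⁅⁅Cfsg.generalizedFittingSubgroup H, Q⁆, B⁆, ⁅Cfsg.generalizedFittingSubgroup H, Q⁆⁆ = ⊥ :=
      Subgroup.commutator_eq_bot_iff_le_centralizer.2 (hLB.trans hFL)
    have h2' : ⁅⁅B, ⁅Cfsg.generalizedFittingSubgroup H, Q⁆⁆, ⁅Cfsg.generalizedFittingSubgroup H, Q⁆⁆ = ⊥ := by
      rw [Subgroup.commutator_comm B]; exact h2
    have h3 : ⁅⁅⁅Cfsg.generalizedFittingSubgroup H, Q⁆, ⁅Cfsg.generalizedFittingSubgroup H, Q⁆⁆, B⁆ = ⊥ :=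
      Subgroup.commutator_commutator_eq_bot_of_rotate h2 h2'
    have h4 : ⁅⁅Cfsg.generalizedFittingSubgroup H, Q⁆, B⁆ ≤
        ⁅⁅Cfsg.generalizedFittingSubgroup H, Q⁆, ⁅Cfsg.generalizedFittingSubgroup H, Q⁆⁆ :=
      (le_inf h1 hLB).trans hcore
    have h5 : ⁅⁅⁅Cfsg.generalizedFittingSubgroup H, Q⁆, B⁆, B⁆ = ⊥ := by
      rw [eq_bot_iff, ← h3]
      exact Subgroup.commutator_mono h4 le_rfl
    have h6 : sSup (movedSet Q {K : Subgroup H | Cfsg.IsComponent K}) ≤
        Subgroup.centralizer (B : Set H) := by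
      apply Subgroup.commutator_eq_bot_iff_le_centralizer.1
      rw [eq_bot_iff, ← h3]
      exact Subgroup.commutator_mono A.movedSet_le_commutator_self le_rfl
    have hBD : B ≤ Subgroup.normalizer ((⁅Cfsg.fittingSubgroup H, Q⁆ : Subgroup H) : Set H) := by
      apply le_normalizer_commutator_of_le _ hBQ
      rw [Subgroup.normalizer_eq_top]; exact le_top
    have h7 : ⁅Cfsg.fittingSubgroup H, Q⁆ ≤ Subgroup.centralizer (B : Set H) := by
      apply Subgroup.commutator_eq_bot_iff_le_centralizer.1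
      rw [← commutator_commutator_eq_of_coprime hB A.card_commutator_F_coprime hBD, eq_bot_iff,
        ← h5]
      exact Subgroup.commutator_mono
        (Subgroup.commutator_mono (Subgroup.commutator_mono hRle le_rfl) le_rfl) le_rfl
    apply Subgroup.commutator_eq_bot_iff_le_centralizer.2
    rw [hceq]
    exact sup_le h6 h7
  · -- (e)
    obtain ⟨P⟩ : Nonempty (Sylow p ↥(Subgroup.centralizer
      ((F ⊔ ⁅Cfsg.generalizedFittingSubgroup H, Q⁆ : Subgroup H) : Set H))) := inferInstance
    have hXle : (P : Subgroup _).map (Subgroup.centralizer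
        ((F ⊔ ⁅Cfsg.generalizedFittingSubgroup H, Q⁆ : Subgroup H) : Set H)).subtype ≤
        Subgroup.centralizer ((F ⊔ ⁅Cfsg.generalizedFittingSubgroup H, Q⁆ : Subgroup H) : Set H) :=
      Subgroup.map_subtype_le _
    have hX := eq_bot_of_le_centralizer hO hQ ha hF4 (P.2.map _)
      (hXle.trans (centralizer_anti le_sup_left))
      (hXle.trans (centralizer_anti le_sup_right))
    rw [Subgroup.map_eq_bot_iff_of_injective _ (Subgroup.subtype_injective _)] at hX
    have hnd : ¬ p ∣ Nat.card ↥(Subgroup.centralizer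
        ((F ⊔ ⁅Cfsg.generalizedFittingSubgroup H, Q⁆ : Subgroup H) : Set H)) := fun hd =>
      Sylow.ne_bot_of_dvd_card P hd hX
    exact ((Nat.Prime.coprime_iff_not_dvd Fact.out).2 hnd).symm

end Cfsg.Agent.S2817
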