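import Mathlib
import Cfsg.Statements.S2818
import Cfsg.Agent.Lib.Helper72.Frattini

set_option autoImplicit false
open Cfsg

namespace Cfsg.Agent.S2818

open scoped commutatorElement

/-- If [P,H] ≤ Ω₁Z(P) for a p-group P then [Φ(P),H] = 1. -/
theorem result {G : Type*} [Group G] [Finite G] {p : ℕ} [Fact p.Prime] (P : Subgroup G) (hP : IsPGroup p ↥P) (H : Subgroup G) (hH : H ≤ Subgroup.normalizer (P : Set G)) (h : ⁅P, H⁆ ≤ Cfsg.omegaOne p (P ⊓ Subgroup.centralizer (P : Set G))) : ⁅(frattini ↥P).map P.subtype, H⁆ = ⊥ := by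
  set Z := P ⊓ Subgroup.centralizer (P : Set G) with hZ
  have hΩ : ∀ z ∈ Cfsg.omegaOne p Z, z ∈ Z ∧ z ^ p = 1 := by
    intro z hz
    unfold Cfsg.omegaOne at hz
    induction hz using Subgroup.closure_induction with
    | mem x hx => exact hx
    | one => exact ⟨Z.one_mem, one_pow _⟩
    | mul x y _ _ hx hy =>
      refine ⟨Z.mul_mem hx.1 hy.1, ?_⟩
      have hc : Commute x y := (Subgroup.mem_centralizer_iff.mp hy.1.2 x hx.1.1)
      rw [hc.mul_pow, hx.2, hy.2, one_mul]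
    | inv x _ hx => exact ⟨Z.inv_mem hx.1, by rw [inv_pow, hx.2, inv_one]⟩
  let N : Subgroup P := (Subgroup.centralizer (H : Set G)).comap P.subtype
  have key : ∀ x : P, ∀ k ∈ H, ∃ z : G, z ∈ Z ∧ z ^ p = 1 ∧ k * x * k⁻¹ = z * x := by
    intro x k hk
    have hmem : ⁅(x : G), k⁆ ∈ ⁅P, H⁆ := Subgroup.commutator_mem_commutator x.2 hk
    obtain ⟨h1, h2⟩ := hΩ _ (h hmem)
    refine ⟨⁅(x : G), k⁆⁻¹, Z.inv_mem h1, by rw [inv_pow, h2, inv_one], ?_⟩
    rw [commutatorElement_def]; group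
  have hfr : frattini P ≤ N := by
    apply Cfsg.Agent.Lib.Helper72.frattini_le_of_elementary_quotient p N
    · intro x
      rw [Subgroup.mem_comap, Subgroup.mem_centralizer_iff]
      intro k hk
      obtain ⟨z, hzZ, hzp, hz⟩ := key x k hk
      have hcomm : Commute z (x : G) := (Subgroup.mem_centralizer_iff.mp hzZ.2 x x.2).symm
      have e : k * (x : G) ^ p * k⁻¹ = (x : G) ^ p := by
        rw [← conj_pow, hz, hcomm.mul_pow, hzp, one_mul]
      simp only [Subgroup.subtype_apply, Subgroup.coe_pow]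
      exact mul_inv_eq_iff_eq_mul.mp e
    · intro x y
      rw [Subgroup.mem_comap, Subgroup.mem_centralizer_iff]
      intro k hk
      obtain ⟨z, hzZ, hzp, hz⟩ := key x k hk
      obtain ⟨w, hwZ, hwp, hw⟩ := key y k hk
      have czx : Commute z (x : G) := (Subgroup.mem_centralizer_iff.mp hzZ.2 x x.2).symm
      have czy : Commute z (y : G) := (Subgroup.mem_centralizer_iff.mp hzZ.2 y y.2).symm
      have cwx : Commute w (x : G) := (Subgroup.mem_centralizer_iff.mp hwZ.2 x x.2).symm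
      have cwy : Commute w (y : G) := (Subgroup.mem_centralizer_iff.mp hwZ.2 y y.2).symm
      have czw : Commute z w := (Subgroup.mem_centralizer_iff.mp hzZ.2 w hwZ.1).symm
      have e : k * ⁅(x : G), (y : G)⁆ * k⁻¹ = ⁅(x : G), (y : G)⁆ := by
        have e1 : k * ⁅(x : G), (y : G)⁆ * k⁻¹ = ⁅k * x * k⁻¹, k * y * k⁻¹⁆ := by
          simp only [commutatorElement_def]; group
        rw [e1, hz, hw]
        simp only [commutatorElement_def, mul_inv_rev]
        have czx' := czx.inv_left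
        have czy' := czy.inv_left
        have cwx' := cwx.inv_left
        have cwy' := cwy.inv_left
        calc z * ↑x * (w * ↑y) * ((↑x)⁻¹ * z⁻¹) * ((↑y)⁻¹ * w⁻¹)
            = z * (↑x * w) * ↑y * ((↑x)⁻¹ * z⁻¹) * ((↑y)⁻¹ * w⁻¹) := by group
          _ = z * (w * ↑x) * ↑y * ((↑x)⁻¹ * z⁻¹) * ((↑y)⁻¹ * w⁻¹) := by rw [cwx.eq]
          _ = z * w * (↑x * ↑y * (↑x)⁻¹) * (z⁻¹ * (↑y)⁻¹) * w⁻¹ := by group
          _ = z * w * (↑x * ↑y * (↑x)⁻¹) * ((↑y)⁻¹ * z⁻¹) * w⁻¹ := by rw [czy'.inv_right.eq]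
          _ = z * (w * (↑x * ↑y * (↑x)⁻¹ * (↑y)⁻¹)) * z⁻¹ * w⁻¹ := by group
          _ = z * ((↑x * ↑y * (↑x)⁻¹ * (↑y)⁻¹) * w) * z⁻¹ * w⁻¹ := by
              rw [((((cwx.mul_right cwy).mul_right cwx.inv_right).mul_right cwy.inv_right)).eq]
          _ = z * (↑x * ↑y * (↑x)⁻¹ * (↑y)⁻¹) * (w * z⁻¹) * w⁻¹ := by group
          _ = z * (↑x * ↑y * (↑x)⁻¹ * (↑y)⁻¹) * (z⁻¹ * w) * w⁻¹ := by rw [czw.inv_left.eq]
          _ = (z * (↑x * ↑y * (↑x)⁻¹ * (↑y)⁻¹)) * z⁻¹ := by group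
          _ = ((↑x * ↑y * (↑x)⁻¹ * (↑y)⁻¹) * z) * z⁻¹ := by
              rw [((((czx.mul_right czy).mul_right czx.inv_right).mul_right czy.inv_right)).eq]
          _ = ↑x * ↑y * (↑x)⁻¹ * (↑y)⁻¹ := by group
      have : ((⁅x, y⁆ : P) : G) = ⁅(x : G), (y : G)⁆ := by
        simp [commutatorElement_def]
      simp only [Subgroup.subtype_apply]
      rw [this]
      exact mul_inv_eq_iff_eq_mul.mp e
  rw [Subgroup.commutator_eq_bot_iff_le_centralizer]
  rintro _ ⟨x, hx, rfl⟩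
  exact hfr hx

end Cfsg.Agent.S2818
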