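import Cfsg.Statements.S2819
import Cfsg.Agent.Lib.Helper54.FrattiniLib
import Cfsg.Agent.Lib.Helper54.Subnormal
import Cfsg.Agent.Lib.Helper54.Coprime

set_option autoImplicit false
open Cfsg
open scoped commutatorElement

namespace Cfsg.Agent.S2819

open Cfsg.Agent.Lib.Helper54

variable {G : Type*} [Group G]

/-- powers of products modulo the derived subgroup -/
theorem mul_pow_mod_commutator (P : Subgroup G) {a b : G} (ha : a ∈ P) (hb : b ∈ P) (n : ℕ) :
    (a ^ n * b ^ n)⁻¹ * (a * b) ^ n ∈ ⁅P, P⁆ := by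
  rw [← Subgroup.map_subtype_commutator]
  refine ⟨((⟨a, ha⟩ : ↥P) ^ n * (⟨b, hb⟩ : ↥P) ^ n)⁻¹ * ((⟨a, ha⟩ : ↥P) * ⟨b, hb⟩) ^ n, ?_, ?_⟩
  · rw [SetLike.mem_coe, ← Abelianization.ker_of, MonoidHom.mem_ker]
    simp only [map_mul, map_inv, map_pow]
    rw [mul_pow, inv_mul_cancel]
  · simp

/-- the derived subgroup is normalised by the normaliser -/
theorem normalizer_le_normalizer_commutator (P : Subgroup G) :
    Subgroup.normalizer (P : Set G) ≤ Subgroup.normalizer ((⁅P, P⁆ : Subgroup G) : Set G) := by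
  intro g hg
  apply mem_normalizer_of_map_conj_eq
  rw [Subgroup.map_commutator, map_conj_eq_of_mem_normalizer hg]

/-- the preimage in `P` of `Ω₁(P/P')` -/
def omegaMod (p : ℕ) (P : Subgroup G) : Subgroup G where
  carrier := {x | x ∈ P ∧ x ^ p ∈ ⁅P, P⁆}
  one_mem' := ⟨P.one_mem, by simp [Subgroup.one_mem]⟩
  mul_mem' := by
    rintro a b ⟨ha, ha'⟩ ⟨hb, hb'⟩
    refine ⟨P.mul_mem ha hb, ?_⟩
    have h1 := mul_pow_mod_commutator P ha hb p
    have h2 : (a * b) ^ p = (a ^ p * b ^ p) * ((a ^ p * b ^ p)⁻¹ * (a * b) ^ p) := by group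
    rw [h2]
    exact Subgroup.mul_mem _ (Subgroup.mul_mem _ ha' hb') h1
  inv_mem' := by
    rintro a ⟨ha, ha'⟩
    refine ⟨P.inv_mem ha, ?_⟩
    rw [inv_pow]
    exact Subgroup.inv_mem _ ha'

theorem normalizer_le_normalizer_omegaMod (p : ℕ) (P : Subgroup G) :
    Subgroup.normalizer (P : Set G) ≤ Subgroup.normalizer ((omegaMod p P : Subgroup G) : Set G) := by
  apply le_normalizer_of_map_conj_le
  rintro g hg _ ⟨x, ⟨hx, hx'⟩, rfl⟩
  refine ⟨?_, ?_⟩
  · exact (Subgroup.mem_normalizer_iff.1 hg x).1 hx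
  · have h1 : ((MulAut.conj g).toMonoidHom x) ^ p = g * x ^ p * g⁻¹ := by
      simp [conj_pow]
    rw [h1]
    exact (Subgroup.mem_normalizer_iff.1 (normalizer_le_normalizer_commutator P hg) _).1 hx'

/-- the elements acting trivially on `V` modulo `N` -/
def commStab (V N : Subgroup G) : Subgroup G where
  carrier := {l | l ∈ Subgroup.normalizer (N : Set G) ∧ ∀ v ∈ V, ⁅v, l⁆ ∈ N}
  one_mem' := ⟨Subgroup.one_mem _, fun v _ => by simp [commutatorElement_def]⟩
  mul_mem' := by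
    rintro a b ⟨ha1, ha2⟩ ⟨hb1, hb2⟩
    refine ⟨Subgroup.mul_mem _ ha1 hb1, fun v hv => ?_⟩
    have h1 : ⁅v, a * b⁆ = ⁅v, a⁆ * (a * ⁅v, b⁆ * a⁻¹) := by
      simp [commutatorElement_def, mul_assoc]
    rw [h1]
    exact Subgroup.mul_mem _ (ha2 v hv)
      ((Subgroup.mem_normalizer_iff.1 ha1 _).1 (hb2 v hv))
  inv_mem' := by
    rintro a ⟨ha1, ha2⟩
    refine ⟨Subgroup.inv_mem _ ha1, fun v hv => ?_⟩
    have h1 : ⁅v, a⁻¹⁆ = a⁻¹ * (⁅v, a⁆)⁻¹ * a⁻¹⁻¹ := by
      simp [commutatorElement_def, mul_assoc]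
    rw [h1]
    exact (Subgroup.mem_normalizer_iff.1 (Subgroup.inv_mem _ ha1) _).1
      (Subgroup.inv_mem _ (ha2 v hv))

theorem normalizer_inf_le_normalizer_commStab (V N : Subgroup G) :
    Subgroup.normalizer (V : Set G) ⊓ Subgroup.normalizer (N : Set G) ≤
      Subgroup.normalizer ((commStab V N : Subgroup G) : Set G) := by
  apply le_normalizer_of_map_conj_le
  rintro g ⟨hgV, hgN⟩ _ ⟨l, ⟨hl1, hl2⟩, rfl⟩
  refine ⟨?_, ?_⟩
  · exact Subgroup.mul_mem _ (Subgroup.mul_mem _ hgN hl1) (Subgroup.inv_mem _ hgN)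
  · intro v hv
    have h1 : ⁅v, (MulAut.conj g).toMonoidHom l⁆ = g * ⁅g⁻¹ * v * g⁻¹⁻¹, l⁆ * g⁻¹ := by
      simp [commutatorElement_def, mul_assoc]
    rw [h1]
    refine (Subgroup.mem_normalizer_iff.1 hgN _).1 (hl2 _ ?_)
    exact (Subgroup.mem_normalizer_iff.1 (Subgroup.inv_mem _ hgV) v).1 hv

theorem normalizer_le_normalizer_centralizer (K : Subgroup G) :
    Subgroup.normalizer (K : Set G) ≤
      Subgroup.normalizer ((Subgroup.centralizer (K : Set G) : Subgroup G) : Set G) := by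
  apply le_normalizer_of_map_conj_le
  rintro g hg _ ⟨c, hc, rfl⟩
  rw [Subgroup.mem_centralizer_iff]
  intro k hk
  have h1 : g⁻¹ * k * g⁻¹⁻¹ ∈ K :=
    (Subgroup.mem_normalizer_iff.1 (Subgroup.inv_mem _ hg) k).1 hk
  have h2 := (Subgroup.mem_centralizer_iff.1 hc) _ h1
  have h3 : k * (MulAut.conj g).toMonoidHom c = g * ((g⁻¹ * k * g⁻¹⁻¹) * c) * g⁻¹ := by
    simp [mul_assoc]
  have h4 : (MulAut.conj g).toMonoidHom c * k = g * (c * (g⁻¹ * k * g⁻¹⁻¹)) * g⁻¹ := by
    simp [mul_assoc]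
  rw [h3, h4, h2]

/-- the normal closure of `Y` in `H` lies in every subgroup containing `Y` normalised by `H` -/
theorem normalClosure_map_le {H Y C : Subgroup G} (hYC : Y ≤ C)
    (hHC : H ≤ Subgroup.normalizer (C : Set G)) :
    (Subgroup.normalClosure ((Y.subgroupOf H : Subgroup ↥H) : Set ↥H)).map H.subtype ≤ C := by
  haveI : (C.subgroupOf H).Normal := Subgroup.normal_subgroupOf_of_le_normalizer hHC
  have h1 : Subgroup.normalClosure ((Y.subgroupOf H : Subgroup ↥H) : Set ↥H) ≤ C.subgroupOf H := by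
    apply Subgroup.normalClosure_le_normal
    intro y hy
    exact Subgroup.mem_subgroupOf.2 (hYC (Subgroup.mem_subgroupOf.1 hy))
  refine (Subgroup.map_mono h1).trans ?_
  rw [Subgroup.subgroupOf_map_subtype]
  exact inf_le_left

/-- Let P be a finite p-subgroup of a group G, H a subgroup of N_G(P), and Y a subgroup of H centralizing the derived subgroup P' such that [P, Y] is elementary abelian. Then O^p(⟨Y^H⟩), the subgroup of the normal closure of Y in H generated by its elements of order prime to p, centralizes the Frattini subgroup of P. -/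
theorem result {G : Type*} [Group G] [Finite G] {p : ℕ} [Fact p.Prime] (P : Subgroup G) (hP : IsPGroup p ↥P) (H : Subgroup G) (hH : H ≤ Subgroup.normalizer (P : Set G)) (Y : Subgroup G) (hYH : Y ≤ H) (hYc : Y ≤ Subgroup.centralizer ((⁅P, P⁆ : Subgroup G) : Set G)) (hel : Cfsg.IsElementaryAbelian p ⁅P, Y⁆) (NY : Subgroup G) (hNY : NY = (Subgroup.normalClosure ((Y.subgroupOf H : Subgroup ↥H) : Set ↥H)).map H.subtype) : (Cfsg.pResidual p ↥NY).map NY.subtype ≤ Subgroup.centralizer (((frattini ↥P).map P.subtype : Subgroup G) : Set G) := by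
  set P' := ⁅P, P⁆ with hP'
  have hPY : ⁅P, Y⁆ ≤ P := Subgroup.le_normalizer_iff_commutator_le_left.1 (hYH.trans hH)
  -- NY centralises P'
  have h1 : NY ≤ Subgroup.centralizer (P' : Set G) := by
    rw [hNY]
    exact normalClosure_map_le hYc
      (hH.trans ((normalizer_le_normalizer_commutator P).trans
        (normalizer_le_normalizer_centralizer P')))
  -- NY acts trivially on P modulo omegaMod
  have h2 : NY ≤ commStab P (omegaMod p P) := by
    rw [hNY]
    apply normalClosure_map_le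
    · intro y hy
      refine ⟨normalizer_le_normalizer_omegaMod p P (hH (hYH hy)), ?_⟩
      intro x hx
      have hc : ⁅x, y⁆ ∈ ⁅P, Y⁆ := Subgroup.commutator_mem_commutator hx hy
      refine ⟨hPY hc, ?_⟩
      rw [hel.2 _ hc]
      exact Subgroup.one_mem _
    · refine hH.trans (le_trans (le_inf le_rfl (normalizer_le_normalizer_omegaMod p P))
        (normalizer_inf_le_normalizer_commStab P (omegaMod p P)))
  have hNYP : NY ≤ Subgroup.normalizer (P : Set G) := by
    rw [hNY]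
    exact (Subgroup.map_subtype_le _).trans hH
  rw [map_pResidual_subtype, Subgroup.closure_le]
  rintro q ⟨hq, hqc⟩
  have hqP' := h1 hq
  have hqN := hNYP hq
  obtain ⟨_, hq2⟩ := h2 hq
  -- the subgroup of ↥P on which q acts trivially modulo P'
  let Nq : Subgroup ↥P :=
    { carrier := {z | ⁅(z : G), q⁆ ∈ P'}
      one_mem' := by simp [commutatorElement_def, Subgroup.one_mem]
      mul_mem' := by
        intro z w hz hw
        have e : ⁅((z * w : ↥P) : G), q⁆ = (z : G) * ⁅(w : G), q⁆ * (z : G)⁻¹ * ⁅(z : G), q⁆ := by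
          simp [commutatorElement_def, mul_assoc]
        show ⁅((z * w : ↥P) : G), q⁆ ∈ P'
        rw [e]
        refine Subgroup.mul_mem _ ?_ hz
        exact (Subgroup.mem_normalizer_iff.1
          (normalizer_le_normalizer_commutator P (Subgroup.le_normalizer z.2)) _).1 hw
      inv_mem' := by
        intro z hz
        have e : ⁅((z⁻¹ : ↥P) : G), q⁆ = (z : G)⁻¹ * (⁅(z : G), q⁆)⁻¹ * (z : G)⁻¹⁻¹ := by
          simp [commutatorElement_def, mul_assoc]
        show ⁅((z⁻¹ : ↥P) : G), q⁆ ∈ P'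
        rw [e]
        exact (Subgroup.mem_normalizer_iff.1
          (normalizer_le_normalizer_commutator P (Subgroup.le_normalizer (P.inv_mem z.2))) _).1
            (Subgroup.inv_mem _ hz) }
  have hNq1 : commutator ↥P ≤ Nq := by
    intro z hz
    have hzP' : (z : G) ∈ P' := by
      rw [hP', ← Subgroup.map_subtype_commutator]
      exact ⟨z, hz, rfl⟩
    show ⁅(z : G), q⁆ ∈ P'
    have : ⁅(z : G), q⁆ = 1 := by
      rw [commutatorElement_eq_one_iff_commute]
      exact ((Subgroup.mem_centralizer_iff.1 hqP') _ hzP')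
    rw [this]; exact Subgroup.one_mem _
  have hNq2 : ∀ z : ↥P, z ^ p ∈ Nq := by
    intro z
    show ⁅((z ^ p : ↥P) : G), q⁆ ∈ P'
    have haP : (z : G) ∈ P := z.2
    have hbP : q * (z : G)⁻¹ * q⁻¹ ∈ P :=
      (Subgroup.mem_normalizer_iff.1 hqN _).1 (P.inv_mem z.2)
    have hab : ⁅(z : G), q⁆ = (z : G) * (q * (z : G)⁻¹ * q⁻¹) := by
      simp [commutatorElement_def, mul_assoc]
    have e : ⁅((z ^ p : ↥P) : G), q⁆ = (z : G) ^ p * (q * (z : G)⁻¹ * q⁻¹) ^ p := by
      rw [conj_pow]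
      simp [commutatorElement_def, mul_assoc]
    rw [e]
    have h3 := mul_pow_mod_commutator P haP hbP p
    have h4 : ((z : G) * (q * (z : G)⁻¹ * q⁻¹)) ^ p ∈ P' := by
      rw [← hab]; exact (hq2 _ haP).2
    have h5 : ∀ a b : G, a ^ p * b ^ p = (a * b) ^ p * ((a ^ p * b ^ p)⁻¹ * (a * b) ^ p)⁻¹ := by
      intro a b; group
    rw [h5]
    exact Subgroup.mul_mem _ h4 (Subgroup.inv_mem _ h3)
  have hfr : frattini ↥P ≤ Nq := frattini_le_of_commutator_le_of_pow_mem Nq hNq1 hNq2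
  rw [SetLike.mem_coe, Subgroup.mem_centralizer_iff]
  rintro _ ⟨z, hz, rfl⟩
  have hc : ⁅(z : G), q⁆ ∈ P' := hfr hz
  have hc1 : ⁅(z : G), q⁆ = 1 := by
    apply commutatorElement_eq_one_of_coprime (p := p) _ _ _ _ hqc
    · exact ((Subgroup.mem_centralizer_iff.1 hqP') _ hc)
    · have hcP : ⁅(z : G), q⁆ ∈ P := (Subgroup.commutator_le_self P) hc
      obtain ⟨k, hk⟩ := hP ⟨_, hcP⟩
      exact ⟨k, by simpa using congrArg Subtype.val hk⟩
  rw [commutatorElement_eq_one_iff_commute] at hc1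
  exact hc1.eq

end Cfsg.Agent.S2819
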