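import Cfsg.Statements.S2823
import Cfsg.Agent.Lib.Helper54.Trace

set_option autoImplicit false
open Cfsg
open Cfsg.Agent.Lib.Helper54

namespace Cfsg.Agent.S2823

/-- Let H be a finite group, p a prime, T a Sylow p-subgroup and L a subgroup of characteristic p containing T; let Z_L be the subgroup generated by the Ω₁(Z(S)) over the Sylow p-subgroups S of L and O^p(L) the subgroup generated by the elements of L of order prime to p. Then Z_L = Ω₁(Z(L))·[Z_L, O^p(L)] and [Z_L, L] = [Z_L, O^p(L)]. -/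
theorem result {H : Type*} [Group H] [Finite H] {p : ℕ} [Fact p.Prime] (T : Sylow p H) (L : Subgroup H) (hTL : (T : Subgroup H) ≤ L) (hL : Subgroup.centralizer (Cfsg.pCore p ↥L : Set ↥L) ≤ Cfsg.pCore p ↥L) : Cfsg.sylowCenterClosure p L = (Cfsg.omegaOne p (L ⊓ Subgroup.centralizer ((L : Subgroup H) : Set H))) ⊔ ⁅Cfsg.sylowCenterClosure p L, (Cfsg.pResidual p ↥L).map L.subtype⁆ ∧ ⁅Cfsg.sylowCenterClosure p L, L⁆ = ⁅Cfsg.sylowCenterClosure p L, (Cfsg.pResidual p ↥L).map L.subtype⁆ := by
  have hLtop : (⊤ : Subgroup ↥L).map L.subtype = L := by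
    rw [← MonoidHom.range_eq_map, Subgroup.range_subtype]
  have h1 := centerClosure_eq_sup (M := ↥L) (p := p) hL
  have h2 := centerClosure_commutator_top (M := ↥L) (p := p)
  have h3 := center_map_subtype L (⊤ : Subgroup ↥L)
  rw [hLtop] at h3
  constructor
  · rw [sylowCenterClosure_eq, ← Subgroup.map_commutator, ← h3, ← omegaOne_map_subtype,
      ← Subgroup.map_sup, ← h1]
  · rw [sylowCenterClosure_eq, ← Subgroup.map_commutator]
    have h4 : ⁅(centerClosure p ↥L).map L.subtype, L⁆ =
        ⁅(centerClosure p ↥L).map L.subtype, (⊤ : Subgroup ↥L).map L.subtype⁆ := by rw [hLtop]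
    rw [h4, ← Subgroup.map_commutator, h2]

end Cfsg.Agent.S2823
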