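import Cfsg.Statements.S2824
import Cfsg.Agent.Lib.Helper54.PRedAmbient

set_option autoImplicit false
open Cfsg
open Cfsg.Agent.Lib.Helper54

namespace Cfsg.Agent.S2824

theorem aux {H : Type*} [Group H] [Finite H] {p : ℕ} [Fact p.Prime] (T : Sylow p H)
    (L M Y : Subgroup H) (hTL : (T : Subgroup H) ≤ L) (hTM : (T : Subgroup H) ≤ M)
    (hL : Subgroup.centralizer (pCore p ↥L : Set ↥L) ≤ pCore p ↥L)
    (hYdef : Y = largestPReducedOf p L)
    (hfac : M ⊔ Subgroup.centralizer (Y : Set H) = L ⊔ Subgroup.centralizer (Y : Set H)) :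
    largestPReducedOf p (M ⊓ Subgroup.normalizer
      (((T : Subgroup H) ⊓ Subgroup.centralizer (Y : Set H) : Subgroup H) : Set H)) = Y ∧
    L ⊔ Subgroup.centralizer (Y : Set H) =
      (M ⊓ Subgroup.normalizer
        (((T : Subgroup H) ⊓ Subgroup.centralizer (Y : Set H) : Subgroup H) : Set H)) ⊔
        Subgroup.centralizer (Y : Set H) := by
  have hYL : Y ≤ L := by rw [hYdef]; exact largestPReducedOf_le_self p L
  have hYred : IsPReducedNormal p (Y.subgroupOf L) := by
    rw [hYdef]; exact isPReducedNormal_largestPReducedOf L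
  have hO_C : pCoreOf p L ≤ Subgroup.centralizer (Y : Set H) := by
    rw [hYdef]; exact pCoreOf_le_centralizer_largestPReducedOf L
  have hYO : Y ≤ pCoreOf p L := by
    rw [hYdef]; exact ((largestPReducedOf_le L).trans (omegaOne_le p _)).trans inf_le_left
  have hYmax : ∀ V : Subgroup H, V ≤ L → IsPReducedNormal p (V.subgroupOf L) → V ≤ Y := by
    intro V hVL hV; rw [hYdef]; exact le_largestPReducedOf hVL hV
  obtain ⟨hLY, hYel, _⟩ := (isPReducedNormal_subgroupOf_iff hYL).1 hYred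
  obtain ⟨C, hCdef⟩ : ∃ C : Subgroup H, C = Subgroup.centralizer (Y : Set H) := ⟨_, rfl⟩
  rw [← hCdef] at hfac hO_C ⊢
  have hLC : L ≤ Subgroup.normalizer (C : Set H) := by
    rw [hCdef]; exact hLY.trans (normalizer_le_normalizer_centralizer' Y)
  have hCY : C ≤ Subgroup.normalizer (Y : Set H) := by
    rw [hCdef]; exact Subgroup.centralizer_le_normalizer _
  have hOT : pCoreOf p L ≤ (T : Subgroup H) := pCoreOf_le_sylow L T hTL
  have hYT : Y ≤ (T : Subgroup H) := hYO.trans hOT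
  have hYC : Y ≤ C := by
    rw [hCdef]
    intro y hy
    rw [Subgroup.mem_centralizer_iff]
    intro z hz
    haveI := hYel.1
    exact congrArg Subtype.val (mul_comm' (⟨z, hz⟩ : ↥Y) ⟨y, hy⟩)
  have hYT₀ : Y ≤ (T : Subgroup H) ⊓ C := le_inf hYT hYC
  have hMle : M ≤ L ⊔ C := hfac ▸ le_sup_left
  have hLCn : L ⊔ C ≤ Subgroup.normalizer (C : Set H) := sup_le hLC Subgroup.le_normalizer
  have hLCY : L ⊔ C ≤ Subgroup.normalizer (Y : Set H) := sup_le hLY hCY
  have hMC : M ≤ Subgroup.normalizer (C : Set H) := hMle.trans hLCn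
  have hMY : M ≤ Subgroup.normalizer (Y : Set H) := hMle.trans hLCY
  have hTT₀ : (T : Subgroup H) ≤ Subgroup.normalizer (((T : Subgroup H) ⊓ C : Subgroup H) : Set H) :=
    le_normalizer_inf Subgroup.le_normalizer (hTL.trans hLC)
  obtain ⟨Ls, hLsdef⟩ : ∃ Ls : Subgroup H, Ls = M ⊓ Subgroup.normalizer
      (((T : Subgroup H) ⊓ C : Subgroup H) : Set H) := ⟨_, rfl⟩
  rw [← hLsdef]
  have hLsM : Ls ≤ M := by rw [hLsdef]; exact inf_le_left
  have hLsN : Ls ≤ Subgroup.normalizer (((T : Subgroup H) ⊓ C : Subgroup H) : Set H) := by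
    rw [hLsdef]; exact inf_le_right
  have hT₀Ls : (T : Subgroup H) ⊓ C ≤ Ls := by
    rw [hLsdef]; exact le_inf (inf_le_left.trans hTM) Subgroup.le_normalizer
  have hTLs : (T : Subgroup H) ≤ Ls := by rw [hLsdef]; exact le_inf hTM hTT₀
  -- Frattini argument inside M
  have hfrat : M ≤ Ls ⊔ (M ⊓ C) := by
    haveI hCMn : (C.subgroupOf M).Normal := Subgroup.normal_subgroupOf_of_le_normalizer hMC
    have h1 := normalizer_inf_sup_eq_top (T.subtype hTM) (C.subgroupOf M)
    rw [sylow_subtype_coe] at h1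
    have h2 : (T : Subgroup H).subgroupOf M ⊓ C.subgroupOf M = ((T : Subgroup H) ⊓ C).subgroupOf M :=
      (Subgroup.comap_inf _ _ _).symm
    rw [h2, ← Subgroup.subgroupOf_normalizer_eq (inf_le_left.trans hTM)] at h1
    intro m hm
    have h3 : (⟨m, hm⟩ : ↥M) ∈ (Subgroup.normalizer
        (((T : Subgroup H) ⊓ C : Subgroup H) : Set H)).subgroupOf M ⊔ C.subgroupOf M := by
      rw [h1]; exact Subgroup.mem_top _
    obtain ⟨a, ha, b, hb, hab⟩ := exists_mul_of_mem_sup_of_le_normalizer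
      (A := C.subgroupOf M) (B := (Subgroup.normalizer
        (((T : Subgroup H) ⊓ C : Subgroup H) : Set H)).subgroupOf M)
      (le_of_le_of_eq le_top (Subgroup.normalizer_eq_top (H := C.subgroupOf M)).symm)
      (by rw [sup_comm]; exact h3)
    have h4 : m = (a : H) * (b : H) := by
      have := congrArg Subtype.val hab
      simpa using this
    rw [h4]
    apply Subgroup.mul_mem
    · exact Subgroup.mem_sup_right (Subgroup.mem_inf.2 ⟨a.2, Subgroup.mem_subgroupOf.1 ha⟩)
    · apply Subgroup.mem_sup_left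
      rw [hLsdef]
      exact Subgroup.mem_inf.2 ⟨b.2, Subgroup.mem_subgroupOf.1 hb⟩
  have hclaim2 : L ⊔ C = Ls ⊔ C := by
    rw [← hfac]
    apply le_antisymm
    · exact sup_le (hfrat.trans (sup_le le_sup_left (inf_le_right.trans le_sup_right)))
        le_sup_right
    · exact sup_le_sup_right hLsM _
  have hYLs : Y ≤ Ls := hYT₀.trans hT₀Ls
  have hLsLC : Ls ≤ L ⊔ C := hLsM.trans hMle
  have hLle : L ≤ Ls ⊔ C := hclaim2 ▸ le_sup_left
  -- Y is p-reduced in Ls
  have hYredLs : IsPReducedNormal p (Y.subgroupOf Ls) := by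
    rw [isPReducedNormal_subgroupOf_iff hYLs]
    refine ⟨hLsM.trans hMY, hYel, ?_⟩
    rw [← hCdef]
    intro D hDLs hLsD hCD hpow
    have hDC' : D ≤ Subgroup.normalizer (C : Set H) := hDLs.trans (hLsM.trans hMC)
    have h1 : (D ⊔ C) ⊓ L ≤ C := by
      rw [hCdef]
      apply le_centralizer_of_pow_mem hYL hYred inf_le_right
      · rw [← hCdef]
        apply le_normalizer_inf _ Subgroup.le_normalizer
        refine hLle.trans ?_
        apply sup_le
        · exact le_normalizer_sup hLsD (hLsM.trans hMC)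
        · exact le_sup_right.trans Subgroup.le_normalizer
      · rw [← hCdef]
        intro x hx
        exact exists_pow_mem_of_mem_sup (D := D) (X := C) (C := C) hDC' le_rfl hDC' hpow x
          (Subgroup.mem_inf.1 hx).1
    intro d hd
    have hdLC : d ∈ C ⊔ L := by rw [sup_comm]; exact hLsLC (hDLs hd)
    obtain ⟨c, hc, l, hl, rfl⟩ := exists_mul_of_mem_sup_of_le_normalizer (A := C) (B := L) hLC hdLC
    have hl' : l ∈ (D ⊔ C) ⊓ L := by
      refine Subgroup.mem_inf.2 ⟨?_, hl⟩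
      have e : l = c⁻¹ * (c * l) := by group
      rw [e]
      exact Subgroup.mul_mem _ (Subgroup.mem_sup_right (C.inv_mem hc)) (Subgroup.mem_sup_left hd)
    exact C.mul_mem hc (h1 hl')
  have hge : Y ≤ largestPReducedOf p Ls := le_largestPReducedOf hYLs hYredLs
  refine ⟨?_, hclaim2⟩
  -- the other inclusion
  obtain ⟨Ys, hYsdef⟩ : ∃ Ys : Subgroup H, Ys = largestPReducedOf p Ls := ⟨_, rfl⟩
  rw [← hYsdef] at hge ⊢
  have hT₀O : (T : Subgroup H) ⊓ C ≤ pCoreOf p Ls :=
    le_pCoreOf hT₀Ls hLsN (T.isPGroup'.to_le inf_le_left)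
  have hYsCT₀ : (T : Subgroup H) ⊓ C ≤ Subgroup.centralizer (Ys : Set H) := by
    rw [hYsdef]; exact hT₀O.trans (pCoreOf_le_centralizer_largestPReducedOf Ls)
  have hYsO : Ys ≤ pCoreOf p Ls := by
    rw [hYsdef]; exact ((largestPReducedOf_le Ls).trans (omegaOne_le p _)).trans inf_le_left
  have hYsT : Ys ≤ (T : Subgroup H) := hYsO.trans (pCoreOf_le_sylow Ls T hTLs)
  have hYsp : ∀ y ∈ Ys, y ^ p = 1 := by
    intro y hy
    have h1 : y ∈ omegaOne p (pCoreOf p Ls ⊓
        Subgroup.centralizer ((pCoreOf p Ls : Subgroup H) : Set H)) := by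
      rw [hYsdef] at hy; exact largestPReducedOf_le Ls hy
    exact pow_eq_one_of_mem_omegaOne (center_comm _) h1
  have hOT₀ : pCoreOf p L ≤ (T : Subgroup H) ⊓ C := le_inf hOT hO_C
  have hYsCO : Ys ≤ Subgroup.centralizer ((pCoreOf p L : Subgroup H) : Set H) := by
    rw [Subgroup.le_centralizer_iff]; exact hOT₀.trans hYsCT₀
  have hYsOL : Ys ≤ pCoreOf p L :=
    (le_inf (hYsT.trans hTL) hYsCO).trans (inf_centralizer_pCoreOf_le hL)
  -- the normal closure of Ys in L
  obtain ⟨V, hVdef⟩ : ∃ V : Subgroup H, V = ⨆ l : ↥L, Ys.map (MulAut.conj (l : H)).toMonoidHom :=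
    ⟨_, rfl⟩
  have hZn : L ≤ Subgroup.normalizer ((pCoreOf p L ⊓
      Subgroup.centralizer ((pCoreOf p L : Subgroup H) : Set H) : Subgroup H) : Set H) :=
    le_normalizer_inf (le_normalizer_pCoreOf p L)
      ((le_normalizer_pCoreOf p L).trans (normalizer_le_normalizer_centralizer' _))
  have hVle : V ≤ omegaOne p (pCoreOf p L ⊓
      Subgroup.centralizer ((pCoreOf p L : Subgroup H) : Set H)) := by
    rw [hVdef]
    apply iSup_le
    rintro l _ ⟨y, hy, rfl⟩
    apply mem_omegaOne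
    · exact (Subgroup.mem_normalizer_iff.1 (hZn l.2) y).1
        (Subgroup.mem_inf.2 ⟨hYsOL hy, hYsCO hy⟩)
    · simp only [MulEquiv.coe_toMonoidHom, MulAut.conj_apply]
      rw [conj_pow, hYsp y hy]; simp
  have hVel : IsElementaryAbelian p V :=
    isElementaryAbelian_of_le (isElementaryAbelian_omegaOne_center p _) hVle
  have hVL : V ≤ L :=
    hVle.trans ((omegaOne_le p _).trans (inf_le_left.trans (pCoreOf_le p L)))
  have hLV : L ≤ Subgroup.normalizer (V : Set H) := by
    intro l hl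
    rw [hVdef]
    apply mem_normalizer_iSup
    · intro k
      exact ⟨⟨l, hl⟩ * k, by rw [← map_conj_mul]; rfl⟩
    · intro k
      exact ⟨⟨l, hl⟩⁻¹ * k, by rw [← map_conj_mul]; rfl⟩
  have hYsV : Ys ≤ V := by
    have h1 := le_iSup (fun l : ↥L => Ys.map (MulAut.conj (l : H)).toMonoidHom) (1 : ↥L)
    have e : Ys.map (MulAut.conj (((1 : ↥L) : H))).toMonoidHom = Ys := by
      rw [Subgroup.coe_one, map_conj_one]
    simp only [e] at h1
    rw [hVdef]; exact h1
  have hYV : Y ≤ V := hge.trans hYsV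
  have hCV : Subgroup.centralizer (V : Set H) ≤ C := by
    rw [hCdef]; exact Subgroup.centralizer_le hYV
  have hVred : IsPReducedNormal p (V.subgroupOf L) := by
    rw [isPReducedNormal_subgroupOf_iff hVL]
    refine ⟨hLV, hVel, ?_⟩
    intro D hDL hLD hCD hpow
    have hDC : D ≤ C := by
      rw [hCdef]
      apply le_centralizer_of_pow_mem hYL hYred hDL hLD
      intro d hd
      obtain ⟨k, hk⟩ := hpow d hd
      exact ⟨k, by rw [← hCdef]; exact hCV hk⟩
    have hdec := exists_mul_of_pow_mem T (D := D)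
      (N := L ⊓ Subgroup.centralizer (V : Set H)) (hTL.trans hLD) hCD
      (hDL.trans (le_normalizer_inf Subgroup.le_normalizer
        (hLV.trans (normalizer_le_normalizer_centralizer' V))))
      (fun d hd => by
        obtain ⟨k, hk⟩ := hpow d hd
        exact ⟨k, Subgroup.mem_inf.2 ⟨L.pow_mem (hDL hd) _, hk⟩⟩)
    have hDYs : D ≤ Subgroup.centralizer (Ys : Set H) := by
      intro d hd
      obtain ⟨n, hn, t, ht, rfl⟩ := hdec d hd
      apply Subgroup.mul_mem
      · exact Subgroup.centralizer_le hYsV (Subgroup.mem_inf.1 hn).2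
      · exact hYsCT₀ (Subgroup.mem_inf.2 ⟨(Subgroup.mem_inf.1 ht).1, hDC (Subgroup.mem_inf.1 ht).2⟩)
    rw [Subgroup.le_centralizer_iff, hVdef]
    apply iSup_le
    rintro l _ ⟨y, hy, rfl⟩
    rw [Subgroup.mem_centralizer_iff]
    intro d hd
    have h1 : (l : H)⁻¹ * d * (l : H)⁻¹⁻¹ ∈ D :=
      (Subgroup.mem_normalizer_iff.1 (Subgroup.inv_mem _ (hLD l.2)) d).1 hd
    have h2 := (Subgroup.mem_centralizer_iff.1 (hDYs h1)) y hy
    simp only [MulEquiv.coe_toMonoidHom, MulAut.conj_apply]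
    calc d * ((l : H) * y * (l : H)⁻¹)
        = (l : H) * (((l : H)⁻¹ * d * (l : H)⁻¹⁻¹) * y) * (l : H)⁻¹ := by group
      _ = (l : H) * (y * ((l : H)⁻¹ * d * (l : H)⁻¹⁻¹)) * (l : H)⁻¹ := by rw [h2]
      _ = (l : H) * y * (l : H)⁻¹ * d := by group
  exact le_antisymm (hYsV.trans (hYmax V hVL hVred)) hge

/-- Let H be a finite group, p a prime, T a Sylow p-subgroup, L and M subgroups of characteristic p containing T, Y_L the largest p-reduced normal subgroup of L and T₀ = C_T(Y_L). If M·C_H(Y_L) = L·C_H(Y_L), then L* := N_M(T₀) has Y_{L*} = Y_L and L·C_H(Y_L) = L*·C_H(Y_L). -/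
theorem result {H : Type*} [Group H] [Finite H] {p : ℕ} [Fact p.Prime] (T : Sylow p H) (L M : Subgroup H) (hTL : (T : Subgroup H) ≤ L) (hTM : (T : Subgroup H) ≤ M) (hL : Subgroup.centralizer (Cfsg.pCore p ↥L : Set ↥L) ≤ Cfsg.pCore p ↥L) (hM : Subgroup.centralizer (Cfsg.pCore p ↥M : Set ↥M) ≤ Cfsg.pCore p ↥M) (T₀ : Subgroup H) (hT₀ : T₀ = (T : Subgroup H) ⊓ Subgroup.centralizer (((Cfsg.largestPReducedOf p L) : Subgroup H) : Set H)) (hfac : M ⊔ Subgroup.centralizer (((Cfsg.largestPReducedOf p L) : Subgroup H) : Set H) = L ⊔ Subgroup.centralizer (((Cfsg.largestPReducedOf p L) : Subgroup H) : Set H)) (Ls : Subgroup H) (hLs : Ls = M ⊓ Subgroup.normalizer ((T₀ : Subgroup H) : Set H)) : (Cfsg.largestPReducedOf p Ls) = (Cfsg.largestPReducedOf p L) ∧ L ⊔ Subgroup.centralizer (((Cfsg.largestPReducedOf p L) : Subgroup H) : Set H) = Ls ⊔ Subgroup.centralizer (((Cfsg.largestPReducedOf p L) : Subgroup H) : Set H) := by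
  subst hT₀
  subst hLs
  exact aux T L M _ hTL hTM hL rfl hfac

end Cfsg.Agent.S2824
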