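import Cfsg.Statements.S2825
import Cfsg.Agent.Lib.Helper54.PRedSubnormal3

set_option autoImplicit false
open Cfsg
open Cfsg.Agent.Lib.Helper54

namespace Cfsg.Agent.S2825

theorem aux {H : Type*} [Group H] [Finite H] {p : ℕ} [Fact p.Prime] (L : Subgroup H)
    (hL : L.IsSubnormal) :
    IsPReducedNormal p ((largestPReducedOf p (⊤ : Subgroup H) ⊓ L).subgroupOf L) ∧
    L ⊓ Subgroup.centralizer ((largestPReducedOf p (⊤ : Subgroup H) ⊓ L : Subgroup H) : Set H) ≤
      Subgroup.centralizer ((largestPReducedOf p (⊤ : Subgroup H) : Subgroup H) : Set H) ∧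
    L ⊓ Subgroup.centralizer ((largestPReducedOf p (⊤ : Subgroup H) : Subgroup H) : Set H) ≤
      Subgroup.centralizer ((largestPReducedOf p L : Subgroup H) : Set H) := by
  induction hL with
  | top =>
    refine ⟨?_, ?_, inf_le_right⟩
    · rw [inf_top_eq]; exact isPReducedNormal_largestPReducedOf ⊤
    · rw [inf_top_eq]; exact inf_le_right
  | step L K hLK hK hN ih =>
    obtain ⟨ih1, ih2, ih3⟩ := ih
    have hKL : K ≤ Subgroup.normalizer (L : Set H) :=
      (Subgroup.normal_subgroupOf_iff_le_normalizer hLK).1 hN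
    have e : (largestPReducedOf p (⊤ : Subgroup H) ⊓ K) ⊓ L =
        largestPReducedOf p (⊤ : Subgroup H) ⊓ L := by
      rw [inf_assoc, inf_eq_right.2 hLK]
    refine ⟨?_, ?_, ?_⟩
    · have := isPReducedNormal_inf_of_normal (V := largestPReducedOf p (⊤ : Subgroup H) ⊓ K)
        inf_le_right ih1 hLK hKL
      rwa [e] at this
    · have h1 := inf_centralizer_inf_le_of_normal
        (V := largestPReducedOf p (⊤ : Subgroup H) ⊓ K) inf_le_right ih1 hLK hKL
      rw [e] at h1
      exact (le_inf (inf_le_left.trans hLK) h1).trans ih2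
    · have h1 : L ⊓ Subgroup.centralizer
          ((largestPReducedOf p (⊤ : Subgroup H) : Subgroup H) : Set H) ≤
          L ⊓ Subgroup.centralizer ((largestPReducedOf p K : Subgroup H) : Set H) :=
        le_inf inf_le_left ((inf_le_inf_right _ hLK).trans ih3)
      exact h1.trans (inf_centralizer_largestPReducedOf_le hLK hKL)

/-- Let L be a subnormal subgroup of the finite group H, p a prime, Y_H and Y_L the largest p-reduced normal subgroups. Then Y_H ∩ L = Y_H ∩ Y_L and this subgroup is a p-reduced normal subgroup of L; C_L(Y_L) = C_L(Y_H) = C_L(Y_H ∩ L); and if O^p(H) ≤ L, then [Y_L, L] = 1 if and only if [Y_H, H] = 1. -/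
theorem result {H : Type*} [Group H] [Finite H] {p : ℕ} [Fact p.Prime] (L : Subgroup H) (hL : L.IsSubnormal) : Cfsg.largestPReduced p H ⊓ L = Cfsg.largestPReduced p H ⊓ (Cfsg.largestPReducedOf p L) ∧ Cfsg.IsPReducedNormal p ((Cfsg.largestPReduced p H ⊓ L).subgroupOf L) ∧ L ⊓ Subgroup.centralizer ((Cfsg.largestPReducedOf p L : Subgroup H) : Set H) = L ⊓ Subgroup.centralizer (Cfsg.largestPReduced p H : Set H) ∧ L ⊓ Subgroup.centralizer (Cfsg.largestPReduced p H : Set H) = L ⊓ Subgroup.centralizer ((Cfsg.largestPReduced p H ⊓ L : Subgroup H) : Set H) ∧ (Cfsg.pResidual p H ≤ L → (⁅(Cfsg.largestPReducedOf p L), L⁆ = ⊥ ↔ ⁅Cfsg.largestPReduced p H, (⊤ : Subgroup H)⁆ = ⊥)) := by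
  obtain ⟨h2', h4', h3'⟩ := aux (p := p) L hL
  rw [largestPReducedOf_top] at h2' h4' h3'
  have hYLL : largestPReducedOf p L ≤ L := largestPReducedOf_le_self p L
  have hle : largestPReduced p H ⊓ L ≤ largestPReducedOf p L :=
    le_largestPReducedOf inf_le_right h2'
  have h3 : L ⊓ Subgroup.centralizer ((Cfsg.largestPReducedOf p L : Subgroup H) : Set H) =
      L ⊓ Subgroup.centralizer (Cfsg.largestPReduced p H : Set H) := by
    apply le_antisymm
    · refine le_inf inf_le_left ?_
      exact (le_inf inf_le_left (inf_le_right.trans (Subgroup.centralizer_le hle))).trans h4'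
    · exact le_inf inf_le_left h3'
  refine ⟨?_, h2', h3, ?_, ?_⟩
  · exact le_antisymm (le_inf inf_le_left hle) (inf_le_inf_left _ hYLL)
  · apply le_antisymm
    · exact inf_le_inf_left _ (Subgroup.centralizer_le
        (show ((largestPReduced p H ⊓ L : Subgroup H) : Set H) ⊆ (largestPReduced p H : Set H) from
          fun x hx => (Subgroup.mem_inf.1 hx).1))
    · exact le_inf inf_le_left h4'
  · intro hR
    constructor
    · intro h
      have h1 : L ≤ Subgroup.centralizer ((largestPReducedOf p L : Subgroup H) : Set H) := by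
        rw [Subgroup.commutator_eq_bot_iff_le_centralizer] at h
        rw [Subgroup.le_centralizer_iff]; exact h
      have h2 : L ≤ Subgroup.centralizer (largestPReduced p H : Set H) := by
        have : L ≤ L ⊓ Subgroup.centralizer ((largestPReducedOf p L : Subgroup H) : Set H) :=
          le_inf le_rfl h1
        rw [h3] at this
        exact this.trans inf_le_right
      obtain ⟨hn, _, hCn, hO⟩ := isPReducedNormal_largestPReduced (p := p) (M := H)
      have h4 := (pCore_quotient_eq_bot_iff _).1 hO ⊤ inferInstance le_top (fun d _ => by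
        obtain ⟨k, hk⟩ := exists_pow_mem_pResidual (p := p) d
        exact ⟨k, h2 (hR hk)⟩)
      rw [Subgroup.commutator_eq_bot_iff_le_centralizer, Subgroup.le_centralizer_iff]
      exact h4
    · intro h
      have h1 : (⊤ : Subgroup H) ≤ Subgroup.centralizer (largestPReduced p H : Set H) := by
        rw [Subgroup.commutator_eq_bot_iff_le_centralizer] at h
        rw [Subgroup.le_centralizer_iff]; exact h
      have h2 : L ≤ Subgroup.centralizer ((largestPReducedOf p L : Subgroup H) : Set H) :=
        (le_inf le_rfl (le_top.trans h1)).trans h3'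
      rw [Subgroup.commutator_eq_bot_iff_le_centralizer, Subgroup.le_centralizer_iff]
      exact h2

end Cfsg.Agent.S2825
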