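import Cfsg.Statements.S2826
import Cfsg.Agent.Lib.Helper54.Trace

set_option autoImplicit false
open Cfsg
open Cfsg.Agent.Lib.Helper54

namespace Cfsg.Agent.S2826

/-- a normal subgroup containing `Ω₁(Z(T))` contains `Z_H` -/
theorem centerClosure_le_of_normal {H : Type*} [Group H] [Finite H] {p : ℕ} [Fact p.Prime]
    (T : Sylow p H) (V : Subgroup H) [hVn : V.Normal]
    (hZV : (Cfsg.omegaOne p ((T : Subgroup H) ⊓ Subgroup.centralizer ((T : Subgroup H) : Set H))) ≤ V) :
    centerClosure p H ≤ V := by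
  unfold centerClosure
  apply iSup_le
  intro S
  unfold omegaOne
  rw [Subgroup.closure_le]
  rintro x ⟨hx', hxp⟩
  obtain ⟨hxS, hxC⟩ := Subgroup.mem_inf.1 hx'
  obtain ⟨g, rfl⟩ := MulAction.exists_smul_eq H T S
  rw [sylow_smul_coe] at hxS hxC
  obtain ⟨y, hyT, rfl⟩ := hxS
  have hy : y ∈ Subgroup.centralizer ((T : Subgroup H) : Set H) := by
    rw [Subgroup.mem_centralizer_iff]
    intro t ht
    have h1 := (Subgroup.mem_centralizer_iff.1 hxC) (g * t * g⁻¹) ⟨t, ht, rfl⟩
    simp only [MulEquiv.coe_toMonoidHom, MulAut.conj_apply] at h1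
    calc t * y = g⁻¹ * (g * t * g⁻¹ * (g * y * g⁻¹)) * g := by group
      _ = g⁻¹ * (g * y * g⁻¹ * (g * t * g⁻¹)) * g := by rw [h1]
      _ = y * t := by group
  have hyp : y ^ p = 1 := by
    simp only [MulEquiv.coe_toMonoidHom, MulAut.conj_apply] at hxp
    rw [conj_pow] at hxp
    calc y ^ p = g⁻¹ * (g * y ^ p * g⁻¹) * g := by group
      _ = 1 := by rw [hxp]; group
  have hyV : y ∈ V := hZV (mem_omegaOne (Subgroup.mem_inf.2 ⟨hyT, hy⟩) hyp)
  simp only [MulEquiv.coe_toMonoidHom, MulAut.conj_apply]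
  exact hVn.conj_mem y hyV g

/-- Let H be a finite group of characteristic p, T a Sylow p-subgroup, and V a normal elementary abelian p-subgroup of H containing Ω₁(Z(T)). Then C_H(Ω₁(Z(T))) = C_H([V, O^p(H)] ∩ Ω₁(Z(T))), O^p(H) being generated by the elements of order prime to p. -/
theorem result {H : Type*} [Group H] [Finite H] {p : ℕ} [Fact p.Prime] (hH : Subgroup.centralizer (Cfsg.pCore p H : Set H) ≤ Cfsg.pCore p H) (T : Sylow p H) (V : Subgroup H) [V.Normal] (hV : Cfsg.IsElementaryAbelian p V) (hZV : (Cfsg.omegaOne p ((T : Subgroup H) ⊓ Subgroup.centralizer (((T : Subgroup H) : Subgroup H) : Set H))) ≤ V) : Subgroup.centralizer ((Cfsg.omegaOne p ((T : Subgroup H) ⊓ Subgroup.centralizer (((T : Subgroup H) : Subgroup H) : Set H))) : Set H) = Subgroup.centralizer (((⁅V, Cfsg.pResidual p H⁆ ⊓ (Cfsg.omegaOne p ((T : Subgroup H) ⊓ Subgroup.centralizer (((T : Subgroup H) : Subgroup H) : Set H)))) : Subgroup H) : Set H) := by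
  haveI hZn := centerClosure_normal p H
  haveI hRn := pResidual_normal p H
  apply le_antisymm
  · exact Subgroup.centralizer_le (by intro x hx; exact (Subgroup.mem_inf.1 hx).2)
  · intro c hc
    rw [Subgroup.mem_centralizer_iff] at hc ⊢
    intro z hz
    have hzZ : z ∈ centerClosure p H := omegaOne_center_sylow_le_centerClosure T hz
    rw [centerClosure_eq_sup hH] at hzZ
    -- Ω₁ Z(H) ≤ Ω₁ Z(T)
    have h0 : omegaOne p ((⊤ : Subgroup H) ⊓ Subgroup.centralizer (((⊤ : Subgroup H)) : Set H)) ≤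
        omegaOne p ((T : Subgroup H) ⊓ Subgroup.centralizer ((T : Subgroup H) : Set H)) := by
      apply omegaOne_mono
      intro x hx
      obtain ⟨_, hxC⟩ := Subgroup.mem_inf.1 hx
      have h1 : x ∈ Subgroup.centralizer (pCore p H : Set H) :=
        Subgroup.centralizer_le (by intro y _; exact Subgroup.mem_top y) hxC
      refine Subgroup.mem_inf.2 ⟨pCore_le_sylow T (hH h1), ?_⟩
      exact Subgroup.centralizer_le (by intro y _; exact Subgroup.mem_top y) hxC
    obtain ⟨w, hw, a, ha, rfl⟩ := exists_mul_of_mem_sup_of_le_normalizer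
      (A := ⁅centerClosure p H, pResidual p H⁆)
      (B := omegaOne p ((⊤ : Subgroup H) ⊓ Subgroup.centralizer (((⊤ : Subgroup H)) : Set H)))
      (by rw [Subgroup.normalizer_eq_top]; exact le_top) (by rw [sup_comm]; exact hzZ)
    have haC : a ∈ Subgroup.centralizer (((⊤ : Subgroup H)) : Set H) :=
      (Subgroup.mem_inf.1 (omegaOne_le p _ ha)).2
    have hac : c * a = a * c := (Subgroup.mem_centralizer_iff.1 haC) c (Subgroup.mem_top c)
    have hwZ : w ∈ omegaOne p ((T : Subgroup H) ⊓ Subgroup.centralizer ((T : Subgroup H) : Set H)) := by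
      have := Subgroup.mul_mem _ hz (Subgroup.inv_mem _ (h0 ha))
      simpa using this
    have hwV : w ∈ ⁅V, pResidual p H⁆ :=
      Subgroup.commutator_mono (centerClosure_le_of_normal T V hZV) le_rfl hw
    have hwc : w * c = c * w := hc w (Subgroup.mem_inf.2 ⟨hwV, hwZ⟩)
    calc w * a * c = w * (a * c) := by group
      _ = w * (c * a) := by rw [hac]
      _ = (w * c) * a := by group
      _ = (c * w) * a := by rw [hwc]
      _ = c * (w * a) := by group

end Cfsg.Agent.S2826
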