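import Cfsg.Statements.S2828
import Cfsg.Agent.Lib.Helper54.Quot

set_option autoImplicit false
open Cfsg

namespace Cfsg.Agent.S2828

open Cfsg.Agent.Lib.Helper54

/-- Let H be a finite group, p a prime and D a normal p-subgroup of H. Then H is p-irreducible if and only if H/D is p-irreducible, and H is strongly p-irreducible if and only if H/D is strongly p-irreducible. -/
theorem result {H : Type*} [Group H] [Finite H] {p : ℕ} [Fact p.Prime] (D : Subgroup H) [D.Normal] (hD : IsPGroup p ↥D) : (Cfsg.IsPIrreducible p H ↔ Cfsg.IsPIrreducible p (H ⧸ D)) ∧ (Cfsg.IsStronglyPIrreducible p H ↔ Cfsg.IsStronglyPIrreducible p (H ⧸ D)) := by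
  have hπ : Function.Surjective (QuotientGroup.mk' D) := QuotientGroup.mk'_surjective D
  have hDc : D ≤ pCore p H := le_pCore inferInstance hD
  have hRmap := map_pResidual_of_surjective (p := p) (QuotientGroup.mk' D) hπ
  have hcl := isPClosed_quotient_iff D hD
  have hcore := pCore_quotient_of_isPGroup D hD
  obtain ⟨T⟩ : Nonempty (Sylow p H) := inferInstance
  -- from `O^p(H/D) ≤ N D / D` to `O^p(H) ≤ N`
  have hback : ∀ N : Subgroup H, N.Normal →
      pResidual p (H ⧸ D) ≤ N.map (QuotientGroup.mk' D) → pResidual p H ≤ N := by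
    intro N hN hle
    rw [← hRmap, Subgroup.map_le_map_iff, QuotientGroup.ker_mk'] at hle
    exact pResidual_le_of_le_sup_isPGroup hD hle
  have hfwd : ∀ N' : Subgroup (H ⧸ D),
      pResidual p H ≤ N'.comap (QuotientGroup.mk' D) → pResidual p (H ⧸ D) ≤ N' := by
    intro N' hle
    rw [← hRmap, Subgroup.map_le_iff_le_comap]
    exact hle
  refine ⟨⟨?_, ?_⟩, ⟨?_, ?_⟩⟩
  · rintro ⟨h1, h2⟩
    refine ⟨fun h => h1 (hcl.1 h), ?_⟩
    intro N' hN' hnc
    apply hfwd
    apply h2 _ (Subgroup.Normal.comap hN' _)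
    intro hc
    exact hnc ((isPClosed_comap_mk_iff D hD N').1 hc)
  · rintro ⟨h1, h2⟩
    refine ⟨fun h => h1 (hcl.2 h), ?_⟩
    intro N hN hnc
    apply hback N hN
    have hN' : (N.map (QuotientGroup.mk' D)).Normal := Subgroup.Normal.map hN _ hπ
    apply h2 _ hN'
    intro hc
    apply hnc
    have hc2 := (isPClosed_comap_mk_iff D hD (N.map (QuotientGroup.mk' D))).2 hc
    have hnorm2 : ((N.map (QuotientGroup.mk' D)).comap (QuotientGroup.mk' D)).Normal :=
      Subgroup.Normal.comap hN' _
    rw [isPClosed_normal_iff T] at hc2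
    rw [isPClosed_normal_iff T]
    refine le_trans (inf_le_inf_left _ ?_) hc2
    rw [Subgroup.comap_map_eq]
    exact le_sup_left
  · rintro ⟨h1, h2⟩
    refine ⟨fun h => h1 (hcl.1 h), ?_⟩
    intro N' hN' hnc
    apply hfwd
    apply h2 _ (Subgroup.Normal.comap hN' _)
    intro hc
    apply hnc
    have h3 := Subgroup.map_mono (f := QuotientGroup.mk' D) hc
    rw [Subgroup.map_commutator, Subgroup.map_comap_eq_self_of_surjective hπ,
      Subgroup.map_top_of_surjective _ hπ] at h3
    rw [hcore]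
    exact h3
  · rintro ⟨h1, h2⟩
    refine ⟨fun h => h1 (hcl.2 h), ?_⟩
    intro N hN hnc
    apply hback N hN
    have hN' : (N.map (QuotientGroup.mk' D)).Normal := Subgroup.Normal.map hN _ hπ
    apply h2 _ hN'
    intro hc
    apply hnc
    rw [hcore, ← Subgroup.map_top_of_surjective _ hπ, ← Subgroup.map_commutator,
      Subgroup.map_le_map_iff, QuotientGroup.ker_mk', sup_eq_left.2 hDc] at hc
    exact hc

end Cfsg.Agent.S2828
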