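import Cfsg.Statements.S2829
import Cfsg.Agent.Lib.Helper54.Basic

set_option autoImplicit false
open Cfsg
open scoped commutatorElement

namespace Cfsg.Agent.S2829

open Cfsg.Agent.Lib.Helper54 in
/-- Every strongly p-irreducible finite group is p-irreducible. -/
theorem result {H : Type*} [Group H] [Finite H] {p : ℕ} [Fact p.Prime] (hH : Cfsg.IsStronglyPIrreducible p H) : Cfsg.IsPIrreducible p H := by
  refine ⟨hH.1, fun N hN hNc => hH.2 N hN (fun hle => hNc ?_)⟩
  intro P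
  constructor
  intro x hx n
  have h1 : ⁅n, x⁆ ∈ (P : Subgroup ↥N) := by
    apply pCore_subgroupOf_le_sylow N P
    rw [Subgroup.mem_subgroupOf]
    apply hle
    have : ((⁅n, x⁆ : ↥N) : H) = ⁅(n : H), (x : H)⁆ := by
      simp [commutatorElement_def]
    rw [this]
    -- ⁅n, x⁆ = (⁅x, n⁆)⁻¹ with x ∈ N
    have h2 : ⁅(x : H), (n : H)⁆ ∈ ⁅N, (⊤ : Subgroup H)⁆ :=
      Subgroup.commutator_mem_commutator x.2 (Subgroup.mem_top _)
    have h3 : ⁅(n : H), (x : H)⁆ = (⁅(x : H), (n : H)⁆)⁻¹ := by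
      simp [commutatorElement_def, mul_assoc]
    rw [h3]
    exact Subgroup.inv_mem _ h2
  have h4 : n * x * n⁻¹ = ⁅n, x⁆ * x := by
    simp [commutatorElement_def, mul_assoc]
  rw [h4]
  exact Subgroup.mul_mem _ h1 hx

end Cfsg.Agent.S2829
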