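import Cfsg.Statements.S2830
import Cfsg.Agent.Lib.Helper54.Quot

set_option autoImplicit false
open Cfsg

namespace Cfsg.Agent.S2830

open Cfsg.Agent.Lib.Helper54

/-- Let H act by conjugation on the elementary abelian p-subgroup V of a finite group G (H ≤ N(V)), with H p-irreducible and O^p(H) not centralizing V. Then C_H(V) is p-closed and C_T(V) ≤ O_p(H) for every p-subgroup T of H. If in addition O_p(H) centralizes V, then C_T(V) = T ∩ O_p(H) for every p-subgroup T of H, and V is p-reduced for H: O_p(H/C_H(V)) = 1. -/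
theorem result {G : Type*} [Group G] [Finite G] {p : ℕ} [Fact p.Prime] (V H : Subgroup G) (hV : Cfsg.IsElementaryAbelian p V) (hHV : H ≤ Subgroup.normalizer (V : Set G)) (hH : Cfsg.IsPIrreducible p ↥H) (hnc : ¬ (Cfsg.pResidual p ↥H).map H.subtype ≤ Subgroup.centralizer (V : Set G)) [hn : ((Subgroup.centralizer (V : Set G)).subgroupOf H).Normal] : Cfsg.IsPClosed p ↥(H ⊓ Subgroup.centralizer (V : Set G)) ∧ (∀ T : Subgroup G, T ≤ H → IsPGroup p ↥T → T ⊓ Subgroup.centralizer (V : Set G) ≤ Cfsg.pCoreOf p H) ∧ (Cfsg.pCoreOf p H ≤ Subgroup.centralizer (V : Set G) → (∀ T : Subgroup G, T ≤ H → IsPGroup p ↥T → T ⊓ Subgroup.centralizer (V : Set G) = T ⊓ Cfsg.pCoreOf p H) ∧ Cfsg.pCore p (↥H ⧸ (Subgroup.centralizer (V : Set G)).subgroupOf H) = ⊥) := by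
  set C := (Subgroup.centralizer (V : Set G)).subgroupOf H with hC
  -- the residual is not inside C
  have hRC : ¬ Cfsg.pResidual p ↥H ≤ C := by
    intro h
    apply hnc
    rintro _ ⟨x, hx, rfl⟩
    exact Subgroup.mem_subgroupOf.1 (h hx)
  have hCcl : IsPClosed p ↥C := by
    by_contra h
    exact hRC (hH.2 C hn h)
  have h1 : Cfsg.IsPClosed p ↥(H ⊓ Subgroup.centralizer (V : Set G)) := by
    have e : C = (H ⊓ Subgroup.centralizer (V : Set G)).subgroupOf H := by
      rw [hC, Subgroup.inf_subgroupOf_left]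
    have h2 := isPClosed_congr e hCcl
    exact isPClosed_of_mulEquiv (Subgroup.subgroupOfEquivOfLe inf_le_left) h2
  have h2 : ∀ T : Subgroup G, T ≤ H → IsPGroup p ↥T →
      T ⊓ Subgroup.centralizer (V : Set G) ≤ Cfsg.pCoreOf p H := by
    intro T hTH hT
    have hQ : IsPGroup p ↥((T ⊓ Subgroup.centralizer (V : Set G)).subgroupOf H) :=
      (hT.to_le inf_le_left).comap_of_injective H.subtype H.subtype_injective
    have hQC : (T ⊓ Subgroup.centralizer (V : Set G)).subgroupOf H ≤ C := by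
      intro x hx
      rw [Subgroup.mem_subgroupOf] at hx
      exact Subgroup.mem_subgroupOf.2 hx.2
    have h3 := le_pCore_of_isPClosed_normal hCcl hQ hQC
    intro x hx
    have hxH : x ∈ H := hTH hx.1
    exact ⟨⟨x, hxH⟩, h3 (Subgroup.mem_subgroupOf.2 hx), rfl⟩
  refine ⟨h1, h2, ?_⟩
  intro hO
  refine ⟨fun T hTH hT => le_antisymm (le_inf inf_le_left (h2 T hTH hT))
    (inf_le_inf_left _ hO), ?_⟩
  have hOC : Cfsg.pCore p ↥H ≤ C := by
    intro x hx
    rw [hC, Subgroup.mem_subgroupOf]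
    exact hO ⟨x, hx, rfl⟩
  set D := (Cfsg.pCore p (↥H ⧸ C)).comap (QuotientGroup.mk' C) with hD
  have hDn : D.Normal := Subgroup.Normal.comap (pCore_normal p _) _
  have hpow : ∀ d ∈ D, ∃ k : ℕ, d ^ (p ^ k) ∈ C := by
    intro d hd
    have hk : (QuotientGroup.mk' C) d ∈ pCore p (↥H ⧸ C) := hd
    obtain ⟨a, ha⟩ := pCore_isPGroup p (↥H ⧸ C) ⟨_, hk⟩
    have ha' : (QuotientGroup.mk' C) (d ^ (p ^ a)) = 1 := by
      rw [map_pow]; simpa using congrArg Subtype.val ha
    refine ⟨a, ?_⟩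
    rwa [QuotientGroup.mk'_apply, QuotientGroup.eq_one_iff] at ha'
  have hDcl : IsPClosed p ↥D := by
    by_contra h
    have h3 := hH.2 D hDn h
    apply hRC
    apply pResidual_le_of_forall_pow_mem
    intro g
    obtain ⟨a, ha⟩ := exists_pow_mem_pResidual (p := p) g
    obtain ⟨b, hb⟩ := hpow _ (h3 ha)
    exact ⟨a + b, by rw [pow_add, pow_mul]; exact hb⟩
  have hDC : D ≤ C := le_of_isPClosed_of_forall_pow_mem hDcl hOC hpow
  have h4 := Subgroup.map_mono (f := QuotientGroup.mk' C) hDC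
  rw [hD, Subgroup.map_comap_eq_self_of_surjective (QuotientGroup.mk'_surjective C)] at h4
  rw [eq_bot_iff]
  refine h4.trans ?_
  rw [Subgroup.map_le_iff_le_comap]
  intro c hc
  rw [Subgroup.mem_comap, Subgroup.mem_bot, QuotientGroup.mk'_apply, QuotientGroup.eq_one_iff]
  exact hc

end Cfsg.Agent.S2830
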