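import Cfsg.Statements.S2833
import Cfsg.Agent.Lib.Helper54.Conj

set_option autoImplicit false
open Cfsg
open scoped commutatorElement

namespace Cfsg.Agent.S2833

open Cfsg.Agent.Lib.Helper54

/-- Let V be a subgroup of a finite group G normalized by the subgroup L, let X ≤ L and g ∈ L with [V, X, X] = 1 and L generated by X and gXg⁻¹. Put W = [V, L]. Then W = [V, X]·[V, gXg⁻¹], C_W(X) = [V, X], and C_W(L) = [V, X] ∩ [V, gXg⁻¹]. -/
theorem result {G : Type*} [Group G] [Finite G] (V L : Subgroup G) (hLV : L ≤ Subgroup.normalizer (V : Set G)) (X : Subgroup G) (hX : X ≤ L) (g : G) (hg : g ∈ L) (hq : ⁅⁅V, X⁆, X⁆ = ⊥) (hgen : X ⊔ X.map (MulAut.conj g).toMonoidHom = L) (W : Subgroup G) (hW : W = ⁅V, L⁆) : ⁅V, X⁆ ⊔ ⁅V, X.map (MulAut.conj g).toMonoidHom⁆ = W ∧ W ⊓ Subgroup.centralizer (X : Set G) = ⁅V, X⁆ ∧ W ⊓ Subgroup.centralizer (L : Set G) = ⁅V, X⁆ ⊓ ⁅V, X.map (MulAut.conj g).toMonoidHom⁆ := by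
  set Xg := X.map (MulAut.conj g).toMonoidHom with hXg
  set A := ⁅V, X⁆ with hA
  set B := ⁅V, Xg⁆ with hB
  have hXgL : Xg ≤ L := by rw [← hgen]; exact le_sup_right
  have hVg : V.map (MulAut.conj g).toMonoidHom = V := map_conj_eq_of_mem_normalizer (hLV hg)
  -- B is the conjugate of A
  have hBA : B = A.map (MulAut.conj g).toMonoidHom := by
    rw [hA, Subgroup.map_commutator, hVg]
  have hAV : A ≤ V := Subgroup.le_normalizer_iff_commutator_le_left.1 (hX.trans hLV)
  have hBV : B ≤ V := Subgroup.le_normalizer_iff_commutator_le_left.1 (hXgL.trans hLV)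
  have hVA : V ≤ Subgroup.normalizer (A : Set G) := Subgroup.normalizer_commutator_ge_left V X
  have hVB : V ≤ Subgroup.normalizer (B : Set G) := Subgroup.normalizer_commutator_ge_left V Xg
  have hXA : X ≤ Subgroup.normalizer (A : Set G) := Subgroup.normalizer_commutator_ge_right V X
  have hXgB : Xg ≤ Subgroup.normalizer (B : Set G) :=
    Subgroup.normalizer_commutator_ge_right V Xg
  -- X centralises A, Xg centralises B
  have hAX : A ≤ Subgroup.centralizer (X : Set G) :=
    Subgroup.commutator_eq_bot_iff_le_centralizer.1 hq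
  have hqg : ⁅B, Xg⁆ = ⊥ := by
    rw [hBA, hXg, ← Subgroup.map_commutator, hq, Subgroup.map_bot]
  have hBXg : B ≤ Subgroup.centralizer (Xg : Set G) :=
    Subgroup.commutator_eq_bot_iff_le_centralizer.1 hqg
  -- X normalises A ⊔ B
  have hXN : X ≤ Subgroup.normalizer ((A ⊔ B : Subgroup G) : Set G) := by
    apply le_normalizer_of_map_conj_le
    intro x hx
    rw [Subgroup.map_sup]
    apply sup_le
    · rw [map_conj_eq_of_mem_normalizer (hXA hx)]; exact le_sup_left
    · rintro _ ⟨b, hb, rfl⟩
      have h1 : (MulAut.conj x).toMonoidHom b = (⁅b, x⁆)⁻¹ * b := by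
        simp [commutatorElement_def, mul_assoc]
      rw [h1]
      exact Subgroup.mul_mem _
        (Subgroup.inv_mem _ (le_sup_left (a := A)
          (Subgroup.commutator_mem_commutator (hBV hb) hx)))
        (le_sup_right (a := A) hb)
  have hXgN : Xg ≤ Subgroup.normalizer ((A ⊔ B : Subgroup G) : Set G) := by
    apply le_normalizer_of_map_conj_le
    intro x hx
    rw [Subgroup.map_sup]
    apply sup_le
    · rintro _ ⟨a, ha, rfl⟩
      have h1 : (MulAut.conj x).toMonoidHom a = (⁅a, x⁆)⁻¹ * a := by
        simp [commutatorElement_def, mul_assoc]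
      rw [h1]
      exact Subgroup.mul_mem _
        (Subgroup.inv_mem _ (le_sup_right (b := B)
          (Subgroup.commutator_mem_commutator (hAV ha) hx)))
        (le_sup_left (b := B) ha)
    · rw [map_conj_eq_of_mem_normalizer (hXgB hx)]; exact le_sup_right
  have hpart1 : A ⊔ B = W := by
    apply le_antisymm
    · rw [hW]
      exact sup_le (Subgroup.commutator_mono le_rfl hX) (Subgroup.commutator_mono le_rfl hXgL)
    · rw [hW, ← hgen]
      exact commutator_sup_le hXN hXgN le_sup_left le_sup_right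
  -- elements of B centralised by g-conjugation: b ∈ B ∩ C(L) → b ∈ A
  have hBCL : ∀ b ∈ B, b ∈ Subgroup.centralizer (L : Set G) → b ∈ A := by
    intro b hb hbc
    rw [hBA] at hb
    rw [mem_map_conj_iff] at hb
    have h1 : g * b = b * g := (Subgroup.mem_centralizer_iff.1 hbc) g hg
    have h2 : g⁻¹ * b * g = b := by
      rw [mul_assoc, ← h1, ← mul_assoc, inv_mul_cancel, one_mul]
    rwa [h2] at hb
  have hACL : ∀ a ∈ A, a ∈ Subgroup.centralizer (L : Set G) → a ∈ B := by
    intro a ha hac
    rw [hBA, mem_map_conj_iff]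
    have h1 : g * a = a * g := (Subgroup.mem_centralizer_iff.1 hac) g hg
    have h2 : g⁻¹ * a * g = a := by
      rw [mul_assoc, ← h1, ← mul_assoc, inv_mul_cancel, one_mul]
    rwa [h2]
  have hcentL : Subgroup.centralizer (L : Set G) =
      Subgroup.centralizer (X : Set G) ⊓ Subgroup.centralizer (Xg : Set G) := by
    rw [← hgen]
    ext z
    simp only [Subgroup.mem_inf]
    constructor
    · intro hz
      exact ⟨Subgroup.centralizer_le (by exact_mod_cast (le_sup_left : X ≤ X ⊔ Xg)) hz,
        Subgroup.centralizer_le (by exact_mod_cast (le_sup_right : Xg ≤ X ⊔ Xg)) hz⟩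
    · rintro ⟨h1, h2⟩
      have h3 : X ≤ Subgroup.centralizer ({z} : Set G) := by
        intro x hx
        rw [Subgroup.mem_centralizer_singleton_iff]
        exact ((Subgroup.mem_centralizer_iff.1 h1) x hx)
      have h4 : Xg ≤ Subgroup.centralizer ({z} : Set G) := by
        intro x hx
        rw [Subgroup.mem_centralizer_singleton_iff]
        exact ((Subgroup.mem_centralizer_iff.1 h2) x hx)
      rw [Subgroup.mem_centralizer_iff]
      intro l hl
      have := (sup_le h3 h4) hl
      rw [Subgroup.mem_centralizer_singleton_iff] at this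
      exact this
  have hpart2 : W ⊓ Subgroup.centralizer (X : Set G) = A := by
    apply le_antisymm
    · rintro w ⟨hw, hwc⟩
      rw [← hpart1] at hw
      -- B normalises A since B ≤ V
      obtain ⟨a, ha, b, hb, rfl⟩ :=
        exists_mul_of_mem_sup_of_le_normalizer (hBV.trans hVA) hw
      have hbX : b ∈ Subgroup.centralizer (X : Set G) := by
        have : b = a⁻¹ * (a * b) := by simp
        rw [this]
        exact Subgroup.mul_mem _ (Subgroup.inv_mem _ (hAX ha)) hwc
      have hbL : b ∈ Subgroup.centralizer (L : Set G) := by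
        rw [hcentL]; exact ⟨hbX, hBXg hb⟩
      exact Subgroup.mul_mem _ ha (hBCL b hb hbL)
    · rw [← hpart1]
      exact le_inf le_sup_left hAX
  have hpart2' : W ⊓ Subgroup.centralizer (Xg : Set G) = B := by
    apply le_antisymm
    · rintro w ⟨hw, hwc⟩
      rw [← hpart1, sup_comm] at hw
      obtain ⟨b, hb, a, ha, rfl⟩ :=
        exists_mul_of_mem_sup_of_le_normalizer (hAV.trans hVB) hw
      have haX : a ∈ Subgroup.centralizer (Xg : Set G) := by
        have : a = b⁻¹ * (b * a) := by simp
        rw [this]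
        exact Subgroup.mul_mem _ (Subgroup.inv_mem _ (hBXg hb)) hwc
      have haL : a ∈ Subgroup.centralizer (L : Set G) := by
        rw [hcentL]; exact ⟨hAX ha, haX⟩
      exact Subgroup.mul_mem _ hb (hACL a ha haL)
    · rw [← hpart1]
      exact le_inf le_sup_right hBXg
  refine ⟨hpart1, hpart2, ?_⟩
  rw [hcentL, ← hpart2, ← hpart2']
  ext z
  simp only [Subgroup.mem_inf]
  tauto

end Cfsg.Agent.S2833
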