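import Cfsg.Statements.S2835
import Cfsg.Agent.Lib.Helper54.Minimal

set_option autoImplicit false
open Cfsg
open scoped commutatorElement

namespace Cfsg.Agent.S2835

open Cfsg.Agent.Lib.Helper54

/-- Let L be a finite group, L₀ a maximal subgroup, T a Sylow p-subgroup of L₀ and Y ≤ T, and suppose L is Y-minimal (generated by the conjugates of Y, with Y in exactly one maximal subgroup, necessarily L₀). Then N_L(T) ≤ L₀, O_p(L) ≤ L₀ and T is a Sylow p-subgroup of L; N_L(L₀) = L₀; L = ⟨Y, gYg⁻¹⟩ for each g ∈ L outside L₀; and if Y is abelian then Y ∩ gYg⁻¹ = C_Y(L) for each such g. -/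
theorem result {L : Type*} [Group L] [Finite L] {p : ℕ} [Fact p.Prime] (L₀ : Subgroup L) (hL₀ : IsCoatom L₀) (T : Sylow p ↥L₀) (Y : Subgroup L) (hYT : Y ≤ (T : Subgroup ↥L₀).map L₀.subtype) (hmin : Cfsg.IsMinimalOver Y) : Subgroup.normalizer (((T : Subgroup ↥L₀).map L₀.subtype : Subgroup L) : Set L) ≤ L₀ ∧ Cfsg.pCore p L ≤ L₀ ∧ (∃ P : Sylow p L, (P : Subgroup L) = (T : Subgroup ↥L₀).map L₀.subtype) ∧ Subgroup.normalizer (L₀ : Set L) = L₀ ∧ (∀ g : L, g ∉ L₀ → Y ⊔ Y.map (MulAut.conj g).toMonoidHom = ⊤) ∧ (IsMulCommutative ↥Y → ∀ g : L, g ∉ L₀ → Y ⊓ Y.map (MulAut.conj g).toMonoidHom = Y ⊓ Subgroup.center L) := by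
  set T' := (T : Subgroup ↥L₀).map L₀.subtype with hT'
  have hT'L₀ : T' ≤ L₀ := Subgroup.map_subtype_le _
  have hYL₀ : Y ≤ L₀ := hYT.trans hT'L₀
  -- (1)
  have h1 : Subgroup.normalizer (T' : Set L) ≤ L₀ := by
    apply minimalOver_le_coatom hmin hL₀ hYL₀ (hYT.trans Subgroup.le_normalizer)
    intro htop
    have hn : T'.Normal := Subgroup.normalizer_eq_top_iff.1 htop
    have := minimalOver_eq_top_of_normal hmin hn hYT
    rw [this, top_le_iff] at hT'L₀
    exact hL₀.1 hT'L₀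
  -- (3)
  have h3 : ∃ P : Sylow p L, (P : Subgroup L) = T' :=
    exists_sylow_eq_map_of_normalizer_le T h1
  -- (2)
  have h2 : Cfsg.pCore p L ≤ L₀ := by
    obtain ⟨P, hP⟩ := h3
    exact (pCore_le_sylow P).trans (hP ▸ hT'L₀)
  -- (4)
  have h4 : Subgroup.normalizer (L₀ : Set L) = L₀ := by
    rcases (hL₀.le_iff).1 (Subgroup.le_normalizer (H := L₀)) with h | h
    · exfalso
      have hn : L₀.Normal := Subgroup.normalizer_eq_top_iff.1 h
      exact hL₀.1 (minimalOver_eq_top_of_normal hmin hn hYL₀)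
    · exact h
  -- (5)
  have h5 : ∀ g : L, g ∉ L₀ → Y ⊔ Y.map (MulAut.conj g).toMonoidHom = ⊤ := by
    intro g hg
    by_contra hne
    have hle : Y ⊔ Y.map (MulAut.conj g).toMonoidHom ≤ L₀ :=
      minimalOver_le_coatom hmin hL₀ hYL₀ le_sup_left hne
    have hYg : Y.map (MulAut.conj g).toMonoidHom ≤ L₀ := le_sup_right.trans hle
    rw [map_conj_le_iff] at hYg
    -- the conjugate of L₀ is a coatom containing Y, hence equals L₀
    obtain ⟨_, M₀, ⟨_, _⟩, huniq⟩ := hmin
    have e1 : L₀.map (MulAut.conj g⁻¹).toMonoidHom = M₀ :=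
      huniq _ ⟨isCoatom_map_conj hL₀ g⁻¹, hYg⟩
    have e2 : L₀ = M₀ := huniq _ ⟨hL₀, hYL₀⟩
    have e3 : g⁻¹ ∈ Subgroup.normalizer (L₀ : Set L) :=
      mem_normalizer_of_map_conj_eq (e1.trans e2.symm)
    rw [h4] at e3
    exact hg (by simpa using L₀.inv_mem e3)
  refine ⟨h1, h2, h3, h4, h5, ?_⟩
  -- (6)
  intro hYab g hg
  have hYY : Y ≤ Subgroup.centralizer (Y : Set L) :=
    Subgroup.commutator_eq_bot_iff_le_centralizer.1 (Subgroup.commutator_self_eq_bot_iff.2 hYab)
  have hYgYg : Y.map (MulAut.conj g).toMonoidHom ≤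
      Subgroup.centralizer ((Y.map (MulAut.conj g).toMonoidHom : Subgroup L) : Set L) := by
    apply Subgroup.commutator_eq_bot_iff_le_centralizer.1
    rw [← Subgroup.map_commutator, Subgroup.commutator_self_eq_bot_iff.2 hYab, Subgroup.map_bot]
  apply le_antisymm
  · intro z hz
    obtain ⟨hz1, hz2⟩ := Subgroup.mem_inf.1 hz
    refine Subgroup.mem_inf.2 ⟨hz1, ?_⟩
    rw [Subgroup.mem_center_iff]
    have hc1 : Y ≤ Subgroup.centralizer ({z} : Set L) := by
      intro y hy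
      rw [Subgroup.mem_centralizer_singleton_iff]
      exact ((Subgroup.mem_centralizer_iff.1 (hYY hz1)) y hy)
    have hc2 : Y.map (MulAut.conj g).toMonoidHom ≤ Subgroup.centralizer ({z} : Set L) := by
      intro y hy
      rw [Subgroup.mem_centralizer_singleton_iff]
      exact ((Subgroup.mem_centralizer_iff.1 (hYgYg hz2)) y hy)
    intro x
    have hx : x ∈ Subgroup.centralizer ({z} : Set L) := by
      have := sup_le hc1 hc2
      rw [h5 g hg] at this
      exact this (Subgroup.mem_top x)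
    rw [Subgroup.mem_centralizer_singleton_iff] at hx
    exact hx
  · intro z hz
    obtain ⟨hz1, hz2⟩ := Subgroup.mem_inf.1 hz
    refine Subgroup.mem_inf.2 ⟨hz1, ?_⟩
    rw [mem_map_conj_iff]
    have : g⁻¹ * z * g = z := by
      rw [Subgroup.mem_center_iff] at hz2
      rw [mul_assoc, ← hz2 g, ← mul_assoc, inv_mul_cancel, one_mul]
    rw [this]; exact hz1

end Cfsg.Agent.S2835
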