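import Cfsg.Statements.S2836
import Cfsg.Agent.S2835
import Cfsg.Agent.Lib.Helper54.Minimal
import Cfsg.Agent.Lib.Helper54.CommStab

set_option autoImplicit false
open Cfsg
open Cfsg.Agent.Lib.Helper54

namespace Cfsg.Agent.S2836

/-- a subgroup of index prime to `p` contains a conjugate of every `p`-subgroup -/
theorem exists_conj_le_of_not_dvd_index {L : Type*} [Group L] {p : ℕ} [Fact p.Prime]
    (P : Subgroup L) (hP : IsPGroup p ↥P) (M : Subgroup L) (h : ¬ p ∣ M.index) :
    ∃ g : L, P.map (MulAut.conj g).toMonoidHom ≤ M := by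
  have h' : ¬ p ∣ Nat.card (L ⧸ M) := h
  obtain ⟨q, hq⟩ := hP.nonempty_fixed_point_of_prime_not_dvd_card (L ⧸ M) h'
  induction q using QuotientGroup.induction_on with
  | H g =>
    refine ⟨g⁻¹, ?_⟩
    rintro _ ⟨x, hx, rfl⟩
    have h1 := hq ⟨x, hx⟩
    have h2 : ((x * g : L) : L ⧸ M) = (g : L ⧸ M) := h1
    rw [QuotientGroup.eq] at h2
    simp only [MulEquiv.coe_toMonoidHom, MulAut.conj_apply, inv_inv]
    have h3 := M.inv_mem h2
    convert h3 using 1
    group

/-- Let L be a finite group, L₀ a maximal subgroup, T a Sylow p-subgroup of L₀, Y ≤ T, and suppose L is Y-minimal. Let D be the intersection of the conjugates of L₀ (the core of L₀). Then D contains O_p(L) and D/O_p(L) is the Frattini subgroup of L/O_p(L), so D is p-closed; and every normal subgroup N of L contained in L₀ is p-closed with N/O_p(N) a nilpotent group of order prime to p. -/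
theorem result {L : Type*} [Group L] [Finite L] {p : ℕ} [Fact p.Prime] (L₀ : Subgroup L) (hL₀ : IsCoatom L₀) (T : Sylow p ↥L₀) (Y : Subgroup L) (hYT : Y ≤ (T : Subgroup ↥L₀).map L₀.subtype) (hmin : Cfsg.IsMinimalOver Y) : (Cfsg.pCore p L ≤ L₀.normalCore ∧ (L₀.normalCore).map (QuotientGroup.mk' (Cfsg.pCore p L)) = frattini (L ⧸ Cfsg.pCore p L) ∧ Cfsg.IsPClosed p ↥(L₀.normalCore)) ∧ ∀ (N : Subgroup L) [N.Normal], N ≤ L₀ → Cfsg.IsPClosed p ↥N ∧ Group.IsNilpotent (↥N ⧸ Cfsg.pCore p ↥N) ∧ (Nat.card (↥N ⧸ Cfsg.pCore p ↥N)).Coprime p := by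
  have hp : p.Prime := Fact.out
  obtain ⟨_, hOL₀, ⟨P, hP⟩, _, _, _⟩ := Cfsg.Agent.S2835.result L₀ hL₀ T Y hYT hmin
  have hYP : Y ≤ (P : Subgroup L) := by rw [hP]; exact hYT
  have hYL₀ : Y ≤ L₀ := hYT.trans (Subgroup.map_subtype_le _)
  haveI hOn : (pCore p L).Normal := pCore_normal p L
  -- the key uniqueness argument
  have key : ∀ (X N : Subgroup L), N ≤ L₀ → Y ≤ X → X ⊔ N = ⊤ → X = ⊤ := by
    intro X N hNL hYX hXN
    by_contra hX
    have h1 := minimalOver_le_coatom hmin hL₀ hYL₀ hYX hX
    have h2 : (⊤ : Subgroup L) ≤ L₀ := hXN ▸ sup_le h1 hNL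
    exact hL₀.1 (top_le_iff.1 h2)
  -- `P ∩ N` is normal for normal `N ≤ L₀`
  have hPN : ∀ (N : Subgroup L), N.Normal → N ≤ L₀ → ((P : Subgroup L) ⊓ N).Normal := by
    intro N hN hNL
    haveI := hN
    have h1 := normalizer_inf_sup_eq_top P N
    have h2 : Y ≤ Subgroup.normalizer (((P : Subgroup L) ⊓ N : Subgroup L) : Set L) :=
      hYP.trans (le_normalizer_inf Subgroup.le_normalizer Subgroup.le_normalizer_of_normal)
    exact Subgroup.normalizer_eq_top_iff.1 (key _ N hNL h2 h1)
  -- structure of normal subgroups inside `L₀`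
  have hD : ∀ (N : Subgroup L) [N.Normal], N ≤ L₀ →
      IsPClosed p ↥N ∧ pCore p ↥N = (pCore p L).subgroupOf N ∧
        (Nat.card (↥N ⧸ pCore p ↥N)).Coprime p := by
    intro N hN hNL
    obtain ⟨PN, hPNeq⟩ := exists_sylow_eq_subgroupOf_of_normal P N
    have hn : (PN : Subgroup ↥N).Normal := by
      rw [hPNeq, ← Subgroup.inf_subgroupOf_right]
      exact (hPN N hN hNL).subgroupOf N
    have hcl : IsPClosed p ↥N := isPClosed_of_normal PN hn
    have hcore : (PN : Subgroup ↥N) = pCore p ↥N := sylow_eq_pCore_of_isPClosed hcl PN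
    have hON : pCore p L ⊓ N = (P : Subgroup L) ⊓ N :=
      le_antisymm (inf_le_inf_right N (pCore_le_sylow P))
        (le_inf (le_pCore (hPN N hN hNL) (P.isPGroup'.to_le inf_le_left)) inf_le_right)
    refine ⟨hcl, ?_, ?_⟩
    · rw [← hcore, hPNeq, ← Subgroup.inf_subgroupOf_right, ← hON, Subgroup.inf_subgroupOf_right]
    · have h1 : Nat.card (↥N ⧸ pCore p ↥N) = (PN : Subgroup ↥N).index := by
        rw [hcore]; rfl
      rw [h1]
      exact ((Nat.Prime.coprime_iff_not_dvd hp).2 PN.not_dvd_index).symm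
  have hOD : pCore p L ≤ L₀.normalCore := Subgroup.normal_le_normalCore.2 hOL₀
  have hπ : Function.Surjective (QuotientGroup.mk' (pCore p L)) :=
    QuotientGroup.mk'_surjective _
  have hker : (QuotientGroup.mk' (pCore p L)).ker = pCore p L := QuotientGroup.ker_mk' _
  -- the Frattini statement
  have hb : (L₀.normalCore).map (QuotientGroup.mk' (Cfsg.pCore p L)) =
      frattini (L ⧸ Cfsg.pCore p L) := by
    apply le_antisymm
    · -- D/O ≤ Φ(L/O)
      show _ ≤ Order.radical _
      unfold Order.radical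
      apply le_iInf₂
      intro M' hM'
      have hM : IsCoatom (M'.comap (QuotientGroup.mk' (pCore p L))) :=
        Subgroup.isCoatom_comap_of_surjective hπ hM'
      have hOM : pCore p L ≤ M'.comap (QuotientGroup.mk' (pCore p L)) :=
        le_trans (le_of_eq hker.symm) (MonoidHom.ker_le_comap _ _)
      have hDM : L₀.normalCore ≤ M'.comap (QuotientGroup.mk' (pCore p L)) := by
        by_contra hcon
        set M := M'.comap (QuotientGroup.mk' (pCore p L)) with hMdef
        have hsup : M ⊔ L₀.normalCore = ⊤ := by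
          apply hM.2
          apply lt_of_le_of_ne le_sup_left
          intro h
          apply hcon
          rw [h]; exact le_sup_right
        -- the index of M is prime to p
        have hidx : ¬ p ∣ M.index := by
          have h1 : M.relIndex L₀.normalCore = M.relIndex (M ⊔ L₀.normalCore) :=
            relIndex_eq_relIndex_sup_of_le_normalizer Subgroup.le_normalizer_of_normal
          rw [hsup, Subgroup.relIndex_top_right] at h1
          rw [← h1, ← Subgroup.inf_relIndex_right]
          have h2 := Subgroup.relIndex_mul_relIndex (pCore p L) (M ⊓ L₀.normalCore) L₀.normalCore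
            (le_inf hOM hOD) inf_le_right
          obtain ⟨_, hc, hcop⟩ := hD L₀.normalCore (Subgroup.normalCore_le L₀)
          have h3 : (pCore p L).relIndex L₀.normalCore =
              Nat.card (↥L₀.normalCore ⧸ pCore p ↥L₀.normalCore) := by
            rw [hc]; rfl
          intro hdvd
          have h4 : p ∣ (pCore p L).relIndex L₀.normalCore := by
            rw [← h2]; exact Dvd.dvd.mul_left hdvd _
          rw [h3] at h4
          exact (Nat.Prime.coprime_iff_not_dvd hp).1 hcop.symm h4
        obtain ⟨g, hg⟩ := exists_conj_le_of_not_dvd_index (P : Subgroup L) P.isPGroup' M hidx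
        -- then `M` is a conjugate of `L₀`
        have h5 : Y ≤ M.map (MulAut.conj g⁻¹).toMonoidHom := by
          rw [← map_conj_le_iff]
          exact (Subgroup.map_mono hYP).trans hg
        have h6 : IsCoatom (M.map (MulAut.conj g⁻¹).toMonoidHom) := isCoatom_map_conj hM g⁻¹
        obtain ⟨_, M₀, ⟨_, _⟩, huniq⟩ := hmin
        have h7 : M.map (MulAut.conj g⁻¹).toMonoidHom = L₀ := by
          rw [huniq _ ⟨h6, h5⟩, huniq L₀ ⟨hL₀, hYL₀⟩]
        apply hcon
        intro x hx
        have h8 : g⁻¹ * x * g⁻¹⁻¹ ∈ L₀ := hx g⁻¹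
        rw [← h7, mem_map_conj_iff] at h8
        convert h8 using 1
        group
      have := Subgroup.map_mono (f := QuotientGroup.mk' (pCore p L)) hDM
      rwa [Subgroup.map_comap_eq_self_of_surjective hπ] at this
    · -- Φ(L/O) ≤ D/O
      intro x' hx'
      obtain ⟨x, rfl⟩ := hπ x'
      refine ⟨x, ?_, rfl⟩
      intro b
      have hco : IsCoatom (L₀.map (QuotientGroup.mk' (pCore p L))) :=
        isCoatom_map_of_surjective hπ hL₀ (by rw [hker]; exact hOL₀)
      have hcm : (L₀.map (QuotientGroup.mk' (pCore p L))).comap (QuotientGroup.mk' (pCore p L)) = L₀ :=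
        Subgroup.comap_map_eq_self (by rw [hker]; exact hOL₀)
      have hfn : (frattini (L ⧸ pCore p L)).Normal := inferInstance
      have h1 : (QuotientGroup.mk' (pCore p L)) (b * x * b⁻¹) ∈ frattini (L ⧸ pCore p L) := by
        rw [map_mul, map_mul, map_inv]
        exact hfn.conj_mem _ hx' _
      have h2 := frattini_le_coatom hco h1
      rw [← hcm]
      exact h2
  refine ⟨⟨hOD, hb, (hD L₀.normalCore (Subgroup.normalCore_le L₀)).1⟩, ?_⟩
  intro N hN hNL
  obtain ⟨hcl, hc, hcop⟩ := hD N hNL
  refine ⟨hcl, ?_, hcop⟩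
  -- nilpotency through the Frattini subgroup
  have hND : N ≤ L₀.normalCore := Subgroup.normal_le_normalCore.2 hNL
  let f : ↥N →* ↥(frattini (L ⧸ pCore p L)) :=
    ((QuotientGroup.mk' (pCore p L)).comp N.subtype).codRestrict (frattini (L ⧸ pCore p L))
      (fun n => by
        rw [← hb]
        exact ⟨(n : L), hND n.2, rfl⟩)
  have hfker : f.ker = pCore p ↥N := by
    rw [hc]
    ext n
    rw [MonoidHom.mem_ker, Subgroup.mem_subgroupOf]
    constructor
    · intro h
      have h1 := congrArg Subtype.val h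
      have h2 : (QuotientGroup.mk' (pCore p L)) (n : L) = 1 := h1
      rwa [QuotientGroup.mk'_apply, QuotientGroup.eq_one_iff] at h2
    · intro h
      apply Subtype.ext
      show (QuotientGroup.mk' (pCore p L)) (n : L) = 1
      rwa [QuotientGroup.mk'_apply, QuotientGroup.eq_one_iff]
  haveI : Group.IsNilpotent ↥(frattini (L ⧸ pCore p L)) := frattini_nilpotent
  haveI : Group.IsNilpotent ↥f.range := inferInstance
  haveI : Group.IsNilpotent (↥N ⧸ f.ker) :=
    Group.nilpotent_of_mulEquiv (QuotientGroup.quotientKerEquivRange f).symm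
  haveI : (pCore p ↥N).Normal := pCore_normal p ↥N
  exact Group.nilpotent_of_mulEquiv (QuotientGroup.quotientMulEquivOfEq hfker)

end Cfsg.Agent.S2836
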