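import Cfsg.Statements.S2837
import Cfsg.Agent.S2835
import Cfsg.Agent.Lib.Helper54.CommStab
import Cfsg.Agent.Lib.Helper54.FrattiniLib
import Cfsg.Agent.Lib.Helper54.PReduced
import Cfsg.Agent.Lib.Helper03.PGroupFrattini

set_option autoImplicit false
open Cfsg
open Cfsg.Agent.Lib.Helper54
open scoped commutatorElement

namespace Cfsg.Agent.S2837

/-- powers of products modulo the derived subgroup -/
theorem mul_pow_mod_commutator' {P : Type*} [Group P] (a b : P) (n : ℕ) :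
    (a ^ n * b ^ n)⁻¹ * (a * b) ^ n ∈ commutator P := by
  rw [← Abelianization.ker_of, MonoidHom.mem_ker]
  simp only [map_mul, map_inv, map_pow]
  rw [mul_pow, inv_mul_cancel]

/-- Let L be a finite group of characteristic p, L₀ a maximal subgroup, Y an elementary abelian p-subgroup of L₀ with L Y-minimal and O_p(L) ≤ N_L(Y). Put A = the normal closure of O_p(L) ∩ Y in L. Then for every g ∈ L outside L₀: Φ(A) = A' = [A ∩ Y, A] = [A ∩ Y, A ∩ gYg⁻¹] ≤ C_Y(L), and Y ∩ gYg⁻¹ = (A ∩ Y) ∩ (A ∩ gYg⁻¹) = C_Y(L) = C_A(L). -/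
theorem result {L : Type*} [Group L] [Finite L] {p : ℕ} [Fact p.Prime] (hchar : Subgroup.centralizer (Cfsg.pCore p L : Set L) ≤ Cfsg.pCore p L) (L₀ : Subgroup L) (hL₀ : IsCoatom L₀) (Y : Subgroup L) (hYL₀ : Y ≤ L₀) (hYel : Cfsg.IsElementaryAbelian p Y) (hmin : Cfsg.IsMinimalOver Y) (hOY : Cfsg.pCore p L ≤ Subgroup.normalizer (Y : Set L)) (A : Subgroup L) (hA : A = Subgroup.normalClosure (((Cfsg.pCore p L ⊓ Y : Subgroup L)) : Set L)) (g : L) (hg : g ∉ L₀) : (frattini ↥A).map A.subtype = ⁅A, A⁆ ∧ ⁅A, A⁆ = ⁅A ⊓ Y, A⁆ ∧ ⁅A ⊓ Y, A⁆ = ⁅A ⊓ Y, A ⊓ Y.map (MulAut.conj g).toMonoidHom⁆ ∧ ⁅A ⊓ Y, A⁆ ≤ Y ⊓ Subgroup.center L ∧ Y ⊓ Y.map (MulAut.conj g).toMonoidHom = Y ⊓ Subgroup.center L ∧ (A ⊓ Y) ⊓ (A ⊓ Y.map (MulAut.conj g).toMonoidHom) = Y ⊓ Subgroup.center L ∧ A ⊓ Subgroup.center L = Y ⊓ Subgroup.center L := by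
  haveI hQn : (pCore p L).Normal := pCore_normal p L
  have hYp : IsPGroup p ↥Y := isPGroup_of_isElementaryAbelian hYel
  -- a Sylow subgroup of L₀ containing Y
  have hYp' : IsPGroup p ↥(Y.subgroupOf L₀) :=
    hYp.comap_of_injective L₀.subtype L₀.subtype_injective
  obtain ⟨T, hT⟩ := hYp'.exists_le_sylow
  have hYT : Y ≤ (T : Subgroup ↥L₀).map L₀.subtype := by
    intro y hy
    exact ⟨⟨y, hYL₀ hy⟩, hT (Subgroup.mem_subgroupOf.2 hy), rfl⟩
  obtain ⟨_, _, _, _, hgen, hint⟩ := Cfsg.Agent.S2835.result L₀ hL₀ T Y hYT hmin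
  have hsup := hgen g hg
  have h5 := hint hYel.1 g hg
  -- notation
  obtain ⟨Q, hQdef⟩ : ∃ Q : Subgroup L, Q = pCore p L := ⟨_, rfl⟩
  rw [← hQdef] at hA hOY hchar
  haveI hQn' : Q.Normal := by rw [hQdef]; exact hQn
  have hQp : IsPGroup p ↥Q := by rw [hQdef]; exact pCore_isPGroup p L
  obtain ⟨Yg, hYgdef⟩ : ∃ Yg : Subgroup L, Yg = Y.map (MulAut.conj g).toMonoidHom := ⟨_, rfl⟩
  rw [← hYgdef] at hsup h5 ⊢
  obtain ⟨B, hBdef⟩ : ∃ B : Subgroup L, B = Q ⊓ Y := ⟨_, rfl⟩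
  obtain ⟨Bg, hBgdef⟩ : ∃ Bg : Subgroup L, Bg = Q ⊓ Yg := ⟨_, rfl⟩
  rw [← hBdef] at hA
  have hBQ : B ≤ Q := by rw [hBdef]; exact inf_le_left
  have hBY : B ≤ Y := by rw [hBdef]; exact inf_le_right
  have hBgQ : Bg ≤ Q := by rw [hBgdef]; exact inf_le_left
  have hBgYg : Bg ≤ Yg := by rw [hBgdef]; exact inf_le_right
  -- commutativity of Y and Yg
  have hYcomm : ∀ a ∈ Y, ∀ b ∈ Y, a * b = b * a := by
    intro a ha b hb
    haveI := hYel.1
    exact congrArg Subtype.val (mul_comm' (⟨a, ha⟩ : ↥Y) ⟨b, hb⟩)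
  have hYgcomm : ∀ a ∈ Yg, ∀ b ∈ Yg, a * b = b * a := by
    rw [hYgdef]
    rintro _ ⟨a, ha, rfl⟩ _ ⟨b, hb, rfl⟩
    simp only [MulEquiv.coe_toMonoidHom, MulAut.conj_apply]
    have := hYcomm a ha b hb
    calc g * a * g⁻¹ * (g * b * g⁻¹) = g * (a * b) * g⁻¹ := by group
      _ = g * (b * a) * g⁻¹ := by rw [this]
      _ = g * b * g⁻¹ * (g * a * g⁻¹) := by group
  have hYgpow : ∀ a ∈ Yg, a ^ p = 1 := by
    rw [hYgdef]
    rintro _ ⟨a, ha, rfl⟩
    simp only [MulEquiv.coe_toMonoidHom, MulAut.conj_apply]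
    rw [conj_pow, hYel.2 a ha]; simp
  have hYY : ⁅Y, Y⁆ = ⊥ := by
    rw [Subgroup.commutator_eq_bot_iff_le_centralizer]
    intro y hy
    rw [Subgroup.mem_centralizer_iff]
    intro z hz
    exact hYcomm z hz y hy
  have hYgYg : ⁅Yg, Yg⁆ = ⊥ := by
    rw [Subgroup.commutator_eq_bot_iff_le_centralizer]
    intro y hy
    rw [Subgroup.mem_centralizer_iff]
    intro z hz
    exact hYgcomm z hz y hy
  -- Q normalises Yg
  have hOYg : Q ≤ Subgroup.normalizer (Yg : Set L) := by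
    rw [hYgdef]
    intro q hq
    have h1 : g⁻¹ * q * g⁻¹⁻¹ ∈ Q := hQn'.conj_mem q hq g⁻¹
    have h2 := map_conj_eq_of_mem_normalizer (hOY h1)
    apply mem_normalizer_of_map_conj_eq
    rw [← map_conj_mul]
    have e : q * g = g * (g⁻¹ * q * g⁻¹⁻¹) := by group
    rw [e, map_conj_mul, h2]
  -- [Q, Y] ≤ B and [Q, Yg] ≤ Bg
  have hQY : ⁅Q, Y⁆ ≤ B := by
    rw [hBdef]
    exact le_inf (Subgroup.commutator_le_left Q Y)
      (Subgroup.le_normalizer_iff_commutator_le_right.1 hOY)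
  have hQYg : ⁅Q, Yg⁆ ≤ Bg := by
    rw [hBgdef]
    exact le_inf (Subgroup.commutator_le_left Q Yg)
      (Subgroup.le_normalizer_iff_commutator_le_right.1 hOYg)
  have hBBg1 : ⁅B, Bg⁆ ≤ B := by
    rw [Subgroup.commutator_comm]
    exact (Subgroup.commutator_mono hBgQ hBY).trans hQY
  have hBBg2 : ⁅B, Bg⁆ ≤ Bg := (Subgroup.commutator_mono hBQ hBgYg).trans hQYg
  -- Y and Yg normalise B ⊔ Bg
  have hYnB : Y ≤ Subgroup.normalizer (B : Set L) := by
    rw [hBdef]
    exact le_normalizer_inf (by rw [Subgroup.normalizer_eq_top]; exact le_top)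
      Subgroup.le_normalizer
  have hYgnBg : Yg ≤ Subgroup.normalizer (Bg : Set L) := by
    rw [hBgdef]
    exact le_normalizer_inf (by rw [Subgroup.normalizer_eq_top]; exact le_top)
      Subgroup.le_normalizer
  have hYn : Y ≤ Subgroup.normalizer ((B ⊔ Bg : Subgroup L) : Set L) := by
    apply le_normalizer_of_map_conj_le
    intro y hy
    rw [Subgroup.map_sup]
    apply sup_le
    · rw [map_conj_eq_of_mem_normalizer (hYnB hy)]; exact le_sup_left
    · rintro _ ⟨c, hc, rfl⟩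
      simp only [MulEquiv.coe_toMonoidHom, MulAut.conj_apply]
      have h1 : ⁅y, c⁆ ∈ B := by
        have : ⁅y, c⁆ ∈ ⁅Y, Q⁆ := Subgroup.commutator_mem_commutator hy (hBgQ hc)
        rw [Subgroup.commutator_comm] at this
        exact hQY this
      have e : y * c * y⁻¹ = ⁅y, c⁆ * c := by
        rw [commutatorElement_def]; group
      rw [e]
      exact Subgroup.mul_mem _ (Subgroup.mem_sup_left h1) (Subgroup.mem_sup_right hc)
  have hYgn : Yg ≤ Subgroup.normalizer ((B ⊔ Bg : Subgroup L) : Set L) := by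
    apply le_normalizer_of_map_conj_le
    intro y hy
    rw [Subgroup.map_sup]
    apply sup_le
    · rintro _ ⟨c, hc, rfl⟩
      simp only [MulEquiv.coe_toMonoidHom, MulAut.conj_apply]
      have h1 : ⁅y, c⁆ ∈ Bg := by
        have : ⁅y, c⁆ ∈ ⁅Yg, Q⁆ := Subgroup.commutator_mem_commutator hy (hBQ hc)
        rw [Subgroup.commutator_comm] at this
        exact hQYg this
      have e : y * c * y⁻¹ = ⁅y, c⁆ * c := by
        rw [commutatorElement_def]; group
      rw [e]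
      exact Subgroup.mul_mem _ (Subgroup.mem_sup_right h1) (Subgroup.mem_sup_left hc)
    · rw [map_conj_eq_of_mem_normalizer (hYgnBg hy)]; exact le_sup_right
  have hnormal : (B ⊔ Bg).Normal := by
    rw [← Subgroup.normalizer_eq_top_iff, eq_top_iff, ← hsup]
    exact sup_le hYn hYgn
  -- Bg is the conjugate of B
  have hBgconj : Bg = B.map (MulAut.conj g).toMonoidHom := by
    rw [hBgdef, hBdef, Subgroup.map_inf_eq _ _ _ (MulAut.conj g).injective, ← hYgdef,
      map_conj_eq_of_mem_normalizer (by rw [Subgroup.normalizer_eq_top]; exact Subgroup.mem_top g)]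
  have hAn : A.Normal := by rw [hA]; exact Subgroup.normalClosure_normal
  have hBA : B ≤ A := by rw [hA]; exact Subgroup.le_normalClosure
  have hBgA : Bg ≤ A := by
    rw [hBgconj]
    rintro _ ⟨b, hb, rfl⟩
    exact hAn.conj_mem b (hBA hb) g
  have hAeq : A = B ⊔ Bg := by
    apply le_antisymm
    · rw [hA]
      exact Subgroup.normalClosure_le_normal (N := B ⊔ Bg)
        (SetLike.coe_subset_coe.2 (le_sup_left : B ≤ B ⊔ Bg))
    · exact sup_le hBA hBgA
  have hAQ : A ≤ Q := by rw [hAeq]; exact sup_le hBQ hBgQ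
  have hAY : A ⊓ Y = B := by
    apply le_antisymm
    · rw [hBdef]; exact inf_le_inf_right Y hAQ
    · exact le_inf hBA hBY
  have hAYg : A ⊓ Yg = Bg := by
    apply le_antisymm
    · rw [hBgdef]; exact inf_le_inf_right Yg hAQ
    · exact le_inf hBgA hBgYg
  rw [hAY, hAYg]
  -- the centre part
  have hcenterQ : Subgroup.center L ≤ Q := by
    refine le_trans ?_ hchar
    intro z hz
    rw [Subgroup.mem_centralizer_iff]
    intro q _
    exact (Subgroup.mem_center_iff.1 hz q)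
  have hZB : Y ⊓ Subgroup.center L ≤ B := by
    rw [hBdef]
    exact le_inf (inf_le_right.trans hcenterQ) inf_le_left
  have hZBg : Y ⊓ Subgroup.center L ≤ Bg := by
    rw [hBgdef]
    refine le_inf (inf_le_right.trans hcenterQ) ?_
    rw [← h5]; exact inf_le_right
  have hBBgZ : B ⊓ Bg ≤ Y ⊓ Subgroup.center L := by
    rw [← h5]; exact inf_le_inf hBY hBgYg
  have hN : ⁅B, Bg⁆ ≤ Y ⊓ Subgroup.center L := (le_inf hBBg1 hBBg2).trans hBBgZ
  have hNn : ∀ X : Subgroup L, X ≤ Subgroup.normalizer ((⁅B, Bg⁆ : Subgroup L) : Set L) := by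
    intro X x _
    rw [Subgroup.mem_normalizer_iff]
    intro n
    constructor
    · intro hn
      have hc : n ∈ Subgroup.center L := (hN hn).2
      have e : x * n * x⁻¹ = n := by
        rw [(Subgroup.mem_center_iff.1 hc x)]; group
      rw [e]; exact hn
    · intro hn
      have hc : x * n * x⁻¹ ∈ Subgroup.center L := (hN hn).2
      have e : n = x⁻¹ * (x * n * x⁻¹) * x := by group
      have e2 : x⁻¹ * (x * n * x⁻¹) * x = x * n * x⁻¹ := by
        rw [mul_assoc, ← (Subgroup.mem_center_iff.1 hc x)]; group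
      rw [e, e2]; exact hn
  have hBB : ⁅B, B⁆ = ⊥ := eq_bot_iff.2 ((Subgroup.commutator_mono hBY hBY).trans hYY.le)
  have hBgBg : ⁅Bg, Bg⁆ = ⊥ := eq_bot_iff.2 ((Subgroup.commutator_mono hBgYg hBgYg).trans hYgYg.le)
  have hBA' : ⁅B, A⁆ ≤ ⁅B, Bg⁆ := by
    rw [hAeq]
    exact commutator_sup_le (hNn B) (hNn Bg) (hBB.le.trans bot_le) le_rfl
  have hBgA' : ⁅Bg, A⁆ ≤ ⁅B, Bg⁆ := by
    rw [hAeq]
    refine commutator_sup_le (hNn B) (hNn Bg) ?_ (hBgBg.le.trans bot_le)
    rw [Subgroup.commutator_comm]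
  have hAA : ⁅A, A⁆ ≤ ⁅B, Bg⁆ := by
    have h1 : ⁅A, B ⊔ Bg⁆ ≤ ⁅B, Bg⁆ := by
      refine commutator_sup_le (hNn B) (hNn Bg) ?_ ?_
      · rw [Subgroup.commutator_comm]; exact hBA'
      · rw [Subgroup.commutator_comm]; exact hBgA'
    have h2 : ⁅A, A⁆ = ⁅A, B ⊔ Bg⁆ := by rw [← hAeq]
    rw [h2]; exact h1
  have h2 : ⁅A, A⁆ = ⁅B, A⁆ :=
    le_antisymm (hAA.trans (Subgroup.commutator_mono le_rfl hBgA))
      (Subgroup.commutator_mono hBA le_rfl)
  have h3 : ⁅B, A⁆ = ⁅B, Bg⁆ :=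
    le_antisymm hBA' (Subgroup.commutator_mono le_rfl hBgA)
  -- Frattini
  have hAp : IsPGroup p ↥A := hQp.to_le hAQ
  have h1 : (frattini ↥A).map A.subtype = ⁅A, A⁆ := by
    rw [← Subgroup.map_subtype_commutator]
    congr 1
    apply le_antisymm
    · apply frattini_le_of_commutator_le_of_pow_mem (p := p) _ le_rfl
      intro x
      have hx : (x : L) ∈ Bg ⊔ B := by rw [sup_comm, ← hAeq]; exact x.2
      obtain ⟨c, hc, b, hb, hxcb⟩ := exists_mul_of_mem_sup_of_le_normalizer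
        (A := Bg) (B := B) (Subgroup.le_normalizer_iff_commutator_le_right.2 hBBg2) hx
      have hxe : x = (⟨c, hBgA hc⟩ : ↥A) * ⟨b, hBA hb⟩ := Subtype.ext hxcb
      have h4 := mul_pow_mod_commutator' (⟨c, hBgA hc⟩ : ↥A) ⟨b, hBA hb⟩ p
      have hc1 : (⟨c, hBgA hc⟩ : ↥A) ^ p = 1 := Subtype.ext (by simpa using hYgpow c (hBgYg hc))
      have hb1 : (⟨b, hBA hb⟩ : ↥A) ^ p = 1 := Subtype.ext (by simpa using hYel.2 b (hBY hb))
      rw [hc1, hb1, one_mul, inv_one, one_mul] at h4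
      rw [hxe]; exact h4
    · exact Cfsg.Agent.Lib.Helper03.commutator_le_frattini_of_isPGroup hAp
  refine ⟨h1, h2, h3, h3 ▸ hN, h5, ?_, ?_⟩
  · exact le_antisymm hBBgZ (le_inf hZB hZBg)
  · apply le_antisymm
    · intro z hz
      obtain ⟨hzA, hzc⟩ := Subgroup.mem_inf.1 hz
      refine Subgroup.mem_inf.2 ⟨?_, hzc⟩
      have hx : z ∈ Bg ⊔ B := by rw [sup_comm, ← hAeq]; exact hzA
      obtain ⟨c, hc, b, hb, rfl⟩ := exists_mul_of_mem_sup_of_le_normalizer
        (A := Bg) (B := B) (Subgroup.le_normalizer_iff_commutator_le_right.2 hBBg2) hx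
      -- c commutes with Y and Yg
      have hcY : Y ≤ Subgroup.centralizer ({c} : Set L) := by
        intro y hy
        rw [Subgroup.mem_centralizer_singleton_iff]
        have e1 := (Subgroup.mem_center_iff.1 hzc y)
        have e2 := hYcomm y hy b (hBY hb)
        have e3 : c = (c * b) * b⁻¹ := by group
        calc y * c = y * ((c * b) * b⁻¹) := by rw [← e3]
          _ = (y * (c * b)) * b⁻¹ := by group
          _ = ((c * b) * y) * b⁻¹ := by rw [e1]
          _ = (c * (b * y)) * b⁻¹ := by group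
          _ = (c * (y * b)) * b⁻¹ := by rw [e2]
          _ = c * y := by group
      have hcYg : Yg ≤ Subgroup.centralizer ({c} : Set L) := by
        intro y hy
        rw [Subgroup.mem_centralizer_singleton_iff]
        exact hYgcomm y hy c (hBgYg hc)
      have hctop : (⊤ : Subgroup L) ≤ Subgroup.centralizer ({c} : Set L) := by
        rw [← hsup]; exact sup_le hcY hcYg
      have hcg : g⁻¹ * c * g = c := by
        have := hctop (Subgroup.mem_top g)
        rw [Subgroup.mem_centralizer_singleton_iff] at this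
        calc g⁻¹ * c * g = g⁻¹ * (c * g) := by group
          _ = g⁻¹ * (g * c) := by rw [this]
          _ = c := by group
      have hcY' : c ∈ Y := by
        have h6 : c ∈ Yg := hBgYg hc
        rw [hYgdef, mem_map_conj_iff, hcg] at h6
        exact h6
      exact Y.mul_mem hcY' (hBY hb)
    · exact le_inf (hZB.trans hBA) inf_le_right

end Cfsg.Agent.S2837
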