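import Cfsg.Statements.S2838
import Cfsg.Agent.Lib.Helper54.WeaklyClosed

set_option autoImplicit false
open Cfsg

namespace Cfsg.Agent.S2838

open Cfsg.Agent.Lib.Helper54

/-- For a nontrivial p-subgroup Q of a finite group H the following are equivalent: Q is a weakly closed subgroup (it is the only H-conjugate of itself inside some Sylow p-subgroup containing it); Q = P for every conjugate P of Q with [Q, P] ≤ Q ∩ P; Q is normal in N_H(R) for every p-subgroup R of H containing Q. -/
theorem result {H : Type*} [Group H] [Finite H] {p : ℕ} [Fact p.Prime] (Q : Subgroup H) (hQp : IsPGroup p ↥Q) (hQ1 : Q ≠ ⊥) : (Cfsg.IsWeaklyClosedSubgroup p Q ↔ ∀ g : H, ⁅Q, ((Q : Subgroup H).map (MulAut.conj (g : H)).toMonoidHom)⁆ ≤ Q ⊓ ((Q : Subgroup H).map (MulAut.conj (g : H)).toMonoidHom) → ((Q : Subgroup H).map (MulAut.conj (g : H)).toMonoidHom) = Q) ∧ (Cfsg.IsWeaklyClosedSubgroup p Q ↔ ∀ R : Subgroup H, IsPGroup p ↥R → Q ≤ R → Subgroup.normalizer ((R : Subgroup H) : Set H) ≤ Subgroup.normalizer ((Q : Subgroup H) : Set H)) := by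
  obtain ⟨T, hQT⟩ := hQp.exists_le_sylow
  constructor
  · constructor
    · intro hwc g hcomm
      have h1 : Q.map (MulAut.conj g).toMonoidHom ≤ Subgroup.normalizer (Q : Set H) :=
        Subgroup.le_normalizer_iff_commutator_le_left.2 (hcomm.trans inf_le_left)
      have hR : IsPGroup p ↥(Q ⊔ Q.map (MulAut.conj g).toMonoidHom : Subgroup H) :=
        IsPGroup.to_sup_of_normal_left' hQp (hQp.map _) h1
      exact conj_eq_of_le_isPGroup hwc hR le_sup_left le_sup_right
    · intro hcond
      -- Step 1
      have step1 : ∀ T' : Sylow p H, Q ≤ (T' : Subgroup H) →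
          (T' : Subgroup H) ≤ Subgroup.normalizer (Q : Set H) := by
        intro T' hQT'
        by_contra hnot
        set M := (T' : Subgroup H) ⊓ Subgroup.normalizer (Q : Set H) with hM
        have hlt : M < (T' : Subgroup H) := by
          refine lt_of_le_of_ne inf_le_left ?_
          intro h
          apply hnot
          rw [← h]; exact inf_le_right
        obtain ⟨t, htT, htN, htM⟩ := exists_mem_normalizer_not_mem T'.isPGroup' hlt
        have htQ : t ∉ Subgroup.normalizer (Q : Set H) := fun h => htM ⟨htT, h⟩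
        have hQM : Q ≤ M := le_inf hQT' Subgroup.le_normalizer
        have hMt : M.map (MulAut.conj t).toMonoidHom = M := map_conj_eq_of_mem_normalizer htN
        have h1 : Q.map (MulAut.conj t).toMonoidHom ≤ M := by
          rw [← hMt]; exact Subgroup.map_mono hQM
        have h2 : ⁅Q, Q.map (MulAut.conj t).toMonoidHom⁆ ≤ Q :=
          Subgroup.le_normalizer_iff_commutator_le_left.1 (h1.trans inf_le_right)
        have h3 : Q ≤ Subgroup.normalizer
            ((Q.map (MulAut.conj t).toMonoidHom : Subgroup H) : Set H) := by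
          rw [normalizer_map_conj]
          refine hQM.trans ?_
          rw [← hMt]
          exact Subgroup.map_mono inf_le_right
        have h4 : ⁅Q, Q.map (MulAut.conj t).toMonoidHom⁆ ≤ Q.map (MulAut.conj t).toMonoidHom :=
          Subgroup.le_normalizer_iff_commutator_le_right.1 h3
        exact htQ (mem_normalizer_of_map_conj_eq (hcond t (le_inf h2 h4)))
      refine ⟨T, hQT, ?_⟩
      intro g hg
      apply hcond
      have hQT₂ : Q ≤ ((g⁻¹ • T : Sylow p H) : Subgroup H) := by
        rw [sylow_smul_coe]; exact map_conj_le_iff.1 hg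
      have hT₂ := step1 _ hQT₂
      have hT := step1 T hQT
      have h2 : ⁅Q, Q.map (MulAut.conj g).toMonoidHom⁆ ≤ Q :=
        Subgroup.le_normalizer_iff_commutator_le_left.1 (hg.trans hT)
      have h3 : Q ≤ Subgroup.normalizer
          ((Q.map (MulAut.conj g).toMonoidHom : Subgroup H) : Set H) := by
        rw [normalizer_map_conj]
        refine hQT.trans ?_
        have := Subgroup.map_mono (f := (MulAut.conj g).toMonoidHom) hT₂
        rwa [sylow_smul_coe, map_conj_map_conj_inv] at this
      exact le_inf h2 (Subgroup.le_normalizer_iff_commutator_le_right.1 h3)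
  · constructor
    · intro hwc R hR hQR n hn
      apply mem_normalizer_of_map_conj_eq
      apply conj_eq_of_le_isPGroup hwc hR hQR
      rw [← map_conj_eq_of_mem_normalizer hn]
      exact Subgroup.map_mono hQR
    · intro hcond
      refine ⟨T, hQT, ?_⟩
      intro g hg
      have hQT₂ : Q ≤ ((g⁻¹ • T : Sylow p H) : Subgroup H) := by
        rw [sylow_smul_coe]; exact map_conj_le_iff.1 hg
      have hNT := hcond T T.isPGroup' hQT
      have hNT₂ := hcond _ (g⁻¹ • T : Sylow p H).isPGroup' hQT₂
      have hTN : (T : Subgroup H) ≤ Subgroup.normalizer (Q : Set H) :=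
        Subgroup.le_normalizer.trans hNT
      have hT₂N : ((g⁻¹ • T : Sylow p H) : Subgroup H) ≤ Subgroup.normalizer (Q : Set H) :=
        Subgroup.le_normalizer.trans hNT₂
      obtain ⟨n, hn⟩ := sylow_exists_conj ((g⁻¹ • T : Sylow p H).subtype hT₂N) (T.subtype hTN)
      -- T ≤ (g⁻¹ • T)^n
      have h1 : (T : Subgroup H) ≤
          ((g⁻¹ • T : Sylow p H) : Subgroup H).map (MulAut.conj (n : H)).toMonoidHom := by
        intro x hx
        have hxN : x ∈ Subgroup.normalizer (Q : Set H) := hTN hx
        have h2 : (⟨x, hxN⟩ : ↥(Subgroup.normalizer (Q : Set H))) ∈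
            ((T.subtype hTN : Sylow p _) : Subgroup _) := by
          rw [sylow_subtype_coe, Subgroup.mem_subgroupOf]; exact hx
        rw [hn, mem_map_conj_iff, sylow_subtype_coe, Subgroup.mem_subgroupOf] at h2
        rw [mem_map_conj_iff]
        simpa using h2
      have h2 := T.is_maximal' ((g⁻¹ • T : Sylow p H).isPGroup'.map _) h1
      rw [sylow_smul_coe, ← map_conj_mul] at h2
      have h3 : (n : H) * g⁻¹ ∈ Subgroup.normalizer (Q : Set H) :=
        hNT (mem_normalizer_of_map_conj_eq h2)
      have h4 : g⁻¹ ∈ Subgroup.normalizer (Q : Set H) := by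
        have := Subgroup.mul_mem _ (Subgroup.inv_mem _ n.2) h3
        simpa using this
      have h5 : g ∈ Subgroup.normalizer (Q : Set H) := by
        simpa using Subgroup.inv_mem _ h4
      exact map_conj_eq_of_mem_normalizer h5

end Cfsg.Agent.S2838
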