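import Cfsg.Statements.S2839
import Cfsg.Agent.Lib.Helper54.WeaklyClosed

set_option autoImplicit false
open Cfsg

namespace Cfsg.Agent.S2839

open Cfsg.Agent.Lib.Helper54

/-- Let Q be a nontrivial p-subgroup of the finite group H that is a weakly closed subgroup, K a subgroup containing Q and N a normal subgroup of H. Then Q is a weakly closed subgroup of K; every H-conjugate of Q contained in K is a K-conjugate of Q; N_K(Q) contains a Sylow p-subgroup of K; N = N_N(Q)·O^p(N); and QN/N is a weakly closed subgroup of H/N. -/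
theorem result {H : Type*} [Group H] [Finite H] {p : ℕ} [Fact p.Prime] (Q : Subgroup H) (hQp : IsPGroup p ↥Q) (hQ1 : Q ≠ ⊥) (hwc : Cfsg.IsWeaklyClosedSubgroup p Q) (K : Subgroup H) (hQK : Q ≤ K) (N' : Subgroup H) [N'.Normal] : Cfsg.IsWeaklyClosedSubgroup p (Q.subgroupOf K) ∧ (∀ g : H, ((Q : Subgroup H).map (MulAut.conj (g : H)).toMonoidHom) ≤ K → ∃ k ∈ K, ((Q : Subgroup H).map (MulAut.conj (g : H)).toMonoidHom) = ((Q : Subgroup H).map (MulAut.conj (k : H)).toMonoidHom)) ∧ Cfsg.IsParabolic p ((Subgroup.normalizer ((Q : Subgroup H) : Set H)).subgroupOf K) ∧ (N' ⊓ Subgroup.normalizer ((Q : Subgroup H) : Set H)) ⊔ (Cfsg.pResidual p ↥N').map N'.subtype = N' ∧ Cfsg.IsWeaklyClosedSubgroup p (Q.map (QuotientGroup.mk' N')) := by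
  refine ⟨isWeaklyClosedSubgroup_subgroupOf hQp hwc hQK,
    fun g hg => exists_conj_eq_of_le hQp hwc hQK hg, ?_, ?_, ?_⟩
  · -- parabolic
    have h0 : IsPGroup p ↥(Q.subgroupOf K) :=
      hQp.comap_of_injective K.subtype K.subtype_injective
    obtain ⟨S, hS⟩ := h0.exists_le_sylow
    refine ⟨S, ?_⟩
    have hR : IsPGroup p ↥((S : Subgroup ↥K).map K.subtype) := S.isPGroup'.map _
    obtain ⟨T', hT'⟩ := hR.exists_le_sylow
    have hQT' : Q ≤ (T' : Subgroup H) := by
      intro q hq
      exact hT' ⟨⟨q, hQK hq⟩, hS (Subgroup.mem_subgroupOf.2 hq), rfl⟩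
    have hN := sylow_le_normalizer_of_isWeaklyClosedSubgroup hwc T' hQT'
    intro s hs
    rw [Subgroup.mem_subgroupOf]
    exact hN (hT' ⟨s, hs, rfl⟩)
  · -- factorisation of N'
    apply le_antisymm
    · exact sup_le inf_le_left (Subgroup.map_subtype_le _)
    · obtain ⟨T, hQT⟩ := hQp.exists_le_sylow
      have hN := sylow_le_normalizer_of_isWeaklyClosedSubgroup hwc T hQT
      obtain ⟨P, hP⟩ := exists_sylow_eq_subgroupOf_of_normal T N'
      have h1 := pResidual_sup_sylow P
      intro n hn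
      have h2 : (⟨n, hn⟩ : ↥N') ∈ pResidual p ↥N' ⊔ (P : Subgroup ↥N') := by
        rw [h1]; exact Subgroup.mem_top _
      have h3 : n ∈ (pResidual p ↥N' ⊔ (P : Subgroup ↥N')).map N'.subtype := ⟨_, h2, rfl⟩
      rw [Subgroup.map_sup, sup_comm] at h3
      have h4 : (P : Subgroup ↥N').map N'.subtype ≤
          N' ⊓ Subgroup.normalizer ((Q : Subgroup H) : Set H) := by
        rw [hP, Subgroup.subgroupOf_map_subtype]
        intro x hx
        exact ⟨hx.2, hN hx.1⟩
      exact (sup_le_sup_right h4 _) h3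
  · -- quotient
    obtain ⟨T, hQT⟩ := hQp.exists_le_sylow
    have hN := sylow_le_normalizer_of_isWeaklyClosedSubgroup hwc T hQT
    have hπ : Function.Surjective (QuotientGroup.mk' N') := QuotientGroup.mk'_surjective N'
    refine ⟨T.mapSurjective hπ, ?_, ?_⟩
    · rw [Sylow.coe_mapSurjective]; exact Subgroup.map_mono hQT
    · intro g' hg'
      obtain ⟨g, rfl⟩ := hπ g'
      rw [Sylow.coe_mapSurjective, ← map_map_conj, Subgroup.map_le_map_iff,
        QuotientGroup.ker_mk'] at hg'
      obtain ⟨k, hk, hk2⟩ :=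
        exists_conj_eq_of_le hQp hwc (hQT.trans le_sup_left) hg'
      rw [← map_map_conj, hk2]
      have hk' : k ∈ (((T : Subgroup H) ⊔ N' : Subgroup H) : Set H) := hk
      rw [Subgroup.mul_normal] at hk'
      obtain ⟨t, ht, n, hn, rfl⟩ := hk'
      rw [map_map_conj]
      have h1 : (QuotientGroup.mk' N') (t * n) = (QuotientGroup.mk' N') t := by
        rw [map_mul]
        have : (QuotientGroup.mk' N') n = 1 := by
          rw [QuotientGroup.mk'_apply, QuotientGroup.eq_one_iff]; exact hn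
        rw [this, mul_one]
      rw [h1, ← map_map_conj, map_conj_eq_of_mem_normalizer (hN ht)]

end Cfsg.Agent.S2839
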