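import Cfsg.Statements.S2841
import Cfsg.Agent.Lib.Helper54.WeaklyClosed

set_option autoImplicit false
open Cfsg
open scoped commutatorElement

namespace Cfsg.Agent.S2841

open Cfsg.Agent.Lib.Helper54

/-- Let Q be a nontrivial p-subgroup of the finite group H that is a weakly closed subgroup and N a normal subgroup of H. Then N = N_N(Q)·[N, Q] and [N, Q] = (Q ∩ [N, Q])·[N, Q, Q]. -/
theorem result {H : Type*} [Group H] [Finite H] {p : ℕ} [Fact p.Prime] (Q : Subgroup H) (hQp : IsPGroup p ↥Q) (hQ1 : Q ≠ ⊥) (hwc : Cfsg.IsWeaklyClosedSubgroup p Q) (N' : Subgroup H) [N'.Normal] : (∀ n : H, n ∈ N' → ∃ a ∈ N' ⊓ Subgroup.normalizer ((Q : Subgroup H) : Set H), ∃ b ∈ ⁅N', Q⁆, n = a * b) ∧ (∀ c : H, c ∈ ⁅N', Q⁆ → ∃ a ∈ Q ⊓ ⁅N', Q⁆, ∃ b ∈ ⁅⁅N', Q⁆, Q⁆, c = a * b) := by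
  set C := ⁅N', Q⁆ with hC
  set C₂ := ⁅C, Q⁆ with hC₂
  have hCN : C ≤ N' := Subgroup.commutator_le_left N' Q
  have hQC : Q ≤ Subgroup.normalizer (C : Set H) := Subgroup.normalizer_commutator_ge_right N' Q
  have hQC₂ : Q ≤ Subgroup.normalizer (C₂ : Set H) := Subgroup.normalizer_commutator_ge_right C Q
  have hCC₂ : C ≤ Subgroup.normalizer (C₂ : Set H) := Subgroup.normalizer_commutator_ge_left C Q
  have hC₂C : C₂ ≤ C := Subgroup.le_normalizer_iff_commutator_le_left.1 hQC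
  -- every N'-conjugate of Q is a conjugate by an element of C
  have key : ∀ n ∈ N', ∃ c ∈ C, Q.map (MulAut.conj n).toMonoidHom =
      Q.map (MulAut.conj c).toMonoidHom := by
    intro n hn
    obtain ⟨m, hm, hm2⟩ := exists_conj_eq_of_le hQp hwc (le_sup_right : Q ≤ C ⊔ Q)
      (map_conj_le_commutator_sup hn)
    obtain ⟨c, hc, q, hq, rfl⟩ := exists_mul_of_mem_sup_of_le_normalizer hQC hm
    refine ⟨c, hc, ?_⟩
    rw [hm2, map_conj_mul, map_conj_eq_of_mem_normalizer (Subgroup.le_normalizer hq)]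
  constructor
  · intro n hn
    obtain ⟨c, hc, hc2⟩ := key n⁻¹ (N'.inv_mem hn)
    have h1 : c⁻¹ * n⁻¹ ∈ Subgroup.normalizer ((Q : Subgroup H) : Set H) := by
      apply mem_normalizer_of_map_conj_eq
      rw [map_conj_mul, hc2, map_conj_inv_map_conj]
    refine ⟨(c⁻¹ * n⁻¹)⁻¹, ⟨?_, Subgroup.inv_mem _ h1⟩, c⁻¹, C.inv_mem hc, by group⟩
    exact N'.inv_mem (N'.mul_mem (N'.inv_mem (hCN hc)) (N'.inv_mem hn))
  · -- C ≤ Q ⊔ C₂
    have hM : C ⊔ Q ≤ Subgroup.normalizer ((C₂ ⊔ Q : Subgroup H) : Set H) := by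
      apply sup_le
      · apply le_normalizer_of_map_conj_le
        intro c hc
        rw [Subgroup.map_sup, map_conj_eq_of_mem_normalizer (hCC₂ hc)]
        exact sup_le le_sup_left (map_conj_le_commutator_sup hc)
      · apply le_normalizer_of_map_conj_le
        intro q hq
        rw [Subgroup.map_sup, map_conj_eq_of_mem_normalizer (hQC₂ hq),
          map_conj_eq_of_mem_normalizer (Subgroup.le_normalizer hq)]
    have hCle : C ≤ C₂ ⊔ Q := by
      rw [hC, Subgroup.commutator_le]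
      intro n hn q hq
      obtain ⟨m, hm, hm2⟩ := exists_conj_eq_of_le hQp hwc (le_sup_right : Q ≤ C ⊔ Q)
        (map_conj_le_commutator_sup hn)
      have h1 : Q.map (MulAut.conj n).toMonoidHom ≤ C₂ ⊔ Q := by
        rw [hm2, ← map_conj_eq_of_mem_normalizer (hM hm)]
        exact Subgroup.map_mono le_sup_right
      have h2 : n * q * n⁻¹ ∈ C₂ ⊔ Q := h1 (conj_mem_map_conj hq)
      have h3 : ⁅n, q⁆ = n * q * n⁻¹ * q⁻¹ := rfl
      rw [h3]
      exact Subgroup.mul_mem _ h2 (Subgroup.inv_mem _ (le_sup_right (a := C₂) hq))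
    intro c hc
    obtain ⟨b, hb, q, hq, hbq⟩ :=
      exists_mul_of_mem_sup_of_le_normalizer hQC₂ (hCle (C.inv_mem hc))
    refine ⟨q⁻¹, ⟨Q.inv_mem hq, ?_⟩, b⁻¹, C₂.inv_mem hb, ?_⟩
    · have : q⁻¹ = c * b := by
        have : q = b⁻¹ * c⁻¹ := by rw [hbq]; group
        rw [this]; group
      rw [this]
      exact C.mul_mem hc (hC₂C hb)
    · have : c = (c⁻¹)⁻¹ := by group
      rw [this, hbq]; group

end Cfsg.Agent.S2841
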