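import Cfsg.Statements.S2842
import Cfsg.Agent.Lib.Helper56.CharPChain
import Cfsg.Agent.Lib.Helper56.WeakClosure
import Cfsg.Agent.Lib.Helper53.Subnormal

set_option autoImplicit false
open Cfsg

namespace Cfsg.Agent.S2842

open Cfsg.Agent.Lib.Helper56
open Cfsg.Agent.Lib.Helper54
open scoped commutatorElement

/-- Core of the argument: assume `N_H(O_p(L))` has characteristic `p`. -/
theorem core {H : Type*} [Group H] [Finite H] {p : ℕ} [Fact p.Prime] (Q : Subgroup H)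
    (hQp : IsPGroup p ↥Q) (hwc : Cfsg.IsWeaklyClosedSubgroup p Q)
    (hCQ : Subgroup.centralizer ((Q : Subgroup H) : Set H) ≤ Q) (L : Subgroup H) (hQL : Q ≤ L)
    (hM : Subgroup.centralizer
        (Cfsg.pCore p ↥(Subgroup.normalizer ((Cfsg.pCoreOf p L : Subgroup H) : Set H)) :
          Set ↥(Subgroup.normalizer ((Cfsg.pCoreOf p L : Subgroup H) : Set H))) ≤
      Cfsg.pCore p ↥(Subgroup.normalizer ((Cfsg.pCoreOf p L : Subgroup H) : Set H))) :
    ⁅Q, Subgroup.centralizer (((Cfsg.pCoreOf p L) : Subgroup H) : Set H)⁆ ≤ Q ⊓ (Cfsg.pCoreOf p L) ∧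
    IsPGroup p ↥(Subgroup.centralizer (((Cfsg.pCoreOf p L) : Subgroup H) : Set H)) ∧
    Subgroup.centralizer (Cfsg.pCore p ↥L : Set ↥L) ≤ Cfsg.pCore p ↥L := by
  classical
  have hp : p.Prime := Fact.out
  set R : Subgroup H := Cfsg.pCoreOf p L with hR
  set M : Subgroup H := Subgroup.normalizer (R : Set H) with hMdef
  set D : Subgroup H := Subgroup.centralizer (R : Set H) with hD
  have hRp : IsPGroup p ↥R := (pCore_isPGroup p ↥L).map _
  have hRL : R ≤ L := by
    rintro _ ⟨r, _, rfl⟩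
    exact r.2
  have hmemR : ∀ l : ↥L, (l : H) ∈ R ↔ l ∈ Cfsg.pCore p ↥L := by
    intro l
    constructor
    · rintro ⟨r, hr, hrl⟩
      have : r = l := Subtype.ext hrl
      rwa [← this]
    · intro hl
      exact ⟨l, hl, rfl⟩
  have hLM : L ≤ M := by
    intro l hl
    rw [hMdef, Subgroup.mem_normalizer_iff]
    have hn : (Cfsg.pCore p ↥L).Normal := pCore_normal p ↥L
    intro x
    constructor
    · intro hx
      have hxL : x ∈ L := hRL hx
      have h1 := (hmemR ⟨x, hxL⟩).mp hx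
      have h2 := hn.conj_mem _ h1 ⟨l, hl⟩
      exact (hmemR _).mpr h2
    · intro hx
      have hxL : x ∈ L := by
        have := hRL hx
        have h2 := L.mul_mem (L.mul_mem (L.inv_mem hl) this) hl
        have e : l⁻¹ * (l * x * l⁻¹) * l = x := by group
        rwa [e] at h2
      have h1 := (hmemR ⟨l * x * l⁻¹, hRL hx⟩).mp hx
      have h2 := hn.conj_mem _ h1 ⟨l, hl⟩⁻¹
      have h3 := (hmemR _).mpr h2
      have e : ((⟨l, hl⟩⁻¹ * ⟨l * x * l⁻¹, hRL hx⟩ * (⟨l, hl⟩⁻¹)⁻¹ : ↥L) : H) = x := by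
        simp only [Subgroup.coe_mul, Subgroup.coe_inv]
        group
      rwa [e] at h3
  -- conjugation by elements of M preserves R (both directions)
  have hMR : ∀ m ∈ M, ∀ r ∈ R, m * r * m⁻¹ ∈ R := by
    intro m hm r hr
    exact (Subgroup.mem_normalizer_iff.mp hm r).mp hr
  have hMR' : ∀ m ∈ M, ∀ r ∈ R, m⁻¹ * r * m ∈ R := by
    intro m hm r hr
    have := hMR m⁻¹ (M.inv_mem hm) r hr
    rwa [inv_inv] at this
  have hDM : D ≤ M := Subgroup.centralizer_le_normalizer _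
  have hDmem : ∀ d, d ∈ D ↔ ∀ r ∈ R, r * d = d * r := fun d => Subgroup.mem_centralizer_iff
  -- D is normalized by M
  have hMD : ∀ m ∈ M, ∀ d ∈ D, m * d * m⁻¹ ∈ D := by
    intro m hm d hd
    rw [hDmem]
    intro r hr
    have h1 := (hDmem d).mp hd _ (hMR' m hm r hr)
    have e1 : r * (m * d * m⁻¹) = m * ((m⁻¹ * r * m) * d) * m⁻¹ := by group
    rw [e1, h1]
    group
  have hQM : Q ≤ M := hQL.trans hLM
  -- R normalizes Q
  have hRQ : R ≤ Subgroup.normalizer (Q : Set H) :=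
    le_normalizer_of_weaklyClosed Q hQp hwc R hRp hQM
  -- P = O_p(M), as a subgroup of H
  set P : Subgroup H := (Cfsg.pCore p ↥M).map M.subtype with hP
  have hPp : IsPGroup p ↥P := (pCore_isPGroup p ↥M).map _
  have hPM : P ≤ M := by
    rintro _ ⟨a, _, rfl⟩
    exact a.2
  have hmemP : ∀ m : ↥M, (m : H) ∈ P ↔ m ∈ Cfsg.pCore p ↥M := by
    intro m
    constructor
    · rintro ⟨r, hr, hrl⟩
      have : r = m := Subtype.ext hrl
      rwa [← this]
    · intro hl
      exact ⟨m, hl, rfl⟩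
  have hMP : ∀ m ∈ M, ∀ a ∈ P, m * a * m⁻¹ ∈ P := by
    intro m hm a ha
    have hn : (Cfsg.pCore p ↥M).Normal := pCore_normal p ↥M
    have h1 := (hmemP ⟨a, hPM ha⟩).mp ha
    have h2 := hn.conj_mem _ h1 ⟨m, hm⟩
    exact (hmemP _).mpr h2
  have hMnP : M ≤ Subgroup.normalizer (P : Set H) := by
    intro m hm
    rw [Subgroup.mem_normalizer_iff]
    intro a
    constructor
    · exact hMP m hm a
    · intro h
      have := hMP m⁻¹ (M.inv_mem hm) _ h
      have e : m⁻¹ * (m * a * m⁻¹) * m⁻¹⁻¹ = a := by group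
      rwa [e] at this
  -- P ∩ L ≤ R
  have hPL : P ⊓ L ≤ R := by
    have hn : ((P ⊓ L).subgroupOf L).Normal := by
      refine ⟨fun n hn l => ?_⟩
      rw [Subgroup.mem_subgroupOf] at hn ⊢
      refine ⟨?_, (l * n * l⁻¹).2⟩
      simp only [Subgroup.coe_mul, Subgroup.coe_inv]
      exact hMP _ (hLM l.2) _ hn.1
    have hpg : IsPGroup p ↥((P ⊓ L).subgroupOf L) :=
      (hPp.to_le inf_le_left).comap_of_injective _ (Subgroup.subtype_injective _)
    have hle := le_pCore hn hpg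
    intro x hx
    have h1 : (⟨x, hx.2⟩ : ↥L) ∈ (P ⊓ L).subgroupOf L := Subgroup.mem_subgroupOf.mpr hx
    exact (hmemR ⟨x, hx.2⟩).mpr (hle h1)
  -- P normalizes Q
  have hPQ : P ≤ Subgroup.normalizer (Q : Set H) :=
    le_normalizer_of_weaklyClosed Q hQp hwc P hPp (hQM.trans hMnP)
  -- [P, Q] ≤ R
  have hcommPQ : ∀ a ∈ P, ∀ q ∈ Q, ⁅a, q⁆ ∈ R := by
    intro a ha q hq
    apply hPL
    refine ⟨?_, hQL ?_⟩
    · have h1 := hMP q (hQM hq) a⁻¹ (P.inv_mem ha)
      have e : ⁅a, q⁆ = a * (q * a⁻¹ * q⁻¹) := by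
        rw [commutatorElement_def]; group
      rw [e]
      exact P.mul_mem ha h1
    · have h1 := (Subgroup.mem_normalizer_iff.mp (hPQ ha) q).mp hq
      rw [commutatorElement_def]
      exact Q.mul_mem h1 (Q.inv_mem hq)
  -- Y = ⟨Q^D⟩
  set gens : Set H := {g | ∃ d ∈ D, ∃ q ∈ Q, g = d * q * d⁻¹} with hgens
  set Y : Subgroup H := Subgroup.closure gens with hY
  have hgensM : ∀ g ∈ gens, g ∈ M := by
    rintro g ⟨d, hd, q, hq, rfl⟩
    exact M.mul_mem (M.mul_mem (hDM hd) (hQM hq)) (M.inv_mem (hDM hd))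
  have hYM : Y ≤ M := (Subgroup.closure_le M).mpr hgensM
  have hQY : Q ≤ Y := by
    intro q hq
    apply Subgroup.subset_closure
    exact ⟨1, D.one_mem, q, hq, by simp⟩
  -- every element of Y satisfies [P, w] ≤ R
  have hYP : ∀ w ∈ Y, ∀ a ∈ P, ⁅a, w⁆ ∈ R := by
    intro w hw
    induction hw using Subgroup.closure_induction with
    | mem g hg =>
      obtain ⟨d, hd, q, hq, rfl⟩ := hg
      intro a ha
      have ha' : d⁻¹ * a * d ∈ P := by
        have := hMP d⁻¹ (M.inv_mem (hDM hd)) a ha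
        rwa [inv_inv] at this
      have h1 := hcommPQ _ ha' q hq
      have h2 := hMR d (hDM hd) _ h1
      have e : ⁅a, d * q * d⁻¹⁆ = d * ⁅d⁻¹ * a * d, q⁆ * d⁻¹ := by
        simp only [commutatorElement_def]; group
      rw [e]
      exact h2
    | one =>
      intro a _
      rw [commutatorElement_one_right]
      exact R.one_mem
    | mul g h hg hh ihg ihh =>
      intro a ha
      have hgM : g ∈ M := hYM hg
      have e : ⁅a, g * h⁆ = ⁅a, g⁆ * (g * ⁅a, h⁆ * g⁻¹) := by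
        simp only [commutatorElement_def]; group
      rw [e]
      exact R.mul_mem (ihg a ha) (hMR g hgM _ (ihh a ha))
    | inv g hg ihg =>
      intro a ha
      have hgM : g ∈ M := hYM hg
      have e : ⁅a, g⁻¹⁆ = g⁻¹ * (⁅a, g⁆)⁻¹ * g := by
        simp only [commutatorElement_def]; group
      rw [e]
      exact hMR' g hgM _ (R.inv_mem (ihg a ha))
  -- every element of Y acts on R as some element of Q
  have hYR : ∀ w ∈ Y, ∃ q ∈ Q, ∀ r ∈ R, w * r * w⁻¹ = q * r * q⁻¹ := by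
    intro w hw
    induction hw using Subgroup.closure_induction with
    | mem g hg =>
      obtain ⟨d, hd, q, hq, rfl⟩ := hg
      refine ⟨q, hq, fun r hr => ?_⟩
      have h1 : d⁻¹ * r * d = r := by
        have := (hDmem d).mp hd r hr
        calc d⁻¹ * r * d = d⁻¹ * (r * d) := by group
          _ = d⁻¹ * (d * r) := by rw [this]
          _ = r := by group
      have h2 : q * r * q⁻¹ ∈ R := hMR q (hQM hq) r hr
      have h3 : d * (q * r * q⁻¹) * d⁻¹ = q * r * q⁻¹ := by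
        have := (hDmem d).mp hd _ h2
        calc d * (q * r * q⁻¹) * d⁻¹ = (d * (q * r * q⁻¹)) * d⁻¹ := by group
          _ = ((q * r * q⁻¹) * d) * d⁻¹ := by rw [this]
          _ = q * r * q⁻¹ := by group
      calc d * q * d⁻¹ * r * (d * q * d⁻¹)⁻¹ = d * (q * (d⁻¹ * r * d) * q⁻¹) * d⁻¹ := by group
        _ = d * (q * r * q⁻¹) * d⁻¹ := by rw [h1]
        _ = q * r * q⁻¹ := h3
    | one => exact ⟨1, Q.one_mem, fun r _ => by simp⟩
    | mul g h hg hh ihg ihh =>
      obtain ⟨q₁, hq₁, h₁⟩ := ihg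
      obtain ⟨q₂, hq₂, h₂⟩ := ihh
      refine ⟨q₁ * q₂, Q.mul_mem hq₁ hq₂, fun r hr => ?_⟩
      have hr2 : q₂ * r * q₂⁻¹ ∈ R := hMR q₂ (hQM hq₂) r hr
      calc g * h * r * (g * h)⁻¹ = g * (h * r * h⁻¹) * g⁻¹ := by group
        _ = g * (q₂ * r * q₂⁻¹) * g⁻¹ := by rw [h₂ r hr]
        _ = q₁ * (q₂ * r * q₂⁻¹) * q₁⁻¹ := h₁ _ hr2
        _ = q₁ * q₂ * r * (q₁ * q₂)⁻¹ := by group
    | inv g hg ihg =>
      obtain ⟨q, hq, h₁⟩ := ihg
      refine ⟨q⁻¹, Q.inv_mem hq, fun r hr => ?_⟩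
      have hr2 : q⁻¹ * r * q ∈ R := hMR' q (hQM hq) r hr
      have h3 := h₁ _ hr2
      have e : q * (q⁻¹ * r * q) * q⁻¹ = r := by group
      rw [e] at h3
      calc g⁻¹ * r * g⁻¹⁻¹ = g⁻¹ * (g * (q⁻¹ * r * q) * g⁻¹) * g := by rw [h3]; group
        _ = q⁻¹ * r * q⁻¹⁻¹ := by group
  -- p'-elements of Y centralize R
  have hYcent : ∀ w ∈ Y, (orderOf w).Coprime p → ∀ r ∈ R, r * w = w * r := by
    intro w hw hwo
    obtain ⟨q, hq, hwq⟩ := hYR w hw
    have hpow : ∀ k : ℕ, ∀ r ∈ R, w ^ k * r * (w ^ k)⁻¹ = q ^ k * r * (q ^ k)⁻¹ := by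
      intro k
      induction k with
      | zero => intro r _; simp
      | succ k ih =>
        intro r hr
        have hr2 : q ^ k * r * (q ^ k)⁻¹ ∈ R := hMR _ (M.pow_mem (hQM hq) k) r hr
        calc w ^ (k + 1) * r * (w ^ (k + 1))⁻¹ = w * (w ^ k * r * (w ^ k)⁻¹) * w⁻¹ := by
              rw [pow_succ']; group
          _ = w * (q ^ k * r * (q ^ k)⁻¹) * w⁻¹ := by rw [ih r hr]
          _ = q * (q ^ k * r * (q ^ k)⁻¹) * q⁻¹ := hwq _ hr2
          _ = q ^ (k + 1) * r * (q ^ (k + 1))⁻¹ := by rw [pow_succ']; group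
    obtain ⟨j, hj⟩ := (IsPGroup.iff_orderOf.mp hQp) ⟨q, hq⟩
    have hqj : q ^ (p ^ j) = 1 := by
      have h1 : orderOf q = p ^ j := by
        rw [← hj]
        exact Subgroup.orderOf_coe (⟨q, hq⟩ : ↥Q)
      rw [← h1]
      exact pow_orderOf_eq_one q
    have hcop : (p ^ j).Coprime (orderOf w) := (Nat.Coprime.pow_right j hwo).symm
    obtain ⟨m, hm⟩ := exists_pow_eq_self_of_coprime hcop
    intro r hr
    have h1 := hpow (p ^ j) r hr
    rw [hqj] at h1
    have h2 : Commute (w ^ (p ^ j)) r := by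
      have : w ^ (p ^ j) * r = r * w ^ (p ^ j) := by
        calc w ^ (p ^ j) * r = (w ^ (p ^ j) * r * (w ^ (p ^ j))⁻¹) * w ^ (p ^ j) := by group
          _ = r * w ^ (p ^ j) := by rw [h1]; group
      exact this
    have h3 : Commute ((w ^ (p ^ j)) ^ m) r := h2.pow_left m
    rw [hm] at h3
    exact h3.eq.symm
  -- Y is a p-group
  have hYp : IsPGroup p ↥Y := by
    apply isPGroup_of_forall_coprime_eq_one
    intro w hw hwo
    have hwM : w ∈ M := hYM hw
    have hone : (⟨w, hwM⟩ : ↥M) = 1 := by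
      apply eq_one_of_stabilizes hM (R.subgroupOf M) ⟨w, hwM⟩
      · rw [← Subgroup.orderOf_coe]
        exact hwo
      · intro a ha
        have haR : (a : H) ∈ R := Subgroup.mem_subgroupOf.mp ha.2
        apply Subtype.ext
        simp only [Subgroup.coe_mul]
        exact hYcent w hw hwo _ haR
      · intro a ha
        rw [Subgroup.mem_subgroupOf]
        have haP : (a : H) ∈ P := (hmemP a).mpr ha
        have := hYP w hw _ haP
        simpa [commutatorElement_def] using this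
    exact congrArg Subtype.val hone
  -- D normalizes Q
  have hDQ : D ≤ Subgroup.normalizer (Q : Set H) := by
    intro d hd
    apply Cfsg.Agent.Lib.Helper56.mem_normalizer_of_map_conj_eq
    apply weaklyClosed_conj_eq Q hwc Y hYp hQY
    rintro _ ⟨q, hq, rfl⟩
    apply Subgroup.subset_closure
    exact ⟨d, hd, q, hq, by simp [MulAut.conj_apply]⟩
  have hDQ' : ∀ d ∈ D, ∀ q ∈ Q, d * q * d⁻¹ ∈ Q := by
    intro d hd q hq
    exact (Subgroup.mem_normalizer_iff.mp (hDQ hd) q).mp hq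
  -- Q ∩ D ≤ R
  have hQDR : Q ⊓ D ≤ R := by
    have hDn : (D.subgroupOf M).Normal := by
      refine ⟨fun n hn m => ?_⟩
      rw [Subgroup.mem_subgroupOf] at hn ⊢
      simp only [Subgroup.coe_mul, Subgroup.coe_inv]
      exact hMD _ m.2 _ hn
    have hle : (Q ⊓ D).subgroupOf M ≤ Cfsg.pCore p ↥M := by
      apply Cfsg.Agent.Lib.Helper53.le_pCore_of_subnormal hDn.isSubnormal
      · intro x hx
        rw [Subgroup.mem_subgroupOf] at hx ⊢
        exact hx.2
      · intro d hd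
        rw [Subgroup.mem_subgroupOf] at hd
        have key : ∀ (d' : H) (hd' : d' ∈ D) (x : ↥M), x ∈ (Q ⊓ D).subgroupOf M →
            (⟨d', hDM hd'⟩ : ↥M) * x * (⟨d', hDM hd'⟩ : ↥M)⁻¹ ∈ (Q ⊓ D).subgroupOf M := by
          intro d' hd' x hx
          rw [Subgroup.mem_subgroupOf] at hx ⊢
          simp only [Subgroup.coe_mul, Subgroup.coe_inv]
          exact ⟨hDQ' d' hd' _ hx.1, hMD d' (hDM hd') _ hx.2⟩
        rw [Subgroup.mem_normalizer_iff]
        intro x
        constructor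
        · intro hx
          exact key (d : H) hd x hx
        · intro hx
          have := key ((d : H))⁻¹ (D.inv_mem hd) _ hx
          have e : (⟨((d : H))⁻¹, hDM (D.inv_mem hd)⟩ : ↥M) * (d * x * d⁻¹) *
              (⟨((d : H))⁻¹, hDM (D.inv_mem hd)⟩ : ↥M)⁻¹ = x := by
            apply Subtype.ext
            simp only [Subgroup.coe_mul, Subgroup.coe_inv]
            group
          rwa [e] at this
      · exact (hQp.to_le inf_le_left).comap_of_injective _ (Subgroup.subtype_injective _)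
    intro x hx
    apply hPL
    refine ⟨?_, hQL hx.1⟩
    have hxM : x ∈ M := hDM hx.2
    have h1 : (⟨x, hxM⟩ : ↥M) ∈ (Q ⊓ D).subgroupOf M := Subgroup.mem_subgroupOf.mpr hx
    exact (hmemP ⟨x, hxM⟩).mpr (hle h1)
  -- D is a p-group
  have hDp : IsPGroup p ↥D := by
    apply isPGroup_of_forall_coprime_eq_one
    intro x hx hxo
    have hcent := axb_lemma Q R x hQp hRp hRQ (hDQ hx) ((hDmem x).mp hx) hxo (by
      intro a ha hab
      have haD : a ∈ D := by
        rw [hDmem]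
        exact hab
      have haR : a ∈ R := hQDR ⟨ha, haD⟩
      exact (hDmem x).mp hx a haR)
    have hxQ : x ∈ Q := by
      apply hCQ
      rw [Subgroup.mem_centralizer_iff]
      exact hcent
    obtain ⟨k, hk⟩ := (IsPGroup.iff_orderOf.mp hQp) ⟨x, hxQ⟩
    have h1 : orderOf x = p ^ k := by
      rw [← hk]
      exact Subgroup.orderOf_coe (⟨x, hxQ⟩ : ↥Q)
    apply eq_one_of_coprime_of_pow_eq_one hxo (k := k)
    rw [← h1]
    exact pow_orderOf_eq_one x
  refine ⟨?_, hDp, ?_⟩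
  · rw [Subgroup.commutator_le]
    intro q hq d hd
    have h1 : ⁅q, d⁆ ∈ Q := by
      have := hDQ' d hd q⁻¹ (Q.inv_mem hq)
      have e : ⁅q, d⁆ = q * (d * q⁻¹ * d⁻¹) := by rw [commutatorElement_def]; group
      rw [e]
      exact Q.mul_mem hq this
    have h2 : ⁅q, d⁆ ∈ D := by
      rw [commutatorElement_def]
      exact D.mul_mem (hMD q (hQM hq) d hd) (D.inv_mem hd)
    exact ⟨h1, hQDR ⟨h1, h2⟩⟩
  · have hn : ((D ⊓ L).subgroupOf L).Normal := by
      refine ⟨fun n hn l => ?_⟩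
      rw [Subgroup.mem_subgroupOf] at hn ⊢
      refine ⟨?_, (l * n * l⁻¹).2⟩
      simp only [Subgroup.coe_mul, Subgroup.coe_inv]
      exact hMD _ (hLM l.2) _ hn.1
    have hpg : IsPGroup p ↥((D ⊓ L).subgroupOf L) :=
      (hDp.to_le inf_le_left).comap_of_injective _ (Subgroup.subtype_injective _)
    have hle := le_pCore hn hpg
    intro c hc
    apply hle
    rw [Subgroup.mem_subgroupOf]
    refine ⟨?_, c.2⟩
    show (c : H) ∈ D
    rw [hDmem]
    intro r hr
    have hrL : r ∈ L := hRL hr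
    have h1 := (hmemR ⟨r, hrL⟩).mp hr
    have h2 := (Subgroup.mem_centralizer_iff.mp hc) _ h1
    exact congrArg Subtype.val h2

theorem result {H : Type*} [Group H] [Finite H] {p : ℕ} [Fact p.Prime] (Q : Subgroup H) (hQp : IsPGroup p ↥Q) (hQ1 : Q ≠ ⊥) (hwc : Cfsg.IsWeaklyClosedSubgroup p Q) (hCQ : Subgroup.centralizer ((Q : Subgroup H) : Set H) ≤ Q) (L : Subgroup H) (hQL : Q ≤ L) (hyp : Subgroup.centralizer (Cfsg.pCore p H : Set H) ≤ Cfsg.pCore p H ∨ ∃ y : H, y ≠ 1 ∧ y ∈ (Cfsg.pCoreOf p L) ⊓ Subgroup.centralizer ((Q : Subgroup H) : Set H) ∧ Subgroup.centralizer (Cfsg.pCore p ↥(Subgroup.centralizer ({y} : Set H)) : Set ↥(Subgroup.centralizer ({y} : Set H))) ≤ Cfsg.pCore p ↥(Subgroup.centralizer ({y} : Set H))) : ⁅Q, Subgroup.centralizer (((Cfsg.pCoreOf p L) : Subgroup H) : Set H)⁆ ≤ Q ⊓ (Cfsg.pCoreOf p L) ∧ IsPGroup p ↥(Subgroup.centralizer (((Cfsg.pCoreOf p L) : Subgroup H) : Set H)) ∧ Subgroup.centralizer (Cfsg.pCore p ↥L : Set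 ↥L) ≤ Cfsg.pCore p ↥L := by
  have hRp : IsPGroup p ↥(Cfsg.pCoreOf p L) :=
    (Cfsg.Agent.Lib.Helper54.pCore_isPGroup p ↥L).map _
  apply core Q hQp hwc hCQ L hQL
  rcases hyp with hH | ⟨y, _, hy, hC⟩
  · exact charP_normalizer hH _ hRp
  · exact charP_normalizer_of_mem _ hRp y hy.1 hC

end Cfsg.Agent.S2842
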