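import Cfsg.Statements.S2843
import Cfsg.Agent.S2840
import Cfsg.Agent.Lib.Helper54.CommStab
import Cfsg.Agent.Lib.Helper54.PReduced
import Cfsg.Agent.Lib.Helper55.Coprime

set_option autoImplicit false
open Cfsg
open Cfsg.Agent.Lib.Helper54

namespace Cfsg.Agent.S2843

/-- Let Q be a nontrivial large p-subgroup of the finite group H, Q ≤ L ≤ H, and Y a nontrivial p-subgroup of H normalized by L. Let L° be the weak closure of Q in L (generated by the conjugates of Q inside L). Then L° equals the weak closure of Q in L·C_H(Y), and [L°, C_H(Y)] ≤ O_p(L°); in particular C_H(Y) normalizes L°. -/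
theorem result {H : Type*} [Group H] [Finite H] {p : ℕ} [Fact p.Prime] (Q : Subgroup H) (hQp : IsPGroup p ↥Q) (hQ1 : Q ≠ ⊥) (hL : Cfsg.IsLarge Q) (L : Subgroup H) (hQL : Q ≤ L) (Y : Subgroup H) (hYp : IsPGroup p ↥Y) (hY1 : Y ≠ ⊥) (hLY : L ≤ Subgroup.normalizer ((Y : Subgroup H) : Set H)) : Cfsg.weakClosure Q L = Cfsg.weakClosure Q (L ⊔ Subgroup.centralizer ((Y : Subgroup H) : Set H)) ∧ ⁅Cfsg.weakClosure Q L, Subgroup.centralizer ((Y : Subgroup H) : Set H)⁆ ≤ (Cfsg.pCoreOf p (Cfsg.weakClosure Q L)) ∧ Subgroup.centralizer ((Y : Subgroup H) : Set H) ≤ Subgroup.normalizer (((Cfsg.weakClosure Q L) : Subgroup H) : Set H) := by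
  -- Q is a weakly closed subgroup
  have hwc : Cfsg.IsWeaklyClosedSubgroup p Q := by
    obtain ⟨S, hS⟩ := hQp.exists_le_sylow
    refine ⟨S, hS, ?_⟩
    intro g hg
    exact Cfsg.Agent.Lib.Helper55.large_weaklyClosed hL hQp hQ1 S.isPGroup' hS hg
  have hCn : L ≤ Subgroup.normalizer ((Subgroup.centralizer (Y : Set H) : Subgroup H) : Set H) :=
    hLY.trans (normalizer_le_normalizer_centralizer' Y)
  have hL1 := (Cfsg.Agent.S2840.result Q hQp hQ1 hwc L hQL _ rfl).1
  have hL2 := (Cfsg.Agent.S2840.result Q hQp hQ1 hwc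
    (L ⊔ Subgroup.centralizer (Y : Set H)) (hQL.trans le_sup_left) _ rfl).1
  -- conjugates of Q by elements of L
  have hconjL : ∀ l : ↥L, Q.map (MulAut.conj (l : H)).toMonoidHom ≤ L := by
    rintro l _ ⟨q, hq, rfl⟩
    exact L.mul_mem (L.mul_mem l.2 (hQL hq)) (L.inv_mem l.2)
  -- C_H(Y) normalises every L-conjugate of Q
  have hCQ : ∀ l : ↥L, Subgroup.centralizer (Y : Set H) ≤
      Subgroup.normalizer ((Q.map (MulAut.conj (l : H)).toMonoidHom : Subgroup H) : Set H) := by
    intro l
    have hLg : Cfsg.IsLarge (Q.map (MulAut.conj (l : H)).toMonoidHom) :=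
      Cfsg.Agent.Lib.Helper55.isLarge_cj hL (l : H)
    have hp' : IsPGroup p ↥(Q.map (MulAut.conj (l : H)).toMonoidHom) := hQp.map _
    have hU := Cfsg.Agent.Lib.Helper55.inf_centralizer_ne_bot_of_le_normalizer hp' hYp hY1
      ((hconjL l).trans hLY)
    have h1 := hLg.2 _ inf_le_right hU
    refine le_trans ?_ h1
    refine le_trans (Subgroup.centralizer_le ?_) (Subgroup.centralizer_le_normalizer _)
    intro x hx
    exact (Subgroup.mem_inf.1 hx).1
  -- first claim
  have hfirst : Cfsg.weakClosure Q L =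
      Cfsg.weakClosure Q (L ⊔ Subgroup.centralizer ((Y : Subgroup H) : Set H)) := by
    rw [hL1, hL2]
    apply le_antisymm
    · apply iSup_le
      intro l
      exact le_iSup (fun k : ↥(L ⊔ Subgroup.centralizer (Y : Set H)) =>
        Q.map (MulAut.conj (k : H)).toMonoidHom) ⟨(l : H), Subgroup.mem_sup_left l.2⟩
    · apply iSup_le
      rintro ⟨k, hk⟩
      obtain ⟨c, hc, l, hl, rfl⟩ := exists_mul_of_mem_sup_of_le_normalizer hCn
        (by rw [sup_comm]; exact hk)
      show Q.map (MulAut.conj (c * l)).toMonoidHom ≤ _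
      rw [map_conj_mul, map_conj_eq_of_mem_normalizer (hCQ ⟨l, hl⟩ hc)]
      exact le_iSup (fun k : ↥L => Q.map (MulAut.conj (k : H)).toMonoidHom) ⟨l, hl⟩
  have hLc_le : Cfsg.weakClosure Q L ≤ L := by
    rw [hL1]; exact iSup_le hconjL
  -- third claim
  have hthird : Subgroup.centralizer ((Y : Subgroup H) : Set H) ≤
      Subgroup.normalizer (((Cfsg.weakClosure Q L) : Subgroup H) : Set H) := by
    rw [hL1]
    intro c hc
    apply mem_normalizer_iSup
    · intro l
      exact ⟨l, map_conj_eq_of_mem_normalizer (hCQ l hc)⟩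
    · intro l
      exact ⟨l, map_conj_eq_of_mem_normalizer (hCQ l (Subgroup.inv_mem _ hc))⟩
  refine ⟨hfirst, ?_, hthird⟩
  -- second claim
  have hPn : L ≤ Subgroup.normalizer
      ((pCoreOf p (Subgroup.centralizer (Y : Set H)) : Subgroup H) : Set H) :=
    hCn.trans (normalizer_le_normalizer_pCoreOf p _)
  have hPC : Subgroup.centralizer (Y : Set H) ≤ Subgroup.normalizer
      ((pCoreOf p (Subgroup.centralizer (Y : Set H)) : Subgroup H) : Set H) :=
    le_normalizer_pCoreOf p _
  have h2 : ⁅Cfsg.weakClosure Q L, Subgroup.centralizer ((Y : Subgroup H) : Set H)⁆ ≤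
      pCoreOf p (Subgroup.centralizer (Y : Set H)) := by
    rw [hL1]
    apply iSup_commutator_le
    · intro l
      exact (hconjL l).trans hPn
    · intro l
      have h3 : ⁅Q.map (MulAut.conj (l : H)).toMonoidHom, Subgroup.centralizer (Y : Set H)⁆ ≤
          Q.map (MulAut.conj (l : H)).toMonoidHom ⊓ Subgroup.centralizer (Y : Set H) := by
        apply le_inf
        · exact Subgroup.le_normalizer_iff_commutator_le_left.1 (hCQ l)
        · exact Subgroup.le_normalizer_iff_commutator_le_right.1 ((hconjL l).trans hCn)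
      refine h3.trans ?_
      apply le_pCoreOf inf_le_right
      · exact le_normalizer_inf (hCQ l) Subgroup.le_normalizer
      · have hp' : IsPGroup p ↥(Q.map (MulAut.conj (l : H)).toMonoidHom) := hQp.map _
        exact hp'.to_le inf_le_left
  have h4 : ⁅Cfsg.weakClosure Q L, Subgroup.centralizer ((Y : Subgroup H) : Set H)⁆ ≤
      Cfsg.weakClosure Q L :=
    Subgroup.le_normalizer_iff_commutator_le_left.1 hthird
  refine (le_inf h2 h4).trans ?_
  apply le_pCoreOf inf_le_right
  · exact le_normalizer_inf (hLc_le.trans hPn) Subgroup.le_normalizer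
  · exact (isPGroup_pCoreOf p _).to_le inf_le_left

end Cfsg.Agent.S2843
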