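import Cfsg.Statements.S2845
import Cfsg.Agent.Lib.Helper55.LargeChar

set_option autoImplicit false
open Cfsg

namespace Cfsg.Agent.S2845

open Cfsg.Agent.Lib.Helper55

/-- Let Q be a nontrivial large p-subgroup of the finite group H. Then for every subgroup L ≥ Q with O_p(L) ≠ 1, C_H(O_p(L)) is a p-group and L has characteristic p, and either the weak closure L° of Q in L equals Q or C_H(L°) = 1; for every subgroup R of H containing a Sylow p-subgroup of H with O_p(R) ≠ 1, C_H(O_p(R)) ≤ O_p(R); and H has parabolic characteristic p. -/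
theorem result {H : Type*} [Group H] [Finite H] {p : ℕ} [Fact p.Prime] (Q : Subgroup H) (hQp : IsPGroup p ↥Q) (hQ1 : Q ≠ ⊥) (hL : Cfsg.IsLarge Q) : (∀ L : Subgroup H, Q ≤ L → Cfsg.pCore p ↥L ≠ ⊥ → IsPGroup p ↥(Subgroup.centralizer (((Cfsg.pCoreOf p L) : Subgroup H) : Set H)) ∧ Subgroup.centralizer (Cfsg.pCore p ↥L : Set ↥L) ≤ Cfsg.pCore p ↥L ∧ (Cfsg.weakClosure Q L = Q ∨ Subgroup.centralizer (((Cfsg.weakClosure Q L) : Subgroup H) : Set H) = ⊥)) ∧ (∀ R : Subgroup H, Cfsg.IsParabolic p R → Cfsg.pCore p ↥R ≠ ⊥ → Subgroup.centralizer (((Cfsg.pCoreOf p R) : Subgroup H) : Set H) ≤ (Cfsg.pCoreOf p R)) ∧ Cfsg.IsOfParabolicCharacteristic p H := by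
  refine ⟨?_, ?_, ?_⟩
  · intro L hQL hR1
    have hR1' : pCoreOf p L ≠ ⊥ := fun h => hR1 ((pCoreOf_eq_bot_iff L).mp h)
    refine ⟨large_isPGroup_centralizer_pCoreOf hL hQp hQ1 hQL hR1',
      large_charP hL hQp hQ1 hQL hR1, ?_⟩
    by_cases hall : ∀ g : H, cj g Q ≤ L → cj g Q = Q
    · left
      unfold weakClosure
      apply le_antisymm
      · apply iSup_le
        rintro ⟨g, hg⟩
        exact (hall g hg).le
      · have h1 : cj (1 : H) Q ≤ L := by rw [cj_one]; exact hQL
        have := le_iSup (fun g : {g : H // Q.map (MulAut.conj g).toMonoidHom ≤ L} =>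
          Q.map (MulAut.conj (g : H)).toMonoidHom) ⟨1, h1⟩
        simp only at this
        have e : Q.map (MulAut.conj (1 : H)).toMonoidHom = Q := cj_one Q
        rw [e] at this
        exact this
    · right
      obtain ⟨g, hg⟩ := not_forall.mp hall
      obtain ⟨hgL, hgQ⟩ := Classical.not_imp.mp hg
      have hgN : g ∉ Subgroup.normalizer (Q : Set H) := fun h => hgQ (cj_eq_self_iff.mpr h)
      have h0 := large_centralizer_inf_centralizer_cj hL hQp hQ1 hgN
      have h1 : Q ≤ weakClosure Q L := by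
        have h1 : cj (1 : H) Q ≤ L := by rw [cj_one]; exact hQL
        have := le_iSup (fun g : {g : H // Q.map (MulAut.conj g).toMonoidHom ≤ L} =>
          Q.map (MulAut.conj (g : H)).toMonoidHom) ⟨1, h1⟩
        simp only at this
        have e : Q.map (MulAut.conj (1 : H)).toMonoidHom = Q := cj_one Q
        rw [e] at this
        exact this
      have h2 : cj g Q ≤ weakClosure Q L :=
        le_iSup (fun g : {g : H // Q.map (MulAut.conj g).toMonoidHom ≤ L} =>
          Q.map (MulAut.conj (g : H)).toMonoidHom) ⟨g, hgL⟩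
      apply le_bot_iff.mp
      rw [← h0]
      exact le_inf (Subgroup.centralizer_le h1) (Subgroup.centralizer_le h2)
  · intro R hpar hR1
    exact large_parabolic hL hQp hQ1 hpar hR1
  · intro R hRp hR1 hpar
    set N := Subgroup.normalizer (R : Set H) with hN
    have hRN : R ≤ pCoreOf p N := le_pCoreOf Subgroup.le_normalizer le_rfl hRp
    have hN1 : pCore p ↥N ≠ ⊥ := by
      intro h
      have := (pCoreOf_eq_bot_iff (p := p) N).mpr h
      rw [this] at hRN
      exact hR1 (le_bot_iff.mp hRN)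
    have := large_parabolic hL hQp hQ1 hpar hN1
    apply centralizer_pCore_le_of_pCoreOf
    exact inf_le_right.trans this

end Cfsg.Agent.S2845
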