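import Cfsg.Statements.S2846
import Cfsg.Agent.Lib.Helper55.FrakMExist
import Cfsg.Agent.S2843

set_option autoImplicit false
open Cfsg
open Cfsg.Agent.Lib.Helper55

namespace Cfsg.Agent.S2846

/-- Let Q be a nontrivial large p-subgroup of the finite group H, S a Sylow p-subgroup containing Q, and L a subgroup containing S with O_p(L) ≠ 1 and C_H(O_p(L)) ≤ O_p(L). Then there are a subgroup M containing S having the basic property (M ∈ 𝔐_H, writing Y_X for the largest p-reduced normal subgroup of X and 𝓛_H for the set of subgroups X with O_p(X) ≠ 1 and C_H(O_p(X)) ≤ O_p(X): M ∈ 𝓛_H, M·C_H(Y_M) is the only maximal member of 𝓛_H containing M and its largest p-reduced normal subgroup is again Y_M, C_M(Y_M) is p-closed, and the image of C_M(Y_M) in M/O_p(M) lies in the Frattini subgroup of M/O_p(M)) and a subgroup L* with S ≤ L* ≤ M, O_p(L*) ≠ 1, C_H(O_p(L*)) ≤ O_p(L*), such that L·C_H(Y_L) = L*·C_H(Y_L), the weak closures of Q in L and in L* agree and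 lie in that of M, and Y_L = Y_{L*} ≤ Y_M. If moreover Q is not normal in L, then Q is normal in neither L* nor M. -/
theorem result {H : Type*} [Group H] [Finite H] {p : ℕ} [Fact p.Prime] (Q : Subgroup H) (hQp : IsPGroup p ↥Q) (hQ1 : Q ≠ ⊥) (hLg : Cfsg.IsLarge Q) (S : Sylow p H) (hQS : Q ≤ (S : Subgroup H)) (L : Subgroup H) (hSL : (S : Subgroup H) ≤ L) (hL : L ∈ Cfsg.charPSubgroups p H) : ∃ M Ls : Subgroup H, (S : Subgroup H) ≤ M ∧ Cfsg.IsInFrakM p M ∧ (S : Subgroup H) ≤ Ls ∧ Ls ≤ M ∧ Ls ∈ Cfsg.charPSubgroups p H ∧ L ⊔ Subgroup.centralizer (((Cfsg.largestPReducedOf p L) : Subgroup H) : Set H) = Ls ⊔ Subgroup.centralizer (((Cfsg.largestPReducedOf p L) : Subgroup H) : Set H) ∧ Cfsg.weakClosure Q L = Cfsg.weakClosure Q Ls ∧ Cfsg.weakClosure Q Ls ≤ Cfsg.weakClosure Q M ∧ (Cfsg.largestPReducedOf p L) = (Cfsg.largestPReducedOf p Ls) ∧ (Cfsg.largestPReducedOf p Ls) ≤ (Cfsg.largestPReducedOf p M) ∧ (¬ L ≤ Subgroup.normalizer ((Q : Subgroup H) : Set H)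 → ¬ Ls ≤ Subgroup.normalizer ((Q : Subgroup H) : Set H) ∧ ¬ M ≤ Subgroup.normalizer ((Q : Subgroup H) : Set H)) := by
  have hpar : ∀ X : Subgroup H, (S : Subgroup H) ≤ X → pCoreOf p X ≠ ⊥ →
      X ∈ charPSubgroups p H := by
    intro X hSX hX1
    have hX1' : pCore p ↥X ≠ ⊥ := fun h => hX1 ((pCoreOf_eq_bot_iff X).mpr h)
    exact ⟨hX1', large_parabolic hLg hQp hQ1 ⟨S, hSX⟩ hX1'⟩
  obtain ⟨M, Ls, h1, h2, h3, h4, h5, h6, h7, h8⟩ := exists_frakM S hpar L hSL hL
  have hS1 : (S : Subgroup H) ≠ ⊥ := by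
    intro h
    rw [h] at hQS
    exact hQ1 (le_bot_iff.mp hQS)
  have hcharL := localChar_of_mem_charP hL
  have hY1 := largestPReducedOf_ne_bot S hS1 hSL hcharL
  have hYp := isPGroup_largestPReducedOf (p := p) L
  have hLY : L ≤ Subgroup.normalizer ((largestPReducedOf p L : Subgroup H) : Set H) :=
    le_normalizer_largestPReducedOf L
  have hLsY : Ls ≤ Subgroup.normalizer ((largestPReducedOf p L : Subgroup H) : Set H) := by
    rw [h6]; exact le_normalizer_largestPReducedOf Ls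
  have w1 := (Cfsg.Agent.S2843.result Q hQp hQ1 hLg L (hQS.trans hSL) _ hYp hY1 hLY).1
  have w2 := (Cfsg.Agent.S2843.result Q hQp hQ1 hLg Ls (hQS.trans h3) _ hYp hY1 hLsY).1
  have hCN : CY p L ≤ Subgroup.normalizer (Q : Set H) := by
    have hU1 := omegaOne_center_ne_bot S hS1
    have hUY := omegaOne_center_le_largestPReducedOf S hSL hcharL
    have hUC : omegaOne p ((S : Subgroup H) ⊓ Subgroup.centralizer ((S : Subgroup H) : Set H)) ≤
        Subgroup.centralizer (Q : Set H) :=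
      (Cfsg.Agent.Lib.Helper54.omegaOne_le p _).trans
        (inf_le_right.trans (Subgroup.centralizer_le hQS))
    exact ((Subgroup.centralizer_le hUY).trans (Subgroup.centralizer_le_normalizer _)).trans
      (hLg.2 _ hUC hU1)
  refine ⟨M, Ls, h1, h2, h3, h4, h5, h8, ?_, weakClosure_mono Q h4, h6, ?_, ?_⟩
  · rw [w1, w2]
    exact congrArg (Cfsg.weakClosure Q) h8
  · rw [← h6]; exact h7
  · intro hnL
    have hnLs : ¬ Ls ≤ Subgroup.normalizer (Q : Set H) := by
      intro h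
      apply hnL
      calc L ≤ L ⊔ CY p L := le_sup_left
        _ = Ls ⊔ CY p L := h8
        _ ≤ Subgroup.normalizer (Q : Set H) := sup_le h hCN
    exact ⟨hnLs, fun h => hnLs (h4.trans h)⟩

end Cfsg.Agent.S2846
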