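import Cfsg.Statements.S2849
import Cfsg.Agent.Lib.Helper55.ElemAb

set_option autoImplicit false
open Cfsg

namespace Cfsg.Agent.S2849

open Cfsg.Agent.Lib.Helper55

/-- Standing hypotheses: G a finite group, S a Sylow p-subgroup, Q a nontrivial large p-subgroup of G contained in S (C_G(Q) ≤ Q and N_G(U) ≤ N_G(Q) for all nontrivial U ≤ C_G(Q)), and M a subgroup containing S with the basic property (M ∈ 𝔐_G(S)); Y_M denotes the largest p-reduced normal subgroup of M and M† = M·C_G(Y_M). Suppose Y_M is asymmetric in G. Then for every subgroup R with Y_M ≤ R ≤ M†, the normal closure of Y_M in N_G(R) is elementary abelian. -/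
theorem result {G : Type*} [Group G] [Finite G] {p : ℕ} [Fact p.Prime] (S : Sylow p G) (Q : Subgroup G) (hQp : IsPGroup p ↥Q) (hQ1 : Q ≠ ⊥) (hQS : Q ≤ (S : Subgroup G)) (hQ : Cfsg.IsLarge Q) (M : Subgroup G) (hSM : (S : Subgroup G) ≤ M) (hM : Cfsg.IsInFrakM p M) (hasym : ¬ Cfsg.IsSymmetricIn (Cfsg.largestPReducedOf p M)) (R : Subgroup G) (hYR : (Cfsg.largestPReducedOf p M) ≤ R) (hRM : R ≤ (M ⊔ Subgroup.centralizer (((Cfsg.largestPReducedOf p M) : Subgroup G) : Set G))) : Cfsg.IsElementaryAbelian p ((Subgroup.normalClosure ((((Cfsg.largestPReducedOf p M)).subgroupOf (Subgroup.normalizer ((R : Subgroup G) : Set G)) : Subgroup ↥(Subgroup.normalizer ((R : Subgroup G) : Set G))) : Set ↥(Subgroup.normalizer ((R : Subgroup G) : Set G)))).map (Subgroup.normalizer ((R : Subgroup G) : Set G)).subtype) := by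
  set Y := largestPReducedOf p M with hY
  set N := Subgroup.normalizer (R : Set G) with hN
  -- M† normalizes Y
  have hMdY : (M ⊔ Subgroup.centralizer (Y : Set G)) ≤ Subgroup.normalizer (Y : Set G) :=
    sup_le (le_normalizer_largestPReducedOf M) (Subgroup.centralizer_le_normalizer _)
  have hRY : R ≤ Subgroup.normalizer (Y : Set G) := hRM.trans hMdY
  -- for g ∈ N, cj g Y ≤ N(Y)
  have h1 : ∀ g ∈ N, cj g Y ≤ Subgroup.normalizer (Y : Set G) := by
    intro g hg
    have : cj g R = R := cj_eq_self_iff.mpr hg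
    exact ((cj_mono hYR).trans this.le).trans hRY
  have h2 : ∀ g ∈ N, Y ≤ Subgroup.normalizer ((cj g Y : Subgroup G) : Set G) := by
    intro g hg
    have := h1 g⁻¹ (N.inv_mem hg)
    rw [← le_cj_iff, cj_normalizer] at this
    exact this
  have h3 : ∀ g ∈ N, cj g Y ≤ Subgroup.centralizer (Y : Set G) := by
    intro g hg
    have hc := commutator_le_inf_of_normalize (h2 g hg) (h1 g hg)
    have : ⁅Y, cj g Y⁆ = ⊥ := by
      by_contra hne
      exact hasym ⟨g, hne, hc⟩
    rw [Subgroup.commutator_eq_bot_iff_le_centralizer] at this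
    rwa [Subgroup.le_centralizer_iff]
  -- pairwise commuting
  have hcomm : ∀ i j : N, cj (i : G) Y ≤
      Subgroup.centralizer ((cj (j : G) Y : Subgroup G) : Set G) := by
    intro i j
    have := h3 ((j : G)⁻¹ * i) (N.mul_mem (N.inv_mem j.2) i.2)
    have := cj_mono (g := (j : G)) this
    rw [← cj_mul, cj_centralizer] at this
    simpa using this
  have hexp : ∀ i : N, ∀ a ∈ cj (i : G) Y, a ^ p = 1 := by
    intro i a ha
    rw [mem_cj] at ha
    have := largestPReducedOf_pow_eq_one M _ ha
    have e : (i : G)⁻¹ * a * (i : G) = (MulAut.conj (i : G)⁻¹) a := by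
      simp [MulAut.conj_apply]
    rw [e, ← map_pow] at this
    have h5 := (MulAut.conj (i : G)⁻¹).injective (this.trans (map_one _).symm)
    exact h5
  obtain ⟨hX1, hX2⟩ := iSup_comm_exp (fun i : N => cj (i : G) Y) hcomm hexp
  exact isElementaryAbelian_of_le hX1 hX2 (map_normalClosure_subgroupOf_le N Y)

end Cfsg.Agent.S2849
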