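import Cfsg.Statements.S2850
import Cfsg.Agent.Lib.Helper52.MSS26

set_option autoImplicit false
open Cfsg

namespace Cfsg.Agent.S2850

/-- Standing hypotheses: G a finite group, S a Sylow p-subgroup, Q a nontrivial large p-subgroup of G contained in S (C_G(Q) ≤ Q and N_G(U) ≤ N_G(Q) for all nontrivial U ≤ C_G(Q)), and M a subgroup containing S with the basic property (M ∈ 𝔐_G(S)); Y_M denotes the largest p-reduced normal subgroup of M and M† = M·C_G(Y_M). Suppose Y_M is asymmetric in G. Then N_G(L) ≤ N_G(O_p(M)) ≤ M† for every p-subgroup L containing O_p(M); O_p(M) is a weakly closed subgroup of G; for every subgroup L containing O_p(M), L ∩ M† contains a Sylow p-subgroup of L; and two elements of Y_M conjugate in G are conjugate in M. -/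
theorem result {G : Type*} [Group G] [Finite G] {p : ℕ} [Fact p.Prime] (S : Sylow p G) (Q : Subgroup G) (hQp : IsPGroup p ↥Q) (hQ1 : Q ≠ ⊥) (hQS : Q ≤ (S : Subgroup G)) (hQ : Cfsg.IsLarge Q) (M : Subgroup G) (hSM : (S : Subgroup G) ≤ M) (hM : Cfsg.IsInFrakM p M) (hasym : ¬ Cfsg.IsSymmetricIn (Cfsg.largestPReducedOf p M)) : (∀ L : Subgroup G, IsPGroup p ↥L → (Cfsg.pCoreOf p M) ≤ L → Subgroup.normalizer ((L : Subgroup G) : Set G) ≤ Subgroup.normalizer (((Cfsg.pCoreOf p M) : Subgroup G) : Set G) ∧ Subgroup.normalizer (((Cfsg.pCoreOf p M) : Subgroup G) : Set G) ≤ (M ⊔ Subgroup.centralizer (((Cfsg.largestPReducedOf p M) : Subgroup G) : Set G))) ∧ Cfsg.IsWeaklyClosedSubgroup p (Cfsg.pCoreOf p M) ∧ (∀ L : Subgroup G, (Cfsg.pCoreOf p M) ≤ L → Cfsg.IsParabolic p ((L ⊓ (M ⊔ Subgroup.centralizer (((Cfsg.largestPReducedOf p M) : Subgroup G) : Set G))).subgroupOf L)) ∧ (∀ x ∈ (Cfsg.largestPReducedOf p M),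 ∀ g : G, g * x * g⁻¹ ∈ (Cfsg.largestPReducedOf p M) → ∃ m ∈ M, m * x * m⁻¹ = g * x * g⁻¹) := by
  have hRS : Cfsg.pCoreOf p M ≤ (S : Subgroup G) :=
    Cfsg.Agent.Lib.Helper55.sylow_le_pCoreOf_sup S hSM
  have hRM : M ≤ Subgroup.normalizer ((Cfsg.pCoreOf p M : Subgroup G) : Set G) :=
    Cfsg.Agent.Lib.Helper55.le_normalizer_pCoreOf M
  have hR1 : Cfsg.pCoreOf p M ≠ ⊥ :=
    fun h => hM.1.1 ((Cfsg.Agent.Lib.Helper55.pCoreOf_eq_bot_iff M).mp h)
  have hNRd : Subgroup.normalizer ((Cfsg.pCoreOf p M : Subgroup G) : Set G) ≤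
      M ⊔ Subgroup.centralizer ((Cfsg.largestPReducedOf p M : Subgroup G) : Set G) :=
    Cfsg.Agent.Lib.Helper55.normalizer_le_dagger hQ hQp hQ1 hM ⟨S, hSM⟩ hR1
      (Cfsg.Agent.Lib.Helper55.isPGroup_pCoreOf M) hRM
  refine ⟨?_, ?_, ?_, ?_⟩
  · intro L hL hRL
    exact ⟨Cfsg.Agent.Lib.Helper52.mss_normalizer_le S hQp hQ1 hQS hQ hSM hM hasym hL hRL, hNRd⟩
  · exact ⟨S, hRS, fun g hg =>
      Cfsg.Agent.Lib.Helper52.mss_weaklyClosed S hQp hQ1 hQS hQ hSM hM hasym hg⟩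
  · intro L hRL
    have hRp : IsPGroup p ((Cfsg.pCoreOf p M).subgroupOf L) :=
      (Cfsg.Agent.Lib.Helper55.isPGroup_pCoreOf M).comap_subtype
    obtain ⟨P, hP⟩ := hRp.exists_le_sylow
    refine ⟨P, ?_⟩
    intro x hx
    rw [Subgroup.mem_subgroupOf]
    refine Subgroup.mem_inf.mpr ⟨x.2, ?_⟩
    have h1 : IsPGroup p ((P : Subgroup ↥L).map L.subtype) := P.2.map _
    have h2 : Cfsg.pCoreOf p M ≤ (P : Subgroup ↥L).map L.subtype := by
      intro y hy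
      exact ⟨⟨y, hRL hy⟩, hP (Subgroup.mem_subgroupOf.mpr hy), rfl⟩
    have h3 := Cfsg.Agent.Lib.Helper52.mss_le_normalizer S hQp hQ1 hQS hQ hSM hM hasym h1 h2
    exact hNRd (h3 ⟨x, hx, rfl⟩)
  · intro x hx g hgx
    exact Cfsg.Agent.Lib.Helper52.mss_fusion S hQp hQ1 hQS hQ hSM hM hasym hx hgx

end Cfsg.Agent.S2850
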