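import Cfsg.Statements.S2856
import Cfsg.Agent.Lib.Helper52.VMain

set_option autoImplicit false
open Cfsg

namespace Cfsg.Agent.S2856

/-- Let (M₁, M₂) be an amalgam pair in X satisfying the rank-two standing hypothesis (characteristic p, the normalizers in M₁ and in M₂ of a Sylow p-subgroup of M₁ ∩ M₂ equal and contained in M₁ ∩ M₂, and strongly p-embedded residues), λ a vertex of the coset graph, L_λ the subgroup of its stabilizer generated by the p-elements, Q_λ = O_p of the stabilizer, O^p(L_λ) the subgroup of L_λ generated by its elements of order prime to p, and V_λ^{(k)} the subgroup generated by the Z_μ over the vertices μ at distance at most k from λ (Z_μ being generated by the Ω₁(Z(S)), S a Sylow p-subgroup of the stabilizer of μ). If n ≥ 1 and V_λ^{(n)} ≤ Q_λ, then O^p(L_λ) does not centralize V_λ^{(n)}/[V_λ^{(n)}, Q_λ], that is, [V_λ^{(n)}, O^p(L_λ)] is not contained in [V_λ^{(n)}, Q_λ]. -/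
theorem result {X : Type*} [Group X] {p : ℕ} [Fact p.Prime] (M₁ M₂ : Subgroup X) (h : Cfsg.IsSpeAmalgamPair p M₁ M₂) (lam : Cfsg.CosetVertex M₁ M₂) (n : ℕ) (hn : 1 ≤ n) (V : Subgroup X) (hV : V = Cfsg.vertexVIter p M₁ M₂ n lam) (hVQ : V ≤ Cfsg.vertexQ p lam) : ¬ ⁅V, ((Cfsg.pResidual p ↥(Cfsg.pElementClosure p (MulAction.stabilizer X lam))).map (Cfsg.pElementClosure p (MulAction.stabilizer X lam)).subtype)⁆ ≤ ⁅V, Cfsg.vertexQ p lam⁆ := by
  intro hc
  subst hV
  obtain ⟨μ, hadj⟩ := Cfsg.Agent.Lib.Helper52.exists_adj_vertex lam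
  have hchar := h.1
  have : Finite M₁ := hchar.2.1
  have : Finite M₂ := hchar.2.2.1
  have hconn := Cfsg.Agent.S2740.result M₁ M₂ hchar.1.1
  have hdist : (Cfsg.cosetGraph M₁ M₂).dist lam μ = 1 :=
    SimpleGraph.dist_eq_one_iff_adj.mpr hadj
  have hUV : Cfsg.vertexVIter p M₁ M₂ (n - 1) μ ≤ Cfsg.vertexVIter p M₁ M₂ n lam := by
    apply Cfsg.Agent.Lib.Helper52.vertexVIter_le_of_dist p hconn
    omega
  have hmain := Cfsg.Agent.Lib.Helper52.vertexVIter_le_sup_commutator h hadj n hn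
  have hfin : Finite ↥(Cfsg.vertexQ p lam) := Cfsg.Agent.Lib.Helper52.vertexQ_finite lam
  have hQU : Cfsg.vertexQ p lam ≤
      Subgroup.normalizer (Cfsg.vertexVIter p M₁ M₂ (n - 1) μ : Set X) :=
    (Cfsg.Agent.Lib.Helper52.vertexQ_le_stabilizer_of_adj hchar hadj).trans
      (Cfsg.Agent.Lib.Helper52.stabilizer_le_normalizer_vertexVIter p hconn (n - 1) μ)
  have hle := Cfsg.Agent.Lib.Helper52.le_of_le_sup_commutator (p := p) (Cfsg.vertexQ p lam)
    (Cfsg.vertexVIter p M₁ M₂ (n - 1) μ) (Cfsg.vertexVIter p M₁ M₂ n lam)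
    (Cfsg.Agent.Lib.Helper52.vertexQ_isPGroup lam) (hUV.trans hVQ) hVQ hQU
    (hmain.trans (sup_le le_sup_left (hc.trans le_sup_right)))
  exact Cfsg.Agent.Lib.Helper52.vertexVIter_not_le_of_adj h hadj n hn hVQ hle

end Cfsg.Agent.S2856
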