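import Cfsg.Statements.S2861
import Cfsg.Agent.Lib.Helper54.PReduced
import Cfsg.Agent.Lib.Helper97.L2861B
import Cfsg.Agent.Lib.Helper09.L2861A
import Cfsg.Agent.Lib.Helper09.L2861C
import Cfsg.Agent.Lib.Helper09.L2861E
import Cfsg.Agent.Lib.Helper09.L2861F

set_option autoImplicit false
open Cfsg

namespace Cfsg.Agent.S2861

/-- Standing hypotheses: G a finite group, S a Sylow p-subgroup, Q a nontrivial large p-subgroup of G contained in S, M a subgroup containing S with the basic property (M ∈ 𝔐_G(S)); Y_M the largest p-reduced normal subgroup of M and M† = M·C_G(Y_M). Let L ∈ 𝔏_G(Y_M) (L ∈ 𝔏_G(Y_M): Y_M ≤ L; O_p(L) is the normal closure in L of Y_M ∩ O_p(L) and normalizes Y_M; L is Y_M-minimal of characteristic p with N_L(Y_M) its unique maximal subgroup over Y_M; and L/O_p(L) ≅ SL₂(q) with q = |Y_M : Y_M ∩ O_p(L)|, or p = 2 and L/O_p(L) is a Suzuki group Sz(q) or dihedral of order 2r, r an odd prime) and A = O_p(L). Then Y_M·A/A is the unique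 nontrivial elementary abelian normal p-subgroup of N_L(Y_M)/A. -/
theorem result {G : Type*} [Group G] [Finite G] {p : ℕ} [Fact p.Prime] (S : Sylow p G) (Q : Subgroup G) (hQp : IsPGroup p ↥Q) (hQ1 : Q ≠ ⊥) (hQS : Q ≤ (S : Subgroup G)) (hQ : Cfsg.IsLarge Q) (M : Subgroup G) (hSM : (S : Subgroup G) ≤ M) (hM : Cfsg.IsInFrakM p M) (L : Subgroup G) (hL : Cfsg.IsInFrakL p M L) (NL : Subgroup G) (hNL : NL = L ⊓ Subgroup.normalizer (((Cfsg.largestPReducedOf p M) : Subgroup G) : Set G)) [hn : (((Cfsg.pCoreOf p L)).subgroupOf NL).Normal] : let Ybar : Subgroup (↥NL ⧸ ((Cfsg.pCoreOf p L)).subgroupOf NL) := (((Cfsg.largestPReducedOf p M)).subgroupOf NL).map (QuotientGroup.mk' (((Cfsg.pCoreOf p L)).subgroupOf NL)); Ybar ≠ ⊥ ∧ Ybar.Normal ∧ Cfsg.IsElementaryAbelian p Ybar ∧ ∀ (V : Subgroup (↥NL ⧸ ((Cfsg.pCoreOf p L)).subgroupOf NL)), V.Normal → Cfsg.IsElementaryAbelian p V → V ≠ ⊥ → V = Ybar := by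
  intro Ybar
  subst hNL
  obtain ⟨hYL, -, hAN, hmin, -, ⟨hlt, hmax⟩, hcases⟩ := hL
  set Y : Subgroup G := Cfsg.largestPReducedOf p M with hY
  -- `Y` is elementary abelian
  have hYe : Cfsg.IsElementaryAbelian p Y :=
    ((Cfsg.Agent.Lib.Helper54.isPReducedNormal_subgroupOf_iff
      (Cfsg.Agent.Lib.Helper54.largestPReducedOf_le_self p M)).1
      (Cfsg.Agent.Lib.Helper54.isPReducedNormal_largestPReducedOf M)).2.1
  have hYp : IsPGroup p Y := Cfsg.Agent.Lib.Helper54.isPGroup_of_isElementaryAbelian hYe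
  have hAeq : (Cfsg.pCoreOf p L).subgroupOf L = Cfsg.pCore p ↥L := by
    unfold Cfsg.pCoreOf Subgroup.subgroupOf
    exact Subgroup.comap_map_eq_self_of_injective (Subgroup.subtype_injective L) _
  -- the common part, for a given isomorphism
  have main : ∀ {X : Type} [Group X] (φ : (↥L ⧸ Cfsg.pCore p ↥L) ≃* X),
      (let π : ↥L →* X := φ.toMonoidHom.comp (QuotientGroup.mk' (Cfsg.pCore p ↥L));
        (Y.subgroupOf L).map π ≠ ⊥ ∧
        ∀ W : Subgroup X, W ≤ ((L ⊓ Subgroup.normalizer (Y : Set G)).subgroupOf L).map π →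
          (∀ b ∈ ((L ⊓ Subgroup.normalizer (Y : Set G)).subgroupOf L).map π, ∀ w ∈ W,
            b * w * b⁻¹ ∈ W) →
          Cfsg.IsElementaryAbelian p W → W ≠ ⊥ → W = (Y.subgroupOf L).map π) →
      Ybar ≠ ⊥ ∧ Ybar.Normal ∧ Cfsg.IsElementaryAbelian p Ybar ∧
        ∀ V : Subgroup (↥(L ⊓ Subgroup.normalizer (Y : Set G)) ⧸
            (Cfsg.pCoreOf p L).subgroupOf (L ⊓ Subgroup.normalizer (Y : Set G))),
          V.Normal → Cfsg.IsElementaryAbelian p V → V ≠ ⊥ → V = Ybar := by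
    intro X _ φ h
    have hker : (φ.toMonoidHom.comp (QuotientGroup.mk' (Cfsg.pCore p ↥L))).ker =
        (Cfsg.pCoreOf p L).subgroupOf L := by
      rw [hAeq]
      ext x
      rw [MonoidHom.mem_ker, MonoidHom.comp_apply]
      show φ _ = 1 ↔ _
      rw [map_eq_one_iff φ φ.injective, QuotientGroup.mk'_apply, QuotientGroup.eq_one_iff]
    exact Cfsg.Agent.Lib.Helper09.L2861.core L Y (Cfsg.pCoreOf p L) hYL _ hker hYe h.1 h.2
  -- facts about `π`
  have hsurj : ∀ {X : Type} [Group X] (φ : (↥L ⧸ Cfsg.pCore p ↥L) ≃* X),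
      Function.Surjective (φ.toMonoidHom.comp (QuotientGroup.mk' (Cfsg.pCore p ↥L))) := by
    intro X _ φ
    exact φ.surjective.comp (QuotientGroup.mk'_surjective _)
  have hker' : ∀ {X : Type} [Group X] (φ : (↥L ⧸ Cfsg.pCore p ↥L) ≃* X),
      (φ.toMonoidHom.comp (QuotientGroup.mk' (Cfsg.pCore p ↥L))).ker =
        (Cfsg.pCoreOf p L).subgroupOf L := by
    intro X _ φ
    rw [hAeq]
    ext x
    rw [MonoidHom.mem_ker, MonoidHom.comp_apply]
    show φ _ = 1 ↔ _
    rw [map_eq_one_iff φ φ.injective, QuotientGroup.mk'_apply, QuotientGroup.eq_one_iff]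
  have hcard : ∀ {X : Type} [Group X] (φ : (↥L ⧸ Cfsg.pCore p ↥L) ≃* X),
      Nat.card ((Y.subgroupOf L).map (φ.toMonoidHom.comp (QuotientGroup.mk' (Cfsg.pCore p ↥L)))) =
        (Y ⊓ Cfsg.pCoreOf p L).relIndex Y := by
    intro X _ φ
    exact Cfsg.Agent.Lib.Helper09.L2861.card_map_eq_relIndex L Y _ hYL _ (hker' φ)
  have hN' : (L ⊓ Subgroup.normalizer (Y : Set G)).subgroupOf L ≤
      Subgroup.normalizer ((Y.subgroupOf L : Subgroup ↥L) : Set ↥L) :=
    Cfsg.Agent.Lib.Helper09.L2861.subgroupOf_le_normalizer L Y _ inf_le_right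
  have hmax' := Cfsg.Agent.Lib.Helper09.L2861.hmax_subgroupOf L Y _ hYL hmax
  have hYN' : Y.subgroupOf L ≤ (L ⊓ Subgroup.normalizer (Y : Set G)).subgroupOf L := by
    intro y hy
    rw [Subgroup.mem_subgroupOf] at hy ⊢
    exact ⟨y.2, Subgroup.le_normalizer hy⟩
  have hYe' : ∀ {X : Type} [Group X] (f : ↥L →* X),
      Cfsg.IsElementaryAbelian p ((Y.subgroupOf L).map f) := by
    intro X _ f
    exact Cfsg.Agent.Lib.Helper09.L2861.isElementaryAbelian_map f
      (Cfsg.Agent.Lib.Helper09.L2861.isElementaryAbelian_subgroupOf hYe L)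
  have hne_bot_of_card : ∀ {X : Type} [Group X] (U : Subgroup X) {F : Type} [Fintype F]
      [Nontrivial F], Nat.card U = Fintype.card F → U ≠ ⊥ := by
    intro X _ U F _ _ hU h0
    rw [h0, Subgroup.card_bot] at hU
    have := Fintype.one_lt_card (α := F)
    omega
  rcases hcases with ⟨F, _, _, hFcard, ⟨φ⟩⟩ | ⟨hp2, F, _, _, m, hF, hFcard, ⟨φ⟩⟩ |
    ⟨hp2, r, hr, hr2, ⟨φ⟩⟩
  · -- `SL₂(F)`
    apply main φ
    intro π
    have hUcard : Nat.card ((Y.subgroupOf L).map π) = Fintype.card F := by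
      rw [hFcard]; exact hcard φ
    have hUp : IsPGroup p ((Y.subgroupOf L).map π) :=
      Cfsg.Agent.Lib.Helper54.isPGroup_of_isElementaryAbelian (hYe' π)
    have hgood : Cfsg.Agent.Lib.Helper09.L2861.Good p ((Y.subgroupOf L).map π) :=
      Cfsg.Agent.Lib.Helper97.L2861.sl2_normalizer_unique p _ hUp hUcard
    exact ⟨hne_bot_of_card _ hUcard,
      Cfsg.Agent.Lib.Helper09.L2861.h_of_good p π (hsurj φ) _ _ hN' hmax' hgood⟩
  · -- Suzuki groups
    subst hp2
    rcases Nat.eq_zero_or_pos m with rfl | hm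
    · apply main φ
      intro π
      have hUcard : Nat.card ((Y.subgroupOf L).map π) = Fintype.card F := by
        rw [hFcard]; exact hcard φ
      have hF2 : Fintype.card F = 2 := by rw [hF]; norm_num
      refine ⟨hne_bot_of_card _ hUcard, ?_⟩
      intro W hW _ hWe hW1
      exact Cfsg.Agent.Lib.Helper09.L2861.h_of_sz2 hF2 (2 ^ (0 + 1)) rfl π _ _ hN'
        (hUcard.trans hF2) W hW hWe hW1
    · apply main φ
      intro π
      have hUcard : Nat.card ((Y.subgroupOf L).map π) = Fintype.card F := by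
        rw [hFcard]; exact hcard φ
      have hgood : Cfsg.Agent.Lib.Helper09.L2861.Good 2 ((Y.subgroupOf L).map π) :=
        Cfsg.Agent.Lib.Helper09.L2861.good_lie hm hF _ (hYe' π) hUcard
      exact ⟨hne_bot_of_card _ hUcard,
        Cfsg.Agent.Lib.Helper09.L2861.h_of_good 2 π (hsurj φ) _ _ hN' hmax' hgood⟩
  · -- dihedral groups
    subst hp2
    have : NeZero r := ⟨hr.ne_zero⟩
    apply main φ
    intro π
    have hXcard : Nat.card (DihedralGroup r) = 2 * r := DihedralGroup.nat_card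
    have hkerN : π.ker ≤ (L ⊓ Subgroup.normalizer (Y : Set G)).subgroupOf L := by
      rw [hker' φ]
      intro x hx
      rw [Subgroup.mem_subgroupOf] at hx ⊢
      exact ⟨x.2, hAN hx⟩
    have hNtop : (L ⊓ Subgroup.normalizer (Y : Set G)).subgroupOf L ≠ ⊤ := by
      intro h
      rw [Subgroup.subgroupOf_eq_top] at h
      exact absurd h (not_le_of_gt hlt)
    have hU2 : IsPGroup 2 ((Y.subgroupOf L).map π) :=
      Cfsg.Agent.Lib.Helper54.isPGroup_of_isElementaryAbelian (hYe' π)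
    have hU1 : (Y.subgroupOf L).map π ≠ ⊥ := by
      intro h0
      have h1 : Y.subgroupOf L ≤ π.ker := by
        intro y hy
        have : π y ∈ (Y.subgroupOf L).map π := ⟨y, hy, rfl⟩
        rw [h0, Subgroup.mem_bot] at this
        exact this
      have h2 : Subgroup.normalClosure ((Y.subgroupOf L : Subgroup ↥L) : Set ↥L) ≤ π.ker :=
        Subgroup.normalClosure_le_normal h1
      rw [hmin.1, top_le_iff] at h2
      have h3 : ∀ x : DihedralGroup r, x = 1 := by
        intro x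
        obtain ⟨l, rfl⟩ := hsurj φ x
        have : l ∈ π.ker := by rw [h2]; trivial
        exact this
      have h4 : Nat.card (DihedralGroup r) = 1 := by
        rw [Nat.card_eq_one_iff_unique]
        exact ⟨⟨fun a b => (h3 a).trans (h3 b).symm⟩, ⟨1⟩⟩
      have := hr.two_le
      omega
    refine ⟨hU1, ?_⟩
    intro W hW _ hWe hW1
    exact Cfsg.Agent.Lib.Helper09.L2861.h_of_dihedral r hr hXcard π (hsurj φ) _ _ hYN' hkerN hNtop
      hU2 hU1 W hW hWe hW1

end Cfsg.Agent.S2861
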