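import Cfsg.Statements.S2864
import Cfsg.Agent.Lib.Helper55.FrakM2
import Cfsg.Agent.Lib.Helper55.StabSeries
-- import your own Cfsg.Agent.* helpers here

set_option autoImplicit false
open Cfsg

namespace Cfsg.Agent.S2864

open Cfsg.Agent.Lib.Helper55

/-- Standing hypotheses: G a finite group, S a Sylow p-subgroup, Q a nontrivial large p-subgroup of G contained in S, M a subgroup containing S with the basic property (M ∈ 𝔐_G(S)); Y_M the largest p-reduced normal subgroup of M and M† = M·C_G(Y_M). Let I be a nontrivial normal p-subgroup of M and Y ≤ O_p(M†); let L be a subgroup of G containing Y and A a normal p-subgroup of L with I ≤ A ≤ M. If [Y, A] ≤ [I, A], then Y ≤ O_p(L). -/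
theorem result {G : Type*} [Group G] [Finite G] {p : ℕ} [Fact p.Prime] (S : Sylow p G) (Q : Subgroup G) (hQp : IsPGroup p ↥Q) (hQ1 : Q ≠ ⊥) (hQS : Q ≤ (S : Subgroup G)) (hQ : Cfsg.IsLarge Q) (M : Subgroup G) (hSM : (S : Subgroup G) ≤ M) (hM : Cfsg.IsInFrakM p M) (I : Subgroup G) (hI1 : I ≠ ⊥) (hIp : IsPGroup p ↥I) (hIM : I ≤ M ∧ M ≤ Subgroup.normalizer ((I : Subgroup G) : Set G)) (Y : Subgroup G) (hY : Y ≤ (Cfsg.pCoreOf p (M ⊔ Subgroup.centralizer (((Cfsg.largestPReducedOf p M) : Subgroup G) : Set G)))) (L : Subgroup G) (hYL : Y ≤ L) (A : Subgroup G) (hAp : IsPGroup p ↥A) (hAL : A ≤ L ∧ L ≤ Subgroup.normalizer ((A : Subgroup G) : Set G)) (hIA : I ≤ A) (hAM : A ≤ M) (hc : ⁅Y, A⁆ ≤ ⁅I, A⁆) : Y ≤ (Cfsg.pCoreOf p L) := by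
  set Md := M ⊔ Subgroup.centralizer (((Cfsg.largestPReducedOf p M) : Subgroup G) : Set G) with hMd
  have hN : Subgroup.normalizer (I : Set G) ≤ Md :=
    normalizer_le_dagger hQ hQp hQ1 hM ⟨S, hSM⟩ hI1 hIp hIM.2
  have hIL : I ≤ L := hIA.trans hAL.1
  have hAn : (A.subgroupOf L).Normal :=
    (Subgroup.normal_subgroupOf_iff_le_normalizer hAL.1).mpr hAL.2
  have hc' : ⁅Y.subgroupOf L, A.subgroupOf L⁆ ≤ ⁅I.subgroupOf L, A.subgroupOf L⁆ := by
    rw [← Subgroup.map_le_map_iff_of_injective L.subtype_injective, Subgroup.map_commutator,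
      Subgroup.map_commutator, Subgroup.map_subgroupOf_eq_of_le hYL,
      Subgroup.map_subgroupOf_eq_of_le hAL.1, Subgroup.map_subgroupOf_eq_of_le hIL]
    exact hc
  have hCD : Subgroup.centralizer ((A.subgroupOf L : Subgroup L) : Set L) ≤ Md.subgroupOf L := by
    intro x hx
    rw [Subgroup.mem_subgroupOf]
    apply hN
    have hxA : (x : G) ∈ Subgroup.centralizer (A : Set G) := by
      rw [Subgroup.mem_centralizer_iff]
      intro a ha
      have := (Subgroup.mem_centralizer_iff.mp hx) ⟨a, hAL.1 ha⟩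
        (by rw [SetLike.mem_coe, Subgroup.mem_subgroupOf]; exact ha)
      exact congrArg Subtype.val this
    exact le_normalizer_of_le_centralizer (U := I) (R := Subgroup.centralizer (A : Set G))
      (Subgroup.centralizer_le hIA) hxA
  have hDR : Md.subgroupOf L ≤
      Subgroup.normalizer (((Cfsg.pCoreOf p Md).subgroupOf L : Subgroup L) : Set L) := by
    intro x hx
    rw [Subgroup.mem_subgroupOf] at hx
    have hxN := le_normalizer_pCoreOf (p := p) Md hx
    rw [Subgroup.mem_normalizer_iff] at hxN ⊢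
    intro h
    rw [Subgroup.mem_subgroupOf, Subgroup.mem_subgroupOf]
    exact hxN h
  have key := le_pCore_of_commutator_le (p := p) (A := A.subgroupOf L) (I := I.subgroupOf L)
    (Y := Y.subgroupOf L) (D := Md.subgroupOf L) (R := (Cfsg.pCoreOf p Md).subgroupOf L)
    hAp.comap_subtype (Subgroup.comap_mono hIA) hc' hCD hDR
    (isPGroup_pCoreOf Md).comap_subtype (Subgroup.comap_mono hY)
  have := Subgroup.map_mono (f := L.subtype) key
  rw [Subgroup.map_subgroupOf_eq_of_le hYL] at this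
  exact this

end Cfsg.Agent.S2864
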