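import Cfsg.Statements.S2872
import Cfsg.Agent.Lib.Helper03.PGroupFrattini
import Cfsg.Agent.Lib.Helper60.ThompsonTransfer
-- import your own Cfsg.Agent.* helpers here

set_option autoImplicit false
open Cfsg

namespace Cfsg.Agent.S2872

open MulAction

section transfer

variable {G : Type*} [Group G] [Finite G]

/-- the transfer computation: a central involution `z` of the Sylow `2`-subgroup `S`, centralized by
`N_G(S)`, is mapped to `ϕ z` by the transfer of any `ϕ : S →* ℤˣ` with `ϕ z = -1`. -/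
theorem transfer_eq_neg_one (P : Subgroup G) (hPp : IsPGroup 2 P) (hPodd : ¬ 2 ∣ P.index)
    (ϕ : ↥P →* ℤˣ) (z : G)
    (hzS : z ∈ P) (hzc : ∀ s ∈ P, s * z = z * s) (hz2 : z * z = 1)
    (hϕz : ϕ ⟨z, hzS⟩ = -1)
    (hN : ∀ g ∈ Subgroup.normalizer (P : Set G), g * z * g⁻¹ = z) :
    MonoidHom.transfer ϕ z = -1 := by
  classical
  have : Fact (Nat.Prime 2) := ⟨Nat.prime_two⟩
  -- total version of ϕ
  set ϕ' : G → ℤˣ := fun x => if h : x ∈ P then ϕ ⟨x, h⟩ else 1 with hϕ'
  have hϕ'1 : ∀ x (h : x ∈ P), ϕ ⟨x, h⟩ = ϕ' x := by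
    intro x h
    show ϕ ⟨x, h⟩ = (if h : x ∈ P then ϕ ⟨x, h⟩ else 1)
    rw [dif_pos h]
  have hϕ'mul : ∀ x y, x ∈ P → y ∈ P → ϕ' (x * y) = ϕ' x * ϕ' y := by
    intro x y hx hy
    rw [← hϕ'1 x hx, ← hϕ'1 y hy, ← hϕ'1 (x * y) (P.mul_mem hx hy), ← map_mul]
    rfl
  have hϕ'inv : ∀ x, x ∈ P → ϕ' x⁻¹ = (ϕ' x)⁻¹ := by
    intro x hx
    rw [← hϕ'1 x hx, ← hϕ'1 x⁻¹ (P.inv_mem hx), ← map_inv]
    rfl
  have hϕ'one : ϕ' 1 = 1 := by
    rw [← hϕ'1 1 P.one_mem]
    exact map_one ϕ
  -- the predicate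
  set good : G → Prop := fun g => g⁻¹ * z * g ∈ P ∧ ϕ' (g⁻¹ * z * g) = -1 with hgood
  have good_mul_right : ∀ g h, h ∈ P → good g → good (g * h) := by
    rintro g h hh ⟨h1, h2⟩
    have e : (g * h)⁻¹ * z * (g * h) = h⁻¹ * (g⁻¹ * z * g) * h := by group
    refine ⟨?_, ?_⟩
    · rw [e]; exact P.mul_mem (P.mul_mem (P.inv_mem hh) h1) hh
    · rw [e, hϕ'mul _ _ (P.mul_mem (P.inv_mem hh) h1) hh, hϕ'mul _ _ (P.inv_mem hh) h1,
        hϕ'inv h hh, h2]
      rw [mul_comm, ← mul_assoc, mul_inv_cancel, one_mul]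
  have good_mul_left : ∀ g s, s ∈ P → good g → good (s * g) := by
    rintro g s hs ⟨h1, h2⟩
    have e0 : s⁻¹ * z * s = z := by rw [mul_assoc, ← hzc s hs, inv_mul_cancel_left]
    have e : (s * g)⁻¹ * z * (s * g) = g⁻¹ * z * g := by
      calc (s * g)⁻¹ * z * (s * g) = g⁻¹ * (s⁻¹ * z * s) * g := by group
        _ = g⁻¹ * z * g := by rw [e0]
    exact ⟨by rw [e]; exact h1, by rw [e]; exact h2⟩
  have good_iff_out : ∀ g : G, good g ↔ good ((g : G ⧸ P)).out := by
    intro g
    obtain ⟨h, hh⟩ := QuotientGroup.mk_out_eq_mul P g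
    constructor
    · intro hg; rw [hh]; exact good_mul_right g h h.2 hg
    · intro hg
      have := good_mul_right _ ((h : G)⁻¹) (P.inv_mem h.2) hg
      rw [hh, mul_inv_cancel_right] at this
      exact this
  let Xs : SubMulAction P (G ⧸ P) :=
    { carrier := {q | good q.out}
      smul_mem' := by
        intro s q hq
        show good (s • q).out
        have e : s • q = (((s : G) * q.out : G) : G ⧸ P) := by
          conv_lhs => rw [← QuotientGroup.out_eq' q]
          rfl
        rw [e, ← good_iff_out]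
        exact good_mul_left _ _ s.2 hq }
  have hmemX : ∀ q : G ⧸ P, q ∈ Xs ↔ good q.out := fun q => Iff.rfl
  have hXfix : ∀ q ∈ Xs, z • q = q := by
    intro q hq
    have h1 : q.out⁻¹ * z * q.out ∈ P := ((hmemX q).mp hq).1
    conv_lhs => rw [← QuotientGroup.out_eq' q]
    conv_rhs => rw [← QuotientGroup.out_eq' q]
    show ((z * q.out : G) : G ⧸ P) = (q.out : G ⧸ P)
    rw [QuotientGroup.eq]
    have e : (z * q.out)⁻¹ * q.out = (q.out⁻¹ * z * q.out)⁻¹ := by
      have hz' : z⁻¹ = z := inv_eq_of_mul_eq_one_right hz2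
      rw [mul_inv_rev, mul_inv_rev, mul_inv_rev, inv_inv, hz', mul_assoc]
    rw [e]
    exact P.inv_mem h1
  have hfixX : ∀ q : G ⧸ P, (∀ s : P, s • q = q) → q ∈ Xs := by
    intro q hq
    rw [hmemX]
    have h1 : ((q.out : G) : G ⧸ P) ∈ fixedPoints P (G ⧸ P) := by
      rw [QuotientGroup.out_eq']
      exact hq
    have h2 : q.out ∈ Subgroup.normalizer (P : Set G) :=
      Sylow.mem_fixedPoints_mul_left_cosets_iff_mem_normalizer.mp h1
    have h3 := hN _ (Subgroup.inv_mem _ h2)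
    rw [inv_inv] at h3
    refine ⟨by rw [h3]; exact hzS, ?_⟩
    rw [h3, ← hϕ'1 z hzS]
    exact hϕz
  -- parity of `Xs`
  have hoddX : Odd (Nat.card Xs) := by
    have h1 := hPp.card_modEq_card_fixedPoints (G ⧸ P)
    have h2 := hPp.card_modEq_card_fixedPoints Xs
    have h3 : Nat.card (fixedPoints P Xs) = Nat.card (fixedPoints P (G ⧸ P)) :=
      Nat.card_congr
        { toFun := fun x => ⟨x.1.1, fun s => congrArg Subtype.val (x.2 s)⟩
          invFun := fun q => ⟨⟨q.1, hfixX q.1 q.2⟩, fun s => Subtype.ext (q.2 s)⟩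
          left_inv := fun x => rfl
          right_inv := fun q => rfl }
    have h4 : Odd (Nat.card (G ⧸ P)) := by
      rw [← Subgroup.index_eq_card, ← Nat.not_even_iff_odd, even_iff_two_dvd]
      exact hPodd
    rw [h3] at h2
    have h5 : Nat.card Xs ≡ Nat.card (G ⧸ P) [MOD 2] := h2.trans h1.symm
    rw [Nat.odd_iff] at h4 ⊢
    rw [← h4]
    exact h5
  -- the transfer formula
  let _ : Fintype (Quotient (orbitRel (Subgroup.zpowers z) (G ⧸ P))) := Fintype.ofFinite _
  rw [MonoidHom.transfer_eq_prod_quotient_orbitRel_zpowers_quot]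
  have hz2' : z ^ 2 = 1 := by rw [pow_two]; exact hz2
  have hterm : ∀ q : Quotient (orbitRel (Subgroup.zpowers z) (G ⧸ P)),
      ϕ ⟨q.out.out⁻¹ * z ^ Function.minimalPeriod (z • ·) q.out * q.out.out,
          QuotientGroup.out_conj_pow_minimalPeriod_mem P z q.out⟩ =
        if q.out ∈ Xs then -1 else 1 := by
    intro q
    rw [hϕ'1]
    have hper : Function.IsPeriodicPt (z • ·) 2 q.out := by
      have h1 : ((z • ·) : G ⧸ P → G ⧸ P)^[2] q.out = z ^ 2 • q.out := by
        rw [smul_iterate]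
      show ((z • ·) : G ⧸ P → G ⧸ P)^[2] q.out = q.out
      rw [h1, hz2', one_smul]
    have hdvd := hper.minimalPeriod_dvd
    rcases (Nat.dvd_prime Nat.prime_two).mp hdvd with hk | hk
    · rw [hk, pow_one]
      have hfix : z • q.out = q.out := Function.minimalPeriod_eq_one_iff_isFixedPt.mp hk
      have hmem : q.out.out⁻¹ * z * q.out.out ∈ P := by
        have := QuotientGroup.out_conj_pow_minimalPeriod_mem P z q.out
        rw [hk, pow_one] at this
        exact this
      by_cases hX : q.out ∈ Xs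
      · rw [if_pos hX]
        exact ((hmemX _).mp hX).2
      · rw [if_neg hX]
        rcases Int.units_eq_one_or (ϕ' (q.out.out⁻¹ * z * q.out.out)) with h | h
        · exact h
        · exact absurd ((hmemX _).mpr ⟨hmem, h⟩) hX
    · rw [hk, hz2', mul_one, inv_mul_cancel, hϕ'one]
      have hX : q.out ∉ Xs := by
        intro hX
        have hfix : z • q.out = q.out := hXfix _ hX
        have := Function.minimalPeriod_eq_one_iff_isFixedPt.mpr hfix
        rw [hk] at this
        exact absurd this (by norm_num)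
      rw [if_neg hX]
  rw [Finset.prod_congr rfl (fun q _ => hterm q), Finset.prod_ite, Finset.prod_const,
    Finset.prod_const_one, mul_one]
  -- the number of orbits whose representative lies in `Xs` is `card Xs`
  have hout : ∀ x ∈ Xs, (Quotient.mk (orbitRel (Subgroup.zpowers z) (G ⧸ P)) x).out = x := by
    intro x hx
    have h1 : (Quotient.mk (orbitRel (Subgroup.zpowers z) (G ⧸ P)) x).out ∈
        orbit (Subgroup.zpowers z) x := by
      have := Quotient.mk_out (s := orbitRel (Subgroup.zpowers z) (G ⧸ P)) x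
      exact this
    obtain ⟨⟨w, hw⟩, hwx⟩ := h1
    have h2 : Subgroup.zpowers z ≤ stabilizer G x := by
      rw [Subgroup.zpowers_le]
      exact hXfix x hx
    have h3 : w • x = x := h2 hw
    rw [← hwx]
    exact h3
  have hcard : (Finset.univ.filter
      (fun q : Quotient (orbitRel (Subgroup.zpowers z) (G ⧸ P)) => q.out ∈ Xs)).card =
      Nat.card Xs := by
    rw [← Fintype.card_subtype, ← Nat.card_eq_fintype_card]
    exact Nat.card_congr
      { toFun := fun q => ⟨q.1.out, q.2⟩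
        invFun := fun x => ⟨Quotient.mk _ x.1, by rw [hout x.1 x.2]; exact x.2⟩
        left_inv := fun q => Subtype.ext (Quotient.out_eq q.1)
        right_inv := fun x => Subtype.ext (hout x.1 x.2) }
  rw [hcard]
  exact hoddX.neg_one_pow

end transfer

/-- Let S be a Sylow 2-subgroup of the finite group G. Then G has a proper normal subgroup of 2-power index (O²(G) ≠ G), or Ω₁(Z(S)) is contained in the Frattini subgroup of S, or N_G(S) acts nontrivially on Ω₁(Z(S)) by conjugation. -/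
theorem result {G : Type*} [Group G] [Finite G] (S : Sylow 2 G) : Cfsg.pResidual 2 G ≠ ⊤ ∨ Cfsg.omegaOne 2 ((S : Subgroup G) ⊓ Subgroup.centralizer ((S : Subgroup G) : Set G)) ≤ (frattini ↥(S : Subgroup G)).map (S : Subgroup G).subtype ∨ ∃ g ∈ Subgroup.normalizer ((S : Subgroup G) : Set G), ∃ z ∈ Cfsg.omegaOne 2 ((S : Subgroup G) ⊓ Subgroup.centralizer ((S : Subgroup G) : Set G)), g * z * g⁻¹ ≠ z := by
  classical
  have : Fact (Nat.Prime 2) := ⟨Nat.prime_two⟩
  by_contra hcon
  rw [not_or, not_or] at hcon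
  obtain ⟨h1, h2, h3⟩ := hcon
  have h1 : Cfsg.pResidual 2 G = ⊤ := not_not.mp h1
  have h3 : ∀ g ∈ Subgroup.normalizer ((S : Subgroup G) : Set G),
      ∀ z ∈ Cfsg.omegaOne 2 ((S : Subgroup G) ⊓ Subgroup.centralizer ((S : Subgroup G) : Set G)),
        g * z * g⁻¹ = z := by
    intro g hg z hz
    by_contra hne
    exact h3 ⟨g, hg, z, hz, hne⟩
  -- an involution of `Z(S)` outside the Frattini subgroup
  have hex : ∃ z, z ∈ (S : Subgroup G) ⊓ Subgroup.centralizer ((S : Subgroup G) : Set G) ∧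
      z ^ 2 = 1 ∧ z ∉ (frattini ↥(S : Subgroup G)).map (S : Subgroup G).subtype := by
    by_contra hno
    apply h2
    unfold Cfsg.omegaOne
    rw [Subgroup.closure_le]
    intro x hx
    by_contra hxn
    exact hno ⟨x, hx.1, hx.2, hxn⟩
  obtain ⟨z, hzZ, hz2, hzΦ⟩ := hex
  have hzS : z ∈ (S : Subgroup G) := hzZ.1
  have hzc : ∀ s ∈ (S : Subgroup G), s * z = z * s :=
    fun s hs => Subgroup.mem_centralizer_iff.mp hzZ.2 s hs
  have hz' : (⟨z, hzS⟩ : ↥(S : Subgroup G)) ∉ frattini ↥(S : Subgroup G) := by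
    intro h
    exact hzΦ ⟨⟨z, hzS⟩, h, rfl⟩
  rw [Cfsg.Agent.Lib.Helper03.mem_frattini_iff] at hz'
  obtain ⟨M, hM⟩ := not_forall.mp hz'
  obtain ⟨hMco, hzM⟩ := Classical.not_imp.mp hM
  have hMi : M.index = 2 :=
    Cfsg.Agent.Lib.Helper03.index_of_isCoatom_of_isPGroup S.isPGroup' hMco
  have hϕz : Cfsg.Agent.Lib.Helper60.signHom M hMi ⟨z, hzS⟩ = -1 :=
    Cfsg.Agent.Lib.Helper60.signHom_apply_of_not_mem _ _ _ hzM
  have key := transfer_eq_neg_one (S : Subgroup G) S.isPGroup' S.not_dvd_index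
    (Cfsg.Agent.Lib.Helper60.signHom M hMi) z hzS hzc (by rw [← pow_two]; exact hz2) hϕz
    (fun g hg => h3 g hg z (Subgroup.subset_closure ⟨hzZ, hz2⟩))
  have hker : Cfsg.pResidual 2 G ≤
      (MonoidHom.transfer (Cfsg.Agent.Lib.Helper60.signHom M hMi)).ker := by
    unfold Cfsg.pResidual
    rw [Subgroup.closure_le]
    intro g hg
    rw [SetLike.mem_coe, MonoidHom.mem_ker]
    rcases Int.units_eq_one_or
      (MonoidHom.transfer (Cfsg.Agent.Lib.Helper60.signHom M hMi) g) with h | h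
    · exact h
    · exfalso
      have h5 : (MonoidHom.transfer (Cfsg.Agent.Lib.Helper60.signHom M hMi) g) ^ orderOf g = 1 := by
        rw [← map_pow, pow_orderOf_eq_one, map_one]
      rw [h] at h5
      have hodd : Odd (orderOf g) := Nat.coprime_two_right.mp hg
      rw [hodd.neg_one_pow] at h5
      exact absurd h5 (by decide)
  have hzk : z ∈ (MonoidHom.transfer (Cfsg.Agent.Lib.Helper60.signHom M hMi)).ker :=
    hker (h1 ▸ Subgroup.mem_top z)
  rw [MonoidHom.mem_ker, key] at hzk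
  exact absurd hzk (by decide)

end Cfsg.Agent.S2872
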