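import Cfsg.Statements.S2873
import Cfsg.Agent.Lib.Helper60.DihedralQuot

set_option autoImplicit false
open Cfsg

namespace Cfsg.Agent.S2873

/-- Let G be a finite group and r an odd prime such that G ⧸ O₂(G) is dihedral of order 2r, and let R be a Sylow r-subgroup of G with C_{O₂(G)}(R) = 1. Then N_G(R) is dihedral of order 2r; for any involution a of N_G(R), every involution of G outside O₂(G) is conjugate to a; and |C_{O₂(G)}(a)|² = |O₂(G)|. -/
theorem result {G : Type*} [Group G] [Finite G] {r : ℕ} [Fact r.Prime] (hr : r ≠ 2) [hN : (Cfsg.pCore 2 G).Normal] (hquot : Nonempty (G ⧸ Cfsg.pCore 2 G ≃* DihedralGroup r)) (R : Sylow r G) (hC : Cfsg.pCore 2 G ⊓ Subgroup.centralizer ((R : Subgroup G) : Set G) = ⊥) : Nonempty (↥(Subgroup.normalizer ((R : Subgroup G) : Set G)) ≃* DihedralGroup r) ∧ ∀ a : G, a ∈ Subgroup.normalizer ((R : Subgroup G) : Set G) → orderOf a = 2 → (∀ b : G, orderOf b = 2 → b ∉ Cfsg.pCore 2 G → ∃ g : G, g * a * g⁻¹ = b) ∧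 Nat.card ↥(Cfsg.pCore 2 G ⊓ Subgroup.centralizer ({a} : Set G)) ^ 2 = Nat.card ↥(Cfsg.pCore 2 G) := by
  obtain ⟨e⟩ := hquot
  have h2 : IsPGroup 2 (Cfsg.pCore 2 G) :=
    Sylow.sSup_of_normal _ (fun _ hN => hN.2) (fun _ hN => hN.1)
  have hsetup : Cfsg.Agent.Lib.Helper60.DihedralQuot.Setup (Cfsg.pCore 2 G)
      (e.toMonoidHom.comp (QuotientGroup.mk' (Cfsg.pCore 2 G))) R :=
    { hr := hr
      surj := e.surjective.comp (QuotientGroup.mk'_surjective _)
      ker := by
        ext x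
        rw [MonoidHom.mem_ker, MonoidHom.comp_apply]
        show e (QuotientGroup.mk' (Cfsg.pCore 2 G) x) = 1 ↔ x ∈ Cfsg.pCore 2 G
        rw [MulEquiv.map_eq_one_iff, QuotientGroup.mk'_apply, QuotientGroup.eq_one_iff]
      two := h2
      fpf := hC }
  exact hsetup.main

end Cfsg.Agent.S2873
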