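import Cfsg.Statements.S2880
import Mathlib
import Cfsg.Agent.Lib.Helper03.PGroupFrattini

set_option autoImplicit false
open Cfsg

namespace Cfsg.Agent.S2880


open scoped commutatorElement

/-- a nontrivial homomorphism to a group of order two has a kernel of index two -/
theorem half {H C : Type*} [Group H] [Group C] [Finite H] (hC : Nat.card C = 2) (f : H →* C)
    (hf : ∃ h, f h ≠ 1) : 2 * Nat.card {h : H // f h = 1} = Nat.card H := by
  have h1 : f.ker.index = Nat.card f.range := Subgroup.index_ker f
  have h2 : Nat.card f.range = 2 := by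
    have hd : Nat.card f.range ∣ 2 := hC ▸ Subgroup.card_subgroup_dvd_card f.range
    have hne : Nat.card f.range ≠ 1 := by
      intro h
      obtain ⟨h0, hh⟩ := hf
      have := (Subgroup.card_eq_one.1 h)
      have hm : f h0 ∈ f.range := ⟨h0, rfl⟩
      rw [this, Subgroup.mem_bot] at hm
      exact hh hm
    rcases (Nat.dvd_prime Nat.prime_two).1 hd with h | h
    · exact absurd h hne
    · exact h
  have h3 := f.ker.card_mul_index
  rw [h1, h2] at h3
  have h4 : Nat.card {h : H // f h = 1} = Nat.card f.ker := rfl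
  rw [h4]; omega

theorem half_sub {H C : Type*} [Group H] [Group C] [Finite H] (hC : Nat.card C = 2) (f : H →* C)
    (A : Subgroup H) (hf : ∃ a ∈ A, f a ≠ 1) :
    2 * Nat.card {e : H // e ∈ A ∧ f e = 1} = Nat.card A := by
  have h1 := half hC (f.comp A.subtype) (by
    obtain ⟨a, ha, h⟩ := hf
    exact ⟨⟨a, ha⟩, h⟩)
  rw [← h1]
  congr 1
  exact Nat.card_congr (Equiv.subtypeSubtypeEquivSubtypeInter (fun e => e ∈ A) (fun e => f e = 1)).symm

theorem half_fin {H C : Type*} [Group H] [Group C] [Fintype H] [DecidableEq C]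
    (hC : Nat.card C = 2) (f : H →* C)
    (A : Subgroup H) [DecidablePred (· ∈ A)] (hf : ∃ a ∈ A, f a ≠ 1) :
    2 * (Finset.univ.filter (fun e => e ∈ A ∧ f e = 1)).card = (Finset.univ.filter (· ∈ A)).card := by
  have h1 := half_sub hC f A hf
  rw [Nat.card_eq_fintype_card, Nat.card_eq_fintype_card, Fintype.card_subtype, Fintype.card_subtype] at h1
  exact h1

variable {E : Type*} [Group E]

theorem comm_mem (hc : commutator E = Subgroup.center E) (x y : E) :
    ⁅x, y⁆ ∈ Subgroup.center E := by
  rw [← hc]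
  exact Subgroup.commutator_mem_commutator (Subgroup.mem_top x) (Subgroup.mem_top y)

theorem comm_mul (hc : commutator E = Subgroup.center E) (a b x : E) :
    ⁅a * b, x⁆ = ⁅a, x⁆ * ⁅b, x⁆ := by
  have h1 := Subgroup.mem_center_iff.1 (comm_mem hc b x)
  have h2 : ⁅a * b, x⁆ = a * ⁅b, x⁆ * x * a⁻¹ * x⁻¹ := by
    simp only [commutatorElement_def]; group
  rw [h2, h1 a, h1 ⁅a, x⁆]
  simp only [commutatorElement_def]; group

/-- the commutator map `g ↦ ⁅g, x⁆` as a homomorphism to the centre -/
def chi (hc : commutator E = Subgroup.center E) (x : E) : E →* Subgroup.center E where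
  toFun g := ⟨⁅g, x⁆, comm_mem hc g x⟩
  map_one' := by ext; simp
  map_mul' a b := by ext; simp [comm_mul hc]

theorem chi_eq_one (hc : commutator E = Subgroup.center E) (x g : E) :
    chi hc x g = 1 ↔ ⁅g, x⁆ = 1 := by
  rw [Subtype.ext_iff]; rfl

theorem sq_mul (hc : commutator E = Subgroup.center E) (x a : E) (ha : a ^ 2 = 1) :
    (x * a) ^ 2 = ⁅a, x⁆ * x ^ 2 := by
  have h1 := Subgroup.mem_center_iff.1 (comm_mem hc a x)
  have h2 : (x * a) ^ 2 = x * ⁅a, x⁆ * x * a ^ 2 := by
    simp only [commutatorElement_def, pow_two]; group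
  rw [h2, h1 x, ha]
  simp only [pow_two]; group

theorem sum_ite_const {α : Type*} (s : Finset α) (p : α → Prop) [DecidablePred p] (n : ℕ) :
    ∑ a ∈ s, (if p a then 2 * n else n) = n * s.card + n * (s.filter p).card := by
  rw [Finset.sum_ite, Finset.sum_const, Finset.sum_const, smul_eq_mul, smul_eq_mul,
    ← Finset.card_filter_add_card_filter_not (s := s) p]
  ring

theorem sum_swap {α β : Type*} (s : Finset α) (t : Finset β)
    (P : α → β → Prop) [∀ a b, Decidable (P a b)] :
    ∑ a ∈ s, (t.filter (fun g => P a g)).card = ∑ g ∈ t, (s.filter (fun a => P a g)).card := by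
  simp only [Finset.card_filter]
  exact Finset.sum_comm

/-- two non-identity elements of a centre of order two are equal -/
theorem center_two (hZ : Nat.card (Subgroup.center E) = 2) (c d : E)
    (hc : c ∈ Subgroup.center E) (hd : d ∈ Subgroup.center E) (hc1 : c ≠ 1) (hd1 : d ≠ 1) :
    c = d := by
  obtain ⟨b, -, hb⟩ := (Nat.card_eq_two_iff' (1 : Subgroup.center E)).1 hZ
  have h1 := hb ⟨c, hc⟩ (by intro h; exact hc1 (congrArg Subtype.val h))
  have h2 := hb ⟨d, hd⟩ (by intro h; exact hd1 (congrArg Subtype.val h))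
  exact congrArg Subtype.val (h1.trans h2.symm)

theorem center_sq (hZ : Nat.card (Subgroup.center E) = 2) (c : E)
    (hc : c ∈ Subgroup.center E) : c * c = 1 := by
  by_cases hc1 : c = 1
  · rw [hc1, one_mul]
  by_contra h
  have := center_two hZ (c * c) c (mul_mem hc hc) hc h hc1
  exact hc1 (by simpa using this)

open Classical in
/-- counting in two ways the commuting pairs in `A × E` -/
theorem count_one [Fintype E] (hc : commutator E = Subgroup.center E)
    (hZ : Nat.card (Subgroup.center E) = 2) (A : Subgroup E) :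
    Fintype.card E * (Finset.univ.filter (· ∈ A)).card +
      Fintype.card E * ((Finset.univ.filter (· ∈ A)).filter (· ∈ Subgroup.center E)).card =
    (Finset.univ.filter (· ∈ A)).card * Fintype.card E +
      (Finset.univ.filter (· ∈ A)).card *
        (Finset.univ.filter (fun g : E => ∀ a ∈ A, ⁅a, g⁆ = 1)).card := by
  set sA : Finset E := Finset.univ.filter (· ∈ A) with hsA
  have h1 : ∀ a : E, 2 * (Finset.univ.filter (fun g : E => ⁅a, g⁆ = 1)).card =
      if a ∈ Subgroup.center E then 2 * Fintype.card E else Fintype.card E := by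
    intro a
    split_ifs with ha
    · congr 1
      rw [← Finset.card_univ]
      congr 1
      ext g
      simp only [Finset.mem_filter, Finset.mem_univ, true_and, iff_true]
      rw [commutatorElement_eq_one_iff_mul_comm]
      exact (Subgroup.mem_center_iff.1 ha g).symm
    · have h := half_fin hZ (chi hc a) ⊤ (by
        by_contra hcon
        push Not at hcon
        apply ha
        rw [Subgroup.mem_center_iff]
        intro g
        have := hcon g (Subgroup.mem_top g)
        rw [chi_eq_one, commutatorElement_eq_one_iff_mul_comm] at this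
        exact this)
      simp only [Subgroup.mem_top, true_and, Finset.filter_true, chi_eq_one] at h
      rw [Finset.card_univ] at h
      rw [← h]
      congr 2
      ext g
      simp only [Finset.mem_filter, Finset.mem_univ, true_and]
      rw [commutatorElement_eq_one_iff_mul_comm, commutatorElement_eq_one_iff_mul_comm]
      exact eq_comm
  have h2 : ∀ g : E, 2 * (sA.filter (fun a : E => ⁅a, g⁆ = 1)).card =
      if (∀ a ∈ A, ⁅a, g⁆ = 1) then 2 * sA.card else sA.card := by
    intro g
    split_ifs with hg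
    · congr 1
      congr 1
      ext a
      simp only [hsA, Finset.mem_filter, Finset.mem_univ, true_and, and_iff_left_iff_imp]
      exact fun ha => hg a ha
    · push Not at hg
      have h := half_fin hZ (chi hc g) A (by
        obtain ⟨a, ha, h⟩ := hg
        exact ⟨a, ha, by rwa [Ne, chi_eq_one]⟩)
      simp only [chi_eq_one] at h
      rw [← h, hsA, Finset.filter_filter]
  have h3 := sum_swap sA (Finset.univ : Finset E) (fun a g => ⁅a, g⁆ = 1)
  have h4 : (∑ a ∈ sA, 2 * (Finset.univ.filter (fun g : E => ⁅a, g⁆ = 1)).card) =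
      (∑ g : E, 2 * (sA.filter (fun a : E => ⁅a, g⁆ = 1)).card) := by
    rw [← Finset.mul_sum, ← Finset.mul_sum, h3]
  simp only [h1, h2] at h4
  rw [sum_ite_const, sum_ite_const, Finset.card_univ] at h4
  rw [h4]

open Classical in
/-- counting in two ways the pairs `(a, x)` in `A × E` with `(x * a) ^ 2 = 1` -/
theorem count_two [Fintype E] (hc : commutator E = Subgroup.center E)
    (hZ : Nat.card (Subgroup.center E) = 2) (A : Subgroup E)
    (hA2 : ∀ a ∈ A, a ^ 2 = 1) (hCA : ∀ g : E, (∀ a ∈ A, ⁅a, g⁆ = 1) → g ∈ A)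
    (hsq : ∀ x : E, x ^ 2 ∈ Subgroup.center E) :
    2 * ((Finset.univ.filter (· ∈ A)).card * (Finset.univ.filter (fun x : E => x ^ 2 = 1)).card) =
      Fintype.card E * (Finset.univ.filter (· ∈ A)).card +
      (Finset.univ.filter (· ∈ A)).card * (Finset.univ.filter (· ∈ A)).card := by
  set sA : Finset E := Finset.univ.filter (· ∈ A) with hsA
  set T : Finset E := Finset.univ.filter (fun x : E => x ^ 2 = 1) with hT
  have h1 : ∀ a : E, (Finset.univ.filter (fun x : E => (x * a) ^ 2 = 1)).card = T.card := by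
    intro a
    apply Finset.card_equiv (Equiv.mulRight a)
    intro x
    simp [hT]
  have h2 : ∀ x : E, 2 * (sA.filter (fun a : E => (x * a) ^ 2 = 1)).card =
      if x ∈ A then 2 * sA.card else sA.card := by
    intro x
    split_ifs with hx
    · congr 2
      ext a
      simp only [hsA, Finset.mem_filter, Finset.mem_univ, true_and, and_iff_left_iff_imp]
      exact fun ha => hA2 _ (mul_mem hx ha)
    · have hx' : ∃ a ∈ A, chi hc x a ≠ 1 := by
        by_contra hcon
        push Not at hcon
        exact hx (hCA x (fun a ha => (chi_eq_one hc x a).1 (hcon a ha)))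
      have h := half_fin hZ (chi hc x) A hx'
      simp only [chi_eq_one] at h
      rw [← Finset.filter_filter, ← hsA] at h
      by_cases hx2 : x ^ 2 = 1
      · rw [← h]
        congr 2
        ext a
        simp only [hsA, Finset.mem_filter, Finset.mem_univ, true_and]
        constructor
        · rintro ⟨ha, h3⟩
          refine ⟨ha, ?_⟩
          rwa [sq_mul hc x a (hA2 a ha), hx2, mul_one] at h3
        · rintro ⟨ha, h3⟩
          refine ⟨ha, ?_⟩
          rw [sq_mul hc x a (hA2 a ha), hx2, mul_one, h3]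
      · have h3 : sA.filter (fun a : E => (x * a) ^ 2 = 1) = sA.filter (fun a : E => ¬ ⁅a, x⁆ = 1) := by
          ext a
          simp only [hsA, Finset.mem_filter, Finset.mem_univ, true_and]
          constructor
          · rintro ⟨ha, h3⟩
            refine ⟨ha, fun h4 => ?_⟩
            rw [sq_mul hc x a (hA2 a ha), h4, one_mul] at h3
            exact hx2 h3
          · rintro ⟨ha, h3⟩
            refine ⟨ha, ?_⟩
            rw [sq_mul hc x a (hA2 a ha),
              center_two hZ _ _ (comm_mem hc a x) (hsq x) h3 hx2]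
            exact center_sq hZ _ (hsq x)
        rw [h3]
        have h4 := Finset.card_filter_add_card_filter_not (s := sA) (fun a : E => ⁅a, x⁆ = 1)
        omega
  have h3 := sum_swap sA (Finset.univ : Finset E) (fun a x => (x * a) ^ 2 = 1)
  simp only [h1] at h3
  rw [Finset.sum_const, smul_eq_mul] at h3
  have h4 : 2 * (sA.card * T.card) =
      ∑ x : E, 2 * (sA.filter (fun a : E => (x * a) ^ 2 = 1)).card := by
    rw [← Finset.mul_sum, h3]
  simp only [h2] at h4
  rw [sum_ite_const, Finset.card_univ, ← hsA] at h4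
  rw [h4]; ring

theorem orderOf_eq_four_iff (hZ : Nat.card (Subgroup.center E) = 2)
    (hsq : ∀ x : E, x ^ 2 ∈ Subgroup.center E) (x : E) : orderOf x = 4 ↔ ¬ x ^ 2 = 1 := by
  constructor
  · intro h h2
    have := orderOf_dvd_of_pow_eq_one h2
    rw [h] at this
    norm_num at this
  · intro h
    have h4 : x ^ 2 ^ (1 + 1) = 1 := by
      have := center_sq hZ _ (hsq x)
      rw [← this]; group
    have := orderOf_eq_prime_pow (p := 2) (n := 1) (by rwa [pow_one]) h4
    rw [this]; norm_num

open Classical in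
theorem main [Finite E] (m : ℕ) (hE : Cfsg.IsExtraspecial 2 E)
    (hcard : Nat.card E = 2 ^ (2 * m + 1))
    (A : Subgroup E) (hA : Cfsg.IsElementaryAbelian 2 A) (hAcard : Nat.card A = 2 ^ (m + 1)) :
    Nat.card {x : E // orderOf x = 4} = 2 ^ (2 * m) - 2 ^ m := by
  haveI : Fintype E := Fintype.ofFinite E
  haveI : Fact (Nat.Prime 2) := ⟨Nat.prime_two⟩
  obtain ⟨⟨hP, hfr, hc⟩, hZ⟩ := hE
  obtain ⟨hAc, hA2⟩ := hA
  have hsq : ∀ x : E, x ^ 2 ∈ Subgroup.center E := fun x => by
    rw [← hfr]; exact Cfsg.Agent.Lib.Helper03.pow_mem_frattini_of_isPGroup hP x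
  have hsA : (Finset.univ.filter (· ∈ A)).card = 2 ^ (m + 1) := by
    rw [← hAcard, Nat.card_eq_fintype_card, Fintype.card_subtype]
  have hcE : Fintype.card E = 2 ^ (2 * m + 1) := by rw [← hcard, Nat.card_eq_fintype_card]
  have h1 := count_one hc hZ A
  -- the centre part of `A` has at most two elements
  have hZs : ((Finset.univ.filter (· ∈ A)).filter (· ∈ Subgroup.center E)).card ≤ 2 := by
    calc ((Finset.univ.filter (· ∈ A)).filter (· ∈ Subgroup.center E)).card
        ≤ (Finset.univ.filter (· ∈ Subgroup.center E)).card := by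
          apply Finset.card_le_card
          intro x hx
          simp only [Finset.mem_filter, Finset.mem_univ, true_and] at hx ⊢
          exact hx.2
      _ = 2 := by rw [← hZ, Nat.card_eq_fintype_card, Fintype.card_subtype]
  have hpow : (2 : ℕ) ^ (2 * m + 1) * 2 = 2 ^ (m + 1) * 2 ^ (m + 1) := by
    rw [← pow_succ, ← pow_add]; congr 1; omega
  have hC : (Finset.univ.filter (fun g : E => ∀ a ∈ A, ⁅a, g⁆ = 1)).card ≤
      (Finset.univ.filter (· ∈ A)).card := by
    rw [hsA, hcE] at h1
    rw [hsA]
    have h2 : 2 ^ (m + 1) * (Finset.univ.filter (fun g : E => ∀ a ∈ A, ⁅a, g⁆ = 1)).card ≤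
        2 ^ (m + 1) * 2 ^ (m + 1) := by
      rw [← hpow]
      have := Nat.mul_le_mul_left (2 ^ (2 * m + 1)) hZs
      linarith
    exact Nat.le_of_mul_le_mul_left h2 (by positivity)
  have hsub : (Finset.univ.filter (· ∈ A)) ⊆
      (Finset.univ.filter (fun g : E => ∀ a ∈ A, ⁅a, g⁆ = 1)) := by
    intro g hg
    simp only [Finset.mem_filter, Finset.mem_univ, true_and] at hg ⊢
    intro a ha
    rw [commutatorElement_eq_one_iff_mul_comm]
    have := hAc.is_comm.comm ⟨a, ha⟩ ⟨g, hg⟩
    exact congrArg Subtype.val this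
  have hCA : ∀ g : E, (∀ a ∈ A, ⁅a, g⁆ = 1) → g ∈ A := by
    intro g hg
    have := Finset.eq_of_subset_of_card_le hsub hC
    have hg' : g ∈ (Finset.univ.filter (fun g : E => ∀ a ∈ A, ⁅a, g⁆ = 1)) := by
      simp only [Finset.mem_filter, Finset.mem_univ, true_and]; exact hg
    rw [← this] at hg'
    simpa using hg'
  have h2 := count_two hc hZ A hA2 hCA hsq
  rw [hsA, hcE] at h2
  have hT : (Finset.univ.filter (fun x : E => x ^ 2 = 1)).card = 2 ^ (2 * m) + 2 ^ m := by
    have e1 : (2 : ℕ) ^ (2 * m + 1) = 2 * 2 ^ (2 * m) := by rw [pow_succ]; ring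
    have e2 : (2 : ℕ) ^ (m + 1) = 2 * 2 ^ m := by rw [pow_succ]; ring
    rw [e1, e2] at h2
    have hpos : 0 < 2 ^ m := by positivity
    have h3 : 2 * (2 * 2 ^ m * (Finset.univ.filter (fun x : E => x ^ 2 = 1)).card) =
        2 * (2 * 2 ^ m * (2 ^ (2 * m) + 2 ^ m)) := by
      rw [h2]; ring
    exact Nat.eq_of_mul_eq_mul_left (by positivity) (Nat.eq_of_mul_eq_mul_left (by norm_num) h3)
  have h3 : Nat.card {x : E // orderOf x = 4} =
      (Finset.univ.filter (fun x : E => ¬ x ^ 2 = 1)).card := by
    rw [Nat.card_eq_fintype_card, Fintype.card_subtype]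
    congr 1
    ext x
    simp only [Finset.mem_filter, Finset.mem_univ, true_and]
    exact orderOf_eq_four_iff hZ hsq x
  have h4 := Finset.card_filter_add_card_filter_not (s := (Finset.univ : Finset E))
    (fun x : E => x ^ 2 = 1)
  rw [Finset.card_univ, hcE, hT] at h4
  rw [h3]
  have e1 : (2 : ℕ) ^ (2 * m + 1) = 2 * 2 ^ (2 * m) := by rw [pow_succ]; ring
  have hle : 2 ^ m ≤ 2 ^ (2 * m) := Nat.pow_le_pow_right (by norm_num) (by omega)
  omega



/-- Let E be an extraspecial 2-group of order 2^(2m+1) of plus type, that is, containing an elementary abelian subgroup of order 2^(m+1) (equivalently, a central product of m dihedral groups of order 8). Then E has exactly 2^(2m) − 2^m elements of order 4. -/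
theorem result {E : Type*} [Group E] [Finite E] (m : ℕ) (hm : 1 ≤ m) (hE : Cfsg.IsExtraspecial 2 E) (hcard : Nat.card E = 2 ^ (2 * m + 1)) (hplus : ∃ A : Subgroup E, Cfsg.IsElementaryAbelian 2 A ∧ Nat.card A = 2 ^ (m + 1)) : Nat.card {x : E // orderOf x = 4} = 2 ^ (2 * m) - 2 ^ m := by
  obtain ⟨A, hA, hAcard⟩ := hplus
  exact main m hE hcard A hA hAcard

end Cfsg.Agent.S2880
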