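import Cfsg.Statements.S2881
import Cfsg.Agent.Lib.Helper52.Extraspecial

set_option autoImplicit false
open Cfsg

namespace Cfsg.Agent.S2881

/-- Let E be an extraspecial 2-group of order 2^(2m+1) of plus type (containing an elementary abelian subgroup of order 2^(m+1)), and let ω be an automorphism of E of order 5 whose fixed points are exactly the centre of E. Then m is divisible by 4. -/
theorem result {E : Type*} [Group E] [Finite E] (m : ℕ) (hm : 1 ≤ m) (hE : Cfsg.IsExtraspecial 2 E) (hcard : Nat.card E = 2 ^ (2 * m + 1)) (hplus : ∃ A : Subgroup E, Cfsg.IsElementaryAbelian 2 A ∧ Nat.card A = 2 ^ (m + 1)) (ω : E ≃* E) (hω : orderOf ω = 5) (hfix : ∀ x : E, ω x = x ↔ x ∈ Subgroup.center E) : 4 ∣ m := by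
  classical
  have d1 : (2 : ZMod 5) ≠ 0 := by decide
  have d2 : (2 : ZMod 5) ^ 4 = 1 := by decide
  have d3 : (2 : ZMod 5) ^ (4 / 2) ≠ 1 := by decide
  obtain ⟨A, hA, hAcard⟩ := hplus
  have hcount := Cfsg.Agent.Lib.Helper52.card_orderOf_four_of_extraspecial_plus m hE hcard A hA
    hAcard
  have : Fintype E := Fintype.ofFinite E
  have : Fact (Nat.Prime 5) := ⟨by norm_num⟩
  have h5 : ∀ x : E, ω (ω (ω (ω (ω x)))) = x := by
    intro x
    have h := pow_orderOf_eq_one ω
    rw [hω] at h
    have h' := DFunLike.congr_fun h x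
    simpa [pow_succ, MulAut.mul_apply] using h'
  have hord : ∀ x : E, orderOf (ω x) = orderOf x := fun x => MulEquiv.orderOf_eq ω x
  let f : Function.End {x : E // orderOf x = 4} := fun x => ⟨ω x.1, by rw [hord]; exact x.2⟩
  have hf : f ^ 5 ^ 1 = 1 := by
    rw [pow_one]
    have hcoe : ((f ^ 5 : Function.End {x : E // orderOf x = 4}) :
        {x : E // orderOf x = 4} → {x : E // orderOf x = 4}) = f^[5] :=
      hom_coe_pow (fun g : Function.End {x : E // orderOf x = 4} ↦
        (g : {x : E // orderOf x = 4} → {x : E // orderOf x = 4})) rfl (fun g h ↦ rfl) f 5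
    funext x
    have : (f ^ 5) x = f^[5] x := congrFun hcoe x
    rw [this]
    apply Subtype.ext
    have e : f^[5] x = f (f (f (f (f x)))) := rfl
    rw [e]
    exact h5 x.1
  have hfix : IsEmpty (Function.fixedPoints f) := by
    constructor
    rintro ⟨x, hx⟩
    have hx' : ω x.1 = x.1 := congrArg Subtype.val hx
    have hxc : x.1 ∈ Subgroup.center E := (hfix x.1).mp hx'
    have h2 : x.1 ^ 2 = 1 := by
      have := pow_card_eq_one' (G := Subgroup.center E) (x := ⟨x.1, hxc⟩)
      rw [hE.2] at this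
      exact congrArg Subtype.val this
    have := orderOf_dvd_of_pow_eq_one h2
    rw [x.2] at this
    omega
  have hmod := Equiv.Perm.card_fixedPoints_modEq (p := 5) (n := 1) hf
  have h0 : Fintype.card (Function.fixedPoints f) = 0 := Fintype.card_eq_zero
  rw [h0, ← Nat.card_eq_fintype_card, hcount] at hmod
  have hdvd : 5 ∣ 2 ^ (2 * m) - 2 ^ m := (Nat.modEq_zero_iff_dvd).mp hmod
  have hle : 2 ^ m ≤ 2 ^ (2 * m) := Nat.pow_le_pow_right (by norm_num) (by omega)
  have hz : ((2 ^ (2 * m) - 2 ^ m : ℕ) : ZMod 5) = 0 := (ZMod.natCast_eq_zero_iff _ _).mpr hdvd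
  rw [Nat.cast_sub hle] at hz
  push_cast at hz
  have hz2 : (2 : ZMod 5) ^ m * ((2 : ZMod 5) ^ m - 1) = 0 := by
    have : (2 : ZMod 5) ^ (2 * m) = (2 : ZMod 5) ^ m * (2 : ZMod 5) ^ m := by
      rw [two_mul, pow_add]
    rw [this] at hz
    linear_combination hz
  have h2ne : (2 : ZMod 5) ^ m ≠ 0 := pow_ne_zero _ d1
  have hone : (2 : ZMod 5) ^ m = 1 := by
    rcases mul_eq_zero.mp hz2 with h | h
    · exact absurd h h2ne
    · exact sub_eq_zero.mp h
  have ho : orderOf (2 : ZMod 5) = 4 := by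
    apply orderOf_eq_of_pow_and_pow_div_prime (by norm_num) d2
    intro p hp hp4
    have : p = 2 := by
      have : p ∣ 2 ^ 2 := hp4
      exact (Nat.prime_dvd_prime_iff_eq hp Nat.prime_two).mp (hp.dvd_of_dvd_pow this)
    subst this
    exact d3
  rw [← ho]
  exact orderOf_dvd_of_pow_eq_one hone

end Cfsg.Agent.S2881
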