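import Cfsg.Statements.S2882
import Cfsg.Agent.Lib.Helper10.SylM24
import Cfsg.Agent.Lib.Helper10.SylNorm

set_option autoImplicit false
open Cfsg

namespace Cfsg.Agent.S2882

open Cfsg.Agent.Lib.Helper10 Cfsg.Agent.Lib.Helper10.SylM24 in
/-- In the Mathieu group of degree 24 (realised as the automorphism group of the extended binary Golay code) every Sylow 2-subgroup is self-normalizing. -/
theorem result (S : Sylow 2 ↥Cfsg.M24) : Subgroup.normalizer ((S : Subgroup ↥Cfsg.M24) : Set ↥Cfsg.M24) = (S : Subgroup ↥Cfsg.M24) := by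
  have : Fact (Nat.Prime 2) := ⟨Nat.prime_two⟩
  exact sylow_normalizer_eq_sub M24 2 (Hs sv 10) S_le 10 card_S
    (factorization_of_eq _ 2 10 239085 Nat.prime_two (by rw [card_M24]; norm_num) (by norm_num))
    normalizer_le S

end Cfsg.Agent.S2882
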