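import Cfsg.Statements.S3802
import Cfsg.Agent.Lib.Helper68.MinNormal

set_option autoImplicit false
open Cfsg

namespace Cfsg.Agent.S3802

open Cfsg.Agent.Lib.Helper68

/-- Let G be a finite group, M a maximal subgroup of G and N a subnormal subgroup of G contained in M. Then N is contained in every conjugate of M, that is, N lies in the core of M in G. -/
theorem result {G : Type*} [Group G] [Finite G] (M N : Subgroup G) (hM : IsCoatom M) (hN : N.IsSubnormal) (hNM : N ≤ M) :
    N ≤ Subgroup.normalCore M := by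
  classical
  set C := M.normalCore with hC
  have hCM : C ≤ M := M.normalCore_le
  let π := QuotientGroup.mk' C
  have hsurj : Function.Surjective π := QuotientGroup.mk'_surjective C
  -- a minimal normal subgroup of the quotient
  let P : Subgroup (G ⧸ C) → Prop := fun X => X.Normal ∧ X ≠ ⊥
  have hQnt : (⊤ : Subgroup (G ⧸ C)) ≠ ⊥ := by
    intro h
    apply hM.1
    rw [eq_top_iff]
    intro g _
    have : π g ∈ (⊤ : Subgroup (G ⧸ C)) := trivial
    rw [h, Subgroup.mem_bot] at this
    exact hCM ((QuotientGroup.eq_one_iff g).1 this)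
  have hPtop : P ⊤ := ⟨inferInstance, hQnt⟩
  obtain ⟨Kb, _, hKmin⟩ := exists_minimal_le_of_wellFoundedLT P ⊤ hPtop
  obtain ⟨hKn, hKbot⟩ := hKmin.prop
  have hmin : ∀ L : Subgroup (G ⧸ C), L.Normal → L ≤ Kb → L = ⊥ ∨ L = Kb := by
    intro L hL hLK
    by_cases hLb : L = ⊥
    · left; exact hLb
    · right; exact le_antisymm hLK (hKmin.le_of_le ⟨hL, hLb⟩ hLK)
  have hnorm := minNormal_le_normalizer (N.map π) Kb (hN.map hsurj) hKn hmin
  set K := Kb.comap π with hK
  have hKnormal : K.Normal := hKn.comap π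
  have hmapK : K.map π = Kb := Subgroup.map_comap_eq_self_of_surjective hsurj Kb
  have hKM : ¬ K ≤ M := by
    intro hle
    have h1 : K ≤ C := Subgroup.normal_le_normalCore.2 hle
    have h2 : Kb ≤ ⊥ := by
      rw [← hmapK]
      calc K.map π ≤ C.map π := Subgroup.map_mono h1
        _ = ⊥ := QuotientGroup.map_mk'_self C
    exact hKbot (le_bot_iff.1 h2)
  have hsup : M ⊔ K = ⊤ := by
    have hlt : M < M ⊔ K := by
      apply lt_of_le_of_ne le_sup_left
      intro h
      apply hKM
      rw [h]; exact le_sup_right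
    exact hM.2 _ hlt
  -- elements of K conjugate N into M
  have hKconj : ∀ k ∈ K, cj k N ≤ M := by
    intro k hk
    have hk' : π k ∈ Kb := hk
    have h1 := hnorm hk'
    rw [← cj_eq_self_iff] at h1
    have h2 : (cj k N).map π = N.map π := by
      rw [← h1]
      ext y
      simp only [Subgroup.mem_map]
      constructor
      · rintro ⟨x, ⟨h, hh, rfl⟩, rfl⟩
        exact ⟨π h, ⟨h, hh, rfl⟩, by simp [π]⟩
      · rintro ⟨x, ⟨h, hh, rfl⟩, rfl⟩
        exact ⟨k * h * k⁻¹, ⟨h, hh, rfl⟩, by simp [π]⟩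
    have h3 := congrArg (Subgroup.comap π) h2
    rw [Subgroup.comap_map_eq, Subgroup.comap_map_eq, QuotientGroup.ker_mk'] at h3
    calc cj k N ≤ cj k N ⊔ C := le_sup_left
      _ = N ⊔ C := h3
      _ ≤ M := sup_le hNM hCM
  intro a ha b
  have hb : b ∈ ((M ⊔ K : Subgroup G) : Set G) := by rw [hsup]; trivial
  rw [Subgroup.mul_normal] at hb
  obtain ⟨m, hm, k, hk, rfl⟩ := hb
  have h1 : k * a * k⁻¹ ∈ M := hKconj k hk (mem_cj.2 ⟨a, ha, rfl⟩)
  have h2 : m * k * a * (m * k)⁻¹ = m * (k * a * k⁻¹) * m⁻¹ := by group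
  rw [h2]
  exact M.mul_mem (M.mul_mem hm h1) (M.inv_mem hm)

end Cfsg.Agent.S3802
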