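import Cfsg.Statements.S2905
import Cfsg.Agent.S3802
import Cfsg.Agent.S3743
import Cfsg.Agent.Lib.Helper54.SylowLib
import Cfsg.Agent.Lib.Helper54.WeaklyClosed
import Cfsg.Agent.Lib.Helper56.WeakClosure

set_option autoImplicit false
open Cfsg

namespace Cfsg.Agent.S2905

open Cfsg.Agent.Lib.Helper54

/-- In a finite `p`-minimal group every proper subgroup containing the Sylow subgroup `S` lies in
the unique maximal subgroup `M` containing `S`. -/
theorem le_of_sylow_le {P : Type*} [Group P] [Finite P] {p : ℕ} [Fact p.Prime]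
    (hP : Cfsg.IsPMinimal p P) (S : Sylow p P) (M : Subgroup P) (hM : IsCoatom M)
    (hSM : (S : Subgroup P) ≤ M) (H : Subgroup P) (hH : H ≠ ⊤) (hSH : (S : Subgroup P) ≤ H) :
    H ≤ M := by
  obtain ⟨M', hM', hHM'⟩ := (eq_top_or_exists_le_coatom H).resolve_left hH
  obtain ⟨_, M₀, _, huniq⟩ := hP S
  have h1 : M' = M₀ := huniq M' ⟨hM', hSH.trans hHM'⟩
  have h2 : M = M₀ := huniq M ⟨hM, hSM⟩
  rw [h2, ← h1]
  exact hHM'

/-- A Sylow `p`-subgroup `S` normalizes `T·Q` for a suitable Sylow `q`-subgroup `Q`, when `T` is a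
normal subgroup of `P` of index prime to `p` in the normal subgroup `R` containing all Sylow
`q`-subgroups. -/
theorem exists_sylow_normalized {P : Type*} [Group P] [Finite P] {p q : ℕ} [Fact p.Prime]
    [Fact q.Prime] (S : Sylow p P) (R : Subgroup P) [hR : R.Normal]
    (hQR : ∀ Q : Sylow q P, (Q : Subgroup P) ≤ R)
    (T : Subgroup P) [hT : T.Normal] (hTR : T ≤ R) (hTi : ¬ p ∣ T.relIndex R) :
    ∃ Q : Sylow q P,
      (S : Subgroup P) ≤ Subgroup.normalizer ((T ⊔ (Q : Subgroup P) : Subgroup P) : Set P) := by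
  classical
  obtain Q₀ : Sylow q P := default
  set A₀ : Subgroup P := T ⊔ (Q₀ : Subgroup P) with hA₀
  set N₀ : Subgroup P := Subgroup.normalizer (A₀ : Set P) with hN₀
  have hA₀R : A₀ ≤ R := sup_le hTR (hQR Q₀)
  -- Frattini
  have hfr : Subgroup.normalizer ((Q₀ : Subgroup P) : Set P) ⊔ R = ⊤ :=
    Sylow.normalizer_sup_eq_top' Q₀ (hQR Q₀)
  have hNQ : Subgroup.normalizer ((Q₀ : Subgroup P) : Set P) ≤ N₀ := by
    intro g hg
    have key : ∀ g' ∈ Subgroup.normalizer ((Q₀ : Subgroup P) : Set P), ∀ a ∈ A₀,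
        g' * a * g'⁻¹ ∈ A₀ := by
      intro g' hg' a ha
      rw [hA₀, Subgroup.mem_sup_of_normal_left] at ha
      obtain ⟨t, ht, x, hx, rfl⟩ := ha
      have e : g' * (t * x) * g'⁻¹ = (g' * t * g'⁻¹) * (g' * x * g'⁻¹) := by group
      rw [e]
      exact A₀.mul_mem ((le_sup_left : T ≤ A₀) (hT.conj_mem t ht g'))
        ((le_sup_right : (Q₀ : Subgroup P) ≤ A₀) ((Subgroup.mem_normalizer_iff.mp hg' x).mp hx))
    rw [hN₀, Subgroup.mem_normalizer_iff]
    intro a
    constructor
    · exact key g hg a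
    · intro h
      have := key g⁻¹ (Subgroup.inv_mem _ hg) _ h
      have e : g⁻¹ * (g * a * g⁻¹) * g⁻¹⁻¹ = a := by group
      rwa [e] at this
  have hN₀R : N₀ ⊔ R = ⊤ := by
    rw [eq_top_iff, ← hfr]
    exact sup_le_sup_right hNQ R
  -- index computation
  have hidx : ¬ p ∣ N₀.index := by
    have h1 : N₀.relIndex R = N₀.relIndex (N₀ ⊔ R) :=
      relIndex_eq_relIndex_sup_of_le_normalizer (by
        rw [Subgroup.normalizer_eq_top_iff.mpr hR]; exact le_top)
    rw [hN₀R, Subgroup.relIndex_top_right] at h1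
    rw [← h1]
    intro hdvd
    apply hTi
    have h2 : N₀.relIndex R ∣ A₀.relIndex R :=
      Subgroup.relIndex_dvd_of_le_left R (Subgroup.le_normalizer : A₀ ≤ N₀)
    have h3 : A₀.relIndex R ∣ T.relIndex R :=
      Subgroup.relIndex_dvd_of_le_left R (le_sup_left : T ≤ A₀)
    exact hdvd.trans (h2.trans h3)
  -- a Sylow p-subgroup of P inside N₀
  obtain S_N : Sylow p ↥N₀ := default
  have hS₁p : IsPGroup p ↥((S_N : Subgroup ↥N₀).map N₀.subtype) := S_N.isPGroup'.map _
  have hS₁i : ¬ p ∣ ((S_N : Subgroup ↥N₀).map N₀.subtype).index := by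
    rw [Subgroup.index_map_subtype]
    intro h
    rcases (Nat.Prime.dvd_mul Fact.out).mp h with h | h
    · exact S_N.not_dvd_index h
    · exact hidx h
  set S₁ : Sylow p P := hS₁p.toSylow hS₁i with hS₁
  have hS₁N : (S₁ : Subgroup P) ≤ N₀ := by
    rintro _ ⟨x, _, rfl⟩
    exact x.2
  obtain ⟨g, hg⟩ := MulAction.exists_smul_eq P S₁ S
  refine ⟨g • Q₀, ?_⟩
  have hSg : (S : Subgroup P) = (S₁ : Subgroup P).map (MulAut.conj g).toMonoidHom := by
    rw [← hg]; rfl
  have hAg : (T ⊔ ((g • Q₀ : Sylow q P) : Subgroup P) : Subgroup P)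
      = A₀.map (MulAut.conj g).toMonoidHom := by
    rw [hA₀, Subgroup.map_sup, sylow_smul_coe]
    congr 1
    ext x
    rw [Cfsg.Agent.Lib.Helper56.mem_map_conj_iff]
    constructor
    · intro hx
      have := hT.conj_mem x hx g⁻¹
      simpa using this
    · intro hx
      have := hT.conj_mem _ hx g
      have e : g * (g⁻¹ * x * g) * g⁻¹ = x := by group
      rwa [e] at this
  rw [hAg, normalizer_map_conj, hSg]
  exact Subgroup.map_mono hS₁N

/-- If every prime power part of `|P|` is realised by a Sylow subgroup inside `M`, then `M = ⊤`. -/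
theorem eq_top_of_forall_sylow_le {P : Type*} [Group P] [Finite P] (M : Subgroup P)
    (h : ∀ (r : ℕ) [Fact r.Prime], r ∣ Nat.card P → ∃ Q : Sylow r P, (Q : Subgroup P) ≤ M) :
    M = ⊤ := by
  have hP0 : Nat.card P ≠ 0 := Nat.card_pos.ne'
  have hM0 : Nat.card ↥M ≠ 0 := Nat.card_pos.ne'
  have hdvd : Nat.card P ∣ Nat.card ↥M := by
    rw [← Nat.factorization_le_iff_dvd hP0 hM0]
    intro r
    by_cases hr : r.Prime
    · have : Fact r.Prime := ⟨hr⟩
      by_cases hrd : r ∣ Nat.card P
      · obtain ⟨Q, hQ⟩ := h r hrd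
        have h1 : Nat.card ↥(Q : Subgroup P) ∣ Nat.card ↥M := Subgroup.card_dvd_of_le hQ
        rw [Sylow.card_eq_multiplicity] at h1
        exact (hr.pow_dvd_iff_le_factorization hM0).mp h1
      · rw [Nat.factorization_eq_zero_of_not_dvd hrd]
        exact Nat.zero_le _
    · rw [Nat.factorization_eq_zero_of_not_prime _ hr]
      exact Nat.zero_le _
  apply Subgroup.eq_top_of_card_eq
  exact Nat.dvd_antisymm (Subgroup.card_subgroup_dvd_card M) hdvd

theorem part2 {P : Type*} [Group P] [Finite P] {p : ℕ} [Fact p.Prime] (hP : Cfsg.IsPMinimal p P)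
    (S : Sylow p P) (M : Subgroup P) (hM : IsCoatom M) (hSM : (S : Subgroup P) ≤ M)
    (hnorm : ∀ T : Sylow p ↥(Cfsg.pResidual p P), (T : Subgroup ↥(Cfsg.pResidual p P)).Normal) :
    (Nat.card P).primeFactors.card ≤ 2 := by
  classical
  have hp : p.Prime := Fact.out
  have hle := le_of_sylow_le hP S M hM hSM
  set R : Subgroup P := Cfsg.pResidual p P with hR
  have hRn : R.Normal := pResidual_normal p P
  obtain ⟨T', hT'⟩ := exists_sylow_eq_subgroupOf_of_normal S R
  have hT'n : (T' : Subgroup ↥R).Normal := hnorm T'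
  have hT'c : (T' : Subgroup ↥R).Characteristic := Sylow.characteristic_of_normal T' hT'n
  set T : Subgroup P := (T' : Subgroup ↥R).map R.subtype with hT
  have hTn : T.Normal := ConjAct.normal_of_characteristic_of_normal
  have hTeq : T = (S : Subgroup P) ⊓ R := by
    rw [hT, hT', Subgroup.subgroupOf_map_subtype]
  have hTS : T ≤ (S : Subgroup P) := hTeq ▸ inf_le_left
  have hTR : T ≤ R := hTeq ▸ inf_le_right
  have hTp : IsPGroup p ↥T := S.isPGroup'.to_le hTS
  have hTi : ¬ p ∣ T.relIndex R := by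
    have h1 : T.subgroupOf R = (T' : Subgroup ↥R) := by
      rw [hT]
      exact Subgroup.comap_map_eq_self_of_injective (Subgroup.subtype_injective R) _
    show ¬ p ∣ (T.subgroupOf R).index
    rw [h1]
    exact T'.not_dvd_index
  by_contra hcard
  push Not at hcard
  apply hM.1
  apply eq_top_of_forall_sylow_le
  intro q hq hqd
  by_cases hqp : q = p
  · subst hqp
    have : hq = ‹Fact q.Prime› := Subsingleton.elim _ _
    subst this
    exact ⟨S, hSM⟩
  · have hQR : ∀ Q : Sylow q P, (Q : Subgroup P) ≤ R := by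
      intro Q x hx
      apply mem_pResidual_of_coprime
      obtain ⟨k, hk⟩ := (IsPGroup.iff_orderOf.mp Q.isPGroup') ⟨x, hx⟩
      have h1 : orderOf x = q ^ k := by
        rw [← hk]
        exact Subgroup.orderOf_coe (⟨x, hx⟩ : ↥(Q : Subgroup P))
      rw [h1]
      exact Nat.Coprime.pow_left k ((Nat.coprime_primes hq.out hp).mpr hqp)
    obtain ⟨Q, hQ⟩ := exists_sylow_normalized S R hQR T hTR hTi
    refine ⟨Q, ?_⟩
    set A : Subgroup P := T ⊔ (Q : Subgroup P) with hA
    set H : Subgroup P := (S : Subgroup P) ⊔ A with hH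
    have hHne : H ≠ ⊤ := by
      intro hHtop
      have h1 : Nat.card ↥H ∣ Nat.card ↥(S : Subgroup P) * Nat.card ↥A :=
        Cfsg.Agent.S3743.card_sup_dvd _ _ hQ
      have h2 : Nat.card ↥A ∣ Nat.card ↥(Q : Subgroup P) * Nat.card ↥T := by
        rw [hA, sup_comm]
        exact Cfsg.Agent.S3743.card_sup_dvd_normal _ _
      have h3 : Nat.card P ∣ Nat.card ↥(S : Subgroup P) * (Nat.card ↥(Q : Subgroup P) * Nat.card ↥T) := by
        have : Nat.card P = Nat.card ↥H := by
          rw [hHtop, Subgroup.card_top]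
        rw [this]
        exact h1.trans (Nat.mul_dvd_mul_left _ h2)
      obtain ⟨a, ha⟩ := IsPGroup.iff_card.mp S.isPGroup'
      obtain ⟨b, hb⟩ := IsPGroup.iff_card.mp Q.isPGroup'
      obtain ⟨c, hc⟩ := IsPGroup.iff_card.mp hTp
      rw [ha, hb, hc] at h3
      have hsub : (Nat.card P).primeFactors ⊆ {p, q} := by
        intro r hr
        have hrp := Nat.prime_of_mem_primeFactors hr
        have hrd := (Nat.dvd_of_mem_primeFactors hr).trans h3
        rw [Finset.mem_insert, Finset.mem_singleton]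
        rcases (Nat.Prime.dvd_mul hrp).mp hrd with h | h
        · left
          exact (Nat.prime_dvd_prime_iff_eq hrp hp).mp (hrp.dvd_of_dvd_pow h)
        · rcases (Nat.Prime.dvd_mul hrp).mp h with h | h
          · right
            exact (Nat.prime_dvd_prime_iff_eq hrp hq.out).mp (hrp.dvd_of_dvd_pow h)
          · left
            exact (Nat.prime_dvd_prime_iff_eq hrp hp).mp (hrp.dvd_of_dvd_pow h)
      have := Finset.card_le_card hsub
      have h4 : ({p, q} : Finset ℕ).card ≤ 2 := Finset.card_le_two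
      omega
    have hHM : H ≤ M := hle H hHne le_sup_left
    exact (le_sup_right : (Q : Subgroup P) ≤ A).trans ((le_sup_right : A ≤ H).trans hHM)

theorem result {P : Type*} [Group P] [Finite P] {p : ℕ} [Fact p.Prime] (hP : Cfsg.IsPMinimal p P) (S : Sylow p P) (M : Subgroup P) (hM : IsCoatom M) (hSM : (S : Subgroup P) ≤ M) [hF : M.normalCore.Normal] : (∀ N : Subgroup P, N.IsSubnormal → N ≤ M → N ⊓ (S : Subgroup P) ≤ Cfsg.pCore p P) ∧ ((∀ T : Sylow p ↥(Cfsg.pResidual p P), (T : Subgroup ↥(Cfsg.pResidual p P)).Normal) → (Nat.card P).primeFactors.card ≤ 2) ∧ (∀ N : Subgroup P, N.Normal → Cfsg.pResidual p P ≤ N ∨ N ≤ M.normalCore) ∧ (∀ N : Subgroup P, N.Normal → M.normalCore ≤ N → N ≤ Cfsg.pResidual p P ⊔ M.normalCore → N = M.normalCore ∨ N = Cfsg.pResidual p P ⊔ M.normalCore) ∧ M.normalCore < Cfsg.pResidual p P ⊔ M.normalCore := by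
  classical
  have hp : p.Prime := Fact.out
  have hle := le_of_sylow_le hP S M hM hSM
  have hRn : (Cfsg.pResidual p P).Normal := pResidual_normal p P
  -- (3)
  have h3 : ∀ N : Subgroup P, N.Normal → Cfsg.pResidual p P ≤ N ∨ N ≤ M.normalCore := by
    intro N hN
    by_cases hSN : (S : Subgroup P) ⊔ N = ⊤
    · left
      apply pResidual_le_of_quotient_isPGroup
      -- P/N is the image of S
      have hmap : ((S : Subgroup P).map (QuotientGroup.mk' N)) = ⊤ := by
        rw [eq_top_iff]
        intro x _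
        obtain ⟨g, rfl⟩ := QuotientGroup.mk_surjective x
        have hg : g ∈ (S : Subgroup P) ⊔ N := by rw [hSN]; trivial
        rw [Subgroup.mem_sup_of_normal_right] at hg
        obtain ⟨s, hs, n, hn, rfl⟩ := hg
        refine ⟨s, hs, ?_⟩
        rw [QuotientGroup.mk'_apply, QuotientGroup.eq]
        simpa using hn
      have h1 : IsPGroup p ↥((S : Subgroup P).map (QuotientGroup.mk' N)) := S.isPGroup'.map _
      rw [hmap] at h1
      exact IsPGroup.of_equiv h1 Subgroup.topEquiv
    · right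
      have h1 := hle _ hSN le_sup_left
      have h2 : N ≤ M := le_sup_right.trans h1
      exact (Subgroup.normal_le_normalCore).mpr h2
  -- (5)
  have h5 : ¬ Cfsg.pResidual p P ≤ M.normalCore := by
    intro h
    have h1 : Cfsg.pResidual p P ⊔ (S : Subgroup P) ≤ M :=
      sup_le (h.trans (Subgroup.normalCore_le M)) hSM
    rw [pResidual_sup_sylow S] at h1
    exact hM.1 (top_le_iff.mp h1)
  refine ⟨?_, ?_, h3, ?_, ?_⟩
  · -- (1)
    intro N hNsub hNM
    have hNF : N ≤ M.normalCore := Cfsg.Agent.S3802.result M N hM hNsub hNM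
    have hfr := normalizer_inf_sup_eq_top S M.normalCore
    set D : Subgroup P := (S : Subgroup P) ⊓ M.normalCore with hD
    have hSD : (S : Subgroup P) ≤ Subgroup.normalizer (D : Set P) := by
      intro s hs
      have key : ∀ s' ∈ (S : Subgroup P), ∀ d ∈ D, s' * d * s'⁻¹ ∈ D := by
        intro s' hs' d hd
        exact ⟨(S : Subgroup P).mul_mem ((S : Subgroup P).mul_mem hs' hd.1)
          ((S : Subgroup P).inv_mem hs'), hF.conj_mem d hd.2 s'⟩
      rw [Subgroup.mem_normalizer_iff]
      intro d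
      constructor
      · exact key s hs d
      · intro h
        have := key s⁻¹ ((S : Subgroup P).inv_mem hs) _ h
        have e : s⁻¹ * (s * d * s⁻¹) * s⁻¹⁻¹ = d := by group
        rwa [e] at this
    have hNtop : Subgroup.normalizer (D : Set P) = ⊤ := by
      by_contra hne
      have h1 := hle _ hne hSD
      have h2 : Subgroup.normalizer (D : Set P) ⊔ M.normalCore ≤ M :=
        sup_le h1 (Subgroup.normalCore_le M)
      rw [hfr] at h2
      exact hM.1 (top_le_iff.mp h2)
    have hDn : D.Normal := Subgroup.normalizer_eq_top_iff.mp hNtop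
    have hDp : IsPGroup p ↥D := S.isPGroup'.to_le inf_le_left
    have hDle : D ≤ Cfsg.pCore p P := le_pCore hDn hDp
    refine le_trans ?_ hDle
    exact le_inf inf_le_right (inf_le_left.trans hNF)
  · exact part2 hP S M hM hSM
  · intro N hN hFN hNle
    rcases h3 N hN with h | h
    · right
      exact le_antisymm hNle (sup_le h hFN)
    · left
      exact le_antisymm h hFN
  · refine lt_of_le_of_ne le_sup_right ?_
    intro h
    apply h5
    rw [h]
    exact le_sup_left

end Cfsg.Agent.S2905
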