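import Cfsg.Statements.S2907

set_option autoImplicit false
open Cfsg

namespace Cfsg.Agent.S2907

theorem result {X : Type*} [Group X] [Finite X] {p : ℕ} [Fact p.Prime] (hX : Cfsg.IsSemiExtraspecial p X) (x : X) (hx : x ∉ Subgroup.center X) : (Subgroup.centralizer ({x} : Set X)).index = Nat.card ↥(Subgroup.center X) ∧ {z : X | ∃ y : X, z = x * y * x⁻¹ * y⁻¹} = (Subgroup.center X : Set X) := by
  classical
  obtain ⟨⟨_, _, hcomm⟩, hsemi⟩ := hX
  -- every commutator is central
  have hc : ∀ a b : X, a * b * a⁻¹ * b⁻¹ ∈ Subgroup.center X := by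
    intro a b
    rw [← hcomm, commutator_def]
    exact Subgroup.commutator_mem_commutator (Subgroup.mem_top a) (Subgroup.mem_top b)
  -- the homomorphism y ↦ [x, y]
  let f : X →* X :=
    { toFun := fun y => x * y * x⁻¹ * y⁻¹
      map_one' := by simp
      map_mul' := by
        intro y z
        have h := Subgroup.mem_center_iff.mp (hc x z)
        have h2 := h y⁻¹
        calc x * (y * z) * x⁻¹ * (y * z)⁻¹
            = x * y * x⁻¹ * ((x * z * x⁻¹ * z⁻¹) * y⁻¹) := by group
          _ = x * y * x⁻¹ * (y⁻¹ * (x * z * x⁻¹ * z⁻¹)) := by rw [h2]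
          _ = x * y * x⁻¹ * y⁻¹ * (x * z * x⁻¹ * z⁻¹) := by group }
  have hf : ∀ y, f y = x * y * x⁻¹ * y⁻¹ := fun y => rfl
  have hrange : f.range ≤ Subgroup.center X := by
    rintro _ ⟨y, rfl⟩
    exact hc x y
  have hker : f.ker = Subgroup.centralizer ({x} : Set X) := by
    ext y
    rw [MonoidHom.mem_ker, hf, Subgroup.mem_centralizer_singleton_iff]
    constructor
    · intro h
      have : x * y = y * x := by
        calc x * y = (x * y * x⁻¹ * y⁻¹) * (y * x) := by group
          _ = y * x := by rw [h, one_mul]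
      exact this.symm
    · intro h
      calc x * y * x⁻¹ * y⁻¹ = (y * x) * x⁻¹ * y⁻¹ := by rw [h]
        _ = 1 := by group
  -- the range is the whole centre
  have hrange_eq : f.range = Subgroup.center X := by
    by_contra hne
    have hlt : f.range.subgroupOf (Subgroup.center X) ≠ ⊤ := by
      intro htop
      rw [Subgroup.subgroupOf_eq_top] at htop
      exact hne (le_antisymm hrange htop)
    obtain ⟨Y', hY'co, hY'le⟩ := (eq_top_or_exists_le_coatom _).resolve_left hlt
    set Y : Subgroup X := Y'.map (Subgroup.center X).subtype with hY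
    have hYle : Y ≤ Subgroup.center X := Subgroup.map_subtype_le Y'
    have hYsub : Y.subgroupOf (Subgroup.center X) = Y' := by
      rw [hY, Subgroup.subgroupOf, Subgroup.comap_map_eq_self_of_injective]
      exact Subtype.coe_injective
    obtain ⟨hYn, ⟨_, _, hcommQ⟩, _⟩ := hsemi Y hYle (by rw [hYsub]; exact hY'co)
    have hrY : f.range ≤ Y := by
      intro z hz
      have hzc : z ∈ Subgroup.center X := hrange hz
      have : (⟨z, hzc⟩ : Subgroup.center X) ∈ Y' := hY'le (by
        rw [Subgroup.mem_subgroupOf]; exact hz)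
      exact ⟨⟨z, hzc⟩, this, rfl⟩
    -- the image of x is central in X ⧸ Y
    have hxc : (QuotientGroup.mk' Y x) ∈ Subgroup.center (X ⧸ Y) := by
      rw [Subgroup.mem_center_iff]
      intro q
      obtain ⟨y, rfl⟩ := QuotientGroup.mk'_surjective Y q
      rw [← map_mul, ← map_mul]
      rw [QuotientGroup.mk'_apply, QuotientGroup.mk'_apply, QuotientGroup.eq]
      have h1 : f y⁻¹ ∈ Y := hrY ⟨y⁻¹, rfl⟩
      have h2 : f y⁻¹ ∈ Subgroup.center X := hrange ⟨y⁻¹, rfl⟩
      rw [hf] at h1 h2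
      have h3 := Subgroup.mem_center_iff.mp (Subgroup.inv_mem _ h2) x⁻¹
      have : (y * x)⁻¹ * (x * y) = x⁻¹ * (x * y⁻¹ * x⁻¹ * y⁻¹⁻¹)⁻¹ * x := by group
      rw [this, h3]
      have : (x * y⁻¹ * x⁻¹ * y⁻¹⁻¹)⁻¹ * x⁻¹ * x = (x * y⁻¹ * x⁻¹ * y⁻¹⁻¹)⁻¹ := by group
      rw [this]
      exact Subgroup.inv_mem _ h1
    have hcenQ : Subgroup.center (X ⧸ Y) = (Subgroup.center X).map (QuotientGroup.mk' Y) := by
      rw [← hcommQ, commutator_def, ← hcomm, commutator_def, Subgroup.map_commutator,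
        Subgroup.map_top_of_surjective _ (QuotientGroup.mk'_surjective Y)]
    rw [hcenQ] at hxc
    obtain ⟨c, hcc, hcx⟩ := hxc
    rw [QuotientGroup.mk'_apply, QuotientGroup.mk'_apply, QuotientGroup.eq] at hcx
    have h4 : c⁻¹ * x ∈ Subgroup.center X := hYle hcx
    apply hx
    have : x = c * (c⁻¹ * x) := by group
    rw [this]
    exact Subgroup.mul_mem _ hcc h4
  refine ⟨?_, ?_⟩
  · rw [← hker, Subgroup.index_ker, hrange_eq]
  · rw [← hrange_eq]
    ext z
    simp only [Set.mem_ofPred_eq, SetLike.mem_coe, MonoidHom.mem_range]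
    constructor
    · rintro ⟨y, rfl⟩; exact ⟨y, rfl⟩
    · rintro ⟨y, rfl⟩; exact ⟨y, rfl⟩

end Cfsg.Agent.S2907
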