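import Cfsg.Statements.S2908
import Cfsg.Agent.Lib.Helper32.CoprimeDecomp
import Cfsg.Agent.Lib.Helper32.CoprimeHall

set_option autoImplicit false
open Cfsg
open scoped commutatorElement

namespace Cfsg.Agent.S2908

/-- Let P be a p-subgroup of a finite group, normalized by a p-subgroup A and by a subgroup B of order prime to p that commutes elementwise with A. If [P, B] ≤ [P, A], then B centralizes P. -/
theorem result {G : Type*} [Group G] [Finite G] {p : ℕ} [Fact p.Prime] (P A B : Subgroup G) (hP : IsPGroup p ↥P) (hA : IsPGroup p ↥A) (hB : ¬ p ∣ Nat.card ↥B) (hnA : A ≤ Subgroup.normalizer (P : Set G)) (hnB : B ≤ Subgroup.normalizer (P : Set G)) (hAB : ⁅A, B⁆ = ⊥) (hcomm : ⁅P, B⁆ ≤ ⁅P, A⁆) : ⁅P, B⁆ = ⊥ := by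
  set R : Subgroup G := A ⊔ P with hR
  have hRp : IsPGroup p R := IsPGroup.to_sup_of_normal_right' hA hP hnA
  have hBA : B ≤ Subgroup.normalizer (A : Set G) := by
    rw [Subgroup.le_normalizer_iff_commutator_le_left, hAB]
    exact bot_le
  have hBR : B ≤ Subgroup.normalizer (R : Set G) :=
    Cfsg.Agent.Lib.Helper32.le_normalizer_sup hBA hnB
  have hcent : ∀ a ∈ A, ∀ b ∈ B, a * b = b * a := by
    intro a ha b hb
    have h1 : ⁅a, b⁆ ∈ (⁅A, B⁆ : Subgroup G) := Subgroup.commutator_mem_commutator ha hb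
    rw [hAB, Subgroup.mem_bot, commutatorElement_eq_one_iff_mul_comm] at h1
    exact h1
  have h1 : ⁅R, B⁆ ≤ ⁅P, B⁆ := by
    rw [Subgroup.commutator_le]
    intro r hr b hb
    obtain ⟨a, ha, x, hx, hrax⟩ :=
      Cfsg.Agent.Lib.Helper01.exists_mul_of_mem_sup hnA (R.inv_mem hr)
    have hr' : r = x⁻¹ * a⁻¹ := by
      rw [← inv_inv r, hrax, mul_inv_rev]
    have hab : a⁻¹ * b = b * a⁻¹ := hcent a⁻¹ (A.inv_mem ha) b hb
    have h2 : ⁅r, b⁆ = ⁅x⁻¹, b⁆ := by
      rw [hr', commutatorElement_def, commutatorElement_def]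
      have : x⁻¹ * a⁻¹ * b * (x⁻¹ * a⁻¹)⁻¹ = x⁻¹ * (a⁻¹ * b) * a * x := by
        simp [mul_assoc]
      rw [this, hab]
      simp [mul_assoc]
    rw [h2]
    exact Subgroup.commutator_mem_commutator (P.inv_mem hx) hb
  have h2 : ⁅R, B⁆ ≤ ⁅R, R⁆ :=
    h1.trans (hcomm.trans (Subgroup.commutator_mono le_sup_right le_sup_left))
  have h3 := Cfsg.Agent.Lib.Helper32.commutator_eq_bot_of_le_commutator_self hRp hB hBR h2
  rw [eq_bot_iff, ← h3]
  exact Subgroup.commutator_mono le_sup_right le_rfl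

end Cfsg.Agent.S2908
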