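import Cfsg.Statements.S2909
import Cfsg.Agent.S2908
import Cfsg.Agent.S0028
import Cfsg.Agent.Lib.Helper55.StabSeries
import Cfsg.Agent.Lib.Helper55.CoprimeGen

set_option autoImplicit false
open Cfsg

namespace Cfsg.Agent.S2909

open scoped commutatorElement

theorem commutator_le_of_le_normalizer {G : Type*} [Group G] {X U K : Subgroup G} (hU : U ≤ K)
    (hX : X ≤ Subgroup.normalizer (K : Set G)) : ⁅X, U⁆ ≤ K := by
  rw [Subgroup.commutator_le]
  intro x hx v hv
  rw [commutatorElement_def]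
  have h1 : x * v * x⁻¹ ∈ K := ((Subgroup.mem_normalizer_iff).mp (hX hx) v).mp (hU hv)
  exact K.mul_mem h1 (K.inv_mem (hU hv))

theorem commutator_le_left_of_le_normalizer {G : Type*} [Group G] {X U : Subgroup G}
    (hU : U ≤ Subgroup.normalizer (X : Set G)) : ⁅X, U⁆ ≤ X := by
  rw [Subgroup.commutator_le]
  intro x hx v hv
  rw [commutatorElement_def]
  have h1 : v * x⁻¹ * v⁻¹ ∈ X :=
    ((Subgroup.mem_normalizer_iff).mp (hU hv) x⁻¹).mp (X.inv_mem hx)
  have e : x * v * x⁻¹ * v⁻¹ = x * (v * x⁻¹ * v⁻¹) := by group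
  rw [e]
  exact X.mul_mem hx h1

theorem le_normalizer_of_conj_mem {G : Type*} [Group G] {X K : Subgroup G}
    (h : ∀ x ∈ X, ∀ k ∈ K, x * k * x⁻¹ ∈ K) : X ≤ Subgroup.normalizer (K : Set G) := by
  intro x hx
  rw [Subgroup.mem_normalizer_iff]
  intro k
  constructor
  · exact h x hx k
  · intro hk
    have := h x⁻¹ (X.inv_mem hx) _ hk
    have e : x⁻¹ * (x * k * x⁻¹) * x⁻¹⁻¹ = k := by group
    rwa [e] at this

/-- The subgroup of elements normalizing `D` and acting trivially on `E` modulo `D`. -/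
def trivMod {G : Type*} [Group G] (E D : Subgroup G) : Subgroup G where
  carrier := {g | g ∈ Subgroup.normalizer (D : Set G) ∧ ∀ e ∈ E, ⁅g, e⁆ ∈ D}
  one_mem' := by
    refine ⟨Subgroup.one_mem _, fun e _ => ?_⟩
    rw [commutatorElement_one_left]
    exact D.one_mem
  mul_mem' := by
    rintro g h ⟨hg1, hg2⟩ ⟨hh1, hh2⟩
    refine ⟨Subgroup.mul_mem _ hg1 hh1, fun e he => ?_⟩
    have e1 : ⁅g * h, e⁆ = g * ⁅h, e⁆ * g⁻¹ * ⁅g, e⁆ := by
      simp only [commutatorElement_def]; group
    rw [e1]
    exact D.mul_mem (((Subgroup.mem_normalizer_iff).mp hg1 _).mp (hh2 e he)) (hg2 e he)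
  inv_mem' := by
    rintro g ⟨hg1, hg2⟩
    refine ⟨Subgroup.inv_mem _ hg1, fun e he => ?_⟩
    have e1 : ⁅g⁻¹, e⁆ = g⁻¹ * (⁅g, e⁆)⁻¹ * g⁻¹⁻¹ := by
      simp only [commutatorElement_def]; group
    rw [e1]
    exact ((Subgroup.mem_normalizer_iff).mp (Subgroup.inv_mem _ hg1) _).mp (D.inv_mem (hg2 e he))

theorem mem_trivMod {G : Type*} [Group G] {E D : Subgroup G} {g : G} :
    g ∈ trivMod E D ↔ g ∈ Subgroup.normalizer (D : Set G) ∧ ∀ e ∈ E, ⁅g, e⁆ ∈ D := Iff.rfl

theorem conj_mem_commutator {G : Type*} [Group G] {H K : Subgroup G} {g : G}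
    (hH : ∀ h ∈ H, g * h * g⁻¹ ∈ H) (hK : ∀ k ∈ K, g * k * g⁻¹ ∈ K) :
    ∀ c ∈ ⁅H, K⁆, g * c * g⁻¹ ∈ ⁅H, K⁆ := by
  intro c hc
  have h1 : (MulAut.conj g).toMonoidHom c ∈ (⁅H, K⁆).map (MulAut.conj g).toMonoidHom :=
    ⟨c, hc, rfl⟩
  rw [Subgroup.map_commutator] at h1
  have h2 : ⁅H.map (MulAut.conj g).toMonoidHom, K.map (MulAut.conj g).toMonoidHom⁆ ≤ ⁅H, K⁆ := by
    apply Subgroup.commutator_mono
    · rintro _ ⟨h, hh, rfl⟩; exact hH h hh
    · rintro _ ⟨k, hk, rfl⟩; exact hK k hk
  exact h2 h1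


/-- Let p be a prime, E a normal p-subgroup of the finite group G, and U a non-cyclic elementary abelian p-subgroup of G such that either C_E(U) = C_E(u) for every nontrivial u ∈ U, or [E, U] = [E, ⟨u⟩] for every nontrivial u ∈ U. If R is a subgroup of order prime to p normalized by U, then [R, U] centralizes E. -/
theorem result {G : Type*} [Group G] [Finite G] {p : ℕ} [Fact p.Prime] (E : Subgroup G) [E.Normal] (hE : IsPGroup p ↥E) (U : Subgroup G) (hU : Cfsg.IsElementaryAbelian p U) (hnc : ¬ IsCyclic ↥U) (hcond : (∀ u ∈ U, u ≠ 1 → E ⊓ Subgroup.centralizer (U : Set G) = E ⊓ Subgroup.centralizer ({u} : Set G)) ∨ (∀ u ∈ U, u ≠ 1 → ⁅E, U⁆ = ⁅E, Subgroup.zpowers u⁆)) (R : Subgroup G) (hR : ¬ p ∣ Nat.card ↥R) (hRU : U ≤ Subgroup.normalizer (R : Set G)) : ⁅R, U⁆ ≤ Subgroup.centralizer (E : Set G) := by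
  have hp : p.Prime := Fact.out
  obtain ⟨hUc, hUp⟩ := hU
  have hUcomm : ∀ a ∈ U, ∀ b ∈ U, a * b = b * a := by
    intro a ha b hb
    have := hUc.is_comm.comm ⟨a, ha⟩ ⟨b, hb⟩
    exact congrArg Subtype.val this
  have hU2 : p ^ 2 ≤ Nat.card U := by
    have hUpg : IsPGroup p U := Cfsg.Agent.Lib.Helper55.isPGroup_of_pow_eq_one hUp
    obtain ⟨k, hk⟩ := hUpg.exists_card_eq
    rw [hk]
    apply Nat.pow_le_pow_right hp.pos
    by_contra hlt
    rw [not_le] at hlt
    apply hnc
    interval_cases k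
    · haveI : Subsingleton U := (Nat.card_eq_one_iff_unique.mp (by simpa using hk)).1
      infer_instance
    · exact isCyclic_of_prime_card (p := p) (by simpa using hk)
  have hRcop : (Nat.card R).Coprime p := ((Nat.Prime.coprime_iff_not_dvd hp).mpr hR).symm
  set C := Subgroup.centralizer (E : Set G) with hC
  rw [Cfsg.Agent.Lib.Helper55.commutator_le_iff_le_comap C R U]
  have hUH : U ≤ (Subgroup.centralizer ((U.map (QuotientGroup.mk' C) : Subgroup (G ⧸ C)) :
      Set (G ⧸ C))).comap (QuotientGroup.mk' C) := by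
    rw [← Cfsg.Agent.Lib.Helper55.commutator_le_iff_le_comap C U U]
    rw [Subgroup.commutator_le]
    intro a ha b hb
    rw [commutatorElement_eq_one_iff_mul_comm.mpr (hUcomm a ha b hb)]
    exact C.one_mem
  apply Cfsg.Agent.Lib.Helper55.le_of_centralizers_le (p := p) hUcomm hUp hU2 hRcop hRU hUH
  intro u hu hu1
  rw [← Cfsg.Agent.Lib.Helper55.commutator_le_iff_le_comap C]
  set X := R ⊓ Subgroup.centralizer ({u} : Set G) with hX
  have hXR : X ≤ R := inf_le_left
  have hXu : ∀ x ∈ X, x * u = u * x := by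
    intro x hx
    have := (Subgroup.mem_centralizer_iff.mp (Subgroup.mem_inf.mp hx).2) u rfl
    exact this.symm
  have hUX : U ≤ Subgroup.normalizer (X : Set G) := by
    apply le_normalizer_of_conj_mem
    intro v hv x hx
    refine Subgroup.mem_inf.mpr ⟨((Subgroup.mem_normalizer_iff).mp (hRU hv) x).mp (hXR hx), ?_⟩
    rw [Subgroup.mem_centralizer_iff]
    intro y hy
    rw [Set.mem_singleton_iff] at hy
    subst hy
    have h1 : Commute v y := hUcomm v hv y hu
    have h2 : Commute x y := hXu x hx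
    exact ((h1.mul_left h2).mul_left h1.inv_left).symm.eq
  set Q := ⁅X, U⁆ with hQ
  have hQX : Q ≤ X := commutator_le_left_of_le_normalizer hUX
  have hQR : Q ≤ R := hQX.trans hXR
  have hQu : ∀ q ∈ Q, q * u = u * q := fun q hq => hXu q (hQX hq)
  have hQcop : (Nat.card Q).Coprime p :=
    Nat.Coprime.coprime_dvd_left (Subgroup.card_dvd_of_le hQR) hRcop
  have hPpg : IsPGroup p (Subgroup.zpowers u) := by
    apply Cfsg.Agent.Lib.Helper55.isPGroup_of_pow_eq_one
    intro a ha
    obtain ⟨k, rfl⟩ := Subgroup.mem_zpowers_iff.mp ha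
    rw [← zpow_natCast, ← zpow_mul, mul_comm, zpow_mul, zpow_natCast, hUp u hu, one_zpow]
  have hPQ : Subgroup.zpowers u ≤ Subgroup.centralizer (Q : Set G) := by
    rw [Subgroup.zpowers_le]
    rw [Subgroup.mem_centralizer_iff]
    intro q hq
    exact hQu q hq
  have hEn : ∀ K : Subgroup G, K ≤ Subgroup.normalizer (E : Set G) := by
    intro K
    rw [Subgroup.normalizer_eq_top]
    exact le_top
  rcases hcond with hc1 | hc2
  · have hEq := hc1 u hu hu1
    set E₀ := E ⊓ Subgroup.centralizer ({u} : Set G) with hE₀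
    have hUK : U ≤ Subgroup.centralizer (E₀ : Set G) := by
      intro v hv
      rw [Subgroup.mem_centralizer_iff]
      intro e he
      have he' : e ∈ E ⊓ Subgroup.centralizer (U : Set G) := by rw [hEq]; exact he
      exact ((Subgroup.mem_centralizer_iff.mp (Subgroup.mem_inf.mp he').2) v hv).symm
    have hXK : X ≤ Subgroup.normalizer
        ((Subgroup.centralizer (E₀ : Set G) : Subgroup G) : Set G) := by
      apply le_normalizer_of_conj_mem
      intro x hx k hk
      rw [Subgroup.mem_centralizer_iff] at hk ⊢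
      intro e he
      have he2 : x⁻¹ * e * x ∈ E₀ := by
        refine Subgroup.mem_inf.mpr ⟨?_, ?_⟩
        · have := (inferInstance : E.Normal).conj_mem e (Subgroup.mem_inf.mp he).1 x⁻¹
          simpa using this
        · rw [Subgroup.mem_centralizer_iff]
          intro y hy
          rw [Set.mem_singleton_iff] at hy
          rw [hy]
          have h1 : Commute x u := hXu x hx
          have h2 : Commute e u :=
            ((Subgroup.mem_centralizer_iff.mp (Subgroup.mem_inf.mp he).2) u rfl).symm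
          exact ((h1.inv_left.mul_left h2).mul_left h1).symm.eq
      have h3 := hk _ he2
      calc e * (x * k * x⁻¹) = x * ((x⁻¹ * e * x) * k) * x⁻¹ := by group
        _ = x * (k * (x⁻¹ * e * x)) * x⁻¹ := by rw [h3]
        _ = x * k * x⁻¹ * e := by group
    have hQK : Q ≤ Subgroup.centralizer (E₀ : Set G) := commutator_le_of_le_normalizer hUK hXK
    apply Cfsg.Agent.S0028.result p (Subgroup.zpowers u) Q E hPpg hQcop hE hPQ (hEn _) (hEn _)
    intro e he
    have he0 : e ∈ E₀ := by
      refine Subgroup.mem_inf.mpr ⟨(Subgroup.mem_inf.mp he).1, ?_⟩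
      rw [Subgroup.mem_centralizer_iff]
      intro y hy
      rw [Set.mem_singleton_iff] at hy
      rw [hy]
      exact (Subgroup.mem_centralizer_iff.mp (Subgroup.mem_inf.mp he).2) u
        (Subgroup.mem_zpowers u)
    rw [Subgroup.mem_centralizer_iff]
    intro q hq
    exact ((Subgroup.mem_centralizer_iff.mp (hQK hq)) e he0).symm
  · have hEq := hc2 u hu hu1
    set D := ⁅E, Subgroup.zpowers u⁆ with hD
    have hUK : U ≤ trivMod E D := by
      intro v hv
      rw [mem_trivMod]
      constructor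
      · rw [← hEq]
        refine le_normalizer_of_conj_mem (X := U) ?_ hv
        intro w hw
        apply conj_mem_commutator
        · intro e he; exact (inferInstance : E.Normal).conj_mem e he w
        · intro k hk; exact U.mul_mem (U.mul_mem hw hk) (U.inv_mem hw)
      · intro e he
        rw [← hEq, Subgroup.commutator_comm]
        exact Subgroup.commutator_mem_commutator hv he
    have hXD : ∀ x ∈ X, ∀ d ∈ D, x * d * x⁻¹ ∈ D := by
      intro x hx
      apply conj_mem_commutator
      · intro e he; exact (inferInstance : E.Normal).conj_mem e he x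
      · intro k hk
        obtain ⟨j, rfl⟩ := Subgroup.mem_zpowers_iff.mp hk
        have h1 : Commute x (u ^ j) := (show Commute x u from hXu x hx).zpow_right j
        have : x * u ^ j * x⁻¹ = u ^ j := by rw [h1.eq]; group
        rw [this]; exact hk
    have hXK : X ≤ Subgroup.normalizer ((trivMod E D : Subgroup G) : Set G) := by
      apply le_normalizer_of_conj_mem
      intro x hx g hg
      rw [mem_trivMod] at hg ⊢
      obtain ⟨hg1, hg2⟩ := hg
      have hxN : x ∈ Subgroup.normalizer (D : Set G) :=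
        le_normalizer_of_conj_mem (X := X) (K := D) hXD hx
      constructor
      · exact Subgroup.mul_mem _ (Subgroup.mul_mem _ hxN hg1) (Subgroup.inv_mem _ hxN)
      · intro e he
        have he' : x⁻¹ * e * x ∈ E := by
          have := (inferInstance : E.Normal).conj_mem e he x⁻¹
          simpa using this
        have h3 := hg2 _ he'
        have e1 : ⁅x * g * x⁻¹, e⁆ = x * ⁅g, x⁻¹ * e * x⁆ * x⁻¹ := by
          simp only [commutatorElement_def]; group
        rw [e1]
        exact hXD x hx _ h3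
    have hQK : Q ≤ trivMod E D := commutator_le_of_le_normalizer hUK hXK
    have hEQ : ⁅E, Q⁆ ≤ ⁅E, Subgroup.zpowers u⁆ := by
      rw [Subgroup.commutator_comm, Subgroup.commutator_le]
      intro q hq e he
      exact ((mem_trivMod.mp (hQK hq)).2 e he)
    have hQp : ¬ p ∣ Nat.card Q := by
      intro h
      exact hR (h.trans (Subgroup.card_dvd_of_le hQR))
    have hAB : ⁅Subgroup.zpowers u, Q⁆ = ⊥ :=
      Subgroup.commutator_eq_bot_iff_le_centralizer.mpr hPQ
    have h2908 := Cfsg.Agent.S2908.result E (Subgroup.zpowers u) Q hE hPpg hQp (hEn _) (hEn _)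
      hAB hEQ
    rw [Subgroup.commutator_comm, Subgroup.commutator_eq_bot_iff_le_centralizer] at h2908
    exact h2908

end Cfsg.Agent.S2909
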