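import Cfsg.Statements.S2910
import Cfsg.Agent.S0071
import Cfsg.Agent.Lib.Helper32.OddFix

set_option autoImplicit false
open Cfsg

namespace Cfsg.Agent.S2910

theorem result {G : Type*} [Group G] [Finite G] {p : ℕ} [Fact p.Prime] (hp : p ≠ 2) (hdiv : p ∣ Nat.card G) (P : Sylow p G) (hZ : Cfsg.omegaOne p (P : Subgroup G) ≤ Subgroup.center G) : Cfsg.HasNormalPComplement p G ∧ ¬ Cfsg.IsQuasisimple G := by
  classical
  have hpp : p.Prime := Fact.out
  have hcompl : ∃ N : Subgroup G, N.Normal ∧ N.IsComplement' (P : Subgroup G) := by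
    rw [Cfsg.Agent.S0071.result P]
    intro Q hQP g hgN hgo
    -- A = ⟨g⟩ has order prime to p
    have hA : (Nat.card ↥(Subgroup.zpowers g)).Coprime p := by
      rw [Nat.card_zpowers]
      exact hgo
    have hAN : Subgroup.zpowers g ≤ Subgroup.normalizer (Q : Set G) := by
      rw [Subgroup.zpowers_le]
      exact hgN
    have hfix : ∀ x ∈ Q, x ^ p = 1 → x ∈ Subgroup.centralizer ((Subgroup.zpowers g : Subgroup G) : Set G) := by
      intro x hx hxp
      have hxΩ : x ∈ Cfsg.omegaOne p (P : Subgroup G) :=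
        Subgroup.subset_closure ⟨hQP hx, hxp⟩
      have hxZ := hZ hxΩ
      rw [Subgroup.mem_centralizer_iff]
      intro y _
      exact (Subgroup.mem_center_iff.mp hxZ y)
    have hD := Cfsg.Agent.Lib.Helper32.centralizes_of_fixes_order_p p hp (Subgroup.zpowers g) hA
      (Nat.card ↥Q) Q rfl (P.isPGroup'.to_le hQP) hAN hfix
    rw [Subgroup.mem_centralizer_iff]
    intro q hq
    have := (Subgroup.mem_centralizer_iff.mp (hD hq)) g (Subgroup.mem_zpowers g)
    exact this.symm
  refine ⟨⟨P, hcompl⟩, ?_⟩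
  rintro ⟨hperf, _⟩
  obtain ⟨N, hN, hNP⟩ := hcompl
  have hcard : Nat.card (G ⧸ N) = Nat.card ↥(P : Subgroup G) := by
    rw [← Subgroup.index_eq_card]
    exact hNP.symm.index_eq_card
  have hQp : IsPGroup p (G ⧸ N) := by
    obtain ⟨k, hk⟩ := IsPGroup.iff_card.mp P.isPGroup'
    exact IsPGroup.of_card (n := k) (hcard.trans hk)
  have hPne : (P : Subgroup G) ≠ ⊥ := P.ne_bot_of_dvd_card hdiv
  have hnt : Nontrivial (G ⧸ N) := by
    rw [← Finite.one_lt_card_iff_nontrivial, hcard, Finite.one_lt_card_iff_nontrivial]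
    exact (Subgroup.nontrivial_iff_ne_bot _).mpr hPne
  have hnil : Group.IsNilpotent (G ⧸ N) := hQp.isNilpotent
  have hperf' : Group.IsPerfect (G ⧸ N) := inferInstance
  exact Group.IsPerfect.not_isNilpotent (G := G ⧸ N) hnil

end Cfsg.Agent.S2910
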