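import Cfsg.Statements.S2911
import Cfsg.Agent.S3309

set_option autoImplicit false
open Cfsg

namespace Cfsg.Agent.S2911

open Cfsg.Agent.Lib.Helper61 DihedralGroup
open Cfsg.Agent.S3309

/-- A finite group whose Sylow 2-subgroups are isomorphic to the direct product of a group of order 2 and a dihedral group of order 8 has a subgroup of index two.
The argument follows `Cfsg.Agent.S3309.result` (helper61), replacing simplicity by the absence of a subgroup of index two. -/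
theorem result {G : Type*} [Group G] [Finite G] (S : Sylow 2 G) (hS : Nonempty (↥(S : Subgroup G) ≃* Multiplicative (ZMod 2) × DihedralGroup 4)) : ∃ H : Subgroup G, H.index = 2 := by
  by_contra hcon
  obtain ⟨φ⟩ := hS
  have hp2 : Fact (Nat.Prime 2) := ⟨Nat.prime_two⟩
  -- the embedding of the model
  let ι : P0 →* G := (S : Subgroup G).subtype.comp φ.symm.toMonoidHom
  have hιapp : ∀ x, ι x = ((φ.symm x : ↥(S : Subgroup G)) : G) := fun x => rfl
  have hι : Function.Injective ι := by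
    intro x y hxy
    rw [hιapp, hιapp] at hxy
    exact φ.symm.injective (Subtype.ext hxy)
  have hιS : ∀ x, ι x ∈ (S : Subgroup G) := fun x => (φ.symm x).2
  have hSι : ∀ s ∈ (S : Subgroup G), ∃ x, ι x = s := by
    intro s hs
    refine ⟨φ ⟨s, hs⟩, ?_⟩
    rw [hιapp, MulEquiv.symm_apply_apply]
  -- no normal subgroup of index 2
  have hno2 : ∀ M : Subgroup G, M.Normal → M.index = 2 → False := by
    intro M _ hi
    exact hcon ⟨M, hi⟩
  -- central elements
  have hcentral : ∀ c : P0, (∀ x : P0, x * c = c * x) → ∀ s ∈ (S : Subgroup G), s * ι c = ι c * s := by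
    intro c hc s hs
    obtain ⟨x, rfl⟩ := hSι s hs
    rw [← map_mul, ← map_mul, hc x]
  have hca := hcentral a0 Fa
  have hcz := hcentral z0 Fz
  have hcaz : ∀ s ∈ (S : Subgroup G), s * ι (a0 * z0) = ι (a0 * z0) * s := by
    apply hcentral
    intro x
    rw [← mul_assoc, Fa x, mul_assoc, Fz x, mul_assoc]
  -- conjugacy relation on the model
  -- z is fixed by the normalizer of S
  have hznorm : ∀ n ∈ Subgroup.normalizer ((S : Subgroup G) : Set G), n * ι z0 * n⁻¹ = ι z0 := by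
    intro n hn
    have hmem : ∀ s ∈ (S : Subgroup G), n * s * n⁻¹ ∈ (S : Subgroup G) := fun s hs =>
      (Subgroup.mem_normalizer_iff.mp hn s).mp hs
    obtain ⟨x, hx⟩ := hSι _ (hmem _ (hιS r0))
    obtain ⟨y, hy⟩ := hSι _ (hmem _ (hιS s0))
    have e : n * ι z0 * n⁻¹ = ι (x * y * x⁻¹ * y⁻¹) := by
      rw [← F1', map_mul, map_mul, map_mul, map_mul, map_mul, map_mul, map_inv, map_inv, map_inv,
        map_inv, hx, hy]
      group
    rcases F1 x y with h1 | h1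
    · exfalso
      rw [h1, map_one] at e
      have : ι z0 = 1 := by
        have : ι z0 = n⁻¹ * (n * ι z0 * n⁻¹) * n := by group
        rw [this, e]; group
      rw [← map_one ι] at this
      exact Finv.2.2.2.1 (hι this)
    · rw [e, h1]
  -- non-conjugacy of the central involutions
  have N1 : ∀ g : G, g * ι a0 * g⁻¹ ≠ ι z0 := by
    intro g hg
    obtain ⟨n, hn, hn'⟩ := burnside_fusion S (ι a0) (ι z0) hca hcz g hg
    have h1 := hznorm n hn
    have : ι a0 = ι z0 := by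
      have e1 : ι a0 = n⁻¹ * (n * ι a0 * n⁻¹) * n := by group
      have e2 : ι z0 = n⁻¹ * (n * ι z0 * n⁻¹) * n := by group
      rw [e1, e2, hn', h1]
    exact Finv.2.2.2.2.2.2.1 (hι this)
  have N2 : ∀ g : G, g * ι (a0 * z0) * g⁻¹ ≠ ι z0 := by
    intro g hg
    obtain ⟨n, hn, hn'⟩ := burnside_fusion S (ι (a0 * z0)) (ι z0) hcaz hcz g hg
    have h1 := hznorm n hn
    have : ι (a0 * z0) = ι z0 := by
      have e1 : ι (a0 * z0) = n⁻¹ * (n * ι (a0 * z0) * n⁻¹) * n := by group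
      have e2 : ι z0 = n⁻¹ * (n * ι z0 * n⁻¹) * n := by group
      rw [e1, e2, hn', h1]
    exact Finv.2.2.2.2.2.2.2.2 (hι this).symm
  have N3 : ∀ g : G, g * ι a0 * g⁻¹ ≠ ι (a0 * z0) := by
    intro g hg
    obtain ⟨n, hn, hn'⟩ := burnside_fusion S (ι a0) (ι (a0 * z0)) hca hcaz g hg
    have h1 := hznorm n hn
    -- n swaps a and az
    have hswap : n * ι (a0 * z0) * n⁻¹ = ι a0 := by
      have : n * ι (a0 * z0) * n⁻¹ = (n * ι a0 * n⁻¹) * (n * ι z0 * n⁻¹) := by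
        rw [map_mul]; group
      rw [this, hn', h1, ← map_mul, Fazz]
    have hpow : ∀ j : ℕ, (n ^ (2 * j + 1)) * ι a0 * (n ^ (2 * j + 1))⁻¹ = ι (a0 * z0) := by
      intro j
      induction j with
      | zero => simpa using hn'
      | succ j ih =>
        have e : n ^ (2 * (j + 1) + 1) * ι a0 * (n ^ (2 * (j + 1) + 1))⁻¹
            = n * (n * (n ^ (2 * j + 1) * ι a0 * (n ^ (2 * j + 1))⁻¹) * n⁻¹) * n⁻¹ := by
          have : 2 * (j + 1) + 1 = (2 * j + 1) + 1 + 1 := by ring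
          rw [this, pow_succ', pow_succ']; group
        rw [e, ih, hswap, hn']
    obtain ⟨k, m, hm, hkm⟩ := Nat.exists_eq_two_pow_mul_odd (orderOf_pos n).ne'
    obtain ⟨j, rfl⟩ := hm
    have hnm : n ^ (2 * j + 1) ∈ (S : Subgroup G) := by
      apply mem_sylow_of_pow_mem_normalizer S _ (Subgroup.pow_mem _ hn _) k
      rw [← pow_mul, mul_comm, ← hkm, pow_orderOf_eq_one]
    have h2 := hca _ hnm
    have h3 := hpow j
    have : ι a0 = ι (a0 * z0) := by
      rw [← h3, h2]; group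
    exact Finv.2.2.2.2.2.2.2.1 (hι this)
  -- Thompson transfer wrapper
  have hScard : Nat.card ↥(S : Subgroup G) = 16 := by
    rw [Nat.card_congr φ.toEquiv, card_P0]
  have TT : ∀ (M₀ : Subgroup P0), Nat.card ↥M₀ = 8 → ∀ u₀ : P0, u₀ * u₀ = 1 → u₀ ≠ 1 → u₀ ∉ M₀ →
      ∃ g : G, ∃ v₀ ∈ M₀, g * ι u₀ * g⁻¹ = ι v₀ ∧ v₀ * v₀ = 1 ∧ v₀ ≠ 1 := by
    intro M₀ hM₀ u₀ hu hu1 huM
    have hQle : M₀.map ι ≤ (S : Subgroup G) := by
      rintro _ ⟨x, _, rfl⟩
      exact hιS x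
    have hQcard : Nat.card ↥(M₀.map ι) = 8 := by
      rw [Subgroup.card_map_of_injective hι, hM₀]
    have hQi : (M₀.map ι).relIndex (S : Subgroup G) = 2 := by
      have h1 := Subgroup.relIndex_mul_relIndex (⊥ : Subgroup G) (M₀.map ι) (S : Subgroup G) bot_le hQle
      rw [Subgroup.relIndex_bot_left, Subgroup.relIndex_bot_left, hQcard, hScard] at h1
      omega
    have huord : orderOf (ι u₀) = 2 := by
      apply orderOf_eq_prime
      · rw [sq, ← map_mul, hu, map_one]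
      · intro h
        rw [← map_one ι] at h
        exact hu1 (hι h)
    have huQ : ι u₀ ∉ M₀.map ι := by
      rintro ⟨x, hx, hxu⟩
      exact huM (hι hxu ▸ hx)
    rcases Cfsg.Agent.S0111.result S (M₀.map ι) hQle hQi (ι u₀) huord (hιS u₀) huQ with
      ⟨M, hMn, hMi, _⟩ | ⟨g, ⟨v₀, hv₀, hv⟩⟩
    · exact absurd hMi (fun h => hno2 M hMn h)
    · refine ⟨g, v₀, hv₀, hv.symm, ?_, ?_⟩
      · apply hι
        rw [map_mul, hv, map_one]
        have : g * ι u₀ * g⁻¹ * (g * ι u₀ * g⁻¹) = g * (ι u₀ * ι u₀) * g⁻¹ := by group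
        rw [this, ← map_mul, hu, map_one]; group
      · rintro rfl
        rw [map_one] at hv
        have : ι u₀ = 1 := by
          have e : ι u₀ = g⁻¹ * (g * ι u₀ * g⁻¹) * g := by group
          rw [e, ← hv]; group
        rw [← map_one ι] at this
        exact hu1 (hι this)
  -- the conjugacy relation
  let C : P0 → P0 → Prop := fun x y => ∃ g : G, g * ι x * g⁻¹ = ι y
  have Csymm : ∀ x y, C x y → C y x := by
    rintro x y ⟨g, hg⟩
    refine ⟨g⁻¹, ?_⟩
    rw [← hg]; group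
  have Ctrans : ∀ x y w, C x y → C y w → C x w := by
    rintro x y w ⟨g, hg⟩ ⟨h, hh⟩
    refine ⟨h * g, ?_⟩
    rw [← hh, ← hg]; group
  have CS : ∀ x u v : P0, x * u * x⁻¹ = v → C u v := by
    intro x u v h
    refine ⟨ι x, ?_⟩
    rw [← h, map_mul, map_mul, map_inv]
  -- every noncentral involution is conjugate to a or az
  have key : ∀ (M₀ : Subgroup P0), Nat.card ↥M₀ = 8 → a0 ∉ M₀ → a0 * z0 ∉ M₀ →
      (∀ v ∈ M₀, v * v = 1 → v ≠ 1 → v = z0 ∨ NCI v) →
      (∀ u v v' : P0, NCI u → u ∈ M₀ → NCI v → v ∈ M₀ → NCI v' → v' ∈ M₀ →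
        (∃ x, x * v * x⁻¹ = v') ∨ (∃ x, x * u * x⁻¹ = v) ∨ (∃ x, x * u * x⁻¹ = v')) →
      ∀ u, NCI u → u ∈ M₀ → C u a0 ∨ C u (a0 * z0) := by
    intro M₀ hcard ha haz hinv hF u hu huM
    obtain ⟨g, v, hvM, hgv, hv2, hv1⟩ := TT M₀ hcard a0 Finv.1 Finv.2.1 ha
    obtain ⟨g', v', hv'M, hgv', hv'2, hv'1⟩ := TT M₀ hcard (a0 * z0) Finv.2.2.2.2.1 Finv.2.2.2.2.2.1 haz
    have hvN : NCI v := by
      rcases hinv v hvM hv2 hv1 with h | h
      · exact absurd (h ▸ hgv) (N1 g)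
      · exact h
    have hv'N : NCI v' := by
      rcases hinv v' hv'M hv'2 hv'1 with h | h
      · exact absurd (h ▸ hgv') (N2 g')
      · exact h
    rcases hF u v v' hu huM hvN hvM hv'N hv'M with ⟨x, hx⟩ | ⟨x, hx⟩ | ⟨x, hx⟩
    · exfalso
      -- a ~ v ~ v' ~ az
      have h1 : C a0 (a0 * z0) := Ctrans _ _ _ ⟨g, hgv⟩ (Ctrans _ _ _ (CS x v v' hx) (Csymm _ _ ⟨g', hgv'⟩))
      obtain ⟨k, hk⟩ := h1
      exact N3 k hk
    · left
      exact Ctrans _ _ _ (CS x u v hx) (Csymm _ _ ⟨g, hgv⟩)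
    · right
      exact Ctrans _ _ _ (CS x u v' hx) (Csymm _ _ ⟨g', hgv'⟩)
  have hinvD : ∀ v ∈ D0, v * v = 1 → v ≠ 1 → v = z0 ∨ NCI v := FinvD
  have hinvM : ∀ v ∈ M5, v * v = 1 → v ≠ 1 → v = z0 ∨ NCI v := FinvM
  have alpha : ∀ u, NCI u → C u a0 ∨ C u (a0 * z0) := by
    intro u hu
    rcases Fsplit u hu with h | h
    · exact key D0 card_D0 Fa_not.1 Fa_not.2.2.1 hinvD FD u hu h
    · exact key M5 card_M5 Fa_not.2.1 Fa_not.2.2.2 hinvM FM u hu h
  -- the final contradiction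
  obtain ⟨g₀, v, hvD, hgv, hv2, hv1⟩ := TT D0 card_D0 a0 Finv.1 Finv.2.1 Fa_not.1
  have hvN : NCI v := by
    rcases hinvD v hvD hv2 hv1 with h | h
    · exact absurd (h ▸ hgv) (N1 g₀)
    · exact h
  have hback : g₀⁻¹ * ι v * g₀⁻¹⁻¹ = ι a0 := by rw [← hgv]; group
  obtain ⟨g, hg, hgS⟩ := exists_conj_centralizer_le S (ι v) (ι a0) hca g₀⁻¹ hback
  obtain ⟨yz, hyz⟩ := hSι _ (hgS (ι z0) (hιS z0) (by rw [← map_mul, ← map_mul, Fz v]))
  obtain ⟨ya, hya⟩ := hSι _ (hgS (ι a0) (hιS a0) (by rw [← map_mul, ← map_mul, Fa v]))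
  have inv_of : ∀ (x y : P0), x * x = 1 → x ≠ 1 → ι y = g * ι x * g⁻¹ → y * y = 1 ∧ y ≠ 1 := by
    intro x y hx hx1 hy
    constructor
    · apply hι
      rw [map_mul, hy, map_one]
      have : g * ι x * g⁻¹ * (g * ι x * g⁻¹) = g * (ι x * ι x) * g⁻¹ := by group
      rw [this, ← map_mul, hx, map_one]; group
    · rintro rfl
      rw [map_one] at hy
      have : ι x = 1 := by
        have e : ι x = g⁻¹ * (g * ι x * g⁻¹) * g := by group
        rw [e, ← hy]; group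
      rw [← map_one ι] at this
      exact hx1 (hι this)
  obtain ⟨hyz2, hyz1⟩ := inv_of z0 yz Finv.2.2.1 Finv.2.2.2.1 hyz
  obtain ⟨hya2, hya1⟩ := inv_of a0 ya Finv.1 Finv.2.1 hya
  have Czyz : C z0 yz := ⟨g, hyz.symm⟩
  have Caya : C a0 ya := ⟨g, hya.symm⟩
  -- yz = z0
  have hyz_eq : yz = z0 := by
    rcases Fcls yz hyz2 hyz1 with h | h | h | h
    · exfalso
      obtain ⟨k, hk⟩ := Csymm _ _ (h ▸ Czyz)
      exact N1 k hk
    · exact h
    · exfalso
      obtain ⟨k, hk⟩ := Csymm _ _ (h ▸ Czyz)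
      exact N2 k hk
    · exfalso
      rcases alpha yz h with h' | h'
      · obtain ⟨k, hk⟩ := Csymm _ _ (Ctrans _ _ _ Czyz h')
        exact N1 k hk
      · obtain ⟨k, hk⟩ := Csymm _ _ (Ctrans _ _ _ Czyz h')
        exact N2 k hk
  -- ya is noncentral
  have hyaN : NCI ya := by
    rcases Fcls ya hya2 hya1 with h | h | h | h
    · exfalso
      -- ya = a0 means ι a0 = g ι a0 g⁻¹, but ι a0 = g ι v g⁻¹
      rw [h] at hya
      have h3 : g * ι v * g⁻¹ = g * ι a0 * g⁻¹ := hg.trans hya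
      have : ι v = ι a0 := mul_left_cancel (mul_right_cancel h3)
      have hva : v = a0 := hι this
      exact hvN.2.2.1 hva
    · exfalso
      obtain ⟨k, hk⟩ := (h ▸ Caya : C a0 z0)
      exact N1 k hk
    · exfalso
      obtain ⟨k, hk⟩ := (h ▸ Caya : C a0 (a0 * z0))
      exact N3 k hk
    · exact h
  obtain ⟨x, hx⟩ := F5 ya hyaN
  have h1 : C ya (z0 * ya) := CS x ya _ hx
  have h2 : C (a0 * z0) (z0 * ya) := by
    refine ⟨g, ?_⟩
    have hyz' : ι z0 = g * ι z0 * g⁻¹ := hyz_eq ▸ hyz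
    calc g * ι (a0 * z0) * g⁻¹ = (g * ι a0 * g⁻¹) * (g * ι z0 * g⁻¹) := by rw [map_mul]; group
      _ = ι ya * ι z0 := by rw [← hya, ← hyz']
      _ = ι (z0 * ya) := by rw [← map_mul, Fz ya]
  obtain ⟨k, hk⟩ := Ctrans _ _ _ Caya (Ctrans _ _ _ h1 (Csymm _ _ h2))
  exact N3 k hk

end Cfsg.Agent.S2911
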