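import Cfsg.Statements.S2912
import Cfsg.Agent.Lib.Helper32.XSFaithful

set_option autoImplicit false
open Cfsg

namespace Cfsg.Agent.S2912

/-- Let p and r be distinct primes, let E be an extraspecial subgroup of order p^(2w+1) of a finite group, and let A be an elementary abelian r-subgroup normalized by E on which E acts faithfully (C_E(A) = 1). If n ≥ 1 is least with p dividing rⁿ − 1 (the smallest dimension of a faithful representation of a group of order p over the field with r elements), then the order of A is at least r^(n·p^w). -/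
theorem result {G : Type*} [Group G] [Finite G] {p r : ℕ} [Fact p.Prime] [hr : Fact r.Prime] (hpr : p ≠ r) (E A : Subgroup G) (w : ℕ) (hE : Cfsg.IsExtraspecial p ↥E) (hEcard : Nat.card ↥E = p ^ (2 * w + 1)) (hA : Cfsg.IsElementaryAbelian r A) (hnorm : E ≤ Subgroup.normalizer (A : Set G)) (hfaith : E ⊓ Subgroup.centralizer (A : Set G) = ⊥) (n : ℕ) (hn : 1 ≤ n) (hdiv : p ∣ r ^ n - 1) (hmin : ∀ k : ℕ, 1 ≤ k → p ∣ r ^ k - 1 → n ≤ k) : r ^ (n * p ^ w) ≤ Nat.card ↥A := by
  classical
  have hcomm : ∀ a b : ↥A, a * b = b * a := fun a b => hA.1.is_comm.comm a b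
  let _ : CommGroup ↥A := { (inferInstance : Group ↥A) with mul_comm := hcomm }
  have hmem : ∀ e : ↥E, ∀ a : ↥A, (e : G) * (a : G) * (e : G)⁻¹ ∈ A := by
    intro e a
    exact (Subgroup.mem_normalizer_iff.mp (hnorm e.2) (a : G)).mp a.2
  let φ : ↥E →* Monoid.End ↥A :=
    { toFun := fun e =>
        { toFun := fun a => ⟨(e : G) * (a : G) * (e : G)⁻¹, hmem e a⟩
          map_one' := Subtype.ext (by simp)
          map_mul' := fun a b => Subtype.ext (by simp) }
      map_one' := by
        apply MonoidHom.ext
        intro a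
        apply Subtype.ext
        show ((1 : ↥E) : G) * (a : G) * ((1 : ↥E) : G)⁻¹ = a
        simp
      map_mul' := by
        intro e f
        apply MonoidHom.ext
        intro a
        apply Subtype.ext
        show ((e * f : ↥E) : G) * (a : G) * ((e * f : ↥E) : G)⁻¹ =
          (e : G) * ((f : G) * (a : G) * (f : G)⁻¹) * (e : G)⁻¹
        simp [mul_assoc] }
  have hr' : ∀ a : ↥A, a ^ r = 1 := by
    intro a
    apply Subtype.ext
    have := hA.2 (a : G) a.2
    simpa using this
  have hf : ∀ g : ↥E, (∀ a : ↥A, φ g a = a) → g = 1 := by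
    intro g hg
    have hgc : (g : G) ∈ Subgroup.centralizer (A : Set G) := by
      rw [Subgroup.mem_centralizer_iff]
      intro a ha
      have h1 := congrArg Subtype.val (hg ⟨a, ha⟩)
      have h2 : (g : G) * a * (g : G)⁻¹ = a := h1
      calc a * (g : G) = ((g : G) * a * (g : G)⁻¹) * (g : G) := by rw [h2]
        _ = (g : G) * a := by group
    have hmem2 : (g : G) ∈ E ⊓ Subgroup.centralizer (A : Set G) := ⟨g.2, hgc⟩
    rw [hfaith, Subgroup.mem_bot] at hmem2
    exact Subtype.ext hmem2
  exact Cfsg.Agent.Lib.Helper32.extraspecial_faithful_bound_mul hpr hE w hEcard n hmin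
    ↥A φ hr' hf

end Cfsg.Agent.S2912
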