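import Cfsg.Statements.S2922
import Cfsg.Agent.Lib.Helper56.CharPNormalizer
import Cfsg.Agent.Lib.Helper56.CharPFStar

set_option autoImplicit false
open Cfsg

namespace Cfsg.Agent.S2922

open Cfsg.Agent.Lib.Helper56

theorem result {X : Type*} [Group X] [Finite X] {p : ℕ} [Fact p.Prime] (B C : Subgroup X) (hB : IsPGroup p ↥B) (hCB : C ≤ B) (hCn : (C.subgroupOf B).Normal) (hC : Cfsg.generalizedFittingSubgroup ↥(Subgroup.normalizer (C : Set X)) = Cfsg.pCore p ↥(Subgroup.normalizer (C : Set X))) : Cfsg.generalizedFittingSubgroup ↥(Subgroup.normalizer (B : Set X)) = Cfsg.pCore p ↥(Subgroup.normalizer (B : Set X)) ∧ Cfsg.generalizedFittingSubgroup ↥(Subgroup.centralizer (B : Set X)) = Cfsg.pCore p ↥(Subgroup.centralizer (B : Set X)) := by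
  have hN := genFitting_eq_pCore_iff.mp hC
  have hBN : B ≤ Subgroup.normalizer (C : Set X) :=
    (Subgroup.normal_subgroupOf_iff_le_normalizer hCB).mp hCn
  have hKN : Subgroup.centralizer (B : Set X) ≤ Subgroup.normalizer (C : Set X) :=
    (Subgroup.centralizer_le (by exact_mod_cast hCB)).trans (Subgroup.centralizer_le_normalizer _)
  exact ⟨genFitting_eq_pCore_iff.mpr (charP_normalizer_rel _ B hN hB hBN hKN),
    genFitting_eq_pCore_iff.mpr (charP_centralizer_rel _ B hN hB hBN hKN)⟩

end Cfsg.Agent.S2922
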