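import Cfsg.Statements.S2923
import Cfsg.Agent.Lib.Helper56.CharPIso

set_option autoImplicit false
open Cfsg

namespace Cfsg.Agent.S2923

theorem result {X : Type*} [Group X] [Finite X] {p : ℕ} [Fact p.Prime] (hX : Subgroup.centralizer (Cfsg.pCore p X : Set X) ≤ Cfsg.pCore p X) (Y : Subgroup X) (hY : Y.IsSubnormal) : Subgroup.centralizer (Cfsg.pCore p ↥Y : Set ↥Y) ≤ Cfsg.pCore p ↥Y :=
  Cfsg.Agent.Lib.Helper56.charP_of_isSubnormal hX Y hY

end Cfsg.Agent.S2923
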