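import Cfsg.Statements.S2925
import Cfsg.Agent.Lib.Helper30.Layer
import Cfsg.Agent.Lib.Helper13.Basic

set_option autoImplicit false
open Cfsg

namespace Cfsg.Agent.S2925

open scoped commutatorElement

theorem result {X : Type*} [Group X] [Finite X] (K : Subgroup X) (hK : Cfsg.IsComponent K) (T : Sylow 2 X) (Y : Subgroup X) (hYT : Y ≤ (T : Subgroup X)) (hYn : (Y.subgroupOf (T : Subgroup X)).Normal) (hYab : IsMulCommutative ↥Y) (hnot : ¬ Y ≤ Subgroup.normalizer (K : Set X)) (P : Sylow 2 (↥K ⧸ Subgroup.center ↥K)) : IsMulCommutative ↥(P : Subgroup (↥K ⧸ Subgroup.center ↥K)) := by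
  classical
  have hp2 : Fact (Nat.Prime 2) := ⟨Nat.prime_two⟩
  -- choose y ∈ Y with K^y ≠ K
  have hex : ∃ y ∈ Y, K.map (MulAut.conj y).toMonoidHom ≠ K := by
    by_contra hcon
    push Not at hcon
    apply hnot
    intro y hy
    rw [Subgroup.mem_normalizer_iff]
    intro k
    constructor
    · intro hk
      rw [← hcon y hy]
      exact ⟨k, hk, by simp [MulAut.conj_apply]⟩
    · intro hk
      rw [← hcon y hy] at hk
      obtain ⟨k', hk', he⟩ := hk
      simp only [MulEquiv.coe_toMonoidHom, MulAut.conj_apply] at he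
      have : k' = k := by
        have h1 := congrArg (fun z => y⁻¹ * z * y) he
        simpa [mul_assoc] using h1
      rwa [← this]
  obtain ⟨y, hyY, hne⟩ := hex
  set Ky : Subgroup X := K.map (MulAut.conj y).toMonoidHom with hKy
  have hKyc : Cfsg.IsComponent Ky := Cfsg.Agent.Lib.Helper30.isComponent_conj y hK
  have hcomm : ⁅K, Ky⁆ = ⊥ := Cfsg.Agent.Lib.Helper30.component_commute hK hKyc (Ne.symm hne)
  have hcm : ∀ a ∈ K, ∀ b ∈ Ky, a * b = b * a := by
    intro a ha b hb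
    have h1 : ⁅a, b⁆ ∈ ⁅K, Ky⁆ := Subgroup.commutator_mem_commutator ha hb
    rw [hcomm, Subgroup.mem_bot] at h1
    exact commutatorElement_eq_one_iff_mul_comm.mp h1
  -- key computation: commutators of elements of T ∩ K are central in K
  have key : ∀ a b : X, a ∈ (T : Subgroup X) → a ∈ K → b ∈ (T : Subgroup X) → b ∈ K →
      ∀ k ∈ K, ((b * a)⁻¹ * (a * b)) * k = k * ((b * a)⁻¹ * (a * b)) := by
    intro a b haT haK hbT hbK k hk
    set u : X := y * a⁻¹ * y⁻¹ with hu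
    set v : X := y * b⁻¹ * y⁻¹ with hv
    have huK : u ∈ Ky := ⟨a⁻¹, K.inv_mem haK, by simp [MulAut.conj_apply, hu]⟩
    have hvK : v ∈ Ky := ⟨b⁻¹, K.inv_mem hbK, by simp [MulAut.conj_apply, hv]⟩
    have hconj : ∀ t ∈ (T : Subgroup X), t * y * t⁻¹ ∈ Y := by
      intro t ht
      have h1 := hYn.conj_mem ⟨y, hYT hyY⟩ (Subgroup.mem_subgroupOf.mpr hyY) ⟨t, ht⟩
      rw [Subgroup.mem_subgroupOf] at h1
      simpa using h1
    have hcaY : a * u ∈ Y := by
      have h1 := Y.mul_mem (hconj a haT) (Y.inv_mem hyY)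
      have e : a * u = a * y * a⁻¹ * y⁻¹ := by rw [hu]; group
      rw [e]
      exact h1
    have hcbY : b * v ∈ Y := by
      have h1 := Y.mul_mem (hconj b hbT) (Y.inv_mem hyY)
      have e : b * v = b * y * b⁻¹ * y⁻¹ := by rw [hv]; group
      rw [e]
      exact h1
    have E : (a * u) * (b * v) = (b * v) * (a * u) := by
      have h1 := hYab.is_comm.comm (⟨a * u, hcaY⟩ : ↥Y) ⟨b * v, hcbY⟩
      exact congrArg Subtype.val h1
    have E' : a * b * (u * v) = b * a * (v * u) := by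
      calc a * b * (u * v) = a * (b * u) * v := by group
        _ = a * (u * b) * v := by rw [hcm b hbK u huK]
        _ = (a * u) * (b * v) := by group
        _ = (b * v) * (a * u) := E
        _ = b * (v * a) * u := by group
        _ = b * (a * v) * u := by rw [← hcm a haK v hvK]
        _ = b * a * (v * u) := by group
    have hw : (b * a)⁻¹ * (a * b) = v * u * (u * v)⁻¹ := by
      calc (b * a)⁻¹ * (a * b) = (b * a)⁻¹ * (a * b * (u * v)) * (u * v)⁻¹ := by group
        _ = (b * a)⁻¹ * (b * a * (v * u)) * (u * v)⁻¹ := by rw [E']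
        _ = v * u * (u * v)⁻¹ := by group
    have hwK : (b * a)⁻¹ * (a * b) ∈ Ky := by
      rw [hw]
      exact Ky.mul_mem (Ky.mul_mem hvK huK) (Ky.inv_mem (Ky.mul_mem huK hvK))
    exact (hcm k hk _ hwK).symm
  -- Sylow subgroups of K
  have hTKp : IsPGroup 2 ↥((T : Subgroup X).subgroupOf K) :=
    T.isPGroup'.comap_of_injective K.subtype K.subtype_injective
  have hTKi : ¬ 2 ∣ ((T : Subgroup X).subgroupOf K).index :=
    Cfsg.Agent.Lib.Helper13.not_dvd_relIndex_of_isSubnormal 2 (T : Subgroup X) K hK.1 T.not_dvd_index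
  set TK : Sylow 2 ↥K := hTKp.toSylow hTKi with hTK
  obtain ⟨P₀, hP₀⟩ := Sylow.mapSurjective_surjective
    (QuotientGroup.mk'_surjective (Subgroup.center ↥K)) 2 P
  obtain ⟨c, hc⟩ := MulAction.exists_smul_eq ↥K TK P₀
  have hmemP₀ : ∀ x : ↥K, x ∈ (P₀ : Subgroup ↥K) → ∃ a : ↥K, (a : X) ∈ (T : Subgroup X) ∧
      x = c * a * c⁻¹ := by
    intro x hx
    rw [← hc, Sylow.coe_subgroup_smul, Subgroup.mem_pointwise_smul_iff_inv_smul_mem] at hx
    refine ⟨c⁻¹ * x * c, ?_, by group⟩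
    have h1 : c⁻¹ * x * c ∈ (TK : Subgroup ↥K) := by
      simpa [MulAut.smul_def, MulAut.conj_apply] using hx
    exact Subgroup.mem_subgroupOf.mp h1
  have hcen : ∀ a b : ↥K, (a : X) ∈ (T : Subgroup X) → (b : X) ∈ (T : Subgroup X) →
      (b * a)⁻¹ * (a * b) ∈ Subgroup.center ↥K := by
    intro a b ha hb
    rw [Subgroup.mem_center_iff]
    intro k
    apply Subtype.ext
    have := key a b ha a.2 hb b.2 k k.2
    simp only [Subgroup.coe_mul, Subgroup.coe_inv]
    exact this.symm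
  refine ⟨⟨fun x z => ?_⟩⟩
  apply Subtype.ext
  simp only [Subgroup.coe_mul]
  have hxP : (x : ↥K ⧸ Subgroup.center ↥K) ∈ (P₀.mapSurjective
      (QuotientGroup.mk'_surjective (Subgroup.center ↥K)) : Subgroup _) := by
    rw [hP₀]; exact x.2
  have hzP : (z : ↥K ⧸ Subgroup.center ↥K) ∈ (P₀.mapSurjective
      (QuotientGroup.mk'_surjective (Subgroup.center ↥K)) : Subgroup _) := by
    rw [hP₀]; exact z.2
  rw [Sylow.coe_mapSurjective] at hxP hzP
  obtain ⟨x₀, hx₀, hx₀x⟩ := hxP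
  obtain ⟨z₀, hz₀, hz₀z⟩ := hzP
  obtain ⟨a, haT, rfl⟩ := hmemP₀ x₀ hx₀
  obtain ⟨b, hbT, rfl⟩ := hmemP₀ z₀ hz₀
  rw [← hx₀x, ← hz₀z]
  simp only [QuotientGroup.mk'_apply]
  rw [← QuotientGroup.mk_mul, ← QuotientGroup.mk_mul, QuotientGroup.eq]
  have h1 := hcen b a hbT haT
  have hn : (Subgroup.center ↥K).Normal := inferInstance
  have h2 := hn.conj_mem _ h1 c
  have e : (c * a * c⁻¹ * (c * b * c⁻¹))⁻¹ * (c * b * c⁻¹ * (c * a * c⁻¹))
      = c * ((a * b)⁻¹ * (b * a)) * c⁻¹ := by group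
  rw [e]
  exact h2

end Cfsg.Agent.S2925
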