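import Mathlib
import Cfsg.Statements.S2939
import Cfsg.Agent.Lib.Helper56.SylowControl

set_option autoImplicit false
open Cfsg
open scoped Pointwise

namespace Cfsg.Agent.S2939

variable {G : Type*} [Group G]

theorem mem_scr {g x : G} {X : Subgroup G} :
    x ∈ Cfsg.subgroupConjRight g X ↔ g * x * g⁻¹ ∈ X := by
  unfold Cfsg.subgroupConjRight
  constructor
  · rintro ⟨w, hw, rfl⟩
    simp only [MulEquiv.coe_toMonoidHom, MulAut.conj_apply, inv_inv]
    have : g * (g⁻¹ * w * g) * g⁻¹ = w := by group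
    rw [this]; exact hw
  · intro h
    refine ⟨g * x * g⁻¹, h, ?_⟩
    simp only [MulEquiv.coe_toMonoidHom, MulAut.conj_apply, inv_inv]
    group

theorem eq_map_of_scr_eq {h : G} {T S : Subgroup G} (e : Cfsg.subgroupConjRight h T = S) :
    T = S.map (MulAut.conj h).toMonoidHom := by
  subst e
  ext z
  rw [Subgroup.mem_map]
  constructor
  · intro hz
    refine ⟨h⁻¹ * z * h, ?_, ?_⟩
    · rw [mem_scr]
      have : h * (h⁻¹ * z * h) * h⁻¹ = z := by group
      rw [this]; exact hz
    · simp only [MulEquiv.coe_toMonoidHom, MulAut.conj_apply]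
      group
  · rintro ⟨w, hw, rfl⟩
    rw [mem_scr] at hw
    simpa using hw

theorem mem_smul_sylow {p : ℕ} {g x : G} {S : Sylow p G} :
    x ∈ ((g • S : Sylow p G) : Subgroup G) ↔ g⁻¹ * x * g ∈ (S : Subgroup G) := by
  rw [Sylow.coe_subgroup_smul, Subgroup.mem_pointwise_smul_iff_inv_smul_mem, MulAut.smul_def,
    ← map_inv, MulAut.conj_apply, inv_inv]

theorem smul_sylow_eq_map {p : ℕ} (g : G) (S : Sylow p G) :
    ((g • S : Sylow p G) : Subgroup G) = (S : Subgroup G).map (MulAut.conj g).toMonoidHom := by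
  ext x
  rw [mem_smul_sylow]
  constructor
  · intro h
    refine ⟨g⁻¹ * x * g, h, ?_⟩
    simp only [MulEquiv.coe_toMonoidHom, MulAut.conj_apply]
    group
  · rintro ⟨w, hw, rfl⟩
    simp only [MulEquiv.coe_toMonoidHom, MulAut.conj_apply]
    have : g⁻¹ * (g * w * g⁻¹) * g = w := by group
    rw [this]; exact hw

omit [Group G] in
/-- `List.ofFn` of the restriction of a sequence is the map over a range. -/
theorem ofFn_eq_map_range {n : ℕ} (f : ℕ → G) :
    List.ofFn (fun i : Fin n => f i) = (List.range n).map f := by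
  apply List.ext_getElem
  · simp
  · intro i h₁ h₂
    simp

theorem take_prod {n : ℕ} (f : ℕ → G) (k : ℕ) (hk : k ≤ n) :
    ((List.ofFn (fun i : Fin n => f i)).take k).prod = ((List.range k).map f).prod := by
  rw [ofFn_eq_map_range, ← List.map_take, List.take_range, min_eq_left hk]

theorem forward {p : ℕ} [Fact p.Prime] [Finite G] (𝓕 : Set (Subgroup G))
    (h𝓕 : Cfsg.IsNormalSet 𝓕) (hC : Cfsg.ControlsSylowIntersections p 𝓕) :
    Cfsg.FamilyStronglyControlsFusion p 𝓕 := by
  classical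
  intro S A g hAS hne hAg
  by_cases hT : g • S = S
  · refine ⟨0, Fin.elim0, Fin.elim0, g, Sylow.smul_eq_iff_mem_normalizer.mp hT,
      fun i => i.elim0, ?_, fun i => i.elim0⟩
    simp
  · -- nontrivial intersection
    have hAT : A ⊆ ((g • S : Sylow p G) : Subgroup G) := by
      intro a ha
      show a ∈ ((g • S : Sylow p G) : Subgroup G)
      rw [mem_smul_sylow]
      exact hAg ⟨a, ha, rfl⟩
    have hST : (S : Subgroup G) ⊓ ((g • S : Sylow p G) : Subgroup G) ≠ ⊥ := by
      obtain ⟨a, ha, ha1⟩ := hne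
      intro hbot
      have : a ∈ (S : Subgroup G) ⊓ ((g • S : Sylow p G) : Subgroup G) :=
        Subgroup.mem_inf.mpr ⟨hAS ha, hAT ha⟩
      rw [hbot, Subgroup.mem_bot] at this
      exact ha1 this
    obtain ⟨n, c, X, x, hc0, hcn, hstep⟩ := hC S (g • S) (fun h => hT h.symm) hST
    -- extensions to ℕ
    let xx : ℕ → G := fun k => if h : k < n then x ⟨k, h⟩ else 1
    let u : ℕ → G := fun k => Nat.rec (motive := fun _ => G) 1 (fun j r => xx j * r) k
    have hu0 : u 0 = 1 := rfl
    have husucc : ∀ k, u (k + 1) = xx k * u k := fun k => rfl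
    have hxx : ∀ i : Fin n, xx i = x i := by
      intro i
      show (if h : (i : ℕ) < n then x ⟨i, h⟩ else 1) = x i
      rw [dif_pos i.2]
    -- invariant
    have hinv : ∀ k (hk : k < n + 1),
        Cfsg.subgroupConjRight (u k) (c ⟨k, hk⟩ : Subgroup G) = (S : Subgroup G) := by
      intro k
      induction k with
      | zero =>
        intro hk
        ext z
        rw [mem_scr, hu0]
        have : (⟨0, hk⟩ : Fin (n + 1)) = 0 := rfl
        rw [this, hc0]
        simp
      | succ k ih =>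
        intro hk
        have hk' : k < n := by omega
        have ih' := ih (by omega)
        obtain ⟨_, _, _, h4, _⟩ := hstep ⟨k, hk'⟩
        have e1 : (⟨k, hk'⟩ : Fin n).succ = ⟨k + 1, hk⟩ := rfl
        have e2 : (⟨k, hk'⟩ : Fin n).castSucc = ⟨k, by omega⟩ := rfl
        rw [e1, e2] at h4
        ext z
        rw [← ih', mem_scr, mem_scr, ← h4, mem_scr, husucc, ← hxx ⟨k, hk'⟩]
        have : xx k * u k * z * (xx k * u k)⁻¹ = xx k * (u k * z * (u k)⁻¹) * (xx k)⁻¹ := by group
        show xx k * u k * z * (xx k * u k)⁻¹ ∈ _ ↔ xx k * (u k * z * (u k)⁻¹) * (xx k)⁻¹ ∈ _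
        rw [this]
    let yy : ℕ → G := fun k => (u k)⁻¹ * xx k * u k
    have hprod : ∀ k, ((List.range k).map yy).prod = u k := by
      intro k
      induction k with
      | zero => simp [hu0]
      | succ k ih =>
        rw [List.prod_range_succ, ih, husucc]
        show u k * ((u k)⁻¹ * xx k * u k) = xx k * u k
        group
    refine ⟨n, fun i => Cfsg.subgroupConjRight (u i) (X i), fun i => yy i, (u n)⁻¹ * g,
      ?_, ?_, ?_, ?_⟩
    · -- y₀ ∈ N(S)
      rw [Subgroup.mem_normalizer_iff]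
      intro h
      have hn := hinv n (by omega)
      have hlast : (⟨n, by omega⟩ : Fin (n + 1)) = Fin.last n := rfl
      rw [hlast, hcn] at hn
      -- h ∈ S ↔ u n * h' ... 
      have e : ∀ z, z ∈ (S : Subgroup G) ↔ g⁻¹ * (u n * z * (u n)⁻¹) * g ∈ (S : Subgroup G) := by
        intro z
        rw [← mem_smul_sylow, ← mem_scr, hn]
      rw [e ((u n)⁻¹ * g * h * ((u n)⁻¹ * g)⁻¹)]
      have : g⁻¹ * (u n * ((u n)⁻¹ * g * h * ((u n)⁻¹ * g)⁻¹) * (u n)⁻¹) * g = h := by group
      rw [this]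
    · intro i
      obtain ⟨h1, _, h3, _, _⟩ := hstep i
      refine ⟨?_, ?_⟩
      · have hi := hinv i (by omega)
        have e2 : (⟨(i : ℕ), by omega⟩ : Fin (n + 1)) = i.castSucc := rfl
        rw [e2] at hi
        exact Cfsg.Agent.Lib.Helper56.sylowMembers_conj 𝓕 h𝓕 (S : Subgroup G)
          (c i.castSucc : Subgroup G) (u i) (eq_map_of_scr_eq hi) (X i) h1
      · show yy i ∈ Cfsg.subgroupConjRight (u i) (X i)
        rw [mem_scr]
        show u i * ((u i)⁻¹ * xx i * u i) * (u i)⁻¹ ∈ X i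
        have : u i * ((u i)⁻¹ * xx i * u i) * (u i)⁻¹ = xx i := by group
        rw [this, hxx]; exact h3
    · have : (List.ofFn (fun i : Fin n => yy i)).prod = u n := by
        rw [ofFn_eq_map_range, hprod]
      rw [this]; group
    · intro i
      rw [take_prod yy (i.val + 1) (by omega), hprod]
      rintro _ ⟨a, ha, rfl⟩
      obtain ⟨_, _, h3, _, h5⟩ := hstep i
      have haST : a ∈ (S : Subgroup G) ⊓ ((g • S : Sylow p G) : Subgroup G) :=
        Subgroup.mem_inf.mpr ⟨hAS ha, hAT ha⟩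
      have ha2 := h5 haST
      rw [Subgroup.mem_inf] at ha2
      have hi := hinv (i.val + 1) (by omega)
      have e1 : (⟨i.val + 1, by omega⟩ : Fin (n + 1)) = i.succ := rfl
      rw [e1] at hi
      refine ⟨?_, ?_⟩
      · show (u (i.val + 1))⁻¹ * a * u (i.val + 1) ∈ (S : Subgroup G)
        rw [← hi, mem_scr]
        have : u (i.val + 1) * ((u (i.val + 1))⁻¹ * a * u (i.val + 1)) * (u (i.val + 1))⁻¹ = a := by
          group
        rw [this]; exact ha2.1
      · show (u (i.val + 1))⁻¹ * a * u (i.val + 1) ∈ Cfsg.subgroupConjRight (u i) (X i)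
        rw [mem_scr, husucc, hxx]
        have : u i * ((x i * u i)⁻¹ * a * (x i * u i)) * (u i)⁻¹ = (x i)⁻¹ * a * x i := by group
        rw [this]
        exact (X i).mul_mem ((X i).mul_mem ((X i).inv_mem h3) ha2.2) h3

theorem backward {p : ℕ} [Fact p.Prime] [Finite G] (𝓕 : Set (Subgroup G))
    (h𝓕 : Cfsg.IsNormalSet 𝓕) (hF : Cfsg.FamilyStronglyControlsFusion p 𝓕) :
    Cfsg.ControlsSylowIntersections p 𝓕 := by
  classical
  intro S T hne hST
  obtain ⟨g, hg⟩ := MulAction.exists_smul_eq G S T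
  have hAS : (((S : Subgroup G) ⊓ (T : Subgroup G) : Subgroup G) : Set G) ⊆ (S : Set G) :=
    fun a ha => (Subgroup.mem_inf.mp ha).1
  have hne1 : ∃ a ∈ (((S : Subgroup G) ⊓ (T : Subgroup G) : Subgroup G) : Set G), a ≠ 1 := by
    by_contra hcon
    push Not at hcon
    apply hST
    rw [Subgroup.eq_bot_iff_forall]
    intro a ha
    exact hcon a ha
  have hAg : Cfsg.conjRight g (((S : Subgroup G) ⊓ (T : Subgroup G) : Subgroup G) : Set G)
      ⊆ (S : Set G) := by
    rintro _ ⟨a, ha, rfl⟩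
    have haT : a ∈ (T : Subgroup G) := (Subgroup.mem_inf.mp ha).2
    rw [← hg, mem_smul_sylow] at haT
    exact haT
  obtain ⟨n, Y, y, y₀, hy₀, hY, hgprod, hsub⟩ := hF S _ g hAS hne1 hAg
  let yy : ℕ → G := fun k => if h : k < n then y ⟨k, h⟩ else 1
  have hyy : ∀ i : Fin n, yy i = y i := by
    intro i
    show (if h : (i : ℕ) < n then y ⟨i, h⟩ else 1) = y i
    rw [dif_pos i.2]
  have hy_eq : y = fun i : Fin n => yy i := by
    funext i; exact (hyy i).symm
  let u : ℕ → G := fun k => ((List.range k).map yy).prod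
  have hu0 : u 0 = 1 := by simp [u]
  have husucc : ∀ k, u (k + 1) = u k * yy k := fun k => List.prod_range_succ yy k
  have htake : ∀ i : Fin n, ((List.ofFn y).take (i.val + 1)).prod = u (i.val + 1) := by
    intro i
    rw [hy_eq, take_prod yy (i.val + 1) (by omega)]
  have hfull : (List.ofFn y).prod = u n := by
    rw [hy_eq, ofFn_eq_map_range]
  refine ⟨n, fun k => u k • S, fun i => Cfsg.subgroupConjRight (u i)⁻¹ (Y i),
    fun i => u i * y i * (u i)⁻¹, ?_, ?_, ?_⟩
  · show u ((0 : Fin (n + 1)) : ℕ) • S = S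
    have : ((0 : Fin (n + 1)) : ℕ) = 0 := rfl
    rw [this, hu0, one_smul]
  · show u ((Fin.last n : Fin (n + 1)) : ℕ) • S = T
    have : ((Fin.last n : Fin (n + 1)) : ℕ) = n := rfl
    rw [this, ← hg, hgprod, hfull, mul_smul, Sylow.smul_eq_iff_mem_normalizer.mpr hy₀]
  · intro i
    obtain ⟨hYi, hyi⟩ := hY i
    have hcs : ((i.castSucc : Fin (n + 1)) : ℕ) = i.val := rfl
    have hsc : ((i.succ : Fin (n + 1)) : ℕ) = i.val + 1 := rfl
    -- the conjugate by u (i+1) is the same subgroup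
    have hXeq : Cfsg.subgroupConjRight (u (i.val + 1))⁻¹ (Y i)
        = Cfsg.subgroupConjRight (u i)⁻¹ (Y i) := by
      ext z
      rw [mem_scr, mem_scr, husucc, hyy]
      have : (u i * y i)⁻¹ * z * ((u i * y i)⁻¹)⁻¹ = (y i)⁻¹ * ((u i)⁻¹ * z * ((u i)⁻¹)⁻¹) * y i := by
        group
      rw [this]
      constructor
      · intro h
        have := (Y i).mul_mem ((Y i).mul_mem hyi h) ((Y i).inv_mem hyi)
        have e : y i * ((y i)⁻¹ * ((u i)⁻¹ * z * ((u i)⁻¹)⁻¹) * y i) * (y i)⁻¹
            = (u i)⁻¹ * z * ((u i)⁻¹)⁻¹ := by group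
        rw [e] at this
        exact this
      · intro h
        exact (Y i).mul_mem ((Y i).mul_mem ((Y i).inv_mem hyi) h) hyi
    have hmem : ∀ k : ℕ, Cfsg.subgroupConjRight (u k)⁻¹ (Y i)
        ∈ Cfsg.sylowMembers p 𝓕 ((u k • S : Sylow p G) : Subgroup G) := by
      intro k
      refine Cfsg.Agent.Lib.Helper56.sylowMembers_conj 𝓕 h𝓕 ((u k • S : Sylow p G) : Subgroup G)
        (S : Subgroup G) (u k)⁻¹ ?_ (Y i) hYi
      ext z
      rw [Subgroup.mem_map]
      constructor
      · intro hz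
        refine ⟨u k * z * (u k)⁻¹, ?_, ?_⟩
        · rw [mem_smul_sylow]
          have : (u k)⁻¹ * (u k * z * (u k)⁻¹) * u k = z := by group
          rw [this]; exact hz
        · simp only [MulEquiv.coe_toMonoidHom, MulAut.conj_apply]
          group
      · rintro ⟨w, hw, rfl⟩
        rw [mem_smul_sylow] at hw
        simpa using hw
    refine ⟨?_, ?_, ?_, ?_, ?_⟩
    · show Cfsg.subgroupConjRight (u i)⁻¹ (Y i)
        ∈ Cfsg.sylowMembers p 𝓕 ((u (i.castSucc : Fin (n + 1)) • S : Sylow p G) : Subgroup G)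
      rw [hcs]
      exact hmem i
    · show Cfsg.subgroupConjRight (u i)⁻¹ (Y i)
        ∈ Cfsg.sylowMembers p 𝓕 ((u (i.succ : Fin (n + 1)) • S : Sylow p G) : Subgroup G)
      rw [hsc, ← hXeq]
      exact hmem (i.val + 1)
    · show u i * y i * (u i)⁻¹ ∈ Cfsg.subgroupConjRight (u i)⁻¹ (Y i)
      rw [mem_scr]
      have : (u i)⁻¹ * (u i * y i * (u i)⁻¹) * ((u i)⁻¹)⁻¹ = y i := by group
      rw [this]; exact hyi
    · show Cfsg.subgroupConjRight (u i * y i * (u i)⁻¹)
          ((u (i.succ : Fin (n + 1)) • S : Sylow p G) : Subgroup G)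
        = ((u (i.castSucc : Fin (n + 1)) • S : Sylow p G) : Subgroup G)
      rw [hcs, hsc]
      ext z
      rw [mem_scr, mem_smul_sylow, mem_smul_sylow, husucc, hyy]
      have : (u i * y i)⁻¹ * (u i * y i * (u i)⁻¹ * z * (u i * y i * (u i)⁻¹)⁻¹) * (u i * y i)
          = (u i)⁻¹ * z * u i := by group
      rw [this]
    · intro a ha
      have hsub' := hsub i
      rw [htake] at hsub'
      have hmem2 : (u (i.val + 1))⁻¹ * a * u (i.val + 1) ∈ (S : Set G) ∩ (Y i : Set G) :=
        hsub' ⟨a, ha, rfl⟩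
      refine Subgroup.mem_inf.mpr ⟨?_, ?_⟩
      · show a ∈ ((u (i.succ : Fin (n + 1)) • S : Sylow p G) : Subgroup G)
        rw [hsc, mem_smul_sylow]
        exact hmem2.1
      · show a ∈ Cfsg.subgroupConjRight (u i)⁻¹ (Y i)
        rw [← hXeq, mem_scr]
        have : (u (i.val + 1))⁻¹ * a * ((u (i.val + 1))⁻¹)⁻¹ = (u (i.val + 1))⁻¹ * a * u (i.val + 1) := by
          group
        rw [this]
        exact hmem2.2

/-- Let p be a prime dividing the order of the finite group G and 𝓕 a family of subgroups of G closed under conjugation, with conjugates taken as X^g = g⁻¹Xg. Then 𝓕 controls Sylow p-intersections in G (any two distinct Sylow p-subgroups S and T with S ∩ T ≠ 1 are joined by a chain S = S₀, S₁, …, Sₙ = T of Sylow p-subgroups where, for each i, some member Xᵢ of 𝓕 meets both S_{i-1} and Sᵢ in Sylow p-subgroups of Xᵢ, satisfies S ∩ T ≤ Sᵢ ∩ Xᵢ, and contains an element xᵢ with Sᵢ^{xᵢ} = S_{i-1}) if and only if 𝓕 strongly controls p-fusion in G (whenever A is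 a subset of a Sylow p-subgroup S, A contains an element other than 1, and A^g ⊆ S, the element g factorises as g = y₁⋯yₙy with y ∈ N_G(S) and each yᵢ in a member Yᵢ of 𝓕 that meets S in a Sylow p-subgroup of Yᵢ, with A^{y₁⋯yᵢ} ⊆ S ∩ Yᵢ for each i). -/
theorem result {G : Type*} [Group G] [Finite G] {p : ℕ} [Fact p.Prime] (hdiv : p ∣ Nat.card G) (𝓕 : Set (Subgroup G)) (h𝓕 : Cfsg.IsNormalSet 𝓕) : Cfsg.ControlsSylowIntersections p 𝓕 ↔ Cfsg.FamilyStronglyControlsFusion p 𝓕 := by
  exact ⟨forward 𝓕 h𝓕, backward 𝓕 h𝓕⟩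

end Cfsg.Agent.S2939
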