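import Cfsg.Statements.S2940

set_option autoImplicit false
open Cfsg

namespace Cfsg.Agent.S2940

theorem result {G : Type*} [Group G] [Finite G] {p : ℕ} [Fact p.Prime] (S : Sylow p G) (G₁ G₂ : Subgroup G) (h1 : (S : Subgroup G) ≤ G₁) (h2 : (S : Subgroup G) ≤ G₂) (hfact : ∀ g : G, ∃ g₁ ∈ G₁, ∃ g₂ ∈ G₂, g = g₁ * g₂) (g : G) : ∃ U : Sylow p G, (S : Subgroup G) ⊓ Cfsg.subgroupConjRight g (S : Subgroup G) ≤ (U : Subgroup G) ∧ (U : Subgroup G) ≤ G₁ ⊓ Cfsg.subgroupConjRight g G₂ := by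
  classical
  obtain ⟨a, ha, b, hb, hab⟩ := hfact g⁻¹
  have hg : g = b⁻¹ * a⁻¹ := by
    have : g = (g⁻¹)⁻¹ := by simp
    rw [this, hab]; simp
  set H : Subgroup G := G₁ ⊓ Cfsg.subgroupConjRight g G₂ with hH
  have hS' : ((a • S : Sylow p G) : Subgroup G) ≤ H := by
    rw [Sylow.coe_subgroup_smul]
    intro x hx
    rw [Subgroup.mem_smul_pointwise_iff_exists] at hx
    obtain ⟨s, hs, rfl⟩ := hx
    rw [MulAut.smul_def, MulAut.conj_apply]
    refine ⟨G₁.mul_mem (G₁.mul_mem ha (h1 hs)) (G₁.inv_mem ha), ?_⟩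
    refine ⟨b⁻¹ * s * b, G₂.mul_mem (G₂.mul_mem (G₂.inv_mem hb) (h2 hs)) hb, ?_⟩
    simp only [MulEquiv.coe_toMonoidHom, MulAut.conj_apply, hab]
    group
  have hDH : (S : Subgroup G) ⊓ Cfsg.subgroupConjRight g (S : Subgroup G) ≤ H := by
    refine le_inf (inf_le_left.trans h1) (inf_le_right.trans ?_)
    exact Subgroup.map_mono h2
  have hD : IsPGroup p ↥((S : Subgroup G) ⊓ Cfsg.subgroupConjRight g (S : Subgroup G)) :=
    S.2.to_le inf_le_left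
  obtain ⟨Q, hQ⟩ := (hD.comap_subtype (K := H)).exists_le_sylow
  obtain ⟨h, hh⟩ := MulAction.exists_smul_eq H ((a • S).subtype hS') Q
  rw [Sylow.smul_subtype] at hh
  refine ⟨h • (a • S), ?_, Sylow.smul_le hS' h⟩
  intro x hx
  have hxH : x ∈ H := hDH hx
  have hx2 : (⟨x, hxH⟩ : H) ∈ (Q : Subgroup H) := hQ (by
    show (⟨x, hxH⟩ : H) ∈ ((S : Subgroup G) ⊓ Cfsg.subgroupConjRight g (S : Subgroup G)).subgroupOf H
    rw [Subgroup.mem_subgroupOf]; exact hx)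
  rw [← hh, Sylow.coe_subtype, Subgroup.mem_subgroupOf] at hx2
  exact hx2

end Cfsg.Agent.S2940
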