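import Cfsg.Statements.S2942
import Cfsg.Agent.Lib.Helper52.JOver3
import Cfsg.Agent.Lib.Helper15.TransportInj
import Cfsg.Agent.Lib.Helper55.LargeChar
import Cfsg.Agent.S2941

set_option autoImplicit false
open Cfsg

namespace Cfsg.Agent.S2942

/-- Let G be a finite group of characteristic 2 type in which every 2-local subgroup is solvable and the centralizer of Ω₁(Z(S)) lies in N_G(S) for every Sylow 2-subgroup S, and let T be a nontrivial 2-subgroup (below, J is the Thompson subgroup generated by the elementary abelian 2-subgroups of largest order). If L is a subgroup in which T is a Sylow 2-subgroup, with J(T) not contained in O₂(L) and C_G(O₂(L)) ≤ O₂(L), then every J(T)-component contained in L is subnormal in L. -/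
theorem result {G : Type*} [Group G] [Finite G] (hL : Cfsg.IsCharacteristicTwoType G) (hN : ∀ N : Subgroup G, Cfsg.IsTwoLocal N → Group.IsSolvable ↥N)
    (hZ : ∀ S : Sylow 2 G, Subgroup.centralizer (Cfsg.omegaCenterOf (S : Subgroup G) : Set G) ≤ Subgroup.normalizer ((S : Subgroup G) : Set G)) (T : Subgroup G) (hT : IsPGroup 2 ↥T) (hT1 : T ≠ ⊥) (L : Subgroup G) (hLT : L ∈ Cfsg.jOvergroups T)
    (K : Subgroup G) (hK : Cfsg.IsJComponent T K) (hKL : K ≤ L) : (K.subgroupOf L).IsSubnormal := by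
  classical
  have : Fact (Nat.Prime 2) := ⟨Nat.prime_two⟩
  obtain ⟨⟨hTL, hT2, hoddidx⟩, hJP, hCP⟩ := hLT
  have hK' := hK
  obtain ⟨hKodd, hKJ, -⟩ := hK
  obtain ⟨P, hP⟩ : ∃ P, P = Cfsg.pCoreOf 2 L := ⟨_, rfl⟩
  rw [← hP] at hJP hCP
  have hP1 : P ≠ ⊥ := by
    intro h
    rw [h] at hCP
    apply hT1
    rw [eq_bot_iff]
    intro t _
    have : t ∈ Subgroup.centralizer ((⊥ : Subgroup G) : Set G) := by
      rw [Subgroup.mem_centralizer_iff]
      intro x hx
      rw [Subgroup.coe_bot, Set.mem_singleton_iff] at hx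
      rw [hx]; simp
    exact hCP this
  have hP2 : IsPGroup 2 ↥P := hP ▸ Cfsg.Agent.Lib.Helper54.isPGroup_pCoreOf 2 L
  have hLP : L ≤ Subgroup.normalizer (P : Set G) :=
    hP ▸ Cfsg.Agent.Lib.Helper54.le_normalizer_pCoreOf 2 L
  have hsolN : Group.IsSolvable ↥(Subgroup.normalizer (P : Set G)) := hN _ ⟨P, hP2, hP1, rfl⟩
  have hsolL : Group.IsSolvable ↥L :=
    Group.isSolvable_of_isSolvable_injective (Subgroup.inclusion_injective hLP)
  obtain ⟨S, hTS⟩ := hT2.exists_le_sylow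
  obtain ⟨Z, hZdef⟩ : ∃ Z, Z = Cfsg.omegaCenterOf (S : Subgroup G) := ⟨_, rfl⟩
  have hPT : P ≤ T := by
    rw [hP]
    exact Cfsg.Agent.Lib.Helper52.pCoreOf_le_of_coprime_relIndex L T
      (Nat.coprime_two_right.mpr hoddidx)
  have hZS : Z ≤ Subgroup.centralizer ((S : Subgroup G) : Set G) :=
    hZdef ▸ Cfsg.Agent.Lib.Helper52.JComp.omegaCenterOf_le_centralizer _
  -- the Sylow subgroup of `L`
  have hT2' : IsPGroup 2 ↥(T.subgroupOf L) := hT2.comap_subtype
  have hidx : ¬ 2 ∣ (T.subgroupOf L).index := by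
    intro h
    have h1 : Even (T.relIndex L) := even_iff_two_dvd.mpr h
    exact (Nat.not_even_iff_odd.mpr hoddidx) h1
  obtain ⟨T', hT'⟩ : ∃ T' : Sylow 2 ↥L, (T' : Subgroup ↥L) = T.subgroupOf L :=
    ⟨hT2'.toSylow hidx, rfl⟩
  have hST' : S.1.subgroupOf L = (T' : Subgroup ↥L) := by
    apply T'.is_maximal' (S.2.comap_subtype)
    rw [hT']
    intro x hx
    exact Subgroup.mem_subgroupOf.mpr (hTS (Subgroup.mem_subgroupOf.mp hx))
  -- `Z'`
  have hZ'T : Z.subgroupOf L ≤ Subgroup.centralizer ((T' : Subgroup ↥L) : Set ↥L) := by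
    intro z hz
    rw [Subgroup.mem_centralizer_iff]
    intro t ht
    rw [SetLike.mem_coe, hT', Subgroup.mem_subgroupOf] at ht
    apply Subtype.ext
    exact Subgroup.mem_centralizer_iff.mp (hZS (Subgroup.mem_subgroupOf.mp hz)) _ (hTS ht)
  have hZP : Z ≤ P := by
    refine le_trans ?_ hCP
    refine hZS.trans (Subgroup.centralizer_le ?_)
    intro x hx
    exact hTS (hPT hx)
  have hZL : Z ≤ L := hZP.trans (hP ▸ Cfsg.Agent.Lib.Helper54.pCoreOf_le 2 L)
  have hZN' : Subgroup.centralizer ((Z.subgroupOf L : Subgroup ↥L) : Set ↥L) ≤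
      Subgroup.normalizer ((T' : Subgroup ↥L) : Set ↥L) := by
    intro c hc
    have hcZ : (c : G) ∈ Subgroup.centralizer (Z : Set G) := by
      rw [Subgroup.mem_centralizer_iff]
      intro z hz
      have h1 := Subgroup.mem_centralizer_iff.mp hc ⟨z, hZL hz⟩
        (Subgroup.mem_subgroupOf.mpr hz)
      exact congrArg Subtype.val h1
    rw [hZdef] at hcZ
    have hcS := hZ S hcZ
    rw [← hST', Subgroup.mem_normalizer_iff]
    intro x
    rw [Subgroup.mem_subgroupOf, Subgroup.mem_subgroupOf]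
    exact Subgroup.mem_normalizer_iff.mp hcS x
  have hchar' : Subgroup.centralizer (Cfsg.pCore 2 ↥L : Set ↥L) ≤ Cfsg.pCore 2 ↥L := by
    apply Cfsg.Agent.Lib.Helper55.centralizer_pCore_le_of_pCoreOf
    rw [← hP]
    exact inf_le_right.trans hCP
  -- `K'`
  have hodd' : Subgroup.closure {x : ↥L | x ∈ K.subgroupOf L ∧ Odd (orderOf x)} =
      K.subgroupOf L := by
    apply Subgroup.map_injective L.subtype_injective
    rw [MonoidHom.map_closure, Subgroup.map_subgroupOf_eq_of_le hKL]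
    conv_rhs => rw [← hKodd]
    congr 1
    ext g
    constructor
    · rintro ⟨x, ⟨hxK, hxo⟩, rfl⟩
      refine ⟨Subgroup.mem_subgroupOf.mp hxK, ?_⟩
      rw [Subgroup.coe_subtype, Subgroup.orderOf_coe]
      exact hxo
    · rintro ⟨hgK, hgo⟩
      refine ⟨⟨g, hKL hgK⟩, ⟨Subgroup.mem_subgroupOf.mpr hgK, ?_⟩, rfl⟩
      rw [← Subgroup.orderOf_coe]
      exact hgo
  have hJ' : (Cfsg.thompsonSubgroupOf 2 (T' : Subgroup ↥L)).map L.subtype =
      Cfsg.thompsonSubgroupOf 2 T := by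
    rw [hT', Cfsg.Agent.Lib.Helper15.thompsonSubgroupOf_map_of_disjoint 2 L.subtype
      (T.subgroupOf L) (by rw [Subgroup.ker_subtype, inf_bot_eq]),
      Subgroup.map_subgroupOf_eq_of_le hTL]
  have hKJ' : ⁅K.subgroupOf L, Cfsg.thompsonSubgroupOf 2 (T' : Subgroup ↥L)⁆ =
      K.subgroupOf L := by
    apply Subgroup.map_injective L.subtype_injective
    rw [Subgroup.map_commutator, hJ', Subgroup.map_subgroupOf_eq_of_le hKL, hKJ]
  have hPK : P ≤ Subgroup.normalizer (K : Set G) := by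
    apply Cfsg.Agent.S2941.result hL hN hZ T hT hT1 K hK' P
    · refine le_trans ?_ hLP
      exact sup_le hKL ((Cfsg.Agent.Lib.Helper15.thompsonSubgroupOf_le 2 T).trans hTL)
    · exact (hPT.trans Subgroup.le_normalizer).trans
        (Cfsg.Agent.Lib.Helper15.normalizer_le_normalizer_thompsonSubgroupOf 2 T)
  have hPK' : Cfsg.pCore 2 ↥L ≤ Subgroup.normalizer ((K.subgroupOf L : Subgroup ↥L) : Set ↥L) := by
    intro x hx
    have hxP : (x : G) ∈ P := by
      rw [hP]
      exact Subgroup.mem_map_of_mem L.subtype hx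
    have h1 := hPK hxP
    rw [Subgroup.mem_normalizer_iff]
    intro y
    rw [Subgroup.mem_subgroupOf, Subgroup.mem_subgroupOf]
    exact Subgroup.mem_normalizer_iff.mp h1 y
  exact Cfsg.Agent.Lib.Helper52.jover_subnormal hchar' T' (Z.subgroupOf L) hZ'T hZN'
    (K.subgroupOf L) hodd' hKJ' hPK'

end Cfsg.Agent.S2942
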