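import Cfsg.Statements.S2943
import Cfsg.Agent.Lib.Helper52.JOver6

set_option autoImplicit false
open Cfsg

namespace Cfsg.Agent.S2943

/-- Let G be a finite group of characteristic 2 type in which every 2-local subgroup is solvable and the centralizer of Ω₁(Z(S)) lies in N_G(S) for every Sylow 2-subgroup S, and let T be a nontrivial 2-subgroup (below, J is the Thompson subgroup generated by the elementary abelian 2-subgroups of largest order), L a subgroup in which T is a Sylow 2-subgroup with J(T) not contained in O₂(L) and C_G(O₂(L)) ≤ O₂(L), and K a J(T)-component contained in L. If Z(T) meets W_K = [Ω₁(Z(O₂(K))), K] nontrivially, then T normalizes K. -/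
theorem result {G : Type*} [Group G] [Finite G] (hL : Cfsg.IsCharacteristicTwoType G) (hN : ∀ N : Subgroup G, Cfsg.IsTwoLocal N → Group.IsSolvable ↥N)
    (hZ : ∀ S : Sylow 2 G, Subgroup.centralizer (Cfsg.omegaCenterOf (S : Subgroup G) : Set G) ≤ Subgroup.normalizer ((S : Subgroup G) : Set G)) (T : Subgroup G) (hT : IsPGroup 2 ↥T) (hT1 : T ≠ ⊥) (L : Subgroup G) (hLT : L ∈ Cfsg.jOvergroups T)
    (K : Subgroup G) (hK : Cfsg.IsJComponent T K) (hKL : K ≤ L)
    (hZW : T ⊓ Subgroup.centralizer (T : Set G) ⊓ Cfsg.wOf K ≠ ⊥) : T ≤ Subgroup.normalizer (K : Set G) := by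
  classical
  have : Fact (Nat.Prime 2) := ⟨Nat.prime_two⟩
  obtain ⟨SG, V₁, C₁, M, hTS, d⟩ := Cfsg.Agent.Lib.Helper52.exists_ldata hN hZ hT1 hLT
  obtain ⟨S, c⟩ := Cfsg.Agent.Lib.Helper52.JComp.exists_ctx hT hK
  have hJT : Cfsg.thompsonSubgroupOf 2 T ≤ T := Cfsg.Agent.Lib.Helper15.thompsonSubgroupOf_le 2 T
  have hPK : Cfsg.pCoreOf 2 L ≤ Subgroup.normalizer (K : Set G) := by
    apply Cfsg.Agent.S2941.result hL hN hZ T hT hT1 K hK (Cfsg.pCoreOf 2 L)
    · refine le_trans ?_ d.hPn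
      exact sup_le hKL (hJT.trans d.hTL)
    · exact (d.hPT.trans Subgroup.le_normalizer).trans
        (Cfsg.Agent.Lib.Helper15.normalizer_le_normalizer_thompsonSubgroupOf 2 T)
  have hZJ : Cfsg.omegaCenterOf (SG : Subgroup G) ≤
      Cfsg.omegaCenterOf (Cfsg.thompsonSubgroupOf 2 T) := by
    intro z hz
    obtain ⟨hzS, hzC, hz2⟩ := Cfsg.Agent.Lib.Helper52.JComp.mem_omegaCenterOf_iff.mp hz
    have hzT : z ∈ T := d.hPT (d.hV₁P (d.hZV hz))
    have hzc : ∀ s ∈ (SG : Subgroup G), z * s = s * z := fun s hs =>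
      (Subgroup.mem_centralizer_iff.mp hzC s hs).symm
    obtain ⟨A, hA⟩ := Cfsg.Agent.Lib.Helper15.maxElemIn_nonempty 2 T
    have hzA : z ∈ A := Cfsg.Agent.Lib.Helper52.JComp.mem_of_mem_maxElemIn hA hzT hz2
      (fun a ha => hzc a (hTS (hA.1 ha)))
    rw [Cfsg.Agent.Lib.Helper52.JComp.mem_omegaCenterOf_iff]
    refine ⟨?_, ?_, hz2⟩
    · rw [Cfsg.Agent.Lib.Helper15.thompsonSubgroupOf_eq]
      exact (le_sSup hA : A ≤ sSup (Cfsg.Agent.Lib.Helper15.maxElemIn 2 T)) hzA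
    · rw [Subgroup.mem_centralizer_iff]
      intro j hj
      exact (hzc j (hTS (hJT hj))).symm
  have h : Cfsg.Agent.Lib.Helper52.LK L T (Cfsg.pCoreOf 2 L) V₁ C₁ M
      (Cfsg.omegaCenterOf (SG : Subgroup G)) K S :=
    ⟨d, c, hKL, hPK, rfl, hT, hZJ⟩
  obtain ⟨⟨w, hw⟩, hw1⟩ := (Subgroup.ne_bot_iff_exists_ne_one).mp hZW
  obtain ⟨hwTC, hwW⟩ := Subgroup.mem_inf.mp hw
  obtain ⟨hwT, hwC⟩ := Subgroup.mem_inf.mp hwTC
  have hw1' : w ≠ 1 := by
    intro e
    apply hw1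
    exact Subtype.ext e
  exact h.T_le_normalizer_K hwW hw1'
    (fun t ht => (Subgroup.mem_centralizer_iff.mp hwC t ht))

end Cfsg.Agent.S2943
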