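import Cfsg.Statements.S2944
import Cfsg.Agent.Lib.Helper52.JOver10

set_option autoImplicit false
open Cfsg

namespace Cfsg.Agent.S2944

/-- Let G be a finite group of characteristic 2 type in which every 2-local subgroup is solvable and the centralizer of Ω₁(Z(S)) lies in N_G(S) for every Sylow 2-subgroup S, and let T be a nontrivial 2-subgroup (below, J is the Thompson subgroup generated by the elementary abelian 2-subgroups of largest order) and K a J(T)-component such that J(T) is the Thompson subgroup of every Sylow 2-subgroup of N_G(W_K) containing J(T), where W_K = [Ω₁(Z(O₂(K))), K]. Then N_G(K) = N_G(W_K), and K is a J(Tᵍ)-component for every conjugate Tᵍ of T with J(Tᵍ) ≤ N_G(W_K). -/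
theorem result {G : Type*} [Group G] [Finite G] (hL : Cfsg.IsCharacteristicTwoType G) (hN : ∀ N : Subgroup G, Cfsg.IsTwoLocal N → Group.IsSolvable ↥N)
    (hZ : ∀ S : Sylow 2 G, Subgroup.centralizer (Cfsg.omegaCenterOf (S : Subgroup G) : Set G) ≤ Subgroup.normalizer ((S : Subgroup G) : Set G)) (T : Subgroup G) (hT : IsPGroup 2 ↥T) (hT1 : T ≠ ⊥) (K : Subgroup G) (hK : K ∈ Cfsg.jComponentsZero T) :
    Subgroup.normalizer (K : Set G) = Subgroup.normalizer (Cfsg.wOf K : Set G) ∧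
      ∀ g : G, Cfsg.thompsonSubgroupOf 2 (T.map (MulAut.conj g).toMonoidHom) ≤ Subgroup.normalizer (Cfsg.wOf K : Set G) →
        Cfsg.IsJComponent (T.map (MulAut.conj g).toMonoidHom) K := by
  classical
  have : Fact (Nat.Prime 2) := ⟨Nat.prime_two⟩
  obtain ⟨hKc, hK0⟩ := hK
  obtain ⟨S₀, c₀⟩ := Cfsg.Agent.Lib.Helper52.JComp.exists_ctx hT hKc
  have hJN : Cfsg.thompsonSubgroupOf 2 T ≤ Subgroup.normalizer (Cfsg.wOf K : Set G) :=
    c₀.J_le_normalizer_W
  obtain ⟨S, hJS, hSyl⟩ := Cfsg.Agent.Lib.Helper52.exists_isSylowTwoIn_ge c₀.hJ2 hJN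
  have hJeq : Cfsg.thompsonSubgroupOf 2 S = Cfsg.thompsonSubgroupOf 2 T := hK0 S hJS hSyl
  have hS2 : IsPGroup 2 ↥S := hSyl.2.1
  have hS1 : S ≠ ⊥ := by
    intro e
    apply c₀.not_J_cent
    intro j hj
    have := hJS hj
    rw [e, Subgroup.mem_bot] at this
    rw [this]
    exact Subgroup.one_mem _
  have hKS : Cfsg.IsJComponent S K := by
    unfold Cfsg.IsJComponent
    rw [hJeq]
    exact hKc
  have hW2 : IsPGroup 2 ↥(Cfsg.wOf K) := IsPGroup.of_card (n := 2) (by rw [c₀.card]; norm_num)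
  have hW1 : Cfsg.wOf K ≠ ⊥ := c₀.wOf_ne_bot
  have hchar := hL.2 (Cfsg.wOf K) hW2 hW1
  have hQW := c₀.pCoreOf_normalizer_W_le
  have hWQ : Cfsg.wOf K ≤ Cfsg.pCoreOf 2 (Subgroup.normalizer (Cfsg.wOf K : Set G)) :=
    Cfsg.Agent.Lib.Helper54.le_pCoreOf Subgroup.le_normalizer le_rfl hW2
  have hNS : Subgroup.normalizer (Cfsg.wOf K : Set G) ∈ Cfsg.jOvergroups S := by
    refine ⟨hSyl, ?_, ?_⟩
    · intro hle
      apply c₀.not_J_cent
      rw [← hJeq]
      exact hle.trans hQW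
    · have h1 : Subgroup.centralizer
          (Cfsg.pCoreOf 2 (Subgroup.normalizer (Cfsg.wOf K : Set G)) : Set G) ≤
          Subgroup.normalizer (Cfsg.wOf K : Set G) :=
        (Subgroup.centralizer_le (by exact_mod_cast hWQ)).trans
          (Subgroup.centralizer_le_normalizer _)
      have h2 := Cfsg.Agent.Lib.Helper54.inf_centralizer_pCoreOf_le (p := 2)
        (L := Subgroup.normalizer (Cfsg.wOf K : Set G)) hchar
      exact (le_inf h1 le_rfl).trans h2
  have hKN : K ≤ Subgroup.normalizer (Cfsg.wOf K : Set G) :=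
    Subgroup.le_normalizer.trans (Cfsg.Agent.Lib.Helper52.JComp.le_normalizer_wOf K)
  obtain ⟨SG, V₁, C₁, M, S₁, h, d2⟩ :=
    Cfsg.Agent.Lib.Helper52.exists_lk2 hL hN hZ hS2 hS1 hNS hKS hKN
  have hNK : Subgroup.normalizer (Cfsg.wOf K : Set G) ≤ Subgroup.normalizer (K : Set G) :=
    h.L_le_normalizer_K d2 le_rfl
  refine ⟨le_antisymm (Cfsg.Agent.Lib.Helper52.JComp.le_normalizer_wOf K) hNK, ?_⟩
  intro g hg
  have hJ'2 : IsPGroup 2 ↥(Cfsg.thompsonSubgroupOf 2 (T.map (MulAut.conj g).toMonoidHom)) :=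
    (hT.map _).to_le (Cfsg.Agent.Lib.Helper15.thompsonSubgroupOf_le 2 _)
  obtain ⟨S', hJ'S', hSyl'⟩ := Cfsg.Agent.Lib.Helper52.exists_isSylowTwoIn_ge hJ'2 hg
  obtain ⟨n, hnN, hS'⟩ := Cfsg.Agent.Lib.Helper52.exists_conj_of_isSylowTwoIn hSyl hSyl'
  rw [hS'] at hJ'S'
  have hJ'eq := Cfsg.Agent.Lib.Helper52.thompson_conj_eq_of_le hJeq g n hJ'S'
  exact Cfsg.Agent.Lib.Helper52.isJComponent_of_conj hKc (hNK hnN) hJ'eq

end Cfsg.Agent.S2944
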