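import Cfsg.Statements.S2947
import Cfsg.Agent.Lib.Helper21.SylowAux

set_option autoImplicit false
open Cfsg

namespace Cfsg.Agent.S2947

open Cfsg.Agent.Lib.Helper21

/-- A nontrivial `2`-group has even order. -/
theorem even_card_of_two_group {G : Type*} [Group G] [Finite G] (U : Subgroup G)
    (hU : IsPGroup 2 ↥U) (hU1 : U ≠ ⊥) : Even (Nat.card ↥U) := by
  haveI : Fact (Nat.Prime 2) := ⟨Nat.prime_two⟩
  obtain ⟨n, hn⟩ := (IsPGroup.iff_card (p := 2) (G := ↥U)).mp hU
  rcases Nat.eq_zero_or_pos n with h0 | h0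
  · exfalso
    apply hU1
    rw [h0, pow_zero] at hn
    exact Subgroup.card_eq_one.mp hn
  · rw [hn]
    exact (Nat.even_pow' h0.ne').mpr even_two

/-- If `M` contains the normalizer of each of its nontrivial `2`-subgroups, then every `2`-subgroup
meeting `M` nontrivially lies in `M`. -/
theorem le_of_inf_ne_bot {G : Type*} [Group G] [Finite G] (M : Subgroup G)
    (hA : ∀ U : Subgroup G, IsPGroup 2 ↥U → U ≠ ⊥ → U ≤ M → Subgroup.normalizer (U : Set G) ≤ M)
    (W : Subgroup G) (hW : IsPGroup 2 ↥W) (hWM : W ⊓ M ≠ ⊥) : W ≤ M := by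
  haveI : Fact (Nat.Prime 2) := ⟨Nat.prime_two⟩
  by_contra hnle
  have hlt : W ⊓ M < W := lt_of_le_of_ne inf_le_left (fun h => hnle (h ▸ inf_le_right))
  obtain ⟨y, hyW, hyU, hyn⟩ := exists_mem_normalizer_not_mem_of_lt hW hlt
  have hyM : y ∈ M := hA (W ⊓ M) (hW.to_le inf_le_left) hWM inf_le_right hyn
  exact hyU ⟨hyW, hyM⟩

theorem result {G : Type*} [Group G] [Finite G] (hL : Cfsg.IsCharacteristicTwoType G) (hN : ∀ N : Subgroup G, Cfsg.IsTwoLocal N → Group.IsSolvable ↥N)
    (hZ : ∀ S : Sylow 2 G, Subgroup.centralizer (Cfsg.omegaCenterOf (S : Subgroup G) : Set G) ≤ Subgroup.normalizer ((S : Subgroup G) : Set G)) (hO : Cfsg.pCore 2 G = ⊥) (S : Sylow 2 G) (M : Subgroup G) (hM : Cfsg.IsTwoLocal M)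
    (hMJ : Subgroup.normalizer (Cfsg.thompsonSubgroupOf 2 (S : Subgroup G) : Set G) ≤ M) :
    Cfsg.IsStronglyEmbedded M ↔ Cfsg.straddlingTwoSubgroups M = ∅ := by
  classical
  haveI : Fact (Nat.Prime 2) := ⟨Nat.prime_two⟩
  constructor
  · -- strongly embedded ⇒ no straddling subgroup
    rintro ⟨_, _, hodd⟩
    have hA : ∀ U : Subgroup G, IsPGroup 2 ↥U → U ≠ ⊥ → U ≤ M →
        Subgroup.normalizer (U : Set G) ≤ M := by
      intro U hU hU1 hUM g hg
      by_contra hgM
      have hle : U ≤ M ⊓ M.map (MulAut.conj g).toMonoidHom := by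
        intro u hu
        refine ⟨hUM hu, ?_⟩
        have h1 : g⁻¹ * u * g⁻¹⁻¹ ∈ U :=
          (Subgroup.mem_normalizer_iff.mp (Subgroup.inv_mem _ hg) u).mp hu
        refine ⟨g⁻¹ * u * g⁻¹⁻¹, hUM h1, ?_⟩
        simp only [MulEquiv.coe_toMonoidHom, MulAut.conj_apply]
        group
      have h2 : Even (Nat.card ↥(M ⊓ M.map (MulAut.conj g).toMonoidHom)) :=
        (even_card_of_two_group U hU hU1).trans_dvd (Subgroup.card_dvd_of_le hle)
      exact (Nat.not_odd_iff_even.mpr h2) (hodd g hgM)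
    rw [Set.eq_empty_iff_forall_notMem]
    rintro T ⟨hT2, hT1, hTM, L, ⟨R, hR2, hR1, rfl⟩, hTL, hLM⟩
    have hW : IsPGroup 2 ↥(T ⊔ R) := IsPGroup.to_sup_of_normal_right' hT2 hR2 hTL
    have hWM : (T ⊔ R) ⊓ M ≠ ⊥ := by
      intro h
      apply hT1
      rw [eq_bot_iff, ← h]
      exact le_inf le_sup_left hTM
    have hWle : T ⊔ R ≤ M := le_of_inf_ne_bot M hA _ hW hWM
    exact hLM (hA R hR2 hR1 (le_sup_right.trans hWle))
  · -- no straddling subgroup ⇒ strongly embedded
    intro hemp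
    have hA : ∀ U : Subgroup G, IsPGroup 2 ↥U → U ≠ ⊥ → U ≤ M →
        Subgroup.normalizer (U : Set G) ≤ M := by
      intro U hU hU1 hUM
      by_contra hnle
      have : U ∈ Cfsg.straddlingTwoSubgroups M :=
        ⟨hU, hU1, hUM, Subgroup.normalizer (U : Set G), ⟨U, hU, hU1, rfl⟩, Subgroup.le_normalizer, hnle⟩
      rw [hemp] at this
      exact this
    obtain ⟨R₀, hR2, hR1, rfl⟩ := hM
    refine ⟨?_, ?_, ?_⟩
    · intro htop
      apply hR1
      have hn : R₀.Normal := Subgroup.normalizer_eq_top_iff.mp htop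
      rw [eq_bot_iff, ← hO]
      exact le_sSup ⟨hn, hR2⟩
    · exact (even_card_of_two_group R₀ hR2 hR1).trans_dvd
        (Subgroup.card_dvd_of_le Subgroup.le_normalizer)
    · intro g hg
      set M : Subgroup G := Subgroup.normalizer (R₀ : Set G) with hMdef
      by_contra hnodd
      have heven : Even (Nat.card ↥(M ⊓ M.map (MulAut.conj g).toMonoidHom)) :=
        Nat.not_odd_iff_even.mp hnodd
      obtain ⟨t, ht⟩ := exists_prime_orderOf_dvd_card' 2 heven.two_dvd
      have htM : (t : G) ∈ M := t.2.1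
      have htM' : g⁻¹ * (t : G) * g ∈ M := by
        obtain ⟨m, hm, hmt⟩ := t.2.2
        simp only [MulEquiv.coe_toMonoidHom, MulAut.conj_apply] at hmt
        rw [← hmt]
        have : g⁻¹ * (g * m * g⁻¹) * g = m := by group
        rw [this]; exact hm
      have hto : orderOf (t : G) = 2 := by rw [Subgroup.orderOf_coe]; exact ht
      have ht1 : (t : G) ≠ 1 := by
        intro h
        rw [h, orderOf_one] at hto
        omega
      -- a Sylow 2-subgroup containing t
      have hU2 : IsPGroup 2 ↥(Subgroup.zpowers (t : G)) := by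
        apply IsPGroup.of_card (n := 1)
        rw [Nat.card_zpowers, hto, pow_one]
      obtain ⟨P, hP⟩ := hU2.exists_le_sylow
      have htP : (t : G) ∈ (P : Subgroup G) := hP (Subgroup.mem_zpowers _)
      have hPM : (P : Subgroup G) ≤ M := by
        apply le_of_inf_ne_bot M hA _ P.2
        intro h
        have : (t : G) ∈ (P : Subgroup G) ⊓ M := ⟨htP, htM⟩
        rw [h, Subgroup.mem_bot] at this
        exact ht1 this
      have hP1 : (P : Subgroup G) ≠ ⊥ := by
        intro h
        rw [h, Subgroup.mem_bot] at htP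
        exact ht1 htP
      -- the conjugate Sylow subgroup
      have hP'M : ((g⁻¹ • P : Sylow 2 G) : Subgroup G) ≤ M := by
        apply le_of_inf_ne_bot M hA _ (g⁻¹ • P).2
        intro h
        have h1 : g⁻¹ * (t : G) * g ∈ ((g⁻¹ • P : Sylow 2 G) : Subgroup G) := by
          rw [Sylow.coe_subgroup_smul, Subgroup.mem_smul_pointwise_iff_exists]
          refine ⟨(t : G), htP, ?_⟩
          simp [MulAut.smul_def, MulAut.conj_apply]
        have : g⁻¹ * (t : G) * g ∈ ((g⁻¹ • P : Sylow 2 G) : Subgroup G) ⊓ M := ⟨h1, htM'⟩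
        rw [h, Subgroup.mem_bot] at this
        apply ht1
        have h2 : (t : G) = g * (g⁻¹ * (t : G) * g) * g⁻¹ := by group
        rw [h2, this]; group
      obtain ⟨m, hm⟩ := MulAction.exists_smul_eq M (P.subtype hPM) ((g⁻¹ • P).subtype hP'M)
      rw [Sylow.smul_subtype] at hm
      have hm' : m • P = g⁻¹ • P := Sylow.subtype_injective hm
      have hgm : (g * (m : G)) • P = P := by
        rw [mul_smul, ← Subgroup.smul_def, hm', smul_smul, mul_inv_cancel, one_smul]
      have hgmN : g * (m : G) ∈ Subgroup.normalizer ((P : Subgroup G) : Set G) :=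
        Sylow.smul_eq_iff_mem_normalizer.mp hgm
      have hgmM : g * (m : G) ∈ M := hA _ P.2 hP1 hPM hgmN
      apply hg
      have : g = (g * (m : G)) * (m : G)⁻¹ := by group
      rw [this]
      exact M.mul_mem hgmM (M.inv_mem m.2)

end Cfsg.Agent.S2947
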