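import Cfsg.Statements.S2955
import Cfsg.Agent.Lib.Helper56.SylowControl

set_option autoImplicit false
open Cfsg

namespace Cfsg.Agent.S2955

open Cfsg.Agent.Lib.Helper56

theorem result {G : Type*} [Group G] [Finite G] (p : ℕ) [Fact p.Prime] (hdiv : p ∣ Nat.card G)
    (𝓕 : Set (Subgroup G)) (h𝓕 : Cfsg.IsNormalSet 𝓕) (hc : Cfsg.ControlsSylowIntersections p 𝓕)
    (hconn : Cfsg.IsSylowChainConnected p G) (S : Sylow p G) :
    (⨆ X ∈ Cfsg.sylowMembers p 𝓕 (S : Subgroup G), X) ⊔ Subgroup.normalizer ((S : Subgroup G) : Set G) = ⊤ := by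
  classical
  set H : Subgroup G :=
    (⨆ X ∈ Cfsg.sylowMembers p 𝓕 (S : Subgroup G), X) ⊔ Subgroup.normalizer ((S : Subgroup G) : Set G)
    with hH
  have hmemH : ∀ X ∈ Cfsg.sylowMembers p 𝓕 (S : Subgroup G), X ≤ H := by
    intro X hX
    exact le_trans (le_biSup (fun X => X) hX) le_sup_left
  -- reachability
  let Reach : Sylow p G → Prop := fun T =>
    ∃ h ∈ H, (T : Subgroup G) = (S : Subgroup G).map (MulAut.conj h).toMonoidHom
  have hconjconj : ∀ (a b : G) (K : Subgroup G),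
      (K.map (MulAut.conj b).toMonoidHom).map (MulAut.conj a).toMonoidHom
        = K.map (MulAut.conj (a * b)).toMonoidHom := by
    intro a b K
    rw [Subgroup.map_map]
    congr 1
    ext y
    simp [MulAut.conj_apply, mul_assoc]
  have hmap1 : ∀ K : Subgroup G, K.map (MulAut.conj (1 : G)).toMonoidHom = K := by
    intro K
    ext y
    simp
  have hstep : ∀ (T₁ T₂ : Sylow p G) (X : Subgroup G) (x : G), Reach T₁ →
      X ∈ Cfsg.sylowMembers p 𝓕 (T₁ : Subgroup G) → x ∈ X →
      Cfsg.subgroupConjRight x (T₂ : Subgroup G) = (T₁ : Subgroup G) → Reach T₂ := by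
    rintro T₁ T₂ X x ⟨h, hhH, hT₁⟩ hX hxX hconj
    have hX' := sylowMembers_conj 𝓕 h𝓕 (S : Subgroup G) (T₁ : Subgroup G) h hT₁ X hX
    have hX'H := hmemH _ hX'
    have h1 : h⁻¹ * x * h ∈ H := by
      apply hX'H
      refine ⟨x, hxX, ?_⟩
      simp
    have hxH : x ∈ H := by
      have : x = h * (h⁻¹ * x * h) * h⁻¹ := by group
      rw [this]
      exact H.mul_mem (H.mul_mem hhH h1) (H.inv_mem hhH)
    refine ⟨x * h, H.mul_mem hxH hhH, ?_⟩
    rw [← hconjconj, ← hT₁, ← hconj]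
    unfold Cfsg.subgroupConjRight
    rw [hconjconj, mul_inv_cancel, hmap1]
  -- adjacent Sylows
  have hadj : ∀ T₁ T₂ : Sylow p G, Reach T₁ → T₁ ≠ T₂ → (T₁ : Subgroup G) ⊓ (T₂ : Subgroup G) ≠ ⊥ →
      Reach T₂ := by
    intro T₁ T₂ hR hne hmeet
    obtain ⟨n, c, X, x, hc0, hcn, hall⟩ := hc T₁ T₂ hne hmeet
    have : ∀ i : Fin (n + 1), Reach (c i) := by
      intro i
      induction i using Fin.induction with
      | zero => rw [hc0]; exact hR
      | succ i ih =>
        obtain ⟨hX1, _, hx, hcj, _⟩ := hall i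
        exact hstep (c i.castSucc) (c i.succ) (X i) (x i) ih hX1 hx hcj
    rw [← hcn]
    exact this (Fin.last n)
  -- all Sylows are reachable
  have hall : ∀ T : Sylow p G, Reach T := by
    intro T
    obtain ⟨n, c, hc0, hcn, _, hch⟩ := hconn S T
    have : ∀ i : Fin (n + 1), Reach (c i) := by
      intro i
      induction i using Fin.induction with
      | zero =>
        rw [hc0]
        exact ⟨1, H.one_mem, (hmap1 _).symm⟩
      | succ i ih =>
        exact hadj _ _ ih (hch i).1 (hch i).2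
    rw [← hcn]
    exact this (Fin.last n)
  -- conclude
  rw [eq_top_iff]
  intro g _
  obtain ⟨h, hhH, hh⟩ := hall (g • S)
  rw [Sylow.coe_subgroup_smul] at hh
  have hn : h⁻¹ * g ∈ Subgroup.normalizer ((S : Subgroup G) : Set G) := by
    apply Sylow.smul_eq_iff_mem_normalizer.mp
    apply Sylow.ext
    rw [mul_smul, Sylow.coe_subgroup_smul, Sylow.coe_subgroup_smul, hh]
    ext y
    rw [Subgroup.mem_smul_pointwise_iff_exists]
    constructor
    · rintro ⟨_, ⟨s, hs, rfl⟩, rfl⟩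
      simp only [MulEquiv.coe_toMonoidHom, MulAut.smul_def, MulAut.conj_apply]
      have : h⁻¹ * (h * s * h⁻¹) * h⁻¹⁻¹ = s := by group
      rw [this]; exact hs
    · intro hy
      refine ⟨h * y * h⁻¹, ⟨y, hy, rfl⟩, ?_⟩
      simp only [MulAut.smul_def, MulAut.conj_apply]
      group
  have : g = h * (h⁻¹ * g) := by group
  rw [this]
  exact H.mul_mem hhH (le_sup_right (a := ⨆ X ∈ Cfsg.sylowMembers p 𝓕 (S : Subgroup G), X) hn)

end Cfsg.Agent.S2955
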