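import Mathlib
import Cfsg.Statements.S2957
import Cfsg.Agent.S2940
import Cfsg.Agent.Lib.Helper96.SylChain

set_option autoImplicit false
open Cfsg
open Cfsg.Agent.Lib.Helper96.SylChain

namespace Cfsg.Agent.S2957

/-- the core case: chains from the given Sylow subgroup `S` -/
theorem core {G : Type*} [Group G] [Finite G] (p : ℕ) [Fact p.Prime]
    (f : Subgroup G → Set (Subgroup G)) (hf : Cfsg.IsNormalizerFunctor p f) (S : Sylow p G)
    (G₁ G₂ : Subgroup G) (h₁ : (S : Subgroup G) ≤ G₁) (h₂ : (S : Subgroup G) ≤ G₂)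
    (hprod : ∀ g : G, ∃ g₁ ∈ G₁, ∃ g₂ ∈ G₂, g = g₁ * g₂)
    (hr₁ : Cfsg.IsFunctorRegular p f G₁) (hr₂ : Cfsg.IsFunctorRegular p f G₂)
    (B : Sylow p G) (hm : (S : Subgroup G) ⊓ B ≠ ⊥) :
    AChain p f ⊤ ((S : Subgroup G) ⊓ B) S B := by
  obtain ⟨c, hc⟩ := MulAction.exists_smul_eq G S B
  set g : G := c⁻¹ with hg
  have e : subgroupConjRight g (S : Subgroup G) = (B : Subgroup G) := by
    rw [← hc]
    show (S : Subgroup G).map (MulAut.conj g⁻¹).toMonoidHom = _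
    rw [hg, inv_inv]
    rfl
  obtain ⟨U, hU1, hU2⟩ := Cfsg.Agent.S2940.result S G₁ G₂ h₁ h₂ hprod g
  rw [e] at hU1
  set D : Subgroup G := (S : Subgroup G) ⊓ B with hD
  -- part 1
  have p1 : AChain p f ⊤ D S U :=
    (achain_of_regular hf ⟨S, h₁⟩ hr₁ S U h₁ (hU2.trans inf_le_left) D inf_le_left hU1 hm).to_top
  -- part 2
  have hU₂ : ((g • U : Sylow p G) : Subgroup G) ≤ G₂ := by
    intro y hy
    rw [mem_smul_sylow] at hy
    obtain ⟨z, hz, hzy⟩ := (hU2 hy).2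
    have : z = y := by
      have h := hzy
      simp only [MulEquiv.coe_toMonoidHom, MulAut.conj_apply, inv_inv] at h
      have h' : g * (g⁻¹ * z * g) * g⁻¹ = g * (g⁻¹ * y * g) * g⁻¹ := by rw [h]
      simpa [mul_assoc] using h'
    rw [← this]; exact hz
  have hgB : g • B = S := by
    rw [← hc, smul_smul, hg, inv_mul_cancel, one_smul]
  set D₂ : Subgroup G := D.map (MulAut.conj g).toMonoidHom with hD₂
  have hD₂U : D₂ ≤ ((g • U : Sylow p G) : Subgroup G) := by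
    rintro _ ⟨d, hd, rfl⟩
    rw [mem_smul_sylow]
    have : g⁻¹ * ((MulAut.conj g).toMonoidHom d) * g = d := by
      simp [MulAut.conj_apply, mul_assoc]
    rw [this]; exact hU1 hd
  have hD₂S : D₂ ≤ (S : Subgroup G) := by
    rintro _ ⟨d, hd, rfl⟩
    have hdB : d ∈ (B : Subgroup G) := hd.2
    rw [← hgB, mem_smul_sylow]
    have : g⁻¹ * ((MulAut.conj g).toMonoidHom d) * g = d := by
      simp [MulAut.conj_apply, mul_assoc]
    rw [this]; exact hdB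
  have hD₂ne : D₂ ≠ ⊥ := by
    intro h
    apply hm
    rw [hD₂] at h
    exact (Subgroup.map_eq_bot_iff_of_injective D (MulAut.conj g).injective).1 h
  have p2a : AChain p f ⊤ D₂ (g • U) S :=
    (achain_of_regular hf ⟨S, h₂⟩ hr₂ (g • U) S hU₂ h₂ D₂ hD₂U hD₂S hD₂ne).to_top
  have p2b := p2a.conj hf g⁻¹
  rw [inv_smul_smul] at p2b
  have hS' : g⁻¹ • S = B := by rw [← hgB, inv_smul_smul]
  rw [hS'] at p2b
  have p2 : AChain p f ⊤ D U B := by
    refine p2b.mono ?_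
    intro d hd
    refine ⟨(MulAut.conj g).toMonoidHom d, ⟨d, hd, rfl⟩, ?_⟩
    simp [MulAut.conj_apply, mul_assoc]
  exact p1.trans p2

theorem result {G : Type*} [Group G] [Finite G] (p : ℕ) [Fact p.Prime] (hdiv : p ∣ Nat.card G)
    (f : Subgroup G → Set (Subgroup G)) (hf : Cfsg.IsNormalizerFunctor p f) (S : Sylow p G)
    (G₁ G₂ : Subgroup G) (h₁ : (S : Subgroup G) ≤ G₁) (h₂ : (S : Subgroup G) ≤ G₂)
    (hprod : ∀ g : G, ∃ g₁ ∈ G₁, ∃ g₂ ∈ G₂, g = g₁ * g₂)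
    (hr₁ : Cfsg.IsFunctorRegular p f G₁) (hr₂ : Cfsg.IsFunctorRegular p f G₂) :
    Cfsg.IsFunctorRegular p f ⊤ := by
  classical
  unfold IsFunctorRegular
  rw [controls_iff]
  intro S' T' hne hmeet
  have hMtop : ∃ S₀ : Sylow p G, (S₀ : Subgroup G) ≤ (⊤ : Subgroup G) := ⟨S, le_top⟩
  have hSa : (liftS hMtop S').subtype le_top = S' := subtype_liftS hMtop S'
  have hTa : (liftS hMtop T').subtype le_top = T' := subtype_liftS hMtop T'
  set A := liftS hMtop S' with hA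
  set B := liftS hMtop T' with hB
  -- the meet
  have hDeq : ((A : Subgroup G) ⊓ B).subgroupOf ⊤ = (S' : Subgroup ↥(⊤ : Subgroup G)) ⊓ T' := by
    ext y
    rw [Subgroup.mem_subgroupOf, Subgroup.mem_inf, Subgroup.mem_inf, hA, hB, liftS_coe, liftS_coe]
    constructor
    · rintro ⟨⟨z, hz, hzy⟩, ⟨w, hw, hwy⟩⟩
      have e1 : z = y := Subtype.ext hzy
      have e2 : w = y := Subtype.ext hwy
      exact ⟨e1 ▸ hz, e2 ▸ hw⟩
    · rintro ⟨h1, h2⟩
      exact ⟨⟨y, h1, rfl⟩, ⟨y, h2, rfl⟩⟩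
  have hmA : (A : Subgroup G) ⊓ B ≠ ⊥ := by
    intro h
    apply hmeet
    rw [← hDeq, h]
    simp
  suffices h : AChain p f ⊤ ((A : Subgroup G) ⊓ B) A B by
    have := ichain_of_achain h
    rw [hSa, hTa, hDeq] at this
    exact this
  -- move `A` to `S`
  obtain ⟨a, ha⟩ := MulAction.exists_smul_eq G S A
  set B₁ : Sylow p G := a⁻¹ • B with hB₁
  have haB : a • B₁ = B := by rw [hB₁, smul_inv_smul]
  have hm1 : (S : Subgroup G) ⊓ B₁ ≠ ⊥ := by
    intro h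
    apply hmA
    rw [Subgroup.eq_bot_iff_forall]
    intro y hy
    have h1 : a⁻¹ * y * a ∈ (S : Subgroup G) := by
      rw [← mem_smul_sylow, ha]; exact hy.1
    have h2 : a⁻¹ * y * a ∈ (B₁ : Subgroup G) := by
      rw [← mem_smul_sylow, haB]; exact hy.2
    have h3 : a⁻¹ * y * a ∈ (S : Subgroup G) ⊓ B₁ := ⟨h1, h2⟩
    rw [h, Subgroup.mem_bot] at h3
    have h4 : a * (a⁻¹ * y * a) * a⁻¹ = a * 1 * a⁻¹ := by rw [h3]
    simpa [mul_assoc] using h4
  have c1 := core p f hf S G₁ G₂ h₁ h₂ hprod hr₁ hr₂ B₁ hm1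
  have c2 := c1.conj hf a
  rw [ha, haB] at c2
  refine c2.mono ?_
  intro y hy
  refine ⟨a⁻¹ * y * a, Subgroup.mem_inf.2 ⟨?_, ?_⟩, ?_⟩
  · rw [← mem_smul_sylow, ha]; exact hy.1
  · rw [← mem_smul_sylow, haB]; exact hy.2
  · simp [MulAut.conj_apply, mul_assoc]

end Cfsg.Agent.S2957
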