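import Cfsg.Statements.S2958

set_option autoImplicit false
open Cfsg

namespace Cfsg.Agent.S2958

theorem result {G : Type*} [Group G] (X A B : Subgroup G) (hgen : (⨆ g : G, X.map (MulAut.conj g).toMonoidHom) = ⊤) (hcover : ∀ g : G, X.map (MulAut.conj g).toMonoidHom ≤ A ∨ X.map (MulAut.conj g).toMonoidHom ≤ B) : A = ⊤ ∨ B = ⊤ := by
  classical
  by_cases hA : A = ⊤
  · exact Or.inl hA
  right
  -- N = join of conjugates not inside A
  set N : Subgroup G := ⨆ g : {g : G // ¬ X.map (MulAut.conj g).toMonoidHom ≤ A},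
    X.map (MulAut.conj (g : G)).toMonoidHom with hN
  have hNB : N ≤ B := by
    apply iSup_le
    rintro ⟨g, hg⟩
    exact (hcover g).resolve_left hg
  -- conjugation formula
  have hconj : ∀ z g : G, (X.map (MulAut.conj g).toMonoidHom).map (MulAut.conj z).toMonoidHom
      = X.map (MulAut.conj (z * g)).toMonoidHom := by
    intro z g
    rw [Subgroup.map_map]
    congr 1
    ext x
    simp [MulAut.conj_apply, mul_assoc]
  -- each conjugate of X stabilizes N under conjugation
  have hstab : ∀ g : G, ∀ z ∈ X.map (MulAut.conj g).toMonoidHom, N.map (MulAut.conj z).toMonoidHom ≤ N := by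
    intro g z hz
    by_cases hg : X.map (MulAut.conj g).toMonoidHom ≤ A
    · -- z ∈ A
      have hzA : z ∈ A := hg hz
      rw [hN, Subgroup.map_iSup]
      apply iSup_le
      rintro ⟨g', hg'⟩
      rw [hconj]
      have : ¬ X.map (MulAut.conj (z * g')).toMonoidHom ≤ A := by
        intro hle
        apply hg'
        intro y hy
        have h1 : z * y * z⁻¹ ∈ X.map (MulAut.conj (z * g')).toMonoidHom := by
          rw [← hconj]
          exact ⟨y, hy, by simp [MulAut.conj_apply]⟩
        have h2 := hle h1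
        have h3 : z⁻¹ * (z * y * z⁻¹) * z ∈ A := A.mul_mem (A.mul_mem (A.inv_mem hzA) h2) hzA
        simpa [mul_assoc] using h3
      exact le_iSup (fun g : {g : G // ¬ X.map (MulAut.conj g).toMonoidHom ≤ A} =>
        X.map (MulAut.conj (g : G)).toMonoidHom) ⟨z * g', this⟩
    · -- z ∈ N
      have hzN : z ∈ N := by
        have : X.map (MulAut.conj g).toMonoidHom ≤ N :=
          le_iSup (fun g : {g : G // ¬ X.map (MulAut.conj g).toMonoidHom ≤ A} =>
            X.map (MulAut.conj (g : G)).toMonoidHom) ⟨g, hg⟩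
        exact this hz
      rintro _ ⟨n, hn, rfl⟩
      simp only [MulEquiv.coe_toMonoidHom, MulAut.conj_apply]
      exact N.mul_mem (N.mul_mem hzN hn) (N.inv_mem hzN)
  -- N is normal
  have hnorm : Subgroup.normalizer (N : Set G) = ⊤ := by
    rw [eq_top_iff, ← hgen]
    apply iSup_le
    intro g z hz
    rw [Subgroup.mem_normalizer_iff]
    intro n
    constructor
    · intro hn
      exact hstab g z hz ⟨n, hn, by simp [MulAut.conj_apply]⟩
    · intro hn
      have hz' : z⁻¹ ∈ X.map (MulAut.conj g).toMonoidHom := Subgroup.inv_mem _ hz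
      have h4 : z⁻¹ * (z * n * z⁻¹) * z⁻¹⁻¹ ∈ N :=
        hstab g z⁻¹ hz' ⟨z * n * z⁻¹, hn, by simp⟩
      simpa [mul_assoc] using h4
  have hNn : N.Normal := Subgroup.normalizer_eq_top_iff.mp hnorm
  -- some conjugate is not in A
  have hex : ∃ g : G, ¬ X.map (MulAut.conj g).toMonoidHom ≤ A := by
    by_contra hcon
    have hcon : ∀ g : G, X.map (MulAut.conj g).toMonoidHom ≤ A := by
      intro g
      by_contra h
      exact hcon ⟨g, h⟩
    apply hA
    rw [eq_top_iff, ← hgen]
    exact iSup_le hcon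
  obtain ⟨g₀, hg₀⟩ := hex
  have hg₀N : X.map (MulAut.conj g₀).toMonoidHom ≤ N :=
    le_iSup (fun g : {g : G // ¬ X.map (MulAut.conj g).toMonoidHom ≤ A} =>
      X.map (MulAut.conj (g : G)).toMonoidHom) ⟨g₀, hg₀⟩
  have hall : ∀ g : G, X.map (MulAut.conj g).toMonoidHom ≤ N := by
    intro g
    have : X.map (MulAut.conj g).toMonoidHom
        = (X.map (MulAut.conj g₀).toMonoidHom).map (MulAut.conj (g * g₀⁻¹)).toMonoidHom := by
      rw [hconj]; simp
    rw [this]
    rintro _ ⟨n, hn, rfl⟩
    simp only [MulEquiv.coe_toMonoidHom, MulAut.conj_apply]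
    exact hNn.conj_mem n (hg₀N hn) _
  rw [eq_top_iff]
  calc (⊤ : Subgroup G) = ⨆ g : G, X.map (MulAut.conj g).toMonoidHom := hgen.symm
    _ ≤ N := iSup_le hall
    _ ≤ B := hNB

end Cfsg.Agent.S2958
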