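import Cfsg.Statements.S2959
import Cfsg.Agent.Lib.Helper56.CharP

set_option autoImplicit false
open Cfsg

namespace Cfsg.Agent.S2959

theorem result {G : Type*} [Group G] [Finite G] {p : ℕ} [Fact p.Prime] (hG : Subgroup.centralizer (Cfsg.pCore p G : Set G) ≤ Cfsg.pCore p G) (L : Subgroup G) (hL : Cfsg.pCore p G ≤ Subgroup.normalizer (L : Set G)) : Subgroup.centralizer (Cfsg.pCore p ↥L : Set ↥L) ≤ Cfsg.pCore p ↥L :=
  Cfsg.Agent.Lib.Helper56.charP_of_pCore_le_normalizer hG L hL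

end Cfsg.Agent.S2959
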