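import Cfsg.Statements.S2960
import Cfsg.Agent.Lib.Helper54.Coprime

set_option autoImplicit false
open Cfsg
open scoped commutatorElement

namespace Cfsg.Agent.S2960

open Cfsg.Agent.Lib.Helper54

theorem result {G : Type*} [Group G] [Finite G] {p : ℕ} [Fact p.Prime] (hG : Subgroup.centralizer (Cfsg.pCore p G : Set G) ≤ Cfsg.pCore p G) (T : Sylow p G) (Q : Subgroup G) (hQT : Q ≤ (T : Subgroup G)) (hQn : (T : Subgroup G) ≤ Subgroup.normalizer (Q : Set G)) (hC : (T : Subgroup G) ⊓ Subgroup.centralizer (Q : Set G) ≤ Q) : Subgroup.centralizer (Q : Set G) ≤ Q := by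
  classical
  set P : Subgroup G := Cfsg.pCore p G with hP
  have hPn : P.Normal := pCore_normal p G
  have hPp : IsPGroup p ↥P := pCore_isPGroup p G
  have hPT : P ≤ (T : Subgroup G) := pCore_le_sylow T
  set C : Subgroup G := Subgroup.centralizer (Q : Set G) with hCdef
  -- T normalizes C
  have hTC : ∀ t ∈ (T : Subgroup G), ∀ c ∈ C, t * c * t⁻¹ ∈ C := by
    intro t ht c hc
    rw [hCdef, Subgroup.mem_centralizer_iff]
    intro q hq
    have hq' : t⁻¹ * q * t⁻¹⁻¹ ∈ Q :=
      (Subgroup.mem_normalizer_iff.mp (hQn (Subgroup.inv_mem _ ht)) q).mp hq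
    have h1 := (Subgroup.mem_centralizer_iff.mp hc) _ hq'
    calc q * (t * c * t⁻¹) = t * ((t⁻¹ * q * t⁻¹⁻¹) * c) * t⁻¹ := by group
      _ = t * (c * (t⁻¹ * q * t⁻¹⁻¹)) * t⁻¹ := by rw [h1]
      _ = t * c * t⁻¹ * q := by group
  -- p'-elements of C are trivial
  have hx1 : ∀ x ∈ C, (orderOf x).Coprime p → x = 1 := by
    intro x hxC hxo
    let B : ℕ → Subgroup G := fun n => match n with
      | 0 => ⊥
      | 1 => P ⊓ Q
      | _ + 2 => P
    have hBP : ∀ i, B i ≤ P := by
      intro i
      rcases i with _ | _ | i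
      · exact bot_le
      · exact inf_le_left
      · exact le_rfl
    have hcomm : ∀ a ∈ P, ⁅a, x⁆ ∈ P := by
      intro a ha
      rw [commutatorElement_def]
      have : a * x * a⁻¹ * x⁻¹ = a * (x * a⁻¹ * x⁻¹) := by group
      rw [this]
      exact P.mul_mem ha (hPn.conj_mem _ (P.inv_mem ha) x)
    have hstep : ∀ i, ∀ a ∈ B (i + 1), ⁅a, x⁆ ∈ B i := by
      intro i
      rcases i with _ | _ | i
      · intro a ha
        have haQ : a ∈ Q := ha.2
        show ⁅a, x⁆ ∈ (⊥ : Subgroup G)
        rw [Subgroup.mem_bot, commutatorElement_eq_one_iff_commute]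
        exact (Subgroup.mem_centralizer_iff.mp hxC a haQ)
      · intro a ha
        have haP : a ∈ P := ha
        show ⁅a, x⁆ ∈ P ⊓ Q
        refine ⟨hcomm a haP, hC ⟨hPT (hcomm a haP), ?_⟩⟩
        rw [commutatorElement_def]
        exact C.mul_mem (hTC a (hPT haP) x hxC) (C.inv_mem hxC)
      · intro a ha
        exact hcomm a ha
    have key := commutator_eq_one_of_chain (p := p) x hxo B rfl hstep
      (by
        intro i a ha
        obtain ⟨k, hk⟩ := hPp ⟨a, hBP i ha⟩
        exact ⟨k, by simpa using congrArg Subtype.val hk⟩)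
    have hxcen : x ∈ Subgroup.centralizer (P : Set G) := by
      rw [Subgroup.mem_centralizer_iff]
      intro a ha
      have := key 2 a ha
      rw [commutatorElement_eq_one_iff_commute] at this
      exact this
    have hxP : x ∈ P := hG hxcen
    obtain ⟨k, hk⟩ := hPp ⟨x, hxP⟩
    have hk' : x ^ (p ^ k) = 1 := by simpa using congrArg Subtype.val hk
    exact eq_one_of_coprime_of_pow_eq_one hxo hk'
  have hCp : IsPGroup p ↥C := isPGroup_of_forall_coprime_eq_one C hx1
  have hTnC : (T : Subgroup G) ≤ Subgroup.normalizer (C : Set G) := by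
    intro t ht
    rw [Subgroup.mem_normalizer_iff]
    intro c
    constructor
    · exact hTC t ht c
    · intro h
      have := hTC t⁻¹ (Subgroup.inv_mem _ ht) _ h
      have h3 : t⁻¹ * (t * c * t⁻¹) * t⁻¹⁻¹ = c := by group
      rwa [h3] at this
  have hsup : IsPGroup p ↥((T : Subgroup G) ⊔ C) := IsPGroup.to_sup_of_normal_right' T.2 hCp hTnC
  have heq : (T : Subgroup G) ⊔ C = (T : Subgroup G) := T.is_maximal' hsup le_sup_left
  have hCT : C ≤ (T : Subgroup G) := by rw [← heq]; exact le_sup_right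
  intro c hc
  exact hC ⟨hCT hc, hc⟩

end Cfsg.Agent.S2960
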