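import Cfsg.Statements.S2961
import Cfsg.Agent.S2960
import Cfsg.Agent.Lib.Helper56.CharP

set_option autoImplicit false
open Cfsg
open scoped commutatorElement

namespace Cfsg.Agent.S2961

open Cfsg.Agent.Lib.Helper54 Cfsg.Agent.Lib.Helper56

theorem result {G : Type*} [Group G] [Finite G] {p : ℕ} [Fact p.Prime] (hG : Subgroup.centralizer (Cfsg.pCore p G : Set G) ≤ Cfsg.pCore p G) (T : Sylow p G) (Q : Subgroup G) (hQT : Q ≤ (T : Subgroup G)) (hQn : (T : Subgroup G) ≤ Subgroup.normalizer (Q : Set G)) (hC : (T : Subgroup G) ⊓ Subgroup.centralizer (Q : Set G) ≤ Q) (L : Subgroup G) (hQL : Q ≤ L) : Subgroup.centralizer (Cfsg.pCore p ↥L : Set ↥L) ≤ Cfsg.pCore p ↥L := by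
  classical
  have hCQ : Subgroup.centralizer (Q : Set G) ≤ Q := Cfsg.Agent.S2960.result hG T Q hQT hQn hC
  set P : Subgroup G := Cfsg.pCore p G with hP
  have hPn : P.Normal := pCore_normal p G
  have hPT : P ≤ (T : Subgroup G) := pCore_le_sylow T
  set R : Subgroup ↥L := Cfsg.pCore p ↥L with hR
  have hRn : R.Normal := pCore_normal p ↥L
  have hRp : IsPGroup p ↥R := pCore_isPGroup p ↥L
  set D : Subgroup ↥L := Subgroup.centralizer (R : Set ↥L) with hD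
  have hDn : D.Normal := Subgroup.normal_centralizer
  -- P normalizes Q
  have hPQ : ∀ y ∈ P, ∀ q ∈ Q, y * q * y⁻¹ ∈ Q := fun y hy q hq =>
    (Subgroup.mem_normalizer_iff.mp (hQn (hPT hy)) q).mp hq
  -- elements of D commute with elements of P ⊓ L
  have hDcomm : ∀ d ∈ D, ∀ a ∈ P ⊓ L, a * (d : G) = (d : G) * a := by
    intro d hd a ha
    have haR : (⟨a, ha.2⟩ : ↥L) ∈ R :=
      pCore_subgroupOf_le_pCore L (Subgroup.mem_subgroupOf.mpr ha.1)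
    exact congrArg Subtype.val ((Subgroup.mem_centralizer_iff.mp hd) _ haR)
  -- L normalizes P ⊓ L
  have hLP1 : ∀ l ∈ L, ∀ a ∈ P ⊓ L, l * a * l⁻¹ ∈ P ⊓ L := fun l hl a ha =>
    ⟨hPn.conj_mem a ha.1 l, L.mul_mem (L.mul_mem hl ha.2) (L.inv_mem hl)⟩
  -- the subgroup M₁
  let M₁ : Subgroup ↥L :=
    { carrier := {g | g ∈ D ∧ ∀ y ∈ P, ⁅y, (g : G)⁆ ∈ P ⊓ L}
      mul_mem' := by
        rintro g h ⟨hg, hg'⟩ ⟨hh, hh'⟩
        refine ⟨D.mul_mem hg hh, fun y hy => ?_⟩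
        have : ⁅y, ((g * h : ↥L) : G)⁆ = ⁅y, (g : G)⁆ * ((g : G) * ⁅y, (h : G)⁆ * (g : G)⁻¹) := by
          simp only [commutatorElement_def, Subgroup.coe_mul]; group
        rw [this]
        exact Subgroup.mul_mem _ (hg' y hy) (hLP1 _ g.2 _ (hh' y hy))
      one_mem' := ⟨D.one_mem, fun y _ => by simp [commutatorElement_def]⟩
      inv_mem' := by
        rintro g ⟨hg, hg'⟩
        refine ⟨D.inv_mem hg, fun y hy => ?_⟩
        have : ⁅y, ((g⁻¹ : ↥L) : G)⁆ = (g : G)⁻¹ * ⁅y, (g : G)⁆⁻¹ * (g : G)⁻¹⁻¹ := by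
          simp only [commutatorElement_def, Subgroup.coe_inv]; group
        rw [this]
        exact hLP1 _ (L.inv_mem g.2) _ (Subgroup.inv_mem _ (hg' y hy)) }
  have hM₁mem : ∀ g : ↥L, g ∈ M₁ ↔ (g ∈ D ∧ ∀ y ∈ P, ⁅y, (g : G)⁆ ∈ P ⊓ L) := fun g => Iff.rfl
  have hM₁n : M₁.Normal := by
    constructor
    rintro g ⟨hg, hg'⟩ l
    refine ⟨hDn.conj_mem g hg l, fun y hy => ?_⟩
    have : ⁅y, ((l * g * l⁻¹ : ↥L) : G)⁆
        = (l : G) * ⁅(l : G)⁻¹ * y * (l : G)⁻¹⁻¹, (g : G)⁆ * (l : G)⁻¹ := by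
      simp only [commutatorElement_def, Subgroup.coe_mul, Subgroup.coe_inv]; group
    rw [this]
    exact hLP1 _ l.2 _ (hg' _ (hPn.conj_mem y hy _))
  have hM₁p : IsPGroup p ↥M₁ := by
    apply isPGroup_of_forall_coprime_eq_one
    rintro g ⟨hg, hg'⟩ hgo
    have hx : (g : G) = 1 := by
      apply eq_one_of_stabilizes hG (P ⊓ L) (g : G)
      · rw [Subgroup.orderOf_coe]; exact hgo
      · intro a ha
        exact hDcomm g hg a ha.2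
      · exact hg'
    exact Subtype.ext hx
  have hM₁R : M₁ ≤ R := le_pCore hM₁n hM₁p
  -- Hall–Witt: commutators of Q with D lie in M₁
  have hHW : ∀ q : ↥L, (q : G) ∈ Q → ∀ e ∈ D, ⁅q, e⁆ ∈ M₁ := by
    intro q hq e he
    refine ⟨?_, fun y hy => ?_⟩
    · rw [commutatorElement_def]
      exact D.mul_mem (hDn.conj_mem e he q) (D.inv_mem he)
    · have hcoe : ((⁅q, e⁆ : ↥L) : G) = ⁅(q : G), (e : G)⁆ := by
        simp [commutatorElement_def]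
      rw [hcoe]
      set q' : G := (q : G) with hq'
      set e' : G := (e : G) with he'
      -- c₁ = ⁅y⁻¹, q'⁻¹⁆ ∈ P ⊓ L
      have hc1 : ⁅y⁻¹, q'⁻¹⁆ ∈ P ⊓ L := by
        constructor
        · rw [commutatorElement_def]
          have : y⁻¹ * q'⁻¹ * y⁻¹⁻¹ * q'⁻¹⁻¹ = y⁻¹ * (q'⁻¹ * y * q'⁻¹⁻¹) := by group
          rw [this]
          exact P.mul_mem (P.inv_mem hy) (hPn.conj_mem y hy _)
        · rw [commutatorElement_def]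
          have h1 : y⁻¹ * q'⁻¹ * y⁻¹⁻¹ ∈ Q := hPQ _ (P.inv_mem hy) _ (Q.inv_mem hq)
          exact hQL (Q.mul_mem h1 (Q.inv_mem (Q.inv_mem hq)))
      have hec1 : ⁅e', ⁅y⁻¹, q'⁻¹⁆⁆ = 1 := by
        rw [commutatorElement_eq_one_iff_commute]
        exact (hDcomm e he _ hc1).symm
      -- c₂ = ⁅e'⁻¹, y⁆ ∈ P
      have hc2 : ⁅e'⁻¹, y⁆ ∈ P := by
        rw [commutatorElement_def]
        have : e'⁻¹ * y * e'⁻¹⁻¹ * y⁻¹ = (e'⁻¹ * y * e'⁻¹⁻¹) * y⁻¹ := by group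
        rw [this]
        exact P.mul_mem (hPn.conj_mem y hy _) (P.inv_mem hy)
      -- c₃ = ⁅q'⁻¹, c₂⁆ ∈ P ⊓ L
      have hc3 : ⁅q'⁻¹, ⁅e'⁻¹, y⁆⁆ ∈ P ⊓ L := by
        constructor
        · rw [commutatorElement_def]
          have : q'⁻¹ * ⁅e'⁻¹, y⁆ * q'⁻¹⁻¹ * ⁅e'⁻¹, y⁆⁻¹
              = (q'⁻¹ * ⁅e'⁻¹, y⁆ * q'⁻¹⁻¹) * ⁅e'⁻¹, y⁆⁻¹ := by group
          rw [this]
          exact P.mul_mem (hPn.conj_mem _ hc2 _) (P.inv_mem hc2)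
        · rw [commutatorElement_def]
          have h1 : ⁅e'⁻¹, y⁆ * q'⁻¹⁻¹ * ⁅e'⁻¹, y⁆⁻¹ ∈ Q := hPQ _ hc2 _ (Q.inv_mem (Q.inv_mem hq))
          have : q'⁻¹ * ⁅e'⁻¹, y⁆ * q'⁻¹⁻¹ * ⁅e'⁻¹, y⁆⁻¹
              = q'⁻¹ * (⁅e'⁻¹, y⁆ * q'⁻¹⁻¹ * ⁅e'⁻¹, y⁆⁻¹) := by group
          rw [this]
          exact hQL (Q.mul_mem (Q.inv_mem hq) h1)
      have hHWid : ⁅y, ⁅q', e'⁆⁆ = q' * y * ⁅e', ⁅y⁻¹, q'⁻¹⁆⁆⁻¹ * y⁻¹ * e' *
          ⁅q'⁻¹, ⁅e'⁻¹, y⁆⁆⁻¹ * e'⁻¹ * q'⁻¹ := by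
        simp only [commutatorElement_def]; group
      rw [hHWid, hec1]
      have hc3' : ⁅q'⁻¹, ⁅e'⁻¹, y⁆⁆⁻¹ ∈ P ⊓ L := Subgroup.inv_mem _ hc3
      have hcomm3 := hDcomm e he _ hc3'
      have : q' * y * (1 : G)⁻¹ * y⁻¹ * e' * ⁅q'⁻¹, ⁅e'⁻¹, y⁆⁆⁻¹ * e'⁻¹ * q'⁻¹
          = q' * (e' * ⁅q'⁻¹, ⁅e'⁻¹, y⁆⁆⁻¹) * e'⁻¹ * q'⁻¹ := by group
      rw [this, ← hcomm3]
      have : q' * (⁅q'⁻¹, ⁅e'⁻¹, y⁆⁆⁻¹ * e') * e'⁻¹ * q'⁻¹
          = q' * ⁅q'⁻¹, ⁅e'⁻¹, y⁆⁆⁻¹ * q'⁻¹ := by group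
      rw [this]
      exact hLP1 _ q.2 _ hc3'
  -- conclude
  apply le_pCore hDn
  apply isPGroup_of_forall_coprime_eq_one
  intro d hd hdo
  have hxo : (orderOf (d : G)).Coprime p := by rw [Subgroup.orderOf_coe]; exact hdo
  have hxQ : (d : G) ∈ Subgroup.centralizer (Q : Set G) := by
    rw [Subgroup.mem_centralizer_iff]
    intro q hq
    have hmem : ⁅(⟨q, hQL hq⟩ : ↥L), d⁆ ∈ R := hM₁R (hHW ⟨q, hQL hq⟩ hq d hd)
    have hcoe : ((⁅(⟨q, hQL hq⟩ : ↥L), d⁆ : ↥L) : G) = ⁅q, (d : G)⁆ := by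
      simp [commutatorElement_def]
    have hcm : Commute ⁅q, (d : G)⁆ (d : G) := by
      have := (Subgroup.mem_centralizer_iff.mp hd) _ hmem
      have h2 := congrArg Subtype.val this
      rw [Subgroup.coe_mul, Subgroup.coe_mul, hcoe] at h2
      exact h2
    have hpk : ∃ k : ℕ, ⁅q, (d : G)⁆ ^ (p ^ k) = 1 := by
      obtain ⟨k, hk⟩ := hRp ⟨_, hmem⟩
      refine ⟨k, ?_⟩
      have h2 := congrArg Subtype.val (congrArg Subtype.val hk)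
      simpa [hcoe] using h2
    have h1 := commutatorElement_eq_one_of_coprime (p := p) q (d : G) hcm hpk hxo
    rw [commutatorElement_eq_one_iff_commute] at h1
    exact h1
  have hxT : (d : G) ∈ (T : Subgroup G) := hQT (hCQ hxQ)
  obtain ⟨k, hk⟩ := T.2 ⟨(d : G), hxT⟩
  have hk' : (d : G) ^ (p ^ k) = 1 := by simpa using congrArg Subtype.val hk
  exact Subtype.ext (eq_one_of_coprime_of_pow_eq_one hxo hk')

end Cfsg.Agent.S2961
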