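import Cfsg.Statements.S2963
import Mathlib.GroupTheory.Perm.MaximalSubgroups
import Mathlib.GroupTheory.PGroup
import Mathlib.GroupTheory.Sylow

set_option autoImplicit false
open Cfsg

namespace Cfsg.Agent.S2963

open scoped Pointwise

/-- Let n be odd. If the symmetric group of degree n is a minimal parabolic group for the prime 2, that is, a Sylow 2-subgroup is not normal and lies in exactly one maximal subgroup, then n = 2^m + 1 for some natural number m. -/
theorem result (n : ℕ) (hn : Odd n) (h : Cfsg.IsPMinimal 2 (Equiv.Perm (Fin n))) : ∃ m : ℕ, n = 2 ^ m + 1 := by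
  classical
  obtain ⟨S⟩ : Nonempty (Sylow 2 (Equiv.Perm (Fin n))) := inferInstance
  obtain ⟨hnn, M, ⟨hMco, hSM⟩, hMuniq⟩ := h S
  obtain ⟨k, hk⟩ := hn
  -- n ≠ 1
  have hk0 : k ≠ 0 := by
    rintro rfl
    apply hnn
    simp only [Nat.mul_zero, Nat.zero_add] at hk
    subst hk
    have : Subsingleton (Equiv.Perm (Fin 1)) := inferInstance
    exact ⟨fun a ha b => by rw [Subsingleton.elim (b * a * b⁻¹) a]; exact ha⟩
  have hcardn : Nat.card (Fin n) = n := by simp
  have hnotdvd : ∀ j : ℕ, Nat.card (Fin n) ≠ 2 * j := by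
    intro j; rw [hcardn]; omega
  -- fixed point
  have hfix : (MulAction.fixedPoints ↥(S : Subgroup (Equiv.Perm (Fin n))) (Fin n)).Nonempty := by
    apply S.2.nonempty_fixed_point_of_prime_not_dvd_card (Fin n)
    rw [hcardn]; omega
  obtain ⟨a, ha⟩ := hfix
  have ha' : ∀ σ ∈ (S : Subgroup (Equiv.Perm (Fin n))), σ a = a := by
    intro σ hσ
    exact ha ⟨σ, hσ⟩
  -- existence of c ≠ a
  have hc : ∃ c : Fin n, c ≠ a := by
    have h2 : 2 ≤ n := by omega
    by_cases h0 : (a : ℕ) = 0
    · exact ⟨⟨1, by omega⟩, fun h => by rw [← h] at h0; simp at h0⟩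
    · exact ⟨⟨0, by omega⟩, fun h => by rw [← h] at h0; simp at h0⟩
  obtain ⟨c, hca⟩ := hc
  -- stabilizer of {a}
  have hco1 : IsCoatom (MulAction.stabilizer (Equiv.Perm (Fin n)) ({a} : Set (Fin n))) := by
    apply Equiv.Perm.isCoatom_stabilizer (Set.singleton_nonempty a)
    · exact ⟨c, by simpa using hca⟩
    · exact hnotdvd _
  have hS1 : (S : Subgroup (Equiv.Perm (Fin n))) ≤
      MulAction.stabilizer (Equiv.Perm (Fin n)) ({a} : Set (Fin n)) := by
    intro σ hσ
    rw [MulAction.mem_stabilizer_set' (Set.finite_singleton a)]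
    intro b hb
    rw [Set.mem_singleton_iff] at hb ⊢
    subst hb
    exact ha' σ hσ
  have hM1 := hMuniq _ ⟨hco1, hS1⟩
  -- the orbit of c
  set O : Set (Fin n) := MulAction.orbit ↥(S : Subgroup (Equiv.Perm (Fin n))) c with hO
  have haO : a ∉ O := by
    intro haO
    obtain ⟨g, hg⟩ := haO
    apply hca
    have h1 : (g : Equiv.Perm (Fin n)) c = a := hg
    have h2 : (g : Equiv.Perm (Fin n)) a = a := ha' g g.2
    exact (g : Equiv.Perm (Fin n)).injective (h1.trans h2.symm)
  have hcO : c ∈ O := MulAction.mem_orbit_self c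
  have hco2 : IsCoatom (MulAction.stabilizer (Equiv.Perm (Fin n)) O) := by
    apply Equiv.Perm.isCoatom_stabilizer ⟨c, hcO⟩ ⟨a, haO⟩
    exact hnotdvd _
  have hS2 : (S : Subgroup (Equiv.Perm (Fin n))) ≤
      MulAction.stabilizer (Equiv.Perm (Fin n)) O := by
    intro σ hσ
    rw [MulAction.mem_stabilizer_set' (Set.toFinite O)]
    intro b hb
    obtain ⟨g, rfl⟩ := hb
    refine ⟨⟨σ, hσ⟩ * g, ?_⟩
    simp only [mul_smul]
    rfl
  have hM2 := hMuniq _ ⟨hco2, hS2⟩
  -- every point is a or in O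
  have hall : ∀ d : Fin n, d = a ∨ d ∈ O := by
    intro d
    by_contra hd
    rw [not_or] at hd
    obtain ⟨hda, hdO⟩ := hd
    have hτ : Equiv.swap a d ∈ MulAction.stabilizer (Equiv.Perm (Fin n)) O := by
      rw [MulAction.mem_stabilizer_set' (Set.toFinite O)]
      intro b hb
      have hba : b ≠ a := fun h => haO (h ▸ hb)
      have hbd : b ≠ d := fun h => hdO (h ▸ hb)
      show Equiv.swap a d b ∈ O
      rw [Equiv.swap_apply_of_ne_of_ne hba hbd]
      exact hb
    rw [hM2, ← hM1, MulAction.mem_stabilizer_set' (Set.finite_singleton a)] at hτ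
    have := hτ (Set.mem_singleton a)
    rw [Set.mem_singleton_iff] at this
    have h2 : Equiv.swap a d a = d := Equiv.swap_apply_left a d
    have h3 : Equiv.swap a d a = a := this
    exact hda (h2.symm.trans h3)
  -- count
  have huniv : (Set.univ : Set (Fin n)) = insert a O := by
    ext d
    simp only [Set.mem_univ, Set.mem_insert_iff, true_iff]
    exact hall d
  have hcard : n = O.ncard + 1 := by
    have h1 : (Set.univ : Set (Fin n)).ncard = n := by
      rw [Set.ncard_univ, hcardn]
    have h2 : (Set.univ : Set (Fin n)).ncard = O.ncard + 1 := by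
      rw [huniv, Set.ncard_insert_of_notMem haO (Set.toFinite O)]
    omega
  obtain ⟨j, hj⟩ := S.2.card_orbit (α := Fin n) c
  refine ⟨j, ?_⟩
  have h3 : Nat.card ↥O = O.ncard := Nat.card_coe_set_eq O
  have hj' : Nat.card ↥O = 2 ^ j := hj
  rw [h3] at hj'
  rw [hcard, hj']

end Cfsg.Agent.S2963
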