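import Cfsg.Statements.S2968
import Cfsg.Agent.Lib.Helper57.Isolated

set_option autoImplicit false
open Cfsg

namespace Cfsg.Agent.S2968

open Cfsg.Agent.Lib.Helper57

/-- Let G be a finite group, p a prime, P a Sylow p-subgroup of G and x ∈ P an element of p-power order which is isolated in G (the only conjugate of x commuting with x is x itself). Then x lies in the centre of P, and the subgroup generated by x is both strongly closed and weakly closed in P with respect to G. -/
theorem result {G : Type*} [Group G] [Finite G] {p : ℕ} [Fact p.Prime] (P : Sylow p G) (x : G) (hxP : x ∈ (P : Subgroup G)) (hx : ∃ k : ℕ, orderOf x = p ^ k) (hiso : Cfsg.IsIsolated x) : x ∈ (P : Subgroup G) ⊓ Subgroup.centralizer ((P : Subgroup G) : Set G) ∧ Cfsg.IsStronglyClosed (Subgroup.zpowers x) (P : Subgroup G) ∧ Cfsg.IsWeaklyClosed (Subgroup.zpowers x) (P : Subgroup G) := by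
  have hcomm : ∀ r ∈ (P : Subgroup G), Commute x r := fun r hr =>
    isolated_commute hiso P.isPGroup' hxP hr
  have hzP : Subgroup.zpowers x ≤ (P : Subgroup G) := by
    rw [Subgroup.zpowers_le]; exact hxP
  refine ⟨?_, ⟨hzP, ?_⟩, ⟨hzP, ?_⟩⟩
  · refine Subgroup.mem_inf.mpr ⟨hxP, ?_⟩
    rw [Subgroup.mem_centralizer_iff]
    intro r hr
    exact (hcomm r hr).symm.eq
  · intro y hy g hg
    -- z = g y g⁻¹ ∈ P; show z = y
    obtain ⟨i, rfl⟩ := Subgroup.mem_zpowers_iff.mp hy
    set z := g * x ^ i * g⁻¹ with hz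
    have hxz : Commute x z := hcomm z hg
    have hzpow : z = (g * x * g⁻¹) ^ i := by
      rw [hz, conj_zpow]
    have hx'z : Commute (g * x * g⁻¹) z := by
      rw [hzpow]; exact (Commute.refl _).zpow_right i
    have hxC : x ∈ Subgroup.centralizer ({z} : Set G) := by
      rw [Subgroup.mem_centralizer_iff]
      intro w hw
      rw [Set.mem_singleton_iff] at hw
      subst hw
      exact hxz.symm.eq
    have hx'C : g * x * g⁻¹ ∈ Subgroup.centralizer ({z} : Set G) := by
      rw [Subgroup.mem_centralizer_iff]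
      intro w hw
      rw [Set.mem_singleton_iff] at hw
      subst hw
      exact hx'z.symm.eq
    obtain ⟨c, hc, hcx⟩ := isolated_conj_eq hx hiso _ hxC g hx'C
    have hcz : Commute z c := by
      rw [Subgroup.mem_centralizer_iff] at hc
      exact hc z rfl
    have e1 : c * z * c⁻¹ = z := by
      rw [← hcz.eq, mul_assoc, mul_inv_cancel, mul_one]
    have e2 : c * z * c⁻¹ = x ^ i := by
      rw [hzpow, ← conj_zpow, hcx]
    rw [← e1, e2]
    exact Subgroup.zpow_mem_zpowers x i
  · intro g hg
    have h1 : g * x * g⁻¹ ∈ (P : Subgroup G) := by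
      apply hg
      exact ⟨x, Subgroup.mem_zpowers x, by simp⟩
    have h2 := hiso g (hcomm _ h1)
    rw [MonoidHom.map_zpowers]
    simp only [MulEquiv.coe_toMonoidHom, MulAut.conj_apply]
    rw [h2]

end Cfsg.Agent.S2968
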