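import Cfsg.Statements.S2972
import Cfsg.Agent.Lib.Helper57.Isolated
import Cfsg.Agent.Lib.Helper57.PPrimeCore
import Cfsg.Agent.Lib.Helper29.PCore
import Cfsg.Agent.Lib.Helper15.PSolv
import Cfsg.Agent.Lib.Helper42.PPrimeCore
import Cfsg.Agent.Lib.Helper13.MinNormal
import Cfsg.Agent.Lib.Helper13.Basic

set_option autoImplicit false
open Cfsg

namespace Cfsg.Agent.S2972

open Cfsg.Agent.Lib.Helper57
open scoped commutatorElement

/-- a central element is central modulo anything -/
theorem inZStar_of_central {G : Type*} [Group G] (p : ℕ) (x : G)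
    (h : ∀ g : G, g * x * g⁻¹ = x) : Cfsg.InZStar p x := by
  intro g
  rw [h g, mul_inv_cancel]
  exact Subgroup.one_mem _

/-- an isolated element all of whose conjugates commute with it is central -/
theorem central_of_isolated {G : Type*} [Group G] (x : G) (hiso : Cfsg.IsIsolated x)
    (h : ∀ g : G, Commute x (g * x * g⁻¹)) (g : G) : g * x * g⁻¹ = x :=
  hiso g (h g)

/-- step 1: the `p'`-core of a minimal counterexample is trivial -/
theorem core_eq_bot {G : Type*} [Group G] [Finite G] {p : ℕ} [Fact p.Prime] (x : G)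
    (hnz : ¬ Cfsg.InZStar p x)
    (hquot : ∀ (N : Subgroup G) [N.Normal], N ≠ ⊥ → Cfsg.InZStar p (QuotientGroup.mk x : G ⧸ N)) :
    Cfsg.pPrimeCore p G = ⊥ := by
  by_contra h
  apply hnz
  intro g
  have h1 := hquot (Cfsg.pPrimeCore p G) h (QuotientGroup.mk g)
  rw [Cfsg.Agent.Lib.Helper29.pPrimeCore_quotient_eq_bot, Subgroup.mem_bot] at h1
  have h2 : ((g * x * g⁻¹ * x⁻¹ : G) : G ⧸ Cfsg.pPrimeCore p G) = 1 := by
    rw [← h1]; simp
  exact (QuotientGroup.eq_one_iff _).mp h2

/-- a subgroup of order prime to `p` of a normal subgroup `N`, normalized by `N`, is trivial when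
the `p'`-core of the group is trivial -/
theorem eq_bot_of_normalized {G : Type*} [Group G] [Finite G] {p : ℕ}
    (hcore : Cfsg.pPrimeCore p G = ⊥) (N : Subgroup G) [N.Normal] (D : Subgroup G) (hDN : D ≤ N)
    (hnorm : N ≤ Subgroup.normalizer (D : Set G)) (hcop : (Nat.card D).Coprime p) : D = ⊥ := by
  have h1 : Cfsg.pPrimeCore p ↥N = ⊥ := Cfsg.Agent.Lib.Helper15.pPrimeCore_eq_bot_of_normal p N hcore
  have hn : (D.subgroupOf N).Normal := by
    constructor
    intro n hn g
    rw [Subgroup.mem_subgroupOf] at hn ⊢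
    have := (Subgroup.mem_normalizer_iff.mp (hnorm g.2) (n : G)).mp hn
    simpa using this
  have hc : (Nat.card (D.subgroupOf N)).Coprime p := by
    rw [Nat.card_congr (Subgroup.subgroupOfEquivOfLe hDN).toEquiv]
    exact hcop
  have h2 : D.subgroupOf N ≤ Cfsg.pPrimeCore p ↥N := le_pPrimeCore' _ hc
  rw [h1, le_bot_iff, Subgroup.subgroupOf_eq_bot] at h2
  exact (disjoint_of_le_iff_left_eq_bot hDN).mp h2

/-- step 2: the normal closure of `x` is everything -/
theorem normalClosure_eq_top {G : Type*} [Group G] [Finite G] {p : ℕ} [Fact p.Prime] (x : G)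
    (hiso : Cfsg.IsIsolated x) (hnz : ¬ Cfsg.InZStar p x)
    (hmin : ∀ (H : Subgroup G) (hxH : x ∈ H), H ≠ ⊤ → Cfsg.InZStar p (⟨x, hxH⟩ : ↥H))
    (hcore : Cfsg.pPrimeCore p G = ⊥) : Subgroup.normalClosure ({x} : Set G) = ⊤ := by
  by_contra hne
  have hxH : x ∈ Subgroup.normalClosure ({x} : Set G) := Subgroup.subset_normalClosure rfl
  have h1 := hmin _ hxH hne
  have h2 : Cfsg.pPrimeCore p ↥(Subgroup.normalClosure ({x} : Set G)) = ⊥ :=
    Cfsg.Agent.Lib.Helper15.pPrimeCore_eq_bot_of_normal p _ hcore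
  apply hnz
  apply inZStar_of_central
  apply central_of_isolated x hiso
  intro g
  have hg : g * x * g⁻¹ ∈ Subgroup.normalClosure ({x} : Set G) :=
    Subgroup.normalClosure_normal.conj_mem x hxH g
  have h3 := h1 ⟨g * x * g⁻¹, hg⟩
  rw [h2, Subgroup.mem_bot] at h3
  have h4 := congrArg Subtype.val h3
  simp only [Subgroup.coe_mul, Subgroup.coe_inv, Subgroup.coe_one] at h4
  -- h4 : (g x g⁻¹) x (g x g⁻¹)⁻¹ x⁻¹ = 1
  show x * (g * x * g⁻¹) = (g * x * g⁻¹) * x
  have h5 : (g * x * g⁻¹) * x = (g * x * g⁻¹ * x * (g * x * g⁻¹)⁻¹ * x⁻¹) * x * (g * x * g⁻¹) := by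
    group
  rw [h5, h4, one_mul]

/-- step 3: if `N ⊔ ⟨x⟩` is proper then `x` centralizes the normal subgroup `N` -/
theorem commute_of_sup_ne_top {G : Type*} [Group G] [Finite G] {p : ℕ} [Fact p.Prime] (x : G)
    (hmin : ∀ (H : Subgroup G) (hxH : x ∈ H), H ≠ ⊤ → Cfsg.InZStar p (⟨x, hxH⟩ : ↥H))
    (hcore : Cfsg.pPrimeCore p G = ⊥) (N : Subgroup G) [hN : N.Normal]
    (hne : N ⊔ Subgroup.zpowers x ≠ ⊤) : ∀ n ∈ N, n * x = x * n := by
  intro n hn
  have hxH : x ∈ N ⊔ Subgroup.zpowers x := Subgroup.mem_sup_right (Subgroup.mem_zpowers x)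
  have hnH : n ∈ N ⊔ Subgroup.zpowers x := Subgroup.mem_sup_left hn
  have h1 := hmin _ hxH hne ⟨n, hnH⟩
  -- the subgroup D = N ⊓ image of the core of H
  set H := N ⊔ Subgroup.zpowers x with hH
  set D := N ⊓ (Cfsg.pPrimeCore p ↥H).map H.subtype with hD
  have hDN : D ≤ N := inf_le_left
  have hcn : (Cfsg.pPrimeCore p ↥H).Normal := pPrimeCore_normal' p ↥H
  have hnorm : N ≤ Subgroup.normalizer (D : Set G) := by
    intro m hm
    have hmH : m ∈ H := Subgroup.mem_sup_left hm
    rw [Subgroup.mem_normalizer_iff]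
    intro d
    have key : ∀ (m : G) (hmN : m ∈ N) (hmH : m ∈ H) (d : G), d ∈ D → m * d * m⁻¹ ∈ D := by
      intro m hmN hmH d hd
      obtain ⟨hdN, hdC⟩ := Subgroup.mem_inf.mp hd
      refine Subgroup.mem_inf.mpr ⟨hN.conj_mem d hdN m, ?_⟩
      obtain ⟨d', hd', rfl⟩ := hdC
      refine ⟨⟨m, hmH⟩ * d' * ⟨m, hmH⟩⁻¹, hcn.conj_mem d' hd' ⟨m, hmH⟩, ?_⟩
      simp
    constructor
    · exact key m hm hmH d
    · intro hd
      have := key m⁻¹ (N.inv_mem hm) (H.inv_mem hmH) _ hd
      have e : m⁻¹ * (m * d * m⁻¹) * m⁻¹⁻¹ = d := by group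
      rwa [e] at this
  have hcop : (Nat.card D).Coprime p := by
    have h2 : D ≤ (Cfsg.pPrimeCore p ↥H).map H.subtype := inf_le_right
    have h3 := Subgroup.card_dvd_of_le h2
    rw [Subgroup.card_map_of_injective H.subtype_injective] at h3
    exact Nat.Coprime.coprime_dvd_left h3 (pPrimeCore_card_coprime' p ↥H)
  have hD0 : D = ⊥ := eq_bot_of_normalized hcore N D hDN hnorm hcop
  have hmem : n * x * n⁻¹ * x⁻¹ ∈ D := by
    refine Subgroup.mem_inf.mpr ⟨?_, ?_⟩
    · have : x * n⁻¹ * x⁻¹ ∈ N := hN.conj_mem _ (N.inv_mem hn) x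
      have := N.mul_mem hn this
      have e : n * (x * n⁻¹ * x⁻¹) = n * x * n⁻¹ * x⁻¹ := by group
      rwa [e] at this
    · exact ⟨_, h1, by simp⟩
  rw [hD0, Subgroup.mem_bot] at hmem
  calc n * x = (n * x * n⁻¹ * x⁻¹) * x * n := by group
    _ = x * n := by rw [hmem, one_mul]

/-- if `x` centralizes the normal subgroup `N` and the normal closure of `x` is everything
then `N` is central -/
theorem le_center_of_commute {G : Type*} [Group G] (x : G)
    (hcl : Subgroup.normalClosure ({x} : Set G) = ⊤) (N : Subgroup G) [hN : N.Normal]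
    (h : ∀ n ∈ N, n * x = x * n) : N ≤ Subgroup.center G := by
  have h1 : Subgroup.normalClosure ({x} : Set G) ≤ Subgroup.centralizer (N : Set G) := by
    apply Subgroup.normalClosure_le_normal
    intro y hy
    rw [Set.mem_singleton_iff] at hy
    rw [hy]
    show x ∈ Subgroup.centralizer (N : Set G)
    rw [Subgroup.mem_centralizer_iff]
    exact h
  rw [hcl] at h1
  intro n hn
  rw [Subgroup.mem_center_iff]
  intro g
  have := Subgroup.mem_centralizer_iff.mp (h1 (Subgroup.mem_top g)) n hn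
  exact this.symm


theorem eq_one_of_pow_prime_pow {X : Type*} [Group X] {p k : ℕ} (C : Subgroup X)
    (hC : (Nat.card C).Coprime p) {c : X} (hc : c ∈ C) (h : c ^ (p ^ k) = 1) : c = 1 := by
  have h1 : orderOf c ∣ p ^ k := orderOf_dvd_of_pow_eq_one h
  have h2 : orderOf c ∣ Nat.card C := Subgroup.orderOf_dvd_natCard C hc
  have h3 : Nat.Coprime (Nat.card C) (p ^ k) := Nat.Coprime.pow_right k hC
  have h4 : orderOf c ∣ 1 := by
    have := Nat.dvd_gcd h2 h1
    rwa [h3] at this
  exact orderOf_eq_one_iff.mp (Nat.dvd_one.mp h4)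

/-- the `p'`-core of the quotient by a central subgroup is trivial when the `p'`-core is -/
theorem core_quotient_central_eq_bot {G : Type*} [Group G] [Finite G] {p : ℕ} [Fact p.Prime]
    (hcore : Cfsg.pPrimeCore p G = ⊥) (N : Subgroup G) [hN : N.Normal]
    (hNc : N ≤ Subgroup.center G) : Cfsg.pPrimeCore p (G ⧸ N) = ⊥ := by
  have hCn : (Cfsg.pPrimeCore p (G ⧸ N)).Normal := pPrimeCore_normal' p _
  have hCc : (Nat.card (Cfsg.pPrimeCore p (G ⧸ N))).Coprime p := pPrimeCore_card_coprime' p _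
  set K := (Cfsg.pPrimeCore p (G ⧸ N)).comap (QuotientGroup.mk' N) with hK
  have hKn : K.Normal := hCn.comap _
  have hcK : Cfsg.pPrimeCore p ↥K = ⊥ :=
    Cfsg.Agent.Lib.Helper15.pPrimeCore_eq_bot_of_normal p K hcore
  let T : Sylow p ↥K := default
  have hT : (T : Subgroup ↥K) ≤ Subgroup.center ↥K := by
    intro t ht
    obtain ⟨k, hk⟩ := T.isPGroup' ⟨t, ht⟩
    have hk' : (t : G) ^ (p ^ k) = 1 := by
      have := congrArg (fun z : (T : Subgroup ↥K) => ((z : ↥K) : G)) hk
      simpa using this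
    have hmem : (QuotientGroup.mk' N) (t : G) ∈ Cfsg.pPrimeCore p (G ⧸ N) := t.2
    have h1 : (QuotientGroup.mk' N) (t : G) = 1 := by
      apply eq_one_of_pow_prime_pow _ hCc hmem (k := k)
      rw [← map_pow, hk', map_one]
    have h2 : (t : G) ∈ N := (QuotientGroup.eq_one_iff _).mp h1
    have h3 := hNc h2
    rw [Subgroup.mem_center_iff]
    intro g
    apply Subtype.ext
    have := Subgroup.mem_center_iff.mp h3 (g : G)
    simpa using this
  have hB := Cfsg.Agent.Lib.Helper42.pPrimeCore_sup_central_sylow p T hT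
  rw [hcK, sup_bot_eq] at hB
  rw [eq_bot_iff]
  intro c hc
  rw [Subgroup.mem_bot]
  obtain ⟨g, rfl⟩ := QuotientGroup.mk'_surjective N c
  have hgK : g ∈ K := hc
  have hgT : (⟨g, hgK⟩ : ↥K) ∈ (T : Subgroup ↥K) := by rw [hB]; exact Subgroup.mem_top _
  obtain ⟨k, hk⟩ := T.isPGroup' ⟨⟨g, hgK⟩, hgT⟩
  have hk' : g ^ (p ^ k) = 1 := by
    have := congrArg (fun z : (T : Subgroup ↥K) => ((z : ↥K) : G)) hk
    simpa using this
  apply eq_one_of_pow_prime_pow _ hCc hc (k := k)
  rw [← map_pow, hk', map_one]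

/-- a nontrivial central normal subgroup cannot exist in a minimal counterexample -/
theorem false_of_central {G : Type*} [Group G] [Finite G] {p : ℕ} [Fact p.Prime] (x : G)
    (hiso : Cfsg.IsIsolated x) (hnz : ¬ Cfsg.InZStar p x)
    (hquot : ∀ (N : Subgroup G) [N.Normal], N ≠ ⊥ → Cfsg.InZStar p (QuotientGroup.mk x : G ⧸ N))
    (hcore : Cfsg.pPrimeCore p G = ⊥) (N : Subgroup G) [hN : N.Normal] (hN1 : N ≠ ⊥)
    (hNc : N ≤ Subgroup.center G) : False := by
  have hC := core_quotient_central_eq_bot hcore N hNc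
  apply hnz
  apply inZStar_of_central
  apply central_of_isolated x hiso
  intro g
  have h1 := hquot N hN1 (QuotientGroup.mk g)
  rw [hC, Subgroup.mem_bot] at h1
  have h2 : ((g * x * g⁻¹ * x⁻¹ : G) : G ⧸ N) = 1 := by
    rw [← h1]; simp
  have h3 : g * x * g⁻¹ * x⁻¹ ∈ N := (QuotientGroup.eq_one_iff _).mp h2
  have h4 := Subgroup.mem_center_iff.mp (hNc h3) x
  -- h4 : x * z = z * x
  show x * (g * x * g⁻¹) = (g * x * g⁻¹) * x
  calc x * (g * x * g⁻¹) = x * (g * x * g⁻¹ * x⁻¹) * x := by group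
    _ = (g * x * g⁻¹ * x⁻¹) * x * x := by rw [h4]
    _ = (g * x * g⁻¹) * x := by group


open Cfsg.Agent.Lib.Helper13 in
/-- a nontrivial subgroup `M` of a normal subgroup `N`, normalized by `N`, contains a nontrivial
element commuting with the isolated element `x` of order `p` -/
theorem exists_fixed {G : Type*} [Group G] [Finite G] {p : ℕ} [Fact p.Prime] (x : G)
    (hx : orderOf x = p) (hiso : Cfsg.IsIsolated x)
    (hcore : Cfsg.pPrimeCore p G = ⊥) (N : Subgroup G) [hN : N.Normal] (M : Subgroup G)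
    (hMN : M ≤ N) (hnorm : N ≤ Subgroup.normalizer (M : Set G)) (hM1 : M ≠ ⊥) :
    ∃ y ∈ M, y ≠ 1 ∧ x * y = y * x := by
  have hp : p.Prime := Fact.out
  have hpM : p ∣ Nat.card M := by
    by_contra h
    apply hM1
    apply eq_bot_of_normalized hcore N M hMN hnorm
    exact (Nat.Coprime.symm ((Nat.Prime.coprime_iff_not_dvd hp).mpr h))
  have hxp : IsPGroup p (Subgroup.zpowers x) := by
    apply IsPGroup.of_card (n := 1)
    rw [Nat.card_zpowers, hx, pow_one]
  obtain ⟨P, hP⟩ := hxp.exists_le_sylow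
  have hxP : x ∈ (P : Subgroup G) := hP (Subgroup.mem_zpowers x)
  have hsub : M.IsSubnormal := by
    refine Subgroup.IsSubnormal.step M N hMN hN.isSubnormal ?_
    constructor
    intro n hn g
    rw [Subgroup.mem_subgroupOf] at hn ⊢
    have := (Subgroup.mem_normalizer_iff.mp (hnorm g.2) (n : G)).mp hn
    simpa using this
  have hidx : ¬ p ∣ (P : Subgroup G).relIndex M :=
    not_dvd_relIndex_of_isSubnormal p (P : Subgroup G) M hsub P.not_dvd_index
  by_contra hcon
  push Not at hcon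
  apply hidx
  have hbot : (P : Subgroup G) ⊓ M = ⊥ := by
    rw [eq_bot_iff]
    intro y hy
    rw [Subgroup.mem_bot]
    obtain ⟨hyP, hyM⟩ := Subgroup.mem_inf.mp hy
    by_contra hy1
    exact hcon y hyM hy1 (isolated_commute hiso P.isPGroup' hxP hyP).eq
  rw [← Subgroup.inf_relIndex_right, hbot, Subgroup.relIndex_bot_left]
  exact hpM


open Cfsg.Agent.Lib.Helper13 in
/-- the minimal normal subgroup is simple -/
theorem simple_of_minNormal {G : Type*} [Group G] [Finite G] {p : ℕ} [Fact p.Prime] (x : G)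
    (hx : orderOf x = p) (hiso : Cfsg.IsIsolated x)
    (hcore : Cfsg.pPrimeCore p G = ⊥) (N : Subgroup G) (hN : IsMinNormal N)
    (hsup : N ⊔ Subgroup.zpowers x = ⊤) : IsSimpleGroup ↥N := by
  have hNn : N.Normal := hN.1
  have hnt : Nontrivial ↥N := (Subgroup.nontrivial_iff_ne_bot N).mpr hN.2.1
  refine IsSimpleGroup.mk ?_
  intro L hL
  by_cases hL0 : L = ⊥
  · exact Or.inl hL0
  right
  obtain ⟨M₀, hM₀L, hM₀⟩ := exists_isMinNormal_le L hL hL0
  suffices h : M₀ = ⊤ by rw [h] at hM₀L; exact top_le_iff.mp hM₀L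
  have hM₀n : M₀.Normal := hM₀.1
  set M := M₀.map N.subtype with hMdef
  have hMN : M ≤ N := Subgroup.map_subtype_le M₀
  have hM1 : M ≠ ⊥ := by
    intro h
    exact hM₀.2.1 ((Subgroup.map_eq_bot_iff_of_injective _ N.subtype_injective).mp h)
  have hconj : ∀ n ∈ N, ∀ m ∈ M, n * m * n⁻¹ ∈ M := by
    rintro n hn _ ⟨m, hm, rfl⟩
    exact ⟨⟨n, hn⟩ * m * ⟨n, hn⟩⁻¹, hM₀n.conj_mem m hm ⟨n, hn⟩, by simp⟩
  have hNM : N ≤ Subgroup.normalizer (M : Set G) := by
    intro n hn
    rw [Subgroup.mem_normalizer_iff]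
    intro m
    constructor
    · exact hconj n hn m
    · intro h
      have := hconj n⁻¹ (N.inv_mem hn) _ h
      have e : n⁻¹ * (n * m * n⁻¹) * n⁻¹⁻¹ = m := by group
      rwa [e] at this
  have hxM : x ∈ Subgroup.normalizer (M : Set G) := by
    by_contra hxM
    set Mx := M.map (MulAut.conj x).toMonoidHom with hMxdef
    have hMxN : Mx ≤ N := by
      rintro _ ⟨m, hm, rfl⟩
      exact hNn.conj_mem m (hMN hm) x
    have hconjx : ∀ n ∈ N, ∀ m ∈ Mx, n * m * n⁻¹ ∈ Mx := by
      rintro n hn _ ⟨m, hm, rfl⟩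
      have h1 : x⁻¹ * n * x⁻¹⁻¹ ∈ N := hNn.conj_mem n hn x⁻¹
      refine ⟨(x⁻¹ * n * x⁻¹⁻¹) * m * (x⁻¹ * n * x⁻¹⁻¹)⁻¹, hconj _ h1 m hm, ?_⟩
      show x * ((x⁻¹ * n * x⁻¹⁻¹) * m * (x⁻¹ * n * x⁻¹⁻¹)⁻¹) * x⁻¹ = n * (x * m * x⁻¹) * n⁻¹
      group
    have hMxn : (Mx.subgroupOf N).Normal := by
      constructor
      intro n hn g
      rw [Subgroup.mem_subgroupOf] at hn ⊢
      have := hconjx g g.2 n hn
      simpa using this
    have hL₂n : (M₀ ⊓ Mx.subgroupOf N).Normal := Subgroup.normal_inf_normal _ _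
    rcases hM₀.2.2 _ hL₂n inf_le_left with h | h
    · -- trivial intersection
      obtain ⟨y, hyM, hy1, hxy⟩ := exists_fixed x hx hiso hcore N M hMN hNM hM1
      apply hy1
      obtain ⟨y₀, hy₀, rfl⟩ := hyM
      have hmem : y₀ ∈ M₀ ⊓ Mx.subgroupOf N := by
        refine Subgroup.mem_inf.mpr ⟨hy₀, ?_⟩
        rw [Subgroup.mem_subgroupOf]
        refine ⟨N.subtype y₀, ⟨y₀, hy₀, rfl⟩, ?_⟩
        show x * N.subtype y₀ * x⁻¹ = (y₀ : G)
        have e : N.subtype y₀ = (y₀ : G) := rfl
        rw [e] at hxy ⊢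
        rw [hxy]; group
      rw [h, Subgroup.mem_bot] at hmem
      rw [hmem]; simp
    · -- M ≤ Mx
      apply hxM
      rw [Subgroup.mem_normalizer_iff_map_conj_eq]
      have hle : M ≤ Mx := by
        rintro _ ⟨m, hm, rfl⟩
        have : m ∈ M₀ ⊓ Mx.subgroupOf N := by rw [h]; exact hm
        exact (Subgroup.mem_subgroupOf.mp (Subgroup.mem_inf.mp this).2)
      symm
      apply Subgroup.eq_of_le_of_card_ge hle
      rw [hMxdef, Subgroup.card_map_of_injective (MulAut.conj x).injective]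
  have htop : Subgroup.normalizer (M : Set G) = ⊤ := by
    rw [eq_top_iff, ← hsup]
    exact sup_le hNM (by rw [Subgroup.zpowers_le]; exact hxM)
  have hMn : M.Normal := Subgroup.normalizer_eq_top_iff.mp htop
  rcases hN.2.2 M hMn hMN with h | h
  · exact absurd h hM1
  · apply Subgroup.map_injective N.subtype_injective
    rw [← hMdef, h, ← MonoidHom.range_eq_map, Subgroup.range_subtype]

/-- Let G be a finite group, p a prime and x ∈ G an isolated element of order p (the only conjugate of x commuting with x is x) which is not central modulo the largest normal subgroup of order prime to p, while x is central modulo the largest normal subgroup of order prime to p in every proper subgroup containing x, and the image of x is so in every quotient of G by a nontrivial normal subgroup (a minimal counterexample to the Z*_p statement). Then the derived subgroup G' is a non-abelian simple group and G = G'⟨x⟩. -/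
theorem result {G : Type*} [Group G] [Finite G] {p : ℕ} [Fact p.Prime] (x : G) (hx : orderOf x = p) (hiso : Cfsg.IsIsolated x) (hnz : ¬ Cfsg.InZStar p x) (hmin : ∀ (H : Subgroup G) (hxH : x ∈ H), H ≠ ⊤ → Cfsg.InZStar p (⟨x, hxH⟩ : ↥H)) (hquot : ∀ (N : Subgroup G) [N.Normal], N ≠ ⊥ → Cfsg.InZStar p (QuotientGroup.mk x : G ⧸ N)) : IsSimpleGroup ↥(commutator G) ∧ ¬ IsMulCommutative ↥(commutator G) ∧ commutator G ⊔ Subgroup.zpowers x = ⊤ := by
  have hp : p.Prime := Fact.out
  have hcore := core_eq_bot x hnz hquot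
  have hcl := normalClosure_eq_top x hiso hnz hmin hcore
  have hx1 : x ≠ 1 := by
    intro h
    rw [h, orderOf_one] at hx
    exact hp.one_lt.ne hx
  have hnt : (⊤ : Subgroup G) ≠ ⊥ := by
    intro h
    apply hx1
    have : x ∈ (⊤ : Subgroup G) := Subgroup.mem_top x
    rwa [h, Subgroup.mem_bot] at this
  obtain ⟨N, -, hN⟩ := Cfsg.Agent.Lib.Helper13.exists_isMinNormal_le (⊤ : Subgroup G) inferInstance hnt
  have hNn : N.Normal := hN.1
  have hsup : N ⊔ Subgroup.zpowers x = ⊤ := by
    by_contra hne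
    have h1 := commute_of_sup_ne_top x hmin hcore N hne
    have h2 := le_center_of_commute x hcl N h1
    exact false_of_central x hiso hnz hquot hcore N hN.2.1 h2
  have hsimple := simple_of_minNormal x hx hiso hcore N hN hsup
  -- N is not commutative
  have hnc : ¬ IsMulCommutative ↥N := by
    intro hc
    have hNcomm : ∀ a ∈ N, ∀ b ∈ N, a * b = b * a := by
      intro a ha b hb
      have := hc.is_comm.comm (⟨a, ha⟩ : N) ⟨b, hb⟩
      exact congrArg Subtype.val this
    obtain ⟨y, hyN, hy1, hxy⟩ := exists_fixed x hx hiso hcore N N le_rfl Subgroup.le_normalizer hN.2.1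
    -- the centralizer of x in N
    set C := N ⊓ Subgroup.centralizer ({x} : Set G) with hC
    have hyC : y ∈ C := by
      refine Subgroup.mem_inf.mpr ⟨hyN, ?_⟩
      rw [Subgroup.mem_centralizer_iff]
      intro z hz
      rw [Set.mem_singleton_iff] at hz
      rw [hz]; exact hxy
    have hCnorm : Subgroup.normalizer (C : Set G) = ⊤ := by
      rw [eq_top_iff, ← hsup]
      apply sup_le
      · intro n hn
        rw [Subgroup.mem_normalizer_iff]
        intro c
        have key : ∀ c ∈ N, n * c * n⁻¹ = c := by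
          intro c hc
          rw [hNcomm n hn c hc]; group
        constructor
        · intro hcC
          rw [key c (Subgroup.mem_inf.mp hcC).1]; exact hcC
        · intro hcC
          have hcN : c ∈ N := by
            have := hNn.conj_mem _ (Subgroup.mem_inf.mp hcC).1 n⁻¹
            have e : n⁻¹ * (n * c * n⁻¹) * n⁻¹⁻¹ = c := by group
            rwa [e] at this
          rw [key c hcN] at hcC; exact hcC
      · rw [Subgroup.zpowers_le, Subgroup.mem_normalizer_iff]
        intro c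
        have hxc : ∀ c, c ∈ Subgroup.centralizer ({x} : Set G) → x * c * x⁻¹ = c := by
          intro c hc
          have := Subgroup.mem_centralizer_iff.mp hc x rfl
          rw [this]; group
        constructor
        · intro hcC
          rw [hxc c (Subgroup.mem_inf.mp hcC).2]; exact hcC
        · intro hcC
          have h1 : x * c * x⁻¹ ∈ Subgroup.centralizer ({x} : Set G) := (Subgroup.mem_inf.mp hcC).2
          have hcc : c ∈ Subgroup.centralizer ({x} : Set G) := by
            rw [Subgroup.mem_centralizer_iff] at h1 ⊢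
            intro z hz
            rw [Set.mem_singleton_iff] at hz
            rw [hz]
            have := h1 x rfl
            -- x * (x c x⁻¹) = (x c x⁻¹) * x
            calc x * c = x⁻¹ * (x * (x * c * x⁻¹)) * x := by group
              _ = x⁻¹ * ((x * c * x⁻¹) * x) * x := by rw [this]
              _ = c * x := by group
          rw [hxc c hcc] at hcC; exact hcC
    have hCn : C.Normal := Subgroup.normalizer_eq_top_iff.mp hCnorm
    rcases hN.2.2 C hCn inf_le_left with h | h
    · rw [h, Subgroup.mem_bot] at hyC; exact hy1 hyC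
    · have h1 : ∀ n ∈ N, n * x = x * n := by
        intro n hn
        have : n ∈ C := by rw [h]; exact hn
        exact (Subgroup.mem_centralizer_iff.mp (Subgroup.mem_inf.mp this).2 x rfl).symm
      have h2 := le_center_of_commute x hcl N h1
      exact false_of_central x hiso hnz hquot hcore N hN.2.1 h2
  -- the derived subgroup is N
  have hle : commutator G ≤ N := by
    rw [commutator_def, Subgroup.commutator_le]
    intro g₁ _ g₂ _
    have hdec : ∀ g : G, ∃ n ∈ N, ∃ k : ℤ, g = n * x ^ k := by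
      intro g
      have hg : g ∈ N ⊔ Subgroup.zpowers x := by rw [hsup]; exact Subgroup.mem_top g
      have : g ∈ ((N ⊔ Subgroup.zpowers x : Subgroup G) : Set G) := hg
      rw [Subgroup.normal_mul] at this
      obtain ⟨n, hn, z, hz, rfl⟩ := Set.mem_mul.mp this
      obtain ⟨k, rfl⟩ := Subgroup.mem_zpowers_iff.mp hz
      exact ⟨n, hn, k, rfl⟩
    obtain ⟨n₁, hn₁, k₁, rfl⟩ := hdec g₁
    obtain ⟨n₂, hn₂, k₂, rfl⟩ := hdec g₂
    rw [← QuotientGroup.eq_one_iff (N := N)]
    have e1 : ((n₁ * x ^ k₁ : G) : G ⧸ N) = (x : G ⧸ N) ^ k₁ := by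
      rw [QuotientGroup.mk_mul, (QuotientGroup.eq_one_iff n₁).mpr hn₁, one_mul, QuotientGroup.mk_zpow]
    have e2 : ((n₂ * x ^ k₂ : G) : G ⧸ N) = (x : G ⧸ N) ^ k₂ := by
      rw [QuotientGroup.mk_mul, (QuotientGroup.eq_one_iff n₂).mpr hn₂, one_mul, QuotientGroup.mk_zpow]
    have e3 : ((⁅n₁ * x ^ k₁, n₂ * x ^ k₂⁆ : G) : G ⧸ N) =
        ⁅((n₁ * x ^ k₁ : G) : G ⧸ N), ((n₂ * x ^ k₂ : G) : G ⧸ N)⁆ := by
      simp [commutatorElement_def]
    rw [e3, e1, e2, commutatorElement_eq_one_iff_commute]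
    exact (Commute.refl _).zpow_zpow _ _
  have hne : commutator G ≠ ⊥ := by
    intro h
    apply hnc
    refine ⟨⟨fun a b => ?_⟩⟩
    apply Subtype.ext
    have h1 : ⁅(a : G), (b : G)⁆ ∈ commutator G := by
      rw [commutator_def]
      exact Subgroup.commutator_mem_commutator (Subgroup.mem_top _) (Subgroup.mem_top _)
    rw [h, Subgroup.mem_bot, commutatorElement_eq_one_iff_commute] at h1
    exact h1.eq
  have hcomm : commutator G = N := by
    rcases hN.2.2 (commutator G) inferInstance hle with h | h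
    · exact absurd h hne
    · exact h
  rw [hcomm]
  exact ⟨hsimple, hnc, hsup⟩

end Cfsg.Agent.S2972
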