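import Cfsg.Statements.S2975
import Cfsg.Agent.Lib.Helper57.Isolated
import Cfsg.Agent.Lib.Helper57.PPrimeCore
import Cfsg.Agent.Lib.Helper29.PCore
import Cfsg.Agent.Lib.Helper01.CoprimeSylow

set_option autoImplicit false
open Cfsg

namespace Cfsg.Agent.S2975

open Cfsg.Agent.Lib.Helper57

/-- In a minimal counterexample the `p'`-core is trivial. -/
theorem core_eq_bot {G : Type*} [Group G] [Finite G] {p : ℕ} [Fact p.Prime] (x : G)
    (hnz : ¬ Cfsg.InZStar p x)
    (hquot : ∀ (N : Subgroup G) [N.Normal], N ≠ ⊥ → Cfsg.InZStar p (QuotientGroup.mk x : G ⧸ N)) :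
    Cfsg.pPrimeCore p G = ⊥ := by
  by_contra hne
  have hN : (Cfsg.pPrimeCore p G).Normal := pPrimeCore_normal' p G
  have h1 := hquot (Cfsg.pPrimeCore p G) hne
  apply hnz
  intro g
  have h2 := h1 (QuotientGroup.mk g)
  rw [Cfsg.Agent.Lib.Helper29.pPrimeCore_quotient_eq_bot, Subgroup.mem_bot] at h2
  have h3 : ((g * x * g⁻¹ * x⁻¹ : G) : G ⧸ Cfsg.pPrimeCore p G) = 1 := by
    simpa using h2
  exact (QuotientGroup.eq_one_iff _).mp h3

/-- a `q`-subgroup whose index in a larger `q`-group is prime to `q`... -/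
theorem le_of_not_dvd_relIndex {G : Type*} [Group G] [Finite G] {q : ℕ} [Fact q.Prime]
    {S R H : Subgroup G} (hR : IsPGroup q R) (hSR : S ≤ R) (hRH : R ≤ H)
    (hidx : ¬ q ∣ S.relIndex H) : R ≤ S := by
  have h1 : S.relIndex R * R.relIndex H = S.relIndex H :=
    Subgroup.relIndex_mul_relIndex _ _ _ hSR hRH
  have h2 : ¬ q ∣ S.relIndex R := fun h => hidx (h1 ▸ Dvd.dvd.mul_right h _)
  obtain ⟨n, hn⟩ := IsPGroup.iff_card.mp hR
  have h3 : S.relIndex R ∣ q ^ n := hn ▸ Subgroup.relIndex_dvd_card S R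
  obtain ⟨k, -, hk⟩ := (Nat.dvd_prime_pow (Fact.out : q.Prime)).mp h3
  have hk0 : k = 0 := by
    by_contra hk0
    exact h2 (hk ▸ dvd_pow_self q hk0)
  rw [hk0, pow_zero] at hk
  exact Subgroup.relIndex_eq_one.mp hk


theorem sylow_of_sylow_in_normalizer {G : Type*} [Group G] [Finite G] {q : ℕ} [Fact q.Prime]
    {Q : Subgroup G} (hQ : IsPGroup q Q)
    (hidx : ¬ q ∣ Q.relIndex (Subgroup.normalizer (Q : Set G))) :
    ∃ S : Sylow q G, (S : Subgroup G) = Q := by
  obtain ⟨P, hP⟩ := hQ.exists_le_sylow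
  refine ⟨P, le_antisymm ?_ hP⟩
  apply le_of_normalizer_inf_le P.isPGroup' hP
  exact le_of_not_dvd_relIndex (P.isPGroup'.to_le inf_le_right)
    (le_inf Subgroup.le_normalizer hP) inf_le_left hidx

/-- the case `q = p` of the first claim. -/
theorem partA_eq {G : Type*} [Group G] [Finite G] {p : ℕ} [Fact p.Prime] (x : G)
    (hx : orderOf x = p) (hiso : Cfsg.IsIsolated x) (Q : Subgroup G) (hQ : IsPGroup p ↥Q)
    (hxQ : x ∈ Subgroup.normalizer (Q : Set G))
    (hmax : ∀ R : Subgroup G, IsPGroup p ↥R → x ∈ Subgroup.normalizer (R : Set G) → Q ≤ R → R = Q) :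
    ∃ S : Sylow p G, (S : Subgroup G) = Q := by
  have hZ : IsPGroup p (Subgroup.zpowers x) := by
    apply IsPGroup.of_card (n := 1)
    rw [Nat.card_zpowers, hx, pow_one]
  have hZN : Subgroup.zpowers x ≤ Subgroup.normalizer (Q : Set G) := by
    rw [Subgroup.zpowers_le]; exact hxQ
  have hR : IsPGroup p ↥(Subgroup.zpowers x ⊔ Q) := hZ.to_sup_of_normal_right' hQ hZN
  have hxR : x ∈ Subgroup.zpowers x ⊔ Q := Subgroup.mem_sup_left (Subgroup.mem_zpowers x)
  have h1 := hmax _ hR (Subgroup.le_normalizer hxR) le_sup_right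
  have hxQ' : x ∈ Q := h1 ▸ hxR
  obtain ⟨P, hP⟩ := hQ.exists_le_sylow
  have hPC := isolated_le_centralizer hiso P.isPGroup' (hP hxQ')
  have hxP : x ∈ Subgroup.normalizer ((P : Subgroup G) : Set G) := by
    rw [Subgroup.mem_normalizer_iff]
    intro h
    constructor
    · intro hh
      have := Subgroup.mem_centralizer_iff.mp (hPC hh) x rfl
      rw [this, mul_inv_cancel_right]; exact hh
    · intro hh
      have := Subgroup.mem_centralizer_iff.mp (hPC hh) x rfl
      have e : h = x⁻¹ * (x * h * x⁻¹) * x := by group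
      rw [e, mul_assoc, ← this, inv_mul_cancel_left]
      exact hh
  exact ⟨P, hmax _ P.isPGroup' hxP hP⟩


/-- the case `q ≠ p` of the first claim. -/
theorem partA_ne {G : Type*} [Group G] [Finite G] {p : ℕ} [Fact p.Prime] (x : G)
    (hx : orderOf x = p) (hnz : ¬ Cfsg.InZStar p x)
    (hmin : ∀ (H : Subgroup G) (hxH : x ∈ H), H ≠ ⊤ → Cfsg.InZStar p (⟨x, hxH⟩ : ↥H))
    (hquot : ∀ (N : Subgroup G) [N.Normal], N ≠ ⊥ → Cfsg.InZStar p (QuotientGroup.mk x : G ⧸ N))
    (q : ℕ) [Fact q.Prime] (hqp : q ≠ p) (Q : Subgroup G) (hQ : IsPGroup q ↥Q)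
    (hxQ : x ∈ Subgroup.normalizer (Q : Set G))
    (hmax : ∀ R : Subgroup G, IsPGroup q ↥R → x ∈ Subgroup.normalizer (R : Set G) → Q ≤ R → R = Q)
    (hQ1 : Q ≠ ⊥) :
    ∃ S : Sylow q G, (S : Subgroup G) = Q := by
  apply sylow_of_sylow_in_normalizer hQ
  have hcore := core_eq_bot x hnz hquot
  have hqp' : Nat.Coprime q p := (Nat.coprime_primes Fact.out Fact.out).mpr hqp
  have hHtop : Subgroup.normalizer (Q : Set G) ≠ ⊤ := by
    intro htop
    have hQn : Q.Normal := Subgroup.normalizer_eq_top_iff.mp htop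
    have hcop : (Nat.card Q).Coprime p := by
      obtain ⟨n, hn⟩ := IsPGroup.iff_card.mp hQ
      rw [hn]
      exact Nat.Coprime.pow_left _ hqp'
    have := le_pPrimeCore' Q hcop
    rw [hcore] at this
    exact hQ1 (le_bot_iff.mp this)
  have hZ := hmin _ hxQ hHtop
  set H := Subgroup.normalizer (Q : Set G) with hH
  set K₀ := Cfsg.pPrimeCore p ↥H with hK₀
  have hK₀n : K₀.Normal := pPrimeCore_normal' p ↥H
  have hK₀c : (Nat.card K₀).Coprime p := pPrimeCore_card_coprime' p ↥H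
  let S₀ : Sylow q (↥H ⧸ K₀) := default
  set T₀ : Subgroup ↥H := (S₀ : Subgroup (↥H ⧸ K₀)).comap (QuotientGroup.mk' K₀) with hT₀
  set T : Subgroup G := T₀.map H.subtype with hT
  have hTH : T ≤ H := Subgroup.map_subtype_le _
  have hT₀card : Nat.card T₀ = Nat.card K₀ * Nat.card (S₀ : Subgroup (↥H ⧸ K₀)) :=
    Cfsg.Agent.Lib.Helper29.card_comap_mk' K₀ _
  have hTcard : Nat.card T = Nat.card T₀ :=
    Subgroup.card_map_of_injective H.subtype_injective
  have hTcop : (Nat.card T).Coprime p := by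
    rw [hTcard, hT₀card]
    apply Nat.Coprime.mul_left hK₀c
    obtain ⟨n, hn⟩ := IsPGroup.iff_card.mp S₀.isPGroup'
    rw [hn]
    exact Nat.Coprime.pow_left _ hqp'
  have hTidx : ¬ q ∣ T.relIndex H := by
    have h1 : T.subgroupOf H = T₀ := Subgroup.comap_map_eq_self_of_injective H.subtype_injective _
    unfold Subgroup.relIndex
    rw [h1, hT₀, Subgroup.index_comap_of_surjective _ (QuotientGroup.mk'_surjective K₀)]
    exact S₀.not_dvd_index
  -- `x` normalizes `T`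
  have hxT : x ∈ Subgroup.normalizer (T : Set G) := by
    apply Subgroup.mem_normalizer_fintype
    rintro _ ⟨t₀, ht₀, rfl⟩
    refine ⟨⟨x, hxQ⟩ * t₀ * ⟨x, hxQ⟩⁻¹, ?_, rfl⟩
    have h1 := hZ t₀
    have h2 : (QuotientGroup.mk' K₀) (t₀ * ⟨x, hxQ⟩ * t₀⁻¹ * ⟨x, hxQ⟩⁻¹) = 1 :=
      (QuotientGroup.eq_one_iff _).mpr h1
    have h3 : (QuotientGroup.mk' K₀) (⟨x, hxQ⟩ * t₀ * ⟨x, hxQ⟩⁻¹) = (QuotientGroup.mk' K₀) t₀ := by
      simp only [map_mul, map_inv] at h2 ⊢
      have h4 := eq_of_mul_inv_eq_one h2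
      rw [mul_inv_eq_iff_eq_mul] at h4
      rw [← h4]
      group
    change (QuotientGroup.mk' K₀) (⟨x, hxQ⟩ * t₀ * ⟨x, hxQ⟩⁻¹) ∈ (S₀ : Subgroup (↥H ⧸ K₀))
    rw [h3]
    exact ht₀
  have hZN : Subgroup.zpowers x ≤ Subgroup.normalizer (T : Set G) := by
    rw [Subgroup.zpowers_le]; exact hxT
  have hcop : (Nat.card (Subgroup.zpowers x)).Coprime (Nat.card T) := by
    rw [Nat.card_zpowers, hx]
    exact hTcop.symm
  have hsolv : Group.IsSolvable (Subgroup.zpowers x) := inferInstance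
  obtain ⟨S, ⟨hST, hSq, hSidx⟩, hxS⟩ :=
    Cfsg.Agent.Lib.Helper01.exists_invariant_isSylowIn q hZN hcop (Or.inl hsolv)
  have hSH : ¬ q ∣ S.relIndex H := by
    rw [← Subgroup.relIndex_mul_relIndex _ _ _ hST hTH]
    intro h
    rcases (Nat.Prime.dvd_mul Fact.out).mp h with h | h
    · exact hSidx h
    · exact hTidx h
  have hSN : S ≤ Subgroup.normalizer (Q : Set G) := hST.trans hTH
  have hSQ : IsPGroup q ↥(S ⊔ Q) := hSq.to_sup_of_normal_right' hQ hSN
  have hQS : Q ≤ S := by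
    have := le_of_not_dvd_relIndex hSQ le_sup_left (sup_le hSN Subgroup.le_normalizer) hSH
    exact le_sup_right.trans this
  have hSeq := hmax S hSq (hxS (Subgroup.mem_zpowers x)) hQS
  rw [hSeq] at hSH
  exact hSH


/-- the transitivity claim. -/
theorem partB {G : Type*} [Group G] [Finite G] {p : ℕ} [Fact p.Prime] (x : G)
    (hx : orderOf x = p) (hiso : Cfsg.IsIsolated x) (q : ℕ) [Fact q.Prime]
    (S₁ S₂ : Sylow q G) (h1 : x ∈ Subgroup.normalizer ((S₁ : Subgroup G) : Set G))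
    (h2 : x ∈ Subgroup.normalizer ((S₂ : Subgroup G) : Set G)) :
    ∃ c ∈ Subgroup.centralizer ({x} : Set G),
      (S₁ : Subgroup G).map (MulAut.conj c).toMonoidHom = (S₂ : Subgroup G) := by
  obtain ⟨g, hg⟩ := MulAction.exists_smul_eq G S₁ S₂
  have hg' : (S₁ : Subgroup G).map (MulAut.conj g).toMonoidHom = (S₂ : Subgroup G) := by
    rw [← hg]; rfl
  -- y = g⁻¹ x g normalizes S₁
  have hy : g⁻¹ * x * g⁻¹⁻¹ ∈ Subgroup.normalizer ((S₁ : Subgroup G) : Set G) := by
    apply Subgroup.mem_normalizer_fintype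
    intro n hn
    have h3 : g * n * g⁻¹ ∈ (S₂ : Subgroup G) := by
      rw [← hg']; exact ⟨n, hn, rfl⟩
    have h4 : x * (g * n * g⁻¹) * x⁻¹ ∈ (S₂ : Subgroup G) := ((h2 _).mp h3)
    rw [← hg'] at h4
    obtain ⟨m, hm, hm'⟩ := h4
    have hm'' : g * m * g⁻¹ = x * (g * n * g⁻¹) * x⁻¹ := hm'
    have e : g⁻¹ * x * g⁻¹⁻¹ * n * (g⁻¹ * x * g⁻¹⁻¹)⁻¹ = g⁻¹ * (x * (g * n * g⁻¹) * x⁻¹) * g := by
      group
    rw [SetLike.mem_coe, e, ← hm'']
    have e2 : g⁻¹ * (g * m * g⁻¹) * g = m := by group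
    rw [e2]; exact hm
  obtain ⟨n, hn, hn'⟩ := isolated_conj_eq (p := p) ⟨1, by rw [hx, pow_one]⟩ hiso _ h1 g⁻¹ hy
  -- c = g n⁻¹
  refine ⟨g * n⁻¹, ?_, ?_⟩
  · rw [Subgroup.mem_centralizer_iff]
    intro z hz
    rw [Set.mem_singleton_iff] at hz
    subst hz
    have e : g * n⁻¹ * z * n * g⁻¹ = z := by
      have : g * n⁻¹ * (n * (g⁻¹ * z * g⁻¹⁻¹) * n⁻¹) * n * g⁻¹ = z := by group
      rwa [hn'] at this
    calc z * (g * n⁻¹) = (g * n⁻¹ * z * n * g⁻¹) * (g * n⁻¹) := by rw [e]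
      _ = g * n⁻¹ * z := by group
  · rw [← hg']
    ext z
    constructor
    · rintro ⟨s, hs, rfl⟩
      refine ⟨n⁻¹ * s * n, ?_, ?_⟩
      · have hn2 : n⁻¹ ∈ Subgroup.normalizer ((S₁ : Subgroup G) : Set G) := inv_mem hn
        have := (hn2 s).mp hs
        simpa using this
      · simp [mul_assoc]
    · rintro ⟨s, hs, rfl⟩
      refine ⟨n * s * n⁻¹, (hn s).mp hs, ?_⟩
      simp [mul_assoc]

/-- Let G be a finite group, p a prime and x ∈ G an isolated element of order p (the only conjugate of x commuting with x is x) which is not central modulo the largest normal subgroup of order prime to p, while x is central modulo the largest normal subgroup of order prime to p in every proper subgroup containing x, and the image of x is so in every quotient of G by a nontrivial normal subgroup (a minimal counterexample to the Z*_p statement). Then for every prime q, every q-subgroup of G that is normalized by x and maximal among the q-subgroups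 normalized by x is either trivial or a Sylow q-subgroup of G; and C_G(x) permutes the x-invariant Sylow q-subgroups of G transitively by conjugation. -/
theorem result {G : Type*} [Group G] [Finite G] {p : ℕ} [Fact p.Prime] (x : G) (hx : orderOf x = p) (hiso : Cfsg.IsIsolated x) (hnz : ¬ Cfsg.InZStar p x) (hmin : ∀ (H : Subgroup G) (hxH : x ∈ H), H ≠ ⊤ → Cfsg.InZStar p (⟨x, hxH⟩ : ↥H)) (hquot : ∀ (N : Subgroup G) [N.Normal], N ≠ ⊥ → Cfsg.InZStar p (QuotientGroup.mk x : G ⧸ N)) (q : ℕ) [Fact q.Prime] : (∀ Q : Subgroup G, IsPGroup q ↥Q → x ∈ Subgroup.normalizer (Q : Set G) → (∀ R : Subgroup G, IsPGroup q ↥R → x ∈ Subgroup.normalizer (R : Set G) → Q ≤ R → R = Q) → Q = ⊥ ∨ ∃ S : Sylow q G, (S : Subgroup G) = Q) ∧ (∀ S₁ S₂ : Sylow q G, x ∈ Subgroup.normalizer ((S₁ : Subgroup G) : Set G) → x ∈ Subgroup.normalizer ((S₂ : Subgroup G) : Set G) → ∃ c ∈ Subgroup.centralizer ({x} : Set G), (S₁ : Subgroup G).map (MulAut.conj c).toMonoidHom = (S₂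 : Subgroup G)) := by
  refine ⟨?_, ?_⟩
  · intro Q hQ hxQ hmax
    by_cases hQ1 : Q = ⊥
    · exact Or.inl hQ1
    · right
      by_cases hqp : q = p
      · subst hqp
        exact partA_eq x hx hiso Q hQ hxQ hmax
      · exact partA_ne x hx hnz hmin hquot q hqp Q hQ hxQ hmax hQ1
  · intro S₁ S₂ h1 h2
    exact partB x hx hiso q S₁ S₂ h1 h2

end Cfsg.Agent.S2975
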