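import Cfsg.Statements.S2998
import Cfsg.Agent.Lib.Helper57.SylowExtras

set_option autoImplicit false
open Cfsg

namespace Cfsg.Agent.S2998

open Cfsg.Agent.Lib.Helper57
open scoped Pointwise

/-- Let G be a finite group, p a prime, P a Sylow p-subgroup of G and x ∈ P an element such that N_G(R) ≤ C_G(x) for every nontrivial subgroup R of P. Then P ≤ C_G(x); every G-conjugate of x lying in P equals x (so g ∈ C_G(x) whenever g x g⁻¹ ∈ P); and for every normal subgroup N of G, the image of x in G ⧸ N has the same property with respect to the image of P: the normalizer of every nontrivial subgroup of the image of P centralizes the image of x. -/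
theorem result {G : Type*} [Group G] [Finite G] {p : ℕ} [Fact p.Prime] (P : Sylow p G) (x : G) (hxP : x ∈ (P : Subgroup G)) (hlc : ∀ R : Subgroup G, R ≤ (P : Subgroup G) → R ≠ ⊥ → Subgroup.normalizer (R : Set G) ≤ Subgroup.centralizer ({x} : Set G)) : (P : Subgroup G) ≤ Subgroup.centralizer ({x} : Set G) ∧ (∀ g : G, g * x * g⁻¹ ∈ (P : Subgroup G) → g * x * g⁻¹ = x) ∧ ∀ (N : Subgroup G) [N.Normal], ∀ R : Subgroup (G ⧸ N), R ≤ (P : Subgroup G).map (QuotientGroup.mk' N) → R ≠ ⊥ → Subgroup.normalizer (R : Set (G ⧸ N)) ≤ Subgroup.centralizer ({(QuotientGroup.mk x : G ⧸ N)} : Set (G ⧸ N)) := by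
  -- part 1
  have part1 : (P : Subgroup G) ≤ Subgroup.centralizer ({x} : Set G) := by
    by_cases hP : (P : Subgroup G) = ⊥
    · rw [hP]; exact bot_le
    · exact le_trans Subgroup.le_normalizer (hlc P le_rfl hP)
  have memC : ∀ g : G, g ∈ Subgroup.centralizer ({x} : Set G) ↔ x * g = g * x := by
    intro g
    rw [Subgroup.mem_centralizer_iff]
    simp
  refine ⟨part1, ?_, ?_⟩
  · -- part 2
    intro g hg
    by_cases hx1 : x = 1
    · subst hx1; simp
    set y := g * x * g⁻¹ with hy
    have hy1 : y ≠ 1 := by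
      intro h
      apply hx1
      have : x = g⁻¹ * y * g := by rw [hy]; group
      rw [this, h]; group
    have hPne : (P : Subgroup G) ≠ ⊥ := by
      intro h
      rw [h, Subgroup.mem_bot] at hxP
      exact hx1 hxP
    -- C(y) ≤ C(x)
    have hCy : Subgroup.centralizer ({y} : Set G) ≤ Subgroup.centralizer ({x} : Set G) := by
      have h1 : Subgroup.zpowers y ≤ (P : Subgroup G) := by
        rw [Subgroup.zpowers_le]; exact hg
      have h2 : Subgroup.zpowers y ≠ ⊥ := by
        rw [Ne, Subgroup.zpowers_eq_bot]; exact hy1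
      refine le_trans ?_ (hlc _ h1 h2)
      intro c hc
      rw [Subgroup.mem_centralizer_iff] at hc
      have hcy : y * c = c * y := hc y rfl
      apply Subgroup.mem_normalizer_fintype
      intro n hn
      have hn' : n ∈ Subgroup.zpowers y := hn
      obtain ⟨i, rfl⟩ := Subgroup.mem_zpowers_iff.mp hn'
      have : Commute c (y ^ i) := (Commute.zpow_right (show Commute c y from hcy.symm) i)
      show c * y ^ i * c⁻¹ ∈ Subgroup.zpowers y
      rw [this.eq, mul_assoc, mul_inv_cancel, mul_one]
      exact Subgroup.zpow_mem_zpowers y i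
    -- g • P ≤ C(x)
    have h2 : ((g • P : Sylow p G) : Subgroup G) ≤ Subgroup.centralizer ({x} : Set G) := by
      intro z hz
      rw [Sylow.smul_def] at hz
      have hz' : z ∈ MulAut.conj g • (P : Subgroup G) := hz
      rw [Subgroup.mem_pointwise_smul_iff_inv_smul_mem] at hz'
      have hz2 : g⁻¹ * z * g ∈ (P : Subgroup G) := by
        simpa [MulAut.smul_def] using hz'
      have hz3 := (memC _).mp (part1 hz2)
      apply hCy
      rw [Subgroup.mem_centralizer_iff]
      intro w hw
      rw [Set.mem_singleton_iff] at hw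
      subst hw
      -- y * z = z * y where y = g x g⁻¹ and x (g⁻¹ z g) = (g⁻¹ z g) x
      calc y * z = g * (x * (g⁻¹ * z * g)) * g⁻¹ := by rw [hy]; group
        _ = g * ((g⁻¹ * z * g) * x) * g⁻¹ := by rw [hz3]
        _ = z * y := by rw [hy]; group
    obtain ⟨c, hc, hcg⟩ := sylow_conj_in_subgroup P _ g part1 h2
    have h3 : c * g ∈ Subgroup.centralizer ({x} : Set G) := hlc P le_rfl hPne hcg
    have h4 : g ∈ Subgroup.centralizer ({x} : Set G) := by
      have : g = c⁻¹ * (c * g) := by group
      rw [this]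
      exact Subgroup.mul_mem _ (Subgroup.inv_mem _ hc) h3
    have h5 := (memC g).mp h4
    rw [hy, ← h5]; group
  · -- part 3
    intro N _ Rb hRb hRb1 gb hgb
    obtain ⟨g, rfl⟩ := QuotientGroup.mk'_surjective N gb
    set π := QuotientGroup.mk' N with hπ
    set R : Subgroup G := (P : Subgroup G) ⊓ Rb.comap π with hRdef
    have hRP : R ≤ (P : Subgroup G) := inf_le_left
    have hRmap : R.map π = Rb := by
      apply le_antisymm
      · rintro _ ⟨r, hr, rfl⟩
        exact (Subgroup.mem_inf.mp hr).2
      · intro rb hrb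
        obtain ⟨a, ha, rfl⟩ := hRb hrb
        exact ⟨a, Subgroup.mem_inf.mpr ⟨ha, hrb⟩, rfl⟩
    have hR1 : R ≠ ⊥ := by
      intro h
      apply hRb1
      rw [← hRmap, h, Subgroup.map_bot]
    have hL : Rb.comap π = R ⊔ N := by
      rw [← hRmap, Subgroup.comap_map_eq, hπ, QuotientGroup.ker_mk']
    have hPN : (P : Subgroup G) ⊓ N ≤ R := by
      intro a ha
      obtain ⟨haP, haN⟩ := Subgroup.mem_inf.mp ha
      refine Subgroup.mem_inf.mpr ⟨haP, ?_⟩
      show π a ∈ Rb
      have : π a = 1 := by
        rw [hπ]; simpa using haN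
      rw [this]; exact Rb.one_mem
    have hidx : ¬ p ∣ R.relIndex (R ⊔ N) := not_dvd_relIndex_sup_normal P N R hRP hPN
    have hgL : g ∈ Subgroup.normalizer ((R ⊔ N : Subgroup G) : Set G) := by
      rw [← hL]
      apply Subgroup.le_normalizer_comap π
      exact hgb
    obtain ⟨l, hl, hlg⟩ := exists_mul_mem_normalizer (R ⊔ N) R le_sup_left
      (P.isPGroup'.to_le hRP) hidx g hgL
    have h1 : l * g ∈ Subgroup.centralizer ({x} : Set G) := hlc R hRP hR1 hlg
    have h1' := (memC _).mp h1
    -- π l commutes with π x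
    have hl' : π l ∈ Rb := by
      have : l ∈ Rb.comap π := by rw [hL]; exact hl
      exact this
    rw [← hRmap] at hl'
    obtain ⟨r, hr, hrl⟩ := hl'
    have h2 := (memC _).mp (part1 (hRP hr))
    rw [Subgroup.mem_centralizer_iff]
    intro w hw
    rw [Set.mem_singleton_iff] at hw
    subst hw
    have e1 : π x * π r = π r * π x := by rw [← map_mul, ← map_mul, h2]
    have e2 : π x * (π l * π g) = (π l * π g) * π x := by
      rw [← map_mul, ← map_mul, ← map_mul, h1']
    rw [hrl] at e1
    show π x * π g = π g * π x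
    calc π x * π g = (π l)⁻¹ * ((π l * π x) * π g) := by group
      _ = (π l)⁻¹ * ((π x * π l) * π g) := by rw [e1]
      _ = (π l)⁻¹ * (π x * (π l * π g)) := by group
      _ = (π l)⁻¹ * ((π l * π g) * π x) := by rw [e2]
      _ = π g * π x := by group

end Cfsg.Agent.S2998
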