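import Cfsg.Statements.S3003
import Cfsg.Agent.Lib.Helper01.CoprimeSylow
import Cfsg.Agent.Lib.Helper29.FixedPointFree
import Cfsg.Agent.Lib.Helper55.Coprime
import Cfsg.Agent.Lib.Helper57.CD

set_option autoImplicit false
open Cfsg

namespace Cfsg.Agent.S3003

/-- elements common to a `p`-group and a group of order prime to `p` are trivial -/
theorem eq_one_of_mem_of_mem {G : Type*} [Group G] [Finite G] {p : ℕ} [Fact p.Prime]
    {Q R : Subgroup G} (hQp : IsPGroup p ↥Q) (hR : (Nat.card ↥R).Coprime p)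
    {y : G} (hyQ : y ∈ Q) (hyR : y ∈ R) : y = 1 := by
  obtain ⟨k, hk⟩ := hQp ⟨y, hyQ⟩
  have hk' : y ^ p ^ k = 1 := by
    have := congrArg Subtype.val hk
    simpa using this
  have h1 : orderOf y ∣ p ^ k := orderOf_dvd_of_pow_eq_one hk'
  have h2 : orderOf y ∣ Nat.card R := Subgroup.orderOf_dvd_natCard R hyR
  have h3 : Nat.Coprime (p ^ k) (Nat.card R) := (Nat.Coprime.pow_left k hR.symm)
  have h4 : orderOf y ∣ 1 := by
    have := Nat.dvd_gcd h1 h2
    rwa [h3] at this
  exact orderOf_eq_one_iff.mp (Nat.dvd_one.mp h4)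

/-- part (a) for an arbitrary subgroup `U` -/
theorem partA {G : Type*} [Group G] [Finite G] {p : ℕ} [Fact p.Prime] (Q : Subgroup G)
    (hQp : IsPGroup p ↥Q) (hlarge : Cfsg.IsLarge Q) (G₁ : Subgroup G) (hQG : Q ≤ G₁)
    (R : Subgroup G) (hR : (Nat.card ↥R).Coprime p)
    (hGR : G₁ ≤ Subgroup.normalizer (R : Set G)) (U : Subgroup G)
    (h : ∃ x ∈ U, x ≠ 1 ∧ ∃ g ∈ G₁, g * x * g⁻¹ ∈ Q ⊓ Subgroup.centralizer (Q : Set G)) :
    R ⊓ Subgroup.centralizer (U : Set G) = ⊥ := by
  obtain ⟨x, hxU, hx1, g, hg, hz⟩ := h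
  rw [eq_bot_iff]
  intro c hc
  rw [Subgroup.mem_bot]
  obtain ⟨hcR, hcU⟩ := Subgroup.mem_inf.mp hc
  have hcx : x * c = c * x := Subgroup.mem_centralizer_iff.mp hcU x hxU
  have hc'R : g * c * g⁻¹ ∈ R := (Subgroup.mem_normalizer_iff.mp (hGR hg) c).mp hcR
  have hc'z : (g * x * g⁻¹) * (g * c * g⁻¹) = (g * c * g⁻¹) * (g * x * g⁻¹) := by
    calc (g * x * g⁻¹) * (g * c * g⁻¹) = g * (x * c) * g⁻¹ := by group
      _ = g * (c * x) * g⁻¹ := by rw [hcx]
      _ = (g * c * g⁻¹) * (g * x * g⁻¹) := by group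
  have hz1 : g * x * g⁻¹ ≠ 1 := by
    intro h
    apply hx1
    have : x = g⁻¹ * (g * x * g⁻¹) * g := by group
    rw [this, h]; group
  obtain ⟨hzQ, hzC⟩ := Subgroup.mem_inf.mp hz
  have hW : Subgroup.zpowers (g * x * g⁻¹) ≤ Subgroup.centralizer (Q : Set G) := by
    rw [Subgroup.zpowers_le]; exact hzC
  have hW1 : Subgroup.zpowers (g * x * g⁻¹) ≠ ⊥ := by
    rw [Ne, Subgroup.zpowers_eq_bot]; exact hz1
  have hN := hlarge.2 _ hW hW1
  have hc'N : g * c * g⁻¹ ∈ Subgroup.normalizer (Subgroup.zpowers (g * x * g⁻¹) : Set G) := by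
    apply Subgroup.centralizer_le_normalizer
    rw [Subgroup.mem_centralizer_iff]
    intro h hh
    obtain ⟨k, rfl⟩ := Subgroup.mem_zpowers_iff.mp hh
    exact ((Commute.zpow_left (show Commute (g * x * g⁻¹) (g * c * g⁻¹) from hc'z) k)).eq
  have hc'NQ : g * c * g⁻¹ ∈ Subgroup.normalizer (Q : Set G) := hN hc'N
  have hc'CQ : g * c * g⁻¹ ∈ Subgroup.centralizer (Q : Set G) := by
    rw [Subgroup.mem_centralizer_iff]
    intro q hq
    have h1 : (g * c * g⁻¹) * q * (g * c * g⁻¹)⁻¹ * q⁻¹ ∈ Q :=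
      Q.mul_mem ((Subgroup.mem_normalizer_iff.mp hc'NQ q).mp hq) (Q.inv_mem hq)
    have h2 : (g * c * g⁻¹) * q * (g * c * g⁻¹)⁻¹ * q⁻¹ ∈ R := by
      have h3 : q * (g * c * g⁻¹)⁻¹ * q⁻¹ ∈ R :=
        (Subgroup.mem_normalizer_iff.mp (hGR (hQG hq)) _).mp (R.inv_mem hc'R)
      have h4 := R.mul_mem hc'R h3
      have e : (g * c * g⁻¹) * q * (g * c * g⁻¹)⁻¹ * q⁻¹
          = (g * c * g⁻¹) * (q * (g * c * g⁻¹)⁻¹ * q⁻¹) := by group
      rw [e]; exact h4
    have h3 := eq_one_of_mem_of_mem hQp hR h1 h2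
    calc q * (g * c * g⁻¹)
        = ((g * c * g⁻¹) * q * (g * c * g⁻¹)⁻¹ * q⁻¹)⁻¹ * ((g * c * g⁻¹) * q) := by group
      _ = (g * c * g⁻¹) * q := by rw [h3]; group
  have hc'Q : g * c * g⁻¹ ∈ Q := hlarge.1 hc'CQ
  have h5 := eq_one_of_mem_of_mem hQp hR hc'Q hc'R
  have : c = g⁻¹ * (g * c * g⁻¹) * g := by group
  rw [this, h5]; group

theorem mem_of_pow_mem {G : Type*} [Group G] (H : Subgroup G) (b : G) (p n : ℕ) (hp : 1 < p)
    (hb : b ^ p = 1) (hn : Nat.Coprime n p) (h : b ^ n ∈ H) : b ∈ H := by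
  obtain ⟨m, -, hm⟩ := Nat.exists_mul_mod_eq_one_of_coprime hn hp
  have : b = (b ^ n) ^ m := by
    rw [← pow_mul, pow_eq_pow_mod _ hb, hm, pow_one]
  rw [this]; exact H.pow_mem h m

theorem val_coprime {p : ℕ} [hp : Fact p.Prime] (i : ZMod p) (hi : i ≠ 0) :
    Nat.Coprime i.val p := by
  have h1 : i.val < p := ZMod.val_lt i
  have h2 : i.val ≠ 0 := by
    intro h
    exact hi ((ZMod.val_eq_zero i).mp h)
  apply Nat.Coprime.symm
  rw [Nat.Prime.coprime_iff_not_dvd hp.out]
  intro hd
  exact absurd (Nat.le_of_dvd (Nat.pos_of_ne_zero h2) hd) (not_le.mpr h1)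

/-- an elementary abelian `p`-group of order at least `p ^ 2` normalizing a nontrivial subgroup of
order prime to `p` has a maximal subgroup with nontrivial fixed points -/
theorem exists_coatom_centralizer_ne_bot {G : Type*} [Group G] [Finite G] {p : ℕ} [Fact p.Prime]
    (R : Subgroup G) (hR : (Nat.card ↥R).Coprime p) (hR1 : R ≠ ⊥) (U : Subgroup G)
    (hUp : IsPGroup p ↥U) (hUR : U ≤ Subgroup.normalizer (R : Set G))
    (hUel : Cfsg.IsElementaryAbelian p U) (hU2 : p ^ 2 ≤ Nat.card ↥U) :
    ∃ U₀ : Subgroup G, U₀ ≤ U ∧ IsCoatom (U₀.subgroupOf U) ∧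
      R ⊓ Subgroup.centralizer (U₀ : Set G) ≠ ⊥ := by
  classical
  have hp1 : 1 < p := (Fact.out : p.Prime).one_lt
  -- a prime divisor of |R|
  have hcard1 : Nat.card R ≠ 1 := fun h => hR1 (Subgroup.card_eq_one.mp h)
  obtain ⟨q, hq, hqR⟩ := Nat.exists_prime_and_dvd hcard1
  have : Fact q.Prime := ⟨hq⟩
  -- invariant Sylow q-subgroup
  have hcop : (Nat.card U).Coprime (Nat.card R) := by
    obtain ⟨n, hn⟩ := IsPGroup.iff_card.mp hUp
    rw [hn]
    exact Nat.Coprime.pow_left n hR.symm
  have hsolv : Group.IsSolvable U := by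
    have := hUp.isNilpotent
    exact IsNilpotent.to_isSolvable
  obtain ⟨S, hS, hUS⟩ := Cfsg.Agent.Lib.Helper01.exists_invariant_isSylowIn q hUR hcop (Or.inl hsolv)
  obtain ⟨hSR, hSq, hSidx⟩ := hS
  have hS1 : S ≠ ⊥ := by
    intro h
    rw [h, Subgroup.relIndex_bot_left] at hSidx
    exact hSidx hqR
  -- the centre of S
  have hA1 : S ⊓ Subgroup.centralizer (S : Set G) ≠ ⊥ :=
    Cfsg.Agent.Lib.Helper55.inf_centralizer_ne_bot_of_le_normalizer hSq hSq hS1 Subgroup.le_normalizer
  set A := S ⊓ Subgroup.centralizer (S : Set G) with hAdef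
  have hAcomm : ∀ x ∈ A, ∀ y ∈ A, x * y = y * x := by
    intro x hx y hy
    exact Subgroup.mem_centralizer_iff.mp (Subgroup.mem_inf.mp hy).2 x (Subgroup.mem_inf.mp hx).1
  have hAR : A ≤ R := inf_le_left.trans hSR
  have hUcomm : ∀ x ∈ U, ∀ y ∈ U, x * y = y * x := by
    intro x hx y hy
    have := hUel.1.is_comm.comm (⟨x, hx⟩ : U) ⟨y, hy⟩
    exact congrArg Subtype.val this
  have hUA : U ≤ Subgroup.normalizer (A : Set G) := by
    intro u hu
    have h1 := hUS hu
    have h2 := Cfsg.Agent.Lib.Helper55.normalizer_le_normalizer_centralizer S h1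
    rw [Subgroup.mem_normalizer_iff] at h1 h2 ⊢
    intro n
    rw [hAdef, Subgroup.mem_inf, Subgroup.mem_inf, h1 n, h2 n]
  -- the family of subgroups of U with nontrivial fixed points on A
  let 𝒰 : Set (Subgroup G) := {X | X ≤ U ∧ A ⊓ Subgroup.centralizer (X : Set G) ≠ ⊥}
  have h𝒰ne : 𝒰.Nonempty := by
    refine ⟨⊥, bot_le, ?_⟩
    have : Subgroup.centralizer (((⊥ : Subgroup G)) : Set G) = ⊤ := by
      rw [eq_top_iff]
      intro x _
      rw [Subgroup.mem_centralizer_iff]
      intro h hh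
      have : h = 1 := Subgroup.mem_bot.mp hh
      rw [this]; simp
    rw [this, inf_top_eq]; exact hA1
  obtain ⟨U₁, hU₁⟩ := Set.Finite.exists_maximal (Set.toFinite 𝒰) h𝒰ne
  obtain ⟨⟨hU₁U, hU₁A⟩, hU₁max⟩ := hU₁
  -- reduce to finding a coatom
  suffices hsuff : ∃ U₀ : Subgroup G, U₀ ≤ U ∧ IsCoatom (U₀.subgroupOf U) ∧
      A ⊓ Subgroup.centralizer (U₀ : Set G) ≠ ⊥ by
    obtain ⟨U₀, h1, h2, h3⟩ := hsuff
    refine ⟨U₀, h1, h2, ?_⟩
    intro h
    apply h3
    rw [eq_bot_iff, ← h]
    exact inf_le_inf_right _ hAR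
  have hUnt : (⊥ : Subgroup U) ≠ ⊤ := by
    intro h
    have h1 : Nat.card (⊤ : Subgroup U) = 1 := by rw [← h]; exact Subgroup.card_bot
    rw [Subgroup.card_top] at h1
    rw [h1] at hU2
    have : 2 ^ 2 ≤ p ^ 2 := Nat.pow_le_pow_left hp1 2
    omega
  by_cases hU₁eq : U₁ = U
  · -- any coatom works
    rcases eq_top_or_exists_le_coatom (⊥ : Subgroup U) with h | ⟨M, hM, -⟩
    · exact absurd h hUnt
    · refine ⟨M.map U.subtype, Subgroup.map_subtype_le M, ?_, ?_⟩
      · have : (M.map U.subtype).subgroupOf U = M :=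
          Subgroup.comap_map_eq_self_of_injective U.subtype_injective M
        rw [this]; exact hM
      · intro h
        apply hU₁A
        rw [eq_bot_iff, ← h]
        apply inf_le_inf_left
        apply Subgroup.centralizer_le
        rw [hU₁eq]
        exact_mod_cast Subgroup.map_subtype_le M
  · have hne : U₁.subgroupOf U ≠ ⊤ := by
      intro h
      exact hU₁eq (le_antisymm hU₁U (Subgroup.subgroupOf_eq_top.mp h))
    rcases eq_top_or_exists_le_coatom (U₁.subgroupOf U) with h | ⟨M, hM, hU₁M⟩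
    · exact absurd h hne
    · have hMU : (M.map U.subtype).subgroupOf U = M :=
        Subgroup.comap_map_eq_self_of_injective U.subtype_injective M
      have hU₁U₀ : U₁ ≤ M.map U.subtype := by
        have := Subgroup.map_mono (f := U.subtype) hU₁M
        rwa [Subgroup.map_subgroupOf_eq_of_le hU₁U] at this
      have hU₀U : M.map U.subtype ≤ U := Subgroup.map_subtype_le M
      refine ⟨M.map U.subtype, hU₀U, by rw [hMU]; exact hM, ?_⟩
      by_cases hU₀eq : M.map U.subtype = U₁
      · rw [hU₀eq]; exact hU₁A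
      · exfalso
        have hlt : U₁ < M.map U.subtype := lt_of_le_of_ne hU₁U₀ (Ne.symm hU₀eq)
        obtain ⟨a, haU₀, haU₁⟩ := SetLike.exists_of_lt hlt
        have hlt2 : M.map U.subtype < U := by
          apply lt_of_le_of_ne hU₀U
          intro h
          apply hM.1
          rw [← hMU, h]
          exact Subgroup.subgroupOf_self U
        obtain ⟨b, hbU, hbU₀⟩ := SetLike.exists_of_lt hlt2
        have haU : a ∈ U := hU₀U haU₀
        set W := A ⊓ Subgroup.centralizer (U₁ : Set G) with hWdef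
        have hUW : U ≤ Subgroup.normalizer (W : Set G) := by
          intro u hu
          have h1 := hUA hu
          rw [Subgroup.mem_normalizer_iff] at h1 ⊢
          intro n
          have hn1 : n ∈ W ↔ n ∈ A ∧ n ∈ Subgroup.centralizer (U₁ : Set G) := by
            rw [hWdef]; exact Subgroup.mem_inf
          have hn2 : u * n * u⁻¹ ∈ W ↔
              u * n * u⁻¹ ∈ A ∧ u * n * u⁻¹ ∈ Subgroup.centralizer (U₁ : Set G) := by
            rw [hWdef]; exact Subgroup.mem_inf
          rw [hn1, hn2, ← h1 n]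
          apply and_congr Iff.rfl
          rw [Subgroup.mem_centralizer_iff, Subgroup.mem_centralizer_iff]
          constructor
          · intro hn h hh
            have e1 : h * u = u * h := hUcomm h (hU₁U hh) u hu
            have e2 : h * u⁻¹ = u⁻¹ * h := by
              calc h * u⁻¹ = u⁻¹ * (u * h) * u⁻¹ := by group
                _ = u⁻¹ * (h * u) * u⁻¹ := by rw [e1]
                _ = u⁻¹ * h := by group
            calc h * (u * n * u⁻¹) = (h * u) * n * u⁻¹ := by group
              _ = u * (h * n) * u⁻¹ := by rw [e1]; group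
              _ = u * (n * h) * u⁻¹ := by rw [hn h hh]
              _ = u * n * (h * u⁻¹) := by group
              _ = u * n * u⁻¹ * h := by rw [e2]; group
          · intro hn h hh
            have e1 : h * u = u * h := hUcomm h (hU₁U hh) u hu
            have e2 : h * u⁻¹ = u⁻¹ * h := by
              calc h * u⁻¹ = u⁻¹ * (u * h) * u⁻¹ := by group
                _ = u⁻¹ * (h * u) * u⁻¹ := by rw [e1]
                _ = u⁻¹ * h := by group
            have e3 := hn h hh
            calc h * n = u⁻¹ * ((u * h) * n * u⁻¹) * u := by group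
              _ = u⁻¹ * (h * (u * n * u⁻¹)) * u := by rw [← e1]; group
              _ = u⁻¹ * (u * n * u⁻¹ * h) * u := by rw [e3]
              _ = n * (u⁻¹ * h * u) := by group
              _ = n * h := by rw [← e2]; group
        have hWcomm : ∀ x ∈ W, ∀ y ∈ W, x * y = y * x := by
          intro x hx y hy
          exact hAcomm x (Subgroup.mem_inf.mp hx).1 y (Subgroup.mem_inf.mp hy).1
        let _ : CommGroup W :=
          { (inferInstance : Group W) with
            mul_comm := fun x y => Subtype.ext (hWcomm x.1 x.2 y.1 y.2) }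
        have key : ∀ w : W, w ^ p = 1 := by
          intro w
          refine Cfsg.Agent.Lib.Helper29.pow_eq_one_of_fpf p
            (⟨a, hUW haU⟩ : Subgroup.normalizer (W : Set G)) ⟨b, hUW hbU⟩ ?_ ?_ ?_ ?_ w
          · exact Subtype.ext (hUcomm a haU b hbU)
          · exact Subtype.ext (by simpa using hUel.2 a haU)
          · exact Subtype.ext (by simpa using hUel.2 b hbU)
          · intro i j hij w hw
            set c := a ^ i.val * b ^ j.val with hcdef
            have hcU : c ∈ U := U.mul_mem (U.pow_mem haU _) (U.pow_mem hbU _)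
            have hcU₁ : c ∉ U₁ := by
              intro hc
              by_cases hj : j = 0
              · have hi : i ≠ 0 := by
                  rcases hij with h | h
                  · exact h
                  · exact absurd hj h
                rw [hcdef, hj, ZMod.val_zero, pow_zero, mul_one] at hc
                exact haU₁ (mem_of_pow_mem U₁ a p i.val hp1 (hUel.2 a haU) (val_coprime i hi) hc)
              · have h1 : c ∈ M.map U.subtype := hU₁U₀ hc
                have h2 : b ^ j.val ∈ M.map U.subtype := by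
                  have : b ^ j.val = (a ^ i.val)⁻¹ * c := by rw [hcdef]; group
                  rw [this]
                  exact Subgroup.mul_mem _ (Subgroup.inv_mem _ (Subgroup.pow_mem _ haU₀ _)) h1
                exact hbU₀ (mem_of_pow_mem _ b p j.val hp1 (hUel.2 b hbU) (val_coprime j hj) h2)
            -- the subgroup generated by U₁ and c has no fixed points
            have hX : U₁ ⊔ Subgroup.zpowers c ∉ 𝒰 := by
              intro hX
              have := hU₁max hX le_sup_left
              exact hcU₁ (this (Subgroup.mem_sup_right (Subgroup.mem_zpowers c)))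
            have hXU : U₁ ⊔ Subgroup.zpowers c ≤ U :=
              sup_le hU₁U (by rw [Subgroup.zpowers_le]; exact hcU)
            have hX0 : A ⊓ Subgroup.centralizer ((U₁ ⊔ Subgroup.zpowers c : Subgroup G) : Set G) = ⊥ := by
              by_contra h
              exact hX ⟨hXU, h⟩
            have hwc : c * (w : G) * c⁻¹ = (w : G) := by
              have := congrArg Subtype.val hw
              exact this
            have hwmem : (w : G) ∈ A ⊓ Subgroup.centralizer ((U₁ ⊔ Subgroup.zpowers c : Subgroup G) : Set G) := by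
              rw [Cfsg.Agent.Lib.Helper57.centralizer_sup_eq, ← inf_assoc]
              refine Subgroup.mem_inf.mpr ⟨w.2, ?_⟩
              rw [Subgroup.mem_centralizer_iff]
              intro h hh
              obtain ⟨k, rfl⟩ := Subgroup.mem_zpowers_iff.mp hh
              have hcw : Commute c (w : G) := by
                show c * (w : G) = (w : G) * c
                calc c * (w : G) = (c * (w : G) * c⁻¹) * c := by group
                  _ = (w : G) * c := by rw [hwc]
              exact (hcw.zpow_left k).eq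
            rw [hX0, Subgroup.mem_bot] at hwmem
            exact Subtype.ext hwmem
        apply hU₁A
        rw [eq_bot_iff]
        intro w hw
        rw [Subgroup.mem_bot]
        have h1 := key ⟨w, hw⟩
        have h2 : w ^ p = 1 := by
          have := congrArg Subtype.val h1
          simpa using this
        have h3 : orderOf w ∣ p := orderOf_dvd_of_pow_eq_one h2
        have h4 : orderOf w ∣ Nat.card R :=
          Subgroup.orderOf_dvd_natCard R (hAR (Subgroup.mem_inf.mp hw).1)
        have h5 : orderOf w ∣ 1 := by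
          have := Nat.dvd_gcd h4 h3
          rwa [hR] at this
        exact orderOf_eq_one_iff.mp (Nat.dvd_one.mp h5)

/-- Let G be a finite group, p a prime and Q a large p-subgroup of G: C_G(Q) ≤ Q and N_G(U) ≤ N_G(Q) for every nontrivial subgroup U of C_G(Q). Let Q ≤ G₁ ≤ G, let R be a subgroup of order prime to p normalized by G₁, and let U ≤ G₁ be a p-subgroup. If U contains a nontrivial element which is G₁-conjugate to an element of Z(Q), then C_R(U) = 1. In particular, if U is elementary abelian of order at least p² and every maximal subgroup of U contains a nontrivial element G₁-conjugate into Z(Q), then R = 1. -/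
theorem result {G : Type*} [Group G] [Finite G] {p : ℕ} [Fact p.Prime] (Q : Subgroup G) (hQp : IsPGroup p ↥Q) (hlarge : Cfsg.IsLarge Q) (G₁ : Subgroup G) (hQG : Q ≤ G₁) (R : Subgroup G) (hR : (Nat.card ↥R).Coprime p) (hGR : G₁ ≤ Subgroup.normalizer (R : Set G)) (U : Subgroup G) (hUG : U ≤ G₁) (hUp : IsPGroup p ↥U) : ((∃ x ∈ U, x ≠ 1 ∧ ∃ g ∈ G₁, g * x * g⁻¹ ∈ Q ⊓ Subgroup.centralizer (Q : Set G)) → R ⊓ Subgroup.centralizer (U : Set G) = ⊥) ∧ (Cfsg.IsElementaryAbelian p U → p ^ 2 ≤ Nat.card ↥U → (∀ U₀ : Subgroup G, U₀ ≤ U → IsCoatom (U₀.subgroupOf U) → ∃ x ∈ U₀, x ≠ 1 ∧ ∃ g ∈ G₁, g * x * g⁻¹ ∈ Q ⊓ Subgroup.centralizer (Q : Set G)) → R = ⊥) := by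
  refine ⟨fun h => partA Q hQp hlarge G₁ hQG R hR hGR U h, ?_⟩
  intro hUel hU2 hall
  by_contra hR1
  obtain ⟨U₀, hU₀U, hU₀co, hU₀ne⟩ :=
    exists_coatom_centralizer_ne_bot R hR hR1 U hUp (hUG.trans hGR) hUel hU2
  exact hU₀ne (partA Q hQp hlarge G₁ hQG R hR hGR U₀ (hall U₀ hU₀U hU₀co))

end Cfsg.Agent.S3003
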