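import Mathlib
import Cfsg.Statements.S3009
import Cfsg.Agent.Lib.Helper07.SL2Sylow
import Cfsg.Agent.Lib.Helper71.SL2NaturalC

set_option autoImplicit false
open Cfsg

namespace Cfsg.Agent.S3009

open Matrix Cfsg.Agent.Lib.Helper07 Cfsg.Agent.Lib.Helper71.SL2Natural
open scoped Pointwise commutatorElement

/-- conjugation action on `Additive V` through a homomorphism into the normalizer of `V`. -/
@[reducible] def conjDMA {X Γ : Type*} [Group X] [Group Γ] (V : Subgroup X) (f : Γ →* X)
    (hf : ∀ g, f g ∈ Subgroup.normalizer (V : Set X)) : DistribMulAction Γ (Additive V) where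
  smul g v := Additive.ofMul ⟨f g * ((Additive.toMul v : V) : X) * (f g)⁻¹,
    (Subgroup.mem_normalizer_iff.mp (hf g) _).mp (Additive.toMul v).2⟩
  one_smul v := by
    apply Additive.toMul.injective
    apply Subtype.ext
    change f 1 * ((Additive.toMul v : V) : X) * (f 1)⁻¹ = ((Additive.toMul v : V) : X)
    simp
  mul_smul g h v := by
    apply Additive.toMul.injective
    apply Subtype.ext
    change f (g * h) * ((Additive.toMul v : V) : X) * (f (g * h))⁻¹ =
      f g * (f h * ((Additive.toMul v : V) : X) * (f h)⁻¹) * (f g)⁻¹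
    simp [mul_assoc]
  smul_zero g := by
    apply Additive.toMul.injective
    apply Subtype.ext
    change f g * ((1 : V) : X) * (f g)⁻¹ = ((1 : V) : X)
    simp
  smul_add g v w := by
    apply Additive.toMul.injective
    apply Subtype.ext
    change f g * (((Additive.toMul v * Additive.toMul w : V)) : X) * (f g)⁻¹ =
      (f g * ((Additive.toMul v : V) : X) * (f g)⁻¹) * (f g * ((Additive.toMul w : V) : X) * (f g)⁻¹)
    simp [mul_assoc]

/-- Let p be a prime and let G and V be subgroups of a finite group with V elementary abelian and normalized by G, and G isomorphic to SL₂(F) for a finite field F with pⁿ elements. Suppose G acts irreducibly and nontrivially on V by conjugation (no G-invariant subgroups of V other than 1 and V, and [V, G] ≠ 1), and let S be a Sylow p-subgroup of G and V₀ = C_V(S). If [V, S, S] = 1 or |V| ≤ |V₀|², then G acts on V as SL₂(F) on its natural two-dimensional module; in particular |V| = |F|². -/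
theorem result {X : Type*} [Group X] [Finite X] {p : ℕ} [Fact p.Prime] (G V : Subgroup X) (hV : Cfsg.IsElementaryAbelian p V) (hGV : G ≤ Subgroup.normalizer (V : Set X)) (F : Type) [Field F] [Fintype F] (n : ℕ) (hF : Fintype.card F = p ^ n) (hG : Nonempty (↥G ≃* Matrix.SpecialLinearGroup (Fin 2) F)) (hirr : ∀ U : Subgroup X, U ≤ V → G ≤ Subgroup.normalizer (U : Set X) → U = ⊥ ∨ U = V) (hnt : ⁅V, G⁆ ≠ ⊥) (S : Sylow p ↥G) (hyp : ⁅⁅V, (S : Subgroup ↥G).map G.subtype⁆, (S : Subgroup ↥G).map G.subtype⁆ = ⊥ ∨ Nat.card ↥V ≤ Nat.card ↥(V ⊓ Subgroup.centralizer (((S : Subgroup ↥G).map G.subtype : Subgroup X) : Set X)) ^ 2) : Cfsg.ActsAsSL2OnSection F ⊤ G V ⊥ := by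
  classical
  obtain ⟨e⟩ := hG
  have hcharP : CharP F p := charP_of_card_eq_prime_pow hF
  have hVc := hV.1
  have hVp := hV.2
  -- move the Sylow subgroup to the upper unitriangular group
  let S₁ : Sylow p (SpecialLinearGroup (Fin 2) F) :=
    S.comapOfInjective e.symm.toMonoidHom e.symm.injective
      (fun x _ => ⟨e x, e.symm_apply_apply x⟩)
  obtain ⟨c, hc⟩ := MulAction.exists_smul_eq (SpecialLinearGroup (Fin 2) F) S₁ (sylUSL p)
  let e' : ↥G ≃* SpecialLinearGroup (Fin 2) F := e.trans (MulAut.conj c)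
  have hK : ∀ x : SpecialLinearGroup (Fin 2) F,
      x ∈ (USL : Subgroup (SpecialLinearGroup (Fin 2) F)) ↔ e'.symm x ∈ (S : Subgroup ↥G) := by
    intro x
    have h1 : (USL : Subgroup (SpecialLinearGroup (Fin 2) F)) =
        MulAut.conj c • (S₁ : Subgroup (SpecialLinearGroup (Fin 2) F)) := by
      rw [← Sylow.coe_subgroup_smul, hc, sylUSL_coe]
    rw [h1, Subgroup.mem_pointwise_smul_iff_inv_smul_mem]
    rfl
  let f : SpecialLinearGroup (Fin 2) F →* X := G.subtype.comp e'.symm.toMonoidHom
  have hf : ∀ g, f g ∈ Subgroup.normalizer (V : Set X) := fun g => hGV (e'.symm g).2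
  have hfe : ∀ (g : X) (hg : g ∈ G), f (e' ⟨g, hg⟩) = g := by
    intro g hg
    change ((e'.symm (e' ⟨g, hg⟩) : ↥G) : X) = g
    rw [MulEquiv.symm_apply_apply]
  let cg : CommGroup ↥V := { (inferInstance : Group ↥V) with mul_comm := fun a b => mul_comm' a b }
  let act : DistribMulAction (SpecialLinearGroup (Fin 2) F) (Additive ↥V) := conjDMA V f hf
  have hsmul : ∀ (g : SpecialLinearGroup (Fin 2) F) (v : Additive ↥V),
      ((Additive.toMul (g • v) : ↥V) : X) = f g * ((Additive.toMul v : ↥V) : X) * (f g)⁻¹ :=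
    fun _ _ => rfl
  -- the Sylow subgroup in `X`
  set T : Subgroup X := (S : Subgroup ↥G).map G.subtype with hT
  have hT1 : ∀ t : F, f (upSL t) ∈ T := fun t =>
    ⟨e'.symm (upSL t), (hK _).mp (upSL_mem t), rfl⟩
  have hT2 : ∀ x ∈ T, ∃ t : F, x = f (upSL t) := by
    rintro x ⟨s, hs, rfl⟩
    have h1 : e' s ∈ (USL : Subgroup (SpecialLinearGroup (Fin 2) F)) := by
      rw [hK, MulEquiv.symm_apply_apply]; exact hs
    obtain ⟨t, ht⟩ := mem_USL.mp h1
    refine ⟨t, ?_⟩
    change ((s : ↥G) : X) = ((e'.symm (upSL t) : ↥G) : X)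
    rw [ht, MulEquiv.symm_apply_apply]
  have hfix : ∀ m : Additive ↥V, m ∈ (stdPair (F := F)).fixA (Additive ↥V) ↔
      ((Additive.toMul m : ↥V) : X) ∈ Subgroup.centralizer (T : Set X) := by
    intro m
    constructor
    · intro h
      rw [Subgroup.mem_centralizer_iff]
      intro x hx
      obtain ⟨t, rfl⟩ := hT2 x hx
      have h2 := congrArg (fun w : Additive ↥V => ((Additive.toMul w : ↥V) : X)) (h t)
      beta_reduce at h2
      change ((Additive.toMul (upSL t • m) : ↥V) : X) = _ at h2
      rw [hsmul, mul_inv_eq_iff_eq_mul] at h2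
      exact h2
    · intro h t
      apply Additive.toMul.injective
      apply Subtype.ext
      change ((Additive.toMul (upSL t • m) : ↥V) : X) = _
      rw [hsmul]
      have h2 := (Subgroup.mem_centralizer_iff.mp h) (f (upSL t)) (hT1 t)
      rw [h2, mul_inv_cancel_right]
  -- irreducibility
  have hirrM : ∀ N : AddSubgroup (Additive ↥V),
      (∀ g : SpecialLinearGroup (Fin 2) F, ∀ m ∈ N, g • m ∈ N) → N = ⊥ ∨ N = ⊤ := by
    intro N hN
    let U : Subgroup X :=
      { carrier := {x | ∃ h : x ∈ V, Additive.ofMul (⟨x, h⟩ : ↥V) ∈ N}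
        one_mem' := ⟨V.one_mem, N.zero_mem⟩
        mul_mem' := fun {a b} ⟨ha, ha'⟩ ⟨hb, hb'⟩ => ⟨V.mul_mem ha hb, N.add_mem ha' hb'⟩
        inv_mem' := fun {a} ⟨ha, ha'⟩ => ⟨V.inv_mem ha, N.neg_mem ha'⟩ }
    have hU_le : U ≤ V := fun x ⟨h, _⟩ => h
    have hfwd : ∀ g ∈ G, ∀ x ∈ U, g * x * g⁻¹ ∈ U := by
      rintro g hg x ⟨hx, hxN⟩
      have h1 := hN (e' ⟨g, hg⟩) _ hxN
      have hmem : g * x * g⁻¹ ∈ V := (Subgroup.mem_normalizer_iff.mp (hGV hg) x).mp hx
      refine ⟨hmem, ?_⟩
      have h2 : Additive.ofMul (⟨g * x * g⁻¹, hmem⟩ : ↥V) =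
          e' ⟨g, hg⟩ • Additive.ofMul (⟨x, hx⟩ : ↥V) := by
        apply Additive.toMul.injective
        apply Subtype.ext
        rw [hsmul, hfe]
        rfl
      rw [h2]; exact h1
    have hU_norm : G ≤ Subgroup.normalizer (U : Set X) := by
      intro g hg
      rw [Subgroup.mem_normalizer_iff]
      intro x
      refine ⟨hfwd g hg x, fun h => ?_⟩
      have := hfwd g⁻¹ (G.inv_mem hg) _ h
      simpa [mul_assoc] using this
    rcases hirr U hU_le hU_norm with h0 | h1
    · left
      rw [AddSubgroup.eq_bot_iff_forall]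
      intro m hm
      have : ((Additive.toMul m : ↥V) : X) ∈ U := ⟨(Additive.toMul m).2, hm⟩
      rw [h0, Subgroup.mem_bot] at this
      apply Additive.toMul.injective
      exact Subtype.ext this
    · right
      rw [AddSubgroup.eq_top_iff']
      intro m
      have : ((Additive.toMul m : ↥V) : X) ∈ U := by rw [h1]; exact (Additive.toMul m).2
      obtain ⟨_, h2⟩ := this
      exact h2
  -- nontriviality
  have hntM : ∃ (g : SpecialLinearGroup (Fin 2) F) (m : Additive ↥V), g • m ≠ m := by
    by_contra hcon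
    push Not at hcon
    apply hnt
    rw [Subgroup.commutator_eq_bot_iff_le_centralizer]
    intro v hv
    rw [Subgroup.mem_centralizer_iff]
    intro g hg
    have h1 := hcon (e' ⟨g, hg⟩) (Additive.ofMul ⟨v, hv⟩)
    have h2 := congrArg (fun w : Additive ↥V => ((Additive.toMul w : ↥V) : X)) h1
    beta_reduce at h2
    rw [hsmul, hfe, mul_inv_eq_iff_eq_mul] at h2
    exact h2
  -- exponent `p`
  have hpM : ∀ m : Additive ↥V, p • m = 0 := by
    intro m
    apply Additive.toMul.injective
    apply Subtype.ext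
    change (((Additive.toMul m : ↥V) ^ p : ↥V) : X) = 1
    rw [Subgroup.coe_pow]
    exact hVp _ (Additive.toMul m).2
  -- the hypothesis
  have hypM : (∀ (m : Additive ↥V) (t : F),
        upSL t • m - m ∈ (stdPair (F := F)).fixA (Additive ↥V)) ∨
      Nat.card (Additive ↥V) ≤ Nat.card ((stdPair (F := F)).fixA (Additive ↥V)) ^ 2 := by
    rcases hyp with h | h
    · left
      intro m t
      rw [hfix]
      have h1 : ⁅V, T⁆ ≤ Subgroup.centralizer (T : Set X) :=
        Subgroup.commutator_eq_bot_iff_le_centralizer.mp h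
      have h2 : ⁅f (upSL t), ((Additive.toMul m : ↥V) : X)⁆ ∈ ⁅V, T⁆ := by
        rw [Subgroup.commutator_comm]
        exact Subgroup.commutator_mem_commutator (hT1 t) (Additive.toMul m).2
      have h3 : ((Additive.toMul (upSL t • m - m) : ↥V) : X) =
          ⁅f (upSL t), ((Additive.toMul m : ↥V) : X)⁆ := by
        change (((Additive.toMul (upSL t • m) : ↥V) / (Additive.toMul m : ↥V) : ↥V) : X) = _
        rw [Subgroup.coe_div, div_eq_mul_inv, commutatorElement_def, hsmul]
      rw [h3]
      exact h1 h2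
    · right
      have h1 : Nat.card ↥(V ⊓ Subgroup.centralizer (T : Set X)) ≤
          Nat.card ((stdPair (F := F)).fixA (Additive ↥V)) := by
        apply Nat.card_le_card_of_injective
          (fun x : ↥(V ⊓ Subgroup.centralizer (T : Set X)) =>
            (⟨Additive.ofMul (⟨x.1, x.2.1⟩ : ↥V), (hfix _).mpr x.2.2⟩ :
              (stdPair (F := F)).fixA (Additive ↥V)))
        intro x y hxy
        have h2 := congrArg (fun w : (stdPair (F := F)).fixA (Additive ↥V) =>
          ((Additive.toMul w.1 : ↥V) : X)) hxy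
        exact Subtype.ext h2
      calc Nat.card (Additive ↥V) = Nat.card ↥V := rfl
        _ ≤ Nat.card ↥(V ⊓ Subgroup.centralizer (T : Set X)) ^ 2 := h
        _ ≤ _ := Nat.pow_le_pow_left h1 2
  obtain ⟨Θ, hΘ⟩ := natural_of_irreducible (p := p) (F := F) (M := Additive ↥V)
    hirrM hntM hpM hypM
  have hΘs : ∀ (g : SpecialLinearGroup (Fin 2) F) (m : Additive ↥V),
      Θ.symm (g • m) = g.val.mulVec (Θ.symm m) := by
    intro g m
    rw [AddEquiv.symm_apply_eq, hΘ, AddEquiv.apply_symm_apply]
  let ψ : ↥V →* Multiplicative (Fin 2 → F) :=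
    { toFun := fun v => Multiplicative.ofAdd (Θ.symm (Additive.ofMul v))
      map_one' := by
        change Multiplicative.ofAdd (Θ.symm 0) = 1
        rw [map_zero]; rfl
      map_mul' := fun a b => by
        change Multiplicative.ofAdd (Θ.symm (Additive.ofMul a + Additive.ofMul b)) = _
        rw [map_add]; rfl }
  have hψ : ∀ v : ↥V, ψ v = Multiplicative.ofAdd (Θ.symm (Additive.ofMul v)) := fun _ => rfl
  refine ⟨hGV, bot_le, e'.toMonoidHom, ψ, MonoidHom.range_eq_top.mpr e'.surjective, ?_, ?_, ?_⟩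
  · intro w
    refine ⟨Additive.toMul (Θ (Multiplicative.toAdd w)), ?_⟩
    rw [hψ]
    change Multiplicative.ofAdd (Θ.symm (Θ (Multiplicative.toAdd w))) = w
    rw [AddEquiv.symm_apply_apply]; rfl
  · intro u
    rw [hψ, Subgroup.mem_bot]
    constructor
    · intro h
      have h1 : Θ.symm (Additive.ofMul u) = 0 := Multiplicative.ofAdd.injective h
      have h2 : Additive.ofMul u = 0 := by
        rw [← Θ.symm.map_zero] at h1
        exact Θ.symm.injective h1
      have h3 : u = 1 := Additive.ofMul.injective h2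
      rw [h3]; rfl
    · intro h
      have h3 : u = 1 := Subtype.ext h
      rw [h3]
      change Multiplicative.ofAdd (Θ.symm 0) = 1
      rw [map_zero]; rfl
  · intro e₀ u
    refine ⟨Additive.toMul (e' e₀ • Additive.ofMul u), ?_, ?_⟩
    · rw [hsmul]
      have := hfe e₀.1 e₀.2
      rw [show (⟨e₀.1, e₀.2⟩ : ↥G) = e₀ from rfl] at this
      rw [this]; rfl
    · rw [hψ, hψ]
      change Θ.symm (e' e₀ • Additive.ofMul u) = _
      rw [hΘs]
      rfl

end Cfsg.Agent.S3009
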