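import Cfsg.Statements.S3011
import Cfsg.Agent.S0200
-- import your own Cfsg.Agent.* helpers here

set_option autoImplicit false
open Cfsg

namespace Cfsg.Agent.S3011

section aux
variable {G : Type*} [Group G]

theorem eq_one_of_odd_of_sq {u : G} (hu : Odd (orderOf u)) (h : u * u = 1) : u = 1 := by
  have h1 : orderOf u ∣ 2 := orderOf_dvd_of_pow_eq_one (by rw [pow_two]; exact h)
  have h2 : Nat.Coprime (orderOf u) 2 := Nat.coprime_two_right.mpr hu
  exact orderOf_eq_one_iff.mp (Nat.Coprime.eq_one_of_dvd h2 h1)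

theorem commute_of_commute_sq {u d : G} (hu : Odd (orderOf u)) (h : Commute d (u * u)) :
    Commute d u := by
  obtain ⟨k, hk⟩ := hu
  have h1 : (u * u) ^ (k + 1) = u := by
    rw [← pow_two, ← pow_mul]
    have : 2 * (k + 1) = orderOf u + 1 := by omega
    rw [this, pow_succ, pow_orderOf_eq_one, one_mul]
  rw [← h1]
  exact h.pow_right _

/-- an element of odd order inverting (by conjugation) an element of odd order: impossible
unless trivial -/
theorem eq_one_of_odd_inverts {s h : G} (hs : Odd (orderOf s)) (hh : Odd (orderOf h))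
    (hinv : s * h * s⁻¹ = h⁻¹) : h = 1 := by
  -- `s * s` commutes with `h`
  have h1 : Commute h (s * s) := by
    show h * (s * s) = s * s * h
    have : s * s * h * (s * s)⁻¹ = h := by
      calc s * s * h * (s * s)⁻¹ = s * (s * h * s⁻¹) * s⁻¹ := by group
        _ = s * h⁻¹ * s⁻¹ := by rw [hinv]
        _ = (s * h * s⁻¹)⁻¹ := by group
        _ = h := by rw [hinv, inv_inv]
    calc h * (s * s) = (s * s * h * (s * s)⁻¹) * (s * s) := by rw [this]
      _ = s * s * h := by group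
  have h2 : Commute h s := commute_of_commute_sq hs h1
  have h3 : h = h⁻¹ := by
    calc h = s * h * s⁻¹ := by rw [← h2.eq]; group
      _ = h⁻¹ := hinv
  apply eq_one_of_odd_of_sq hh
  nth_rewrite 2 [h3]; group

/-- The main computation. -/
theorem main_aux (V : Subgroup G) (hS : Cfsg.IsSidkiPair V) {s s' : G} (hs : s ∈ V) (hs' : s' ∈ V)
    (hss' : s * s' = s' * s)
    (hV4 : ∀ w ∈ V, w = 1 ∨ w = s ∨ w = s' ∨ w = s * s')
    {h h' : G} (hh : Odd (orderOf h)) (hh' : Odd (orderOf h')) (hh1 : h ≠ 1) (hh'1 : h' ≠ 1)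
    (hsh : s * h * s⁻¹ = h) (hs'h : s' * h * s'⁻¹ = h⁻¹)
    (hs'h' : s' * h' * s'⁻¹ = h') (hsh' : s * h' * s⁻¹ = h'⁻¹) : False := by
  have hyh : (s * s') * h * (s * s')⁻¹ = h⁻¹ := by
    calc (s * s') * h * (s * s')⁻¹ = s * (s' * h * s'⁻¹) * s⁻¹ := by group
      _ = (s * h * s⁻¹)⁻¹ := by rw [hs'h]; group
      _ = h⁻¹ := by rw [hsh]
  have hyh' : (s * s') * h' * (s * s')⁻¹ = h'⁻¹ := by
    calc (s * s') * h' * (s * s')⁻¹ = s * (s' * h' * s'⁻¹) * s⁻¹ := by group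
      _ = h'⁻¹ := by rw [hs'h', hsh']
  -- `e = h' * h * h'⁻¹` is inverted by `s'`
  have he_odd : Odd (orderOf (h' * h * h'⁻¹)) := by
    have := (MulAut.conj h').orderOf_eq h
    rw [MulAut.conj_apply] at this
    rw [this]; exact hh
  have he1 : h' * h * h'⁻¹ ≠ 1 := by
    intro he
    apply hh1
    calc h = h'⁻¹ * (h' * h * h'⁻¹) * h' := by group
      _ = 1 := by rw [he]; group
  have hconj : ∀ d : G, d * (h' * h * h'⁻¹) * d⁻¹ =
      (d * h' * d⁻¹) * (d * h * d⁻¹) * (d * h' * d⁻¹)⁻¹ := by intro d; group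
  have hs'e : s' * (h' * h * h'⁻¹) * s'⁻¹ = (h' * h * h'⁻¹)⁻¹ := by
    rw [hconj, hs'h', hs'h]; group
  obtain ⟨w, hwV, hw1, hwe⟩ := hS _ s' hs' he_odd hs'e
  have hwe' : w * (h' * h * h'⁻¹) * w⁻¹ = h' * h * h'⁻¹ := by rw [hwe]; group
  rcases hV4 w hwV with hw | hw | hw | hw
  · exact hw1 hw
  · -- `w = s` : then `h` and `h'` commute
    rw [hw, hconj, hsh', hsh] at hwe'
    have hc2 : Commute h (h' * h') := by
      show h * (h' * h') = h' * h' * h
      calc h * (h' * h') = h' * (h'⁻¹ * h * h'⁻¹⁻¹) * h' := by group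
        _ = h' * (h' * h * h'⁻¹) * h' := by rw [hwe']
        _ = h' * h' * h := by group
    have hc : Commute h h' := commute_of_commute_sq hh' hc2
    -- `r = h * h'` has odd order and is inverted by `s * s'`
    have hr_odd : Odd (orderOf (h * h')) := by
      have hdvd : orderOf (h * h') ∣ orderOf h * orderOf h' := by
        apply orderOf_dvd_of_pow_eq_one
        rw [hc.mul_pow, pow_mul, pow_orderOf_eq_one, one_pow, mul_comm (orderOf h), pow_mul,
          pow_orderOf_eq_one, one_pow, one_mul]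
      exact Odd.of_dvd_nat (hh.mul hh') hdvd
    have hyr : (s * s') * (h * h') * (s * s')⁻¹ = (h * h')⁻¹ := by
      calc (s * s') * (h * h') * (s * s')⁻¹
          = ((s * s') * h * (s * s')⁻¹) * ((s * s') * h' * (s * s')⁻¹) := by group
        _ = h⁻¹ * h'⁻¹ := by rw [hyh, hyh']
        _ = (h' * h)⁻¹ := by group
        _ = (h * h')⁻¹ := by rw [hc.eq]
    obtain ⟨w', hw'V, hw'1, hw'r⟩ := hS _ (s * s') (V.mul_mem hs hs') hr_odd hyr
    have hw'r' : w' * (h * h') * w'⁻¹ = h * h' := by rw [hw'r]; group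
    have hconj2 : ∀ d : G, d * (h * h') * d⁻¹ = (d * h * d⁻¹) * (d * h' * d⁻¹) := by
      intro d; group
    rcases hV4 w' hw'V with hw' | hw' | hw' | hw'
    · exact hw'1 hw'
    · -- `s` : `h * h'⁻¹ = h * h'`
      rw [hw', hconj2, hsh, hsh'] at hw'r'
      have : h'⁻¹ = h' := mul_left_cancel hw'r'
      apply hh'1
      apply eq_one_of_odd_of_sq hh'
      nth_rewrite 1 [← this]; group
    · -- `s'` : `h⁻¹ * h' = h * h'`
      rw [hw', hconj2, hs'h, hs'h'] at hw'r'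
      have : h⁻¹ = h := mul_right_cancel hw'r'
      apply hh1
      apply eq_one_of_odd_of_sq hh
      nth_rewrite 1 [← this]; group
    · -- `s * s'` : `r⁻¹ = r`
      rw [hw', hyr] at hw'r'
      have hr1 : h * h' = 1 := by
        apply eq_one_of_odd_of_sq hr_odd
        nth_rewrite 1 [← hw'r']; group
      -- then `h' = h⁻¹` is centralized and inverted by `s`
      have hh'eq : h' = h⁻¹ := eq_inv_of_mul_eq_one_right hr1
      rw [hh'eq] at hsh'
      have h5 : s * h⁻¹ * s⁻¹ = h⁻¹ := by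
        calc s * h⁻¹ * s⁻¹ = (s * h * s⁻¹)⁻¹ := by group
          _ = h⁻¹ := by rw [hsh]
      rw [h5, inv_inv] at hsh'
      apply hh1
      apply eq_one_of_odd_of_sq hh
      nth_rewrite 1 [← hsh']; group
  · -- `w = s'` : `e⁻¹ = e`
    rw [hw, hs'e] at hwe'
    apply he1
    apply eq_one_of_odd_of_sq he_odd
    nth_rewrite 1 [← hwe']; group
  · -- `w = s * s'`
    rw [hw, hconj, hyh', hyh] at hwe'
    -- `h'⁻¹ * h⁻¹ * h' = h' * h * h'⁻¹`
    have h6 : (h' * h')⁻¹ * h * (h' * h')⁻¹⁻¹ = h⁻¹ := by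
      calc (h' * h')⁻¹ * h * (h' * h')⁻¹⁻¹ = h'⁻¹ * (h'⁻¹ * h⁻¹ * h'⁻¹⁻¹)⁻¹ * h' := by
            simp only [mul_inv_rev, inv_inv, mul_assoc]
        _ = h'⁻¹ * (h' * h * h'⁻¹)⁻¹ * h' := by rw [hwe']
        _ = h⁻¹ := by group
    have hodd2 : Odd (orderOf (h' * h')⁻¹) := by
      rw [orderOf_inv, ← pow_two]
      exact Odd.of_dvd_nat hh' (orderOf_pow_dvd 2)
    exact hh1 (eq_one_of_odd_inverts hodd2 hh h6)

end aux

/-- Let G be a finite group and V a nontrivial elementary abelian 2-subgroup of G of order at most 4 such that, whenever an element of V inverts an element h of G of odd order, some nontrivial element of V commutes with h. Then V meets O₂(G) nontrivially. (The case of order at most 4 has a short argument from the Baer–Suzuki theorem.) -/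
theorem result {G : Type*} [Group G] [Finite G] (V : Subgroup G) (hV : Cfsg.IsElementaryAbelian 2 V) (hV1 : V ≠ ⊥) (hS : Cfsg.IsSidkiPair V) (h4 : Nat.card V ≤ 4) : V ⊓ Cfsg.pCore 2 G ≠ ⊥ := by
  have hfact : Fact (Nat.Prime 2) := ⟨Nat.prime_two⟩
  by_contra hcon
  obtain ⟨hVc, hVe⟩ := hV
  have hsq : ∀ v ∈ V, v * v = 1 := fun v hv => by rw [← pow_two]; exact hVe v hv
  have hcomm : ∀ v ∈ V, ∀ w ∈ V, v * w = w * v := by
    intro v hv w hw
    exact congrArg Subtype.val (hVc.is_comm.comm ⟨v, hv⟩ ⟨w, hw⟩)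
  have hinv : ∀ v ∈ V, v⁻¹ = v := fun v hv => inv_eq_of_mul_eq_one_left (hsq v hv)
  have hord : ∀ v ∈ V, v ≠ 1 → orderOf v = 2 := fun v hv hv1 =>
    orderOf_eq_prime (hVe v hv) hv1
  have hO : ∀ v ∈ V, v ≠ 1 → ∀ N : Subgroup G, N.Normal → IsPGroup 2 N → v ∉ N := by
    intro v hv hv1 N hN hNp hvN
    have hle : N ≤ Cfsg.pCore 2 G := le_sSup ⟨hN, hNp⟩
    have hmem : v ∈ V ⊓ Cfsg.pCore 2 G := ⟨hv, hle hvN⟩
    rw [hcon] at hmem
    exact hv1 (Subgroup.mem_bot.mp hmem)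
  -- each nonidentity `t ∈ V` inverts some `h`, centralized by some other `w ∈ V`
  have hstep : ∀ t ∈ V, t ≠ 1 → ∃ h : G, h ≠ 1 ∧ Odd (orderOf h) ∧ t * h * t⁻¹ = h⁻¹ ∧
      ∃ w ∈ V, w ≠ 1 ∧ w ≠ t ∧ w * h * w⁻¹ = h := by
    intro t ht ht1
    obtain ⟨h, hh1, hh, hth⟩ := Cfsg.Agent.S0200.result t (hord t ht ht1) (hO t ht ht1)
    obtain ⟨w, hw, hw1, hwh⟩ := hS h t ht hh hth
    refine ⟨h, hh1, hh, hth, w, hw, hw1, ?_, by rw [hwh]; group⟩
    rintro rfl
    have h3 : h⁻¹ = h := by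
      calc h⁻¹ = w * h * w⁻¹ := hth.symm
        _ = h := by rw [hwh]; group
    apply hh1
    apply eq_one_of_odd_of_sq hh
    nth_rewrite 1 [← h3]; group
  obtain ⟨⟨x, hx⟩, hx1⟩ := (Subgroup.ne_bot_iff_exists_ne_one).mp hV1
  have hx1' : x ≠ 1 := fun h => hx1 (Subtype.ext h)
  obtain ⟨h₁, hh₁1, hh₁, hxh₁, w₁, hw₁, hw₁1, hw₁x, hw₁h₁⟩ := hstep x hx hx1'
  obtain ⟨h₂, hh₂1, hh₂, hw₁h₂, w₂, hw₂, hw₂1, hw₂w₁, hw₂h₂⟩ := hstep w₁ hw₁ hw₁1
  -- the four elements of `V`
  have four : ∀ s ∈ V, ∀ s' ∈ V, s ≠ 1 → s' ≠ 1 → s ≠ s' →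
      ∀ w ∈ V, w = 1 ∨ w = s ∨ w = s' ∨ w = s * s' := by
    intro s hs s' hs' hs1 hs'1 hne w hw
    by_contra hnot
    push Not at hnot
    obtain ⟨n1, n2, n3, n4⟩ := hnot
    have hss'1 : s * s' ≠ 1 := by
      intro h
      apply hne
      have := eq_inv_of_mul_eq_one_left h
      rw [this, hinv s' hs']
    have hss's : s * s' ≠ s := by
      intro h
      apply hs'1
      have : s * s' = s * 1 := by rw [h, mul_one]
      exact mul_left_cancel this
    have hss's' : s * s' ≠ s' := by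
      intro h
      apply hs1
      have : s * s' = 1 * s' := by rw [h, one_mul]
      exact mul_right_cancel this
    let f : Fin 5 → ↥V := ![1, ⟨s, hs⟩, ⟨s', hs'⟩, ⟨s * s', V.mul_mem hs hs'⟩, ⟨w, hw⟩]
    have hf : Function.Injective f := by
      intro i j hij
      have hv : ((f i : ↥V) : G) = ((f j : ↥V) : G) := congrArg Subtype.val hij
      fin_cases i <;> fin_cases j <;> first | rfl | (exfalso; simp [f] at hv; first | exact hs1 hv | exact hs1 hv.symm | exact hs'1 hv | exact hs'1 hv.symm | exact hne hv | exact hne hv.symm | exact hss'1 hv | exact hss'1 hv.symm | exact hss's hv | exact hss's hv.symm | exact hss's' hv | exact hss's' hv.symm | exact n1 hv | exact n1 hv.symm | exact n2 hv | exact n2 hv.symm | exact n3 hv | exact n3 hv.symm | exact n4 hv | exact n4 hv.symm)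
    have hfin : Finite ↥V := inferInstance
    have := Nat.card_le_card_of_injective f hf
    rw [Nat.card_fin] at this
    omega
  have hV4 := four w₁ hw₁ w₂ hw₂ hw₁1 hw₂1 (Ne.symm hw₂w₁)
  -- `w₂` inverts `h₁`
  have hw₂h₁ : w₂ * h₁ * w₂⁻¹ = h₁⁻¹ := by
    have hV4' := four x hx w₁ hw₁ hx1' hw₁1 (Ne.symm hw₁x) w₂ hw₂
    rcases hV4' with h | h | h | h
    · exact absurd h hw₂1
    · rw [h]; exact hxh₁
    · exact absurd h hw₂w₁
    · rw [h]
      calc x * w₁ * h₁ * (x * w₁)⁻¹ = x * (w₁ * h₁ * w₁⁻¹) * x⁻¹ := by group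
        _ = h₁⁻¹ := by rw [hw₁h₁, hxh₁]
  exact main_aux V hS hw₁ hw₂ (hcomm w₁ hw₁ w₂ hw₂) hV4 hh₁ hh₂ hh₁1 hh₂1 hw₁h₁ hw₂h₁ hw₂h₂ hw₁h₂

end Cfsg.Agent.S3011
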