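import Cfsg.Statements.S3012
import Mathlib.FieldTheory.Finite.Basic
import Mathlib.Data.Nat.Factorization.Basic
import Mathlib.GroupTheory.OrderOfElement

set_option autoImplicit false
open Cfsg

namespace Cfsg.Agent.S3012

/-- an exponent killing the 2-part and congruent to 1 modulo an odd number -/
theorem exists_exponent (N n : ℕ) (hN : N ≠ 0) (hn : Odd n) :
    ∃ e b : ℕ, Odd b ∧ N ∣ e * b ∧ e ≡ 1 [MOD n] := by
  obtain ⟨a, b, hb, hNab⟩ := Nat.exists_eq_two_pow_mul_odd hN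
  have hcop : Nat.Coprime (2 ^ a) n := by
    apply Nat.Coprime.pow_left
    rw [Nat.coprime_two_left]
    exact hn
  refine ⟨(2 ^ a) ^ Nat.totient n, b, hb, ?_, Nat.ModEq.pow_totient hcop⟩
  rw [hNab]
  apply Nat.mul_dvd_mul_right
  have hpos : 0 < Nat.totient n := Nat.totient_pos.mpr hn.pos
  exact dvd_pow_self _ hpos.ne'

/-- Let G be a finite group, V a nontrivial elementary abelian 2-subgroup of G satisfying the Sidki pair condition (every odd-order element inverted by an element of V commutes with a nontrivial element of V), and K a normal subgroup of G with V ∩ K = 1. Then the image of V in G/K satisfies the Sidki pair condition in G/K. -/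
theorem result {G : Type*} [Group G] [Finite G] (V K : Subgroup G) [K.Normal] (hV : Cfsg.IsElementaryAbelian 2 V) (hV1 : V ≠ ⊥) (hS : Cfsg.IsSidkiPair V) (hVK : V ⊓ K = ⊥) : Cfsg.IsSidkiPair (V.map (QuotientGroup.mk' K)) := by
  intro h v hv hodd hinv
  obtain ⟨v₀, hv₀, rfl⟩ := hv
  obtain ⟨h₀, rfl⟩ := QuotientGroup.mk'_surjective K h
  set π := QuotientGroup.mk' K with hπ
  have hv2 : v₀ ^ 2 = 1 := hV.2 v₀ hv₀
  have hvinv : v₀⁻¹ = v₀ := by
    rw [inv_eq_iff_mul_eq_one, ← pow_two, hv2]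
  set n := orderOf (π h₀) with hn
  obtain ⟨m, hm⟩ := hodd
  -- 2 * (m+1) = n + 1
  set c := h₀ ^ (m + 1) with hc
  set t := c⁻¹ * v₀ * c with ht
  set h' := v₀ * t with hh'
  have ht2 : t * t = 1 := by
    rw [ht]
    calc c⁻¹ * v₀ * c * (c⁻¹ * v₀ * c) = c⁻¹ * (v₀ * v₀) * c := by group
      _ = 1 := by rw [← pow_two, hv2]; group
  have htinv : t⁻¹ = t := by rw [inv_eq_iff_mul_eq_one, ht2]
  have hinv' : v₀ * h' * v₀⁻¹ = h'⁻¹ := by
    rw [hh', mul_inv_rev, htinv, hvinv]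
    calc v₀ * (v₀ * t) * v₀ = (v₀ * v₀) * t * v₀ := by group
      _ = t * v₀ := by rw [← pow_two, hv2, one_mul]
  -- image of h'
  have hπh' : π h' = π h₀ := by
    have e1 : π v₀ * π h₀ * (π v₀)⁻¹ = (π h₀)⁻¹ := hinv
    have e2 : (π v₀)⁻¹ = π v₀ := by rw [← map_inv, hvinv]
    have e3 : π v₀ * (π h₀) ^ (m + 1) * (π v₀)⁻¹ = ((π h₀) ^ (m + 1))⁻¹ := by
      rw [← conj_pow, e1, inv_pow]
    have e4 : π v₀ * ((π h₀) ^ (m + 1))⁻¹ * π v₀ = (π h₀) ^ (m + 1) := by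
      calc π v₀ * ((π h₀) ^ (m + 1))⁻¹ * π v₀
          = π v₀ * ((π h₀) ^ (m + 1))⁻¹ * (π v₀)⁻¹ := by rw [e2]
        _ = (π v₀ * (π h₀) ^ (m + 1) * (π v₀)⁻¹)⁻¹ := by group
        _ = (π h₀) ^ (m + 1) := by rw [e3, inv_inv]
    calc π h' = π v₀ * ((π h₀) ^ (m + 1))⁻¹ * π v₀ * (π h₀) ^ (m + 1) := by
          rw [hh', ht, hc]; simp [mul_assoc]
      _ = (π h₀) ^ (m + 1) * (π h₀) ^ (m + 1) := by rw [e4]
      _ = (π h₀) ^ (n + 1) := by rw [← pow_add]; congr 1; omega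
      _ = π h₀ := by rw [pow_succ, hn, pow_orderOf_eq_one, one_mul]
  -- odd part
  have hN : orderOf h' ≠ 0 := (orderOf_pos h').ne'
  obtain ⟨e, b, hb, hdvd, hmod⟩ := exists_exponent (orderOf h') n hN ⟨m, hm⟩
  set h'' := h' ^ e with hh''
  have hodd'' : Odd (orderOf h'') := by
    have : orderOf h'' ∣ b := by
      apply orderOf_dvd_of_pow_eq_one
      rw [hh'', ← pow_mul]
      exact orderOf_dvd_iff_pow_eq_one.mp hdvd
    exact Odd.of_dvd_nat hb this
  have hinv'' : v₀ * h'' * v₀⁻¹ = h''⁻¹ := by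
    rw [hh'', ← conj_pow, hinv', inv_pow]
  have hπh'' : π h'' = π h₀ := by
    rw [hh'', map_pow, hπh']
    have : (π h₀) ^ e = (π h₀) ^ 1 := pow_eq_pow_iff_modEq.mpr hmod
    rw [this, pow_one]
  obtain ⟨w, hwV, hw1, hwc⟩ := hS h'' v₀ hv₀ hodd'' hinv''
  refine ⟨π w, ⟨w, hwV, rfl⟩, ?_, ?_⟩
  · intro hw
    apply hw1
    have hwK : w ∈ K := by
      rw [hπ] at hw
      simpa using hw
    have : w ∈ V ⊓ K := Subgroup.mem_inf.mpr ⟨hwV, hwK⟩
    rw [hVK, Subgroup.mem_bot] at this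
    exact this
  · rw [← hπh'', ← map_mul, ← map_mul, hwc]

end Cfsg.Agent.S3012
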