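import Cfsg.Statements.S3013
import Mathlib.GroupTheory.OrderOfElement
import Mathlib.GroupTheory.Subgroup.Centralizer

set_option autoImplicit false
open Cfsg

namespace Cfsg.Agent.S3013

theorem comm_of_mem {G : Type*} [Group G] (V : Subgroup G) (hV : IsMulCommutative V) {a b : G}
    (ha : a ∈ V) (hb : b ∈ V) : a * b = b * a := by
  have := hV.is_comm.comm (⟨a, ha⟩ : V) ⟨b, hb⟩
  exact congrArg Subtype.val this

theorem commute_of_sq {G : Type*} [Group G] [Finite G] (w h : G) (hodd : Odd (orderOf h))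
    (hc : Commute w (h ^ 2)) : Commute w h := by
  obtain ⟨k, hk⟩ := hodd
  have : h = (h ^ 2) ^ (k + 1) := by
    rw [← pow_mul]
    have : 2 * (k + 1) = orderOf h + 1 := by omega
    rw [this, pow_succ, pow_orderOf_eq_one, one_mul]
  rw [this]
  exact hc.pow_right _

/-- Let G be a finite group and V a nontrivial elementary abelian 2-subgroup of G satisfying the Sidki pair condition. Let v ∈ V and let x be an element of odd order inverted by v, and put C = C_G(v) ∩ C_G(x), the centralizer of the dihedral subgroup generated by v and x. Then C ∩ V is nontrivial and satisfies the Sidki pair condition inside C: every odd-order element of C inverted by an element of C ∩ V commutes with a nontrivial element of C ∩ V. -/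
theorem result {G : Type*} [Group G] [Finite G] (V : Subgroup G) (hV : Cfsg.IsElementaryAbelian 2 V) (hV1 : V ≠ ⊥) (hS : Cfsg.IsSidkiPair V) (v x : G) (hv : v ∈ V) (hx : Odd (orderOf x)) (hinv : v * x * v⁻¹ = x⁻¹) (C : Subgroup G) (hC : C = Subgroup.centralizer ({v} : Set G) ⊓ Subgroup.centralizer ({x} : Set G)) : C ⊓ V ≠ ⊥ ∧ Cfsg.IsSidkiPair ((C ⊓ V).subgroupOf C) := by
  have hVc := hV.1
  have memC : ∀ g : G, g ∈ C ↔ (v * g = g * v ∧ x * g = g * x) := by
    intro g
    rw [hC, Subgroup.mem_inf, Subgroup.mem_centralizer_iff, Subgroup.mem_centralizer_iff]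
    simp
  constructor
  · obtain ⟨w, hwV, hw1, hwx⟩ := hS x v hv hx hinv
    intro hbot
    have hwC : w ∈ C := by
      rw [memC]
      exact ⟨comm_of_mem V hVc hv hwV, hwx.symm⟩
    have : w ∈ C ⊓ V := ⟨hwC, hwV⟩
    rw [hbot, Subgroup.mem_bot] at this
    exact hw1 this
  · intro h u hu hh hinv'
    rw [Subgroup.mem_subgroupOf] at hu
    have huV : (u : G) ∈ V := hu.2
    have hhC := (memC h).mp h.2
    have huC := (memC u).mp u.2
    have hh' : Odd (orderOf (h : G)) := by rwa [Subgroup.orderOf_coe]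
    have hinvG : (u : G) * (h : G) * (u : G)⁻¹ = (h : G)⁻¹ := by
      have := congrArg Subtype.val hinv'
      simpa using this
    have hxh : Commute x (h : G) := hhC.2
    have hvh : Commute v (h : G) := hhC.1
    have hvu : Commute v (u : G) := huC.1
    have hxu : Commute x (u : G) := huC.2
    -- odd order of x * h
    have hodd : Odd (orderOf (x * (h : G))) := by
      have h1 : orderOf (x * (h : G)) ∣ Nat.lcm (orderOf x) (orderOf (h : G)) := hxh.orderOf_mul_dvd_lcm
      have h2 : Nat.lcm (orderOf x) (orderOf (h : G)) ∣ orderOf x * orderOf (h : G) := Nat.lcm_dvd_mul _ _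
      exact Odd.of_dvd_nat (hx.mul hh') (h1.trans h2)
    have hvuV : v * (u : G) ∈ V := V.mul_mem hv huV
    have hinv2 : (v * (u : G)) * (x * (h : G)) * (v * (u : G))⁻¹ = (x * (h : G))⁻¹ := by
      have e1 : (u : G) * x * (u : G)⁻¹ = x := by
        rw [← hxu.eq, mul_assoc, mul_inv_cancel, mul_one]
      have e2 : v * (h : G)⁻¹ * v⁻¹ = (h : G)⁻¹ := by
        rw [(hvh.inv_right).eq, mul_assoc, mul_inv_cancel, mul_one]
      calc (v * (u : G)) * (x * (h : G)) * (v * (u : G))⁻¹
          = v * (((u : G) * x * (u : G)⁻¹) * ((u : G) * (h : G) * (u : G)⁻¹)) * v⁻¹ := by group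
        _ = v * (x * (h : G)⁻¹) * v⁻¹ := by rw [e1, hinvG]
        _ = (v * x * v⁻¹) * (v * (h : G)⁻¹ * v⁻¹) := by group
        _ = x⁻¹ * (h : G)⁻¹ := by rw [hinv, e2]
        _ = (x * (h : G))⁻¹ := by rw [mul_inv_rev, (hxh.inv_inv).eq]
    obtain ⟨w, hwV, hw1, hwxh⟩ := hS (x * (h : G)) (v * (u : G)) hvuV hodd hinv2
    have hwv : Commute w v := comm_of_mem V hVc hwV hv
    have hwxh' : Commute w (x * (h : G)) := hwxh
    -- w commutes with v (x h) v⁻¹ = x⁻¹ h
    have e3 : v * (x * (h : G)) * v⁻¹ = x⁻¹ * (h : G) := by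
      calc v * (x * (h : G)) * v⁻¹ = (v * x * v⁻¹) * (v * (h : G) * v⁻¹) := by group
        _ = x⁻¹ * (h : G) := by rw [hinv, hvh.eq, mul_assoc, mul_inv_cancel, mul_one]
    have hw2 : Commute w (x⁻¹ * (h : G)) := by
      rw [← e3]
      exact (hwv.mul_right hwxh').mul_right hwv.inv_right
    have e4 : (x * (h : G)) * (x⁻¹ * (h : G)) = (h : G) ^ 2 := by
      rw [hxh.eq, mul_assoc, mul_inv_cancel_left, pow_two]
    have hw3 : Commute w ((h : G) ^ 2) := by
      rw [← e4]; exact hwxh'.mul_right hw2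
    have hwh : Commute w (h : G) := commute_of_sq w h hh' hw3
    have hwx : Commute w x := by
      have : x = (x * (h : G)) * (h : G)⁻¹ := by group
      rw [this]
      exact hwxh'.mul_right hwh.inv_right
    have hwC : w ∈ C := by
      rw [memC]
      exact ⟨hwv.symm.eq, hwx.symm.eq⟩
    refine ⟨⟨w, hwC⟩, ?_, ?_, ?_⟩
    · rw [Subgroup.mem_subgroupOf]
      exact ⟨hwC, hwV⟩
    · intro h1
      apply hw1
      exact congrArg Subtype.val h1
    · apply Subtype.ext
      simpa using hwh.eq

end Cfsg.Agent.S3013
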