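import Cfsg.Statements.S3014
import Cfsg.Agent.Lib.Helper57.TransferFix
import Mathlib.GroupTheory.SpecificGroups.Cyclic

set_option autoImplicit false
open Cfsg

namespace Cfsg.Agent.S3014

open Cfsg.Agent.Lib.Helper57

/-- intermediate subgroups between a coatom `H` of `M` and `M` -/
theorem eq_or_eq_of_coatom {G : Type*} [Group G] {H M : Subgroup G} (hHM : H ≤ M)
    (hmaxH : IsCoatom (H.subgroupOf M)) (L : Subgroup G) (hHL : H ≤ L) (hLM : L ≤ M) :
    L = H ∨ L = M := by
  have h1 : H.subgroupOf M ≤ L.subgroupOf M := Subgroup.subgroupOf_mono M hHL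
  rcases eq_or_lt_of_le h1 with h | h
  · left
    rw [Subgroup.subgroupOf_inj, inf_eq_left.mpr hHM, inf_eq_left.mpr hLM] at h
    exact h.symm
  · right
    have := hmaxH.2 _ h
    rw [Subgroup.subgroupOf_eq_top] at this
    exact le_antisymm hLM this

/-- Let G be a finite group and H ≤ M ≤ G subgroups such that for every g ∈ G the subgroup generated by H and g H g⁻¹ meets M exactly in H. If H is a maximal subgroup of M and M is a maximal subgroup of G, then the normal closure of H in G meets M exactly in H. -/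
theorem result {G : Type*} [Group G] [Finite G] (H M : Subgroup G) (hHM : H ≤ M) (hcl : ∀ g : G, (H ⊔ H.map (MulAut.conj g).toMonoidHom) ⊓ M = H) (hmaxH : IsCoatom (H.subgroupOf M)) (hmaxM : IsCoatom M) : Subgroup.normalClosure (H : Set G) ⊓ M = H := by
  classical
  -- Step 1
  have step1 : ∀ g : G, H.map (MulAut.conj g).toMonoidHom ≤ M →
      g ∈ Subgroup.normalizer (H : Set G) := by
    intro g hg
    have h1 : H ⊔ H.map (MulAut.conj g).toMonoidHom ≤ M := sup_le hHM hg
    have h2 := hcl g
    rw [inf_eq_left.mpr h1] at h2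
    have h3 : H.map (MulAut.conj g).toMonoidHom ≤ H := by
      calc H.map (MulAut.conj g).toMonoidHom ≤ H ⊔ H.map (MulAut.conj g).toMonoidHom := le_sup_right
        _ = H := h2
    apply Subgroup.mem_normalizer_fintype
    intro n hn
    exact h3 ⟨n, hn, by simp⟩
  have hMN : M ≤ Subgroup.normalizer (H : Set G) := by
    intro m hm
    apply step1
    rintro _ ⟨h, hh, rfl⟩
    simp only [MulEquiv.coe_toMonoidHom, MulAut.conj_apply]
    exact M.mul_mem (M.mul_mem hm (hHM hh)) (M.inv_mem hm)
  suffices hK : ∃ K : Subgroup G, K.Normal ∧ H ≤ K ∧ K ⊓ M ≤ H by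
    obtain ⟨K, hKn, hHK, hKM⟩ := hK
    apply le_antisymm
    · exact (inf_le_inf_right M (Subgroup.normalClosure_le_normal hHK)).trans hKM
    · exact le_inf Subgroup.le_normalClosure hHM
  by_cases hHn : H.Normal
  · exact ⟨H, hHn, le_rfl, inf_le_left⟩
  have hNM : Subgroup.normalizer (H : Set G) = M := by
    by_contra hne
    have : Subgroup.normalizer (H : Set G) = ⊤ := hmaxM.2 _ (lt_of_le_of_ne hMN (Ne.symm hne))
    exact hHn (Subgroup.normalizer_eq_top_iff.mp this)
  by_cases hA : ∃ g : G, g ∉ M ∧ ¬ (M ⊓ M.map (MulAut.conj g).toMonoidHom ≤ H)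
  · -- Case A
    obtain ⟨g, hgM, hD⟩ := hA
    set D := M ⊓ M.map (MulAut.conj g).toMonoidHom with hDdef
    set Hg := H.map (MulAut.conj g).toMonoidHom with hHg
    set T := H ⊔ Hg with hT
    have hTM : T ⊓ M = H := hcl g
    have hDM : D ≤ M := inf_le_left
    have hDH : D ⊔ H = M := by
      rcases eq_or_eq_of_coatom hHM hmaxH (D ⊔ H) le_sup_right (sup_le hDM hHM) with h | h
      · exact absurd (le_sup_left.trans (le_of_eq h)) hD
      · exact h
    have hHgM : ¬ Hg ≤ M := by
      intro h
      have := step1 g h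
      rw [hNM] at this
      exact hgM this
    have hMHg : M ⊔ Hg = ⊤ := by
      apply hmaxM.2
      apply lt_of_le_of_ne le_sup_left
      intro h
      apply hHgM
      rw [h]
      exact le_sup_right
    have hDT : D ⊔ T = ⊤ := by
      rw [eq_top_iff, ← hMHg, ← hDH, hT]
      apply sup_le (sup_le le_sup_left (le_sup_left.trans le_sup_right))
        (le_sup_right.trans le_sup_right)
    have hDNH : D ≤ Subgroup.normalizer (H : Set G) := hDM.trans hMN
    have hDNHg : D ≤ Subgroup.normalizer (Hg : Set G) := by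
      have h1 : M.map (MulAut.conj g).toMonoidHom ≤
          (Subgroup.normalizer (H : Set G)).map (MulAut.conj g).toMonoidHom :=
        Subgroup.map_mono hMN
      exact inf_le_right.trans (h1.trans (Subgroup.le_normalizer_map _))
    have hDNT : D ≤ Subgroup.normalizer (T : Set G) := by
      intro d hd
      rw [Subgroup.mem_normalizer_iff_map_conj_eq, hT, Subgroup.map_sup]
      have e1 := Subgroup.mem_normalizer_iff_map_conj_eq.mp (hDNH hd)
      have e2 := Subgroup.mem_normalizer_iff_map_conj_eq.mp (hDNHg hd)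
      rw [e1, e2]
    have hTn : T.Normal := by
      rw [← Subgroup.normalizer_eq_top_iff, eq_top_iff, ← hDT]
      exact sup_le hDNT Subgroup.le_normalizer
    exact ⟨T, hTn, le_sup_left, le_of_eq hTM⟩
  · -- Case B
    have hB : ∀ g : G, g ∉ M → M ⊓ M.map (MulAut.conj g).toMonoidHom ≤ H := by
      intro g hg
      by_contra h
      exact hA ⟨g, hg, h⟩
    set H' : Subgroup ↥M := H.subgroupOf M with hH'
    have hH'n : H'.Normal := by
      rw [hH', Subgroup.normal_subgroupOf_iff_le_normalizer hHM]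
      exact hMN
    -- M / H' is cyclic
    have hcyc : IsCyclic (↥M ⧸ H') := by
      have hne : H' ≠ ⊤ := hmaxH.1
      obtain ⟨x, -, hx⟩ := SetLike.exists_of_lt (lt_top_iff_ne_top.mpr hne)
      have htop : H' ⊔ Subgroup.zpowers x = ⊤ := by
        apply hmaxH.2
        apply lt_of_le_of_ne le_sup_left
        intro h
        apply hx
        rw [h]
        exact Subgroup.mem_sup_right (Subgroup.mem_zpowers x)
      refine ⟨QuotientGroup.mk x, fun y => ?_⟩
      induction y using QuotientGroup.induction_on with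
      | H y =>
      have hy : y ∈ H' ⊔ Subgroup.zpowers x := by rw [htop]; trivial
      rw [Subgroup.mem_sup_of_normal_left] at hy
      obtain ⟨h, hh, z, hz, rfl⟩ := hy
      obtain ⟨i, rfl⟩ := Subgroup.mem_zpowers_iff.mp hz
      refine Subgroup.mem_zpowers_iff.mpr ⟨i, ?_⟩
      rw [QuotientGroup.mk_mul, (QuotientGroup.eq_one_iff h).mpr hh, one_mul]
      rfl
    letI : CommGroup (↥M ⧸ H') := IsCyclic.commGroup
    let φ : ↥M →* ↥M ⧸ H' := QuotientGroup.mk' H'
    have hφ : ∀ a : G, a ∉ M → ∀ y : G, y ∈ M → ∀ h : a⁻¹ * y * a ∈ M,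
        φ ⟨a⁻¹ * y * a, h⟩ = 1 := by
      intro a ha y hy h
      have h1 : a⁻¹ * y * a ∈ M ⊓ M.map (MulAut.conj a⁻¹).toMonoidHom := by
        refine Subgroup.mem_inf.mpr ⟨h, y, hy, ?_⟩
        simp
      have h2 : a⁻¹ * y * a ∈ H := hB a⁻¹ (fun h' => ha (by simpa using M.inv_mem h')) h1
      show (QuotientGroup.mk' H') ⟨a⁻¹ * y * a, h⟩ = 1
      rw [QuotientGroup.mk'_apply, QuotientGroup.eq_one_iff, hH', Subgroup.mem_subgroupOf]
      exact h2
    have hV : ∀ m : G, ∀ hm : m ∈ M, MonoidHom.transfer φ m = φ ⟨m, hm⟩ :=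
      fun m hm => transfer_eq_of_forall M φ hφ m hm
    refine ⟨(MonoidHom.transfer φ).ker, inferInstance, ?_, ?_⟩
    · intro h hh
      rw [MonoidHom.mem_ker, hV h (hHM hh)]
      show (QuotientGroup.mk' H') ⟨h, hHM hh⟩ = 1
      rw [QuotientGroup.mk'_apply, QuotientGroup.eq_one_iff, hH', Subgroup.mem_subgroupOf]
      exact hh
    · intro m hm
      obtain ⟨hmK, hmM⟩ := Subgroup.mem_inf.mp hm
      rw [MonoidHom.mem_ker, hV m hmM] at hmK
      have : (QuotientGroup.mk' H') ⟨m, hmM⟩ = 1 := hmK
      rw [QuotientGroup.mk'_apply, QuotientGroup.eq_one_iff, hH', Subgroup.mem_subgroupOf] at this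
      exact this

end Cfsg.Agent.S3014
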