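import Cfsg.Statements.S3020
import Cfsg.Agent.Lib.Helper57.Isolated
import Cfsg.Agent.Lib.Helper57.PPrimeCore
import Mathlib.GroupTheory.Transfer

set_option autoImplicit false
open Cfsg

namespace Cfsg.Agent.S3020

open Cfsg.Agent.Lib.Helper57

/-- Let G be a finite group, p a prime and H an abelian p-subgroup of G that is extremely closed (for every g, the subgroup generated by H and g H g⁻¹ meets N_G(H) exactly in H). Then for every g ∈ G, the subgroup T generated by H and g H g⁻¹ is the product of H with O_{p'}(T), and H meets O_{p'}(T) trivially; that is, O_{p'}(T) is a normal p-complement of H in T. -/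
theorem result {G : Type*} [Group G] [Finite G] {p : ℕ} [Fact p.Prime] (H : Subgroup G) (hHp : IsPGroup p H) (hHab : IsMulCommutative H) (hcl : Cfsg.IsExtremelyClosed H) (g : G) (T : Subgroup G) (hT : T = H ⊔ H.map (MulAut.conj g).toMonoidHom) : H ⊔ (Cfsg.pPrimeCore p ↥T).map T.subtype = T ∧ H ⊓ (Cfsg.pPrimeCore p ↥T).map T.subtype = ⊥ := by
  have hp : p.Prime := Fact.out
  have hHT : H ≤ T := by rw [hT]; exact le_sup_left
  set H' : Subgroup ↥T := H.subgroupOf T with hH'
  have hH'p : IsPGroup p H' := hHp.comap_of_injective T.subtype T.subtype_injective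
  have hself : Subgroup.normalizer ((H' : Subgroup ↥T) : Set ↥T) = H' := by
    rw [hH', ← Subgroup.subgroupOf_normalizer_eq hHT]
    have := hcl g
    rw [← hT] at this
    rw [← Subgroup.inf_subgroupOf_left, this]
  obtain ⟨S, hS⟩ := hH'p.exists_le_sylow
  have hSH : (S : Subgroup ↥T) ≤ H' :=
    le_of_normalizer_inf_le S.2 hS (by rw [hself]; exact inf_le_left)
  have hSeq : (S : Subgroup ↥T) = H' := le_antisymm hSH hS
  have hcomm : IsMulCommutative ↥H' := by rw [hH']; infer_instance
  have hNC : Subgroup.normalizer ((S : Subgroup ↥T) : Set ↥T) ≤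
      Subgroup.centralizer ((S : Subgroup ↥T) : Set ↥T) := by
    rw [hSeq, hself]
    exact Subgroup.le_centralizer_iff_isMulCommutative.mpr hcomm
  set K := (MonoidHom.transferSylow S hNC).ker with hK
  have hcompl : K.IsComplement' (S : Subgroup ↥T) := MonoidHom.ker_transferSylow_isComplement' S hNC
  have hKnd : ¬ p ∣ Nat.card K := MonoidHom.not_dvd_card_ker_transferSylow S hNC
  have hKO : K ≤ Cfsg.pPrimeCore p ↥T :=
    le_pPrimeCore' K ((Nat.Prime.coprime_iff_not_dvd hp).mpr hKnd).symm
  have hO := pPrimeCore_card_coprime' p ↥T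
  set O := Cfsg.pPrimeCore p ↥T with hOdef
  have hmapH : H'.map T.subtype = H := by
    rw [hH', Subgroup.subgroupOf_map_subtype, inf_eq_left.mpr hHT]
  constructor
  · have h1 : H' ⊔ O = ⊤ := by
      rw [eq_top_iff, ← hcompl.sup_eq_top, hSeq, sup_comm]
      exact sup_le_sup_left hKO _
    have h2 := congrArg (Subgroup.map T.subtype) h1
    rw [Subgroup.map_sup, hmapH, ← MonoidHom.range_eq_map, Subgroup.range_subtype] at h2
    exact h2
  · have h1 : H' ⊓ O = ⊥ := by
      apply Subgroup.inf_eq_bot_of_coprime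
      obtain ⟨n, hn⟩ := IsPGroup.iff_card.mp hH'p
      rw [hn]
      exact Nat.Coprime.pow_left n hO.symm
    rw [eq_bot_iff]
    intro a ha
    obtain ⟨haH, o, hoO, rfl⟩ := Subgroup.mem_inf.mp ha
    have : o ∈ H' ⊓ O := by
      refine Subgroup.mem_inf.mpr ⟨?_, hoO⟩
      rw [hH', Subgroup.mem_subgroupOf]
      exact haH
    rw [h1, Subgroup.mem_bot] at this
    rw [this]
    simp

end Cfsg.Agent.S3020
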