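import Cfsg.Statements.S3021
import Mathlib.GroupTheory.Nilpotent

set_option autoImplicit false
open Cfsg

namespace Cfsg.Agent.S3021

theorem key {G : Type*} [Group G] [Finite G] {p : ℕ} [Fact p.Prime] (H : Subgroup G)
    (hcl : Cfsg.IsExtremelyClosed H) (g : G)
    (hT : IsPGroup p ↥(H ⊔ H.map (MulAut.conj g).toMonoidHom)) :
    H ⊔ H.map (MulAut.conj g).toMonoidHom ≤ H := by
  set T := H ⊔ H.map (MulAut.conj g).toMonoidHom with hTdef
  have hHT : H ≤ T := le_sup_left
  have hnil : Group.IsNilpotent ↥T := hT.isNilpotent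
  have hnc : NormalizerCondition ↥T := Group.normalizerCondition_of_isNilpotent
  rw [normalizerCondition_iff_only_full_group_self_normalizing] at hnc
  have h1 : Subgroup.normalizer ((H.subgroupOf T : Subgroup ↥T) : Set ↥T) = H.subgroupOf T := by
    rw [← Subgroup.subgroupOf_normalizer_eq hHT]
    have := hcl g
    rw [← hTdef] at this
    rw [← Subgroup.inf_subgroupOf_left, this]
  have h2 := hnc _ h1
  rwa [Subgroup.subgroupOf_eq_top] at h2

/-- Let G be a finite group, p a prime and H a p-subgroup of G that is extremely closed (for every g, the subgroup generated by H and g H g⁻¹ meets N_G(H) exactly in H). Then every p-subgroup Q of G containing H has N_G(Q) ≤ N_G(H); in particular every Sylow p-subgroup P of G containing H normalizes H, and H is strongly closed in P with respect to G. -/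
theorem result {G : Type*} [Group G] [Finite G] {p : ℕ} [Fact p.Prime] (H : Subgroup G) (hHp : IsPGroup p H) (hcl : Cfsg.IsExtremelyClosed H) : (∀ Q : Subgroup G, IsPGroup p Q → H ≤ Q → Subgroup.normalizer (Q : Set G) ≤ Subgroup.normalizer (H : Set G)) ∧ ∀ P : Sylow p G, H ≤ (P : Subgroup G) → (P : Subgroup G) ≤ Subgroup.normalizer (H : Set G) ∧ Cfsg.IsStronglyClosed H (P : Subgroup G) := by
  have hA : ∀ Q : Subgroup G, IsPGroup p Q → H ≤ Q → Subgroup.normalizer (Q : Set G) ≤ Subgroup.normalizer (H : Set G) := by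
    intro Q hQ hHQ
    rw [Subgroup.le_normalizer_iff]
    intro n hn k hk
    have hmap : H.map (MulAut.conj n).toMonoidHom ≤ Q := by
      rintro _ ⟨y, hy, rfl⟩
      have := (hn y).mp (hHQ hy)
      simpa using this
    have hTQ : H ⊔ H.map (MulAut.conj n).toMonoidHom ≤ Q := sup_le hHQ hmap
    have hT : IsPGroup p ↥(H ⊔ H.map (MulAut.conj n).toMonoidHom) := hQ.to_le hTQ
    have := key H hcl n hT
    apply this
    apply Subgroup.mem_sup_right
    exact ⟨k, hk, by simp⟩
  refine ⟨hA, ?_⟩
  intro P hHP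
  have hPN : (P : Subgroup G) ≤ Subgroup.normalizer (H : Set G) :=
    le_trans Subgroup.le_normalizer (hA P P.isPGroup' hHP)
  refine ⟨hPN, hHP, ?_⟩
  intro x hx g hg
  have h1 : g * x * g⁻¹ ∈ (H ⊔ H.map (MulAut.conj g).toMonoidHom) ⊓ Subgroup.normalizer (H : Set G) := by
    refine ⟨?_, hPN hg⟩
    apply Subgroup.mem_sup_right
    exact ⟨x, hx, by simp⟩
  rw [hcl g] at h1
  exact h1

end Cfsg.Agent.S3021
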