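import Cfsg.Statements.S3023
import Cfsg.Agent.S2897
import Cfsg.Agent.Lib.Helper13.Basic

set_option autoImplicit false
open Cfsg

namespace Cfsg.Agent.S3023

open Cfsg.Agent.Lib.Helper56
open Cfsg.Agent.Lib.Helper54

theorem result {G : Type*} [Group G] [Finite G] {p : ℕ} [Fact p.Prime] (hG : Cfsg.IsOfParabolicCharacteristic p G) (S : Sylow p G) (G₁ : Subgroup G) (hsn : G₁.IsSubnormal) (hne : ((S : Subgroup G) ⊓ G₁) ⊓ Subgroup.centralizer (((S : Subgroup G) ⊓ G₁ : Subgroup G) : Set G) ≠ ⊥) (hle : ((S : Subgroup G) ⊓ G₁) ⊓ Subgroup.centralizer (((S : Subgroup G) ⊓ G₁ : Subgroup G) : Set G) ≤ (S : Subgroup G) ⊓ Subgroup.centralizer ((S : Subgroup G) : Set G)) : Cfsg.IsOfParabolicCharacteristic p ↥G₁ := by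
  classical
  have hp : p.Prime := Fact.out
  -- the Sylow subgroup S ∩ G₁ of G₁
  have hTp : IsPGroup p ↥((S : Subgroup G).subgroupOf G₁) :=
    S.isPGroup'.comap_of_injective G₁.subtype G₁.subtype_injective
  have hTi : ¬ p ∣ ((S : Subgroup G).subgroupOf G₁).index :=
    Cfsg.Agent.Lib.Helper13.not_dvd_relIndex_of_isSubnormal p (S : Subgroup G) G₁ hsn S.not_dvd_index
  set P : Sylow p ↥G₁ := hTp.toSylow hTi with hPdef
  have hP : (P : Subgroup ↥G₁) = (S : Subgroup G).subgroupOf G₁ := rfl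
  -- a nontrivial element
  obtain ⟨w, hw1⟩ := (Subgroup.ne_bot_iff_exists_ne_one).mp hne
  have hwS : (w : G) ∈ (S : Subgroup G) := w.2.1.1
  have hwG₁ : (w : G) ∈ G₁ := w.2.1.2
  have hw1' : (w : G) ≠ 1 := fun h => hw1 (Subtype.ext h)
  have hwo : p ∣ orderOf (w : G) := by
    obtain ⟨k, hk⟩ := (IsPGroup.iff_orderOf.mp S.isPGroup') ⟨(w : G), hwS⟩
    have h1 : orderOf (w : G) = p ^ k := by
      rw [← hk]
      exact Subgroup.orderOf_coe (⟨(w : G), hwS⟩ : ↥(S : Subgroup G))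
    rw [h1]
    cases k with
    | zero =>
      exfalso
      rw [pow_zero] at h1
      exact hw1' (orderOf_eq_one_iff.mp h1)
    | succ k => exact dvd_pow_self p (Nat.succ_ne_zero k)
  have hdiv : p ∣ Nat.card G := hwo.trans (orderOf_dvd_natCard _)
  have hdiv₁ : p ∣ Nat.card ↥G₁ := by
    have h1 : orderOf (⟨(w : G), hwG₁⟩ : ↥G₁) = orderOf (w : G) :=
      (Subgroup.orderOf_coe (⟨(w : G), hwG₁⟩ : ↥G₁)).symm
    rw [← h1] at hwo
    exact hwo.trans (orderOf_dvd_natCard _)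
  rw [(Cfsg.Agent.S2896.result hdiv₁ P ⊥ bot_le).2.1]
  intro z₁ hz1 hzΩ
  obtain ⟨hzP, hzc, hzp⟩ := Cfsg.Agent.S2896.mem_omegaOne_center (p := p) (P : Subgroup ↥G₁) z₁ hzΩ
  rw [genFitting_eq_pCore_iff]
  set z : G := (z₁ : G) with hz
  have hzS : z ∈ (S : Subgroup G) := by
    rw [hP, Subgroup.mem_subgroupOf] at hzP
    exact hzP
  have hz1' : z ≠ 1 := fun h => hz1 (Subtype.ext h)
  have hzp' : z ^ p = 1 := by
    have := congrArg Subtype.val hzp
    simpa using this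
  have hzZ₁ : z ∈ ((S : Subgroup G) ⊓ G₁) ⊓
      Subgroup.centralizer (((S : Subgroup G) ⊓ G₁ : Subgroup G) : Set G) := by
    refine ⟨⟨hzS, z₁.2⟩, ?_⟩
    show z ∈ Subgroup.centralizer (((S : Subgroup G) ⊓ G₁ : Subgroup G) : Set G)
    rw [Subgroup.mem_centralizer_iff]
    intro s hs
    have hsP : (⟨s, hs.2⟩ : ↥G₁) ∈ (P : Subgroup ↥G₁) := by
      rw [hP, Subgroup.mem_subgroupOf]
      exact hs.1
    exact congrArg Subtype.val (hzc _ hsP)
  have hzΩS : z ∈ Cfsg.omegaOne p ((S : Subgroup G) ⊓ Subgroup.centralizer ((S : Subgroup G) : Set G)) :=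
    Subgroup.subset_closure ⟨hle hzZ₁, hzp'⟩
  have hF := (Cfsg.Agent.S2896.result hdiv S ⊥ bot_le).2.1.mp hG z hz1' hzΩS
  rw [genFitting_eq_pCore_iff] at hF
  set C : Subgroup G := Subgroup.centralizer ({z} : Set G) with hC
  have hY := charP_of_isSubnormal hF (G₁.subgroupOf C) hsn.subgroupOf
  have hEq : Subgroup.centralizer ({z₁} : Set ↥G₁) = C.subgroupOf G₁ := by
    ext x
    rw [Subgroup.mem_subgroupOf, hC, Subgroup.mem_centralizer_iff, Subgroup.mem_centralizer_iff]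
    simp only [Set.mem_singleton_iff, forall_eq]
    constructor
    · intro h
      exact congrArg Subtype.val h
    · intro h
      exact Subtype.ext h
  rw [hEq]
  exact charP_of_mulEquiv (Cfsg.Agent.S2897.subgroupOfSwapEquiv G₁ C) hY

end Cfsg.Agent.S3023
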