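import Cfsg.Statements.S3025
import Cfsg.Agent.Lib.Helper97.UniqueOrderP

set_option autoImplicit false
open Cfsg

namespace Cfsg.Agent.S3025

/-- every nontrivial subgroup normalized by `N` contains `H`; hence a nontrivial normal subgroup
of `N` contains all of `N = normalClosure H`. -/
theorem simple_aux {F : Type*} [Group F] [Finite F] (H : Subgroup F)
    (hmin : ∀ R : Subgroup F, R ≠ ⊥ → H ≤ Subgroup.normalizer (R : Set F) → H ≤ R)
    (L : Subgroup F) (hL : L ≠ ⊥)
    (hNL : Subgroup.normalClosure (H : Set F) ≤ Subgroup.normalizer (L : Set F)) :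
    Subgroup.normalClosure (H : Set F) ≤ L := by
  set N := Subgroup.normalClosure (H : Set F) with hN
  have hHN : H ≤ N := Subgroup.le_normalClosure
  have hcore : H ≤ L.normalCore := by
    intro h hh b
    -- the conjugate L' = {x | b x b⁻¹ ∈ L}
    set L' : Subgroup F := L.comap (MulAut.conj b).toMonoidHom with hL'
    have hL'ne : L' ≠ ⊥ := by
      intro hbot
      apply hL
      rw [Subgroup.eq_bot_iff_forall] at hbot ⊢
      intro x hx
      have : b⁻¹ * x * b ∈ L' := by
        rw [hL', Subgroup.mem_comap]
        simpa [mul_assoc] using hx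
      have h1 := hbot _ this
      have : x = b * (b⁻¹ * x * b) * b⁻¹ := by group
      rw [this, h1]; group
    have hnorm : H ≤ Subgroup.normalizer (L' : Set F) := by
      intro k hk
      have hkN : k ∈ N := hHN hk
      have h2 : b * k * b⁻¹ ∈ N := (Subgroup.normalClosure_normal (s := (H : Set F))).conj_mem k hkN b
      have h3 := hNL h2
      rw [Subgroup.mem_normalizer_iff] at h3 ⊢
      intro x
      rw [hL', Subgroup.mem_comap, Subgroup.mem_comap]
      simp only [MulEquiv.coe_toMonoidHom, MulAut.conj_apply]
      rw [h3 (b * x * b⁻¹)]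
      have : b * k * b⁻¹ * (b * x * b⁻¹) * (b * k * b⁻¹)⁻¹ = b * (k * x * k⁻¹) * b⁻¹ := by group
      rw [this]
    have := hmin L' hL'ne hnorm hh
    rw [hL', Subgroup.mem_comap] at this
    simpa using this
  have hnc : N ≤ L.normalCore := Subgroup.normalClosure_le_normal hcore
  exact hnc.trans (Subgroup.normalCore_le L)


theorem simple_N {F : Type*} [Group F] [Finite F] (H : Subgroup F) (hH : H ≠ ⊥)
    (hmin : ∀ R : Subgroup F, R ≠ ⊥ → H ≤ Subgroup.normalizer (R : Set F) → H ≤ R) :
    IsSimpleGroup ↥(Subgroup.normalClosure (H : Set F)) := by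
  set N := Subgroup.normalClosure (H : Set F) with hN
  have hHN : H ≤ N := Subgroup.le_normalClosure
  have hNne : N ≠ ⊥ := fun h => hH (le_bot_iff.mp (h ▸ hHN))
  have hnt : Nontrivial ↥N := (Subgroup.nontrivial_iff_ne_bot N).mpr hNne
  refine ⟨fun L₀ hL₀ => ?_⟩
  by_cases hb : L₀ = ⊥
  · exact Or.inl hb
  · right
    have hL : L₀.map N.subtype ≠ ⊥ := by
      rwa [Ne, Subgroup.map_eq_bot_iff_of_injective _ N.subtype_injective]
    have hNL : N ≤ Subgroup.normalizer ((L₀.map N.subtype : Subgroup F) : Set F) := by
      intro n hn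
      apply Subgroup.mem_normalizer_fintype
      rintro _ ⟨y, hy, rfl⟩
      exact ⟨⟨n, hn⟩ * y * ⟨n, hn⟩⁻¹, hL₀.conj_mem y hy ⟨n, hn⟩, rfl⟩
    have h1 := simple_aux H hmin _ hL hNL
    rw [eq_top_iff]
    intro x _
    obtain ⟨y, hy, hyx⟩ := h1 x.2
    have : y = x := Subtype.ext hyx
    exact this ▸ hy

/-- Let F be a finite group and H a nontrivial subgroup of F that is contained in every nontrivial subgroup of F which H normalizes. Then F has a nontrivial normal subgroup N contained in every nontrivial normal subgroup of F (a unique minimal normal subgroup), N is simple, and one of the following holds: C_F(N) = 1; or H = N has prime order p, C_F(N) is cyclic of order a power of p, and F/C_F(N) is cyclic of order dividing p − 1; or H = N has order 2, N is central in F, and F is a generalized quaternion group. -/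
theorem result {F : Type*} [Group F] [Finite F] (H : Subgroup F) (hH : H ≠ ⊥)
    (hmin : ∀ R : Subgroup F, R ≠ ⊥ → H ≤ Subgroup.normalizer (R : Set F) → H ≤ R) :
    ∃ N : Subgroup F, N.Normal ∧ N ≠ ⊥ ∧ (∀ M : Subgroup F, M.Normal → M ≠ ⊥ → N ≤ M) ∧ IsSimpleGroup ↥N ∧
      (Subgroup.centralizer (N : Set F) = ⊥ ∨
       (H = N ∧ (Nat.card N).Prime ∧ IsCyclic ↥(Subgroup.centralizer (N : Set F)) ∧
          (∃ k : ℕ, 1 ≤ k ∧ Nat.card ↥(Subgroup.centralizer (N : Set F)) = Nat.card N ^ k) ∧
          (∃ g : F, Subgroup.centralizer (N : Set F) ⊔ Subgroup.zpowers g = ⊤) ∧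
          (Subgroup.centralizer (N : Set F)).index ∣ Nat.card N - 1) ∨
       (H = N ∧ Nat.card N = 2 ∧ Subgroup.centralizer (N : Set F) = ⊤ ∧
          ∃ k : ℕ, 1 ≤ k ∧ Nonempty (F ≃* QuaternionGroup (2 ^ k)))) := by
  set N := Subgroup.normalClosure (H : Set F) with hN
  have hNn : N.Normal := Subgroup.normalClosure_normal
  have hHN : H ≤ N := Subgroup.le_normalClosure
  have hNne : N ≠ ⊥ := fun h => hH (le_bot_iff.mp (h ▸ hHN))
  have hsimple : IsSimpleGroup ↥N := simple_N H hH hmin
  have hleast : ∀ M : Subgroup F, M.Normal → M ≠ ⊥ → N ≤ M := by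
    intro M hM hMne
    apply Subgroup.normalClosure_le_normal
    apply hmin M hMne
    rw [Subgroup.normalizer_eq_top_iff.mpr hM]
    exact le_top
  refine ⟨N, hNn, hNne, hleast, hsimple, ?_⟩
  by_cases hC : Subgroup.centralizer (N : Set F) = ⊥
  · exact Or.inl hC
  · right
    have hCn : (Subgroup.centralizer (N : Set F)).Normal := Subgroup.normal_centralizer
    have hNC : N ≤ Subgroup.centralizer (N : Set F) := hleast _ hCn hC
    have hcomm : ∀ x y : N, x * y = y * x := by
      intro x y
      apply Subtype.ext
      have := Subgroup.mem_centralizer_iff.mp (hNC y.2) x x.2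
      exact this
    let _inst : CommGroup ↥N := { (inferInstance : Group ↥N) with mul_comm := hcomm }
    have hprime : (Nat.card ↥N).Prime := IsSimpleGroup.prime_card
    have hfact : Fact (Nat.card ↥N).Prime := ⟨hprime⟩
    have hHeq : H = N := by
      have h1 : (H.subgroupOf N) = ⊥ ∨ (H.subgroupOf N) = ⊤ :=
        Subgroup.eq_bot_or_eq_top_of_prime_card (H.subgroupOf N)
      rcases h1 with h1 | h1
      · exfalso
        rw [Subgroup.subgroupOf_eq_bot, disjoint_iff, inf_of_le_left hHN] at h1
        exact hH h1
      · rw [Subgroup.subgroupOf_eq_top] at h1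
        exact le_antisymm hHN h1
    -- every nontrivial subgroup of C contains N
    have hsub : ∀ R : Subgroup F, R ≠ ⊥ → R ≤ Subgroup.centralizer (N : Set F) → N ≤ R := by
      intro R hR hRC
      have h1 : H ≤ Subgroup.normalizer (R : Set F) := by
        rw [hHeq]
        intro n hn
        apply Subgroup.mem_normalizer_fintype
        intro r hr
        have := Subgroup.mem_centralizer_iff.mp (hRC hr) n hn
        rw [this, mul_inv_cancel_right]
        exact hr
      have := hmin R hR h1
      rwa [hHeq] at this
    -- C is a p-group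
    have hCcard : ∃ k : ℕ, Nat.card ↥(Subgroup.centralizer (N : Set F)) = Nat.card ↥N ^ k := by
      refine ⟨_, Nat.eq_prime_pow_of_unique_prime_dvd Nat.card_pos.ne' ?_⟩
      intro r hr hrd
      have : Fact r.Prime := ⟨hr⟩
      obtain ⟨x, hx⟩ := exists_prime_orderOf_dvd_card' r hrd
      have hx1 : (x : F) ≠ 1 := by
        intro h
        have : x = 1 := Subtype.ext h
        rw [this, orderOf_one] at hx
        exact hr.one_lt.ne hx
      have hR : Subgroup.zpowers (x : F) ≠ ⊥ := by
        rw [Ne, Subgroup.zpowers_eq_bot]; exact hx1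
      have hRC : Subgroup.zpowers (x : F) ≤ Subgroup.centralizer (N : Set F) := by
        rw [Subgroup.zpowers_le]; exact x.2
      have h1 := hsub _ hR hRC
      have h2 : Nat.card ↥N ∣ Nat.card ↥(Subgroup.zpowers (x : F)) := Subgroup.card_dvd_of_le h1
      rw [Nat.card_zpowers, Subgroup.orderOf_coe, hx] at h2
      exact ((Nat.prime_dvd_prime_iff_eq hprime hr).mp h2).symm
    obtain ⟨k, hk⟩ := hCcard
    have hk1 : 1 ≤ k := by
      by_contra hk0
      have : k = 0 := by omega
      rw [this, pow_zero] at hk
      exact hC (Subgroup.card_eq_one.mp hk)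
    have hCp : IsPGroup (Nat.card ↥N) ↥(Subgroup.centralizer (N : Set F)) := IsPGroup.of_card hk
    have huniq : ∀ A B : Subgroup ↥(Subgroup.centralizer (N : Set F)),
        Nat.card A = Nat.card ↥N → Nat.card B = Nat.card ↥N → A = B := by
      have key : ∀ A : Subgroup ↥(Subgroup.centralizer (N : Set F)), Nat.card A = Nat.card ↥N →
          A.map (Subgroup.centralizer (N : Set F)).subtype = N := by
        intro A hA
        have hAne : A.map (Subgroup.centralizer (N : Set F)).subtype ≠ ⊥ := by
          rw [Ne, Subgroup.map_eq_bot_iff_of_injective _ (Subgroup.subtype_injective _)]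
          intro h
          rw [h, Subgroup.card_bot] at hA
          exact hprime.one_lt.ne hA
        have h1 := hsub _ hAne (Subgroup.map_subtype_le _)
        have h2 : Nat.card ↥(A.map (Subgroup.centralizer (N : Set F)).subtype) = Nat.card A :=
          Subgroup.card_map_of_injective (Subgroup.subtype_injective _)
        exact (Subgroup.eq_of_le_of_card_ge h1 (by rw [h2, hA])).symm
      intro A B hA hB
      apply Subgroup.map_injective (Subgroup.subtype_injective (Subgroup.centralizer (N : Set F)))
      rw [key A hA, key B hB]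
    have hcq := Cfsg.Agent.Lib.Helper97.cyclic_or_quaternion_of_unique (Nat.card ↥N) hCp huniq
    -- the action on N
    let ψ : F →* MulAut ↥N := MulAut.conjNormal
    have hker : ψ.ker = Subgroup.centralizer (N : Set F) := by
      ext g
      rw [MonoidHom.mem_ker, Subgroup.mem_centralizer_iff]
      constructor
      · intro hg n hn
        have := congrArg (fun f : MulAut ↥N => ((f ⟨n, hn⟩ : ↥N) : F)) hg
        simp only [ψ, MulAut.conjNormal_apply, MulAut.one_apply] at this
        calc n * g = (g * n * g⁻¹) * g := by rw [this]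
          _ = g * n := by group
      · intro hg
        ext n
        simp only [ψ, MulAut.conjNormal_apply, MulAut.one_apply]
        rw [← hg n n.2, mul_inv_cancel_right]
    have hNcyc : IsCyclic ↥N := isCyclic_of_prime_card rfl
    have hAutcyc : IsCyclic (MulAut ↥N) := by
      have e := IsCyclic.mulAutMulEquiv ↥N
      have : IsCyclic (ZMod (Nat.card ↥N))ˣ := inferInstance
      exact (MulEquiv.isCyclic e).mpr this
    have hrcyc : IsCyclic ψ.range := inferInstance
    have hidx : (Subgroup.centralizer (N : Set F)).index ∣ Nat.card ↥N - 1 := by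
      rw [← hker, Subgroup.index_ker]
      have h1 : Nat.card ψ.range ∣ Nat.card (MulAut ↥N) := Subgroup.card_subgroup_dvd_card _
      rwa [IsCyclic.card_mulAut, Nat.totient_prime hprime] at h1
    have hgen : ∃ g : F, Subgroup.centralizer (N : Set F) ⊔ Subgroup.zpowers g = ⊤ := by
      obtain ⟨⟨_, g, rfl⟩, hg⟩ := IsCyclic.exists_generator (α := ψ.range)
      refine ⟨g, ?_⟩
      rw [eq_top_iff]
      intro x _
      obtain ⟨j, hj⟩ := Subgroup.mem_zpowers_iff.mp (hg ⟨ψ x, x, rfl⟩)
      have hj' : ψ (g ^ j) = ψ x := by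
        have := congrArg Subtype.val hj
        rw [map_zpow]
        simpa using this
      have hmem : x * (g ^ j)⁻¹ ∈ Subgroup.centralizer (N : Set F) := by
        rw [← hker, MonoidHom.mem_ker, map_mul, map_inv, hj', mul_inv_cancel]
      have : x = (x * (g ^ j)⁻¹) * g ^ j := by group
      rw [this]
      exact Subgroup.mul_mem_sup hmem (Subgroup.zpow_mem_zpowers g j)
    by_cases hcyc : IsCyclic ↥(Subgroup.centralizer (N : Set F))
    · exact Or.inl ⟨hHeq, hprime, hcyc, ⟨k, hk1, hk⟩, hgen, hidx⟩
    · right
      rcases hcq with h | ⟨hp2, n, ⟨e⟩⟩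
      · exact absurd h hcyc
      · have hn1 : 1 ≤ n := by
          by_contra hn0
          have hn0' : n = 0 := by omega
          subst hn0'
          rw [pow_zero] at e
          have h1 : IsCyclic (QuaternionGroup 1) := QuaternionGroup.quaternionGroup_one_isCyclic
          exact hcyc ((MulEquiv.isCyclic e).mpr h1)
        have htop : Subgroup.centralizer (N : Set F) = ⊤ := by
          rw [hp2] at hidx
          have : (Subgroup.centralizer (N : Set F)).index = 1 := Nat.dvd_one.mp hidx
          exact Subgroup.index_eq_one.mp this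
        refine ⟨hHeq, hp2, htop, n, hn1, ⟨?_⟩⟩
        exact (Subgroup.topEquiv.symm.trans (MulEquiv.subgroupCongr htop.symm)).trans e

end Cfsg.Agent.S3025
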