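import Cfsg.Statements.S3027
import Mathlib

set_option autoImplicit false
open Cfsg

namespace Cfsg.Agent.S3027

open Subgroup
open scoped commutatorElement

universe u

/-- If `B₁ D = B₂ D = G`, `D ≤ N`, `[B₁,B₂] ≤ N` with `N, D` normal then `G' ≤ N`. -/
theorem commutator_top_le {G : Type u} [Group G] (B₁ B₂ D N : Subgroup G) [D.Normal] [N.Normal]
    (h₁ : B₁ ⊔ D = ⊤) (h₂ : B₂ ⊔ D = ⊤) (hD : D ≤ N) (hB : ⁅B₁, B₂⁆ ≤ N) :
    ⁅(⊤ : Subgroup G), (⊤ : Subgroup G)⁆ ≤ N := by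
  rw [Subgroup.commutator_le]
  intro x _ y _
  have hx : x ∈ B₁ ⊔ D := by rw [h₁]; exact Subgroup.mem_top x
  have hy : y ∈ B₂ ⊔ D := by rw [h₂]; exact Subgroup.mem_top y
  obtain ⟨b₁, hb₁, d₁, hd₁, rfl⟩ := Subgroup.mem_sup_of_normal_right.mp hx
  obtain ⟨b₂, hb₂, d₂, hd₂, rfl⟩ := Subgroup.mem_sup_of_normal_right.mp hy
  rw [← QuotientGroup.eq_one_iff (N := N)]
  have e1 : (QuotientGroup.mk d₁ : G ⧸ N) = 1 := (QuotientGroup.eq_one_iff d₁).mpr (hD hd₁)
  have e2 : (QuotientGroup.mk d₂ : G ⧸ N) = 1 := (QuotientGroup.eq_one_iff d₂).mpr (hD hd₂)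
  have e3 : (QuotientGroup.mk ⁅b₁, b₂⁆ : G ⧸ N) = 1 :=
    (QuotientGroup.eq_one_iff _).mpr (hB (Subgroup.commutator_mem_commutator hb₁ hb₂))
  simp only [commutatorElement_def, QuotientGroup.mk_mul, QuotientGroup.mk_inv, e1, e2, mul_one] at e3 ⊢
  exact e3

theorem aux : ∀ (n : ℕ) (G : Type u) [Group G] [Finite G], Nat.card G = n →
    ∀ (D : Subgroup G) [D.Normal], ⁅(⊤ : Subgroup G), (⊤ : Subgroup G)⁆ ⊔ D = ⊤ →
    ∃ B : Subgroup G, B.Normal ∧ B ⊔ D = ⊤ ∧
      ∀ B' : Subgroup G, B'.IsSubnormal → B' ⊔ D = ⊤ → B ≤ B' := by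
  intro n
  induction n using Nat.strong_induction_on with
  | _ n ih =>
  intro G _ _ hGn D _ hperf
  classical
  -- the least normal supplement
  have hne : Nonempty {B : Subgroup G // B.Normal ∧ B ⊔ D = ⊤} :=
    ⟨⟨⊤, inferInstance, top_sup_eq _⟩⟩
  obtain ⟨B₀', hB₀'⟩ := Finite.exists_min
    (fun B : {B : Subgroup G // B.Normal ∧ B ⊔ D = ⊤} => Nat.card B.1)
  obtain ⟨B₀, hB₀n, hB₀D⟩ := B₀'
  have hB₀min : ∀ B : Subgroup G, B.Normal → B ⊔ D = ⊤ → B₀ ≤ B := by
    intro B hBn hBD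
    have hinf : (B₀ ⊓ B) ⊔ D = ⊤ := by
      have hN : ((B₀ ⊓ B) ⊔ D).Normal := inferInstance
      have h1 := commutator_top_le B₀ B D ((B₀ ⊓ B) ⊔ D) hB₀D hBD le_sup_right
        ((Subgroup.commutator_le_inf B₀ B).trans le_sup_left)
      rw [eq_top_iff, ← hperf]
      exact sup_le h1 le_sup_right
    have hnorm : (B₀ ⊓ B).Normal := inferInstance
    have h2 : Nat.card B₀ ≤ Nat.card ↥(B₀ ⊓ B) := hB₀' ⟨B₀ ⊓ B, hnorm, hinf⟩
    have h3 : B₀ ⊓ B = B₀ := Subgroup.eq_of_le_of_card_ge inf_le_left h2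
    rw [← h3]; exact inf_le_right
  refine ⟨B₀, hB₀n, hB₀D, ?_⟩
  intro B' hB'sn hB'D
  rcases hB'sn.lt_normal with rfl | ⟨M, hMn, hB'M, hMlt⟩
  · exact le_top
  · -- apply induction to M
    have hMD : M ⊔ D = ⊤ := by
      rw [eq_top_iff, ← hB'D]; exact sup_le_sup_right hB'M D
    have hcard : Nat.card M < n := by
      rw [← hGn]
      rcases lt_or_ge (Nat.card M) (Nat.card G) with h | h
      · exact h
      · exfalso
        have : M = ⊤ := Subgroup.eq_top_of_le_card M h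
        exact hMlt.ne this
    have hDM : (D.subgroupOf M).Normal := inferInstance
    -- perfectness in M
    have hperfM : ⁅(⊤ : Subgroup M), (⊤ : Subgroup M)⁆ ⊔ D.subgroupOf M = ⊤ := by
      have hcn : (⁅M, M⁆).Normal := Subgroup.commutator_normal M M
      have hN : (⁅M, M⁆ ⊔ D).Normal := inferInstance
      have h1 := commutator_top_le M M D (⁅M, M⁆ ⊔ D) hMD hMD le_sup_right le_sup_left
      have h2 : ⁅M, M⁆ ⊔ D = ⊤ := by
        rw [eq_top_iff, ← hperf]; exact sup_le h1 le_sup_right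
      rw [eq_top_iff]
      rintro ⟨m, hm⟩ -
      have hm' : m ∈ ⁅M, M⁆ ⊔ D := by rw [h2]; exact Subgroup.mem_top m
      obtain ⟨c, hc, d, hd, hcd⟩ := Subgroup.mem_sup_of_normal_right.mp hm'
      have hcM : c ∈ M := Subgroup.commutator_le_left M M hc
      have hdM : d ∈ M := by
        have : d = c⁻¹ * m := by rw [← hcd]; group
        rw [this]; exact M.mul_mem (M.inv_mem hcM) hm
      have hmap : (⁅(⊤ : Subgroup M), (⊤ : Subgroup M)⁆).map M.subtype = ⁅M, M⁆ := by
        rw [Subgroup.map_commutator, ← MonoidHom.range_eq_map, Subgroup.range_subtype]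
      have hc' : (⟨c, hcM⟩ : M) ∈ ⁅(⊤ : Subgroup M), (⊤ : Subgroup M)⁆ := by
        have : c ∈ (⁅(⊤ : Subgroup M), (⊤ : Subgroup M)⁆).map M.subtype := by rw [hmap]; exact hc
        obtain ⟨c', hc', hcc'⟩ := this
        have : c' = ⟨c, hcM⟩ := Subtype.ext hcc'
        rwa [← this]
      have hd' : (⟨d, hdM⟩ : M) ∈ D.subgroupOf M := Subgroup.mem_subgroupOf.mpr hd
      have : (⟨m, hm⟩ : M) = ⟨c, hcM⟩ * ⟨d, hdM⟩ := Subtype.ext hcd.symm
      rw [this]
      exact Subgroup.mul_mem_sup hc' hd'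
    obtain ⟨BM, hBMn, hBMD, hBMmin⟩ := ih _ hcard M rfl (D.subgroupOf M) hperfM
    -- B₁ = image of BM
    set B₁ : Subgroup G := BM.map M.subtype with hB₁
    have hB₁n : B₁.Normal := by
      constructor
      rintro _ ⟨x, hx, rfl⟩ g
      -- conjugate by g⁻¹ as automorphism of M
      set φ : M →* M := (MulAut.conjNormal g⁻¹ : MulAut M).toMonoidHom with hφ
      have hφsurj : Function.Surjective φ := (MulAut.conjNormal g⁻¹ : MulAut M).surjective
      have hn' : (BM.map φ).Normal := hBMn.map φ hφsurj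
      have hsup : BM.map φ ⊔ D.subgroupOf M = ⊤ := by
        have hDφ : (D.subgroupOf M).map φ = D.subgroupOf M := by
          apply le_antisymm
          · rintro _ ⟨d, hd, rfl⟩
            have hd' : (d : G) ∈ D := Subgroup.mem_subgroupOf.mp hd
            rw [Subgroup.mem_subgroupOf]
            simp only [hφ, MulEquiv.coe_toMonoidHom, MulAut.conjNormal_apply]
            exact ‹D.Normal›.conj_mem _ hd' _
          · intro d hd
            have hd' : (d : G) ∈ D := Subgroup.mem_subgroupOf.mp hd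
            refine ⟨(MulAut.conjNormal g : MulAut M) d, ?_, ?_⟩
            · rw [SetLike.mem_coe, Subgroup.mem_subgroupOf]
              simp only [MulAut.conjNormal_apply]
              exact ‹D.Normal›.conj_mem _ hd' _
            · apply Subtype.ext
              simp [hφ]
        rw [← hDφ, ← Subgroup.map_sup, hBMD]
        exact Subgroup.map_top_of_surjective φ hφsurj
      have hle := hBMmin _ hn'.isSubnormal hsup
      obtain ⟨y, hy, hyx⟩ := hle hx
      refine ⟨y, hy, ?_⟩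
      have : (x : G) = g⁻¹ * (y : G) * g := by
        rw [← hyx]
        simp [hφ]
      simp only [Subgroup.coe_subtype]
      rw [this]
      group
    have hB₁D : B₁ ⊔ D = ⊤ := by
      have h1 : M ≤ B₁ ⊔ D := by
        intro m hm
        have : (⟨m, hm⟩ : M) ∈ BM ⊔ D.subgroupOf M := by rw [hBMD]; exact Subgroup.mem_top _
        obtain ⟨b, hb, d, hd, hbd⟩ := Subgroup.mem_sup_of_normal_right.mp this
        have : m = (b : G) * (d : G) := by
          have := congrArg Subtype.val hbd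
          simpa using this.symm
        rw [this]
        exact Subgroup.mul_mem_sup ⟨b, hb, rfl⟩ (Subgroup.mem_subgroupOf.mp hd)
      rw [eq_top_iff, ← hMD]
      exact sup_le h1 le_sup_right
    have h01 : B₀ ≤ B₁ := hB₀min B₁ hB₁n hB₁D
    -- B' in M
    have hB'sub : (B'.subgroupOf M).IsSubnormal := hB'sn.subgroupOf
    have hB'supp : B'.subgroupOf M ⊔ D.subgroupOf M = ⊤ := by
      rw [eq_top_iff]
      rintro ⟨m, hm⟩ -
      have hm' : m ∈ B' ⊔ D := by rw [hB'D]; exact Subgroup.mem_top m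
      obtain ⟨b, hb, d, hd, hbd⟩ := Subgroup.mem_sup_of_normal_right.mp hm'
      have hbM : b ∈ M := hB'M hb
      have hdM : d ∈ M := by
        have : d = b⁻¹ * m := by rw [← hbd]; group
        rw [this]; exact M.mul_mem (M.inv_mem hbM) hm
      have : (⟨m, hm⟩ : M) = ⟨b, hbM⟩ * ⟨d, hdM⟩ := Subtype.ext hbd.symm
      rw [this]
      exact Subgroup.mul_mem_sup (Subgroup.mem_subgroupOf.mpr hb) (Subgroup.mem_subgroupOf.mpr hd)
    have h1' : BM ≤ B'.subgroupOf M := hBMmin _ hB'sub hB'supp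
    have h1B' : B₁ ≤ B' := by
      rintro _ ⟨x, hx, rfl⟩
      exact Subgroup.mem_subgroupOf.mp (h1' hx)
    exact h01.trans h1B'

/-- Let G be a finite group and D a normal subgroup of G such that G/D is perfect (that is, G = G′D). Then among the subnormal subgroups B of G with BD = G there is a least one, and it is normal in G. -/
theorem result {G : Type*} [Group G] [Finite G] (D : Subgroup G) [D.Normal] (hperf : ⁅(⊤ : Subgroup G), (⊤ : Subgroup G)⁆ ⊔ D = ⊤) :
    ∃ B : Subgroup G, B.Normal ∧ B ⊔ D = ⊤ ∧ ∀ B' : Subgroup G, B'.IsSubnormal → B' ⊔ D = ⊤ → B ≤ B' := by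
  exact aux _ G rfl D hperf

end Cfsg.Agent.S3027
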