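import Cfsg.Statements.S3028
import Mathlib
import Cfsg.Agent.Lib.Helper58.SylowJoin5

set_option autoImplicit false
open Cfsg

namespace Cfsg.Agent.S3028

open Cfsg.Agent.Lib.Helper58.SylowJoin

theorem result' {G : Type*} [Group G] [Finite G] {p : ℕ} [Fact p.Prime] (S : Sylow p G) (A₁ A₂ : Subgroup G)
    (h₁ : A₁.IsSubnormal) (h₂ : A₂.IsSubnormal) :
    (A₁ ⊔ A₂) ⊓ (S : Subgroup G) = (A₁ ⊓ (S : Subgroup G)) ⊔ (A₂ ⊓ (S : Subgroup G)) := by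
  apply le_antisymm
  · have hJ : (A₁ ⊔ A₂).IsSubnormal := Cfsg.Agent.Lib.Helper13.isSubnormal_sup A₁ A₂ h₁ h₂
    have hS : ¬ p ∣ ((S : Subgroup G) ⊓ (A₁ ⊔ A₂)).relIndex (A₁ ⊔ A₂) := by
      rw [Subgroup.inf_relIndex_right]
      exact Cfsg.Agent.Lib.Helper13.not_dvd_relIndex_of_isSubnormal p _ _ hJ S.not_dvd_index
    have hres := restrict (A₁ ⊔ A₂) (goal p ↥(A₁ ⊔ A₂)) S hS {A₁, A₂} ?_ (sSup_pair)
    · rw [inf_comm]
      refine hres.trans ?_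
      rw [iSup_pair]
    · intro A hA
      rcases hA with rfl | hA
      · exact ⟨le_sup_left, h₁.subgroupOf⟩
      · rw [Set.mem_singleton_iff] at hA
        subst hA
        exact ⟨le_sup_right, h₂.subgroupOf⟩
  · exact sup_le (inf_le_inf_right _ le_sup_left) (inf_le_inf_right _ le_sup_right)


/-- Let G be a finite group, p a prime, S a Sylow p-subgroup of G and A₁, A₂ subnormal subgroups of G. Then the join of S ∩ A₁ and S ∩ A₂ is a Sylow p-subgroup of the join of A₁ and A₂; equivalently ⟨A₁, A₂⟩ ∩ S = ⟨A₁ ∩ S, A₂ ∩ S⟩. -/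
theorem result {G : Type*} [Group G] [Finite G] {p : ℕ} [Fact p.Prime] (S : Sylow p G) (A₁ A₂ : Subgroup G)
    (h₁ : A₁.IsSubnormal) (h₂ : A₂.IsSubnormal) :
    (A₁ ⊔ A₂) ⊓ (S : Subgroup G) = (A₁ ⊓ (S : Subgroup G)) ⊔ (A₂ ⊓ (S : Subgroup G)) := by
  exact result' S A₁ A₂ h₁ h₂

end Cfsg.Agent.S3028
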