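import Cfsg.Statements.S3031
import Mathlib
import Cfsg.Agent.Lib.Helper58.HSub4
import Cfsg.Agent.Lib.Helper14.Tate
import Cfsg.Agent.Lib.Helper60.TwoComplement
import Cfsg.Agent.Lib.Helper03.NormalPComplement

set_option autoImplicit false
open Cfsg

namespace Cfsg.Agent.S3031

open Subgroup Cfsg.Agent.Lib.Helper58.HSub
open scoped commutatorElement

theorem focal_le_frattini {G : Type*} [Group G] [Finite G] {p : ℕ} [hp : Fact p.Prime]
    (P : Sylow p G) {m : ℕ} (h : Hyp p (P : Subgroup G) m)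
    (hmP : p ^ m < Nat.card (P : Subgroup G)) :
    (P : Subgroup G).focalSubgroup ≤ (frattini ↥(P : Subgroup G)).map (P : Subgroup G).subtype := by
  have hPp : IsPGroup p ↥(P : Subgroup G) := P.2
  rw [Subgroup.focalSubgroup_def, Subgroup.closure_le]
  rintro g ⟨hgP, x, hxP, u, hgu⟩
  refine ⟨⟨g, hgP⟩, ?_, rfl⟩
  show (⟨g, hgP⟩ : ↥(P : Subgroup G)) ∈ frattini ↥(P : Subgroup G)
  unfold frattini Order.radical
  simp only [Subgroup.mem_iInf]
  intro M' hM'
  have hidx : M'.index = p := Cfsg.Agent.Lib.Helper03.index_of_isCoatom_of_isPGroup hPp hM'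
  have hnorm : M'.Normal := Cfsg.Agent.Lib.Helper03.normal_of_isCoatom_of_isPGroup hPp hM'
  set M := M'.map (P : Subgroup G).subtype with hM
  have hMP : M ≤ (P : Subgroup G) := Subgroup.map_subtype_le M'
  have hMn : (P : Subgroup G) ≤ normalizer (M : Set G) := by
    intro s hs
    apply mem_normalizer_of_conj_le'
    rintro _ ⟨m', hm', rfl⟩
    exact ⟨⟨s, hs⟩ * m' * ⟨s, hs⟩⁻¹, hnorm.conj_mem m' hm' ⟨s, hs⟩, by simp⟩
  have hcard : Nat.card (P : Subgroup G) = p * Nat.card M := by
    rw [hM, Subgroup.card_map_of_injective (P : Subgroup G).subtype_injective]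
    have h1 := Subgroup.card_mul_index M'
    rw [hidx] at h1
    rw [← h1, mul_comm]
  have ha : x⁻¹ ∈ (P : Subgroup G) := inv_mem hxP
  have hconj : (u⁻¹)⁻¹ * x⁻¹ * u⁻¹ ∈ (P : Subgroup G) := by
    have : (u⁻¹)⁻¹ * x⁻¹ * u⁻¹ = x⁻¹ * g := by
      rw [hgu, commutatorElement_def]; group
    rw [this]
    exact mul_mem ha hgP
  have hfus := h.fusion hmP hMP hMn hcard ha hconj
  have hg' : (x⁻¹)⁻¹ * ((u⁻¹)⁻¹ * x⁻¹ * u⁻¹) = g := by
    rw [hgu, commutatorElement_def]; group
  rw [hg'] at hfus
  obtain ⟨m', hm', hmeq⟩ := hfus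
  have : m' = ⟨g, hgP⟩ := Subtype.ext hmeq
  rw [← this]; exact hm'

theorem result' {G : Type*} [Group G] [Finite G] {p : ℕ} [hp : Fact p.Prime] (hdiv : p ∣ Nat.card G)
    (hmin : ∀ q : ℕ, q.Prime → q ∣ Nat.card G → p ≤ q) (P : Sylow p G)
    (h : IsCyclic ↥(P : Subgroup G) ∨ ∃ D : Subgroup G, D ≤ (P : Subgroup G) ∧ 1 < Nat.card D ∧ Nat.card D < Nat.card (P : Subgroup G) ∧
      ∀ E : Subgroup G, E ≤ (P : Subgroup G) → (Nat.card E = Nat.card D ∨ (Nat.card D = 2 ∧ Nat.card E = 4)) →
        ∀ g : G, E.map (MulAut.conj g).toMonoidHom ⊓ Subgroup.normalizer (E : Set G) ≤ E) :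
    Cfsg.HasNormalPComplement p G := by
  rcases h with hcyc | ⟨D, hDP, hD1, hDlt, hH⟩
  · have hminfac : (Nat.card G).minFac = p := by
      have hne : Nat.card G ≠ 1 := by
        intro h1; rw [h1] at hdiv
        exact hp.out.one_lt.ne' (Nat.dvd_one.mp hdiv)
      apply le_antisymm
      · exact Nat.minFac_le_of_dvd hp.out.two_le hdiv
      · exact hmin _ (Nat.minFac_prime hne) (Nat.minFac_dvd _)
    exact Cfsg.Agent.Lib.Helper03.hasNormalPComplement_of_normalizer_le_centralizer P
      (IsCyclic.normalizer_le_centralizer hminfac hcyc)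
  · have hPp : IsPGroup p ↥(P : Subgroup G) := P.2
    obtain ⟨m, hm⟩ := (hPp.to_le hDP).exists_card_eq
    have hm0 : 0 < m := by
      rcases Nat.eq_zero_or_pos m with h0 | h0
      · rw [h0, pow_zero] at hm; omega
      · exact h0
    have hyp : Hyp p (P : Subgroup G) m :=
      { hm := hm0
        hsc := by
          intro E hEP hcase
          apply sc_of_isH hPp hEP
          intro g
          apply hH E hEP
          rw [hm]; exact hcase
        hcop := fun g => coprime_pred_of_min hp.out hmin g }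
    have hmP : p ^ m < Nat.card (P : Subgroup G) := hm ▸ hDlt
    have hfocal := focal_le_frattini P hyp hmP
    set K := (P : Subgroup G).transferFocal.ker with hK
    have hKle : K ⊓ (P : Subgroup G) ≤ (frattini ↥(P : Subgroup G)).map (P : Subgroup G).subtype := by
      rw [hK, Subgroup.ker_transferFocal_inf_eq_focalSubgroup]; exact hfocal
    have hKn : Cfsg.HasNormalPComplement p K :=
      Cfsg.Agent.Lib.Helper14.hasNormalPComplement_of_inf_le_frattini P K hKle
    have hQ : IsPGroup p (G ⧸ K) :=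
      (hPp.to_quotient (P : Subgroup G).focalSubgroupOf).of_equiv
        (Subgroup.transferFocal.quotientKerMulEquivQuotientFocalSubroupOf P).symm
    obtain ⟨j, hj⟩ := hQ.exists_card_eq
    have hidx : K.index = p ^ j := by rw [Subgroup.index_eq_card]; exact hj
    exact Cfsg.Agent.Lib.Helper60.hasNormalPComplement_of_normal_of_index_pow K j hidx hKn


/-- Let G be a finite group, p the smallest prime dividing |G| and P a Sylow p-subgroup. Suppose that P is cyclic, or that P has a subgroup D with 1 < |D| < |P| such that every subgroup E of P of order |D|, and also every subgroup E of P of order 4 when |D| = 2, satisfies g E g⁻¹ ∩ N_G(E) ≤ E for all g ∈ G (E is strongly closed in its normalizer with respect to G). Then G has a normal p-complement. -/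
theorem result {G : Type*} [Group G] [Finite G] {p : ℕ} [Fact p.Prime] (hdiv : p ∣ Nat.card G)
    (hmin : ∀ q : ℕ, q.Prime → q ∣ Nat.card G → p ≤ q) (P : Sylow p G)
    (h : IsCyclic ↥(P : Subgroup G) ∨ ∃ D : Subgroup G, D ≤ (P : Subgroup G) ∧ 1 < Nat.card D ∧ Nat.card D < Nat.card (P : Subgroup G) ∧
      ∀ E : Subgroup G, E ≤ (P : Subgroup G) → (Nat.card E = Nat.card D ∨ (Nat.card D = 2 ∧ Nat.card E = 4)) →
        ∀ g : G, E.map (MulAut.conj g).toMonoidHom ⊓ Subgroup.normalizer (E : Set G) ≤ E) :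
    Cfsg.HasNormalPComplement p G := by
  exact result' hdiv hmin P h

end Cfsg.Agent.S3031
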