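import Cfsg.Statements.S3032
import Mathlib
import Cfsg.Agent.Lib.Helper77.HSub
import Cfsg.Agent.Lib.Helper77.StrictChain
import Cfsg.Agent.Lib.Helper74.NPC
import Cfsg.Agent.Lib.Helper40.OmegaLemma
import Cfsg.Agent.Lib.Helper12.Supersolvable
import Cfsg.Agent.Lib.Helper12.SupersolvablePrime
import Cfsg.Agent.S0579
import Cfsg.Agent.S3031

set_option autoImplicit false
set_option linter.style.haveILetI false
open Cfsg

namespace Cfsg.Agent.S3032

open Subgroup Cfsg.Agent.Lib.Helper77 Cfsg.Agent.Lib.Helper74 Cfsg.Agent.Lib.Helper12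

universe u

section Basic

variable {G : Type*} [Group G]

/-- The condition imposed on a non-cyclic Sylow subgroup. -/
def Good (P : Subgroup G) : Prop :=
  ∃ D : Subgroup G, D ≤ P ∧ 1 < Nat.card D ∧ Nat.card D < Nat.card P ∧
    ∀ F : Subgroup G, F ≤ P → (Nat.card F = Nat.card D ∨ (Nat.card D = 2 ∧ Nat.card F = 4)) →
      ∀ g : G, F.map (MulAut.conj g).toMonoidHom ⊓ Subgroup.normalizer (F : Set G) ≤ F

/-- The hypothesis of the statement on the Sylow subgroups of `E`. -/
def SylHyp (E : Subgroup G) : Prop :=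
  ∀ (p : ℕ), p.Prime → ∀ P : Subgroup G, P ≤ E → IsPGroup p P → ¬ p ∣ P.relIndex E →
    ¬ IsCyclic ↥P → Good P

theorem exists_sylow_le [Finite G] (Y : Subgroup G) (p : ℕ) [Fact p.Prime] :
    ∃ P : Subgroup G, P ≤ Y ∧ IsPGroup p P ∧ ¬ p ∣ P.relIndex Y := by
  obtain ⟨S⟩ : Nonempty (Sylow p ↥Y) := inferInstance
  refine ⟨(S : Subgroup ↥Y).map Y.subtype, Subgroup.map_subtype_le _, S.2.map _, ?_⟩
  have h1 : ((S : Subgroup ↥Y).map Y.subtype).subgroupOf Y = (S : Subgroup ↥Y) :=
    Subgroup.comap_map_eq_self_of_injective Y.subtype_injective _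
  rw [Subgroup.relIndex, h1]
  exact S.not_dvd_index

/-- The normal `p`-complement theorem `S3031`, applied inside a subgroup `Y` of `G`. -/
theorem npc_ambient [Finite G] {p : ℕ} [Fact p.Prime] (Y P : Subgroup G) (hPY : P ≤ Y)
    (hP : IsPGroup p P) (hidx : ¬ p ∣ P.relIndex Y) (hdiv : p ∣ Nat.card Y)
    (hmin : ∀ q : ℕ, q.Prime → q ∣ Nat.card Y → p ≤ q) (h : IsCyclic ↥P ∨ Good P) :
    ∃ L : Subgroup G, IsNPC p L Y := by
  rw [← hasNormalPComplement_iff_exists_isNPC]
  have hP' : IsPGroup p ↥(P.subgroupOf Y) := hP.comap_subtype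
  let S : Sylow p ↥Y := hP'.toSylow hidx
  have hS : (S : Subgroup ↥Y) = P.subgroupOf Y := rfl
  apply Cfsg.Agent.S3031.result hdiv hmin S
  rw [hS]
  rcases h with hc | ⟨D, hDP, hD1, hD2, hD⟩
  · left
    exact isCyclic_of_surjective (Subgroup.subgroupOfEquivOfLe hPY).symm
      (Subgroup.subgroupOfEquivOfLe hPY).symm.surjective
  · right
    have hcP : Nat.card ↥(P.subgroupOf Y) = Nat.card P :=
      Nat.card_congr (Subgroup.subgroupOfEquivOfLe hPY).toEquiv
    have hcD : Nat.card ↥(D.subgroupOf Y) = Nat.card D :=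
      Nat.card_congr (Subgroup.subgroupOfEquivOfLe (hDP.trans hPY)).toEquiv
    refine ⟨D.subgroupOf Y, ?_, by rw [hcD]; exact hD1, by rw [hcD, hcP]; exact hD2, ?_⟩
    · intro x hx
      rw [Subgroup.mem_subgroupOf] at hx ⊢
      exact hDP hx
    · intro E' hE' hcard
      have hle : E'.map Y.subtype ≤ P := by
        rintro _ ⟨y, hy, rfl⟩
        have := hE' hy
        rwa [Subgroup.mem_subgroupOf] at this
      have hc : Nat.card ↥(E'.map Y.subtype) = Nat.card E' := Subgroup.card_subtype Y E'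
      have h1 : HSub (E'.map Y.subtype) := by
        apply hD _ hle
        rw [hc]
        rw [hcD] at hcard
        exact hcard
      exact hSub_of_map_subtype Y E' h1

end Basic

section Tower

variable {G : Type*} [Group G]

theorem card_pos' [Finite G] (H : Subgroup G) : 0 < Nat.card H := Nat.card_pos

/-- A `p`-subgroup of a group of order prime to `p` is trivial. -/
theorem eq_bot_of_pgroup_of_coprime [Finite G] {p : ℕ} [Fact p.Prime] {P L : Subgroup G}
    (hP : IsPGroup p P) (hPL : P ≤ L) (hL : (Nat.card L).Coprime p) : P = ⊥ := by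
  have hp : p.Prime := Fact.out
  obtain ⟨k, hk⟩ := IsPGroup.iff_card.mp hP
  have h1 : Nat.card P ∣ Nat.card L := Subgroup.card_dvd_of_le hPL
  rcases Nat.eq_zero_or_pos k with h0 | h0
  · rw [h0, pow_zero] at hk
    exact Subgroup.card_eq_one.mp hk
  · exfalso
    have h2 : p ∣ Nat.card L := (dvd_pow_self p h0.ne').trans (hk ▸ h1)
    have h3 : p ∣ Nat.gcd (Nat.card L) p := Nat.dvd_gcd h2 dvd_rfl
    rw [hL] at h3
    exact hp.one_lt.ne' (Nat.dvd_one.mp h3)

/-- A normal subgroup all of whose Sylow subgroups satisfy the condition has a nontrivial normal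
Sylow subgroup, which is normal in the whole group. -/
theorem exists_normal_sylow [Finite G] : ∀ (n : ℕ) (Y : Subgroup G), Nat.card Y = n → Y.Normal →
    Y ≠ ⊥ → SylHyp Y → ∃ (q : ℕ) (Q : Subgroup G), q.Prime ∧ Q ≤ Y ∧ Q ≠ ⊥ ∧ Q.Normal ∧
      IsPGroup q Q ∧ ¬ q ∣ Q.relIndex Y := by
  intro n
  induction n using Nat.strong_induction_on with
  | _ n ih =>
  intro Y hn hYn hYne hY
  have hcY : Nat.card Y ≠ 1 := fun h => hYne (Subgroup.card_eq_one.mp h)
  set p := (Nat.card Y).minFac with hp_def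
  have hp : p.Prime := Nat.minFac_prime hcY
  haveI : Fact p.Prime := ⟨hp⟩
  have hdiv : p ∣ Nat.card Y := Nat.minFac_dvd _
  have hmin : ∀ q : ℕ, q.Prime → q ∣ Nat.card Y → p ≤ q := fun q hq hqd =>
    Nat.minFac_le_of_dvd hq.two_le hqd
  obtain ⟨P, hPY, hPp, hPi⟩ := exists_sylow_le Y p
  by_cases hYp : IsPGroup p Y
  · refine ⟨p, Y, hp, le_refl _, hYne, hYn, hYp, ?_⟩
    rw [Subgroup.relIndex_self]
    exact hp.one_lt.ne' ∘ Nat.dvd_one.mp
  · have hcg : IsCyclic ↥P ∨ Good P := by
      by_cases hc : IsCyclic ↥P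
      · exact Or.inl hc
      · exact Or.inr (hY p hp P hPY hPp hPi hc)
    obtain ⟨L, hL⟩ := npc_ambient Y P hPY hPp hPi hdiv hmin hcg
    haveI := hYn
    have hLn : L.Normal := hL.normal
    obtain ⟨j, hj⟩ := hL.idx
    have hLne : L ≠ ⊥ := by
      intro hLb
      apply hYp
      rw [IsPGroup.iff_card]
      refine ⟨j, ?_⟩
      rw [← hj, hLb, Subgroup.relIndex_bot_left]
    have hLY : Nat.card L < Nat.card Y := by
      apply lt_of_le_of_ne (Subgroup.card_le_of_le hL.le)
      intro heq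
      have h3 : p ∣ Nat.gcd (Nat.card L) p := Nat.dvd_gcd (heq ▸ hdiv) dvd_rfl
      rw [hL.cop] at h3
      exact hp.one_lt.ne' (Nat.dvd_one.mp h3)
    have hLS : SylHyp L := by
      intro r hr P' hP'L hP'r hP'i hP'c
      haveI : Fact r.Prime := ⟨hr⟩
      by_cases hrp : r = p
      · exfalso
        subst hrp
        have : P' = ⊥ := eq_bot_of_pgroup_of_coprime hP'r hP'L hL.cop
        apply hP'c
        rw [this]
        exact isCyclic_of_subsingleton
      · apply hY r hr P' (hP'L.trans hL.le) hP'r _ hP'c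
        rw [← Subgroup.relIndex_mul_relIndex P' L Y hP'L hL.le, hj]
        intro hdvd
        rcases (Nat.Prime.dvd_mul hr).mp hdvd with h1 | h1
        · exact hP'i h1
        · exact hrp ((Nat.prime_dvd_prime_iff_eq hr hp).mp (hr.dvd_of_dvd_pow h1))
    obtain ⟨q, Q, hq, hQL, hQne, hQn, hQq, hQi⟩ := ih (Nat.card L) (hn ▸ hLY) L rfl hLn hLne hLS
    haveI : Fact q.Prime := ⟨hq⟩
    have hqp : q ≠ p := by
      intro hqp
      subst hqp
      exact hQne (eq_bot_of_pgroup_of_coprime hQq hQL hL.cop)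
    refine ⟨q, Q, hq, hQL.trans hL.le, hQne, hQn, hQq, ?_⟩
    rw [← Subgroup.relIndex_mul_relIndex Q L Y hQL hL.le, hj]
    intro hdvd
    rcases (Nat.Prime.dvd_mul hq).mp hdvd with h1 | h1
    · exact hQi h1
    · exact hqp ((Nat.prime_dvd_prime_iff_eq hq hp).mp (hq.dvd_of_dvd_pow h1))

end Tower

section Quot

variable {G : Type*} [Group G]

theorem card_map_mk_mul [Finite G] (N X : Subgroup G) [N.Normal] (hNX : N ≤ X) :
    Nat.card (X.map (QuotientGroup.mk' N)) * Nat.card N = Nat.card X := by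
  have h1 : (X.map (QuotientGroup.mk' N)).index = X.index :=
    Subgroup.index_map_eq X (QuotientGroup.mk'_surjective N) (by rwa [QuotientGroup.ker_mk'])
  have h2 := Subgroup.card_mul_index (X.map (QuotientGroup.mk' N))
  have h3 := Subgroup.card_mul_index X
  have h4 : Nat.card G = Nat.card (G ⧸ N) * Nat.card N :=
    Subgroup.card_eq_card_quotient_mul_card_subgroup N
  have h5 : X.index ≠ 0 := Subgroup.index_ne_zero_of_finite
  rw [h1] at h2
  have h6 : Nat.card (X.map (QuotientGroup.mk' N)) * Nat.card N * X.index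
      = Nat.card X * X.index := by
    rw [h3, h4, ← h2]; ring
  exact Nat.eq_of_mul_eq_mul_right (Nat.pos_of_ne_zero h5) h6

theorem card_map_of_disjoint [Finite G] (N H : Subgroup G) [N.Normal]
    (h : ∀ x ∈ H, x ∈ N → x = 1) :
    Nat.card (H.map (QuotientGroup.mk' N)) = Nat.card H := by
  symm
  apply Nat.card_congr
  refine Equiv.ofBijective ((QuotientGroup.mk' N).subgroupMap H) ⟨?_, ?_⟩
  · rw [injective_iff_map_eq_one]
    intro x hx
    have h1 : ((QuotientGroup.mk' N).subgroupMap H x : G ⧸ N) = 1 := by rw [hx]; rfl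
    have h2 : (QuotientGroup.mk' N) (x : G) = 1 := h1
    rw [QuotientGroup.mk'_apply, QuotientGroup.eq_one_iff] at h2
    exact Subtype.ext (h x x.2 h2)
  · exact MonoidHom.subgroupMap_surjective _ _

theorem isSupersolvable_quot_quot (N E : Subgroup G) [N.Normal] [E.Normal] (hNE : N ≤ E)
    [hn : (E.map (QuotientGroup.mk' N)).Normal]
    (h : Cfsg.IsSupersolvable (G ⧸ E)) :
    Cfsg.IsSupersolvable ((G ⧸ N) ⧸ (E.map (QuotientGroup.mk' N))) :=
  isSupersolvable_of_mulEquiv (QuotientGroup.quotientQuotientEquivQuotient N E hNE).symm h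

theorem comap_map_mk_of_le (N X : Subgroup G) [N.Normal] (hNX : N ≤ X) :
    (X.map (QuotientGroup.mk' N)).comap (QuotientGroup.mk' N) = X := by
  rw [QuotientGroup.comap_map_mk', sup_eq_right.mpr hNX]

end Quot

section Transfer

variable {G : Type*} [Group G]

theorem pow_eq_of_mul_eq {p a b r s : ℕ} (hp : p.Prime) (hr : ¬ p ∣ r) (hs : ¬ p ∣ s)
    (h : p ^ a * r = p ^ b * s) : p ^ a = p ^ b := by
  apply Nat.dvd_antisymm
  · have h1 : p ^ a ∣ p ^ b * s := ⟨r, h.symm⟩
    exact (Nat.Coprime.pow_left a ((Nat.Prime.coprime_iff_not_dvd hp).mpr hs)).dvd_of_dvd_mul_right h1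
  · have h1 : p ^ b ∣ p ^ a * r := ⟨s, h⟩
    exact (Nat.Coprime.pow_left b ((Nat.Prime.coprime_iff_not_dvd hp).mpr hr)).dvd_of_dvd_mul_right h1

/-- The hypothesis on Sylow subgroups passes to the quotient by a normal Sylow subgroup. -/
theorem sylHyp_map_mk [Finite G] (E Q : Subgroup G) [E.Normal] [Q.Normal] {q : ℕ}
    [hq : Fact q.Prime] (hQE : Q ≤ E) (hQq : IsPGroup q Q) (hQi : ¬ q ∣ Q.relIndex E)
    (h : SylHyp E) : SylHyp (E.map (QuotientGroup.mk' Q)) := by
  intro p hp Pb hPbE hPbp hPbi hnc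
  haveI : Fact p.Prime := ⟨hp⟩
  have hcardE : Nat.card (E.map (QuotientGroup.mk' Q)) * Nat.card Q = Nat.card E :=
    card_map_mk_mul Q E hQE
  have hrel : Nat.card (E.map (QuotientGroup.mk' Q)) = Q.relIndex E := by
    have h1 := card_mul_relIndex' hQE
    have h2 : Nat.card (E.map (QuotientGroup.mk' Q)) * Nat.card Q
        = Q.relIndex E * Nat.card Q := by rw [hcardE, ← h1, mul_comm]
    exact Nat.eq_of_mul_eq_mul_right Nat.card_pos h2
  by_cases hpq : p = q
  · exfalso
    subst hpq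
    apply hnc
    have hPb : Pb = ⊥ := by
      obtain ⟨k, hk⟩ := IsPGroup.iff_card.mp hPbp
      have h1 : Nat.card Pb ∣ Nat.card (E.map (QuotientGroup.mk' Q)) :=
        Subgroup.card_dvd_of_le hPbE
      rcases Nat.eq_zero_or_pos k with h0 | h0
      · rw [h0, pow_zero] at hk
        exact Subgroup.card_eq_one.mp hk
      · exfalso
        apply hQi
        rw [← hrel]
        exact (dvd_pow_self p h0.ne').trans (hk ▸ h1)
    rw [hPb]
    exact isCyclic_of_subsingleton
  · set X : Subgroup G := Pb.comap (QuotientGroup.mk' Q) with hX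
    have hQX : Q ≤ X := by
      intro x hx
      rw [hX, Subgroup.mem_comap, QuotientGroup.mk'_apply, (QuotientGroup.eq_one_iff x).mpr hx]
      exact one_mem _
    have hXE : X ≤ E := by
      have h1 : X ≤ (E.map (QuotientGroup.mk' Q)).comap (QuotientGroup.mk' Q) :=
        Subgroup.comap_mono hPbE
      rwa [comap_map_mk_of_le Q E hQE] at h1
    have hXmap : X.map (QuotientGroup.mk' Q) = Pb :=
      Subgroup.map_comap_eq_self_of_surjective (QuotientGroup.mk'_surjective Q) Pb
    have hcardX : Nat.card Pb * Nat.card Q = Nat.card X := by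
      rw [← hXmap]; exact card_map_mk_mul Q X hQX
    obtain ⟨P, hPX, hPp, hPi⟩ := exists_sylow_le X p
    have hXrel : X.relIndex E = Pb.relIndex (E.map (QuotientGroup.mk' Q)) :=
      Subgroup.relIndex_comap _ _ _
    have hPE : ¬ p ∣ P.relIndex E := by
      rw [← Subgroup.relIndex_mul_relIndex P X E hPX hXE]
      intro hdvd
      rcases (Nat.Prime.dvd_mul hp).mp hdvd with h1 | h1
      · exact hPi h1
      · rw [hXrel] at h1; exact hPbi h1
    have hdisj : ∀ x ∈ P, x ∈ Q → x = 1 := by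
      intro x hxP hxQ
      have := IsPGroup.disjoint_of_ne p q hpq P Q hPp hQq
      exact Subgroup.disjoint_def.mp this hxP hxQ
    have hcardPm : Nat.card (P.map (QuotientGroup.mk' Q)) = Nat.card P :=
      card_map_of_disjoint Q P hdisj
    have hPle : P.map (QuotientGroup.mk' Q) ≤ Pb := by
      rw [← hXmap]; exact Subgroup.map_mono hPX
    have hcardP : Nat.card P = Nat.card Pb := by
      obtain ⟨a, ha⟩ := IsPGroup.iff_card.mp hPp
      obtain ⟨b, hb⟩ := IsPGroup.iff_card.mp hPbp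
      obtain ⟨c, hc⟩ := IsPGroup.iff_card.mp hQq
      have h1 := card_mul_relIndex' hPX
      rw [ha, hb]
      apply pow_eq_of_mul_eq hp hPi (s := Nat.card Q)
      · rw [hc]
        intro hd
        exact hpq ((Nat.prime_dvd_prime_iff_eq hp hq.out).mp (hp.dvd_of_dvd_pow hd))
      · rw [← ha, ← hb, h1, hcardX]
    have hPmap : P.map (QuotientGroup.mk' Q) = Pb := by
      apply Subgroup.eq_of_le_of_card_ge hPle
      rw [hcardPm, hcardP]
    subst hPmap
    have hPnc : ¬ IsCyclic ↥P := by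
      intro hc
      apply hnc
      exact isCyclic_of_surjective ((QuotientGroup.mk' Q).subgroupMap P)
        (MonoidHom.subgroupMap_surjective _ _)
    obtain ⟨D, hDP, hD1, hD2, hD⟩ := h p hp P (hPX.trans hXE) hPp hPE hPnc
    have hcardD : Nat.card (D.map (QuotientGroup.mk' Q)) = Nat.card D :=
      card_map_of_disjoint Q D (fun x hx => hdisj x (hDP hx))
    refine ⟨D.map (QuotientGroup.mk' Q), Subgroup.map_mono hDP, by rw [hcardD]; exact hD1,
      by rw [hcardD, hcardPm]; exact hD2, ?_⟩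
    intro Fb hFb hcard
    set F : Subgroup G := Fb.comap (QuotientGroup.mk' Q) ⊓ P with hF
    have hFP : F ≤ P := inf_le_right
    have hFmap : F.map (QuotientGroup.mk' Q) = Fb := by
      apply le_antisymm
      · rintro _ ⟨x, hx, rfl⟩
        exact hx.1
      · intro y hy
        obtain ⟨x, hxP, rfl⟩ := hFb hy
        exact ⟨x, ⟨hy, hxP⟩, rfl⟩
    have hcardF : Nat.card Fb = Nat.card F := by
      rw [← hFmap]
      exact card_map_of_disjoint Q F (fun x hx => hdisj x (hFP hx))
    have hHF : HSub F := by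
      apply hD F hFP
      rw [← hcardF, ← hcardD]
      exact hcard
    have hQcop : (Nat.card Q).Coprime p := by
      obtain ⟨c, hc⟩ := IsPGroup.iff_card.mp hQq
      rw [hc]
      apply Nat.Coprime.pow_left
      exact (Nat.coprime_primes hq.out hp).mpr (Ne.symm hpq)
    have := hHF.map_mk (hPp.to_le hFP) Q hQcop
    rw [hFmap] at this
    exact this

end Transfer

section Two

variable {G : Type*} [Group G]

/-- If a normal `2`-subgroup `Q` is cyclic or satisfies the condition, every element of odd order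
centralizes `Q`. -/
theorem centralizes_of_two [Finite G] (Q : Subgroup G) [hQn : Q.Normal] (hQ2 : IsPGroup 2 Q)
    (h : IsCyclic ↥Q ∨ Good Q) (g : G) (hg : (orderOf g).Coprime 2) :
    ∀ x ∈ Q, g * x = x * g := by
  haveI : Fact (Nat.Prime 2) := ⟨Nat.prime_two⟩
  by_cases hQb : Q = ⊥
  · intro x hx
    rw [hQb, Subgroup.mem_bot] at hx
    rw [hx, mul_one, one_mul]
  set Y : Subgroup G := Q ⊔ Subgroup.zpowers g with hY
  have hQY : Q ≤ Y := le_sup_left
  have hgY : g ∈ Y := (le_sup_right : Subgroup.zpowers g ≤ Y) (Subgroup.mem_zpowers g)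
  have hdivQ : 2 ∣ Nat.card Q := by
    obtain ⟨k, hk⟩ := IsPGroup.iff_card.mp hQ2
    rcases Nat.eq_zero_or_pos k with h0 | h0
    · exfalso
      rw [h0, pow_zero] at hk
      exact hQb (Subgroup.card_eq_one.mp hk)
    · rw [hk]; exact dvd_pow_self 2 h0.ne'
  have hdiv : 2 ∣ Nat.card Y := hdivQ.trans (Subgroup.card_dvd_of_le hQY)
  have hidx : ¬ 2 ∣ Q.relIndex Y := by
    rw [hY, Subgroup.relIndex_sup_left]
    intro hd
    have h1 : Q.relIndex (Subgroup.zpowers g) ∣ Nat.card (Subgroup.zpowers g) :=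
      Subgroup.relIndex_dvd_card _ _
    rw [Nat.card_zpowers] at h1
    have h2 : 2 ∣ Nat.gcd (orderOf g) 2 := Nat.dvd_gcd (hd.trans h1) dvd_rfl
    rw [hg] at h2
    exact absurd (Nat.dvd_one.mp h2) (by norm_num)
  obtain ⟨L, hL⟩ := npc_ambient Y Q hQY hQ2 hidx hdiv (fun q hq _ => hq.two_le) h
  have hgL : g ∈ L := hL.mem_of_coprime hgY hg
  have hdisj : ∀ z ∈ Q, z ∈ L → z = 1 := by
    intro z hzQ hzL
    have h1 : orderOf z ∣ Nat.card L := Subgroup.orderOf_dvd_natCard L hzL
    obtain ⟨k, hk⟩ := (IsPGroup.iff_card.mp hQ2)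
    have h2 : orderOf z ∣ 2 ^ k := hk ▸ Subgroup.orderOf_dvd_natCard Q hzQ
    have h3 : (Nat.card L).Coprime (2 ^ k) := Nat.Coprime.pow_right k hL.cop
    have h4 : orderOf z ∣ Nat.gcd (Nat.card L) (2 ^ k) := Nat.dvd_gcd h1 h2
    rw [h3, Nat.dvd_one] at h4
    exact orderOf_eq_one_iff.mp h4
  intro x hx
  have hxn : x ∈ Subgroup.normalizer (L : Set G) := hL.norm (hQY hx)
  have h1 : g * x * g⁻¹ * x⁻¹ ∈ Q := Q.mul_mem (hQn.conj_mem x hx g) (Q.inv_mem hx)
  have h2 : g * x * g⁻¹ * x⁻¹ ∈ L := by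
    have h3 : x * g⁻¹ * x⁻¹ ∈ L := (Subgroup.mem_normalizer_iff.mp hxn g⁻¹).mp (L.inv_mem hgL)
    have h4 : g * x * g⁻¹ * x⁻¹ = g * (x * g⁻¹ * x⁻¹) := by group
    rw [h4]
    exact L.mul_mem hgL h3
  have h5 := hdisj _ h1 h2
  have h6 : g * x = (g * x * g⁻¹ * x⁻¹) * (x * g) := by group
  rw [h6, h5, one_mul]

theorem isSupersolvable_of_two {G : Type u} [Group G] [Finite G] (Q : Subgroup G) [hQn : Q.Normal]
    (hQ2 : IsPGroup 2 Q) (h : IsCyclic ↥Q ∨ Good Q) (hGQ : Cfsg.IsSupersolvable (G ⧸ Q)) :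
    Cfsg.IsSupersolvable G := by
  haveI : Fact (Nat.Prime 2) := ⟨Nat.prime_two⟩
  exact isSupersolvable_of_strict 2 Q ⊤ hQ2
    (fun g _ hg x hx => centralizes_of_two Q hQ2 h g hg x hx)
    (fun _ _ => Subgroup.mem_top _) (fun _ => Subgroup.mem_top _) hGQ

end Two

section OrderQ

variable {G : Type*} [Group G]

/-- If all subgroups of order `q` of `Q` are normal, conjugation acts on each element of order
dividing `q` as a power map. -/
theorem conj_eq_pow_of_normal [Finite G] {q : ℕ} [hq : Fact q.Prime] (Q : Subgroup G)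
    (hn : ∀ F : Subgroup G, F ≤ Q → Nat.card F = q → F.Normal) (g x : G) (hx : x ∈ Q)
    (hxq : x ^ q = 1) : ∃ a : ℕ, g * x * g⁻¹ = x ^ a := by
  by_cases hx1 : x = 1
  · exact ⟨0, by rw [hx1]; group⟩
  · have ho : orderOf x = q := orderOf_eq_prime hxq hx1
    have hle : Subgroup.zpowers x ≤ Q := by
      rw [Subgroup.zpowers_le]; exact hx
    have hcard : Nat.card (Subgroup.zpowers x) = q := by rw [Nat.card_zpowers, ho]
    have hnorm := hn _ hle hcard
    have hmem : g * x * g⁻¹ ∈ Subgroup.zpowers x := hnorm.conj_mem x (Subgroup.mem_zpowers x) g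
    rw [← mem_powers_iff_mem_zpowers, Submonoid.mem_powers_iff] at hmem
    obtain ⟨a, ha⟩ := hmem
    exact ⟨a, ha.symm⟩

theorem conj_comm_of_normal [Finite G] {q : ℕ} [hq : Fact q.Prime] (Q : Subgroup G)
    (hn : ∀ F : Subgroup G, F ≤ Q → Nat.card F = q → F.Normal) (g h x : G) (hx : x ∈ Q)
    (hxq : x ^ q = 1) : g * (h * x * h⁻¹) * g⁻¹ = h * (g * x * g⁻¹) * h⁻¹ := by
  obtain ⟨a, ha⟩ := conj_eq_pow_of_normal Q hn g x hx hxq
  obtain ⟨b, hb⟩ := conj_eq_pow_of_normal Q hn h x hx hxq
  rw [ha, hb, ← conj_pow, ← conj_pow, ha, hb, ← pow_mul, ← pow_mul, mul_comm]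

theorem conj_pow_eq_pow_pow {x g : G} {a : ℕ} (h : g * x * g⁻¹ = x ^ a) (k : ℕ) :
    g ^ k * x * (g ^ k)⁻¹ = x ^ (a ^ k) := by
  induction k with
  | zero => simp
  | succ k ih =>
    have h1 : g ^ (k + 1) * x * (g ^ (k + 1))⁻¹ = g * (g ^ k * x * (g ^ k)⁻¹) * g⁻¹ := by
      rw [pow_succ']; group
    rw [h1, ih, ← conj_pow, h, ← pow_mul, pow_succ']

/-- `q` odd: if all subgroups of order `q` of the normal `q`-subgroup `Q` are normal in `G` and
`G ⧸ Q` is supersolvable, then `G` is supersolvable. -/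
theorem isSupersolvable_of_order_q {G : Type u} [Group G] [Finite G] {q : ℕ} [hq : Fact q.Prime]
    (hq2 : q ≠ 2) (Q : Subgroup G) [hQn : Q.Normal] (hQq : IsPGroup q Q)
    (hn : ∀ F : Subgroup G, F ≤ Q → Nat.card F = q → F.Normal)
    (hGQ : Cfsg.IsSupersolvable (G ⧸ Q)) : Cfsg.IsSupersolvable G := by
  have hqp : q.Prime := hq.out
  let B : Subgroup G :=
    { carrier := {g | ∀ x ∈ Q, x ^ q = 1 → g * x = x * g}
      one_mem' := fun x _ _ => by rw [one_mul, mul_one]
      mul_mem' := by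
        intro a b ha hb x hx hxq
        rw [mul_assoc, hb x hx hxq, ← mul_assoc, ha x hx hxq, mul_assoc]
      inv_mem' := by
        intro a ha x hx hxq
        have := ha x hx hxq
        calc a⁻¹ * x = a⁻¹ * (x * a) * a⁻¹ := by group
          _ = a⁻¹ * (a * x) * a⁻¹ := by rw [this]
          _ = x * a⁻¹ := by group }
  have hBmem : ∀ g : G, g ∈ B ↔ ∀ x ∈ Q, x ^ q = 1 → g * x = x * g := fun g => Iff.rfl
  have hBn : B.Normal := by
    refine ⟨fun b hb g => ?_⟩
    rw [hBmem] at hb ⊢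
    intro x hx hxq
    have hy : g⁻¹ * x * g ∈ Q := by
      have := hQn.conj_mem x hx g⁻¹
      simpa using this
    have hyq : (g⁻¹ * x * g) ^ q = 1 := by
      have : g⁻¹ * x * g = g⁻¹ * x * g⁻¹⁻¹ := by rw [inv_inv]
      rw [this, conj_pow, hxq]; group
    have := hb _ hy hyq
    calc g * b * g⁻¹ * x = g * (b * (g⁻¹ * x * g)) * g⁻¹ := by group
      _ = g * ((g⁻¹ * x * g) * b) * g⁻¹ := by rw [this]
      _ = x * (g * b * g⁻¹) := by group
  have hfix : ∀ c : G, (∀ x ∈ Q, x ^ q = 1 → c * x * c⁻¹ = x) → c ∈ B := by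
    intro c hc
    rw [hBmem]
    intro x hx hxq
    have := hc x hx hxq
    calc c * x = (c * x * c⁻¹) * c := by group
      _ = x * c := by rw [this]
  apply isSupersolvable_of_strict q Q B hQq
  · -- `q'`-elements of `B` centralize `Q`
    intro g hgB hg x hx
    have hgN : g ∈ Subgroup.normalizer (Q : Set G) := by
      rw [Subgroup.normalizer_eq_top_iff.mpr hQn]; exact Subgroup.mem_top g
    refine Cfsg.Agent.Lib.Helper40.omega_lemma g hg _ Q rfl hQq hgN ?_ x hx
    intro a ha hcond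
    rcases hcond with h1 | ⟨h2, _⟩
    · exact (hBmem g).mp hgB a ha h1
    · exact absurd h2 hq2
  · -- commutators
    intro g h
    apply hfix
    intro x hx hxq
    set y : G := g⁻¹ * (h⁻¹ * x * h) * g with hy
    have hyQ : y ∈ Q := by
      have h1 := hQn.conj_mem x hx h⁻¹
      have h2 := hQn.conj_mem _ h1 g⁻¹
      simpa using h2
    have hyq : y ^ q = 1 := by
      have : y = (g⁻¹ * h⁻¹) * x * (g⁻¹ * h⁻¹)⁻¹ := by rw [hy]; group
      rw [this, conj_pow, hxq]; group
    have h1 := conj_comm_of_normal Q hn g h y hyQ hyq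
    have h2 : h * (g * y * g⁻¹) * h⁻¹ = x := by rw [hy]; group
    calc g * h * g⁻¹ * h⁻¹ * x * (g * h * g⁻¹ * h⁻¹)⁻¹ = g * (h * y * h⁻¹) * g⁻¹ := by
          rw [hy]; group
      _ = x := by rw [h1, h2]
  · -- `(q - 1)`-th powers
    intro g
    apply hfix
    intro x hx hxq
    obtain ⟨a, ha⟩ := conj_eq_pow_of_normal Q hn g x hx hxq
    rw [conj_pow_eq_pow_pow ha]
    by_cases hx1 : x = 1
    · rw [hx1, one_pow]
    · have ho : orderOf x = q := orderOf_eq_prime hxq hx1
      have hqa : ¬ q ∣ a := by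
        intro hd
        have h1 : x ^ a = 1 := by
          rw [← ho] at hd
          exact orderOf_dvd_iff_pow_eq_one.mp hd
        rw [h1] at ha
        apply hx1
        have : x = g⁻¹ * (g * x * g⁻¹) * g := by group
        rw [this, ha]; group
      have hcop : Nat.Coprime a q := ((Nat.Prime.coprime_iff_not_dvd hqp).mpr hqa).symm
      have hmod : a ^ (q - 1) ≡ 1 [MOD q] := by
        have := Nat.ModEq.pow_totient hcop
        rwa [Nat.totient_prime hqp] at this
      have h2 : x ^ (a ^ (q - 1)) = x ^ 1 := by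
        rw [pow_eq_pow_iff_modEq, ho]
        exact hmod
      rw [h2, pow_one]
  · exact hGQ

end OrderQ

section Minimal

variable {G : Type*} [Group G]

/-- `N` is a minimal normal subgroup of `G`. -/
def IsMinNormal (N : Subgroup G) : Prop :=
  N.Normal ∧ N ≠ ⊥ ∧ ∀ K : Subgroup G, K.Normal → K ≤ N → K = ⊥ ∨ K = N

theorem exists_isMinNormal_le [Finite G] (R : Subgroup G) [hRn : R.Normal] (hR : R ≠ ⊥) :
    ∃ N : Subgroup G, N ≤ R ∧ IsMinNormal N := by
  obtain ⟨N₀, hN₀⟩ := Set.Finite.exists_minimal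
    (s := {S : Subgroup G | S.Normal ∧ S ≠ ⊥ ∧ S ≤ R}) (Set.toFinite _) ⟨R, hRn, hR, le_refl _⟩
  obtain ⟨hN₀n, hN₀ne, hN₀R⟩ := hN₀.1
  refine ⟨N₀, hN₀R, hN₀n, hN₀ne, fun K hKn hKN => ?_⟩
  by_cases hK : K = ⊥
  · exact Or.inl hK
  · right
    exact le_antisymm hKN (hN₀.2 ⟨hKn, hK, hKN.trans hN₀R⟩ hKN)

/-- A maximal subgroup containing a normal subgroup with supersolvable quotient has prime index. -/
theorem index_prime_of_quotient {G : Type u} [Group G] [Finite G] (N M : Subgroup G) [N.Normal]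
    (hNM : N ≤ M) (hM : IsCoatom M) (h : Cfsg.IsSupersolvable (G ⧸ N)) : M.index.Prime := by
  have hsurj := QuotientGroup.mk'_surjective N
  have hcm : (M.map (QuotientGroup.mk' N)).comap (QuotientGroup.mk' N) = M :=
    comap_map_mk_of_le N M hNM
  have hco : IsCoatom (M.map (QuotientGroup.mk' N)) := by
    refine ⟨?_, ?_⟩
    · intro htop
      apply hM.1
      rw [← hcm, htop, Subgroup.comap_top]
    · intro K hK
      have h1 : M ≤ K.comap (QuotientGroup.mk' N) := by
        rw [← hcm]; exact Subgroup.comap_mono hK.le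
      have h2 : M ≠ K.comap (QuotientGroup.mk' N) := by
        intro heq
        apply hK.ne
        rw [heq, Subgroup.map_comap_eq_self_of_surjective hsurj]
      have h3 := hM.2 _ (lt_of_le_of_ne h1 h2)
      rw [← Subgroup.map_comap_eq_self_of_surjective hsurj K, h3, ← MonoidHom.range_eq_map,
        MonoidHom.range_eq_top.mpr hsurj]
  have h4 := index_prime_of_isCoatom h _ hco
  rwa [Subgroup.index_map_eq M hsurj (by rwa [QuotientGroup.ker_mk'])] at h4

theorem card_sup_of_disjoint [Finite G] (N F : Subgroup G) [N.Normal] (h : N ⊓ F = ⊥) :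
    Nat.card (N ⊔ F : Subgroup G) = Nat.card N * Nat.card F := by
  have h1 := card_mul_relIndex' (le_sup_left : N ≤ N ⊔ F)
  rw [Subgroup.relIndex_sup_left, ← Subgroup.inf_relIndex_right, h,
    Subgroup.relIndex_bot_left] at h1
  exact h1.symm

/-- In a `q`-group `F₀` of order `q ^ (d + 1)` (`d ≥ 2`), a subgroup `N` of order `q ^ d` and
exponent `q` is not the only subgroup of order `q ^ d`. -/
theorem exists_other_maximal [Finite G] {q : ℕ} [hq : Fact q.Prime] {d : ℕ} (hd : 2 ≤ d)
    (F₀ N : Subgroup G) (hNF : N ≤ F₀) (hcN : Nat.card N = q ^ d)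
    (hcF : Nat.card F₀ = q ^ (d + 1)) (hexp : ∀ x ∈ N, x ^ q = 1) :
    ∃ F : Subgroup G, F ≤ F₀ ∧ Nat.card F = q ^ d ∧ F ≠ N := by
  have hqp : q.Prime := hq.out
  have hlt : q ^ d < q ^ (d + 1) := Nat.pow_lt_pow_right hqp.one_lt (Nat.lt_succ_self d)
  obtain ⟨x, hxF, hxN⟩ : ∃ x ∈ F₀, x ∉ N := by
    by_contra hcon
    push Not at hcon
    have h1 : Nat.card F₀ ≤ Nat.card N := Subgroup.card_le_of_le hcon
    rw [hcN, hcF] at h1
    exact absurd h1 (not_le.mpr hlt)
  set C : Subgroup G := Subgroup.zpowers x with hC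
  have hCF : C ≤ F₀ := by rw [hC, Subgroup.zpowers_le]; exact hxF
  have hCd : Nat.card C ∣ q ^ (d + 1) := hcF ▸ Subgroup.card_dvd_of_le hCF
  obtain ⟨j, hj, hCj⟩ := (Nat.dvd_prime_pow hqp).mp hCd
  rcases Nat.lt_or_ge d j with hdj | hjd
  · -- `F₀` is cyclic
    exfalso
    have hj1 : j = d + 1 := le_antisymm hj hdj
    have hCF' : C = F₀ := Subgroup.eq_of_le_of_card_ge hCF (by rw [hCj, hj1, hcF])
    haveI : IsCyclic ↥F₀ := by rw [← hCF', hC]; infer_instance
    haveI : IsCyclic ↥N := Subgroup.isCyclic_of_le hNF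
    have h1 : Monoid.exponent ↥N = Nat.card N := IsCyclic.exponent_eq_card
    have h2 : Monoid.exponent ↥N ∣ q := by
      apply Monoid.exponent_dvd_of_forall_pow_eq_one
      intro g
      exact Subtype.ext (hexp g g.2)
    rw [h1, hcN] at h2
    have h3 : q ^ 2 ∣ q := (pow_dvd_pow q hd).trans h2
    have h4 : q ^ 2 ≤ q := Nat.le_of_dvd hqp.pos h3
    nlinarith [hqp.two_le]
  · -- extend `⟨x⟩` to a subgroup of order `q ^ d`
    have hcard0 : Nat.card ↥F₀ = q ^ (d + 1) := hcF
    have hdvd : q ^ d ∣ Nat.card ↥F₀ := by rw [hcard0]; exact pow_dvd_pow q (Nat.le_succ d)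
    have hcC' : Nat.card ↥(C.subgroupOf F₀) = q ^ j := by
      rw [← hCj]
      exact Nat.card_congr (Subgroup.subgroupOfEquivOfLe hCF).toEquiv
    obtain ⟨K, hK, hCK⟩ := Sylow.exists_subgroup_card_pow_prime_le q hdvd (C.subgroupOf F₀) hcC' hjd
    refine ⟨K.map F₀.subtype, Subgroup.map_subtype_le K, ?_, ?_⟩
    · rw [Subgroup.card_subtype, hK]
    · intro heq
      apply hxN
      rw [← heq]
      refine ⟨⟨x, hxF⟩, hCK ?_, rfl⟩
      rw [Subgroup.mem_subgroupOf]
      exact Subgroup.mem_zpowers x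

end Minimal

section LemmaA

theorem inf_coatom_normal {G : Type*} [Group G] [Finite G] {q : ℕ} [Fact q.Prime]
    (Q M : Subgroup G) [hQn : Q.Normal] (hQq : IsPGroup q Q) (hM : IsCoatom M) (hQM : ¬ Q ≤ M) :
    (Q ⊓ M).Normal := by
  set T : Subgroup G := Q ⊓ M with hT
  have hTQ : T ≤ Q := inf_le_left
  have hT' : T.subgroupOf Q < ⊤ := by
    rw [lt_top_iff_ne_top]
    intro h
    rw [Subgroup.subgroupOf_eq_top] at h
    exact hQM (h.trans inf_le_right)
  haveI : Group.IsNilpotent ↥Q := hQq.isNilpotent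
  have hnc := Group.normalizerCondition_of_isNilpotent (G := ↥Q) (T.subgroupOf Q) hT'
  obtain ⟨x', hx'N, hx'T⟩ := SetLike.exists_of_lt hnc
  have hxT : ∀ t ∈ T, (x' : G) * t * (x' : G)⁻¹ ∈ T := by
    intro t ht
    have h1 := (Subgroup.mem_normalizer_iff.mp hx'N ⟨t, hTQ ht⟩).mp
      (by rw [Subgroup.mem_subgroupOf]; exact ht)
    rw [Subgroup.mem_subgroupOf] at h1
    simpa using h1
  have hxN : (x' : G) ∈ Subgroup.normalizer (T : Set G) := mem_normalizer_of_conj_mem' hxT
  have hxM : (x' : G) ∉ M := by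
    intro hxM
    apply hx'T
    rw [Subgroup.mem_subgroupOf]
    exact ⟨x'.2, hxM⟩
  have hMN : M ≤ Subgroup.normalizer (T : Set G) := by
    intro m hm
    apply mem_normalizer_of_conj_mem'
    intro t ht
    exact ⟨hQn.conj_mem t ht.1 m, M.mul_mem (M.mul_mem hm ht.2) (M.inv_mem hm)⟩
  have hlt : M < Subgroup.normalizer (T : Set G) :=
    lt_of_le_of_ne hMN (fun h => hxM (h ▸ hxN))
  exact Subgroup.normalizer_eq_top_iff.mp (hM.2 _ hlt)

/-- `q` odd: if all subgroups of order `q ^ d` (`1 ≤ d`, `q ^ d < |Q|`) of the normal `q`-subgroup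
`Q` are normal in `G` and `G ⧸ Q` is supersolvable, then `G` is supersolvable. -/
theorem isSupersolvable_of_order_pow (q : ℕ) [hq : Fact q.Prime] (hq2 : q ≠ 2) :
    ∀ (n : ℕ) (G : Type u) [Group G] [Finite G] (Q : Subgroup G) [Q.Normal], Nat.card G = n →
    IsPGroup q Q → Cfsg.IsSupersolvable (G ⧸ Q) → ∀ d : ℕ, 1 ≤ d → q ^ d < Nat.card Q →
    (∀ F : Subgroup G, F ≤ Q → Nat.card F = q ^ d → F.Normal) → Cfsg.IsSupersolvable G := by
  have hqp : q.Prime := hq.out
  intro n
  induction n using Nat.strong_induction_on with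
  | _ n ih =>
  intro G _ _ Q hQn hn hQq hGQ d hd hdQ hF
  rcases Nat.lt_or_ge d 2 with hd2 | hd2
  · have hd1 : d = 1 := by omega
    subst hd1
    exact isSupersolvable_of_order_q hq2 Q hQq (fun F hFQ hc => hF F hFQ (by rw [hc, pow_one])) hGQ
  · have hKC : ∀ (N : Subgroup G) [N.Normal], N ≤ Q → IsMinNormal N →
        Nat.card N < q ^ d ∧ Cfsg.IsSupersolvable (G ⧸ N) := by
      intro N hNn hNQ hNmin
      obtain ⟨-, hNne, hNm⟩ := hNmin
      have hNq : IsPGroup q N := hQq.to_le hNQ
      obtain ⟨e, he⟩ := IsPGroup.iff_card.mp hNq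
      have he1 : 1 ≤ e := by
        rcases Nat.eq_zero_or_pos e with h0 | h0
        · exfalso
          rw [h0, pow_zero] at he
          exact hNne (Subgroup.card_eq_one.mp he)
        · exact h0
      have hexp : ∀ x ∈ N, x ^ q = 1 := by
        have h1 : (omegaZ q N).Normal := omegaZ_normal q N
        have h2 : omegaZ q N ≠ ⊥ := omegaZ_ne_bot hNq hNne
        rcases hNm _ h1 (omegaZ_le q N) with h3 | h3
        · exact absurd h3 h2
        · intro x hx
          rw [← h3] at hx
          exact hx.2.2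
      have hed : e ≤ d := by
        by_contra hcon
        push Not at hcon
        have hdvd : q ^ d ∣ Nat.card ↥N := by rw [he]; exact pow_dvd_pow q hcon.le
        obtain ⟨K, hK⟩ := Sylow.exists_subgroup_card_pow_prime q hdvd
        have hKc : Nat.card (K.map N.subtype) = q ^ d := by rw [Subgroup.card_subtype, hK]
        have hKN : K.map N.subtype ≤ N := Subgroup.map_subtype_le K
        have hKn := hF _ (hKN.trans hNQ) hKc
        rcases hNm _ hKn hKN with h3 | h3
        · rw [h3, Subgroup.card_bot] at hKc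
          have : 1 < q ^ d := Nat.one_lt_pow (by omega) hqp.one_lt
          omega
        · rw [h3, he] at hKc
          exact absurd (Nat.pow_right_injective hqp.two_le hKc) hcon.ne'
      have hed' : e ≠ d := by
        intro hed'
        rw [hed'] at he
        obtain ⟨n', hn'⟩ := IsPGroup.iff_card.mp hQq
        have hdn : d < n' := by
          rw [hn'] at hdQ
          exact (Nat.pow_lt_pow_iff_right hqp.one_lt).mp hdQ
        have hdvd : q ^ (d + 1) ∣ Nat.card ↥Q := by rw [hn']; exact pow_dvd_pow q hdn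
        have hcN' : Nat.card ↥(N.subgroupOf Q) = q ^ d := by
          rw [← he]
          exact Nat.card_congr (Subgroup.subgroupOfEquivOfLe hNQ).toEquiv
        obtain ⟨K, hK, hNK⟩ := Sylow.exists_subgroup_card_pow_prime_le q hdvd (N.subgroupOf Q) hcN'
          (Nat.le_succ d)
        set F₀ : Subgroup G := K.map Q.subtype with hF₀
        have hF₀Q : F₀ ≤ Q := Subgroup.map_subtype_le K
        have hcF₀ : Nat.card F₀ = q ^ (d + 1) := by rw [hF₀, Subgroup.card_subtype, hK]
        have hNF₀ : N ≤ F₀ := by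
          intro x hx
          refine ⟨⟨x, hNQ hx⟩, hNK ?_, rfl⟩
          rw [Subgroup.mem_subgroupOf]
          exact hx
        obtain ⟨F, hFF₀, hcF, hFN⟩ := exists_other_maximal hd2 F₀ N hNF₀ he hcF₀ hexp
        haveI hFn : F.Normal := hF F (hFF₀.trans hF₀Q) hcF
        have hinf : (F ⊓ N).Normal := inferInstance
        rcases hNm _ hinf inf_le_right with h3 | h3
        · have h4 : Nat.card (N ⊔ F : Subgroup G) = Nat.card N * Nat.card F :=
            card_sup_of_disjoint N F (by rw [inf_comm]; exact h3)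
          have h5 : Nat.card (N ⊔ F : Subgroup G) ≤ Nat.card F₀ :=
            Subgroup.card_le_of_le (sup_le hNF₀ hFF₀)
          rw [h4, he, hcF, hcF₀, ← pow_add] at h5
          have h6 := (Nat.pow_le_pow_iff_right hqp.one_lt).mp h5
          omega
        · apply hFN
          symm
          apply Subgroup.eq_of_le_of_card_ge
          · rw [← h3]; exact inf_le_left
          · rw [he, hcF]
      have hlt : e < d := lt_of_le_of_ne hed hed'
      refine ⟨by rw [he]; exact Nat.pow_lt_pow_right hqp.one_lt hlt, ?_⟩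
      have hsurj := QuotientGroup.mk'_surjective N
      haveI hQmn : (Q.map (QuotientGroup.mk' N)).Normal := hQn.map _ hsurj
      have hcardG : Nat.card (G ⧸ N) < n := by
        have h1 : Nat.card G = Nat.card (G ⧸ N) * Nat.card N :=
          Subgroup.card_eq_card_quotient_mul_card_subgroup N
        have h2 : 2 ≤ Nat.card N := by
          rw [he]
          calc 2 ≤ q := hqp.two_le
            _ = q ^ 1 := (pow_one q).symm
            _ ≤ q ^ e := Nat.pow_le_pow_right hqp.pos he1
        have h3 : 0 < Nat.card (G ⧸ N) := Nat.card_pos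
        rw [← hn, h1]
        nlinarith
      have hcQm : Nat.card (Q.map (QuotientGroup.mk' N)) * Nat.card N = Nat.card Q :=
        card_map_mk_mul N Q hNQ
      have hpow : q ^ (d - e) * q ^ e = q ^ d := by rw [← pow_add]; congr 1; omega
      apply ih (Nat.card (G ⧸ N)) hcardG (G ⧸ N) (Q.map (QuotientGroup.mk' N)) rfl (hQq.map _)
        (isSupersolvable_quot_quot N Q hNQ hGQ) (d - e) (by omega)
      · rw [← hcQm, ← hpow, he] at hdQ
        exact Nat.lt_of_mul_lt_mul_right hdQ
      · intro Fb hFb hcFb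
        set F : Subgroup G := Fb.comap (QuotientGroup.mk' N) with hFdef
        have hNF : N ≤ F := by
          intro x hx
          rw [hFdef, Subgroup.mem_comap, QuotientGroup.mk'_apply,
            (QuotientGroup.eq_one_iff x).mpr hx]
          exact one_mem _
        have hFQ : F ≤ Q := by
          have h1 : F ≤ (Q.map (QuotientGroup.mk' N)).comap (QuotientGroup.mk' N) :=
            Subgroup.comap_mono hFb
          rwa [comap_map_mk_of_le N Q hNQ] at h1
        have hFmap : F.map (QuotientGroup.mk' N) = Fb :=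
          Subgroup.map_comap_eq_self_of_surjective hsurj Fb
        have hcF : Nat.card F = q ^ d := by
          rw [← card_map_mk_mul N F hNF, hFmap, hcFb, he, hpow]
        have hFn : F.Normal := hF F hFQ hcF
        rw [← hFmap]
        exact hFn.map _ hsurj
    have hQne : Q ≠ ⊥ := by
      intro h
      rw [h, Subgroup.card_bot] at hdQ
      have : 0 < q ^ d := Nat.pow_pos hqp.pos
      omega
    apply Cfsg.Agent.S0579.result
    intro M hM
    by_cases hQM : Q ≤ M
    · obtain ⟨N, hNQ, hNmin⟩ := exists_isMinNormal_le Q hQne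
      haveI := hNmin.1
      exact index_prime_of_quotient N M (hNQ.trans hQM) hM (hKC N hNQ hNmin).2
    · haveI hQ₁n : (Q ⊓ M).Normal := inf_coatom_normal Q M hQq hM hQM
      by_cases hQ₁ : Q ⊓ M = ⊥
      · exfalso
        obtain ⟨N, hNQ, hNmin⟩ := exists_isMinNormal_le Q hQne
        haveI := hNmin.1
        have hNM : ¬ N ≤ M := fun h =>
          hNmin.2.1 (by rw [eq_bot_iff, ← hQ₁]; exact le_inf hNQ h)
        have htop : N ⊔ M = ⊤ :=
          hM.2 _ (lt_of_le_of_ne le_sup_right (fun h => hNM (by rw [h]; exact le_sup_left)))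
        have hQN : Q ≤ N := by
          intro x hx
          have hx' : x ∈ N ⊔ M := by rw [htop]; exact Subgroup.mem_top x
          obtain ⟨y, hy, z, hz, rfl⟩ := Subgroup.mem_sup_of_normal_left.mp hx'
          have hzQ : z ∈ Q := by
            have := Q.mul_mem (Q.inv_mem (hNQ hy)) hx
            simpa using this
          have hz1 : z ∈ Q ⊓ M := ⟨hzQ, hz⟩
          rw [hQ₁, Subgroup.mem_bot] at hz1
          rw [hz1, mul_one]
          exact hy
        have h1 := (hKC N hNQ hNmin).1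
        have h2 : Nat.card Q ≤ Nat.card N := Subgroup.card_le_of_le hQN
        omega
      · obtain ⟨N, hNQ₁, hNmin⟩ := exists_isMinNormal_le (Q ⊓ M) hQ₁
        haveI := hNmin.1
        exact index_prime_of_quotient N M (hNQ₁.trans inf_le_right) hM
          (hKC N (hNQ₁.trans inf_le_left) hNmin).2

end LemmaA

section Main

theorem main_aux : ∀ (n : ℕ) (G : Type u) [Group G] [Finite G] (E : Subgroup G) [E.Normal],
    Nat.card G = n → Cfsg.IsSupersolvable (G ⧸ E) → SylHyp E → Cfsg.IsSupersolvable G := by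
  intro n
  induction n using Nat.strong_induction_on with
  | _ n ih =>
  intro G _ _ E hEn hn hGE hE
  by_cases hEb : E = ⊥
  · subst hEb
    exact isSupersolvable_of_mulEquiv (QuotientGroup.quotientBot (G := G)) hGE
  obtain ⟨q, Q, hq, hQE, hQne, hQn, hQq, hQi⟩ := exists_normal_sylow _ E rfl hEn hEb hE
  haveI : Fact q.Prime := ⟨hq⟩
  haveI := hQn
  have hsurj := QuotientGroup.mk'_surjective Q
  haveI hEmn : (E.map (QuotientGroup.mk' Q)).Normal := hEn.map _ hsurj
  have hcardGQ : Nat.card (G ⧸ Q) < n := by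
    have h1 : Nat.card G = Nat.card (G ⧸ Q) * Nat.card Q :=
      Subgroup.card_eq_card_quotient_mul_card_subgroup Q
    have h2 : 2 ≤ Nat.card Q := by
      have h3 : Nat.card Q ≠ 1 := fun h => hQne (Subgroup.card_eq_one.mp h)
      have h4 : 0 < Nat.card Q := Nat.card_pos
      omega
    have h3 : 0 < Nat.card (G ⧸ Q) := Nat.card_pos
    rw [← hn, h1]
    nlinarith
  have hGQ : Cfsg.IsSupersolvable (G ⧸ Q) :=
    ih _ hcardGQ (G ⧸ Q) (E.map (QuotientGroup.mk' Q)) rfl
      (isSupersolvable_quot_quot Q E hQE hGE) (sylHyp_map_mk E Q hQE hQq hQi hE)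
  by_cases hc : IsCyclic ↥Q
  · exact isSupersolvable_of_cyclic_normal Q hGQ
  have hgood : Good Q := hE q hq Q hQE hQq hQi hc
  by_cases hq2 : q = 2
  · subst hq2
    exact isSupersolvable_of_two Q hQq (Or.inr hgood) hGQ
  · obtain ⟨D, hDQ, hD1, hD2, hD⟩ := hgood
    obtain ⟨d, hd⟩ := IsPGroup.iff_card.mp (hQq.to_le hDQ)
    have hd1 : 1 ≤ d := by
      rcases Nat.eq_zero_or_pos d with h0 | h0
      · rw [h0, pow_zero] at hd
        omega
      · exact h0
    apply isSupersolvable_of_order_pow q hq2 _ G Q rfl hQq hGQ d hd1 (hd ▸ hD2)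
    intro F hFQ hcF
    have hHF : HSub F := hD F hFQ (Or.inl (by rw [hcF, hd]))
    exact hHF.normal_of_le_normal_pgroup hFQ hQq

end Main

/-- Let G be a finite group and E a normal subgroup with G/E supersolvable. Suppose that for every prime p and every non-cyclic Sylow p-subgroup P of E there is a subgroup D of P with 1 < |D| < |P| such that every subgroup F of P of order |D|, and also every subgroup F of P of order 4 when |D| = 2, satisfies g F g⁻¹ ∩ N_G(F) ≤ F for all g ∈ G. Then G is supersolvable. -/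
theorem result {G : Type*} [Group G] [Finite G] (E : Subgroup G) [E.Normal] (hGE : Cfsg.IsSupersolvable (G ⧸ E))
    (h : ∀ (p : ℕ), p.Prime → ∀ P : Subgroup G, P ≤ E → IsPGroup p P → ¬ p ∣ P.relIndex E → ¬ IsCyclic ↥P →
      ∃ D : Subgroup G, D ≤ P ∧ 1 < Nat.card D ∧ Nat.card D < Nat.card P ∧
        ∀ F : Subgroup G, F ≤ P → (Nat.card F = Nat.card D ∨ (Nat.card D = 2 ∧ Nat.card F = 4)) →
          ∀ g : G, F.map (MulAut.conj g).toMonoidHom ⊓ Subgroup.normalizer (F : Set G) ≤ F) :
    Cfsg.IsSupersolvable G := by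
  exact main_aux _ G E rfl hGE h

end Cfsg.Agent.S3032
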