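import Cfsg.Statements.S3033
import Cfsg.Agent.Lib.Helper96.SS33Defs
import Cfsg.Agent.Lib.Helper85.SS33A
import Cfsg.Agent.Lib.Helper78.SS33B2
import Cfsg.Agent.Lib.Helper12.Supersolvable
import Cfsg.Agent.Lib.Helper12.SupersolvableCyclic
import Cfsg.Agent.Lib.Helper13.MinNormalSolvable
import Cfsg.Agent.Lib.Helper93.SS33E

set_option autoImplicit false
open Cfsg

namespace Cfsg.Agent.S3033

open Cfsg.Agent.Lib.Helper96.SS33 (Hyp)

universe u

/-- Strong induction on the order: the hypothesis `Hyp` forces supersolvability. -/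
theorem main_aux : ∀ (n : ℕ) (G : Type u) [Group G] [Finite G], Nat.card G = n → Hyp G →
    IsSupersolvable G := by
  intro n
  induction n using Nat.strong_induction_on with
  | _ n ih =>
    intro G _ _ hcard hG
    by_contra hns
    have hsub : ∀ H : Subgroup G, H ≠ ⊤ → IsSupersolvable H := by
      intro H hH
      refine ih (Nat.card H) ?_ H rfl (Cfsg.Agent.Lib.Helper85.SS33.hyp_subgroup hG H)
      rw [← hcard]
      exact lt_of_le_of_ne (Subgroup.card_le_card_group H)
        (fun h => hH ((Subgroup.card_eq_iff_eq_top H).1 h))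
    have hquot : ∀ (N : Subgroup G) [N.Normal], N ≠ ⊥ → IsSupersolvable (G ⧸ N) := by
      intro N _ hN
      refine ih (Nat.card (G ⧸ N)) ?_ (G ⧸ N) rfl
        (Cfsg.Agent.Lib.Helper85.SS33.hyp_quotient hG N)
      rw [← hcard, ← Subgroup.index_eq_card, ← Subgroup.card_mul_index N]
      have h1 : 1 < Nat.card N := by
        rw [Finite.one_lt_card_iff_nontrivial]
        exact (Subgroup.nontrivial_iff_ne_bot N).2 hN
      have h2 : 0 < N.index := Nat.pos_of_ne_zero Subgroup.index_ne_zero_of_finite
      nlinarith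
    have : Nontrivial G := by
      by_contra h
      rw [not_nontrivial_iff_subsingleton] at h
      exact hns (Cfsg.Agent.Lib.Helper12.isSupersolvable_of_subsingleton)
    have : Group.IsSolvable G :=
      Cfsg.Agent.Lib.Helper78.SS33.isSolvable_of_proper_supersolvable hsub
    obtain ⟨N, hN⟩ := Cfsg.Agent.Lib.Helper13.exists_isMinNormal (G := G)
    obtain ⟨q, hq, -, hexp, -⟩ := hN.exists_prime
    have : Fact q.Prime := ⟨hq⟩
    have : N.Normal := hN.1
    have hcyc : IsCyclic N := Cfsg.Agent.Lib.Helper93.SS33.isCyclic_of_hyp hG q N hN.2.1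
      (fun a ha b hb => hN.mul_comm_of_mem ha hb) hexp hN.2.2 (hquot N hN.2.1)
    exact hns (Cfsg.Agent.Lib.Helper12.isSupersolvable_of_cyclic_normal N (hquot N hN.2.1))

/-- Let G be a finite group such that for every pair of distinct primes p and q, every p-element x and every q-element g of G, the order of the subgroup generated by x and g x g⁻¹ is not divisible by q². Then G is supersolvable. -/
theorem result {G : Type*} [Group G] [Finite G]
    (h : ∀ (p q : ℕ), p.Prime → q.Prime → p ≠ q → ∀ (x g : G), (∃ a : ℕ, orderOf x = p ^ a) → (∃ b : ℕ, orderOf g = q ^ b) →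
      ¬ q ^ 2 ∣ Nat.card ↥(Subgroup.zpowers x ⊔ Subgroup.zpowers (g * x * g⁻¹))) :
    Cfsg.IsSupersolvable G := by
  exact main_aux (Nat.card G) G rfl h

end Cfsg.Agent.S3033
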