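import Cfsg.Statements.S3035
import Cfsg.Agent.Lib.Helper58.D8C2
import Cfsg.Agent.Lib.Helper58.D8C7
import Cfsg.Agent.S0848
import Cfsg.Agent.S0495
import Cfsg.Agent.S0497

set_option autoImplicit false
open Cfsg

namespace Cfsg.Agent.S3035

/-- Let G be a finite group with an involution z whose centralizer is dihedral of order 8. Then G = C_G(z) O(G) with O(G) the largest normal subgroup of odd order, or G is isomorphic to the symmetric group of degree 4, the symmetric group of degree 5, the group SL₃(2), or the alternating group of degree 6. -/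
theorem result {G : Type*} [Group G] [Finite G] (z : G) (hz : orderOf z = 2)
    (hC : Nonempty (↥(Subgroup.centralizer ({z} : Set G)) ≃* DihedralGroup 4)) :
    Subgroup.centralizer ({z} : Set G) ⊔ Cfsg.oddCore G = ⊤ ∨ Nonempty (G ≃* Equiv.Perm (Fin 4)) ∨ Nonempty (G ≃* Equiv.Perm (Fin 5)) ∨
      Nonempty (G ≃* Matrix.SpecialLinearGroup (Fin 3) (ZMod 2)) ∨ Nonempty (G ≃* ↥(alternatingGroup (Fin 6))) := by
  obtain ⟨e⟩ := hC
  by_cases hG : ∀ H : Subgroup G, H.index ≠ 2
  · have hs : IsSimpleGroup G := Cfsg.Agent.Lib.Helper58.D8C.isSimpleGroup hG z hz e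
    have hperf : commutator G = ⊤ := Cfsg.Agent.Lib.Helper58.D8C.commutator_eq_top hG z hz e
    rcases Cfsg.Agent.S0848.result hperf z hz e with h | h
    · right; right; right; left
      have : Fact (Nat.Prime 7) := ⟨by norm_num⟩
      obtain ⟨f⟩ := Cfsg.Agent.S0495.result h (F := ZMod 7) (ZMod.card 7)
      obtain ⟨g⟩ := Cfsg.Agent.Lib.Helper58.D8C.nonempty_psl27_equiv_sl32
      exact ⟨f.trans g⟩
    · right; right; right; right
      exact Cfsg.Agent.S0497.result h
  · push Not at hG
    obtain ⟨H, hH⟩ := hG
    rcases Cfsg.Agent.Lib.Helper58.D8C.index_two_case z hz e H hH with h | h | h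
    · left; exact h
    · right; left; exact h
    · right; right; left; exact h

end Cfsg.Agent.S3035
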