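import Cfsg.Statements.S3036
import Cfsg.Agent.Lib.Helper58.ChermakDelgado

set_option autoImplicit false
open Cfsg

namespace Cfsg.Agent.S3036

open Subgroup Cfsg.Agent.Lib.Helper58

/-- Let G be a finite non-abelian simple group and A a proper nontrivial subgroup of G. Then |G| > |A| · |C_G(A)|. In particular |G| > |A|² for every nontrivial abelian subgroup A of G. -/
theorem result {G : Type*} [Group G] [Finite G] [IsSimpleGroup G] (hG : ¬ IsMulCommutative G) (A : Subgroup G) (hA1 : A ≠ ⊥) (hA2 : A ≠ ⊤) : Nat.card A * Nat.card ↥(Subgroup.centralizer (A : Set G)) < Nat.card G := by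
  classical
  by_contra hcon
  rw [not_lt] at hcon
  have hcon' : Nat.card G ≤ cdm A := hcon
  -- centre is trivial
  have hcenter : Subgroup.center G = ⊥ := by
    rcases (Subgroup.Normal.eq_bot_or_eq_top (inferInstance : (Subgroup.center G).Normal)) with h | h
    · exact h
    · exfalso
      apply hG
      refine ⟨⟨fun a b => ?_⟩⟩
      have ha : a ∈ Subgroup.center G := by rw [h]; exact Subgroup.mem_top a
      exact ((Subgroup.mem_center_iff.mp ha) b).symm
  have hcdm_bot : cdm (⊥ : Subgroup G) = Nat.card G := by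
    unfold cdm
    have hc : Subgroup.centralizer ((⊥ : Subgroup G) : Set G) = ⊤ := by simp
    rw [hc]
    simp
  have hcdm_top : cdm (⊤ : Subgroup G) = Nat.card G := by
    unfold cdm
    have hc : Subgroup.centralizer ((⊤ : Subgroup G) : Set G) = ⊥ := by
      rw [← hcenter]
      simp [Subgroup.centralizer_univ]
    rw [hc]
    simp
  -- the maximum of the measure
  obtain ⟨B₀, hB₀⟩ := Finite.exists_max (fun B : Subgroup G => cdm B)
  set m : ℕ := cdm B₀ with hm
  have hmpos : 0 < m := cdm_pos _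
  have hmax : ∀ B : Subgroup G, cdm B ≤ m := hB₀
  -- infimum of two maximizers is a maximizer
  have hinf : ∀ B C : Subgroup G, cdm B = m → cdm C = m → cdm (B ⊓ C) = m := by
    intro B C hB hC
    have h1 := cdm_submod B C
    rw [hB, hC] at h1
    have h2 : cdm (B ⊔ C) ≤ m := hmax _
    have h3 : m * m ≤ m * cdm (B ⊓ C) :=
      h1.trans (Nat.mul_le_mul_right _ h2)
    have h4 : m ≤ cdm (B ⊓ C) := Nat.le_of_mul_le_mul_left h3 hmpos
    exact le_antisymm (hmax _) h4
  -- Step 1: m = |G|
  have hm_eq : m = Nat.card G := by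
    have hne : Nonempty {B : Subgroup G // cdm B = m} := ⟨⟨B₀, rfl⟩⟩
    obtain ⟨M₀, hM₀⟩ := Finite.exists_min (fun B : {B : Subgroup G // cdm B = m} => Nat.card B.1)
    obtain ⟨M, hMm⟩ := M₀
    have hMmin : ∀ B : Subgroup G, cdm B = m → Nat.card M ≤ Nat.card B := fun B hB => hM₀ ⟨B, hB⟩
    have hMle : ∀ B : Subgroup G, cdm B = m → M ≤ B := by
      intro B hB
      have h1 : cdm (M ⊓ B) = m := hinf M B hMm hB
      have h2 : Nat.card M ≤ Nat.card ↥(M ⊓ B) := hMmin _ h1
      have h3 : M ⊓ B = M := Subgroup.eq_of_le_of_card_ge inf_le_left h2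
      rw [← h3]; exact inf_le_right
    have hMnormal : M.Normal := by
      constructor
      intro x hx g
      have h1 : cdm (M.map (MulAut.conj g⁻¹).toMonoidHom) = m := by rw [cdm_conj, hMm]
      have h2 := hMle _ h1 hx
      obtain ⟨y, hy, hyx⟩ := h2
      have : g * x * g⁻¹ = y := by
        rw [← hyx]
        simp [mul_assoc]
      rw [this]; exact hy
    rcases hMnormal.eq_bot_or_eq_top with h | h
    · rw [← hMm, h, hcdm_bot]
    · rw [← hMm, h, hcdm_top]
  have hAm : cdm A = m := le_antisymm (hmax A) (by rw [hm_eq]; exact hcon')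
  -- Step 2: a minimal nontrivial maximizer inside A
  have hne : Nonempty {B : Subgroup G // cdm B = m ∧ B ≠ ⊥ ∧ B ≤ A} := ⟨⟨A, hAm, hA1, le_rfl⟩⟩
  obtain ⟨A₀', hA₀'⟩ := Finite.exists_min
    (fun B : {B : Subgroup G // cdm B = m ∧ B ≠ ⊥ ∧ B ≤ A} => Nat.card B.1)
  obtain ⟨A₀, hA₀m, hA₀1, hA₀A⟩ := A₀'
  have hA₀min : ∀ B : Subgroup G, cdm B = m → B ≠ ⊥ → B ≤ A → Nat.card A₀ ≤ Nat.card B :=
    fun B h1 h2 h3 => hA₀' ⟨B, h1, h2, h3⟩
  have hA₀top : A₀ ≠ ⊤ := by
    intro h
    apply hA2
    rw [h] at hA₀A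
    exact top_le_iff.mp hA₀A
  set C₀ : Subgroup G := Subgroup.centralizer (A₀ : Set G) with hC₀
  have hC₀m : cdm C₀ = m := le_antisymm (hmax _) (by rw [← hA₀m]; exact cdm_le_cdm_centralizer A₀)
  -- dichotomy for each conjugate
  have hdich : ∀ g : G, A₀.map (MulAut.conj g).toMonoidHom ⊓ C₀ = ⊥ ∨
      A₀.map (MulAut.conj g).toMonoidHom ≤ C₀ := by
    intro g
    set Ag := A₀.map (MulAut.conj g).toMonoidHom with hAg
    have hAgm : cdm Ag = m := by rw [cdm_conj, hA₀m]
    set B := Ag ⊓ C₀ with hB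
    have hBm : cdm B = m := hinf _ _ hAgm hC₀m
    by_cases hB1 : B = ⊥
    · left; exact hB1
    · right
      -- conjugate back
      set B' := B.map (MulAut.conj g⁻¹).toMonoidHom with hB'
      have hB'm : cdm B' = m := by rw [cdm_conj, hBm]
      have hB'le : B' ≤ A₀ := by
        rintro _ ⟨b, hb, rfl⟩
        obtain ⟨a, ha, hab⟩ := hb.1
        rw [← hab]
        simpa [MulAut.conj_apply, mul_assoc] using ha
      have hB'1 : B' ≠ ⊥ := by
        intro h
        apply hB1
        rw [hB'] at h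
        exact (Subgroup.map_eq_bot_iff_of_injective _ (MulAut.conj g⁻¹).injective).mp h
      have hcard : Nat.card A₀ ≤ Nat.card B' := hA₀min B' hB'm hB'1 (hB'le.trans hA₀A)
      have hBeq : B' = A₀ := Subgroup.eq_of_le_of_card_ge hB'le hcard
      -- so card B = card Ag, hence B = Ag
      have hcB : Nat.card B = Nat.card A₀ := by
        rw [← hBeq, hB']
        exact (Subgroup.card_map_of_injective (MulAut.conj g⁻¹).injective).symm
      have hcAg : Nat.card Ag = Nat.card A₀ :=
        Subgroup.card_map_of_injective (MulAut.conj g).injective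
      have hBAg : B = Ag := Subgroup.eq_of_le_of_card_ge inf_le_left (by rw [hcB, hcAg])
      rw [← hBAg]; exact inf_le_right
  by_cases hcase : ∃ g : G, A₀.map (MulAut.conj g).toMonoidHom ⊓ C₀ = ⊥
  · -- case (a)
    obtain ⟨g, hg⟩ := hcase
    set Ag := A₀.map (MulAut.conj g).toMonoidHom with hAg
    have hcAg : Nat.card Ag = Nat.card A₀ :=
      Subgroup.card_map_of_injective (MulAut.conj g).injective
    have hprod : Nat.card Ag * Nat.card C₀ = Nat.card G := by
      rw [hcAg, ← hm_eq, ← hA₀m]; rfl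
    have hcompl : IsComplement' Ag C₀ :=
      isComplement'_of_card_mul_and_disjoint hprod (disjoint_iff.mpr hg)
    -- write g = a * c
    obtain ⟨⟨⟨a, ha⟩, ⟨c, hc⟩⟩, hac⟩ := hcompl.2 g
    simp only at hac
    obtain ⟨a₀, ha₀, ha₀a⟩ := ha
    -- g = c * a₀
    have hg2 : g = c * a₀ := by
      have h1 : g * a₀ * g⁻¹ * c = g := by
        rw [← ha₀a] at hac
        simpa [MulAut.conj_apply] using hac
      have h2 : a₀ * g⁻¹ * c = 1 := by
        have : g * (a₀ * g⁻¹ * c) = g * 1 := by
          rw [mul_one]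
          calc g * (a₀ * g⁻¹ * c) = g * a₀ * g⁻¹ * c := by group
            _ = g := h1
        exact mul_left_cancel this
      calc g = c * 1 * c⁻¹ * g := by group
        _ = c * (a₀ * g⁻¹ * c) * c⁻¹ * g := by rw [h2]
        _ = c * a₀ := by group
    -- hence Ag = A₀
    have hAgA₀ : Ag = A₀ := by
      apply Subgroup.eq_of_le_of_card_ge _ (by rw [hcAg])
      rintro _ ⟨x, hx, rfl⟩
      have hcx : c * (a₀ * x * a₀⁻¹) * c⁻¹ = a₀ * x * a₀⁻¹ := by
        have hmem : a₀ * x * a₀⁻¹ ∈ A₀ := A₀.mul_mem (A₀.mul_mem ha₀ hx) (A₀.inv_mem ha₀)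
        have := hc _ hmem
        calc c * (a₀ * x * a₀⁻¹) * c⁻¹ = (a₀ * x * a₀⁻¹ * c) * c⁻¹ := by rw [this]
          _ = a₀ * x * a₀⁻¹ := by group
      have : (MulAut.conj g).toMonoidHom x = a₀ * x * a₀⁻¹ := by
        simp only [MulEquiv.coe_toMonoidHom, MulAut.conj_apply]
        rw [hg2, ← hcx]
        group
      rw [this]
      exact A₀.mul_mem (A₀.mul_mem ha₀ hx) (A₀.inv_mem ha₀)
    rw [hAgA₀] at hcompl
    -- A₀ is normal
    have hA₀normal : A₀.Normal := by
      constructor
      intro x hx y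
      obtain ⟨⟨⟨a, ha⟩, ⟨c, hc⟩⟩, hac⟩ := hcompl.2 y
      simp only at hac
      rw [← hac]
      have hcx : c * x * c⁻¹ = x := by
        have := hc x hx
        calc c * x * c⁻¹ = (x * c) * c⁻¹ := by rw [this]
          _ = x := by group
      have : a * c * x * (a * c)⁻¹ = a * (c * x * c⁻¹) * a⁻¹ := by group
      rw [this, hcx]
      exact A₀.mul_mem (A₀.mul_mem ha hx) (A₀.inv_mem ha)
    rcases hA₀normal.eq_bot_or_eq_top with h | h
    · exact hA₀1 h
    · exact hA₀top h
  · -- case (b)
    have hall : ∀ g : G, A₀.map (MulAut.conj g).toMonoidHom ≤ C₀ := by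
      intro g
      rcases hdich g with h | h
      · exact absurd ⟨g, h⟩ hcase
      · exact h
    have hNC : Subgroup.normalClosure (A₀ : Set G) ≤ C₀ := by
      unfold Subgroup.normalClosure
      rw [Subgroup.closure_le]
      intro x hx
      rw [Group.mem_conjugatesOfSet_iff] at hx
      obtain ⟨a, ha, hax⟩ := hx
      rw [isConj_iff] at hax
      obtain ⟨c, hc⟩ := hax
      apply hall c
      exact ⟨a, ha, by simpa [MulAut.conj_apply] using hc⟩
    have hNtop : Subgroup.normalClosure (A₀ : Set G) = ⊤ := by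
      rcases (Subgroup.normalClosure_normal (s := (A₀ : Set G))).eq_bot_or_eq_top with h | h
      · exfalso
        apply hA₀1
        have : A₀ ≤ Subgroup.normalClosure (A₀ : Set G) := Subgroup.le_normalClosure
        rw [h] at this
        exact le_bot_iff.mp this
      · exact h
    rw [hNtop] at hNC
    apply hA₀1
    rw [← le_bot_iff, ← hcenter]
    intro x hx
    rw [Subgroup.mem_center_iff]
    intro y
    have hy : y ∈ C₀ := hNC (Subgroup.mem_top y)
    exact (hy x hx).symm

end Cfsg.Agent.S3036
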