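import Cfsg.Statements.S3037
import Cfsg.Agent.Lib.Helper58.Basic

set_option autoImplicit false
open Cfsg

namespace Cfsg.Agent.S3037

open Subgroup Cfsg.Agent.Lib.Helper58

section aux

variable {X : Type*} [Group X] [Finite X]

/-- the measure -/
noncomputable def f (V : Subgroup X) (α : ℝ) (B : Subgroup X) : ℝ :=
  (Nat.card B : ℝ) ^ α * (Nat.card ↥(V ⊓ Subgroup.centralizer (B : Set X)) : ℝ)

theorem f_pos (V : Subgroup X) (α : ℝ) (B : Subgroup X) : 0 < f V α B := by
  unfold f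
  have h1 : (0 : ℝ) < (Nat.card B : ℝ) := by exact_mod_cast Nat.card_pos
  have h2 : (0 : ℝ) < (Nat.card ↥(V ⊓ Subgroup.centralizer (B : Set X)) : ℝ) := by
    exact_mod_cast Nat.card_pos
  exact mul_pos (Real.rpow_pos_of_pos h1 α) h2

theorem f_submod (V : Subgroup X) (α : ℝ) (hα : 0 < α) (A B : Subgroup X) :
    f V α A * f V α B ≤ f V α (A ⊔ B) * f V α (A ⊓ B) := by
  unfold f
  have hc1 : Nat.card A * Nat.card B ≤ Nat.card ↥(A ⊔ B) * Nat.card ↥(A ⊓ B) :=
    card_mul_card_le_sup_mul_inf A B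
  set CA := V ⊓ Subgroup.centralizer (A : Set X) with hCA
  set CB := V ⊓ Subgroup.centralizer (B : Set X) with hCB
  have hc2 : Nat.card CA * Nat.card CB ≤ Nat.card ↥(CA ⊔ CB) * Nat.card ↥(CA ⊓ CB) :=
    card_mul_card_le_sup_mul_inf CA CB
  have hsup : CA ⊔ CB ≤ V ⊓ Subgroup.centralizer ((A ⊓ B : Subgroup X) : Set X) := by
    apply sup_le
    · exact inf_le_inf_left V (Subgroup.centralizer_le (by exact_mod_cast (inf_le_left : A ⊓ B ≤ A)))
    · exact inf_le_inf_left V (Subgroup.centralizer_le (by exact_mod_cast (inf_le_right : A ⊓ B ≤ B)))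
  have hinf : CA ⊓ CB ≤ V ⊓ Subgroup.centralizer ((A ⊔ B : Subgroup X) : Set X) := by
    intro x hx
    refine ⟨hx.1.1, ?_⟩
    have hxA : A ≤ Subgroup.centralizer ({x} : Set X) := by
      intro a ha
      rw [Subgroup.mem_centralizer_iff]
      intro y hy
      rw [Set.mem_singleton_iff] at hy
      subst hy
      exact (hx.1.2 a ha).symm
    have hxB : B ≤ Subgroup.centralizer ({x} : Set X) := by
      intro b hb
      rw [Subgroup.mem_centralizer_iff]
      intro y hy
      rw [Set.mem_singleton_iff] at hy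
      subst hy
      exact (hx.2.2 b hb).symm
    have hAB : A ⊔ B ≤ Subgroup.centralizer ({x} : Set X) := sup_le hxA hxB
    change x ∈ Subgroup.centralizer ((A ⊔ B : Subgroup X) : Set X)
    rw [Subgroup.mem_centralizer_iff]
    intro y hy
    have := hAB hy
    rw [Subgroup.mem_centralizer_iff] at this
    exact (this x rfl).symm
  have hc3 : Nat.card ↥(CA ⊔ CB) ≤ Nat.card ↥(V ⊓ Subgroup.centralizer ((A ⊓ B : Subgroup X) : Set X)) :=
    Subgroup.card_le_of_le hsup
  have hc4 : Nat.card ↥(CA ⊓ CB) ≤ Nat.card ↥(V ⊓ Subgroup.centralizer ((A ⊔ B : Subgroup X) : Set X)) :=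
    Subgroup.card_le_of_le hinf
  have hR1 : ((Nat.card A : ℝ) * (Nat.card B : ℝ)) ^ α ≤
      ((Nat.card ↥(A ⊔ B) : ℝ) * (Nat.card ↥(A ⊓ B) : ℝ)) ^ α := by
    apply Real.rpow_le_rpow (by positivity) _ hα.le
    exact_mod_cast hc1
  rw [Real.mul_rpow (by positivity) (by positivity)] at hR1
  rw [Real.mul_rpow (by positivity) (by positivity)] at hR1
  have hR2 : (Nat.card CA : ℝ) * (Nat.card CB : ℝ) ≤
      (Nat.card ↥(V ⊓ Subgroup.centralizer ((A ⊔ B : Subgroup X) : Set X)) : ℝ) *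
      (Nat.card ↥(V ⊓ Subgroup.centralizer ((A ⊓ B : Subgroup X) : Set X)) : ℝ) := by
    have : Nat.card CA * Nat.card CB ≤
        Nat.card ↥(V ⊓ Subgroup.centralizer ((A ⊔ B : Subgroup X) : Set X)) *
        Nat.card ↥(V ⊓ Subgroup.centralizer ((A ⊓ B : Subgroup X) : Set X)) := by
      calc Nat.card CA * Nat.card CB ≤ Nat.card ↥(CA ⊔ CB) * Nat.card ↥(CA ⊓ CB) := hc2
        _ ≤ Nat.card ↥(V ⊓ Subgroup.centralizer ((A ⊓ B : Subgroup X) : Set X)) *
            Nat.card ↥(V ⊓ Subgroup.centralizer ((A ⊔ B : Subgroup X) : Set X)) :=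
              Nat.mul_le_mul hc3 hc4
        _ = _ := by ring
    exact_mod_cast this
  calc (Nat.card A : ℝ) ^ α * (Nat.card CA : ℝ) * ((Nat.card B : ℝ) ^ α * (Nat.card CB : ℝ))
      = ((Nat.card A : ℝ) ^ α * (Nat.card B : ℝ) ^ α) * ((Nat.card CA : ℝ) * (Nat.card CB : ℝ)) := by ring
    _ ≤ ((Nat.card ↥(A ⊔ B) : ℝ) ^ α * (Nat.card ↥(A ⊓ B) : ℝ) ^ α) *
        ((Nat.card ↥(V ⊓ Subgroup.centralizer ((A ⊔ B : Subgroup X) : Set X)) : ℝ) *
      (Nat.card ↥(V ⊓ Subgroup.centralizer ((A ⊓ B : Subgroup X) : Set X)) : ℝ)) := by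
        apply mul_le_mul hR1 hR2 (by positivity) (by positivity)
    _ = _ := by ring

end aux

/-- Let V and G be subgroups of a finite group with V an elementary abelian p-group (p prime) on which G acts faithfully and irreducibly by conjugation: G normalizes V, G ∩ C(V) = 1, and the only subgroups of V normalized by G are 1 and V. If for some nontrivial subgroup A of G and some real α > 0 one has |V| ≤ |A|^α · |C_V(A)|, then |V| ≤ |G|^α. -/
theorem result {X : Type*} [Group X] [Finite X] {p : ℕ} [Fact p.Prime] (V G : Subgroup X) (hV : Cfsg.IsElementaryAbelian p V)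
    (hGV : G ≤ Subgroup.normalizer (V : Set X)) (hfaith : G ⊓ Subgroup.centralizer (V : Set X) = ⊥)
    (hirr : ∀ W : Subgroup X, W ≤ V → G ≤ Subgroup.normalizer (W : Set X) → W = ⊥ ∨ W = V)
    (A : Subgroup X) (hA : A ≤ G) (hA1 : A ≠ ⊥) (α : ℝ) (hα : 0 < α)
    (hbig : (Nat.card V : ℝ) ≤ (Nat.card A : ℝ) ^ α * (Nat.card ↥(V ⊓ Subgroup.centralizer (A : Set X)) : ℝ)) :
    (Nat.card V : ℝ) ≤ (Nat.card G : ℝ) ^ α := by
  classical
  -- maximal value of the measure on subgroups of G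
  have hne : Nonempty {B : Subgroup X // B ≤ G} := ⟨⟨⊥, bot_le⟩⟩
  obtain ⟨B₀, hB₀⟩ := Finite.exists_max (fun B : {B : Subgroup X // B ≤ G} => f V α B.1)
  set m : ℝ := f V α B₀.1 with hm
  have hmpos : 0 < m := f_pos V α _
  have hmax : ∀ B : Subgroup X, B ≤ G → f V α B ≤ m := fun B hB => hB₀ ⟨B, hB⟩
  -- among maximizers choose one of largest order
  have hne2 : Nonempty {B : Subgroup X // B ≤ G ∧ f V α B = m} := ⟨⟨B₀.1, B₀.2, rfl⟩⟩
  obtain ⟨J₀, hJ₀⟩ := Finite.exists_max (fun B : {B : Subgroup X // B ≤ G ∧ f V α B = m} => Nat.card B.1)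
  obtain ⟨J, hJG, hJm⟩ := J₀
  have hJmax : ∀ B : Subgroup X, B ≤ G → f V α B = m → Nat.card B ≤ Nat.card J :=
    fun B hB hBm => hJ₀ ⟨B, hB, hBm⟩
  -- every maximizer lies in J
  have hle_J : ∀ B : Subgroup X, B ≤ G → f V α B = m → B ≤ J := by
    intro B hB hBm
    have h1 := f_submod V α hα J B
    rw [hJm, hBm] at h1
    have h2 : f V α (J ⊓ B) ≤ m := hmax _ (inf_le_left.trans hJG)
    have h3 : f V α (J ⊔ B) ≤ m := hmax _ (sup_le hJG hB)
    have h4 : 0 < f V α (J ⊔ B) := f_pos V α _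
    have h5 : m * m ≤ f V α (J ⊔ B) * m :=
      h1.trans (mul_le_mul_of_nonneg_left h2 h4.le)
    have h6 : m ≤ f V α (J ⊔ B) := le_of_mul_le_mul_right h5 hmpos
    have h7 : f V α (J ⊔ B) = m := le_antisymm h3 h6
    have h8 : Nat.card ↥(J ⊔ B) ≤ Nat.card J := hJmax _ (sup_le hJG hB) h7
    have h9 : J = J ⊔ B := Subgroup.eq_of_le_of_card_ge le_sup_left h8
    rw [h9]; exact le_sup_right
  -- J is normalized by G
  have hconjV : ∀ g ∈ G, ∀ v ∈ V, g * v * g⁻¹ ∈ V := by
    intro g hg v hv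
    exact (Subgroup.mem_normalizer_iff.mp (hGV hg) v).mp hv
  have hJnorm : ∀ g ∈ G, ∀ j ∈ J, g * j * g⁻¹ ∈ J := by
    intro g hg j hj
    set Jg : Subgroup X := J.map (MulAut.conj g).toMonoidHom with hJg
    have hJgG : Jg ≤ G := by
      rintro _ ⟨y, hy, rfl⟩
      exact G.mul_mem (G.mul_mem hg (hJG hy)) (G.inv_mem hg)
    have hcard : Nat.card Jg = Nat.card J :=
      Subgroup.card_map_of_injective (MulAut.conj g).injective
    have hsub : (V ⊓ Subgroup.centralizer (J : Set X)).map (MulAut.conj g).toMonoidHom ≤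
        V ⊓ Subgroup.centralizer (Jg : Set X) := by
      rintro _ ⟨v, hv, rfl⟩
      refine Subgroup.mem_inf.mpr ⟨hconjV g hg v hv.1, ?_⟩
      rw [Subgroup.mem_centralizer_iff]
      rintro _ ⟨y, hy, rfl⟩
      have := hv.2 y hy
      simp only [MulEquiv.coe_toMonoidHom, MulAut.conj_apply]
      calc g * y * g⁻¹ * (g * v * g⁻¹) = g * (y * v) * g⁻¹ := by group
        _ = g * (v * y) * g⁻¹ := by rw [this]
        _ = g * v * g⁻¹ * (g * y * g⁻¹) := by group
    have hcard2 : Nat.card ↥(V ⊓ Subgroup.centralizer (J : Set X)) ≤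
        Nat.card ↥(V ⊓ Subgroup.centralizer (Jg : Set X)) := by
      rw [← Subgroup.card_map_of_injective (K := V ⊓ Subgroup.centralizer (J : Set X))
        (f := (MulAut.conj g).toMonoidHom) (MulAut.conj g).injective]
      exact Subgroup.card_le_of_le hsub
    have hfge : m ≤ f V α Jg := by
      rw [← hJm]
      unfold f
      rw [hcard]
      apply mul_le_mul_of_nonneg_left _ (by positivity)
      exact_mod_cast hcard2
    have hfeq : f V α Jg = m := le_antisymm (hmax _ hJgG) hfge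
    have := hle_J Jg hJgG hfeq
    exact this ⟨j, hj, rfl⟩
  -- J is nontrivial
  have hfbot : f V α ⊥ = (Nat.card V : ℝ) := by
    unfold f
    have hc : Subgroup.centralizer ((⊥ : Subgroup X) : Set X) = ⊤ := by simp
    rw [hc, inf_top_eq]
    simp
  have hfA : (Nat.card V : ℝ) ≤ f V α A := hbig
  have hJ1 : J ≠ ⊥ := by
    intro hJbot
    have h1 : m = (Nat.card V : ℝ) := by rw [← hJm, hJbot, hfbot]
    have h2 : f V α A = m := le_antisymm (hmax A hA) (by rw [h1]; exact hfA)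
    have h3 : A ≤ J := hle_J A hA h2
    rw [hJbot] at h3
    exact hA1 (le_bot_iff.mp h3)
  -- C_V(J) is G-invariant
  set W : Subgroup X := V ⊓ Subgroup.centralizer (J : Set X) with hW
  have hWnorm : G ≤ Subgroup.normalizer (W : Set X) := by
    rw [Subgroup.le_normalizer_iff]
    intro g hg w hw
    refine Subgroup.mem_inf.mpr ⟨hconjV g hg w hw.1, ?_⟩
    rw [Subgroup.mem_centralizer_iff]
    intro j hj
    have hj' : g⁻¹ * j * g ∈ J := by
      have := hJnorm g⁻¹ (G.inv_mem hg) j hj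
      simpa using this
    have := hw.2 _ hj'
    calc j * (g * w * g⁻¹) = g * ((g⁻¹ * j * g) * w) * g⁻¹ := by group
      _ = g * (w * (g⁻¹ * j * g)) * g⁻¹ := by rw [this]
      _ = g * w * g⁻¹ * j := by group
  have hW1 : W = ⊥ := by
    rcases hirr W inf_le_left hWnorm with h | h
    · exact h
    · exfalso
      apply hJ1
      have hVc : V ≤ Subgroup.centralizer (J : Set X) := by
        rw [← h]; exact inf_le_right
      have hJc : J ≤ Subgroup.centralizer (V : Set X) := by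
        intro j hj
        rw [Subgroup.mem_centralizer_iff]
        intro v hv
        exact ((hVc hv) j hj).symm
      have : J ≤ G ⊓ Subgroup.centralizer (V : Set X) := le_inf hJG hJc
      rw [hfaith] at this
      exact le_bot_iff.mp this
  have hfJ : m = (Nat.card J : ℝ) ^ α := by
    rw [← hJm]
    unfold f
    rw [← hW, hW1]
    simp
  calc (Nat.card V : ℝ) ≤ f V α A := hfA
    _ ≤ m := hmax A hA
    _ = (Nat.card J : ℝ) ^ α := hfJ
    _ ≤ (Nat.card G : ℝ) ^ α := by
        apply Real.rpow_le_rpow (by positivity) _ hα.le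
        exact_mod_cast Subgroup.card_le_of_le hJG

end Cfsg.Agent.S3037
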