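import Cfsg.Statements.S3049
import Cfsg.Agent.Lib.Helper58.Iso3
import Cfsg.Agent.Lib.Helper28.FStar
import Cfsg.Agent.Lib.Helper29.Quasisimple

set_option autoImplicit false
open Cfsg

namespace Cfsg.Agent.S3049

open Cfsg.Agent.Lib.Helper58.Iso

theorem main {G : Type*} [Group G] [Finite G] {p : ℕ} [hpf : Fact p.Prime] (hp : p ≠ 2)
    (hcore : Cfsg.pPrimeCore p G = ⊥)
    (hrank : Cfsg.PRankLE p 2 G) (x : G) (hx : orderOf x = p) (hiso : Cfsg.IsIsolated x)
    (hnc : x ∉ Subgroup.center G) :
    IsSimpleGroup ↥(Cfsg.generalizedFittingSubgroup G) ∧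
      ¬ IsMulCommutative ↥(Cfsg.generalizedFittingSubgroup G) := by
  have hP : pCore p G = ⊥ := pCore_eq_bot hp hcore hrank x hx hiso hnc
  have hF : fittingSubgroup G = ⊥ := by
    rw [eq_bot_iff, ← hP]
    exact Cfsg.Agent.Lib.Helper29.fitting_le_pCore_of_pPrimeCore_eq_bot p hcore
  have hFs : generalizedFittingSubgroup G = layer G := by
    unfold generalizedFittingSubgroup
    rw [hF, sup_bot_eq]
  have hx1 : x ≠ 1 := by
    intro h
    rw [h, orderOf_one] at hx
    exact hpf.out.one_lt.ne hx
  have hne : layer G ≠ ⊥ := by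
    intro h
    have h1 := Cfsg.Agent.Lib.Helper28.centralizer_genFitting_le (G := G)
    rw [hFs, h] at h1
    have h2 : x ∈ Subgroup.centralizer (((⊥ : Subgroup G) : Subgroup G) : Set G) := by
      rw [Subgroup.mem_centralizer_iff]
      intro m hm
      have : m = 1 := by simpa using hm
      rw [this, one_mul, mul_one]
    have h3 := h1 h2
    rw [Subgroup.mem_bot] at h3
    exact hx1 h3
  obtain ⟨L, hL⟩ : ∃ L : Subgroup G, IsComponent L := by
    by_contra hno
    push Not at hno
    apply hne
    unfold layer
    rw [eq_bot_iff]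
    apply sSup_le
    intro K hK
    exact absurd hK (hno K)
  have hlayer : layer G = L := by
    unfold layer
    apply le_antisymm
    · apply sSup_le
      intro K hK
      rw [component_unique hp hcore hrank hP x hx hiso hK hL]
    · exact le_sSup hL
  have hFL : generalizedFittingSubgroup G = L := hFs.trans hlayer
  rw [hFL]
  have hZ := component_center_eq_bot hcore hP hL
  have hc : Subgroup.center ↥L = ⊥ := by
    rw [eq_bot_iff]
    intro c hc
    rw [Subgroup.mem_bot]
    have h1 : (c : G) ∈ L ⊓ Subgroup.centralizer (L : Set G) := by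
      refine Subgroup.mem_inf.mpr ⟨c.2, ?_⟩
      rw [Subgroup.mem_centralizer_iff]
      intro m hm
      have := Subgroup.mem_center_iff.mp hc ⟨m, hm⟩
      exact congrArg Subtype.val this
    rw [hZ, Subgroup.mem_bot] at h1
    exact Subtype.ext h1
  constructor
  · have : IsSimpleGroup (↥L ⧸ Subgroup.center ↥L) := hL.2.2
    let e : ↥L ≃* ↥L ⧸ Subgroup.center ↥L :=
      (QuotientGroup.quotientBot (G := ↥L)).symm.trans (QuotientGroup.quotientMulEquivOfEq hc.symm)
    exact e.isSimpleGroup
  · intro hcomm
    have h1 : commutator ↥L = ⊤ := Cfsg.Agent.Lib.Helper29.qs_perfect hL.2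
    have h2 : commutator ↥L = ⊥ := by
      rw [commutator_def, Subgroup.commutator_eq_bot_iff_le_centralizer]
      intro a _
      rw [Subgroup.mem_centralizer_iff]
      intro b _
      exact mul_comm' b a
    rw [h2] at h1
    have h3 : L = ⊥ := by
      rw [eq_bot_iff]
      intro u hu
      have : (⟨u, hu⟩ : ↥L) ∈ (⊥ : Subgroup ↥L) := by rw [h1]; trivial
      rw [Subgroup.mem_bot] at this
      rw [Subgroup.mem_bot]
      exact congrArg Subtype.val this
    have h4 : Nontrivial ↥L := Cfsg.Agent.Lib.Helper29.qs_nontrivial hL.2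
    rw [h3] at h4
    have h5 : Subsingleton ↥(⊥ : Subgroup G) := inferInstance
    exact not_subsingleton _ h5


/-- Let G be a finite group and p an odd prime with O_{p'}(G) = 1. Suppose that G has p-rank at most 2 (no elementary abelian subgroup of order p³) and that some element x of order p is isolated in G (no G-conjugate of x other than x commutes with x) and not central. Then the generalized Fitting subgroup F*(G) is a non-abelian simple group. Since O_{p'}(G) = 1, such an x is not central modulo O_{p'}(G): the hypotheses describe a counterexample to the Z*_p statement in p-rank at most 2. -/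
theorem result {G : Type*} [Group G] [Finite G] {p : ℕ} [Fact p.Prime] (hp : p ≠ 2) (hcore : Cfsg.pPrimeCore p G = ⊥)
    (hrank : Cfsg.PRankLE p 2 G) (x : G) (hx : orderOf x = p) (hiso : Cfsg.IsIsolated x) (hnc : x ∉ Subgroup.center G) :
    IsSimpleGroup ↥(Cfsg.generalizedFittingSubgroup G) ∧ ¬ IsMulCommutative ↥(Cfsg.generalizedFittingSubgroup G) := by
  exact main hp hcore hrank x hx hiso hnc

end Cfsg.Agent.S3049
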