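import Cfsg.Statements.S3053
import Mathlib
import Cfsg.Agent.Lib.Helper58.ESP3f
import Cfsg.Agent.Lib.Helper03.PGroupFrattini

set_option autoImplicit false
open Cfsg

namespace Cfsg.Agent.S3053

open Cfsg.Agent.Lib.Helper58.ESP3
open scoped commutatorElement

theorem ctx_of_extraspecial {G : Type*} [Group G] [Finite G]
    {p : ℕ} [Fact p.Prime] (P : Sylow p G) (hE : Cfsg.IsExtraspecial p ↥P)
    (hcard : Nat.card P = p ^ 3) (hexp : Monoid.exponent ↥P = p ^ 2) :
    Ctx p (P : Subgroup G) ((Subgroup.center ↥P).map (P : Subgroup G).subtype) := by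
  have hp : p.Prime := Fact.out
  obtain ⟨⟨hPp, hfr, hco⟩, hcen⟩ := hE
  refine ⟨Subgroup.map_subtype_le _, ?_, ?_, ?_, ?_, ?_, hcard, ?_⟩
  · rintro z ⟨z', hz', rfl⟩ a ha
    have := Subgroup.mem_center_iff.mp hz' ⟨a, ha⟩
    exact congrArg Subtype.val this
  · intro x hx hcomm
    refine ⟨⟨x, hx⟩, ?_, rfl⟩
    change (⟨x, hx⟩ : ↥P) ∈ Subgroup.center ↥P
    rw [Subgroup.mem_center_iff]
    intro a
    apply Subtype.ext
    exact hcomm a.1 a.2
  · intro a ha b hb
    have h1 : ⁅(⟨a, ha⟩ : ↥P), ⟨b, hb⟩⁆ ∈ commutator ↥P :=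
      Subgroup.commutator_mem_commutator (Subgroup.mem_top _) (Subgroup.mem_top _)
    rw [hco] at h1
    refine ⟨_, h1, ?_⟩
    simp [commutatorElement_def]
  · intro a ha
    have h1 : (⟨a, ha⟩ : ↥P) ^ p ∈ frattini ↥P :=
      Cfsg.Agent.Lib.Helper03.pow_mem_frattini_of_isPGroup hPp _
    rw [hfr] at h1
    exact ⟨_, h1, by simp⟩
  · exact (Nat.card_congr
      (Subgroup.equivMapOfInjective _ _ (Subgroup.subtype_injective _)).symm.toEquiv).trans hcen
  · by_contra hcon
    push Not at hcon
    have h1 : Monoid.exponent ↥P ∣ p := by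
      apply Monoid.exponent_dvd_of_forall_pow_eq_one
      intro a
      apply Subtype.ext
      simpa using hcon a.1 a.2
    rw [hexp] at h1
    have h2 : p ^ 2 ≤ p := Nat.le_of_dvd hp.pos h1
    have h3 : p < p ^ 2 := by
      calc p = p ^ 1 := (pow_one p).symm
        _ < p ^ 2 := Nat.pow_lt_pow_right hp.one_lt (by norm_num)
    omega

theorem result' {G : Type*} [Group G] [Finite G]
    {p : ℕ} [Fact p.Prime] (hp : p ≠ 2) (P : Sylow p G) (hE : Cfsg.IsExtraspecial p ↥P)
    (hcard : Nat.card P = p ^ 3) (hexp : Monoid.exponent ↥P = p ^ 2) :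
    Cfsg.IsStronglyClosed ((Subgroup.center ↥P).map (P : Subgroup G).subtype) (P : Subgroup G) := by
  have hpp : p.Prime := Fact.out
  have h := ctx_of_extraspecial P hE hcard hexp
  refine ⟨h.le, ?_⟩
  intro z hz g hgP
  by_contra hyZ
  obtain ⟨hyE, n, hn, hnz⟩ := h.exists_normalizer_conj hpp hp hz rfl hgP hyZ
  obtain ⟨t₀, -, ht₀⟩ := h.exists_inverting hpp hp hz hyE hyZ hn hnz
  obtain ⟨t, htP, ht⟩ := h.exists_inverting_normalizing hpp hp ht₀
  exact h.false_of_inverting hpp hp htP ht hyE hyZ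


/-- Let p be an odd prime and G a finite group with a Sylow p-subgroup P that is extraspecial of order p³ and exponent p². Then the centre of P is strongly closed in P with respect to G: a G-conjugate of an element of Z(P) that lies in P already lies in Z(P). In particular a nontrivial central element of P is conjugate in G to no noncentral element of P. -/
theorem result {G : Type*} [Group G] [Finite G]
    {p : ℕ} [Fact p.Prime] (hp : p ≠ 2) (P : Sylow p G) (hE : Cfsg.IsExtraspecial p ↥P)
    (hcard : Nat.card P = p ^ 3) (hexp : Monoid.exponent ↥P = p ^ 2) :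
    Cfsg.IsStronglyClosed ((Subgroup.center ↥P).map (P : Subgroup G).subtype) (P : Subgroup G) := by
  exact result' hp P hE hcard hexp

end Cfsg.Agent.S3053
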