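import Mathlib
import Cfsg.Statements.S3054
import Cfsg.Agent.Lib.Helper71.PlaneCoords
import Cfsg.Agent.Lib.Helper71.ExtraPlane
import Cfsg.Agent.Lib.Helper71.ExtraData
import Cfsg.Agent.Lib.Helper71.ExtraOut
import Cfsg.Agent.Lib.Helper71.GL2Lin
import Cfsg.Agent.Lib.Helper71.GL2Dickson

set_option autoImplicit false
set_option linter.deprecated false
open Cfsg

namespace Cfsg.Agent.S3054

open Cfsg.Agent.Lib.Helper71.PlaneCoords Cfsg.Agent.Lib.Helper71.ExtraData
  Cfsg.Agent.Lib.Helper71.ExtraOut Cfsg.Agent.Lib.Helper71.GL2Lin Cfsg.Agent.Lib.Helper71.GL2Dickson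

/-- every nonzero element of the prime field is a square in the field of order `p²` -/
theorem isSquare_galois {p : ℕ} [Fact p.Prime] (hp : p ≠ 2) (d : ZMod p) (hd : d ≠ 0) :
    IsSquare (algebraMap (ZMod p) (GaloisField p 2) d) := by
  classical
  have hpp : p.Prime := Fact.out
  let _ : Fintype (GaloisField p 2) := Fintype.ofFinite _
  have hF : Fintype.card (GaloisField p 2) = p ^ 2 := by
    rw [← Nat.card_eq_fintype_card, GaloisField.card p 2 (by norm_num)]
  have hchar : ringChar (GaloisField p 2) ≠ 2 := by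
    rw [ringChar.eq (GaloisField p 2) p]; exact hp
  have hne : algebraMap (ZMod p) (GaloisField p 2) d ≠ 0 := by
    rw [Ne, map_eq_zero]; exact hd
  rw [FiniteField.isSquare_iff hchar hne, hF]
  obtain ⟨k, hk⟩ := hpp.eq_two_or_odd'.resolve_left hp
  have h1 : p ^ 2 / 2 = (p - 1) * (k + 1) := by
    rw [hk]
    have : (2 * k + 1) ^ 2 = 2 * (2 * k * (k + 1)) + 1 := by ring
    rw [this]
    have h2 : 2 * k + 1 - 1 = 2 * k := by omega
    rw [h2]
    omega
  rw [h1, pow_mul, ← map_pow, ZMod.pow_card_sub_one_eq_one hd, map_one, one_pow]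

/-- proportionality from a vanishing determinant -/
theorem exists_smul_of_dt_eq_zero {k : Type*} [Field k] {u w : Fin 2 → k} (h : dt u w = 0)
    (hu : u ≠ 0) : ∃ c : k, w = c • u := by
  unfold dt at h
  by_cases h0 : u 0 = 0
  · have h1 : u 1 ≠ 0 := by
      intro h1; apply hu; funext i; fin_cases i
      · exact h0
      · exact h1
    refine ⟨w 1 / u 1, ?_⟩
    funext i; fin_cases i
    · simp only [Fin.zero_eta, Pi.smul_apply, smul_eq_mul, h0, mul_zero]
      rw [h0, zero_mul, zero_sub, neg_eq_zero] at h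
      exact (mul_eq_zero.mp h).resolve_left h1
    · simp only [Fin.mk_one, Pi.smul_apply, smul_eq_mul]
      field_simp
  · refine ⟨w 0 / u 0, ?_⟩
    funext i; fin_cases i
    · simp only [Fin.zero_eta, Pi.smul_apply, smul_eq_mul]
      field_simp
    · simp only [Fin.mk_one, Pi.smul_apply, smul_eq_mul]
      field_simp
      linear_combination h

/-- Let p be an odd prime and G a finite group with a Sylow p-subgroup P that is extraspecial of order p³ and exponent p. Suppose P contains three distinct subgroups A of order p² (each is elementary abelian of rank 2) such that every automorphism of A of order p is induced by conjugation by an element of G; equivalently the automorphism group induced on A by its normalizer contains the special linear group of A. Then p ≤ 13. -/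
theorem result {G : Type*} [Group G] [Finite G]
    {p : ℕ} [Fact p.Prime] (hp : p ≠ 2) (P : Sylow p G) (hE : Cfsg.IsExtraspecial p ↥P)
    (hcard : Nat.card P = p ^ 3) (hexp : Monoid.exponent ↥P = p)
    (A : Fin 3 → Subgroup G) (hA : Function.Injective A) (hAP : ∀ i, A i ≤ (P : Subgroup G))
    (hAcard : ∀ i, Nat.card ↥(A i) = p ^ 2)
    (hSL : ∀ i, ∀ φ : MulAut ↥(A i), orderOf φ = p → ∃ g : G, ∀ a : ↥(A i), (φ a : G) = g * (a : G) * g⁻¹) :
    p ≤ 13 := by
  classical
  by_contra hcon
  push Not at hcon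
  have hpp : p.Prime := Fact.out
  have hp17 : 15 < p - 1 := by
    have h14 : p ≠ 14 := by rintro rfl; norm_num at hpp
    have h15 : p ≠ 15 := by rintro rfl; norm_num at hpp
    have h16 : p ≠ 16 := by rintro rfl; norm_num at hpp
    omega
  obtain ⟨⟨-, -, hcomm0⟩, hZcard0⟩ := hE
  have hZcard : Nat.card (Subgroup.center (P : Subgroup G)) = p := hZcard0
  have hcomm : commutator (P : Subgroup G) = Subgroup.center (P : Subgroup G) := hcomm0
  have hexp2 : Monoid.exponent (P : Subgroup G) = p := hexp
  have hexp' : ∀ x : (P : Subgroup G), x ^ p = 1 := fun x => by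
    have := Monoid.pow_exponent_eq_one x
    rwa [hexp2] at this
  -- a generator of the centre
  have hZne : Subgroup.center (P : Subgroup G) ≠ ⊥ := by
    intro h
    rw [h, Subgroup.card_bot] at hZcard
    exact hpp.one_lt.ne hZcard
  obtain ⟨z₀, hz₀Z, hz₀⟩ := (Subgroup.bot_or_exists_ne_one _).resolve_left hZne
  have hZ : Subgroup.zpowers z₀ = Subgroup.center (P : Subgroup G) :=
    Subgroup.eq_of_le_of_card_ge (Subgroup.zpowers_le.mpr hz₀Z)
      (by rw [Nat.card_zpowers, orderOf_eq_prime (hexp' z₀) hz₀, hZcard])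
  have hcomm' : ∀ x y : (P : Subgroup G), x * y * x⁻¹ * y⁻¹ ∈ Subgroup.center (P : Subgroup G) := by
    intro x y
    rw [← hcomm, ← commutatorElement_def, commutator_def]
    exact Subgroup.commutator_mem_commutator (Subgroup.mem_top x) (Subgroup.mem_top y)
  -- a primitive root
  obtain ⟨t, ht⟩ := IsCyclic.exists_generator (α := (ZMod p)ˣ)
  obtain ⟨s, hs⟩ : ∃ s : ℕ, (s : ZMod p) = (t : ZMod p) := ⟨(t : ZMod p).val, ZMod.natCast_zmod_val _⟩
  obtain ⟨s', hs'⟩ : ∃ s' : ℕ, (s' : ZMod p) = ((t⁻¹ : (ZMod p)ˣ) : ZMod p) :=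
    ⟨((t⁻¹ : (ZMod p)ˣ) : ZMod p).val, ZMod.natCast_zmod_val _⟩
  have hss : (s : ZMod p) * (s' : ZMod p) = 1 := by rw [hs, hs', ← Units.val_mul, mul_inv_cancel, Units.val_one]
  have hprim : ∀ k : ℕ, (s : ZMod p) ^ k = 1 → (p - 1) ∣ k := by
    intro k hk
    rw [hs, ← Units.val_pow_eq_pow_val, Units.val_eq_one] at hk
    have h1 := orderOf_dvd_of_pow_eq_one hk
    rwa [orderOf_eq_card_of_forall_mem_zpowers ht, Nat.card_eq_fintype_card, ZMod.card_units_eq_totient,
      Nat.totient_prime hpp] at h1
  -- the data of the three planes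
  have hdata := fun i => plane_data P hcard hexp' z₀ hz₀ hZ hcomm' (A i) (hAP i) (hAcard i) (hSL i)
    s s' hss
  choose a h haZ haA hzA hAgen hhN hha hcent hCA using hdata
  -- coordinates on `P / Z(P)`
  have hQcard : Nat.card ((P : Subgroup G) ⧸ (Subgroup.center (P : Subgroup G))) = p ^ 2 := by
    have h1 := Subgroup.card_eq_card_quotient_mul_card_subgroup (Subgroup.center (P : Subgroup G))
    rw [hcard, hZcard] at h1
    have h2 : p * p ^ 2 = p * Nat.card ((P : Subgroup G) ⧸ (Subgroup.center (P : Subgroup G))) := by rw [mul_comm p (Nat.card _), ← h1]; ring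
    exact (Nat.eq_of_mul_eq_mul_left hpp.pos h2).symm
  have hQexp : ∀ q : (P : Subgroup G) ⧸ (Subgroup.center (P : Subgroup G)), q ^ p = 1 := by
    intro q
    induction q using QuotientGroup.induction_on with
    | H x => rw [← QuotientGroup.mk_pow, hexp' x]; rfl
  have hQcomm : ∀ x y : (P : Subgroup G) ⧸ (Subgroup.center (P : Subgroup G)), x * y = y * x :=
    IsPGroup.commutative_of_card_eq_prime_sq hQcard
  have hQnt : Nontrivial ((P : Subgroup G) ⧸ (Subgroup.center (P : Subgroup G))) := by
    rw [← Finite.one_lt_card_iff_nontrivial, hQcard]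
    exact Nat.one_lt_pow (by norm_num) hpp.one_lt
  obtain ⟨z', hz'⟩ := exists_ne (1 : (P : Subgroup G) ⧸ (Subgroup.center (P : Subgroup G)))
  obtain ⟨a', ha'⟩ : ∃ a' : (P : Subgroup G) ⧸ (Subgroup.center (P : Subgroup G)), a' ∉ Subgroup.zpowers z' := by
    by_contra hall
    push Not at hall
    have h1 : Subgroup.zpowers z' = ⊤ := (Subgroup.eq_top_iff' _).mpr hall
    have h2 := Nat.card_zpowers z'
    rw [h1, Subgroup.card_top, hQcard, orderOf_eq_prime (hQexp z') hz'] at h2
    have := hpp.one_lt
    nlinarith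
  obtain ⟨e, -, -, -⟩ := exists_coords (p := p) hQcard hQexp hQcomm z' a' hz' ha'
  set π : (P : Subgroup G) →* Multiplicative (Fin 2 → ZMod p) :=
    e.toMonoidHom.comp (QuotientGroup.mk' (Subgroup.center (P : Subgroup G))) with hπdef
  have hπ : Function.Surjective π := e.surjective.comp (QuotientGroup.mk'_surjective (Subgroup.center (P : Subgroup G)))
  have hker : π.ker = Subgroup.center (P : Subgroup G) := by
    ext x
    rw [MonoidHom.mem_ker, hπdef, MonoidHom.comp_apply]
    show e (QuotientGroup.mk' (Subgroup.center (P : Subgroup G)) x) = 1 ↔ _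
    rw [MulEquiv.map_eq_one_iff, QuotientGroup.mk'_apply, QuotientGroup.eq_one_iff]
  -- the matrices
  have hmat := fun i => exists_mem_outGroup hπ hker (h i) (hhN i)
  choose x hxK hxact using hmat
  have hflag := fun i => flag_of_actsAs hker hπ (hxact i) z₀ (a i) hz₀Z s s' (hha i) (hcent i) (hCA i)
  -- independence of the three lines
  have hv0 : ∀ i, Multiplicative.toAdd (π (a i)) ≠ 0 := by
    intro i h0
    apply haZ i
    rw [← hker, MonoidHom.mem_ker]
    exact h0
  have hv : ∀ i j, i ≠ j → dt (Multiplicative.toAdd (π (a i))) (Multiplicative.toAdd (π (a j))) ≠ 0 := by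
    intro i j hij hdt
    obtain ⟨c, hc⟩ := exists_smul_of_dt_eq_zero hdt (hv0 i)
    -- `a j ∈ A i`
    have h1 : π (a j) = π ((a i) ^ c.val) := by
      rw [map_pow]
      apply Multiplicative.toAdd.injective
      rw [hc, toAdd_pow, ← Nat.cast_smul_eq_nsmul (ZMod p), ZMod.natCast_zmod_val]
    have h2 : a j * ((a i) ^ c.val)⁻¹ ∈ (Subgroup.center (P : Subgroup G)) := by
      rw [← hker, MonoidHom.mem_ker, map_mul, map_inv, h1, mul_inv_cancel]
    have h3 : ((a j : (P : Subgroup G)) : G) ∈ A i := by
      rw [← hZ] at h2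
      obtain ⟨k, hk⟩ := Subgroup.mem_zpowers_iff.mp h2
      have h4 : ((a j : (P : Subgroup G)) : G) = (z₀ : G) ^ k * (a i : G) ^ c.val := by
        have := congrArg Subtype.val hk
        simp only [Subgroup.coe_zpow, Subgroup.coe_mul, Subgroup.coe_inv, Subgroup.coe_pow] at this
        rw [this]; group
      rw [h4]
      exact (A i).mul_mem ((A i).zpow_mem (hzA i) _) ((A i).pow_mem (haA i) _)
    have h5 : A j ≤ A i := by
      intro y hy
      obtain ⟨m, n, rfl⟩ := hAgen j y hy
      exact (A i).mul_mem ((A i).pow_mem (hzA i) _) ((A i).pow_mem h3 _)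
    have h6 : A j = A i := Subgroup.eq_of_le_of_card_ge h5 (by rw [hAcard, hAcard])
    exact hij (hA h6).symm
  -- Dickson
  let _ : Fintype (GaloisField p 2) := Fintype.ofFinite _
  have hF : Fintype.card (GaloisField p 2) = p ^ 2 := by
    rw [← Nat.card_eq_fintype_card, GaloisField.card p 2 (by norm_num)]
  exact no_three_flags (F := GaloisField p 2) hF (isSquare_galois hp) hp17 (outGroup hπ hker)
    (outGroup_pprime P hπ hker) s s' hss hprim x hxK (fun i => Multiplicative.toAdd (π (a i))) hv hflag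

end Cfsg.Agent.S3054
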