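import Cfsg.Statements.S3055
import Mathlib
import Cfsg.Statements.S3055
import Cfsg.Agent.Lib.Helper71.PlaneCoordsB
import Cfsg.Agent.Lib.Helper71.ExtraPlane
import Cfsg.Agent.Lib.Helper71.ExtraDataB
import Cfsg.Agent.Lib.Helper71.ExtraOut
import Cfsg.Agent.Lib.Helper71.GL2Lin
import Cfsg.Agent.Lib.Helper71.GL2DicksonB
import Cfsg.Agent.Lib.Helper71.GaloisSq

set_option autoImplicit false
set_option linter.deprecated false
open Cfsg

namespace Cfsg.Agent.S3055

open Cfsg.Agent.Lib.Helper71.PlaneCoords Cfsg.Agent.Lib.Helper71.ExtraData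
  Cfsg.Agent.Lib.Helper71.ExtraOut Cfsg.Agent.Lib.Helper71.GL2Lin Cfsg.Agent.Lib.Helper71.GL2Dickson
  Cfsg.Agent.Lib.Helper71.GaloisSq

/-- representatives of the `p + 1` lines of the plane -/
def lineVec {p : ℕ} : Option (ZMod p) → Fin 2 → ZMod p
  | none => ![0, 1]
  | some c => ![1, c]

theorem lineVec_dt {p : ℕ} [Fact p.Prime] (i j : Option (ZMod p)) (hij : i ≠ j) :
    dt (lineVec i) (lineVec j) ≠ 0 := by
  rcases i with _ | c <;> rcases j with _ | c'
  · exact absurd rfl hij
  · simp [dt, lineVec]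
  · simp [dt, lineVec]
  · have hne : c ≠ c' := fun h => hij (by rw [h])
    simp only [dt, lineVec, Matrix.cons_val_zero, Matrix.cons_val_one, one_mul, mul_one]
    exact sub_ne_zero.mpr (Ne.symm hne)

/-- Let p be an odd prime and G a finite group with a Sylow p-subgroup P that is extraspecial of order p³ and exponent p. If all nonidentity elements of P are conjugate in G, then p ≤ 7. -/
theorem result {G : Type*} [Group G] [Finite G]
    {p : ℕ} [Fact p.Prime] (hp : p ≠ 2) (P : Sylow p G) (hE : Cfsg.IsExtraspecial p ↥P)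
    (hcard : Nat.card P = p ^ 3) (hexp : Monoid.exponent ↥P = p)
    (hconj : ∀ x y : ↥P, x ≠ 1 → y ≠ 1 → ∃ g : G, g * (x : G) * g⁻¹ = (y : G)) :
    p ≤ 7 := by
  classical
  by_contra hcon
  push Not at hcon
  have hpp : p.Prime := Fact.out
  have hp11 : 11 ≤ p := by
    have h8 : p ≠ 8 := by rintro rfl; norm_num at hpp
    have h9 : p ≠ 9 := by rintro rfl; norm_num at hpp
    have h10 : p ≠ 10 := by rintro rfl; norm_num at hpp
    omega
  have hp3 : ¬ (p - 1) ∣ 3 := fun h => by have := Nat.le_of_dvd (by norm_num) h; omega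
  have hp6 : ¬ (p - 1) ∣ 6 := fun h => by have := Nat.le_of_dvd (by norm_num) h; omega
  have hp9 : ¬ (p - 1) ∣ 9 := fun h => by have := Nat.le_of_dvd (by norm_num) h; omega
  have hp15 : ¬ (p - 1) ∣ 15 := by
    intro h
    have h1 := Nat.le_of_dvd (by norm_num) h
    obtain ⟨m, hm⟩ := h
    have hm1 : m = 1 := by
      rcases Nat.lt_or_ge m 2 with h2 | h2
      · interval_cases m
        · omega
        · rfl
      · exfalso
        have : 2 * (p - 1) ≤ (p - 1) * m := by
          rw [mul_comm]; exact Nat.mul_le_mul_left _ h2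
        omega
    rw [hm1, mul_one] at hm
    have h16 : p = 16 := by omega
    rw [h16] at hpp
    norm_num at hpp
  obtain ⟨⟨-, -, hcomm0⟩, hZcard0⟩ := hE
  have hZcard : Nat.card (Subgroup.center (P : Subgroup G)) = p := hZcard0
  have hcomm : commutator (P : Subgroup G) = Subgroup.center (P : Subgroup G) := hcomm0
  have hexp2 : Monoid.exponent (P : Subgroup G) = p := hexp
  have hexp' : ∀ x : (P : Subgroup G), x ^ p = 1 := fun x => by
    have := Monoid.pow_exponent_eq_one x
    rwa [hexp2] at this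
  have hconj' : ∀ x y : (P : Subgroup G), x ≠ 1 → y ≠ 1 → ∃ g : G, g * (x : G) * g⁻¹ = (y : G) :=
    hconj
  -- a generator of the centre
  have hZne : Subgroup.center (P : Subgroup G) ≠ ⊥ := by
    intro h
    rw [h, Subgroup.card_bot] at hZcard
    exact hpp.one_lt.ne hZcard
  obtain ⟨z₀, hz₀Z, hz₀⟩ := (Subgroup.bot_or_exists_ne_one _).resolve_left hZne
  have hZ : Subgroup.zpowers z₀ = Subgroup.center (P : Subgroup G) :=
    Subgroup.eq_of_le_of_card_ge (Subgroup.zpowers_le.mpr hz₀Z)
      (by rw [Nat.card_zpowers, orderOf_eq_prime (hexp' z₀) hz₀, hZcard])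
  have hcomm' : ∀ x y : (P : Subgroup G), x * y * x⁻¹ * y⁻¹ ∈ Subgroup.center (P : Subgroup G) := by
    intro x y
    rw [← hcomm, ← commutatorElement_def, commutator_def]
    exact Subgroup.commutator_mem_commutator (Subgroup.mem_top x) (Subgroup.mem_top y)
  -- a primitive root
  obtain ⟨t, ht⟩ := IsCyclic.exists_generator (α := (ZMod p)ˣ)
  obtain ⟨s, hs⟩ : ∃ s : ℕ, (s : ZMod p) = (t : ZMod p) := ⟨(t : ZMod p).val, ZMod.natCast_zmod_val _⟩
  obtain ⟨s', hs'⟩ : ∃ s' : ℕ, (s' : ZMod p) = ((t⁻¹ : (ZMod p)ˣ) : ZMod p) :=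
    ⟨((t⁻¹ : (ZMod p)ˣ) : ZMod p).val, ZMod.natCast_zmod_val _⟩
  have hss : (s : ZMod p) * (s' : ZMod p) = 1 := by rw [hs, hs', ← Units.val_mul, mul_inv_cancel, Units.val_one]
  have hprim : ∀ k : ℕ, (s : ZMod p) ^ k = 1 → (p - 1) ∣ k := by
    intro k hk
    rw [hs, ← Units.val_pow_eq_pow_val, Units.val_eq_one] at hk
    have h1 := orderOf_dvd_of_pow_eq_one hk
    rwa [orderOf_eq_card_of_forall_mem_zpowers ht, Nat.card_eq_fintype_card, ZMod.card_units_eq_totient,
      Nat.totient_prime hpp] at h1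
  -- coordinates on `P / Z(P)`
  have hQcard : Nat.card ((P : Subgroup G) ⧸ (Subgroup.center (P : Subgroup G))) = p ^ 2 := by
    have h1 := Subgroup.card_eq_card_quotient_mul_card_subgroup (Subgroup.center (P : Subgroup G))
    rw [hcard, hZcard] at h1
    have h2 : p * p ^ 2 = p * Nat.card ((P : Subgroup G) ⧸ (Subgroup.center (P : Subgroup G))) := by rw [mul_comm p (Nat.card _), ← h1]; ring
    exact (Nat.eq_of_mul_eq_mul_left hpp.pos h2).symm
  have hQexp : ∀ q : (P : Subgroup G) ⧸ (Subgroup.center (P : Subgroup G)), q ^ p = 1 := by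
    intro q
    induction q using QuotientGroup.induction_on with
    | H x => rw [← QuotientGroup.mk_pow, hexp' x]; rfl
  have hQcomm : ∀ x y : (P : Subgroup G) ⧸ (Subgroup.center (P : Subgroup G)), x * y = y * x :=
    IsPGroup.commutative_of_card_eq_prime_sq hQcard
  have hQnt : Nontrivial ((P : Subgroup G) ⧸ (Subgroup.center (P : Subgroup G))) := by
    rw [← Finite.one_lt_card_iff_nontrivial, hQcard]
    exact Nat.one_lt_pow (by norm_num) hpp.one_lt
  obtain ⟨z', hz'⟩ := exists_ne (1 : (P : Subgroup G) ⧸ (Subgroup.center (P : Subgroup G)))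
  obtain ⟨a', ha'⟩ : ∃ a' : (P : Subgroup G) ⧸ (Subgroup.center (P : Subgroup G)), a' ∉ Subgroup.zpowers z' := by
    by_contra hall
    push Not at hall
    have h1 : Subgroup.zpowers z' = ⊤ := (Subgroup.eq_top_iff' _).mpr hall
    have h2 := Nat.card_zpowers z'
    rw [h1, Subgroup.card_top, hQcard, orderOf_eq_prime (hQexp z') hz'] at h2
    have := hpp.one_lt
    nlinarith
  obtain ⟨e, -, -, -⟩ := exists_coords (p := p) hQcard hQexp hQcomm z' a' hz' ha'
  set π : (P : Subgroup G) →* Multiplicative (Fin 2 → ZMod p) :=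
    e.toMonoidHom.comp (QuotientGroup.mk' (Subgroup.center (P : Subgroup G))) with hπdef
  have hπ : Function.Surjective π := e.surjective.comp (QuotientGroup.mk'_surjective (Subgroup.center (P : Subgroup G)))
  have hker : π.ker = Subgroup.center (P : Subgroup G) := by
    ext x
    rw [MonoidHom.mem_ker, hπdef, MonoidHom.comp_apply]
    show e (QuotientGroup.mk' (Subgroup.center (P : Subgroup G)) x) = 1 ↔ _
    rw [MulEquiv.map_eq_one_iff, QuotientGroup.mk'_apply, QuotientGroup.eq_one_iff]
  -- an element of `P` above each line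
  have hlift : ∀ i : Option (ZMod p), ∃ a : (P : Subgroup G),
      π a = Multiplicative.ofAdd (lineVec i) := fun i => hπ _
  choose a haπ using hlift
  have hv0 : ∀ i : Option (ZMod p), lineVec i ≠ 0 := by
    intro i
    rcases i with _ | c
    · exact ne_zero_of_dt_left (lineVec_dt none (some 0) (by simp))
    · exact ne_zero_of_dt_left (lineVec_dt (some c) none (by simp))
  have haZ : ∀ i, a i ∉ Subgroup.center (P : Subgroup G) := by
    intro i h
    rw [← hker, MonoidHom.mem_ker, haπ] at h
    exact hv0 i (Multiplicative.ofAdd.injective h)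
  -- the data of the planes
  have hdata := fun i => plane_data' P hcard hexp' z₀ hz₀ hZ hcomm' hconj' (a i) (haZ i) s s' hss
  choose h hhN hha hcent hCA using hdata
  -- the matrices
  have hmat := fun i => exists_mem_outGroup hπ hker (h i) (hhN i)
  choose x hxK hxact using hmat
  have hflag : ∀ i, Flag ((x i : GL (Fin 2) (ZMod p)) : Matrix (Fin 2) (Fin 2) (ZMod p))
      (lineVec i) (s' : ZMod p) ((s : ZMod p) ^ 2) := by
    intro i
    have := flag_of_actsAs hker hπ (hxact i) z₀ (a i) hz₀Z s s' (hha i) (hcent i) (hCA i)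
    rwa [haπ, toAdd_ofAdd] at this
  -- Dickson
  let _ : Fintype (GaloisField p 2) := Fintype.ofFinite _
  have hF : Fintype.card (GaloisField p 2) = p ^ 2 := by
    rw [← Nat.card_eq_fintype_card, GaloisField.card p 2 (by norm_num)]
  have h01 : (1 : ZMod p) ≠ 0 := one_ne_zero
  have hbound := flags_bound (F := GaloisField p 2) hF (isSquare_galois hp) hp hp3 hp6 hp9 hp15
    (outGroup hπ hker) (outGroup_pprime P hπ hker) s s' hss hprim
    (none : Option (ZMod p)) (some 0) (some 1) (by simp) (by simp) (by simp [h01.symm])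
    x hxK lineVec lineVec_dt hflag
  have hc := hbound.2
  rw [Fintype.card_option, ZMod.card] at hc
  omega

end Cfsg.Agent.S3055
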