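import Mathlib
import Cfsg.Statements.S3057
import Cfsg.Agent.S0016
import Cfsg.Agent.S2777
import Cfsg.Agent.S3056
import Cfsg.Agent.Lib.Helper53.StronglyEmbedded
import Cfsg.Agent.Lib.Helper58.SEGeneration
-- import your own Cfsg.Agent.* helpers here

set_option autoImplicit false
open Cfsg

namespace Cfsg.Agent.S3057


open Subgroup Cfsg.Agent.Lib.Helper58

variable {G : Type*} [Group G]

/-- From a `p`-solvable chain: a `p'`-normal subgroup `K` below a normal `L` with `L/K` a nontrivial
`p`-group (when `p` divides the order). -/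
theorem exists_pprime_p_section [Finite G] (p : ℕ) [Fact p.Prime] (hdiv : p ∣ Nat.card G)
    (hsol : Cfsg.IsPSolvable p G) :
    ∃ K L : Subgroup G, K.Normal ∧ L.Normal ∧ K ≤ L ∧ ¬ p ∣ Nat.card K ∧ p ∣ Nat.card L ∧
      ∃ m : ℕ, K.relIndex L = p ^ m := by
  have hp : p.Prime := Fact.out
  obtain ⟨n, Hc, h0, hlast, hmono, hnorm, hstep⟩ := hsol
  have key : ∀ k : ℕ, ∀ hk : k < n + 1, p ∣ Nat.card (Hc ⟨k, hk⟩) →
      ∃ i : Fin n, ¬ p ∣ Nat.card (Hc i.castSucc) ∧ p ∣ Nat.card (Hc i.succ) := by
    intro k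
    induction k with
    | zero =>
      intro hk hdvd
      exfalso
      have : Hc ⟨0, hk⟩ = ⊥ := h0
      rw [this, Subgroup.card_bot] at hdvd
      exact hp.one_lt.ne' (Nat.dvd_one.mp hdvd)
    | succ k ih =>
      intro hk hdvd
      by_cases hprev : p ∣ Nat.card (Hc ⟨k, by omega⟩)
      · exact ih (by omega) hprev
      · exact ⟨⟨k, by omega⟩, hprev, hdvd⟩
  have hlast' : p ∣ Nat.card (Hc ⟨n, by omega⟩) := by
    have : Hc ⟨n, by omega⟩ = ⊤ := hlast
    rw [this, Subgroup.card_top]
    exact hdiv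
  obtain ⟨i, hi1, hi2⟩ := key n (by omega) hlast'
  have hle : Hc i.castSucc ≤ Hc i.succ := hmono (Fin.castSucc_lt_succ.le)
  refine ⟨Hc i.castSucc, Hc i.succ, hnorm _, hnorm _, hle, hi1, hi2, ?_⟩
  rcases hstep i with h | h
  · exact h
  · exfalso
    have hmul : Nat.card (Hc i.castSucc) * (Hc i.castSucc).relIndex (Hc i.succ) = Nat.card (Hc i.succ) := by
      rw [← relIndex_bot_left, ← relIndex_bot_left]
      exact relIndex_mul_relIndex _ _ _ bot_le hle
    rw [← hmul] at hi2
    rcases (Nat.Prime.dvd_mul hp).mp hi2 with h1 | h1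
    · exact hi1 h1
    · have := Nat.Coprime.eq_one_of_dvd h.symm h1
      exact hp.one_lt.ne' this

/-- A finite `p`-group with two distinct subgroups of order `p` contains commuting elements
`a`, `x` of order `p` with `x ∉ ⟨a⟩`. -/
theorem exists_pair_of_two_subgroups {P : Type*} [Group P] [Finite P] (p : ℕ) [Fact p.Prime]
    (hP : IsPGroup p P) {Y₁ Y₂ : Subgroup P} (h1 : Nat.card Y₁ = p) (h2 : Nat.card Y₂ = p)
    (hne : Y₁ ≠ Y₂) :
    ∃ a x : P, orderOf a = p ∧ orderOf x = p ∧ a * x = x * a ∧ x ∉ zpowers a := by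
  have hp : p.Prime := Fact.out
  have hnt : Nontrivial P := by
    by_contra hnt
    rw [not_nontrivial_iff_subsingleton] at hnt
    apply hne
    exact Subsingleton.elim _ _
  have hcnt : Nontrivial (Subgroup.center P) := hP.center_nontrivial
  have hcne : Subgroup.center P ≠ ⊥ := (Subgroup.nontrivial_iff_ne_bot _).mp hcnt
  have hdvd : p ∣ Nat.card (Subgroup.center P) := pgroup_card_dvd (hP.to_subgroup _) hcne
  obtain ⟨⟨z, hzc⟩, hz⟩ := exists_prime_orderOf_dvd_card' p hdvd
  rw [← Subgroup.orderOf_coe] at hz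
  change orderOf z = p at hz
  have hZcard : Nat.card (zpowers z) = p := by rw [Nat.card_zpowers, hz]
  -- a subgroup of order p different from ⟨z⟩
  obtain ⟨Y, hY, hYne⟩ : ∃ Y : Subgroup P, Nat.card Y = p ∧ Y ≠ zpowers z := by
    by_cases h : Y₁ = zpowers z
    · exact ⟨Y₂, h2, fun h' => hne (h.trans h'.symm)⟩
    · exact ⟨Y₁, h1, h⟩
  have hdvdY : p ∣ Nat.card Y := by rw [hY]
  obtain ⟨⟨y, hyY⟩, hy⟩ := exists_prime_orderOf_dvd_card' p hdvdY
  rw [← Subgroup.orderOf_coe] at hy
  change orderOf y = p at hy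
  have hYy : zpowers y = Y := by
    apply Subgroup.eq_of_le_of_card_ge (Subgroup.zpowers_le.mpr hyY)
    rw [Nat.card_zpowers, hy, hY]
  refine ⟨z, y, hz, hy, ?_, ?_⟩
  · exact (Subgroup.mem_center_iff.mp hzc y).symm
  · intro hyz
    apply hYne
    rw [← hYy]
    apply Subgroup.eq_of_le_of_card_ge (Subgroup.zpowers_le.mpr hyz)
    rw [hZcard, Nat.card_zpowers, hy]

theorem result' [Finite G]
    (p : ℕ) [Fact p.Prime] (hdiv : p ∣ Nat.card G) (hsol : Cfsg.IsPSolvable p G) (P : Sylow p G) :
    ¬ Cfsg.IsSylowChainConnected p G ↔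
      Cfsg.pCore p G = ⊥ ∧ (IsCyclic ↥P ∨ (p = 2 ∧ ∃ n : ℕ, Nonempty (↥P ≃* QuaternionGroup (2 ^ n)))) := by
  have hp : p.Prime := Fact.out
  have hP1 : (P : Subgroup G) ≠ ⊥ := P.ne_bot_of_dvd_card hdiv
  constructor
  · intro hG
    rw [isSylowChainConnected_iff] at hG
    push Not at hG
    obtain ⟨S, T, hST⟩ := hG
    -- a Sylow subgroup not connected to P
    obtain ⟨T', hPT'⟩ : ∃ T' : Sylow p G, ¬ SConn P T' := by
      by_contra hall
      push Not at hall
      exact hST ((hall S).symm.trans (hall T))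
    obtain ⟨hHtop, hpH, hse⟩ := SE_of_not_connected hPT'
    have hPH : (P : Subgroup G) ≤ compStab P := le_compStab P
    set H := compStab P with hH
    constructor
    · -- O_p(G) = 1
      by_contra hO
      apply hPT'
      apply SConn.of_inf_ne_bot
      intro hbot
      apply hO
      have hn : (Cfsg.pCore p G).Normal := Subgroup.sSup_normal _ (fun _ h => h.1)
      have hpg : IsPGroup p ↥(Cfsg.pCore p G) :=
        Sylow.sSup_of_normal _ (fun _ h => h.2) (fun _ h => h.1)
      rw [eq_bot_iff, ← hbot]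
      exact le_inf (hpg.le_sylow_of_normal P) (hpg.le_sylow_of_normal T')
    · -- unique subgroup of order p
      apply Cfsg.Agent.S0016.result p P.isPGroup'
      intro Y₁ Y₂ h1 h2
      by_contra hne
      obtain ⟨a', x', ha', hx', hcomm', hx_not'⟩ :=
        exists_pair_of_two_subgroups p P.isPGroup' h1 h2 hne
      -- move to G
      set a : G := (a' : G) with ha_def
      set x : G := (x' : G) with hx_def
      have ha : orderOf a = p := by rw [ha_def, Subgroup.orderOf_coe]; exact ha'
      have hx : orderOf x = p := by rw [hx_def, Subgroup.orderOf_coe]; exact hx'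
      have hcomm : a * x = x * a := by
        have := congrArg Subtype.val hcomm'
        simpa using this
      have hx_not : x ∉ zpowers a := by
        intro h
        apply hx_not'
        obtain ⟨k, hk⟩ := Subgroup.mem_zpowers_iff.mp h
        rw [Subgroup.mem_zpowers_iff]
        refine ⟨k, ?_⟩
        apply Subtype.ext
        rw [Subgroup.coe_zpow]
        exact hk
      obtain ⟨hAel, hAcard⟩ := elemAb_closure_pair ha hx hcomm hx_not
      set A := Subgroup.closure ({a, x} : Set G) with hA
      have hAP : A ≤ (P : Subgroup G) := by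
        rw [hA, Subgroup.closure_le]
        intro u hu
        rcases hu with rfl | rfl
        · exact a'.2
        · exact x'.2
      have hAH : A ≤ H := hAP.trans hPH
      -- the p-solvable section
      obtain ⟨K, L, hKn, hLn, hKL, hKp, hLp, m, hm⟩ := exists_pprime_p_section p hdiv hsol
      have hKnorm : Subgroup.normalizer (K : Set G) = ⊤ := Subgroup.normalizer_eq_top_iff.mpr hKn
      have hKH : K ≤ H := pprime_le_of_SE hse hAH hAel hAcard hKp (by rw [hKnorm]; exact le_top)
      have hQne := sylow_inf_normal_ne_bot P L hLp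
      have hQp : IsPGroup p ↥((P : Subgroup G) ⊓ L) := P.isPGroup'.to_le inf_le_left
      have hQH : (P : Subgroup G) ⊓ L ≤ H := inf_le_left.trans hPH
      have hNQ := normalizer_le_of_SE hse hQH hQp hQne
      -- L = K ⊔ (P ⊓ L)
      have hLH : L ≤ H := by
        set X := K ⊔ ((P : Subgroup G) ⊓ L) with hX
        have hXL : X ≤ L := sup_le hKL inf_le_right
        have hXH : X ≤ H := sup_le hKH hQH
        have h1 : X.relIndex L ∣ p ^ m := by
          rw [← hm, ← relIndex_mul_relIndex K X L le_sup_left hXL]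
          exact dvd_mul_left _ _
        have h2 : X.relIndex L ∣ ((P : Subgroup G) ⊓ L).relIndex L := by
          rw [← relIndex_mul_relIndex ((P : Subgroup G) ⊓ L) X L le_sup_right hXL]
          exact dvd_mul_left _ _
        have h3 : ¬ p ∣ X.relIndex L := fun h => sylow_inf_normal_relIndex P L (h.trans h2)
        have h4 : X.relIndex L = 1 := by
          obtain ⟨j, hj, hjc⟩ := (Nat.dvd_prime_pow hp).mp h1
          rcases Nat.eq_zero_or_pos j with h0 | hpos
          · rw [hjc, h0, pow_zero]
          · exfalso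
            apply h3
            rw [hjc]
            exact dvd_pow_self p (Nat.pos_iff_ne_zero.mp hpos)
        exact (Subgroup.relIndex_eq_one.mp h4).trans hXH
      apply hHtop
      rw [eq_top_iff, ← frattini_inf P L]
      exact sup_le hNQ hLH
  · rintro ⟨hO, hT⟩
    have hT' : IsCyclic ↥(P : Subgroup G) ∨ ∃ n : ℕ, Nonempty (↥(P : Subgroup G) ≃* QuaternionGroup n) := by
      rcases hT with h | ⟨_, n, h⟩
      · exact Or.inl h
      · exact Or.inr ⟨2 ^ n, h⟩
    have hse := Cfsg.Agent.S2777.result hO P hP1 hT'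
    set M := Subgroup.normalizer (Cfsg.omegaOne p (P : Subgroup G) : Set G) with hM
    obtain ⟨hpG, hMtop, P', hP'⟩ := hse
    have hpM : p ∣ Nat.card M := by
      rw [Cfsg.Agent.Lib.Helper53.kGeneratedCore_one_le_iff] at hP'
      have hP'1 : (P' : Subgroup G) ≠ ⊥ := P'.ne_bot_of_dvd_card hdiv
      have h1 : (P' : Subgroup G) ≤ M := Subgroup.le_normalizer.trans (hP' P' le_rfl hP'1)
      exact (pgroup_card_dvd P'.isPGroup' hP'1).trans (Subgroup.card_dvd_of_le h1)
    have hse' : Cfsg.IsStronglyPEmbedded p M := ⟨hpG, hMtop, P', hP'⟩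
    have hB := (Cfsg.Agent.Lib.Helper53.isStronglyPEmbedded_iff_normB hMtop hpM).mp hse'
    have hconj := (Cfsg.Agent.Lib.Helper53.normB_iff_conj_inf hpM).mp hB
    exact (Cfsg.Agent.S3056.result p).mpr ⟨M, hMtop, hpM, hconj⟩


/-- Let p be a prime and G a finite p-solvable group of order divisible by p, with Sylow p-subgroup P. Then the Sylow p-subgroups of G fail to be chain-connected through nontrivial intersections (equivalently, G has a strongly p-embedded subgroup) if and only if O_p(G) = 1 and P is cyclic or, for p = 2, generalized quaternion. -/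
theorem result {G : Type*} [Group G] [Finite G]
    (p : ℕ) [Fact p.Prime] (hdiv : p ∣ Nat.card G) (hsol : Cfsg.IsPSolvable p G) (P : Sylow p G) :
    ¬ Cfsg.IsSylowChainConnected p G ↔
      Cfsg.pCore p G = ⊥ ∧ (IsCyclic ↥P ∨ (p = 2 ∧ ∃ n : ℕ, Nonempty (↥P ≃* QuaternionGroup (2 ^ n)))) := by
  exact result' p hdiv hsol P

end Cfsg.Agent.S3057
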