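import Cfsg.Statements.S3059
import Cfsg.Agent.Lib.Helper58.StronglyEmbedded
import Cfsg.Agent.Lib.Helper58.Basic

set_option autoImplicit false
open Cfsg

namespace Cfsg.Agent.S3059

open Subgroup Cfsg.Agent.Lib.Helper58

/-- Let p be a prime and H a strongly p-embedded subgroup of the finite group G in the classical sense: H is proper, p divides the order of H, and H ∩ gHg⁻¹ has order prime to p for every g outside H. Then for every normal subgroup N of G of order divisible by p, G = H · O^p(N), where O^p(N) is the subgroup generated by the elements of N of order prime to p. -/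
theorem result {G : Type*} [Group G] [Finite G]
    (p : ℕ) [Fact p.Prime] (H : Subgroup G) (hH : H ≠ ⊤) (hpH : p ∣ Nat.card H)
    (hse : ∀ g : G, g ∉ H → ¬ p ∣ Nat.card ↥(H ⊓ H.map (MulAut.conj g).toMonoidHom))
    (N : Subgroup G) [N.Normal] (hN : p ∣ Nat.card N) :
    H ⊔ Subgroup.closure {g : G | g ∈ N ∧ (orderOf g).Coprime p} = ⊤ := by
  have hp : p.Prime := Fact.out
  have hse' : SE p H := hse
  obtain ⟨S, hSH⟩ := exists_sylow_le_of_SE hse' hpH
  set K : Subgroup G := Subgroup.closure {g : G | g ∈ N ∧ (orderOf g).Coprime p} with hK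
  have hKN : K ≤ N := by
    rw [hK, Subgroup.closure_le]
    intro g hg
    exact hg.1
  have hKnormal : K.Normal := by
    rw [← normalizer_eq_top_iff, eq_top_iff, hK, le_normalizer_closure_iff]
    intro h _ g hg
    apply Subgroup.subset_closure
    refine ⟨‹N.Normal›.conj_mem g hg.1 h, ?_⟩
    have : orderOf (h * g * h⁻¹) = orderOf g := by
      have := orderOf_injective (MulAut.conj h).toMonoidHom (MulAut.conj h).injective g
      simpa [MulAut.conj_apply] using this
    rw [this]; exact hg.2
  -- R = S ∩ N
  set R : Subgroup G := (S : Subgroup G) ⊓ N with hR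
  have hR1 : R ≠ ⊥ := sylow_inf_normal_ne_bot S N hN
  have hRp : IsPGroup p R := S.isPGroup'.to_le inf_le_left
  have hRH : R ≤ H := inf_le_left.trans hSH
  have hnorm : normalizer (R : Set G) ≤ H := normalizer_le_of_SE hse' hRH hRp hR1
  have hHN : H ⊔ N = ⊤ := by
    rw [eq_top_iff, ← frattini_inf S N]
    exact sup_le_sup_right hnorm N
  -- N ≤ R ⊔ K
  have hNRK : N ≤ R ⊔ K := by
    rw [← relIndex_eq_one]
    have h1 : (R ⊔ K).relIndex N ∣ R.relIndex N := relIndex_dvd_of_le_left N le_sup_left
    have h2 : (R ⊔ K).relIndex N ∣ K.relIndex N := relIndex_dvd_of_le_left N le_sup_right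
    have h3 : ¬ p ∣ R.relIndex N := sylow_inf_normal_relIndex S N
    have h4 : ∃ n, K.relIndex N = p ^ n := by
      have hKN' : (K.subgroupOf N).Normal := hKnormal.subgroupOf N
      have hq : IsPGroup p (↥N ⧸ K.subgroupOf N) := by
        intro x
        induction x using QuotientGroup.induction_on with
        | H n =>
          have hn0 : orderOf (n : G) ≠ 0 := (orderOf_pos (n : G)).ne'
          obtain ⟨e, m, hm, hnm⟩ := Nat.exists_eq_pow_mul_and_not_dvd hn0 p hp.ne_one
          refine ⟨e, ?_⟩
          rw [← QuotientGroup.mk_pow, QuotientGroup.eq_one_iff, mem_subgroupOf]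
          apply Subgroup.subset_closure
          refine ⟨N.pow_mem n.2 _, ?_⟩
          have hpe : p ^ e ≠ 0 := pow_ne_zero _ hp.ne_zero
          have : orderOf ((n : G) ^ p ^ e) = m := by
            rw [orderOf_pow' _ hpe, hnm, Nat.gcd_eq_right (dvd_mul_right _ _)]
            exact Nat.mul_div_cancel_left m (pos_of_ne_zero hpe)
          push_cast
          rw [this]
          exact ((Nat.Prime.coprime_iff_not_dvd hp).mpr hm).symm
      obtain ⟨n, hn⟩ := IsPGroup.iff_card.mp hq
      refine ⟨n, ?_⟩
      rw [← hn]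
      exact Subgroup.index_eq_card _
    obtain ⟨n, hn⟩ := h4
    rw [hn] at h2
    obtain ⟨k, _, hk⟩ := (Nat.dvd_prime_pow hp).mp h2
    rcases Nat.eq_zero_or_pos k with h0 | hpos
    · rw [hk, h0, pow_zero]
    · exfalso
      apply h3
      refine dvd_trans ?_ h1
      rw [hk]
      exact dvd_pow_self p hpos.ne'
  rw [eq_top_iff, ← hHN]
  apply sup_le le_sup_left
  exact hNRK.trans (sup_le (hRH.trans le_sup_left) le_sup_right)

end Cfsg.Agent.S3059
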