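import Cfsg.Statements.S3060
import Mathlib
import Cfsg.Agent.Lib.Helper58.DStarNormal

set_option autoImplicit false
open Cfsg

namespace Cfsg.Agent.S3060

open Subgroup Cfsg.Agent.Lib.Helper58
open scoped commutatorElement

theorem result' {G : Type*} [Group G] [Finite G] {p : ℕ} [Fact p.Prime]
    (hc : Subgroup.centralizer (Cfsg.pCore p G : Set G) ≤ Cfsg.pCore p G)
    (hst : ∀ (P : Subgroup G) [P.Normal], IsPGroup p P → Cfsg.IsPStableOn p P) (S : Sylow p G) :
    (Cfsg.dStarOf (S : Subgroup G)).Normal := by
  haveI hQn : (Cfsg.pCore p G).Normal := pCore_normal (G := G) p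
  set Q := Cfsg.pCore p G with hQ
  have hQp : IsPGroup p Q := pCore_isPGroup p
  -- Step 2: for every Sylow P, dStarOf P ≤ Q
  have hDQ : ∀ P : Sylow p G, Cfsg.dStarOf (P : Subgroup G) ≤ Q := by
    intro P d hd
    apply mem_pCore_of_quadratic hc (hst Q hQp)
    have hPT := PT_dStarOf P.isPGroup'
    have h1 : ⁅Q, zpowers d⁆ ≤ Cfsg.dStarOf (P : Subgroup G) := by
      rw [Subgroup.commutator_le]
      intro q hq z hz
      have hzD : z ∈ Cfsg.dStarOf (P : Subgroup G) := (zpowers_le.mpr hd) hz
      rw [commutatorElement_def]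
      exact mul_mem (conj_mem_dStarOf P.isPGroup' (pCore_le_sylow P hq) hzD) (inv_mem hzD)
    have h2 : ⁅Cfsg.dStarOf (P : Subgroup G), zpowers d⁆ = ⊥ := by
      rw [Subgroup.commutator_eq_bot_iff_le_centralizer, Subgroup.le_centralizer_iff, zpowers_le]
      exact le_centralizer_iff_isMulCommutative.mpr hPT.2.1 hd
    rw [eq_bot_iff, ← h2]
    exact Subgroup.commutator_mono h1 le_rfl
  set N := ⨆ P : Sylow p G, Cfsg.dStarOf (P : Subgroup G) with hN
  have hNQ : N ≤ Q := iSup_le hDQ
  have hNn : N.Normal := by
    constructor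
    intro n hn g
    have hle : N.map (MulAut.conj g).toMonoidHom ≤ N := by
      rw [hN, Subgroup.map_iSup]
      apply iSup_le; intro P
      calc (Cfsg.dStarOf (P : Subgroup G)).map (MulAut.conj g).toMonoidHom
          ≤ Cfsg.dStarOf ((P : Subgroup G).map (MulAut.conj g).toMonoidHom) :=
            dStarOf_map_le P.isPGroup' _
        _ = Cfsg.dStarOf ((g • P : Sylow p G) : Subgroup G) := rfl
        _ ≤ ⨆ P : Sylow p G, Cfsg.dStarOf (P : Subgroup G) :=
            le_iSup (fun P : Sylow p G => Cfsg.dStarOf (P : Subgroup G)) (g • P)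
    exact hle ⟨n, hn, by simp⟩
  have hPTQ : ∀ P : Sylow p G, PT Q (Cfsg.dStarOf (P : Subgroup G)) := fun P =>
    PT_mono (PT_dStarOf P.isPGroup') (pCore_le_sylow P) (hDQ P)
  have hcomm : ∀ P P' : Sylow p G,
      Cfsg.dStarOf (P : Subgroup G) ≤ centralizer (Cfsg.dStarOf (P' : Subgroup G) : Set G) := by
    intro P P' a ha
    rw [mem_centralizer_iff]
    intro b hb
    exact PT_comm_of_isPGroup hQp (hPTQ P') (hPTQ P) b hb a ha
  have hNc : IsMulCommutative N := by
    rw [← le_centralizer_iff_isMulCommutative]
    apply iSup_le; intro P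
    rw [le_centralizer_iff]
    apply iSup_le; intro P'
    exact hcomm P' P
  have hPTN : PT (S : Subgroup G) N := by
    refine ⟨hNQ.trans (pCore_le_sylow S), hNc, ?_⟩
    intro x hxS htriv
    have hquad : ⁅⁅N, zpowers x⁆, zpowers x⁆ = ⊥ := by
      rw [eq_bot_iff, ← htriv]
      exact commutator_mono (commutator_mono le_sup_left le_sup_right) le_sup_right
    have hNle : N ≤ centralizer ({x} : Set G) := by
      apply iSup_le; intro P
      obtain ⟨s, hsP, hsx⟩ := exists_sylow_rep (hst N (hQp.to_le hNQ)) P hquad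
      set c := s⁻¹ * x with hcdef
      have hxsc : x = s * c := by rw [hcdef]; group
      have hact : ∀ n ∈ N, x * n * x⁻¹ = s * n * s⁻¹ := by
        intro n hn
        have := (mem_centralizer_iff.mp hsx) n hn
        rw [hxsc]
        calc s * c * n * (s * c)⁻¹ = s * (c * n) * c⁻¹ * s⁻¹ := by group
          _ = s * (n * c) * c⁻¹ * s⁻¹ := by rw [this]
          _ = s * n * s⁻¹ := by group
      have hD_N : Cfsg.dStarOf (P : Subgroup G) ≤ N :=
        le_iSup (fun P : Sylow p G => Cfsg.dStarOf (P : Subgroup G)) P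
      have hcomm_eq : ∀ n ∈ N, ⁅n, s⁆ = ⁅n, x⁆ := by
        intro n hn
        have := hact n⁻¹ (inv_mem hn)
        rw [commutatorElement_def, commutatorElement_def, mul_assoc n s, mul_assoc n x,
          mul_assoc n, mul_assoc n, this]
      have hsq : ∀ a ∈ Cfsg.dStarOf (P : Subgroup G), ⁅⁅a, s⁆, s⁆ = 1 := by
        intro a ha
        have haN := hD_N ha
        have h1 : ⁅a, x⁆ ∈ N := by
          rw [commutatorElement_def, mul_assoc a, mul_assoc a]
          exact N.mul_mem haN (hNn.conj_mem _ (N.inv_mem haN) x)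
        rw [hcomm_eq a haN, hcomm_eq _ h1]
        have : ⁅⁅a, x⁆, x⁆ ∈ ⁅⁅N, zpowers x⁆, zpowers x⁆ :=
          commutator_mem_commutator (commutator_mem_commutator haN (mem_zpowers x)) (mem_zpowers x)
        rw [hquad] at this
        exact mem_bot.mp this
      have htr := triple_comm_eq_bot_of_quadratic (PT_dStarOf P.isPGroup').2.1
        (fun a ha => conj_mem_dStarOf P.isPGroup' hsP ha) hsq
      have hs_cent := (PT_dStarOf P.isPGroup').2.2 s hsP htr
      intro a ha
      rw [mem_centralizer_iff]
      intro y hy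
      rw [Set.mem_singleton_iff] at hy; subst hy
      have h3 := hact a (hD_N ha)
      have h4 := hs_cent a ha
      have h5 : y * a * y⁻¹ = a := by
        rw [h3, ← h4]; group
      calc y * a = (y * a * y⁻¹) * y := by group
        _ = a * y := by rw [h5]
    intro a ha
    have := hNle ha
    rw [mem_centralizer_iff] at this
    exact (this x rfl).symm
  have hle : N ≤ Cfsg.dStarOf (S : Subgroup G) := le_dStarOf_of_PT hPTN
  have heq : Cfsg.dStarOf (S : Subgroup G) = N :=
    le_antisymm (le_iSup (fun P : Sylow p G => Cfsg.dStarOf (P : Subgroup G)) S) hle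
  rw [heq]; exact hNn


/-- The D*-Theorem. For a finite p-group S let D*(S) be the subgroup generated by the abelian subgroups A of S such that every x ∈ S with ⟨A, x⟩ of nilpotency class at most two centralizes A. Let p be an odd prime and H a finite p-stable group with Sylow p-subgroup S. Here H is p-stable in the following sense: the largest normal p-subgroup O_p(H) contains its centralizer in H, and for every normal p-subgroup P of H, every element acting quadratically on P has image in O_p(H/C_H(P)). Then D*(S) is a normal subgroup of H. -/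
theorem result {G : Type*} [Group G] [Finite G] {p : ℕ} [Fact p.Prime] (hp : p ≠ 2)
    (hc : Subgroup.centralizer (Cfsg.pCore p G : Set G) ≤ Cfsg.pCore p G)
    (hst : ∀ (P : Subgroup G) [P.Normal], IsPGroup p P → Cfsg.IsPStableOn p P) (S : Sylow p G) :
    (Cfsg.dStarOf (S : Subgroup G)).Normal := by
  exact result' hc hst S

end Cfsg.Agent.S3060
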