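import Cfsg.Statements.S3062
import Cfsg.Agent.S3061
import Cfsg.Agent.Lib.Helper58.ThompsonReplacement
import Cfsg.Agent.Lib.Helper58.PGroupNormal

set_option autoImplicit false
open Cfsg

namespace Cfsg.Agent.S3062

open Subgroup Cfsg.Agent.Lib.Helper58
open scoped commutatorElement

section aux

variable {S : Type*} [Group S]

theorem dStarFamily_conj {A : Subgroup S} (hA : A ∈ Cfsg.dStarFamily S) (g : S) :
    A.map (MulAut.conj g).toMonoidHom ∈ Cfsg.dStarFamily S := by
  rw [← PT_top_iff] at hA ⊢
  exact PT_conj hA g (fun _ _ => Subgroup.mem_top _) (fun _ _ => Subgroup.mem_top _)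

theorem dStar_normal : (Cfsg.dStar S).Normal := by
  constructor
  intro n hn g
  have hle : (Cfsg.dStar S).map (MulAut.conj g).toMonoidHom ≤ Cfsg.dStar S := by
    rw [Subgroup.map_le_iff_le_comap]
    unfold Cfsg.dStar
    apply sSup_le
    intro A hA
    rw [← Subgroup.map_le_iff_le_comap]
    exact le_sSup (dStarFamily_conj hA g)
  exact hle ⟨n, hn, rfl⟩

/-- If `D` is a normal member of the family and `B` is an abelian subgroup normalized by `D`,
then `B` centralizes `D`. -/
theorem centralizes_of_normalizes {D B : Subgroup S} (hD : D ∈ Cfsg.dStarFamily S) (hDn : D.Normal)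
    (hB : IsMulCommutative B) (hDB : D ≤ normalizer (B : Set S)) :
    ∀ x ∈ B, ∀ a ∈ D, a * x = x * a := by
  intro x hx
  apply hD.2 x
  set H := D ⊔ Subgroup.zpowers x with hH
  have hzB : Subgroup.zpowers x ≤ B := by rw [Subgroup.zpowers_le]; exact hx
  have hHcl : H = Subgroup.closure ((D : Set S) ∪ (Subgroup.zpowers x : Set S)) := by
    rw [hH, Subgroup.sup_eq_closure]
  -- commutators of u ∈ D, v ∈ ⟨x⟩ centralize H
  have hmixed : ∀ u ∈ D, ∀ v ∈ Subgroup.zpowers x,
      ⁅u, v⁆ ∈ Subgroup.centralizer (H : Set S) := by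
    intro u hu v hv
    have hvB : v ∈ B := hzB hv
    have h1 : ⁅u, v⁆ ∈ D := by
      have : ⁅u, v⁆ = u * (v * u⁻¹ * v⁻¹) := by rw [commutatorElement_def]; group
      rw [this]
      exact D.mul_mem hu (hDn.conj_mem _ (D.inv_mem hu) v)
    have h2 : ⁅u, v⁆ ∈ B := by
      rw [commutatorElement_def]
      exact B.mul_mem ((Subgroup.mem_normalizer_iff.mp (hDB hu) v).mp hvB) (B.inv_mem hvB)
    have hcD : D ≤ Subgroup.centralizer ({⁅u, v⁆} : Set S) := by
      intro d hd
      rw [Subgroup.mem_centralizer_iff]
      intro y hy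
      rw [Set.mem_singleton_iff] at hy; subst hy
      exact comm_of_isMulCommutative hD.1 h1 hd
    have hcx : Subgroup.zpowers x ≤ Subgroup.centralizer ({⁅u, v⁆} : Set S) := by
      intro d hd
      rw [Subgroup.mem_centralizer_iff]
      intro y hy
      rw [Set.mem_singleton_iff] at hy; subst hy
      exact comm_of_isMulCommutative hB h2 (hzB hd)
    have hHc : H ≤ Subgroup.centralizer ({⁅u, v⁆} : Set S) := sup_le hcD hcx
    rw [Subgroup.mem_centralizer_iff]
    intro t ht
    have := hHc ht
    rw [Subgroup.mem_centralizer_iff] at this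
    exact (this _ rfl).symm
  have hclass2 := class_two_of_generators ((D : Set S) ∪ (Subgroup.zpowers x : Set S)) (by
    rw [← hHcl]
    rintro u (hu | hu) v (hv | hv)
    · have : ⁅u, v⁆ = 1 := by
        rw [commutatorElement_eq_one_iff_mul_comm]
        exact comm_of_isMulCommutative hD.1 hu hv
      rw [this]; exact Subgroup.one_mem _
    · exact hmixed u hu v hv
    · have : ⁅u, v⁆ = ⁅v, u⁆⁻¹ := (commutatorElement_inv v u).symm
      rw [this]
      exact Subgroup.inv_mem _ (hmixed v hv u hu)
    · have : ⁅u, v⁆ = 1 := by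
        rw [commutatorElement_eq_one_iff_mul_comm]
        exact comm_of_isMulCommutative hB (hzB hu) (hzB hv)
      rw [this]; exact Subgroup.one_mem _)
  rw [← hHcl] at hclass2
  have h1 : ⁅H, H⁆ ≤ Subgroup.centralizer (H : Set S) := by
    rw [Subgroup.commutator_le]
    intro g₁ hg₁ g₂ hg₂
    exact hclass2 g₁ hg₁ g₂ hg₂
  exact Subgroup.commutator_eq_bot_iff_le_centralizer.mpr h1

end aux

/-- Let S be a finite p-group, J(S) the subgroup generated by the abelian subgroups of S of largest order and Z(J(S)) its centre. Then Z(S) ≤ D*(S) ≤ Z(J(S)), and every maximal normal abelian subgroup of S contains D*(S). -/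
theorem result {S : Type*} [Group S] [Finite S] {p : ℕ} [Fact p.Prime]
    (hS : IsPGroup p S) :
    Subgroup.center S ≤ Cfsg.dStar S ∧
    Cfsg.dStar S ≤ Cfsg.thompsonSubgroupA S ⊓ Subgroup.centralizer (Cfsg.thompsonSubgroupA S : Set S) ∧
    ∀ A : Subgroup S, A.Normal → IsMulCommutative A →
      (∀ B : Subgroup S, B.Normal → IsMulCommutative B → A ≤ B → B = A) → Cfsg.dStar S ≤ A := by
  classical
  set D := Cfsg.dStar S with hDdef
  have hD : D ∈ Cfsg.dStarFamily S := Cfsg.Agent.S3061.result hS
  have hDn : D.Normal := dStar_normal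
  refine ⟨?_, ?_, ?_⟩
  · apply le_sSup
    refine ⟨inferInstance, ?_⟩
    intro x _ a ha
    exact (Subgroup.mem_center_iff.mp ha x).symm
  · -- every maximal-order abelian subgroup centralizes D
    have hcent : ∀ B ∈ Cfsg.maxAbelianSubgroups S, ∀ x ∈ B, ∀ a ∈ D, a * x = x * a := by
      by_contra hcon
      push Not at hcon
      -- the set of counterexamples
      have hne : Nonempty {B : Subgroup S // B ∈ Cfsg.maxAbelianSubgroups S ∧
          ¬ ∀ x ∈ B, ∀ a ∈ D, a * x = x * a} := by
        obtain ⟨B, hB, x, hx, a, ha, hne⟩ := hcon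
        exact ⟨⟨B, hB, fun h => hne (h x hx a ha)⟩⟩
      obtain ⟨B₀, hB₀⟩ := Finite.exists_max
        (fun B : {B : Subgroup S // B ∈ Cfsg.maxAbelianSubgroups S ∧
          ¬ ∀ x ∈ B, ∀ a ∈ D, a * x = x * a} => Nat.card ↥(B.1 ⊓ D))
      obtain ⟨B, hBmax, hBbad⟩ := B₀
      have hBD : B ≤ normalizer (D : Set S) := by
        rw [Subgroup.normalizer_eq_top_iff.mpr hDn]; exact le_top
      by_cases hDB : D ≤ normalizer (B : Set S)
      · exact hBbad (centralizes_of_normalizes hD hDn hBmax.1 hDB)
      · obtain ⟨B', hB'max, hlt, hB'norm, -⟩ :=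
          thompson_replacement hS B D hBmax hD.1 hBD hDB
        have hcardlt : Nat.card ↥(B ⊓ D) < Nat.card ↥(B' ⊓ D) := by
          rcases lt_or_ge (Nat.card ↥(B ⊓ D)) (Nat.card ↥(B' ⊓ D)) with h | h
          · exact h
          · exact absurd (Subgroup.eq_of_le_of_card_ge hlt.le h) hlt.ne
        have hB'good : ∀ x ∈ B', ∀ a ∈ D, a * x = x * a := by
          by_contra hbad
          have := hB₀ ⟨B', hB'max, hbad⟩
          simp only at this
          omega
        -- then D ≤ B'
        have hDB' : D ≤ B' := by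
          have hcomm : IsMulCommutative ↥(B' ⊔ D) := by
            rw [Subgroup.sup_eq_closure]
            apply Subgroup.isMulCommutative_closure
            rintro u (hu | hu) v (hv | hv)
            · exact comm_of_isMulCommutative hB'max.1 hu hv
            · exact (hB'good u hu v hv).symm
            · exact hB'good v hv u hu
            · exact comm_of_isMulCommutative hD.1 hu hv
          have hle := hB'max.2 _ hcomm
          have : B' = B' ⊔ D := Subgroup.eq_of_le_of_card_ge le_sup_left hle
          rw [this]; exact le_sup_right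
        exact hDB (hDB'.trans hB'norm)
    -- D ≤ every maximal-order abelian subgroup
    have hDle : ∀ B ∈ Cfsg.maxAbelianSubgroups S, D ≤ B := by
      intro B hB
      have hcomm : IsMulCommutative ↥(B ⊔ D) := by
        rw [Subgroup.sup_eq_closure]
        apply Subgroup.isMulCommutative_closure
        rintro u (hu | hu) v (hv | hv)
        · exact comm_of_isMulCommutative hB.1 hu hv
        · exact (hcent B hB u hu v hv).symm
        · exact hcent B hB v hv u hu
        · exact comm_of_isMulCommutative hD.1 hu hv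
      have hle := hB.2 _ hcomm
      have : B = B ⊔ D := Subgroup.eq_of_le_of_card_ge le_sup_left hle
      rw [this]; exact le_sup_right
    -- existence of a maximal-order abelian subgroup
    have hex : ∃ B, B ∈ Cfsg.maxAbelianSubgroups S := by
      have hne : Nonempty {B : Subgroup S // IsMulCommutative B} :=
        ⟨⟨⊥, inferInstance⟩⟩
      obtain ⟨B, hB⟩ := Finite.exists_max
        (fun B : {B : Subgroup S // IsMulCommutative B} => Nat.card B.1)
      exact ⟨B.1, B.2, fun B' hB' => hB ⟨B', hB'⟩⟩
    obtain ⟨B₁, hB₁⟩ := hex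
    refine le_inf ?_ ?_
    · exact (hDle B₁ hB₁).trans (le_sSup hB₁)
    · rw [Subgroup.le_centralizer_iff]
      unfold Cfsg.thompsonSubgroupA
      apply sSup_le
      intro B hB x hx
      rw [Subgroup.mem_centralizer_iff]
      intro a ha
      exact hcent B hB x hx a ha
  · intro A hAn hAc hAmax
    have hDA : D ≤ normalizer (A : Set S) := by
      rw [Subgroup.normalizer_eq_top_iff.mpr hAn]; exact le_top
    have h1 := centralizes_of_normalizes hD hDn hAc hDA
    have h2 : D ≤ Subgroup.centralizer (A : Set S) := by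
      intro a ha
      rw [Subgroup.mem_centralizer_iff]
      intro x hx
      exact (h1 x hx a ha).symm
    exact h2.trans (centralizer_le_of_maximal_normal_abelian hS A hAn hAc hAmax)

end Cfsg.Agent.S3062
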