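import Cfsg.Statements.S3063
import Cfsg.Agent.Lib.Helper58.ThompsonReplacement
import Cfsg.Agent.Lib.Helper58.ProductFormula

set_option autoImplicit false
open Cfsg

namespace Cfsg.Agent.S3063

open Subgroup Cfsg.Agent.Lib.Helper58
open scoped commutatorElement

/-- A weak replacement Theorem for metabelian p-groups: let S be a finite p-group whose derived subgroup is abelian and A an abelian subgroup of S of largest possible order. Then the normal closure of A in S contains an abelian subgroup B of the same order as A that is normal in S. -/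
theorem result {S : Type*} [Group S] [Finite S] {p : ℕ} [Fact p.Prime]
    (hS : IsPGroup p S) (hmeta : IsMulCommutative ↥(commutator S))
    (A : Subgroup S) (hA : A ∈ Cfsg.maxAbelianSubgroups S) :
    ∃ B ∈ Cfsg.maxAbelianSubgroups S, B.Normal ∧ B ≤ Subgroup.normalClosure (A : Set S) := by
  classical
  set D : Subgroup S := commutator S with hD
  have hDn : D.Normal := inferInstance
  have hDmem : ∀ x y : S, ⁅x, y⁆ ∈ D := fun x y => by
    rw [hD, commutator_def]
    exact Subgroup.commutator_mem_commutator (Subgroup.mem_top x) (Subgroup.mem_top y)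
  set N : Subgroup S := Subgroup.normalClosure (A : Set S) with hN
  have hNn : N.Normal := Subgroup.normalClosure_normal
  -- choose B
  have hne : Nonempty {B : Subgroup S // B ∈ Cfsg.maxAbelianSubgroups S ∧ B ≤ N} :=
    ⟨⟨A, hA, Subgroup.le_normalClosure⟩⟩
  obtain ⟨B₀, hB₀⟩ := Finite.exists_max
    (fun B : {B : Subgroup S // B ∈ Cfsg.maxAbelianSubgroups S ∧ B ≤ N} => Nat.card ↥(B.1 ⊓ D))
  obtain ⟨B, hBmax, hBN⟩ := B₀
  have hBbest : ∀ B' : Subgroup S, B' ∈ Cfsg.maxAbelianSubgroups S → B' ≤ N →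
      Nat.card ↥(B' ⊓ D) ≤ Nat.card ↥(B ⊓ D) := fun B' h1 h2 => hB₀ ⟨B', h1, h2⟩
  have hBc : IsMulCommutative B := hBmax.1
  -- Step 1
  have hDB : D ≤ normalizer (B : Set S) := by
    by_contra hnot
    have hBD : B ≤ normalizer (D : Set S) := by
      rw [Subgroup.normalizer_eq_top_iff.mpr hDn]; exact le_top
    obtain ⟨B', hB'max, hlt, -, hB'cl⟩ := thompson_replacement hS B D hBmax hmeta hBD hnot
    have hB'N : B' ≤ N := hB'cl.trans (Subgroup.normalClosure_le_normal hBN)
    have h1 := hBbest B' hB'max hB'N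
    have h2 : B ⊓ D = B' ⊓ D := Subgroup.eq_of_le_of_card_ge hlt.le h1
    exact hlt.ne h2
  refine ⟨B, hBmax, ?_, hBN⟩
  -- Step 2
  by_contra hBnn
  have hex : ∃ g : S, ∃ n ∈ B, g * n * g⁻¹ ∉ B := by
    by_contra h
    push Not at h
    exact hBnn ⟨fun n hn g => h g n hn⟩
  obtain ⟨g, n, hnB, hgn⟩ := hex
  set B₂ : Subgroup S := B.map (MulAut.conj g).toMonoidHom with hB₂
  have hB₂c : IsMulCommutative B₂ := Subgroup.map_isMulCommutative B _
  have hB₂card : Nat.card B₂ = Nat.card B :=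
    Subgroup.card_map_of_injective (MulAut.conj g).injective
  have hB₂N : B₂ ≤ N := by
    rintro _ ⟨b, hb, rfl⟩
    exact hNn.conj_mem b (hBN hb) g
  have hB₂BD : B₂ ≤ B ⊔ D := by
    rintro _ ⟨b, hb, rfl⟩
    have : (MulAut.conj g).toMonoidHom b = ⁅g, b⁆ * b := by
      simp only [MulEquiv.coe_toMonoidHom, MulAut.conj_apply, commutatorElement_def]; group
    rw [this]
    exact Subgroup.mul_mem _ ((le_sup_right : D ≤ B ⊔ D) (hDmem g b)) ((le_sup_left : B ≤ B ⊔ D) hb)
  have hBB₂D : B ≤ B₂ ⊔ D := by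
    intro b hb
    have : b = ⁅b, g⁆ * (g * b * g⁻¹) := by
      simp only [commutatorElement_def]; group
    rw [this]
    exact Subgroup.mul_mem _ ((le_sup_right : D ≤ B₂ ⊔ D) (hDmem b g))
      ((le_sup_left : B₂ ≤ B₂ ⊔ D) ⟨b, hb, by simp [MulAut.conj_apply]⟩)
  have hDB₂ : D ≤ normalizer (B₂ : Set S) := by
    rw [Subgroup.le_normalizer_iff]
    rintro d hd _ ⟨b, hb, rfl⟩
    have hd' : g⁻¹ * d * g ∈ D := by
      have := hDn.conj_mem d hd g⁻¹
      simpa using this
    have h1 : (g⁻¹ * d * g) * b * (g⁻¹ * d * g)⁻¹ ∈ B :=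
      (Subgroup.mem_normalizer_iff.mp (hDB hd') b).mp hb
    refine ⟨(g⁻¹ * d * g) * b * (g⁻¹ * d * g)⁻¹, h1, ?_⟩
    simp only [MulEquiv.coe_toMonoidHom, MulAut.conj_apply]; group
  have hB₂normB : B₂ ≤ normalizer (B : Set S) :=
    hB₂BD.trans (sup_le Subgroup.le_normalizer hDB)
  have hBnormB₂ : B ≤ normalizer (B₂ : Set S) :=
    hBB₂D.trans (sup_le Subgroup.le_normalizer hDB₂)
  set L : Subgroup S := B ⊔ B₂ with hL
  set T' : Subgroup S := L ⊓ D with hT'
  set E : Subgroup S := (B ⊓ B₂) ⊔ T' with hE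
  have hLBD : L ≤ B ⊔ D := sup_le le_sup_left hB₂BD
  -- E abelian
  have hEc : IsMulCommutative E := by
    rw [hE, Subgroup.sup_eq_closure]
    apply Subgroup.isMulCommutative_closure
    have hcentral : ∀ u ∈ B ⊓ B₂, ∀ v ∈ L, u * v = v * u := by
      intro u hu v hv
      have hB1 : B ≤ Subgroup.centralizer ({u} : Set S) := by
        intro b hb
        rw [Subgroup.mem_centralizer_iff]
        intro y hy
        rw [Set.mem_singleton_iff] at hy; subst hy
        exact comm_of_isMulCommutative hBc hu.1 hb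
      have hB2 : B₂ ≤ Subgroup.centralizer ({u} : Set S) := by
        intro b hb
        rw [Subgroup.mem_centralizer_iff]
        intro y hy
        rw [Set.mem_singleton_iff] at hy; subst hy
        exact comm_of_isMulCommutative hB₂c hu.2 hb
      have := (sup_le hB1 hB2 : L ≤ _) hv
      rw [Subgroup.mem_centralizer_iff] at this
      exact this u rfl
    rintro u (hu | hu) v (hv | hv)
    · exact comm_of_isMulCommutative hBc hu.1 hv.1
    · exact hcentral u hu v hv.1
    · exact (hcentral v hv u hu.1).symm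
    · exact comm_of_isMulCommutative hmeta hu.2 hv.2
  -- L = B ⊔ T'
  have hLeq : L = T' ⊔ B := by
    apply le_antisymm
    · intro y hy
      obtain ⟨b, hb, d, hd, rfl⟩ := mem_sup_of_le_normalizer hDB (hLBD hy)
      have hdL : d ∈ L := by
        have : d = b⁻¹ * (b * d) := by group
        rw [this]
        exact L.mul_mem (L.inv_mem ((le_sup_left : B ≤ L) hb)) hy
      exact Subgroup.mul_mem _ ((le_sup_right : B ≤ T' ⊔ B) hb) ((le_sup_left : T' ≤ T' ⊔ B) ⟨hdL, hd⟩)
    · exact sup_le inf_le_left le_sup_left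
  have hT'norm : T' ≤ normalizer (B : Set S) := inf_le_right.trans hDB
  have hf1 : Nat.card L * Nat.card ↥(T' ⊓ B) = Nat.card T' * Nat.card B := by
    have := card_sup_mul_card_inf T' B hT'norm
    rwa [← hLeq] at this
  have hT'B : T' ⊓ B = B ⊓ D := by
    apply le_antisymm
    · intro y hy; exact ⟨hy.2, hy.1.2⟩
    · intro y hy; exact ⟨⟨(le_sup_left : B ≤ L) hy.1, hy.2⟩, hy.1⟩
  rw [hT'B] at hf1
  have hf2 : Nat.card L * Nat.card ↥(B₂ ⊓ B) = Nat.card B₂ * Nat.card B := by
    have := card_sup_mul_card_inf B₂ B hB₂normB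
    rwa [sup_comm] at this
  have hf3 : Nat.card ↥(B ⊓ B₂) * Nat.card T' ≤ Nat.card E * Nat.card ↥(B ⊓ D) := by
    have h1 := card_mul_card_le_sup_mul_inf (B ⊓ B₂) T'
    have h2 : Nat.card ↥((B ⊓ B₂) ⊓ T') ≤ Nat.card ↥(B ⊓ D) := by
      apply Subgroup.card_le_of_le
      intro y hy; exact ⟨hy.1.1, hy.2.2⟩
    exact h1.trans (Nat.mul_le_mul_left _ h2)
  have hcardE : Nat.card B ≤ Nat.card E := by
    have hpos : 0 < Nat.card B * Nat.card ↥(B ⊓ D) := Nat.mul_pos Nat.card_pos Nat.card_pos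
    have hinfcomm : Nat.card ↥(B₂ ⊓ B) = Nat.card ↥(B ⊓ B₂) := by rw [inf_comm]
    have key : Nat.card B * (Nat.card B * Nat.card ↥(B ⊓ D)) ≤
        Nat.card E * (Nat.card B * Nat.card ↥(B ⊓ D)) := by
      calc Nat.card B * (Nat.card B * Nat.card ↥(B ⊓ D))
          = (Nat.card B₂ * Nat.card B) * Nat.card ↥(B ⊓ D) := by rw [hB₂card]; ring
        _ = (Nat.card L * Nat.card ↥(B ⊓ B₂)) * Nat.card ↥(B ⊓ D) := by rw [← hf2, hinfcomm]
        _ = Nat.card ↥(B ⊓ B₂) * (Nat.card L * Nat.card ↥(B ⊓ D)) := by ring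
        _ = Nat.card ↥(B ⊓ B₂) * (Nat.card T' * Nat.card B) := by rw [hf1]
        _ = (Nat.card ↥(B ⊓ B₂) * Nat.card T') * Nat.card B := by ring
        _ ≤ (Nat.card E * Nat.card ↥(B ⊓ D)) * Nat.card B := Nat.mul_le_mul_right _ hf3
        _ = Nat.card E * (Nat.card B * Nat.card ↥(B ⊓ D)) := by ring
    exact Nat.le_of_mul_le_mul_right key hpos
  have hEmax : E ∈ Cfsg.maxAbelianSubgroups S :=
    ⟨hEc, fun B' hB' => (hBmax.2 B' hB').trans hcardE⟩
  have hLN : L ≤ N := sup_le hBN hB₂N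
  have hEN : E ≤ N := sup_le (inf_le_left.trans hBN) (inf_le_left.trans hLN)
  have h1 := hBbest E hEmax hEN
  have hT'E : T' ≤ E ⊓ D := le_inf le_sup_right inf_le_right
  have hBDT' : B ⊓ D ≤ T' := fun y hy => ⟨(le_sup_left : B ≤ L) hy.1, hy.2⟩
  have h2 : Nat.card T' ≤ Nat.card ↥(B ⊓ D) := (Subgroup.card_le_of_le hT'E).trans h1
  have h3 : B ⊓ D = T' := Subgroup.eq_of_le_of_card_ge hBDT' h2
  -- then L = B
  rw [← h3] at hf1
  have hpos : 0 < Nat.card ↥(B ⊓ D) := Nat.card_pos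
  have h4 : Nat.card L = Nat.card B := by
    have : Nat.card L * Nat.card ↥(B ⊓ D) = Nat.card B * Nat.card ↥(B ⊓ D) := by
      rw [hf1]; ring
    exact Nat.eq_of_mul_eq_mul_right hpos this
  have h5 : B = L := Subgroup.eq_of_le_of_card_ge le_sup_left h4.le
  apply hgn
  rw [h5]
  exact (le_sup_right : B₂ ≤ L) ⟨n, hnB, by simp [MulAut.conj_apply]⟩

end Cfsg.Agent.S3063
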