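import Mathlib
import Cfsg.Statements.S3064
import Cfsg.Agent.S0035
import Cfsg.Agent.Lib.Helper65.FrobCrit
import Cfsg.Agent.Lib.Helper65.Hall

set_option autoImplicit false
open Cfsg

universe u

namespace Cfsg.Agent.S3064

open Cfsg.Agent.Lib.Helper65
open scoped Pointwise

theorem exists_conj_mem_sylow {G : Type u} [Group G] [Finite G] {p : ℕ} [Fact p.Prime]
    (S : Sylow p G) (Q : Subgroup G) (hQ : IsPGroup p Q) :
    ∃ k : G, ∀ q ∈ Q, k⁻¹ * q * k ∈ S := by
  obtain ⟨Q', hQ'⟩ := hQ.exists_le_sylow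
  obtain ⟨k, hk⟩ := MulAction.exists_smul_eq G S Q'
  refine ⟨k, fun q hq => ?_⟩
  have h1 : q ∈ (Q' : Subgroup G) := hQ' hq
  rw [← hk, Sylow.coe_subgroup_smul, mem_conj_smul] at h1
  exact h1

theorem central_pElem_mem_sylow {G : Type u} [Group G] [Finite G] {p : ℕ} [Fact p.Prime]
    (S : Sylow p G) (z : G) (hz : z ∈ Subgroup.center G) (hzp : ∃ k : ℕ, z ^ (p ^ k) = 1) :
    z ∈ S := by
  have hn : (Subgroup.zpowers z).Normal := by
    refine ⟨fun n hn g => ?_⟩
    obtain ⟨i, rfl⟩ := Subgroup.mem_zpowers_iff.1 hn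
    have hzi : z ^ i ∈ Subgroup.center G := Subgroup.zpow_mem _ hz i
    have h1 : g * z ^ i * g⁻¹ = z ^ i := by
      rw [Subgroup.mem_center_iff] at hzi
      rw [hzi g, mul_inv_cancel_right]
    rw [h1]
    exact Subgroup.zpow_mem _ (Subgroup.mem_zpowers z) i
  have hp : IsPGroup p (Subgroup.zpowers z) := by
    obtain ⟨k, hk⟩ := hzp
    rintro ⟨w, hw⟩
    obtain ⟨i, rfl⟩ := Subgroup.mem_zpowers_iff.1 hw
    refine ⟨k, ?_⟩
    apply Subtype.ext
    show (z ^ i) ^ (p ^ k) = 1
    rw [← zpow_natCast, ← zpow_mul, mul_comm, zpow_mul, zpow_natCast, hk, one_zpow]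
  exact hp.le_sylow_of_normal S (Subgroup.mem_zpowers z)

theorem isPGroup_zpowers {G : Type u} [Group G] {p : ℕ} (z : G)
    (hzp : ∃ k : ℕ, z ^ (p ^ k) = 1) : IsPGroup p (Subgroup.zpowers z) := by
  obtain ⟨k, hk⟩ := hzp
  rintro ⟨w, hw⟩
  obtain ⟨i, rfl⟩ := Subgroup.mem_zpowers_iff.1 hw
  refine ⟨k, ?_⟩
  apply Subtype.ext
  show (z ^ i) ^ (p ^ k) = 1
  rw [← zpow_natCast, ← zpow_mul, mul_comm, zpow_mul, zpow_natCast, hk, one_zpow]

theorem zpowers_normal_of_central {G : Type u} [Group G] (z : G)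
    (hz : z ∈ Subgroup.center G) : (Subgroup.zpowers z).Normal := by
  refine ⟨fun n hn g => ?_⟩
  obtain ⟨i, rfl⟩ := Subgroup.mem_zpowers_iff.1 hn
  have hzi : z ^ i ∈ Subgroup.center G := Subgroup.zpow_mem _ hz i
  have h1 : g * z ^ i * g⁻¹ = z ^ i := by
    rw [Subgroup.mem_center_iff] at hzi
    rw [hzi g, mul_inv_cancel_right]
  rw [h1]
  exact Subgroup.zpow_mem _ (Subgroup.mem_zpowers z) i

theorem mul_central_mem_sylow {G : Type u} [Group G] [Finite G] {p : ℕ} [Fact p.Prime]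
    (S : Sylow p G) (s z : G) (hs : s ∈ S) (hz : z ∈ Subgroup.center G)
    (hp : ∃ k : ℕ, (s * z) ^ (p ^ k) = 1) : s * z ∈ S := by
  obtain ⟨k1, hk1⟩ := S.isPGroup' ⟨s, hs⟩
  have hk1' : s ^ (p ^ k1) = 1 := by
    have := congrArg Subtype.val hk1
    simpa using this
  obtain ⟨k2, hk2⟩ := hp
  have hcomm : Commute s z := by
    rw [Subgroup.mem_center_iff] at hz
    exact hz s
  have h1 : (s * z) ^ (p ^ (k1 + k2)) = 1 := by
    rw [pow_add, mul_comm, pow_mul, hk2, one_pow]
  have h2 : s ^ (p ^ (k1 + k2)) = 1 := by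
    rw [pow_add, pow_mul, hk1', one_pow]
  have h3 : z ^ (p ^ (k1 + k2)) = 1 := by
    rw [hcomm.mul_pow, h2, one_mul] at h1
    exact h1
  exact Subgroup.mul_mem _ hs (central_pElem_mem_sylow S z hz ⟨_, h3⟩)

structure Hyp {G : Type u} [Group G] (p : ℕ) [Fact p.Prime] (S : Sylow p G) (x : G) : Prop where
  mem : x ∈ S
  iso : ∀ g : G, g⁻¹ * x * g ∈ S → g⁻¹ * x * g = x
  cent : ∀ H : Subgroup G, (Nat.card H).Coprime p → (∀ h ∈ H, x * h * x⁻¹ ∈ H) →
    ∀ h ∈ H, x * h = h * x

theorem Hyp.pElem {G : Type u} [Group G] {p : ℕ} [Fact p.Prime] {S : Sylow p G} {x : G}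
    (h : Hyp p S x) : ∃ k : ℕ, x ^ (p ^ k) = 1 := by
  obtain ⟨k, hk⟩ := S.isPGroup' ⟨x, h.mem⟩
  refine ⟨k, ?_⟩
  have := congrArg Subtype.val hk
  simpa using this

theorem Hyp.subgroup {G : Type u} [Group G] [Finite G] {p : ℕ} [Fact p.Prime] {S : Sylow p G}
    {x : G} (h : Hyp p S x) (L : Subgroup G) (hxL : x ∈ L) :
    ∃ SL : Sylow p L, Hyp p SL ⟨x, hxL⟩ := by
  have hxp : ∃ k : ℕ, (⟨x, hxL⟩ : L) ^ (p ^ k) = 1 := by
    obtain ⟨k, hk⟩ := h.pElem
    refine ⟨k, ?_⟩
    apply Subtype.ext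
    simpa using hk
  obtain ⟨SL, hSL⟩ := (isPGroup_zpowers _ hxp).exists_le_sylow
  have hxSL : (⟨x, hxL⟩ : L) ∈ SL := hSL (Subgroup.mem_zpowers _)
  have hQ : IsPGroup p ((SL : Subgroup L).map L.subtype) := SL.isPGroup'.map _
  obtain ⟨k, hk⟩ := exists_conj_mem_sylow S _ hQ
  have hkx : k⁻¹ * x * k = x := h.iso k (hk x ⟨⟨x, hxL⟩, hxSL, rfl⟩)
  refine ⟨SL, hxSL, ?_, ?_⟩
  · intro l hl
    have h1 : k⁻¹ * ((l⁻¹ * ⟨x, hxL⟩ * l : L) : G) * k ∈ S := hk _ ⟨_, hl, rfl⟩
    have h2 : ((l : G) * k)⁻¹ * x * ((l : G) * k) = x := by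
      apply h.iso
      have : ((l : G) * k)⁻¹ * x * ((l : G) * k) = k⁻¹ * ((l⁻¹ * ⟨x, hxL⟩ * l : L) : G) * k := by
        simp [mul_assoc]
      rw [this]; exact h1
    apply Subtype.ext
    show ((l⁻¹ * ⟨x, hxL⟩ * l : L) : G) = x
    have h3 : ((l⁻¹ * ⟨x, hxL⟩ * l : L) : G) = (l : G)⁻¹ * x * l := by simp
    rw [h3]
    have h4 : (l : G)⁻¹ * x * l = k * (((l : G) * k)⁻¹ * x * ((l : G) * k)) * k⁻¹ := by
      group
    have h5 : x = k * x * k⁻¹ := by
      nth_rewrite 2 [← hkx]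
      group
    rw [h4, h2, ← h5]
  · intro H hH hnorm hh hhH
    have hcard : Nat.card (H.map L.subtype) = Nat.card H :=
      Subgroup.card_map_of_injective L.subtype_injective
    have h1 := h.cent (H.map L.subtype) (by rw [hcard]; exact hH) ?_ hh ⟨hh, hhH, rfl⟩
    · exact Subtype.ext h1
    · rintro _ ⟨a, ha, rfl⟩
      exact ⟨_, hnorm a ha, rfl⟩

/-- `x` centralizes the preimage of a `p'`-subgroup of the quotient by a central subgroup of
prime order. -/
theorem Hyp.cent_comap {G : Type u} [Group G] [Finite G] {p : ℕ} [Fact p.Prime] {S : Sylow p G}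
    {x : G} (h : Hyp p S x) (y : G) (hy : y ∈ Subgroup.center G) (r : ℕ) (hr : r.Prime)
    (hyr : orderOf y = r) [hn : (Subgroup.zpowers y).Normal]
    (Hbar : Subgroup (G ⧸ Subgroup.zpowers y)) (hHbar : (Nat.card Hbar).Coprime p)
    (hnorm : ∀ a ∈ Hbar, (QuotientGroup.mk' (Subgroup.zpowers y) x) * a *
      (QuotientGroup.mk' (Subgroup.zpowers y) x)⁻¹ ∈ Hbar) :
    ∀ a ∈ Hbar.comap (QuotientGroup.mk' (Subgroup.zpowers y)), x * a = a * x := by
  set Z := Subgroup.zpowers y with hZ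
  set H := Hbar.comap (QuotientGroup.mk' Z) with hH
  have hcardZ : Nat.card Z = r := by rw [hZ, Nat.card_zpowers, hyr]
  have hcardH : Nat.card H = r * Nat.card Hbar := by
    rw [hH, card_comap_mk'_eq, hcardZ]
  have hZc : ∀ z ∈ Z, ∀ g : G, g * z = z * g := by
    intro z hz g
    obtain ⟨i, rfl⟩ := Subgroup.mem_zpowers_iff.1 hz
    have hzi : y ^ i ∈ Subgroup.center G := Subgroup.zpow_mem _ hy i
    rw [Subgroup.mem_center_iff] at hzi
    exact hzi g
  have hxH : ∀ a ∈ H, x * a * x⁻¹ ∈ H := by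
    intro a ha
    rw [hH, Subgroup.mem_comap] at ha ⊢
    have := hnorm _ ha
    simpa using this
  by_cases hrp : r = p
  · -- Schur–Zassenhaus
    have hZH : Z ≤ H := by
      intro z hz
      rw [hH, Subgroup.mem_comap]
      have : (QuotientGroup.mk' Z) z = 1 := by
        rw [QuotientGroup.mk'_apply, QuotientGroup.eq_one_iff]; exact hz
      rw [this]; exact Subgroup.one_mem _
    have : (Z.subgroupOf H).Normal := inferInstance
    have hc1 : Nat.card (Z.subgroupOf H) = r := by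
      rw [← hcardZ]
      exact Nat.card_congr (Subgroup.subgroupOfEquivOfLe hZH).toEquiv
    have hidx : (Z.subgroupOf H).index = Nat.card Hbar := by
      have h1 := (Z.subgroupOf H).card_mul_index
      rw [hc1, hcardH] at h1
      exact Nat.eq_of_mul_eq_mul_left hr.pos h1
    have hcop : Nat.Coprime (Nat.card (Z.subgroupOf H)) (Z.subgroupOf H).index := by
      rw [hc1, hidx, hrp]
      exact hHbar.symm
    obtain ⟨K₀, hK₀⟩ := Subgroup.exists_right_complement'_of_coprime hcop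
    have hcK₀ : Nat.card K₀ = Nat.card Hbar := by
      have h1 := hK₀.card_mul_card
      rw [hc1, hcardH] at h1
      exact Nat.eq_of_mul_eq_mul_left hr.pos h1
    set K := K₀.map H.subtype with hK
    have hcK : Nat.card K = Nat.card Hbar := by
      rw [hK, Subgroup.card_map_of_injective H.subtype_injective, hcK₀]
    -- decomposition
    have hdec : ∀ a ∈ H, ∃ z ∈ Z, ∃ k ∈ K, a = z * k := by
      intro a ha
      obtain ⟨⟨z', k'⟩, hzk⟩ := hK₀.2 ⟨a, ha⟩
      refine ⟨z'.1.1, z'.2, k'.1.1, ⟨k'.1, k'.2, rfl⟩, ?_⟩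
      have := congrArg Subtype.val hzk
      simpa using this.symm
    have hKpow : ∀ k ∈ K, k ^ Nat.card Hbar = 1 := by
      intro k hk
      have : (⟨k, hk⟩ : K) ^ Nat.card K = 1 := pow_card_eq_one'
      rw [hcK] at this
      have := congrArg Subtype.val this
      simpa using this
    have hKchar : ∀ a ∈ H, a ^ Nat.card Hbar = 1 → a ∈ K := by
      intro a ha hpow
      obtain ⟨z, hz, k, hk, rfl⟩ := hdec a ha
      have hcomm : Commute z k := (hZc z hz k).symm
      rw [hcomm.mul_pow, hKpow k hk, mul_one] at hpow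
      have hzr : z ^ r = 1 := by
        have : (⟨z, hz⟩ : Z) ^ Nat.card Z = 1 := pow_card_eq_one'
        rw [hcardZ] at this
        have := congrArg Subtype.val this
        simpa using this
      have h1 : orderOf z ∣ Nat.card Hbar := orderOf_dvd_of_pow_eq_one hpow
      have h2 : orderOf z ∣ r := orderOf_dvd_of_pow_eq_one hzr
      have h3 : orderOf z ∣ Nat.gcd (Nat.card Hbar) r := Nat.dvd_gcd h1 h2
      rw [hrp, Nat.Coprime.gcd_eq_one hHbar, Nat.dvd_one, orderOf_eq_one_iff] at h3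
      rw [h3, one_mul]; exact hk
    have hKH : K ≤ H := by
      rintro _ ⟨a, _, rfl⟩
      exact a.2
    have hxK : ∀ k ∈ K, x * k * x⁻¹ ∈ K := by
      intro k hk
      apply hKchar _ (hxH k (hKH hk))
      rw [conj_pow, hKpow k hk, mul_one, mul_inv_cancel]
    have hcentK := h.cent K (by rw [hcK]; exact hHbar) hxK
    intro a ha
    obtain ⟨z, hz, k, hk, rfl⟩ := hdec a ha
    rw [← mul_assoc, hZc z hz x, mul_assoc, hcentK k hk, mul_assoc]
  · have hcop : (Nat.card H).Coprime p := by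
      rw [hcardH]
      apply Nat.Coprime.mul_left _ hHbar
      rw [Nat.coprime_primes hr (Fact.out : p.Prime)]
      exact hrp
    exact h.cent H hcop hxH

theorem mem_mapSurjective_iff {G : Type u} [Group G] [Finite G] {p : ℕ} [Fact p.Prime]
    (S : Sylow p G) {G' : Type u} [Group G'] {f : G →* G'} (hf : Function.Surjective f) (a : G') :
    a ∈ S.mapSurjective hf ↔ ∃ s ∈ S, f s = a := Iff.rfl

theorem Hyp.quotient {G : Type u} [Group G] [Finite G] {p : ℕ} [Fact p.Prime] {S : Sylow p G}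
    {x : G} (h : Hyp p S x) (y : G) (hy : y ∈ Subgroup.center G) (r : ℕ) (hr : r.Prime)
    (hyr : orderOf y = r) [hn : (Subgroup.zpowers y).Normal] :
    Hyp p (S.mapSurjective (QuotientGroup.mk'_surjective (Subgroup.zpowers y)))
      (QuotientGroup.mk' (Subgroup.zpowers y) x) := by
  have hZc : ∀ z ∈ Subgroup.zpowers y, z ∈ Subgroup.center G := by
    intro z hz
    obtain ⟨i, rfl⟩ := Subgroup.mem_zpowers_iff.1 hz
    exact Subgroup.zpow_mem _ hy i
  refine ⟨?_, ?_, ?_⟩
  · exact (mem_mapSurjective_iff S _ _).2 ⟨x, h.mem, rfl⟩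
  · intro gbar hg
    obtain ⟨g, rfl⟩ := QuotientGroup.mk'_surjective (Subgroup.zpowers y) gbar
    have hg' : (QuotientGroup.mk' (Subgroup.zpowers y)) (g⁻¹ * x * g) ∈
        S.mapSurjective (QuotientGroup.mk'_surjective (Subgroup.zpowers y)) := by
      rw [map_mul, map_mul, map_inv]; exact hg
    obtain ⟨s, hs, hsg⟩ := (mem_mapSurjective_iff S _ _).1 hg'
    have hz : s⁻¹ * (g⁻¹ * x * g) ∈ Subgroup.zpowers y := by
      rw [QuotientGroup.mk'_apply, QuotientGroup.mk'_apply] at hsg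
      exact QuotientGroup.eq.1 hsg
    have heq : g⁻¹ * x * g = s * (s⁻¹ * (g⁻¹ * x * g)) := by group
    have hmem : g⁻¹ * x * g ∈ S := by
      rw [heq]
      apply mul_central_mem_sylow S s _ hs (hZc _ hz)
      rw [← heq]
      obtain ⟨k, hk⟩ := h.pElem
      refine ⟨k, ?_⟩
      have : g⁻¹ * x * g = g⁻¹ * x * g⁻¹⁻¹ := by rw [inv_inv]
      rw [this, conj_pow, hk, mul_one, mul_inv_cancel]
    have := h.iso g hmem
    have h2 : (QuotientGroup.mk' (Subgroup.zpowers y)) (g⁻¹ * x * g) =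
        (QuotientGroup.mk' (Subgroup.zpowers y)) x := by rw [this]
    simpa using h2
  · intro Hbar hHbar hnorm a ha
    obtain ⟨a, rfl⟩ := QuotientGroup.mk'_surjective (Subgroup.zpowers y) a
    have := h.cent_comap y hy r hr hyr Hbar hHbar hnorm a (by rw [Subgroup.mem_comap]; exact ha)
    rw [← map_mul, ← map_mul, this]

theorem Hyp.centralizer_eq_top_of_frob {G : Type u} [Group G] [Finite G] {p : ℕ} [Fact p.Prime]
    {S : Sylow p G} {x : G} (h : Hyp p S x)
    (hSC : (S : Subgroup G) ≤ Subgroup.centralizer {x})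
    (hF : IsFrobeniusComplement (Subgroup.centralizer ({x} : Set G))) : False := by
  obtain ⟨N, _, hNn, hNc⟩ := Cfsg.Agent.S0035.result _ hF
  have h1 : (Subgroup.centralizer ({x} : Set G)).index = Nat.card N := hNc.index_eq_card
  have h2 : (Subgroup.centralizer ({x} : Set G)).index ∣ (S : Subgroup G).index :=
    Subgroup.index_dvd_of_le hSC
  have h3 : ¬ p ∣ (S : Subgroup G).index := S.not_dvd_index
  have hcop : (Nat.card N).Coprime p := by
    rw [Nat.coprime_comm, (Fact.out : p.Prime).coprime_iff_not_dvd]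
    intro hd
    rw [← h1] at hd
    exact h3 (dvd_trans hd h2)
  have hcent := h.cent N hcop (fun n hn => hNn.conj_mem n hn x)
  have hNC : N ≤ Subgroup.centralizer ({x} : Set G) := by
    intro n hn
    rw [Subgroup.mem_centralizer_iff]
    intro a ha
    rw [Set.mem_singleton_iff.1 ha]
    exact hcent n hn
  have hNbot : N = ⊥ := hNc.disjoint.eq_bot_of_le hNC
  rw [hNbot, Subgroup.isComplement'_bot_left] at hNc
  exact hF.2.1 hNc

theorem mem_centralizer_singleton_iff {G : Type u} [Group G] (x g : G) :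
    g ∈ Subgroup.centralizer ({x} : Set G) ↔ g⁻¹ * x * g = x := by
  rw [Subgroup.mem_centralizer_iff]
  constructor
  · intro h
    rw [mul_assoc, h x rfl, inv_mul_cancel_left]
  · intro h a ha
    rw [Set.mem_singleton_iff.1 ha]
    nth_rewrite 2 [← h]
    group

theorem main : ∀ (n : ℕ) (G : Type u) [Group G] [Finite G] (p : ℕ) [Fact p.Prime]
    (S : Sylow p G) (x : G), Nat.card G = n → Hyp p S x → ∀ g : G, g⁻¹ * x * g = x := by
  intro n
  induction n using Nat.strong_induction_on with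
  | _ n ih =>
  intro G _ _ p _ S x hn h
  by_contra hcon
  simp only [not_forall] at hcon
  obtain ⟨g₀, hg₀⟩ := hcon
  have hSC : (S : Subgroup G) ≤ Subgroup.centralizer ({x} : Set G) := by
    intro s hs
    rw [mem_centralizer_singleton_iff]
    apply h.iso
    exact Subgroup.mul_mem _ (Subgroup.mul_mem _ (Subgroup.inv_mem _ hs) h.mem) hs
  have hx1 : x ≠ 1 := by
    intro hx1
    apply hg₀
    rw [hx1]; group
  apply h.centralizer_eq_top_of_frob hSC
  refine ⟨?_, ?_, ?_⟩
  · intro hbot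
    have : x ∈ Subgroup.centralizer ({x} : Set G) := by
      rw [mem_centralizer_singleton_iff]; group
    rw [hbot, Subgroup.mem_bot] at this
    exact hx1 this
  · intro htop
    have : g₀ ∈ Subgroup.centralizer ({x} : Set G) := by rw [htop]; exact Subgroup.mem_top _
    rw [mem_centralizer_singleton_iff] at this
    exact hg₀ this
  · intro g hg
    rw [eq_bot_iff]
    rintro y₀ ⟨hy1, hy2⟩
    rw [Subgroup.mem_bot]
    by_contra hy₀
    apply hg
    rw [mem_centralizer_singleton_iff]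
    -- reduce to prime order
    have ho : orderOf y₀ ≠ 1 := by
      rw [Ne, orderOf_eq_one_iff]; exact hy₀
    obtain ⟨r, hr, hrd⟩ := Nat.exists_prime_and_dvd ho
    obtain ⟨y, hyr, hyC, hyC'⟩ : ∃ y : G, orderOf y = r ∧
        y ∈ Subgroup.centralizer ({x} : Set G) ∧ g⁻¹ * y * g ∈ Subgroup.centralizer ({x} : Set G) := by
      refine ⟨y₀ ^ (orderOf y₀ / r), orderOf_pow_orderOf_div (orderOf_pos y₀).ne' hrd,
        Subgroup.pow_mem _ hy1 _, ?_⟩
      have : y₀ ^ (orderOf y₀ / r) ∈ MulAut.conj g • Subgroup.centralizer ({x} : Set G) :=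
        Subgroup.pow_mem _ hy2 _
      rw [mem_conj_smul] at this
      exact this
    -- y commutes with x and with x' = g x g⁻¹
    have hyx : x * y = y * x := by
      rw [Subgroup.mem_centralizer_iff] at hyC
      exact hyC x rfl
    have hyx' : (g * x * g⁻¹) * y = y * (g * x * g⁻¹) := by
      rw [Subgroup.mem_centralizer_iff] at hyC'
      have := hyC' x rfl
      have h1 : (g * x * g⁻¹) * y = g * (x * (g⁻¹ * y * g)) * g⁻¹ := by group
      rw [h1, this]; group
    by_cases hL : Subgroup.centralizer ({y} : Set G) = ⊤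
    · -- y is central
      have hyc : y ∈ Subgroup.center G := by
        rw [Subgroup.mem_center_iff]
        intro a
        have : a ∈ Subgroup.centralizer ({y} : Set G) := by rw [hL]; exact Subgroup.mem_top _
        rw [Subgroup.mem_centralizer_iff] at this
        exact (this y rfl).symm
      have := zpowers_normal_of_central y hyc
      have hq := h.quotient y hyc r hr hyr
      have hlt : Nat.card (G ⧸ Subgroup.zpowers y) < n := by
        have h1 := (Subgroup.zpowers y).card_eq_card_quotient_mul_card_subgroup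
        rw [Nat.card_zpowers, hyr, hn] at h1
        have h2 : 0 < Nat.card (G ⧸ Subgroup.zpowers y) := Nat.card_pos
        have h3 := hr.two_le
        nlinarith
      have h1 := ih _ hlt (G ⧸ Subgroup.zpowers y) p _ _ rfl hq
        (QuotientGroup.mk' (Subgroup.zpowers y) g)
      rw [← map_inv, ← map_mul, ← map_mul, QuotientGroup.mk'_apply, QuotientGroup.mk'_apply] at h1
      have hz : x⁻¹ * (g⁻¹ * x * g) ∈ Subgroup.zpowers y := QuotientGroup.eq.1 h1.symm
      have hzc : x⁻¹ * (g⁻¹ * x * g) ∈ Subgroup.center G := by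
        obtain ⟨i, hi⟩ := Subgroup.mem_zpowers_iff.1 hz
        rw [← hi]
        exact Subgroup.zpow_mem _ hyc i
      have heq : g⁻¹ * x * g = x * (x⁻¹ * (g⁻¹ * x * g)) := by group
      apply h.iso
      rw [heq]
      apply mul_central_mem_sylow S x _ h.mem hzc
      rw [← heq]
      obtain ⟨k, hk⟩ := h.pElem
      refine ⟨k, ?_⟩
      have : g⁻¹ * x * g = g⁻¹ * x * g⁻¹⁻¹ := by rw [inv_inv]
      rw [this, conj_pow, hk, mul_one, mul_inv_cancel]
    · -- L proper
      set L := Subgroup.centralizer ({y} : Set G) with hLdef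
      have hxL : x ∈ L := by
        rw [hLdef, Subgroup.mem_centralizer_iff]
        intro a ha
        rw [Set.mem_singleton_iff.1 ha]
        exact hyx.symm
      have hx'L : g * x * g⁻¹ ∈ L := by
        rw [hLdef, Subgroup.mem_centralizer_iff]
        intro a ha
        rw [Set.mem_singleton_iff.1 ha]
        exact hyx'.symm
      have hlt : Nat.card L < n := by
        rw [← hn]
        exact lt_of_le_of_ne (Subgroup.card_le_card_group L)
          (fun hc => hL ((Subgroup.card_eq_iff_eq_top L).1 hc))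
      obtain ⟨SL, hSL⟩ := h.subgroup L hxL
      have h1 := ih _ hlt L p SL ⟨x, hxL⟩ rfl hSL ⟨g * x * g⁻¹, hx'L⟩
      have h2 : (g * x * g⁻¹)⁻¹ * x * (g * x * g⁻¹) = x := by
        have := congrArg Subtype.val h1
        simpa using this
      -- x' ∈ C
      have hx'C : g * x * g⁻¹ ∈ Subgroup.centralizer ({x} : Set G) := by
        rw [mem_centralizer_singleton_iff]; exact h2
      -- conjugate x' into S inside C
      have hx'p : ∃ k : ℕ, (⟨g * x * g⁻¹, hx'C⟩ : Subgroup.centralizer ({x} : Set G)) ^ (p ^ k)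
          = 1 := by
        obtain ⟨k, hk⟩ := h.pElem
        refine ⟨k, ?_⟩
        apply Subtype.ext
        show (g * x * g⁻¹) ^ (p ^ k) = 1
        rw [conj_pow, hk, mul_one, mul_inv_cancel]
      obtain ⟨c, hc⟩ := exists_conj_mem_sylow (S.subtype hSC) _ (isPGroup_zpowers _ hx'p)
      have hc1 := hc _ (Subgroup.mem_zpowers _)
      have hc2 : (c : G)⁻¹ * (g * x * g⁻¹) * c ∈ S := by
        have : (c⁻¹ * ⟨g * x * g⁻¹, hx'C⟩ * c : Subgroup.centralizer ({x} : Set G)) ∈
            (S : Subgroup G).subgroupOf (Subgroup.centralizer ({x} : Set G)) := hc1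
        have h' := Subgroup.mem_subgroupOf.1 this
        have e : ((c⁻¹ * ⟨g * x * g⁻¹, hx'C⟩ * c : Subgroup.centralizer ({x} : Set G)) : G) =
            (c : G)⁻¹ * (g * x * g⁻¹) * c := by simp
        rw [e] at h'
        exact h'
      have hc3 : (g⁻¹ * c)⁻¹ * x * (g⁻¹ * c) = x := by
        apply h.iso
        have : (g⁻¹ * c)⁻¹ * x * (g⁻¹ * c) = (c : G)⁻¹ * (g * x * g⁻¹) * c := by group
        rw [this]; exact hc2
      have hcC : (c : G)⁻¹ * x * c = x := (mem_centralizer_singleton_iff x c).1 c.2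
      -- g x g⁻¹ = c x c⁻¹ = x
      have h5 : g * x * g⁻¹ = x := by
        have e1 : g * x * g⁻¹ = (c : G) * ((g⁻¹ * c)⁻¹ * x * (g⁻¹ * c)) * (c : G)⁻¹ := by group
        calc g * x * g⁻¹ = (c : G) * ((g⁻¹ * c)⁻¹ * x * (g⁻¹ * c)) * (c : G)⁻¹ := e1
          _ = (c : G) * x * (c : G)⁻¹ := by rw [hc3]
          _ = (c : G) * ((c : G)⁻¹ * x * c) * (c : G)⁻¹ := by rw [hcC]
          _ = x := by group
      have e3 : g⁻¹ * x * g = g⁻¹ * (g * x * g⁻¹) * g := by rw [h5]
      rw [e3]; group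

theorem result {G : Type*} [Group G] [Finite G] {p : ℕ} [Fact p.Prime]
    (S : Sylow p G) (x : G) (hx : x ∈ S)
    (hU : ∀ g : G, g⁻¹ * x * g ∈ S → g⁻¹ * x * g = x)
    (hb : ∀ H : Subgroup G, (Nat.card H).Coprime p → (∀ h ∈ H, x * h * x⁻¹ ∈ H) → ∀ h ∈ H, x * h = h * x) :
    x ∈ Subgroup.center G := by
  rw [Subgroup.mem_center_iff]
  intro g
  have := main _ G p S x rfl ⟨hx, hU, hb⟩ g
  calc g * x = g * (g⁻¹ * x * g) := by rw [this]
    _ = x * g := by group

end Cfsg.Agent.S3064
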