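import Cfsg.Statements.S3069
import Mathlib
import Cfsg.Prelude.Def_Transfer
import Cfsg.Agent.S1991

set_option autoImplicit false
open Cfsg

namespace Cfsg.Agent.S3069

open Cfsg

/-- a normal subgroup of index `p` contains `O^p(G)`, which is therefore proper -/
theorem pResidual_ne_top_of_index {G : Type*} [Group G] [Finite G] {p : ℕ} [hp : Fact p.Prime]
    (h : ∃ N : Subgroup G, N.Normal ∧ N.index = p) : Cfsg.pResidual p G ≠ ⊤ := by
  obtain ⟨N, hN, hidx⟩ := h
  have hle : Cfsg.pResidual p G ≤ N := by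
    unfold Cfsg.pResidual
    rw [Subgroup.closure_le]
    intro g hg
    have hg' : Nat.Coprime (orderOf g) p := hg
    -- `g ^ p ∈ N` since `G/N` has order `p`
    have h1 : g ^ p ∈ N := by
      have : (QuotientGroup.mk g : G ⧸ N) ^ Nat.card (G ⧸ N) = 1 := pow_card_eq_one'
      rw [← Subgroup.index_eq_card, hidx, ← QuotientGroup.mk_pow] at this
      exact (QuotientGroup.eq_one_iff _).mp this
    have h2 : g ^ orderOf g ∈ N := by rw [pow_orderOf_eq_one]; exact N.one_mem
    -- Bezout
    have h3 : g ^ ((orderOf g).gcd p : ℤ) ∈ N := by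
      rw [Nat.gcd_eq_gcd_ab, zpow_add, zpow_mul, zpow_mul, zpow_natCast, zpow_natCast]
      exact N.mul_mem (N.zpow_mem h2 _) (N.zpow_mem h1 _)
    rw [hg'] at h3
    simpa using h3
  intro htop
  rw [htop, top_le_iff] at hle
  rw [hle, Subgroup.index_top] at hidx
  exact hp.out.one_lt.ne hidx


/-- Let p ≥ 7 be a prime and S a nontrivial Sylow p-subgroup of the finite group G. If N_G(S)/C_G(S) is a p-group (every element of N_G(S) of order prime to p centralizes S), then O^p(G) < G, i.e. G has a nontrivial p-factor group. -/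
theorem result {G : Type*} [Group G] [Finite G] {p : ℕ} [Fact p.Prime]
    (hp : 7 ≤ p) (S : Sylow p G) (hS : (S : Subgroup G) ≠ ⊥)
    (hN : ∀ g ∈ Subgroup.normalizer ((S : Subgroup G) : Set G), (orderOf g).Coprime p →
      g ∈ Subgroup.centralizer ((S : Subgroup G) : Set G)) :
    Cfsg.pResidual p G ≠ ⊤ := by
  exact pResidual_ne_top_of_index (Cfsg.Agent.S1991.result (by omega) S hS hN)

end Cfsg.Agent.S3069
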