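import Mathlib
import Cfsg.Statements.S3075
-- import your own Cfsg.Agent.* helpers here

set_option autoImplicit false
open Cfsg

namespace Cfsg.Agent.S3075


open Subgroup

section SL
variable {F : Type*} [Field F]

theorem sl_neg_one_central (u : Matrix.SpecialLinearGroup (Fin 2) F) :
    (-1 : Matrix.SpecialLinearGroup (Fin 2) F) * u = u * (-1) := by
  ext i j
  simp [Matrix.SpecialLinearGroup.coe_neg]

theorem sl_neg_one_sq : (-1 : Matrix.SpecialLinearGroup (Fin 2) F) * (-1) = 1 := by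
  ext i j
  simp

theorem sl_neg_one_ne_one (h2 : (2 : F) ≠ 0) : (-1 : Matrix.SpecialLinearGroup (Fin 2) F) ≠ 1 := by
  intro h
  have h1 := congrArg (fun m : Matrix.SpecialLinearGroup (Fin 2) F => (m : Matrix (Fin 2) (Fin 2) F) 0 0) h
  simp [Matrix.SpecialLinearGroup.coe_neg] at h1
  apply h2
  have : (2 : F) = 1 - (-1) := by ring
  rw [this, h1]; ring

theorem sl_not_comm : ¬ ∀ u v : Matrix.SpecialLinearGroup (Fin 2) F, u * v = v * u := by
  intro h
  let u : Matrix.SpecialLinearGroup (Fin 2) F := ⟨!![1, 1; 0, 1], by simp [Matrix.det_fin_two]⟩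
  let v : Matrix.SpecialLinearGroup (Fin 2) F := ⟨!![1, 0; 1, 1], by simp [Matrix.det_fin_two]⟩
  have h1 : ((u * v : Matrix.SpecialLinearGroup (Fin 2) F) : Matrix (Fin 2) (Fin 2) F) 0 0
      = ((v * u : Matrix.SpecialLinearGroup (Fin 2) F) : Matrix (Fin 2) (Fin 2) F) 0 0 := by
    rw [h u v]
  rw [Matrix.SpecialLinearGroup.coe_mul, Matrix.SpecialLinearGroup.coe_mul] at h1
  have hu : (u : Matrix (Fin 2) (Fin 2) F) = !![1, 1; 0, 1] := rfl
  have hv : (v : Matrix (Fin 2) (Fin 2) F) = !![1, 0; 1, 1] := rfl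
  rw [hu, hv] at h1
  simp [Matrix.mul_apply, Fin.sum_univ_two] at h1

end SL

section Grp
variable {N : Type*} [Group N]

theorem conj_eq_zpow_of_cyclic_normal (C : Subgroup N) [hC : C.Normal] [hc : IsCyclic C] (g : N) :
    ∃ m : ℤ, ∀ x ∈ C, g * x * g⁻¹ = x ^ m := by
  obtain ⟨⟨c, hcC⟩, hgen⟩ := hc.exists_generator
  have hpow : ∀ x ∈ C, ∃ t : ℤ, c ^ t = x := by
    intro x hx
    obtain ⟨t, ht⟩ := Subgroup.mem_zpowers_iff.mp (hgen ⟨x, hx⟩)
    refine ⟨t, ?_⟩
    have := congrArg Subtype.val ht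
    simpa using this
  obtain ⟨m, hm⟩ := hpow (g * c * g⁻¹) (hC.conj_mem c hcC g)
  refine ⟨m, ?_⟩
  intro x hx
  obtain ⟨t, rfl⟩ := hpow x hx
  have h1 : g * c ^ t * g⁻¹ = (g * c * g⁻¹) ^ t := by
    exact conj_zpow.symm
  rw [h1, ← hm, ← zpow_mul, ← zpow_mul, mul_comm]

theorem conj_mul_comm_of_cyclic_normal (C : Subgroup N) [hC : C.Normal] [hc : IsCyclic C]
    (g h : N) {x : N} (hx : x ∈ C) : (g * h) * x * (g * h)⁻¹ = (h * g) * x * (h * g)⁻¹ := by
  obtain ⟨m, hm⟩ := conj_eq_zpow_of_cyclic_normal C g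
  obtain ⟨n, hn⟩ := conj_eq_zpow_of_cyclic_normal C h
  have h1 : (g * h) * x * (g * h)⁻¹ = g * (h * x * h⁻¹) * g⁻¹ := by group
  have h2 : (h * g) * x * (h * g)⁻¹ = h * (g * x * g⁻¹) * h⁻¹ := by group
  rw [h1, h2, hn x hx, hm x hx, hm _ (C.zpow_mem hx n), hn _ (C.zpow_mem hx m),
    ← zpow_mul, ← zpow_mul, mul_comm]

end Grp

theorem result' {N : Type*} [Group N] [Finite N] {p : ℕ} [Fact p.Prime] (hp : p ≠ 2)
    (A : Subgroup N) [A.Normal] (hAcomm : IsMulCommutative A) (hAcard : Nat.card A = p ^ 2) (hAexp : Monoid.exponent ↥A = p)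
    (hAself : Subgroup.centralizer (A : Set N) = A)
    {F : Type*} [Field F] [Fintype F] (hF : Fintype.card F = p) (e : N ⧸ A ≃* Matrix.SpecialLinearGroup (Fin 2) F) :
    ∃ U : Subgroup N, A ⊓ U = ⊥ ∧ A ⊔ U = ⊤ := by
  have hpp : p.Prime := Fact.out
  have hodd : Odd p := hpp.odd_of_ne_two hp
  obtain ⟨k, hk⟩ := hodd
  have hAn : A.Normal := inferInstance
  -- basic facts about A
  have hcomm : ∀ u ∈ A, ∀ v ∈ A, u * v = v * u := by
    intro u hu v hv
    exact congrArg Subtype.val (hAcomm.is_comm.comm ⟨u, hu⟩ ⟨v, hv⟩)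
  have hexp : ∀ a ∈ A, a ^ p = 1 := by
    intro a ha
    have := Monoid.pow_exponent_eq_one (⟨a, ha⟩ : A)
    rw [hAexp] at this
    exact congrArg Subtype.val this
  -- `2 ≠ 0` in `F`
  have h2F : (2 : F) ≠ 0 := by
    intro h
    have hchar : ringChar F = 2 := by
      have hdvd : ringChar F ∣ 2 := by
        have : ((2 : ℕ) : F) = 0 := by simpa using h
        exact (ringChar.spec F 2).mp this
      rcases (Nat.dvd_prime Nat.prime_two).mp hdvd with h1 | h1
      · exfalso
        have : (1 : F) = 0 := by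
          have := (ringChar.spec F 1).mpr (by rw [h1])
          simpa using this
        exact one_ne_zero this
      · exact h1
    have := FiniteField.even_card_of_char_two hchar
    rw [hF] at this
    rcases (Nat.dvd_prime hpp).mp (Nat.dvd_of_mod_eq_zero this) with h1 | h1
    · omega
    · exact hp h1.symm
  -- the central involution
  set z : Matrix.SpecialLinearGroup (Fin 2) F := -1 with hz
  set tbar : N ⧸ A := e.symm z with htbar
  have htbar_c : ∀ q : N ⧸ A, tbar * q = q * tbar := by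
    intro q
    apply e.injective
    rw [map_mul, map_mul, htbar, e.apply_symm_apply]
    exact sl_neg_one_central _
  have htbar2 : tbar * tbar = 1 := by
    apply e.injective
    rw [map_mul, map_one, htbar, e.apply_symm_apply]
    exact sl_neg_one_sq
  have htbar1 : tbar ≠ 1 := by
    intro h
    apply sl_neg_one_ne_one h2F
    have := congrArg e h
    rw [htbar, e.apply_symm_apply, map_one] at this
    exact this
  obtain ⟨t₀, ht₀⟩ := QuotientGroup.mk_surjective tbar
  set t := t₀ ^ p with ht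
  have hmkt : (QuotientGroup.mk t : N ⧸ A) = tbar := by
    rw [ht, QuotientGroup.mk_pow, ht₀, hk, pow_succ, pow_mul, pow_two, htbar2, one_pow, one_mul]
  have htt : t * t = 1 := by
    have h1 : t₀ ^ 2 ∈ A := by
      rw [← QuotientGroup.eq_one_iff, QuotientGroup.mk_pow, ht₀, pow_two, htbar2]
    have h2 := hexp _ h1
    rw [ht, ← pow_add, ← two_mul, pow_mul]
    exact h2
  have htinv : t⁻¹ = t := inv_eq_of_mul_eq_one_right htt
  have htA : t ∉ A := by
    intro h
    apply htbar1
    rw [← hmkt]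
    exact (QuotientGroup.eq_one_iff t).mpr h
  -- commutators with t lie in A
  have hcommA : ∀ n : N, n * t * n⁻¹ * t⁻¹ ∈ A := by
    intro n
    rw [← QuotientGroup.eq_one_iff]
    rw [QuotientGroup.mk_mul, QuotientGroup.mk_mul, QuotientGroup.mk_mul, QuotientGroup.mk_inv,
      QuotientGroup.mk_inv, hmkt, ← htbar_c, mul_assoc tbar, mul_inv_cancel, mul_one, mul_inv_cancel]
  -- conjugation by t commutes with conjugation by n on A
  have hconj : ∀ n : N, ∀ a ∈ A, t * (n * a * n⁻¹) * t⁻¹ = n * (t * a * t⁻¹) * n⁻¹ := by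
    intro n a ha
    set a' := n⁻¹ * t * n⁻¹⁻¹ * t⁻¹ with ha'
    have ha'A : a' ∈ A := hcommA n⁻¹
    have htn : t * n = n * a' * t := by rw [ha']; group
    have hta : t * a * t⁻¹ ∈ A := hAn.conj_mem a ha t
    have h1 : t * (n * a * n⁻¹) * t⁻¹ = (t * n) * a * (t * n)⁻¹ := by group
    rw [h1, htn]
    have h2 : (n * a' * t) * a * (n * a' * t)⁻¹ = n * (a' * (t * a * t⁻¹) * a'⁻¹) * n⁻¹ := by group
    rw [h2, hcomm a' ha'A _ hta, mul_assoc (t * a * t⁻¹), mul_inv_cancel, mul_one]
  -- the subgroups C and D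
  set C : Subgroup N := A ⊓ Subgroup.centralizer {t} with hC
  let D : Subgroup N :=
    { carrier := {a | a ∈ A ∧ t * a * t⁻¹ = a⁻¹}
      one_mem' := ⟨A.one_mem, by simp⟩
      mul_mem' := by
        rintro a b ⟨ha, hat⟩ ⟨hb, hbt⟩
        refine ⟨A.mul_mem ha hb, ?_⟩
        have : t * (a * b) * t⁻¹ = (t * a * t⁻¹) * (t * b * t⁻¹) := by group
        rw [this, hat, hbt, mul_inv_rev]
        exact hcomm _ (A.inv_mem ha) _ (A.inv_mem hb)
      inv_mem' := by
        rintro a ⟨ha, hat⟩
        refine ⟨A.inv_mem ha, ?_⟩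
        have : t * a⁻¹ * t⁻¹ = (t * a * t⁻¹)⁻¹ := by group
        rw [this, hat] }
  have hD_mem : ∀ a, a ∈ D ↔ a ∈ A ∧ t * a * t⁻¹ = a⁻¹ := fun a => Iff.rfl
  have hC_mem : ∀ a, a ∈ C ↔ a ∈ A ∧ t * a * t⁻¹ = a := by
    intro a
    rw [hC, Subgroup.mem_inf, Subgroup.mem_centralizer_iff]
    constructor
    · rintro ⟨ha, h⟩
      refine ⟨ha, ?_⟩
      rw [h t (Set.mem_singleton t), mul_assoc, mul_inv_cancel, mul_one]
    · rintro ⟨ha, h⟩
      refine ⟨ha, ?_⟩
      intro u hu
      rw [Set.mem_singleton_iff] at hu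
      rw [hu]
      conv_rhs => rw [← h]
      group
  have hCA : C ≤ A := inf_le_left
  have hDA : D ≤ A := fun a ha => ha.1
  have hCn : C.Normal := by
    refine ⟨fun c hc n => ?_⟩
    rw [hC_mem] at hc ⊢
    refine ⟨hAn.conj_mem c hc.1 n, ?_⟩
    rw [hconj n c hc.1, hc.2]
  have hDn : D.Normal := by
    refine ⟨fun c hc n => ?_⟩
    rw [hD_mem] at hc ⊢
    refine ⟨hAn.conj_mem c hc.1 n, ?_⟩
    rw [hconj n c hc.1, hc.2]
    group
  have hCD : C ⊓ D = ⊥ := by
    rw [eq_bot_iff]
    intro a ha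
    obtain ⟨haC, haD⟩ := Subgroup.mem_inf.mp ha
    rw [hC_mem] at haC
    rw [hD_mem] at haD
    have h1 : a = a⁻¹ := haC.2.symm.trans haD.2
    have h2 : a ^ 2 = 1 := by
      rw [pow_two]
      have : a * a = a⁻¹ * a := congrArg (· * a) h1
      rw [this]
      exact inv_mul_cancel a
    have h3 : a ^ p = 1 := hexp a haC.1
    rw [Subgroup.mem_bot]
    have : a = a ^ p * (a ^ 2)⁻¹ ^ k := by
      rw [hk, inv_pow, ← pow_mul, pow_succ]
      group
    rw [this, h3, h2]
    simp
  -- every element of A lies in C ⊔ D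
  have hAle : A ≤ C ⊔ D := by
    intro a ha
    have hta : t * a * t⁻¹ ∈ A := hAn.conj_mem a ha t
    have hta' : t * a⁻¹ * t⁻¹ ∈ A := hAn.conj_mem _ (A.inv_mem ha) t
    have hc : a * (t * a * t⁻¹) ∈ C := by
      rw [hC_mem]
      refine ⟨A.mul_mem ha hta, ?_⟩
      have : t * (a * (t * a * t⁻¹)) * t⁻¹ = (t * a * t⁻¹) * ((t * t) * a * (t * t)⁻¹) := by group
      rw [this, htt]
      simp only [one_mul, inv_one, mul_one]
      exact hcomm _ hta _ ha
    have hd : a * (t * a⁻¹ * t⁻¹) ∈ D := by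
      rw [hD_mem]
      refine ⟨A.mul_mem ha hta', ?_⟩
      have : t * (a * (t * a⁻¹ * t⁻¹)) * t⁻¹ = (t * a * t⁻¹) * ((t * t) * a⁻¹ * (t * t)⁻¹) := by group
      rw [this, htt]
      simp only [one_mul, inv_one, mul_one]
      group
    have hsq : a ^ 2 ∈ C ⊔ D := by
      have : a ^ 2 = (a * (t * a * t⁻¹)) * (a * (t * a⁻¹ * t⁻¹)) := by
        have h1 : (a * (t * a * t⁻¹)) * (a * (t * a⁻¹ * t⁻¹))
            = a * ((t * a * t⁻¹) * a) * (t * a⁻¹ * t⁻¹) := by group
        rw [h1, hcomm _ hta _ ha, pow_two]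
        group
      rw [this]
      exact Subgroup.mul_mem_sup hc hd
    have h3 : a ^ p = 1 := hexp a ha
    have : a = a ^ p * ((a ^ 2) ^ k)⁻¹ := by
      rw [hk, ← pow_mul, pow_succ]
      group
    have h4 : a⁻¹ ∈ C ⊔ D := by
      have : a⁻¹ = (a ^ 2) ^ k * (a ^ p)⁻¹ := by
        rw [hk, ← pow_mul, pow_succ]
        group
      rw [this, h3, inv_one, mul_one]
      exact Subgroup.pow_mem _ hsq k
    simpa using Subgroup.inv_mem _ h4
  -- key claim: C = ⊥
  have hCbot : C = ⊥ := by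
    by_contra hCne
    have hDne : D ≠ ⊥ := by
      intro hD
      rw [hD, sup_bot_eq] at hAle
      apply htA
      rw [← hAself, Subgroup.mem_centralizer_iff]
      intro a ha
      have := ((hC_mem a).mp (hAle ha)).2
      conv_lhs => rw [← this]
      group
    have hCneA : C ≠ A := by
      intro h
      apply hDne
      rw [← hCD, h]
      exact (inf_eq_right.mpr hDA).symm
    have hDneA : D ≠ A := by
      intro h
      apply hCne
      rw [← hCD, h]
      exact (inf_eq_left.mpr hCA).symm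
    have hcardp : ∀ X : Subgroup N, X ≤ A → X ≠ ⊥ → X ≠ A → Nat.card X = p := by
      intro X hXA hX1 hX2
      have hdvd : Nat.card X ∣ p ^ 2 := by
        rw [← hAcard]; exact Subgroup.card_dvd_of_le hXA
      obtain ⟨j, hj, hjc⟩ := (Nat.dvd_prime_pow hpp).mp hdvd
      interval_cases j
      · exfalso
        apply hX1
        rw [pow_zero] at hjc
        exact Subgroup.card_eq_one.mp hjc
      · rw [hjc, pow_one]
      · exfalso
        apply hX2
        apply Subgroup.eq_of_le_of_card_ge hXA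
        rw [hjc, hAcard]
    have hCc : IsCyclic C := by
      have : Fact (Nat.card C).Prime := ⟨by rw [hcardp C hCA hCne hCneA]; exact hpp⟩
      exact isCyclic_of_prime_card rfl
    have hDc : IsCyclic D := by
      have : Fact (Nat.card D).Prime := ⟨by rw [hcardp D hDA hDne hDneA]; exact hpp⟩
      exact isCyclic_of_prime_card rfl
    -- N/A is commutative
    have hQcomm : ∀ q r : N ⧸ A, q * r = r * q := by
      intro q r
      obtain ⟨g, rfl⟩ := QuotientGroup.mk_surjective q
      obtain ⟨h, rfl⟩ := QuotientGroup.mk_surjective r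
      rw [← QuotientGroup.mk_mul, ← QuotientGroup.mk_mul, QuotientGroup.eq]
      -- (g*h)⁻¹ * (h*g) centralizes A
      rw [← hAself, Subgroup.mem_centralizer_iff]
      have keyX : ∀ X : Subgroup N, X.Normal → IsCyclic X →
          X ≤ Subgroup.centralizer {(g * h)⁻¹ * (h * g)} := by
        intro X hXn hXc x hx
        rw [Subgroup.mem_centralizer_iff]
        intro u hu
        rw [Set.mem_singleton_iff] at hu
        rw [hu]
        have := conj_mul_comm_of_cyclic_normal X g h hx
        have h2 : x * ((g * h)⁻¹ * (h * g)) = (g * h)⁻¹ * ((g * h) * x * (g * h)⁻¹) * (h * g) := by group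
        rw [h2, this]; group
      have key : ∀ x ∈ C ⊔ D, x * ((g * h)⁻¹ * (h * g)) = ((g * h)⁻¹ * (h * g)) * x := by
        intro x hx
        have h1 : C ⊔ D ≤ Subgroup.centralizer {(g * h)⁻¹ * (h * g)} :=
          sup_le (keyX C hCn hCc) (keyX D hDn hDc)
        have := Subgroup.mem_centralizer_iff.mp (h1 hx) _ (Set.mem_singleton _)
        exact this.symm
      intro a ha
      exact key a (hAle ha)
    apply sl_not_comm (F := F)
    intro u v
    have := hQcomm (e.symm u) (e.symm v)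
    have h2 := congrArg e this
    rwa [map_mul, map_mul, e.apply_symm_apply, e.apply_symm_apply] at h2
  -- t inverts A
  have hinv : ∀ a ∈ A, t * a * t⁻¹ = a⁻¹ := by
    intro a ha
    have hta : t * a * t⁻¹ ∈ A := hAn.conj_mem a ha t
    have hc : a * (t * a * t⁻¹) ∈ C := by
      rw [hC_mem]
      refine ⟨A.mul_mem ha hta, ?_⟩
      have : t * (a * (t * a * t⁻¹)) * t⁻¹ = (t * a * t⁻¹) * ((t * t) * a * (t * t)⁻¹) := by group
      rw [this, htt]
      simp only [one_mul, inv_one, mul_one]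
      exact hcomm _ hta _ ha
    rw [hCbot, Subgroup.mem_bot] at hc
    exact (eq_inv_of_mul_eq_one_right hc)
  refine ⟨Subgroup.centralizer {t}, ?_, ?_⟩
  · exact hCbot
  · rw [eq_top_iff]
    intro n _
    set a' := n * t * n⁻¹ * t⁻¹ with ha'
    have ha'A : a' ∈ A := hcommA n
    set b := a' ^ (k + 1) with hb
    have hbA : b ∈ A := A.pow_mem ha'A _
    have hbb : b * b = a' := by
      rw [hb, ← pow_add]
      have : k + 1 + (k + 1) = p + 1 := by omega
      rw [this, pow_succ, hexp a' ha'A, one_mul]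
    have hbt : b * t * b⁻¹ = n * t * n⁻¹ := by
      have h1 : t * b⁻¹ * t⁻¹ = b := by
        rw [hinv _ (A.inv_mem hbA), inv_inv]
      have h2 : b * t * b⁻¹ = b * (t * b⁻¹ * t⁻¹) * t := by group
      rw [h2, h1, hbb, ha']
      group
    have hcen : b⁻¹ * n ∈ Subgroup.centralizer {t} := by
      rw [Subgroup.mem_centralizer_iff]
      intro u hu
      rw [Set.mem_singleton_iff] at hu
      rw [hu]
      have : t * (b⁻¹ * n) = b⁻¹ * (b * t * b⁻¹) * n := by group
      rw [this, hbt]
      group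
    have : n = b * (b⁻¹ * n) := by group
    rw [this]
    exact Subgroup.mul_mem_sup hbA hcen


/-- Let p be an odd prime and N a finite group with a normal elementary abelian subgroup A of order p² that is its own centralizer in N, such that N/A is isomorphic to SL₂(p) (over any field F with p elements). Then N splits over A: some subgroup U of N satisfies A ∩ U = 1 and AU = N. -/
theorem result {N : Type*} [Group N] [Finite N] {p : ℕ} [Fact p.Prime] (hp : p ≠ 2)
    (A : Subgroup N) [A.Normal] (hAcomm : IsMulCommutative A) (hAcard : Nat.card A = p ^ 2) (hAexp : Monoid.exponent ↥A = p)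
    (hAself : Subgroup.centralizer (A : Set N) = A)
    {F : Type*} [Field F] [Fintype F] (hF : Fintype.card F = p) (e : N ⧸ A ≃* Matrix.SpecialLinearGroup (Fin 2) F) :
    ∃ U : Subgroup N, A ⊓ U = ⊥ ∧ A ⊔ U = ⊤ := by
  exact result' hp A hAcomm hAcard hAexp hAself hF e

end Cfsg.Agent.S3075
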