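import Mathlib
import Cfsg.Statements.S3076
import Cfsg.Agent.Lib.Helper40.Cores

set_option autoImplicit false
open Cfsg

namespace Cfsg.Agent.S3076

open Cfsg.Agent.Lib.Helper40

section abstract
variable {M : Type*} [Group M]

/-- If every element of the normal subgroup `X` has a `p`-power in the normal subgroup `L`, then `X` lies
in the preimage of `O_p(M/L)`. -/
theorem le_comap_pCore_of_pow_mem {p : ℕ} (L X : Subgroup M) [L.Normal] [X.Normal]
    (h : ∀ x ∈ X, ∃ k : ℕ, x ^ p ^ k ∈ L) :
    X ≤ (pCore p (M ⧸ L)).comap (QuotientGroup.mk' L) := by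
  rw [← Subgroup.map_le_iff_le_comap]
  apply le_pCore'
  · exact Subgroup.Normal.map inferInstance _ (QuotientGroup.mk'_surjective L)
  · rintro ⟨y, hy⟩
    obtain ⟨x, hx, rfl⟩ := Subgroup.mem_map.mp hy
    obtain ⟨k, hk⟩ := h x hx
    refine ⟨k, ?_⟩
    apply Subtype.ext
    show ((QuotientGroup.mk' L) x) ^ p ^ k = 1
    rw [← map_pow]
    exact (QuotientGroup.eq_one_iff _).mpr hk

theorem pow_mem_of_mem_comap_pCore {p : ℕ} (L : Subgroup M) [L.Normal] {x : M}
    (hx : x ∈ (pCore p (M ⧸ L)).comap (QuotientGroup.mk' L)) : ∃ k : ℕ, x ^ p ^ k ∈ L := by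
  rw [Subgroup.mem_comap] at hx
  obtain ⟨k, hk⟩ := (pCore_isPGroup' p (M ⧸ L)) ⟨_, hx⟩
  refine ⟨k, ?_⟩
  have := congrArg Subtype.val hk
  simp only [Subgroup.coe_pow, Subgroup.coe_one] at this
  rw [← map_pow] at this
  exact (QuotientGroup.eq_one_iff _).mp this

/-- An element of `H ⊔ K`, `H` a `p`-group and `K` normal, has a `p`-power in `K`. -/
theorem pow_mem_of_mem_sup {p : ℕ} (H K : Subgroup M) [K.Normal] (hH : IsPGroup p H) {c : M}
    (hc : c ∈ H ⊔ K) : ∃ j : ℕ, c ^ p ^ j ∈ K := by
  have h1 : (c : M) ∈ ((H ⊔ K : Subgroup M) : Set M) := hc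
  rw [Subgroup.mul_normal] at h1
  obtain ⟨h, hh, k, hk, rfl⟩ := Set.mem_mul.mp h1
  obtain ⟨j, hj⟩ := hH ⟨h, hh⟩
  have hj' : h ^ p ^ j = 1 := by
    have := congrArg Subtype.val hj
    simpa using this
  refine ⟨j, ?_⟩
  have hk1 : (QuotientGroup.mk' K) k = 1 := (QuotientGroup.eq_one_iff k).mpr hk
  have e : (QuotientGroup.mk' K) ((h * k) ^ p ^ j) = 1 := by
    rw [map_pow, map_mul, hk1, mul_one, ← map_pow, hj', map_one]
  exact (QuotientGroup.eq_one_iff _).mp e

theorem core [Finite M] {p : ℕ} [Fact p.Prime]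
    (S : Sylow p M) (H : Subgroup M) [H.Normal] (hHS : H ≤ (S : Subgroup M))
    (C : Subgroup M) [C.Normal] (hC : C = Subgroup.centralizer (H : Set M)) :
    H ≤ (pCore p (M ⧸ C)).comap (QuotientGroup.mk' C) ∧
    ((¬ p ∣ H.relIndex ((pCore p (M ⧸ C)).comap (QuotientGroup.mk' C))) ↔
    ((S : Subgroup M) ⊓ C ≤ H ∧ pPrimePCore p M = H ⊔ C)) := by
  classical
  have hp : p.Prime := Fact.out
  have hHp : IsPGroup p H := S.isPGroup'.to_le hHS
  set N : Subgroup M := (pCore p (M ⧸ C)).comap (QuotientGroup.mk' C) with hN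
  set K : Subgroup M := pPrimeCore p M with hK
  set R : Subgroup M := pPrimePCore p M with hR
  have hKn : K.Normal := by
    have := pPrimeCore_characteristic p M
    infer_instance
  have hRdef : R = (pCore p (M ⧸ K)).comap (QuotientGroup.mk' K) := rfl
  have hKcop : (Nat.card K).Coprime p := pPrimeCore_card_coprime' p M
  have hpowH : ∀ x ∈ H, ∃ k : ℕ, x ^ p ^ k = 1 := by
    intro x hx
    obtain ⟨k, hk⟩ := hHp ⟨x, hx⟩
    refine ⟨k, ?_⟩
    have := congrArg Subtype.val hk
    simpa using this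
  -- (A)
  have hHN : H ≤ N := by
    apply le_comap_pCore_of_pow_mem
    intro x hx
    obtain ⟨k, hk⟩ := hpowH x hx
    exact ⟨k, by rw [hk]; exact C.one_mem⟩
  have hCN : C ≤ N := by
    apply le_comap_pCore_of_pow_mem
    intro x hx
    exact ⟨0, by simpa using hx⟩
  have hHR : H ≤ R := by
    rw [hRdef]
    apply le_comap_pCore_of_pow_mem
    intro x hx
    obtain ⟨k, hk⟩ := hpowH x hx
    exact ⟨k, by rw [hk]; exact K.one_mem⟩
  have hKR : K ≤ R := pPrimeCore_le_pPrimePCore p M
  -- (B) K ≤ C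
  have hKC : K ≤ C := by
    have hdis : Disjoint H K := by
      rw [disjoint_iff]
      exact isPGroup_inf_coprime_eq_bot H K hHp hKcop
    intro k hk
    rw [hC, Subgroup.mem_centralizer_iff]
    intro h hh
    exact (Subgroup.commute_of_normal_of_disjoint H K inferInstance inferInstance hdis h k hh hk).eq
  have hRN : R ≤ N := by
    have : R.Normal := pPrimePCore_normal p M
    apply le_comap_pCore_of_pow_mem
    intro x hx
    obtain ⟨k, hk⟩ := pow_mem_of_mem_comap_pCore K hx
    exact ⟨k, hKC hk⟩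
  -- Burnside
  have hstar : (S : Subgroup M) ⊓ C ≤ H → C ≤ H ⊔ K := by
    intro hSC
    obtain ⟨T, hT⟩ := exists_sylow_map_eq_inf S C
    have hTcen : (T : Subgroup ↥C) ≤ Subgroup.center ↥C := by
      intro t ht
      rw [Subgroup.mem_center_iff]
      intro c
      have htH : (t : M) ∈ H := by
        apply hSC
        rw [← hT]
        exact ⟨t, ht, rfl⟩
      have hc : (c : M) ∈ Subgroup.centralizer (H : Set M) := by rw [← hC]; exact c.2
      rw [Subgroup.mem_centralizer_iff] at hc
      apply Subtype.ext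
      show (c : M) * (t : M) = (t : M) * (c : M)
      exact (hc (t : M) htH).symm
    have hB := pPrimeCore_sup_central_sylow' p T hTcen
    have hK0 : (pPrimeCore p ↥C).map C.subtype ≤ K := by
      have := pPrimeCore_characteristic p ↥C
      have hn : ((pPrimeCore p ↥C).map C.subtype).Normal :=
        ConjAct.normal_of_characteristic_of_normal
      apply le_pPrimeCore' _ hn
      rw [Subgroup.card_map_of_injective C.subtype_injective]
      exact pPrimeCore_card_coprime' p ↥C
    have hmap := congrArg (Subgroup.map C.subtype) hB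
    rw [Subgroup.map_sup, hT, ← MonoidHom.range_eq_map, Subgroup.range_subtype] at hmap
    rw [← hmap]
    exact sup_le_sup hSC hK0
  -- p-subgroups of N lie in H when the index is a p'-number
  have hpsub : ¬ p ∣ H.relIndex N → (S : Subgroup M) ⊓ N ≤ H := by
    intro hnd
    set D : Subgroup M := H ⊔ ((S : Subgroup M) ⊓ N) with hD
    have hDS : D ≤ (S : Subgroup M) := sup_le hHS inf_le_left
    have hDN : D ≤ N := sup_le hHN inf_le_right
    have hDp : IsPGroup p D := S.isPGroup'.to_le hDS
    have hmul := Subgroup.relIndex_mul_relIndex H D N le_sup_left hDN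
    obtain ⟨n, hn⟩ := hDp.index (H.subgroupOf D)
    have hn' : H.relIndex D = p ^ n := hn
    have hn0 : n = 0 := by
      by_contra hne
      apply hnd
      rw [← hmul, hn']
      exact Dvd.dvd.mul_right (dvd_pow_self p hne) _
    rw [hn0, pow_zero, Subgroup.relIndex_eq_one] at hn'
    exact le_sup_right.trans hn'
  refine ⟨hHN, ?_, ?_⟩
  · intro hnd
    have hSN := hpsub hnd
    have hSC : (S : Subgroup M) ⊓ C ≤ H := (inf_le_inf_left _ hCN).trans hSN
    refine ⟨hSC, ?_⟩
    have hCHK := hstar hSC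
    apply le_antisymm
    · -- R ≤ H ⊔ C
      intro r hr
      have h1 : r ∈ (((S : Subgroup M) ⊔ K : Subgroup M) : Set M) := pPrimePCore_le_sylow_sup S hr
      rw [Subgroup.mul_normal] at h1
      obtain ⟨s, hs, k, hk, rfl⟩ := Set.mem_mul.mp h1
      have hsR : s ∈ R := by
        have : s = s * k * k⁻¹ := by group
        rw [this]
        exact R.mul_mem hr (R.inv_mem (hKR hk))
      have hsH : s ∈ H := hSN (Subgroup.mem_inf.mpr ⟨hs, hRN hsR⟩)
      exact Subgroup.mul_mem _ (Subgroup.mem_sup_left hsH) (Subgroup.mem_sup_right (hKC hk))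
    · exact sup_le hHR (hCHK.trans (sup_le hHR hKR))
  · rintro ⟨hSC, hReq⟩
    have hCHK := hstar hSC
    have hNR : N ≤ R := by
      have : N.Normal := by rw [hN]; exact Subgroup.Normal.comap inferInstance _
      rw [hRdef]
      apply le_comap_pCore_of_pow_mem
      intro x hx
      obtain ⟨k, hk⟩ := pow_mem_of_mem_comap_pCore C hx
      obtain ⟨j, hj⟩ := pow_mem_of_mem_sup H K hHp (hCHK hk)
      refine ⟨k + j, ?_⟩
      rw [pow_add, pow_mul]
      exact hj
    have hNHK : N ≤ H ⊔ K := by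
      rw [hReq] at hNR
      exact hNR.trans (sup_le le_sup_left hCHK)
    have hmul := Subgroup.relIndex_mul_relIndex H N (H ⊔ K) hHN hNHK
    rw [← relIndex_eq_relIndex_sup_of_normal H K] at hmul
    intro hdvd
    have h1 : p ∣ H.relIndex K := by rw [← hmul]; exact Dvd.dvd.mul_right hdvd _
    have h2 : p ∣ Nat.card K := h1.trans (Subgroup.relIndex_dvd_card H K)
    exact (Nat.Prime.coprime_iff_not_dvd hp).mp hKcop.symm h2

end abstract

/-- Let P be a Sylow p-subgroup of the finite group G and H ≤ P a subgroup with N_P(H) a Sylow p-subgroup of N_G(H). Let N be the preimage in N_G(H) of O_p(N_G(H)/C_G(H)). Then H is a Sylow p-subgroup of N if and only if C_P(H) ≤ H and O_{p',p}(N_G(H)) = H·C_G(H). -/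
theorem result {G : Type*} [Group G] [Finite G] {p : ℕ} [Fact p.Prime]
    (P : Sylow p G) (H : Subgroup G) (hHP : H ≤ (P : Subgroup G))
    (hSyl : ¬ p ∣ ((P : Subgroup G) ⊓ Subgroup.normalizer (H : Set G)).relIndex (Subgroup.normalizer (H : Set G)))
    [hC : ((Subgroup.centralizer (H : Set G)).subgroupOf (Subgroup.normalizer (H : Set G))).Normal] :
    (H ≤ ((Cfsg.pCore p (↥(Subgroup.normalizer (H : Set G)) ⧸
              (Subgroup.centralizer (H : Set G)).subgroupOf (Subgroup.normalizer (H : Set G)))).comap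
            (QuotientGroup.mk' _)).map (Subgroup.normalizer (H : Set G)).subtype ∧
      ¬ p ∣ H.relIndex (((Cfsg.pCore p (↥(Subgroup.normalizer (H : Set G)) ⧸
              (Subgroup.centralizer (H : Set G)).subgroupOf (Subgroup.normalizer (H : Set G)))).comap
            (QuotientGroup.mk' _)).map (Subgroup.normalizer (H : Set G)).subtype)) ↔
    ((P : Subgroup G) ⊓ Subgroup.centralizer (H : Set G) ≤ H ∧
      (Cfsg.pPrimePCore p ↥(Subgroup.normalizer (H : Set G))).map (Subgroup.normalizer (H : Set G)).subtype =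
        H ⊔ Subgroup.centralizer (H : Set G)) := by
  classical
  set M : Subgroup G := Subgroup.normalizer (H : Set G) with hM
  have hHM : H ≤ M := Subgroup.le_normalizer
  have hCM : Subgroup.centralizer (H : Set G) ≤ M := Subgroup.centralizer_le_normalizer _
  -- the Sylow subgroup of M
  have hS0p : IsPGroup p ((P : Subgroup G).subgroupOf M) :=
    P.isPGroup'.comap_of_injective M.subtype M.subtype_injective
  have hS0i : ¬ p ∣ ((P : Subgroup G).subgroupOf M).index := by
    rw [Subgroup.inf_relIndex_right] at hSyl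
    exact hSyl
  set S₀ : Sylow p ↥M := hS0p.toSylow hS0i with hS₀
  have hS₀coe : (S₀ : Subgroup ↥M) = (P : Subgroup G).subgroupOf M := IsPGroup.toSylow_coe _ _
  set H₀ : Subgroup ↥M := H.subgroupOf M with hH₀
  haveI hH₀n : H₀.Normal := Subgroup.normal_in_normalizer
  have hHS₀ : H₀ ≤ (S₀ : Subgroup ↥M) := by
    rw [hS₀coe]
    intro x hx
    rw [Subgroup.mem_subgroupOf] at hx ⊢
    exact hHP hx
  set C₀ : Subgroup ↥M := (Subgroup.centralizer (H : Set G)).subgroupOf M with hC₀
  have hCdef : C₀ = Subgroup.centralizer (H₀ : Set ↥M) := by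
    ext x
    rw [hC₀, Subgroup.mem_subgroupOf, Subgroup.mem_centralizer_iff, Subgroup.mem_centralizer_iff]
    constructor
    · intro h y hy
      have hy' : (y : G) ∈ H := by
        have : y ∈ H.subgroupOf M := hy
        rwa [Subgroup.mem_subgroupOf] at this
      apply Subtype.ext
      exact h (y : G) hy'
    · intro h y hy
      have hy' : (⟨y, hHM hy⟩ : ↥M) ∈ (H₀ : Set ↥M) := by
        show (⟨y, hHM hy⟩ : ↥M) ∈ H.subgroupOf M
        rw [Subgroup.mem_subgroupOf]; exact hy
      have := h _ hy'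
      exact congrArg Subtype.val this
  obtain ⟨h1, h2⟩ := core S₀ H₀ hHS₀ C₀ hCdef
  set N' : Subgroup ↥M := (pCore p (↥M ⧸ C₀)).comap (QuotientGroup.mk' C₀) with hN'
  have hH₀map : H₀.map M.subtype = H := by
    rw [hH₀, Subgroup.subgroupOf_map_subtype, inf_eq_left.mpr hHM]
  have hC₀map : C₀.map M.subtype = Subgroup.centralizer (H : Set G) := by
    rw [hC₀, Subgroup.subgroupOf_map_subtype, inf_eq_left.mpr hCM]
  have e1 : H ≤ N'.map M.subtype := by
    rw [← hH₀map]
    exact Subgroup.map_mono h1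
  have e2 : H.relIndex (N'.map M.subtype) = H₀.relIndex N' := by
    rw [← Subgroup.relIndex_map_map_of_injective H₀ N' M.subtype_injective, hH₀map]
  have e3 : ((P : Subgroup G) ⊓ Subgroup.centralizer (H : Set G) ≤ H) ↔
      ((S₀ : Subgroup ↥M) ⊓ C₀ ≤ H₀) := by
    rw [hS₀coe]
    constructor
    · intro h x hx
      rw [Subgroup.mem_inf, Subgroup.mem_subgroupOf, Subgroup.mem_subgroupOf] at hx
      rw [hH₀, Subgroup.mem_subgroupOf]
      exact h (Subgroup.mem_inf.mpr hx)
    · intro h x hx
      rw [Subgroup.mem_inf] at hx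
      have hxM : x ∈ M := hCM hx.2
      have : (⟨x, hxM⟩ : ↥M) ∈ H₀ := by
        apply h
        rw [Subgroup.mem_inf, Subgroup.mem_subgroupOf, Subgroup.mem_subgroupOf]
        exact hx
      rw [hH₀, Subgroup.mem_subgroupOf] at this
      exact this
  have e4 : ((pPrimePCore p ↥M).map M.subtype = H ⊔ Subgroup.centralizer (H : Set G)) ↔
      (pPrimePCore p ↥M = H₀ ⊔ C₀) := by
    have : (H₀ ⊔ C₀).map M.subtype = H ⊔ Subgroup.centralizer (H : Set G) := by
      rw [Subgroup.map_sup, hH₀map, hC₀map]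
    rw [← this]
    exact (Subgroup.map_injective M.subtype_injective).eq_iff
  show (H ≤ N'.map M.subtype ∧ ¬ p ∣ H.relIndex (N'.map M.subtype)) ↔ _
  rw [e2, e3, e4]
  constructor
  · rintro ⟨_, hnd⟩
    exact h2.mp hnd
  · intro h
    exact ⟨e1, h2.mpr h⟩

end Cfsg.Agent.S3076
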