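import Cfsg.Statements.S3078
import Cfsg.Agent.Lib.Helper16.Repl2

set_option autoImplicit false
open Cfsg

namespace Cfsg.Agent.S3078

open Cfsg.Agent.Lib.Helper16

theorem omegaOne_map {G H : Type*} [Group G] [Group H] (p : ℕ) (f : G →* H)
    (hf : Function.Injective f) (X : Subgroup G) :
    Cfsg.omegaOne p (X.map f) = (Cfsg.omegaOne p X).map f := by
  unfold Cfsg.omegaOne
  rw [MonoidHom.map_closure]
  congr 1
  ext y
  constructor
  · rintro ⟨⟨x, hx, rfl⟩, hy⟩
    refine ⟨x, ⟨hx, ?_⟩, rfl⟩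
    apply hf
    rw [map_pow, hy, map_one]
  · rintro ⟨x, ⟨hx, hxp⟩, rfl⟩
    exact ⟨⟨x, hx, rfl⟩, by rw [← map_pow, hxp, map_one]⟩

/-- A replacement Theorem for abelian subgroups of p-groups, p odd. Let G be a finite p-group with p odd, A an abelian subgroup of G, and B a subgroup of nilpotency class at most 2 with [B, B] ≤ A, such that A normalizes B but B does not normalize A. Then there is an abelian subgroup A* of G of the same order as A with A ∩ B strictly contained in A* ∩ B, A* contained in N_G(A) and in the normal closure of A, the exponent of A* dividing the exponent of A, and with the subgroup generated by the elements of order dividing p in A of order at most that of the corresponding subgroup of A* (the rank of A is at most the rank of A*). -/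
theorem result {G : Type*} [Group G] [Finite G] {p : ℕ} [Fact p.Prime] (hp : p ≠ 2) (hG : IsPGroup p G) (A B : Subgroup G) (hA : IsMulCommutative A) (hB2 : ⁅⁅B, B⁆, B⁆ = ⊥) (hBA : ⁅B, B⁆ ≤ A) (hAB : A ≤ Subgroup.normalizer (B : Set G)) (hBnA : ¬ B ≤ Subgroup.normalizer (A : Set G)) : ∃ Astar : Subgroup G, IsMulCommutative Astar ∧ Nat.card Astar = Nat.card A ∧ A ⊓ B < Astar ⊓ B ∧ Astar ≤ Subgroup.normalizer (A : Set G) ∧ Astar ≤ Subgroup.normalClosure (A : Set G) ∧ Monoid.exponent Astar ∣ Monoid.exponent A ∧ Nat.card (Cfsg.omegaOne p A) ≤ Nat.card (Cfsg.omegaOne p Astar) := by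
  have hAS : A ≤ A ⊔ B := le_sup_left
  have hBS : B ≤ A ⊔ B := le_sup_right
  have hSN : A ⊔ B ≤ Subgroup.normalizer (B : Set G) := sup_le hAB Subgroup.le_normalizer
  have hinj : Function.Injective (A ⊔ B).subtype := Subgroup.subtype_injective _
  have hAmap : (A.subgroupOf (A ⊔ B)).map (A ⊔ B).subtype = A :=
    Subgroup.map_subgroupOf_eq_of_le hAS
  have hBmap : (B.subgroupOf (A ⊔ B)).map (A ⊔ B).subtype = B :=
    Subgroup.map_subgroupOf_eq_of_le hBS
  have hBn : (B.subgroupOf (A ⊔ B)).Normal :=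
    (Subgroup.normal_subgroupOf_iff_le_normalizer hBS).mpr hSN
  have hSp : IsPGroup p ↥(A ⊔ B) := hG.to_subgroup _
  have hA' : IsMulCommutative ↥(A.subgroupOf (A ⊔ B)) := by
    rw [GR.isMulCommutative_map_subtype_iff, hAmap]
    exact hA
  have hBA' : ⁅B.subgroupOf (A ⊔ B), B.subgroupOf (A ⊔ B)⁆ ≤ A.subgroupOf (A ⊔ B) := by
    rw [← Subgroup.map_le_map_iff_of_injective hinj, Subgroup.map_commutator, hBmap, hAmap]
    exact hBA
  have hnot : ¬ B.subgroupOf (A ⊔ B) ≤
      Subgroup.normalizer ((A.subgroupOf (A ⊔ B) : Subgroup ↥(A ⊔ B)) : Set ↥(A ⊔ B)) := by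
    intro hle
    apply hBnA
    have h1 := (Subgroup.map_mono (f := (A ⊔ B).subtype) hle).trans
      (Subgroup.le_normalizer_map _)
    rwa [hBmap, hAmap] at h1
  obtain ⟨b, hb, hbN, hbA⟩ := GR.exists_b hSp (A.subgroupOf (A ⊔ B)) (B.subgroupOf (A ⊔ B)) hnot
  obtain ⟨hcard, hcomm, -, hlt, -, -, hAsN, -, -, hexp⟩ :=
    GR.glauberman_replacement hSp (B.subgroupOf (A ⊔ B)) (fun h2 => absurd h2 hp)
      (A.subgroupOf (A ⊔ B)) hA' hBA' b hb hbN hbA
  have hHyp : GR.Hyp (A.subgroupOf (A ⊔ B)) (B.subgroupOf (A ⊔ B)) b :=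
    { Bnormal := hBn
      Acomm := fun x hx y hy => congrArg Subtype.val
        (mul_comm' (⟨x, hx⟩ : A.subgroupOf (A ⊔ B)) ⟨y, hy⟩)
      hBA := hBA'
      hb := hb
      hbN := hbN }
  have hrank := hHyp.card_omegaOne_le hSp hp
  have hcardA : Nat.card ↥(A.subgroupOf (A ⊔ B)) = Nat.card ↥A :=
    Nat.card_congr (Subgroup.subgroupOfEquivOfLe hAS).toEquiv
  refine ⟨(GR.Astar (A.subgroupOf (A ⊔ B)) b).map (A ⊔ B).subtype, ?_, ?_, ?_, ?_, ?_, ?_, ?_⟩
  · exact (GR.isMulCommutative_map_subtype_iff _ _).mp hcomm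
  · rw [Subgroup.card_map_of_injective hinj, hcard, hcardA]
  · have h1 := (Subgroup.map_lt_map_iff_of_injective hinj).mpr hlt
    rw [Subgroup.map_inf _ _ _ hinj, Subgroup.map_inf _ _ _ hinj, hAmap, hBmap] at h1
    exact h1
  · have h1 := (Subgroup.map_mono (f := (A ⊔ B).subtype) hAsN).trans
      (Subgroup.le_normalizer_map _)
    rwa [hAmap] at h1
  · rw [Subgroup.map_le_iff_le_comap]
    apply sup_le
    · intro x hx
      rw [Subgroup.mem_comap]
      exact Subgroup.subset_normalClosure (Subgroup.mem_subgroupOf.mp hx.1)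
    · rw [Subgroup.closure_le]
      rintro x ⟨a, ha, rfl⟩
      rw [SetLike.mem_coe, Subgroup.mem_comap]
      have haA : ((a : ↥(A ⊔ B)) : G) ∈ Subgroup.normalClosure (A : Set G) :=
        Subgroup.subset_normalClosure (Subgroup.mem_subgroupOf.mp ha)
      have hn : (Subgroup.normalClosure (A : Set G)).Normal := Subgroup.normalClosure_normal
      have h2 := hn.conj_mem _ (Subgroup.inv_mem _ haA) ((b : ↥(A ⊔ B)) : G)⁻¹
      have e : (A ⊔ B).subtype (a * b⁻¹ * a⁻¹ * b) =
          (a : G) * (((b : ↥(A ⊔ B)) : G)⁻¹ * (a : G)⁻¹ * ((b : ↥(A ⊔ B)) : G)⁻¹⁻¹) := by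
        simp [mul_assoc]
      rw [e]
      exact Subgroup.mul_mem _ haA h2
  · have h0 : Monoid.exponent ↥((GR.Astar (A.subgroupOf (A ⊔ B)) b).map (A ⊔ B).subtype) =
        Monoid.exponent ↥(GR.Astar (A.subgroupOf (A ⊔ B)) b) :=
      (Monoid.exponent_eq_of_mulEquiv
        (Subgroup.equivMapOfInjective _ (A ⊔ B).subtype hinj)).symm
    rw [h0]
    have h1 : Monoid.exponent ↥(A.subgroupOf (A ⊔ B)) = Monoid.exponent ↥A :=
      Monoid.exponent_eq_of_mulEquiv (Subgroup.subgroupOfEquivOfLe hAS)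
    rw [← h1]
    exact hexp hp
  · have h1 : Cfsg.omegaOne p A = (Cfsg.omegaOne p (A.subgroupOf (A ⊔ B))).map (A ⊔ B).subtype := by
      rw [← omegaOne_map p _ hinj, hAmap]
    rw [h1, omegaOne_map p _ hinj, Subgroup.card_map_of_injective hinj,
      Subgroup.card_map_of_injective hinj]
    exact hrank

end Cfsg.Agent.S3078
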