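import Cfsg.Statements.S3087
import Mathlib

set_option autoImplicit false
open Cfsg

namespace Cfsg.Agent.S3087

/-- fixed points of a subgroup, as an additive subgroup -/
def CV {G V : Type*} [Group G] [AddCommGroup V] (p : ℕ) [Module (ZMod p) V]
    (ρ : Representation (ZMod p) G V) (S : Subgroup G) : AddSubgroup V where
  carrier := {v | ∀ b ∈ S, ρ b v = v}
  zero_mem' := by intro b _; simp
  add_mem' := by
    intro x y hx hy b hb
    simp only [Set.mem_ofPred_eq] at hx hy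
    rw [map_add, hx b hb, hy b hb]
  neg_mem' := by
    intro x hx b hb
    simp only [Set.mem_ofPred_eq] at hx
    rw [map_neg, hx b hb]

/-- Let p be a prime, G a finite group acting linearly on a finite vector space V over the field with p elements, W a G-invariant subspace, and A a subgroup of G with |A|·|C_V(A)| ≥ |B|·|C_V(B)| for every subgroup B of A. Then |A|·|C_W(A)| ≥ |B|·|C_W(B)| for every subgroup B of A that contains C_A(W); that is, the image of A in the group induced on W satisfies the same maximality condition. -/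
theorem result {G V : Type*} [Group G] [Finite G] [AddCommGroup V] [Finite V] (p : ℕ) [Fact p.Prime] [Module (ZMod p) V]
    (ρ : Representation (ZMod p) G V) (W : Submodule (ZMod p) V) (hW : ∀ g : G, ∀ w ∈ W, ρ g w ∈ W)
    (A : Subgroup G)
    (hP : ∀ B : Subgroup G, B ≤ A →
      Nat.card ↥B * Nat.card {v : V // ∀ b ∈ B, ρ b v = v} ≤ Nat.card ↥A * Nat.card {v : V // ∀ a ∈ A, ρ a v = v})
    (B : Subgroup G) (hBA : B ≤ A) (hCB : ∀ a ∈ A, (∀ w ∈ W, ρ a w = w) → a ∈ B) :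
    Nat.card ↥B * Nat.card {w : W // ∀ b ∈ B, ρ b w = w} ≤ Nat.card ↥A * Nat.card {w : W // ∀ a ∈ A, ρ a w = w} := by
  classical
  set WW : AddSubgroup V := W.toAddSubgroup with hWW
  have hcw : ∀ S : Subgroup G, Nat.card {w : W // ∀ b ∈ S, ρ b w = w} = Nat.card ↥(WW ⊓ CV p ρ S) := by
    intro S
    apply Nat.card_congr
    refine ⟨fun w => ⟨w.1.1, ⟨w.1.2, w.2⟩⟩, fun v => ⟨⟨v.1, v.2.1⟩, v.2.2⟩, ?_, ?_⟩
    · intro w; rfl
    · intro v; rfl
  have hcv : ∀ S : Subgroup G, Nat.card {v : V // ∀ b ∈ S, ρ b v = v} = Nat.card ↥(CV p ρ S) := by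
    intro S; rfl
  rw [hcw, hcw]
  have hPB := hP B hBA
  rw [hcv, hcv] at hPB
  have hAB : CV p ρ A ≤ CV p ρ B := fun v hv b hb => hv b (hBA hb)
  have hinf : WW ⊓ CV p ρ A = CV p ρ A ⊓ (WW ⊓ CV p ρ B) := by
    apply le_antisymm
    · exact le_inf inf_le_right (le_inf inf_le_left (inf_le_right.trans hAB))
    · exact le_inf (inf_le_right.trans inf_le_left) inf_le_left
  have hle : WW ⊓ CV p ρ A ≤ WW ⊓ CV p ρ B := inf_le_inf_left _ hAB
  -- cardinalities
  have e1 : Nat.card ↥(WW ⊓ CV p ρ A) * (CV p ρ A).relIndex (WW ⊓ CV p ρ B) = Nat.card ↥(WW ⊓ CV p ρ B) := by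
    have := AddSubgroup.relIndex_mul_relIndex ⊥ (WW ⊓ CV p ρ A) (WW ⊓ CV p ρ B) bot_le hle
    rw [AddSubgroup.relIndex_bot_left, AddSubgroup.relIndex_bot_left] at this
    rw [← this, hinf, AddSubgroup.inf_relIndex_right]
  have e2 : Nat.card ↥(CV p ρ A) * (CV p ρ A).relIndex (CV p ρ B) = Nat.card ↥(CV p ρ B) := by
    have := AddSubgroup.relIndex_mul_relIndex ⊥ (CV p ρ A) (CV p ρ B) bot_le hAB
    rw [AddSubgroup.relIndex_bot_left, AddSubgroup.relIndex_bot_left] at this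
    exact this
  have e3 : (CV p ρ A).relIndex (WW ⊓ CV p ρ B) ≤ (CV p ρ A).relIndex (CV p ρ B) := by
    rw [← AddSubgroup.relIndex_sup_right]
    apply AddSubgroup.relIndex_le_of_le_right (sup_le inf_le_right hAB)
    intro h0
    rw [h0, mul_zero] at e2
    have : 0 < Nat.card ↥(CV p ρ B) := Nat.card_pos
    omega
  have hpos : 0 < Nat.card ↥(CV p ρ A) := Nat.card_pos
  rw [← e2] at hPB
  have h4 : Nat.card ↥B * (CV p ρ A).relIndex (CV p ρ B) ≤ Nat.card ↥A := by
    have : Nat.card ↥(CV p ρ A) * (Nat.card ↥B * (CV p ρ A).relIndex (CV p ρ B)) ≤ Nat.card ↥(CV p ρ A) * Nat.card ↥A := by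
      calc _ = Nat.card ↥B * (Nat.card ↥(CV p ρ A) * (CV p ρ A).relIndex (CV p ρ B)) := by ring
        _ ≤ Nat.card ↥A * Nat.card ↥(CV p ρ A) := hPB
        _ = _ := by ring
    exact Nat.le_of_mul_le_mul_left this hpos
  rw [← e1]
  calc Nat.card ↥B * (Nat.card ↥(WW ⊓ CV p ρ A) * (CV p ρ A).relIndex (WW ⊓ CV p ρ B))
      = (Nat.card ↥B * (CV p ρ A).relIndex (WW ⊓ CV p ρ B)) * Nat.card ↥(WW ⊓ CV p ρ A) := by ring
    _ ≤ (Nat.card ↥B * (CV p ρ A).relIndex (CV p ρ B)) * Nat.card ↥(WW ⊓ CV p ρ A) := by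
        apply Nat.mul_le_mul_right
        apply Nat.mul_le_mul_left _ e3
    _ ≤ Nat.card ↥A * Nat.card ↥(WW ⊓ CV p ρ A) := Nat.mul_le_mul_right _ h4

end Cfsg.Agent.S3087
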