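import Cfsg.Statements.S3103
import Cfsg.Agent.Lib.Helper64.GL42
import Cfsg.Agent.Lib.Helper01.PCore
import Cfsg.Agent.Lib.Helper15.Cores
import Cfsg.Agent.Lib.Helper03.PGroupFrattini
import Cfsg.Agent.S4207
-- import your own Cfsg.Agent.* helpers here

set_option autoImplicit false
open Cfsg
open scoped commutatorElement

namespace Cfsg.Agent.S3103

/-- the action of automorphisms on the Frattini quotient -/
noncomputable def frattAct (P : Type*) [Group P] : MulAut P →* MulAut (P ⧸ frattini P) where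
  toFun α := QuotientGroup.congr (frattini P) (frattini P) α
    (Subgroup.characteristic_iff_map_eq.1 inferInstance α)
  map_one' := by
    ext x
    induction x using QuotientGroup.induction_on with
    | H x => rfl
  map_mul' := fun α β => by
    ext x
    induction x using QuotientGroup.induction_on with
    | H x => rfl

theorem frattAct_mk (P : Type*) [Group P] (α : MulAut P) (x : P) :
    frattAct P α (QuotientGroup.mk x) = QuotientGroup.mk (α x) := rfl

theorem comm_of_sq {V : Type*} [Group V] (h2 : ∀ v : V, v ^ 2 = 1) (a b : V) : a * b = b * a := by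
  have ha : a⁻¹ = a := by
    rw [inv_eq_iff_mul_eq_one, ← pow_two]; exact h2 a
  have hb : b⁻¹ = b := by
    rw [inv_eq_iff_mul_eq_one, ← pow_two]; exact h2 b
  have hab : (a * b)⁻¹ = a * b := by
    rw [inv_eq_iff_mul_eq_one, ← pow_two]; exact h2 (a * b)
  rw [← hab, mul_inv_rev, ha, hb]

/-- Let X be a finite 2-constrained group with no nontrivial normal subgroup of odd order such that O₂(X) has sectional 2-rank at most 4. Then X/O₂(X) is isomorphic to a subgroup of the alternating group of degree 8. -/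
theorem result {X : Type*} [Group X] [Finite X] (hc : Cfsg.IsPConstrained 2 X) (hO : Cfsg.oddCore X = ⊥)
    (h4 : Cfsg.SectionalPRankLE 2 4 ↥(Cfsg.pCore 2 X)) :
    ∃ f : X ⧸ Cfsg.pCore 2 X →* ↥(alternatingGroup (Fin 8)), Function.Injective f := by
  haveI : Fact (Nat.Prime 2) := ⟨Nat.prime_two⟩
  have hQ2 : IsPGroup 2 (Cfsg.pCore 2 X) := Cfsg.Agent.Lib.Helper01.pCore_isPGroup 2
  -- `C_X(Q) ≤ Q`
  have hcent : Subgroup.centralizer (Cfsg.pCore 2 X : Set X) ≤ Cfsg.pCore 2 X := by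
    have hK : pPrimePCore 2 X = pCore 2 X :=
      Cfsg.Agent.Lib.Helper15.pPrimePCore_eq_pCore_of_pPrimeCore_eq_bot 2 hO
    have hKp : IsPGroup 2 ↥(pPrimePCore 2 X) := by rw [hK]; exact hQ2
    obtain ⟨P⟩ := (inferInstance : Nonempty (Sylow 2 ↥(pPrimePCore 2 X)))
    have := hc P
    rw [Cfsg.Agent.Lib.Helper15.sylow_map_subtype_of_isPGroup _ hKp P, hK] at this
    exact this
  -- the action on the Frattini quotient
  let c : X →* MulAut (Cfsg.pCore 2 X) := MulAut.conjNormal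
  let θ : X →* MulAut (↥(Cfsg.pCore 2 X) ⧸ frattini ↥(Cfsg.pCore 2 X)) :=
    (frattAct ↥(Cfsg.pCore 2 X)).comp c
  have hc_apply : ∀ (x : X) (y : ↥(Cfsg.pCore 2 X)), ((c x y : ↥(Cfsg.pCore 2 X)) : X) = x * y * x⁻¹ :=
    fun x y => MulAut.conjNormal_apply x y
  -- `Q ≤ ker θ`
  have hQker : Cfsg.pCore 2 X ≤ θ.ker := by
    intro q hq
    rw [MonoidHom.mem_ker]
    ext v
    induction v using QuotientGroup.induction_on with
    | H y =>
      show frattAct _ (c q) (QuotientGroup.mk y) = QuotientGroup.mk y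
      rw [frattAct_mk, QuotientGroup.eq_iff_div_mem, div_eq_mul_inv]
      apply Cfsg.Agent.Lib.Helper03.commutator_le_frattini_of_isPGroup hQ2
      have e : c q y * y⁻¹ = ⁅(⟨q, hq⟩ : ↥(Cfsg.pCore 2 X)), y⁆ := by
        apply Subtype.ext
        rw [commutatorElement_def]
        simp only [Subgroup.coe_mul, Subgroup.coe_inv, hc_apply]
      rw [e, commutator_def]
      exact Subgroup.commutator_mem_commutator (Subgroup.mem_top _) (Subgroup.mem_top _)
  -- `ker θ` is a 2-group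
  have hker2 : IsPGroup 2 θ.ker := by
    obtain ⟨n, hn⟩ := hQ2.exists_card_eq
    obtain ⟨r, hr⟩ := hQ2.index (frattini ↥(Cfsg.pCore 2 X))
    have hA : ∀ α ∈ θ.ker.map c, ∀ y : ↥(Cfsg.pCore 2 X), α y * y⁻¹ ∈ frattini ↥(Cfsg.pCore 2 X) := by
      rintro _ ⟨x, hx, rfl⟩ y
      rw [SetLike.mem_coe, MonoidHom.mem_ker] at hx
      have h1 : θ x (QuotientGroup.mk y) = QuotientGroup.mk y := by rw [hx]; rfl
      have h2 : frattAct _ (c x) (QuotientGroup.mk y) = QuotientGroup.mk y := h1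
      rw [frattAct_mk, QuotientGroup.eq_iff_div_mem, div_eq_mul_inv] at h2
      exact h2
    have hdvd := Cfsg.Agent.S4207.result hn hr (θ.ker.map c) hA
    obtain ⟨k, -, hk⟩ := (Nat.dvd_prime_pow Nat.prime_two).1 hdvd
    have hA2 : IsPGroup 2 (θ.ker.map c) := IsPGroup.of_card hk
    rintro ⟨x, hx⟩
    obtain ⟨a, ha⟩ := hA2 ⟨c x, Subgroup.mem_map_of_mem c hx⟩
    have ha' : c (x ^ 2 ^ a) = 1 := by
      have := congrArg Subtype.val ha
      simpa only [Subgroup.coe_pow, Subgroup.coe_one, ← map_pow] using this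
    have hxc : x ^ 2 ^ a ∈ Subgroup.centralizer (Cfsg.pCore 2 X : Set X) := by
      rw [Subgroup.mem_centralizer_iff]
      intro y hy
      have h3 : c (x ^ 2 ^ a) ⟨y, hy⟩ = ⟨y, hy⟩ := by rw [ha']; rfl
      have h4' := congrArg Subtype.val h3
      rw [hc_apply] at h4'
      simp only at h4'
      calc y * x ^ 2 ^ a = (x ^ 2 ^ a * y * (x ^ 2 ^ a)⁻¹) * x ^ 2 ^ a := by rw [h4']
        _ = x ^ 2 ^ a * y := by simp only [mul_assoc, inv_mul_cancel, mul_one]
    obtain ⟨b, hb⟩ := hQ2 ⟨x ^ 2 ^ a, hcent hxc⟩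
    have hb' : (x ^ 2 ^ a) ^ 2 ^ b = 1 := by
      have := congrArg Subtype.val hb
      simpa only [Subgroup.coe_pow, Subgroup.coe_one] using this
    refine ⟨a + b, ?_⟩
    apply Subtype.ext
    rw [Subgroup.coe_pow, Subgroup.coe_one, pow_add, pow_mul]
    exact hb'
  have hkerQ : θ.ker ≤ Cfsg.pCore 2 X :=
    Cfsg.Agent.Lib.Helper01.le_pCore (MonoidHom.normal_ker θ) hker2
  -- the Frattini quotient has exponent 2 and order at most 16
  have hV2 : ∀ v : ↥(Cfsg.pCore 2 X) ⧸ frattini ↥(Cfsg.pCore 2 X), v ^ 2 = 1 := by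
    intro v
    induction v using QuotientGroup.induction_on with
    | H y =>
      rw [← QuotientGroup.mk_pow, QuotientGroup.eq_one_iff]
      exact Cfsg.Agent.Lib.Helper03.pow_mem_frattini_of_isPGroup hQ2 y
  have hVc : Nat.card (↥(Cfsg.pCore 2 X) ⧸ frattini ↥(Cfsg.pCore 2 X)) ≤ 16 := by
    have hN : ((frattini ↥(Cfsg.pCore 2 X)).subgroupOf (⊤ : Subgroup ↥(Cfsg.pCore 2 X))).Normal :=
      Subgroup.normal_subgroupOf
    have hsec := @h4 (⊤ : Subgroup ↥(Cfsg.pCore 2 X))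
      ((frattini ↥(Cfsg.pCore 2 X)).subgroupOf (⊤ : Subgroup ↥(Cfsg.pCore 2 X))) hN
    have hW2 : ∀ w : (↥(⊤ : Subgroup ↥(Cfsg.pCore 2 X))) ⧸
        ((frattini ↥(Cfsg.pCore 2 X)).subgroupOf (⊤ : Subgroup ↥(Cfsg.pCore 2 X))), w ^ 2 = 1 := by
      intro w
      induction w using QuotientGroup.induction_on with
      | H y =>
        rw [← QuotientGroup.mk_pow, QuotientGroup.eq_one_iff, Subgroup.mem_subgroupOf]
        exact Cfsg.Agent.Lib.Helper03.pow_mem_frattini_of_isPGroup hQ2 (y : ↥(Cfsg.pCore 2 X))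
    have hcommW : IsMulCommutative ↥(⊤ : Subgroup ((↥(⊤ : Subgroup ↥(Cfsg.pCore 2 X))) ⧸
        ((frattini ↥(Cfsg.pCore 2 X)).subgroupOf (⊤ : Subgroup ↥(Cfsg.pCore 2 X))))) :=
      ⟨⟨fun a b => Subtype.ext (comm_of_sq hW2 a.1 b.1)⟩⟩
    have h5 := hsec ⊤ hcommW (fun a _ => hW2 a)
    rw [Subgroup.card_top] at h5
    have h6 : Nat.card ((↥(⊤ : Subgroup ↥(Cfsg.pCore 2 X))) ⧸
        ((frattini ↥(Cfsg.pCore 2 X)).subgroupOf (⊤ : Subgroup ↥(Cfsg.pCore 2 X)))) =
        Nat.card (↥(Cfsg.pCore 2 X) ⧸ frattini ↥(Cfsg.pCore 2 X)) := by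
      rw [← Subgroup.index_eq_card, ← Subgroup.index_eq_card]
      exact Subgroup.relIndex_top_right _
    rw [h6] at h5
    norm_num at h5
    exact h5
  obtain ⟨g, hg⟩ := Cfsg.Agent.Lib.Helper64.mulAut_embed_alt8 hV2 hVc
  refine ⟨g.comp (QuotientGroup.lift (Cfsg.pCore 2 X) θ hQker), hg.comp ?_⟩
  rw [injective_iff_map_eq_one]
  intro v hv
  induction v using QuotientGroup.induction_on with
  | H x =>
    rw [QuotientGroup.lift_mk] at hv
    rw [QuotientGroup.eq_one_iff]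
    exact hkerQ (MonoidHom.mem_ker.mpr hv)

end Cfsg.Agent.S3103
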