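import Cfsg.Statements.S3116
import Cfsg.Agent.Lib.Helper59.AutTwoGroup

set_option autoImplicit false
open Cfsg

namespace Cfsg.Agent.S3116

open Cfsg.Agent.Lib.Helper59

lemma index_two_of_card {X : Type*} [Group X] [Finite X] (c : X) (N : ℕ) (hN : 0 < N)
    (hc : orderOf c = N) (hX : Nat.card X = 2 * N) : (Subgroup.zpowers c).index = 2 := by
  have h1 := (Subgroup.zpowers c).card_mul_index
  rw [Nat.card_zpowers, hc, hX] at h1
  have : N * (Subgroup.zpowers c).index = N * 2 := by rw [h1]; ring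
  exact Nat.eq_of_mul_eq_mul_left hN this

lemma dihedral_case {X : Type*} [Group X] [Finite X] (h2 : IsPGroup 2 X) (n : ℕ) (hn : 4 ≤ n)
    (e : X ≃* DihedralGroup n) : IsPGroup 2 (MulAut X) := by
  obtain ⟨j, hj⟩ := IsPGroup.iff_card.mp h2
  have hcard : Nat.card X = 2 * n := by
    rw [Nat.card_congr e.toEquiv, DihedralGroup.nat_card]
  have hndvd : n ∣ 2 ^ j := ⟨2, by rw [← hj, hcard]; ring⟩
  obtain ⟨k, _, hk⟩ := (Nat.dvd_prime_pow Nat.prime_two).mp hndvd
  have hk1 : 1 ≤ k := by
    rcases Nat.eq_zero_or_pos k with h | h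
    · subst h; simp at hk; omega
    · exact h
  haveI : NeZero n := ⟨by omega⟩
  set c : X := e.symm (DihedralGroup.r 1) with hcdef
  have hc : orderOf c = 2 ^ k := by
    rw [hcdef, MulEquiv.orderOf_eq, DihedralGroup.orderOf_r_one, hk]
  have hidx : (Subgroup.zpowers c).index = 2 :=
    index_two_of_card c (2 ^ k) (by positivity) hc (by rw [hcard, hk])
  apply isPGroup_two_mulAut_of_cyclic_index_two c k 2 hk1 hc hidx
  · intro g hg
    have hcases : ∀ x : DihedralGroup n, e.symm x ∉ Subgroup.zpowers c → x ^ 2 = 1 := by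
      intro x hx
      cases x with
      | r i =>
        exfalso
        apply hx
        have : DihedralGroup.r i = (DihedralGroup.r 1 : DihedralGroup n) ^ (i.val) := by
          rw [DihedralGroup.r_one_pow]; simp
        rw [this, map_pow]
        exact Subgroup.pow_mem _ (Subgroup.mem_zpowers c) _
      | sr i =>
        rw [sq]; exact DihedralGroup.sr_mul_self i
    have h1 := hcases (e g) (by simpa using hg)
    rw [← map_pow] at h1
    have := congrArg e.symm h1
    simpa using this
  · intro hcon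
    have := orderOf_dvd_of_pow_eq_one hcon
    rw [hc, hk.symm] at this
    have := Nat.le_of_dvd (by norm_num) this
    omega

lemma quasidihedral_case {X : Type*} [Group X] [Finite X] (h : Cfsg.IsQuasiDihedral X) :
    IsPGroup 2 (MulAut X) := by
  obtain ⟨n, hn, hcard, x, y, hx, hy, hxy⟩ := h
  have hidx : (Subgroup.zpowers x).index = 2 :=
    index_two_of_card x (2 ^ n) (by positivity) hx (by rw [hcard, pow_succ]; ring)
  have hy2 : y * y = 1 := by
    have := pow_orderOf_eq_one y
    rw [hy, sq] at this; exact this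
  have hyinv : y⁻¹ = y := inv_eq_of_mul_eq_one_right hy2
  obtain ⟨n', rfl⟩ : ∃ n', n = n' + 3 := ⟨n - 3, by omega⟩
  have hpos : 2 ≤ 2 ^ (n' + 3 - 1) := by
    have : n' + 3 - 1 = n' + 1 + 1 := by omega
    rw [this, pow_succ]; have : 0 < 2 ^ (n' + 1) := by positivity
    omega
  -- y ∉ ⟨x⟩
  have hynot : y ∉ Subgroup.zpowers x := by
    intro hmem
    rw [Subgroup.mem_zpowers_iff] at hmem
    obtain ⟨i, rfl⟩ := hmem
    have hcomm : x ^ i * x * (x ^ i)⁻¹ = x := by
      rw [← zpow_add_one, ← zpow_neg, ← zpow_add]; simp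
    rw [hcomm] at hxy
    have h1 : x ^ (2 ^ (n' + 3 - 1) - 2) = 1 := by
      have h2 : x ^ (2 ^ (n' + 3 - 1) - 1) = x ^ (2 ^ (n' + 3 - 1) - 2) * x := by
        rw [← pow_succ]; congr 1; omega
      rw [h2] at hxy
      have : 1 * x = x ^ (2 ^ (n' + 3 - 1) - 2) * x := by rw [one_mul]; exact hxy
      exact (mul_right_cancel this).symm
    have hdvd := orderOf_dvd_of_pow_eq_one h1
    rw [hx] at hdvd
    have h3 : 2 ^ (n' + 3 - 1) < 2 ^ (n' + 3) := Nat.pow_lt_pow_right (by norm_num) (by omega)
    have h4 : 0 < 2 ^ (n' + 3 - 1) - 2 := by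
      have : n' + 3 - 1 = n' + 1 + 1 := by omega
      rw [this, pow_succ, pow_succ]; have : 0 < 2 ^ n' := by positivity
      omega
    have := Nat.le_of_dvd h4 hdvd
    omega
  apply isPGroup_two_mulAut_of_cyclic_index_two x (n' + 3) 4 (by omega) hx hidx
  · intro g hg
    have hyg : y⁻¹ * g ∈ Subgroup.zpowers x := by
      rw [Subgroup.mul_mem_iff_of_index_two hidx]
      constructor
      · intro h; exact absurd (by simpa using (Subgroup.zpowers x).inv_mem h) hynot
      · intro h; exact absurd h hg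
    have hxfin : IsOfFinOrder x := orderOf_pos_iff.mp (by rw [hx]; positivity)
    rw [← hxfin.mem_powers_iff_mem_zpowers] at hyg
    obtain ⟨i, hi⟩ := (Submonoid.mem_powers_iff _ _).mp hyg
    have hg' : g = y * x ^ i := by rw [hi]; group
    have hconj : y * x ^ i * y = x ^ ((2 ^ (n' + 3 - 1) - 1) * i) := by
      have : y * x ^ i * y = (y * x * y⁻¹) ^ i := by
        rw [conj_pow, hyinv]
      rw [this, hxy, ← pow_mul]
    have hsq : g ^ 2 = x ^ (2 ^ (n' + 3 - 1) * i) := by
      rw [hg', sq]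
      have : y * x ^ i * (y * x ^ i) = (y * x ^ i * y) * x ^ i := by group
      rw [this, hconj, ← pow_add]
      congr 1
      have : 2 ^ (n' + 3 - 1) = (2 ^ (n' + 3 - 1) - 1) + 1 := by omega
      conv_rhs => rw [this]
      ring
    have : g ^ 4 = (g ^ 2) ^ 2 := by rw [← pow_mul]
    rw [this, hsq, ← pow_mul]
    have : 2 ^ (n' + 3 - 1) * i * 2 = 2 ^ (n' + 3) * i := by
      have : n' + 3 - 1 = n' + 2 := by omega
      rw [this, pow_succ 2 (n' + 2)]; ring
    rw [this, pow_mul, ← hx, pow_orderOf_eq_one, one_pow]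
  · intro hcon
    have := orderOf_dvd_of_pow_eq_one hcon
    rw [hx] at this
    have h1 := Nat.le_of_dvd (by norm_num) this
    have : 2 ^ 3 ≤ 2 ^ (n' + 3) := Nat.pow_le_pow_right (by norm_num) (by omega)
    omega

/-- The automorphism group of a dihedral 2-group of order at least 8, or of a quasi-dihedral (semidihedral) 2-group of order at least 16, is a 2-group. -/
theorem result {X : Type*} [Group X] [Finite X] (h2 : IsPGroup 2 X)
    (h : (∃ n : ℕ, 4 ≤ n ∧ Nonempty (X ≃* DihedralGroup n)) ∨ Cfsg.IsQuasiDihedral X) : IsPGroup 2 (MulAut X) := by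
  rcases h with ⟨n, hn, ⟨e⟩⟩ | h
  · exact dihedral_case h2 n hn e
  · exact quasidihedral_case h

end Cfsg.Agent.S3116
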