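import Cfsg.Statements.S3155
import Mathlib

set_option autoImplicit false
open Cfsg

namespace Cfsg.Agent.S3155

abbrev M := ZMod 4 × ZMod 4 × ZMod 4

lemma no_sqrt_neg (σ : M →+ M) (h : ∀ m, σ (σ m) = -m) : False := by
  set L : M →ₗ[ZMod 4] M := σ.toZModLinearMap 4 with hL
  have h1 : L.comp L = (-1 : ZMod 4) • LinearMap.id := by
    ext <;> simp [hL, h]
  have h2 := congrArg LinearMap.det h1
  rw [LinearMap.det_comp, LinearMap.det_smul, LinearMap.det_id] at h2
  have h3 : Module.finrank (ZMod 4) M = 3 := by
    have : Fact (1 < 4) := ⟨by norm_num⟩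
    rw [Module.finrank_prod, Module.finrank_prod, Module.finrank_self]
  rw [h3] at h2
  generalize LinearMap.det L = d at h2
  revert h2
  revert d
  decide

/-- Let B be the direct product of three cyclic groups of order 4. Then the automorphism of B inverting every element is not the square of any automorphism of B. -/
theorem result {B : Type*} [CommGroup B] [Finite B] (hB : Nonempty (B ≃* Multiplicative (ZMod 4 × ZMod 4 × ZMod 4)))
    (τ : B ≃* B) : τ.trans τ ≠ MulEquiv.inv B := by
  obtain ⟨e⟩ := hB
  intro hτ
  let f : Multiplicative M →* Multiplicative M := ((e.symm.trans τ).trans e).toMonoidHom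
  let σ : M →+ M := AddMonoidHom.toMultiplicative.symm f
  apply no_sqrt_neg σ
  intro m
  have h1 : ∀ b : B, τ (τ b) = b⁻¹ := by
    intro b
    have := congrArg (fun g : B ≃* B => g b) hτ
    simpa using this
  show Multiplicative.toAdd (f (Multiplicative.ofAdd (Multiplicative.toAdd (f (Multiplicative.ofAdd m))))) = -m
  simp only [f, MulEquiv.toMonoidHom_eq_coe, MonoidHom.coe_coe, MulEquiv.trans_apply, ofAdd_toAdd,
    MulEquiv.symm_apply_apply, h1, map_inv, MulEquiv.apply_symm_apply]
  rfl

end Cfsg.Agent.S3155
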