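import Cfsg.Statements.S3157
import Cfsg.Agent.Lib.Helper72.G4SymFix

set_option autoImplicit false
open Cfsg

namespace Cfsg.Agent.S3157

/-- Let T be a non-abelian group of order 64 admitting automorphisms ρ of order 3 and x of order 2 with x ρ x⁻¹ = ρ⁻¹ (so they generate a symmetric group of degree 3), where ρ fixes only the identity. Then T is isomorphic to a Sylow 2-subgroup of the projective special linear group of dimension 3 over the field with 4 elements, and the subgroup of fixed points of x is dihedral of order 8 or quaternion of order 8. -/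
theorem result {T : Type*} [Group T] [Finite T] (hT : Nat.card T = 64) (hna : ¬ IsMulCommutative T) (ρ x : MulAut T) (hρ : orderOf ρ = 3) (hx : orderOf x = 2)
    (hxr : x * ρ * x⁻¹ = ρ⁻¹) (hfp : ∀ y : T, ρ y = y → y = 1) (C : Subgroup T) (hC : ∀ y : T, y ∈ C ↔ x y = y) :
    (∃ (F : Type) (_ : Field F) (_ : Fintype F), Fintype.card F = 4 ∧
        ∃ S : Sylow 2 (Matrix.ProjectiveSpecialLinearGroup (Fin 3) F), Nonempty (T ≃* ↥(S : Subgroup (Matrix.ProjectiveSpecialLinearGroup (Fin 3) F)))) ∧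
      (Nonempty (↥C ≃* DihedralGroup 4) ∨ Nonempty (↥C ≃* QuaternionGroup 2)) := by
  classical
  have : Fact (Nat.Prime 2) := ⟨Nat.prime_two⟩
  have hna' : ∃ a b : T, a * b ≠ b * a := by
    by_contra hcon
    push Not at hcon
    exact hna ⟨⟨hcon⟩⟩
  have h3 : ρ ^ 3 = 1 := by rw [← hρ]; exact pow_orderOf_eq_one ρ
  have h2 : x ^ 2 = 1 := by rw [← hx]; exact pow_orderOf_eq_one x
  obtain ⟨P, hZ4⟩ := Cfsg.Agent.Lib.Helper72.G4.pre_center hT hna' ρ h3 hfp
  have hxx : ∀ t : T, x (x t) = t := by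
    intro t
    rw [← Cfsg.Agent.Lib.Helper72.G4.aut_sq_apply, h2]; rfl
  have hcube := P.cube
  have hxρ : ∀ t : T, x (ρ t) = ρ (ρ (x t)) := by
    intro t
    have h1 : x * ρ = ρ⁻¹ * x := by rw [← hxr]; group
    have h4 : x (ρ t) = ρ⁻¹ (x t) := by
      have := congrArg (fun f : MulAut T => f t) h1
      simpa [MulAut.mul_apply] using this
    rw [h4]
    apply ρ.injective
    rw [hcube]
    exact MulAut.apply_inv_self T ρ (x t)
  have hZx : ∀ z ∈ Subgroup.center T, x z ∈ Subgroup.center T :=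
    Cfsg.Agent.Lib.Helper72.R2.center_invariant x
  have hZne : Subgroup.center T ≠ ⊥ := by
    intro e
    rw [e, Subgroup.card_bot] at hZ4
    omega
  obtain ⟨c, hcZ, hc1, hxc⟩ :=
    Cfsg.Agent.Lib.Helper72.G4.invol_fixed P.isP x h2 (Subgroup.center T) hZx hZne
  have hZsq := Cfsg.Agent.Lib.Helper72.G4.four_sq ρ h3 (Subgroup.center T) hZ4 P.inv
    (fun v _ hv => hfp v hv)
  have S : Cfsg.Agent.Lib.Helper72.G4.Sym ρ x (Subgroup.center T) c :=
    { pre := P, cardZ := hZ4, Zsq := hZsq, xx := hxx, xρ := hxρ, c_mem := hcZ, c_ne := hc1,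
      xc := hxc }
  refine ⟨?_, S.fix_equiv hT hna' C hC⟩
  obtain ⟨a, b, g, hbb⟩ := S.exists_gens hna'
  let _ : Fintype (GaloisField 2 2) := Fintype.ofFinite _
  have hc : Fintype.card (GaloisField 2 2) = 4 := by
    rw [Fintype.card_eq_nat_card, GaloisField.card 2 2 (by norm_num)]
    norm_num
  exact ⟨GaloisField 2 2, inferInstance, inferInstance, hc, default, g.equiv_L hbb hc _⟩

end Cfsg.Agent.S3157
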