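import Cfsg.Statements.S3158
import Cfsg.Agent.Lib.Helper59.PGroupCenter

set_option autoImplicit false
open Cfsg

namespace Cfsg.Agent.S3158

open Cfsg.Agent.Lib.Helper59

/-- Let U be a group of order q² with q = 2^n ≥ 2, and y an automorphism of U of order q − 1 all of whose nontrivial powers fix only the identity. Let V be a proper normal y-invariant subgroup of U such that V and U/V are elementary abelian 2-groups and there is an isomorphism from V to U/V commuting with the actions of y. Then U is abelian. -/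
theorem result {U : Type*} [Group U] [Finite U] (n : ℕ) (hn : 1 ≤ n) (hU : Nat.card U = (2 ^ n) ^ 2)
    (y : MulAut U) (hy : orderOf y = 2 ^ n - 1) (hfp : ∀ k : ℕ, y ^ k ≠ 1 → ∀ u : U, (y ^ k) u = u → u = 1)
    (V : Subgroup U) [V.Normal] (hV : V ≠ ⊤) (hyV : ∀ v ∈ V, y v ∈ V)
    (hVe : ∀ v ∈ V, v ^ 2 = 1) (hQe : ∀ u : U, u ^ 2 ∈ V) (hQc : ∀ u w : U, u * w * u⁻¹ * w⁻¹ ∈ V)
    (φ : ↥V ≃* U ⧸ V) (hφ : ∀ (v : ↥V) (u : U), (QuotientGroup.mk u : U ⧸ V) = φ v → φ ⟨y v, hyV v v.2⟩ = QuotientGroup.mk (y u)) :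
    IsMulCommutative U := by
  classical
  haveI : Fact (Nat.Prime 2) := ⟨Nat.prime_two⟩
  letI : Fintype ↥V := Fintype.ofFinite _
  have hq2 : 2 ≤ 2 ^ n := by
    calc 2 = 2 ^ 1 := by norm_num
      _ ≤ 2 ^ n := Nat.pow_le_pow_right (by norm_num) hn
  -- card V
  have hcardV : Nat.card V = 2 ^ n := by
    have h1 := Subgroup.card_eq_card_quotient_mul_card_subgroup V
    have h2 : Nat.card (U ⧸ V) = Nat.card V := (Nat.card_congr φ.toEquiv).symm
    rw [h2, hU, ← sq] at h1
    exact (Nat.pow_left_injective (by norm_num : 2 ≠ 0) h1).symm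
  have hUp : IsPGroup 2 U := IsPGroup.of_card (n := 2 * n) (by rw [hU, ← pow_mul, mul_comm])
  -- powers of y preserve V
  have hyVk : ∀ k : ℕ, ∀ v ∈ V, (y ^ k) v ∈ V := by
    intro k
    induction k with
    | zero => intro v hv; simpa using hv
    | succ k ih =>
      intro v hv
      rw [pow_succ, MulAut.mul_apply]
      exact ih _ (hyV v hv)
  -- transitivity on V - 1
  have htrans : ∀ v₀ ∈ V, v₀ ≠ 1 → ∀ v ∈ V, v ≠ 1 → ∃ k : ℕ, (y ^ k) v₀ = v := by
    intro v₀ hv₀ hv₀1 v hv hv1
    let f : Fin (2 ^ n - 1) → ↥V := fun k => ⟨(y ^ (k : ℕ)) v₀, hyVk k v₀ hv₀⟩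
    have hf : Function.Injective f := by
      intro k l hkl
      have hkl' : (y ^ (k : ℕ)) v₀ = (y ^ (l : ℕ)) v₀ := congrArg Subtype.val hkl
      by_contra hne
      have key : ∀ a b : ℕ, a < b → b < 2 ^ n - 1 → (y ^ a) v₀ = (y ^ b) v₀ → False := by
        intro a b hab hb heq
        have h1 : y ^ b = y ^ a * y ^ (b - a) := by
          rw [← pow_add]; congr 1; omega
        rw [h1, MulAut.mul_apply] at heq
        have h2 : (y ^ (b - a)) v₀ = v₀ := ((y ^ a).injective heq).symm
        have h3 : y ^ (b - a) ≠ 1 := by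
          apply pow_ne_one_of_lt_orderOf (by omega)
          rw [hy]; omega
        exact hv₀1 (hfp _ h3 v₀ h2)
      rcases Nat.lt_or_gt_of_ne (fun h => hne (Fin.ext h)) with h | h
      · exact key k l h l.2 hkl'
      · exact key l k h k.2 hkl'.symm
    let T : Finset ↥V := Finset.univ.image f
    have hTcard : T.card = 2 ^ n - 1 := by
      rw [Finset.card_image_of_injective _ hf]; simp
    have hTsub : T ⊆ Finset.univ.erase (1 : ↥V) := by
      intro w hw
      rw [Finset.mem_image] at hw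
      obtain ⟨k, _, rfl⟩ := hw
      rw [Finset.mem_erase]
      refine ⟨?_, Finset.mem_univ _⟩
      intro h1
      have : (y ^ (k : ℕ)) v₀ = 1 := congrArg Subtype.val h1
      have : v₀ = 1 := by
        have h2 : (y ^ (k : ℕ)) v₀ = (y ^ (k : ℕ)) 1 := by rw [this, map_one]
        exact (y ^ (k : ℕ)).injective h2
      exact hv₀1 this
    have hEcard : (Finset.univ.erase (1 : ↥V)).card = 2 ^ n - 1 := by
      rw [Finset.card_erase_of_mem (Finset.mem_univ _), Finset.card_univ, ← Nat.card_eq_fintype_card, hcardV]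
    have hTeq : T = Finset.univ.erase (1 : ↥V) :=
      Finset.eq_of_subset_of_card_le hTsub (by rw [hTcard, hEcard])
    have hvmem : (⟨v, hv⟩ : ↥V) ∈ Finset.univ.erase (1 : ↥V) := by
      rw [Finset.mem_erase]
      refine ⟨?_, Finset.mem_univ _⟩
      intro h; exact hv1 (congrArg Subtype.val h)
    rw [← hTeq, Finset.mem_image] at hvmem
    obtain ⟨k, _, hk⟩ := hvmem
    exact ⟨k, congrArg Subtype.val hk⟩
  -- V ≠ ⊥
  have hVbot : V ≠ ⊥ := by
    intro h
    have : Nat.card V = 1 := by rw [h]; exact Subgroup.card_bot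
    rw [hcardV] at this
    omega
  obtain ⟨v₀, hv₀, hv₀c, hv₀1⟩ := exists_mem_center_of_normal_ne_bot hUp V hVbot
  -- V is central
  have hVc : ∀ v ∈ V, ∀ g : U, g * v = v * g := by
    intro v hv g
    by_cases hv1 : v = 1
    · rw [hv1]; simp
    · obtain ⟨k, rfl⟩ := htrans v₀ hv₀ hv₀1 v hv hv1
      rw [Subgroup.mem_center_iff] at hv₀c
      have h1 := hv₀c ((y ^ k).symm g)
      have h2 := congrArg (y ^ k) h1
      rw [map_mul, map_mul, MulEquiv.apply_symm_apply] at h2
      exact h2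
  -- equivariance for powers
  have hφk : ∀ k : ℕ, ∀ (v : ↥V) (u : U), (QuotientGroup.mk u : U ⧸ V) = φ v →
      φ ⟨(y ^ k) v, hyVk k v v.2⟩ = QuotientGroup.mk ((y ^ k) u) := by
    intro k
    induction k with
    | zero => intro v u h; simpa using h.symm
    | succ k ih =>
      intro v u h
      have h1 := ih v u h
      have h2 := hφ ⟨(y ^ k) v, hyVk k v v.2⟩ ((y ^ k) u) h1.symm
      have e1 : (y ^ (k + 1)) (v : U) = y ((y ^ k) v) := by
        rw [pow_succ', MulAut.mul_apply]
      have e2 : (y ^ (k + 1)) u = y ((y ^ k) u) := by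
        rw [pow_succ', MulAut.mul_apply]
      simp only [e1, e2]
      exact h2
  obtain ⟨u₀, hu₀⟩ := QuotientGroup.mk_surjective (φ ⟨v₀, hv₀⟩)
  -- squares outside V
  have hsq : ∀ u : U, u ∉ V → ∃ i : ℕ, (y ^ i) v₀ = ((φ.symm (QuotientGroup.mk u) : ↥V) : U) ∧
      u ^ 2 = (y ^ i) (u₀ ^ 2) := by
    intro u hu
    set v := φ.symm (QuotientGroup.mk u : U ⧸ V) with hvdef
    have hv1 : (v : U) ≠ 1 := by
      intro h
      have h1 : v = 1 := Subtype.ext h
      have h2 : (QuotientGroup.mk u : U ⧸ V) = φ v := by rw [hvdef]; simp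
      rw [h1, map_one] at h2
      exact hu ((QuotientGroup.eq_one_iff u).mp h2)
    obtain ⟨i, hi⟩ := htrans v₀ hv₀ hv₀1 v v.2 hv1
    refine ⟨i, hi, ?_⟩
    have h1 := hφk i ⟨v₀, hv₀⟩ u₀ hu₀
    have h2 : (⟨(y ^ i) v₀, hyVk i v₀ hv₀⟩ : ↥V) = v := Subtype.ext hi
    simp only at h1
    rw [h2] at h1
    have h3 : φ v = (QuotientGroup.mk u : U ⧸ V) := by rw [hvdef]; simp
    rw [h3] at h1
    have hz : ((y ^ i) u₀)⁻¹ * u ∈ V := QuotientGroup.eq.mp h1.symm
    set z := ((y ^ i) u₀)⁻¹ * u with hzdef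
    have hu' : u = (y ^ i) u₀ * z := by rw [hzdef]; group
    have hz2 : z * z = 1 := by rw [← sq]; exact hVe z hz
    rw [hu', sq, map_pow, sq]
    calc (y ^ i) u₀ * z * ((y ^ i) u₀ * z) = (y ^ i) u₀ * (z * (y ^ i) u₀) * z := by group
      _ = (y ^ i) u₀ * ((y ^ i) u₀ * z) * z := by rw [hVc z hz ((y ^ i) u₀)]
      _ = (y ^ i) u₀ * (y ^ i) u₀ * (z * z) := by group
      _ = (y ^ i) u₀ * (y ^ i) u₀ := by rw [hz2, mul_one]
  -- conclude commutativity from multiplicativity of squaring
  have hfinal : (∀ u w : U, (u * w) ^ 2 = u ^ 2 * w ^ 2) → IsMulCommutative U := by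
    intro h
    rw [isMulCommutative_iff]
    intro u w
    have h1 := h u w
    simp only [sq] at h1
    have h2 : u * (w * u) * w = u * (u * w) * w := by
      calc u * (w * u) * w = u * w * (u * w) := by group
        _ = u * u * (w * w) := h1
        _ = u * (u * w) * w := by group
    have h3 := mul_right_cancel h2
    exact (mul_left_cancel h3).symm
  apply hfinal
  by_cases hA : u₀ ^ 2 = 1
  · -- everything squares to 1
    have hall : ∀ u : U, u ^ 2 = 1 := by
      intro u
      by_cases hu : u ∈ V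
      · exact hVe u hu
      · obtain ⟨i, _, hi⟩ := hsq u hu
        rw [hi, hA, map_one]
    intro u w
    rw [hall, hall, hall, one_mul]
  · obtain ⟨j, hj⟩ := htrans v₀ hv₀ hv₀1 (u₀ ^ 2) (hQe u₀) hA
    let g : U →* U := ((y ^ j : MulAut U).toMonoidHom).comp
      (V.subtype.comp (φ.symm.toMonoidHom.comp (QuotientGroup.mk' V)))
    have hg : ∀ u : U, u ^ 2 = g u := by
      intro u
      by_cases hu : u ∈ V
      · have h1 : (QuotientGroup.mk u : U ⧸ V) = 1 := (QuotientGroup.eq_one_iff u).mpr hu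
        have : g u = 1 := by
          simp only [g, MonoidHom.comp_apply, QuotientGroup.mk'_apply, h1, map_one]
        rw [this]; exact hVe u hu
      · obtain ⟨i, hi1, hi2⟩ := hsq u hu
        have : g u = (y ^ j) ((φ.symm (QuotientGroup.mk u) : ↥V) : U) := rfl
        rw [this, ← hi1, hi2, ← hj]
        have hcomm : y ^ i * y ^ j = y ^ j * y ^ i := by
          rw [← pow_add, ← pow_add, add_comm]
        have := congrArg (fun a : MulAut U => a v₀) hcomm
        simpa [MulAut.mul_apply] using this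
    intro u w
    rw [hg, hg, hg, map_mul]

end Cfsg.Agent.S3158
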