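import Cfsg.Statements.S3163
import Cfsg.Agent.Lib.Helper59.Basic

set_option autoImplicit false
open Cfsg

namespace Cfsg.Agent.S3163

open Cfsg.Agent.Lib.Helper59

/-- Let S be a non-abelian finite 2-group which is the product S = AB of two elementary abelian subgroups A and B, and suppose that the centralizer in S of every element of A outside B is exactly A. Then the centralizer of every element of B outside A is exactly B; A and B are maximal elementary abelian subgroups of S and the only ones; the centre of S is A ∩ B; and every element of S outside A ∪ B has centralizer of order at most min(|A|, |B|). -/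
theorem result {S : Type*} [Group S] [Finite S] (hS : IsPGroup 2 S) (hna : ¬ IsMulCommutative S) (A B : Subgroup S)
    (hA : Cfsg.IsElementaryAbelian 2 A) (hB : Cfsg.IsElementaryAbelian 2 B) (hAB : ∀ s : S, ∃ a ∈ A, ∃ b ∈ B, s = a * b)
    (hC : ∀ a ∈ A, a ∉ B → Subgroup.centralizer ({a} : Set S) = A) :
    (∀ b ∈ B, b ∉ A → Subgroup.centralizer ({b} : Set S) = B) ∧
      (∀ E : Subgroup S, Cfsg.IsElementaryAbelian 2 E → (∀ E' : Subgroup S, Cfsg.IsElementaryAbelian 2 E' → E ≤ E' → E' = E) → E = A ∨ E = B) ∧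
      (∀ E' : Subgroup S, Cfsg.IsElementaryAbelian 2 E' → A ≤ E' → E' = A) ∧ (∀ E' : Subgroup S, Cfsg.IsElementaryAbelian 2 E' → B ≤ E' → E' = B) ∧
      Subgroup.center S = A ⊓ B ∧
      (∀ x : S, x ∉ A → x ∉ B → Nat.card ↥(Subgroup.centralizer ({x} : Set S)) ≤ min (Nat.card ↥A) (Nat.card ↥B)) := by
  classical
  obtain ⟨hAc, hA2⟩ := hA
  obtain ⟨hBc, hB2⟩ := hB
  -- commutativity inside A and B
  have cA : ∀ x ∈ A, ∀ y ∈ A, x * y = y * x := by
    intro x hx y hy
    have := (isMulCommutative_iff.mp hAc) ⟨x, hx⟩ ⟨y, hy⟩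
    exact congrArg Subtype.val this
  have cB : ∀ x ∈ B, ∀ y ∈ B, x * y = y * x := by
    intro x hx y hy
    have := (isMulCommutative_iff.mp hBc) ⟨x, hx⟩ ⟨y, hy⟩
    exact congrArg Subtype.val this
  have memC : ∀ (x y : S), y ∈ Subgroup.centralizer ({x} : Set S) ↔ x * y = y * x := by
    intro x y
    rw [Subgroup.mem_centralizer_iff]
    simp
  -- A not ≤ B, B not ≤ A
  have hAnB : ¬ A ≤ B := by
    intro hle
    apply hna
    rw [isMulCommutative_iff]
    intro s t
    obtain ⟨a, ha, b, hb, rfl⟩ := hAB s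
    obtain ⟨a', ha', b', hb', rfl⟩ := hAB t
    exact cB _ (B.mul_mem (hle ha) hb) _ (B.mul_mem (hle ha') hb')
  have hBnA : ¬ B ≤ A := by
    intro hle
    apply hna
    rw [isMulCommutative_iff]
    intro s t
    obtain ⟨a, ha, b, hb, rfl⟩ := hAB s
    obtain ⟨a', ha', b', hb', rfl⟩ := hAB t
    exact cA _ (A.mul_mem ha (hle hb)) _ (A.mul_mem ha' (hle hb'))
  obtain ⟨a₀, ha₀, ha₀B⟩ := SetLike.not_le_iff_exists.mp hAnB
  obtain ⟨b₀, hb₀, hb₀A⟩ := SetLike.not_le_iff_exists.mp hBnA
  -- (1)
  have h1 : ∀ b ∈ B, b ∉ A → Subgroup.centralizer ({b} : Set S) = B := by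
    intro b hb hbA
    apply le_antisymm
    · intro x hx
      rw [memC] at hx
      obtain ⟨a, ha, b', hb', rfl⟩ := hAB x
      have hab : b * a = a * b := by
        have h1 : b * (a * b') = a * b' * b := hx
        have h2 : b' * b = b * b' := cB _ hb' _ hb
        have : b * a * b' = a * b * b' := by
          rw [mul_assoc, h1, mul_assoc, h2, mul_assoc]
        exact mul_right_cancel this
      by_cases haB : a ∈ B
      · exact B.mul_mem haB hb'
      · exfalso
        have := hC a ha haB
        have hbmem : b ∈ Subgroup.centralizer ({a} : Set S) := by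
          rw [memC]; exact hab.symm
        rw [this] at hbmem
        exact hbA hbmem
    · intro x hx
      rw [memC]
      exact cB _ hb _ hx
  -- involutions lie in A ∪ B
  have hinv : ∀ x : S, x ^ 2 = 1 → x ∈ A ∨ x ∈ B := by
    intro x hx
    by_contra hcon
    push Not at hcon
    obtain ⟨hxA, hxB⟩ := hcon
    obtain ⟨a, ha, b, hb, rfl⟩ := hAB x
    have haB : a ∉ B := fun h => hxB (B.mul_mem h hb)
    have hbA : b ∉ A := fun h => hxA (A.mul_mem ha h)
    have ha2 := hA2 a ha
    have hb2 := hB2 b hb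
    have hab : a * b = b * a := by
      have h1 : a * b * (a * b) = 1 := by rw [← sq]; exact hx
      have h2 : a * a = 1 := by rw [← sq]; exact ha2
      have h3 : b * b = 1 := by rw [← sq]; exact hb2
      calc a * b = a * b * (a * b * (b * a)) := by
            have : a * b * (b * a) = 1 := by
              rw [mul_assoc, ← mul_assoc b b a, h3, one_mul, h2]
            rw [this, mul_one]
        _ = (a * b * (a * b)) * (b * a) := by group
        _ = b * a := by rw [h1, one_mul]
    have hbmem : b ∈ Subgroup.centralizer ({a} : Set S) := by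
      rw [memC]; exact hab
    rw [hC a ha haB] at hbmem
    exact hbA hbmem
  -- elementary abelian subgroups lie in A or B
  have hEle : ∀ E : Subgroup S, Cfsg.IsElementaryAbelian 2 E → E ≤ A ∨ E ≤ B := by
    intro E hE
    by_contra hcon
    push Not at hcon
    obtain ⟨hEA, hEB⟩ := hcon
    obtain ⟨x, hxE, hxA⟩ := SetLike.not_le_iff_exists.mp hEA
    obtain ⟨y, hyE, hyB⟩ := SetLike.not_le_iff_exists.mp hEB
    have hxB : x ∈ B := by
      rcases hinv x (hE.2 x hxE) with h | h
      · exact absurd h hxA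
      · exact h
    have hyA : y ∈ A := by
      rcases hinv y (hE.2 y hyE) with h | h
      · exact h
      · exact absurd h hyB
    rcases hinv (x * y) (hE.2 _ (E.mul_mem hxE hyE)) with h | h
    · apply hxA
      have := A.mul_mem h (A.inv_mem hyA)
      simpa using this
    · apply hyB
      have := B.mul_mem (B.inv_mem hxB) h
      simpa using this
  have hAE : Cfsg.IsElementaryAbelian 2 A := ⟨hAc, hA2⟩
  have hBE : Cfsg.IsElementaryAbelian 2 B := ⟨hBc, hB2⟩
  -- (3), (4)
  have h3 : ∀ E' : Subgroup S, Cfsg.IsElementaryAbelian 2 E' → A ≤ E' → E' = A := by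
    intro E' hE' hle
    rcases hEle E' hE' with h | h
    · exact le_antisymm h hle
    · exact absurd (hle.trans h) hAnB
  have h4 : ∀ E' : Subgroup S, Cfsg.IsElementaryAbelian 2 E' → B ≤ E' → E' = B := by
    intro E' hE' hle
    rcases hEle E' hE' with h | h
    · exact absurd (hle.trans h) hBnA
    · exact le_antisymm h hle
  -- (5)
  have h5 : Subgroup.center S = A ⊓ B := by
    apply le_antisymm
    · intro z hz
      rw [Subgroup.mem_center_iff] at hz
      have hzA : z ∈ A := by
        have : z ∈ Subgroup.centralizer ({a₀} : Set S) := by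
          rw [memC]; exact (hz a₀)
        rwa [hC a₀ ha₀ ha₀B] at this
      have hzB : z ∈ B := by
        have : z ∈ Subgroup.centralizer ({b₀} : Set S) := by
          rw [memC]; exact (hz b₀)
        rwa [h1 b₀ hb₀ hb₀A] at this
      exact ⟨hzA, hzB⟩
    · rintro z ⟨hzA, hzB⟩
      rw [Subgroup.mem_center_iff]
      intro s
      obtain ⟨a, ha, b, hb, rfl⟩ := hAB s
      rw [mul_assoc, cB b hb z hzB, ← mul_assoc, cA a ha z hzA, mul_assoc]
  refine ⟨h1, ?_, h3, h4, h5, ?_⟩
  · -- (2)
    intro E hE hmax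
    rcases hEle E hE with h | h
    · left; exact (hmax A hAE h).symm
    · right; exact (hmax B hBE h).symm
  · -- (6)
    intro x hxA hxB
    obtain ⟨a, ha, b, hb, rfl⟩ := hAB x
    have haB : a ∉ B := fun h => hxB (B.mul_mem h hb)
    have hbA : b ∉ A := fun h => hxA (A.mul_mem ha h)
    set C := Subgroup.centralizer ({a * b} : Set S) with hCdef
    have hCA : C ⊓ A ≤ A ⊓ B := by
      intro a' ha'
      obtain ⟨ha'C, ha'A⟩ := Subgroup.mem_inf.mp ha'
      refine Subgroup.mem_inf.mpr ⟨ha'A, ?_⟩
      rw [hCdef, memC] at ha'C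
      by_contra ha'B
      have hcomm : a' * b = b * a' := by
        have h1 : a * b * a' = a' * (a * b) := ha'C
        have h2 : a' * a = a * a' := cA _ ha'A _ ha
        have : a * (b * a') = a * (a' * b) := by
          rw [← mul_assoc, h1, ← mul_assoc, h2, mul_assoc]
        exact (mul_left_cancel this).symm
      have hbmem : b ∈ Subgroup.centralizer ({a'} : Set S) := by
        rw [memC]; exact hcomm
      rw [hC a' ha'A ha'B] at hbmem
      exact hbA hbmem
    have hCB : C ⊓ B ≤ A ⊓ B := by
      intro b' hb'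
      obtain ⟨hb'C, hb'B⟩ := Subgroup.mem_inf.mp hb'
      refine Subgroup.mem_inf.mpr ⟨?_, hb'B⟩
      rw [hCdef, memC] at hb'C
      by_contra hb'A
      have hcomm : b' * a = a * b' := by
        have h1 : a * b * b' = b' * (a * b) := hb'C
        have h2 : b * b' = b' * b := cB _ hb _ hb'B
        have : a * b' * b = b' * a * b := by
          rw [mul_assoc, ← h2, ← mul_assoc, h1, mul_assoc]
        exact (mul_right_cancel this).symm
      have hamem : a ∈ Subgroup.centralizer ({b'} : Set S) := by
        rw [memC]; exact hcomm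
      rw [h1 b' hb'B hb'A] at hamem
      exact haB hamem
    have hpA : 0 < Nat.card ↥A := Nat.card_pos
    have hpB : 0 < Nat.card ↥B := Nat.card_pos
    have hge := card_mul_card_ge A B hAB
    have e1 := card_mul_card_le C A
    have e2 := card_mul_card_le C B
    have l1 : Nat.card ↥(C ⊓ A) ≤ Nat.card ↥(A ⊓ B) := Subgroup.card_le_of_le hCA
    have l2 : Nat.card ↥(C ⊓ B) ≤ Nat.card ↥(A ⊓ B) := Subgroup.card_le_of_le hCB
    apply le_min
    · -- |C| ≤ |A|
      have : Nat.card ↥C * Nat.card ↥B ≤ Nat.card ↥A * Nat.card ↥B :=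
        calc Nat.card ↥C * Nat.card ↥B ≤ Nat.card S * Nat.card ↥(C ⊓ B) := e2
          _ ≤ Nat.card S * Nat.card ↥(A ⊓ B) := Nat.mul_le_mul_left _ l2
          _ ≤ Nat.card ↥A * Nat.card ↥B := hge
      exact Nat.le_of_mul_le_mul_right this hpB
    · have : Nat.card ↥C * Nat.card ↥A ≤ Nat.card ↥B * Nat.card ↥A :=
        calc Nat.card ↥C * Nat.card ↥A ≤ Nat.card S * Nat.card ↥(C ⊓ A) := e1
          _ ≤ Nat.card S * Nat.card ↥(A ⊓ B) := Nat.mul_le_mul_left _ l1
          _ ≤ Nat.card ↥A * Nat.card ↥B := hge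
          _ = Nat.card ↥B * Nat.card ↥A := Nat.mul_comm _ _
      exact Nat.le_of_mul_le_mul_right this hpA

end Cfsg.Agent.S3163
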