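import Cfsg.Statements.S3166
import Mathlib

set_option autoImplicit false
open Cfsg

namespace Cfsg.Agent.S3166

lemma odd_pow_form (y : ℕ) (hy : Even y) (j : ℕ) :
    ∃ g : ℕ, Odd g ∧ (y + 1) ^ (2 * j + 1) = 1 + y * g := by
  induction j with
  | zero => exact ⟨1, odd_one, by ring⟩
  | succ j ih =>
    obtain ⟨g, hg, hj⟩ := ih
    refine ⟨(y + 2) + (y + 1) ^ 2 * g, ?_, ?_⟩
    · have h1 : Even (y + 2) := hy.add even_two
      have h2 : Odd ((y + 1) ^ 2 * g) := ((hy.add_odd odd_one).pow).mul hg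
      exact h1.add_odd h2
    · have : (y + 1) ^ (2 * (j + 1) + 1) = (y + 1) ^ 2 * (y + 1) ^ (2 * j + 1) := by ring
      rw [this, hj]; ring

lemma cube_case (q t : ℕ) (hq : 2 ≤ q) (ht : 1 ≤ t)
    (key : (q * t + 1) ^ 3 + q ^ 3 + q = q ^ 4 + q ^ 2 + 1) : False := by
  have hq0 : 0 < q := by omega
  have key3 : q ^ 2 * t ^ 3 + 3 * q * t ^ 2 + 3 * t + q ^ 2 + 1 = q ^ 3 + q := by
    apply Nat.eq_of_mul_eq_mul_left hq0
    ring_nf
    ring_nf at key
    omega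
  have hdvd : q ∣ 3 * t + 1 := by
    have : ((q : ℕ) : ℤ) ∣ ((3 * t + 1 : ℕ) : ℤ) := by
      refine ⟨(q : ℤ) ^ 2 + 1 - q * t ^ 3 - 3 * t ^ 2 - q, ?_⟩
      have := congrArg (fun x : ℕ => (x : ℤ)) key3
      push_cast at this ⊢
      linarith
    exact Int.natCast_dvd_natCast.mp this
  have hle : q ≤ 3 * t + 1 := Nat.le_of_dvd (by omega) hdvd
  have ht3 : t ^ 3 < q := by
    by_contra hcon
    have hcon : q ≤ t ^ 3 := not_lt.mp hcon
    have : q ^ 2 * q ≤ q ^ 2 * t ^ 3 := Nat.mul_le_mul_left _ hcon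
    nlinarith
  have ht1 : t = 1 := by
    have : t ^ 3 < 3 * t + 1 := lt_of_lt_of_le ht3 hle
    by_contra hne
    have : 2 ≤ t := by omega
    nlinarith
  subst ht1
  have : q ≤ 4 := by omega
  interval_cases q <;> omega

/-- Let q = 2^n with n ≥ 1. If q⁴ − q³ + q² − q + 1 is a power p^m of a prime p, then m = 1: the value is never a prime power with exponent greater than 1. -/
theorem result (n p m : ℕ) (hn : 1 ≤ n) (hp : p.Prime) (h : (2 ^ n) ^ 4 - (2 ^ n) ^ 3 + (2 ^ n) ^ 2 - 2 ^ n + 1 = p ^ m) : m = 1 := by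
  obtain ⟨k, rfl⟩ : ∃ k, n = k + 1 := ⟨n - 1, by omega⟩
  have hq : 2 ^ (k + 1) = 2 * 2 ^ k := by rw [pow_succ]; ring
  rw [hq] at h
  have hh1 : 1 ≤ 2 ^ k := Nat.one_le_two_pow
  generalize hh0 : 2 ^ k = h0 at *
  -- key identity
  have key : p ^ m + (2 * h0) ^ 3 + 2 * h0 = (2 * h0) ^ 4 + (2 * h0) ^ 2 + 1 := by
    have h1 : (2 * h0) ^ 3 ≤ (2 * h0) ^ 4 := Nat.pow_le_pow_right (by omega) (by norm_num)
    have h2 : 2 * h0 ≤ (2 * h0) ^ 2 := by nlinarith
    omega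
  -- m ≠ 0
  have hm0 : m ≠ 0 := by
    rintro rfl
    simp only [pow_zero] at key
    nlinarith [pow_pos (show 0 < h0 by omega) 2, pow_pos (show 0 < h0 by omega) 3,
      Nat.mul_le_mul_left (2 * h0) hh1]
  -- p odd
  have hpodd : Odd p := by
    rcases hp.eq_two_or_odd' with rfl | hodd
    · exfalso
      obtain ⟨m', rfl⟩ : ∃ m', m = m' + 1 := ⟨m - 1, by omega⟩
      rw [pow_succ] at key
      have : (2 ^ m' * 2 + (2 * h0) ^ 3 + 2 * h0) % 2 = ((2 * h0) ^ 4 + (2 * h0) ^ 2 + 1) % 2 := by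
        rw [key]
      ring_nf at this
      omega
    · exact hodd
  -- m is odd
  have hmodd : Odd m := by
    by_contra hne
    rw [Nat.not_odd_iff_even] at hne
    obtain ⟨j, rfl⟩ := hne
    rw [← two_mul, pow_mul'] at key
    set s := p ^ j with hs
    have key' : (s : ℤ) ^ 2 = 16 * (h0 : ℤ) ^ 4 - 8 * h0 ^ 3 + 4 * h0 ^ 2 - 2 * h0 + 1 := by
      have := congrArg (fun x : ℕ => (x : ℤ)) key
      push_cast at this
      linarith
    have hhz : (1 : ℤ) ≤ h0 := by exact_mod_cast hh1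
    have hs0 : (0 : ℤ) ≤ s := by positivity
    have h1 : (4 * (h0 : ℤ) ^ 2 - h0) < s := by
      by_contra hle
      have hle : (s : ℤ) ≤ 4 * (h0 : ℤ) ^ 2 - h0 := not_lt.mp hle
      have : (s : ℤ) ^ 2 ≤ (4 * (h0 : ℤ) ^ 2 - h0) ^ 2 := by
        apply pow_le_pow_left₀ hs0 hle
      nlinarith
    have h2 : (4 * (h0 : ℤ) ^ 2 - h0 + 1) ≤ s := by omega
    have h3 : (4 * (h0 : ℤ) ^ 2 - h0 + 1) ^ 2 ≤ (s : ℤ) ^ 2 := by
      apply pow_le_pow_left₀ (by nlinarith) h2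
    nlinarith
  obtain ⟨j, rfl⟩ := hmodd
  -- p = y + 1 with y even
  obtain ⟨y, rfl⟩ : ∃ y, p = y + 1 := ⟨p - 1, by have := hp.two_le; omega⟩
  have hy : Even y := by
    rcases Nat.even_or_odd y with h | h
    · exact h
    · exfalso
      have : Even (y + 1) := h.add_odd odd_one
      exact (Nat.not_odd_iff_even.mpr this) hpodd
  obtain ⟨g, hg, hpg⟩ := odd_pow_form y hy j
  have key2 := key
  rw [hpg] at key2
  -- 2 * h0 ∣ y
  have hdvd : 2 * h0 ∣ y := by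
    have h1 : 2 * h0 ∣ y * g + ((2 * h0) ^ 3 + 2 * h0) := by
      have : y * g + ((2 * h0) ^ 3 + 2 * h0) = 2 * h0 * ((2 * h0) ^ 3 + 2 * h0) := by
        ring_nf; ring_nf at key2; omega
      rw [this]; exact Dvd.intro _ rfl
    have h2 : 2 * h0 ∣ (2 * h0) ^ 3 + 2 * h0 := ⟨(2 * h0) ^ 2 + 1, by ring⟩
    have h3 : 2 * h0 ∣ y * g := (Nat.dvd_add_left h2).mp h1
    have hcop : Nat.Coprime (2 * h0) g := by
      rw [← hh0, ← pow_succ']
      apply Nat.Coprime.pow_left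
      exact Nat.coprime_two_left.mpr hg
    exact hcop.dvd_of_dvd_mul_right h3
  obtain ⟨t, rfl⟩ := hdvd
  have ht : 1 ≤ t := by
    rcases Nat.eq_zero_or_pos t with rfl | h
    · exfalso; simp at hp; exact Nat.not_prime_one hp
    · exact h
  -- j ≤ 1
  have hj : j ≤ 1 := by
    by_contra hj
    have hj : 2 ≤ j := by omega
    have h1 : (2 * h0 + 1) ^ 4 ≤ (2 * h0 * t + 1) ^ (2 * j + 1) := by
      calc (2 * h0 + 1) ^ 4 ≤ (2 * h0 * t + 1) ^ 4 := by
            apply Nat.pow_le_pow_left; nlinarith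
        _ ≤ (2 * h0 * t + 1) ^ (2 * j + 1) := by
            apply Nat.pow_le_pow_right (by omega) (by omega)
    nlinarith [pow_pos (show 0 < h0 by omega) 2, pow_pos (show 0 < h0 by omega) 3]
  interval_cases j
  · rfl
  · exfalso
    exact cube_case (2 * h0) t (by omega) ht key

end Cfsg.Agent.S3166
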