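import Cfsg.Statements.S3178
import Cfsg.Agent.Lib.Helper60.ThompsonTransfer
import Cfsg.Agent.Lib.Helper60.Modular
import Cfsg.Agent.Lib.Helper60.TwoComplement
-- import your own Cfsg.Agent.* helpers here

set_option autoImplicit false
open Cfsg

namespace Cfsg.Agent.S3178

open Cfsg.Agent.Lib.Helper60

/-- Groups with a modular Sylow 2-subgroup have a normal 2-complement. Let S, of order 2^(n+1) with n ≥ 3, be a Sylow 2-subgroup of a finite group G, and suppose S contains an element a of order 2^n and an involution b with b a b⁻¹ = a^(2^(n-1) + 1); so S is the non-abelian 2-group with a cyclic subgroup of index 2 that is neither dihedral, semidihedral nor generalized quaternion. Then G has a normal 2-complement. -/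
theorem result {G : Type*} [Group G] [Finite G]
    (S : Sylow 2 G) (n : ℕ) (hn : 3 ≤ n) (hS : Nat.card ↥(S : Subgroup G) = 2 ^ (n + 1))
    (a b : G) (ha : a ∈ (S : Subgroup G)) (hb : b ∈ (S : Subgroup G))
    (hao : orderOf a = 2 ^ n) (hbo : orderOf b = 2) (hrel : b * a * b⁻¹ = a ^ (2 ^ (n - 1) + 1)) :
    Cfsg.HasNormalPComplement 2 G := by
  have hp2 : Fact (Nat.Prime 2) := ⟨Nat.prime_two⟩
  -- Step 1: the structure of `S`
  have hao' : orderOf (⟨a, ha⟩ : ↥(S : Subgroup G)) = 2 ^ n := by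
    rw [Subgroup.orderOf_mk]; exact hao
  have hbo' : orderOf (⟨b, hb⟩ : ↥(S : Subgroup G)) = 2 := by
    rw [Subgroup.orderOf_mk]; exact hbo
  have hrel' : (⟨b, hb⟩ : ↥(S : Subgroup G)) * ⟨a, ha⟩ * (⟨b, hb⟩ : ↥(S : Subgroup G))⁻¹ =
      (⟨a, ha⟩ : ↥(S : Subgroup G)) ^ (2 ^ (n - 1) + 1) := by
    apply Subtype.ext
    simpa using hrel
  obtain ⟨ha2c, M', hM'idx, hM'ord, hM'pow⟩ :=
    modular_structure n hn hS ⟨a, ha⟩ ⟨b, hb⟩ hao' hbo' hrel'
  have hMrel : (M'.map (S : Subgroup G).subtype).relIndex (S : Subgroup G) = 2 := by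
    rw [Subgroup.relIndex, Subgroup.subgroupOf,
      Subgroup.comap_map_eq_self_of_injective (S : Subgroup G).subtype_injective]
    exact hM'idx
  have hord : ∀ y ∈ (S : Subgroup G), y ∉ M'.map (S : Subgroup G).subtype →
      2 ^ (n - 1) < orderOf y := by
    intro y hy hyM
    have h1 : (⟨y, hy⟩ : ↥(S : Subgroup G)) ∉ M' := fun h => hyM ⟨_, h, rfl⟩
    have h2 := hM'ord _ h1
    rwa [Subgroup.orderOf_mk] at h2
  have hlt : 2 ^ (n - 1) < 2 ^ n := Nat.pow_lt_pow_right (by norm_num) (by omega)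
  have hnc : ∀ g : G, g * a * g⁻¹ ∉ M'.map (S : Subgroup G).subtype := by
    rintro g ⟨m, hm, hmg⟩
    have h1 := hM'pow m hm
    have h2 : (g * a * g⁻¹) ^ (2 ^ (n - 1)) = 1 := by
      rw [← hmg, ← map_pow, h1, map_one]
    rw [conj_pow] at h2
    have h3 : a ^ (2 ^ (n - 1)) = 1 := by
      have := congrArg (fun x => g⁻¹ * x * g) h2
      simpa [mul_assoc] using this
    have h4 := orderOf_dvd_of_pow_eq_one h3
    rw [hao] at h4
    have := Nat.le_of_dvd (by positivity) h4
    omega
  obtain ⟨N, hNn, hNidx, haN⟩ :=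
    thompson_transfer_general S (M'.map (S : Subgroup G).subtype) hMrel n (by omega) hord a hao hnc
  -- Step 2: `N` has a normal 2-complement
  apply hasNormalPComplement_of_normal_of_index_pow N 1 (by rw [hNidx, pow_one])
  have ha2N : a ^ 2 ∈ N := Subgroup.sq_mem_of_index_two hNidx a
  have ha2S : a ^ 2 ∈ (S : Subgroup G) := Subgroup.pow_mem _ ha 2
  have hNrel : N.relIndex (S : Subgroup G) = 2 := by
    have h1 : N.relIndex (S : Subgroup G) ∣ 2 := by
      have h0 := Subgroup.relIndex_dvd_index_of_normal N (S : Subgroup G)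
      rwa [hNidx] at h0
    rcases (Nat.dvd_prime Nat.prime_two).mp h1 with h | h
    · exact absurd (Subgroup.relIndex_eq_one.mp h ha) haN
    · exact h
  have key : ∀ H K : Subgroup G, H.relIndex K * K.index = (H ⊓ K).index := by
    intro H K
    have := Subgroup.relIndex_inf_mul_relIndex H K ⊤
    simpa using this
  have hSrel : (S : Subgroup G).relIndex N = (S : Subgroup G).index := by
    have h1 := key (S : Subgroup G) N
    have h2 := key N (S : Subgroup G)
    rw [inf_comm] at h2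
    rw [hNidx] at h1
    rw [hNrel] at h2
    omega
  have hnd : ¬ 2 ∣ ((S : Subgroup G).subgroupOf N).index := by
    change ¬ 2 ∣ (S : Subgroup G).relIndex N
    rw [hSrel]; exact S.not_dvd_index
  have hP1card : Nat.card ↥((S : Subgroup G).subgroupOf N) = 2 ^ (n - 1 + 1) := by
    have hn1 : n - 1 + 1 = n := by omega
    rw [hn1]
    have h1 := ((S : Subgroup G).subgroupOf N).card_mul_index
    change _ * (S : Subgroup G).relIndex N = _ at h1
    rw [hSrel] at h1
    have h2 := N.card_mul_index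
    rw [hNidx] at h2
    have h3 := (S : Subgroup G).card_mul_index
    rw [hS] at h3
    have hpos : 0 < (S : Subgroup G).index := Nat.pos_of_ne_zero (fun h => S.not_dvd_index (h ▸ dvd_zero 2))
    have h4 : Nat.card ↥((S : Subgroup G).subgroupOf N) * (S : Subgroup G).index * 2 =
        2 ^ n * (S : Subgroup G).index * 2 := by
      rw [h1, h2, ← h3, pow_succ]; ring
    have h5 := Nat.eq_of_mul_eq_mul_right (by norm_num) h4
    exact Nat.eq_of_mul_eq_mul_right hpos h5
  set P₁ : Sylow 2 ↥N := (S.isPGroup'.comap_subtype (K := N)).toSylow hnd with hP₁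
  have hP₁coe : (P₁ : Subgroup ↥N) = (S : Subgroup G).subgroupOf N := rfl
  have hcmem : (⟨a ^ 2, ha2N⟩ : ↥N) ∈ (P₁ : Subgroup ↥N) := by
    rw [hP₁coe, Subgroup.mem_subgroupOf]; exact ha2S
  have ha2o : orderOf (a ^ 2) = 2 ^ (n - 1) := by
    rw [orderOf_pow_of_dvd (by norm_num) (by rw [hao]; exact dvd_pow_self 2 (by omega)), hao]
    have : 2 ^ n = 2 * 2 ^ (n - 1) := by rw [← pow_succ']; congr 1; omega
    rw [this]; simp
  have hco : orderOf (⟨a ^ 2, ha2N⟩ : ↥N) = 2 ^ (n - 1) := by
    rw [Subgroup.orderOf_mk]; exact ha2o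
  -- commutativity of `P₁`
  have hcommP : ∀ x y : ↥(P₁ : Subgroup ↥N), x * y = y * x := by
    apply comm_of_central_index_two (Subgroup.zpowers (⟨⟨a ^ 2, ha2N⟩, hcmem⟩ : ↥(P₁ : Subgroup ↥N)))
    · have h1 := (Subgroup.zpowers (⟨⟨a ^ 2, ha2N⟩, hcmem⟩ : ↥(P₁ : Subgroup ↥N))).card_mul_index
      rw [Nat.card_zpowers, Subgroup.orderOf_mk, hco] at h1
      have h2 : Nat.card ↥(P₁ : Subgroup ↥N) = 2 ^ (n - 1) * 2 := by
        rw [← pow_succ]; exact hP1card
      rw [h2] at h1
      exact Nat.eq_of_mul_eq_mul_left (by positivity) h1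
    · intro z hz t
      obtain ⟨j, rfl⟩ := Subgroup.mem_zpowers_iff.mp hz
      have htS : ((t : ↥N) : G) ∈ (S : Subgroup G) := by
        have h0 : (t : ↥N) ∈ (S : Subgroup G).subgroupOf N := t.2
        exact Subgroup.mem_subgroupOf.mp h0
      have h1 : a ^ 2 * ((t : ↥N) : G) = ((t : ↥N) : G) * a ^ 2 := by
        have := ha2c ⟨((t : ↥N) : G), htS⟩
        have := congrArg Subtype.val this
        simpa using this
      have h2 : Commute (⟨⟨a ^ 2, ha2N⟩, hcmem⟩ : ↥(P₁ : Subgroup ↥N)) t := by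
        apply Subtype.ext
        apply Subtype.ext
        simpa using h1
      exact (h2.zpow_left j).eq
  exact hasNormalPComplement_of_abelian_two P₁
    (fun x hx y hy => congrArg Subtype.val (hcommP ⟨x, hx⟩ ⟨y, hy⟩))
    (n - 1) (by omega) hP1card ⟨a ^ 2, ha2N⟩ hcmem hco

end Cfsg.Agent.S3178
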