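import Cfsg.Statements.S3180

set_option autoImplicit false
open Cfsg

namespace Cfsg.Agent.S3180

theorem map_conj_mem {J : Type*} [Group J] (H : Subgroup J) (g a : J) :
    a ∈ H.map (MulAut.conj g).toMonoidHom ↔ g⁻¹ * a * g ∈ H := by
  constructor
  · rintro ⟨b, hb, rfl⟩
    simpa [mul_assoc] using hb
  · intro h
    exact ⟨g⁻¹ * a * g, h, by simp [mul_assoc]⟩

/-- Let P be a Sylow p-subgroup of a finite group J and P₁ a subgroup of P that is weakly closed in P with respect to J. If J acts on a set and two points, each fixed by every element of P₁, lie in one J-orbit, then they lie in one orbit of the normalizer of P₁ in J. -/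
theorem result {J : Type*} [Group J] [Finite J]
    {p : ℕ} [Fact p.Prime] (P : Sylow p J) (P₁ : Subgroup J) (hW : Cfsg.IsWeaklyClosed P₁ (P : Subgroup J))
    {Ω : Type*} [MulAction J Ω] (x y : Ω) (hx : ∀ g ∈ P₁, g • x = x) (hy : ∀ g ∈ P₁, g • y = y)
    (hc : ∃ g : J, g • x = y) :
    ∃ g ∈ Subgroup.normalizer (P₁ : Set J), g • x = y := by
  obtain ⟨g, hg⟩ := hc
  obtain ⟨hle, hwc⟩ := hW
  set St : Subgroup J := MulAction.stabilizer J x with hSt
  have h1 : P₁ ≤ St := fun a ha => MulAction.mem_stabilizer_iff.mpr (hx a ha)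
  have hP₁ : IsPGroup p P₁ := P.2.to_le hle
  -- the p-subgroup A of St
  have hA : IsPGroup p (P₁.subgroupOf St) := hP₁.comap_subtype
  -- B = g⁻¹ P₁ g
  set B : Subgroup J := P₁.map (MulAut.conj g⁻¹).toMonoidHom with hB
  have h2 : B ≤ St := by
    intro b hb
    rw [hB, map_conj_mem] at hb
    simp only [inv_inv] at hb
    have := hy _ hb
    rw [MulAction.mem_stabilizer_iff]
    rw [← hg] at this
    have h3 : g⁻¹ • ((g * b * g⁻¹) • g • x) = g⁻¹ • (g • x) := by rw [this]
    simpa [smul_smul, mul_assoc] using h3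
  have hBp : IsPGroup p B := hP₁.map _
  have hB' : IsPGroup p (B.subgroupOf St) := hBp.comap_subtype
  obtain ⟨Q, hQ⟩ := hA.exists_le_sylow
  obtain ⟨Q', hQ'⟩ := hB'.exists_le_sylow
  obtain ⟨h, hh⟩ := MulAction.exists_smul_eq St Q' Q
  -- Q.map subtype is a p-subgroup of J
  have hQp : IsPGroup p ((Q : Subgroup St).map St.subtype) := Q.2.map _
  obtain ⟨R, hR⟩ := hQp.exists_le_sylow
  obtain ⟨k, hk⟩ := MulAction.exists_smul_eq J P R
  -- every a ∈ P₁ lies in R
  have hPR : ∀ a ∈ P₁, a ∈ (R : Subgroup J) := by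
    intro a ha
    apply hR
    refine ⟨⟨a, h1 ha⟩, hQ ?_, rfl⟩
    simpa [Subgroup.mem_subgroupOf] using ha
  have hBR : ∀ a ∈ P₁, (h : J) * (g⁻¹ * a * g) * (h : J)⁻¹ ∈ (R : Subgroup J) := by
    intro a ha
    apply hR
    have hb : g⁻¹ * a * g ∈ B := by
      rw [hB, map_conj_mem]; simpa [mul_assoc] using ha
    have hbSt : g⁻¹ * a * g ∈ St := h2 hb
    have : (⟨g⁻¹ * a * g, hbSt⟩ : St) ∈ (Q' : Subgroup St) := hQ' (by simpa [Subgroup.mem_subgroupOf] using hb)
    have h4 : h * ⟨g⁻¹ * a * g, hbSt⟩ * h⁻¹ ∈ (Q : Subgroup St) := by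
      rw [← hh, Sylow.coe_subgroup_smul]
      exact ⟨_, this, by simp [MulAut.smul_def]⟩
    exact ⟨_, h4, by simp⟩
  -- translate: R = k • P
  have hRk : ∀ a, a ∈ (R : Subgroup J) ↔ k⁻¹ * a * k ∈ (P : Subgroup J) := by
    intro a
    rw [← hk, Sylow.coe_subgroup_smul]
    constructor
    · rintro ⟨b, hb, rfl⟩
      have hb' : b ∈ (P : Subgroup J) := hb
      simpa [MulAut.smul_def, mul_assoc] using hb'
    · intro hb
      exact ⟨_, hb, by simp [MulAut.smul_def, mul_assoc]⟩
  have e1 : P₁.map (MulAut.conj k⁻¹).toMonoidHom = P₁ := by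
    apply hwc
    intro a ha
    rw [map_conj_mem] at ha
    simp only [inv_inv] at ha
    have := (hRk _).1 (hPR _ ha)
    simpa [mul_assoc] using this
  have e2 : P₁.map (MulAut.conj (k⁻¹ * h * g⁻¹)).toMonoidHom = P₁ := by
    apply hwc
    intro a ha
    rw [map_conj_mem] at ha
    have := (hRk _).1 (hBR _ ha)
    simpa [mul_assoc] using this
  refine ⟨g * (h : J)⁻¹, ?_, ?_⟩
  · rw [Subgroup.mem_normalizer_iff_map_conj_eq]
    have e1' : (k⁻¹ : J) ∈ Subgroup.normalizer (P₁ : Set J) := by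
      rw [Subgroup.mem_normalizer_iff_map_conj_eq]; exact e1
    have e2' : (k⁻¹ * h * g⁻¹ : J) ∈ Subgroup.normalizer (P₁ : Set J) := by
      rw [Subgroup.mem_normalizer_iff_map_conj_eq]; exact e2
    have e3 : (g * (h : J)⁻¹ : J) ∈ Subgroup.normalizer (P₁ : Set J) := by
      have := (Subgroup.normalizer (P₁ : Set J)).mul_mem ((Subgroup.normalizer (P₁ : Set J)).inv_mem e2') e1'
      simpa [mul_assoc] using this
    rw [Subgroup.mem_normalizer_iff_map_conj_eq] at e3
    exact e3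
  · have hhx : (h : J) • x = x := MulAction.mem_stabilizer_iff.mp h.2
    have : (h : J)⁻¹ • x = x := by
      conv_lhs => rw [← hhx]
      simp
    rw [mul_smul, this, hg]

end Cfsg.Agent.S3180
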