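import Cfsg.Statements.S3183
import Cfsg.Agent.Lib.Helper60.PGroup
import Cfsg.Agent.Lib.Helper60.SylowConj

set_option autoImplicit false
open Cfsg

namespace Cfsg.Agent.S3183

open Cfsg.Agent.Lib.Helper60

/-- the centres of two Sylow subgroups (viewed in `G`) have the same cardinality -/
theorem card_center_sylow {G : Type*} [Group G] [Finite G] {p : ℕ} [Fact p.Prime]
    (S W : Sylow p G) :
    Nat.card ↥((Subgroup.center ↥(S : Subgroup G)).map (S : Subgroup G).subtype) =
      Nat.card ↥((Subgroup.center ↥(W : Subgroup G)).map (W : Subgroup G).subtype) := by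
  rw [Subgroup.card_map_of_injective (Subgroup.subtype_injective _),
    Subgroup.card_map_of_injective (Subgroup.subtype_injective _)]
  exact Nat.card_congr (Subgroup.centerCongr (Sylow.equiv S W)).toEquiv

theorem key {G : Type*} [Group G] [Finite G]
    (hCI : ∀ S T : Sylow 2 G, S ≠ T → ∃ U : Sylow 2 G,
      (S : Subgroup G) ⊓ (T : Subgroup G) ≤ (Subgroup.center ↥(U : Subgroup G)).map (U : Subgroup G).subtype)
    (S T : Sylow 2 G) (hST : S ≠ T) (x : G) (hxS : x ∈ (S : Subgroup G)) (hxT : x ∈ (T : Subgroup G)) :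
    x ∈ (Subgroup.center ↥(S : Subgroup G)).map (S : Subgroup G).subtype := by
  obtain ⟨U, hU⟩ := hCI S T hST
  have hxU := hU ⟨hxS, hxT⟩
  rw [mem_map_center_iff] at hxU
  by_contra hx
  set N : Subgroup G := Subgroup.centralizer ({x} : Set G) with hN
  have hmemN : ∀ g : G, g ∈ N ↔ g * x = x * g := by
    intro g
    rw [hN, Subgroup.mem_centralizer_singleton_iff]
  have hUN : (U : Subgroup G) ≤ N := by
    intro u hu
    rw [hmemN]
    exact hxU.2 u hu
  set Q : Subgroup G := (S : Subgroup G) ⊓ N with hQ
  have hQp : IsPGroup 2 ↥Q := S.2.to_le inf_le_left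
  obtain ⟨h, hhN, hh⟩ := exists_conj_mem_of_sylow_le U N hUN Q inf_le_right hQp
  set V : Sylow 2 G := h⁻¹ • U with hV
  have hmemV : ∀ a : G, a ∈ (V : Subgroup G) ↔ h * a * h⁻¹ ∈ (U : Subgroup G) := by
    intro a
    rw [hV, mem_smul_sylow_iff, inv_inv]
  have hQV : Q ≤ (V : Subgroup G) := by
    intro q hq
    rw [hmemV]
    exact hh q hq
  have hVN : (V : Subgroup G) ≤ N := by
    intro v hv
    rw [hmemV] at hv
    have h1 := hUN hv
    have h2 := N.mul_mem (N.mul_mem (N.inv_mem hhN) h1) hhN
    simpa [mul_assoc] using h2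
  have hVS : S ≠ V := by
    intro hSV
    apply hx
    rw [mem_map_center_iff]
    refine ⟨hxS, ?_⟩
    intro s hs
    have : s ∈ (V : Subgroup G) := by rw [← hSV]; exact hs
    exact (hmemN s).mp (hVN this)
  obtain ⟨W, hW⟩ := hCI S V hVS
  have hQW : Q ≤ (Subgroup.center ↥(W : Subgroup G)).map (W : Subgroup G).subtype := by
    intro q hq
    exact hW ⟨hq.1, hQV hq⟩
  have hZQ : (Subgroup.center ↥(S : Subgroup G)).map (S : Subgroup G).subtype ≤ Q := by
    intro z hz
    rw [mem_map_center_iff] at hz
    refine ⟨hz.1, ?_⟩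
    show z ∈ N
    rw [hmemN]
    exact (hz.2 x hxS).symm
  have hZW := hZQ.trans hQW
  have heq := Subgroup.eq_of_le_of_card_ge hZW (le_of_eq (card_center_sylow S W).symm)
  apply hx
  rw [heq]
  apply hQW
  refine ⟨hxS, ?_⟩
  show x ∈ N
  rw [hmemN]

/-- Let G be a finite group in which the intersection of any two distinct Sylow 2-subgroups is contained in the centre of some Sylow 2-subgroup, and let S be a Sylow 2-subgroup. Then for every x in S the centralizer of x in S is a Sylow 2-subgroup of the centralizer of x in G (no 2-subgroup centralizing x is larger), and for every other Sylow 2-subgroup T the intersection S ∩ T lies in both the centre of S and the centre of T. -/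
theorem result {G : Type*} [Group G] [Finite G]
    (hCI : ∀ S T : Sylow 2 G, S ≠ T → ∃ U : Sylow 2 G,
      (S : Subgroup G) ⊓ (T : Subgroup G) ≤ (Subgroup.center ↥(U : Subgroup G)).map (U : Subgroup G).subtype)
    (S : Sylow 2 G) :
    (∀ x ∈ (S : Subgroup G), ∀ P : Subgroup G, IsPGroup 2 ↥P → P ≤ Subgroup.centralizer ({x} : Set G) →
        Nat.card ↥P ≤ Nat.card ↥((S : Subgroup G) ⊓ Subgroup.centralizer ({x} : Set G))) ∧
    (∀ T : Sylow 2 G, T ≠ S →
        (S : Subgroup G) ⊓ (T : Subgroup G) ≤
          (Subgroup.center ↥(S : Subgroup G)).map (S : Subgroup G).subtype ⊓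
            (Subgroup.center ↥(T : Subgroup G)).map (T : Subgroup G).subtype) := by
  constructor
  · intro x hxS P hP hPx
    -- the 2-group generated by P and x
    have hxp : IsPGroup 2 ↥(Subgroup.zpowers x) := by
      apply IsPGroup.to_le S.2
      rw [Subgroup.zpowers_le]; exact hxS
    have hnorm : P ≤ Subgroup.normalizer ((Subgroup.zpowers x : Subgroup G) : Set G) := by
      intro g hg
      have hgx : g * x = x * g := (Subgroup.mem_centralizer_singleton_iff.mp (hPx hg))
      rw [Subgroup.mem_normalizer_iff]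
      intro y
      constructor
      · intro hy
        obtain ⟨k, rfl⟩ := Subgroup.mem_zpowers_iff.mp hy
        have hc : Commute g x := hgx
        have hc2 : Commute g (x ^ k) := hc.zpow_right k
        have : g * x ^ k * g⁻¹ = x ^ k := by rw [hc2.eq]; simp
        rw [this]; exact hy
      · intro hy
        obtain ⟨k, hk⟩ := Subgroup.mem_zpowers_iff.mp hy
        have hc : Commute g⁻¹ x := (Commute.inv_left (show Commute g x from hgx))
        have hc2 : Commute g⁻¹ (x ^ k) := hc.zpow_right k
        have : y = g⁻¹ * x ^ k * g := by rw [hk]; simp [mul_assoc]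
        rw [this, hc2.eq]
        simp only [inv_mul_cancel_right]
        exact Subgroup.zpow_mem_zpowers x k
    have hP2 : IsPGroup 2 ↥(P ⊔ Subgroup.zpowers x) := hP.to_sup_of_normal_right' hxp hnorm
    obtain ⟨T, hT⟩ := hP2.exists_le_sylow
    have hPT : P ≤ (T : Subgroup G) := le_sup_left.trans hT
    have hxT : x ∈ (T : Subgroup G) := hT (Subgroup.mem_sup_right (Subgroup.mem_zpowers x))
    by_cases hTS : T = S
    · apply Subgroup.card_le_of_le
      intro g hg
      refine ⟨?_, hPx hg⟩
      rw [← hTS]; exact hPT hg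
    · have hxZ := key hCI S T (Ne.symm hTS) x hxS hxT
      rw [mem_map_center_iff] at hxZ
      have hle : (S : Subgroup G) ≤ (S : Subgroup G) ⊓ Subgroup.centralizer ({x} : Set G) := by
        intro s hs
        refine ⟨hs, ?_⟩
        show s ∈ Subgroup.centralizer ({x} : Set G)
        rw [Subgroup.mem_centralizer_singleton_iff]
        exact hxZ.2 s hs
      calc Nat.card ↥P ≤ Nat.card ↥(T : Subgroup G) := Subgroup.card_le_of_le hPT
        _ = Nat.card ↥(S : Subgroup G) := Nat.card_congr (Sylow.equiv T S).toEquiv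
        _ ≤ _ := Subgroup.card_le_of_le hle
  · intro T hTS x hx
    exact ⟨key hCI S T (Ne.symm hTS) x hx.1 hx.2, key hCI T S hTS x hx.2 hx.1⟩

end Cfsg.Agent.S3183
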