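import Cfsg.Statements.S3190
import Cfsg.Agent.Lib.Helper60.PGroup

set_option autoImplicit false
open Cfsg

namespace Cfsg.Agent.S3190

open Cfsg.Agent.Lib.Helper60

/-- The set of elements of `A` inverted by `t`, as a subgroup (when `A` is commutative). -/
def invSub {X : Type*} [Group X] (A : Subgroup X) (hA : ∀ a ∈ A, ∀ b ∈ A, a * b = b * a) (t : X) :
    Subgroup X where
  carrier := {a | a ∈ A ∧ t * a * t⁻¹ = a⁻¹}
  one_mem' := ⟨A.one_mem, by simp⟩
  mul_mem' := by
    rintro a b ⟨ha, hat⟩ ⟨hb, hbt⟩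
    refine ⟨A.mul_mem ha hb, ?_⟩
    have : t * (a * b) * t⁻¹ = (t * a * t⁻¹) * (t * b * t⁻¹) := by simp [mul_assoc]
    rw [this, hat, hbt, mul_inv_rev]
    exact hA _ (A.inv_mem ha) _ (A.inv_mem hb)
  inv_mem' := by
    rintro a ⟨ha, hat⟩
    refine ⟨A.inv_mem ha, ?_⟩
    have : t * a⁻¹ * t⁻¹ = (t * a * t⁻¹)⁻¹ := by simp [mul_assoc]
    rw [this, hat]

theorem mem_invSub {X : Type*} [Group X] (A : Subgroup X)
    (hA : ∀ a ∈ A, ∀ b ∈ A, a * b = b * a) (t a : X) :
    a ∈ invSub A hA t ↔ a ∈ A ∧ t * a * t⁻¹ = a⁻¹ := Iff.rfl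

/-- Let p be an odd prime and, inside a finite group, let P be a p-subgroup normalized by a Klein four-group T. Let R be a subgroup of P, normal in P and normalized by T, such that P is the product of R with the centralizer of T in P. If T centralizes the centre of P, then T centralizes the centre of R. -/
theorem result {X : Type*} [Group X] [Finite X]
    {p : ℕ} (hp : p.Prime) (hodd : Odd p) (P T R : Subgroup X) (hP : IsPGroup p ↥P) (hT : IsKleinFour ↥T)
    (hTP : T ≤ Subgroup.normalizer (P : Set X)) (hRP : R ≤ P) (hRn : (R.subgroupOf P).Normal)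
    (hTR : T ≤ Subgroup.normalizer (R : Set X)) (hfac : R ⊔ (P ⊓ Subgroup.centralizer (T : Set X)) = P)
    (hZ : T ≤ Subgroup.centralizer (((Subgroup.center ↥P).map P.subtype : Subgroup X) : Set X)) :
    T ≤ Subgroup.centralizer (((Subgroup.center ↥R).map R.subtype : Subgroup X) : Set X) := by
  have : Fact p.Prime := ⟨hp⟩
  set A : Subgroup X := (Subgroup.center ↥R).map R.subtype with hAdef
  have hAcomm : ∀ a ∈ A, ∀ b ∈ A, a * b = b * a := by
    intro a ha b hb
    rw [hAdef, mem_map_center_iff] at ha hb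
    exact (hb.2 a ha.1)
  have hAR : A ≤ R := by
    intro a ha
    rw [hAdef, mem_map_center_iff] at ha
    exact ha.1
  have hPR : P ≤ Subgroup.normalizer (R : Set X) :=
    (Subgroup.normal_subgroupOf_iff_le_normalizer hRP).mp hRn
  intro t ht
  rw [Subgroup.mem_centralizer_iff]
  -- t squared is one
  have ht2 : t * t = 1 := by
    have h1 : (⟨t, ht⟩ : ↥T) ^ 2 = 1 := by
      have := hT.exponent_two
      rw [← this]
      exact Monoid.pow_exponent_eq_one _
    have h2 := congrArg (fun y : ↥T => (y : X)) h1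
    simpa [pow_two] using h2
  have htinv : t⁻¹ = t := inv_eq_of_mul_eq_one_left ht2
  set K : Subgroup X := invSub A hAcomm t with hKdef
  have hKA : K ≤ A := fun a ha => ha.1
  have hKP : K ≤ P := hKA.trans (hAR.trans hRP)
  -- P normalizes K
  have hnK : P ≤ Subgroup.normalizer (K : Set X) := by
    rw [← hfac]
    apply sup_le
    · rw [Subgroup.le_normalizer_iff]
      intro r hr k hk
      have hkA := hKA hk
      rw [hAdef, mem_map_center_iff] at hkA
      have : r * k * r⁻¹ = k := by rw [hkA.2 r hr]; simp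
      rw [this]; exact hk
    · rw [Subgroup.le_normalizer_iff]
      rintro c ⟨hcP, hcT⟩ k hk
      have hct : t * c = c * t := (Subgroup.mem_centralizer_iff.mp hcT) t ht
      have hct' : t * c⁻¹ = c⁻¹ * t := by
        have : c⁻¹ * (t * c) * c⁻¹ = c⁻¹ * (c * t) * c⁻¹ := by rw [hct]
        simpa [mul_assoc] using this.symm
      rw [hKdef, mem_invSub] at hk ⊢
      refine ⟨conj_mem_map_center R c (hPR hcP) k hk.1, ?_⟩
      calc t * (c * k * c⁻¹) * t⁻¹ = (t * c) * k * (c⁻¹ * t⁻¹) := by simp [mul_assoc]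
        _ = (c * t) * k * (t⁻¹ * c⁻¹) := by
            rw [hct]
            congr 1
            rw [htinv]; exact hct'.symm
        _ = c * (t * k * t⁻¹) * c⁻¹ := by simp [mul_assoc]
        _ = (c * k * c⁻¹)⁻¹ := by rw [hk.2]; simp [mul_assoc]
  -- K is trivial
  have hKbot : K = ⊥ := by
    by_contra hK
    obtain ⟨z, hzK, hz1, hzc⟩ := exists_central_mem_of_le_normalizer P K hP hKP hnK hK
    have hzZ : z ∈ (Subgroup.center ↥P).map P.subtype := by
      rw [mem_map_center_iff]
      exact ⟨hKP hzK, hzc⟩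
    have h1 : z * t = t * z := (Subgroup.mem_centralizer_iff.mp (hZ ht)) z hzZ
    have h2 : t * z * t⁻¹ = z⁻¹ := hzK.2
    have h3 : z = z⁻¹ := by
      rw [← h2, ← h1]; simp
    have h4 : z ^ 2 = 1 := by
      rw [pow_two]
      calc z * z = z * z⁻¹ := by rw [← h3]
        _ = 1 := mul_inv_cancel z
    obtain ⟨k, hk⟩ := hP ⟨z, hKP hzK⟩
    have h5 : z ^ (p ^ k) = 1 := by
      have := congrArg (fun y : ↥P => (y : X)) hk
      simpa using this
    have hcop : Nat.Coprime (p ^ k) 2 := by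
      apply Nat.Coprime.pow_left
      exact (Nat.coprime_primes hp Nat.prime_two).mpr (fun h => by
        rw [h] at hodd; exact (Nat.not_odd_iff_even.mpr even_two) hodd)
    have h6 : orderOf z ∣ 1 := by
      have a1 := orderOf_dvd_of_pow_eq_one h5
      have a2 := orderOf_dvd_of_pow_eq_one h4
      have := Nat.dvd_gcd a1 a2
      rwa [hcop.gcd_eq_one] at this
    exact hz1 (orderOf_eq_one_iff.mp (Nat.dvd_one.mp h6))
  intro a ha
  -- b = a * (t a⁻¹ t⁻¹) is in K
  have htaA : t * a⁻¹ * t⁻¹ ∈ A := conj_mem_map_center R t (hTR ht) a⁻¹ (A.inv_mem ha)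
  have hb : a * (t * a⁻¹ * t⁻¹) ∈ K := by
    rw [hKdef, mem_invSub]
    refine ⟨A.mul_mem ha htaA, ?_⟩
    rw [mul_inv_rev, mul_inv_rev, mul_inv_rev, inv_inv, inv_inv, htinv]
    have e1 : t * (a * (t * a⁻¹ * t)) * t = t * a * t * a⁻¹ * (t * t) := by
      simp [mul_assoc]
    rw [e1, ht2, mul_one]
    simp [mul_assoc]
  rw [hKbot, Subgroup.mem_bot] at hb
  have : a = t * a * t⁻¹ := by
    have h := eq_inv_of_mul_eq_one_left hb
    calc a = (t * a⁻¹ * t⁻¹)⁻¹ := h
      _ = t * a * t⁻¹ := by simp [mul_assoc]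
  calc a * t = (t * a * t⁻¹) * t := by rw [← this]
    _ = t * a := by simp [mul_assoc]

end Cfsg.Agent.S3190
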