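import Cfsg.Statements.S3195
import Cfsg.Agent.S0200
-- import your own Cfsg.Agent.* helpers here

set_option autoImplicit false
open Cfsg

namespace Cfsg.Agent.S3195

section aux
variable {G : Type*} [Group G]

theorem eq_one_of_odd_of_pow_two_pow {u : G} (hu : Odd (orderOf u)) (k : ℕ)
    (h : u ^ (2 ^ k) = 1) : u = 1 := by
  have h1 : orderOf u ∣ 2 ^ k := orderOf_dvd_of_pow_eq_one h
  have h2 : Nat.Coprime (orderOf u) (2 ^ k) :=
    Nat.Coprime.pow_right k (Nat.coprime_two_right.mpr hu)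
  exact orderOf_eq_one_iff.mp (Nat.Coprime.eq_one_of_dvd h2 h1)

theorem eq_one_of_odd_of_sq {u : G} (hu : Odd (orderOf u)) (h : u * u = 1) : u = 1 :=
  eq_one_of_odd_of_pow_two_pow hu 1 (by rw [pow_one, pow_two]; exact h)

theorem odd_orderOf_sq {u : G} (hu : Odd (orderOf u)) : Odd (orderOf (u * u)) := by
  rw [← pow_two]
  exact Odd.of_dvd_nat hu (orderOf_pow_dvd 2)

theorem commute_of_commute_sq {u d : G} (hu : Odd (orderOf u)) (h : Commute d (u * u)) :
    Commute d u := by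
  obtain ⟨k, hk⟩ := hu
  have h1 : (u * u) ^ (k + 1) = u := by
    rw [← pow_two, ← pow_mul]
    have : 2 * (k + 1) = orderOf u + 1 := by omega
    rw [this, pow_succ, pow_orderOf_eq_one, one_mul]
  rw [← h1]
  exact h.pow_right _

theorem conj_sq_inv {x a : G} (h : x * a * x⁻¹ = a⁻¹) : x * (a * a) * x⁻¹ = (a * a)⁻¹ := by
  calc x * (a * a) * x⁻¹ = (x * a * x⁻¹) * (x * a * x⁻¹) := by group
    _ = a⁻¹ * a⁻¹ := by rw [h]
    _ = (a * a)⁻¹ := by group

theorem conj_sq_self {x a : G} (h : x * a * x⁻¹ = a) : x * (a * a) * x⁻¹ = a * a := by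
  calc x * (a * a) * x⁻¹ = (x * a * x⁻¹) * (x * a * x⁻¹) := by group
    _ = a * a := by rw [h]

/-- The key computation: if one of `x, y, b` commutes with `w * V * w * y`, then
`(w * V * w) ^ 2 = 1`. -/
theorem key_Q {x y b w V : G} (hxy : x * y = y * x) (hby : b * y = y * b)
    (hxw : x * w * x⁻¹ = w⁻¹) (hyw : y * w * y⁻¹ = w⁻¹) (hbw : b * w * b⁻¹ = w)
    (hbV : b * V * b⁻¹ = V⁻¹) (hyV : y * V * y⁻¹ = V⁻¹) (hxV : x * V * x⁻¹ = V)
    (hV : Odd (orderOf V)) (hw : Odd (orderOf w)) (hw1 : w ≠ 1) (hV1 : V ≠ 1)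
    (d : G) (hd : d = x ∨ d = y ∨ d = b) (hcomm : d * (w * V * w * y) = (w * V * w * y) * d) :
    (w * V * w) * (w * V * w) = 1 := by
  -- `d` commutes with `y`, hence conjugation by `d` fixes `r = w * V * w`
  have hdy : d * y = y * d := by
    rcases hd with rfl | rfl | rfl
    · exact hxy
    · rfl
    · exact hby
  have hdr : d * (w * V * w) * d⁻¹ = w * V * w := by
    have h1 : d * (w * V * w) * y = (w * V * w) * d * y := by
      calc d * (w * V * w) * y = d * (w * V * w * y) := by group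
        _ = (w * V * w * y) * d := hcomm
        _ = (w * V * w) * (y * d) := by group
        _ = (w * V * w) * (d * y) := by rw [hdy]
        _ = (w * V * w) * d * y := by group
    have h2 := mul_right_cancel h1
    rw [h2]; group
  rcases hd with rfl | rfl | rfl
  · -- `d = x`
    exfalso
    have h1 : d * (w * V * w) * d⁻¹ = w⁻¹ * V * w⁻¹ := by
      calc d * (w * V * w) * d⁻¹ = (d * w * d⁻¹) * (d * V * d⁻¹) * (d * w * d⁻¹) := by group
        _ = w⁻¹ * V * w⁻¹ := by rw [hxw, hxV]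
    rw [hdr] at h1
    -- `V * (w * w) * V⁻¹ = (w * w)⁻¹`
    have h2 : V * (w * w) * V⁻¹ = (w * w)⁻¹ := by
      calc V * (w * w) * V⁻¹ = w⁻¹ * (w * V * w) * w * V⁻¹ := by group
        _ = w⁻¹ * (w⁻¹ * V * w⁻¹) * w * V⁻¹ := by rw [h1]
        _ = (w * w)⁻¹ := by group
    have h3 : Commute (V * V) (w * w) := by
      show V * V * (w * w) = w * w * (V * V)
      calc V * V * (w * w) = V * (V * (w * w) * V⁻¹) * V⁻¹ * (V * V) := by group
        _ = V * (w * w)⁻¹ * V⁻¹ * (V * V) := by rw [h2]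
        _ = (V * (w * w) * V⁻¹)⁻¹ * (V * V) := by group
        _ = w * w * (V * V) := by rw [h2, inv_inv]
    have h4 : Commute V (w * w) := (commute_of_commute_sq hV h3.symm).symm
    have h5 : w * w = (w * w)⁻¹ := by
      rw [← h2, h4.eq]; group
    have h6 : (w * w) * (w * w) = 1 := by
      nth_rewrite 2 [h5]; group
    have h7 : w * w = 1 := eq_one_of_odd_of_sq (odd_orderOf_sq hw) h6
    exact hw1 (eq_one_of_odd_of_sq hw h7)
  · -- `d = y`
    have h1 : d * (w * V * w) * d⁻¹ = (w * V * w)⁻¹ := by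
      calc d * (w * V * w) * d⁻¹ = (d * w * d⁻¹) * (d * V * d⁻¹) * (d * w * d⁻¹) := by group
        _ = w⁻¹ * V⁻¹ * w⁻¹ := by rw [hyw, hyV]
        _ = (w * V * w)⁻¹ := by group
    rw [hdr] at h1
    nth_rewrite 2 [h1]; group
  · -- `d = b`
    exfalso
    have h1 : d * (w * V * w) * d⁻¹ = w * V⁻¹ * w := by
      calc d * (w * V * w) * d⁻¹ = (d * w * d⁻¹) * (d * V * d⁻¹) * (d * w * d⁻¹) := by group
        _ = w * V⁻¹ * w := by rw [hbw, hbV]
    rw [hdr] at h1
    have h2 : V = V⁻¹ := by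
      calc V = w⁻¹ * (w * V * w) * w⁻¹ := by group
        _ = w⁻¹ * (w * V⁻¹ * w) * w⁻¹ := by rw [h1]
        _ = V⁻¹ := by group
    have h3 : V * V = 1 := by nth_rewrite 2 [h2]; group
    exact hV1 (eq_one_of_odd_of_sq hV h3)

/-- The final contradiction. -/
theorem key_P3 {x y b u v : G} (hxy : x * y = y * x) (hby : b * y = y * b)
    (hxu : x * u * x⁻¹ = u⁻¹) (hyu : y * u * y⁻¹ = u⁻¹) (hbu : b * u * b⁻¹ = u)
    (hbv : b * v * b⁻¹ = v⁻¹) (hyv : y * v * y⁻¹ = v⁻¹) (hxv : x * v * x⁻¹ = v)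
    (hu : Odd (orderOf u)) (hv : Odd (orderOf v)) (hu1 : u ≠ 1) (hv1 : v ≠ 1)
    (hH : ∀ g : G, ∃ d : G, (d = x ∨ d = y ∨ d = b) ∧ d * (g * y * g⁻¹) = (g * y * g⁻¹) * d) :
    False := by
  have hV : Odd (orderOf (v * v)) := odd_orderOf_sq hv
  have hV1 : v * v ≠ 1 := fun h => hv1 (eq_one_of_odd_of_sq hv h)
  have hbV := conj_sq_inv hbv
  have hyV := conj_sq_inv hyv
  have hxV := conj_sq_self hxv
  have hyv' : y * v⁻¹ = v * y := by
    calc y * v⁻¹ = (y * v * y⁻¹)⁻¹ * y := by group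
      _ = v * y := by rw [hyv]; group
  -- the general step
  have step : ∀ w : G, x * w * x⁻¹ = w⁻¹ → y * w * y⁻¹ = w⁻¹ → b * w * b⁻¹ = w →
      Odd (orderOf w) → w ≠ 1 → (w * (v * v) * w) * (w * (v * v) * w) = 1 := by
    intro w hxw hyw hbw hw hw1
    have hyw' : y * w⁻¹ = w * y := by
      calc y * w⁻¹ = (y * w * y⁻¹)⁻¹ * y := by group
        _ = w * y := by rw [hyw]; group
    have hconj : (w * v) * y * (w * v)⁻¹ = w * (v * v) * w * y := by
      calc (w * v) * y * (w * v)⁻¹ = w * v * (y * v⁻¹) * w⁻¹ := by group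
        _ = w * v * (v * y) * w⁻¹ := by rw [hyv']
        _ = w * v * v * (y * w⁻¹) := by group
        _ = w * v * v * (w * y) := by rw [hyw']
        _ = w * (v * v) * w * y := by group
    obtain ⟨d, hd, hdc⟩ := hH (w * v)
    rw [hconj] at hdc
    exact key_Q hxy hby hxw hyw hbw hbV hyV hxV hV hw hw1 hV1 d hd hdc
  have h1 := step u hxu hyu hbu hu hu1
  have hs1 : u * u ≠ 1 := fun h => hu1 (eq_one_of_odd_of_sq hu h)
  have h2 := step (u * u) (conj_sq_inv hxu) (conj_sq_inv hyu) (conj_sq_self hbu)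
    (odd_orderOf_sq hu) hs1
  -- `V * s * V = s⁻¹` and `V * (s * s) * V = (s * s)⁻¹` with `s = u * u`
  have h3 : (v * v) * (u * u) * (v * v) = (u * u)⁻¹ := by
    calc (v * v) * (u * u) * (v * v)
        = u⁻¹ * ((u * (v * v) * u) * (u * (v * v) * u)) * u⁻¹ := by group
      _ = (u * u)⁻¹ := by rw [h1]; group
  have h4 : (v * v) * ((u * u) * (u * u)) * (v * v) = ((u * u) * (u * u))⁻¹ := by
    calc (v * v) * ((u * u) * (u * u)) * (v * v)
        = (u * u)⁻¹ * (((u * u) * (v * v) * (u * u)) * ((u * u) * (v * v) * (u * u))) *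
            (u * u)⁻¹ := by group
      _ = ((u * u) * (u * u))⁻¹ := by rw [h2]; group
  have h5 : (v * v) * ((u * u) * (u * u)) * (v * v) =
      ((v * v) * (u * u) * (v * v)) * ((v * v) * (v * v))⁻¹ * ((v * v) * (u * u) * (v * v)) := by
    group
  rw [h4, h3] at h5
  have h6 : (v * v) * (v * v) = 1 := by
    have : ((v * v) * (v * v))⁻¹ = 1 := by
      calc ((v * v) * (v * v))⁻¹
          = (u * u) * ((u * u)⁻¹ * (v * v * (v * v))⁻¹ * (u * u)⁻¹) * (u * u) := by group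
        _ = (u * u) * (u * u * (u * u))⁻¹ * (u * u) := by rw [← h5]
        _ = 1 := by group
    exact inv_eq_one.mp this
  exact hV1 (eq_one_of_odd_of_sq hV h6)

end aux

/-- Let A be a Klein four-subgroup of a finite group G. If every G-conjugate of every involution of A commutes with some involution of A (its centralizer meets A nontrivially), then A meets the largest normal 2-subgroup O₂(G) nontrivially. -/
theorem result {G : Type*} [Group G] [Finite G]
    (A : Subgroup G) (hA : IsKleinFour ↥A)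
    (h : ∀ a ∈ A, a ≠ 1 → ∀ g : G, A ⊓ Subgroup.centralizer ({g * a * g⁻¹} : Set G) ≠ ⊥) :
    A ⊓ Cfsg.pCore 2 G ≠ ⊥ := by
  have hfact : Fact (Nat.Prime 2) := ⟨Nat.prime_two⟩
  by_contra hcon
  -- basic facts on `A`
  have hsq : ∀ x ∈ A, x * x = 1 := fun x hx =>
    congrArg Subtype.val (IsKleinFour.mul_self (⟨x, hx⟩ : ↥A))
  have hcommA : ∀ x ∈ A, ∀ y ∈ A, x * y = y * x := by
    intro x hx y hy
    have hc := IsKleinFour.isMulCommutative (G := ↥A)
    exact congrArg Subtype.val (hc.is_comm.comm ⟨x, hx⟩ ⟨y, hy⟩)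
  have hord : ∀ x ∈ A, x ≠ 1 → orderOf x = 2 := by
    intro x hx hx1
    exact orderOf_eq_prime (by rw [pow_two]; exact hsq x hx) hx1
  have third : ∀ p ∈ A, ∀ q ∈ A, ∀ z ∈ A, p ≠ 1 → q ≠ 1 → p ≠ q → z ≠ 1 → z ≠ p → z ≠ q →
      z = p * q := by
    intro p hp q hq z hz hp1 hq1 hpq hz1 hzp hzq
    have := IsKleinFour.eq_mul_of_ne_all (G := ↥A) (x := ⟨p, hp⟩) (y := ⟨q, hq⟩)
      (z := ⟨z, hz⟩) (fun h => hp1 (congrArg Subtype.val h)) (fun h => hq1 (congrArg Subtype.val h))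
      (fun h => hpq (congrArg Subtype.val h)) (fun h => hz1 (congrArg Subtype.val h))
      (fun h => hzp (congrArg Subtype.val h)) (fun h => hzq (congrArg Subtype.val h))
    exact congrArg Subtype.val this
  -- nonidentity elements of `A` lie in no normal 2-subgroup
  have hO : ∀ x ∈ A, x ≠ 1 → ∀ N : Subgroup G, N.Normal → IsPGroup 2 N → x ∉ N := by
    intro x hx hx1 N hN hNp hxN
    have hle : N ≤ Cfsg.pCore 2 G := le_sSup ⟨hN, hNp⟩
    have hmem : x ∈ A ⊓ Cfsg.pCore 2 G := ⟨hx, hle hxN⟩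
    rw [hcon] at hmem
    exact hx1 (Subgroup.mem_bot.mp hmem)
  have hinvert : ∀ x ∈ A, x ≠ 1 → ∃ u : G, u ≠ 1 ∧ Odd (orderOf u) ∧ x * u * x⁻¹ = u⁻¹ :=
    fun x hx hx1 => Cfsg.Agent.S0200.result x (hord x hx hx1) (hO x hx hx1)
  -- an element of `A` other than `x` centralizes `u`
  have hP2 : ∀ x ∈ A, x ≠ 1 → ∀ u : G, u ≠ 1 → Odd (orderOf u) → x * u * x⁻¹ = u⁻¹ →
      ∃ d ∈ A, d ≠ 1 ∧ d ≠ x ∧ d * u * d⁻¹ = u := by
    intro x hx hx1 u hu1 hu hxu
    have hne := h x hx hx1 u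
    obtain ⟨⟨d, hd⟩, hd1⟩ := (Subgroup.ne_bot_iff_exists_ne_one).mp hne
    obtain ⟨hdA, hdC⟩ := Subgroup.mem_inf.mp hd
    rw [Subgroup.mem_centralizer_singleton_iff] at hdC
    have hd1' : d ≠ 1 := fun h => hd1 (Subtype.ext h)
    have hconj : u * x * u⁻¹ = u * u * x := by
      have h1 : x * u⁻¹ = u * x := by
        calc x * u⁻¹ = (x * u * x⁻¹)⁻¹ * x := by group
          _ = u * x := by rw [hxu]; group
      calc u * x * u⁻¹ = u * (x * u⁻¹) := by group
        _ = u * (u * x) := by rw [h1]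
        _ = u * u * x := by group
    rw [hconj] at hdC
    have hdx := hcommA d hdA x hx
    have h1 : Commute d (u * u) := by
      show d * (u * u) = u * u * d
      have h2 : d * (u * u) * x = u * u * d * x := by
        calc d * (u * u) * x = d * (u * u * x) := by group
          _ = u * u * x * d := hdC
          _ = u * u * (x * d) := by group
          _ = u * u * (d * x) := by rw [hdx]
          _ = u * u * d * x := by group
      exact mul_right_cancel h2
    have h2 : Commute d u := commute_of_commute_sq hu h1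
    refine ⟨d, hdA, hd1', ?_, ?_⟩
    · rintro rfl
      have h3 : u = u⁻¹ := by
        calc u = d * u * d⁻¹ := by rw [h2.eq]; group
          _ = u⁻¹ := hxu
      have h4 : u * u = 1 := by nth_rewrite 2 [h3]; group
      exact hu1 (eq_one_of_odd_of_sq hu h4)
    · rw [h2.eq]; group
  -- a nonidentity element of `A`
  have hAne : A ≠ ⊥ := by
    intro hbot
    have h4 : Nat.card ↥A = 4 := IsKleinFour.card_four
    rw [hbot, Subgroup.card_bot] at h4
    omega
  obtain ⟨⟨a, haA⟩, ha1⟩ := (Subgroup.ne_bot_iff_exists_ne_one).mp hAne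
  have ha1' : a ≠ 1 := fun h => ha1 (Subtype.ext h)
  obtain ⟨u, hu1, hu, hau⟩ := hinvert a haA ha1'
  obtain ⟨b, hbA, hb1, hba, hbu⟩ := hP2 a haA ha1' u hu1 hu hau
  obtain ⟨v, hv1, hv, hbv⟩ := hinvert b hbA hb1
  obtain ⟨x, hxA, hx1, hxb, hxv⟩ := hP2 b hbA hb1 v hv1 hv hbv
  -- every nonidentity element of `A` other than `b` inverts `u`
  have hinvu : ∀ t ∈ A, t ≠ 1 → t ≠ b → t * u * t⁻¹ = u⁻¹ := by
    intro t ht ht1 htb
    by_cases hta : t = a
    · rw [hta]; exact hau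
    · have := third a haA b hbA t ht ha1' hb1 (Ne.symm hba) ht1 hta htb
      rw [this]
      calc a * b * u * (a * b)⁻¹ = a * (b * u * b⁻¹) * a⁻¹ := by group
        _ = u⁻¹ := by rw [hbu, hau]
  have hyA : b * x ∈ A := A.mul_mem hbA hxA
  have hy1 : b * x ≠ 1 := by
    intro hy
    apply hxb
    have h1 : x = b⁻¹ := eq_inv_of_mul_eq_one_right hy
    have h2 : b⁻¹ = b := inv_eq_of_mul_eq_one_left (hsq b hbA)
    rw [h1, h2]
  have hyb : b * x ≠ b := by
    intro hy
    apply hx1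
    have : b * x = b * 1 := by rw [hy, mul_one]
    exact mul_left_cancel this
  have hyx : b * x ≠ x := by
    intro hy
    apply hb1
    have : b * x = 1 * x := by rw [hy, one_mul]
    exact mul_right_cancel this
  have hxu : x * u * x⁻¹ = u⁻¹ := hinvu x hxA hx1 hxb
  have hyu : (b * x) * u * (b * x)⁻¹ = u⁻¹ := hinvu (b * x) hyA hy1 hyb
  have hyv : (b * x) * v * (b * x)⁻¹ = v⁻¹ := by
    calc (b * x) * v * (b * x)⁻¹ = b * (x * v * x⁻¹) * b⁻¹ := by group
      _ = v⁻¹ := by rw [hxv, hbv]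
  have hH : ∀ g : G, ∃ d : G, (d = x ∨ d = b * x ∨ d = b) ∧
      d * (g * (b * x) * g⁻¹) = (g * (b * x) * g⁻¹) * d := by
    intro g
    have hne := h (b * x) hyA hy1 g
    obtain ⟨⟨d, hd⟩, hd1⟩ := (Subgroup.ne_bot_iff_exists_ne_one).mp hne
    obtain ⟨hdA, hdC⟩ := Subgroup.mem_inf.mp hd
    rw [Subgroup.mem_centralizer_singleton_iff] at hdC
    have hd1' : d ≠ 1 := fun h => hd1 (Subtype.ext h)
    refine ⟨d, ?_, hdC⟩
    by_cases hdx : d = x
    · exact Or.inl hdx
    by_cases hdb : d = b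
    · exact Or.inr (Or.inr hdb)
    right; left
    exact third b hbA x hxA d hdA hb1 hx1 (Ne.symm hxb) hd1' hdb hdx
  exact key_P3 (hcommA x hxA _ hyA) (hcommA b hbA _ hyA) hxu hyu hbu hbv hyv hxv hu hv hu1 hv1 hH

end Cfsg.Agent.S3195
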