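import Cfsg.Statements.S3196
import Cfsg.Agent.Lib.Helper60.OneOrAll
import Cfsg.Agent.Lib.Helper60.OneOrAllB
-- import your own Cfsg.Agent.* helpers here

set_option autoImplicit false
open Cfsg

namespace Cfsg.Agent.S3196

open Cfsg.Agent.Lib.Helper60

/-- Let p be a prime and K a set of subgroups of order p of a finite group G, closed under conjugation, such that at least two distinct members of K commute elementwise, and whenever two distinct members X, Y of K commute: every subgroup of order p of the group XY they generate belongs to K, and every member W of K has centralizer meeting XY nontrivially. Then some member V of K commutes elementwise with every member of K and lies in O_p(G); in particular G is not simple. -/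
theorem result {G : Type*} [Group G] [Finite G]
    {p : ℕ} (hp : p.Prime) (K : Set (Subgroup G)) (hK : ∀ X ∈ K, Nat.card ↥X = p)
    (hKc : ∀ X ∈ K, ∀ g : G, X.map (MulAut.conj g).toMonoidHom ∈ K)
    (hex : ∃ X ∈ K, ∃ Y ∈ K, X ≠ Y ∧ ∀ x ∈ X, ∀ y ∈ Y, x * y = y * x)
    (ha : ∀ X ∈ K, ∀ Y ∈ K, X ≠ Y → (∀ x ∈ X, ∀ y ∈ Y, x * y = y * x) →
      ∀ Z : Subgroup G, Z ≤ X ⊔ Y → Nat.card ↥Z = p → Z ∈ K)
    (hb : ∀ X ∈ K, ∀ Y ∈ K, X ≠ Y → (∀ x ∈ X, ∀ y ∈ Y, x * y = y * x) →
      ∀ W ∈ K, (X ⊔ Y) ⊓ Subgroup.centralizer (W : Set G) ≠ ⊥) :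
    (∃ V ∈ K, (∀ W ∈ K, ∀ v ∈ V, ∀ w ∈ W, v * w = w * v) ∧ V ≤ Cfsg.pCore p G) ∧ ¬ IsSimpleGroup G := by
  classical
  have hrad : ∃ Z ∈ K, ∀ U ∈ K, Cm Z U := by
    by_cases hβ : ∀ X ∈ K, ∀ W ∈ K, ∀ x ∈ X, Cm W (cj x W)
    · obtain ⟨X, hX, _⟩ := hex
      exact exists_radical_of_beta hp K hK hKc ha hβ ⟨X, hX⟩
    · push Not at hβ
      obtain ⟨X, hX, W, hW, x, hx, hα⟩ := hβ
      exact exists_radical_of_alpha hp K hK ha hb hex hX hW hx hα
  obtain ⟨V, hV, hVrad⟩ := hrad
  -- the normal closure of `V` is an abelian group of exponent `p`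
  have hSpow : ∀ s ∈ Group.conjugatesOfSet (V : Set G), s ^ p = 1 := by
    intro s hs
    obtain ⟨v, hv, hconj⟩ := Group.mem_conjugatesOfSet_iff.mp hs
    obtain ⟨g, rfl⟩ := isConj_iff.mp hconj
    rw [conj_pow, pow_eq_one_of_card_prime (hK V hV) hv]
    simp
  have hScomm : ∀ s ∈ Group.conjugatesOfSet (V : Set G),
      ∀ t ∈ Group.conjugatesOfSet (V : Set G), s * t = t * s := by
    intro s hs t ht
    obtain ⟨v, hv, hconj⟩ := Group.mem_conjugatesOfSet_iff.mp hs
    obtain ⟨g, rfl⟩ := isConj_iff.mp hconj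
    obtain ⟨v', hv', hconj'⟩ := Group.mem_conjugatesOfSet_iff.mp ht
    obtain ⟨g', rfl⟩ := isConj_iff.mp hconj'
    have h1 : Cm V (cj (g⁻¹ * g') V) := hVrad _ (hKc V hV _)
    have h2 := cm_cj_cj g h1
    rw [← cj_mul', mul_inv_cancel_left] at h2
    exact h2 _ ((mem_cj_iff g _ V).mpr ⟨v, hv, rfl⟩) _ ((mem_cj_iff g' _ V).mpr ⟨v', hv', rfl⟩)
  have hNp : IsPGroup p (Subgroup.normalClosure (V : Set G)) :=
    isPGroup_closure_comm _ hSpow hScomm
  have hNn : (Subgroup.normalClosure (V : Set G)).Normal := Subgroup.normalClosure_normal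
  have hVN : V ≤ Subgroup.normalClosure (V : Set G) := Subgroup.le_normalClosure
  refine ⟨⟨V, hV, fun W hW v hv w hw => hVrad W hW v hv w hw,
    hVN.trans (le_sSup ⟨hNn, hNp⟩)⟩, ?_⟩
  -- `G` is not simple
  intro hsimple
  have hVne : V ≠ ⊥ := by
    intro h
    have := hK V hV
    rw [h, Subgroup.card_bot] at this
    exact hp.one_lt.ne this
  have hNtop : Subgroup.normalClosure (V : Set G) = ⊤ := by
    rcases hsimple.eq_bot_or_eq_top_of_normal _ hNn with h | h
    · exfalso
      apply hVne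
      rw [eq_bot_iff, ← h]
      exact hVN
    · exact h
  have hcommG : ∀ a b : G, a * b = b * a := by
    intro a b
    have haN : a ∈ Subgroup.closure (Group.conjugatesOfSet (V : Set G)) := by
      show a ∈ Subgroup.normalClosure (V : Set G)
      rw [hNtop]; trivial
    have hbN : b ∈ Subgroup.closure (Group.conjugatesOfSet (V : Set G)) := by
      show b ∈ Subgroup.normalClosure (V : Set G)
      rw [hNtop]; trivial
    have h1 := (pow_eq_one_of_mem_closure_comm _ hSpow hScomm a haN).2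
    have hle : Subgroup.closure (Group.conjugatesOfSet (V : Set G)) ≤
        Subgroup.centralizer ({a} : Set G) := by
      rw [Subgroup.closure_le]
      intro s hs
      exact Subgroup.mem_centralizer_singleton_iff.mpr (h1 s hs)
    exact (Subgroup.mem_centralizer_singleton_iff.mp (hle hbN)).symm
  obtain ⟨X, hX, Y, hY, hXY, -⟩ := hex
  have htop : ∀ Z ∈ K, Z = ⊤ := by
    intro Z hZ
    have hZn : Z.Normal := ⟨fun n hn g => by rw [hcommG g n, mul_inv_cancel_right]; exact hn⟩
    rcases hsimple.eq_bot_or_eq_top_of_normal _ hZn with h | h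
    · exfalso
      have := hK Z hZ
      rw [h, Subgroup.card_bot] at this
      exact hp.one_lt.ne this
    · exact h
  exact hXY ((htop X hX).trans (htop Y hY).symm)

end Cfsg.Agent.S3196
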