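import Mathlib
import Cfsg.Statements.S3200
import Cfsg.Agent.Lib.Helper65.AbelianIndex
import Cfsg.Agent.Lib.Helper65.Hall
import Cfsg.Agent.S0004
import Cfsg.Agent.S0005

set_option autoImplicit false
open Cfsg

namespace Cfsg.Agent.S3200

open Cfsg.Agent.Lib.Helper65

/-- Let H be a finite group in which a Sylow 2-subgroup has an abelian complement (an abelian subgroup meeting it trivially whose product with it is all of H). Then H is solvable, and every subgroup and every quotient group of H again has a Sylow 2-subgroup with an abelian complement. -/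
theorem result {H : Type*} [Group H] [Finite H]
    (S : Sylow 2 H) (C : Subgroup H) (hC : IsMulCommutative ↥C) (hSC : Subgroup.IsComplement' (S : Subgroup H) C) :
    Group.IsSolvable H ∧
    (∀ L : Subgroup H, ∃ (P : Sylow 2 ↥L) (D : Subgroup ↥L), IsMulCommutative ↥D ∧ Subgroup.IsComplement' (P : Subgroup ↥L) D) ∧
    (∀ (N : Subgroup H) [N.Normal], ∃ (P : Sylow 2 (H ⧸ N)) (D : Subgroup (H ⧸ N)),
      IsMulCommutative ↥D ∧ Subgroup.IsComplement' (P : Subgroup (H ⧸ N)) D) := by
  have : Fact (Nat.Prime 2) := ⟨Nat.prime_two⟩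
  have hcomm : ∀ a ∈ C, ∀ b ∈ C, a * b = b * a := by
    intro a ha b hb
    have := (isMulCommutative_iff.1 hC) ⟨a, ha⟩ ⟨b, hb⟩
    exact congrArg Subtype.val this
  have hidx : C.index = Nat.card S := hSC.index_eq_card
  have hcardS : Nat.card S = 2 ^ (Nat.card H).factorization 2 := S.card_eq_multiplicity
  have hCodd : ¬ 2 ∣ Nat.card C := by
    have h1 : (S : Subgroup H).index = Nat.card C := hSC.symm.index_eq_card
    rw [← h1]
    exact S.not_dvd_index
  have hmul : Nat.card S * Nat.card C = Nat.card H := hSC.card_mul_card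
  have hsol : Group.IsSolvable H :=
    isSolvable_of_abelian_primePow_index Nat.prime_two C hcomm ⟨_, hidx.trans hcardS⟩
  refine ⟨hsol, ?_, ?_⟩
  · intro L
    have hsolL : Group.IsSolvable L := inferInstance
    obtain ⟨P⟩ : Nonempty (Sylow 2 L) := inferInstance
    obtain ⟨D, hD1, hD2⟩ := exists_hall L ({p : ℕ | p ≠ 2} : Set ℕ)
    have hDodd : ¬ 2 ∣ Nat.card D := fun h => hD1 2 Nat.prime_two h rfl
    have hDidx : ∃ j, D.index = 2 ^ j := by
      refine ⟨D.index.primeFactorsList.length, ?_⟩
      refine Nat.eq_prime_pow_of_unique_prime_dvd Subgroup.index_ne_zero_of_finite ?_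
      intro q hq hqd
      by_contra hne
      exact hD2 q hq hqd hne
    obtain ⟨j, hj⟩ := hDidx
    refine ⟨P, D, ?_, ?_⟩
    · -- D is abelian since it lies in a conjugate of C
      have hcop : (Nat.card C).Coprime (Nat.card S) := by
        rw [hcardS]
        exact Nat.Coprime.pow_right _
          ((Nat.Prime.coprime_iff_not_dvd Nat.prime_two).2 hCodd).symm
      have hK : (Nat.card (D.map L.subtype)).Coprime (Nat.card S) := by
        rw [hcardS]
        apply Nat.Coprime.pow_right
        apply Nat.Coprime.symm
        rw [Nat.Prime.coprime_iff_not_dvd Nat.prime_two]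
        intro h
        exact hDodd (h.trans (Subgroup.card_map_dvd D L.subtype))
      obtain ⟨C', hC'card, hC'le⟩ := Cfsg.Agent.S0005.result (Nat.card C) (Nat.card S)
        (by rw [mul_comm]; exact hmul.symm) hcop (D.map L.subtype) hK
      obtain ⟨g, hg⟩ := Cfsg.Agent.S0004.result (Nat.card C) (Nat.card S)
        (by rw [mul_comm]; exact hmul.symm) hcop C' C hC'card rfl
      rw [isMulCommutative_iff]
      intro a b
      apply Subtype.ext
      apply Subtype.ext
      have ha : ((a : L) : H) ∈ C' := hC'le ⟨a, a.2, rfl⟩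
      have hb : ((b : L) : H) ∈ C' := hC'le ⟨b, b.2, rfl⟩
      have ha' : g * ((a : L) : H) * g⁻¹ ∈ C := by
        rw [← hg]
        exact ⟨_, ha, rfl⟩
      have hb' : g * ((b : L) : H) * g⁻¹ ∈ C := by
        rw [← hg]
        exact ⟨_, hb, rfl⟩
      have h3 := hcomm _ ha' _ hb'
      have h4 : g * (((a : L) : H) * ((b : L) : H)) * g⁻¹ =
          g * (((b : L) : H) * ((a : L) : H)) * g⁻¹ := by
        have e1 : g * (((a : L) : H) * ((b : L) : H)) * g⁻¹ =
          (g * ((a : L) : H) * g⁻¹) * (g * ((b : L) : H) * g⁻¹) := by group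
        have e2 : g * (((b : L) : H) * ((a : L) : H)) * g⁻¹ =
          (g * ((b : L) : H) * g⁻¹) * (g * ((a : L) : H) * g⁻¹) := by group
        rw [e1, e2, h3]
      have h5 : g * (((a : L) : H) * ((b : L) : H)) = g * (((b : L) : H) * ((a : L) : H)) :=
        mul_right_cancel h4
      have h6 := mul_left_cancel h5
      simpa using h6
    · apply Subgroup.isComplement'_of_coprime
      · have h1 : Nat.card (P : Subgroup L) = 2 ^ (Nat.card L).factorization 2 :=
          P.card_eq_multiplicity
        have h2 : D.index * Nat.card D = Nat.card L := D.index_mul_card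
        -- 2-part of card L equals index of D
        have h3 : (Nat.card L).factorization 2 = j := by
          rw [← h2, hj, Nat.factorization_mul (by positivity) Nat.card_pos.ne']
          simp [Nat.factorization_eq_zero_of_not_dvd hDodd, Nat.prime_two.factorization_self]
        rw [h1, h3, ← hj]
        exact h2
      · obtain ⟨n, hn⟩ := P.2.exists_card_eq
        have : Nat.card (P : Subgroup L) = 2 ^ n := hn
        rw [this]
        exact Nat.Coprime.pow_left _ ((Nat.Prime.coprime_iff_not_dvd Nat.prime_two).2 hDodd)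
  · intro N _
    refine ⟨S.mapSurjective (QuotientGroup.mk'_surjective N), C.map (QuotientGroup.mk' N), ?_, ?_⟩
    · rw [isMulCommutative_iff]
      rintro ⟨_, a, ha, rfl⟩ ⟨_, b, hb, rfl⟩
      apply Subtype.ext
      show QuotientGroup.mk' N a * QuotientGroup.mk' N b =
        QuotientGroup.mk' N b * QuotientGroup.mk' N a
      rw [← map_mul, ← map_mul, hcomm a ha b hb]
    · apply Subgroup.isComplement'_of_disjoint_and_mul_eq_univ
      · apply Subgroup.disjoint_of_coprime_natCard
        obtain ⟨n, hn⟩ := (S.mapSurjective (QuotientGroup.mk'_surjective N)).2.exists_card_eq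
        have h1 : Nat.card ((S.mapSurjective (QuotientGroup.mk'_surjective N) : Sylow 2 (H ⧸ N)) :
            Subgroup (H ⧸ N)) = 2 ^ n := hn
        rw [h1]
        apply Nat.Coprime.pow_left
        rw [Nat.Prime.coprime_iff_not_dvd Nat.prime_two]
        intro h
        exact hCodd (h.trans (Subgroup.card_map_dvd C (QuotientGroup.mk' N)))
      · rw [Set.eq_univ_iff_forall]
        intro q
        obtain ⟨g, rfl⟩ := QuotientGroup.mk'_surjective N q
        open scoped Pointwise in
        have hg : g ∈ ((S : Subgroup H) : Set H) * (C : Set H) := by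
          rw [(Subgroup.isComplement'_def.1 hSC).mul_eq]
          exact Set.mem_univ g
        obtain ⟨s, hs, c, hc, rfl⟩ := hg
        refine ⟨QuotientGroup.mk' N s, ?_, QuotientGroup.mk' N c, ⟨c, hc, rfl⟩, (map_mul _ _ _).symm⟩
        show QuotientGroup.mk' N s ∈ (S.mapSurjective (QuotientGroup.mk'_surjective N) :
          Subgroup (H ⧸ N))
        rw [Sylow.coe_mapSurjective]
        exact ⟨s, hs, rfl⟩

end Cfsg.Agent.S3200
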