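import Cfsg.Statements.S3201
import Cfsg.Agent.Lib.Helper60.QuatSplit

set_option autoImplicit false
open Cfsg

namespace Cfsg.Agent.S3201

/-- Let S be a finite 2-group whose centre Z(S) has n ≥ 2 distinct maximal subgroups C₁, …, Cₙ with trivial intersection such that each quotient S/Cᵢ is a non-abelian group with exactly one involution (a generalized quaternion group). Then S is the internal direct product of an elementary abelian subgroup and a non-abelian subgroup with exactly one involution. -/
theorem result {S : Type*} [Group S] [Finite S]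
    (hS : IsPGroup 2 S) (n : ℕ) (hn : 2 ≤ n) (C : Fin n → Subgroup ↥(Subgroup.center S))
    (hCmax : ∀ i, IsCoatom (C i)) (hCinj : Function.Injective C) (hCint : ⨅ i, C i = ⊥)
    (hCq : ∀ i, ∃ (_ : ((C i).map (Subgroup.center S).subtype).Normal),
      ¬ IsMulCommutative (S ⧸ (C i).map (Subgroup.center S).subtype) ∧
      ∃! x : S ⧸ (C i).map (Subgroup.center S).subtype, orderOf x = 2) :
    ∃ E Q : Subgroup S, Cfsg.IsInternalDirectProduct E Q ⊤ ∧ Cfsg.IsElementaryAbelian 2 E ∧
      ¬ IsMulCommutative ↥Q ∧ ∃! x : ↥Q, orderOf x = 2 := by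
  classical
  have hNn : ∀ j, ((C j).map (Subgroup.center S).subtype).Normal := fun j => (hCq j).choose
  have hNZ : ∀ j, (C j).map (Subgroup.center S).subtype ≤ Subgroup.center S := by
    rintro j _ ⟨x, _, rfl⟩
    exact x.2
  have i : Fin n := ⟨0, by omega⟩
  have hint : ⨅ j, (C j).map (Subgroup.center S).subtype = ⊥ := by
    rw [eq_bot_iff]
    intro x hx
    rw [Subgroup.mem_iInf] at hx
    have hxZ : x ∈ Subgroup.center S := hNZ i (hx i)
    have h1 : (⟨x, hxZ⟩ : ↥(Subgroup.center S)) ∈ ⨅ j, C j := by
      rw [Subgroup.mem_iInf]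
      intro j
      obtain ⟨y, hy, hyx⟩ := hx j
      have : y = ⟨x, hxZ⟩ := Subtype.ext hyx
      rw [← this]
      exact hy
    rw [hCint, Subgroup.mem_bot] at h1
    rw [Subgroup.mem_bot]
    exact congrArg Subtype.val h1
  have hq : ∀ j, ¬ IsMulCommutative (S ⧸ (C j).map (Subgroup.center S).subtype) ∧
      ∃! x : S ⧸ (C j).map (Subgroup.center S).subtype, orderOf x = 2 := fun j => (hCq j).choose_spec
  obtain ⟨hZ2, Q, hQN, hQtop⟩ := Cfsg.Agent.Lib.Helper60.quat_split hS
    (fun j => (C j).map (Subgroup.center S).subtype) hNZ hint hq i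
  have hcomm : ∀ a ∈ (C i).map (Subgroup.center S).subtype, ∀ b : S, a * b = b * a :=
    fun a ha b => (Subgroup.mem_center_iff.mp (hNZ i ha) b).symm
  refine ⟨(C i).map (Subgroup.center S).subtype, Q, ⟨le_top, le_top, fun a ha b _ => hcomm a ha b,
    by rw [inf_comm]; exact hQN, by rw [sup_comm]; exact hQtop⟩, ⟨⟨⟨fun a b => ?_⟩⟩, fun a ha => ?_⟩, ?_, ?_⟩
  · exact Subtype.ext (hcomm a a.2 b)
  · exact hZ2 a (hNZ i ha)
  · -- `Q` is not commutative
    intro hQc
    apply (hq i).1
    refine ⟨⟨fun x y => ?_⟩⟩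
    induction x using QuotientGroup.induction_on with
    | H x =>
      induction y using QuotientGroup.induction_on with
      | H y =>
        have hx : x ∈ Q ⊔ (C i).map (Subgroup.center S).subtype := hQtop ▸ Subgroup.mem_top x
        have hy : y ∈ Q ⊔ (C i).map (Subgroup.center S).subtype := hQtop ▸ Subgroup.mem_top y
        obtain ⟨q₁, hq₁, n₁, hn₁, rfl⟩ := Subgroup.mem_sup_of_normal_right.mp hx
        obtain ⟨q₂, hq₂, n₂, hn₂, rfl⟩ := Subgroup.mem_sup_of_normal_right.mp hy
        have h1 : ((q₁ * n₁ : S) : S ⧸ (C i).map (Subgroup.center S).subtype) = (q₁ : S) := by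
          rw [QuotientGroup.eq]; simpa using hn₁
        have h2 : ((q₂ * n₂ : S) : S ⧸ (C i).map (Subgroup.center S).subtype) = (q₂ : S) := by
          rw [QuotientGroup.eq]; simpa using hn₂
        rw [h1, h2, ← QuotientGroup.mk_mul, ← QuotientGroup.mk_mul]
        have := congrArg Subtype.val (hQc.is_comm.comm ⟨q₁, hq₁⟩ ⟨q₂, hq₂⟩)
        simp only [Subgroup.coe_mul] at this
        rw [this]
  · -- the unique involution of `Q`
    have hinj : Function.Injective ((QuotientGroup.mk' ((C i).map (Subgroup.center S).subtype)).comp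
        Q.subtype) := by
      rw [← MonoidHom.ker_eq_bot_iff, eq_bot_iff]
      intro q hq'
      rw [MonoidHom.mem_ker, MonoidHom.comp_apply, QuotientGroup.mk'_apply,
        QuotientGroup.eq_one_iff] at hq'
      have : (q : S) ∈ Q ⊓ (C i).map (Subgroup.center S).subtype := ⟨q.2, hq'⟩
      rw [hQN, Subgroup.mem_bot] at this
      rw [Subgroup.mem_bot]
      exact Subtype.ext this
    have hsurj : Function.Surjective
        ((QuotientGroup.mk' ((C i).map (Subgroup.center S).subtype)).comp Q.subtype) := by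
      intro x
      induction x using QuotientGroup.induction_on with
      | H x =>
        have hx : x ∈ Q ⊔ (C i).map (Subgroup.center S).subtype := hQtop ▸ Subgroup.mem_top x
        obtain ⟨q₁, hq₁, n₁, hn₁, rfl⟩ := Subgroup.mem_sup_of_normal_right.mp hx
        refine ⟨⟨q₁, hq₁⟩, ?_⟩
        rw [MonoidHom.comp_apply, QuotientGroup.mk'_apply]
        symm
        rw [QuotientGroup.eq]
        simpa using hn₁
    obtain ⟨u, hu, huu⟩ := (hq i).2
    obtain ⟨v, hv⟩ := hsurj u
    refine ⟨v, ?_, ?_⟩
    · show orderOf v = 2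
      rw [← orderOf_injective _ hinj v, hv]
      exact hu
    · intro y hy
      apply hinj
      rw [hv]
      apply huu
      show orderOf _ = 2
      rw [orderOf_injective _ hinj y]
      exact hy

end Cfsg.Agent.S3201
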