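import Cfsg.Statements.S3202
import Cfsg.Agent.Lib.Helper97.UniqueOrderP
import Cfsg.Agent.Lib.Helper04.CyclicIndexP

set_option autoImplicit false
open Cfsg

namespace Cfsg.Agent.S3202

section aux
open scoped commutatorElement

theorem quat_closure (m : ℕ) [NeZero m] :
    Subgroup.closure ({QuaternionGroup.a 1, QuaternionGroup.xa 0} : Set (QuaternionGroup m)) = ⊤ := by
  rw [eq_top_iff]
  intro g _
  have ha1 : (QuaternionGroup.a 1 : QuaternionGroup m) ∈
      Subgroup.closure ({QuaternionGroup.a 1, QuaternionGroup.xa 0} : Set (QuaternionGroup m)) :=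
    Subgroup.subset_closure (Set.mem_insert _ _)
  have hx0 : (QuaternionGroup.xa 0 : QuaternionGroup m) ∈
      Subgroup.closure ({QuaternionGroup.a 1, QuaternionGroup.xa 0} : Set (QuaternionGroup m)) :=
    Subgroup.subset_closure (Set.mem_insert_of_mem _ rfl)
  have hai : ∀ i : ZMod (2 * m), (QuaternionGroup.a i : QuaternionGroup m) ∈
      Subgroup.closure ({QuaternionGroup.a 1, QuaternionGroup.xa 0} : Set (QuaternionGroup m)) := by
    intro i
    have h := Subgroup.pow_mem _ ha1 i.val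
    rwa [QuaternionGroup.a_one_pow, ZMod.natCast_zmod_val] at h
  cases g with
  | a i => exact hai i
  | xa i =>
    have h := Subgroup.mul_mem _ hx0 (hai i)
    rwa [QuaternionGroup.xa_mul_a, zero_add] at h

theorem quat_conj (m : ℕ) [NeZero m] :
    (QuaternionGroup.xa 0 : QuaternionGroup m) * QuaternionGroup.a 1 * (QuaternionGroup.xa 0)⁻¹ *
      QuaternionGroup.a 1 = 1 := by
  have h1 : (QuaternionGroup.xa 0 : QuaternionGroup m) * QuaternionGroup.a 1 =
      (QuaternionGroup.a 1)⁻¹ * QuaternionGroup.xa 0 := by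
    have : (QuaternionGroup.a 1 : QuaternionGroup m)⁻¹ = QuaternionGroup.a (-1) := rfl
    rw [this, QuaternionGroup.xa_mul_a, QuaternionGroup.a_mul_xa]
    congr 1
    ring
  rw [h1]
  group

variable {S : Type*} [Group S] [Finite S]

/-- If `S / N` is generalized quaternion with `N` central, then the commutator subgroup of `S` is
cyclic. -/
theorem commutator_cyclic_of_quaternion_quotient (N : Subgroup S) [N.Normal]
    (hNZ : N ≤ Subgroup.center S) (m : ℕ) [NeZero m] (e : S ⧸ N ≃* QuaternionGroup m) :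
    IsCyclic ↥(commutator S) := by
  obtain ⟨a, ha⟩ := QuotientGroup.mk_surjective (e.symm (QuaternionGroup.a 1))
  obtain ⟨b, hb⟩ := QuotientGroup.mk_surjective (e.symm (QuaternionGroup.xa 0))
  -- `d = b a b⁻¹ a` lies in `N`
  have hd : b * a * b⁻¹ * a ∈ N := by
    rw [← QuotientGroup.eq_one_iff]
    rw [QuotientGroup.mk_mul, QuotientGroup.mk_mul, QuotientGroup.mk_mul, QuotientGroup.mk_inv, ha, hb,
      ← map_inv, ← map_mul, ← map_mul, ← map_mul, quat_conj, map_one]
  have hdZ : ∀ g : S, g * (b * a * b⁻¹ * a) = (b * a * b⁻¹ * a) * g := fun g =>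
    (Subgroup.mem_center_iff.mp (hNZ hd) g)
  -- generation
  have hgen : Subgroup.closure (({a, b} : Set S) ∪ (N : Set S)) = ⊤ := by
    rw [Subgroup.closure_union, Subgroup.closure_eq]
    have h1 : (Subgroup.closure ({a, b} : Set S)).map (QuotientGroup.mk' N) = ⊤ := by
      rw [MonoidHom.map_closure, Set.image_pair, QuotientGroup.mk'_apply, QuotientGroup.mk'_apply,
        ha, hb]
      have h2 : ({e.symm (QuaternionGroup.a 1), e.symm (QuaternionGroup.xa 0)} : Set (S ⧸ N)) =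
          e.symm.toMonoidHom '' {QuaternionGroup.a 1, QuaternionGroup.xa 0} := by
        rw [Set.image_pair]; rfl
      rw [h2, ← MonoidHom.map_closure, quat_closure, ← MonoidHom.range_eq_map,
        MonoidHom.range_eq_top]
      exact e.symm.surjective
    have h3 := Subgroup.comap_map_eq (QuotientGroup.mk' N) (Subgroup.closure ({a, b} : Set S))
    rw [h1, Subgroup.comap_top, QuotientGroup.ker_mk'] at h3
    exact h3.symm
  -- `c = [b, a]`
  have hc : ⁅b, a⁆ = (b * a * b⁻¹ * a) * a⁻¹ * a⁻¹ := by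
    rw [commutatorElement_def]; group
  have hca : a * ⁅b, a⁆ * a⁻¹ = ⁅b, a⁆ := by
    rw [hc]
    calc a * ((b * a * b⁻¹ * a) * a⁻¹ * a⁻¹) * a⁻¹
        = (a * (b * a * b⁻¹ * a)) * a⁻¹ * a⁻¹ * a⁻¹ := by group
      _ = ((b * a * b⁻¹ * a) * a) * a⁻¹ * a⁻¹ * a⁻¹ := by rw [hdZ a]
      _ = (b * a * b⁻¹ * a) * a⁻¹ * a⁻¹ := by group
  have hca' : a⁻¹ * ⁅b, a⁆ * a = ⁅b, a⁆ := by
    calc a⁻¹ * ⁅b, a⁆ * a = a⁻¹ * (a * ⁅b, a⁆ * a⁻¹) * a := by rw [hca]
      _ = ⁅b, a⁆ := by group
  have hcb : b * ⁅b, a⁆ * b⁻¹ = ⁅b, a⁆⁻¹ := by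
    have h1 : b * a⁻¹ * b⁻¹ = a * (b * a * b⁻¹ * a)⁻¹ := by group
    have h2 : b * (b * a * b⁻¹ * a) * b⁻¹ = b * a * b⁻¹ * a := by
      rw [hdZ b]; group
    rw [hc]
    calc b * ((b * a * b⁻¹ * a) * a⁻¹ * a⁻¹) * b⁻¹
        = (b * (b * a * b⁻¹ * a) * b⁻¹) * (b * a⁻¹ * b⁻¹) * (b * a⁻¹ * b⁻¹) := by group
      _ = (b * a * b⁻¹ * a) * (a * (b * a * b⁻¹ * a)⁻¹) * (a * (b * a * b⁻¹ * a)⁻¹) := by
          rw [h2, h1]
      _ = ((b * a * b⁻¹ * a) * a) * (b * a * b⁻¹ * a)⁻¹ * a * (b * a * b⁻¹ * a)⁻¹ := by group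
      _ = (a * (b * a * b⁻¹ * a)) * (b * a * b⁻¹ * a)⁻¹ * a * (b * a * b⁻¹ * a)⁻¹ := by
          rw [hdZ a]
      _ = a * a * (b * a * b⁻¹ * a)⁻¹ := by group
      _ = ((b * a * b⁻¹ * a) * a⁻¹ * a⁻¹)⁻¹ := by group
  have hcb' : b⁻¹ * ⁅b, a⁆ * b = ⁅b, a⁆⁻¹ := by
    calc b⁻¹ * ⁅b, a⁆ * b = (b⁻¹ * ⁅b, a⁆⁻¹ * b)⁻¹ := by group
      _ = (b⁻¹ * (b * ⁅b, a⁆ * b⁻¹) * b)⁻¹ := by rw [hcb]
      _ = ⁅b, a⁆⁻¹ := by group
  -- `zpowers c` is normal
  have hpow : ∀ (h : S) (k : ℤ), h * ⁅b, a⁆ * h⁻¹ = ⁅b, a⁆ ^ k →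
      ∀ x ∈ Subgroup.zpowers ⁅b, a⁆, h * x * h⁻¹ ∈ Subgroup.zpowers ⁅b, a⁆ := by
    intro h k hk x hx
    obtain ⟨j, rfl⟩ := Subgroup.mem_zpowers_iff.mp hx
    have : h * ⁅b, a⁆ ^ j * h⁻¹ = (h * ⁅b, a⁆ * h⁻¹) ^ j := by
      rw [conj_zpow]
    rw [this, hk, ← zpow_mul]
    exact Subgroup.zpow_mem_zpowers _ _
  have hnorm : ∀ g : S, (∀ x ∈ Subgroup.zpowers ⁅b, a⁆, g * x * g⁻¹ ∈ Subgroup.zpowers ⁅b, a⁆) ∧
      (∀ x ∈ Subgroup.zpowers ⁅b, a⁆, g⁻¹ * x * g ∈ Subgroup.zpowers ⁅b, a⁆) := by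
    intro g
    have hg : g ∈ Subgroup.closure (({a, b} : Set S) ∪ (N : Set S)) := hgen ▸ Subgroup.mem_top g
    induction hg using Subgroup.closure_induction with
    | mem g hg =>
      rcases hg with hg | hg
      · rcases hg with hg | hg
        · rw [hg]
          refine ⟨hpow a 1 (by rw [zpow_one]; exact hca), fun x hx => ?_⟩
          have := hpow a⁻¹ 1 (by rw [zpow_one, inv_inv]; exact hca') x hx
          rwa [inv_inv] at this
        · rw [Set.mem_singleton_iff] at hg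
          rw [hg]
          refine ⟨hpow b (-1) (by rw [zpow_neg_one]; exact hcb), fun x hx => ?_⟩
          have := hpow b⁻¹ (-1) (by rw [zpow_neg_one, inv_inv]; exact hcb') x hx
          rwa [inv_inv] at this
      · have hgZ : ∀ x : S, g * x = x * g := fun x => ((Subgroup.mem_center_iff.mp (hNZ hg)) x).symm
        refine ⟨fun x hx => ?_, fun x hx => ?_⟩
        · rw [hgZ x, mul_inv_cancel_right]; exact hx
        · rw [mul_assoc, ← hgZ x, inv_mul_cancel_left]; exact hx
    | one =>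
      refine ⟨fun x hx => ?_, fun x hx => ?_⟩
      · simpa using hx
      · simpa using hx
    | mul x y _ _ hx hy =>
      refine ⟨fun u hu => ?_, fun u hu => ?_⟩
      · have := hx.1 _ (hy.1 u hu)
        rwa [show x * (y * u * y⁻¹) * x⁻¹ = x * y * u * (x * y)⁻¹ by group] at this
      · have := hy.2 _ (hx.2 u hu)
        rwa [show y⁻¹ * (x⁻¹ * u * x) * y = (x * y)⁻¹ * u * (x * y) by group] at this
    | inv x _ hx =>
      refine ⟨fun u hu => ?_, fun u hu => ?_⟩
      · have := hx.2 u hu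
        rwa [inv_inv]
      · have := hx.1 u hu
        rwa [inv_inv]
  have : (Subgroup.zpowers ⁅b, a⁆).Normal := ⟨fun x hx g => (hnorm g).1 x hx⟩
  have hle : commutator S ≤ Subgroup.zpowers ⁅b, a⁆ := by
    apply Cfsg.Agent.Lib.Helper04.commutator_le_of_closure_eq_top _ hgen
    intro s hs t ht
    have hcentral : ∀ u ∈ (N : Set S), ∀ v : S, ⁅u, v⁆ = 1 ∧ ⁅v, u⁆ = 1 := by
      intro u hu v
      have := (Subgroup.mem_center_iff.mp (hNZ hu)) v
      constructor
      · rw [commutatorElement_eq_one_iff_mul_comm]; exact this.symm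
      · rw [commutatorElement_eq_one_iff_mul_comm]; exact this
    rcases hs with hs | hs
    · rcases ht with ht | ht
      · have hs' : s = a ∨ s = b := by simpa using hs
        have ht' : t = a ∨ t = b := by simpa using ht
        rcases hs' with hs' | hs' <;> rcases ht' with ht' | ht' <;> rw [hs', ht']
        · rw [commutatorElement_self]; exact Subgroup.one_mem _
        · rw [← commutatorElement_inv b a]; exact Subgroup.inv_mem _ (Subgroup.mem_zpowers _)
        · exact Subgroup.mem_zpowers _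
        · rw [commutatorElement_self]; exact Subgroup.one_mem _
      · rw [(hcentral t ht s).2]; exact Subgroup.one_mem _
    · rw [(hcentral s hs t).1]; exact Subgroup.one_mem _
  exact Subgroup.isCyclic_of_le hle

omit [Finite S] in
theorem comm_of_commutator_eq_bot (h : commutator S = ⊥) (x y : S) : x * y = y * x := by
  rw [← commutatorElement_eq_one_iff_mul_comm]
  have : ⁅x, y⁆ ∈ commutator S :=
    Subgroup.commutator_mem_commutator (Subgroup.mem_top x) (Subgroup.mem_top y)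
  rw [h] at this
  exact Subgroup.mem_bot.mp this

end aux

/-- Let S be a finite 2-group of 2-rank exactly 2 and D a maximal subgroup of the centre of S such that S/D is a non-abelian group with exactly one involution (a generalized quaternion group). Then S has a nontrivial cyclic characteristic subgroup. -/
theorem result {S : Type*} [Group S]
    [Finite S] (hS : IsPGroup 2 S) (hr2 : Cfsg.PRankLE 2 2 S) (hr1 : ¬ Cfsg.PRankLE 2 1 S)
    (D : Subgroup ↥(Subgroup.center S)) (hD : IsCoatom D)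
    (hq : ∃ (_ : (D.map (Subgroup.center S).subtype).Normal),
      ¬ IsMulCommutative (S ⧸ D.map (Subgroup.center S).subtype) ∧
      ∃! x : S ⧸ D.map (Subgroup.center S).subtype, orderOf x = 2) :
    ∃ C : Subgroup S, C ≠ ⊥ ∧ IsCyclic ↥C ∧ C.Characteristic := by
  obtain ⟨hNn, hnc, hu⟩ := hq
  have := hNn
  have hNZ : D.map (Subgroup.center S).subtype ≤ Subgroup.center S := by
    rintro _ ⟨x, _, rfl⟩
    exact x.2
  have hQ2 : IsPGroup 2 (S ⧸ D.map (Subgroup.center S).subtype) := hS.to_quotient _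
  have hUQ : Cfsg.Agent.Lib.Helper97.UniqueOrderP 2 (S ⧸ D.map (Subgroup.center S).subtype) := by
    intro x y hx hy
    obtain ⟨u, -, huu⟩ := hu
    rw [huu y hy, huu x hx]
    exact Subgroup.mem_zpowers u
  have hQnc : ¬ IsCyclic (S ⧸ D.map (Subgroup.center S).subtype) :=
    fun h => hnc IsCyclic.isMulCommutative
  obtain ⟨n, ⟨e⟩⟩ := Cfsg.Agent.Lib.Helper97.quaternion_of_uniqueOrderP_two hQ2 hUQ hQnc
  refine ⟨commutator S, ?_, commutator_cyclic_of_quaternion_quotient _ hNZ (2 ^ n) e, inferInstance⟩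
  intro hbot
  apply hnc
  have hcomm : ∀ x y : S, x * y = y * x := comm_of_commutator_eq_bot hbot
  refine ⟨⟨fun x y => ?_⟩⟩
  induction x using QuotientGroup.induction_on with
  | H x =>
    induction y using QuotientGroup.induction_on with
    | H y =>
      rw [← QuotientGroup.mk_mul, ← QuotientGroup.mk_mul, hcomm x y]

end Cfsg.Agent.S3202
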