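import Cfsg.Statements.S3203
import Cfsg.Agent.Lib.Helper60.Conj
import Cfsg.Agent.Lib.Helper60.SylowConj

set_option autoImplicit false
open Cfsg

namespace Cfsg.Agent.S3203

open Cfsg.Agent.Lib.Helper60

local notation:max "cj[" g "] " X:max => Subgroup.map (MulEquiv.toMonoidHom (MulAut.conj g)) X

/-- elementary abelian 2-subgroup, at the level of the ambient group -/
def EA {G : Type*} [Group G] (X : Subgroup G) : Prop :=
  (∀ x ∈ X, ∀ y ∈ X, x * y = y * x) ∧ ∀ x ∈ X, x ^ 2 = 1

theorem EA_cj {G : Type*} [Group G] (g : G) {X : Subgroup G} (h : EA X) : EA (cj[g] X) := by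
  constructor
  · intro x hx y hy
    rw [mem_map_conj_iff] at hx hy
    have := h.1 _ hx _ hy
    have e : g⁻¹ * (x * y) * g = g⁻¹ * (y * x) * g := by
      calc g⁻¹ * (x * y) * g = (g⁻¹ * x * g) * (g⁻¹ * y * g) := by simp [mul_assoc]
        _ = (g⁻¹ * y * g) * (g⁻¹ * x * g) := this
        _ = g⁻¹ * (y * x) * g := by simp [mul_assoc]
    have e2 := mul_left_cancel (mul_right_cancel e)
    exact e2
  · intro x hx
    rw [mem_map_conj_iff] at hx
    have := h.2 _ hx
    have e : g⁻¹ * (x ^ 2) * g = (g⁻¹ * x * g) ^ 2 := by simp [pow_two, mul_assoc]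
    rw [this] at e
    have e3 : x ^ 2 = g * 1 * g⁻¹ := by rw [← e]; simp [mul_assoc]
    simpa using e3

theorem EA_map_iff {G : Type*} [Group G] (S : Subgroup G) (C : Subgroup ↥S) :
    Cfsg.IsElementaryAbelian 2 C ↔ EA (C.map S.subtype) := by
  unfold Cfsg.IsElementaryAbelian EA
  rw [isMulCommutative_iff]
  constructor
  · rintro ⟨h1, h2⟩
    constructor
    · rintro x ⟨x', hx', rfl⟩ y ⟨y', hy', rfl⟩
      have := h1 ⟨x', hx'⟩ ⟨y', hy'⟩
      have e := congrArg (fun z : ↥C => ((z : ↥S) : G)) this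
      simpa using e
    · rintro x ⟨x', hx', rfl⟩
      have := h2 x' hx'
      have e := congrArg (fun z : ↥S => (z : G)) this
      simpa using e
  · rintro ⟨h1, h2⟩
    constructor
    · intro a b
      have := h1 _ ⟨a.1, a.2, rfl⟩ _ ⟨b.1, b.2, rfl⟩
      ext
      simpa using this
    · intro a ha
      have := h2 _ ⟨a, ha, rfl⟩
      ext
      simpa using this

structure Setup {G : Type*} [Group G] (S A B : Subgroup G) : Prop where
  hAS : A ≤ S
  hBS : B ≤ S
  hne : A ≠ B
  hA1 : EA A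
  hA2 : ∀ C : Subgroup G, C ≤ S → EA C → A ≤ C → C = A
  hB1 : EA B
  hB2 : ∀ C : Subgroup G, C ≤ S → EA C → B ≤ C → C = B
  hcov : ∀ X : Subgroup G, X ≤ S → EA X → X ≤ A ∨ X ≤ B
  hprod : ∀ s ∈ S, ∃ a ∈ A, ∃ b ∈ B, a * b = s

theorem Setup.symm {G : Type*} [Group G] {S A B : Subgroup G} (h : Setup S A B) :
    Setup S B A where
  hAS := h.hBS
  hBS := h.hAS
  hne := h.hne.symm
  hA1 := h.hB1
  hA2 := h.hB2
  hB1 := h.hA1
  hB2 := h.hA2
  hcov := fun X hX hE => (h.hcov X hX hE).symm
  hprod := by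
    intro s hs
    obtain ⟨a, ha, b, hb, hab⟩ := h.hprod s⁻¹ (S.inv_mem hs)
    refine ⟨b⁻¹, B.inv_mem hb, a⁻¹, A.inv_mem ha, ?_⟩
    rw [← mul_inv_rev, hab, inv_inv]

/-- `A` is normal in `S`. -/
theorem Setup.normal {G : Type*} [Group G] [Finite G] {S A B : Subgroup G} (h : Setup S A B) :
    S ≤ Subgroup.normalizer (A : Set G) := by
  intro s hs
  have key : s⁻¹ ∈ Subgroup.normalizer (A : Set G) := by
    rw [mem_normalizer_iff_cj]
    obtain ⟨a, ha, b, hb, hab⟩ := h.hprod s hs
    have hXS : cj[s⁻¹] A ≤ S := by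
      intro x hx
      rw [mem_map_conj_iff, inv_inv] at hx
      have h1 := h.hAS hx
      have h2 := S.mul_mem (S.mul_mem (S.inv_mem hs) h1) hs
      simpa [mul_assoc] using h2
    rcases h.hcov _ hXS (EA_cj _ h.hA1) with h1 | h1
    · exact cj_eq_of_le _ _ h1
    · exfalso
      apply h.hne
      symm
      apply h.hA2 B h.hBS h.hB1
      intro a' ha'
      have hx : s⁻¹ * a' * s ∈ cj[s⁻¹] A := by
        rw [mem_map_conj_iff]
        simpa [mul_assoc] using ha'
      have hxB := h1 hx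
      have e : s⁻¹ * a' * s = b⁻¹ * a' * b := by
        rw [← hab]
        have hc : a⁻¹ * a' * a = a' := by
          rw [h.hA1.1 _ (A.inv_mem ha) _ ha']; simp
        calc (a * b)⁻¹ * a' * (a * b) = b⁻¹ * (a⁻¹ * a' * a) * b := by simp [mul_assoc]
          _ = b⁻¹ * a' * b := by rw [hc]
      rw [e] at hxB
      have := B.mul_mem (B.mul_mem hb hxB) (B.inv_mem hb)
      simpa [mul_assoc] using this
  simpa using (Subgroup.normalizer (A : Set G)).inv_mem key

theorem Setup.conj_cases {G : Type*} [Group G] [Finite G] {S A B : Subgroup G}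
    (h : Setup S A B) (n : G) (hn : n ∈ Subgroup.normalizer (S : Set G)) :
    cj[n] A = A ∨ cj[n] A = B := by
  have hnS : cj[n] S = S := (mem_normalizer_iff_cj n S).mp hn
  have hnS' : cj[n⁻¹] S = S :=
    (mem_normalizer_iff_cj n⁻¹ S).mp ((Subgroup.normalizer (S : Set G)).inv_mem hn)
  have hXS : cj[n] A ≤ S := by
    have := cj_mono n h.hAS
    rwa [hnS] at this
  rcases h.hcov _ hXS (EA_cj _ h.hA1) with h1 | h1
  · left; exact cj_eq_of_le _ _ h1
  · right
    have h2 : A ≤ cj[n⁻¹] B := (cj_le_iff n A B).mp h1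
    have hYS : cj[n⁻¹] B ≤ S := by
      have := cj_mono n⁻¹ h.hBS
      rwa [hnS'] at this
    have h3 := h.hA2 _ hYS (EA_cj _ h.hB1) h2
    rw [← h3, cj_cj_inv]

theorem exists_odd_pow_mem {G : Type*} [Group G] [Finite G] (S : Sylow 2 G) (n : G)
    (hn : n ∈ Subgroup.normalizer ((S : Subgroup G) : Set G)) :
    ∃ m : ℕ, Odd m ∧ n ^ m ∈ (S : Subgroup G) := by
  obtain ⟨k, m, hm, hkm⟩ := Nat.exists_eq_two_pow_mul_odd (orderOf_pos n).ne'
  refine ⟨m, hm, ?_⟩
  have hpow : (n ^ m) ^ (2 ^ k) = 1 := by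
    rw [← pow_mul, mul_comm, ← hkm, pow_orderOf_eq_one]
  have hQ : IsPGroup 2 ↥(Subgroup.zpowers (n ^ m)) := by
    intro y
    refine ⟨k, ?_⟩
    obtain ⟨y, hy⟩ := y
    obtain ⟨j, rfl⟩ := Subgroup.mem_zpowers_iff.mp hy
    ext
    simp only [Subgroup.coe_pow, Subgroup.coe_one]
    rw [← zpow_natCast, ← zpow_mul, mul_comm, zpow_mul, zpow_natCast, hpow, one_zpow]
  have hQN : Subgroup.zpowers (n ^ m) ≤ Subgroup.normalizer ((S : Subgroup G) : Set G) := by
    rw [Subgroup.zpowers_le]
    exact Subgroup.pow_mem _ hn m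
  obtain ⟨h, hhN, hh⟩ := exists_conj_mem_of_sylow_le S _ Subgroup.le_normalizer _ hQN hQ
  have h1 := hh _ (Subgroup.mem_zpowers (n ^ m))
  have h2 : h⁻¹ ∈ Subgroup.normalizer ((S : Subgroup G) : Set G) := Subgroup.inv_mem _ hhN
  have h3 := (Subgroup.mem_normalizer_iff.mp h2 _).mp h1
  simpa [mul_assoc] using h3

theorem Setup.norm_le {G : Type*} [Group G] [Finite G] (S : Sylow 2 G) {A B : Subgroup G}
    (h : Setup (S : Subgroup G) A B) :
    Subgroup.normalizer ((S : Subgroup G) : Set G) ≤ Subgroup.normalizer (A : Set G) := by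
  intro n hn
  rw [mem_normalizer_iff_cj]
  rcases h.conj_cases n hn with h1 | h1
  · exact h1
  · exfalso
    have hB : cj[n] B = A := by
      rcases h.symm.conj_cases n hn with h2 | h2
      · exfalso
        apply h.hne
        apply cj_inj n
        rw [h1, h2]
      · exact h2
    have hnnA : n * n ∈ Subgroup.normalizer (B : Set G) := by
      rw [mem_normalizer_iff_cj, cj_mul, hB, h1]
    obtain ⟨m, hm, hmS⟩ := exists_odd_pow_mem S n hn
    obtain ⟨k, rfl⟩ := hm
    have e : n ^ (2 * k + 1) = (n * n) ^ k * n := by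
      rw [pow_succ, pow_mul, pow_two]
    have h3 : cj[n ^ (2 * k + 1)] A = B := by
      rw [e, cj_mul, h1]
      exact (mem_normalizer_iff_cj _ B).mp (Subgroup.pow_mem _ hnnA k)
    have h4 : cj[n ^ (2 * k + 1)] A = A := (mem_normalizer_iff_cj _ A).mp (h.normal hmS)
    apply h.hne
    rw [← h4, h3]

theorem Setup.weaklyClosed {G : Type*} [Group G] [Finite G] (S : Sylow 2 G) {A B : Subgroup G}
    (h : Setup (S : Subgroup G) A B) : Cfsg.IsWeaklyClosed A (S : Subgroup G) := by
  refine ⟨h.hAS, ?_⟩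
  intro g hg
  rcases h.hcov _ hg (EA_cj _ h.hA1) with h1 | h1
  · exact cj_eq_of_le _ _ h1
  · exfalso
    -- X = cj[g] A ≤ B
    have hBN : B ≤ Subgroup.normalizer ((cj[g] A : Subgroup G) : Set G) := by
      rw [Subgroup.le_normalizer_iff]
      intro b hb x hx
      have : b * x * b⁻¹ = x := by
        rw [h.hB1.1 b hb x (h1 hx)]; simp
      rw [this]; exact hx
    have hSN : ((g • S : Sylow 2 G) : Subgroup G) ≤
        Subgroup.normalizer ((cj[g] A : Subgroup G) : Set G) := by
      rw [sylow_smul_eq_cj]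
      exact cj_le_normalizer_cj g h.normal
    have hBp : IsPGroup 2 ↥B := S.2.to_le h.hBS
    obtain ⟨k, hkN, hk⟩ := exists_conj_mem_of_sylow_le (g • S) _ hSN B hBN hBp
    -- Y = cj[g⁻¹ * k] B
    have hYS : cj[g⁻¹ * k] B ≤ (S : Subgroup G) := by
      intro y hy
      rw [mem_map_conj_iff] at hy
      have h2 := hk _ hy
      rw [sylow_smul_eq_cj, mem_map_conj_iff] at h2
      have e : g⁻¹ * (k * ((g⁻¹ * k)⁻¹ * y * (g⁻¹ * k)) * k⁻¹) * g = y := by
        simp [mul_assoc]
      rwa [e] at h2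
    have hAY : A ≤ cj[g⁻¹ * k] B := by
      intro a ha
      rw [mem_map_conj_iff]
      have hx : g * a * g⁻¹ ∈ cj[g] A := by
        rw [mem_map_conj_iff]; simpa [mul_assoc] using ha
      have hk' : k⁻¹ ∈ Subgroup.normalizer ((cj[g] A : Subgroup G) : Set G) :=
        Subgroup.inv_mem _ hkN
      have h3 := (Subgroup.mem_normalizer_iff.mp hk' _).mp hx
      have h4 := h1 h3
      have e : (g⁻¹ * k)⁻¹ * a * (g⁻¹ * k) = k⁻¹ * (g * a * g⁻¹) * k⁻¹⁻¹ := by
        simp [mul_assoc]
      rw [e]; exact h4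
    have hYA := h.hA2 _ hYS (EA_cj _ h.hB1) hAY
    have hcard : Nat.card ↥B = Nat.card ↥A := by
      rw [← hYA, card_cj]
    have hXB : cj[g] A = B := eq_of_le_of_card_eq_cj g A B h1 hcard
    -- Burnside
    rw [hXB] at hSN
    have hSB : (S : Subgroup G) ≤ Subgroup.normalizer (B : Set G) := h.symm.normal
    have hgSp : IsPGroup 2 ↥((g • S : Sylow 2 G) : Subgroup G) := (g • S).2
    obtain ⟨k', hk'N, hk'⟩ := exists_conj_mem_of_sylow_le S _ hSB _ hSN hgSp
    have hnS : k' * g ∈ Subgroup.normalizer ((S : Subgroup G) : Set G) := by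
      rw [mem_normalizer_iff_cj]
      apply cj_eq_of_le
      intro y hy
      rw [mem_map_conj_iff] at hy
      have h5 : g * ((k' * g)⁻¹ * y * (k' * g)) * g⁻¹ ∈ ((g • S : Sylow 2 G) : Subgroup G) := by
        rw [sylow_smul_eq_cj, mem_map_conj_iff]
        simpa [mul_assoc] using hy
      have h6 := hk' _ h5
      have e : k' * (g * ((k' * g)⁻¹ * y * (k' * g)) * g⁻¹) * k'⁻¹ = y := by
        simp [mul_assoc]
      rwa [e] at h6
    have h7 := (mem_normalizer_iff_cj _ A).mp (h.norm_le S hnS)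
    rw [cj_mul, hXB, (mem_normalizer_iff_cj _ B).mp hk'N] at h7
    exact h.hne h7.symm

/-- Let S be a Sylow 2-subgroup of a finite group G having exactly two subgroups A ≠ B that are maximal among its elementary abelian subgroups, with S = AB. Then A and B are each weakly closed in S with respect to G, and the normalizer of S normalizes both A and B. -/
theorem result {G : Type*} [Group G] [Finite G] (S : Sylow 2 G)
    (A B : Subgroup ↥(S : Subgroup G)) (hAB : A ≠ B)
    (hA : Cfsg.IsElementaryAbelian 2 A ∧ ∀ C : Subgroup ↥(S : Subgroup G), Cfsg.IsElementaryAbelian 2 C → A ≤ C → C = A)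
    (hB : Cfsg.IsElementaryAbelian 2 B ∧ ∀ C : Subgroup ↥(S : Subgroup G), Cfsg.IsElementaryAbelian 2 C → B ≤ C → C = B)
    (honly : ∀ C : Subgroup ↥(S : Subgroup G), Cfsg.IsElementaryAbelian 2 C →
      (∀ D : Subgroup ↥(S : Subgroup G), Cfsg.IsElementaryAbelian 2 D → C ≤ D → D = C) → C = A ∨ C = B)
    (hprod : ∀ s : ↥(S : Subgroup G), ∃ a ∈ A, ∃ b ∈ B, a * b = s)
    (A' B' : Subgroup G) (hA' : A' = A.map (S : Subgroup G).subtype) (hB' : B' = B.map (S : Subgroup G).subtype) :
    Cfsg.IsWeaklyClosed A' (S : Subgroup G) ∧ Cfsg.IsWeaklyClosed B' (S : Subgroup G) ∧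
      Subgroup.normalizer ((S : Subgroup G) : Set G) ≤ Subgroup.normalizer (A' : Set G) ⊓ Subgroup.normalizer (B' : Set G) := by
  -- translate between subgroups of S and subgroups of G below S
  have hmapsub : ∀ C : Subgroup G, C ≤ (S : Subgroup G) →
      (C.subgroupOf (S : Subgroup G)).map (S : Subgroup G).subtype = C := by
    intro C hC
    exact Subgroup.map_subgroupOf_eq_of_le hC
  have hmaple : ∀ C : Subgroup ↥(S : Subgroup G), C.map (S : Subgroup G).subtype ≤ (S : Subgroup G) := by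
    intro C
    exact Subgroup.map_subtype_le C
  have hinj : Function.Injective (Subgroup.map (S : Subgroup G).subtype) :=
    Subgroup.map_injective (Subgroup.subtype_injective _)
  have hmono : ∀ C D : Subgroup ↥(S : Subgroup G),
      C.map (S : Subgroup G).subtype ≤ D.map (S : Subgroup G).subtype ↔ C ≤ D := by
    intro C D
    exact Subgroup.map_le_map_iff_of_injective (Subgroup.subtype_injective _)
  -- maximality in the G-level
  have hmaxG : ∀ M : Subgroup ↥(S : Subgroup G), Cfsg.IsElementaryAbelian 2 M →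
      (∀ C : Subgroup ↥(S : Subgroup G), Cfsg.IsElementaryAbelian 2 C → M ≤ C → C = M) →
      ∀ C : Subgroup G, C ≤ (S : Subgroup G) → EA C → M.map (S : Subgroup G).subtype ≤ C →
        C = M.map (S : Subgroup G).subtype := by
    intro M _ hM2 C hCS hCE hMC
    have h1 : Cfsg.IsElementaryAbelian 2 (C.subgroupOf (S : Subgroup G)) := by
      rw [EA_map_iff, hmapsub C hCS]; exact hCE
    have h2 : M ≤ C.subgroupOf (S : Subgroup G) := by
      rw [← hmono, hmapsub C hCS]; exact hMC
    have h3 := hM2 _ h1 h2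
    rw [← h3, hmapsub C hCS]
  have hcov : ∀ X : Subgroup G, X ≤ (S : Subgroup G) → EA X → X ≤ A' ∨ X ≤ B' := by
    intro X hXS hXE
    -- choose a maximal elementary abelian subgroup above X
    have hfin : ({D : Subgroup G | D ≤ (S : Subgroup G) ∧ EA D} : Set (Subgroup G)).Finite :=
      Set.toFinite _
    obtain ⟨M, hXM, hM⟩ := hfin.exists_le_maximal (a := X) ⟨hXS, hXE⟩
    have hMS : M ≤ (S : Subgroup G) := hM.prop.1
    have hME : EA M := hM.prop.2
    have h1 : Cfsg.IsElementaryAbelian 2 (M.subgroupOf (S : Subgroup G)) := by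
      rw [EA_map_iff, hmapsub M hMS]; exact hME
    have h2 : ∀ D : Subgroup ↥(S : Subgroup G), Cfsg.IsElementaryAbelian 2 D →
        M.subgroupOf (S : Subgroup G) ≤ D → D = M.subgroupOf (S : Subgroup G) := by
      intro D hD hMD
      have hD' : EA (D.map (S : Subgroup G).subtype) := (EA_map_iff _ D).mp hD
      have hle : M ≤ D.map (S : Subgroup G).subtype := by
        rw [← hmapsub M hMS, hmono]; exact hMD
      have := hM.le_of_ge ⟨hmaple D, hD'⟩ hle
      apply le_antisymm _ hMD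
      rw [← hmono, hmapsub M hMS]; exact this
    rcases honly _ h1 h2 with h3 | h3
    · left
      rw [hA', ← h3, hmapsub M hMS]; exact hXM
    · right
      rw [hB', ← h3, hmapsub M hMS]; exact hXM
  have hsetup : Setup (S : Subgroup G) A' B' :=
    { hAS := by rw [hA']; exact hmaple A
      hBS := by rw [hB']; exact hmaple B
      hne := by
        rw [hA', hB']
        exact fun h => hAB (hinj h)
      hA1 := by rw [hA']; exact (EA_map_iff _ A).mp hA.1
      hA2 := by rw [hA']; exact hmaxG A hA.1 hA.2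
      hB1 := by rw [hB']; exact (EA_map_iff _ B).mp hB.1
      hB2 := by rw [hB']; exact hmaxG B hB.1 hB.2
      hcov := hcov
      hprod := by
        intro s hs
        obtain ⟨a, ha, b, hb, hab⟩ := hprod ⟨s, hs⟩
        refine ⟨a, ?_, b, ?_, ?_⟩
        · rw [hA']; exact ⟨a, ha, rfl⟩
        · rw [hB']; exact ⟨b, hb, rfl⟩
        · have := congrArg (fun z : ↥(S : Subgroup G) => (z : G)) hab
          simpa using this }
  refine ⟨hsetup.weaklyClosed S, hsetup.symm.weaklyClosed S, ?_⟩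
  exact le_inf (hsetup.norm_le S) (hsetup.symm.norm_le S)

end Cfsg.Agent.S3203
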