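import Cfsg.Statements.S3206
import Cfsg.Agent.Lib.Helper06.CentExt
import Cfsg.Agent.Lib.Helper06.JRStruct
import Cfsg.Agent.Lib.Helper06.AbelSylowInner

set_option autoImplicit false
open Cfsg

namespace Cfsg.Agent.S3206

/-- Let G be a non-abelian finite simple group with abelian Sylow 2-subgroups, and let t be an involution of G whose centralizer is a maximal subgroup of G and is the direct product of the subgroup generated by t with a subgroup E having a normal subgroup isomorphic to PSL(2, q), q odd and greater than 3, with trivial centralizer in E. Then every finite perfect group having a central 2-subgroup with quotient isomorphic to G has that central subgroup trivial (G has no nontrivial perfect central extension by a 2-group), and every automorphism of G of 2-power order that fixes every element of some Sylow 2-subgroup of G is inner. -/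
theorem result {G : Type*} [Group G] [Finite G] [IsSimpleGroup G]
    (hG : ¬ IsMulCommutative G) (hab : ∀ S : Sylow 2 G, IsMulCommutative ↥(S : Subgroup G))
    (t : G) (ht : orderOf t = 2) (hmax : IsCoatom (Subgroup.centralizer ({t} : Set G)))
    (E : Subgroup G) (hE : Cfsg.IsInternalDirectProduct (Subgroup.zpowers t) E (Subgroup.centralizer ({t} : Set G)))
    {F : Type*} [Field F] [Fintype F] (hFo : Odd (Fintype.card F)) (hF3 : 3 < Fintype.card F)
    (N : Subgroup ↥E) [N.Normal] (hN : Nonempty (↥N ≃* Matrix.ProjectiveSpecialLinearGroup (Fin 2) F))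
    (hNc : Subgroup.centralizer (N : Set ↥E) = ⊥) :
    (∀ (L : Type) (_ : Group L) (_ : Finite L) (Z : Subgroup L) (_ : Z.Normal), commutator L = ⊤ → Z ≤ Subgroup.center L →
        IsPGroup 2 ↥Z → Nonempty (L ⧸ Z ≃* G) → Z = ⊥) ∧
    (∀ (φ : G ≃* G) (k : ℕ), φ ^ (2 ^ k) = 1 → (∃ S : Sylow 2 G, ∀ s ∈ (S : Subgroup G), φ s = s) →
        ∃ g : G, ∀ x : G, φ x = g * x * g⁻¹) := by
  classical
  haveI : Fact (Nat.Prime 2) := ⟨Nat.prime_two⟩
  have hab' : ∀ S : Sylow 2 G, ∀ a ∈ (S : Subgroup G), ∀ b ∈ (S : Subgroup G),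
      a * b = b * a := by
    intro S a ha b hb
    have h := (hab S).is_comm.comm (⟨a, ha⟩ : ↥(S : Subgroup G)) ⟨b, hb⟩
    exact congrArg Subtype.val h
  have h2G : 2 ∣ Nat.card G := by rw [← ht]; exact orderOf_dvd_natCard t
  have hcore : Cfsg.pPrimeCore 2 G = ⊥ := by
    unfold Cfsg.pPrimeCore
    rw [eq_bot_iff]
    apply sSup_le
    rintro M ⟨hMn, hMc⟩
    rcases hMn.eq_bot_or_eq_top with h | h
    · rw [h]
    · exfalso
      rw [h, Subgroup.card_top] at hMc
      have h2 : (2 : ℕ) ∣ Nat.gcd (Nat.card G) 2 := Nat.dvd_gcd h2G (dvd_refl 2)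
      rw [Nat.Coprime] at hMc
      rw [hMc] at h2
      norm_num at h2
  have hO : Cfsg.oddCore G = ⊥ := hcore
  have hZ : ∀ y : G, (∀ g : G, y * g = g * y) → y = 1 := by
    intro y hy
    have hcen : y ∈ Subgroup.center G := Subgroup.mem_center_iff.mpr (fun g => (hy g).symm)
    rcases (inferInstance : (Subgroup.center G).Normal).eq_bot_or_eq_top with h | h
    · rw [h] at hcen; exact hcen
    · exfalso
      apply hG
      refine ⟨⟨fun a b => ?_⟩⟩
      have ha : a ∈ Subgroup.center G := by rw [h]; trivial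
      exact (Subgroup.mem_center_iff.mp ha b).symm
  have h8 : ∀ S : Sylow 2 G, Nat.card S = 8 := fun S =>
    Cfsg.Agent.Lib.Helper06.JRStruct.sylow_card_eight hab' t ht E hE hFo hF3 N hN hNc S
  refine ⟨?_, ?_⟩
  · intro L _ _ Z _ hperf hZc hZp ⟨e⟩
    let π : L →* G := e.toMonoidHom.comp (QuotientGroup.mk' Z)
    have hπ : Function.Surjective π := by
      intro g
      obtain ⟨y, rfl⟩ := e.surjective g
      obtain ⟨x, rfl⟩ := QuotientGroup.mk_surjective y
      exact ⟨x, rfl⟩
    have hker : π.ker = Z := by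
      ext x
      rw [MonoidHom.mem_ker]
      show e (QuotientGroup.mk x) = 1 ↔ x ∈ Z
      rw [e.map_eq_one_iff, QuotientGroup.eq_one_iff]
    have hbot := Cfsg.Agent.Lib.Helper06.CentExt.no_ext hO hZ hab' h8 (Nat.card L) L π rfl hπ
      hperf (by rw [hker]; exact hZc) (by rw [hker]; exact hZp)
    rw [← hker]; exact hbot
  · intro φ k hk ⟨S, hS⟩
    have hord : ∃ j : ℕ, orderOf (φ : MulAut G) = 2 ^ j := by
      obtain ⟨j, -, hj⟩ := (Nat.dvd_prime_pow Nat.prime_two).mp (orderOf_dvd_of_pow_eq_one hk)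
      exact ⟨j, hj⟩
    exact Cfsg.Agent.Lib.Helper06.AbelSylowInner.inner_of_fixes_abelian_sylow hcore S (hab' S)
      φ hord hS

end Cfsg.Agent.S3206
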