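import Cfsg.Statements.S3208
import Cfsg.Agent.Lib.Helper60.Basic

set_option autoImplicit false
open Cfsg

namespace Cfsg.Agent.S3208

open Cfsg.Agent.Lib.Helper60

/-- Let j be an involution of a finite group G, H a subgroup of G, and T a Sylow 2-subgroup of H ∩ C_G(j) containing j such that ⟨j⟩ is a characteristic subgroup of T. Then T is a Sylow 2-subgroup of H. -/
theorem result {G : Type*} [Group G] [Finite G]
    (j : G) (hj : orderOf j = 2) (H T : Subgroup G) (hT : T ≤ H ⊓ Subgroup.centralizer ({j} : Set G)) (h2 : IsPGroup 2 ↥T)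
    (hSyl : ¬ 2 ∣ T.relIndex (H ⊓ Subgroup.centralizer ({j} : Set G))) (hjT : j ∈ T)
    (hchar : ((Subgroup.zpowers j).subgroupOf T).Characteristic) :
    ¬ 2 ∣ T.relIndex H := by
  intro hdvd
  apply hSyl
  have : Fact (Nat.Prime 2) := ⟨Nat.prime_two⟩
  set K : Subgroup G := H ⊓ Subgroup.centralizer ({j} : Set G) with hK
  have hTH : T ≤ H := hT.trans inf_le_left
  have hKH : K ≤ H := inf_le_left
  set T' : Subgroup ↥H := T.subgroupOf H with hT'
  set K' : Subgroup ↥H := K.subgroupOf H with hK'
  set N' : Subgroup ↥H := Subgroup.normalizer (T' : Set ↥H) with hN'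
  have hpT' : IsPGroup 2 ↥T' := h2.comap_subtype
  obtain ⟨n, hn⟩ := IsPGroup.iff_card.mp hpT'
  have hmod := Sylow.card_quotient_normalizer_modEq_card_quotient hn
  have hTN : T' ≤ N' := Subgroup.le_normalizer
  have hNK : N' ≤ K' := by
    intro x hx
    rw [hK', Subgroup.mem_subgroupOf, hK]
    refine ⟨x.2, ?_⟩
    show (x : G) ∈ Subgroup.centralizer ({j} : Set G)
    rw [Subgroup.mem_centralizer_singleton_iff]
    have hxn : (x : G) ∈ Subgroup.normalizer (T : Set G) := by
      rw [Subgroup.mem_normalizer_iff]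
      intro t
      rw [hN', Subgroup.mem_normalizer_iff] at hx
      constructor
      · intro ht
        have := (hx ⟨t, hTH ht⟩).mp (by rw [hT', Subgroup.mem_subgroupOf]; exact ht)
        rw [hT', Subgroup.mem_subgroupOf] at this
        simpa using this
      · intro ht
        have hxt : (x : G) * t * (x : G)⁻¹ ∈ H := hTH ht
        have htH : t ∈ H := by
          have := H.mul_mem (H.mul_mem (H.inv_mem x.2) hxt) x.2
          simpa [mul_assoc] using this
        have := (hx ⟨t, htH⟩).mpr (by rw [hT', Subgroup.mem_subgroupOf]; simpa using ht)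
        rw [hT', Subgroup.mem_subgroupOf] at this
        simpa using this
    have := conj_eq_of_char_zpowers_order_two T j hj hjT hchar (x : G) hxn
    calc (x : G) * j = (x : G) * j * (x : G)⁻¹ * (x : G) := by simp [mul_assoc]
      _ = j * (x : G) := by rw [this]
  -- index computations
  have e1 : Nat.card (↥H ⧸ T') = T.relIndex H := rfl
  have e2 : Nat.card (↥N' ⧸ T'.comap N'.subtype) = T'.relIndex N' := rfl
  have e3 : T'.relIndex N' * N'.relIndex K' = T'.relIndex K' :=
    Subgroup.relIndex_mul_relIndex _ _ _ hTN hNK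
  have e4 : T'.relIndex K' = T.relIndex K := Subgroup.relIndex_subgroupOf hKH
  rw [e1] at hmod
  have h5 : 2 ∣ T'.relIndex N' := by
    rw [← e2]
    exact (Nat.modEq_zero_iff_dvd.mp (hmod.trans (Nat.modEq_zero_iff_dvd.mpr hdvd)))
  rw [← e4, ← e3]
  exact Dvd.dvd.mul_right h5 _

end Cfsg.Agent.S3208
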