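import Cfsg.Statements.S3209
import Cfsg.Agent.Lib.Helper60.SL2

set_option autoImplicit false
open Cfsg

namespace Cfsg.Agent.S3209

open Cfsg.Agent.Lib.Helper60

/-- the product set of two elementwise-commuting subgroups, as a subgroup -/
def prodSub {G : Type*} [Group G] (L₁ L₂ : Subgroup G)
    (hc : ∀ x ∈ L₁, ∀ y ∈ L₂, x * y = y * x) : Subgroup G where
  carrier := {y | ∃ a ∈ L₁, ∃ b ∈ L₂, y = a * b}
  one_mem' := ⟨1, L₁.one_mem, 1, L₂.one_mem, by simp⟩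
  mul_mem' := by
    rintro _ _ ⟨a, ha, b, hb, rfl⟩ ⟨a', ha', b', hb', rfl⟩
    refine ⟨a * a', L₁.mul_mem ha ha', b * b', L₂.mul_mem hb hb', ?_⟩
    calc a * b * (a' * b') = a * (b * a') * b' := by simp [mul_assoc]
      _ = a * (a' * b) * b' := by rw [hc a' ha' b hb]
      _ = a * a' * (b * b') := by simp [mul_assoc]
  inv_mem' := by
    rintro _ ⟨a, ha, b, hb, rfl⟩
    refine ⟨a⁻¹, L₁.inv_mem ha, b⁻¹, L₂.inv_mem hb, ?_⟩
    rw [mul_inv_rev, hc a⁻¹ (L₁.inv_mem ha) b⁻¹ (L₂.inv_mem hb)]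

theorem mem_sup_iff {G : Type*} [Group G] (L₁ L₂ : Subgroup G)
    (hc : ∀ x ∈ L₁, ∀ y ∈ L₂, x * y = y * x) (y : G) :
    y ∈ L₁ ⊔ L₂ ↔ ∃ a ∈ L₁, ∃ b ∈ L₂, y = a * b := by
  constructor
  · intro hy
    have hle : L₁ ⊔ L₂ ≤ prodSub L₁ L₂ hc := by
      apply sup_le
      · intro a ha; exact ⟨a, ha, 1, L₂.one_mem, by simp⟩
      · intro b hb; exact ⟨1, L₁.one_mem, b, hb, by simp⟩
    exact hle hy
  · rintro ⟨a, ha, b, hb, rfl⟩
    exact (L₁ ⊔ L₂).mul_mem (Subgroup.mem_sup_left ha) (Subgroup.mem_sup_right hb)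

theorem mem_zpowers_order_two {G : Type*} [Group G] (j : G) (hj : orderOf j = 2) (y : G) :
    y ∈ Subgroup.zpowers j ↔ y = 1 ∨ y = j := by
  constructor
  · intro hy
    obtain ⟨k, hk⟩ := Subgroup.mem_zpowers_iff.mp hy
    rw [← zpow_mod_orderOf, hj] at hk
    push_cast at hk
    have hk2 : k % 2 = 0 ∨ k % 2 = 1 := by omega
    rcases hk2 with h | h
    · left; rw [← hk, h, zpow_zero]
    · right; rw [← hk, h, zpow_one]
  · rintro (h | h)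
    · rw [h]; exact Subgroup.one_mem _
    · rw [h]; exact Subgroup.mem_zpowers j

/-- Key facts about a subgroup `L ≅ SL₂(F)`, `F` of odd order, containing the involution `j`. -/
theorem sl2_facts {G : Type*} [Group G] {F : Type*} [Field F] [Fintype F]
    (hF : Odd (Fintype.card F)) (L : Subgroup G)
    (e : ↥L ≃* Matrix.SpecialLinearGroup (Fin 2) F) (j : G) (hj : orderOf j = 2) (hjL : j ∈ L) :
    (∀ a ∈ L, a ^ 2 = 1 → a = 1 ∨ a = j) ∧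
    (∃ a ∈ L, a ^ 2 = j ∧
      ∀ a' ∈ L, a' ^ 2 = j → ∃ g ∈ L, g * a * g⁻¹ = a') := by
  have h2 : (2 : F) ≠ 0 := two_ne_zero_of_odd_card hF
  have hneg : (-1 : Matrix.SpecialLinearGroup (Fin 2) F) ≠ 1 := by
    intro h
    have h00 := congrArg (fun M : Matrix.SpecialLinearGroup (Fin 2) F => M.1 0 0) h
    simp at h00
    apply h2
    have : (2 : F) = 1 - (-1) := by ring
    rw [this, h00]; ring
  have hj1 : j ≠ 1 := by
    intro h; rw [h, orderOf_one] at hj; omega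
  have hjsq : j ^ 2 = 1 := by rw [← hj]; exact pow_orderOf_eq_one j
  have hej : e ⟨j, hjL⟩ = -1 := by
    have h1 : (e ⟨j, hjL⟩) ^ 2 = 1 := by
      rw [← map_pow]
      have : (⟨j, hjL⟩ : ↥L) ^ 2 = 1 := by ext; simpa using hjsq
      rw [this, map_one]
    rcases sl2_sq_eq_one h2 _ h1 with h | h
    · exfalso
      apply hj1
      have : (⟨j, hjL⟩ : ↥L) = 1 := by
        apply e.injective; rw [h, map_one]
      simpa using congrArg (fun y : ↥L => (y : G)) this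
    · exact h
  constructor
  · intro a ha hasq
    have h1 : (e ⟨a, ha⟩) ^ 2 = 1 := by
      rw [← map_pow]
      have : (⟨a, ha⟩ : ↥L) ^ 2 = 1 := by ext; simpa using hasq
      rw [this, map_one]
    rcases sl2_sq_eq_one h2 _ h1 with h | h
    · left
      have : (⟨a, ha⟩ : ↥L) = 1 := by
        apply e.injective; rw [h, map_one]
      simpa using congrArg (fun y : ↥L => (y : G)) this
    · right
      have : (⟨a, ha⟩ : ↥L) = ⟨j, hjL⟩ := by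
        apply e.injective; rw [h, hej]
      simpa using congrArg (fun y : ↥L => (y : G)) this
  · refine ⟨(e.symm (sl2w F) : ↥L), (e.symm (sl2w F)).2, ?_, ?_⟩
    · have : (e.symm (sl2w F)) ^ 2 = (⟨j, hjL⟩ : ↥L) := by
        apply e.injective
        rw [map_pow, e.apply_symm_apply, sl2w_sq, hej]
      simpa using congrArg (fun y : ↥L => (y : G)) this
    · intro a' ha' ha'sq
      have h1 : (e ⟨a', ha'⟩) ^ 2 = -1 := by
        rw [← map_pow]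
        have : (⟨a', ha'⟩ : ↥L) ^ 2 = ⟨j, hjL⟩ := by ext; simpa using ha'sq
        rw [this, hej]
      obtain ⟨P, hP⟩ := sl2_conj_of_sq_eq_neg_one hF _ h1
      refine ⟨(e.symm P : ↥L), (e.symm P).2, ?_⟩
      have : e.symm P * e.symm (sl2w F) * (e.symm P)⁻¹ = (⟨a', ha'⟩ : ↥L) := by
        apply e.injective
        rw [map_mul, map_mul, map_inv, e.apply_symm_apply, e.apply_symm_apply, hP]
      simpa using congrArg (fun y : ↥L => (y : G)) this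

/-- Let L₁ ≅ SL₂(q₁) and L₂ ≅ SL₂(q₂), q₁ and q₂ odd, be elementwise-commuting subgroups of a finite group meeting in ⟨j⟩ for an involution j. Then L₁L₂ has exactly two conjugacy classes of involutions: the central involution j, and one further class (there is an involution x ≠ j in L₁L₂, and every involution of L₁L₂ other than j is conjugate to x by an element of L₁L₂). -/
theorem result {G : Type*} [Group G] [Finite G]
    {F₁ : Type*} [Field F₁] [Fintype F₁] {F₂ : Type*} [Field F₂] [Fintype F₂]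
    (hF₁ : Odd (Fintype.card F₁)) (hF₂ : Odd (Fintype.card F₂)) (L₁ L₂ : Subgroup G)
    (e₁ : ↥L₁ ≃* Matrix.SpecialLinearGroup (Fin 2) F₁) (e₂ : ↥L₂ ≃* Matrix.SpecialLinearGroup (Fin 2) F₂)
    (hc : ∀ x ∈ L₁, ∀ y ∈ L₂, x * y = y * x) (j : G) (hj : orderOf j = 2) (hm : L₁ ⊓ L₂ = Subgroup.zpowers j) :
    ∃ x ∈ L₁ ⊔ L₂, orderOf x = 2 ∧ x ≠ j ∧
      ∀ y ∈ L₁ ⊔ L₂, orderOf y = 2 → y = j ∨ ∃ g ∈ L₁ ⊔ L₂, g * x * g⁻¹ = y := by
  have hjm : j ∈ L₁ ⊓ L₂ := by rw [hm]; exact Subgroup.mem_zpowers j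
  have hjL₁ : j ∈ L₁ := hjm.1
  have hjL₂ : j ∈ L₂ := hjm.2
  have hj1 : j ≠ 1 := by
    intro h; rw [h, orderOf_one] at hj; omega
  have hjsq : j ^ 2 = 1 := by rw [← hj]; exact pow_orderOf_eq_one j
  have hinter : ∀ y, y ∈ L₁ → y ∈ L₂ → y = 1 ∨ y = j := by
    intro y h1 h2
    have : y ∈ L₁ ⊓ L₂ := ⟨h1, h2⟩
    rw [hm] at this
    exact (mem_zpowers_order_two j hj y).mp this
  obtain ⟨hinv₁, a₁, ha₁, ha₁sq, hconj₁⟩ := sl2_facts hF₁ L₁ e₁ j hj hjL₁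
  obtain ⟨hinv₂, b₁, hb₁, hb₁sq, hconj₂⟩ := sl2_facts hF₂ L₂ e₂ j hj hjL₂
  -- a₁ is not in L₂
  have ha₁not : a₁ ∉ L₂ := by
    intro h
    rcases hinter a₁ ha₁ h with h1 | h1
    · rw [h1] at ha₁sq; simp at ha₁sq; exact hj1 ha₁sq.symm
    · rw [h1, hjsq] at ha₁sq; exact hj1 ha₁sq.symm
  have hcomm : a₁ * b₁ = b₁ * a₁ := hc a₁ ha₁ b₁ hb₁
  have hxsq : (a₁ * b₁) ^ 2 = 1 := by
    have : (a₁ * b₁) ^ 2 = a₁ ^ 2 * b₁ ^ 2 := (Commute.mul_pow hcomm 2)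
    rw [this, ha₁sq, hb₁sq, ← pow_two, hjsq]
  have hx1 : a₁ * b₁ ≠ 1 := by
    intro h
    apply ha₁not
    have : a₁ = b₁⁻¹ := eq_inv_of_mul_eq_one_left h
    rw [this]; exact L₂.inv_mem hb₁
  have hxj : a₁ * b₁ ≠ j := by
    intro h
    apply ha₁not
    have : a₁ = j * b₁⁻¹ := by rw [← h]; simp
    rw [this]; exact L₂.mul_mem hjL₂ (L₂.inv_mem hb₁)
  refine ⟨a₁ * b₁, (L₁ ⊔ L₂).mul_mem (Subgroup.mem_sup_left ha₁) (Subgroup.mem_sup_right hb₁),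
    ?_, hxj, ?_⟩
  · exact orderOf_eq_prime hxsq hx1
  · intro y hy hy2
    obtain ⟨a, ha, b, hb, rfl⟩ := (mem_sup_iff L₁ L₂ hc y).mp hy
    have hab : a * b = b * a := hc a ha b hb
    have hysq : (a * b) ^ 2 = 1 := by rw [← hy2]; exact pow_orderOf_eq_one _
    have hsq : a ^ 2 * b ^ 2 = 1 := by rw [← Commute.mul_pow hab 2]; exact hysq
    have hasq_mem : a ^ 2 ∈ L₂ := by
      have : a ^ 2 = (b ^ 2)⁻¹ := eq_inv_of_mul_eq_one_left hsq
      rw [this]; exact L₂.inv_mem (L₂.pow_mem hb 2)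
    rcases hinter (a ^ 2) (L₁.pow_mem ha 2) hasq_mem with h1 | h1
    · -- a² = 1
      left
      have hb2 : b ^ 2 = 1 := by rw [h1, one_mul] at hsq; exact hsq
      have hy1 : a * b ≠ 1 := by
        intro h; rw [h, orderOf_one] at hy2; omega
      rcases hinv₁ a ha h1 with h3 | h3 <;> rcases hinv₂ b hb hb2 with h4 | h4
      · exfalso; apply hy1; rw [h3, h4, one_mul]
      · rw [h3, h4, one_mul]
      · rw [h3, h4, mul_one]
      · exfalso; apply hy1; rw [h3, h4, ← pow_two, hjsq]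
    · -- a² = j
      right
      have hb2 : b ^ 2 = j := by
        rw [h1] at hsq
        have : b ^ 2 = j⁻¹ := eq_inv_of_mul_eq_one_right hsq
        rw [this]
        exact inv_eq_of_mul_eq_one_left (by rw [← pow_two, hjsq])
      obtain ⟨g₁, hg₁, hg₁a⟩ := hconj₁ a ha h1
      obtain ⟨g₂, hg₂, hg₂b⟩ := hconj₂ b hb hb2
      refine ⟨g₁ * g₂, (L₁ ⊔ L₂).mul_mem (Subgroup.mem_sup_left hg₁) (Subgroup.mem_sup_right hg₂), ?_⟩
      rw [← hg₁a, ← hg₂b]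
      have c1 : g₂ * a₁ = a₁ * g₂ := (hc a₁ ha₁ g₂ hg₂).symm
      have c2 : g₁⁻¹ * g₂ = g₂ * g₁⁻¹ := hc g₁⁻¹ (L₁.inv_mem hg₁) g₂ hg₂
      have c3 : g₁⁻¹ * b₁ = b₁ * g₁⁻¹ := hc g₁⁻¹ (L₁.inv_mem hg₁) b₁ hb₁
      have c4 : g₁⁻¹ * g₂⁻¹ = g₂⁻¹ * g₁⁻¹ := hc g₁⁻¹ (L₁.inv_mem hg₁) g₂⁻¹ (L₂.inv_mem hg₂)
      calc g₁ * g₂ * (a₁ * b₁) * (g₁ * g₂)⁻¹
          = g₁ * (g₂ * a₁) * b₁ * (g₂⁻¹ * g₁⁻¹) := by simp [mul_assoc]
        _ = g₁ * (a₁ * g₂) * b₁ * (g₁⁻¹ * g₂⁻¹) := by rw [c1, c4]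
        _ = g₁ * a₁ * (g₂ * b₁ * g₁⁻¹) * g₂⁻¹ := by simp [mul_assoc]
        _ = g₁ * a₁ * (g₁⁻¹ * g₂ * b₁) * g₂⁻¹ := by
            rw [c2, mul_assoc g₂ g₁⁻¹ b₁, c3, ← mul_assoc g₂ b₁ g₁⁻¹]
        _ = g₁ * a₁ * g₁⁻¹ * (g₂ * b₁ * g₂⁻¹) := by simp [mul_assoc]

end Cfsg.Agent.S3209
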