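import Cfsg.Statements.S3210
import Cfsg.Agent.Lib.Helper60.SL2b
import Cfsg.Agent.Lib.Helper60.Conj

set_option autoImplicit false
open Cfsg

namespace Cfsg.Agent.S3210

open Cfsg.Agent.Lib.Helper60

local notation:max "cj[" g "] " X:max => Subgroup.map (MulEquiv.toMonoidHom (MulAut.conj g)) X

/-- a central product of two `SL₂`-like subgroups over the involution `j` -/
structure CP {G : Type*} [Group G] (L₁ L₂ : Subgroup G) (j : G) : Prop where
  comm : ∀ x ∈ L₁, ∀ y ∈ L₂, x * y = y * x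
  jord : orderOf j = 2
  inter : ∀ y, y ∈ L₁ → y ∈ L₂ → y = 1 ∨ y = j
  s₁ : SL2Like L₁ j
  s₂ : SL2Like L₂ j

variable {G : Type*} [Group G] {L₁ L₂ : Subgroup G} {j : G}

theorem CP.symm (h : CP L₁ L₂ j) : CP L₂ L₁ j where
  comm := fun x hx y hy => (h.comm y hy x hx).symm
  jord := h.jord
  inter := fun y h1 h2 => h.inter y h2 h1
  s₁ := h.s₂
  s₂ := h.s₁

theorem CP.j_ne_one (h : CP L₁ L₂ j) : j ≠ 1 := by
  intro h1
  have := h.jord
  rw [h1, orderOf_one] at this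
  omega

theorem CP.jsq (h : CP L₁ L₂ j) : j ^ 2 = 1 := by
  rw [← h.jord]; exact pow_orderOf_eq_one j

theorem CP.jinv (h : CP L₁ L₂ j) : j⁻¹ = j := by
  apply inv_eq_of_mul_eq_one_left
  rw [← pow_two]; exact h.jsq

theorem CP.jcomm₁ (h : CP L₁ L₂ j) (a : G) (ha : a ∈ L₁) : a * j = j * a :=
  h.comm a ha j h.s₂.j_mem

theorem CP.jcomm₂ (h : CP L₁ L₂ j) (b : G) (hb : b ∈ L₂) : b * j = j * b :=
  (h.comm j h.s₁.j_mem b hb).symm

theorem CP.not_both (h : CP L₁ L₂ j) (y : G) (hy : y ^ 2 = j) (h1 : y ∈ L₁) (h2 : y ∈ L₂) :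
    False := by
  rcases h.inter y h1 h2 with h3 | h3
  · rw [h3, one_pow] at hy; exact h.j_ne_one hy.symm
  · rw [h3, h.jsq] at hy; exact h.j_ne_one hy.symm

theorem mem_sup_iff' (h : CP L₁ L₂ j) (y : G) :
    y ∈ L₁ ⊔ L₂ ↔ ∃ a ∈ L₁, ∃ b ∈ L₂, y = a * b := by
  constructor
  · intro hy
    let T : Subgroup G :=
      { carrier := {y | ∃ a ∈ L₁, ∃ b ∈ L₂, y = a * b}
        one_mem' := ⟨1, L₁.one_mem, 1, L₂.one_mem, by simp⟩
        mul_mem' := by
          rintro _ _ ⟨a, ha, b, hb, rfl⟩ ⟨a', ha', b', hb', rfl⟩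
          refine ⟨a * a', L₁.mul_mem ha ha', b * b', L₂.mul_mem hb hb', ?_⟩
          calc a * b * (a' * b') = a * (b * a') * b' := by simp [mul_assoc]
            _ = a * (a' * b) * b' := by rw [h.comm a' ha' b hb]
            _ = a * a' * (b * b') := by simp [mul_assoc]
        inv_mem' := by
          rintro _ ⟨a, ha, b, hb, rfl⟩
          refine ⟨a⁻¹, L₁.inv_mem ha, b⁻¹, L₂.inv_mem hb, ?_⟩
          rw [mul_inv_rev, h.comm a⁻¹ (L₁.inv_mem ha) b⁻¹ (L₂.inv_mem hb)] }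
    have hle : L₁ ⊔ L₂ ≤ T := by
      apply sup_le
      · intro a ha; exact ⟨a, ha, 1, L₂.one_mem, by simp⟩
      · intro b hb; exact ⟨1, L₁.one_mem, b, hb, by simp⟩
    exact hle hy
  · rintro ⟨a, ha, b, hb, rfl⟩
    exact (L₁ ⊔ L₂).mul_mem (Subgroup.mem_sup_left ha) (Subgroup.mem_sup_right hb)

/-- elements of the product squaring to `j` lie in one of the factors -/
theorem CP.sq_mem (h : CP L₁ L₂ j) (y : G) (hy : y ∈ L₁ ⊔ L₂) (hsq : y ^ 2 = j) :
    y ∈ L₁ ∨ y ∈ L₂ := by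
  obtain ⟨a, ha, b, hb, rfl⟩ := (mem_sup_iff' h y).mp hy
  have hab : a * b = b * a := h.comm a ha b hb
  have h1 : a ^ 2 * b ^ 2 = j := by rw [← Commute.mul_pow hab 2]; exact hsq
  have h2 : a ^ 2 ∈ L₂ := by
    have : a ^ 2 = j * (b ^ 2)⁻¹ := by rw [← h1]; simp
    rw [this]
    exact L₂.mul_mem h.s₂.j_mem (L₂.inv_mem (L₂.pow_mem hb 2))
  rcases h.inter _ (L₁.pow_mem ha 2) h2 with h3 | h3
  · -- a² = 1
    right
    rcases h.s₁.inv a ha h3 with h4 | h4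
    · rw [h4, one_mul]; exact hb
    · rw [h4]; exact L₂.mul_mem h.s₂.j_mem hb
  · -- a² = j, so b² = 1
    left
    have hb2 : b ^ 2 = 1 := by
      rw [h3] at h1
      have := mul_left_cancel (a := j) (b := b ^ 2) (c := 1) (by rw [h1, mul_one])
      exact this
    rcases h.s₂.inv b hb hb2 with h4 | h4
    · rw [h4, mul_one]; exact ha
    · rw [h4]; exact L₁.mul_mem ha h.s₁.j_mem

/-- commuting elements of `L₁` squaring to `j` -/
theorem CP.comm_sq (h : CP L₁ L₂ j) (u v : G) (hu : u ∈ L₁) (hv : v ∈ L₁) (hu2 : u ^ 2 = j)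
    (hv2 : v ^ 2 = j) (huv : u * v = v * u) : u = v ∨ u = j * v := by
  have hc : Commute u v⁻¹ := (show Commute u v from huv).inv_right
  have h1 : (u * v⁻¹) ^ 2 = 1 := by
    rw [hc.mul_pow, hu2, inv_pow, hv2, mul_inv_cancel]
  rcases h.s₁.inv _ (L₁.mul_mem hu (L₁.inv_mem hv)) h1 with h2 | h2
  · left
    have := mul_inv_eq_one.mp h2
    exact this
  · right
    rw [← h2]; simp

/-- the centralizer in the product of all `v ∈ L₂` with `v² = j` is `L₁` -/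
theorem CP.cent_mem (h : CP L₁ L₂ j) (y : G) (hy : y ∈ L₁ ⊔ L₂)
    (hcomm : ∀ v ∈ L₂, v ^ 2 = j → y * v = v * y) : y ∈ L₁ := by
  obtain ⟨a, ha, b, hb, rfl⟩ := (mem_sup_iff' h y).mp hy
  have hb' : b = 1 ∨ b = j := by
    apply h.s₂.cent b hb
    intro v hv hv2
    have h1 := hcomm v hv hv2
    have h2 : a * v = v * a := h.comm a ha v hv
    have h3 : a * (b * v) = a * (v * b) := by
      calc a * (b * v) = a * b * v := by rw [mul_assoc]
        _ = v * (a * b) := h1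
        _ = v * a * b := by rw [mul_assoc]
        _ = a * v * b := by rw [h2]
        _ = a * (v * b) := by rw [mul_assoc]
    exact mul_left_cancel h3
  rcases hb' with h1 | h1
  · rw [h1, mul_one]; exact ha
  · rw [h1]; exact L₁.mul_mem ha h.s₁.j_mem

/-- an element normalizing the product and centralizing `j` -/
structure NormElt {G : Type*} [Group G] (L₁ L₂ : Subgroup G) (j n : G) : Prop where
  conj_mem : ∀ y ∈ L₁ ⊔ L₂, n * y * n⁻¹ ∈ L₁ ⊔ L₂
  conj_mem' : ∀ y ∈ L₁ ⊔ L₂, n⁻¹ * y * n ∈ L₁ ⊔ L₂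
  comm_j : n * j = j * n

variable {n : G}

theorem NormElt.symm (hn : NormElt L₁ L₂ j n) : NormElt L₂ L₁ j n where
  conj_mem := by rw [sup_comm]; exact hn.conj_mem
  conj_mem' := by rw [sup_comm]; exact hn.conj_mem'
  comm_j := hn.comm_j

theorem NormElt.conj_sq (hn : NormElt L₁ L₂ j n) (u : G) (hu : u ^ 2 = j) :
    (n * u * n⁻¹) ^ 2 = j := by
  have : (n * u * n⁻¹) ^ 2 = n * u ^ 2 * n⁻¹ := by simp [pow_two, mul_assoc]
  rw [this, hu, hn.comm_j]; simp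

theorem NormElt.conj_sq' (hn : NormElt L₁ L₂ j n) (u : G) (hu : u ^ 2 = j) :
    (n⁻¹ * u * n) ^ 2 = j := by
  have : (n⁻¹ * u * n) ^ 2 = n⁻¹ * u ^ 2 * n := by simp [pow_two, mul_assoc]
  rw [this, hu, mul_assoc, ← hn.comm_j]; simp

/-- non-commuting elements have images in the same factor -/
theorem D1 (h : CP L₁ L₂ j) (hn : NormElt L₁ L₂ j n) (u v : G) (hu : u ∈ L₁) (hv : v ∈ L₁)
    (hu2 : u ^ 2 = j) (hv2 : v ^ 2 = j) (huv : u * v ≠ v * u) :
    (n * u * n⁻¹ ∈ L₁ ↔ n * v * n⁻¹ ∈ L₁) := by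
  have hu' := h.sq_mem _ (hn.conj_mem u (Subgroup.mem_sup_left hu)) (hn.conj_sq u hu2)
  have hv' := h.sq_mem _ (hn.conj_mem v (Subgroup.mem_sup_left hv)) (hn.conj_sq v hv2)
  have hnc : (n * u * n⁻¹) * (n * v * n⁻¹) ≠ (n * v * n⁻¹) * (n * u * n⁻¹) := by
    intro hh
    apply huv
    have e1 : (n * u * n⁻¹) * (n * v * n⁻¹) = n * (u * v) * n⁻¹ := by simp [mul_assoc]
    have e2 : (n * v * n⁻¹) * (n * u * n⁻¹) = n * (v * u) * n⁻¹ := by simp [mul_assoc]
    rw [e1, e2] at hh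
    exact mul_left_cancel (mul_right_cancel hh)
  constructor
  · intro h1
    rcases hv' with h2 | h2
    · exact h2
    · exact absurd (h.comm _ h1 _ h2) hnc
  · intro h1
    rcases hu' with h2 | h2
    · exact h2
    · exact absurd (h.comm _ h1 _ h2).symm hnc

/-- every element of `L₁` squaring to `j` fails to commute with another such element -/
theorem exists_nc_with (h : CP L₁ L₂ j) (u : G) (hu : u ∈ L₁) (hu2 : u ^ 2 = j) :
    ∃ w ∈ L₁, w ^ 2 = j ∧ u * w ≠ w * u := by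
  obtain ⟨x, hx, y, hy, hx2, hy2, hxy⟩ := h.s₁.exists_nc
  by_cases hux : u * x = x * u
  · refine ⟨y, hy, hy2, ?_⟩
    rcases h.comm_sq u x hu hx hu2 hx2 hux with h1 | h1
    · rw [h1]; exact hxy
    · rw [h1]
      intro hh
      apply hxy
      have e1 : j * x * y = j * (x * y) := mul_assoc _ _ _
      have e2 : y * (j * x) = j * (y * x) := by
        rw [← mul_assoc, h.jcomm₁ y hy, mul_assoc]
      rw [e1, e2] at hh
      exact mul_left_cancel hh
  · exact ⟨x, hx, hx2, hux⟩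

theorem D2 (h : CP L₁ L₂ j) (hn : NormElt L₁ L₂ j n) (u u' : G) (hu : u ∈ L₁) (hu' : u' ∈ L₁)
    (hu2 : u ^ 2 = j) (hu'2 : u' ^ 2 = j) :
    (n * u * n⁻¹ ∈ L₁ ↔ n * u' * n⁻¹ ∈ L₁) := by
  by_cases hc : u * u' = u' * u
  · obtain ⟨w, hw, hw2, hnc⟩ := exists_nc_with h u hu hu2
    have hnc' : w * u' ≠ u' * w := by
      rcases h.comm_sq u u' hu hu' hu2 hu'2 hc with h1 | h1
      · rw [← h1]; exact fun hh => hnc hh.symm
      · intro hh
        apply hnc
        rw [h1]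
        have e1 : j * u' * w = j * (u' * w) := mul_assoc _ _ _
        have e2 : w * (j * u') = j * (w * u') := by
          rw [← mul_assoc, h.jcomm₁ w hw, mul_assoc]
        rw [e1, e2, hh]
    exact (D1 h hn u w hu hw hu2 hw2 hnc).trans (D1 h hn w u' hw hu' hw2 hu'2 hnc')
  · exact D1 h hn u u' hu hu' hu2 hu'2 hc

/-- the dichotomy -/
theorem dichotomy (h : CP L₁ L₂ j) (hn : NormElt L₁ L₂ j n) :
    (∀ u ∈ L₁, u ^ 2 = j → n * u * n⁻¹ ∈ L₁) ∨ (∀ u ∈ L₁, u ^ 2 = j → n * u * n⁻¹ ∈ L₂) := by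
  obtain ⟨x, hx, _, _, hx2, _, _⟩ := h.s₁.exists_nc
  by_cases hx' : n * x * n⁻¹ ∈ L₁
  · left
    intro u hu hu2
    exact (D2 h hn u x hu hx hu2 hx2).mpr hx'
  · right
    intro u hu hu2
    have h1 : n * u * n⁻¹ ∉ L₁ := fun hh => hx' ((D2 h hn u x hu hx hu2 hx2).mp hh)
    rcases h.sq_mem _ (hn.conj_mem u (Subgroup.mem_sup_left hu)) (hn.conj_sq u hu2) with h2 | h2
    · exact absurd h2 h1
    · exact h2

/-- Case I -/
theorem caseI (h : CP L₁ L₂ j) (hn : NormElt L₁ L₂ j n)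
    (H1 : ∀ u ∈ L₁, u ^ 2 = j → n * u * n⁻¹ ∈ L₁) : ∀ a ∈ L₁, n * a * n⁻¹ ∈ L₁ := by
  intro a ha
  apply h.cent_mem _ (hn.conj_mem a (Subgroup.mem_sup_left ha))
  intro v hv hv2
  have hv' := h.sq_mem _ (hn.conj_mem' v (Subgroup.mem_sup_right hv)) (hn.conj_sq' v hv2)
  have hback : n * (n⁻¹ * v * n) * n⁻¹ = v := by simp [mul_assoc]
  rcases hv' with h1 | h1
  · exfalso
    have := H1 _ h1 (hn.conj_sq' v hv2)
    rw [hback] at this
    exact h.not_both v hv2 this hv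
  · have hc := h.comm a ha _ h1
    calc n * a * n⁻¹ * v = n * a * n⁻¹ * (n * (n⁻¹ * v * n) * n⁻¹) := by rw [hback]
      _ = n * (a * (n⁻¹ * v * n)) * n⁻¹ := by simp [mul_assoc]
      _ = n * ((n⁻¹ * v * n) * a) * n⁻¹ := by rw [hc]
      _ = v * (n * a * n⁻¹) := by simp [mul_assoc]

/-- Case II -/
theorem caseII (h : CP L₁ L₂ j) (hn : NormElt L₁ L₂ j n)
    (H1 : ∀ u ∈ L₁, u ^ 2 = j → n * u * n⁻¹ ∈ L₂) : ∀ a ∈ L₁, n * a * n⁻¹ ∈ L₂ := by
  intro a ha
  apply h.symm.cent_mem _ (hn.symm.conj_mem a (Subgroup.mem_sup_right ha))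
  intro v hv hv2
  have hv' := h.sq_mem _ (hn.conj_mem' v (Subgroup.mem_sup_left hv)) (hn.conj_sq' v hv2)
  have hback : n * (n⁻¹ * v * n) * n⁻¹ = v := by simp [mul_assoc]
  rcases hv' with h1 | h1
  · exfalso
    have := H1 _ h1 (hn.conj_sq' v hv2)
    rw [hback] at this
    exact h.not_both v hv2 hv this
  · have hc := h.comm a ha _ h1
    calc n * a * n⁻¹ * v = n * a * n⁻¹ * (n * (n⁻¹ * v * n) * n⁻¹) := by rw [hback]
      _ = n * (a * (n⁻¹ * v * n)) * n⁻¹ := by simp [mul_assoc]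
      _ = n * ((n⁻¹ * v * n) * a) * n⁻¹ := by rw [hc]
      _ = v * (n * a * n⁻¹) := by simp [mul_assoc]

/-- mixed cases are impossible -/
theorem no_mixed (h : CP L₁ L₂ j) (hn : NormElt L₁ L₂ j n)
    (H1 : ∀ u ∈ L₁, u ^ 2 = j → n * u * n⁻¹ ∈ L₁)
    (H2 : ∀ v ∈ L₂, v ^ 2 = j → n * v * n⁻¹ ∈ L₁) : False := by
  obtain ⟨v, hv, _, _, hv2, _, _⟩ := h.s₂.exists_nc
  have hv' := h.sq_mem _ (hn.conj_mem' v (Subgroup.mem_sup_right hv)) (hn.conj_sq' v hv2)
  have hback : n * (n⁻¹ * v * n) * n⁻¹ = v := by simp [mul_assoc]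
  rcases hv' with h1 | h1
  · have := H1 _ h1 (hn.conj_sq' v hv2)
    rw [hback] at this
    exact h.not_both v hv2 this hv
  · have := H2 _ h1 (hn.conj_sq' v hv2)
    rw [hback] at this
    exact h.not_both v hv2 this hv

theorem main_alt [Finite G] (h : CP L₁ L₂ j) (hn : NormElt L₁ L₂ j n) :
    (cj[n] L₁ = L₁ ∧ cj[n] L₂ = L₂) ∨ (cj[n] L₁ = L₂ ∧ cj[n] L₂ = L₁) := by
  have hle : ∀ (A B : Subgroup G), (∀ a ∈ A, n * a * n⁻¹ ∈ B) → cj[n] A ≤ B := by
    intro A B hAB x hx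
    rw [mem_map_conj_iff] at hx
    have := hAB _ hx
    simpa [mul_assoc] using this
  rcases dichotomy h hn with H1 | H1 <;> rcases dichotomy h.symm hn.symm with H2 | H2
  · left
    exact ⟨cj_eq_of_le _ _ (hle _ _ (caseI h hn H1)),
      cj_eq_of_le _ _ (hle _ _ (caseI h.symm hn.symm H2))⟩
  · exact absurd (no_mixed h hn H1 H2) id
  · exact absurd (no_mixed h.symm hn.symm H2 H1) id
  · right
    have h1 := hle _ _ (caseII h hn H1)
    have h2 := hle _ _ (caseII h.symm hn.symm H2)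
    have c1 : Nat.card ↥L₁ ≤ Nat.card ↥L₂ := by
      rw [← card_cj n L₁]; exact Subgroup.card_le_of_le h1
    have c2 : Nat.card ↥L₂ ≤ Nat.card ↥L₁ := by
      rw [← card_cj n L₂]; exact Subgroup.card_le_of_le h2
    exact ⟨eq_of_le_of_card_eq_cj n L₁ L₂ h1 (le_antisymm c2 c1),
      eq_of_le_of_card_eq_cj n L₂ L₁ h2 (le_antisymm c1 c2)⟩

theorem mem_zpowers_order_two' {G : Type*} [Group G] (j : G) (hj : orderOf j = 2) (y : G) :
    y ∈ Subgroup.zpowers j ↔ y = 1 ∨ y = j := by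
  constructor
  · intro hy
    obtain ⟨k, hk⟩ := Subgroup.mem_zpowers_iff.mp hy
    rw [← zpow_mod_orderOf, hj] at hk
    push_cast at hk
    have hk2 : k % 2 = 0 ∨ k % 2 = 1 := by omega
    rcases hk2 with h | h
    · left; rw [← hk, h, zpow_zero]
    · right; rw [← hk, h, zpow_one]
  · rintro (h | h)
    · rw [h]; exact Subgroup.one_mem _
    · rw [h]; exact Subgroup.mem_zpowers j

/-- Let G be a finite group with subgroups L₁ ≅ SL₂(q₁) and L₂ ≅ SL₂(q₂), q₁ and q₂ odd prime powers, which commute elementwise and meet in ⟨j⟩ for an involution j, and suppose L₁L₂ has index 2 in C_G(j). Then every element n of C_G(j) outside L₁L₂ either normalizes both L₁ and L₂, or conjugates L₁ onto L₂; in the second case q₁ = q₂ and there is an element n′ of C_G(j) outside L₁L₂ conjugating L₁ onto L₂ with n′² ∈ ⟨j⟩. -/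
theorem result {G : Type*} [Group G] [Finite G]
    {F₁ : Type*} [Field F₁] [Fintype F₁] {F₂ : Type*} [Field F₂] [Fintype F₂]
    (hF₁ : Odd (Fintype.card F₁)) (hF₂ : Odd (Fintype.card F₂)) (L₁ L₂ : Subgroup G)
    (e₁ : ↥L₁ ≃* Matrix.SpecialLinearGroup (Fin 2) F₁) (e₂ : ↥L₂ ≃* Matrix.SpecialLinearGroup (Fin 2) F₂)
    (hc : ∀ x ∈ L₁, ∀ y ∈ L₂, x * y = y * x) (j : G) (hj : orderOf j = 2) (hm : L₁ ⊓ L₂ = Subgroup.zpowers j)
    (hle : L₁ ⊔ L₂ ≤ Subgroup.centralizer ({j} : Set G)) (hi : (L₁ ⊔ L₂).relIndex (Subgroup.centralizer ({j} : Set G)) = 2) (n : G) (hn : n ∈ Subgroup.centralizer ({j} : Set G)) (hn' : n ∉ L₁ ⊔ L₂) :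
    (L₁.map (MulAut.conj n).toMonoidHom = L₁ ∧ L₂.map (MulAut.conj n).toMonoidHom = L₂) ∨
      (L₁.map (MulAut.conj n).toMonoidHom = L₂ ∧ Fintype.card F₁ = Fintype.card F₂ ∧
        ∃ n' ∈ Subgroup.centralizer ({j} : Set G), n' ∉ L₁ ⊔ L₂ ∧ L₁.map (MulAut.conj n').toMonoidHom = L₂ ∧ n' ^ 2 ∈ Subgroup.zpowers j) := by
  have hjm : j ∈ L₁ ⊓ L₂ := by rw [hm]; exact Subgroup.mem_zpowers j
  have hCP : CP L₁ L₂ j :=
    { comm := hc
      jord := hj
      inter := by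
        intro y h1 h2
        have : y ∈ L₁ ⊓ L₂ := ⟨h1, h2⟩
        rw [hm] at this
        exact (mem_zpowers_order_two' j hj y).mp this
      s₁ := sl2Like_of_equiv hF₁ L₁ e₁ j hj hjm.1
      s₂ := sl2Like_of_equiv hF₂ L₂ e₂ j hj hjm.2 }
  set C : Subgroup G := Subgroup.centralizer ({j} : Set G) with hC
  set Y : Subgroup G := L₁ ⊔ L₂ with hY
  have hidx : (Y.subgroupOf C).index = 2 := hi
  have hnormal : (Y.subgroupOf C).Normal := Subgroup.normal_of_index_eq_two hidx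
  have hCN : C ≤ Subgroup.normalizer (Y : Set G) :=
    (Subgroup.normal_subgroupOf_iff_le_normalizer hle).mp hnormal
  have hnN : n ∈ Subgroup.normalizer (Y : Set G) := hCN hn
  have hnj : n * j = j * n := Subgroup.mem_centralizer_singleton_iff.mp hn
  have hNE : NormElt L₁ L₂ j n :=
    { conj_mem := fun y hy => (Subgroup.mem_normalizer_iff.mp hnN y).mp hy
      conj_mem' := fun y hy => (Subgroup.mem_normalizer_iff''.mp hnN y).mp hy
      comm_j := hnj }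
  rcases main_alt hCP hNE with ⟨h1, h2⟩ | ⟨h1, h2⟩
  · left; exact ⟨h1, h2⟩
  · right
    refine ⟨h1, ?_, ?_⟩
    · apply card_sl2_inj
      rw [← Nat.card_congr e₁.toEquiv, ← Nat.card_congr e₂.toEquiv, ← h1, card_cj]
    · -- n * n ∈ Y
      have hnn : n * n ∈ Y := by
        have := (Subgroup.mul_mem_iff_of_index_two hidx (a := (⟨n, hn⟩ : ↥C))
          (b := (⟨n, hn⟩ : ↥C))).mpr Iff.rfl
        rw [Subgroup.mem_subgroupOf] at this
        simpa using this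
      obtain ⟨a, ha, b, hb, hab⟩ := (mem_sup_iff' hCP _).mp hnn
      have haY : a ∈ Y := Subgroup.mem_sup_left ha
      refine ⟨n * a⁻¹, C.mul_mem hn (C.inv_mem (hle haY)), ?_, ?_, ?_⟩
      · intro hh
        apply hn'
        have := Y.mul_mem hh haY
        simpa [mul_assoc] using this
      · rw [cj_mul, (mem_normalizer_iff_cj a⁻¹ L₁).mp (Subgroup.le_normalizer (L₁.inv_mem ha)), h1]
      · -- c' = n a⁻¹ n⁻¹ ∈ L₂, d' = n b n⁻¹ ∈ L₁
        have hc' : n * a⁻¹ * n⁻¹ ∈ L₂ := by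
          rw [← h1, mem_map_conj_iff]
          simpa [mul_assoc] using L₁.inv_mem ha
        have hd' : n * b * n⁻¹ ∈ L₁ := by
          rw [← h2, mem_map_conj_iff]
          simpa [mul_assoc] using hb
        have e1 : (n * a⁻¹) ^ 2 = (n * a⁻¹ * n⁻¹) * b := by
          have hcomm : a * b = b * a := hc a ha b hb
          calc (n * a⁻¹) ^ 2 = (n * a⁻¹ * n⁻¹) * (n * n) * a⁻¹ := by
                simp [pow_two, mul_assoc]
            _ = (n * a⁻¹ * n⁻¹) * (a * b) * a⁻¹ := by rw [hab]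
            _ = (n * a⁻¹ * n⁻¹) * (b * a) * a⁻¹ := by rw [hcomm]
            _ = (n * a⁻¹ * n⁻¹) * b := by simp [mul_assoc]
        have e2 : (n * a⁻¹ * n⁻¹) * b = a⁻¹ * (n * b * n⁻¹) := by
          -- from n (ab) n⁻¹ = ab
          have h3 : n * (a * b) * n⁻¹ = a * b := by
            rw [← hab]; simp [mul_assoc]
          have h4 : (n * a * n⁻¹) * (n * b * n⁻¹) = a * b := by
            rw [← h3]; simp [mul_assoc]
          have h5 : n * b * n⁻¹ = (n * a⁻¹ * n⁻¹) * (a * b) := by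
            rw [← h4]; simp [mul_assoc]
          have h6 : (n * a⁻¹ * n⁻¹) * a = a * (n * a⁻¹ * n⁻¹) := (hc a ha _ hc').symm
          rw [h5, ← mul_assoc (n * a⁻¹ * n⁻¹) a b, h6]
          simp [mul_assoc]
        rw [e1]
        have hmem : (n * a⁻¹ * n⁻¹) * b ∈ L₁ ⊓ L₂ := by
          refine ⟨?_, L₂.mul_mem hc' hb⟩
          rw [e2]
          exact L₁.mul_mem (L₁.inv_mem ha) hd'
        rw [hm] at hmem
        exact hmem

end Cfsg.Agent.S3210
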