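import Cfsg.Statements.S3213
import Cfsg.Agent.Lib.Helper11.Sp43
import Cfsg.Agent.Lib.Helper11.SL25

set_option autoImplicit false
open Cfsg

namespace Cfsg.Agent.S3213

/-- Let F be the field with 3 elements and K the field with 5 elements. For every injective homomorphism φ from SL₂(K) into the symplectic group Sp₄(F) (4 × 4 matrices g with g J gᵀ = J for the standard alternating matrix J) and every element x of order 3 of SL₂(K), the vectors of F⁴ fixed by φ(x) form a 2-dimensional subspace that is totally isotropic for the alternating form defined by J. -/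
theorem result {F : Type*} [Field F] [Fintype F] (hF : Fintype.card F = 3)
    {K : Type*} [Field K] [Fintype K] (hK : Fintype.card K = 5)
    (φ : Matrix.SpecialLinearGroup (Fin 2) K →* ↥(Matrix.symplecticGroup (Fin 2) F)) (hφ : Function.Injective φ)
    (x : Matrix.SpecialLinearGroup (Fin 2) K) (hx : orderOf x = 3) :
    Module.finrank F ↥(LinearMap.ker (Matrix.toLin' ((φ x : Matrix (Fin 2 ⊕ Fin 2) (Fin 2 ⊕ Fin 2) F)) - LinearMap.id)) = 2 ∧
      ∀ v w : Fin 2 ⊕ Fin 2 → F, (φ x : Matrix (Fin 2 ⊕ Fin 2) (Fin 2 ⊕ Fin 2) F).mulVec v = v →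
        (φ x : Matrix (Fin 2 ⊕ Fin 2) (Fin 2 ⊕ Fin 2) F).mulVec w = w →
          dotProduct v ((Matrix.J (Fin 2) F).mulVec w) = 0 := by
  classical
  have h3 : (3 : F) = 0 := by
    have := Nat.cast_card_eq_zero F
    rw [hF] at this
    exact_mod_cast this
  -- notation
  have hx1 : x ≠ 1 := by
    intro h; rw [h, orderOf_one] at hx; omega
  have hA3 : (φ x) ^ 3 = 1 := by rw [← map_pow, ← hx, pow_orderOf_eq_one, map_one]
  have hker : LinearMap.ker (Matrix.toLin' ((φ x : Matrix (Fin 2 ⊕ Fin 2) (Fin 2 ⊕ Fin 2) F)) -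
      LinearMap.id) = LinearMap.ker (Cfsg.Agent.Lib.Helper11.Sp43.NN (φ x)) := rfl
  have hge := Cfsg.Agent.Lib.Helper11.Sp43.two_le_finrank_ker (φ x) h3 hA3
  have hle : Module.finrank F (LinearMap.ker (Cfsg.Agent.Lib.Helper11.Sp43.NN (φ x))) ≤ 4 := by
    have := Submodule.finrank_le (LinearMap.ker (Cfsg.Agent.Lib.Helper11.Sp43.NN (φ x)))
    rwa [Cfsg.Agent.Lib.Helper11.Sp43.finrank_V] at this
  have hne4 : Module.finrank F (LinearMap.ker (Cfsg.Agent.Lib.Helper11.Sp43.NN (φ x))) ≠ 4 := by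
    intro h
    have := Cfsg.Agent.Lib.Helper11.Sp43.eq_one_of_finrank_ker (φ x) h
    apply hx1
    apply hφ
    rw [this, map_one]
  have hne3 : Module.finrank F (LinearMap.ker (Cfsg.Agent.Lib.Helper11.Sp43.NN (φ x))) ≠ 3 := by
    intro h
    obtain ⟨a, c, hac⟩ := Cfsg.Agent.Lib.Helper11.Sp43.eq_tv_of_finrank_three (φ x) h
    obtain ⟨g₁, g₂, k1, k2, k3, k4, k5⟩ := Cfsg.Agent.Lib.Helper11.SL25.five hK x hx
    -- non-commutation transfers through φ
    have hnc : ∀ y z : Matrix.SpecialLinearGroup (Fin 2) K, ¬ Commute y z →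
        ¬ Commute (φ y) (φ z) := by
      intro y z hyz hc
      apply hyz
      apply hφ
      rw [map_mul, map_mul]
      exact hc
    set a₁ := (φ g₁).1.mulVec a with ha₁
    set a₂ := (φ g₂).1.mulVec a with ha₂
    have e1 : φ (g₁ * x * g₁⁻¹) = Cfsg.Agent.Lib.Helper18.tv 2 a₁ c := by
      rw [map_mul, map_mul, map_inv, hac, Cfsg.Agent.Lib.Helper11.SpPerfect.conj_tv]
    have e2 : φ (g₂ * x * g₂⁻¹) = Cfsg.Agent.Lib.Helper18.tv 2 a₂ c := by
      rw [map_mul, map_mul, map_inv, hac, Cfsg.Agent.Lib.Helper11.SpPerfect.conj_tv]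
    have e3 : φ ((g₁ * x * g₁⁻¹) * x * (g₁ * x * g₁⁻¹)⁻¹) =
        Cfsg.Agent.Lib.Helper18.tv 2 (a + (c * Cfsg.sympForm 2 F a a₁) • a₁) c := by
      rw [map_mul, map_mul, map_inv, e1, hac, Cfsg.Agent.Lib.Helper11.SpPerfect.conj_tv,
        Cfsg.Agent.Lib.Helper11.SpPerfect.tv_act]
    have e4 : φ ((g₁ * x * g₁⁻¹)⁻¹ * x * ((g₁ * x * g₁⁻¹)⁻¹)⁻¹) =
        Cfsg.Agent.Lib.Helper18.tv 2 (a + (-c * Cfsg.sympForm 2 F a a₁) • a₁) c := by
      have hinv : Cfsg.Agent.Lib.Helper18.tv 2 a₁ c = (Cfsg.Agent.Lib.Helper18.tv 2 a₁ (-c))⁻¹ := by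
        rw [Cfsg.Agent.Lib.Helper18.tv_inv, neg_neg]
      rw [inv_inv, map_mul, map_mul, map_inv, e1, hac, Cfsg.Agent.Lib.Helper18.tv_inv, hinv,
        Cfsg.Agent.Lib.Helper11.SpPerfect.conj_tv, Cfsg.Agent.Lib.Helper11.SpPerfect.tv_act]
    have n1 := hnc _ _ k1
    have n2 := hnc _ _ k2
    have n3 := hnc _ _ k3
    have n4 := hnc _ _ k4
    have n5 := hnc _ _ k5
    rw [hac, e1] at n1
    rw [e2, hac] at n2
    rw [e2, e1] at n3
    rw [e2, e3] at n4
    rw [e2, e4] at n5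
    have s1 : Cfsg.sympForm 2 F a a₁ ≠ 0 := fun h0 =>
      n1 (Cfsg.Agent.Lib.Helper11.Sp43.tv_comm_of_perp _ _ _ _ h0)
    have s2 : Cfsg.sympForm 2 F a₂ a ≠ 0 := fun h0 =>
      n2 (Cfsg.Agent.Lib.Helper11.Sp43.tv_comm_of_perp _ _ _ _ h0)
    have s3 : Cfsg.sympForm 2 F a₂ a₁ ≠ 0 := fun h0 =>
      n3 (Cfsg.Agent.Lib.Helper11.Sp43.tv_comm_of_perp _ _ _ _ h0)
    have s4 : Cfsg.sympForm 2 F a₂ (a + (c * Cfsg.sympForm 2 F a a₁) • a₁) ≠ 0 := fun h0 =>
      n4 (Cfsg.Agent.Lib.Helper11.Sp43.tv_comm_of_perp _ _ _ _ h0)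
    have s5 : Cfsg.sympForm 2 F a₂ (a + (-c * Cfsg.sympForm 2 F a a₁) • a₁) ≠ 0 := fun h0 =>
      n5 (Cfsg.Agent.Lib.Helper11.Sp43.tv_comm_of_perp _ _ _ _ h0)
    have hc0 : c ≠ 0 := by
      intro h0
      apply n1
      rw [h0, Cfsg.Agent.Lib.Helper11.SpPerfect.tv_zero, Cfsg.Agent.Lib.Helper11.SpPerfect.tv_zero]
    rw [Cfsg.Agent.Lib.Helper18.sf_add_right, Cfsg.Agent.Lib.Helper18.sf_smul_right] at s4 s5
    -- squares of nonzero elements are 1 in a field with 3 elements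
    have hsq : ∀ t : F, t ≠ 0 → t ^ 2 = 1 := by
      intro t ht
      have := FiniteField.pow_card_sub_one_eq_one t ht
      rwa [hF] at this
    set p := Cfsg.sympForm 2 F a₂ a with hp
    set r := c * Cfsg.sympForm 2 F a a₁ * Cfsg.sympForm 2 F a₂ a₁ with hr
    have hr0 : r ≠ 0 := mul_ne_zero (mul_ne_zero hc0 s1) s3
    have hprod : (p + r) * (p - r) = 0 := by
      have e : (p + r) * (p - r) = p ^ 2 - r ^ 2 := by ring
      rw [e, hsq p s2, hsq r hr0, sub_self]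
    rcases mul_eq_zero.1 hprod with h0 | h0
    · exact s4 h0
    · apply s5
      rw [← h0, hr]; ring
  have h2 : Module.finrank F (LinearMap.ker (Cfsg.Agent.Lib.Helper11.Sp43.NN (φ x))) = 2 := by
    omega
  refine ⟨by rw [hker]; exact h2, ?_⟩
  intro v w hv hw
  exact Cfsg.Agent.Lib.Helper11.Sp43.isotropic_of_finrank_two (φ x) h3 hA3 h2 v w hv hw

end Cfsg.Agent.S3213
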