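import Cfsg.Statements.S3215
import Cfsg.Agent.S0040
import Cfsg.Agent.Lib.Helper13.Fitting
import Cfsg.Agent.Lib.Helper76.Fitting
import Cfsg.Agent.Lib.Helper56.AxB

set_option autoImplicit false
set_option linter.style.haveILetI false
open Cfsg

namespace Cfsg.Agent.S3215

open scoped commutatorElement

section aux

variable {H : Type*} [Group H]

theorem coprime_two_of_odd {n : ℕ} (h : Odd n) : n.Coprime 2 :=
  Nat.coprime_two_right.mpr h

/-- odd-order elements of a `2`-group are trivial -/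
theorem eq_one_of_odd_of_mem {Y : Subgroup H} (hY : IsPGroup 2 Y) {x : H} (hx : x ∈ Y)
    (hodd : Odd (orderOf x)) : x = 1 := by
  obtain ⟨k, hk⟩ := hY ⟨x, hx⟩
  have h1 : x ^ 2 ^ k = 1 := by simpa using congrArg Subtype.val hk
  have h2 : orderOf x ∣ 2 ^ k := orderOf_dvd_of_pow_eq_one h1
  have h3 : (orderOf x).Coprime (2 ^ k) := Nat.Coprime.pow_right k (coprime_two_of_odd hodd)
  exact orderOf_eq_one_iff.mp (Nat.Coprime.eq_one_of_dvd h3 h2)

/-- a nontrivial element of a `2`-group has a power of order `2` -/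
theorem exists_pow_orderOf_eq_two {Y : Subgroup H} (hY : IsPGroup 2 Y) {y : H} (hy : y ∈ Y)
    (hy1 : y ≠ 1) : ∃ k : ℕ, orderOf (y ^ k) = 2 := by
  obtain ⟨k, hk⟩ := (IsPGroup.iff_orderOf.mp hY) ⟨y, hy⟩
  have hk' : orderOf y = 2 ^ k := by rw [← hk, Subgroup.orderOf_mk]
  have hk0 : k ≠ 0 := by
    rintro rfl
    rw [pow_zero, orderOf_eq_one_iff] at hk'
    exact hy1 hk'
  obtain ⟨j, rfl⟩ := Nat.exists_eq_succ_of_ne_zero hk0
  refine ⟨2 ^ j, ?_⟩
  rw [orderOf_pow_of_dvd (by positivity) (by rw [hk']; exact pow_dvd_pow 2 (Nat.le_succ j)), hk',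
    pow_succ, Nat.mul_div_cancel_left _ (by positivity)]

/-- In a finite solvable group with trivial odd core, `O_2` contains its centralizer. -/
theorem centralizer_pCore_two_le [Finite H] [Group.IsSolvable H] (hO : Cfsg.oddCore H = ⊥) :
    Subgroup.centralizer ((Cfsg.pCore 2 H : Subgroup H) : Set H) ≤ Cfsg.pCore 2 H := by
  have hF : Cfsg.fittingSubgroup H = Cfsg.pCore 2 H := by
    apply le_antisymm
    · rw [Cfsg.Agent.Lib.Helper76.fittingSubgroup_eq_pCoreJoin]
      unfold Cfsg.Agent.Lib.Helper76.pCoreJoin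
      apply iSup_le
      intro p
      have hp : (p : ℕ).Prime := Nat.prime_of_mem_primeFactors p.2
      haveI : Fact (p : ℕ).Prime := ⟨hp⟩
      by_cases h2 : (p : ℕ) = 2
      · rw [h2]
      · have hle : Cfsg.pCore (p : ℕ) H ≤ Cfsg.oddCore H := by
          apply le_sSup
          refine ⟨Cfsg.Agent.Lib.Helper76.pCore_normal _, ?_⟩
          obtain ⟨n, hn⟩ := (IsPGroup.iff_card).mp (Cfsg.Agent.Lib.Helper76.pCore_isPGroup (G := H) (p : ℕ))
          rw [hn]
          apply Nat.Coprime.pow_left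
          exact (Nat.coprime_primes hp Nat.prime_two).mpr h2
        rw [hO] at hle
        exact hle.trans bot_le
    · haveI : Fact (2 : ℕ).Prime := ⟨Nat.prime_two⟩
      exact Cfsg.Agent.Lib.Helper76.pCore_le_fittingSubgroup 2
  have := Cfsg.Agent.Lib.Helper13.centralizer_fittingSubgroup_le (G := H)
  rwa [hF] at this

/-- **F3**: an odd-order element of the centralizer of an involution `s` centralizes `C_Y(s)`,
`Y = O_2(H)`, when `C_H(s)` has a normal `2`-complement. -/
theorem commute_of_odd_of_commute_involution [Finite H] {s : H}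
    (hI : Cfsg.HasNormalPComplement 2 ↥(Subgroup.centralizer ({s} : Set H)))
    {x : H} (hx : Odd (orderOf x)) (hxs : Commute x s) {y : H} (hy : y ∈ Cfsg.pCore 2 H)
    (hys : Commute y s) : Commute x y := by
  haveI : Fact (2 : ℕ).Prime := ⟨Nat.prime_two⟩
  set C : Subgroup H := Subgroup.centralizer ({s} : Set H) with hC
  obtain ⟨P, N, hNn, hNP⟩ := hI
  have hxC : x ∈ C := by
    rw [hC, Subgroup.mem_centralizer_singleton_iff]; exact hxs.eq
  have hyC : y ∈ C := by
    rw [hC, Subgroup.mem_centralizer_singleton_iff]; exact hys.eq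
  set x' : C := ⟨x, hxC⟩ with hx'
  set y' : C := ⟨y, hyC⟩ with hy'
  -- |N| is odd
  have hNodd : (Nat.card N).Coprime 2 := by
    have h1 : (P : Subgroup C).index = Nat.card N := hNP.index_eq_card
    rw [← h1]
    exact (Nat.Prime.coprime_iff_not_dvd Nat.prime_two).mpr P.not_dvd_index |>.symm
  -- x' ∈ N
  have hxN : x' ∈ N := by
    obtain ⟨n, hn⟩ := (IsPGroup.iff_card).mp P.isPGroup'
    have hidx : N.index = 2 ^ n := by rw [hNP.symm.index_eq_card, hn]
    have h1 : x' ^ (2 ^ n) ∈ N := by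
      rw [← hidx]; exact Subgroup.pow_index_mem N x'
    have hord : orderOf x' = orderOf x := Subgroup.orderOf_mk x hxC
    have hcop : (2 ^ n).Coprime (orderOf x') := by
      rw [hord]
      exact (Nat.Coprime.pow_right n (coprime_two_of_odd hx)).symm
    obtain ⟨m, hm⟩ := exists_pow_eq_self_of_coprime hcop
    rw [← hm]
    exact N.pow_mem h1 m
  -- Y ∩ C is a normal 2-subgroup of C
  set YC : Subgroup C := (Cfsg.pCore 2 H).subgroupOf C with hYC
  haveI hYn : (Cfsg.pCore 2 H).Normal := Cfsg.Agent.Lib.Helper76.pCore_normal 2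
  haveI : YC.Normal := Subgroup.Normal.subgroupOf hYn C
  have hYC2 : IsPGroup 2 YC :=
    (Cfsg.Agent.Lib.Helper76.pCore_isPGroup (G := H) 2).comap_subtype
  have hyYC : y' ∈ YC := by
    rw [hYC, Subgroup.mem_subgroupOf]; exact hy
  have hdisj : N ⊓ YC = ⊥ := by
    apply disjoint_iff.mp
    apply Subgroup.disjoint_of_coprime_natCard
    obtain ⟨n, hn⟩ := (IsPGroup.iff_card).mp hYC2
    rw [hn]
    exact Nat.Coprime.pow_right n hNodd
  have hcomm : ⁅x', y'⁆ ∈ N ⊓ YC := by
    refine ⟨?_, ?_⟩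
    · -- x' * (y' x'⁻¹ y'⁻¹)
      rw [commutatorElement_def]
      have : y' * x'⁻¹ * y'⁻¹ ∈ N := hNn.conj_mem _ (N.inv_mem hxN) y'
      have h2 := N.mul_mem hxN this
      simpa [mul_assoc] using h2
    · rw [commutatorElement_def]
      have : x' * y' * x'⁻¹ ∈ YC := ‹YC.Normal›.conj_mem _ hyYC x'
      exact YC.mul_mem this (YC.inv_mem hyYC)
  rw [hdisj, Subgroup.mem_bot, commutatorElement_eq_one_iff_commute] at hcomm
  have := congrArg Subtype.val hcomm.eq
  exact this

/-- **F4**: odd-order elements commuting with an involution are trivial. -/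
theorem eq_one_of_commute_involution [Finite H] [Group.IsSolvable H]
    (hO : Cfsg.oddCore H = ⊥)
    (hI : ∀ t : H, orderOf t = 2 →
      Cfsg.HasNormalPComplement 2 ↥(Subgroup.centralizer ({t} : Set H)))
    {t : H} (ht2 : orderOf t = 2) {x : H} (hx : Odd (orderOf x))
    (hxt : Commute x t) : x = 1 := by
  haveI : Fact (2 : ℕ).Prime := ⟨Nat.prime_two⟩
  haveI hYn : (Cfsg.pCore 2 H).Normal := Cfsg.Agent.Lib.Helper76.pCore_normal 2
  have hY2 : IsPGroup 2 (Cfsg.pCore 2 H) := Cfsg.Agent.Lib.Helper76.pCore_isPGroup (G := H) 2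
  have hB : IsPGroup 2 (Subgroup.zpowers t) := by
    apply IsPGroup.of_card (n := 1)
    rw [Nat.card_zpowers, ht2, pow_one]
  have hcomm : ∀ b ∈ Subgroup.zpowers t, b * x = x * b := by
    intro b hb
    obtain ⟨k, rfl⟩ := Subgroup.mem_zpowers_iff.mp hb
    exact ((hxt.zpow_right k).eq).symm
  have key := Cfsg.Agent.Lib.Helper56.axb_lemma (p := 2) (Cfsg.pCore 2 H) (Subgroup.zpowers t) x
    hY2 hB (by rw [Subgroup.normalizer_eq_top]; exact le_top)
    (by rw [Subgroup.normalizer_eq_top]; exact Subgroup.mem_top x) hcomm (coprime_two_of_odd hx)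
    (by
      intro a ha hab
      have hat : Commute a t := (hab t (Subgroup.mem_zpowers t)).symm
      exact ((commute_of_odd_of_commute_involution (hI t ht2) hx hxt ha hat).eq).symm)
  have hxC : x ∈ Subgroup.centralizer ((Cfsg.pCore 2 H : Subgroup H) : Set H) := by
    rw [Subgroup.mem_centralizer_iff]
    intro a ha
    exact key a ha
  exact eq_one_of_odd_of_mem hY2 (centralizer_pCore_two_le hO hxC) hx

/-- **F2'**: odd-order elements act fixed-point-freely on `Y = O_2(H)`. -/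
theorem eq_one_of_commute_pCore [Finite H] [Group.IsSolvable H]
    (hO : Cfsg.oddCore H = ⊥)
    (hI : ∀ t : H, orderOf t = 2 →
      Cfsg.HasNormalPComplement 2 ↥(Subgroup.centralizer ({t} : Set H)))
    {y : H} (hy : y ∈ Cfsg.pCore 2 H) (hy1 : y ≠ 1) {x : H} (hx : Odd (orderOf x))
    (hxy : Commute x y) : x = 1 := by
  have hY2 : IsPGroup 2 (Cfsg.pCore 2 H) := Cfsg.Agent.Lib.Helper76.pCore_isPGroup (G := H) 2
  obtain ⟨k, hk⟩ := exists_pow_orderOf_eq_two hY2 hy hy1
  exact eq_one_of_commute_involution hO hI hk hx (hxy.pow_right k)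

theorem card_sup_of_disjoint [Finite H] (Y E : Subgroup H) [Y.Normal] (h : Y ⊓ E = ⊥) :
    Nat.card ↥(Y ⊔ E) = Nat.card Y * Nat.card E := by
  have h1 : Y.relIndex (Y ⊔ E) = Y.relIndex E := Subgroup.relIndex_sup_left E Y
  have h2 : Y.relIndex E = Nat.card E := by
    rw [← Subgroup.inf_relIndex_right, h, Subgroup.relIndex_bot_left]
  have h3 : (⊥ : Subgroup H).relIndex Y * Y.relIndex (Y ⊔ E) = (⊥ : Subgroup H).relIndex (Y ⊔ E) :=
    Subgroup.relIndex_mul_relIndex _ _ _ bot_le le_sup_left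
  rw [Subgroup.relIndex_bot_left, Subgroup.relIndex_bot_left, h1, h2] at h3
  exact h3.symm

/-- A subgroup `E` of odd order acting fixed-point-freely on a nontrivial normal subgroup `Y` of
coprime order has cyclic Sylow subgroups. -/
theorem sylow_isCyclic_of_fpf [Finite H] (Y E : Subgroup H) [Y.Normal] (hY : Y ≠ ⊥)
    (hcop : (Nat.card Y).Coprime (Nat.card E)) (hodd : Odd (Nat.card E))
    (hfpf : ∀ e ∈ E, e ≠ 1 → ∀ y ∈ Y, Commute e y → y = 1)
    (p : ℕ) [Fact p.Prime] (P : Sylow p ↥E) : IsCyclic ↥(P : Subgroup ↥E) := by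
  set L : Subgroup H := Y ⊔ E with hL
  have hYL : Y ≤ L := le_sup_left
  have hEL : E ≤ L := le_sup_right
  set K : Subgroup L := Y.subgroupOf L with hK
  set E' : Subgroup L := E.subgroupOf L with hE'
  haveI : K.Normal := Subgroup.Normal.subgroupOf inferInstance L
  have hKcard : Nat.card K = Nat.card Y :=
    Nat.card_congr (Subgroup.subgroupOfEquivOfLe hYL).toEquiv
  have hEcard : Nat.card E' = Nat.card E :=
    Nat.card_congr (Subgroup.subgroupOfEquivOfLe hEL).toEquiv
  have hdisj : Y ⊓ E = ⊥ := disjoint_iff.mp (Subgroup.disjoint_of_coprime_natCard hcop)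
  have hc : Subgroup.IsComplement' K E' := by
    apply Subgroup.isComplement'_of_coprime
    · rw [hKcard, hEcard, hL, card_sup_of_disjoint Y E hdisj]
    · rw [hKcard, hEcard]; exact hcop
  have hKne : K ≠ ⊥ := by
    intro h
    apply hY
    rw [hK, Subgroup.subgroupOf_eq_bot] at h
    exact le_bot_iff.mp (by simpa [disjoint_iff, inf_of_le_left hYL] using h)
  have hfpf' : ∀ h ∈ E', h ≠ 1 → K ⊓ Subgroup.centralizer {h} = ⊥ := by
    intro h hh hh1
    rw [eq_bot_iff]
    intro k hk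
    rw [Subgroup.mem_inf, Subgroup.mem_centralizer_singleton_iff] at hk
    rw [Subgroup.mem_bot]
    apply Subtype.ext
    have hkY : (k : H) ∈ Y := by
      have := hk.1
      rwa [hK, Subgroup.mem_subgroupOf] at this
    have hhE : (h : H) ∈ E := by
      rwa [hE', Subgroup.mem_subgroupOf] at hh
    have hh1' : (h : H) ≠ 1 := fun h0 => hh1 (Subtype.ext h0)
    have hcomm : Commute (h : H) (k : H) := by
      have := congrArg Subtype.val hk.2
      exact this.symm
    exact hfpf _ hhE hh1' _ hkY hcomm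
  set ϕ : E' →* E := (Subgroup.subgroupOfEquivOfLe hEL).toMonoidHom with hϕ
  have hϕinj : Function.Injective ϕ := (Subgroup.subgroupOfEquivOfLe hEL).injective
  have hϕsurj : Function.Surjective ϕ := (Subgroup.subgroupOfEquivOfLe hEL).surjective
  have hrange : (P : Subgroup E) ≤ ϕ.range := by
    rw [MonoidHom.range_eq_top.mpr hϕsurj]; exact le_top
  set P' : Sylow p E' := P.comapOfInjective ϕ hϕinj hrange with hP'
  have hcoe : (P' : Subgroup E') = (P : Subgroup E).comap ϕ := Sylow.coe_comapOfInjective _ _ _ _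
  have hcyc' : IsCyclic ↥(P' : Subgroup E') := by
    rcases Cfsg.Agent.S0040.result K E' hc hKne hfpf' p P' with h | ⟨n, ⟨e⟩⟩
    · exact h
    · exfalso
      have h1 : Nat.card (P' : Subgroup E') = 4 * 2 ^ n := by
        rw [Nat.card_congr e.toEquiv, Nat.card_eq_fintype_card, QuaternionGroup.card]
      have h2 : Nat.card (P' : Subgroup E') ∣ Nat.card E' := Subgroup.card_subgroup_dvd_card _
      have h3 : 2 ∣ Nat.card E := by
        rw [← hEcard]
        exact Dvd.dvd.trans ⟨2 * 2 ^ n, by rw [h1]; ring⟩ h2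
      exact (Nat.not_even_iff_odd.mpr hodd) (even_iff_two_dvd.mpr h3)
  rw [hcoe] at hcyc'
  exact isCyclic_of_surjective (ϕ.subgroupComap (P : Subgroup E))
    (MonoidHom.subgroupComap_surjective_of_surjective ϕ _ hϕsurj)

/-- commutators modulo a normal subgroup -/
theorem commutator_sup_sup_le' (A B Y : Subgroup H) [Y.Normal] :
    ⁅A ⊔ Y, B ⊔ Y⁆ ≤ ⁅A, B⁆ ⊔ Y := by
  have h : (⁅A ⊔ Y, B ⊔ Y⁆).map (QuotientGroup.mk' Y) = (⁅A, B⁆).map (QuotientGroup.mk' Y) := by
    rw [Subgroup.map_commutator, Subgroup.map_commutator, Subgroup.map_sup, Subgroup.map_sup,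
      QuotientGroup.map_mk'_self, sup_bot_eq, sup_bot_eq]
  calc ⁅A ⊔ Y, B ⊔ Y⁆
      ≤ ((⁅A ⊔ Y, B ⊔ Y⁆).map (QuotientGroup.mk' Y)).comap (QuotientGroup.mk' Y) :=
        Subgroup.le_comap_map _ _
    _ = ((⁅A, B⁆).map (QuotientGroup.mk' Y)).comap (QuotientGroup.mk' Y) := by rw [h]
    _ = ⁅A, B⁆ ⊔ Y := by rw [Subgroup.comap_map_eq, QuotientGroup.ker_mk']

/-- Existence of a cyclic `r`-subgroup `E` (`r` odd) with `O_2(H) E` normal in `H`. -/
theorem exists_normal_cyclic_step [Finite H] [Group.IsSolvable H]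
    (hO : Cfsg.oddCore H = ⊥)
    (hI : ∀ t : H, orderOf t = 2 →
      Cfsg.HasNormalPComplement 2 ↥(Subgroup.centralizer ({t} : Set H)))
    (hYbot : Cfsg.pCore 2 H ≠ ⊥) (hYtop : Cfsg.pCore 2 H ≠ ⊤) :
    ∃ (r : ℕ) (E : Subgroup H), r.Prime ∧ r ≠ 2 ∧ IsPGroup r E ∧ E ≠ ⊥ ∧ IsCyclic E ∧
      (Cfsg.pCore 2 H ⊔ E).Normal ∧
      Subgroup.normalizer (E : Set H) ⊔ Cfsg.pCore 2 H = ⊤ := by
  haveI : Fact (2 : ℕ).Prime := ⟨Nat.prime_two⟩
  set Y : Subgroup H := Cfsg.pCore 2 H with hYdef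
  haveI hYn : Y.Normal := Cfsg.Agent.Lib.Helper76.pCore_normal 2
  have hY2 : IsPGroup 2 Y := Cfsg.Agent.Lib.Helper76.pCore_isPGroup (G := H) 2
  obtain ⟨M, hMP, hMmin⟩ := exists_minimal_of_wellFoundedLT
    (fun M : Subgroup H => M.Normal ∧ Y < M) ⟨⊤, inferInstance, lt_top_iff_ne_top.mpr hYtop⟩
  obtain ⟨hMn, hYM⟩ := hMP
  haveI := hMn
  -- `M/Y` is abelian
  have hMM : ⁅M, M⁆ ≤ Y := by
    by_contra hcon
    set L : Subgroup H := ⁅M, M⁆ ⊔ Y with hL
    haveI : L.Normal := Subgroup.sup_normal _ _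
    have hYL : Y < L := by
      refine lt_of_le_of_ne le_sup_right ?_
      intro h
      apply hcon
      rw [h]
      exact le_sup_left
    have hLM : L ≤ M := sup_le (Subgroup.commutator_le_left M M) hYM.le
    have hML : M ≤ L := hMmin ⟨inferInstance, hYL⟩ hLM
    have key : ∀ n, M ≤ derivedSeries H n ⊔ Y := by
      intro n
      induction n with
      | zero => simp [derivedSeries_zero]
      | succ n ih =>
        calc M ≤ ⁅M, M⁆ ⊔ Y := hML
          _ ≤ ⁅derivedSeries H n ⊔ Y, derivedSeries H n ⊔ Y⁆ ⊔ Y :=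
            sup_le_sup_right (Subgroup.commutator_mono ih ih) Y
          _ ≤ (⁅derivedSeries H n, derivedSeries H n⁆ ⊔ Y) ⊔ Y :=
            sup_le_sup_right (commutator_sup_sup_le' _ _ _) Y
          _ = derivedSeries H (n + 1) ⊔ Y := by rw [derivedSeries_succ, sup_assoc, sup_idem]
    obtain ⟨n, hn⟩ := (Group.isSolvable_def H).mp inferInstance
    have := key n
    rw [hn, bot_sup_eq] at this
    exact absurd (lt_of_lt_of_le hYM this) (lt_irrefl _)
  -- a prime `r` dividing `|M : Y|`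
  have hrel : Y.relIndex M ≠ 1 := by
    rw [Ne, Subgroup.relIndex_eq_one]; exact not_le_of_gt hYM
  obtain ⟨r, hr, hrdvd⟩ := Nat.exists_prime_and_dvd hrel
  haveI : Fact r.Prime := ⟨hr⟩
  obtain ⟨P₀⟩ : Nonempty (Sylow r M) := inferInstance
  set E : Subgroup H := (P₀ : Subgroup M).map M.subtype with hE
  have hEM : E ≤ M := Subgroup.map_subtype_le _
  have hEr : IsPGroup r E := P₀.isPGroup'.map M.subtype
  have hfrat : Subgroup.normalizer (E : Set H) ⊔ M = ⊤ := Sylow.normalizer_sup_eq_top P₀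
  -- `Y ⊔ E` is normal
  have hLn : (Y ⊔ E).Normal := by
    constructor
    intro x hx h
    have hh : h ∈ Subgroup.normalizer (E : Set H) ⊔ M := hfrat ▸ Subgroup.mem_top h
    obtain ⟨n, hn, m, hm, rfl⟩ := Subgroup.mem_sup_of_normal_right.mp hh
    obtain ⟨y, hy, e, he, rfl⟩ := Subgroup.mem_sup_of_normal_left.mp hx
    -- m e m⁻¹ = e * ⁅e⁻¹, m⁆
    have h1 : m * e * m⁻¹ ∈ Y ⊔ E := by
      have h2 : ⁅e⁻¹, m⁆ ∈ Y :=
        hMM (Subgroup.commutator_mem_commutator (M.inv_mem (hEM he)) hm)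
      have h3 : m * e * m⁻¹ = e * ⁅e⁻¹, m⁆ := by
        rw [commutatorElement_def]; group
      rw [h3]
      exact (Y ⊔ E).mul_mem (le_sup_right (a := Y) he) (le_sup_left (b := E) h2)
    have h4 : n * (m * e * m⁻¹) * n⁻¹ ∈ Y ⊔ E := by
      obtain ⟨y', hy', e', he', h5⟩ := Subgroup.mem_sup_of_normal_left.mp h1
      rw [← h5]
      have h6 : n * (y' * e') * n⁻¹ = (n * y' * n⁻¹) * (n * e' * n⁻¹) := by group
      rw [h6]
      refine (Y ⊔ E).mul_mem (le_sup_left (b := E) (hYn.conj_mem _ hy' n)) ?_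
      exact le_sup_right (a := Y) ((Subgroup.mem_normalizer_iff.mp hn e').mp he')
    have h7 : n * m * (y * e) * (n * m)⁻¹ =
        ((n * m) * y * (n * m)⁻¹) * (n * (m * e * m⁻¹) * n⁻¹) := by group
    rw [h7]
    exact (Y ⊔ E).mul_mem (le_sup_left (b := E) (hYn.conj_mem _ hy _)) h4
  -- `E ≰ Y`
  have hEY : ¬ E ≤ Y := by
    intro hle
    have h1 : ¬ r ∣ (P₀ : Subgroup M).index := P₀.not_dvd_index
    apply h1
    have h2 : (P₀ : Subgroup M).index = E.relIndex M := by
      rw [Subgroup.relIndex, hE]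
      congr 1
      ext x
      simp [Subgroup.mem_subgroupOf]
    rw [h2, ← Subgroup.relIndex_mul_relIndex E Y M hle hYM.le]
    exact Dvd.dvd.mul_left hrdvd _
  have hYL : Y < Y ⊔ E := by
    refine lt_of_le_of_ne le_sup_left ?_
    intro h
    apply hEY
    rw [h]
    exact le_sup_right
  have hLM : Y ⊔ E ≤ M := sup_le hYM.le hEM
  have hML : M ≤ Y ⊔ E := hMmin ⟨hLn, hYL⟩ hLM
  have hMeq : M = Y ⊔ E := le_antisymm hML hLM
  -- `r ≠ 2`
  have hr2 : r ≠ 2 := by
    rintro rfl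
    have h1 : IsPGroup 2 (Y ⊔ E : Subgroup H) := IsPGroup.to_sup_of_normal_left hY2 hEr
    have h2 : Y ⊔ E ≤ Y := Cfsg.Agent.Lib.Helper76.le_pCore hLn h1
    exact absurd (lt_of_lt_of_le hYL h2) (lt_irrefl _)
  have hEne : E ≠ ⊥ := by
    intro h
    apply hEY
    rw [h]
    exact bot_le
  -- coprimality and fixed-point-freeness
  obtain ⟨a, ha⟩ := (IsPGroup.iff_card).mp hY2
  obtain ⟨b, hb⟩ := (IsPGroup.iff_card).mp hEr
  have hrodd : Odd r := hr.odd_of_ne_two hr2
  have hcop : (Nat.card Y).Coprime (Nat.card E) := by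
    rw [ha, hb]
    apply Nat.Coprime.pow
    exact (Nat.coprime_primes Nat.prime_two hr).mpr (Ne.symm hr2)
  have hEodd : Odd (Nat.card E) := by
    rw [hb]; exact hrodd.pow
  have hfpf : ∀ e ∈ E, e ≠ 1 → ∀ y ∈ Y, Commute e y → y = 1 := by
    intro e he he1 y hy hey
    by_contra hy1
    apply he1
    have heodd : Odd (orderOf e) := by
      have h1 : orderOf e ∣ Nat.card E := by
        have := orderOf_dvd_natCard (⟨e, he⟩ : E)
        rwa [Subgroup.orderOf_mk] at this
      exact Odd.of_dvd_nat hEodd h1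
    exact eq_one_of_commute_pCore hO hI hy hy1 heodd hey
  -- `E` is cyclic
  have hEcyc : IsCyclic E := by
    have hP : ¬ r ∣ (⊤ : Subgroup E).index := by
      rw [Subgroup.index_top]; exact hr.one_lt.ne' ∘ Nat.dvd_one.mp
    have htop : IsPGroup r (⊤ : Subgroup E) := hEr.to_subgroup ⊤
    have := sylow_isCyclic_of_fpf Y E hYbot hcop hEodd hfpf r (htop.toSylow hP)
    rw [IsPGroup.toSylow_coe] at this
    exact isCyclic_of_surjective (Subgroup.topEquiv : (⊤ : Subgroup E) ≃* E).toMonoidHom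
      (Subgroup.topEquiv : (⊤ : Subgroup E) ≃* E).surjective
  refine ⟨r, E, hr, hr2, hEr, hEne, hEcyc, hLn, ?_⟩
  rw [← top_le_iff, ← hfrat, hMeq]
  refine sup_le le_sup_left (sup_le le_sup_right ?_)
  exact le_sup_of_le_left Subgroup.le_normalizer

theorem conj_mem_centralizer_of_mem_normalizer {E : Subgroup H} {n c : H}
    (hn : n ∈ Subgroup.normalizer (E : Set H)) (hc : c ∈ Subgroup.centralizer (E : Set H)) :
    n * c * n⁻¹ ∈ Subgroup.centralizer (E : Set H) := by
  rw [Subgroup.mem_centralizer_iff]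
  intro e he
  have h1 : n⁻¹ * e * n ∈ E := by
    have := (Subgroup.mem_normalizer_iff.mp (Subgroup.inv_mem _ hn) e).mp he
    simpa using this
  have h2 := (Subgroup.mem_centralizer_iff.mp hc) _ h1
  calc e * (n * c * n⁻¹) = n * ((n⁻¹ * e * n) * c) * n⁻¹ := by group
    _ = n * (c * (n⁻¹ * e * n)) * n⁻¹ := by rw [h2]
    _ = n * c * n⁻¹ * e := by group

/-- a subgroup `K = ⊤` is normal with trivial quotient -/
theorem top_case {K : Subgroup H} (hK : K = ⊤) :
    K.Normal ∧ ∀ hN : K.Normal, IsCyclic (H ⧸ K) ∧ IsPGroup 2 (H ⧸ K) := by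
  subst hK
  refine ⟨inferInstance, fun _ => ?_⟩
  haveI : Subsingleton (H ⧸ (⊤ : Subgroup H)) := QuotientGroup.subsingleton_quotient_top
  refine ⟨isCyclic_of_subsingleton, ?_⟩
  apply IsPGroup.of_card (n := 0)
  rw [pow_zero]
  exact Nat.card_of_subsingleton 1

/-- The main structural step. -/
theorem main_step [Finite H] [Group.IsSolvable H]
    (hO : Cfsg.oddCore H = ⊥)
    (hI : ∀ t : H, orderOf t = 2 →
      Cfsg.HasNormalPComplement 2 ↥(Subgroup.centralizer ({t} : Set H)))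
    (X : Subgroup H) (hXodd : Odd (Nat.card X)) (hXidx : ∃ k : ℕ, X.index = 2 ^ k)
    (hYbot : Cfsg.pCore 2 H ≠ ⊥) (hYtop : Cfsg.pCore 2 H ≠ ⊤) :
    (X ⊔ Cfsg.pCore 2 H).Normal ∧
      ∀ hN : (X ⊔ Cfsg.pCore 2 H).Normal, IsCyclic (H ⧸ (X ⊔ Cfsg.pCore 2 H)) ∧
        IsPGroup 2 (H ⧸ (X ⊔ Cfsg.pCore 2 H)) := by
  haveI : Fact (2 : ℕ).Prime := ⟨Nat.prime_two⟩
  obtain ⟨r, E, hr, hr2, hEr, hEne, hEcyc, hLn, hfrat⟩ :=
    exists_normal_cyclic_step hO hI hYbot hYtop
  haveI : Fact r.Prime := ⟨hr⟩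
  set Y : Subgroup H := Cfsg.pCore 2 H with hYdef
  haveI hYn : Y.Normal := Cfsg.Agent.Lib.Helper76.pCore_normal 2
  have hY2 : IsPGroup 2 Y := Cfsg.Agent.Lib.Helper76.pCore_isPGroup (G := H) 2
  set N : Subgroup H := Subgroup.normalizer (E : Set H) with hNdef
  set C : Subgroup H := Subgroup.centralizer (E : Set H) with hCdef
  set K : Subgroup H := X ⊔ Y with hKdef
  obtain ⟨k, hk⟩ := hXidx
  obtain ⟨a, ha⟩ := (IsPGroup.iff_card).mp hY2
  obtain ⟨b, hb⟩ := (IsPGroup.iff_card).mp hEr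
  have hrodd : Odd r := hr.odd_of_ne_two hr2
  -- a nontrivial element of `E`
  obtain ⟨e₀, he₀, he₀1⟩ : ∃ e ∈ E, e ≠ 1 := by
    by_contra hcon
    push Not at hcon
    exact hEne ((Subgroup.eq_bot_iff_forall E).mpr hcon)
  have he₀odd : Odd (orderOf e₀) := by
    have h1 : orderOf e₀ ∣ Nat.card E := by
      have := orderOf_dvd_natCard (⟨e₀, he₀⟩ : E)
      rwa [Subgroup.orderOf_mk] at this
    rw [hb] at h1
    exact Odd.of_dvd_nat hrodd.pow h1
  -- `C` has odd order
  have hCodd : Odd (Nat.card C) := by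
    rw [← Nat.not_even_iff_odd, even_iff_two_dvd]
    intro h2
    obtain ⟨s, hs⟩ := exists_prime_orderOf_dvd_card' 2 h2
    have hs' : orderOf (s : H) = 2 := by rw [Subgroup.orderOf_coe]; exact hs
    have hcomm : Commute e₀ (s : H) :=
      ((Subgroup.mem_centralizer_iff.mp s.2) e₀ he₀)
    exact he₀1 (eq_one_of_commute_involution hO hI hs' he₀odd hcomm)
  -- `Y ⊓ C = ⊥`
  have hYC : Y ⊓ C = ⊥ := by
    rw [eq_bot_iff]
    intro y hy
    rw [Subgroup.mem_bot]
    by_contra hy1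
    have hcomm : Commute e₀ y := (Subgroup.mem_centralizer_iff.mp hy.2) e₀ he₀
    exact he₀1 (eq_one_of_commute_pCore hO hI hy.1 hy1 he₀odd hcomm)
  -- `MulAut E` is cyclic
  haveI hAutCyc : IsCyclic (MulAut E) := by
    have h1 : IsCyclic (ZMod (Nat.card E))ˣ := by
      rw [hb]; exact ZMod.isCyclic_units_of_prime_pow r hr hr2 b
    exact isCyclic_of_surjective (IsCyclic.mulAutMulEquiv E).symm.toMonoidHom
      (IsCyclic.mulAutMulEquiv E).symm.surjective
  set φ : N →* MulAut E := E.normalizerMonoidHom with hφ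
  have hker : φ.ker = C.subgroupOf N := Subgroup.normalizerMonoidHom_ker E
  -- commutators of elements of `N` lie in `C`
  have hNN : ∀ n ∈ N, ∀ n' ∈ N, ⁅n, n'⁆ ∈ C := by
    intro n hn n' hn'
    have h1 : φ ⁅(⟨n, hn⟩ : N), ⟨n', hn'⟩⁆ = 1 := by
      rw [map_commutatorElement, commutatorElement_eq_one_iff_commute]
      obtain ⟨g, hg⟩ := IsCyclic.exists_generator (α := MulAut E)
      obtain ⟨i, hi⟩ := Subgroup.mem_zpowers_iff.mp (hg (φ ⟨n, hn⟩))
      obtain ⟨j, hj⟩ := Subgroup.mem_zpowers_iff.mp (hg (φ ⟨n', hn'⟩))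
      rw [← hi, ← hj]
      exact (Commute.refl g).zpow_zpow i j
    have h2 : ⁅(⟨n, hn⟩ : N), ⟨n', hn'⟩⁆ ∈ φ.ker := MonoidHom.mem_ker.mpr h1
    rw [hker, Subgroup.mem_subgroupOf] at h2
    simpa [commutatorElement_def] using h2
  -- `L = Y ⊔ C` is normal with abelian quotient
  set L : Subgroup H := Y ⊔ C with hLdef
  have hLnorm : L.Normal := by
    constructor
    intro x hx h
    have hh : h ∈ N ⊔ Y := hfrat ▸ Subgroup.mem_top h
    obtain ⟨n, hn, y, hy, rfl⟩ := Subgroup.mem_sup_of_normal_right.mp hh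
    obtain ⟨y', hy', c, hc, rfl⟩ := Subgroup.mem_sup_of_normal_left.mp hx
    have h1 : n * y * (y' * c) * (n * y)⁻¹ =
        (n * (y * y' * (c * y⁻¹ * c⁻¹)) * n⁻¹) * (n * c * n⁻¹) := by
      group
    rw [h1]
    refine L.mul_mem (le_sup_left (b := C) (hYn.conj_mem _ ?_ n))
      (le_sup_right (a := Y) (conj_mem_centralizer_of_mem_normalizer hn hc))
    exact Y.mul_mem (Y.mul_mem hy hy') (hYn.conj_mem _ (Y.inv_mem hy) c)
  haveI := hLnorm
  have hcommL : ∀ g g' : H, ⁅g, g'⁆ ∈ L := by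
    intro g g'
    have hg : g ∈ N ⊔ Y := hfrat ▸ Subgroup.mem_top g
    have hg' : g' ∈ N ⊔ Y := hfrat ▸ Subgroup.mem_top g'
    obtain ⟨n, hn, y, hy, rfl⟩ := Subgroup.mem_sup_of_normal_right.mp hg
    obtain ⟨n', hn', y', hy', rfl⟩ := Subgroup.mem_sup_of_normal_right.mp hg'
    rw [← QuotientGroup.eq_one_iff, ← QuotientGroup.mk'_apply, map_commutatorElement]
    have hY1 : ∀ z ∈ Y, QuotientGroup.mk' L z = 1 := by
      intro z hz
      rw [QuotientGroup.mk'_apply]
      exact (QuotientGroup.eq_one_iff z).mpr (le_sup_left (b := C) hz)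
    have e1 : QuotientGroup.mk' L (n * y) = QuotientGroup.mk' L n := by
      rw [map_mul, hY1 y hy, mul_one]
    have e2 : QuotientGroup.mk' L (n' * y') = QuotientGroup.mk' L n' := by
      rw [map_mul, hY1 y' hy', mul_one]
    rw [e1, e2, ← map_commutatorElement, QuotientGroup.mk'_apply]
    exact (QuotientGroup.eq_one_iff _).mpr (le_sup_right (a := Y) (hNN n hn n' hn'))
  -- `L ≤ K` by counting
  have hLK : L ≤ K := by
    set X₀ : Subgroup H := X ⊓ L with hX₀
    have hLcard : Nat.card L = 2 ^ a * Nat.card C := by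
      rw [hLdef, card_sup_of_disjoint Y C hYC, ha]
    have hX₀odd : Odd (Nat.card X₀) :=
      Odd.of_dvd_nat hXodd (Subgroup.card_dvd_of_le inf_le_left)
    -- index of `X₀` in `L` is a power of two
    have hidx : X₀.relIndex L ∣ 2 ^ k := by
      rw [hX₀, Subgroup.inf_relIndex_right, ← hk]
      exact Cfsg.Agent.Lib.Helper76.relIndex_dvd_index_of_normal_right X L
    obtain ⟨j, -, hj⟩ := (Nat.dvd_prime_pow Nat.prime_two).mp hidx
    have hmul : Nat.card X₀ * 2 ^ j = 2 ^ a * Nat.card C := by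
      rw [← hLcard, ← hj]
      have h1 := Subgroup.relIndex_mul_relIndex (⊥ : Subgroup H) X₀ L bot_le inf_le_right
      rw [Subgroup.relIndex_bot_left, Subgroup.relIndex_bot_left] at h1
      exact h1
    have hcopX : (Nat.card X₀).Coprime (2 ^ a) :=
      Nat.Coprime.pow_right a (coprime_two_of_odd hX₀odd)
    have hcopC : (Nat.card C).Coprime (2 ^ j) :=
      Nat.Coprime.pow_right j (coprime_two_of_odd hCodd)
    have hd1 : Nat.card X₀ ∣ Nat.card C :=
      hcopX.dvd_of_dvd_mul_left (Dvd.intro _ hmul)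
    have hd2 : Nat.card C ∣ Nat.card X₀ :=
      hcopC.dvd_of_dvd_mul_right (Dvd.intro_left _ hmul.symm)
    have hXC : Nat.card X₀ = Nat.card C := Nat.dvd_antisymm hd1 hd2
    have hYX₀ : Y ⊓ X₀ = ⊥ := by
      apply disjoint_iff.mp
      apply Subgroup.disjoint_of_coprime_natCard
      rw [ha]
      exact hcopX.symm
    have hsup : Y ⊔ X₀ = L := by
      apply Subgroup.eq_of_le_of_card_ge (sup_le le_sup_left inf_le_right)
      rw [card_sup_of_disjoint Y X₀ hYX₀, hLcard, ha, hXC]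
    rw [← hsup, hKdef]
    exact sup_le le_sup_right (le_sup_of_le_left inf_le_left)
  -- normality of `K`
  have hKn : K.Normal := by
    constructor
    intro x hx g
    have h1 : g * x * g⁻¹ = ⁅g, x⁆ * x := by
      rw [commutatorElement_def]; group
    rw [h1]
    exact K.mul_mem (hLK (hcommL g x)) hx
  refine ⟨hKn, fun hN => ?_⟩
  constructor
  · -- cyclic
    set ψ : N →* H ⧸ K := (QuotientGroup.mk' K).comp N.subtype with hψ
    have hkerle : φ.ker ≤ ψ.ker := by
      intro n hn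
      rw [hker, Subgroup.mem_subgroupOf] at hn
      rw [MonoidHom.mem_ker, hψ, MonoidHom.comp_apply, QuotientGroup.mk'_apply,
        QuotientGroup.eq_one_iff]
      exact hLK (le_sup_right (a := Y) hn)
    haveI : IsCyclic (N ⧸ φ.ker) :=
      isCyclic_of_surjective (QuotientGroup.quotientKerEquivRange φ).symm.toMonoidHom
        (QuotientGroup.quotientKerEquivRange φ).symm.surjective
    apply isCyclic_of_surjective (QuotientGroup.lift φ.ker ψ hkerle)
    intro q
    obtain ⟨g, rfl⟩ := QuotientGroup.mk_surjective q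
    have hg : g ∈ N ⊔ Y := hfrat ▸ Subgroup.mem_top g
    obtain ⟨n, hn, y, hy, rfl⟩ := Subgroup.mem_sup_of_normal_right.mp hg
    refine ⟨QuotientGroup.mk (⟨n, hn⟩ : N), ?_⟩
    rw [QuotientGroup.lift_mk, hψ, MonoidHom.comp_apply, QuotientGroup.mk'_apply]
    change (QuotientGroup.mk n : H ⧸ K) = QuotientGroup.mk (n * y)
    rw [QuotientGroup.mk_mul, (QuotientGroup.eq_one_iff y).mpr (le_sup_right (a := X) hy), mul_one]
  · -- 2-group
    have h1 : K.index ∣ 2 ^ k := by
      rw [← hk]; exact Subgroup.index_dvd_of_le le_sup_left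
    obtain ⟨j, -, hj⟩ := (Nat.dvd_prime_pow Nat.prime_two).mp h1
    apply IsPGroup.of_card (n := j)
    rw [← hj, Subgroup.index_eq_card]

end aux

/-- Let H be a finite solvable group with no nontrivial normal subgroup of odd order in which the centralizer of every involution has a normal 2-complement. Let X be a Hall 2'-subgroup of H (odd order, index a power of 2) and Y = O₂(H). Then no non-identity element of X commutes with a non-identity element of Y (so for X ≠ 1 the group XY is a Frobenius group with kernel Y), every Sylow subgroup of X is cyclic, XY is normal in H, and H/XY is a cyclic 2-group. -/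
theorem result {H : Type*} [Group H] [Finite H] (hsol : Group.IsSolvable H)
    (hO : Cfsg.oddCore H = ⊥)
    (hI : ∀ t : H, orderOf t = 2 → Cfsg.HasNormalPComplement 2 ↥(Subgroup.centralizer ({t} : Set H)))
    (X : Subgroup H) (hXodd : Odd (Nat.card X)) (hXidx : ∃ k : ℕ, X.index = 2 ^ k) :
    (∀ x ∈ X, x ≠ 1 → ∀ y ∈ Cfsg.pCore 2 H, y ≠ 1 → x * y ≠ y * x) ∧
      (∀ (p : ℕ) [Fact p.Prime] (P : Sylow p ↥X), IsCyclic ↥(P : Subgroup ↥X)) ∧
      (X ⊔ Cfsg.pCore 2 H).Normal ∧
      ∀ hN : (X ⊔ Cfsg.pCore 2 H).Normal, IsCyclic (H ⧸ (X ⊔ Cfsg.pCore 2 H)) ∧ IsPGroup 2 (H ⧸ (X ⊔ Cfsg.pCore 2 H)) := by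
  haveI := hsol
  haveI : Fact (2 : ℕ).Prime := ⟨Nat.prime_two⟩
  haveI hYn : (Cfsg.pCore 2 H).Normal := Cfsg.Agent.Lib.Helper76.pCore_normal 2
  have hY2 : IsPGroup 2 (Cfsg.pCore 2 H) := Cfsg.Agent.Lib.Helper76.pCore_isPGroup (G := H) 2
  have hXo : ∀ x ∈ X, Odd (orderOf x) := by
    intro x hx
    have h1 : orderOf x ∣ Nat.card X := by
      have := orderOf_dvd_natCard (⟨x, hx⟩ : X)
      rwa [Subgroup.orderOf_mk] at this
    exact Odd.of_dvd_nat hXodd h1
  have hfpf : ∀ e ∈ X, e ≠ 1 → ∀ y ∈ Cfsg.pCore 2 H, Commute e y → y = 1 := by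
    intro e he he1 y hy hey
    by_contra hy1
    exact he1 (eq_one_of_commute_pCore hO hI hy hy1 (hXo e he) hey)
  -- the degenerate cases
  have hsub : Cfsg.pCore 2 H = ⊥ → Subsingleton H := by
    intro hbot
    have h1 := centralizer_pCore_two_le (H := H) hO
    rw [hbot] at h1
    have h2 : (⊤ : Subgroup H) ≤ ⊥ := by
      refine le_trans ?_ h1
      intro x _
      rw [Subgroup.mem_centralizer_iff]
      intro y hy
      rw [Subgroup.coe_bot, Set.mem_singleton_iff] at hy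
      rw [hy, one_mul, mul_one]
    exact (Subgroup.subsingleton_iff).mp ⟨fun A B => by
      have hA : A = ⊥ := le_bot_iff.mp (le_trans le_top h2)
      have hB : B = ⊥ := le_bot_iff.mp (le_trans le_top h2)
      rw [hA, hB]⟩
  refine ⟨?_, ?_, ?_⟩
  · intro x hx hx1 y hy hy1 hxy
    exact hx1 (eq_one_of_commute_pCore hO hI hy hy1 (hXo x hx) hxy)
  · intro p _ P
    by_cases hbot : Cfsg.pCore 2 H = ⊥
    · haveI := hsub hbot
      exact isCyclic_of_subsingleton
    · obtain ⟨a, ha⟩ := (IsPGroup.iff_card).mp hY2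
      have hcop : (Nat.card (Cfsg.pCore 2 H)).Coprime (Nat.card X) := by
        rw [ha]
        exact (Nat.Coprime.pow_right a (coprime_two_of_odd hXodd)).symm
      exact sylow_isCyclic_of_fpf (Cfsg.pCore 2 H) X hbot hcop hXodd hfpf p P
  · by_cases hbot : Cfsg.pCore 2 H = ⊥
    · haveI := hsub hbot
      have hK : X ⊔ Cfsg.pCore 2 H = ⊤ := Subsingleton.elim _ _
      exact top_case hK
    · by_cases htop : Cfsg.pCore 2 H = ⊤
      · have hK : X ⊔ Cfsg.pCore 2 H = ⊤ := by rw [htop, sup_top_eq]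
        exact top_case hK
      · exact main_step hO hI X hXodd hXidx hbot htop

end Cfsg.Agent.S3215
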