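import Cfsg.Statements.S3246
import Cfsg.Agent.Lib.Helper60.CharTwoCrit
import Cfsg.Agent.Lib.Helper12.FourGroup
import Cfsg.Agent.S0058

set_option autoImplicit false
set_option linter.style.haveILetI false
open Cfsg

namespace Cfsg.Agent.S3246

open Cfsg.Agent.Lib.Helper60.CTC Cfsg.Agent.Lib.Helper56 Cfsg.Agent.Lib.Helper12

/-- A nontrivial finite `p`-subgroup contains an element of order `p` commuting with all of it. -/
theorem exists_central_order_p {G : Type*} [Group G] [Finite G] {p : ℕ} [hp : Fact p.Prime]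
    (T : Subgroup G) (hT : IsPGroup p ↥T) (hT1 : T ≠ ⊥) :
    ∃ z ∈ T, orderOf z = p ∧ ∀ t ∈ T, t * z = z * t := by
  haveI : Nontrivial ↥T := (Subgroup.nontrivial_iff_ne_bot T).mpr hT1
  haveI : Nontrivial ↥(Subgroup.center ↥T) := hT.center_nontrivial
  have hZp : IsPGroup p ↥(Subgroup.center ↥T) := hT.to_subgroup _
  have hdvd : p ∣ Nat.card ↥(Subgroup.center ↥T) := by
    obtain ⟨k, hk⟩ := IsPGroup.iff_card.mp hZp
    rw [hk]
    apply dvd_pow_self
    rintro rfl
    rw [pow_zero] at hk
    have := Finite.one_lt_card (α := ↥(Subgroup.center ↥T))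
    omega
  obtain ⟨c, hc⟩ := exists_prime_orderOf_dvd_card' p hdvd
  refine ⟨((c : ↥T) : G), (c : ↥T).2, ?_, ?_⟩
  · rw [Subgroup.orderOf_coe, Subgroup.orderOf_coe, hc]
  · intro t ht
    have := Subgroup.mem_center_iff.mp c.2 ⟨t, ht⟩
    have h3 := congrArg Subtype.val this
    simpa using h3

/-- Let G be a finite group whose Sylow 2-subgroup S has a self-centralizing normal subgroup of rank at least 3. Suppose that either every maximal 2-local subgroup of G is 2-constrained with no nontrivial normal subgroup of odd order, or the centralizer of every involution of G is 2-constrained with no nontrivial normal subgroup of odd order. Then S normalizes no nontrivial subgroup of G of odd order and every 2-local subgroup of G is 2-constrained. -/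
theorem result {G : Type*} [Group G] [Finite G]
    (S : Sylow 2 G) (A : Subgroup G) (hA : Cfsg.IsSCN (S : Subgroup G) A) (hA3 : ¬ Cfsg.PRankLE 2 2 ↥A)
    (h : (∀ M : Subgroup G, Cfsg.IsMaximalTwoLocal M → Cfsg.IsPConstrained 2 ↥M ∧ Cfsg.oddCore ↥M = ⊥) ∨
      (∀ t : G, orderOf t = 2 → Cfsg.IsPConstrained 2 ↥(Subgroup.centralizer ({t} : Set G)) ∧
        Cfsg.oddCore ↥(Subgroup.centralizer ({t} : Set G)) = ⊥)) :
    (∀ X : Subgroup G, Odd (Nat.card ↥X) → (S : Subgroup G) ≤ Subgroup.normalizer (X : Set G) → X = ⊥) ∧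
      (∀ T : Subgroup G, IsPGroup 2 ↥T → T ≠ ⊥ → Cfsg.IsPConstrained 2 ↥(Subgroup.normalizer (T : Set G))) := by
  classical
  haveI : Fact (Nat.Prime 2) := ⟨Nat.prime_two⟩
  -- every 2-local subgroup has characteristic 2
  have hloc : ∀ T : Subgroup G, IsPGroup 2 ↥T → T ≠ ⊥ →
      Subgroup.centralizer (Cfsg.pCore 2 ↥(Subgroup.normalizer (T : Set G)) :
        Set ↥(Subgroup.normalizer (T : Set G))) ≤
        Cfsg.pCore 2 ↥(Subgroup.normalizer (T : Set G)) := by
    intro T hT hT1
    rcases h with h | h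
    · set 𝓛 : Set (Subgroup G) := {M | Cfsg.IsTwoLocal M} with h𝓛
      have hN𝓛 : Subgroup.normalizer (T : Set G) ∈ 𝓛 := ⟨T, hT, hT1, rfl⟩
      obtain ⟨M, hNM, hMmax⟩ := (Set.toFinite 𝓛).exists_le_maximal hN𝓛
      have hM𝓛 : Cfsg.IsTwoLocal M := hMmax.prop
      have hMm : Cfsg.IsMaximalTwoLocal M :=
        ⟨hM𝓛, fun N' hN' hle => le_antisymm (hMmax.le_of_ge hN' hle) hle⟩
      obtain ⟨hMc, hM0⟩ := h M hMm
      have hMchar := charP_of_isPConstrained hMc hM0
      exact charP_normalizer_rel M T hMchar hT (Subgroup.le_normalizer.trans hNM)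
        ((Subgroup.centralizer_le_normalizer (T : Set G)).trans hNM)
    · obtain ⟨z, hzT, hzo, hzcomm⟩ := exists_central_order_p T hT hT1
      obtain ⟨hzc, hz0⟩ := h z hzo
      exact charP_normalizer_of_centralizer_elt T hT z hzT hzcomm (charP_of_isPConstrained hzc hz0)
  refine ⟨?_, fun T hT hT1 => isPConstrained_of_charP (hloc T hT hT1)⟩
  intro X hXodd hSX
  obtain ⟨z, a, hzS, haS, hz1, ha1, haz, hzz, haa, hzc, hac⟩ := exists_four S A hA hA3
  have hXcop : (Nat.card ↥X).Coprime 2 := (Nat.coprime_comm.mp hXodd.coprime_two_left)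
  -- the key step
  have key : ∀ t : G, t ≠ 1 → t * t = 1 →
      (∀ s ∈ (S : Subgroup G), s * t * s⁻¹ = t ∨ s * t * s⁻¹ = t * z) →
      X ⊓ Subgroup.centralizer ({t} : Set G) = ⊥ := by
    intro t ht1 htt htc
    have hto : orderOf t = 2 := orderOf_eq_prime (by rw [pow_two]; exact htt) ht1
    have hTp : IsPGroup 2 ↥(Subgroup.zpowers t) := by
      apply IsPGroup.of_card (n := 1)
      rw [Nat.card_zpowers, hto, pow_one]
    have hTne : Subgroup.zpowers t ≠ ⊥ := by
      intro h0
      exact ht1 (Subgroup.zpowers_eq_bot.mp h0)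
    have hNchar := hloc (Subgroup.zpowers t) hTp hTne
    have hCN : Subgroup.centralizer ({t} : Set G) ≤
        Subgroup.normalizer ((Subgroup.zpowers t : Subgroup G) : Set G) := by
      intro g hg
      rw [Subgroup.mem_centralizer_singleton_iff] at hg
      rw [Subgroup.mem_normalizer_iff]
      intro x
      have hcomm : ∀ x ∈ Subgroup.zpowers t, g * x * g⁻¹ = x := by
        intro x hx
        obtain ⟨k, rfl⟩ := Subgroup.mem_zpowers_iff.mp hx
        have : Commute g (t ^ k) := (Commute.zpow_right (show Commute g t from hg) k)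
        rw [this.eq]; group
      constructor
      · intro hx
        rw [hcomm x hx]; exact hx
      · intro hx
        have h2 := hcomm _ hx
        have h3 : g⁻¹ * (g * (g * x * g⁻¹) * g⁻¹) * g = g⁻¹ * (g * x * g⁻¹) * g := by rw [h2]
        have h4 : g * x * g⁻¹ = x := by
          have e1 : g⁻¹ * (g * (g * x * g⁻¹) * g⁻¹) * g = g * x * g⁻¹ := by group
          have e2 : g⁻¹ * (g * x * g⁻¹) * g = x := by group
          rw [e1, e2] at h3
          exact h3
        rw [← h4]; exact hx
    apply odd_eq_bot_of_large _ hNchar S ((S : Subgroup G) ⊓ Subgroup.centralizer ({t} : Set G))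
      (X ⊓ Subgroup.centralizer ({t} : Set G)) (inf_le_right.trans hCN) (inf_le_right.trans hCN)
      (S.isPGroup'.to_le inf_le_left)
      (card_le_two_mul_centralizer (S : Subgroup G) t z htc hzc hzz)
    · exact Nat.Coprime.coprime_dvd_left (Subgroup.card_dvd_of_le inf_le_left) hXcop
    · intro r hr
      obtain ⟨hrS, hrC⟩ := Subgroup.mem_inf.1 hr
      have hrX := hSX hrS
      have hrC' : r ∈ Subgroup.normalizer
          ((Subgroup.centralizer ({t} : Set G) : Subgroup G) : Set G) := Subgroup.le_normalizer hrC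
      rw [Subgroup.mem_normalizer_iff] at hrX hrC' ⊢
      intro x
      rw [Subgroup.mem_inf, Subgroup.mem_inf, ← hrX x, ← hrC' x]
  -- the three involutions
  have hza : z * a = a * z := (hzc a haS).symm
  have hkz : X ⊓ Subgroup.centralizer ({z} : Set G) = ⊥ := by
    apply key z hz1 hzz
    intro s hs
    left
    rw [hzc s hs]; group
  have hka : X ⊓ Subgroup.centralizer ({a} : Set G) = ⊥ := key a ha1 haa hac
  have hkza : X ⊓ Subgroup.centralizer ({z * a} : Set G) = ⊥ := by
    apply key (z * a)
    · intro h0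
      apply haz
      have : z * a = z * z := by rw [h0, hzz]
      exact mul_left_cancel this
    · calc z * a * (z * a) = z * (a * z) * a := by group
        _ = z * (z * a) * a := by rw [hza]
        _ = (z * z) * (a * a) := by group
        _ = 1 := by rw [hzz, haa, one_mul]
    · intro s hs
      have e : s * (z * a) * s⁻¹ = (s * z * s⁻¹) * (s * a * s⁻¹) := by group
      have ez : s * z * s⁻¹ = z := by rw [hzc s hs]; group
      rw [e, ez]
      rcases hac s hs with h1 | h1
      · left; rw [h1]
      · right; rw [h1, mul_assoc]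
  -- generation by the four-group
  set V : Subgroup G := fourSub z a hzz haa hza with hV
  haveI hV4 : IsKleinFour ↥V := isKleinFour_fourSub hzz haa hza hz1 ha1 (fun h0 => haz h0.symm)
  haveI : IsMulCommutative ↥V :=
    ⟨⟨fun x y => Subtype.ext (comm_of_mem_kleinFour V x.2 y.2)⟩⟩
  have hVnc : ¬ IsCyclic ↥V := IsKleinFour.not_isCyclic
  have hVS : V ≤ (S : Subgroup G) := by
    intro v hv
    rcases mem_fourSub.mp hv with rfl | rfl | rfl | rfl
    · exact one_mem _
    · exact hzS
    · exact haS
    · exact mul_mem hzS haS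
  have hVX : V ≤ Subgroup.normalizer (X : Set G) := hVS.trans hSX
  have hcop : (Nat.card ↥V).Coprime (Nat.card ↥X) := by
    rw [IsKleinFour.card_four]
    have h2 : Nat.Coprime (2 ^ 2) (Nat.card ↥X) := Nat.Coprime.pow_left 2 hXodd.coprime_two_left
    norm_num at h2
    exact h2
  have hgen := Cfsg.Agent.S0058.result V X hVnc hVX hcop
  have hle : (⨆ v ∈ {v : G | v ∈ V ∧ v ≠ 1}, X ⊓ Subgroup.centralizer {v}) ≤ ⊥ := by
    apply iSup₂_le
    intro v hv
    obtain ⟨hvV, hv1⟩ := hv
    rcases mem_fourSub.mp hvV with rfl | rfl | rfl | rfl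
    · exact absurd rfl hv1
    · exact hkz.le
    · exact hka.le
    · exact hkza.le
  rw [hgen] at hle
  exact le_bot_iff.mp hle

end Cfsg.Agent.S3246
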