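import Cfsg.Statements.S3247
import Cfsg.Agent.Lib.Helper12.PConstrained

set_option autoImplicit false
set_option linter.style.haveILetI false
open Cfsg

namespace Cfsg.Agent.S3247

open Cfsg.Agent.Lib.Helper12

/-- Let G be a finite group and p a prime; here a p-local subgroup means the normalizer of a nontrivial p-subgroup, other than G itself. If every p-local subgroup of G that is maximal among p-local subgroups is p-constrained, or if the centralizer of every element of order p of G is p-constrained, then every p-local subgroup of G is p-constrained. -/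
theorem result {G : Type*} [Group G] [Finite G] (p : ℕ) [hp : Fact p.Prime]
    (h : (∀ M : Subgroup G, (∃ T : Subgroup G, IsPGroup p ↥T ∧ T ≠ ⊥ ∧ M = Subgroup.normalizer (T : Set G)) → M ≠ ⊤ →
        (∀ M' : Subgroup G, (∃ T' : Subgroup G, IsPGroup p ↥T' ∧ T' ≠ ⊥ ∧ M' = Subgroup.normalizer (T' : Set G)) → M' ≠ ⊤ → M ≤ M' → M = M') →
        Cfsg.IsPConstrained p ↥M) ∨
      (∀ x : G, orderOf x = p → Cfsg.IsPConstrained p ↥(Subgroup.centralizer ({x} : Set G))))
    (T : Subgroup G) (hT : IsPGroup p ↥T) (hT1 : T ≠ ⊥) (hTG : Subgroup.normalizer (T : Set G) ≠ ⊤) :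
    Cfsg.IsPConstrained p ↥(Subgroup.normalizer (T : Set G)) := by
  classical
  set N : Subgroup G := Subgroup.normalizer (T : Set G) with hN
  have hTN : T ≤ N := Subgroup.le_normalizer
  rcases h with h | h
  · set 𝓛 : Set (Subgroup G) := {M | (∃ T' : Subgroup G, IsPGroup p ↥T' ∧ T' ≠ ⊥ ∧
        M = Subgroup.normalizer (T' : Set G)) ∧ M ≠ ⊤} with h𝓛
    have hN𝓛 : N ∈ 𝓛 := ⟨⟨T, hT, hT1, rfl⟩, hTG⟩
    obtain ⟨M, hNM, hMmax⟩ := (Set.toFinite 𝓛).exists_le_maximal hN𝓛
    have hM𝓛 : M ∈ 𝓛 := hMmax.prop
    have hMc : IsPConstrained p ↥M := h M hM𝓛.1 hM𝓛.2 (fun M' hM' hM'top hle =>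
      le_antisymm hle (hMmax.le_of_ge ⟨hM', hM'top⟩ hle))
    have hTM : T ≤ M := hTN.trans hNM
    have hT' : IsPGroup p ↥(T.subgroupOf M) :=
      hT.comap_of_injective M.subtype M.subtype_injective
    have h1 := (Cfsg.Agent.S0631.result hMc (T.subgroupOf M) hT').1
    have h2 : Subgroup.normalizer ((T.subgroupOf M : Subgroup ↥M) : Set ↥M) = N.subgroupOf M :=
      (Subgroup.subgroupOf_normalizer_eq hTM).symm
    have e : ↥(Subgroup.normalizer ((T.subgroupOf M : Subgroup ↥M) : Set ↥M)) ≃* ↥N :=
      (MulEquiv.subgroupCongr h2).trans (Subgroup.subgroupOfEquivOfLe hNM)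
    exact isPConstrained_of_mulEquiv p e h1
  · -- an element of order `p` in the centre of `T`
    haveI : Nontrivial ↥T := (Subgroup.nontrivial_iff_ne_bot T).mpr hT1
    haveI : Nontrivial ↥(Subgroup.center ↥T) := hT.center_nontrivial
    have hZp : IsPGroup p ↥(Subgroup.center ↥T) := hT.to_subgroup _
    have hdvd : p ∣ Nat.card ↥(Subgroup.center ↥T) := by
      obtain ⟨k, hk⟩ := IsPGroup.iff_card.mp hZp
      rw [hk]
      apply dvd_pow_self
      rintro rfl
      rw [pow_zero] at hk
      have := Finite.one_lt_card (α := ↥(Subgroup.center ↥T))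
      omega
    obtain ⟨c, hc⟩ := exists_prime_orderOf_dvd_card' p hdvd
    set z : G := ((c : ↥T) : G) with hz
    have hzo : orderOf z = p := by
      rw [hz, Subgroup.orderOf_coe, Subgroup.orderOf_coe, hc]
    have hzT : z ∈ T := (c : ↥T).2
    have hzcomm : ∀ t ∈ T, z * t = t * z := by
      intro t ht
      have := Subgroup.mem_center_iff.mp c.2 ⟨t, ht⟩
      have h3 := congrArg Subtype.val this
      simpa using h3.symm
    set Cz : Subgroup G := Subgroup.centralizer ({z} : Set G) with hCz
    have hCzc : IsPConstrained p ↥Cz := h z hzo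
    have hTCz : T ≤ Cz := by
      intro t ht
      rw [hCz, Subgroup.mem_centralizer_iff]
      intro y hy
      rw [Set.mem_singleton_iff] at hy
      subst hy
      exact hzcomm t ht
    have hT' : IsPGroup p ↥(T.subgroupOf Cz) :=
      hT.comap_of_injective Cz.subtype Cz.subtype_injective
    have h1 := (Cfsg.Agent.S0631.result hCzc (T.subgroupOf Cz) hT').1
    have h2 : Subgroup.normalizer ((T.subgroupOf Cz : Subgroup ↥Cz) : Set ↥Cz) = N.subgroupOf Cz :=
      (Subgroup.subgroupOf_normalizer_eq hTCz).symm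
    set z' : ↥N := ⟨z, hTN hzT⟩ with hz'
    have h3 : Subgroup.centralizer ({z'} : Set ↥N) = Cz.subgroupOf N := by
      ext x
      rw [Subgroup.mem_centralizer_iff, Subgroup.mem_subgroupOf, hCz, Subgroup.mem_centralizer_iff]
      constructor
      · intro hx y hy
        rw [Set.mem_singleton_iff] at hy
        subst hy
        have := hx z' rfl
        exact congrArg Subtype.val this
      · intro hx y hy
        rw [Set.mem_singleton_iff] at hy
        subst hy
        apply Subtype.ext
        exact hx z rfl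
    have e : ↥(Subgroup.normalizer ((T.subgroupOf Cz : Subgroup ↥Cz) : Set ↥Cz)) ≃*
        ↥(Subgroup.centralizer ({z'} : Set ↥N)) :=
      ((MulEquiv.subgroupCongr h2).trans (Cfsg.Agent.S2897.subgroupOfSwapEquiv N Cz)).trans
        (MulEquiv.subgroupCongr h3.symm)
    have hz'core : z' ∈ pCore p ↥N := by
      have hn : (T.subgroupOf N).Normal := Subgroup.normal_in_normalizer
      have hpT : IsPGroup p ↥(T.subgroupOf N) :=
        hT.comap_of_injective N.subtype N.subtype_injective
      exact Cfsg.Agent.Lib.Helper54.le_pCore hn hpT (Subgroup.mem_subgroupOf.mpr hzT)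
    exact isPConstrained_of_centralizer_elt p z' hz'core (isPConstrained_of_mulEquiv p e h1)

end Cfsg.Agent.S3247
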