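import Cfsg.Statements.S3265
import Cfsg.Agent.Lib.Helper72.OddProdFinal

set_option autoImplicit false
open Cfsg

namespace Cfsg.Agent.S3265

/-- Let n ≥ 5 and let X be a conjugacy class of involutions of the symmetric group of degree n. The graph on X joining two distinct involutions whose product has odd order is connected and has diameter exactly 2. -/
theorem result (n : ℕ) (hn : 5 ≤ n) (t : Equiv.Perm (Fin n)) (ht : orderOf t = 2) :
    (SimpleGraph.fromRel fun x y : {x : Equiv.Perm (Fin n) // IsConj t x} =>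
        Odd (orderOf (x.1 * y.1))).Connected ∧
      (SimpleGraph.fromRel fun x y : {x : Equiv.Perm (Fin n) // IsConj t x} =>
        Odd (orderOf (x.1 * y.1))).diam = 2 := by
  have hcard : 5 ≤ Fintype.card (Fin n) := by rw [Fintype.card_fin]; exact hn
  have htt : t * t = 1 := by rw [← sq, ← ht]; exact pow_orderOf_eq_one t
  have ht1 : t ≠ 1 := by
    intro h
    rw [h, orderOf_one] at ht
    omega
  have : Nonempty {x : Equiv.Perm (Fin n) // IsConj t x} := ⟨⟨t, IsConj.refl t⟩⟩
  apply Cfsg.Agent.Lib.Helper72.OddProd.connected_diam_two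
  · rintro ⟨x, hx⟩ ⟨y, hy⟩
    obtain ⟨z, hz, h1, h2⟩ := Cfsg.Agent.Lib.Helper72.OddProd.exists_middle hcard t x y htt hx hy
    refine ⟨⟨z, hz⟩, ?_, ?_⟩
    · by_cases h : (⟨z, hz⟩ : {x : Equiv.Perm (Fin n) // IsConj t x}) = ⟨x, hx⟩
      · exact Or.inl h
      · right
        rw [SimpleGraph.fromRel_adj]
        exact ⟨fun h' => h h'.symm, Or.inl h1⟩
    · by_cases h : (⟨z, hz⟩ : {x : Equiv.Perm (Fin n) // IsConj t x}) = ⟨y, hy⟩
      · exact Or.inl h
      · right
        rw [SimpleGraph.fromRel_adj]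
        exact ⟨h, Or.inl h2⟩
  · obtain ⟨x, hx, hne, h1, h2⟩ :=
      Cfsg.Agent.Lib.Helper72.OddProd.exists_nonadjacent hcard t htt ht1
    refine ⟨⟨x, hx⟩, ⟨t, IsConj.refl t⟩, ?_, ?_⟩
    · intro h
      exact hne (congrArg Subtype.val h)
    · rw [SimpleGraph.fromRel_adj]
      rintro ⟨-, h | h⟩
      · exact h1 h
      · exact h2 h

end Cfsg.Agent.S3265
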