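import Cfsg.Statements.S4479
-- import your own Cfsg.Agent.* helpers here
import Cfsg.Agent.Lib.Helper22.BrauerOrderFormula
import Cfsg.Agent.Lib.Helper22.FourSylow
import Cfsg.Agent.S0947

set_option autoImplicit false
set_option maxHeartbeats 1000000
open Cfsg

namespace Cfsg.Agent.S4479

open Cfsg.Agent.Lib.Helper21 Cfsg.Agent.Lib.Helper82 Cfsg.Agent.Lib.Helper83 Cfsg.Agent.Lib.Helper22

theorem final_algebra (g cJ cP a b d e₁ e₂ e₃ : ℂ) (hcJ0 : cJ ≠ 0) (hcP0 : cP ≠ 0)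
    (ha0 : a ≠ 0) (hb0 : b ≠ 0) (hd0 : d ≠ 0) (hs1 : e₁ ^ 2 = 1) (hs2 : e₂ ^ 2 = 1)
    (hs3 : e₃ ^ 2 = 1) (hD1 : a + e₁ ≠ 0) (hD2 : b + e₂ ≠ 0) (hD3 : d + e₃ ≠ 0)
    (horth : 1 + a * e₁ + b * e₂ + d * e₃ = 0)
    (hcol : g / cJ ^ 2 + g * e₁ ^ 3 / (cJ ^ 2 * a) + g * e₂ ^ 3 / (cJ ^ 2 * b) +
      g * e₃ ^ 3 / (cJ ^ 2 * d) = 4 / cJ * (2 * cJ ^ 2 / cP ^ 2)) :
    g = 8 * (a * b * d / ((a + e₁) * (b + e₂) * (d + e₃))) * cJ ^ 3 / cP ^ 2 := by
  have hc1 : e₁ ^ 3 = e₁ := by rw [pow_succ, hs1, one_mul]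
  have hc2 : e₂ ^ 3 = e₂ := by rw [pow_succ, hs2, one_mul]
  have hc3 : e₃ ^ 3 = e₃ := by rw [pow_succ, hs3, one_mul]
  rw [hc1, hc2, hc3] at hcol
  have hDeq : (a + e₁) * (b + e₂) * (d + e₃) =
      a * b * d + e₁ * b * d + e₂ * a * d + e₃ * a * b := by
    linear_combination (e₁ * e₂ * e₃) * horth - a * e₂ * e₃ * hs1 -
      b * e₁ * e₃ * hs2 - d * e₁ * e₂ * hs3
  have hE1 : g * (a * b * d + e₁ * b * d + e₂ * a * d + e₃ * a * b) =
      8 * cJ ^ 3 / cP ^ 2 * (a * b * d) := by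
    have h1 : g * (a * b * d + e₁ * b * d + e₂ * a * d + e₃ * a * b) =
        (g / cJ ^ 2 + g * e₁ / (cJ ^ 2 * a) + g * e₂ / (cJ ^ 2 * b) + g * e₃ / (cJ ^ 2 * d)) *
          (cJ ^ 2 * (a * b * d)) := by
      field_simp
    rw [h1, hcol]
    field_simp
    ring
  have hS0 : a * b * d + e₁ * b * d + e₂ * a * d + e₃ * a * b ≠ 0 := by
    rw [← hDeq]
    exact mul_ne_zero (mul_ne_zero hD1 hD2) hD3
  rw [hDeq]
  calc g = g * (a * b * d + e₁ * b * d + e₂ * a * d + e₃ * a * b) /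
          (a * b * d + e₁ * b * d + e₂ * a * d + e₃ * a * b) := by
        rw [mul_div_assoc, div_self hS0, mul_one]
    _ = 8 * (a * b * d / (a * b * d + e₁ * b * d + e₂ * a * d + e₃ * a * b)) *
          cJ ^ 3 / cP ^ 2 := by
        rw [hE1]; ring

/-- An order formula from the principal 2-block. Let G be a finite group of order 4·g₀ with g₀ odd having no normal 2-complement (no normal subgroup of order g₀); let P be a Sylow 2-subgroup, J an involution of P, and fix a maximal ideal M of the algebraic integers containing 2. Suppose the principal 2-block consists of the principal character and three further distinct characters χ₁, χ₂, χ₃ of degrees x₁, x₂, x₃, with χ_i(J) = ε_i = ±1. Then, writing c(J) and c(P) for the orders of the centralizers of J and of P, the order of G equals 8·α·c(J)³/c(P)² with α = x₁x₂x₃ / ((x₁ + ε₁)(x₂ + ε₂)(x₃ + ε₃)). -/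
theorem result {G : Type*} [Group G] [Finite G] (M : Ideal Cfsg.AlgInt) (hM : Cfsg.IsPModular 2 M) (g₀ : ℕ) (hg₀ : Odd g₀) (hG : Nat.card G = 4 * g₀) (hnc : ¬ ∃ N : Subgroup G, N.Normal ∧ Nat.card N = g₀) (P : Sylow 2 G) (J : G) (hJ : J ∈ (P : Subgroup G)) (hJ2 : orderOf J = 2) (χ₁ χ₂ χ₃ : Cfsg.IrrCharacter G) (ε₁ ε₂ ε₃ : ℤ) (hB : Cfsg.principalBlock M G = {χ : Cfsg.IrrCharacter G | (χ : G → ℂ) = (fun _ => 1) ∨ χ = χ₁ ∨ χ = χ₂ ∨ χ = χ₃}) (hdist : (χ₁ : G → ℂ) ≠ (fun _ => 1) ∧ (χ₂ : G → ℂ) ≠ (fun _ => 1) ∧ (χ₃ : G → ℂ) ≠ (fun _ => 1) ∧ χ₁ ≠ χ₂ ∧ χ₁ ≠ χ₃ ∧ χ₂ ≠ χ₃) (hε : (ε₁ = 1 ∨ ε₁ = -1) ∧ (ε₂ = 1 ∨ ε₂ = -1) ∧ (ε₃ = 1 ∨ ε₃ = -1)) (hval : (χ₁ : G → ℂ) J = ε₁ ∧ (χ₂ : G → ℂ) J = ε₂ ∧ (χ₃ : G → ℂ) J = ε₃) : (Nat.card G : ℚ) = 8 * (((Cfsg.charDegree (χ₁ : G → ℂ) : ℚ) * Cfsg.charDegree (χ₂ : G → ℂ) * Cfsg.charDegree (χ₃ : G → ℂ)) / ((Cfsg.charDegree (χ₁ : G → ℂ) + ε₁) * (Cfsg.charDegree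 (χ₂ : G → ℂ) + ε₂) * (Cfsg.charDegree (χ₃ : G → ℂ) + ε₃))) * (Nat.card (Subgroup.centralizer ({J} : Set G)) : ℚ) ^ 3 / (Nat.card (Subgroup.centralizer ((P : Subgroup G) : Set G)) : ℚ) ^ 2 := by
  classical
  have : Fact (Nat.Prime 2) := ⟨Nat.prime_two⟩
  let _ : Fintype G := Fintype.ofFinite G
  let _ : Fintype (IrrCharacter G) := Fintype.ofFinite _
  let _ : Fintype (Subgroup.centralizer ({J} : Set G)) := Fintype.ofFinite _
  have hMp : M.IsPrime := hM.2.1.isPrime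
  obtain ⟨hK, hone⟩ := four_sylow_no_complement g₀ hg₀ hG hnc P J hJ hJ2
  have hJ1 : J ≠ 1 := by
    intro h; rw [h, orderOf_one] at hJ2; norm_num at hJ2
  obtain ⟨hle, hidx, hfour⟩ := kleinFour_centralizer_facts P hK J hJ hJ1
  obtain ⟨hv1, hv2, hv3⟩ := hval
  obtain ⟨hε1, hε2, hε3⟩ := hε
  set e1 : IrrCharacter G := ⟨fun _ => 1, Cfsg.Agent.Lib.Helper05.isIrrCharacter_one⟩ with he1
  have hcJ0 : (Nat.card (Subgroup.centralizer ({J} : Set G)) : ℂ) ≠ 0 := by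
    exact_mod_cast Nat.card_pos.ne'
  have hcP0 : (Nat.card (Subgroup.centralizer ((P : Subgroup G) : Set G)) : ℂ) ≠ 0 := by
    exact_mod_cast Nat.card_pos.ne'
  -- the column formula
  have hcol := principal_column_formula 2 M hM J ⟨1, by rw [hJ2, pow_one]⟩ hidx
    (invConv (G := G)) isClassFunction_invConv
  have hF0 := classInner_invConv_mul J hJ2 hone e1 1
    (show (e1 : G → ℂ) J = ((1 : ℤ) : ℂ) by rw [Int.cast_one])
  have hF1 := classInner_invConv_mul J hJ2 hone χ₁ ε₁ hv1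
  have hF2 := classInner_invConv_mul J hJ2 hone χ₂ ε₂ hv2
  have hF3 := classInner_invConv_mul J hJ2 hone χ₃ ε₃ hv3
  have he11 : (e1 : G → ℂ) 1 = 1 := rfl
  have hF0' : classInner (invConv (G := G)) (e1 : G → ℂ) * (e1 : G → ℂ) J =
      (Nat.card G : ℂ) / (Nat.card (Subgroup.centralizer ({J} : Set G)) : ℂ) ^ 2 := by
    rw [hF0, he11, Int.cast_one, one_pow]
    simp only [mul_one]
  rw [sum_principal_four M χ₁ χ₂ χ₃ hB hdist
    (fun χ => classInner (invConv (G := G)) (χ : G → ℂ) * (χ : G → ℂ) J)] at hcol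
  change classInner (invConv (G := G)) (e1 : G → ℂ) * (e1 : G → ℂ) J +
    classInner (invConv (G := G)) (χ₁ : G → ℂ) * (χ₁ : G → ℂ) J +
    classInner (invConv (G := G)) (χ₂ : G → ℂ) * (χ₂ : G → ℂ) J +
    classInner (invConv (G := G)) (χ₃ : G → ℂ) * (χ₃ : G → ℂ) J = _ at hcol
  rw [hF0', hF1, hF2, hF3] at hcol
  have hcount := sum_invConv_centralizer P hK J hJ hJ2
  -- card of U
  have hU : (Nat.card (Cfsg.pPrimeCore 2 (Subgroup.centralizer ({J} : Set G))) : ℂ) * 4 =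
      (Nat.card (Subgroup.centralizer ({J} : Set G)) : ℂ) := by
    obtain ⟨k, hk⟩ := hidx
    have hk2 := Cfsg.Agent.S0947.factorization_card_of_index 2 k hk
    rw [hk2] at hfour
    have := Subgroup.card_mul_index (Cfsg.pPrimeCore 2 (Subgroup.centralizer ({J} : Set G)))
    rw [hk, hfour] at this
    rw [← this]; push_cast; ring
  have hU0 : (Nat.card (Cfsg.pPrimeCore 2 (Subgroup.centralizer ({J} : Set G))) : ℂ) ≠ 0 := by
    exact_mod_cast Nat.card_pos.ne'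
  have hN : (∑ k : Subgroup.centralizer ({J} : Set G),
        if k ∈ Cfsg.pPrimeCore 2 (Subgroup.centralizer ({J} : Set G)) then
          invConv (J * (k : G)) else 0) =
        2 * (Nat.card (Subgroup.centralizer ({J} : Set G)) : ℂ) ^ 2 /
          (Nat.card (Subgroup.centralizer ((P : Subgroup G) : Set G)) : ℂ) ^ 2 := by
    rw [eq_div_iff (pow_ne_zero 2 hcP0)]; exact hcount
  have hUinv : (Nat.card (Cfsg.pPrimeCore 2 (Subgroup.centralizer ({J} : Set G))) : ℂ)⁻¹ =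
      4 / (Nat.card (Subgroup.centralizer ({J} : Set G)) : ℂ) := by
    rw [← hU]; field_simp
  rw [hN, hUinv] at hcol
  -- orthogonality
  have hJJ : J * J = 1 := by rw [← pow_two, ← hJ2]; exact pow_orderOf_eq_one J
  have horth : 1 + (χ₁ : G → ℂ) 1 * (ε₁ : ℂ) + (χ₂ : G → ℂ) 1 * (ε₂ : ℂ) +
      (χ₃ : G → ℂ) 1 * (ε₃ : ℂ) = 0 := by
    have hx : IsPPart 2 (1 : G) 1 :=
      ⟨1, one_mul 1, Commute.one_left 1, ⟨0, by simp⟩, by rw [orderOf_one]; norm_num⟩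
    have hy : IsPPart 2 J⁻¹ J :=
      ⟨1, by rw [mul_one]; exact eq_inv_of_mul_eq_one_left hJJ, Commute.one_right J,
        ⟨1, by rw [hJ2, pow_one]⟩, by rw [orderOf_one]; norm_num⟩
    have hxy : ¬ IsConj (1 : G) J := fun h => hJ1 (isConj_one_right.1 h)
    have h0 := sum_block_mul_eq_zero_of_not_isConj hM e1 1 J 1 J hx hy hxy
    have h1 : blockOf M (e1 : G → ℂ) = principalBlock M G := rfl
    rw [h1, finsum_mem_eq_sum_ite, sum_principal_four M χ₁ χ₂ χ₃ hB hdist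
      (fun χ => (χ : G → ℂ) 1 * (χ : G → ℂ) J)] at h0
    change (e1 : G → ℂ) 1 * (e1 : G → ℂ) J + (χ₁ : G → ℂ) 1 * (χ₁ : G → ℂ) J +
      (χ₂ : G → ℂ) 1 * (χ₂ : G → ℂ) J + (χ₃ : G → ℂ) 1 * (χ₃ : G → ℂ) J = 0 at h0
    rw [hv1, hv2, hv3] at h0
    have h2 : (e1 : G → ℂ) 1 * (e1 : G → ℂ) J = 1 := by
      change (1 : ℂ) * 1 = 1
      rw [mul_one]
    rw [h2] at h0
    exact h0
  -- degrees
  have hordP : ∀ t ∈ (P : Subgroup G), t ≠ 1 → orderOf t = 2 := by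
    intro t ht ht1
    have := congrArg Subtype.val (IsKleinFour.mul_self (⟨t, ht⟩ : (P : Subgroup G)))
    exact orderOf_eq_prime (by rw [pow_two]; exact this) ht1
  have hvalP : ∀ (χ : IrrCharacter G) (t : G), t ∈ (P : Subgroup G) → t ≠ 1 →
      (χ : G → ℂ) t = (χ : G → ℂ) J := by
    intro χ t ht ht1
    obtain ⟨g, hg⟩ := isConj_iff.1 (hone t (hordP t ht ht1))
    rw [← hg]; exact isClassFunction_irr χ J g
  have hdeg1 := kleinFour_degree_congr P hK (IrrCharacter_isCharacter χ₁) ε₁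
    (fun t ht ht1 => by rw [hvalP χ₁ t ht ht1, hv1])
  have hdeg2 := kleinFour_degree_congr P hK (IrrCharacter_isCharacter χ₂) ε₂
    (fun t ht ht1 => by rw [hvalP χ₂ t ht ht1, hv2])
  have hdeg3 := kleinFour_degree_congr P hK (IrrCharacter_isCharacter χ₃) ε₃
    (fun t ht ht1 => by rw [hvalP χ₃ t ht ht1, hv3])
  rw [← charDegree_cast (IrrCharacter_isCharacter χ₁), ← charDegree_cast (IrrCharacter_isCharacter χ₂),
    ← charDegree_cast (IrrCharacter_isCharacter χ₃)] at hcol horth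
  set a : ℕ := charDegree (χ₁ : G → ℂ) with ha
  set b : ℕ := charDegree (χ₂ : G → ℂ) with hb
  set d : ℕ := charDegree (χ₃ : G → ℂ) with hd
  have ha0 : (a : ℂ) ≠ 0 := by
    have := irr_charDegree_pos χ₁
    exact_mod_cast this.ne'
  have hb0 : (b : ℂ) ≠ 0 := by
    have := irr_charDegree_pos χ₂
    exact_mod_cast this.ne'
  have hd0 : (d : ℂ) ≠ 0 := by
    have := irr_charDegree_pos χ₃
    exact_mod_cast this.ne'
  have hne : ∀ (x : ℕ) (ε : ℤ), (ε = 1 ∨ ε = -1) → (4 : ℤ) ∣ (x : ℤ) - ε → (x : ℂ) + (ε : ℂ) ≠ 0 := by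
    intro x ε hε hdvd h
    have h' : (x : ℤ) + ε = 0 := by exact_mod_cast h
    rcases hε with h1 | h1 <;> rw [h1] at hdvd h' <;> omega
  have hD1 := hne a ε₁ hε1 hdeg1
  have hD2 := hne b ε₂ hε2 hdeg2
  have hD3 := hne d ε₃ hε3 hdeg3
  have hs1 : (ε₁ : ℂ) ^ 2 = 1 := by rcases hε1 with h | h <;> rw [h] <;> norm_num
  have hs2 : (ε₂ : ℂ) ^ 2 = 1 := by rcases hε2 with h | h <;> rw [h] <;> norm_num
  have hs3 : (ε₃ : ℂ) ^ 2 = 1 := by rcases hε3 with h | h <;> rw [h] <;> norm_num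
  apply Rat.cast_injective (α := ℂ)
  push_cast
  exact final_algebra _ _ _ _ _ _ _ _ _ hcJ0 hcP0 ha0 hb0 hd0 hs1 hs2 hs3 hD1 hD2 hD3 horth hcol

end Cfsg.Agent.S4479
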