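import Cfsg.Statements.S3278
import Cfsg.Agent.S3279
import Cfsg.Agent.S0948
import Cfsg.Agent.S4479
import Cfsg.Agent.S3277
import Cfsg.Agent.Lib.Helper82.CharBasic
import Cfsg.Agent.Lib.Helper82.DefectZero
import Cfsg.Agent.Lib.Helper38.KleinCent
import Cfsg.Agent.Lib.Helper38.KleinArith
import Cfsg.Agent.Lib.Helper38.KleinSylow

set_option autoImplicit false
open Cfsg

namespace Cfsg.Agent.S3278

/-- Let G be a finite simple group with an involution x such that a Sylow 2-subgroup of C_G(x) is a Klein four-group which is normal in C_G(x). Then G is isomorphic to the alternating group of degree 5 (that is, to PSL(2, 5)). -/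
theorem result {G : Type*} [Group G] [Finite G] [IsSimpleGroup G] (x : G) (hx : orderOf x = 2)
    (S₀ : Subgroup G) (hle : S₀ ≤ Subgroup.centralizer ({x} : Set G)) (hK : IsKleinFour ↥S₀)
    (hodd : ¬ 2 ∣ S₀.relIndex (Subgroup.centralizer ({x} : Set G))) (hn : (S₀.subgroupOf (Subgroup.centralizer ({x} : Set G))).Normal) :
    Nonempty (G ≃* ↥(alternatingGroup (Fin 5))) := by
  classical
  have hf2 : Fact (Nat.Prime 2) := ⟨Nat.prime_two⟩
  have hx1 : x ≠ 1 := by
    intro h
    rw [h, orderOf_one] at hx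
    norm_num at hx
  have hx2 : x ^ 2 = 1 := by rw [← hx]; exact pow_orderOf_eq_one x
  have hxC : x ∈ Subgroup.centralizer ({x} : Set G) :=
    Subgroup.mem_centralizer_singleton_iff.mpr rfl
  have h2el : ∀ y ∈ Subgroup.centralizer ({x} : Set G), ∀ k : ℕ, y ^ (2 ^ k) = 1 → y ∈ S₀ :=
    fun y hy k hyk =>
      Cfsg.Agent.Lib.Helper38.mem_of_two_pow_of_normal_odd _ S₀ hn hodd y hy k hyk
  have hxS : x ∈ S₀ := h2el x hxC 1 (by simpa using hx2)
  have hS4 : Nat.card ↥S₀ = 4 := IsKleinFour.card_four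
  -- at most three involutions in the centralizer
  have hinvS : ∀ u : ↥(Subgroup.centralizer ({x} : Set G)), orderOf u = 2 → (u : G) ∈ S₀ := by
    intro u hu
    apply h2el _ u.2 1
    have := pow_orderOf_eq_one u
    rw [hu] at this
    have h := congrArg Subtype.val this
    simpa using h
  have h3 : Nat.card {u : ↥(Subgroup.centralizer ({x} : Set G)) // orderOf u = 2} ≤ 3 := by
    let f : Option {u : ↥(Subgroup.centralizer ({x} : Set G)) // orderOf u = 2} → ↥S₀ :=
      fun o => o.elim 1 (fun u => ⟨(u.1 : G), hinvS u.1 u.2⟩)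
    have hne1 : ∀ u : {u : ↥(Subgroup.centralizer ({x} : Set G)) // orderOf u = 2},
        (⟨(u.1 : G), hinvS u.1 u.2⟩ : ↥S₀) ≠ 1 := by
      intro u h0
      have h1 : ((u.1 : ↥(Subgroup.centralizer ({x} : Set G))) : G) = 1 := congrArg Subtype.val h0
      have h2 : u.1 = 1 := Subtype.ext h1
      have h3 := u.2
      rw [h2, orderOf_one] at h3
      norm_num at h3
    have hf : Function.Injective f := by
      intro a b hab
      rcases a with _ | u <;> rcases b with _ | v
      · rfl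
      · exact absurd hab.symm (hne1 v)
      · exact absurd hab (hne1 u)
      · have hab' : (⟨(u.1 : G), hinvS u.1 u.2⟩ : ↥S₀) = ⟨(v.1 : G), hinvS v.1 v.2⟩ := hab
        have h1 : ((u.1 : ↥(Subgroup.centralizer ({x} : Set G))) : G) =
            ((v.1 : ↥(Subgroup.centralizer ({x} : Set G))) : G) :=
          congrArg (fun s : ↥S₀ => (s : G)) hab'
        congr 1
        exact Subtype.ext (Subtype.ext h1)
    have := Nat.card_le_card_of_injective f hf
    rw [Finite.card_option, hS4] at this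
    omega
  obtain ⟨⟨P, hPC⟩, hone⟩ := Cfsg.Agent.S3279.result x hx h3
  have hPS : (P : Subgroup G) ≤ S₀ := by
    intro y hy
    obtain ⟨k, hk⟩ := P.isPGroup' ⟨y, hy⟩
    apply h2el y (hPC hy) k
    have := congrArg Subtype.val hk
    simpa using this
  have hS2 : IsPGroup 2 ↥S₀ := IsPGroup.of_card (n := 2) (by rw [hS4]; norm_num)
  have hPeq : S₀ = (P : Subgroup G) := P.is_maximal' hS2 hPS
  subst hPeq
  have hcent : Subgroup.centralizer (((P : Subgroup G)) : Set G) =
      Subgroup.centralizer ({x} : Set G) := by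
    apply le_antisymm
    · intro c hc
      rw [Subgroup.mem_centralizer_singleton_iff]
      exact (Subgroup.mem_centralizer_iff.mp hc x hxS).symm
    · intro c hc
      rw [Subgroup.mem_centralizer_iff]
      intro s hs
      exact (Cfsg.Agent.Lib.Helper38.centralizer_centralizes_klein x hx1 _ hK hxS hle hn hodd
        c hc s hs).symm
  have hPC' : (P : Subgroup G) ≤ Subgroup.centralizer ((P : Subgroup G) : Set G) := by
    rw [hcent]; exact hle
  -- the principal 2-block
  obtain ⟨M, hM⟩ := Cfsg.Agent.Lib.Helper82.exists_isPModular 2 Nat.prime_two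
  obtain ⟨ζ₂, ζ₃, ζ₄, ε, hε, hζ₂1, hζ₃1, h23, h24, h34, hB, hvals, hd2, hd3, hd4, hsum⟩ :=
    Cfsg.Agent.S0948.result M hM P hK hone
  obtain ⟨hv2, hv3, hv4⟩ := hvals x hx
  have hζ₄1 : (ζ₄ : G → ℂ) ≠ (fun _ => 1) := by
    intro h0
    have := congrFun h0 x
    rw [hv4] at this
    norm_num at this
  have hcardP := Subgroup.card_mul_index (P : Subgroup G)
  rw [hS4] at hcardP
  have hPodd : ¬ 2 ∣ (P : Subgroup G).index := Sylow.not_dvd_index P
  have hg₀ : Odd (P : Subgroup G).index := by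
    rcases Nat.even_or_odd (P : Subgroup G).index with h | h
    · exact absurd (even_iff_two_dvd.mp h) hPodd
    · exact h
  have hG4 : Nat.card G ≠ 4 := fun h =>
    Cfsg.Agent.Lib.Helper38.not_simple_of_card_four h
  have hnc : ¬ ∃ N : Subgroup G, N.Normal ∧ Nat.card N = (P : Subgroup G).index := by
    rintro ⟨N, hNn, hNc⟩
    rcases hNn.eq_bot_or_eq_top with h | h
    · rw [h, Subgroup.card_bot] at hNc
      rw [← hNc, mul_one] at hcardP
      exact hG4 hcardP.symm
    · rw [h, Subgroup.card_top] at hNc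
      obtain ⟨j, hj⟩ := hg₀
      omega
  have hform := Cfsg.Agent.S4479.result M hM (P : Subgroup G).index hg₀ hcardP.symm hnc P x hxS hx
    ζ₂ ζ₃ ζ₄ 1 ε (-1) hB ⟨hζ₂1, hζ₃1, hζ₄1, h23, h24, h34⟩ ⟨Or.inl rfl, hε, Or.inr rfl⟩
    ⟨by rw [hv2]; norm_num, hv3, by rw [hv4]; norm_num⟩
  rw [hcent] at hform
  -- the degree relation
  have hc2 := Cfsg.Agent.Lib.Helper82.IsCharacter.charDegree_cast
    (Cfsg.Agent.Lib.Helper82.IsIrrCharacter.isCharacter ζ₂.2)
  have hc3 := Cfsg.Agent.Lib.Helper82.IsCharacter.charDegree_cast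
    (Cfsg.Agent.Lib.Helper82.IsIrrCharacter.isCharacter ζ₃.2)
  have hc4 := Cfsg.Agent.Lib.Helper82.IsCharacter.charDegree_cast
    (Cfsg.Agent.Lib.Helper82.IsIrrCharacter.isCharacter ζ₄.2)
  have hrel : (1 : ℤ) + (Cfsg.charDegree (ζ₂ : G → ℂ) : ℕ) + ε * (Cfsg.charDegree (ζ₃ : G → ℂ) : ℕ) -
      (Cfsg.charDegree (ζ₄ : G → ℂ) : ℕ) = 0 := by
    have h1 := hsum 1 (by rw [orderOf_one]; exact odd_one)
    rw [← hc2, ← hc3, ← hc4] at h1
    exact_mod_cast h1
  have hcardC := Subgroup.card_mul_index (Subgroup.centralizer ({x} : Set G))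
  have hidx : (Subgroup.centralizer ({x} : Set G)).index ≤ 15 :=
    Cfsg.Agent.Lib.Helper38.klein_index_le_fifteen (Nat.card G)
      (Subgroup.centralizer ({x} : Set G)).index (Nat.card ↥(Subgroup.centralizer ({x} : Set G)))
      (Cfsg.charDegree (ζ₂ : G → ℂ)) (Cfsg.charDegree (ζ₃ : G → ℂ)) (Cfsg.charDegree (ζ₄ : G → ℂ))
      1 ε (-1) rfl hε rfl
      (Cfsg.Agent.Lib.Helper82.IsIrrCharacter.charDegree_pos ζ₂.2)
      (Cfsg.Agent.Lib.Helper82.IsIrrCharacter.charDegree_pos ζ₃.2)
      (Cfsg.Agent.Lib.Helper82.IsIrrCharacter.charDegree_pos ζ₄.2)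
      Nat.card_pos (by rw [mul_comm]; exact hcardC.symm) hrel hd3 hd4 hform
  have hC4' := Cfsg.Agent.Lib.Helper38.card_centralizer_sylow_eq_four P hS4 hPC'
    (by rw [hcent]; exact hidx)
  rw [hcent] at hC4'
  have hPCeq : (P : Subgroup G) = Subgroup.centralizer ({x} : Set G) :=
    Subgroup.eq_of_le_of_card_ge hle (by rw [hC4', hS4])
  have hCe : ∀ c ∈ Subgroup.centralizer ({x} : Set G), c ^ 2 = 1 := by
    intro c hc
    rw [← hPCeq] at hc
    have := IsKleinFour.mul_self (⟨c, hc⟩ : ↥(P : Subgroup G))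
    rw [pow_two]
    exact congrArg Subtype.val this
  have h4G : 4 ∣ Nat.card G := ⟨_, hcardP.symm⟩
  have hncomp : ¬ Cfsg.HasNormalPComplement 2 G := by
    rintro ⟨P', N, hNn, hcomp⟩
    have hmul := hcomp.card_mul_card
    have hP'4 : Nat.card ↥(P' : Subgroup G) = 4 := by
      rw [Sylow.card_eq_multiplicity P', ← Sylow.card_eq_multiplicity P, hS4]
    rw [hP'4] at hmul
    rcases hNn.eq_bot_or_eq_top with h | h
    · rw [h, Subgroup.card_bot, one_mul] at hmul
      exact hG4 hmul.symm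
    · rw [h, Subgroup.card_top] at hmul
      have hpos : 0 < Nat.card G := Nat.card_pos
      omega
  have hne : ∀ E : Subgroup G, E.Normal → Cfsg.IsElementaryAbelian 2 E →
      Nat.card ↥E ≠ 2 ∧ Nat.card ↥E ≠ 4 := by
    intro E hEn _
    rcases hEn.eq_bot_or_eq_top with h | h
    · rw [h, Subgroup.card_bot]
      exact ⟨by norm_num, by norm_num⟩
    · rw [h, Subgroup.card_top]
      refine ⟨?_, hG4⟩
      intro h2
      rw [h2] at h4G
      norm_num at h4G
  exact Cfsg.Agent.S3277.result x hx hC4' hCe hncomp hne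

end Cfsg.Agent.S3278
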