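import Cfsg.Statements.S3294
import Cfsg.Agent.Lib.Helper61.SolvableCore
import Cfsg.Agent.Lib.Helper61.QuatAut

set_option autoImplicit false
open Cfsg

namespace Cfsg.Agent.S3294

open Cfsg.Agent.Lib.Helper61

/-- A finite solvable group whose Sylow 2-subgroups are generalized quaternion of order at least 32 has a normal 2-complement. -/
theorem result {G : Type*} [Group G] [Finite G] (hsol : Group.IsSolvable G) (T : Sylow 2 G) (n : ℕ) (hn : 3 ≤ n) (hT : Nonempty ((T : Subgroup G) ≃* QuaternionGroup (2 ^ n))) : Cfsg.HasNormalPComplement 2 G := by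
  obtain ⟨e⟩ := hT
  have hp2 : Fact (Nat.Prime 2) := ⟨Nat.prime_two⟩
  have hOodd : (Nat.card ↥(pPrimeCore 2 G)).Coprime 2 := card_pPrimeCore_coprime 2 G
  let ρ : QuaternionGroup (2 ^ n) →* G ⧸ pPrimeCore 2 G :=
    (QuotientGroup.mk' (pPrimeCore 2 G)).comp ((T : Subgroup G).subtype.comp e.symm.toMonoidHom)
  have hρapp : ∀ q, ρ q = QuotientGroup.mk' (pPrimeCore 2 G) ((e.symm q : ↥(T : Subgroup G)) : G) :=
    fun q => rfl
  have hρ : Function.Injective ρ := by
    rw [injective_iff_map_eq_one]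
    intro q hq
    have h1 : ((e.symm q : ↥(T : Subgroup G)) : G) ∈ pPrimeCore 2 G := by
      rw [hρapp, QuotientGroup.mk'_apply, QuotientGroup.eq_one_iff] at hq
      exact hq
    have h2 : orderOf ((e.symm q : ↥(T : Subgroup G)) : G) ∣ Nat.card ↥(pPrimeCore 2 G) := by
      have := orderOf_dvd_natCard (⟨_, h1⟩ : ↥(pPrimeCore 2 G))
      rwa [Subgroup.orderOf_mk] at this
    obtain ⟨s, hs⟩ := T.isPGroup' (e.symm q)
    have h3 : orderOf ((e.symm q : ↥(T : Subgroup G)) : G) ∣ 2 ^ s :=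
      orderOf_dvd_of_pow_eq_one (by simpa using congrArg Subtype.val hs)
    have h4 : orderOf ((e.symm q : ↥(T : Subgroup G)) : G) = 1 :=
      Nat.eq_one_of_dvd_coprimes (Nat.Coprime.pow_right s hOodd) h2 h3
    have h5 : ((e.symm q : ↥(T : Subgroup G)) : G) = 1 := orderOf_eq_one_iff.mp h4
    have h6 : e.symm q = 1 := Subtype.ext h5
    have h7 := congrArg e h6
    simpa using h7
  have hrange : ρ.range = (T : Subgroup G).map (QuotientGroup.mk' (pPrimeCore 2 G)) := by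
    ext x
    constructor
    · rintro ⟨q, rfl⟩
      exact ⟨_, (e.symm q).2, rfl⟩
    · rintro ⟨t, ht, rfl⟩
      refine ⟨e ⟨t, ht⟩, ?_⟩
      rw [hρapp, MulEquiv.symm_apply_apply]
  have hs' : Group.IsSolvable (G ⧸ pPrimeCore 2 G) :=
    Group.isSolvable_of_surjective (QuotientGroup.mk'_surjective (pPrimeCore 2 G))
  have hO' : pPrimeCore 2 (G ⧸ pPrimeCore 2 G) = ⊥ := pPrimeCore_quotient_eq_bot 2 G
  have hcent := centralizer_pCore_le 2 hs' hO'
  let Tbar : Sylow 2 (G ⧸ pPrimeCore 2 G) :=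
    T.mapSurjective (QuotientGroup.mk'_surjective (pPrimeCore 2 G))
  have hRT : pCore 2 (G ⧸ pPrimeCore 2 G) ≤ ρ.range := by
    rw [hrange]
    have := pCore_le_sylow Tbar
    rwa [Sylow.coe_mapSurjective] at this
  have hRnorm : (pCore 2 (G ⧸ pPrimeCore 2 G)).Normal := Cfsg.pCore_normal 2 _
  have hodd : ∀ g : G ⧸ pPrimeCore 2 G, ∀ k, Odd k → g ^ k = 1 → g = 1 := by
    intro g k hk hgk
    have hc := conj_eq_of_quaternion n hn ρ hρ (pCore 2 (G ⧸ pPrimeCore 2 G)) hRT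
      (fun t _ r hr => hRnorm.conj_mem r hr t) g (fun r hr => hRnorm.conj_mem r hr g) k hk hgk
    have hgC : g ∈ Subgroup.centralizer (pCore 2 (G ⧸ pPrimeCore 2 G) : Set (G ⧸ pPrimeCore 2 G)) := by
      rw [Subgroup.mem_centralizer_iff]
      intro r hr
      have := hc r hr
      calc r * g = (g * r * g⁻¹) * g := by rw [this]
        _ = g * r := by group
    have hgR : g ∈ pCore 2 (G ⧸ pPrimeCore 2 G) := hcent hgC
    obtain ⟨s, hs⟩ := pCore_isPGroup 2 (G ⧸ pPrimeCore 2 G) ⟨g, hgR⟩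
    have hs2 : g ^ (2 ^ s) = 1 := by simpa using congrArg Subtype.val hs
    have : orderOf g = 1 :=
      Nat.eq_one_of_dvd_coprimes (Nat.Coprime.pow_right s (Nat.coprime_two_right.mpr hk))
        (orderOf_dvd_of_pow_eq_one hgk) (orderOf_dvd_of_pow_eq_one hs2)
    exact orderOf_eq_one_iff.mp this
  have h2grp : IsPGroup 2 (G ⧸ pPrimeCore 2 G) := by
    intro g
    obtain ⟨s, m, hm, hsm⟩ := Nat.exists_eq_two_pow_mul_odd (orderOf_pos g).ne'
    refine ⟨s, ?_⟩
    apply hodd _ m hm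
    rw [← pow_mul, ← hsm, pow_orderOf_eq_one]
  have hTtop : (Tbar : Subgroup (G ⧸ pPrimeCore 2 G)) = ⊤ := by
    have h2 : IsPGroup 2 ↥(⊤ : Subgroup (G ⧸ pPrimeCore 2 G)) := by
      intro g
      obtain ⟨k, hk⟩ := h2grp g.1
      exact ⟨k, Subtype.ext hk⟩
    exact (Tbar.3 h2 le_top).symm
  have hcardT : Nat.card ↥(T : Subgroup G) = Nat.card (G ⧸ pPrimeCore 2 G) := by
    calc Nat.card ↥(T : Subgroup G) = Nat.card (QuaternionGroup (2 ^ n)) := Nat.card_congr e.toEquiv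
      _ = Nat.card ↥ρ.range := Nat.card_congr (MonoidHom.ofInjective hρ).toEquiv
      _ = Nat.card ↥((T : Subgroup G).map (QuotientGroup.mk' (pPrimeCore 2 G))) := by rw [hrange]
      _ = Nat.card ↥(⊤ : Subgroup (G ⧸ pPrimeCore 2 G)) := by
        rw [← hTtop, Sylow.coe_mapSurjective]
      _ = Nat.card (G ⧸ pPrimeCore 2 G) := Subgroup.card_top
  refine ⟨T, pPrimeCore 2 G, Cfsg.pPrimeCore_normal 2 G, ?_⟩
  apply Subgroup.isComplement'_of_coprime
  · rw [hcardT, mul_comm]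
    exact (Subgroup.card_eq_card_quotient_mul_card_subgroup _).symm
  · obtain ⟨s, hs⟩ := IsPGroup.iff_card.mp T.isPGroup'
    rw [hs]
    exact Nat.Coprime.pow_right s hOodd

end Cfsg.Agent.S3294
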