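import Cfsg.Statements.S3299
import Cfsg.Agent.Lib.Helper38.LargeExtraIndexTwo

set_option autoImplicit false
open Cfsg

namespace Cfsg.Agent.S3299

/-- Let G be a finite group with no nontrivial 2-group quotient (O^2(G) = G), z an involution of G with H = C_G(z), and suppose E = O_2(H) is extraspecial with C_G(E) ≤ E and of order 2^(2n+1) with n ≥ 2. Then E is contained in every normal subgroup of H of index 2. -/
theorem result {G : Type*} [Group G] [Finite G] (hres : Cfsg.pResidual 2 G = ⊤) (z : G) (hz : orderOf z = 2)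
    (E : Subgroup G) (hE : E = (Cfsg.pCore 2 ↥(Subgroup.centralizer ({z} : Set G))).map (Subgroup.centralizer ({z} : Set G)).subtype)
    (hext : Cfsg.IsExtraspecial 2 ↥E) (hcent : Subgroup.centralizer (E : Set G) ≤ E) (n : ℕ) (hn : 2 ≤ n) (hcard : Nat.card ↥E = 2 ^ (2 * n + 1))
    (K : Subgroup G) (hKH : K ≤ Subgroup.centralizer ({z} : Set G))
    (hKn : ∀ h ∈ Subgroup.centralizer ({z} : Set G), K.map (MulAut.conj h).toMonoidHom = K)
    (hKi : K.relIndex (Subgroup.centralizer ({z} : Set G)) = 2) : E ≤ K := by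
  classical
  have hz1 : z ≠ 1 := by
    intro h0
    rw [h0, orderOf_one] at hz
    omega
  have hEH : E ≤ Subgroup.centralizer ({z} : Set G) := by
    rw [hE]; exact Subgroup.map_subtype_le _
  have hzc : ∀ q ∈ E, q * z = z * q := fun q hq =>
    Subgroup.mem_centralizer_singleton_iff.mp (hEH hq)
  have hzE : z ∈ E := by
    apply hcent
    rw [Subgroup.mem_centralizer_iff]
    intro q hq
    exact hzc q hq
  have hEL := Cfsg.Agent.Lib.Helper38.ExtraLike.of_isExtraspecial E z hext hzE hzc hz1
  haveI : (Cfsg.pCore 2 ↥(Subgroup.centralizer ({z} : Set G))).Normal :=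
    Cfsg.Agent.Lib.Helper55.pCore_normal
  have hN : Subgroup.centralizer ({z} : Set G) ≤ Subgroup.normalizer (E : Set G) := by
    rw [hE]
    exact Cfsg.Agent.Lib.Helper38.le_normalizer_map_subtype38 _ _
  have hbig : 8 < Nat.card ↥E := by
    rw [hcard]
    calc 8 < 2 ^ 5 := by norm_num
      _ ≤ 2 ^ (2 * n + 1) := Nat.pow_le_pow_right (by norm_num) (by omega)
  exact Cfsg.Agent.Lib.Helper38.large_extraspecial_le_of_relIndex_two hEL hbig hcent hN K hKi
    (Cfsg.Agent.Lib.Helper38.hom_units_eq_one_of_pResidual hres)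

end Cfsg.Agent.S3299
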