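import Cfsg.Statements.S3304
import Cfsg.Agent.Lib.Helper12.S3304Core
import Cfsg.Agent.Lib.Helper01.PPrimeCore
import Cfsg.Agent.Lib.Helper57.SL2Aut
import Cfsg.Agent.Lib.Helper15.Lifting
import Cfsg.Agent.Lib.Helper40.Sylow

set_option autoImplicit false
set_option linter.style.haveILetI false
open Cfsg

namespace Cfsg.Agent.S3304

open scoped Pointwise

/-- membership in a conjugate Sylow subgroup -/
theorem mem_inv_smul {G : Type*} [Group G] (P : Sylow 2 G) (h x : G) :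
    x ∈ ((h⁻¹ • P : Sylow 2 G) : Subgroup G) ↔ h * x * h⁻¹ ∈ (P : Subgroup G) := by
  rw [Sylow.coe_subgroup_smul, Subgroup.mem_pointwise_smul_iff_inv_smul_mem]
  simp [MulAut.smul_def]

/-- the hypothesis on Sylow intersections passes to `G / O(G)` -/
theorem transfer {G : Type*} [Group G] [Finite G]
    (hI : ∀ S T : Sylow 2 G, S ≠ T → Cfsg.PRankLE 2 1 ↥((S : Subgroup G) ⊓ (T : Subgroup G)))
    (S T : Sylow 2 (G ⧸ Cfsg.oddCore G)) (hST : S ≠ T) :
    Cfsg.PRankLE 2 1 ↥((S : Subgroup (G ⧸ Cfsg.oddCore G)) ⊓ (T : Subgroup (G ⧸ Cfsg.oddCore G))) := by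
  haveI : Fact (Nat.Prime 2) := ⟨Nat.prime_two⟩
  have hπs : Function.Surjective (QuotientGroup.mk' (Cfsg.oddCore G)) :=
    QuotientGroup.mk'_surjective _
  have hOc : (Nat.card (Cfsg.oddCore G)).Coprime 2 :=
    Cfsg.Agent.Lib.Helper01.pPrimeCore_card_coprime 2
  intro Ab hAc hAe
  set π := QuotientGroup.mk' (Cfsg.oddCore G) with hπ
  set A₁ : Subgroup (G ⧸ Cfsg.oddCore G) := Ab.map (Subgroup.subtype _) with hA₁
  have hA₁S : A₁ ≤ S := by
    rintro _ ⟨a, -, rfl⟩; exact a.2.1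
  have hA₁T : A₁ ≤ T := by
    rintro _ ⟨a, -, rfl⟩; exact a.2.2
  have hA₁e : ∀ y ∈ A₁, y ^ 2 = 1 := by
    rintro _ ⟨a, ha, rfl⟩
    rw [← map_pow, hAe a ha, map_one]
  have hA₁c : ∀ y ∈ A₁, ∀ y' ∈ A₁, y * y' = y' * y := by
    rintro _ ⟨a, ha, rfl⟩ _ ⟨b, hb, rfl⟩
    have h1 := hAc.is_comm.comm ⟨a, ha⟩ ⟨b, hb⟩
    have h2 := congrArg Subtype.val h1
    simp only [Subgroup.coe_mul] at h2
    rw [← map_mul, ← map_mul, h2]
  have hA₁p : IsPGroup 2 A₁ := by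
    rintro ⟨y, hy⟩
    refine ⟨1, Subtype.ext ?_⟩
    simpa using hA₁e y hy
  obtain ⟨A, hA2, hAmap, -⟩ :=
    Cfsg.Agent.Lib.Helper57.GT.exists_lift_pSubgroup π hπs A₁ hA₁p
  have hAO : A ⊓ Cfsg.oddCore G = ⊥ := Cfsg.Agent.Lib.Helper15.isPGroup_inf_coprime_eq_bot hA2 hOc
  have hπA : ∀ a ∈ A, π a ∈ A₁ := by
    intro a ha; rw [← hAmap]; exact Subgroup.mem_map_of_mem π ha
  have hinj : ∀ a ∈ A, ∀ b ∈ A, π a = π b → a = b := by
    intro a ha b hb h
    have h1 : a⁻¹ * b ∈ A ⊓ Cfsg.oddCore G :=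
      ⟨A.mul_mem (A.inv_mem ha) hb, QuotientGroup.eq.mp h⟩
    rw [hAO, Subgroup.mem_bot] at h1
    exact inv_mul_eq_one.mp h1
  have hAcomm : ∀ a ∈ A, ∀ b ∈ A, a * b = b * a := by
    intro a ha b hb
    apply hinj _ (A.mul_mem ha hb) _ (A.mul_mem hb ha)
    rw [map_mul, map_mul]
    exact hA₁c _ (hπA a ha) _ (hπA b hb)
  have hAexp : ∀ a ∈ A, a ^ 2 = 1 := by
    intro a ha
    apply hinj _ (A.pow_mem ha 2) _ A.one_mem
    rw [map_pow, map_one]
    exact hA₁e _ (hπA a ha)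
  have hcard : Nat.card A = Nat.card Ab := by
    have h1 : Nat.card A₁ = Nat.card Ab :=
      Subgroup.card_map_of_injective (Subgroup.subtype_injective _)
    rw [← h1]
    apply Nat.card_congr
    refine Equiv.ofBijective (fun a : A => (⟨π a, hπA a a.2⟩ : A₁)) ⟨?_, ?_⟩
    · intro a b h
      exact Subtype.ext (hinj a a.2 b b.2 (congrArg Subtype.val h))
    · rintro ⟨y, hy⟩
      rw [← hAmap] at hy
      obtain ⟨a, ha, rfl⟩ := hy
      exact ⟨⟨a, ha⟩, rfl⟩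
  -- Sylow subgroups of `G` above `S`, `T`
  obtain ⟨S₀, hS₀⟩ := Sylow.mapSurjective_surjective hπs 2 S
  obtain ⟨T₀, hT₀⟩ := Sylow.mapSurjective_surjective hπs 2 T
  have hS₀map : ((S₀ : Subgroup G).map π) = S := by rw [← hS₀]; rfl
  have hT₀map : ((T₀ : Subgroup G).map π) = T := by rw [← hT₀]; rfl
  have key : ∀ (R : Sylow 2 (G ⧸ Cfsg.oddCore G)) (R₀ : Sylow 2 G),
      (R₀ : Subgroup G).map π = R → A₁ ≤ R →
      ∃ h : G, π h ∈ R ∧ ∀ r ∈ A, h * r * h⁻¹ ∈ (R₀ : Subgroup G) := by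
    intro R R₀ hR₀ hA₁R
    have h1 : (R₀ : Subgroup G) ≤ (R : Subgroup (G ⧸ Cfsg.oddCore G)).comap π := by
      intro x hx
      rw [Subgroup.mem_comap, ← hR₀]
      exact Subgroup.mem_map_of_mem π hx
    have h2 : A ≤ (R : Subgroup (G ⧸ Cfsg.oddCore G)).comap π := by
      intro a ha
      exact hA₁R (hπA a ha)
    obtain ⟨h, hh, hhA⟩ := Cfsg.Agent.Lib.Helper40.exists_conj_le_sylow_of_le _ R₀ h1 A hA2 h2
    exact ⟨h, hh, hhA⟩
  obtain ⟨h, hhS, hhA⟩ := key S S₀ hS₀map hA₁S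
  obtain ⟨k, hkT, hkA⟩ := key T T₀ hT₀map hA₁T
  have hne : (h⁻¹ • S₀ : Sylow 2 G) ≠ k⁻¹ • T₀ := by
    intro heq
    apply hST
    have hle : (S : Subgroup (G ⧸ Cfsg.oddCore G)) ≤ T := by
      intro y hy
      have hy' : π h * y * (π h)⁻¹ ∈ (S : Subgroup (G ⧸ Cfsg.oddCore G)) :=
        Subgroup.mul_mem _ (Subgroup.mul_mem _ hhS hy) (Subgroup.inv_mem _ hhS)
      rw [← hS₀map] at hy'
      obtain ⟨x, hx, hxe⟩ := hy'
      have h1 : h⁻¹ * x * h ∈ ((h⁻¹ • S₀ : Sylow 2 G) : Subgroup G) := by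
        rw [mem_inv_smul]
        have : h * (h⁻¹ * x * h) * h⁻¹ = x := by group
        rw [this]; exact hx
      rw [heq, mem_inv_smul] at h1
      have h2 : π (k * (h⁻¹ * x * h) * k⁻¹) ∈ (T : Subgroup (G ⧸ Cfsg.oddCore G)) := by
        rw [← hT₀map]; exact Subgroup.mem_map_of_mem π h1
      have h3 : π (h⁻¹ * x * h) = y := by
        rw [map_mul, map_mul, hxe, map_inv]; group
      rw [map_mul, map_mul, h3, map_inv] at h2
      have h4 : y = (π k)⁻¹ * (π k * y * (π k)⁻¹) * π k := by group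
      rw [h4]
      exact Subgroup.mul_mem _ (Subgroup.mul_mem _ (Subgroup.inv_mem _ hkT) h2) hkT
    have := S.is_maximal' T.isPGroup' hle
    exact Sylow.ext this.symm
  have hAle : A ≤ ((h⁻¹ • S₀ : Sylow 2 G) : Subgroup G) ⊓ ((k⁻¹ • T₀ : Sylow 2 G) : Subgroup G) := by
    intro a ha
    exact ⟨(mem_inv_smul S₀ h a).mpr (hhA a ha), (mem_inv_smul T₀ k a).mpr (hkA a ha)⟩
  have hfin := hI _ _ hne (A.subgroupOf _) ?_ ?_
  · rw [Nat.card_congr (Subgroup.subgroupOfEquivOfLe hAle).toEquiv, hcard] at hfin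
    exact hfin
  · refine ⟨⟨?_⟩⟩
    rintro ⟨a, ha⟩ ⟨b, hb⟩
    apply Subtype.ext
    apply Subtype.ext
    simp only [Subgroup.coe_mul]
    exact hAcomm _ (Subgroup.mem_subgroupOf.mp ha) _ (Subgroup.mem_subgroupOf.mp hb)
  · intro a ha
    apply Subtype.ext
    simp only [Subgroup.coe_pow, Subgroup.coe_one]
    exact hAexp _ (Subgroup.mem_subgroupOf.mp ha)

/-- Let G be a finite solvable group in which the intersection of any two distinct Sylow 2-subgroups has 2-rank at most 1 (contains no Klein four-group). Write Q = G/O(G), O(G) the largest normal subgroup of odd order. Then Q has a normal Sylow 2-subgroup; or Q is isomorphic to GL(2,3); or Q has order 48, centre of order 2 with central quotient isomorphic to the symmetric group of degree 4, and generalized quaternion Sylow 2-subgroups of order 16 (the binary octahedral group). The last two are the two representation groups of the symmetric group of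 degree 4. -/
theorem result {G : Type*} [Group G] [Finite G] (hs : Group.IsSolvable G)
    (hI : ∀ S T : Sylow 2 G, S ≠ T → Cfsg.PRankLE 2 1 ↥((S : Subgroup G) ⊓ (T : Subgroup G))) :
    (∃ P : Sylow 2 (G ⧸ Cfsg.oddCore G), (P : Subgroup (G ⧸ Cfsg.oddCore G)).Normal) ∨
    Nonempty ((G ⧸ Cfsg.oddCore G) ≃* GL (Fin 2) (ZMod 3)) ∨
    (Nat.card (G ⧸ Cfsg.oddCore G) = 48 ∧ Nat.card ↥(Subgroup.center (G ⧸ Cfsg.oddCore G)) = 2 ∧
      Nonempty ((G ⧸ Cfsg.oddCore G) ⧸ Subgroup.center (G ⧸ Cfsg.oddCore G) ≃* Equiv.Perm (Fin 4)) ∧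
      ∀ P : Sylow 2 (G ⧸ Cfsg.oddCore G), Nonempty (↥(P : Subgroup (G ⧸ Cfsg.oddCore G)) ≃* QuaternionGroup 4)) := by
  haveI := hs
  have hsq : Group.IsSolvable (G ⧸ Cfsg.oddCore G) := inferInstance
  have hO : Cfsg.pPrimeCore 2 (G ⧸ Cfsg.oddCore G) = ⊥ :=
    Cfsg.Agent.Lib.Helper01.pPrimeCore_quotient_eq_bot 2
  exact Cfsg.Agent.Lib.Helper12.S3304Core.core hsq hO (transfer hI)

end Cfsg.Agent.S3304
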