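import Cfsg.Statements.S3349
import Mathlib

set_option autoImplicit false
open Cfsg
open scoped commutatorElement

namespace Cfsg.Agent.S3349

theorem centralizer_le_of_max {Q : Type*} [Group Q] (A : Subgroup Q) (hA : IsMulCommutative A)
    (hmax : ∀ B : Subgroup Q, A ≤ B → IsMulCommutative B → B = A) :
    Subgroup.centralizer (A : Set Q) ≤ A := by
  intro x hx
  have hcomm : IsMulCommutative (Subgroup.closure (insert x (A : Set Q))) := by
    apply Subgroup.isMulCommutative_closure
    intro a ha b hb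
    rcases ha with rfl | ha <;> rcases hb with rfl | hb
    · rfl
    · exact (hx b hb).symm
    · exact (hx a ha)
    · exact setLike_mul_comm ha hb
  have hle : A ≤ Subgroup.closure (insert x (A : Set Q)) := fun a ha =>
    Subgroup.subset_closure (Set.mem_insert_of_mem _ ha)
  have := hmax _ hle hcomm
  rw [← this]
  exact Subgroup.subset_closure (Set.mem_insert _ _)

theorem result {Q : Type*} [Group Q] [Finite Q]
    (p : ℕ) [Fact p.Prime] (hQ : Cfsg.IsExtraspecial p Q) (α : MulAut Q)
    (A : Subgroup Q) (hA : IsMulCommutative A) (hmax : ∀ B : Subgroup Q, A ≤ B → IsMulCommutative B → B = A)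
    (hfix : ∀ a ∈ A, α a = a) :
    ∃ k : ℕ, orderOf α = p ^ k := by
  have hp : p.Prime := Fact.out
  have hPG : IsPGroup p Q := hQ.1.1
  have hcomm : commutator Q = Subgroup.center Q := hQ.1.2.2
  have hCA : Subgroup.centralizer (A : Set Q) ≤ A := centralizer_le_of_max A hA hmax
  have hZA : Subgroup.center Q ≤ A := fun z hz =>
    hCA (Subgroup.center_le_centralizer _ hz)
  -- A is normal
  have hnorm : ∀ x : Q, ∀ a ∈ A, x⁻¹ * a * x ∈ A := by
    intro x a ha
    have h1 : ⁅x⁻¹, a⁆ ∈ commutator Q := by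
      rw [commutator_def]
      exact Subgroup.commutator_mem_commutator (Subgroup.mem_top _) (Subgroup.mem_top _)
    rw [hcomm] at h1
    have h2 : ⁅x⁻¹, a⁆ * a ∈ A := A.mul_mem (hZA h1) ha
    have h3 : ⁅x⁻¹, a⁆ * a = x⁻¹ * a * x := by
      simp [commutatorElement_def]
    rwa [h3] at h2
  -- α x * x⁻¹ ∈ A
  have hc : ∀ x : Q, α x * x⁻¹ ∈ A := by
    intro x
    apply hCA
    intro a ha
    have hb := hfix _ (hnorm x a ha)
    simp only [map_mul, map_inv, hfix a ha] at hb
    -- hb : (α x)⁻¹ * a * α x = x⁻¹ * a * x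
    have : a * α x * x⁻¹ = α x * x⁻¹ * a := by
      have h4 : a * α x = α x * (x⁻¹ * a * x) := by
        rw [← hb]; group
      rw [h4]; group
    simpa [mul_assoc] using this
  -- α^k x = (α x * x⁻¹)^k * x
  have hpow : ∀ (k : ℕ) (x : Q), (α ^ k) x = (α x * x⁻¹) ^ k * x := by
    intro k
    induction k with
    | zero => intro x; simp
    | succ k ih =>
      intro x
      rw [pow_succ', MulAut.mul_apply, ih, map_mul, map_pow, hfix _ (hc x), pow_succ]
      group
  have hcard : (α ^ Nat.card Q) = 1 := by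
    ext x
    rw [hpow, pow_card_eq_one', one_mul]
    rfl
  have hdvd : orderOf α ∣ Nat.card Q := orderOf_dvd_of_pow_eq_one hcard
  obtain ⟨n, hn⟩ := IsPGroup.iff_card.mp hPG
  rw [hn] at hdvd
  obtain ⟨k, _, hk⟩ := (Nat.dvd_prime_pow hp).1 hdvd
  exact ⟨k, hk⟩

end Cfsg.Agent.S3349
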