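import Mathlib
import Cfsg.Statements.S3356
import Cfsg.Agent.Lib.Helper62.HalfTrans
-- import your own Cfsg.Agent.* helpers here

set_option autoImplicit false
open Cfsg

namespace Cfsg.Agent.S3356

open MulAction Cfsg.Agent.Lib.Helper62.HalfTrans

section
variable {G Ω : Type*} [Group G] [MulAction G Ω]

/-- conjugation action of a subgroup on a normal subgroup -/
@[reducible] def conjMDMA (A N : Subgroup G) [N.Normal] : MulDistribMulAction A N :=
  MulDistribMulAction.compHom N ((MulAut.conjNormal (H := N)).comp A.subtype)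

attribute [local instance] conjMDMA

theorem conj_smul_val (A N : Subgroup G) [N.Normal] (h : A) (z : N) :
    ((h • z : N) : G) = (h : G) * z * (h : G)⁻¹ := by
  rfl

variable [Finite G] [FaithfulSMul G Ω] [Finite Ω]

theorem isHalfTrans_of_regular_normal
    (hhalf : ∀ a b c : Ω, b ≠ a → c ≠ a →
      Nat.card (orbit (stabilizer G a) b) = Nat.card (orbit (stabilizer G a) c))
    (N : Subgroup G) [hN : N.Normal] (hNt : IsPretransitive N Ω)
    (hNr : ∀ a : Ω, stabilizer N a = ⊥)
    (a b : Ω) (hab : a ≠ b) (hst : stabilizer G a ⊓ stabilizer G b ≠ ⊥) :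
    ∃ s m : ℕ, IsHalfTrans (stabilizer G a) N s m := by
  set A := stabilizer G a with hA
  have hsm : ∀ (h : A) (z : N), ((h • z : N) : G) = (h : G) * z * (h : G)⁻¹ := fun h z => rfl
  -- freeness of N
  have hfree : ∀ (n : N) (ω : Ω), n • ω = ω → n = 1 := by
    intro n ω h
    have : n ∈ stabilizer N ω := h
    rw [hNr ω] at this
    exact Subgroup.mem_bot.mp this
  have hfree' : ∀ (n n' : N) (ω : Ω), n • ω = n' • ω → n = n' := by
    intro n n' ω h
    have : (n'⁻¹ * n) • ω = ω := by rw [mul_smul, h, inv_smul_smul]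
    have := hfree _ _ this
    exact (inv_mul_eq_one.mp this).symm
  -- (K1) stabilisers
  have hK1 : ∀ z : N, stabilizer A z = stabilizer A ((z : G) • a) := by
    intro z
    ext h
    rw [mem_stabilizer_iff, mem_stabilizer_iff]
    have hha : (h : G) • a = a := h.2
    constructor
    · intro hz
      have h1 : ((h • z : N) : G) = (z : G) := congrArg Subtype.val hz
      rw [hsm] at h1
      change (h : G) • ((z : G) • a) = (z : G) • a
      rw [← mul_smul]
      have : (h : G) * z = z * h := by
        calc (h : G) * z = ((h : G) * z * (h : G)⁻¹) * h := by group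
          _ = z * h := by rw [h1]
      rw [this, mul_smul, hha]
    · intro hz
      change (h : G) • ((z : G) • a) = (z : G) • a at hz
      apply hfree' _ _ a
      change ((h • z : N) : G) • a = (z : G) • a
      rw [hsm, mul_smul, mul_smul]
      have : (h : G)⁻¹ • a = a := by rw [inv_smul_eq_iff, hha]
      rw [this, hz]
  -- orbit-stabiliser for the action of A on Ω
  have hos : ∀ c : Ω, Nat.card (stabilizer A c) * Nat.card (orbit A c) = Nat.card A := by
    intro c
    have h1 := index_stabilizer A c
    have h2 := (stabilizer A c).card_mul_index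
    rw [h1, ← Nat.card_coe_set_eq] at h2
    exact h2
  obtain ⟨m, hm⟩ : ∃ m, m = Nat.card (orbit A b) := ⟨_, rfl⟩
  obtain ⟨s, hs⟩ : ∃ s, s = Nat.card (stabilizer A b) := ⟨_, rfl⟩
  have hmpos : 0 < m := by
    rw [hm]
    have : Nonempty (orbit A b) := ⟨⟨b, mem_orbit_self b⟩⟩
    exact Nat.card_pos
  have horb : ∀ c : Ω, c ≠ a → Nat.card (orbit A c) = m := by
    intro c hc
    rw [hm]
    exact hhalf a c b hc (Ne.symm hab)
  have hstab : ∀ c : Ω, c ≠ a → Nat.card (stabilizer A c) = s := by
    intro c hc
    have h1 := hos c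
    have h2 := hos b
    rw [horb c hc] at h1
    rw [← hm, ← hs] at h2
    rw [← h2] at h1
    exact Nat.eq_of_mul_eq_mul_right hmpos h1
  have hcardA : Nat.card A = m * s := by
    have h2 := hos b
    rw [← hm, ← hs] at h2
    rw [← h2, mul_comm]
  -- |N| = |Ω|
  have hcardN : Nat.card N = Nat.card Ω := by
    apply Nat.card_congr
    refine Equiv.ofBijective (fun n : N => n • a) ⟨?_, ?_⟩
    · intro n n' h
      exact hfree' n n' a h
    · intro ω
      exact hNt.exists_smul_eq a ω
  -- m ∣ |Ω| - 1
  have hmdvd : m ∣ Nat.card Ω - 1 := by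
    rw [← SubMulAction.nat_card_ofStabilizer_eq G a]
    apply dvd_card_of_orbit_card (H := A) (X := SubMulAction.ofStabilizer G a) m
    intro x
    have hx : (x : Ω) ≠ a := SubMulAction.neq_of_mem_ofStabilizer G a
    rw [← horb (x : Ω) hx, Nat.card_coe_set_eq, Nat.card_coe_set_eq,
      ← SubMulAction.val_image_orbit]
    rw [Set.ncard_image_of_injective _ Subtype.val_injective]
  have hcop : Nat.Coprime m (Nat.card N) := by
    rw [hcardN]
    obtain ⟨j, hj⟩ := hmdvd
    have hpos : 0 < Nat.card Ω := by
      have : Nonempty Ω := ⟨a⟩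
      exact Nat.card_pos
    have : Nat.card Ω = m * j + 1 := by omega
    rw [this]
    simp
  -- 1 < s
  have hslt : 1 < s := by
    rw [hs, Subgroup.one_lt_card_iff_ne_bot]
    intro hbot
    apply hst
    rw [eq_bot_iff]
    intro g hg
    rw [Subgroup.mem_inf] at hg
    have : (⟨g, hg.1⟩ : A) ∈ stabilizer A b := by
      rw [mem_stabilizer_iff]
      exact hg.2
    rw [hbot, Subgroup.mem_bot] at this
    exact Subgroup.mem_bot.mpr (congrArg Subtype.val this)
  refine ⟨s, m, ?_⟩
  constructor
  · intro z hz
    rw [hK1 z]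
    apply hstab
    intro h
    apply hz
    have : z • a = (1 : N) • a := by rw [one_smul]; exact h
    exact hfree' z 1 a this
  · exact hcardA
  · exact hcop
  · exact hslt
  · intro h hfix
    -- h fixes every point
    have hha : (h : G) • a = a := h.2
    have hall : ∀ ω : Ω, (h : G) • ω = ω := by
      intro ω
      obtain ⟨n, rfl⟩ := hNt.exists_smul_eq a ω
      have h1 : ((h • n : N) : G) = (n : G) := congrArg Subtype.val (hfix n)
      rw [hsm] at h1
      change (h : G) • ((n : G) • a) = (n : G) • a
      rw [← mul_smul]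
      have : (h : G) * n = n * h := by
        calc (h : G) * n = ((h : G) * n * (h : G)⁻¹) * h := by group
          _ = n * h := by rw [h1]
      rw [this, mul_smul, hha]
    have : (h : G) = 1 := by
      apply FaithfulSMul.eq_of_smul_eq_smul (α := Ω)
      intro ω
      rw [hall ω, one_smul]
    exact Subtype.ext this


end

attribute [local instance] conjMDMA

/-- Let G be a finite 3/2-transitive permutation group: G acts faithfully and transitively on a finite set, the point stabilizers are non-trivial, and for each point a all orbits of G_a on the remaining points have the same size. Suppose G has a regular normal subgroup N and G is not a Frobenius group (some two-point stabilizer is non-trivial). Then N is an elementary abelian p-group for some prime p, and every non-trivial normal subgroup of G contains N (so N is the unique minimal normal subgroup). -/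
theorem result {G Ω : Type*} [Group G] [Finite G]
    [MulAction G Ω] [FaithfulSMul G Ω] [Finite Ω] (htrans : MulAction.IsPretransitive G Ω)
    (hne : ∀ a : Ω, MulAction.stabilizer G a ≠ ⊥)
    (hhalf : ∀ a b c : Ω, b ≠ a → c ≠ a →
      Nat.card (MulAction.orbit (MulAction.stabilizer G a) b) = Nat.card (MulAction.orbit (MulAction.stabilizer G a) c))
    (N : Subgroup G) [hN : N.Normal] (hNt : MulAction.IsPretransitive N Ω) (hNr : ∀ a : Ω, MulAction.stabilizer N a = ⊥)
    (hnotF : ∃ a b : Ω, a ≠ b ∧ MulAction.stabilizer G a ⊓ MulAction.stabilizer G b ≠ ⊥) :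
    (∃ p : ℕ, p.Prime ∧ IsMulCommutative N ∧ ∀ x ∈ N, x ^ p = 1) ∧
    (∀ M : Subgroup G, M.Normal → M ≠ ⊥ → N ≤ M) := by
  obtain ⟨a, b, hab, hst⟩ := hnotF
  obtain ⟨s, m, hT⟩ := isHalfTrans_of_regular_normal hhalf N hNt hNr a b hab hst
  obtain ⟨hcomm, p, hp, hexp⟩ := comm_and_exponent hT
  have hsm : ∀ (h : stabilizer G a) (z : N), ((h • z : N) : G) = (h : G) * z * (h : G)⁻¹ :=
    fun h z => rfl
  refine ⟨⟨p, hp, ⟨⟨fun x y => hcomm x y⟩⟩, ?_⟩, ?_⟩
  · intro x hx
    have := hexp ⟨x, hx⟩
    exact congrArg Subtype.val this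
  · intro M hM hMbot
    have hLinv : ∀ h : stabilizer G a, ∀ l ∈ M.subgroupOf N, h • l ∈ M.subgroupOf N := by
      intro h l hl
      rw [Subgroup.mem_subgroupOf] at hl ⊢
      rw [hsm]
      exact hM.conj_mem _ hl _
    by_cases hL : M.subgroupOf N = ⊥
    · exfalso
      apply hMbot
      rw [Subgroup.subgroupOf_eq_bot] at hL
      rw [eq_bot_iff]
      intro g hg
      -- g centralizes N
      have hcent : ∀ n : N, g * n = n * g := by
        intro n
        have h1 : g * n * g⁻¹ * (n : G)⁻¹ ∈ M := by
          have : (n : G) * g⁻¹ * (n : G)⁻¹ ∈ M := hM.conj_mem _ (M.inv_mem hg) _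
          have := M.mul_mem hg this
          simpa [mul_assoc] using this
        have h2 : g * n * g⁻¹ * (n : G)⁻¹ ∈ N :=
          N.mul_mem (hN.conj_mem _ n.2 _) (N.inv_mem n.2)
        have h3 : g * n * g⁻¹ * (n : G)⁻¹ = 1 := by
          have := hL.le_bot (show g * n * g⁻¹ * (n : G)⁻¹ ∈ M ⊓ N from ⟨h1, h2⟩)
          exact Subgroup.mem_bot.mp this
        calc g * n = (g * n * g⁻¹ * (n : G)⁻¹) * (n * g) := by group
          _ = n * g := by rw [h3, one_mul]
      obtain ⟨n0, hn0⟩ := hNt.exists_smul_eq a (g • a)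
      have hfix : ((n0 : G)⁻¹ * g) • a = a := by
        rw [mul_smul, inv_smul_eq_iff]
        exact hn0.symm
      let h : stabilizer G a := ⟨(n0 : G)⁻¹ * g, hfix⟩
      have hh1 : h = 1 := by
        apply hT.faithful
        intro z
        apply Subtype.ext
        rw [hsm]
        change (n0 : G)⁻¹ * g * z * ((n0 : G)⁻¹ * g)⁻¹ = z
        have e1 := hcent z
        have e2 : (n0 : G) * z = z * n0 := congrArg Subtype.val (hcomm n0 z)
        calc (n0 : G)⁻¹ * g * z * ((n0 : G)⁻¹ * g)⁻¹
            = (n0 : G)⁻¹ * (g * z) * g⁻¹ * n0 := by group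
          _ = (n0 : G)⁻¹ * (z * g) * g⁻¹ * n0 := by rw [e1]
          _ = (n0 : G)⁻¹ * (z * n0) := by group
          _ = (n0 : G)⁻¹ * (n0 * z) := by rw [e2]
          _ = z := by group
      have hgn : g = n0 := by
        have : (n0 : G)⁻¹ * g = 1 := congrArg Subtype.val hh1
        exact (inv_mul_eq_one.mp this).symm
      have : g ∈ M ⊓ N := ⟨hg, hgn ▸ n0.2⟩
      exact hL.le_bot this
    · have := invariant_subgroup_eq_top hT hcomm (M.subgroupOf N) hLinv hL
      exact Subgroup.subgroupOf_eq_top.mp this

end Cfsg.Agent.S3356
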