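import Cfsg.Statements.S3358
import Cfsg.Agent.Lib.Helper01.FCStructB
import Cfsg.Agent.Lib.Helper01.ZGroupPres
import Cfsg.Agent.Lib.Helper01.FrobPackage
import Cfsg.Agent.Lib.Helper01.FrobComplNilp
import Cfsg.Agent.Lib.Helper02.FrobComplement
import Cfsg.Agent.S0035
import Cfsg.Agent.S0068

set_option autoImplicit false
open Cfsg

namespace Cfsg.Agent.S3358

/-- the facts about Frobenius complements used in the structure theorem -/
theorem fc_facts {G : Type*} [Group G] [Finite G] (hsol : Group.IsSolvable G)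
    (hFC : ∃ (L : Type) (_ : Group L) (_ : Finite L) (H : Subgroup L),
      Cfsg.IsFrobeniusComplement H ∧ Nonempty (G ≃* H)) :
    (∀ p : ℕ, p.Prime → p ≠ 2 → ∀ Q : Subgroup G, IsPGroup p Q → IsCyclic Q) ∧
    (∀ s t : G, orderOf s = 2 → orderOf t = 2 → s = t) ∧
    Cfsg.Agent.Lib.Helper01.PQCyclic G := by
  obtain ⟨L, instG, instF, H, hH, ⟨e⟩⟩ := hFC
  obtain ⟨Kn, hKn, -, -⟩ := Cfsg.Agent.S0035.result H hH
  have pkg := Cfsg.Agent.Lib.Helper01.frobPkg_of H Kn hH hKn
  have hKnn : Kn.Normal := pkg.normal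
  refine ⟨?_, ?_, ?_⟩
  · intro p hp hp2 Q hQ
    have : Fact p.Prime := ⟨hp⟩
    have hQ' : IsPGroup p (Q.map e.toMonoidHom) := hQ.map _
    obtain ⟨P, hP⟩ := hQ'.exists_le_sylow
    have hPc : IsCyclic P :=
      Cfsg.Agent.Lib.Helper01.sylow_cyclic_of_fpf_of_odd Kn H pkg.compl pkg.N_ne pkg.fpf p hp2 P
    have hQc : IsCyclic (Q.map e.toMonoidHom) := Subgroup.isCyclic_of_le hP
    let e1 := Subgroup.equivMapOfInjective Q e.toMonoidHom e.injective
    exact isCyclic_of_surjective e1.symm e1.symm.surjective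
  · intro s t hs ht
    have hs' : orderOf ((e s : H) : L) = 2 := by
      rw [Subgroup.orderOf_coe, MulEquiv.orderOf_eq, hs]
    have ht' : orderOf ((e t : H) : L) = 2 := by
      rw [Subgroup.orderOf_coe, MulEquiv.orderOf_eq, ht]
    have heven : 2 ∣ Nat.card H := by
      have h1 : orderOf (e s) = 2 := by rw [MulEquiv.orderOf_eq, hs]
      rw [← h1]; exact orderOf_dvd_natCard _
    obtain ⟨⟨s₀, -, -, huniq, -⟩, -⟩ :=
      Cfsg.Agent.S0068.result Kn H pkg.compl pkg.N_ne pkg.fpf heven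
    have h1 := huniq _ (e s).2 hs'
    have h2 := huniq _ (e t).2 ht'
    have h3 : (e s : H) = e t := Subtype.ext (h1.trans h2.symm)
    exact e.injective h3
  · intro A p q hp hq hcard
    set A' : Subgroup L := (A.map e.toMonoidHom).map H.subtype with hA'
    have hA'H : A' ≤ H := Subgroup.map_subtype_le _
    let e1 := Subgroup.equivMapOfInjective A e.toMonoidHom e.injective
    let e2 := Subgroup.equivMapOfInjective (A.map e.toMonoidHom) H.subtype H.subtype_injective
    let e3 : A ≃* A' := e1.trans e2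
    have hcard' : Nat.card A' = p * q := by
      rw [← hcard]; exact (Nat.card_congr e3.toEquiv).symm
    have := hsol
    have hsolA : Group.IsSolvable A := inferInstance
    have hsolA' : Group.IsSolvable A' := Group.isSolvable_of_surjective (f := e3.toMonoidHom) e3.surjective
    have hc : IsCyclic A' :=
      Cfsg.Agent.Lib.Helper02.cyclic_of_card_mul_of_fpf Kn H pkg.N_ne pkg.fpf A' hA'H
        hsolA' p q hp hq hcard'
    exact isCyclic_of_surjective e3.symm e3.symm.surjective

/-- Structure of solvable Frobenius complements. Let G be a finite solvable group that occurs as a Frobenius complement. Then G has a normal subgroup G₀ such that G/G₀ is isomorphic to a subgroup of Sym(4) (G₀ is the kernel of a homomorphism to Sym(4)), all Sylow subgroups of G₀ are cyclic, and G₀ has a presentation ⟨x, y | x^n = 1, y^m = 1, x⁻¹ y x = y^r⟩ with n, m ≥ 1, gcd(r − 1, m) = gcd(n, m) = 1 and r^(n/n′) ≡ 1 (mod m), where n′ is the product of the distinct primes dividing n.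 -/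
theorem result {G : Type*} [Group G] [Finite G] (hsol : Group.IsSolvable G)
    (hFC : ∃ (L : Type) (_ : Group L) (_ : Finite L) (H : Subgroup L), Cfsg.IsFrobeniusComplement H ∧ Nonempty (G ≃* H)) :
    ∃ G₀ : Subgroup G, G₀.Normal ∧
      (∃ f : G →* Equiv.Perm (Fin 4), f.ker = G₀) ∧
      (∀ (p : ℕ) [Fact p.Prime] (P : Sylow p G₀), IsCyclic P) ∧
      ∃ n m r : ℕ, 0 < n ∧ 0 < m ∧ Nat.Coprime (r - 1) m ∧ Nat.Coprime n m ∧ 1 ≤ r ∧
        r ^ (n / ∏ p ∈ n.primeFactors, p) % m = 1 % m ∧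
        Nonempty (G₀ ≃* PresentedGroup
          ({FreeGroup.of (0 : Fin 2) ^ n, FreeGroup.of (1 : Fin 2) ^ m,
            (FreeGroup.of (0 : Fin 2))⁻¹ * FreeGroup.of 1 * FreeGroup.of 0 * (FreeGroup.of (1 : Fin 2) ^ r)⁻¹} :
            Set (FreeGroup (Fin 2)))) := by
  obtain ⟨h1, h2, h3⟩ := fc_facts hsol hFC
  obtain ⟨G₀, hn, hf, hsyl⟩ := Cfsg.Agent.Lib.Helper01.fc_structure hsol h1 h2
  refine ⟨G₀, hn, hf, hsyl, ?_⟩
  have hZ : IsZGroup G₀ := ⟨fun p hp P => by
    have := Fact.mk hp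
    exact hsyl p P⟩
  have hPQ : Cfsg.Agent.Lib.Helper01.PQCyclic G₀ := by
    intro A p q hp hq hcard
    let e := Subgroup.equivMapOfInjective A G₀.subtype G₀.subtype_injective
    have hcard' : Nat.card (A.map G₀.subtype) = p * q := by
      rw [← hcard]; exact (Nat.card_congr e.toEquiv).symm
    have hc := h3 (A.map G₀.subtype) p q hp hq hcard'
    exact isCyclic_of_surjective e.symm e.symm.surjective
  obtain ⟨n, m, r, hn0, hm0, hc1, hc2, hr1, hrad, hiso⟩ :=
    Cfsg.Agent.Lib.Helper01.zgroup_presentation hPQ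
  exact ⟨n, m, r, hn0, hm0, hc1, hc2, hr1, hrad, hiso⟩

end Cfsg.Agent.S3358
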