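import Cfsg.Statements.S3361
import Cfsg.Agent.S0688
import Cfsg.Agent.Lib.Helper06.NFMain

set_option autoImplicit false
open Cfsg

namespace Cfsg.Agent.S3361

/-- Let q be a prime and V a non-trivial finite vector space over the field with q elements, and let G be a finite solvable group acting faithfully and linearly on V and regularly on the non-zero vectors (transitively, with only the identity fixing a non-zero vector). Then either V can be identified with the additive group of a finite field F so that every element of G acts as x ↦ a·σ(x) (a ∈ F, σ a field automorphism), or V has 5^2, 7^2, 11^2 or 23^2 elements. Moreover, if q ≠ 2 then G has a normal subgroup of index 2, except that when V has 25 elements G may be isomorphic to SL(2,3) and when V has 121 elements G may be isomorphic to SL(2,3) × C₅. -/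
theorem result
    (q : ℕ) [Fact q.Prime] {V : Type*} [AddCommGroup V] [Module (ZMod q) V] [Finite V] [Nontrivial V]
    {G : Type*} [Group G] [Finite G] (hsol : Group.IsSolvable G)
    (ρ : G →* (V ≃ₗ[ZMod q] V)) (hρ : Function.Injective ρ)
    (htrans : ∀ v w : V, v ≠ 0 → w ≠ 0 → ∃ g : G, ρ g v = w)
    (hreg : ∀ v : V, v ≠ 0 → ∀ g : G, ρ g v = v → g = 1) :
    ((∃ (F : Type) (_ : Field F) (_ : Fintype F) (e : V ≃+ F),
        ∀ g : G, ∃ (a : F) (σ : F ≃+* F), ∀ v : V, e (ρ g v) = a * σ (e v)) ∨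
      Nat.card V ∈ ({25, 49, 121, 529} : Set ℕ)) ∧
    (q ≠ 2 → (∃ N : Subgroup G, N.Normal ∧ N.index = 2) ∨
      (Nat.card V = 25 ∧ Nonempty (G ≃* Matrix.SpecialLinearGroup (Fin 2) (ZMod 3))) ∨
      (Nat.card V = 121 ∧ Nonempty (G ≃* Matrix.SpecialLinearGroup (Fin 2) (ZMod 3) × Multiplicative (ZMod 5)))) := by
  classical
  set H : Subgroup (V ≃ₗ[ZMod q] V) := ρ.range with hH
  have e : G ≃* H := MonoidHom.ofInjective hρ
  have hHreg : ∀ v w : V, v ≠ 0 → w ≠ 0 → ∃! h : H, (h : V ≃ₗ[ZMod q] V) v = w := by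
    intro v w hv hw
    obtain ⟨g, hg⟩ := htrans v w hv hw
    refine ⟨⟨ρ g, ⟨g, rfl⟩⟩, hg, ?_⟩
    rintro ⟨_, g', rfl⟩ hg'
    apply Subtype.ext
    show ρ g' = ρ g
    have h1 : ρ (g⁻¹ * g') v = v := by
      rw [map_mul, map_inv]
      show (ρ g)⁻¹ ((ρ g') v) = v
      have hg'' : (ρ g') v = w := hg'
      rw [hg'', ← hg]
      exact (ρ g).symm_apply_apply v
    have h2 := hreg v hv _ h1
    have h3 : g' = g := by
      have := congrArg (fun x => g * x) h2
      simpa using this
    rw [h3]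
  have hHsolv : Group.IsSolvable H :=
    Group.isSolvable_of_surjective (f := ρ.rangeRestrict) ρ.rangeRestrict_surjective
  constructor
  · by_cases hI : ∀ A : Subgroup H, A.Normal → IsCyclic A → ∃ W : Submodule (ZMod q) V,
        W ≠ ⊥ ∧ W ≠ ⊤ ∧ ∀ a ∈ A, ∀ v ∈ W, ((a : H) : V ≃ₗ[ZMod q] V) v ∈ W
    · right
      have h := Cfsg.Agent.S0688.result H hHreg hI hHsolv
      simp only [Set.mem_insert_iff, Set.mem_singleton_iff]
      exact h
    · left
      push Not at hI
      obtain ⟨A, hAn, hAcyc, hA⟩ := hI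
      have hAc : ∀ a ∈ A, ∀ b ∈ A, a * b = b * a := by
        intro a ha b hb
        have := hAcyc.commGroup.mul_comm (⟨a, ha⟩ : A) ⟨b, hb⟩
        exact congrArg Subtype.val this
      have hirr : ∀ W : Submodule (ZMod q) V,
          (∀ a ∈ A, ∀ v ∈ W, ((a : H) : V ≃ₗ[ZMod q] V) v ∈ W) → W = ⊥ ∨ W = ⊤ := by
        intro W hW
        by_contra hcon
        push Not at hcon
        obtain ⟨a, ha, v, hv, hav⟩ := hA W hcon.1 hcon.2
        exact hav (hW a ha v hv)
      obtain ⟨F, iF, iF', eF, heF⟩ :=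
        Cfsg.Agent.Lib.Helper63.NF.gammaL_form H A hAn hAc hirr
      exact ⟨F, iF, iF', eF, fun g => heF ⟨ρ g, ⟨g, rfl⟩⟩⟩
  · intro hq2
    rcases Cfsg.Agent.Lib.Helper06.NF.part_two H hHreg hHsolv hq2 with
      ⟨N, hNn, hN2⟩ | ⟨hV, ⟨f⟩⟩ | ⟨hV, ⟨f⟩⟩
    · left
      refine ⟨N.comap e.toMonoidHom, ?_, ?_⟩
      · exact hNn.comap _
      · rw [Subgroup.index_comap_of_surjective N e.surjective]
        exact hN2
    · right; left
      exact ⟨hV, ⟨e.trans f⟩⟩
    · right; right
      exact ⟨hV, ⟨e.trans f⟩⟩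

end Cfsg.Agent.S3361
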