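import Mathlib
import Cfsg.Statements.S3362
import Cfsg.Agent.Lib.Helper62.SchreierSims
import Cfsg.Agent.Lib.Helper62.M12Data
-- import your own Cfsg.Agent.* helpers here

set_option autoImplicit false
open Cfsg

namespace Cfsg.Agent.S3362

open Cfsg.Agent.Lib.Helper62 Cfsg.Agent.Lib.Helper62.M12

theorem gS_eq : Equiv.swap (3 : Fin 12) 5 * Equiv.swap (3 : Fin 12) 4 * Equiv.swap (6 : Fin 12) 8 * Equiv.swap (6 : Fin 12) 7 * Equiv.swap (9 : Fin 12) 11 * Equiv.swap (9 : Fin 12) 10 = gS := by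
  decide +kernel
theorem gT_eq : Equiv.swap (3 : Fin 12) 9 * Equiv.swap (3 : Fin 12) 6 * Equiv.swap (4 : Fin 12) 10 * Equiv.swap (4 : Fin 12) 7 * Equiv.swap (5 : Fin 12) 11 * Equiv.swap (5 : Fin 12) 8 = gT := by
  decide +kernel
theorem gU_eq : Equiv.swap (4 : Fin 12) 9 * Equiv.swap (4 : Fin 12) 5 * Equiv.swap (4 : Fin 12) 6 * Equiv.swap (7 : Fin 12) 10 * Equiv.swap (7 : Fin 12) 11 * Equiv.swap (7 : Fin 12) 8 = gU := by
  decide +kernel
theorem gV_eq : Equiv.swap (4 : Fin 12) 11 * Equiv.swap (4 : Fin 12) 5 * Equiv.swap (4 : Fin 12) 7 * Equiv.swap (6 : Fin 12) 8 * Equiv.swap (6 : Fin 12) 9 * Equiv.swap (6 : Fin 12) 10 = gV := by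
  decide +kernel
theorem gW_eq : Equiv.swap (4 : Fin 12) 8 * Equiv.swap (4 : Fin 12) 5 * Equiv.swap (4 : Fin 12) 10 * Equiv.swap (6 : Fin 12) 7 * Equiv.swap (6 : Fin 12) 9 * Equiv.swap (6 : Fin 12) 11 = gW := by
  decide +kernel
theorem gX1_eq : Equiv.swap (0 : Fin 12) 3 * Equiv.swap (6 : Fin 12) 7 * Equiv.swap (8 : Fin 12) 10 * Equiv.swap (9 : Fin 12) 11 = gX1 := by
  decide +kernel
theorem gX2_eq : Equiv.swap (0 : Fin 12) 1 * Equiv.swap (6 : Fin 12) 9 * Equiv.swap (7 : Fin 12) 10 * Equiv.swap (8 : Fin 12) 11 = gX2 := by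
  decide +kernel
theorem gX3_eq : Equiv.swap (1 : Fin 12) 2 * Equiv.swap (6 : Fin 12) 11 * Equiv.swap (7 : Fin 12) 9 * Equiv.swap (8 : Fin 12) 10 = gX3 := by
  decide +kernel

theorem step5 : Nat.card (genGroup gens5) = lvl5.U.length * Nat.card (genGroup ([] : List P12)) ∧
    (∀ g ∈ genGroup gens5, g • lvl5.β = lvl5.β → g ∈ genGroup ([] : List P12)) ∧
    (∀ g ∈ genGroup ([] : List P12), g • lvl5.β = lvl5.β) ∧
    (∀ u ∈ lvl5.U, u ∈ genGroup gens5) :=
  level_step_list (permIsOne 12) act12 (permIsOne_sound 12) gens5 [] lvl5 [] W5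
    U5_words U5_nodup (by simp [lvl5, U5]) (by simp) (by rfl) (by simp) check5

theorem step4 : Nat.card (genGroup gens4) = lvl4.U.length * Nat.card (genGroup gens5) ∧
    (∀ g ∈ genGroup gens4, g • lvl4.β = lvl4.β → g ∈ genGroup gens5) ∧
    (∀ g ∈ genGroup gens5, g • lvl4.β = lvl4.β) ∧
    (∀ u ∈ lvl4.U, u ∈ genGroup gens4) :=
  level_step_list (permIsOne 12) act12 (permIsOne_sound 12) gens4 gens5 lvl4 [lvl5] W4
    U4_words U4_nodup (by simp [lvl4, U4]) (by simp [gens4, gens5]) fix4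
    (by
      intro L' hL' u hu
      simp only [List.mem_singleton] at hL'
      subst hL'
      exact step5.2.2.2 u hu) check4

theorem sub54 : ∀ g ∈ gens5, g ∈ gens4 := by simp [gens4, gens5]
theorem sub43 : ∀ g ∈ gens4, g ∈ gens3 := by
  intro g hg; simp only [gens4, List.mem_cons, List.not_mem_nil, or_false] at hg
  simp only [gens3, List.mem_cons, List.not_mem_nil, or_false]; tauto
theorem sub32 : ∀ g ∈ gens3, g ∈ gens2 := by
  intro g hg; simp only [gens3, List.mem_cons, List.not_mem_nil, or_false] at hg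
  simp only [gens2, List.mem_cons, List.not_mem_nil, or_false]; tauto
theorem sub21 : ∀ g ∈ gens2, g ∈ gens1 := by
  intro g hg; simp only [gens2, List.mem_cons, List.not_mem_nil, or_false] at hg
  simp only [gens1, List.mem_cons, List.not_mem_nil, or_false]; tauto

theorem step3 : Nat.card (genGroup gens3) = lvl3.U.length * Nat.card (genGroup gens4) ∧
    (∀ g ∈ genGroup gens3, g • lvl3.β = lvl3.β → g ∈ genGroup gens4) ∧
    (∀ g ∈ genGroup gens4, g • lvl3.β = lvl3.β) ∧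
    (∀ u ∈ lvl3.U, u ∈ genGroup gens3) :=
  level_step_list (permIsOne 12) act12 (permIsOne_sound 12) gens3 gens4 lvl3 [lvl4, lvl5] W3
    U3_words U3_nodup (by simp [lvl3, U3]) sub43 fix3
    (by
      intro L' hL' u hu
      simp only [List.mem_cons, List.not_mem_nil, or_false] at hL'
      rcases hL' with rfl | rfl
      · exact step4.2.2.2 u hu
      · exact genGroup_mono sub54 (step5.2.2.2 u hu)) check3

theorem step2 : Nat.card (genGroup gens2) = lvl2.U.length * Nat.card (genGroup gens3) ∧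
    (∀ g ∈ genGroup gens2, g • lvl2.β = lvl2.β → g ∈ genGroup gens3) ∧
    (∀ g ∈ genGroup gens3, g • lvl2.β = lvl2.β) ∧
    (∀ u ∈ lvl2.U, u ∈ genGroup gens2) :=
  level_step_list (permIsOne 12) act12 (permIsOne_sound 12) gens2 gens3 lvl2 [lvl3, lvl4, lvl5] W2
    U2_words U2_nodup (by simp [lvl2, U2]) sub32 fix2
    (by
      intro L' hL' u hu
      simp only [List.mem_cons, List.not_mem_nil, or_false] at hL'
      rcases hL' with rfl | rfl | rfl
      · exact step3.2.2.2 u hu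
      · exact genGroup_mono sub43 (step4.2.2.2 u hu)
      · exact genGroup_mono sub43 (genGroup_mono sub54 (step5.2.2.2 u hu))) check2

theorem step1 : Nat.card (genGroup gens1) = lvl1.U.length * Nat.card (genGroup gens2) ∧
    (∀ g ∈ genGroup gens1, g • lvl1.β = lvl1.β → g ∈ genGroup gens2) ∧
    (∀ g ∈ genGroup gens2, g • lvl1.β = lvl1.β) ∧
    (∀ u ∈ lvl1.U, u ∈ genGroup gens1) :=
  level_step_list (permIsOne 12) act12 (permIsOne_sound 12) gens1 gens2 lvl1 [lvl2, lvl3, lvl4, lvl5] W1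
    U1_words U1_nodup (by simp [lvl1, U1]) sub21 fix1
    (by
      intro L' hL' u hu
      simp only [List.mem_cons, List.not_mem_nil, or_false] at hL'
      rcases hL' with rfl | rfl | rfl | rfl
      · exact step2.2.2.2 u hu
      · exact genGroup_mono sub32 (step3.2.2.2 u hu)
      · exact genGroup_mono sub32 (genGroup_mono sub43 (step4.2.2.2 u hu))
      · exact genGroup_mono sub32 (genGroup_mono sub43 (genGroup_mono sub54 (step5.2.2.2 u hu)))) check1

theorem card_bot12 : Nat.card (genGroup ([] : List P12)) = 1 := by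
  rw [genGroup_nil]; exact Subgroup.card_bot

theorem card_M11 : Nat.card (genGroup gens2) = 7920 := by
  rw [step2.1, step3.1, step4.1, step5.1, card_bot12]
  rfl

theorem card_M12 : Nat.card (genGroup gens1) = 95040 := by
  rw [step1.1, card_M11]
  rfl

/-- an element of M12 fixing the five base points is trivial -/
theorem eq_one_of_fix (g : P12) (hg : g ∈ genGroup gens1) (h2 : g 2 = 2) (h1 : g 1 = 1) (h0 : g 0 = 0)
    (h3 : g 3 = 3) (h4 : g 4 = 4) : g = 1 := by
  have m2 := step1.2.1 g hg h2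
  have m3 := step2.2.1 g m2 h1
  have m4 := step3.2.1 g m3 h0
  have m5 := step4.2.1 g m4 h3
  have m6 := step5.2.1 g m5 h4
  rw [genGroup_nil] at m6
  exact Subgroup.mem_bot.mp m6

/-- A group acting on a finite set with a regular point and as many elements as points
is sharply transitive. -/
theorem sharp_of_regular_point {G X : Type*} [Group G] [MulAction G X] [Finite X] (x0 : X)
    (hstab : ∀ g : G, g • x0 = x0 → g = 1) (hcard : Nat.card X ≤ Nat.card G) :
    MulAction.IsPretransitive G X ∧ ∀ x : X, MulAction.stabilizer G x = ⊥ := by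
  have hinj : Function.Injective (fun g : G => g • x0) := by
    intro g h hgh
    have : (h⁻¹ * g) • x0 = x0 := by
      rw [mul_smul]
      change g • x0 = h • x0 at hgh
      rw [hgh, inv_smul_smul]
    have := hstab _ this
    exact (inv_mul_eq_one.mp this).symm
  have hbij : Function.Bijective (fun g : G => g • x0) := hinj.bijective_of_nat_card_le hcard
  have hsurj := hbij.2
  constructor
  · constructor
    intro x y
    obtain ⟨a, rfl⟩ := hsurj x
    obtain ⟨b, rfl⟩ := hsurj y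
    refine ⟨b * a⁻¹, ?_⟩
    simp only [mul_smul, inv_smul_smul]
  · intro x
    obtain ⟨b, rfl⟩ := hsurj x
    rw [eq_bot_iff]
    intro g hg
    rw [MulAction.mem_stabilizer_iff] at hg
    have : (b⁻¹ * g * b) • x0 = x0 := by
      simp only [mul_smul] at hg ⊢
      rw [hg, inv_smul_smul]
    have h1 := hstab _ this
    rw [Subgroup.mem_bot]
    have : g = b * (b⁻¹ * g * b) * b⁻¹ := by group
    rw [this, h1]; group

def y0 : Fin 5 ↪ Fin 12 := ⟨![2, 1, 0, 3, 4], by decide⟩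

theorem sharp_M12 : MulAction.IsPretransitive (genGroup gens1) (Fin 5 ↪ Fin 12) ∧
    ∀ y : Fin 5 ↪ Fin 12, MulAction.stabilizer (genGroup gens1) y = ⊥ := by
  apply sharp_of_regular_point y0
  · rintro ⟨g, hg⟩ hfix
    have hpt : ∀ i : Fin 5, g (y0 i) = y0 i := by
      intro i
      have := congrArg (fun f : Fin 5 ↪ Fin 12 => f i) hfix
      simpa using this
    have := eq_one_of_fix g hg (hpt 0) (hpt 1) (hpt 2) (hpt 3) (hpt 4)
    exact Subtype.ext this
  · rw [card_M12]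
    rw [Nat.card_eq_fintype_card, Fintype.card_embedding_eq]
    simp [Nat.descFactorial]

theorem M11_eq : genGroup gens2 = genGroup gens1 ⊓ MulAction.stabilizer P12 (2 : Fin 12) := by
  ext g
  rw [Subgroup.mem_inf, MulAction.mem_stabilizer_iff]
  constructor
  · intro hg
    exact ⟨genGroup_mono sub21 hg, step1.2.2.1 g hg⟩
  · rintro ⟨hg, hfix⟩
    exact step1.2.1 g hg hfix


/-- An explicit construction of the Mathieu groups of degrees 11 and 12. On the points 0, …, 11 let s = (3 4 5)(6 7 8)(9 10 11), t = (3 6 9)(4 7 10)(5 8 11), u = (4 6 5 9)(7 8 11 10), v = (4 7 5 11)(6 10 9 8), w = (4 10 5 8)(6 11 9 7), x₁ = (0 3)(6 7)(8 10)(9 11), x₂ = (0 1)(6 9)(7 10)(8 11), x₃ = (1 2)(6 11)(7 9)(8 10) (each written as a product of transpositions). Then the group M₁₂ generated by all eight permutations is sharply 5-transitive on the 12 points and has order 95040, and the group M₁₁ generated by the first seven has order 7920 and is the stabilizer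 of the point 2 in M₁₂. -/
theorem result
    (s t u v w x₁ x₂ x₃ : Equiv.Perm (Fin 12))
    (hs : s = Equiv.swap (3 : Fin 12) 5 * Equiv.swap (3 : Fin 12) 4 * Equiv.swap (6 : Fin 12) 8 * Equiv.swap (6 : Fin 12) 7 * Equiv.swap (9 : Fin 12) 11 * Equiv.swap (9 : Fin 12) 10) (ht : t = Equiv.swap (3 : Fin 12) 9 * Equiv.swap (3 : Fin 12) 6 * Equiv.swap (4 : Fin 12) 10 * Equiv.swap (4 : Fin 12) 7 * Equiv.swap (5 : Fin 12) 11 * Equiv.swap (5 : Fin 12) 8)
    (hu : u = Equiv.swap (4 : Fin 12) 9 * Equiv.swap (4 : Fin 12) 5 * Equiv.swap (4 : Fin 12) 6 * Equiv.swap (7 : Fin 12) 10 * Equiv.swap (7 : Fin 12) 11 * Equiv.swap (7 : Fin 12) 8) (hv : v = Equiv.swap (4 : Fin 12) 11 * Equiv.swap (4 : Fin 12) 5 * Equiv.swap (4 : Fin 12) 7 * Equiv.swap (6 : Fin 12) 8 * Equiv.swap (6 : Fin 12) 9 * Equiv.swap (6 : Fin 12) 10) (hw : w = Equiv.swap (4 : Fin 12) 8 * Equiv.swap (4 : Fin 12) 5 * Equiv.swap (4 : Fin 12) 10 * Equiv.swap (6 : Fin 12) 7 * Equiv.swap (6 : Fin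 12) 9 * Equiv.swap (6 : Fin 12) 11)
    (hx₁ : x₁ = Equiv.swap (0 : Fin 12) 3 * Equiv.swap (6 : Fin 12) 7 * Equiv.swap (8 : Fin 12) 10 * Equiv.swap (9 : Fin 12) 11) (hx₂ : x₂ = Equiv.swap (0 : Fin 12) 1 * Equiv.swap (6 : Fin 12) 9 * Equiv.swap (7 : Fin 12) 10 * Equiv.swap (8 : Fin 12) 11)
    (hx₃ : x₃ = Equiv.swap (1 : Fin 12) 2 * Equiv.swap (6 : Fin 12) 11 * Equiv.swap (7 : Fin 12) 9 * Equiv.swap (8 : Fin 12) 10)
    (M₁₂ M₁₁ : Subgroup (Equiv.Perm (Fin 12))) (hM₁₂ : M₁₂ = Subgroup.closure {s, t, u, v, w, x₁, x₂, x₃})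
    (hM₁₁ : M₁₁ = Subgroup.closure {s, t, u, v, w, x₁, x₂}) :
    MulAction.IsMultiplyPretransitive M₁₂ (Fin 12) 5 ∧ (∀ y : Fin 5 ↪ Fin 12, MulAction.stabilizer M₁₂ y = ⊥) ∧
    Nat.card M₁₂ = 95040 ∧ Nat.card M₁₁ = 7920 ∧
    M₁₁ = M₁₂ ⊓ MulAction.stabilizer (Equiv.Perm (Fin 12)) (2 : Fin 12) := by
  subst hs ht hu hv hw hx₁ hx₂ hx₃ hM₁₂ hM₁₁
  rw [gS_eq, gT_eq, gU_eq, gV_eq, gW_eq, gX1_eq, gX2_eq, gX3_eq]
  have e1 : Subgroup.closure {gS, gT, gU, gV, gW, gX1, gX2, gX3} = genGroup gens1 := by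
    unfold genGroup
    congr 1
    ext g
    simp [gens1]
  have e2 : Subgroup.closure {gS, gT, gU, gV, gW, gX1, gX2} = genGroup gens2 := by
    unfold genGroup
    congr 1
    ext g
    simp [gens2]
  rw [e1, e2]
  exact ⟨sharp_M12.1, sharp_M12.2, card_M12, card_M11, M11_eq⟩

end Cfsg.Agent.S3362
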