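import Mathlib
import Cfsg.Statements.S3370
import Cfsg.Agent.Lib.Helper62.NT3370
import Cfsg.Agent.Lib.Helper62.GL23
import Cfsg.Agent.Lib.Helper62.TransLin
-- import your own Cfsg.Agent.* helpers here

set_option autoImplicit false
open Cfsg

namespace Cfsg.Agent.S3370

open Cfsg.Agent.Lib.Helper62.TransLin Cfsg.Agent.Lib.Helper62.NT3370 Cfsg.Agent.Lib.Helper62.GL23

/-- the case `|V| = 9` -/
theorem case_nine {V : Type*} [AddCommGroup V] [Module (ZMod 3) V] [Finite V]
    {G : Type*} [Group G] [Finite G] (hG : IsPGroup 2 G)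
    (ρ : G →* (V ≃ₗ[ZMod 3] V)) (hρ : Function.Injective ρ)
    (htrans : ∀ v w : V, v ≠ 0 → w ≠ 0 → ∃ g : G, ρ g v = w) (hcard : Nat.card V = 9) :
    (IsCyclic G ∧ Nat.card G = 8) ∨ Nonempty (G ≃* QuaternionGroup 2) ∨
      (Cfsg.IsQuasiDihedral G ∧ Nat.card G = 16) := by
  have : Fact (Nat.Prime 2) := ⟨Nat.prime_two⟩
  have : Fact (Nat.Prime 3) := ⟨Nat.prime_three⟩
  obtain ⟨Φ, hΦ⟩ := exists_hom_GL23 (V := V) hcard
  let φ : G →* Γ := Φ.comp ρ
  have hφ : Function.Injective φ := hΦ.comp hρ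
  have hdvd : Nat.card G ∣ 48 := by
    rw [← card_Γ]
    exact Subgroup.card_dvd_of_injective φ hφ
  -- every nonzero vector has stabiliser of the same order
  have hstab : ∀ v : V, v ≠ 0 → Nat.card G = 8 * Nat.card (stabS ρ v) := by
    intro v hv
    have := card_eq_mul_stab ρ htrans v hv
    rwa [hcard] at this
  have hV : Nontrivial V := by
    rw [← Finite.one_lt_card_iff_nontrivial, hcard]; norm_num
  obtain ⟨v0, hv0⟩ := exists_ne (0 : V)
  obtain ⟨c, hc⟩ := (hG.to_subgroup (stabS ρ v0)).exists_card_eq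
  have h0 := hstab v0 hv0
  have hc1 : c ≤ 1 := by
    by_contra hc2
    obtain ⟨d, rfl⟩ := Nat.exists_eq_add_of_le (show 2 ≤ c by omega)
    rw [h0, hc, pow_add] at hdvd
    obtain ⟨k, hk⟩ := hdvd
    have := Nat.two_pow_pos d
    have : 8 * (2 ^ 2 * 2 ^ d) * k = 32 * (2 ^ d * k) := by ring
    have hpos : 0 < 2 ^ d * k := by
      rcases Nat.eq_zero_or_pos (2 ^ d * k) with h | h
      · rw [this, h] at hk; omega
      · exact h
    omega
  interval_cases c
  · -- |G| = 8
    have hG8 : Nat.card G = 8 := by rw [h0, hc]; norm_num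
    have hfree : ∀ v : V, v ≠ 0 → stabS ρ v = ⊥ := by
      intro v hv
      have := hstab v hv
      rw [hG8] at this
      apply Subgroup.eq_bot_of_card_eq
      omega
    rcases cyclic_or_quat_of_free ρ hρ hG hfree hG8 with h | h
    · exact Or.inl ⟨h, hG8⟩
    · exact Or.inr (Or.inl h)
  · -- |G| = 16
    have hG16 : Nat.card G = 16 := by rw [h0, hc]; norm_num
    right; right
    refine ⟨?_, hG16⟩
    have hr : Nat.card φ.range = 16 := by
      rw [← hG16]
      exact (Nat.card_congr (MonoidHom.ofInjective hφ).toEquiv).symm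
    obtain ⟨x', y', ⟨x, rfl⟩, ⟨y, rfl⟩, hox, hoy, hrel⟩ := exists_sd16 φ.range hr
    refine ⟨3, le_refl 3, by rw [hG16]; norm_num, x, y, ?_, ?_, ?_⟩
    · rw [← orderOf_injective φ hφ x, hox]; norm_num
    · rw [← orderOf_injective φ hφ y, hoy]
    · apply hφ
      rw [map_mul, map_mul, map_inv, hrel, map_pow]
      norm_num


/-- Let q be a prime, V a non-trivial finite vector space over the field with q elements, and G a non-trivial finite p-group (p prime) acting faithfully and linearly on V and transitively on the non-zero vectors. Then either q = 2 and G has prime order p = |V| − 1; or p = 2, V has q elements with q = 2^m + 1 and G is cyclic of order 2^m; or p = 2, q = 3, V has 9 elements and G is cyclic of order 8, quaternion of order 8, or semidihedral of order 16. -/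
theorem result (q : ℕ) [Fact q.Prime] {V : Type*} [AddCommGroup V] [Module (ZMod q) V] [Finite V] [Nontrivial V]
    {G : Type*} [Group G] [Finite G] [Nontrivial G] (p : ℕ) [Fact p.Prime] (hG : IsPGroup p G)
    (ρ : G →* (V ≃ₗ[ZMod q] V)) (hρ : Function.Injective ρ)
    (htrans : ∀ v w : V, v ≠ 0 → w ≠ 0 → ∃ g : G, ρ g v = w) :
    (q = 2 ∧ p = Nat.card V - 1 ∧ Nat.card G = p) ∨
    (p = 2 ∧ Nat.card V = q ∧ (∃ m : ℕ, q = 2 ^ m + 1 ∧ Nat.card G = 2 ^ m) ∧ IsCyclic G) ∨
    (p = 2 ∧ q = 3 ∧ Nat.card V = 9 ∧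
      ((IsCyclic G ∧ Nat.card G = 8) ∨ Nonempty (G ≃* QuaternionGroup 2) ∨ (Cfsg.IsQuasiDihedral G ∧ Nat.card G = 16))) := by
  have hqp : q.Prime := Fact.out
  have hpp : p.Prime := Fact.out
  obtain ⟨v0, hv0⟩ := exists_ne (0 : V)
  obtain ⟨n, hn⟩ : ∃ n, n = Module.finrank (ZMod q) V := ⟨_, rfl⟩
  have hcardV : Nat.card V = q ^ n := by
    have h := Module.natCard_eq_pow_finrank (K := ZMod q) (V := V)
    rw [Nat.card_zmod, ← hn] at h
    exact h
  have hn1 : 1 ≤ n := by
    by_contra h0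
    have : n = 0 := by omega
    rw [this, pow_zero] at hcardV
    have := Finite.one_lt_card (α := V)
    omega
  have hGcard := card_eq_mul_stab ρ htrans v0 hv0
  obtain ⟨a, ha⟩ := hG.exists_card_eq
  obtain ⟨b, -, hb⟩ := (Nat.dvd_prime_pow hpp).mp (ha ▸ Dvd.intro _ hGcard.symm)
  rw [hcardV] at hb
  have hG1 := Finite.one_lt_card (α := G)
  by_cases hq2 : q = 2
  · left
    subst hq2
    have hb1 := nt_two n p b hpp hn1 hb
    have h2n : 1 ≤ 2 ^ n := Nat.one_le_two_pow
    have hp2 := hpp.two_le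
    rcases (show b = 0 ∨ b = 1 by omega) with rfl | rfl
    · exfalso
      rw [pow_zero] at hb
      have hle : Nat.card V ≤ p + 1 := by rw [hcardV]; omega
      have hst := stab_eq_bot_of_card_le ρ hρ p hG hle v0 hv0
      rw [hst, Subgroup.card_bot, mul_one, hcardV, hb] at hGcard
      omega
    · rw [pow_one] at hb
      have hle : Nat.card V ≤ p + 1 := by rw [hcardV]; omega
      have hst := stab_eq_bot_of_card_le ρ hρ p hG hle v0 hv0
      rw [hst, Subgroup.card_bot, mul_one, hcardV, hb] at hGcard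
      refine ⟨rfl, ?_, hGcard⟩
      rw [hcardV, hb]
  · right
    have hqodd : Odd q := hqp.odd_of_ne_two hq2
    have hq3 : 3 ≤ q := by
      have := hqp.two_le; omega
    have hqn3 : 3 ≤ q ^ n := by
      calc 3 ≤ q := hq3
        _ = q ^ 1 := (pow_one q).symm
        _ ≤ q ^ n := Nat.pow_le_pow_right hqp.pos hn1
    have hp2 : p = 2 := by
      have hev : 2 ∣ q ^ n - 1 := by
        have : Odd (q ^ n) := hqodd.pow
        obtain ⟨k, hk⟩ := this
        exact ⟨k, by omega⟩
      rw [hb] at hev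
      have := Nat.Prime.dvd_of_dvd_pow Nat.prime_two hev
      exact ((Nat.prime_dvd_prime_iff_eq Nat.prime_two hpp).mp this).symm
    subst hp2
    rcases nt_odd q n b hqp hq2 hn1 hb with h1 | ⟨h3, h2⟩
    · left
      subst h1
      rw [pow_one] at hcardV hb
      have hst := stab_eq_bot_of_dim_one ρ hρ hcardV v0 hv0
      rw [hst, Subgroup.card_bot, mul_one, hcardV, hb] at hGcard
      refine ⟨rfl, hcardV, ⟨b, by omega, hGcard⟩, isCyclic_of_dim_one ρ hρ hcardV⟩
    · right
      subst h3 h2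
      have h9 : Nat.card V = 9 := by rw [hcardV]; norm_num
      exact ⟨rfl, rfl, h9, case_nine hG ρ hρ htrans h9⟩

end Cfsg.Agent.S3370
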