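import Cfsg.Statements.S3374
import Cfsg.Agent.Lib.Helper62.FrobeniusSemidirect
import Mathlib

set_option autoImplicit false
open Cfsg

namespace Cfsg.Agent.S3374

open Cfsg.Agent.Lib.Helper62 Matrix

abbrev Q := ℕ × ℕ × ℕ × ℕ

def tab : List (List (List (List (ℕ × ℕ × ℕ × ℕ)))) := [
  [[[(0, 0, 0, 0), (0, 0, 0, 0), (0, 0, 0, 0), (0, 0, 0, 0), (0, 0, 0, 0)],
    [(0, 0, 0, 0), (0, 0, 0, 0), (0, 0, 0, 0), (0, 0, 0, 0), (0, 0, 0, 0)],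
    [(0, 0, 0, 0), (0, 0, 0, 0), (0, 0, 0, 0), (0, 0, 0, 0), (0, 0, 0, 0)],
    [(0, 0, 0, 0), (0, 0, 0, 0), (0, 0, 0, 0), (0, 0, 0, 0), (0, 0, 0, 0)],
    [(0, 0, 0, 0), (0, 0, 0, 0), (0, 0, 0, 0), (0, 0, 0, 0), (0, 0, 0, 0)]],
   [[(0, 0, 0, 0), (0, 0, 0, 0), (0, 0, 0, 0), (0, 0, 0, 0), (0, 0, 0, 0)],
    [(0, 0, 0, 0), (0, 0, 0, 0), (0, 0, 0, 0), (0, 0, 0, 0), (0, 0, 0, 0)],
    [(0, 0, 0, 0), (0, 0, 0, 0), (0, 0, 0, 0), (0, 0, 0, 0), (0, 0, 0, 0)],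
    [(0, 0, 0, 0), (0, 0, 0, 0), (0, 0, 0, 0), (0, 0, 0, 0), (0, 0, 0, 0)],
    [(0, 10, 1, 0), (4, 10, 2, 8), (1, 9, 5, 2), (10, 6, 2, 9), (7, 9, 1, 3)]],
   [[(0, 0, 0, 0), (0, 0, 0, 0), (0, 0, 0, 0), (0, 0, 0, 0), (0, 0, 0, 0)],
    [(0, 0, 0, 0), (0, 0, 0, 0), (0, 0, 0, 0), (0, 0, 0, 0), (0, 0, 0, 0)],
    [(8, 10, 10, 3), (8, 3, 3, 4), (4, 0, 0, 3), (9, 8, 8, 6), (4, 1, 1, 6)],
    [(0, 0, 0, 0), (0, 0, 0, 0), (0, 0, 0, 0), (0, 0, 0, 0), (0, 0, 0, 0)],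
    [(0, 0, 0, 0), (0, 0, 0, 0), (0, 0, 0, 0), (0, 0, 0, 0), (0, 0, 0, 0)]],
   [[(0, 0, 0, 0), (0, 0, 0, 0), (0, 0, 0, 0), (0, 0, 0, 0), (0, 0, 0, 0)],
    [(0, 0, 0, 0), (0, 0, 0, 0), (0, 0, 0, 0), (0, 0, 0, 0), (0, 0, 0, 0)],
    [(0, 0, 0, 0), (0, 0, 0, 0), (0, 0, 0, 0), (0, 0, 0, 0), (0, 0, 0, 0)],
    [(3, 1, 1, 8), (7, 10, 10, 5), (2, 3, 3, 5), (7, 0, 0, 8), (3, 8, 8, 7)],
    [(0, 0, 0, 0), (0, 0, 0, 0), (0, 0, 0, 0), (0, 0, 0, 0), (0, 0, 0, 0)]],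
   [[(0, 0, 0, 0), (0, 0, 0, 0), (0, 0, 0, 0), (0, 0, 0, 0), (0, 0, 0, 0)],
    [(0, 1, 10, 0), (4, 2, 10, 8), (1, 5, 9, 2), (10, 2, 6, 9), (7, 1, 9, 3)],
    [(0, 0, 0, 0), (0, 0, 0, 0), (0, 0, 0, 0), (0, 0, 0, 0), (0, 0, 0, 0)],
    [(0, 0, 0, 0), (0, 0, 0, 0), (0, 0, 0, 0), (0, 0, 0, 0), (0, 0, 0, 0)],
    [(0, 0, 0, 0), (0, 0, 0, 0), (0, 0, 0, 0), (0, 0, 0, 0), (0, 0, 0, 0)]]],
  [[[(0, 0, 0, 0), (1, 0, 0, 1), (0, 0, 0, 0), (0, 0, 0, 0), (0, 0, 0, 0)],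
    [(0, 0, 0, 0), (1, 4, 3, 2), (0, 0, 0, 0), (0, 0, 0, 0), (0, 0, 0, 0)],
    [(0, 0, 0, 0), (2, 1, 9, 5), (0, 0, 0, 0), (0, 0, 0, 0), (0, 0, 0, 0)],
    [(0, 0, 0, 0), (5, 10, 2, 2), (0, 0, 0, 0), (0, 0, 0, 0), (0, 0, 0, 0)],
    [(0, 0, 0, 0), (2, 7, 8, 1), (0, 0, 0, 0), (0, 0, 0, 0), (0, 0, 0, 0)]],
   [[(0, 0, 0, 0), (1, 3, 4, 2), (0, 0, 0, 0), (0, 0, 0, 0), (0, 0, 0, 0)],
    [(0, 0, 0, 0), (0, 0, 0, 0), (6, 0, 0, 2), (0, 0, 0, 0), (0, 0, 0, 0)],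
    [(0, 0, 0, 0), (0, 0, 0, 0), (0, 0, 0, 0), (6, 8, 7, 4), (0, 0, 0, 0)],
    [(0, 0, 0, 0), (0, 0, 0, 0), (0, 0, 0, 0), (0, 0, 0, 0), (1, 2, 10, 10)],
    [(8, 9, 1, 4), (0, 0, 0, 0), (0, 0, 0, 0), (0, 0, 0, 0), (0, 0, 0, 0)]],
   [[(0, 0, 0, 0), (2, 9, 1, 5), (0, 0, 0, 0), (0, 0, 0, 0), (0, 0, 0, 0)],
    [(0, 0, 0, 0), (0, 0, 0, 0), (0, 0, 0, 0), (6, 7, 8, 4), (0, 0, 0, 0)],
    [(5, 1, 1, 7), (0, 0, 0, 0), (0, 0, 0, 0), (0, 0, 0, 0), (0, 0, 0, 0)],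
    [(0, 0, 0, 0), (0, 0, 0, 0), (9, 7, 6, 6), (0, 0, 0, 0), (0, 0, 0, 0)],
    [(0, 0, 0, 0), (0, 0, 0, 0), (0, 0, 0, 0), (0, 0, 0, 0), (0, 9, 6, 0)]],
   [[(0, 0, 0, 0), (5, 2, 10, 2), (0, 0, 0, 0), (0, 0, 0, 0), (0, 0, 0, 0)],
    [(0, 0, 0, 0), (0, 0, 0, 0), (0, 0, 0, 0), (0, 0, 0, 0), (1, 10, 2, 10)],
    [(0, 0, 0, 0), (0, 0, 0, 0), (9, 6, 7, 6), (0, 0, 0, 0), (0, 0, 0, 0)],
    [(4, 8, 8, 8), (0, 0, 0, 0), (0, 0, 0, 0), (0, 0, 0, 0), (0, 0, 0, 0)],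
    [(0, 0, 0, 0), (0, 0, 0, 0), (0, 0, 0, 0), (3, 7, 6, 7), (0, 0, 0, 0)]],
   [[(0, 0, 0, 0), (2, 8, 7, 1), (0, 0, 0, 0), (0, 0, 0, 0), (0, 0, 0, 0)],
    [(8, 1, 9, 4), (0, 0, 0, 0), (0, 0, 0, 0), (0, 0, 0, 0), (0, 0, 0, 0)],
    [(0, 0, 0, 0), (0, 0, 0, 0), (0, 0, 0, 0), (0, 0, 0, 0), (0, 6, 9, 0)],
    [(0, 0, 0, 0), (0, 0, 0, 0), (0, 0, 0, 0), (3, 6, 7, 7), (0, 0, 0, 0)],
    [(0, 0, 0, 0), (0, 0, 0, 0), (9, 1, 1, 10), (0, 0, 0, 0), (0, 0, 0, 0)]]],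
  [[[(0, 0, 0, 0), (0, 0, 0, 0), (0, 0, 0, 0), (1, 8, 8, 10), (0, 0, 0, 0)],
    [(0, 0, 0, 0), (0, 0, 0, 0), (0, 0, 0, 0), (8, 8, 7, 3), (0, 0, 0, 0)],
    [(0, 0, 0, 0), (0, 0, 0, 0), (0, 0, 0, 0), (0, 4, 8, 0), (0, 0, 0, 0)],
    [(0, 0, 0, 0), (0, 0, 0, 0), (0, 0, 0, 0), (3, 9, 5, 8), (0, 0, 0, 0)],
    [(0, 0, 0, 0), (0, 0, 0, 0), (0, 0, 0, 0), (10, 4, 5, 1), (0, 0, 0, 0)]],
   [[(0, 0, 0, 0), (0, 0, 0, 0), (0, 0, 0, 0), (8, 7, 8, 3), (0, 0, 0, 0)],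
    [(0, 0, 0, 0), (10, 10, 10, 9), (0, 0, 0, 0), (0, 0, 0, 0), (0, 0, 0, 0)],
    [(0, 0, 0, 0), (0, 0, 0, 0), (0, 0, 0, 0), (0, 0, 0, 0), (7, 8, 7, 5)],
    [(0, 0, 0, 0), (0, 0, 0, 0), (6, 2, 6, 4), (0, 0, 0, 0), (0, 0, 0, 0)],
    [(2, 6, 2, 1), (0, 0, 0, 0), (0, 0, 0, 0), (0, 0, 0, 0), (0, 0, 0, 0)]],
   [[(0, 0, 0, 0), (0, 0, 0, 0), (0, 0, 0, 0), (0, 8, 4, 0), (0, 0, 0, 0)],
    [(0, 0, 0, 0), (0, 0, 0, 0), (0, 0, 0, 0), (0, 0, 0, 0), (7, 7, 8, 5)],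
    [(5, 8, 8, 2), (0, 0, 0, 0), (0, 0, 0, 0), (0, 0, 0, 0), (0, 0, 0, 0)],
    [(0, 0, 0, 0), (6, 5, 4, 9), (0, 0, 0, 0), (0, 0, 0, 0), (0, 0, 0, 0)],
    [(0, 0, 0, 0), (0, 0, 0, 0), (4, 5, 9, 6), (0, 0, 0, 0), (0, 0, 0, 0)]],
   [[(0, 0, 0, 0), (0, 0, 0, 0), (0, 0, 0, 0), (3, 5, 9, 8), (0, 0, 0, 0)],
    [(0, 0, 0, 0), (0, 0, 0, 0), (6, 6, 2, 4), (0, 0, 0, 0), (0, 0, 0, 0)],
    [(0, 0, 0, 0), (6, 4, 5, 9), (0, 0, 0, 0), (0, 0, 0, 0), (0, 0, 0, 0)],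
    [(3, 0, 0, 4), (0, 0, 0, 0), (0, 0, 0, 0), (0, 0, 0, 0), (0, 0, 0, 0)],
    [(0, 0, 0, 0), (0, 0, 0, 0), (0, 0, 0, 0), (0, 0, 0, 0), (4, 7, 6, 8)]],
   [[(0, 0, 0, 0), (0, 0, 0, 0), (0, 0, 0, 0), (10, 5, 4, 1), (0, 0, 0, 0)],
    [(2, 2, 6, 1), (0, 0, 0, 0), (0, 0, 0, 0), (0, 0, 0, 0), (0, 0, 0, 0)],
    [(0, 0, 0, 0), (0, 0, 0, 0), (4, 9, 5, 6), (0, 0, 0, 0), (0, 0, 0, 0)],
    [(0, 0, 0, 0), (0, 0, 0, 0), (0, 0, 0, 0), (0, 0, 0, 0), (4, 6, 7, 8)],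
    [(0, 0, 0, 0), (2, 0, 0, 6), (0, 0, 0, 0), (0, 0, 0, 0), (0, 0, 0, 0)]]],
  [[[(0, 0, 0, 0), (0, 0, 0, 0), (10, 3, 3, 1), (0, 0, 0, 0), (0, 0, 0, 0)],
    [(0, 0, 0, 0), (0, 0, 0, 0), (1, 7, 6, 10), (0, 0, 0, 0), (0, 0, 0, 0)],
    [(0, 0, 0, 0), (0, 0, 0, 0), (8, 2, 6, 3), (0, 0, 0, 0), (0, 0, 0, 0)],
    [(0, 0, 0, 0), (0, 0, 0, 0), (0, 7, 3, 0), (0, 0, 0, 0), (0, 0, 0, 0)],
    [(0, 0, 0, 0), (0, 0, 0, 0), (3, 3, 4, 8), (0, 0, 0, 0), (0, 0, 0, 0)]],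
   [[(0, 0, 0, 0), (0, 0, 0, 0), (1, 6, 7, 10), (0, 0, 0, 0), (0, 0, 0, 0)],
    [(0, 0, 0, 0), (0, 0, 0, 0), (0, 0, 0, 0), (0, 0, 0, 0), (9, 0, 0, 5)],
    [(0, 0, 0, 0), (7, 5, 4, 3), (0, 0, 0, 0), (0, 0, 0, 0), (0, 0, 0, 0)],
    [(0, 0, 0, 0), (0, 0, 0, 0), (0, 0, 0, 0), (7, 2, 6, 5), (0, 0, 0, 0)],
    [(9, 9, 5, 10), (0, 0, 0, 0), (0, 0, 0, 0), (0, 0, 0, 0), (0, 0, 0, 0)]],
   [[(0, 0, 0, 0), (0, 0, 0, 0), (8, 6, 2, 3), (0, 0, 0, 0), (0, 0, 0, 0)],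
    [(0, 0, 0, 0), (7, 4, 5, 3), (0, 0, 0, 0), (0, 0, 0, 0), (0, 0, 0, 0)],
    [(8, 0, 0, 7), (0, 0, 0, 0), (0, 0, 0, 0), (0, 0, 0, 0), (0, 0, 0, 0)],
    [(0, 0, 0, 0), (0, 0, 0, 0), (0, 0, 0, 0), (0, 0, 0, 0), (5, 7, 6, 2)],
    [(0, 0, 0, 0), (0, 0, 0, 0), (0, 0, 0, 0), (5, 5, 9, 7), (0, 0, 0, 0)]],
   [[(0, 0, 0, 0), (0, 0, 0, 0), (0, 3, 7, 0), (0, 0, 0, 0), (0, 0, 0, 0)],
    [(0, 0, 0, 0), (0, 0, 0, 0), (0, 0, 0, 0), (7, 6, 2, 5), (0, 0, 0, 0)],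
    [(0, 0, 0, 0), (0, 0, 0, 0), (0, 0, 0, 0), (0, 0, 0, 0), (5, 6, 7, 2)],
    [(6, 3, 3, 9), (0, 0, 0, 0), (0, 0, 0, 0), (0, 0, 0, 0), (0, 0, 0, 0)],
    [(0, 0, 0, 0), (4, 4, 3, 6), (0, 0, 0, 0), (0, 0, 0, 0), (0, 0, 0, 0)]],
   [[(0, 0, 0, 0), (0, 0, 0, 0), (3, 4, 3, 8), (0, 0, 0, 0), (0, 0, 0, 0)],
    [(9, 5, 9, 10), (0, 0, 0, 0), (0, 0, 0, 0), (0, 0, 0, 0), (0, 0, 0, 0)],
    [(0, 0, 0, 0), (0, 0, 0, 0), (0, 0, 0, 0), (5, 9, 5, 7), (0, 0, 0, 0)],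
    [(0, 0, 0, 0), (4, 3, 4, 6), (0, 0, 0, 0), (0, 0, 0, 0), (0, 0, 0, 0)],
    [(0, 0, 0, 0), (0, 0, 0, 0), (0, 0, 0, 0), (0, 0, 0, 0), (1, 1, 1, 2)]]],
  [[[(0, 0, 0, 0), (0, 0, 0, 0), (0, 0, 0, 0), (0, 0, 0, 0), (10, 0, 0, 10)],
    [(0, 0, 0, 0), (0, 0, 0, 0), (0, 0, 0, 0), (0, 0, 0, 0), (9, 4, 3, 10)],
    [(0, 0, 0, 0), (0, 0, 0, 0), (0, 0, 0, 0), (0, 0, 0, 0), (6, 1, 9, 9)],
    [(0, 0, 0, 0), (0, 0, 0, 0), (0, 0, 0, 0), (0, 0, 0, 0), (9, 10, 2, 6)],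
    [(0, 0, 0, 0), (0, 0, 0, 0), (0, 0, 0, 0), (0, 0, 0, 0), (10, 7, 8, 9)]],
   [[(0, 0, 0, 0), (0, 0, 0, 0), (0, 0, 0, 0), (0, 0, 0, 0), (9, 3, 4, 10)],
    [(0, 0, 0, 0), (0, 0, 0, 0), (0, 0, 0, 0), (2, 10, 10, 1), (0, 0, 0, 0)],
    [(0, 0, 0, 0), (0, 0, 0, 0), (8, 5, 4, 4), (0, 0, 0, 0), (0, 0, 0, 0)],
    [(0, 0, 0, 0), (0, 5, 2, 0), (0, 0, 0, 0), (0, 0, 0, 0), (0, 0, 0, 0)],
    [(3, 10, 2, 7), (0, 0, 0, 0), (0, 0, 0, 0), (0, 0, 0, 0), (0, 0, 0, 0)]],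
   [[(0, 0, 0, 0), (0, 0, 0, 0), (0, 0, 0, 0), (0, 0, 0, 0), (6, 9, 1, 9)],
    [(0, 0, 0, 0), (0, 0, 0, 0), (8, 4, 5, 4), (0, 0, 0, 0), (0, 0, 0, 0)],
    [(7, 3, 3, 3), (0, 0, 0, 0), (0, 0, 0, 0), (0, 0, 0, 0), (0, 0, 0, 0)],
    [(0, 0, 0, 0), (0, 0, 0, 0), (0, 0, 0, 0), (2, 5, 4, 5), (0, 0, 0, 0)],
    [(0, 0, 0, 0), (10, 1, 9, 1), (0, 0, 0, 0), (0, 0, 0, 0), (0, 0, 0, 0)]],
   [[(0, 0, 0, 0), (0, 0, 0, 0), (0, 0, 0, 0), (0, 0, 0, 0), (9, 2, 10, 6)],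
    [(0, 0, 0, 0), (0, 2, 5, 0), (0, 0, 0, 0), (0, 0, 0, 0), (0, 0, 0, 0)],
    [(0, 0, 0, 0), (0, 0, 0, 0), (0, 0, 0, 0), (2, 4, 5, 5), (0, 0, 0, 0)],
    [(6, 10, 10, 4), (0, 0, 0, 0), (0, 0, 0, 0), (0, 0, 0, 0), (0, 0, 0, 0)],
    [(0, 0, 0, 0), (0, 0, 0, 0), (5, 4, 3, 7), (0, 0, 0, 0), (0, 0, 0, 0)]],
   [[(0, 0, 0, 0), (0, 0, 0, 0), (0, 0, 0, 0), (0, 0, 0, 0), (10, 8, 7, 9)],
    [(3, 2, 10, 7), (0, 0, 0, 0), (0, 0, 0, 0), (0, 0, 0, 0), (0, 0, 0, 0)],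
    [(0, 0, 0, 0), (10, 9, 1, 1), (0, 0, 0, 0), (0, 0, 0, 0), (0, 0, 0, 0)],
    [(0, 0, 0, 0), (0, 0, 0, 0), (5, 3, 4, 7), (0, 0, 0, 0), (0, 0, 0, 0)],
    [(0, 0, 0, 0), (0, 0, 0, 0), (0, 0, 0, 0), (5, 0, 0, 9), (0, 0, 0, 0)]]]]

def look (x : Q) : Q :=
  (((tab.getD x.1 []).getD x.2.1 []).getD x.2.2.1 []).getD x.2.2.2 (0, 0, 0, 0)

def mulN (p : ℕ) (x y : Q) : Q :=
  ((x.1 * y.1 + x.2.1 * y.2.2.1) % p, (x.1 * y.2.1 + x.2.1 * y.2.2.2) % p,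
   (x.2.2.1 * y.1 + x.2.2.2 * y.2.2.1) % p, (x.2.2.1 * y.2.1 + x.2.2.2 * y.2.2.2) % p)

def good : List Q := [
  (0, 1, 4, 0), (0, 1, 4, 1), (0, 1, 4, 2), (0, 1, 4, 3), (0, 1, 4, 4), (0, 2, 2, 0), (0, 2, 2, 1), (0, 2, 2, 2),
  (0, 2, 2, 3), (0, 2, 2, 4), (0, 3, 3, 0), (0, 3, 3, 1), (0, 3, 3, 2), (0, 3, 3, 3), (0, 3, 3, 4), (0, 4, 1, 0),
  (0, 4, 1, 1), (0, 4, 1, 2), (0, 4, 1, 3), (0, 4, 1, 4), (1, 0, 0, 1), (1, 0, 1, 1), (1, 0, 2, 1), (1, 0, 3, 1),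
  (1, 0, 4, 1), (1, 1, 0, 1), (1, 1, 1, 2), (1, 1, 2, 3), (1, 1, 3, 4), (1, 1, 4, 0), (1, 2, 0, 1), (1, 2, 1, 3),
  (1, 2, 2, 0), (1, 2, 3, 2), (1, 2, 4, 4), (1, 3, 0, 1), (1, 3, 1, 4), (1, 3, 2, 2), (1, 3, 3, 0), (1, 3, 4, 3),
  (1, 4, 0, 1), (1, 4, 1, 0), (1, 4, 2, 4), (1, 4, 3, 3), (1, 4, 4, 2), (2, 0, 0, 3), (2, 0, 1, 3), (2, 0, 2, 3),
  (2, 0, 3, 3), (2, 0, 4, 3), (2, 1, 0, 3), (2, 1, 1, 1), (2, 1, 2, 4), (2, 1, 3, 2), (2, 1, 4, 0), (2, 2, 0, 3),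
  (2, 2, 1, 4), (2, 2, 2, 0), (2, 2, 3, 1), (2, 2, 4, 2), (2, 3, 0, 3), (2, 3, 1, 2), (2, 3, 2, 1), (2, 3, 3, 0),
  (2, 3, 4, 4), (2, 4, 0, 3), (2, 4, 1, 0), (2, 4, 2, 2), (2, 4, 3, 4), (2, 4, 4, 1), (3, 0, 0, 2), (3, 0, 1, 2),
  (3, 0, 2, 2), (3, 0, 3, 2), (3, 0, 4, 2), (3, 1, 0, 2), (3, 1, 1, 4), (3, 1, 2, 1), (3, 1, 3, 3), (3, 1, 4, 0),
  (3, 2, 0, 2), (3, 2, 1, 1), (3, 2, 2, 0), (3, 2, 3, 4), (3, 2, 4, 3), (3, 3, 0, 2), (3, 3, 1, 3), (3, 3, 2, 4),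
  (3, 3, 3, 0), (3, 3, 4, 1), (3, 4, 0, 2), (3, 4, 1, 0), (3, 4, 2, 3), (3, 4, 3, 1), (3, 4, 4, 4), (4, 0, 0, 4),
  (4, 0, 1, 4), (4, 0, 2, 4), (4, 0, 3, 4), (4, 0, 4, 4), (4, 1, 0, 4), (4, 1, 1, 3), (4, 1, 2, 2), (4, 1, 3, 1),
  (4, 1, 4, 0), (4, 2, 0, 4), (4, 2, 1, 2), (4, 2, 2, 0), (4, 2, 3, 3), (4, 2, 4, 1), (4, 3, 0, 4), (4, 3, 1, 1),
  (4, 3, 2, 3), (4, 3, 3, 0), (4, 3, 4, 2), (4, 4, 0, 4), (4, 4, 1, 0), (4, 4, 2, 1), (4, 4, 3, 2), (4, 4, 4, 3)]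

def chk : Bool := good.all fun A => good.all fun B => look (mulN 5 A B) == mulN 11 (look A) (look B)

theorem chk_true : chk = true := by decide +kernel

theorem chk_spec : ∀ A ∈ good, ∀ B ∈ good, look (mulN 5 A B) = mulN 11 (look A) (look B) := by
  intro A hA B hB
  have h := chk_true
  unfold chk at h
  rw [List.all_eq_true] at h
  have h1 := h A hA
  rw [List.all_eq_true] at h1
  have h2 := h1 B hB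
  exact beq_iff_eq.mp h2

def detZ (x : Q) : ZMod 11 :=
  ((x.1 : ZMod 11) - 1) * ((x.2.2.2 : ZMod 11) - 1) - (x.2.1 : ZMod 11) * (x.2.2.1 : ZMod 11)

theorem fpf_chk : ∀ A ∈ good, A ≠ (1, 0, 0, 1) → detZ (look A) ≠ 0 := by decide +kernel

theorem good_spec' : ∀ a b c d : Fin 5, (a.val * d.val) % 5 = (b.val * c.val + 1) % 5 →
    (a.val, b.val, c.val, d.val) ∈ good := by decide +kernel

theorem good_spec (a b c d : ℕ) (ha : a < 5) (hb : b < 5) (hc : c < 5) (hd : d < 5)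
    (h : (a * d) % 5 = (b * c + 1) % 5) : (a, b, c, d) ∈ good :=
  good_spec' ⟨a, ha⟩ ⟨b, hb⟩ ⟨c, hc⟩ ⟨d, hd⟩ h

instance fact11 : Fact (Nat.Prime 11) := ⟨by norm_num⟩

abbrev G := Matrix.SpecialLinearGroup (Fin 2) (ZMod 5)
abbrev V := Fin 2 → ZMod 11

def toMat (x : Q) : Matrix (Fin 2) (Fin 2) (ZMod 11) :=
  !![(x.1 : ZMod 11), (x.2.1 : ZMod 11); (x.2.2.1 : ZMod 11), (x.2.2.2 : ZMod 11)]

def qOf (A : G) : Q := ((A.1 0 0).val, (A.1 0 1).val, (A.1 1 0).val, (A.1 1 1).val)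

theorem qOf_mem (A : G) : qOf A ∈ good := by
  apply good_spec _ _ _ _ (ZMod.val_lt _) (ZMod.val_lt _) (ZMod.val_lt _) (ZMod.val_lt _)
  have hdet : A.1 0 0 * A.1 1 1 - A.1 0 1 * A.1 1 0 = 1 := by
    have := A.2
    rwa [Matrix.det_fin_two] at this
  have h2 : A.1 0 0 * A.1 1 1 = A.1 0 1 * A.1 1 0 + 1 := by
    linear_combination hdet
  have h3 := congrArg ZMod.val h2
  rw [ZMod.val_mul, ZMod.val_add, ZMod.val_mul] at h3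
  rw [h3]
  have h1 : (1 : ZMod 5).val = 1 := by decide
  rw [h1]
  omega

theorem qOf_mul (A B : G) : qOf (A * B) = mulN 5 (qOf A) (qOf B) := by
  simp only [qOf, mulN, Matrix.SpecialLinearGroup.coe_mul, Matrix.mul_apply, Fin.sum_univ_two,
    ZMod.val_add, ZMod.val_mul, Prod.mk.injEq]
  refine ⟨?_, ?_, ?_, ?_⟩ <;> omega

theorem toMat_mulN (x y : Q) : toMat (mulN 11 x y) = toMat x * toMat y := by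
  simp only [toMat, mulN, Matrix.mul_fin_two, ZMod.natCast_mod, Nat.cast_add, Nat.cast_mul]

theorem qOf_one : qOf (1 : G) = (1, 0, 0, 1) := by
  simp only [qOf, Matrix.SpecialLinearGroup.coe_one, Prod.mk.injEq]
  refine ⟨?_, ?_, ?_, ?_⟩ <;> decide

theorem eq_one_of_qOf (A : G) (h : qOf A = (1, 0, 0, 1)) : A = 1 := by
  simp only [qOf, Prod.mk.injEq] at h
  obtain ⟨h00, h01, h10, h11⟩ := h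
  have e1 : (1 : ZMod 5).val = 1 := by decide
  have e0 : (0 : ZMod 5).val = 0 := by decide
  have inj := ZMod.val_injective 5
  apply Subtype.ext
  ext i j
  fin_cases i <;> fin_cases j
  · exact inj (by simpa [e1] using h00)
  · exact inj (by simpa [e0] using h01)
  · exact inj (by simpa [e0] using h10)
  · exact inj (by simpa [e1] using h11)

def fMat (A : G) : Matrix (Fin 2) (Fin 2) (ZMod 11) := toMat (look (qOf A))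

theorem fMat_mul (A B : G) : fMat (A * B) = fMat A * fMat B := by
  unfold fMat
  rw [qOf_mul, chk_spec _ (qOf_mem A) _ (qOf_mem B), toMat_mulN]

theorem fMat_one : fMat (1 : G) = 1 := by
  unfold fMat
  rw [qOf_one]
  have : look (1, 0, 0, 1) = (1, 0, 0, 1) := by decide
  rw [this]
  ext i j
  fin_cases i <;> fin_cases j <;> simp [toMat]

theorem fMat_fpf (A : G) (hA : A ≠ 1) (v : V) (hv : fMat A *ᵥ v = v) : v = 0 := by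
  have hq : qOf A ≠ (1, 0, 0, 1) := fun h => hA (eq_one_of_qOf A h)
  have hdet : (fMat A - 1).det ≠ 0 := by
    have h := fpf_chk _ (qOf_mem A) hq
    unfold fMat
    rw [Matrix.det_fin_two]
    simpa [toMat, detZ] using h
  apply Matrix.eq_zero_of_mulVec_eq_zero hdet
  rw [Matrix.sub_mulVec, hv, Matrix.one_mulVec, sub_self]

def actEquiv (A : G) : Multiplicative V ≃* Multiplicative V where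
  toFun n := Multiplicative.ofAdd (fMat A *ᵥ Multiplicative.toAdd n)
  invFun n := Multiplicative.ofAdd (fMat A⁻¹ *ᵥ Multiplicative.toAdd n)
  left_inv n := by
    simp only [toAdd_ofAdd, Matrix.mulVec_mulVec, ← fMat_mul, inv_mul_cancel, fMat_one,
      Matrix.one_mulVec, ofAdd_toAdd]
  right_inv n := by
    simp only [toAdd_ofAdd, Matrix.mulVec_mulVec, ← fMat_mul, mul_inv_cancel, fMat_one,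
      Matrix.one_mulVec, ofAdd_toAdd]
  map_mul' a b := by
    simp only [toAdd_mul, Matrix.mulVec_add, ofAdd_add]

def φ : G →* MulAut (Multiplicative V) where
  toFun := actEquiv
  map_one' := by
    ext n
    simp [actEquiv, fMat_one]
  map_mul' A B := by
    apply MulEquiv.ext
    intro n
    show Multiplicative.ofAdd (fMat (A * B) *ᵥ Multiplicative.toAdd n) =
      Multiplicative.ofAdd (fMat A *ᵥ (fMat B *ᵥ Multiplicative.toAdd n))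
    rw [fMat_mul, Matrix.mulVec_mulVec]

theorem φ_fpf : ∀ g : G, g ≠ 1 → ∀ n : Multiplicative V, φ g n = n → n = 1 := by
  intro g hg n hn
  have h1 : fMat g *ᵥ Multiplicative.toAdd n = Multiplicative.toAdd n := by
    have := congrArg Multiplicative.toAdd hn
    simpa [φ, actEquiv] using this
  have h2 := fMat_fpf g hg _ h1
  have : n = Multiplicative.ofAdd (Multiplicative.toAdd n) := rfl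
  rw [this, h2]; rfl

instance nontrivialV : Nontrivial (Multiplicative V) := by
  refine ⟨⟨Multiplicative.ofAdd 0, Multiplicative.ofAdd (fun _ => 1), ?_⟩⟩
  intro h
  have h1 := congrArg Multiplicative.toAdd h
  have h2 := congrFun h1 0
  revert h2
  simp only [toAdd_ofAdd, Pi.zero_apply]
  decide

instance nontrivialG : Nontrivial G := by
  refine ⟨⟨1, -1, ?_⟩⟩
  intro h
  have := congrArg (fun A : G => A.1 0 0) h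
  revert this
  simp only [Matrix.SpecialLinearGroup.coe_one, Matrix.SpecialLinearGroup.coe_neg]
  decide

theorem result :
    ∃ (L : Type) (_ : Group L) (_ : Finite L) (H : Subgroup L),
      Cfsg.IsFrobeniusComplement H ∧ Nonempty (H ≃* Matrix.SpecialLinearGroup (Fin 2) (ZMod 5)) := by
  have hfinL : Finite (Multiplicative V ⋊[φ] G) := Finite.of_equiv _ SemidirectProduct.equivProd.symm
  refine ⟨Multiplicative V ⋊[φ] G, inferInstance, inferInstance,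
    (SemidirectProduct.inr : G →* Multiplicative V ⋊[φ] G).range, frobenius_of_fpf φ φ_fpf, ?_⟩
  exact ⟨(MonoidHom.ofInjective SemidirectProduct.inr_injective).symm⟩

end Cfsg.Agent.S3374
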