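import Cfsg.Statements.S3375
import Mathlib

set_option autoImplicit false
open Cfsg

namespace Cfsg.Agent.S3375

variable {H : Type*} [Group H]

/-- A subgroup inverted elementwise by an automorphism is commutative. -/
theorem comm_of_inverted (γ : MulAut H) (S : Subgroup H) (hinv : ∀ a ∈ S, γ a = a⁻¹) :
    IsMulCommutative S := by
  refine ⟨⟨fun a b => ?_⟩⟩
  apply Subtype.ext
  have h1 := hinv _ (S.mul_mem a.2 b.2)
  rw [map_mul, hinv _ a.2, hinv _ b.2] at h1
  have h2 : ((a : H)⁻¹ * (b : H)⁻¹)⁻¹ = (((a : H) * (b : H))⁻¹)⁻¹ := by rw [h1]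
  simpa using h2.symm

/-- Fixed-point-free involutory action on an invariant subgroup inverts it. -/
theorem inverted_of_fpf [Finite H] (γ : MulAut H) (hγ2 : ∀ h, γ (γ h) = h) (M : Subgroup H)
    (hM : ∀ h ∈ M, γ h ∈ M) (hfpf : ∀ h ∈ M, γ h = h → h = 1) : ∀ h ∈ M, γ h = h⁻¹ := by
  let f : M → M := fun h => ⟨(h : H)⁻¹ * γ h, M.mul_mem (M.inv_mem h.2) (hM _ h.2)⟩
  have hinj : Function.Injective f := by
    intro h k hhk
    have h1 : (h : H)⁻¹ * γ h = (k : H)⁻¹ * γ k := congrArg Subtype.val hhk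
    have h2 : γ ((k : H) * (h : H)⁻¹) = (k : H) * (h : H)⁻¹ := by
      rw [map_mul, map_inv]
      have : γ (k : H) = (k : H) * ((h : H)⁻¹ * γ h) := by rw [h1]; group
      rw [this]; group
    have h3 := hfpf _ (M.mul_mem k.2 (M.inv_mem h.2)) h2
    apply Subtype.ext
    have : (k : H) = h := by
      have := mul_inv_eq_one.mp h3
      exact this
    exact this.symm
  have hsurj : Function.Surjective f := Finite.surjective_of_injective hinj
  intro x hx
  obtain ⟨h, hh⟩ := hsurj ⟨x, hx⟩
  have hx' : x = (h : H)⁻¹ * γ h := (congrArg Subtype.val hh).symm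
  rw [hx', map_mul, map_inv, hγ2]
  group

theorem part_two [Finite H] (γ : MulAut H) (hγ2 : ∀ h, γ (γ h) = h)
    (hF : Nat.card {h : H // γ h = h} = 2) (M : Subgroup H) (hM : M.index = 2) :
    ∃ A : Subgroup H, A.index = 2 ∧ IsMulCommutative A ∧ (∀ a ∈ A, γ a ∈ A) ∧ ∀ a ∈ A, γ a = a⁻¹ := by
  -- Step 1: an invariant subgroup of index 2
  obtain ⟨N, hN, hNinv⟩ : ∃ N : Subgroup H, N.index = 2 ∧ ∀ h, γ h ∈ N ↔ h ∈ N := by
    by_cases hinv : ∀ h, γ h ∈ M ↔ h ∈ M
    · exact ⟨M, hM, hinv⟩
    · push Not at hinv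
      obtain ⟨a, ha⟩ := hinv
      let N : Subgroup H :=
        { carrier := {h | h ∈ M ↔ γ h ∈ M}
          one_mem' := by simp
          mul_mem' := by
            intro x y hx hy
            simp only [Set.mem_ofPred_eq] at hx hy ⊢
            rw [map_mul, Subgroup.mul_mem_iff_of_index_two hM, Subgroup.mul_mem_iff_of_index_two hM,
              hx, hy]
          inv_mem' := by
            intro x hx
            simp only [Set.mem_ofPred_eq] at hx ⊢
            rw [map_inv, inv_mem_iff, inv_mem_iff, hx] }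
      have hmemN : ∀ h, h ∈ N ↔ (h ∈ M ↔ γ h ∈ M) := fun h => Iff.rfl
      refine ⟨N, ?_, ?_⟩
      · rw [Subgroup.index_eq_two_iff]
        refine ⟨a, fun b => ?_⟩
        rw [hmemN, hmemN, map_mul, Subgroup.mul_mem_iff_of_index_two hM,
          Subgroup.mul_mem_iff_of_index_two hM]
        by_cases h1 : a ∈ M <;> by_cases h2 : γ a ∈ M <;> by_cases h3 : b ∈ M <;>
          by_cases h4 : γ b ∈ M <;> simp_all [Xor]
      · intro h
        rw [hmemN, hmemN, hγ2]
        tauto
  have hNinv' : ∀ h ∈ N, γ h ∈ N := fun h hh => (hNinv h).2 hh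
  -- the fixed subgroup
  let F : Subgroup H :=
    { carrier := {h | γ h = h}
      one_mem' := by simp
      mul_mem' := by
        intro x y hx hy
        simp only [Set.mem_ofPred_eq] at hx hy ⊢
        rw [map_mul, hx, hy]
      inv_mem' := by
        intro x hx
        simp only [Set.mem_ofPred_eq] at hx ⊢
        rw [map_inv, hx] }
  have hmemF : ∀ h, h ∈ F ↔ γ h = h := fun h => Iff.rfl
  have hFcard : Nat.card F = 2 := hF
  suffices hinverted : ∀ h ∈ N, γ h = h⁻¹ from
    ⟨N, hN, comm_of_inverted γ N hinverted, hNinv', hinverted⟩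
  by_cases hFN : F ≤ N
  · -- counting
    have hmem : ∀ h : H, h * (γ h)⁻¹ ∈ N := by
      intro h
      rw [Subgroup.mul_mem_iff_of_index_two hN, inv_mem_iff, hNinv]
    let φ : H ⧸ F → N := Quotient.lift (fun h : H => (⟨h * (γ h)⁻¹, hmem h⟩ : N)) (by
      intro a b hab
      have hab' : a⁻¹ * b ∈ F := QuotientGroup.leftRel_apply.mp hab
      rw [hmemF, map_mul, map_inv] at hab'
      apply Subtype.ext
      show a * (γ a)⁻¹ = b * (γ b)⁻¹
      have : γ b = γ a * (a⁻¹ * b) := by rw [← hab']; group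
      rw [this]; group)
    have hφinj : Function.Injective φ := by
      intro x y hxy
      induction x using Quotient.inductionOn with
      | h a =>
        induction y using Quotient.inductionOn with
        | h b =>
          have h1 : a * (γ a)⁻¹ = b * (γ b)⁻¹ := congrArg Subtype.val hxy
          apply Quotient.sound
          apply QuotientGroup.leftRel_apply.mpr
          rw [hmemF, map_mul, map_inv]
          have : (γ a)⁻¹ = a⁻¹ * (b * (γ b)⁻¹) := by rw [← h1]; group
          rw [this]; group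
    have hcard : Nat.card N ≤ Nat.card (H ⧸ F) := by
      have h1 := Subgroup.card_eq_card_quotient_mul_card_subgroup F
      have h2 := Subgroup.index_mul_card N
      rw [hFcard] at h1
      rw [hN] at h2
      omega
    have hbij := Function.Injective.bijective_of_nat_card_le hφinj hcard
    intro x hx
    obtain ⟨y, hy⟩ := hbij.2 ⟨x, hx⟩
    induction y using Quotient.inductionOn with
    | h a =>
      have hx' : x = a * (γ a)⁻¹ := (congrArg Subtype.val hy).symm
      rw [hx', map_mul, map_inv, hγ2]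
      group
  · -- fixed-point-free on N
    apply inverted_of_fpf γ hγ2 N hNinv'
    intro h hh hfix
    have hle : F ⊓ N ≤ F := inf_le_left
    have hdvd : Nat.card (F ⊓ N : Subgroup H) ∣ 2 := by
      rw [← hFcard]; exact Subgroup.card_dvd_of_le hle
    rcases (Nat.dvd_prime Nat.prime_two).1 hdvd with h1 | h2
    · have hbot : F ⊓ N = ⊥ := Subgroup.card_eq_one.mp h1
      have : h ∈ F ⊓ N := ⟨(hmemF h).2 hfix, hh⟩
      rw [hbot] at this
      exact Subgroup.mem_bot.mp this
    · exfalso
      apply hFN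
      have heq : F ⊓ N = F := Subgroup.eq_of_le_of_card_ge hle (by rw [h2, hFcard])
      rw [← heq]
      exact inf_le_right

theorem result {H : Type*} [Group H] [Finite H] (γ : MulAut H) (hγ : orderOf γ = 2) :
    ((∀ h : H, γ h = h → h = 1) → (∀ a b : H, a * b = b * a) ∧ ∀ h : H, γ h = h⁻¹) ∧
    ((Nat.card {h : H // γ h = h} = 2 ∧ ∃ M : Subgroup H, M.index = 2) →
      ∃ A : Subgroup H, A.index = 2 ∧ IsMulCommutative A ∧ (∀ a ∈ A, γ a ∈ A) ∧ ∀ a ∈ A, γ a = a⁻¹) := by
  have hγ2 : ∀ h, γ (γ h) = h := by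
    intro h
    have h1 : γ ^ 2 = 1 := by rw [← hγ]; exact pow_orderOf_eq_one γ
    have h2 : (γ ^ 2) h = h := by rw [h1]; rfl
    simpa [pow_two] using h2
  constructor
  · intro hfpf
    have hinv : ∀ h ∈ (⊤ : Subgroup H), γ h = h⁻¹ :=
      inverted_of_fpf γ hγ2 ⊤ (fun _ _ => Subgroup.mem_top _) (fun h _ => hfpf h)
    have hcomm := comm_of_inverted γ ⊤ hinv
    refine ⟨fun a b => ?_, fun h => hinv h (Subgroup.mem_top _)⟩
    exact setLike_mul_comm (s := (⊤ : Subgroup H)) (Subgroup.mem_top a) (Subgroup.mem_top b)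
  · rintro ⟨hF, M, hM⟩
    exact part_two γ hγ2 hF M hM

end Cfsg.Agent.S3375
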