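import Mathlib
import Cfsg.Statements.S3376
import Cfsg.Agent.Lib.Helper62.Wr162

set_option autoImplicit false
open Cfsg

namespace Cfsg.Agent.S3376

open Subgroup Cfsg.Agent.Lib.Helper62.Wr162
open scoped IsMulCommutative Pointwise

set_option maxHeartbeats 1000000 in
theorem structure_162 {G : Type*} [Group G] [Finite G] (hG : Nat.card G = 162)
    (S : Sylow 3 G) (T : Sylow 2 G) (J : Subgroup G) [hJn : J.Normal] (hJcomm : IsMulCommutative J)
    (hJexp : ∀ a ∈ J, a ^ 3 = 1) (hJcard : Nat.card J = 27)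
    (Z : Subgroup G) (hZ : Z = (S : Subgroup G) ⊓ Subgroup.centralizer ((S : Subgroup G) : Set G))
    (hZcard : Nat.card Z = 3)
    (hZT : Z ≤ Subgroup.centralizer ((T : Subgroup G) : Set G))
    (hST : (S : Subgroup G) ⊓ Subgroup.centralizer ((T : Subgroup G) : Set G) ≠ S) :
    ∃ (H : Subgroup G) (z : G), H.index = 9 ∧ H.normalCore = ⊥ ∧ (∀ g : G, g * z = z * g) ∧
      z ≠ 1 ∧ z ^ 3 = 1 ∧ z ∉ H := by
  classical
  have : Fact (Nat.Prime 3) := ⟨Nat.prime_three⟩
  have : Fact (Nat.Prime 2) := ⟨Nat.prime_two⟩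
  -- orders of the Sylow subgroups
  have hS : Nat.card (S : Subgroup G) = 81 := by
    rw [Sylow.card_eq_multiplicity, hG]
    have : (162 : ℕ).factorization 3 = 4 := by decide +kernel
    rw [this]; norm_num
  have hT : Nat.card (T : Subgroup G) = 2 := by
    rw [Sylow.card_eq_multiplicity, hG]
    have : (162 : ℕ).factorization 2 = 1 := by decide +kernel
    rw [this]; norm_num
  have hSidx : (S : Subgroup G).index = 2 := by
    have := (S : Subgroup G).card_mul_index
    rw [hS, hG] at this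
    omega
  have hSn : (S : Subgroup G).Normal := Subgroup.normal_of_index_eq_two hSidx
  -- the involution t
  have : Nontrivial (T : Subgroup G) := by
    rw [← Finite.one_lt_card_iff_nontrivial, hT]; norm_num
  obtain ⟨t', ht'⟩ := exists_ne (1 : (T : Subgroup G))
  obtain ⟨t, htT⟩ := t'
  have ht1 : t ≠ 1 := fun h => ht' (Subtype.ext h)
  have ht2 : t * t = 1 := by
    have := pow_card_eq_one' (G := (T : Subgroup G)) (x := ⟨t, htT⟩)
    rw [hT] at this
    have := congrArg Subtype.val this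
    simpa [pow_two] using this
  have htinv : t⁻¹ = t := inv_eq_of_mul_eq_one_left ht2
  have hTel : ∀ u ∈ (T : Subgroup G), u = 1 ∨ u = t := by
    intro u hu
    by_contra hcon
    push Not at hcon
    obtain ⟨y, hy, hy2⟩ := (Nat.card_eq_two_iff' (1 : (T : Subgroup G))).mp hT
    have e1 := hy2 ⟨u, hu⟩ (fun h => hcon.1 (congrArg Subtype.val h))
    have e2 := hy2 ⟨t, htT⟩ (fun h => ht1 (congrArg Subtype.val h))
    exact hcon.2 (congrArg Subtype.val (e1.trans e2.symm))
  have htS : t ∉ (S : Subgroup G) := by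
    intro h
    have := pow_card_eq_one' (G := (S : Subgroup G)) (x := ⟨t, h⟩)
    rw [hS] at this
    have h81 : t ^ 81 = 1 := by simpa using congrArg Subtype.val this
    have : t ^ 81 = t := by
      rw [show 81 = 2 * 40 + 1 by norm_num, pow_succ, pow_mul, pow_two, ht2, one_pow, one_mul]
    exact ht1 (this.symm.trans h81)
  have hmulS : ∀ a b : G, a * b ∈ (S : Subgroup G) ↔ (a ∈ (S : Subgroup G) ↔ b ∈ (S : Subgroup G)) :=
    fun a b => Subgroup.mul_mem_iff_of_index_two hSidx
  -- J ≤ S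
  have hJS : J ≤ (S : Subgroup G) := by
    intro a ha
    have h2 : a * a ∈ (S : Subgroup G) := (hmulS a a).mpr Iff.rfl
    have h3 := hJexp a ha
    have : a = (a * a)⁻¹ := by
      rw [eq_inv_iff_mul_eq_one, ← h3, pow_succ, pow_two, mul_assoc]
    rw [this]; exact inv_mem h2
  -- a generator of Z
  have : Nontrivial Z := by
    rw [← Finite.one_lt_card_iff_nontrivial, hZcard]; norm_num
  obtain ⟨z', hz'⟩ := exists_ne (1 : Z)
  obtain ⟨z, hzZ⟩ := z'
  have hz1 : z ≠ 1 := fun h => hz' (Subtype.ext h)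
  have hz3 : z ^ 3 = 1 := by
    have := pow_card_eq_one' (G := Z) (x := ⟨z, hzZ⟩)
    rw [hZcard] at this
    simpa using congrArg Subtype.val this
  have hZgen : ∀ w ∈ Z, ∃ k : ℤ, z ^ k = w := by
    intro w hw
    have htop := zpowers_eq_top_of_prime_card (G := Z) (p := 3) hZcard (g := ⟨z, hzZ⟩) hz'
    have : (⟨w, hw⟩ : Z) ∈ zpowers (⟨z, hzZ⟩ : Z) := by rw [htop]; trivial
    obtain ⟨k, hk⟩ := mem_zpowers_iff.mp this
    exact ⟨k, by simpa using congrArg Subtype.val hk⟩
  -- any subgroup containing a nontrivial element of Z contains z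
  have hZmin : ∀ D : Subgroup G, ∀ w ∈ Z, w ≠ 1 → w ∈ D → z ∈ D := by
    intro D w hw hw1 hwD
    obtain ⟨k, rfl⟩ := hZgen w hw
    rcases mem_of_zpow_mem hz3 D k hwD with h | h
    · exact absurd h hw1
    · exact h
  have hzS : z ∈ (S : Subgroup G) := by
    rw [hZ] at hzZ; exact (mem_inf.mp hzZ).1
  have hzcS : ∀ s ∈ (S : Subgroup G), s * z = z * s := by
    intro s hs
    rw [hZ] at hzZ
    exact (mem_centralizer_iff.mp (mem_inf.mp hzZ).2) s hs
  have hzt : t * z = z * t := (mem_centralizer_iff.mp (hZT hzZ)) t htT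
  -- z is central
  have hzc : ∀ g : G, g * z = z * g := by
    intro g
    by_cases hg : g ∈ (S : Subgroup G)
    · exact hzcS g hg
    · have hgt : g * t ∈ (S : Subgroup G) := (hmulS g t).mpr ⟨fun h => absurd h hg, fun h => absurd h htS⟩
      have e := hzcS _ hgt
      have : g = g * t * t := by rw [mul_assoc, ht2, mul_one]
      calc g * z = g * t * t * z := by rw [← this]
        _ = g * t * (t * z) := by rw [mul_assoc]
        _ = g * t * z * t := by rw [hzt, ← mul_assoc]
        _ = z * (g * t) * t := by rw [e]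
        _ = z * g := by rw [mul_assoc, ← this]
  -- z ∈ J
  have hJne : J ≠ ⊥ := by
    intro h
    rw [h, Subgroup.card_bot] at hJcard
    norm_num at hJcard
  have hzJ : z ∈ J := by
    obtain ⟨x, hxJ, hx1, hxZ⟩ := exists_mem_inf_centralizer (p := 3) (S : Subgroup G) S.isPGroup' J hJS hJne
    rw [← hZ] at hxZ
    exact hZmin J x hxZ hx1 hxJ
  -- the automorphism τ of J
  let τ : J ≃* J := MulAut.conjNormal t
  have hτval : ∀ x : J, ((τ x : J) : G) = t * x * t := by
    intro x
    have : ((τ x : J) : G) = t * x * t⁻¹ := MulAut.conjNormal_apply t x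
    rw [this, htinv]
  have hτ : ∀ x, τ (τ x) = x := by
    intro x
    apply Subtype.ext
    rw [hτval, hτval]
    calc t * (t * x * t) * t = (t * t) * x * (t * t) := by group
      _ = x := by rw [ht2, one_mul, mul_one]
  have h3J : ∀ x : J, x ^ 3 = 1 := fun x => Subtype.ext (by simpa using hJexp x x.2)
  have hzJ1 : (⟨z, hzJ⟩ : J) ≠ 1 := fun h => hz1 (congrArg Subtype.val h)
  have hzτ : τ ⟨z, hzJ⟩ = ⟨z, hzJ⟩ := by
    apply Subtype.ext
    rw [hτval]
    change t * z * t = z
    rw [hzt, mul_assoc, ht2, mul_one]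
  obtain ⟨J₁, hJ₁τ, hzJ₁, hJ₁sup⟩ := exists_invariant_compl h3J τ hτ ⟨z, hzJ⟩ hzJ1 hzτ
  have hJ₁card : Nat.card J₁ = 9 := by
    have h3' : (⟨z, hzJ⟩ : J) ^ 3 = 1 := h3J _
    have := card_compl_three hzJ1 h3' J₁ hzJ₁ hJ₁sup
    rw [hJcard] at this
    omega
  -- A = J₁ inside G
  set A : Subgroup G := J₁.map J.subtype with hA
  have hAcard : Nat.card A = 9 := by
    rw [hA, Subgroup.card_map_of_injective J.subtype_injective, hJ₁card]
  have hAJ : A ≤ J := by
    rw [hA]; exact Subgroup.map_subtype_le J₁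
  have hAmem : ∀ a : G, a ∈ A ↔ ∃ h : a ∈ J, (⟨a, h⟩ : J) ∈ J₁ := by
    intro a
    rw [hA, mem_map]
    constructor
    · rintro ⟨x, hx, rfl⟩
      exact ⟨x.2, hx⟩
    · rintro ⟨h, hx⟩
      exact ⟨⟨a, h⟩, hx, rfl⟩
  have hzA : z ∉ A := by
    intro h
    obtain ⟨_, h2⟩ := (hAmem z).mp h
    exact hzJ₁ h2
  have hAt : ∀ a ∈ A, t * a * t ∈ A := by
    intro a ha
    obtain ⟨h, hx⟩ := (hAmem a).mp ha
    have h1 := hJ₁τ _ hx
    have h2 : ((τ ⟨a, h⟩ : J) : G) ∈ A := by
      rw [hA]; exact mem_map.mpr ⟨_, h1, rfl⟩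
    rw [hτval] at h2
    exact h2
  have hTA : (T : Subgroup G) ≤ normalizer (A : Set G) := by
    rw [Subgroup.le_normalizer_iff]
    intro u hu a ha
    rcases hTel u hu with rfl | rfl
    · simpa using ha
    · rw [htinv]; exact hAt a ha
  have hAT : A ⊓ (T : Subgroup G) = ⊥ := by
    rw [eq_bot_iff]
    intro x hx
    obtain ⟨hxA, hxT⟩ := mem_inf.mp hx
    rcases hTel x hxT with rfl | rfl
    · exact Subgroup.one_mem _
    · exact absurd (hJS (hAJ hxA)) htS
  set H : Subgroup G := (T : Subgroup G) ⊔ A with hH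
  have hHcard : Nat.card H = 18 := by
    rw [hH, card_sup_of_normalizes _ _ hTA hAT, hAcard, hT]
  have hHidx : H.index = 9 := by
    have := H.card_mul_index
    rw [hHcard, hG] at this
    omega
  have hHmem : ∀ x ∈ H, x ∈ A ∨ ∃ a ∈ A, x = t * a := by
    intro x hx
    have hcoe : ((H : Subgroup G) : Set G) = (T : Set G) * (A : Set G) :=
      Subgroup.coe_mul_of_left_le_normalizer_right _ A hTA
    have : x ∈ ((T : Subgroup G) : Set G) * (A : Set G) := hcoe ▸ (show x ∈ ((H : Subgroup G) : Set G) from hx)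
    obtain ⟨u, hu, a, ha, rfl⟩ := Set.mem_mul.mp this
    rcases hTel u hu with rfl | rfl
    · left; simpa using ha
    · right; exact ⟨a, ha, rfl⟩
  have hHS : ∀ x ∈ H, x ∈ (S : Subgroup G) → x ∈ A := by
    intro x hx hxS
    rcases hHmem x hx with h | ⟨a, ha, rfl⟩
    · exact h
    · exfalso
      have haS : a ∈ (S : Subgroup G) := hJS (hAJ ha)
      exact htS (((hmulS t a).mp hxS).mpr haS)
  have hzH : z ∉ H := fun h => hzA (hHS z h hzS)
  refine ⟨H, z, hHidx, ?_, hzc, hz1, hz3, hzH⟩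
  -- core-free
  set K := H.normalCore with hK
  have hKH : K ≤ H := Subgroup.normalCore_le H
  have hKn : K.Normal := Subgroup.normalCore_normal H
  by_contra hKne
  have hKS : K ⊓ (S : Subgroup G) = ⊥ := by
    by_contra hne
    obtain ⟨x, hxN, hx1, hxZ⟩ := exists_mem_inf_centralizer (p := 3) (S : Subgroup G) S.isPGroup'
      (K ⊓ (S : Subgroup G)) inf_le_right hne
    rw [← hZ] at hxZ
    have := hZmin (K ⊓ (S : Subgroup G)) x hxZ hx1 hxN
    exact hzH (hKH (mem_inf.mp this).1)
  obtain ⟨k', hk'⟩ := Subgroup.ne_bot_iff_exists_ne_one.mp hKne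
  obtain ⟨k, hkK⟩ := k'
  have hk1 : k ≠ 1 := fun h => hk' (Subtype.ext h)
  have hkS : k ∉ (S : Subgroup G) := by
    intro h
    have : k ∈ K ⊓ (S : Subgroup G) := mem_inf.mpr ⟨hkK, h⟩
    rw [hKS, mem_bot] at this
    exact hk1 this
  -- k is central
  have hkc : ∀ g : G, g * k * g⁻¹ = k := by
    intro g
    have h1 : g * k * g⁻¹ ∈ K := hKn.conj_mem k hkK g
    have h2 : g * k * g⁻¹ ∉ (S : Subgroup G) := by
      intro h
      apply hkS
      have := hSn.conj_mem _ h g⁻¹
      simpa [mul_assoc] using this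
    have h3 : k⁻¹ ∉ (S : Subgroup G) := fun h => hkS (by simpa using inv_mem h)
    have h4 : g * k * g⁻¹ * k⁻¹ ∈ (S : Subgroup G) :=
      (hmulS _ _).mpr ⟨fun h => absurd h h2, fun h => absurd h h3⟩
    have h5 : g * k * g⁻¹ * k⁻¹ ∈ K ⊓ (S : Subgroup G) := mem_inf.mpr ⟨mul_mem h1 (inv_mem hkK), h4⟩
    rw [hKS, mem_bot] at h5
    exact mul_inv_eq_one.mp h5
  have hkc' : ∀ g : G, g * k = k * g := by
    intro g
    have := hkc g
    calc g * k = g * k * g⁻¹ * g := by group
      _ = k * g := by rw [this]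
  have hkk : k * k = 1 := by
    have h4 : k * k ∈ (S : Subgroup G) := (hmulS k k).mpr Iff.rfl
    have h5 : k * k ∈ K ⊓ (S : Subgroup G) := mem_inf.mpr ⟨mul_mem hkK hkK, h4⟩
    rw [hKS, mem_bot] at h5
    exact h5
  -- k = t * a
  rcases hHmem k (hKH hkK) with h | ⟨a, ha, hka⟩
  · exact hkS (hJS (hAJ h))
  · have hat : a * t = t * a := by
      have := hkc' t
      rw [hka] at this
      -- t * (t * a) = t * a * t
      have h2 : t * (t * a) = t * (a * t) := by rw [this, mul_assoc]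
      exact (mul_left_cancel h2).symm
    have haa : a * a = 1 := by
      rw [hka] at hkk
      calc a * a = (t * t) * (a * a) := by rw [ht2, one_mul]
        _ = t * (t * a) * a := by group
        _ = t * (a * t) * a := by rw [hat]
        _ = t * a * (t * a) := by group
        _ = 1 := hkk
    have ha1 : a = 1 := by
      have h3 := hJexp a (hAJ ha)
      calc a = a ^ 3 * (a * a)⁻¹ := by group
        _ = 1 := by rw [h3, haa]; simp
    have hkt : k = t := by rw [hka, ha1, mul_one]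
    apply hST
    apply le_antisymm inf_le_left
    intro s hs
    refine mem_inf.mpr ⟨hs, ?_⟩
    rw [mem_centralizer_iff]
    intro u hu
    rcases hTel u hu with rfl | rfl
    · simp
    · rw [← hkt]; exact (hkc' s).symm

theorem result {G : Type*} [Group G] [Finite G] (hG : Nat.card G = 162)
    (S : Sylow 3 G) (T : Sylow 2 G) (J : Subgroup G) [hJn : J.Normal] (hJcomm : IsMulCommutative J)
    (hJexp : ∀ a ∈ J, a ^ 3 = 1) (hJcard : Nat.card J = 27)
    (Z : Subgroup G) (hZ : Z = (S : Subgroup G) ⊓ Subgroup.centralizer ((S : Subgroup G) : Set G)) (hZcard : Nat.card Z = 3)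
    (hZT : Z ≤ Subgroup.centralizer ((T : Subgroup G) : Set G))
    (hST : (S : Subgroup G) ⊓ Subgroup.centralizer ((T : Subgroup G) : Set G) ≠ S) :
    Nonempty (G ≃* Subgroup.centralizer ({Equiv.swap (0 : Fin 9) 1 * Equiv.swap 1 2 * Equiv.swap 3 4 * Equiv.swap 4 5 * Equiv.swap 6 7 * Equiv.swap 7 8} : Set (Equiv.Perm (Fin 9)))) := by
  obtain ⟨H, z, hidx, hcore, hzc, hz1, hz3, hzH⟩ :=
    structure_162 hG S T J hJcomm hJexp hJcard Z hZ hZcard hZT hST
  exact iso_of_coreFree hG H hidx hcore z hzc hz1 hz3 hzH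

end Cfsg.Agent.S3376
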