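import Mathlib
import Cfsg.Statements.S3379
-- import your own Cfsg.Agent.* helpers here

set_option autoImplicit false
open Cfsg

namespace Cfsg.Agent.S3379

private theorem coprime_aux {G : Type*} [Group G] [Finite G] (x y : G) (r : ℕ) (hr1 : 1 ≤ r)
    (hcl : Subgroup.closure {x, y} = ⊤)
    (hyN' : y ∈ commutator G)
    (hyN : ∀ z ∈ commutator G, ∃ k : ℕ, y ^ k = z)
    (hr : x⁻¹ * y * x = y ^ r) : Nat.Coprime (r - 1) (orderOf y) := by
  set M : Subgroup G := Subgroup.zpowers (y ^ (r - 1)) with hM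
  have hMn : M.Normal := by
    constructor
    intro z hz g
    obtain ⟨i, rfl⟩ := Subgroup.mem_zpowers_iff.mp hz
    have hg : g * y * g⁻¹ ∈ commutator G :=
      (inferInstance : (commutator G).Normal).conj_mem y hyN' g
    obtain ⟨j, hj⟩ := hyN _ hg
    have : g * (y ^ (r - 1)) ^ i * g⁻¹ = ((y ^ (r - 1)) ^ j) ^ i := by
      rw [← conj_zpow, ← conj_pow, ← hj, ← pow_mul, ← pow_mul, mul_comm]
    rw [this]
    exact Subgroup.zpow_mem _ (Subgroup.pow_mem _ (Subgroup.mem_zpowers _) _) _
  have hcomm : IsMulCommutative (G ⧸ M) := by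
    have hxy : (QuotientGroup.mk' M x) * (QuotientGroup.mk' M y) =
        (QuotientGroup.mk' M y) * (QuotientGroup.mk' M x) := by
      have h1 : QuotientGroup.mk' M (x⁻¹ * y * x) = QuotientGroup.mk' M y := by
        rw [hr]
        have : y ^ r = y * y ^ (r - 1) := by
          rw [← pow_succ']; congr 1; omega
        rw [this, map_mul]
        have : QuotientGroup.mk' M (y ^ (r - 1)) = 1 := by
          rw [QuotientGroup.mk'_apply, QuotientGroup.eq_one_iff]
          exact Subgroup.mem_zpowers _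
        rw [this, mul_one]
      rw [map_mul, map_mul, map_inv] at h1
      generalize QuotientGroup.mk' M x = a at h1 ⊢
      generalize QuotientGroup.mk' M y = b at h1 ⊢
      calc a * b = a * (a⁻¹ * b * a) := by rw [h1]
        _ = b * a := by group
    have hclQ : Subgroup.closure {QuotientGroup.mk' M x, QuotientGroup.mk' M y} = ⊤ := by
      have := MonoidHom.map_closure (QuotientGroup.mk' M) {x, y}
      rw [hcl, Set.image_pair] at this
      rw [← this, ← MonoidHom.range_eq_map, MonoidHom.range_eq_top]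
      exact QuotientGroup.mk'_surjective M
    have hc : IsMulCommutative (Subgroup.closure {QuotientGroup.mk' M x, QuotientGroup.mk' M y}) := by
      apply Subgroup.isMulCommutative_closure
      intro a ha b hb
      simp only [Set.mem_insert_iff, Set.mem_singleton_iff] at ha hb
      rcases ha with rfl | rfl <;> rcases hb with rfl | rfl
      · rfl
      · exact hxy
      · exact hxy.symm
      · rfl
    rw [hclQ] at hc
    exact ⟨⟨fun a b => setLike_mul_comm (s := (⊤ : Subgroup (G ⧸ M))) (Subgroup.mem_top a) (Subgroup.mem_top b)⟩⟩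
  have hle : commutator G ≤ M := Subgroup.Normal.quotient_commutative_iff_commutator_le.mp hcomm
  have hyM : y ∈ M := hle hyN'
  obtain ⟨i, hi⟩ := Subgroup.mem_zpowers_iff.mp hyM
  have h2 : y ^ (((r - 1 : ℕ) : ℤ) * i) = y ^ (1 : ℤ) := by
    rw [zpow_mul, zpow_natCast, hi, zpow_one]
  rw [zpow_eq_zpow_iff_modEq] at h2
  rw [← Nat.isCoprime_iff_coprime]
  obtain ⟨c, hc⟩ := h2.dvd
  exact ⟨i, c, by linarith⟩

/-- Let G be a finite group all of whose Sylow subgroups are cyclic. Then G is generated by two elements x and y of coprime orders n and m with x⁻¹yx = y^r, where gcd(r − 1, m) = 1 and r^n ≡ 1 (mod m). -/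
theorem result {G : Type*} [Group G] [Finite G]
    (hZ : ∀ (p : ℕ) [Fact p.Prime] (P : Sylow p G), IsCyclic (P : Subgroup G)) :
    ∃ (x y : G) (n m r : ℕ), Subgroup.closure {x, y} = ⊤ ∧ orderOf x = n ∧ orderOf y = m ∧
      x⁻¹ * y * x = y ^ r ∧ Nat.Coprime (r - 1) m ∧ Nat.Coprime n m ∧ 1 ≤ r ∧ r ^ n % m = 1 % m := by
  have hcp : ∀ (a b : G) (i : ℕ), a⁻¹ * b ^ i * a = (a⁻¹ * b * a) ^ i := by
    intro a b i
    have := conj_pow (a := a⁻¹) (b := b) (i := i)
    simpa using this.symm
  have hG : IsZGroup G := ⟨fun p hp P => @hZ p ⟨hp⟩ P⟩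
  obtain ⟨H, hH⟩ := Subgroup.exists_right_complement'_of_coprime hG.coprime_commutator_index
  have h1 : Abelianization G ≃* H := hH.symm.QuotientMulEquiv
  have hHc : IsCyclic H := isCyclic_of_surjective _ h1.surjective
  have hNc : IsCyclic (commutator G) := hG.isCyclic_commutator
  have hcop : (Nat.card (commutator G)).Coprime (Nat.card H) :=
    Nat.card_congr h1.toEquiv ▸ hG.coprime_commutator_index
  obtain ⟨x0, hx0⟩ := hHc.exists_generator
  obtain ⟨y0, hy0⟩ := hNc.exists_generator
  have hox : orderOf (x0 : G) = Nat.card H := by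
    rw [Subgroup.orderOf_coe]; exact orderOf_eq_card_of_forall_mem_zpowers hx0
  have hoy : orderOf (y0 : G) = Nat.card (commutator G) := by
    rw [Subgroup.orderOf_coe]; exact orderOf_eq_card_of_forall_mem_zpowers hy0
  -- every element of N is a natural power of y
  have hyN : ∀ z ∈ commutator G, ∃ k : ℕ, (y0 : G) ^ k = z := by
    intro z hz
    have := hy0 ⟨z, hz⟩
    rw [← mem_powers_iff_mem_zpowers, Submonoid.mem_powers_iff] at this
    obtain ⟨k, hk⟩ := this
    exact ⟨k, by simpa using congrArg Subtype.val hk⟩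
  have hxH : ∀ z ∈ H, ∃ k : ℕ, (x0 : G) ^ k = z := by
    intro z hz
    have := hx0 ⟨z, hz⟩
    rw [← mem_powers_iff_mem_zpowers, Submonoid.mem_powers_iff] at this
    obtain ⟨k, hk⟩ := this
    exact ⟨k, by simpa using congrArg Subtype.val hk⟩
  set x : G := (x0 : G) with hx
  set y : G := (y0 : G) with hy
  have hyN' : y ∈ commutator G := y0.2
  have hm_pos : 0 < orderOf y := orderOf_pos y
  -- closure
  have hcl : Subgroup.closure {x, y} = ⊤ := by
    rw [eq_top_iff, ← hH.sup_eq_top]
    apply sup_le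
    · intro z hz
      obtain ⟨k, rfl⟩ := hyN z hz
      exact Subgroup.pow_mem _ (Subgroup.subset_closure (by simp)) k
    · intro z hz
      obtain ⟨k, rfl⟩ := hxH z hz
      exact Subgroup.pow_mem _ (Subgroup.subset_closure (by simp)) k
  -- conjugation relation
  have hconj : x⁻¹ * y * x ∈ commutator G := by
    have := (inferInstance : (commutator G).Normal).conj_mem y hyN' x⁻¹
    simpa using this
  obtain ⟨k, hk⟩ := hyN _ hconj
  obtain ⟨r, hrdef⟩ : ∃ r, r = k + orderOf y := ⟨_, rfl⟩
  have hr : x⁻¹ * y * x = y ^ r := by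
    rw [hrdef, pow_add, pow_orderOf_eq_one, mul_one, hk]
  have hr1 : 1 ≤ r := by omega
  -- iterate
  have hiter : ∀ j : ℕ, (x ^ j)⁻¹ * y * x ^ j = y ^ (r ^ j) := by
    intro j
    induction j with
    | zero => simp
    | succ j ih =>
      have : (x ^ (j + 1))⁻¹ * y * x ^ (j + 1) = x⁻¹ * ((x ^ j)⁻¹ * y * x ^ j) * x := by
        rw [pow_succ]; group
      rw [this, ih, hcp, hr, ← pow_mul, pow_succ, mul_comm]
  have hpow : r ^ orderOf x % orderOf y = 1 % orderOf y := by
    have := hiter (orderOf x)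
    rw [pow_orderOf_eq_one] at this
    simp only [inv_one, one_mul, mul_one] at this
    have h2 : y ^ (r ^ orderOf x) = y ^ 1 := by rw [← this, pow_one]
    rw [pow_eq_pow_iff_modEq] at h2
    exact h2
  -- normal subgroup M = zpowers (y^(r-1))
  have hcopr : Nat.Coprime (r - 1) (orderOf y) :=
    coprime_aux x y r hr1 hcl hyN' hyN hr
  refine ⟨x, y, orderOf x, orderOf y, r, hcl, rfl, rfl, hr, hcopr, ?_, hr1, hpow⟩
  rw [hox, hoy]
  exact hcop.symm

end Cfsg.Agent.S3379
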