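import Cfsg.Statements.S3380
import Cfsg.Agent.Lib.Helper31.NormalEpp
import Cfsg.Agent.Lib.Helper31.Imprimitive

set_option autoImplicit false
open Cfsg

namespace Cfsg.Agent.S3380

open Cfsg.Agent.Lib.Helper31.Imprimitive Cfsg.Agent.Lib.Helper31.NormalEpp

/-- A nonzero translation of `Fin p` has order `p`. -/
theorem orderOf_addRight_fin {p : ℕ} [hp : Fact p.Prime] [NeZero p] (c : Fin p) (hc : c ≠ 0) :
    orderOf (Equiv.addRight c) = p := by
  have hpow : ∀ n : ℕ, ∀ i : Fin p, ((Equiv.addRight c) ^ n) i = i + n • c := by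
    intro n
    induction n with
    | zero => intro i; simp
    | succ n ih =>
      intro i
      rw [pow_succ, Equiv.Perm.mul_apply, ih, Equiv.coe_addRight, succ_nsmul]
      show i + c + n • c = i + (n • c + c)
      rw [add_comm (n • c) c]
      exact add_assoc i c (n • c)
  apply orderOf_eq_prime
  · ext i
    rw [hpow p i]
    have h1 : p • c = 0 := by
      have := card_nsmul_eq_zero' (G := Fin p) (x := c)
      rwa [Nat.card_eq_fintype_card, Fintype.card_fin] at this
    rw [h1, add_zero]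
    rfl
  · intro h
    have h2 := congrArg (fun σ : Equiv.Perm (Fin p) => σ 0) h
    simp only [Equiv.coe_addRight, zero_add, Equiv.Perm.one_apply] at h2
    exact hc h2

/-- Let a finite p-group G act faithfully and irreducibly on a non-trivial finite vector space V over the field with q elements (q prime), and suppose G is not cyclic, generalized quaternion, dihedral or semidihedral. Then G has a subgroup H of index p and V is the direct sum of p subspaces, each invariant under H, on none of which H acts faithfully, and which every element of G outside H permutes in a single p-cycle. -/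
theorem result
    (q : ℕ) [Fact q.Prime] {V : Type*} [AddCommGroup V] [Module (ZMod q) V] [Finite V] [Nontrivial V]
    {G : Type*} [Group G] [Finite G] (p : ℕ) [Fact p.Prime] (hG : IsPGroup p G)
    (ρ : G →* (V ≃ₗ[ZMod q] V)) (hρ : Function.Injective ρ)
    (hirr : ∀ W : Submodule (ZMod q) V, (∀ g : G, ∀ w ∈ W, ρ g w ∈ W) → W = ⊥ ∨ W = ⊤)
    (hnc : ¬ IsCyclic G) (hnq : ∀ n : ℕ, ¬ Nonempty (G ≃* QuaternionGroup n))
    (hnd : ∀ n : ℕ, ¬ Nonempty (G ≃* DihedralGroup n)) (hnsd : ¬ Cfsg.IsQuasiDihedral G) :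
    ∃ (H : Subgroup G) (W : Fin p → Submodule (ZMod q) V), H.index = p ∧
      iSup W = ⊤ ∧ iSupIndep W ∧
      (∀ h ∈ H, ∀ i, ∀ w ∈ W i, ρ h w ∈ W i) ∧
      (∀ i, ∃ h ∈ H, h ≠ 1 ∧ ∀ w ∈ W i, ρ h w = w) ∧
      ∀ g : G, g ∉ H → ∃ σ : Equiv.Perm (Fin p), orderOf σ = p ∧ ∀ i, (W i).map (ρ g : V →ₗ[ZMod q] V) = W (σ i) := by
  classical
  have hp := (Fact.out : p.Prime)
  have : NeZero p := ⟨hp.ne_zero⟩
  obtain ⟨z, u, hz1, hzp, hzc, hup, huz, hconj⟩ := exists_pair hG hnc hnq hnd hnsd
  have D : Data ρ p z u := ⟨hρ, hirr, hz1, hzp, hzc, hup, huz, hconj⟩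
  refine ⟨Subgroup.centralizer ({u} : Set G), fun i : Fin p => D.W i, D.index_centralizer hG,
    D.iSup_W hG, D.indep_W hG, ?_, ?_, ?_⟩
  · intro h hh i w hw
    rw [Subgroup.mem_centralizer_singleton_iff] at hh
    have hs : h * u * h⁻¹ = u * z ^ 0 := by
      rw [pow_zero, mul_one, hh, mul_inv_cancel_right]
    have := D.map_W hs hw
    rwa [add_zero] at this
  · intro i
    refine ⟨u * z ^ (i : ℕ), ?_, D.uz_ne_one i, fun w hw => D.mem_W.mp hw⟩
    rw [Subgroup.mem_centralizer_singleton_iff, mul_assoc, D.zpow_comm u]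
  · intro g hg
    obtain ⟨c, hc, hs⟩ := D.exists_conj g
    have hc0 : c ≠ 0 := by
      rintro rfl
      apply hg
      rw [Subgroup.mem_centralizer_singleton_iff]
      rw [pow_zero, mul_one] at hs
      calc g * u = (g * u * g⁻¹) * g := by group
        _ = u * g := by rw [hs]
    have hc0' : (⟨c, hc⟩ : Fin p) ≠ 0 := by
      intro h
      apply hc0
      have := congrArg Fin.val h
      simpa using this
    refine ⟨Equiv.addRight (⟨c, hc⟩ : Fin p), orderOf_addRight_fin _ hc0', ?_⟩
    intro i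
    show (D.W i).map _ = D.W ((i + ⟨c, hc⟩ : Fin p) : ℕ)
    rw [Fin.val_add, D.W_mod]
    exact D.map_W_eq hs i

end Cfsg.Agent.S3380
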