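import Cfsg.Statements.S3381
import Mathlib

set_option autoImplicit false
set_option linter.unusedSectionVars false
open Cfsg

namespace Cfsg.Agent.S3381

section

variable {q : ℕ} [Fact q.Prime] {V : Type*} [AddCommGroup V] [Module (ZMod q) V] [Finite V]
  {G : Type*} [Group G] [Finite G] (ρ : G →* (V ≃ₗ[ZMod q] V))

theorem rho_mul (a b : G) (v : V) : ρ (a * b) v = ρ a (ρ b v) := by
  rw [map_mul]; rfl

theorem rho_one (v : V) : ρ 1 v = v := by
  rw [map_one]; rfl

variable (hstab : ∀ v : V, v ≠ 0 → Nat.card {g : G // ρ g v = v} = 2)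
include hstab

theorem three_fix (v : V) (hv : v ≠ 0) (a b c : G) (hab : a ≠ b) (hac : a ≠ c) (hbc : b ≠ c)
    (ha : ρ a v = v) (hb : ρ b v = v) (hc : ρ c v = v) : False := by
  classical
  have h2 := hstab v hv
  let f : Fin 3 → {g : G // ρ g v = v} := ![⟨a, ha⟩, ⟨b, hb⟩, ⟨c, hc⟩]
  have hinj : Function.Injective f := by
    intro i j hij
    fin_cases i <;> fin_cases j <;> simp [f] at hij <;> first | rfl | (exfalso; simp_all)
  have := Nat.card_le_card_of_injective f hinj
  rw [h2] at this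
  simp at this

theorem exists_invol (v : V) (hv : v ≠ 0) : ∃ s : G, s ≠ 1 ∧ ρ s v = v := by
  classical
  have h2 := hstab v hv
  by_contra hcon
  push Not at hcon
  have : Subsingleton {g : G // ρ g v = v} := by
    constructor
    intro a b
    apply Subtype.ext
    have ha : (a : G) = 1 := by
      by_contra h; exact h (by_contra fun h' => hcon a h a.2) 
    have hb : (b : G) = 1 := by
      by_contra h; exact h (by_contra fun h' => hcon b h b.2)
    rw [ha, hb]
  have hle : Nat.card {g : G // ρ g v = v} ≤ 1 := Finite.card_le_one_iff_subsingleton.mpr this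
  omega


/-- A central involution not fixing `w` negates it. -/
theorem central_neg_of_not_fix (t : G) (ht1 : t ≠ 1) (htt : t * t = 1)
    (htc : ∀ g : G, g * t = t * g) (w : V) (hw : w ≠ 0) (hnf : ρ t w ≠ w) : ρ t w = -w := by
  obtain ⟨s, hs1, hsw⟩ := exists_invol ρ hstab w hw
  have hst : s ≠ t := by
    intro h; rw [h] at hsw; exact hnf hsw
  have hu : w + ρ t w = 0 := by
    by_contra hu
    have htu : ρ t (w + ρ t w) = w + ρ t w := by
      rw [map_add, ← rho_mul, htt, rho_one, add_comm]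
    have hsu : ρ s (w + ρ t w) = w + ρ t w := by
      rw [map_add, ← rho_mul, htc s, rho_mul, hsw]
    exact three_fix ρ hstab _ hu 1 t s (Ne.symm ht1) (Ne.symm hs1) (Ne.symm hst)
      (rho_one ρ _) htu hsu
  exact (neg_eq_of_add_eq_zero_right hu).symm

/-- A central involution fixes no nonzero vector. -/
theorem central_no_fix (hρ : Function.Injective ρ) (t : G) (ht1 : t ≠ 1) (htt : t * t = 1)
    (htc : ∀ g : G, g * t = t * g) (v : V) (hv : v ≠ 0) : ρ t v ≠ v := by
  intro hfix
  have hall : ∀ w : V, ρ t w = w := by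
    intro w
    by_contra hw
    have hw0 : w ≠ 0 := by
      intro h0; rw [h0, map_zero] at hw; exact hw rfl
    have hneg := central_neg_of_not_fix ρ hstab t ht1 htt htc w hw0 hw
    have hx : ρ t (v + w) ≠ v + w := by
      intro h
      rw [map_add, hfix] at h
      exact hw (add_left_cancel h)
    have hx0 : v + w ≠ 0 := by
      intro h0; rw [h0, map_zero] at hx; exact hx rfl
    have hnegx := central_neg_of_not_fix ρ hstab t ht1 htt htc (v + w) hx0 hx
    rw [map_add, hfix, hneg, neg_add] at hnegx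
    have hvv : v = -v := add_right_cancel hnegx
    -- 2 ≠ 0 in ZMod q since w ≠ -w
    have h2 : (2 : ZMod q) ≠ 0 := by
      intro h2
      apply hw
      rw [hneg]
      have : (2 : ZMod q) • w = 0 := by rw [h2, zero_smul]
      rw [two_smul] at this
      exact (eq_neg_of_add_eq_zero_left this).symm
    have h2v : (2 : ZMod q) • v = 0 := by
      rw [two_smul]
      nth_rewrite 2 [hvv]
      exact add_neg_cancel v
    rcases smul_eq_zero.mp h2v with h | h
    · exact h2 h
    · exact hv h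
  have : ρ t = ρ 1 := by
    ext w
    rw [hall w, rho_one]
  exact ht1 (hρ this)

theorem central_neg (hρ : Function.Injective ρ) (t : G) (ht1 : t ≠ 1) (htt : t * t = 1)
    (htc : ∀ g : G, g * t = t * g) (w : V) : ρ t w = -w := by
  by_cases hw : w = 0
  · rw [hw, map_zero, neg_zero]
  · exact central_neg_of_not_fix ρ hstab t ht1 htt htc w hw
      (central_no_fix ρ hstab hρ t ht1 htt htc w hw)

theorem two_ne_zero_of_central [Nontrivial V] (hρ : Function.Injective ρ) (t : G) (ht1 : t ≠ 1)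
    (htt : t * t = 1) (htc : ∀ g : G, g * t = t * g) : (2 : ZMod q) ≠ 0 := by
  obtain ⟨w, hw⟩ := exists_ne (0 : V)
  intro h2
  apply central_no_fix ρ hstab hρ t ht1 htt htc w hw
  rw [central_neg ρ hstab hρ t ht1 htt htc w]
  have : (2 : ZMod q) • w = 0 := by rw [h2, zero_smul]
  rw [two_smul] at this
  exact (eq_neg_of_add_eq_zero_left this).symm

theorem central_unique (hρ : Function.Injective ρ) (t z : G) (ht1 : t ≠ 1) (htt : t * t = 1)
    (htc : ∀ g : G, g * t = t * g) (hz1 : z ≠ 1) (hzz : z * z = 1)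
    (hzc : ∀ g : G, g * z = z * g) : t = z := by
  apply hρ
  ext w
  rw [central_neg ρ hstab hρ t ht1 htt htc w, central_neg ρ hstab hρ z hz1 hzz hzc w]

end

section counting

variable {q : ℕ} [Fact q.Prime] {V : Type*} [AddCommGroup V] [Module (ZMod q) V] [Fintype V]
  [DecidableEq V] {G : Type*} [Group G] [Fintype G] [DecidableEq G] (ρ : G →* (V ≃ₗ[ZMod q] V))

/-- The fixed vectors of `g`. -/
def Fx (g : G) : Finset V := Finset.univ.filter (fun v => ρ g v = v)

theorem mem_Fx (g : G) (v : V) : v ∈ Fx ρ g ↔ ρ g v = v := by simp [Fx]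

theorem zero_mem_Fx (g : G) : (0 : V) ∈ Fx ρ g := by simp [Fx]

theorem Fx_card_pos (g : G) : 0 < (Fx ρ g).card := Finset.card_pos.mpr ⟨0, zero_mem_Fx ρ g⟩

/-- The involutions other than `z`. -/
def Tset (z : G) : Finset G := Finset.univ.filter (fun t => t ≠ 1 ∧ t * t = 1 ∧ t ≠ z)

theorem mem_Tset (z t : G) : t ∈ Tset z ↔ t ≠ 1 ∧ t * t = 1 ∧ t ≠ z := by simp [Tset]

variable (hstab : ∀ v : V, v ≠ 0 → Nat.card {g : G // ρ g v = v} = 2)
include hstab

theorem prod_le (s t : G) (hs : s ≠ 1) (ht : t ≠ 1) (hst : s ≠ t) :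
    (Fx ρ s).card * (Fx ρ t).card ≤ Fintype.card V := by
  rw [← Finset.card_product, ← Finset.card_univ]
  apply Finset.card_le_card_of_injOn (fun p : V × V => p.1 + p.2)
  · intro p _; exact Finset.mem_univ _
  · rintro ⟨a, b⟩ hab ⟨a', b'⟩ hab' heq
    simp only [Finset.coe_product, Set.mem_prod, Finset.mem_coe, mem_Fx] at hab hab'
    simp only at heq
    have hd : a - a' = b' - b := by
      rw [sub_eq_sub_iff_add_eq_add, heq, add_comm]
    have hsd : ρ s (a - a') = a - a' := by rw [map_sub, hab.1, hab'.1]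
    have htd : ρ t (a - a') = a - a' := by rw [hd, map_sub, hab'.2, hab.2]
    have hd0 : a - a' = 0 := by
      by_contra hne
      exact three_fix ρ hstab _ hne 1 s t (Ne.symm hs) (Ne.symm ht) hst (rho_one ρ _) hsd htd
    have h1 : a = a' := sub_eq_zero.mp hd0
    have h2 : b = b' := by
      rw [hd0] at hd
      exact (sub_eq_zero.mp hd.symm).symm
    rw [h1, h2]

theorem prod_eq (h2 : (2 : ZMod q) ≠ 0) (z : G) (hz1 : z ≠ 1) (hzz : z * z = 1)
    (hzneg : ∀ w : V, ρ z w = -w) (t : G) (ht : t ≠ 1) (htt : t * t = 1) (htz : t ≠ z) :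
    (Fx ρ t).card * (Fx ρ (t * z)).card = Fintype.card V := by
  have htz1 : t * z ≠ 1 := by
    intro h
    apply htz
    have h1 : t = z⁻¹ := eq_inv_of_mul_eq_one_left h
    have h2 : z⁻¹ = z := inv_eq_of_mul_eq_one_left hzz
    rw [h1, h2]
  have httz : t ≠ t * z := by
    intro h
    apply hz1
    have : t * 1 = t * z := by rw [mul_one]; exact h
    exact (mul_left_cancel this).symm
  apply le_antisymm (prod_le ρ hstab t (t * z) ht htz1 httz)
  rw [← Finset.card_product, ← Finset.card_univ]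
  apply Finset.card_le_card_of_surjOn (fun p : V × V => p.1 + p.2)
  intro v _
  have htt' : ∀ w : V, ρ t (ρ t w) = w := by
    intro w; rw [← rho_mul, htt, rho_one]
  refine ⟨((2 : ZMod q)⁻¹ • (v + ρ t v), (2 : ZMod q)⁻¹ • (v - ρ t v)), ?_, ?_⟩
  · simp only [Finset.coe_product, Set.mem_prod, Finset.mem_coe, mem_Fx]
    constructor
    · rw [map_smul, map_add, htt', add_comm]
    · rw [rho_mul, hzneg, map_neg, map_smul, map_sub, htt', ← smul_neg, neg_sub]
  · simp only
    rw [← smul_add]
    have : v + ρ t v + (v - ρ t v) = (2 : ZMod q) • v := by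
      rw [two_smul]; abel
    rw [this, smul_smul, inv_mul_cancel₀ h2, one_smul]

/-- `g` fixing every vector is trivial. -/
theorem eq_one_of_Fx_card (hρ : Function.Injective ρ) (g : G)
    (h : (Fx ρ g).card = Fintype.card V) : g = 1 := by
  have huniv : Fx ρ g = Finset.univ := (Finset.card_eq_iff_eq_univ _).mp h
  apply hρ
  ext w
  rw [rho_one]
  exact (mem_Fx ρ g w).mp (by rw [huniv]; exact Finset.mem_univ _)

variable (hρ : Function.Injective ρ) (h2 : (2 : ZMod q) ≠ 0) (z : G) (hz1 : z ≠ 1) (hzz : z * z = 1)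
  (hzneg : ∀ w : V, ρ z w = -w)
include hρ h2 hz1 hzz hzneg

theorem z_no_fix (v : V) (hv : v ≠ 0) : ρ z v ≠ v := by
  intro h
  rw [hzneg] at h
  have : (2 : ZMod q) • v = 0 := by
    rw [two_smul]
    nth_rewrite 1 [← h]
    exact neg_add_cancel v
  rcases smul_eq_zero.mp this with h' | h'
  · exact h2 h'
  · exact hv h'

theorem exists_T (v : V) (hv : v ≠ 0) :
    ∃ t ∈ Tset z, ρ t v = v ∧ ∀ s ∈ Tset z, ρ s v = v → s = t := by
  obtain ⟨s, hs1, hsv⟩ := exists_invol ρ hstab v hv
  have hss : s * s = 1 := by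
    by_contra hne
    have hne2 : s * s ≠ s := by
      intro h
      apply hs1
      have : s * s = s * 1 := by rw [mul_one]; exact h
      exact mul_left_cancel this
    have hfix : ρ (s * s) v = v := by rw [rho_mul, hsv, hsv]
    exact three_fix ρ hstab v hv 1 s (s * s) (Ne.symm hs1) (Ne.symm hne) (Ne.symm hne2)
      (rho_one ρ v) hsv hfix
  have hsz : s ≠ z := by
    intro h
    rw [h] at hsv
    exact z_no_fix ρ hstab hρ h2 z hz1 hzz hzneg v hv hsv
  refine ⟨s, (mem_Tset z s).mpr ⟨hs1, hss, hsz⟩, hsv, ?_⟩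
  intro s' hs' hs'v
  by_contra hne
  have h1 := ((mem_Tset z s').mp hs').1
  exact three_fix ρ hstab v hv 1 s s' (Ne.symm hs1) (Ne.symm h1) (Ne.symm hne) (rho_one ρ v) hsv hs'v

theorem tz_mem (t : G) (ht : t ∈ Tset z) : t * z ∈ Tset z ∧ t * z ≠ t := by
  obtain ⟨ht1, htt, htz⟩ := (mem_Tset z t).mp ht
  have hcomm : z * t = t * z := by
    -- ρ z commutes with everything as it is -1
    apply hρ
    ext w
    rw [rho_mul, rho_mul, hzneg, hzneg, map_neg]
  refine ⟨(mem_Tset z _).mpr ⟨?_, ?_, ?_⟩, ?_⟩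
  · intro h
    apply htz
    have h1 : t = z⁻¹ := eq_inv_of_mul_eq_one_left h
    have h2' : z⁻¹ = z := inv_eq_of_mul_eq_one_left hzz
    rw [h1, h2']
  · calc t * z * (t * z) = t * (z * t) * z := by group
      _ = t * (t * z) * z := by rw [hcomm]
      _ = (t * t) * (z * z) := by group
      _ = 1 := by rw [htt, hzz, one_mul]
  · intro h
    apply ht1
    have : t * z = 1 * z := by rw [one_mul]; exact h
    exact mul_right_cancel this
  · intro h
    apply hz1
    have : t * z = t * 1 := by rw [mul_one]; exact h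
    exact mul_left_cancel this

/-- The nonzero vectors are covered by the fixed spaces of the involutions in `Tset z`. -/
theorem card_sum :
    Fintype.card V - 1 = ∑ t ∈ Tset z, ((Fx ρ t).card - 1) := by
  classical
  let S : Finset V := Finset.univ.filter (fun v => v ≠ 0)
  have hS : S.card = Fintype.card V - 1 := by
    have : S = Finset.univ.erase 0 := by
      ext v; simp [S]
    rw [this, Finset.card_erase_of_mem (Finset.mem_univ _), Finset.card_univ]
  let τ : V → G := fun v => if h : v ≠ 0 then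
    Classical.choose (exists_T ρ hstab hρ h2 z hz1 hzz hzneg v h) else 1
  have hτ : ∀ v (h : v ≠ 0), τ v ∈ Tset z ∧ ρ (τ v) v = v ∧ ∀ s ∈ Tset z, ρ s v = v → s = τ v := by
    intro v h
    have := Classical.choose_spec (exists_T ρ hstab hρ h2 z hz1 hzz hzneg v h)
    simp only [τ, dif_pos h]
    exact this
  have hmaps : (S : Set V).MapsTo τ (Tset z) := by
    intro v hv
    have hv0 : v ≠ 0 := by simpa [S] using hv
    exact (hτ v hv0).1
  rw [← hS, Finset.card_eq_sum_card_fiberwise hmaps]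
  apply Finset.sum_congr rfl
  intro t ht
  have : S.filter (fun v => τ v = t) = (Fx ρ t).erase 0 := by
    ext v
    simp only [Finset.mem_filter, Finset.mem_erase, mem_Fx, S, Finset.mem_univ, true_and]
    constructor
    · rintro ⟨hv0, hτv⟩
      refine ⟨hv0, ?_⟩
      rw [← hτv]; exact (hτ v hv0).2.1
    · rintro ⟨hv0, hfix⟩
      exact ⟨hv0, ((hτ v hv0).2.2 t ht hfix).symm⟩
  rw [this, Finset.card_erase_of_mem (zero_mem_Fx ρ t)]

/-- Besides `t` and `t * z` there is a third involution. -/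
theorem exists_third (t : G) (ht : t ∈ Tset z) : ∃ s ∈ Tset z, s ≠ t ∧ s ≠ t * z := by
  classical
  by_contra hcon
  push Not at hcon
  obtain ⟨ht1, htt, htz⟩ := (mem_Tset z t).mp ht
  obtain ⟨htzmem, htzne⟩ := tz_mem ρ hstab hρ h2 z hz1 hzz hzneg t ht
  have hprod := prod_eq ρ hstab h2 z hz1 hzz hzneg t ht1 htt htz
  have hcover : (Finset.univ.filter (fun v : V => v ≠ 0)) ⊆
      (Fx ρ t).erase 0 ∪ (Fx ρ (t * z)).erase 0 := by
    intro v hv
    have hv0 : v ≠ 0 := by simpa using hv
    obtain ⟨s, hsT, hsv, _⟩ := exists_T ρ hstab hρ h2 z hz1 hzz hzneg v hv0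
    by_cases hst : s = t
    · rw [hst] at hsv
      exact Finset.mem_union_left _ (Finset.mem_erase.mpr ⟨hv0, (mem_Fx ρ t v).mpr hsv⟩)
    · have := hcon s hsT hst
      rw [this] at hsv
      exact Finset.mem_union_right _ (Finset.mem_erase.mpr ⟨hv0, (mem_Fx ρ _ v).mpr hsv⟩)
  have hcard := Finset.card_le_card hcover
  have hS : (Finset.univ.filter (fun v : V => v ≠ 0)).card = Fintype.card V - 1 := by
    have : (Finset.univ.filter (fun v : V => v ≠ 0)) = Finset.univ.erase 0 := by
      ext v; simp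
    rw [this, Finset.card_erase_of_mem (Finset.mem_univ _), Finset.card_univ]
  have hU := Finset.card_union_le ((Fx ρ t).erase 0) ((Fx ρ (t * z)).erase 0)
  rw [Finset.card_erase_of_mem (zero_mem_Fx ρ t), Finset.card_erase_of_mem (zero_mem_Fx ρ _)] at hU
  rw [hS] at hcard
  set a := (Fx ρ t).card with ha
  set b := (Fx ρ (t * z)).card with hb
  have ha1 : 1 ≤ a := Fx_card_pos ρ t
  have hb1 : 1 ≤ b := Fx_card_pos ρ (t * z)
  have hab : a = 1 ∨ b = 1 := by
    by_contra hne
    push Not at hne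
    have ha2 : 2 ≤ a := by omega
    have hb2 : 2 ≤ b := by omega
    have : a + b ≤ a * b := by nlinarith
    omega
  rcases hab with h | h
  · rw [h, one_mul] at hprod
    exact ((mem_Tset z _).mp htzmem).1 (eq_one_of_Fx_card ρ hstab hρ _ hprod)
  · rw [h, mul_one] at hprod
    exact ht1 (eq_one_of_Fx_card ρ hstab hρ _ hprod)

theorem card_sq (t : G) (ht : t ∈ Tset z) : (Fx ρ t).card * (Fx ρ t).card = Fintype.card V := by
  obtain ⟨ht1, htt, htz⟩ := (mem_Tset z t).mp ht
  obtain ⟨htzmem, htzne⟩ := tz_mem ρ hstab hρ h2 z hz1 hzz hzneg t ht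
  obtain ⟨htz1, _, _⟩ := (mem_Tset z _).mp htzmem
  obtain ⟨s, hs, hst, hstz⟩ := exists_third ρ hstab hρ h2 z hz1 hzz hzneg t ht
  obtain ⟨hs1, hss, hsz⟩ := (mem_Tset z s).mp hs
  obtain ⟨hszmem, hszne⟩ := tz_mem ρ hstab hρ h2 z hz1 hzz hzneg s hs
  obtain ⟨hsz1, _, _⟩ := (mem_Tset z _).mp hszmem
  have hPt := prod_eq ρ hstab h2 z hz1 hzz hzneg t ht1 htt htz
  have hPs := prod_eq ρ hstab h2 z hz1 hzz hzneg s hs1 hss hsz
  have htsz : t ≠ s * z := by
    intro h
    apply hstz
    rw [h, mul_assoc, hzz, mul_one]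
  have htzsz : t * z ≠ s * z := by
    intro h
    exact hst (mul_right_cancel h).symm
  have h1 := prod_le ρ hstab s t hs1 ht1 hst
  have h2' := prod_le ρ hstab s (t * z) hs1 htz1 hstz
  have h3 := prod_le ρ hstab t s ht1 hs1 (Ne.symm hst)
  have h4 := prod_le ρ hstab t (s * z) ht1 hsz1 htsz
  have h5 := prod_le ρ hstab (t * z) s htz1 hs1 (Ne.symm hstz)
  have h6 := prod_le ρ hstab (t * z) (s * z) htz1 hsz1 htzsz
  set a := (Fx ρ t).card
  set b := (Fx ρ (t * z)).card
  set c := (Fx ρ s).card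
  set d := (Fx ρ (s * z)).card
  have ha : 0 < a := Fx_card_pos ρ t
  have hb : 0 < b := Fx_card_pos ρ (t * z)
  have hc : 0 < c := Fx_card_pos ρ s
  have hd : 0 < d := Fx_card_pos ρ (s * z)
  -- c ≤ b, c ≤ a, a ≤ d, a ≤ c, b ≤ d, b ≤ c
  have hca : c ≤ a := by
    by_contra hlt
    push Not at hlt
    have : a * b < c * b := Nat.mul_lt_mul_of_pos_right hlt hb
    omega
  have hac : a ≤ c := by
    by_contra hlt
    push Not at hlt
    have : c * d < a * d := Nat.mul_lt_mul_of_pos_right hlt hd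
    omega
  have hbc : b ≤ c := by
    by_contra hlt
    push Not at hlt
    have : c * d < b * d := Nat.mul_lt_mul_of_pos_right hlt hd
    omega
  have hcb : c ≤ b := by
    by_contra hlt
    push Not at hlt
    have : a * b < a * c := Nat.mul_lt_mul_of_pos_left hlt ha
    have h1' : c * a = a * c := Nat.mul_comm _ _
    omega
  have hab : a = b := by omega
  rw [← hPt, ← hab]

end counting

theorem result
    (q : ℕ) [Fact q.Prime] {V : Type*} [AddCommGroup V] [Module (ZMod q) V] [Finite V] [Nontrivial V]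
    {G : Type*} [Group G] [Finite G] (ρ : G →* (V ≃ₗ[ZMod q] V)) (hρ : Function.Injective ρ)
    (hstab : ∀ v : V, v ≠ 0 → Nat.card {g : G // ρ g v = v} = 2)
    (z : G) (hz : orderOf z = 2) (hzc : z ∈ Subgroup.center G) :
    ∃ r : ℕ, Nat.card V = q ^ (2 * r) ∧
      Nat.card {g : G // orderOf g = 2 ∧ g ∉ Subgroup.center G} = q ^ r + 1 := by
  classical
  have instV := Fintype.ofFinite V
  have instG := Fintype.ofFinite G
  have hp2 : Fact (Nat.Prime 2) := ⟨Nat.prime_two⟩
  have hz1 : z ≠ 1 := by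
    intro h; rw [h, orderOf_one] at hz; omega
  have hzz : z * z = 1 := by
    have := pow_orderOf_eq_one z
    rw [hz, pow_two] at this; exact this
  have hzc' : ∀ g : G, g * z = z * g := fun g => (Subgroup.mem_center_iff.mp hzc g)
  have h2 := two_ne_zero_of_central ρ hstab hρ z hz1 hzz hzc'
  have hzneg := central_neg ρ hstab hρ z hz1 hzz hzc'
  obtain ⟨w, hw⟩ := exists_ne (0 : V)
  obtain ⟨t₀, ht₀, _, _⟩ := exists_T ρ hstab hρ h2 z hz1 hzz hzneg w hw
  set c := (Fx ρ t₀).card with hc
  have hcsq : c * c = Fintype.card V := card_sq ρ hstab hρ h2 z hz1 hzz hzneg t₀ ht₀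
  have hall : ∀ t ∈ Tset z, (Fx ρ t).card = c := by
    intro t ht
    have := card_sq ρ hstab hρ h2 z hz1 hzz hzneg t ht
    exact Nat.mul_self_inj.mp (this.trans hcsq.symm)
  have hsum := card_sum ρ hstab hρ h2 z hz1 hzz hzneg
  rw [Finset.sum_congr rfl (fun t ht => by rw [hall t ht]), Finset.sum_const, smul_eq_mul] at hsum
  have hVgt : 1 < Fintype.card V := Fintype.one_lt_card
  have hc2 : 2 ≤ c := by
    by_contra h
    push Not at h
    have h1 : c ≤ 1 := by omega
    have h3 : c * c ≤ 1 := by nlinarith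
    omega
  have hT : (Tset z).card = c + 1 := by
    have h1 : (Tset z).card * (c - 1) = (c + 1) * (c - 1) := by
      rw [← hsum, ← hcsq]
      obtain ⟨k, hk⟩ : ∃ k, c = k + 1 := ⟨c - 1, by omega⟩
      rw [hk]
      simp only [Nat.add_sub_cancel]
      have : (k + 1) * (k + 1) = (k + 1 + 1) * k + 1 := by ring
      rw [this, Nat.add_sub_cancel]
    exact Nat.eq_of_mul_eq_mul_right (by omega) h1
  have hq : q.Prime := Fact.out
  have hVq : Fintype.card V = q ^ Module.finrank (ZMod q) V := by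
    rw [Module.card_eq_pow_finrank (K := ZMod q) (V := V), ZMod.card]
  have hcdvd : c ∣ q ^ Module.finrank (ZMod q) V := by
    rw [← hVq, ← hcsq]; exact dvd_mul_right c c
  obtain ⟨r, _, hr⟩ := (Nat.dvd_prime_pow hq).1 hcdvd
  refine ⟨r, ?_, ?_⟩
  · rw [Nat.card_eq_fintype_card, ← hcsq, hr, two_mul, pow_add]
  · rw [Nat.card_eq_fintype_card, Fintype.card_subtype, ← hr, ← hT]
    congr 1
    ext g
    simp only [Finset.mem_filter, Finset.mem_univ, true_and, mem_Tset]
    constructor
    · rintro ⟨ho, hnc⟩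
      have hg1 : g ≠ 1 := by
        intro h; rw [h, orderOf_one] at ho; omega
      have hgg : g * g = 1 := by
        have := pow_orderOf_eq_one g
        rw [ho, pow_two] at this; exact this
      exact ⟨hg1, hgg, fun h => hnc (h ▸ hzc)⟩
    · rintro ⟨hg1, hgg, hgz⟩
      refine ⟨orderOf_eq_prime (by rw [pow_two]; exact hgg) hg1, ?_⟩
      intro hgc
      exact hgz (central_unique ρ hstab hρ g z hg1 hgg
        (fun x => Subgroup.mem_center_iff.mp hgc x) hz1 hzz hzc')

end Cfsg.Agent.S3381
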