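import Mathlib
import Cfsg.Statements.S3382

set_option autoImplicit false
open Cfsg

namespace Cfsg.Agent.S3382

section Chain
variable {G : Type*} [Group G]

theorem pow_apply_of_fix (β : MulAut G) (x n : G) (hx : β x = x * n) (hn : β n = n) (k : ℕ) :
    (β ^ k) x = x * n ^ k := by
  induction k with
  | zero => simp
  | succ k ih =>
    rw [pow_succ', MulAut.mul_apply, ih, map_mul, map_pow, hx, hn, pow_succ', mul_assoc]

theorem chain_step (β : MulAut G) (r : ℕ) (hr : Odd r) (hβ : β ^ r = 1)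
    (PA PB : G → Prop)
    (hA : ∀ x, PA x → β x = x)
    (hB : ∀ x, PB x → PB (β x))
    (hidx : ∀ x y, PB x → PB y → ¬ PA x → ¬ PA y → PA (x⁻¹ * y))
    (h2 : ∀ x, PA x → ∃ k : ℕ, x ^ (2 ^ k) = 1) :
    ∀ x, PB x → β x = x := by
  intro x hx
  by_cases hxA : PA x
  · exact hA x hxA
  · have hβxA : ¬ PA (β x) := by
      intro h
      have h1 := hA _ h
      have h2 : β x = x := β.injective h1
      rw [h2] at h
      exact hxA h
    have hn := hidx x (β x) hx (hB x hx) hxA hβxA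
    set n := x⁻¹ * β x with hndef
    have hβx : β x = x * n := by rw [hndef]; group
    have hfix := hA n hn
    have hpow := pow_apply_of_fix β x n hβx hfix r
    rw [hβ, MulAut.one_apply] at hpow
    have hnr : n ^ r = 1 := by
      have : x * n ^ r = x * 1 := by rw [mul_one]; exact hpow.symm
      exact mul_left_cancel this
    obtain ⟨k, hk⟩ := h2 n hn
    have hcop : Nat.Coprime r (2 ^ k) := Nat.Coprime.pow_right k (Nat.coprime_two_right.mpr hr)
    have h1 : orderOf n ∣ r := orderOf_dvd_of_pow_eq_one hnr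
    have h2' : orderOf n ∣ 2 ^ k := orderOf_dvd_of_pow_eq_one hk
    have h3 : orderOf n = 1 := Nat.eq_one_of_dvd_coprimes hcop h1 h2'
    have h4 : n = 1 := orderOf_eq_one_iff.mp h3
    rw [hβx, h4, mul_one]

/-- if every automorphism of odd order is trivial, the automorphism group is a 2-group -/
theorem isPGroup_two_of_odd_trivial [Finite G]
    (h : ∀ (γ : MulAut G) (r : ℕ), Odd r → γ ^ r = 1 → γ = 1) : IsPGroup 2 (MulAut G) := by
  intro β
  have hfin : Finite (MulAut G) := by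
    have : Function.Injective (fun (f : MulAut G) => (f : G → G)) := fun f g hfg => DFunLike.coe_injective hfg
    exact Finite.of_injective _ this
  have hn : 0 < orderOf β := orderOf_pos β
  obtain ⟨k, r, hr, hkr⟩ := Nat.exists_eq_two_pow_mul_odd (Nat.pos_iff_ne_zero.mp hn)
  refine ⟨k, ?_⟩
  apply h (β ^ 2 ^ k) r hr
  rw [← pow_mul, ← hkr, pow_orderOf_eq_one]

end Chain

section DD
variable (q : ℕ) [Fact q.Prime]

/-- the diagonal map `(x, y) ↦ (a x, s a⁻¹ y)` -/
def dd (a s : (ZMod q)ˣ) : (Fin 2 → ZMod q) ≃ₗ[ZMod q] (Fin 2 → ZMod q) where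
  toFun v := ![(a : ZMod q) * v 0, (s : ZMod q) * (a : ZMod q)⁻¹ * v 1]
  invFun v := ![(a : ZMod q)⁻¹ * v 0, (s : ZMod q)⁻¹ * (a : ZMod q) * v 1]
  map_add' := by
    intro u v; ext i; fin_cases i
    · simp only [Fin.zero_eta, Fin.isValue, Pi.add_apply, Matrix.cons_val_zero]
      ring
    · simp only [Fin.mk_one, Fin.isValue, Pi.add_apply, Matrix.cons_val_one, Matrix.cons_val_zero]
      ring
  map_smul' := by
    intro c v; ext i; fin_cases i
    · simp only [Fin.zero_eta, Fin.isValue, Pi.smul_apply, smul_eq_mul, Matrix.cons_val_zero,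
        RingHom.id_apply]
      ring
    · simp only [Fin.mk_one, Fin.isValue, Pi.smul_apply, smul_eq_mul, Matrix.cons_val_one,
        Matrix.cons_val_zero, RingHom.id_apply]
      ring
  left_inv := by
    intro v
    have ha : (a : ZMod q) ≠ 0 := a.ne_zero
    have hs : (s : ZMod q) ≠ 0 := s.ne_zero
    ext i; fin_cases i
    · simp only [Fin.zero_eta, Fin.isValue, Matrix.cons_val_zero]
      field_simp
    · simp only [Fin.mk_one, Fin.isValue, Matrix.cons_val_one, Matrix.cons_val_zero]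
      field_simp
  right_inv := by
    intro v
    have ha : (a : ZMod q) ≠ 0 := a.ne_zero
    have hs : (s : ZMod q) ≠ 0 := s.ne_zero
    ext i; fin_cases i
    · simp only [Fin.zero_eta, Fin.isValue, Matrix.cons_val_zero]
      field_simp
    · simp only [Fin.mk_one, Fin.isValue, Matrix.cons_val_one, Matrix.cons_val_zero]
      field_simp

/-- the swap `(x, y) ↦ (y, x)` -/
def ww : (Fin 2 → ZMod q) ≃ₗ[ZMod q] (Fin 2 → ZMod q) where
  toFun v := ![v 1, v 0]
  invFun v := ![v 1, v 0]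
  map_add' := by
    intro u v; ext i; fin_cases i
    · simp only [Fin.zero_eta, Fin.isValue, Pi.add_apply, Matrix.cons_val_zero]
    · simp only [Fin.mk_one, Fin.isValue, Pi.add_apply, Matrix.cons_val_one, Matrix.cons_val_zero]
  map_smul' := by
    intro c v; ext i; fin_cases i
    · simp only [Fin.zero_eta, Fin.isValue, Pi.smul_apply, smul_eq_mul, Matrix.cons_val_zero,
        RingHom.id_apply]
    · simp only [Fin.mk_one, Fin.isValue, Pi.smul_apply, smul_eq_mul, Matrix.cons_val_one,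
        Matrix.cons_val_zero, RingHom.id_apply]
  left_inv := by
    intro v; ext i; fin_cases i
    · simp only [Fin.zero_eta, Fin.isValue, Matrix.cons_val_zero, Matrix.cons_val_one]
    · simp only [Fin.mk_one, Fin.isValue, Matrix.cons_val_one, Matrix.cons_val_zero]
  right_inv := by
    intro v; ext i; fin_cases i
    · simp only [Fin.zero_eta, Fin.isValue, Matrix.cons_val_zero, Matrix.cons_val_one]
    · simp only [Fin.mk_one, Fin.isValue, Matrix.cons_val_one, Matrix.cons_val_zero]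

variable {q}

@[simp] theorem dd_apply (a s : (ZMod q)ˣ) (v : Fin 2 → ZMod q) :
    dd q a s v = ![(a : ZMod q) * v 0, (s : ZMod q) * (a : ZMod q)⁻¹ * v 1] := rfl

@[simp] theorem ww_apply (v : Fin 2 → ZMod q) : ww q v = ![v 1, v 0] := rfl

theorem dd_mul (a s a' s' : (ZMod q)ˣ) : dd q a s * dd q a' s' = dd q (a * a') (s * s') := by
  apply LinearEquiv.ext
  intro v
  rw [LinearEquiv.mul_apply]
  ext i; fin_cases i
  · simp only [dd_apply, Fin.zero_eta, Fin.isValue, Matrix.cons_val_zero, Units.val_mul]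
    ring
  · simp only [dd_apply, Fin.mk_one, Fin.isValue, Matrix.cons_val_one, Matrix.cons_val_zero,
      Units.val_mul, mul_inv]
    ring

theorem dd_one : dd q 1 1 = 1 := by
  apply LinearEquiv.ext
  intro v
  ext i; fin_cases i <;> simp

theorem ww_mul_ww : ww q * ww q = 1 := by
  apply LinearEquiv.ext
  intro v
  rw [LinearEquiv.mul_apply]
  ext i; fin_cases i <;> simp

theorem dd_mul_ww (a s : (ZMod q)ˣ) : dd q a s * ww q = ww q * dd q (s * a⁻¹) s := by
  apply LinearEquiv.ext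
  intro v
  rw [LinearEquiv.mul_apply, LinearEquiv.mul_apply]
  have ha : (a : ZMod q) ≠ 0 := a.ne_zero
  have hs : (s : ZMod q) ≠ 0 := s.ne_zero
  ext i; fin_cases i
  · simp only [ww_apply, dd_apply, Fin.zero_eta, Fin.isValue, Matrix.cons_val_zero,
      Matrix.cons_val_one, Units.val_mul, Units.val_inv_eq_inv_val, mul_inv, inv_inv]
    field_simp
  · simp only [ww_apply, dd_apply, Fin.mk_one, Fin.isValue, Matrix.cons_val_zero,
      Matrix.cons_val_one, Units.val_mul, Units.val_inv_eq_inv_val]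

theorem dd_inj {a s a' s' : (ZMod q)ˣ} (h : dd q a s = dd q a' s') : a = a' ∧ s = s' := by
  have h1 := congrArg (fun f => f ![1, 0] 0) h
  have h2 := congrArg (fun f => f ![0, 1] 1) h
  simp only [dd_apply, Matrix.cons_val_zero, Matrix.cons_val_one, mul_one] at h1 h2
  have ha : a = a' := Units.ext h1
  subst ha
  refine ⟨rfl, Units.ext ?_⟩
  have ha : (a : ZMod q) ≠ 0 := a.ne_zero
  have := mul_right_cancel₀ (inv_ne_zero ha) h2
  exact this

theorem dd_ne_ww_mul (a s a' s' : (ZMod q)ˣ) : dd q a s ≠ ww q * dd q a' s' := by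
  intro h
  have h1 := congrArg (fun f => f ![1, 0] 0) h
  simp only [dd_apply, LinearEquiv.mul_apply, ww_apply, Matrix.cons_val_zero, Matrix.cons_val_one,
    mul_one, mul_zero] at h1
  exact a.ne_zero h1

end DD

section TT
variable {q : ℕ} [Fact q.Prime]

/-- `s = ±1` -/
abbrev Sgn (s : (ZMod q)ˣ) : Prop := s = 1 ∨ s = -1

theorem Sgn.one : Sgn (1 : (ZMod q)ˣ) := Or.inl rfl
theorem Sgn.neg_one : Sgn (-1 : (ZMod q)ˣ) := Or.inr rfl
theorem Sgn.sq {s : (ZMod q)ˣ} (h : Sgn s) : s * s = 1 := by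
  rcases h with rfl | rfl <;> simp
theorem Sgn.mul {s t : (ZMod q)ˣ} (h : Sgn s) (h' : Sgn t) : Sgn (s * t) := by
  rcases h with rfl | rfl <;> rcases h' with rfl | rfl <;> simp [Sgn]
theorem Sgn.inv {s : (ZMod q)ˣ} (h : Sgn s) : Sgn s⁻¹ := by
  rcases h with rfl | rfl <;> simp [Sgn]
theorem Sgn.inv_eq {s : (ZMod q)ˣ} (h : Sgn s) : s⁻¹ = s := by
  rcases h with rfl | rfl <;> simp
theorem Sgn.pow {s : (ZMod q)ˣ} (h : Sgn s) (k : ℕ) : Sgn (s ^ k) := by
  induction k with
  | zero => simp [Sgn]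
  | succ k ih => rw [pow_succ]; exact ih.mul h
theorem Sgn.pow_two_pow {s : (ZMod q)ˣ} (h : Sgn s) {j : ℕ} (hj : 1 ≤ j) : s ^ (2 ^ j) = 1 := by
  obtain ⟨k, rfl⟩ : ∃ k, j = k + 1 := ⟨j - 1, by omega⟩
  rw [pow_succ, mul_comm, pow_mul, pow_two, h.sq, one_pow]

theorem units_sq_eq_one {u : (ZMod q)ˣ} (h : u * u = 1) : u = 1 ∨ u = -1 := by
  have h1 : (u : ZMod q) * (u : ZMod q) = 1 := by
    have := congrArg Units.val h
    simpa using this
  rcases mul_self_eq_one_iff.mp h1 with h2 | h2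
  · left; exact Units.ext h2
  · right; exact Units.ext (by simpa using h2)

variable {T : Subgroup ((Fin 2 → ZMod q) ≃ₗ[ZMod q] (Fin 2 → ZMod q))}
  (hT : ∀ f, f ∈ T ↔ ∃ a s : (ZMod q)ˣ, Sgn s ∧ (f = dd q a s ∨ f = ww q * dd q a s))

/-- diagonal elements of `T` -/
def D (a s : (ZMod q)ˣ) (hs : Sgn s) : T := ⟨dd q a s, (hT _).mpr ⟨a, s, hs, Or.inl rfl⟩⟩

/-- the swap in `T` -/
def W : T := ⟨ww q, (hT _).mpr ⟨1, 1, Sgn.one, Or.inr (by rw [dd_one, mul_one])⟩⟩

theorem D_mul (a s a' s' : (ZMod q)ˣ) (hs : Sgn s) (hs' : Sgn s') :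
    D hT a s hs * D hT a' s' hs' = D hT (a * a') (s * s') (hs.mul hs') :=
  Subtype.ext (dd_mul a s a' s')

theorem D_one : D hT 1 1 Sgn.one = 1 := Subtype.ext dd_one

theorem W_mul_W : W hT * W hT = 1 := Subtype.ext ww_mul_ww

theorem W_inv : (W hT)⁻¹ = W hT := inv_eq_of_mul_eq_one_left (W_mul_W hT)

theorem D_mul_W (a s : (ZMod q)ˣ) (hs : Sgn s) :
    D hT a s hs * W hT = W hT * D hT (s * a⁻¹) s hs :=
  Subtype.ext (dd_mul_ww a s)

theorem D_inj {a s a' s' : (ZMod q)ˣ} {hs : Sgn s} {hs' : Sgn s'}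
    (h : D hT a s hs = D hT a' s' hs') : a = a' ∧ s = s' :=
  dd_inj (congrArg Subtype.val h)

theorem D_ne_WD (a s a' s' : (ZMod q)ˣ) (hs : Sgn s) (hs' : Sgn s') :
    D hT a s hs ≠ W hT * D hT a' s' hs' := by
  intro h
  exact dd_ne_ww_mul a s a' s' (congrArg Subtype.val h)

theorem D_inv (a s : (ZMod q)ˣ) (hs : Sgn s) : (D hT a s hs)⁻¹ = D hT a⁻¹ s⁻¹ hs.inv := by
  apply inv_eq_of_mul_eq_one_left
  rw [D_mul]
  simp only [inv_mul_cancel]
  exact D_one hT

theorem D_pow (a s : (ZMod q)ˣ) (hs : Sgn s) (k : ℕ) :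
    (D hT a s hs) ^ k = D hT (a ^ k) (s ^ k) (hs.pow k) := by
  induction k with
  | zero => simp only [pow_zero]; exact (D_one hT).symm
  | succ k ih =>
    rw [pow_succ, ih, D_mul]
    congr 1 <;> rw [pow_succ]

theorem cases_T (x : T) : (∃ a s hs, x = D hT a s hs) ∨ (∃ a s hs, x = W hT * D hT a s hs) := by
  obtain ⟨a, s, hs, h | h⟩ := (hT x.1).mp x.2
  · left; exact ⟨a, s, hs, Subtype.ext h⟩
  · right; exact ⟨a, s, hs, Subtype.ext h⟩

/-- diagonal elements -/
def IsDiag (x : T) : Prop := ∃ a s hs, x = D hT a s hs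

theorem IsDiag.mul {x y : T} (hx : IsDiag hT x) (hy : IsDiag hT y) : IsDiag hT (x * y) := by
  obtain ⟨a, s, hs, rfl⟩ := hx
  obtain ⟨a', s', hs', rfl⟩ := hy
  exact ⟨_, _, _, D_mul hT a s a' s' hs hs'⟩

theorem IsDiag.inv {x : T} (hx : IsDiag hT x) : IsDiag hT x⁻¹ := by
  obtain ⟨a, s, hs, rfl⟩ := hx
  exact ⟨_, _, _, D_inv hT a s hs⟩

theorem isDiag_one : IsDiag hT 1 := ⟨1, 1, Sgn.one, (D_one hT).symm⟩

theorem not_isDiag_WD (a s : (ZMod q)ˣ) (hs : Sgn s) : ¬ IsDiag hT (W hT * D hT a s hs) := by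
  rintro ⟨a', s', hs', h⟩
  exact D_ne_WD hT a' s' a s hs' hs h.symm

theorem D_comm (a s a' s' : (ZMod q)ˣ) (hs : Sgn s) (hs' : Sgn s') :
    D hT a s hs * D hT a' s' hs' = D hT a' s' hs' * D hT a s hs := by
  rw [D_mul, D_mul]
  congr 1 <;> exact mul_comm _ _

theorem WD_sq (a s : (ZMod q)ˣ) (hs : Sgn s) :
    (W hT * D hT a s hs) * (W hT * D hT a s hs) = D hT s 1 Sgn.one := by
  have h1 : (W hT * D hT a s hs) * (W hT * D hT a s hs)
      = W hT * (D hT a s hs * W hT) * D hT a s hs := by group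
  rw [h1, D_mul_W, ← mul_assoc, W_mul_W, one_mul, D_mul]
  congr 1
  · rw [mul_assoc, inv_mul_cancel, mul_one]
  · exact hs.sq

end TT
section Big
variable {q : ℕ} [Fact q.Prime]
variable {T : Subgroup ((Fin 2 → ZMod q) ≃ₗ[ZMod q] (Fin 2 → ZMod q))}
  (hT : ∀ f, f ∈ T ↔ ∃ a s : (ZMod q)ˣ, Sgn s ∧ (f = dd q a s ∨ f = ww q * dd q a s))

/-- commuting with all squares -/
def PD (x : T) : Prop := ∀ y : T, x * (y * y) = (y * y) * x

theorem PD_aut (γ : MulAut T) (x : T) (hx : PD x) : PD (γ x) := by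
  intro y
  obtain ⟨y', rfl⟩ := γ.surjective y
  rw [← map_mul, ← map_mul, ← map_mul, hx y']

theorem PD_of_isDiag {x : T} (hx : IsDiag hT x) : PD x := by
  obtain ⟨a, s, hs, rfl⟩ := hx
  intro y
  rcases cases_T hT y with ⟨b, t, ht, rfl⟩ | ⟨b, t, ht, rfl⟩
  · rw [D_mul, D_comm]
  · rw [WD_sq, D_comm]

theorem isDiag_of_PD (c : (ZMod q)ˣ) (hc : c ^ 4 ≠ 1) {x : T} (hx : PD x) : IsDiag hT x := by
  rcases cases_T hT x with h | ⟨a, s, hs, rfl⟩
  · exact h
  · exfalso
    have h1 := hx (D hT c 1 Sgn.one)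
    have e1 : (W hT * D hT a s hs) * (D hT c 1 Sgn.one * D hT c 1 Sgn.one)
        = W hT * D hT (a * (c * c)) (s * (1 * 1)) (hs.mul (Sgn.one.mul Sgn.one)) := by
      rw [D_mul, mul_assoc, D_mul]
    have e2 : (D hT c 1 Sgn.one * D hT c 1 Sgn.one) * (W hT * D hT a s hs)
        = W hT * D hT ((1 * 1) * (c * c)⁻¹ * a) ((1 * 1) * s) ((Sgn.one.mul Sgn.one).mul hs) := by
      rw [D_mul, ← mul_assoc, D_mul_W, mul_assoc, D_mul]
    rw [e1, e2] at h1
    have h2 := mul_left_cancel h1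
    obtain ⟨h3, -⟩ := D_inj hT h2
    apply hc
    have h4 : c * c = (c * c)⁻¹ := by
      have : a * (c * c) = a * (c * c)⁻¹ := by
        rw [h3, one_mul, one_mul, mul_comm]
      exact mul_left_cancel this
    have h5 : (c * c) * (c * c) = 1 := by
      nth_rewrite 2 [h4]
      exact mul_inv_cancel _
    have h6 : c ^ 4 = (c * c) * (c * c) := by
      rw [show (4 : ℕ) = 2 + 2 by norm_num, pow_add, pow_two]
    rw [h6]
    exact h5

variable (c i : (ZMod q)ˣ) (hc : c ^ 4 ≠ 1) (hi : i * i = -1) (m : ℕ) (hm1 : 1 ≤ m)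
  (hm : ∀ a : (ZMod q)ˣ, a ^ (2 ^ m) = 1)

include hm1 hm in
theorem isDiag_pow {x : T} (hx : IsDiag hT x) : x ^ (2 ^ m) = 1 := by
  obtain ⟨a, s, hs, rfl⟩ := hx
  rw [D_pow]
  have h1 : a ^ (2 ^ m) = 1 := hm a
  have h2 : s ^ (2 ^ m) = 1 := hs.pow_two_pow hm1
  rw [← D_one hT]
  congr 1

/-- first level: `{1, -1}` -/
def PA1 (x : T) : Prop := PD x ∧ x * x = 1 ∧ ∃ d : T, PD d ∧ x = d * d

include hc in
theorem PA1_cases {x : T} (hx : PA1 x) : x = 1 ∨ x = D hT (-1) 1 Sgn.one := by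
  obtain ⟨-, hxx, d, hd, rfl⟩ := hx
  obtain ⟨b, t, ht, rfl⟩ := isDiag_of_PD hT c hc hd
  rw [D_mul, D_mul] at hxx
  rw [← D_one hT] at hxx
  obtain ⟨h1, -⟩ := D_inj hT hxx
  rw [D_mul]
  rcases units_sq_eq_one h1 with h2 | h2
  · left
    rw [← D_one hT]
    congr 1
    exact ht.sq
  · right
    congr 1
    exact ht.sq

include hi in
theorem PA1_neg_one : PA1 (D hT (-1) 1 Sgn.one) := by
  refine ⟨PD_of_isDiag hT ⟨_, _, _, rfl⟩, ?_, D hT i 1 Sgn.one, PD_of_isDiag hT ⟨_, _, _, rfl⟩, ?_⟩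
  · rw [D_mul, ← D_one hT]; congr 1 <;> simp
  · rw [D_mul]; congr 1
    · exact hi.symm
    · simp

include hT in
theorem PA1_one : PA1 (1 : T) :=
  ⟨PD_of_isDiag hT (isDiag_one hT), by simp, 1, PD_of_isDiag hT (isDiag_one hT), by simp⟩

include hT hc hi hm1 hm in
theorem aut_trivial_big (γ : MulAut T) (r : ℕ) (hr : Odd r) (hγ : γ ^ r = 1) : γ = 1 := by
  have hdiag : ∀ x : T, PD x ↔ IsDiag hT x := fun x => ⟨isDiag_of_PD hT c hc, PD_of_isDiag hT⟩
  -- level 1
  have F1 : ∀ x : T, PA1 x → γ x = x := by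
    apply chain_step γ r hr hγ (fun x => x = 1) PA1
    · intro x hx; rw [hx, map_one]
    · rintro x ⟨h1, h2, d, hd, rfl⟩
      refine ⟨PD_aut γ _ h1, ?_, γ d, PD_aut γ _ hd, map_mul γ d d⟩
      rw [← map_mul, h2, map_one]
    · intro x y hx hy hx1 hy1
      rcases PA1_cases hT c hc hx with h | h
      · exact absurd h hx1
      · rcases PA1_cases hT c hc hy with h' | h'
        · exact absurd h' hy1
        · rw [h, h', inv_mul_cancel]
    · intro x hx; exact ⟨0, by rw [hx, one_pow]⟩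
  -- level 2: the elements of order at most two in `D`
  have F2 : ∀ x : T, (PD x ∧ x ^ (2 ^ 1) = 1) → γ x = x := by
    apply chain_step γ r hr hγ PA1 (fun x => PD x ∧ x ^ (2 ^ 1) = 1) F1
    · rintro x ⟨h1, h2⟩
      exact ⟨PD_aut γ _ h1, by rw [← map_pow, h2, map_one]⟩
    · rintro x y ⟨hx, hx2⟩ ⟨hy, hy2⟩ hxA hyA
      obtain ⟨a, s, hs, rfl⟩ := (hdiag x).mp hx
      obtain ⟨a', s', hs', rfl⟩ := (hdiag y).mp hy
      rw [D_pow, ← D_one hT] at hx2 hy2
      obtain ⟨ha, -⟩ := D_inj hT hx2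
      obtain ⟨ha', -⟩ := D_inj hT hy2
      rw [pow_one, pow_two] at ha ha'
      -- s = -1 and s' = -1
      have key : ∀ (b t : (ZMod q)ˣ) (ht : Sgn t), b * b = 1 → ¬ PA1 (D hT b t ht) → t = -1 := by
        intro b t ht hb hn
        rcases ht with rfl | rfl
        · exfalso
          apply hn
          rcases units_sq_eq_one hb with rfl | rfl
          · have : D hT 1 1 (Or.inl rfl) = 1 := D_one hT
            rw [this]; exact PA1_one hT
          · exact PA1_neg_one hT i hi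
        · rfl
      have hs1 := key a s hs ha hxA
      have hs1' := key a' s' hs' ha' hyA
      subst hs1 hs1'
      rw [D_inv, D_mul]
      have h1 : (a⁻¹ * a') * (a⁻¹ * a') = 1 := by
        have : (a⁻¹ * a') * (a⁻¹ * a') = (a * a)⁻¹ * (a' * a') := by
          rw [mul_inv]; exact mul_mul_mul_comm _ _ _ _
        rw [this, ha, ha', inv_one, one_mul]
      have h2 : ((-1 : (ZMod q)ˣ)⁻¹ * -1) = 1 := by simp
      rcases units_sq_eq_one h1 with h3 | h3
      · have : D hT (a⁻¹ * a') ((-1 : (ZMod q)ˣ)⁻¹ * -1) (Sgn.neg_one.inv.mul Sgn.neg_one) = 1 := by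
          rw [← D_one hT]; congr 1
        rw [this]; exact PA1_one hT
      · have : D hT (a⁻¹ * a') ((-1 : (ZMod q)ˣ)⁻¹ * -1) (Sgn.neg_one.inv.mul Sgn.neg_one)
            = D hT (-1) 1 Sgn.one := by congr 1
        rw [this]; exact PA1_neg_one hT i hi
    · rintro x ⟨-, hxx, -⟩
      exact ⟨1, by rw [pow_one, pow_two]; exact hxx⟩
  -- higher levels
  have F3 : ∀ j : ℕ, 1 ≤ j → ∀ x : T, (PD x ∧ x ^ (2 ^ j) = 1) → γ x = x := by
    intro j hj
    induction j, hj using Nat.le_induction with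
    | base => exact F2
    | succ j hj ih =>
      apply chain_step γ r hr hγ (fun x => PD x ∧ x ^ (2 ^ j) = 1)
        (fun x => PD x ∧ x ^ (2 ^ (j + 1)) = 1) ih
      · rintro x ⟨h1, h2⟩
        exact ⟨PD_aut γ _ h1, by rw [← map_pow, h2, map_one]⟩
      · rintro x y ⟨hx, hx2⟩ ⟨hy, hy2⟩ hxA hyA
        obtain ⟨a, s, hs, rfl⟩ := (hdiag x).mp hx
        obtain ⟨a', s', hs', rfl⟩ := (hdiag y).mp hy
        refine ⟨PD_of_isDiag hT ((IsDiag.inv hT ⟨_, _, _, rfl⟩).mul hT ⟨_, _, _, rfl⟩), ?_⟩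
        have key : ∀ (b t : (ZMod q)ˣ) (ht : Sgn t), (D hT b t ht) ^ (2 ^ (j + 1)) = 1 →
            ¬ (PD (D hT b t ht) ∧ (D hT b t ht) ^ (2 ^ j) = 1) → b ^ (2 ^ j) = -1 := by
          intro b t ht h1 h2
          rw [D_pow, ← D_one hT] at h1
          obtain ⟨hb, -⟩ := D_inj hT h1
          have hb2 : b ^ (2 ^ j) * b ^ (2 ^ j) = 1 := by
            rw [← pow_add, ← two_mul, ← pow_succ']; exact hb
          rcases units_sq_eq_one hb2 with h3 | h3
          · exfalso
            apply h2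
            refine ⟨PD_of_isDiag hT ⟨_, _, _, rfl⟩, ?_⟩
            rw [D_pow, ← D_one hT]
            congr 1
            exact ht.pow_two_pow hj
          · exact h3
        have h1 := key a s hs hx2 hxA
        have h2 := key a' s' hs' hy2 hyA
        rw [D_inv, D_mul, D_pow, ← D_one hT]
        congr 1
        · rw [mul_pow, inv_pow, h1, h2]; simp
        · exact (hs.inv.mul hs').pow_two_pow hj
      · rintro x ⟨-, hx⟩
        exact ⟨j, hx⟩
  have F4 : ∀ x : T, PD x → γ x = x := by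
    intro x hx
    exact F3 m hm1 x ⟨hx, isDiag_pow hT m hm1 hm ((hdiag x).mp hx)⟩
  have F5 : ∀ x : T, True → γ x = x := by
    apply chain_step γ r hr hγ PD (fun _ => True) F4
    · intro x _; trivial
    · intro x y _ _ hx hy
      rcases cases_T hT x with hd | ⟨a, s, hs, rfl⟩
      · exact absurd (PD_of_isDiag hT hd) hx
      · rcases cases_T hT y with hd | ⟨a', s', hs', rfl⟩
        · exact absurd (PD_of_isDiag hT hd) hy
        · apply PD_of_isDiag hT
          have : (W hT * D hT a s hs)⁻¹ * (W hT * D hT a' s' hs')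
              = (D hT a s hs)⁻¹ * ((W hT)⁻¹ * W hT) * D hT a' s' hs' := by group
          rw [this, inv_mul_cancel, mul_one]
          exact (IsDiag.inv hT ⟨_, _, _, rfl⟩).mul hT ⟨_, _, _, rfl⟩
    · intro x hx
      exact ⟨m, isDiag_pow hT m hm1 hm ((hdiag x).mp hx)⟩
  apply MulEquiv.ext
  intro x
  exact F5 x trivial

end Big
section Small
variable {q : ℕ} [Fact q.Prime]
variable {T : Subgroup ((Fin 2 → ZMod q) ≃ₗ[ZMod q] (Fin 2 → ZMod q))}
  (hT : ∀ f, f ∈ T ↔ ∃ a s : (ZMod q)ˣ, Sgn s ∧ (f = dd q a s ∨ f = ww q * dd q a s))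

include hT in
theorem aut_trivial_two (hsub : Subsingleton (ZMod q)ˣ) (γ : MulAut T) : γ = 1 := by
  have hcases : ∀ x : T, x = 1 ∨ x = W hT := by
    intro x
    rcases cases_T hT x with ⟨a, s, hs, rfl⟩ | ⟨a, s, hs, rfl⟩
    · left
      rw [← D_one hT]; congr 1 <;> exact Subsingleton.elim _ _
    · right
      have : D hT a s hs = 1 := by
        rw [← D_one hT]; congr 1 <;> exact Subsingleton.elim _ _
      rw [this, mul_one]
  have hW : W hT ≠ 1 := by
    intro h
    have := D_ne_WD hT 1 1 1 1 Sgn.one Sgn.one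
    apply this
    rw [D_one, h, one_mul]
  apply MulEquiv.ext
  intro x
  rcases hcases x with rfl | rfl
  · simp
  · rcases hcases (γ (W hT)) with h | h
    · exfalso
      apply hW
      apply γ.injective
      rw [h, map_one]
    · rw [h]; rfl

/-- squares -/
def PS (x : T) : Prop := ∃ y : T, x = y * y

include hT in
theorem aut_trivial_three (h3 : ∀ a : (ZMod q)ˣ, a = 1 ∨ a = -1) (hne : (-1 : (ZMod q)ˣ) ≠ 1)
    (γ : MulAut T) (r : ℕ) (hr : Odd r) (hγ : γ ^ r = 1) : γ = 1 := by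
  have hsq : ∀ a : (ZMod q)ˣ, a * a = 1 := by
    intro a; rcases h3 a with rfl | rfl <;> simp
  have hDsq : ∀ a s hs, D hT a s hs * D hT a s hs = 1 := by
    intro a s hs
    rw [D_mul, ← D_one hT]; congr 1
    · exact hsq a
    · exact hs.sq
  have hm1 : D hT (-1) 1 Sgn.one ≠ 1 := by
    intro h
    rw [← D_one hT] at h
    exact hne (D_inj hT h).1
  have hPS_cases : ∀ x : T, PS x → x = 1 ∨ x = D hT (-1) 1 Sgn.one := by
    rintro x ⟨y, rfl⟩
    rcases cases_T hT y with ⟨a, s, hs, rfl⟩ | ⟨a, s, hs, rfl⟩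
    · left; exact hDsq a s hs
    · rw [WD_sq]
      rcases hs with rfl | rfl
      · left; exact D_one hT
      · right; rfl
  have hPS_D : ∀ a : (ZMod q)ˣ, PS (D hT a 1 Sgn.one) := by
    intro a
    rcases h3 a with rfl | rfl
    · exact ⟨1, by rw [D_one]; simp⟩
    · exact ⟨W hT * D hT 1 (-1) Sgn.neg_one, by rw [WD_sq]⟩
  have hpow4 : ∀ x : T, x ^ (2 ^ 2) = 1 := by
    intro x
    have h4 : x ^ (2 ^ 2) = (x * x) * (x * x) := by
      rw [show (2 : ℕ) ^ 2 = 2 + 2 by norm_num, pow_add, pow_two]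
    rw [h4]
    rcases cases_T hT x with ⟨a, s, hs, rfl⟩ | ⟨a, s, hs, rfl⟩
    · rw [hDsq]; simp
    · rw [WD_sq, hDsq]
  have F1 : ∀ x : T, PS x → γ x = x := by
    apply chain_step γ r hr hγ (fun x => x = 1) PS
    · intro x hx; rw [hx, map_one]
    · rintro x ⟨y, rfl⟩; exact ⟨γ y, map_mul γ y y⟩
    · intro x y hx hy hx1 hy1
      rcases hPS_cases x hx with h | h
      · exact absurd h hx1
      · rcases hPS_cases y hy with h' | h'
        · exact absurd h' hy1
        · rw [h, h', inv_mul_cancel]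
    · intro x hx; exact ⟨0, by rw [hx, one_pow]⟩
  -- elements whose square is nontrivial
  have hns : ∀ x : T, x * x ≠ 1 → ∃ a, x = W hT * D hT a (-1) Sgn.neg_one := by
    intro x hx
    rcases cases_T hT x with ⟨a, s, hs, rfl⟩ | ⟨a, s, hs, rfl⟩
    · exact absurd (hDsq a s hs) hx
    · rcases hs with rfl | rfl
      · exfalso; apply hx; rw [WD_sq]; exact D_one hT
      · exact ⟨a, rfl⟩
  have F2 : ∀ x : T, (PS x ∨ x * x ≠ 1) → γ x = x := by
    apply chain_step γ r hr hγ PS (fun x => PS x ∨ x * x ≠ 1) F1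
    · rintro x (⟨y, rfl⟩ | h)
      · left; exact ⟨γ y, map_mul γ y y⟩
      · right
        intro h'
        apply h
        apply γ.injective
        rw [map_mul, h', map_one]
    · rintro x y hx hy hxA hyA
      have hx2 : x * x ≠ 1 := hx.resolve_left hxA
      have hy2 : y * y ≠ 1 := hy.resolve_left hyA
      obtain ⟨a, rfl⟩ := hns x hx2
      obtain ⟨a', rfl⟩ := hns y hy2
      have : (W hT * D hT a (-1) Sgn.neg_one)⁻¹ * (W hT * D hT a' (-1) Sgn.neg_one)
          = (D hT a (-1) Sgn.neg_one)⁻¹ * ((W hT)⁻¹ * W hT) * D hT a' (-1) Sgn.neg_one := by group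
      rw [this, inv_mul_cancel, mul_one, D_inv, D_mul]
      have h1 : ((-1 : (ZMod q)ˣ)⁻¹ * -1) = 1 := by simp
      have : D hT (a⁻¹ * a') ((-1 : (ZMod q)ˣ)⁻¹ * -1) (Sgn.neg_one.inv.mul Sgn.neg_one)
          = D hT (a⁻¹ * a') 1 Sgn.one := by congr 1
      rw [this]
      exact hPS_D _
    · intro x hx
      rcases hPS_cases x hx with rfl | rfl
      · exact ⟨0, by simp⟩
      · exact ⟨1, by rw [pow_one, pow_two]; exact hDsq _ _ _⟩
  have F3 : ∀ x : T, True → γ x = x := by
    apply chain_step γ r hr hγ (fun x => PS x ∨ x * x ≠ 1) (fun _ => True) F2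
    · intro x _; trivial
    · intro x y _ _ hx hy
      push Not at hx hy
      obtain ⟨hx1, hx2⟩ := hx
      obtain ⟨hy1, hy2⟩ := hy
      -- normal forms of elements outside the cyclic subgroup
      have key : ∀ z : T, ¬ PS z → z * z = 1 →
          (∃ a, z = D hT a (-1) Sgn.neg_one) ∨ (∃ a, z = W hT * D hT a 1 Sgn.one) := by
        intro z hz1 hz2
        rcases cases_T hT z with ⟨a, s, hs, rfl⟩ | ⟨a, s, hs, rfl⟩
        · left
          rcases hs with rfl | rfl
          · exact absurd (hPS_D a) hz1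
          · exact ⟨a, rfl⟩
        · right
          rcases hs with rfl | rfl
          · exact ⟨a, rfl⟩
          · exfalso
            rw [WD_sq] at hz2
            exact hm1 hz2
      have hWDneg : ∀ a, (W hT * D hT a (-1) Sgn.neg_one) * (W hT * D hT a (-1) Sgn.neg_one) ≠ 1 := by
        intro a
        rw [WD_sq]; exact hm1
      rcases key x hx1 hx2 with ⟨a, rfl⟩ | ⟨a, rfl⟩ <;> rcases key y hy1 hy2 with ⟨a', rfl⟩ | ⟨a', rfl⟩
      · left
        rw [D_inv, D_mul]
        have : D hT (a⁻¹ * a') ((-1 : (ZMod q)ˣ)⁻¹ * -1) (Sgn.neg_one.inv.mul Sgn.neg_one)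
            = D hT (a⁻¹ * a') 1 Sgn.one := by congr 1; simp
        rw [this]; exact hPS_D _
      · right
        have e : (D hT a (-1) Sgn.neg_one)⁻¹ * (W hT * D hT a' 1 Sgn.one)
            = W hT * D hT ((-1 : (ZMod q)ˣ)⁻¹ * a⁻¹⁻¹ * a') (-1) Sgn.neg_one := by
          rw [D_inv, ← mul_assoc, D_mul_W, mul_assoc, D_mul]
          congr 2
          simp
        rw [e]; exact hWDneg _
      · right
        have e : (W hT * D hT a 1 Sgn.one)⁻¹ * D hT a' (-1) Sgn.neg_one
            = W hT * D hT ((1 : (ZMod q)ˣ)⁻¹ * a⁻¹⁻¹ * a') (-1) Sgn.neg_one := by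
          rw [mul_inv_rev, W_inv, D_inv, D_mul_W, mul_assoc, D_mul]
          congr 2
          simp
        rw [e]; exact hWDneg _
      · left
        have : (W hT * D hT a 1 Sgn.one)⁻¹ * (W hT * D hT a' 1 Sgn.one)
            = (D hT a 1 Sgn.one)⁻¹ * ((W hT)⁻¹ * W hT) * D hT a' 1 Sgn.one := by group
        rw [this, inv_mul_cancel, mul_one, D_inv, D_mul]
        have : D hT (a⁻¹ * a') ((1 : (ZMod q)ˣ)⁻¹ * 1) (Sgn.one.inv.mul Sgn.one)
            = D hT (a⁻¹ * a') 1 Sgn.one := by congr 1; simp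
        rw [this]; exact hPS_D _
    · intro x _
      exact ⟨2, hpow4 x⟩
  apply MulEquiv.ext
  intro x
  exact F3 x trivial

end Small
section Final

theorem result (q m : ℕ) [Fact q.Prime] (hq : q = 2 ^ m + 1) (hq5 : q ≠ 5)
    (T : Subgroup ((Fin 2 → ZMod q) ≃ₗ[ZMod q] (Fin 2 → ZMod q)))
    (hT : ∀ f, f ∈ T ↔ ∃ a s : ZMod q, a ≠ 0 ∧ (s = 1 ∨ s = -1) ∧
      ((∀ v, f v = ![a * v 0, s * a⁻¹ * v 1]) ∨ (∀ v, f v = ![s * a⁻¹ * v 1, a * v 0]))) :
    IsPGroup 2 (MulAut T) := by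
  have hq2 : 2 ≤ q := (Fact.out : q.Prime).two_le
  -- membership in terms of units
  have hT' : ∀ f, f ∈ T ↔ ∃ a s : (ZMod q)ˣ, Sgn s ∧ (f = dd q a s ∨ f = ww q * dd q a s) := by
    intro f
    rw [hT f]
    constructor
    · rintro ⟨a, s, ha, hs, h⟩
      have key : ∀ s' : (ZMod q)ˣ, (s' : ZMod q) = s → Sgn s' →
          ∃ a s : (ZMod q)ˣ, Sgn s ∧ (f = dd q a s ∨ f = ww q * dd q a s) := by
        intro s' hs' hsg
        refine ⟨Units.mk0 a ha, s', hsg, ?_⟩
        rcases h with h | h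
        · left
          apply LinearEquiv.ext
          intro v
          rw [h v, dd_apply, Units.val_mk0, hs']
        · right
          apply LinearEquiv.ext
          intro v
          rw [h v, LinearEquiv.mul_apply, ww_apply, dd_apply, Units.val_mk0, hs']
          simp only [Fin.isValue, Matrix.cons_val_one, Matrix.cons_val_zero]
      rcases hs with rfl | rfl
      · exact key 1 (by simp) Sgn.one
      · exact key (-1) (by simp) Sgn.neg_one
    · rintro ⟨a, s, hs, h⟩
      refine ⟨(a : ZMod q), (s : ZMod q), a.ne_zero, ?_, ?_⟩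
      · rcases hs with rfl | rfl
        · left; simp
        · right; simp
      · rcases h with rfl | rfl
        · left; intro v; rw [dd_apply]
        · right; intro v
          rw [LinearEquiv.mul_apply, ww_apply, dd_apply]
          simp only [Fin.isValue, Matrix.cons_val_one, Matrix.cons_val_zero]
  have hfinL : Finite ((Fin 2 → ZMod q) ≃ₗ[ZMod q] (Fin 2 → ZMod q)) := by
    have : NeZero q := ⟨by omega⟩
    exact Finite.of_injective (fun f => (f : (Fin 2 → ZMod q) → (Fin 2 → ZMod q)))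
      DFunLike.coe_injective
  have hfinT : Finite T := inferInstance
  apply isPGroup_two_of_odd_trivial
  intro γ r hr hγ
  have hcard : Fintype.card (ZMod q)ˣ = q - 1 := ZMod.card_units q
  have hpow : ∀ a : (ZMod q)ˣ, a ^ (2 ^ m) = 1 := by
    intro a
    have := ZMod.units_pow_card_sub_one_eq_one q a
    have e : q - 1 = 2 ^ m := by omega
    rwa [e] at this
  rcases Nat.lt_or_ge m 3 with hm | hm
  · interval_cases m
    · -- q = 2
      have hsub : Subsingleton (ZMod q)ˣ := by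
        rw [← Fintype.card_le_one_iff_subsingleton, hcard, hq]
        norm_num
      exact aut_trivial_two hT' hsub γ
    · -- q = 3
      have h3 : ∀ a : (ZMod q)ˣ, a = 1 ∨ a = -1 := by
        intro a
        apply units_sq_eq_one
        have := hpow a
        rwa [pow_one, pow_two] at this
      have hne : (-1 : (ZMod q)ˣ) ≠ 1 := by
        intro h
        have h1 : ((-1 : (ZMod q)ˣ) : ZMod q) = 1 := by rw [h]; simp
        have h2 : (2 : ZMod q) = 0 := by
          have : (-1 : ZMod q) = 1 := by simpa using h1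
          calc (2 : ZMod q) = 1 + 1 := by norm_num
            _ = -1 + 1 := by rw [this]
            _ = 0 := by ring
        have h3 : ((2 : ℕ) : ZMod q) = 0 := by exact_mod_cast h2
        rw [ZMod.natCast_eq_zero_iff] at h3
        rw [hq] at h3
        norm_num at h3
      exact aut_trivial_three hT' h3 hne γ r hr hγ
    · exfalso; apply hq5; rw [hq]; norm_num
  · -- the generic case
    have hm4 : 8 ≤ 2 ^ m := by
      calc 8 = 2 ^ 3 := by norm_num
        _ ≤ 2 ^ m := Nat.pow_le_pow_right (by norm_num) hm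
    obtain ⟨g, hg⟩ := IsCyclic.exists_generator (α := (ZMod q)ˣ)
    have hord : orderOf g = 2 ^ m := by
      rw [orderOf_eq_card_of_forall_mem_zpowers hg, Nat.card_eq_fintype_card, hcard, hq,
        Nat.add_sub_cancel]
    have hc : g ^ 4 ≠ 1 := by
      intro h
      have := orderOf_dvd_of_pow_eq_one h
      rw [hord] at this
      have := Nat.le_of_dvd (by norm_num) this
      omega
    have hsq : IsSquare (-1 : ZMod q) := by
      rw [ZMod.exists_sq_eq_neg_one_iff]
      obtain ⟨k, rfl⟩ : ∃ k, m = k + 2 := ⟨m - 2, by omega⟩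
      rw [hq, pow_add]
      omega
    obtain ⟨y, hy⟩ := hsq
    have hy0 : y ≠ 0 := by
      rintro rfl
      simp at hy
    have hi : (Units.mk0 y hy0) * (Units.mk0 y hy0) = -1 := by
      apply Units.ext
      simp [← hy]
    exact aut_trivial_big hT' g (Units.mk0 y hy0) hc hi m (by omega) hpow γ r hr hγ

end Final
end Cfsg.Agent.S3382
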