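import Cfsg.Statements.S3389
import Cfsg.Agent.Lib.Helper62.Actions
import Mathlib

set_option autoImplicit false
open Cfsg

namespace Cfsg.Agent.S3389

open Cfsg.Agent.Lib.Helper62 MulAction

section

variable {G : Type*} [Group G] [Finite G] {Ω : Type*} [Fintype Ω] [MulAction G Ω] [FaithfulSMul G Ω]

/-- The centre permutes the fixed points of `g₀`. -/
def fixSub (g₀ : G) : SubMulAction (Subgroup.center G) Ω where
  carrier := fixedBy Ω g₀
  smul_mem' := by
    intro z ω hω
    have hz : g₀ * (z : G) = (z : G) * g₀ := (Subgroup.mem_center_iff.mp z.2 g₀)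
    show g₀ • (z • ω) = z • ω
    rw [Subgroup.smul_def, ← mul_smul, hz, mul_smul]
    congr 1

theorem center_dvd [IsPretransitive G Ω] (g₀ : G) :
    Nat.card (Subgroup.center G) ∣ Nat.card (fixedBy Ω g₀) := by
  have h := card_dvd_of_free (G := Subgroup.center G) (X := fixSub (Ω := Ω) g₀) (by
    intro z x hzx
    have h1 : (z : G) • (x : Ω) = (x : Ω) := congrArg Subtype.val hzx
    apply Subtype.ext
    apply FaithfulSMul.eq_of_smul_eq_smul (α := Ω)
    intro ω
    obtain ⟨g, rfl⟩ := exists_smul_eq G (x : Ω) ω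
    show (z : G) • g • (x : Ω) = (1 : G) • g • (x : Ω)
    rw [one_smul, ← mul_smul, ← (Subgroup.mem_center_iff.mp z.2 g), mul_smul, h1])
  exact h

end

theorem result {G : Type*} [Group G] [Finite G] {Ω : Type*} [Fintype Ω] [MulAction G Ω] [FaithfulSMul G Ω]
    (htr : MulAction.IsPretransitive G Ω) (k : ℕ) (hk : 1 ≤ k)
    (hfix : ∀ g : G, g ≠ 1 → Nat.card (MulAction.fixedBy Ω g) ≤ k) (hex : ∃ g : G, g ≠ 1 ∧ Nat.card (MulAction.fixedBy Ω g) = k) :
    Nat.card (Subgroup.center G) ∣ k ∧ (k = 2 → 2 ∣ Nat.card G) ∧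
      ∀ (p : ℕ), p.Prime → k < p → p ∣ Nat.card G → ∀ α : Ω,
        ¬ p ∣ Nat.card (MulAction.stabilizer G α) ∨ ¬ p ∣ (MulAction.stabilizer G α).index := by
  obtain ⟨g₀, hg₀, hg₀k⟩ := hex
  -- key: an element of prime order p > k lies in a Sylow p-subgroup with the same fixed points
  have key : ∀ (p : ℕ) [Fact p.Prime], k < p → ∀ x : G, orderOf x = p →
      ∃ P : Sylow p G, x ∈ P ∧ ∀ ω : Ω, x • ω = ω → ∀ g ∈ P, g • ω = ω := by
    intro p _ hkp x hx
    have hx1 : x ≠ 1 := by
      intro h
      rw [h, orderOf_one] at hx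
      exact (Fact.out : p.Prime).one_lt.ne hx
    exact exists_sylow_fixedPoints_eq p x hx (lt_of_le_of_lt (hfix x hx1) hkp)
  refine ⟨?_, ?_, ?_⟩
  · rw [← hg₀k]
    exact center_dvd g₀
  · intro hk2
    subst hk2
    have ho1 : orderOf g₀ ≠ 1 := fun h => hg₀ (orderOf_eq_one_iff.mp h)
    have hpos : 0 < orderOf g₀ := orderOf_pos g₀
    set p := (orderOf g₀).minFac with hp
    have hpp : p.Prime := Nat.minFac_prime ho1
    have hpd : p ∣ orderOf g₀ := Nat.minFac_dvd _
    by_cases hp2 : p = 2
    · rw [← hp2]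
      exact hpd.trans (orderOf_dvd_natCard g₀)
    · have hfp : Fact p.Prime := ⟨hpp⟩
      have hp3 : 2 < p := lt_of_le_of_ne hpp.two_le (Ne.symm hp2)
      set x := g₀ ^ (orderOf g₀ / p) with hx
      have hxo : orderOf x = p := orderOf_pow_orderOf_div hpos.ne' hpd
      have hx1 : x ≠ 1 := by
        intro h
        rw [h, orderOf_one] at hxo
        exact hpp.one_lt.ne hxo
      have hsub : fixedBy Ω g₀ ⊆ fixedBy Ω x := by
        intro ω hω
        show (g₀ ^ (orderOf g₀ / p)) • ω = ω
        exact pow_smul_eq_iff_period_dvd.mpr (by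
          have : period g₀ ω = 1 := period_eq_one_iff.mpr hω
          rw [this]; exact one_dvd _)
      have hcardx : Nat.card (fixedBy Ω x) = 2 := by
        have h1 : Nat.card (fixedBy Ω g₀) ≤ Nat.card (fixedBy Ω x) :=
          Nat.card_mono (Set.toFinite _) hsub
        have h2 := hfix x hx1
        omega
      obtain ⟨P, hxP, hP⟩ := key p hp3 x hxo
      -- two fixed points
      have h2' : (fixedBy Ω x).ncard = 2 := by rw [← Nat.card_coe_set_eq]; exact hcardx
      obtain ⟨α, β, hαβ, hset⟩ := Set.ncard_eq_two.mp h2'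
      have hα : x • α = α := by
        have : α ∈ fixedBy Ω x := by rw [hset]; simp
        exact this
      have hβ : x • β = β := by
        have : β ∈ fixedBy Ω x := by rw [hset]; simp
        exact this
      obtain ⟨n, hn, hnβ⟩ := exists_normalizer_smul_eq p P α β (hP α hα) (hP β hβ)
      -- n • α is fixed by P, hence by x, so is α or β
      have hnα_fix : x • (n • α) = n • α := by
        have hmem : n⁻¹ * x * n ∈ (P : Subgroup G) := by
          have := (Subgroup.mem_normalizer_iff''.mp hn x).mp hxP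
          exact this
        have h3 := hP α hα _ hmem
        have h4 : x = n * (n⁻¹ * x * n) * n⁻¹ := by group
        rw [h4, mul_smul, mul_smul, inv_smul_smul, h3]
      have hnα_mem : n • α ∈ fixedBy Ω x := hnα_fix
      rw [hset] at hnα_mem
      have hnα : n • α = β := by
        rcases hnα_mem with h | h
        · exfalso
          have : n • α = n • β := by rw [h, hnβ]
          exact hαβ (smul_left_cancel n this)
        · exact h
      have h2dvd := two_dvd_orderOf_of_swap n α β hαβ hnα hnβ
      exact h2dvd.trans (orderOf_dvd_natCard n)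
  · intro p hpp hkp hpG α
    by_contra hcon
    push Not at hcon
    obtain ⟨hdvd1, hdvd2⟩ := hcon
    have hfp : Fact p.Prime := ⟨hpp⟩
    obtain ⟨y, hy⟩ := exists_prime_orderOf_dvd_card' p hdvd1
    set x : G := (y : G) with hx
    have hxo : orderOf x = p := by rw [hx, Subgroup.orderOf_coe, hy]
    obtain ⟨P, hxP, hP⟩ := key p hkp x hxo
    have hle : (P : Subgroup G) ≤ stabilizer G α := fun g hg => hP α y.2 g hg
    have hcardP := P.card_eq_multiplicity
    have hdvdP : Nat.card P ∣ Nat.card (stabilizer G α) := Subgroup.card_dvd_of_le hle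
    rw [hcardP] at hdvdP
    have hmul := Subgroup.index_mul_card (stabilizer G α)
    have hbad : p ^ ((Nat.card G).factorization p + 1) ∣ Nat.card G := by
      have h5 := Nat.mul_dvd_mul hdvd2 hdvdP
      rw [hmul] at h5
      rw [pow_succ, mul_comm]
      exact h5
    exact Nat.pow_succ_factorization_not_dvd Nat.card_pos.ne' hpp hbad

end Cfsg.Agent.S3389
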