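import Cfsg.Statements.S3391
import Cfsg.Agent.Lib.Helper09.SuzukiFixity
import Cfsg.Agent.Lib.Helper09.SuzukiLie

set_option autoImplicit false
open Cfsg

namespace Cfsg.Agent.S3391

/-- Let q = 2^{2m+1} ≥ 8 and let G be isomorphic to the Suzuki group Sz(q). If G acts faithfully and transitively on a finite set Ω with fixity 2 (every non-identity element fixes at most two points, and some fixes exactly two), then either |Ω| = q² + 1 and the action is 2-transitive, or |Ω| = q²(q² + 1) and the point stabilizers have order q − 1. -/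
theorem result {G : Type*} [Group G] [Finite G] (F : Type) [Field F] [Fintype F] (m : ℕ) (hm : 1 ≤ m) (hF : Fintype.card F = 2 ^ (2 * m + 1))
    (e : G ≃* ↥(Cfsg.Lie.Sz F (2 ^ (m + 1)))) {Ω : Type*} [Fintype Ω] [MulAction G Ω] [FaithfulSMul G Ω] (htr : MulAction.IsPretransitive G Ω)
    (hfix : ∀ g : G, g ≠ 1 → Nat.card (MulAction.fixedBy Ω g) ≤ 2) (hex : ∃ g : G, g ≠ 1 ∧ Nat.card (MulAction.fixedBy Ω g) = 2) :
    (Fintype.card Ω = Fintype.card F ^ 2 + 1 ∧ MulAction.IsMultiplyPretransitive G Ω 2) ∨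
    (Fintype.card Ω = Fintype.card F ^ 2 * (Fintype.card F ^ 2 + 1) ∧ ∀ α : Ω, Nat.card (MulAction.stabilizer G α) = Fintype.card F - 1) := by
  open Cfsg.Agent.Lib.Helper09 MulAction in
  classical
  let e' : G ≃* ↥(Cfsg.Sz F m) := e.trans (lieEquiv hm hF).symm
  let act : MulAction ↥(Cfsg.Sz F m) Ω := MulAction.compHom Ω (e'.symm : ↥(Cfsg.Sz F m) →* G)
  have hsmul : ∀ (s : ↥(Cfsg.Sz F m)) (ω : Ω), s • ω = e'.symm s • ω := fun _ _ => rfl
  have hsmul' : ∀ (g : G) (ω : Ω), e' g • ω = g • ω := by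
    intro g ω
    rw [hsmul, e'.symm_apply_apply]
  have : IsPretransitive ↥(Cfsg.Sz F m) Ω := ⟨fun a b => by
    obtain ⟨g, hg⟩ := htr.exists_smul_eq a b
    exact ⟨e' g, by rw [hsmul', hg]⟩⟩
  have hfixedBy : ∀ s : ↥(Cfsg.Sz F m), fixedBy Ω s = fixedBy Ω (e'.symm s) := by
    intro s
    ext ω
    rw [mem_fixedBy, mem_fixedBy, hsmul]
  have hfix' : ∀ s : ↥(Cfsg.Sz F m), s ≠ 1 → Nat.card (fixedBy Ω s) ≤ 2 := by
    intro s hs
    rw [hfixedBy]
    apply hfix
    intro h
    apply hs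
    have := congrArg e' h
    rwa [e'.apply_symm_apply, map_one] at this
  obtain ⟨g₀, hg₀1, hg₀2⟩ := hex
  have hntop : ∀ α : Ω, stabilizer ↥(Cfsg.Sz F m) α ≠ ⊤ := by
    intro α htop
    have hall : ∀ β : Ω, β = α := by
      intro β
      obtain ⟨s, hs⟩ := exists_smul_eq ↥(Cfsg.Sz F m) α β
      have : s ∈ stabilizer ↥(Cfsg.Sz F m) α := by rw [htop]; exact Subgroup.mem_top _
      rw [← hs]
      exact mem_stabilizer_iff.1 this
    have hsub : Subsingleton Ω := ⟨fun a b => (hall a).trans (hall b).symm⟩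
    have : Nat.card (fixedBy Ω g₀) ≤ 1 := Finite.card_le_one_iff_subsingleton.2 inferInstance
    omega
  have hnbot : ∃ α : Ω, stabilizer ↥(Cfsg.Sz F m) α ≠ ⊥ := by
    have hne : Nonempty (fixedBy Ω g₀) := by
      have : 0 < Nat.card (fixedBy Ω g₀) := by omega
      exact (Nat.card_pos_iff.1 this).1
    obtain ⟨⟨α, hα⟩⟩ := hne
    refine ⟨α, ?_⟩
    intro hbot
    have hmem : e' g₀ ∈ stabilizer ↥(Cfsg.Sz F m) α := by
      rw [mem_stabilizer_iff, hsmul']
      exact hα
    rw [hbot, Subgroup.mem_bot] at hmem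
    apply hg₀1
    have := congrArg e'.symm hmem
    rwa [e'.symm_apply_apply, map_one] at this
  have hcardΩ : Fintype.card Ω = Nat.card Ω := (Nat.card_eq_fintype_card).symm
  rcases fixity_core hm hF hfix' hntop hnbot with ⟨α, hα⟩ | ⟨α, hα⟩
  · left
    refine ⟨?_, ?_⟩
    · rw [hcardΩ, card_of_stab_eq_inf hm hF hα, hF]
    · have h2 := two_trans_of_stab_eq_inf hF hα
      rw [is_two_pretransitive_iff] at h2 ⊢
      intro a b c d hab hcd
      obtain ⟨s, hs1, hs2⟩ := h2 hab hcd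
      exact ⟨e'.symm s, hs1, hs2⟩
  · right
    obtain ⟨h1, h2⟩ := card_of_stab_eq_Hz hm hF hα
    refine ⟨?_, ?_⟩
    · rw [hcardΩ, h1, hF]
    · intro β
      have hmap : stabilizer ↥(Cfsg.Sz F m) β = (stabilizer G β).map e'.toMonoidHom := by
        ext s
        rw [Subgroup.mem_map_equiv, mem_stabilizer_iff, mem_stabilizer_iff, hsmul]
      have := h2 β
      rw [hmap, Subgroup.card_map_of_injective e'.injective] at this
      rw [this, hF]

end Cfsg.Agent.S3391
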