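import Cfsg.Statements.S3401
import Cfsg.Agent.Lib.Helper63.JordanNormal
import Cfsg.Agent.Lib.Helper63.TwoTransPrimitive
import Cfsg.Agent.Lib.Helper63.TwoTransSimple
import Cfsg.Agent.Lib.Helper63.TwoModFour

set_option autoImplicit false
open Cfsg

namespace Cfsg.Agent.S3401

open Cfsg.Agent.Lib.Helper63 Cfsg.Agent.Lib.Helper63.Wagner MulAction Equiv

theorem exists_min_normal {G : Type*} [Group G] [Finite G] [Nontrivial G] :
    ∃ M : Subgroup G, M.Normal ∧ M ≠ ⊥ ∧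
      ∀ L : Subgroup G, L.Normal → L ≤ M → L = ⊥ ∨ L = M := by
  classical
  let P : ℕ → Prop := fun d => ∃ T : Subgroup G, T.Normal ∧ T ≠ ⊥ ∧ Nat.card T = d
  have hex : ∃ d, P d := ⟨Nat.card (⊤ : Subgroup G), ⊤, inferInstance, top_ne_bot, rfl⟩
  obtain ⟨M, hMn, hMbot, hMd⟩ := Nat.find_spec hex
  refine ⟨M, hMn, hMbot, ?_⟩
  intro L hLn hLM
  by_cases hL : L = ⊥
  · exact Or.inl hL
  · right
    apply Subgroup.eq_of_le_of_card_ge hLM
    rw [hMd]
    exact Nat.find_min' hex ⟨L, hLn, hL, rfl⟩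

/-- Let G be a doubly transitive permutation group on a finite set Ω with |Ω| ≡ 2 mod 4 and |Ω| > 2. Then G has a unique minimal normal subgroup M (a nontrivial normal subgroup contained in every nontrivial normal subgroup); M is simple and doubly transitive on Ω, and its centralizer in G is trivial (so G embeds in Aut(M)). -/
theorem result {G : Type*} [Group G] [Finite G] {Ω : Type*} [Fintype Ω] [MulAction G Ω] [FaithfulSMul G Ω]
    (h2 : MulAction.IsMultiplyPretransitive G Ω 2) (hn : Fintype.card Ω % 4 = 2) (hn2 : 2 < Fintype.card Ω) :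
    ∃ M : Subgroup G, M.Normal ∧ M ≠ ⊥ ∧ (∀ N : Subgroup G, N.Normal → N ≠ ⊥ → M ≤ N) ∧
      IsSimpleGroup ↥M ∧ MulAction.IsMultiplyPretransitive ↥M Ω 2 ∧ Subgroup.centralizer (M : Set G) = ⊥ := by
  classical
  have hprim : IsPreprimitive G Ω := isPreprimitive_of_is_two_pretransitive h2
  have hGtr : IsPretransitive G Ω := hprim.toIsPretransitive
  obtain ⟨a₀⟩ : Nonempty Ω := by rw [← Fintype.card_pos_iff]; omega
  obtain ⟨b₀, hb₀⟩ : ∃ b, b ≠ a₀ := Fintype.exists_ne_of_one_lt_card (by omega) a₀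
  obtain ⟨c₀, hc₀a, hc₀b⟩ : ∃ c, c ≠ a₀ ∧ c ≠ b₀ := by
    by_contra hcon
    push Not at hcon
    have hsub : (Finset.univ : Finset Ω) ⊆ {a₀, b₀} := by
      intro d _
      by_cases hd : d = a₀
      · simp [hd]
      · simp [hcon d hd]
    have := Finset.card_le_card hsub
    rw [Finset.card_univ] at this
    have h3 : ({a₀, b₀} : Finset Ω).card ≤ 2 := Finset.card_le_two
    omega
  have hGnt : Nontrivial G := by
    obtain ⟨g, hg⟩ := exists_smul_eq G a₀ b₀
    refine ⟨g, 1, ?_⟩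
    rintro rfl
    rw [one_smul] at hg
    exact hb₀ hg.symm
  obtain ⟨M, hMn, hMbot, hMmin⟩ := exists_min_normal (G := G)
  have hMtr : IsPretransitive M Ω := pretransitive_of_normal_ne_bot hprim M hMbot
  -- transfer to permutations
  obtain ⟨φ, hφ⟩ : ∃ φ : G →* Perm Ω, φ = MulAction.toPermHom G Ω := ⟨_, rfl⟩
  have hφa : ∀ (g : G) (x : Ω), φ g x = g • x := by
    intro g x; rw [hφ]; rfl
  have hnorm : ∀ g ∈ φ.range, ∀ x ∈ M.map φ, g * x * g⁻¹ ∈ M.map φ := by
    rintro _ ⟨g, rfl⟩ _ ⟨m, hm, rfl⟩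
    exact ⟨g * m * g⁻¹, hMn.conj_mem m hm g, by rw [map_mul, map_mul, map_inv]⟩
  have hG2 : T2 φ.range := by
    intro a b c d hab hcd
    obtain ⟨g, hga, hgb⟩ := exists_smul_pair h2 hab hcd
    exact ⟨φ g, ⟨g, rfl⟩, by rw [hφa]; exact hga, by rw [hφa]; exact hgb⟩
  have hM1 : ∀ a b : Ω, ∃ x ∈ M.map φ, x a = b := by
    intro a b
    obtain ⟨m, hm⟩ := exists_smul_eq M a b
    exact ⟨φ m, ⟨m, m.2, rfl⟩, by rw [hφa]; exact hm⟩
  have hstab := stab_transitive_of_mod_four (by rw [Nat.card_eq_fintype_card]; exact hn)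
    φ.range (M.map φ) (Subgroup.map_le_range φ M) hnorm hG2 hM1
  have hT2M : T2 (M.map φ) := by
    intro a b c d hab hcd
    obtain ⟨x1, hx1, hx1a⟩ := hM1 a c
    have hne : x1 b ≠ c := by
      rw [← hx1a]; intro h; exact hab (x1.injective h).symm
    obtain ⟨x2, hx2, hx2c, hx2d⟩ := hstab c (x1 b) d hne hcd.symm
    refine ⟨x2 * x1, (M.map φ).mul_mem hx2 hx1, ?_, ?_⟩
    · rw [Perm.mul_apply, hx1a, hx2c]
    · rw [Perm.mul_apply, hx2d]
  have hM2 : IsMultiplyPretransitive M Ω 2 := by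
    rw [isMultiplyPretransitive_iff]
    intro x y
    obtain ⟨m', hm', h0, h1⟩ := hT2M (x 0) (x 1) (y 0) (y 1) (x.injective.ne (by decide))
      (y.injective.ne (by decide))
    obtain ⟨m, hm, rfl⟩ := hm'
    refine ⟨⟨m, hm⟩, ?_⟩
    ext i
    fin_cases i
    · rw [hφa] at h0; exact h0
    · rw [hφa] at h1; exact h1
  -- `M` is not semiregular
  obtain ⟨n₀, hn₀M, hn₀1, hn₀a⟩ : ∃ n ∈ M, n ≠ 1 ∧ n • a₀ = a₀ := by
    obtain ⟨m', hm', h0, h1⟩ := hT2M a₀ b₀ a₀ c₀ hb₀.symm hc₀a.symm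
    obtain ⟨m, hm, rfl⟩ := hm'
    rw [hφa] at h0 h1
    refine ⟨m, hm, ?_, h0⟩
    rintro rfl
    rw [one_smul] at h1
    exact hc₀b h1.symm
  have hprimM : IsPreprimitive M Ω :=
    isPreprimitive_of_minimal_normal h2 M hMmin ⟨a₀, n₀, hn₀M, hn₀1, hn₀a⟩
  have hsimple : IsSimpleGroup M := isSimpleGroup_of_minimal_normal h2 M hMbot hMmin hprimM
  have hcent : Subgroup.centralizer (M : Set G) = ⊥ := by
    by_contra hC
    have hCtr : IsPretransitive (Subgroup.centralizer (M : Set G)) Ω :=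
      pretransitive_of_normal_ne_bot hprim _ hC
    apply hn₀1
    apply eq_one_of_commute_transitive (Subgroup.centralizer (M : Set G)) _ _ hn₀a
    · intro x y
      obtain ⟨t, ht⟩ := exists_smul_eq (Subgroup.centralizer (M : Set G)) x y
      exact ⟨t, t.2, ht⟩
    · intro t ht
      exact (Subgroup.mem_centralizer_iff.mp ht n₀ hn₀M).symm
  refine ⟨M, hMn, hMbot, ?_, hsimple, hM2, hcent⟩
  intro N hNn hNbot
  rcases hMmin (M ⊓ N) inferInstance inf_le_left with h | h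
  · exfalso
    apply hNbot
    rw [eq_bot_iff, ← hcent]
    intro n hn'
    rw [Subgroup.mem_centralizer_iff]
    intro m hm
    exact (Subgroup.commute_of_normal_of_disjoint M N hMn hNn (disjoint_iff.mpr h) m n hm hn').eq
  · exact inf_eq_left.mp h

end Cfsg.Agent.S3401
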