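import Cfsg.Statements.S3419
import Cfsg.Agent.Lib.Helper64.AltSpec
import Cfsg.Agent.Lib.Helper63.TwoPrimes

set_option autoImplicit false
open Cfsg

namespace Cfsg.Agent.S3419

open Cfsg.Agent.Lib.Helper64.AltSpec

/-- Let n ≥ 5 and let G be a finite group with the same order and the same set of element orders as the alternating group of degree n. Then G is not solvable. -/
theorem result {G : Type*} [Group G] [Finite G] (n : ℕ) (hn : 5 ≤ n)
    (hcard : Nat.card G = Nat.card ↥(alternatingGroup (Fin n)))
    (hspec : Set.range (orderOf : G → ℕ) = Set.range (orderOf : ↥(alternatingGroup (Fin n)) → ℕ)) :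
    ¬ Group.IsSolvable G := by
  intro hsolv
  have : Nontrivial (Fin n) := Fin.nontrivial_iff_two_le.mpr (by omega)
  have h2N : 2 * Nat.card G = n.factorial := by
    rw [hcard, two_mul_nat_card_alternatingGroup, Nat.card_perm, Nat.card_fin]
  -- the generic case
  have gen : ∀ p q : ℕ, p.Prime → q.Prime → 3 ≤ p → p < q → q ≤ n → n < 2 * p → False :=
    fun p q hp hq h3 hpq hqn hnp => core_two_primes n h2N hspec p q hp hq h3 hpq hqn hnp
  by_cases h12 : 12 ≤ n
  · obtain ⟨p, q, hp, hq, h1, h2, h3⟩ :=
      Cfsg.Agent.Lib.Helper63.TwoPrimes.exists_two_primes (n / 2) (by omega)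
    exact gen p q hp hq (by omega) h2 (by omega) (by omega)
  · have hcases : n = 5 ∨ n = 6 ∨ n = 7 ∨ n = 8 ∨ n = 9 ∨ n = 10 ∨ n = 11 := by omega
    rcases hcases with rfl | rfl | rfl | rfl | rfl | rfl | rfl
    · exact gen 3 5 (by norm_num) (by norm_num) (by norm_num) (by norm_num) (by norm_num)
        (by norm_num)
    · -- n = 6 : Hall {3,5}-subgroup of order 45
      have hG : Nat.card G = (3 ^ 2 * 5 ^ 1) * 8 := by
        have : Nat.factorial 6 = 720 := by decide
        omega
      refine core 6 hspec 3 5 2 1 8 (by norm_num) (by norm_num) (by norm_num) (by norm_num)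
        (by norm_num) (by norm_num) hG (by norm_num) ?_ ?_
      · intro d hd h1
        have hle : d ≤ 5 := Nat.le_of_dvd (by norm_num) hd
        interval_cases d <;> omega
      · intro d hd h1
        have hle : d ≤ 9 := Nat.le_of_dvd (by norm_num) hd
        interval_cases d <;> omega
    · exact gen 5 7 (by norm_num) (by norm_num) (by norm_num) (by norm_num) (by norm_num)
        (by norm_num)
    · exact gen 5 7 (by norm_num) (by norm_num) (by norm_num) (by norm_num) (by norm_num)
        (by norm_num)
    · exact gen 5 7 (by norm_num) (by norm_num) (by norm_num) (by norm_num) (by norm_num)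
        (by norm_num)
    · -- n = 10 : Hall {5,7}-subgroup of order 175
      have hG : Nat.card G = (5 ^ 2 * 7 ^ 1) * 10368 := by
        have : Nat.factorial 10 = 3628800 := by decide
        omega
      refine core 10 hspec 5 7 2 1 10368 (by norm_num) (by norm_num) (by norm_num) (by norm_num)
        (by norm_num) (by norm_num) hG (by norm_num) ?_ ?_
      · intro d hd h1
        have hle : d ≤ 7 := Nat.le_of_dvd (by norm_num) hd
        interval_cases d <;> omega
      · intro d hd h1
        have hle : d ≤ 25 := Nat.le_of_dvd (by norm_num) hd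
        interval_cases d <;> omega
    · exact gen 7 11 (by norm_num) (by norm_num) (by norm_num) (by norm_num) (by norm_num)
        (by norm_num)

end Cfsg.Agent.S3419
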