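import Cfsg.Statements.S3420
import Cfsg.Agent.Lib.Helper64.AltSpec
import Cfsg.Agent.Lib.Helper63.TwoPrimes
import Cfsg.Agent.Lib.Helper64.SimpleSection

set_option autoImplicit false
open Cfsg

namespace Cfsg.Agent.S3420

open Cfsg.Agent.Lib.Helper64.AltSpec Cfsg.Agent.Lib.Helper64.SimpleSection

/-- Let n ≥ 11 and let G be a finite group with the same order and the same set of element orders as the alternating group of degree n. Then G has normal subgroups N < H such that H/N is a non-abelian simple group whose order is divisible by every prime p with n/2 < p ≤ n. -/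
theorem result {G : Type*} [Group G] [Finite G] (n : ℕ) (hn : 11 ≤ n)
    (hcard : Nat.card G = Nat.card ↥(alternatingGroup (Fin n)))
    (hspec : Set.range (orderOf : G → ℕ) = Set.range (orderOf : ↥(alternatingGroup (Fin n)) → ℕ)) :
    ∃ (N H : Subgroup G) (_ : N.Normal), H.Normal ∧ N < H ∧
      IsSimpleGroup (↥H ⧸ N.subgroupOf H) ∧ ¬ IsMulCommutative (↥H ⧸ N.subgroupOf H) ∧
      ∀ p : ℕ, p.Prime → n < 2 * p → p ≤ n → p ∣ Nat.card (↥H ⧸ N.subgroupOf H) := by
  have : Nontrivial (Fin n) := Fin.nontrivial_iff_two_le.mpr (by omega)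
  have h2N : 2 * Nat.card G = n.factorial := by
    rw [hcard, two_mul_nat_card_alternatingGroup, Nat.card_perm, Nat.card_fin]
  let t : Set ℕ := {p | p.Prime ∧ n < 2 * p ∧ p ≤ n}
  have h3 : ∀ p ∈ t, 3 ≤ p := fun p hp => by
    have := hp.2.1
    omega
  have ht2 : ∃ p ∈ t, ∃ q ∈ t, p ≠ q := by
    by_cases h12 : 12 ≤ n
    · obtain ⟨p, q, hp, hq, h1, h2, h3⟩ :=
        Cfsg.Agent.Lib.Helper63.TwoPrimes.exists_two_primes (n / 2) (by omega)
      exact ⟨p, ⟨hp, by omega, by omega⟩, q, ⟨hq, by omega, by omega⟩, h2.ne⟩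
    · have h11 : n = 11 := by omega
      subst h11
      exact ⟨7, ⟨by norm_num, by norm_num, by norm_num⟩, 11,
        ⟨by norm_num, by norm_num, by norm_num⟩, by norm_num⟩
  obtain ⟨N, H, hNn, hHn, hlt, hs, hnc, hdvd⟩ := exists_simple_section (G := G) t ht2
    (fun p hp => hp.1)
    (fun p hp => prime_dvd_card n h2N p hp.1 (h3 p hp) hp.2.2)
    (fun p hp => not_sq_dvd_card n h2N p hp.1 (h3 p hp) hp.2.2 hp.2.1)
    (fun p hp q hq hpq g =>
      no_orderOf_mul_of_spec n hspec p q hp.1 hq.1 hpq (by have := hp.2.1; have := hq.2.1; omega) g)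
    (fun p hp q hq => not_dvd_pred n p q hp.1 hq.1 (h3 p hp) (h3 q hq) hq.2.2 hp.2.1)
  exact ⟨N, H, hNn, hHn, hlt, hs, hnc, fun p hp h1 h2 => hdvd p ⟨hp, h1, h2⟩⟩

end Cfsg.Agent.S3420
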