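import Cfsg.Statements.S3430
import Cfsg.Agent.Lib.Helper78.CycloTable

set_option autoImplicit false
open Cfsg

namespace Cfsg.Agent.S3430

open Cfsg.Agent.Lib.Helper78.Cyclo

/-- table entries outside the eight exceptional pairs have `m > n + 1` -/
theorem tab_large : ∀ t ∈ primTab,
    ¬ (t.1 = 2 ∧ (t.2.1 = 4 ∨ t.2.1 = 6 ∨ t.2.1 = 10 ∨ t.2.1 = 12 ∨ t.2.1 = 18)) →
    ¬ (t.1 = 3 ∧ (t.2.1 = 4 ∨ t.2.1 = 6)) → ¬ (t.1 = 5 ∧ t.2.1 = 6) → t.2.1 + 1 < t.2.2 := by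
  decide +kernel

theorem sq_sub_one (q : ℕ) (hq : 1 ≤ q) : q ^ 2 - 1 = (q - 1) * (q + 1) := by
  obtain ⟨r, rfl⟩ : ∃ r, q = r + 1 := ⟨q - 1, by omega⟩
  have : (r + 1) ^ 2 = r * (r + 1 + 1) + 1 := by ring
  rw [this]
  simp

/-- the case `n = 2` -/
theorem two_case (q : ℕ) (hq : 2 ≤ q) (h : ¬ ∃ s t : ℕ, t ≤ 1 ∧ q + 1 = 2 ^ s * 3 ^ t) :
    ∃ p : ℕ, p.Prime ∧ p ∣ q ^ 2 - 1 ∧ (∀ i : ℕ, 1 ≤ i → i < 2 → ¬ p ∣ q ^ i - 1) ∧
      (2 + 1 < p ∨ p ^ 2 ∣ q ^ 2 - 1) := by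
  have hfac := sq_sub_one q (by omega)
  obtain ⟨s, u, hu, hqu⟩ := Nat.exists_eq_two_pow_mul_odd (n := q + 1) (by omega)
  have hudvd : u ∣ q ^ 2 - 1 := by
    rw [hfac, hqu]
    exact (Dvd.intro_left _ rfl).mul_left _
  -- a prime dividing `q + 1` and `q - 1` is `2`
  have hprim : ∀ p : ℕ, p.Prime → p ∣ u → ∀ i : ℕ, 1 ≤ i → i < 2 → ¬ p ∣ q ^ i - 1 := by
    intro p hp hpu i hi hi2 hpi
    have hi1 : i = 1 := by omega
    subst hi1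
    rw [pow_one] at hpi
    have h1 : p ∣ q + 1 := by rw [hqu]; exact hpu.mul_left _
    have h2 : p ∣ (q + 1) - (q - 1) := Nat.dvd_sub h1 hpi
    have h3 : (q + 1) - (q - 1) = 2 := by omega
    rw [h3] at h2
    have hp2 : p = 2 := (Nat.prime_dvd_prime_iff_eq hp Nat.prime_two).mp h2
    subst hp2
    exact (Nat.not_even_iff_odd.mpr hu) (even_iff_two_dvd.mpr hpu)
  by_cases hex : ∃ p : ℕ, p.Prime ∧ p ∣ u ∧ p ≠ 3
  · obtain ⟨p, hp, hpu, hp3⟩ := hex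
    refine ⟨p, hp, hpu.trans hudvd, hprim p hp hpu, Or.inl ?_⟩
    have hp2 : p ≠ 2 := by
      rintro rfl
      exact (Nat.not_even_iff_odd.mpr hu) (even_iff_two_dvd.mpr hpu)
    have := hp.two_le
    have hp4 : p ≠ 4 := by
      rintro rfl
      norm_num at hp
    omega
  · push Not at hex
    have hu0 : u ≠ 0 := by
      rintro rfl
      simp at hqu
    have hu3 : u = 3 ^ u.primeFactorsList.length :=
      Nat.eq_prime_pow_of_unique_prime_dvd hu0 (fun {d} hd hdu => hex d hd hdu)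
    obtain ⟨k, hk⟩ : ∃ k, u.primeFactorsList.length = k := ⟨_, rfl⟩
    rw [hk] at hu3
    have hk2 : 2 ≤ k := by
      by_contra hk'
      push Not at hk'
      apply h
      refine ⟨s, k, by omega, ?_⟩
      rw [hqu, hu3]
    have h9 : 3 ^ 2 ∣ u := by
      rw [hu3]
      exact pow_dvd_pow 3 hk2
    have h3u : 3 ∣ u := (dvd_pow_self 3 (by norm_num)).trans h9
    exact ⟨3, Nat.prime_three, h3u.trans hudvd, hprim 3 Nat.prime_three h3u,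
      Or.inr (h9.trans hudvd)⟩

/-- Let q, n ≥ 2 be integers. Unless (n = 2 and q + 1 = 2^s·3^t for some s ≥ 0 and t ≤ 1), or (q = 2 and n ∈ {4, 6, 10, 12, 18}), or (q = 3 and n ∈ {4, 6}), or (q, n) = (5, 6), there is a prime p dividing q^n − 1 but no q^i − 1 with 1 ≤ i < n (a primitive prime divisor), such that p > n + 1 or p² divides q^n − 1. -/
theorem result (q n : ℕ) (hq : 2 ≤ q) (hn : 2 ≤ n)
    (h1 : ¬ (n = 2 ∧ ∃ s t : ℕ, t ≤ 1 ∧ q + 1 = 2 ^ s * 3 ^ t))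
    (h2 : ¬ (q = 2 ∧ (n = 4 ∨ n = 6 ∨ n = 10 ∨ n = 12 ∨ n = 18)))
    (h3 : ¬ (q = 3 ∧ (n = 4 ∨ n = 6))) (h4 : ¬ (q = 5 ∧ n = 6)) :
    ∃ p : ℕ, p.Prime ∧ p ∣ q ^ n - 1 ∧ (∀ i : ℕ, 1 ≤ i → i < n → ¬ p ∣ q ^ i - 1) ∧ (n + 1 < p ∨ p ^ 2 ∣ q ^ n - 1) := by
  rcases Nat.lt_or_ge n 3 with hn3 | hn3
  · have hn2 : n = 2 := by omega
    subst hn2
    exact two_case q hq (fun hex => h1 ⟨rfl, hex⟩)
  · obtain ⟨m, hm, hprim, h⟩ := exists_primitive_part_ge_or_table q n hq hn3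
    apply exists_large_prime q n m (by omega) (by omega) hm hprim
    rcases h with h | h
    · omega
    · exact tab_large _ h h2 h3 h4

end Cfsg.Agent.S3430
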