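import Cfsg.Statements.S3431
import Cfsg.Agent.Lib.Helper22.NseDefs
import Cfsg.Agent.Lib.Helper61.NseA
import Cfsg.Agent.Lib.Helper23.NseAS
import Cfsg.Agent.Lib.Helper64.NseB4
import Cfsg.Agent.Lib.Helper64.NseB5
import Cfsg.Agent.Lib.Helper64.NseB6
import Cfsg.Agent.Lib.Helper28.NseC4
import Cfsg.Agent.Lib.Helper89.NseC5a
import Cfsg.Agent.Lib.Helper89.NseC5b
import Cfsg.Agent.Lib.Helper21.NseC6a
import Cfsg.Agent.Lib.Helper85.NseC6b
import Cfsg.Agent.Lib.Helper89.NseC6c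
import Cfsg.Agent.Lib.Helper21.NseC6d
import Cfsg.Agent.Lib.Helper51.NseD4
import Cfsg.Agent.Lib.Helper79.NseD5
import Cfsg.Agent.Lib.Helper96.NseD6

set_option autoImplicit false
open Cfsg

namespace Cfsg.Agent.S3431

open Cfsg.Agent.Lib.Helper22.Nse

/-- Let n be 4, 5 or 6 and let G be a finite group whose set of sizes of same-order classes (the set of numbers #{g : o(g) = m} over the element orders m of G) equals that of the alternating group of degree n. Then G is isomorphic to that alternating group. -/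
theorem result {G : Type*} [Group G] [Finite G] (n : ℕ) (hn : n = 4 ∨ n = 5 ∨ n = 6)
    (h : ((fun m : ℕ => Nat.card {g : G // orderOf g = m}) '' Set.range (orderOf : G → ℕ)) = ((fun m : ℕ => Nat.card {g : ↥(alternatingGroup (Fin n)) // orderOf g = m}) '' Set.range (orderOf : ↥(alternatingGroup (Fin n)) → ℕ))) :
    Nonempty (G ≃* ↥(alternatingGroup (Fin n))) := by
  rcases hn with rfl | rfl | rfl
  · rw [Cfsg.Agent.Lib.Helper64.Nse.nse_A4] at h
    obtain ⟨hN, h3⟩ := Cfsg.Agent.Lib.Helper28.Nse.arith_A4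
      (Cfsg.Agent.Lib.Helper61.Nse.nseHyp_of_group _ h)
    exact Cfsg.Agent.Lib.Helper51.Nse.recog_A4 hN h3
  · rw [Cfsg.Agent.Lib.Helper64.Nse.nse_A5] at h
    have H := Cfsg.Agent.Lib.Helper61.Nse.nseHyp_of_group _ h
    obtain ⟨hN, h3, h5, hsp⟩ := Cfsg.Agent.Lib.Helper89.Nse.arith_A5 H
      Cfsg.Agent.Lib.Helper23.Nse.sylowHyp_of_group (Cfsg.Agent.Lib.Helper89.Nse.a5_basic H)
    exact Cfsg.Agent.Lib.Helper79.Nse.recog_A5 hN h3 h5 hsp
  · rw [Cfsg.Agent.Lib.Helper64.Nse.nse_A6] at h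
    have H := Cfsg.Agent.Lib.Helper61.Nse.nseHyp_of_group _ h
    have B := Cfsg.Agent.Lib.Helper21.Nse.a6_basic H
    have P := Cfsg.Agent.Lib.Helper85.Nse.a6_parts H Cfsg.Agent.Lib.Helper23.Nse.sylowHyp_of_group B
    have h5 := Cfsg.Agent.Lib.Helper89.Nse.a6_five H B P
    obtain ⟨hN, hsp⟩ := Cfsg.Agent.Lib.Helper21.Nse.a6_final H
      Cfsg.Agent.Lib.Helper23.Nse.sylowHyp_of_group B P h5
    exact Cfsg.Agent.Lib.Helper96.Nse.recog_A6 hN (B.three (by rw [hN]; norm_num)) (B.five h5) hsp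

end Cfsg.Agent.S3431
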