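import Mathlib
import Cfsg.Statements.S3438
import Cfsg.Agent.S2366

set_option autoImplicit false
open Cfsg

namespace Cfsg.Agent.S3438

open scoped Matrix

section model

variable {K : Type} [Field K]

/-- diagonal-type affine matrix -/
def Dm (u n₁ n₂ : K) : Matrix (Fin 3) (Fin 3) K := !![u, 0, n₁; 0, u ^ 5, n₂; 0, 0, 1]

/-- antidiagonal-type affine matrix -/
def Em (ι u n₁ n₂ : K) : Matrix (Fin 3) (Fin 3) K := !![0, u, n₁; ι * u ^ 5, 0, n₂; 0, 0, 1]

theorem Dm_one : Dm (1 : K) 0 0 = 1 := by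
  unfold Dm
  rw [Matrix.one_fin_three, one_pow]

theorem Dm_mul_Dm (u n₁ n₂ v m₁ m₂ : K) :
    Dm u n₁ n₂ * Dm v m₁ m₂ = Dm (u * v) (u * m₁ + n₁) (u ^ 5 * m₂ + n₂) := by
  unfold Dm
  rw [Matrix.mul_fin_three]
  ext i j
  fin_cases i <;> fin_cases j <;> simp <;> ring

theorem Dm_mul_Em (ι u n₁ n₂ v m₁ m₂ : K) :
    Dm u n₁ n₂ * Em ι v m₁ m₂ = Em ι (u * v) (u * m₁ + n₁) (u ^ 5 * m₂ + n₂) := by
  unfold Dm Em
  rw [Matrix.mul_fin_three]
  ext i j
  fin_cases i <;> fin_cases j <;> simp <;> ring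

theorem Em_mul_Dm (ι u n₁ n₂ v m₁ m₂ : K) (hv : v ^ 12 = 1) :
    Em ι u n₁ n₂ * Dm v m₁ m₂ = Em ι (u * v ^ 5) (u * m₂ + n₁) (ι * u ^ 5 * m₁ + n₂) := by
  have e : ι * (u * v ^ 5) ^ 5 = ι * u ^ 5 * v := by
    have : v ^ 25 = v := by
      rw [show 25 = 12 * 2 + 1 by norm_num, pow_succ, pow_mul, hv, one_pow, one_mul]
    rw [mul_pow, ← pow_mul, show 5 * 5 = 25 by norm_num, this]
    ring
  unfold Dm Em
  rw [Matrix.mul_fin_three, e]
  ext i j
  fin_cases i <;> fin_cases j <;> simp <;> ring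

theorem Em_mul_Em (ι u n₁ n₂ v m₁ m₂ : K) (hι : ι ^ 4 = 1) (hv : v ^ 12 = 1) :
    Em ι u n₁ n₂ * Em ι v m₁ m₂ = Dm (ι * u * v ^ 5) (u * m₂ + n₁) (ι * u ^ 5 * m₁ + n₂) := by
  have e : (ι * u * v ^ 5) ^ 5 = ι * u ^ 5 * v := by
    have h1 : v ^ 25 = v := by
      rw [show 25 = 12 * 2 + 1 by norm_num, pow_succ, pow_mul, hv, one_pow, one_mul]
    have h2 : ι ^ 5 = ι := by rw [pow_succ, hι, one_mul]
    rw [mul_pow, mul_pow, ← pow_mul, show 5 * 5 = 25 by norm_num, h1, h2]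
  unfold Dm Em
  rw [Matrix.mul_fin_three, e]
  ext i j
  fin_cases i <;> fin_cases j <;> simp <;> ring

/-- powers of a diagonal-type matrix -/
theorem Dm_pow (u n₁ n₂ : K) (j : ℕ) :
    Dm u n₁ n₂ ^ j = Dm (u ^ j) ((∑ i ∈ Finset.range j, u ^ i) * n₁)
      ((∑ i ∈ Finset.range j, (u ^ 5) ^ i) * n₂) := by
  induction j with
  | zero => simp [Dm_one]
  | succ j ih =>
    rw [pow_succ, ih, Dm_mul_Dm, Finset.sum_range_succ, Finset.sum_range_succ]
    congr 1 <;> ring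

theorem Dm_injective {u n₁ n₂ v m₁ m₂ : K} (h : Dm u n₁ n₂ = Dm v m₁ m₂) :
    u = v ∧ n₁ = m₁ ∧ n₂ = m₂ := by
  have h00 := congrFun (congrFun h 0) 0
  have h02 := congrFun (congrFun h 0) 2
  have h12 := congrFun (congrFun h 1) 2
  simp [Dm] at h00 h02 h12
  exact ⟨h00, h02, h12⟩

/-- a diagonal-type matrix with nontrivial multiplier has the order of its multiplier -/
theorem Dm_pow_eq_one_iff (u n₁ n₂ : K) (hu1 : u ≠ 1) (hu5 : u ^ 5 ≠ 1) (j : ℕ) :
    Dm u n₁ n₂ ^ j = 1 ↔ u ^ j = 1 := by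
  rw [Dm_pow, ← Dm_one]
  constructor
  · intro h
    exact (Dm_injective h).1
  · intro h
    have s1 : (∑ i ∈ Finset.range j, u ^ i) = 0 := by
      have := geom_sum_mul u j
      rw [h, sub_self] at this
      rcases mul_eq_zero.mp this with h' | h'
      · first | exact h' | exact absurd (sub_eq_zero.mp h') hu1
      · first | exact h' | exact absurd (sub_eq_zero.mp h') hu1
    have s2 : (∑ i ∈ Finset.range j, (u ^ 5) ^ i) = 0 := by
      have h5j : (u ^ 5) ^ j = 1 := by rw [← pow_mul, mul_comm, pow_mul, h, one_pow]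
      have := geom_sum_mul (u ^ 5) j
      rw [h5j, sub_self] at this
      rcases mul_eq_zero.mp this with h' | h'
      · first | exact h' | exact absurd (sub_eq_zero.mp h') hu5
      · first | exact h' | exact absurd (sub_eq_zero.mp h') hu5
    rw [h, s1, s2, zero_mul, zero_mul]

theorem pow_five_ne_one {u : K} (hu : u ^ 12 = 1) (hu1 : u ≠ 1) : u ^ 5 ≠ 1 := by
  intro h5
  apply hu1
  have h25 : u ^ 25 = 1 := by rw [show 25 = 5 * 5 by norm_num, pow_mul, h5, one_pow]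
  have h24 : u ^ 24 = 1 := by rw [show 24 = 12 * 2 by norm_num, pow_mul, hu, one_pow]
  rw [show 25 = 24 + 1 by norm_num, pow_succ, h24, one_mul] at h25
  exact h25

end model

section group

variable {K : Type} [Field K] [Finite K] (ι : K)

/-- the underlying submonoid of the general linear group -/
def Smon (hι : ι ^ 2 = -1) : Submonoid (Matrix.GeneralLinearGroup (Fin 3) K) where
  carrier := {g | ∃ u n₁ n₂ : K, u ^ 12 = 1 ∧
    ((g : Matrix (Fin 3) (Fin 3) K) = Dm u n₁ n₂ ∨ (g : Matrix (Fin 3) (Fin 3) K) = Em ι u n₁ n₂)}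
  one_mem' := ⟨1, 0, 0, one_pow _, Or.inl (by rw [Units.val_one, Dm_one])⟩
  mul_mem' := by
    rintro g h ⟨u, n₁, n₂, hu, hg⟩ ⟨v, m₁, m₂, hv, hh⟩
    have hι4 : ι ^ 4 = 1 := by rw [show 4 = 2 * 2 by norm_num, pow_mul, hι]; norm_num
    have hv60 : (v ^ 5) ^ 12 = 1 := by rw [← pow_mul, mul_comm, pow_mul, hv, one_pow]
    rcases hg with hg | hg <;> rcases hh with hh | hh
    · exact ⟨u * v, _, _, by rw [mul_pow, hu, hv, one_mul],
        Or.inl (by rw [Units.val_mul, hg, hh, Dm_mul_Dm])⟩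
    · exact ⟨u * v, _, _, by rw [mul_pow, hu, hv, one_mul],
        Or.inr (by rw [Units.val_mul, hg, hh, Dm_mul_Em])⟩
    · exact ⟨u * v ^ 5, _, _, by rw [mul_pow, hu, hv60, one_mul],
        Or.inr (by rw [Units.val_mul, hg, hh, Em_mul_Dm _ _ _ _ _ _ _ hv])⟩
    · exact ⟨ι * u * v ^ 5, _, _, by
          rw [mul_pow, mul_pow, hu, hv60, mul_one, mul_one, show 12 = 4 * 3 by norm_num, pow_mul,
            hι4, one_pow],
        Or.inl (by rw [Units.val_mul, hg, hh, Em_mul_Em _ _ _ _ _ _ _ hι4 hv])⟩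

/-- the solvable group -/
def Hgrp (hι : ι ^ 2 = -1) : Subgroup (Matrix.GeneralLinearGroup (Fin 3) K) :=
  { Smon ι hι with
    inv_mem' := by
      intro g hg
      have hpos := orderOf_pos g
      have : g⁻¹ = g ^ (orderOf g - 1) := by
        apply inv_eq_of_mul_eq_one_left
        rw [← pow_succ, Nat.sub_add_cancel hpos, pow_orderOf_eq_one]
      rw [this]
      exact (Smon ι hι).pow_mem hg _ }

theorem mem_Hgrp (hι : ι ^ 2 = -1) (g : Matrix.GeneralLinearGroup (Fin 3) K) :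
    g ∈ Hgrp ι hι ↔ ∃ u n₁ n₂ : K, u ^ 12 = 1 ∧
      ((g : Matrix (Fin 3) (Fin 3) K) = Dm u n₁ n₂ ∨
        (g : Matrix (Fin 3) (Fin 3) K) = Em ι u n₁ n₂) := Iff.rfl

variable [CharP K 7]

omit [Finite K] in
theorem seven_eq_zero : (7 : K) = 0 := by
  have := CharP.cast_eq_zero K 7
  exact_mod_cast this

omit [Finite K] in
theorem neg_one_ne_one : (-1 : K) ≠ 1 := by
  intro h
  have h7 := seven_eq_zero (K := K)
  have h2 : (2 : K) = 0 := by linear_combination -h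
  have : (1 : K) = 0 := by linear_combination h7 - 3 * h2
  exact one_ne_zero this

omit [Finite K] in
/-- elements of antidiagonal type have order dividing eight -/
theorem Em_pow_eight (hι : ι ^ 2 = -1) (u n₁ n₂ : K) (hu : u ^ 12 = 1) :
    Em ι u n₁ n₂ ^ 8 = 1 := by
  have hι4 : ι ^ 4 = 1 := by rw [show 4 = 2 * 2 by norm_num, pow_mul, hι]; norm_num
  obtain ⟨w, hw⟩ : ∃ w, w = ι * u * u ^ 5 := ⟨_, rfl⟩
  have hw2 : w ^ 2 = -1 := by
    have e : (ι * u * u ^ 5) ^ 2 = ι ^ 2 * u ^ 12 := by ring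
    rw [hw, e, hι, hu]
    ring
  have hw4 : w ^ 4 = 1 := by rw [show 4 = 2 * 2 by norm_num, pow_mul, hw2]; norm_num
  have hw1 : w ≠ 1 := by
    intro h
    rw [h, one_pow] at hw2
    exact neg_one_ne_one hw2.symm
  have hw5 : w ^ 5 ≠ 1 := by
    rw [pow_succ, hw4, one_mul]; exact hw1
  rw [show 8 = 2 * 4 by norm_num, pow_mul, pow_two, Em_mul_Em _ _ _ _ _ _ _ hι4 hu, ← hw]
  exact (Dm_pow_eq_one_iff w _ _ hw1 hw5 4).mpr hw4

omit [Finite K] in
theorem Dm_one_pow_seven (n₁ n₂ : K) : Dm 1 n₁ n₂ ^ 7 = 1 := by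
  rw [Dm_pow, ← Dm_one]
  have h7 := seven_eq_zero (K := K)
  simp only [one_pow, Finset.sum_const, Finset.card_range, nsmul_eq_mul, mul_one]
  norm_num
  rw [h7, zero_mul, zero_mul]

theorem orderOf_coe_Hgrp (hι : ι ^ 2 = -1) (h : Hgrp ι hι) :
    orderOf h = orderOf (((h : Matrix.GeneralLinearGroup (Fin 3) K)) : Matrix (Fin 3) (Fin 3) K) := by
  rw [orderOf_units, Subgroup.orderOf_coe]

/-- the orders of the elements of the group -/
theorem orderOf_mem (hι : ι ^ 2 = -1) (h : Hgrp ι hι) :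
    orderOf h ∣ 12 ∨ orderOf h ∣ 8 ∨ orderOf h ∣ 7 := by
  rw [orderOf_coe_Hgrp]
  obtain ⟨u, n₁, n₂, hu, hform | hform⟩ := h.2
  · rw [hform]
    by_cases hu1 : u = 1
    · subst hu1
      exact Or.inr (Or.inr (orderOf_dvd_of_pow_eq_one (Dm_one_pow_seven n₁ n₂)))
    · left
      have : orderOf (Dm u n₁ n₂) = orderOf u :=
        orderOf_eq_orderOf_iff.mpr (Dm_pow_eq_one_iff u n₁ n₂ hu1 (pow_five_ne_one hu hu1))
      rw [this]
      exact orderOf_dvd_of_pow_eq_one hu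
  · rw [hform]
    exact Or.inr (Or.inl (orderOf_dvd_of_pow_eq_one (Em_pow_eight ι hι u n₁ n₂ hu)))

/-- an element of the group from a matrix of finite order -/
theorem exists_of_pow (hι : ι ^ 2 = -1) (M : Matrix (Fin 3) (Fin 3) K) (k : ℕ) (hk : k ≠ 0)
    (hM : M ^ k = 1)
    (hform : ∃ u n₁ n₂ : K, u ^ 12 = 1 ∧ (M = Dm u n₁ n₂ ∨ M = Em ι u n₁ n₂)) :
    ∃ h : Hgrp ι hι, orderOf h = orderOf M := by
  refine ⟨⟨Units.ofPowEqOne M k hM hk, ?_⟩, ?_⟩
  · rw [mem_Hgrp]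
    simpa using hform
  · rw [orderOf_coe_Hgrp]
    simp

theorem exists_order_twelve (hι : ι ^ 2 = -1) : ∃ h : Hgrp ι hι, orderOf h = 12 := by
  have h7 := seven_eq_zero (K := K)
  have hι4 : ι ^ 4 = 1 := by rw [show 4 = 2 * 2 by norm_num, pow_mul, hι]; norm_num
  obtain ⟨u, hu⟩ : ∃ u : K, u = 2 * ι := ⟨_, rfl⟩
  have h23 : (2 : K) ^ 3 = 1 := by linear_combination h7
  have hu4 : u ^ 4 = 2 := by
    rw [hu, mul_pow, hι4]
    linear_combination 2 * h7
  have hu6 : u ^ 6 = -1 := by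
    rw [hu, mul_pow, show 6 = 2 * 3 by norm_num, pow_mul ι, hι, pow_mul, ← pow_mul, mul_comm 2 3,
      pow_mul, h23]
    norm_num
  have hu12 : u ^ 12 = 1 := by rw [show 12 = 6 * 2 by norm_num, pow_mul, hu6]; norm_num
  have h21 : (2 : K) ≠ 1 := by
    intro h
    have : (1 : K) = 0 := by linear_combination h
    exact one_ne_zero this
  have hou : orderOf u = 12 := by
    have hdvd : orderOf u ∣ 12 := orderOf_dvd_of_pow_eq_one hu12
    have hn4 : ¬ orderOf u ∣ 4 := by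
      intro h
      have := orderOf_dvd_iff_pow_eq_one.mp h
      rw [hu4] at this
      exact h21 this
    have hn6 : ¬ orderOf u ∣ 6 := by
      intro h
      have := orderOf_dvd_iff_pow_eq_one.mp h
      rw [hu6] at this
      exact neg_one_ne_one this
    have hle : orderOf u ≤ 12 := Nat.le_of_dvd (by norm_num) hdvd
    interval_cases hx : orderOf u <;> simp_all
  have hu1 : u ≠ 1 := by
    intro h
    rw [h, orderOf_one] at hou
    norm_num at hou
  have hord : orderOf (Dm u 0 0) = orderOf u :=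
    orderOf_eq_orderOf_iff.mpr (Dm_pow_eq_one_iff u 0 0 hu1 (pow_five_ne_one hu12 hu1))
  obtain ⟨h, hh⟩ := exists_of_pow ι hι (Dm u 0 0) 12 (by norm_num)
    ((Dm_pow_eq_one_iff u 0 0 hu1 (pow_five_ne_one hu12 hu1) 12).mpr hu12)
    ⟨u, 0, 0, hu12, Or.inl rfl⟩
  exact ⟨h, by rw [hh, hord, hou]⟩

theorem exists_order_eight (hι : ι ^ 2 = -1) : ∃ h : Hgrp ι hι, orderOf h = 8 := by
  have hι4 : ι ^ 4 = 1 := by rw [show 4 = 2 * 2 by norm_num, pow_mul, hι]; norm_num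
  have h8 := Em_pow_eight ι hι 1 0 0 (one_pow _)
  obtain ⟨h, hh⟩ := exists_of_pow ι hι (Em ι 1 0 0) 8 (by norm_num) h8
    ⟨1, 0, 0, one_pow _, Or.inr rfl⟩
  refine ⟨h, ?_⟩
  rw [hh]
  haveI : Fact (Nat.Prime 2) := ⟨Nat.prime_two⟩
  have := orderOf_eq_prime_pow (x := Em ι (1 : K) 0 0) (n := 2) (p := 2) ?_ ?_
  · simpa using this
  · rw [show 2 ^ 2 = 2 * 2 by norm_num, pow_mul, pow_two (Em ι 1 0 0),
      Em_mul_Em _ _ _ _ _ _ _ hι4 (one_pow _), Dm_pow, ← Dm_one]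
    intro h
    have h1 := (Dm_injective h).1
    simp only [one_pow, mul_one] at h1
    rw [hι] at h1
    exact neg_one_ne_one h1
  · rw [show 2 ^ (2 + 1) = 8 by norm_num]
    exact h8

theorem exists_order_seven (hι : ι ^ 2 = -1) : ∃ h : Hgrp ι hι, orderOf h = 7 := by
  obtain ⟨h, hh⟩ := exists_of_pow ι hι (Dm 1 1 0) 7 (by norm_num) (Dm_one_pow_seven 1 0)
    ⟨1, 1, 0, one_pow _, Or.inl rfl⟩
  refine ⟨h, ?_⟩
  rw [hh]
  haveI : Fact (Nat.Prime 7) := ⟨by norm_num⟩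
  apply orderOf_eq_prime (Dm_one_pow_seven 1 0)
  rw [← Dm_one]
  intro h
  have := (Dm_injective h).2.1
  exact one_ne_zero this

end group

section solvable

variable {K : Type} [Field K] [Finite K] [CharP K 7] (ι : K)

/-- the `(0,0)` entry as a unit -/
noncomputable def entryUnit (g : Matrix.GeneralLinearGroup (Fin 3) K) : Kˣ :=
  haveI := Classical.dec ((g : Matrix (Fin 3) (Fin 3) K) 0 0 ≠ 0)
  if h : (g : Matrix (Fin 3) (Fin 3) K) 0 0 ≠ 0 then Units.mk0 _ h else 1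

omit [Finite K] [CharP K 7] in
theorem entryUnit_Dm (g : Matrix.GeneralLinearGroup (Fin 3) K) (u n₁ n₂ : K) (hu0 : u ≠ 0)
    (hg : (g : Matrix (Fin 3) (Fin 3) K) = Dm u n₁ n₂) : entryUnit g = Units.mk0 u hu0 := by
  have h00 : (g : Matrix (Fin 3) (Fin 3) K) 0 0 = u := by rw [hg]; simp [Dm]
  unfold entryUnit
  rw [dif_pos (by rw [h00]; exact hu0)]
  apply Units.ext
  simp [h00]

theorem solvable_Hgrp (hι : ι ^ 2 = -1) : Group.IsSolvable (Hgrp ι hι) := by
  classical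
  let φ₁ : Hgrp ι hι →* Kˣ := Matrix.GeneralLinearGroup.det.comp (Hgrp ι hι).subtype
  have hker : ∀ x : φ₁.ker, ∃ u n₁ n₂ : K, u ≠ 0 ∧
      (((x : Hgrp ι hι) : Matrix.GeneralLinearGroup (Fin 3) K) : Matrix (Fin 3) (Fin 3) K) =
        Dm u n₁ n₂ := by
    intro x
    obtain ⟨u, n₁, n₂, hu, hform | hform⟩ := (x : Hgrp ι hι).2
    · have hu0 : u ≠ 0 := by
        rintro rfl
        norm_num at hu
      exact ⟨u, n₁, n₂, hu0, hform⟩
    · exfalso
      have hdet : (((x : Hgrp ι hι) : Matrix.GeneralLinearGroup (Fin 3) K) :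
          Matrix (Fin 3) (Fin 3) K).det = 1 := by
        have h1 := x.2
        rw [MonoidHom.mem_ker] at h1
        have h2 := congrArg Units.val h1
        simpa [φ₁] using h2
      rw [hform] at hdet
      have hd : (Em ι u n₁ n₂).det = -(ι * u ^ 6) := by
        simp [Em, Matrix.det_fin_three]
        ring
      rw [hd] at hdet
      have h3 : (-(ι * u ^ 6)) ^ 2 = -1 := by
        have e : (-(ι * u ^ 6)) ^ 2 = ι ^ 2 * u ^ 12 := by ring
        rw [e, hι, hu]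
        ring
      rw [hdet, one_pow] at h3
      exact neg_one_ne_one h3.symm
  let φ₂ : φ₁.ker →* Kˣ := MonoidHom.mk'
    (fun x => entryUnit ((x : Hgrp ι hι) : Matrix.GeneralLinearGroup (Fin 3) K)) (by
      intro x y
      obtain ⟨u, n₁, n₂, hu0, hx⟩ := hker x
      obtain ⟨v, m₁, m₂, hv0, hy⟩ := hker y
      have hxy : ((((x * y : φ₁.ker) : Hgrp ι hι) : Matrix.GeneralLinearGroup (Fin 3) K) :
          Matrix (Fin 3) (Fin 3) K) = Dm (u * v) (u * m₁ + n₁) (u ^ 5 * m₂ + n₂) := by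
        rw [Subgroup.coe_mul, Subgroup.coe_mul, Units.val_mul, hx, hy, Dm_mul_Dm]
      rw [entryUnit_Dm _ _ _ _ (mul_ne_zero hu0 hv0) hxy, entryUnit_Dm _ _ _ _ hu0 hx,
        entryUnit_Dm _ _ _ _ hv0 hy]
      apply Units.ext
      simp)
  have hφ₂ : ∀ x : φ₁.ker,
      φ₂ x = entryUnit ((x : Hgrp ι hι) : Matrix.GeneralLinearGroup (Fin 3) K) := fun _ => rfl
  have hker2 : ∀ x : φ₂.ker, ∃ n₁ n₂ : K,
      ((((x : φ₁.ker) : Hgrp ι hι) : Matrix.GeneralLinearGroup (Fin 3) K) :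
        Matrix (Fin 3) (Fin 3) K) = Dm 1 n₁ n₂ := by
    intro x
    obtain ⟨u, n₁, n₂, hu0, hx⟩ := hker (x : φ₁.ker)
    have h1 := x.2
    rw [MonoidHom.mem_ker, hφ₂, entryUnit_Dm _ _ _ _ hu0 hx] at h1
    have h2 := congrArg Units.val h1
    simp only [Units.val_mk0, Units.val_one] at h2
    exact ⟨n₁, n₂, by rw [hx, h2]⟩
  haveI h3 : Group.IsSolvable φ₂.ker := by
    apply Group.isSolvable_of_comm
    intro x y
    obtain ⟨n₁, n₂, hx⟩ := hker2 x
    obtain ⟨m₁, m₂, hy⟩ := hker2 y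
    apply Subtype.ext
    apply Subtype.ext
    apply Subtype.ext
    apply Units.ext
    rw [Subgroup.coe_mul, Subgroup.coe_mul, Subgroup.coe_mul, Units.val_mul,
      Subgroup.coe_mul, Subgroup.coe_mul, Subgroup.coe_mul, Units.val_mul, hx, hy,
      Dm_mul_Dm, Dm_mul_Dm]
    congr 1 <;> ring
  haveI h2 : Group.IsSolvable φ₁.ker :=
    Group.isSolvable_of_ker_le_range φ₂.ker.subtype φ₂ (by simp)
  exact Group.isSolvable_of_ker_le_range φ₁.ker.subtype φ₁ (by simp)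

end solvable

/-- a square root of `-1` in the field with `49` elements -/
theorem exists_iota [Fact (Nat.Prime 7)] : ∃ ι : GaloisField 7 2, ι ^ 2 = -1 := by
  classical
  haveI : Fintype (GaloisField 7 2) := Fintype.ofFinite _
  have hcard : Fintype.card (GaloisField 7 2) = 7 ^ 2 := by
    rw [← Nat.card_eq_fintype_card]
    exact GaloisField.card 7 2 (by norm_num)
  obtain ⟨ζ, hζ⟩ := IsCyclic.exists_generator (α := (GaloisField 7 2)ˣ)
  have hoζ : orderOf ζ = 48 := by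
    rw [orderOf_eq_card_of_forall_mem_zpowers hζ, Nat.card_eq_fintype_card, Fintype.card_units,
      hcard]
    norm_num
  refine ⟨((ζ ^ 12 : (GaloisField 7 2)ˣ) : GaloisField 7 2), ?_⟩
  have h1 : ((ζ ^ 24 : (GaloisField 7 2)ˣ) : GaloisField 7 2) ^ 2 = 1 := by
    rw [← Units.val_pow_eq_pow_val, ← pow_mul, show 24 * 2 = 48 by norm_num, ← hoζ,
      pow_orderOf_eq_one, Units.val_one]
  have h2 : ((ζ ^ 24 : (GaloisField 7 2)ˣ) : GaloisField 7 2) ≠ 1 := by
    intro h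
    have h3 : ζ ^ 24 = 1 := Units.ext (by rw [h, Units.val_one])
    have := orderOf_dvd_of_pow_eq_one h3
    rw [hoζ] at this
    norm_num at this
  rw [← Units.val_pow_eq_pow_val, ← pow_mul, show 12 * 2 = 24 by norm_num]
  rcases sq_eq_one_iff.mp h1 with h | h
  · exact absurd h h2
  · exact h

theorem spec_Hgrp {K : Type} [Field K] [Finite K] [CharP K 7] (ι : K) (hι : ι ^ 2 = -1) :
    Set.range (orderOf : Hgrp ι hι → ℕ) =
      {s | s ∣ 3 + 1} ∪ {s | s ∣ 12} ∪ {s | s ∣ 8} ∪ {s | s ∣ 7} := by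
  have hdiv : ∀ (x : Hgrp ι hι) (m : ℕ), m ∣ orderOf x →
      m ∈ Set.range (orderOf : Hgrp ι hι → ℕ) := by
    intro x m hm
    exact ⟨x ^ (orderOf x / m), orderOf_pow_orderOf_div (orderOf_pos x).ne' hm⟩
  ext m
  constructor
  · rintro ⟨h, rfl⟩
    rcases orderOf_mem ι hι h with h12 | h8 | h7
    · exact Or.inl (Or.inl (Or.inr h12))
    · exact Or.inl (Or.inr h8)
    · exact Or.inr h7
  · rintro (((h | h) | h) | h)
    · obtain ⟨x, hx⟩ := exists_order_twelve ι hι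
      have h' : m ∣ 3 + 1 := h
      exact hdiv x m (hx ▸ (h'.trans (by norm_num)))
    · obtain ⟨x, hx⟩ := exists_order_twelve ι hι
      have h' : m ∣ 12 := h
      exact hdiv x m (hx ▸ h')
    · obtain ⟨x, hx⟩ := exists_order_eight ι hι
      have h' : m ∣ 8 := h
      exact hdiv x m (hx ▸ h')
    · obtain ⟨x, hx⟩ := exists_order_seven ι hι
      have h' : m ∣ 7 := h
      exact hdiv x m (hx ▸ h')

/-- There is a finite solvable group with exactly the same set of element orders as the simple group PSU(3,3) (realised over the field with 9 elements). -/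
theorem result {F : Type*} [Field F] [Fintype F] (hF : Fintype.card F = 9) :
    ∃ (H : Type) (_ : Group H) (_ : Fintype H), Group.IsSolvable H ∧ Set.range (orderOf : H → ℕ) = Set.range (orderOf : Cfsg.PSU 3 F 3 → ℕ) := by
  classical
  obtain ⟨p, hp⟩ := CharP.exists F
  haveI := hp
  have hpp : p.Prime := CharP.char_is_prime F p
  haveI : Fact p.Prime := ⟨hpp⟩
  obtain ⟨n, _, hn⟩ := FiniteField.card F p
  have hp3 : p = 3 := by
    have : p ∣ 3 ^ 2 := by
      rw [show 3 ^ 2 = 9 by norm_num, ← hF, hn]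
      exact dvd_pow_self p n.ne_zero
    exact (Nat.prime_dvd_prime_iff_eq hpp Nat.prime_three).mp (hpp.dvd_of_dvd_pow this)
  subst hp3
  have hspec := Cfsg.Agent.S2366.result (F := F) 3 (by norm_num) 3 (by rw [hF]; norm_num)
  have e1 : 3 * (3 + 1) / Nat.gcd 3 (3 + 1) = 12 := by norm_num
  have e2 : (3 ^ 2 - 1) / Nat.gcd 3 (3 + 1) = 8 := by norm_num
  have e3 : (3 ^ 2 - 3 + 1) / Nat.gcd 3 (3 + 1) = 7 := by norm_num
  rw [e1, e2, e3] at hspec
  haveI : Fact (Nat.Prime 7) := ⟨by norm_num⟩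
  obtain ⟨ι, hι⟩ := exists_iota
  exact ⟨Hgrp ι hι, inferInstance, Fintype.ofFinite _, solvable_Hgrp ι hι,
    (spec_Hgrp ι hι).trans hspec.symm⟩

end Cfsg.Agent.S3438
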