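import Cfsg.Statements.S3448
import Cfsg.Agent.Lib.Helper63.AltSpec

set_option autoImplicit false
open Cfsg

namespace Cfsg.Agent.S3448

/-- The set of element orders of the direct product of two copies of the alternating group of degree 5 is {1, 2, 3, 5, 6, 10, 15}. (It is shared by the direct product of two Frobenius groups of orders 50 and 75, so this direct product is not determined by its element orders.) -/
theorem result : Set.range (orderOf : alternatingGroup (Fin 5) × alternatingGroup (Fin 5) → ℕ) = {1, 2, 3, 5, 6, 10, 15} := by
  rw [Cfsg.Agent.Lib.Helper63.range_orderOf_prod, Cfsg.Agent.Lib.Helper63.spec_A5]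
  ext n
  simp only [Set.mem_image2, Set.mem_insert_iff, Set.mem_singleton_iff]
  constructor
  · rintro ⟨a, ha, b, hb, rfl⟩
    rcases ha with rfl | rfl | rfl | rfl <;> rcases hb with rfl | rfl | rfl | rfl <;> decide
  · rintro (rfl | rfl | rfl | rfl | rfl | rfl | rfl)
    · exact ⟨1, by simp, 1, by simp, by decide⟩
    · exact ⟨2, by simp, 1, by simp, by decide⟩
    · exact ⟨3, by simp, 1, by simp, by decide⟩
    · exact ⟨5, by simp, 1, by simp, by decide⟩
    · exact ⟨2, by simp, 3, by simp, by decide⟩
    · exact ⟨2, by simp, 5, by simp, by decide⟩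
    · exact ⟨3, by simp, 5, by simp, by decide⟩

end Cfsg.Agent.S3448
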