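import Cfsg.Statements.S3449
import Cfsg.Agent.Lib.Helper63.AltSpec

set_option autoImplicit false
open Cfsg

namespace Cfsg.Agent.S3449

theorem spec_Z30 : Set.range (orderOf : Multiplicative (ZMod 30) → ℕ) = {1, 2, 3, 5, 6, 10, 15, 30} := by
  apply Set.Subset.antisymm
  · rintro _ ⟨g, rfl⟩
    have h : orderOf g ∣ 30 := by
      have := orderOf_dvd_card (x := g)
      simpa using this
    have h2 : orderOf g ∈ Nat.divisors 30 := Nat.mem_divisors.mpr ⟨h, by norm_num⟩
    have h3 : Nat.divisors 30 = {1, 2, 3, 5, 6, 10, 15, 30} := by decide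
    rw [h3] at h2
    simpa using h2
  · intro k hk
    have key : ∀ a : ℕ, orderOf (Multiplicative.ofAdd ((a : ℕ) : ZMod 30)) = 30 / Nat.gcd 30 a := by
      intro a
      rw [orderOf_ofAdd_eq_addOrderOf, ZMod.addOrderOf_coe a (by norm_num)]
    simp only [Set.mem_insert_iff, Set.mem_singleton_iff] at hk
    rcases hk with rfl | rfl | rfl | rfl | rfl | rfl | rfl | rfl
    · exact ⟨_, (key 30).trans (by decide)⟩
    · exact ⟨_, (key 15).trans (by decide)⟩
    · exact ⟨_, (key 10).trans (by decide)⟩
    · exact ⟨_, (key 6).trans (by decide)⟩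
    · exact ⟨_, (key 5).trans (by decide)⟩
    · exact ⟨_, (key 3).trans (by decide)⟩
    · exact ⟨_, (key 2).trans (by decide)⟩
    · exact ⟨_, (key 1).trans (by decide)⟩

/-- The direct product of three copies of the alternating group of degree 5 has exactly the same set of element orders as the cyclic group of order 30, namely the divisors of 30; in particular a direct power of a non-abelian simple group need not be determined by its element orders. -/
theorem result : Set.range (orderOf : alternatingGroup (Fin 5) × alternatingGroup (Fin 5) × alternatingGroup (Fin 5) → ℕ) =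
      Set.range (orderOf : Multiplicative (ZMod 30) → ℕ) := by
  rw [spec_Z30, Cfsg.Agent.Lib.Helper63.range_orderOf_prod, Cfsg.Agent.Lib.Helper63.range_orderOf_prod,
    Cfsg.Agent.Lib.Helper63.spec_A5]
  ext n
  simp only [Set.mem_image2, Set.mem_insert_iff, Set.mem_singleton_iff]
  constructor
  · rintro ⟨a, ha, _, ⟨b, hb, c, hc, rfl⟩, rfl⟩
    rcases ha with rfl | rfl | rfl | rfl <;> rcases hb with rfl | rfl | rfl | rfl <;>
      rcases hc with rfl | rfl | rfl | rfl <;> decide
  · rintro (rfl | rfl | rfl | rfl | rfl | rfl | rfl | rfl)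
    · exact ⟨1, by simp, _, ⟨1, by simp, 1, by simp, rfl⟩, by decide⟩
    · exact ⟨2, by simp, _, ⟨1, by simp, 1, by simp, rfl⟩, by decide⟩
    · exact ⟨3, by simp, _, ⟨1, by simp, 1, by simp, rfl⟩, by decide⟩
    · exact ⟨5, by simp, _, ⟨1, by simp, 1, by simp, rfl⟩, by decide⟩
    · exact ⟨2, by simp, _, ⟨3, by simp, 1, by simp, rfl⟩, by decide⟩
    · exact ⟨2, by simp, _, ⟨5, by simp, 1, by simp, rfl⟩, by decide⟩
    · exact ⟨3, by simp, _, ⟨5, by simp, 1, by simp, rfl⟩, by decide⟩
    · exact ⟨2, by simp, _, ⟨3, by simp, 5, by simp, rfl⟩, by decide⟩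

end Cfsg.Agent.S3449
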