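import Cfsg.Statements.S3488
import Cfsg.Agent.Lib.Helper63.AltSpec

set_option autoImplicit false
open Cfsg

namespace Cfsg.Agent.S3488

open Polynomial Matrix

variable {F : Type*} [Field F]

theorem CH3 (M : Matrix (Fin 3) (Fin 3) F) (h20 : M 2 0 = 0) (h21 : M 2 1 = 0) (h22 : M 2 2 = 1)
    (hdet : M 0 0 * M 1 1 - M 0 1 * M 1 0 = 1) :
    (M - 1) * (M * M - (M 0 0 + M 1 1) • M + 1) = 0 := by
  have hM := Matrix.eta_fin_three M
  rw [h20, h21, h22] at hM
  generalize M 0 0 = a at *
  generalize M 0 1 = b at *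
  generalize M 0 2 = e at *
  generalize M 1 0 = c at *
  generalize M 1 1 = d at *
  generalize M 1 2 = f at *
  subst hM
  ext i j
  fin_cases i <;> fin_cases j <;>
    simp [Matrix.mul_apply, Fin.sum_univ_three, Matrix.one_apply] <;>
    first
    | ring1
    | linear_combination (-e) * hdet
    | linear_combination (-f) * hdet
    | linear_combination (-1 : F) * hdet
    | linear_combination (1 - a) * hdet
    | linear_combination (1 - d) * hdet
    | linear_combination (-b) * hdet
    | linear_combination (-c) * hdet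

theorem aeval_CH (M : Matrix (Fin 3) (Fin 3) F) (h20 : M 2 0 = 0) (h21 : M 2 1 = 0)
    (h22 : M 2 2 = 1) (hdet : M 0 0 * M 1 1 - M 0 1 * M 1 0 = 1) :
    aeval M ((X - 1) * (X ^ 2 - C (M 0 0 + M 1 1) * X + 1) : F[X]) = 0 := by
  have := CH3 M h20 h21 h22 hdet
  simpa [pow_two, Algebra.smul_def] using this

theorem pow_eq_one_of_factor (M : Matrix (Fin 3) (Fin 3) F) (P Q : F[X]) (k : ℕ)
    (hP : aeval M P = 0) (hQ : X ^ k - 1 = Q * P) : M ^ k = 1 := by
  have : aeval M (X ^ k - 1 : F[X]) = 0 := by rw [hQ, map_mul, hP, mul_zero]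
  simpa [sub_eq_zero] using this

section field4

variable [Fintype F]

theorem two_eq_zero (hF : Fintype.card F = 4) : (2 : F) = 0 := by
  have h4 : ((Fintype.card F : ℕ) : F) = 0 := FiniteField.cast_card_eq_zero F
  rw [hF] at h4
  have : (2 : F) * 2 = 0 := by
    norm_num at h4 ⊢
    exact h4
  exact mul_self_eq_zero.mp this

theorem trace_cases (hF : Fintype.card F = 4) (t : F) : t = 0 ∨ t = 1 ∨ t ^ 2 + t + 1 = 0 := by
  have h := FiniteField.pow_card t
  rw [hF] at h
  have : t * (t - 1) * (t ^ 2 + t + 1) = 0 := by linear_combination h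
  rcases mul_eq_zero.mp this with h | h
  · rcases mul_eq_zero.mp h with h | h
    · left; exact h
    · right; left; exact sub_eq_zero.mp h
  · right; right; exact h

theorem exists_omega (hF : Fintype.card F = 4) : ∃ w : F, w ^ 2 + w + 1 = 0 := by
  by_contra hne
  push Not at hne
  have h01 : ∀ t : F, t = 0 ∨ t = 1 := fun t => by
    rcases trace_cases hF t with h | h | h
    · exact Or.inl h
    · exact Or.inr h
    · exact absurd h (hne t)
  have : Fintype.card F ≤ 2 := by
    calc Fintype.card F ≤ Fintype.card Bool :=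
          Fintype.card_le_of_surjective (fun b : Bool => if b then (1 : F) else 0) (by
            intro t
            rcases h01 t with h | h
            · exact ⟨false, by simp [h]⟩
            · exact ⟨true, by simp [h]⟩)
      _ = 2 := Fintype.card_bool
  omega

theorem pow_cases (hF : Fintype.card F = 4) (M : Matrix (Fin 3) (Fin 3) F) (h20 : M 2 0 = 0)
    (h21 : M 2 1 = 0) (h22 : M 2 2 = 1) (hdet : M 0 0 * M 1 1 - M 0 1 * M 1 0 = 1) :
    (M 0 0 + M 1 1 = 0 → M ^ 4 = 1) ∧ (M 0 0 + M 1 1 = 1 → M ^ 3 = 1) ∧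
      ((M 0 0 + M 1 1) ^ 2 + (M 0 0 + M 1 1) + 1 = 0 → M ^ 5 = 1) := by
  have hP := aeval_CH M h20 h21 h22 hdet
  have h2 : (2 : F[X]) = 0 :=
    (map_ofNat (C : F →+* F[X]) 2).symm.trans (by rw [two_eq_zero hF, map_zero])
  set t := M 0 0 + M 1 1 with ht
  refine ⟨fun h0 => ?_, fun h1 => ?_, fun hw => ?_⟩
  · refine pow_eq_one_of_factor M _ (X + 1) 4 hP ?_
    rw [h0]
    simp only [map_zero, zero_mul, sub_zero]
    ring
  · refine pow_eq_one_of_factor M _ 1 3 hP ?_
    rw [h1]
    simp only [map_one, one_mul]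
    linear_combination (X ^ 2 - X) * h2
  · refine pow_eq_one_of_factor M _ (X ^ 2 - C t ^ 2 * X + 1) 5 hP ?_
    have hu : (C t : F[X]) ^ 2 + C t + 1 = 0 := by
      have := congrArg (C : F → F[X]) hw
      simpa using this
    linear_combination (-(X - 1) * (-X ^ 3 + (C t - 1) * X ^ 2 - X)) * hu + (-(X - 1) * X ^ 2) * h2

end field4

/-- the defining set -/
def S (F : Type*) [Field F] : Set (Matrix.SpecialLinearGroup (Fin 3) F) :=
  {M : Matrix.SpecialLinearGroup (Fin 3) F |
        (M : Matrix (Fin 3) (Fin 3) F) 2 0 = 0 ∧ (M : Matrix (Fin 3) (Fin 3) F) 2 1 = 0 ∧ (M : Matrix (Fin 3) (Fin 3) F) 2 2 = 1}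

theorem det_of_row (M : Matrix.SpecialLinearGroup (Fin 3) F)
    (h : (M : Matrix (Fin 3) (Fin 3) F) 2 0 = 0 ∧ (M : Matrix (Fin 3) (Fin 3) F) 2 1 = 0 ∧ (M : Matrix (Fin 3) (Fin 3) F) 2 2 = 1) :
    (M : Matrix (Fin 3) (Fin 3) F) 0 0 * (M : Matrix (Fin 3) (Fin 3) F) 1 1 -
      (M : Matrix (Fin 3) (Fin 3) F) 0 1 * (M : Matrix (Fin 3) (Fin 3) F) 1 0 = 1 := by
  have := M.2
  rw [Matrix.det_fin_three, h.1, h.2.1, h.2.2] at this
  linear_combination this

theorem row_of_mem_closure (g : Matrix.SpecialLinearGroup (Fin 3) F)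
    (hg : g ∈ Subgroup.closure (S F)) :
    (g : Matrix (Fin 3) (Fin 3) F) 2 0 = 0 ∧ (g : Matrix (Fin 3) (Fin 3) F) 2 1 = 0 ∧ (g : Matrix (Fin 3) (Fin 3) F) 2 2 = 1 := by
  induction hg using Subgroup.closure_induction with
  | mem x hx => exact hx
  | one => simp
  | mul x y _ _ hx hy =>
    simp [Matrix.mul_apply, Fin.sum_univ_three, hx.1, hx.2.1, hx.2.2, hy.1, hy.2.1, hy.2.2]
  | inv x _ hx =>
    have hd := det_of_row x hx
    rw [Matrix.SpecialLinearGroup.coe_inv, Matrix.adjugate_fin_three]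
    simp [hx.1, hx.2.1, hx.2.2]
    linear_combination hd

theorem orderOf_mem [Fintype F] (hF : Fintype.card F = 4) (g : Matrix.SpecialLinearGroup (Fin 3) F)
    (hg : g ∈ Subgroup.closure (S F)) : orderOf g ∈ ({1, 2, 3, 4, 5} : Set ℕ) := by
  have hrow := row_of_mem_closure g hg
  have hd := det_of_row g hrow
  obtain ⟨c0, c1, cw⟩ := pow_cases hF (g : Matrix (Fin 3) (Fin 3) F) hrow.1 hrow.2.1 hrow.2.2 hd
  have lift : ∀ k : ℕ, (g : Matrix (Fin 3) (Fin 3) F) ^ k = 1 → g ^ k = 1 := by
    intro k hk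
    apply Matrix.SpecialLinearGroup.ext
    intro i j
    rw [Matrix.SpecialLinearGroup.coe_pow, hk, Matrix.SpecialLinearGroup.coe_one]
  simp only [Set.mem_insert_iff, Set.mem_singleton_iff]
  rcases trace_cases hF ((g : Matrix (Fin 3) (Fin 3) F) 0 0 + (g : Matrix (Fin 3) (Fin 3) F) 1 1) with h | h | h
  · have h4 : orderOf g ∣ 2 ^ 2 := orderOf_dvd_of_pow_eq_one (lift 4 (c0 h))
    rw [Nat.dvd_prime_pow Nat.prime_two] at h4
    obtain ⟨k, hk, h4⟩ := h4
    interval_cases k <;> simp [h4]
  · rcases Cfsg.Agent.Lib.Helper63.orderOf_mem_of_pow_prime _ 3 Nat.prime_three (lift 3 (c1 h)) with h | h <;> simp [h]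
  · rcases Cfsg.Agent.Lib.Helper63.orderOf_mem_of_pow_prime _ 5 Nat.prime_five (lift 5 (cw h)) with h | h <;> simp [h]

/-- explicit elements -/
def mk3 (a b e c d f : F) (h : a * d - b * c = 1) : Matrix.SpecialLinearGroup (Fin 3) F :=
  ⟨!![a, b, e; c, d, f; 0, 0, 1], by rw [Matrix.det_fin_three]; simp; linear_combination h⟩

theorem mk3_mem (a b e c d f : F) (h : a * d - b * c = 1) :
    mk3 a b e c d f h ∈ Subgroup.closure (S F) := by
  apply Subgroup.subset_closure
  refine ⟨?_, ?_, ?_⟩ <;> simp [mk3]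

theorem exists_of_mem {k : ℕ} (g : Matrix.SpecialLinearGroup (Fin 3) F)
    (hg : g ∈ Subgroup.closure (S F)) (hk : orderOf g = k) :
    k ∈ Set.range (orderOf : Subgroup.closure (S F) → ℕ) :=
  ⟨⟨g, hg⟩, by rw [← hk, ← Subgroup.orderOf_coe]⟩

theorem spec_affine [Fintype F] (hF : Fintype.card F = 4) :
    Set.range (orderOf : Subgroup.closure (S F) → ℕ) = {1, 2, 3, 4, 5} := by
  have h2 : (2 : F) = 0 := two_eq_zero hF
  have hneg : (-1 : F) = 1 := by linear_combination (-1 : F) * h2
  apply Set.Subset.antisymm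
  · rintro _ ⟨g, rfl⟩
    rw [← Subgroup.orderOf_coe]
    exact orderOf_mem hF g.1 g.2
  · intro k hk
    have lift : ∀ (g : Matrix.SpecialLinearGroup (Fin 3) F) (k : ℕ), (g : Matrix (Fin 3) (Fin 3) F) ^ k = 1 → g ^ k = 1 := by
      intro g k hk
      apply Matrix.SpecialLinearGroup.ext
      intro i j
      rw [Matrix.SpecialLinearGroup.coe_pow, hk, Matrix.SpecialLinearGroup.coe_one]
    have unlift : ∀ (g : Matrix.SpecialLinearGroup (Fin 3) F) (k : ℕ), g ^ k = 1 → (g : Matrix (Fin 3) (Fin 3) F) ^ k = 1 := by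
      intro g k hk
      rw [← Matrix.SpecialLinearGroup.coe_pow, hk, Matrix.SpecialLinearGroup.coe_one]
    simp only [Set.mem_insert_iff, Set.mem_singleton_iff] at hk
    rcases hk with rfl | rfl | rfl | rfl | rfl
    · exact ⟨1, orderOf_one⟩
    · -- order 2 : a translation
      refine exists_of_mem (mk3 1 0 1 0 1 0 (by ring)) (mk3_mem _ _ _ _ _ _ _) ?_
      apply orderOf_eq_prime
      · apply lift
        simp only [mk3, pow_two, Matrix.mul_fin_three, Matrix.one_fin_three]
        simp
        linear_combination h2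
      · intro h
        have := congrArg (fun g : Matrix.SpecialLinearGroup (Fin 3) F => (g : Matrix (Fin 3) (Fin 3) F) 0 2) h
        simp [mk3] at this
    · -- order 3
      have pc := pow_cases hF (mk3 (0 : F) 1 0 1 1 0 (by linear_combination (-1 : F) * h2) : Matrix (Fin 3) (Fin 3) F)
        (by simp [mk3]) (by simp [mk3]) (by simp [mk3]) (by simp [mk3]; exact hneg)
      refine exists_of_mem (mk3 0 1 0 1 1 0 (by linear_combination (-1 : F) * h2)) (mk3_mem _ _ _ _ _ _ _) ?_
      have : Fact (Nat.Prime 3) := ⟨Nat.prime_three⟩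
      apply orderOf_eq_prime
      · apply lift
        apply pc.2.1
        simp [mk3]
      · intro h
        have := congrArg (fun g : Matrix.SpecialLinearGroup (Fin 3) F => (g : Matrix (Fin 3) (Fin 3) F) 0 0) h
        simp [mk3] at this
    · -- order 4
      have pc := pow_cases hF (mk3 (1 : F) 1 0 0 1 1 (by ring) : Matrix (Fin 3) (Fin 3) F)
        (by simp [mk3]) (by simp [mk3]) (by simp [mk3]) (by simp [mk3])
      refine exists_of_mem (mk3 1 1 0 0 1 1 (by ring)) (mk3_mem _ _ _ _ _ _ _) ?_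
      have : orderOf (mk3 (1 : F) 1 0 0 1 1 (by ring)) = 2 ^ (1 + 1) := by
        apply orderOf_eq_prime_pow
        · intro h
          have := unlift _ _ h
          have := congrArg (fun g : Matrix (Fin 3) (Fin 3) F => g 0 2) this
          simp [mk3, pow_two] at this
        · apply lift
          apply pc.1
          simp [mk3]
          linear_combination h2
      simpa using this
    · -- order 5
      obtain ⟨w, hw⟩ := exists_omega hF
      have pc := pow_cases hF (mk3 (0 : F) 1 0 1 w 0 (by linear_combination (-1 : F) * h2) : Matrix (Fin 3) (Fin 3) F)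
        (by simp [mk3]) (by simp [mk3]) (by simp [mk3]) (by simp [mk3]; exact hneg)
      refine exists_of_mem (mk3 0 1 0 1 w 0 (by linear_combination (-1 : F) * h2)) (mk3_mem _ _ _ _ _ _ _) ?_
      have : Fact (Nat.Prime 5) := ⟨Nat.prime_five⟩
      apply orderOf_eq_prime
      · apply lift
        apply pc.2.2
        simp [mk3]
        exact hw
      · intro h
        have := congrArg (fun g : Matrix.SpecialLinearGroup (Fin 3) F => (g : Matrix (Fin 3) (Fin 3) F) 0 0) h
        simp [mk3] at this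

/-- Let F be the field with four elements. The affine group F² ⋊ SL(2,F), realised as the subgroup of SL(3,F) of matrices with last row (0, 0, 1), has exactly the same set of element orders as the alternating group of degree 6 (namely {1, 2, 3, 4, 5}); so the alternating group of degree 6 is not determined by its element orders. -/
theorem result {F : Type*} [Field F] [Fintype F] (hF : Fintype.card F = 4) :
    Set.range (orderOf : Subgroup.closure {M : Matrix.SpecialLinearGroup (Fin 3) F |
        (M : Matrix (Fin 3) (Fin 3) F) 2 0 = 0 ∧ (M : Matrix (Fin 3) (Fin 3) F) 2 1 = 0 ∧ (M : Matrix (Fin 3) (Fin 3) F) 2 2 = 1} → ℕ) =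
      Set.range (orderOf : alternatingGroup (Fin 6) → ℕ) := by
  rw [Cfsg.Agent.Lib.Helper63.spec_A6]
  exact spec_affine hF

end Cfsg.Agent.S3488
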