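import Cfsg.Statements.S3489
import Cfsg.Agent.Lib.Helper05.A10Final
import Cfsg.Agent.Lib.Helper05.A10B3
import Cfsg.Agent.Lib.Helper68.A10A1
import Cfsg.Agent.Lib.Helper68.A10A2
import Cfsg.Agent.Lib.Helper93.A10B1
import Cfsg.Agent.Lib.Helper64.A10B2
import Cfsg.Agent.Lib.Helper90.A10B4
import Cfsg.Agent.Lib.Helper63.A10B5
import Cfsg.Agent.Lib.Helper97.A10C1
import Cfsg.Agent.Lib.Helper65.A10C2
import Cfsg.Agent.Lib.Helper19.A10C3
import Cfsg.Agent.Lib.Helper68.A10C4
import Cfsg.Agent.Lib.Helper85.A10D1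
import Cfsg.Agent.Lib.Helper65.A10D2
import Cfsg.Agent.Lib.Helper98.A10E1

set_option autoImplicit false
open Cfsg

namespace Cfsg.Agent.S3489

open Cfsg.Agent.Lib.Helper05.A10Iso in
/-- all the leaves of the pack K-A10, assembled -/
theorem leaves : Leaves where
  hK := by
    intro k hk
    obtain ⟨i, hi⟩ := Cfsg.Agent.Lib.Helper90.A10Iso.K_le_elt
      Cfsg.Agent.Lib.Helper93.A10Iso.tabA_ok Cfsg.Agent.Lib.Helper64.A10Iso.tabB_ok k hk
    refine ⟨ordTab i, (cyc_elt i).1, ?_⟩
    rw [hi]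
    exact (cyc_elt i).2
  hW := Cfsg.Agent.Lib.Helper63.A10Iso.K_witnesses
  hC1 := Cfsg.Agent.Lib.Helper97.A10Iso.orderOf_of_cyc
  hC2 := Cfsg.Agent.Lib.Helper65.A10Iso.sum_pow_of_cyc
  hC3 := Cfsg.Agent.Lib.Helper19.A10Iso.pow_half_of_cyc
  hC4 := Cfsg.Agent.Lib.Helper68.A10Iso.fpf_of_cyc
  hD1 := Cfsg.Agent.Lib.Helper85.A10Iso.sum_actQ_eq_zero
  hD2 := Cfsg.Agent.Lib.Helper65.A10Iso.exists_sum_actQ_ne_zero
  hE1 := fun n g => Cfsg.Agent.Lib.Helper98.A10Iso.orderOf_semidirect phi n g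

/-- The alternating group of degree 10 is not determined by its set of element orders, not even up to finitely many groups: for every bound N there is a finite group of order greater than N with exactly the same set of element orders as the alternating group of degree 10. -/
theorem result (N : ℕ) : ∃ (H : Type) (_ : Group H) (_ : Fintype H), N < Fintype.card H ∧ Set.range (orderOf : H → ℕ) = Set.range (orderOf : alternatingGroup (Fin 10) → ℕ) := by
  exact Cfsg.Agent.Lib.Helper05.A10Iso.unbounded_of_leaves leaves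
    (Set.Subset.antisymm Cfsg.Agent.Lib.Helper68.A10Iso.alt10_subset_spec
      Cfsg.Agent.Lib.Helper68.A10Iso.spec_subset_alt10) N

end Cfsg.Agent.S3489
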