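import Cfsg.Statements.S3491
import Cfsg.Agent.S3488
import Cfsg.Agent.Lib.Helper63.Isospectral

set_option autoImplicit false
open Cfsg

namespace Cfsg.Agent.S3491

open Matrix Cfsg.Agent.S3488

variable {F : Type*} [Field F]

/-- upper left block -/
def block (M : Matrix (Fin 3) (Fin 3) F) : Matrix (Fin 2) (Fin 2) F :=
  !![M 0 0, M 0 1; M 1 0, M 1 1]

theorem block_mul (A B : Matrix (Fin 3) (Fin 3) F) (h20 : B 2 0 = 0) (h21 : B 2 1 = 0) :
    block (A * B) = block A * block B := by
  ext i j
  fin_cases i <;> fin_cases j <;>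
    simp [block, Matrix.mul_apply, Fin.sum_univ_three, h20, h21]

theorem block_one : block (1 : Matrix (Fin 3) (Fin 3) F) = 1 := by
  ext i j
  fin_cases i <;> fin_cases j <;> simp [block]

/-- projection of the affine group onto the linear part -/
def blockHom : Subgroup.closure (S F) →* Matrix.SpecialLinearGroup (Fin 2) F where
  toFun g := ⟨block (g.1 : Matrix (Fin 3) (Fin 3) F), by
    rw [block, Matrix.det_fin_two_of]; exact det_of_row g.1 (row_of_mem_closure g.1 g.2)⟩
  map_one' := by
    apply Subtype.ext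
    simp [block_one]
  map_mul' g h := by
    have hh := row_of_mem_closure h.1 h.2
    apply Subtype.ext
    simp only [Subgroup.coe_mul, Matrix.SpecialLinearGroup.coe_mul, block_mul _ _ hh.1 hh.2.1]
    rfl

theorem blockHom_coe (g : Subgroup.closure (S F)) :
    ((blockHom g : Matrix.SpecialLinearGroup (Fin 2) F) : Matrix (Fin 2) (Fin 2) F) =
      block (g.1 : Matrix (Fin 3) (Fin 3) F) := rfl

theorem ker_entries (g : Subgroup.closure (S F)) (hg : g ∈ (blockHom (F := F)).ker) :
    (g.1 : Matrix (Fin 3) (Fin 3) F) 0 0 = 1 ∧ (g.1 : Matrix (Fin 3) (Fin 3) F) 0 1 = 0 ∧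
    (g.1 : Matrix (Fin 3) (Fin 3) F) 1 0 = 0 ∧ (g.1 : Matrix (Fin 3) (Fin 3) F) 1 1 = 1 := by
  rw [MonoidHom.mem_ker] at hg
  have h : block (g.1 : Matrix (Fin 3) (Fin 3) F) = 1 := by
    rw [← blockHom_coe, hg, Matrix.SpecialLinearGroup.coe_one]
  have h' := fun i j => congrFun (congrFun h i) j
  refine ⟨?_, ?_, ?_, ?_⟩
  · simpa [block] using h' 0 0
  · simpa [block] using h' 0 1
  · simpa [block] using h' 1 0
  · simpa [block] using h' 1 1

theorem ker_comm (g h : (blockHom (F := F)).ker) : g * h = h * g := by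
  obtain ⟨g00, g01, g10, g11⟩ := ker_entries g.1 g.2
  obtain ⟨h00, h01, h10, h11⟩ := ker_entries h.1 h.2
  obtain ⟨g20, g21, g22⟩ := row_of_mem_closure g.1.1 g.1.2
  obtain ⟨h20, h21, h22⟩ := row_of_mem_closure h.1.1 h.1.2
  apply Subtype.ext
  apply Subtype.ext
  apply Matrix.SpecialLinearGroup.ext
  intro i j
  simp only [Subgroup.coe_mul, Matrix.SpecialLinearGroup.coe_mul]
  fin_cases i <;> fin_cases j <;>
    simp [Matrix.mul_apply, Fin.sum_univ_three, g00, g01, g10, g11, h00, h01, h10, h11, g20, g21, g22,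
      h20, h21, h22] <;> ring

theorem ker_ne_bot : (blockHom (F := F)).ker ≠ ⊥ := by
  intro h
  have hm : (⟨mk3 (1 : F) 0 1 0 1 0 (by ring), mk3_mem _ _ _ _ _ _ _⟩ : Subgroup.closure (S F)) ∈
      (blockHom (F := F)).ker := by
    rw [MonoidHom.mem_ker]
    apply Matrix.SpecialLinearGroup.ext
    intro i j
    rw [blockHom_coe]
    fin_cases i <;> fin_cases j <;> simp [block, mk3]
  rw [h, Subgroup.mem_bot] at hm
  have h2 := congrArg (fun g : Subgroup.closure (S F) => (g.1 : Matrix (Fin 3) (Fin 3) F) 0 2) hm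
  simp [mk3] at h2

/-- The alternating group of degree 6 is not determined by its set of element orders, not even up to finitely many groups: for every bound N there is a finite group of order greater than N with exactly the same set of element orders as the alternating group of degree 6. -/
theorem result (N : ℕ) : ∃ (H : Type) (_ : Group H) (_ : Fintype H), N < Fintype.card H ∧ Set.range (orderOf : H → ℕ) = Set.range (orderOf : alternatingGroup (Fin 6) → ℕ) := by
  have : Fact (Nat.Prime 2) := ⟨Nat.prime_two⟩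
  let F := GaloisField 2 2
  have : Fintype F := Fintype.ofFinite F
  have hF : Fintype.card F = 4 := by
    rw [← Nat.card_eq_fintype_card, GaloisField.card 2 2 (by norm_num)]
    norm_num
  have hs : Group.IsSolvable (blockHom (F := F)).ker := Group.isSolvable_of_comm ker_comm
  have key := Cfsg.Agent.Lib.Helper63.unbounded_of_solvable_normal (blockHom (F := F)).ker
    ker_ne_bot hs N
  obtain ⟨H, i1, i2, h1, h2⟩ := key
  exact ⟨H, i1, i2, h1, h2.trans (Cfsg.Agent.S3488.result hF)⟩

end Cfsg.Agent.S3491
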