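import Cfsg.Statements.S3494
import Cfsg.Agent.Lib.Helper63.ExtremelyPrimitive

set_option autoImplicit false
open Cfsg

namespace Cfsg.Agent.S3494

open MulAction Subgroup

/-- Manning's Theorem on extremely primitive groups. Let a finite group G act faithfully and primitively on a finite set Ω with non-trivial point stabilizers, and suppose every point stabilizer G_α acts primitively on each of its orbits. Then G_α acts faithfully on each of its orbits other than {α}: an element of G_α fixing every point of one such orbit is the identity. -/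
theorem result {G : Type*} [Group G] [Finite G] {Ω : Type*} [Fintype Ω] [MulAction G Ω] [FaithfulSMul G Ω] (hprim : MulAction.IsPreprimitive G Ω) (hH : ∀ α : Ω, MulAction.stabilizer G α ≠ ⊥) (hep : ∀ (α : Ω) (ω : Ω), MulAction.IsPreprimitive (MulAction.stabilizer G α) (MulAction.orbit (MulAction.stabilizer G α) ω))
    (α ω : Ω) (hω : ω ≠ α) (h : MulAction.stabilizer G α) (hfix : ∀ x ∈ MulAction.orbit (MulAction.stabilizer G α) ω, h • x = x) : h = 1 := by
  -- the kernel of the action on the orbit
  let K : Subgroup G :=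
    { carrier := {g | g ∈ stabilizer G α ∧ ∀ x ∈ orbit (stabilizer G α) ω, g • x = x}
      one_mem' := ⟨one_mem _, fun x _ => one_smul _ x⟩
      mul_mem' := by
        rintro a b ⟨ha, ha'⟩ ⟨hb, hb'⟩
        refine ⟨mul_mem ha hb, fun x hx => ?_⟩
        rw [mul_smul, hb' x hx, ha' x hx]
      inv_mem' := by
        rintro a ⟨ha, ha'⟩
        refine ⟨inv_mem ha, fun x hx => ?_⟩
        rw [inv_smul_eq_iff, ha' x hx] }
  have hKle : K ≤ stabilizer G α := fun g hg => hg.1
  have horb_inv : ∀ s ∈ stabilizer G α, ∀ x ∈ orbit (stabilizer G α) ω, s • x ∈ orbit (stabilizer G α) ω := by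
    rintro s hs x ⟨t, rfl⟩
    exact ⟨⟨s, hs⟩ * t, by simp [mul_smul]⟩
  have hKn : stabilizer G α ≤ normalizer (K : Set G) := by
    have key : ∀ s ∈ stabilizer G α, ∀ k ∈ K, s * k * s⁻¹ ∈ K := by
      rintro s hs k ⟨hk, hk'⟩
      refine ⟨mul_mem (mul_mem hs hk) (inv_mem hs), fun x hx => ?_⟩
      rw [mul_smul, mul_smul, hk' _ (horb_inv s⁻¹ (inv_mem hs) x hx), smul_inv_smul]
    intro s hs
    rw [mem_normalizer_iff]
    intro k
    constructor
    · exact key s hs k
    · intro hk
      have := key s⁻¹ (inv_mem hs) _ hk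
      simpa [mul_assoc] using this
  have hKbot : K = ⊥ := by
    by_contra hK
    obtain ⟨k, hk, hkω⟩ := Cfsg.Agent.Lib.Helper63.normal_subgroup_moves hprim hH hep α K hKle hKn hK ω hω
    exact hkω (hk.2 ω (mem_orbit_self ω))
  have hmem : (h : G) ∈ K := ⟨h.2, fun x hx => hfix x hx⟩
  rw [hKbot, Subgroup.mem_bot] at hmem
  exact Subtype.ext hmem

end Cfsg.Agent.S3494
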