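import Cfsg.Statements.S3495
import Cfsg.Agent.Lib.Helper63.ExtremelyPrimitive

set_option autoImplicit false
open Cfsg

namespace Cfsg.Agent.S3495

open MulAction Subgroup

/-- Let a finite group G act faithfully and primitively on a finite set Ω with non-trivial point stabilizers, each acting primitively on every one of its orbits (an extremely primitive group), and suppose G has an elementary abelian normal p-subgroup N acting regularly on Ω (affine type). Then every non-trivial subgroup M of a point stabilizer G_α that is normal in G_α has the same orbits on Ω as G_α, and normalizes no subgroup of N other than 1 and N. -/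
theorem result {G : Type*} [Group G] [Finite G] {Ω : Type*} [Fintype Ω] [MulAction G Ω] [FaithfulSMul G Ω] (hprim : MulAction.IsPreprimitive G Ω) (hH : ∀ α : Ω, MulAction.stabilizer G α ≠ ⊥) (hep : ∀ (α : Ω) (ω : Ω), MulAction.IsPreprimitive (MulAction.stabilizer G α) (MulAction.orbit (MulAction.stabilizer G α) ω))
    (N : Subgroup G) [N.Normal] (hNc : IsMulCommutative N) (p : ℕ) (hp : p.Prime) (hNp : ∀ n ∈ N, n ^ p = 1)
    (hNtr : MulAction.IsPretransitive N Ω) (hNreg : ∀ ω : Ω, MulAction.stabilizer N ω = ⊥) (α : Ω) (M : Subgroup G) (hM : M ≠ ⊥) (hMle : M ≤ MulAction.stabilizer G α)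
    (hMn : MulAction.stabilizer G α ≤ Subgroup.normalizer (M : Set G)) :
    (∀ ω : Ω, MulAction.orbit M ω = MulAction.orbit (MulAction.stabilizer G α) ω) ∧
    (∀ L : Subgroup G, L ≤ N → M ≤ Subgroup.normalizer (L : Set G) → L = ⊥ ∨ L = N) := by
  have _ := hp
  have _ := hNp
  -- part 1
  have part1 : ∀ ω : Ω, MulAction.orbit M ω = MulAction.orbit (MulAction.stabilizer G α) ω := by
    intro ω
    apply Set.Subset.antisymm
    · rintro _ ⟨m, rfl⟩
      exact ⟨⟨m.1, hMle m.2⟩, rfl⟩
    · rintro y hy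
      by_cases hω : ω = α
      · obtain ⟨s, rfl⟩ := hy
        subst hω
        have : s • ω = ω := s.2
        show s • ω ∈ orbit (↥M) ω
        rw [this]
        exact mem_orbit_self ω
      · obtain ⟨k, hk, hkω⟩ := Cfsg.Agent.Lib.Helper63.normal_subgroup_moves hprim hH hep α M hMle hMn hM ω hω
        obtain ⟨m, hm, hmy⟩ := Cfsg.Agent.Lib.Helper63.normal_transitive_on_orbit α ω (hep α ω) M hMle hMn
          ⟨k, hk, ω, mem_orbit_self ω, hkω⟩ ω (mem_orbit_self ω) y hy
        exact ⟨⟨m, hm⟩, hmy⟩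
  refine ⟨part1, ?_⟩
  -- part 2
  intro L hLN hML
  by_cases hL : L = ⊥
  · exact Or.inl hL
  right
  -- freeness of N
  have hfree : ∀ n ∈ N, ∀ n' ∈ N, ∀ x : Ω, n • x = n' • x → n = n' := by
    intro n hn n' hn' x hx
    have hmem : (⟨n'⁻¹ * n, N.mul_mem (N.inv_mem hn') hn⟩ : N) ∈ stabilizer N x := by
      rw [mem_stabilizer_iff]
      show (n'⁻¹ * n) • x = x
      rw [mul_smul, hx, inv_smul_smul]
    rw [hNreg x, Subgroup.mem_bot] at hmem
    have := congrArg Subtype.val hmem
    simp only [Subgroup.coe_one] at this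
    exact (inv_mul_eq_one.mp this).symm
  obtain ⟨l, hl1⟩ := (Subgroup.ne_bot_iff_exists_ne_one.mp hL)
  have hl' : (l : G) ≠ 1 := fun h => hl1 (Subtype.ext h)
  have hlN : (l : G) ∈ N := hLN l.2
  -- ω = l • α is moved
  have hω : (l : G) • α ≠ α := by
    intro h
    exact hl' (hfree l hlN 1 N.one_mem α (by rw [h, one_smul]))
  -- conjugates of l by G_α lie in L
  have hconj : ∀ s ∈ stabilizer G α, s * l * s⁻¹ ∈ L := by
    intro s hs
    have h1 : s • (l : G) • α ∈ orbit (stabilizer G α) ((l : G) • α) := ⟨⟨s, hs⟩, rfl⟩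
    rw [← part1] at h1
    obtain ⟨m, hm⟩ := h1
    have hmα : (m : G) • α = α := hMle m.2
    have hsα : s • α = α := hs
    have e1 : ((m : G) * l * (m : G)⁻¹) • α = (s * l * s⁻¹) • α := by
      have hm' : (m : G) • (l : G) • α = s • (l : G) • α := hm
      have hmi : (m : G)⁻¹ • α = α := by rw [inv_smul_eq_iff, hmα]
      have hsi : s⁻¹ • α = α := by rw [inv_smul_eq_iff, hsα]
      rw [mul_smul, mul_smul, hmi, mul_smul, mul_smul, hsi, hm']
    have hmN : (m : G) * l * (m : G)⁻¹ ∈ N := (inferInstance : N.Normal).conj_mem _ hlN _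
    have hsN : s * l * s⁻¹ ∈ N := (inferInstance : N.Normal).conj_mem _ hlN _
    have := hfree _ hmN _ hsN α e1
    rw [← this]
    exact (mem_normalizer_iff.mp (hML m.2) l).mp l.2
  -- commutativity of N
  have hcommN : ∀ a ∈ N, ∀ b ∈ N, a * b = b * a := by
    intro a ha b hb
    have := isMulCommutative_iff.mp hNc ⟨a, ha⟩ ⟨b, hb⟩
    exact congrArg Subtype.val this
  -- all conjugates of l lie in L
  have hconjG : ∀ g : G, g * l * g⁻¹ ∈ L := by
    intro g
    obtain ⟨n, hn⟩ := hNtr.exists_smul_eq α (g • α)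
    have hs : (n : G)⁻¹ * g ∈ stabilizer G α := by
      rw [mem_stabilizer_iff, mul_smul]
      have : (n : G) • α = g • α := hn
      rw [← this, inv_smul_smul]
    have h1 := hconj _ hs
    have h1N : ((n : G)⁻¹ * g) * l * ((n : G)⁻¹ * g)⁻¹ ∈ N := hLN h1
    have h2 : g * l * g⁻¹ = (n : G) * (((n : G)⁻¹ * g) * l * ((n : G)⁻¹ * g)⁻¹) * (n : G)⁻¹ := by
      group
    rw [h2, hcommN _ n.2 _ h1N, mul_assoc, mul_inv_cancel, mul_one]
    exact h1
  have hNC : Subgroup.normalClosure {(l : G)} ≤ L := by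
    rw [Subgroup.normalClosure]
    rw [Subgroup.closure_le]
    intro x hx
    rw [Group.mem_conjugatesOfSet_iff] at hx
    obtain ⟨a, ha, hax⟩ := hx
    rw [Set.mem_singleton_iff] at ha
    subst ha
    rw [isConj_iff] at hax
    obtain ⟨c, rfl⟩ := hax
    exact hconjG c
  -- the normal closure is transitive
  have hqp : IsQuasiPreprimitive G Ω := inferInstance
  have hfix : fixedPoints (Subgroup.normalClosure {(l : G)}) Ω ≠ Set.univ := by
    intro h
    have : α ∈ fixedPoints (Subgroup.normalClosure {(l : G)}) Ω := by rw [h]; trivial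
    rw [mem_fixedPoints] at this
    have hlmem : (l : G) ∈ Subgroup.normalClosure {(l : G)} :=
      Subgroup.subset_normalClosure (Set.mem_singleton _)
    exact hω (this ⟨l, hlmem⟩)
  have htr := hqp.isPretransitive_of_normal hfix
  apply le_antisymm hLN
  intro n hn
  obtain ⟨n0, hn0⟩ := htr.exists_smul_eq α (n • α)
  have hn0L : (n0 : G) ∈ L := hNC n0.2
  have := hfree _ (hLN hn0L) n hn α hn0
  rw [← this]
  exact hn0L

end Cfsg.Agent.S3495
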