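import Cfsg.Statements.S3496
import Cfsg.Agent.S0041
import Cfsg.Agent.Lib.Helper64.CycField
import Cfsg.Agent.Lib.Helper64.PrimDer
import Cfsg.Agent.Lib.Helper64.MinInv

set_option autoImplicit false
set_option linter.style.haveILetI false
open Cfsg

namespace Cfsg.Agent.S3496

open MulAction Cfsg.Agent.Lib.Helper64

/-- a minimal normal subgroup of a solvable group is commutative -/
theorem comm_of_minNormal_solvable {K : Type*} [Group K] [Group.IsSolvable K] (N : Subgroup K)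
    (hN : N.Normal) (hN1 : N ≠ ⊥)
    (hmin : ∀ M : Subgroup K, M.Normal → M ≤ N → M = ⊥ ∨ M = N) :
    ∀ x ∈ N, ∀ y ∈ N, x * y = y * x := by
  have hlt : ⁅N, N⁆ < N := Group.IsSolvable.commutator_lt_of_ne_bot hN1
  haveI := hN
  have hnorm : (⁅N, N⁆ : Subgroup K).Normal := inferInstance
  rcases hmin _ hnorm hlt.le with h | h
  · have h2 := Subgroup.commutator_eq_bot_iff_le_centralizer.mp h
    intro x hx y hy
    exact ((Subgroup.mem_centralizer_iff.mp (h2 hx)) y hy).symm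
  · exact absurd h hlt.ne

/-- a nontrivial cyclic subgroup of prime exponent has prime order -/
theorem card_eq_of_cyclic_exponent {K : Type*} [Group K] (N : Subgroup K) [Finite N]
    (hcyc : IsCyclic N) (hN1 : N ≠ ⊥) {q : ℕ} (hq : q.Prime) (hexp : ∀ x ∈ N, x ^ q = 1) :
    Nat.card N = q := by
  obtain ⟨g, hg⟩ := hcyc.exists_generator
  have h1 : orderOf g = Nat.card N := orderOf_eq_card_of_forall_mem_zpowers hg
  have h2 : g ^ q = 1 := Subtype.ext (by simpa using hexp g g.2)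
  have h3 : Nat.card N ∣ q := by rw [← h1]; exact orderOf_dvd_of_pow_eq_one h2
  rcases (Nat.dvd_prime hq).mp h3 with h | h
  · exact absurd (Subgroup.card_eq_one.mp h) hN1
  · exact h

/-- a group acting on its normal commutative subgroup `N₀` by Frobenius powers, with `N₀` self-centralizing, is `N₀` extended by a cyclic group of order dividing `d` -/
theorem cyclic_quotient {K : Type*} [Group K] [Finite K] (N₀ : Subgroup K) [hn : N₀.Normal]
    (hc : ∀ x ∈ N₀, ∀ y ∈ N₀, x * y = y * x) {p q d : ℕ} (hd0 : d ≠ 0)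
    (hcard : Nat.card N₀ = q) (hd : ∀ y ∈ N₀, y ^ (p ^ d) = y)
    (h1 : ∀ x : K, ∃ j : ℕ, ∀ y ∈ N₀, x * y * x⁻¹ = y ^ (p ^ j))
    (h2 : ∀ x : K, (∀ y ∈ N₀, x * y * x⁻¹ = y) → x ∈ N₀) :
    (∃ x₀ : K, (⊤ : Subgroup K) = N₀ ⊔ Subgroup.zpowers x₀) ∧ Nat.card K ∣ q * d := by
  classical
  obtain ⟨e, rfl⟩ : ∃ e, d = e + 1 := Nat.exists_eq_succ_of_ne_zero hd0
  -- the `p`-power automorphism of `N₀`
  let π : MulAut N₀ :=
    { toFun := fun y => y ^ p
      invFun := fun y => y ^ (p ^ e)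
      left_inv := fun y => by
        apply Subtype.ext
        have := hd y y.2
        rw [pow_succ', pow_mul] at this
        simpa using this
      right_inv := fun y => by
        apply Subtype.ext
        have := hd y y.2
        rw [pow_succ, pow_mul] at this
        simpa using this
      map_mul' := fun x y => by
        have hcomm : Commute x y := Subtype.ext (hc x x.2 y y.2)
        exact hcomm.mul_pow p }
  have hπ : ∀ (j : ℕ) (y : N₀), (π ^ j) y = y ^ (p ^ j) := by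
    intro j
    induction j with
    | zero => intro y; simp
    | succ j ih =>
      intro y
      rw [pow_succ', MulAut.mul_apply, ih, pow_succ, pow_mul]
      rfl
  have hπd : π ^ (e + 1) = 1 := by
    apply MulEquiv.ext
    intro y
    rw [hπ]
    apply Subtype.ext
    simpa using hd y y.2
  let Θ : K →* MulAut N₀ := MulAut.conjNormal
  have hΘ : ∀ (x : K) (y : N₀), ((Θ x y : N₀) : K) = x * y * x⁻¹ := fun x y => rfl
  have hker : Θ.ker = N₀ := by
    ext x
    rw [MonoidHom.mem_ker]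
    constructor
    · intro h
      apply h2
      intro y hy
      have := congrArg (fun f : MulAut N₀ => ((f ⟨y, hy⟩ : N₀) : K)) h
      simpa [hΘ] using this
    · intro hx
      apply MulEquiv.ext
      intro y
      apply Subtype.ext
      rw [hΘ, hc x hx y y.2]
      simp
  have hrange : Θ.range ≤ Subgroup.zpowers π := by
    rintro θ ⟨x, rfl⟩
    obtain ⟨j, hj⟩ := h1 x
    refine ⟨j, ?_⟩
    apply MulEquiv.ext
    intro y
    apply Subtype.ext
    simp only [zpow_natCast]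
    rw [hπ, hΘ, hj y y.2]
    rfl
  constructor
  · haveI : IsCyclic (Subgroup.zpowers π) := inferInstance
    haveI : IsCyclic (Θ.range.subgroupOf (Subgroup.zpowers π)) := inferInstance
    haveI : IsCyclic Θ.range :=
      isCyclic_of_surjective (Subgroup.subgroupOfEquivOfLe hrange).toMonoidHom
        (Subgroup.subgroupOfEquivOfLe hrange).surjective
    obtain ⟨⟨ρ, x₀, rfl⟩, hgen⟩ := IsCyclic.exists_generator (α := Θ.range)
    refine ⟨x₀, ?_⟩
    symm
    rw [eq_top_iff]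
    intro x _
    obtain ⟨k, hk⟩ := Subgroup.mem_zpowers_iff.mp (hgen ⟨Θ x, x, rfl⟩)
    have hk' : (Θ x₀) ^ k = Θ x := by
      have := congrArg Subtype.val hk
      simpa using this
    have h3 : (x₀ ^ k)⁻¹ * x ∈ N₀ := by
      rw [← hker, MonoidHom.mem_ker, map_mul, map_inv, map_zpow, hk']
      simp
    have h4 : x = (x₀ ^ k) * ((x₀ ^ k)⁻¹ * x) := by group
    rw [h4]
    exact Subgroup.mul_mem _ (Subgroup.mem_sup_right (Subgroup.zpow_mem_zpowers x₀ k))
      (Subgroup.mem_sup_left h3)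
  · have h3 : Nat.card K = Nat.card (K ⧸ Θ.ker) * Nat.card Θ.ker :=
      Subgroup.card_eq_card_quotient_mul_card_subgroup Θ.ker
    have h4 : Nat.card (K ⧸ Θ.ker) = Nat.card Θ.range :=
      Nat.card_congr (QuotientGroup.quotientKerEquivRange Θ).toEquiv
    have h5 : Nat.card Θ.range ∣ e + 1 := by
      have h6 := Subgroup.card_dvd_of_le hrange
      rw [Nat.card_zpowers] at h6
      exact h6.trans (orderOf_dvd_of_pow_eq_one hπd)
    rw [h3, h4, hker, hcard, mul_comm]
    exact Nat.mul_dvd_mul_left q h5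

section Main

variable {G : Type*} [Group G] [Finite G] {Ω : Type*} [MulAction G Ω] [FaithfulSMul G Ω]

/-- the structure obtained from the regular normal subgroup `V` and the point stabilizer -/
theorem stage1 [Finite Ω] [Group.IsSolvable G] (hprim : IsPreprimitive G Ω) (α : Ω)
    (hH : stabilizer G α ≠ ⊥) :
    ∃ V : Subgroup G, V.Normal ∧ V ≠ ⊥ ∧
      (∀ M : Subgroup G, M.Normal → M ≤ V → M = ⊥ ∨ M = V) ∧
      (∀ x ∈ V, ∀ y ∈ V, x * y = y * x) ∧ (∃ r : ℕ, r.Prime ∧ ∀ x ∈ V, x ^ r = 1) ∧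
      Nat.card V = Nat.card Ω ∧
      (∀ ω : Ω, ∃ v ∈ V, v • α = ω) ∧
      (∀ u ∈ V, ∀ v ∈ V, u • α = v • α → u = v) ∧
      (∀ x ∈ stabilizer G α, (∀ v ∈ V, x * v = v * x) → x = 1) ∧
      (∀ g : G, ∃ y ∈ stabilizer G α, ∀ t ∈ V, g * t * g⁻¹ = y * t * y⁻¹) := by
  classical
  haveI : Nontrivial G := by
    obtain ⟨x, hx1⟩ := (Subgroup.ne_bot_iff_exists_ne_one.mp hH)
    exact ⟨⟨(x : G), 1, fun h => hx1 (Subtype.ext h)⟩⟩
  obtain ⟨V, hVn, hV1, hVmin⟩ := exists_minimal_normal (G := G)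
  have hVc := comm_of_minNormal_solvable V hVn hV1 hVmin
  obtain ⟨_, hexp, hVt, _, hVsr⟩ := affine_of_comm_minNormal hprim V hVn hV1 hVmin hVc
  have hVcard : Nat.card V = Nat.card Ω := card_eq_of_regular V hVt hVsr α
  have htrans : ∀ ω : Ω, ∃ v ∈ V, v • α = ω := by
    intro ω
    obtain ⟨v, hv⟩ := hVt.exists_smul_eq α ω
    exact ⟨v, v.2, hv⟩
  have hinj : ∀ u ∈ V, ∀ v ∈ V, u • α = v • α → u = v := by
    intro u hu v hv h
    by_contra hne
    have h1 : v⁻¹ * u ∈ V := V.mul_mem (V.inv_mem hv) hu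
    have h2 : v⁻¹ * u ≠ 1 := by
      intro h3
      apply hne
      calc u = v * (v⁻¹ * u) := by group
        _ = v := by rw [h3, mul_one]
    apply hVsr _ h1 h2 α
    rw [mul_smul, h, inv_smul_smul]
  have hcent : ∀ x ∈ stabilizer G α, (∀ v ∈ V, x * v = v * x) → x = 1 := by
    intro x hx hxc
    exact eq_one_of_commute_pretransitive V hVt hxc (mem_stabilizer_iff.mp hx)
  refine ⟨V, hVn, hV1, hVmin, hVc, hexp, hVcard, htrans, hinj, hcent, ?_⟩
  intro g
  obtain ⟨u, hu, hug⟩ := htrans (g • α)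
  refine ⟨u⁻¹ * g, ?_, ?_⟩
  · rw [mem_stabilizer_iff, mul_smul, ← hug, inv_smul_smul]
  · intro t ht
    have h1 : g * t * g⁻¹ ∈ V := hVn.conj_mem t ht g
    have h2 := hVc _ (V.inv_mem hu) _ h1
    calc g * t * g⁻¹ = u⁻¹ * (g * t * g⁻¹) * u := by
          rw [h2]; group
      _ = u⁻¹ * g * t * (u⁻¹ * g)⁻¹ := by group

/-- the point stabilizer acts faithfully on each of its non-trivial orbits -/
theorem stage2 (α : Ω) (V : Subgroup G) (hVn : V.Normal)
    (hVmin : ∀ M : Subgroup G, M.Normal → M ≤ V → M = ⊥ ∨ M = V)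
    (htrans : ∀ ω : Ω, ∃ v ∈ V, v • α = ω)
    (hinj : ∀ u ∈ V, ∀ v ∈ V, u • α = v • α → u = v)
    (hcent : ∀ x ∈ stabilizer G α, (∀ v ∈ V, x * v = v * x) → x = 1)
    (hdecomp : ∀ g : G, ∃ y ∈ stabilizer G α, ∀ t ∈ V, g * t * g⁻¹ = y * t * y⁻¹)
    (ω : Ω) (hω : ω ≠ α) (x : G) (hx : x ∈ stabilizer G α)
    (hfix : ∀ o ∈ orbit (stabilizer G α) ω, x • o = o) : x = 1 := by
  classical
  set S : Set G := {v | v ∈ V ∧ v • α ∈ orbit (stabilizer G α) ω} with hS
  have hstab : ∀ y ∈ stabilizer G α, ∀ t : G, (y * t * y⁻¹) • α = y • (t • α) := by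
    intro y hy t
    have h1 : y⁻¹ • α = α := by
      have := mem_stabilizer_iff.mp hy
      rw [inv_smul_eq_iff, this]
    rw [mul_smul, mul_smul, h1]
  have hSx : ∀ s ∈ S, x * s = s * x := by
    intro s hs
    have h1 : x * s * x⁻¹ ∈ V := hVn.conj_mem s hs.1 x
    have h2 : (x * s * x⁻¹) • α = s • α := by rw [hstab x hx, hfix _ hs.2]
    have h3 := hinj _ h1 _ hs.1 h2
    calc x * s = x * s * x⁻¹ * x := by group
      _ = s * x := by rw [h3]
  have hSconj : ∀ g : G, ∀ s ∈ S, g * s * g⁻¹ ∈ S := by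
    intro g s hs
    obtain ⟨y, hy, hyt⟩ := hdecomp g
    refine ⟨hVn.conj_mem s hs.1 g, ?_⟩
    rw [hyt s hs.1, hstab y hy]
    obtain ⟨z, hz⟩ := hs.2
    refine ⟨⟨y, hy⟩ * z, ?_⟩
    show (⟨y, hy⟩ * z : stabilizer G α) • ω = y • s • α
    have hz' : z • ω = s • α := hz
    rw [mul_smul, hz']
    rfl
  have hWV : Subgroup.normalClosure S ≤ V := Subgroup.normalClosure_le_normal (fun s hs => hs.1)
  have hW1 : Subgroup.normalClosure S ≠ ⊥ := by
    obtain ⟨v, hv, hvω⟩ := htrans ω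
    have hvS : v ∈ S := ⟨hv, by rw [hvω]; exact mem_orbit_self ω⟩
    have hv1 : v ≠ 1 := by
      rintro rfl
      rw [one_smul] at hvω
      exact hω hvω.symm
    intro hbot
    have : v ∈ Subgroup.normalClosure S := Subgroup.subset_normalClosure hvS
    rw [hbot, Subgroup.mem_bot] at this
    exact hv1 this
  have hWeq : Subgroup.normalClosure S = V :=
    (hVmin _ Subgroup.normalClosure_normal hWV).resolve_left hW1
  have hWc : Subgroup.normalClosure S ≤ Subgroup.centralizer {x} := by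
    rw [Subgroup.normalClosure, Subgroup.closure_le]
    intro a ha
    obtain ⟨b, hb, hba⟩ := Group.mem_conjugatesOfSet_iff.mp ha
    obtain ⟨c, hc⟩ := isConj_iff.mp hba
    have haS : a ∈ S := by rw [← hc]; exact hSconj c b hb
    show a ∈ Subgroup.centralizer {x}
    rw [Subgroup.mem_centralizer_iff]
    intro z hz
    rw [Set.mem_singleton_iff] at hz
    subst hz
    exact hSx a haS
  apply hcent x hx
  intro v hv
  have h1 : v ∈ Subgroup.centralizer {x} := hWc (by rw [hWeq]; exact hv)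
  exact (Subgroup.mem_centralizer_iff.mp h1) x (Set.mem_singleton x)

/-- a minimal normal subgroup of the point stabilizer is regular on every non-trivial orbit -/
theorem stage3 [Group.IsSolvable G] (α : Ω) (hH : stabilizer G α ≠ ⊥)
    (hep : ∀ ω : Ω, IsPreprimitive (stabilizer G α) (orbit (stabilizer G α) ω))
    (hfaith : ∀ ω : Ω, ω ≠ α → ∀ x ∈ stabilizer G α,
      (∀ o ∈ orbit (stabilizer G α) ω, x • o = o) → x = 1) :
    ∃ (N₀ : Subgroup (stabilizer G α)) (q : ℕ), N₀.Normal ∧ N₀ ≠ ⊥ ∧ q.Prime ∧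
      (∀ x ∈ N₀, x ^ q = 1) ∧ (∀ x ∈ N₀, ∀ y ∈ N₀, x * y = y * x) ∧
      (∀ n ∈ N₀, n ≠ 1 → ∀ ω : Ω, ω ≠ α → ((n : stabilizer G α) : G) • ω ≠ ω) ∧
      (∀ ω : Ω, ω ≠ α → ∀ ω' ∈ orbit (stabilizer G α) ω,
        ∃ n ∈ N₀, ((n : stabilizer G α) : G) • ω = ω') := by
  classical
  haveI : Nontrivial (stabilizer G α) := (Subgroup.nontrivial_iff_ne_bot _).mpr hH
  obtain ⟨N₀, hN₀n, hN₀1, hN₀min⟩ := exists_minimal_normal (G := stabilizer G α)
  have hN₀c := comm_of_minNormal_solvable N₀ hN₀n hN₀1 hN₀min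
  obtain ⟨q, hq, hexp⟩ := exists_prime_exponent_of_comm hN₀n hN₀1 hN₀min hN₀c
  have key : ∀ ω : Ω, ω ≠ α →
      IsPretransitive N₀ (orbit (stabilizer G α) ω) ∧
      ∀ x ∈ N₀, x ≠ 1 → ∀ o : orbit (stabilizer G α) ω, x • o ≠ o := by
    intro ω hω
    haveI : FaithfulSMul (stabilizer G α) (orbit (stabilizer G α) ω) := by
      refine ⟨fun {m₁ m₂} h => ?_⟩
      have h1 : ((m₂⁻¹ * m₁ : stabilizer G α) : G) = 1 := by
        apply hfaith ω hω _ (m₂⁻¹ * m₁).2
        intro o ho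
        have h2 := congrArg Subtype.val (h ⟨o, ho⟩)
        have h3 : (m₁ : G) • o = (m₂ : G) • o := h2
        rw [Subgroup.coe_mul, mul_smul, h3, Subgroup.coe_inv, inv_smul_smul]
      have h4 : m₂⁻¹ * m₁ = 1 := Subtype.ext h1
      calc m₁ = m₂ * (m₂⁻¹ * m₁) := by group
        _ = m₂ := by rw [h4, mul_one]
    obtain ⟨_, _, hNt, _, hsr⟩ :=
      affine_of_comm_minNormal (G := stabilizer G α) (Ω := orbit (stabilizer G α) ω)
        (hep ω) N₀ hN₀n hN₀1 hN₀min hN₀c
    exact ⟨hNt, hsr⟩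
  refine ⟨N₀, q, hN₀n, hN₀1, hq, hexp, hN₀c, ?_, ?_⟩
  · intro n hn hn1 ω hω hfix
    apply (key ω hω).2 n hn hn1 ⟨ω, mem_orbit_self ω⟩
    apply Subtype.ext
    exact hfix
  · intro ω hω ω' hω'
    obtain ⟨n, hn⟩ := (key ω hω).1.exists_smul_eq ⟨ω, mem_orbit_self ω⟩ ⟨ω', hω'⟩
    refine ⟨n, n.2, ?_⟩
    exact congrArg Subtype.val hn

end Main

/-- The soluble extremely primitive groups. -/
theorem result {G : Type*} [Group G] [Finite G] {Ω : Type*} [Fintype Ω] [MulAction G Ω] [FaithfulSMul G Ω] [Group.IsSolvable G] (p d : ℕ) (hp : p.Prime) (hcard : Fintype.card Ω = p ^ d)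
    (hprim : MulAction.IsPreprimitive G Ω) (hH : ∀ α : Ω, MulAction.stabilizer G α ≠ ⊥) (hep : ∀ (α : Ω) (ω : Ω), MulAction.IsPreprimitive (MulAction.stabilizer G α) (MulAction.orbit (MulAction.stabilizer G α) ω)) (α : Ω) :
    ∃ q : ℕ, q.Prime ∧ (∀ ω : Ω, ω ≠ α → Nat.card (MulAction.orbit (MulAction.stabilizer G α) ω) = q) ∧
      q ∣ p ^ d - 1 ∧ (∀ i : ℕ, 0 < i → i < d → ¬ q ∣ p ^ i - 1) ∧
      ∃ T : Subgroup G, T ≤ MulAction.stabilizer G α ∧ MulAction.stabilizer G α ≤ Subgroup.normalizer (T : Set G) ∧ Nat.card T = q ∧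
        (∃ h : G, MulAction.stabilizer G α = T ⊔ Subgroup.zpowers h) ∧ Nat.card (MulAction.stabilizer G α) ∣ q * d := by
  classical
  haveI : Fact p.Prime := ⟨hp⟩
  obtain ⟨V, hVn, hV1, hVmin, hVc, ⟨r, hr, hVr⟩, hVcard, htrans, hinj, hcent, hdecomp⟩ :=
    stage1 hprim α (hH α)
  have hfaith : ∀ ω : Ω, ω ≠ α → ∀ x ∈ stabilizer G α,
      (∀ o ∈ orbit (stabilizer G α) ω, x • o = o) → x = 1 :=
    fun ω hω x hx hfix => stage2 α V hVn hVmin htrans hinj hcent hdecomp ω hω x hx hfix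
  obtain ⟨N₀, q, hN₀n, hN₀1, hq, hexp, hN₀c, hsr, hNtr⟩ := stage3 α (hH α) (hep α) hfaith
  have hVcard' : Nat.card V = p ^ d := by rw [hVcard, Nat.card_eq_fintype_card, hcard]
  -- `r = p`
  have hrp : r = p := by
    haveI : Fact r.Prime := ⟨hr⟩
    have hpg : IsPGroup r V := by
      intro x
      refine ⟨1, ?_⟩
      rw [pow_one]
      exact Subtype.ext (by simpa using hVr x x.2)
    obtain ⟨k, hk⟩ := hpg.exists_card_eq
    have hk0 : k ≠ 0 := by
      rintro rfl
      rw [pow_zero] at hk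
      exact hV1 (Subgroup.card_eq_one.mp hk)
    have h1 : r ∣ p ^ d := by
      rw [← hVcard', hk]
      exact dvd_pow_self r hk0
    exact (Nat.prime_dvd_prime_iff_eq hr hp).mp (hr.dvd_of_dvd_pow h1)
  have hrp' : p = r := hrp.symm
  subst hrp'
  have hd0 : d ≠ 0 := by
    rintro rfl
    rw [pow_zero] at hVcard'
    exact hV1 (Subgroup.card_eq_one.mp hVcard')
  set N : Subgroup G := N₀.map (stabilizer G α).subtype with hNdef
  have hNH : N ≤ (stabilizer G α) := Subgroup.map_subtype_le N₀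
  have hmemN : ∀ x : G, x ∈ N ↔ ∃ n ∈ N₀, ((n : (stabilizer G α)) : G) = x := by
    intro x
    rw [hNdef, Subgroup.mem_map]
    rfl
  have hHα : ∀ x ∈ (stabilizer G α), x • α = α := fun x hx => mem_stabilizer_iff.mp hx
  have hN1 : N ≠ ⊥ := by
    rw [hNdef, Ne, Subgroup.map_eq_bot_iff_of_injective _ (stabilizer G α).subtype_injective]
    exact hN₀1
  have hNsr : ∀ a ∈ N, a ≠ 1 → ∀ ω : Ω, ω ≠ α → a • ω ≠ ω := by
    intro a ha ha1 ω hω
    obtain ⟨n, hn, rfl⟩ := (hmemN a).mp ha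
    exact hsr n hn (fun h => ha1 (by rw [h]; rfl)) ω hω
  have hNtr' : ∀ ω : Ω, ω ≠ α → ∀ ω' ∈ orbit (stabilizer G α) ω, ∃ a ∈ N, a • ω = ω' := by
    intro ω hω ω' hω'
    obtain ⟨n, hn, hnω⟩ := hNtr ω hω ω' hω'
    exact ⟨n, (hmemN _).mpr ⟨n, hn, rfl⟩, hnω⟩
  have hNc : ∀ a ∈ N, ∀ b ∈ N, a * b = b * a := by
    intro a ha b hb
    obtain ⟨n, hn, rfl⟩ := (hmemN a).mp ha
    obtain ⟨m, hm, rfl⟩ := (hmemN b).mp hb
    have := hN₀c n hn m hm
    exact congrArg (fun t : (stabilizer G α) => (t : G)) this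
  have hNexp : ∀ a ∈ N, a ^ q = 1 := by
    intro a ha
    obtain ⟨n, hn, rfl⟩ := (hmemN a).mp ha
    have := hexp n hn
    exact congrArg (fun t : (stabilizer G α) => (t : G)) this
  have hNnorm : ∀ x ∈ (stabilizer G α), ∀ a ∈ N, x * a * x⁻¹ ∈ N := by
    intro x hx a ha
    obtain ⟨n, hn, rfl⟩ := (hmemN a).mp ha
    exact (hmemN _).mpr ⟨⟨x, hx⟩ * n * ⟨x, hx⟩⁻¹, hN₀n.conj_mem n hn ⟨x, hx⟩, rfl⟩
  -- `N` is cyclic of order `q`
  haveI : IsMulCommutative V := ⟨⟨fun a b => Subtype.ext (hVc a a.2 b b.2)⟩⟩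
  haveI : IsMulCommutative N := ⟨⟨fun a b => Subtype.ext (hNc a a.2 b b.2)⟩⟩
  have hfpf : ∀ a ∈ N, a ≠ 1 → V ⊓ Subgroup.centralizer {a} = ⊥ := by
    intro a ha ha1
    rw [eq_bot_iff]
    intro v hv
    rw [Subgroup.mem_bot]
    by_contra hv1
    have hvV : v ∈ V := hv.1
    have hva : a * v = v * a :=
      (Subgroup.mem_centralizer_iff.mp hv.2) a (Set.mem_singleton a)
    have hω : v • α ≠ α := by
      intro h
      apply hv1
      apply hinj v hvV 1 V.one_mem
      rw [h, one_smul]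
    apply hNsr a ha ha1 (v • α) hω
    rw [← mul_smul, hva, mul_smul, hHα a (hNH ha)]
  have hcyc : IsCyclic N := by
    apply S0041.result N V hV1
    · rw [Subgroup.normalizer_eq_top]; exact le_top
    · exact hfpf
    · exact Or.inl inferInstance
  have hNcard : Nat.card N = q := card_eq_of_cyclic_exponent N hcyc hN1 hq hNexp
  -- all non-trivial suborbits have length `q`
  have hC1 : ∀ ω : Ω, ω ≠ α → Nat.card (orbit (stabilizer G α) ω) = q := by
    intro ω hω
    rw [← hNcard]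
    symm
    refine Nat.card_congr (Equiv.ofBijective
      (fun a : N => (⟨(a : G) • ω, ⟨⟨a, hNH a.2⟩, rfl⟩⟩ : orbit (stabilizer G α) ω)) ⟨?_, ?_⟩)
    · intro a b hab
      have h1 : (a : G) • ω = (b : G) • ω := congrArg Subtype.val hab
      by_contra hne
      have h2 : (b : G)⁻¹ * a ∈ N := N.mul_mem (N.inv_mem b.2) a.2
      have h3 : (b : G)⁻¹ * a ≠ 1 := by
        intro h
        apply hne
        apply Subtype.ext
        calc (a : G) = b * ((b : G)⁻¹ * a) := by group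
          _ = b := by rw [h, mul_one]
      apply hNsr _ h2 h3 ω hω
      rw [mul_smul, h1, inv_smul_smul]
    · rintro ⟨ω', hω'⟩
      obtain ⟨a, ha, haω⟩ := hNtr' ω hω ω' hω'
      exact ⟨⟨a, ha⟩, Subtype.ext haω⟩
  -- `q ∣ p ^ d - 1`
  have hC2 : q ∣ p ^ d - 1 := by
    haveI : Fact q.Prime := ⟨hq⟩
    have hpg : IsPGroup q N := IsPGroup.of_card (n := 1) (by rw [hNcard, pow_one])
    have h1 := hpg.card_modEq_card_fixedPoints Ω
    have h2 : fixedPoints N Ω = {α} := by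
      ext ω
      rw [mem_fixedPoints, Set.mem_singleton_iff]
      constructor
      · intro h
        by_contra hω
        obtain ⟨a, ha1⟩ := Subgroup.ne_bot_iff_exists_ne_one.mp hN1
        exact hNsr a a.2 (fun h' => ha1 (Subtype.ext h')) ω hω (h a)
      · rintro rfl a
        exact hHα a (hNH a.2)
    rw [h2, Nat.card_eq_fintype_card (α := Ω), hcard] at h1
    have h3 : Nat.card ({α} : Set Ω) = 1 := by simp
    rw [h3] at h1
    exact (Nat.modEq_iff_dvd' (Nat.one_le_pow _ _ hp.pos)).mp h1.symm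
  -- a generator of `N`
  obtain ⟨g0, hg0⟩ := hcyc.exists_generator
  have hg0N : (g0 : G) ∈ N := g0.2
  have hg0q : (g0 : G) ^ q = 1 := hNexp _ hg0N
  have hgen : ∀ a ∈ N, ∃ k : ℕ, a = (g0 : G) ^ k := by
    intro a ha
    have h1 : (⟨a, ha⟩ : N) ∈ Submonoid.powers g0 :=
      mem_powers_iff_mem_zpowers.mpr (hg0 ⟨a, ha⟩)
    obtain ⟨k, hk⟩ := (Submonoid.mem_powers_iff _ _).mp h1
    exact ⟨k, by rw [← Subgroup.coe_pow, hk]⟩
  -- `V` has no proper `g0`-invariant subgroups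
  have hirr : ∀ W : Subgroup G, W ≤ V → (∀ w ∈ W, (g0 : G) * w * (g0 : G)⁻¹ ∈ W) →
      W = ⊥ ∨ W = V := by
    intro W hWV hW
    by_cases hWb : W = ⊥
    · exact Or.inl hWb
    right
    obtain ⟨⟨w, hwW⟩, hw1'⟩ := Subgroup.ne_bot_iff_exists_ne_one.mp hWb
    have hw1 : w ≠ 1 := fun h => hw1' (Subtype.ext h)
    have hwV : w ∈ V := hWV hwW
    have hpowW : ∀ (k : ℕ), ∀ u ∈ W, (g0 : G) ^ k * u * ((g0 : G) ^ k)⁻¹ ∈ W := by
      intro k
      induction k with
      | zero => intro u hu; simpa using hu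
      | succ k ih =>
        intro u hu
        have := hW _ (ih u hu)
        have e : (g0 : G) ^ (k + 1) * u * ((g0 : G) ^ (k + 1))⁻¹ =
            (g0 : G) * ((g0 : G) ^ k * u * ((g0 : G) ^ k)⁻¹) * (g0 : G)⁻¹ := by
          rw [pow_succ']; group
        rw [e]; exact this
    have hωw : w • α ≠ α := by
      intro h
      apply hw1
      apply hinj w hwV 1 V.one_mem
      rw [h, one_smul]
    have hstab : ∀ y ∈ stabilizer G α, ∀ t : G, (y * t * y⁻¹) • α = y • (t • α) := by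
      intro y hy t
      have h1 : y⁻¹ • α = α := by
        rw [inv_smul_eq_iff, hHα y hy]
      rw [mul_smul, mul_smul, h1]
    have hHW : ∀ y ∈ stabilizer G α, y * w * y⁻¹ ∈ W := by
      intro y hy
      have h1 : y • (w • α) ∈ orbit (stabilizer G α) (w • α) := ⟨⟨y, hy⟩, rfl⟩
      obtain ⟨a, ha, haω⟩ := hNtr' (w • α) hωw _ h1
      obtain ⟨k, rfl⟩ := hgen a ha
      have h2 : ((g0 : G) ^ k * w * ((g0 : G) ^ k)⁻¹) • α = (y * w * y⁻¹) • α := by
        rw [hstab _ (hNH ha), hstab y hy, haω]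
      have h3 := hinj _ (hVn.conj_mem w hwV _) _ (hVn.conj_mem w hwV _) h2
      rw [← h3]
      exact hpowW k w hwW
    have hncW : Subgroup.normalClosure {w} ≤ W := by
      rw [Subgroup.normalClosure, Subgroup.closure_le]
      intro a ha
      obtain ⟨b, hb, hba⟩ := Group.mem_conjugatesOfSet_iff.mp ha
      rw [Set.mem_singleton_iff] at hb
      subst hb
      obtain ⟨c, hc⟩ := isConj_iff.mp hba
      obtain ⟨y, hy, hyt⟩ := hdecomp c
      rw [← hc, hyt b hwV]
      exact hHW y hy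
    have hncV : Subgroup.normalClosure {w} ≤ V :=
      Subgroup.normalClosure_le_normal (Set.singleton_subset_iff.mpr hwV)
    have hnc1 : Subgroup.normalClosure {w} ≠ ⊥ := by
      intro hbot
      have : w ∈ Subgroup.normalClosure {w} :=
        Subgroup.subset_normalClosure (Set.mem_singleton w)
      rw [hbot, Subgroup.mem_bot] at this
      exact hw1 this
    have hnceq : Subgroup.normalClosure {w} = V :=
      (hVmin _ Subgroup.normalClosure_normal hncV).resolve_left hnc1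
    exact le_antisymm hWV (hnceq ▸ hncW)
  have hg0norm : (g0 : G) ∈ Subgroup.normalizer (V : Set G) := by
    rw [Subgroup.normalizer_eq_top]; trivial
  obtain ⟨hF1, hF2⟩ := conj_field V hVc hVr hV1 hVcard' (g0 : G) hg0norm q hg0q hirr
  -- the point stabilizer acts on `N` by Frobenius powers
  have hfrob : ∀ x ∈ stabilizer G α, ∃ j : ℕ, ∀ a ∈ N, x * a * x⁻¹ = a ^ (p ^ j) := by
    intro x hx
    obtain ⟨s, hs⟩ := hgen _ (hNnorm x hx _ hg0N)
    have hxn : x ∈ Subgroup.normalizer (V : Set G) := by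
      rw [Subgroup.normalizer_eq_top]; trivial
    obtain ⟨j, hj⟩ := hF2 x s hxn hs
    have h1 : ((g0 : G) ^ (p ^ j))⁻¹ * (g0 : G) ^ s = 1 := by
      apply hcent
      · exact (stabilizer G α).mul_mem ((stabilizer G α).inv_mem (hNH (N.pow_mem hg0N _)))
          (hNH (N.pow_mem hg0N _))
      · intro v hv
        have h2 := hj v hv
        have h3 : (g0 : G) ^ s * v = (g0 : G) ^ (p ^ j) * v * ((g0 : G) ^ (p ^ j))⁻¹ * (g0 : G) ^ s := by
          rw [← h2]; group
        calc ((g0 : G) ^ (p ^ j))⁻¹ * (g0 : G) ^ s * v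
            = ((g0 : G) ^ (p ^ j))⁻¹ * ((g0 : G) ^ s * v) := by group
          _ = v * (((g0 : G) ^ (p ^ j))⁻¹ * (g0 : G) ^ s) := by rw [h3]; group
    have h2 : (g0 : G) ^ s = (g0 : G) ^ (p ^ j) := by
      calc (g0 : G) ^ s = (g0 : G) ^ (p ^ j) * (((g0 : G) ^ (p ^ j))⁻¹ * (g0 : G) ^ s) := by group
        _ = (g0 : G) ^ (p ^ j) := by rw [h1, mul_one]
    refine ⟨j, ?_⟩
    intro a ha
    obtain ⟨k, rfl⟩ := hgen a ha
    have h3 : x * (g0 : G) ^ k * x⁻¹ = (x * (g0 : G) * x⁻¹) ^ k := by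
      rw [conj_pow]
    rw [h3, hs, h2, ← pow_mul, ← pow_mul, mul_comm]
  -- `N` is its own centralizer in the point stabilizer
  have hd1 : 1 < p ^ d := Nat.one_lt_pow hd0 hp.one_lt
  have hselfc : ∀ x ∈ stabilizer G α, (∀ a ∈ N, x * a * x⁻¹ = a) → x ∈ N := by
    intro x hx hxc
    have hΩ : ∃ ω₀ : Ω, ω₀ ≠ α := by
      by_contra hcon
      push Not at hcon
      have : Fintype.card Ω ≤ 1 := Fintype.card_le_one_iff.mpr
        (fun a b => by rw [hcon a, hcon b])
      omega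
    obtain ⟨ω₀, hω₀⟩ := hΩ
    have h1 : x • ω₀ ∈ orbit (stabilizer G α) ω₀ := ⟨⟨x, hx⟩, rfl⟩
    obtain ⟨a, ha, haω⟩ := hNtr' ω₀ hω₀ _ h1
    have hz : a⁻¹ * x = 1 := by
      apply hfaith ω₀ hω₀ _ ((stabilizer G α).mul_mem ((stabilizer G α).inv_mem (hNH ha)) hx)
      intro o ho
      obtain ⟨b, hb, rfl⟩ := hNtr' ω₀ hω₀ o ho
      have h2 : x * b = b * x := by
        have := hxc b hb
        calc x * b = x * b * x⁻¹ * x := by group
          _ = b * x := by rw [this]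
      have h3 : a⁻¹ * b = b * a⁻¹ := hNc _ (N.inv_mem ha) _ hb
      calc (a⁻¹ * x) • b • ω₀ = (a⁻¹ * (x * b)) • ω₀ := by rw [← mul_smul]; group
        _ = (a⁻¹ * (b * x)) • ω₀ := by rw [h2]
        _ = (b * a⁻¹) • (x • ω₀) := by rw [← mul_smul, ← mul_assoc, h3, mul_assoc]
        _ = b • ω₀ := by rw [← haω, mul_smul, inv_smul_smul]
    have : x = a := by
      calc x = a * (a⁻¹ * x) := by group
        _ = a := by rw [hz, mul_one]
    rw [this]; exact ha
  -- structure of the point stabilizer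
  have hpd : ∀ a ∈ N, a ^ (p ^ d) = a := by
    intro a ha
    obtain ⟨c, hc⟩ := hC2
    have h1 : p ^ d = q * c + 1 := by omega
    rw [h1, pow_succ, pow_mul, hNexp a ha, one_pow, one_mul]
  haveI := hN₀n
  have hcardN₀ : Nat.card N₀ = q := by
    rw [← hNcard]
    exact (Nat.card_congr
      (N₀.equivMapOfInjective _ (stabilizer G α).subtype_injective).toEquiv)
  obtain ⟨⟨x₀, hx₀⟩, hdvd⟩ := cyclic_quotient (K := stabilizer G α) (p := p) (q := q) (d := d)
    N₀ hN₀c hd0 hcardN₀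
    (fun y hy => Subtype.ext (by
      have := hpd _ ((hmemN _).mpr ⟨y, hy, rfl⟩)
      simpa using this))
    (fun x => by
      obtain ⟨j, hj⟩ := hfrob x x.2
      refine ⟨j, fun y hy => Subtype.ext ?_⟩
      have := hj _ ((hmemN _).mpr ⟨y, hy, rfl⟩)
      simpa using this)
    (fun x hx => by
      have h1 : (x : G) ∈ N := by
        apply hselfc x x.2
        intro a ha
        obtain ⟨n, hn, rfl⟩ := (hmemN a).mp ha
        have := hx n hn
        exact congrArg (fun t : stabilizer G α => (t : G)) this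
      obtain ⟨n, hn, hnx⟩ := (hmemN _).mp h1
      have : n = x := Subtype.ext hnx
      rw [← this]; exact hn)
  refine ⟨q, hq, hC1, hC2, ?_, N, hNH, ?_, hNcard, ⟨(x₀ : G), ?_⟩, hdvd⟩
  · intro i hi hid hdiv
    exact absurd (hF1 i hi hdiv) (not_le.mpr hid)
  · intro x hx
    rw [Subgroup.mem_normalizer_iff]
    intro a
    constructor
    · exact hNnorm x hx a
    · intro h
      have := hNnorm x⁻¹ ((stabilizer G α).inv_mem hx) _ h
      simpa [mul_assoc] using this
  · have h1 := congrArg (Subgroup.map (stabilizer G α).subtype) hx₀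
    rw [Subgroup.map_sup, MonoidHom.map_zpowers, ← MonoidHom.range_eq_map,
      Subgroup.range_subtype] at h1
    exact h1


end Cfsg.Agent.S3496
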