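import Cfsg.Statements.S3497
import Cfsg.Agent.Lib.Helper63.ExtremelyPrimitive
import Cfsg.Agent.Lib.Helper63.ExtPrimStab

set_option autoImplicit false
open Cfsg

namespace Cfsg.Agent.S3497

open MulAction Subgroup

/-- Restrictions on the point stabilizer of an extremely primitive group. Let a finite group G act faithfully and primitively on a finite set Ω with point stabilizers H = G_α whose order is neither 1 nor a prime, each acting primitively on every one of its orbits. Then H has trivial center, the Fitting subgroup F(H) is an elementary abelian p-group for some prime p, and if F(H) ≠ 1 has order p ^ e then p ^ e divides the number of points minus one and H / F(H) embeds in GL_e(p) (there is a homomorphism from H to GL_e(p) with kernel exactly F(H)). -/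
theorem result {G : Type*} [Group G] [Finite G] {Ω : Type*} [Fintype Ω] [MulAction G Ω] [FaithfulSMul G Ω] (hprim : MulAction.IsPreprimitive G Ω) (hep : ∀ (α : Ω) (ω : Ω), MulAction.IsPreprimitive (MulAction.stabilizer G α) (MulAction.orbit (MulAction.stabilizer G α) ω)) (α : Ω)
    (hH1 : MulAction.stabilizer G α ≠ ⊥) (hHp : ¬ (Nat.card (MulAction.stabilizer G α)).Prime) :
    Subgroup.center (MulAction.stabilizer G α) = ⊥ ∧
    IsMulCommutative (Cfsg.fittingSubgroup (MulAction.stabilizer G α)) ∧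
    ∃ p e : ℕ, p.Prime ∧ Nat.card (Cfsg.fittingSubgroup (MulAction.stabilizer G α)) = p ^ e ∧
      (∀ x ∈ Cfsg.fittingSubgroup (MulAction.stabilizer G α), x ^ p = 1) ∧
      (Cfsg.fittingSubgroup (MulAction.stabilizer G α) ≠ ⊥ →
        p ^ e ∣ Fintype.card Ω - 1 ∧
        ∃ φ : MulAction.stabilizer G α →* GL (Fin e) (ZMod p), φ.ker = Cfsg.fittingSubgroup (MulAction.stabilizer G α)) := by
  classical
  have hpt := hprim.toIsPretransitive
  -- all stabilizers are nontrivial
  have hH : ∀ β : Ω, stabilizer G β ≠ ⊥ := by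
    intro β
    obtain ⟨g, rfl⟩ := exists_smul_eq G α β
    rw [stabilizer_smul_eq_stabilizer_map_conj]
    intro h
    apply hH1
    exact (Subgroup.map_eq_bot_iff_of_injective _ (MulAut.conj g).injective).mp h
  -- a second point
  obtain ⟨β, hβ⟩ : ∃ β : Ω, β ≠ α := by
    obtain ⟨h, hh1⟩ := Subgroup.ne_bot_iff_exists_ne_one.mp hH1
    by_contra hall
    push Not at hall
    apply hh1
    apply Subtype.ext
    apply FaithfulSMul.eq_of_smul_eq_smul (α := Ω)
    intro x
    rw [hall x, Subgroup.coe_one, one_smul]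
    exact h.2
  -- the abstract hypotheses
  have hmoves : ∀ B : Subgroup (stabilizer G α), B.Normal → B ≠ ⊥ → ∀ γ, γ ≠ α → ∃ b ∈ B, b • γ ≠ γ := by
    intro B hBn hB γ hγ
    have hKle : B.map (stabilizer G α).subtype ≤ stabilizer G α := Subgroup.map_subtype_le B
    have hKn : stabilizer G α ≤ normalizer ((B.map (stabilizer G α).subtype : Subgroup G) : Set G) := by
      have key : ∀ s ∈ stabilizer G α, ∀ k ∈ B.map (stabilizer G α).subtype,
          s * k * s⁻¹ ∈ B.map (stabilizer G α).subtype := by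
        rintro s hs _ ⟨b, hb, rfl⟩
        exact ⟨⟨s, hs⟩ * b * ⟨s, hs⟩⁻¹, hBn.conj_mem b hb ⟨s, hs⟩, rfl⟩
      intro s hs
      rw [mem_normalizer_iff]
      intro k
      constructor
      · exact key s hs k
      · intro hk
        have := key s⁻¹ (inv_mem hs) _ hk
        simpa [mul_assoc] using this
    have hK : B.map (stabilizer G α).subtype ≠ ⊥ := by
      intro h
      exact hB ((Subgroup.map_eq_bot_iff_of_injective B (stabilizer G α).subtype_injective).mp h)
    obtain ⟨k, ⟨b, hb, rfl⟩, hkγ⟩ :=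
      Cfsg.Agent.Lib.Helper63.normal_subgroup_moves hprim hH hep α _ hKle hKn hK γ hγ
    exact ⟨b, hb, hkγ⟩
  have hyp : Cfsg.Agent.Lib.Helper63.ExtStabHyp (H := stabilizer G α) α := by
    refine ⟨hmoves, ?_⟩
    intro γ hγ
    have hntH : (⊤ : Subgroup (stabilizer G α)) ≠ ⊥ := by
      intro h
      obtain ⟨x, hx⟩ := Subgroup.ne_bot_iff_exists_ne_one.mp hH1
      have : x ∈ (⊤ : Subgroup (stabilizer G α)) := trivial
      rw [h, Subgroup.mem_bot] at this
      exact hx this
    obtain ⟨b, _, hbγ⟩ := hmoves ⊤ inferInstance hntH γ hγ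
    have hnt : Nontrivial (orbit (stabilizer G α) γ) :=
      ⟨⟨⟨b • γ, mem_orbit γ b⟩, ⟨γ, mem_orbit_self γ⟩, fun h => hbγ (congrArg Subtype.val h)⟩⟩
    have hco := (isCoatom_stabilizer_iff_preprimitive (G := stabilizer G α)
      (X := orbit (stabilizer G α) γ) ⟨γ, mem_orbit_self γ⟩).mpr (hep α γ)
    have heq : stabilizer (stabilizer G α) (⟨γ, mem_orbit_self γ⟩ : orbit (stabilizer G α) γ) =
        stabilizer (stabilizer G α) γ := by
      ext s
      simp only [mem_stabilizer_iff, Subtype.ext_iff, MulAction.orbit.coe_smul]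
    rw [heq] at hco
    exact hco
  have hfixα : ∀ h : stabilizer G α, h • α = α := fun h => h.2
  refine ⟨hyp.center_eq_bot β hβ hHp, ?_⟩
  obtain ⟨F, hFdef⟩ : ∃ F, F = Cfsg.fittingSubgroup (stabilizer G α) := ⟨_, rfl⟩
  rw [← hFdef]
  rcases hyp.fitting β hβ with hF | ⟨hFn, hFnil, hFne⟩
  · rw [← hFdef] at hF
    subst hF
    refine ⟨⟨⟨fun a b => Subsingleton.elim _ _⟩⟩, 2, 0, Nat.prime_two, by simp, ?_, fun h => absurd rfl h⟩
    intro x hx
    rw [Subgroup.mem_bot] at hx
    rw [hx, one_pow]
  · rw [← hFdef] at hFn hFnil hFne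
    have hcomm := hyp.nilpotent_normal_comm β hβ F hFne hFnil
    obtain ⟨p, e, hp, hcard, hexp⟩ := hyp.elementary β hβ F hFne hFnil
    refine ⟨⟨⟨fun a b => Subtype.ext (hcomm a a.2 b b.2)⟩⟩, p, e, hp, hcard, hexp, fun _ => ⟨?_, ?_⟩⟩
    · rw [← hcard]
      apply Cfsg.Agent.Lib.Helper63.free_card_dvd α F (fun b _ => hfixα b)
      intro γ hγ
      exact (hyp.abelian_normal F hFne hcomm γ hγ).1
    · exact Cfsg.Agent.Lib.Helper63.exists_GL_hom F p e hp hcomm hexp hcard
        (hyp.abelian_normal F hFne hcomm β hβ).2.2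

end Cfsg.Agent.S3497
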