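import Cfsg.Statements.S3498
import Mathlib

set_option autoImplicit false
open Cfsg

namespace Cfsg.Agent.S3498

open Subgroup MulAction
open scoped Pointwise

theorem comm_of_pgroup_simple {G : Type*} [Group G] [Finite G] [IsSimpleGroup G] (p : ℕ)
    [Fact p.Prime] (hG : IsPGroup p G) : ∀ a b : G, a * b = b * a := by
  have hnt : Nontrivial (Subgroup.center G) := hG.center_nontrivial
  have hc : Subgroup.center G = ⊤ := by
    rcases (Subgroup.center G).normal_of_characteristic.eq_bot_or_eq_top with h | h
    · exfalso
      rw [Subgroup.nontrivial_iff_ne_bot] at hnt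
      exact hnt h
    · exact h
  intro a b
  have : b ∈ Subgroup.center G := by rw [hc]; trivial
  exact (Subgroup.mem_center_iff.mp this a)

theorem caseA {G : Type*} [Group G] [Finite G] [IsSimpleGroup G] (hnc : ¬ ∀ a b : G, a * b = b * a)
    (H : Subgroup G) (hmax : IsCoatom H) (p : ℕ) (hp : p.Prime) (hH : Nat.card H = p) : False := by
  have : Fact p.Prime := ⟨hp⟩
  have hHp : IsPGroup p H := IsPGroup.of_card (n := 1) (by simpa using hH)
  obtain ⟨P, hP⟩ := hHp.exists_le_sylow
  have hPtop : (P : Subgroup G) ≠ ⊤ := by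
    intro h
    apply hnc
    apply comm_of_pgroup_simple p
    have := P.2
    rw [h] at this
    exact (IsPGroup.of_equiv this Subgroup.topEquiv : IsPGroup p G)
  have hPH : (P : Subgroup G) = H := by
    by_contra hne
    exact hPtop (hmax.2 _ (lt_of_le_of_ne hP (Ne.symm hne)))
  have hcomm : ∀ a ∈ (P : Subgroup G), ∀ b ∈ (P : Subgroup G), a * b = b * a := by
    rw [hPH]
    intro a ha b hb
    have : IsCyclic H := isCyclic_of_prime_card hH
    have h := isMulCommutative_iff.mp (inferInstance : IsMulCommutative H) ⟨a, ha⟩ ⟨b, hb⟩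
    exact congrArg Subtype.val h
  have hN : normalizer ((P : Subgroup G) : Set G) = P := by
    have hle : (P : Subgroup G) ≤ normalizer ((P : Subgroup G) : Set G) := le_normalizer
    by_contra hne
    have htop : normalizer ((P : Subgroup G) : Set G) = ⊤ := by
      rw [hPH] at hle hne ⊢
      exact hmax.2 _ (lt_of_le_of_ne hle (Ne.symm hne))
    have hn : (P : Subgroup G).Normal := normalizer_eq_top_iff.mp htop
    rcases hn.eq_bot_or_eq_top with h | h
    · rw [hPH] at h
      rw [h, Subgroup.card_bot] at hH
      exact hp.one_lt.ne hH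
    · exact hPtop h
  have hNC : normalizer ((P : Subgroup G) : Set G) ≤ centralizer (P : Set G) := by
    rw [hN]
    intro a ha
    rw [mem_centralizer_iff]
    intro b hb
    exact hcomm b hb a ha
  have hcompl := MonoidHom.ker_transferSylow_isComplement' P hNC
  have hcard := hcompl.card_mul_card
  rcases (MonoidHom.normal_ker (MonoidHom.transferSylow P hNC)).eq_bot_or_eq_top with h | h
  · rw [h, Subgroup.card_bot, one_mul] at hcard
    exact hPtop ((Subgroup.card_eq_iff_eq_top _).mp hcard)
  · rw [h, Subgroup.card_top] at hcard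
    have hpos : 0 < Nat.card G := Nat.card_pos
    have : Nat.card (P : Subgroup G) = 1 := by
      have := Nat.eq_of_mul_eq_mul_left hpos (hcard.trans (mul_one _).symm)
      exact this
    rw [hPH, hH] at this
    exact hp.one_lt.ne' this

theorem lemmaB {T A : Type*} [Group T] [Finite T] [Group A] [Finite A] (p : ℕ) [Fact p.Prime]
    (hA : IsPGroup p A) (φ : A →* MulAut T)
    (h1 : ∀ K : Subgroup T, (∀ a : A, ∀ x ∈ K, φ a x ∈ K) → K = ⊥ ∨ K = ⊤)
    (h2 : ∀ t : T, (∀ a : A, φ a t = t) → t = 1) :
    ∃ q : ℕ, q.Prime ∧ IsPGroup q T := by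
  by_cases hT : Nat.card T = 1
  · refine ⟨2, Nat.prime_two, ?_⟩
    have : Subsingleton T := (Nat.card_eq_one_iff_unique.mp hT).1
    intro g
    exact ⟨0, Subsingleton.elim _ _⟩
  obtain ⟨q, hq, hqd⟩ := Nat.exists_prime_and_dvd hT
  have : Fact q.Prime := ⟨hq⟩
  refine ⟨q, hq, ?_⟩
  -- the action of A on T
  let _ : MulDistribMulAction A T := MulDistribMulAction.compHom T φ
  have hsmul : ∀ (a : A) (t : T), a • t = φ a t := fun a t => rfl
  have hfix : fixedPoints A T = {1} := by
    ext t
    simp only [mem_fixedPoints, Set.mem_singleton_iff, hsmul]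
    constructor
    · exact h2 t
    · rintro rfl a
      exact map_one _
  have hp_ndvd : ¬ p ∣ Nat.card T := by
    intro hd
    have hmod := hA.card_modEq_card_fixedPoints T
    rw [hfix] at hmod
    have h1' : Nat.card ({1} : Set T) = 1 := by simp
    rw [h1'] at hmod
    have h0 : Nat.card T ≡ 0 [MOD p] := (Nat.modEq_zero_iff_dvd).mpr hd
    have : 1 ≡ 0 [MOD p] := hmod.symm.trans h0
    have := (Nat.modEq_zero_iff_dvd).mp this
    exact (Fact.out : p.Prime).one_lt.ne' (Nat.dvd_one.mp this)
  -- the action on Sylow subgroups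
  obtain ⟨P0⟩ : Nonempty (Sylow q T) := inferInstance
  have hsyl : ¬ p ∣ Nat.card (Sylow q T) := by
    intro hd
    exact hp_ndvd (hd.trans ((Sylow.card_dvd_index P0).trans (Subgroup.index_dvd_card _)))
  obtain ⟨Q, hQ⟩ := hA.nonempty_fixed_point_of_prime_not_dvd_card (Sylow q T) hsyl
  rw [mem_fixedPoints] at hQ
  have hinv : ∀ a : A, ∀ x ∈ (Q : Subgroup T), φ a x ∈ (Q : Subgroup T) := by
    intro a x hx
    have h3 : a • x ∈ a • (Q : Subgroup T) := Subgroup.smul_mem_pointwise_smul x a _ hx
    rw [← Sylow.pointwise_smul_def, hQ a] at h3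
    exact h3
  rcases h1 _ hinv with h | h
  · exact absurd h (Q.ne_bot_of_dvd_card hqd)
  · have := Q.2
    rw [h] at this
    exact IsPGroup.of_equiv this Subgroup.topEquiv

/-- A maximal subgroup of a finite almost simple group does not have prime order. Here G is almost simple in the sense that it has a non-abelian simple normal subgroup T with trivial centralizer. -/
theorem result {G : Type*} [Group G] [Finite G] (T : Subgroup G) [T.Normal] (hT : IsSimpleGroup T) (hTc : ¬ IsMulCommutative T)
    (hC : Subgroup.centralizer (T : Set G) = ⊥) (H : Subgroup G) (hmax : IsCoatom H) : ¬ (Nat.card H).Prime := by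
  intro hp
  have hpf : Fact (Nat.card H).Prime := ⟨hp⟩
  -- Step 1
  have hTH : ¬ T ≤ H := by
    intro hle
    have hd : Nat.card T ∣ Nat.card H := Subgroup.card_dvd_of_le hle
    rcases (Nat.dvd_prime hp).mp hd with h | h
    · have := hT.toNontrivial
      have := Finite.one_lt_card (α := T)
      omega
    · apply hTc
      have : IsCyclic T := isCyclic_of_prime_card h
      infer_instance
  -- Step 2
  have hsup : H ⊔ T = ⊤ :=
    hmax.2 _ (lt_of_le_of_ne le_sup_left (fun h => hTH (h ▸ le_sup_right)))
  -- Step 3
  have hinf : H ⊓ T = ⊥ ∨ H ≤ T := by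
    have hd : Nat.card ↥(H ⊓ T) ∣ Nat.card H := Subgroup.card_dvd_of_le inf_le_left
    rcases (Nat.dvd_prime hp).mp hd with h | h
    · left; exact Subgroup.card_eq_one.mp h
    · right
      have : H ⊓ T = H := Subgroup.eq_of_le_of_card_ge inf_le_left (by rw [h])
      exact this ▸ inf_le_right
  rcases hinf with hbot | hle
  · -- case B
    have B1 : ∀ K : Subgroup G, K ≤ T → H ≤ normalizer (K : Set G) → K = ⊥ ∨ K = T := by
      intro K hKT hHK
      by_cases hKH : K ≤ H
      · left
        exact le_bot_iff.mp (hbot ▸ le_inf hKH hKT)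
      · right
        have htop : H ⊔ K = ⊤ :=
          hmax.2 _ (lt_of_le_of_ne le_sup_left (fun h => hKH (h ▸ le_sup_right)))
        apply le_antisymm hKT
        intro t ht
        have hmem : t ∈ ((H ⊔ K : Subgroup G) : Set G) := by rw [htop]; trivial
        rw [Subgroup.coe_mul_of_left_le_normalizer_right H K hHK] at hmem
        obtain ⟨h, hh, k, hk, rfl⟩ := hmem
        have hhT : h ∈ T := by
          have := T.mul_mem ht (T.inv_mem (hKT hk))
          simpa using this
        have h1 : h ∈ H ⊓ T := ⟨hh, hhT⟩
        rw [hbot, Subgroup.mem_bot] at h1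
        subst h1
        simpa using hk
    let φ : H →* MulAut T := (MulAut.conjNormal (H := T)).comp H.subtype
    have hφ : ∀ (h : H) (t : T), ((φ h t : T) : G) = (h : G) * t * (h : G)⁻¹ := by
      intro h t
      simp [φ, MulAut.conjNormal_apply]
    have hHp : IsPGroup (Nat.card H) H := IsPGroup.of_card (n := 1) (by simp)
    have h1 : ∀ K : Subgroup T, (∀ a : H, ∀ x ∈ K, φ a x ∈ K) → K = ⊥ ∨ K = ⊤ := by
      intro K hK
      have hnorm : H ≤ normalizer ((K.map T.subtype : Subgroup G) : Set G) := by
        have key : ∀ h ∈ H, ∀ x ∈ K.map T.subtype, h * x * h⁻¹ ∈ K.map T.subtype := by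
          rintro h hh _ ⟨y, hy, rfl⟩
          exact ⟨φ ⟨h, hh⟩ y, hK ⟨h, hh⟩ y hy, hφ ⟨h, hh⟩ y⟩
        intro h hh
        rw [Subgroup.mem_normalizer_iff]
        intro x
        constructor
        · exact key h hh x
        · intro hx
          have := key h⁻¹ (H.inv_mem hh) _ hx
          simpa [mul_assoc] using this
      rcases B1 _ (Subgroup.map_subtype_le K) hnorm with h | h
      · left
        exact (Subgroup.map_eq_bot_iff_of_injective K T.subtype_injective).mp h
      · right
        apply Subgroup.map_injective T.subtype_injective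
        rw [h, ← MonoidHom.range_eq_map, Subgroup.range_subtype]
    have h2 : ∀ t : T, (∀ a : H, φ a t = t) → t = 1 := by
      intro t ht
      let K : Subgroup G := T ⊓ centralizer (H : Set G)
      have hKT : K ≤ T := inf_le_left
      have hcomm : ∀ h ∈ H, ∀ x ∈ K, h * x * h⁻¹ = x := by
        intro h hh x hx
        have := (Subgroup.mem_centralizer_iff.mp hx.2) h hh
        rw [this, mul_inv_cancel_right]
      have hnorm : H ≤ normalizer (K : Set G) := by
        intro h hh
        rw [Subgroup.mem_normalizer_iff]
        intro x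
        constructor
        · intro hx
          rw [hcomm h hh x hx]; exact hx
        · intro hx
          have := hcomm h⁻¹ (H.inv_mem hh) _ hx
          have h3 : h⁻¹ * (h * x * h⁻¹) * h⁻¹⁻¹ = x := by group
          rw [h3] at this
          rw [this]; exact hx
      have htK : (t : G) ∈ K := by
        refine ⟨t.2, ?_⟩
        show (t : G) ∈ centralizer (H : Set G)
        rw [Subgroup.mem_centralizer_iff]
        intro h hh
        have := congrArg Subtype.val (ht ⟨h, hh⟩)
        rw [hφ] at this
        have h5 : (h : G) * t * h⁻¹ = t := this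
        have h4 : (h : G) * t * h⁻¹ * h = t * h := by rw [h5]
        simpa using h4
      rcases B1 K hKT hnorm with h | h
      · rw [h, Subgroup.mem_bot] at htK
        exact Subtype.ext htK
      · exfalso
        have hTle : T ≤ centralizer (H : Set G) := h ▸ inf_le_right
        have hHle : H ≤ centralizer (T : Set G) := Subgroup.le_centralizer_iff.mp hTle
        rw [hC] at hHle
        have := le_bot_iff.mp hHle
        rw [this, Subgroup.card_bot] at hp
        exact Nat.not_prime_one hp
    obtain ⟨q, hq, hqT⟩ := lemmaB (Nat.card H) hHp φ h1 h2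
    have : Fact q.Prime := ⟨hq⟩
    exact hTc (isMulCommutative_iff.mpr (comm_of_pgroup_simple q hqT))
  · -- case A
    have hTtop : T = ⊤ := by
      rw [← hsup]
      exact (sup_eq_right.mpr hle).symm
    subst hTtop
    have hsimple : IsSimpleGroup G := (Subgroup.topEquiv.isSimpleGroup_congr).mp hT
    apply caseA _ H hmax (Nat.card H) hp rfl
    intro hcomm
    apply hTc
    rw [isMulCommutative_iff]
    intro a b
    exact Subtype.ext (hcomm a b)

end Cfsg.Agent.S3498
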