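import Cfsg.Statements.S3501
import Cfsg.Agent.Lib.Helper63.Derangement3

set_option autoImplicit false
open Cfsg

namespace Cfsg.Agent.S3501

open Cfsg.Agent.Lib.Helper63 in
/-- reformulation of the class-counting condition -/
theorem card_eq_one_iff {G : Type*} [Group G] {Ω : Type*} [MulAction G Ω] :
    Nat.card {c : ConjClasses G // ∃ g : G, ConjClasses.mk g = c ∧ ∀ ω : Ω, g • ω ≠ ω} = 1 ↔
      (∃ g : G, IsDer (Ω := Ω) g) ∧
        ∀ g h : G, IsDer (Ω := Ω) g → IsDer (Ω := Ω) h → ∃ x : G, x * g * x⁻¹ = h := by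
  rw [Nat.card_eq_one_iff_unique]
  constructor
  · rintro ⟨hsub, ⟨c, g, hg, hder⟩⟩
    refine ⟨⟨g, hder⟩, ?_⟩
    intro g h hg hh
    have := hsub.elim ⟨ConjClasses.mk g, g, rfl, hg⟩ ⟨ConjClasses.mk h, h, rfl, hh⟩
    have h' : ConjClasses.mk g = ConjClasses.mk h := congrArg Subtype.val this
    rw [ConjClasses.mk_eq_mk_iff_isConj, isConj_iff] at h'
    exact h'
  · rintro ⟨⟨g, hg⟩, hD⟩
    refine ⟨⟨?_⟩, ⟨ConjClasses.mk g, g, rfl, hg⟩⟩
    rintro ⟨c, g1, rfl, h1⟩ ⟨c', g2, rfl, h2⟩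
    apply Subtype.ext
    change ConjClasses.mk g1 = ConjClasses.mk g2
    rw [ConjClasses.mk_eq_mk_iff_isConj, isConj_iff]
    exact hD g1 g2 h1 h2

/-- Let a finite group G act faithfully and primitively on a finite set Ω with at least two points, and suppose G is not almost simple (it has no non-abelian simple normal subgroup with trivial centralizer). Then the derangements of G form a single conjugacy class if and only if G is sharply 2-transitive (2-transitive, and no non-identity element fixes two points). -/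
theorem result {G : Type*} [Group G] [Finite G] {Ω : Type*} [Fintype Ω] [MulAction G Ω] [FaithfulSMul G Ω] (hΩ : 2 ≤ Fintype.card Ω) (hprim : MulAction.IsPreprimitive G Ω) (hnas : ¬ ∃ T : Subgroup G, T.Normal ∧ IsSimpleGroup T ∧ ¬ IsMulCommutative T ∧ Subgroup.centralizer (T : Set G) = ⊥) :
    Nat.card {c : ConjClasses G // ∃ g : G, ConjClasses.mk g = c ∧ ∀ ω : Ω, g • ω ≠ ω} = 1 ↔ (MulAction.IsMultiplyPretransitive G Ω 2 ∧ ∀ g : G, g ≠ 1 → ∀ a b : Ω, a ≠ b → g • a = a → g • b ≠ b) := by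
  classical
  have hnt : Nontrivial Ω := by
    rw [← Fintype.one_lt_card_iff_nontrivial]; omega
  obtain ⟨α⟩ : Nonempty Ω := inferInstance
  rw [card_eq_one_iff]
  constructor
  · rintro ⟨⟨d0, hd0⟩, hD⟩
    -- a minimal normal subgroup
    have htop : (⊤ : Subgroup G) ≠ ⊥ := by
      intro h
      apply Cfsg.Agent.Lib.Helper63.IsDer.ne_one hd0
      have : d0 ∈ (⊤ : Subgroup G) := Subgroup.mem_top _
      rw [h, Subgroup.mem_bot] at this
      exact this
    obtain ⟨N, -, hNmin⟩ := Cfsg.Agent.Lib.Helper63.exists_isMinNNormal_le (⊤ : Subgroup G) ⊤ le_rfl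
      (fun n _ t _ => Subgroup.mem_top _) htop
    have hNn : N.Normal := ⟨fun t ht g => hNmin.nn g (Subgroup.mem_top _) t ht⟩
    have hN : N ≠ ⊥ := hNmin.ne_bot
    have hmin : ∀ M : Subgroup G, M.Normal → M ≤ N → M = ⊥ ∨ M = N := by
      intro M hM hMN
      by_cases hb : M = ⊥
      · exact Or.inl hb
      · exact Or.inr (hNmin.min M hMN (fun n _ t ht => hM.conj_mem t ht n) hb)
    have hNtr := Cfsg.Agent.Lib.Helper63.pretransitive_of_normal_ne_bot hprim N hN
    have htr : ∀ x y : Ω, ∃ n ∈ N, n • x = y := by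
      intro x y
      obtain ⟨n, hn⟩ := hNtr.exists_smul_eq x y
      exact ⟨n.1, n.2, hn⟩
    obtain ⟨d1, hd1N, hd1⟩ := Cfsg.Agent.Lib.Helper63.exists_isDer_of_transitive N htr hnt
    have hDN : ∀ g : G, Cfsg.Agent.Lib.Helper63.IsDer (Ω := Ω) g → g ∈ N := by
      intro g hg
      obtain ⟨x, hx⟩ := hD d1 g hd1 hg
      rw [← hx]
      exact hNn.conj_mem d1 hd1N x
    by_cases hab : ∀ x ∈ N, ∀ y ∈ N, x * y = y * x
    · exact Cfsg.Agent.Lib.Helper63.sharp_of_abelian_normal hD N htr hab hDN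
    · exact (Cfsg.Agent.Lib.Helper63.false_of_nonabelian_min_normal hprim hnas hD N hN hmin htr
        hab α).elim
  · rintro ⟨h2, hsharp⟩
    have hGtr : MulAction.IsPretransitive G Ω := MulAction.isPretransitive_of_is_two_pretransitive
    have htr : ∀ x y : Ω, ∃ g ∈ (⊤ : Subgroup G), g • x = y := by
      intro x y
      obtain ⟨g, hg⟩ := hGtr.exists_smul_eq x y
      exact ⟨g, Subgroup.mem_top _, hg⟩
    obtain ⟨d0, -, hd0⟩ := Cfsg.Agent.Lib.Helper63.exists_isDer_of_transitive ⊤ htr hnt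
    refine ⟨⟨d0, hd0⟩, ?_⟩
    intro d d' hd hd'
    have hβ : α ≠ d • α := (hd α).symm
    have hβ' : α ≠ d' • α := (hd' α).symm
    obtain ⟨h, hhα, hhβ⟩ := Cfsg.Agent.Lib.Helper63.exists_smul_pair h2 hβ hβ'
    refine ⟨h, ?_⟩
    have hconj := hd.conj h
    have hhα' : h⁻¹ • α = α := by rw [inv_smul_eq_iff, hhα]
    have heq : (h * d * h⁻¹) • α = d' • α := by
      rw [mul_smul, mul_smul, hhα', hhβ]
    exact (Cfsg.Agent.Lib.Helper63.isDer_unique_of_sharp h2 hsharp hconj hd' α heq).symm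

end Cfsg.Agent.S3501
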