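import Cfsg.Statements.S3504

set_option autoImplicit false
open Cfsg

namespace Cfsg.Agent.S3504

open Equiv.Perm

theorem lcm_replicate_eq {k p : ℕ} (hk : 0 < k) : (Multiset.replicate k p).lcm = p := by
  apply Nat.dvd_antisymm
  · apply Multiset.lcm_dvd.mpr
    intro a ha
    rw [Multiset.eq_of_mem_replicate ha]
  · apply Multiset.dvd_lcm
    rw [Multiset.mem_replicate]
    exact ⟨hk.ne', rfl⟩

theorem nofix_of_sum {n : ℕ} (g : Equiv.Perm (Fin n)) (h : g.cycleType.sum = n) :
    ∀ i : Fin n, g i ≠ i := by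
  intro i
  rw [sum_cycleType] at h
  have : g.support = Finset.univ := by
    apply Finset.eq_univ_of_card
    rw [h, Fintype.card_fin]
  rw [← Equiv.Perm.mem_support, this]
  exact Finset.mem_univ i

theorem sum_of_nofix {n : ℕ} (g : Equiv.Perm (Fin n)) (h : ∀ i : Fin n, g i ≠ i) :
    g.cycleType.sum = n := by
  rw [sum_cycleType]
  have : g.support = Finset.univ := by
    ext i
    simp [Equiv.Perm.mem_support, h i]
  rw [this, Finset.card_univ, Fintype.card_fin]

/-- For n ≥ 5, the fixed-point-free permutations of prime order in the symmetric group of degree n form a single conjugacy class if and only if n is a prime power. -/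
theorem result (n : ℕ) (hn : 5 ≤ n) :
    Nat.card {c : ConjClasses (Equiv.Perm (Fin n)) // ∃ g : Equiv.Perm (Fin n), ConjClasses.mk g = c ∧ (orderOf g).Prime ∧ ∀ i : Fin n, g i ≠ i} = 1 ↔ IsPrimePow n := by
  classical
  have key : ∀ p ∈ n.primeFactors, ∃ g : Equiv.Perm (Fin n),
      g.cycleType = Multiset.replicate (n / p) p := by
    intro p hp
    have hpp := Nat.prime_of_mem_primeFactors hp
    have hpn := Nat.dvd_of_mem_primeFactors hp
    rw [Equiv.Perm.exists_with_cycleType_iff]
    constructor
    · rw [Multiset.sum_replicate, smul_eq_mul, Nat.div_mul_cancel hpn, Fintype.card_fin]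
    · intro a ha
      rw [Multiset.eq_of_mem_replicate ha]
      exact hpp.two_le
  choose! g hg using key
  have hdivpos : ∀ p ∈ n.primeFactors, 0 < n / p := by
    intro p hp
    have hpp := Nat.prime_of_mem_primeFactors hp
    have hpn := Nat.dvd_of_mem_primeFactors hp
    exact Nat.div_pos (Nat.le_of_dvd (by omega) hpn) hpp.pos
  have hord : ∀ p ∈ n.primeFactors, orderOf (g p) = p := by
    intro p hp
    rw [← lcm_cycleType, hg p hp, lcm_replicate_eq (hdivpos p hp)]
  have hnofix : ∀ p ∈ n.primeFactors, ∀ i : Fin n, g p i ≠ i := by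
    intro p hp
    apply nofix_of_sum
    rw [hg p hp, Multiset.sum_replicate, smul_eq_mul,
      Nat.div_mul_cancel (Nat.dvd_of_mem_primeFactors hp)]
  let f : {p // p ∈ n.primeFactors} →
      {c : ConjClasses (Equiv.Perm (Fin n)) // ∃ g : Equiv.Perm (Fin n),
        ConjClasses.mk g = c ∧ (orderOf g).Prime ∧ ∀ i : Fin n, g i ≠ i} :=
    fun p => ⟨ConjClasses.mk (g p), g p, rfl, by
      rw [hord p p.2]; exact Nat.prime_of_mem_primeFactors p.2, hnofix p p.2⟩
  have hinj : Function.Injective f := by
    intro p q hpq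
    have h1 : ConjClasses.mk (g p) = ConjClasses.mk (g q) := congrArg Subtype.val hpq
    rw [ConjClasses.mk_eq_mk_iff_isConj, isConj_iff_cycleType_eq] at h1
    have h2 : orderOf (g p) = orderOf (g q) := by
      rw [← lcm_cycleType, ← lcm_cycleType, h1]
    rw [hord p p.2, hord q q.2] at h2
    exact Subtype.ext h2
  have hsurj : Function.Surjective f := by
    rintro ⟨c, h, rfl, hprime, hfix⟩
    obtain ⟨k, hk⟩ := cycleType_prime_order hprime
    have hsum := sum_of_nofix h hfix
    rw [hk, Multiset.sum_replicate, smul_eq_mul] at hsum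
    have hpn : orderOf h ∣ n := ⟨k + 1, by rw [mul_comm]; exact hsum.symm⟩
    have hmem : orderOf h ∈ n.primeFactors := by
      rw [Nat.mem_primeFactors]
      exact ⟨hprime, hpn, by omega⟩
    refine ⟨⟨orderOf h, hmem⟩, ?_⟩
    apply Subtype.ext
    show ConjClasses.mk (g (orderOf h)) = ConjClasses.mk h
    rw [ConjClasses.mk_eq_mk_iff_isConj, isConj_iff_cycleType_eq, hg _ hmem, hk]
    congr 1
    exact Nat.div_eq_of_eq_mul_left hprime.pos hsum.symm
  have hcard : Nat.card {c : ConjClasses (Equiv.Perm (Fin n)) // ∃ g : Equiv.Perm (Fin n),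
      ConjClasses.mk g = c ∧ (orderOf g).Prime ∧ ∀ i : Fin n, g i ≠ i} = n.primeFactors.card := by
    rw [← Nat.card_eq_finsetCard]
    exact (Nat.card_congr (Equiv.ofBijective f ⟨hinj, hsurj⟩)).symm
  rw [hcard, isPrimePow_iff_card_primeFactors_eq_one]

end Cfsg.Agent.S3504
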