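import Cfsg.Statements.S3508
import Cfsg.Agent.Lib.Helper64.AffineIter

set_option autoImplicit false
open Cfsg

namespace Cfsg.Agent.S3508

open Cfsg.Agent.Lib.Helper64
open scoped IsMulCommutative

theorem arith (p m : ℕ) (hp : p.Prime) (hm : 1 ≤ m) (h : p ^ (m - 1) ≤ m) :
    m ≤ 2 ∧ (2 < p → m ≤ 1) := by
  constructor
  · by_contra hlt
    push Not at hlt
    have h1 : 2 ^ (m - 1) ≤ p ^ (m - 1) := Nat.pow_le_pow_left hp.two_le _
    have h2 : m < 2 ^ (m - 1) := by
      obtain ⟨k, rfl⟩ : ∃ k, m = k + 3 := ⟨m - 3, by omega⟩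
      have : k + 3 - 1 = k + 2 := by omega
      rw [this]
      have := Nat.lt_two_pow_self (n := k)
      rw [pow_succ, pow_succ]
      omega
    omega
  · intro hp2
    by_contra hlt
    push Not at hlt
    have h1 : 3 ^ (m - 1) ≤ p ^ (m - 1) := Nat.pow_le_pow_left (by omega) _
    have h2 : m < 3 ^ (m - 1) := by
      obtain ⟨k, rfl⟩ : ∃ k, m = k + 2 := ⟨m - 2, by omega⟩
      have : k + 2 - 1 = k + 1 := by omega
      rw [this]
      have h3 : k < 2 ^ k := Nat.lt_two_pow_self
      have h4 : 2 ^ k ≤ 3 ^ k := Nat.pow_le_pow_left (by omega) _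
      rw [pow_succ]
      omega
    omega

/-- Let a finite group G act faithfully on a set Ω with p ^ m points (p prime) and have an elementary abelian normal p-subgroup N acting regularly on Ω (so G is a group of affine transformations of an m-dimensional space over the field with p elements). If G contains an element of order p ^ r with r ≥ 1, then p ^ (r − 1) ≤ m. In particular an element of order p ^ m forces m ≤ 2, and m ≤ 1 when p is odd. -/
theorem result {G : Type*} [Group G] [Finite G] {Ω : Type*} [Fintype Ω] [MulAction G Ω] [FaithfulSMul G Ω] (p m : ℕ) (hp : p.Prime) (hcard : Fintype.card Ω = p ^ m)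
    (N : Subgroup G) [N.Normal] (hNc : IsMulCommutative N) (hNp : ∀ n ∈ N, n ^ p = 1)
    (hNtr : MulAction.IsPretransitive N Ω) (hNreg : ∀ ω : Ω, MulAction.stabilizer N ω = ⊥)
    (g : G) (r : ℕ) (hr : 1 ≤ r) (hg : orderOf g = p ^ r) :
    p ^ (r - 1) ≤ m ∧ (r = m → m ≤ 2 ∧ (2 < p → m ≤ 1)) := by
  have main : p ^ (r - 1) ≤ m := by
    by_contra hlt
    push Not at hlt
    have : Fact p.Prime := ⟨hp⟩
    have hne : Nonempty Ω := by
      rw [← Fintype.card_pos_iff, hcard]
      exact Nat.pow_pos hp.pos
    obtain ⟨ω₀⟩ := hne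
    -- N ≃ Ω
    have hbij : Function.Bijective (fun n : N => n • ω₀) := by
      constructor
      · intro a b hab
        have h1 : (b⁻¹ * a) ∈ MulAction.stabilizer N ω₀ := by
          rw [MulAction.mem_stabilizer_iff, mul_smul]
          show b⁻¹ • (a • ω₀) = ω₀
          have : a • ω₀ = b • ω₀ := hab
          rw [this, inv_smul_smul]
        rw [hNreg ω₀, Subgroup.mem_bot] at h1
        have := congrArg (fun t => b * t) h1
        simpa using this
      · intro ω
        exact MulAction.exists_smul_eq N ω₀ ω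
    have hcardN : Nat.card N = p ^ m := by
      rw [Nat.card_congr (Equiv.ofBijective _ hbij), Nat.card_eq_fintype_card, hcard]
    have hNp' : ∀ a : N, a ^ p = 1 := fun a => Subtype.ext (by
      rw [Subgroup.coe_pow]; exact hNp a a.2)
    set c : MulAut N := MulAut.conjNormal g with hc
    have hcpow : c ^ (p ^ r) = 1 := by
      rw [hc, ← map_pow, ← hg, pow_orderOf_eq_one, map_one]
    obtain ⟨b, hb⟩ : ∃ b : N, b • ω₀ = g • ω₀ := MulAction.exists_smul_eq N ω₀ (g • ω₀)
    have hstep : ∀ n : N, g • (n • ω₀) = (c n * b) • ω₀ := by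
      intro n
      rw [mul_smul, hb]
      show g • ((n : G) • ω₀) = ((c n : N) : G) • (g • ω₀)
      rw [hc, MulAut.conjNormal_apply, ← mul_smul, ← mul_smul]
      congr 1
      group
    have hiter : ∀ (j : ℕ) (n : N), g ^ j • (n • ω₀) = ((fun x => c x * b)^[j] n) • ω₀ := by
      intro j
      induction j with
      | zero => intro n; simp
      | succ j ih =>
        intro n
        rw [pow_succ', mul_smul, ih, hstep, Function.iterate_succ_apply']
    have hfix : ∀ ω : Ω, g ^ (p ^ (r - 1)) • ω = ω := by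
      intro ω
      obtain ⟨n, rfl⟩ := hbij.2 ω
      show g ^ (p ^ (r - 1)) • (n • ω₀) = n • ω₀
      rw [hiter, mul_affine_iterate p m hNp' hcardN c r hcpow b (r - 1) hlt n]
    have hone : g ^ (p ^ (r - 1)) = 1 := by
      apply FaithfulSMul.eq_of_smul_eq_smul (α := Ω)
      intro ω
      rw [hfix, one_smul]
    have hdvd := orderOf_dvd_of_pow_eq_one hone
    rw [hg] at hdvd
    have hle := Nat.le_of_dvd (Nat.pow_pos hp.pos) hdvd
    have : p ^ (r - 1) < p ^ r := Nat.pow_lt_pow_right hp.one_lt (by omega)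
    omega
  refine ⟨main, ?_⟩
  intro hrm
  subst hrm
  exact arith p r hp hr main

end Cfsg.Agent.S3508
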