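import Cfsg.Statements.S3511

set_option autoImplicit false
open Cfsg

namespace Cfsg.Agent.S3511

theorem key {G : Type*} [Group G] [Finite G] {Ω : Type*} [MulAction G Ω]
    (h : ∀ g : G, Squarefree (orderOf g) → ∃ ω : Ω, ∀ z ∈ Subgroup.zpowers g, z • ω = ω → z = 1) :
    ∀ (n : ℕ) (g : G), orderOf g = n → ∃ ω : Ω, ∀ z ∈ Subgroup.zpowers g, z • ω = ω → z = 1 := by
  intro n
  induction n using Nat.strong_induction_on with
  | _ n ih =>
    intro g hgn
    by_cases hsq : Squarefree (orderOf g)
    · exact h g hsq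
    rw [Nat.squarefree_iff_prime_squarefree] at hsq
    push Not at hsq
    obtain ⟨p, hp, hpp⟩ := hsq
    have hn0 : orderOf g ≠ 0 := (orderOf_pos g).ne'
    have hpn : p ∣ orderOf g := Dvd.dvd.trans (dvd_mul_right p p) hpp
    have hord : orderOf (g ^ p) = orderOf g / p := orderOf_pow_of_dvd hp.ne_zero hpn
    have hlt : orderOf (g ^ p) < n := by
      rw [hord, ← hgn]
      exact Nat.div_lt_self (orderOf_pos g) hp.one_lt
    obtain ⟨ω, hω⟩ := ih _ hlt (g ^ p) rfl
    refine ⟨ω, ?_⟩
    intro z hz hzω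
    by_contra hz1
    have hoz : orderOf z ≠ 1 := by
      rwa [Ne, orderOf_eq_one_iff]
    obtain ⟨q, hq, hqz⟩ := Nat.exists_prime_and_dvd hoz
    set w := z ^ (orderOf z / q) with hw
    have hwo : orderOf w = q := orderOf_pow_orderOf_div (orderOf_pos z).ne' hqz
    have hwmem : w ∈ Subgroup.zpowers g := Subgroup.pow_mem _ hz _
    have hwω : w • ω = ω := by
      rw [hw]
      exact MulAction.mem_stabilizer_iff.mp
        (Subgroup.pow_mem _ (MulAction.mem_stabilizer_iff.mpr hzω) _)
    obtain ⟨i, hi⟩ := Subgroup.mem_zpowers_iff.mp hwmem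
    have hwq : w ^ q = 1 := by rw [← hwo]; exact pow_orderOf_eq_one w
    have h1 : g ^ (i * q) = 1 := by
      rw [zpow_mul, hi, zpow_natCast, hwq]
    rw [← orderOf_dvd_iff_zpow_eq_one] at h1
    have hpi : (p : ℤ) ∣ i := by
      have hpZ : Prime (p : ℤ) := Nat.prime_iff_prime_int.mp hp
      by_cases hqp : q = p
      · subst hqp
        have h2 : ((q * q : ℕ) : ℤ) ∣ i * q := Dvd.dvd.trans (Int.natCast_dvd_natCast.mpr hpp) h1
        push_cast at h2
        exact (mul_dvd_mul_iff_right (by exact_mod_cast hp.ne_zero)).mp h2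
      · have h2 : (p : ℤ) ∣ i * q := Dvd.dvd.trans (Int.natCast_dvd_natCast.mpr hpn) h1
        rcases hpZ.dvd_or_dvd h2 with h3 | h3
        · exact h3
        · exfalso
          have := Int.natCast_dvd_natCast.mp h3
          exact hqp ((Nat.prime_dvd_prime_iff_eq hp hq).mp this).symm
    obtain ⟨i', rfl⟩ := hpi
    have hwmem' : w ∈ Subgroup.zpowers (g ^ p) := by
      rw [Subgroup.mem_zpowers_iff]
      refine ⟨i', ?_⟩
      rw [← hi, zpow_mul, zpow_natCast]
    have := hω w hwmem' hwω
    rw [this, orderOf_one] at hwo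
    exact hq.ne_one hwo.symm

/-- Let a finite group G act faithfully on a set Ω. If every element of G of square-free order has a regular cycle (an orbit of the cyclic group it generates with trivial stabilizer), then every element of G has a regular cycle. -/
theorem result {G : Type*} [Group G] [Finite G] {Ω : Type*} [MulAction G Ω] [FaithfulSMul G Ω]
    (h : ∀ g : G, Squarefree (orderOf g) → ∃ ω : Ω, MulAction.stabilizer (Subgroup.zpowers g) ω = ⊥) (g : G) :
    ∃ ω : Ω, MulAction.stabilizer (Subgroup.zpowers g) ω = ⊥ := by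
  have h' : ∀ g : G, Squarefree (orderOf g) →
      ∃ ω : Ω, ∀ z ∈ Subgroup.zpowers g, z • ω = ω → z = 1 := by
    intro g hg
    obtain ⟨ω, hω⟩ := h g hg
    refine ⟨ω, fun z hz hzω => ?_⟩
    have : (⟨z, hz⟩ : Subgroup.zpowers g) ∈ MulAction.stabilizer (Subgroup.zpowers g) ω := by
      rw [MulAction.mem_stabilizer_iff]
      exact hzω
    rw [hω, Subgroup.mem_bot] at this
    exact congrArg Subtype.val this
  obtain ⟨ω, hω⟩ := key h' _ g rfl
  refine ⟨ω, ?_⟩
  rw [eq_bot_iff]
  intro z hz
  rw [Subgroup.mem_bot]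
  rw [MulAction.mem_stabilizer_iff] at hz
  exact Subtype.ext (hω z z.2 hz)

end Cfsg.Agent.S3511
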