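import Cfsg.Statements.S3514
import Cfsg.Agent.Lib.Helper64.OrbitArith

set_option autoImplicit false
open Cfsg

namespace Cfsg.Agent.S3514

open MulAction Cfsg.Agent.Lib.Helper64

variable {p : ℕ} {V : Type*} [AddCommGroup V] [Module (ZMod p) V]

theorem set_eq_orbit (H : Subgroup (V ≃ₗ[ZMod p] V)) (v : V) :
    {u : V | ∃ h ∈ H, h v = u} = orbit H v := by
  ext u
  constructor
  · rintro ⟨h, hh, rfl⟩
    exact ⟨⟨h, hh⟩, rfl⟩
  · rintro ⟨h, rfl⟩
    exact ⟨h.1, h.2, rfl⟩

theorem set_eq_orbit' (K H : Subgroup (V ≃ₗ[ZMod p] V)) (hKH : K ≤ H) (v : V) :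
    {u : V | ∃ k ∈ K, k v = u} = orbit (K.subgroupOf H) v := by
  ext u
  constructor
  · rintro ⟨k, hk, rfl⟩
    exact ⟨⟨⟨k, hKH hk⟩, Subgroup.mem_subgroupOf.mpr hk⟩, rfl⟩
  · rintro ⟨k, rfl⟩
    exact ⟨k.1.1, Subgroup.mem_subgroupOf.mp k.2, rfl⟩

/-- Let p be a prime, V a finite vector space over the field with p elements, and H a group of linear transformations of V all of whose orbits on V have size coprime to p. (i) Every normal subgroup K of H has all its orbits on V of size coprime to p. (ii) If N is a group of linear transformations of V of order coprime to p that is normalized by H, then the group generated by N and H has all its orbits on V of size coprime to p. -/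
theorem result (p : ℕ) [Fact p.Prime] {V : Type*} [AddCommGroup V] [Module (ZMod p) V] [Finite V]
    (H : Subgroup (V ≃ₗ[ZMod p] V)) (hH : ∀ v : V, ¬ p ∣ Nat.card {u : V | ∃ h ∈ H, h v = u}) :
    (∀ K : Subgroup (V ≃ₗ[ZMod p] V), K ≤ H → H ≤ Subgroup.normalizer (K : Set (V ≃ₗ[ZMod p] V)) →
        ∀ v : V, ¬ p ∣ Nat.card {u : V | ∃ k ∈ K, k v = u}) ∧
    (∀ N : Subgroup (V ≃ₗ[ZMod p] V), ¬ p ∣ Nat.card N → H ≤ Subgroup.normalizer (N : Set (V ≃ₗ[ZMod p] V)) →
        ∀ v : V, ¬ p ∣ Nat.card {u : V | ∃ x ∈ N ⊔ H, x v = u}) := by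
  have hp : p.Prime := Fact.out
  have : Finite (V ≃ₗ[ZMod p] V) := Finite.of_injective (fun f => (f : V → V))
    (fun f g h => LinearEquiv.ext (congrFun h))
  constructor
  · intro K hKH hnorm v hdvd
    apply hH v
    have : (K.subgroupOf H).Normal := (Subgroup.normal_subgroupOf_iff_le_normalizer hKH).mpr hnorm
    have h1 := card_orbit_normal_dvd (H := H) (K.subgroupOf H) v
    rw [set_eq_orbit' K H hKH v] at hdvd
    rw [set_eq_orbit H v]
    exact Dvd.dvd.trans hdvd h1
  · intro N hpN hnorm v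
    set L := N ⊔ H with hL
    have hNL : N ≤ L := le_sup_left
    have hHL : H ≤ L := le_sup_right
    have hLnorm : L ≤ Subgroup.normalizer (N : Set (V ≃ₗ[ZMod p] V)) :=
      sup_le Subgroup.le_normalizer hnorm
    have : (N.subgroupOf L).Normal := (Subgroup.normal_subgroupOf_iff_le_normalizer hNL).mpr hLnorm
    have hsup : N.subgroupOf L ⊔ H.subgroupOf L = ⊤ := by
      rw [← Subgroup.subgroupOf_sup hNL hHL, ← hL, Subgroup.subgroupOf_self]
    have hcardN : Nat.card (N.subgroupOf L) = Nat.card N :=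
      Nat.card_congr (Subgroup.subgroupOfEquivOfLe hNL).toEquiv
    have h1 := not_dvd_card_orbit_sup (L := L) (N.subgroupOf L) (H.subgroupOf L) hsup p hp
      (by rw [hcardN]; exact hpN) v (by
        rw [← set_eq_orbit' H L hHL v]; exact hH v)
    rw [set_eq_orbit L v]
    exact h1

end Cfsg.Agent.S3514
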